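import Mathlib
import Cfsg.Prelude.Def_Characters

/-!
# Bridge between `Cfsg.IsCharacter` / `Cfsg.IsIrrCharacter` and arbitrary
finite-dimensional complex representations (helper3).
-/

set_option autoImplicit false

namespace Cfsg.Agent.Lib.Helper3_CharBridge

open Representation

section transport

variable {k G V W : Type*} [CommSemiring k] [Monoid G] [AddCommMonoid V] [Module k V]
  [AddCommMonoid W] [Module k W]

/-- Transport of a representation along a linear equivalence. -/
def transport (ρ : Representation k G V) (e : V ≃ₗ[k] W) : Representation k G W where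
  toFun g := e.conj (ρ g)
  map_one' := by
    ext w
    simp [LinearEquiv.conj_apply]
  map_mul' a b := by
    ext w
    simp [LinearEquiv.conj_apply]

theorem transport_apply (ρ : Representation k G V) (e : V ≃ₗ[k] W) (g : G) (w : W) :
    transport ρ e g w = e (ρ g (e.symm w)) := by
  simp [transport, LinearEquiv.conj_apply]

/-- A representation is equivalent to its transport. -/
def transportEquiv (ρ : Representation k G V) (e : V ≃ₗ[k] W) : ρ.Equiv (transport ρ e) :=
  Representation.Equiv.mk e (fun g => by
    ext v
    simp [transport_apply])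

end transport

section irreducible

variable {k G V W : Type*} [Field k] [Monoid G] [AddCommGroup V] [Module k V]
  [AddCommGroup W] [Module k W]

/-- Irreducibility is invariant under equivalence of representations. -/
theorem isIrreducible_of_equiv {ρ : Representation k G V} {σ : Representation k G W}
    (φ : ρ.Equiv σ) [hρ : ρ.IsIrreducible] : σ.IsIrreducible := by
  rw [irreducible_iff_isSimpleModule_asModule] at hρ ⊢
  let f : σ.asModule →ₗ[MonoidAlgebra k G] ρ.asModule :=
    IntertwiningMap.equivLinearMapAsModule σ ρ φ.symm.toIntertwiningMap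
  have hf : Function.Bijective f := φ.symm.toLinearEquiv.bijective
  exact IsSimpleModule.congr (LinearEquiv.ofBijective f hf)

end irreducible

section bridge

variable {G : Type*} [Group G] {V : Type*} [AddCommGroup V] [Module ℂ V] [FiniteDimensional ℂ V]

/-- Every finite-dimensional complex representation is equivalent to one on `Fin n → ℂ`. -/
theorem exists_equiv_fin (ρ : Representation ℂ G V) :
    ∃ (σ : Representation ℂ G (Fin (Module.finrank ℂ V) → ℂ)), Nonempty (ρ.Equiv σ) := by
  let b := Module.finBasis ℂ V
  exact ⟨transport ρ b.equivFun, ⟨transportEquiv ρ b.equivFun⟩⟩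

/-- The character of any finite-dimensional complex representation is a `Cfsg.IsCharacter`. -/
theorem isCharacter_of_rep (ρ : Representation ℂ G V) : Cfsg.IsCharacter G ρ.character := by
  obtain ⟨σ, ⟨φ⟩⟩ := exists_equiv_fin ρ
  exact ⟨_, σ, (char_iso φ).symm⟩

/-- The character of any finite-dimensional irreducible complex representation is a
`Cfsg.IsIrrCharacter`. -/
theorem isIrrCharacter_of_rep (ρ : Representation ℂ G V) [ρ.IsIrreducible] :
    Cfsg.IsIrrCharacter G ρ.character := by
  obtain ⟨σ, ⟨φ⟩⟩ := exists_equiv_fin ρ
  exact ⟨_, σ, isIrreducible_of_equiv φ, (char_iso φ).symm⟩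

theorem isCharacter_of_isIrrCharacter {χ : G → ℂ} (h : Cfsg.IsIrrCharacter G χ) :
    Cfsg.IsCharacter G χ := by
  obtain ⟨n, ρ, _, h⟩ := h
  exact ⟨n, ρ, h⟩

theorem isClassFunction_of_isCharacter {χ : G → ℂ} (h : Cfsg.IsCharacter G χ) :
    Cfsg.IsClassFunction G χ := by
  obtain ⟨n, ρ, rfl⟩ := h
  intro g h
  exact char_conj ρ g h

theorem isClassFunction_of_isIrrCharacter {χ : G → ℂ} (h : Cfsg.IsIrrCharacter G χ) :
    Cfsg.IsClassFunction G χ :=
  isClassFunction_of_isCharacter (isCharacter_of_isIrrCharacter h)

end bridge

end Cfsg.Agent.Lib.Helper3_CharBridge
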