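import Mathlib
import Cfsg.Prelude.Def_Characters

/-!
# Eigenvalue analysis of `ρ g` for a complex representation of a finite group (helper3).
-/

set_option autoImplicit false
set_option linter.unusedSectionVars false

namespace Cfsg.Agent.Lib.Helper3_CharEigen

open Module LinearMap

section semisimple

variable {V : Type*} [AddCommGroup V] [Module ℂ V] [FiniteDimensional ℂ V]

theorem eigFinite (f : Module.End ℂ V) : {μ : ℂ | f.eigenspace μ ≠ ⊥}.Finite :=
  WellFoundedGT.finite_ne_bot_of_iSupIndep f.eigenspaces_iSupIndep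

/-- The finite set of eigenvalues of an endomorphism. -/
noncomputable def eigSet (f : Module.End ℂ V) : Finset ℂ := (eigFinite f).toFinset

theorem mem_eigSet {f : Module.End ℂ V} {μ : ℂ} : μ ∈ eigSet f ↔ f.HasEigenvalue μ := by
  simp [eigSet, Module.End.hasEigenvalue_iff]

theorem isInternal_eigenspace {f : Module.End ℂ V} (hf : f.IsSemisimple) :
    DirectSum.IsInternal f.eigenspace :=
  DirectSum.isInternal_submodule_of_iSupIndep_of_iSup_eq_top f.eigenspaces_iSupIndep
    hf.iSup_eigenspace_eq_top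

/-- Key formula: if `g` acts on each eigenspace of the semisimple endomorphism `f` by the
scalar `c μ`, then the trace of `g` is `∑ μ, dim (eigenspace f μ) * c μ`. -/
theorem trace_eq_sum_of_scalar_on_eigenspaces {f : Module.End ℂ V} (hf : f.IsSemisimple)
    (g : Module.End ℂ V) (c : ℂ → ℂ)
    (hg : ∀ μ, ∀ v ∈ f.eigenspace μ, g v = c μ • v) :
    LinearMap.trace ℂ V g = ∑ μ ∈ eigSet f, (Module.finrank ℂ (f.eigenspace μ) : ℂ) * c μ := by
  have hmaps : ∀ μ, Set.MapsTo g (f.eigenspace μ) (f.eigenspace μ) := by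
    intro μ v hv
    rw [hg μ v hv]
    exact Submodule.smul_mem _ _ hv
  rw [LinearMap.trace_eq_sum_trace_restrict' (isInternal_eigenspace hf) (eigFinite f) hmaps]
  refine Finset.sum_congr rfl (fun μ _ => ?_)
  have : g.restrict (hmaps μ) = c μ • (LinearMap.id : f.eigenspace μ →ₗ[ℂ] f.eigenspace μ) := by
    ext v
    exact hg μ v v.2
  rw [this, map_smul, LinearMap.trace_id, smul_eq_mul, mul_comm]

theorem finrank_eq_sum_eigenspaces {f : Module.End ℂ V} (hf : f.IsSemisimple) :
    Module.finrank ℂ V = ∑ μ ∈ eigSet f, Module.finrank ℂ (f.eigenspace μ) := by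
  have h := trace_eq_sum_of_scalar_on_eigenspaces hf LinearMap.id (fun _ => 1)
    (fun μ v _ => by simp)
  rw [LinearMap.trace_id] at h
  have : ((Module.finrank ℂ V : ℕ) : ℂ) =
      ((∑ μ ∈ eigSet f, Module.finrank ℂ (f.eigenspace μ) : ℕ) : ℂ) := by
    rw [h]; simp
  exact_mod_cast this

theorem finrank_eigenspace_pos {f : Module.End ℂ V} {μ : ℂ} (h : μ ∈ eigSet f) :
    0 < Module.finrank ℂ (f.eigenspace μ) := by
  rw [mem_eigSet, Module.End.hasEigenvalue_iff] at h
  exact Module.finrank_pos_iff.mpr (Submodule.nontrivial_iff_ne_bot.mpr h)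

/-- An endomorphism of finite order is semisimple. -/
theorem isSemisimple_of_pow_eq_one {f : Module.End ℂ V} {n : ℕ} (hn : 0 < n) (h : f ^ n = 1) :
    f.IsSemisimple := by
  have hsq : Squarefree (Polynomial.X ^ n - Polynomial.C (1 : ℂ)) :=
    (Polynomial.separable_X_pow_sub_C (1 : ℂ) (by exact_mod_cast hn.ne') one_ne_zero).squarefree
  refine Module.End.isSemisimple_of_squarefree_aeval_eq_zero hsq ?_
  simp [h]

theorem eigenvalue_pow_eq_one {f : Module.End ℂ V} {n : ℕ} (h : f ^ n = 1) {μ : ℂ}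
    (hμ : f.HasEigenvalue μ) : μ ^ n = 1 := by
  obtain ⟨v, hv⟩ := hμ.exists_hasEigenvector
  have h1 : (f ^ n) v = μ ^ n • v := by
    have := hv.apply_eq_smul
    clear h
    induction n with
    | zero => simp
    | succ k ih => rw [pow_succ, Module.End.mul_apply, this, map_smul, ih, smul_smul, pow_succ, mul_comm]
  rw [h, Module.End.one_apply] at h1
  have h2 : (μ ^ n - 1) • v = 0 := by rw [sub_smul, ← h1, one_smul, sub_self]
  rcases smul_eq_zero.mp h2 with h3 | h3
  · exact sub_eq_zero.mp h3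
  · exact absurd h3 hv.2

end semisimple

section rep

open scoped ComplexConjugate

variable {G : Type*} [Group G] [Finite G] {V : Type*} [AddCommGroup V] [Module ℂ V]
  [FiniteDimensional ℂ V] (ρ : Representation ℂ G V)

theorem rho_pow_orderOf (g : G) : (ρ g) ^ (orderOf g) = 1 := by
  rw [← map_pow, pow_orderOf_eq_one, map_one]

theorem rho_isSemisimple (g : G) : Module.End.IsSemisimple (ρ g) :=
  isSemisimple_of_pow_eq_one (orderOf_pos g) (rho_pow_orderOf ρ g)

theorem eig_pow_orderOf {g : G} {μ : ℂ} (hμ : μ ∈ eigSet (ρ g)) : μ ^ (orderOf g) = 1 :=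
  eigenvalue_pow_eq_one (rho_pow_orderOf ρ g) (mem_eigSet.mp hμ)

theorem eig_norm {g : G} {μ : ℂ} (hμ : μ ∈ eigSet (ρ g)) : ‖μ‖ = 1 :=
  Complex.norm_eq_one_of_pow_eq_one (eig_pow_orderOf ρ hμ) (orderOf_pos g).ne'

theorem eig_ne_zero {g : G} {μ : ℂ} (hμ : μ ∈ eigSet (ρ g)) : μ ≠ 0 := by
  intro h
  have := eig_norm ρ hμ
  simp [h] at this

theorem eig_inv_eq_conj {g : G} {μ : ℂ} (hμ : μ ∈ eigSet (ρ g)) : μ⁻¹ = conj μ :=
  Complex.inv_eq_conj (eig_norm ρ hμ)

/-- `ρ (g ^ k)` acts on the `μ`-eigenspace of `ρ g` as `μ ^ k`. -/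
theorem rho_pow_apply_of_mem_eigenspace (g : G) (k : ℕ) (μ : ℂ) (v : V)
    (hv : v ∈ Module.End.eigenspace (ρ g) μ) : ρ (g ^ k) v = μ ^ k • v := by
  rw [Module.End.mem_eigenspace_iff] at hv
  induction k with
  | zero => simp
  | succ k ih => rw [pow_succ, map_mul, Module.End.mul_apply, hv, map_smul, ih, smul_smul,
      pow_succ, mul_comm]

/-- `ρ g⁻¹` acts on the `μ`-eigenspace of `ρ g` as `μ⁻¹` (for `μ` an eigenvalue). -/
theorem rho_inv_apply_of_mem_eigenspace (g : G) (μ : ℂ) (v : V)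
    (hv : v ∈ Module.End.eigenspace (ρ g) μ) : ρ g⁻¹ v = μ⁻¹ • v := by
  by_cases hv0 : v = 0
  · simp [hv0]
  have hμ : μ ∈ eigSet (ρ g) := by
    rw [mem_eigSet, Module.End.hasEigenvalue_iff]
    intro h
    rw [h] at hv
    exact hv0 (by simpa using hv)
  rw [Module.End.mem_eigenspace_iff] at hv
  have h1 : ρ g⁻¹ (ρ g v) = v := Representation.inv_self_apply ρ g v
  rw [hv, map_smul] at h1
  calc ρ g⁻¹ v = μ⁻¹ • (μ • ρ g⁻¹ v) := by
        rw [smul_smul, inv_mul_cancel₀ (eig_ne_zero ρ hμ), one_smul]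
    _ = μ⁻¹ • v := by rw [h1]

/-- The character value as a sum over eigenvalues. -/
theorem char_eq_sum (g : G) : ρ.character g =
    ∑ μ ∈ eigSet (ρ g), (Module.finrank ℂ (Module.End.eigenspace (ρ g) μ) : ℂ) * μ := by
  have := trace_eq_sum_of_scalar_on_eigenspaces (rho_isSemisimple ρ g) (ρ g) (fun μ => μ)
    (fun μ v hv => Module.End.mem_eigenspace_iff.mp hv)
  exact this

/-- The character value at a power as a sum over eigenvalues. -/
theorem char_pow_eq_sum (g : G) (k : ℕ) : ρ.character (g ^ k) =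
    ∑ μ ∈ eigSet (ρ g), (Module.finrank ℂ (Module.End.eigenspace (ρ g) μ) : ℂ) * μ ^ k :=
  trace_eq_sum_of_scalar_on_eigenspaces (rho_isSemisimple ρ g) (ρ (g ^ k)) (fun μ => μ ^ k)
    (fun μ v hv => rho_pow_apply_of_mem_eigenspace ρ g k μ v hv)

/-- The character value at the inverse as a sum over eigenvalues. -/
theorem char_inv_eq_sum (g : G) : ρ.character g⁻¹ =
    ∑ μ ∈ eigSet (ρ g), (Module.finrank ℂ (Module.End.eigenspace (ρ g) μ) : ℂ) * μ⁻¹ :=
  trace_eq_sum_of_scalar_on_eigenspaces (rho_isSemisimple ρ g) (ρ g⁻¹) (fun μ => μ⁻¹)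
    (fun μ v hv => rho_inv_apply_of_mem_eigenspace ρ g μ v hv)

/-- `χ(g⁻¹) = conj χ(g)`. -/
theorem char_inv (g : G) : ρ.character g⁻¹ = conj (ρ.character g) := by
  rw [char_inv_eq_sum, char_eq_sum, map_sum]
  refine Finset.sum_congr rfl (fun μ hμ => ?_)
  rw [map_mul, Complex.conj_natCast, eig_inv_eq_conj ρ hμ]

theorem finrank_eq_sum (g : G) : Module.finrank ℂ V =
    ∑ μ ∈ eigSet (ρ g), Module.finrank ℂ (Module.End.eigenspace (ρ g) μ) :=
  finrank_eq_sum_eigenspaces (rho_isSemisimple ρ g)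

/-- `‖χ(g)‖ ≤ χ(1)`. -/
theorem norm_char_le (g : G) : ‖ρ.character g‖ ≤ (Module.finrank ℂ V : ℝ) := by
  rw [char_eq_sum, finrank_eq_sum ρ g, Nat.cast_sum]
  refine (norm_sum_le _ _).trans (Finset.sum_le_sum (fun μ hμ => ?_))
  rw [norm_mul, eig_norm ρ hμ, mul_one, Complex.norm_natCast]

/-- Character values are algebraic integers. -/
theorem isIntegral_char (g : G) : IsIntegral ℤ (ρ.character g) := by
  rw [char_eq_sum]
  refine IsIntegral.sum _ (fun μ hμ => ?_)
  refine IsIntegral.mul (isIntegral_algebraMap (R := ℤ) (x := ((Module.finrank ℂ (Module.End.eigenspace (ρ g) μ) : ℕ) : ℤ)) |> (by simpa using ·)) ?_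
  exact ⟨Polynomial.X ^ (orderOf g) - 1, Polynomial.monic_X_pow_sub_C (1 : ℤ) (orderOf_pos g).ne',
    by simp [eig_pow_orderOf ρ hμ]⟩

/-- If `‖χ(g)‖ = χ(1)` then every eigenvalue `μ` of `ρ g` satisfies `μ * conj χ(g) = χ(1)`. -/
theorem eig_mul_conj_char_of_norm_eq (g : G)
    (h : ‖ρ.character g‖ = (Module.finrank ℂ V : ℝ)) {μ : ℂ} (hμ : μ ∈ eigSet (ρ g)) :
    μ * conj (ρ.character g) = (Module.finrank ℂ V : ℂ) := by
  set z := ρ.character g with hz
  set N : ℝ := (Module.finrank ℂ V : ℝ) with hN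
  set n : ℂ → ℕ := fun μ => Module.finrank ℂ (Module.End.eigenspace (ρ g) μ) with hn
  have hzsum : z = ∑ μ ∈ eigSet (ρ g), (n μ : ℂ) * μ := char_eq_sum ρ g
  have hNsum : N = ∑ μ ∈ eigSet (ρ g), (n μ : ℝ) := by
    rw [hN, finrank_eq_sum ρ g, Nat.cast_sum]
  -- each real part is bounded by N
  have hle : ∀ ν ∈ eigSet (ρ g), (ν * conj z).re ≤ N := by
    intro ν hν
    calc (ν * conj z).re ≤ ‖ν * conj z‖ := Complex.re_le_norm _
      _ = N := by rw [norm_mul, eig_norm ρ hν, one_mul, Complex.norm_conj, h]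
  -- the weighted sum of the real parts is N^2
  have hsum : ∑ ν ∈ eigSet (ρ g), (n ν : ℝ) * (ν * conj z).re = N * N := by
    have h1 : (z * conj z).re = N * N := by
      rw [Complex.mul_conj, Complex.ofReal_re, Complex.normSq_eq_norm_sq, h]
      ring
    have h2 : z * conj z = ∑ ν ∈ eigSet (ρ g), ((n ν : ℂ) * ν) * conj z := by
      rw [← Finset.sum_mul, ← hzsum]
    rw [← h1, h2, Complex.re_sum]
    refine Finset.sum_congr rfl (fun ν _ => ?_)
    rw [mul_assoc, ← Complex.ofReal_natCast, Complex.re_ofReal_mul]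
  have hsum2 : ∑ ν ∈ eigSet (ρ g), (n ν : ℝ) * (N - (ν * conj z).re) = 0 := by
    simp_rw [mul_sub]
    rw [Finset.sum_sub_distrib, hsum, ← Finset.sum_mul, ← hNsum]
    ring
  have hterm := (Finset.sum_eq_zero_iff_of_nonneg (fun ν hν =>
    mul_nonneg (Nat.cast_nonneg _) (sub_nonneg.mpr (hle ν hν)))).mp hsum2 μ hμ
  have hnpos : (0 : ℝ) < n μ := by exact_mod_cast finrank_eigenspace_pos hμ
  have hre : (μ * conj z).re = N := by
    rcases mul_eq_zero.mp hterm with h0 | h0
    · exact absurd h0 hnpos.ne'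
    · linarith
  have hnorm : ‖μ * conj z‖ = N := by
    rw [norm_mul, eig_norm ρ hμ, one_mul, Complex.norm_conj, h]
  have him : (μ * conj z).im = 0 := by
    have h1 := Complex.sq_norm (μ * conj z)
    rw [Complex.normSq_apply, hnorm, hre] at h1
    nlinarith
  apply Complex.ext
  · simpa using hre
  · simpa using him

/-- If `‖χ(g)‖ = χ(1)` then `ρ g` is a scalar. -/
theorem rho_eq_smul_id_of_norm_char_eq (g : G)
    (h : ‖ρ.character g‖ = (Module.finrank ℂ V : ℝ)) :
    ∃ ω : ℂ, ρ g = ω • (LinearMap.id : V →ₗ[ℂ] V) := by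
  by_cases hV : Module.finrank ℂ V = 0
  · refine ⟨1, ?_⟩
    have : Subsingleton V := Module.finrank_zero_iff.mp hV
    ext v
    exact Subsingleton.elim _ _
  have hz : conj (ρ.character g) ≠ 0 := by
    intro h0
    rw [map_eq_zero] at h0
    rw [h0, norm_zero] at h
    exact hV (by exact_mod_cast h.symm)
  set ω : ℂ := (Module.finrank ℂ V : ℂ) / conj (ρ.character g) with hω
  have hall : ∀ μ ∈ eigSet (ρ g), μ = ω := by
    intro μ hμ
    rw [hω, eq_div_iff hz]
    exact eig_mul_conj_char_of_norm_eq ρ g h hμ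
  refine ⟨ω, ?_⟩
  have htop : Module.End.eigenspace (ρ g) ω = ⊤ := by
    apply Submodule.eq_top_of_finrank_eq
    rw [finrank_eq_sum ρ g]
    have hsub : eigSet (ρ g) ⊆ {ω} := by
      intro μ hμ
      rw [Finset.mem_singleton]
      exact hall μ hμ
    rcases Finset.subset_singleton_iff.mp hsub with h1 | h1
    · exfalso
      apply hV
      rw [finrank_eq_sum ρ g, h1, Finset.sum_empty]
    · rw [h1, Finset.sum_singleton]
  ext v
  have hv : v ∈ Module.End.eigenspace (ρ g) ω := by rw [htop]; trivial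
  rw [Module.End.mem_eigenspace_iff] at hv
  simpa using hv

/-- `‖χ(g)‖ = χ(1)` iff `ρ g` is a scalar. -/
theorem norm_char_eq_iff (g : G) :
    ‖ρ.character g‖ = (Module.finrank ℂ V : ℝ) ↔
      ∃ ω : ℂ, ρ g = ω • (LinearMap.id : V →ₗ[ℂ] V) := by
  refine ⟨rho_eq_smul_id_of_norm_char_eq ρ g, ?_⟩
  rintro ⟨ω, hω⟩
  by_cases hV : Module.finrank ℂ V = 0
  · have := norm_char_le ρ g
    rw [hV] at this ⊢
    exact le_antisymm this (by simp)
  have hpow : ω ^ orderOf g = 1 := by
    have h1 := rho_pow_orderOf ρ g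
    rw [hω, smul_pow] at h1
    have hnt : Nontrivial V := Module.nontrivial_of_finrank_pos (R := ℂ) (Nat.pos_of_ne_zero hV)
    obtain ⟨v, hv⟩ := exists_ne (0 : V)
    have h2 := LinearMap.congr_fun h1 v
    simp only [LinearMap.smul_apply, Module.End.one_apply] at h2
    have h3 : (LinearMap.id : V →ₗ[ℂ] V) ^ orderOf g = 1 := one_pow _
    rw [h3, Module.End.one_apply] at h2
    have h4 : (ω ^ orderOf g - 1) • v = 0 := by rw [sub_smul, h2, one_smul, sub_self]
    rcases smul_eq_zero.mp h4 with h5 | h5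
    · exact sub_eq_zero.mp h5
    · exact absurd h5 hv
  have hnorm : ‖ω‖ = 1 := Complex.norm_eq_one_of_pow_eq_one hpow (orderOf_pos g).ne'
  rw [Representation.character, hω, map_smul, LinearMap.trace_id, smul_eq_mul, norm_mul, hnorm,
    one_mul, Complex.norm_natCast]

/-- `χ(g) = χ(1)` iff `ρ g = id`. -/
theorem char_eq_finrank_iff (g : G) :
    ρ.character g = (Module.finrank ℂ V : ℂ) ↔ ρ g = LinearMap.id := by
  constructor
  · intro h
    by_cases hV : Module.finrank ℂ V = 0
    · have : Subsingleton V := Module.finrank_zero_iff.mp hV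
      ext v
      exact Subsingleton.elim _ _
    have hn : ‖ρ.character g‖ = (Module.finrank ℂ V : ℝ) := by
      rw [h, Complex.norm_natCast]
    obtain ⟨ω, hω⟩ := rho_eq_smul_id_of_norm_char_eq ρ g hn
    have h1 : ρ.character g = ω * (Module.finrank ℂ V : ℂ) := by
      rw [Representation.character, hω, map_smul, LinearMap.trace_id, smul_eq_mul]
    rw [h] at h1
    have hV' : (Module.finrank ℂ V : ℂ) ≠ 0 := by exact_mod_cast hV
    have : ω = 1 := by
      field_simp at h1
      exact h1.symm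
    rw [hω, this, one_smul]
  · intro h
    rw [Representation.character, h, LinearMap.trace_id]

end rep

end Cfsg.Agent.Lib.Helper3_CharEigen
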