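import Mathlib
import Cfsg.Prelude.Def_Characters
import Cfsg.Agent.Lib.Helper3_CharBridge
import Cfsg.Agent.Lib.Helper3_CharEigen

/-!
# First orthogonality relation for `Cfsg.IsIrrCharacter`, linear independence (helper3).
-/

set_option autoImplicit false
set_option linter.unusedSectionVars false

namespace Cfsg.Agent.Lib.Helper3_CharOrtho

open Representation
open scoped ComplexConjugate
open Cfsg.Agent.Lib.Helper3_CharBridge Cfsg.Agent.Lib.Helper3_CharEigen

section inner

variable {G : Type*} [Group G] [Fintype G]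

theorem classInner_add_left (φ₁ φ₂ ψ : G → ℂ) :
    Cfsg.classInner (φ₁ + φ₂) ψ = Cfsg.classInner φ₁ ψ + Cfsg.classInner φ₂ ψ := by
  simp [Cfsg.classInner, add_mul, Finset.sum_add_distrib, mul_add]

theorem classInner_sub_left (φ₁ φ₂ ψ : G → ℂ) :
    Cfsg.classInner (φ₁ - φ₂) ψ = Cfsg.classInner φ₁ ψ - Cfsg.classInner φ₂ ψ := by
  simp [Cfsg.classInner, sub_mul, Finset.sum_sub_distrib, mul_sub]

theorem classInner_smul_left (c : ℂ) (φ ψ : G → ℂ) :
    Cfsg.classInner (c • φ) ψ = c * Cfsg.classInner φ ψ := by
  simp only [Cfsg.classInner, Pi.smul_apply, smul_eq_mul, mul_assoc, ← Finset.mul_sum]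
  ring

theorem classInner_zero_left (ψ : G → ℂ) : Cfsg.classInner (0 : G → ℂ) ψ = 0 := by
  simp [Cfsg.classInner]

theorem classInner_sum_left {ι : Type*} (s : Finset ι) (φ : ι → G → ℂ) (ψ : G → ℂ) :
    Cfsg.classInner (∑ i ∈ s, φ i) ψ = ∑ i ∈ s, Cfsg.classInner (φ i) ψ := by
  classical
  induction s using Finset.induction_on with
  | empty => simp [classInner_zero_left]
  | insert a s ha ih => rw [Finset.sum_insert ha, Finset.sum_insert ha, classInner_add_left, ih]

theorem classInner_add_right (φ ψ₁ ψ₂ : G → ℂ) :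
    Cfsg.classInner φ (ψ₁ + ψ₂) = Cfsg.classInner φ ψ₁ + Cfsg.classInner φ ψ₂ := by
  simp [Cfsg.classInner, mul_add, Finset.sum_add_distrib]

theorem classInner_smul_right (c : ℂ) (φ ψ : G → ℂ) :
    Cfsg.classInner φ (c • ψ) = conj c * Cfsg.classInner φ ψ := by
  simp only [Cfsg.classInner, Pi.smul_apply, smul_eq_mul, map_mul]
  rw [Finset.mul_sum, Finset.mul_sum, Finset.mul_sum]
  refine Finset.sum_congr rfl (fun g _ => ?_)
  ring

theorem classInner_zero_right (φ : G → ℂ) : Cfsg.classInner φ (0 : G → ℂ) = 0 := by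
  simp [Cfsg.classInner]

theorem classInner_sum_right {ι : Type*} (s : Finset ι) (φ : G → ℂ) (ψ : ι → G → ℂ) :
    Cfsg.classInner φ (∑ i ∈ s, ψ i) = ∑ i ∈ s, Cfsg.classInner φ (ψ i) := by
  classical
  induction s using Finset.induction_on with
  | empty => simp [classInner_zero_right]
  | insert a s ha ih => rw [Finset.sum_insert ha, Finset.sum_insert ha, classInner_add_right, ih]

theorem classInner_conj_symm (φ ψ : G → ℂ) :
    conj (Cfsg.classInner φ ψ) = Cfsg.classInner ψ φ := by
  simp only [Cfsg.classInner, map_mul, map_inv₀, Complex.conj_natCast, map_sum, Complex.conj_conj]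
  congr 1
  refine Finset.sum_congr rfl (fun g _ => ?_)
  ring

theorem card_ne_zero_complex : (Nat.card G : ℂ) ≠ 0 := by
  exact_mod_cast (Nat.card_pos (α := G)).ne'

end inner

section ortho

variable {G : Type*} [Group G] [Fintype G]
variable {V W : Type*} [AddCommGroup V] [Module ℂ V] [FiniteDimensional ℂ V]
  [AddCommGroup W] [Module ℂ W] [FiniteDimensional ℂ W]

open scoped Classical in
/-- First orthogonality relation for irreducible representations, in `classInner` form. -/
theorem classInner_char_irreducible (ρ : Representation ℂ G V) (σ : Representation ℂ G W)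
    [ρ.IsIrreducible] [σ.IsIrreducible] :
    Cfsg.classInner ρ.character σ.character = if Nonempty (σ.Equiv ρ) then 1 else 0 := by
  have : Invertible (Nat.card G : ℂ) := invertibleOfNonzero card_ne_zero_complex
  have h := Representation.char_orthonormal ρ σ
  rw [Cfsg.classInner]
  simp_rw [← char_inv σ]
  rw [h]

/-- Hom-dimension formula in `classInner` form. -/
theorem classInner_char_eq_finrank (ρ : Representation ℂ G V) (σ : Representation ℂ G W) :
    Cfsg.classInner σ.character ρ.character =
      (Module.finrank ℂ (Representation.IntertwiningMap ρ σ) : ℂ) := by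
  have : Invertible (Nat.card G : ℂ) := invertibleOfNonzero card_ne_zero_complex
  have h := Representation.card_inv_mul_sum_char_mul_char_eq_finrank ρ σ
  rw [Cfsg.classInner]
  simp_rw [← char_inv ρ]
  exact h

end ortho

section irr

variable {G : Type*} [Group G] [Fintype G]

theorem classInner_self_of_isIrrCharacter {χ : G → ℂ} (hχ : Cfsg.IsIrrCharacter G χ) :
    Cfsg.classInner χ χ = 1 := by
  obtain ⟨n, ρ, hρ, rfl⟩ := hχ
  rw [classInner_char_irreducible ρ ρ]
  simp [Nonempty.intro (Representation.Equiv.refl ρ)]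

theorem classInner_of_isIrrCharacter_of_ne {χ ψ : G → ℂ} (hχ : Cfsg.IsIrrCharacter G χ)
    (hψ : Cfsg.IsIrrCharacter G ψ) (hne : χ ≠ ψ) : Cfsg.classInner χ ψ = 0 := by
  obtain ⟨n, ρ, hρ, rfl⟩ := hχ
  obtain ⟨m, σ, hσ, rfl⟩ := hψ
  rw [classInner_char_irreducible ρ σ]
  rw [if_neg]
  rintro ⟨φ⟩
  exact hne (char_iso φ).symm

open scoped Classical in
/-- First orthogonality relation for irreducible characters. -/
theorem classInner_irr {χ ψ : G → ℂ} (hχ : Cfsg.IsIrrCharacter G χ)
    (hψ : Cfsg.IsIrrCharacter G ψ) : Cfsg.classInner χ ψ = if χ = ψ then 1 else 0 := by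
  split_ifs with h
  · subst h; exact classInner_self_of_isIrrCharacter hχ
  · exact classInner_of_isIrrCharacter_of_ne hχ hψ h

theorem isIrrCharacter_ne_zero {χ : G → ℂ} (hχ : Cfsg.IsIrrCharacter G χ) : χ ≠ 0 := by
  intro h
  have := classInner_self_of_isIrrCharacter hχ
  rw [h, classInner_zero_left] at this
  exact zero_ne_one this

/-- Irreducible representations with the same character are equivalent. -/
theorem nonempty_equiv_of_char_eq {V W : Type*} [AddCommGroup V] [Module ℂ V]
    [FiniteDimensional ℂ V] [AddCommGroup W] [Module ℂ W] [FiniteDimensional ℂ W]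
    (ρ : Representation ℂ G V) (σ : Representation ℂ G W)
    [ρ.IsIrreducible] [σ.IsIrreducible] (h : ρ.character = σ.character) :
    Nonempty (σ.Equiv ρ) := by
  by_contra hne
  have h1 := classInner_char_irreducible ρ σ
  rw [if_neg hne, ← h] at h1
  have h2 := classInner_self_of_isIrrCharacter (isIrrCharacter_of_rep ρ)
  rw [h1] at h2
  exact zero_ne_one h2

/-- The irreducible characters are linearly independent. -/
theorem linearIndependent_irr :
    LinearIndependent ℂ (fun χ : Cfsg.IrrCharacter G => (χ : G → ℂ)) := by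
  classical
  rw [linearIndependent_iff']
  intro s c hc ψ hψ
  have h1 : Cfsg.classInner (∑ χ ∈ s, c χ • (χ : G → ℂ)) (ψ : G → ℂ) = 0 := by
    rw [hc, classInner_zero_left]
  rw [classInner_sum_left] at h1
  simp_rw [classInner_smul_left] at h1
  rw [Finset.sum_eq_single ψ] at h1
  · rw [classInner_self_of_isIrrCharacter ψ.2, mul_one] at h1
    exact h1
  · intro χ _ hne
    rw [classInner_of_isIrrCharacter_of_ne χ.2 ψ.2 (fun h => hne (Subtype.ext h)), mul_zero]
  · intro h; exact absurd hψ h

instance finite_irr : Finite (Cfsg.IrrCharacter G) :=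
  LinearIndependent.finite_of_isNoetherian (linearIndependent_irr (G := G))

end irr

end Cfsg.Agent.Lib.Helper3_CharOrtho
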