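import Mathlib
import Cfsg.Prelude.Def_Characters
import Cfsg.Agent.Lib.Helper3_CharBridge
import Cfsg.Agent.Lib.Helper3_CharEigen
import Cfsg.Agent.Lib.Helper3_CharOrtho

/-!
# Completeness of irreducible characters (helper3).
-/

set_option autoImplicit false
set_option linter.unusedSectionVars false

namespace Cfsg.Agent.Lib.Helper3_CharComplete

open Representation
open scoped ComplexConjugate
open Cfsg.Agent.Lib.Helper3_CharBridge Cfsg.Agent.Lib.Helper3_CharEigen
  Cfsg.Agent.Lib.Helper3_CharOrtho

section central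

variable {G : Type*} [Group G] [Fintype G]

/-- The element `∑ g, c g • g` of the group algebra. -/
noncomputable def algElt (c : G → ℂ) : MonoidAlgebra ℂ G := ∑ g : G, MonoidAlgebra.single g (c g)

theorem algElt_mul_single (c : G → ℂ) (h : G) (r : ℂ) :
    algElt c * MonoidAlgebra.single h r = ∑ g : G, MonoidAlgebra.single (g * h) (c g * r) := by
  simp [algElt, Finset.sum_mul, MonoidAlgebra.single_mul_single]

theorem single_mul_algElt (c : G → ℂ) (h : G) (r : ℂ) :
    MonoidAlgebra.single h r * algElt c = ∑ g : G, MonoidAlgebra.single (h * g) (r * c g) := by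
  simp [algElt, Finset.mul_sum, MonoidAlgebra.single_mul_single]

theorem algElt_comm_single (c : G → ℂ) (hc : Cfsg.IsClassFunction G c) (h : G) (r : ℂ) :
    MonoidAlgebra.single h r * algElt c = algElt c * MonoidAlgebra.single h r := by
  rw [algElt_mul_single, single_mul_algElt]
  refine Fintype.sum_bijective (fun g => h * g * h⁻¹) (MulAut.conj h).bijective _ _ (fun g => ?_)
  have := hc g h
  simp only [inv_mul_cancel_right, this, mul_comm r]

theorem algElt_mem_center (c : G → ℂ) (hc : Cfsg.IsClassFunction G c) :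
    algElt c ∈ Submonoid.center (MonoidAlgebra ℂ G) := by
  rw [Submonoid.mem_center_iff]
  intro b
  induction b using MonoidAlgebra.induction_linear with
  | zero => simp
  | add x y hx hy => rw [add_mul, mul_add, hx, hy]
  | single h r => exact algElt_comm_single c hc h r

theorem algElt_coeff (c : G → ℂ) (g : G) : (algElt c).coeff g = c g := by
  classical
  simp [algElt, MonoidAlgebra.coeff_sum, MonoidAlgebra.coeff_single, Finsupp.single_apply]

end central

section schur

variable {G : Type*} [Group G] [Fintype G]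
variable {V : Type*} [AddCommGroup V] [Module ℂ V] [FiniteDimensional ℂ V]

theorem trace_asAlgebraHom_algElt (ρ : Representation ℂ G V) (c : G → ℂ) :
    LinearMap.trace ℂ V (ρ.asAlgebraHom (algElt c)) = ∑ g : G, c g * ρ.character g := by
  simp [algElt, map_sum, Representation.character]

/-- A central element of the group algebra acts on an irreducible representation as a scalar,
which is determined by its trace. -/
theorem asAlgebraHom_algElt_eq_smul (ρ : Representation ℂ G V) [ρ.IsIrreducible] (c : G → ℂ)
    (hc : Cfsg.IsClassFunction G c) :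
    ∃ t : ℂ, ρ.asAlgebraHom (algElt c) = t • (LinearMap.id : V →ₗ[ℂ] V) ∧
      t * (Module.finrank ℂ V : ℂ) = ∑ g : G, c g * ρ.character g := by
  have hz := algElt_mem_center c hc
  obtain ⟨t, ht⟩ :=
    (IsIrreducible.algebraMap_intertwiningMap_bijective_of_isAlgClosed (ρ := ρ)).2
      (IntertwiningMap.centralAlgebraMul ρ hz)
  have h1 : ρ.asAlgebraHom (algElt c) = t • (LinearMap.id : V →ₗ[ℂ] V) := by
    have := congrArg IntertwiningMap.toLinearMap ht
    rw [IntertwiningMap.algebraMap_apply] at this
    ext v
    have h2 := LinearMap.congr_fun this v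
    simp only [IntertwiningMap.toLinearMap_smul, LinearMap.smul_apply] at h2
    rw [LinearMap.smul_apply, LinearMap.id_apply]
    exact h2.symm
  refine ⟨t, h1, ?_⟩
  rw [← trace_asAlgebraHom_algElt, h1, map_smul, LinearMap.trace_id, smul_eq_mul]

theorem asAlgebraHom_algElt_eq_zero (ρ : Representation ℂ G V) [ρ.IsIrreducible] (c : G → ℂ)
    (hc : Cfsg.IsClassFunction G c) (h0 : ∑ g : G, c g * ρ.character g = 0) :
    ρ.asAlgebraHom (algElt c) = 0 := by
  obtain ⟨t, h1, h2⟩ := asAlgebraHom_algElt_eq_smul ρ c hc
  rw [h0] at h2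
  rcases mul_eq_zero.mp h2 with h3 | h3
  · rw [h1, h3, zero_smul]
  · have hV : Module.finrank ℂ V = 0 := by exact_mod_cast h3
    have : Subsingleton V := Module.finrank_zero_iff.mp hV
    ext v
    exact Subsingleton.elim _ _

end schur

section complete

variable {G : Type*} [Group G] [Fintype G]

set_option backward.isDefEq.respectTransparency false in
/-- Key completeness lemma: a class function `c` with `∑ g, c g * χ g = 0` for all irreducible
characters `χ` vanishes. -/
theorem eq_zero_of_forall_sum_mul_irr_eq_zero (c : G → ℂ) (hc : Cfsg.IsClassFunction G c)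
    (h : ∀ χ : G → ℂ, Cfsg.IsIrrCharacter G χ → ∑ g : G, c g * χ g = 0) : c = 0 := by
  classical
  set a := algElt c with ha
  have hz := algElt_mem_center c hc
  have : NeZero (Nat.card G : ℂ) := ⟨card_ne_zero_complex⟩
  -- every simple left ideal is killed by `a`
  have hS : ∀ S : Submodule (MonoidAlgebra ℂ G) (MonoidAlgebra ℂ G),
      IsSimpleModule (MonoidAlgebra ℂ G) S → ∀ s ∈ S, a * s = 0 := by
    intro S hS s hs
    have : (Representation.ofModule (k := ℂ) (G := G) S).IsIrreducible :=
      (isSimpleModule_iff_irreducible_ofModule S).mp hS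
    have : IsNoetherian (MonoidAlgebra ℂ G) (MonoidAlgebra ℂ G) :=
      isNoetherian_of_tower ℂ (inferInstance : IsNoetherian ℂ (MonoidAlgebra ℂ G))
    have : Module.Finite ℂ (RestrictScalars ℂ (MonoidAlgebra ℂ G) S) := by
      let _ := RestrictScalars.moduleOrig ℂ (MonoidAlgebra ℂ G) S
      have : Module.Finite (MonoidAlgebra ℂ G) (RestrictScalars ℂ (MonoidAlgebra ℂ G) S) :=
        (inferInstance : Module.Finite (MonoidAlgebra ℂ G) S)
      exact Module.Finite.trans (MonoidAlgebra ℂ G) _
    have hirr := isIrrCharacter_of_rep (Representation.ofModule (k := ℂ) (G := G) S)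
    have h0 := asAlgebraHom_algElt_eq_zero (Representation.ofModule (k := ℂ) (G := G) S) c hc
      (h _ hirr)
    have h1 := LinearMap.congr_fun h0
      ((RestrictScalars.addEquiv ℂ (MonoidAlgebra ℂ G) S).symm ⟨s, hs⟩)
    rw [ofModule_asAlgebraHom_apply_apply] at h1
    simp only [AddEquiv.apply_symm_apply, LinearMap.zero_apply,
      AddEquivClass.map_eq_zero_iff] at h1
    have h2 := congrArg Subtype.val h1
    simpa using h2
  -- hence the kernel of right multiplication by `a` is everything
  have hker : (⊤ : Submodule (MonoidAlgebra ℂ G) (MonoidAlgebra ℂ G)) ≤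
      LinearMap.ker (LinearMap.toSpanSingleton (MonoidAlgebra ℂ G) (MonoidAlgebra ℂ G) a) := by
    rw [← IsSemisimpleModule.sSup_simples_eq_top (MonoidAlgebra ℂ G) (MonoidAlgebra ℂ G)]
    refine sSup_le ?_
    intro S hS' s hs
    rw [LinearMap.mem_ker, LinearMap.toSpanSingleton_apply, smul_eq_mul,
      (Submonoid.mem_center_iff.mp hz s)]
    exact hS S hS' s hs
  have h1 : (1 : MonoidAlgebra ℂ G) ∈
      LinearMap.ker (LinearMap.toSpanSingleton (MonoidAlgebra ℂ G) (MonoidAlgebra ℂ G) a) :=
    hker trivial
  rw [LinearMap.mem_ker, LinearMap.toSpanSingleton_apply, one_smul] at h1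
  funext g
  rw [← algElt_coeff c g, ← ha, h1]
  simp

theorem isClassFunction_conj {ψ : G → ℂ} (hψ : Cfsg.IsClassFunction G ψ) :
    Cfsg.IsClassFunction G (fun g => conj (ψ g)) := by
  intro g h
  simp only [hψ g h]

theorem isClassFunction_add {φ ψ : G → ℂ} (hφ : Cfsg.IsClassFunction G φ)
    (hψ : Cfsg.IsClassFunction G ψ) : Cfsg.IsClassFunction G (φ + ψ) := by
  intro g h
  simp only [Pi.add_apply, hφ g h, hψ g h]

theorem isClassFunction_sub {φ ψ : G → ℂ} (hφ : Cfsg.IsClassFunction G φ)
    (hψ : Cfsg.IsClassFunction G ψ) : Cfsg.IsClassFunction G (φ - ψ) := by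
  intro g h
  simp only [Pi.sub_apply, hφ g h, hψ g h]

theorem isClassFunction_smul (c : ℂ) {ψ : G → ℂ} (hψ : Cfsg.IsClassFunction G ψ) :
    Cfsg.IsClassFunction G (c • ψ) := by
  intro g h
  simp only [Pi.smul_apply, hψ g h]

theorem isClassFunction_zero : Cfsg.IsClassFunction G (0 : G → ℂ) := by
  intro g h
  rfl

theorem isClassFunction_sum {ι : Type*} (s : Finset ι) (φ : ι → G → ℂ)
    (hφ : ∀ i ∈ s, Cfsg.IsClassFunction G (φ i)) : Cfsg.IsClassFunction G (∑ i ∈ s, φ i) := by
  intro g h
  simp only [Finset.sum_apply]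
  exact Finset.sum_congr rfl (fun i hi => hφ i hi g h)

/-- Completeness: a class function orthogonal to all irreducible characters vanishes. -/
theorem eq_zero_of_forall_classInner_irr_eq_zero (ψ : G → ℂ) (hψ : Cfsg.IsClassFunction G ψ)
    (h : ∀ χ : G → ℂ, Cfsg.IsIrrCharacter G χ → Cfsg.classInner ψ χ = 0) : ψ = 0 := by
  have h1 := eq_zero_of_forall_sum_mul_irr_eq_zero (fun g => conj (ψ g)) (isClassFunction_conj hψ)
    (fun χ hχ => by
      have h2 := h χ hχ
      rw [Cfsg.classInner, mul_eq_zero] at h2
      rcases h2 with h2 | h2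
      · exact absurd (inv_eq_zero.mp h2) card_ne_zero_complex
      · have h3 := congrArg conj h2
        rw [map_sum, map_zero] at h3
        rw [← h3]
        refine Finset.sum_congr rfl (fun g _ => ?_)
        rw [map_mul, Complex.conj_conj])
  funext g
  have := congrFun h1 g
  simpa using this

noncomputable instance fintypeIrr : Fintype (Cfsg.IrrCharacter G) := Fintype.ofFinite _

/-- Every class function is the combination of the irreducible characters with coefficients
given by inner products (`Finset.sum` form). -/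
theorem classFunction_eq_sum (ψ : G → ℂ) (hψ : Cfsg.IsClassFunction G ψ) :
    ψ = ∑ χ : Cfsg.IrrCharacter G, Cfsg.classInner ψ χ • (χ : G → ℂ) := by
  classical
  rw [← sub_eq_zero]
  apply eq_zero_of_forall_classInner_irr_eq_zero
  · exact isClassFunction_sub hψ (isClassFunction_sum _ _ (fun χ _ =>
      isClassFunction_smul _ (isClassFunction_of_isIrrCharacter χ.2)))
  · intro θ hθ
    rw [classInner_sub_left, classInner_sum_left]
    simp_rw [classInner_smul_left]
    rw [Finset.sum_eq_single (⟨θ, hθ⟩ : Cfsg.IrrCharacter G)]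
    · rw [classInner_self_of_isIrrCharacter hθ, mul_one, sub_self]
    · intro χ _ hne
      rw [classInner_of_isIrrCharacter_of_ne χ.2 hθ (fun h => hne (Subtype.ext h)), mul_zero]
    · intro h; exact absurd (Finset.mem_univ _) h

/-- `finsum` form of `classFunction_eq_sum` (this is S0152). -/
theorem classFunction_eq_finsum (ψ : G → ℂ) (hψ : Cfsg.IsClassFunction G ψ) :
    ψ = ∑ᶠ χ : Cfsg.IrrCharacter G, Cfsg.classInner ψ χ • (χ : G → ℂ) := by
  rw [finsum_eq_sum_of_fintype]
  exact classFunction_eq_sum ψ hψ

end complete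

end Cfsg.Agent.Lib.Helper3_CharComplete
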