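import Mathlib
import Cfsg.Prelude.Def_Characters
import Cfsg.Agent.Lib.Helper3_CharBridge
import Cfsg.Agent.Lib.Helper3_CharEigen
import Cfsg.Agent.Lib.Helper3_CharOrtho
import Cfsg.Agent.Lib.Helper3_CharComplete

/-!
# Column orthogonality, number of irreducible characters (helper3).
-/

set_option autoImplicit false
set_option linter.unusedSectionVars false

namespace Cfsg.Agent.Lib.Helper3_CharColumn

open Representation
open scoped ComplexConjugate
open Cfsg.Agent.Lib.Helper3_CharBridge Cfsg.Agent.Lib.Helper3_CharEigen
  Cfsg.Agent.Lib.Helper3_CharOrtho Cfsg.Agent.Lib.Helper3_CharComplete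

section counting

variable {G : Type*} [Group G] [Fintype G]

open scoped Classical in
/-- The conjugacy class of `h` as a finset. -/
noncomputable def conjFinset (h : G) : Finset G := Finset.univ.filter (fun g => IsConj g h)

theorem mem_conjFinset {g h : G} : g ∈ conjFinset h ↔ IsConj g h := by
  simp [conjFinset]

theorem card_conjFinset_eq_index (h : G) :
    (conjFinset h).card = (Subgroup.centralizer ({h} : Set G)).index := by
  classical
  have h1 : (Subgroup.centralizer ({h} : Set G)).index =
      (MulAction.stabilizer (ConjAct G) h).index := by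
    rw [Subgroup.centralizer_eq_comap_stabilizer]
    exact Subgroup.index_comap_of_surjective _ (ConjAct.toConjAct (G := G)).surjective
  rw [h1, MulAction.index_stabilizer, ← Set.ncard_coe_finset]
  congr 1
  ext g
  simp [mem_conjFinset]

theorem card_conjFinset_mul_card_centralizer (h : G) :
    (conjFinset h).card * Nat.card (Subgroup.centralizer ({h} : Set G)) = Nat.card G := by
  rw [card_conjFinset_eq_index, mul_comm, Subgroup.card_mul_index]

theorem card_conjFinset_pos (h : G) : 0 < (conjFinset h).card :=
  Finset.card_pos.mpr ⟨h, mem_conjFinset.mpr (IsConj.refl h)⟩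

theorem card_centralizer_eq_of_isConj {g h : G} (hgh : IsConj g h) :
    Nat.card (Subgroup.centralizer ({g} : Set G)) =
      Nat.card (Subgroup.centralizer ({h} : Set G)) := by
  have h1 : conjFinset g = conjFinset h := by
    ext x
    rw [mem_conjFinset, mem_conjFinset]
    exact ⟨fun hx => hx.trans hgh, fun hx => hx.trans hgh.symm⟩
  have h2 := card_conjFinset_mul_card_centralizer g
  have h3 := card_conjFinset_mul_card_centralizer h
  rw [h1] at h2
  exact Nat.eq_of_mul_eq_mul_left (card_conjFinset_pos h) (h2.trans h3.symm)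

end counting

section column

variable {G : Type*} [Group G] [Fintype G]

open scoped Classical in
/-- The indicator function of the conjugacy class of `h`. -/
noncomputable def classIndicator (h : G) : G → ℂ := fun g => if IsConj g h then 1 else 0

theorem classIndicator_of_isConj {g h : G} (hgh : IsConj g h) : classIndicator h g = 1 := by
  unfold classIndicator
  exact if_pos hgh

theorem classIndicator_of_not_isConj {g h : G} (hgh : ¬ IsConj g h) : classIndicator h g = 0 := by
  unfold classIndicator
  exact if_neg hgh

theorem isClassFunction_classIndicator (h : G) : Cfsg.IsClassFunction G (classIndicator h) := by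
  intro g x
  have h1 : IsConj g (x * g * x⁻¹) := isConj_iff.mpr ⟨x, rfl⟩
  by_cases hg : IsConj g h
  · rw [classIndicator_of_isConj hg, classIndicator_of_isConj (h1.symm.trans hg)]
  · rw [classIndicator_of_not_isConj hg,
      classIndicator_of_not_isConj (fun h2 => hg (h1.trans h2))]

theorem classFunction_apply_of_isConj {χ : G → ℂ} (hχ : Cfsg.IsClassFunction G χ) {g h : G}
    (hgh : IsConj g h) : χ g = χ h := by
  obtain ⟨c, hc⟩ := isConj_iff.mp hgh
  rw [← hc, hχ g c]

theorem classInner_classIndicator (h : G) {χ : G → ℂ} (hχ : Cfsg.IsClassFunction G χ) :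
    Cfsg.classInner (classIndicator h) χ =
      (Nat.card G : ℂ)⁻¹ * ((conjFinset h).card : ℂ) * conj (χ h) := by
  classical
  rw [Cfsg.classInner, mul_assoc]
  congr 1
  have : ∀ g : G, classIndicator h g * conj (χ g) = if g ∈ conjFinset h then conj (χ h) else 0 := by
    intro g
    by_cases hg : IsConj g h
    · rw [if_pos (mem_conjFinset.mpr hg), classFunction_apply_of_isConj hχ hg,
        classIndicator_of_isConj hg, one_mul]
    · rw [if_neg (fun hh => hg (mem_conjFinset.mp hh)), classIndicator_of_not_isConj hg,
        zero_mul]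
  simp_rw [this]
  rw [Finset.sum_ite_mem, Finset.univ_inter, Finset.sum_const, nsmul_eq_mul]

open scoped Classical in
/-- Column orthogonality (second orthogonality relation), `Finset.sum` form. -/
theorem column_orthogonality (g h : G) :
    ∑ χ : Cfsg.IrrCharacter G, (χ : G → ℂ) g * conj ((χ : G → ℂ) h) =
      if IsConj g h then (Nat.card (Subgroup.centralizer ({g} : Set G)) : ℂ) else 0 := by
  have h1 := congrFun (classFunction_eq_sum (classIndicator h) (isClassFunction_classIndicator h)) g
  rw [Finset.sum_apply] at h1
  simp only [Pi.smul_apply, smul_eq_mul] at h1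
  have h2 : ∀ χ : Cfsg.IrrCharacter G, Cfsg.classInner (classIndicator h) (χ : G → ℂ) *
      (χ : G → ℂ) g = ((Nat.card G : ℂ)⁻¹ * ((conjFinset h).card : ℂ)) *
        ((χ : G → ℂ) g * conj ((χ : G → ℂ) h)) := by
    intro χ
    rw [classInner_classIndicator h (isClassFunction_of_isIrrCharacter χ.2)]
    ring
  simp_rw [h2] at h1
  rw [← Finset.mul_sum] at h1
  have hcard : ((conjFinset h).card : ℂ) * (Nat.card (Subgroup.centralizer ({h} : Set G)) : ℂ) =
      (Nat.card G : ℂ) := by
    exact_mod_cast card_conjFinset_mul_card_centralizer h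
  have hG : (Nat.card G : ℂ) ≠ 0 := card_ne_zero_complex
  have hc : ((conjFinset h).card : ℂ) ≠ 0 := by
    exact_mod_cast (card_conjFinset_pos h).ne'
  split_ifs with hgh
  · rw [card_centralizer_eq_of_isConj hgh]
    rw [classIndicator_of_isConj hgh] at h1
    rw [← hcard] at h1
    field_simp at h1
    rw [← h1]
  · rw [classIndicator_of_not_isConj hgh] at h1
    have h3 : (Nat.card G : ℂ)⁻¹ * ((conjFinset h).card : ℂ) ≠ 0 :=
      mul_ne_zero (inv_ne_zero hG) hc
    rcases mul_eq_zero.mp h1.symm with h4 | h4
    · exact absurd h4 h3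
    · exact h4

/-- Column orthogonality for equal arguments. -/
theorem column_orthogonality_self (g : G) :
    ∑ χ : Cfsg.IrrCharacter G, (χ : G → ℂ) g * conj ((χ : G → ℂ) g) =
      (Nat.card (Subgroup.centralizer ({g} : Set G)) : ℂ) := by
  classical
  rw [column_orthogonality g g, if_pos (IsConj.refl g)]

/-- Two elements are conjugate iff all irreducible characters agree on them. -/
theorem isConj_iff_forall_irr (g h : G) :
    IsConj g h ↔ ∀ χ : Cfsg.IrrCharacter G, (χ : G → ℂ) g = (χ : G → ℂ) h := by
  classical
  constructor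
  · intro hgh χ
    exact classFunction_apply_of_isConj (isClassFunction_of_isIrrCharacter χ.2) hgh
  · intro hall
    by_contra hgh
    have h1 := column_orthogonality g h
    rw [if_neg hgh] at h1
    have h2 := column_orthogonality_self h
    simp_rw [hall] at h1
    rw [h1] at h2
    have : (0 : ℕ) = Nat.card (Subgroup.centralizer ({h} : Set G)) := by exact_mod_cast h2
    exact (Nat.card_pos (α := Subgroup.centralizer ({h} : Set G))).ne this

theorem sum_card_centralizer :
    ∑ g : G, Nat.card (Subgroup.centralizer ({g} : Set G)) =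
      Nat.card (ConjClasses G) * Nat.card G := by
  classical
  rw [← card_comm_eq_card_conjClasses_mul_card G,
    Nat.card_congr (Equiv.subtypeProdEquivSigmaSubtype (fun a b : G => Commute a b)),
    Nat.card_sigma]
  refine Finset.sum_congr rfl (fun g _ => ?_)
  refine Nat.card_congr (Equiv.subtypeEquivRight (fun b => ?_))
  rw [Subgroup.mem_centralizer_singleton_iff]
  exact ⟨fun h => h.symm, fun h => h.symm⟩

/-- The number of irreducible characters equals the number of conjugacy classes. -/
theorem card_irr_eq_card_conjClasses :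
    Nat.card (Cfsg.IrrCharacter G) = Nat.card (ConjClasses G) := by
  classical
  have h1 : ∑ g : G, ∑ χ : Cfsg.IrrCharacter G, (χ : G → ℂ) g * conj ((χ : G → ℂ) g) =
      ((Nat.card (ConjClasses G) * Nat.card G : ℕ) : ℂ) := by
    simp_rw [column_orthogonality_self]
    rw [← sum_card_centralizer, Nat.cast_sum]
  rw [Finset.sum_comm] at h1
  have h2 : ∀ χ : Cfsg.IrrCharacter G, ∑ g : G, (χ : G → ℂ) g * conj ((χ : G → ℂ) g) =
      (Nat.card G : ℂ) := by
    intro χ
    have h3 := classInner_self_of_isIrrCharacter χ.2
    rw [Cfsg.classInner] at h3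
    have hG : (Nat.card G : ℂ) ≠ 0 := card_ne_zero_complex
    field_simp at h3
    exact h3
  simp_rw [h2] at h1
  rw [Finset.sum_const, Finset.card_univ, nsmul_eq_mul] at h1
  have h4 : Fintype.card (Cfsg.IrrCharacter G) * Nat.card G =
      Nat.card (ConjClasses G) * Nat.card G := by exact_mod_cast h1
  rw [Nat.card_eq_fintype_card]
  exact Nat.eq_of_mul_eq_mul_right Nat.card_pos h4

/-- The degree of an irreducible character is a natural number. -/
theorem irr_one_eq_natCast {χ : G → ℂ} (hχ : Cfsg.IsIrrCharacter G χ) :
    ∃ n : ℕ, 0 < n ∧ χ 1 = (n : ℂ) := by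
  obtain ⟨n, ρ, hρ, rfl⟩ := hχ
  refine ⟨Module.finrank ℂ (Fin n → ℂ), ?_, char_one ρ⟩
  by_contra h0
  have h1 : Module.finrank ℂ (Fin n → ℂ) = 0 := by omega
  have h2 := classInner_self_of_isIrrCharacter (isIrrCharacter_of_rep ρ)
  have h3 : ρ.character = 0 := by
    funext g
    have := norm_char_le ρ g
    rw [h1] at this
    simpa using this
  rw [h3, classInner_zero_left] at h2
  exact zero_ne_one h2

/-- Sum of squares of degrees. -/
theorem sum_sq_irr_one : ∑ χ : Cfsg.IrrCharacter G, (χ : G → ℂ) 1 ^ 2 = (Nat.card G : ℂ) := by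
  have h1 := column_orthogonality_self (1 : G)
  have h2 : Subgroup.centralizer ({1} : Set G) = ⊤ := by
    ext x
    simp [Subgroup.mem_centralizer_singleton_iff]
  rw [h2, Subgroup.card_top] at h1
  rw [← h1]
  refine Finset.sum_congr rfl (fun χ _ => ?_)
  obtain ⟨n, _, hn⟩ := irr_one_eq_natCast χ.2
  rw [hn, Complex.conj_natCast, sq]

end column

end Cfsg.Agent.Lib.Helper3_CharColumn
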