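import Mathlib
import Cfsg.Prelude.Def_Blocks

set_option autoImplicit false

/-!
Shared helper library of seat helper16: basic facts on the local ideal, class sums acting as
scalars on irreducible representations (Schur), and invariants of normal subgroups.
-/

namespace Cfsg.Agent.Lib.Helper16_Char

open Cfsg

/-! ### Local ideal -/

theorem memLocalIdeal_zero (M : Ideal Cfsg.AlgInt) (hM : M.IsMaximal) : Cfsg.MemLocalIdeal M 0 := by
  refine ⟨0, 1, M.zero_mem, ?_, by simp⟩
  exact (Ideal.ne_top_iff_one M).mp hM.ne_top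

theorem coe_ne_zero_of_not_mem (M : Ideal Cfsg.AlgInt) {b : Cfsg.AlgInt} (hb : b ∉ M) :
    (b : ℂ) ≠ 0 := by
  intro h0
  apply hb
  have : b = 0 := Subtype.ext h0
  rw [this]; exact M.zero_mem

theorem memLocalIdeal_add (M : Ideal Cfsg.AlgInt) (hM : M.IsMaximal) {z w : ℂ}
    (hz : Cfsg.MemLocalIdeal M z) (hw : Cfsg.MemLocalIdeal M w) : Cfsg.MemLocalIdeal M (z + w) := by
  obtain ⟨a, b, ha, hb, rfl⟩ := hz
  obtain ⟨a', b', ha', hb', rfl⟩ := hw
  have hb0 := coe_ne_zero_of_not_mem M hb
  have hb0' := coe_ne_zero_of_not_mem M hb'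
  refine ⟨a * b' + a' * b, b * b', ?_, ?_, ?_⟩
  · exact M.add_mem (M.mul_mem_right _ ha) (M.mul_mem_right _ ha')
  · intro hmem
    rcases hM.isPrime.mem_or_mem hmem with h | h
    · exact hb h
    · exact hb' h
  · push_cast
    field_simp

theorem memLocalIdeal_neg (M : Ideal Cfsg.AlgInt) {z : ℂ}
    (hz : Cfsg.MemLocalIdeal M z) : Cfsg.MemLocalIdeal M (-z) := by
  obtain ⟨a, b, ha, hb, rfl⟩ := hz
  refine ⟨-a, b, M.neg_mem ha, hb, ?_⟩
  push_cast
  ring

theorem memLocalIdeal_sub (M : Ideal Cfsg.AlgInt) (hM : M.IsMaximal) {z w : ℂ}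
    (hz : Cfsg.MemLocalIdeal M z) (hw : Cfsg.MemLocalIdeal M w) : Cfsg.MemLocalIdeal M (z - w) := by
  rw [sub_eq_add_neg]
  exact memLocalIdeal_add M hM hz (memLocalIdeal_neg M hw)

theorem memLocalIdeal_sum (M : Ideal Cfsg.AlgInt) (hM : M.IsMaximal) {ι : Type*} (s : Finset ι)
    (f : ι → ℂ) (hf : ∀ i ∈ s, Cfsg.MemLocalIdeal M (f i)) : Cfsg.MemLocalIdeal M (∑ i ∈ s, f i) := by
  classical
  induction s using Finset.induction_on with
  | empty => simpa using memLocalIdeal_zero M hM
  | insert a s ha ih =>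
    rw [Finset.sum_insert ha]
    exact memLocalIdeal_add M hM (hf a (Finset.mem_insert_self a s))
      (ih (fun i hi => hf i (Finset.mem_insert_of_mem hi)))

/-- multiplication by an algebraic integer preserves the local ideal -/
theorem memLocalIdeal_mul_algInt (M : Ideal Cfsg.AlgInt) (c : Cfsg.AlgInt) {z : ℂ}
    (hz : Cfsg.MemLocalIdeal M z) : Cfsg.MemLocalIdeal M ((c : ℂ) * z) := by
  obtain ⟨a, b, ha, hb, rfl⟩ := hz
  refine ⟨c * a, b, M.mul_mem_left _ ha, hb, ?_⟩
  push_cast
  ring

/-- the natural number `n`, as an algebraic integer -/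
theorem natCast_algInt (n : ℕ) : ((n : Cfsg.AlgInt) : ℂ) = (n : ℂ) := by
  simp

/-- a natural number prime to `p` is not in `M` -/
theorem natCast_not_mem (p : ℕ) (M : Ideal Cfsg.AlgInt) (hM : Cfsg.IsPModular p M) (n : ℕ)
    (hn : ¬ p ∣ n) : (n : Cfsg.AlgInt) ∉ M := by
  intro hmem
  have hp : p.Prime := hM.1
  have hcop : Nat.Coprime n p := (Nat.Coprime.symm ((Nat.Prime.coprime_iff_not_dvd hp).mpr hn))
  -- Bezout
  have hb := Nat.gcd_eq_gcd_ab n p
  rw [hcop] at hb
  have h1 : (1 : Cfsg.AlgInt) = (n : Cfsg.AlgInt) * ((Nat.gcdA n p : ℤ) : Cfsg.AlgInt) +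
      (p : Cfsg.AlgInt) * ((Nat.gcdB n p : ℤ) : Cfsg.AlgInt) := by
    have := congrArg (fun t : ℤ => (t : Cfsg.AlgInt)) hb
    simp only [Nat.cast_one, Int.cast_one, Int.cast_add, Int.cast_mul, Int.cast_natCast] at this
    exact this
  have : (1 : Cfsg.AlgInt) ∈ M := by
    rw [h1]
    exact M.add_mem (M.mul_mem_right _ hmem) (M.mul_mem_right _ hM.2.2)
  exact (Ideal.ne_top_iff_one M).mp hM.2.1.ne_top this

/-- a natural number prime to `p` is not in the local ideal -/
theorem natCast_not_memLocalIdeal (p : ℕ) (M : Ideal Cfsg.AlgInt) (hM : Cfsg.IsPModular p M) (n : ℕ)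
    (hn : ¬ p ∣ n) : ¬ Cfsg.MemLocalIdeal M (n : ℂ) := by
  rintro ⟨a, b, ha, hb, hab⟩
  have hb0 := coe_ne_zero_of_not_mem M hb
  have h1 : (a : ℂ) = ((n : Cfsg.AlgInt) * b : Cfsg.AlgInt) := by
    push_cast
    rw [← hab]; field_simp
  have h2 : a = (n : Cfsg.AlgInt) * b := Subtype.ext h1
  rw [h2] at ha
  rcases hM.2.1.isPrime.mem_or_mem ha with h | h
  · exact natCast_not_mem p M hM n hn h
  · exact hb h

/-- division by a natural number prime to `p` preserves the local ideal -/
theorem memLocalIdeal_of_natCast_mul (p : ℕ) (M : Ideal Cfsg.AlgInt) (hM : Cfsg.IsPModular p M) (n : ℕ)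
    (hn : ¬ p ∣ n) {z : ℂ} (hz : Cfsg.MemLocalIdeal M ((n : ℂ) * z)) : Cfsg.MemLocalIdeal M z := by
  obtain ⟨a, b, ha, hb, hab⟩ := hz
  have hb0 := coe_ne_zero_of_not_mem M hb
  have hn0 : (n : ℂ) ≠ 0 := by
    rw [Nat.cast_ne_zero]; rintro rfl; exact hn (dvd_zero p)
  refine ⟨a, b * (n : Cfsg.AlgInt), ha, ?_, ?_⟩
  · intro hmem
    rcases hM.2.1.isPrime.mem_or_mem hmem with h | h
    · exact hb h
    · exact natCast_not_mem p M hM n hn h
  · push_cast
    field_simp
    rw [mul_assoc, ← hab]; field_simp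

/-! ### finsum helpers -/

theorem finsum_mem_eq_sum_ite {α : Type*} [Fintype α] (p : α → Prop) [DecidablePred p] (f : α → ℂ) :
    ∑ᶠ a ∈ {a | p a}, f a = ∑ a, if p a then f a else 0 := by
  rw [finsum_mem_def, finsum_eq_sum_of_fintype]
  refine Finset.sum_congr rfl (fun a _ => ?_)
  simp [Set.indicator]

/-! ### conjugacy class counting -/

theorem card_fiber {G : Type*} [Group G] (g k : G) (h : IsConj g k) :
    Nat.card {x : G // x⁻¹ * g * x = k} = Nat.card (Subgroup.centralizer ({g} : Set G)) := by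
  obtain ⟨c, hc⟩ := isConj_iff.mp h
  refine Nat.card_congr ⟨fun x => ⟨x.1 * c, ?_⟩, fun y => ⟨y.1 * c⁻¹, ?_⟩, ?_, ?_⟩
  · rw [Subgroup.mem_centralizer_iff]
    intro y hy
    rw [Set.mem_singleton_iff] at hy
    rw [hy]
    have hx : (x.1)⁻¹ * g * x.1 = c * g * c⁻¹ := by rw [hc]; exact x.2
    have : g * (x.1 * c) = x.1 * (x.1⁻¹ * g * x.1) * c := by group
    rw [this, hx]; group
  · have hy := y.2
    rw [Subgroup.mem_centralizer_iff] at hy
    have hy' := hy g (Set.mem_singleton g)
    rw [← hc]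
    have : (y.1 * c⁻¹)⁻¹ * g * (y.1 * c⁻¹) = c * (y.1⁻¹ * (g * y.1)) * c⁻¹ := by group
    rw [this, hy']; group
  · intro x; ext; simp
  · intro y; ext; simp

theorem sum_conj_eq {G : Type*} [Group G] [Fintype G] [DecidableEq G] {A : Type*} [AddCommMonoid A]
    (g : G) (F : G → A) :
    ∑ x : G, F (x⁻¹ * g * x) =
      Nat.card (Subgroup.centralizer ({g} : Set G)) • ∑ k : G, if IsConj g k then F k else 0 := by
  rw [← Finset.sum_fiberwise (s := Finset.univ) (g := fun x : G => x⁻¹ * g * x)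
    (f := fun x => F (x⁻¹ * g * x)), Finset.smul_sum]
  refine Finset.sum_congr rfl (fun k _ => ?_)
  have h1 : ∑ x ∈ Finset.univ.filter (fun x : G => x⁻¹ * g * x = k), F (x⁻¹ * g * x) =
      (Finset.univ.filter (fun x : G => x⁻¹ * g * x = k)).card • F k := by
    rw [Finset.sum_congr rfl (g := fun _ => F k)]
    · rw [Finset.sum_const]
    · intro x hx
      rw [(Finset.mem_filter.mp hx).2]
  rw [h1]
  split_ifs with hk
  · have : (Finset.univ.filter (fun x : G => x⁻¹ * g * x = k)).card =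
        Nat.card {x : G // x⁻¹ * g * x = k} := by
      rw [Nat.card_eq_fintype_card, Fintype.card_subtype]
    rw [this, card_fiber g k hk]
  · have : (Finset.univ.filter (fun x : G => x⁻¹ * g * x = k)) = ∅ := by
      rw [Finset.filter_eq_empty_iff]
      intro x _ hx
      apply hk
      rw [isConj_iff]
      exact ⟨x⁻¹, by rw [inv_inv]; exact hx⟩
    rw [this]; simp

/-- number of conjugates = index of centralizer -/
theorem card_conj_eq_index {H : Type*} [Group H] [Fintype H] [DecidableEq H] (c : H) :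
    (Finset.univ.filter (fun k : H => IsConj c k)).card =
      (Subgroup.centralizer ({c} : Set H)).index := by
  have h := sum_conj_eq c (fun _ => (1 : ℕ))
  simp only [Finset.sum_const, Finset.card_univ, smul_eq_mul, mul_one, Finset.sum_boole,
    Nat.cast_id] at h
  have hidx : (Subgroup.centralizer ({c} : Set H)).index *
      Nat.card (Subgroup.centralizer ({c} : Set H)) = Nat.card H := by
    rw [mul_comm, Subgroup.card_mul_index]
  have hc : 0 < Nat.card (Subgroup.centralizer ({c} : Set H)) := Nat.card_pos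
  rw [← Nat.card_eq_fintype_card, ← hidx, mul_comm] at h
  exact (Nat.eq_of_mul_eq_mul_left hc h).symm

/-- A sum over a `Finset`-filter of the conjugates of `g` of a class function. -/
theorem sum_isConj_const {G : Type*} [Group G] [Fintype G] [DecidableEq G] (g : G) (f : G → ℂ)
    (hf : ∀ x c : G, f (x * c * x⁻¹) = f c) :
    ∑ k : G, (if IsConj g k then f k else 0) =
      ((Subgroup.centralizer ({g} : Set G)).index : ℂ) * f g := by
  rw [← card_conj_eq_index, ← nsmul_eq_mul, ← Finset.sum_const, Finset.sum_filter]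
  refine Finset.sum_congr rfl (fun k _ => ?_)
  split_ifs with hk
  · obtain ⟨c, rfl⟩ := isConj_iff.mp hk
    exact hf c g
  · rfl

/-! ### Characters, Schur -/

theorem isClassFunction_of_isIrr {H : Type*} [Group H] (ξ : H → ℂ) (hξ : Cfsg.IsIrrCharacter H ξ)
    (x c : H) : ξ (x * c * x⁻¹) = ξ c := by
  obtain ⟨n, ρ, -, rfl⟩ := hξ
  exact Representation.char_conj ρ c x

section Schur

variable {G : Type*} [Group G] {V : Type*} [AddCommGroup V] [Module ℂ V] [FiniteDimensional ℂ V]
  (ρ : Representation ℂ G V)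

/-- Schur's lemma: an endomorphism commuting with an irreducible representation is a scalar. -/
theorem schur_scalar [ρ.IsIrreducible] (T : V →ₗ[ℂ] V) (hT : ∀ g : G, T ∘ₗ ρ g = ρ g ∘ₗ T) :
    ∃ c : ℂ, T = c • (1 : Module.End ℂ V) := by
  let f : Representation.IntertwiningMap ρ ρ := ⟨T, hT⟩
  obtain ⟨c, hc⟩ :=
    (Representation.IsIrreducible.algebraMap_intertwiningMap_bijective_of_isAlgClosed (ρ := ρ)).2 f
  refine ⟨c, ?_⟩
  have := congrArg Representation.IntertwiningMap.toLinearMap hc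
  rw [Representation.IntertwiningMap.algebraMap_apply] at this
  rw [show f.toLinearMap = T from rfl] at this
  rw [← this]
  rfl

theorem finrank_pos_of_irreducible [ρ.IsIrreducible] : 0 < Module.finrank ℂ V := by
  have : Nontrivial (Subrepresentation ρ) := IsSimpleOrder.toNontrivial
  rw [Module.finrank_pos_iff]
  by_contra hV
  rw [not_nontrivial_iff_subsingleton] at hV
  obtain ⟨a, b, hab⟩ := this
  apply hab
  apply Subrepresentation.toSubmodule_injective
  ext v
  have hv : v = 0 := Subsingleton.elim v 0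
  simp [hv]

variable [Fintype G] [DecidableEq G]

/-- The class sum operator. -/
noncomputable def classOp (g : G) : Module.End ℂ V :=
  ∑ k : G, if IsConj g k then ρ k else 0

theorem classOp_comm (g x : G) : classOp ρ g ∘ₗ ρ x = ρ x ∘ₗ classOp ρ g := by
  show classOp ρ g * ρ x = ρ x * classOp ρ g
  unfold classOp
  rw [Finset.sum_mul, Finset.mul_sum]
  -- reindex
  have h1 : ∑ k : G, (if IsConj g k then ρ k else 0) * ρ x =
      ∑ k : G, if IsConj g (k * x⁻¹) then ρ k else 0 := by
    rw [← Equiv.sum_comp (Equiv.mulRight x) (fun k => if IsConj g (k * x⁻¹) then ρ k else 0)]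
    refine Finset.sum_congr rfl (fun k _ => ?_)
    simp only [Equiv.coe_mulRight, mul_inv_cancel_right]
    split_ifs
    · rw [map_mul]
    · rw [zero_mul]
  have h2 : ∑ k : G, ρ x * (if IsConj g k then ρ k else 0) =
      ∑ k : G, if IsConj g (x⁻¹ * k) then ρ k else 0 := by
    rw [← Equiv.sum_comp (Equiv.mulLeft x) (fun k => if IsConj g (x⁻¹ * k) then ρ k else 0)]
    refine Finset.sum_congr rfl (fun k _ => ?_)
    simp only [Equiv.coe_mulLeft, inv_mul_cancel_left]
    split_ifs
    · rw [map_mul]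
    · rw [mul_zero]
  rw [h1, h2]
  refine Finset.sum_congr rfl (fun k _ => ?_)
  have hiff : IsConj g (k * x⁻¹) ↔ IsConj g (x⁻¹ * k) := by
    have hc : IsConj (k * x⁻¹) (x⁻¹ * k) := by
      rw [isConj_iff]; exact ⟨x⁻¹, by group⟩
    exact ⟨fun h => h.trans hc, fun h => h.trans hc.symm⟩
  by_cases h : IsConj g (k * x⁻¹)
  · rw [if_pos h, if_pos (hiff.mp h)]
  · rw [if_neg h, if_neg (fun h' => h (hiff.mpr h'))]

theorem trace_classOp (g : G) :
    LinearMap.trace ℂ V (classOp ρ g) =
      ((Subgroup.centralizer ({g} : Set G)).index : ℂ) * ρ.character g := by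
  unfold classOp
  rw [map_sum]
  rw [← sum_isConj_const g ρ.character (fun x c => Representation.char_conj ρ c x)]
  refine Finset.sum_congr rfl (fun k _ => ?_)
  split_ifs
  · rfl
  · rw [map_zero]

/-- On an irreducible representation the class sum acts as the scalar given by the central
character. -/
theorem classOp_eq_smul [ρ.IsIrreducible] (g : G) :
    classOp ρ g = Cfsg.centralChar ρ.character g • (1 : Module.End ℂ V) := by
  obtain ⟨c, hc⟩ := schur_scalar ρ (classOp ρ g) (classOp_comm ρ g)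
  have htr := trace_classOp ρ g
  rw [hc, map_smul, LinearMap.trace_one, smul_eq_mul] at htr
  have hn : (Module.finrank ℂ V : ℂ) ≠ 0 := by
    rw [Nat.cast_ne_zero]; exact (finrank_pos_of_irreducible ρ).ne'
  rw [hc]
  congr 1
  unfold Cfsg.centralChar
  rw [Representation.char_one, ← htr]
  field_simp

end Schur

end Cfsg.Agent.Lib.Helper16_Char
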