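import Cfsg.Prelude.Def_Blocks

/-!
# The local ring at a prime ideal `M` of the algebraic integers (helper78)

Algebra of the predicates `Cfsg.MemLocalRing M` and `Cfsg.MemLocalIdeal M` of `Def_Blocks`:
for a prime (for instance maximal) ideal `M` the local integers form a subring of `ℂ`, the local
ideal is an ideal of it, the ring is local (an element outside the ideal has its inverse in the
ring), an algebraic integer lies in the local ideal iff it lies in `M`, and for `IsPModular p M`
a natural number lies in the local ideal iff `p` divides it.  Then: `SameBlock M` is an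
equivalence relation, and blocks partition the irreducible characters.
-/

set_option autoImplicit false

namespace Cfsg.Agent.Lib.Helper78_LocalRing

open Cfsg

variable {M : Ideal AlgInt}

/-! ### Basic membership -/

theorem memLocalRing_algInt (hM : M.IsPrime) (a : AlgInt) : MemLocalRing M (a : ℂ) :=
  ⟨a, 1, hM.one_notMem, by simp⟩

theorem memLocalIdeal_of_mem (hM : M.IsPrime) {a : AlgInt} (ha : a ∈ M) :
    MemLocalIdeal M (a : ℂ) :=
  ⟨a, 1, ha, hM.one_notMem, by simp⟩

theorem memLocalRing_zero (hM : M.IsPrime) : MemLocalRing M 0 := by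
  simpa using memLocalRing_algInt hM 0

theorem memLocalRing_one (hM : M.IsPrime) : MemLocalRing M 1 := by
  simpa using memLocalRing_algInt hM 1

theorem memLocalRing_natCast (hM : M.IsPrime) (n : ℕ) : MemLocalRing M (n : ℂ) := by
  simpa using memLocalRing_algInt hM (n : AlgInt)

theorem memLocalRing_intCast (hM : M.IsPrime) (n : ℤ) : MemLocalRing M (n : ℂ) := by
  simpa using memLocalRing_algInt hM (n : AlgInt)

theorem memLocalIdeal_zero (hM : M.IsPrime) : MemLocalIdeal M 0 := by
  simpa using memLocalIdeal_of_mem hM (M.zero_mem)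

theorem memLocalRing_of_memLocalIdeal {z : ℂ} (h : MemLocalIdeal M z) : MemLocalRing M z := by
  obtain ⟨a, b, -, hb, rfl⟩ := h
  exact ⟨a, b, hb, rfl⟩

theorem coe_ne_zero_of_notMem {b : AlgInt} (hb : b ∉ M) : (b : ℂ) ≠ 0 := by
  intro h
  apply hb
  have : b = 0 := by
    apply Subtype.ext
    simpa using h
  rw [this]
  exact M.zero_mem

/-! ### Ring operations -/

theorem memLocalRing_add (hM : M.IsPrime) {x y : ℂ} (hx : MemLocalRing M x)
    (hy : MemLocalRing M y) : MemLocalRing M (x + y) := by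
  obtain ⟨a, b, hb, rfl⟩ := hx
  obtain ⟨c, d, hd, rfl⟩ := hy
  refine ⟨a * d + c * b, b * d, ?_, ?_⟩
  · intro h
    rcases hM.mem_or_mem h with h | h
    · exact hb h
    · exact hd h
  · have hb' := coe_ne_zero_of_notMem hb
    have hd' := coe_ne_zero_of_notMem hd
    push_cast
    field_simp

theorem memLocalRing_mul (hM : M.IsPrime) {x y : ℂ} (hx : MemLocalRing M x)
    (hy : MemLocalRing M y) : MemLocalRing M (x * y) := by
  obtain ⟨a, b, hb, rfl⟩ := hx
  obtain ⟨c, d, hd, rfl⟩ := hy
  refine ⟨a * c, b * d, ?_, ?_⟩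
  · intro h
    rcases hM.mem_or_mem h with h | h
    · exact hb h
    · exact hd h
  · have hb' := coe_ne_zero_of_notMem hb
    have hd' := coe_ne_zero_of_notMem hd
    push_cast
    field_simp

theorem memLocalRing_neg {x : ℂ} (hx : MemLocalRing M x) : MemLocalRing M (-x) := by
  obtain ⟨a, b, hb, rfl⟩ := hx
  refine ⟨-a, b, hb, ?_⟩
  push_cast
  ring

theorem memLocalRing_sub (hM : M.IsPrime) {x y : ℂ} (hx : MemLocalRing M x)
    (hy : MemLocalRing M y) : MemLocalRing M (x - y) := by
  rw [sub_eq_add_neg]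
  exact memLocalRing_add hM hx (memLocalRing_neg hy)

theorem memLocalRing_pow (hM : M.IsPrime) {x : ℂ} (hx : MemLocalRing M x) (n : ℕ) :
    MemLocalRing M (x ^ n) := by
  induction n with
  | zero => simpa using memLocalRing_one hM
  | succ n ih => rw [pow_succ]; exact memLocalRing_mul hM ih hx

theorem memLocalRing_sum (hM : M.IsPrime) {ι : Type*} (s : Finset ι) (f : ι → ℂ)
    (h : ∀ i ∈ s, MemLocalRing M (f i)) : MemLocalRing M (∑ i ∈ s, f i) := by
  classical
  induction s using Finset.induction_on with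
  | empty => simpa using memLocalRing_zero hM
  | insert a s ha ih =>
    rw [Finset.sum_insert ha]
    exact memLocalRing_add hM (h a (Finset.mem_insert_self a s))
      (ih fun i hi => h i (Finset.mem_insert_of_mem hi))

theorem memLocalRing_prod (hM : M.IsPrime) {ι : Type*} (s : Finset ι) (f : ι → ℂ)
    (h : ∀ i ∈ s, MemLocalRing M (f i)) : MemLocalRing M (∏ i ∈ s, f i) := by
  classical
  induction s using Finset.induction_on with
  | empty => simpa using memLocalRing_one hM
  | insert a s ha ih =>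
    rw [Finset.prod_insert ha]
    exact memLocalRing_mul hM (h a (Finset.mem_insert_self a s))
      (ih fun i hi => h i (Finset.mem_insert_of_mem hi))

/-! ### The local ideal -/

theorem memLocalIdeal_add (hM : M.IsPrime) {x y : ℂ} (hx : MemLocalIdeal M x)
    (hy : MemLocalIdeal M y) : MemLocalIdeal M (x + y) := by
  obtain ⟨a, b, ha, hb, rfl⟩ := hx
  obtain ⟨c, d, hc, hd, rfl⟩ := hy
  refine ⟨a * d + c * b, b * d, ?_, ?_, ?_⟩
  · exact M.add_mem (M.mul_mem_right _ ha) (M.mul_mem_right _ hc)
  · intro h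
    rcases hM.mem_or_mem h with h | h
    · exact hb h
    · exact hd h
  · have hb' := coe_ne_zero_of_notMem hb
    have hd' := coe_ne_zero_of_notMem hd
    push_cast
    field_simp

theorem memLocalIdeal_neg {x : ℂ} (hx : MemLocalIdeal M x) : MemLocalIdeal M (-x) := by
  obtain ⟨a, b, ha, hb, rfl⟩ := hx
  refine ⟨-a, b, M.neg_mem ha, hb, ?_⟩
  push_cast
  ring

theorem memLocalIdeal_sub (hM : M.IsPrime) {x y : ℂ} (hx : MemLocalIdeal M x)
    (hy : MemLocalIdeal M y) : MemLocalIdeal M (x - y) := by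
  rw [sub_eq_add_neg]
  exact memLocalIdeal_add hM hx (memLocalIdeal_neg hy)

theorem memLocalIdeal_mul_left (hM : M.IsPrime) {x y : ℂ} (hx : MemLocalRing M x)
    (hy : MemLocalIdeal M y) : MemLocalIdeal M (x * y) := by
  obtain ⟨a, b, hb, rfl⟩ := hx
  obtain ⟨c, d, hc, hd, rfl⟩ := hy
  refine ⟨a * c, b * d, M.mul_mem_left _ hc, ?_, ?_⟩
  · intro h
    rcases hM.mem_or_mem h with h | h
    · exact hb h
    · exact hd h
  · have hb' := coe_ne_zero_of_notMem hb
    have hd' := coe_ne_zero_of_notMem hd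
    push_cast
    field_simp

theorem memLocalIdeal_mul_right (hM : M.IsPrime) {x y : ℂ} (hx : MemLocalIdeal M x)
    (hy : MemLocalRing M y) : MemLocalIdeal M (x * y) := by
  rw [mul_comm]
  exact memLocalIdeal_mul_left hM hy hx

theorem memLocalIdeal_sum (hM : M.IsPrime) {ι : Type*} (s : Finset ι) (f : ι → ℂ)
    (h : ∀ i ∈ s, MemLocalIdeal M (f i)) : MemLocalIdeal M (∑ i ∈ s, f i) := by
  classical
  induction s using Finset.induction_on with
  | empty => simpa using memLocalIdeal_zero hM
  | insert a s ha ih =>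
    rw [Finset.sum_insert ha]
    exact memLocalIdeal_add hM (h a (Finset.mem_insert_self a s))
      (ih fun i hi => h i (Finset.mem_insert_of_mem hi))

/-- An algebraic integer lies in the local ideal iff it lies in `M`. -/
theorem memLocalIdeal_algInt_iff (hM : M.IsPrime) (a : AlgInt) :
    MemLocalIdeal M (a : ℂ) ↔ a ∈ M := by
  constructor
  · rintro ⟨c, d, hc, hd, h⟩
    have hd' := coe_ne_zero_of_notMem hd
    have h2 : (c : ℂ) = (a : ℂ) * (d : ℂ) := by
      rw [← h]; field_simp
    have h3 : c = a * d := by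
      apply Subtype.ext
      rw [h2]; push_cast; rfl
    rw [h3] at hc
    rcases hM.mem_or_mem hc with h | h
    · exact h
    · exact absurd h hd
  · exact memLocalIdeal_of_mem hM

theorem not_memLocalIdeal_one (hM : M.IsPrime) : ¬ MemLocalIdeal M 1 := by
  intro h
  have : MemLocalIdeal M ((1 : AlgInt) : ℂ) := by simpa using h
  exact hM.one_notMem ((memLocalIdeal_algInt_iff hM 1).1 this)

/-- The ring of local integers is local: an element outside the local ideal is a unit. -/
theorem memLocalRing_inv (_hM : M.IsPrime) {z : ℂ} (hz : MemLocalRing M z)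
    (hz' : ¬ MemLocalIdeal M z) : MemLocalRing M z⁻¹ := by
  obtain ⟨a, b, hb, rfl⟩ := hz
  have ha : a ∉ M := fun ha => hz' ⟨a, b, ha, hb, rfl⟩
  refine ⟨b, a, ha, ?_⟩
  rw [inv_div]

theorem memLocalRing_div (hM : M.IsPrime) {x z : ℂ} (hx : MemLocalRing M x)
    (hz : MemLocalRing M z) (hz' : ¬ MemLocalIdeal M z) : MemLocalRing M (x / z) := by
  rw [div_eq_mul_inv]
  exact memLocalRing_mul hM hx (memLocalRing_inv hM hz hz')

/-- The local ideal is prime: a product of local integers lies in it iff a factor does. -/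
theorem memLocalIdeal_mul_iff (hM : M.IsPrime) {x y : ℂ} (hx : MemLocalRing M x)
    (hy : MemLocalRing M y) :
    MemLocalIdeal M (x * y) ↔ MemLocalIdeal M x ∨ MemLocalIdeal M y := by
  constructor
  · intro h
    by_contra hcon
    push Not at hcon
    have hxi := memLocalRing_inv hM hx hcon.1
    have hyi := memLocalRing_inv hM hy hcon.2
    have hx0 : x ≠ 0 := fun h0 => hcon.1 (h0 ▸ memLocalIdeal_zero hM)
    have hy0 : y ≠ 0 := fun h0 => hcon.2 (h0 ▸ memLocalIdeal_zero hM)
    have h1 : MemLocalIdeal M ((x⁻¹ * y⁻¹) * (x * y)) :=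
      memLocalIdeal_mul_left hM (memLocalRing_mul hM hxi hyi) h
    have h2 : (x⁻¹ * y⁻¹) * (x * y) = 1 := by field_simp
    rw [h2] at h1
    exact not_memLocalIdeal_one hM h1
  · rintro (h | h)
    · exact memLocalIdeal_mul_right hM h hy
    · exact memLocalIdeal_mul_left hM hx h

/-- A unit of the local ring times `y` lies in the local ideal iff `y` does
(for `y` a local integer). -/
theorem memLocalIdeal_unit_mul_iff (hM : M.IsPrime) {x y : ℂ} (hx : MemLocalRing M x)
    (hx' : ¬ MemLocalIdeal M x) (hy : MemLocalRing M y) :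
    MemLocalIdeal M (x * y) ↔ MemLocalIdeal M y := by
  rw [memLocalIdeal_mul_iff hM hx hy]
  tauto

/-! ### Rational integers -/

theorem isPrime_of_isPModular {p : ℕ} (hM : IsPModular p M) : M.IsPrime :=
  hM.2.1.isPrime

theorem natCast_mem_iff {p : ℕ} (hM : IsPModular p M) (n : ℕ) :
    ((n : AlgInt) ∈ M) ↔ p ∣ n := by
  constructor
  · intro hn
    by_contra hpn
    have hcop : Nat.Coprime n p := ((Nat.Prime.coprime_iff_not_dvd hM.1).2 hpn).symm
    have h1 : (1 : ℤ) = n * Nat.gcdA n p + p * Nat.gcdB n p := by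
      have := Nat.gcd_eq_gcd_ab n p
      rw [hcop] at this
      simpa using this
    have h2 : (1 : AlgInt) = (n : AlgInt) * ((Nat.gcdA n p : ℤ) : AlgInt)
        + (p : AlgInt) * ((Nat.gcdB n p : ℤ) : AlgInt) := by
      have := congrArg (fun z : ℤ => (z : AlgInt)) h1
      simpa using this
    have h3 : (1 : AlgInt) ∈ M := by
      rw [h2]
      exact M.add_mem (M.mul_mem_right _ hn) (M.mul_mem_right _ hM.2.2)
    exact (isPrime_of_isPModular hM).one_notMem h3
  · rintro ⟨k, rfl⟩
    push_cast
    exact M.mul_mem_right _ hM.2.2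

theorem intCast_mem_iff {p : ℕ} (hM : IsPModular p M) (n : ℤ) :
    ((n : AlgInt) ∈ M) ↔ (p : ℤ) ∣ n := by
  rcases Int.natAbs_eq n with h | h
  · rw [h]
    simp only [Int.cast_natCast]
    rw [natCast_mem_iff hM, Int.natCast_dvd_natCast]
  · rw [h]
    simp only [Int.cast_neg, Int.cast_natCast, neg_mem_iff, dvd_neg]
    rw [natCast_mem_iff hM, Int.natCast_dvd_natCast]

/-- A natural number lies in the local ideal iff `p` divides it. -/
theorem memLocalIdeal_natCast_iff {p : ℕ} (hM : IsPModular p M) (n : ℕ) :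
    MemLocalIdeal M (n : ℂ) ↔ p ∣ n := by
  have h := memLocalIdeal_algInt_iff (isPrime_of_isPModular hM) (n : AlgInt)
  rw [natCast_mem_iff hM] at h
  simpa using h

theorem memLocalIdeal_intCast_iff {p : ℕ} (hM : IsPModular p M) (n : ℤ) :
    MemLocalIdeal M (n : ℂ) ↔ (p : ℤ) ∣ n := by
  have h := memLocalIdeal_algInt_iff (isPrime_of_isPModular hM) (n : AlgInt)
  rw [intCast_mem_iff hM] at h
  simpa using h

/-- The inverse of a natural number prime to `p` is a local integer. -/
theorem memLocalRing_inv_natCast {p : ℕ} (hM : IsPModular p M) {n : ℕ} (hn : ¬ p ∣ n) :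
    MemLocalRing M ((n : ℂ)⁻¹) :=
  memLocalRing_inv (isPrime_of_isPModular hM) (memLocalRing_natCast (isPrime_of_isPModular hM) n)
    (fun h => hn ((memLocalIdeal_natCast_iff hM n).1 h))

/-- A quotient `a / b` of natural numbers with `b` prime to `p` is a local integer. -/
theorem memLocalRing_natCast_div {p : ℕ} (hM : IsPModular p M) (a : ℕ) {b : ℕ} (hb : ¬ p ∣ b) :
    MemLocalRing M ((a : ℂ) / (b : ℂ)) := by
  rw [div_eq_mul_inv]
  exact memLocalRing_mul (isPrime_of_isPModular hM)
    (memLocalRing_natCast (isPrime_of_isPModular hM) a) (memLocalRing_inv_natCast hM hb)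

/-! ### `SameBlock` is an equivalence relation; blocks partition the irreducible characters -/

section Blocks

universe u

variable {G : Type u} [Group G]

theorem sameBlock_refl (hM : M.IsPrime) (χ : G → ℂ) : SameBlock M χ χ := by
  intro g
  rw [sub_self]
  exact memLocalIdeal_zero hM

theorem sameBlock_symm {χ ψ : G → ℂ} (h : SameBlock M χ ψ) : SameBlock M ψ χ := by
  intro g
  have := memLocalIdeal_neg (h g)
  rwa [neg_sub] at this

theorem sameBlock_trans (hM : M.IsPrime) {χ ψ θ : G → ℂ} (h₁ : SameBlock M χ ψ)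
    (h₂ : SameBlock M ψ θ) : SameBlock M χ θ := by
  intro g
  have := memLocalIdeal_add hM (h₁ g) (h₂ g)
  rwa [sub_add_sub_cancel] at this

theorem mem_blockOf_iff {χ : G → ℂ} {ψ : IrrCharacter G} :
    ψ ∈ blockOf M χ ↔ SameBlock M χ (ψ : G → ℂ) := Iff.rfl

theorem mem_blockOf_self (hM : M.IsPrime) (χ : IrrCharacter G) :
    χ ∈ blockOf M (χ : G → ℂ) :=
  sameBlock_refl hM _

theorem blockOf_eq_of_sameBlock (hM : M.IsPrime) {χ ψ : G → ℂ} (h : SameBlock M χ ψ) :
    blockOf M χ = blockOf M ψ := by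
  ext θ
  exact ⟨fun hθ => sameBlock_trans hM (sameBlock_symm h) hθ, fun hθ => sameBlock_trans hM h hθ⟩

/-- A block is the block of each of its members. -/
theorem isPBlock_eq_blockOf (hM : M.IsPrime) {B : Set (IrrCharacter G)} (hB : IsPBlock M B)
    {χ : IrrCharacter G} (hχ : χ ∈ B) : B = blockOf M (χ : G → ℂ) := by
  obtain ⟨χ₀, rfl⟩ := hB
  exact blockOf_eq_of_sameBlock hM hχ

theorem isPBlock_nonempty (hM : M.IsPrime) {B : Set (IrrCharacter G)} (hB : IsPBlock M B) :
    B.Nonempty := by
  obtain ⟨χ₀, rfl⟩ := hB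
  exact ⟨χ₀, mem_blockOf_self hM χ₀⟩

theorem isPBlock_blockOf (χ : IrrCharacter G) : IsPBlock M (blockOf M (χ : G → ℂ)) :=
  ⟨χ, rfl⟩

/-- Two members of a block are in the same block. -/
theorem isPBlock_sameBlock (hM : M.IsPrime) {B : Set (IrrCharacter G)} (hB : IsPBlock M B)
    {χ ψ : IrrCharacter G} (hχ : χ ∈ B) (hψ : ψ ∈ B) :
    SameBlock M (χ : G → ℂ) (ψ : G → ℂ) := by
  rw [isPBlock_eq_blockOf hM hB hχ] at hψ
  exact hψ

/-- A block is closed under `SameBlock`. -/
theorem isPBlock_mem_of_sameBlock (hM : M.IsPrime) {B : Set (IrrCharacter G)}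
    (hB : IsPBlock M B) {χ ψ : IrrCharacter G} (hχ : χ ∈ B)
    (h : SameBlock M (χ : G → ℂ) (ψ : G → ℂ)) : ψ ∈ B := by
  rw [isPBlock_eq_blockOf hM hB hχ]
  exact h

/-- Two blocks with a common member are equal. -/
theorem isPBlock_eq_of_mem_of_mem (hM : M.IsPrime) {B B' : Set (IrrCharacter G)}
    (hB : IsPBlock M B) (hB' : IsPBlock M B') {χ : IrrCharacter G} (hχ : χ ∈ B)
    (hχ' : χ ∈ B') : B = B' := by
  rw [isPBlock_eq_blockOf hM hB hχ, isPBlock_eq_blockOf hM hB' hχ']

/-- Two distinct blocks are disjoint. -/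
theorem isPBlock_disjoint_of_ne (hM : M.IsPrime) {B B' : Set (IrrCharacter G)}
    (hB : IsPBlock M B) (hB' : IsPBlock M B') (hne : B ≠ B') : Disjoint B B' := by
  rw [Set.disjoint_left]
  intro χ hχ hχ'
  exact hne (isPBlock_eq_of_mem_of_mem hM hB hB' hχ hχ')

end Blocks

end Cfsg.Agent.Lib.Helper78_LocalRing
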