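import Mathlib.RepresentationTheory.Character
import Mathlib.RepresentationTheory.Irreducible
import Mathlib.Analysis.Complex.Basic
import Mathlib.Analysis.Complex.Polynomial.Basic

/-!
# Class sums act as scalars on irreducible representations (Schur)

For an irreducible finite-dimensional complex representation `ρ` of a finite group `G` with
character `χ`, the operator `∑ g, ρ (g * y * g⁻¹)` is the scalar `|G| χ(y) / χ(1)`.  Consequently
`|G| χ(x) χ(y) = χ(1) ∑ g, χ (x * (g * y * g⁻¹))`.
-/

set_option autoImplicit false

namespace Cfsg.Agent.Lib.Helper79_ClassAlgebra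

open Representation

section

variable {G : Type*} [Group G] [Fintype G] {V : Type*} [AddCommGroup V] [Module ℂ V]
  (ρ : Representation ℂ G V)

/-- The class-sum operator `∑ g, ρ (g * y * g⁻¹)`. -/
noncomputable def classSumOp (y : G) : Module.End ℂ V := ∑ g : G, ρ (g * y * g⁻¹)

lemma classSumOp_comm (y h : G) : ρ h * classSumOp ρ y = classSumOp ρ y * ρ h := by
  unfold classSumOp
  rw [Finset.mul_sum, Finset.sum_mul]
  refine Fintype.sum_equiv (Equiv.mulLeft h) _ _ (fun g => ?_)
  simp only [Equiv.coe_mulLeft, ← map_mul]
  congr 1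
  group

/-- The class-sum operator as an intertwining map. -/
noncomputable def classSumIntertwining (y : G) : IntertwiningMap ρ ρ where
  toLinearMap := classSumOp ρ y
  isIntertwining' h := (classSumOp_comm ρ y h).symm

variable [FiniteDimensional ℂ V]

omit [FiniteDimensional ℂ V] in
lemma trace_classSumOp (y : G) :
    LinearMap.trace ℂ V (classSumOp ρ y) = (Fintype.card G : ℂ) * ρ.character y := by
  unfold classSumOp
  rw [map_sum]
  have : ∀ g : G, LinearMap.trace ℂ V (ρ (g * y * g⁻¹)) = ρ.character y := fun g =>
    ρ.char_conj y g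
  simp only [this]
  simp

omit [Fintype G] in
lemma finrank_ne_zero_of_irreducible [ρ.IsIrreducible] : (Module.finrank ℂ V : ℂ) ≠ 0 := by
  have : Nontrivial V := by
    by_contra hV
    rw [not_nontrivial_iff_subsingleton] at hV
    have h1 : (⊥ : Subrepresentation ρ) ≠ ⊤ := bot_ne_top
    apply h1
    ext v
    simp [Subsingleton.elim v 0]
  exact_mod_cast (Module.finrank_pos (R := ℂ) (M := V)).ne'

/-- Schur: the class-sum operator is a scalar. -/
theorem classSumOp_eq_smul [ρ.IsIrreducible] (y : G) :
    classSumOp ρ y =
      ((Fintype.card G : ℂ) * ρ.character y / (Module.finrank ℂ V : ℂ)) • (1 : Module.End ℂ V) := by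
  obtain ⟨c, hc⟩ :=
    (IsIrreducible.algebraMap_intertwiningMap_bijective_of_isAlgClosed (ρ := ρ)).2
      (classSumIntertwining ρ y)
  have hc' : classSumOp ρ y = c • (1 : Module.End ℂ V) := by
    have := congrArg IntertwiningMap.toLinearMap hc
    rw [IntertwiningMap.algebraMap_apply] at this
    exact this.symm
  have hnz := finrank_ne_zero_of_irreducible ρ
  have htr := trace_classSumOp ρ y
  rw [hc', map_smul, LinearMap.trace_one, smul_eq_mul] at htr
  rw [hc']
  congr 1
  field_simp
  linear_combination htr

/-- The key product formula: `|G| χ(x) χ(y) = χ(1) ∑ g, χ (x * (g * y * g⁻¹))`. -/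
theorem card_mul_char_mul_char [ρ.IsIrreducible] (x y : G) :
    (Fintype.card G : ℂ) * ρ.character x * ρ.character y =
      (Module.finrank ℂ V : ℂ) * ∑ g : G, ρ.character (x * (g * y * g⁻¹)) := by
  have hnz := finrank_ne_zero_of_irreducible ρ
  have h1 : ∑ g : G, ρ.character (x * (g * y * g⁻¹)) =
      LinearMap.trace ℂ V (ρ x * classSumOp ρ y) := by
    unfold classSumOp
    rw [Finset.mul_sum, map_sum]
    refine Finset.sum_congr rfl (fun g _ => ?_)
    simp [Representation.character]
  rw [h1, classSumOp_eq_smul, mul_smul_comm, map_smul, mul_one, smul_eq_mul]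
  change _ = _ * (_ * ρ.character x)
  field_simp

end

end Cfsg.Agent.Lib.Helper79_ClassAlgebra
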