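import Mathlib
import Cfsg.Prelude.Def_Blocks
import Cfsg.Agent.Lib.Helper79_ClassAlgebra
import Cfsg.Agent.Lib.Helper16_Char
import Cfsg.Agent.Lib.Helper78_LocalRing

/-!
# Central characters are algebraic integers

For an irreducible finite-dimensional complex representation `ρ` of a finite group `G` with
character `χ`, the number `|G : C_G(x)| χ(x) / χ(1)` is integral over `ℤ`.  The proof: the
`ℤ`-span of the finitely many numbers `χ(y) / χ(1)` is stable under multiplication by it.
-/

set_option autoImplicit false

namespace Cfsg.Agent.Lib.Helper77_CentralInt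

open Cfsg Cfsg.Agent.Lib.Helper79_ClassAlgebra Cfsg.Agent.Lib.Helper16_Char

section

variable {G : Type*} [Group G] [Fintype G] {V : Type*} [AddCommGroup V] [Module ℂ V]
  [FiniteDimensional ℂ V] (ρ : Representation ℂ G V)

open scoped Classical in
/-- `ω(x) * (χ(y)/χ(1)) = ∑_{x' ~ x} χ(x' y)/χ(1)`. -/
theorem centralValue_mul [ρ.IsIrreducible] (x y : G) :
    ((Subgroup.centralizer ({x} : Set G)).index : ℂ) * ρ.character x / (Module.finrank ℂ V : ℂ) *
      (ρ.character y / (Module.finrank ℂ V : ℂ)) =
    ∑ k : G, if IsConj x k then ρ.character (y * k) / (Module.finrank ℂ V : ℂ) else 0 := by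
  have hd : (Module.finrank ℂ V : ℂ) ≠ 0 := finrank_ne_zero_of_irreducible ρ
  have h1 := card_mul_char_mul_char ρ y x
  -- rewrite the sum over `g` as a sum over the class of `x`
  have h2 : ∑ g : G, ρ.character (y * (g * x * g⁻¹)) =
      (Nat.card (Subgroup.centralizer ({x} : Set G)) : ℂ) *
        ∑ k : G, if IsConj x k then ρ.character (y * k) else 0 := by
    have := sum_conj_eq x (fun k => ρ.character (y * k))
    rw [nsmul_eq_mul] at this
    rw [← this]
    refine Fintype.sum_equiv (Equiv.inv G) _ _ (fun g => ?_)
    simp
  rw [h2] at h1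
  have hcard : (Nat.card G : ℂ) = ((Subgroup.centralizer ({x} : Set G)).index : ℂ) *
      (Nat.card (Subgroup.centralizer ({x} : Set G)) : ℂ) := by
    rw [← Nat.cast_mul, mul_comm, Subgroup.card_mul_index]
  have hC : (Nat.card (Subgroup.centralizer ({x} : Set G)) : ℂ) ≠ 0 := by
    exact_mod_cast Nat.card_pos.ne'
  rw [← Nat.card_eq_fintype_card, hcard] at h1
  have h3 : ((Subgroup.centralizer ({x} : Set G)).index : ℂ) * ρ.character y * ρ.character x =
      (Module.finrank ℂ V : ℂ) * ∑ k : G, if IsConj x k then ρ.character (y * k) else 0 := by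
    apply mul_left_cancel₀ hC
    linear_combination h1
  have h4 : ∑ k : G, (if IsConj x k then ρ.character (y * k) / (Module.finrank ℂ V : ℂ) else 0) =
      (∑ k : G, if IsConj x k then ρ.character (y * k) else 0) / (Module.finrank ℂ V : ℂ) := by
    rw [Finset.sum_div]
    refine Finset.sum_congr rfl (fun k _ => ?_)
    split_ifs <;> simp
  rw [h4]
  field_simp
  linear_combination h3

/-- **Integrality of central characters** (representation form, the content of S0141). -/
theorem isIntegral_centralValue [ρ.IsIrreducible] (x : G) :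
    IsIntegral ℤ (((Subgroup.centralizer ({x} : Set G)).index : ℂ) * ρ.character x /
      (Module.finrank ℂ V : ℂ)) := by
  classical
  have hd : (Module.finrank ℂ V : ℂ) ≠ 0 := finrank_ne_zero_of_irreducible ρ
  set N : Submodule ℤ ℂ :=
    Submodule.span ℤ (Set.range fun y : G => ρ.character y / (Module.finrank ℂ V : ℂ)) with hN
  have hfg : N.FG := Submodule.fg_span (Set.finite_range _)
  have hne : N ≠ ⊥ := by
    intro h
    have h1 : ρ.character 1 / (Module.finrank ℂ V : ℂ) ∈ N :=
      Submodule.subset_span ⟨1, rfl⟩
    rw [h, Submodule.mem_bot, Representation.char_one, div_self hd] at h1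
    exact one_ne_zero h1
  refine isIntegral_of_smul_mem_submodule N hne hfg _ ?_
  intro n hn
  induction hn using Submodule.span_induction with
  | mem z hz =>
    obtain ⟨y, rfl⟩ := hz
    rw [smul_eq_mul, centralValue_mul]
    refine Submodule.sum_mem _ (fun k _ => ?_)
    split_ifs
    · exact Submodule.subset_span ⟨y * k, rfl⟩
    · exact Submodule.zero_mem _
  | zero => simp
  | add a b _ _ ha hb => rw [smul_add]; exact Submodule.add_mem _ ha hb
  | smul r a _ ha =>
    rw [smul_comm]; exact Submodule.smul_mem _ r ha

end

/-- Integrality of `centralChar` for irreducible characters in the sense of `Cfsg`. -/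
theorem isIntegral_centralChar {G : Type*} [Group G] [Finite G] (χ : G → ℂ)
    (hχ : IsIrrCharacter G χ) (g : G) : IsIntegral ℤ (centralChar χ g) := by
  have := Fintype.ofFinite G
  obtain ⟨n, ρ, hρ, rfl⟩ := hχ
  have := isIntegral_centralValue ρ g
  unfold centralChar
  rwa [Representation.char_one]

/-- Central character values are local integers at any prime ideal of the algebraic integers. -/
theorem memLocalRing_centralChar {G : Type*} [Group G] [Finite G] (M : Ideal AlgInt)
    (hM : M.IsPrime) (χ : G → ℂ) (hχ : IsIrrCharacter G χ) (g : G) :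
    MemLocalRing M (centralChar χ g) :=
  Cfsg.Agent.Lib.Helper78_LocalRing.memLocalRing_algInt hM
    ⟨centralChar χ g, isIntegral_centralChar χ hχ g⟩

end Cfsg.Agent.Lib.Helper77_CentralInt
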