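import Mathlib
import Cfsg.Prelude.Def_Characters
import Cfsg.Agent.Lib.Helper3_CharColumn
import Cfsg.Agent.Lib.Helper77_CentralInt

/-!
# The degree of an irreducible character divides the group order; Burnside's lemmas (helper3).
-/

set_option autoImplicit false
set_option linter.unusedSectionVars false

namespace Cfsg.Agent.Lib.Helper3_CharDegree

open Representation
open scoped ComplexConjugate
open Cfsg.Agent.Lib.Helper3_CharBridge Cfsg.Agent.Lib.Helper3_CharEigen
  Cfsg.Agent.Lib.Helper3_CharOrtho Cfsg.Agent.Lib.Helper3_CharComplete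
  Cfsg.Agent.Lib.Helper3_CharColumn

section classsum

variable {G : Type*} [Group G] [Fintype G]

open scoped Classical in
/-- Sum of a class function over the group, grouped by conjugacy classes:
each class `C` contributes `|C| * f(x_C)`. -/
theorem sum_eq_sum_conjClasses (f : G → ℂ) (hf : Cfsg.IsClassFunction G f) :
    ∑ g : G, f g = ∑ C : ConjClasses G,
      ((conjFinset (Quotient.out C)).card : ℂ) * f (Quotient.out C) := by
  rw [← Finset.sum_fiberwise Finset.univ (fun g : G => ConjClasses.mk g) f]
  refine Finset.sum_congr rfl (fun C _ => ?_)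
  have h1 : Finset.univ.filter (fun g : G => ConjClasses.mk g = C) = conjFinset (Quotient.out C) := by
    ext g
    rw [Finset.mem_filter, mem_conjFinset]
    simp only [Finset.mem_univ, true_and]
    have h2 : ConjClasses.mk (Quotient.out C) = C := Quotient.out_eq C
    rw [← ConjClasses.mk_eq_mk_iff_isConj, h2]
  rw [h1, ← nsmul_eq_mul, ← Finset.sum_const]
  refine Finset.sum_congr rfl (fun g hg => ?_)
  exact classFunction_apply_of_isConj hf (mem_conjFinset.mp hg)

end classsum

section rat

/-- A quotient of naturals which is an algebraic integer is an integer. -/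
theorem dvd_of_isIntegral_div {n d : ℕ} (hd : d ≠ 0)
    (h : IsIntegral ℤ ((n : ℂ) / (d : ℂ))) : d ∣ n := by
  have h1 : ((n : ℂ) / (d : ℂ)) = algebraMap ℚ ℂ ((n : ℚ) / (d : ℚ)) := by
    simp
  rw [h1] at h
  have h2 : IsIntegral ℤ ((n : ℚ) / (d : ℚ)) :=
    (isIntegral_algebraMap_iff (algebraMap ℚ ℂ).injective).mp h
  obtain ⟨y, hy⟩ := IsIntegrallyClosed.isIntegral_iff.mp h2
  have hd' : (d : ℚ) ≠ 0 := by exact_mod_cast hd
  have h3 : (n : ℚ) = (y : ℚ) * (d : ℚ) := by
    rw [eq_div_iff hd'] at hy
    simpa using hy.symm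
  have h4 : (n : ℤ) = y * (d : ℤ) := by exact_mod_cast h3
  have h5 : (d : ℤ) ∣ (n : ℤ) := ⟨y, by rw [h4, mul_comm]⟩
  exact_mod_cast h5

end rat

section degree

variable {G : Type*} [Group G] [Fintype G]
variable {V : Type*} [AddCommGroup V] [Module ℂ V] [FiniteDimensional ℂ V]

theorem finrank_ne_zero_of_irr (ρ : Representation ℂ G V) [ρ.IsIrreducible] :
    Module.finrank ℂ V ≠ 0 := by
  obtain ⟨n, hn, h1⟩ := irr_one_eq_natCast (isIrrCharacter_of_rep ρ)
  rw [char_one] at h1
  have : Module.finrank ℂ V = n := by exact_mod_cast h1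
  omega

/-- The degree of an irreducible representation divides the group order. -/
theorem finrank_dvd_card (ρ : Representation ℂ G V) [ρ.IsIrreducible] :
    Module.finrank ℂ V ∣ Nat.card G := by
  classical
  have hd := finrank_ne_zero_of_irr ρ
  apply dvd_of_isIntegral_div hd
  have hdc : (Module.finrank ℂ V : ℂ) ≠ 0 := by exact_mod_cast hd
  have h1 := classInner_self_of_isIrrCharacter (isIrrCharacter_of_rep ρ)
  rw [Cfsg.classInner] at h1
  have hG : (Nat.card G : ℂ) ≠ 0 := card_ne_zero_complex
  have h2 : ∑ g : G, ρ.character g * conj (ρ.character g) = (Nat.card G : ℂ) := by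
    field_simp at h1
    exact h1
  have hcf : Cfsg.IsClassFunction G (fun g => ρ.character g * conj (ρ.character g)) := by
    intro g h
    simp only [char_conj]
  rw [sum_eq_sum_conjClasses _ hcf] at h2
  rw [← h2, Finset.sum_div]
  refine IsIntegral.sum _ (fun C _ => ?_)
  have h3 : ((conjFinset (Quotient.out C)).card : ℂ) *
      (ρ.character (Quotient.out C) * conj (ρ.character (Quotient.out C))) /
        (Module.finrank ℂ V : ℂ) =
      (((Subgroup.centralizer ({Quotient.out C} : Set G)).index : ℂ) *
        ρ.character (Quotient.out C) / (Module.finrank ℂ V : ℂ)) *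
          conj (ρ.character (Quotient.out C)) := by
    rw [card_conjFinset_eq_index]
    ring
  rw [h3]
  refine IsIntegral.mul (Cfsg.Agent.Lib.Helper77_CentralInt.isIntegral_centralValue ρ _) ?_
  rw [← char_inv]
  exact isIntegral_char ρ _

end degree

end Cfsg.Agent.Lib.Helper3_CharDegree
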