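import Mathlib
import Cfsg.Prelude.Def_Characters
import Cfsg.Agent.Lib.Helper3_CharBridge
import Cfsg.Agent.Lib.Helper3_CharOrtho
import Cfsg.Agent.Lib.Helper3_CharComplete

/-!
# Arithmetic of characters (helper75)

Sums and natural multiples of characters are characters; restriction of a character is a
character; inner products of characters are natural numbers; a character is the combination
of the irreducible characters with natural coefficients.
-/

set_option autoImplicit false

namespace Cfsg.Agent.Lib.Helper75_CharArith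

open scoped ComplexConjugate
open Cfsg.Agent.Lib.Helper3_CharBridge Cfsg.Agent.Lib.Helper3_CharOrtho
  Cfsg.Agent.Lib.Helper3_CharComplete

variable {G : Type*} [Group G]

theorem isCharacter_zero : Cfsg.IsCharacter G (0 : G → ℂ) := by
  refine ⟨0, 1, ?_⟩
  funext g
  simp [Representation.character]

theorem isCharacter_add {χ ψ : G → ℂ} (hχ : Cfsg.IsCharacter G χ) (hψ : Cfsg.IsCharacter G ψ) :
    Cfsg.IsCharacter G (χ + ψ) := by
  obtain ⟨n, ρ, rfl⟩ := hχ
  obtain ⟨m, σ, rfl⟩ := hψ
  have h := isCharacter_of_rep (ρ.prod σ)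
  have h2 : (ρ.prod σ).character = ρ.character + σ.character := by
    funext g
    simp only [Representation.character, Pi.add_apply]
    exact LinearMap.trace_prodMap' (ρ g) (σ g)
  rwa [h2] at h

theorem isCharacter_nsmul {χ : G → ℂ} (n : ℕ) (hχ : Cfsg.IsCharacter G χ) :
    Cfsg.IsCharacter G (n • χ) := by
  induction n with
  | zero => rw [zero_smul]; exact isCharacter_zero
  | succ k ih => rw [succ_nsmul]; exact isCharacter_add ih hχ

theorem isCharacter_sum {ι : Type*} (s : Finset ι) (f : ι → G → ℂ)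
    (h : ∀ i ∈ s, Cfsg.IsCharacter G (f i)) : Cfsg.IsCharacter G (∑ i ∈ s, f i) := by
  classical
  induction s using Finset.induction_on with
  | empty => rw [Finset.sum_empty]; exact isCharacter_zero
  | insert a s ha ih =>
    rw [Finset.sum_insert ha]
    exact isCharacter_add (h a (Finset.mem_insert_self a s))
      (ih (fun i hi => h i (Finset.mem_insert_of_mem hi)))

/-- Pulling a character back along a group homomorphism gives a character. -/
theorem isCharacter_comp {K : Type*} [Group K] (f : K →* G) {χ : G → ℂ}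
    (hχ : Cfsg.IsCharacter G χ) : Cfsg.IsCharacter K (fun k => χ (f k)) := by
  obtain ⟨n, ρ, rfl⟩ := hχ
  exact ⟨n, ρ.comp f, rfl⟩

/-- The restriction of a character to a subgroup is a character. -/
theorem isCharacter_restrict (H : Subgroup G) {χ : G → ℂ} (hχ : Cfsg.IsCharacter G χ) :
    Cfsg.IsCharacter H (fun h : H => χ h) :=
  isCharacter_comp H.subtype hχ

/-- The inner product of two characters is a natural number. -/
theorem classInner_isCharacter_nat [Fintype G] {χ ψ : G → ℂ} (hχ : Cfsg.IsCharacter G χ)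
    (hψ : Cfsg.IsCharacter G ψ) : ∃ n : ℕ, Cfsg.classInner χ ψ = n := by
  obtain ⟨n, ρ, rfl⟩ := hχ
  obtain ⟨m, σ, rfl⟩ := hψ
  exact ⟨_, classInner_char_eq_finrank σ ρ⟩

/-- A class function all of whose inner products with irreducible characters are natural
numbers is a character. -/
theorem isCharacter_of_classInner_nat [Fintype G] {ψ : G → ℂ} (hψ : Cfsg.IsClassFunction G ψ)
    (h : ∀ χ : Cfsg.IrrCharacter G, ∃ n : ℕ, Cfsg.classInner ψ χ = n) :
    Cfsg.IsCharacter G ψ := by
  rw [classFunction_eq_sum ψ hψ]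
  apply isCharacter_sum
  intro χ _
  obtain ⟨n, hn⟩ := h χ
  rw [hn]
  have : ((n : ℂ) • (χ : G → ℂ)) = n • (χ : G → ℂ) := by
    funext g
    simp
  rw [this]
  exact isCharacter_nsmul n (isCharacter_of_isIrrCharacter χ.2)


/-- Inner product of a class function with anything, expanded along the irreducible characters. -/
theorem classInner_eq_sum_irr [Fintype G] {φ : G → ℂ} (hφ : Cfsg.IsClassFunction G φ)
    (ψ : G → ℂ) :
    Cfsg.classInner φ ψ =
      ∑ χ : Cfsg.IrrCharacter G, Cfsg.classInner φ χ * Cfsg.classInner (χ : G → ℂ) ψ := by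
  conv_lhs => rw [classFunction_eq_sum φ hφ]
  rw [classInner_sum_left]
  apply Finset.sum_congr rfl
  intro χ _
  rw [classInner_smul_left]

/-- Parseval: `[φ, φ] = ∑ |[φ, χ]|²`. -/
theorem classInner_self_eq_sum [Fintype G] {φ : G → ℂ} (hφ : Cfsg.IsClassFunction G φ) :
    Cfsg.classInner φ φ =
      ∑ χ : Cfsg.IrrCharacter G, Cfsg.classInner φ χ * conj (Cfsg.classInner φ χ) := by
  rw [classInner_eq_sum_irr hφ φ]
  apply Finset.sum_congr rfl
  intro χ _
  rw [classInner_conj_symm φ χ]

/-- A character is the natural combination of irreducible characters given by the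
multiplicities. -/
theorem exists_multiplicities [Fintype G] {φ : G → ℂ} (hφ : Cfsg.IsCharacter G φ) :
    ∃ m : Cfsg.IrrCharacter G → ℕ, (∀ χ : Cfsg.IrrCharacter G, Cfsg.classInner φ χ = m χ) ∧
      φ = ∑ χ : Cfsg.IrrCharacter G, (m χ : ℂ) • (χ : G → ℂ) := by
  have h : ∀ χ : Cfsg.IrrCharacter G, ∃ n : ℕ, Cfsg.classInner φ χ = n := fun χ =>
    classInner_isCharacter_nat hφ (isCharacter_of_isIrrCharacter χ.2)
  choose m hm using h
  refine ⟨m, hm, ?_⟩
  conv_lhs => rw [classFunction_eq_sum φ (isClassFunction_of_isCharacter hφ)]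
  apply Finset.sum_congr rfl
  intro χ _
  rw [hm χ]

/-- **Irreducibility criterion**: a character of norm one is irreducible. -/
theorem isIrrCharacter_of_classInner_self [Fintype G] {φ : G → ℂ} (hφ : Cfsg.IsCharacter G φ)
    (h1 : Cfsg.classInner φ φ = 1) : Cfsg.IsIrrCharacter G φ := by
  classical
  obtain ⟨m, hm, hsum⟩ := exists_multiplicities hφ
  have h2 := classInner_self_eq_sum (isClassFunction_of_isCharacter hφ)
  rw [h1] at h2
  have h3 : (1 : ℂ) = ((∑ χ : Cfsg.IrrCharacter G, m χ * m χ : ℕ) : ℂ) := by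
    rw [h2]
    push_cast
    apply Finset.sum_congr rfl
    intro χ _
    rw [hm χ, Complex.conj_natCast]
  have h4 : (∑ χ : Cfsg.IrrCharacter G, m χ * m χ) = 1 := by
    have : ((1 : ℕ) : ℂ) = ((∑ χ : Cfsg.IrrCharacter G, m χ * m χ : ℕ) : ℂ) := by
      rw [← h3]; simp
    exact (Nat.cast_injective this).symm
  -- some m χ₀ ≠ 0
  have h5 : ∃ χ₀, m χ₀ ≠ 0 := by
    by_contra hcon
    have hcon' : ∀ χ, m χ = 0 := fun χ => by
      by_contra h
      exact hcon ⟨χ, h⟩
    simp [hcon'] at h4
  obtain ⟨χ₀, hχ₀⟩ := h5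
  have h6 : ∀ χ, χ ≠ χ₀ → m χ = 0 := by
    intro χ hne
    by_contra hχ
    have h7 : m χ₀ * m χ₀ + m χ * m χ ≤ ∑ χ : Cfsg.IrrCharacter G, m χ * m χ := by
      have : ({χ₀, χ} : Finset (Cfsg.IrrCharacter G)) ⊆ Finset.univ := Finset.subset_univ _
      calc m χ₀ * m χ₀ + m χ * m χ = ∑ ψ ∈ ({χ₀, χ} : Finset (Cfsg.IrrCharacter G)), m ψ * m ψ := by
            rw [Finset.sum_pair (Ne.symm hne)]
        _ ≤ _ := Finset.sum_le_sum_of_subset this
    have h8 : 1 ≤ m χ₀ * m χ₀ := Nat.mul_pos (Nat.pos_of_ne_zero hχ₀) (Nat.pos_of_ne_zero hχ₀)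
    have h9 : 1 ≤ m χ * m χ := Nat.mul_pos (Nat.pos_of_ne_zero hχ) (Nat.pos_of_ne_zero hχ)
    omega
  have h7 : m χ₀ * m χ₀ = 1 := by
    rw [← h4]
    symm
    apply Finset.sum_eq_single χ₀
    · intro χ _ hne
      rw [h6 χ hne, mul_zero]
    · intro h; exact absurd (Finset.mem_univ _) h
  have h8 : m χ₀ = 1 := Nat.eq_one_of_mul_eq_one_left h7
  have h9 : φ = (χ₀ : G → ℂ) := by
    rw [hsum]
    rw [Finset.sum_eq_single χ₀]
    · rw [h8]; simp
    · intro χ _ hne
      rw [h6 χ hne]; simp
    · intro h; exact absurd (Finset.mem_univ _) h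
  rw [h9]
  exact χ₀.2

end Cfsg.Agent.Lib.Helper75_CharArith
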