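import Mathlib

/-!
# Groups with a self-centralizing element of prime order

Shared lemmas (helper75) for statements about a finite group `G` containing an element `x`
of prime order `p` with `C_G(x) = ⟨x⟩`.
-/

set_option autoImplicit false

namespace Cfsg.Agent.Lib.Helper75_SelfCent

open Subgroup
open scoped commutatorElement

variable {G : Type*} [Group G]

theorem mem_zpowers_of_comm {x : G}
    (hC : Subgroup.centralizer ({x} : Set G) = Subgroup.zpowers x) {y : G}
    (h : x * y = y * x) : y ∈ Subgroup.zpowers x := by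
  rw [← hC]
  exact Subgroup.mem_centralizer_singleton_iff.mpr h.symm

theorem comm_of_mem_zpowers {x y : G} (h : y ∈ Subgroup.zpowers x) : x * y = y * x := by
  obtain ⟨k, rfl⟩ := h
  exact ((Commute.refl x).zpow_right k).eq

/-- In a cyclic group of prime order every nontrivial element generates. -/
theorem mem_zpowers_of_mem_zpowers_ne_one {p : ℕ} (hp : p.Prime) {x : G} (hx : orderOf x = p)
    {y : G} (hy : y ∈ Subgroup.zpowers x) (hy1 : y ≠ 1) : x ∈ Subgroup.zpowers y := by
  have : Fact p.Prime := ⟨hp⟩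
  have hcard : Nat.card (Subgroup.zpowers x) = p := by rw [Nat.card_zpowers, hx]
  have h1 : (⟨y, hy⟩ : Subgroup.zpowers x) ≠ 1 := by
    intro h
    exact hy1 (congrArg Subtype.val h)
  have := mem_zpowers_of_prime_card (G := Subgroup.zpowers x) hcard (g := ⟨y, hy⟩)
    (g' := ⟨x, Subgroup.mem_zpowers x⟩) h1
  obtain ⟨k, hk⟩ := this
  refine ⟨k, ?_⟩
  have := congrArg Subtype.val hk
  simpa using this

theorem zpowers_eq_of_mem_zpowers_ne_one {p : ℕ} (hp : p.Prime) {x : G} (hx : orderOf x = p)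
    {y : G} (hy : y ∈ Subgroup.zpowers x) (hy1 : y ≠ 1) :
    Subgroup.zpowers y = Subgroup.zpowers x := by
  apply le_antisymm
  · exact Subgroup.zpowers_le.mpr hy
  · exact Subgroup.zpowers_le.mpr (mem_zpowers_of_mem_zpowers_ne_one hp hx hy hy1)

theorem x_ne_one {p : ℕ} (hp : p.Prime) {x : G} (hx : orderOf x = p) : x ≠ 1 := by
  intro h
  rw [h, orderOf_one] at hx
  exact hp.one_lt.ne hx

/-- The centralizer of any nontrivial power of `x` is again `⟨x⟩`. -/
theorem centralizer_of_mem_zpowers {p : ℕ} (hp : p.Prime) {x : G} (hx : orderOf x = p)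
    (hC : Subgroup.centralizer ({x} : Set G) = Subgroup.zpowers x)
    {y : G} (hy : y ∈ Subgroup.zpowers x) (hy1 : y ≠ 1) :
    Subgroup.centralizer ({y} : Set G) = Subgroup.zpowers x := by
  have h1 : Subgroup.centralizer ({y} : Set G) = Subgroup.centralizer ({x} : Set G) := by
    rw [← Subgroup.centralizer_closure ({y} : Set G), ← Subgroup.centralizer_closure ({x} : Set G),
      ← Subgroup.zpowers_eq_closure, ← Subgroup.zpowers_eq_closure,
      zpowers_eq_of_mem_zpowers_ne_one hp hx hy hy1]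
  rw [h1, hC]

theorem centralizer_zpowers {x : G}
    (hC : Subgroup.centralizer ({x} : Set G) = Subgroup.zpowers x) :
    Subgroup.centralizer ((Subgroup.zpowers x : Subgroup G) : Set G) = Subgroup.zpowers x := by
  rw [Subgroup.zpowers_eq_closure, Subgroup.centralizer_closure, hC, Subgroup.zpowers_eq_closure]

/-- Any `p`-subgroup containing `x` is `⟨x⟩`. -/
theorem pgroup_le_zpowers [Finite G] {p : ℕ} (hp : p.Prime) {x : G} (hx : orderOf x = p)
    (hC : Subgroup.centralizer ({x} : Set G) = Subgroup.zpowers x)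
    (Q : Subgroup G) (hQ : IsPGroup p Q) (hxQ : x ∈ Q) : Q = Subgroup.zpowers x := by
  have : Fact p.Prime := ⟨hp⟩
  apply le_antisymm _ (Subgroup.zpowers_le.mpr hxQ)
  have : Nontrivial Q := by
    refine ⟨⟨⟨x, hxQ⟩, 1, ?_⟩⟩
    intro h
    exact x_ne_one hp hx (congrArg Subtype.val h)
  have := hQ.center_nontrivial
  obtain ⟨z, hz1⟩ := exists_ne (1 : Subgroup.center Q)
  have hzc : ∀ q : Q, q * (z : Q) = (z : Q) * q := fun q =>
    Subgroup.mem_center_iff.mp z.2 q
  have hzG1 : ((z : Q) : G) ≠ 1 := by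
    intro h
    apply hz1
    ext
    simpa using h
  have hzx : ((z : Q) : G) ∈ Subgroup.zpowers x := by
    apply mem_zpowers_of_comm hC
    have := hzc ⟨x, hxQ⟩
    exact congrArg Subtype.val this
  have hxz : x ∈ Subgroup.zpowers ((z : Q) : G) :=
    mem_zpowers_of_mem_zpowers_ne_one hp hx hzx hzG1
  intro q hq
  apply mem_zpowers_of_comm hC
  obtain ⟨k, hk⟩ := hxz
  rw [← hk]
  have h2 : q * ((z : Q) : G) = ((z : Q) : G) * q := congrArg Subtype.val (hzc ⟨q, hq⟩)
  have : Commute ((z : Q) : G) q := h2.symm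
  exact (this.zpow_left k).eq


theorem isPGroup_zpowers {p : ℕ} {x : G} (hx : orderOf x = p) :
    IsPGroup p (Subgroup.zpowers x) := by
  apply IsPGroup.of_card (n := 1)
  rw [Nat.card_zpowers, hx, pow_one]

/-- `⟨x⟩` is a Sylow `p`-subgroup. -/
theorem exists_sylow_eq_zpowers [Finite G] {p : ℕ} (hp : p.Prime) {x : G} (hx : orderOf x = p)
    (hC : Subgroup.centralizer ({x} : Set G) = Subgroup.zpowers x) :
    ∃ P : Sylow p G, (P : Subgroup G) = Subgroup.zpowers x := by
  obtain ⟨Q, hQ⟩ := (isPGroup_zpowers hx).exists_le_sylow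
  exact ⟨Q, pgroup_le_zpowers hp hx hC Q Q.isPGroup' (hQ (Subgroup.mem_zpowers x))⟩

theorem sylow_card [Finite G] {p : ℕ} (hp : p.Prime) {x : G} (hx : orderOf x = p)
    (hC : Subgroup.centralizer ({x} : Set G) = Subgroup.zpowers x) (Q : Sylow p G) :
    Nat.card (Q : Subgroup G) = p := by
  have : Fact p.Prime := ⟨hp⟩
  obtain ⟨P, hP⟩ := exists_sylow_eq_zpowers hp hx hC
  rw [Sylow.card_eq_multiplicity Q, ← Sylow.card_eq_multiplicity P, hP, Nat.card_zpowers, hx]

theorem factorization_card [Finite G] {p : ℕ} (hp : p.Prime) {x : G} (hx : orderOf x = p)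
    (hC : Subgroup.centralizer ({x} : Set G) = Subgroup.zpowers x) :
    (Nat.card G).factorization p = 1 := by
  have : Fact p.Prime := ⟨hp⟩
  obtain ⟨P, hP⟩ := exists_sylow_eq_zpowers hp hx hC
  have h1 := Sylow.card_eq_multiplicity P
  rw [sylow_card hp hx hC P] at h1
  have : p ^ 1 = p ^ (Nat.card G).factorization p := by rw [pow_one]; exact h1
  exact (Nat.pow_right_injective hp.two_le this).symm

/-- Subgroups of order `p` are exactly the Sylow `p`-subgroups. -/
noncomputable def sylowEquiv [Finite G] {p : ℕ} (hp : p.Prime) {x : G} (hx : orderOf x = p)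
    (hC : Subgroup.centralizer ({x} : Set G) = Subgroup.zpowers x) :
    Sylow p G ≃ {H : Subgroup G // Nat.card H = p} :=
  have : Fact p.Prime := ⟨hp⟩
  { toFun := fun Q => ⟨Q, sylow_card hp hx hC Q⟩
    invFun := fun H => Sylow.ofCard H.1 (by rw [factorization_card hp hx hC, pow_one]; exact H.2)
    left_inv := fun Q => by ext; simp
    right_inv := fun H => by ext; simp }

theorem card_subgroups_eq_index [Finite G] {p : ℕ} (hp : p.Prime) {x : G} (hx : orderOf x = p)
    (hC : Subgroup.centralizer ({x} : Set G) = Subgroup.zpowers x) :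
    Nat.card {H : Subgroup G // Nat.card H = p} =
      (Subgroup.normalizer ((Subgroup.zpowers x : Subgroup G) : Set G)).index := by
  have : Fact p.Prime := ⟨hp⟩
  obtain ⟨P, hP⟩ := exists_sylow_eq_zpowers hp hx hC
  rw [← Nat.card_congr (sylowEquiv hp hx hC), Sylow.card_eq_index_normalizer P, ← hP]
  rfl

/-- A normal subgroup of order divisible by `p` contains `x`. -/
theorem mem_of_dvd_card [Finite G] {p : ℕ} (hp : p.Prime) {x : G} (hx : orderOf x = p)
    (hC : Subgroup.centralizer ({x} : Set G) = Subgroup.zpowers x)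
    (S : Subgroup G) [S.Normal] (hS : p ∣ Nat.card S) : x ∈ S := by
  have : Fact p.Prime := ⟨hp⟩
  obtain ⟨y, hy⟩ := exists_prime_orderOf_dvd_card' p hS
  have hyG : orderOf (y : G) = p := by rw [Subgroup.orderOf_coe]; exact hy
  obtain ⟨Q, hQ⟩ := (isPGroup_zpowers hyG).exists_le_sylow
  obtain ⟨P, hP⟩ := exists_sylow_eq_zpowers hp hx hC
  have hQy : (Q : Subgroup G) = Subgroup.zpowers (y : G) := by
    symm
    apply Subgroup.eq_of_le_of_card_ge hQ
    rw [sylow_card hp hx hC Q, Nat.card_zpowers, hyG]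
  obtain ⟨g, hg⟩ := MulAction.exists_smul_eq G P Q
  have hxP : x ∈ (P : Subgroup G) := by rw [hP]; exact Subgroup.mem_zpowers x
  have h1 : g * x * g⁻¹ ∈ (Q : Subgroup G) := by
    rw [← hg, Sylow.coe_subgroup_smul]
    have := Subgroup.smul_mem_pointwise_smul x (MulAut.conj g) (P : Subgroup G) hxP
    simpa using this
  rw [hQy] at h1
  have h2 : g * x * g⁻¹ ∈ S := (Subgroup.zpowers_le.mpr y.2) h1
  have h3 := ‹S.Normal›.conj_mem _ h2 g⁻¹
  simpa [mul_assoc] using h3


/-- Commutators of elements of `N_G(⟨x⟩)` lie in `⟨x⟩`. -/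
theorem commutator_mem_zpowers_of_mem_normalizer {x : G}
    (hC : Subgroup.centralizer ({x} : Set G) = Subgroup.zpowers x) {n₁ n₂ : G}
    (h₁ : n₁ ∈ Subgroup.normalizer ((Subgroup.zpowers x : Subgroup G) : Set G))
    (h₂ : n₂ ∈ Subgroup.normalizer ((Subgroup.zpowers x : Subgroup G) : Set G)) :
    ⁅n₁, n₂⁆ ∈ Subgroup.zpowers x := by
  set H : Subgroup G := Subgroup.zpowers x with hH
  let f : Subgroup.normalizer (H : Set G) →* (ZMod (Nat.card H))ˣ :=
    (IsCyclic.mulAutMulEquiv H).toMonoidHom.comp H.normalizerMonoidHom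
  have h1 : commutator (Subgroup.normalizer (H : Set G)) ≤ f.ker :=
    Abelianization.commutator_subset_ker f
  have h2 : f.ker = (Subgroup.centralizer (H : Set G)).subgroupOf (Subgroup.normalizer (H : Set G)) := by
    rw [← Subgroup.normalizerMonoidHom_ker]
    ext n
    simp only [MonoidHom.mem_ker, f, MonoidHom.comp_apply]
    constructor
    · intro h
      exact (IsCyclic.mulAutMulEquiv H).injective (by simpa using h)
    · intro h
      rw [h]; simp
  have h3 : ⁅(⟨n₁, h₁⟩ : Subgroup.normalizer (H : Set G)), ⟨n₂, h₂⟩⁆ ∈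
      commutator (Subgroup.normalizer (H : Set G)) := by
    rw [_root_.commutator_def]
    exact Subgroup.commutator_mem_commutator (Subgroup.mem_top _) (Subgroup.mem_top _)
  have h4 := h1 h3
  rw [h2, Subgroup.mem_subgroupOf, centralizer_zpowers hC] at h4
  simpa [commutatorElement_def] using h4

/-- Frattini: a normal subgroup containing `x` together with `N_G(⟨x⟩)` generates `G`. -/
theorem normalizer_sup_eq_top [Finite G] {p : ℕ} (hp : p.Prime) {x : G} (hx : orderOf x = p)
    (hC : Subgroup.centralizer ({x} : Set G) = Subgroup.zpowers x)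
    (S : Subgroup G) [S.Normal] (hxS : x ∈ S) :
    Subgroup.normalizer ((Subgroup.zpowers x : Subgroup G) : Set G) ⊔ S = ⊤ := by
  have : Fact p.Prime := ⟨hp⟩
  obtain ⟨P, hP⟩ := exists_sylow_eq_zpowers hp hx hC
  have hPS : (P : Subgroup G) ≤ S := by rw [hP]; exact Subgroup.zpowers_le.mpr hxS
  have := Sylow.normalizer_sup_eq_top (P.subtype hPS)
  rw [Sylow.coe_subtype, Subgroup.map_subgroupOf_eq_of_le hPS, hP] at this
  exact this

/-- A normal subgroup containing `x` contains the commutator subgroup. -/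
theorem commutator_le_of_mem [Finite G] {p : ℕ} (hp : p.Prime) {x : G} (hx : orderOf x = p)
    (hC : Subgroup.centralizer ({x} : Set G) = Subgroup.zpowers x)
    (S : Subgroup G) [hS : S.Normal] (hxS : x ∈ S) : commutator G ≤ S := by
  have htop := normalizer_sup_eq_top hp hx hC S hxS
  have hdec : ∀ g : G, ∃ n ∈ Subgroup.normalizer ((Subgroup.zpowers x : Subgroup G) : Set G),
      ∃ s ∈ S, n * s = g := by
    intro g
    have : g ∈ Subgroup.normalizer ((Subgroup.zpowers x : Subgroup G) : Set G) ⊔ S := by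
      rw [htop]; exact Subgroup.mem_top g
    exact Subgroup.mem_sup_of_normal_right.mp this
  rw [_root_.commutator_def, Subgroup.commutator_le]
  intro g₁ _ g₂ _
  obtain ⟨n₁, hn₁, s₁, hs₁, rfl⟩ := hdec g₁
  obtain ⟨n₂, hn₂, s₂, hs₂, rfl⟩ := hdec g₂
  rw [← QuotientGroup.eq_one_iff]
  change (QuotientGroup.mk' S) ⁅n₁ * s₁, n₂ * s₂⁆ = 1
  rw [map_commutatorElement]
  have e1 : ((n₁ * s₁ : G) : G ⧸ S) = (n₁ : G ⧸ S) := by
    rw [QuotientGroup.mk_mul, (QuotientGroup.eq_one_iff s₁).mpr hs₁, mul_one]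
  have e2 : ((n₂ * s₂ : G) : G ⧸ S) = (n₂ : G ⧸ S) := by
    rw [QuotientGroup.mk_mul, (QuotientGroup.eq_one_iff s₂).mpr hs₂, mul_one]
  change ⁅((n₁ * s₁ : G) : G ⧸ S), ((n₂ * s₂ : G) : G ⧸ S)⁆ = 1
  rw [e1, e2]
  change ⁅(QuotientGroup.mk' S) n₁, (QuotientGroup.mk' S) n₂⁆ = 1
  rw [← map_commutatorElement]
  exact (QuotientGroup.eq_one_iff _).mpr
    (Subgroup.zpowers_le.mpr hxS (commutator_mem_zpowers_of_mem_normalizer hC hn₁ hn₂))


theorem index_dvd_relIndex [Finite G] {p : ℕ} (hp : p.Prime) {x : G} (hx : orderOf x = p)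
    (hC : Subgroup.centralizer ({x} : Set G) = Subgroup.zpowers x)
    (S : Subgroup G) [hS : S.Normal] (hxS : x ∈ S) :
    S.index ∣ (Subgroup.zpowers x).relIndex
      (Subgroup.normalizer ((Subgroup.zpowers x : Subgroup G) : Set G)) := by
  have htop := normalizer_sup_eq_top hp hx hC S hxS
  have h1 : S.index = S.relIndex
      (Subgroup.normalizer ((Subgroup.zpowers x : Subgroup G) : Set G)) := by
    rw [← Subgroup.relIndex_top_right, ← htop, Subgroup.relIndex_sup_right]
  rw [h1]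
  exact Subgroup.relIndex_dvd_of_le_left _ (Subgroup.zpowers_le.mpr hxS)

theorem inf_zpowers_eq_bot {p : ℕ} (hp : p.Prime) {x : G} (hx : orderOf x = p)
    (S : Subgroup G) (hS : ¬ p ∣ Nat.card S) : S ⊓ Subgroup.zpowers x = ⊥ := by
  apply disjoint_iff.mp
  apply Subgroup.disjoint_of_coprime_natCard
  rw [Nat.card_zpowers, hx]
  exact ((Nat.Prime.coprime_iff_not_dvd hp).mpr hS).symm

theorem eq_one_of_mem_of_comm {p : ℕ} (hp : p.Prime) {x : G} (hx : orderOf x = p)
    (hC : Subgroup.centralizer ({x} : Set G) = Subgroup.zpowers x)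
    (S : Subgroup G) (hS : ¬ p ∣ Nat.card S) {s : G} (hs : s ∈ S) (hsx : x * s = s * x) :
    s = 1 := by
  have : s ∈ S ⊓ Subgroup.zpowers x := ⟨hs, mem_zpowers_of_comm hC hsx⟩
  rw [inf_zpowers_eq_bot hp hx S hS] at this
  exact Subgroup.mem_bot.mp this

/-- The commutator map `s ↦ [s, x]` on a normal `p'`-subgroup. -/
def commMap (x : G) (S : Subgroup G) [hS : S.Normal] : S → S :=
  fun s => ⟨⁅(s : G), x⁆, by
    have h1 : x * (s : G)⁻¹ * x⁻¹ ∈ S := hS.conj_mem _ (S.inv_mem s.2) x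
    have : ⁅(s : G), x⁆ = (s : G) * (x * (s : G)⁻¹ * x⁻¹) := by
      simp [commutatorElement_def, mul_assoc]
    rw [this]
    exact S.mul_mem s.2 h1⟩

theorem commMap_injective {p : ℕ} (hp : p.Prime) {x : G} (hx : orderOf x = p)
    (hC : Subgroup.centralizer ({x} : Set G) = Subgroup.zpowers x)
    (S : Subgroup G) [hS : S.Normal] (hpS : ¬ p ∣ Nat.card S) :
    Function.Injective (commMap x S) := by
  intro s t hst
  have h1 : ⁅(s : G), x⁆ = ⁅(t : G), x⁆ := congrArg Subtype.val hst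
  simp only [commutatorElement_def] at h1
  have h2 : (s : G) * x * (s : G)⁻¹ = (t : G) * x * (t : G)⁻¹ := mul_right_cancel h1
  have h3 : x * ((s : G)⁻¹ * (t : G)) = ((s : G)⁻¹ * (t : G)) * x := by
    have : x = (s : G)⁻¹ * ((t : G) * x * (t : G)⁻¹) * (s : G) := by
      rw [← h2]; group
    calc x * ((s : G)⁻¹ * (t : G)) = ((s : G)⁻¹ * ((t : G) * x * (t : G)⁻¹) * (s : G)) * ((s : G)⁻¹ * (t : G)) := by rw [← this]
      _ = ((s : G)⁻¹ * (t : G)) * x := by group
  have h4 := eq_one_of_mem_of_comm hp hx hC S hpS (S.mul_mem (S.inv_mem s.2) t.2) h3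
  ext
  exact inv_mul_eq_one.mp h4

theorem commMap_surjective [Finite G] {p : ℕ} (hp : p.Prime) {x : G} (hx : orderOf x = p)
    (hC : Subgroup.centralizer ({x} : Set G) = Subgroup.zpowers x)
    (S : Subgroup G) [hS : S.Normal] (hpS : ¬ p ∣ Nat.card S) :
    Function.Surjective (commMap x S) :=
  Finite.injective_iff_surjective.mp (commMap_injective hp hx hC S hpS)

/-- A normal `p'`-subgroup lies in the commutator subgroup. -/
theorem le_commutator_of_not_dvd [Finite G] {p : ℕ} (hp : p.Prime) {x : G} (hx : orderOf x = p)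
    (hC : Subgroup.centralizer ({x} : Set G) = Subgroup.zpowers x)
    (S : Subgroup G) [hS : S.Normal] (hpS : ¬ p ∣ Nat.card S) : S ≤ commutator G := by
  intro s hs
  obtain ⟨t, ht⟩ := commMap_surjective hp hx hC S hpS ⟨s, hs⟩
  have : ⁅(t : G), x⁆ = s := congrArg Subtype.val ht
  rw [← this, _root_.commutator_def]
  exact Subgroup.commutator_mem_commutator (Subgroup.mem_top _) (Subgroup.mem_top _)

theorem inf_normalizer_eq_bot {p : ℕ} (hp : p.Prime) {x : G} (hx : orderOf x = p)
    (hC : Subgroup.centralizer ({x} : Set G) = Subgroup.zpowers x)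
    (S : Subgroup G) [hS : S.Normal] (hpS : ¬ p ∣ Nat.card S) :
    S ⊓ Subgroup.normalizer ((Subgroup.zpowers x : Subgroup G) : Set G) = ⊥ := by
  rw [eq_bot_iff]
  rintro s ⟨hs, hsn⟩
  have h1 : s * x * s⁻¹ ∈ Subgroup.zpowers x :=
    (Subgroup.mem_normalizer_iff.mp hsn x).mp (Subgroup.mem_zpowers x)
  have h2 : ⁅s, x⁆ ∈ Subgroup.zpowers x := by
    rw [commutatorElement_def]
    exact Subgroup.mul_mem _ h1 (Subgroup.inv_mem _ (Subgroup.mem_zpowers x))
  have h3 : ⁅s, x⁆ ∈ S := (commMap x S ⟨s, hs⟩).2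
  have h4 : ⁅s, x⁆ ∈ S ⊓ Subgroup.zpowers x := ⟨h3, h2⟩
  rw [inf_zpowers_eq_bot hp hx S hpS, Subgroup.mem_bot, commutatorElement_eq_one_iff_mul_comm] at h4
  exact Subgroup.mem_bot.mpr (eq_one_of_mem_of_comm hp hx hC S hpS hs h4.symm)

theorem card_dvd_index_normalizer [Finite G] {p : ℕ} (hp : p.Prime) {x : G} (hx : orderOf x = p)
    (hC : Subgroup.centralizer ({x} : Set G) = Subgroup.zpowers x)
    (S : Subgroup G) [hS : S.Normal] (hpS : ¬ p ∣ Nat.card S) :
    Nat.card S ∣ (Subgroup.normalizer ((Subgroup.zpowers x : Subgroup G) : Set G)).index := by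
  set N := Subgroup.normalizer ((Subgroup.zpowers x : Subgroup G) : Set G) with hN
  have h1 : S.relIndex (S ⊔ N) = Nat.card N := by
    rw [Subgroup.relIndex_sup_left, ← Subgroup.inf_relIndex_right,
      inf_normalizer_eq_bot hp hx hC S hpS, Subgroup.relIndex_bot_left]
  have h2 : Nat.card S * Nat.card N = Nat.card (S ⊔ N : Subgroup G) := by
    rw [← h1, ← Subgroup.relIndex_bot_left, ← Subgroup.relIndex_bot_left,
      Subgroup.relIndex_mul_relIndex _ _ _ bot_le le_sup_left]
  have h3 : Nat.card S * Nat.card N ∣ Nat.card N * N.index := by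
    rw [h2, Subgroup.card_mul_index]
    exact Subgroup.card_subgroup_dvd_card _
  rw [mul_comm] at h3
  exact Nat.dvd_of_mul_dvd_mul_left Nat.card_pos h3


theorem card_mod_eq_one [Finite G] {p : ℕ} (hp : p.Prime) {x : G} (hx : orderOf x = p)
    (hC : Subgroup.centralizer ({x} : Set G) = Subgroup.zpowers x)
    (S : Subgroup G) [hS : S.Normal] (hpS : ¬ p ∣ Nat.card S) : Nat.card S % p = 1 := by
  have : Fact p.Prime := ⟨hp⟩
  let φ : Subgroup.zpowers x →* MulAut S := (MulAut.conjNormal (H := S)).comp (Subgroup.zpowers x).subtype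
  let _ : MulAction (Subgroup.zpowers x) S := MulAction.compHom S φ
  have h1 := (isPGroup_zpowers hx).card_modEq_card_fixedPoints S
  have h2 : MulAction.fixedPoints (Subgroup.zpowers x) S = {1} := by
    ext s
    simp only [MulAction.mem_fixedPoints, Set.mem_singleton_iff]
    constructor
    · intro h
      have h3 := h ⟨x, Subgroup.mem_zpowers x⟩
      have h4 : x * (s : G) * x⁻¹ = s := congrArg Subtype.val h3
      have h5 : x * (s : G) = (s : G) * x := by
        calc x * (s : G) = (x * (s : G) * x⁻¹) * x := by group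
          _ = (s : G) * x := by rw [h4]
      have := eq_one_of_mem_of_comm hp hx hC S hpS s.2 h5
      ext
      exact this
    · rintro rfl y
      change φ y 1 = 1
      exact map_one _
  rw [h2] at h1
  have h3 : Nat.card ({1} : Set S) = 1 := by simp
  rw [h3] at h1
  have : Nat.card S % p = 1 % p := h1
  rw [this]
  exact Nat.mod_eq_of_lt hp.one_lt

theorem orderOf_mk {p : ℕ} (hp : p.Prime) {x : G} (hx : orderOf x = p)
    (S : Subgroup G) [hS : S.Normal] (hpS : ¬ p ∣ Nat.card S) :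
    orderOf (QuotientGroup.mk x : G ⧸ S) = p := by
  have : Fact p.Prime := ⟨hp⟩
  apply orderOf_eq_prime
  · rw [← QuotientGroup.mk_pow, ← hx, pow_orderOf_eq_one]
    rfl
  · intro h
    have hxS : x ∈ S := (QuotientGroup.eq_one_iff x).mp h
    have : x ∈ S ⊓ Subgroup.zpowers x := ⟨hxS, Subgroup.mem_zpowers x⟩
    rw [inf_zpowers_eq_bot hp hx S hpS] at this
    exact x_ne_one hp hx (Subgroup.mem_bot.mp this)

theorem centralizer_mk [Finite G] {p : ℕ} (hp : p.Prime) {x : G} (hx : orderOf x = p)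
    (hC : Subgroup.centralizer ({x} : Set G) = Subgroup.zpowers x)
    (S : Subgroup G) [hS : S.Normal] (hpS : ¬ p ∣ Nat.card S) :
    Subgroup.centralizer ({(QuotientGroup.mk x : G ⧸ S)} : Set (G ⧸ S)) =
      Subgroup.zpowers (QuotientGroup.mk x : G ⧸ S) := by
  apply le_antisymm
  · intro y hy
    obtain ⟨g, rfl⟩ := QuotientGroup.mk_surjective y
    rw [Subgroup.mem_centralizer_singleton_iff] at hy
    -- [g, x] ∈ S
    have h1 : ⁅g, x⁆ ∈ S := by
      rw [← QuotientGroup.eq_one_iff]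
      change (QuotientGroup.mk' S) ⁅g, x⁆ = 1
      rw [map_commutatorElement, commutatorElement_eq_one_iff_mul_comm]
      exact hy
    obtain ⟨s, hs⟩ := commMap_surjective hp hx hC S hpS ⟨⁅g, x⁆, h1⟩
    have h2 : ⁅(s : G), x⁆ = ⁅g, x⁆ := congrArg Subtype.val hs
    simp only [commutatorElement_def] at h2
    have h3 : (s : G) * x * (s : G)⁻¹ = g * x * g⁻¹ := mul_right_cancel h2
    have h4 : x * ((s : G)⁻¹ * g) = ((s : G)⁻¹ * g) * x := by
      have : x = (s : G)⁻¹ * (g * x * g⁻¹) * (s : G) := by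
        rw [← h3]; group
      calc x * ((s : G)⁻¹ * g) = ((s : G)⁻¹ * (g * x * g⁻¹) * (s : G)) * ((s : G)⁻¹ * g) := by rw [← this]
        _ = ((s : G)⁻¹ * g) * x := by group
    obtain ⟨k, hk⟩ := mem_zpowers_of_comm hC h4
    refine ⟨k, ?_⟩
    have hk' : x ^ k = (s : G)⁻¹ * g := hk
    have h5 : g = (s : G) * x ^ k := by
      rw [hk']; group
    rw [h5, QuotientGroup.mk_mul, (QuotientGroup.eq_one_iff (s : G)).mpr s.2, one_mul]
    rfl
  · rw [Subgroup.zpowers_le, Subgroup.mem_centralizer_singleton_iff]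


theorem orderOf_of_mem_zpowers {p : ℕ} (hp : p.Prime) {x : G} (hx : orderOf x = p)
    {y : G} (hy : y ∈ Subgroup.zpowers x) (hy1 : y ≠ 1) : orderOf y = p := by
  rw [← Nat.card_zpowers, zpowers_eq_of_mem_zpowers_ne_one hp hx hy hy1, Nat.card_zpowers, hx]

/-- Every element of order `p` is conjugate to an element of `⟨x⟩`. -/
theorem exists_conj_mem_zpowers [Finite G] {p : ℕ} (hp : p.Prime) {x : G} (hx : orderOf x = p)
    (hC : Subgroup.centralizer ({x} : Set G) = Subgroup.zpowers x) {g : G} (hg : orderOf g = p) :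
    ∃ h : G, h * g * h⁻¹ ∈ Subgroup.zpowers x := by
  have : Fact p.Prime := ⟨hp⟩
  obtain ⟨Q, hQ⟩ := (isPGroup_zpowers hg).exists_le_sylow
  obtain ⟨P, hP⟩ := exists_sylow_eq_zpowers hp hx hC
  obtain ⟨h, hh⟩ := MulAction.exists_smul_eq G Q P
  refine ⟨h, ?_⟩
  rw [← hP, ← hh, Sylow.coe_subgroup_smul]
  have := Subgroup.smul_mem_pointwise_smul g (MulAut.conj h) (Q : Subgroup G)
    (hQ (Subgroup.mem_zpowers g))
  simpa using this

/-- If `y, g * y * g⁻¹` are nontrivial elements of `⟨x⟩`, then `g` normalizes `⟨x⟩`. -/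
theorem mem_normalizer_of_conj_mem {p : ℕ} (hp : p.Prime) {x : G} (hx : orderOf x = p)
    {y g : G} (hy : y ∈ Subgroup.zpowers x) (hy1 : y ≠ 1)
    (hgy : g * y * g⁻¹ ∈ Subgroup.zpowers x) :
    g ∈ Subgroup.normalizer ((Subgroup.zpowers x : Subgroup G) : Set G) := by
  have hgy1 : g * y * g⁻¹ ≠ 1 := by
    intro h
    apply hy1
    have : y = g⁻¹ * (g * y * g⁻¹) * g := by group
    rw [this, h]; group
  have h1 := zpowers_eq_of_mem_zpowers_ne_one hp hx hy hy1
  have h2 := zpowers_eq_of_mem_zpowers_ne_one hp hx hgy hgy1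
  -- g ⟨y⟩ g⁻¹ = ⟨g y g⁻¹⟩
  have key : ∀ z : G, z ∈ Subgroup.zpowers x → g * z * g⁻¹ ∈ Subgroup.zpowers x := by
    intro z hz
    rw [← h1] at hz
    obtain ⟨k, rfl⟩ := hz
    rw [← h2]
    refine ⟨k, ?_⟩
    simp only
    rw [← MulAut.conj_apply, ← MulAut.conj_apply, map_zpow]
  rw [Subgroup.mem_normalizer_iff]
  intro z
  constructor
  · exact key z
  · intro hz
    -- use finiteness-free argument: g⁻¹ also maps ⟨x⟩ into ⟨x⟩ since conj by g is injective on a finite set
    have hfin : Finite (Subgroup.zpowers x) := by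
      apply Nat.finite_of_card_ne_zero
      rw [Nat.card_zpowers, hx]; exact hp.ne_zero
    let φ : Subgroup.zpowers x → Subgroup.zpowers x := fun z => ⟨g * z * g⁻¹, key z z.2⟩
    have hinj : Function.Injective φ := by
      intro a b hab
      have : g * (a : G) * g⁻¹ = g * (b : G) * g⁻¹ := congrArg Subtype.val hab
      ext
      exact mul_left_cancel (mul_right_cancel this)
    obtain ⟨w, hw⟩ := (Finite.injective_iff_surjective.mp hinj) ⟨g * z * g⁻¹, hz⟩
    have : g * (w : G) * g⁻¹ = g * z * g⁻¹ := congrArg Subtype.val hw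
    have : (w : G) = z := mul_left_cancel (mul_right_cancel this)
    rw [← this]; exact w.2


/-- The number of conjugacy classes of elements of order `p`, times `|N_G(⟨x⟩) : ⟨x⟩|`,
equals `p - 1`. -/
theorem card_classes_mul_relIndex [Finite G] {p : ℕ} (hp : p.Prime) {x : G} (hx : orderOf x = p)
    (hC : Subgroup.centralizer ({x} : Set G) = Subgroup.zpowers x) :
    Nat.card {C : ConjClasses G // ∃ g ∈ C.carrier, orderOf g = p} *
      (Subgroup.zpowers x).relIndex
        (Subgroup.normalizer ((Subgroup.zpowers x : Subgroup G) : Set G)) = p - 1 := by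
  classical
  set P : Subgroup G := Subgroup.zpowers x with hPdef
  set N : Subgroup G := Subgroup.normalizer (P : Set G) with hNdef
  let T := {C : ConjClasses G // ∃ g ∈ C.carrier, orderOf g = p}
  let A := {y : G // y ∈ P ∧ y ≠ 1}
  have hA : Nat.card A = p - 1 := by
    have h1 : Nat.card A = ((P : Set G) \ {1}).ncard := by
      rw [← Nat.card_coe_set_eq]
      apply Nat.card_congr
      exact Equiv.subtypeEquivRight (fun y => by simp)
    rw [h1, Set.ncard_sdiff_singleton_of_mem (Subgroup.one_mem P), ← Nat.card_coe_set_eq]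
    change Nat.card P - 1 = p - 1
    rw [Nat.card_zpowers, hx]
  let f : A → T := fun y => ⟨ConjClasses.mk y.1, y.1, ConjClasses.mem_carrier_mk,
    orderOf_of_mem_zpowers hp hx y.2.1 y.2.2⟩
  -- the conjugation action of N on G
  let φ : N →* MulAut G := (MulAut.conj (G := G)).comp N.subtype
  let _ : MulAction N G := MulAction.compHom G φ
  have hsmul : ∀ (n : N) (g : G), n • g = (n : G) * g * (n : G)⁻¹ := fun n g => rfl
  have hfib : ∀ C : T, Nat.card {a : A // f a = C} = P.relIndex N := by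
    intro C
    obtain ⟨g, hgC, hg⟩ := C.2
    obtain ⟨h, hh⟩ := exists_conj_mem_zpowers hp hx hC hg
    set y₀ : G := h * g * h⁻¹ with hy₀
    have hy₀1 : y₀ ≠ 1 := by
      intro h1
      have : g = h⁻¹ * y₀ * h := by rw [hy₀]; group
      rw [h1] at this
      have : g = 1 := by rw [this]; group
      rw [this, orderOf_one] at hg
      exact hp.one_lt.ne hg
    have hy₀C : ConjClasses.mk y₀ = C.1 := by
      rw [ConjClasses.mem_carrier_iff_mk_eq] at hgC
      rw [← hgC, ConjClasses.mk_eq_mk_iff_isConj, isConj_comm, isConj_iff]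
      exact ⟨h, rfl⟩
    have hstab : MulAction.stabilizer N y₀ = P.subgroupOf N := by
      ext n
      have hcent : Subgroup.centralizer ({y₀} : Set G) = P :=
        centralizer_of_mem_zpowers hp hx hC hh hy₀1
      rw [MulAction.mem_stabilizer_iff, hsmul, Subgroup.mem_subgroupOf,
        ← hcent, Subgroup.mem_centralizer_singleton_iff]
      constructor
      · intro h1
        calc (n : G) * y₀ = ((n : G) * y₀ * (n : G)⁻¹) * (n : G) := by group
          _ = y₀ * (n : G) := by rw [h1]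
      · intro h1
        rw [h1]; group
    have horb : (MulAction.orbit N y₀).ncard = P.relIndex N := by
      rw [← MulAction.index_stabilizer, hstab]
      rfl
    rw [← horb, ← Nat.card_coe_set_eq]
    apply Nat.card_congr
    refine
      { toFun := fun a => ⟨a.1.1, ?_⟩
        invFun := fun z => ⟨⟨z.1, ?_⟩, ?_⟩
        left_inv := fun a => rfl
        right_inv := fun z => rfl }
    · -- a in fiber → a ∈ orbit
      have h1 : ConjClasses.mk a.1.1 = C.1 := congrArg Subtype.val a.2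
      rw [← hy₀C, ConjClasses.mk_eq_mk_iff_isConj, isConj_comm, isConj_iff] at h1
      obtain ⟨c, hc⟩ := h1
      have hcN : c ∈ N := mem_normalizer_of_conj_mem hp hx hh hy₀1 (by rw [hc]; exact a.1.2.1)
      exact ⟨⟨c, hcN⟩, hc⟩
    · obtain ⟨n, hn⟩ := z.2
      have hn' : (n : G) * y₀ * (n : G)⁻¹ = z.1 := hn
      constructor
      · rw [← hn']
        exact (Subgroup.mem_normalizer_iff.mp n.2 y₀).mp hh
      · intro h1
        rw [h1] at hn'
        apply hy₀1
        have : y₀ = (n : G)⁻¹ * ((n : G) * y₀ * (n : G)⁻¹) * (n : G) := by group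
        rw [this, hn']; group
    · obtain ⟨n, hn⟩ := z.2
      have hn' : (n : G) * y₀ * (n : G)⁻¹ = z.1 := hn
      apply Subtype.ext
      change ConjClasses.mk z.1 = C.1
      rw [← hy₀C, ConjClasses.mk_eq_mk_iff_isConj, isConj_comm, isConj_iff]
      exact ⟨n, hn'⟩
  have : Fintype T := Fintype.ofFinite T
  calc Nat.card T * P.relIndex N = Nat.card (Σ C : T, {a : A // f a = C}) := by
        rw [Nat.card_sigma]
        simp only [hfib, Finset.sum_const, Finset.card_univ, smul_eq_mul, Nat.card_eq_fintype_card]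
    _ = Nat.card A := Nat.card_congr (Equiv.sigmaFiberEquiv f)
    _ = p - 1 := hA


/-- A normal subgroup of prime index contains the commutator subgroup. -/
theorem commutator_le_of_index_prime {p : ℕ} (hp : p.Prime) (K : Subgroup G) [K.Normal]
    (hK : K.index = p) : commutator G ≤ K := by
  have : Fact p.Prime := ⟨hp⟩
  have hcard : Nat.card (G ⧸ K) = p := by rw [← Subgroup.index_eq_card, hK]
  have : IsCyclic (G ⧸ K) := isCyclic_of_prime_card hcard
  let _ : CommGroup (G ⧸ K) := IsCyclic.commGroup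
  have := Abelianization.commutator_subset_ker (QuotientGroup.mk' K)
  rwa [QuotientGroup.ker_mk'] at this

/-- If `N_G(⟨x⟩) = ⟨x⟩` then the commutator subgroup is a normal `p`-complement:
it has index `p` and order prime to `p`. -/
theorem commutator_of_relIndex_eq_one [Finite G] {p : ℕ} (hp : p.Prime) {x : G}
    (hx : orderOf x = p)
    (hC : Subgroup.centralizer ({x} : Set G) = Subgroup.zpowers x)
    (he : (Subgroup.zpowers x).relIndex
      (Subgroup.normalizer ((Subgroup.zpowers x : Subgroup G) : Set G)) = 1) :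
    (commutator G).index = p ∧ ¬ p ∣ Nat.card (commutator G) := by
  have : Fact p.Prime := ⟨hp⟩
  obtain ⟨P, hP⟩ := exists_sylow_eq_zpowers hp hx hC
  have hNP : Subgroup.normalizer ((P : Subgroup G) : Set G) ≤ Subgroup.centralizer ((P : Subgroup G) : Set G) := by
    rw [hP, centralizer_zpowers hC]
    exact Subgroup.relIndex_eq_one.mp he
  have hcompl := MonoidHom.ker_transferSylow_isComplement' P hNP
  set K := (MonoidHom.transferSylow P hNP).ker with hK
  have hcard : Nat.card K * Nat.card (P : Subgroup G) = Nat.card G := hcompl.card_mul_card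
  rw [sylow_card hp hx hC P] at hcard
  have hidx : K.index = p := by
    have h1 := Subgroup.card_mul_index K
    rw [← hcard] at h1
    exact Nat.eq_of_mul_eq_mul_left Nat.card_pos h1
  have hpK : ¬ p ∣ Nat.card K := by
    intro hdvd
    have h2 : p ^ 2 ∣ Nat.card G := by
      rw [← hcard, pow_two]
      exact Nat.mul_dvd_mul hdvd (dvd_refl p)
    have h3 := (hp.pow_dvd_iff_le_factorization Nat.card_pos.ne').mp h2
    rw [factorization_card hp hx hC] at h3
    omega
  have h1 : commutator G ≤ K := commutator_le_of_index_prime hp K hidx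
  have h2 : K ≤ commutator G := le_commutator_of_not_dvd hp hx hC K hpK
  have h3 : commutator G = K := le_antisymm h1 h2
  rw [h3]
  exact ⟨hidx, hpK⟩

/-- If `N_G(⟨x⟩) ≠ ⟨x⟩` then `x` lies in the commutator subgroup. -/
theorem mem_commutator_of_relIndex_ne_one {p : ℕ} (hp : p.Prime) {x : G}
    (hx : orderOf x = p)
    (hC : Subgroup.centralizer ({x} : Set G) = Subgroup.zpowers x)
    (he : (Subgroup.zpowers x).relIndex
      (Subgroup.normalizer ((Subgroup.zpowers x : Subgroup G) : Set G)) ≠ 1) :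
    x ∈ commutator G := by
  rw [Ne, Subgroup.relIndex_eq_one] at he
  obtain ⟨n, hnN, hnP⟩ := Set.not_subset.mp he
  have h1 : n * x * n⁻¹ ∈ Subgroup.zpowers x :=
    (Subgroup.mem_normalizer_iff.mp hnN x).mp (Subgroup.mem_zpowers x)
  have h2 : ⁅n, x⁆ ∈ Subgroup.zpowers x := by
    rw [commutatorElement_def]
    exact Subgroup.mul_mem _ h1 (Subgroup.inv_mem _ (Subgroup.mem_zpowers x))
  have h3 : ⁅n, x⁆ ≠ 1 := by
    intro h
    rw [commutatorElement_eq_one_iff_mul_comm] at h
    exact hnP (mem_zpowers_of_comm hC h.symm)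
  have h4 : ⁅n, x⁆ ∈ commutator G := by
    rw [_root_.commutator_def]
    exact Subgroup.commutator_mem_commutator (Subgroup.mem_top _) (Subgroup.mem_top _)
  exact Subgroup.zpowers_le.mpr h4 (mem_zpowers_of_mem_zpowers_ne_one hp hx h2 h3)


/-- The self-centralizing hypothesis passes to any subgroup containing `x`. -/
theorem centralizer_subtype {x : G}
    (hC : Subgroup.centralizer ({x} : Set G) = Subgroup.zpowers x) (D : Subgroup G)
    (hxD : x ∈ D) :
    Subgroup.centralizer ({(⟨x, hxD⟩ : D)} : Set D) = Subgroup.zpowers (⟨x, hxD⟩ : D) := by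
  ext y
  rw [Subgroup.mem_centralizer_singleton_iff]
  constructor
  · intro h
    have h1 : x * (y : G) = (y : G) * x := (congrArg Subtype.val h).symm
    obtain ⟨k, hk⟩ := mem_zpowers_of_comm hC h1
    refine ⟨k, ?_⟩
    ext
    simpa using hk
  · rintro ⟨k, rfl⟩
    exact ((Commute.refl (⟨x, hxD⟩ : D)).zpow_left k).eq

theorem orderOf_subtype {p : ℕ} {x : G} (hx : orderOf x = p) (D : Subgroup G) (hxD : x ∈ D) :
    orderOf (⟨x, hxD⟩ : D) = p := by
  rw [← hx, ← Subgroup.orderOf_coe]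


theorem card_sup_normalizer [Finite G] {p : ℕ} (hp : p.Prime) {x : G} (hx : orderOf x = p)
    (hC : Subgroup.centralizer ({x} : Set G) = Subgroup.zpowers x)
    (S : Subgroup G) [hS : S.Normal] (hpS : ¬ p ∣ Nat.card S) :
    Nat.card (S ⊔ Subgroup.normalizer ((Subgroup.zpowers x : Subgroup G) : Set G) : Subgroup G) =
      Nat.card S * Nat.card (Subgroup.normalizer ((Subgroup.zpowers x : Subgroup G) : Set G)) := by
  set N := Subgroup.normalizer ((Subgroup.zpowers x : Subgroup G) : Set G) with hN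
  have h1 : S.relIndex (S ⊔ N) = Nat.card N := by
    rw [Subgroup.relIndex_sup_left, ← Subgroup.inf_relIndex_right,
      inf_normalizer_eq_bot hp hx hC S hpS, Subgroup.relIndex_bot_left]
  rw [← h1, ← Subgroup.relIndex_bot_left, ← Subgroup.relIndex_bot_left,
    Subgroup.relIndex_mul_relIndex _ _ _ bot_le le_sup_left]

theorem sup_normalizer_eq_top_of_card [Finite G] {p : ℕ} (hp : p.Prime) {x : G}
    (hx : orderOf x = p)
    (hC : Subgroup.centralizer ({x} : Set G) = Subgroup.zpowers x)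
    (S : Subgroup G) [hS : S.Normal] (hpS : ¬ p ∣ Nat.card S)
    (hcard : Nat.card S = (Subgroup.normalizer ((Subgroup.zpowers x : Subgroup G) : Set G)).index) :
    S ⊔ Subgroup.normalizer ((Subgroup.zpowers x : Subgroup G) : Set G) = ⊤ := by
  apply Subgroup.eq_top_of_card_eq
  rw [card_sup_normalizer hp hx hC S hpS, hcard, mul_comm, Subgroup.card_mul_index]

/-- If `G = S N_G(⟨x⟩)` with `S` normal then `G' ≤ S ⟨x⟩`. -/
theorem commutator_le_sup_of_sup_normalizer_eq_top {x : G}
    (hC : Subgroup.centralizer ({x} : Set G) = Subgroup.zpowers x)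
    (S : Subgroup G) [hS : S.Normal]
    (htop : S ⊔ Subgroup.normalizer ((Subgroup.zpowers x : Subgroup G) : Set G) = ⊤) :
    commutator G ≤ S ⊔ Subgroup.zpowers x := by
  have hdec : ∀ g : G, ∃ s ∈ S, ∃ n ∈ Subgroup.normalizer ((Subgroup.zpowers x : Subgroup G) : Set G),
      s * n = g := by
    intro g
    have : g ∈ S ⊔ Subgroup.normalizer ((Subgroup.zpowers x : Subgroup G) : Set G) := by
      rw [htop]; exact Subgroup.mem_top g
    exact Subgroup.mem_sup_of_normal_left.mp this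
  rw [_root_.commutator_def, Subgroup.commutator_le]
  intro g₁ _ g₂ _
  obtain ⟨s₁, hs₁, n₁, hn₁, rfl⟩ := hdec g₁
  obtain ⟨s₂, hs₂, n₂, hn₂, rfl⟩ := hdec g₂
  have e1 : ((s₁ * n₁ : G) : G ⧸ S) = (n₁ : G ⧸ S) := by
    rw [QuotientGroup.mk_mul, (QuotientGroup.eq_one_iff s₁).mpr hs₁, one_mul]
  have e2 : ((s₂ * n₂ : G) : G ⧸ S) = (n₂ : G ⧸ S) := by
    rw [QuotientGroup.mk_mul, (QuotientGroup.eq_one_iff s₂).mpr hs₂, one_mul]
  have h1 : ((⁅s₁ * n₁, s₂ * n₂⁆ : G) : G ⧸ S) = ((⁅n₁, n₂⁆ : G) : G ⧸ S) := by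
    change (QuotientGroup.mk' S) ⁅s₁ * n₁, s₂ * n₂⁆ = (QuotientGroup.mk' S) ⁅n₁, n₂⁆
    rw [map_commutatorElement, map_commutatorElement]
    change ⁅((s₁ * n₁ : G) : G ⧸ S), ((s₂ * n₂ : G) : G ⧸ S)⁆ = ⁅(n₁ : G ⧸ S), (n₂ : G ⧸ S)⁆
    rw [e1, e2]
  have h2 : ⁅n₁, n₂⁆ ∈ Subgroup.zpowers x := commutator_mem_zpowers_of_mem_normalizer hC hn₁ hn₂
  have h3 : ⁅s₁ * n₁, s₂ * n₂⁆ * ⁅n₁, n₂⁆⁻¹ ∈ S := by
    rw [← QuotientGroup.eq_one_iff, QuotientGroup.mk_mul, h1, ← QuotientGroup.mk_mul,
      mul_inv_cancel]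
    rfl
  have : ⁅s₁ * n₁, s₂ * n₂⁆ = (⁅s₁ * n₁, s₂ * n₂⁆ * ⁅n₁, n₂⁆⁻¹) * ⁅n₁, n₂⁆ := by group
  rw [this]
  exact Subgroup.mul_mem_sup h3 h2

/-- `(S ⟨x⟩)' ≤ S` for `S` normal. -/
theorem commutator_sup_zpowers_le (x : G) (S : Subgroup G) [hS : S.Normal] :
    ⁅S ⊔ Subgroup.zpowers x, S ⊔ Subgroup.zpowers x⁆ ≤ S := by
  rw [Subgroup.commutator_le]
  intro g₁ hg₁ g₂ hg₂
  obtain ⟨s₁, hs₁, y₁, hy₁, rfl⟩ := Subgroup.mem_sup_of_normal_left.mp hg₁
  obtain ⟨s₂, hs₂, y₂, hy₂, rfl⟩ := Subgroup.mem_sup_of_normal_left.mp hg₂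
  have e1 : ((s₁ * y₁ : G) : G ⧸ S) = (y₁ : G ⧸ S) := by
    rw [QuotientGroup.mk_mul, (QuotientGroup.eq_one_iff s₁).mpr hs₁, one_mul]
  have e2 : ((s₂ * y₂ : G) : G ⧸ S) = (y₂ : G ⧸ S) := by
    rw [QuotientGroup.mk_mul, (QuotientGroup.eq_one_iff s₂).mpr hs₂, one_mul]
  rw [← QuotientGroup.eq_one_iff]
  change (QuotientGroup.mk' S) ⁅s₁ * y₁, s₂ * y₂⁆ = 1
  rw [map_commutatorElement]
  change ⁅((s₁ * y₁ : G) : G ⧸ S), ((s₂ * y₂ : G) : G ⧸ S)⁆ = 1
  rw [e1, e2]
  change ⁅(QuotientGroup.mk' S) y₁, (QuotientGroup.mk' S) y₂⁆ = 1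
  rw [← map_commutatorElement]
  have : ⁅y₁, y₂⁆ = 1 := by
    rw [commutatorElement_eq_one_iff_mul_comm]
    obtain ⟨k₁, rfl⟩ := hy₁
    obtain ⟨k₂, rfl⟩ := hy₂
    exact (((Commute.refl x).zpow_right k₂).zpow_left k₁).eq
  rw [this, map_one]

end Cfsg.Agent.Lib.Helper75_SelfCent
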