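import Mathlib
import Cfsg.Prelude.Def_Characters
import Cfsg.Prelude.Def_Blocks

set_option autoImplicit false
set_option linter.style.haveILetI false

namespace Cfsg.Agent.Lib.Helper80_CharBasic

open scoped ComplexConjugate ComplexOrder
open Matrix

/-- Weyl's unitarian trick in matrix form: the value of a character at `g⁻¹` is the complex
conjugate of its value at `g`. -/
theorem char_inv_eq_conj {G : Type*} [Group G] [Finite G] {n : ℕ}
    (ρ : Representation ℂ G (Fin n → ℂ)) (g : G) :
    ρ.character g⁻¹ = conj (ρ.character g) := by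
  classical
  have := Fintype.ofFinite G
  set A : G → Matrix (Fin n) (Fin n) ℂ := fun x => LinearMap.toMatrix' (ρ x) with hA
  have hAmul : ∀ x y, A (x * y) = A x * A y := by
    intro x y
    simp only [hA, map_mul]
    exact LinearMap.toMatrix'_mul _ _
  have hAone : A 1 = 1 := by
    simp only [hA, map_one]
    exact LinearMap.toMatrix'_one
  set H : Matrix (Fin n) (Fin n) ℂ := ∑ x : G, (A x)ᴴ * A x with hH
  have hHpos : H.PosDef := by
    have h1 : H = (A 1)ᴴ * A 1 + ∑ x ∈ Finset.univ.erase (1 : G), (A x)ᴴ * A x := by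
      rw [hH]
      exact (Finset.add_sum_erase Finset.univ (fun x => (A x)ᴴ * A x) (Finset.mem_univ 1)).symm
    rw [h1, hAone]
    apply Matrix.PosDef.add_posSemidef
    · simpa using (Matrix.PosDef.one : (1 : Matrix (Fin n) (Fin n) ℂ).PosDef)
    · apply Matrix.posSemidef_sum
      intro i _
      exact Matrix.posSemidef_conjTranspose_mul_self _
  have hinv : (A g)ᴴ * H * A g = H := by
    rw [hH, Finset.mul_sum, Finset.sum_mul]
    have : ∀ x : G, (A g)ᴴ * ((A x)ᴴ * A x) * A g = (A (x * g))ᴴ * A (x * g) := by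
      intro x
      rw [hAmul, Matrix.conjTranspose_mul]
      simp only [Matrix.mul_assoc]
    simp only [this]
    exact Fintype.sum_equiv (Equiv.mulRight g) _ _ (fun x => rfl)
  have hgg : A g * A g⁻¹ = 1 := by rw [← hAmul, mul_inv_cancel, hAone]
  have hkey : (A g)ᴴ * H = H * A g⁻¹ := by
    calc (A g)ᴴ * H = (A g)ᴴ * H * (A g * A g⁻¹) := by rw [hgg, Matrix.mul_one]
      _ = ((A g)ᴴ * H * A g) * A g⁻¹ := by simp only [Matrix.mul_assoc]
      _ = H * A g⁻¹ := by rw [hinv]
  have hHu : IsUnit H.det := (Matrix.isUnit_iff_isUnit_det _).mp hHpos.isUnit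
  have hAinv : A g⁻¹ = H⁻¹ * ((A g)ᴴ * H) := by
    rw [hkey, ← Matrix.mul_assoc, Matrix.nonsing_inv_mul _ hHu, Matrix.one_mul]
  have htr : ∀ x, ρ.character x = (A x).trace := by
    intro x
    simp only [Representation.character, hA]
    rw [LinearMap.trace_eq_matrix_trace ℂ (Pi.basisFun ℂ (Fin n))]
    rfl
  rw [htr, htr, hAinv, Matrix.trace_mul_comm, Matrix.mul_assoc, Matrix.mul_nonsing_inv _ hHu,
    Matrix.mul_one, Matrix.trace_conjTranspose]
  rfl


/-- An irreducible representation on `Fin n → ℂ` has `0 < n`. -/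
theorem irr_dim_pos {G : Type*} [Group G] {n : ℕ} (ρ : Representation ℂ G (Fin n → ℂ))
    (h : ρ.IsIrreducible) : 0 < n := by
  by_contra hn
  have hn0 : n = 0 := by omega
  subst hn0
  haveI : Nontrivial (Subrepresentation ρ) := h.toNontrivial
  obtain ⟨a, b, hab⟩ := exists_pair_ne (Subrepresentation ρ)
  apply hab
  apply Subrepresentation.toSubmodule_injective
  apply Subsingleton.elim

/-- A representation on a one-dimensional space is irreducible. -/
theorem isIrreducible_of_finrank_eq_one {G V : Type*} [Monoid G] [AddCommGroup V] [Module ℂ V]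
    (ρ : Representation ℂ G V) (h : Module.finrank ℂ V = 1) : ρ.IsIrreducible := by
  haveI : IsSimpleModule ℂ V := isSimpleModule_iff_finrank_eq_one.mpr h
  haveI : IsSimpleOrder (Submodule ℂ V) := (isSimpleModule_iff ℂ V).mp this
  refine { exists_pair_ne := ⟨⊥, ⊤, ?_⟩, eq_bot_or_eq_top := ?_ }
  · intro hbt
    have := congrArg Subrepresentation.toSubmodule hbt
    exact bot_ne_top this
  · intro a
    rcases eq_bot_or_eq_top a.toSubmodule with h | h
    · left; exact Subrepresentation.toSubmodule_injective h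
    · right; exact Subrepresentation.toSubmodule_injective h

/-- The principal character is an irreducible character. -/
theorem isIrrCharacter_one (G : Type*) [Group G] : Cfsg.IsIrrCharacter G (fun _ => (1 : ℂ)) := by
  refine ⟨1, Representation.trivial ℂ G (Fin 1 → ℂ), ?_, ?_⟩
  · apply isIrreducible_of_finrank_eq_one
    simp
  · funext g
    simp [Representation.character]

/-- The principal character as an element of `IrrCharacter G`. -/
noncomputable def oneIrr (G : Type*) [Group G] : Cfsg.IrrCharacter G :=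
  ⟨fun _ => 1, isIrrCharacter_one G⟩

/-- Value at one of an irreducible character: a positive natural number. -/
theorem irr_apply_one {G : Type*} [Group G] (χ : Cfsg.IrrCharacter G) :
    ∃ n : ℕ, 0 < n ∧ (χ : G → ℂ) 1 = n := by
  obtain ⟨n, ρ, hirr, hρ⟩ := χ.2
  refine ⟨n, irr_dim_pos ρ hirr, ?_⟩
  rw [← hρ, Representation.char_one]
  simp

/-- Irreducible characters are class functions. -/
theorem irr_conj {G : Type*} [Group G] (χ : Cfsg.IrrCharacter G) (g h : G) :
    (χ : G → ℂ) (h * g * h⁻¹) = (χ : G → ℂ) g := by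
  obtain ⟨n, ρ, hirr, hρ⟩ := χ.2
  rw [← hρ, Representation.char_conj]

theorem irr_isConj {G : Type*} [Group G] (χ : Cfsg.IrrCharacter G) {g h : G} (hgh : IsConj g h) :
    (χ : G → ℂ) g = (χ : G → ℂ) h := by
  obtain ⟨c, hc⟩ := isConj_iff.mp hgh
  rw [← hc, irr_conj]

/-- Value at the inverse is the complex conjugate. -/
theorem irr_inv {G : Type*} [Group G] [Finite G] (χ : Cfsg.IrrCharacter G) (g : G) :
    (χ : G → ℂ) g⁻¹ = conj ((χ : G → ℂ) g) := by
  obtain ⟨n, ρ, hirr, hρ⟩ := χ.2
  rw [← hρ, char_inv_eq_conj]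

/-- First orthogonality relation, distinct characters. -/
theorem irr_orthogonal {G : Type*} [Group G] [Fintype G] (χ ψ : Cfsg.IrrCharacter G)
    (h : χ ≠ ψ) : ∑ g : G, (χ : G → ℂ) g * (ψ : G → ℂ) g⁻¹ = 0 := by
  classical
  obtain ⟨n, ρ, hirr, hρ⟩ := χ.2
  obtain ⟨m, σ, hirr', hσ⟩ := ψ.2
  haveI := hirr
  haveI := hirr'
  have hne : (Nat.card G : ℂ) ≠ 0 := by
    exact_mod_cast Nat.card_pos.ne'
  haveI : Invertible (Nat.card G : ℂ) := invertibleOfNonzero hne
  have key := Representation.char_orthonormal ρ σ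
  have hno : ¬ Nonempty (Representation.Equiv σ ρ) := by
    rintro ⟨e⟩
    apply h
    apply Subtype.ext
    rw [← hρ, ← hσ]
    exact (Representation.char_iso e).symm
  rw [if_neg hno] at key
  have : ∑ g : G, ρ.character g * σ.character g⁻¹ = 0 := by
    rcases mul_eq_zero.mp key with h0 | h0
    · exact absurd (inv_eq_zero.mp h0) hne
    · exact h0
  rw [← hρ, ← hσ]
  exact this

/-- First orthogonality relation, norm of an irreducible character. -/
theorem irr_norm {G : Type*} [Group G] [Fintype G] (χ : Cfsg.IrrCharacter G) :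
    ∑ g : G, (χ : G → ℂ) g * (χ : G → ℂ) g⁻¹ = Nat.card G := by
  classical
  obtain ⟨n, ρ, hirr, hρ⟩ := χ.2
  haveI := hirr
  have hne : (Nat.card G : ℂ) ≠ 0 := by
    exact_mod_cast Nat.card_pos.ne'
  haveI : Invertible (Nat.card G : ℂ) := invertibleOfNonzero hne
  have key := Representation.char_orthonormal ρ ρ
  rw [if_pos ⟨Representation.Equiv.refl ρ⟩] at key
  rw [← hρ]
  field_simp at key
  simpa using key

end Cfsg.Agent.Lib.Helper80_CharBasic
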