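import Mathlib
import Cfsg.Prelude.Def_Characters
import Cfsg.Prelude.Def_Blocks
import Cfsg.Agent.Lib.Helper80_CharBasic

set_option autoImplicit false
set_option linter.style.haveILetI false

namespace Cfsg.Agent.Lib.Helper80_CharComplete

open scoped ComplexConjugate
open Cfsg.Agent.Lib.Helper80_CharBasic

/-- Wedderburn–Artin data for the complex group algebra of a finite group. -/
theorem exists_wedderburn (G : Type*) [Group G] [Finite G] :
    ∃ (n : ℕ) (d : Fin n → ℕ), (∀ i, NeZero (d i)) ∧
      Nonempty (MonoidAlgebra ℂ G ≃ₐ[ℂ] Π i, Matrix (Fin (d i)) (Fin (d i)) ℂ) := by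
  haveI : NeZero (Nat.card G : ℂ) := ⟨by exact_mod_cast Nat.card_pos.ne'⟩
  exact IsSemisimpleRing.exists_algEquiv_pi_matrix_of_isAlgClosed ℂ (MonoidAlgebra ℂ G)

/-- The `i`-th Wedderburn component, as a representation on a coordinate space. -/
noncomputable def compRep {G : Type*} [Group G] {n : ℕ} {d : Fin n → ℕ}
    (Φ : MonoidAlgebra ℂ G ≃ₐ[ℂ] Π i, Matrix (Fin (d i)) (Fin (d i)) ℂ) (i : Fin n) :
    Representation ℂ G (Fin (d i) → ℂ) :=
  ((Matrix.toLinAlgEquiv' : Matrix (Fin (d i)) (Fin (d i)) ℂ ≃ₐ[ℂ] _).toAlgHom.toMonoidHom).comp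
    ((Pi.evalMonoidHom (fun i => Matrix (Fin (d i)) (Fin (d i)) ℂ) i).comp
      ((Φ.toAlgHom.toMonoidHom).comp (MonoidAlgebra.of ℂ G)))

theorem compRep_apply {G : Type*} [Group G] {n : ℕ} {d : Fin n → ℕ}
    (Φ : MonoidAlgebra ℂ G ≃ₐ[ℂ] Π i, Matrix (Fin (d i)) (Fin (d i)) ℂ) (i : Fin n) (g : G) :
    compRep Φ i g = Matrix.toLin' (Φ (MonoidAlgebra.of ℂ G g) i) := rfl

theorem compRep_character {G : Type*} [Group G] {n : ℕ} {d : Fin n → ℕ}
    (Φ : MonoidAlgebra ℂ G ≃ₐ[ℂ] Π i, Matrix (Fin (d i)) (Fin (d i)) ℂ) (i : Fin n) (g : G) :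
    (compRep Φ i).character g = (Φ (MonoidAlgebra.of ℂ G g) i).trace := by
  rw [Representation.character, compRep_apply,
    LinearMap.trace_eq_matrix_trace ℂ (Pi.basisFun ℂ (Fin (d i)))]
  simp


/-- A subrepresentation of a Wedderburn component is stable under every matrix. -/
theorem compRep_sub_stable {G : Type*} [Group G] {n : ℕ} {d : Fin n → ℕ}
    (Φ : MonoidAlgebra ℂ G ≃ₐ[ℂ] Π i, Matrix (Fin (d i)) (Fin (d i)) ℂ) (i : Fin n)
    (W : Subrepresentation (compRep Φ i)) (A : Matrix (Fin (d i)) (Fin (d i)) ℂ)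
    (u : Fin (d i) → ℂ) (hu : u ∈ W.toSubmodule) : A.mulVec u ∈ W.toSubmodule := by
  classical
  have hP : ∀ a : MonoidAlgebra ℂ G, ∀ u ∈ W.toSubmodule, (Φ a i).mulVec u ∈ W.toSubmodule := by
    intro a
    induction a using MonoidAlgebra.induction_on with
    | of g =>
      intro u hu
      have := W.apply_mem_toSubmodule g hu
      rwa [compRep_apply, Matrix.toLin'_apply] at this
    | add x y hx hy =>
      intro u hu
      rw [map_add, Pi.add_apply, Matrix.add_mulVec]
      exact W.toSubmodule.add_mem (hx u hu) (hy u hu)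
    | smul r x hx =>
      intro u hu
      rw [map_smul, Pi.smul_apply, Matrix.smul_mulVec]
      exact W.toSubmodule.smul_mem r (hx u hu)
  have hA : Φ (Φ.symm (Pi.single i A)) i = A := by
    rw [AlgEquiv.apply_symm_apply, Pi.single_eq_same]
  rw [← hA]
  exact hP _ u hu

theorem compRep_irreducible {G : Type*} [Group G] {n : ℕ} {d : Fin n → ℕ}
    (Φ : MonoidAlgebra ℂ G ≃ₐ[ℂ] Π i, Matrix (Fin (d i)) (Fin (d i)) ℂ) (i : Fin n)
    [hd : NeZero (d i)] : (compRep Φ i).IsIrreducible := by
  classical
  haveI : Nonempty (Fin (d i)) := ⟨⟨0, Nat.pos_of_ne_zero hd.out⟩⟩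
  refine { exists_pair_ne := ⟨⊥, ⊤, ?_⟩, eq_bot_or_eq_top := ?_ }
  · intro h
    have h2 : (⊥ : Submodule ℂ (Fin (d i) → ℂ)) = ⊤ := congrArg Subrepresentation.toSubmodule h
    exact bot_ne_top h2
  · intro W
    by_cases hW : W.toSubmodule = ⊥
    · left; exact Subrepresentation.toSubmodule_injective hW
    · right
      apply Subrepresentation.toSubmodule_injective
      show W.toSubmodule = ⊤
      obtain ⟨w, hwW, hw0⟩ := Submodule.exists_mem_ne_zero_of_ne_bot hW
      rw [eq_top_iff]
      intro v _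
      obtain ⟨j, hj⟩ : ∃ j, w j ≠ 0 := by
        by_contra hcon
        simp only [not_exists, not_not] at hcon
        exact hw0 (funext hcon)
      have key := compRep_sub_stable Φ i W (Matrix.vecMulVec v (Pi.single j (w j)⁻¹)) w hwW
      rw [Matrix.vecMulVec_mulVec] at key
      have hdot : (Pi.single j (w j)⁻¹ : Fin (d i) → ℂ) ⬝ᵥ w = 1 := by
        rw [single_dotProduct, inv_mul_cancel₀ hj]
      rw [hdot] at key
      simpa using key

/-- The character of a Wedderburn component is an irreducible character. -/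
theorem compRep_isIrr {G : Type*} [Group G] {n : ℕ} {d : Fin n → ℕ}
    (Φ : MonoidAlgebra ℂ G ≃ₐ[ℂ] Π i, Matrix (Fin (d i)) (Fin (d i)) ℂ) (i : Fin n)
    [NeZero (d i)] : Cfsg.IsIrrCharacter G (compRep Φ i).character :=
  ⟨d i, compRep Φ i, compRep_irreducible Φ i, rfl⟩


/-- Key completeness step: a class function orthogonal to the characters of all Wedderburn
components vanishes. -/
theorem eq_zero_of_orthogonal_comp {G : Type*} [Group G] [Fintype G] {n : ℕ} {d : Fin n → ℕ}
    (Φ : MonoidAlgebra ℂ G ≃ₐ[ℂ] Π i, Matrix (Fin (d i)) (Fin (d i)) ℂ)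
    [hd : ∀ i, NeZero (d i)]
    (f : G → ℂ) (hf : ∀ g h : G, f (h * g * h⁻¹) = f g)
    (horth : ∀ i, ∑ g : G, f g * (compRep Φ i).character g = 0) : f = 0 := by
  classical
  set z : MonoidAlgebra ℂ G := ∑ g : G, f g • MonoidAlgebra.of ℂ G g with hz
  -- `z` commutes with group elements
  have hcomm : ∀ h : G, MonoidAlgebra.of ℂ G h * z = z * MonoidAlgebra.of ℂ G h := by
    intro h
    rw [hz, Finset.mul_sum, Finset.sum_mul]
    refine Fintype.sum_equiv (MulAut.conj h).toEquiv _ _ ?_
    intro g
    simp only [MulEquiv.toEquiv_eq_coe, MulEquiv.coe_toEquiv, MulAut.conj_apply, hf]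
    rw [mul_smul_comm, smul_mul_assoc, ← map_mul, ← map_mul]
    congr 2
    group
  -- hence with everything
  have hcentral : ∀ a : MonoidAlgebra ℂ G, a * z = z * a := by
    intro a
    induction a using MonoidAlgebra.induction_on with
    | of g => exact hcomm g
    | add x y hx hy => rw [add_mul, mul_add, hx, hy]
    | smul r x hx => rw [smul_mul_assoc, mul_smul_comm, hx]
  -- each component of `Φ z` is a scalar matrix
  have hscalar : ∀ i, ∃ c : ℂ, Φ z i = Matrix.scalar (Fin (d i)) c := by
    intro i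
    have hmem : Φ z i ∈ Set.range (Matrix.scalar (Fin (d i))) := by
      apply Matrix.mem_range_scalar_of_commute_single
      intro j k _
      have h1 := hcentral (Φ.symm (Pi.single i (Matrix.single j k (1 : ℂ))))
      have h2 := congrArg (fun a => Φ a i) h1
      simp only [map_mul, AlgEquiv.apply_symm_apply, Pi.mul_apply, Pi.single_eq_same] at h2
      exact h2
    obtain ⟨c, hc⟩ := hmem
    exact ⟨c, hc.symm⟩
  -- the scalar is zero, by the trace
  have hzero : ∀ i, Φ z i = 0 := by
    intro i
    obtain ⟨c, hc⟩ := hscalar i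
    have htr : (Φ z i).trace = ∑ g : G, f g * (compRep Φ i).character g := by
      rw [hz, map_sum, Finset.sum_apply, Matrix.trace_sum]
      refine Finset.sum_congr rfl fun g _ => ?_
      rw [map_smul, Pi.smul_apply, Matrix.trace_smul, compRep_character, smul_eq_mul]
    rw [horth i, hc] at htr
    have hdpos : ((d i : ℕ) : ℂ) ≠ 0 := by exact_mod_cast (hd i).out
    have hc0 : c = 0 := by
      have : (d i : ℂ) * c = 0 := by
        simpa [Matrix.trace, Matrix.scalar_apply, Matrix.diagonal_apply_eq] using htr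
      rcases mul_eq_zero.mp this with h | h
      · exact absurd h hdpos
      · exact h
    rw [hc, hc0, map_zero]
  have hΦz : Φ z = 0 := funext hzero
  have hz0 : z = 0 := by
    have := congrArg Φ.symm hΦz
    simpa using this
  -- read off coefficients
  funext g
  have h1 : z.coeff g = f g := by
    rw [hz, MonoidAlgebra.coeff_sum, Finsupp.finsetSum_apply]
    rw [Finset.sum_eq_single g]
    · rw [MonoidAlgebra.coeff_smul, MonoidAlgebra.of_apply, MonoidAlgebra.coeff_single]
      simp
    · intro b _ hb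
      rw [MonoidAlgebra.coeff_smul, MonoidAlgebra.of_apply, MonoidAlgebra.coeff_single]
      simp [hb]
    · intro h; exact absurd (Finset.mem_univ g) h
  rw [← h1, hz0]
  simp


/-- The Wedderburn component characters, as elements of `IrrCharacter G`. -/
noncomputable def compIrr {G : Type*} [Group G] {n : ℕ} {d : Fin n → ℕ}
    (Φ : MonoidAlgebra ℂ G ≃ₐ[ℂ] Π i, Matrix (Fin (d i)) (Fin (d i)) ℂ)
    [∀ i, NeZero (d i)] (i : Fin n) : Cfsg.IrrCharacter G :=
  ⟨(compRep Φ i).character, compRep_isIrr Φ i⟩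

/-- Every irreducible character is the character of a Wedderburn component. -/
theorem compIrr_surjective {G : Type*} [Group G] [Finite G] {n : ℕ} {d : Fin n → ℕ}
    (Φ : MonoidAlgebra ℂ G ≃ₐ[ℂ] Π i, Matrix (Fin (d i)) (Fin (d i)) ℂ)
    [∀ i, NeZero (d i)] : Function.Surjective (compIrr Φ) := by
  classical
  haveI := Fintype.ofFinite G
  intro χ
  by_contra hcon
  simp only [not_exists] at hcon
  have hf : (fun g : G => (χ : G → ℂ) g⁻¹) = 0 := by
    apply eq_zero_of_orthogonal_comp Φ
    · intro g h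
      have : (h * g * h⁻¹)⁻¹ = h * g⁻¹ * h⁻¹ := by group
      simp only [this, irr_conj]
    · intro i
      have := irr_orthogonal (compIrr Φ i) χ (hcon i)
      simp only [compIrr] at this
      rw [← this]
      exact Finset.sum_congr rfl fun g _ => mul_comm _ _
  have h1 := congrFun hf 1
  simp only [inv_one, Pi.zero_apply] at h1
  obtain ⟨m, hm, hm1⟩ := irr_apply_one χ
  rw [hm1] at h1
  have : m = 0 := by exact_mod_cast h1
  omega

instance irr_finite {G : Type*} [Group G] [Finite G] : Finite (Cfsg.IrrCharacter G) := by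
  obtain ⟨n, d, hd, ⟨Φ⟩⟩ := exists_wedderburn G
  haveI := hd
  exact Finite.of_surjective (compIrr Φ) (compIrr_surjective Φ)

/-- Completeness: a class function orthogonal to all irreducible characters is zero
(bilinear form `∑ f g * χ g`). -/
theorem eq_zero_of_orthogonal {G : Type*} [Group G] [Fintype G] (f : G → ℂ)
    (hf : Cfsg.IsClassFunction G f)
    (horth : ∀ χ : Cfsg.IrrCharacter G, ∑ g : G, f g * (χ : G → ℂ) g = 0) : f = 0 := by
  obtain ⟨n, d, hd, ⟨Φ⟩⟩ := exists_wedderburn G
  haveI := hd
  exact eq_zero_of_orthogonal_comp Φ f hf (fun i => horth (compIrr Φ i))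

/-- Completeness, Hermitian form: a class function `f` with `∑ f g * conj (χ g) = 0` for all
irreducible `χ` is zero. -/
theorem eq_zero_of_orthogonal_conj {G : Type*} [Group G] [Fintype G] (f : G → ℂ)
    (hf : Cfsg.IsClassFunction G f)
    (horth : ∀ χ : Cfsg.IrrCharacter G, ∑ g : G, f g * conj ((χ : G → ℂ) g) = 0) : f = 0 := by
  have h0 : (fun g : G => f g⁻¹) = 0 := by
    apply eq_zero_of_orthogonal
    · intro g h
      have : (h * g * h⁻¹)⁻¹ = h * g⁻¹ * h⁻¹ := by group
      show f (h * g * h⁻¹)⁻¹ = f g⁻¹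
      rw [this, hf]
    · intro χ
      rw [← horth χ]
      refine Fintype.sum_equiv (Equiv.inv G) _ _ ?_
      intro g
      simp only [Equiv.inv_apply]
      rw [← irr_inv, inv_inv]
  funext g
  have := congrFun h0 g⁻¹
  simpa using this


theorem irr_orthogonal_conj {G : Type*} [Group G] [Fintype G] (χ ψ : Cfsg.IrrCharacter G)
    (h : χ ≠ ψ) : ∑ g : G, (χ : G → ℂ) g * conj ((ψ : G → ℂ) g) = 0 := by
  rw [← irr_orthogonal χ ψ h]
  exact Finset.sum_congr rfl fun g _ => by rw [irr_inv]

theorem irr_norm_conj {G : Type*} [Group G] [Fintype G] (χ : Cfsg.IrrCharacter G) :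
    ∑ g : G, (χ : G → ℂ) g * conj ((χ : G → ℂ) g) = Nat.card G := by
  rw [← irr_norm χ]
  exact Finset.sum_congr rfl fun g _ => by rw [irr_inv]

theorem classInner_irr {G : Type*} [Group G] [Fintype G] [DecidableEq (Cfsg.IrrCharacter G)]
    (χ ψ : Cfsg.IrrCharacter G) :
    Cfsg.classInner (χ : G → ℂ) (ψ : G → ℂ) = if χ = ψ then 1 else 0 := by
  have hne : (Nat.card G : ℂ) ≠ 0 := by exact_mod_cast Nat.card_pos.ne'
  unfold Cfsg.classInner
  split_ifs with h
  · subst h
    rw [irr_norm_conj, inv_mul_cancel₀ hne]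
  · rw [irr_orthogonal_conj χ ψ h, mul_zero]

theorem irr_isClassFunction {G : Type*} [Group G] (χ : Cfsg.IrrCharacter G) :
    Cfsg.IsClassFunction G (χ : G → ℂ) := fun g h => irr_conj χ g h

/-- Expansion of a class function in irreducible characters (Fintype sum version). -/
theorem class_fn_expansion_sum {G : Type*} [Group G] [Fintype G]
    [Fintype (Cfsg.IrrCharacter G)] (ψ : G → ℂ) (hψ : Cfsg.IsClassFunction G ψ) :
    ψ = ∑ χ : Cfsg.IrrCharacter G, Cfsg.classInner ψ (χ : G → ℂ) • (χ : G → ℂ) := by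
  classical
  have hne : (Nat.card G : ℂ) ≠ 0 := by exact_mod_cast Nat.card_pos.ne'
  apply sub_eq_zero.mp
  apply eq_zero_of_orthogonal_conj
  · intro g h
    simp only [Pi.sub_apply, Finset.sum_apply, Pi.smul_apply, hψ g h, irr_conj]
  · intro θ
    simp only [Pi.sub_apply, Finset.sum_apply, Pi.smul_apply, smul_eq_mul, sub_mul,
      Finset.sum_sub_distrib, Finset.sum_mul]
    rw [Finset.sum_comm]
    have : ∀ χ : Cfsg.IrrCharacter G,
        ∑ g : G, Cfsg.classInner ψ (χ : G → ℂ) * (χ : G → ℂ) g * conj ((θ : G → ℂ) g) =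
          if χ = θ then Cfsg.classInner ψ (χ : G → ℂ) * (Nat.card G : ℂ) else 0 := by
      intro χ
      simp only [mul_assoc]
      rw [← Finset.mul_sum]
      split_ifs with h
      · subst h; rw [irr_norm_conj]
      · rw [irr_orthogonal_conj χ θ h, mul_zero]
    simp only [this]
    rw [Finset.sum_ite_eq' Finset.univ θ, if_pos (Finset.mem_univ _)]
    unfold Cfsg.classInner
    rw [mul_comm ((Nat.card G : ℂ)⁻¹) _, mul_assoc, inv_mul_cancel₀ hne, mul_one, sub_self]

/-- Expansion of a class function in irreducible characters (`finsum` version, the shape of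
statement S0152). -/
theorem class_fn_expansion {G : Type*} [Group G] [Fintype G] (ψ : G → ℂ)
    (hψ : Cfsg.IsClassFunction G ψ) :
    ψ = ∑ᶠ χ : Cfsg.IrrCharacter G, Cfsg.classInner ψ (χ : G → ℂ) • (χ : G → ℂ) := by
  haveI := Fintype.ofFinite (Cfsg.IrrCharacter G)
  rw [finsum_eq_sum_of_fintype]
  exact class_fn_expansion_sum ψ hψ


/-- Orbit–stabilizer for conjugacy classes: `#cl(h) * #C_G(h) = #G`. -/
theorem card_class_mul_card_centralizer {G : Type*} [Group G] [Fintype G] (h : G)
    [DecidablePred (fun x : G => IsConj h x)] :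
    (Finset.univ.filter (fun x : G => IsConj h x)).card *
      Nat.card (Subgroup.centralizer ({h} : Set G)) = Nat.card G := by
  classical
  have h1 := MulAction.card_orbit_mul_card_stabilizer_eq_card_group (ConjAct G) h
  have h2 : Fintype.card (MulAction.orbit (ConjAct G) h) =
      (Finset.univ.filter (fun x : G => IsConj h x)).card := by
    rw [← Fintype.card_subtype]
    apply Fintype.card_congr
    refine Equiv.subtypeEquivRight ?_
    intro x
    rw [ConjAct.mem_orbit_conjAct]
    exact ⟨IsConj.symm, IsConj.symm⟩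
  have h3 : Fintype.card (ConjAct G) = Fintype.card G := rfl
  rw [Subgroup.nat_card_centralizer_nat_card_stabilizer, Nat.card_eq_fintype_card,
    Nat.card_eq_fintype_card, ← h2, ← h3]
  convert h1

/-- Second orthogonality relation (Fintype sum version). -/
theorem second_orthogonality_sum {G : Type*} [Group G] [Fintype G]
    [Fintype (Cfsg.IrrCharacter G)] (g h : G) [Decidable (IsConj g h)] :
    ∑ χ : Cfsg.IrrCharacter G, (χ : G → ℂ) g * conj ((χ : G → ℂ) h) =
      if IsConj g h then (Nat.card (Subgroup.centralizer ({g} : Set G)) : ℂ) else 0 := by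
  classical
  have hne : (Nat.card G : ℂ) ≠ 0 := by exact_mod_cast Nat.card_pos.ne'
  set δ : G → ℂ := fun x => if IsConj h x then 1 else 0 with hδ
  have hδcl : Cfsg.IsClassFunction G δ := by
    intro x c
    simp only [hδ]
    have : IsConj h (c * x * c⁻¹) ↔ IsConj h x := by
      constructor
      · intro hc
        exact hc.trans (isConj_iff.mpr ⟨c, rfl⟩).symm
      · intro hc
        exact hc.trans (isConj_iff.mpr ⟨c, rfl⟩)
    simp only [this]
  set k : ℕ := (Finset.univ.filter (fun x : G => IsConj h x)).card with hk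
  have hinner : ∀ χ : Cfsg.IrrCharacter G,
      Cfsg.classInner δ (χ : G → ℂ) = (Nat.card G : ℂ)⁻¹ * ((k : ℂ) * conj ((χ : G → ℂ) h)) := by
    intro χ
    unfold Cfsg.classInner
    congr 1
    have : ∀ x : G, δ x * conj ((χ : G → ℂ) x) =
        if IsConj h x then conj ((χ : G → ℂ) h) else 0 := by
      intro x
      simp only [hδ]
      split_ifs with hx
      · rw [one_mul, irr_isConj χ hx]
      · rw [zero_mul]
    rw [Finset.sum_congr rfl (fun x _ => this x), ← Finset.sum_filter, Finset.sum_const,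
      nsmul_eq_mul]
  have hexp := congrFun (class_fn_expansion_sum δ hδcl) g
  simp only [Finset.sum_apply, Pi.smul_apply, smul_eq_mul, hinner] at hexp
  have hkc := card_class_mul_card_centralizer h
  rw [← hk] at hkc
  have hkC : (k : ℂ) * (Nat.card (Subgroup.centralizer ({h} : Set G)) : ℂ) = (Nat.card G : ℂ) := by
    exact_mod_cast hkc
  have hk0 : (k : ℂ) ≠ 0 := by
    intro h0
    rw [h0, zero_mul] at hkC
    exact hne hkC.symm
  have hsum : ∑ χ : Cfsg.IrrCharacter G, (χ : G → ℂ) g * conj ((χ : G → ℂ) h) =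
      (Nat.card G : ℂ) / (k : ℂ) * δ g := by
    rw [hexp, Finset.mul_sum]
    refine Finset.sum_congr rfl fun χ _ => ?_
    field_simp
  rw [hsum]
  simp only [hδ]
  by_cases hgh : IsConj g h
  · rw [if_pos hgh, if_pos hgh.symm, mul_one]
    have hcg : Nat.card (Subgroup.centralizer ({g} : Set G)) =
        Nat.card (Subgroup.centralizer ({h} : Set G)) := by
      have h1 := card_class_mul_card_centralizer g
      have hfil : (Finset.univ.filter (fun x : G => IsConj g x)) =
          (Finset.univ.filter (fun x : G => IsConj h x)) := by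
        ext x
        simp only [Finset.mem_filter, Finset.mem_univ, true_and]
        exact ⟨fun hx => hgh.symm.trans hx, fun hx => hgh.trans hx⟩
      rw [hfil, ← hk] at h1
      have hkpos : 0 < k := Nat.pos_of_ne_zero (by
        intro h0; rw [h0] at hk0; exact hk0 (by simp))
      exact Nat.eq_of_mul_eq_mul_left hkpos (h1.trans hkc.symm)
    rw [hcg, ← hkC]
    field_simp
  · have : ¬ IsConj h g := fun hc => hgh hc.symm
    rw [if_neg hgh, if_neg this, mul_zero]

/-- Second orthogonality relation, in the shape of statement S0145. -/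
theorem second_orthogonality {G : Type*} [Group G] [Finite G] (g h : G) :
    (IsConj g h → ∑ᶠ χ : Cfsg.IrrCharacter G, (χ : G → ℂ) g * conj ((χ : G → ℂ) h) =
        (Nat.card (Subgroup.centralizer ({g} : Set G)) : ℂ)) ∧
    (¬ IsConj g h → ∑ᶠ χ : Cfsg.IrrCharacter G, (χ : G → ℂ) g * conj ((χ : G → ℂ) h) = 0) := by
  classical
  haveI := Fintype.ofFinite G
  haveI := Fintype.ofFinite (Cfsg.IrrCharacter G)
  rw [finsum_eq_sum_of_fintype, second_orthogonality_sum]
  constructor
  · intro hc; rw [if_pos hc]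
  · intro hc; rw [if_neg hc]


/-- Burnside counting for the conjugation action: `∑ #C_G(g) = #classes * #G`. -/
theorem sum_card_centralizer {G : Type*} [Group G] [Fintype G] :
    ∑ g : G, Nat.card (Subgroup.centralizer ({g} : Set G)) =
      Nat.card (ConjClasses G) * Nat.card G := by
  classical
  rw [← card_comm_eq_card_conjClasses_mul_card, Nat.card_eq_fintype_card,
    Fintype.card_congr (Equiv.subtypeProdEquivSigmaSubtype Commute), Fintype.card_sigma]
  refine Finset.sum_congr rfl fun g _ => ?_
  rw [Nat.card_eq_fintype_card]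
  apply Fintype.card_congr
  refine Equiv.subtypeEquivRight (fun b => ?_)
  rw [Subgroup.mem_centralizer_iff]
  constructor
  · intro h
    exact h g (Set.mem_singleton g)
  · intro h y hy
    rw [Set.mem_singleton_iff.mp hy]
    exact h

/-- The number of irreducible characters equals the number of conjugacy classes
(statement S0133). -/
theorem card_irr_eq_card_conjClasses {G : Type*} [Group G] [Finite G] :
    Nat.card (Cfsg.IrrCharacter G) = Nat.card (ConjClasses G) := by
  classical
  haveI := Fintype.ofFinite G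
  haveI := Fintype.ofFinite (Cfsg.IrrCharacter G)
  have hne : (Nat.card G : ℂ) ≠ 0 := by exact_mod_cast Nat.card_pos.ne'
  have h1 : ∑ g : G, ∑ χ : Cfsg.IrrCharacter G, (χ : G → ℂ) g * conj ((χ : G → ℂ) g) =
      ((Nat.card (ConjClasses G) * Nat.card G : ℕ) : ℂ) := by
    rw [← sum_card_centralizer, Nat.cast_sum]
    refine Finset.sum_congr rfl fun g _ => ?_
    rw [second_orthogonality_sum, if_pos (IsConj.refl g)]
  have h2 : ∑ g : G, ∑ χ : Cfsg.IrrCharacter G, (χ : G → ℂ) g * conj ((χ : G → ℂ) g) =
      ((Nat.card (Cfsg.IrrCharacter G) * Nat.card G : ℕ) : ℂ) := by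
    rw [Finset.sum_comm]
    simp only [irr_norm_conj]
    rw [Finset.sum_const, Finset.card_univ, nsmul_eq_mul, Nat.card_eq_fintype_card,
      Nat.card_eq_fintype_card]
    push_cast
    ring
  have h3 : Nat.card (Cfsg.IrrCharacter G) * Nat.card G = Nat.card (ConjClasses G) * Nat.card G := by
    exact_mod_cast h2.symm.trans h1
  exact Nat.eq_of_mul_eq_mul_right Nat.card_pos h3

/-- The squares of the degrees add up to the group order (statement S0134). -/
theorem sum_sq_degrees {G : Type*} [Group G] [Finite G] :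
    ∑ᶠ χ : Cfsg.IrrCharacter G, (χ : G → ℂ) 1 ^ 2 = (Nat.card G : ℂ) := by
  classical
  have h := (second_orthogonality (1 : G) 1).1 (IsConj.refl 1)
  have hc : Nat.card (Subgroup.centralizer ({1} : Set G)) = Nat.card G := by
    have : Subgroup.centralizer ({1} : Set G) = ⊤ := by
      rw [eq_top_iff]
      intro x _
      rw [Subgroup.mem_centralizer_iff]
      intro y hy
      rw [Set.mem_singleton_iff.mp hy, one_mul, mul_one]
    rw [this]
    exact Nat.card_congr Subgroup.topEquiv.toEquiv
  rw [hc] at h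
  rw [← h]
  refine finsum_congr fun χ => ?_
  obtain ⟨n, _, hn⟩ := irr_apply_one χ
  rw [hn, sq, Complex.conj_natCast]

/-- Irreducible characters separate conjugacy classes (statement S0136). -/
theorem isConj_iff_irr {G : Type*} [Group G] [Finite G] (g h : G) :
    IsConj g h ↔ ∀ χ : Cfsg.IrrCharacter G, (χ : G → ℂ) g = (χ : G → ℂ) h := by
  classical
  constructor
  · intro hc χ
    exact irr_isConj χ hc
  · intro hall
    by_contra hc
    have h1 := (second_orthogonality g h).2 hc
    have h2 := (second_orthogonality h h).1 (IsConj.refl h)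
    have : ∑ᶠ χ : Cfsg.IrrCharacter G, (χ : G → ℂ) g * conj ((χ : G → ℂ) h) =
        ∑ᶠ χ : Cfsg.IrrCharacter G, (χ : G → ℂ) h * conj ((χ : G → ℂ) h) :=
      finsum_congr fun χ => by rw [hall χ]
    rw [h1, h2] at this
    have hpos : 0 < Nat.card (Subgroup.centralizer ({h} : Set G)) := Nat.card_pos
    have hne : (Nat.card (Subgroup.centralizer ({h} : Set G)) : ℂ) ≠ 0 := by
      exact_mod_cast hpos.ne'
    exact hne this.symm

end Cfsg.Agent.Lib.Helper80_CharComplete
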