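import Mathlib
import Cfsg.Prelude.Def_Characters
import Cfsg.Agent.Lib.Helper75_SelfCent
import Cfsg.Agent.Lib.Helper75_CharArith
import Cfsg.Agent.Lib.Helper3_CharBridge
import Cfsg.Agent.Lib.Helper3_CharEigen
import Cfsg.Agent.Lib.Helper3_CharDegree
import Cfsg.Agent.Lib.Helper80_CharBasic
import Cfsg.Agent.Lib.Helper80_CharComplete

/-!
# Perfect groups with a self-centralizing element of order three (helper30)

Let `y` have order `3` in the perfect group `G`, with `C_G(y) = ⟨y⟩`.  Then all elements of order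
`3` are conjugate, every character is integral at `y` with `χ(y) ≡ χ(1) (mod 3)`, and exactly three
irreducible characters `1, χ₊, χ₋` do not vanish at `y`, with `χ₊(y) = 1`, `χ₋(y) = -1`.
-/

set_option autoImplicit false

namespace Cfsg.Agent.Lib.Helper30_SelfCent3

open Cfsg

open scoped ComplexConjugate

section group

variable {G : Type*} [Group G] [Finite G]

/-- all elements of order three are conjugate -/
theorem isConj_of_order_three (hperf : commutator G = ⊤) {y : G} (hy : orderOf y = 3)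
    (hC : Subgroup.centralizer ({y} : Set G) = Subgroup.zpowers y) {g : G}
    (hg : orderOf g = 3) : IsConj y g := by
  have hp : Nat.Prime 3 := Nat.prime_three
  have hcount := Cfsg.Agent.Lib.Helper75_SelfCent.card_classes_mul_relIndex hp hy hC
  have he1 : (Subgroup.zpowers y).relIndex
      (Subgroup.normalizer ((Subgroup.zpowers y : Subgroup G) : Set G)) ≠ 1 := by
    intro he
    have h := (Cfsg.Agent.Lib.Helper75_SelfCent.commutator_of_relIndex_eq_one hp hy hC he).1
    rw [hperf, Subgroup.index_top] at h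
    omega
  set e := (Subgroup.zpowers y).relIndex
      (Subgroup.normalizer ((Subgroup.zpowers y : Subgroup G) : Set G)) with he
  set t := Nat.card {C : ConjClasses G // ∃ g ∈ C.carrier, orderOf g = 3} with ht
  have ht1 : t = 1 := by
    have h2 : t * e = 2 := hcount
    have hle : e ≤ 2 := Nat.le_of_dvd (by norm_num) ⟨t, by rw [← h2, mul_comm]⟩
    interval_cases e
    · omega
    · exact absurd rfl he1
    · omega
  have hsub : Subsingleton {C : ConjClasses G // ∃ g ∈ C.carrier, orderOf g = 3} :=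
    (Nat.card_eq_one_iff_unique.mp ht1).1
  have h1 := hsub.elim ⟨ConjClasses.mk y, y, ConjClasses.mem_carrier_mk, hy⟩
    ⟨ConjClasses.mk g, g, ConjClasses.mem_carrier_mk, hg⟩
  have h2 : ConjClasses.mk y = ConjClasses.mk g := congrArg Subtype.val h1
  exact ConjClasses.mk_eq_mk_iff_isConj.mp h2

end group

section values

variable {G : Type*} [Group G] [Finite G]

theorem sum_zpowers_three {y : G} (hy : orderOf y = 3) [Fintype (Subgroup.zpowers y)]
    (f : G → ℂ) : ∑ u : Subgroup.zpowers y, f (u : G) = f 1 + f y + f (y ^ 2) := by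
  have hfin : IsOfFinOrder y := orderOf_pos_iff.mp (by rw [hy]; norm_num)
  rw [← Equiv.sum_comp (finEquivZPowers hfin) (fun u : Subgroup.zpowers y => f (u : G))]
  simp only [finEquivZPowers_apply]
  rw [Fin.sum_univ_eq_sum_range (fun i => f (y ^ i)) (orderOf y), hy]
  simp [Finset.sum_range_succ]

/-- the value of a character at a real element of order three -/
theorem value_at_three {χ : G → ℂ} (hχ : IsCharacter G χ) {y : G} (hy : orderOf y = 3)
    (hconj : IsConj y y⁻¹) :
    ∃ (n : ℤ) (d : ℕ), χ y = n ∧ χ 1 = d ∧ (3 : ℤ) ∣ (d : ℤ) - n := by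
  classical
  have := Fintype.ofFinite (Subgroup.zpowers y)
  have hcard : Nat.card (Subgroup.zpowers y) = 3 := by rw [Nat.card_zpowers, hy]
  have hχP : IsCharacter (Subgroup.zpowers y) (fun u : Subgroup.zpowers y => χ u) :=
    Cfsg.Agent.Lib.Helper75_CharArith.isCharacter_restrict (Subgroup.zpowers y) hχ
  have h1P : IsCharacter (Subgroup.zpowers y) (fun _ : Subgroup.zpowers y => (1 : ℂ)) :=
    Cfsg.Agent.Lib.Helper3_CharBridge.isCharacter_of_isIrrCharacter
      (Cfsg.Agent.Lib.Helper80_CharBasic.isIrrCharacter_one _)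
  obtain ⟨a, ha⟩ := Cfsg.Agent.Lib.Helper75_CharArith.classInner_isCharacter_nat hχP h1P
  unfold classInner at ha
  rw [hcard] at ha
  have hsum : χ 1 + χ y + χ (y ^ 2) = 3 * (a : ℂ) := by
    rw [← sum_zpowers_three hy χ]
    have h2 : ∑ u : Subgroup.zpowers y, χ (u : G) * conj (1 : ℂ) =
        ∑ u : Subgroup.zpowers y, χ (u : G) := by
      refine Finset.sum_congr rfl fun u _ => ?_
      simp
    rw [h2] at ha
    rw [← ha]
    push_cast
    field_simp
  -- `y ^ 2 = y⁻¹` is conjugate to `y`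
  have hy2 : y ^ 2 = y⁻¹ := by
    have h3 : y ^ 3 = 1 := by rw [← hy]; exact pow_orderOf_eq_one y
    have : y ^ 2 * y = 1 := by rw [← pow_succ]; exact h3
    exact eq_inv_of_mul_eq_one_left this
  have hcf := Cfsg.Agent.Lib.Helper3_CharBridge.isClassFunction_of_isCharacter hχ
  have hval : χ (y ^ 2) = χ y := by
    rw [hy2]
    obtain ⟨c, hc⟩ := isConj_iff.mp hconj
    rw [← hc]
    exact hcf y c
  rw [hval] at hsum
  -- the degree
  obtain ⟨d, hd⟩ : ∃ d : ℕ, χ 1 = d := by
    obtain ⟨n, ρ, rfl⟩ := hχ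
    exact ⟨Module.finrank ℂ (Fin n → ℂ), Representation.char_one ρ⟩
  -- integrality
  have hint : IsIntegral ℤ (χ y) := by
    obtain ⟨n, ρ, rfl⟩ := hχ
    exact Cfsg.Agent.Lib.Helper3_CharEigen.isIntegral_char ρ y
  have hint2 : IsIntegral ℤ (((3 * a + d : ℕ) : ℂ) / ((2 : ℕ) : ℂ)) := by
    have e : ((3 * a + d : ℕ) : ℂ) / ((2 : ℕ) : ℂ) = χ y + (d : ℂ) := by
      push_cast
      rw [hd] at hsum
      field_simp
      linear_combination (-1 : ℂ) * hsum
    rw [e]
    have hdint : IsIntegral ℤ ((d : ℕ) : ℂ) := by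
      have : ((d : ℕ) : ℂ) = algebraMap ℤ ℂ (d : ℤ) := by simp
      rw [this]; exact isIntegral_algebraMap
    exact hint.add hdint
  obtain ⟨m, hm⟩ := Cfsg.Agent.Lib.Helper3_CharDegree.dvd_of_isIntegral_div (by norm_num) hint2
  refine ⟨(m : ℤ) - d, d, ?_, hd, ?_⟩
  · rw [hd] at hsum
    have hm' : (3 : ℂ) * a + d = 2 * m := by exact_mod_cast congrArg (Nat.cast : ℕ → ℂ) hm
    push_cast
    linear_combination (1 / 2 : ℂ) * hsum + (1 / 2 : ℂ) * hm'
  · omega

end values

section squares

/-- a sum of integer squares equal to `2` has exactly two nonzero terms, both `±1` -/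
theorem exists_two_of_sum_sq {ι : Type*} [DecidableEq ι] (s : Finset ι) (f : ι → ℤ)
    (h : ∑ i ∈ s, f i ^ 2 = 2) :
    ∃ a ∈ s, ∃ b ∈ s, a ≠ b ∧ f a ^ 2 = 1 ∧ f b ^ 2 = 1 ∧
      ∀ i ∈ s, i ≠ a → i ≠ b → f i = 0 := by
  have hnn : ∀ (t : Finset ι), 0 ≤ ∑ i ∈ t, f i ^ 2 :=
    fun t => Finset.sum_nonneg fun i _ => sq_nonneg (f i)
  have hunit : ∀ x : ℤ, x ≠ 0 → x ^ 2 ≤ 2 → x ^ 2 = 1 := by
    intro x hx0 hx2
    have h1 : -1 ≤ x := by nlinarith
    have h2 : x ≤ 1 := by nlinarith
    interval_cases x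
    · norm_num
    · exact absurd rfl hx0
    · norm_num
  obtain ⟨a, has, ha0⟩ : ∃ a ∈ s, f a ≠ 0 := by
    by_contra hcon
    push Not at hcon
    rw [Finset.sum_eq_zero (fun i hi => by rw [hcon i hi]; norm_num)] at h
    norm_num at h
  have h1 := Finset.add_sum_erase s (fun i => f i ^ 2) has
  have ha1 : f a ^ 2 = 1 := by
    apply hunit _ ha0
    have := hnn (s.erase a)
    linarith
  have hrest : ∑ i ∈ s.erase a, f i ^ 2 = 1 := by
    linarith
  obtain ⟨b, hbs, hb0⟩ : ∃ b ∈ s.erase a, f b ≠ 0 := by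
    by_contra hcon
    push Not at hcon
    rw [Finset.sum_eq_zero (fun i hi => by rw [hcon i hi]; norm_num)] at hrest
    norm_num at hrest
  have h2 := Finset.add_sum_erase (s.erase a) (fun i => f i ^ 2) hbs
  have hb1 : f b ^ 2 = 1 := by
    apply hunit _ hb0
    have := hnn ((s.erase a).erase b)
    linarith
  have hrest2 : ∑ i ∈ (s.erase a).erase b, f i ^ 2 = 0 := by
    linarith
  refine ⟨a, has, b, Finset.mem_of_mem_erase hbs, (Finset.ne_of_mem_erase hbs).symm, ha1, hb1, ?_⟩
  intro i his hia hib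
  have hmem : i ∈ (s.erase a).erase b :=
    Finset.mem_erase.mpr ⟨hib, Finset.mem_erase.mpr ⟨hia, his⟩⟩
  have := (Finset.sum_eq_zero_iff_of_nonneg (fun i _ => sq_nonneg (f i))).mp hrest2 i hmem
  exact pow_eq_zero_iff (by norm_num) |>.mp this

end squares

section column

variable {G : Type*} [Group G] [Finite G]

open Cfsg.Agent.Lib.Helper80_CharBasic

/-- **The column of a self-centralizing element of order three in a perfect group.** -/
theorem column_at_three (hperf : commutator G = ⊤) {y : G} (hy : orderOf y = 3)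
    (hC : Subgroup.centralizer ({y} : Set G) = Subgroup.zpowers y) :
    ∃ χp χm : IrrCharacter G, χp ≠ oneIrr G ∧ χm ≠ oneIrr G ∧ χp ≠ χm ∧
      (χp : G → ℂ) y = 1 ∧ (χm : G → ℂ) y = -1 ∧
      (∃ d : ℕ, (χp : G → ℂ) 1 = d ∧ (χm : G → ℂ) 1 = (d : ℂ) + 1 ∧ (3 : ℤ) ∣ (d : ℤ) - 1) ∧
      ∀ F : IrrCharacter G → ℂ,
        ∑ᶠ χ : IrrCharacter G, F χ * conj ((χ : G → ℂ) y) = F (oneIrr G) + F χp - F χm := by
  classical
  have := Fintype.ofFinite (IrrCharacter G)
  have hyinv : orderOf y⁻¹ = 3 := by rw [orderOf_inv, hy]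
  have hconj : IsConj y y⁻¹ := isConj_of_order_three hperf hy hC hyinv
  have hval : ∀ χ : IrrCharacter G, ∃ (n : ℤ) (d : ℕ), (χ : G → ℂ) y = n ∧ (χ : G → ℂ) 1 = d ∧
      (3 : ℤ) ∣ (d : ℤ) - n := fun χ =>
    value_at_three (Cfsg.Agent.Lib.Helper3_CharBridge.isCharacter_of_isIrrCharacter χ.2) hy hconj
  choose n d hn hd hnd using hval
  have hdpos : ∀ χ : IrrCharacter G, 0 < d χ := by
    intro χ
    obtain ⟨k, hk, hk1⟩ := irr_apply_one χ
    rw [hd χ] at hk1
    have : d χ = k := by exact_mod_cast hk1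
    omega
  have hone : n (oneIrr G) = 1 := by
    have h1 : ((oneIrr G : IrrCharacter G) : G → ℂ) y = 1 := rfl
    rw [hn] at h1
    exact_mod_cast h1
  have hdone : d (oneIrr G) = 1 := by
    have h1 : ((oneIrr G : IrrCharacter G) : G → ℂ) 1 = 1 := rfl
    rw [hd] at h1
    exact_mod_cast h1
  -- the norm of the column
  have hcardC : Nat.card (Subgroup.centralizer ({y} : Set G)) = 3 := by
    rw [hC, Nat.card_zpowers, hy]
  have hso := (Cfsg.Agent.Lib.Helper80_CharComplete.second_orthogonality y y).1 (IsConj.refl y)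
  rw [finsum_eq_sum_of_fintype, hcardC] at hso
  have hsq : ∑ χ : IrrCharacter G, n χ ^ 2 = 3 := by
    have h1 : ((∑ χ : IrrCharacter G, n χ ^ 2 : ℤ) : ℂ) = ((3 : ℕ) : ℂ) := by
      rw [← hso]
      push_cast
      refine Finset.sum_congr rfl fun χ _ => ?_
      rw [hn χ, map_intCast]
      ring
    exact_mod_cast h1
  have hsq2 : ∑ χ ∈ Finset.univ.erase (oneIrr G), n χ ^ 2 = 2 := by
    have h1 := Finset.add_sum_erase Finset.univ (fun χ => n χ ^ 2) (Finset.mem_univ (oneIrr G))
    rw [hone] at h1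
    linarith
  obtain ⟨a, ha, b, hb, hab, ha1, hb1, hrest⟩ :=
    exists_two_of_sum_sq (Finset.univ.erase (oneIrr G)) n hsq2
  have hane : a ≠ oneIrr G := Finset.ne_of_mem_erase ha
  have hbne : b ≠ oneIrr G := Finset.ne_of_mem_erase hb
  -- the general expansion
  have hexp : ∀ F : IrrCharacter G → ℂ,
      ∑ᶠ χ : IrrCharacter G, F χ * conj ((χ : G → ℂ) y) =
        F (oneIrr G) + F a * (n a : ℂ) + F b * (n b : ℂ) := by
    intro F
    rw [finsum_eq_sum_of_fintype,
      ← Finset.add_sum_erase Finset.univ _ (Finset.mem_univ (oneIrr G)),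
      Finset.sum_eq_add_of_mem a b ha hb hab]
    · rw [hn, hn, hn, hone, map_intCast, map_intCast, map_intCast]
      push_cast
      ring
    · intro c hc hcab
      rw [hn, hrest c hc hcab.1 hcab.2]
      simp
  -- orthogonality with the column of `1`
  have hy1 : y ≠ 1 := by
    intro h
    rw [h, orderOf_one] at hy
    omega
  have hso1 := (Cfsg.Agent.Lib.Helper80_CharComplete.second_orthogonality 1 y).2
    (fun h => hy1 (isConj_one_right.mp h))
  rw [hexp (fun χ => (χ : G → ℂ) 1)] at hso1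
  simp only [hd, hdone] at hso1
  have hrel : (1 : ℤ) + d a * n a + d b * n b = 0 := by
    have h1 : (((1 : ℤ) + d a * n a + d b * n b : ℤ) : ℂ) = ((0 : ℤ) : ℂ) := by
      push_cast
      push_cast at hso1
      linear_combination hso1
    exact_mod_cast h1
  have hpm : ∀ x : ℤ, x ^ 2 = 1 → x = 1 ∨ x = -1 := by
    intro x hx
    have h1 : (x - 1) * (x + 1) = 0 := by linear_combination hx
    rcases mul_eq_zero.mp h1 with h | h
    · left; omega
    · right; omega
  have hda := hdpos a
  have hdb := hdpos b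
  rcases hpm _ ha1 with hna | hna <;> rcases hpm _ hb1 with hnb | hnb
  · exfalso
    rw [hna, hnb] at hrel
    omega
  · -- `a` is `χ₊`, `b` is `χ₋`
    refine ⟨a, b, hane, hbne, hab, by rw [hn, hna]; norm_num, by rw [hn, hnb]; norm_num,
      ⟨d a, hd a, ?_, ?_⟩, ?_⟩
    · rw [hd b]
      rw [hna, hnb] at hrel
      have : d b = d a + 1 := by omega
      rw [this]; push_cast; ring
    · have := hnd a
      rw [hna] at this
      exact this
    · intro F
      rw [hexp F, hna, hnb]
      push_cast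
      ring
  · refine ⟨b, a, hbne, hane, hab.symm, by rw [hn, hnb]; norm_num, by rw [hn, hna]; norm_num,
      ⟨d b, hd b, ?_, ?_⟩, ?_⟩
    · rw [hd a]
      rw [hna, hnb] at hrel
      have : d a = d b + 1 := by omega
      rw [this]; push_cast; ring
    · have := hnd b
      rw [hnb] at this
      exact this
    · intro F
      rw [hexp F, hna, hnb]
      push_cast
      ring
  · exfalso
    rw [hna, hnb] at hrel
    omega

end column

end Cfsg.Agent.Lib.Helper30_SelfCent3
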