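import Mathlib
import Cfsg.Prelude.Def_Characters
import Cfsg.Agent.Lib.Helper80_CharBasic

/-!
# S3341 (A6 from a self-centralizing TI Sylow 3-subgroup of order 9 with >= 2 classes of 3-elements):
shared definitions for helper6's package market `s3341_packages`.

`Hyp G S`       : `S` elementary abelian of order 9, `C_G(s) = S` for every `s ∈ S`, `s ≠ 1`, and every
                  element of order 3 of `G` is conjugate into `S`.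
`Fus2 G S`      : fusion pattern `|N_G(S) : S| = 2`  (`s` is conjugate in `G` exactly to `s, s⁻¹` inside `S`).
`Fus4 G S s s'` : fusion pattern `|N_G(S) : S| = 4`  (two classes `{s^±1, s'^±1}` and `{s^±1 s'^±1}`).
`Data4`         : the six irreducible characters not vanishing on `S ∖ 1` in the case `Fus4`.
-/

set_option autoImplicit false

namespace Cfsg.Agent.Lib.Helper6_A6Defs

open Cfsg Cfsg.Agent.Lib.Helper80_CharBasic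

/-- standing hypotheses -/
structure Hyp (G : Type*) [Group G] (S : Subgroup G) : Prop where
  card : Nat.card S = 9
  comm : ∀ a ∈ S, ∀ b ∈ S, a * b = b * a
  exp : ∀ a ∈ S, a ^ 3 = 1
  cent : ∀ s ∈ S, s ≠ 1 → Subgroup.centralizer ({s} : Set G) = S
  syl : ∀ x : G, orderOf x = 3 → ∃ g : G, g * x * g⁻¹ ∈ S

/-- fusion pattern with `|N(S):S| = 2` -/
def Fus2 (G : Type*) [Group G] (S : Subgroup G) : Prop :=
  ∀ s ∈ S, s ≠ 1 → ∀ u ∈ S, IsConj s u ↔ (u = s ∨ u = s⁻¹)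

/-- fusion pattern with `|N(S):S| = 4`: `S = ⟨s⟩ × ⟨s'⟩`, the two classes of nonidentity elements of `S`
are `{s, s⁻¹, s', s'⁻¹}` and `{s s', s s'⁻¹, s⁻¹ s', s⁻¹ s'⁻¹}`. -/
structure Fus4 (G : Type*) [Group G] (S : Subgroup G) (s s' : G) : Prop where
  hs : s ∈ S
  hs' : s' ∈ S
  hs1 : s ≠ 1
  hs'1 : s' ≠ 1
  hne : s' ≠ s
  hne' : s' ≠ s⁻¹
  cardN : Nat.card (Subgroup.normalizer (S : Set G)) = 36
  cls1 : ∀ u ∈ S, IsConj s u ↔ (u = s ∨ u = s⁻¹ ∨ u = s' ∨ u = s'⁻¹)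
  cls2 : ∀ u ∈ S, IsConj (s * s') u ↔
    (u = s * s' ∨ u = s * s'⁻¹ ∨ u = s⁻¹ * s' ∨ u = s⁻¹ * s'⁻¹)

/-- the character data in the case `Fus4`: besides the principal character exactly five irreducible
characters do not vanish on `S ∖ 1`:  `X 0, X 1, X 2` (constant value `c j = ±1` there) and `Λ₁, Λ₂`
(values `-ε, 2ε` resp. `2ε, -ε` on the classes of `s`, `s s'`). -/
structure Data4 (G : Type*) [Group G] (s s' : G) where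
  X : Fin 3 → IrrCharacter G
  c : Fin 3 → ℤ
  Λ₁ : IrrCharacter G
  Λ₂ : IrrCharacter G
  ε : ℤ
  x : Fin 3 → ℕ
  d : ℕ
  hc : ∀ j, c j = 1 ∨ c j = -1
  hε : ε = 1 ∨ ε = -1
  X_inj : Function.Injective X
  X_ne : ∀ j, X j ≠ oneIrr G ∧ X j ≠ Λ₁ ∧ X j ≠ Λ₂
  Λ_ne : Λ₁ ≠ Λ₂ ∧ Λ₁ ≠ oneIrr G ∧ Λ₂ ≠ oneIrr G
  X_one : ∀ j, (X j : G → ℂ) 1 = x j
  Λ₁_one : (Λ₁ : G → ℂ) 1 = d
  Λ₂_one : (Λ₂ : G → ℂ) 1 = d
  X_s : ∀ j, (X j : G → ℂ) s = c j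
  X_ss : ∀ j, (X j : G → ℂ) (s * s') = c j
  Λ₁_s : (Λ₁ : G → ℂ) s = -ε
  Λ₁_ss : (Λ₁ : G → ℂ) (s * s') = 2 * ε
  Λ₂_s : (Λ₂ : G → ℂ) s = 2 * ε
  Λ₂_ss : (Λ₂ : G → ℂ) (s * s') = -ε
  supp : ∀ χ : IrrCharacter G, ((χ : G → ℂ) s ≠ 0 ∨ (χ : G → ℂ) (s * s') ≠ 0) →
    χ = oneIrr G ∨ (∃ j, χ = X j) ∨ χ = Λ₁ ∨ χ = Λ₂
  deg : (1 : ℤ) + ∑ j, c j * (x j : ℤ) + ε * (d : ℤ) = 0

end Cfsg.Agent.Lib.Helper6_A6Defs
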