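import Mathlib
import Cfsg.Prelude.Def_Characters
import Cfsg.Agent.Lib.Helper80_CharBasic
import Cfsg.Agent.Lib.Helper80_CharComplete
import Cfsg.Agent.Lib.Helper30_SelfCent3
import Cfsg.Agent.Lib.Helper6_A6Defs

/-!
# S3341 package GRAM4 (helper43 for helper6): the Gram data of the two integer vectors `α, β` attached to the
values of the irreducible characters on the two classes of 3-elements (fusion pattern `Fus4`).
-/

set_option autoImplicit false
set_option linter.unusedSectionVars false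
open scoped ComplexConjugate

namespace Cfsg.Agent.Lib.Helper43_A6_GRAM4

open Cfsg Cfsg.Agent.Lib.Helper80_CharBasic Cfsg.Agent.Lib.Helper6_A6Defs

section grp
variable {G : Type*} [Group G] [Finite G] {S : Subgroup G}

/-- in a group, `x⁻¹ * x⁻¹ = x` when `x ^ 3 = 1` -/
theorem inv_mul_inv_of_cube {x : G} (hx : x ^ 3 = 1) : x⁻¹ * x⁻¹ = x := by
  calc x⁻¹ * x⁻¹ = x⁻¹ * x⁻¹ * x ^ 3 := by rw [hx, mul_one]
    _ = x := by group

theorem gram4 (h : Hyp G S) {s s' : G} (hf : Fus4 G S s s') :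
    ∃ α β : IrrCharacter G → ℤ,
      (∀ χ : IrrCharacter G, (χ : G → ℂ) s = 2 * (β χ : ℂ) - (α χ : ℂ) ∧
        (χ : G → ℂ) (s * s') = 2 * (α χ : ℂ) - (β χ : ℂ)) ∧
      α (oneIrr G) = 1 ∧ β (oneIrr G) = 1 ∧
      ∑ᶠ χ : IrrCharacter G, α χ ^ 2 = 5 ∧ ∑ᶠ χ : IrrCharacter G, β χ ^ 2 = 5 ∧
      ∑ᶠ χ : IrrCharacter G, α χ * β χ = 4 ∧
      ∑ᶠ χ : IrrCharacter G, (α χ : ℂ) * (χ : G → ℂ) 1 = 0 ∧
      ∑ᶠ χ : IrrCharacter G, (β χ : ℂ) * (χ : G → ℂ) 1 = 0 := by
  classical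
  have := Fintype.ofFinite G
  let _ : Fintype (IrrCharacter G) := Fintype.ofFinite _
  have htS : s * s' ∈ S := S.mul_mem hf.hs hf.hs'
  have hs3 : s ^ 3 = 1 := h.exp s hf.hs
  have hs'3 : s' ^ 3 = 1 := h.exp s' hf.hs'
  have hcomm : s * s' = s' * s := h.comm s hf.hs s' hf.hs'
  have ht1 : s * s' ≠ 1 := fun e => hf.hne' (eq_inv_of_mul_eq_one_right e)
  have ho_s : orderOf s = 3 := orderOf_eq_prime hs3 hf.hs1
  have ho_t : orderOf (s * s') = 3 := orderOf_eq_prime (h.exp _ htS) ht1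
  have hreal_s : IsConj s s⁻¹ := (hf.cls1 s⁻¹ (S.inv_mem hf.hs)).2 (Or.inr (Or.inl rfl))
  have hreal_t : IsConj (s * s') (s * s')⁻¹ := by
    have e : (s * s')⁻¹ = s⁻¹ * s'⁻¹ := by rw [← mul_inv_rev, ← hcomm]
    rw [e]
    exact (hf.cls2 _ (S.mul_mem (S.inv_mem hf.hs) (S.inv_mem hf.hs'))).2
      (Or.inr (Or.inr (Or.inr rfl)))
  have hnc : ¬ IsConj s (s * s') := by
    intro hc
    rcases (hf.cls1 _ htS).1 hc with e | e | e | e
    · exact hf.hs'1 (mul_eq_left.mp e)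
    · apply hf.hne
      have : s' = s⁻¹ * s⁻¹ := by
        calc s' = s⁻¹ * (s * s') := by group
          _ = s⁻¹ * s⁻¹ := by rw [e]
      rw [this, inv_mul_inv_of_cube hs3]
    · exact hf.hs1 (mul_eq_right.mp e)
    · apply hf.hne
      have : s = s'⁻¹ * s'⁻¹ := by
        have e' : s = s'⁻¹ * s'⁻¹ := by
          calc s = s * s' * s'⁻¹ := by group
            _ = s'⁻¹ * s'⁻¹ := by rw [e]
        exact e'
      rw [this, inv_mul_inv_of_cube hs'3]
  have hnc1 : ¬ IsConj s 1 := fun hc => hf.hs1 (isConj_one_left.mp hc)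
  have hnct1 : ¬ IsConj (s * s') 1 := fun hc => ht1 (isConj_one_left.mp hc)
  have hcs : Nat.card (Subgroup.centralizer ({s} : Set G)) = 9 := by
    rw [h.cent s hf.hs hf.hs1, h.card]
  have hct : Nat.card (Subgroup.centralizer ({s * s'} : Set G)) = 9 := by
    rw [h.cent _ htS ht1, h.card]
  -- integrality
  have hex : ∀ χ : IrrCharacter G, ∃ a b : ℤ, (χ : G → ℂ) s = 2 * (b : ℂ) - (a : ℂ) ∧
      (χ : G → ℂ) (s * s') = 2 * (a : ℂ) - (b : ℂ) := by
    intro χ
    have hχ : IsCharacter G (χ : G → ℂ) :=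
      Cfsg.Agent.Lib.Helper3_CharBridge.isCharacter_of_isIrrCharacter χ.2
    obtain ⟨n, d, hn, hd, hdn⟩ := Cfsg.Agent.Lib.Helper30_SelfCent3.value_at_three hχ ho_s hreal_s
    obtain ⟨n', d', hn', hd', hdn'⟩ :=
      Cfsg.Agent.Lib.Helper30_SelfCent3.value_at_three hχ ho_t hreal_t
    have hdd : d = d' := by
      have : (d : ℂ) = (d' : ℂ) := by rw [← hd, ← hd']
      exact_mod_cast this
    subst hdd
    obtain ⟨k, hk⟩ : (3 : ℤ) ∣ n - n' := by
      have := dvd_sub hdn' hdn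
      have e : (d : ℤ) - n' - ((d : ℤ) - n) = n - n' := by ring
      rwa [e] at this
    refine ⟨n' + k, n' + 2 * k, ?_, ?_⟩
    · rw [hn]
      have : n = n' + 3 * k := by linarith
      rw [this]
      push_cast
      ring
    · rw [hn']
      push_cast
      ring
  choose α β hαβ using hex
  have hvs : ∀ χ : IrrCharacter G, (χ : G → ℂ) s = ((2 * β χ - α χ : ℤ) : ℂ) := by
    intro χ
    rw [(hαβ χ).1]
    push_cast
    ring
  have hvt : ∀ χ : IrrCharacter G, (χ : G → ℂ) (s * s') = ((2 * α χ - β χ : ℤ) : ℂ) := by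
    intro χ
    rw [(hαβ χ).2]
    push_cast
    ring
  have hdeg : ∀ χ : IrrCharacter G, ∃ n : ℕ, (χ : G → ℂ) 1 = n := by
    intro χ
    obtain ⟨n, -, hn⟩ := irr_apply_one χ
    exact ⟨n, hn⟩
  choose dg hdg using hdeg
  -- the principal character
  have hone : α (oneIrr G) = 1 ∧ β (oneIrr G) = 1 := by
    have h1 := hvs (oneIrr G)
    have h2 := hvt (oneIrr G)
    have e1 : ((oneIrr G : IrrCharacter G) : G → ℂ) s = 1 := rfl
    have e2 : ((oneIrr G : IrrCharacter G) : G → ℂ) (s * s') = 1 := rfl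
    rw [e1] at h1
    rw [e2] at h2
    have h1' : (1 : ℤ) = 2 * β (oneIrr G) - α (oneIrr G) := by exact_mod_cast h1
    have h2' : (1 : ℤ) = 2 * α (oneIrr G) - β (oneIrr G) := by exact_mod_cast h2
    constructor <;> omega
  -- second orthogonality
  have o_ss := Cfsg.Agent.Lib.Helper80_CharComplete.second_orthogonality_sum s s
  have o_tt := Cfsg.Agent.Lib.Helper80_CharComplete.second_orthogonality_sum (s * s') (s * s')
  have o_st := Cfsg.Agent.Lib.Helper80_CharComplete.second_orthogonality_sum s (s * s')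
  have o_s1 := Cfsg.Agent.Lib.Helper80_CharComplete.second_orthogonality_sum s (1 : G)
  have o_t1 := Cfsg.Agent.Lib.Helper80_CharComplete.second_orthogonality_sum (s * s') (1 : G)
  rw [if_pos (IsConj.refl _), hcs] at o_ss
  rw [if_pos (IsConj.refl _), hct] at o_tt
  rw [if_neg hnc] at o_st
  rw [if_neg hnc1] at o_s1
  rw [if_neg hnct1] at o_t1
  simp only [hvs, hvt, map_intCast, hdg, map_natCast] at o_ss o_tt o_st o_s1 o_t1
  have i_ss : ∑ χ : IrrCharacter G, (2 * β χ - α χ) * (2 * β χ - α χ) = 9 := by exact_mod_cast o_ss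
  have i_tt : ∑ χ : IrrCharacter G, (2 * α χ - β χ) * (2 * α χ - β χ) = 9 := by exact_mod_cast o_tt
  have i_st : ∑ χ : IrrCharacter G, (2 * β χ - α χ) * (2 * α χ - β χ) = 0 := by exact_mod_cast o_st
  have i_s1 : ∑ χ : IrrCharacter G, (2 * β χ - α χ) * (dg χ : ℤ) = 0 := by exact_mod_cast o_s1
  have i_t1 : ∑ χ : IrrCharacter G, (2 * α χ - β χ) * (dg χ : ℤ) = 0 := by exact_mod_cast o_t1
  -- expand
  have e_ss : ∑ χ : IrrCharacter G, (2 * β χ - α χ) * (2 * β χ - α χ)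
      = 4 * ∑ χ : IrrCharacter G, β χ ^ 2 - 4 * ∑ χ : IrrCharacter G, α χ * β χ
        + ∑ χ : IrrCharacter G, α χ ^ 2 := by
    rw [Finset.mul_sum, Finset.mul_sum, ← Finset.sum_sub_distrib, ← Finset.sum_add_distrib]
    exact Finset.sum_congr rfl (fun χ _ => by ring)
  have e_tt : ∑ χ : IrrCharacter G, (2 * α χ - β χ) * (2 * α χ - β χ)
      = 4 * ∑ χ : IrrCharacter G, α χ ^ 2 - 4 * ∑ χ : IrrCharacter G, α χ * β χ
        + ∑ χ : IrrCharacter G, β χ ^ 2 := by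
    rw [Finset.mul_sum, Finset.mul_sum, ← Finset.sum_sub_distrib, ← Finset.sum_add_distrib]
    exact Finset.sum_congr rfl (fun χ _ => by ring)
  have e_st : ∑ χ : IrrCharacter G, (2 * β χ - α χ) * (2 * α χ - β χ)
      = 5 * ∑ χ : IrrCharacter G, α χ * β χ - 2 * ∑ χ : IrrCharacter G, α χ ^ 2
        - 2 * ∑ χ : IrrCharacter G, β χ ^ 2 := by
    rw [Finset.mul_sum, Finset.mul_sum, Finset.mul_sum, ← Finset.sum_sub_distrib,
      ← Finset.sum_sub_distrib]
    exact Finset.sum_congr rfl (fun χ _ => by ring)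
  have e_s1 : ∑ χ : IrrCharacter G, (2 * β χ - α χ) * (dg χ : ℤ)
      = 2 * ∑ χ : IrrCharacter G, β χ * (dg χ : ℤ) - ∑ χ : IrrCharacter G, α χ * (dg χ : ℤ) := by
    rw [Finset.mul_sum, ← Finset.sum_sub_distrib]
    exact Finset.sum_congr rfl (fun χ _ => by ring)
  have e_t1 : ∑ χ : IrrCharacter G, (2 * α χ - β χ) * (dg χ : ℤ)
      = 2 * ∑ χ : IrrCharacter G, α χ * (dg χ : ℤ) - ∑ χ : IrrCharacter G, β χ * (dg χ : ℤ) := by
    rw [Finset.mul_sum, ← Finset.sum_sub_distrib]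
    exact Finset.sum_congr rfl (fun χ _ => by ring)
  rw [e_ss] at i_ss
  rw [e_tt] at i_tt
  rw [e_st] at i_st
  rw [e_s1] at i_s1
  rw [e_t1] at i_t1
  have hA : ∑ χ : IrrCharacter G, α χ ^ 2 = 5 := by linarith
  have hB : ∑ χ : IrrCharacter G, β χ ^ 2 = 5 := by linarith
  have hC : ∑ χ : IrrCharacter G, α χ * β χ = 4 := by linarith
  have hD : ∑ χ : IrrCharacter G, α χ * (dg χ : ℤ) = 0 := by linarith
  have hE : ∑ χ : IrrCharacter G, β χ * (dg χ : ℤ) = 0 := by linarith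
  refine ⟨α, β, hαβ, hone.1, hone.2, ?_, ?_, ?_, ?_, ?_⟩
  · rw [finsum_eq_sum_of_fintype]; exact hA
  · rw [finsum_eq_sum_of_fintype]; exact hB
  · rw [finsum_eq_sum_of_fintype]; exact hC
  · rw [finsum_eq_sum_of_fintype]
    simp only [hdg]
    exact_mod_cast hD
  · rw [finsum_eq_sum_of_fintype]
    simp only [hdg]
    exact_mod_cast hE

end grp

end Cfsg.Agent.Lib.Helper43_A6_GRAM4
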