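import Mathlib

/-!
# S3341 package SUN4 (architect helper6, proof helper69): pure combinatorics of integer vectors

Two integer vectors `α, β` of norm 5 with inner product 4, both `1` at `o` and orthogonal to a positive
vector `deg`: `α - β` has norm 2, so `α = β` except at two places `l₁, l₂` of equal degree; the rest of the
support consists of three common places with values `±1`.
-/

set_option autoImplicit false

namespace Cfsg.Agent.Lib.Helper69_A6_SUN4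

theorem pm_of_sq_le {x : ℤ} (h0 : x ≠ 0) (h : x ^ 2 ≤ 3) : x = 1 ∨ x = -1 := by
  have h1 : -2 < x := by nlinarith
  have h2 : x < 2 := by nlinarith
  omega

theorem sq_of_pm {x : ℤ} (h : x = 1 ∨ x = -1) : x ^ 2 = 1 := by
  rcases h with h | h <;> rw [h] <;> norm_num

/-- peel one nonzero term off a small sum of integer squares -/
theorem peel {I : Type*} [DecidableEq I] (s : Finset I) (f : I → ℤ) (n : ℤ) (hn0 : 0 ≤ n)
    (hn : n + 1 ≤ 3) (h : ∑ i ∈ s, f i ^ 2 = n + 1) :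
    ∃ a ∈ s, (f a = 1 ∨ f a = -1) ∧ ∑ i ∈ s.erase a, f i ^ 2 = n := by
  have hnn : ∀ t : Finset I, 0 ≤ ∑ i ∈ t, f i ^ 2 :=
    fun t => Finset.sum_nonneg fun i _ => sq_nonneg (f i)
  by_cases hex : ∃ a ∈ s, f a ≠ 0
  · obtain ⟨a, has, ha0⟩ := hex
    have h2 : f a ^ 2 + ∑ i ∈ s.erase a, f i ^ 2 = ∑ i ∈ s, f i ^ 2 :=
      Finset.add_sum_erase s (fun i => f i ^ 2) has
    have h3 := hnn (s.erase a)
    have hpm := pm_of_sq_le ha0 (by linarith)
    have h4 := sq_of_pm hpm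
    exact ⟨a, has, hpm, by linarith⟩
  · exfalso
    push_neg at hex
    have h2 : ∑ i ∈ s, f i ^ 2 = 0 :=
      Finset.sum_eq_zero (fun i hi => by rw [hex i hi]; norm_num)
    linarith

theorem zero_of_sum_sq {I : Type*} (s : Finset I) (f : I → ℤ) (h : ∑ i ∈ s, f i ^ 2 = 0) :
    ∀ i ∈ s, f i = 0 := by
  intro i hi
  have h1 := (Finset.sum_eq_zero_iff_of_nonneg (fun i _ => sq_nonneg (f i))).mp h i hi
  exact pow_eq_zero_iff (two_ne_zero) |>.mp h1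

/-- the endgame: once `l₁, l₂, ε` are known -/
theorem finish {I : Type*} [Fintype I] [DecidableEq I] (o : I) (deg : I → ℕ) (α β : I → ℤ)
    (hα : ∑ i, α i ^ 2 = 5) (hαo : α o = 1)
    (ε : ℤ) (l₁ l₂ : I) (hε : ε = 1 ∨ ε = -1) (hl : l₁ ≠ l₂) (h1o : l₁ ≠ o) (h2o : l₂ ≠ o)
    (hdeg : deg l₁ = deg l₂) (hα1 : α l₁ = ε) (hβ1 : β l₁ = 0) (hα2 : α l₂ = 0) (hβ2 : β l₂ = ε)
    (hrest : ∀ i, i ≠ l₁ → i ≠ l₂ → α i = β i) :
    ∃ (ε : ℤ) (l₁ l₂ : I) (x : Fin 3 → I) (c : Fin 3 → ℤ),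
      (ε = 1 ∨ ε = -1) ∧ (∀ j, c j = 1 ∨ c j = -1) ∧ Function.Injective x ∧
      l₁ ≠ l₂ ∧ l₁ ≠ o ∧ l₂ ≠ o ∧ (∀ j, x j ≠ o ∧ x j ≠ l₁ ∧ x j ≠ l₂) ∧ deg l₁ = deg l₂ ∧
      α l₁ = ε ∧ β l₁ = 0 ∧ α l₂ = 0 ∧ β l₂ = ε ∧ (∀ j, α (x j) = c j ∧ β (x j) = c j) ∧
      (∀ i, i ≠ o → i ≠ l₁ → i ≠ l₂ → (∀ j, i ≠ x j) → α i = 0 ∧ β i = 0) := by
  -- the rest of the support of `α`
  have hmem1 : l₁ ∈ (Finset.univ : Finset I).erase o :=
    Finset.mem_erase.mpr ⟨h1o, Finset.mem_univ _⟩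
  have hmem2 : l₂ ∈ ((Finset.univ : Finset I).erase o).erase l₁ :=
    Finset.mem_erase.mpr ⟨hl.symm, Finset.mem_erase.mpr ⟨h2o, Finset.mem_univ _⟩⟩
  have e1 := Finset.add_sum_erase Finset.univ (fun i => α i ^ 2) (Finset.mem_univ o)
  have e2 := Finset.add_sum_erase _ (fun i => α i ^ 2) hmem1
  have e3 := Finset.add_sum_erase _ (fun i => α i ^ 2) hmem2
  obtain ⟨T, hT⟩ : ∃ T, T = (((Finset.univ : Finset I).erase o).erase l₁).erase l₂ := ⟨_, rfl⟩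
  rw [← hT] at e3
  have hmemT : ∀ i, i ∈ T ↔ i ≠ o ∧ i ≠ l₁ ∧ i ≠ l₂ := by
    intro i
    rw [hT]
    simp only [Finset.mem_erase, Finset.mem_univ, and_true]
    tauto
  have hε2 := sq_of_pm hε
  have hR : ∑ i ∈ T, α i ^ 2 = 2 + 1 := by
    rw [hαo, hα1, hα2] at *
    linarith
  obtain ⟨x0, hx0, hc0, hR1⟩ := peel T α 2 (by norm_num) (by norm_num) hR
  obtain ⟨x1, hx1, hc1, hR2⟩ := peel (T.erase x0) α 1 (by norm_num) (by norm_num) hR1
  obtain ⟨x2, hx2, hc2, hR3⟩ := peel ((T.erase x0).erase x1) α 0 (by norm_num) (by norm_num)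
    (by rw [hR2]; norm_num)
  have hz := zero_of_sum_sq _ _ hR3
  have hx1T : x1 ∈ T := Finset.mem_of_mem_erase hx1
  have hx2T : x2 ∈ T := Finset.mem_of_mem_erase (Finset.mem_of_mem_erase hx2)
  have h10 : x1 ≠ x0 := Finset.ne_of_mem_erase hx1
  have h21 : x2 ≠ x1 := Finset.ne_of_mem_erase hx2
  have h20 : x2 ≠ x0 := Finset.ne_of_mem_erase (Finset.mem_of_mem_erase hx2)
  have hβx : ∀ i ∈ T, β i = α i := by
    intro i hi
    obtain ⟨-, hi1, hi2⟩ := (hmemT i).mp hi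
    exact (hrest i hi1 hi2).symm
  refine ⟨ε, l₁, l₂, ![x0, x1, x2], ![α x0, α x1, α x2], hε, ?_, ?_, hl, h1o, h2o, ?_, hdeg,
    hα1, hβ1, hα2, hβ2, ?_, ?_⟩
  · intro j
    fin_cases j
    · exact hc0
    · exact hc1
    · exact hc2
  · intro j j' hjj'
    fin_cases j <;> fin_cases j' <;> first | rfl | (exfalso; simp at hjj'; tauto)
  · intro j
    fin_cases j
    · exact (hmemT x0).mp hx0
    · exact (hmemT x1).mp hx1T
    · exact (hmemT x2).mp hx2T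
  · intro j
    fin_cases j
    · exact ⟨rfl, hβx x0 hx0⟩
    · exact ⟨rfl, hβx x1 hx1T⟩
    · exact ⟨rfl, hβx x2 hx2T⟩
  · intro i hio hi1 hi2 hix
    have hiT : i ∈ T := (hmemT i).mpr ⟨hio, hi1, hi2⟩
    have hi0 : i ≠ x0 := hix 0
    have hi1' : i ≠ x1 := hix 1
    have hi2' : i ≠ x2 := hix 2
    have h0 : α i = 0 := hz i (Finset.mem_erase.mpr ⟨hi2', Finset.mem_erase.mpr
      ⟨hi1', Finset.mem_erase.mpr ⟨hi0, hiT⟩⟩⟩)
    exact ⟨h0, by rw [hβx i hiT, h0]⟩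

theorem sun4 {I : Type*} [Fintype I] [DecidableEq I] (o : I) (deg : I → ℕ)
    (hdeg : ∀ i, 0 < deg i) (α β : I → ℤ)
    (hα : ∑ i, α i ^ 2 = 5) (hβ : ∑ i, β i ^ 2 = 5) (hαβ : ∑ i, α i * β i = 4)
    (hαo : α o = 1) (hβo : β o = 1)
    (hαd : ∑ i, α i * (deg i : ℤ) = 0) (hβd : ∑ i, β i * (deg i : ℤ) = 0) :
    ∃ (ε : ℤ) (l₁ l₂ : I) (x : Fin 3 → I) (c : Fin 3 → ℤ),
      (ε = 1 ∨ ε = -1) ∧ (∀ j, c j = 1 ∨ c j = -1) ∧ Function.Injective x ∧
      l₁ ≠ l₂ ∧ l₁ ≠ o ∧ l₂ ≠ o ∧ (∀ j, x j ≠ o ∧ x j ≠ l₁ ∧ x j ≠ l₂) ∧ deg l₁ = deg l₂ ∧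
      α l₁ = ε ∧ β l₁ = 0 ∧ α l₂ = 0 ∧ β l₂ = ε ∧ (∀ j, α (x j) = c j ∧ β (x j) = c j) ∧
      (∀ i, i ≠ o → i ≠ l₁ → i ≠ l₂ → (∀ j, i ≠ x j) → α i = 0 ∧ β i = 0) := by
  obtain ⟨δ, hδdef⟩ : ∃ δ : I → ℤ, ∀ i, δ i = α i - β i := ⟨fun i => α i - β i, fun i => rfl⟩
  have hδ : ∑ i, δ i ^ 2 = 1 + 1 := by
    have h1 : ∑ i, δ i ^ 2 = ∑ i, α i ^ 2 + ∑ i, β i ^ 2 - 2 * ∑ i, α i * β i := by
      rw [Finset.mul_sum, ← Finset.sum_add_distrib, ← Finset.sum_sub_distrib]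
      exact Finset.sum_congr rfl (fun i _ => by rw [hδdef]; ring)
    rw [h1, hα, hβ, hαβ]
    norm_num
  obtain ⟨P', -, hP', h1⟩ := peel Finset.univ δ 1 (by norm_num) (by norm_num) hδ
  obtain ⟨Q', hQ'mem, hQ', h2⟩ := peel (Finset.univ.erase P') δ 0 (by norm_num) (by norm_num)
    (by rw [h1]; norm_num)
  have hQP : Q' ≠ P' := Finset.ne_of_mem_erase hQ'mem
  have hrest0 := zero_of_sum_sq _ _ h2
  -- degrees
  have hdd : ∑ i, δ i * (deg i : ℤ) = 0 := by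
    have h3 : ∑ i, δ i * (deg i : ℤ) = ∑ i, α i * (deg i : ℤ) - ∑ i, β i * (deg i : ℤ) := by
      rw [← Finset.sum_sub_distrib]
      exact Finset.sum_congr rfl (fun i _ => by rw [hδdef]; ring)
    rw [h3, hαd, hβd, sub_zero]
  have hdd2 : δ P' * (deg P' : ℤ) + δ Q' * (deg Q' : ℤ) = 0 := by
    have e1 := Finset.add_sum_erase Finset.univ (fun i => δ i * (deg i : ℤ)) (Finset.mem_univ P')
    have e2 := Finset.add_sum_erase _ (fun i => δ i * (deg i : ℤ)) hQ'mem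
    have e3 : ∑ i ∈ (Finset.univ.erase P').erase Q', δ i * (deg i : ℤ) = 0 :=
      Finset.sum_eq_zero (fun i hi => by rw [hrest0 i hi, zero_mul])
    linarith
  have hposP := hdeg P'
  have hposQ := hdeg Q'
  -- name the `+1` and the `-1` position
  obtain ⟨P, M, hPM, hP1, hM1, hdegPM, hrestPM⟩ : ∃ P M : I, P ≠ M ∧ δ P = 1 ∧ δ M = -1 ∧
      deg P = deg M ∧ ∀ i, i ≠ P → i ≠ M → δ i = 0 := by
    rcases hP' with hp | hp <;> rcases hQ' with hq | hq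
    · exfalso
      rw [hp, hq] at hdd2
      omega
    · refine ⟨P', Q', hQP.symm, hp, hq, ?_, ?_⟩
      · rw [hp, hq] at hdd2
        omega
      · intro i hiP hiQ
        exact hrest0 i (Finset.mem_erase.mpr ⟨hiQ, Finset.mem_erase.mpr ⟨hiP, Finset.mem_univ _⟩⟩)
    · refine ⟨Q', P', hQP, hq, hp, ?_, ?_⟩
      · rw [hp, hq] at hdd2
        omega
      · intro i hiQ hiP
        exact hrest0 i (Finset.mem_erase.mpr ⟨hiQ, Finset.mem_erase.mpr ⟨hiP, Finset.mem_univ _⟩⟩)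
    · exfalso
      rw [hp, hq] at hdd2
      omega
  have hαβP : α P = β P + 1 := by have := hδdef P; linarith
  have hαβM : α M = β M - 1 := by have := hδdef M; linarith
  have hrest : ∀ i, i ≠ P → i ≠ M → α i = β i := by
    intro i hiP hiM
    have h3 := hrestPM i hiP hiM
    rw [hδdef] at h3
    linarith
  have hPo : P ≠ o := by
    intro h
    rw [h] at hαβP
    linarith
  have hMo : M ≠ o := by
    intro h
    rw [h] at hαβM
    linarith
  -- `α P - α M = 1`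
  have hαδ : ∑ i, α i * δ i = 1 := by
    have h3 : ∑ i, α i * δ i = ∑ i, α i ^ 2 - ∑ i, α i * β i := by
      rw [← Finset.sum_sub_distrib]
      exact Finset.sum_congr rfl (fun i _ => by rw [hδdef]; ring)
    rw [h3, hα, hαβ]
    norm_num
  have hmemM : M ∈ (Finset.univ : Finset I).erase P :=
    Finset.mem_erase.mpr ⟨hPM.symm, Finset.mem_univ _⟩
  have hPMrel : α P - α M = 1 := by
    have e1 := Finset.add_sum_erase Finset.univ (fun i => α i * δ i) (Finset.mem_univ P)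
    have e2 := Finset.add_sum_erase _ (fun i => α i * δ i) hmemM
    have e3 : ∑ i ∈ (Finset.univ.erase P).erase M, α i * δ i = 0 :=
      Finset.sum_eq_zero (fun i hi => by
        have hi1 := Finset.ne_of_mem_erase hi
        have hi2 := Finset.ne_of_mem_erase (Finset.mem_of_mem_erase hi)
        rw [hrestPM i hi2 hi1, mul_zero])
    rw [hP1] at e1
    rw [hM1] at e2
    linarith
  -- bound
  have hmemP : P ∈ (Finset.univ : Finset I).erase o :=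
    Finset.mem_erase.mpr ⟨hPo, Finset.mem_univ _⟩
  have hmemM2 : M ∈ ((Finset.univ : Finset I).erase o).erase P :=
    Finset.mem_erase.mpr ⟨hPM.symm, Finset.mem_erase.mpr ⟨hMo, Finset.mem_univ _⟩⟩
  have hbound : α P ^ 2 + α M ^ 2 ≤ 4 := by
    have e1 := Finset.add_sum_erase Finset.univ (fun i => α i ^ 2) (Finset.mem_univ o)
    have e2 := Finset.add_sum_erase _ (fun i => α i ^ 2) hmemP
    have e3 := Finset.add_sum_erase _ (fun i => α i ^ 2) hmemM2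
    have e4 : 0 ≤ ∑ i ∈ ((Finset.univ.erase o).erase P).erase M, α i ^ 2 :=
      Finset.sum_nonneg fun i _ => sq_nonneg (α i)
    rw [hαo] at e1
    linarith
  have hm : α M = 0 ∨ α M = -1 := by
    have h3 : α P = α M + 1 := by linarith
    rw [h3] at hbound
    have h4 : -2 < α M := by nlinarith
    have h5 : α M < 1 := by nlinarith
    omega
  rcases hm with hm | hm
  · -- `ε = 1`, `l₁ = P`, `l₂ = M`
    have hαP : α P = 1 := by linarith
    exact finish o deg α β hα hαo 1 P M (Or.inl rfl) hPM hPo hMo hdegPM hαP (by linarith) hm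
      (by linarith) hrest
  · -- `ε = -1`, `l₁ = M`, `l₂ = P`
    have hαP : α P = 0 := by linarith
    exact finish o deg α β hα hαo (-1) M P (Or.inr rfl) hPM.symm hMo hPo hdegPM.symm hm
      (by linarith) hαP (by linarith) (fun i hiM hiP => hrest i hiP hiM)

end Cfsg.Agent.Lib.Helper69_A6_SUN4
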