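import Mathlib
import Cfsg.Prelude.Def_Characters
import Cfsg.Agent.Lib.Helper80_CharBasic
import Cfsg.Agent.Lib.Helper80_CharComplete
import Cfsg.Agent.Lib.Helper6_A6Defs
import Cfsg.Agent.Lib.Helper43_A6_GRAM4
import Cfsg.Agent.Lib.Helper69_A6_SUN4

set_option autoImplicit false

/-!
# S3341 package DATA4 (architect helper6): the six characters not vanishing on `S ∖ 1` (case `Fus4`)
-/
open scoped ComplexConjugate

namespace Cfsg.Agent.Lib.Helper10_A6_DATA4

open Cfsg Cfsg.Agent.Lib.Helper80_CharBasic Cfsg.Agent.Lib.Helper6_A6Defs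


/-- the combinatorial core: from the output of GRAM4 + SUN4 to `Data4` -/
theorem exists_data4_aux {G : Type*} [Group G] [Fintype (IrrCharacter G)]
    [DecidableEq (IrrCharacter G)] (s s' : G) (α β : IrrCharacter G → ℤ)
    (hval : ∀ χ : IrrCharacter G, (χ : G → ℂ) s = 2 * (β χ : ℂ) - (α χ : ℂ) ∧
        (χ : G → ℂ) (s * s') = 2 * (α χ : ℂ) - (β χ : ℂ))
    (deg : IrrCharacter G → ℕ) (hdeg : ∀ χ : IrrCharacter G, (χ : G → ℂ) 1 = deg χ)
    (hαo : α (oneIrr G) = 1)
    (hαd : ∑ i, α i * (deg i : ℤ) = 0)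
    (ε : ℤ) (l₁ l₂ : IrrCharacter G) (x : Fin 3 → IrrCharacter G) (c : Fin 3 → ℤ)
    (hε : ε = 1 ∨ ε = -1) (hc : ∀ j, c j = 1 ∨ c j = -1) (hx : Function.Injective x)
    (h12 : l₁ ≠ l₂) (h1o : l₁ ≠ oneIrr G) (h2o : l₂ ≠ oneIrr G)
    (hxne : ∀ j, x j ≠ oneIrr G ∧ x j ≠ l₁ ∧ x j ≠ l₂) (hd12 : deg l₁ = deg l₂)
    (hα1 : α l₁ = ε) (hβ1 : β l₁ = 0) (hα2 : α l₂ = 0) (hβ2 : β l₂ = ε)
    (hxc : ∀ j, α (x j) = c j ∧ β (x j) = c j)
    (hrest : ∀ i, i ≠ oneIrr G → i ≠ l₁ → i ≠ l₂ → (∀ j, i ≠ x j) → α i = 0 ∧ β i = 0) :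
    Nonempty (Data4 G s s') := by
  have hdeg_o : deg (oneIrr G) = 1 := by
    have h1 := hdeg (oneIrr G)
    have h2 : ((oneIrr G : IrrCharacter G) : G → ℂ) 1 = 1 := rfl
    rw [h2] at h1
    exact_mod_cast h1.symm
  -- the shape of `α`
  have hform : ∀ i, α i = (if i = oneIrr G then 1 else 0) + (if i = l₁ then ε else 0) +
      ∑ j, (if i = x j then c j else 0) := by
    intro i
    by_cases hio : i = oneIrr G
    · subst hio
      rw [if_pos rfl, if_neg (Ne.symm h1o), hαo]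
      rw [Finset.sum_eq_zero]
      · ring
      · intro j _
        rw [if_neg (Ne.symm (hxne j).1)]
    · rw [if_neg hio]
      by_cases hi1 : i = l₁
      · subst hi1
        rw [if_pos rfl, hα1, Finset.sum_eq_zero]
        · ring
        · intro j _
          rw [if_neg (Ne.symm (hxne j).2.1)]
      · rw [if_neg hi1]
        by_cases hix : ∃ j, i = x j
        · obtain ⟨j₀, rfl⟩ := hix
          rw [Finset.sum_eq_single j₀, if_pos rfl, (hxc j₀).1]
          · ring
          · intro j _ hj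
            rw [if_neg (fun h => hj (hx h).symm)]
          · intro h; exact absurd (Finset.mem_univ j₀) h
        · push Not at hix
          rw [Finset.sum_eq_zero]
          · by_cases hi2 : i = l₂
            · rw [hi2, hα2]; ring
            · rw [(hrest i hio hi1 hi2 hix).1]; ring
          · intro j _
            rw [if_neg (hix j)]
  have hsum : (1 : ℤ) + ∑ j, c j * (deg (x j) : ℤ) + ε * (deg l₁ : ℤ) = 0 := by
    rw [← hαd]
    have : ∀ i, α i * (deg i : ℤ) = (if i = oneIrr G then (deg i : ℤ) else 0) +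
        (if i = l₁ then ε * (deg i : ℤ) else 0) +
        ∑ j, (if i = x j then c j * (deg i : ℤ) else 0) := by
      intro i
      rw [hform i, add_mul, add_mul, Finset.sum_mul]
      congr 1
      · congr 1
        · split_ifs <;> simp
        · split_ifs <;> simp
      · apply Finset.sum_congr rfl
        intro j _
        split_ifs <;> simp
    have e1 : ∑ i, (if i = oneIrr G then (deg i : ℤ) else 0) = 1 := by
      rw [Finset.sum_ite_eq' Finset.univ (oneIrr G) (fun i => (deg i : ℤ))]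
      simp [hdeg_o]
    have e2 : ∑ i, (if i = l₁ then ε * (deg i : ℤ) else 0) = ε * (deg l₁ : ℤ) := by
      rw [Finset.sum_ite_eq' Finset.univ l₁ (fun i => ε * (deg i : ℤ))]
      simp
    have e3 : ∑ i, ∑ j, (if i = x j then c j * (deg i : ℤ) else 0) =
        ∑ j, c j * (deg (x j) : ℤ) := by
      rw [Finset.sum_comm]
      apply Finset.sum_congr rfl
      intro j _
      rw [Finset.sum_ite_eq' Finset.univ (x j) (fun i => c j * (deg i : ℤ))]
      simp
    rw [Finset.sum_congr rfl (fun i _ => this i), Finset.sum_add_distrib, Finset.sum_add_distrib,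
      e1, e2, e3]
    ring
  exact ⟨{
    X := x
    c := c
    Λ₁ := l₁
    Λ₂ := l₂
    ε := ε
    x := fun j => deg (x j)
    d := deg l₁
    hc := hc
    hε := hε
    X_inj := hx
    X_ne := hxne
    Λ_ne := ⟨h12, h1o, h2o⟩
    X_one := fun j => hdeg (x j)
    Λ₁_one := hdeg l₁
    Λ₂_one := by rw [hdeg l₂, hd12]
    X_s := fun j => by
      rw [(hval (x j)).1, (hxc j).1, (hxc j).2]; ring
    X_ss := fun j => by
      rw [(hval (x j)).2, (hxc j).1, (hxc j).2]; ring
    Λ₁_s := by rw [(hval l₁).1, hα1, hβ1]; ring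
    Λ₁_ss := by rw [(hval l₁).2, hα1, hβ1]; push_cast; ring
    Λ₂_s := by rw [(hval l₂).1, hα2, hβ2]; push_cast; ring
    Λ₂_ss := by rw [(hval l₂).2, hα2, hβ2]; ring
    supp := by
      intro χ hχ
      by_contra hcon
      push Not at hcon
      obtain ⟨n1, n2, n3, n4⟩ := hcon
      obtain ⟨z1, z2⟩ := hrest χ n1 n3 n4 n2
      rw [(hval χ).1, (hval χ).2, z1, z2] at hχ
      simp at hχ
    deg := hsum }⟩

theorem exists_data4 {G : Type*} [Group G] [Finite G] {S : Subgroup G}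
    (h : Hyp G S) {s s' : G} (hf : Fus4 G S s s') : Nonempty (Data4 G s s') := by
  classical
  have hft : Fintype (IrrCharacter G) := Fintype.ofFinite _
  obtain ⟨α, β, hval, hαo, hβo, hαα, hββ, hαβ, hαd, hβd⟩ := Cfsg.Agent.Lib.Helper43_A6_GRAM4.gram4 h hf
  choose deg hdegpos hdeg using fun χ : IrrCharacter G => irr_apply_one χ
  rw [finsum_eq_sum_of_fintype] at hαα hββ hαβ hαd hβd
  have hαd' : ∑ i, α i * (deg i : ℤ) = 0 := by
    have : ((∑ i, α i * (deg i : ℤ) : ℤ) : ℂ) = 0 := by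
      rw [← hαd]; push_cast
      exact Finset.sum_congr rfl (fun i _ => by rw [hdeg i])
    exact_mod_cast this
  have hβd' : ∑ i, β i * (deg i : ℤ) = 0 := by
    have : ((∑ i, β i * (deg i : ℤ) : ℤ) : ℂ) = 0 := by
      rw [← hβd]; push_cast
      exact Finset.sum_congr rfl (fun i _ => by rw [hdeg i])
    exact_mod_cast this
  obtain ⟨ε, l₁, l₂, x, c, hε, hc, hx, h12, h1o, h2o, hxne, hd12, hα1, hβ1, hα2, hβ2, hxc, hrest⟩ :=
    Cfsg.Agent.Lib.Helper69_A6_SUN4.sun4 (oneIrr G) deg hdegpos α β hαα hββ hαβ hαo hβo hαd' hβd'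
  exact exists_data4_aux s s' α β hval deg hdeg hαo hαd' ε l₁ l₂ x c hε hc hx h12 h1o h2o hxne hd12
    hα1 hβ1 hα2 hβ2 hxc hrest

end Cfsg.Agent.Lib.Helper10_A6_DATA4
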