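import Mathlib
import Cfsg.Prelude.Def_ClassicalGeometry

set_option autoImplicit false

namespace Cfsg.Agent.Lib.Helper13_Herm

open Matrix

variable {F : Type*} [Field F] [Fintype F] {q : ℕ}

/-- If `|F| = q^2` then `q` is a power of the characteristic. -/
theorem exists_char_pow (hF : Fintype.card F = q ^ 2) :
    ∃ (p j : ℕ), p.Prime ∧ CharP F p ∧ q = p ^ j := by
  obtain ⟨p, hp⟩ := CharP.exists F
  obtain ⟨k, hpp, hk⟩ := FiniteField.card F p
  have hdvd : q ∣ p ^ (k : ℕ) := by
    rw [← hk, hF]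
    exact dvd_pow_self q two_ne_zero
  obtain ⟨j, _, hj⟩ := (Nat.dvd_prime_pow hpp).mp hdvd
  exact ⟨p, j, hpp, hp, hj⟩

theorem two_le_q (hF : Fintype.card F = q ^ 2) : 2 ≤ q := by
  have h1 : 1 < Fintype.card F := Fintype.one_lt_card
  rw [hF] at h1
  by_contra hcon
  have : q ≤ 1 := by omega
  interval_cases q <;> simp at h1

theorem add_pow_q (hF : Fintype.card F = q ^ 2) (x y : F) : (x + y) ^ q = x ^ q + y ^ q := by
  obtain ⟨p, j, hp, hchar, rfl⟩ := exists_char_pow hF
  have := Fact.mk hp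
  exact add_pow_char_pow x y p j

theorem sum_pow_q (hF : Fintype.card F = q ^ 2) {ι : Type*} (s : Finset ι) (f : ι → F) :
    (∑ i ∈ s, f i) ^ q = ∑ i ∈ s, f i ^ q := by
  obtain ⟨p, j, hp, hchar, rfl⟩ := exists_char_pow hF
  have := Fact.mk hp
  have : ExpChar F p := ExpChar.prime hp
  exact sum_pow_char_pow p j s f

theorem pow_q_pow_q (hF : Fintype.card F = q ^ 2) (x : F) : (x ^ q) ^ q = x := by
  rw [← pow_mul, ← sq, ← hF, FiniteField.pow_card]

theorem neg_pow_q (hF : Fintype.card F = q ^ 2) (x : F) : (-x) ^ q = -(x ^ q) := by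
  have h := add_pow_q hF x (-x)
  rw [add_neg_cancel, zero_pow (by have := two_le_q hF; omega)] at h
  exact eq_neg_of_add_eq_zero_right h.symm

theorem sub_pow_q (hF : Fintype.card F = q ^ 2) (x y : F) : (x - y) ^ q = x ^ q - y ^ q := by
  rw [sub_eq_add_neg, add_pow_q hF, neg_pow_q hF, sub_eq_add_neg]

section form
variable (n : ℕ)

omit [Fintype F] in
theorem hermForm_add_left (u u' v : Fin n → F) :
    Cfsg.hermForm n F q (u + u') v = Cfsg.hermForm n F q u v + Cfsg.hermForm n F q u' v := by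
  unfold Cfsg.hermForm
  rw [← Finset.sum_add_distrib]
  apply Finset.sum_congr rfl
  intro i _
  simp [add_mul]

omit [Fintype F] in
theorem hermForm_smul_left (a : F) (u v : Fin n → F) :
    Cfsg.hermForm n F q (a • u) v = a * Cfsg.hermForm n F q u v := by
  unfold Cfsg.hermForm
  rw [Finset.mul_sum]
  apply Finset.sum_congr rfl
  intro i _
  simp [mul_assoc]

theorem hermForm_add_right (hF : Fintype.card F = q ^ 2) (u v v' : Fin n → F) :
    Cfsg.hermForm n F q u (v + v') = Cfsg.hermForm n F q u v + Cfsg.hermForm n F q u v' := by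
  unfold Cfsg.hermForm
  rw [← Finset.sum_add_distrib]
  apply Finset.sum_congr rfl
  intro i _
  simp [add_pow_q hF, mul_add]

omit [Fintype F] in
theorem hermForm_smul_right (a : F) (u v : Fin n → F) :
    Cfsg.hermForm n F q u (a • v) = a ^ q * Cfsg.hermForm n F q u v := by
  unfold Cfsg.hermForm
  rw [Finset.mul_sum]
  apply Finset.sum_congr rfl
  intro i _
  simp [mul_pow]
  ring

theorem hermForm_pow_q (hF : Fintype.card F = q ^ 2) (u v : Fin n → F) :
    (Cfsg.hermForm n F q u v) ^ q = Cfsg.hermForm n F q v u := by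
  unfold Cfsg.hermForm
  rw [sum_pow_q hF]
  apply Finset.sum_congr rfl
  intro i _
  rw [mul_pow, pow_q_pow_q hF, mul_comm]

omit [Fintype F] in
@[simp] theorem hermForm_zero_left (v : Fin n → F) : Cfsg.hermForm n F q 0 v = 0 := by
  unfold Cfsg.hermForm; simp

omit [Fintype F] in
theorem hermForm_zero_right (hq : q ≠ 0) (v : Fin n → F) : Cfsg.hermForm n F q v 0 = 0 := by
  unfold Cfsg.hermForm; simp [hq]

omit [Fintype F] in
theorem hermForm_single_left (i : Fin n) (v : Fin n → F) :
    Cfsg.hermForm n F q (Pi.single i 1) v = (v i) ^ q := by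
  unfold Cfsg.hermForm
  rw [Finset.sum_eq_single i]
  · simp
  · intro b _ hb; simp [hb]
  · simp

omit [Fintype F] in
theorem hermForm_single_right (hq : q ≠ 0) (i : Fin n) (v : Fin n → F) :
    Cfsg.hermForm n F q v (Pi.single i 1) = v i := by
  unfold Cfsg.hermForm
  rw [Finset.sum_eq_single i]
  · simp
  · intro b _ hb
    simp [hb, hq]
  · simp

omit [Fintype F] in
theorem unitaryTransvection_mulVec (v : Fin n → F) (c : F) (x : Fin n → F) :
    Cfsg.unitaryTransvection n q v c *ᵥ x = x + (c * Cfsg.hermForm n F q x v) • v := by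
  unfold Cfsg.unitaryTransvection
  rw [Matrix.add_mulVec, Matrix.one_mulVec, Matrix.smul_mulVec, Matrix.vecMulVec_mulVec]
  congr 1
  ext i
  simp only [Pi.smul_apply, MulOpposite.smul_eq_mul_unop, MulOpposite.unop_op, smul_eq_mul]
  unfold Cfsg.hermForm
  rw [dotProduct]
  have : ∑ i, v i ^ q * x i = ∑ i, x i * v i ^ q := by
    apply Finset.sum_congr rfl; intro j _; ring
  rw [this]
  ring

end form

end Cfsg.Agent.Lib.Helper13_Herm
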