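import Mathlib
import Cfsg.Prelude.Def_LieClassical
import Cfsg.Agent.Lib.Helper13_Herm

set_option autoImplicit false

namespace Cfsg.Agent.Lib.Helper13_GU

open Matrix Cfsg.Agent.Lib.Helper13_Herm

section basic
variable {F : Type*} [Field F] {n q : ℕ}

theorem mem_GU_iff (g : GL (Fin n) F) :
    g ∈ Cfsg.GU n F q ↔ ∀ u v : Fin n → F,
      Cfsg.hermForm n F q (g.1 *ᵥ u) (g.1 *ᵥ v) = Cfsg.hermForm n F q u v := Iff.rfl

/-- the Gram identity for a unitary matrix -/
theorem transpose_mul_map (hq : q ≠ 0) (g : GL (Fin n) F) (hg : g ∈ Cfsg.GU n F q) :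
    (g.1)ᵀ * (g.1).map (fun x => x ^ q) = 1 := by
  ext a b
  have h := (mem_GU_iff g).mp hg (Pi.single a 1) (Pi.single b 1)
  rw [Matrix.mulVec_single_one, Matrix.mulVec_single_one, hermForm_single_left] at h
  rw [Matrix.mul_apply]
  have h2 : ∑ i, (g.1)ᵀ a i * ((g.1).map (fun x => x ^ q)) i b =
      Cfsg.hermForm n F q ((g.1).col a) ((g.1).col b) := by
    unfold Cfsg.hermForm
    rfl
  rw [h2, h, Pi.single_apply, Matrix.one_apply]
  by_cases hab : a = b
  · rw [if_pos hab, one_pow]
  · rw [if_neg hab, zero_pow hq]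

end basic

section finite
variable {F : Type*} [Field F] [Fintype F] {n q : ℕ}

/-- determinants of unitary matrices have norm one -/
theorem det_pow_eq_one (hF : Fintype.card F = q ^ 2) (g : GL (Fin n) F) (hg : g ∈ Cfsg.GU n F q) :
    (g.1.det) ^ (q + 1) = 1 := by
  have hq : q ≠ 0 := by have := two_le_q hF; omega
  have h1 := transpose_mul_map hq g hg
  obtain ⟨p, j, hp, hchar, rfl⟩ := exists_char_pow hF
  have := Fact.mk hp
  have h2 : (g.1).map (fun x => x ^ (p ^ j)) = (iterateFrobenius F p j).mapMatrix g.1 := by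
    ext a b
    simp [iterateFrobenius_def]
  rw [h2] at h1
  have h3 := congrArg Matrix.det h1
  rw [Matrix.det_mul, Matrix.det_transpose, ← RingHom.map_det, iterateFrobenius_def,
    Matrix.det_one] at h3
  rw [pow_succ']
  exact h3

theorem det_unit_pow_eq_one (hF : Fintype.card F = q ^ 2) (g : GL (Fin n) F)
    (hg : g ∈ Cfsg.GU n F q) : (Matrix.GeneralLinearGroup.det g) ^ (q + 1) = 1 := by
  apply Units.ext
  rw [Units.val_pow_eq_pow_val, Matrix.GeneralLinearGroup.val_det_apply, Units.val_one]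
  exact det_pow_eq_one hF g hg

end finite

section elements
variable {F : Type*} [Field F] {n q : ℕ}

/-- invertible diagonal matrix -/
def diagGL (d : Fin n → Fˣ) : GL (Fin n) F :=
  ⟨Matrix.diagonal (fun i => (d i : F)), Matrix.diagonal (fun i => ((d i)⁻¹ : Fˣ)),
    by rw [Matrix.diagonal_mul_diagonal]; simp,
    by rw [Matrix.diagonal_mul_diagonal]; simp⟩

theorem diagGL_val (d : Fin n → Fˣ) :
    (diagGL d : GL (Fin n) F).1 = Matrix.diagonal (fun i => (d i : F)) := rfl

theorem diagGL_mem (d : Fin n → Fˣ) (hd : ∀ i, (d i) ^ (q + 1) = 1) :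
    diagGL d ∈ Cfsg.GU n F q := by
  rw [mem_GU_iff]
  intro u v
  unfold Cfsg.hermForm
  apply Finset.sum_congr rfl
  intro i _
  rw [diagGL_val, Matrix.mulVec_diagonal, Matrix.mulVec_diagonal, mul_pow]
  have h1 : ((d i : F)) ^ (q + 1) = 1 := by
    rw [← Units.val_pow_eq_pow_val, hd i, Units.val_one]
  calc (d i : F) * u i * ((d i : F) ^ q * v i ^ q)
      = ((d i : F) ^ (q + 1)) * (u i * v i ^ q) := by ring
    _ = u i * v i ^ q := by rw [h1, one_mul]

theorem det_diagGL (d : Fin n → Fˣ) :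
    Matrix.GeneralLinearGroup.det (diagGL d) = ∏ i, d i := by
  apply Units.ext
  rw [Matrix.GeneralLinearGroup.val_det_apply, diagGL_val, Matrix.det_diagonal,
    Units.coe_prod]

/-- invertible permutation matrix -/
def permGL (σ : Equiv.Perm (Fin n)) : GL (Fin n) F :=
  ⟨Equiv.Perm.permMatrix F σ, Equiv.Perm.permMatrix F σ⁻¹,
    by rw [← Matrix.permMatrix_mul]; simp,
    by rw [← Matrix.permMatrix_mul]; simp⟩

theorem permGL_val (σ : Equiv.Perm (Fin n)) :
    (permGL σ : GL (Fin n) F).1 = Equiv.Perm.permMatrix F σ := rfl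

theorem permGL_mem (σ : Equiv.Perm (Fin n)) : (permGL σ : GL (Fin n) F) ∈ Cfsg.GU n F q := by
  rw [mem_GU_iff]
  intro u v
  rw [permGL_val, Matrix.permMatrix_mulVec, Matrix.permMatrix_mulVec]
  unfold Cfsg.hermForm
  exact Equiv.sum_comp σ (fun i => u i * v i ^ q)

/-- an element of `GL` commuting with the diagonal matrices `diag(1,..,w,..,1)` (for a fixed
`w ≠ 1`) and all permutation matrices is scalar -/
theorem scalar_of_commute (z : GL (Fin n) F) (w : Fˣ) (hw : w ≠ 1)
    (h1 : ∀ b : Fin n, z * diagGL (Function.update 1 b w) = diagGL (Function.update 1 b w) * z)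
    (h2 : ∀ σ : Equiv.Perm (Fin n), z * permGL σ = permGL σ * z) (i0 : Fin n) :
    z.1 = Matrix.diagonal (fun _ => z.1 i0 i0) := by
  have hw' : (w : F) ≠ 1 := by
    intro h
    apply hw
    apply Units.ext
    rw [h, Units.val_one]
  ext a b
  by_cases hab : a = b
  · subst hab
    rw [Matrix.diagonal_apply_eq]
    have h3 := congrArg (fun M : GL (Fin n) F => M.1 a (Equiv.swap a i0 a)) (h2 (Equiv.swap a i0))
    simp only [Units.val_mul, permGL_val] at h3
    unfold Equiv.Perm.permMatrix at h3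
    rw [PEquiv.toMatrix_toPEquiv_mul, PEquiv.mul_toMatrix_toPEquiv] at h3
    simp only [Matrix.submatrix_apply, id_eq, Equiv.symm_apply_apply] at h3
    rw [h3, Equiv.swap_apply_left]
  · rw [Matrix.diagonal_apply_ne _ hab]
    have h3 := congrArg (fun M : GL (Fin n) F => M.1 a b) (h1 b)
    simp only [Units.val_mul, diagGL_val, Matrix.mul_diagonal, Matrix.diagonal_mul] at h3
    rw [Function.update_self, Function.update_of_ne hab] at h3
    simp only [Pi.one_apply, Units.val_one, one_mul] at h3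
    have h4 : z.1 a b * ((w : F) - 1) = 0 := by rw [mul_sub, h3, mul_one, sub_self]
    rcases mul_eq_zero.mp h4 with h5 | h5
    · exact h5
    · exact absurd (sub_eq_zero.mp h5) hw'

end elements

end Cfsg.Agent.Lib.Helper13_GU
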