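import Mathlib
import Cfsg.Prelude.Def_LieClassical
import Cfsg.Agent.Lib.Helper13_Herm
import Cfsg.Agent.Lib.Helper13_GU

set_option autoImplicit false

namespace Cfsg.Agent.Lib.Helper13_HermBridge

open Matrix Cfsg.Agent.Lib.Helper13_Herm Cfsg.Agent.Lib.Helper13_GU

section gram
variable {F : Type*} [Field F] [Fintype F] {q : ℕ}

omit [Fintype F] in
theorem hermForm_eq_dot {n : ℕ} (u v : Fin n → F) :
    Cfsg.hermForm n F q u v = u ⬝ᵥ (fun i => v i ^ q) := rfl

theorem mulVec_pow_q (hF : Fintype.card F = q ^ 2) {m n : ℕ} (M : Matrix (Fin m) (Fin n) F)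
    (v : Fin n → F) :
    (fun i => (M *ᵥ v) i ^ q) = M.map (fun x => x ^ q) *ᵥ (fun j => v j ^ q) := by
  funext i
  simp only [Matrix.mulVec, dotProduct, Matrix.map_apply]
  rw [sum_pow_q hF]
  apply Finset.sum_congr rfl
  intro j _
  rw [mul_pow]

/-- a matrix with `Mᵀ M^(q) = 1` preserves the hermitian form -/
theorem preserves_of_gram (hF : Fintype.card F = q ^ 2) {n : ℕ} (M : Matrix (Fin n) (Fin n) F)
    (h : Mᵀ * M.map (fun x => x ^ q) = 1) (u v : Fin n → F) :
    Cfsg.hermForm n F q (M *ᵥ u) (M *ᵥ v) = Cfsg.hermForm n F q u v := by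
  rw [hermForm_eq_dot, hermForm_eq_dot, mulVec_pow_q hF, ← Matrix.vecMul_transpose,
    ← Matrix.dotProduct_mulVec, Matrix.mulVec_mulVec, h, Matrix.one_mulVec]

omit [Fintype F] in
/-- conversely -/
theorem gram_of_preserves (hq : q ≠ 0) {n : ℕ} (M : Matrix (Fin n) (Fin n) F)
    (h : ∀ u v : Fin n → F, Cfsg.hermForm n F q (M *ᵥ u) (M *ᵥ v) = Cfsg.hermForm n F q u v) :
    Mᵀ * M.map (fun x => x ^ q) = 1 := by
  ext a b
  have h1 := h (Pi.single a 1) (Pi.single b 1)
  rw [Matrix.mulVec_single_one, Matrix.mulVec_single_one, hermForm_single_left] at h1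
  rw [Matrix.mul_apply]
  have h2 : ∑ i, Mᵀ a i * (M.map (fun x => x ^ q)) i b =
      Cfsg.hermForm n F q (M.col a) (M.col b) := by
    unfold Cfsg.hermForm
    rfl
  rw [h2, h1, Pi.single_apply, Matrix.one_apply]
  by_cases hab : a = b
  · rw [if_pos hab, one_pow]
  · rw [if_neg hab, zero_pow hq]

/-- the invertible matrix attached to a Gram identity -/
def gramGL {n : ℕ} (M : Matrix (Fin n) (Fin n) F) (h : Mᵀ * M.map (fun x => x ^ q) = 1) :
    GL (Fin n) F :=
  ⟨M, (M.map (fun x => x ^ q))ᵀ, by
      have h1 : (M.map (fun x => x ^ q))ᵀ * M = 1 := by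
        have := congrArg Matrix.transpose h
        rwa [Matrix.transpose_mul, Matrix.transpose_transpose, Matrix.transpose_one] at this
      exact mul_eq_one_comm.mp h1, by
      have := congrArg Matrix.transpose h
      rwa [Matrix.transpose_mul, Matrix.transpose_transpose, Matrix.transpose_one] at this⟩

theorem gramGL_val {n : ℕ} (M : Matrix (Fin n) (Fin n) F)
    (h : Mᵀ * M.map (fun x => x ^ q) = 1) : (gramGL M h).1 = M := rfl

theorem gramGL_mem (hF : Fintype.card F = q ^ 2) {n : ℕ} (M : Matrix (Fin n) (Fin n) F)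
    (h : Mᵀ * M.map (fun x => x ^ q) = 1) : gramGL M h ∈ Cfsg.GU n F q := by
  rw [mem_GU_iff]
  exact preserves_of_gram hF M h

theorem mem_GU_iff_gram (hF : Fintype.card F = q ^ 2) {n : ℕ} (g : GL (Fin n) F) :
    g ∈ Cfsg.GU n F q ↔ (g.1)ᵀ * (g.1).map (fun x => x ^ q) = 1 := by
  have hq : q ≠ 0 := by have := two_le_q hF; omega
  constructor
  · intro h
    exact gram_of_preserves hq g.1 ((mem_GU_iff g).mp h)
  · intro h
    rw [mem_GU_iff]
    exact preserves_of_gram hF g.1 h

end gram

section sesq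
variable {F : Type*} [Field F] [Fintype F] {q : ℕ}

/-- the Frobenius `x ↦ x ^ q` -/
def frobQ (hF : Fintype.card F = q ^ 2) : F →+* F where
  toFun x := x ^ q
  map_one' := one_pow q
  map_mul' x y := mul_pow x y q
  map_zero' := zero_pow (by have := two_le_q hF; omega)
  map_add' := add_pow_q hF

theorem frobQ_apply (hF : Fintype.card F = q ^ 2) (x : F) : frobQ hF x = x ^ q := rfl

theorem frobQ_frobQ (hF : Fintype.card F = q ^ 2) (x : F) : frobQ hF (frobQ hF x) = x :=
  pow_q_pow_q hF x

theorem frobQ_ne_id (hF : Fintype.card F = q ^ 2) : frobQ hF ≠ RingHom.id F := by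
  intro h
  have hq := two_le_q hF
  -- all elements are roots of X^q - X
  have h1 : ∀ x : F, x ^ q = x := fun x => by
    have := congrArg (fun f : F →+* F => f x) h
    simpa [frobQ_apply] using this
  have h2 : Fintype.card F ≤ q := by
    classical
    have hpoly : (Polynomial.X ^ q - Polynomial.X : Polynomial F) ≠ 0 :=
      FiniteField.X_pow_card_sub_X_ne_zero F (by omega)
    have hroots : (Finset.univ : Finset F) ⊆ (Polynomial.X ^ q - Polynomial.X : Polynomial F).roots.toFinset := by
      intro x _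
      rw [Multiset.mem_toFinset, Polynomial.mem_roots hpoly]
      simp [h1 x]
    calc Fintype.card F = (Finset.univ : Finset F).card := rfl
      _ ≤ (Polynomial.X ^ q - Polynomial.X : Polynomial F).roots.toFinset.card :=
          Finset.card_le_card hroots
      _ ≤ Multiset.card (Polynomial.X ^ q - Polynomial.X : Polynomial F).roots :=
          Multiset.toFinset_card_le _
      _ ≤ (Polynomial.X ^ q - Polynomial.X : Polynomial F).natDegree :=
          Polynomial.card_roots' _
      _ = q := FiniteField.X_pow_card_sub_X_natDegree_eq F (by omega)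
  rw [hF] at h2
  nlinarith

/-- the hermitian form as a sesquilinear map (semilinear in the first argument):
`Bherm u v = hermForm v u` -/
def Bherm (hF : Fintype.card F = q ^ 2) (n : ℕ) :
    (Fin n → F) →ₛₗ[frobQ hF] (Fin n → F) →ₗ[F] F :=
  LinearMap.mk₂'ₛₗ (frobQ hF) (RingHom.id F) (fun u v => Cfsg.hermForm n F q v u)
    (fun u u' v => hermForm_add_right n hF v u u')
    (fun c u v => by
      rw [hermForm_smul_right, frobQ_apply, smul_eq_mul])
    (fun u v v' => hermForm_add_left n v v' u)
    (fun c u v => by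
      rw [hermForm_smul_left, RingHom.id_apply, smul_eq_mul])

theorem Bherm_apply (hF : Fintype.card F = q ^ 2) (n : ℕ) (u v : Fin n → F) :
    Bherm hF n u v = Cfsg.hermForm n F q v u := rfl

theorem Bherm_isSymm (hF : Fintype.card F = q ^ 2) (n : ℕ) : (Bherm hF n).IsSymm := by
  refine ⟨fun u v => ?_⟩
  rw [Bherm_apply, Bherm_apply]
  exact hermForm_pow_q n hF v u

theorem Bherm_separatingLeft (hF : Fintype.card F = q ^ 2) (n : ℕ) :
    (Bherm hF n).SeparatingLeft := by
  intro u hu
  funext i
  have h1 := hu (Pi.single i 1)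
  rw [Bherm_apply, hermForm_single_left] at h1
  have hq : q ≠ 0 := by have := two_le_q hF; omega
  exact pow_eq_zero_iff hq |>.mp h1

end sesq

end Cfsg.Agent.Lib.Helper13_HermBridge
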