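import Mathlib
import Cfsg.Agent.Lib.Helper13_HermBridge
import Cfsg.Agent.S0751

set_option autoImplicit false

/-!
Hyperbolic pairs for the standard hermitian form and the torus element
`e ↦ c e, f ↦ c^(-q) f` attached to a hyperbolic pair `(e, f)`.
-/

namespace Cfsg.Agent.Lib.Helper13_HermHyp

open Matrix Cfsg.Agent.Lib.Helper13_Herm Cfsg.Agent.Lib.Helper13_HermBridge

variable {F : Type*} [Field F] [Fintype F] {q n : ℕ}

/-- a hyperbolic partner of a nonzero isotropic vector -/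
theorem exists_partner (hF : Fintype.card F = q ^ 2) (e : Fin n → F) (he : e ≠ 0)
    (he0 : Cfsg.hermForm n F q e e = 0) :
    ∃ f : Fin n → F, Cfsg.hermForm n F q e f = 1 ∧ Cfsg.hermForm n F q f e = 1 ∧
      Cfsg.hermForm n F q f f = 0 := by
  have hq : q ≠ 0 := by have := two_le_q hF; omega
  obtain ⟨i, hi⟩ : ∃ i, e i ≠ 0 := by
    by_contra hcon
    push Not at hcon
    exact he (funext hcon)
  -- x with h(x, e) = 1
  obtain ⟨x, hxe⟩ : ∃ x : Fin n → F, Cfsg.hermForm n F q x e = 1 := by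
    have h1 : Cfsg.hermForm n F q (Pi.single i 1) e = (e i) ^ q := hermForm_single_left n i e
    have h1ne : (e i) ^ q ≠ 0 := pow_ne_zero q hi
    refine ⟨((e i) ^ q)⁻¹ • Pi.single i 1, ?_⟩
    rw [hermForm_smul_left, h1, inv_mul_cancel₀ h1ne]
  have hex : Cfsg.hermForm n F q e x = 1 := by
    rw [← hermForm_pow_q n hF x e, hxe, one_pow]
  obtain ⟨κ, hκ⟩ : ∃ κ : F, κ = Cfsg.hermForm n F q x x := ⟨_, rfl⟩
  have hκq : κ ^ q = κ := by rw [hκ]; exact hermForm_pow_q n hF x x
  obtain ⟨t, -, ht⟩ := Cfsg.Agent.S0751.exists_trace (frobQ hF) (frobQ_ne_id hF) (frobQ_frobQ hF)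
    (-κ) (by rw [frobQ_apply, neg_pow_q hF, hκq])
  rw [frobQ_apply] at ht
  refine ⟨x + t • e, ?_, ?_, ?_⟩
  · rw [hermForm_add_right n hF, hermForm_smul_right, hex, he0, mul_zero, add_zero]
  · rw [hermForm_add_left, hermForm_smul_left, hxe, he0, mul_zero, add_zero]
  · rw [hermForm_add_left, hermForm_add_right n hF, hermForm_add_right n hF, hermForm_smul_right,
      hermForm_smul_left, hermForm_smul_left, hermForm_smul_right, ← hκ, hxe, hex, he0]
    linear_combination ht

/-- the torus element attached to a pair `(e, f)` -/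
def hypMat (n q : ℕ) (e f : Fin n → F) (c : F) : Matrix (Fin n) (Fin n) F :=
  1 + (c - 1) • Matrix.vecMulVec e (fun j => f j ^ q) +
    ((c⁻¹) ^ q - 1) • Matrix.vecMulVec f (fun j => e j ^ q)

omit [Fintype F] in
theorem vecMulVec_pow_mulVec (u v x : Fin n → F) :
    Matrix.vecMulVec u (fun j => v j ^ q) *ᵥ x = Cfsg.hermForm n F q x v • u := by
  rw [Matrix.vecMulVec_mulVec]
  ext i
  simp only [Pi.smul_apply, MulOpposite.smul_eq_mul_unop, MulOpposite.unop_op, smul_eq_mul]
  unfold Cfsg.hermForm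
  rw [dotProduct]
  have : ∑ i, v i ^ q * x i = ∑ i, x i * v i ^ q := by
    apply Finset.sum_congr rfl; intro j _; ring
  rw [this]
  ring

omit [Fintype F] in
theorem hypMat_mulVec (e f : Fin n → F) (c : F) (x : Fin n → F) :
    hypMat n q e f c *ᵥ x = x + ((c - 1) * Cfsg.hermForm n F q x f) • e +
      (((c⁻¹) ^ q - 1) * Cfsg.hermForm n F q x e) • f := by
  unfold hypMat
  rw [Matrix.add_mulVec, Matrix.add_mulVec, Matrix.one_mulVec, Matrix.smul_mulVec,
    Matrix.smul_mulVec, vecMulVec_pow_mulVec, vecMulVec_pow_mulVec, smul_smul, smul_smul]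

theorem hypMat_isometry (hF : Fintype.card F = q ^ 2) (e f : Fin n → F)
    (he0 : Cfsg.hermForm n F q e e = 0) (hf0 : Cfsg.hermForm n F q f f = 0)
    (hef : Cfsg.hermForm n F q e f = 1) (hfe : Cfsg.hermForm n F q f e = 1) (c : F) (hc : c ≠ 0)
    (x y : Fin n → F) :
    Cfsg.hermForm n F q (hypMat n q e f c *ᵥ x) (hypMat n q e f c *ᵥ y) =
      Cfsg.hermForm n F q x y := by
  rw [hypMat_mulVec, hypMat_mulVec]
  have hey : Cfsg.hermForm n F q e y = (Cfsg.hermForm n F q y e) ^ q :=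
    (hermForm_pow_q n hF y e).symm
  have hfy : Cfsg.hermForm n F q f y = (Cfsg.hermForm n F q y f) ^ q :=
    (hermForm_pow_q n hF y f).symm
  set Xe := Cfsg.hermForm n F q x e
  set Xf := Cfsg.hermForm n F q x f
  set Ye := Cfsg.hermForm n F q y e
  set Yf := Cfsg.hermForm n F q y f
  simp only [hermForm_add_left, hermForm_add_right n hF, hermForm_smul_left, hermForm_smul_right,
    he0, hf0, hef, hfe, hey, hfy]
  have h1 : (c - 1) ^ q = c ^ q - 1 := by rw [sub_pow_q hF, one_pow]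
  have h2 : ((c⁻¹) ^ q - 1) ^ q = c⁻¹ - 1 := by rw [sub_pow_q hF, one_pow, pow_q_pow_q hF]
  have h3 : c ^ q * (c⁻¹) ^ q = 1 := by rw [← mul_pow, mul_inv_cancel₀ hc, one_pow]
  have h4 : c * c⁻¹ = 1 := mul_inv_cancel₀ hc
  simp only [mul_pow, h1, h2]
  linear_combination (Xe * Yf ^ q) * h3 + (Xf * Ye ^ q) * h4

omit [Fintype F] in
theorem hypMat_det (e f : Fin n → F)
    (he0 : Cfsg.hermForm n F q e e = 0) (hf0 : Cfsg.hermForm n F q f f = 0)
    (hef : Cfsg.hermForm n F q e f = 1) (hfe : Cfsg.hermForm n F q f e = 1) (c : F) :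
    (hypMat n q e f c).det = c * (c⁻¹) ^ q := by
  set A : Matrix (Fin n) (Fin 2) F := Matrix.of fun i j => ![(c - 1) * e i, ((c⁻¹) ^ q - 1) * f i] j
    with hA
  set B : Matrix (Fin 2) (Fin n) F := Matrix.of fun j i => ![f i ^ q, e i ^ q] j with hB
  have h1 : hypMat n q e f c = 1 + A * B := by
    unfold hypMat
    ext i j
    simp only [Matrix.add_apply, Matrix.smul_apply, Matrix.vecMulVec_apply, smul_eq_mul,
      Matrix.mul_apply, Fin.sum_univ_two, hA, hB, Matrix.of_apply, Matrix.cons_val_zero,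
      Matrix.cons_val_one]
    ring
  have h2 : B * A = !![(c - 1), 0; 0, ((c⁻¹) ^ q - 1)] := by
    ext i j
    fin_cases i <;> fin_cases j
    · simp only [Matrix.mul_apply, hA, hB, Matrix.of_apply, Fin.zero_eta, Matrix.cons_val_zero]
      show ∑ x, f x ^ q * ((c - 1) * e x) = c - 1
      have : ∑ x, f x ^ q * ((c - 1) * e x) = (c - 1) * Cfsg.hermForm n F q e f := by
        unfold Cfsg.hermForm
        rw [Finset.mul_sum]
        apply Finset.sum_congr rfl; intro x _; ring
      rw [this, hef, mul_one]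
    · simp only [Matrix.mul_apply, hA, hB, Matrix.of_apply, Fin.zero_eta, Fin.mk_one,
        Matrix.cons_val_zero, Matrix.cons_val_one]
      show ∑ x, f x ^ q * (((c⁻¹) ^ q - 1) * f x) = 0
      have : ∑ x, f x ^ q * (((c⁻¹) ^ q - 1) * f x) =
          ((c⁻¹) ^ q - 1) * Cfsg.hermForm n F q f f := by
        unfold Cfsg.hermForm
        rw [Finset.mul_sum]
        apply Finset.sum_congr rfl; intro x _; ring
      rw [this, hf0, mul_zero]
    · simp only [Matrix.mul_apply, hA, hB, Matrix.of_apply, Fin.zero_eta, Fin.mk_one,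
        Matrix.cons_val_zero, Matrix.cons_val_one]
      show ∑ x, e x ^ q * ((c - 1) * e x) = 0
      have : ∑ x, e x ^ q * ((c - 1) * e x) = (c - 1) * Cfsg.hermForm n F q e e := by
        unfold Cfsg.hermForm
        rw [Finset.mul_sum]
        apply Finset.sum_congr rfl; intro x _; ring
      rw [this, he0, mul_zero]
    · simp only [Matrix.mul_apply, hA, hB, Matrix.of_apply, Fin.mk_one, Matrix.cons_val_one]
      show ∑ x, e x ^ q * (((c⁻¹) ^ q - 1) * f x) = (c⁻¹) ^ q - 1
      have : ∑ x, e x ^ q * (((c⁻¹) ^ q - 1) * f x) =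
          ((c⁻¹) ^ q - 1) * Cfsg.hermForm n F q f e := by
        unfold Cfsg.hermForm
        rw [Finset.mul_sum]
        apply Finset.sum_congr rfl; intro x _; ring
      rw [this, hfe, mul_one]
  rw [h1, Matrix.det_one_add_mul_comm, h2, Matrix.det_fin_two]
  simp only [Matrix.add_apply, Matrix.one_apply_eq, Matrix.of_apply, Matrix.cons_val', Matrix.cons_val_zero,
    Matrix.cons_val_one, Matrix.cons_val_fin_one, Matrix.one_apply_ne, ne_eq, zero_ne_one, one_ne_zero,
    not_false_eq_true, Fin.isValue]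
  ring

/-- Hilbert 90 for the norm-one group -/
theorem hilbert90 (hF : Fintype.card F = q ^ 2) (z : F) (hz : z ^ (q + 1) = 1) :
    ∃ c : F, c ≠ 0 ∧ c * (c⁻¹) ^ q = z := by
  have hzz : z * z ^ q = 1 := by rw [← pow_succ']; exact hz
  have key : ∀ θ : F, θ + z * θ ^ q ≠ 0 → ∃ c : F, c ≠ 0 ∧ c * (c⁻¹) ^ q = z := by
    intro θ hθ
    refine ⟨θ + z * θ ^ q, hθ, ?_⟩
    have h1 : z * (θ + z * θ ^ q) ^ q = θ + z * θ ^ q := by
      rw [add_pow_q hF, mul_pow, pow_q_pow_q hF]
      linear_combination θ * hzz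
    have h2 : (θ + z * θ ^ q) ^ q ≠ 0 := pow_ne_zero q hθ
    rw [inv_pow]
    field_simp
    exact h1.symm
  by_cases hz1 : (1 : F) + z = 0
  · obtain ⟨θ, hθ⟩ := Cfsg.Agent.S0751.exists_moved (frobQ hF) (frobQ_ne_id hF)
    rw [frobQ_apply] at hθ
    apply key θ
    have hz' : z = -1 := by linear_combination hz1
    rw [hz']
    intro h
    apply hθ
    linear_combination -h
  · apply key 1
    rw [one_pow, mul_one]
    exact hz1

end Cfsg.Agent.Lib.Helper13_HermHyp
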