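import Mathlib
import Cfsg.Prelude.Def_GeometricClasses

/-!
# Vocabulary for the subgroup structure theorem of `GL_n(F)` (S5630; helper98)

Everything is about subgroups of `GL ι F = (Matrix ι ι F)ˣ` acting on column vectors `ι → F`.
-/

set_option autoImplicit false

namespace Cfsg.Agent.Lib.Helper98_AschDefs

open Cfsg Cfsg.Geo Matrix
open scoped Kronecker

variable {ι : Type} [Fintype ι] [DecidableEq ι] {F : Type*} [Field F]

/-- `H` lies in a member of one of the eight geometric classes. -/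
def InClass [Fintype F] (n : ℕ) (H : Subgroup (GL (Fin n) F)) : Prop :=
  ∃ M : Subgroup (GL (Fin n) F), InLinearClass n F M ∧ H ≤ M

/-- the `F`-subalgebra of the matrix algebra generated (= spanned) by a subgroup -/
def spanAlg (N : Subgroup (GL ι F)) : Subalgebra F (Matrix ι ι F) :=
  Algebra.adjoin F (matrixSet N)

/-- every element of `H` normalizes the subalgebra `A` -/
def NormalizesAlg (H : Subgroup (GL ι F)) (A : Subalgebra F (Matrix ι ι F)) : Prop :=
  ∀ h ∈ H, ∀ a ∈ A, (h : Matrix ι ι F) * a * ((h⁻¹ : GL ι F) : Matrix ι ι F) ∈ A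

/-- every element of `H` normalizes the subgroup `N` -/
def NormalizesGrp (H N : Subgroup (GL ι F)) : Prop :=
  ∀ h ∈ H, ∀ x ∈ N, h * x * h⁻¹ ∈ N

/-- `A` is, in the basis given by the columns of `P` indexed through `e`, the algebra `M_d(F) ⊗ 1`. -/
def IsTensorAlg (A : Subalgebra F (Matrix ι ι F)) (d s : ℕ) (e : ι ≃ Fin d × Fin s) (P : GL ι F) : Prop :=
  ∀ a : Matrix ι ι F, a ∈ A ↔ ∃ M : Matrix (Fin d) (Fin d) F,
    a = (P : Matrix ι ι F) *
      Matrix.reindex e.symm e.symm (M ⊗ₖ (1 : Matrix (Fin s) (Fin s) F)) * ((P⁻¹ : GL ι F) : Matrix ι ι F)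

/-- the matrix acting as `M` on the `i`-th tensor factor of `(F^m)^{⊗ k}` and as the identity on the others -/
def factorMat (k m : ℕ) (i : Fin k) (M : Matrix (Fin m) (Fin m) F) :
    Matrix (Fin k → Fin m) (Fin k → Fin m) F :=
  fun x y => if ∀ j, j ≠ i → x j = y j then M (x i) (y i) else 0

lemma mem_matrixSet {R : Subgroup (GL ι F)} {a : Matrix ι ι F} :
    a ∈ matrixSet R ↔ ∃ g ∈ R, (g : Matrix ι ι F) = a := Iff.rfl

lemma coe_mem_matrixSet {R : Subgroup (GL ι F)} {g : GL ι F} (hg : g ∈ R) :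
    (g : Matrix ι ι F) ∈ matrixSet R := ⟨g, hg, rfl⟩

lemma coe_mem_spanAlg {R : Subgroup (GL ι F)} {g : GL ι F} (hg : g ∈ R) :
    (g : Matrix ι ι F) ∈ spanAlg R := Algebra.subset_adjoin (coe_mem_matrixSet hg)

/-- the span of a subgroup is already a subalgebra -/
lemma spanAlg_toSubmodule (R : Subgroup (GL ι F)) :
    Subalgebra.toSubmodule (spanAlg R) = Submodule.span F (matrixSet R) := by
  rw [spanAlg, Algebra.adjoin_eq_span]
  congr 1
  apply le_antisymm
  · intro x hx
    induction hx using Submonoid.closure_induction with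
    | mem x hx => exact hx
    | one => exact ⟨1, R.one_mem, rfl⟩
    | mul x y _ _ hx hy =>
      obtain ⟨g, hg, rfl⟩ := hx
      obtain ⟨h, hh, rfl⟩ := hy
      exact ⟨g * h, R.mul_mem hg hh, by simp⟩
  · exact Submonoid.subset_closure

lemma mem_spanAlg_iff {R : Subgroup (GL ι F)} {a : Matrix ι ι F} :
    a ∈ spanAlg R ↔ a ∈ Submodule.span F (matrixSet R) := by
  rw [← spanAlg_toSubmodule]; rfl

lemma spanAlg_mono {R S : Subgroup (GL ι F)} (h : R ≤ S) : spanAlg R ≤ spanAlg S :=
  Algebra.adjoin_mono (Set.image_mono h)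

/-- a subgroup normalized by `H` has its span normalized by `H` -/
lemma normalizesAlg_spanAlg {H N : Subgroup (GL ι F)} (h : NormalizesGrp H N) :
    NormalizesAlg H (spanAlg N) := by
  intro g hg a ha
  rw [mem_spanAlg_iff] at ha ⊢
  induction ha using Submodule.span_induction with
  | mem x hx =>
    obtain ⟨y, hy, rfl⟩ := hx
    apply Submodule.subset_span
    exact ⟨g * y * g⁻¹, h g hg y hy, by simp⟩
  | zero => simp
  | add x y _ _ hx hy =>
    rw [mul_add, add_mul]
    exact Submodule.add_mem _ hx hy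
  | smul c x _ hx =>
    rw [mul_smul_comm, smul_mul_assoc]
    exact Submodule.smul_mem _ c hx

end Cfsg.Agent.Lib.Helper98_AschDefs
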