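import Mathlib
import Cfsg.Prelude.Def_GeometricClasses
import Cfsg.Agent.Lib.Helper98_AschDefs

/-!
# Vocabulary for the subgroup structure theorems of the classical groups with a form
(S5662 symplectic, S5663 unitary; shared with S5673 orthogonal; helper23)

A *sesquilinear form* here is a two-argument function `B : V → V → F`, linear in the first argument and
`σ`-semilinear in the second (`σ : F ≃+* F`; `σ = RingEquiv.refl F` gives the bilinear forms).
-/

set_option autoImplicit false
set_option linter.unusedSectionVars false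

namespace Cfsg.Agent.Lib.Helper23_FormDefs

open Cfsg Cfsg.Geo Matrix Cfsg.Agent.Lib.Helper98_AschDefs

variable {F : Type*} [Field F]

/-- `B` is additive in both arguments, linear in the first and `σ`-semilinear in the second. -/
structure IsSesq {V : Type*} [AddCommGroup V] [Module F V] (σ : F ≃+* F) (B : V → V → F) : Prop where
  add_left : ∀ x y v, B (x + y) v = B x v + B y v
  smul_left : ∀ (c : F) (x v : V), B (c • x) v = c * B x v
  add_right : ∀ v x y, B v (x + y) = B v x + B v y
  smul_right : ∀ (c : F) (v x : V), B v (c • x) = σ c * B v x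

/-- orthogonality is a symmetric relation -/
def IsRefl {V : Type*} (B : V → V → F) : Prop := ∀ u v, B u v = 0 → B v u = 0

/-- non-degenerate (for a general `V`; for `V = ι → F` this is `Cfsg.Geo.IsNondegenerateForm`) -/
def IsNondeg {V : Type*} [Zero V] (B : V → V → F) : Prop :=
  ∀ v : V, v ≠ 0 → (∃ x, B x v ≠ 0) ∧ (∃ x, B v x ≠ 0)

variable {ι : Type} [Fintype ι] [DecidableEq ι]

lemma isNondeg_iff (f : (ι → F) → (ι → F) → F) : IsNondeg f ↔ IsNondegenerateForm f := Iff.rfl

lemma isSesq_of_bilinear {f : (ι → F) → (ι → F) → F} (hf : IsBilinearForm f) :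
    IsSesq (RingEquiv.refl F) f :=
  ⟨hf.add_left, hf.smul_left, hf.add_right, fun c v x => by simpa using hf.smul_right c v x⟩

lemma isSesq_of_unitary {σ : F ≃+* F} {f : (ι → F) → (ι → F) → F} (hf : IsUnitaryForm σ f) :
    IsSesq σ f := by
  refine ⟨hf.add_left, hf.smul_left, ?_, ?_⟩
  · intro v x y
    rw [hf.herm v (x + y), hf.add_left, map_add, ← hf.herm, ← hf.herm]
  · intro c v x
    rw [hf.herm v (c • x), hf.smul_left, map_mul, ← hf.herm]

lemma isRefl_of_unitary {σ : F ≃+* F} {f : (ι → F) → (ι → F) → F} (hf : IsUnitaryForm σ f) :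
    IsRefl f := by
  intro u v h
  rw [hf.herm v u, h, map_zero]

lemma isRefl_of_symplectic {f : (ι → F) → (ι → F) → F} (hf : IsSymplecticForm f) : IsRefl f := by
  intro u v h
  rw [hf.skew v u, h, neg_zero]

lemma isRefl_of_symmetric {f : (ι → F) → (ι → F) → F} (hf : IsSymmetricForm f) : IsRefl f := by
  intro u v h
  rw [hf.symm v u, h]

/-- the bilinear form with Gram matrix `G` -/
def gramForm (G : Matrix ι ι F) (u v : ι → F) : F := u ⬝ᵥ (G *ᵥ v)

lemma gramForm_bilinear (G : Matrix ι ι F) : IsBilinearForm (gramForm G) where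
  add_left x y v := by simp [gramForm, add_dotProduct]
  smul_left c x v := by simp [gramForm]
  add_right v x y := by simp [gramForm, Matrix.mulVec_add, dotProduct_add]
  smul_right c v x := by simp [gramForm, Matrix.mulVec_smul]

/-- `H` lies in a member of one of the classes for the symplectic group `Sp_{2m}(F)`. -/
def InSpClass [Fintype F] (m : ℕ) (H : Subgroup (GL (Fin m ⊕ Fin m) F)) : Prop :=
  ∃ M : Subgroup (GL (Fin m ⊕ Fin m) F), InSymplecticClass m F M ∧ H ≤ M

/-- `H` lies in a member of one of the classes for the unitary group `GU_n(q)`. -/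
def InSUClass [Fintype F] (n q : ℕ) (H : Subgroup (GL (Fin n) F)) : Prop :=
  ∃ M : Subgroup (GL (Fin n) F), InUnitaryClass n F q M ∧ H ≤ M

lemma sympForm_eq_gramForm (m : ℕ) : sympForm m F = gramForm (Matrix.J (Fin m) F) := rfl

lemma mem_spGL_iff {m : ℕ} (g : GL (Fin m ⊕ Fin m) F) :
    g ∈ spGL m F ↔ ∀ u v, sympForm m F ((g : Matrix _ _ F) *ᵥ u) ((g : Matrix _ _ F) *ᵥ v) =
      sympForm m F u v := Iff.rfl

lemma fixesForm_of_le_spGL {m : ℕ} {H : Subgroup (GL (Fin m ⊕ Fin m) F)} (hH : H ≤ spGL m F) :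
    FixesForm (matrixSet H) (sympForm m F) := by
  rintro s ⟨g, hg, rfl⟩ u v
  exact (mem_spGL_iff g).1 (hH hg) u v

lemma gramForm_swap (G : Matrix ι ι F) (u v : ι → F) : gramForm G u v = gramForm Gᵀ v u := by
  simp only [gramForm]
  rw [Matrix.dotProduct_mulVec, dotProduct_comm, Matrix.mulVec_transpose]

lemma gramForm_nondeg {G : Matrix ι ι F} (hG : IsUnit G.det) : IsNondegenerateForm (gramForm G) := by
  have hGt : IsUnit Gᵀ.det := by rwa [Matrix.det_transpose]
  have key : ∀ (M : Matrix ι ι F), IsUnit M.det → ∀ v : ι → F, v ≠ 0 → ∃ x, gramForm M x v ≠ 0 := by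
    intro M hM v hv
    have h1 : M *ᵥ v ≠ 0 := by
      intro h0
      apply hv
      have h2 := congrArg (fun w => M⁻¹ *ᵥ w) h0
      simpa [Matrix.mulVec_mulVec, Matrix.nonsing_inv_mul _ hM] using h2
    obtain ⟨i, hi⟩ := Function.ne_iff.1 h1
    refine ⟨Pi.single i 1, ?_⟩
    simpa [gramForm] using hi
  intro v hv
  refine ⟨key G hG v hv, ?_⟩
  obtain ⟨x, hx⟩ := key Gᵀ hGt v hv
  exact ⟨x, by rwa [gramForm_swap]⟩

lemma isSymplecticForm_sympForm (m : ℕ) : IsSymplecticForm (sympForm m F) where
  bilinear := gramForm_bilinear _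
  skew v w := by
    rw [sympForm_eq_gramForm, gramForm_swap, Matrix.J_transpose]
    simp [gramForm, Matrix.neg_mulVec]
  alternating v := by
    have h : sympForm m F v v = - sympForm m F v v := by
      rw [sympForm_eq_gramForm]
      conv_lhs => rw [gramForm_swap, Matrix.J_transpose]
      simp [gramForm, Matrix.neg_mulVec]
    simp only [sympForm, Matrix.J, Matrix.fromBlocks_mulVec] at *
    simp only [dotProduct, Fintype.sum_sum_type]
    simp [Matrix.mulVec, dotProduct, Matrix.one_apply]
    rw [neg_add_eq_zero]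
    apply Finset.sum_congr rfl
    intro i _
    ring
  nondegenerate := by
    rw [sympForm_eq_gramForm]
    apply gramForm_nondeg
    rw [← Matrix.isUnit_iff_isUnit_det]
    exact ⟨⟨Matrix.J (Fin m) F, -Matrix.J (Fin m) F, by simp [Matrix.J_squared], by simp [Matrix.J_squared]⟩, rfl⟩

end Cfsg.Agent.Lib.Helper23_FormDefs
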