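import Mathlib
import Cfsg.Prelude.Def_GeometricClasses
import Cfsg.Prelude.Def_LieClassical
import Cfsg.Agent.Lib.Helper98_AschDefs
import Cfsg.Agent.Lib.Helper23_FormDefs
import Cfsg.Agent.Lib.Helper13_HermBridge

/-!
# Vocabulary and glue for the subgroup structure theorem of the unitary groups (S5663; helper97)

`sigmaQ hF : F ≃+* F` is the involution `x ↦ x ^ q` of the field with `q ^ 2` elements; the standard form
`hermForm n F q` is a unitary form for it; a subgroup of `GU n F q` fixes the form, lies in its similarity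
group, and its linear span is closed under adjoints.
-/

set_option autoImplicit false

namespace Cfsg.Agent.Lib.Helper97_SUDefs

open Cfsg Cfsg.Geo Matrix Cfsg.Agent.Lib.Helper98_AschDefs Cfsg.Agent.Lib.Helper23_FormDefs
open Cfsg.Agent.Lib.Helper13_Herm Cfsg.Agent.Lib.Helper13_HermBridge

variable {F : Type*} [Field F] [Fintype F] {q : ℕ}

/-- the involution `x ↦ x ^ q` of the field with `q ^ 2` elements -/
def sigmaQ (hF : Fintype.card F = q ^ 2) : F ≃+* F :=
  { frobQ hF with
    invFun := fun x => x ^ q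
    left_inv := fun x => pow_q_pow_q hF x
    right_inv := fun x => pow_q_pow_q hF x }

@[simp] theorem sigmaQ_apply (hF : Fintype.card F = q ^ 2) (x : F) : sigmaQ hF x = x ^ q := rfl

theorem sigmaQ_sigmaQ (hF : Fintype.card F = q ^ 2) (x : F) : sigmaQ hF (sigmaQ hF x) = x :=
  pow_q_pow_q hF x

theorem coe_sigmaQ (hF : Fintype.card F = q ^ 2) : (sigmaQ hF : F → F) = fun x => x ^ q := rfl

theorem sigmaQ_ne_refl (hF : Fintype.card F = q ^ 2) : sigmaQ hF ≠ RingEquiv.refl F := by
  intro h
  apply frobQ_ne_id hF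
  ext x
  have h1 : sigmaQ hF x = RingEquiv.refl F x := congrArg (fun e : F ≃+* F => e x) h
  exact h1

theorem q_ne_zero (hF : Fintype.card F = q ^ 2) : q ≠ 0 := by
  have := two_le_q hF
  omega

variable (n : ℕ)

theorem hermForm_herm (hF : Fintype.card F = q ^ 2) (u v : Fin n → F) :
    hermForm n F q u v = (hermForm n F q v u) ^ q := by
  unfold hermForm
  rw [sum_pow_q hF]
  apply Finset.sum_congr rfl
  intro i _
  rw [mul_pow, pow_q_pow_q hF, mul_comm]

theorem hermForm_nondegenerate (hF : Fintype.card F = q ^ 2) :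
    IsNondegenerateForm (hermForm n F q) := by
  have hq := q_ne_zero hF
  intro v hv
  obtain ⟨i, hi⟩ := Function.ne_iff.1 hv
  have hi' : v i ≠ 0 := hi
  constructor
  · refine ⟨Pi.single i 1, ?_⟩
    rw [hermForm_single_left n]
    exact pow_ne_zero _ hi'
  · refine ⟨Pi.single i 1, ?_⟩
    rw [hermForm_single_right n hq]
    exact hi'

/-- the standard form is a unitary form for `x ↦ x ^ q` -/
theorem isUnitaryForm_hermForm (hF : Fintype.card F = q ^ 2) :
    IsUnitaryForm (sigmaQ hF) (hermForm n F q) where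
  ne_refl := sigmaQ_ne_refl hF
  involutive := sigmaQ_sigmaQ hF
  add_left := fun x y v => hermForm_add_left n x y v
  smul_left := fun c x v => hermForm_smul_left n c x v
  herm := fun v w => hermForm_herm n hF v w
  nondegenerate := hermForm_nondegenerate n hF

theorem isUnitaryFormPow_hermForm (hF : Fintype.card F = q ^ 2) :
    IsUnitaryFormPow q (hermForm n F q) where
  add_left := fun x y v => hermForm_add_left n x y v
  smul_left := fun c x v => hermForm_smul_left n c x v
  herm := fun v w => hermForm_herm n hF v w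
  nondegenerate := hermForm_nondegenerate n hF

theorem isSesq_hermForm (hF : Fintype.card F = q ^ 2) : IsSesq (sigmaQ hF) (hermForm n F q) :=
  isSesq_of_unitary (isUnitaryForm_hermForm n hF)

theorem isRefl_hermForm (hF : Fintype.card F = q ^ 2) : IsRefl (hermForm n F q) :=
  isRefl_of_unitary (isUnitaryForm_hermForm n hF)

variable {n}

omit [Fintype F] in
theorem fixesForm_of_le_GU {H : Subgroup (GL (Fin n) F)} (hH : H ≤ GU n F q) :
    FixesForm (matrixSet H) (hermForm n F q) := by
  rintro s ⟨g, hg, rfl⟩ u v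
  exact (Cfsg.Agent.Lib.Helper13_GU.mem_GU_iff g).1 (hH hg) u v

omit [Fintype F] in
theorem le_GU_of_fixesForm {H : Subgroup (GL (Fin n) F)}
    (hH : FixesForm (matrixSet H) (hermForm n F q)) : H ≤ GU n F q := by
  intro g hg
  exact (Cfsg.Agent.Lib.Helper13_GU.mem_GU_iff g).2 (hH _ ⟨g, hg, rfl⟩)

omit [Fintype F] in
theorem GU_le_similarityGroup : GU n F q ≤ similarityGroup (hermForm n F q) := by
  intro g hg
  refine ⟨1, fun u v => ?_⟩
  rw [Units.val_one, one_mul]
  exact (Cfsg.Agent.Lib.Helper13_GU.mem_GU_iff g).1 hg u v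

omit [Fintype F] in
/-- the adjoint of an isometry is its inverse -/
theorem hermForm_mulVec_left {g : GL (Fin n) F} (hg : g ∈ GU n F q) (u v : Fin n → F) :
    hermForm n F q ((g : Matrix (Fin n) (Fin n) F) *ᵥ u) v =
      hermForm n F q u (((g⁻¹ : GL (Fin n) F) : Matrix (Fin n) (Fin n) F) *ᵥ v) := by
  have h := (Cfsg.Agent.Lib.Helper13_GU.mem_GU_iff g).1 hg u
    (((g⁻¹ : GL (Fin n) F) : Matrix (Fin n) (Fin n) F) *ᵥ v)
  rw [Matrix.mulVec_mulVec, ← Units.val_mul, mul_inv_cancel, Units.val_one, Matrix.one_mulVec] at h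
  exact h

/-- the linear span of a group of isometries is closed under adjoints -/
theorem adjointClosed_spanAlg (hF : Fintype.card F = q ^ 2) {N : Subgroup (GL (Fin n) F)}
    (hN : N ≤ GU n F q) : IsAdjointClosedFor (hermForm n F q) (spanAlg N) := by
  have hS := isSesq_hermForm n hF
  intro a ha
  rw [mem_spanAlg_iff] at ha
  induction ha using Submodule.span_induction with
  | mem x hx =>
    obtain ⟨g, hg, rfl⟩ := hx
    exact ⟨_, coe_mem_spanAlg (N.inv_mem hg), fun u v => hermForm_mulVec_left (hN hg) u v⟩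
  | zero =>
    refine ⟨0, Subalgebra.zero_mem _, fun u v => ?_⟩
    rw [Matrix.zero_mulVec, Matrix.zero_mulVec]
    have h1 := hS.smul_left 0 u v
    have h2 := hS.smul_right 0 u v
    rw [zero_smul, zero_mul] at h1
    rw [zero_smul, map_zero, zero_mul] at h2
    rw [h1, h2]
  | add x y _ _ hx hy =>
    obtain ⟨x', hx', hxx⟩ := hx
    obtain ⟨y', hy', hyy⟩ := hy
    refine ⟨x' + y', Subalgebra.add_mem _ hx' hy', fun u v => ?_⟩
    rw [Matrix.add_mulVec, Matrix.add_mulVec, hS.add_left, hS.add_right, hxx, hyy]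
  | smul c x _ hx =>
    obtain ⟨x', hx', hxx⟩ := hx
    refine ⟨(sigmaQ hF c) • x', Subalgebra.smul_mem _ hx' _, fun u v => ?_⟩
    rw [Matrix.smul_mulVec, Matrix.smul_mulVec, hS.smul_left, hS.smul_right, sigmaQ_sigmaQ, hxx]

end Cfsg.Agent.Lib.Helper97_SUDefs
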