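import Mathlib
import Cfsg.Agent.Lib.Helper98_AschDefs
import Cfsg.Agent.Lib.Helper23_FormDefs
import Cfsg.Agent.Lib.Helper97_SUDefs
import Cfsg.Agent.Lib.Helper13_HermHyp

/-!
# S5663 package UP4F (helper10, for helper97)

A Gram matrix `G₁ ⊗ G₂` of the standard hermitian form can be rescaled (Hilbert 90) to hermitian
factors, giving a tensor form structure.
-/

set_option autoImplicit false

namespace Cfsg.Agent.Lib.Helper10_AschSU_UP4F

open Cfsg Cfsg.Geo Matrix Cfsg.Agent.Lib.Helper98_AschDefs Cfsg.Agent.Lib.Helper23_FormDefs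
open Cfsg.Agent.Lib.Helper97_SUDefs Cfsg.Agent.Lib.Helper13_Herm
open scoped Kronecker

variable {F : Type*} [Field F]

section gram

variable {κ : Type} [Fintype κ] [DecidableEq κ] {q : ℕ}

/-- the form of a Gram matrix against a standard basis vector on the left -/
theorem formOfGram_single_left (G : Matrix κ κ F) (a : κ) (v : κ → F) :
    formOfGram (fun x : F => x ^ q) G (Pi.single a 1) v = ∑ b, G a b * (v b) ^ q := by
  unfold formOfGram
  rw [Finset.sum_eq_single a]
  · simp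
  · intro a' _ ha'
    simp [Pi.single_eq_of_ne ha']
  · simp

/-- the form of a Gram matrix against a standard basis vector on the right -/
theorem formOfGram_single_right (hq : q ≠ 0) (G : Matrix κ κ F) (v : κ → F) (b : κ) :
    formOfGram (fun x : F => x ^ q) G v (Pi.single b 1) = ∑ a, v a * G a b := by
  unfold formOfGram
  apply Finset.sum_congr rfl
  intro a _
  rw [Finset.sum_eq_single b]
  · simp
  · intro b' _ hb'
    simp [Pi.single_eq_of_ne hb', hq]
  · simp

theorem formOfGram_single (hq : q ≠ 0) (G : Matrix κ κ F) (a b : κ) :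
    formOfGram (fun x : F => x ^ q) G (Pi.single a 1) (Pi.single b 1) = G a b := by
  rw [formOfGram_single_right hq, Finset.sum_eq_single a]
  · simp
  · intro a' _ ha'
    simp [Pi.single_eq_of_ne ha']
  · simp

theorem gramMatrix_formOfGram (hq : q ≠ 0) (G : Matrix κ κ F) :
    gramMatrix (formOfGram (fun x : F => x ^ q) G) = G := by
  ext a b
  exact formOfGram_single hq G a b

/-- a hermitian invertible Gram matrix defines a unitary form -/
theorem isUnitaryFormPow_formOfGram [Fintype F] (hF : Fintype.card F = q ^ 2) (G : Matrix κ κ F)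
    (hdet : IsUnit G.det) (hherm : ∀ a b, G a b = (G b a) ^ q) :
    IsUnitaryFormPow q (formOfGram (fun x : F => x ^ q) G) := by
  have hq : q ≠ 0 := q_ne_zero hF
  refine ⟨?_, ?_, ?_, ?_⟩
  · intro x y v
    simp only [formOfGram, Pi.add_apply, add_mul, Finset.sum_add_distrib]
  · intro c x v
    simp only [formOfGram, Pi.smul_apply, smul_eq_mul, Finset.mul_sum]
    apply Finset.sum_congr rfl
    intro a _
    apply Finset.sum_congr rfl
    intro b _
    ring
  · intro v w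
    unfold formOfGram
    rw [sum_pow_q hF]
    rw [Finset.sum_comm]
    apply Finset.sum_congr rfl
    intro b _
    rw [sum_pow_q hF]
    apply Finset.sum_congr rfl
    intro a _
    rw [mul_pow, mul_pow, pow_q_pow_q hF, ← hherm a b]
    ring
  · intro v hv
    have hdet' : G.det ≠ 0 := hdet.ne_zero
    constructor
    · have hv' : (fun b => (v b) ^ q) ≠ 0 := by
        intro h
        apply hv
        funext b
        have := congrFun h b
        exact pow_eq_zero_iff hq |>.1 this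
      have hw : G *ᵥ (fun b => (v b) ^ q) ≠ 0 := fun h =>
        hv' (Matrix.eq_zero_of_mulVec_eq_zero hdet' h)
      obtain ⟨a, ha⟩ := Function.ne_iff.1 hw
      refine ⟨Pi.single a 1, ?_⟩
      rw [formOfGram_single_left]
      exact ha
    · have hw : v ᵥ* G ≠ 0 := fun h => hv (Matrix.eq_zero_of_vecMul_eq_zero hdet' h)
      obtain ⟨b, hb⟩ := Function.ne_iff.1 hw
      refine ⟨Pi.single b 1, ?_⟩
      rw [formOfGram_single_right hq]
      exact hb

end gram

/-- UP4F: a Gram matrix `G₁ ⊗ G₂` of the standard hermitian form can be rescaled to hermitian factors -/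
theorem UP4F [Fintype F] (n q : ℕ) (hF : Fintype.card F = q ^ 2) (d s : ℕ) (hd : 0 < d) (hs : 0 < s) (e : Fin n ≃ Fin d × Fin s)
    (P : GL (Fin n) F) (G₁ : Matrix (Fin d) (Fin d) F) (G₂ : Matrix (Fin s) (Fin s) F)
    (h₁ : IsUnit G₁.det) (h₂ : IsUnit G₂.det)
    (hG : ∀ x y : Fin d × Fin s → F,
      hermForm n F q ((P : Matrix (Fin n) (Fin n) F) *ᵥ (x ∘ e)) ((P : Matrix (Fin n) (Fin n) F) *ᵥ (y ∘ e)) =
        formOfGram (fun a : F => a ^ q) (G₁ ⊗ₖ G₂) x y) :
    ∃ (f₁ : (Fin d → F) → (Fin d → F) → F) (f₂ : (Fin s → F) → (Fin s → F) → F),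
      IsUnitaryFormPow q f₁ ∧ IsUnitaryFormPow q f₂ ∧
      IsTensorFormStructure (fun a : F => a ^ q) (hermForm n F q) f₁ f₂ e P := by
  have hq : q ≠ 0 := q_ne_zero hF
  -- the Kronecker product is hermitian
  have hstar : ∀ (a a' : Fin d) (b b' : Fin s),
      G₁ a a' * G₂ b b' = (G₁ a' a * G₂ b' b) ^ q := by
    intro a a' b b'
    have h1 := hG (Pi.single (a, b) 1) (Pi.single (a', b') 1)
    have h2 := hG (Pi.single (a', b') 1) (Pi.single (a, b) 1)
    rw [formOfGram_single hq] at h1 h2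
    rw [hermForm_herm n hF, h2] at h1
    simpa [Matrix.kroneckerMap_apply] using h1.symm
  -- nonzero entries
  have hne₁ : G₁ ≠ 0 := by
    intro h
    have hne : Nonempty (Fin d) := ⟨⟨0, hd⟩⟩
    rw [h, Matrix.det_zero] at h₁
    exact not_isUnit_zero h₁
  have hne₂ : G₂ ≠ 0 := by
    intro h
    have hne : Nonempty (Fin s) := ⟨⟨0, hs⟩⟩
    rw [h, Matrix.det_zero] at h₂
    exact not_isUnit_zero h₂
  obtain ⟨a₀, a₀', ha₀⟩ : ∃ a a', G₁ a a' ≠ 0 := by
    by_contra hcon
    push Not at hcon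
    apply hne₁
    ext a a'
    exact hcon a a'
  obtain ⟨b₀, b₀', hb₀⟩ : ∃ b b', G₂ b b' ≠ 0 := by
    by_contra hcon
    push Not at hcon
    apply hne₂
    ext b b'
    exact hcon b b'
  have hprod := hstar a₀ a₀' b₀ b₀'
  have hprod_ne : (G₁ a₀' a₀ * G₂ b₀' b₀) ^ q ≠ 0 := by
    rw [← hprod]
    exact mul_ne_zero ha₀ hb₀
  have hprod_ne' : G₁ a₀' a₀ * G₂ b₀' b₀ ≠ 0 := fun h => hprod_ne (by rw [h, zero_pow hq])
  have ha₀' : G₁ a₀' a₀ ≠ 0 := left_ne_zero_of_mul hprod_ne'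
  have hb₀' : G₂ b₀' b₀ ≠ 0 := right_ne_zero_of_mul hprod_ne'
  -- the scalar `lam`
  obtain ⟨lam, hlam⟩ : ∃ lam : F, lam = (G₂ b₀ b₀') ^ q / G₂ b₀' b₀ := ⟨_, rfl⟩
  have hlam0 : lam ≠ 0 := by
    rw [hlam]
    exact div_ne_zero (pow_ne_zero q hb₀) hb₀'
  have hG₁ : ∀ a a', G₁ a a' = lam * (G₁ a' a) ^ q := by
    intro a a'
    have h := hstar a a' b₀' b₀
    rw [mul_pow] at h
    rw [hlam]
    field_simp
    linear_combination h
  have hG₂ : ∀ b b', lam * G₂ b b' = (G₂ b' b) ^ q := by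
    intro b b'
    have h := hstar a₀ a₀' b b'
    rw [mul_pow, hG₁ a₀ a₀'] at h
    have h0 : (G₁ a₀' a₀) ^ q ≠ 0 := pow_ne_zero q ha₀'
    apply mul_left_cancel₀ h0
    linear_combination h
  have hnorm : lam ^ (q + 1) = 1 := by
    have h := hG₁ a₀ a₀'
    rw [hG₁ a₀' a₀, mul_pow, pow_q_pow_q hF] at h
    have : G₁ a₀ a₀' * (lam ^ (q + 1) - 1) = 0 := by
      rw [pow_succ]
      linear_combination -h
    rcases mul_eq_zero.1 this with h0 | h0
    · exact absurd h0 ha₀
    · linear_combination h0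
  obtain ⟨c, hc0, hc⟩ := Cfsg.Agent.Lib.Helper13_HermHyp.hilbert90 hF lam hnorm
  -- `mu := c⁻¹` satisfies `mu * lam = mu ^ q`
  obtain ⟨mu, hmu⟩ : ∃ mu : F, mu = c⁻¹ := ⟨_, rfl⟩
  have hmu0 : mu ≠ 0 := by rw [hmu]; exact inv_ne_zero hc0
  have hmulam : mu * lam = mu ^ q := by
    rw [← hc, hmu, ← mul_assoc, inv_mul_cancel₀ hc0, one_mul]
  have hmuq0 : mu ^ q ≠ 0 := pow_ne_zero q hmu0
  have hH₁ : ∀ a a', (mu • G₁) a a' = ((mu • G₁) a' a) ^ q := by
    intro a a'
    rw [Matrix.smul_apply, Matrix.smul_apply, smul_eq_mul, smul_eq_mul, mul_pow, hG₁ a a', ← hmulam]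
    ring
  have hH₂ : ∀ b b', (mu⁻¹ • G₂) b b' = ((mu⁻¹ • G₂) b' b) ^ q := by
    intro b b'
    rw [Matrix.smul_apply, Matrix.smul_apply, smul_eq_mul, smul_eq_mul, mul_pow, ← hG₂ b b', inv_pow,
      ← hmulam]
    field_simp
  have hdet₁ : IsUnit (mu • G₁).det := by
    rw [Matrix.det_smul]
    exact (IsUnit.mk0 _ (pow_ne_zero _ hmu0)).mul h₁
  have hdet₂ : IsUnit (mu⁻¹ • G₂).det := by
    rw [Matrix.det_smul]
    exact (IsUnit.mk0 _ (pow_ne_zero _ (inv_ne_zero hmu0))).mul h₂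
  refine ⟨formOfGram (fun x : F => x ^ q) (mu • G₁), formOfGram (fun x : F => x ^ q) (mu⁻¹ • G₂),
    isUnitaryFormPow_formOfGram hF _ hdet₁ hH₁, isUnitaryFormPow_formOfGram hF _ hdet₂ hH₂,
    1, one_ne_zero, ?_⟩
  intro x y
  rw [hG x y, one_mul, gramMatrix_formOfGram hq, gramMatrix_formOfGram hq]
  congr 1
  ext ⟨a, b⟩ ⟨a', b'⟩
  simp only [Matrix.kroneckerMap_apply, Matrix.smul_apply, smul_eq_mul]
  field_simp

end Cfsg.Agent.Lib.Helper10_AschSU_UP4F
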