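import Mathlib
import Cfsg.Agent.Lib.Helper98_AschDefs

set_option autoImplicit false

namespace Cfsg.Agent.Lib.Helper10_Asch_PK4

open Cfsg Cfsg.Geo Matrix Cfsg.Agent.Lib.Helper98_AschDefs

variable {F : Type*} [Field F]

/-- pure tensor matrix -/
def pt (k m : ℕ) (A : Fin k → Matrix (Fin m) (Fin m) F) :
    Matrix (Fin k → Fin m) (Fin k → Fin m) F :=
  fun x y => ∏ i, A i (x i) (y i)

lemma pt_apply (k m : ℕ) (A : Fin k → Matrix (Fin m) (Fin m) F) (x y : Fin k → Fin m) :
    pt k m A x y = ∏ i, A i (x i) (y i) := rfl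

lemma pt_mul (k m : ℕ) (A B : Fin k → Matrix (Fin m) (Fin m) F) :
    pt k m A * pt k m B = pt k m (fun i => A i * B i) := by
  ext x z
  simp only [pt, Matrix.mul_apply]
  rw [Finset.prod_univ_sum, Fintype.piFinset_univ]
  apply Finset.sum_congr rfl
  intro y _
  rw [Finset.prod_mul_distrib]

lemma pt_one (k m : ℕ) : pt k m (fun _ => (1 : Matrix (Fin m) (Fin m) F)) = 1 := by
  ext x y
  simp only [pt, Matrix.one_apply]
  rw [Finset.prod_ite_zero]
  simp [funext_iff]

lemma factorMat_eq_pt (k m : ℕ) (i : Fin k) (M : Matrix (Fin m) (Fin m) F) :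
    factorMat k m i M = pt k m (Function.update (fun _ => (1 : Matrix (Fin m) (Fin m) F)) i M) := by
  ext x y
  rw [pt_apply, ← Finset.mul_prod_erase Finset.univ _ (Finset.mem_univ i), Function.update_self]
  have h : ∏ j ∈ Finset.univ.erase i,
      (Function.update (fun _ => (1 : Matrix (Fin m) (Fin m) F)) i M j) (x j) (y j) =
      if ∀ j, j ≠ i → x j = y j then 1 else 0 := by
    rw [Finset.prod_congr rfl (g := fun j => if x j = y j then (1 : F) else 0)]
    · rw [Finset.prod_ite_zero]
      simp
    · intro j hj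
      rw [Function.update_of_ne (Finset.ne_of_mem_erase hj), Matrix.one_apply]
  rw [h, factorMat]
  split_ifs <;> simp

/-- factor permutation matrix -/
def qm (k m : ℕ) (σ : Equiv.Perm (Fin k)) : Matrix (Fin k → Fin m) (Fin k → Fin m) F :=
  fun x y => if y = x ∘ σ then 1 else 0

lemma qm_mul (k m : ℕ) (σ : Equiv.Perm (Fin k)) (A : Matrix (Fin k → Fin m) (Fin k → Fin m) F)
    (x y : Fin k → Fin m) :
    (qm k m σ * A : Matrix (Fin k → Fin m) (Fin k → Fin m) F) x y = A (x ∘ σ) y := by
  simp only [Matrix.mul_apply, qm]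
  rw [Finset.sum_eq_single (x ∘ σ)]
  · simp
  · intro z _ hz
    rw [if_neg hz, zero_mul]
  · intro h
    exact absurd (Finset.mem_univ _) h

lemma mul_qm (k m : ℕ) (σ : Equiv.Perm (Fin k)) (A : Matrix (Fin k → Fin m) (Fin k → Fin m) F)
    (x y : Fin k → Fin m) :
    (A * qm k m σ : Matrix (Fin k → Fin m) (Fin k → Fin m) F) x y = A x (y ∘ σ.symm) := by
  simp only [Matrix.mul_apply, qm]
  rw [Finset.sum_eq_single (y ∘ σ.symm)]
  · have : y = (y ∘ σ.symm) ∘ σ := by
      funext j
      simp
    rw [if_pos this, mul_one]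
  · intro z _ hz
    have : ¬ y = z ∘ σ := by
      intro h
      apply hz
      rw [h]
      funext j
      simp
    rw [if_neg this, mul_zero]
  · intro h
    exact absurd (Finset.mem_univ _) h

lemma qm_mul_qm (k m : ℕ) (σ : Equiv.Perm (Fin k)) :
    qm k m σ * qm k m σ.symm = (1 : Matrix (Fin k → Fin m) (Fin k → Fin m) F) := by
  ext x y
  rw [qm_mul, qm, Matrix.one_apply]
  have : x ∘ σ ∘ σ.symm = x := by
    funext j
    simp
  rw [Function.comp_assoc, this]
  simp only [eq_comm]

lemma qm_conj (k m : ℕ) (σ : Equiv.Perm (Fin k)) (i : Fin k) (M : Matrix (Fin m) (Fin m) F) :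
    qm k m σ * factorMat k m i M * qm k m σ.symm = factorMat k m (σ i) M := by
  ext x y
  rw [mul_assoc, qm_mul, mul_qm, Equiv.symm_symm, factorMat, factorMat]
  simp only [Function.comp_apply]
  have : (∀ j, j ≠ i → x (σ j) = y (σ j)) ↔ (∀ j, j ≠ σ i → x j = y j) := by
    constructor
    · intro h j hj
      have := h (σ.symm j) (by
        intro h'
        apply hj
        rw [← h']
        simp)
      simpa using this
    · intro h j hj
      exact h (σ j) (by simpa using hj)
  simp only [this]

/-- Skolem-Noether for matrix algebras: an algebra endomorphism of `M_m(F)` is inner. -/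
theorem exists_conj_of_algHom {m : ℕ} (hm : 0 < m)
    (α : Matrix (Fin m) (Fin m) F →ₐ[F] Matrix (Fin m) (Fin m) F) :
    ∃ a : GL (Fin m) F, ∀ M, α M = (a : Matrix (Fin m) (Fin m) F) * M *
      ((a⁻¹ : GL (Fin m) F) : Matrix (Fin m) (Fin m) F) := by
  have : Nonempty (Fin m) := ⟨⟨0, hm⟩⟩
  let αe : Matrix (Fin m) (Fin m) F ≃ₐ[F] Matrix (Fin m) (Fin m) F :=
    AlgEquiv.ofBijective α α.bijective
  let f : Module.End F (Fin m → F) ≃ₐ[F] Module.End F (Fin m → F) :=
    (Matrix.toLinAlgEquiv' (R := F) (n := Fin m)).symm.trans (αe.trans Matrix.toLinAlgEquiv')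
  obtain ⟨T, hT⟩ := f.eq_linearEquivConjAlgEquiv
  have h1 : LinearMap.toMatrix' (T : (Fin m → F) →ₗ[F] (Fin m → F)) *
      LinearMap.toMatrix' (T.symm : (Fin m → F) →ₗ[F] (Fin m → F)) = 1 := by
    rw [← LinearMap.toMatrix'_comp]
    simp
  have h2 : LinearMap.toMatrix' (T.symm : (Fin m → F) →ₗ[F] (Fin m → F)) *
      LinearMap.toMatrix' (T : (Fin m → F) →ₗ[F] (Fin m → F)) = 1 := by
    rw [← LinearMap.toMatrix'_comp]
    simp
  refine ⟨⟨_, _, h1, h2⟩, fun M => ?_⟩
  have h3 : f (Matrix.toLin' M) = T.conjAlgEquiv F (Matrix.toLin' M) := by rw [hT]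
  have h4 : f (Matrix.toLin' M) = Matrix.toLin' (α M) := by
    change Matrix.toLinAlgEquiv' (α (LinearMap.toMatrixAlgEquiv' (Matrix.toLinAlgEquiv' M))) = _
    rw [LinearMap.toMatrixAlgEquiv'_toLinAlgEquiv']
    rfl
  rw [h4, LinearEquiv.conjAlgEquiv_apply] at h3
  have h5 := congrArg LinearMap.toMatrix' h3
  rw [LinearMap.toMatrix'_toLin', LinearMap.toMatrix'_comp, LinearMap.toMatrix'_comp,
    LinearMap.toMatrix'_toLin'] at h5
  rw [h5, mul_assoc]
  rfl


variable {k m : ℕ}

lemma factorMat_mul (i : Fin k) (M N : Matrix (Fin m) (Fin m) F) :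
    factorMat k m i M * factorMat k m i N = factorMat k m i (M * N) := by
  rw [factorMat_eq_pt, factorMat_eq_pt, factorMat_eq_pt, pt_mul]
  congr 1
  funext j
  by_cases h : j = i
  · subst h
    simp
  · simp [Function.update_of_ne h]

lemma factorMat_one (i : Fin k) : factorMat k m i (1 : Matrix (Fin m) (Fin m) F) = 1 := by
  rw [factorMat_eq_pt]
  have : Function.update (fun _ => (1 : Matrix (Fin m) (Fin m) F)) i 1 = fun _ => 1 := by
    funext j
    by_cases h : j = i
    · subst h
      simp
    · simp [Function.update_of_ne h]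
  rw [this, pt_one]

lemma factorMat_add (i : Fin k) (M N : Matrix (Fin m) (Fin m) F) :
    factorMat k m i (M + N) = factorMat k m i M + factorMat k m i N := by
  ext x y
  simp only [factorMat, Matrix.add_apply]
  split_ifs <;> simp

lemma factorMat_smul (i : Fin k) (c : F) (M : Matrix (Fin m) (Fin m) F) :
    factorMat k m i (c • M) = c • factorMat k m i M := by
  ext x y
  simp only [factorMat, Matrix.smul_apply]
  split_ifs <;> simp

lemma factorMat_injective (i : Fin k) :
    Function.Injective (factorMat k m i : Matrix (Fin m) (Fin m) F → _) := by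
  intro M N h
  ext a b
  have h1 := congrFun (congrFun h (fun _ => a)) (Function.update (fun _ => a) i b)
  have h2 : ∀ j, j ≠ i → (fun _ : Fin k => a) j = Function.update (fun _ : Fin k => a) i b j :=
    fun j hj => (Function.update_of_ne hj b (fun _ : Fin k => a)).symm
  rw [factorMat, factorMat, if_pos h2, if_pos h2, Function.update_self] at h1
  exact h1

/-- pure tensors as elements of `GL` -/
def ptGL (k m : ℕ) (gs : Fin k → GL (Fin m) F) : GL (Fin k → Fin m) F :=
  ⟨pt k m (fun i => (gs i : Matrix (Fin m) (Fin m) F)),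
    pt k m (fun i => ((gs i)⁻¹ : GL (Fin m) F)),
    by rw [pt_mul]; simp [pt_one],
    by rw [pt_mul]; simp [pt_one]⟩

lemma isPureTensor_ptGL (gs : Fin k → GL (Fin m) F) : IsPureTensor m k (ptGL k m gs) :=
  ⟨gs, fun _ _ => rfl⟩

/-- factor permutations as elements of `GL` -/
def qmGL (k m : ℕ) (σ : Equiv.Perm (Fin k)) : GL (Fin k → Fin m) F :=
  ⟨qm k m σ, qm k m σ.symm, qm_mul_qm k m σ, by
    have := qm_mul_qm (F := F) k m σ.symm
    rwa [Equiv.symm_symm] at this⟩

lemma isFactorPermutation_qmGL (σ : Equiv.Perm (Fin k)) :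
    IsFactorPermutation m k (qmGL (F := F) k m σ) :=
  ⟨σ, fun _ _ => rfl⟩

lemma ptGL_conj (gs : Fin k → GL (Fin m) F) (j : Fin k) (M : Matrix (Fin m) (Fin m) F) :
    (ptGL k m gs : Matrix (Fin k → Fin m) (Fin k → Fin m) F) * factorMat k m j M *
      (((ptGL k m gs)⁻¹ : GL (Fin k → Fin m) F) : Matrix (Fin k → Fin m) (Fin k → Fin m) F) =
    factorMat k m j ((gs j : Matrix (Fin m) (Fin m) F) * M *
      (((gs j)⁻¹ : GL (Fin m) F) : Matrix (Fin m) (Fin m) F)) := by
  rw [factorMat_eq_pt, factorMat_eq_pt]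
  change pt k m _ * pt k m _ * pt k m _ = _
  rw [pt_mul, pt_mul]
  congr 1
  funext l
  by_cases h : l = j
  · subst h
    simp
  · simp [Function.update_of_ne h]


lemma factorMat_single_left (i : Fin k) (a b : Fin m) (z y : Fin k → Fin m) :
    factorMat k m i (Matrix.single a b (1 : F)) z y =
      if z = Function.update y i a ∧ y i = b then 1 else 0 := by
  have hiff : ((∀ j, j ≠ i → z j = y j) ∧ a = z i ∧ b = y i) ↔
      (z = Function.update y i a ∧ y i = b) := by
    constructor
    · rintro ⟨h1, h2, h3⟩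
      refine ⟨?_, h3.symm⟩
      funext j
      by_cases hj : j = i
      · subst hj
        rw [Function.update_self, h2]
      · rw [Function.update_of_ne hj, h1 j hj]
    · rintro ⟨h1, h2⟩
      refine ⟨fun j hj => ?_, ?_, h2.symm⟩
      · rw [h1, Function.update_of_ne hj]
      · rw [h1, Function.update_self]
  rw [factorMat, Matrix.single_apply]
  by_cases h1 : ∀ j, j ≠ i → z j = y j
  · rw [if_pos h1]
    by_cases h2 : a = z i ∧ b = y i
    · rw [if_pos h2, if_pos (hiff.mp ⟨h1, h2⟩)]
    · rw [if_neg h2, if_neg (fun h => h2 (hiff.mpr h).2)]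
  · rw [if_neg h1, if_neg (fun h => h1 (hiff.mpr h).1)]

lemma factorMat_single_right (i : Fin k) (a b : Fin m) (x z : Fin k → Fin m) :
    factorMat k m i (Matrix.single a b (1 : F)) x z =
      if z = Function.update x i b ∧ x i = a then 1 else 0 := by
  rw [factorMat_single_left]
  have hiff : (x = Function.update z i a ∧ z i = b) ↔ (z = Function.update x i b ∧ x i = a) := by
    constructor
    · rintro ⟨h1, h2⟩
      refine ⟨?_, ?_⟩
      · rw [h1, Function.update_idem, ← h2, Function.update_eq_self]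
      · rw [h1, Function.update_self]
    · rintro ⟨h1, h2⟩
      refine ⟨?_, ?_⟩
      · rw [h1, Function.update_idem, ← h2, Function.update_eq_self]
      · rw [h1, Function.update_self]
  simp only [hiff]

/-- a matrix commuting with all `factorMat i M` is scalar -/
lemma scalar_of_commute (hm : 0 < m) (h : Matrix (Fin k → Fin m) (Fin k → Fin m) F)
    (hc : ∀ (i : Fin k) (M : Matrix (Fin m) (Fin m) F),
      h * factorMat k m i M = factorMat k m i M * h) :
    ∃ c : F, h = c • (1 : Matrix (Fin k → Fin m) (Fin k → Fin m) F) := by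
  have key : ∀ (i : Fin k) (a b : Fin m) (x y : Fin k → Fin m),
      (if y i = b then h x (Function.update y i a) else 0) =
        (if x i = a then h (Function.update x i b) y else 0) := by
    intro i a b x y
    have h1 := congrFun (congrFun (hc i (Matrix.single a b (1 : F))) x) y
    rw [Matrix.mul_apply, Matrix.mul_apply] at h1
    have h2 : ∑ z, h x z * factorMat k m i (Matrix.single a b (1 : F)) z y =
        if y i = b then h x (Function.update y i a) else 0 := by
      rw [Finset.sum_eq_single (Function.update y i a)]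
      · rw [factorMat_single_left]
        by_cases hb : y i = b
        · rw [if_pos ⟨rfl, hb⟩, if_pos hb, mul_one]
        · rw [if_neg (fun hh => hb hh.2), if_neg hb, mul_zero]
      · intro z _ hz
        rw [factorMat_single_left, if_neg (fun hh => hz hh.1), mul_zero]
      · intro hh
        exact absurd (Finset.mem_univ _) hh
    have h3 : ∑ z, factorMat k m i (Matrix.single a b (1 : F)) x z * h z y =
        if x i = a then h (Function.update x i b) y else 0 := by
      rw [Finset.sum_eq_single (Function.update x i b)]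
      · rw [factorMat_single_right]
        by_cases ha : x i = a
        · rw [if_pos ⟨rfl, ha⟩, if_pos ha, one_mul]
        · rw [if_neg (fun hh => ha hh.2), if_neg ha, zero_mul]
      · intro z _ hz
        rw [factorMat_single_right, if_neg (fun hh => hz hh.1), zero_mul]
      · intro hh
        exact absurd (Finset.mem_univ _) hh
    rw [← h2, ← h3]
    exact h1
  have hoff : ∀ x y : Fin k → Fin m, x ≠ y → h x y = 0 := by
    intro x y hxy
    obtain ⟨i, hi⟩ := Function.ne_iff.mp hxy
    have := key i (y i) (y i) x y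
    rw [if_pos rfl, Function.update_eq_self, if_neg hi] at this
    exact this
  have hdiag : ∀ (x : Fin k → Fin m) (i : Fin k) (b : Fin m),
      h x x = h (Function.update x i b) (Function.update x i b) := by
    intro x i b
    have := key i (x i) b x (Function.update x i b)
    rw [if_pos (Function.update_self _ _ _), if_pos rfl, Function.update_idem,
      Function.update_eq_self] at this
    exact this
  let x0 : Fin k → Fin m := fun _ => ⟨0, hm⟩
  have hall : ∀ x : Fin k → Fin m, h x x = h x0 x0 := by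
    intro x
    have hs : ∀ s : Finset (Fin k),
        h (fun j => if j ∈ s then x j else x0 j) (fun j => if j ∈ s then x j else x0 j) =
          h x0 x0 := by
      intro s
      induction s using Finset.induction_on with
      | empty => simp
      | insert i s his ih =>
        have hupd : (fun j => if j ∈ insert i s then x j else x0 j) =
            Function.update (fun j => if j ∈ s then x j else x0 j) i (x i) := by
          funext j
          by_cases hj : j = i
          · subst hj
            simp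
          · rw [Function.update_of_ne hj]
            simp [Finset.mem_insert, hj]
        rw [hupd, ← hdiag, ih]
    have := hs Finset.univ
    simpa using this
  refine ⟨h x0 x0, ?_⟩
  ext x y
  rw [Matrix.smul_apply, Matrix.one_apply]
  by_cases hxy : x = y
  · subst hxy
    rw [if_pos rfl, hall x, smul_eq_mul, mul_one]
  · rw [if_neg hxy, hoff x y hxy, smul_zero]


/-- the standard version of PK4 -/
theorem std (hk : 0 < k) (hm : 0 < m) (g' : GL (Fin k → Fin m) F) (π : Equiv.Perm (Fin k))
    (hg' : ∀ i (M : Matrix (Fin m) (Fin m) F), ∃ M' : Matrix (Fin m) (Fin m) F,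
      (g' : Matrix (Fin k → Fin m) (Fin k → Fin m) F) * factorMat k m i M *
        ((g'⁻¹ : GL (Fin k → Fin m) F) : Matrix (Fin k → Fin m) (Fin k → Fin m) F) =
      factorMat k m (π i) M') :
    g' ∈ tensorWreathStandard m k F := by
  have hgg : ((g'⁻¹ : GL (Fin k → Fin m) F) : Matrix (Fin k → Fin m) (Fin k → Fin m) F) *
      (g' : Matrix (Fin k → Fin m) (Fin k → Fin m) F) = 1 := by
    rw [← Units.val_mul, inv_mul_cancel, Units.val_one]
  -- the induced algebra endomorphisms
  have hα : ∀ i, ∃ α : Matrix (Fin m) (Fin m) F →ₐ[F] Matrix (Fin m) (Fin m) F,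
      ∀ M, (g' : Matrix (Fin k → Fin m) (Fin k → Fin m) F) * factorMat k m i M *
        ((g'⁻¹ : GL (Fin k → Fin m) F) : Matrix (Fin k → Fin m) (Fin k → Fin m) F) =
      factorMat k m (π i) (α M) := by
    intro i
    choose f hf using hg' i
    refine ⟨AlgHom.ofLinearMap
      { toFun := f
        map_add' := ?_
        map_smul' := ?_ } ?_ ?_, fun M => hf M⟩
    · intro M N
      apply factorMat_injective (π i)
      rw [factorMat_add, ← hf, ← hf, ← hf, factorMat_add, mul_add, add_mul]
    · intro c M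
      apply factorMat_injective (π i)
      rw [RingHom.id_apply, factorMat_smul, ← hf, ← hf, factorMat_smul, mul_smul_comm,
        smul_mul_assoc]
    · apply factorMat_injective (π i)
      change factorMat k m (π i) (f 1) = _
      rw [← hf, factorMat_one, factorMat_one, mul_one, ← Units.val_mul, mul_inv_cancel,
        Units.val_one]
    · intro M N
      apply factorMat_injective (π i)
      change factorMat k m (π i) (f (M * N)) = factorMat k m (π i) (f M * f N)
      rw [← factorMat_mul, ← hf, ← hf, ← hf, ← factorMat_mul]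
      calc (g' : Matrix (Fin k → Fin m) (Fin k → Fin m) F) *
            (factorMat k m i M * factorMat k m i N) * ((g'⁻¹ : GL (Fin k → Fin m) F) : Matrix _ _ F)
          = (g' : Matrix (Fin k → Fin m) (Fin k → Fin m) F) * factorMat k m i M *
            (1 : Matrix (Fin k → Fin m) (Fin k → Fin m) F) * factorMat k m i N *
              ((g'⁻¹ : GL (Fin k → Fin m) F) : Matrix _ _ F) := by
            rw [mul_one]
            simp only [mul_assoc]
        _ = _ := by
            rw [← hgg]
            simp only [mul_assoc]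
  choose α hα' using hα
  choose a ha using fun i => exists_conj_of_algHom hm (α i)
  -- the pure tensor and the factor permutation
  let T : GL (Fin k → Fin m) F := ptGL k m (fun j => a (π.symm j))
  let Q : GL (Fin k → Fin m) F := qmGL k m π
  let u : GL (Fin k → Fin m) F := T * Q
  have hu : ∀ i (M : Matrix (Fin m) (Fin m) F),
      (u : Matrix (Fin k → Fin m) (Fin k → Fin m) F) * factorMat k m i M *
        ((u⁻¹ : GL (Fin k → Fin m) F) : Matrix (Fin k → Fin m) (Fin k → Fin m) F) =
      (g' : Matrix (Fin k → Fin m) (Fin k → Fin m) F) * factorMat k m i M *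
        ((g'⁻¹ : GL (Fin k → Fin m) F) : Matrix (Fin k → Fin m) (Fin k → Fin m) F) := by
    intro i M
    rw [hα', ha]
    have h1 : (u : Matrix (Fin k → Fin m) (Fin k → Fin m) F) = (T : Matrix _ _ F) * (Q : Matrix _ _ F) :=
      Units.val_mul _ _
    have h2 : ((u⁻¹ : GL (Fin k → Fin m) F) : Matrix (Fin k → Fin m) (Fin k → Fin m) F) =
        ((Q⁻¹ : GL (Fin k → Fin m) F) : Matrix _ _ F) * ((T⁻¹ : GL (Fin k → Fin m) F) : Matrix _ _ F) := by
      rw [← Units.val_mul, ← _root_.mul_inv_rev]
    have h3 : (Q : Matrix (Fin k → Fin m) (Fin k → Fin m) F) * factorMat k m i M *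
        ((Q⁻¹ : GL (Fin k → Fin m) F) : Matrix _ _ F) = factorMat k m (π i) M :=
      qm_conj k m π i M
    have h4 := ptGL_conj (fun j => a (π.symm j)) (π i) M
    rw [Equiv.symm_apply_apply] at h4
    rw [← h4, ← h3, h1, h2]
    simp only [mul_assoc]
    rfl
  -- the quotient commutes with all factor matrices
  let w : GL (Fin k → Fin m) F := u⁻¹ * g'
  have hw : ∀ (i : Fin k) (M : Matrix (Fin m) (Fin m) F),
      (w : Matrix (Fin k → Fin m) (Fin k → Fin m) F) * factorMat k m i M =
        factorMat k m i M * (w : Matrix (Fin k → Fin m) (Fin k → Fin m) F) := by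
    intro i M
    have h1 := hu i M
    have huu : ((u⁻¹ : GL (Fin k → Fin m) F) : Matrix (Fin k → Fin m) (Fin k → Fin m) F) *
        (u : Matrix (Fin k → Fin m) (Fin k → Fin m) F) = 1 := by
      rw [← Units.val_mul, inv_mul_cancel, Units.val_one]
    have hw' : (w : Matrix (Fin k → Fin m) (Fin k → Fin m) F) =
        ((u⁻¹ : GL (Fin k → Fin m) F) : Matrix _ _ F) * (g' : Matrix _ _ F) := Units.val_mul _ _
    rw [hw']
    calc ((u⁻¹ : GL (Fin k → Fin m) F) : Matrix (Fin k → Fin m) (Fin k → Fin m) F) * (g' : Matrix _ _ F) *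
          factorMat k m i M
        = ((u⁻¹ : GL (Fin k → Fin m) F) : Matrix _ _ F) * ((g' : Matrix _ _ F) * factorMat k m i M *
            ((g'⁻¹ : GL (Fin k → Fin m) F) : Matrix _ _ F)) * (g' : Matrix _ _ F) := by
          simp only [mul_assoc]
          rw [hgg, mul_one]
      _ = ((u⁻¹ : GL (Fin k → Fin m) F) : Matrix _ _ F) * ((u : Matrix _ _ F) * factorMat k m i M *
            ((u⁻¹ : GL (Fin k → Fin m) F) : Matrix _ _ F)) * (g' : Matrix _ _ F) := by rw [h1]
      _ = factorMat k m i M * (((u⁻¹ : GL (Fin k → Fin m) F) : Matrix _ _ F) * (g' : Matrix _ _ F)) := by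
          rw [← mul_assoc, ← mul_assoc, huu, one_mul, mul_assoc]
  obtain ⟨c, hc⟩ := scalar_of_commute hm _ hw
  have hc0 : c ≠ 0 := by
    intro h0
    rw [h0, zero_smul] at hc
    have h1 : ((w⁻¹ : GL (Fin k → Fin m) F) : Matrix (Fin k → Fin m) (Fin k → Fin m) F) *
        (w : Matrix (Fin k → Fin m) (Fin k → Fin m) F) = 1 := by
      rw [← Units.val_mul, inv_mul_cancel, Units.val_one]
    rw [hc, mul_zero] at h1
    have h2 := congrFun (congrFun h1 (fun _ => ⟨0, hm⟩)) (fun _ => ⟨0, hm⟩)
    rw [Matrix.zero_apply, Matrix.one_apply_eq] at h2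
    exact zero_ne_one h2
  -- the scalar is a pure tensor
  have hwpt : IsPureTensor m k w := by
    let cG : GL (Fin m) F := ⟨c • 1, c⁻¹ • 1, by
      rw [smul_mul_smul_comm, mul_one, mul_inv_cancel₀ hc0, one_smul], by
      rw [smul_mul_smul_comm, mul_one, inv_mul_cancel₀ hc0, one_smul]⟩
    refine ⟨Function.update (fun _ => 1) ⟨0, hk⟩ cG, fun x y => ?_⟩
    have h1 : (w : Matrix (Fin k → Fin m) (Fin k → Fin m) F) =
        factorMat k m ⟨0, hk⟩ (c • (1 : Matrix (Fin m) (Fin m) F)) := by
      rw [hc, factorMat_smul, factorMat_one]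
    rw [h1, factorMat_eq_pt, pt_apply]
    apply Finset.prod_congr rfl
    intro j _
    by_cases hj : j = ⟨0, hk⟩
    · subst hj
      rw [Function.update_self, Function.update_self]
    · rw [Function.update_of_ne hj, Function.update_of_ne hj]
      rfl
  have hfin : g' = T * Q * w := by
    change g' = u * (u⁻¹ * g')
    rw [mul_inv_cancel_left]
  rw [hfin]
  exact Subgroup.mul_mem _ (Subgroup.mul_mem _
    (Subgroup.subset_closure (Or.inl (isPureTensor_ptGL _)))
    (Subgroup.subset_closure (Or.inr (isFactorPermutation_qmGL _))))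
    (Subgroup.subset_closure (Or.inl hwpt))


variable {ι : Type} [Fintype ι] [DecidableEq ι]

/-- PK4: an element permuting the factor algebras lies in the tensor wreath subgroup -/
theorem PK4 (k m : ℕ) (hk : 0 < k) (hm : 0 < m) (e : ι ≃ (Fin k → Fin m)) (P : GL ι F) (g : GL ι F)
    (π : Equiv.Perm (Fin k))
    (hg : ∀ i (M : Matrix (Fin m) (Fin m) F), ∃ M' : Matrix (Fin m) (Fin m) F,
      (g : Matrix ι ι F) * ((P : Matrix ι ι F) * Matrix.reindex e.symm e.symm (factorMat k m i M) * ((P⁻¹ : GL ι F) : Matrix ι ι F)) *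
        ((g⁻¹ : GL ι F) : Matrix ι ι F) =
      (P : Matrix ι ι F) * Matrix.reindex e.symm e.symm (factorMat k m (π i) M') * ((P⁻¹ : GL ι F) : Matrix ι ι F)) :
    g ∈ tensorWreathSubgroup m k e P := by
  let y : GL ι F := P⁻¹ * g * P
  let g' : GL (Fin k → Fin m) F := glReindex e y
  have hPP : ((P⁻¹ : GL ι F) : Matrix ι ι F) * (P : Matrix ι ι F) = 1 := by
    rw [← Units.val_mul, inv_mul_cancel, Units.val_one]
  have hg'1 : (g' : Matrix (Fin k → Fin m) (Fin k → Fin m) F) =
      Matrix.reindexAlgEquiv F F e (y : Matrix ι ι F) := rfl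
  have hg'2 : ((g'⁻¹ : GL (Fin k → Fin m) F) : Matrix (Fin k → Fin m) (Fin k → Fin m) F) =
      Matrix.reindexAlgEquiv F F e ((y⁻¹ : GL ι F) : Matrix ι ι F) := by
    change ((glReindex e y)⁻¹ : GL (Fin k → Fin m) F).val = _
    rw [← map_inv]
    rfl
  have hfm : ∀ A : Matrix (Fin k → Fin m) (Fin k → Fin m) F,
      A = Matrix.reindexAlgEquiv F F e (Matrix.reindex e.symm e.symm A) := by
    intro A
    ext x z
    simp [Matrix.coe_reindexAlgEquiv]
  have hstd : g' ∈ tensorWreathStandard m k F := by
    apply std hk hm g' π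
    intro i M
    obtain ⟨M', hM'⟩ := hg i M
    refine ⟨M', ?_⟩
    rw [hg'1, hg'2, hfm (factorMat k m i M), hfm (factorMat k m (π i) M'), ← map_mul, ← map_mul]
    congr 1
    have hy : (y : Matrix ι ι F) = ((P⁻¹ : GL ι F) : Matrix ι ι F) * (g : Matrix ι ι F) * (P : Matrix ι ι F) := by
      simp [y, Units.val_mul]
    have hyi : ((y⁻¹ : GL ι F) : Matrix ι ι F) =
        ((P⁻¹ : GL ι F) : Matrix ι ι F) * ((g⁻¹ : GL ι F) : Matrix ι ι F) * (P : Matrix ι ι F) := by
      simp [y, Units.val_mul, _root_.mul_inv_rev, mul_assoc]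
    rw [hy, hyi]
    calc ((P⁻¹ : GL ι F) : Matrix ι ι F) * (g : Matrix ι ι F) * (P : Matrix ι ι F) *
          Matrix.reindex e.symm e.symm (factorMat k m i M) *
          (((P⁻¹ : GL ι F) : Matrix ι ι F) * ((g⁻¹ : GL ι F) : Matrix ι ι F) * (P : Matrix ι ι F))
        = ((P⁻¹ : GL ι F) : Matrix ι ι F) * ((g : Matrix ι ι F) * ((P : Matrix ι ι F) *
            Matrix.reindex e.symm e.symm (factorMat k m i M) * ((P⁻¹ : GL ι F) : Matrix ι ι F)) *
            ((g⁻¹ : GL ι F) : Matrix ι ι F)) * (P : Matrix ι ι F) := by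
          simp only [mul_assoc]
      _ = _ := by
          rw [hM']
          simp only [mul_assoc]
          rw [hPP, mul_one, ← mul_assoc, hPP, one_mul]
  rw [tensorWreathSubgroup]
  refine Subgroup.mem_map.mpr ⟨y, Subgroup.mem_map.mpr ⟨g', hstd, ?_⟩, ?_⟩
  · apply Units.ext
    change Matrix.reindexAlgEquiv F F e.symm (Matrix.reindexAlgEquiv F F e (y : Matrix ι ι F)) = _
    ext x z
    simp [Matrix.coe_reindexAlgEquiv]
  · change P * (P⁻¹ * g * P) * P⁻¹ = g
    group

end Cfsg.Agent.Lib.Helper10_Asch_PK4
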