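import Mathlib
import Cfsg.Prelude.Def_Classical
import Cfsg.Prelude.Def_ClassicalGeometry

set_option autoImplicit false

/-!
Basic lemmas on `Cfsg.isometryGroup` and `Cfsg.Omega` (helper44).
-/

namespace Cfsg.Agent.Lib.Helper44_Orth

open Cfsg Matrix

variable {ι : Type} [Fintype ι] [DecidableEq ι] {F : Type*} [Field F]

theorem mem_isometryGroup_iff (Q : (ι → F) → F) (g : Matrix.GeneralLinearGroup ι F) :
    g ∈ Cfsg.isometryGroup F Q ↔ ∀ u : ι → F, Q ((g : Matrix ι ι F) *ᵥ u) = Q u := by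
  constructor
  · intro h u
    exact h u u
  · intro h u _
    exact h u

/-- A group homomorphism maps the commutator subgroup into the commutator subgroup. -/
theorem map_mem_commutator {G H : Type*} [Group G] [Group H] (f : G →* H) {g : G}
    (hg : g ∈ commutator G) : f g ∈ commutator H := by
  have h1 : f g ∈ (commutator G).map f := Subgroup.mem_map_of_mem f hg
  rw [map_commutator_eq] at h1
  rw [commutator_def]
  exact Subgroup.commutator_mono le_top le_top h1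

section blocks

variable {k l : Type} [Fintype k] [Fintype l] [DecidableEq k] [DecidableEq l]

/-- `A ↦ fromBlocks A 0 0 1` as a monoid hom. -/
def blockLeftHom (k l : Type) [Fintype k] [Fintype l] [DecidableEq k] [DecidableEq l]
    (F : Type*) [Field F] : Matrix k k F →* Matrix (k ⊕ l) (k ⊕ l) F where
  toFun A := Matrix.fromBlocks A 0 0 1
  map_one' := Matrix.fromBlocks_one
  map_mul' A B := by simp [Matrix.fromBlocks_multiply]

/-- `B ↦ fromBlocks 1 0 0 B` as a monoid hom. -/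
def blockRightHom (k l : Type) [Fintype k] [Fintype l] [DecidableEq k] [DecidableEq l]
    (F : Type*) [Field F] : Matrix l l F →* Matrix (k ⊕ l) (k ⊕ l) F where
  toFun B := Matrix.fromBlocks 1 0 0 B
  map_one' := Matrix.fromBlocks_one
  map_mul' A B := by simp [Matrix.fromBlocks_multiply]

/-- The orthogonal sum of two forms given as functions. -/
def sumForm (Q₁ : (k → F) → F) (Q₂ : (l → F) → F) : (k ⊕ l → F) → F :=
  fun v => Q₁ (v ∘ Sum.inl) + Q₂ (v ∘ Sum.inr)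

theorem blockLeft_mem (Q₁ : (k → F) → F) (Q₂ : (l → F) → F) (g : Matrix.GeneralLinearGroup k F)
    (hg : g ∈ Cfsg.isometryGroup F Q₁) :
    Units.map (blockLeftHom k l F) g ∈ Cfsg.isometryGroup F (sumForm Q₁ Q₂) := by
  rw [mem_isometryGroup_iff] at hg ⊢
  intro u
  have h1 : ((Units.map (blockLeftHom k l F) g : Matrix.GeneralLinearGroup (k ⊕ l) F) :
      Matrix (k ⊕ l) (k ⊕ l) F) = Matrix.fromBlocks (g : Matrix k k F) 0 0 1 := rfl
  rw [h1, Matrix.fromBlocks_mulVec]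
  simp only [sumForm]
  have e1 : (Sum.elim ((g : Matrix k k F) *ᵥ (u ∘ Sum.inl) + (0 : Matrix k l F) *ᵥ (u ∘ Sum.inr))
      ((0 : Matrix l k F) *ᵥ (u ∘ Sum.inl) + (1 : Matrix l l F) *ᵥ (u ∘ Sum.inr))) ∘ Sum.inl
      = (g : Matrix k k F) *ᵥ (u ∘ Sum.inl) := by
    funext i; simp
  have e2 : (Sum.elim ((g : Matrix k k F) *ᵥ (u ∘ Sum.inl) + (0 : Matrix k l F) *ᵥ (u ∘ Sum.inr))
      ((0 : Matrix l k F) *ᵥ (u ∘ Sum.inl) + (1 : Matrix l l F) *ᵥ (u ∘ Sum.inr))) ∘ Sum.inr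
      = u ∘ Sum.inr := by
    funext i; simp
  rw [e1, e2, hg]

theorem blockRight_mem (Q₁ : (k → F) → F) (Q₂ : (l → F) → F) (g : Matrix.GeneralLinearGroup l F)
    (hg : g ∈ Cfsg.isometryGroup F Q₂) :
    Units.map (blockRightHom k l F) g ∈ Cfsg.isometryGroup F (sumForm Q₁ Q₂) := by
  rw [mem_isometryGroup_iff] at hg ⊢
  intro u
  have h1 : ((Units.map (blockRightHom k l F) g : Matrix.GeneralLinearGroup (k ⊕ l) F) :
      Matrix (k ⊕ l) (k ⊕ l) F) = Matrix.fromBlocks 1 0 0 (g : Matrix l l F) := rfl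
  rw [h1, Matrix.fromBlocks_mulVec]
  simp only [sumForm]
  have e1 : (Sum.elim ((1 : Matrix k k F) *ᵥ (u ∘ Sum.inl) + (0 : Matrix k l F) *ᵥ (u ∘ Sum.inr))
      ((0 : Matrix l k F) *ᵥ (u ∘ Sum.inl) + (g : Matrix l l F) *ᵥ (u ∘ Sum.inr))) ∘ Sum.inl
      = u ∘ Sum.inl := by
    funext i; simp
  have e2 : (Sum.elim ((1 : Matrix k k F) *ᵥ (u ∘ Sum.inl) + (0 : Matrix k l F) *ᵥ (u ∘ Sum.inr))
      ((0 : Matrix l k F) *ᵥ (u ∘ Sum.inl) + (g : Matrix l l F) *ᵥ (u ∘ Sum.inr))) ∘ Sum.inr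
      = (g : Matrix l l F) *ᵥ (u ∘ Sum.inr) := by
    funext i; simp
  rw [e1, e2, hg]

/-- Embedding of `O(Q₁)` in `O(Q₁ ⊕ Q₂)` as `diag(g, 1)`. -/
def isomLeft (Q₁ : (k → F) → F) (Q₂ : (l → F) → F) :
    ↥(Cfsg.isometryGroup F Q₁) →* ↥(Cfsg.isometryGroup F (sumForm Q₁ Q₂)) :=
  ((Units.map (blockLeftHom k l F)).comp (Cfsg.isometryGroup F Q₁).subtype).codRestrict
    (Cfsg.isometryGroup F (sumForm Q₁ Q₂)) (fun g => blockLeft_mem Q₁ Q₂ g.1 g.2)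

/-- Embedding of `O(Q₂)` in `O(Q₁ ⊕ Q₂)` as `diag(1, g)`. -/
def isomRight (Q₁ : (k → F) → F) (Q₂ : (l → F) → F) :
    ↥(Cfsg.isometryGroup F Q₂) →* ↥(Cfsg.isometryGroup F (sumForm Q₁ Q₂)) :=
  ((Units.map (blockRightHom k l F)).comp (Cfsg.isometryGroup F Q₂).subtype).codRestrict
    (Cfsg.isometryGroup F (sumForm Q₁ Q₂)) (fun g => blockRight_mem Q₁ Q₂ g.1 g.2)

theorem isomLeft_coe (Q₁ : (k → F) → F) (Q₂ : (l → F) → F) (g : ↥(Cfsg.isometryGroup F Q₁)) :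
    (((isomLeft Q₁ Q₂ g : ↥(Cfsg.isometryGroup F (sumForm Q₁ Q₂))) :
      Matrix.GeneralLinearGroup (k ⊕ l) F) : Matrix (k ⊕ l) (k ⊕ l) F)
      = Matrix.fromBlocks ((g : Matrix.GeneralLinearGroup k F) : Matrix k k F) 0 0 1 := rfl

theorem isomRight_coe (Q₁ : (k → F) → F) (Q₂ : (l → F) → F) (g : ↥(Cfsg.isometryGroup F Q₂)) :
    (((isomRight Q₁ Q₂ g : ↥(Cfsg.isometryGroup F (sumForm Q₁ Q₂))) :
      Matrix.GeneralLinearGroup (k ⊕ l) F) : Matrix (k ⊕ l) (k ⊕ l) F)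
      = Matrix.fromBlocks 1 0 0 ((g : Matrix.GeneralLinearGroup l F) : Matrix l l F) := rfl

/-- `Ω(Q₁) × Ω(Q₂) ≤ Ω(Q₁ ⊕ Q₂)`, in matrix form. -/
theorem omega_sum (Q₁ : (k → F) → F) (Q₂ : (l → F) → F)
    (g₁ : ↥(Cfsg.isometryGroup F Q₁)) (g₂ : ↥(Cfsg.isometryGroup F Q₂))
    (hg₁ : g₁ ∈ Cfsg.Omega F Q₁) (hg₂ : g₂ ∈ Cfsg.Omega F Q₂) :
    ∃ g : ↥(Cfsg.isometryGroup F (sumForm Q₁ Q₂)), g ∈ Cfsg.Omega F (sumForm Q₁ Q₂) ∧
      ((g : Matrix.GeneralLinearGroup (k ⊕ l) F) : Matrix (k ⊕ l) (k ⊕ l) F)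
        = Matrix.fromBlocks ((g₁ : Matrix.GeneralLinearGroup k F) : Matrix k k F) 0 0
            ((g₂ : Matrix.GeneralLinearGroup l F) : Matrix l l F) := by
  refine ⟨isomLeft Q₁ Q₂ g₁ * isomRight Q₁ Q₂ g₂, ?_, ?_⟩
  · exact Subgroup.mul_mem _ (map_mem_commutator _ hg₁) (map_mem_commutator _ hg₂)
  · have : (((isomLeft Q₁ Q₂ g₁ * isomRight Q₁ Q₂ g₂ : ↥(Cfsg.isometryGroup F (sumForm Q₁ Q₂))) :
        Matrix.GeneralLinearGroup (k ⊕ l) F) : Matrix (k ⊕ l) (k ⊕ l) F)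
        = (((isomLeft Q₁ Q₂ g₁ : ↥(Cfsg.isometryGroup F (sumForm Q₁ Q₂))) :
            Matrix.GeneralLinearGroup (k ⊕ l) F) : Matrix (k ⊕ l) (k ⊕ l) F)
          * (((isomRight Q₁ Q₂ g₂ : ↥(Cfsg.isometryGroup F (sumForm Q₁ Q₂))) :
            Matrix.GeneralLinearGroup (k ⊕ l) F) : Matrix (k ⊕ l) (k ⊕ l) F) := rfl
    rw [this, isomLeft_coe, isomRight_coe, Matrix.fromBlocks_multiply]
    simp

end blocks

end Cfsg.Agent.Lib.Helper44_Orth
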