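import Mathlib
import Cfsg.Prelude.Def_LieTypeDatum
import Cfsg.Agent.Lib.Helper44_Orth

set_option autoImplicit false

/-!
The homomorphism `Phi : GO(Q) →* Aut(PΩ(Q))` (conjugation by similarities), the description of the
subgroups `pgoAut`, `poAut`, `psoAut`, `Inn` of `Aut(PΩ(Q))` as images under `Phi`, and an abstract
descent lemma producing homomorphisms out of images (helper14).
-/

namespace Cfsg.Agent.Lib.Helper14_AutOmega

open Cfsg Matrix Cfsg.Agent.Lib.Helper44_Orth

section general

variable {G : Type*} [Group G]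

/-- Automorphisms of `G` act on the quotient by a characteristic subgroup. -/
def quotAut (N : Subgroup G) [N.Characteristic] : MulAut G →* MulAut (G ⧸ N) where
  toFun φ := QuotientGroup.congr N N φ (Subgroup.characteristic_iff_map_eq.mp inferInstance φ)
  map_one' := by
    ext x
    induction x using QuotientGroup.induction_on
    rfl
  map_mul' φ ψ := by
    ext x
    induction x using QuotientGroup.induction_on
    rfl

theorem quotAut_mk (N : Subgroup G) [N.Characteristic] (φ : MulAut G) (x : G) :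
    quotAut N φ (QuotientGroup.mk x) = QuotientGroup.mk (φ x) := rfl

/-- Descent of a homomorphism through the image of another one. -/
theorem exists_hom_of_range {A H : Type*} [Group A] [Group H] (Φ : G →* A) (ψ : G →* H)
    (hψ : Function.Surjective ψ) (S : Subgroup G) (hker : ψ.ker = S ⊔ Φ.ker)
    (P R : Subgroup A) (hP : P = Φ.range) (hR : R = S.map Φ) :
    ∃ φ : ↥P →* H, Function.Surjective φ ∧ φ.ker = R.subgroupOf P := by
  subst hP hR
  have hle : Φ.rangeRestrict.ker ≤ ψ.ker := by
    rw [MonoidHom.ker_rangeRestrict, hker]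
    exact le_sup_right
  refine ⟨Φ.rangeRestrict.liftOfSurjective Φ.rangeRestrict_surjective ⟨ψ, hle⟩, ?_, ?_⟩
  · intro h
    obtain ⟨g, rfl⟩ := hψ h
    exact ⟨Φ.rangeRestrict g, MonoidHom.liftOfRightInverse_comp_apply _ _ _ _ g⟩
  · ext x
    obtain ⟨g, rfl⟩ := Φ.rangeRestrict_surjective x
    rw [MonoidHom.mem_ker, Subgroup.mem_subgroupOf]
    have h1 : (Φ.rangeRestrict.liftOfSurjective Φ.rangeRestrict_surjective ⟨ψ, hle⟩)
        (Φ.rangeRestrict g) = ψ g := MonoidHom.liftOfRightInverse_comp_apply _ _ _ _ g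
    rw [h1, ← MonoidHom.mem_ker, hker]
    constructor
    · intro hg
      obtain ⟨s, hs, k, hk, rfl⟩ := Subgroup.mem_sup_of_normal_right.mp hg
      refine ⟨s, hs, ?_⟩
      show Φ s = Φ (s * k)
      rw [map_mul, MonoidHom.mem_ker.mp hk, mul_one]
    · rintro ⟨s, hs, hsg⟩
      have hsg' : Φ s = Φ g := hsg
      have : g = s * (s⁻¹ * g) := by group
      rw [this]
      refine Subgroup.mul_mem_sup hs ?_
      rw [MonoidHom.mem_ker, map_mul, map_inv, hsg', inv_mul_cancel]

end general

section orth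

variable {ι : Type} [Fintype ι] [DecidableEq ι] {F : Type*} [Field F] (Q : (ι → F) → F)

/-- The similarity group of `Q`. -/
abbrev GO : Subgroup (GL ι F) := Geo.quadSimilarityGroup (F := F) Q

theorem isometryGroup_le_GO : isometryGroup F Q ≤ GO Q := by
  intro g hg
  refine ⟨1, fun v => ?_⟩
  rw [(mem_isometryGroup_iff Q g).mp hg v, Units.val_one, one_mul]

theorem conj_mem {g : GL ι F} (hg : g ∈ GO Q) {h : GL ι F} (hh : h ∈ isometryGroup F Q) :
    g * h * g⁻¹ ∈ isometryGroup F Q := by
  obtain ⟨c, hc⟩ := hg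
  rw [mem_isometryGroup_iff] at hh ⊢
  intro u
  have h1 : Q u = c * Q (((g⁻¹ : GL ι F) : Matrix ι ι F) *ᵥ u) := by
    have := hc (((g⁻¹ : GL ι F) : Matrix ι ι F) *ᵥ u)
    rw [Matrix.mulVec_mulVec, ← Units.val_mul, mul_inv_cancel, Units.val_one,
      Matrix.one_mulVec] at this
    exact this
  rw [Units.val_mul, Units.val_mul, ← Matrix.mulVec_mulVec, ← Matrix.mulVec_mulVec, hc, hh, ← h1]

/-- Conjugation by a similarity, as an automorphism of the isometry group. -/
def conjO : ↥(GO Q) →* MulAut ↥(isometryGroup F Q) where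
  toFun g :=
    { toFun := fun h => ⟨(g : GL ι F) * h * (g : GL ι F)⁻¹, conj_mem Q g.2 h.2⟩
      invFun := fun h => ⟨(g : GL ι F)⁻¹ * h * (g : GL ι F), by
        have := conj_mem Q (inv_mem g.2) h.2
        rwa [inv_inv] at this⟩
      left_inv := fun h => Subtype.ext (by simp [mul_assoc])
      right_inv := fun h => Subtype.ext (by simp [mul_assoc])
      map_mul' := fun h k => Subtype.ext (by simp [mul_assoc]) }
  map_one' := by
    ext h
    simp
  map_mul' g k := by
    ext h
    simp [mul_assoc]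

theorem conjO_apply (g : ↥(GO Q)) (h : ↥(isometryGroup F Q)) :
    ((conjO Q g h : ↥(isometryGroup F Q)) : GL ι F) = (g : GL ι F) * h * (g : GL ι F)⁻¹ := rfl

/-- The action of the similarity group on `PΩ(Q)` by conjugation. -/
noncomputable def Phi : ↥(GO Q) →* MulAut (POmega F Q) :=
  (quotAut (Subgroup.center (Omega F Q))).comp
    ((MulAut.characteristic (Omega F Q)).comp (conjO Q))

theorem Phi_mk (g : ↥(GO Q)) (s : ↥(Omega F Q)) :
    Phi Q g (QuotientGroup.mk s) =
      QuotientGroup.mk (MulAut.characteristic (Omega F Q) (conjO Q g) s) := rfl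

theorem Phi_mk_coe (g : ↥(GO Q)) (s : ↥(Omega F Q)) :
    (((MulAut.characteristic (Omega F Q) (conjO Q g) s : ↥(Omega F Q)) :
      ↥(isometryGroup F Q)) : GL ι F) = (g : GL ι F) * ((s : ↥(isometryGroup F Q)) : GL ι F) *
        (g : GL ι F)⁻¹ := rfl

theorem isInduced_iff (g : ↥(GO Q)) (β : POmega F Q ≃* POmega F Q) :
    IsInducedBySemilinearPOmega Q (g : GL ι F) (RingEquiv.refl F) β ↔ β = Phi Q g := by
  constructor
  · intro h
    ext x
    induction x using QuotientGroup.induction_on with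
    | H s =>
      rw [Phi_mk]
      apply h
      rw [Phi_mk_coe]
      have : ((((s : ↥(isometryGroup F Q)) : GL ι F) : Matrix ι ι F)).map (RingEquiv.refl F) =
          (((s : ↥(isometryGroup F Q)) : GL ι F) : Matrix ι ι F) := by
        ext i j
        rfl
      rw [this, Units.val_mul, Units.val_mul]
  · rintro rfl s s' hs
    rw [Phi_mk]
    congr 1
    apply Subtype.ext
    apply Subtype.ext
    apply Units.ext
    rw [Phi_mk_coe, hs, Units.val_mul, Units.val_mul]
    congr 2

/-- The subgroup of `Aut(PΩ)` generated by the automorphisms induced by the elements of a subgroup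
`S` of the similarity group is the image of `S` under `Phi`. -/
theorem autSubgroupOf_eq_map (S : Subgroup (GL ι F)) (hS : S ≤ GO Q) :
    autSubgroupOf (fun β : POmega F Q ≃* POmega F Q =>
      ∃ g : GL ι F, g ∈ S ∧ IsInducedBySemilinearPOmega Q g (RingEquiv.refl F) β) =
      (S.subgroupOf (GO Q)).map (Phi Q) := by
  unfold autSubgroupOf
  have : {β : MulAut (POmega F Q) |
      ∃ g : GL ι F, g ∈ S ∧ IsInducedBySemilinearPOmega Q g (RingEquiv.refl F) β} =
      (((S.subgroupOf (GO Q)).map (Phi Q) : Subgroup (MulAut (POmega F Q))) :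
        Set (MulAut (POmega F Q))) := by
    ext β
    constructor
    · rintro ⟨g, hg, hβ⟩
      refine ⟨⟨g, hS hg⟩, ?_, ?_⟩
      · exact Subgroup.mem_subgroupOf.mpr hg
      · exact ((isInduced_iff Q ⟨g, hS hg⟩ β).mp hβ).symm
    · rintro ⟨g, hg, rfl⟩
      exact ⟨g, Subgroup.mem_subgroupOf.mp hg, (isInduced_iff Q g _).mpr rfl⟩
  rw [this, Subgroup.closure_eq]

theorem pgoAut_eq : pgoAut F Q = (Phi Q).range := by
  have h := autSubgroupOf_eq_map Q (GO Q) le_rfl
  rw [Subgroup.subgroupOf_self, ← MonoidHom.range_eq_map] at h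
  exact h

theorem specialIsometryGL_le : specialIsometryGL F Q ≤ GO Q :=
  inf_le_left.trans (isometryGroup_le_GO Q)

theorem poAut_eq : poAut F Q = ((isometryGroup F Q).subgroupOf (GO Q)).map (Phi Q) :=
  autSubgroupOf_eq_map Q (isometryGroup F Q) (isometryGroup_le_GO Q)

theorem psoAut_eq : psoAut F Q = ((specialIsometryGL F Q).subgroupOf (GO Q)).map (Phi Q) :=
  autSubgroupOf_eq_map Q (specialIsometryGL F Q) (specialIsometryGL_le Q)

/-- `Ω(Q)` as a subgroup of the general linear group. -/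
def omegaGL : Subgroup (GL ι F) := (Omega F Q).map (isometryGroup F Q).subtype

theorem omegaGL_le : omegaGL Q ≤ GO Q := by
  rintro _ ⟨s, -, rfl⟩
  exact isometryGroup_le_GO Q s.2

theorem mem_omegaGL_iff (g : GL ι F) :
    g ∈ omegaGL Q ↔ ∃ h : g ∈ isometryGroup F Q, (⟨g, h⟩ : ↥(isometryGroup F Q)) ∈ Omega F Q := by
  constructor
  · rintro ⟨s, hs, rfl⟩
    exact ⟨s.2, hs⟩
  · rintro ⟨h, hs⟩
    exact ⟨⟨g, h⟩, hs, rfl⟩

theorem Phi_omega (s : ↥(Omega F Q)) :
    Phi Q ⟨((s : ↥(isometryGroup F Q)) : GL ι F), isometryGroup_le_GO Q (s : ↥(isometryGroup F Q)).2⟩ =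
      MulAut.conj (QuotientGroup.mk s : POmega F Q) := by
  ext x
  induction x using QuotientGroup.induction_on with
  | H t =>
    rw [Phi_mk, MulAut.conj_apply, ← QuotientGroup.mk_inv, ← QuotientGroup.mk_mul,
      ← QuotientGroup.mk_mul]
    congr 1

theorem inn_eq : Inn (POmega F Q) = ((omegaGL Q).subgroupOf (GO Q)).map (Phi Q) := by
  ext β
  constructor
  · rintro ⟨x, rfl⟩
    induction x using QuotientGroup.induction_on with
    | H s =>
      refine ⟨⟨((s : ↥(isometryGroup F Q)) : GL ι F),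
        isometryGroup_le_GO Q (s : ↥(isometryGroup F Q)).2⟩, ?_, Phi_omega Q s⟩
      exact Subgroup.mem_subgroupOf.mpr ⟨s, s.2, rfl⟩
  · rintro ⟨g, hg, rfl⟩
    obtain ⟨s, hs, hsg⟩ := Subgroup.mem_subgroupOf.mp hg
    refine ⟨QuotientGroup.mk ⟨s, hs⟩, ?_⟩
    rw [← Phi_omega Q ⟨s, hs⟩]
    congr 1
    exact Subtype.ext hsg

end orth

end Cfsg.Agent.Lib.Helper14_AutOmega
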