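import Mathlib

set_option autoImplicit false

/-!
Squares in finite fields (helper44).
-/

namespace Cfsg.Agent.Lib.Helper44_FinSq

variable {F : Type*} [Field F] [Fintype F]

theorem ringChar_ne_two_of_odd_card (h : Odd (Fintype.card F)) : ringChar F ≠ 2 := by
  intro h2
  have := FiniteField.even_card_of_char_two h2
  rw [Nat.odd_iff] at h
  omega

theorem two_ne_zero_of_odd_card (h : Odd (Fintype.card F)) : (2 : F) ≠ 0 :=
  Ring.two_ne_zero (ringChar_ne_two_of_odd_card h)

omit [Fintype F] in
theorem ringChar_ne_two_of_two_ne_zero (h : (2 : F) ≠ 0) : ringChar F ≠ 2 := by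
  intro h2
  apply h
  have : ((2 : ℕ) : F) = 0 := by
    rw [← h2]; exact ringChar.Nat.cast_ringChar
  exact_mod_cast this

theorem odd_card_of_two_ne_zero (h : (2 : F) ≠ 0) : Odd (Fintype.card F) := by
  rw [Nat.odd_iff]
  exact FiniteField.odd_card_of_char_ne_two (ringChar_ne_two_of_two_ne_zero h)

/-- In a finite field, the product of a nonzero element with a non-square is a square iff the element
is a non-square. -/
theorem isSquare_mul_nonsq_iff {x d : F} (hx : x ≠ 0) (hd : ¬ IsSquare d) :
    IsSquare (x * d) ↔ ¬ IsSquare x := by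
  classical
  have hd0 : d ≠ 0 := by
    rintro rfl; exact hd ⟨0, by simp⟩
  have hxd : x * d ≠ 0 := mul_ne_zero hx hd0
  rw [← quadraticChar_one_iff_isSquare hxd, ← quadraticChar_neg_one_iff_not_isSquare, map_mul,
    quadraticChar_neg_one_iff_not_isSquare.mpr hd]
  rcases quadraticChar_dichotomy hx with h | h <;> rw [h] <;> decide

theorem isSquare_mul_of_nonsq_of_nonsq {x d : F} (hx : ¬ IsSquare x) (hd : ¬ IsSquare d) :
    IsSquare (x * d) := by
  have hx0 : x ≠ 0 := by
    rintro rfl; exact hx ⟨0, by simp⟩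
  exact (isSquare_mul_nonsq_iff hx0 hd).mpr hx

omit [Fintype F] in
/-- Product with a nonzero square does not change being a square. -/
theorem isSquare_mul_sq_iff {x s : F} (hs0 : s ≠ 0) (hs : IsSquare s) :
    IsSquare (x * s) ↔ IsSquare x := by
  obtain ⟨r, rfl⟩ := hs
  have hr : r ≠ 0 := by
    rintro rfl; simp at hs0
  constructor
  · rintro ⟨t, ht⟩
    refine ⟨t / r, ?_⟩
    rw [div_mul_div_comm, ← ht]
    field_simp
  · rintro ⟨t, rfl⟩
    exact ⟨t * r, by ring⟩

/-- In a finite field, a product of non-zero elements is a square iff both or neither factor is. -/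
theorem isSquare_mul_iff_iff {x y : F} (hx : x ≠ 0) (hy : y ≠ 0) :
    IsSquare (x * y) ↔ (IsSquare x ↔ IsSquare y) := by
  by_cases hys : IsSquare y
  · rw [isSquare_mul_sq_iff hy hys]
    exact ⟨fun h => ⟨fun _ => hys, fun _ => h⟩, fun h => h.mpr hys⟩
  · rw [isSquare_mul_nonsq_iff hx hys]
    exact ⟨fun h => ⟨fun h' => absurd h' h, fun h' => absurd h' hys⟩, fun h h' => hys (h.mp h')⟩

end Cfsg.Agent.Lib.Helper44_FinSq
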