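import Mathlib
import Cfsg.Prelude.Def_Classical
import Cfsg.Prelude.Def_ClassicalGeometry
import Cfsg.Agent.Lib.Helper44_Orth

set_option autoImplicit false

/-!
Reflections `Cfsg.reflectionMatrix` of a quadratic form on `ι → F`: action, isometry property, involution,
conjugation, determinant (helper44).
-/

namespace Cfsg.Agent.Lib.Helper44_Refl

open Cfsg Matrix Cfsg.Agent.Lib.Helper44_Orth

variable {ι : Type} [Fintype ι] [DecidableEq ι] {F : Type*} [Field F]

/-- The polar vector pairs with `x` to the polar form. -/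
theorem polarVec_dotProduct (Q : QuadraticForm F (ι → F)) (v x : ι → F) :
    Cfsg.polarVec (⇑Q) v ⬝ᵥ x = QuadraticMap.polar (⇑Q) v x := by
  have hx : x = ∑ j, x j • (Pi.single j (1 : F) : ι → F) := by
    funext i
    simp [Finset.sum_apply, Pi.single_apply]
  conv_rhs => rw [hx]
  rw [← QuadraticMap.polarBilin_apply_apply, map_sum]
  simp only [dotProduct, Cfsg.polarVec, map_smul, smul_eq_mul, QuadraticMap.polarBilin_apply_apply]
  apply Finset.sum_congr rfl
  intro j _
  ring

/-- Action of the reflection matrix. -/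
theorem reflectionMatrix_mulVec (Q : QuadraticForm F (ι → F)) (v x : ι → F) :
    Cfsg.reflectionMatrix (⇑Q) v *ᵥ x = x - ((Q v)⁻¹ * QuadraticMap.polar (⇑Q) v x) • v := by
  rw [Cfsg.reflectionMatrix, Matrix.sub_mulVec, Matrix.one_mulVec, Matrix.smul_mulVec,
    Matrix.vecMulVec_mulVec, polarVec_dotProduct]
  funext i
  simp only [Pi.sub_apply, Pi.smul_apply, smul_eq_mul, MulOpposite.smul_eq_mul_unop,
    MulOpposite.unop_op]
  ring

omit [Fintype ι] [DecidableEq ι] in
theorem polar_self (Q : QuadraticForm F (ι → F)) (v : ι → F) :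
    QuadraticMap.polar (⇑Q) v v = 2 * Q v := by
  rw [QuadraticMap.polar_self]; simp [two_mul]

omit [Fintype ι] [DecidableEq ι] in
/-- `Q (x - t v) = Q x + t² Q v - t B(v, x)`. -/
theorem map_sub_smul (Q : QuadraticForm F (ι → F)) (v x : ι → F) (t : F) :
    Q (x - t • v) = Q x + t * t * Q v - t * QuadraticMap.polar (⇑Q) v x := by
  have h1 : Q (x - t • v) = Q (x + (-t) • v) := by rw [neg_smul, sub_eq_add_neg]
  rw [h1, QuadraticMap.map_add (⇑Q) x ((-t) • v), QuadraticMap.map_smul]
  have h2 : QuadraticMap.polar (⇑Q) x ((-t) • v) = (-t) * QuadraticMap.polar (⇑Q) v x := by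
    rw [QuadraticMap.polar_smul_right, QuadraticMap.polar_comm]; rfl
  rw [h2]
  simp only [smul_eq_mul]
  ring

/-- A reflection is an isometry. -/
theorem map_reflection (Q : QuadraticForm F (ι → F)) {v : ι → F} (hv : Q v ≠ 0) (x : ι → F) :
    Q (Cfsg.reflectionMatrix (⇑Q) v *ᵥ x) = Q x := by
  rw [reflectionMatrix_mulVec, map_sub_smul]
  field_simp
  ring

theorem polar_reflection_right (Q : QuadraticForm F (ι → F)) {v : ι → F} (hv : Q v ≠ 0) (x : ι → F) :
    QuadraticMap.polar (⇑Q) v (Cfsg.reflectionMatrix (⇑Q) v *ᵥ x) = - QuadraticMap.polar (⇑Q) v x := by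
  rw [reflectionMatrix_mulVec, QuadraticMap.polar_sub_right, QuadraticMap.polar_smul_right,
    polar_self]
  simp only [smul_eq_mul]
  field_simp
  ring

/-- Matrices are equal if they act in the same way. -/
theorem matrix_ext_mulVec {M N : Matrix ι ι F} (h : ∀ x, M *ᵥ x = N *ᵥ x) : M = N := by
  apply Matrix.toLin'.injective
  apply LinearMap.ext
  intro x
  simp only [Matrix.toLin'_apply]
  exact h x

/-- A reflection is an involution. -/
theorem reflectionMatrix_mul_self (Q : QuadraticForm F (ι → F)) {v : ι → F} (hv : Q v ≠ 0) :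
    Cfsg.reflectionMatrix (⇑Q) v * Cfsg.reflectionMatrix (⇑Q) v = 1 := by
  apply matrix_ext_mulVec
  intro x
  rw [← Matrix.mulVec_mulVec, Matrix.one_mulVec]
  rw [reflectionMatrix_mulVec Q v (Cfsg.reflectionMatrix (⇑Q) v *ᵥ x), polar_reflection_right Q hv,
    reflectionMatrix_mulVec]
  funext i
  simp only [Pi.sub_apply, Pi.smul_apply, smul_eq_mul]
  ring

/-- The reflection as an element of `GL`. -/
def reflGL (Q : QuadraticForm F (ι → F)) (v : ι → F) (hv : Q v ≠ 0) : Matrix.GeneralLinearGroup ι F :=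
  ⟨Cfsg.reflectionMatrix (⇑Q) v, Cfsg.reflectionMatrix (⇑Q) v, reflectionMatrix_mul_self Q hv,
    reflectionMatrix_mul_self Q hv⟩

theorem reflGL_mem (Q : QuadraticForm F (ι → F)) (v : ι → F) (hv : Q v ≠ 0) :
    reflGL Q v hv ∈ Cfsg.isometryGroup F (⇑Q) := by
  rw [mem_isometryGroup_iff]
  intro u
  exact map_reflection Q hv u

/-- The reflection as an element of the isometry group. -/
def refl (Q : QuadraticForm F (ι → F)) (v : ι → F) (hv : Q v ≠ 0) : ↥(Cfsg.isometryGroup F (⇑Q)) :=
  ⟨reflGL Q v hv, reflGL_mem Q v hv⟩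

theorem refl_coe (Q : QuadraticForm F (ι → F)) (v : ι → F) (hv : Q v ≠ 0) :
    ((refl Q v hv : Matrix.GeneralLinearGroup ι F) : Matrix ι ι F) = Cfsg.reflectionMatrix (⇑Q) v := rfl

theorem refl_mul_self (Q : QuadraticForm F (ι → F)) (v : ι → F) (hv : Q v ≠ 0) :
    refl Q v hv * refl Q v hv = 1 := by
  apply Subtype.ext
  apply Units.ext
  exact reflectionMatrix_mul_self Q hv

/-- Scaling the vector does not change the reflection. -/
theorem reflectionMatrix_smul (Q : QuadraticForm F (ι → F)) (v : ι → F) {c : F} (hc : c ≠ 0) :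
    Cfsg.reflectionMatrix (⇑Q) (c • v) = Cfsg.reflectionMatrix (⇑Q) v := by
  apply matrix_ext_mulVec
  intro x
  rw [reflectionMatrix_mulVec, reflectionMatrix_mulVec, QuadraticMap.map_smul,
    QuadraticMap.polar_smul_left]
  by_cases hv : Q v = 0
  · simp [hv]
  funext i
  simp only [Pi.sub_apply, Pi.smul_apply, smul_eq_mul]
  field_simp

theorem reflectionMatrix_neg (Q : QuadraticForm F (ι → F)) (v : ι → F) :
    Cfsg.reflectionMatrix (⇑Q) (-v) = Cfsg.reflectionMatrix (⇑Q) v := by
  have := reflectionMatrix_smul Q v (c := (-1 : F)) (by simp)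
  simpa using this

/-- Isometries preserve the polar form. -/
theorem polar_isometry (Q : QuadraticForm F (ι → F)) (h : ↥(Cfsg.isometryGroup F (⇑Q))) (x y : ι → F) :
    QuadraticMap.polar (⇑Q) ((h : Matrix.GeneralLinearGroup ι F).1 *ᵥ x)
      ((h : Matrix.GeneralLinearGroup ι F).1 *ᵥ y) = QuadraticMap.polar (⇑Q) x y := by
  have hh := (mem_isometryGroup_iff (⇑Q) h.1).mp h.2
  simp only [QuadraticMap.polar]
  rw [← Matrix.mulVec_add, hh, hh, hh]

/-- Conjugating a reflection by an isometry. -/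
theorem conj_reflectionMatrix (Q : QuadraticForm F (ι → F)) (h : ↥(Cfsg.isometryGroup F (⇑Q)))
    (v : ι → F) :
    (h : Matrix.GeneralLinearGroup ι F).1 * Cfsg.reflectionMatrix (⇑Q) v
      * ((h⁻¹ : ↥(Cfsg.isometryGroup F (⇑Q))) : Matrix.GeneralLinearGroup ι F).1
      = Cfsg.reflectionMatrix (⇑Q) ((h : Matrix.GeneralLinearGroup ι F).1 *ᵥ v) := by
  have hh := (mem_isometryGroup_iff (⇑Q) h.1).mp h.2
  apply matrix_ext_mulVec
  intro x
  rw [← Matrix.mulVec_mulVec, ← Matrix.mulVec_mulVec, reflectionMatrix_mulVec,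
    reflectionMatrix_mulVec, hh]
  set y := ((h⁻¹ : ↥(Cfsg.isometryGroup F (⇑Q))) : Matrix.GeneralLinearGroup ι F).1 *ᵥ x with hy
  have hxy : x = (h : Matrix.GeneralLinearGroup ι F).1 *ᵥ y := by
    rw [hy, Matrix.mulVec_mulVec]
    have : (h : Matrix.GeneralLinearGroup ι F).1
        * ((h⁻¹ : ↥(Cfsg.isometryGroup F (⇑Q))) : Matrix.GeneralLinearGroup ι F).1 = 1 := by
      have h1 : h * h⁻¹ = 1 := mul_inv_cancel h
      have h2 := congrArg (fun z : ↥(Cfsg.isometryGroup F (⇑Q)) =>
        ((z : Matrix.GeneralLinearGroup ι F) : Matrix ι ι F)) h1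
      exact h2
    rw [this, Matrix.one_mulVec]
  rw [hxy, polar_isometry, Matrix.mulVec_sub, Matrix.mulVec_smul]

/-- Determinant of a reflection. -/
theorem det_reflectionMatrix (Q : QuadraticForm F (ι → F)) {v : ι → F} (hv : Q v ≠ 0) :
    (Cfsg.reflectionMatrix (⇑Q) v).det = -1 := by
  have h1 : Cfsg.reflectionMatrix (⇑Q) v
      = 1 + Matrix.replicateCol Unit v * Matrix.replicateRow Unit (-(Q v)⁻¹ • Cfsg.polarVec (⇑Q) v) := by
    rw [Cfsg.reflectionMatrix, ← Matrix.vecMulVec_eq]
    ext i j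
    simp [Matrix.vecMulVec_apply, sub_eq_add_neg]
  rw [h1, Matrix.det_one_add_replicateCol_mul_replicateRow, smul_dotProduct, polarVec_dotProduct,
    polar_self]
  simp only [smul_eq_mul]
  field_simp
  ring

/-- If `Q v = Q w` and `v - w` is non-singular, the reflection in `v - w` maps `v` to `w`. -/
theorem reflection_sub_apply (Q : QuadraticForm F (ι → F)) {v w : ι → F} (hvw : Q v = Q w)
    (hd : Q (v - w) ≠ 0) : Cfsg.reflectionMatrix (⇑Q) (v - w) *ᵥ v = w := by
  rw [reflectionMatrix_mulVec]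
  have h1 : QuadraticMap.polar (⇑Q) (v - w) v = Q (v - w) := by
    have e1 : Q (v - w) = Q v + Q w - QuadraticMap.polar (⇑Q) w v := by
      have := map_sub_smul Q w v 1
      simpa using this
    rw [QuadraticMap.polar_sub_left, polar_self, e1, hvw]
    ring
  rw [h1, inv_mul_cancel₀ hd, one_smul]
  abel

/-- If `Q v = Q w` and `v + w` is non-singular, the reflection in `v + w` maps `v` to `-w`. -/
theorem reflection_add_apply (Q : QuadraticForm F (ι → F)) {v w : ι → F} (hvw : Q v = Q w)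
    (hd : Q (v + w) ≠ 0) : Cfsg.reflectionMatrix (⇑Q) (v + w) *ᵥ v = -w := by
  have h1 : Q v = Q (-w) := by rw [QuadraticMap.map_neg, hvw]
  have h2 : Q (v - -w) ≠ 0 := by rwa [sub_neg_eq_add]
  have := reflection_sub_apply Q h1 h2
  rwa [sub_neg_eq_add] at this

omit [Fintype ι] [DecidableEq ι] in
theorem map_sub_add_map_add (Q : QuadraticForm F (ι → F)) (v w : ι → F) :
    Q (v - w) + Q (v + w) = 2 * Q v + 2 * Q w := by
  have e1 : Q (v - w) = Q v + Q w - QuadraticMap.polar (⇑Q) w v := by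
    have := map_sub_smul Q w v 1
    simpa using this
  have e2 : Q (v + w) = Q v + Q w + QuadraticMap.polar (⇑Q) v w := QuadraticMap.map_add (⇑Q) v w
  rw [e1, e2, QuadraticMap.polar_comm (⇑Q) w v]
  ring

/-- Reflections in vectors of the same non-zero norm are conjugate in the isometry group (odd characteristic). -/
theorem exists_conj_refl (Q : QuadraticForm F (ι → F)) (h2 : (2 : F) ≠ 0) {v w : ι → F}
    (hv : Q v ≠ 0) (hw : Q w ≠ 0) (hvw : Q v = Q w) :
    ∃ h : ↥(Cfsg.isometryGroup F (⇑Q)), h * refl Q v hv * h⁻¹ = refl Q w hw := by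
  have hsum := map_sub_add_map_add Q v w
  have hne : Q (v - w) ≠ 0 ∨ Q (v + w) ≠ 0 := by
    by_contra hcon
    rw [not_or, not_not, not_not] at hcon
    rw [hcon.1, hcon.2, ← hvw] at hsum
    have : (2 * 2) * Q v = 0 := by linear_combination -hsum
    rcases mul_eq_zero.mp this with h | h
    · exact (mul_ne_zero h2 h2) h
    · exact hv h
  rcases hne with hd | hd
  · refine ⟨refl Q (v - w) hd, ?_⟩
    apply Subtype.ext
    apply Units.ext
    have := conj_reflectionMatrix Q (refl Q (v - w) hd) v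
    rw [refl_coe, reflection_sub_apply Q hvw hd] at this
    exact this
  · refine ⟨refl Q (v + w) hd, ?_⟩
    apply Subtype.ext
    apply Units.ext
    have := conj_reflectionMatrix Q (refl Q (v + w) hd) v
    rw [refl_coe, reflection_add_apply Q hvw hd, reflectionMatrix_neg] at this
    exact this

/-- Reflections in vectors whose norms differ by a non-zero square are conjugate. -/
theorem exists_conj_refl_of_sq (Q : QuadraticForm F (ι → F)) (h2 : (2 : F) ≠ 0) {v w : ι → F}
    (hv : Q v ≠ 0) (hw : Q w ≠ 0) {s : F} (hs : Q w = s * s * Q v) :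
    ∃ h : ↥(Cfsg.isometryGroup F (⇑Q)), h * refl Q v hv * h⁻¹ = refl Q w hw := by
  have hs0 : s ≠ 0 := by
    rintro rfl
    apply hw; rw [hs]; ring
  have hsv : Q (s • v) ≠ 0 := by
    rw [QuadraticMap.map_smul, smul_eq_mul, ← hs]; exact hw
  have heq : refl Q (s • v) hsv = refl Q v hv := by
    apply Subtype.ext
    apply Units.ext
    exact reflectionMatrix_smul Q v hs0
  have hnorm : Q (s • v) = Q w := by
    rw [QuadraticMap.map_smul, smul_eq_mul, ← hs]
  obtain ⟨h, hh⟩ := exists_conj_refl Q h2 hsv hw hnorm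
  exact ⟨h, by rw [← heq]; exact hh⟩

end Cfsg.Agent.Lib.Helper44_Refl
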