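import Mathlib
import Cfsg.Prelude.Def_Classical
import Cfsg.Prelude.Def_ClassicalGeometry
import Cfsg.Agent.Lib.Helper44_Orth
import Cfsg.Agent.Lib.Helper44_Refl
import Cfsg.Agent.Lib.Helper44_FinSq

set_option autoImplicit false

/-!
The spinor norm over a finite field of odd order, realised as the sign of the permutation action of the
isometry group on the "unit sphere" `{x | Q x = 1}` (helper44).

Main results: `theta Q : O(Q) →* ℤˣ` with `theta (refl v) = -1` if `Q v` is a square and `1` otherwise.
-/

namespace Cfsg.Agent.Lib.Helper44_Spinor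

open Cfsg Matrix Cfsg.Agent.Lib.Helper44_Orth Cfsg.Agent.Lib.Helper44_Refl
  Cfsg.Agent.Lib.Helper44_FinSq

/-- Cardinality and sign of an involution: `|α| = |Fix σ| + 2k` and `sign σ = (-1)^k`. -/
theorem involution_card {α : Type*} [Fintype α] [DecidableEq α] (σ : Equiv.Perm α) (h : σ ^ 2 = 1) :
    ∃ k : ℕ, Nat.card α = Nat.card (Function.fixedPoints σ) + 2 * k ∧
      Equiv.Perm.sign σ = (-1) ^ k := by
  have : Fact (Nat.Prime 2) := ⟨Nat.prime_two⟩
  have h1 := (Equiv.Perm.pow_prime_eq_one_iff (p := 2)).mp h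
  have h2 : σ.cycleType = Multiset.replicate (Multiset.card σ.cycleType) 2 :=
    Multiset.eq_replicate_card.mpr h1
  refine ⟨Multiset.card σ.cycleType, ?_, ?_⟩
  · have h3 := Equiv.Perm.card_fixedPoints σ
    have h4 := Equiv.Perm.sum_cycleType_le σ
    have h5 : σ.cycleType.sum = 2 * Multiset.card σ.cycleType := by
      conv_lhs => rw [h2]
      simp [mul_comm]
    rw [Nat.card_eq_fintype_card, Nat.card_eq_fintype_card, h3]
    omega
  · rw [Equiv.Perm.sign_of_cycleType]
    have h5 : σ.cycleType.sum = 2 * Multiset.card σ.cycleType := by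
      conv_lhs => rw [h2]
      simp [mul_comm]
    rw [h5, pow_add, pow_mul]
    simp

variable {ι : Type} [Fintype ι] [DecidableEq ι] {F : Type*} [Field F]

/-- The unit sphere of a quadratic form. -/
def Sphere (Q : QuadraticForm F (ι → F)) : Type _ := {x : ι → F // Q x = 1}

noncomputable instance sphereFintype [Fintype F] (Q : QuadraticForm F (ι → F)) : Fintype (Sphere Q) := by
  classical
  exact Subtype.fintype _

noncomputable instance sphereDecEq (Q : QuadraticForm F (ι → F)) : DecidableEq (Sphere Q) :=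
  Classical.decEq _

/-- Action of an isometry on the unit sphere. -/
def sphereMap (Q : QuadraticForm F (ι → F)) (g : ↥(Cfsg.isometryGroup F (⇑Q))) :
    Function.End (Sphere Q) :=
  fun x => ⟨(g : Matrix.GeneralLinearGroup ι F).1 *ᵥ x.1, by
    rw [(mem_isometryGroup_iff (⇑Q) g.1).mp g.2]; exact x.2⟩

/-- The permutation representation of the isometry group on the unit sphere. -/
def permHom (Q : QuadraticForm F (ι → F)) : ↥(Cfsg.isometryGroup F (⇑Q)) →* Equiv.Perm (Sphere Q) :=
  MonoidHom.toHomPerm
    { toFun := sphereMap Q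
      map_one' := by
        funext x
        apply Subtype.ext
        show (1 : Matrix ι ι F) *ᵥ x.1 = x.1
        rw [Matrix.one_mulVec]
      map_mul' := by
        intro g h
        funext x
        apply Subtype.ext
        show ((g : Matrix.GeneralLinearGroup ι F).1 * (h : Matrix.GeneralLinearGroup ι F).1) *ᵥ x.1
          = (g : Matrix.GeneralLinearGroup ι F).1 *ᵥ ((h : Matrix.GeneralLinearGroup ι F).1 *ᵥ x.1)
        rw [Matrix.mulVec_mulVec] }

theorem permHom_apply (Q : QuadraticForm F (ι → F)) (g : ↥(Cfsg.isometryGroup F (⇑Q))) (x : Sphere Q) :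
    ((permHom Q g) x).1 = (g : Matrix.GeneralLinearGroup ι F).1 *ᵥ x.1 := rfl

/-- The spinor character: sign of the action on the unit sphere. -/
noncomputable def theta [Fintype F] (Q : QuadraticForm F (ι → F)) : ↥(Cfsg.isometryGroup F (⇑Q)) →* ℤˣ :=
  Equiv.Perm.sign.comp (permHom Q)

/-- `-1` as an isometry. -/
def negOne (Q : QuadraticForm F (ι → F)) : ↥(Cfsg.isometryGroup F (⇑Q)) :=
  ⟨-1, by
    rw [mem_isometryGroup_iff]
    intro u
    have : ((-1 : Matrix.GeneralLinearGroup ι F) : Matrix ι ι F) = -1 := rfl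
    rw [this, Matrix.neg_mulVec, Matrix.one_mulVec, QuadraticMap.map_neg]⟩

theorem negOne_coe (Q : QuadraticForm F (ι → F)) :
    ((negOne Q : Matrix.GeneralLinearGroup ι F) : Matrix ι ι F) = -1 := rfl

theorem negOne_mul_self (Q : QuadraticForm F (ι → F)) : negOne Q * negOne Q = 1 := by
  apply Subtype.ext
  apply Units.ext
  show (-1 : Matrix ι ι F) * (-1) = 1
  simp

section compute

variable [Fintype F] (Q : QuadraticForm F (ι → F)) (h2 : (2 : F) ≠ 0)

omit [Fintype ι] [DecidableEq ι] [Fintype F] in
include h2 in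
theorem eq_zero_of_neg_eq (x : ι → F) (h : -x = x) : x = 0 := by
  funext i
  have h1 : -x i = x i := congrFun h i
  have h3 : (2 : F) * x i = 0 := by linear_combination -h1
  rcases mul_eq_zero.mp h3 with h4 | h4
  · exact absurd h4 h2
  · exact h4

omit [Fintype F] in
include h2 in
/-- `-1` acts on the unit sphere without fixed points. -/
theorem fixedPoints_negOne_isEmpty : IsEmpty (Function.fixedPoints (permHom Q (negOne Q))) := by
  constructor
  rintro ⟨x, hx⟩
  have h1 : ((permHom Q (negOne Q)) x).1 = x.1 := congrArg Subtype.val hx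
  rw [permHom_apply, negOne_coe, Matrix.neg_mulVec, Matrix.one_mulVec] at h1
  have h3 := eq_zero_of_neg_eq h2 x.1 h1
  have h4 : Q x.1 = 1 := x.2
  rw [h3, QuadraticMap.map_zero] at h4
  exact zero_ne_one h4

/-- The isometry `-r_v`. -/
def negRefl (v : ι → F) (hv : Q v ≠ 0) : ↥(Cfsg.isometryGroup F (⇑Q)) := negOne Q * refl Q v hv

omit [Fintype F] in
theorem negRefl_coe (v : ι → F) (hv : Q v ≠ 0) :
    ((negRefl Q v hv : Matrix.GeneralLinearGroup ι F) : Matrix ι ι F)
      = -Cfsg.reflectionMatrix (⇑Q) v := by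
  show (-1 : Matrix ι ι F) * Cfsg.reflectionMatrix (⇑Q) v = _
  simp

omit [Fintype F] in
theorem negRefl_mul_self (v : ι → F) (hv : Q v ≠ 0) : negRefl Q v hv * negRefl Q v hv = 1 := by
  apply Subtype.ext
  apply Units.ext
  show ((negRefl Q v hv : Matrix.GeneralLinearGroup ι F) : Matrix ι ι F)
    * ((negRefl Q v hv : Matrix.GeneralLinearGroup ι F) : Matrix ι ι F) = 1
  rw [negRefl_coe, neg_mul_neg, reflectionMatrix_mul_self Q hv]

omit [Fintype F] in
theorem refl_eq_negOne_mul_negRefl (v : ι → F) (hv : Q v ≠ 0) :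
    refl Q v hv = negOne Q * negRefl Q v hv := by
  rw [negRefl, ← mul_assoc, negOne_mul_self, one_mul]

omit [Fintype F] in
theorem reflection_self (v : ι → F) (hv : Q v ≠ 0) : Cfsg.reflectionMatrix (⇑Q) v *ᵥ v = -v := by
  rw [reflectionMatrix_mulVec, Helper44_Refl.polar_self]
  have : (Q v)⁻¹ * (2 * Q v) = 2 := by field_simp
  rw [this, two_smul]
  abel

omit [Fintype F] in
include h2 in
/-- The fixed points of `-r_v` on the unit sphere are the multiples `s v` with `s² Q(v) = 1`. -/
theorem card_fixedPoints_negRefl (v : ι → F) (hv : Q v ≠ 0) :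
    Nat.card (Function.fixedPoints (permHom Q (negRefl Q v hv)))
      = Nat.card {s : F // s * s * Q v = 1} := by
  have hv0 : v ≠ 0 := by
    rintro rfl; exact hv (QuadraticMap.map_zero Q)
  symm
  apply Nat.card_eq_of_bijective
    (fun s : {s : F // s * s * Q v = 1} =>
      (⟨(⟨s.1 • v, by rw [QuadraticMap.map_smul, smul_eq_mul]; exact s.2⟩ : Sphere Q), by
        apply Subtype.ext
        show ((negRefl Q v hv : Matrix.GeneralLinearGroup ι F) : Matrix ι ι F) *ᵥ (s.1 • v) = s.1 • v
        rw [negRefl_coe, Matrix.neg_mulVec, Matrix.mulVec_smul, reflection_self Q v hv]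
        simp⟩ : Function.fixedPoints (permHom Q (negRefl Q v hv))))
  constructor
  · intro s t hst
    have h1 : s.1 • v = t.1 • v := congrArg (fun z => z.1.1) hst
    apply Subtype.ext
    have h3 : (s.1 - t.1) • v = 0 := by rw [sub_smul, h1, sub_self]
    rcases smul_eq_zero.mp h3 with h4 | h4
    · exact sub_eq_zero.mp h4
    · exact absurd h4 hv0
  · rintro ⟨x, hx⟩
    have h1 : ((permHom Q (negRefl Q v hv)) x).1 = x.1 := congrArg Subtype.val hx
    rw [permHom_apply, negRefl_coe, Matrix.neg_mulVec, reflectionMatrix_mulVec] at h1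
    set t := (Q v)⁻¹ * QuadraticMap.polar (⇑Q) v x.1 with ht
    have h3 : x.1 = (t / 2) • v := by
      funext i
      have h4 := congrFun h1 i
      simp only [Pi.neg_apply, Pi.sub_apply, Pi.smul_apply, smul_eq_mul] at h4 ⊢
      field_simp
      linear_combination -h4
    have hs : (t / 2) * (t / 2) * Q v = 1 := by
      have h4 : Q x.1 = 1 := x.2
      rw [h3, QuadraticMap.map_smul, smul_eq_mul] at h4
      exact h4
    refine ⟨⟨t / 2, hs⟩, ?_⟩
    apply Subtype.ext
    apply Subtype.ext
    exact h3.symm

omit [Fintype F] in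
include h2 in
/-- The number of `s` with `s² a = 1` is `2` if `a` is a non-zero square and `0` if `a` is not a square. -/
theorem card_sq_mul_eq_one_of_sq (a : F) (ha : a ≠ 0) (hsq : IsSquare a) :
    Nat.card {s : F // s * s * a = 1} = 2 := by
  classical
  · obtain ⟨d, rfl⟩ := hsq
    have hd : d ≠ 0 := by
      rintro rfl; simp at ha
    have hne : d⁻¹ ≠ -d⁻¹ := by
      intro h
      have h3 : (2 : F) * d⁻¹ = 0 := by linear_combination h
      rcases mul_eq_zero.mp h3 with h4 | h4
      · exact h2 h4
      · exact (inv_ne_zero hd) h4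
    have hset : {s : F | s * s * (d * d) = 1} = ({d⁻¹, -d⁻¹} : Finset F) := by
      ext s
      simp only [Set.mem_ofPred_eq, Finset.coe_insert, Finset.coe_singleton, Set.mem_insert_iff,
        Set.mem_singleton_iff]
      constructor
      · intro h
        have h3 : (s * d - 1) * (s * d + 1) = 0 := by linear_combination h
        rcases mul_eq_zero.mp h3 with h4 | h4
        · left
          field_simp
          linear_combination h4
        · right
          field_simp
          linear_combination h4
      · rintro (rfl | rfl) <;> field_simp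
    have : Nat.card {s : F // s * s * (d * d) = 1} = Nat.card ({s : F | s * s * (d * d) = 1}) := rfl
    rw [this, hset, Nat.card_coe_set_eq, Set.ncard_coe_finset, Finset.card_pair hne]

omit [Fintype F] in
theorem card_sq_mul_eq_one_of_nonsq (a : F) (hsq : ¬ IsSquare a) :
    Nat.card {s : F // s * s * a = 1} = 0 := by
  · have : IsEmpty {s : F // s * s * a = 1} := by
      constructor
      rintro ⟨s, hs⟩
      apply hsq
      have hs0 : s ≠ 0 := by
        rintro rfl; simp at hs
      refine ⟨s⁻¹, ?_⟩
      calc a = (s⁻¹ * s⁻¹) * (s * s * a) := by field_simp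
        _ = s⁻¹ * s⁻¹ := by rw [hs, mul_one]
    exact Nat.card_of_isEmpty

include h2 in
/-- **Key computation**: the spinor character of a reflection. -/
theorem theta_refl (v : ι → F) (hv : Q v ≠ 0) :
    (IsSquare (Q v) → theta Q (refl Q v hv) = -1) ∧ (¬ IsSquare (Q v) → theta Q (refl Q v hv) = 1) := by
  rw [refl_eq_negOne_mul_negRefl, map_mul]
  have hA : (permHom Q (negOne Q)) ^ 2 = 1 := by
    rw [← map_pow, pow_two, negOne_mul_self, map_one]
  have hB : (permHom Q (negRefl Q v hv)) ^ 2 = 1 := by
    rw [← map_pow, pow_two, negRefl_mul_self, map_one]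
  obtain ⟨a, ha1, ha2⟩ := involution_card _ hA
  obtain ⟨b, hb1, hb2⟩ := involution_card _ hB
  have : IsEmpty (Function.fixedPoints (permHom Q (negOne Q))) := fixedPoints_negOne_isEmpty Q h2
  have h0 : Nat.card (Function.fixedPoints (permHom Q (negOne Q))) = 0 := Nat.card_of_isEmpty
  rw [h0, zero_add] at ha1
  rw [card_fixedPoints_negRefl Q h2 v hv] at hb1
  have e1 : theta Q (negOne Q) = (-1) ^ a := ha2
  have e2 : theta Q (negRefl Q v hv) = (-1) ^ b := hb2
  rw [e1, e2]
  constructor
  · intro hsq
    rw [card_sq_mul_eq_one_of_sq h2 (Q v) hv hsq] at hb1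
    have : a = b + 1 := by omega
    rw [this, ← pow_add]
    have : b + 1 + b = 2 * b + 1 := by ring
    rw [this, pow_add, pow_mul]
    simp
  · intro hsq
    rw [card_sq_mul_eq_one_of_nonsq (Q v) hsq] at hb1
    have : a = b := by omega
    rw [this, ← pow_add, ← two_mul, pow_mul]
    simp

end compute

section criterion

open Classical

variable [Fintype F] (Q : QuadraticForm F (ι → F)) (h2 : (2 : F) ≠ 0)

/-- Total version of `refl`: the identity on singular vectors. -/
noncomputable def reflT (v : ι → F) : ↥(Cfsg.isometryGroup F (⇑Q)) :=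
  if h : Q v ≠ 0 then refl Q v h else 1

omit [Fintype F] in
theorem reflT_of_ne (v : ι → F) (hv : Q v ≠ 0) : reflT Q v = refl Q v hv := by
  simp [reflT, hv]

omit [Fintype F] in
theorem reflT_coe (v : ι → F) (hv : Q v ≠ 0) :
    ((reflT Q v : Matrix.GeneralLinearGroup ι F) : Matrix ι ι F) = Cfsg.reflectionMatrix (⇑Q) v := by
  rw [reflT_of_ne Q v hv, refl_coe]

omit [Fintype F] in
theorem prod_reflT_coe (vs : List (ι → F)) (hvs : ∀ v ∈ vs, Q v ≠ 0) :
    ((((vs.map (reflT Q)).prod : ↥(Cfsg.isometryGroup F (⇑Q))) : Matrix.GeneralLinearGroup ι F) :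
      Matrix ι ι F) = (vs.map (fun v => Cfsg.reflectionMatrix (⇑Q) v)).prod := by
  induction vs with
  | nil => rfl
  | cons v vs ih =>
    rw [List.map_cons, List.prod_cons, List.map_cons, List.prod_cons]
    have h1 : (((reflT Q v * (vs.map (reflT Q)).prod : ↥(Cfsg.isometryGroup F (⇑Q))) :
        Matrix.GeneralLinearGroup ι F) : Matrix ι ι F)
        = ((reflT Q v : Matrix.GeneralLinearGroup ι F) : Matrix ι ι F)
          * ((((vs.map (reflT Q)).prod : ↥(Cfsg.isometryGroup F (⇑Q))) :
              Matrix.GeneralLinearGroup ι F) : Matrix ι ι F) := rfl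
    rw [h1, reflT_coe Q v (hvs v (List.mem_cons_self)), ih (fun u hu => hvs u (List.mem_cons_of_mem _ hu))]

include h2 in
theorem theta_prod (vs : List (ι → F)) (hvs : ∀ v ∈ vs, Q v ≠ 0) :
    theta Q (vs.map (reflT Q)).prod = (-1) ^ (vs.countP (fun v => IsSquare (Q v))) := by
  induction vs with
  | nil => simp
  | cons v vs ih =>
    rw [List.map_cons, List.prod_cons, map_mul, ih (fun u hu => hvs u (List.mem_cons_of_mem _ hu)),
      reflT_of_ne Q v (hvs v (List.mem_cons_self)), List.countP_cons]
    have := theta_refl Q h2 v (hvs v (List.mem_cons_self))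
    by_cases hsq : IsSquare (Q v)
    · rw [this.1 hsq]
      simp [hsq, pow_succ]
    · rw [this.2 hsq]
      simp [hsq]

omit [Fintype F] in
theorem det_prod (vs : List (ι → F)) (hvs : ∀ v ∈ vs, Q v ≠ 0) :
    ((vs.map (fun v => Cfsg.reflectionMatrix (⇑Q) v)).prod).det = (-1) ^ vs.length := by
  induction vs with
  | nil => simp
  | cons v vs ih =>
    rw [List.map_cons, List.prod_cons, Matrix.det_mul, ih (fun u hu => hvs u (List.mem_cons_of_mem _ hu)),
      det_reflectionMatrix Q (hvs v (List.mem_cons_self)), List.length_cons, pow_succ]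
    ring

omit [Fintype ι] [DecidableEq ι] [Fintype F] in
theorem prod_ne_zero (vs : List (ι → F)) (hvs : ∀ v ∈ vs, Q v ≠ 0) :
    (vs.map (fun v => Q v)).prod ≠ 0 := by
  induction vs with
  | nil => simp
  | cons v vs ih =>
    rw [List.map_cons, List.prod_cons]
    exact mul_ne_zero (hvs v (List.mem_cons_self)) (ih (fun u hu => hvs u (List.mem_cons_of_mem _ hu)))

omit [Fintype ι] [DecidableEq ι] in
theorem isSquare_prod_iff (vs : List (ι → F)) (hvs : ∀ v ∈ vs, Q v ≠ 0) :
    IsSquare (vs.map (fun v => Q v)).prod ↔ Even (vs.countP (fun v => ¬ IsSquare (Q v))) := by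
  induction vs with
  | nil => simp
  | cons v vs ih =>
    have hvs' : ∀ u ∈ vs, Q u ≠ 0 := fun u hu => hvs u (List.mem_cons_of_mem _ hu)
    have hv : Q v ≠ 0 := hvs v (List.mem_cons_self)
    rw [List.map_cons, List.prod_cons, List.countP_cons, mul_comm]
    by_cases hsq : IsSquare (Q v)
    · rw [isSquare_mul_sq_iff hv hsq, ih hvs']
      simp [hsq]
    · rw [isSquare_mul_nonsq_iff (prod_ne_zero Q vs hvs') hsq, ih hvs']
      simp [hsq, Nat.even_add_one]

end criterion

section main

open Classical

variable [Fintype F] (Q : QuadraticForm F (ι → F)) (h2 : (2 : F) ≠ 0)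

/-- Image of a reflection in the abelianization of the isometry group. -/
noncomputable def rhoAb (v : ι → F) : Abelianization ↥(Cfsg.isometryGroup F (⇑Q)) :=
  Abelianization.of (reflT Q v)

omit [Fintype F] in
theorem rhoAb_mul_self (v : ι → F) : rhoAb Q v * rhoAb Q v = 1 := by
  rw [rhoAb, ← map_mul]
  by_cases hv : Q v ≠ 0
  · rw [reflT_of_ne Q v hv, refl_mul_self, map_one]
  · simp [reflT, hv]

omit [Fintype F] in
include h2 in
theorem rhoAb_eq_of_sq {v w : ι → F} (hv : Q v ≠ 0) (hw : Q w ≠ 0) {s : F} (hs : Q w = s * s * Q v) :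
    rhoAb Q v = rhoAb Q w := by
  obtain ⟨h, hh⟩ := exists_conj_refl_of_sq Q h2 hv hw hs
  rw [rhoAb, rhoAb, reflT_of_ne Q v hv, reflT_of_ne Q w hw, ← hh, map_mul, map_mul, map_inv]
  rw [mul_comm (Abelianization.of h), mul_assoc, mul_inv_cancel, mul_one]

omit [Fintype F] in
theorem prod_rhoAb_eq_one_of_all_eq (l : List (ι → F))
    (hall : ∀ u ∈ l, ∀ u' ∈ l, rhoAb Q u = rhoAb Q u') (heven : Even l.length) :
    (l.map (rhoAb Q)).prod = 1 := by
  rcases l with _ | ⟨u, l⟩
  · simp
  · have h1 : (u :: l).map (rhoAb Q) = List.replicate (u :: l).length (rhoAb Q u) := by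
      rw [List.eq_replicate_iff]
      refine ⟨by simp, ?_⟩
      intro b hb
      rw [List.mem_map] at hb
      obtain ⟨u', hu', rfl⟩ := hb
      exact hall u' hu' u (List.mem_cons_self)
    rw [h1, List.prod_replicate]
    obtain ⟨j, hj⟩ := heven
    rw [hj, ← two_mul, pow_mul, pow_two, rhoAb_mul_self, one_pow]

include h2 in
/-- **Spinor norm criterion** (general index type): a product of reflections lies in `Ω = [O, O]` iff
the number of factors is even and the product of the norms is a square. -/
theorem mem_omega_iff (g : ↥(Cfsg.isometryGroup F (⇑Q))) (vs : List (ι → F))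
    (hvs : ∀ v ∈ vs, Q v ≠ 0)
    (hg : ((g : Matrix.GeneralLinearGroup ι F) : Matrix ι ι F)
      = (vs.map (fun v => Cfsg.reflectionMatrix (⇑Q) v)).prod) :
    g ∈ Cfsg.Omega F (⇑Q) ↔ (Even vs.length ∧ IsSquare (vs.map (fun v => Q v)).prod) := by
  have hgprod : g = (vs.map (reflT Q)).prod := by
    apply Subtype.ext
    apply Units.ext
    rw [hg, prod_reflT_coe Q vs hvs]
  have hlen := List.length_eq_countP_add_countP (fun v => decide (IsSquare (Q v))) (l := vs)
  have hcnt : vs.countP (fun a => decide ¬(fun v => decide (IsSquare (Q v))) a = true)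
      = vs.countP (fun v => ¬ IsSquare (Q v)) := by
    congr 1
    funext a
    simp
  rw [hcnt] at hlen
  constructor
  · intro hmem
    have hmem' : g ∈ commutator ↥(Cfsg.isometryGroup F (⇑Q)) := hmem
    -- theta
    have hth : theta Q g = 1 := by
      have := Abelianization.commutator_subset_ker (theta Q) hmem'
      exact MonoidHom.mem_ker.mp this
    rw [hgprod, theta_prod Q h2 vs hvs] at hth
    have hsqeven : Even (vs.countP (fun v => IsSquare (Q v))) := by
      rcases Nat.even_or_odd (vs.countP (fun v => IsSquare (Q v))) with h | h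
      · exact h
      · rw [h.neg_one_pow] at hth
        exact absurd hth (by decide)
    -- det
    let detHom : ↥(Cfsg.isometryGroup F (⇑Q)) →* Fˣ :=
      Matrix.GeneralLinearGroup.det.comp (Cfsg.isometryGroup F (⇑Q)).subtype
    have hdet : detHom g = 1 := by
      have := Abelianization.commutator_subset_ker detHom hmem'
      exact MonoidHom.mem_ker.mp this
    have hdet' : ((g : Matrix.GeneralLinearGroup ι F) : Matrix ι ι F).det = 1 := by
      have := congrArg (fun u : Fˣ => (u : F)) hdet
      simpa [detHom] using this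
    rw [hg, det_prod Q vs hvs] at hdet'
    have hkeven : Even vs.length := by
      rcases Nat.even_or_odd vs.length with h | h
      · exact h
      · rw [h.neg_one_pow] at hdet'
        exfalso
        apply h2
        linear_combination -hdet'
    refine ⟨hkeven, ?_⟩
    rw [isSquare_prod_iff Q vs hvs]
    rw [hlen, Nat.even_add] at hkeven
    exact hkeven.mp hsqeven
  · rintro ⟨hkeven, hsq⟩
    rw [isSquare_prod_iff Q vs hvs] at hsq
    have hsqeven : Even (vs.countP (fun v => IsSquare (Q v))) := by
      rw [hlen, Nat.even_add] at hkeven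
      exact hkeven.mpr hsq
    show g ∈ commutator ↥(Cfsg.isometryGroup F (⇑Q))
    rw [← Abelianization.ker_of, MonoidHom.mem_ker, hgprod, map_list_prod, List.map_map]
    have hfun : (Abelianization.of ∘ reflT Q) = rhoAb Q := rfl
    rw [hfun, ← List.prod_map_filter_mul_prod_map_filter_not (fun v => IsSquare (Q v))]
    have e1 : ((vs.filter (fun v => IsSquare (Q v))).map (rhoAb Q)).prod = 1 := by
      apply prod_rhoAb_eq_one_of_all_eq
      · intro u hu u' hu'
        rw [List.mem_filter] at hu hu'
        have hu0 := hvs u hu.1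
        have hu'0 := hvs u' hu'.1
        obtain ⟨a, ha⟩ := of_decide_eq_true hu.2
        obtain ⟨b, hb⟩ := of_decide_eq_true hu'.2
        have ha0 : a ≠ 0 := by
          rintro rfl; apply hu0; rw [ha]; ring
        apply rhoAb_eq_of_sq Q h2 hu0 hu'0 (s := b / a)
        rw [ha, hb]
        field_simp
      · rw [← List.countP_eq_length_filter]
        exact hsqeven
    have e2 : ((vs.filter (fun v => ¬ IsSquare (Q v))).map (rhoAb Q)).prod = 1 := by
      apply prod_rhoAb_eq_one_of_all_eq
      · intro u hu u' hu'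
        rw [List.mem_filter] at hu hu'
        have hu0 := hvs u hu.1
        have hu'0 := hvs u' hu'.1
        have hns : ¬ IsSquare (Q u) := of_decide_eq_true hu.2
        have hns' : ¬ IsSquare (Q u') := of_decide_eq_true hu'.2
        obtain ⟨c, hc⟩ := isSquare_mul_of_nonsq_of_nonsq hns hns'
        apply rhoAb_eq_of_sq Q h2 hu0 hu'0 (s := c / Q u)
        field_simp
        linear_combination hc
      · rw [← List.countP_eq_length_filter]
        exact hsq
    rw [e1, e2, mul_one]

end main

end Cfsg.Agent.Lib.Helper44_Spinor
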