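import Mathlib
import Cfsg.Prelude.Def_Classical
import Cfsg.Prelude.Def_ClassicalGeometry
import Cfsg.Agent.Lib.Helper44_Orth
import Cfsg.Agent.Lib.Helper44_Refl
import Cfsg.Agent.Lib.Helper44_FinSq
import Cfsg.Agent.Lib.Helper44_Spinor

set_option autoImplicit false

/-!
Products of reflections with bookkeeping of the number of factors and the product of norms, and the
resulting membership criterion for `Ω` (helper44).
-/

namespace Cfsg.Agent.Lib.Helper44_ReflProd

open Cfsg Matrix Cfsg.Agent.Lib.Helper44_Orth Cfsg.Agent.Lib.Helper44_Refl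
  Cfsg.Agent.Lib.Helper44_FinSq Cfsg.Agent.Lib.Helper44_Spinor

variable {ι : Type} [Fintype ι] [DecidableEq ι] {F : Type*} [Field F]

/-- `M` is a product of `k` reflections in non-singular vectors whose norms multiply to `d`. -/
def IsReflProd (Q : QuadraticForm F (ι → F)) (M : Matrix ι ι F) (k : ℕ) (d : F) : Prop :=
  ∃ vs : List (ι → F), (∀ v ∈ vs, Q v ≠ 0) ∧
    M = (vs.map (fun v => Cfsg.reflectionMatrix (⇑Q) v)).prod ∧ vs.length = k ∧
    (vs.map (fun v => Q v)).prod = d

theorem IsReflProd.one (Q : QuadraticForm F (ι → F)) : IsReflProd Q 1 0 1 :=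
  ⟨[], by simp, by simp, rfl, by simp⟩

theorem IsReflProd.refl (Q : QuadraticForm F (ι → F)) {v : ι → F} (hv : Q v ≠ 0) :
    IsReflProd Q (Cfsg.reflectionMatrix (⇑Q) v) 1 (Q v) :=
  ⟨[v], by simpa using hv, by simp, rfl, by simp⟩

theorem IsReflProd.mul {Q : QuadraticForm F (ι → F)} {M M' : Matrix ι ι F} {k k' : ℕ} {d d' : F}
    (h : IsReflProd Q M k d) (h' : IsReflProd Q M' k' d') : IsReflProd Q (M * M') (k + k') (d * d') := by
  obtain ⟨vs, h1, h2, h3, h4⟩ := h
  obtain ⟨vs', h1', h2', h3', h4'⟩ := h'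
  refine ⟨vs ++ vs', ?_, ?_, ?_, ?_⟩
  · intro v hv
    rcases List.mem_append.mp hv with hv | hv
    · exact h1 v hv
    · exact h1' v hv
  · rw [List.map_append, List.prod_append, ← h2, ← h2']
  · rw [List.length_append, h3, h3']
  · rw [List.map_append, List.prod_append, h4, h4']

theorem IsReflProd.congr {Q : QuadraticForm F (ι → F)} {M M' : Matrix ι ι F} {k k' : ℕ} {d d' : F}
    (h : IsReflProd Q M k d) (hM : M = M') (hk : k = k') (hd : d = d') : IsReflProd Q M' k' d' := by
  subst hM hk hd; exact h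

/-- **Criterion**: if `M` is a product of `k` reflections with norms multiplying to `d`, then `M` is the matrix
of an element of `Ω` iff `k` is even and `d` is a square. -/
theorem IsReflProd.exists_mem_omega_iff [Fintype F] {Q : QuadraticForm F (ι → F)} (h2 : (2 : F) ≠ 0)
    {M : Matrix ι ι F} {k : ℕ} {d : F} (h : IsReflProd Q M k d) :
    (∃ g : ↥(Cfsg.isometryGroup F (⇑Q)), g ∈ Cfsg.Omega F (⇑Q) ∧
      ((g : Matrix.GeneralLinearGroup ι F) : Matrix ι ι F) = M) ↔ (Even k ∧ IsSquare d) := by
  classical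
  obtain ⟨vs, h1, hM, h3, h4⟩ := h
  constructor
  · rintro ⟨g, hg, hgM⟩
    have := (mem_omega_iff Q h2 g vs h1 (hgM.trans hM)).mp hg
    rwa [h3, h4] at this
  · intro hkd
    refine ⟨(vs.map (reflT Q)).prod, ?_, ?_⟩
    · rw [mem_omega_iff Q h2 _ vs h1 (prod_reflT_coe Q vs h1), h3, h4]
      exact hkd
    · rw [prod_reflT_coe Q vs h1, hM]

section hyperbolic

variable (Q : QuadraticForm F (ι → F))

/-- For a hyperbolic pair `e, f`, the product `r_{e-f} r_{e+f}` negates the plane `⟨e, f⟩` and fixes its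
orthogonal complement. -/
theorem hyperbolic_pair_mulVec {e f : ι → F} (he : Q e = 0) (hf : Q f = 0)
    (hef : QuadraticMap.polar (⇑Q) e f = 1) (x : ι → F) :
    (Cfsg.reflectionMatrix (⇑Q) (e - f) * Cfsg.reflectionMatrix (⇑Q) (e + f)) *ᵥ x
      = x - (2 * QuadraticMap.polar (⇑Q) f x) • e - (2 * QuadraticMap.polar (⇑Q) e x) • f := by
  have hee : QuadraticMap.polar (⇑Q) e e = 0 := by rw [Helper44_Refl.polar_self, he, mul_zero]
  have hff : QuadraticMap.polar (⇑Q) f f = 0 := by rw [Helper44_Refl.polar_self, hf, mul_zero]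
  have hfe : QuadraticMap.polar (⇑Q) f e = 1 := by rw [QuadraticMap.polar_comm, hef]
  have hQp : Q (e + f) = 1 := by
    rw [QuadraticMap.map_add (⇑Q) e f, he, hf, hef]; ring
  have hQm : Q (e - f) = -1 := by
    have := map_sub_smul Q f e 1
    simp only [one_smul, one_mul, mul_one] at this
    rw [this, he, hf, hfe]; ring
  rw [← Matrix.mulVec_mulVec, reflectionMatrix_mulVec Q (e + f) x, hQp]
  rw [reflectionMatrix_mulVec, hQm]
  simp only [QuadraticMap.polar_add_left, QuadraticMap.polar_sub_left, QuadraticMap.polar_sub_right,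
    QuadraticMap.polar_add_right, QuadraticMap.polar_smul_right, hee, hff, hef, hfe, smul_eq_mul]
  funext i
  simp only [Pi.sub_apply, Pi.smul_apply, Pi.add_apply, smul_eq_mul]
  have : ((-1 : F))⁻¹ = -1 := by norm_num
  rw [this]
  ring

theorem hyperbolic_pair_isReflProd {e f : ι → F} (he : Q e = 0) (hf : Q f = 0)
    (hef : QuadraticMap.polar (⇑Q) e f = 1) :
    IsReflProd Q (Cfsg.reflectionMatrix (⇑Q) (e - f) * Cfsg.reflectionMatrix (⇑Q) (e + f)) 2 (-1) := by
  have hfe : QuadraticMap.polar (⇑Q) f e = 1 := by rw [QuadraticMap.polar_comm, hef]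
  have hQp : Q (e + f) = 1 := by
    rw [QuadraticMap.map_add (⇑Q) e f, he, hf, hef]; ring
  have hQm : Q (e - f) = -1 := by
    have := map_sub_smul Q f e 1
    simp only [one_smul, one_mul, mul_one] at this
    rw [this, he, hf, hfe]; ring
  have h1 : IsReflProd Q (Cfsg.reflectionMatrix (⇑Q) (e - f)) 1 (Q (e - f)) :=
    IsReflProd.refl Q (by rw [hQm]; simp)
  have h2 : IsReflProd Q (Cfsg.reflectionMatrix (⇑Q) (e + f)) 1 (Q (e + f)) :=
    IsReflProd.refl Q (by rw [hQp]; simp)
  exact (h1.mul h2).congr rfl rfl (by rw [hQp, hQm]; ring)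

end hyperbolic

section pairs

variable (Q : QuadraticForm F (ι → F)) {m : ℕ} (L R : Fin m → ι)

/-- The diagonal matrix negating the coordinates `L j`, `R j` for `j < i`. -/
def negPairs (i : ℕ) : Matrix ι ι F :=
  Matrix.diagonal (fun k => if ∃ j : Fin m, (j : ℕ) < i ∧ (k = L j ∨ k = R j) then (-1 : F) else 1)

/-- If the coordinate vectors `e_{L j}`, `e_{R j}` form hyperbolic pairs orthogonal to everything else,
the matrix negating the first `i` pairs is a product of `2i` reflections with norms multiplying to `(-1)^i`. -/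
theorem negPairs_isReflProd
    (hL : Function.Injective L) (hR : Function.Injective R) (hLR : ∀ j j', L j ≠ R j')
    (h0 : ∀ j, Q (Pi.single (L j) 1) = 0 ∧ Q (Pi.single (R j) 1) = 0)
    (hpol : ∀ j x, QuadraticMap.polar (⇑Q) (Pi.single (L j) 1) x = x (R j) ∧
      QuadraticMap.polar (⇑Q) (Pi.single (R j) 1) x = x (L j))
    (i : ℕ) (hi : i ≤ m) : IsReflProd Q (negPairs (F := F) L R i) (2 * i) ((-1) ^ i) := by
  induction i with
  | zero =>
    have : negPairs (F := F) L R 0 = 1 := by
      rw [negPairs]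
      simp
    rw [this]
    exact (IsReflProd.one Q).congr rfl (by simp) (by simp)
  | succ i ih =>
    have him : i < m := hi
    set j₀ : Fin m := ⟨i, him⟩ with hj₀
    set e : ι → F := Pi.single (L j₀) 1 with he
    set f : ι → F := Pi.single (R j₀) 1 with hf
    have hef : QuadraticMap.polar (⇑Q) e f = 1 := by
      rw [(hpol j₀ f).1, hf]; simp
    have hN := hyperbolic_pair_isReflProd Q (h0 j₀).1 (h0 j₀).2 hef
    have hNmat : Cfsg.reflectionMatrix (⇑Q) (e - f) * Cfsg.reflectionMatrix (⇑Q) (e + f)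
        = Matrix.diagonal (fun k => if k = L j₀ ∨ k = R j₀ then (-1 : F) else 1) := by
      apply matrix_ext_mulVec
      intro x
      rw [hyperbolic_pair_mulVec Q (h0 j₀).1 (h0 j₀).2 hef, (hpol j₀ x).1, (hpol j₀ x).2]
      funext k
      rw [Matrix.mulVec_diagonal]
      simp only [Pi.sub_apply, Pi.smul_apply, smul_eq_mul, Pi.single_apply]
      by_cases h1 : k = L j₀
      · have h2 : k ≠ R j₀ := by rw [h1]; exact hLR _ _
        simp [h1, hLR]
        ring
      · by_cases h2 : k = R j₀
        · have h3 : R j₀ ≠ L j₀ := fun h => hLR _ _ h.symm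
          simp [h2, h3]
          ring
        · simp [h1, h2]
    have hstep : negPairs (F := F) L R (i + 1)
        = negPairs (F := F) L R i
          * (Cfsg.reflectionMatrix (⇑Q) (e - f) * Cfsg.reflectionMatrix (⇑Q) (e + f)) := by
      rw [hNmat, negPairs, negPairs, Matrix.diagonal_mul_diagonal]
      congr 1
      funext k
      by_cases hk : ∃ j : Fin m, (j : ℕ) < i ∧ (k = L j ∨ k = R j)
      · obtain ⟨j, hj, hkj⟩ := hk
        have hne : ¬ (k = L j₀ ∨ k = R j₀) := by
          have hjne : j ≠ j₀ := by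
            intro h; rw [h, hj₀] at hj; simp at hj
          rintro (h | h)
          · rcases hkj with h' | h'
            · exact hjne (hL (h'.symm.trans h))
            · exact hLR _ _ (h.symm.trans h')
          · rcases hkj with h' | h'
            · exact hLR _ _ (h'.symm.trans h)
            · exact hjne (hR (h'.symm.trans h))
        have hk' : ∃ j : Fin m, (j : ℕ) < i + 1 ∧ (k = L j ∨ k = R j) := ⟨j, by omega, hkj⟩
        rw [if_pos hk', if_pos ⟨j, hj, hkj⟩, if_neg hne, mul_one]
      · by_cases hk2 : k = L j₀ ∨ k = R j₀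
        · have hk' : ∃ j : Fin m, (j : ℕ) < i + 1 ∧ (k = L j ∨ k = R j) :=
            ⟨j₀, by simp [hj₀], hk2⟩
          rw [if_pos hk', if_neg hk, if_pos hk2, one_mul]
        · have hk' : ¬ ∃ j : Fin m, (j : ℕ) < i + 1 ∧ (k = L j ∨ k = R j) := by
            rintro ⟨j, hj, hkj⟩
            by_cases hji : (j : ℕ) < i
            · exact hk ⟨j, hji, hkj⟩
            · have : j = j₀ := by
                apply Fin.ext; simp only [hj₀]; omega
              rw [this] at hkj
              exact hk2 hkj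
          rw [if_neg hk', if_neg hk, if_neg hk2, one_mul]
    rw [hstep]
    exact ((ih (by omega)).mul hN).congr rfl (by ring) (by rw [pow_succ])

end pairs

end Cfsg.Agent.Lib.Helper44_ReflProd
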