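import Mathlib
import Cfsg.Agent.Lib.Helper44_ReflProd

set_option autoImplicit false

/-!
Eichler (Siegel) transformations `x ↦ x + B(x,y) a - B(x,a) y - Q(y) B(x,a) a` (`a` singular, `y ⊥ a`) as products
of reflections; reversing a product of reflections (helper44).  Any characteristic.
-/

namespace Cfsg.Agent.Lib.Helper44_Eichler

open Cfsg Matrix Cfsg.Agent.Lib.Helper44_Refl Cfsg.Agent.Lib.Helper44_ReflProd

variable {ι : Type} [Fintype ι] [DecidableEq ι] {F : Type*} [Field F]

/-- The reversed product of reflections is the inverse. -/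
theorem prod_reverse_mul_prod (Q : QuadraticForm F (ι → F)) (vs : List (ι → F))
    (hvs : ∀ v ∈ vs, Q v ≠ 0) :
    (vs.reverse.map (fun v => Cfsg.reflectionMatrix (⇑Q) v)).prod
      * (vs.map (fun v => Cfsg.reflectionMatrix (⇑Q) v)).prod = 1 := by
  induction vs with
  | nil => simp
  | cons v vs ih =>
    have hv : Q v ≠ 0 := hvs v List.mem_cons_self
    have ih' := ih (fun w hw => hvs w (List.mem_cons_of_mem _ hw))
    rw [List.reverse_cons, List.map_append, List.prod_append, List.map_cons, List.map_nil,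
      List.prod_cons, List.prod_nil, mul_one, List.map_cons, List.prod_cons, Matrix.mul_assoc,
      ← Matrix.mul_assoc (Cfsg.reflectionMatrix (⇑Q) v), reflectionMatrix_mul_self Q hv,
      Matrix.one_mul, ih']

/-- If `T` and `T * M` are products of reflections then so is `M`. -/
theorem IsReflProd.of_mul {Q : QuadraticForm F (ι → F)} {T M : Matrix ι ι F} {j j' : ℕ} {d d' : F}
    (h : IsReflProd Q T j d) (h' : IsReflProd Q (T * M) j' d') :
    IsReflProd Q M (j + j') (d * d') := by
  obtain ⟨vs, h1, h2, h3, h4⟩ := h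
  have hrev : IsReflProd Q (vs.reverse.map (fun v => Cfsg.reflectionMatrix (⇑Q) v)).prod j d := by
    refine ⟨vs.reverse, ?_, rfl, ?_, ?_⟩
    · intro v hv; exact h1 v (List.mem_reverse.mp hv)
    · rw [List.length_reverse, h3]
    · rw [List.map_reverse, List.prod_reverse, h4]
  refine (hrev.mul h').congr ?_ rfl rfl
  rw [← Matrix.mul_assoc, h2, prod_reverse_mul_prod Q vs h1, Matrix.one_mul]

/-- The Eichler transformation attached to a singular vector `a` and a vector `y` orthogonal to `a`. -/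
def eich (Q : QuadraticForm F (ι → F)) (a y x : ι → F) : ι → F :=
  x + (QuadraticMap.polar (⇑Q) x y) • a - (QuadraticMap.polar (⇑Q) x a) • y
    - (Q y * QuadraticMap.polar (⇑Q) x a) • a

omit [Fintype ι] [DecidableEq ι] in
theorem polar_eich_a (Q : QuadraticForm F (ι → F)) {a y : ι → F} (ha : Q a = 0)
    (hay : QuadraticMap.polar (⇑Q) a y = 0) (x : ι → F) :
    QuadraticMap.polar (⇑Q) (eich Q a y x) a = QuadraticMap.polar (⇑Q) x a := by
  have haa : QuadraticMap.polar (⇑Q) a a = 0 := by rw [Helper44_Refl.polar_self, ha, mul_zero]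
  have hya : QuadraticMap.polar (⇑Q) y a = 0 := by rw [QuadraticMap.polar_comm]; exact hay
  simp only [eich, QuadraticMap.polar_sub_left, QuadraticMap.polar_add_left,
    QuadraticMap.polar_smul_left, haa, hya, smul_eq_mul, mul_zero, add_zero, sub_zero]

omit [Fintype ι] [DecidableEq ι] in
/-- Composition law of Eichler transformations. -/
theorem eich_add (Q : QuadraticForm F (ι → F)) {a y₁ y₂ : ι → F} (ha : Q a = 0)
    (h₁ : QuadraticMap.polar (⇑Q) a y₁ = 0) (h₂ : QuadraticMap.polar (⇑Q) a y₂ = 0) (x : ι → F) :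
    eich Q a y₁ (eich Q a y₂ x) = eich Q a (y₁ + y₂) x := by
  have haa : QuadraticMap.polar (⇑Q) a a = 0 := by rw [Helper44_Refl.polar_self, ha, mul_zero]
  have e1 := polar_eich_a Q ha h₂ x
  have e2 : QuadraticMap.polar (⇑Q) (eich Q a y₂ x) y₁
      = QuadraticMap.polar (⇑Q) x y₁
        - QuadraticMap.polar (⇑Q) x a * QuadraticMap.polar (⇑Q) y₂ y₁ := by
    simp only [eich, QuadraticMap.polar_sub_left, QuadraticMap.polar_add_left,
      QuadraticMap.polar_smul_left, h₁, smul_eq_mul, mul_zero, add_zero, sub_zero]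
  have e3 : Q (y₁ + y₂) = Q y₁ + Q y₂ + QuadraticMap.polar (⇑Q) y₁ y₂ :=
    QuadraticMap.map_add (⇑Q) y₁ y₂
  conv_lhs => rw [eich, e1, e2]
  rw [eich, eich, e3, QuadraticMap.polar_add_right, QuadraticMap.polar_comm (⇑Q) y₂ y₁]
  funext i
  simp only [Pi.add_apply, Pi.sub_apply, Pi.smul_apply, smul_eq_mul]
  ring

/-- The product of the reflections in `z` and `z + a` is an Eichler transformation. -/
theorem refl_refl_eq_eich (Q : QuadraticForm F (ι → F)) {a z : ι → F} (ha : Q a = 0)
    (haz : QuadraticMap.polar (⇑Q) a z = 0) (hz : Q z ≠ 0) (x : ι → F) :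
    (Cfsg.reflectionMatrix (⇑Q) z * Cfsg.reflectionMatrix (⇑Q) (z + a)) *ᵥ x
      = eich Q a (-(Q z)⁻¹ • z) x := by
  have haa : QuadraticMap.polar (⇑Q) a a = 0 := by rw [Helper44_Refl.polar_self, ha, mul_zero]
  have hza : QuadraticMap.polar (⇑Q) z a = 0 := by rw [QuadraticMap.polar_comm]; exact haz
  have hzz : QuadraticMap.polar (⇑Q) z z = 2 * Q z := Helper44_Refl.polar_self Q z
  have hQza : Q (z + a) = Q z := by
    rw [QuadraticMap.map_add (⇑Q) z a, ha, hza]; ring
  rw [← Matrix.mulVec_mulVec, reflectionMatrix_mulVec Q (z + a) x, hQza, reflectionMatrix_mulVec]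
  simp only [eich, QuadraticMap.polar_sub_right, QuadraticMap.polar_add_right,
    QuadraticMap.polar_add_left, QuadraticMap.polar_smul_right, QuadraticMap.polar_smul_left,
    QuadraticMap.map_smul, hza, haz, haa, hzz, smul_eq_mul]
  rw [QuadraticMap.polar_comm (⇑Q) x z, QuadraticMap.polar_comm (⇑Q) x a]
  funext i
  simp only [Pi.add_apply, Pi.sub_apply, Pi.smul_apply, Pi.neg_apply, smul_eq_mul]
  field_simp
  ring

/-- An Eichler transformation with non-singular `y` is a product of two reflections. -/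
theorem eich_isReflProd (Q : QuadraticForm F (ι → F)) {a y : ι → F} (ha : Q a = 0)
    (hay : QuadraticMap.polar (⇑Q) a y = 0) (hy : Q y ≠ 0) :
    ∃ (T : Matrix ι ι F) (d : F), IsReflProd Q T 2 d ∧ ∀ x, T *ᵥ x = eich Q a y x := by
  set z : ι → F := -(Q y)⁻¹ • y with hz
  have hQz : Q z = (Q y)⁻¹ := by
    rw [hz, QuadraticMap.map_smul]
    simp only [smul_eq_mul]
    field_simp
  have hz0 : Q z ≠ 0 := by rw [hQz]; exact inv_ne_zero hy
  have haz : QuadraticMap.polar (⇑Q) a z = 0 := by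
    rw [hz, QuadraticMap.polar_smul_right, hay, smul_zero]
  have hQza : Q (z + a) = Q z := by
    rw [QuadraticMap.map_add (⇑Q) z a, ha, QuadraticMap.polar_comm, haz]; ring
  have hza0 : Q (z + a) ≠ 0 := by rw [hQza]; exact hz0
  refine ⟨Cfsg.reflectionMatrix (⇑Q) z * Cfsg.reflectionMatrix (⇑Q) (z + a), Q z * Q (z + a),
    (IsReflProd.refl Q hz0).mul (IsReflProd.refl Q hza0), ?_⟩
  intro x
  rw [refl_refl_eq_eich Q ha haz hz0]
  congr 1
  rw [hQz, hz, inv_inv, smul_smul]
  have : -Q y * -(Q y)⁻¹ = 1 := by field_simp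
  rw [this, one_smul]

/-- For singular orthogonal `a`, `d`: the Siegel transformation `x ↦ x + B(x,d) a - B(x,a) d` is a product of
four reflections, provided some `y ⊥ a` has `Q y ≠ 0` and `Q (d - y) ≠ 0`. -/
theorem siegel_isReflProd (Q : QuadraticForm F (ι → F)) {a d y : ι → F} (ha : Q a = 0) (hd : Q d = 0)
    (had : QuadraticMap.polar (⇑Q) a d = 0) (hay : QuadraticMap.polar (⇑Q) a y = 0) (hy : Q y ≠ 0)
    (hdy : Q (d - y) ≠ 0) :
    ∃ (T : Matrix ι ι F) (c : F), IsReflProd Q T 4 c ∧ ∀ x, T *ᵥ x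
      = x + (QuadraticMap.polar (⇑Q) x d) • a - (QuadraticMap.polar (⇑Q) x a) • d := by
  have hay' : QuadraticMap.polar (⇑Q) a (d - y) = 0 := by
    rw [QuadraticMap.polar_sub_right, had, hay, sub_zero]
  obtain ⟨T₁, c₁, hT₁, hT₁x⟩ := eich_isReflProd Q ha hay hy
  obtain ⟨T₂, c₂, hT₂, hT₂x⟩ := eich_isReflProd Q ha hay' hdy
  refine ⟨T₁ * T₂, c₁ * c₂, hT₁.mul hT₂, ?_⟩
  intro x
  rw [← Matrix.mulVec_mulVec, hT₂x, hT₁x, eich_add Q ha hay hay', add_sub_cancel, eich, hd,
    zero_mul, zero_smul, sub_zero]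

end Cfsg.Agent.Lib.Helper44_Eichler
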