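import Mathlib

set_option autoImplicit false

/-!
Classification of non-degenerate quadratic forms over finite fields: existence of singular vectors in
dimension at least three, hyperbolic pairs, splitting off a hyperbolic plane (helper44).
-/

namespace Cfsg.Agent.Lib.Helper44_QuadClass

open Polynomial Module

variable {F : Type*} [Field F] {V : Type*} [AddCommGroup V] [Module F V]

/-- Over a finite field of odd order, `a x² + b y² + c = 0` is solvable when `a, b ≠ 0`. -/
theorem exists_sq_sum [Finite F] (h2 : (2 : F) ≠ 0) {a b : F} (ha : a ≠ 0) (hb : b ≠ 0) (c : F) :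
    ∃ x y : F, a * x ^ 2 + b * y ^ 2 + c = 0 := by
  have := Fintype.ofFinite F
  have hodd : Fintype.card F % 2 = 1 := by
    have : ringChar F ≠ 2 := by
      intro h
      apply h2
      have : ((2 : ℕ) : F) = 0 := by rw [← h]; exact ringChar.Nat.cast_ringChar
      exact_mod_cast this
    exact FiniteField.odd_card_of_char_ne_two this
  have hf : degree (C a * X ^ 2 : F[X]) = 2 := by
    rw [degree_C_mul_X_pow 2 ha]; rfl
  have hg : degree (C b * X ^ 2 + C c : F[X]) = 2 := by
    rw [degree_add_C]
    · rw [degree_C_mul_X_pow 2 hb]; rfl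
    · rw [degree_C_mul_X_pow 2 hb]; norm_num
  obtain ⟨x, y, hxy⟩ := FiniteField.exists_root_sum_quadratic hf hg hodd
  refine ⟨x, y, ?_⟩
  simp only [eval_mul, eval_C, eval_pow, eval_X, eval_add] at hxy
  linear_combination hxy

/-- `Q (a u + w) = a² Q u + Q w + a B(u, w)`. -/
theorem map_smul_add (Q : QuadraticForm F V) (a : F) (u w : V) :
    Q (a • u + w) = a * a * Q u + Q w + a * QuadraticMap.polar (⇑Q) u w := by
  rw [QuadraticMap.map_add (⇑Q) (a • u) w, QuadraticMap.map_smul, QuadraticMap.polar_smul_left]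
  simp only [smul_eq_mul]

theorem polar_self' (Q : QuadraticForm F V) (v : V) : QuadraticMap.polar (⇑Q) v v = 2 * Q v := by
  rw [QuadraticMap.polar_self]; simp [two_mul]

/-- In characteristic two, a quadratic form on a space of dimension at least three over a finite field has
a non-zero singular vector. -/
theorem exists_singular_char_two [Finite F] [FiniteDimensional F V] (hchar : (2 : F) = 0)
    (Q : QuadraticForm F V) (hdim : 3 ≤ finrank F V) : ∃ v : V, v ≠ 0 ∧ Q v = 0 := by
  have := Fintype.ofFinite F
  have hrc : ringChar F = 2 := by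
    have : ((2 : ℕ) : F) = 0 := by exact_mod_cast hchar
    have hdvd := ringChar.dvd this
    rcases (Nat.dvd_prime Nat.prime_two).mp hdvd with h | h
    · exfalso
      have : (1 : F) = 0 := by
        have := ringChar.Nat.cast_ringChar (R := F)
        rw [h] at this
        simp at this
      exact one_ne_zero this
    · exact h
  have hV : Nontrivial V := by
    apply Module.nontrivial_of_finrank_pos (R := F)
    omega
  obtain ⟨u, hu⟩ := exists_ne (0 : V)
  by_cases hQu : Q u = 0
  · exact ⟨u, hu, hQu⟩
  -- the kernel of B(u, ·) has dimension at least 2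
  set φ : V →ₗ[F] F := QuadraticMap.polarBilin Q u with hφ
  have hker : 2 ≤ finrank F (LinearMap.ker φ) := by
    have h1 := LinearMap.finrank_range_add_finrank_ker φ
    have h2 : finrank F (LinearMap.range φ) ≤ 1 := by
      have := Submodule.finrank_le (LinearMap.range φ)
      simpa using this
    omega
  -- pick w in the kernel outside span u
  have hex : ∃ w ∈ LinearMap.ker φ, w ∉ Submodule.span F {u} := by
    by_contra hcon
    push Not at hcon
    have hle : LinearMap.ker φ ≤ Submodule.span F {u} := hcon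
    have h3 := Submodule.finrank_mono hle
    rw [finrank_span_singleton hu] at h3
    omega
  obtain ⟨w, hwker, hwspan⟩ := hex
  have hBuw : QuadraticMap.polar (⇑Q) u w = 0 := by
    have : φ w = 0 := hwker
    simpa [hφ] using this
  obtain ⟨a, ha⟩ := FiniteField.isSquare_of_char_two hrc (Q w / Q u)
  refine ⟨a • u + w, ?_, ?_⟩
  · intro h0
    apply hwspan
    have : w = (-a) • u := by
      rw [neg_smul]; exact eq_neg_of_add_eq_zero_right h0
    rw [this]
    exact Submodule.smul_mem _ _ (Submodule.mem_span_singleton_self u)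
  · rw [map_smul_add, hBuw, ← ha, mul_zero, add_zero, div_mul_cancel₀ _ hQu]
    have : Q w + Q w = 2 * Q w := by ring
    rw [this, hchar, zero_mul]

/-- In odd characteristic, a quadratic form on a space of dimension at least three over a finite field has
a non-zero singular vector. -/
theorem exists_singular_odd [Finite F] [FiniteDimensional F V] (h2 : (2 : F) ≠ 0)
    (Q : QuadraticForm F V) (hdim : 3 ≤ finrank F V) : ∃ v : V, v ≠ 0 ∧ Q v = 0 := by
  have : Invertible (2 : F) := invertibleOfNonzero h2
  have hsymm : LinearMap.BilinForm.IsSymm (QuadraticMap.polarBilin Q) := by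
    rw [LinearMap.BilinForm.isSymm_def]
    intro x y
    simp only [QuadraticMap.polarBilin_apply_apply]
    exact QuadraticMap.polar_comm _ _ _
  obtain ⟨v, hv⟩ := LinearMap.BilinForm.exists_orthogonal_basis
    (LinearMap.BilinForm.isSymm_iff.mp hsymm)
  have horth : ∀ i j, i ≠ j → QuadraticMap.polar (⇑Q) (v i) (v j) = 0 := by
    intro i j hij
    have := hv hij
    simpa [Function.onFun] using this
  set i0 : Fin (finrank F V) := ⟨0, by omega⟩ with hi0
  set i1 : Fin (finrank F V) := ⟨1, by omega⟩ with hi1
  set i2 : Fin (finrank F V) := ⟨2, by omega⟩ with hi2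
  have h01 : i0 ≠ i1 := by simp [hi0, hi1, Fin.ext_iff]
  have h02 : i0 ≠ i2 := by simp [hi0, hi2, Fin.ext_iff]
  have h12 : i1 ≠ i2 := by simp [hi1, hi2, Fin.ext_iff]
  by_cases ha : Q (v i0) = 0
  · exact ⟨v i0, v.ne_zero i0, ha⟩
  by_cases hb : Q (v i1) = 0
  · exact ⟨v i1, v.ne_zero i1, hb⟩
  obtain ⟨x, y, hxy⟩ := exists_sq_sum h2 ha hb (Q (v i2))
  refine ⟨x • v i0 + (y • v i1 + v i2), ?_, ?_⟩
  · intro h0
    have hli := v.linearIndependent
    have h3 := congrArg (fun z => v.repr z i2) h0
    simp only [map_add, map_smul, Basis.repr_self, Finsupp.coe_add, Finsupp.coe_smul, Pi.add_apply,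
      Pi.smul_apply, smul_eq_mul, map_zero, Finsupp.coe_zero, Pi.zero_apply] at h3
    simp [h02, h12] at h3
  · rw [map_smul_add, map_smul_add, QuadraticMap.polar_add_right, QuadraticMap.polar_smul_right,
      horth i0 i1 h01, horth i0 i2 h02, horth i1 i2 h12]
    simp only [smul_eq_mul, mul_zero, add_zero]
    linear_combination hxy

/-- A quadratic form on a space of dimension at least three over a finite field has a non-zero singular
vector. -/
theorem exists_singular [Finite F] [FiniteDimensional F V] (Q : QuadraticForm F V)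
    (hdim : 3 ≤ finrank F V) : ∃ v : V, v ≠ 0 ∧ Q v = 0 := by
  by_cases h2 : (2 : F) = 0
  · exact exists_singular_char_two h2 Q hdim
  · exact exists_singular_odd h2 Q hdim

/-- A non-zero singular vector of a non-degenerate quadratic form has a hyperbolic partner. -/
theorem exists_hyperbolic_partner (Q : QuadraticForm F V)
    (hQ : (QuadraticMap.polarBilin Q).Nondegenerate) {v : V} (hv : v ≠ 0) (hQv : Q v = 0) :
    ∃ w : V, Q w = 0 ∧ QuadraticMap.polar (⇑Q) v w = 1 := by
  have hex : ∃ y, QuadraticMap.polarBilin Q v y ≠ 0 := by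
    by_contra hcon
    push Not at hcon
    exact hv (hQ.1 v hcon)
  obtain ⟨y, hy⟩ := hex
  rw [QuadraticMap.polarBilin_apply_apply] at hy
  set w' : V := (QuadraticMap.polar (⇑Q) v y)⁻¹ • y with hw'
  have hvw' : QuadraticMap.polar (⇑Q) v w' = 1 := by
    rw [hw', QuadraticMap.polar_smul_right, smul_eq_mul, inv_mul_cancel₀ hy]
  refine ⟨(-Q w') • v + w', ?_, ?_⟩
  · rw [map_smul_add, hQv, hvw']; ring
  · rw [QuadraticMap.polar_add_right, QuadraticMap.polar_smul_right, polar_self', hQv, hvw']
    simp

section split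

variable (Q : QuadraticForm F V) (e f : V)

/-- The orthogonal complement of the plane spanned by `e` and `f` (as the kernel of `v ↦ (B(e,v), B(f,v))`). -/
def perp : Submodule F V :=
  LinearMap.ker ((QuadraticMap.polarBilin Q e).prod (QuadraticMap.polarBilin Q f))

theorem mem_perp {w : V} :
    w ∈ perp Q e f ↔ QuadraticMap.polar (⇑Q) e w = 0 ∧ QuadraticMap.polar (⇑Q) f w = 0 := by
  simp [perp, LinearMap.mem_ker]

variable {Q e f}

theorem finrank_perp [FiniteDimensional F V] (he : Q e = 0) (hf : Q f = 0)
    (hef : QuadraticMap.polar (⇑Q) e f = 1) : finrank F (perp Q e f) + 2 = finrank F V := by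
  set φ := (QuadraticMap.polarBilin Q e).prod (QuadraticMap.polarBilin Q f) with hφ
  have hsurj : LinearMap.range φ = ⊤ := by
    rw [LinearMap.range_eq_top]
    rintro ⟨a, b⟩
    refine ⟨b • e + a • f, ?_⟩
    have hfe : QuadraticMap.polar (⇑Q) f e = 1 := by rw [QuadraticMap.polar_comm, hef]
    rw [hφ]
    ext
    · simp [he, hef]
    · simp [hf, hfe]
  have h1 := LinearMap.finrank_range_add_finrank_ker φ
  rw [hsurj, finrank_top, Module.finrank_prod, Module.finrank_self] at h1
  have : perp Q e f = LinearMap.ker φ := rfl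
  rw [this]
  omega

/-- The restriction of a non-degenerate form to the complement of a hyperbolic plane is non-degenerate. -/
theorem nondegenerate_perp [FiniteDimensional F V]
    (hQ : (QuadraticMap.polarBilin Q).Nondegenerate) (he : Q e = 0) (hf : Q f = 0)
    (hef : QuadraticMap.polar (⇑Q) e f = 1) :
    (QuadraticMap.polarBilin (Q.comp (perp Q e f).subtype)).Nondegenerate := by
  have hfe : QuadraticMap.polar (⇑Q) f e = 1 := by rw [QuadraticMap.polar_comm, hef]
  apply LinearMap.BilinForm.Nondegenerate.ofSeparatingLeft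
  intro w hw
  have hwmem := (mem_perp Q e f).mp w.2
  apply Subtype.ext
  apply hQ.1
  intro v
  rw [QuadraticMap.polarBilin_apply_apply]
  -- decompose v
  set v' : V := v - QuadraticMap.polar (⇑Q) f v • e - QuadraticMap.polar (⇑Q) e v • f with hv'
  have hv'mem : v' ∈ perp Q e f := by
    rw [mem_perp]
    constructor
    · rw [hv', QuadraticMap.polar_sub_right, QuadraticMap.polar_sub_right,
        QuadraticMap.polar_smul_right, QuadraticMap.polar_smul_right, polar_self', he, hef]
      simp
    · rw [hv', QuadraticMap.polar_sub_right, QuadraticMap.polar_sub_right,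
        QuadraticMap.polar_smul_right, QuadraticMap.polar_smul_right, polar_self', hf, hfe]
      simp
  have hw' := hw ⟨v', hv'mem⟩
  rw [QuadraticMap.polarBilin_apply_apply] at hw'
  have hcomp : QuadraticMap.polar (⇑(Q.comp (perp Q e f).subtype)) w ⟨v', hv'mem⟩
      = QuadraticMap.polar (⇑Q) (w : V) v' := by
    simp [QuadraticMap.polar]
  rw [hcomp] at hw'
  have hv : v = v' + QuadraticMap.polar (⇑Q) f v • e + QuadraticMap.polar (⇑Q) e v • f := by
    rw [hv']; abel
  rw [hv, QuadraticMap.polar_add_right, QuadraticMap.polar_add_right, QuadraticMap.polar_smul_right,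
    QuadraticMap.polar_smul_right, hw', QuadraticMap.polar_comm (⇑Q) (w : V) e,
    QuadraticMap.polar_comm (⇑Q) (w : V) f, hwmem.1, hwmem.2]
  simp

end split

/-- A hyperbolic system: `m` pairwise orthogonal hyperbolic pairs `e i, f i`. -/
structure HypSys (Q : QuadraticForm F V) {m : ℕ} (e f : Fin m → V) : Prop where
  qe : ∀ i, Q (e i) = 0
  qf : ∀ i, Q (f i) = 0
  ef : ∀ i j, QuadraticMap.polar (⇑Q) (e i) (f j) = if i = j then 1 else 0
  ee : ∀ i j, QuadraticMap.polar (⇑Q) (e i) (e j) = 0
  ff : ∀ i j, QuadraticMap.polar (⇑Q) (f i) (f j) = 0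

theorem HypSys.empty (Q : QuadraticForm F V) (e f : Fin 0 → V) : HypSys Q e f :=
  ⟨fun i => i.elim0, fun i => i.elim0, fun i => i.elim0, fun i => i.elim0, fun i => i.elim0⟩

theorem polar_comp_subtype (Q : QuadraticForm F V) (W : Submodule F V) (x y : W) :
    QuadraticMap.polar (⇑(Q.comp W.subtype)) x y = QuadraticMap.polar (⇑Q) (x : V) (y : V) := by
  simp [QuadraticMap.polar]

/-- Extending a hyperbolic system of the complement of a hyperbolic plane by that plane. -/
theorem HypSys.cons {Q : QuadraticForm F V} {e₀ f₀ : V} (he : Q e₀ = 0) (hf : Q f₀ = 0)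
    (hef : QuadraticMap.polar (⇑Q) e₀ f₀ = 1) {m : ℕ} {e' f' : Fin m → perp Q e₀ f₀}
    (h : HypSys (Q.comp (perp Q e₀ f₀).subtype) e' f') :
    HypSys Q (Fin.cons e₀ (fun i => (e' i : V)) : Fin (m + 1) → V)
      (Fin.cons f₀ (fun i => (f' i : V)) : Fin (m + 1) → V) := by
  have hfe : QuadraticMap.polar (⇑Q) f₀ e₀ = 1 := by rw [QuadraticMap.polar_comm, hef]
  have me : ∀ i, QuadraticMap.polar (⇑Q) e₀ (e' i : V) = 0 ∧ QuadraticMap.polar (⇑Q) f₀ (e' i : V) = 0 :=
    fun i => (mem_perp Q e₀ f₀).mp (e' i).2
  have mf : ∀ i, QuadraticMap.polar (⇑Q) e₀ (f' i : V) = 0 ∧ QuadraticMap.polar (⇑Q) f₀ (f' i : V) = 0 :=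
    fun i => (mem_perp Q e₀ f₀).mp (f' i).2
  refine ⟨?_, ?_, ?_, ?_, ?_⟩
  · intro i
    refine Fin.cases ?_ (fun i => ?_) i
    · simpa using he
    · simpa using h.qe i
  · intro i
    refine Fin.cases ?_ (fun i => ?_) i
    · simpa using hf
    · simpa using h.qf i
  · intro i j
    refine Fin.cases ?_ (fun i => ?_) i <;> refine Fin.cases ?_ (fun j => ?_) j
    · simpa using hef
    · simp only [Fin.cons_zero, Fin.cons_succ]
      rw [(mf j).1, if_neg (Fin.succ_ne_zero j).symm]
    · simp only [Fin.cons_zero, Fin.cons_succ]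
      rw [QuadraticMap.polar_comm, (me i).2, if_neg (Fin.succ_ne_zero i)]
    · simp only [Fin.cons_succ]
      rw [← polar_comp_subtype, h.ef i j]
      simp [Fin.succ_inj]
  · intro i j
    refine Fin.cases ?_ (fun i => ?_) i <;> refine Fin.cases ?_ (fun j => ?_) j
    · simp only [Fin.cons_zero]
      rw [polar_self', he, mul_zero]
    · simp only [Fin.cons_zero, Fin.cons_succ]
      exact (me j).1
    · simp only [Fin.cons_zero, Fin.cons_succ]
      rw [QuadraticMap.polar_comm]; exact (me i).1
    · simp only [Fin.cons_succ]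
      rw [← polar_comp_subtype, h.ee i j]
  · intro i j
    refine Fin.cases ?_ (fun i => ?_) i <;> refine Fin.cases ?_ (fun j => ?_) j
    · simp only [Fin.cons_zero]
      rw [polar_self', hf, mul_zero]
    · simp only [Fin.cons_zero, Fin.cons_succ]
      exact (mf j).2
    · simp only [Fin.cons_zero, Fin.cons_succ]
      rw [QuadraticMap.polar_comm]; exact (mf i).2
    · simp only [Fin.cons_succ]
      rw [← polar_comp_subtype, h.ff i j]

/-- An extra vector `x` of the complement is orthogonal to the extended system. -/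
theorem orth_cons {Q : QuadraticForm F V} {e₀ f₀ : V} {m : ℕ} {e' : Fin m → perp Q e₀ f₀}
    (x : perp Q e₀ f₀)
    (h : ∀ i, QuadraticMap.polar (⇑(Q.comp (perp Q e₀ f₀).subtype)) x (e' i) = 0) (i : Fin (m + 1)) :
    QuadraticMap.polar (⇑Q) (x : V) ((Fin.cons e₀ (fun i => (e' i : V)) : Fin (m + 1) → V) i) = 0 := by
  refine Fin.cases ?_ (fun i => ?_) i
  · simp only [Fin.cons_zero]
    rw [QuadraticMap.polar_comm]
    exact ((mem_perp Q e₀ f₀).mp x.2).1
  · simp only [Fin.cons_succ]
    rw [← polar_comp_subtype]; exact h i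

theorem orth_cons' {Q : QuadraticForm F V} {e₀ f₀ : V} {m : ℕ} {f' : Fin m → perp Q e₀ f₀}
    (x : perp Q e₀ f₀)
    (h : ∀ i, QuadraticMap.polar (⇑(Q.comp (perp Q e₀ f₀).subtype)) x (f' i) = 0) (i : Fin (m + 1)) :
    QuadraticMap.polar (⇑Q) (x : V) ((Fin.cons f₀ (fun i => (f' i : V)) : Fin (m + 1) → V) i) = 0 := by
  refine Fin.cases ?_ (fun i => ?_) i
  · simp only [Fin.cons_zero]
    rw [QuadraticMap.polar_comm]
    exact ((mem_perp Q e₀ f₀).mp x.2).2
  · simp only [Fin.cons_succ]
    rw [← polar_comp_subtype]; exact h i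

/-- **Odd dimension**: a non-degenerate quadratic space of dimension `2m+1` over a finite field has a
non-singular vector `x` and a hyperbolic system of `m` pairs orthogonal to `x`; the characteristic is odd. -/
theorem odd_standard [Finite F] : ∀ (m : ℕ) (V : Type u_2) [AddCommGroup V] [Module F V]
    [FiniteDimensional F V] (Q : QuadraticForm F V), finrank F V = 2 * m + 1 →
    (QuadraticMap.polarBilin Q).Nondegenerate →
    ∃ (x : V) (e f : Fin m → V), (2 : F) ≠ 0 ∧ Q x ≠ 0 ∧ HypSys Q e f ∧
      (∀ i, QuadraticMap.polar (⇑Q) x (e i) = 0) ∧ (∀ i, QuadraticMap.polar (⇑Q) x (f i) = 0) := by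
  intro m
  induction m with
  | zero =>
    intro V _ _ _ Q hdim hQ
    have hV : Nontrivial V := by
      apply Module.nontrivial_of_finrank_pos (R := F); omega
    obtain ⟨x, hx⟩ := exists_ne (0 : V)
    have hspan := (finrank_eq_one_iff_of_nonzero' x hx).mp (by omega)
    have hne : 2 * Q x ≠ 0 := by
      intro h0
      apply hx
      apply hQ.1
      intro y
      obtain ⟨c, rfl⟩ := hspan y
      rw [QuadraticMap.polarBilin_apply_apply, QuadraticMap.polar_smul_right, polar_self', h0,
        smul_zero]
    refine ⟨x, Fin.elim0, Fin.elim0, left_ne_zero_of_mul hne, right_ne_zero_of_mul hne,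
      HypSys.empty Q _ _, fun i => i.elim0, fun i => i.elim0⟩
  | succ m ih =>
    intro V _ _ _ Q hdim hQ
    obtain ⟨v, hv, hQv⟩ := exists_singular Q (by omega)
    obtain ⟨w, hQw, hvw⟩ := exists_hyperbolic_partner Q hQ hv hQv
    have hfr := finrank_perp hQv hQw hvw
    have hnd := nondegenerate_perp hQ hQv hQw hvw
    obtain ⟨x', e', f', h2, hx', hsys, hxe, hxf⟩ :=
      ih (perp Q v w) (Q.comp (perp Q v w).subtype) (by omega) hnd
    refine ⟨(x' : V), Fin.cons v (fun i => (e' i : V)), Fin.cons w (fun i => (f' i : V)), h2, ?_,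
      HypSys.cons hQv hQw hvw hsys, orth_cons x' hxe, orth_cons' x' hxf⟩
    simpa using hx'

/-- In an anisotropic quadratic space of dimension at least one over a finite field, some vector has norm one
(dimension two is what we use). -/
theorem exists_norm_one [Finite F] [FiniteDimensional F V] (Q : QuadraticForm F V)
    (hdim : finrank F V = 2) (hani : ∀ v : V, v ≠ 0 → Q v ≠ 0) : ∃ x : V, Q x = 1 := by
  by_cases h2 : (2 : F) = 0
  · have := Fintype.ofFinite F
    have hrc : ringChar F = 2 := by
      have : ((2 : ℕ) : F) = 0 := by exact_mod_cast h2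
      have hdvd := ringChar.dvd this
      rcases (Nat.dvd_prime Nat.prime_two).mp hdvd with h | h
      · exfalso
        have : (1 : F) = 0 := by
          have := ringChar.Nat.cast_ringChar (R := F)
          rw [h] at this
          simp at this
        exact one_ne_zero this
      · exact h
    have hV : Nontrivial V := by
      apply Module.nontrivial_of_finrank_pos (R := F); omega
    obtain ⟨u, hu⟩ := exists_ne (0 : V)
    obtain ⟨a, ha⟩ := FiniteField.isSquare_of_char_two hrc (Q u)⁻¹
    refine ⟨a • u, ?_⟩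
    rw [QuadraticMap.map_smul, smul_eq_mul, ← ha, inv_mul_cancel₀ (hani u hu)]
  · have : Invertible (2 : F) := invertibleOfNonzero h2
    have hsymm : LinearMap.BilinForm.IsSymm (QuadraticMap.polarBilin Q) := by
      rw [LinearMap.BilinForm.isSymm_def]
      intro x y
      simp only [QuadraticMap.polarBilin_apply_apply]
      exact QuadraticMap.polar_comm _ _ _
    obtain ⟨v, hv⟩ := LinearMap.BilinForm.exists_orthogonal_basis
      (LinearMap.BilinForm.isSymm_iff.mp hsymm)
    set i0 : Fin (finrank F V) := ⟨0, by omega⟩ with hi0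
    set i1 : Fin (finrank F V) := ⟨1, by omega⟩ with hi1
    have h01 : i0 ≠ i1 := by simp [hi0, hi1, Fin.ext_iff]
    have horth : QuadraticMap.polar (⇑Q) (v i0) (v i1) = 0 := by
      have := hv h01
      simpa [Function.onFun] using this
    obtain ⟨s, t, hst⟩ := exists_sq_sum h2 (hani _ (v.ne_zero i0)) (hani _ (v.ne_zero i1)) (-1)
    refine ⟨s • v i0 + t • v i1, ?_⟩
    rw [map_smul_add, QuadraticMap.map_smul, QuadraticMap.polar_smul_right, horth]
    simp only [smul_eq_mul, mul_zero, add_zero]
    linear_combination hst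

/-- **Dimension two**: a non-degenerate quadratic plane over a finite field is hyperbolic or elliptic. -/
theorem dim_two [Finite F] [FiniteDimensional F V] (Q : QuadraticForm F V)
    (hdim : finrank F V = 2) (hQ : (QuadraticMap.polarBilin Q).Nondegenerate) :
    (∃ e f : V, Q e = 0 ∧ Q f = 0 ∧ QuadraticMap.polar (⇑Q) e f = 1) ∨
    (∃ (x y : V) (ζ : F), (∀ t : F, t ^ 2 + t + ζ ≠ 0) ∧ Q x = 1 ∧
      QuadraticMap.polar (⇑Q) x y = 1 ∧ Q y = ζ) := by
  by_cases hsing : ∃ v : V, v ≠ 0 ∧ Q v = 0
  · obtain ⟨v, hv, hQv⟩ := hsing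
    obtain ⟨w, hQw, hvw⟩ := exists_hyperbolic_partner Q hQ hv hQv
    exact Or.inl ⟨v, w, hQv, hQw, hvw⟩
  · right
    have hani : ∀ v : V, v ≠ 0 → Q v ≠ 0 := fun v hv h0 => hsing ⟨v, hv, h0⟩
    obtain ⟨x, hx⟩ := exists_norm_one Q hdim hani
    have hx0 : x ≠ 0 := by
      rintro rfl; rw [QuadraticMap.map_zero] at hx; exact zero_ne_one hx
    -- a vector outside the span of x
    have hex : ∃ y₀ : V, y₀ ∉ Submodule.span F {x} := by
      by_contra hcon
      push Not at hcon
      have htop : Submodule.span F {x} = ⊤ := by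
        rw [eq_top_iff]; intro y _; exact hcon y
      have h1 := finrank_span_singleton (K := F) hx0
      rw [htop, finrank_top] at h1
      omega
    obtain ⟨y₀, hy₀⟩ := hex
    -- a vector y outside span x with B(x,y) = 1
    have hy : ∃ y : V, y ∉ Submodule.span F {x} ∧ QuadraticMap.polar (⇑Q) x y = 1 := by
      have hexz : ∃ z, QuadraticMap.polarBilin Q x z ≠ 0 := by
        by_contra hcon
        push Not at hcon
        exact hx0 (hQ.1 x hcon)
      obtain ⟨z, hz⟩ := hexz
      rw [QuadraticMap.polarBilin_apply_apply] at hz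
      by_cases hzspan : z ∈ Submodule.span F {x}
      · obtain ⟨a, rfl⟩ := Submodule.mem_span_singleton.mp hzspan
        rw [QuadraticMap.polar_smul_right, polar_self', hx, smul_eq_mul, mul_one] at hz
        have h2 : (2 : F) ≠ 0 := right_ne_zero_of_mul hz
        set c := QuadraticMap.polar (⇑Q) x y₀ with hc
        refine ⟨((1 - c) / 2) • x + y₀, ?_, ?_⟩
        · intro hmem
          apply hy₀
          have : y₀ = (((1 - c) / 2) • x + y₀) - ((1 - c) / 2) • x := by abel
          rw [this]
          exact Submodule.sub_mem _ hmem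
            (Submodule.smul_mem _ _ (Submodule.mem_span_singleton_self x))
        · rw [QuadraticMap.polar_add_right, QuadraticMap.polar_smul_right, polar_self', hx, ← hc]
          simp only [smul_eq_mul]
          field_simp
          ring
      · refine ⟨(QuadraticMap.polar (⇑Q) x z)⁻¹ • z, ?_, ?_⟩
        · intro hmem
          apply hzspan
          have : z = (QuadraticMap.polar (⇑Q) x z) • ((QuadraticMap.polar (⇑Q) x z)⁻¹ • z) := by
            rw [smul_smul, mul_inv_cancel₀ hz, one_smul]
          rw [this]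
          exact Submodule.smul_mem _ _ hmem
        · rw [QuadraticMap.polar_smul_right, smul_eq_mul, inv_mul_cancel₀ hz]
    obtain ⟨y, hyspan, hxy⟩ := hy
    refine ⟨x, y, Q y, ?_, hx, hxy, rfl⟩
    intro t
    have hne : t • x + y ≠ 0 := by
      intro h0
      apply hyspan
      have : y = (-t) • x := by
        rw [neg_smul]; exact eq_neg_of_add_eq_zero_right h0
      rw [this]
      exact Submodule.smul_mem _ _ (Submodule.mem_span_singleton_self x)
    have := hani _ hne
    rw [map_smul_add, hx, hxy] at this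
    intro h0
    apply this
    linear_combination h0

/-- **Even dimension**: a non-degenerate quadratic space of dimension `2(m+1)` over a finite field has
either a hyperbolic system of `m+1` pairs, or a hyperbolic system of `m` pairs together with an elliptic
pair `x, y` orthogonal to it. -/
theorem even_standard [Finite F] : ∀ (m : ℕ) (V : Type u_2) [AddCommGroup V] [Module F V]
    [FiniteDimensional F V] (Q : QuadraticForm F V), finrank F V = 2 * (m + 1) →
    (QuadraticMap.polarBilin Q).Nondegenerate →
    (∃ e f : Fin (m + 1) → V, HypSys Q e f) ∨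
    (∃ (e f : Fin m → V) (x y : V) (ζ : F), HypSys Q e f ∧ (∀ t : F, t ^ 2 + t + ζ ≠ 0) ∧
      (∀ i, QuadraticMap.polar (⇑Q) x (e i) = 0) ∧ (∀ i, QuadraticMap.polar (⇑Q) x (f i) = 0) ∧
      (∀ i, QuadraticMap.polar (⇑Q) y (e i) = 0) ∧ (∀ i, QuadraticMap.polar (⇑Q) y (f i) = 0) ∧
      Q x = 1 ∧ QuadraticMap.polar (⇑Q) x y = 1 ∧ Q y = ζ) := by
  intro m
  induction m with
  | zero =>
    intro V _ _ _ Q hdim hQ
    rcases dim_two Q (by omega) hQ with ⟨e₀, f₀, he, hf, hef⟩ | ⟨x, y, ζ, hirr, hx, hxy, hy⟩
    · left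
      have h0 : HypSys (Q.comp (perp Q e₀ f₀).subtype) (Fin.elim0 : Fin 0 → perp Q e₀ f₀)
          (Fin.elim0 : Fin 0 → perp Q e₀ f₀) := HypSys.empty _ _ _
      exact ⟨_, _, HypSys.cons he hf hef h0⟩
    · right
      exact ⟨Fin.elim0, Fin.elim0, x, y, ζ, HypSys.empty Q _ _, hirr, fun i => i.elim0,
        fun i => i.elim0, fun i => i.elim0, fun i => i.elim0, hx, hxy, hy⟩
  | succ m ih =>
    intro V _ _ _ Q hdim hQ
    obtain ⟨v, hv, hQv⟩ := exists_singular Q (by omega)
    obtain ⟨w, hQw, hvw⟩ := exists_hyperbolic_partner Q hQ hv hQv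
    have hfr := finrank_perp hQv hQw hvw
    have hnd := nondegenerate_perp hQ hQv hQw hvw
    rcases ih (perp Q v w) (Q.comp (perp Q v w).subtype) (by omega) hnd with
      ⟨e', f', hsys⟩ | ⟨e', f', x', y', ζ, hsys, hirr, hxe, hxf, hye, hyf, hx, hxy, hy⟩
    · left
      exact ⟨_, _, HypSys.cons hQv hQw hvw hsys⟩
    · right
      refine ⟨Fin.cons v (fun i => (e' i : V)), Fin.cons w (fun i => (f' i : V)), (x' : V), (y' : V),
        ζ, HypSys.cons hQv hQw hvw hsys, hirr, orth_cons x' hxe, orth_cons' x' hxf,
        orth_cons y' hye, orth_cons' y' hyf, ?_, ?_, ?_⟩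
      · simpa using hx
      · rw [← polar_comp_subtype]; exact hxy
      · simpa using hy

/-- A family with invertible Gram matrix is linearly independent. -/
theorem linearIndependent_of_gram {κ : Type*} [Fintype κ] [DecidableEq κ]
    (B : LinearMap.BilinForm F V) (b : κ → V)
    (h : (Matrix.of fun k l => B (b k) (b l)).det ≠ 0) : LinearIndependent F b := by
  rw [Fintype.linearIndependent_iff]
  intro c hc
  have h1 : Matrix.vecMul c (Matrix.of fun k l => B (b k) (b l)) = 0 := by
    funext l
    simp only [Matrix.vecMul, dotProduct, Matrix.of_apply, Pi.zero_apply]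
    have := congrArg (fun z => B z (b l)) hc
    simp only [map_sum, map_smul, LinearMap.sum_apply, LinearMap.smul_apply, map_zero,
      LinearMap.zero_apply, smul_eq_mul] at this
    exact this
  have := Matrix.eq_zero_of_vecMul_eq_zero h h1
  intro k
  exact congrFun this k

/-- A family with invertible Gram matrix and the right cardinality is a basis. -/
theorem exists_basis_of_gram [FiniteDimensional F V] {κ : Type*} [Fintype κ] [DecidableEq κ]
    [Nonempty κ] (B : LinearMap.BilinForm F V) (b : κ → V)
    (h : (Matrix.of fun k l => B (b k) (b l)).det ≠ 0) (hcard : Fintype.card κ = finrank F V) :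
    ∃ b' : Basis κ F V, ⇑b' = b :=
  ⟨basisOfLinearIndependentOfCardEqFinrank (linearIndependent_of_gram B b h) hcard,
    coe_basisOfLinearIndependentOfCardEqFinrank _ _⟩

end Cfsg.Agent.Lib.Helper44_QuadClass
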