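import Mathlib
import Cfsg.Prelude.Def_Classical
import Cfsg.Prelude.Def_ClassicalGeometry
import Cfsg.Agent.Lib.Helper44_Orth
import Cfsg.Agent.Lib.Helper44_Refl
import Cfsg.Agent.Lib.Helper44_Eichler
import Cfsg.Agent.Lib.Helper44_QuadClass

set_option autoImplicit false

/-!
Siegel transformations (long root elements) `Cfsg.siegelMatrix Q u v c` of a quadratic form on `ι → F`, as
elements of the isometry group; the subgroup they generate is normal; Eichler transformations lie in it
(helper14).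
-/

namespace Cfsg.Agent.Lib.Helper14_Siegel

open Cfsg Matrix Module Cfsg.Agent.Lib.Helper44_Orth Cfsg.Agent.Lib.Helper44_Refl
  Cfsg.Agent.Lib.Helper44_Eichler

variable {ι : Type} [Fintype ι] [DecidableEq ι] {F : Type*} [Field F]

/-- Action of the Siegel matrix. -/
theorem siegelMatrix_mulVec (Q : QuadraticForm F (ι → F)) (u v : ι → F) (c : F) (x : ι → F) :
    Cfsg.siegelMatrix (⇑Q) u v c *ᵥ x =
      x + (c * QuadraticMap.polar (⇑Q) u x) • v - (c * QuadraticMap.polar (⇑Q) v x) • u := by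
  rw [Cfsg.siegelMatrix, Matrix.add_mulVec, Matrix.one_mulVec, Matrix.smul_mulVec,
    Matrix.sub_mulVec, Matrix.vecMulVec_mulVec, Matrix.vecMulVec_mulVec, polarVec_dotProduct,
    polarVec_dotProduct]
  funext i
  simp only [Pi.add_apply, Pi.sub_apply, Pi.smul_apply, smul_eq_mul, MulOpposite.smul_eq_mul_unop,
    MulOpposite.unop_op]
  ring

omit [Fintype ι] [DecidableEq ι] in
theorem polar_self_of_singular (Q : QuadraticForm F (ι → F)) {u : ι → F} (hu : Q u = 0) :
    QuadraticMap.polar (⇑Q) u u = 0 := by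
  rw [Helper44_Refl.polar_self, hu, mul_zero]

/-- Composition law of Siegel transformations attached to a fixed singular orthogonal pair. -/
theorem siegelMatrix_mul (Q : QuadraticForm F (ι → F)) {u v : ι → F} (hu : Q u = 0) (hv : Q v = 0)
    (huv : QuadraticMap.polar (⇑Q) u v = 0) (c c' : F) :
    Cfsg.siegelMatrix (⇑Q) u v c * Cfsg.siegelMatrix (⇑Q) u v c' =
      Cfsg.siegelMatrix (⇑Q) u v (c + c') := by
  apply matrix_ext_mulVec
  intro x
  have huu := polar_self_of_singular Q hu
  have hvv := polar_self_of_singular Q hv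
  have hvu : QuadraticMap.polar (⇑Q) v u = 0 := by rw [QuadraticMap.polar_comm]; exact huv
  rw [← Matrix.mulVec_mulVec, siegelMatrix_mulVec, siegelMatrix_mulVec, siegelMatrix_mulVec]
  simp only [QuadraticMap.polar_add_right, QuadraticMap.polar_sub_right,
    QuadraticMap.polar_smul_right, huu, hvv, huv, hvu, smul_eq_mul, mul_zero, add_zero, sub_zero]
  funext i
  simp only [Pi.add_apply, Pi.sub_apply, Pi.smul_apply, smul_eq_mul]
  ring

theorem siegelMatrix_zero (Q : QuadraticForm F (ι → F)) (u v : ι → F) :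
    Cfsg.siegelMatrix (⇑Q) u v 0 = 1 := by
  apply matrix_ext_mulVec
  intro x
  rw [siegelMatrix_mulVec]
  simp

/-- A Siegel transformation preserves `Q`. -/
theorem map_siegel (Q : QuadraticForm F (ι → F)) {u v : ι → F} (hu : Q u = 0) (hv : Q v = 0)
    (huv : QuadraticMap.polar (⇑Q) u v = 0) (c : F) (x : ι → F) :
    Q (Cfsg.siegelMatrix (⇑Q) u v c *ᵥ x) = Q x := by
  have hvu : QuadraticMap.polar (⇑Q) v u = 0 := by rw [QuadraticMap.polar_comm]; exact huv
  rw [siegelMatrix_mulVec, sub_eq_add_neg, ← neg_smul, QuadraticMap.map_add (⇑Q),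
    QuadraticMap.map_add (⇑Q), QuadraticMap.map_smul, QuadraticMap.map_smul, hu, hv]
  simp only [QuadraticMap.polar_add_left, QuadraticMap.polar_smul_left,
    QuadraticMap.polar_smul_right, hvu, smul_eq_mul, mul_zero, add_zero]
  rw [QuadraticMap.polar_comm (⇑Q) x v, QuadraticMap.polar_comm (⇑Q) x u]
  ring

/-- The Siegel transformation as an element of `GL`. -/
def siegelGL (Q : QuadraticForm F (ι → F)) (u v : ι → F) (c : F) (hu : Q u = 0) (hv : Q v = 0)
    (huv : QuadraticMap.polar (⇑Q) u v = 0) : Matrix.GeneralLinearGroup ι F :=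
  ⟨Cfsg.siegelMatrix (⇑Q) u v c, Cfsg.siegelMatrix (⇑Q) u v (-c),
    by rw [siegelMatrix_mul Q hu hv huv, add_neg_cancel, siegelMatrix_zero],
    by rw [siegelMatrix_mul Q hu hv huv, neg_add_cancel, siegelMatrix_zero]⟩

/-- The Siegel transformation as an element of the isometry group. -/
def siegel (Q : QuadraticForm F (ι → F)) (u v : ι → F) (c : F) (hu : Q u = 0) (hv : Q v = 0)
    (huv : QuadraticMap.polar (⇑Q) u v = 0) : ↥(Cfsg.isometryGroup F (⇑Q)) :=
  ⟨siegelGL Q u v c hu hv huv, by
    rw [mem_isometryGroup_iff]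
    intro x
    exact map_siegel Q hu hv huv c x⟩

theorem siegel_coe (Q : QuadraticForm F (ι → F)) (u v : ι → F) (c : F) (hu : Q u = 0) (hv : Q v = 0)
    (huv : QuadraticMap.polar (⇑Q) u v = 0) :
    ((siegel Q u v c hu hv huv : Matrix.GeneralLinearGroup ι F) : Matrix ι ι F) =
      Cfsg.siegelMatrix (⇑Q) u v c := rfl

theorem siegel_mul (Q : QuadraticForm F (ι → F)) (u v : ι → F) (c c' : F) (hu : Q u = 0)
    (hv : Q v = 0) (huv : QuadraticMap.polar (⇑Q) u v = 0) :
    siegel Q u v c hu hv huv * siegel Q u v c' hu hv huv = siegel Q u v (c + c') hu hv huv := by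
  apply Subtype.ext
  apply Units.ext
  exact siegelMatrix_mul Q hu hv huv c c'

/-- The set of Siegel transformations (as isometries). -/
def siegelSet (Q : QuadraticForm F (ι → F)) : Set ↥(Cfsg.isometryGroup F (⇑Q)) :=
  {g | ∃ (u v : ι → F) (c : F), Q u = 0 ∧ Q v = 0 ∧ QuadraticMap.polar (⇑Q) u v = 0 ∧
    ((g : Matrix.GeneralLinearGroup ι F) : Matrix ι ι F) = Cfsg.siegelMatrix (⇑Q) u v c}

/-- The subgroup generated by the Siegel transformations. -/
def siegelGroup (Q : QuadraticForm F (ι → F)) : Subgroup ↥(Cfsg.isometryGroup F (⇑Q)) :=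
  Subgroup.closure (siegelSet Q)

theorem siegel_mem (Q : QuadraticForm F (ι → F)) (u v : ι → F) (c : F) (hu : Q u = 0) (hv : Q v = 0)
    (huv : QuadraticMap.polar (⇑Q) u v = 0) : siegel Q u v c hu hv huv ∈ siegelGroup Q :=
  Subgroup.subset_closure ⟨u, v, c, hu, hv, huv, rfl⟩

/-- Conjugating a Siegel matrix by an isometry. -/
theorem conj_siegelMatrix (Q : QuadraticForm F (ι → F)) (h : ↥(Cfsg.isometryGroup F (⇑Q)))
    (u v : ι → F) (c : F) :
    (h : Matrix.GeneralLinearGroup ι F).1 * Cfsg.siegelMatrix (⇑Q) u v c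
      * ((h⁻¹ : ↥(Cfsg.isometryGroup F (⇑Q))) : Matrix.GeneralLinearGroup ι F).1
      = Cfsg.siegelMatrix (⇑Q) ((h : Matrix.GeneralLinearGroup ι F).1 *ᵥ u)
          ((h : Matrix.GeneralLinearGroup ι F).1 *ᵥ v) c := by
  apply matrix_ext_mulVec
  intro x
  rw [← Matrix.mulVec_mulVec, ← Matrix.mulVec_mulVec, siegelMatrix_mulVec, siegelMatrix_mulVec]
  set y := ((h⁻¹ : ↥(Cfsg.isometryGroup F (⇑Q))) : Matrix.GeneralLinearGroup ι F).1 *ᵥ x with hy
  have hxy : x = (h : Matrix.GeneralLinearGroup ι F).1 *ᵥ y := by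
    rw [hy, Matrix.mulVec_mulVec]
    have : (h : Matrix.GeneralLinearGroup ι F).1
        * ((h⁻¹ : ↥(Cfsg.isometryGroup F (⇑Q))) : Matrix.GeneralLinearGroup ι F).1 = 1 := by
      have h1 : h * h⁻¹ = 1 := mul_inv_cancel h
      have h2 := congrArg (fun z : ↥(Cfsg.isometryGroup F (⇑Q)) =>
        ((z : Matrix.GeneralLinearGroup ι F) : Matrix ι ι F)) h1
      exact h2
    rw [this, Matrix.one_mulVec]
  rw [hxy, polar_isometry, polar_isometry, Matrix.mulVec_sub, Matrix.mulVec_add,
    Matrix.mulVec_smul, Matrix.mulVec_smul]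

theorem normal_closure_of_conj {G : Type*} [Group G] (K : Set G)
    (h : ∀ k ∈ K, ∀ g : G, g * k * g⁻¹ ∈ K) : (Subgroup.closure K).Normal := by
  constructor
  intro n hn g
  induction hn using Subgroup.closure_induction with
  | mem x hx => exact Subgroup.subset_closure (h x hx g)
  | one => simp
  | mul x y _ _ hx hy =>
    have : g * (x * y) * g⁻¹ = (g * x * g⁻¹) * (g * y * g⁻¹) := by group
    rw [this]; exact Subgroup.mul_mem _ hx hy
  | inv x _ hx =>
    have : g * x⁻¹ * g⁻¹ = (g * x * g⁻¹)⁻¹ := by group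
    rw [this]; exact Subgroup.inv_mem _ hx

theorem siegelGroup_normal (Q : QuadraticForm F (ι → F)) : (siegelGroup Q).Normal := by
  apply normal_closure_of_conj
  rintro k ⟨u, v, c, hu, hv, huv, hk⟩ g
  have hg := (mem_isometryGroup_iff (⇑Q) g.1).mp g.2
  refine ⟨(g : Matrix.GeneralLinearGroup ι F).1 *ᵥ u, (g : Matrix.GeneralLinearGroup ι F).1 *ᵥ v, c,
    ?_, ?_, ?_, ?_⟩
  · rw [hg, hu]
  · rw [hg, hv]
  · rw [polar_isometry, huv]
  · rw [← conj_siegelMatrix, ← hk]
    rfl

instance (Q : QuadraticForm F (ι → F)) : (siegelGroup Q).Normal := siegelGroup_normal Q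

/-- An Eichler transformation with both vectors singular is a Siegel transformation. -/
theorem eich_eq_siegel (Q : QuadraticForm F (ι → F)) {a y : ι → F} (hy : Q y = 0) (x : ι → F) :
    eich Q a y x = Cfsg.siegelMatrix (⇑Q) y a 1 *ᵥ x := by
  rw [siegelMatrix_mulVec, eich, hy]
  rw [QuadraticMap.polar_comm (⇑Q) x y, QuadraticMap.polar_comm (⇑Q) x a]
  simp

section abstract

open Cfsg.Agent.Lib.Helper44_QuadClass

variable {V : Type*} [AddCommGroup V] [Module F V]

/-- In a non-degenerate quadratic space of dimension at least three over a finite field, every value of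
`B(·, y)`, `y ≠ 0`, is taken on a singular vector. -/
theorem exists_singular_polar [Finite F] [FiniteDimensional F V] (Q : QuadraticForm F V)
    (hQ : (QuadraticMap.polarBilin Q).Nondegenerate) (hdim : 3 ≤ finrank F V) {y : V} (hy : y ≠ 0)
    (c : F) : ∃ s : V, Q s = 0 ∧ QuadraticMap.polar (⇑Q) s y = c := by
  obtain ⟨e, he0, hQe⟩ := exists_singular Q hdim
  obtain ⟨e', hQe', hee'⟩ := exists_hyperbolic_partner Q hQ he0 hQe
  have he'e : QuadraticMap.polar (⇑Q) e' e = 1 := by rw [QuadraticMap.polar_comm, hee']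
  by_cases h1 : QuadraticMap.polar (⇑Q) e y = 0
  swap
  · refine ⟨(c / QuadraticMap.polar (⇑Q) e y) • e, ?_, ?_⟩
    · rw [QuadraticMap.map_smul, hQe, smul_zero]
    · rw [QuadraticMap.polar_smul_left, smul_eq_mul, div_mul_cancel₀ _ h1]
  by_cases h2 : QuadraticMap.polar (⇑Q) e' y = 0
  swap
  · refine ⟨(c / QuadraticMap.polar (⇑Q) e' y) • e', ?_, ?_⟩
    · rw [QuadraticMap.map_smul, hQe', smul_zero]
    · rw [QuadraticMap.polar_smul_left, smul_eq_mul, div_mul_cancel₀ _ h2]
  -- now `y ⊥ e, e'`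
  have hex : ∃ x₀, QuadraticMap.polar (⇑Q) x₀ y ≠ 0 := by
    by_contra hcon
    push Not at hcon
    apply hy
    apply hQ.1
    intro v
    rw [QuadraticMap.polarBilin_apply_apply, QuadraticMap.polar_comm]
    exact hcon v
  obtain ⟨x₀, hx₀⟩ := hex
  obtain ⟨x₁, hx₁⟩ : ∃ x₁, x₁ = (c / QuadraticMap.polar (⇑Q) x₀ y) • x₀ := ⟨_, rfl⟩
  have hx₁y : QuadraticMap.polar (⇑Q) x₁ y = c := by
    rw [hx₁, QuadraticMap.polar_smul_left, smul_eq_mul, div_mul_cancel₀ _ hx₀]
  obtain ⟨x, hx⟩ : ∃ x, x = x₁ - QuadraticMap.polar (⇑Q) x₁ e' • e - QuadraticMap.polar (⇑Q) x₁ e • e' :=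
    ⟨_, rfl⟩
  have hee : QuadraticMap.polar (⇑Q) e e = 0 := by rw [polar_self', hQe, mul_zero]
  have he'e' : QuadraticMap.polar (⇑Q) e' e' = 0 := by rw [polar_self', hQe', mul_zero]
  have hxe : QuadraticMap.polar (⇑Q) x e = 0 := by
    rw [hx, QuadraticMap.polar_sub_left, QuadraticMap.polar_sub_left, QuadraticMap.polar_smul_left,
      QuadraticMap.polar_smul_left, hee, he'e]
    simp
  have hxe' : QuadraticMap.polar (⇑Q) x e' = 0 := by
    rw [hx, QuadraticMap.polar_sub_left, QuadraticMap.polar_sub_left, QuadraticMap.polar_smul_left,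
      QuadraticMap.polar_smul_left, hee', he'e']
    simp
  have hxy : QuadraticMap.polar (⇑Q) x y = c := by
    rw [hx, QuadraticMap.polar_sub_left, QuadraticMap.polar_sub_left, QuadraticMap.polar_smul_left,
      QuadraticMap.polar_smul_left, h1, h2, hx₁y]
    simp
  refine ⟨e + (-Q x) • e' + x, ?_, ?_⟩
  · rw [QuadraticMap.map_add (⇑Q), QuadraticMap.map_add (⇑Q), QuadraticMap.map_smul, hQe, hQe',
      QuadraticMap.polar_smul_right, hee', QuadraticMap.polar_add_left,
      QuadraticMap.polar_smul_left, QuadraticMap.polar_comm (⇑Q) e x,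
      QuadraticMap.polar_comm (⇑Q) e' x, hxe, hxe']
    simp
  · rw [QuadraticMap.polar_add_left, QuadraticMap.polar_add_left, QuadraticMap.polar_smul_left, h1,
      h2, hxy]
    simp

/-- For a non-zero singular `a` and `y ⊥ a` not a multiple of `a` (dimension at least five): every value
of `B(·, y)` is taken on a singular vector orthogonal to `a`. -/
theorem exists_singular_orth_polar [Finite F] [FiniteDimensional F V] (Q : QuadraticForm F V)
    (hQ : (QuadraticMap.polarBilin Q).Nondegenerate) (hdim : 5 ≤ finrank F V) {a y : V}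
    (ha0 : a ≠ 0) (ha : Q a = 0) (hay : QuadraticMap.polar (⇑Q) a y = 0)
    (hy : y ∉ Submodule.span F {a}) (c : F) :
    ∃ s : V, Q s = 0 ∧ QuadraticMap.polar (⇑Q) a s = 0 ∧ QuadraticMap.polar (⇑Q) s y = c := by
  obtain ⟨b, hb, hab⟩ := exists_hyperbolic_partner Q hQ ha0 ha
  have hba : QuadraticMap.polar (⇑Q) b a = 1 := by rw [QuadraticMap.polar_comm, hab]
  have haa : QuadraticMap.polar (⇑Q) a a = 0 := by rw [polar_self', ha, mul_zero]
  obtain ⟨y', hy'⟩ : ∃ y', y' = y - QuadraticMap.polar (⇑Q) b y • a := ⟨_, rfl⟩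
  have hy'mem : y' ∈ perp Q a b := by
    rw [mem_perp]
    constructor
    · rw [hy', QuadraticMap.polar_sub_right, QuadraticMap.polar_smul_right, hay, haa]
      simp
    · rw [hy', QuadraticMap.polar_sub_right, QuadraticMap.polar_smul_right, hba]
      simp
  have hy'0 : (⟨y', hy'mem⟩ : perp Q a b) ≠ 0 := by
    intro h
    have h0 : y' = 0 := congrArg Subtype.val h
    apply hy
    rw [Submodule.mem_span_singleton]
    refine ⟨QuadraticMap.polar (⇑Q) b y, ?_⟩
    rw [hy'] at h0
    exact (sub_eq_zero.mp h0).symm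
  have hnd := nondegenerate_perp hQ ha hb hab
  have hfr := finrank_perp (Q := Q) ha hb hab
  obtain ⟨s, hs, hsy⟩ := exists_singular_polar (Q.comp (perp Q a b).subtype) hnd (by omega) hy'0 c
  have hsmem := (mem_perp Q a b).mp s.2
  refine ⟨(s : V), ?_, hsmem.1, ?_⟩
  · simpa using hs
  · rw [polar_comp_subtype] at hsy
    have : QuadraticMap.polar (⇑Q) (s : V) y =
        QuadraticMap.polar (⇑Q) (s : V) y' + QuadraticMap.polar (⇑Q) b y *
          QuadraticMap.polar (⇑Q) (s : V) a := by
      rw [hy', QuadraticMap.polar_sub_right, QuadraticMap.polar_smul_right, smul_eq_mul]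
      ring
    rw [this, QuadraticMap.polar_comm (⇑Q) (s : V) a, hsmem.1]
    simpa using hsy

/-- Odd characteristic: for a non-singular `v` and `d` not a multiple of `v` (dimension at least five),
every value of `B(·, d)` is taken on a singular vector orthogonal to `v`. -/
theorem exists_singular_orth_polar' [Finite F] [FiniteDimensional F V] (h2 : (2 : F) ≠ 0)
    (Q : QuadraticForm F V)
    (hQ : (QuadraticMap.polarBilin Q).Nondegenerate) (hdim : 5 ≤ finrank F V) {v d : V}
    (hv : Q v ≠ 0) (hd : d ∉ Submodule.span F {v}) (c : F) :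
    ∃ s : V, Q s = 0 ∧ QuadraticMap.polar (⇑Q) s v = 0 ∧ QuadraticMap.polar (⇑Q) s d = c := by
  set B : LinearMap.BilinForm F V := QuadraticMap.polarBilin Q with hB
  have hBa : ∀ x y, B x y = QuadraticMap.polar (⇑Q) x y := fun x y => rfl
  have hrefl : LinearMap.BilinForm.IsRefl B := fun x y h => by
    rw [hBa] at h ⊢; rw [QuadraticMap.polar_comm]; exact h
  have hvv : B v v ≠ 0 := by
    rw [hBa, polar_self']
    exact mul_ne_zero h2 hv
  have hv0 : v ≠ 0 := fun h => hv (by rw [h, map_zero])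
  set M := LinearMap.BilinForm.orthogonal B (Submodule.span F {v}) with hM
  have hmemM : ∀ x, x ∈ M ↔ QuadraticMap.polar (⇑Q) v x = 0 := by
    intro x
    rw [hM, LinearMap.BilinForm.mem_orthogonal_iff]
    constructor
    · intro h
      exact h v (Submodule.mem_span_singleton_self v)
    · intro h n hn
      obtain ⟨k, rfl⟩ := Submodule.mem_span_singleton.mp hn
      rw [map_smul, LinearMap.smul_apply, hBa, h, smul_zero]
  have hndM : (LinearMap.BilinForm.restrict B M).Nondegenerate :=
    LinearMap.BilinForm.restrict_nondegenerate_orthogonal_spanSingleton B hQ hrefl hvv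
  have hnd : (QuadraticMap.polarBilin (Q.comp M.subtype)).Nondegenerate := by
    have : QuadraticMap.polarBilin (Q.comp M.subtype) = LinearMap.BilinForm.restrict B M := by
      ext x y
      simp only [QuadraticMap.polarBilin_apply_apply, polar_comp_subtype]
      rfl
    rw [this]
    exact hndM
  have hfr : finrank F M + 1 = finrank F V := by
    have := LinearMap.BilinForm.finrank_orthogonal hQ (Submodule.span F {v})
    rw [finrank_span_singleton hv0] at this
    have h1 : 1 ≤ finrank F V := by omega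
    rw [← hM] at this
    omega
  obtain ⟨d', hd'⟩ : ∃ d', d' = d - (QuadraticMap.polar (⇑Q) v d / QuadraticMap.polar (⇑Q) v v) • v :=
    ⟨_, rfl⟩
  have hvv' : QuadraticMap.polar (⇑Q) v v ≠ 0 := hvv
  have hd'mem : d' ∈ M := by
    rw [hmemM, hd', QuadraticMap.polar_sub_right, QuadraticMap.polar_smul_right, smul_eq_mul,
      div_mul_cancel₀ _ hvv', sub_self]
  have hd'0 : (⟨d', hd'mem⟩ : M) ≠ 0 := by
    intro h
    have h0 : d' = 0 := congrArg Subtype.val h
    apply hd
    rw [Submodule.mem_span_singleton]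
    refine ⟨QuadraticMap.polar (⇑Q) v d / QuadraticMap.polar (⇑Q) v v, ?_⟩
    rw [hd'] at h0
    exact (sub_eq_zero.mp h0).symm
  obtain ⟨s, hs, hsd⟩ := exists_singular_polar (Q.comp M.subtype) hnd (by omega) hd'0 c
  have hsmem := (hmemM s).mp s.2
  have hsv : QuadraticMap.polar (⇑Q) (s : V) v = 0 := by rw [QuadraticMap.polar_comm]; exact hsmem
  refine ⟨(s : V), ?_, hsv, ?_⟩
  · simpa using hs
  · rw [polar_comp_subtype] at hsd
    have : QuadraticMap.polar (⇑Q) (s : V) d =
        QuadraticMap.polar (⇑Q) (s : V) d' +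
          (QuadraticMap.polar (⇑Q) v d / QuadraticMap.polar (⇑Q) v v) *
            QuadraticMap.polar (⇑Q) (s : V) v := by
      rw [hd', QuadraticMap.polar_sub_right, QuadraticMap.polar_smul_right, smul_eq_mul]
      ring
    rw [this, hsv]
    simpa using hsd

end abstract

section moves

variable [Fintype F]

/-- **Eichler move**: if `w - z` is singular and orthogonal to the non-singular `z`, then `r_z r_w` lies in the
group generated by the Siegel transformations (dimension at least five). -/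
theorem refl_mul_refl_mem (Q : QuadraticForm F (ι → F))
    (hQ : (QuadraticMap.polarBilin Q).Nondegenerate) (hn : 5 ≤ Fintype.card ι) {z w : ι → F}
    (hz : Q z ≠ 0) (hw : Q w ≠ 0) (hd : Q (w - z) = 0)
    (hdz : QuadraticMap.polar (⇑Q) (w - z) z = 0) :
    refl Q z hz * refl Q w hw ∈ siegelGroup Q := by
  by_cases ha0 : w - z = 0
  · have hwz : w = z := sub_eq_zero.mp ha0
    subst hwz
    rw [refl_mul_self]
    exact Subgroup.one_mem _
  obtain ⟨a, ha⟩ : ∃ a, a = w - z := ⟨_, rfl⟩
  rw [← ha] at hd hdz ha0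
  have hwa : w = z + a := by rw [ha]; abel
  obtain ⟨y, hy⟩ : ∃ y, y = -(Q z)⁻¹ • z := ⟨_, rfl⟩
  have hay : QuadraticMap.polar (⇑Q) a y = 0 := by
    rw [hy, QuadraticMap.polar_smul_right, hdz, smul_zero]
  have hQy : Q y = (Q z)⁻¹ := by
    rw [hy, QuadraticMap.map_smul]
    simp only [smul_eq_mul]
    field_simp
  have hQy0 : Q y ≠ 0 := by rw [hQy]; exact inv_ne_zero hz
  have hyspan : y ∉ Submodule.span F {a} := by
    intro h
    obtain ⟨k, rfl⟩ := Submodule.mem_span_singleton.mp h
    apply hQy0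
    rw [QuadraticMap.map_smul, hd, smul_zero]
  have hdim : 5 ≤ finrank F (ι → F) := by
    rw [Module.finrank_fintype_fun_eq_card]; exact hn
  obtain ⟨y₁, hy₁, hay₁, hy₁y⟩ := exists_singular_orth_polar Q hQ hdim ha0 hd hay hyspan (Q y)
  obtain ⟨y₂, hy₂def⟩ : ∃ y₂, y₂ = y - y₁ := ⟨_, rfl⟩
  have hy₂ : Q y₂ = 0 := by
    have := Helper44_Refl.map_sub_smul Q y₁ y 1
    rw [one_smul] at this
    rw [hy₂def, this, hy₁, hy₁y]
    ring
  have hay₂ : QuadraticMap.polar (⇑Q) a y₂ = 0 := by
    rw [hy₂def, QuadraticMap.polar_sub_right, hay, hay₁, sub_zero]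
  have hy₁a : QuadraticMap.polar (⇑Q) y₁ a = 0 := by rw [QuadraticMap.polar_comm]; exact hay₁
  have hy₂a : QuadraticMap.polar (⇑Q) y₂ a = 0 := by rw [QuadraticMap.polar_comm]; exact hay₂
  have hsum : y₁ + y₂ = y := by rw [hy₂def]; abel
  have hza : QuadraticMap.polar (⇑Q) a z = 0 := hdz
  have key : refl Q z hz * refl Q w hw =
      siegel Q y₁ a 1 hy₁ hd hy₁a * siegel Q y₂ a 1 hy₂ hd hy₂a := by
    apply Subtype.ext
    apply Units.ext
    show Cfsg.reflectionMatrix (⇑Q) z * Cfsg.reflectionMatrix (⇑Q) w =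
      Cfsg.siegelMatrix (⇑Q) y₁ a 1 * Cfsg.siegelMatrix (⇑Q) y₂ a 1
    apply matrix_ext_mulVec
    intro x
    rw [hwa, refl_refl_eq_eich Q hd hza hz x, ← hy, ← Matrix.mulVec_mulVec, ← eich_eq_siegel Q hy₂,
      ← eich_eq_siegel Q hy₁, eich_add Q hd hay₁ hay₂, hsum]
  rw [key]
  exact Subgroup.mul_mem _ (siegel_mem Q _ _ _ _ _ _) (siegel_mem Q _ _ _ _ _ _)

/-- Odd characteristic, dimension at least five: reflections in vectors of the same norm agree modulo the
group generated by the Siegel transformations. -/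
theorem refl_mul_refl_mem_of_eq (h2 : (2 : F) ≠ 0) (Q : QuadraticForm F (ι → F))
    (hQ : (QuadraticMap.polarBilin Q).Nondegenerate) (hn : 5 ≤ Fintype.card ι) {v v' : ι → F}
    (hv : Q v ≠ 0) (hv' : Q v' ≠ 0) (hvv' : Q v = Q v') :
    refl Q v hv * refl Q v' hv' ∈ siegelGroup Q := by
  obtain ⟨d, hd⟩ : ∃ d, d = v' - v := ⟨_, rfl⟩
  have hv'd : v' = v + d := by rw [hd]; abel
  have hpol : QuadraticMap.polar (⇑Q) v d = -Q d := by
    have := QuadraticMap.map_add (⇑Q) v d
    rw [← hv'd, ← hvv'] at this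
    linear_combination -this
  by_cases hQd : Q d = 0
  · apply refl_mul_refl_mem Q hQ hn hv hv'
    · rw [← hd]; exact hQd
    · rw [← hd, QuadraticMap.polar_comm, hpol, hQd, neg_zero]
  by_cases hspan : d ∈ Submodule.span F {v}
  · obtain ⟨k, hk⟩ := Submodule.mem_span_singleton.mp hspan
    have hv'k : v' = (1 + k) • v := by rw [hv'd, ← hk, add_smul, one_smul]
    have h1 : (1 + k) * (1 + k) = 1 := by
      have := hvv'
      rw [hv'k, QuadraticMap.map_smul, smul_eq_mul] at this
      have h3 : ((1 + k) * (1 + k) - 1) * Q v = 0 := by linear_combination -this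
      rcases mul_eq_zero.mp h3 with h | h
      · linear_combination h
      · exact absurd h hv
    have hk2 : k * (k + 2) = 0 := by linear_combination h1
    rcases mul_eq_zero.mp hk2 with h | h
    · exfalso
      apply hQd
      rw [← hk, h, zero_smul, map_zero]
    · have hv'neg : v' = -v := by
        rw [hv'k]
        have : 1 + k = -1 := by linear_combination h
        rw [this, neg_one_smul]
      have : refl Q v' hv' = refl Q v hv := by
        apply Subtype.ext
        apply Units.ext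
        show Cfsg.reflectionMatrix (⇑Q) v' = Cfsg.reflectionMatrix (⇑Q) v
        rw [hv'neg, reflectionMatrix_neg]
      rw [this, refl_mul_self]
      exact Subgroup.one_mem _
  · have hdim : 5 ≤ finrank F (ι → F) := by
      rw [Module.finrank_fintype_fun_eq_card]; exact hn
    obtain ⟨a, ha, hav, had⟩ := exists_singular_orth_polar' h2 Q hQ hdim hv hspan (Q d)
    have hva : QuadraticMap.polar (⇑Q) v a = 0 := by rw [QuadraticMap.polar_comm]; exact hav
    have hQv₁ : Q (v + a) = Q v := by
      rw [QuadraticMap.map_add (⇑Q), ha, hva]; ring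
    have hv₁ : Q (v + a) ≠ 0 := by rw [hQv₁]; exact hv
    have hm1 : refl Q v hv * refl Q (v + a) hv₁ ∈ siegelGroup Q := by
      apply refl_mul_refl_mem Q hQ hn hv hv₁
      · rw [add_sub_cancel_left]; exact ha
      · rw [add_sub_cancel_left]; exact hav
    have hdiff : v' - (v + a) = d - a := by rw [hv'd]; abel
    have hm2 : refl Q (v + a) hv₁ * refl Q v' hv' ∈ siegelGroup Q := by
      apply refl_mul_refl_mem Q hQ hn hv₁ hv'
      · rw [hdiff]
        have := Helper44_Refl.map_sub_smul Q a d 1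
        rw [one_smul] at this
        rw [this, ha, had]
        ring
      · rw [hdiff, QuadraticMap.polar_sub_left, QuadraticMap.polar_add_right,
          QuadraticMap.polar_add_right, QuadraticMap.polar_comm (⇑Q) d v, hpol,
          QuadraticMap.polar_comm (⇑Q) d a, had, hav, Helper44_Refl.polar_self, ha]
        ring
    have : refl Q v hv * refl Q v' hv' =
        (refl Q v hv * refl Q (v + a) hv₁) * (refl Q (v + a) hv₁ * refl Q v' hv') := by
      rw [mul_assoc, ← mul_assoc (refl Q (v + a) hv₁), refl_mul_self, one_mul]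
    rw [this]
    exact Subgroup.mul_mem _ hm1 hm2

end moves

end Cfsg.Agent.Lib.Helper14_Siegel
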