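import Mathlib

set_option autoImplicit false

/-!
Abstract symplectic geometry: a finite-dimensional space `V` over a field `F` with an
alternating nondegenerate bilinear form `B`.  Isometry group as a subgroup of `V ≃ₗ[F] V`,
symplectic transvections, generation of the isometry group by transvections, transitivity.
-/

namespace Cfsg.Agent.Lib.Helper94_Symp

open Module

variable {F V : Type*} [Field F] [AddCommGroup V] [Module F V]

/-- The isometry group of a bilinear form, as a subgroup of `V ≃ₗ[F] V`. -/
def isoGroup (B : LinearMap.BilinForm F V) : Subgroup (V ≃ₗ[F] V) where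
  carrier := {g | ∀ u v, B (g u) (g v) = B u v}
  mul_mem' := by
    intro a b ha hb u v
    simp only [LinearEquiv.mul_apply]
    rw [ha, hb]
  one_mem' := by intro u v; rfl
  inv_mem' := by
    intro a ha u v
    have h := ha (a⁻¹ u) (a⁻¹ v)
    have e1 : a (a⁻¹ u) = u := by
      rw [← LinearEquiv.mul_apply, mul_inv_cancel]; rfl
    have e2 : a (a⁻¹ v) = v := by
      rw [← LinearEquiv.mul_apply, mul_inv_cancel]; rfl
    rw [e1, e2] at h
    exact h.symm

lemma mem_isoGroup {B : LinearMap.BilinForm F V} {g : V ≃ₗ[F] V} :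
    g ∈ isoGroup B ↔ ∀ u v, B (g u) (g v) = B u v := Iff.rfl

lemma isoGroup_inv_apply {B : LinearMap.BilinForm F V} {g : V ≃ₗ[F] V} (hg : g ∈ isoGroup B)
    (u v : V) : B (g⁻¹ u) v = B u (g v) := by
  have h := hg (g⁻¹ u) v
  have e1 : g (g⁻¹ u) = u := by
    rw [← LinearEquiv.mul_apply, mul_inv_cancel]; rfl
  rw [e1] at h
  exact h.symm

/-- The stabiliser of a subspace (as a set), in the style of `Cfsg.stabilizing`. -/
def stab (W : Submodule F V) : Subgroup (V ≃ₗ[F] V) where
  carrier := {g | ∀ v, v ∈ W ↔ g v ∈ W}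
  mul_mem' := by
    intro a b ha hb v
    rw [LinearEquiv.mul_apply]
    exact (hb v).trans (ha _)
  one_mem' := by intro v; rfl
  inv_mem' := by
    intro a ha v
    have h := ha (a⁻¹ v)
    have e1 : a (a⁻¹ v) = v := by
      rw [← LinearEquiv.mul_apply, mul_inv_cancel]; rfl
    rw [e1] at h
    exact h.symm

lemma mem_stab {W : Submodule F V} {g : V ≃ₗ[F] V} : g ∈ stab W ↔ ∀ v, v ∈ W ↔ g v ∈ W := Iff.rfl

/-- In finite dimension, mapping `W` into itself suffices to stabilise it. -/
lemma mem_stab_of_forall_mem [FiniteDimensional F V] {W : Submodule F V} {g : V ≃ₗ[F] V}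
    (h : ∀ v ∈ W, g v ∈ W) : g ∈ stab W := by
  have hle : W.map (g : V →ₗ[F] V) ≤ W := by
    rintro _ ⟨v, hv, rfl⟩
    exact h v hv
  have hfr : finrank F (W.map (g : V →ₗ[F] V)) = finrank F W :=
    LinearEquiv.finrank_map_eq g W
  have heq : W.map (g : V →ₗ[F] V) = W :=
    Submodule.eq_of_le_of_finrank_eq hle hfr
  intro v
  constructor
  · exact h v
  · intro hv
    rw [← heq] at hv
    obtain ⟨w, hw, hwv⟩ := hv
    have : w = v := g.injective hwv
    rwa [← this]

/-- The symplectic transvection `x ↦ x + c * B x v • v`. -/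
def stv (B : LinearMap.BilinForm F V) (hB : B.IsAlt) (v : V) (c : F) : V ≃ₗ[F] V :=
  LinearEquiv.transvection (f := c • B.flip v) (v := v) (by
    simp [hB v])

@[simp] lemma stv_apply (B : LinearMap.BilinForm F V) (hB : B.IsAlt) (v : V) (c : F) (x : V) :
    stv B hB v c x = x + (c * B x v) • v := by
  simp [stv, LinearMap.transvection.apply]

lemma stv_mem_isoGroup (B : LinearMap.BilinForm F V) (hB : B.IsAlt) (v : V) (c : F) :
    stv B hB v c ∈ isoGroup B := by
  intro x y
  simp only [stv_apply, map_add, map_smul, LinearMap.add_apply, LinearMap.smul_apply, smul_eq_mul,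
    hB v, mul_zero, add_zero]
  have h1 : B v y = - B y v := (hB.neg_eq y v).symm ▸ rfl
  rw [h1]
  ring


lemma apply_inv_apply' (g : V ≃ₗ[F] V) (x : V) : g (g⁻¹ x) = x := by
  rw [← LinearEquiv.mul_apply, mul_inv_cancel]; rfl

lemma inv_apply_apply' (g : V ≃ₗ[F] V) (x : V) : g⁻¹ (g x) = x := by
  rw [← LinearEquiv.mul_apply, inv_mul_cancel]; rfl

section Basic

variable (B : LinearMap.BilinForm F V) (hB : B.IsAlt)

include hB in
lemma alt_swap (x y : V) : B x y = - B y x := (hB.neg_eq y x).symm

include hB in
lemma alt_ne_zero_comm {x y : V} (h : B x y ≠ 0) : B y x ≠ 0 := by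
  rw [alt_swap B hB y x]; exact neg_ne_zero.mpr h

lemma conj_stv {g : V ≃ₗ[F] V} (hg : g ∈ isoGroup B) (v : V) (c : F) :
    g * stv B hB v c * g⁻¹ = stv B hB (g v) c := by
  ext x
  simp only [LinearEquiv.mul_apply, stv_apply, map_add, map_smul]
  rw [isoGroup_inv_apply hg, apply_inv_apply']

lemma stv_move {p p' : V} (h : B p p' ≠ 0) : stv B hB (p - p') (B p p')⁻¹ p = p' := by
  simp only [stv_apply, map_sub, hB p, zero_sub]
  rw [mul_neg, inv_mul_cancel₀ h, neg_one_smul]
  abel

lemma stv_fix {a x : V} (c : F) (h : B x a = 0) : stv B hB a c x = x := by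
  simp [h]

lemma stv_zero (c : F) : stv B hB 0 c = 1 := by
  ext x; simp

lemma stv_smul (a c : F) (v : V) : stv B hB (a • v) c = stv B hB v (a * a * c) := by
  ext x
  simp only [stv_apply, map_smul, smul_eq_mul, smul_smul]
  congr 2
  ring

/-- The set of vectors all of whose transvections lie in `M`. -/
def TV (M : Subgroup (V ≃ₗ[F] V)) : Set V := {v | ∀ c, stv B hB v c ∈ M}

variable {B hB} {M : Subgroup (V ≃ₗ[F] V)}

lemma TV_zero : (0 : V) ∈ TV B hB M := by
  intro c; rw [stv_zero]; exact M.one_mem

lemma TV_smul (a : F) {v : V} (hv : v ∈ TV B hB M) : a • v ∈ TV B hB M := by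
  intro c; rw [stv_smul]; exact hv _

lemma TV_map {g : V ≃ₗ[F] V} (hgM : g ∈ M) (hg : g ∈ isoGroup B) {v : V} (hv : v ∈ TV B hB M) :
    g v ∈ TV B hB M := by
  intro c
  rw [← conj_stv B hB hg]
  exact M.mul_mem (M.mul_mem hgM (hv c)) (M.inv_mem hgM)

lemma TV_stv {v w : V} (hv : v ∈ TV B hB M) (hw : w ∈ TV B hB M) (c : F) :
    w + (c * B w v) • v ∈ TV B hB M := by
  have := TV_map (hv c) (stv_mem_isoGroup B hB v c) hw
  rwa [stv_apply] at this

lemma TV_add_smul {v w : V} (hv : v ∈ TV B hB M) (hw : w ∈ TV B hB M) (h : B w v ≠ 0) (a : F) :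
    w + a • v ∈ TV B hB M := by
  have := TV_stv hv hw (a * (B w v)⁻¹)
  rwa [mul_assoc, inv_mul_cancel₀ h, mul_one] at this

lemma TV_add {v w : V} (hv : v ∈ TV B hB M) (hw : w ∈ TV B hB M) (h : B w v ≠ 0) :
    w + v ∈ TV B hB M := by
  have := TV_add_smul hv hw h 1
  rwa [one_smul] at this

end Basic

/-- The fixed subspace of a linear automorphism. -/
def fixS (g : V ≃ₗ[F] V) : Submodule F V where
  carrier := {x | g x = x}
  add_mem' := by
    intro a b ha hb
    simp only [Set.mem_ofPred_eq] at *
    rw [map_add, ha, hb]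
  zero_mem' := by simp
  smul_mem' := by
    intro c x hx
    simp only [Set.mem_ofPred_eq] at *
    rw [map_smul, hx]

lemma mem_fixS {g : V ≃ₗ[F] V} {x : V} : x ∈ fixS g ↔ g x = x := Iff.rfl

/-- Two nonzero functionals have a common non-vanishing point (inside a subspace). -/
lemma exists_both_ne_zero (B : LinearMap.BilinForm F V) (W : Submodule F V) {v v' : V}
    (h1 : ∃ x ∈ W, B x v ≠ 0) (h2 : ∃ x ∈ W, B x v' ≠ 0) :
    ∃ z ∈ W, B z v ≠ 0 ∧ B z v' ≠ 0 := by
  obtain ⟨x, hxW, hx⟩ := h1
  obtain ⟨x', hxW', hx'⟩ := h2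
  by_cases h3 : B x v' = 0
  · by_cases h4 : B x' v = 0
    · refine ⟨x + x', W.add_mem hxW hxW', ?_, ?_⟩
      · rw [map_add, LinearMap.add_apply, h4, add_zero]; exact hx
      · rw [map_add, LinearMap.add_apply, h3, zero_add]; exact hx'
    · exact ⟨x', hxW', h4, hx'⟩
  · exact ⟨x, hxW, hx, h3⟩

section Generation

variable (B : LinearMap.BilinForm F V) (hB : B.IsAlt) [FiniteDimensional F V]

include hB in
theorem gen_aux (hN : B.Nondegenerate) (M : Subgroup (V ≃ₗ[F] V))
    (hM : ∀ v c, stv B hB v c ∈ M) :
    ∀ n : ℕ, ∀ g ∈ isoGroup B, finrank F V - finrank F (fixS g) = n → g ∈ M := by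
  intro n
  induction n using Nat.strong_induction_on with
  | _ n ih =>
    intro g hg hn
    by_cases h1 : ∀ x, g x = x
    · have : g = 1 := LinearEquiv.ext h1
      rw [this]; exact M.one_mem
    · push Not at h1
      obtain ⟨v0, hv0⟩ := h1
      have hU : ∀ x, g x = x → ∀ v, B x (g v - v) = 0 := by
        intro x hx v
        rw [map_sub, sub_eq_zero]
        conv_lhs => rw [← hx]
        exact hg x v
      -- key claim
      have key : ∃ t ∈ M, t ∈ isoGroup B ∧ ∃ v, g v ≠ v ∧ (∀ x, g x = x → t x = x) ∧ t (g v) = v := by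
        by_cases hc : ∃ v, B (g v) v ≠ 0
        · obtain ⟨v, hv⟩ := hc
          refine ⟨stv B hB (g v - v) (B (g v) v)⁻¹, hM _ _, stv_mem_isoGroup _ _ _ _, v, ?_, ?_, ?_⟩
          · intro h
            rw [h, hB v] at hv
            exact hv rfl
          · intro x hx
            exact stv_fix B hB _ (hU x hx v)
          · exact stv_move B hB hv
        · push Not at hc
          set v := v0 with hv
          have hrefl : B.IsRefl := hB.isRefl
          have hgv : g (g v) ≠ g v := fun h => hv0 (g.injective h)
          -- v ∉ U = orth (orth U)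
          have hnot1 : v ∉ B.orthogonal (B.orthogonal (fixS g)) := by
            rw [LinearMap.BilinForm.orthogonal_orthogonal hN hrefl]
            exact hv0
          have hnot2 : g v ∉ B.orthogonal (B.orthogonal (fixS g)) := by
            rw [LinearMap.BilinForm.orthogonal_orthogonal hN hrefl]
            exact hgv
          have e1 : ∃ y ∈ B.orthogonal (fixS g), B y v ≠ 0 := by
            by_contra hcon
            push Not at hcon
            exact hnot1 (LinearMap.BilinForm.mem_orthogonal_iff.mpr hcon)
          have e2 : ∃ y ∈ B.orthogonal (fixS g), B y (g v) ≠ 0 := by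
            by_contra hcon
            push Not at hcon
            exact hnot2 (LinearMap.BilinForm.mem_orthogonal_iff.mpr hcon)
          obtain ⟨y, hyU, hy1, hy2⟩ := exists_both_ne_zero B _ e1 e2
          have hyU' : ∀ x, g x = x → B x y = 0 := fun x hx =>
            LinearMap.BilinForm.mem_orthogonal_iff.mp hyU x hx
          have hw1 : B (g v) (v + y) ≠ 0 := by
            rw [map_add, hc v, zero_add]
            exact alt_ne_zero_comm B hB hy2
          have hw2 : B (v + y) v ≠ 0 := by
            rw [map_add, LinearMap.add_apply, hB v, zero_add]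
            exact hy1
          refine ⟨stv B hB ((v + y) - v) (B (v + y) v)⁻¹ * stv B hB (g v - (v + y)) (B (g v) (v + y))⁻¹,
            M.mul_mem (hM _ _) (hM _ _),
            (isoGroup B).mul_mem (stv_mem_isoGroup _ _ _ _) (stv_mem_isoGroup _ _ _ _), v, hv0, ?_, ?_⟩
          · intro x hx
            rw [LinearEquiv.mul_apply]
            have f1 : B x (g v - (v + y)) = 0 := by
              have := hU x hx v
              rw [map_sub] at this
              rw [map_sub, map_add, hyU' x hx, add_zero]
              exact this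
            have f2 : B x ((v + y) - v) = 0 := by
              rw [add_sub_cancel_left]; exact hyU' x hx
            rw [stv_fix B hB _ f1, stv_fix B hB _ f2]
          · rw [LinearEquiv.mul_apply, stv_move B hB hw1, stv_move B hB hw2]
      obtain ⟨t, htM, htI, v, hgv, htfix, htv⟩ := key
      have hlt : fixS g < fixS (t * g) := by
        apply lt_of_le_of_ne
        · intro x hx
          rw [mem_fixS] at hx ⊢
          rw [LinearEquiv.mul_apply, hx]
          exact htfix x hx
        · intro heq
          have : v ∈ fixS (t * g) := by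
            rw [mem_fixS, LinearEquiv.mul_apply]; exact htv
          rw [← heq] at this
          exact hgv this
      have hlt' := Submodule.finrank_lt_finrank_of_lt hlt
      have hle : finrank F (fixS (t * g)) ≤ finrank F V := Submodule.finrank_le _
      have hmem : t * g ∈ M :=
        ih (finrank F V - finrank F (fixS (t * g))) (by omega) (t * g)
          ((isoGroup B).mul_mem htI hg) rfl
      have : g = t⁻¹ * (t * g) := by group
      rw [this]
      exact M.mul_mem (M.inv_mem htM) hmem

include hB in
/-- The isometry group of a nondegenerate alternating form is generated by transvections. -/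
theorem isoGroup_le_of_stv_mem (hN : B.Nondegenerate) (M : Subgroup (V ≃ₗ[F] V))
    (hM : ∀ v c, stv B hB v c ∈ M) : isoGroup B ≤ M := fun g hg =>
  gen_aux B hB hN M hM _ g hg rfl

end Generation


section Transitivity

variable (B : LinearMap.BilinForm F V) (hB : B.IsAlt)

/-- `B` is nondegenerate on the subspace `W` (one-sided; enough for alternating forms). -/
def NondegOn (W : Submodule F V) : Prop := ∀ w ∈ W, w ≠ 0 → ∃ x ∈ W, B x w ≠ 0

/-- Inside a subspace on which `B` is nondegenerate, any nonzero vector can be moved to any other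
by a product of two transvections with centres in the subspace. -/
theorem exists_move {W : Submodule F V} (hND : NondegOn B W) {v v' : V} (hv : v ∈ W) (hv' : v' ∈ W)
    (h0 : v ≠ 0) (h0' : v' ≠ 0) :
    ∃ a ∈ W, ∃ c : F, ∃ a' ∈ W, ∃ c' : F, (stv B hB a' c' * stv B hB a c) v = v' := by
  by_cases h : B v v' = 0
  · obtain ⟨z, hzW, hz1, hz2⟩ := exists_both_ne_zero B W (hND v hv h0) (hND v' hv' h0')
    have hvz : B v z ≠ 0 := alt_ne_zero_comm B hB hz1
    refine ⟨v - z, W.sub_mem hv hzW, (B v z)⁻¹, z - v', W.sub_mem hzW hv', (B z v')⁻¹, ?_⟩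
    rw [LinearEquiv.mul_apply, stv_move B hB hvz, stv_move B hB hz2]
  · refine ⟨v - v', W.sub_mem hv hv', (B v v')⁻¹, 0, W.zero_mem, 0, ?_⟩
    rw [LinearEquiv.mul_apply, stv_move B hB h, stv_zero]
    rfl

end Transitivity

section Orth

variable (B : LinearMap.BilinForm F V)

lemma mem_orth {W : Submodule F V} {m : V} : m ∈ B.orthogonal W ↔ ∀ n ∈ W, B n m = 0 :=
  LinearMap.BilinForm.mem_orthogonal_iff

lemma orth_sup (A C : Submodule F V) : B.orthogonal (A ⊔ C) = B.orthogonal A ⊓ B.orthogonal C := by
  ext m
  rw [Submodule.mem_inf, mem_orth, mem_orth, mem_orth]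
  constructor
  · intro h
    exact ⟨fun n hn => h n (Submodule.mem_sup_left hn), fun n hn => h n (Submodule.mem_sup_right hn)⟩
  · rintro ⟨h1, h2⟩ n hn
    obtain ⟨a, ha, c, hc, rfl⟩ := Submodule.mem_sup.mp hn
    rw [map_add, LinearMap.add_apply, h1 a ha, h2 c hc, add_zero]

lemma orth_inf [FiniteDimensional F V] (hN : B.Nondegenerate) (hR : B.IsRefl) (A C : Submodule F V) :
    B.orthogonal (A ⊓ C) = B.orthogonal A ⊔ B.orthogonal C := by
  have h := orth_sup B (B.orthogonal A) (B.orthogonal C)
  rw [LinearMap.BilinForm.orthogonal_orthogonal hN hR, LinearMap.BilinForm.orthogonal_orthogonal hN hR] at h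
  rw [← h, LinearMap.BilinForm.orthogonal_orthogonal hN hR]

end Orth

section TotallyIsotropic

variable (B : LinearMap.BilinForm F V) (hB : B.IsAlt) [FiniteDimensional F V]

include hB in
/-- The stabiliser of a nonzero totally isotropic subspace is a maximal subgroup of the
symplectic group. -/
theorem maximal_stab_totally_isotropic (hN : B.Nondegenerate) (W : Submodule F V) (hW0 : W ≠ ⊥)
    (hW : ∀ u ∈ W, ∀ v ∈ W, B u v = 0) :
    (stab W ⊓ isoGroup B < isoGroup B) ∧
      ∀ M : Subgroup (V ≃ₗ[F] V), stab W ⊓ isoGroup B ≤ M → M ≤ isoGroup B →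
        M = stab W ⊓ isoGroup B ∨ M = isoGroup B := by
  have hR : B.IsRefl := hB.isRefl
  constructor
  · -- proper
    refine lt_of_le_of_ne inf_le_right ?_
    intro heq
    obtain ⟨w, hwW, hw0⟩ := Submodule.exists_mem_ne_zero_of_ne_bot hW0
    have : ∃ z, B w z ≠ 0 := by
      by_contra hcon
      push Not at hcon
      exact hw0 (hN.1 w hcon)
    obtain ⟨z, hz⟩ := this
    have hg : stv B hB (w - z) (B w z)⁻¹ ∈ stab W ⊓ isoGroup B := by
      rw [heq]; exact stv_mem_isoGroup _ _ _ _
    have hgw := (mem_stab.mp hg.1 w).mp hwW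
    rw [stv_move B hB hz] at hgw
    exact hz (hW w hwW z hgw)
  · intro M hHM hMK
    set T := TV B hB M with hT
    -- the family
    let P : Submodule F V → Prop := fun W2 => W2 ≤ B.orthogonal W2 ∧ ∀ a ∈ B.orthogonal W2, a ∈ T
    have hPW : P W := by
      refine ⟨fun u hu => (mem_orth B).mpr (fun n hn => hW n hn u hu), ?_⟩
      intro a ha c
      apply hHM
      refine ⟨mem_stab_of_forall_mem ?_, stv_mem_isoGroup _ _ _ _⟩
      intro v hv
      rw [stv_fix B hB c ((mem_orth B).mp ha v hv)]
      exact hv
    -- key closure property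
    have hB3 : ∀ W2, P W2 → ∀ u ∈ T, u ∉ B.orthogonal W2 → ∀ y ∈ B.orthogonal W2, u + y ∈ T := by
      intro W2 hP u hu hunot y hy
      have : ∃ w ∈ W2, B w u ≠ 0 := by
        by_contra hcon
        push Not at hcon
        exact hunot ((mem_orth B).mpr hcon)
      obtain ⟨w, hwW2, hwu⟩ := this
      have huw : B u w ≠ 0 := alt_ne_zero_comm B hB hwu
      by_cases hcase : B u y = 0
      · have hyw : y + w ∈ B.orthogonal W2 := Submodule.add_mem _ hy (hP.1 hwW2)
        have h1 : B u (y + w) ≠ 0 := by
          rw [map_add, hcase, zero_add]; exact huw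
        have h2 : u + (y + w) ∈ T := TV_add (hP.2 _ hyw) hu h1
        have hwT : w ∈ T := hP.2 w (hP.1 hwW2)
        have hyw0 : B y w = 0 := by
          rw [alt_swap B hB, (mem_orth B).mp hy w hwW2, neg_zero]
        have h3 : B (u + (y + w)) w ≠ 0 := by
          rw [map_add, map_add, LinearMap.add_apply, LinearMap.add_apply, hyw0, hB w, add_zero,
            add_zero]
          exact huw
        have h4 := TV_add_smul hwT h2 h3 (-1)
        have e : u + (y + w) + (-1 : F) • w = u + y := by
          rw [neg_one_smul]; abel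
        rwa [e] at h4
      · exact TV_add (hP.2 y hy) hu hcase
    -- closed under intersections
    have hB4 : ∀ W2 W3, P W2 → P W3 → P (W2 ⊓ W3) := by
      intro W2 W3 h2 h3
      refine ⟨le_trans inf_le_left (le_trans h2.1
        (LinearMap.BilinForm.orthogonal_le inf_le_left)), ?_⟩
      intro a ha
      rw [orth_inf B hN hR] at ha
      obtain ⟨y2, hy2, y3, hy3, rfl⟩ := Submodule.mem_sup.mp ha
      by_cases hc : y3 ∈ B.orthogonal W2
      · exact h2.2 _ (Submodule.add_mem _ hy2 hc)
      · have := hB3 W2 h2 y3 (h3.2 y3 hy3) hc y2 hy2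
        rwa [add_comm] at this
    -- invariance under M
    have hB5 : ∀ W2, P W2 → ∀ g ∈ M, P (W2.map (g : V →ₗ[F] V)) := by
      intro W2 hP g hgM
      have hgK : g ∈ isoGroup B := hMK hgM
      have horth : ∀ m, m ∈ B.orthogonal (W2.map (g : V →ₗ[F] V)) → g⁻¹ m ∈ B.orthogonal W2 := by
        intro m hm
        rw [mem_orth] at hm ⊢
        intro n hn
        have := hm (g n) (Submodule.mem_map_of_mem hn)
        rw [← apply_inv_apply' g m, mem_isoGroup.mp hgK] at this
        exact this
      constructor
      · rintro _ ⟨x, hx, rfl⟩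
        rw [mem_orth]
        rintro _ ⟨n, hn, rfl⟩
        rw [LinearEquiv.coe_coe, mem_isoGroup.mp hgK]
        exact (mem_orth B).mp (hP.1 hx) n hn
      · intro a ha
        have h1 := hP.2 _ (horth a ha)
        have h2 := TV_map hgM hgK h1
        rwa [apply_inv_apply'] at h2
    -- a member of minimal dimension
    have hex : ∃ n, ∃ W2, P W2 ∧ finrank F W2 = n := ⟨_, W, hPW, rfl⟩
    classical
    obtain ⟨Wm, hPm, hWm⟩ := Nat.find_spec hex
    have hmin : ∀ W2, P W2 → finrank F Wm ≤ finrank F W2 := by
      intro W2 hP2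
      rw [hWm]
      exact Nat.find_min' hex ⟨W2, hP2, rfl⟩
    have hinf : ∀ W2, P W2 → Wm ≤ W2 := by
      intro W2 hP2
      have h1 := hmin _ (hB4 Wm W2 hPm hP2)
      have h2 : Wm ⊓ W2 = Wm :=
        Submodule.eq_of_le_of_finrank_le inf_le_left h1
      rw [← h2]; exact inf_le_right
    have hWmW : Wm ≤ W := hinf W hPW
    have hMstab : M ≤ stab Wm := by
      intro g hg
      apply mem_stab_of_forall_mem
      intro x hx
      have h1 := hinf _ (hB5 Wm hPm g⁻¹ (M.inv_mem hg)) hx
      obtain ⟨x', hx', hxx'⟩ := h1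
      rw [LinearEquiv.coe_coe] at hxx'
      rw [← hxx', apply_inv_apply']
      exact hx'
    by_cases hbot : Wm = ⊥
    · right
      apply le_antisymm hMK
      apply isoGroup_le_of_stv_mem B hB hN
      intro v c
      have : v ∈ B.orthogonal Wm := by
        rw [hbot, LinearMap.BilinForm.orthogonal_bot]; trivial
      exact hPm.2 v this c
    · by_cases htop : Wm = W
      · left
        apply le_antisymm _ hHM
        intro g hg
        exact ⟨htop ▸ hMstab hg, hMK hg⟩
      · exfalso
        obtain ⟨w1, hw1, hw10⟩ := Submodule.exists_mem_ne_zero_of_ne_bot hbot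
        have hlt : Wm < W := lt_of_le_of_ne hWmW htop
        obtain ⟨w2, hw2W, hw2⟩ := SetLike.exists_of_lt hlt
        set a := w2 - w1 with ha
        have haW : a ∈ W := W.sub_mem hw2W (hWmW hw1)
        -- find z with B a z = 0 and B w1 z ≠ 0
        have hz : ∃ z, B a z = 0 ∧ B w1 z ≠ 0 := by
          by_contra hcon
          push Not at hcon
          have hmem : w1 ∈ B.orthogonal (B.orthogonal (Submodule.span F {a})) := by
            rw [mem_orth]
            intro z hz
            have hz' : B a z = 0 := (mem_orth B).mp hz a (Submodule.mem_span_singleton_self a)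
            rw [alt_swap B hB, hcon z hz', neg_zero]
          rw [LinearMap.BilinForm.orthogonal_orthogonal hN hR] at hmem
          obtain ⟨c, hc⟩ := Submodule.mem_span_singleton.mp hmem
          -- c • (w2 - w1) = w1
          by_cases hc0 : c = 0
          · rw [hc0, zero_smul] at hc
            exact hw10 hc.symm
          · apply hw2
            have : w2 = (c⁻¹ * (1 + c)) • w1 := by
              have h1 : c • w2 = (1 + c) • w1 := by
                rw [ha, smul_sub] at hc
                calc c • w2 = (c • w2 - c • w1) + c • w1 := by abel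
                  _ = w1 + c • w1 := by rw [hc]
                  _ = (1 + c) • w1 := by rw [add_smul, one_smul]
              rw [mul_smul, ← h1, smul_smul, inv_mul_cancel₀ hc0, one_smul]
            rw [this]
            exact Wm.smul_mem _ hw1
        obtain ⟨z0, hz0a, hz0w⟩ := hz
        obtain ⟨z, hza, hzw⟩ : ∃ z, B a z = 0 ∧ B w1 z = 1 := by
          refine ⟨(B w1 z0)⁻¹ • z0, ?_, ?_⟩
          · rw [map_smul, hz0a, smul_zero]
          · rw [map_smul, smul_eq_mul, inv_mul_cancel₀ hz0w]
        have hzz : B z z = 0 := hB z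
        have haz' : B z a = 0 := by rw [alt_swap B hB, hza, neg_zero]
        -- the element h
        set h := stv B hB z (-1) * stv B hB (z + a) 1 with hh
        have hact : ∀ x ∈ W, h x = x + (B x z) • a := by
          intro x hx
          have hxa : B x a = 0 := hW x hx a haW
          rw [hh, LinearEquiv.mul_apply, stv_apply, stv_apply]
          simp only [map_add, map_smul, LinearMap.add_apply, LinearMap.smul_apply, smul_eq_mul,
            hxa, hzz, hza, add_zero, one_mul, mul_zero, neg_mul]
          module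
        have hhH : h ∈ stab W ⊓ isoGroup B := by
          refine ⟨mem_stab_of_forall_mem ?_, (isoGroup B).mul_mem (stv_mem_isoGroup _ _ _ _)
            (stv_mem_isoGroup _ _ _ _)⟩
          intro x hx
          rw [hact x hx]
          exact W.add_mem hx (W.smul_mem _ haW)
        have hhw1 : h w1 = w2 := by
          rw [hact w1 (hWmW hw1), hzw, one_smul, ha]; abel
        have := (mem_stab.mp (hMstab (hHM hhH)) w1).mp hw1
        rw [hhw1] at this
        exact hw2 this

end TotallyIsotropic

end Cfsg.Agent.Lib.Helper94_Symp
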