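import Mathlib
import Cfsg.Agent.Lib.Helper94_Symp

set_option autoImplicit false

/-!
Quadratic maps `Q : V → F` with polar form `B`, their isometry groups, reflections, and the
non-maximality (over fields with at most three elements) of the stabiliser of a hyperbolic plane
inside the derived subgroup of the isometry group.
-/

namespace Cfsg.Agent.Lib.Helper94_OrthSmall

open Module Cfsg.Agent.Lib.Helper94_Symp
open scoped commutatorElement

variable {F V : Type*} [Field F] [AddCommGroup V] [Module F V]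

/-- The linear automorphisms preserving the map `Q`. -/
def oG (Q : V → F) : Subgroup (V ≃ₗ[F] V) where
  carrier := {g | ∀ v, Q (g v) = Q v}
  mul_mem' := by
    intro a b ha hb v
    rw [LinearEquiv.mul_apply, ha, hb]
  one_mem' := fun v => rfl
  inv_mem' := by
    intro g hg v
    have := hg (g⁻¹ v)
    rw [apply_inv_apply'] at this
    exact this.symm

lemma mem_oG {Q : V → F} {g : V ≃ₗ[F] V} : g ∈ oG Q ↔ ∀ v, Q (g v) = Q v := Iff.rfl

section Basic

variable (Q : V → F) (B : LinearMap.BilinForm F V)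
  (hQs : ∀ (c : F) (v : V), Q (c • v) = c * c * Q v)
  (hQp : ∀ u v : V, Q (u + v) = Q u + Q v + B u v)

include hQp in
lemma B_eq (u v : V) : B u v = Q (u + v) - Q u - Q v := by
  rw [hQp]; ring

include hQp in
lemma B_symm (u v : V) : B u v = B v u := by
  rw [B_eq Q B hQp, B_eq Q B hQp v u, add_comm]; ring

include hQs hQp in
lemma B_self (a : V) : B a a = 2 * Q a := by
  have h1 := hQp a a
  have h2 := hQs 2 a
  rw [two_smul] at h2
  rw [h2] at h1
  linear_combination -h1

include hQs in
lemma Q_zero : Q 0 = 0 := by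
  have := hQs 0 0
  rw [zero_smul, zero_mul, zero_mul] at this
  exact this

include hQs hQp in
lemma Q_add_smul (x a : V) (c : F) : Q (x + c • a) = Q x + c * c * Q a + c * B x a := by
  rw [hQp, hQs, map_smul, smul_eq_mul]

include hQp in
lemma oG_B {g : V ≃ₗ[F] V} (hg : g ∈ oG Q) (u v : V) : B (g u) (g v) = B u v := by
  rw [B_eq Q B hQp, B_eq Q B hQp u v, ← map_add, hg, hg, hg]

/-- The reflection in `a`, as a linear map. -/
def reflLin (a : V) : V →ₗ[F] V := LinearMap.id - ((Q a)⁻¹ • (B.flip a)).smulRight a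

lemma reflLin_apply (a x : V) : reflLin Q B a x = x - ((Q a)⁻¹ * B x a) • a := by
  simp [reflLin]

include hQs hQp in
lemma reflLin_invol {a : V} (ha : Q a ≠ 0) : Function.Involutive (reflLin Q B a) := by
  intro x
  rw [reflLin_apply, reflLin_apply, map_sub, map_smul, LinearMap.sub_apply, LinearMap.smul_apply,
    B_self Q B hQs hQp a, smul_eq_mul]
  have : (Q a)⁻¹ * (B x a - (Q a)⁻¹ * B x a * (2 * Q a)) = -((Q a)⁻¹ * B x a) := by
    field_simp
    ring
  rw [this, neg_smul]
  abel

/-- The reflection in a nonsingular vector. -/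
def refl {a : V} (ha : Q a ≠ 0) : V ≃ₗ[F] V :=
  LinearEquiv.ofInvolutive (reflLin Q B a) (reflLin_invol Q B hQs hQp ha)

lemma refl_apply {a : V} (ha : Q a ≠ 0) (x : V) :
    refl Q B hQs hQp ha x = x - ((Q a)⁻¹ * B x a) • a := by
  simp [refl, reflLin_apply]

lemma refl_mem {a : V} (ha : Q a ≠ 0) : refl Q B hQs hQp ha ∈ oG Q := by
  intro x
  rw [refl_apply, sub_eq_add_neg, ← neg_smul, Q_add_smul Q B hQs hQp]
  field_simp
  ring

lemma refl_inv {a : V} (ha : Q a ≠ 0) : (refl Q B hQs hQp ha)⁻¹ = refl Q B hQs hQp ha := by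
  apply inv_eq_of_mul_eq_one_right
  ext x
  rw [LinearEquiv.mul_apply]
  exact reflLin_invol Q B hQs hQp ha x

lemma conj_refl {g : V ≃ₗ[F] V} (hg : g ∈ oG Q) {a : V} (ha : Q a ≠ 0) :
    g * refl Q B hQs hQp ha * g⁻¹ =
      refl Q B hQs hQp (a := g a) (by rw [hg]; exact ha) := by
  ext x
  simp only [LinearEquiv.mul_apply, refl_apply, map_sub, map_smul, apply_inv_apply']
  rw [hg a]
  have : B (g⁻¹ x) a = B x (g a) := by
    rw [← oG_B Q B hQp hg, apply_inv_apply']
  rw [this]

lemma comm_refl {a b : V} (ha : Q a ≠ 0) (hb : Q b ≠ 0) :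
    ⁅refl Q B hQs hQp ha, refl Q B hQs hQp hb⁆ =
      refl Q B hQs hQp ha * refl Q B hQs hQp (a := refl Q B hQs hQp hb a)
        (by rw [refl_mem Q B hQs hQp hb]; exact ha) := by
  rw [commutatorElement_def, ← conj_refl Q B hQs hQp (refl_mem Q B hQs hQp hb) ha,
    refl_inv Q B hQs hQp ha]
  group

lemma comm_refl_apply {a b : V} (ha : Q a ≠ 0) (hb : Q b ≠ 0) (x : V) :
    ⁅refl Q B hQs hQp ha, refl Q B hQs hQp hb⁆ x =
      (x - ((Q a)⁻¹ * B x (a - ((Q b)⁻¹ * B a b) • b)) • (a - ((Q b)⁻¹ * B a b) • b)) -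
        ((Q a)⁻¹ * B (x - ((Q a)⁻¹ * B x (a - ((Q b)⁻¹ * B a b) • b)) •
          (a - ((Q b)⁻¹ * B a b) • b)) a) • a := by
  have h1 : ∀ v, Q (refl Q B hQs hQp hb v) = Q v := refl_mem Q B hQs hQp hb
  rw [comm_refl, LinearEquiv.mul_apply, refl_apply Q B hQs hQp ha, refl_apply Q B hQs hQp _ x,
    h1, refl_apply Q B hQs hQp hb a]

end Basic

section Main

variable [FiniteDimensional F V] (Q : V → F) (B : LinearMap.BilinForm F V)
  (hQs : ∀ (c : F) (v : V), Q (c • v) = c * c * Q v)
  (hQp : ∀ u v : V, Q (u + v) = Q u + Q v + B u v)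

include hQp in
lemma B_isRefl : B.IsRefl := LinearMap.BilinForm.IsSymm.isRefl ⟨B_symm Q B hQp⟩

include hQp in
/-- The orthogonal of a small subspace contains a nonsingular vector. -/
lemma exists_nonsing (hN : B.Nondegenerate) (S : Submodule F V)
    (hS : 2 * finrank F S < finrank F V) : ∃ w ∈ B.orthogonal S, Q w ≠ 0 := by
  by_contra hcon
  push Not at hcon
  have hR := B_isRefl Q B hQp
  have hle : B.orthogonal S ≤ B.orthogonal (B.orthogonal S) := by
    intro w hw
    rw [mem_orth]
    intro n hn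
    rw [B_eq Q B hQp, hcon _ (Submodule.add_mem _ hn hw), hcon n hn, hcon w hw]
    ring
  rw [LinearMap.BilinForm.orthogonal_orthogonal hN hR] at hle
  have := Submodule.finrank_mono hle
  have hfr := LinearMap.BilinForm.finrank_orthogonal hN S
  omega

include hQs hQp in
/-- Over a field with at most three elements, `Q` takes every value on the orthogonal of a
small subspace. -/
lemma exists_univ (hN : B.Nondegenerate) (hF : ∀ c : F, c = 0 ∨ c = 1 ∨ c = -1)
    (S : Submodule F V) (hS : 2 * (finrank F S + 1) < finrank F V) (τ : F) :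
    ∃ w ∈ B.orthogonal S, Q w = τ := by
  by_cases hτ : τ = 0
  · exact ⟨0, Submodule.zero_mem _, by rw [Q_zero Q hQs, hτ]⟩
  obtain ⟨w0, hw0, hq0⟩ := exists_nonsing Q B hQp hN S (by omega)
  have hτ' : τ = 1 ∨ τ = -1 := (hF τ).resolve_left hτ
  have hq0' : Q w0 = 1 ∨ Q w0 = -1 := (hF _).resolve_left hq0
  by_cases h1 : Q w0 = τ
  · exact ⟨w0, hw0, h1⟩
  have hneg : Q w0 = -τ := by
    rcases hτ' with h | h <;> rcases hq0' with h' | h'
    · exact absurd (h'.trans h.symm) h1
    · rw [h', h]
    · rw [h', h, neg_neg]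
    · exact absurd (h'.trans h.symm) h1
  have h11 : (1 : F) ≠ -1 := by
    intro h
    apply h1
    rw [hneg, ← neg_one_mul, ← h, one_mul]
  have h3 : (3 : F) = 0 := by
    rcases hF (1 + 1) with h | h | h
    · exfalso; apply h11; linear_combination h
    · exfalso; exact one_ne_zero (by linear_combination h : (1 : F) = 0)
    · linear_combination h
  have hw00 : w0 ≠ 0 := by
    rintro rfl
    exact hq0 (Q_zero Q hQs)
  have hfr2 : finrank F (S ⊔ Submodule.span F {w0} : Submodule F V) ≤ finrank F S + 1 := by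
    have h1 := Submodule.finrank_add_le_finrank_add_finrank S (Submodule.span F {w0})
    have h2 := finrank_span_singleton hw00 (K := F)
    omega
  obtain ⟨w2, hw2, hq2⟩ := exists_nonsing Q B hQp hN (S ⊔ Submodule.span F {w0}) (by omega)
  have hw2S : w2 ∈ B.orthogonal S := LinearMap.BilinForm.orthogonal_le le_sup_left hw2
  have hw02 : B w0 w2 = 0 := (mem_orth B).mp hw2 w0
    (Submodule.mem_sup_right (Submodule.mem_span_singleton_self w0))
  by_cases h2 : Q w2 = τ
  · exact ⟨w2, hw2S, h2⟩
  have hq2' : Q w2 = 1 ∨ Q w2 = -1 := (hF _).resolve_left hq2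
  have hneg2 : Q w2 = -τ := by
    rcases hτ' with h | h <;> rcases hq2' with h' | h'
    · exact absurd (h'.trans h.symm) h2
    · rw [h', h]
    · rw [h', h, neg_neg]
    · exact absurd (h'.trans h.symm) h2
  refine ⟨w0 + w2, Submodule.add_mem _ hw0 hw2S, ?_⟩
  rw [hQp, hneg, hneg2, hw02]
  linear_combination (-τ) * h3

include hQs hQp in
lemma exists_pair (hN : B.Nondegenerate) (hF : ∀ c : F, c = 0 ∨ c = 1 ∨ c = -1)
    (hdim : 13 ≤ finrank F V) (W : Submodule F V) (hW2 : finrank F W = 2)
    (hWnd : ∀ w ∈ W, w ≠ 0 → ∃ x ∈ W, B x w ≠ 0) {z' : V} (hz' : z' ∈ B.orthogonal W)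
    (hz'0 : z' ≠ 0) (τ : F) : ∃ z ∈ B.orthogonal W, B z z' = 1 ∧ Q z = τ := by
  have hR := B_isRefl Q B hQp
  have hsym := B_symm Q B hQp
  have hcompl : IsCompl W (B.orthogonal W) := by
    have hdisj : W ⊓ B.orthogonal W = ⊥ := by
      rw [eq_bot_iff]
      intro z hz
      obtain ⟨hz1, hz2⟩ := Submodule.mem_inf.mp hz
      by_contra hz0
      obtain ⟨y, hy, hyz⟩ := hWnd z hz1 hz0
      exact hyz ((mem_orth B).mp hz2 y hy)
    exact (LinearMap.BilinForm.isCompl_orthogonal_iff_disjoint hR).mpr (disjoint_iff.mpr hdisj)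
  have hx : ∃ x, B x z' ≠ 0 := by
    by_contra hcon
    push Not at hcon
    exact hz'0 (hN.2 z' hcon)
  obtain ⟨x, hx⟩ := hx
  have hxmem : x ∈ W ⊔ B.orthogonal W := by rw [hcompl.sup_eq_top]; trivial
  obtain ⟨a, ha, u, hu, rfl⟩ := Submodule.mem_sup.mp hxmem
  have hau : B u z' ≠ 0 := by
    rw [map_add, LinearMap.add_apply, (mem_orth B).mp hz' a ha, zero_add] at hx
    exact hx
  have hz0mem : (B u z')⁻¹ • u ∈ B.orthogonal W := Submodule.smul_mem _ _ hu
  have hz0 : B ((B u z')⁻¹ • u) z' = 1 := by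
    rw [map_smul, LinearMap.smul_apply, smul_eq_mul, inv_mul_cancel₀ hau]
  have hz00 : (B u z')⁻¹ • u ≠ 0 := by
    intro h
    rw [h, map_zero, LinearMap.zero_apply] at hz0
    exact zero_ne_one hz0
  have hfr : finrank F (W ⊔ Submodule.span F {z'} ⊔ Submodule.span F {(B u z')⁻¹ • u} :
      Submodule F V) ≤ 4 := by
    have h1 := Submodule.finrank_add_le_finrank_add_finrank (W ⊔ Submodule.span F {z'})
      (Submodule.span F {(B u z')⁻¹ • u})
    have h2 := Submodule.finrank_add_le_finrank_add_finrank W (Submodule.span F {z'})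
    have h3 := finrank_span_singleton hz'0 (K := F)
    have h4 := finrank_span_singleton hz00 (K := F)
    omega
  obtain ⟨w, hw, hQw⟩ := exists_univ Q B hQs hQp hN hF
    (W ⊔ Submodule.span F {z'} ⊔ Submodule.span F {(B u z')⁻¹ • u}) (by omega)
    (τ - Q ((B u z')⁻¹ • u))
  have hwW : w ∈ B.orthogonal W :=
    LinearMap.BilinForm.orthogonal_le (le_trans le_sup_left le_sup_left) hw
  have hwz' : B z' w = 0 := (mem_orth B).mp hw z'
    (Submodule.mem_sup_left (Submodule.mem_sup_right (Submodule.mem_span_singleton_self z')))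
  have hwz0 : B ((B u z')⁻¹ • u) w = 0 := (mem_orth B).mp hw _
    (Submodule.mem_sup_right (Submodule.mem_span_singleton_self _))
  refine ⟨(B u z')⁻¹ • u + w, Submodule.add_mem _ hz0mem hwW, ?_, ?_⟩
  · rw [map_add, LinearMap.add_apply, hz0, hsym w z', hwz', add_zero]
  · rw [hQp, hQw, hwz0]
    ring

end Main

section Plane

variable [FiniteDimensional F V] (Q : V → F) (B : LinearMap.BilinForm F V)
  (hQs : ∀ (c : F) (v : V), Q (c • v) = c * c * Q v)
  (hQp : ∀ u v : V, Q (u + v) = Q u + Q v + B u v)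

include hQs hQp in
/-- Over a field with at most three elements, the stabiliser of a hyperbolic plane in the derived
subgroup of the isometry group is not maximal: it lies strictly inside the stabiliser of a
nonsingular point of the plane. -/
theorem not_maximal_plane (hN : B.Nondegenerate) (hF : ∀ c : F, c = 0 ∨ c = 1 ∨ c = -1)
    (hdim : 13 ≤ finrank F V) (W : Submodule F V) (hW2 : finrank F W = 2)
    (hWnd : ∀ w ∈ W, w ≠ 0 → ∃ x ∈ W, B x w ≠ 0) {e : V} (heW : e ∈ W) (he0 : e ≠ 0)
    (hQe : Q e = 0) :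
    ∃ K : Subgroup (V ≃ₗ[F] V), stab W ⊓ ⁅oG Q, oG Q⁆ < K ∧ K < ⁅oG Q, oG Q⁆ := by
  have hsym := B_symm Q B hQp
  have hself := B_self Q B hQs hQp
  -- a hyperbolic partner of e inside W
  obtain ⟨x, hxW, hxe⟩ := hWnd e heW he0
  have hex : B e x ≠ 0 := by rw [hsym]; exact hxe
  have hee : B e e = 0 := by rw [hself, hQe, mul_zero]
  obtain ⟨f, hfW, hQf, hef⟩ : ∃ f ∈ W, Q f = 0 ∧ B e f = 1 := by
    refine ⟨(B e x)⁻¹ • (x + (-(Q x / B x e)) • e),
      W.smul_mem _ (W.add_mem hxW (W.smul_mem _ heW)), ?_, ?_⟩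
    · rw [hQs, Q_add_smul Q B hQs hQp, hQe]
      field_simp
      ring
    · rw [map_smul, map_add, map_smul, hee, smul_eq_mul, smul_eq_mul, mul_zero, add_zero,
        inv_mul_cancel₀ hex]
  have hfe : B f e = 1 := by rw [hsym]; exact hef
  have hff : B f f = 0 := by rw [hself, hQf, mul_zero]
  have hQpp : Q (e + f) = 1 := by rw [hQp, hQe, hQf, hef]; ring
  -- coordinates in W
  have hWdec : ∀ w ∈ W, ∃ c : F, w = c • e + B e w • f := by
    intro w hw
    set X : Submodule F V := W ⊓ LinearMap.ker (B e) with hX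
    have heX : e ∈ X := ⟨heW, by rw [SetLike.mem_coe, LinearMap.mem_ker]; exact hee⟩
    have hlt : X < W := by
      refine lt_of_le_of_ne inf_le_left ?_
      intro heq
      have hfX : f ∈ X := by rw [heq]; exact hfW
      have := hfX.2
      rw [SetLike.mem_coe, LinearMap.mem_ker, hef] at this
      exact one_ne_zero this
    have hfin : finrank F X ≤ 1 := by
      have := Submodule.finrank_lt_finrank_of_lt hlt
      omega
    obtain ⟨v0, hv0⟩ := finrank_le_one_iff.mp hfin
    obtain ⟨ce, hce⟩ := hv0 ⟨e, heX⟩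
    have hce' : ce • (v0 : V) = e := congrArg Subtype.val hce
    have hce0 : ce ≠ 0 := by
      rintro rfl
      rw [zero_smul] at hce'
      exact he0 hce'.symm
    have hw'X : w - B e w • f ∈ X := by
      refine ⟨W.sub_mem hw (W.smul_mem _ hfW), ?_⟩
      rw [SetLike.mem_coe, LinearMap.mem_ker, map_sub, map_smul, hef, smul_eq_mul, mul_one,
        sub_self]
    obtain ⟨c, hc⟩ := hv0 ⟨w - B e w • f, hw'X⟩
    have hc' : c • (v0 : V) = w - B e w • f := congrArg Subtype.val hc
    refine ⟨c * ce⁻¹, ?_⟩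
    have hv0e : (v0 : V) = ce⁻¹ • e := by
      rw [← hce', smul_smul, inv_mul_cancel₀ hce0, one_smul]
    rw [hv0e, smul_smul] at hc'
    rw [hc']
    abel
  -- the orthogonal complement of W
  have horthe : ∀ z ∈ B.orthogonal W, B e z = 0 := fun z hz => (mem_orth B).mp hz e heW
  have horthf : ∀ z ∈ B.orthogonal W, B f z = 0 := fun z hz => (mem_orth B).mp hz f hfW
  have hΩle : ⁅oG Q, oG Q⁆ ≤ oG Q := Subgroup.commutator_le_self (oG Q)
  -- stabiliser of the plane fixes the nonsingular point
  have hle : stab W ⊓ ⁅oG Q, oG Q⁆ ≤ stab (Submodule.span F {e + f}) ⊓ ⁅oG Q, oG Q⁆ := by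
    rintro g ⟨hgW, hgΩ⟩
    refine ⟨?_, hgΩ⟩
    have hgO := hΩle hgΩ
    have hgp : g (e + f) ∈ W := (mem_stab.mp hgW _).mp (W.add_mem heW hfW)
    obtain ⟨c, hc⟩ := hWdec _ hgp
    have hq : Q (g (e + f)) = 1 := by rw [hgO, hQpp]
    rw [hc, hQp, hQs, hQs, hQe, hQf, map_smul, map_smul, LinearMap.smul_apply, hef] at hq
    have hcd : c * B e (g (e + f)) = 1 := by
      simp only [smul_eq_mul] at hq
      linear_combination hq
    have hceq : B e (g (e + f)) = c := by
      rcases hF c with h | h | h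
      · rw [h, zero_mul] at hcd
        exact absurd hcd zero_ne_one
      · rw [h, one_mul] at hcd
        rw [hcd, h]
      · rw [h] at hcd
        rw [h]
        linear_combination -hcd
    apply mem_stab_of_forall_mem
    intro v hv
    obtain ⟨k, rfl⟩ := Submodule.mem_span_singleton.mp hv
    rw [map_smul, hc, hceq, ← smul_add]
    exact Submodule.smul_mem _ _ (Submodule.smul_mem _ _ (Submodule.mem_span_singleton_self _))
  -- a nonsingular vector of the complement
  obtain ⟨zn, hznW, hQzn⟩ := exists_nonsing Q B hQp hN W (by omega)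
  have hzn0 : zn ≠ 0 := by
    rintro rfl
    exact hQzn (Q_zero Q hQs)
  have hezn := horthe zn hznW
  have hfzn := horthf zn hznW
  refine ⟨stab (Submodule.span F {e + f}) ⊓ ⁅oG Q, oG Q⁆, lt_of_le_of_ne hle ?_,
    lt_of_le_of_ne inf_le_right ?_⟩
  · -- an element of the point stabiliser moving the plane
    intro heq
    obtain ⟨z, hzW, hzzn, hQz⟩ := exists_pair Q B hQs hQp hN hF hdim W hW2 hWnd hznW hzn0 0
    have hez := horthe z hzW
    have hfz := horthf z hzW
    have hzz : B z z = 0 := by rw [hself, hQz, mul_zero]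
    have hznz : B zn z = 1 := by rw [hsym]; exact hzzn
    -- a = e - f + z, b = zn
    have hQa : Q (e + (-1 : F) • f + z) = -1 := by
      rw [hQp, Q_add_smul Q B hQs hQp, hQe, hQf, hQz, hef, map_add, map_smul,
        LinearMap.add_apply, LinearMap.smul_apply, hez, hfz]
      simp only [smul_eq_mul]
      ring
    have hQa0 : Q (e + (-1 : F) • f + z) ≠ 0 := by rw [hQa]; exact neg_ne_zero.mpr one_ne_zero
    have hmem : ⁅refl Q B hQs hQp hQa0, refl Q B hQs hQp hQzn⁆ ∈
        stab (Submodule.span F {e + f}) ⊓ ⁅oG Q, oG Q⁆ := by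
      refine ⟨?_, Subgroup.commutator_mem_commutator (refl_mem Q B hQs hQp hQa0)
        (refl_mem Q B hQs hQp hQzn)⟩
      apply mem_stab_of_forall_mem
      intro v hv
      obtain ⟨k, rfl⟩ := Submodule.mem_span_singleton.mp hv
      have hfix : ⁅refl Q B hQs hQp hQa0, refl Q B hQs hQp hQzn⁆ (e + f) = e + f := by
        rw [comm_refl_apply]
        simp only [map_add, map_sub, map_smul, map_neg, LinearMap.add_apply, LinearMap.sub_apply,
          LinearMap.smul_apply, LinearMap.neg_apply, smul_eq_mul, hee, hef, hfe, hff, hez, hfz,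
          hezn, hfzn, hsym z e, hsym z f, hsym zn e, hsym zn f]
        simp
      rw [map_smul, hfix]
      exact Submodule.smul_mem _ _ (Submodule.mem_span_singleton_self _)
    rw [← heq] at hmem
    have hgW := hmem.1
    have hgeW : ⁅refl Q B hQs hQp hQa0, refl Q B hQs hQp hQzn⁆ e ∈ W :=
      (mem_stab.mp hgW e).mp heW
    have hzero : B (⁅refl Q B hQs hQp hQa0, refl Q B hQs hQp hQzn⁆ e) z = 0 :=
      (mem_orth B).mp hzW _ hgeW
    rw [comm_refl_apply] at hzero
    simp only [map_add, map_sub, map_smul, map_neg, LinearMap.add_apply, LinearMap.sub_apply,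
      LinearMap.smul_apply, LinearMap.neg_apply, smul_eq_mul, hee, hef, hfe, hff, hez, hfz,
      hezn, hfzn, hsym z e, hsym z f, hsym zn e, hsym zn f, hzz, hznz, hzzn, hQa] at hzero
    field_simp at hzero
    ring_nf at hzero
    exact hQzn hzero
  · -- an element of the derived subgroup moving the nonsingular point
    intro heq
    obtain ⟨z, hzW, hzzn, hQz⟩ := exists_pair Q B hQs hQp hN hF hdim W hW2 hWnd hznW hzn0
      (-Q zn)
    have hez := horthe z hzW
    have hfz := horthf z hzW
    have hznz : B zn z = 1 := by rw [hsym]; exact hzzn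
    have hQz0 : Q z ≠ 0 := by rw [hQz]; exact neg_ne_zero.mpr hQzn
    have hQb : Q (e + z) = Q z := by rw [hQp, hQe, hez]; ring
    have hQb0 : Q (e + z) ≠ 0 := by rw [hQb]; exact hQz0
    have hqq : Q zn * Q zn = 1 := by
      rcases (hF (Q zn)).resolve_left hQzn with h | h <;> rw [h] <;> ring
    have h5 : (5 : F) ≠ 0 := by
      rcases hF 2 with h | h | h
      · intro h5
        exact one_ne_zero (by linear_combination h5 - 2 * h : (1 : F) = 0)
      · exfalso
        exact one_ne_zero (by linear_combination h : (1 : F) = 0)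
      · intro h5
        exact one_ne_zero (by linear_combination 2 * h - h5 : (1 : F) = 0)
    have hmem : ⁅refl Q B hQs hQp hQzn, refl Q B hQs hQp hQb0⁆ ∈ ⁅oG Q, oG Q⁆ :=
      Subgroup.commutator_mem_commutator (refl_mem Q B hQs hQp hQzn) (refl_mem Q B hQs hQp hQb0)
    rw [← heq] at hmem
    have hgp : ⁅refl Q B hQs hQp hQzn, refl Q B hQs hQp hQb0⁆ (e + f) ∈
        Submodule.span F {e + f} :=
      (mem_stab.mp hmem.1 _).mp (Submodule.mem_span_singleton_self _)
    obtain ⟨k, hk⟩ := Submodule.mem_span_singleton.mp hgp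
    -- test vector y = zn - B zn zn • z, orthogonal to W
    have hzero : B (⁅refl Q B hQs hQp hQzn, refl Q B hQs hQp hQb0⁆ (e + f))
        (zn - B zn zn • z) = 0 := by
      rw [← hk]
      simp only [map_add, map_sub, map_smul, LinearMap.add_apply, LinearMap.smul_apply,
        smul_eq_mul, hezn, hfzn, hez, hfz]
      ring
    rw [comm_refl_apply] at hzero
    simp only [map_add, map_sub, map_smul, map_neg, LinearMap.add_apply, LinearMap.sub_apply,
      LinearMap.smul_apply, LinearMap.neg_apply, smul_eq_mul, hee, hef, hfe, hff, hez, hfz,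
      hezn, hfzn, hsym z e, hsym z f, hsym zn e, hsym zn f, hznz, hzzn, hself z, hself zn, hQb,
      hQz] at hzero
    field_simp at hzero
    ring_nf at hzero
    apply h5
    have hq2 : Q zn ^ 2 = 1 := by rw [sq]; exact hqq
    linear_combination (-1) * hzero - 4 * hq2

end Plane

end Cfsg.Agent.Lib.Helper94_OrthSmall
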