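import Mathlib
import Cfsg.Agent.Lib.Helper14_Siegel
import Cfsg.Agent.Lib.Helper94_OrthSmall

set_option autoImplicit false

/-!
Siegel transformations lie in `Ω(Q)` (the commutator subgroup of the isometry group) in every
characteristic, for a non-degenerate quadratic form in dimension at least five over a finite field
(helper14).
-/

namespace Cfsg.Agent.Lib.Helper14_SiegelAll

open Cfsg Matrix Module Cfsg.Agent.Lib.Helper44_Orth Cfsg.Agent.Lib.Helper44_Refl
  Cfsg.Agent.Lib.Helper44_Eichler Cfsg.Agent.Lib.Helper14_Siegel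
open scoped commutatorElement

variable {ι : Type} [Fintype ι] [DecidableEq ι] {F : Type*} [Field F] [Fintype F]

/-- `r_z r_{z+a}` is a commutator when `a` is singular and orthogonal to the non-singular `z`. -/
theorem refl_mul_refl_mem_omega (Q : QuadraticForm F (ι → F))
    (hQ : (QuadraticMap.polarBilin Q).Nondegenerate) (hn : 5 ≤ Fintype.card ι) {z a : ι → F}
    (hz : Q z ≠ 0) (ha : Q a = 0) (haz : QuadraticMap.polar (⇑Q) a z = 0) (hza : Q (z + a) ≠ 0) :
    refl Q z hz * refl Q (z + a) hza ∈ Cfsg.Omega F (⇑Q) := by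
  by_cases ha0 : a = 0
  · subst ha0
    have : refl Q (z + 0) hza = refl Q z hz := by
      apply Subtype.ext
      apply Units.ext
      show Cfsg.reflectionMatrix (⇑Q) (z + 0) = Cfsg.reflectionMatrix (⇑Q) z
      rw [add_zero]
    rw [this, refl_mul_self]
    exact Subgroup.one_mem _
  have hdim : 5 ≤ finrank F (ι → F) := by
    rw [Module.finrank_fintype_fun_eq_card]; exact hn
  have hzspan : z ∉ Submodule.span F {a} := by
    intro h
    obtain ⟨k, rfl⟩ := Submodule.mem_span_singleton.mp h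
    apply hz
    rw [QuadraticMap.map_smul, ha, smul_zero]
  obtain ⟨s, hs, has, hsz⟩ := exists_singular_orth_polar Q hQ hdim ha0 ha haz hzspan 1
  have hsa : QuadraticMap.polar (⇑Q) s a = 0 := by rw [QuadraticMap.polar_comm]; exact has
  obtain ⟨h, hh⟩ : ∃ h, h = siegel Q s a 1 hs ha hsa := ⟨_, rfl⟩
  have hhz : (h : Matrix.GeneralLinearGroup ι F).1 *ᵥ z = z + a := by
    rw [hh]
    show Cfsg.siegelMatrix (⇑Q) s a 1 *ᵥ z = z + a
    rw [siegelMatrix_mulVec, hsz, haz]
    simp
  have hconj : h * refl Q z hz * h⁻¹ = refl Q (z + a) hza := by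
    apply Subtype.ext
    apply Units.ext
    show (h : Matrix.GeneralLinearGroup ι F).1 * Cfsg.reflectionMatrix (⇑Q) z
      * ((h⁻¹ : ↥(Cfsg.isometryGroup F (⇑Q))) : Matrix.GeneralLinearGroup ι F).1
      = Cfsg.reflectionMatrix (⇑Q) (z + a)
    rw [conj_reflectionMatrix, hhz]
  have hinv : (refl Q z hz)⁻¹ = refl Q z hz := inv_eq_of_mul_eq_one_right (refl_mul_self Q z hz)
  have key : refl Q z hz * refl Q (z + a) hza = ⁅refl Q z hz, h⁆ := by
    rw [commutatorElement_def, hinv, ← hconj]
    group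
  rw [key]
  show _ ∈ commutator _
  rw [commutator_def]
  exact Subgroup.commutator_mem_commutator (Subgroup.mem_top _) (Subgroup.mem_top _)

/-- Eichler transformation with non-singular parameter as a product of two reflections, in `Ω`. -/
theorem exists_mem_omega_eich (Q : QuadraticForm F (ι → F))
    (hQ : (QuadraticMap.polarBilin Q).Nondegenerate) (hn : 5 ≤ Fintype.card ι) {a y : ι → F}
    (ha : Q a = 0) (hay : QuadraticMap.polar (⇑Q) a y = 0) (hy : Q y ≠ 0) :
    ∃ g : ↥(Cfsg.isometryGroup F (⇑Q)), g ∈ Cfsg.Omega F (⇑Q) ∧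
      ∀ x, (g : Matrix.GeneralLinearGroup ι F).1 *ᵥ x = eich Q a y x := by
  obtain ⟨z, hzdef⟩ : ∃ z, z = -(Q y)⁻¹ • y := ⟨_, rfl⟩
  have hQz : Q z = (Q y)⁻¹ := by
    rw [hzdef, QuadraticMap.map_smul]
    simp only [smul_eq_mul]
    field_simp
  have hz : Q z ≠ 0 := by rw [hQz]; exact inv_ne_zero hy
  have haz : QuadraticMap.polar (⇑Q) a z = 0 := by
    rw [hzdef, QuadraticMap.polar_smul_right, hay, smul_zero]
  have hza : Q (z + a) ≠ 0 := by
    have hza' : QuadraticMap.polar (⇑Q) z a = 0 := by rw [QuadraticMap.polar_comm]; exact haz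
    rw [QuadraticMap.map_add (⇑Q), ha, hza', add_zero, add_zero]
    exact hz
  have hyz : -(Q z)⁻¹ • z = y := by
    rw [hQz, hzdef, inv_inv, smul_smul]
    have : -Q y * -(Q y)⁻¹ = 1 := by field_simp
    rw [this, one_smul]
  refine ⟨refl Q z hz * refl Q (z + a) hza, refl_mul_refl_mem_omega Q hQ hn hz ha haz hza, ?_⟩
  intro x
  show (Cfsg.reflectionMatrix (⇑Q) z * Cfsg.reflectionMatrix (⇑Q) (z + a)) *ᵥ x = eich Q a y x
  rw [refl_refl_eq_eich Q ha haz hz x, hyz]

/-- **Siegel transformations lie in `Ω`**, in every characteristic (dimension at least five). -/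
theorem siegel_mem_omega (Q : QuadraticForm F (ι → F))
    (hQ : (QuadraticMap.polarBilin Q).Nondegenerate) (hn : 5 ≤ Fintype.card ι) (u v : ι → F) (c : F)
    (hu : Q u = 0) (hv : Q v = 0) (huv : QuadraticMap.polar (⇑Q) u v = 0) :
    siegel Q u v c hu hv huv ∈ Cfsg.Omega F (⇑Q) := by
  have hdim : 5 ≤ finrank F (ι → F) := by
    rw [Module.finrank_fintype_fun_eq_card]; exact hn
  -- a non-singular vector orthogonal to `u` and `v`
  have hS : 2 * finrank F (Submodule.span F ({u, v} : Set (ι → F))) < finrank F (ι → F) := by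
    have h1 : finrank F (Submodule.span F ({u, v} : Set (ι → F))) ≤ 2 := by
      classical
      have := finrank_span_finset_le_card (R := F) ({u, v} : Finset (ι → F))
      have h2 : ({u, v} : Finset (ι → F)).card ≤ 2 := Finset.card_le_two
      have h3 : ((({u, v} : Finset (ι → F)) : Set (ι → F))) = {u, v} := by simp
      rw [h3] at this
      exact this.trans h2
    omega
  obtain ⟨t, htS, ht⟩ := Cfsg.Agent.Lib.Helper94_OrthSmall.exists_nonsing (⇑Q)
    (QuadraticMap.polarBilin Q)
    (fun x y => by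
      rw [QuadraticMap.polarBilin_apply_apply, QuadraticMap.polar]; ring) hQ _ hS
  have htu : QuadraticMap.polar (⇑Q) u t = 0 :=
    htS u (Submodule.subset_span (by simp))
  have htv : QuadraticMap.polar (⇑Q) v t = 0 :=
    htS v (Submodule.subset_span (by simp))
  have hvt : QuadraticMap.polar (⇑Q) v t = 0 := htv
  have hvu : QuadraticMap.polar (⇑Q) v u = 0 := by rw [QuadraticMap.polar_comm]; exact huv
  -- the second parameter
  obtain ⟨t', ht'def⟩ : ∃ t', t' = c • u - t := ⟨_, rfl⟩
  have hvt' : QuadraticMap.polar (⇑Q) v t' = 0 := by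
    rw [ht'def, QuadraticMap.polar_sub_right, QuadraticMap.polar_smul_right, hvu, hvt]
    simp
  have ht' : Q t' ≠ 0 := by
    have := Helper44_Refl.map_sub_smul Q t (c • u) 1
    rw [one_smul] at this
    rw [ht'def, this, QuadraticMap.map_smul, hu, QuadraticMap.polar_smul_right,
      QuadraticMap.polar_comm (⇑Q) t u, htu]
    simpa using ht
  have hsum : t + t' = c • u := by rw [ht'def]; abel
  obtain ⟨g₁, hg₁, hg₁x⟩ := exists_mem_omega_eich Q hQ hn hv hvt ht
  obtain ⟨g₂, hg₂, hg₂x⟩ := exists_mem_omega_eich Q hQ hn hv hvt' ht'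
  have hcu : Q (c • u) = 0 := by rw [QuadraticMap.map_smul, hu, smul_zero]
  have key : siegel Q u v c hu hv huv = g₁ * g₂ := by
    apply Subtype.ext
    apply Units.ext
    show Cfsg.siegelMatrix (⇑Q) u v c
      = (g₁ : Matrix.GeneralLinearGroup ι F).1 * (g₂ : Matrix.GeneralLinearGroup ι F).1
    apply matrix_ext_mulVec
    intro x
    rw [← Matrix.mulVec_mulVec, hg₂x, hg₁x, eich_add Q hv hvt hvt', hsum,
      eich_eq_siegel Q hcu, siegelMatrix_mulVec, siegelMatrix_mulVec,
      QuadraticMap.polar_smul_left]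
    simp only [smul_eq_mul, one_mul, smul_smul, mul_comm]
  rw [key]
  exact Subgroup.mul_mem _ hg₁ hg₂

/-- The group generated by the Siegel transformations lies in `Ω`, in every characteristic. -/
theorem siegelGroup_le_omega' (Q : QuadraticForm F (ι → F))
    (hQ : (QuadraticMap.polarBilin Q).Nondegenerate) (hn : 5 ≤ Fintype.card ι) :
    siegelGroup Q ≤ Cfsg.Omega F (⇑Q) := by
  rw [siegelGroup, Subgroup.closure_le]
  rintro g ⟨u, v, c, hu, hv, huv, hg⟩
  have hgs : g = siegel Q u v c hu hv huv := Subtype.ext (Units.ext hg)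
  rw [SetLike.mem_coe, hgs]
  exact siegel_mem_omega Q hQ hn u v c hu hv huv

end Cfsg.Agent.Lib.Helper14_SiegelAll
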