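import Mathlib

set_option autoImplicit false

/-!
Discriminants: the square class of the Gram determinant of a bilinear form does not depend on the basis (helper44).
-/

namespace Cfsg.Agent.Lib.Helper44_Disc

open Matrix

variable {F : Type*} [Field F] {V : Type*} [AddCommGroup V] [Module F V]

theorem isSquare_mul_sq_iff {d x : F} (hd : d ≠ 0) : IsSquare (d * x * d) ↔ IsSquare x := by
  constructor
  · rintro ⟨r, hr⟩
    refine ⟨r / d, ?_⟩
    rw [div_mul_div_comm, ← hr]
    field_simp
  · rintro ⟨r, hr⟩
    exact ⟨d * r, by rw [hr]; ring⟩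

/-- The Gram determinants of a bilinear form in two bases differ by a nonzero square. -/
theorem isSquare_gram_det_iff {ι κ : Type*} [Fintype ι] [DecidableEq ι] [Fintype κ] [DecidableEq κ]
    (B : LinearMap.BilinForm F V) (b : Module.Basis ι F V) (c : Module.Basis κ F V) :
    IsSquare (LinearMap.BilinForm.toMatrix b B).det ↔ IsSquare (LinearMap.BilinForm.toMatrix c B).det := by
  classical
  set e : ι ≃ κ := b.indexEquiv c with he
  set b' : Module.Basis κ F V := b.reindex e with hb'
  have h1 : LinearMap.BilinForm.toMatrix b B = (LinearMap.BilinForm.toMatrix b' B).submatrix e e := by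
    ext i j
    simp [LinearMap.BilinForm.toMatrix_apply, hb']
  have h2 : (LinearMap.BilinForm.toMatrix b B).det = (LinearMap.BilinForm.toMatrix b' B).det := by
    rw [h1, Matrix.det_submatrix_equiv_self]
  have h3 := LinearMap.BilinForm.toMatrix_mul_basis_toMatrix c b' B
  have h4 := congrArg Matrix.det h3
  rw [Matrix.det_mul, Matrix.det_mul, Matrix.det_transpose] at h4
  have hP : (c.toMatrix b').det ≠ 0 := by
    have : IsUnit (c.toMatrix b').det := by
      have := Module.Basis.invertibleToMatrix c b'
      exact (Matrix.isUnit_iff_isUnit_det _).mp (isUnit_of_invertible _)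
    exact this.ne_zero
  rw [h2, ← h4]
  exact isSquare_mul_sq_iff hP

/-- Version for quadratic forms with explicit Gram matrices given by the polar form. -/
theorem isSquare_polar_gram_det_iff {ι κ : Type*} [Fintype ι] [DecidableEq ι] [Fintype κ]
    [DecidableEq κ] (Q : QuadraticForm F V) (b : Module.Basis ι F V) (c : Module.Basis κ F V) :
    IsSquare (Matrix.of (fun i j : ι => QuadraticMap.polar ⇑Q (b i) (b j))).det ↔
      IsSquare (Matrix.of (fun i j : κ => QuadraticMap.polar ⇑Q (c i) (c j))).det := by
  have h1 : Matrix.of (fun i j : ι => QuadraticMap.polar ⇑Q (b i) (b j))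
      = LinearMap.BilinForm.toMatrix b (QuadraticMap.polarBilin Q) := by
    ext i j; simp [LinearMap.BilinForm.toMatrix_apply]
  have h2 : Matrix.of (fun i j : κ => QuadraticMap.polar ⇑Q (c i) (c j))
      = LinearMap.BilinForm.toMatrix c (QuadraticMap.polarBilin Q) := by
    ext i j; simp [LinearMap.BilinForm.toMatrix_apply]
  rw [h1, h2]
  exact isSquare_gram_det_iff _ b c

end Cfsg.Agent.Lib.Helper44_Disc
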