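import Mathlib
import Cfsg.Agent.Lib.Helper44_Spinor
import Cfsg.Agent.Lib.Helper44_Disc

set_option autoImplicit false

/-!
`-1 ∈ Ω(Q)` iff the discriminant of `Q` is a square, for a quadratic form `Q` with non-degenerate polar
form on `ι → F` (any finite index type of even cardinality), `F` finite of odd order (helper14, on top
of helper44's spinor norm criterion `Helper44_Spinor.mem_omega_iff`).

Main results: `prod_refl_eq_neg_one` (the product of the reflections along an orthogonal basis is `-1`),
`negOne_mem_omega_iff`, `exists_neg_one_mem_omega_iff`.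
-/

namespace Cfsg.Agent.Lib.Helper14_NegOne

open Cfsg Matrix Cfsg.Agent.Lib.Helper44_Refl Cfsg.Agent.Lib.Helper44_Spinor
  Cfsg.Agent.Lib.Helper44_Disc

variable {ι : Type} [Fintype ι] [DecidableEq ι] {F : Type*} [Field F]

/-- A product of reflections fixes every vector orthogonal to all the reflecting vectors. -/
theorem prod_refl_fix (Q : QuadraticForm F (ι → F)) (vs : List (ι → F)) (x : ι → F)
    (hx : ∀ v ∈ vs, QuadraticMap.polar (⇑Q) v x = 0) :
    (vs.map (fun v => Cfsg.reflectionMatrix (⇑Q) v)).prod *ᵥ x = x := by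
  induction vs with
  | nil => simp
  | cons v vs ih =>
    rw [List.map_cons, List.prod_cons, ← Matrix.mulVec_mulVec,
      ih (fun u hu => hx u (List.mem_cons_of_mem _ hu)), reflectionMatrix_mulVec,
      hx v List.mem_cons_self, mul_zero, zero_smul, sub_zero]

/-- A product of reflections along pairwise orthogonal non-singular vectors negates each of them. -/
theorem prod_refl_neg (Q : QuadraticForm F (ι → F)) (vs : List (ι → F))
    (hpw : vs.Pairwise (fun a b => QuadraticMap.polar (⇑Q) a b = 0)) (hvs : ∀ v ∈ vs, Q v ≠ 0) :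
    ∀ w ∈ vs, (vs.map (fun v => Cfsg.reflectionMatrix (⇑Q) v)).prod *ᵥ w = -w := by
  induction vs with
  | nil => intro w hw; simp at hw
  | cons v vs ih =>
    intro w hw
    rw [List.pairwise_cons] at hpw
    obtain ⟨hv, hpw'⟩ := hpw
    rw [List.map_cons, List.prod_cons, ← Matrix.mulVec_mulVec]
    rcases List.mem_cons.mp hw with rfl | hw'
    · rw [prod_refl_fix Q vs w (fun u hu => by rw [QuadraticMap.polar_comm]; exact hv u hu)]
      exact reflection_self Q w (hvs w List.mem_cons_self)
    · rw [ih hpw' (fun u hu => hvs u (List.mem_cons_of_mem _ hu)) w hw', Matrix.mulVec_neg,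
        reflectionMatrix_mulVec, hv w hw', mul_zero, zero_smul, sub_zero]

/-- The product of the reflections along an orthogonal basis of non-singular vectors is `-1`. -/
theorem prod_refl_eq_neg_one (Q : QuadraticForm F (ι → F)) {n : ℕ} (v : Module.Basis (Fin n) F (ι → F))
    (hortho : ∀ i j : Fin n, i ≠ j → QuadraticMap.polar (⇑Q) (v i) (v j) = 0)
    (hne : ∀ i, Q (v i) ≠ 0) :
    ((List.ofFn v).map (fun w => Cfsg.reflectionMatrix (⇑Q) w)).prod = -1 := by
  apply Matrix.toLin'.injective
  apply v.ext
  intro i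
  rw [Matrix.toLin'_apply, Matrix.toLin'_apply, Matrix.neg_mulVec, Matrix.one_mulVec]
  apply prod_refl_neg Q (List.ofFn v)
  · rw [List.pairwise_ofFn]
    intro i j hij
    exact hortho i j (ne_of_lt hij)
  · intro w hw
    obtain ⟨i, rfl⟩ := (List.mem_ofFn' _ _).mp hw
    exact hne i
  · exact (List.mem_ofFn' _ _).mpr ⟨i, rfl⟩

omit [Fintype ι] [DecidableEq ι] in
theorem polarBilin_isSymm (Q : QuadraticForm F (ι → F)) : (QuadraticMap.polarBilin Q).IsSymm :=
  ⟨fun x y => by
    simp only [QuadraticMap.polarBilin_apply_apply, RingHom.id_apply]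
    exact QuadraticMap.polar_comm _ _ _⟩

omit [DecidableEq ι] in
/-- An orthogonal basis of non-singular vectors (odd characteristic, non-degenerate polar form). -/
theorem exists_orthogonal_basis (h2 : (2 : F) ≠ 0) (Q : QuadraticForm F (ι → F))
    (hQ : (QuadraticMap.polarBilin Q).Nondegenerate) :
    ∃ v : Module.Basis (Fin (Fintype.card ι)) F (ι → F),
      (∀ i j, i ≠ j → QuadraticMap.polar (⇑Q) (v i) (v j) = 0) ∧ ∀ i, Q (v i) ≠ 0 := by
  have : Invertible (2 : F) := invertibleOfNonzero h2
  obtain ⟨v, hv⟩ := LinearMap.BilinForm.exists_orthogonal_basis (polarBilin_isSymm Q)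
  have hcard : Module.finrank F (ι → F) = Fintype.card ι := Module.finrank_fintype_fun_eq_card F
  have hne : ∀ i, Q (v i) ≠ 0 := by
    intro i h0
    have := hv.not_isOrtho_basis_self_of_separatingLeft hQ.1 i
    apply this
    rw [QuadraticMap.polarBilin_apply_apply, QuadraticMap.polar_self, h0, smul_zero]
  have hortho : ∀ i j, i ≠ j → QuadraticMap.polar (⇑Q) (v i) (v j) = 0 := by
    intro i j hij
    have := hv hij
    simpa [QuadraticMap.polarBilin_apply_apply] using this
  refine ⟨v.reindex (finCongr hcard), ?_, ?_⟩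
  · intro i j hij
    simp only [Module.Basis.reindex_apply]
    exact hortho _ _ (fun h => hij ((finCongr hcard).symm.injective h))
  · intro i
    simp only [Module.Basis.reindex_apply]
    exact hne _

theorem isSquare_two_pow_mul_iff {n : ℕ} (hn : Even n) (h2 : (2 : F) ≠ 0) (x : F) :
    IsSquare ((2 : F) ^ n * x) ↔ IsSquare x := by
  obtain ⟨k, rfl⟩ := hn
  have : (2 : F) ^ (k + k) * x = (2 : F) ^ k * x * (2 : F) ^ k := by ring
  rw [this]
  exact isSquare_mul_sq_iff (pow_ne_zero k h2)

omit [Fintype ι] [DecidableEq ι] in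
/-- The Gram determinant of the polar form in an orthogonal basis. -/
theorem gram_det_orthogonal (Q : QuadraticForm F (ι → F)) {n : ℕ} (v : Module.Basis (Fin n) F (ι → F))
    (hortho : ∀ i j : Fin n, i ≠ j → QuadraticMap.polar (⇑Q) (v i) (v j) = 0) :
    (Matrix.of (fun i j : Fin n => QuadraticMap.polar (⇑Q) (v i) (v j))).det =
      (2 : F) ^ n * ((List.ofFn v).map (fun w => Q w)).prod := by
  have h1 : Matrix.of (fun i j : Fin n => QuadraticMap.polar (⇑Q) (v i) (v j)) =
      Matrix.diagonal (fun i => 2 * Q (v i)) := by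
    ext i j
    by_cases hij : i = j
    · subst hij
      rw [Matrix.of_apply, Matrix.diagonal_apply_eq, Helper44_Refl.polar_self]
    · rw [Matrix.of_apply, Matrix.diagonal_apply_ne _ hij, hortho i j hij]
  rw [h1, Matrix.det_diagonal, Finset.prod_mul_distrib, Finset.prod_const, Finset.card_univ,
    Fintype.card_fin, List.map_ofFn, List.prod_ofFn]
  rfl

variable [Fintype F]

/-- `-1 ∈ Ω(Q)` iff the discriminant is a square (even dimension, odd characteristic). -/
theorem negOne_mem_omega_iff (h2 : (2 : F) ≠ 0) (Q : QuadraticForm F (ι → F))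
    (hQ : (QuadraticMap.polarBilin Q).Nondegenerate) (heven : Even (Fintype.card ι)) :
    negOne Q ∈ Cfsg.Omega F (⇑Q) ↔
      IsSquare (Matrix.of (fun i j : ι =>
        QuadraticMap.polar (⇑Q) (Pi.single i 1) (Pi.single j 1))).det := by
  obtain ⟨v, hortho, hne⟩ := exists_orthogonal_basis h2 Q hQ
  have hprod := prod_refl_eq_neg_one Q v hortho hne
  have hmem := mem_omega_iff Q h2 (negOne Q) (List.ofFn v)
    (fun w hw => by
      obtain ⟨i, rfl⟩ := (List.mem_ofFn' _ _).mp hw
      exact hne i)
    (by rw [negOne_coe, hprod])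
  rw [hmem, List.length_ofFn]
  have hstd := isSquare_polar_gram_det_iff Q (Pi.basisFun F ι) v
  simp only [Pi.basisFun_apply] at hstd
  rw [hstd, gram_det_orthogonal Q v hortho, isSquare_two_pow_mul_iff heven h2]
  exact and_iff_right heven

/-- Existential form, as in the statements: some isometry in `Ω(Q)` has matrix `-1`. -/
theorem exists_neg_one_mem_omega_iff (h2 : (2 : F) ≠ 0) (Q : QuadraticForm F (ι → F))
    (hQ : (QuadraticMap.polarBilin Q).Nondegenerate) (heven : Even (Fintype.card ι)) :
    (∃ g : ↥(Cfsg.isometryGroup F (⇑Q)), g ∈ Cfsg.Omega F (⇑Q) ∧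
        ((g : Matrix.GeneralLinearGroup ι F) : Matrix ι ι F) = -1) ↔
      IsSquare (Matrix.of (fun i j : ι =>
        QuadraticMap.polar (⇑Q) (Pi.single i 1) (Pi.single j 1))).det := by
  rw [← negOne_mem_omega_iff h2 Q hQ heven]
  constructor
  · rintro ⟨g, hg, hcoe⟩
    have : g = negOne Q := by
      apply Subtype.ext
      apply Units.ext
      rw [hcoe, negOne_coe]
    rw [← this]; exact hg
  · intro h
    exact ⟨negOne Q, h, negOne_coe Q⟩

end Cfsg.Agent.Lib.Helper14_NegOne
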