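import Mathlib
import Cfsg.Agent.Lib.Helper44_ReflProd
import Cfsg.Agent.Lib.Helper14_NegOne

set_option autoImplicit false

/-!
The Cartan–Dieudonné theorem (weak form) in odd characteristic: every isometry of a quadratic form `Q`
on `ι → F` with non-degenerate polar form is a product of reflections (helper14, on top of helper44's
reflection library).

Main results: `cartan_dieudonne` (matrix form, with helper44's `IsReflProd` bookkeeping),
`exists_list_reflT` (group-element form), `closure_refl_eq_top`.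
-/

namespace Cfsg.Agent.Lib.Helper14_CartanDieudonne

open Cfsg Matrix Module Cfsg.Agent.Lib.Helper44_Orth Cfsg.Agent.Lib.Helper44_Refl
  Cfsg.Agent.Lib.Helper44_Spinor Cfsg.Agent.Lib.Helper44_ReflProd Cfsg.Agent.Lib.Helper14_NegOne

variable {ι : Type} [Fintype ι] [DecidableEq ι] {F : Type*} [Field F]

/-- The matrix `M` preserves the quadratic form `Q`. -/
def IsIsom (Q : QuadraticForm F (ι → F)) (M : Matrix ι ι F) : Prop := ∀ x, Q (M *ᵥ x) = Q x

omit [DecidableEq ι] in
theorem IsIsom.polar {Q : QuadraticForm F (ι → F)} {M : Matrix ι ι F} (h : IsIsom Q M) (x y : ι → F) :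
    QuadraticMap.polar (⇑Q) (M *ᵥ x) (M *ᵥ y) = QuadraticMap.polar (⇑Q) x y := by
  simp only [QuadraticMap.polar]
  rw [← Matrix.mulVec_add, h, h, h]

omit [DecidableEq ι] in
theorem IsIsom.mul {Q : QuadraticForm F (ι → F)} {M M' : Matrix ι ι F} (h : IsIsom Q M)
    (h' : IsIsom Q M') : IsIsom Q (M * M') := fun x => by
  rw [← Matrix.mulVec_mulVec, h, h']

theorem isIsom_refl (Q : QuadraticForm F (ι → F)) {v : ι → F} (hv : Q v ≠ 0) :
    IsIsom Q (Cfsg.reflectionMatrix (⇑Q) v) := map_reflection Q hv

/-- A reflection fixes the vectors orthogonal to its vector. -/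
theorem refl_fix (Q : QuadraticForm F (ι → F)) (u x : ι → F) (h : QuadraticMap.polar (⇑Q) u x = 0) :
    Cfsg.reflectionMatrix (⇑Q) u *ᵥ x = x := by
  rw [reflectionMatrix_mulVec, h, mul_zero, zero_smul, sub_zero]

/-- The inductive form of Cartan–Dieudonné: an isometry fixing pointwise a non-degenerate subspace `W` is a
product of reflections (induction on the dimension of the orthogonal complement of `W`). -/
theorem cd_aux (h2 : (2 : F) ≠ 0) (Q : QuadraticForm F (ι → F))
    (hQ : (QuadraticMap.polarBilin Q).Nondegenerate) :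
    ∀ k : ℕ, ∀ (M : Matrix ι ι F) (W : Submodule F (ι → F)), IsIsom Q M → (∀ x ∈ W, M *ᵥ x = x) →
      W ⊓ LinearMap.BilinForm.orthogonal (QuadraticMap.polarBilin Q) W = ⊥ →
      finrank F (LinearMap.BilinForm.orthogonal (QuadraticMap.polarBilin Q) W) = k →
      ∃ j d, IsReflProd Q M j d := by
  intro k
  induction k using Nat.strong_induction_on with
  | _ k ih =>
  intro M W hM hfix hW hk
  set B : LinearMap.BilinForm F (ι → F) := QuadraticMap.polarBilin Q with hB
  have hrefl : B.IsRefl := (polarBilin_isSymm Q).isRefl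
  have hBapp : ∀ x y, B x y = QuadraticMap.polar (⇑Q) x y :=
    fun x y => QuadraticMap.polarBilin_apply_apply Q x y
  have hdim := LinearMap.BilinForm.finrank_orthogonal hQ W
  rw [hk] at hdim
  have hWle : finrank F W ≤ finrank F (ι → F) := Submodule.finrank_le W
  by_cases hk0 : k = 0
  · -- `W = ⊤`, so `M = 1`
    have hWtop : W = ⊤ := by
      apply Submodule.eq_top_of_finrank_eq
      omega
    have hM1 : M = 1 := by
      apply matrix_ext_mulVec
      intro x
      rw [Matrix.one_mulVec]
      exact hfix x (hWtop ▸ Submodule.mem_top)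
    exact ⟨0, 1, hM1 ▸ IsReflProd.one Q⟩
  · -- a non-singular vector in the orthogonal complement
    have hexv : ∃ v ∈ B.orthogonal W, Q v ≠ 0 := by
      by_contra hall
      push Not at hall
      have hle : B.orthogonal W ≤ B.orthogonal (B.orthogonal W) := by
        intro x hx
        rw [LinearMap.BilinForm.mem_orthogonal_iff]
        intro n hn
        rw [hBapp, QuadraticMap.polar, hall _ ((B.orthogonal W).add_mem hn hx), hall n hn, hall x hx]
        simp
      rw [LinearMap.BilinForm.orthogonal_orthogonal hQ hrefl] at hle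
      have : B.orthogonal W ≤ ⊥ := by
        rw [← hW]
        exact le_inf hle le_rfl
      have h0 : finrank F (B.orthogonal W) = 0 := by
        rw [le_bot_iff.mp this]; simp
      omega
    obtain ⟨v, hvO, hv⟩ := hexv
    rw [LinearMap.BilinForm.mem_orthogonal_iff] at hvO
    have hvO' : ∀ n ∈ W, QuadraticMap.polar (⇑Q) n v = 0 := fun n hn => by rw [← hBapp]; exact hvO n hn
    set w := M *ᵥ v with hw
    have hQw : Q w = Q v := hM v
    have hwne : Q w ≠ 0 := by rw [hQw]; exact hv
    have hwO' : ∀ n ∈ W, QuadraticMap.polar (⇑Q) n w = 0 := by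
      intro n hn
      have := hM.polar n v
      rw [hfix n hn] at this
      rw [hw, this]
      exact hvO' n hn
    -- reflections in vectors of `W^⊥` fix `W` pointwise
    have fixW : ∀ u : ι → F, (∀ n ∈ W, QuadraticMap.polar (⇑Q) n u = 0) → ∀ x ∈ W,
        Cfsg.reflectionMatrix (⇑Q) u *ᵥ x = x := by
      intro u hu x hx
      apply refl_fix
      rw [QuadraticMap.polar_comm]
      exact hu x hx
    -- the bigger subspace
    set W' := W ⊔ Submodule.span F {v} with hW'def
    have hvW' : v ∈ W' := Submodule.mem_sup_right (Submodule.mem_span_singleton_self v)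
    have hvnW : v ∉ W := by
      intro hvW
      have : v ∈ W ⊓ B.orthogonal W := ⟨hvW, fun n hn => hvO n hn⟩
      rw [hW, Submodule.mem_bot] at this
      apply hv; rw [this]; simp
    have hlt : W < W' := by
      apply lt_of_le_of_ne le_sup_left
      intro h
      apply hvnW
      rw [h]; exact hvW'
    have hW'nd : W' ⊓ B.orthogonal W' = ⊥ := by
      rw [eq_bot_iff]
      rintro x ⟨hx1, hx2⟩
      obtain ⟨a, ha, s, hs, rfl⟩ := Submodule.mem_sup.mp hx1
      obtain ⟨t, rfl⟩ := Submodule.mem_span_singleton.mp hs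
      have hx2' := (LinearMap.BilinForm.mem_orthogonal_iff.mp hx2) v hvW'
      rw [hBapp, QuadraticMap.polar_add_right, QuadraticMap.polar_smul_right,
        Helper44_Refl.polar_self, QuadraticMap.polar_comm, hvO' a ha, zero_add, smul_eq_mul] at hx2'
      have ht : t = 0 := by
        rcases mul_eq_zero.mp hx2' with h | h
        · exact h
        · exfalso
          rcases mul_eq_zero.mp h with h | h
          · exact h2 h
          · exact hv h
      rw [ht, zero_smul, add_zero] at hx2 ⊢
      have : a ∈ W ⊓ B.orthogonal W :=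
        ⟨ha, LinearMap.BilinForm.orthogonal_le (le_sup_left : W ≤ W') hx2⟩
      rw [hW] at this
      exact this
    have hdim' := LinearMap.BilinForm.finrank_orthogonal hQ W'
    have hW'le : finrank F W' ≤ finrank F (ι → F) := Submodule.finrank_le W'
    have hfinlt : finrank F W < finrank F W' := Submodule.finrank_lt_finrank_of_lt hlt
    have hklt : finrank F (B.orthogonal W') < k := by omega
    -- extending pointwise fixing from `W` and `v` to `W'`
    have fixW' : ∀ M' : Matrix ι ι F, (∀ x ∈ W, M' *ᵥ x = x) → M' *ᵥ v = v →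
        ∀ x ∈ W', M' *ᵥ x = x := by
      intro M' h1 hv1 x hx
      obtain ⟨a, ha, s, hs, rfl⟩ := Submodule.mem_sup.mp hx
      obtain ⟨t, rfl⟩ := Submodule.mem_span_singleton.mp hs
      rw [Matrix.mulVec_add, Matrix.mulVec_smul, h1 a ha, hv1]
    by_cases hd : Q (v - w) ≠ 0
    · -- one reflection moves `v` to `w`
      set R := Cfsg.reflectionMatrix (⇑Q) (v - w) with hR
      have hRR : R * R = 1 := reflectionMatrix_mul_self Q hd
      have hRv : R *ᵥ v = w := reflection_sub_apply Q hQw.symm hd
      have hRw : R *ᵥ w = v := by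
        rw [← hRv, Matrix.mulVec_mulVec, hRR, Matrix.one_mulVec]
      have hRfix : ∀ x ∈ W, R *ᵥ x = x := by
        apply fixW
        intro n hn
        rw [QuadraticMap.polar_sub_right, hvO' n hn, hwO' n hn, sub_zero]
      have hM' : IsIsom Q (R * M) := (isIsom_refl Q hd).mul hM
      have hfix' : ∀ x ∈ W', (R * M) *ᵥ x = x := by
        apply fixW'
        · intro x hx
          rw [← Matrix.mulVec_mulVec, hfix x hx, hRfix x hx]
        · rw [← Matrix.mulVec_mulVec, ← hw, hRw]
      obtain ⟨j, d, hjd⟩ := ih _ hklt (R * M) W' hM' hfix' hW'nd rfl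
      refine ⟨1 + j, Q (v - w) * d, ((IsReflProd.refl Q hd).mul hjd).congr ?_ rfl rfl⟩
      rw [← hR, ← Matrix.mul_assoc, hRR, Matrix.one_mul]
    · -- two reflections are needed
      rw [not_not] at hd
      have hsum := map_sub_add_map_add Q v w
      rw [hd, zero_add, hQw] at hsum
      have hs : Q (v + w) ≠ 0 := by
        rw [hsum]
        intro h
        have : (2 * 2) * Q v = 0 := by linear_combination h
        rcases mul_eq_zero.mp this with h | h
        · exact (mul_ne_zero h2 h2) h
        · exact hv h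
      set R₁ := Cfsg.reflectionMatrix (⇑Q) w with hR₁
      set R₂ := Cfsg.reflectionMatrix (⇑Q) (v + w) with hR₂
      have hR₁R₁ : R₁ * R₁ = 1 := reflectionMatrix_mul_self Q hwne
      have hR₂R₂ : R₂ * R₂ = 1 := reflectionMatrix_mul_self Q hs
      have hR₁w : R₁ *ᵥ w = -w := reflection_self Q w hwne
      have hR₂v : R₂ *ᵥ v = -w := reflection_add_apply Q hQw.symm hs
      have hR₂w : R₂ *ᵥ (-w) = v := by
        rw [← hR₂v, Matrix.mulVec_mulVec, hR₂R₂, Matrix.one_mulVec]
      have hR₁fix : ∀ x ∈ W, R₁ *ᵥ x = x := fixW w hwO'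
      have hR₂fix : ∀ x ∈ W, R₂ *ᵥ x = x := by
        apply fixW
        intro n hn
        rw [QuadraticMap.polar_add_right, hvO' n hn, hwO' n hn, add_zero]
      have hM' : IsIsom Q (R₂ * (R₁ * M)) := (isIsom_refl Q hs).mul ((isIsom_refl Q hwne).mul hM)
      have hfix' : ∀ x ∈ W', (R₂ * (R₁ * M)) *ᵥ x = x := by
        apply fixW'
        · intro x hx
          rw [← Matrix.mulVec_mulVec, ← Matrix.mulVec_mulVec, hfix x hx, hR₁fix x hx, hR₂fix x hx]
        · rw [← Matrix.mulVec_mulVec, ← Matrix.mulVec_mulVec, ← hw, hR₁w, hR₂w]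
      obtain ⟨j, d, hjd⟩ := ih _ hklt (R₂ * (R₁ * M)) W' hM' hfix' hW'nd rfl
      refine ⟨1 + (1 + j), Q w * (Q (v + w) * d),
        ((IsReflProd.refl Q hwne).mul ((IsReflProd.refl Q hs).mul hjd)).congr ?_ rfl rfl⟩
      rw [← hR₁, ← hR₂, ← Matrix.mul_assoc R₂, hR₂R₂, Matrix.one_mul, ← Matrix.mul_assoc, hR₁R₁,
        Matrix.one_mul]

/-- **Cartan–Dieudonné** (weak form, odd characteristic): every isometry is a product of reflections. -/
theorem cartan_dieudonne (h2 : (2 : F) ≠ 0) (Q : QuadraticForm F (ι → F))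
    (hQ : (QuadraticMap.polarBilin Q).Nondegenerate) (M : Matrix ι ι F) (hM : IsIsom Q M) :
    ∃ j d, IsReflProd Q M j d := by
  apply cd_aux h2 Q hQ _ M ⊥ hM _ (by simp) rfl
  intro x hx
  rw [(Submodule.mem_bot F).mp hx, Matrix.mulVec_zero]

theorem isIsom_of_mem (Q : QuadraticForm F (ι → F)) (g : ↥(Cfsg.isometryGroup F (⇑Q))) :
    IsIsom Q ((g : Matrix.GeneralLinearGroup ι F) : Matrix ι ι F) :=
  (mem_isometryGroup_iff (⇑Q) g.1).mp g.2

open Classical in
/-- Group-element form: every isometry is a product of (total) reflections `reflT`. -/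
theorem exists_list_reflT (h2 : (2 : F) ≠ 0) (Q : QuadraticForm F (ι → F))
    (hQ : (QuadraticMap.polarBilin Q).Nondegenerate) (g : ↥(Cfsg.isometryGroup F (⇑Q))) :
    ∃ vs : List (ι → F), (∀ v ∈ vs, Q v ≠ 0) ∧ g = (vs.map (reflT Q)).prod := by
  obtain ⟨j, d, vs, hvs, hM, -, -⟩ := cartan_dieudonne h2 Q hQ _ (isIsom_of_mem Q g)
  refine ⟨vs, hvs, ?_⟩
  apply Subtype.ext
  apply Units.ext
  rw [hM, prod_reflT_coe Q vs hvs]

/-- The isometry group is generated by reflections. -/
theorem closure_refl_eq_top (h2 : (2 : F) ≠ 0) (Q : QuadraticForm F (ι → F))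
    (hQ : (QuadraticMap.polarBilin Q).Nondegenerate) :
    Subgroup.closure {g : ↥(Cfsg.isometryGroup F (⇑Q)) | ∃ (v : ι → F) (hv : Q v ≠ 0), g = refl Q v hv}
      = ⊤ := by
  classical
  rw [eq_top_iff]
  intro g _
  obtain ⟨vs, hvs, rfl⟩ := exists_list_reflT h2 Q hQ g
  apply Subgroup.list_prod_mem
  intro x hx
  obtain ⟨v, hv, rfl⟩ := List.mem_map.mp hx
  apply Subgroup.subset_closure
  exact ⟨v, hvs v hv, reflT_of_ne Q v (hvs v hv)⟩

end Cfsg.Agent.Lib.Helper14_CartanDieudonne
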