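import Mathlib
import Cfsg.Agent.Lib.Helper14_CartanDieudonne

set_option autoImplicit false

/-!
Characters `O(Q) →* ℤˣ` of the isometry group of a quadratic form with non-degenerate polar form over a
finite field of odd order (helper14): the determinant sign `detSign`, helper44's spinor character
`theta`, universality of `Q` in dimension at least two, the fact that a character is determined by its
values on one reflection of square norm and one of non-square norm, and the resulting count of
subgroups of index two.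
-/

namespace Cfsg.Agent.Lib.Helper14_OrthChars

open Cfsg Matrix Module Cfsg.Agent.Lib.Helper44_Orth Cfsg.Agent.Lib.Helper44_Refl
  Cfsg.Agent.Lib.Helper44_FinSq
  Cfsg.Agent.Lib.Helper44_Spinor Cfsg.Agent.Lib.Helper44_ReflProd Cfsg.Agent.Lib.Helper14_NegOne
  Cfsg.Agent.Lib.Helper14_CartanDieudonne

variable {ι : Type} [Fintype ι] [DecidableEq ι] {F : Type*} [Field F]

/-- Determinants of isometries are `±1`. -/
theorem det_eq_or (h2 : (2 : F) ≠ 0) (Q : QuadraticForm F (ι → F))
    (hQ : (QuadraticMap.polarBilin Q).Nondegenerate) (g : ↥(Cfsg.isometryGroup F (⇑Q))) :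
    ((g : Matrix.GeneralLinearGroup ι F) : Matrix ι ι F).det = 1 ∨
      ((g : Matrix.GeneralLinearGroup ι F) : Matrix ι ι F).det = -1 := by
  classical
  obtain ⟨vs, hvs, rfl⟩ := exists_list_reflT h2 Q hQ g
  rw [prod_reflT_coe Q vs hvs, det_prod Q vs hvs]
  rcases Nat.even_or_odd vs.length with h | h
  · left; exact h.neg_one_pow
  · right; exact h.neg_one_pow

omit [Fintype ι] [DecidableEq ι] in
theorem one_ne_neg_one (h2 : (2 : F) ≠ 0) : (1 : F) ≠ -1 := by
  intro h
  apply h2
  linear_combination h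

open Classical in
/-- The sign of the determinant as a character with values in `ℤˣ`. -/
noncomputable def detSign (h2 : (2 : F) ≠ 0) (Q : QuadraticForm F (ι → F))
    (hQ : (QuadraticMap.polarBilin Q).Nondegenerate) : ↥(Cfsg.isometryGroup F (⇑Q)) →* ℤˣ :=
  MonoidHom.mk' (fun g => if ((g : Matrix.GeneralLinearGroup ι F) : Matrix ι ι F).det = 1 then 1 else -1)
    (by
      intro g h
      have hmul : (((g * h : ↥(Cfsg.isometryGroup F (⇑Q))) : Matrix.GeneralLinearGroup ι F) :
          Matrix ι ι F).det = ((g : Matrix.GeneralLinearGroup ι F) : Matrix ι ι F).det *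
            ((h : Matrix.GeneralLinearGroup ι F) : Matrix ι ι F).det := by
        rw [← Matrix.det_mul]; rfl
      simp only [hmul]
      have hne := one_ne_neg_one h2
      rcases det_eq_or h2 Q hQ g with hg | hg <;> rcases det_eq_or h2 Q hQ h with hh | hh <;>
        simp [hg, hh, hne.symm])

open Classical in
theorem detSign_apply (h2 : (2 : F) ≠ 0) (Q : QuadraticForm F (ι → F))
    (hQ : (QuadraticMap.polarBilin Q).Nondegenerate) (g : ↥(Cfsg.isometryGroup F (⇑Q))) :
    detSign h2 Q hQ g =
      if ((g : Matrix.GeneralLinearGroup ι F) : Matrix ι ι F).det = 1 then 1 else -1 := rfl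

theorem detSign_refl (h2 : (2 : F) ≠ 0) (Q : QuadraticForm F (ι → F))
    (hQ : (QuadraticMap.polarBilin Q).Nondegenerate) (v : ι → F) (hv : Q v ≠ 0) :
    detSign h2 Q hQ (refl Q v hv) = -1 := by
  rw [detSign_apply, refl_coe, det_reflectionMatrix Q hv, if_neg (one_ne_neg_one h2).symm]

/-- A character of the isometry group takes the same value on reflections in vectors whose norms differ
by a non-zero square. -/
theorem char_refl_eq_of_sq (h2 : (2 : F) ≠ 0) (Q : QuadraticForm F (ι → F))
    (χ : ↥(Cfsg.isometryGroup F (⇑Q)) →* ℤˣ) {v w : ι → F} (hv : Q v ≠ 0) (hw : Q w ≠ 0) {s : F}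
    (hs : Q w = s * s * Q v) : χ (refl Q v hv) = χ (refl Q w hw) := by
  obtain ⟨h, hh⟩ := exists_conj_refl_of_sq Q h2 hv hw hs
  rw [← hh, map_mul, map_mul, map_inv, mul_comm (χ h), mul_assoc, mul_inv_cancel, mul_one]

variable [Fintype F]

omit [DecidableEq ι] in
/-- In dimension at least two, `Q` represents every non-zero scalar. -/
theorem exists_norm_eq (h2 : (2 : F) ≠ 0) (Q : QuadraticForm F (ι → F))
    (hQ : (QuadraticMap.polarBilin Q).Nondegenerate) (hn : 2 ≤ Fintype.card ι) (c : F) :
    ∃ v, Q v = c := by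
  obtain ⟨b, hortho, hne⟩ := exists_orthogonal_basis h2 Q hQ
  set i0 : Fin (Fintype.card ι) := ⟨0, by omega⟩ with hi0
  set i1 : Fin (Fintype.card ι) := ⟨1, by omega⟩ with hi1
  have h01 : i0 ≠ i1 := by
    intro h
    have := congrArg Fin.val h
    simp [hi0, hi1] at this
  have hodd : Fintype.card F % 2 = 1 := Nat.odd_iff.mp (odd_card_of_two_ne_zero h2)
  have hf : (Polynomial.C (Q (b i0)) * Polynomial.X ^ 2 : Polynomial F).degree = 2 := by
    rw [Polynomial.degree_C_mul_X_pow 2 (hne i0)]; rfl
  have hg : (Polynomial.C (Q (b i1)) * Polynomial.X ^ 2 - Polynomial.C c : Polynomial F).degree = 2 := by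
    rw [Polynomial.degree_sub_C]
    · rw [Polynomial.degree_C_mul_X_pow 2 (hne i1)]; rfl
    · rw [Polynomial.degree_C_mul_X_pow 2 (hne i1)]; norm_num
  obtain ⟨x, y, hxy⟩ := FiniteField.exists_root_sum_quadratic hf hg hodd
  simp only [Polynomial.eval_mul, Polynomial.eval_C, Polynomial.eval_pow, Polynomial.eval_X,
    Polynomial.eval_sub] at hxy
  refine ⟨x • b i0 + y • b i1, ?_⟩
  rw [QuadraticMap.map_add (⇑Q), QuadraticMap.map_smul, QuadraticMap.map_smul,
    QuadraticMap.polar_smul_left, QuadraticMap.polar_smul_right, hortho i0 i1 h01]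
  simp only [smul_eq_mul, mul_zero, add_zero]
  linear_combination hxy

/-- Two characters agreeing on one reflection of square norm and one of non-square norm are equal. -/
theorem char_ext (h2 : (2 : F) ≠ 0) (Q : QuadraticForm F (ι → F))
    (hQ : (QuadraticMap.polarBilin Q).Nondegenerate)
    (χ ψ : ↥(Cfsg.isometryGroup F (⇑Q)) →* ℤˣ) {a b : ι → F} (ha : Q a ≠ 0) (hb : Q b ≠ 0)
    (hasq : IsSquare (Q a)) (hbsq : ¬ IsSquare (Q b))
    (h1 : χ (refl Q a ha) = ψ (refl Q a ha)) (h2' : χ (refl Q b hb) = ψ (refl Q b hb)) : χ = ψ := by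
  apply MonoidHom.eq_of_eqOn_dense (closure_refl_eq_top h2 Q hQ)
  rintro g ⟨v, hv, rfl⟩
  by_cases hsq : IsSquare (Q v)
  · -- `Q v = s * s * Q a`
    obtain ⟨r, hr⟩ := hsq
    obtain ⟨t, ht⟩ := hasq
    have ht0 : t ≠ 0 := by
      rintro rfl; apply ha; rw [ht]; ring
    have hs : Q v = (r / t) * (r / t) * Q a := by
      rw [hr, ht]; field_simp
    rw [← char_refl_eq_of_sq h2 Q χ ha hv hs, ← char_refl_eq_of_sq h2 Q ψ ha hv hs, h1]
  · obtain ⟨c, hc⟩ := isSquare_mul_of_nonsq_of_nonsq hbsq hsq
    have hs : Q v = (c / Q b) * (c / Q b) * Q b := by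
      field_simp
      linear_combination hc
    rw [← char_refl_eq_of_sq h2 Q χ hb hv hs, ← char_refl_eq_of_sq h2 Q ψ hb hv hs, h2']

section IndexTwo

variable {G : Type*} [Group G]

open Classical in
/-- The character with kernel a given subgroup of index two. -/
noncomputable def charOfIndexTwo (H : Subgroup G) (hH : H.index = 2) : G →* ℤˣ :=
  MonoidHom.mk' (fun g => if g ∈ H then 1 else -1) (by
    intro a b
    have := Subgroup.mul_mem_iff_of_index_two hH (a := a) (b := b)
    by_cases ha : a ∈ H <;> by_cases hb : b ∈ H <;> simp [ha, hb, this])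

open Classical in
theorem charOfIndexTwo_apply (H : Subgroup G) (hH : H.index = 2) (g : G) :
    charOfIndexTwo H hH g = if g ∈ H then 1 else -1 := rfl

theorem ker_charOfIndexTwo (H : Subgroup G) (hH : H.index = 2) : (charOfIndexTwo H hH).ker = H := by
  ext g
  rw [MonoidHom.mem_ker, charOfIndexTwo_apply]
  by_cases hg : g ∈ H
  · simp [hg]
  · simp only [hg, if_false, iff_false]
    decide

theorem index_ker_eq_two (χ : G →* ℤˣ) (g : G) (hg : χ g = -1) : χ.ker.index = 2 := by
  rw [Subgroup.index_ker]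
  have : χ.range = ⊤ := by
    rw [eq_top_iff]
    intro u _
    rcases Int.units_eq_one_or u with rfl | rfl
    · exact χ.range.one_mem
    · exact ⟨g, hg⟩
  rw [this, Nat.card_congr Subgroup.topEquiv.toEquiv, Nat.card_eq_fintype_card, Fintype.card_units_int]

end IndexTwo

/-- **`O(Q)` has exactly three subgroups of index two** (dimension at least two, odd characteristic, non-degenerate
polar form). -/
theorem card_index_two (h2 : (2 : F) ≠ 0) (Q : QuadraticForm F (ι → F))
    (hQ : (QuadraticMap.polarBilin Q).Nondegenerate) (hn : 2 ≤ Fintype.card ι) :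
    Nat.card {H : Subgroup ↥(Cfsg.isometryGroup F (⇑Q)) // H.index = 2} = 3 := by
  classical
  obtain ⟨a, ha1⟩ := exists_norm_eq h2 Q hQ hn 1
  obtain ⟨ε, hε⟩ := FiniteField.exists_nonsquare (ringChar_ne_two_of_two_ne_zero h2)
  obtain ⟨b, hbε⟩ := exists_norm_eq h2 Q hQ hn ε
  have ha : Q a ≠ 0 := by rw [ha1]; exact one_ne_zero
  have hb : Q b ≠ 0 := by
    rw [hbε]; rintro rfl; exact hε ⟨0, by simp⟩
  have hasq : IsSquare (Q a) := by rw [ha1]; exact ⟨1, by simp⟩
  have hbsq : ¬ IsSquare (Q b) := by rw [hbε]; exact hε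
  set θ := theta Q with hθ
  set δ := detSign h2 Q hQ with hδ
  set η := θ * δ with hη
  have θa : θ (refl Q a ha) = -1 := (theta_refl Q h2 a ha).1 hasq
  have θb : θ (refl Q b hb) = 1 := (theta_refl Q h2 b hb).2 hbsq
  have δa : δ (refl Q a ha) = -1 := detSign_refl h2 Q hQ a ha
  have δb : δ (refl Q b hb) = -1 := detSign_refl h2 Q hQ b hb
  have ηa : η (refl Q a ha) = 1 := by rw [hη, MonoidHom.mul_apply, θa, δa]; decide
  have ηb : η (refl Q b hb) = -1 := by rw [hη, MonoidHom.mul_apply, θb, δb]; decide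
  have hneg : (-1 : ℤˣ) ≠ 1 := by decide
  show Nat.card ↥{H : Subgroup ↥(Cfsg.isometryGroup F (⇑Q)) | H.index = 2} = 3
  rw [Nat.card_coe_set_eq, Set.ncard_eq_three]
  refine ⟨θ.ker, δ.ker, η.ker, ?_, ?_, ?_, ?_⟩
  · intro h
    have : refl Q b hb ∈ δ.ker := by rw [← h, MonoidHom.mem_ker]; exact θb
    rw [MonoidHom.mem_ker, δb] at this
    exact hneg this
  · intro h
    have : refl Q b hb ∈ η.ker := by rw [← h, MonoidHom.mem_ker]; exact θb
    rw [MonoidHom.mem_ker, ηb] at this
    exact hneg this
  · intro h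
    have : refl Q a ha ∈ δ.ker := by rw [h, MonoidHom.mem_ker]; exact ηa
    rw [MonoidHom.mem_ker, δa] at this
    exact hneg this
  · ext H
    simp only [Set.mem_ofPred_eq, Set.mem_insert_iff, Set.mem_singleton_iff]
    constructor
    · intro hH
      set χ := charOfIndexTwo H hH with hχ
      have hker : χ.ker = H := ker_charOfIndexTwo H hH
      rcases Int.units_eq_one_or (χ (refl Q a ha)) with ca | ca <;>
        rcases Int.units_eq_one_or (χ (refl Q b hb)) with cb | cb
      · exfalso
        have : χ = 1 := char_ext h2 Q hQ χ 1 ha hb hasq hbsq (by rw [ca]; rfl) (by rw [cb]; rfl)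
        rw [this, MonoidHom.ker_one] at hker
        rw [← hker, Subgroup.index_top] at hH
        norm_num at hH
      · right; right
        rw [← hker]
        congr 1
        exact char_ext h2 Q hQ χ η ha hb hasq hbsq (by rw [ca, ηa]) (by rw [cb, ηb])
      · left
        rw [← hker]
        congr 1
        exact char_ext h2 Q hQ χ θ ha hb hasq hbsq (by rw [ca, θa]) (by rw [cb, θb])
      · right; left
        rw [← hker]
        congr 1
        exact char_ext h2 Q hQ χ δ ha hb hasq hbsq (by rw [ca, δa]) (by rw [cb, δb])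
    · rintro (rfl | rfl | rfl)
      · exact index_ker_eq_two θ _ θa
      · exact index_ker_eq_two δ _ δa
      · exact index_ker_eq_two η _ ηb

end Cfsg.Agent.Lib.Helper14_OrthChars
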