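import Mathlib
import Cfsg.Agent.Lib.Helper14_Siegel
import Cfsg.Agent.Lib.Helper14_CartanDieudonne
import Cfsg.Agent.Lib.Helper14_OrthChars

set_option autoImplicit false

/-!
Odd characteristic, dimension at least five: the commutator subgroup of the isometry group of a quadratic
form with non-degenerate polar form over a finite field lies in the group generated by the Siegel
transformations (helper14).
-/

namespace Cfsg.Agent.Lib.Helper14_SiegelOmega

open Cfsg Matrix Module Cfsg.Agent.Lib.Helper44_Orth Cfsg.Agent.Lib.Helper44_Refl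
  Cfsg.Agent.Lib.Helper44_FinSq Cfsg.Agent.Lib.Helper14_NegOne
  Cfsg.Agent.Lib.Helper14_CartanDieudonne Cfsg.Agent.Lib.Helper14_OrthChars
  Cfsg.Agent.Lib.Helper14_Siegel

section general

variable {G : Type*} [Group G]

/-- If a generating set commutes modulo a normal subgroup `N`, then `N` contains the commutator subgroup. -/
theorem commutator_le_of_comm (N : Subgroup G) [N.Normal] (T : Set G)
    (hT : Subgroup.closure T = ⊤)
    (hcomm : ∀ a ∈ T, ∀ b ∈ T, Commute (a : G ⧸ N) (b : G ⧸ N)) : commutator G ≤ N := by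
  have step1 : ∀ b ∈ T, ∀ g : G, Commute (g : G ⧸ N) (b : G ⧸ N) := by
    intro b hb g
    have hg : g ∈ Subgroup.closure T := hT ▸ Subgroup.mem_top g
    induction hg using Subgroup.closure_induction with
    | mem x hx => exact hcomm x hx b hb
    | one => exact Commute.one_left _
    | mul x y _ _ hx hy =>
      rw [QuotientGroup.mk_mul]
      exact hx.mul_left hy
    | inv x _ hx =>
      rw [QuotientGroup.mk_inv]
      exact hx.inv_left
  have step2 : ∀ g h : G, Commute (g : G ⧸ N) (h : G ⧸ N) := by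
    intro g h
    have hh : h ∈ Subgroup.closure T := hT ▸ Subgroup.mem_top h
    induction hh using Subgroup.closure_induction with
    | mem x hx => exact step1 x hx g
    | one => exact Commute.one_right _
    | mul x y _ _ hx hy =>
      rw [QuotientGroup.mk_mul]
      exact hx.mul_right hy
    | inv x _ hx =>
      rw [QuotientGroup.mk_inv]
      exact hx.inv_right
  rw [commutator_eq_closure, Subgroup.closure_le]
  rintro x ⟨g, h, rfl⟩
  rw [SetLike.mem_coe, ← QuotientGroup.eq_one_iff]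
  have := map_commutatorElement (QuotientGroup.mk' N) g h
  rw [QuotientGroup.mk'_apply, QuotientGroup.mk'_apply, QuotientGroup.mk'_apply] at this
  rw [this, commutatorElement_eq_one_iff_commute]
  exact step2 g h

end general

variable {ι : Type} [Fintype ι] [DecidableEq ι] {F : Type*} [Field F]

/-- Reflections in orthogonal vectors commute. -/
theorem refl_comm_of_orth (Q : QuadraticForm F (ι → F)) {v w : ι → F} (hv : Q v ≠ 0) (hw : Q w ≠ 0)
    (hvw : QuadraticMap.polar (⇑Q) v w = 0) :
    refl Q v hv * refl Q w hw = refl Q w hw * refl Q v hv := by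
  have hinv : (refl Q v hv)⁻¹ = refl Q v hv := inv_eq_of_mul_eq_one_right (refl_mul_self Q v hv)
  have h1 : refl Q v hv * refl Q w hw * (refl Q v hv)⁻¹ = refl Q w hw := by
    apply Subtype.ext
    apply Units.ext
    have := conj_reflectionMatrix Q (refl Q v hv) w
    have hfix : (refl Q v hv : Matrix.GeneralLinearGroup ι F).1 *ᵥ w = w := by
      rw [refl_coe, reflectionMatrix_mulVec, hvw]; simp
    rw [hfix] at this
    exact this
  rw [hinv] at h1
  calc refl Q v hv * refl Q w hw
      = refl Q v hv * refl Q w hw * (refl Q v hv * refl Q v hv) := by rw [refl_mul_self, mul_one]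
    _ = (refl Q v hv * refl Q w hw * refl Q v hv) * refl Q v hv := by simp only [mul_assoc]
    _ = refl Q w hw * refl Q v hv := by rw [h1]

variable [Fintype F]

/-- An orthogonal pair of non-singular vectors, one of square norm and one of non-square norm. -/
theorem exists_orth_pair (h2 : (2 : F) ≠ 0) (Q : QuadraticForm F (ι → F))
    (hQ : (QuadraticMap.polarBilin Q).Nondegenerate) (hn : 3 ≤ Fintype.card ι) :
    ∃ v₁ v₂ : ι → F, QuadraticMap.polar (⇑Q) v₁ v₂ = 0 ∧ Q v₁ ≠ 0 ∧ IsSquare (Q v₁) ∧ Q v₂ ≠ 0 ∧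
      ¬ IsSquare (Q v₂) := by
  obtain ⟨b, hortho, hne⟩ := exists_orthogonal_basis h2 Q hQ
  set i0 : Fin (Fintype.card ι) := ⟨0, by omega⟩ with hi0
  set i1 : Fin (Fintype.card ι) := ⟨1, by omega⟩ with hi1
  set i2 : Fin (Fintype.card ι) := ⟨2, by omega⟩ with hi2
  have h01 : i0 ≠ i1 := by
    intro h; have := congrArg Fin.val h; simp [hi0, hi1] at this
  have h02 : i0 ≠ i2 := by
    intro h; have := congrArg Fin.val h; simp [hi0, hi2] at this
  have h12 : i1 ≠ i2 := by
    intro h; have := congrArg Fin.val h; simp [hi1, hi2] at this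
  have hodd : Fintype.card F % 2 = 1 := Nat.odd_iff.mp (odd_card_of_two_ne_zero h2)
  -- the binary form on `b i1, b i2` is universal
  have huniv : ∀ c : F, ∃ w : ι → F, QuadraticMap.polar (⇑Q) (b i0) w = 0 ∧ Q w = c := by
    intro c
    have hf : (Polynomial.C (Q (b i1)) * Polynomial.X ^ 2 : Polynomial F).degree = 2 := by
      rw [Polynomial.degree_C_mul_X_pow 2 (hne i1)]; rfl
    have hg : (Polynomial.C (Q (b i2)) * Polynomial.X ^ 2 - Polynomial.C c : Polynomial F).degree
        = 2 := by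
      rw [Polynomial.degree_sub_C]
      · rw [Polynomial.degree_C_mul_X_pow 2 (hne i2)]; rfl
      · rw [Polynomial.degree_C_mul_X_pow 2 (hne i2)]; norm_num
    obtain ⟨x, y, hxy⟩ := FiniteField.exists_root_sum_quadratic hf hg hodd
    simp only [Polynomial.eval_mul, Polynomial.eval_C, Polynomial.eval_pow, Polynomial.eval_X,
      Polynomial.eval_sub] at hxy
    refine ⟨x • b i1 + y • b i2, ?_, ?_⟩
    · rw [QuadraticMap.polar_add_right, QuadraticMap.polar_smul_right, QuadraticMap.polar_smul_right,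
        hortho i0 i1 h01, hortho i0 i2 h02]
      simp
    · rw [QuadraticMap.map_add (⇑Q), QuadraticMap.map_smul, QuadraticMap.map_smul,
        QuadraticMap.polar_smul_left, QuadraticMap.polar_smul_right, hortho i1 i2 h12]
      simp only [smul_eq_mul, mul_zero, add_zero]
      linear_combination hxy
  obtain ⟨ε, hε⟩ := FiniteField.exists_nonsquare (ringChar_ne_two_of_two_ne_zero h2)
  have hε0 : ε ≠ 0 := by rintro rfl; exact hε ⟨0, by simp⟩
  by_cases hsq : IsSquare (Q (b i0))
  · obtain ⟨w, hw0, hwε⟩ := huniv ε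
    exact ⟨b i0, w, hw0, hne i0, hsq, by rw [hwε]; exact hε0, by rw [hwε]; exact hε⟩
  · obtain ⟨w, hw0, hw1⟩ := huniv 1
    refine ⟨w, b i0, ?_, by rw [hw1]; exact one_ne_zero, by rw [hw1]; exact ⟨1, by simp⟩, hne i0, hsq⟩
    rw [QuadraticMap.polar_comm]; exact hw0

theorem same_class {a b : F} (ha : a ≠ 0) (hab : IsSquare a ↔ IsSquare b) :
    ∃ s : F, b = s * s * a := by
  by_cases hsq : IsSquare a
  · obtain ⟨r, hr⟩ := hsq
    obtain ⟨t, ht⟩ := hab.mp ⟨r, hr⟩
    have hr0 : r ≠ 0 := by
      rintro rfl; apply ha; rw [hr]; ring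
    refine ⟨t / r, ?_⟩
    rw [hr, ht]; field_simp
  · have hb : ¬ IsSquare b := fun h => hsq (hab.mpr h)
    obtain ⟨c, hc⟩ := isSquare_mul_of_nonsq_of_nonsq hsq hb
    refine ⟨c / a, ?_⟩
    field_simp
    linear_combination hc

/-- Reflections in vectors whose norms lie in the same square class agree modulo the Siegel group. -/
theorem refl_mul_refl_mem_of_class (h2 : (2 : F) ≠ 0) (Q : QuadraticForm F (ι → F))
    (hQ : (QuadraticMap.polarBilin Q).Nondegenerate) (hn : 5 ≤ Fintype.card ι) {v w : ι → F}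
    (hv : Q v ≠ 0) (hw : Q w ≠ 0) (hvw : IsSquare (Q v) ↔ IsSquare (Q w)) :
    refl Q v hv * refl Q w hw ∈ siegelGroup Q := by
  obtain ⟨s, hs⟩ := same_class hv hvw
  have hs0 : s ≠ 0 := by
    rintro rfl
    apply hw; rw [hs]; ring
  have hsv : Q (s • v) ≠ 0 := by
    rw [QuadraticMap.map_smul, smul_eq_mul, ← hs]; exact hw
  have heq : refl Q (s • v) hsv = refl Q v hv := by
    apply Subtype.ext
    apply Units.ext
    exact reflectionMatrix_smul Q v hs0
  have hnorm : Q (s • v) = Q w := by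
    rw [QuadraticMap.map_smul, smul_eq_mul, ← hs]
  rw [← heq]
  exact refl_mul_refl_mem_of_eq h2 Q hQ hn hsv hw hnorm

/-- **Odd characteristic, dimension at least five**: `Ω = [O, O]` lies in the group generated by the Siegel
transformations. -/
theorem commutator_le_siegelGroup (h2 : (2 : F) ≠ 0) (Q : QuadraticForm F (ι → F))
    (hQ : (QuadraticMap.polarBilin Q).Nondegenerate) (hn : 5 ≤ Fintype.card ι) :
    commutator ↥(Cfsg.isometryGroup F (⇑Q)) ≤ siegelGroup Q := by
  obtain ⟨v₁, v₂, h12, hv₁, hsq₁, hv₂, hsq₂⟩ := exists_orth_pair h2 Q hQ (by omega)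
  have hinv : ∀ (z : ι → F) (hz : Q z ≠ 0), (refl Q z hz)⁻¹ = refl Q z hz := fun z hz =>
    inv_eq_of_mul_eq_one_right (refl_mul_self Q z hz)
  -- every reflection is congruent to `r₁` or `r₂`
  have hrep : ∀ (v : ι → F) (hv : Q v ≠ 0),
      ((refl Q v hv : ↥(Cfsg.isometryGroup F (⇑Q))) : ↥(Cfsg.isometryGroup F (⇑Q)) ⧸ siegelGroup Q)
          = (refl Q v₁ hv₁ : ↥(Cfsg.isometryGroup F (⇑Q))) ∨
      ((refl Q v hv : ↥(Cfsg.isometryGroup F (⇑Q))) : ↥(Cfsg.isometryGroup F (⇑Q)) ⧸ siegelGroup Q)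
          = (refl Q v₂ hv₂ : ↥(Cfsg.isometryGroup F (⇑Q))) := by
    intro v hv
    by_cases hsq : IsSquare (Q v)
    · left
      rw [QuotientGroup.eq, hinv]
      exact refl_mul_refl_mem_of_class h2 Q hQ hn hv hv₁ ⟨fun _ => hsq₁, fun _ => hsq⟩
    · right
      rw [QuotientGroup.eq, hinv]
      exact refl_mul_refl_mem_of_class h2 Q hQ hn hv hv₂
        ⟨fun h => absurd h hsq, fun h => absurd h hsq₂⟩
  have hc12 : Commute
      ((refl Q v₁ hv₁ : ↥(Cfsg.isometryGroup F (⇑Q))) : ↥(Cfsg.isometryGroup F (⇑Q)) ⧸ siegelGroup Q)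
      ((refl Q v₂ hv₂ : ↥(Cfsg.isometryGroup F (⇑Q))) : ↥(Cfsg.isometryGroup F (⇑Q)) ⧸ siegelGroup Q) := by
    show _ * _ = _ * _
    rw [← QuotientGroup.mk_mul, ← QuotientGroup.mk_mul, refl_comm_of_orth Q hv₁ hv₂ h12]
  apply commutator_le_of_comm (siegelGroup Q) _ (closure_refl_eq_top h2 Q hQ)
  rintro a ⟨v, hv, rfl⟩ b ⟨w, hw, rfl⟩
  rcases hrep v hv with h | h <;> rcases hrep w hw with h' | h' <;> rw [h, h'] <;>
    first | exact hc12 | exact hc12.symm

end Cfsg.Agent.Lib.Helper14_SiegelOmega
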