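import Mathlib
import Cfsg.Agent.Lib.Helper44_Eichler
import Cfsg.Agent.Lib.Helper14_CartanDieudonne

set_option autoImplicit false

/-!
The Cartan–Dieudonné theorem (weak form) in characteristic two: for a quadratic form `Q` on `ι → F` with
non-degenerate polar form over a finite field of characteristic two, every isometry is a product of reflections
(orthogonal transvections), except in dimension four over the field with two elements (helper44).
-/

namespace Cfsg.Agent.Lib.Helper44_CD2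

open Cfsg Matrix Module Cfsg.Agent.Lib.Helper44_Orth Cfsg.Agent.Lib.Helper44_Refl
  Cfsg.Agent.Lib.Helper44_Spinor Cfsg.Agent.Lib.Helper44_ReflProd Cfsg.Agent.Lib.Helper44_Eichler
  Cfsg.Agent.Lib.Helper14_CartanDieudonne Cfsg.Agent.Lib.Helper14_NegOne

variable {ι : Type} [Fintype ι] [DecidableEq ι] {F : Type*} [Field F]

/-- The orthogonal complement with respect to the polar form. -/
abbrev orth (Q : QuadraticForm F (ι → F)) (W : Submodule F (ι → F)) : Submodule F (ι → F) :=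
  LinearMap.BilinForm.orthogonal (QuadraticMap.polarBilin Q) W

omit [Fintype ι] [DecidableEq ι] in
theorem mem_orth (Q : QuadraticForm F (ι → F)) (W : Submodule F (ι → F)) (x : ι → F) :
    x ∈ orth Q W ↔ ∀ n ∈ W, QuadraticMap.polar (⇑Q) n x = 0 := by
  rw [orth, LinearMap.BilinForm.mem_orthogonal_iff]
  simp only [QuadraticMap.polarBilin_apply_apply]

omit [Fintype ι] [DecidableEq ι] in
theorem mem_orth' (Q : QuadraticForm F (ι → F)) (W : Submodule F (ι → F)) (x : ι → F) :
    x ∈ orth Q W ↔ ∀ n ∈ W, QuadraticMap.polar (⇑Q) x n = 0 := by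
  rw [mem_orth]
  constructor
  · intro h n hn; rw [QuadraticMap.polar_comm]; exact h n hn
  · intro h n hn; rw [QuadraticMap.polar_comm]; exact h n hn

omit [DecidableEq ι] in
theorem orth_orth (Q : QuadraticForm F (ι → F)) (hQ : (QuadraticMap.polarBilin Q).Nondegenerate)
    (W : Submodule F (ι → F)) : orth Q (orth Q W) = W :=
  LinearMap.BilinForm.orthogonal_orthogonal hQ (polarBilin_isSymm Q).isRefl W

omit [DecidableEq ι] in
/-- The orthogonal complement of a non-degenerate subspace is non-degenerate. -/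
theorem orth_inf_orth_orth (Q : QuadraticForm F (ι → F))
    (hQ : (QuadraticMap.polarBilin Q).Nondegenerate) {W : Submodule F (ι → F)}
    (hW : W ⊓ orth Q W = ⊥) : orth Q W ⊓ orth Q (orth Q W) = ⊥ := by
  rw [orth_orth Q hQ, inf_comm]; exact hW

omit [Fintype ι] [DecidableEq ι] in
/-- In a non-degenerate subspace, every non-zero vector pairs non-trivially with some vector. -/
theorem exists_polar_ne_zero (Q : QuadraticForm F (ι → F)) {S : Submodule F (ι → F)}
    (hS : S ⊓ orth Q S = ⊥) {x : ι → F} (hx : x ∈ S) (hx0 : x ≠ 0) :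
    ∃ y ∈ S, QuadraticMap.polar (⇑Q) x y ≠ 0 := by
  by_contra hcon
  push Not at hcon
  apply hx0
  have : x ∈ S ⊓ orth Q S := ⟨hx, (mem_orth' Q S x).mpr hcon⟩
  rw [hS] at this
  exact (Submodule.mem_bot F).mp this

omit [Fintype ι] [DecidableEq ι] in
/-- A non-zero non-degenerate subspace contains a non-singular vector. -/
theorem exists_nonsingular (Q : QuadraticForm F (ι → F)) {S : Submodule F (ι → F)}
    (hS : S ⊓ orth Q S = ⊥) {x : ι → F} (hx : x ∈ S) (hx0 : x ≠ 0) : ∃ y ∈ S, Q y ≠ 0 := by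
  by_contra hcon
  push Not at hcon
  obtain ⟨y, hy, hxy⟩ := exists_polar_ne_zero Q hS hx hx0
  apply hxy
  rw [QuadraticMap.polar, hcon _ (S.add_mem hx hy), hcon x hx, hcon y hy]
  ring

omit [Fintype ι] [DecidableEq ι] in
theorem polar_self_zero (h2 : (2 : F) = 0) (Q : QuadraticForm F (ι → F)) (x : ι → F) :
    QuadraticMap.polar (⇑Q) x x = 0 := by
  rw [Helper44_Refl.polar_self, h2, zero_mul]

omit [DecidableEq ι] in
/-- A non-degenerate subspace containing a non-zero isotropic vector has dimension at least two. -/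
theorem two_le_finrank (Q : QuadraticForm F (ι → F)) {S : Submodule F (ι → F)}
    (hS : S ⊓ orth Q S = ⊥) {x : ι → F} (hx : x ∈ S) (hx0 : x ≠ 0)
    (hxx : QuadraticMap.polar (⇑Q) x x = 0) : 2 ≤ finrank F S := by
  obtain ⟨y, hy, hxy⟩ := exists_polar_ne_zero Q hS hx hx0
  have hli : LinearIndependent F ![(⟨x, hx⟩ : S), ⟨y, hy⟩] := by
    rw [LinearIndependent.pair_iff]
    intro s t hst
    have hst' : s • x + t • y = 0 := by
      have := congrArg (Subtype.val) hst
      simpa using this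
    have h1 : QuadraticMap.polar (⇑Q) x (s • x + t • y) = 0 := by
      rw [hst']; exact QuadraticMap.polar_zero_right _ _
    rw [QuadraticMap.polar_add_right, QuadraticMap.polar_smul_right, QuadraticMap.polar_smul_right,
      hxx, smul_zero, zero_add, smul_eq_mul] at h1
    have ht : t = 0 := by
      rcases mul_eq_zero.mp h1 with h | h
      · exact h
      · exact absurd h hxy
    rw [ht, zero_smul, add_zero] at hst'
    have hs : s = 0 := by
      rcases smul_eq_zero.mp hst' with h | h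
      · exact h
      · exact absurd h hx0
    exact ⟨hs, ht⟩
  have := hli.fintype_card_le_finrank
  simpa using this

omit [Fintype ι] [DecidableEq ι] in
/-- Adding a pair `u, w` with `B(u,w) = 1` from the orthogonal complement keeps a subspace non-degenerate
(characteristic two). -/
theorem nondeg_sup_pair (h2 : (2 : F) = 0) (Q : QuadraticForm F (ι → F)) {W : Submodule F (ι → F)}
    (hW : W ⊓ orth Q W = ⊥) {u w : ι → F} (hu : u ∈ orth Q W) (hw : w ∈ orth Q W)
    (huw : QuadraticMap.polar (⇑Q) u w = 1) :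
    (W ⊔ Submodule.span F {u} ⊔ Submodule.span F {w})
      ⊓ orth Q (W ⊔ Submodule.span F {u} ⊔ Submodule.span F {w}) = ⊥ := by
  rw [eq_bot_iff]
  rintro x ⟨hx1, hx2⟩
  obtain ⟨y, hy, z, hz, rfl⟩ := Submodule.mem_sup.mp hx1
  obtain ⟨a, ha, y', hy', rfl⟩ := Submodule.mem_sup.mp hy
  obtain ⟨α, rfl⟩ := Submodule.mem_span_singleton.mp hy'
  obtain ⟨β, rfl⟩ := Submodule.mem_span_singleton.mp hz
  have huW' : u ∈ W ⊔ Submodule.span F {u} ⊔ Submodule.span F {w} :=
    Submodule.mem_sup_left (Submodule.mem_sup_right (Submodule.mem_span_singleton_self u))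
  have hwW' : w ∈ W ⊔ Submodule.span F {u} ⊔ Submodule.span F {w} :=
    Submodule.mem_sup_right (Submodule.mem_span_singleton_self w)
  have hua : QuadraticMap.polar (⇑Q) u a = 0 := (mem_orth' Q W u).mp hu a ha
  have hwa : QuadraticMap.polar (⇑Q) w a = 0 := (mem_orth' Q W w).mp hw a ha
  have hwu : QuadraticMap.polar (⇑Q) w u = 1 := by rw [QuadraticMap.polar_comm]; exact huw
  have e1 := (mem_orth Q _ _).mp hx2 u huW'
  have e2 := (mem_orth Q _ _).mp hx2 w hwW'
  simp only [QuadraticMap.polar_add_right, QuadraticMap.polar_smul_right, hua, hwa, huw, hwu,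
    polar_self_zero h2, smul_eq_mul, mul_zero, mul_one, zero_add, add_zero] at e1 e2
  subst e1 e2
  simp only [zero_smul, add_zero] at hx2 ⊢
  have : a ∈ W ⊓ orth Q W := by
    refine ⟨ha, ?_⟩
    have hle : W ≤ W ⊔ Submodule.span F {u} ⊔ Submodule.span F {w} :=
      le_sup_of_le_left le_sup_left
    exact LinearMap.BilinForm.orthogonal_le hle hx2
  rw [hW] at this
  exact this

omit [Fintype ι] [DecidableEq ι] in
theorem lt_sup_pair (Q : QuadraticForm F (ι → F)) {W : Submodule F (ι → F)}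
    (hW : W ⊓ orth Q W = ⊥) {u : ι → F} (w : ι → F) (hu : u ∈ orth Q W) (hu0 : u ≠ 0) :
    W < W ⊔ Submodule.span F {u} ⊔ Submodule.span F {w} := by
  apply lt_of_le_of_ne (le_sup_of_le_left le_sup_left)
  intro h
  apply hu0
  have huW' : u ∈ W ⊔ Submodule.span F {u} ⊔ Submodule.span F {w} :=
    Submodule.mem_sup_left (Submodule.mem_sup_right (Submodule.mem_span_singleton_self u))
  rw [← h] at huW'
  have : u ∈ W ⊓ orth Q W := ⟨huW', hu⟩
  rw [hW] at this
  exact (Submodule.mem_bot F).mp this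

omit [DecidableEq ι] in
theorem fix_sup_pair {W : Submodule F (ι → F)} {u w : ι → F} (M : Matrix ι ι F)
    (h1 : ∀ x ∈ W, M *ᵥ x = x) (hu : M *ᵥ u = u) (hw : M *ᵥ w = w) :
    ∀ x ∈ W ⊔ Submodule.span F {u} ⊔ Submodule.span F {w}, M *ᵥ x = x := by
  intro x hx
  obtain ⟨y, hy, z, hz, rfl⟩ := Submodule.mem_sup.mp hx
  obtain ⟨a, ha, y', hy', rfl⟩ := Submodule.mem_sup.mp hy
  obtain ⟨α, rfl⟩ := Submodule.mem_span_singleton.mp hy'
  obtain ⟨β, rfl⟩ := Submodule.mem_span_singleton.mp hz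
  rw [Matrix.mulVec_add, Matrix.mulVec_add, Matrix.mulVec_smul, Matrix.mulVec_smul, h1 a ha, hu, hw]

theorem IsReflProd.isIsom {Q : QuadraticForm F (ι → F)} {T : Matrix ι ι F} {j : ℕ} {d : F}
    (h : IsReflProd Q T j d) : IsIsom Q T := by
  obtain ⟨vs, h1, h2, -, -⟩ := h
  subst h2
  induction vs with
  | nil => intro x; simp
  | cons v vs ih =>
    rw [List.map_cons, List.prod_cons]
    exact (isIsom_refl Q (h1 v List.mem_cons_self)).mul
      (ih (fun w hw => h1 w (List.mem_cons_of_mem _ hw)))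

omit [DecidableEq ι] in
theorem isom_mem_orth {Q : QuadraticForm F (ι → F)} {M : Matrix ι ι F} (hM : IsIsom Q M)
    {W : Submodule F (ι → F)} (hfix : ∀ x ∈ W, M *ᵥ x = x) {x : ι → F} (hx : x ∈ orth Q W) :
    M *ᵥ x ∈ orth Q W := by
  rw [mem_orth] at hx ⊢
  intro n hn
  have := hM.polar n x
  rw [hfix n hn] at this
  rw [this]
  exact hx n hn

theorem refl_fix_of_mem_orth (Q : QuadraticForm F (ι → F)) {W : Submodule F (ι → F)} {u : ι → F}
    (hu : u ∈ orth Q W) : ∀ x ∈ W, Cfsg.reflectionMatrix (⇑Q) u *ᵥ x = x := by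
  intro x hx
  apply refl_fix
  exact (mem_orth' Q W u).mp hu x hx

omit [Fintype ι] [DecidableEq ι] in
theorem map_sub_eq (Q : QuadraticForm F (ι → F)) (v w : ι → F) :
    Q (v - w) = Q v + Q w - QuadraticMap.polar (⇑Q) w v := by
  have := map_sub_smul Q w v 1
  simpa using this

/-- **Step 1**: move `M u` back to `u` by a product of reflections fixing `W` pointwise. -/
theorem move_u (h2 : (2 : F) = 0) (Q : QuadraticForm F (ι → F))
    (hQ : (QuadraticMap.polarBilin Q).Nondegenerate)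
    {M : Matrix ι ι F} {W : Submodule F (ι → F)} (hM : IsIsom Q M) (hfix : ∀ x ∈ W, M *ᵥ x = x)
    (hW : W ⊓ orth Q W = ⊥) {u : ι → F} (hu : u ∈ orth Q W)
    (hiso : (∃ s ∈ orth Q W, s ≠ 0 ∧ Q s = 0) → Q u = 0) :
    ∃ (T : Matrix ι ι F) (j : ℕ) (d : F), IsReflProd Q T j d ∧ (∀ x ∈ W, T *ᵥ x = x) ∧
      T *ᵥ (M *ᵥ u) = u := by
  set u' := M *ᵥ u with hu'def
  have hu' : u' ∈ orth Q W := isom_mem_orth hM hfix hu
  have hQu' : Q u' = Q u := hM u
  have hX := orth_inf_orth_orth Q hQ hW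
  by_cases h1 : u' = u
  · exact ⟨1, 0, 1, IsReflProd.one Q, fun x _ => Matrix.one_mulVec x, by rw [Matrix.one_mulVec, h1]⟩
  by_cases hd : Q (u' - u) ≠ 0
  · refine ⟨Cfsg.reflectionMatrix (⇑Q) (u' - u), 1, Q (u' - u), IsReflProd.refl Q hd, ?_, ?_⟩
    · exact refl_fix_of_mem_orth Q ((orth Q W).sub_mem hu' hu)
    · exact reflection_sub_apply Q hQu' hd
  rw [not_not] at hd
  have hs0 : u' - u ≠ 0 := sub_ne_zero.mpr h1
  have hu0Q : Q u = 0 := hiso ⟨u' - u, (orth Q W).sub_mem hu' hu, hs0, hd⟩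
  have hu'0Q : Q u' = 0 := by rw [hQu', hu0Q]
  have huu' : QuadraticMap.polar (⇑Q) u u' = 0 := by
    have := map_sub_eq Q u' u
    rw [hd, hu0Q, hu'0Q] at this
    linear_combination this
  have hu0 : u ≠ 0 := by
    intro h
    apply h1
    rw [hu'def, h, Matrix.mulVec_zero]
  obtain ⟨x₁, hx₁, hux₁⟩ := exists_polar_ne_zero Q hX hu hu0
  have hu'0 : u' ≠ 0 := by
    intro h
    apply hux₁
    have := hM.polar u x₁
    rw [← hu'def, h, QuadraticMap.polar_zero_left] at this
    exact this.symm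
  obtain ⟨x₂, hx₂, hux₂⟩ := exists_polar_ne_zero Q hX hu' hu'0
  -- a vector pairing non-trivially with both
  have hf₀ : ∃ f₀ ∈ orth Q W, QuadraticMap.polar (⇑Q) u f₀ ≠ 0 ∧
      QuadraticMap.polar (⇑Q) u' f₀ ≠ 0 := by
    by_cases c1 : QuadraticMap.polar (⇑Q) u' x₁ ≠ 0
    · exact ⟨x₁, hx₁, hux₁, c1⟩
    by_cases c2 : QuadraticMap.polar (⇑Q) u x₂ ≠ 0
    · exact ⟨x₂, hx₂, c2, hux₂⟩
    rw [not_not] at c1 c2
    refine ⟨x₁ + x₂, (orth Q W).add_mem hx₁ hx₂, ?_, ?_⟩
    · rw [QuadraticMap.polar_add_right, c2, add_zero]; exact hux₁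
    · rw [QuadraticMap.polar_add_right, c1, zero_add]; exact hux₂
  obtain ⟨f₀, hf₀X, hf₀u, hf₀u'⟩ := hf₀
  set t := Q f₀ * (QuadraticMap.polar (⇑Q) u f₀)⁻¹ with ht
  set e := f₀ - t • u with he
  have heX : e ∈ orth Q W := (orth Q W).sub_mem hf₀X ((orth Q W).smul_mem _ hu)
  have hQe : Q e = 0 := by
    rw [he, map_sub_smul, hu0Q, ht]
    field_simp
    ring
  have hue : QuadraticMap.polar (⇑Q) u e ≠ 0 := by
    rw [he, QuadraticMap.polar_sub_right, QuadraticMap.polar_smul_right, polar_self_zero h2,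
      smul_zero, sub_zero]
    exact hf₀u
  have hu'e : QuadraticMap.polar (⇑Q) u' e ≠ 0 := by
    rw [he, QuadraticMap.polar_sub_right, QuadraticMap.polar_smul_right,
      QuadraticMap.polar_comm (⇑Q) u' u, huu', smul_zero, sub_zero]
    exact hf₀u'
  have hd1 : Q (u' - e) ≠ 0 := by
    rw [map_sub_eq, hu'0Q, hQe, zero_add, zero_sub, neg_ne_zero, QuadraticMap.polar_comm]
    exact hu'e
  have hd2 : Q (e - u) ≠ 0 := by
    rw [map_sub_eq, hu0Q, hQe, zero_add, zero_sub, neg_ne_zero]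
    exact hue
  refine ⟨Cfsg.reflectionMatrix (⇑Q) (e - u) * Cfsg.reflectionMatrix (⇑Q) (u' - e), 1 + 1,
    Q (e - u) * Q (u' - e), (IsReflProd.refl Q hd2).mul (IsReflProd.refl Q hd1), ?_, ?_⟩
  · intro x hx
    rw [← Matrix.mulVec_mulVec, refl_fix_of_mem_orth Q ((orth Q W).sub_mem hu' heX) x hx,
      refl_fix_of_mem_orth Q ((orth Q W).sub_mem heX hu) x hx]
  · rw [← Matrix.mulVec_mulVec, reflection_sub_apply Q (hu'0Q.trans hQe.symm) hd1,
      reflection_sub_apply Q (hQe.trans hu0Q.symm) hd2]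

/-- **Step 2**: with `M u = u`, move `M w` back to `w` by a product of reflections fixing `W` pointwise and `u`. -/
theorem move_w (h2 : (2 : F) = 0) (Q : QuadraticForm F (ι → F))
    {M : Matrix ι ι F} {W : Submodule F (ι → F)} (hM : IsIsom Q M) (hfix : ∀ x ∈ W, M *ᵥ x = x)
    {u w : ι → F} (hu : u ∈ orth Q W) (hw : w ∈ orth Q W)
    (huw : QuadraticMap.polar (⇑Q) u w = 1) (hMu : M *ᵥ u = u)
    (hiso : (∃ s ∈ orth Q W, s ≠ 0 ∧ Q s = 0) → Q u = 0 ∧ Q w = 0)
    (hL : Q u = 0 → Q w = 0 → ∀ d ∈ orth Q W, d ≠ 0 → Q d = 0 → QuadraticMap.polar (⇑Q) u d = 0 →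
      QuadraticMap.polar (⇑Q) w d = 0 →
      ∃ y, QuadraticMap.polar (⇑Q) u y = 0 ∧ Q y ≠ 0 ∧ Q (d - y) ≠ 0) :
    ∃ (T : Matrix ι ι F) (j : ℕ) (c : F), IsReflProd Q T j c ∧ (∀ x ∈ W, T *ᵥ x = x) ∧
      T *ᵥ u = u ∧ T *ᵥ (M *ᵥ w) = w := by
  set w' := M *ᵥ w with hw'def
  have hw' : w' ∈ orth Q W := isom_mem_orth hM hfix hw
  have hQw' : Q w' = Q w := hM w
  have huw' : QuadraticMap.polar (⇑Q) u w' = 1 := by
    have := hM.polar u w
    rw [hMu] at this
    rw [hw'def, this, huw]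
  have hdX : w' - w ∈ orth Q W := (orth Q W).sub_mem hw' hw
  have hud : QuadraticMap.polar (⇑Q) u (w' - w) = 0 := by
    rw [QuadraticMap.polar_sub_right, huw', huw, sub_self]
  by_cases h1 : w' = w
  · exact ⟨1, 0, 1, IsReflProd.one Q, fun x _ => Matrix.one_mulVec x, Matrix.one_mulVec u,
      by rw [Matrix.one_mulVec, h1]⟩
  by_cases hd : Q (w' - w) ≠ 0
  · refine ⟨Cfsg.reflectionMatrix (⇑Q) (w' - w), 1, Q (w' - w), IsReflProd.refl Q hd, ?_, ?_, ?_⟩
    · exact refl_fix_of_mem_orth Q hdX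
    · apply refl_fix
      rw [QuadraticMap.polar_comm]; exact hud
    · exact reflection_sub_apply Q hQw' hd
  rw [not_not] at hd
  have hd0 : w' - w ≠ 0 := sub_ne_zero.mpr h1
  obtain ⟨hu0Q, hw0Q⟩ := hiso ⟨w' - w, hdX, hd0, hd⟩
  have hw'0Q : Q w' = 0 := by rw [hQw', hw0Q]
  have hww' : QuadraticMap.polar (⇑Q) w w' = 0 := by
    have := map_sub_eq Q w' w
    rw [hd, hw0Q, hw'0Q] at this
    linear_combination this
  have hwd : QuadraticMap.polar (⇑Q) w (w' - w) = 0 := by
    rw [QuadraticMap.polar_sub_right, hww', polar_self_zero h2, sub_zero]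
  have hw'd : QuadraticMap.polar (⇑Q) w' (w' - w) = 0 := by
    rw [QuadraticMap.polar_sub_right, polar_self_zero h2, QuadraticMap.polar_comm, hww', sub_zero]
  obtain ⟨y, huy, hy, hdy⟩ := hL hu0Q hw0Q (w' - w) hdX hd0 hd hud hwd
  obtain ⟨T, c, hT, hTx⟩ := siegel_isReflProd Q hu0Q hd hud huy hy hdy
  refine ⟨T, 4, c, hT, ?_, ?_, ?_⟩
  · intro x hx
    rw [hTx, (mem_orth Q W _).mp hdX x hx, (mem_orth Q W _).mp hu x hx, zero_smul, zero_smul,
      add_zero, sub_zero]
  · rw [hTx, hud, polar_self_zero h2, zero_smul, zero_smul, add_zero, sub_zero]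
  · rw [hTx, hw'd, QuadraticMap.polar_comm (⇑Q) w' u, huw', zero_smul, one_smul, add_zero]
    abel


omit [DecidableEq ι] in
/-- Existence of the auxiliary vector needed to write a Siegel transformation as a product of reflections. -/
theorem exists_L [Fintype F] (h2 : (2 : F) = 0) (Q : QuadraticForm F (ι → F))
    (hQ : (QuadraticMap.polarBilin Q).Nondegenerate)
    (hex : Fintype.card F ≠ 2 ∨ Fintype.card ι ≠ 4) {W : Submodule F (ι → F)}
    (hW : W ⊓ orth Q W = ⊥) {u w : ι → F} (hu : u ∈ orth Q W) (hw : w ∈ orth Q W)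
    (huw : QuadraticMap.polar (⇑Q) u w = 1) (d : ι → F) (hd : d ∈ orth Q W) (hd0 : d ≠ 0)
    (hQd : Q d = 0) (hud : QuadraticMap.polar (⇑Q) u d = 0)
    (hwd : QuadraticMap.polar (⇑Q) w d = 0) :
    ∃ y, QuadraticMap.polar (⇑Q) u y = 0 ∧ Q y ≠ 0 ∧ Q (d - y) ≠ 0 := by
  classical
  set W' := W ⊔ Submodule.span F {u} ⊔ Submodule.span F {w} with hW'def
  have hW' : W' ⊓ orth Q W' = ⊥ := nondeg_sup_pair h2 Q hW hu hw huw
  have hX' := orth_inf_orth_orth Q hQ hW'
  have huW' : u ∈ W' :=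
    Submodule.mem_sup_left (Submodule.mem_sup_right (Submodule.mem_span_singleton_self u))
  have hu0 : u ≠ 0 := by
    intro h
    rw [h, QuadraticMap.polar_zero_left] at huw
    exact zero_ne_one huw
  have hdW' : d ∈ orth Q W' := by
    rw [mem_orth]
    intro n hn
    obtain ⟨y, hy, z, hz, rfl⟩ := Submodule.mem_sup.mp hn
    obtain ⟨a, ha, y', hy', rfl⟩ := Submodule.mem_sup.mp hy
    obtain ⟨α, rfl⟩ := Submodule.mem_span_singleton.mp hy'
    obtain ⟨β, rfl⟩ := Submodule.mem_span_singleton.mp hz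
    rw [QuadraticMap.polar_add_left, QuadraticMap.polar_add_left, QuadraticMap.polar_smul_left,
      QuadraticMap.polar_smul_left, hud, hwd, (mem_orth Q W d).mp hd a ha, smul_zero, smul_zero,
      add_zero, add_zero]
  obtain ⟨d'', hd'', hdd''⟩ := exists_polar_ne_zero Q hX' hdW' hd0
  have hud'' : QuadraticMap.polar (⇑Q) u d'' = 0 := (mem_orth Q W' d'').mp hd'' u huW'
  rcases hex with hF | hn
  · -- more than two scalars: rescale a non-singular vector orthogonal to `u`
    have hy₀ : ∃ y₀, QuadraticMap.polar (⇑Q) u y₀ = 0 ∧ Q y₀ ≠ 0 := by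
      by_cases c : Q d'' ≠ 0
      · exact ⟨d'', hud'', c⟩
      · rw [not_not] at c
        refine ⟨d + d'', by rw [QuadraticMap.polar_add_right, hud, hud'', add_zero], ?_⟩
        rw [QuadraticMap.map_add (⇑Q) d d'', hQd, c, zero_add, zero_add]
        exact hdd''
    obtain ⟨y₀, huy₀, hQy₀⟩ := hy₀
    have hcard : 2 < Fintype.card F := by
      have := Fintype.one_lt_card (α := F)
      omega
    have hlam : ∃ l : F, l ≠ 0 ∧ l ≠ QuadraticMap.polar (⇑Q) y₀ d * (Q y₀)⁻¹ := by
      have hlt : ({0, QuadraticMap.polar (⇑Q) y₀ d * (Q y₀)⁻¹} : Finset F).card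
          < (Finset.univ : Finset F).card := by
        rw [Finset.card_univ]
        exact lt_of_le_of_lt (Finset.card_insert_le _ _) (by simpa using hcard)
      obtain ⟨l, -, hl⟩ := Finset.exists_mem_notMem_of_card_lt_card hlt
      simp only [Finset.mem_insert, Finset.mem_singleton, not_or] at hl
      exact ⟨l, hl.1, hl.2⟩
    obtain ⟨l, hl0, hl⟩ := hlam
    refine ⟨l • y₀, ?_, ?_, ?_⟩
    · rw [QuadraticMap.polar_smul_right, huy₀, smul_zero]
    · rw [QuadraticMap.map_smul]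
      exact mul_ne_zero (mul_ne_zero hl0 hl0) hQy₀
    · rw [map_sub_smul, hQd, zero_add]
      have : l * l * Q y₀ - l * QuadraticMap.polar (⇑Q) y₀ d
          = l * (l * Q y₀ - QuadraticMap.polar (⇑Q) y₀ d) := by ring
      rw [this]
      apply mul_ne_zero hl0
      intro h
      apply hl
      field_simp
      linear_combination h
  · -- dimension at least five: a non-singular vector orthogonal to `u` and `d`
    have hfr : finrank F (ι → F) = Fintype.card ι := Module.finrank_fintype_fun_eq_card F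
    have h2W' : 2 ≤ finrank F W' := two_le_finrank Q hW' huW' hu0 (polar_self_zero h2 Q u)
    have h2X' : 2 ≤ finrank F (orth Q W') := two_le_finrank Q hX' hdW' hd0 (polar_self_zero h2 Q d)
    have hsum := LinearMap.BilinForm.finrank_orthogonal hQ W'
    have hle := Submodule.finrank_le W'
    have hn5 : 5 ≤ Fintype.card ι := by
      change finrank F (orth Q W') = _ at hsum
      omega
    set P := Submodule.span F {u} ⊔ Submodule.span F {d} with hP
    have hPle : finrank F P ≤ 2 := by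
      have := Submodule.finrank_add_le_finrank_add_finrank (Submodule.span F {u})
        (Submodule.span F {d})
      rw [finrank_span_singleton hu0, finrank_span_singleton hd0] at this
      exact this
    have hZ := LinearMap.BilinForm.finrank_orthogonal hQ P
    change finrank F (orth Q P) = _ at hZ
    by_contra hcon
    push Not at hcon
    have hts : ∀ y ∈ orth Q P, Q y = 0 := by
      intro y hy
      by_contra hQy
      have huy : QuadraticMap.polar (⇑Q) u y = 0 :=
        (mem_orth Q P y).mp hy u (Submodule.mem_sup_left (Submodule.mem_span_singleton_self u))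
      have hdy : QuadraticMap.polar (⇑Q) d y = 0 :=
        (mem_orth Q P y).mp hy d (Submodule.mem_sup_right (Submodule.mem_span_singleton_self d))
      have := hcon y huy hQy
      rw [map_sub_eq, hQd, zero_add, QuadraticMap.polar_comm, hdy, sub_zero] at this
      exact hQy this
    have hZle : orth Q P ≤ orth Q (orth Q P) := by
      intro x hx
      rw [mem_orth]
      intro n hn
      rw [QuadraticMap.polar, hts _ ((orth Q P).add_mem hn hx), hts n hn, hts x hx]
      ring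
    rw [orth_orth Q hQ] at hZle
    have := Submodule.finrank_mono hZle
    omega


omit [DecidableEq ι] in
/-- Choice of the pair `u, w` in the orthogonal complement: singular if possible. -/
theorem exists_pair (h2 : (2 : F) = 0) (Q : QuadraticForm F (ι → F))
    (hQ : (QuadraticMap.polarBilin Q).Nondegenerate) {W : Submodule F (ι → F)}
    (hW : W ⊓ orth Q W = ⊥) (hne : orth Q W ≠ ⊥) :
    ∃ u ∈ orth Q W, ∃ w ∈ orth Q W, QuadraticMap.polar (⇑Q) u w = 1 ∧
      ((∃ s ∈ orth Q W, s ≠ 0 ∧ Q s = 0) → Q u = 0 ∧ Q w = 0) := by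
  have hX := orth_inf_orth_orth Q hQ hW
  by_cases hs : ∃ s ∈ orth Q W, s ≠ 0 ∧ Q s = 0
  · obtain ⟨e, heX, he0, hQe⟩ := hs
    obtain ⟨f₀, hf₀X, hef₀⟩ := exists_polar_ne_zero Q hX heX he0
    obtain ⟨f₁, hf₁X, hef₁⟩ : ∃ f₁ ∈ orth Q W, QuadraticMap.polar (⇑Q) e f₁ = 1 := by
      refine ⟨(QuadraticMap.polar (⇑Q) e f₀)⁻¹ • f₀, (orth Q W).smul_mem _ hf₀X, ?_⟩
      rw [QuadraticMap.polar_smul_right, smul_eq_mul, inv_mul_cancel₀ hef₀]
    refine ⟨e, heX, f₁ - Q f₁ • e, (orth Q W).sub_mem hf₁X ((orth Q W).smul_mem _ heX), ?_,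
      fun _ => ⟨hQe, ?_⟩⟩
    · rw [QuadraticMap.polar_sub_right, QuadraticMap.polar_smul_right, polar_self_zero h2,
        smul_zero, sub_zero, hef₁]
    · rw [map_sub_smul, hQe, hef₁]
      ring
  · obtain ⟨u, huX, hu0⟩ := Submodule.exists_mem_ne_zero_of_ne_bot hne
    obtain ⟨w₀, hw₀X, huw₀⟩ := exists_polar_ne_zero Q hX huX hu0
    refine ⟨u, huX, (QuadraticMap.polar (⇑Q) u w₀)⁻¹ • w₀, (orth Q W).smul_mem _ hw₀X, ?_,
      fun h => absurd h hs⟩
    rw [QuadraticMap.polar_smul_right, smul_eq_mul, inv_mul_cancel₀ huw₀]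

/-- The inductive form: an isometry fixing pointwise a non-degenerate subspace `W` is a product of
reflections. -/
theorem cd2_aux [Fintype F] (h2 : (2 : F) = 0) (Q : QuadraticForm F (ι → F))
    (hQ : (QuadraticMap.polarBilin Q).Nondegenerate)
    (hex : Fintype.card F ≠ 2 ∨ Fintype.card ι ≠ 4) :
    ∀ k : ℕ, ∀ (M : Matrix ι ι F) (W : Submodule F (ι → F)), IsIsom Q M → (∀ x ∈ W, M *ᵥ x = x) →
      W ⊓ orth Q W = ⊥ → finrank F (orth Q W) = k → ∃ j d, IsReflProd Q M j d := by
  intro k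
  induction k using Nat.strong_induction_on with
  | _ k ih =>
  intro M W hM hfix hW hk
  have hdim := LinearMap.BilinForm.finrank_orthogonal hQ W
  change finrank F (orth Q W) = _ at hdim
  rw [hk] at hdim
  have hWle : finrank F W ≤ finrank F (ι → F) := Submodule.finrank_le W
  by_cases hk0 : k = 0
  · have hWtop : W = ⊤ := by
      apply Submodule.eq_top_of_finrank_eq
      omega
    have hM1 : M = 1 := by
      apply matrix_ext_mulVec
      intro x
      rw [Matrix.one_mulVec]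
      exact hfix x (hWtop ▸ Submodule.mem_top)
    exact ⟨0, 1, hM1 ▸ IsReflProd.one Q⟩
  · have hne : orth Q W ≠ ⊥ := by
      intro h
      rw [h, finrank_bot] at hk
      exact hk0 hk.symm
    obtain ⟨u, hu, w, hw, huw, hiso⟩ := exists_pair h2 Q hQ hW hne
    have hu0 : u ≠ 0 := by
      intro h
      rw [h, QuadraticMap.polar_zero_left] at huw
      exact zero_ne_one huw
    -- Step 1
    obtain ⟨T₁, j₁, d₁, hT₁, hT₁fix, hT₁u⟩ :=
      move_u h2 Q hQ hM hfix hW hu (fun h => (hiso h).1)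
    have hM₁ : IsIsom Q (T₁ * M) := (IsReflProd.isIsom hT₁).mul hM
    have hfix₁ : ∀ x ∈ W, (T₁ * M) *ᵥ x = x := fun x hx => by
      rw [← Matrix.mulVec_mulVec, hfix x hx, hT₁fix x hx]
    have hM₁u : (T₁ * M) *ᵥ u = u := by rw [← Matrix.mulVec_mulVec, hT₁u]
    -- Step 2
    obtain ⟨T₂, j₂, d₂, hT₂, hT₂fix, hT₂u, hT₂w⟩ :=
      move_w h2 Q hM₁ hfix₁ hu hw huw hM₁u hiso
        (fun _ _ d hd hd0 hQd hud hwd => exists_L h2 Q hQ hex hW hu hw huw d hd hd0 hQd hud hwd)
    have hM₂ : IsIsom Q (T₂ * (T₁ * M)) := (IsReflProd.isIsom hT₂).mul hM₁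
    set W' := W ⊔ Submodule.span F {u} ⊔ Submodule.span F {w} with hW'def
    have hfix₂ : ∀ x ∈ W', (T₂ * (T₁ * M)) *ᵥ x = x := by
      apply fix_sup_pair
      · intro x hx
        rw [← Matrix.mulVec_mulVec, hfix₁ x hx, hT₂fix x hx]
      · rw [← Matrix.mulVec_mulVec, hM₁u, hT₂u]
      · rw [← Matrix.mulVec_mulVec, hT₂w]
    have hW' : W' ⊓ orth Q W' = ⊥ := nondeg_sup_pair h2 Q hW hu hw huw
    have hlt : W < W' := lt_sup_pair Q hW w hu hu0
    have hdim' := LinearMap.BilinForm.finrank_orthogonal hQ W'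
    change finrank F (orth Q W') = _ at hdim'
    have hW'le : finrank F W' ≤ finrank F (ι → F) := Submodule.finrank_le W'
    have hfinlt : finrank F W < finrank F W' := Submodule.finrank_lt_finrank_of_lt hlt
    have hklt : finrank F (orth Q W') < k := by omega
    obtain ⟨j, d, hjd⟩ := ih _ hklt (T₂ * (T₁ * M)) W' hM₂ hfix₂ hW' rfl
    have h1 := Helper44_Eichler.IsReflProd.of_mul hT₂ hjd
    exact ⟨_, _, Helper44_Eichler.IsReflProd.of_mul hT₁ h1⟩

/-- **Cartan–Dieudonné in characteristic two** (weak form): every isometry is a product of reflections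
(orthogonal transvections), except possibly in dimension four over the field with two elements. -/
theorem cartan_dieudonne_two [Fintype F] (h2 : (2 : F) = 0) (Q : QuadraticForm F (ι → F))
    (hQ : (QuadraticMap.polarBilin Q).Nondegenerate)
    (hex : Fintype.card F ≠ 2 ∨ Fintype.card ι ≠ 4) (M : Matrix ι ι F) (hM : IsIsom Q M) :
    ∃ j d, IsReflProd Q M j d := by
  apply cd2_aux h2 Q hQ hex _ M ⊥ hM _ (by simp) rfl
  intro x hx
  rw [(Submodule.mem_bot F).mp hx, Matrix.mulVec_zero]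

/-- Group-element form. -/
theorem exists_list_reflT_two [Fintype F] (h2 : (2 : F) = 0) (Q : QuadraticForm F (ι → F))
    (hQ : (QuadraticMap.polarBilin Q).Nondegenerate)
    (hex : Fintype.card F ≠ 2 ∨ Fintype.card ι ≠ 4) (g : ↥(Cfsg.isometryGroup F (⇑Q))) :
    ∃ vs : List (ι → F), (∀ v ∈ vs, Q v ≠ 0) ∧ g = (vs.map (reflT Q)).prod := by
  obtain ⟨j, d, vs, hvs, hM, -, -⟩ := cartan_dieudonne_two h2 Q hQ hex _ (isIsom_of_mem Q g)
  refine ⟨vs, hvs, ?_⟩
  apply Subtype.ext
  apply Units.ext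
  rw [hM, prod_reflT_coe Q vs hvs]

end Cfsg.Agent.Lib.Helper44_CD2
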