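import Mathlib
import Cfsg.Agent.Lib.Helper14_Siegel
import Cfsg.Agent.Lib.Helper14_SiegelOmega
import Cfsg.Agent.Lib.Helper44_CD2
import Cfsg.Agent.Lib.Helper14_SiegelAll

set_option autoImplicit false

/-!
Characteristic two, dimension at least five: the commutator subgroup of the isometry group of a quadratic
form with non-degenerate polar form over a finite field lies in the group generated by the Siegel
transformations (helper14).  The quotient of the isometry group by the Siegel group is generated by the
image of a single reflection.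
-/

namespace Cfsg.Agent.Lib.Helper14_SiegelOmega2

open Cfsg Matrix Module Cfsg.Agent.Lib.Helper44_Orth Cfsg.Agent.Lib.Helper44_Refl
  Cfsg.Agent.Lib.Helper14_Siegel Cfsg.Agent.Lib.Helper44_QuadClass Cfsg.Agent.Lib.Helper44_Spinor

section abstract

variable {F : Type*} [Field F] {V : Type*} [AddCommGroup V] [Module F V]

/-- A non-degenerate quadratic form of dimension at least three over a finite field takes every value. -/
theorem exists_norm_eq [Finite F] [FiniteDimensional F V] (Q : QuadraticForm F V)
    (hQ : (QuadraticMap.polarBilin Q).Nondegenerate) (hdim : 3 ≤ finrank F V) (c : F) :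
    ∃ v : V, Q v = c := by
  obtain ⟨e, he0, hQe⟩ := exists_singular Q hdim
  obtain ⟨f, hQf, hef⟩ := exists_hyperbolic_partner Q hQ he0 hQe
  refine ⟨e + c • f, ?_⟩
  rw [QuadraticMap.map_add (⇑Q), QuadraticMap.map_smul, hQe, hQf, QuadraticMap.polar_smul_right, hef]
  simp

/-- Characteristic two: for a non-singular `v` and `d` not a multiple of `v` (dimension at least five),
every value of `B(·, d)` is taken on a singular vector orthogonal to `v`. -/
theorem exists_singular_orth_polar_two [Finite F] [FiniteDimensional F V] (h2 : (2 : F) = 0)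
    (Q : QuadraticForm F V)
    (hQ : (QuadraticMap.polarBilin Q).Nondegenerate) (hdim : 5 ≤ finrank F V) {v d : V}
    (hv : Q v ≠ 0) (hd : d ∉ Submodule.span F {v}) (c : F) :
    ∃ s : V, Q s = 0 ∧ QuadraticMap.polar (⇑Q) s v = 0 ∧ QuadraticMap.polar (⇑Q) s d = c := by
  have hself : ∀ x : V, QuadraticMap.polar (⇑Q) x x = 0 := fun x => by
    rw [polar_self', h2, zero_mul]
  have hneg : ∀ x : F, -x = x := fun x => by
    have : x + x = 0 := by linear_combination x * h2
    linear_combination -this
  have hv0 : v ≠ 0 := fun h => hv (by rw [h, map_zero])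
  obtain ⟨e, hQe, hev⟩ := exists_singular_polar Q hQ (by omega) hv0 1
  have hve : QuadraticMap.polar (⇑Q) v e = 1 := by rw [QuadraticMap.polar_comm, hev]
  obtain ⟨a, ha⟩ : ∃ a, a = v + Q v • e := ⟨_, rfl⟩
  have hQa : Q a = 0 := by
    rw [ha, QuadraticMap.map_add (⇑Q), QuadraticMap.map_smul, hQe, QuadraticMap.polar_smul_right, hve]
    simp only [smul_eq_mul, mul_zero, mul_one, add_zero]
    linear_combination Q v * h2
  have hea : QuadraticMap.polar (⇑Q) e a = 1 := by
    rw [ha, QuadraticMap.polar_add_right, QuadraticMap.polar_smul_right, hself, hev]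
    simp
  have hae : QuadraticMap.polar (⇑Q) a e = 1 := by rw [QuadraticMap.polar_comm, hea]
  have hvdef : v = a + Q v • e := by
    rw [ha, add_assoc, ← add_smul]
    have : Q v + Q v = 0 := by linear_combination Q v * h2
    rw [this, zero_smul, add_zero]
  have hnd := nondegenerate_perp hQ hQe hQa hea
  have hfr := finrank_perp (Q := Q) hQe hQa hea
  -- vectors of `U` are orthogonal to `v`
  have hUv : ∀ u : perp Q e a, QuadraticMap.polar (⇑Q) (u : V) v = 0 := by
    intro u
    have hu := (mem_perp Q e a).mp u.2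
    rw [hvdef, QuadraticMap.polar_add_right, QuadraticMap.polar_smul_right,
      QuadraticMap.polar_comm (⇑Q) (u : V) a, QuadraticMap.polar_comm (⇑Q) (u : V) e, hu.1, hu.2]
    simp
  obtain ⟨d', hd'⟩ : ∃ d', d' = d - QuadraticMap.polar (⇑Q) a d • e -
      QuadraticMap.polar (⇑Q) e d • a := ⟨_, rfl⟩
  have hd'mem : d' ∈ perp Q e a := by
    rw [mem_perp]
    constructor
    · rw [hd', QuadraticMap.polar_sub_right, QuadraticMap.polar_sub_right,
        QuadraticMap.polar_smul_right, QuadraticMap.polar_smul_right, hself, hea]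
      simp
    · rw [hd', QuadraticMap.polar_sub_right, QuadraticMap.polar_sub_right,
        QuadraticMap.polar_smul_right, QuadraticMap.polar_smul_right, hself, hae]
      simp
  have hUd : ∀ u : perp Q e a, QuadraticMap.polar (⇑Q) (u : V) d =
      QuadraticMap.polar (⇑Q) (u : V) d' := by
    intro u
    have hu := (mem_perp Q e a).mp u.2
    rw [hd', QuadraticMap.polar_sub_right, QuadraticMap.polar_sub_right,
      QuadraticMap.polar_smul_right, QuadraticMap.polar_smul_right,
      QuadraticMap.polar_comm (⇑Q) (u : V) a, QuadraticMap.polar_comm (⇑Q) (u : V) e, hu.1, hu.2]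
    simp
  by_cases hd'0 : (⟨d', hd'mem⟩ : perp Q e a) = 0
  · -- `d` lies in the plane spanned by `e` and `a`
    have h0 : d' = 0 := congrArg Subtype.val hd'0
    have hdd : d = QuadraticMap.polar (⇑Q) a d • e + QuadraticMap.polar (⇑Q) e d • a := by
      rw [hd', sub_sub, sub_eq_zero] at h0
      exact h0
    have hp : QuadraticMap.polar (⇑Q) v d ≠ 0 := by
      intro hp
      apply hd
      rw [Submodule.mem_span_singleton]
      refine ⟨QuadraticMap.polar (⇑Q) e d, ?_⟩
      have h1 : QuadraticMap.polar (⇑Q) v d =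
          QuadraticMap.polar (⇑Q) a d + Q v * QuadraticMap.polar (⇑Q) e d := by
        conv_lhs => rw [hvdef]
        rw [QuadraticMap.polar_add_left, QuadraticMap.polar_smul_left, smul_eq_mul]
      have h3 : QuadraticMap.polar (⇑Q) a d = Q v * QuadraticMap.polar (⇑Q) e d := by
        have h4 := hneg (Q v * QuadraticMap.polar (⇑Q) e d)
        rw [hp] at h1
        linear_combination -h1 + h4
      conv_rhs => rw [hdd]
      rw [h3, mul_comm, ← smul_smul, add_comm, ← smul_add, ← hvdef]
    obtain ⟨t, ht⟩ : ∃ t, t = c / QuadraticMap.polar (⇑Q) v d := ⟨_, rfl⟩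
    obtain ⟨u, hu⟩ := exists_norm_eq (Q.comp (perp Q e a).subtype) hnd (by omega) (t * t * Q v)
    have hQu : Q (u : V) = t * t * Q v := by simpa using hu
    have huv := hUv u
    have hvu : QuadraticMap.polar (⇑Q) v (u : V) = 0 := by rw [QuadraticMap.polar_comm]; exact huv
    refine ⟨t • v + (u : V), ?_, ?_, ?_⟩
    · rw [QuadraticMap.map_add (⇑Q), QuadraticMap.map_smul, hQu, QuadraticMap.polar_smul_left, hvu]
      simp only [smul_eq_mul, mul_zero, add_zero]
      linear_combination (t * t * Q v) * h2
    · rw [QuadraticMap.polar_add_left, QuadraticMap.polar_smul_left, hself, huv]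
      simp
    · have hud : QuadraticMap.polar (⇑Q) (u : V) d = 0 := by
        rw [hUd u, h0]
        simp [QuadraticMap.polar]
      rw [QuadraticMap.polar_add_left, QuadraticMap.polar_smul_left, hud, ht, smul_eq_mul,
        div_mul_cancel₀ _ hp, add_zero]
  · obtain ⟨s, hs, hsd⟩ := exists_singular_polar (Q.comp (perp Q e a).subtype) hnd (by omega) hd'0 c
    refine ⟨(s : V), ?_, hUv s, ?_⟩
    · simpa using hs
    · rw [polar_comp_subtype] at hsd
      rw [hUd s]
      exact hsd

end abstract

section moves

variable {ι : Type} [Fintype ι] [DecidableEq ι] {F : Type*} [Field F] [Fintype F]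

/-- Characteristic two, dimension at least five: reflections in vectors of the same norm agree modulo the
group generated by the Siegel transformations. -/
theorem refl_mul_refl_mem_of_eq_two (h2 : (2 : F) = 0) (Q : QuadraticForm F (ι → F))
    (hQ : (QuadraticMap.polarBilin Q).Nondegenerate) (hn : 5 ≤ Fintype.card ι) {v v' : ι → F}
    (hv : Q v ≠ 0) (hv' : Q v' ≠ 0) (hvv' : Q v = Q v') :
    refl Q v hv * refl Q v' hv' ∈ siegelGroup Q := by
  obtain ⟨d, hd⟩ : ∃ d, d = v' - v := ⟨_, rfl⟩
  have hv'd : v' = v + d := by rw [hd]; abel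
  have hpol : QuadraticMap.polar (⇑Q) v d = -Q d := by
    have := QuadraticMap.map_add (⇑Q) v d
    rw [← hv'd, ← hvv'] at this
    linear_combination -this
  by_cases hQd : Q d = 0
  · apply refl_mul_refl_mem Q hQ hn hv hv'
    · rw [← hd]; exact hQd
    · rw [← hd, QuadraticMap.polar_comm, hpol, hQd, neg_zero]
  by_cases hspan : d ∈ Submodule.span F {v}
  · obtain ⟨k, hk⟩ := Submodule.mem_span_singleton.mp hspan
    have hv'k : v' = (1 + k) • v := by rw [hv'd, ← hk, add_smul, one_smul]
    have hk0 : (1 + k) ≠ 0 := by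
      intro h
      apply hv'
      rw [hv'k, h, zero_smul, map_zero]
    have : refl Q v' hv' = refl Q v hv := by
      apply Subtype.ext
      apply Units.ext
      show Cfsg.reflectionMatrix (⇑Q) v' = Cfsg.reflectionMatrix (⇑Q) v
      rw [hv'k]
      exact reflectionMatrix_smul Q v hk0
    rw [this, refl_mul_self]
    exact Subgroup.one_mem _
  · have hdim : 5 ≤ finrank F (ι → F) := by
      rw [Module.finrank_fintype_fun_eq_card]; exact hn
    obtain ⟨a, ha, hav, had⟩ := exists_singular_orth_polar_two h2 Q hQ hdim hv hspan (Q d)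
    have hva : QuadraticMap.polar (⇑Q) v a = 0 := by rw [QuadraticMap.polar_comm]; exact hav
    have hQv₁ : Q (v + a) = Q v := by
      rw [QuadraticMap.map_add (⇑Q), ha, hva]; ring
    have hv₁ : Q (v + a) ≠ 0 := by rw [hQv₁]; exact hv
    have hm1 : refl Q v hv * refl Q (v + a) hv₁ ∈ siegelGroup Q := by
      apply refl_mul_refl_mem Q hQ hn hv hv₁
      · rw [add_sub_cancel_left]; exact ha
      · rw [add_sub_cancel_left]; exact hav
    have hdiff : v' - (v + a) = d - a := by rw [hv'd]; abel
    have hm2 : refl Q (v + a) hv₁ * refl Q v' hv' ∈ siegelGroup Q := by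
      apply refl_mul_refl_mem Q hQ hn hv₁ hv'
      · rw [hdiff]
        have := Helper44_Refl.map_sub_smul Q a d 1
        rw [one_smul] at this
        rw [this, ha, had]
        ring
      · rw [hdiff, QuadraticMap.polar_sub_left, QuadraticMap.polar_add_right,
          QuadraticMap.polar_add_right, QuadraticMap.polar_comm (⇑Q) d v, hpol,
          QuadraticMap.polar_comm (⇑Q) d a, had, hav, Helper44_Refl.polar_self, ha]
        ring
    have : refl Q v hv * refl Q v' hv' =
        (refl Q v hv * refl Q (v + a) hv₁) * (refl Q (v + a) hv₁ * refl Q v' hv') := by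
      rw [mul_assoc, ← mul_assoc (refl Q (v + a) hv₁), refl_mul_self, one_mul]
    rw [this]
    exact Subgroup.mul_mem _ hm1 hm2

/-- Characteristic two, dimension at least five: any two reflections agree modulo the group generated by
the Siegel transformations. -/
theorem refl_mul_refl_mem_two (h2 : (2 : F) = 0) (Q : QuadraticForm F (ι → F))
    (hQ : (QuadraticMap.polarBilin Q).Nondegenerate) (hn : 5 ≤ Fintype.card ι) {v w : ι → F}
    (hv : Q v ≠ 0) (hw : Q w ≠ 0) :
    refl Q v hv * refl Q w hw ∈ siegelGroup Q := by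
  have hc : CharP F 2 := CharTwo.of_one_ne_zero_of_two_eq_zero one_ne_zero h2
  have hr : ringChar F = 2 := ringChar.eq F 2
  obtain ⟨r, hr⟩ := FiniteField.isSquare_of_char_two hr (Q v / Q w)
  have hr0 : r ≠ 0 := by
    rintro rfl
    rw [mul_zero, div_eq_zero_iff] at hr
    rcases hr with h | h
    · exact hv h
    · exact hw h
  have hnorm : Q (r • w) = Q v := by
    rw [QuadraticMap.map_smul, smul_eq_mul, ← hr, div_mul_cancel₀ _ hw]
  have hrw : Q (r • w) ≠ 0 := by rw [hnorm]; exact hv
  have heq : refl Q (r • w) hrw = refl Q w hw := by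
    apply Subtype.ext
    apply Units.ext
    exact reflectionMatrix_smul Q w hr0
  rw [← heq]
  exact refl_mul_refl_mem_of_eq_two h2 Q hQ hn hv hrw hnorm.symm

/-- The isometry group is generated by reflections (characteristic two, dimension at least five). -/
theorem closure_refl_eq_top_two (h2 : (2 : F) = 0) (Q : QuadraticForm F (ι → F))
    (hQ : (QuadraticMap.polarBilin Q).Nondegenerate) (hn : 5 ≤ Fintype.card ι) :
    Subgroup.closure {g : ↥(Cfsg.isometryGroup F (⇑Q)) | ∃ (v : ι → F) (hv : Q v ≠ 0), g = refl Q v hv}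
      = ⊤ := by
  classical
  rw [eq_top_iff]
  intro g _
  obtain ⟨vs, hvs, rfl⟩ := Helper44_CD2.exists_list_reflT_two h2 Q hQ (Or.inr (by omega)) g
  apply Subgroup.list_prod_mem
  intro x hx
  obtain ⟨v, hv, rfl⟩ := List.mem_map.mp hx
  apply Subgroup.subset_closure
  exact ⟨v, hvs v hv, reflT_of_ne Q v (hvs v hv)⟩

/-- **Characteristic two, dimension at least five**: `Ω = [O, O]` lies in the group generated by the Siegel
transformations. -/
theorem commutator_le_siegelGroup_two (h2 : (2 : F) = 0) (Q : QuadraticForm F (ι → F))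
    (hQ : (QuadraticMap.polarBilin Q).Nondegenerate) (hn : 5 ≤ Fintype.card ι) :
    commutator ↥(Cfsg.isometryGroup F (⇑Q)) ≤ siegelGroup Q := by
  have hinv : ∀ (z : ι → F) (hz : Q z ≠ 0), (refl Q z hz)⁻¹ = refl Q z hz := fun z hz =>
    inv_eq_of_mul_eq_one_right (refl_mul_self Q z hz)
  apply Helper14_SiegelOmega.commutator_le_of_comm (siegelGroup Q) _
    (closure_refl_eq_top_two h2 Q hQ hn)
  rintro a ⟨v, hv, rfl⟩ b ⟨w, hw, rfl⟩
  have : ((refl Q v hv : ↥(Cfsg.isometryGroup F (⇑Q))) : ↥(Cfsg.isometryGroup F (⇑Q)) ⧸ siegelGroup Q)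
      = (refl Q w hw : ↥(Cfsg.isometryGroup F (⇑Q))) := by
    rw [QuotientGroup.eq, hinv]
    exact refl_mul_refl_mem_two h2 Q hQ hn hv hw
  rw [this]

/-- Both characteristics at once. -/
theorem commutator_le_siegelGroup_all (Q : QuadraticForm F (ι → F))
    (hQ : (QuadraticMap.polarBilin Q).Nondegenerate) (hn : 5 ≤ Fintype.card ι) :
    commutator ↥(Cfsg.isometryGroup F (⇑Q)) ≤ siegelGroup Q := by
  by_cases h2 : (2 : F) = 0
  · exact commutator_le_siegelGroup_two h2 Q hQ hn
  · exact Helper14_SiegelOmega.commutator_le_siegelGroup h2 Q hQ hn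

/-- **`Ω` is the group generated by the Siegel transformations** (finite field, every characteristic,
dimension at least five). -/
theorem omega_eq_siegelGroup (Q : QuadraticForm F (ι → F))
    (hQ : (QuadraticMap.polarBilin Q).Nondegenerate) (hn : 5 ≤ Fintype.card ι) :
    Cfsg.Omega F (⇑Q) = siegelGroup Q :=
  le_antisymm (commutator_le_siegelGroup_all Q hQ hn)
    (Helper14_SiegelAll.siegelGroup_le_omega' Q hQ hn)

end moves

end Cfsg.Agent.Lib.Helper14_SiegelOmega2
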