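import Mathlib

set_option autoImplicit false

/-!
An Iwasawa-type criterion, phrased with subgroups only, for the simplicity of a perfect group modulo its
centre; transport of "simple modulo the centre" along group isomorphisms (helper14).
-/

namespace Cfsg.Agent.Lib.Helper14_SimpleAbs

variable {G : Type*} [Group G]

/-- Iwasawa's lemma with subgroups: `P` maximal, `A ≤ G` abelian and normalised by `P`, the conjugates of `A`
generate `G`, `G` perfect, the core of `P` central.  Then every normal subgroup is central or everything. -/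
theorem normal_le_center_or_eq_top (P A : Subgroup G)
    (hperf : commutator G = ⊤)
    (hmax : ∀ M : Subgroup G, P ≤ M → M = P ∨ M = ⊤)
    (hA : ∀ a ∈ A, ∀ b ∈ A, a * b = b * a)
    (hAP : ∀ p ∈ P, ∀ a ∈ A, p * a * p⁻¹ ∈ A)
    (hgen : Subgroup.normalClosure (A : Set G) = ⊤)
    (hcore : ∀ g, (∀ h : G, h * g * h⁻¹ ∈ P) → g ∈ Subgroup.center G)
    (N : Subgroup G) [hN : N.Normal] : N ≤ Subgroup.center G ∨ N = ⊤ := by
  by_cases hNP : N ≤ P
  · left
    intro g hg
    apply hcore
    intro h
    exact hNP (hN.conj_mem g hg h)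
  · right
    have hNP' : N ⊔ P = ⊤ := by
      rcases hmax (N ⊔ P) le_sup_right with h | h
      · exact absurd (h ▸ le_sup_left) hNP
      · exact h
    have hNA : N ⊔ A = ⊤ := by
      rw [eq_top_iff, ← hgen, Subgroup.normalClosure, Subgroup.closure_le]
      intro x hx
      obtain ⟨a, ha, hax⟩ := Group.mem_conjugatesOfSet_iff.mp hx
      obtain ⟨c, hc⟩ := isConj_iff.mp hax
      have hcmem : c ∈ ((N ⊔ P : Subgroup G) : Set G) := by rw [hNP']; trivial
      rw [Subgroup.normal_mul] at hcmem
      obtain ⟨n, hn, p, hp, rfl⟩ := Set.mem_mul.mp hcmem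
      have h1 : p * a * p⁻¹ ∈ N ⊔ A := Subgroup.mem_sup_right (hAP p hp a ha)
      have h2 : n ∈ N ⊔ A := Subgroup.mem_sup_left hn
      have : x = n * (p * a * p⁻¹) * n⁻¹ := by rw [← hc]; group
      rw [SetLike.mem_coe, this]
      exact Subgroup.mul_mem _ (Subgroup.mul_mem _ h2 h1) (Subgroup.inv_mem _ h2)
    have hAc : IsMulCommutative A := ⟨⟨fun a b => Subtype.ext (hA a a.2 b b.2)⟩⟩
    have := hN.commutator_le_of_self_sup_commutative_eq_top hNA hAc
    rw [hperf] at this
    exact top_le_iff.mp this

/-- A group all of whose normal subgroups are central or everything, and which is not abelian, is simple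
modulo its centre. -/
theorem isSimpleGroup_quotient_center
    (hnc : Subgroup.center G ≠ ⊤)
    (hN : ∀ N : Subgroup G, N.Normal → N ≤ Subgroup.center G ∨ N = ⊤) :
    IsSimpleGroup (G ⧸ Subgroup.center G) := by
  have hnt : Nontrivial (G ⧸ Subgroup.center G) := by
    by_contra hcon
    rw [not_nontrivial_iff_subsingleton] at hcon
    apply hnc
    rw [eq_top_iff]
    intro g _
    have : (g : G ⧸ Subgroup.center G) = ((1 : G) : G ⧸ Subgroup.center G) := Subsingleton.elim _ _
    rw [QuotientGroup.eq] at this
    simpa using this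
  refine ⟨fun N' hN' => ?_⟩
  have hnorm : (N'.comap (QuotientGroup.mk' (Subgroup.center G))).Normal := hN'.comap _
  have hsurj := QuotientGroup.mk'_surjective (Subgroup.center G)
  rcases hN _ hnorm with h | h
  · left
    rw [eq_bot_iff]
    intro x hx
    obtain ⟨g, rfl⟩ := hsurj x
    have hg : g ∈ N'.comap (QuotientGroup.mk' (Subgroup.center G)) := hx
    have := h hg
    rw [Subgroup.mem_bot]
    exact (QuotientGroup.eq_one_iff g).mpr this
  · right
    rw [← Subgroup.comap_top (QuotientGroup.mk' (Subgroup.center G))] at h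
    exact Subgroup.comap_injective hsurj h

/-- The full criterion. -/
theorem isSimpleGroup_quotient_center_of_iwasawa (P A : Subgroup G)
    (hperf : commutator G = ⊤) (hnt : Nontrivial G)
    (hmax : ∀ M : Subgroup G, P ≤ M → M = P ∨ M = ⊤)
    (hA : ∀ a ∈ A, ∀ b ∈ A, a * b = b * a)
    (hAP : ∀ p ∈ P, ∀ a ∈ A, p * a * p⁻¹ ∈ A)
    (hgen : Subgroup.normalClosure (A : Set G) = ⊤)
    (hcore : ∀ g, (∀ h : G, h * g * h⁻¹ ∈ P) → g ∈ Subgroup.center G) :
    IsSimpleGroup (G ⧸ Subgroup.center G) := by
  apply isSimpleGroup_quotient_center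
  · intro hc
    -- `G` abelian and perfect, hence trivial
    have hcomm : ∀ a b : G, a * b = b * a := by
      intro a b
      have hb : b ∈ Subgroup.center G := hc ▸ Subgroup.mem_top b
      exact Subgroup.mem_center_iff.mp hb a
    have hbot : commutator G = ⊥ := by
      rw [commutator_eq_closure, Subgroup.closure_eq_bot_iff]
      rintro x ⟨a, b, rfl⟩
      rw [Set.mem_singleton_iff, commutatorElement_def, hcomm a b]
      group
    rw [hperf] at hbot
    obtain ⟨x, y, hxy⟩ := hnt
    have hx : x ∈ (⊥ : Subgroup G) := hbot ▸ Subgroup.mem_top x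
    have hy : y ∈ (⊥ : Subgroup G) := hbot ▸ Subgroup.mem_top y
    rw [Subgroup.mem_bot] at hx hy
    exact hxy (hx.trans hy.symm)
  · intro N hN
    exact normal_le_center_or_eq_top P A hperf hmax hA hAP hgen hcore N

/-- Transport along an isomorphism. -/
theorem isSimpleGroup_quotient_center_congr {G' : Type*} [Group G'] (e : G ≃* G')
    (h : IsSimpleGroup (G ⧸ Subgroup.center G)) : IsSimpleGroup (G' ⧸ Subgroup.center G') := by
  have hmap : (Subgroup.center G).map e.toMonoidHom = Subgroup.center G' := by
    ext x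
    constructor
    · rintro ⟨g, hg, rfl⟩
      rw [Subgroup.mem_center_iff]
      intro y
      obtain ⟨y', rfl⟩ := e.surjective y
      have := Subgroup.mem_center_iff.mp hg y'
      show e y' * e g = e g * e y'
      rw [← map_mul, ← map_mul, this]
    · intro hx
      refine ⟨e.symm x, ?_, by simp⟩
      rw [SetLike.mem_coe, Subgroup.mem_center_iff]
      intro y
      have := Subgroup.mem_center_iff.mp hx (e y)
      apply e.injective
      rw [map_mul, map_mul, e.apply_symm_apply]
      exact this
  exact (QuotientGroup.congr (Subgroup.center G) (Subgroup.center G') e hmap).symm.isSimpleGroup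

end Cfsg.Agent.Lib.Helper14_SimpleAbs
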