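import Mathlib
import Cfsg.Agent.Lib.Helper94_Symp
import Cfsg.Agent.Lib.Helper94_OrthSmall

set_option autoImplicit false

/-!
Siegel (Eichler) elements `x ↦ x + B x u • z - B x z • u - (Q z * B x u) • u` of the isometry group
of a quadratic map `Q` with polar form `B`, for `u` singular and `z` orthogonal to `u`, in the
abstract setting of `Helper94_OrthSmall`; they lie in the derived subgroup of the isometry group
when the field has more than two elements.
-/

namespace Cfsg.Agent.Lib.Helper94_OrthSiegel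

open Module Cfsg.Agent.Lib.Helper94_Symp Cfsg.Agent.Lib.Helper94_OrthSmall
open scoped commutatorElement

variable {F V : Type*} [Field F] [AddCommGroup V] [Module F V]

section Basic

variable (Q : V → F) (B : LinearMap.BilinForm F V)

open Classical in
/-- The Siegel element attached to `u`, `z` (the identity unless `B u u = 0` and `u`, `z` are
orthogonal). -/
noncomputable def sieg (u z : V) : V ≃ₗ[F] V :=
  if h : B u u = 0 ∧ B z u = 0 ∧ B u z = 0 then
    LinearEquiv.transvection (f := -(B.flip z)) (v := u) (by simp [h.2.2]) *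
    LinearEquiv.transvection (f := B.flip u) (v := z + Q z • u) (by simp [h.1, h.2.1])
  else 1

variable (hQs : ∀ (c : F) (v : V), Q (c • v) = c * c * Q v)
  (hQp : ∀ u v : V, Q (u + v) = Q u + Q v + B u v)

include hQs hQp in
lemma sieg_apply {u z : V} (hu : Q u = 0) (huz : B u z = 0) (x : V) :
    sieg Q B u z x = x + B x u • z - B x z • u - (Q z * B x u) • u := by
  have huu : B u u = 0 := by rw [B_self Q B hQs hQp, hu, mul_zero]
  have hzu : B z u = 0 := by rw [B_symm Q B hQp, huz]
  have h : B u u = 0 ∧ B z u = 0 ∧ B u z = 0 := ⟨huu, hzu, huz⟩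
  have hzz : B z z = 2 * Q z := B_self Q B hQs hQp z
  unfold sieg
  rw [dif_pos h]
  simp only [LinearEquiv.mul_apply, LinearEquiv.transvection.apply, LinearMap.neg_apply,
    LinearMap.flip_apply, LinearMap.BilinForm.flip_apply, map_add, map_smul, LinearMap.add_apply,
    LinearMap.smul_apply, smul_eq_mul, huz, hzz, mul_zero, add_zero]
  module

lemma sieg_of_not {u z : V} (h : ¬ (B u u = 0 ∧ B z u = 0 ∧ B u z = 0)) : sieg Q B u z = 1 := by
  unfold sieg
  rw [dif_neg h]

include hQs hQp in
lemma sieg_zero_left (z : V) : sieg Q B 0 z = 1 := by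
  ext x
  rw [sieg_apply Q B hQs hQp (Q_zero Q hQs) (by simp)]
  simp

include hQs hQp in
lemma sieg_zero_right {u : V} (hu : Q u = 0) : sieg Q B u 0 = 1 := by
  ext x
  rw [sieg_apply Q B hQs hQp hu (by simp)]
  simp [Q_zero Q hQs]

include hQs hQp in
lemma sieg_mem_oG {u z : V} (hu : Q u = 0) (huz : B u z = 0) : sieg Q B u z ∈ oG Q := by
  intro x
  have hzu : B z u = 0 := by rw [B_symm Q B hQp, huz]
  rw [sieg_apply Q B hQs hQp hu huz]
  have e1 : x + B x u • z - B x z • u - (Q z * B x u) • u =
      (x + B x u • z) + (-(B x z) - Q z * B x u) • u := by module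
  rw [e1, Q_add_smul Q B hQs hQp, Q_add_smul Q B hQs hQp, hu, map_add, LinearMap.add_apply,
    map_smul, LinearMap.smul_apply, hzu]
  simp only [smul_eq_mul]
  ring

include hQs hQp in
lemma conj_sieg {g : V ≃ₗ[F] V} (hg : g ∈ oG Q) {u z : V} (hu : Q u = 0) (huz : B u z = 0) :
    g * sieg Q B u z * g⁻¹ = sieg Q B (g u) (g z) := by
  have hgu : Q (g u) = 0 := by rw [hg, hu]
  have hguz : B (g u) (g z) = 0 := by rw [oG_B Q B hQp hg, huz]
  ext x
  have h1 : ∀ y, B (g⁻¹ x) y = B x (g y) := by
    intro y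
    rw [← oG_B Q B hQp hg, apply_inv_apply']
  rw [LinearEquiv.mul_apply, LinearEquiv.mul_apply, sieg_apply Q B hQs hQp hu huz,
    sieg_apply Q B hQs hQp hgu hguz, h1, h1, hg z]
  simp only [map_add, map_sub, map_smul, apply_inv_apply']

include hQs hQp in
lemma sieg_smul_left {u z : V} (hu : Q u = 0) (huz : B u z = 0) (c : F) :
    sieg Q B (c • u) z = sieg Q B u (c • z) := by
  have hcu : Q (c • u) = 0 := by rw [hQs, hu, mul_zero]
  have hcuz : B (c • u) z = 0 := by rw [map_smul, LinearMap.smul_apply, huz, smul_zero]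
  have hucz : B u (c • z) = 0 := by rw [map_smul, huz, smul_zero]
  ext x
  rw [sieg_apply Q B hQs hQp hcu hcuz, sieg_apply Q B hQs hQp hu hucz, hQs]
  simp only [map_smul, smul_eq_mul]
  module

include hQs hQp in
lemma sieg_add_smul {u z : V} (hu : Q u = 0) (huz : B u z = 0) (a : F) :
    sieg Q B u (z + a • u) = sieg Q B u z := by
  have huu : B u u = 0 := by rw [B_self Q B hQs hQp, hu, mul_zero]
  have hzu : B z u = 0 := by rw [B_symm Q B hQp, huz]
  have h1 : B u (z + a • u) = 0 := by rw [map_add, map_smul, huz, huu, smul_zero, add_zero]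
  ext x
  rw [sieg_apply Q B hQs hQp hu h1, sieg_apply Q B hQs hQp hu huz, Q_add_smul Q B hQs hQp, hu, hzu]
  simp only [map_add, map_smul, smul_eq_mul]
  module

include hQs hQp in
lemma sieg_mul {u z z' : V} (hu : Q u = 0) (huz : B u z = 0) (huz' : B u z' = 0) :
    sieg Q B u z * sieg Q B u z' = sieg Q B u (z + z') := by
  have huu : B u u = 0 := by rw [B_self Q B hQs hQp, hu, mul_zero]
  have hzu : B z u = 0 := by rw [B_symm Q B hQp, huz]
  have hz'u : B z' u = 0 := by rw [B_symm Q B hQp, huz']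
  have h1 : B u (z + z') = 0 := by rw [map_add, huz, huz', add_zero]
  have h2 : B z' z = B z z' := B_symm Q B hQp z' z
  ext x
  rw [LinearEquiv.mul_apply, sieg_apply Q B hQs hQp hu huz', sieg_apply Q B hQs hQp hu huz,
    sieg_apply Q B hQs hQp hu h1, hQp z z']
  simp only [map_add, map_sub, map_smul, LinearMap.add_apply, LinearMap.sub_apply,
    LinearMap.smul_apply, smul_eq_mul, huu, hzu, hz'u, huz, h2, mul_zero, sub_zero, add_zero]
  module

include hQs hQp in
lemma sieg_inv {u z : V} (hu : Q u = 0) (huz : B u z = 0) :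
    (sieg Q B u z)⁻¹ = sieg Q B u (-z) := by
  apply inv_eq_of_mul_eq_one_right
  rw [sieg_mul Q B hQs hQp hu huz (by rw [map_neg, huz, neg_zero]), add_neg_cancel,
    sieg_zero_right Q B hQs hQp hu]

include hQs hQp in
/-- Over a field with more than two elements the Siegel elements are commutators of
isometries. -/
theorem sieg_mem_commutator (hN : B.Nondegenerate) {l : F} (hl0 : l ≠ 0) (hl1 : l ≠ 1) {u z : V}
    (hu : Q u = 0) (huz : B u z = 0) : sieg Q B u z ∈ ⁅oG Q, oG Q⁆ := by
  by_cases hu0 : u = 0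
  · rw [hu0, sieg_zero_left Q B hQs hQp]
    exact Subgroup.one_mem _
  have hsymm := B_symm Q B hQp
  have huu : B u u = 0 := by rw [B_self Q B hQs hQp, hu, mul_zero]
  -- a singular partner of u
  obtain ⟨x0, hx0⟩ : ∃ x, B u x ≠ 0 := by
    by_contra hcon
    push Not at hcon
    exact hu0 (hN.1 u hcon)
  obtain ⟨w', hw', huw'⟩ : ∃ w', Q w' = 0 ∧ B u w' = 1 := by
    refine ⟨(B u x0)⁻¹ • x0 + (-((B u x0)⁻¹ * (B u x0)⁻¹ * Q x0)) • u, ?_, ?_⟩
    · rw [Q_add_smul Q B hQs hQp, hu, hQs, map_smul, LinearMap.smul_apply, hsymm x0 u]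
      simp only [smul_eq_mul]
      field_simp
      ring
    · rw [map_add, map_smul, map_smul, huu, smul_zero, add_zero, smul_eq_mul,
        inv_mul_cancel₀ hx0]
  have hw'u : B w' u = 1 := by rw [hsymm, huw']
  have hw'w' : B w' w' = 0 := by rw [B_self Q B hQs hQp, hw', mul_zero]
  -- the two reflections
  have hQa : Q (u + (-1 : F) • w') = -1 := by
    rw [Q_add_smul Q B hQs hQp, hu, hw', huw']; ring
  have hQb : Q (u + (-l) • w') = -l := by
    rw [Q_add_smul Q B hQs hQp, hu, hw', huw']; ring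
  have ha : Q (u + (-1 : F) • w') ≠ 0 := by rw [hQa]; exact neg_ne_zero.mpr one_ne_zero
  have hb : Q (u + (-l) • w') ≠ 0 := by rw [hQb]; exact neg_ne_zero.mpr hl0
  set ra := refl Q B hQs hQp ha with hra
  set rb := refl Q B hQs hQp hb with hrb
  have hraG : ra ∈ oG Q := refl_mem Q B hQs hQp ha
  have hrbG : rb ∈ oG Q := refl_mem Q B hQs hQp hb
  have hhG : ra * rb ∈ oG Q := (oG Q).mul_mem hraG hrbG
  -- action on u
  have hrbu : rb u = l • w' := by
    rw [hrb, refl_apply, hQb, map_add, map_smul, huu, huw']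
    simp only [smul_eq_mul]
    have : (-l)⁻¹ * (0 + -l * 1) = 1 := by
      rw [zero_add, mul_one, inv_mul_cancel₀ (neg_ne_zero.mpr hl0)]
    rw [this]
    module
  have hraw' : ra w' = u := by
    rw [hra, refl_apply, hQa, map_add, map_smul, hw'u, hw'w']
    simp only [smul_eq_mul]
    have : (-1 : F)⁻¹ * (1 + -1 * 0) = -1 := by
      rw [inv_neg_one]; ring
    rw [this]
    module
  have hhu : (ra * rb) u = l • u := by
    rw [LinearEquiv.mul_apply, hrbu, map_smul, hraw']
  -- action on vectors orthogonal to u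
  have hhz : ∀ y, B u y = 0 → ∃ c : F, (ra * rb) y = y + c • u := by
    intro y hy
    have hyu : B y u = 0 := by rw [hsymm, hy]
    refine ⟨B y w' * (l - 1), ?_⟩
    have h1 : rb y = y + (-(B y w')) • (u + (-l) • w') := by
      rw [hrb, refl_apply, hQb, map_add, map_smul, hyu]
      simp only [smul_eq_mul]
      have : (-l)⁻¹ * (0 + -l * B y w') = B y w' := by
        rw [zero_add, ← mul_assoc, inv_mul_cancel₀ (neg_ne_zero.mpr hl0), one_mul]
      rw [this]
      module
    have h2 : ra y = y + (-(B y w')) • (u + (-1 : F) • w') := by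
      rw [hra, refl_apply, hQa, map_add, map_smul, hyu]
      simp only [smul_eq_mul]
      have : (-1 : F)⁻¹ * (0 + -1 * B y w') = B y w' := by
        rw [inv_neg_one]; ring
      rw [this]
      module
    have hrau : ra u = w' := by
      rw [hra, refl_apply, hQa, map_add, map_smul, huu, huw']
      simp only [smul_eq_mul]
      have : (-1 : F)⁻¹ * (0 + -1 * 1) = 1 := by
        rw [inv_neg_one]; ring
      rw [this]
      module
    rw [LinearEquiv.mul_apply, h1, map_add, map_smul, map_add, map_smul, h2, hrau, hraw']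
    module
  -- the commutator
  have hl1' : l - 1 ≠ 0 := sub_ne_zero.mpr hl1
  set z1 := (l - 1)⁻¹ • z with hz1
  have huz1 : B u z1 = 0 := by rw [hz1, map_smul, huz, smul_zero]
  obtain ⟨c, hc⟩ := hhz z1 huz1
  have hconj := conj_sieg Q B hQs hQp hhG hu huz1
  have hs1 : B u (z1 + c • u) = 0 := by
    rw [map_add, huz1, zero_add, map_smul, huu, smul_zero]
  have hs2 : B u (l • z1) = 0 := by
    rw [map_smul, huz1, smul_zero]
  have hs3 : B u (-z1) = 0 := by
    rw [map_neg, huz1, neg_zero]
  rw [hhu, hc, sieg_smul_left Q B hQs hQp hu hs1] at hconj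
  have e1 : l • (z1 + c • u) = l • z1 + (l * c) • u := by module
  rw [e1, sieg_add_smul Q B hQs hQp hu hs2] at hconj
  have hcomm : ⁅ra * rb, sieg Q B u z1⁆ = sieg Q B u z := by
    rw [commutatorElement_def, hconj, sieg_inv Q B hQs hQp hu huz1,
      sieg_mul Q B hQs hQp hu hs2 hs3]
    congr 1
    have : l • z1 + -z1 = ((l - 1) * (l - 1)⁻¹) • z := by
      rw [hz1]; module
    rw [this, mul_inv_cancel₀ hl1', one_smul]
  rw [← hcomm]
  exact Subgroup.commutator_mem_commutator hhG (sieg_mem_oG Q B hQs hQp hu huz1)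

end Basic

end Cfsg.Agent.Lib.Helper94_OrthSiegel
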