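import Mathlib
import Cfsg.Agent.Lib.Helper94_Symp
import Cfsg.Agent.Lib.Helper94_OrthSmall
import Cfsg.Agent.Lib.Helper94_OrthSiegel

set_option autoImplicit false

/-!
Maximality of the stabiliser of a totally singular subspace in a group `G` of isometries of a
nondegenerate quadratic space that contains, and is generated by, the Siegel elements.
-/

namespace Cfsg.Agent.Lib.Helper94_OrthPara

open Module Cfsg.Agent.Lib.Helper94_Symp Cfsg.Agent.Lib.Helper94_OrthSmall
  Cfsg.Agent.Lib.Helper94_OrthSiegel

variable {F V : Type*} [Field F] [AddCommGroup V] [Module F V]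

section

variable [FiniteDimensional F V] (Q : V → F) (B : LinearMap.BilinForm F V)
  (hQs : ∀ (c : F) (v : V), Q (c • v) = c * c * Q v)
  (hQp : ∀ u v : V, Q (u + v) = Q u + Q v + B u v)

include hQs hQp in
/-- Making a vector singular by adding a multiple of a singular vector not orthogonal to it. -/
lemma sing_adjust {x w : V} (hw : Q w = 0) (hxw : B x w ≠ 0) :
    Q (x + (-(Q x / B x w)) • w) = 0 := by
  rw [Q_add_smul Q B hQs hQp, hw]
  field_simp
  ring

include hQs hQp in
/-- The exclusion hypothesis of `maximal_stab_ts` holds unless `W^⊥/W` is a plane. -/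
lemma hex_of_dim (hN : B.Nondegenerate) (W : Submodule F V) (hW : ∀ w ∈ W, Q w = 0)
    (hdim : finrank F V ≠ 2 * finrank F W + 2) :
    ∀ y y', y ∈ B.orthogonal W → y' ∈ B.orthogonal W → Q y = 0 → Q y' = 0 → B y y' ≠ 0 →
      ∃ d ∈ B.orthogonal W, B d y = 0 ∧ B d y' = 0 ∧ Q d ≠ 0 := by
  intro y y' hy hy' hQy hQy' hyy'
  by_contra hcon
  push Not at hcon
  have hsymm := B_symm Q B hQp
  have hR := B_isRefl Q B hQp
  have hyy : B y y = 0 := by rw [B_self Q B hQs hQp, hQy, mul_zero]
  have hy'y' : B y' y' = 0 := by rw [B_self Q B hQs hQp, hQy', mul_zero]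
  have hWW : ∀ a ∈ W, ∀ b ∈ W, B a b = 0 := by
    intro a ha b hb
    rw [B_eq Q B hQp, hW _ (W.add_mem ha hb), hW a ha, hW b hb]; ring
  set X := W ⊔ Submodule.span F {y, y'} with hX
  have hXle : X ≤ B.orthogonal W := by
    rw [hX, sup_le_iff]
    refine ⟨fun a ha => (mem_orth B).mpr (fun n hn => hWW n hn a ha), ?_⟩
    rw [Submodule.span_le]
    rintro v (rfl | rfl)
    · exact hy
    · exact hy'
  -- the orthogonal of X is totally singular, hence inside X
  have hXo : ∀ d ∈ B.orthogonal X, Q d = 0 := by
    intro d hd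
    have hd' := (mem_orth B).mp hd
    apply hcon d
    · rw [mem_orth]
      intro n hn
      exact hd' n (Submodule.mem_sup_left hn)
    · rw [hsymm]
      exact hd' y (Submodule.mem_sup_right (Submodule.subset_span (by simp)))
    · rw [hsymm]
      exact hd' y' (Submodule.mem_sup_right (Submodule.subset_span (by simp)))
  have hXoX : B.orthogonal X ≤ X := by
    have h1 : B.orthogonal X ≤ B.orthogonal (B.orthogonal X) := by
      intro d hd
      rw [mem_orth]
      intro n hn
      rw [B_eq Q B hQp, hXo _ (Submodule.add_mem _ hn hd), hXo n hn, hXo d hd]; ring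
    rwa [LinearMap.BilinForm.orthogonal_orthogonal hN hR] at h1
  have hXoW : B.orthogonal X ≤ W := by
    intro d hd
    have hdX := hXoX hd
    have hd' := (mem_orth B).mp hd
    obtain ⟨w, hw, v, hv, hwv⟩ := Submodule.mem_sup.mp hdX
    obtain ⟨a, b, hab⟩ := Submodule.mem_span_pair.mp hv
    have hwy : B w y = 0 := (mem_orth B).mp hy w hw
    have hwy' : B w y' = 0 := (mem_orth B).mp hy' w hw
    have h1 : B y d = 0 := hd' y (Submodule.mem_sup_right (Submodule.subset_span (by simp)))
    have h2 : B y' d = 0 := hd' y' (Submodule.mem_sup_right (Submodule.subset_span (by simp)))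
    rw [← hwv, ← hab] at h1 h2
    simp only [map_add, map_smul, smul_eq_mul, hsymm y w, hwy, hyy, hsymm y' w, hwy', hy'y',
      mul_zero, add_zero, zero_add] at h1 h2
    rw [hsymm y' y] at h2
    have hb0 : b = 0 := by
      rcases mul_eq_zero.mp h1 with h | h
      · exact h
      · exact absurd h hyy'
    have ha0 : a = 0 := by
      rcases mul_eq_zero.mp h2 with h | h
      · exact h
      · exact absurd h hyy'
    rw [← hwv, ← hab, ha0, hb0, zero_smul, zero_smul, add_zero, add_zero]
    exact hw
  -- dimensions
  have hfrX := LinearMap.BilinForm.finrank_orthogonal hN X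
  have hfrW := LinearMap.BilinForm.finrank_orthogonal hN W
  have h1 := Submodule.finrank_mono hXoW
  have h2 := Submodule.finrank_mono hXle
  have h3 : finrank F X ≤ finrank F W + 2 := by
    have h4 : finrank F X ≤ finrank F W + finrank F (Submodule.span F ({y, y'} : Set V)) :=
      Submodule.finrank_add_le_finrank_add_finrank W (Submodule.span F {y, y'})
    have h5 : finrank F (Submodule.span F ({y, y'} : Set V)) ≤ 2 := by
      classical
      have h6 := finrank_span_finset_le_card (R := F) ({y, y'} : Finset V)
      have h7 : (({y, y'} : Finset V) : Set V) = {y, y'} := by simp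
      rw [h7, Set.finrank] at h6
      have := Finset.card_le_two (a := y) (b := y')
      omega
    omega
  have hynW : y ∉ W := by
    intro h
    exact hyy' ((mem_orth B).mp hy' y h)
  have hlt1 : W < W ⊔ Submodule.span F {y} := by
    refine lt_of_le_of_ne le_sup_left ?_
    intro heq
    apply hynW
    rw [heq]
    exact Submodule.mem_sup_right (Submodule.mem_span_singleton_self y)
  have hy'n : y' ∉ W ⊔ Submodule.span F {y} := by
    intro h
    obtain ⟨w, hw, v, hv, hwv⟩ := Submodule.mem_sup.mp h
    obtain ⟨a, rfl⟩ := Submodule.mem_span_singleton.mp hv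
    apply hyy'
    rw [← hwv, map_add, map_smul, hyy, smul_zero, add_zero, hsymm]
    exact (mem_orth B).mp hy w hw
  have hlt2 : W ⊔ Submodule.span F {y} < X := by
    refine lt_of_le_of_ne ?_ ?_
    · rw [hX]
      apply sup_le_sup_left
      rw [Submodule.span_le]
      rintro v rfl
      exact Submodule.subset_span (by simp)
    · intro heq
      apply hy'n
      rw [heq]
      exact Submodule.mem_sup_right (Submodule.subset_span (by simp))
  have h8 := Submodule.finrank_lt_finrank_of_lt hlt1
  have h9 := Submodule.finrank_lt_finrank_of_lt hlt2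
  omega

include hQs hQp in
theorem maximal_stab_ts (hN : B.Nondegenerate) (G : Subgroup (V ≃ₗ[F] V)) (hG1 : G ≤ oG Q)
    (hG2 : ∀ u z, Q u = 0 → B u z = 0 → sieg Q B u z ∈ G)
    (hG3 : ∀ M : Subgroup (V ≃ₗ[F] V),
      (∀ u z, Q u = 0 → B u z = 0 → sieg Q B u z ∈ M) → G ≤ M)
    (h3 : 3 ≤ finrank F V) (W : Submodule F V) (hW0 : W ≠ ⊥) (hW : ∀ w ∈ W, Q w = 0)
    (hex : ∀ y y', y ∈ B.orthogonal W → y' ∈ B.orthogonal W → Q y = 0 → Q y' = 0 →
      B y y' ≠ 0 → ∃ d ∈ B.orthogonal W, B d y = 0 ∧ B d y' = 0 ∧ Q d ≠ 0) :
    (stab W ⊓ G < G) ∧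
      ∀ M : Subgroup (V ≃ₗ[F] V), stab W ⊓ G ≤ M → M ≤ G → M = stab W ⊓ G ∨ M = G := by
  have hsymm := B_symm Q B hQp
  have hR := B_isRefl Q B hQp
  have hself : ∀ a, Q a = 0 → B a a = 0 := by
    intro a ha
    rw [B_self Q B hQs hQp, ha, mul_zero]
  have hWW : ∀ a ∈ W, ∀ b ∈ W, B a b = 0 := by
    intro a ha b hb
    rw [B_eq Q B hQp, hW _ (W.add_mem ha hb), hW a ha, hW b hb]; ring
  have hsapp := @sieg_apply F V _ _ _ Q B hQs hQp
  constructor
  · -- proper
    refine lt_of_le_of_ne inf_le_right ?_
    intro heq
    obtain ⟨w, hwW, hw0⟩ := Submodule.exists_mem_ne_zero_of_ne_bot hW0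
    have hQw : Q w = 0 := hW w hwW
    obtain ⟨x, hx⟩ : ∃ x, B x w ≠ 0 := by
      by_contra hcon
      push Not at hcon
      exact hw0 (hN.2 w hcon)
    have hQp0 := sing_adjust Q B hQs hQp hQw hx
    set p := x + (-(Q x / B x w)) • w with hp
    have hpw : B p w ≠ 0 := by
      rw [hp, map_add, LinearMap.add_apply, map_smul, LinearMap.smul_apply, hself w hQw,
        smul_zero, add_zero]
      exact hx
    have hwp : B w p = B p w := hsymm w p
    have hp0 : p ≠ 0 := by
      intro h
      rw [h] at hpw
      simp at hpw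
    obtain ⟨z, hz, hQz⟩ := exists_nonsing Q B hQp hN (Submodule.span F {p}) (by
      have h1 : finrank F (Submodule.span F ({p} : Set V)) = 1 := finrank_span_singleton hp0
      omega)
    have hpz : B p z = 0 := (mem_orth B).mp hz p (Submodule.mem_span_singleton_self p)
    have hg : sieg Q B p z ∈ stab W ⊓ G := by
      rw [heq]; exact hG2 p z hQp0 hpz
    have hgw := (mem_stab.mp hg.1 w).mp hwW
    have h1 := hWW _ hgw w hwW
    rw [hsapp hQp0 hpz] at h1
    simp only [map_add, map_sub, map_smul, LinearMap.add_apply, LinearMap.sub_apply,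
      LinearMap.smul_apply, smul_eq_mul, hself w hQw, hsymm z w, hwp] at h1
    have h2 : Q z * (B p w * B p w) = 0 := by linear_combination -h1
    rcases mul_eq_zero.mp h2 with h | h
    · exact hQz h
    · rcases mul_eq_zero.mp h with h | h <;> exact hpw h
  · intro M hHM hMK
    let P : V → Prop := fun w => Q w = 0 ∧ ∀ z, B w z = 0 → sieg Q B w z ∈ M
    have hP0 : P 0 := by
      refine ⟨Q_zero Q hQs, fun z _ => ?_⟩
      rw [sieg_zero_left Q B hQs hQp]; exact M.one_mem
    have hP1 : ∀ w ∈ W, P w := by
      intro w hw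
      refine ⟨hW w hw, fun z hz => ?_⟩
      apply hHM
      refine ⟨mem_stab_of_forall_mem ?_, hG2 w z (hW w hw) hz⟩
      intro x hx
      rw [hsapp (hW w hw) hz, hWW x hx w hw, zero_smul, add_zero, mul_zero, zero_smul, sub_zero]
      exact W.sub_mem hx (W.smul_mem _ hw)
    have hP2 : ∀ g ∈ M, ∀ w, P w → P (g w) := by
      intro g hg w hw
      have hgO : g ∈ oG Q := hG1 (hMK hg)
      refine ⟨by rw [hgO, hw.1], fun z hz => ?_⟩
      have h1 : B w (g⁻¹ z) = 0 := by
        rw [← oG_B Q B hQp hgO, apply_inv_apply']; exact hz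
      have h2 := conj_sieg Q B hQs hQp hgO hw.1 h1
      rw [apply_inv_apply'] at h2
      rw [← h2]
      exact M.mul_mem (M.mul_mem hg (hw.2 _ h1)) (M.inv_mem hg)
    have hP3 : ∀ w, P w → ∀ c : F, P (c • w) := by
      intro w hw c
      by_cases hc : c = 0
      · rw [hc, zero_smul]; exact hP0
      refine ⟨by rw [hQs, hw.1, mul_zero], fun z hz => ?_⟩
      have h1 : B w z = 0 := by
        rw [map_smul, LinearMap.smul_apply, smul_eq_mul] at hz
        exact (mul_eq_zero.mp hz).resolve_left hc
      rw [sieg_smul_left Q B hQs hQp hw.1 h1]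
      apply hw.2
      rw [map_smul, h1, smul_zero]
    have hP4 : ∀ w w', P w → P w' → B w w' = 0 → P (w + w') := by
      intro w w' hw hw' hww'
      by_cases hmem : w ∈ Submodule.span F {w'}
      · obtain ⟨c, rfl⟩ := Submodule.mem_span_singleton.mp hmem
        have : c • w' + w' = (c + 1) • w' := by module
        rw [this]
        exact hP3 w' hw' _
      · obtain ⟨z, hz1, hz2⟩ : ∃ z, B w' z = 0 ∧ B w z ≠ 0 := by
          by_contra hcon
          push Not at hcon
          apply hmem
          rw [← LinearMap.BilinForm.orthogonal_orthogonal hN hR (Submodule.span F {w'}), mem_orth]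
          intro n hn
          rw [hsymm]
          apply hcon
          exact (mem_orth B).mp hn w' (Submodule.mem_span_singleton_self w')
        set z' := (-(B w z)⁻¹) • z with hz'
        have hz'1 : B w' z' = 0 := by rw [hz', map_smul, hz1, smul_zero]
        have hz'2 : B w z' = -1 := by
          rw [hz', map_smul, smul_eq_mul, neg_mul, inv_mul_cancel₀ hz2]
        have hg : sieg Q B w' z' ∈ M := hw'.2 z' hz'1
        have h1 := hP2 _ hg w hw
        rw [hsapp hw'.1 hz'1, hww', hz'2] at h1
        have : w + (0 : F) • z' - (-1 : F) • w' - (Q z' * 0) • w' = w + w' := by module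
        rwa [this] at h1
    have hP5a : ∀ w, P w → ∀ p p', Q p = 0 → Q p' = 0 → B p w ≠ 0 → B p' w ≠ 0 → P p → P p' := by
      intro w hw p p' hp hp' hpw hp'w hPp
      set l := B p w with hl
      set p'' := (l / B p' w) • p' with hp''
      have hQp'' : Q p'' = 0 := by rw [hp'', hQs, hp', mul_zero]
      have hp''w : B p'' w = l := by
        rw [hp'', map_smul, LinearMap.smul_apply, smul_eq_mul, div_mul_cancel₀ _ hp'w]
      set z := l⁻¹ • (p'' - p) with hz
      have hwz : B w z = 0 := by
        rw [hz, map_smul, map_sub, hsymm w p'', hsymm w p, hp''w, ← hl, sub_self, smul_zero]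
      have hg : sieg Q B w z ∈ M := hw.2 z hwz
      have hlz : l • z = p'' - p := by rw [hz, smul_smul, mul_inv_cancel₀ hpw, one_smul]
      have hkey : B p z + l * Q z = 0 := by
        have e1 : p'' = p + l • z := by rw [hlz]; abel
        have e2 := hQp''
        rw [e1, Q_add_smul Q B hQs hQp, hp] at e2
        have e3 : l * (B p z + l * Q z) = 0 := by linear_combination e2
        exact (mul_eq_zero.mp e3).resolve_left hpw
      have h1 := hP2 _ hg p hPp
      rw [hsapp hw.1 hwz, ← hl, hlz] at h1
      have e4 : p + (p'' - p) - B p z • w - (Q z * l) • w = p'' - (B p z + l * Q z) • w := by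
        module
      rw [e4, hkey, zero_smul, sub_zero] at h1
      have h2 := hP3 p'' h1 (B p' w / l)
      rwa [hp'', smul_smul, div_mul_div_cancel₀ hpw, div_self hp'w, one_smul] at h2
    by_cases hpair : ∃ w1 w2, P w1 ∧ P w2 ∧ B w1 w2 ≠ 0
    · right
      apply le_antisymm hMK
      obtain ⟨w1, w2, hw1, hw2, h12⟩ := hpair
      have h21 : B w2 w1 ≠ 0 := by rw [hsymm]; exact h12
      have hw10 : w1 ≠ 0 := by
        rintro rfl
        simp at h12
      have hall : ∀ p, Q p = 0 → P p := by
        intro p hp
        by_cases hpw1 : B p w1 = 0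
        · by_cases hp0 : p = 0
          · rw [hp0]; exact hP0
          obtain ⟨x, hx1, hx2⟩ : ∃ x, B x w1 ≠ 0 ∧ B x p ≠ 0 := by
            obtain ⟨x1, hx1⟩ : ∃ x, B x w1 ≠ 0 := by
              by_contra hcon
              push Not at hcon
              exact hw10 (hN.2 w1 hcon)
            obtain ⟨x2, hx2⟩ : ∃ x, B x p ≠ 0 := by
              by_contra hcon
              push Not at hcon
              exact hp0 (hN.2 p hcon)
            by_cases h1 : B x1 p = 0
            · by_cases h2 : B x2 w1 = 0
              · refine ⟨x1 + x2, ?_, ?_⟩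
                · rw [map_add, LinearMap.add_apply, h2, add_zero]; exact hx1
                · rw [map_add, LinearMap.add_apply, h1, zero_add]; exact hx2
              · exact ⟨x2, h2, hx2⟩
            · exact ⟨x1, hx1, h1⟩
          have hQr := sing_adjust Q B hQs hQp hw1.1 hx1
          set r := x + (-(Q x / B x w1)) • w1 with hr
          have hrw1 : B r w1 ≠ 0 := by
            rw [hr, map_add, LinearMap.add_apply, map_smul, LinearMap.smul_apply,
              hself w1 hw1.1, smul_zero, add_zero]
            exact hx1
          have hrp : B r p ≠ 0 := by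
            rw [hr, map_add, LinearMap.add_apply, map_smul, LinearMap.smul_apply, hsymm w1 p,
              hpw1, smul_zero, add_zero]
            exact hx2
          have hPr : P r := hP5a w1 hw1 w2 r hw2.1 hQr h21 hrw1 hw2
          exact hP5a r hPr w1 p hw1.1 hp (by rw [hsymm]; exact hrw1) (by rw [hsymm]; exact hrp)
            hw1
        · exact hP5a w1 hw1 w2 p hw2.1 hp h21 hpw1 hw2
      apply hG3
      intro u z hu huz
      exact (hall u hu).2 z huz
    · left
      push Not at hpair
      apply le_antisymm _ hHM
      let S : Submodule F V :=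
        { carrier := {w | P w}
          add_mem' := by
            intro a b ha hb
            exact hP4 a b ha hb (hpair a b ha hb)
          zero_mem' := hP0
          smul_mem' := by
            intro c a ha
            exact hP3 a ha c }
      have hSmem : ∀ a, a ∈ S ↔ P a := fun a => Iff.rfl
      have hWS : W ≤ S := fun w hw => hP1 w hw
      have hSW : S ≤ W := by
        intro y hyS
        by_contra hyW
        have hPy : P y := hyS
        have hyo : y ∈ B.orthogonal W := by
          rw [mem_orth]
          intro n hn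
          exact hpair n y (hP1 n hn) hPy
        obtain ⟨x, hxo, hxy⟩ : ∃ x ∈ B.orthogonal W, B x y ≠ 0 := by
          by_contra hcon
          push Not at hcon
          apply hyW
          rw [← LinearMap.BilinForm.orthogonal_orthogonal hN hR W, mem_orth]
          exact hcon
        have hQy' := sing_adjust Q B hQs hQp hPy.1 hxy
        set y' := x + (-(Q x / B x y)) • y with hy'
        have hy'o : y' ∈ B.orthogonal W :=
          Submodule.add_mem _ hxo (Submodule.smul_mem _ _ hyo)
        have hy'y : B y' y ≠ 0 := by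
          rw [hy', map_add, LinearMap.add_apply, map_smul, LinearMap.smul_apply, hself y hPy.1,
            smul_zero, add_zero]
          exact hxy
        have hyy' : B y y' ≠ 0 := by rw [hsymm]; exact hy'y
        obtain ⟨d, hdo, hdy, hdy', hQd⟩ := hex y y' hyo hy'o hPy.1 hQy' hyy'
        have hy'd : B y' d = 0 := by rw [hsymm]; exact hdy'
        have hyd : B y d = 0 := by rw [hsymm]; exact hdy
        have hh : sieg Q B y' d ∈ M := by
          apply hHM
          refine ⟨mem_stab_of_forall_mem ?_, hG2 y' d hQy' hy'd⟩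
          intro x0 hx0
          rw [hsapp hQy' hy'd, (mem_orth B).mp hy'o x0 hx0, (mem_orth B).mp hdo x0 hx0]
          simpa using hx0
        have h1 := hP2 _ hh y hPy
        have h2 := hpair _ y h1 hPy
        rw [hsapp hQy' hy'd, hyd] at h2
        simp only [map_add, map_sub, map_smul, LinearMap.add_apply, LinearMap.sub_apply,
          LinearMap.smul_apply, smul_eq_mul, hself y hPy.1, hdy, zero_mul, mul_zero, add_zero,
          sub_zero, zero_add] at h2
        have h3 : Q d * (B y y' * B y' y) = 0 := by linear_combination -h2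
        rcases mul_eq_zero.mp h3 with h | h
        · exact hQd h
        · rcases mul_eq_zero.mp h with h | h
          · exact hyy' h
          · exact hy'y h
      have hSeq : S = W := le_antisymm hSW hWS
      intro g hg
      refine ⟨?_, hMK hg⟩
      apply mem_stab_of_forall_mem
      intro x hx
      rw [← hSeq]
      exact hP2 g hg x (hP1 x hx)

end

end Cfsg.Agent.Lib.Helper94_OrthPara
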