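import Mathlib
import Cfsg.Agent.Lib.Helper14_Siegel
import Cfsg.Agent.Lib.Helper14_SiegelOmega2
import Cfsg.Agent.Lib.Helper14_SimpleAbs
import Cfsg.Agent.Lib.Helper94_OrthSiegel
import Cfsg.Agent.Lib.Helper94_OrthPara

set_option autoImplicit false

/-!
The group generated by the long root elements (Siegel transformations) of a quadratic form with non-degenerate
polar form over a finite field, in dimension at least five, is simple modulo its centre (helper14).
Abstract vector-space version, on top of helper94's `sieg` and `maximal_stab_ts`.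
-/

namespace Cfsg.Agent.Lib.Helper14_OmegaSimple

open Module Cfsg.Agent.Lib.Helper94_Symp Cfsg.Agent.Lib.Helper94_OrthSmall
  Cfsg.Agent.Lib.Helper94_OrthSiegel Cfsg.Agent.Lib.Helper94_OrthPara
  Cfsg.Agent.Lib.Helper44_QuadClass Cfsg.Agent.Lib.Helper14_Siegel
  Cfsg.Agent.Lib.Helper14_SiegelOmega2
open scoped commutatorElement

variable {F V : Type*} [Field F] [AddCommGroup V] [Module F V]

section basic

variable (Q : QuadraticForm F V)

theorem hQs (c : F) (v : V) : Q (c • v) = c * c * Q v := by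
  rw [QuadraticMap.map_smul, smul_eq_mul]

theorem hQp (u v : V) : Q (u + v) = Q u + Q v + QuadraticMap.polarBilin Q u v := by
  rw [QuadraticMap.polarBilin_apply_apply, QuadraticMap.polar]
  ring

/-- The Eichler–Siegel transformation `E(u, z)`. -/
noncomputable def E (u z : V) : V ≃ₗ[F] V := sieg (⇑Q) (QuadraticMap.polarBilin Q) u z

theorem E_apply {u z : V} (hu : Q u = 0) (huz : QuadraticMap.polar (⇑Q) u z = 0) (x : V) :
    E Q u z x = x + QuadraticMap.polar (⇑Q) x u • z - QuadraticMap.polar (⇑Q) x z • u -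
      (Q z * QuadraticMap.polar (⇑Q) x u) • u :=
  sieg_apply (⇑Q) (QuadraticMap.polarBilin Q) (hQs Q) (hQp Q) hu huz x

theorem E_zero_left (z : V) : E Q 0 z = 1 :=
  sieg_zero_left (⇑Q) (QuadraticMap.polarBilin Q) (hQs Q) (hQp Q) z

theorem E_zero_right {u : V} (hu : Q u = 0) : E Q u 0 = 1 :=
  sieg_zero_right (⇑Q) (QuadraticMap.polarBilin Q) (hQs Q) (hQp Q) hu

theorem E_mem_oG {u z : V} (hu : Q u = 0) (huz : QuadraticMap.polar (⇑Q) u z = 0) :
    E Q u z ∈ oG (⇑Q) :=
  sieg_mem_oG (⇑Q) (QuadraticMap.polarBilin Q) (hQs Q) (hQp Q) hu huz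

theorem conj_E {g : V ≃ₗ[F] V} (hg : g ∈ oG (⇑Q)) {u z : V} (hu : Q u = 0)
    (huz : QuadraticMap.polar (⇑Q) u z = 0) : g * E Q u z * g⁻¹ = E Q (g u) (g z) :=
  conj_sieg (⇑Q) (QuadraticMap.polarBilin Q) (hQs Q) (hQp Q) hg hu huz

theorem E_smul_left {u z : V} (hu : Q u = 0) (huz : QuadraticMap.polar (⇑Q) u z = 0) (c : F) :
    E Q (c • u) z = E Q u (c • z) :=
  sieg_smul_left (⇑Q) (QuadraticMap.polarBilin Q) (hQs Q) (hQp Q) hu huz c

theorem E_add_smul {u z : V} (hu : Q u = 0) (huz : QuadraticMap.polar (⇑Q) u z = 0) (a : F) :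
    E Q u (z + a • u) = E Q u z :=
  sieg_add_smul (⇑Q) (QuadraticMap.polarBilin Q) (hQs Q) (hQp Q) hu huz a

theorem E_mul {u z z' : V} (hu : Q u = 0) (huz : QuadraticMap.polar (⇑Q) u z = 0)
    (huz' : QuadraticMap.polar (⇑Q) u z' = 0) : E Q u z * E Q u z' = E Q u (z + z') :=
  sieg_mul (⇑Q) (QuadraticMap.polarBilin Q) (hQs Q) (hQp Q) hu huz huz'

theorem E_inv {u z : V} (hu : Q u = 0) (huz : QuadraticMap.polar (⇑Q) u z = 0) :
    (E Q u z)⁻¹ = E Q u (-z) :=
  sieg_inv (⇑Q) (QuadraticMap.polarBilin Q) (hQs Q) (hQp Q) hu huz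

theorem oG_polar {g : V ≃ₗ[F] V} (hg : g ∈ oG (⇑Q)) (x y : V) :
    QuadraticMap.polar (⇑Q) (g x) (g y) = QuadraticMap.polar (⇑Q) x y :=
  oG_B (⇑Q) (QuadraticMap.polarBilin Q) (hQp Q) hg x y

theorem map_sub' (x y : V) : Q (x - y) = Q x + Q y - QuadraticMap.polar (⇑Q) x y := by
  have h1 : QuadraticMap.polar (⇑Q) (x - y) y = QuadraticMap.polar (⇑Q) x y - 2 * Q y := by
    rw [QuadraticMap.polar_sub_left, polar_self']
  have h2 := QuadraticMap.map_add (⇑Q) (x - y) y
  rw [sub_add_cancel, h1] at h2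
  linear_combination -h2

/-- The long root elements. -/
def rootSet : Set (V ≃ₗ[F] V) :=
  {g | ∃ u s : V, Q u = 0 ∧ Q s = 0 ∧ QuadraticMap.polar (⇑Q) u s = 0 ∧ g = E Q u s}

/-- The group generated by the long root elements. -/
def T : Subgroup (V ≃ₗ[F] V) := Subgroup.closure (rootSet Q)

theorem root_mem_T {u s : V} (hu : Q u = 0) (hs : Q s = 0) (hus : QuadraticMap.polar (⇑Q) u s = 0) :
    E Q u s ∈ T Q :=
  Subgroup.subset_closure ⟨u, s, hu, hs, hus, rfl⟩

theorem T_le_oG : T Q ≤ oG (⇑Q) := by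
  rw [T, Subgroup.closure_le]
  rintro g ⟨u, s, hu, hs, hus, rfl⟩
  exact E_mem_oG Q hu hus

end basic

section finite

variable [Finite F] [FiniteDimensional F V] (Q : QuadraticForm F V)

/-- All Eichler transformations lie in the group generated by the long root elements. -/
theorem E_mem_T (hQ : (QuadraticMap.polarBilin Q).Nondegenerate) (hdim : 5 ≤ finrank F V)
    {u z : V} (hu : Q u = 0) (huz : QuadraticMap.polar (⇑Q) u z = 0) : E Q u z ∈ T Q := by
  by_cases hu0 : u = 0
  · rw [hu0, E_zero_left]; exact Subgroup.one_mem _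
  by_cases hz : z ∈ Submodule.span F {u}
  · obtain ⟨a, rfl⟩ := Submodule.mem_span_singleton.mp hz
    have h0 : QuadraticMap.polar (⇑Q) u 0 = 0 := by simp [QuadraticMap.polar]
    have := E_add_smul Q hu h0 a
    rw [zero_add] at this
    rw [this, E_zero_right Q hu]
    exact Subgroup.one_mem _
  obtain ⟨s, hs, hus, hsz⟩ := exists_singular_orth_polar Q hQ hdim hu0 hu huz hz (Q z)
  have hzs : Q (z - s) = 0 := by
    rw [map_sub', hs, QuadraticMap.polar_comm, hsz]; ring
  have huzs : QuadraticMap.polar (⇑Q) u (z - s) = 0 := by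
    rw [QuadraticMap.polar_sub_right, huz, hus, sub_zero]
  have : E Q u z = E Q u s * E Q u (z - s) := by
    rw [E_mul Q hu hus huzs]
    congr 1; abel
  rw [this]
  exact Subgroup.mul_mem _ (root_mem_T Q hu hs hus) (root_mem_T Q hu hzs huzs)

/-- For a non-singular `v` and `d` not a multiple of `v` (dimension at least five), every value of `B(·, d)`
is taken on a singular vector orthogonal to `v` (every characteristic). -/
theorem exists_singular_orth_polar_ns (hQ : (QuadraticMap.polarBilin Q).Nondegenerate)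
    (hdim : 5 ≤ finrank F V) {v d : V} (hv : Q v ≠ 0) (hd : d ∉ Submodule.span F {v}) (c : F) :
    ∃ s : V, Q s = 0 ∧ QuadraticMap.polar (⇑Q) s v = 0 ∧ QuadraticMap.polar (⇑Q) s d = c := by
  by_cases h2 : (2 : F) = 0
  · exact exists_singular_orth_polar_two h2 Q hQ hdim hv hd c
  · exact exists_singular_orth_polar' h2 Q hQ hdim hv hd c

/-- The group generated by the long root elements is transitive on singular points. -/
theorem exists_mem_T_map (hQ : (QuadraticMap.polarBilin Q).Nondegenerate) (hdim : 5 ≤ finrank F V)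
    {u w : V} (hu0 : u ≠ 0) (hu : Q u = 0) (hw0 : w ≠ 0) (hw : Q w = 0) :
    ∃ g ∈ T Q, ∃ c : F, c ≠ 0 ∧ g u = c • w := by
  by_cases hdep : u ∈ Submodule.span F {w}
  · obtain ⟨k, hk⟩ := Submodule.mem_span_singleton.mp hdep
    refine ⟨1, Subgroup.one_mem _, k, ?_, ?_⟩
    · rintro rfl
      apply hu0; rw [← hk, zero_smul]
    · rw [hk]; rfl
  have key : ∃ a, Q a = 0 ∧ QuadraticMap.polar (⇑Q) a u = 1 ∧ QuadraticMap.polar (⇑Q) a w = 1 := by
    obtain ⟨y, hy⟩ : ∃ y, y = u - w := ⟨_, rfl⟩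
    have hQy : Q y = -QuadraticMap.polar (⇑Q) u w := by rw [hy, map_sub', hu, hw]; ring
    have hwy : w = u - y := by rw [hy]; abel
    have huy : u ∉ Submodule.span F {y} := by
      intro h
      obtain ⟨k, hk⟩ := Submodule.mem_span_singleton.mp h
      rw [hy, smul_sub] at hk
      have hk' : (k - 1) • u = k • w := by linear_combination (norm := module) hk
      by_cases hk1 : k = 1
      · rw [hk1, sub_self, zero_smul, one_smul] at hk'
        exact hw0 hk'.symm
      · apply hdep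
        rw [Submodule.mem_span_singleton]
        refine ⟨k / (k - 1), ?_⟩
        have hne : k - 1 ≠ 0 := sub_ne_zero.mpr hk1
        rw [div_eq_inv_mul, ← smul_smul, ← hk', smul_smul, inv_mul_cancel₀ hne, one_smul]
    by_cases hy0 : Q y = 0
    · have hyne : y ≠ 0 := by
        intro h
        apply hdep
        rw [hy, sub_eq_zero] at h
        rw [h]; exact Submodule.mem_span_singleton_self w
      have huw : QuadraticMap.polar (⇑Q) u w = 0 := by
        rw [hy0] at hQy
        linear_combination hQy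
      have hyu : QuadraticMap.polar (⇑Q) y u = 0 := by
        rw [hy, QuadraticMap.polar_sub_left, polar_self', hu, QuadraticMap.polar_comm (⇑Q) w u, huw]
        ring
      obtain ⟨s, hs, hys, hsu⟩ := exists_singular_orth_polar Q hQ hdim hyne hy0 hyu huy 1
      refine ⟨s, hs, hsu, ?_⟩
      rw [hwy, QuadraticMap.polar_sub_right, hsu, QuadraticMap.polar_comm (⇑Q) s y, hys, sub_zero]
    · obtain ⟨s, hs, hsy, hsu⟩ := exists_singular_orth_polar_ns Q hQ hdim hy0 huy 1
      refine ⟨s, hs, hsu, ?_⟩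
      rw [hwy, QuadraticMap.polar_sub_right, hsu, hsy, sub_zero]
  obtain ⟨a, ha, hau, haw⟩ := key
  have hz : QuadraticMap.polar (⇑Q) a (w - u) = 0 := by
    rw [QuadraticMap.polar_sub_right, haw, hau, sub_self]
  refine ⟨E Q a (w - u), E_mem_T Q hQ hdim ha hz, 1, one_ne_zero, ?_⟩
  have h1 : QuadraticMap.polar (⇑Q) u a = 1 := by rw [QuadraticMap.polar_comm, hau]
  have h2 : QuadraticMap.polar (⇑Q) u (w - u) = QuadraticMap.polar (⇑Q) u w := by
    rw [QuadraticMap.polar_sub_right, polar_self', hu]; ring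
  have h3 : Q (w - u) = -QuadraticMap.polar (⇑Q) u w := by
    rw [map_sub', hu, hw, QuadraticMap.polar_comm]; ring
  rw [E_apply Q ha hz, one_smul, h1, h2, h3]
  module

omit [Finite F] in
/-- Two vectors orthogonal to `u` and `s` with pairing `-1` (dimension at least five). -/
theorem exists_pair_orth (hQ : (QuadraticMap.polarBilin Q).Nondegenerate) (hdim : 5 ≤ finrank F V)
    (u s : V) : ∃ x y : V, QuadraticMap.polar (⇑Q) u x = 0 ∧ QuadraticMap.polar (⇑Q) s x = 0 ∧
      QuadraticMap.polar (⇑Q) u y = 0 ∧ QuadraticMap.polar (⇑Q) s y = 0 ∧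
      QuadraticMap.polar (⇑Q) y x = -1 := by
  classical
  obtain ⟨W, hW⟩ : ∃ W, W = Submodule.span F ({u, s} : Set V) := ⟨_, rfl⟩
  have hWle : finrank F W ≤ 2 := by
    rw [hW]
    have := finrank_span_finset_le_card (R := F) ({u, s} : Finset V)
    rw [Finset.coe_insert, Finset.coe_singleton] at this
    exact this.trans Finset.card_le_two
  obtain ⟨K, hK⟩ : ∃ K, K = LinearMap.BilinForm.orthogonal (QuadraticMap.polarBilin Q) W := ⟨_, rfl⟩
  have hKfr : finrank F K = finrank F V - finrank F W := by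
    rw [hK]; exact LinearMap.BilinForm.finrank_orthogonal hQ W
  have hex : ∃ x ∈ K, ∃ y ∈ K, QuadraticMap.polar (⇑Q) y x ≠ 0 := by
    by_contra hcon
    push Not at hcon
    have hKK : K ≤ LinearMap.BilinForm.orthogonal (QuadraticMap.polarBilin Q) K := by
      intro x hx
      rw [LinearMap.BilinForm.mem_orthogonal_iff]
      intro y hy
      exact hcon x hx y hy
    have h1 := Submodule.finrank_mono hKK
    have h2 : finrank F (LinearMap.BilinForm.orthogonal (QuadraticMap.polarBilin Q) K) =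
        finrank F V - finrank F K := LinearMap.BilinForm.finrank_orthogonal hQ K
    omega
  obtain ⟨x, hx, y, hy, hxy⟩ := hex
  rw [hK, LinearMap.BilinForm.mem_orthogonal_iff] at hx hy
  have hu : u ∈ W := hW ▸ Submodule.subset_span (by simp)
  have hs : s ∈ W := hW ▸ Submodule.subset_span (by simp)
  have hux : QuadraticMap.polar (⇑Q) u x = 0 := hx u hu
  have hsx : QuadraticMap.polar (⇑Q) s x = 0 := hx s hs
  refine ⟨(-1 / QuadraticMap.polar (⇑Q) y x) • x, y, ?_, ?_, hy u hu, hy s hs, ?_⟩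
  · rw [QuadraticMap.polar_smul_right, hux, smul_zero]
  · rw [QuadraticMap.polar_smul_right, hsx, smul_zero]
  · rw [QuadraticMap.polar_smul_right, smul_eq_mul]
    exact div_mul_cancel₀ _ hxy

/-- Long root elements are commutators of elements of `T`. -/
theorem root_mem_commutator (hQ : (QuadraticMap.polarBilin Q).Nondegenerate)
    (hdim : 5 ≤ finrank F V) {u s : V} (hu : Q u = 0) (hs : Q s = 0)
    (hus : QuadraticMap.polar (⇑Q) u s = 0) : E Q u s ∈ ⁅T Q, T Q⁆ := by
  obtain ⟨x, y, hux, hsx, huy, hsy, hyx⟩ := exists_pair_orth Q hQ hdim u s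
  have hg : E Q s x ∈ T Q := E_mem_T Q hQ hdim hs hsx
  have hh : E Q u y ∈ T Q := E_mem_T Q hQ hdim hu huy
  have hgO := T_le_oG Q hg
  have h1 : E Q s x u = u := by
    rw [E_apply Q hs hsx, hus, hux]
    simp
  have h2 : E Q s x y = y + s := by
    rw [E_apply Q hs hsx, QuadraticMap.polar_comm (⇑Q) y s, hsy, hyx]
    simp
  have h3 : QuadraticMap.polar (⇑Q) u (y + s) = 0 := by
    rw [QuadraticMap.polar_add_right, huy, hus, add_zero]
  have h4 : QuadraticMap.polar (⇑Q) u (-y) = 0 := by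
    rw [QuadraticMap.polar_neg_right, huy, neg_zero]
  have key : ⁅E Q s x, E Q u y⁆ = E Q u s := by
    rw [commutatorElement_def, conj_E Q hgO hu huy, E_inv Q hu huy, h1, h2, E_mul Q hu h3 h4]
    congr 1; abel
  rw [← key]
  exact Subgroup.commutator_mem_commutator hg hh

/-- `T` is perfect. -/
theorem commutator_T_eq (hQ : (QuadraticMap.polarBilin Q).Nondegenerate) (hdim : 5 ≤ finrank F V) :
    ⁅T Q, T Q⁆ = T Q := by
  apply le_antisymm (Subgroup.commutator_le_self _)
  conv_lhs => rw [T]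
  rw [Subgroup.closure_le]
  rintro g ⟨u, s, hu, hs, hus, rfl⟩
  exact root_mem_commutator Q hQ hdim hu hs hus

theorem commutator_T_eq_top (hQ : (QuadraticMap.polarBilin Q).Nondegenerate)
    (hdim : 5 ≤ finrank F V) : commutator ↥(T Q) = ⊤ := by
  apply Subgroup.map_injective (T Q).subtype_injective
  rw [Subgroup.map_subtype_commutator, commutator_T_eq Q hQ hdim, ← MonoidHom.range_eq_map,
    Subgroup.range_subtype]

omit [Finite F] [FiniteDimensional F V] in
/-- Eigenvalues on two independent orthogonal singular vectors agree if their sum is an eigenvector. -/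
theorem eig_eq {g : V ≃ₗ[F] V} (hfix : ∀ w, Q w = 0 → ∃ l : F, g w = l • w) {u s : V} (hu0 : u ≠ 0)
    (hsu : s ∉ Submodule.span F {u}) (hu : Q u = 0) (hs : Q s = 0)
    (hus : QuadraticMap.polar (⇑Q) u s = 0) {l m : F} (hl : g u = l • u) (hm : g s = m • s) :
    l = m := by
  have hsum : Q (u + s) = 0 := by
    rw [QuadraticMap.map_add (⇑Q), hu, hs, hus]; ring
  obtain ⟨n, hn⟩ := hfix (u + s) hsum
  rw [map_add, hl, hm] at hn
  have h1 : (l - n) • u = (n - m) • s := by linear_combination (norm := module) hn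
  by_cases hnm : n = m
  · rw [hnm, sub_self, zero_smul, smul_eq_zero] at h1
    rcases h1 with h | h
    · exact sub_eq_zero.mp h
    · exact absurd h hu0
  · exfalso
    apply hsu
    rw [Submodule.mem_span_singleton]
    refine ⟨(l - n) / (n - m), ?_⟩
    have hne : n - m ≠ 0 := sub_ne_zero.mpr hnm
    rw [div_eq_inv_mul, ← smul_smul, h1, smul_smul, inv_mul_cancel₀ hne, one_smul]

/-- An isometry fixing every singular point commutes with the long root elements. -/
theorem comm_root_of_fix (hQ : (QuadraticMap.polarBilin Q).Nondegenerate) (hdim : 5 ≤ finrank F V)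
    {g : V ≃ₗ[F] V} (hg : g ∈ oG (⇑Q)) (hfix : ∀ w, Q w = 0 → ∃ l : F, g w = l • w) {u s : V}
    (hu : Q u = 0) (hs : Q s = 0) (hus : QuadraticMap.polar (⇑Q) u s = 0) :
    g * E Q u s = E Q u s * g := by
  by_cases hu0 : u = 0
  · rw [hu0, E_zero_left, mul_one, one_mul]
  by_cases hsu : s ∈ Submodule.span F {u}
  · obtain ⟨a, rfl⟩ := Submodule.mem_span_singleton.mp hsu
    have h0 : QuadraticMap.polar (⇑Q) u 0 = 0 := by simp [QuadraticMap.polar]
    have := E_add_smul Q hu h0 a
    rw [zero_add] at this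
    rw [this, E_zero_right Q hu, mul_one, one_mul]
  obtain ⟨l, hl⟩ := hfix u hu
  obtain ⟨m, hm⟩ := hfix s hs
  have hlm : l = m := eig_eq Q hfix hu0 hsu hu hs hus hl hm
  -- `l * l = 1`
  obtain ⟨u', hu', huu'⟩ := exists_hyperbolic_partner Q hQ hu0 hu
  have hnd := nondegenerate_perp hQ hu hu' huu'
  have hfr := finrank_perp (Q := Q) hu hu' huu'
  obtain ⟨w', hw'0, hw'⟩ := exists_singular (Q.comp (perp Q u u').subtype) (by omega)
  have hwmem := (mem_perp Q u u').mp w'.2
  have hw0 : (w' : V) ≠ 0 := fun h => hw'0 (Subtype.ext h)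
  have hQw : Q (w' : V) = 0 := by simpa using hw'
  have hu'0 : u' ≠ 0 := by
    rintro rfl
    simp [QuadraticMap.polar] at huu'
  obtain ⟨l', hl'⟩ := hfix u' hu'
  obtain ⟨k, hk⟩ := hfix (w' : V) hQw
  have h1 : l = k := by
    apply eig_eq Q hfix hu0 _ hu hQw hwmem.1 hl hk
    intro h
    obtain ⟨a, ha⟩ := Submodule.mem_span_singleton.mp h
    have h2 := hwmem.2
    rw [← ha, QuadraticMap.polar_smul_right, QuadraticMap.polar_comm, huu', smul_eq_mul,
      mul_one] at h2
    rw [h2, zero_smul] at ha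
    exact hw0 ha.symm
  have h2 : l' = k := by
    apply eig_eq Q hfix hu'0 _ hu' hQw hwmem.2 hl' hk
    intro h
    obtain ⟨a, ha⟩ := Submodule.mem_span_singleton.mp h
    have h2 := hwmem.1
    rw [← ha, QuadraticMap.polar_smul_right, huu', smul_eq_mul, mul_one] at h2
    rw [h2, zero_smul] at ha
    exact hw0 ha.symm
  have hll : l * l = 1 := by
    have := oG_polar Q hg u u'
    rw [hl, hl', h2, ← h1, QuadraticMap.polar_smul_left, QuadraticMap.polar_smul_right, huu'] at this
    simpa using this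
  have hus' : QuadraticMap.polar (⇑Q) u (m • s) = 0 := by
    rw [QuadraticMap.polar_smul_right, hus, smul_zero]
  have hconj : g * E Q u s * g⁻¹ = E Q u s := by
    rw [conj_E Q hg hu hus, hl, hm, E_smul_left Q hu hus', smul_smul, ← hlm, hll, one_smul]
  exact mul_inv_eq_iff_eq_mul.mp hconj

omit [Finite F] [FiniteDimensional F V] in
/-- The abelian group of Eichler transformations with a fixed singular vector. -/
def A {u : V} (hu : Q u = 0) : Subgroup (V ≃ₗ[F] V) where
  carrier := {g | ∃ z, QuadraticMap.polar (⇑Q) u z = 0 ∧ g = E Q u z}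
  mul_mem' := by
    rintro _ _ ⟨z, hz, rfl⟩ ⟨z', hz', rfl⟩
    exact ⟨z + z', by rw [QuadraticMap.polar_add_right, hz, hz', add_zero], E_mul Q hu hz hz'⟩
  one_mem' := ⟨0, by simp [QuadraticMap.polar], (E_zero_right Q hu).symm⟩
  inv_mem' := by
    rintro _ ⟨z, hz, rfl⟩
    exact ⟨-z, by rw [QuadraticMap.polar_neg_right, hz, neg_zero], E_inv Q hu hz⟩

/-- An element of `T` all of whose `T`-conjugates fix a given singular point fixes every singular point. -/
theorem fix_of_core (hQ : (QuadraticMap.polarBilin Q).Nondegenerate) (hdim : 5 ≤ finrank F V)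
    {u₀ : V} (hu₀ : u₀ ≠ 0) (hQu₀ : Q u₀ = 0) {g : V ≃ₗ[F] V}
    (hcore : ∀ h ∈ T Q, h * g * h⁻¹ ∈ stab (Submodule.span F {u₀})) :
    ∀ w, Q w = 0 → ∃ l : F, g w = l • w := by
  intro w hw
  by_cases hw0 : w = 0
  · exact ⟨0, by rw [hw0, map_zero, smul_zero]⟩
  obtain ⟨h, hh, c, hc0, hc⟩ := exists_mem_T_map Q hQ hdim hu₀ hQu₀ hw0 hw
  have h1 := hcore h⁻¹ (Subgroup.inv_mem _ hh)
  rw [inv_inv] at h1
  have h2 := (mem_stab.mp h1 u₀).mp (Submodule.mem_span_singleton_self u₀)
  obtain ⟨k, hk⟩ := Submodule.mem_span_singleton.mp h2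
  rw [LinearEquiv.mul_apply, LinearEquiv.mul_apply, hc] at hk
  have h3 : k • (c • w) = g (c • w) := by
    have := congrArg h hk
    rw [apply_inv_apply', map_smul, hc] at this
    exact this
  rw [map_smul] at h3
  refine ⟨k, ?_⟩
  have h4 : c • (g w) = c • (k • w) := by rw [← h3, smul_comm]
  exact smul_right_injective V hc0 h4

/-- **Simplicity modulo the centre** of the group generated by the long root elements. -/
theorem isSimpleGroup_T (hQ : (QuadraticMap.polarBilin Q).Nondegenerate) (hdim : 5 ≤ finrank F V) :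
    IsSimpleGroup (↥(T Q) ⧸ Subgroup.center ↥(T Q)) := by
  obtain ⟨u₀, hu₀, hQu₀⟩ := exists_singular Q (by omega)
  obtain ⟨W, hW⟩ : ∃ W, W = Submodule.span F {u₀} := ⟨_, rfl⟩
  have hWfr : finrank F W = 1 := by rw [hW]; exact finrank_span_singleton hu₀
  have hW0 : W ≠ ⊥ := by
    intro h
    rw [h, finrank_bot] at hWfr
    omega
  have hWts : ∀ w ∈ W, Q w = 0 := by
    intro w hw
    rw [hW] at hw
    obtain ⟨a, rfl⟩ := Submodule.mem_span_singleton.mp hw
    rw [QuadraticMap.map_smul, hQu₀, smul_zero]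
  have hmaxT := maximal_stab_ts (⇑Q) (QuadraticMap.polarBilin Q) (hQs Q) (hQp Q) hQ (T Q) (T_le_oG Q)
    (fun u z hu huz => E_mem_T Q hQ hdim hu huz)
    (fun M hM => by
      rw [T, Subgroup.closure_le]
      rintro g ⟨u, s, hu, hs, hus, rfl⟩
      exact hM u s hu hus)
    (by omega) W hW0 hWts
    (hex_of_dim _ _ (hQs Q) (hQp Q) hQ W hWts (by omega))
  apply Cfsg.Agent.Lib.Helper14_SimpleAbs.isSimpleGroup_quotient_center_of_iwasawa
    ((stab W).subgroupOf (T Q)) ((A Q hQu₀).subgroupOf (T Q))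
  · exact commutator_T_eq_top Q hQ hdim
  · -- nontrivial
    obtain ⟨u', hu', huu'⟩ := exists_hyperbolic_partner Q hQ hu₀ hQu₀
    have hu'0 : u' ≠ 0 := by
      rintro rfl
      simp [QuadraticMap.polar] at huu'
    obtain ⟨g, hg, c, hc0, hc⟩ := exists_mem_T_map Q hQ hdim hu₀ hQu₀ hu'0 hu'
    refine ⟨⟨⟨g, hg⟩, 1, ?_⟩⟩
    intro h
    have hg1 : g = 1 := congrArg Subtype.val h
    rw [hg1] at hc
    have : u₀ = c • u' := hc
    rw [this, QuadraticMap.polar_smul_left, polar_self', hu'] at huu'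
    simp at huu'
  · -- maximality
    intro M hPM
    have hle : stab W ⊓ T Q ≤ M.map (T Q).subtype := by
      intro x hx
      exact ⟨⟨x, hx.2⟩, hPM (Subgroup.mem_subgroupOf.mpr hx.1), rfl⟩
    rcases hmaxT.2 (M.map (T Q).subtype) hle (Subgroup.map_subtype_le M) with h | h
    · left
      apply le_antisymm _ hPM
      intro m hm
      have : (m : V ≃ₗ[F] V) ∈ M.map (T Q).subtype := ⟨m, hm, rfl⟩
      rw [h] at this
      exact Subgroup.mem_subgroupOf.mpr this.1
    · right
      rw [eq_top_iff]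
      intro x _
      have : (x : V ≃ₗ[F] V) ∈ M.map (T Q).subtype := by rw [h]; exact x.2
      obtain ⟨m, hm, hmx⟩ := this
      have : m = x := Subtype.ext hmx
      rw [← this]; exact hm
  · -- commutative
    intro a ha b hb
    obtain ⟨z, hz, haz⟩ := Subgroup.mem_subgroupOf.mp ha
    obtain ⟨z', hz', hbz⟩ := Subgroup.mem_subgroupOf.mp hb
    apply Subtype.ext
    show (a : V ≃ₗ[F] V) * (b : V ≃ₗ[F] V) = (b : V ≃ₗ[F] V) * (a : V ≃ₗ[F] V)
    rw [haz, hbz, E_mul Q hQu₀ hz hz', E_mul Q hQu₀ hz' hz, add_comm]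
  · -- normalised by the stabiliser
    intro p hp a ha
    obtain ⟨z, hz, haz⟩ := Subgroup.mem_subgroupOf.mp ha
    have hpstab : (p : V ≃ₗ[F] V) ∈ stab W := Subgroup.mem_subgroupOf.mp hp
    have hpO : (p : V ≃ₗ[F] V) ∈ oG (⇑Q) := T_le_oG Q p.2
    have h1 : (p : V ≃ₗ[F] V) u₀ ∈ W :=
      (mem_stab.mp hpstab u₀).mp (hW ▸ Submodule.mem_span_singleton_self u₀)
    rw [hW] at h1
    obtain ⟨k, hk⟩ := Submodule.mem_span_singleton.mp h1
    have hk0 : k ≠ 0 := by
      rintro rfl
      rw [zero_smul] at hk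
      have := (p : V ≃ₗ[F] V).map_eq_zero_iff.mp hk.symm
      exact hu₀ this
    have hpz : QuadraticMap.polar (⇑Q) u₀ ((p : V ≃ₗ[F] V) z) = 0 := by
      have := oG_polar Q hpO u₀ z
      rw [hz, ← hk, QuadraticMap.polar_smul_left, smul_eq_mul] at this
      rcases mul_eq_zero.mp this with h | h
      · exact absurd h hk0
      · exact h
    rw [Subgroup.mem_subgroupOf]
    refine ⟨k • (p : V ≃ₗ[F] V) z, ?_, ?_⟩
    · rw [QuadraticMap.polar_smul_right, hpz, smul_zero]
    · show (p : V ≃ₗ[F] V) * (a : V ≃ₗ[F] V) * (p : V ≃ₗ[F] V)⁻¹ = _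
      rw [haz, conj_E Q hpO hQu₀ hz, ← hk, E_smul_left Q hQu₀ hpz]
  · -- conjugates generate
    rw [eq_top_iff]
    have hTle : T Q ≤ (Subgroup.normalClosure
        (((A Q hQu₀).subgroupOf (T Q) : Subgroup ↥(T Q)) : Set ↥(T Q))).map (T Q).subtype := by
      conv_lhs => rw [T]
      rw [Subgroup.closure_le]
      rintro _ ⟨u, s, hu, hs, hus, rfl⟩
      by_cases hu0 : u = 0
      · rw [hu0, E_zero_left]; exact Subgroup.one_mem _
      obtain ⟨g, hg, c, hc0, hc⟩ := exists_mem_T_map Q hQ hdim hu₀ hQu₀ hu0 hu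
      have hgO := T_le_oG Q hg
      obtain ⟨z, hzdef⟩ : ∃ z, z = g⁻¹ (c⁻¹ • s) := ⟨_, rfl⟩
      have hgz : g z = c⁻¹ • s := by rw [hzdef, apply_inv_apply']
      have hz : QuadraticMap.polar (⇑Q) u₀ z = 0 := by
        rw [← oG_polar Q hgO, hc, hgz, QuadraticMap.polar_smul_left, QuadraticMap.polar_smul_right,
          hus]
        simp
      have hus' : QuadraticMap.polar (⇑Q) u (c⁻¹ • s) = 0 := by
        rw [QuadraticMap.polar_smul_right, hus, smul_zero]
      have hconj : g * E Q u₀ z * g⁻¹ = E Q u s := by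
        rw [conj_E Q hgO hQu₀ hz, hc, hgz, E_smul_left Q hu hus', smul_smul, mul_inv_cancel₀ hc0,
          one_smul]
      have hzT : E Q u₀ z ∈ T Q := E_mem_T Q hQ hdim hQu₀ hz
      refine ⟨(⟨g, hg⟩ : ↥(T Q)) * ⟨E Q u₀ z, hzT⟩ * (⟨g, hg⟩ : ↥(T Q))⁻¹, ?_, hconj⟩
      apply Subgroup.Normal.conj_mem Subgroup.normalClosure_normal
      apply Subgroup.subset_normalClosure
      exact Subgroup.mem_subgroupOf.mpr ⟨z, hz, rfl⟩
    intro x _
    obtain ⟨n, hn, hnx⟩ := hTle x.2
    have : n = x := Subtype.ext hnx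
    rw [← this]; exact hn
  · -- the core of the stabiliser is central
    intro g hgcore
    have hgO := T_le_oG Q g.2
    have hfix := fix_of_core Q hQ hdim hu₀ hQu₀ (g := (g : V ≃ₗ[F] V)) (by
      intro h hh
      rw [← hW]
      exact Subgroup.mem_subgroupOf.mp (hgcore ⟨h, hh⟩))
    have hcent : T Q ≤ Subgroup.centralizer {(g : V ≃ₗ[F] V)} := by
      conv_lhs => rw [T]
      rw [Subgroup.closure_le]
      rintro _ ⟨u, s, hu, hs, hus, rfl⟩
      rw [SetLike.mem_coe, Subgroup.mem_centralizer_iff]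
      intro y hy
      rw [Set.mem_singleton_iff] at hy
      rw [hy]
      exact comm_root_of_fix Q hQ hdim hgO hfix hu hs hus
    rw [Subgroup.mem_center_iff]
    intro x
    have := Subgroup.mem_centralizer_iff.mp (hcent x.2) (g : V ≃ₗ[F] V) (Set.mem_singleton _)
    apply Subtype.ext
    exact this.symm

end finite

end Cfsg.Agent.Lib.Helper14_OmegaSimple
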