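import Mathlib
import Cfsg.Prelude.Def_GeometricClasses
import Cfsg.Agent.Lib.Helper94_Symp

set_option autoImplicit false

/-!
Bridge between subgroups of `GL ι F` (matrices acting by `mulVec`) and subgroups of
`(ι → F) ≃ₗ[F] (ι → F)`; the standard symplectic form as a `LinearMap.BilinForm`.
-/

namespace Cfsg.Agent.Lib.Helper94_Bridge

open Matrix Cfsg.Agent.Lib.Helper94_Symp

variable {ι : Type} [Fintype ι] [DecidableEq ι] {F : Type*} [Field F]

/-- `GL ι F` is the automorphism group of the space of column vectors. -/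
noncomputable def glEquiv (ι : Type) [Fintype ι] [DecidableEq ι] (F : Type*) [Field F] :
    GL ι F ≃* ((ι → F) ≃ₗ[F] (ι → F)) :=
  Matrix.GeneralLinearGroup.toLin.trans (LinearMap.GeneralLinearGroup.generalLinearEquiv F (ι → F))

@[simp] lemma glEquiv_apply (g : GL ι F) (v : ι → F) :
    glEquiv ι F g v = (g : Matrix ι ι F) *ᵥ v := by
  simp [glEquiv]

/-- Transport of maximality along a group isomorphism. -/
theorem isMaximalIn_comap {G G' : Type*} [Group G] [Group G'] (e : G ≃* G') (K' H' : Subgroup G')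
    (h : H' < K' ∧ ∀ M' : Subgroup G', H' ≤ M' → M' ≤ K' → M' = H' ∨ M' = K') :
    Cfsg.Geo.IsMaximalIn (K'.comap e.toMonoidHom) (H'.comap e.toMonoidHom) := by
  have hsurj : Function.Surjective e.toMonoidHom := e.surjective
  have hinj : Function.Injective e.toMonoidHom := e.injective
  refine ⟨(Subgroup.comap_lt_comap_of_surjective hsurj).mpr h.1, ?_⟩
  intro M hHM hMK
  have h1 : H' ≤ M.map e.toMonoidHom := by
    rw [← Subgroup.map_comap_eq_self_of_surjective hsurj H']
    exact Subgroup.map_mono hHM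
  have h2 : M.map e.toMonoidHom ≤ K' := by
    rw [← Subgroup.map_comap_eq_self_of_surjective hsurj K']
    exact Subgroup.map_mono hMK
  rcases h.2 _ h1 h2 with h3 | h3
  · left
    rw [← h3, Subgroup.comap_map_eq_self_of_injective hinj]
  · right
    rw [← h3, Subgroup.comap_map_eq_self_of_injective hinj]

/-- The subspace stabiliser of the prelude is the pullback of the abstract one. -/
lemma subspaceStabilizer_eq (W : Submodule F (ι → F)) :
    Cfsg.Geo.subspaceStabilizer W = (stab W).comap (glEquiv ι F).toMonoidHom := by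
  ext g
  simp only [Cfsg.Geo.subspaceStabilizer, Cfsg.stabilizing, Subgroup.mem_mk, Subgroup.mem_comap,
    mem_stab]
  simp

/-- The standard symplectic form as a bilinear form. -/
noncomputable def Bsymp (m : ℕ) (F : Type*) [Field F] : LinearMap.BilinForm F (Fin m ⊕ Fin m → F) :=
  Matrix.toBilin' (Matrix.J (Fin m) F)

lemma Bsymp_apply (m : ℕ) (u v : Fin m ⊕ Fin m → F) : Bsymp m F u v = Cfsg.sympForm m F u v := by
  simp [Bsymp, Cfsg.sympForm, Matrix.toBilin'_apply']

lemma Bsymp_isAlt (m : ℕ) : (Bsymp m F).IsAlt := by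
  intro u
  rw [Bsymp_apply, Cfsg.sympForm, Matrix.J, Matrix.fromBlocks_mulVec]
  simp only [dotProduct, Fintype.sum_sum_type, Sum.elim_inl, Sum.elim_inr]
  simp only [Pi.add_apply, Matrix.zero_mulVec, Matrix.neg_mulVec, Matrix.one_mulVec, Pi.zero_apply,
    Pi.neg_apply, Function.comp_apply, zero_add, add_zero, mul_neg, Finset.sum_neg_distrib]
  rw [neg_add_eq_zero]
  exact Finset.sum_congr rfl (fun i _ => mul_comm _ _)

lemma Bsymp_nondegenerate (m : ℕ) : (Bsymp m F).Nondegenerate := by
  apply LinearMap.BilinForm.nondegenerate_toBilin'_of_det_ne_zero'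
  intro h
  have := Matrix.J_det_mul_J_det (Fin m) F
  rw [h, mul_zero] at this
  exact zero_ne_one this

lemma spGL_eq (m : ℕ) :
    Cfsg.spGL m F = (isoGroup (Bsymp m F)).comap (glEquiv (Fin m ⊕ Fin m) F).toMonoidHom := by
  ext g
  simp only [Cfsg.spGL, Cfsg.preserving, Subgroup.mem_mk, Subgroup.mem_comap, mem_isoGroup]
  simp [Bsymp_apply]

end Cfsg.Agent.Lib.Helper94_Bridge
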