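import Mathlib
import Cfsg.Agent.Lib.Helper14_OmegaSimple
import Cfsg.Agent.Lib.Helper14_AutOmega
import Cfsg.Agent.Lib.Helper94_Bridge

/-!
# Definitions for the local balance argument at a graph involution of an orthogonal group (helper14)

* `TE Q`   : the group generated by ALL Eichler–Siegel transformations `E Q u z` (`Q u = 0`, `u ⊥ z`)
  of a quadratic space (abstract vector space);
* `resQ Q W` : the restriction of a quadratic form to a submodule;
* `extLin h` : extension of a linear automorphism of `W` by the identity on a complement `W'`;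
* `ofIso Q`  : an isometry of `ι → F` given as a linear equivalence, as an element of `GO Q`.
-/

set_option autoImplicit false

namespace Cfsg.Agent.Lib.Helper14_BalDefs

open Module Cfsg Cfsg.Agent.Lib.Helper94_OrthSmall Cfsg.Agent.Lib.Helper14_OmegaSimple
  Cfsg.Agent.Lib.Helper14_AutOmega Cfsg.Agent.Lib.Helper94_Bridge
  Cfsg.Agent.Lib.Helper44_Orth

section abstract

variable {F V : Type*} [Field F] [AddCommGroup V] [Module F V]

/-- The set of all Eichler–Siegel transformations. -/
def eichSet (Q : QuadraticForm F V) : Set (V ≃ₗ[F] V) :=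
  {g | ∃ u z : V, Q u = 0 ∧ QuadraticMap.polar (⇑Q) u z = 0 ∧ g = E Q u z}

/-- The group generated by all Eichler–Siegel transformations. -/
def TE (Q : QuadraticForm F V) : Subgroup (V ≃ₗ[F] V) := Subgroup.closure (eichSet Q)

theorem E_mem_TE (Q : QuadraticForm F V) {u z : V} (hu : Q u = 0)
    (huz : QuadraticMap.polar (⇑Q) u z = 0) : E Q u z ∈ TE Q :=
  Subgroup.subset_closure ⟨u, z, hu, huz, rfl⟩

theorem TE_le_oG (Q : QuadraticForm F V) : TE Q ≤ oG (⇑Q) := by
  rw [TE, Subgroup.closure_le]
  rintro g ⟨u, z, hu, huz, rfl⟩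
  exact E_mem_oG Q hu huz

/-- The restriction of a quadratic form to a submodule. -/
def resQ (Q : QuadraticForm F V) (W : Submodule F V) : QuadraticForm F ↥W := Q.comp W.subtype

@[simp] theorem resQ_apply (Q : QuadraticForm F V) (W : Submodule F V) (w : ↥W) :
    resQ Q W w = Q (w : V) := rfl

theorem polar_resQ (Q : QuadraticForm F V) (W : Submodule F V) (w w' : ↥W) :
    QuadraticMap.polar (⇑(resQ Q W)) w w' = QuadraticMap.polar (⇑Q) (w : V) (w' : V) := by
  simp only [QuadraticMap.polar, resQ_apply, Submodule.coe_add]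

/-- Extension of a linear automorphism of `W` by the identity on a complement `W'`. -/
noncomputable def extLin {W W' : Submodule F V} (h : IsCompl W W') :
    (↥W ≃ₗ[F] ↥W) →* (V ≃ₗ[F] V) where
  toFun t := (Submodule.prodEquivOfIsCompl W W' h).symm.trans
    ((t.prodCongr (LinearEquiv.refl F ↥W')).trans (Submodule.prodEquivOfIsCompl W W' h))
  map_one' := by
    ext x
    obtain ⟨p, rfl⟩ := (Submodule.prodEquivOfIsCompl W W' h).surjective x
    simp only [LinearEquiv.trans_apply, LinearEquiv.symm_apply_apply, LinearEquiv.prodCongr_apply,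
      LinearEquiv.refl_apply, LinearEquiv.coe_one, id_eq]
  map_mul' t s := by
    ext x
    obtain ⟨p, rfl⟩ := (Submodule.prodEquivOfIsCompl W W' h).surjective x
    simp only [LinearEquiv.trans_apply, LinearEquiv.symm_apply_apply, LinearEquiv.prodCongr_apply,
      LinearEquiv.refl_apply, LinearEquiv.mul_apply]

theorem extLin_apply_add {W W' : Submodule F V} (h : IsCompl W W') (t : ↥W ≃ₗ[F] ↥W) (w : ↥W)
    (w' : ↥W') : extLin h t ((w : V) + (w' : V)) = (t w : V) + (w' : V) := by
  have h1 : (w : V) + (w' : V) = Submodule.prodEquivOfIsCompl W W' h (w, w') := by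
    rw [Submodule.coe_prodEquivOfIsCompl']
  rw [h1]
  show (Submodule.prodEquivOfIsCompl W W' h) ((t.prodCongr (LinearEquiv.refl F ↥W'))
    ((Submodule.prodEquivOfIsCompl W W' h).symm (Submodule.prodEquivOfIsCompl W W' h (w, w')))) = _
  rw [LinearEquiv.symm_apply_apply, LinearEquiv.prodCongr_apply, Submodule.coe_prodEquivOfIsCompl']
  rfl

theorem extLin_apply_left {W W' : Submodule F V} (h : IsCompl W W') (t : ↥W ≃ₗ[F] ↥W) (w : ↥W) :
    extLin h t (w : V) = (t w : V) := by
  have := extLin_apply_add h t w 0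
  simpa using this

theorem extLin_apply_right {W W' : Submodule F V} (h : IsCompl W W') (t : ↥W ≃ₗ[F] ↥W)
    (w' : ↥W') : extLin h t (w' : V) = (w' : V) := by
  have := extLin_apply_add h t 0 w'
  simpa using this

theorem extLin_injective {W W' : Submodule F V} (h : IsCompl W W') :
    Function.Injective (extLin (F := F) h) := by
  intro t s hts
  ext w
  have := congrArg (fun f : V ≃ₗ[F] V => f (w : V)) hts
  simp only [extLin_apply_left] at this
  exact this

end abstract

section matrix

variable {ι : Type} [Fintype ι] [DecidableEq ι] {F : Type*} [Field F]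

/-- An isometry of `ι → F`, given as a linear equivalence, as an element of `GO`. -/
noncomputable def ofIso (Q : QuadraticForm F (ι → F)) : ↥(oG (⇑Q)) →* ↥(GO (⇑Q)) where
  toFun t := ⟨(glEquiv ι F).symm t.1, by
    refine ⟨1, fun v => ?_⟩
    rw [← glEquiv_apply, MulEquiv.apply_symm_apply, t.2 v, Units.val_one, one_mul]⟩
  map_one' := by
    apply Subtype.ext
    show (glEquiv ι F).symm ((1 : ↥(oG (⇑Q))) : (ι → F) ≃ₗ[F] (ι → F)) = 1
    rw [Subgroup.coe_one, map_one]
  map_mul' t s := by
    apply Subtype.ext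
    show (glEquiv ι F).symm ((t * s : ↥(oG (⇑Q))) : (ι → F) ≃ₗ[F] (ι → F)) = _
    rw [Subgroup.coe_mul, map_mul]
    rfl

theorem ofIso_mulVec (Q : QuadraticForm F (ι → F)) (t : ↥(oG (⇑Q))) (v : ι → F) :
    (((ofIso Q t : ↥(GO (⇑Q))) : GL ι F) : Matrix ι ι F).mulVec v = t.1 v := by
  show (((glEquiv ι F).symm t.1 : GL ι F) : Matrix ι ι F).mulVec v = t.1 v
  rw [← glEquiv_apply, MulEquiv.apply_symm_apply]

theorem ofIso_injective (Q : QuadraticForm F (ι → F)) : Function.Injective (ofIso Q) := by
  intro t s hts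
  apply Subtype.ext
  have h1 := congrArg (fun g : ↥(GO (⇑Q)) => (g : GL ι F)) hts
  exact (glEquiv ι F).symm.injective h1

theorem ofIso_mem_isometryGroup (Q : QuadraticForm F (ι → F)) (t : ↥(oG (⇑Q))) :
    ((ofIso Q t : ↥(GO (⇑Q))) : GL ι F) ∈ isometryGroup F (⇑Q) := by
  rw [mem_isometryGroup_iff]
  intro v
  rw [ofIso_mulVec, t.2 v]

end matrix

end Cfsg.Agent.Lib.Helper14_BalDefs
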