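import Mathlib
import Cfsg.Agent.Lib.Helper14_BalDefs

/-!
# BAL-A1 (helper10, for helper14 / S2733)

In dimension one there are no Eichler–Siegel transformations: `TE Q = ⊥`.
-/

set_option autoImplicit false

namespace Cfsg.Agent.Lib.Helper10_Bal_A1

open Module Cfsg Cfsg.Agent.Lib.Helper94_OrthSmall Cfsg.Agent.Lib.Helper14_OmegaSimple
  Cfsg.Agent.Lib.Helper14_BalDefs

variable {F V : Type*} [Field F] [AddCommGroup V] [Module F V]

/-- In a one-dimensional quadratic space with non-degenerate polar form (`2 ≠ 0`), a singular vector is `0`. -/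
theorem singular_eq_zero (Q : QuadraticForm F V)
    (hQ : (QuadraticMap.polarBilin Q).Nondegenerate) (hdim : finrank F V = 1) {u : V}
    (hu : Q u = 0) : u = 0 := by
  by_contra hu0
  apply hu0
  apply hQ.1 u
  intro w
  obtain ⟨a, rfl⟩ := (finrank_eq_one_iff_of_nonzero' u hu0).mp hdim w
  rw [QuadraticMap.polarBilin_apply_apply, QuadraticMap.polar_smul_right,
    QuadraticMap.polar_self, hu, smul_zero, smul_zero]

/-- BAL-A1: in dimension one there are no Eichler–Siegel transformations. -/
theorem A1 (_h2 : (2 : F) ≠ 0) (Q : QuadraticForm F V)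
    (hQ : (QuadraticMap.polarBilin Q).Nondegenerate) (hdim : finrank F V = 1) : TE Q = ⊥ := by
  rw [eq_bot_iff, TE, Subgroup.closure_le]
  rintro g ⟨u, z, hu, -, rfl⟩
  rw [singular_eq_zero Q hQ hdim hu, E_zero_left]
  exact Subgroup.one_mem _

end Cfsg.Agent.Lib.Helper10_Bal_A1
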