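import Mathlib
import Cfsg.Prelude.Def_Classical

set_option autoImplicit false

/-!
The standard quadratic forms `quadFormPlus`, `quadFormMinus`, `quadFormOdd` as bundled quadratic forms,
their polar forms and Gram determinants (helper44).
-/

namespace Cfsg.Agent.Lib.Helper44_StdForms

open Matrix

variable (m : ℕ) (F : Type*) [Field F]

/-- `quadFormPlus` as a bundled quadratic form. -/
def qfPlus : QuadraticForm F (Fin m ⊕ Fin m → F) :=
  ∑ i : Fin m, QuadraticMap.proj (Sum.inl i) (Sum.inr i)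

theorem coe_qfPlus : ⇑(qfPlus m F) = Cfsg.quadFormPlus m F := by
  funext v
  simp [qfPlus, Cfsg.quadFormPlus]

/-- `quadFormMinus` as a bundled quadratic form. -/
def qfMinus (a b : F) : QuadraticForm F ((Fin m ⊕ Fin m) ⊕ Fin 2 → F) :=
  (∑ i : Fin m, QuadraticMap.proj (Sum.inl (Sum.inl i)) (Sum.inl (Sum.inr i)))
    + (QuadraticMap.proj (Sum.inr 0) (Sum.inr 0) + a • QuadraticMap.proj (Sum.inr 0) (Sum.inr 1)
        + b • QuadraticMap.proj (Sum.inr 1) (Sum.inr 1))

theorem coe_qfMinus (a b : F) : ⇑(qfMinus m F a b) = Cfsg.quadFormMinus m F a b := by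
  funext v
  simp [qfMinus, Cfsg.quadFormMinus]
  ring

/-- `quadFormOdd` as a bundled quadratic form. -/
def qfOdd : QuadraticForm F (Unit ⊕ (Fin m ⊕ Fin m) → F) :=
  QuadraticMap.proj (Sum.inl ()) (Sum.inl ())
    + ∑ i : Fin m, QuadraticMap.proj (Sum.inr (Sum.inl i)) (Sum.inr (Sum.inr i))

theorem coe_qfOdd : ⇑(qfOdd m F) = Cfsg.quadFormOdd m F := by
  funext v
  simp [qfOdd, Cfsg.quadFormOdd]
  ring

variable {m F}

theorem polar_proj {n : Type*} (i j : n) (x y : n → F) :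
    QuadraticMap.polar (⇑(QuadraticMap.proj (R := F) (A := F) i j)) x y = x i * y j + y i * x j := by
  simp [QuadraticMap.polar]; ring

theorem polar_quadFormPlus (x y : Fin m ⊕ Fin m → F) :
    QuadraticMap.polar (Cfsg.quadFormPlus m F) x y
      = ∑ i : Fin m, (x (Sum.inl i) * y (Sum.inr i) + y (Sum.inl i) * x (Sum.inr i)) := by
  simp only [QuadraticMap.polar, Cfsg.quadFormPlus, Pi.add_apply]
  rw [← Finset.sum_sub_distrib, ← Finset.sum_sub_distrib]
  apply Finset.sum_congr rfl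
  intro i _; ring

theorem polar_quadFormMinus (a b : F) (x y : (Fin m ⊕ Fin m) ⊕ Fin 2 → F) :
    QuadraticMap.polar (Cfsg.quadFormMinus m F a b) x y
      = (∑ i : Fin m, (x (Sum.inl (Sum.inl i)) * y (Sum.inl (Sum.inr i))
            + y (Sum.inl (Sum.inl i)) * x (Sum.inl (Sum.inr i))))
        + (2 * x (Sum.inr 0) * y (Sum.inr 0)
            + a * (x (Sum.inr 0) * y (Sum.inr 1) + y (Sum.inr 0) * x (Sum.inr 1))
            + 2 * b * x (Sum.inr 1) * y (Sum.inr 1)) := by
  simp only [QuadraticMap.polar, Cfsg.quadFormMinus, Pi.add_apply]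
  have : ∀ (s₁ s₂ s₃ t₁ t₂ t₃ : F), (s₁ + t₁) - (s₂ + t₂) - (s₃ + t₃) = (s₁ - s₂ - s₃) + (t₁ - t₂ - t₃) := by
    intros; ring
  rw [this, ← Finset.sum_sub_distrib, ← Finset.sum_sub_distrib]
  congr 1
  · apply Finset.sum_congr rfl
    intro i _; ring
  · ring

theorem polar_quadFormOdd (x y : Unit ⊕ (Fin m ⊕ Fin m) → F) :
    QuadraticMap.polar (Cfsg.quadFormOdd m F) x y
      = 2 * x (Sum.inl ()) * y (Sum.inl ())
        + ∑ i : Fin m, (x (Sum.inr (Sum.inl i)) * y (Sum.inr (Sum.inr i))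
            + y (Sum.inr (Sum.inl i)) * x (Sum.inr (Sum.inr i))) := by
  simp only [QuadraticMap.polar, Cfsg.quadFormOdd, Pi.add_apply]
  have : ∀ (s₁ s₂ s₃ t₁ t₂ t₃ : F), (s₁ + t₁) - (s₂ + t₂) - (s₃ + t₃) = (s₁ - s₂ - s₃) + (t₁ - t₂ - t₃) := by
    intros; ring
  rw [this, ← Finset.sum_sub_distrib, ← Finset.sum_sub_distrib]
  congr 1
  · ring
  · apply Finset.sum_congr rfl
    intro i _; ring

/-! ### Gram matrices in the standard basis -/

theorem det_antidiag (m : ℕ) (F : Type*) [Field F] :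
    (Matrix.fromBlocks (0 : Matrix (Fin m) (Fin m) F) (1 : Matrix (Fin m) (Fin m) F)
      (1 : Matrix (Fin m) (Fin m) F) (0 : Matrix (Fin m) (Fin m) F)).det = (-1) ^ m := by
  have h1 : Matrix.fromBlocks (0 : Matrix (Fin m) (Fin m) F) (1 : Matrix (Fin m) (Fin m) F)
        (1 : Matrix (Fin m) (Fin m) F) (0 : Matrix (Fin m) (Fin m) F)
      * Matrix.fromBlocks (1 : Matrix (Fin m) (Fin m) F) (0 : Matrix (Fin m) (Fin m) F)
        (1 : Matrix (Fin m) (Fin m) F) (1 : Matrix (Fin m) (Fin m) F)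
      = Matrix.fromBlocks (1 : Matrix (Fin m) (Fin m) F) (1 : Matrix (Fin m) (Fin m) F)
        (1 : Matrix (Fin m) (Fin m) F) (0 : Matrix (Fin m) (Fin m) F) := by
    rw [Matrix.fromBlocks_multiply]; simp
  have h2 := congrArg Matrix.det h1
  rw [Matrix.det_mul, Matrix.det_fromBlocks_zero₁₂, Matrix.det_fromBlocks_one₁₁] at h2
  simp only [Matrix.det_one, mul_one, zero_sub] at h2
  rw [h2, Matrix.det_neg, Matrix.det_one, Fintype.card_fin, mul_one]

theorem gram_quadFormPlus :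
    Matrix.of (fun i j : Fin m ⊕ Fin m =>
      QuadraticMap.polar (Cfsg.quadFormPlus m F) (Pi.single i 1) (Pi.single j 1))
      = Matrix.fromBlocks (0 : Matrix (Fin m) (Fin m) F) 1 1 0 := by
  ext i j
  rcases i with i | i <;> rcases j with j | j <;>
    simp [polar_quadFormPlus, Pi.single_apply, Matrix.one_apply, eq_comm]

theorem det_gram_quadFormPlus :
    (Matrix.of (fun i j : Fin m ⊕ Fin m =>
      QuadraticMap.polar (Cfsg.quadFormPlus m F) (Pi.single i 1) (Pi.single j 1))).det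
      = (-1) ^ m := by
  rw [gram_quadFormPlus, det_antidiag]

theorem gram_quadFormMinus (a b : F) :
    Matrix.of (fun i j : (Fin m ⊕ Fin m) ⊕ Fin 2 =>
      QuadraticMap.polar (Cfsg.quadFormMinus m F a b) (Pi.single i 1) (Pi.single j 1))
      = Matrix.fromBlocks (Matrix.fromBlocks (0 : Matrix (Fin m) (Fin m) F) 1 1 0) 0 0
          (Matrix.of ![![2, a], ![a, 2 * b]]) := by
  ext i j
  rcases i with (i | i) | i <;> rcases j with (j | j) | j <;>
    simp [polar_quadFormMinus, Pi.single_apply, Matrix.one_apply, eq_comm]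
  all_goals (fin_cases i <;> fin_cases j <;> simp)

theorem det_gram_quadFormMinus (a b : F) :
    (Matrix.of (fun i j : (Fin m ⊕ Fin m) ⊕ Fin 2 =>
      QuadraticMap.polar (Cfsg.quadFormMinus m F a b) (Pi.single i 1) (Pi.single j 1))).det
      = (-1) ^ m * (4 * b - a ^ 2) := by
  rw [gram_quadFormMinus, Matrix.det_fromBlocks_zero₂₁, det_antidiag, Matrix.det_fin_two_of]
  ring

theorem gram_quadFormOdd :
    Matrix.of (fun i j : Unit ⊕ (Fin m ⊕ Fin m) =>
      QuadraticMap.polar (Cfsg.quadFormOdd m F) (Pi.single i 1) (Pi.single j 1))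
      = Matrix.fromBlocks (Matrix.of (fun _ _ : Unit => (2 : F))) 0 0
          (Matrix.fromBlocks (0 : Matrix (Fin m) (Fin m) F) 1 1 0) := by
  ext i j
  rcases i with i | (i | i) <;> rcases j with j | (j | j) <;>
    simp [polar_quadFormOdd, Pi.single_apply, Matrix.one_apply, eq_comm]

theorem det_gram_quadFormOdd :
    (Matrix.of (fun i j : Unit ⊕ (Fin m ⊕ Fin m) =>
      QuadraticMap.polar (Cfsg.quadFormOdd m F) (Pi.single i 1) (Pi.single j 1))).det
      = 2 * (-1) ^ m := by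
  rw [gram_quadFormOdd, Matrix.det_fromBlocks_zero₂₁, det_antidiag]
  simp

end Cfsg.Agent.Lib.Helper44_StdForms
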