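import Mathlib
import Cfsg.Prelude.Def_GeometricClasses
import Cfsg.Agent.Lib.Helper94_Bridge
import Cfsg.Agent.Lib.Helper94_OrthSmall

set_option autoImplicit false

/-!
Bridge between the prelude's `isometryGroup`, `omegaGL` (subgroups of `GL ι F`) and the abstract
`oG Q`, `⁅oG Q, oG Q⁆` of `Helper94_OrthSmall`; the plane-stabiliser non-maximality over fields with
at most three elements in prelude vocabulary.
-/

namespace Cfsg.Agent.Lib.Helper94_OrthBridge

open Matrix Module Cfsg.Agent.Lib.Helper94_Symp Cfsg.Agent.Lib.Helper94_Bridge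
  Cfsg.Agent.Lib.Helper94_OrthSmall

variable {ι : Type} [Fintype ι] [DecidableEq ι] {F : Type*} [Field F]

/-- The prelude's isometry group is the pullback of the abstract one. -/
lemma isometryGroup_eq (Q : (ι → F) → F) :
    Cfsg.isometryGroup F Q = (oG Q).comap (glEquiv ι F).toMonoidHom := by
  ext g
  simp only [Cfsg.isometryGroup, Cfsg.preserving, Subgroup.mem_mk, Subgroup.mem_comap, mem_oG]
  constructor
  · intro h v
    have := h v v
    simpa using this
  · intro h u _
    have := h u
    simpa using this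

/-- Commutator subgroups pull back along isomorphisms. -/
lemma comap_commutator_equiv {G G' : Type*} [Group G] [Group G'] (e : G ≃* G')
    (H : Subgroup G') :
    (⁅H, H⁆).comap e.toMonoidHom = ⁅H.comap e.toMonoidHom, H.comap e.toMonoidHom⁆ := by
  rw [Subgroup.comap_equiv_eq_map_symm', Subgroup.comap_equiv_eq_map_symm',
    Subgroup.map_commutator]

/-- The prelude's `omegaGL` is the pullback of the abstract derived subgroup. -/
lemma omegaGL_eq (Q : (ι → F) → F) :
    Cfsg.Geo.omegaGL Q = (⁅oG Q, oG Q⁆).comap (glEquiv ι F).toMonoidHom := by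
  unfold Cfsg.Geo.omegaGL Cfsg.Omega
  rw [Subgroup.map_subtype_commutator, comap_commutator_equiv, isometryGroup_eq]

/-- Transfer of an intermediate subgroup. -/
theorem not_maximal_transfer (Q : (ι → F) → F) (W : Submodule F (ι → F))
    (h : ∃ K : Subgroup ((ι → F) ≃ₗ[F] (ι → F)),
      stab W ⊓ ⁅oG Q, oG Q⁆ < K ∧ K < ⁅oG Q, oG Q⁆) :
    ∃ K : Subgroup (GL ι F),
      Cfsg.Geo.subspaceStabilizer W ⊓ Cfsg.Geo.omegaGL Q < K ∧ K < Cfsg.Geo.omegaGL Q := by
  obtain ⟨K, h1, h2⟩ := h
  have hsurj : Function.Surjective (glEquiv ι F).toMonoidHom := (glEquiv ι F).surjective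
  refine ⟨K.comap (glEquiv ι F).toMonoidHom, ?_, ?_⟩
  · rw [subspaceStabilizer_eq, omegaGL_eq, ← Subgroup.comap_inf]
    exact (Subgroup.comap_lt_comap_of_surjective hsurj).mpr h1
  · rw [omegaGL_eq]
    exact (Subgroup.comap_lt_comap_of_surjective hsurj).mpr h2

/-- A field with at most three elements consists of `0`, `1`, `-1`. -/
lemma small_field [Fintype F] (hq : Fintype.card F ≤ 3) (c : F) : c = 0 ∨ c = 1 ∨ c = -1 := by
  by_cases hc : c = 0
  · exact Or.inl hc
  right
  have h1 := FiniteField.pow_card_sub_one_eq_one c hc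
  have h2 : 1 < Fintype.card F := Fintype.one_lt_card
  have h3 : Fintype.card F = 2 ∨ Fintype.card F = 3 := by omega
  rcases h3 with h3 | h3
  · rw [h3] at h1
    left
    simpa using h1
  · rw [h3] at h1
    have h4 : (c - 1) * (c + 1) = 0 := by
      have : c ^ 2 = 1 := by simpa using h1
      linear_combination this
    rcases mul_eq_zero.mp h4 with h5 | h5
    · left; exact sub_eq_zero.mp h5
    · right; exact eq_neg_of_add_eq_zero_left h5

/-- The polar form of a prelude quadratic form, as a bilinear form. -/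
noncomputable def polarForm (Q : (ι → F) → F) (hQ : Cfsg.Geo.IsNondegenerateQuadraticForm Q) :
    LinearMap.BilinForm F (ι → F) :=
  LinearMap.mk₂ F (QuadraticMap.polar Q) hQ.polar_bilinear.add_left
    (fun c x v => by rw [hQ.polar_bilinear.smul_left]; rfl) hQ.polar_bilinear.add_right
    (fun c v x => by rw [hQ.polar_bilinear.smul_right]; rfl)

lemma polarForm_apply (Q : (ι → F) → F) (hQ : Cfsg.Geo.IsNondegenerateQuadraticForm Q)
    (u v : ι → F) : polarForm Q hQ u v = QuadraticMap.polar Q u v := rfl

/-- Over a field with at most three elements and in dimension at least `13`, the stabiliser in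
`Ω(Q)` of a hyperbolic plane is not maximal. -/
theorem plane_not_maximal [Fintype F] (Q : (ι → F) → F)
    (hQ : Cfsg.Geo.IsNondegenerateQuadraticForm Q) (hq : Fintype.card F ≤ 3)
    (hn : 13 ≤ Fintype.card ι) (W : Submodule F (ι → F)) (hdim : Module.finrank F W = 2)
    (hW : Cfsg.Geo.IsNondegenerateOn (QuadraticMap.polar Q) W)
    (hWp : Cfsg.Geo.IsPlusTypeOn Q W) :
    ∃ K : Subgroup (GL ι F),
      Cfsg.Geo.subspaceStabilizer W ⊓ Cfsg.Geo.omegaGL Q < K ∧ K < Cfsg.Geo.omegaGL Q := by
  apply not_maximal_transfer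
  obtain ⟨U, hUW, hUs, hU2⟩ := hWp
  have hU1 : 0 < Module.finrank F U := by omega
  have : Nontrivial U := Module.finrank_pos_iff.mp hU1
  obtain ⟨e, he⟩ := exists_ne (0 : U)
  have hQs : ∀ (c : F) (v : ι → F), Q (c • v) = c * c * Q v := by
    intro c v
    rw [hQ.smul, sq]
  have hQp : ∀ u v : ι → F, Q (u + v) = Q u + Q v + polarForm Q hQ u v := by
    intro u v
    rw [polarForm_apply, QuadraticMap.polar]
    ring
  have hN : (polarForm Q hQ).Nondegenerate := by
    constructor
    · intro x hx
      by_contra hx0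
      obtain ⟨y, hy⟩ := (hQ.nondegenerate x hx0).2
      exact hy (hx y)
    · intro y hy
      by_contra hy0
      obtain ⟨x, hx⟩ := (hQ.nondegenerate y hy0).1
      exact hx (hy x)
  exact not_maximal_plane Q (polarForm Q hQ) hQs hQp hN (small_field hq)
    (by rw [Module.finrank_pi]; exact hn) W hdim
    (fun w hw hw0 => (hW w hw hw0).1) (e := (e : ι → F)) (hUW e.2)
    (fun h => he (Subtype.ext h)) (hUs _ e.2)

end Cfsg.Agent.Lib.Helper94_OrthBridge
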