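import Mathlib
import Cfsg.Agent.Lib.Helper14_OmegaSimple
import Cfsg.Agent.Lib.Helper94_Bridge
import Cfsg.Agent.Lib.Helper94_OrthBridge
import Cfsg.Agent.Lib.Helper44_StdForms

set_option autoImplicit false

/-!
Simplicity of `PΩ(Q)` for a quadratic form `Q` on `ι → F` with non-degenerate polar form over a finite field,
in dimension at least five (helper14).  Bridge from the abstract statement `Helper14_OmegaSimple.isSimpleGroup_T`.
-/

namespace Cfsg.Agent.Lib.Helper14_POmegaSimple

open Matrix Module Cfsg.Agent.Lib.Helper94_Symp Cfsg.Agent.Lib.Helper94_Bridge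
  Cfsg.Agent.Lib.Helper94_OrthSmall Cfsg.Agent.Lib.Helper94_OrthBridge
  Cfsg.Agent.Lib.Helper14_Siegel Cfsg.Agent.Lib.Helper14_OmegaSimple
  Cfsg.Agent.Lib.Helper14_SiegelOmega2

variable {ι : Type} [Fintype ι] [DecidableEq ι] {F : Type*} [Field F]

/-- The embedding of the isometry group into the linear automorphisms of `ι → F`. -/
noncomputable def phi (Q : QuadraticForm F (ι → F)) :
    ↥(Cfsg.isometryGroup F (⇑Q)) →* ((ι → F) ≃ₗ[F] (ι → F)) :=
  (glEquiv ι F).toMonoidHom.comp (Cfsg.isometryGroup F (⇑Q)).subtype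

theorem phi_injective (Q : QuadraticForm F (ι → F)) : Function.Injective (phi Q) := by
  intro a b h
  apply Subtype.ext
  exact (glEquiv ι F).injective h

theorem phi_siegel (Q : QuadraticForm F (ι → F)) (u v : ι → F) (c : F) (hu : Q u = 0) (hv : Q v = 0)
    (huv : QuadraticMap.polar (⇑Q) u v = 0) :
    phi Q (siegel Q u v c hu hv huv) = E Q u (c • v) := by
  have huv' : QuadraticMap.polar (⇑Q) u (c • v) = 0 := by
    rw [QuadraticMap.polar_smul_right, huv, smul_zero]
  ext x : 1
  rw [E_apply Q hu huv']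
  simp only [phi, MonoidHom.coe_comp, Function.comp_apply, Subgroup.coe_subtype,
    MulEquiv.coe_toMonoidHom]
  rw [glEquiv_apply, siegel_coe, siegelMatrix_mulVec, QuadraticMap.map_smul, hv]
  simp only [QuadraticMap.polar_smul_right, smul_eq_mul]
  rw [QuadraticMap.polar_comm (⇑Q) x u, QuadraticMap.polar_comm (⇑Q) x v]
  module

theorem map_siegelGroup (Q : QuadraticForm F (ι → F)) :
    (siegelGroup Q).map (phi Q) = T Q := by
  apply le_antisymm
  · rw [siegelGroup, MonoidHom.map_closure, Subgroup.closure_le]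
    rintro _ ⟨g, ⟨u, v, c, hu, hv, huv, hg⟩, rfl⟩
    have hgs : g = siegel Q u v c hu hv huv := Subtype.ext (Units.ext hg)
    rw [SetLike.mem_coe, hgs, phi_siegel]
    apply root_mem_T Q hu
    · rw [QuadraticMap.map_smul, hv, smul_zero]
    · rw [QuadraticMap.polar_smul_right, huv, smul_zero]
  · conv_lhs => rw [T]
    rw [Subgroup.closure_le]
    rintro _ ⟨u, s, hu, hs, hus, rfl⟩
    refine ⟨siegel Q u s 1 hu hs hus, siegel_mem Q u s 1 hu hs hus, ?_⟩
    rw [phi_siegel, one_smul]

variable [Fintype F]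

/-- **`PΩ(Q)` is simple** for `Q` with non-degenerate polar form over a finite field, in dimension at least
five. -/
theorem isSimpleGroup_POmega (Q : QuadraticForm F (ι → F))
    (hQ : (QuadraticMap.polarBilin Q).Nondegenerate) (hn : 5 ≤ Fintype.card ι) :
    IsSimpleGroup (Cfsg.POmega F (⇑Q)) := by
  have hdim : 5 ≤ finrank F (ι → F) := by
    rw [Module.finrank_fintype_fun_eq_card]; exact hn
  have hmap : (Cfsg.Omega F (⇑Q)).map (phi Q) = T Q := by
    rw [omega_eq_siegelGroup Q hQ hn, map_siegelGroup]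
  have e : ↥(Cfsg.Omega F (⇑Q)) ≃* ↥(T Q) :=
    ((Cfsg.Omega F (⇑Q)).equivMapOfInjective (phi Q) (phi_injective Q)).trans
      (MulEquiv.subgroupCongr hmap)
  exact Cfsg.Agent.Lib.Helper14_SimpleAbs.isSimpleGroup_quotient_center_congr e.symm
    (isSimpleGroup_T Q hQ hdim)

section stdforms

open Cfsg.Agent.Lib.Helper44_StdForms

omit [Fintype F] in
/-- Non-degeneracy from a non-zero Gram determinant in the standard basis. -/
theorem nondeg_of_gram_det (Q : QuadraticForm F (ι → F))
    (h : (Matrix.of (fun i j : ι => QuadraticMap.polar (⇑Q) (Pi.single i 1) (Pi.single j 1))).det ≠ 0) :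
    (QuadraticMap.polarBilin Q).Nondegenerate := by
  apply LinearMap.BilinForm.nondegenerate_of_det_ne_zero (QuadraticMap.polarBilin Q) (Pi.basisFun F ι)
  convert h using 2
  ext i j
  simp [LinearMap.BilinForm.toMatrix_apply]

omit [Fintype F] in
theorem nondegenerate_qfPlus (m : ℕ) : (QuadraticMap.polarBilin (qfPlus m F)).Nondegenerate := by
  apply nondeg_of_gram_det
  rw [coe_qfPlus, det_gram_quadFormPlus]
  exact pow_ne_zero _ (by simp)

omit [Fintype F] in
theorem nondegenerate_qfOdd (h2 : (2 : F) ≠ 0) (m : ℕ) :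
    (QuadraticMap.polarBilin (qfOdd m F)).Nondegenerate := by
  apply nondeg_of_gram_det
  rw [coe_qfOdd, det_gram_quadFormOdd]
  exact mul_ne_zero h2 (pow_ne_zero _ (by simp))

/-- The discriminant of an anisotropic binary form over a finite field does not vanish (every
characteristic). -/
theorem disc_ne_zero (a b : F)
    (hab : ∀ z₁ z₂ : F, z₁ ^ 2 + a * z₁ * z₂ + b * z₂ ^ 2 = 0 → z₁ = 0 ∧ z₂ = 0) :
    4 * b - a ^ 2 ≠ 0 := by
  intro h0
  by_cases h2 : (2 : F) = 0
  · have h4 : (4 : F) = 0 := by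
      have : (4 : F) = 2 * 2 := by norm_num
      rw [this, h2, mul_zero]
    have ha : a = 0 := by
      rw [h4, zero_mul, zero_sub, neg_eq_zero] at h0
      exact pow_eq_zero_iff (two_ne_zero) |>.mp h0
    have hc : CharP F 2 := CharTwo.of_one_ne_zero_of_two_eq_zero one_ne_zero h2
    have hr : ringChar F = 2 := ringChar.eq F 2
    obtain ⟨r, hr⟩ := FiniteField.isSquare_of_char_two hr b
    have := hab r 1 (by rw [ha, hr]; linear_combination r * r * h2)
    exact one_ne_zero this.2
  · have := hab (-a) 2 (by linear_combination h0)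
    exact h2 this.2

theorem nondegenerate_qfMinus (m : ℕ) (a b : F)
    (hab : ∀ z₁ z₂ : F, z₁ ^ 2 + a * z₁ * z₂ + b * z₂ ^ 2 = 0 → z₁ = 0 ∧ z₂ = 0) :
    (QuadraticMap.polarBilin (qfMinus m F a b)).Nondegenerate := by
  apply nondeg_of_gram_det
  rw [coe_qfMinus, det_gram_quadFormMinus]
  exact mul_ne_zero (pow_ne_zero _ (by simp)) (disc_ne_zero a b hab)

end stdforms

end Cfsg.Agent.Lib.Helper14_POmegaSimple
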