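import Mathlib
import Cfsg.Agent.Lib.Helper14_OmegaSimple
import Cfsg.Agent.Lib.Helper14_POmegaSimple
import Cfsg.Agent.Lib.Helper14_AutOmega

set_option autoImplicit false

/-!
The centraliser of the long root elements is the group of scalars, and the kernel of
`Phi : GO(Q) →* Aut(PΩ(Q))` is the group of scalar matrices (helper14).
-/

namespace Cfsg.Agent.Lib.Helper14_CentOmega

open Module Cfsg.Agent.Lib.Helper94_Symp Cfsg.Agent.Lib.Helper94_OrthSmall
  Cfsg.Agent.Lib.Helper94_OrthSiegel Cfsg.Agent.Lib.Helper94_OrthPara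
  Cfsg.Agent.Lib.Helper44_QuadClass Cfsg.Agent.Lib.Helper14_Siegel
  Cfsg.Agent.Lib.Helper14_SiegelOmega2 Cfsg.Agent.Lib.Helper14_OmegaSimple

section abstract

variable {F V : Type*} [Field F] [AddCommGroup V] [Module F V]

section nofin

variable (Q : QuadraticForm F V)

/-- Every vector is a sum of three singular vectors, given a hyperbolic pair. -/
theorem exists_singular_decomp {u u' : V} (hu : Q u = 0) (hu' : Q u' = 0)
    (huu' : QuadraticMap.polar (⇑Q) u u' = 1) (x : V) :
    ∃ a b c : V, Q a = 0 ∧ Q b = 0 ∧ Q c = 0 ∧ x = a + b + c := by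
  have key : ∀ y : V, QuadraticMap.polar (⇑Q) y u' ≠ 0 → ∃ a b : V, Q a = 0 ∧ Q b = 0 ∧ y = a + b := by
    intro y hy
    set t : F := Q y / QuadraticMap.polar (⇑Q) y u' with ht
    refine ⟨y - t • u', t • u', ?_, ?_, by abel⟩
    · rw [Helper14_OmegaSimple.map_sub', hQs, hu', QuadraticMap.polar_smul_right, smul_eq_mul, ht]
      field_simp
      ring
    · rw [hQs, hu', mul_zero]
  by_cases hx : QuadraticMap.polar (⇑Q) x u' = 0
  · obtain ⟨a, b, ha, hb, hab⟩ := key (x + u) (by
      rw [QuadraticMap.polar_add_left, hx, huu', zero_add]; exact one_ne_zero)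
    refine ⟨a, b, -u, ha, hb, by rw [QuadraticMap.map_neg, hu], ?_⟩
    rw [← hab]; abel
  · obtain ⟨a, b, ha, hb, hab⟩ := key x hx
    exact ⟨a, b, 0, ha, hb, map_zero _, by rw [hab, add_zero]⟩

end nofin

variable [Finite F] [FiniteDimensional F V] (Q : QuadraticForm F V)

/-- A linear automorphism commuting with `E(u, s)` maps `u` into the span of `u` and `s`. -/
theorem map_mem_span_of_comm (hQ : (QuadraticMap.polarBilin Q).Nondegenerate)
    (hdim : 5 ≤ finrank F V) {g : V ≃ₗ[F] V} {u s : V} (hu0 : u ≠ 0) (hu : Q u = 0) (hs : Q s = 0)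
    (hus : QuadraticMap.polar (⇑Q) u s = 0) (hsu : s ∉ Submodule.span F {u})
    (hcomm : g * E Q u s = E Q u s * g) : ∃ a b : F, g u = a • u + b • s := by
  obtain ⟨x, -, hux, hxs⟩ := exists_singular_orth_polar Q hQ hdim hu0 hu hus hsu 1
  have h1 := congrArg (fun f : V ≃ₗ[F] V => f x) hcomm
  simp only [LinearEquiv.mul_apply] at h1
  rw [E_apply Q hu hus, E_apply Q hu hus, hs, zero_mul, zero_smul, zero_mul, zero_smul, sub_zero,
    sub_zero, QuadraticMap.polar_comm (⇑Q) x u, hux, hxs, zero_smul, add_zero, one_smul, map_sub] at h1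
  refine ⟨QuadraticMap.polar (⇑Q) (g x) s, -QuadraticMap.polar (⇑Q) (g x) u, ?_⟩
  linear_combination (norm := module) -h1

/-- A linear automorphism commuting with all long root elements fixes every singular point. -/
theorem fix_of_comm (hQ : (QuadraticMap.polarBilin Q).Nondegenerate)
    (hdim : 5 ≤ finrank F V) {g : V ≃ₗ[F] V}
    (hcomm : ∀ u s : V, Q u = 0 → Q s = 0 → QuadraticMap.polar (⇑Q) u s = 0 →
      g * E Q u s = E Q u s * g) :
    ∀ w, Q w = 0 → ∃ l : F, g w = l • w := by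
  intro u hu
  by_cases hu0 : u = 0
  · exact ⟨0, by rw [hu0, map_zero, smul_zero]⟩
  obtain ⟨u', hu', huu'⟩ := exists_hyperbolic_partner Q hQ hu0 hu
  have hnd := nondegenerate_perp hQ hu hu' huu'
  have hfr := finrank_perp (Q := Q) hu hu' huu'
  obtain ⟨w', hw'0, hw'⟩ := exists_singular (Q.comp (perp Q u u').subtype) (by omega)
  obtain ⟨w'', hw'', hww⟩ := exists_hyperbolic_partner (Q.comp (perp Q u u').subtype) hnd hw'0 hw'
  have hQw' : Q (w' : V) = 0 := by simpa using hw'
  have hQw'' : Q (w'' : V) = 0 := by simpa using hw''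
  have hww' : QuadraticMap.polar (⇑Q) (w' : V) (w'' : V) = 1 := by
    rw [← hww]; simp [QuadraticMap.polar]
  have hm' := (mem_perp Q u u').mp w'.2
  have hm'' := (mem_perp Q u u').mp w''.2
  have hns : ∀ w : V, QuadraticMap.polar (⇑Q) u' w = 0 → w ≠ 0 → w ∉ Submodule.span F {u} := by
    intro w hw hw0 h
    obtain ⟨a, ha⟩ := Submodule.mem_span_singleton.mp h
    rw [← ha, QuadraticMap.polar_smul_right, QuadraticMap.polar_comm, huu', smul_eq_mul,
      mul_one] at hw
    rw [hw, zero_smul] at ha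
    exact hw0 ha.symm
  have hw'0' : (w' : V) ≠ 0 := fun h => hw'0 (Subtype.ext h)
  have hw''0' : (w'' : V) ≠ 0 := by
    intro h
    rw [h] at hww'
    simp [QuadraticMap.polar] at hww'
  obtain ⟨a, b, hab⟩ := map_mem_span_of_comm Q hQ hdim hu0 hu hQw' hm'.1 (hns _ hm'.2 hw'0')
    (hcomm u w' hu hQw' hm'.1)
  obtain ⟨a', b', hab'⟩ := map_mem_span_of_comm Q hQ hdim hu0 hu hQw'' hm''.1 (hns _ hm''.2 hw''0')
    (hcomm u w'' hu hQw'' hm''.1)
  have h0 : (a - a') • u + b • (w' : V) - b' • (w'' : V) = 0 := by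
    have := hab.symm.trans hab'
    linear_combination (norm := module) this
  have h1 := congrArg (fun y => QuadraticMap.polar (⇑Q) y (w'' : V)) h0
  simp only [QuadraticMap.polar_sub_left, QuadraticMap.polar_add_left, QuadraticMap.polar_smul_left,
    hm''.1, hww', polar_self', hQw'', smul_eq_mul, mul_zero, mul_one, zero_add, sub_zero] at h1
  have hb : b = 0 := by simpa [QuadraticMap.polar] using h1
  exact ⟨a, by rw [hab, hb, zero_smul, add_zero]⟩

/-- **The centraliser of the long root elements consists of scalars.** -/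
theorem exists_scalar_of_comm (hQ : (QuadraticMap.polarBilin Q).Nondegenerate)
    (hdim : 5 ≤ finrank F V) {g : V ≃ₗ[F] V}
    (hcomm : ∀ u s : V, Q u = 0 → Q s = 0 → QuadraticMap.polar (⇑Q) u s = 0 →
      g * E Q u s = E Q u s * g) :
    ∃ l : F, ∀ x, g x = l • x := by
  have hfix := fix_of_comm Q hQ hdim hcomm
  obtain ⟨u, hu0, hu⟩ := exists_singular Q (by omega)
  obtain ⟨u', hu', huu'⟩ := exists_hyperbolic_partner Q hQ hu0 hu
  obtain ⟨l, hl⟩ := hfix u hu
  refine ⟨l, ?_⟩
  -- every singular vector has eigenvalue `l`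
  have hall : ∀ w, Q w = 0 → g w = l • w := by
    intro w hw
    by_cases hw0 : w = 0
    · rw [hw0, map_zero, smul_zero]
    obtain ⟨m, hm⟩ := hfix w hw
    suffices l = m by rw [this]; exact hm
    by_cases huw : QuadraticMap.polar (⇑Q) u w = 0
    · by_cases hws : w ∈ Submodule.span F {u}
      · obtain ⟨a, rfl⟩ := Submodule.mem_span_singleton.mp hws
        rw [map_smul, hl, smul_comm] at hm
        have : (l - m) • (a • u) = 0 := by rw [sub_smul, hm, sub_self]
        rcases smul_eq_zero.mp this with h | h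
        · exact sub_eq_zero.mp h
        · exact absurd h hw0
      · exact eig_eq Q hfix hu0 hws hu hw huw hl hm
    · -- scale `w` to a hyperbolic partner of `u`
      set c : F := (QuadraticMap.polar (⇑Q) u w)⁻¹ with hc
      have hc0 : c ≠ 0 := inv_ne_zero huw
      set w₁ : V := c • w with hw₁
      have hQw₁ : Q w₁ = 0 := by rw [hw₁, hQs, hw, mul_zero]
      have huw₁ : QuadraticMap.polar (⇑Q) u w₁ = 1 := by
        rw [hw₁, QuadraticMap.polar_smul_right, smul_eq_mul, hc, inv_mul_cancel₀ huw]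
      have hm₁ : g w₁ = m • w₁ := by rw [hw₁, map_smul, hm, smul_comm]
      have hw₁0 : w₁ ≠ 0 := smul_ne_zero hc0 hw0
      have hfr := finrank_perp (Q := Q) hu hQw₁ huw₁
      obtain ⟨v, hv0, hv⟩ := exists_singular (Q.comp (perp Q u w₁).subtype) (by omega)
      have hvm := (mem_perp Q u w₁).mp v.2
      have hv0' : (v : V) ≠ 0 := fun h => hv0 (Subtype.ext h)
      have hQv : Q (v : V) = 0 := by simpa using hv
      obtain ⟨k, hk⟩ := hfix (v : V) hQv
      have h1 : l = k := by
        apply eig_eq Q hfix hu0 _ hu hQv hvm.1 hl hk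
        intro h
        obtain ⟨a, ha⟩ := Submodule.mem_span_singleton.mp h
        have h2 := hvm.2
        rw [← ha, QuadraticMap.polar_smul_right, QuadraticMap.polar_comm, huw₁, smul_eq_mul,
          mul_one] at h2
        rw [h2, zero_smul] at ha
        exact hv0' ha.symm
      have h2 : m = k := by
        apply eig_eq Q hfix hw₁0 _ hQw₁ hQv hvm.2 hm₁ hk
        intro h
        obtain ⟨a, ha⟩ := Submodule.mem_span_singleton.mp h
        have h2 := hvm.1
        rw [← ha, QuadraticMap.polar_smul_right, huw₁, smul_eq_mul, mul_one] at h2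
        rw [h2, zero_smul] at ha
        exact hv0' ha.symm
      rw [h1, h2]
  intro x
  obtain ⟨a, b, c, ha, hb, hc, rfl⟩ := exists_singular_decomp Q hu hu' huu' x
  rw [map_add, map_add, hall a ha, hall b hb, hall c hc, smul_add, smul_add]

end abstract

section general

variable {G : Type*} [Group G]

open scoped commutatorElement

/-- An automorphism of a perfect group that is trivial modulo the centre is trivial. -/
theorem fix_of_perfect (hperf : commutator G = ⊤) (α : MulAut G)
    (h : ∀ s, s⁻¹ * α s ∈ Subgroup.center G) : ∀ s, α s = s := by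
  have hconj : ∀ s x, α s * x * (α s)⁻¹ = s * x * s⁻¹ := by
    intro s x
    have hz := h s
    obtain ⟨z, hzdef⟩ : ∃ z, z = s⁻¹ * α s := ⟨_, rfl⟩
    rw [← hzdef] at hz
    have hαs : α s = s * z := by rw [hzdef]; group
    have hzx : z * x = x * z := (Subgroup.mem_center_iff.mp hz x).symm
    rw [hαs]
    calc s * z * x * (s * z)⁻¹ = s * (z * x) * z⁻¹ * s⁻¹ := by group
    _ = s * (x * z) * z⁻¹ * s⁻¹ := by rw [hzx]
    _ = s * x * s⁻¹ := by group
  have hfix : ∀ s t : G, α ⁅s, t⁆ = ⁅s, t⁆ := by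
    intro s t
    rw [commutatorElement_def, map_mul, map_mul, map_mul, map_inv, map_inv, hconj s (α t)]
    calc s * α t * s⁻¹ * (α t)⁻¹ = s * (α t * s⁻¹ * (α t)⁻¹) := by group
    _ = s * (t * s⁻¹ * t⁻¹) := by rw [hconj t s⁻¹]
    _ = s * t * s⁻¹ * t⁻¹ := by group
  have hle : commutator G ≤ (α.toMonoidHom.eqLocus (MonoidHom.id G)) := by
    rw [commutator_eq_closure, Subgroup.closure_le]
    rintro _ ⟨s, t, rfl⟩
    exact hfix s t
  intro s
  have : s ∈ commutator G := by rw [hperf]; exact Subgroup.mem_top s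
  exact hle this

end general

section matrix

open Matrix Cfsg.Agent.Lib.Helper94_Bridge Cfsg.Agent.Lib.Helper14_POmegaSimple
  Cfsg.Agent.Lib.Helper14_AutOmega Cfsg.Agent.Lib.Helper44_Orth

variable {ι : Type} [Fintype ι] [DecidableEq ι] {F : Type*} [Field F] [Fintype F]

/-- `Ω(Q)` is perfect (dimension at least five). -/
theorem commutator_omega_eq_top (Q : QuadraticForm F (ι → F))
    (hQ : (QuadraticMap.polarBilin Q).Nondegenerate) (hn : 5 ≤ Fintype.card ι) :
    commutator ↥(Cfsg.Omega F (⇑Q)) = ⊤ := by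
  have hdim : 5 ≤ finrank F (ι → F) := by
    rw [Module.finrank_fintype_fun_eq_card]; exact hn
  have hmap : (Cfsg.Omega F (⇑Q)).map (phi Q) = T Q := by
    rw [omega_eq_siegelGroup Q hQ hn, map_siegelGroup]
  have e : ↥(Cfsg.Omega F (⇑Q)) ≃* ↥(T Q) :=
    ((Cfsg.Omega F (⇑Q)).equivMapOfInjective (phi Q) (phi_injective Q)).trans
      (MulEquiv.subgroupCongr hmap)
  rw [eq_top_iff]
  intro x _
  have h1 : e x ∈ commutator ↥(T Q) := by
    rw [commutator_T_eq_top Q hQ hdim]; exact Subgroup.mem_top _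
  have h2 := map_mem_commutator e.symm.toMonoidHom h1
  simpa using h2

/-- A similarity inducing the trivial automorphism of `PΩ(Q)` is a scalar matrix. -/
theorem scalar_of_Phi_eq_one (Q : QuadraticForm F (ι → F))
    (hQ : (QuadraticMap.polarBilin Q).Nondegenerate) (hn : 5 ≤ Fintype.card ι)
    (g : ↥(GO (⇑Q))) (h : Phi (⇑Q) g = 1) : (g : GL ι F) ∈ Cfsg.Geo.scalars ι F := by
  have hdim : 5 ≤ finrank F (ι → F) := by
    rw [Module.finrank_fintype_fun_eq_card]; exact hn
  set α := MulAut.characteristic (Cfsg.Omega F (⇑Q)) (conjO (⇑Q) g) with hα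
  have hcen : ∀ s, s⁻¹ * α s ∈ Subgroup.center ↥(Cfsg.Omega F (⇑Q)) := by
    intro s
    have h1 : Phi (⇑Q) g (QuotientGroup.mk s) = QuotientGroup.mk s := by rw [h]; rfl
    rw [Phi_mk] at h1
    exact QuotientGroup.eq.mp h1.symm
  have hfix := fix_of_perfect (commutator_omega_eq_top Q hQ hn) α hcen
  have hcomm : ∀ s : ↥(Cfsg.Omega F (⇑Q)),
      (g : GL ι F) * ((s : ↥(Cfsg.isometryGroup F (⇑Q))) : GL ι F) =
        ((s : ↥(Cfsg.isometryGroup F (⇑Q))) : GL ι F) * (g : GL ι F) := by
    intro s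
    have h1 := congrArg (fun t : ↥(Cfsg.Omega F (⇑Q)) =>
      ((t : ↥(Cfsg.isometryGroup F (⇑Q))) : GL ι F)) (hfix s)
    simp only [hα] at h1
    rw [Phi_mk_coe] at h1
    exact mul_inv_eq_iff_eq_mul.mp h1
  have hE : ∀ u s : ι → F, Q u = 0 → Q s = 0 → QuadraticMap.polar (⇑Q) u s = 0 →
      glEquiv ι F (g : GL ι F) * E Q u s = E Q u s * glEquiv ι F (g : GL ι F) := by
    intro u s hu hs hus
    have hmem : siegel Q u s 1 hu hs hus ∈ Cfsg.Omega F (⇑Q) :=
      Cfsg.Agent.Lib.Helper14_SiegelAll.siegelGroup_le_omega' Q hQ hn (siegel_mem Q u s 1 hu hs hus)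
    have h1 := hcomm ⟨siegel Q u s 1 hu hs hus, hmem⟩
    have h2 := congrArg (glEquiv ι F) h1
    rw [map_mul, map_mul] at h2
    have h3 : glEquiv ι F ((siegel Q u s 1 hu hs hus : ↥(Cfsg.isometryGroup F (⇑Q))) : GL ι F) =
        E Q u s := by
      have := phi_siegel Q u s 1 hu hs hus
      rw [one_smul] at this
      exact this
    rw [h3] at h2
    exact h2
  obtain ⟨l, hl⟩ := exists_scalar_of_comm Q hQ hdim hE
  have hl' : ∀ x : ι → F, ((g : GL ι F) : Matrix ι ι F) *ᵥ x = l • x := by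
    intro x
    rw [← glEquiv_apply]; exact hl x
  have hl0 : l ≠ 0 := by
    rintro rfl
    have hne : Nonempty ι := by
      rw [← Fintype.card_pos_iff]; omega
    obtain ⟨i⟩ := hne
    have h1 := hl' (Pi.single i 1)
    rw [zero_smul] at h1
    have h2 := congrArg (fun y => (((g : GL ι F)⁻¹ : GL ι F) : Matrix ι ι F) *ᵥ y) h1
    simp only [Matrix.mulVec_mulVec, Matrix.mulVec_zero] at h2
    rw [← Units.val_mul, inv_mul_cancel, Units.val_one, Matrix.one_mulVec] at h2
    have h3 := congrFun h2 i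
    simp at h3
  rw [Cfsg.Geo.mem_scalars_iff]
  refine ⟨Units.mk0 l hl0, ?_⟩
  ext i j
  have h1 := congrFun (hl' (Pi.single j 1)) i
  rw [Matrix.mulVec_single_one] at h1
  simp only [Matrix.col_apply, Pi.smul_apply, smul_eq_mul] at h1
  rw [h1, Units.val_mk0, Matrix.smul_apply, Matrix.one_apply, Pi.single_apply]
  simp

omit [Fintype F] in
/-- Scalar similarities induce the trivial automorphism. -/
theorem Phi_eq_one_of_scalar (Q : (ι → F) → F) (g : ↥(GO Q))
    (hg : (g : GL ι F) ∈ Cfsg.Geo.scalars ι F) : Phi Q g = 1 := by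
  obtain ⟨c, hc⟩ := (Cfsg.Geo.mem_scalars_iff _).mp hg
  have hcomm : ∀ h : GL ι F, (g : GL ι F) * h * (g : GL ι F)⁻¹ = h := by
    intro h
    rw [mul_inv_eq_iff_eq_mul]
    apply Units.ext
    rw [Units.val_mul, Units.val_mul, hc, Matrix.smul_mul, Matrix.one_mul, Matrix.mul_smul,
      Matrix.mul_one]
  ext x
  induction x using QuotientGroup.induction_on with
  | H s =>
    rw [Phi_mk]
    show _ = QuotientGroup.mk s
    congr 1
    apply Subtype.ext
    apply Subtype.ext
    rw [Phi_mk_coe, hcomm]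

theorem ker_Phi (Q : QuadraticForm F (ι → F))
    (hQ : (QuadraticMap.polarBilin Q).Nondegenerate) (hn : 5 ≤ Fintype.card ι) :
    (Phi (⇑Q)).ker = (Cfsg.Geo.scalars ι F).subgroupOf (GO (⇑Q)) := by
  ext g
  rw [MonoidHom.mem_ker, Subgroup.mem_subgroupOf]
  exact ⟨scalar_of_Phi_eq_one Q hQ hn g, Phi_eq_one_of_scalar (⇑Q) g⟩

end matrix

end Cfsg.Agent.Lib.Helper14_CentOmega
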