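import Mathlib
import Cfsg.Agent.Lib.Helper14_BalDefs
import Cfsg.Agent.Lib.Helper14_CentOmega

/-!
# BAL-A4 (helper10, for helper14 / S2733)

A similitude commuting with all Eichler–Siegel transformations of a non-degenerate quadratic space of
dimension at least three (odd characteristic, finite field) is a scalar.
-/

set_option autoImplicit false

namespace Cfsg.Agent.Lib.Helper10_Bal_A4

open Module Cfsg Cfsg.Agent.Lib.Helper94_OrthSmall Cfsg.Agent.Lib.Helper14_OmegaSimple
  Cfsg.Agent.Lib.Helper14_BalDefs Cfsg.Agent.Lib.Helper44_QuadClass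

variable {F V : Type*} [Field F] [AddCommGroup V] [Module F V]

/-- A non-degenerate quadratic space of positive dimension (`2 ≠ 0`) has a non-singular vector. -/
theorem exists_nonsingular (Q : QuadraticForm F V)
    (hQ : (QuadraticMap.polarBilin Q).Nondegenerate) (hV : ∃ v : V, v ≠ 0) :
    ∃ z : V, Q z ≠ 0 := by
  by_contra hcon
  push Not at hcon
  obtain ⟨v, hv⟩ := hV
  apply hv
  apply hQ.1 v
  intro w
  rw [QuadraticMap.polarBilin_apply_apply, QuadraticMap.polar, hcon, hcon, hcon]
  ring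

variable [FiniteDimensional F V]

/-- A non-singular vector orthogonal to a hyperbolic pair (dimension at least three). -/
theorem exists_nonsingular_perp (Q : QuadraticForm F V)
    (hQ : (QuadraticMap.polarBilin Q).Nondegenerate) (hdim : 3 ≤ finrank F V) {e f : V}
    (he : Q e = 0) (hf : Q f = 0) (hef : QuadraticMap.polar (⇑Q) e f = 1) :
    ∃ z : V, Q z ≠ 0 ∧ QuadraticMap.polar (⇑Q) e z = 0 ∧ QuadraticMap.polar (⇑Q) f z = 0 := by
  have hnd := nondegenerate_perp hQ he hf hef
  have hfr := finrank_perp (Q := Q) he hf hef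
  have hpos : 0 < finrank F ↥(perp Q e f) := by omega
  obtain ⟨v, hv⟩ := (finrank_pos_iff_exists_ne_zero).mp hpos
  obtain ⟨z, hz⟩ := exists_nonsingular (Q.comp (perp Q e f).subtype) hnd ⟨v, hv⟩
  have hm := (mem_perp Q e f).mp z.2
  exact ⟨(z : V), by simpa using hz, hm.1, hm.2⟩

/-- Step 1: `g` fixes every singular point. -/
theorem fix_singular (h2 : (2 : F) ≠ 0) (Q : QuadraticForm F V)
    (hQ : (QuadraticMap.polarBilin Q).Nondegenerate) (hdim : 3 ≤ finrank F V)
    (g : V ≃ₗ[F] V) (hsim : ∃ μ : F, ∀ v, Q (g v) = μ * Q v)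
    (hcomm : ∀ u z : V, Q u = 0 → QuadraticMap.polar (⇑Q) u z = 0 → g * E Q u z = E Q u z * g)
    (u : V) (hu : Q u = 0) : ∃ l : F, g u = l • u := by
  by_cases hu0 : u = 0
  · exact ⟨0, by rw [hu0, map_zero, smul_zero]⟩
  obtain ⟨u', hu', huu'⟩ := exists_hyperbolic_partner Q hQ hu0 hu
  obtain ⟨z, hz, huz, -⟩ := exists_nonsingular_perp Q hQ hdim hu hu' huu'
  have h1 := congrArg (fun f : V ≃ₗ[F] V => f z) (hcomm u z hu huz)
  simp only [LinearEquiv.mul_apply] at h1
  rw [E_apply Q hu huz, E_apply Q hu huz, QuadraticMap.polar_comm (⇑Q) z u, huz, zero_smul,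
    add_zero, mul_zero, zero_smul, sub_zero, polar_self', map_sub, map_smul] at h1
  obtain ⟨μ, hμ⟩ := hsim
  have hc : (2 * Q z) ≠ 0 := mul_ne_zero h2 hz
  -- g u = a • z + b • u
  set a : F := -(QuadraticMap.polar (⇑Q) (g z) u) / (2 * Q z) with ha
  set b : F := (QuadraticMap.polar (⇑Q) (g z) z + Q z * QuadraticMap.polar (⇑Q) (g z) u) / (2 * Q z)
    with hb
  have hgu : g u = a • z + b • u := by
    have h3 : (2 * Q z) • g u = (2 * Q z) • (a • z + b • u) := by
      rw [smul_add, smul_smul, smul_smul, ha, hb, mul_div_cancel₀ _ hc, mul_div_cancel₀ _ hc]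
      linear_combination (norm := module) -h1
    exact smul_right_injective V hc h3
  have hQgu : Q (g u) = 0 := by rw [hμ, hu, mul_zero]
  rw [hgu, QuadraticMap.map_add (⇑Q), hQs, hQs, hu, QuadraticMap.polar_smul_left,
    QuadraticMap.polar_smul_right, QuadraticMap.polar_comm (⇑Q) z u, huz] at hQgu
  simp only [smul_eq_mul, mul_zero, add_zero] at hQgu
  have ha0 : a = 0 := by
    rcases mul_eq_zero.mp hQgu with h | h
    · exact mul_self_eq_zero.mp h
    · exact absurd h hz
  exact ⟨b, by rw [hgu, ha0, zero_smul, zero_add]⟩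

/-- Step 2: the eigenvalues on a hyperbolic pair agree. -/
theorem eig_pair (h2 : (2 : F) ≠ 0) (Q : QuadraticForm F V)
    (hQ : (QuadraticMap.polarBilin Q).Nondegenerate) (hdim : 3 ≤ finrank F V)
    (g : V ≃ₗ[F] V) (hfix : ∀ w, Q w = 0 → ∃ l : F, g w = l • w) {e f : V}
    (he : Q e = 0) (hf : Q f = 0) (hef : QuadraticMap.polar (⇑Q) e f = 1) {l m : F}
    (hl : g e = l • e) (hm : g f = m • f) : l = m := by
  obtain ⟨w, hw, hew, hfw⟩ := exists_nonsingular_perp Q hQ hdim he hf hef
  set c : F := Q w with hc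
  have hfe : QuadraticMap.polar (⇑Q) f e = 1 := by rw [QuadraticMap.polar_comm, hef]
  have hwe : QuadraticMap.polar (⇑Q) w e = 0 := by rw [QuadraticMap.polar_comm, hew]
  have hwf : QuadraticMap.polar (⇑Q) w f = 0 := by rw [QuadraticMap.polar_comm, hfw]
  have hsing : ∀ t : F, t * t = 1 → Q (f + t • w - c • e) = 0 := by
    intro t ht
    rw [Helper14_OmegaSimple.map_sub', QuadraticMap.map_add (⇑Q), hQs, hQs, hf, he, QuadraticMap.polar_add_left,
      QuadraticMap.polar_smul_left, QuadraticMap.polar_smul_right, QuadraticMap.polar_smul_right,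
      QuadraticMap.polar_smul_right, hfw, hfe, hwe, ht, ← hc]
    simp only [smul_eq_mul]
    ring
  obtain ⟨n₁, hn₁⟩ := hfix _ (hsing 1 (by ring))
  obtain ⟨n₂, hn₂⟩ := hfix _ (hsing (-1) (by ring))
  rw [map_sub, map_add, map_smul, map_smul, hl, hm] at hn₁ hn₂
  -- the sum of the two relations
  have hsum : (2 * m - (n₁ + n₂)) • f - (n₁ - n₂) • w - (c * (2 * l - (n₁ + n₂))) • e = 0 := by
    linear_combination (norm := module) hn₁ + hn₂
  have h_e := congrArg (fun y => QuadraticMap.polar (⇑Q) y e) hsum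
  have h_f := congrArg (fun y => QuadraticMap.polar (⇑Q) y f) hsum
  have h_w := congrArg (fun y => QuadraticMap.polar (⇑Q) y w) hsum
  simp only [QuadraticMap.polar_sub_left, QuadraticMap.polar_smul_left, hfe, hef, hwe, hwf, hew, hfw,
    polar_self', he, hf, smul_eq_mul, mul_zero, mul_one, sub_zero, zero_sub] at h_e h_f h_w
  have hzero : QuadraticMap.polar (⇑Q) (0 : V) e = 0 ∧ QuadraticMap.polar (⇑Q) (0 : V) f = 0 ∧
      QuadraticMap.polar (⇑Q) (0 : V) w = 0 := by
    simp [QuadraticMap.polar]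
  rw [hzero.1] at h_e
  rw [hzero.2.1] at h_f
  rw [hzero.2.2] at h_w
  -- n₁ = n₂
  have hcw : (2 * c) ≠ 0 := mul_ne_zero h2 hw
  have hn : n₁ = n₂ := by
    have : (n₁ - n₂) * (2 * c) = 0 := by linear_combination -h_w
    rcases mul_eq_zero.mp this with h | h
    · exact sub_eq_zero.mp h
    · exact absurd h hcw
  subst hn
  have hm1 : m = n₁ := by
    have : 2 * (m - n₁) = 0 := by linear_combination h_e
    rcases mul_eq_zero.mp this with h | h
    · exact absurd h h2
    · exact sub_eq_zero.mp h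
  have hl1 : l = n₁ := by
    have : (2 * c) * (l - n₁) = 0 := by linear_combination -h_f
    rcases mul_eq_zero.mp this with h | h
    · exact absurd h hcw
    · exact sub_eq_zero.mp h
  rw [hm1, hl1]

variable [Fintype F]

/-- BAL-A4: a similitude commuting with all Eichler–Siegel transformations is a scalar (dimension at least three). -/
theorem A4 (h2 : (2 : F) ≠ 0) (Q : QuadraticForm F V)
    (hQ : (QuadraticMap.polarBilin Q).Nondegenerate) (hdim : 3 ≤ finrank F V)
    (g : V ≃ₗ[F] V) (hsim : ∃ μ : F, ∀ v, Q (g v) = μ * Q v)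
    (hcomm : ∀ u z : V, Q u = 0 → QuadraticMap.polar (⇑Q) u z = 0 → g * E Q u z = E Q u z * g) :
    ∃ l : F, ∀ x, g x = l • x := by
  have hfix := fix_singular h2 Q hQ hdim g hsim hcomm
  obtain ⟨e, he0, he⟩ := exists_singular Q hdim
  obtain ⟨f, hf, hef⟩ := exists_hyperbolic_partner Q hQ he0 he
  obtain ⟨l, hl⟩ := hfix e he
  obtain ⟨m, hm⟩ := hfix f hf
  have hlm : l = m := eig_pair h2 Q hQ hdim g hfix he hf hef hl hm
  rw [← hlm] at hm
  refine ⟨l, ?_⟩
  -- a singular vector not orthogonal to a singular eigenvector with eigenvalue `l` has eigenvalue `l`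
  have hstep : ∀ u w : V, Q u = 0 → g u = l • u → Q w = 0 → QuadraticMap.polar (⇑Q) u w ≠ 0 →
      g w = l • w := by
    intro u w hu hlu hw huw
    obtain ⟨k, hk⟩ := hfix w hw
    set c : F := (QuadraticMap.polar (⇑Q) u w)⁻¹ with hc
    have hc0 : c ≠ 0 := inv_ne_zero huw
    have hQw₁ : Q (c • w) = 0 := by rw [hQs, hw, mul_zero]
    have huw₁ : QuadraticMap.polar (⇑Q) u (c • w) = 1 := by
      rw [QuadraticMap.polar_smul_right, smul_eq_mul, hc, inv_mul_cancel₀ huw]
    have hk₁ : g (c • w) = k • (c • w) := by rw [map_smul, hk, smul_comm]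
    have := eig_pair h2 Q hQ hdim g hfix hu hQw₁ huw₁ hlu hk₁
    rw [this]; exact hk
  have hall : ∀ w, Q w = 0 → g w = l • w := by
    intro w hw
    by_cases hew : QuadraticMap.polar (⇑Q) e w = 0
    · by_cases hfw : QuadraticMap.polar (⇑Q) f w = 0
      · have hQew : Q (e + w) = 0 := by
          rw [QuadraticMap.map_add (⇑Q), he, hw, hew]; ring
        have hfew : QuadraticMap.polar (⇑Q) f (e + w) ≠ 0 := by
          rw [QuadraticMap.polar_add_right, hfw, QuadraticMap.polar_comm, hef, add_zero]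
          exact one_ne_zero
        have h3 := hstep f (e + w) hf hm hQew hfew
        rw [map_add, hl, smul_add] at h3
        exact add_left_cancel h3
      · exact hstep f w hf hm hw hfw
    · exact hstep e w he hl hw hew
  intro x
  obtain ⟨a, b, c, ha, hb, hc, rfl⟩ :=
    Cfsg.Agent.Lib.Helper14_CentOmega.exists_singular_decomp Q he hf hef x
  rw [map_add, map_add, hall a ha, hall b hb, hall c hc, smul_add, smul_add]

end Cfsg.Agent.Lib.Helper10_Bal_A4
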