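import Mathlib

/-!
Conjugation action of a subgroup `Q` on a subgroup `L` it normalizes, and the fixed point
congruence for `p`-groups (helper10).
-/

set_option autoImplicit false

namespace Cfsg.Agent.Lib.Helper10_ConjAction

variable {G : Type*} [Group G]

/-- the conjugation action of `Q` on a subgroup `L` that it normalizes -/
@[instance_reducible]
def conjMulAction (Q L : Subgroup G) (h : Q ≤ Subgroup.normalizer (L : Set G)) : MulAction Q L where
  smul q l := ⟨(q : G) * l * (q : G)⁻¹, (Subgroup.mem_normalizer_iff.mp (h q.2) l).mp l.2⟩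
  one_smul l := by
    apply Subtype.ext
    change ((1 : Q) : G) * l * ((1 : Q) : G)⁻¹ = l
    simp
  mul_smul a b l := by
    apply Subtype.ext
    change ((a * b : Q) : G) * l * ((a * b : Q) : G)⁻¹ = (a : G) * ((b : G) * l * (b : G)⁻¹) * (a : G)⁻¹
    simp only [Subgroup.coe_mul]
    group

theorem conjMulAction_smul_coe (Q L : Subgroup G) (h : Q ≤ Subgroup.normalizer (L : Set G))
    (q : Q) (l : L) :
    (((conjMulAction Q L h).toSMul.smul q l : L) : G) = (q : G) * l * (q : G)⁻¹ := rfl

/-- the fixed points of the conjugation action are the centralizer of `Q` in `L` -/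
theorem card_fixedPoints (Q L : Subgroup G) (h : Q ≤ Subgroup.normalizer (L : Set G)) :
    Nat.card (@MulAction.fixedPoints Q L _ (conjMulAction Q L h)) =
      Nat.card (L ⊓ Subgroup.centralizer (Q : Set G) : Subgroup G) := by
  let _ := conjMulAction Q L h
  apply Nat.card_congr
  refine
    { toFun := fun x => ⟨(x.1 : G), x.1.2, ?_⟩
      invFun := fun y => ⟨⟨(y : G), y.2.1⟩, ?_⟩
      left_inv := fun x => rfl
      right_inv := fun y => rfl }
  · change (x.1 : G) ∈ Subgroup.centralizer (Q : Set G)
    rw [Subgroup.mem_centralizer_iff]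
    intro q hq
    have := x.2 ⟨q, hq⟩
    have h2 : (q : G) * (x.1 : G) * (q : G)⁻¹ = (x.1 : G) := congrArg Subtype.val this
    rw [mul_inv_eq_iff_eq_mul] at h2
    exact h2
  · intro q
    apply Subtype.ext
    change (q : G) * (y : G) * (q : G)⁻¹ = (y : G)
    have := (Subgroup.mem_centralizer_iff.mp y.2.2) q q.2
    rw [mul_inv_eq_iff_eq_mul]
    exact this

/-- If a `q`-group `Q` normalizes the finite subgroup `L`, then `|L| ≡ |C_L(Q)| mod q`. -/
theorem card_modEq_card_centralizer {q : ℕ} [Fact q.Prime] (Q L : Subgroup G) [Finite L]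
    (hQ : IsPGroup q Q) (h : Q ≤ Subgroup.normalizer (L : Set G)) :
    Nat.card L ≡ Nat.card (L ⊓ Subgroup.centralizer (Q : Set G) : Subgroup G) [MOD q] := by
  let _ := conjMulAction Q L h
  have := hQ.card_modEq_card_fixedPoints L
  rwa [card_fixedPoints Q L h] at this

end Cfsg.Agent.Lib.Helper10_ConjAction
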