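import Mathlib
import Cfsg.Prelude.Def_Characters
import Cfsg.Agent.Lib.Helper80_CharBasic

/-!
# S3716 (a self-centralizing TI Sylow 3-subgroup `M ≅ 3²` with `N_G(M) = M : D₈`, `C_G(x) ≤ N_G(M)`: `G` is not
simple): shared definitions for helper1's package market `d8_packages`.

`Hyp G M a b t1 t2 s` : the configuration after the local analysis.  `M = ⟨a⟩ × ⟨b⟩` of order 9,
   `N_G(M) = M ⟨t1, t2, s⟩` of order 72; `t1` inverts `a` and centralizes `b`, `t2` centralizes `a` and inverts `b`,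
   `s` interchanges `a` and `b`; `t1, t2, s` are involutions, `t1 t2 = t2 t1`, `s t1 s⁻¹ = t2`.
`pv, qv, rv, wv`      : the four character values `χ(a), χ(ab), χ(a t2), χ(a b s)` as functions of the
                        integer coordinates `x = (m1, m1', m2, m2')`.
`Vals`                : the integer data of the character table on the four special classes.
`gram`                : the Gram matrix of the four coordinate vectors.
`IsShape`             : the nonprincipal characters with nonzero coordinates have the rows `R k` up to a sign each.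
`R0 .. R5`            : the six possible shapes.
`W`, `T0 .. T5`       : the 40 row types up to sign, and the types of the rows of the six shapes.
`Core`                : the complete pure data (what the arithmetic packages use).
-/

set_option autoImplicit false

namespace Cfsg.Agent.Lib.Helper1_D8Defs

open Cfsg Cfsg.Agent.Lib.Helper80_CharBasic

/-- standing hypotheses (`N_G(M) = M : D₈` of order 72, strongly 3-embedded type) -/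
structure Hyp (G : Type*) [Group G] (M : Subgroup G) (a b t1 t2 s : G) : Prop where
  card : Nat.card M = 9
  oa : orderOf a = 3
  ob : orderOf b = 3
  comm : a * b = b * a
  hne : b ≠ a
  hne' : b ≠ a⁻¹
  mem : ∀ t : G, t ∈ M ↔ (t = 1 ∨ t = a ∨ t = a⁻¹ ∨ t = b ∨ t = b⁻¹ ∨
    t = a * b ∨ t = a * b⁻¹ ∨ t = a⁻¹ * b ∨ t = a⁻¹ * b⁻¹)
  ht1 : t1 ∈ Subgroup.normalizer (M : Set G)
  ht2 : t2 ∈ Subgroup.normalizer (M : Set G)
  hs : s ∈ Subgroup.normalizer (M : Set G)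
  t1sq : t1 * t1 = 1
  t2sq : t2 * t2 = 1
  ssq : s * s = 1
  t12 : t1 * t2 = t2 * t1
  st1 : s * t1 * s⁻¹ = t2
  t1a : t1 * a * t1⁻¹ = a⁻¹
  t1b : t1 * b * t1⁻¹ = b
  t2a : t2 * a * t2⁻¹ = a
  t2b : t2 * b * t2⁻¹ = b⁻¹
  sa : s * a * s⁻¹ = b
  sb : s * b * s⁻¹ = a
  cardN : Nat.card (Subgroup.normalizer (M : Set G)) = 72
  loc : ∀ t ∈ M, t ≠ 1 →
    Subgroup.centralizer ({t} : Set G) ≤ Subgroup.normalizer (M : Set G)

/-- `χ(a)` in terms of the coordinates -/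
def pv (x : Fin 4 → ℤ) : ℤ := 2 * (x 2 + x 3) - (x 0 + x 1)
/-- `χ(a b)` in terms of the coordinates -/
def qv (x : Fin 4 → ℤ) : ℤ := 2 * (x 0 + x 1) - (x 2 + x 3)
/-- `χ(a t2)` in terms of the coordinates -/
def rv (x : Fin 4 → ℤ) : ℤ := x 0 - x 1
/-- `χ(a b s)` in terms of the coordinates -/
def wv (x : Fin 4 → ℤ) : ℤ := x 2 - x 3

/-- integer data of the character table on the classes of `1, a, a b, a t2, a b s` -/
structure Vals (G : Type*) [Group G] (a b t2 s : G) (d : IrrCharacter G → ℕ)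
    (m : IrrCharacter G → Fin 4 → ℤ) : Prop where
  dpos : ∀ χ : IrrCharacter G, 0 < d χ
  v1 : ∀ χ : IrrCharacter G, (χ : G → ℂ) 1 = (d χ : ℂ)
  va : ∀ χ : IrrCharacter G, (χ : G → ℂ) a = (pv (m χ) : ℂ)
  vab : ∀ χ : IrrCharacter G, (χ : G → ℂ) (a * b) = (qv (m χ) : ℂ)
  vu : ∀ χ : IrrCharacter G, (χ : G → ℂ) (a * t2) = (rv (m χ) : ℂ)
  vv : ∀ χ : IrrCharacter G, (χ : G → ℂ) (a * b * s) = (wv (m χ) : ℂ)

/-- the Gram matrix of the four coordinate vectors -/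
def gram : Fin 4 → Fin 4 → ℤ := ![![4, 1, 2, 2], ![1, 4, 2, 2], ![2, 2, 4, 1], ![2, 2, 1, 4]]

/-- Every index other than `o` with a nonzero row is one of the `n` distinct indices `idx k`, and the row of
`idx k` is `ε k • R k` with `ε k = ± 1`. -/
def IsShape {I : Type*} (o : I) (m : I → Fin 4 → ℤ) (n : ℕ) (R : Fin n → Fin 4 → ℤ) : Prop :=
  ∃ (idx : Fin n → I) (ε : Fin n → ℤ), Function.Injective idx ∧ (∀ k, idx k ≠ o) ∧
    (∀ k, ε k = 1 ∨ ε k = -1) ∧ (∀ k j, m (idx k) j = ε k * R k j) ∧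
    (∀ i, i ≠ o → (∀ k, i ≠ idx k) → ∀ j, m i j = 0)

/-- shape 0 -/
def R0 : Fin 7 → Fin 4 → ℤ :=
  ![![0, 0, 1, 0], ![0, 1, 0, 0], ![0, 1, 0, 1], ![0, 1, 1, 1], ![1, 0, 0, 1], ![1, 0, 0, 1], ![1, 1, 1, 0]]
/-- shape 1 -/
def R1 : Fin 7 → Fin 4 → ℤ :=
  ![![0, 0, 1, -1], ![0, 1, 0, 0], ![0, 1, 0, 0], ![0, 1, 1, 1], ![1, 0, 0, 0], ![1, 0, 0, 1], ![1, 1, 1, 1]]
/-- shape 2 (mirror image of shape 0) -/
def R2 : Fin 7 → Fin 4 → ℤ :=
  ![![1, 0, 0, 0], ![0, 0, 0, 1], ![0, 1, 0, 1], ![1, 1, 0, 1], ![0, 1, 1, 0], ![0, 1, 1, 0], ![1, 0, 1, 1]]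
/-- shape 3 -/
def R3 : Fin 7 → Fin 4 → ℤ :=
  ![![0, 0, 0, 1], ![0, 1, 0, 0], ![0, 1, 1, 0], ![0, 1, 1, 1], ![1, 0, 0, 1], ![1, 0, 1, 0], ![1, 1, 0, 1]]
/-- shape 4 (the shape of `N` itself and of `Sym(6)`): rows `A B C D E F H I` -/
def R4 : Fin 8 → Fin 4 → ℤ :=
  ![![0, 0, 0, 1], ![0, 0, 1, 0], ![0, 1, 0, 0], ![0, 1, 0, 1], ![0, 1, 1, 0], ![1, 0, 0, 0], ![1, 0, 0, 1],
    ![1, 1, 1, 1]]
/-- shape 5 (mirror image of shape 1) -/
def R5 : Fin 7 → Fin 4 → ℤ :=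
  ![![1, -1, 0, 0], ![0, 0, 0, 1], ![0, 0, 0, 1], ![1, 1, 0, 1], ![0, 0, 1, 0], ![0, 1, 1, 0], ![1, 1, 1, 1]]


/-- the 40 row types (rows up to sign): the nonzero vectors of `{-1, 0, 1}^4` whose first nonzero entry is `1` -/
def W : Fin 40 → Fin 4 → ℤ :=
  ![![1, 1, 1, 1], ![1, 1, 1, 0], ![1, 1, 1, -1], ![1, 1, 0, 1], ![1, 1, 0, 0], ![1, 1, 0, -1], ![1, 1, -1, 1],
    ![1, 1, -1, 0], ![1, 1, -1, -1], ![1, 0, 1, 1], ![1, 0, 1, 0], ![1, 0, 1, -1], ![1, 0, 0, 1], ![1, 0, 0, 0],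
    ![1, 0, 0, -1], ![1, 0, -1, 1], ![1, 0, -1, 0], ![1, 0, -1, -1], ![1, -1, 1, 1], ![1, -1, 1, 0], ![1, -1, 1, -1],
    ![1, -1, 0, 1], ![1, -1, 0, 0], ![1, -1, 0, -1], ![1, -1, -1, 1], ![1, -1, -1, 0], ![1, -1, -1, -1],
    ![0, 1, 1, 1], ![0, 1, 1, 0], ![0, 1, 1, -1], ![0, 1, 0, 1], ![0, 1, 0, 0], ![0, 1, 0, -1], ![0, 1, -1, 1],
    ![0, 1, -1, 0], ![0, 1, -1, -1], ![0, 0, 1, 1], ![0, 0, 1, 0], ![0, 0, 1, -1], ![0, 0, 0, 1]]

/-- the types of the rows of shape 0 .. shape 5: `W (Tk i) = Rk i` -/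
def T0 : Fin 7 → Fin 40 := ![37, 31, 30, 27, 12, 12, 1]
def T1 : Fin 7 → Fin 40 := ![38, 31, 31, 27, 13, 12, 0]
def T2 : Fin 7 → Fin 40 := ![13, 39, 30, 3, 28, 28, 9]
def T3 : Fin 7 → Fin 40 := ![39, 31, 28, 27, 12, 10, 3]
def T4 : Fin 8 → Fin 40 := ![39, 37, 31, 30, 28, 13, 12, 0]
def T5 : Fin 7 → Fin 40 := ![22, 39, 39, 3, 37, 28, 0]

/-- the complete pure data: `I` = irreducible characters, `o` = principal character, `d` = degrees,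
`m` = coordinates, `ν` = Frobenius–Schur indicators, `h = |G : N_G(M)|`. -/
structure Core (I : Type*) [Fintype I] (o : I) (d : I → ℕ) (m : I → Fin 4 → ℤ) (ν : I → ℤ) (h : ℕ) :
    Prop where
  dpos : ∀ i, 0 < d i
  d_o : d o = 1
  mo : m o = ![1, 0, 1, 0]
  nuo : ν o = 1
  lin : ∀ i, d i = 1 → i = o
  gram : ∀ j k, ∑ i, m i j * m i k = gram j k
  col : ∀ j, ∑ i, (d i : ℤ) * m i j = 0
  fix9 : ∀ i, (9 : ℤ) ∣ (d i : ℤ) + 4 * pv (m i) + 4 * qv (m i)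
  eq1 : (h : ℚ) * ∑ i, (pv (m i) : ℚ) ^ 2 * (qv (m i) : ℚ) / (d i : ℚ) = 9
  eq2 : (h : ℚ) * ∑ i, (pv (m i) : ℚ) * (qv (m i) : ℚ) ^ 2 / (d i : ℚ) = 9
  sq : ∑ i, d i ^ 2 = 72 * h
  hmod : h % 9 = 1
  hne : h ≠ 1
  fs : ∀ j, ∑ i, ν i * m i j = 2
  fs01 : ∀ i, ν i = 0 ∨ ν i = 1 ∨ (ν i = -1 ∧ ∀ j, (2 : ℤ) ∣ m i j)
  fs0 : ∀ i, ν i = 0 → ∃ i', i' ≠ i ∧ m i' = m i ∧ ν i' = 0

end Cfsg.Agent.Lib.Helper1_D8Defs
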