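import Mathlib
import Cfsg.Agent.Lib.Helper1_D8Defs

/-!
# S3716 (helper1's market `d8_packages`), packages CENT and FUS: common part (helper10)

The conjugation table of the eight words of `T = ⟨t1, t2, s⟩` on `a`, and the two statements
`cent_a_of`, `conj_a_of` with the statements of `nform` (NFORM) and `fusion` (BASIC) as hypotheses.
-/

set_option autoImplicit false

namespace Cfsg.Agent.Lib.Helper10_D8_Aux

open Cfsg Cfsg.Agent.Lib.Helper1_D8Defs

variable {G : Type*} [Group G] {M : Subgroup G} {a b t1 t2 s : G}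

/-- the statement of `nform` for one element -/
def NForm (M : Subgroup G) (t1 t2 s x : G) : Prop :=
  ∃ m ∈ M, x = m ∨ x = m * t1 ∨ x = m * t2 ∨ x = m * (t1 * t2) ∨ x = m * s ∨ x = m * (s * t1) ∨
    x = m * (s * t2) ∨ x = m * (s * t1 * t2)

theorem a_mem (h : Hyp G M a b t1 t2 s) : a ∈ M := (h.mem a).2 (Or.inr (Or.inl rfl))

theorem b_mem (h : Hyp G M a b t1 t2 s) : b ∈ M :=
  (h.mem b).2 (Or.inr (Or.inr (Or.inr (Or.inl rfl))))

theorem ne_one_of_orderOf_three {g : G} (hg : orderOf g = 3) : g ≠ 1 := by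
  intro h
  rw [h, orderOf_one] at hg
  omega

theorem inv_ne_self_of_orderOf_three {g : G} (hg : orderOf g = 3) : g⁻¹ ≠ g := by
  intro h
  have h2 : g ^ 2 = 1 := by
    rw [pow_two]
    calc g * g = g * g⁻¹ := by rw [h]
      _ = 1 := mul_inv_cancel g
  have := orderOf_dvd_of_pow_eq_one h2
  rw [hg] at this
  omega

/-- every element of `M` commutes with `a` and with `b` -/
theorem commute_of_mem (h : Hyp G M a b t1 t2 s) {t : G} (ht : t ∈ M) :
    Commute a t ∧ Commute b t := by
  have cxy : Commute a b := h.comm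
  have cyx : Commute b a := cxy.symm
  have hx := Commute.refl a
  have hy := Commute.refl b
  rcases (h.mem t).1 ht with rfl | rfl | rfl | rfl | rfl | rfl | rfl | rfl | rfl
  · exact ⟨Commute.one_right a, Commute.one_right b⟩
  · exact ⟨hx, cyx⟩
  · exact ⟨hx.inv_right, cyx.inv_right⟩
  · exact ⟨cxy, hy⟩
  · exact ⟨cxy.inv_right, hy.inv_right⟩
  · exact ⟨hx.mul_right cxy, cyx.mul_right hy⟩
  · exact ⟨hx.mul_right cxy.inv_right, cyx.mul_right hy.inv_right⟩
  · exact ⟨hx.inv_right.mul_right cxy, cyx.inv_right.mul_right hy⟩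
  · exact ⟨hx.inv_right.mul_right cxy.inv_right, cyx.inv_right.mul_right hy.inv_right⟩

/-- `M` is abelian -/
theorem commute_mem_mem (h : Hyp G M a b t1 t2 s) {t u : G} (ht : t ∈ M) (hu : u ∈ M) :
    Commute t u := by
  obtain ⟨ha, hb⟩ := commute_of_mem h hu
  rcases (h.mem t).1 ht with rfl | rfl | rfl | rfl | rfl | rfl | rfl | rfl | rfl
  · exact Commute.one_left u
  · exact ha
  · exact ha.inv_left
  · exact hb
  · exact hb.inv_left
  · exact ha.mul_left hb
  · exact ha.mul_left hb.inv_left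
  · exact ha.inv_left.mul_left hb
  · exact ha.inv_left.mul_left hb.inv_left

/-- conjugating by `m w` with `m ∈ M` is conjugating by `w`, on elements which `w` maps into `M` -/
theorem conj_mul_word (h : Hyp G M a b t1 t2 s) {m w c : G} (hm : m ∈ M) (hc : c ∈ M)
    (hw : w * a * w⁻¹ = c) : m * w * a * (m * w)⁻¹ = c := by
  have e : m * w * a * (m * w)⁻¹ = m * (w * a * w⁻¹) * m⁻¹ := by group
  rw [e, hw, (commute_mem_mem h hm hc).eq, mul_inv_cancel_right]

theorem conj_t1t2 (h : Hyp G M a b t1 t2 s) : t1 * t2 * a * (t1 * t2)⁻¹ = a⁻¹ := by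
  have e : t1 * t2 * a * (t1 * t2)⁻¹ = t1 * (t2 * a * t2⁻¹) * t1⁻¹ := by group
  rw [e, h.t2a, h.t1a]

theorem conj_st1 (h : Hyp G M a b t1 t2 s) : s * t1 * a * (s * t1)⁻¹ = b⁻¹ := by
  have e : s * t1 * a * (s * t1)⁻¹ = s * (t1 * a * t1⁻¹) * s⁻¹ := by group
  have e2 : s * a⁻¹ * s⁻¹ = (s * a * s⁻¹)⁻¹ := by group
  rw [e, h.t1a, e2, h.sa]

theorem conj_st2 (h : Hyp G M a b t1 t2 s) : s * t2 * a * (s * t2)⁻¹ = b := by
  have e : s * t2 * a * (s * t2)⁻¹ = s * (t2 * a * t2⁻¹) * s⁻¹ := by group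
  rw [e, h.t2a, h.sa]

theorem conj_st1t2 (h : Hyp G M a b t1 t2 s) : s * t1 * t2 * a * (s * t1 * t2)⁻¹ = b⁻¹ := by
  have e : s * t1 * t2 * a * (s * t1 * t2)⁻¹ = s * t1 * (t2 * a * t2⁻¹) * (s * t1)⁻¹ := by group
  rw [e, h.t2a, conj_st1 h]

/-- the conjugation table on `a` -/
theorem conj_table (h : Hyp G M a b t1 t2 s) {x : G} (hx : NForm M t1 t2 s x) :
    (x * a * x⁻¹ = a ∧ (x ∈ M ∨ ∃ m ∈ M, x = m * t2)) ∨ x * a * x⁻¹ = a⁻¹ ∨ x * a * x⁻¹ = b ∨
      x * a * x⁻¹ = b⁻¹ := by
  obtain ⟨m, hm, hx⟩ := hx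
  have ha := a_mem h
  have hb := b_mem h
  have hai := M.inv_mem ha
  have hbi := M.inv_mem hb
  rcases hx with rfl | rfl | rfl | rfl | rfl | rfl | rfl | rfl
  · left
    refine ⟨?_, Or.inl hm⟩
    rw [(commute_mem_mem h hm ha).eq, mul_inv_cancel_right]
  · right; left
    exact conj_mul_word h hm hai h.t1a
  · left
    exact ⟨conj_mul_word h hm ha h.t2a, Or.inr ⟨m, hm, rfl⟩⟩
  · right; left
    exact conj_mul_word h hm hai (conj_t1t2 h)
  · right; right; left
    exact conj_mul_word h hm hb h.sa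
  · right; right; right
    exact conj_mul_word h hm hbi (conj_st1 h)
  · right; right; left
    exact conj_mul_word h hm hb (conj_st2 h)
  · right; right; right
    exact conj_mul_word h hm hbi (conj_st1t2 h)

theorem mem_cent_singleton {g n : G} :
    n ∈ Subgroup.centralizer ({g} : Set G) ↔ n * g = g * n := by
  rw [Subgroup.mem_centralizer_iff]
  constructor
  · intro hn
    exact (hn g (Set.mem_singleton g)).symm
  · intro hn z hz
    rw [Set.mem_singleton_iff] at hz
    subst hz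
    exact hn.symm

theorem t2_not_mem (h : Hyp G M a b t1 t2 s) : t2 ∉ M := by
  intro ht
  have hc := (commute_of_mem h ht).2
  have : t2 * b * t2⁻¹ = b := by rw [← hc.eq, mul_inv_cancel_right]
  rw [h.t2b] at this
  exact inv_ne_self_of_orderOf_three h.ob this

/-- the second part of `cent_a`, from the statement of `nform` -/
theorem comm_a_iff_of (h : Hyp G M a b t1 t2 s)
    (hnf : ∀ x : G, x ∈ Subgroup.normalizer (M : Set G) → NForm M t1 t2 s x) (x : G) :
    x * a = a * x ↔ (x ∈ M ∨ ∃ m ∈ M, x = m * t2) := by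
  constructor
  · intro hxa
    have hxN : x ∈ Subgroup.normalizer (M : Set G) :=
      h.loc a (a_mem h) (ne_one_of_orderOf_three h.oa) (mem_cent_singleton.2 hxa)
    have hconj : x * a * x⁻¹ = a := by rw [hxa, mul_inv_cancel_right]
    rcases conj_table h (hnf x hxN) with h1 | h1 | h1 | h1
    · exact h1.2
    · rw [hconj] at h1
      exact absurd h1.symm (inv_ne_self_of_orderOf_three h.oa)
    · rw [hconj] at h1
      exact absurd h1.symm h.hne
    · rw [hconj] at h1
      exfalso
      apply h.hne'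
      rw [h1, inv_inv]
  · rintro (hx | ⟨m, hm, rfl⟩)
    · exact ((commute_of_mem h hx).1).symm.eq
    · have h1 : t2 * a = a * t2 := by
        have := h.t2a
        rw [mul_inv_eq_iff_eq_mul] at this
        exact this
      rw [mul_assoc, h1, ← mul_assoc, ((commute_of_mem h hm).1).symm.eq, mul_assoc]

/-- `cent_a`, from the statement of `nform` -/
theorem cent_a_of [Finite G] (h : Hyp G M a b t1 t2 s)
    (hnf : ∀ x : G, x ∈ Subgroup.normalizer (M : Set G) → NForm M t1 t2 s x) :
    Nat.card (Subgroup.centralizer ({a} : Set G)) = 18 ∧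
    ∀ x : G, x * a = a * x ↔ (x ∈ M ∨ ∃ m ∈ M, x = m * t2) := by
  have hiff := comm_a_iff_of h hnf
  refine ⟨?_, hiff⟩
  have hMC : M ≤ Subgroup.centralizer ({a} : Set G) := by
    intro t ht
    exact mem_cent_singleton.2 ((hiff t).2 (Or.inl ht))
  have h9 : 9 ∣ Nat.card (Subgroup.centralizer ({a} : Set G)) := by
    have := Subgroup.card_dvd_of_le hMC
    rwa [h.card] at this
  have hne9 : Nat.card (Subgroup.centralizer ({a} : Set G)) ≠ 9 := by
    intro hc
    have : M = Subgroup.centralizer ({a} : Set G) :=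
      Subgroup.eq_of_le_of_card_ge hMC (by rw [hc, h.card])
    apply t2_not_mem h
    rw [this]
    exact mem_cent_singleton.2 ((hiff t2).2 (Or.inr ⟨1, M.one_mem, (one_mul t2).symm⟩))
  have hle : Nat.card (Subgroup.centralizer ({a} : Set G)) ≤ 18 := by
    have hsub : ((Subgroup.centralizer ({a} : Set G) : Subgroup G) : Set G) ⊆
        (M : Set G) ∪ (fun m => m * t2) '' (M : Set G) := by
      intro x hx
      rcases (hiff x).1 (mem_cent_singleton.1 hx) with hx' | ⟨m, hm, rfl⟩
      · exact Or.inl hx'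
      · exact Or.inr ⟨m, hm, rfl⟩
    have hM9 : (M : Set G).ncard = 9 := by
      rw [← h.card]
      exact (Nat.card_coe_set_eq (M : Set G))
    calc Nat.card (Subgroup.centralizer ({a} : Set G))
        = ((Subgroup.centralizer ({a} : Set G) : Subgroup G) : Set G).ncard :=
          (Nat.card_coe_set_eq _)
      _ ≤ ((M : Set G) ∪ (fun m => m * t2) '' (M : Set G)).ncard :=
          Set.ncard_le_ncard hsub (Set.toFinite _)
      _ ≤ (M : Set G).ncard + ((fun m => m * t2) '' (M : Set G)).ncard := Set.ncard_union_le _ _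
      _ ≤ (M : Set G).ncard + (M : Set G).ncard :=
          Nat.add_le_add_left (Set.ncard_image_le (Set.toFinite _)) _
      _ = 18 := by rw [hM9]
  have hpos : 0 < Nat.card (Subgroup.centralizer ({a} : Set G)) := Nat.card_pos
  obtain ⟨k, hk⟩ := h9
  omega

/-- `conj_a`, from the statements of `nform` and `fusion` -/
theorem conj_a_of (h : Hyp G M a b t1 t2 s)
    (hnf : ∀ x : G, x ∈ Subgroup.normalizer (M : Set G) → NForm M t1 t2 s x)
    (hfus : ∀ g : G, g * a * g⁻¹ ∈ M → g ∈ Subgroup.normalizer (M : Set G)) {t : G}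
    (ht : t ∈ M) : IsConj a t ↔ (t = a ∨ t = a⁻¹ ∨ t = b ∨ t = b⁻¹) := by
  constructor
  · intro hc
    obtain ⟨g, hg⟩ := isConj_iff.mp hc
    have hgN := hfus g (by rw [hg]; exact ht)
    rcases conj_table h (hnf g hgN) with h1 | h1 | h1 | h1
    · left; rw [← hg, h1.1]
    · right; left; rw [← hg, h1]
    · right; right; left; rw [← hg, h1]
    · right; right; right; rw [← hg, h1]
  · rintro (rfl | rfl | rfl | rfl)
    · exact IsConj.refl _
    · exact isConj_iff.mpr ⟨t1, h.t1a⟩
    · exact isConj_iff.mpr ⟨s, h.sa⟩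
    · exact isConj_iff.mpr ⟨s * t1, conj_st1 h⟩

end Cfsg.Agent.Lib.Helper10_D8_Aux
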