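import Mathlib
import Cfsg.Prelude.Def_Characters
import Cfsg.Agent.Lib.Helper80_CharBasic
import Cfsg.Agent.Lib.Helper1_D8Defs

/-!
# S3716 market (architect helper1), package NFORM: the 72 elements `m * w` of `N_G(M)`,
`m ∈ M`, `w` one of the eight words `1, t1, t2, t1 t2, s, s t1, s t2, s t1 t2`.
-/

set_option autoImplicit false
set_option linter.unusedSectionVars false

namespace Cfsg.Agent.Lib.Helper58_D8_NFORM

open Cfsg Cfsg.Agent.Lib.Helper80_CharBasic Cfsg.Agent.Lib.Helper1_D8Defs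

section grp
variable {G : Type*} [Group G] [Finite G]
variable {M : Subgroup G} {a b t1 t2 s : G}

/-- the eight words -/
def wd (t1 t2 s : G) : Fin 8 → G := ![1, t1, t2, t1 * t2, s, s * t1, s * t2, s * t1 * t2]

/-- the images of `a` under conjugation by the eight words -/
def tabA (a b : G) : Fin 8 → G := ![a, a⁻¹, a, a⁻¹, b, b⁻¹, b, b⁻¹]

/-- the images of `b` under conjugation by the eight words -/
def tabB (a b : G) : Fin 8 → G := ![b, b, b⁻¹, b⁻¹, a, a, a⁻¹, a⁻¹]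

omit [Finite G] in
theorem conj_inv' {w x y : G} (hw : w * x * w⁻¹ = y) : w * x⁻¹ * w⁻¹ = y⁻¹ := by
  rw [← hw]; group

omit [Finite G] in
theorem conj_mul' {w v x y z : G} (hv : v * x * v⁻¹ = y) (hw : w * y * w⁻¹ = z) :
    (w * v) * x * (w * v)⁻¹ = z := by
  rw [← hw, ← hv]; group

omit [Finite G] in
/-- the action of the eight words on `a` and `b` -/
theorem act_wd (h : Hyp G M a b t1 t2 s) (k : Fin 8) :
    wd t1 t2 s k * a * (wd t1 t2 s k)⁻¹ = tabA a b k ∧
      wd t1 t2 s k * b * (wd t1 t2 s k)⁻¹ = tabB a b k := by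
  have hst1a : (s * t1) * a * (s * t1)⁻¹ = b⁻¹ := conj_mul' h.t1a (conj_inv' h.sa)
  have hst1b : (s * t1) * b * (s * t1)⁻¹ = a := conj_mul' h.t1b h.sb
  fin_cases k
  · simp [wd, tabA, tabB]
  · exact ⟨h.t1a, h.t1b⟩
  · exact ⟨h.t2a, h.t2b⟩
  · exact ⟨conj_mul' h.t2a h.t1a, conj_mul' h.t2b (conj_inv' h.t1b)⟩
  · exact ⟨h.sa, h.sb⟩
  · exact ⟨hst1a, hst1b⟩
  · exact ⟨conj_mul' h.t2a h.sa, conj_mul' h.t2b (conj_inv' h.sb)⟩
  · exact ⟨conj_mul' h.t2a hst1a, conj_mul' h.t2b (conj_inv' hst1b)⟩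

omit [Finite G] in
/-- `a ≠ a⁻¹` for an element of order `3` -/
theorem ne_inv_of_order_three {x : G} (hx : orderOf x = 3) : x ≠ x⁻¹ := by
  intro hxx
  have h2 : x ^ 2 = 1 := by
    rw [pow_two]
    nth_rewrite 2 [hxx]
    exact mul_inv_cancel x
  have := orderOf_dvd_of_pow_eq_one h2
  rw [hx] at this
  omega

omit [Finite G] in
/-- the eight actions are pairwise different -/
theorem tab_inj (h : Hyp G M a b t1 t2 s) (k k' : Fin 8) (hA : tabA a b k = tabA a b k')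
    (hB : tabB a b k = tabB a b k') : k = k' := by
  have ha : a ≠ a⁻¹ := ne_inv_of_order_three h.oa
  have hb : b ≠ b⁻¹ := ne_inv_of_order_three h.ob
  have ha' : a⁻¹ ≠ a := ha.symm
  have hb' : b⁻¹ ≠ b := hb.symm
  have h1 : b ≠ a := h.hne
  have h1' : a ≠ b := h1.symm
  have h2 : b ≠ a⁻¹ := h.hne'
  have h2' : a⁻¹ ≠ b := h2.symm
  have h3 : b⁻¹ ≠ a := fun hh => h2 (by rw [← hh, inv_inv])
  have h3' : a ≠ b⁻¹ := h3.symm
  have h4 : b⁻¹ ≠ a⁻¹ := fun hh => h1 (inv_injective hh)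
  have h4' : a⁻¹ ≠ b⁻¹ := h4.symm
  fin_cases k <;> fin_cases k' <;> simp_all [tabA, tabB]


omit [Finite G] in
/-- the eight words lie in the normalizer -/
theorem wd_mem (h : Hyp G M a b t1 t2 s) (k : Fin 8) :
    wd t1 t2 s k ∈ Subgroup.normalizer (M : Set G) := by
  have m1 := h.ht1
  have m2 := h.ht2
  have m3 := h.hs
  fin_cases k
  · exact Subgroup.one_mem _
  · exact m1
  · exact m2
  · exact Subgroup.mul_mem _ m1 m2
  · exact m3
  · exact Subgroup.mul_mem _ m3 m1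
  · exact Subgroup.mul_mem _ m3 m2
  · exact Subgroup.mul_mem _ (Subgroup.mul_mem _ m3 m1) m2

omit [Finite G] in
/-- the entries of the two tables lie in `M` -/
theorem tab_mem (h : Hyp G M a b t1 t2 s) (k : Fin 8) : tabA a b k ∈ M ∧ tabB a b k ∈ M := by
  have ma : a ∈ M := (h.mem a).mpr (Or.inr (Or.inl rfl))
  have mb : b ∈ M := (h.mem b).mpr (Or.inr (Or.inr (Or.inr (Or.inl rfl))))
  have mai : a⁻¹ ∈ M := M.inv_mem ma
  have mbi : b⁻¹ ∈ M := M.inv_mem mb
  fin_cases k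
  · exact ⟨ma, mb⟩
  · exact ⟨mai, mb⟩
  · exact ⟨ma, mbi⟩
  · exact ⟨mai, mbi⟩
  · exact ⟨mb, ma⟩
  · exact ⟨mbi, ma⟩
  · exact ⟨mb, mai⟩
  · exact ⟨mbi, mai⟩

omit [Finite G] in
/-- `M` is commutative -/
theorem comm_M (h : Hyp G M a b t1 t2 s) {x y : G} (hx : x ∈ M) (hy : y ∈ M) : x * y = y * x := by
  have hcomm : IsMulCommutative M := by
    have : Fact (Nat.Prime 3) := ⟨by norm_num⟩
    exact IsPGroup.isMulCommutative_of_card_eq_prime_sq (p := 3) (by rw [h.card]; norm_num)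
  have := hcomm.is_comm.comm (⟨x, hx⟩ : M) ⟨y, hy⟩
  exact congrArg Subtype.val this

omit [Finite G] in
/-- the map `(m, k) ↦ m * w_k` is injective -/
theorem mul_wd_inj (h : Hyp G M a b t1 t2 s) {m m' : G} (hm : m ∈ M) (hm' : m' ∈ M) {k k' : Fin 8}
    (he : m * wd t1 t2 s k = m' * wd t1 t2 s k') : m = m' ∧ k = k' := by
  obtain ⟨μ, hμ⟩ : ∃ μ, μ = m⁻¹ * m' := ⟨_, rfl⟩
  have hμM : μ ∈ M := by rw [hμ]; exact M.mul_mem (M.inv_mem hm) hm'
  have hw : wd t1 t2 s k = μ * wd t1 t2 s k' := by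
    rw [hμ, mul_assoc, ← he]; group
  have key : ∀ x y : G, y ∈ M → wd t1 t2 s k' * x * (wd t1 t2 s k')⁻¹ = y →
      wd t1 t2 s k * x * (wd t1 t2 s k)⁻¹ = y := by
    intro x y hy hxy
    rw [hw]
    have : μ * wd t1 t2 s k' * x * (μ * wd t1 t2 s k')⁻¹ =
        μ * (wd t1 t2 s k' * x * (wd t1 t2 s k')⁻¹) * μ⁻¹ := by group
    rw [this, hxy, comm_M h hμM hy, mul_inv_cancel_right]
  have hA : tabA a b k = tabA a b k' := by
    rw [← (act_wd h k).1]
    exact key a _ (tab_mem h k').1 (act_wd h k').1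
  have hB : tabB a b k = tabB a b k' := by
    rw [← (act_wd h k).2]
    exact key b _ (tab_mem h k').2 (act_wd h k').2
  have hk : k = k' := tab_inj h k k' hA hB
  refine ⟨?_, hk⟩
  rw [hk] at he
  exact mul_right_cancel he

/-- PACKAGE NFORM. -/
theorem nform (h : Hyp G M a b t1 t2 s) {x : G} (hx : x ∈ Subgroup.normalizer (M : Set G)) :
    ∃ m ∈ M, x = m ∨ x = m * t1 ∨ x = m * t2 ∨ x = m * (t1 * t2) ∨ x = m * s ∨ x = m * (s * t1) ∨
      x = m * (s * t2) ∨ x = m * (s * t1 * t2) := by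
  -- the map `M × Fin 8 → N`
  let f : ↥M × Fin 8 → ↥(Subgroup.normalizer (M : Set G)) := fun p =>
    ⟨(p.1 : G) * wd t1 t2 s p.2,
      Subgroup.mul_mem _ (Subgroup.le_normalizer p.1.2) (wd_mem h p.2)⟩
  have hinj : Function.Injective f := by
    rintro ⟨m, k⟩ ⟨m', k'⟩ hp
    have he : (m : G) * wd t1 t2 s k = (m' : G) * wd t1 t2 s k' := congrArg Subtype.val hp
    obtain ⟨h1, h2⟩ := mul_wd_inj h m.2 m'.2 he
    exact Prod.ext (Subtype.ext h1) h2
  have hcard : Nat.card ↥(Subgroup.normalizer (M : Set G)) ≤ Nat.card (↥M × Fin 8) := by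
    rw [Nat.card_prod, h.card, h.cardN, Nat.card_eq_fintype_card, Fintype.card_fin]
  have hbij := hinj.bijective_of_nat_card_le hcard
  obtain ⟨⟨m, k⟩, hmk⟩ := hbij.2 ⟨x, hx⟩
  have hx' : x = (m : G) * wd t1 t2 s k := (congrArg Subtype.val hmk).symm
  refine ⟨m, m.2, ?_⟩
  fin_cases k
  · left; rw [hx']; simp [wd]
  · right; left; exact hx'
  · right; right; left; exact hx'
  · right; right; right; left; exact hx'
  · right; right; right; right; left; exact hx'
  · right; right; right; right; right; left; exact hx'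
  · right; right; right; right; right; right; left; exact hx'
  · right; right; right; right; right; right; right; exact hx'

end grp

end Cfsg.Agent.Lib.Helper58_D8_NFORM
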