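import Mathlib
import Cfsg.Agent.Lib.Helper1_D8Defs
import Cfsg.Agent.Lib.Helper58_D8_NFORM
import Cfsg.Agent.Lib.Helper10_D8_Aux

/-!
# S3716 (helper1's market `d8_packages`), package CENT: the centralizer of `a` (helper10)
-/

set_option autoImplicit false

namespace Cfsg.Agent.Lib.Helper10_D8_CENT

open Cfsg Cfsg.Agent.Lib.Helper1_D8Defs

section grp
variable {G : Type*} [Group G] [Finite G]

variable {M : Subgroup G} {a b t1 t2 s : G}

/-! ### CENT: the centralizer of `a` -/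
theorem cent_a (h : Hyp G M a b t1 t2 s) :
    Nat.card (Subgroup.centralizer ({a} : Set G)) = 18 ∧
    ∀ x : G, x * a = a * x ↔ (x ∈ M ∨ ∃ m ∈ M, x = m * t2) :=
  Cfsg.Agent.Lib.Helper10_D8_Aux.cent_a_of h
    (fun _ hx => Cfsg.Agent.Lib.Helper58_D8_NFORM.nform h hx)

end grp

end Cfsg.Agent.Lib.Helper10_D8_CENT
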