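import Mathlib
import Cfsg.Agent.Lib.Helper1_D8Defs
import Cfsg.Agent.Lib.Helper58_D8_NFORM
import Cfsg.Agent.Lib.Helper58_D8_BASIC
import Cfsg.Agent.Lib.Helper10_D8_Aux

/-!
# S3716 (helper1's market `d8_packages`), package FUS: the class of `a` (helper10)
-/

set_option autoImplicit false

namespace Cfsg.Agent.Lib.Helper10_D8_FUS

open Cfsg Cfsg.Agent.Lib.Helper1_D8Defs

section grp
variable {G : Type*} [Group G] [Finite G]

variable {M : Subgroup G} {a b t1 t2 s : G}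

/-! ### FUS: the class of `a` -/
theorem conj_a (h : Hyp G M a b t1 t2 s) {t : G} (ht : t ∈ M) :
    IsConj a t ↔ (t = a ∨ t = a⁻¹ ∨ t = b ∨ t = b⁻¹) :=
  Cfsg.Agent.Lib.Helper10_D8_Aux.conj_a_of h
    (fun _ hx => Cfsg.Agent.Lib.Helper58_D8_NFORM.nform h hx)
    (fun _ hg => Cfsg.Agent.Lib.Helper58_D8_BASIC.fusion h
      (Cfsg.Agent.Lib.Helper10_D8_Aux.a_mem h)
      (Cfsg.Agent.Lib.Helper10_D8_Aux.ne_one_of_orderOf_three h.oa) hg) ht

end grp

end Cfsg.Agent.Lib.Helper10_D8_FUS
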