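/-
Triangular, diagonal and monomial subgroups of a group with a matrix representation `φ : G →* Matrix ι ι F`,
relative to a height function `ht : ι → ℕ` on the index set.
-/
import Mathlib

set_option autoImplicit false
set_option linter.unusedSectionVars false
set_option linter.unusedVariables false

namespace Cfsg.Agent.Lib.Helper68_MatGrp

open Matrix

variable {ι : Type*} [Fintype ι] [DecidableEq ι] {F : Type*} [Field F]
variable {G : Type*} [Group G] (φ : G →* Matrix ι ι F) (ht : ι → ℕ)

theorem perm_apply_inv (σ : Equiv.Perm ι) (a : ι) : σ (σ⁻¹ a) = a := by simp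

theorem perm_inv_apply (σ : Equiv.Perm ι) (a : ι) : σ⁻¹ (σ a) = a := by simp

theorem map_mul_inv (g : G) : φ g * φ g⁻¹ = 1 := by rw [← map_mul, mul_inv_cancel, map_one]

theorem map_inv_mul (g : G) : φ g⁻¹ * φ g = 1 := by rw [← map_mul, inv_mul_cancel, map_one]

theorem map_inv_eq (g : G) : φ g⁻¹ = (φ g)⁻¹ := (Matrix.inv_eq_right_inv (map_mul_inv φ g)).symm

/-- the elements with upper triangular matrix -/
def UT : Subgroup G where
  carrier := {g | (φ g).BlockTriangular ht}
  mul_mem' := by
    intro a b ha hb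
    show (φ (a * b)).BlockTriangular ht
    rw [map_mul]
    exact BlockTriangular.mul ha hb
  one_mem' := by
    show (φ 1).BlockTriangular ht
    rw [map_one]
    exact blockTriangular_one
  inv_mem' := by
    intro g hg
    show (φ g⁻¹).BlockTriangular ht
    rw [map_inv_eq]
    have : Invertible (φ g) := invertibleOfRightInverse _ _ (map_mul_inv φ g)
    exact blockTriangular_inv_of_blockTriangular hg

theorem mem_UT {g : G} : g ∈ UT φ ht ↔ ∀ a b, ht b < ht a → φ g a b = 0 := Iff.rfl

/-- the elements with lower triangular matrix -/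
def LT : Subgroup G where
  carrier := {g | (φ g).BlockTriangular (OrderDual.toDual ∘ ht)}
  mul_mem' := by
    intro a b ha hb
    show (φ (a * b)).BlockTriangular _
    rw [map_mul]
    exact BlockTriangular.mul ha hb
  one_mem' := by
    show (φ 1).BlockTriangular _
    rw [map_one]
    exact blockTriangular_one
  inv_mem' := by
    intro g hg
    show (φ g⁻¹).BlockTriangular _
    rw [map_inv_eq]
    have : Invertible (φ g) := invertibleOfRightInverse _ _ (map_mul_inv φ g)
    exact blockTriangular_inv_of_blockTriangular hg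

theorem mem_LT {g : G} : g ∈ LT φ ht ↔ ∀ a b, ht a < ht b → φ g a b = 0 := Iff.rfl

/-- the elements with diagonal matrix -/
def Diag : Subgroup G where
  carrier := {g | ∀ a b, a ≠ b → φ g a b = 0}
  mul_mem' := by
    intro x y hx hy a b hab
    rw [map_mul, Matrix.mul_apply]
    apply Finset.sum_eq_zero
    intro c _
    by_cases hac : a = c
    · subst hac
      rw [hy a b hab, mul_zero]
    · rw [hx a c hac, zero_mul]
  one_mem' := by
    intro a b hab
    rw [map_one, Matrix.one_apply_ne hab]
  inv_mem' := by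
    intro g hg a b hab
    -- `φ g` is diagonal with non-zero diagonal entries
    have h1 := congrFun (congrFun (map_mul_inv φ g) a) b
    rw [Matrix.mul_apply, Matrix.one_apply_ne hab] at h1
    rw [Finset.sum_eq_single a] at h1
    · have h2 := congrFun (congrFun (map_mul_inv φ g) a) a
      rw [Matrix.mul_apply, Matrix.one_apply_eq, Finset.sum_eq_single a] at h2
      · have hne : φ g a a ≠ 0 := left_ne_zero_of_mul_eq_one h2
        exact (mul_eq_zero.mp h1).resolve_left hne
      · intro c _ hca
        rw [hg a c (Ne.symm hca), zero_mul]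
      · intro h; exact absurd (Finset.mem_univ a) h
    · intro c _ hca
      rw [hg a c (Ne.symm hca), zero_mul]
    · intro h; exact absurd (Finset.mem_univ a) h

theorem mem_Diag {g : G} : g ∈ Diag φ ↔ ∀ a b, a ≠ b → φ g a b = 0 := Iff.rfl

/-- `g` is monomial with permutation `σ`: the `b`-th column is supported at `σ b` -/
def IsMono (g : G) (σ : Equiv.Perm ι) : Prop := ∀ a b, a ≠ σ b → φ g a b = 0

variable {φ}

theorem IsMono.mul {g h : G} {σ τ : Equiv.Perm ι} (hg : IsMono φ g σ) (hh : IsMono φ h τ) :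
    IsMono φ (g * h) (σ * τ) := by
  intro a b hab
  rw [map_mul, Matrix.mul_apply]
  apply Finset.sum_eq_zero
  intro c _
  by_cases hc : c = τ b
  · subst hc
    rw [hg a (τ b) hab, zero_mul]
  · rw [hh c b hc, mul_zero]

theorem IsMono.mul_apply {g h : G} {σ τ : Equiv.Perm ι} (hg : IsMono φ g σ) (hh : IsMono φ h τ) (b : ι) :
    φ (g * h) (σ (τ b)) b = φ g (σ (τ b)) (τ b) * φ h (τ b) b := by
  rw [map_mul, Matrix.mul_apply, Finset.sum_eq_single (τ b)]
  · intro c _ hc
    rw [hh c b hc, mul_zero]
  · intro h; exact absurd (Finset.mem_univ _) h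

theorem isMono_one : IsMono φ 1 1 := by
  intro a b hab
  have hab' : a ≠ b := hab
  rw [map_one, Matrix.one_apply_ne hab']

/-- the nonzero entry of a column -/
theorem IsMono.ne_zero {g : G} {σ : Equiv.Perm ι} (hg : IsMono φ g σ) (b : ι) : φ g (σ b) b ≠ 0 := by
  intro h0
  have h1 := congrFun (congrFun (map_inv_mul φ g) b) b
  rw [Matrix.mul_apply, Matrix.one_apply_eq] at h1
  have : ∑ c, φ g⁻¹ b c * φ g c b = 0 := by
    apply Finset.sum_eq_zero
    intro c _
    by_cases hc : c = σ b
    · subst hc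
      rw [h0, mul_zero]
    · rw [hg c b hc, mul_zero]
  rw [this] at h1
  exact zero_ne_one h1

theorem IsMono.inv {g : G} {σ : Equiv.Perm ι} (hg : IsMono φ g σ) : IsMono φ g⁻¹ σ⁻¹ := by
  intro d c hdc
  -- row `σ d` of `φ g` is supported at column `d`
  have h1 := congrFun (congrFun (map_mul_inv φ g) (σ d)) c
  have hne : σ d ≠ c := by
    intro h
    apply hdc
    rw [← h]
    simp
  rw [Matrix.mul_apply, Matrix.one_apply_ne hne, Finset.sum_eq_single d] at h1
  · exact (mul_eq_zero.mp h1).resolve_left (hg.ne_zero d)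
  · intro e _ hed
    have : σ d ≠ σ e := fun h => hed (σ.injective h).symm
    rw [hg (σ d) e this, zero_mul]
  · intro h; exact absurd (Finset.mem_univ _) h

theorem IsMono.inv_apply {g : G} {σ : Equiv.Perm ι} (hg : IsMono φ g σ) (a : ι) :
    φ g⁻¹ a (σ a) = (φ g (σ a) a)⁻¹ := by
  have h1 := congrFun (congrFun (map_inv_mul φ g) a) a
  rw [Matrix.mul_apply, Matrix.one_apply_eq, Finset.sum_eq_single (σ a)] at h1
  · exact eq_inv_of_mul_eq_one_left h1
  · intro c _ hc
    rw [hg c a hc, mul_zero]
  · intro h; exact absurd (Finset.mem_univ _) h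

variable (φ)

/-- the monomial elements -/
def Mono : Subgroup G where
  carrier := {g | ∃ σ : Equiv.Perm ι, IsMono φ g σ}
  mul_mem' := by
    rintro a b ⟨σ, hσ⟩ ⟨τ, hτ⟩
    exact ⟨σ * τ, hσ.mul hτ⟩
  one_mem' := ⟨1, isMono_one⟩
  inv_mem' := by
    rintro g ⟨σ, hσ⟩
    exact ⟨σ⁻¹, hσ.inv⟩

theorem mem_Mono {g : G} : g ∈ Mono φ ↔ ∃ σ : Equiv.Perm ι, IsMono φ g σ := Iff.rfl

theorem Diag_le_Mono : Diag φ ≤ Mono φ := by
  intro g hg
  exact ⟨1, fun a b hab => hg a b hab⟩

variable {φ}

/-- conjugation of any matrix by a monomial element -/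
theorem IsMono.conj_apply {n : G} {σ : Equiv.Perm ι} (hn : IsMono φ n σ) (g : G) (a b : ι) :
    φ (n⁻¹ * g * n) a b = (φ n (σ a) a)⁻¹ * φ g (σ a) (σ b) * φ n (σ b) b := by
  rw [map_mul, map_mul, Matrix.mul_apply, Finset.sum_eq_single (σ b)]
  · rw [Matrix.mul_apply, Finset.sum_eq_single (σ a)]
    · rw [hn.inv_apply]
    · intro c _ hc
      have : a ≠ σ⁻¹ c := by
        intro h
        apply hc
        rw [h]
        simp
      rw [hn.inv a c this, zero_mul]
    · intro h; exact absurd (Finset.mem_univ _) h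
  · intro c _ hc
    rw [hn c b hc, mul_zero]
  · intro h; exact absurd (Finset.mem_univ _) h

variable (φ)

/-- a monomial element normalizes the diagonal subgroup -/
theorem conj_mem_Diag {n t : G} (hn : n ∈ Mono φ) (ht' : t ∈ Diag φ) : n * t * n⁻¹ ∈ Diag φ := by
  obtain ⟨σ, hσ⟩ := hn
  have h := hσ.inv
  intro a b hab
  have e : n * t * n⁻¹ = (n⁻¹)⁻¹ * t * n⁻¹ := by rw [inv_inv]
  rw [e, h.conj_apply t a b]
  have : σ⁻¹ a ≠ σ⁻¹ b := fun h' => hab (σ⁻¹.injective h')
  rw [ht' _ _ this, mul_zero, zero_mul]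

/-- a monomial upper triangular element is diagonal -/
theorem mem_Diag_of_mono_of_UT (hht : Function.Injective ht) {g : G} (hm : g ∈ Mono φ)
    (hu : g ∈ UT φ ht) : g ∈ Diag φ := by
  obtain ⟨σ, hσ⟩ := hm
  have hle : ∀ b, ht (σ b) ≤ ht b := by
    intro b
    by_contra hlt
    push Not at hlt
    exact hσ.ne_zero b (hu hlt)
  have hsum : ∑ b, ht (σ b) = ∑ b, ht b := Equiv.sum_comp σ ht
  have heq : ∀ b, ht (σ b) = ht b := by
    intro b
    by_contra hne
    have hlt : ht (σ b) < ht b := lt_of_le_of_ne (hle b) hne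
    have : ∑ b, ht (σ b) < ∑ b, ht b :=
      Finset.sum_lt_sum (fun i _ => hle i) ⟨b, Finset.mem_univ b, hlt⟩
    omega
  intro a b hab
  apply hσ a b
  rw [hht (heq b)]
  exact hab

theorem UT_inf_LT (hht : Function.Injective ht) : UT φ ht ⊓ LT φ ht = Diag φ := by
  ext g
  constructor
  · rintro ⟨h1, h2⟩ a b hab
    rcases lt_trichotomy (ht a) (ht b) with h | h | h
    · exact h2 h
    · exact absurd (hht h) hab
    · exact h1 h
  · intro h
    constructor
    · intro a b hab
      exact h a b (fun e => by rw [e] at hab; exact lt_irrefl _ hab)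
    · intro a b hab
      have hab' : ht a < ht b := hab
      exact h a b (fun e => by rw [e] at hab'; exact lt_irrefl _ hab')

theorem Diag_le_UT : Diag φ ≤ UT φ ht := by
  intro g h a b hab
  exact h a b (fun e => by rw [e] at hab; exact lt_irrefl _ hab)

/-- if a monomial element reverses the heights, an upper triangular element that it conjugates to an
upper triangular element is diagonal -/
theorem mem_Diag_of_conj_rev (hht : Function.Injective ht) {n : G} {σ : Equiv.Perm ι}
    (hn : IsMono φ n σ) (hrev : ∀ a b, ht a < ht b → ht (σ b) < ht (σ a)) {g : G}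
    (hg : g ∈ UT φ ht) (hc : n⁻¹ * g * n ∈ UT φ ht) : g ∈ Diag φ := by
  rw [← UT_inf_LT φ ht hht]
  refine ⟨hg, ?_⟩
  intro a b hab
  have hab' : ht a < ht b := hab
  -- `(a, b) = (σ c, σ d)` with `ht d < ht c`
  have h1 := (mem_UT φ ht).1 hc (σ⁻¹ a) (σ⁻¹ b)
  have hlt : ht (σ⁻¹ b) < ht (σ⁻¹ a) := by
    by_contra hle
    push Not at hle
    rcases lt_or_eq_of_le hle with h | h
    · have := hrev _ _ h
      rw [perm_apply_inv, perm_apply_inv] at this
      omega
    · have := hht h
      have : a = b := σ⁻¹.injective this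
      rw [this] at hab'
      exact lt_irrefl _ hab'
  have h2 := h1 hlt
  rw [hn.conj_apply g, perm_apply_inv, perm_apply_inv] at h2
  have hne1 := hn.ne_zero (σ⁻¹ a)
  have hne2 := hn.ne_zero (σ⁻¹ b)
  rw [perm_apply_inv] at hne1 hne2
  rcases mul_eq_zero.mp h2 with h3 | h3
  · rcases mul_eq_zero.mp h3 with h4 | h4
    · exact absurd (inv_eq_zero.mp h4) hne1
    · exact h4
  · exact absurd h3 hne2

end Cfsg.Agent.Lib.Helper68_MatGrp
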