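import Mathlib

set_option autoImplicit false

/-!
Reciprocal and palindromic polynomials over a field; the characteristic polynomial of the
inverse of a matrix and of a symplectic matrix.
-/

namespace Cfsg.Agent.Lib.Helper40_Palindromic

open Polynomial

universe v

variable {F : Type v} [Field F]

theorem natDegree_reverse' (f : F[X]) (h0 : f.coeff 0 ≠ 0) : f.reverse.natDegree = f.natDegree := by
  rw [reverse_natDegree, natTrailingDegree_eq_zero.2 (Or.inr h0), Nat.sub_zero]

theorem reverse_reverse' (f : F[X]) (h0 : f.coeff 0 ≠ 0) : f.reverse.reverse = f := by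
  have h := natDegree_reverse' f h0
  unfold reverse at h ⊢
  rw [h, reflect_reflect]

theorem reverse_C_mul' (a : F) (f : F[X]) : (C a * f).reverse = C a * f.reverse := by
  rw [reverse_mul_of_domain, reverse_C]

/-- the monic reciprocal polynomial -/
noncomputable def recip (f : F[X]) : F[X] := C (f.coeff 0)⁻¹ * f.reverse

theorem recip_natDegree (f : F[X]) (h0 : f.coeff 0 ≠ 0) : (recip f).natDegree = f.natDegree := by
  unfold recip
  rw [natDegree_C_mul (inv_ne_zero h0), natDegree_reverse' f h0]

theorem recip_monic (f : F[X]) (h0 : f.coeff 0 ≠ 0) : (recip f).Monic := by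
  unfold recip Monic
  rw [leadingCoeff_mul, leadingCoeff_C, reverse_leadingCoeff, trailingCoeff,
    natTrailingDegree_eq_zero.2 (Or.inr h0), inv_mul_cancel₀ h0]

theorem recip_coeff_zero (f : F[X]) (hf : f.Monic) : (recip f).coeff 0 = (f.coeff 0)⁻¹ := by
  unfold recip
  rw [coeff_C_mul, coeff_zero_reverse, hf.leadingCoeff, mul_one]

theorem recip_mul (f g : F[X]) : recip (f * g) = recip f * recip g := by
  unfold recip
  rw [mul_coeff_zero, mul_inv, C_mul, reverse_mul_of_domain]
  ring

theorem recip_recip (f : F[X]) (hf : f.Monic) (h0 : f.coeff 0 ≠ 0) : recip (recip f) = f := by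
  have h1 := recip_coeff_zero f hf
  rw [recip, h1, inv_inv]
  unfold recip
  rw [reverse_C_mul', reverse_reverse' f h0, ← mul_assoc, ← C_mul, mul_inv_cancel₀ h0, C_1,
    one_mul]

theorem recip_dvd {f c : F[X]} (h : f ∣ c) : recip f ∣ recip c := by
  obtain ⟨g, rfl⟩ := h
  rw [recip_mul]
  exact dvd_mul_right _ _

/-- a monic palindromic polynomial has constant coefficient one -/
theorem coeff_zero_of_reverse_eq (c : F[X]) (hc : c.Monic) (hrev : c.reverse = c) :
    c.coeff 0 = 1 := by
  rw [← hrev, coeff_zero_reverse, hc.leadingCoeff]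

theorem recip_of_reverse_eq (c : F[X]) (hc : c.Monic) (hrev : c.reverse = c) : recip c = c := by
  unfold recip
  rw [coeff_zero_of_reverse_eq c hc hrev, inv_one, C_1, one_mul, hrev]

theorem reverse_eq_of_recip_eq (c : F[X]) (h0 : c.coeff 0 = 1) (h : recip c = c) :
    c.reverse = c := by
  unfold recip at h
  rwa [h0, inv_one, C_1, one_mul] at h

theorem reverse_eq_mul_recip (f : F[X]) (h0 : f.coeff 0 ≠ 0) :
    f.reverse = C (f.coeff 0) * recip f := by
  unfold recip
  rw [← mul_assoc, ← C_mul, mul_inv_cancel₀ h0, C_1, one_mul]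

theorem irreducible_reverse (f : F[X]) (hf : Irreducible f) (h0 : f.coeff 0 ≠ 0) :
    Irreducible f.reverse := by
  constructor
  · intro hu
    have h1 := natDegree_eq_zero_of_isUnit hu
    rw [natDegree_reverse' f h0] at h1
    exact hf.natDegree_pos.ne' h1
  · intro g h hgh
    have hf' : f = g.reverse * h.reverse := by
      rw [← reverse_mul_of_domain, ← hgh, reverse_reverse' f h0]
    have hgh0 : (g * h).coeff 0 ≠ 0 := by
      rw [← hgh, coeff_zero_reverse]
      exact leadingCoeff_ne_zero.2 hf.ne_zero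
    rw [mul_coeff_zero] at hgh0
    have hg0 : g.coeff 0 ≠ 0 := left_ne_zero_of_mul hgh0
    have hh0 : h.coeff 0 ≠ 0 := right_ne_zero_of_mul hgh0
    have key : ∀ k : F[X], k.coeff 0 ≠ 0 → IsUnit k.reverse → IsUnit k := by
      intro k hk0 hu
      have h1 := natDegree_eq_zero_of_isUnit hu
      rw [natDegree_reverse' k hk0] at h1
      rw [eq_C_of_natDegree_eq_zero h1]
      exact isUnit_C.2 (isUnit_iff_ne_zero.2 hk0)
    rcases hf.isUnit_or_isUnit hf' with hu | hu
    · exact Or.inl (key g hg0 hu)
    · exact Or.inr (key h hh0 hu)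

theorem irreducible_recip (f : F[X]) (hf : Irreducible f) (h0 : f.coeff 0 ≠ 0) :
    Irreducible (recip f) := by
  unfold recip
  rw [irreducible_isUnit_mul (isUnit_C.2 (isUnit_iff_ne_zero.2 (inv_ne_zero h0)))]
  exact irreducible_reverse f hf h0

/-- the pairing lemma: a polynomial of odd degree with `reverse h = δ h`, `δ ε = -1`,
`ε ^ 2 = 1` vanishes at `ε` (in every characteristic) -/
theorem eval_eq_zero_of_reverse (h : F[X]) (m : ℕ) (hm : h.natDegree = m) (hodd : Odd m)
    (δ ε : F) (hε : ε * ε = 1) (hδ : δ * ε = -1) (hrev : h.reverse = C δ * h) :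
    h.eval ε = 0 := by
  rw [eval_eq_sum_range, hm]
  have hco : ∀ i, i ≤ m → h.coeff (m - i) = δ * h.coeff i := by
    intro i hi
    have := congrArg (fun p => coeff p i) hrev
    simp only [coeff_reverse, coeff_C_mul, hm, revAt_le hi] at this
    exact this
  have hpow : ∀ i, ε ^ i * ε ^ i = 1 := by
    intro i
    rw [← mul_pow, hε, one_pow]
  have hεm : ε ^ m = ε := by
    obtain ⟨k, rfl⟩ := hodd
    rw [pow_succ, pow_mul, sq, hε, one_pow, one_mul]
  apply Finset.sum_involution (fun i _ => m - i)
  · intro i hi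
    rw [Finset.mem_range] at hi
    have hi' : i ≤ m := by omega
    rw [hco i hi']
    have h1 : ε ^ (m - i) = ε * ε ^ i := by
      have : ε ^ (m - i) * (ε ^ i * ε ^ i) = ε * ε ^ i := by
        rw [← mul_assoc, ← pow_add, Nat.sub_add_cancel hi', hεm]
      rwa [hpow, mul_one] at this
    rw [h1]
    have : h.coeff i * ε ^ i + δ * h.coeff i * (ε * ε ^ i) =
        h.coeff i * ε ^ i * (1 + δ * ε) := by ring
    rw [this, hδ, add_neg_cancel, mul_zero]
  · intro i hi _ heq
    rw [Finset.mem_range] at hi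
    obtain ⟨k, hk⟩ := hodd
    omega
  · intro i hi
    rw [Finset.mem_range] at hi ⊢
    omega
  · intro i hi
    rw [Finset.mem_range] at hi
    omega

/-- a palindromic polynomial of odd degree vanishes at `-1` -/
theorem eval_neg_one_of_reverse_eq (f : F[X]) (hrev : f.reverse = f) (hodd : Odd f.natDegree) :
    f.eval (-1) = 0 :=
  eval_eq_zero_of_reverse f _ rfl hodd 1 (-1) (by ring) (by ring) (by rw [hrev, C_1, one_mul])

/-- a self-reciprocal monic polynomial not vanishing at `1` has constant coefficient `1` -/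
theorem coeff_zero_eq_one_of_recip_eq (f : F[X]) (h0 : f.coeff 0 ≠ 0)
    (hr : recip f = f) (h1 : f.eval 1 ≠ 0) : f.coeff 0 = 1 := by
  have hrev : f.reverse = C (f.coeff 0) * f := by
    rw [reverse_eq_mul_recip f h0, hr]
  let _ : Invertible (1 : F) := invertibleOne
  have h2 := eval₂_reverse_mul_pow (RingHom.id F) (1 : F) f
  rw [invOf_one, one_pow, mul_one, hrev] at h2
  have h3 : (f.coeff 0) * f.eval 1 = f.eval 1 := by
    have : eval₂ (RingHom.id F) 1 (C (f.coeff 0) * f) = (f.coeff 0) * f.eval 1 := by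
      rw [eval₂_mul, eval₂_C, RingHom.id_apply]
      rfl
    rw [← this]
    exact h2
  have h4 : (f.coeff 0 - 1) * f.eval 1 = 0 := by rw [sub_mul, h3, one_mul, sub_self]
  rcases mul_eq_zero.1 h4 with h | h
  · exact sub_eq_zero.1 h
  · exact absurd h h1

/-- in a palindromic polynomial of even degree the roots `1` and `-1` are multiple -/
theorem sq_dvd_of_reverse_eq (c : F[X]) (hrev : c.reverse = c) (n : ℕ)
    (hdeg : c.natDegree = 2 * n) (ε : F) (hε : ε * ε = 1) (hdvd : (X - C ε) ∣ c) :
    (X - C ε) ^ 2 ∣ c := by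
  rcases eq_or_ne c 0 with rfl | hc0
  · exact dvd_zero _
  obtain ⟨h, rfl⟩ := hdvd
  have hXne : (X - C ε : F[X]) ≠ 0 := X_sub_C_ne_zero ε
  have hh0 : h ≠ 0 := right_ne_zero_of_mul hc0
  have hdeg' : h.natDegree + 1 = 2 * n := by
    rw [natDegree_mul hXne hh0, natDegree_X_sub_C] at hdeg
    omega
  have hrX : (X - C ε : F[X]).reverse = C (-ε) * (X - C ε) := by
    have h1 : (X - C ε : F[X]) = X + C (-ε) := by rw [C_neg, sub_eq_add_neg]
    rw [h1, reverse_add_C, natDegree_X, pow_one]
    have h2 : (X : F[X]).reverse = 1 := by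
      have := reverse_mul_X (1 : F[X])
      rwa [one_mul, ← C_1, reverse_C] at this
    rw [h2, mul_add, ← C_mul, neg_mul_neg, hε, C_1]
    ring
  have hrel : h = C (-ε) * h.reverse := by
    rw [reverse_mul_of_domain, hrX, mul_assoc] at hrev
    have h2 : (X - C ε) * (C (-ε) * h.reverse) = (X - C ε) * h := by
      rw [← hrev]; ring
    exact (mul_left_cancel₀ hXne h2).symm
  have hrel' : h.reverse = C (-ε) * h := by
    have := congrArg (fun p => C (-ε) * p) hrel
    simp only [← mul_assoc, ← C_mul, neg_mul_neg, hε, C_1, one_mul] at this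
    exact this.symm
  have hroot : h.eval ε = 0 :=
    eval_eq_zero_of_reverse h _ rfl ⟨n - 1, by omega⟩ (-ε) ε hε (by rw [neg_mul, hε]) hrel'
  obtain ⟨k, rfl⟩ := dvd_iff_isRoot.2 hroot
  exact ⟨k, by ring⟩

section matrix

open Matrix

variable {m : Type*} [Fintype m] [DecidableEq m]

/-- the characteristic polynomial of the inverse matrix -/
theorem reverse_charpoly_of_mul_eq_one (A B : Matrix m m F) (h : A * B = 1) :
    A.charpoly.reverse = C A.det * (-1) ^ Fintype.card m * B.charpoly := by
  rw [Matrix.reverse_charpoly, Matrix.charpolyRev]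
  have hAB : A.map C * B.map C = (1 : Matrix m m F[X]) := by
    rw [← Matrix.map_mul, h, Matrix.map_one _ C_0 C_1]
  have h1 : (1 : Matrix m m F[X]) - (X : F[X]) • A.map C =
      A.map C * (-(charmatrix B)) := by
    rw [charmatrix, neg_sub, Matrix.mul_sub, RingHom.mapMatrix_apply, hAB, Matrix.scalar_apply,
      ← Matrix.smul_one_eq_diagonal, Matrix.mul_smul, Matrix.mul_one]
  rw [h1, Matrix.det_mul, Matrix.det_neg, Matrix.charpoly]
  have h2 : (A.map C).det = C A.det := by
    have := (RingHom.map_det (C : F →+* F[X]) A).symm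
    rwa [RingHom.mapMatrix_apply] at this
  rw [h2]
  ring

/-- the characteristic polynomial of a symplectic matrix is palindromic -/
theorem charpoly_reverse_of_mem_symplectic {n : ℕ} (A : Matrix (Fin n ⊕ Fin n) (Fin n ⊕ Fin n) F)
    (hA : A ∈ symplecticGroup (Fin n) F) : A.charpoly.reverse = A.charpoly := by
  set g : symplecticGroup (Fin n) F := ⟨A, hA⟩ with hg
  have hinv : A * ((g⁻¹ : symplecticGroup (Fin n) F) : Matrix (Fin n ⊕ Fin n) (Fin n ⊕ Fin n) F) = 1 := by
    have := congrArg Subtype.val (mul_inv_cancel g)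
    exact this
  have hB : ((g⁻¹ : symplecticGroup (Fin n) F) : Matrix (Fin n ⊕ Fin n) (Fin n ⊕ Fin n) F).charpoly =
      A.charpoly := by
    rw [SymplecticGroup.coe_inv, Matrix.mul_assoc, Matrix.charpoly_mul_comm, Matrix.mul_assoc,
      Matrix.mul_neg, J_squared, neg_neg, Matrix.mul_one, Matrix.charpoly_transpose]
  rw [reverse_charpoly_of_mul_eq_one A _ hinv, hB, SymplecticGroup.det_eq_one hA, C_1, one_mul,
    Fintype.card_sum, Fintype.card_fin, ← two_mul, pow_mul, neg_one_sq, one_pow, one_mul]

end matrix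

end Cfsg.Agent.Lib.Helper40_Palindromic
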