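import Mathlib

set_option autoImplicit false

/-!
Semisimple endomorphisms of finite-dimensional vector spaces with the same characteristic
polynomial are conjugate.
-/

namespace Cfsg.Agent.Lib.Helper40_Semisimple

open Polynomial Module

universe u v

variable {F : Type v} [Field F]

section KeyLemma

variable {V : Type*} [AddCommGroup V] [Module F V] [Module.Finite F V]

open scoped TensorProduct in
/-- An irreducible factor of the characteristic polynomial kills a nonzero vector. -/
theorem det_aeval_eq_zero (φ : Module.End F V) (f : F[X]) (hf : Irreducible f)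
    (hdvd : f ∣ φ.charpoly) : LinearMap.det (aeval φ f) = 0 := by
  classical
  let L := AlgebraicClosure F
  obtain ⟨α, hα⟩ := IsAlgClosed.exists_root (f.map (algebraMap F L))
    (by
      rw [degree_map]
      exact (degree_pos_of_irreducible hf).ne')
  let ψ : Module.End L (L ⊗[F] V) := φ.baseChange L
  have hψ : ψ.charpoly = φ.charpoly.map (algebraMap F L) := LinearMap.charpoly_baseChange φ L
  have hroot : IsRoot ψ.charpoly α := by
    rw [hψ]
    obtain ⟨g, hg⟩ := hdvd
    rw [hg, Polynomial.map_mul, IsRoot.def, eval_mul, hα.eq_zero, zero_mul]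
  have heig : ψ.HasEigenvalue α := (Module.End.hasEigenvalue_iff_isRoot_charpoly ψ α).2 hroot
  obtain ⟨x, hx⟩ := heig.exists_hasEigenvector
  have h1 : aeval ψ (f.map (algebraMap F L)) x = 0 := by
    rw [Module.End.aeval_apply_of_hasEigenvector hx, hα.eq_zero, zero_smul]
  have h2 : aeval ψ (f.map (algebraMap F L)) = (aeval φ f).baseChange L := by
    rw [aeval_map_algebraMap]
    exact (aeval_algHom_apply (Module.End.baseChangeHom F L V) φ f)
  have h3 : LinearMap.det ((aeval φ f).baseChange L) = 0 := by
    rw [LinearMap.det_eq_zero_iff_ker_ne_bot]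
    intro hker
    have : x ∈ LinearMap.ker ((aeval φ f).baseChange L) := by
      rw [LinearMap.mem_ker, ← h2]; exact h1
    rw [hker, Submodule.mem_bot] at this
    exact hx.2 this
  rw [LinearMap.det_baseChange] at h3
  exact (map_eq_zero_iff _ (algebraMap F L).injective).1 h3

theorem exists_ne_zero_aeval_eq_zero (φ : Module.End F V) (f : F[X]) (hf : Irreducible f)
    (hdvd : f ∣ φ.charpoly) : ∃ v : V, v ≠ 0 ∧ aeval φ f v = 0 := by
  have h := LinearMap.bot_lt_ker_of_det_eq_zero (det_aeval_eq_zero φ f hf hdvd)
  obtain ⟨v, hv, hv0⟩ := Submodule.exists_mem_ne_zero_of_ne_bot h.ne'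
  exact ⟨v, hv0, hv⟩

end KeyLemma

section Compl

variable {V : Type*} [AddCommGroup V] [Module F V] [Module.Finite F V]

/-- The characteristic polynomial is multiplicative over invariant complementary subspaces. -/
theorem charpoly_eq_mul_of_isCompl (φ : Module.End F V) (Z C : Submodule F V)
    (hZ : ∀ x ∈ Z, φ x ∈ Z) (hC : ∀ x ∈ C, φ x ∈ C) (h : IsCompl Z C) :
    φ.charpoly = (φ.restrict hZ).charpoly * (φ.restrict hC).charpoly := by
  let e := Submodule.prodEquivOfIsCompl Z C h
  have hψ : (φ.restrict hZ).prodMap (φ.restrict hC) = e.symm.conj φ := by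
    apply LinearMap.ext
    rintro ⟨z, c⟩
    apply e.injective
    have h1 : e ((φ.restrict hZ).prodMap (φ.restrict hC) (z, c)) = φ z + φ c := by
      simp only [e, LinearMap.prodMap_apply, Submodule.coe_prodEquivOfIsCompl',
        LinearMap.coe_restrict_apply]
    have h2 : e ((e.symm.conj φ) (z, c)) = φ z + φ c := by
      rw [LinearEquiv.conj_apply, LinearMap.comp_apply, LinearMap.comp_apply]
      simp only [LinearEquiv.coe_coe, LinearEquiv.symm_symm, LinearEquiv.apply_symm_apply]
      simp only [e, Submodule.coe_prodEquivOfIsCompl', map_add]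
    rw [h1, h2]
  rw [← e.symm.charpoly_conj φ, ← hψ, LinearMap.charpoly_prodMap]

end Compl

section Cyclic

variable {V : Type*} [AddCommGroup V] [Module F V]

/-- the map `p ↦ p(φ) v` -/
noncomputable def orbitMap (φ : Module.End F V) (v : V) : F[X] →ₗ[F] V :=
  (LinearMap.applyₗ v).comp (aeval φ).toLinearMap

theorem orbitMap_apply (φ : Module.End F V) (v : V) (p : F[X]) :
    orbitMap φ v p = aeval φ p v := rfl

theorem orbitMap_eq_zero_iff (φ : Module.End F V) (v : V) (hv : v ≠ 0) (f : F[X])
    (hf : Irreducible f) (hfv : aeval φ f v = 0) (p : F[X]) :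
    orbitMap φ v p = 0 ↔ f ∣ p := by
  -- the annihilator ideal
  let I : Ideal F[X] :=
    { carrier := {p | aeval φ p v = 0}
      add_mem' := by
        intro p q hp hq
        simp only [Set.mem_ofPred_eq] at hp hq ⊢
        rw [map_add, LinearMap.add_apply, hp, hq, add_zero]
      zero_mem' := by simp
      smul_mem' := by
        intro c p hp
        simp only [Set.mem_ofPred_eq] at hp ⊢
        rw [smul_eq_mul, map_mul, Module.End.mul_apply, hp, map_zero] }
  have hmem : ∀ p, p ∈ I ↔ aeval φ p v = 0 := fun p => Iff.rfl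
  have hmax : (Ideal.span {f}).IsMaximal := PrincipalIdealRing.isMaximal_of_irreducible hf
  have hle : Ideal.span {f} ≤ I := by
    rw [Ideal.span_singleton_le_iff_mem]
    exact hfv
  have hne : I ≠ ⊤ := by
    intro htop
    have : (1 : F[X]) ∈ I := by rw [htop]; trivial
    rw [hmem, map_one] at this
    exact hv this
  have heq : Ideal.span {f} = I := hmax.eq_of_le hne hle
  rw [orbitMap_apply, ← hmem, ← heq, Ideal.mem_span_singleton]

theorem orbitMap_X_mul (φ : Module.End F V) (v : V) (p : F[X]) :
    orbitMap φ v (X * p) = φ (orbitMap φ v p) := by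
  rw [orbitMap_apply, orbitMap_apply, map_mul, aeval_X, Module.End.mul_apply]

end Cyclic

section Main

/-- Semisimple endomorphisms with the same characteristic polynomial are conjugate. -/
theorem exists_conj_of_charpoly_eq (d : ℕ) :
    ∀ {V W : Type u} [AddCommGroup V] [Module F V] [Module.Finite F V]
      [AddCommGroup W] [Module F W] [Module.Finite F W]
      (a : Module.End F V) (b : Module.End F W), finrank F V = d →
      a.IsSemisimple → b.IsSemisimple → a.charpoly = b.charpoly →
      ∃ e : V ≃ₗ[F] W, ∀ v, e (a v) = b (e v) := by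
  induction d using Nat.strong_induction_on with
  | _ d ih =>
  intro V W _ _ _ _ _ _ a b hd ha hb hc
  have hdW : finrank F W = d := by
    rw [← LinearMap.charpoly_natDegree b, ← hc, LinearMap.charpoly_natDegree, hd]
  rcases Nat.eq_zero_or_pos d with hd0 | hdpos
  · -- both spaces are trivial
    subst hd0
    have : Subsingleton V := Module.finrank_zero_iff.mp hd
    have : Subsingleton W := Module.finrank_zero_iff.mp hdW
    refine ⟨LinearEquiv.ofSubsingleton V W, fun v => Subsingleton.elim _ _⟩
  · -- pick an irreducible factor of the characteristic polynomial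
    have hmonic : a.charpoly.Monic := LinearMap.charpoly_monic a
    have hnotunit : ¬ IsUnit a.charpoly := by
      intro hu
      have := natDegree_eq_zero_of_isUnit hu
      rw [LinearMap.charpoly_natDegree, hd] at this
      omega
    obtain ⟨f, hf, hfa⟩ := WfDvdMonoid.exists_irreducible_factor hnotunit hmonic.ne_zero
    have hfb : f ∣ b.charpoly := hc ▸ hfa
    obtain ⟨v, hv0, hv⟩ := exists_ne_zero_aeval_eq_zero a f hf hfa
    obtain ⟨w, hw0, hw⟩ := exists_ne_zero_aeval_eq_zero b f hf hfb
    -- the cyclic subspaces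
    set ψa := orbitMap a v with hψa
    set ψb := orbitMap b w with hψb
    have hker : LinearMap.ker ψa = LinearMap.ker ψb := by
      ext p
      rw [LinearMap.mem_ker, LinearMap.mem_ker, orbitMap_eq_zero_iff a v hv0 f hf hv,
        orbitMap_eq_zero_iff b w hw0 f hf hw]
    set Za := LinearMap.range ψa with hZa
    set Zb := LinearMap.range ψb with hZb
    let eZ : Za ≃ₗ[F] Zb :=
      (ψa.quotKerEquivRange.symm.trans (Submodule.quotEquivOfEq _ _ hker)).trans
        ψb.quotKerEquivRange
    have heZ : ∀ p : F[X], eZ ⟨ψa p, LinearMap.mem_range_self ψa p⟩ =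
        ⟨ψb p, LinearMap.mem_range_self ψb p⟩ := by
      intro p
      simp only [eZ, LinearEquiv.trans_apply]
      rw [LinearMap.quotKerEquivRange_symm_apply_image, Submodule.mkQ_apply]
      rw [Submodule.quotEquivOfEq_mk]
      apply Subtype.ext
      rw [LinearMap.quotKerEquivRange_apply_mk]
    have hZa_inv : ∀ x ∈ Za, a x ∈ Za := by
      rintro _ ⟨p, rfl⟩
      exact ⟨X * p, orbitMap_X_mul a v p⟩
    have hZb_inv : ∀ x ∈ Zb, b x ∈ Zb := by
      rintro _ ⟨p, rfl⟩
      exact ⟨X * p, orbitMap_X_mul b w p⟩
    -- complements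
    obtain ⟨Ca, hCa_inv', hCa⟩ := (Module.End.isSemisimple_iff.1 ha) Za
      (by rw [Module.End.mem_invtSubmodule]; exact hZa_inv)
    obtain ⟨Cb, hCb_inv', hCb⟩ := (Module.End.isSemisimple_iff.1 hb) Zb
      (by rw [Module.End.mem_invtSubmodule]; exact hZb_inv)
    have hCa_inv : ∀ x ∈ Ca, a x ∈ Ca := by
      rw [Module.End.mem_invtSubmodule] at hCa_inv'; exact hCa_inv'
    have hCb_inv : ∀ x ∈ Cb, b x ∈ Cb := by
      rw [Module.End.mem_invtSubmodule] at hCb_inv'; exact hCb_inv'
    -- intertwining on the cyclic parts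
    have heZ_int : ∀ z : Za, eZ ((a.restrict hZa_inv) z) = (b.restrict hZb_inv) (eZ z) := by
      rintro ⟨_, ⟨p, rfl⟩⟩
      apply Subtype.ext
      have h1 : (a.restrict hZa_inv) ⟨ψa p, LinearMap.mem_range_self ψa p⟩ =
          ⟨ψa (X * p), LinearMap.mem_range_self ψa _⟩ := by
        apply Subtype.ext
        exact (orbitMap_X_mul a v p).symm
      rw [h1, heZ, heZ]
      exact orbitMap_X_mul b w p
    -- characteristic polynomials
    have hcha := charpoly_eq_mul_of_isCompl a Za Ca hZa_inv hCa_inv hCa
    have hchb := charpoly_eq_mul_of_isCompl b Zb Cb hZb_inv hCb_inv hCb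
    have hZchar : (a.restrict hZa_inv).charpoly = (b.restrict hZb_inv).charpoly := by
      have : b.restrict hZb_inv = eZ.conj (a.restrict hZa_inv) := by
        apply LinearMap.ext
        intro z
        rw [LinearEquiv.conj_apply, LinearMap.comp_apply, LinearMap.comp_apply]
        simp only [LinearEquiv.coe_coe]
        rw [heZ_int, LinearEquiv.apply_symm_apply]
      rw [this, LinearEquiv.charpoly_conj]
    have hCchar : (a.restrict hCa_inv).charpoly = (b.restrict hCb_inv).charpoly := by
      rw [hcha, hchb, hZchar] at hc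
      exact mul_left_cancel₀ (LinearMap.charpoly_monic _).ne_zero hc
    -- dimensions
    have hdim : finrank F Za + finrank F Ca = d := by
      rw [Submodule.finrank_add_eq_of_isCompl hCa, hd]
    have hZpos : 0 < finrank F Za := by
      rw [Module.finrank_pos_iff_exists_ne_zero]
      refine ⟨⟨v, ⟨1, ?_⟩⟩, ?_⟩
      · rw [orbitMap_apply, map_one]; rfl
      · intro h
        exact hv0 (congrArg Subtype.val h)
    have hClt : finrank F Ca < d := by omega
    -- induction
    obtain ⟨eC, heC⟩ := ih (finrank F Ca) hClt (a.restrict hCa_inv) (b.restrict hCb_inv) rfl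
      (ha.restrict (by rw [Module.End.mem_invtSubmodule]; exact hCa_inv))
      (hb.restrict (by rw [Module.End.mem_invtSubmodule]; exact hCb_inv)) hCchar
    -- glue
    let Ea := Submodule.prodEquivOfIsCompl Za Ca hCa
    let Eb := Submodule.prodEquivOfIsCompl Zb Cb hCb
    let e : V ≃ₗ[F] W := (Ea.symm.trans (eZ.prodCongr eC)).trans Eb
    have heZ' : ∀ z : Za, e (z : V) = (eZ z : W) := by
      intro z
      simp only [e, LinearEquiv.trans_apply, Ea, Eb]
      rw [Submodule.prodEquivOfIsCompl_symm_apply_left, LinearEquiv.prodCongr_apply]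
      simp [Submodule.coe_prodEquivOfIsCompl']
    have heC' : ∀ c : Ca, e (c : V) = (eC c : W) := by
      intro c
      simp only [e, LinearEquiv.trans_apply, Ea, Eb]
      rw [Submodule.prodEquivOfIsCompl_symm_apply_right, LinearEquiv.prodCongr_apply]
      simp [Submodule.coe_prodEquivOfIsCompl']
    refine ⟨e, fun x => ?_⟩
    obtain ⟨⟨z, c⟩, rfl⟩ := Ea.surjective x
    have hx : Ea (z, c) = (z : V) + (c : V) := Submodule.coe_prodEquivOfIsCompl' Za Ca hCa (z, c)
    rw [hx, map_add, map_add, map_add, heZ', heC']
    have h1 : a (z : V) = ((a.restrict hZa_inv) z : V) := rfl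
    have h2 : a (c : V) = ((a.restrict hCa_inv) c : V) := rfl
    rw [h1, h2, heZ', heC', heZ_int, heC, map_add]
    rfl

end Main

end Cfsg.Agent.Lib.Helper40_Semisimple
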