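import Mathlib
import Cfsg.Agent.Lib.Helper40_Semisimple

set_option autoImplicit false

/-!
Semisimple matrices: conjugacy from the characteristic polynomial, order prime to the
characteristic, existence with a prescribed characteristic polynomial.
-/

namespace Cfsg.Agent.Lib.Helper40_SemisimpleGL

open Polynomial Module

universe v

variable {F : Type v} [Field F] {n : ℕ}

/-- A square matrix is semisimple when the linear map it defines is. -/
def IsSS (A : Matrix (Fin n) (Fin n) F) : Prop :=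
  Module.End.IsSemisimple (Matrix.toLin' A : Module.End F (Fin n → F))

theorem aeval_toLin' (A : Matrix (Fin n) (Fin n) F) (r : F[X]) :
    aeval (Matrix.toLin' A) r = Matrix.toLin' (aeval A r) :=
  aeval_algHom_apply (Matrix.toLinAlgEquiv' : Matrix (Fin n) (Fin n) F ≃ₐ[F] _).toAlgHom A r

theorem isSS_of_squarefree_aeval_eq_zero (A : Matrix (Fin n) (Fin n) F) (r : F[X])
    (hr : Squarefree r) (h : aeval A r = 0) : IsSS A := by
  unfold IsSS
  apply Module.End.isSemisimple_of_squarefree_aeval_eq_zero hr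
  rw [aeval_toLin', h, map_zero]

theorem isSS_of_pow_eq_one (A : Matrix (Fin n) (Fin n) F) (m : ℕ) (hm : (m : F) ≠ 0)
    (h : A ^ m = 1) : IsSS A := by
  apply isSS_of_squarefree_aeval_eq_zero A (X ^ m - 1)
    ((X_pow_sub_one_separable_iff.2 hm).squarefree)
  rw [map_sub, map_pow, aeval_X, map_one, h, sub_self]

/-- Semisimple matrices with the same characteristic polynomial are conjugate under `GL`. -/
theorem exists_GL_conj (A B : Matrix (Fin n) (Fin n) F) (hA : IsSS A) (hB : IsSS B)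
    (hc : A.charpoly = B.charpoly) :
    ∃ P : GL (Fin n) F, (P : Matrix (Fin n) (Fin n) F) * A = B * P := by
  obtain ⟨e, he⟩ := Helper40_Semisimple.exists_conj_of_charpoly_eq (F := F) n
    (Matrix.toLin' A) (Matrix.toLin' B) (Module.finrank_fin_fun F) hA hB
    (by rw [Matrix.charpoly_toLin', Matrix.charpoly_toLin', hc])
  let P : Matrix (Fin n) (Fin n) F := LinearMap.toMatrix' (e : (Fin n → F) →ₗ[F] (Fin n → F))
  let Q : Matrix (Fin n) (Fin n) F :=
    LinearMap.toMatrix' (e.symm : (Fin n → F) →ₗ[F] (Fin n → F))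
  have hPQ : P * Q = 1 := by
    rw [← LinearMap.toMatrix'_comp, ← LinearMap.toMatrix'_id]
    congr 1
    ext x : 1
    simp
  have hQP : Q * P = 1 := by
    rw [← LinearMap.toMatrix'_comp, ← LinearMap.toMatrix'_id]
    congr 1
    ext x : 1
    simp
  refine ⟨⟨P, Q, hPQ, hQP⟩, ?_⟩
  show P * A = B * P
  have h1 : P * A = LinearMap.toMatrix' ((e : (Fin n → F) →ₗ[F] (Fin n → F)) ∘ₗ Matrix.toLin' A) := by
    rw [LinearMap.toMatrix'_comp, LinearMap.toMatrix'_toLin']
  have h2 : B * P = LinearMap.toMatrix' (Matrix.toLin' B ∘ₗ (e : (Fin n → F) →ₗ[F] (Fin n → F))) := by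
    rw [LinearMap.toMatrix'_comp, LinearMap.toMatrix'_toLin']
  rw [h1, h2]
  congr 1
  apply LinearMap.ext
  intro x
  exact he x

theorem isSS_pow (A : Matrix (Fin n) (Fin n) F) (hA : IsSS A) (k : ℕ) : IsSS (A ^ k) := by
  unfold IsSS at hA ⊢
  rw [Matrix.toLin'_pow]
  exact hA.pow k

/-- In characteristic `p`, a semisimple matrix with `U ^ p = 1` is the identity. -/
theorem eq_one_of_isSS_of_pow_eq_one (p : ℕ) [Fact p.Prime] [CharP F p]
    (U : Matrix (Fin n) (Fin n) F) (hU : IsSS U) (h : U ^ p = 1) : U = 1 := by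
  unfold IsSS at hU
  set u : Module.End F (Fin n → F) := Matrix.toLin' U with hu
  have hpoly : ((X : F[X]) - 1) ^ p = X ^ p - 1 := by
    rw [sub_pow_char, one_pow]
  have h1 : (u - 1) ^ p = 0 := by
    have h2 : aeval u (((X : F[X]) - 1) ^ p) = (u - 1) ^ p := by
      rw [map_pow, map_sub, aeval_X, map_one]
    have h3 : aeval u ((X : F[X]) ^ p - 1) = 0 := by
      rw [aeval_toLin', map_sub, map_pow, aeval_X, map_one, h, sub_self, map_zero]
    rw [← h2, hpoly, h3]
  have hnil : IsNilpotent (u - 1) := ⟨p, h1⟩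
  have hss : (u - 1).IsSemisimple := by
    have := (Module.End.isSemisimple_sub_algebraMap_iff (f := u) (μ := (1 : F))).2 hU
    rwa [map_one] at this
  have h0 : u - 1 = 0 := Module.End.eq_zero_of_isNilpotent_isSemisimple hnil hss
  have h4 : Matrix.toLin' U = Matrix.toLin' (1 : Matrix (Fin n) (Fin n) F) := by
    rw [Matrix.toLin'_one]
    exact sub_eq_zero.1 h0
  exact Matrix.toLin'.injective h4

theorem isSS_of_coprime_aux {G : Type*} [Group G] (φ : G →* Matrix (Fin n) (Fin n) F)
    (p : ℕ) [Fact p.Prime] [CharP F p] (g : G) (hg : (orderOf g).Coprime p) :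
    IsSS (φ g) := by
  have hp : p.Prime := Fact.out
  apply isSS_of_pow_eq_one (φ g) (orderOf g)
  · rw [Ne, CharP.cast_eq_zero_iff F p]
    intro hdvd
    have : p ∣ Nat.gcd (orderOf g) p := Nat.dvd_gcd hdvd dvd_rfl
    rw [hg] at this
    exact hp.one_lt.ne' (Nat.dvd_one.1 this)
  · rw [← map_pow, pow_orderOf_eq_one, map_one]

theorem coprime_of_isSS_aux {G : Type*} [Group G] (φ : G →* Matrix (Fin n) (Fin n) F)
    (hφ : Function.Injective φ) (p : ℕ) [Fact p.Prime] [CharP F p] (g : G)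
    (hfin : 0 < orderOf g) (hg : IsSS (φ g)) : (orderOf g).Coprime p := by
  have hp : p.Prime := Fact.out
  rw [Nat.coprime_comm, hp.coprime_iff_not_dvd]
  intro hdvd
  obtain ⟨k, hk⟩ := hdvd
  have hk0 : k ≠ 0 := by
    rintro rfl
    rw [mul_zero] at hk
    omega
  have hord : orderOf (g ^ k) = p := by
    rw [orderOf_pow_of_dvd hk0 ⟨p, by rw [hk, mul_comm]⟩, hk]
    exact Nat.mul_div_cancel _ (Nat.pos_of_ne_zero hk0)
  have h1 : (φ (g ^ k)) ^ p = 1 := by
    rw [← map_pow, ← hord, pow_orderOf_eq_one, map_one]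
  have h2 : φ (g ^ k) = 1 := by
    apply eq_one_of_isSS_of_pow_eq_one p _ _ h1
    rw [map_pow]
    exact isSS_pow _ hg k
  have h3 : g ^ k = 1 := hφ (by rw [h2, map_one])
  rw [h3, orderOf_one] at hord
  exact hp.one_lt.ne hord

/-- the coercion from `SL` to matrices as a monoid homomorphism -/
def slCoeHom (n : ℕ) (F : Type v) [Field F] :
    Matrix.SpecialLinearGroup (Fin n) F →* Matrix (Fin n) (Fin n) F where
  toFun g := (g : Matrix (Fin n) (Fin n) F)
  map_one' := rfl
  map_mul' _ _ := rfl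

theorem slCoeHom_apply (g : Matrix.SpecialLinearGroup (Fin n) F) :
    slCoeHom n F g = (g : Matrix (Fin n) (Fin n) F) := rfl

theorem slCoeHom_injective : Function.Injective (slCoeHom n F) :=
  fun _ _ h => Subtype.ext h

theorem isSS_of_coprime_GL (p : ℕ) [Fact p.Prime] [CharP F p] (g : GL (Fin n) F)
    (hg : (orderOf g).Coprime p) : IsSS (g : Matrix (Fin n) (Fin n) F) :=
  isSS_of_coprime_aux (G := (Matrix (Fin n) (Fin n) F)ˣ)
    (Units.coeHom (Matrix (Fin n) (Fin n) F)) p g hg

theorem isSS_of_coprime_SL (p : ℕ) [Fact p.Prime] [CharP F p]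
    (g : Matrix.SpecialLinearGroup (Fin n) F)
    (hg : (orderOf g).Coprime p) : IsSS (g : Matrix (Fin n) (Fin n) F) :=
  isSS_of_coprime_aux (slCoeHom n F) p g hg

theorem coprime_of_isSS_GL [Finite F] (p : ℕ) [Fact p.Prime] [CharP F p] (g : GL (Fin n) F)
    (hg : IsSS (g : Matrix (Fin n) (Fin n) F)) : (orderOf g).Coprime p :=
  coprime_of_isSS_aux (G := (Matrix (Fin n) (Fin n) F)ˣ)
    (Units.coeHom (Matrix (Fin n) (Fin n) F)) Units.val_injective p g (orderOf_pos g) hg

theorem coprime_of_isSS_SL [Finite F] (p : ℕ) [Fact p.Prime] [CharP F p]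
    (g : Matrix.SpecialLinearGroup (Fin n) F)
    (hg : IsSS (g : Matrix (Fin n) (Fin n) F)) : (orderOf g).Coprime p :=
  coprime_of_isSS_aux (slCoeHom n F) slCoeHom_injective p g (orderOf_pos g) hg

end Cfsg.Agent.Lib.Helper40_SemisimpleGL
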