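import Mathlib
import Cfsg.Agent.Lib.Helper40_SemisimpleGL

set_option autoImplicit false

/-!
Existence of a semisimple matrix with a prescribed characteristic polynomial.
-/

namespace Cfsg.Agent.Lib.Helper40_SemisimpleExist

open Polynomial Module Cfsg.Agent.Lib.Helper40_SemisimpleGL

universe v

variable {F : Type v} [Field F]

/-- multiplication by the root on `AdjoinRoot f` has characteristic polynomial `f` -/
theorem charpoly_lmul_root (f : F[X]) (hf : f.Monic) [Module.Finite F (AdjoinRoot f)] :
    (Algebra.lmul F (AdjoinRoot f) (AdjoinRoot.root f)).charpoly = f := by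
  have hf0 : f ≠ 0 := hf.ne_zero
  rw [← LinearMap.charpoly_toMatrix _ (AdjoinRoot.powerBasis hf0).basis,
    ← Algebra.leftMulMatrix_apply]
  have h := charpoly_leftMulMatrix (AdjoinRoot.powerBasis hf0)
  rw [AdjoinRoot.powerBasis_gen, AdjoinRoot.minpoly_root hf0, hf.leadingCoeff, inv_one,
    map_one, mul_one] at h
  exact h

theorem aeval_lmul_root (f r : F[X]) (h : f ∣ r) :
    aeval (Algebra.lmul F (AdjoinRoot f) (AdjoinRoot.root f)) r = 0 := by
  rw [aeval_algHom_apply, AdjoinRoot.aeval_eq, AdjoinRoot.mk_eq_zero.2 h, map_zero]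

theorem aeval_prodMap {V W : Type*} [AddCommGroup V] [Module F V] [AddCommGroup W] [Module F W]
    (a : Module.End F V) (b : Module.End F W) (r : F[X]) :
    aeval (a.prodMap b) r = (aeval a r).prodMap (aeval b r) := by
  have h := aeval_algHom_apply (LinearMap.prodMapAlgHom F V W) (a, b) r
  rw [aeval_prod_apply] at h
  exact h

/-- Every monic polynomial is the characteristic polynomial of an endomorphism killed by
every polynomial divisible by all its irreducible factors. -/
theorem exists_module_of_monic (k : ℕ) : ∀ c : F[X], c.Monic → c.natDegree = k →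
    ∃ (V : Type v) (_ : AddCommGroup V) (_ : Module F V) (_ : Module.Finite F V)
      (a : Module.End F V), a.charpoly = c ∧
        ∀ r : F[X], (∀ g, Irreducible g → g ∣ c → g ∣ r) → aeval a r = 0 := by
  induction k using Nat.strong_induction_on with
  | _ k ih =>
  intro c hc hk
  rcases Nat.eq_zero_or_pos k with hk0 | hkpos
  · subst hk0
    have hc1 : c = 1 := eq_one_of_monic_natDegree_zero hc hk
    refine ⟨PUnit.{v + 1}, inferInstance, inferInstance, inferInstance, 0, ?_, ?_⟩
    · have hm := LinearMap.charpoly_monic (0 : Module.End F PUnit.{v + 1})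
      have hd := LinearMap.charpoly_natDegree (0 : Module.End F PUnit.{v + 1})
      rw [finrank_zero_of_subsingleton] at hd
      rw [hc1]
      exact eq_one_of_monic_natDegree_zero hm hd
    · intro r _
      exact Subsingleton.elim _ _
  · have hnu : ¬ IsUnit c := by
      intro hu
      have := natDegree_eq_zero_of_isUnit hu
      omega
    obtain ⟨f, hfm, hfi, c', rfl⟩ := exists_monic_irreducible_factor c hnu
    have hc'm : c'.Monic := hfm.of_mul_monic_left hc
    have hdeg : (f * c').natDegree = f.natDegree + c'.natDegree := hfm.natDegree_mul hc'm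
    have hfpos : 0 < f.natDegree := hfi.natDegree_pos
    obtain ⟨V', _, _, _, a', ha'c, ha'r⟩ := ih c'.natDegree (by omega) c' hc'm rfl
    have : Module.Finite F (AdjoinRoot f) := hfm.finite_adjoinRoot
    refine ⟨AdjoinRoot f × V', inferInstance, inferInstance, inferInstance,
      (Algebra.lmul F (AdjoinRoot f) (AdjoinRoot.root f)).prodMap a', ?_, ?_⟩
    · rw [LinearMap.charpoly_prodMap, charpoly_lmul_root f hfm, ha'c]
    · intro r hr
      rw [aeval_prodMap, aeval_lmul_root f r (hr f hfi (dvd_mul_right f c')),
        ha'r r (fun g hg hgc => hr g hg (dvd_mul_of_dvd_right hgc f))]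
      exact LinearMap.prodMap_zero

/-- Every monic polynomial of degree `n` is the characteristic polynomial of a semisimple
`n × n` matrix. -/
theorem exists_matrix_of_monic (n : ℕ) (c : F[X]) (hc : c.Monic) (hn : c.natDegree = n) :
    ∃ A : Matrix (Fin n) (Fin n) F, A.charpoly = c ∧ IsSS A := by
  classical
  obtain ⟨V, _, _, _, a, hac, har⟩ := exists_module_of_monic n c hc hn
  have hfin : finrank F V = n := by rw [← LinearMap.charpoly_natDegree a, hac, hn]
  let b := Module.finBasisOfFinrankEq F V hfin
  refine ⟨LinearMap.toMatrix b b a, by rw [LinearMap.charpoly_toMatrix, hac], ?_⟩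
  apply isSS_of_squarefree_aeval_eq_zero _ (UniqueFactorizationMonoid.radical c)
    UniqueFactorizationMonoid.squarefree_radical
  have h1 : aeval (LinearMap.toMatrix b b a) (UniqueFactorizationMonoid.radical c) =
      LinearMap.toMatrixAlgEquiv b (aeval a (UniqueFactorizationMonoid.radical c)) :=
    aeval_algHom_apply (LinearMap.toMatrixAlgEquiv b).toAlgHom a _
  rw [h1, har _ (fun g hg hgc =>
    (UniqueFactorizationMonoid.dvd_radical_iff_of_irreducible hg hc.ne_zero).2 hgc), map_zero]

theorem det_of_charpoly (n : ℕ) (A : Matrix (Fin n) (Fin n) F) :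
    A.det = (-1) ^ n * A.charpoly.coeff 0 := by
  rw [Matrix.det_eq_sign_charpoly_coeff, Fintype.card_fin]

end Cfsg.Agent.Lib.Helper40_SemisimpleExist
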