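import Mathlib
import Cfsg.Agent.Lib.Helper40_SemisimpleExist
import Cfsg.Agent.Lib.Helper40_Palindromic

set_option autoImplicit false

/-!
Existence of nondegenerate alternating spaces with a semisimple isometry of prescribed
palindromic characteristic polynomial.
-/

namespace Cfsg.Agent.Lib.Helper40_SpExist

open Polynomial Module Cfsg.Agent.Lib.Helper40_SemisimpleExist
  Cfsg.Agent.Lib.Helper40_Palindromic

universe v

variable {F : Type v} [Field F]

/-- there is a nondegenerate alternating space with an isometry of characteristic polynomial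
`c` which is killed by every polynomial divisible by all irreducible factors of `c` -/
def HasSpModel (c : F[X]) : Prop :=
  ∃ (V : Type v) (_ : AddCommGroup V) (_ : Module F V) (_ : Module.Finite F V)
    (B : LinearMap.BilinForm F V) (a : Module.End F V),
    B.Nondegenerate ∧ (∀ x, B x x = 0) ∧ (∀ x y, B (a x) (a y) = B x y) ∧ a.charpoly = c ∧
    ∀ r : F[X], (∀ g, Irreducible g → g ∣ c → g ∣ r) → aeval a r = 0

theorem hasSpModel_one : HasSpModel (1 : F[X]) := by
  refine ⟨PUnit.{v + 1}, inferInstance, inferInstance, inferInstance, 0, 0, ?_, ?_, ?_, ?_, ?_⟩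
  · constructor <;> intro x _ <;> exact Subsingleton.elim _ _
  · intro x; rfl
  · intro x y; rfl
  · have hm := LinearMap.charpoly_monic (0 : Module.End F PUnit.{v + 1})
    have hd := LinearMap.charpoly_natDegree (0 : Module.End F PUnit.{v + 1})
    rw [finrank_zero_of_subsingleton] at hd
    exact eq_one_of_monic_natDegree_zero hm hd
  · intro r _
    exact Subsingleton.elim _ _

/-- orthogonal sums -/
theorem HasSpModel.mul {c₁ c₂ : F[X]} (h₁ : HasSpModel c₁) (h₂ : HasSpModel c₂) :
    HasSpModel (c₁ * c₂) := by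
  obtain ⟨V₁, _, _, _, B₁, a₁, hB₁, halt₁, hiso₁, hc₁, hk₁⟩ := h₁
  obtain ⟨V₂, _, _, _, B₂, a₂, hB₂, halt₂, hiso₂, hc₂, hk₂⟩ := h₂
  let B : LinearMap.BilinForm F (V₁ × V₂) :=
    LinearMap.mk₂ F (fun x y => B₁ x.1 y.1 + B₂ x.2 y.2)
      (by intro x x' y; simp only [Prod.fst_add, Prod.snd_add, map_add, LinearMap.add_apply]; abel)
      (by intro c x y; simp only [Prod.smul_fst, Prod.smul_snd, map_smul, LinearMap.smul_apply,
        smul_eq_mul]; ring)
      (by intro x y y'; simp only [Prod.fst_add, Prod.snd_add, map_add]; abel)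
      (by intro c x y; simp only [Prod.smul_fst, Prod.smul_snd, map_smul, smul_eq_mul]; ring)
  have hBapp : ∀ x y, B x y = B₁ x.1 y.1 + B₂ x.2 y.2 := fun x y => rfl
  refine ⟨V₁ × V₂, inferInstance, inferInstance, inferInstance, B, a₁.prodMap a₂,
    ⟨?_, ?_⟩, ?_, ?_, ?_, ?_⟩
  · intro x hx
    have h1 : x.1 = 0 := by
      apply hB₁.1
      intro y
      have := hx (y, 0)
      rw [hBapp] at this
      simpa using this
    have h2 : x.2 = 0 := by
      apply hB₂.1
      intro y
      have := hx (0, y)
      rw [hBapp] at this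
      simpa using this
    exact Prod.ext h1 h2
  · intro y hy
    have h1 : y.1 = 0 := by
      apply hB₁.2
      intro x
      have := hy (x, 0)
      rw [hBapp] at this
      simpa using this
    have h2 : y.2 = 0 := by
      apply hB₂.2
      intro x
      have := hy (0, x)
      rw [hBapp] at this
      simpa using this
    exact Prod.ext h1 h2
  · intro x
    rw [hBapp, halt₁, halt₂, add_zero]
  · intro x y
    rw [hBapp, hBapp]
    simp only [LinearMap.prodMap_apply]
    rw [hiso₁, hiso₂]
  · rw [LinearMap.charpoly_prodMap, hc₁, hc₂]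
  · intro r hr
    rw [aeval_prodMap, hk₁ r (fun g hg hgc => hr g hg (dvd_mul_of_dvd_left hgc _)),
      hk₂ r (fun g hg hgc => hr g hg (dvd_mul_of_dvd_right hgc _))]
    exact LinearMap.prodMap_zero

/-- the characteristic polynomial of the inverse endomorphism -/
theorem reverse_charpoly_of_mul_eq_one' {V : Type*} [AddCommGroup V] [Module F V]
    [Module.Finite F V] (g h : Module.End F V) (hgh : g * h = 1) :
    g.charpoly.reverse = C (LinearMap.det g) * (-1) ^ finrank F V * h.charpoly := by
  classical
  let b := Module.finBasis F V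
  have h1 : LinearMap.toMatrix b b g * LinearMap.toMatrix b b h = 1 := by
    rw [← LinearMap.toMatrix_mul, hgh, LinearMap.toMatrix_one]
  have h2 := reverse_charpoly_of_mul_eq_one _ _ h1
  rwa [LinearMap.charpoly_toMatrix, LinearMap.charpoly_toMatrix, LinearMap.det_toMatrix,
    Fintype.card_fin] at h2

section field

variable (f : F[X]) [hfi : Fact (Irreducible f)]

theorem root_ne_zero (h0 : f.coeff 0 ≠ 0) : AdjoinRoot.root f ≠ 0 := by
  intro h
  rw [← AdjoinRoot.mk_X, AdjoinRoot.mk_eq_zero] at h
  have h1 : Associated f X := hfi.out.associated_of_dvd irreducible_X h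
  have h2 : (X : F[X]) ∣ f := h1.symm.dvd
  exact h0 (X_dvd_iff.1 h2)

theorem charpoly_lmul_inv_root (hfm : f.Monic) (h0 : f.coeff 0 ≠ 0)
    [Module.Finite F (AdjoinRoot f)] :
    (Algebra.lmul F (AdjoinRoot f) (AdjoinRoot.root f)⁻¹).charpoly = recip f := by
  have hρ := root_ne_zero f h0
  have hmul : Algebra.lmul F (AdjoinRoot f) (AdjoinRoot.root f) *
      Algebra.lmul F (AdjoinRoot f) (AdjoinRoot.root f)⁻¹ = 1 := by
    rw [← map_mul, mul_inv_cancel₀ hρ, map_one]
  have h1 := reverse_charpoly_of_mul_eq_one' _ _ hmul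
  rw [LinearMap.det_eq_sign_charpoly_coeff, charpoly_lmul_root f hfm] at h1
  have h2 : C ((-1) ^ finrank F (AdjoinRoot f) * f.coeff 0) * (-1) ^ finrank F (AdjoinRoot f) =
      C (f.coeff 0) := by
    rw [C_mul, C_pow, C_neg, C_1]
    have : ((-1 : F[X]) ^ finrank F (AdjoinRoot f)) * ((-1 : F[X]) ^ finrank F (AdjoinRoot f)) = 1 := by
      rw [← mul_pow, neg_mul_neg, one_mul, one_pow]
    calc (-1 : F[X]) ^ finrank F (AdjoinRoot f) * C (f.coeff 0) * (-1) ^ finrank F (AdjoinRoot f)
        = ((-1 : F[X]) ^ finrank F (AdjoinRoot f) * (-1) ^ finrank F (AdjoinRoot f)) *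
            C (f.coeff 0) := by ring
      _ = C (f.coeff 0) := by rw [this, one_mul]
  rw [h2] at h1
  unfold recip
  rw [h1, ← mul_assoc, ← C_mul, inv_mul_cancel₀ h0, C_1, one_mul]

theorem aeval_inv_root_recip (h0 : f.coeff 0 ≠ 0) :
    aeval (AdjoinRoot.root f)⁻¹ (recip f) = 0 := by
  have hρ := root_ne_zero f h0
  let _ : Invertible (AdjoinRoot.root f) := invertibleOfNonzero hρ
  have h1 := eval₂_reverse_mul_pow (algebraMap F (AdjoinRoot f)) (AdjoinRoot.root f) f
  rw [invOf_eq_inv] at h1
  have h2 : eval₂ (algebraMap F (AdjoinRoot f)) (AdjoinRoot.root f) f = 0 := by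
    rw [← aeval_def, AdjoinRoot.aeval_eq, AdjoinRoot.mk_self]
  rw [h2] at h1
  have h3 : eval₂ (algebraMap F (AdjoinRoot f)) (AdjoinRoot.root f)⁻¹ f.reverse = 0 :=
    (mul_eq_zero.1 h1).resolve_right (pow_ne_zero _ hρ)
  unfold recip
  rw [map_mul, aeval_def _ f.reverse, h3, mul_zero]

theorem exists_dual_ne_zero (w : AdjoinRoot f) (hw : w ≠ 0) :
    ∃ τ : Module.Dual F (AdjoinRoot f), τ w ≠ 0 := by
  by_contra hcon
  apply hw
  rw [← Module.forall_dual_apply_eq_zero_iff F]
  intro φ
  by_contra h
  exact hcon ⟨φ, h⟩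

end field

/-- the hyperbolic piece -/
theorem hasSpModel_hyp (f : F[X]) (hfm : f.Monic) (hfi : Irreducible f) (h0 : f.coeff 0 ≠ 0) :
    HasSpModel (f * recip f) := by
  have : Fact (Irreducible f) := ⟨hfi⟩
  have : Module.Finite F (AdjoinRoot f) := hfm.finite_adjoinRoot
  have hρ := root_ne_zero f h0
  obtain ⟨τ, hτ⟩ := exists_dual_ne_zero f 1 one_ne_zero
  let B : LinearMap.BilinForm F (AdjoinRoot f × AdjoinRoot f) :=
    LinearMap.mk₂ F (fun x y => τ (x.1 * y.2) - τ (y.1 * x.2))
      (by intro x x' y; simp only [Prod.fst_add, Prod.snd_add, add_mul, mul_add, map_add]; abel)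
      (by intro c x y; simp only [Prod.smul_fst, Prod.smul_snd, smul_mul_assoc, mul_smul_comm,
        map_smul, smul_eq_mul]; ring)
      (by intro x y y'; simp only [Prod.fst_add, Prod.snd_add, add_mul, mul_add, map_add]; abel)
      (by intro c x y; simp only [Prod.smul_fst, Prod.smul_snd, smul_mul_assoc, mul_smul_comm,
        map_smul, smul_eq_mul]; ring)
  have hBapp : ∀ x y, B x y = τ (x.1 * y.2) - τ (y.1 * x.2) := fun x y => rfl
  have hskew : ∀ x y, B x y = - B y x := by
    intro x y
    rw [hBapp, hBapp, neg_sub]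
  have hleft : ∀ x, (∀ y, B x y = 0) → x = 0 := by
    intro x hx
    by_contra hx0
    have : x.1 ≠ 0 ∨ x.2 ≠ 0 := by
      by_contra hcon
      rw [not_or, not_not, not_not] at hcon
      exact hx0 (Prod.ext hcon.1 hcon.2)
    rcases this with h1 | h2
    · have := hx (0, x.1⁻¹)
      rw [hBapp] at this
      simp only [zero_mul, map_zero, sub_zero, mul_inv_cancel₀ h1] at this
      exact hτ this
    · have := hx (x.2⁻¹, 0)
      rw [hBapp] at this
      simp only [mul_zero, map_zero, zero_sub, inv_mul_cancel₀ h2, neg_eq_zero] at this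
      exact hτ this
  refine ⟨AdjoinRoot f × AdjoinRoot f, inferInstance, inferInstance, inferInstance, B,
    (Algebra.lmul F (AdjoinRoot f) (AdjoinRoot.root f)).prodMap
      (Algebra.lmul F (AdjoinRoot f) (AdjoinRoot.root f)⁻¹), ⟨hleft, ?_⟩, ?_, ?_, ?_, ?_⟩
  · intro y hy
    apply hleft
    intro x
    rw [hskew, hy, neg_zero]
  · intro x
    rw [hBapp, sub_self]
  · intro x y
    rw [hBapp, hBapp]
    simp only [LinearMap.prodMap_apply, Algebra.coe_lmul_eq_mul, LinearMap.mul_apply']
    have h1 : ∀ s t : AdjoinRoot f, AdjoinRoot.root f * s * ((AdjoinRoot.root f)⁻¹ * t) = s * t := by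
      intro s t
      have : AdjoinRoot.root f * s * ((AdjoinRoot.root f)⁻¹ * t) =
          (AdjoinRoot.root f * (AdjoinRoot.root f)⁻¹) * (s * t) := by ring
      rw [this, mul_inv_cancel₀ hρ, one_mul]
    rw [h1, h1]
  · rw [LinearMap.charpoly_prodMap, charpoly_lmul_root f hfm, charpoly_lmul_inv_root f hfm h0]
  · intro r hr
    have hf1 : f ∣ r := hr f hfi (dvd_mul_right _ _)
    have hf2 : recip f ∣ r := hr _ (irreducible_recip f hfi h0) (dvd_mul_left _ _)
    rw [aeval_prodMap, aeval_lmul_root f r hf1]
    have h2 : aeval (Algebra.lmul F (AdjoinRoot f) (AdjoinRoot.root f)⁻¹) r = 0 := by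
      rw [aeval_algHom_apply]
      obtain ⟨k, rfl⟩ := hf2
      rw [map_mul, aeval_inv_root_recip f h0, zero_mul, map_zero]
    rw [h2]
    exact LinearMap.prodMap_zero

/-- the self-dual piece -/
theorem hasSpModel_selfdual (f : F[X]) (hfm : f.Monic) (hfi : Irreducible f)
    (h0 : f.coeff 0 ≠ 0) (hr : recip f = f) (hne : ¬ f ∣ X ^ 2 - 1) : HasSpModel f := by
  have : Fact (Irreducible f) := ⟨hfi⟩
  have : Module.Finite F (AdjoinRoot f) := hfm.finite_adjoinRoot
  have hρ := root_ne_zero f h0
  set ρ := AdjoinRoot.root f with hρdef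
  set u := ρ⁻¹ with hudef
  have hρu : ρ * u = 1 := mul_inv_cancel₀ hρ
  have hu0 : u ≠ 0 := inv_ne_zero hρ
  -- the involution
  have hfu : f.eval₂ (Algebra.ofId F (AdjoinRoot f)) u = 0 := by
    have := aeval_inv_root_recip f h0
    rw [hr] at this
    exact this
  let σ : AdjoinRoot f →ₐ[F] AdjoinRoot f := AdjoinRoot.liftAlgHom f (Algebra.ofId F _) u hfu
  have hσρ : σ ρ = u := AdjoinRoot.liftAlgHom_root f _ u hfu
  have hσu : σ u = ρ := by
    have h1 : σ ρ * σ u = 1 := by rw [← map_mul, hρu, map_one]
    rw [hσρ] at h1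
    have h2 : u * σ u = u * ρ := by rw [h1, mul_comm, hρu]
    exact mul_left_cancel₀ hu0 h2
  have hσσ : ∀ x, σ (σ x) = x := by
    have : σ.comp σ = AlgHom.id F (AdjoinRoot f) := by
      apply AdjoinRoot.algHom_ext
      rw [AlgHom.comp_apply, AlgHom.id_apply]
      show σ (σ ρ) = ρ
      rw [hσρ, hσu]
    intro x
    have h := congrArg (fun φ : AdjoinRoot f →ₐ[F] AdjoinRoot f => φ x) this
    exact h
  have hρne : ρ - u ≠ 0 := by
    intro h
    apply hne
    rw [← AdjoinRoot.mk_eq_zero, map_sub, map_pow, AdjoinRoot.mk_X, map_one, sq]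
    show ρ * ρ - 1 = 0
    have h1 : ρ = u := sub_eq_zero.1 h
    nth_rewrite 2 [h1]
    rw [hρu, sub_self]
  obtain ⟨τ, hτ⟩ := exists_dual_ne_zero f (ρ - u) hρne
  let B : LinearMap.BilinForm F (AdjoinRoot f) :=
    LinearMap.mk₂ F (fun x y => τ (x * σ y) - τ (y * σ x))
      (by intro x x' y; simp only [add_mul, mul_add, map_add]; abel)
      (by intro c x y; simp only [smul_mul_assoc, mul_smul_comm, map_smul, smul_eq_mul]; ring)
      (by intro x y y'; simp only [add_mul, mul_add, map_add]; abel)
      (by intro c x y; simp only [smul_mul_assoc, mul_smul_comm, map_smul, smul_eq_mul]; ring)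
  have hBapp : ∀ x y, B x y = τ (x * σ y) - τ (y * σ x) := fun x y => rfl
  have hskew : ∀ x y, B x y = - B y x := by
    intro x y
    rw [hBapp, hBapp, neg_sub]
  have hleft : ∀ x, (∀ y, B x y = 0) → x = 0 := by
    intro x hx
    by_contra hx0
    have := hx (σ (x⁻¹ * ρ))
    have e1 : x * (x⁻¹ * ρ) = ρ := by rw [← mul_assoc, mul_inv_cancel₀ hx0, one_mul]
    have e2 : σ (x⁻¹ * ρ) * σ x = u := by
      rw [← map_mul]
      have : x⁻¹ * ρ * x = ρ := by
        rw [mul_comm, ← mul_assoc, mul_inv_cancel₀ hx0, one_mul]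
      rw [this, hσρ]
    rw [hBapp, hσσ, e1, e2, ← map_sub] at this
    exact hτ this
  refine ⟨AdjoinRoot f, inferInstance, inferInstance, inferInstance, B,
    Algebra.lmul F (AdjoinRoot f) ρ, ⟨hleft, ?_⟩, ?_, ?_, ?_, ?_⟩
  · intro y hy
    apply hleft
    intro x
    rw [hskew, hy, neg_zero]
  · intro x
    rw [hBapp, sub_self]
  · intro x y
    rw [hBapp, hBapp]
    simp only [Algebra.coe_lmul_eq_mul, LinearMap.mul_apply']
    have h1 : ∀ s t : AdjoinRoot f, ρ * s * σ (ρ * t) = s * σ t := by
      intro s t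
      rw [map_mul, hσρ]
      calc ρ * s * (u * σ t) = (ρ * u) * (s * σ t) := by ring
        _ = s * σ t := by rw [hρu, one_mul]
    rw [h1, h1]
  · exact charpoly_lmul_root f hfm
  · intro r hr'
    exact aeval_lmul_root f r (hr' f hfi dvd_rfl)

theorem reverse_mul_recip (f : F[X]) (hfm : f.Monic) (h0 : f.coeff 0 ≠ 0) :
    (f * recip f).reverse = f * recip f := by
  have h1 : (recip f).coeff 0 ≠ 0 := by
    rw [recip_coeff_zero f hfm]
    exact inv_ne_zero h0
  rw [reverse_mul_of_domain, reverse_eq_mul_recip f h0, reverse_eq_mul_recip (recip f) h1,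
    recip_recip f hfm h0, recip_coeff_zero f hfm]
  calc C (f.coeff 0) * recip f * (C (f.coeff 0)⁻¹ * f)
      = C (f.coeff 0 * (f.coeff 0)⁻¹) * (f * recip f) := by rw [C_mul]; ring
    _ = f * recip f := by rw [mul_inv_cancel₀ h0, C_1, one_mul]

theorem eq_X_sub_C_of_dvd (f : F[X]) (hfm : f.Monic) (hfi : Irreducible f) (ε : F)
    (h : f ∣ X - C ε) : f = X - C ε :=
  eq_of_monic_of_associated hfm (monic_X_sub_C ε)
    (hfi.associated_of_dvd (irreducible_X_sub_C ε) h)

theorem X_sq_sub_one_eq : (X : F[X]) ^ 2 - 1 = (X - C 1) * (X - C (-1)) := by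
  rw [C_neg, C_1]
  ring

/-- every monic palindromic polynomial of even degree is the characteristic polynomial of a
semisimple isometry of a nondegenerate alternating form -/
theorem exists_sp_model (k : ℕ) : ∀ c : F[X], c.Monic → c.natDegree = 2 * k → c.reverse = c →
    HasSpModel c := by
  induction k using Nat.strong_induction_on with
  | _ k ih =>
  intro c hc hk hrev
  rcases Nat.eq_zero_or_pos k with hk0 | hkpos
  · subst hk0
    rw [eq_one_of_monic_natDegree_zero hc hk]
    exact hasSpModel_one
  · have hnu : ¬ IsUnit c := by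
      intro hu
      have := natDegree_eq_zero_of_isUnit hu
      omega
    have hc0 : c.coeff 0 = 1 := coeff_zero_of_reverse_eq c hc hrev
    have hrc : recip c = c := recip_of_reverse_eq c hc hrev
    obtain ⟨f, hfm, hfi, c', hcc'⟩ := exists_monic_irreducible_factor c hnu
    have hc'm : c'.Monic := by
      rw [hcc'] at hc
      exact hfm.of_mul_monic_left hc
    have hf0 : f.coeff 0 ≠ 0 := by
      intro h
      rw [hcc', mul_coeff_zero, h, zero_mul] at hc0
      exact zero_ne_one hc0
    have hfpos : 0 < f.natDegree := hfi.natDegree_pos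
    have hdeg : c.natDegree = f.natDegree + c'.natDegree := by
      rw [hcc']
      exact hfm.natDegree_mul hc'm
    have hrfm : (recip f).Monic := recip_monic f hf0
    have hrfi : Irreducible (recip f) := irreducible_recip f hfi hf0
    have hrfdeg : (recip f).natDegree = f.natDegree := recip_natDegree f hf0
    -- the common treatment of the hyperbolic cases
    have hyp : ∀ c'' : F[X], c = f * recip f * c'' → HasSpModel c := by
      intro c'' hc''
      have hpm : (f * recip f).Monic := hfm.mul hrfm
      have hc''m : c''.Monic := by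
        rw [hc''] at hc
        exact hpm.of_mul_monic_left hc
      have hdeg2 : c.natDegree = f.natDegree + f.natDegree + c''.natDegree := by
        rw [hc'', hpm.natDegree_mul hc''m, hfm.natDegree_mul hrfm, hrfdeg]
      have hrev'' : c''.reverse = c'' := by
        have h1 := hrev
        rw [hc'', reverse_mul_of_domain, reverse_mul_recip f hfm hf0] at h1
        exact mul_left_cancel₀ hpm.ne_zero h1
      have h2 := ih (k - f.natDegree) (by omega) c'' hc''m (by omega) hrev''
      rw [hc'']
      exact (hasSpModel_hyp f hfm hfi hf0).mul h2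
    have hrdvd : recip f ∣ c := by
      have := recip_dvd (show f ∣ c from ⟨c', hcc'⟩)
      rwa [hrc] at this
    by_cases hfr : recip f = f
    · by_cases hsq : f * f ∣ c
      · obtain ⟨c'', hc''⟩ := hsq
        apply hyp c''
        rw [hfr, hc'']
      · -- the self-dual case
        have hne : ¬ f ∣ X ^ 2 - 1 := by
          intro hdvd
          rw [X_sq_sub_one_eq] at hdvd
          have key : ∀ ε : F, ε * ε = 1 → f ∣ X - C ε → False := by
            intro ε hε hd
            have hfe := eq_X_sub_C_of_dvd f hfm hfi ε hd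
            have h1 := sq_dvd_of_reverse_eq c hrev k hk ε hε (by rw [← hfe]; exact ⟨c', hcc'⟩)
            rw [← hfe, sq] at h1
            exact hsq h1
          rcases hfi.prime.dvd_or_dvd hdvd with h | h
          · exact key 1 (by ring) h
          · exact key (-1) (by ring) h
        have hdvd_of_root : ∀ ε : F, ε * ε = 1 → f.eval ε = 0 → False := by
          intro ε hε hroot
          have h1 : (X - C ε) ∣ f := dvd_iff_isRoot.2 hroot
          have h2 : Associated (X - C ε) f :=
            (irreducible_X_sub_C ε).associated_of_dvd hfi h1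
          have h3 : f ∣ X - C ε := h2.symm.dvd
          apply hne
          rw [X_sq_sub_one_eq]
          have hε' : ε = 1 ∨ ε = -1 := by
            have : (ε - 1) * (ε + 1) = 0 := by ring_nf; rw [sq, hε]; ring
            rcases mul_eq_zero.1 this with h | h
            · exact Or.inl (sub_eq_zero.1 h)
            · exact Or.inr (eq_neg_of_add_eq_zero_left h)
          rcases hε' with rfl | rfl
          · exact dvd_mul_of_dvd_left h3 _
          · exact dvd_mul_of_dvd_right h3 _
        have hf01 : f.coeff 0 = 1 :=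
          coeff_zero_eq_one_of_recip_eq f hf0 hfr (fun h => hdvd_of_root 1 (by ring) h)
        have hfrev : f.reverse = f := reverse_eq_of_recip_eq f hf01 hfr
        have hfeven : Even f.natDegree := by
          by_contra hodd
          rw [Nat.not_even_iff_odd] at hodd
          exact hdvd_of_root (-1) (by ring) (eval_neg_one_of_reverse_eq f hfrev hodd)
        obtain ⟨d, hd⟩ := hfeven
        have hrev' : c'.reverse = c' := by
          have h1 := hrev
          rw [hcc', reverse_mul_of_domain, hfrev] at h1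
          exact mul_left_cancel₀ hfm.ne_zero h1
        have h2 := ih (k - d) (by omega) c' hc'm (by omega) hrev'
        rw [hcc']
        exact (hasSpModel_selfdual f hfm hfi hf0 hfr hne).mul h2
    · -- `f` and its reciprocal are coprime
      have h1 : recip f ∣ f * c' := by rw [← hcc']; exact hrdvd
      rcases hrfi.prime.dvd_or_dvd h1 with h | h
      · exfalso
        apply hfr
        exact eq_of_monic_of_associated hrfm hfm (hrfi.associated_of_dvd hfi h)
      · obtain ⟨c'', hc''⟩ := h
        apply hyp c''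
        rw [hcc', hc'', mul_assoc]


end Cfsg.Agent.Lib.Helper40_SpExist
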