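import Mathlib

/-!
# Sylow `r`-subgroups of `GL_n(q)` for primes `r > n` (helper40)

Ingredients: cyclic-group embeddings of `ZMod N`, the torus `(K^×)^k ≤ GL_n(F)` for a degree-`e`
extension `K/F` with `e k ≤ n`, the `r`-part of `|GL_n(q)|`, and the cyclotomic value.
-/

set_option autoImplicit false
open scoped MatrixGroups

namespace Cfsg.Agent.Lib.Helper40_SylowLarge

/-- In a finite cyclic group, every divisor of the order is the order of an element. -/
theorem exists_orderOf_eq_of_dvd {G : Type*} [Group G] [Finite G] [IsCyclic G] {N : ℕ}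
    (hN : N ∣ Nat.card G) : ∃ g : G, orderOf g = N := by
  obtain ⟨g, hg⟩ := IsCyclic.exists_ofOrder_eq_natCard (α := G)
  obtain ⟨m, hm⟩ := hN
  have hpos : 0 < Nat.card G := Nat.card_pos
  refine ⟨g ^ m, ?_⟩
  have hm0 : m ≠ 0 := by
    rintro rfl
    simp at hm
    omega
  rw [orderOf_pow_of_dvd hm0 (by rw [hg, hm]; exact dvd_mul_left _ _), hg, hm]
  exact Nat.mul_div_cancel _ (Nat.pos_of_ne_zero hm0)

/-- A finite cyclic group contains a copy of `ZMod N` for every divisor `N` of its order. -/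
theorem exists_zmod_embedding {G : Type*} [Group G] [Finite G] [IsCyclic G] {N : ℕ}
    (hN : N ∣ Nat.card G) :
    ∃ f : Multiplicative (ZMod N) →* G, Function.Injective f := by
  obtain ⟨g, hg⟩ := exists_orderOf_eq_of_dvd hN
  have hgen : ∀ x : Subgroup.zpowers g, x ∈ Subgroup.zpowers (⟨g, Subgroup.mem_zpowers g⟩ : Subgroup.zpowers g) := by
    rintro ⟨x, hx⟩
    obtain ⟨k, rfl⟩ := Subgroup.mem_zpowers_iff.mp hx
    exact Subgroup.mem_zpowers_iff.mpr ⟨k, by ext; simp⟩
  have hcard : Nat.card (Subgroup.zpowers g) = N := by rw [Nat.card_zpowers, hg]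
  let e := zmodMulEquivOfGenerator hgen hcard
  exact ⟨(Subgroup.zpowers g).subtype.comp e.toMonoidHom,
    (Subgroup.subtype_injective _).comp e.injective⟩

/-- If a group `H` of order the full `r`-part of `|G|` embeds in `G`, every Sylow `r`-subgroup of `G` is
isomorphic to `H`. -/
theorem sylow_mulEquiv_of_injective {G H : Type*} [Group G] [Finite G] [Group H] (r : ℕ)
    [Fact r.Prime] (f : H →* G) (hf : Function.Injective f)
    (hcard : Nat.card H = r ^ (Nat.card G).factorization r) (P : Sylow r G) :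
    Nonempty (↥(P : Subgroup G) ≃* H) := by
  have e1 : H ≃* f.range := MonoidHom.ofInjective hf
  have hc : Nat.card f.range = r ^ (Nat.card G).factorization r := by
    rw [← hcard]; exact (Nat.card_congr e1.toEquiv).symm
  let Q : Sylow r G := Sylow.ofCard f.range hc
  obtain ⟨g, hg⟩ := MulAction.exists_smul_eq G Q P
  have e2 : ↥(Q : Subgroup G) ≃* ↥((g • Q : Sylow r G) : Subgroup G) := Sylow.equivSMul Q g
  rw [hg] at e2
  exact ⟨e2.symm.trans e1.symm⟩

section torus
variable {F K : Type*} [Field F] [Field K] [Algebra F K]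

/-- The action of `A = K^k` on `A × F^m`: multiplication on the first factor. -/
noncomputable def torusRep (k m : ℕ) : (Fin k → K) →* Module.End F ((Fin k → K) × (Fin m → F)) where
  toFun c := (Algebra.lmul F (Fin k → K) c).prodMap LinearMap.id
  map_one' := by
    ext x <;> simp
  map_mul' c d := by
    ext x <;> simp [mul_assoc]

theorem torusRep_injective (k m : ℕ) : Function.Injective (torusRep (F := F) (K := K) k m) := by
  intro c d h
  have := congrArg (fun f => (f ((1 : Fin k → K), (0 : Fin m → F))).1) h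
  simpa [torusRep] using this

theorem exists_torus_embedding [FiniteDimensional F K] (k n : ℕ)
    (h : Module.finrank F K * k ≤ n) :
    ∃ Φ : (Fin k → Kˣ) →* GL (Fin n) F, Function.Injective Φ := by
  classical
  obtain ⟨m, hm⟩ : ∃ m, n = Module.finrank F K * k + m := ⟨n - Module.finrank F K * k, by omega⟩
  have hV : Module.finrank F ((Fin k → K) × (Fin m → F)) = n := by
    rw [Module.finrank_prod, Module.finrank_pi_fintype, Module.finrank_fin_fun, hm]
    simp [mul_comm]
  let b : Module.Basis (Fin n) F ((Fin k → K) × (Fin m → F)) := Module.finBasisOfFinrankEq F _ hV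
  let Ψ : Module.End F ((Fin k → K) × (Fin m → F)) ≃ₐ[F] Matrix (Fin n) (Fin n) F :=
    LinearMap.toMatrixAlgEquiv b
  let ρ : (Fin k → K) →* Matrix (Fin n) (Fin n) F :=
    (Ψ : Module.End F ((Fin k → K) × (Fin m → F)) →* Matrix (Fin n) (Fin n) F).comp (torusRep k m)
  have hρ : Function.Injective ρ := Ψ.injective.comp (torusRep_injective k m)
  refine ⟨(Units.map ρ).comp (MulEquiv.piUnits (M := fun _ : Fin k => K)).symm.toMonoidHom, ?_⟩
  exact (Units.map_injective hρ).comp (MulEquiv.piUnits (M := fun _ : Fin k => K)).symm.injective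

end torus

section nt
variable (r : ℕ) [Fact r.Prime]

/-- `r ∣ q^j - 1` iff the order of `q` mod `r` divides `j`. -/
theorem dvd_pow_sub_one_iff {q : ℕ} (hq : 1 ≤ q) (j : ℕ) :
    r ∣ q ^ j - 1 ↔ orderOf (q : ZMod r) ∣ j := by
  have h1 : 1 ≤ q ^ j := Nat.one_le_pow _ _ hq
  rw [orderOf_dvd_iff_pow_eq_one, ← ZMod.natCast_eq_zero_iff, Nat.cast_sub h1, sub_eq_zero]
  simp

theorem orderOf_pos_of_not_dvd {q : ℕ} (hrq : ¬ r ∣ q) : 0 < orderOf (q : ZMod r) := by
  have hu : IsUnit (q : ZMod r) := by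
    rw [ZMod.isUnit_iff_coprime]
    exact ((Nat.Prime.coprime_iff_not_dvd (Fact.out : r.Prime)).mpr hrq).symm
  obtain ⟨u, hu⟩ := hu
  rw [← hu, orderOf_units]
  exact orderOf_pos u

/-- If `Q ≡ 1 mod r` and `0 < m < r` then `v_r(Q^m - 1) = v_r(Q - 1)`. -/
theorem padicValNat_pow_sub_one {Q : ℕ} (hQ : 1 ≤ Q) (hQr : r ∣ Q - 1) {m : ℕ} (hm0 : 0 < m)
    (hmr : m < r) : padicValNat r (Q ^ m - 1) = padicValNat r (Q - 1) := by
  have h2 : 1 ≤ Q ^ m := Nat.one_le_pow _ _ hQ
  have key : (Q - 1) * ∑ i ∈ Finset.range m, Q ^ i = Q ^ m - 1 := by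
    zify [hQ, h2]
    exact mul_geom_sum _ _
  have hQ1 : (Q : ZMod r) = 1 := by
    have := (ZMod.natCast_eq_zero_iff (Q - 1) r).mpr hQr
    rw [Nat.cast_sub hQ, sub_eq_zero] at this
    simpa using this
  have hS : ¬ r ∣ ∑ i ∈ Finset.range m, Q ^ i := by
    rw [← ZMod.natCast_eq_zero_iff]
    push_cast
    rw [hQ1]
    simp only [one_pow, Finset.sum_const, Finset.card_range, nsmul_eq_mul, mul_one]
    rw [ZMod.natCast_eq_zero_iff]
    exact Nat.not_dvd_of_pos_of_lt hm0 hmr
  by_cases hQ1' : Q - 1 = 0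
  · have : Q = 1 := by omega
    subst this
    simp
  have hS0 : ∑ i ∈ Finset.range m, Q ^ i ≠ 0 := by
    intro h
    exact hS (h ▸ dvd_zero _)
  rw [← key, padicValNat.mul hQ1' hS0, padicValNat.eq_zero_of_not_dvd hS, add_zero]

/-- `v_r(q^j - 1)` for `1 ≤ j < r`. -/
theorem padicValNat_pow_sub_one_eq {q : ℕ} (hq : 1 ≤ q) (hrq : ¬ r ∣ q) {j : ℕ} (hj0 : 0 < j)
    (hjr : j < r) :
    padicValNat r (q ^ j - 1) =
      if orderOf (q : ZMod r) ∣ j then padicValNat r (q ^ orderOf (q : ZMod r) - 1) else 0 := by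
  split_ifs with h
  · obtain ⟨m, rfl⟩ := h
    have he := orderOf_pos_of_not_dvd r hrq
    have hm0 : 0 < m := by
      rcases Nat.eq_zero_or_pos m with h | h
      · subst h; simp at hj0
      · exact h
    have hmr : m < r := lt_of_le_of_lt (Nat.le_mul_of_pos_left m he) hjr
    rw [pow_mul]
    exact padicValNat_pow_sub_one r (Nat.one_le_pow _ _ hq)
      ((dvd_pow_sub_one_iff r hq _).mpr dvd_rfl) hm0 hmr
  · exact padicValNat.eq_zero_of_not_dvd (fun hd => h ((dvd_pow_sub_one_iff r hq j).mp hd))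

/-- The `r`-part of `|GL_n(q)|` for `n < r`. -/
theorem factorization_glCard {q : ℕ} (hq : 2 ≤ q) (hrq : ¬ r ∣ q) {n : ℕ} (hnr : n < r) :
    (∏ i : Fin n, (q ^ n - q ^ (i : ℕ))).factorization r =
      (n / orderOf (q : ZMod r)) * padicValNat r (q ^ orderOf (q : ZMod r) - 1) := by
  have hr : r.Prime := Fact.out
  have hq1 : 1 ≤ q := by omega
  rw [Fin.prod_univ_eq_prod_range (fun i => q ^ n - q ^ i) n]
  have hne : ∀ i ∈ Finset.range n, q ^ n - q ^ i ≠ 0 := by
    intro i hi
    have : q ^ i < q ^ n := Nat.pow_lt_pow_right (by omega) (Finset.mem_range.mp hi)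
    omega
  rw [Nat.factorization_prod hne, Finsupp.finsetSum_apply]
  have h1 : ∀ i ∈ Finset.range n, (q ^ n - q ^ i).factorization r =
      (fun j => if orderOf (q : ZMod r) ∣ j + 1 then
        padicValNat r (q ^ orderOf (q : ZMod r) - 1) else 0) (n - 1 - i) := by
    intro i hi
    have hi' := Finset.mem_range.mp hi
    have e1 : q ^ n - q ^ i = q ^ i * (q ^ (n - 1 - i + 1) - 1) := by
      have : n = i + (n - 1 - i + 1) := by omega
      conv_lhs => rw [this, pow_add]
      rw [Nat.mul_sub, mul_one]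
    have h0 : q ^ (n - 1 - i + 1) - 1 ≠ 0 := by
      have : 1 < q ^ (n - 1 - i + 1) := Nat.one_lt_pow (by omega) (by omega)
      omega
    rw [e1, Nat.factorization_mul (pow_ne_zero _ (by omega)) h0, Finsupp.add_apply,
      Nat.factorization_pow, Finsupp.smul_apply, Nat.factorization_eq_zero_of_not_dvd hrq,
      smul_zero, zero_add, Nat.factorization_def _ hr]
    exact padicValNat_pow_sub_one_eq r hq1 hrq (by omega) (by omega)
  rw [Finset.sum_congr rfl h1, Finset.sum_range_reflect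
    (fun j => if orderOf (q : ZMod r) ∣ j + 1 then
        padicValNat r (q ^ orderOf (q : ZMod r) - 1) else 0) n,
    ← Finset.sum_filter, Finset.sum_const, Nat.card_multiples, smul_eq_mul]

end nt

section nt2
variable (r : ℕ) [Fact r.Prime]

/-- The `r`-part of `q^e - 1` is the `r`-part of `Φ_e(q)`, `e` the order of `q` mod `r`. -/
theorem padicValNat_cyclotomic {q : ℕ} (hq : 2 ≤ q) (hrq : ¬ r ∣ q) :
    padicValNat r ((Polynomial.cyclotomic (orderOf (q : ZMod r)) ℤ).eval (q : ℤ)).natAbs =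
      padicValNat r (q ^ orderOf (q : ZMod r) - 1) := by
  have hr : r.Prime := Fact.out
  have hq1 : 1 ≤ q := by omega
  set e := orderOf (q : ZMod r) with he
  have he0 : 0 < e := orderOf_pos_of_not_dvd r hrq
  have h1 : 1 ≤ q ^ e := Nat.one_le_pow _ _ hq1
  have hprod : ((q ^ e - 1 : ℕ) : ℤ) =
      ∏ d ∈ Nat.divisors e, (Polynomial.cyclotomic d ℤ).eval (q : ℤ) := by
    rw [← Polynomial.eval_prod, Polynomial.prod_cyclotomic_eq_X_pow_sub_one he0]
    simp [Nat.cast_sub h1]
  have hnat : q ^ e - 1 =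
      ((Polynomial.cyclotomic e ℤ).eval (q : ℤ)).natAbs *
        ∏ d ∈ Nat.properDivisors e, ((Polynomial.cyclotomic d ℤ).eval (q : ℤ)).natAbs := by
    have := congrArg Int.natAbs hprod
    rw [Int.natAbs_natCast, ← Nat.cons_self_properDivisors he0.ne', Finset.prod_cons,
      Int.natAbs_mul] at this
    rw [this]
    congr 1
    exact map_prod Int.natAbsHom _ _
  have hne : q ^ e - 1 ≠ 0 := by
    have : 1 < q ^ e := Nat.one_lt_pow he0.ne' (by omega)
    omega
  have hC : ¬ r ∣ ∏ d ∈ Nat.properDivisors e, ((Polynomial.cyclotomic d ℤ).eval (q : ℤ)).natAbs := by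
    intro hd
    obtain ⟨d, hd1, hd2⟩ := (Prime.dvd_finsetProd_iff hr.prime _).mp hd
    rw [Nat.mem_properDivisors] at hd1
    have hd0 : 0 < d := Nat.pos_of_dvd_of_pos hd1.1 he0
    have h3 : ((Polynomial.cyclotomic d ℤ).eval (q : ℤ)) ∣ ((q ^ d - 1 : ℕ) : ℤ) := by
      have := Polynomial.eval_dvd (x := (q : ℤ)) (Polynomial.cyclotomic.dvd_X_pow_sub_one d ℤ)
      simpa [Nat.cast_sub (Nat.one_le_pow d q hq1)] using this
    have h4 : r ∣ q ^ d - 1 := by
      have := Int.natAbs_dvd_natAbs.mpr h3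
      rw [Int.natAbs_natCast] at this
      exact hd2.trans this
    have h5 := (dvd_pow_sub_one_iff r hq1 d).mp h4
    exact absurd (Nat.le_of_dvd hd0 h5) (by omega)
  have hA0 : ((Polynomial.cyclotomic e ℤ).eval (q : ℤ)).natAbs ≠ 0 := by
    intro h; rw [h, zero_mul] at hnat; exact hne hnat
  have hC0 : ∏ d ∈ Nat.properDivisors e, ((Polynomial.cyclotomic d ℤ).eval (q : ℤ)).natAbs ≠ 0 := by
    intro h; rw [h, mul_zero] at hnat; exact hne hnat
  rw [hnat, padicValNat.mul hA0 hC0, padicValNat.eq_zero_of_not_dvd hC, add_zero]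

end nt2

end Cfsg.Agent.Lib.Helper40_SylowLarge
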