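import Mathlib
import Cfsg.Agent.Lib.Helper40_SpExist
import Cfsg.Agent.Lib.Helper40_SylowLarge

set_option autoImplicit false

/-!
Irreducible polynomials over a finite field and their roots in `AdjoinRoot`: orders of roots,
degrees, and the Frobenius criterion for self-reciprocity.
-/

namespace Cfsg.Agent.Lib.Helper40_FrobConj

open Polynomial Module Cfsg.Agent.Lib.Helper40_Palindromic Cfsg.Agent.Lib.Helper40_SpExist

variable {F : Type*} [Field F]

/-- `ρ ^ N = 1` iff `f ∣ X ^ N - 1` -/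
theorem root_pow_eq_one_iff (f : F[X]) (N : ℕ) :
    (AdjoinRoot.root f) ^ N = 1 ↔ f ∣ X ^ N - 1 := by
  rw [← AdjoinRoot.mk_eq_zero, map_sub, map_pow, AdjoinRoot.mk_X, map_one, sub_eq_zero]

variable [Fintype F]

/-- if the root of `f` has a power of prime order `r`, then `ord_r(q) ∣ deg f` -/
theorem ord_dvd_natDegree (f : F[X]) (hfm : f.Monic) (hfi : Irreducible f) {r : ℕ}
    (hr : r.Prime) (N : ℕ) (h1 : f ∣ X ^ (N * r) - 1) (h2 : ¬ f ∣ X ^ N - 1) :
    orderOf ((Fintype.card F : ℕ) : ZMod r) ∣ f.natDegree := by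
  classical
  have : Fact (Irreducible f) := ⟨hfi⟩
  have : Fact r.Prime := ⟨hr⟩
  have hfin : Module.Finite F (AdjoinRoot f) := hfm.finite_adjoinRoot
  have : Finite (AdjoinRoot f) := Module.finite_of_finite F
  have : Fintype (AdjoinRoot f) := Fintype.ofFinite _
  set ρ := AdjoinRoot.root f with hρ
  have hx : (ρ ^ N) ^ r = 1 := by
    rw [← pow_mul]
    exact (root_pow_eq_one_iff f _).2 h1
  have hx1 : ρ ^ N ≠ 1 := fun h => h2 ((root_pow_eq_one_iff f N).1 h)
  have hx0 : ρ ^ N ≠ 0 := by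
    intro h0
    rw [h0, zero_pow hr.ne_zero] at hx
    exact zero_ne_one hx
  set x : (AdjoinRoot f)ˣ := Units.mk0 (ρ ^ N) hx0 with hxdef
  have hxo : orderOf x = r := by
    apply orderOf_eq_prime
    · apply Units.ext
      rw [Units.val_pow_eq_pow_val, Units.val_one]
      exact hx
    · intro h
      apply hx1
      have := congrArg Units.val h
      exact this
  have hfr : finrank F (AdjoinRoot f) = f.natDegree := by
    rw [(AdjoinRoot.powerBasis hfi.ne_zero).finrank, AdjoinRoot.powerBasis_dim]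
  have hcard : Fintype.card (AdjoinRoot f)ˣ = Fintype.card F ^ f.natDegree - 1 := by
    rw [Fintype.card_units, Module.card_eq_pow_finrank (K := F) (V := AdjoinRoot f), hfr]
  have hdvd : r ∣ Fintype.card F ^ f.natDegree - 1 := by
    rw [← hcard, ← hxo]
    exact orderOf_dvd_card
  exact (Cfsg.Agent.Lib.Helper40_SylowLarge.dvd_pow_sub_one_iff r Fintype.card_pos _).1 hdvd

/-- a self-reciprocal irreducible polynomial: the inverse of the root is a Frobenius conjugate -/
theorem exists_pow_eq_inv_of_recip_eq (f : F[X]) [hfi' : Fact (Irreducible f)] (hfm : f.Monic)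
    (h0 : f.coeff 0 ≠ 0) (hrec : recip f = f) :
    ∃ j : ℕ, (AdjoinRoot.root f) ^ (Fintype.card F ^ j) = (AdjoinRoot.root f)⁻¹ := by
  classical
  have hfi : Irreducible f := hfi'.out
  have hfin : Module.Finite F (AdjoinRoot f) := hfm.finite_adjoinRoot
  have : Finite (AdjoinRoot f) := Module.finite_of_finite F
  set ρ := AdjoinRoot.root f with hρ
  have hroot : aeval ρ f = 0 := by rw [AdjoinRoot.aeval_eq, AdjoinRoot.mk_self]
  have hroot' : aeval ρ⁻¹ f = 0 := by
    have := aeval_inv_root_recip f h0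
    rwa [hrec] at this
  have hm1 : minpoly F ρ = f := (minpoly.eq_of_irreducible_of_monic hfi hroot hfm).symm
  have hm2 : minpoly F ρ⁻¹ = f := (minpoly.eq_of_irreducible_of_monic hfi hroot' hfm).symm
  have hconj : IsConjRoot F ρ⁻¹ ρ := by
    rw [isConjRoot_def, hm1, hm2]
  obtain ⟨σ, hσ⟩ := hconj.exists_algEquiv
  obtain ⟨j, hj⟩ := (FiniteField.bijective_frobeniusAlgEquivOfAlgebraic_pow F (AdjoinRoot f)).2 σ
  refine ⟨j.1, ?_⟩
  have h3 : σ ρ = ρ ^ (Fintype.card F ^ j.1) := by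
    rw [← hj]
    simp only [AlgEquiv.coe_pow, FiniteField.coe_frobeniusAlgEquivOfAlgebraic, pow_iterate]
  rw [← h3, hσ]

/-- conversely a Frobenius conjugate inverse root forces self-reciprocity -/
theorem recip_eq_of_pow_eq_inv (p : ℕ) [Fact p.Prime] [CharP F p] (f : F[X])
    [hfi' : Fact (Irreducible f)] (hfm : f.Monic) (h0 : f.coeff 0 ≠ 0) (j : ℕ)
    (hj : (AdjoinRoot.root f) ^ (Fintype.card F ^ j) = (AdjoinRoot.root f)⁻¹) :
    recip f = f := by
  have hfi : Irreducible f := hfi'.out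
  obtain ⟨e, _, hq⟩ := FiniteField.card F p
  set ρ := AdjoinRoot.root f with hρdef
  have : CharP (AdjoinRoot f) p :=
    charP_of_injective_algebraMap (algebraMap F (AdjoinRoot f)).injective p
  have hee : Fintype.card F ^ j = p ^ ((e : ℕ) * j) := by rw [hq, pow_mul]
  let φ : AdjoinRoot f →+* AdjoinRoot f := iterateFrobenius (AdjoinRoot f) p ((e : ℕ) * j)
  have hφ : ∀ x, φ x = x ^ (Fintype.card F ^ j) := by
    intro x
    rw [hee]
    rfl
  have hφalg : φ.comp (algebraMap F (AdjoinRoot f)) = algebraMap F (AdjoinRoot f) := by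
    apply RingHom.ext
    intro a
    rw [RingHom.comp_apply, hφ, ← map_pow, FiniteField.pow_card_pow]
  have hroot : aeval ρ⁻¹ f = 0 := by
    have h1 : aeval ρ f = 0 := by rw [AdjoinRoot.aeval_eq, AdjoinRoot.mk_self]
    have h2 := congrArg φ h1
    rw [aeval_def, hom_eval₂, hφalg, hφ, hj, map_zero] at h2
    exact h2
  have hroot' : aeval ρ⁻¹ (recip f) = 0 := aeval_inv_root_recip f h0
  exact (minpoly.eq_of_irreducible_of_monic (irreducible_recip f hfi h0) hroot'
    (recip_monic f h0)).trans (minpoly.eq_of_irreducible_of_monic hfi hroot hfm).symm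

/-- a self-reciprocal irreducible polynomial whose root has a power of odd prime order `r`:
some `q ^ j ≡ -1 (mod r)` -/
theorem exists_dvd_pow_add_one (f : F[X]) (hfm : f.Monic) (hfi : Irreducible f)
    (h0 : f.coeff 0 ≠ 0) (hrec : recip f = f) :
    ∃ j : ℕ, ∀ (r : ℕ), r.Prime → ∀ N : ℕ, f ∣ X ^ (N * r) - 1 → ¬ f ∣ X ^ N - 1 →
      r ∣ Fintype.card F ^ j + 1 := by
  have : Fact (Irreducible f) := ⟨hfi⟩
  obtain ⟨j, hj⟩ := exists_pow_eq_inv_of_recip_eq f hfm h0 hrec
  refine ⟨j, ?_⟩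
  intro r hr N h1 h2
  have : Fact r.Prime := ⟨hr⟩
  set ρ := AdjoinRoot.root f with hρ
  have hρ0 : ρ ≠ 0 := root_ne_zero f h0
  have hx : (ρ ^ N) ^ r = 1 := by
    rw [← pow_mul]
    exact (root_pow_eq_one_iff f _).2 h1
  have hx1 : ρ ^ N ≠ 1 := fun h => h2 ((root_pow_eq_one_iff f N).1 h)
  have hxo : orderOf (ρ ^ N) = r := orderOf_eq_prime hx hx1
  rw [← hxo]
  apply orderOf_dvd_of_pow_eq_one
  rw [← pow_mul, mul_comm, pow_mul, pow_succ, hj, inv_mul_cancel₀ hρ0, one_pow]

/-- number theoretic consequence of `r ∣ q ^ j + 1` for an odd prime `r` -/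
theorem ord_props_of_dvd_pow_add_one {q r j : ℕ} (hr : r.Prime) (hr2 : r ≠ 2)
    (h : r ∣ q ^ j + 1) :
    orderOf ((q : ℕ) : ZMod r) ∣ 2 * j ∧ ¬ orderOf ((q : ℕ) : ZMod r) ∣ j := by
  have : Fact r.Prime := ⟨hr⟩
  have h1 : ((q : ℕ) : ZMod r) ^ j = -1 := by
    have := (ZMod.natCast_eq_zero_iff _ _).2 h
    push_cast at this
    exact eq_neg_of_add_eq_zero_left this
  constructor
  · apply orderOf_dvd_of_pow_eq_one
    rw [mul_comm, pow_mul, h1]
    norm_num
  · intro hd
    have h2 := orderOf_dvd_iff_pow_eq_one.1 hd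
    rw [h1] at h2
    have h3 : ((2 : ℕ) : ZMod r) = 0 := by
      push_cast
      have : (1 : ZMod r) + 1 = 0 := by
        nth_rewrite 1 [← h2]
        exact neg_add_cancel 1
      rw [← this]
      norm_num
    rw [ZMod.natCast_eq_zero_iff] at h3
    exact hr2 ((Nat.prime_dvd_prime_iff_eq hr Nat.prime_two).1 h3)

end Cfsg.Agent.Lib.Helper40_FrobConj
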