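import Mathlib

set_option autoImplicit false

/-!
Arithmetic bookkeeping for least common multiples of numbers `q ^ a - 1` and `q ^ b + 1`:
if the exponents add up to `S` then `(q - 1) * lcm ≤ q ^ (S + 1)`.
-/

namespace Cfsg.Agent.Lib.Helper40_OrdArith

open Finset

/-- bookkeeping predicate for lcm's of numbers `q ^ a - 1`, `q ^ b + 1` -/
def Good (q L S : ℕ) : Prop :=
  0 < L ∧ ∃ W : Finset ℕ, (∀ e ∈ W, (q ^ (2 ^ e) + 1) ∣ L) ∧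
    L * ∏ e ∈ W, q ^ (2 ^ e) ≤ q ^ S * ∏ e ∈ W, (q ^ (2 ^ e) + 1)

theorem good_one (q : ℕ) : Good q 1 0 := ⟨one_pos, ∅, by simp, by simp⟩

theorem Good.pos {q L S : ℕ} (h : Good q L S) : 0 < L := h.1

theorem Good.mono {q L S S' : ℕ} (hq : 1 ≤ q) (h : Good q L S) (hS : S ≤ S') : Good q L S' := by
  obtain ⟨hL, W, hW, hle⟩ := h
  refine ⟨hL, W, hW, hle.trans ?_⟩
  exact Nat.mul_le_mul_right _ (Nat.pow_le_pow_right hq hS)

theorem Good.lcm_sub {q L S a : ℕ} (hq : 2 ≤ q) (ha : 1 ≤ a) (h : Good q L S) :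
    Good q (Nat.lcm L (q ^ a - 1)) (S + a) := by
  obtain ⟨hL, W, hW, hle⟩ := h
  have hpos : 0 < q ^ a - 1 := by
    have : 2 ^ 1 ≤ q ^ a :=
      (Nat.pow_le_pow_left hq 1).trans (Nat.pow_le_pow_right (by omega) ha)
    omega
  refine ⟨Nat.lcm_pos hL hpos, W, fun e he => (hW e he).trans (Nat.dvd_lcm_left _ _), ?_⟩
  have h1 : Nat.lcm L (q ^ a - 1) ≤ L * q ^ a := by
    calc Nat.lcm L (q ^ a - 1) ≤ L * (q ^ a - 1) :=
          Nat.le_of_dvd (Nat.mul_pos hL hpos) (Nat.lcm_dvd_mul _ _)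
      _ ≤ L * q ^ a := Nat.mul_le_mul_left _ (Nat.sub_le _ _)
  calc Nat.lcm L (q ^ a - 1) * ∏ e ∈ W, q ^ (2 ^ e)
      ≤ L * q ^ a * ∏ e ∈ W, q ^ (2 ^ e) := Nat.mul_le_mul_right _ h1
    _ = q ^ a * (L * ∏ e ∈ W, q ^ (2 ^ e)) := by ring
    _ ≤ q ^ a * (q ^ S * ∏ e ∈ W, (q ^ (2 ^ e) + 1)) := Nat.mul_le_mul_left _ hle
    _ = q ^ (S + a) * ∏ e ∈ W, (q ^ (2 ^ e) + 1) := by ring

theorem Good.lcm_add {q L S a : ℕ} (hq : 2 ≤ q) (ha : 1 ≤ a) (h : Good q L S) :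
    Good q (Nat.lcm L (q ^ a + 1)) (S + a) := by
  obtain ⟨hL, W, hW, hle⟩ := h
  obtain ⟨e, b, hb, hab⟩ := Nat.exists_eq_two_pow_mul_odd (show a ≠ 0 by omega)
  have hdiv : q ^ (2 ^ e) + 1 ∣ q ^ a + 1 := by
    have := Odd.nat_add_dvd_pow_add_pow (q ^ (2 ^ e)) 1 hb
    rwa [one_pow, ← pow_mul, ← hab] at this
  have h2e : 2 ^ e ≤ a := by rw [hab]; exact Nat.le_mul_of_pos_right _ hb.pos
  have hqpos : 0 < q := by omega
  have hpos : 0 < q ^ a + 1 := Nat.succ_pos _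
  by_cases heW : e ∈ W
  · refine ⟨Nat.lcm_pos hL hpos, W, fun e' he' => (hW e' he').trans (Nat.dvd_lcm_left _ _), ?_⟩
    have hg : q ^ (2 ^ e) + 1 ∣ Nat.gcd L (q ^ a + 1) := Nat.dvd_gcd (hW e heW) hdiv
    have h1 : Nat.lcm L (q ^ a + 1) ≤ L * q ^ a := by
      have h3 : Nat.gcd L (q ^ a + 1) * Nat.lcm L (q ^ a + 1) = L * (q ^ a + 1) :=
        Nat.gcd_mul_lcm _ _
      have h4 : (q ^ (2 ^ e) + 1) * Nat.lcm L (q ^ a + 1) ≤ L * (q ^ a + 1) := by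
        rw [← h3]
        exact Nat.mul_le_mul_right _ (Nat.le_of_dvd (Nat.gcd_pos_of_pos_left _ hL) hg)
      have h5 : q ^ a + 1 ≤ q ^ (a - 2 ^ e) * (q ^ (2 ^ e) + 1) := by
        rw [mul_add, ← pow_add, Nat.sub_add_cancel h2e, mul_one]
        have : 1 ≤ q ^ (a - 2 ^ e) := Nat.one_le_pow _ _ hqpos
        omega
      have h6 : (q ^ (2 ^ e) + 1) * Nat.lcm L (q ^ a + 1) ≤
          (q ^ (2 ^ e) + 1) * (L * q ^ (a - 2 ^ e)) := by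
        calc (q ^ (2 ^ e) + 1) * Nat.lcm L (q ^ a + 1) ≤ L * (q ^ a + 1) := h4
          _ ≤ L * (q ^ (a - 2 ^ e) * (q ^ (2 ^ e) + 1)) := Nat.mul_le_mul_left _ h5
          _ = (q ^ (2 ^ e) + 1) * (L * q ^ (a - 2 ^ e)) := by ring
      have h7 := Nat.le_of_mul_le_mul_left h6 (Nat.succ_pos _)
      exact h7.trans (Nat.mul_le_mul_left _ (Nat.pow_le_pow_right hqpos (Nat.sub_le _ _)))
    calc Nat.lcm L (q ^ a + 1) * ∏ e ∈ W, q ^ (2 ^ e)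
        ≤ L * q ^ a * ∏ e ∈ W, q ^ (2 ^ e) := Nat.mul_le_mul_right _ h1
      _ = q ^ a * (L * ∏ e ∈ W, q ^ (2 ^ e)) := by ring
      _ ≤ q ^ a * (q ^ S * ∏ e ∈ W, (q ^ (2 ^ e) + 1)) := Nat.mul_le_mul_left _ hle
      _ = q ^ (S + a) * ∏ e ∈ W, (q ^ (2 ^ e) + 1) := by ring
  · refine ⟨Nat.lcm_pos hL hpos, insert e W, ?_, ?_⟩
    · intro e' he'
      rcases Finset.mem_insert.1 he' with rfl | he'
      · exact hdiv.trans (Nat.dvd_lcm_right _ _)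
      · exact (hW e' he').trans (Nat.dvd_lcm_left _ _)
    · rw [Finset.prod_insert heW, Finset.prod_insert heW]
      have h1 : Nat.lcm L (q ^ a + 1) ≤ L * (q ^ a + 1) :=
        Nat.le_of_dvd (Nat.mul_pos hL hpos) (Nat.lcm_dvd_mul _ _)
      have h2 : (q ^ a + 1) * q ^ (2 ^ e) ≤ q ^ a * (q ^ (2 ^ e) + 1) := by
        have : q ^ (2 ^ e) ≤ q ^ a := Nat.pow_le_pow_right hqpos h2e
        nlinarith
      calc Nat.lcm L (q ^ a + 1) * (q ^ (2 ^ e) * ∏ e ∈ W, q ^ (2 ^ e))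
          ≤ L * (q ^ a + 1) * (q ^ (2 ^ e) * ∏ e ∈ W, q ^ (2 ^ e)) :=
            Nat.mul_le_mul_right _ h1
        _ = ((q ^ a + 1) * q ^ (2 ^ e)) * (L * ∏ e ∈ W, q ^ (2 ^ e)) := by ring
        _ ≤ (q ^ a * (q ^ (2 ^ e) + 1)) * (q ^ S * ∏ e ∈ W, (q ^ (2 ^ e) + 1)) :=
            Nat.mul_le_mul h2 hle
        _ = q ^ (S + a) * ((q ^ (2 ^ e) + 1) * ∏ e ∈ W, (q ^ (2 ^ e) + 1)) := by ring

theorem prod_range_pow_two_pow (q n : ℕ) : ∏ e ∈ range n, q ^ (2 ^ e) = q ^ (2 ^ n - 1) := by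
  induction n with
  | zero => simp
  | succ n ih =>
    rw [prod_range_succ, ih, ← pow_add]
    congr 1
    have : 1 ≤ 2 ^ n := Nat.one_le_two_pow
    rw [pow_succ]
    omega

theorem sub_one_mul_prod_range (q n : ℕ) (hq : 1 ≤ q) :
    (q - 1) * ∏ e ∈ range n, (q ^ (2 ^ e) + 1) = q ^ (2 ^ n) - 1 := by
  induction n with
  | zero => simp
  | succ n ih =>
    rw [prod_range_succ, ← mul_assoc, ih, pow_succ, pow_mul]
    have h1 : 1 ≤ q ^ 2 ^ n := Nat.one_le_pow _ _ hq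
    have h2 := Nat.pow_two_sub_pow_two (q ^ 2 ^ n) 1
    rw [one_pow] at h2
    rw [h2, mul_comm]

theorem Good.bound {q L S : ℕ} (hq : 2 ≤ q) (h : Good q L S) : (q - 1) * L ≤ q ^ (S + 1) := by
  obtain ⟨hL, W, hW, hle⟩ := h
  have hqpos : 0 < q := by omega
  set n := W.sup id + 1 with hn
  have hsub : W ⊆ range n := by
    intro e he
    rw [mem_range, hn]
    exact Nat.lt_succ_of_le (Finset.le_sup (f := id) he)
  have hA := Finset.prod_sdiff hsub (f := fun e => q ^ (2 ^ e))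
  have hB := Finset.prod_sdiff hsub (f := fun e => q ^ (2 ^ e) + 1)
  have hAB : ∏ e ∈ range n \ W, q ^ (2 ^ e) ≤ ∏ e ∈ range n \ W, (q ^ (2 ^ e) + 1) :=
    Finset.prod_le_prod (fun _ _ => Nat.zero_le _) (fun _ _ => Nat.le_succ _)
  rw [prod_range_pow_two_pow] at hA
  have h1 : L * q ^ (2 ^ n - 1) ≤ q ^ S * ∏ e ∈ range n, (q ^ (2 ^ e) + 1) := by
    rw [← hA, ← hB]
    calc L * ((∏ e ∈ range n \ W, q ^ (2 ^ e)) * ∏ e ∈ W, q ^ (2 ^ e))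
        = (∏ e ∈ range n \ W, q ^ (2 ^ e)) * (L * ∏ e ∈ W, q ^ (2 ^ e)) := by ring
      _ ≤ (∏ e ∈ range n \ W, (q ^ (2 ^ e) + 1)) * (q ^ S * ∏ e ∈ W, (q ^ (2 ^ e) + 1)) :=
          Nat.mul_le_mul hAB hle
      _ = q ^ S * ((∏ e ∈ range n \ W, (q ^ (2 ^ e) + 1)) * ∏ e ∈ W, (q ^ (2 ^ e) + 1)) := by
          ring
  have h2 : (q - 1) * L * q ^ (2 ^ n - 1) ≤ q ^ (S + 1) * q ^ (2 ^ n - 1) := by
    calc (q - 1) * L * q ^ (2 ^ n - 1) = (q - 1) * (L * q ^ (2 ^ n - 1)) := by ring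
      _ ≤ (q - 1) * (q ^ S * ∏ e ∈ range n, (q ^ (2 ^ e) + 1)) := Nat.mul_le_mul_left _ h1
      _ = q ^ S * ((q - 1) * ∏ e ∈ range n, (q ^ (2 ^ e) + 1)) := by ring
      _ = q ^ S * (q ^ (2 ^ n) - 1) := by rw [sub_one_mul_prod_range q n hqpos]
      _ ≤ q ^ S * q ^ (2 ^ n) := Nat.mul_le_mul_left _ (Nat.sub_le _ _)
      _ = q ^ (S + 1) * q ^ (2 ^ n - 1) := by
          rw [← pow_add, ← pow_add]
          congr 1
          have : 1 ≤ 2 ^ n := Nat.one_le_two_pow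
          omega
  exact Nat.le_of_mul_le_mul_right h2 (Nat.pow_pos hqpos)

/-- with no exponent used and `q ≥ 3` the lcm is `1` -/
theorem Good.eq_one_of_zero {q L : ℕ} (hq : 3 ≤ q) (h : Good q L 0) : L = 1 := by
  have h1 := h.bound (by omega)
  have h2 := h.pos
  rw [zero_add, pow_one] at h1
  by_contra hne
  have h3 : 2 ≤ L := by omega
  have h4 : (q - 1) * 2 ≤ q := (Nat.mul_le_mul_left _ h3).trans h1
  omega

end Cfsg.Agent.Lib.Helper40_OrdArith
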