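import Mathlib
import Cfsg.Agent.Lib.Helper40_FrobConj
import Cfsg.Agent.Lib.Helper40_OrdArith

set_option autoImplicit false

/-!
Self-reciprocal polynomials over a finite field with `q` elements divide `X ^ N - 1` or
`X ^ N + 1` for an `N` with `(q - 1) * N ≤ q ^ (m + 1)`, where the degree is `2 m` (or
`2 m + 1` in odd characteristic).
-/

namespace Cfsg.Agent.Lib.Helper40_OrdPoly

open Polynomial Module Cfsg.Agent.Lib.Helper40_Palindromic Cfsg.Agent.Lib.Helper40_SpExist
  Cfsg.Agent.Lib.Helper40_FrobConj Cfsg.Agent.Lib.Helper40_OrdArith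

section basic

variable {F : Type*} [Field F]

theorem monic_X_sub_one : (X - 1 : F[X]).Monic := by
  simpa using monic_X_sub_C (1 : F)

theorem monic_X_add_one : (X + 1 : F[X]).Monic := by
  simpa using monic_X_add_C (1 : F)

theorem irreducible_X_sub_one : Irreducible (X - 1 : F[X]) := by
  simpa using irreducible_X_sub_C (1 : F)

theorem irreducible_X_add_one : Irreducible (X + 1 : F[X]) := by
  have := irreducible_X_sub_C (-1 : F)
  simpa using this

theorem natDegree_X_sub_one : (X - 1 : F[X]).natDegree = 1 := by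
  simpa using natDegree_X_sub_C (1 : F)

theorem natDegree_X_add_one : (X + 1 : F[X]).natDegree = 1 := by
  simpa using natDegree_X_add_C (1 : F)

theorem reverse_X' : (X : F[X]).reverse = 1 := by
  have := reverse_mul_X (1 : F[X])
  rwa [one_mul, ← C_1, reverse_C] at this

theorem recip_X_add_C (c : F) (hc : c ≠ 0) : recip (X + C c) = X + C c⁻¹ := by
  unfold recip
  rw [reverse_add_C, natDegree_X, pow_one, reverse_X']
  have h0 : (X + C c : F[X]).coeff 0 = c := by simp
  rw [h0, mul_add, mul_one, ← mul_assoc, ← C_mul, inv_mul_cancel₀ hc, C_1, one_mul, add_comm]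

theorem recip_X_sub_one : recip (X - 1 : F[X]) = X - 1 := by
  have := recip_X_add_C (-1 : F) (by simp)
  simpa [sub_eq_add_neg] using this

theorem recip_X_add_one : recip (X + 1 : F[X]) = X + 1 := by
  have := recip_X_add_C (1 : F) one_ne_zero
  simpa using this

theorem recip_X_pow_sub_one (L : ℕ) (hL : 0 < L) : recip (X ^ L - 1 : F[X]) = X ^ L - 1 := by
  have h1 : (X ^ L - 1 : F[X]) = X ^ L + C (-1) := by simp [sub_eq_add_neg]
  have hrev : (X ^ L : F[X]).reverse = 1 := by
    have := reverse_X_pow_mul (1 : F[X]) L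
    rwa [mul_one, ← C_1, reverse_C] at this
  have h0 : (X ^ L + C (-1) : F[X]).coeff 0 = -1 := by
    simp [coeff_X_pow, hL.ne]
  rw [h1]
  unfold recip
  rw [h0, reverse_add_C, hrev, natDegree_X_pow]
  simp only [C_neg, C_1, inv_neg, inv_one]
  ring

/-- distinct monic irreducible polynomials are coprime -/
theorem coprime_of_ne {f g : F[X]} (hfm : f.Monic) (hgm : g.Monic) (hfi : Irreducible f)
    (hgi : Irreducible g) (hne : f ≠ g) : IsCoprime f g := by
  rw [hfi.coprime_iff_not_dvd]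
  intro h
  exact hne (eq_of_monic_of_associated hfm hgm (hfi.associated_of_dvd hgi h))

theorem dvd_X_pow_sub_one_recip {f : F[X]} (L : ℕ) (hL : 0 < L) (h : f ∣ X ^ L - 1) :
    recip f ∣ X ^ L - 1 := by
  have := recip_dvd h
  rwa [recip_X_pow_sub_one L hL] at this

theorem X_pow_sub_one_dvd_of_dvd {a b : ℕ} (h : a ∣ b) : (X ^ a - 1 : F[X]) ∣ X ^ b - 1 := by
  obtain ⟨c, rfl⟩ := h
  exact pow_one_sub_dvd_pow_mul_sub_one _ _ _

end basic

section finite

variable {F : Type*} [Field F] [Fintype F]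

/-- a monic irreducible polynomial of degree `d` other than `X` divides `X ^ (q ^ d - 1) - 1` -/
theorem dvd_X_pow_card_pow_sub_one (f : F[X]) (hfm : f.Monic) (hfi : Irreducible f)
    (h0 : f.coeff 0 ≠ 0) : f ∣ X ^ (Fintype.card F ^ f.natDegree - 1) - 1 := by
  classical
  have : Fact (Irreducible f) := ⟨hfi⟩
  have hfin : Module.Finite F (AdjoinRoot f) := hfm.finite_adjoinRoot
  have : Finite (AdjoinRoot f) := Module.finite_of_finite F
  have : Fintype (AdjoinRoot f) := Fintype.ofFinite _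
  have hfr : finrank F (AdjoinRoot f) = f.natDegree := by
    rw [(AdjoinRoot.powerBasis hfi.ne_zero).finrank, AdjoinRoot.powerBasis_dim]
  have hcard : Fintype.card (AdjoinRoot f) = Fintype.card F ^ f.natDegree := by
    rw [Module.card_eq_pow_finrank (K := F) (V := AdjoinRoot f), hfr]
  rw [← root_pow_eq_one_iff, ← hcard]
  exact FiniteField.pow_card_sub_one_eq_one _ (root_ne_zero f h0)

/-- a self-reciprocal monic irreducible polynomial is `X - 1`, `X + 1`, or has even degree
`2 δ` and divides `X ^ (q ^ δ + 1) - 1` -/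
theorem self_recip_cases (f : F[X]) (hfm : f.Monic) (hfi : Irreducible f) (h0 : f.coeff 0 ≠ 0)
    (hrec : recip f = f) :
    f = X - 1 ∨ f = X + 1 ∨
      ∃ δ : ℕ, 1 ≤ δ ∧ f.natDegree = 2 * δ ∧ f ∣ X ^ (Fintype.card F ^ δ + 1) - 1 := by
  classical
  have : Fact (Irreducible f) := ⟨hfi⟩
  have hfin : Module.Finite F (AdjoinRoot f) := hfm.finite_adjoinRoot
  have : Finite (AdjoinRoot f) := Module.finite_of_finite F
  set ρ := AdjoinRoot.root f with hρ
  have hρ0 : ρ ≠ 0 := root_ne_zero f h0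
  have hfr : finrank F (AdjoinRoot f) = f.natDegree := by
    rw [(AdjoinRoot.powerBasis hfi.ne_zero).finrank, AdjoinRoot.powerBasis_dim]
  have hroot : aeval ρ f = 0 := by rw [AdjoinRoot.aeval_eq, AdjoinRoot.mk_self]
  have hroot' : aeval ρ⁻¹ f = 0 := by
    have := aeval_inv_root_recip f h0
    rwa [hrec] at this
  have hm1 : minpoly F ρ = f := (minpoly.eq_of_irreducible_of_monic hfi hroot hfm).symm
  have hm2 : minpoly F ρ⁻¹ = f := (minpoly.eq_of_irreducible_of_monic hfi hroot' hfm).symm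
  have hconj : IsConjRoot F ρ⁻¹ ρ := by
    rw [isConjRoot_def, hm1, hm2]
  obtain ⟨σ, hσ⟩ := hconj.exists_algEquiv
  obtain ⟨⟨j, hjn⟩, hj⟩ :=
    (FiniteField.bijective_frobeniusAlgEquivOfAlgebraic_pow F (AdjoinRoot f)).2 σ
  have hpow : ∀ (k : ℕ) (x : AdjoinRoot f),
      (FiniteField.frobeniusAlgEquivOfAlgebraic F (AdjoinRoot f) ^ k) x =
        x ^ (Fintype.card F ^ k) := by
    intro k x
    simp only [AlgEquiv.coe_pow, FiniteField.coe_frobeniusAlgEquivOfAlgebraic, pow_iterate]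
  have h3 : ρ ^ (Fintype.card F ^ j) = ρ⁻¹ := by
    rw [← hpow]
    have : (FiniteField.frobeniusAlgEquivOfAlgebraic F (AdjoinRoot f) ^ j) = σ := hj
    rw [this, hσ]
  have h4 : ρ ^ (Fintype.card F ^ (2 * j)) = ρ := by
    rw [two_mul, pow_add, pow_mul, h3, inv_pow, h3, inv_inv]
  have h5 : FiniteField.frobeniusAlgEquivOfAlgebraic F (AdjoinRoot f) ^ (2 * j) = 1 := by
    apply AlgEquiv.coe_toAlgHom_injective
    apply AdjoinRoot.algHom_ext
    exact (hpow _ _).trans h4
  have h6 : finrank F (AdjoinRoot f) ∣ 2 * j := by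
    rw [← FiniteField.orderOf_frobeniusAlgEquivOfAlgebraic]
    exact orderOf_dvd_of_pow_eq_one h5
  rw [hfr] at h6 hjn
  have hjlt : j < f.natDegree := hjn
  rcases Nat.eq_zero_or_pos j with hj0 | hjpos
  · rw [hj0, pow_zero, pow_one] at h3
    have h7 : ρ ^ 2 = 1 := by
      rw [pow_two]
      nth_rewrite 1 [h3]
      exact inv_mul_cancel₀ hρ0
    have h8 : f ∣ X ^ 2 - 1 := (root_pow_eq_one_iff f 2).1 h7
    have h9 : (X ^ 2 - 1 : F[X]) = (X - 1) * (X + 1) := by ring
    rw [h9] at h8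
    rcases hfi.prime.dvd_or_dvd h8 with h | h
    · left
      exact eq_of_monic_of_associated hfm monic_X_sub_one
        (hfi.associated_of_dvd irreducible_X_sub_one h)
    · right; left
      exact eq_of_monic_of_associated hfm monic_X_add_one
        (hfi.associated_of_dvd irreducible_X_add_one h)
  · right; right
    obtain ⟨c, hc⟩ := h6
    have hc1 : c = 1 := by
      rcases c with _ | _ | c
      · omega
      · rfl
      · exfalso
        have : f.natDegree * (c + 1 + 1) = f.natDegree * c + 2 * f.natDegree := by ring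
        omega
    rw [hc1, mul_one] at hc
    refine ⟨j, hjpos, hc.symm, ?_⟩
    rw [← root_pow_eq_one_iff, pow_succ, h3, inv_mul_cancel₀ hρ0]

end finite

section inv

variable {F : Type*} [Field F]

/-- the peeling invariant: `χ` divides `(X - 1) ^ a * (X + 1) ^ b * ρ ^ E`, where `ρ` is prime to
`X ± 1` and divides `X ^ L - 1`, with `L` an lcm of numbers `q ^ i ± 1` whose exponents add up to
`S` -/
structure Inv (q : ℕ) (χ : F[X]) (L S E a b : ℕ) (ρ : F[X]) : Prop where
  hE : 1 ≤ E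
  hdvd : χ ∣ (X - 1) ^ a * (X + 1) ^ b * ρ ^ E
  hρ : ρ ∣ X ^ L - 1
  hc1 : IsCoprime ρ (X - 1)
  hc2 : IsCoprime ρ (X + 1)
  hgood : Good q L S
  hpar : Odd q → 1 ≤ S → 2 ∣ L
  hdeg : a + b + 2 * S + 2 * (E - 1) ≤ χ.natDegree

theorem Inv.one (q : ℕ) : Inv q (1 : F[X]) 1 0 1 0 0 1 where
  hE := le_refl _
  hdvd := by simp
  hρ := one_dvd _
  hc1 := isCoprime_one_left
  hc2 := isCoprime_one_left
  hgood := good_one q
  hpar := fun _ h => by omega
  hdeg := by simp

theorem Inv.mul_X_sub_one {q : ℕ} {χ : F[X]} {L S E a b : ℕ} {ρ : F[X]}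
    (h : Inv q χ L S E a b ρ) (hχ : χ.Monic) : Inv q ((X - 1) * χ) L S E (a + 1) b ρ where
  hE := h.hE
  hdvd := by
    have : (X - 1 : F[X]) ^ (a + 1) * (X + 1) ^ b * ρ ^ E =
        (X - 1) * ((X - 1) ^ a * (X + 1) ^ b * ρ ^ E) := by ring
    rw [this]
    exact mul_dvd_mul_left _ h.hdvd
  hρ := h.hρ
  hc1 := h.hc1
  hc2 := h.hc2
  hgood := h.hgood
  hpar := h.hpar
  hdeg := by
    rw [monic_X_sub_one.natDegree_mul hχ, natDegree_X_sub_one]
    have := h.hdeg
    omega

theorem Inv.mul_X_add_one {q : ℕ} {χ : F[X]} {L S E a b : ℕ} {ρ : F[X]}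
    (h : Inv q χ L S E a b ρ) (hχ : χ.Monic) : Inv q ((X + 1) * χ) L S E a (b + 1) ρ where
  hE := h.hE
  hdvd := by
    have : (X - 1 : F[X]) ^ a * (X + 1) ^ (b + 1) * ρ ^ E =
        (X + 1) * ((X - 1) ^ a * (X + 1) ^ b * ρ ^ E) := by ring
    rw [this]
    exact mul_dvd_mul_left _ h.hdvd
  hρ := h.hρ
  hc1 := h.hc1
  hc2 := h.hc2
  hgood := h.hgood
  hpar := h.hpar
  hdeg := by
    rw [monic_X_add_one.natDegree_mul hχ, natDegree_X_add_one]
    have := h.hdeg
    omega

/-- a factor `g` already dividing `X ^ L - 1`: raise the exponent `E` -/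
theorem Inv.step_old {q : ℕ} {χ : F[X]} {L S E a b : ℕ} {ρ : F[X]}
    (h : Inv q χ L S E a b ρ) (hχ : χ.Monic) (g : F[X]) (hgm : g.Monic) (hg : g ∣ X ^ L - 1)
    (hg1 : IsCoprime g (X - 1)) (hg2 : IsCoprime g (X + 1)) (hgd : 2 ≤ g.natDegree) :
    ∃ ρ' : F[X], Inv q (g * χ) L S (E + 1) a b ρ' := by
  classical
  refine ⟨EuclideanDomain.lcm ρ g, ?_⟩
  have hρl : ρ ∣ EuclideanDomain.lcm ρ g := EuclideanDomain.dvd_lcm_left _ _
  have hgl : g ∣ EuclideanDomain.lcm ρ g := EuclideanDomain.dvd_lcm_right _ _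
  have hlm : EuclideanDomain.lcm ρ g ∣ ρ * g := by
    rw [← EuclideanDomain.gcd_mul_lcm]
    exact dvd_mul_left _ _
  refine ⟨by omega, ?_, EuclideanDomain.lcm_dvd h.hρ hg, ?_, ?_, h.hgood, h.hpar, ?_⟩
  · have h1 : g * χ ∣ g * ((X - 1) ^ a * (X + 1) ^ b * ρ ^ E) := mul_dvd_mul_left _ h.hdvd
    refine h1.trans ?_
    have h2 : g * ((X - 1) ^ a * (X + 1) ^ b * ρ ^ E) =
        (X - 1) ^ a * (X + 1) ^ b * (g * ρ ^ E) := by ring
    rw [h2, pow_succ']
    exact mul_dvd_mul_left _ (mul_dvd_mul hgl (pow_dvd_pow_of_dvd hρl E))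
  · exact IsCoprime.of_isCoprime_of_dvd_left (h.hc1.mul_left hg1) hlm
  · exact IsCoprime.of_isCoprime_of_dvd_left (h.hc2.mul_left hg2) hlm
  · rw [hgm.natDegree_mul hχ]
    have := h.hdeg
    have := h.hE
    omega

/-- a new factor `g`, prime to `ρ`, dividing `X ^ G - 1` -/
theorem Inv.step_new {q : ℕ} {χ : F[X]} {L S E a b : ℕ} {ρ : F[X]}
    (h : Inv q χ L S E a b ρ) (hχ : χ.Monic) (g : F[X]) (hgm : g.Monic) (G s : ℕ)
    (hg : g ∣ X ^ G - 1) (hgρ : IsCoprime g ρ) (hg1 : IsCoprime g (X - 1))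
    (hg2 : IsCoprime g (X + 1)) (hgd : g.natDegree = 2 * s)
    (hgood : Good q (Nat.lcm L G) (S + s)) (hpar : Odd q → 2 ∣ G) :
    Inv q (g * χ) (Nat.lcm L G) (S + s) E a b (ρ * g) where
  hE := h.hE
  hdvd := by
    have h1 : g * χ ∣ g * ((X - 1) ^ a * (X + 1) ^ b * ρ ^ E) := mul_dvd_mul_left _ h.hdvd
    refine h1.trans ?_
    have h2 : g * ((X - 1) ^ a * (X + 1) ^ b * ρ ^ E) =
        (X - 1) ^ a * (X + 1) ^ b * (ρ ^ E * g) := by ring
    rw [h2, mul_pow]
    have hE := h.hE
    exact mul_dvd_mul_left _ (mul_dvd_mul_left _ (dvd_pow_self g (by omega)))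
  hρ := by
    have h1 : ρ ∣ X ^ (Nat.lcm L G) - 1 :=
      h.hρ.trans (X_pow_sub_one_dvd_of_dvd (Nat.dvd_lcm_left _ _))
    have h2 : g ∣ X ^ (Nat.lcm L G) - 1 :=
      hg.trans (X_pow_sub_one_dvd_of_dvd (Nat.dvd_lcm_right _ _))
    exact hgρ.symm.mul_dvd h1 h2
  hc1 := h.hc1.mul_left hg1
  hc2 := h.hc2.mul_left hg2
  hgood := hgood
  hpar := fun ho _ => (hpar ho).trans (Nat.dvd_lcm_right _ _)
  hdeg := by
    rw [hgm.natDegree_mul hχ, hgd]
    have := h.hdeg
    omega

end inv

section peel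

variable {F : Type*} [Field F] [Fintype F]

/-- every monic self-reciprocal polynomial admits peeling data -/
theorem exists_inv : ∀ n : ℕ, ∀ χ : F[X], χ.Monic → χ.coeff 0 ≠ 0 → recip χ = χ →
    χ.natDegree ≤ n → ∃ (L S E a b : ℕ) (ρ : F[X]), Inv (Fintype.card F) χ L S E a b ρ := by
  have hq2 : 2 ≤ Fintype.card F := Fintype.one_lt_card
  intro n
  induction n with
  | zero =>
    intro χ hm h0 hr hd
    have h1 : χ = 1 := hm.natDegree_eq_zero.1 (by omega)
    subst h1
    exact ⟨1, 0, 1, 0, 0, 1, Inv.one _⟩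
  | succ n ih =>
    intro χ hm h0 hr hd
    by_cases hdn : χ.natDegree ≤ n
    · exact ih χ hm h0 hr hdn
    have hdeg : χ.natDegree = n + 1 := by omega
    have hnu : ¬ IsUnit χ := by
      intro hu
      have := natDegree_eq_zero_of_isUnit hu
      omega
    obtain ⟨f, hfm, hfi, hfχ⟩ := exists_monic_irreducible_factor χ hnu
    have hf0 : f.coeff 0 ≠ 0 := by
      obtain ⟨c, rfl⟩ := hfχ
      rw [mul_coeff_zero] at h0
      exact left_ne_zero_of_mul h0
    have hfd : 1 ≤ f.natDegree := hfi.natDegree_pos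
    -- peeling off a self-reciprocal factor
    have peel1 : recip f = f → ∃ χ' : F[X], χ = f * χ' ∧ χ'.Monic ∧
        ∃ (L S E a b : ℕ) (ρ : F[X]), Inv (Fintype.card F) χ' L S E a b ρ := by
      intro hrf
      obtain ⟨χ', rfl⟩ := hfχ
      have hm' : χ'.Monic := hfm.of_mul_monic_left hm
      have h0' : χ'.coeff 0 ≠ 0 := by
        rw [mul_coeff_zero] at h0
        exact right_ne_zero_of_mul h0
      have hr' : recip χ' = χ' := by
        rw [recip_mul, hrf] at hr
        exact mul_left_cancel₀ hfi.ne_zero hr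
      have hd' : χ'.natDegree ≤ n := by
        rw [hfm.natDegree_mul hm'] at hdeg
        omega
      exact ⟨χ', rfl, hm', ih χ' hm' h0' hr' hd'⟩
    by_cases hf1 : f = X - 1
    · obtain ⟨χ', rfl, hm', L, S, E, a, b, ρ, hI⟩ := peel1 (by rw [hf1, recip_X_sub_one])
      rw [hf1]
      exact ⟨L, S, E, a + 1, b, ρ, hI.mul_X_sub_one hm'⟩
    by_cases hf2 : f = X + 1
    · obtain ⟨χ', rfl, hm', L, S, E, a, b, ρ, hI⟩ := peel1 (by rw [hf2, recip_X_add_one])
      rw [hf2]
      exact ⟨L, S, E, a, b + 1, ρ, hI.mul_X_add_one hm'⟩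
    have hc1 : IsCoprime f (X - 1) :=
      coprime_of_ne hfm monic_X_sub_one hfi irreducible_X_sub_one hf1
    have hc2 : IsCoprime f (X + 1) :=
      coprime_of_ne hfm monic_X_add_one hfi irreducible_X_add_one hf2
    by_cases hrf : recip f = f
    · obtain ⟨χ', rfl, hm', L, S, E, a, b, ρ, hI⟩ := peel1 hrf
      rcases self_recip_cases f hfm hfi hf0 hrf with h | h | ⟨δ, hδ, hfd2, hfdvd⟩
      · exact absurd h hf1
      · exact absurd h hf2
      by_cases hfL : f ∣ X ^ L - 1
      · obtain ⟨ρ', hI'⟩ := hI.step_old hm' f hfm hfL hc1 hc2 (by omega)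
        exact ⟨L, S, E + 1, a, b, ρ', hI'⟩
      · have hfρ : IsCoprime f ρ :=
          (hfi.coprime_iff_not_dvd).2 (fun h => hfL (h.trans hI.hρ))
        refine ⟨_, _, E, a, b, _, hI.step_new hm' f hfm (Fintype.card F ^ δ + 1) δ hfdvd hfρ
          hc1 hc2 hfd2 (hI.hgood.lcm_add hq2 hδ) ?_⟩
        intro ho
        exact even_iff_two_dvd.1 (Odd.add_odd (ho.pow) odd_one)
    · -- a pair `f`, `recip f`
      have hfm' : (recip f).Monic := recip_monic f hf0
      have hfi' : Irreducible (recip f) := irreducible_recip f hfi hf0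
      have hf'χ : recip f ∣ χ := by
        rw [← hr]
        exact recip_dvd hfχ
      have hrr : recip (recip f) = f := recip_recip f hfm hf0
      have hcop : IsCoprime f (recip f) := coprime_of_ne hfm hfm' hfi hfi' (Ne.symm hrf)
      have hf'0 : (recip f).coeff 0 ≠ 0 := by
        rw [recip_coeff_zero f hfm]
        exact inv_ne_zero hf0
      have hf'd : (recip f).natDegree = f.natDegree := recip_natDegree f hf0
      have hc1' : IsCoprime (recip f) (X - 1) := by
        apply coprime_of_ne hfm' monic_X_sub_one hfi' irreducible_X_sub_one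
        intro h
        exact hf1 (by rw [← hrr, h, recip_X_sub_one])
      have hc2' : IsCoprime (recip f) (X + 1) := by
        apply coprime_of_ne hfm' monic_X_add_one hfi' irreducible_X_add_one
        intro h
        exact hf2 (by rw [← hrr, h, recip_X_add_one])
      obtain ⟨χ', rfl⟩ := hcop.mul_dvd hfχ hf'χ
      have hgm : (f * recip f).Monic := hfm.mul hfm'
      have hm' : χ'.Monic := hgm.of_mul_monic_left hm
      have h0' : χ'.coeff 0 ≠ 0 := by
        rw [mul_coeff_zero] at h0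
        exact right_ne_zero_of_mul h0
      have hr' : recip χ' = χ' := by
        rw [recip_mul, recip_mul, hrr, mul_comm (recip f) f] at hr
        exact mul_left_cancel₀ hgm.ne_zero hr
      have hgd : (f * recip f).natDegree = 2 * f.natDegree := by
        rw [hfm.natDegree_mul hfm', hf'd]
        ring
      have hd' : χ'.natDegree ≤ n := by
        rw [hgm.natDegree_mul hm', hgd] at hdeg
        omega
      obtain ⟨L, S, E, a, b, ρ, hI⟩ := ih χ' hm' h0' hr' hd'
      have hLpos : 0 < L := hI.hgood.pos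
      have hB1 := dvd_X_pow_card_pow_sub_one f hfm hfi hf0
      have hB1' := dvd_X_pow_card_pow_sub_one (recip f) hfm' hfi' hf'0
      rw [hf'd] at hB1'
      by_cases hfL : f ∣ X ^ L - 1
      · have hfL' : recip f ∣ X ^ L - 1 := dvd_X_pow_sub_one_recip L hLpos hfL
        obtain ⟨ρ', hI'⟩ := hI.step_old hm' (f * recip f) hgm (hcop.mul_dvd hfL hfL')
          (hc1.mul_left hc1') (hc2.mul_left hc2') (by omega)
        exact ⟨L, S, E + 1, a, b, ρ', hI'⟩
      · have hfL' : ¬ recip f ∣ X ^ L - 1 := by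
          intro h
          apply hfL
          have := dvd_X_pow_sub_one_recip L hLpos h
          rwa [hrr] at this
        have hfρ : IsCoprime f ρ :=
          (hfi.coprime_iff_not_dvd).2 (fun h => hfL (h.trans hI.hρ))
        have hfρ' : IsCoprime (recip f) ρ :=
          (hfi'.coprime_iff_not_dvd).2 (fun h => hfL' (h.trans hI.hρ))
        refine ⟨_, _, E, a, b, _, hI.step_new hm' (f * recip f) hgm
          (Fintype.card F ^ f.natDegree - 1) f.natDegree (hcop.mul_dvd hB1 hB1')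
          (hfρ.mul_left hfρ') (hc1.mul_left hc1') (hc2.mul_left hc2') hgd
          (hI.hgood.lcm_sub hq2 hfd) ?_⟩
        intro ho
        exact even_iff_two_dvd.1 (Nat.Odd.sub_odd (ho.pow) odd_one)

end peel

section main

theorem two_mul_le_two_pow (j : ℕ) : 2 * j ≤ 2 ^ j := by
  induction j with
  | zero => simp
  | succ j ih =>
    rw [pow_succ]
    have : 1 ≤ 2 ^ j := Nat.one_le_two_pow
    rcases j with _ | j
    · simp
    · have : 2 ≤ 2 ^ (j + 1) := by
        calc 2 = 2 ^ 1 := by norm_num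
          _ ≤ 2 ^ (j + 1) := Nat.pow_le_pow_right (by norm_num) (by omega)
      omega

theorem two_mul_add_one_le_three_pow (j : ℕ) : 2 * j + 1 ≤ 3 ^ j := by
  induction j with
  | zero => simp
  | succ j ih =>
    rw [pow_succ]
    omega

theorem two_mul_le_three_pow_pred (m : ℕ) (hm : 3 ≤ m) : 2 * m ≤ 3 ^ (m - 1) := by
  obtain ⟨k, rfl⟩ : ∃ k, m = k + 3 := ⟨m - 3, by omega⟩
  have h := two_mul_add_one_le_three_pow k
  have h2 : 3 ^ (k + 3 - 1) = 9 * 3 ^ k := by
    rw [show k + 3 - 1 = k + 2 by omega, pow_add]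
    ring
  rw [h2]
  omega

variable {F : Type*} [Field F] [Fintype F]

/-- the main bound for self-reciprocal polynomials -/
theorem poly_main (m : ℕ) (hm : 2 ≤ m) (χ : F[X]) (hχm : χ.Monic) (h0 : χ.coeff 0 ≠ 0)
    (hr : recip χ = χ) (hn : χ.natDegree ≤ 2 * m + 1)
    (hn2 : ringChar F = 2 → χ.natDegree ≤ 2 * m) (hm3 : χ.natDegree = 2 * m + 1 → 3 ≤ m) :
    ∃ N : ℕ, 0 < N ∧ (Fintype.card F - 1) * N ≤ Fintype.card F ^ (m + 1) ∧
      (χ ∣ X ^ N - 1 ∨ χ ∣ X ^ N + 1) := by
  classical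
  set q := Fintype.card F with hqdef
  set p := ringChar F with hpdef
  have hcp : CharP F p := ringChar.charP F
  obtain ⟨k, hpp, hqk⟩ := FiniteField.card F p
  have : Fact p.Prime := ⟨hpp⟩
  have hq2 : 2 ≤ q := Fintype.one_lt_card
  have hqpos : 0 < q := by omega
  have hpq : p ≤ q := by
    rw [hqdef, hqk]
    calc p = p ^ 1 := (pow_one p).symm
      _ ≤ p ^ (k : ℕ) := Nat.pow_le_pow_right hpp.pos k.pos
  have hp2 : 2 ≤ p := hpp.two_le
  obtain ⟨L, S, E, a, b, ρ, hI⟩ := exists_inv χ.natDegree χ hχm h0 hr le_rfl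
  have hdeg := hI.hdeg
  have hE := hI.hE
  have hLpos := hI.hgood.pos
  have hbound := hI.hgood.bound hq2
  have hSm : S ≤ m := by omega
  -- Frobenius identities
  have K1 : ∀ i : ℕ, (X - 1 : F[X]) ^ (p ^ i) = X ^ (p ^ i) - 1 := by
    intro i
    rw [sub_pow_char_pow, one_pow]
  have K2 : ∀ i : ℕ, (X + 1 : F[X]) ^ (p ^ i) = X ^ (p ^ i) + 1 := by
    intro i
    rw [add_pow_char_pow, one_pow]
  have K3 : ∀ i : ℕ, (X ^ L - 1 : F[X]) ^ (p ^ i) = X ^ (L * p ^ i) - 1 := by
    intro i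
    rw [sub_pow_char_pow, one_pow, pow_mul]
  -- the final inequality
  have hfinal : ∀ j : ℕ, S + j = m → (q - 1) * (L * p ^ j) ≤ q ^ (m + 1) := by
    intro j hj
    calc (q - 1) * (L * p ^ j) = (q - 1) * L * p ^ j := by ring
      _ ≤ q ^ (S + 1) * q ^ j := Nat.mul_le_mul hbound (Nat.pow_le_pow_left hpq j)
      _ = q ^ (m + 1) := by rw [← pow_add]; congr 1; omega
  have hρE : ∀ j : ℕ, E ≤ p ^ j → ρ ^ E ∣ X ^ (L * p ^ j) - 1 := by
    intro j hj
    rw [← K3]
    exact (pow_dvd_pow ρ hj).trans (pow_dvd_pow_of_dvd hI.hρ _)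
  set j := m - S with hjdef
  have hSj : S + j = m := by omega
  by_cases hp : p = 2
  · -- characteristic two
    have hnm : χ.natDegree ≤ 2 * m := hn2 hp
    have h2 : (X + 1 : F[X]) = X - 1 := by
      have h3 : ((p : ℕ) : F[X]) = 0 := CharP.cast_eq_zero _ p
      rw [hp] at h3
      have h4 : (2 : F[X]) = 0 := by exact_mod_cast h3
      linear_combination h4
    have hab : a + b ≤ p ^ j := by
      rw [hp]
      exact le_trans (by omega) (two_mul_le_two_pow j)
    have hEj : E ≤ p ^ j := by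
      have := Nat.lt_pow_self (n := j) (a := p) (by omega)
      omega
    refine ⟨L * p ^ j, Nat.mul_pos hLpos (Nat.pow_pos hpp.pos), hfinal j hSj, Or.inl ?_⟩
    refine hI.hdvd.trans ?_
    rw [h2, ← pow_add]
    have hd1 : (X - 1 : F[X]) ^ (a + b) ∣ X ^ (L * p ^ j) - 1 := by
      refine (pow_dvd_pow _ hab).trans ?_
      rw [K1]
      exact X_pow_sub_one_dvd_of_dvd (Dvd.intro_left _ rfl)
    exact (IsCoprime.pow hI.hc1.symm).mul_dvd hd1 (hρE j hEj)
  · -- odd characteristic
    have hp3 : 3 ≤ p := by omega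
    have hpodd : Odd p := hpp.odd_of_ne_two hp
    have hqodd : Odd q := by rw [hqdef, hqk]; exact hpodd.pow
    have hq3 : 3 ≤ q := by omega
    have h2F : (2 : F) ≠ 0 := Ring.two_ne_zero hp
    have hcop : IsCoprime (X - 1 : F[X]) (X + 1) := by
      refine ⟨-C (2⁻¹ : F), C (2⁻¹ : F), ?_⟩
      have : C (2⁻¹ : F) * 2 = 1 := by
        rw [mul_two, ← C_add, ← two_mul, mul_inv_cancel₀ h2F, C_1]
      linear_combination this
    have h3j : ∀ i : ℕ, 2 * i + 1 ≤ p ^ i := fun i =>
      (two_mul_add_one_le_three_pow i).trans (Nat.pow_le_pow_left hp3 i)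
    rcases Nat.eq_zero_or_pos S with hS0 | hSpos
    · -- only `X ± 1` occur
      subst hS0
      have hL1 : L = 1 := hI.hgood.eq_one_of_zero hq3
      have hρu : IsUnit ρ := by
        have h1 := hI.hρ
        rw [hL1, pow_one] at h1
        exact hI.hc1.isUnit_of_dvd' dvd_rfl h1
      have hχ : χ ∣ (X - 1) ^ a * (X + 1) ^ b :=
        ((hρu.pow E).dvd_mul_right).1 hI.hdvd
      have hab : a + b ≤ χ.natDegree := by omega
      have hmm : 2 * m + 1 ≤ p ^ m := h3j m
      have hb1 : (q - 1) * p ^ m ≤ q ^ (m + 1) := by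
        calc (q - 1) * p ^ m ≤ q * q ^ m :=
              Nat.mul_le_mul (Nat.sub_le _ _) (Nat.pow_le_pow_left hpq m)
          _ = q ^ (m + 1) := by rw [pow_succ]; ring
      rcases Nat.eq_zero_or_pos b with hb0 | hbpos
      · refine ⟨p ^ m, Nat.pow_pos hpp.pos, hb1, Or.inl ?_⟩
        rw [hb0, pow_zero, mul_one] at hχ
        rw [← K1]
        exact hχ.trans (pow_dvd_pow _ (by omega))
      rcases Nat.eq_zero_or_pos a with ha0 | hapos
      · refine ⟨p ^ m, Nat.pow_pos hpp.pos, hb1, Or.inr ?_⟩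
        rw [ha0, pow_zero, one_mul] at hχ
        rw [← K2]
        exact hχ.trans (pow_dvd_pow _ (by omega))
      · have hle : χ.natDegree - 1 ≤ p ^ (m - 1) := by
          refine le_trans ?_ (Nat.pow_le_pow_left hp3 (m - 1))
          by_cases hnn : χ.natDegree = 2 * m + 1
          · have := two_mul_le_three_pow_pred m (hm3 hnn)
            omega
          · have := two_mul_add_one_le_three_pow (m - 1)
            omega
        refine ⟨2 * p ^ (m - 1), Nat.mul_pos (by norm_num) (Nat.pow_pos hpp.pos), ?_,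
          Or.inl ?_⟩
        · calc (q - 1) * (2 * p ^ (m - 1)) = ((q - 1) * 2) * p ^ (m - 1) := by ring
            _ ≤ (q * q) * q ^ (m - 1) := by
                apply Nat.mul_le_mul _ (Nat.pow_le_pow_left hpq _)
                have : (q - 1) * 2 ≤ q * 2 := Nat.mul_le_mul_right _ (Nat.sub_le _ _)
                exact this.trans (Nat.mul_le_mul_left _ hq2)
            _ = q ^ (m + 1) := by
                rw [← pow_two, ← pow_add]
                congr 1
                omega
        · refine hχ.trans ?_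
          have h1 : (X ^ (2 * p ^ (m - 1)) - 1 : F[X]) =
              (X - 1) ^ (p ^ (m - 1)) * (X + 1) ^ (p ^ (m - 1)) := by
            rw [K1, K2, pow_mul']
            ring
          rw [h1]
          exact mul_dvd_mul (pow_dvd_pow _ (by omega)) (pow_dvd_pow _ (by omega))
    · -- some factor other than `X ± 1` occurs: `L` is even
      have hL2 : 2 ∣ L := hI.hpar hqodd hSpos
      have haj : a ≤ p ^ j := le_trans (by omega) (h3j j)
      have hbj : b ≤ p ^ j := le_trans (by omega) (h3j j)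
      have hEj : E ≤ p ^ j := le_trans (by omega) (h3j j)
      refine ⟨L * p ^ j, Nat.mul_pos hLpos (Nat.pow_pos hpp.pos), hfinal j hSj, Or.inl ?_⟩
      refine hI.hdvd.trans ?_
      have hd1 : (X - 1 : F[X]) ^ a ∣ X ^ (L * p ^ j) - 1 := by
        refine (pow_dvd_pow _ haj).trans ?_
        rw [K1]
        exact X_pow_sub_one_dvd_of_dvd (Dvd.intro_left _ rfl)
      have hd2 : (X + 1 : F[X]) ^ b ∣ X ^ (L * p ^ j) - 1 := by
        refine (pow_dvd_pow _ hbj).trans ?_
        rw [K2]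
        have h1 : (X ^ (p ^ j) + 1 : F[X]) ∣ X ^ (2 * p ^ j) - 1 := by
          refine ⟨X ^ (p ^ j) - 1, ?_⟩
          rw [pow_mul']
          ring
        exact h1.trans (X_pow_sub_one_dvd_of_dvd (Nat.mul_dvd_mul_right hL2 _))
      have hc3 : IsCoprime ((X - 1 : F[X]) ^ a * (X + 1) ^ b) (ρ ^ E) :=
        (IsCoprime.pow hI.hc1.symm).mul_left (IsCoprime.pow hI.hc2.symm)
      exact hc3.mul_dvd ((IsCoprime.pow hcop).mul_dvd hd1 hd2) (hρE j hEj)

end main

end Cfsg.Agent.Lib.Helper40_OrdPoly
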