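import Mathlib
import Cfsg.Agent.Lib.Helper40_OrdPoly
import Cfsg.Agent.Lib.Helper44_StdForms

set_option autoImplicit false

/-!
Element orders in the orthogonal groups `PΩ(Q)`: the characteristic polynomial of an isometry of a
non-degenerate quadratic form is self-reciprocal, so `(q - 1) * |g| ≤ q ^ (m + 1)`.
-/

namespace Cfsg.Agent.Lib.Helper40_OrdOrth

open Polynomial Matrix Cfsg.Agent.Lib.Helper40_Palindromic Cfsg.Agent.Lib.Helper40_OrdPoly
  Cfsg.Agent.Lib.Helper44_StdForms

section gram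

variable {F : Type*} [Field F] {ι : Type} [Fintype ι] [DecidableEq ι]

/-- the Gram matrix of the polar form of `Q` in the standard basis -/
def gram (Q : (ι → F) → F) : Matrix ι ι F :=
  Matrix.of fun i j => QuadraticMap.polar Q (Pi.single i 1) (Pi.single j 1)

/-- a matrix preserving a quadratic form preserves the Gram matrix of its polar form -/
theorem gram_invariant (Q : QuadraticForm F (ι → F)) (M : Matrix ι ι F)
    (hM : ∀ v, Q (M *ᵥ v) = Q v) : Mᵀ * gram (⇑Q) * M = gram (⇑Q) := by
  have hg : gram (⇑Q) = LinearMap.toMatrix₂' F (QuadraticMap.polarBilin Q) := by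
    ext i j
    rw [LinearMap.toMatrix₂'_apply, QuadraticMap.polarBilin_apply_apply]
    rfl
  have hc : (QuadraticMap.polarBilin Q).compl₁₂ (Matrix.toLin' M) (Matrix.toLin' M) =
      QuadraticMap.polarBilin Q := by
    apply LinearMap.ext
    intro u
    apply LinearMap.ext
    intro v
    rw [LinearMap.compl₁₂_apply, QuadraticMap.polarBilin_apply_apply,
      QuadraticMap.polarBilin_apply_apply, Matrix.toLin'_apply, Matrix.toLin'_apply]
    unfold QuadraticMap.polar
    rw [← Matrix.mulVec_add, hM, hM, hM]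
  have h := LinearMap.toMatrix₂'_compl₁₂ (QuadraticMap.polarBilin Q) (Matrix.toLin' M)
    (Matrix.toLin' M)
  rw [hc, LinearMap.toMatrix'_toLin'] at h
  rw [hg]
  exact h.symm

/-- a matrix preserving a non-degenerate symmetric bilinear form has a self-reciprocal
characteristic polynomial -/
theorem recip_charpoly_of_gram (M B : Matrix ι ι F) (hB : B.det ≠ 0) (hM : Mᵀ * B * M = B) :
    recip M.charpoly = M.charpoly ∧ M.charpoly.coeff 0 ≠ 0 := by
  have hBu : IsUnit B.det := isUnit_iff_ne_zero.2 hB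
  have h1 : (B⁻¹ * Mᵀ * B) * M = 1 := by
    rw [Matrix.mul_assoc, Matrix.mul_assoc, ← Matrix.mul_assoc Mᵀ, hM,
      Matrix.nonsing_inv_mul _ hBu]
  have h2 : M * (B⁻¹ * Mᵀ * B) = 1 := mul_eq_one_comm.1 h1
  have h3 : (B⁻¹ * Mᵀ * B).charpoly = M.charpoly := by
    rw [Matrix.mul_assoc, Matrix.charpoly_mul_comm, Matrix.mul_assoc,
      Matrix.mul_nonsing_inv _ hBu, Matrix.mul_one, Matrix.charpoly_transpose]
  have h4 := reverse_charpoly_of_mul_eq_one M _ h2
  rw [h3] at h4
  have hdet : M.det ≠ 0 := by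
    intro h0
    have := congrArg Matrix.det h2
    rw [Matrix.det_mul, h0, zero_mul, Matrix.det_one] at this
    exact zero_ne_one this
  have hc0 : M.charpoly.coeff 0 ≠ 0 := by
    intro h0
    apply hdet
    rw [Matrix.det_eq_sign_charpoly_coeff, h0, mul_zero]
  refine ⟨?_, hc0⟩
  unfold recip
  rw [h4, Matrix.det_eq_sign_charpoly_coeff M]
  set c := M.charpoly.coeff 0 with hc
  have h5 : (C c⁻¹ * (C ((-1) ^ Fintype.card ι * c) * (-1) ^ Fintype.card ι) : F[X]) = 1 := by
    have h6 : ((-1 : F[X]) ^ Fintype.card ι) = C ((-1 : F) ^ Fintype.card ι) := by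
      rw [C_pow, C_neg, C_1]
    rw [h6, ← C_mul, ← C_mul, ← C_1]
    congr 1
    have h7 : ((-1 : F) ^ Fintype.card ι) * ((-1 : F) ^ Fintype.card ι) = 1 := by
      rw [← mul_pow]
      norm_num
    calc c⁻¹ * ((-1) ^ Fintype.card ι * c * (-1) ^ Fintype.card ι)
        = (c⁻¹ * c) * ((-1) ^ Fintype.card ι * (-1) ^ Fintype.card ι) := by ring
      _ = 1 := by rw [inv_mul_cancel₀ hc0, h7, one_mul]
  calc C c⁻¹ * (C ((-1) ^ Fintype.card ι * c) * (-1) ^ Fintype.card ι * M.charpoly)
      = (C c⁻¹ * (C ((-1) ^ Fintype.card ι * c) * (-1) ^ Fintype.card ι)) * M.charpoly := by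
        ring
    _ = M.charpoly := by rw [h5, one_mul]

end gram

section group

variable {F : Type*} [Field F] [Fintype F] {ι : Type} [Fintype ι] [DecidableEq ι]

/-- the generic order bound in `PΩ(Q)` -/
theorem pomega_order_bound (Qf : QuadraticForm F (ι → F)) (Q : (ι → F) → F) (hQ : ⇑Qf = Q)
    (hdet : (gram Q).det ≠ 0) (m : ℕ) (hm : 2 ≤ m) (hcard : Fintype.card ι ≤ 2 * m + 1)
    (h2 : ringChar F = 2 → Fintype.card ι ≤ 2 * m) (hm3 : Fintype.card ι = 2 * m + 1 → 3 ≤ m)
    (g : Cfsg.POmega F Q) :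
    (Fintype.card F - 1) * orderOf g ≤ Fintype.card F ^ (m + 1) := by
  classical
  obtain ⟨ω, rfl⟩ := QuotientGroup.mk_surjective g
  set M : Matrix ι ι F := ((ω.1.1 : Matrix.GeneralLinearGroup ι F) : Matrix ι ι F) with hMdef
  have hpres : ∀ v, Qf (M *ᵥ v) = Qf v := by
    intro v
    have := ω.1.2 v v
    rw [hQ]
    exact this
  have hinv : Mᵀ * gram Q * M = gram Q := by
    have := gram_invariant Qf M hpres
    rwa [hQ] at this
  obtain ⟨hrec, h0⟩ := recip_charpoly_of_gram M (gram Q) hdet hinv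
  have hmon := M.charpoly_monic
  have hdeg : M.charpoly.natDegree = Fintype.card ι := Matrix.charpoly_natDegree_eq_dim M
  obtain ⟨N, hNpos, hNb, hN⟩ := poly_main m hm M.charpoly hmon h0 hrec (by omega)
    (fun h => by rw [hdeg]; exact h2 h) (fun h => hm3 (by rw [← hdeg]; exact h))
  have hpow : (((ω ^ N).1.1 : Matrix.GeneralLinearGroup ι F) : Matrix ι ι F) = M ^ N := by
    rw [Subgroup.coe_pow, Subgroup.coe_pow, Units.val_pow_eq_pow_val]
  have hcen : ∀ ε : F, M ^ N = ε • (1 : Matrix ι ι F) →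
      ω ^ N ∈ Subgroup.center (Cfsg.Omega F Q) := by
    intro ε hε
    rw [Subgroup.mem_center_iff]
    intro h
    apply Subtype.ext
    apply Subtype.ext
    apply Units.ext
    rw [Subgroup.coe_mul, Subgroup.coe_mul, Subgroup.coe_mul, Subgroup.coe_mul, Units.val_mul,
      Units.val_mul, hpow, hε]
    simp
  have hgN : (QuotientGroup.mk ω : Cfsg.POmega F Q) ^ N = 1 := by
    rw [← QuotientGroup.mk_pow, QuotientGroup.eq_one_iff]
    rcases hN with h | h
    · have h1 : M ^ N - 1 = 0 := by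
        obtain ⟨c, hc⟩ := h
        have := congrArg (aeval M) hc
        simpa [Matrix.aeval_self_charpoly] using this
      apply hcen 1
      rw [one_smul]
      exact sub_eq_zero.1 h1
    · have h1 : M ^ N + 1 = 0 := by
        obtain ⟨c, hc⟩ := h
        have := congrArg (aeval M) hc
        simpa [Matrix.aeval_self_charpoly] using this
      apply hcen (-1)
      rw [neg_smul, one_smul]
      exact eq_neg_of_add_eq_zero_left h1
  have hdvd := orderOf_dvd_of_pow_eq_one hgN
  have hle := Nat.le_of_dvd hNpos hdvd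
  exact (Nat.mul_le_mul_left _ hle).trans hNb

end group

end Cfsg.Agent.Lib.Helper40_OrdOrth
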