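import Mathlib
import Cfsg.Prelude.Def_Classical
import Cfsg.Agent.Lib.Helper44_Orth
import Cfsg.Agent.Lib.Helper44_Refl
import Cfsg.Agent.Lib.Helper44_Eichler

set_option autoImplicit false
set_option linter.unusedSectionVars false

/-!
Eichler transformations as elements of `Cfsg.isometryGroup`, their membership in `Ω = [O, O]`
(as explicit commutators with reflections: any characteristic, any field), and the consequence that the
centraliser of `Ω` in the matrix ring consists of scalars (helper5).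
-/

namespace Cfsg.Agent.Lib.Helper5_OmegaCenter

open Matrix Cfsg Cfsg.Agent.Lib.Helper44_Orth Cfsg.Agent.Lib.Helper44_Refl
  Cfsg.Agent.Lib.Helper44_Eichler

variable {ι : Type} [Fintype ι] [DecidableEq ι] {F : Type*} [Field F]

local notation "B[" Q "]" => QuadraticMap.polar (⇑Q)

/-- Eichler transformations are isometries. -/
theorem Q_eich (Q : QuadraticForm F (ι → F)) {a y : ι → F} (ha : Q a = 0)
    (hay : QuadraticMap.polar (⇑Q) a y = 0) (x : ι → F) : Q (eich Q a y x) = Q x := by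
  have haa : QuadraticMap.polar (⇑Q) a a = 0 := by rw [Helper44_Refl.polar_self, ha, mul_zero]
  have hya : QuadraticMap.polar (⇑Q) y a = 0 := by rw [QuadraticMap.polar_comm]; exact hay
  have hyy : QuadraticMap.polar (⇑Q) y y = 2 * Q y := Helper44_Refl.polar_self Q y
  set α := QuadraticMap.polar (⇑Q) x y with hα
  set β := QuadraticMap.polar (⇑Q) x a with hβ
  have e : eich Q a y x = x + ((α - Q y * β) • a + (-β) • y) := by
    unfold eich
    rw [sub_smul, neg_smul]
    abel
  rw [e, QuadraticMap.map_add (⇑Q) x, QuadraticMap.map_add (⇑Q) ((α - Q y * β) • a),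
    QuadraticMap.map_smul, QuadraticMap.map_smul, ha, QuadraticMap.polar_add_right,
    QuadraticMap.polar_smul_right, QuadraticMap.polar_smul_right, QuadraticMap.polar_smul_left,
    QuadraticMap.polar_smul_right, hay, ← hα, ← hβ]
  simp only [smul_eq_mul]
  ring

/-- The Eichler transformation as a linear map. -/
def eichLin (Q : QuadraticForm F (ι → F)) (a y : ι → F) : (ι → F) →ₗ[F] (ι → F) where
  toFun := eich Q a y
  map_add' x x' := by
    unfold eich
    rw [QuadraticMap.polar_add_left, QuadraticMap.polar_add_left]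
    simp only [add_smul, mul_add]
    abel
  map_smul' c x := by
    unfold eich
    rw [QuadraticMap.polar_smul_left, QuadraticMap.polar_smul_left]
    funext i
    simp only [smul_eq_mul, RingHom.id_apply, Pi.add_apply, Pi.sub_apply, Pi.smul_apply]
    ring

/-- The matrix of an Eichler transformation. -/
def eichMat (Q : QuadraticForm F (ι → F)) (a y : ι → F) : Matrix ι ι F :=
  LinearMap.toMatrix' (eichLin Q a y)

theorem eichMat_mulVec (Q : QuadraticForm F (ι → F)) (a y x : ι → F) :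
    eichMat Q a y *ᵥ x = eich Q a y x := by
  rw [eichMat, LinearMap.toMatrix'_mulVec]
  rfl

theorem eich_zero (Q : QuadraticForm F (ι → F)) (a x : ι → F) : eich Q a 0 x = x := by
  unfold eich
  simp

theorem eichMat_zero (Q : QuadraticForm F (ι → F)) (a : ι → F) : eichMat Q a 0 = 1 := by
  apply matrix_ext_mulVec
  intro x
  rw [eichMat_mulVec, eich_zero, Matrix.one_mulVec]

theorem eichMat_mul (Q : QuadraticForm F (ι → F)) {a y₁ y₂ : ι → F} (ha : Q a = 0)
    (h₁ : QuadraticMap.polar (⇑Q) a y₁ = 0) (h₂ : QuadraticMap.polar (⇑Q) a y₂ = 0) :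
    eichMat Q a y₁ * eichMat Q a y₂ = eichMat Q a (y₁ + y₂) := by
  apply matrix_ext_mulVec
  intro x
  rw [← Matrix.mulVec_mulVec, eichMat_mulVec, eichMat_mulVec, eichMat_mulVec, eich_add Q ha h₁ h₂]

/-- The Eichler transformation as an element of the isometry group. -/
def eichO (Q : QuadraticForm F (ι → F)) (a y : ι → F) (ha : Q a = 0)
    (hay : QuadraticMap.polar (⇑Q) a y = 0) : ↥(Cfsg.isometryGroup F (⇑Q)) :=
  ⟨⟨eichMat Q a y, eichMat Q a (-y),
    by rw [eichMat_mul Q ha hay (by rw [QuadraticMap.polar_neg_right, hay, neg_zero]),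
        add_neg_cancel, eichMat_zero],
    by rw [eichMat_mul Q ha (by rw [QuadraticMap.polar_neg_right, hay, neg_zero]) hay,
        neg_add_cancel, eichMat_zero]⟩, by
    rw [mem_isometryGroup_iff]
    intro u
    show Q (eichMat Q a y *ᵥ u) = Q u
    rw [eichMat_mulVec, Q_eich Q ha hay]⟩

theorem eichO_coe (Q : QuadraticForm F (ι → F)) (a y : ι → F) (ha : Q a = 0)
    (hay : QuadraticMap.polar (⇑Q) a y = 0) :
    ((eichO Q a y ha hay : Matrix.GeneralLinearGroup ι F) : Matrix ι ι F) = eichMat Q a y := rfl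

theorem eichO_inv_coe (Q : QuadraticForm F (ι → F)) (a y : ι → F) (ha : Q a = 0)
    (hay : QuadraticMap.polar (⇑Q) a y = 0) :
    (((eichO Q a y ha hay)⁻¹ : ↥(Cfsg.isometryGroup F (⇑Q))) : Matrix.GeneralLinearGroup ι F).1
      = eichMat Q a (-y) := rfl

/-- polar form is preserved by an isometry matrix -/
lemma polar_mulVec' (Q : QuadraticForm F (ι → F)) (M : Matrix ι ι F)
    (hM : ∀ v, Q (M *ᵥ v) = Q v) (x y : ι → F) :
    QuadraticMap.polar (⇑Q) (M *ᵥ x) (M *ᵥ y) = QuadraticMap.polar (⇑Q) x y := by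
  unfold QuadraticMap.polar
  rw [← Matrix.mulVec_add, hM, hM, hM]

/-- Conjugation law: `M ∘ E_{a,y} = E_{Ma,My} ∘ M` for an isometry `M`. -/
theorem mulVec_eich (Q : QuadraticForm F (ι → F)) (M : Matrix ι ι F)
    (hM : ∀ v, Q (M *ᵥ v) = Q v) (a y x : ι → F) :
    M *ᵥ (eich Q a y x) = eich Q (M *ᵥ a) (M *ᵥ y) (M *ᵥ x) := by
  unfold eich
  rw [polar_mulVec' Q M hM, polar_mulVec' Q M hM, hM]
  simp only [Matrix.mulVec_add, Matrix.mulVec_sub, Matrix.mulVec_smul]

theorem mul_eichMat (Q : QuadraticForm F (ι → F)) (M : Matrix ι ι F)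
    (hM : ∀ v, Q (M *ᵥ v) = Q v) (a y : ι → F) :
    M * eichMat Q a y = eichMat Q (M *ᵥ a) (M *ᵥ y) * M := by
  apply matrix_ext_mulVec
  intro x
  rw [← Matrix.mulVec_mulVec, ← Matrix.mulVec_mulVec, eichMat_mulVec, eichMat_mulVec,
    mulVec_eich Q M hM]

open scoped commutatorElement in
/-- **Eichler transformations along non-singular vectors are commutators**, hence lie in `Ω`
(any characteristic, any field, including `𝔽₂`). -/
theorem eichO_mem_omega (Q : QuadraticForm F (ι → F))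
    (hnd : ∀ x, (∀ y, QuadraticMap.polar (⇑Q) x y = 0) → x = 0)
    {e f w : ι → F} (he : Q e = 0) (hef : QuadraticMap.polar (⇑Q) e f = 1)
    (hwe : QuadraticMap.polar (⇑Q) e w = 0) (hwf : QuadraticMap.polar (⇑Q) f w = 0) (hw : Q w ≠ 0) :
    eichO Q e w he hwe ∈ Cfsg.Omega F (⇑Q) := by
  have hw0 : w ≠ 0 := by
    rintro rfl
    exact hw (map_zero Q)
  obtain ⟨y₀, hy₀⟩ : ∃ y₀, QuadraticMap.polar (⇑Q) w y₀ ≠ 0 := by
    by_contra h
    push Not at h
    exact hw0 (hnd w h)
  -- make it orthogonal to `e`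
  obtain ⟨y₁, hy₁e, hy₁w⟩ : ∃ y₁, QuadraticMap.polar (⇑Q) e y₁ = 0 ∧ QuadraticMap.polar (⇑Q) w y₁ ≠ 0 := by
    refine ⟨y₀ - QuadraticMap.polar (⇑Q) e y₀ • f, ?_, ?_⟩
    · rw [QuadraticMap.polar_sub_right, QuadraticMap.polar_smul_right, hef]
      simp
    · rw [QuadraticMap.polar_sub_right, QuadraticMap.polar_smul_right, QuadraticMap.polar_comm (⇑Q) w f, hwf]
      simpa using hy₀
  -- scale
  obtain ⟨y, hye, hyw⟩ : ∃ y, QuadraticMap.polar (⇑Q) e y = 0 ∧ QuadraticMap.polar (⇑Q) w y = - Q w := by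
    refine ⟨(- Q w / QuadraticMap.polar (⇑Q) w y₁) • y₁, ?_, ?_⟩
    · rw [QuadraticMap.polar_smul_right, hy₁e, smul_zero]
    · rw [QuadraticMap.polar_smul_right, smul_eq_mul, div_mul_cancel₀ _ hy₁w]
  set R := Cfsg.reflectionMatrix (⇑Q) w with hR
  have hRiso : ∀ v, Q (R *ᵥ v) = Q v := fun v => map_reflection Q hw v
  have hRe : R *ᵥ e = e := by
    rw [hR, reflectionMatrix_mulVec, QuadraticMap.polar_comm (⇑Q) w e, hwe]
    simp
  have hRy : R *ᵥ y = y + w := by
    rw [hR, reflectionMatrix_mulVec, hyw]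
    have : (Q w)⁻¹ * -Q w = -1 := by field_simp
    rw [this]
    simp
  have hyw' : QuadraticMap.polar (⇑Q) e (y + w) = 0 := by
    rw [QuadraticMap.polar_add_right, hye, hwe, add_zero]
  have key : eichO Q e w he hwe = ⁅refl Q w hw, eichO Q e y he hye⁆ := by
    apply Subtype.ext
    apply Units.ext
    rw [commutatorElement_def]
    show eichMat Q e w = R * eichMat Q e y * ((refl Q w hw)⁻¹ : ↥(Cfsg.isometryGroup F (⇑Q))).1.1
      * eichMat Q e (-y)
    have hinv : ((refl Q w hw)⁻¹ : ↥(Cfsg.isometryGroup F (⇑Q))).1.1 = R := rfl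
    rw [hinv, mul_eichMat Q R hRiso, hRe, hRy, Matrix.mul_assoc (eichMat Q e (y + w)), hR,
      reflectionMatrix_mul_self Q hw, Matrix.mul_one,
      eichMat_mul Q he hyw' (by rw [QuadraticMap.polar_neg_right, hye, neg_zero])]
    congr 1
    abel
  rw [key]
  exact Subgroup.commutator_mem_commutator (Subgroup.mem_top _) (Subgroup.mem_top _)

/-! ### The centraliser of the Eichler transformations -/

section centralizer

variable (Q : QuadraticForm F (ι → F)) {e f : ι → F} (he : Q e = 0) (hf : Q f = 0)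
  (hef : QuadraticMap.polar (⇑Q) e f = 1)
  (S : (ι → F) → Prop)
  (hS : ∀ y, S y → QuadraticMap.polar (⇑Q) e y = 0 ∧ QuadraticMap.polar (⇑Q) f y = 0)
  (star : ∀ x, QuadraticMap.polar (⇑Q) e x = 0 → QuadraticMap.polar (⇑Q) f x = 0 →
    (∀ y, S y → QuadraticMap.polar (⇑Q) x y = 0) → x = 0)
  {w₀ : ι → F} (hw₀ : S w₀) (hw₀0 : w₀ ≠ 0)

include he hef hS star hw₀ hw₀0 in
/-- One half of the centraliser computation (for the Eichler transformations along `e`). -/
theorem half (z : Matrix ι ι F)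
    (hz : ∀ y, S y → z * eichMat Q e y = eichMat Q e y * z) :
    ∃ l : F, z *ᵥ e = l • e ∧ ∀ v, QuadraticMap.polar (⇑Q) e v = 0 →
      (QuadraticMap.polar (⇑Q) e (z *ᵥ v) = 0 ∧
        ∀ y, S y → QuadraticMap.polar (⇑Q) (z *ᵥ v - l • v) y = 0) := by
  have hee : QuadraticMap.polar (⇑Q) e e = 0 := by rw [Helper44_Refl.polar_self, he, mul_zero]
  -- general consequence of commutation: for `v ⊥ e`
  have comm : ∀ y, S y → ∀ v, eich Q e y (z *ᵥ v) = z *ᵥ (eich Q e y v) := by
    intro y hy v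
    rw [← eichMat_mulVec, ← eichMat_mulVec, Matrix.mulVec_mulVec, Matrix.mulVec_mulVec, hz y hy]
  -- key extraction: from `eich e y x = x + c • e` get information
  have extract : ∀ y, S y → ∀ (x : ι → F) (c : F), eich Q e y x = x + c • e →
      QuadraticMap.polar (⇑Q) x y - Q y * QuadraticMap.polar (⇑Q) x e = c ∧
        QuadraticMap.polar (⇑Q) x e • y = 0 := by
    intro y hy x c h
    have hye := (hS y hy).1
    have hyf := (hS y hy).2
    unfold eich at h
    have h1 : (QuadraticMap.polar (⇑Q) x y - Q y * QuadraticMap.polar (⇑Q) x e - c) • e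
        = QuadraticMap.polar (⇑Q) x e • y := by
      have : x + QuadraticMap.polar (⇑Q) x y • e - QuadraticMap.polar (⇑Q) x e • y
          - (Q y * QuadraticMap.polar (⇑Q) x e) • e - (x + c • e) = 0 := by rw [h]; abel
      rw [sub_smul, sub_smul]
      rw [← sub_eq_zero]
      rw [← this]
      abel
    have h2 := congrArg (fun u => QuadraticMap.polar (⇑Q) u f) h1
    simp only [QuadraticMap.polar_smul_left, hef, smul_eq_mul, mul_one,
      QuadraticMap.polar_comm (⇑Q) y f, hyf, mul_zero] at h2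
    constructor
    · linear_combination h2
    · rw [← h1, h2, zero_smul]
  have hw₀e := (hS w₀ hw₀).1
  -- Step 1 : `z e` is a multiple of `e`
  have hfix : ∀ y, S y → eich Q e y (z *ᵥ e) = z *ᵥ e + (0 : F) • e := by
    intro y hy
    rw [comm y hy]
    have : eich Q e y e = e := by
      unfold eich
      rw [(hS y hy).1, hee]
      simp
    rw [this]; simp
  have h1e : QuadraticMap.polar (⇑Q) (z *ᵥ e) e = 0 := by
    have := (extract w₀ hw₀ _ _ (hfix w₀ hw₀)).2
    rcases smul_eq_zero.mp this with h | h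
    · exact h
    · exact absurd h hw₀0
  have h1S : ∀ y, S y → QuadraticMap.polar (⇑Q) (z *ᵥ e) y = 0 := by
    intro y hy
    have := (extract y hy _ _ (hfix y hy)).1
    rw [h1e, mul_zero, sub_zero] at this
    exact this
  set l := QuadraticMap.polar (⇑Q) (z *ᵥ e) f with hl
  have hze : z *ᵥ e = l • e := by
    rw [← sub_eq_zero]
    apply star
    · rw [QuadraticMap.polar_sub_right, QuadraticMap.polar_smul_right, hee,
        QuadraticMap.polar_comm, h1e]
      simp
    · rw [QuadraticMap.polar_sub_right, QuadraticMap.polar_smul_right,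
        QuadraticMap.polar_comm (⇑Q) f e, hef, QuadraticMap.polar_comm (⇑Q) f, ← hl]
      simp
    · intro y hy
      rw [QuadraticMap.polar_sub_left, QuadraticMap.polar_smul_left, h1S y hy, (hS y hy).1]
      simp
  refine ⟨l, hze, ?_⟩
  intro v hv
  have hve : QuadraticMap.polar (⇑Q) v e = 0 := by rw [QuadraticMap.polar_comm]; exact hv
  have hv2 : ∀ y, S y → eich Q e y (z *ᵥ v) = z *ᵥ v + (QuadraticMap.polar (⇑Q) v y * l) • e := by
    intro y hy
    rw [comm y hy]
    have : eich Q e y v = v + QuadraticMap.polar (⇑Q) v y • e := by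
      unfold eich
      rw [hve]
      simp
    rw [this, Matrix.mulVec_add, Matrix.mulVec_smul, hze, smul_smul]
  have h2e : QuadraticMap.polar (⇑Q) (z *ᵥ v) e = 0 := by
    have := (extract w₀ hw₀ _ _ (hv2 w₀ hw₀)).2
    rcases smul_eq_zero.mp this with h | h
    · exact h
    · exact absurd h hw₀0
  refine ⟨by rw [QuadraticMap.polar_comm]; exact h2e, ?_⟩
  intro y hy
  have := (extract y hy _ _ (hv2 y hy)).1
  rw [h2e, mul_zero, sub_zero] at this
  rw [QuadraticMap.polar_sub_left, QuadraticMap.polar_smul_left, this, smul_eq_mul]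
  ring

include he hf hef hS star hw₀ hw₀0 in
/-- A matrix commuting with all Eichler transformations `E_{e,y}`, `E_{f,y}` (`y ∈ S`) is a scalar. -/
theorem scalar_of_commute (z : Matrix ι ι F)
    (hze : ∀ y, S y → z * eichMat Q e y = eichMat Q e y * z)
    (hzf : ∀ y, S y → z * eichMat Q f y = eichMat Q f y * z) :
    ∃ l : F, z = l • (1 : Matrix ι ι F) := by
  have hfe : QuadraticMap.polar (⇑Q) f e = 1 := by rw [QuadraticMap.polar_comm]; exact hef
  have hee : QuadraticMap.polar (⇑Q) e e = 0 := by rw [Helper44_Refl.polar_self, he, mul_zero]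
  have hff : QuadraticMap.polar (⇑Q) f f = 0 := by rw [Helper44_Refl.polar_self, hf, mul_zero]
  obtain ⟨l, hl, He⟩ := half Q he hef S hS star hw₀ hw₀0 z hze
  obtain ⟨m, hm, Hf⟩ := half Q hf hfe S (fun y hy => (hS y hy).symm)
    (fun x h1 h2 h3 => star x h2 h1 h3) hw₀ hw₀0 z hzf
  have hWl : ∀ v, QuadraticMap.polar (⇑Q) e v = 0 → QuadraticMap.polar (⇑Q) f v = 0 →
      z *ᵥ v = l • v := by
    intro v hve hvf
    rw [← sub_eq_zero]
    apply star
    · rw [QuadraticMap.polar_sub_right, QuadraticMap.polar_smul_right, (He v hve).1, hve]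
      simp
    · rw [QuadraticMap.polar_sub_right, QuadraticMap.polar_smul_right, (Hf v hvf).1, hvf]
      simp
    · exact (He v hve).2
  have hWm : ∀ v, QuadraticMap.polar (⇑Q) e v = 0 → QuadraticMap.polar (⇑Q) f v = 0 →
      z *ᵥ v = m • v := by
    intro v hve hvf
    rw [← sub_eq_zero]
    apply star
    · rw [QuadraticMap.polar_sub_right, QuadraticMap.polar_smul_right, (He v hve).1, hve]
      simp
    · rw [QuadraticMap.polar_sub_right, QuadraticMap.polar_smul_right, (Hf v hvf).1, hvf]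
      simp
    · exact (Hf v hvf).2
  have hlm : l = m := by
    have h1 := hWl w₀ (hS w₀ hw₀).1 (hS w₀ hw₀).2
    have h2 := hWm w₀ (hS w₀ hw₀).1 (hS w₀ hw₀).2
    rw [h1] at h2
    have : (l - m) • w₀ = 0 := by rw [sub_smul, h2, sub_self]
    rcases smul_eq_zero.mp this with h | h
    · exact sub_eq_zero.mp h
    · exact absurd h hw₀0
  refine ⟨l, ?_⟩
  apply matrix_ext_mulVec
  intro x
  set xW := x - QuadraticMap.polar (⇑Q) x f • e - QuadraticMap.polar (⇑Q) x e • f with hxW
  have hxWe : QuadraticMap.polar (⇑Q) e xW = 0 := by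
    rw [hxW, QuadraticMap.polar_sub_right, QuadraticMap.polar_sub_right, QuadraticMap.polar_smul_right,
      QuadraticMap.polar_smul_right, hee, hef, QuadraticMap.polar_comm (⇑Q) e x]
    simp
  have hxWf : QuadraticMap.polar (⇑Q) f xW = 0 := by
    rw [hxW, QuadraticMap.polar_sub_right, QuadraticMap.polar_sub_right, QuadraticMap.polar_smul_right,
      QuadraticMap.polar_smul_right, hff, hfe, QuadraticMap.polar_comm (⇑Q) f x]
    simp
  have hx : x = QuadraticMap.polar (⇑Q) x f • e + QuadraticMap.polar (⇑Q) x e • f + xW := by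
    rw [hxW]; abel
  conv_lhs => rw [hx]
  rw [Matrix.mulVec_add, Matrix.mulVec_add, Matrix.mulVec_smul, Matrix.mulVec_smul, hl, hm,
    hWl xW hxWe hxWf, ← hlm, Matrix.smul_mulVec, Matrix.one_mulVec]
  conv_rhs => rw [hx]
  simp only [smul_add, smul_smul, mul_comm]

end centralizer

/-! ### The centre of `Ω` -/

/-- The set of non-singular vectors orthogonal to the hyperbolic pair `e, f`. -/
def NS (Q : QuadraticForm F (ι → F)) (e f : ι → F) (y : ι → F) : Prop :=
  QuadraticMap.polar (⇑Q) e y = 0 ∧ QuadraticMap.polar (⇑Q) f y = 0 ∧ Q y ≠ 0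

/-- The "spanning" hypothesis: a vector of `⟨e,f⟩^⊥` orthogonal to all its non-singular vectors is zero. -/
def Star (Q : QuadraticForm F (ι → F)) (e f : ι → F) : Prop :=
  ∀ x, QuadraticMap.polar (⇑Q) e x = 0 → QuadraticMap.polar (⇑Q) f x = 0 →
    (∀ y, NS Q e f y → QuadraticMap.polar (⇑Q) x y = 0) → x = 0

/-- Elements of the centre of `Ω` are scalar matrices. -/
theorem center_omega_scalar (Q : QuadraticForm F (ι → F))
    (hnd : ∀ x, (∀ y, QuadraticMap.polar (⇑Q) x y = 0) → x = 0)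
    {e f : ι → F} (he : Q e = 0) (hf : Q f = 0) (hef : QuadraticMap.polar (⇑Q) e f = 1)
    (star : Star Q e f) {w₀ : ι → F} (hw₀ : NS Q e f w₀)
    (z : ↥(Cfsg.Omega F (⇑Q))) (hz : z ∈ Subgroup.center ↥(Cfsg.Omega F (⇑Q))) :
    ∃ l : F, ((z : ↥(Cfsg.isometryGroup F (⇑Q))) : Matrix.GeneralLinearGroup ι F).1 = l • (1 : Matrix ι ι F) := by
  have hfe : QuadraticMap.polar (⇑Q) f e = 1 := by rw [QuadraticMap.polar_comm]; exact hef
  have hw₀0 : w₀ ≠ 0 := by
    rintro rfl
    exact hw₀.2.2 (map_zero Q)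
  rw [Subgroup.mem_center_iff] at hz
  refine scalar_of_commute Q he hf hef (NS Q e f) (fun y hy => ⟨hy.1, hy.2.1⟩) star hw₀ hw₀0 _ ?_ ?_
  · intro y hy
    have hmem := eichO_mem_omega Q hnd he hef hy.1 hy.2.1 hy.2.2
    have := hz ⟨eichO Q e y he hy.1, hmem⟩
    have h2 := congrArg (fun g : ↥(Cfsg.Omega F (⇑Q)) =>
      ((g : ↥(Cfsg.isometryGroup F (⇑Q))) : Matrix.GeneralLinearGroup ι F).1) this
    exact h2.symm
  · intro y hy
    have hmem := eichO_mem_omega Q hnd hf hfe hy.2.1 hy.1 hy.2.2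
    have := hz ⟨eichO Q f y hf hy.2.1, hmem⟩
    have h2 := congrArg (fun g : ↥(Cfsg.Omega F (⇑Q)) =>
      ((g : ↥(Cfsg.isometryGroup F (⇑Q))) : Matrix.GeneralLinearGroup ι F).1) this
    exact h2.symm

/-- `Star` holds as soon as `⟨e,f⟩^⊥` contains a second hyperbolic pair and a non-singular vector
orthogonal to it. -/
theorem star_of_second_pair (Q : QuadraticForm F (ι → F))
    (hnd : ∀ x, (∀ y, QuadraticMap.polar (⇑Q) x y = 0) → x = 0)
    {e f e₂ f₂ s₀ : ι → F} (he : Q e = 0) (hf : Q f = 0) (hef : QuadraticMap.polar (⇑Q) e f = 1)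
    (he₂ : Q e₂ = 0) (hf₂ : Q f₂ = 0) (hef₂ : QuadraticMap.polar (⇑Q) e₂ f₂ = 1)
    (h1 : QuadraticMap.polar (⇑Q) e e₂ = 0) (h2 : QuadraticMap.polar (⇑Q) e f₂ = 0)
    (h3 : QuadraticMap.polar (⇑Q) f e₂ = 0) (h4 : QuadraticMap.polar (⇑Q) f f₂ = 0)
    (h5 : QuadraticMap.polar (⇑Q) e s₀ = 0) (h6 : QuadraticMap.polar (⇑Q) f s₀ = 0)
    (h7 : QuadraticMap.polar (⇑Q) e₂ s₀ = 0) (h8 : QuadraticMap.polar (⇑Q) f₂ s₀ = 0)
    (hs₀ : Q s₀ ≠ 0) : Star Q e f := by
  intro x hxe hxf hx
  have hee : QuadraticMap.polar (⇑Q) e e = 0 := by rw [Helper44_Refl.polar_self, he, mul_zero]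
  have hff : QuadraticMap.polar (⇑Q) f f = 0 := by rw [Helper44_Refl.polar_self, hf, mul_zero]
  have hee₂ : QuadraticMap.polar (⇑Q) e₂ e₂ = 0 := by rw [Helper44_Refl.polar_self, he₂, mul_zero]
  have hff₂ : QuadraticMap.polar (⇑Q) f₂ f₂ = 0 := by rw [Helper44_Refl.polar_self, hf₂, mul_zero]
  have hfe : QuadraticMap.polar (⇑Q) f e = 1 := by rw [QuadraticMap.polar_comm]; exact hef
  have hfe₂ : QuadraticMap.polar (⇑Q) f₂ e₂ = 1 := by rw [QuadraticMap.polar_comm]; exact hef₂
  have hxs₀ : QuadraticMap.polar (⇑Q) x s₀ = 0 := hx s₀ ⟨h5, h6, hs₀⟩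
  have hxe₂ : QuadraticMap.polar (⇑Q) x e₂ = 0 := by
    have : NS Q e f (e₂ + s₀) := by
      refine ⟨by rw [QuadraticMap.polar_add_right, h1, h5, add_zero],
        by rw [QuadraticMap.polar_add_right, h3, h6, add_zero], ?_⟩
      rw [QuadraticMap.map_add (⇑Q), he₂, h7]
      simpa using hs₀
    have := hx _ this
    rw [QuadraticMap.polar_add_right, hxs₀, add_zero] at this
    exact this
  have hxf₂ : QuadraticMap.polar (⇑Q) x f₂ = 0 := by
    have : NS Q e f (f₂ + s₀) := by
      refine ⟨by rw [QuadraticMap.polar_add_right, h2, h5, add_zero],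
        by rw [QuadraticMap.polar_add_right, h4, h6, add_zero], ?_⟩
      rw [QuadraticMap.map_add (⇑Q), hf₂, h8]
      simpa using hs₀
    have := hx _ this
    rw [QuadraticMap.polar_add_right, hxs₀, add_zero] at this
    exact this
  apply hnd
  intro v
  set v'' := v - QuadraticMap.polar (⇑Q) v f • e - QuadraticMap.polar (⇑Q) v e • f
    - QuadraticMap.polar (⇑Q) v f₂ • e₂ - QuadraticMap.polar (⇑Q) v e₂ • f₂ with hv''
  have hv : v = v'' + QuadraticMap.polar (⇑Q) v f • e + QuadraticMap.polar (⇑Q) v e • f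
    + QuadraticMap.polar (⇑Q) v f₂ • e₂ + QuadraticMap.polar (⇑Q) v e₂ • f₂ := by
    rw [hv'']; abel
  have hv''e : QuadraticMap.polar (⇑Q) e v'' = 0 := by
    rw [hv'']
    simp only [QuadraticMap.polar_sub_right, QuadraticMap.polar_smul_right, hee, hef, h1, h2, smul_eq_mul,
      mul_zero, mul_one, sub_zero, QuadraticMap.polar_comm (⇑Q) e v, sub_self]
  have hv''f : QuadraticMap.polar (⇑Q) f v'' = 0 := by
    rw [hv'']
    simp only [QuadraticMap.polar_sub_right, QuadraticMap.polar_smul_right, hff, hfe, h3, h4, smul_eq_mul,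
      mul_zero, mul_one, sub_zero, QuadraticMap.polar_comm (⇑Q) f v, sub_self]
  have hv''e₂ : QuadraticMap.polar (⇑Q) e₂ v'' = 0 := by
    rw [hv'']
    simp only [QuadraticMap.polar_sub_right, QuadraticMap.polar_smul_right, hee₂, hef₂,
      QuadraticMap.polar_comm (⇑Q) e₂ e, QuadraticMap.polar_comm (⇑Q) e₂ f, h1, h3, smul_eq_mul,
      mul_zero, mul_one, sub_zero, QuadraticMap.polar_comm (⇑Q) e₂ v, sub_self]
  have hv''f₂ : QuadraticMap.polar (⇑Q) f₂ v'' = 0 := by
    rw [hv'']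
    simp only [QuadraticMap.polar_sub_right, QuadraticMap.polar_smul_right, hff₂, hfe₂,
      QuadraticMap.polar_comm (⇑Q) f₂ e, QuadraticMap.polar_comm (⇑Q) f₂ f, h2, h4, smul_eq_mul,
      mul_zero, mul_one, sub_zero, QuadraticMap.polar_comm (⇑Q) f₂ v, sub_self]
  have hxv'' : QuadraticMap.polar (⇑Q) x v'' = 0 := by
    by_cases hQ : Q v'' = 0
    · have : NS Q e f (e₂ + f₂ + v'') := by
        refine ⟨?_, ?_, ?_⟩
        · rw [QuadraticMap.polar_add_right, QuadraticMap.polar_add_right, h1, h2, hv''e]; simp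
        · rw [QuadraticMap.polar_add_right, QuadraticMap.polar_add_right, h3, h4, hv''f]; simp
        · rw [QuadraticMap.map_add (⇑Q), QuadraticMap.map_add (⇑Q) e₂ f₂, he₂, hf₂, hef₂, hQ,
            QuadraticMap.polar_add_left, hv''e₂, hv''f₂]
          simp
      have := hx _ this
      rw [QuadraticMap.polar_add_right, QuadraticMap.polar_add_right, hxe₂, hxf₂] at this
      simpa using this
    · exact hx _ ⟨hv''e, hv''f, hQ⟩
  rw [hv]
  simp only [QuadraticMap.polar_add_right, QuadraticMap.polar_smul_right, hxv'', hxe₂, hxf₂,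
    QuadraticMap.polar_comm (⇑Q) x e, QuadraticMap.polar_comm (⇑Q) x f, hxe, hxf, smul_eq_mul, mul_zero,
    add_zero]

section center
variable (Q : QuadraticForm F (ι → F))
    (hnd : ∀ x, (∀ y, QuadraticMap.polar (⇑Q) x y = 0) → x = 0)
    {e f : ι → F} (he : Q e = 0) (hf : Q f = 0) (hef : QuadraticMap.polar (⇑Q) e f = 1)
    (star : Star Q e f) {w₀ : ι → F} (hw₀ : NS Q e f w₀)

include hnd he hf hef star hw₀ in
/-- Central elements of `Ω` are `±1`. -/
theorem center_omega_pm (z : ↥(Cfsg.Omega F (⇑Q))) (hz : z ∈ Subgroup.center ↥(Cfsg.Omega F (⇑Q))) :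
    ((z : ↥(Cfsg.isometryGroup F (⇑Q))) : Matrix.GeneralLinearGroup ι F).1 = 1 ∨
    ((z : ↥(Cfsg.isometryGroup F (⇑Q))) : Matrix.GeneralLinearGroup ι F).1 = -1 := by
  obtain ⟨l, hl⟩ := center_omega_scalar Q hnd he hf hef star hw₀ z hz
  have hiso := (mem_isometryGroup_iff (⇑Q) z.1.1).mp z.1.2 w₀
  have hl' : ((z : ↥(Cfsg.isometryGroup F (⇑Q))) : Matrix.GeneralLinearGroup ι F).1 = l • (1 : Matrix ι ι F) := hl
  rw [show ((z.1.1 : Matrix.GeneralLinearGroup ι F) : Matrix ι ι F) = l • (1 : Matrix ι ι F) from hl,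
    Matrix.smul_mulVec, Matrix.one_mulVec, QuadraticMap.map_smul, smul_eq_mul] at hiso
  have h1 : (l * l - 1) * Q w₀ = 0 := by linear_combination hiso
  rcases mul_eq_zero.mp h1 with h | h
  · have h2 : (l - 1) * (l + 1) = 0 := by linear_combination h
    rcases mul_eq_zero.mp h2 with h3 | h3
    · left
      rw [hl', sub_eq_zero.mp h3, one_smul]
    · right
      rw [hl', eq_neg_of_add_eq_zero_left h3]
      simp
  · exact absurd h hw₀.2.2

include hnd he hf hef star hw₀ in
/-- If `-1 ∉ Ω` (or `-1 = 1`), the centre of `Ω` is trivial. -/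
theorem center_omega_eq_bot
    (hneg : ∀ z : ↥(Cfsg.Omega F (⇑Q)),
      ((z : ↥(Cfsg.isometryGroup F (⇑Q))) : Matrix.GeneralLinearGroup ι F).1 = -1 → z = 1) :
    Subgroup.center ↥(Cfsg.Omega F (⇑Q)) = ⊥ := by
  rw [eq_bot_iff]
  intro z hz
  rw [Subgroup.mem_bot]
  rcases center_omega_pm Q hnd he hf hef star hw₀ z hz with h | h
  · apply Subtype.ext
    apply Subtype.ext
    apply Units.ext
    exact h
  · exact hneg z h

include hnd he hf hef star hw₀ in
theorem card_POmega_of_center_bot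
    (hneg : ∀ z : ↥(Cfsg.Omega F (⇑Q)),
      ((z : ↥(Cfsg.isometryGroup F (⇑Q))) : Matrix.GeneralLinearGroup ι F).1 = -1 → z = 1) :
    Nat.card (Cfsg.POmega F (⇑Q)) = Nat.card ↥(Cfsg.Omega F (⇑Q)) := by
  have h := Subgroup.card_eq_card_quotient_mul_card_subgroup (Subgroup.center ↥(Cfsg.Omega F (⇑Q)))
  rw [center_omega_eq_bot Q hnd he hf hef star hw₀ hneg, Subgroup.card_bot, mul_one] at h
  rw [h]
  exact Nat.card_congr (QuotientGroup.quotientMulEquivOfEq
    (center_omega_eq_bot Q hnd he hf hef star hw₀ hneg)).toEquiv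

include hnd he hf hef star hw₀ in
/-- If `-1 ∈ Ω` and `2 ≠ 0`, the centre of `Ω` has order two. -/
theorem card_center_omega_eq_two (h2 : (2 : F) ≠ 0) (z₀ : ↥(Cfsg.Omega F (⇑Q)))
    (hz₀ : ((z₀ : ↥(Cfsg.isometryGroup F (⇑Q))) : Matrix.GeneralLinearGroup ι F).1 = -1) :
    Nat.card (Subgroup.center ↥(Cfsg.Omega F (⇑Q))) = 2 := by
  have hz₀c : z₀ ∈ Subgroup.center ↥(Cfsg.Omega F (⇑Q)) := by
    rw [Subgroup.mem_center_iff]
    intro g
    apply Subtype.ext
    apply Subtype.ext
    apply Units.ext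
    show ((g : ↥(Cfsg.isometryGroup F (⇑Q))) : Matrix.GeneralLinearGroup ι F).1 *
      ((z₀ : ↥(Cfsg.isometryGroup F (⇑Q))) : Matrix.GeneralLinearGroup ι F).1 =
      ((z₀ : ↥(Cfsg.isometryGroup F (⇑Q))) : Matrix.GeneralLinearGroup ι F).1 *
      ((g : ↥(Cfsg.isometryGroup F (⇑Q))) : Matrix.GeneralLinearGroup ι F).1
    rw [hz₀]
    simp
  rw [Nat.card_eq_two_iff]
  refine ⟨1, ⟨z₀, hz₀c⟩, ?_, ?_⟩
  · intro h
    have h1 : z₀ = 1 := (congrArg Subtype.val h).symm
    have h3 : ((z₀ : ↥(Cfsg.isometryGroup F (⇑Q))) : Matrix.GeneralLinearGroup ι F).1 = 1 := by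
      rw [h1]; rfl
    rw [hz₀] at h3
    have hw₀0 : w₀ ≠ 0 := by
      rintro rfl
      exact hw₀.2.2 (map_zero Q)
    obtain ⟨i, hi⟩ : ∃ i, w₀ i ≠ 0 := by
      by_contra hcon
      push Not at hcon
      exact hw₀0 (funext hcon)
    have h4 := congrFun (congrFun h3 i) i
    simp at h4
    apply h2
    linear_combination -h4
  · rw [Set.eq_univ_iff_forall]
    intro z
    rcases center_omega_pm Q hnd he hf hef star hw₀ z.1 z.2 with h | h
    · left
      apply Subtype.ext
      apply Subtype.ext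
      apply Subtype.ext
      apply Units.ext
      exact h
    · right
      show z = ⟨z₀, hz₀c⟩
      apply Subtype.ext
      apply Subtype.ext
      apply Subtype.ext
      apply Units.ext
      rw [h, hz₀]

include hnd he hf hef star hw₀ in
theorem card_POmega_of_neg_one_mem (h2 : (2 : F) ≠ 0) (z₀ : ↥(Cfsg.Omega F (⇑Q)))
    (hz₀ : ((z₀ : ↥(Cfsg.isometryGroup F (⇑Q))) : Matrix.GeneralLinearGroup ι F).1 = -1) :
    Nat.card (Cfsg.POmega F (⇑Q)) * 2 = Nat.card ↥(Cfsg.Omega F (⇑Q)) := by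
  have h := Subgroup.card_eq_card_quotient_mul_card_subgroup (Subgroup.center ↥(Cfsg.Omega F (⇑Q)))
  rw [card_center_omega_eq_two Q hnd he hf hef star hw₀ h2 z₀ hz₀] at h
  exact h.symm

end center

end Cfsg.Agent.Lib.Helper5_OmegaCenter
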