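import Mathlib

/-!
Helper68_EA2: generic tools for S4625 (a Sylow 2-subgroup `P` of a group of Lie type in characteristic 2 has `x ^ 2 ∈ P'`).
`EA2 K` = every Sylow 2-subgroup `P` of `K` satisfies `∀ x : P, x ^ 2 ∈ commutator P`.
* `ea2_iff` : reformulation inside `K` (`x ∈ P → x ^ 2 ∈ ⁅P, P⁆`);
* `ea2_of_gen` : a 2-subgroup `U` of odd index generated by a set `S` with `s ^ 2 ∈ ⁅U, U⁆` for `s ∈ S` gives `EA2 K`;
* `ea2_of_surjective`, `ea2_of_equiv` : `EA2` passes to homomorphic images and along isomorphisms.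
helper68.
-/

set_option autoImplicit false

namespace Cfsg.Agent.Lib.Helper68_EA2

open Subgroup
open scoped commutatorElement

/-- every Sylow 2-subgroup has elementary abelian abelianization -/
def EA2 (K : Type*) [Group K] : Prop :=
  ∀ P : Sylow 2 K, ∀ x : (P : Subgroup K), x ^ 2 ∈ commutator (P : Subgroup K)

/-- the same property for a subgroup, stated inside the ambient group -/
def SqComm {K : Type*} [Group K] (U : Subgroup K) : Prop := ∀ x ∈ U, x ^ 2 ∈ ⁅U, U⁆

theorem sqComm_iff {K : Type*} [Group K] (U : Subgroup K) :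
    SqComm U ↔ ∀ x : U, x ^ 2 ∈ commutator U := by
  constructor
  · intro h x
    have h1 := h x.1 x.2
    rw [← map_subtype_commutator] at h1
    obtain ⟨y, hy, hyx⟩ := h1
    have : y = x ^ 2 := Subtype.ext (by simpa using hyx)
    rw [← this]; exact hy
  · intro h x hx
    rw [← map_subtype_commutator]
    exact ⟨⟨x, hx⟩ ^ 2, h ⟨x, hx⟩, by simp⟩

theorem ea2_iff {K : Type*} [Group K] : EA2 K ↔ ∀ P : Sylow 2 K, SqComm (P : Subgroup K) := by
  unfold EA2
  constructor
  · intro h P; exact (sqComm_iff _).mpr (h P)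
  · intro h P; exact (sqComm_iff _).mp (h P)

/-- `SqComm` passes to images -/
theorem SqComm.map {K L : Type*} [Group K] [Group L] {U : Subgroup K} (h : SqComm U) (f : K →* L) :
    SqComm (U.map f) := by
  rintro y ⟨x, hx, rfl⟩
  rw [← map_commutator, ← map_pow]
  exact Subgroup.mem_map_of_mem f (h x hx)

/-- `SqComm` from a generating set -/
theorem sqComm_of_gen {K : Type*} [Group K] (U : Subgroup K) (S : Set K) (hS : Subgroup.closure S = U)
    (hsq : ∀ s ∈ S, s ^ 2 ∈ ⁅U, U⁆) : SqComm U := by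
  intro x hx
  rw [← hS] at hx
  have key : x ∈ U ∧ x ^ 2 ∈ ⁅U, U⁆ := by
    induction hx using Subgroup.closure_induction with
    | mem s hs => exact ⟨hS ▸ Subgroup.subset_closure hs, hsq s hs⟩
    | one => exact ⟨U.one_mem, by simp⟩
    | mul a b _ _ iha ihb =>
      refine ⟨U.mul_mem iha.1 ihb.1, ?_⟩
      have h3 : (a * b) ^ 2 = a ^ 2 * ⁅a⁻¹, b⁆ * b ^ 2 := by
        rw [commutatorElement_def]; simp only [pow_two]; group
      rw [h3]
      exact mul_mem (mul_mem iha.2 (Subgroup.commutator_mem_commutator (U.inv_mem iha.1) ihb.1)) ihb.2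
    | inv a _ iha =>
      refine ⟨U.inv_mem iha.1, ?_⟩
      have : (a⁻¹) ^ 2 = (a ^ 2)⁻¹ := by simp
      rw [this]; exact inv_mem iha.2
  exact key.2

/-- `EA2` from one Sylow subgroup with the property -/
theorem ea2_of_sylow {K : Type*} [Group K] [Finite K] (Q : Sylow 2 K) (hQ : SqComm (Q : Subgroup K)) : EA2 K := by
  rw [ea2_iff]
  intro P
  obtain ⟨g, rfl⟩ := MulAction.exists_smul_eq K Q P
  rw [Sylow.coe_subgroup_smul]
  have := hQ.map (MulAut.conj g).toMonoidHom
  exact this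

/-- a 2-subgroup `U` of odd index generated by `S` with `s ^ 2 ∈ ⁅U, U⁆` -/
theorem ea2_of_gen {K : Type*} [Group K] [Finite K] (U : Subgroup K) (hU : IsPGroup 2 U) (hidx : ¬ 2 ∣ U.index)
    (S : Set K) (hS : Subgroup.closure S = U) (hsq : ∀ s ∈ S, s ^ 2 ∈ ⁅U, U⁆) : EA2 K :=
  haveI : Fact (Nat.Prime 2) := ⟨Nat.prime_two⟩
  ea2_of_sylow (IsPGroup.toSylow hU hidx) (sqComm_of_gen U S hS hsq)

/-- `EA2` passes to homomorphic images -/
theorem ea2_of_surjective {K L : Type*} [Group K] [Finite K] [Group L] (f : K →* L) (hf : Function.Surjective f)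
    (h : EA2 K) : EA2 L := by
  have : Fact (Nat.Prime 2) := ⟨Nat.prime_two⟩
  rw [ea2_iff] at h ⊢
  intro P'
  obtain ⟨P, rfl⟩ := Sylow.mapSurjective_surjective hf 2 P'
  rw [Sylow.coe_mapSurjective]
  exact (h P).map f

/-- `EA2` along an isomorphism -/
theorem ea2_of_equiv {K L : Type*} [Group K] [Group L] [Finite L] (e : K ≃* L) (h : EA2 L) : EA2 K :=
  ea2_of_surjective e.symm.toMonoidHom e.symm.surjective h

end Cfsg.Agent.Lib.Helper68_EA2
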