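import Mathlib
import Cfsg.Agent.Lib.Helper68_EA2

/-!
Helper68_EA2Peel: the PEEL lemma for S4625 and Sylow wiring.
* `sq_mul` : `(l * r) ^ 2 = l ^ 2 * ⁅l⁻¹, r⁆ * r ^ 2`;
* `sqComm_of_peel` : if every `x ≠ 1` of `U` factors as `x = l * r` with `l, r ∈ U`, `r ^ 2 ∈ ⁅U, U⁆` and `μ l < μ x`
  for a measure `μ`, then `SqComm U`;
* `exists_sylow_of_card`, `ea2_of_card`, `ea2_quot_center`.
helper68.
-/

set_option autoImplicit false

namespace Cfsg.Agent.Lib.Helper68_EA2Peel

open Subgroup Cfsg.Agent.Lib.Helper68_EA2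
open scoped commutatorElement

theorem sq_mul {K : Type*} [Group K] (l r : K) : (l * r) ^ 2 = l ^ 2 * ⁅l⁻¹, r⁆ * r ^ 2 := by
  rw [commutatorElement_def]; simp only [pow_two]; group

/-- **PEEL.** -/
theorem sqComm_of_peel {K : Type*} [Group K] (U : Subgroup K) (μ : K → ℕ)
    (h : ∀ x ∈ U, x = 1 ∨ ∃ l ∈ U, ∃ r ∈ U, x = l * r ∧ r ^ 2 ∈ ⁅U, U⁆ ∧ μ l < μ x) : SqComm U := by
  have key : ∀ n : ℕ, ∀ x ∈ U, μ x = n → x ^ 2 ∈ ⁅U, U⁆ := by
    intro n
    induction n using Nat.strong_induction_on with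
    | _ n ih =>
      intro x hx hn
      rcases h x hx with rfl | ⟨l, hl, r, hr, rfl, hr2, hμ⟩
      · simp
      · rw [sq_mul]
        refine mul_mem (mul_mem (ih (μ l) (hn ▸ hμ) l hl rfl) ?_) hr2
        exact Subgroup.commutator_mem_commutator (U.inv_mem hl) hr
  intro x hx
  exact key (μ x) x hx rfl

/-- a variant with a decreasing chain of subsets: `x ∈ C (k+1)` peels to `l ∈ C k`; `C 0 = {1}` -/
theorem sqComm_of_chain {K : Type*} [Group K] (U : Subgroup K) (C : ℕ → Set K)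
    (h0 : ∀ x ∈ C 0, x = 1) (hU : ∀ x ∈ U, ∃ k, x ∈ C k)
    (h : ∀ k, ∀ x ∈ U, x ∈ C (k + 1) → ∃ l ∈ U, ∃ r ∈ U, x = l * r ∧ r ^ 2 ∈ ⁅U, U⁆ ∧ l ∈ C k) : SqComm U := by
  have key : ∀ k : ℕ, ∀ x ∈ U, x ∈ C k → x ^ 2 ∈ ⁅U, U⁆ := by
    intro k
    induction k with
    | zero =>
      intro x _ hx
      rw [h0 x hx]; simp
    | succ k ih =>
      intro x hx hxk
      obtain ⟨l, hl, r, hr, rfl, hr2, hlk⟩ := h k x hx hxk
      rw [sq_mul]
      exact mul_mem (mul_mem (ih l hl hlk) (Subgroup.commutator_mem_commutator (U.inv_mem hl) hr)) hr2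
  intro x hx
  obtain ⟨k, hk⟩ := hU x hx
  exact key k x hx hk

theorem sq_mul' {K : Type*} [Group K] (r l : K) : (r * l) ^ 2 = r ^ 2 * ⁅r⁻¹, l⁆ * l ^ 2 := sq_mul r l

/-- increasing chain, peeling on the LEFT: `x ∈ C k` (`k < N`) factors as `x = r * l` with `l ∈ C (k + 1)`;
`U ⊆ C 0` and `U ∩ C N = {1}` -/
theorem sqComm_of_chain_left {K : Type*} [Group K] (U : Subgroup K) (C : ℕ → Set K) (N : ℕ)
    (hN : ∀ x ∈ U, x ∈ C N → x = 1) (h0 : ∀ x ∈ U, x ∈ C 0)
    (h : ∀ k, k < N → ∀ x ∈ U, x ∈ C k →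
      ∃ r ∈ U, ∃ l ∈ U, x = r * l ∧ r ^ 2 ∈ ⁅U, U⁆ ∧ l ∈ C (k + 1)) : SqComm U := by
  have key : ∀ j : ℕ, ∀ k, k + j = N → ∀ x ∈ U, x ∈ C k → x ^ 2 ∈ ⁅U, U⁆ := by
    intro j
    induction j with
    | zero =>
      intro k hk x hx hxk
      have : k = N := by omega
      rw [hN x hx (this ▸ hxk)]; simp
    | succ j ih =>
      intro k hk x hx hxk
      obtain ⟨r, hr, l, hl, rfl, hr2, hlk⟩ := h k (by omega) x hx hxk
      rw [sq_mul']
      exact mul_mem (mul_mem hr2 (Subgroup.commutator_mem_commutator (U.inv_mem hr) hl))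
        (ih (k + 1) (by omega) l hl hlk)
  intro x hx
  exact key N 0 (by omega) x hx (h0 x hx)

/-- increasing chain, peeling on the RIGHT: `x = l * r` with `l ∈ C (k + 1)` -/
theorem sqComm_of_chain_right {K : Type*} [Group K] (U : Subgroup K) (C : ℕ → Set K) (N : ℕ)
    (hN : ∀ x ∈ U, x ∈ C N → x = 1) (h0 : ∀ x ∈ U, x ∈ C 0)
    (h : ∀ k, k < N → ∀ x ∈ U, x ∈ C k →
      ∃ l ∈ U, ∃ r ∈ U, x = l * r ∧ r ^ 2 ∈ ⁅U, U⁆ ∧ l ∈ C (k + 1)) : SqComm U := by
  have key : ∀ j : ℕ, ∀ k, k + j = N → ∀ x ∈ U, x ∈ C k → x ^ 2 ∈ ⁅U, U⁆ := by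
    intro j
    induction j with
    | zero =>
      intro k hk x hx hxk
      have : k = N := by omega
      rw [hN x hx (this ▸ hxk)]; simp
    | succ j ih =>
      intro k hk x hx hxk
      obtain ⟨l, hl, r, hr, rfl, hr2, hlk⟩ := h k (by omega) x hx hxk
      rw [sq_mul]
      exact mul_mem (mul_mem (ih (k + 1) (by omega) l hl hlk)
        (Subgroup.commutator_mem_commutator (U.inv_mem hl) hr)) hr2
  intro x hx
  exact key N 0 (by omega) x hx (h0 x hx)

/-- generation along an increasing chain: if every `x ∈ U ∩ C k` (`k < N`) can be moved into `C (k + 1)` by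
right multiplication with an element of `closure S ≤ U`, then `closure S = U` -/
theorem closure_eq_of_chain {K : Type*} [Group K] (U : Subgroup K) (S : Set K) (hSU : S ⊆ U)
    (C : ℕ → Set K) (N : ℕ)
    (hN : ∀ x ∈ U, x ∈ C N → x = 1) (h0 : ∀ x ∈ U, x ∈ C 0)
    (h : ∀ k, k < N → ∀ x ∈ U, x ∈ C k → ∃ y ∈ Subgroup.closure S, x * y ∈ C (k + 1)) :
    Subgroup.closure S = U := by
  have hle : Subgroup.closure S ≤ U := (Subgroup.closure_le U).mpr hSU
  apply le_antisymm hle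
  have key : ∀ j : ℕ, ∀ k, k + j = N → ∀ x ∈ U, x ∈ C k → x ∈ Subgroup.closure S := by
    intro j
    induction j with
    | zero =>
      intro k hk x hx hxk
      have : k = N := by omega
      rw [hN x hx (this ▸ hxk)]; exact one_mem _
    | succ j ih =>
      intro k hk x hx hxk
      obtain ⟨y, hy, hxy⟩ := h k (by omega) x hx hxk
      have h1 := ih (k + 1) (by omega) (x * y) (U.mul_mem hx (hle hy)) hxy
      have : x = (x * y) * y⁻¹ := by group
      rw [this]
      exact mul_mem h1 (inv_mem hy)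
  intro x hx
  exact key N 0 (by omega) x hx (h0 x hx)

/-- generation along an increasing chain, LEFT multiplication: if every `x ∈ U ∩ C k` (`k < N`) can be moved into
`C (k + 1)` by left multiplication with an element of `closure S ≤ U`, then `closure S = U` -/
theorem closure_eq_of_chain_left {K : Type*} [Group K] (U : Subgroup K) (S : Set K) (hSU : S ⊆ U)
    (C : ℕ → Set K) (N : ℕ)
    (hN : ∀ x ∈ U, x ∈ C N → x = 1) (h0 : ∀ x ∈ U, x ∈ C 0)
    (h : ∀ k, k < N → ∀ x ∈ U, x ∈ C k → ∃ y ∈ Subgroup.closure S, y * x ∈ C (k + 1)) :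
    Subgroup.closure S = U := by
  have hle : Subgroup.closure S ≤ U := (Subgroup.closure_le U).mpr hSU
  apply le_antisymm hle
  have key : ∀ j : ℕ, ∀ k, k + j = N → ∀ x ∈ U, x ∈ C k → x ∈ Subgroup.closure S := by
    intro j
    induction j with
    | zero =>
      intro k hk x hx hxk
      have : k = N := by omega
      rw [hN x hx (this ▸ hxk)]; exact one_mem _
    | succ j ih =>
      intro k hk x hx hxk
      obtain ⟨y, hy, hxy⟩ := h k (by omega) x hx hxk
      have h1 := ih (k + 1) (by omega) (y * x) (U.mul_mem (hle hy) hx) hxy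
      have : x = y⁻¹ * (y * x) := by group
      rw [this]
      exact mul_mem (inv_mem hy) h1
  intro x hx
  exact key N 0 (by omega) x hx (h0 x hx)

/-- a subgroup of the Sylow order is (the carrier of) a Sylow subgroup -/
theorem exists_sylow_of_card {K : Type*} [Group K] [Finite K] (p : ℕ) [Fact p.Prime] (U : Subgroup K) (k : ℕ)
    (hU : Nat.card U = p ^ k) (hK : ∃ r', Nat.card K = p ^ k * r' ∧ ¬ p ∣ r') :
    ∃ Q : Sylow p K, (Q : Subgroup K) = U := by
  obtain ⟨r', hr', hp⟩ := hK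
  have hpU : IsPGroup p U := IsPGroup.of_card hU
  have hidx : ¬ p ∣ U.index := by
    have h1 := U.card_mul_index
    rw [hU, hr'] at h1
    have hpos : 0 < p ^ k := pow_pos (Fact.out : p.Prime).pos k
    have : U.index = r' := Nat.eq_of_mul_eq_mul_left hpos h1
    rw [this]; exact hp
  exact ⟨IsPGroup.toSylow hpU hidx, rfl⟩

/-- `EA2` from one Sylow subgroup given as a subgroup -/
theorem ea2_of_sylow_eq {K : Type*} [Group K] [Finite K] (Q : Sylow 2 K) (U : Subgroup K)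
    (hQ : (Q : Subgroup K) = U) (h : SqComm U) : EA2 K :=
  ea2_of_sylow Q (hQ ▸ h)

/-- `EA2` from a subgroup of Sylow order -/
theorem ea2_of_card {K : Type*} [Group K] [Finite K] (U : Subgroup K) (k : ℕ)
    (hU : Nat.card U = 2 ^ k) (hK : ∃ r', Nat.card K = 2 ^ k * r' ∧ ¬ 2 ∣ r') (h : SqComm U) : EA2 K := by
  have : Fact (Nat.Prime 2) := ⟨Nat.prime_two⟩
  obtain ⟨Q, hQ⟩ := exists_sylow_of_card 2 U k hU hK
  exact ea2_of_sylow_eq Q U hQ h

/-- `EA2` passes to the quotient by a normal subgroup -/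
theorem ea2_quot {K : Type*} [Group K] [Finite K] (Z : Subgroup K) [Z.Normal] (h : EA2 K) : EA2 (K ⧸ Z) :=
  ea2_of_surjective (QuotientGroup.mk' Z) (QuotientGroup.mk'_surjective Z) h

/-- `SqComm` along an isomorphism onto a subgroup image -/
theorem sqComm_map_equiv {K L : Type*} [Group K] [Group L] (e : K ≃* L) {U : Subgroup K} (h : SqComm U) :
    SqComm (U.map e.toMonoidHom) := h.map e.toMonoidHom

/-- `SqComm` for a subgroup of a subgroup: `U ≤ H`, seen in `H` or in `K` -/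
theorem sqComm_subgroupOf {K : Type*} [Group K] (H U : Subgroup K) (hUH : U ≤ H) (h : SqComm U) :
    SqComm (U.subgroupOf H) := by
  intro x hx
  have h1 := h x.1 hx
  rw [show ⁅U.subgroupOf H, U.subgroupOf H⁆ = (⁅U, U⁆).subgroupOf H from ?_]
  · exact h1
  · have hmap : ((⁅U.subgroupOf H, U.subgroupOf H⁆).map H.subtype) = ⁅U, U⁆ := by
      rw [Subgroup.map_commutator]
      congr 1 <;> simp [Subgroup.map_subgroupOf_eq_of_le hUH]
    ext y
    rw [Subgroup.mem_subgroupOf, ← hmap]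
    constructor
    · intro hy; exact ⟨y, hy, rfl⟩
    · rintro ⟨z, hz, hzy⟩
      have : z = y := Subtype.ext hzy
      rw [← this]; exact hz

end Cfsg.Agent.Lib.Helper68_EA2Peel
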