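/-
Word length in a group with respect to a generating set of involutions, the exchange condition
and its first consequences (deletion, reduced subwords, letters of reduced words of elements of
the subgroup generated by a subset of the generators).
-/
import Mathlib

set_option autoImplicit false
set_option linter.unusedSectionVars false
set_option linter.unusedVariables false

namespace Cfsg.Agent.Lib.Helper6_Word

variable {W : Type*} [Group W]

/-- every letter of the list lies in `S` -/
def IsWord (S : Set W) (l : List W) : Prop := ∀ x ∈ l, x ∈ S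

theorem isWord_nil (S : Set W) : IsWord S [] := by
  intro x hx; simp at hx

theorem isWord_cons {S : Set W} {a : W} {l : List W} :
    IsWord S (a :: l) ↔ a ∈ S ∧ IsWord S l := by
  simp [IsWord]

theorem isWord_append {S : Set W} {l l' : List W} :
    IsWord S (l ++ l') ↔ IsWord S l ∧ IsWord S l' := by
  simp only [IsWord, List.mem_append]
  constructor
  · intro h; exact ⟨fun x hx => h x (Or.inl hx), fun x hx => h x (Or.inr hx)⟩
  · rintro ⟨h1, h2⟩ x (hx | hx)
    · exact h1 x hx
    · exact h2 x hx

theorem IsWord.sublist {S : Set W} {l l' : List W} (h : IsWord S l) (hs : l'.Sublist l) :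
    IsWord S l' := fun x hx => h x (hs.subset hx)

theorem IsWord.reverse {S : Set W} {l : List W} (h : IsWord S l) : IsWord S l.reverse :=
  fun x hx => h x (List.mem_reverse.1 hx)

theorem IsWord.mono {S S' : Set W} {l : List W} (h : IsWord S l) (hS : S ⊆ S') : IsWord S' l :=
  fun x hx => hS (h x hx)

/-- word length with respect to `S` (junk value `0` outside the monoid generated by `S`) -/
noncomputable def len (S : Set W) (w : W) : ℕ :=
  sInf {k | ∃ l : List W, IsWord S l ∧ l.length = k ∧ l.prod = w}

/-- `S` consists of involutions (possibly trivial) and generates `W` -/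
structure InvGen (S : Set W) : Prop where
  sq : ∀ s ∈ S, s * s = 1
  gen : Subgroup.closure S = ⊤

theorem inv_eq_of_sq {s : W} (h : s * s = 1) : s⁻¹ = s := inv_eq_of_mul_eq_one_right h

theorem prod_reverse_of_sq {S : Set W} (hsq : ∀ s ∈ S, s * s = 1) {l : List W} (hl : IsWord S l) :
    l.reverse.prod = l.prod⁻¹ := by
  rw [List.prod_inv_reverse]
  congr 2
  symm
  calc l.map (fun x => x⁻¹) = l.map id := by
        apply List.map_congr_left
        intro x hx
        exact inv_eq_of_sq (hsq x (hl x hx))
    _ = l := List.map_id l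

theorem prod_mem_closure {S : Set W} {l : List W} (hl : IsWord S l) :
    l.prod ∈ Subgroup.closure S :=
  Subgroup.list_prod_mem _ fun x hx => Subgroup.subset_closure (hl x hx)

/-- every element of the subgroup generated by a set of involutions is a word in them -/
theorem exists_word_of_mem_closure {S : Set W} (hsq : ∀ s ∈ S, s * s = 1) {w : W}
    (hw : w ∈ Subgroup.closure S) : ∃ l : List W, IsWord S l ∧ l.prod = w := by
  induction hw using Subgroup.closure_induction with
  | mem x hx => exact ⟨[x], by simpa [IsWord] using hx, by simp⟩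
  | one => exact ⟨[], isWord_nil S, rfl⟩
  | mul x y _ _ hx hy =>
    obtain ⟨l, hl, rfl⟩ := hx
    obtain ⟨l', hl', rfl⟩ := hy
    exact ⟨l ++ l', isWord_append.2 ⟨hl, hl'⟩, List.prod_append⟩
  | inv x _ hx =>
    obtain ⟨l, hl, rfl⟩ := hx
    exact ⟨l.reverse, hl.reverse, prod_reverse_of_sq hsq hl⟩

theorem exists_word {S : Set W} (h : InvGen S) (w : W) :
    ∃ l : List W, IsWord S l ∧ l.prod = w :=
  exists_word_of_mem_closure h.sq (h.gen ▸ Subgroup.mem_top w)

theorem len_le_length {S : Set W} {l : List W} (hl : IsWord S l) : len S l.prod ≤ l.length :=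
  Nat.sInf_le ⟨l, hl, rfl, rfl⟩

theorem exists_reduced {S : Set W} (h : InvGen S) (w : W) :
    ∃ l : List W, IsWord S l ∧ l.prod = w ∧ l.length = len S w := by
  have hne : {k | ∃ l : List W, IsWord S l ∧ l.length = k ∧ l.prod = w}.Nonempty := by
    obtain ⟨l, hl, hw⟩ := exists_word h w
    exact ⟨l.length, l, hl, rfl, hw⟩
  obtain ⟨l, hl, hlen, hw⟩ := Nat.sInf_mem hne
  exact ⟨l, hl, hw, hlen⟩

theorem len_one (S : Set W) : len S (1 : W) = 0 :=
  Nat.le_zero.1 (Nat.sInf_le ⟨[], isWord_nil S, rfl, rfl⟩)

theorem len_eq_zero_iff {S : Set W} (h : InvGen S) {w : W} : len S w = 0 ↔ w = 1 := by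
  constructor
  · intro hw
    obtain ⟨l, _, rfl, hlen⟩ := exists_reduced h w
    rw [hw, List.length_eq_zero_iff] at hlen
    rw [hlen]; rfl
  · rintro rfl; exact len_one S

theorem len_mul_le {S : Set W} (h : InvGen S) (a b : W) : len S (a * b) ≤ len S a + len S b := by
  obtain ⟨l, hl, rfl, hlen⟩ := exists_reduced h a
  obtain ⟨l', hl', rfl, hlen'⟩ := exists_reduced h b
  rw [← hlen, ← hlen', ← List.length_append, ← List.prod_append]
  exact len_le_length (isWord_append.2 ⟨hl, hl'⟩)

theorem len_inv {S : Set W} (h : InvGen S) (w : W) : len S w⁻¹ = len S w := by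
  have key : ∀ w : W, len S w⁻¹ ≤ len S w := by
    intro w
    obtain ⟨l, hl, rfl, hlen⟩ := exists_reduced h w
    rw [← hlen, ← prod_reverse_of_sq h.sq hl, ← List.length_reverse]
    exact len_le_length hl.reverse
  apply le_antisymm (key w)
  simpa using key w⁻¹

theorem len_simple_le_one {S : Set W} {s : W} (hs : s ∈ S) : len S s ≤ 1 := by
  have := len_le_length (S := S) (l := [s]) (by simpa [IsWord] using hs)
  simpa using this

theorem len_simple {S : Set W} (h : InvGen S) {s : W} (hs : s ∈ S) (h1 : s ≠ 1) : len S s = 1 := by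
  apply le_antisymm (len_simple_le_one hs)
  rw [Nat.one_le_iff_ne_zero, Ne, len_eq_zero_iff h]
  exact h1

theorem len_simple_mul_le {S : Set W} (h : InvGen S) {s : W} (hs : s ∈ S) (w : W) :
    len S (s * w) ≤ len S w + 1 := by
  have := len_mul_le h s w
  have := len_simple_le_one hs
  omega

theorem len_le_simple_mul {S : Set W} (h : InvGen S) {s : W} (hs : s ∈ S) (w : W) :
    len S w ≤ len S (s * w) + 1 := by
  have := len_simple_mul_le h hs (s * w)
  rwa [← mul_assoc, h.sq s hs, one_mul] at this

theorem len_mul_simple_le {S : Set W} (h : InvGen S) {s : W} (hs : s ∈ S) (w : W) :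
    len S (w * s) ≤ len S w + 1 := by
  have := len_mul_le h w s
  have := len_simple_le_one hs
  omega

theorem len_le_mul_simple {S : Set W} (h : InvGen S) {s : W} (hs : s ∈ S) (w : W) :
    len S w ≤ len S (w * s) + 1 := by
  have := len_mul_simple_le h hs (w * s)
  rwa [mul_assoc, h.sq s hs, mul_one] at this

/-- if `len w = k + 1` then some generator shortens `w` on the left -/
theorem exists_simple_mul_of_len_succ {S : Set W} (h : InvGen S) {w : W} {k : ℕ}
    (hw : len S w = k + 1) : ∃ s ∈ S, len S (s * w) = k := by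
  obtain ⟨l, hl, rfl, hlen⟩ := exists_reduced h w
  rw [hw] at hlen
  match l, hl, hlen, hw with
  | [], _, hlen, _ => simp at hlen
  | s :: l', hl, hlen, hw =>
    have hs : s ∈ S := (isWord_cons.1 hl).1
    have hl' : IsWord S l' := (isWord_cons.1 hl).2
    refine ⟨s, hs, ?_⟩
    have h1 : s * (s :: l').prod = l'.prod := by
      rw [List.prod_cons, ← mul_assoc, h.sq s hs, one_mul]
    rw [h1]
    have h2 := len_le_length hl'
    have h3 := len_simple_mul_le h hs l'.prod
    rw [← List.prod_cons, hw] at h3
    simp only [List.length_cons, add_left_inj] at hlen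
    omega

/-- if `len w = k + 1` then some generator shortens `w` on the right -/
theorem exists_mul_simple_of_len_succ {S : Set W} (h : InvGen S) {w : W} {k : ℕ}
    (hw : len S w = k + 1) : ∃ s ∈ S, len S (w * s) = k := by
  have hw' : len S w⁻¹ = k + 1 := by rw [len_inv h, hw]
  obtain ⟨s, hs, hk⟩ := exists_simple_mul_of_len_succ h hw'
  refine ⟨s, hs, ?_⟩
  rw [← len_inv h, mul_inv_rev, inv_eq_of_sq (h.sq s hs)]
  exact hk

/-- a word is reduced if its length is the length of its product -/
def IsReduced (S : Set W) (l : List W) : Prop := IsWord S l ∧ l.length = len S l.prod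

theorem IsReduced.tail {S : Set W} (h : InvGen S) {s : W} {l : List W}
    (hl : IsReduced S (s :: l)) : IsReduced S l := by
  obtain ⟨hw, hlen⟩ := hl
  have hs : s ∈ S := (isWord_cons.1 hw).1
  have hl' : IsWord S l := (isWord_cons.1 hw).2
  refine ⟨hl', ?_⟩
  have h2 := len_le_length hl'
  have h3 := len_simple_mul_le h hs l.prod
  rw [← List.prod_cons, ← hlen] at h3
  simp only [List.length_cons] at h3
  omega

theorem IsReduced.dropLast_concat {S : Set W} (h : InvGen S) {s : W} {l : List W}
    (hl : IsReduced S (l ++ [s])) : IsReduced S l := by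
  obtain ⟨hw, hlen⟩ := hl
  have hs : s ∈ S := (isWord_append.1 hw).2 s (by simp)
  have hl' : IsWord S l := (isWord_append.1 hw).1
  refine ⟨hl', ?_⟩
  have h2 := len_le_length hl'
  have h3 := len_mul_simple_le h hs l.prod
  have h4 : (l ++ [s]).prod = l.prod * s := by simp
  rw [← h4, ← hlen] at h3
  simp only [List.length_append, List.length_cons, List.length_nil] at h3
  omega

/-- The exchange condition. -/
def Exchange (S : Set W) : Prop :=
  ∀ s ∈ S, ∀ l : List W, IsReduced S l → len S (s * l.prod) ≤ len S l.prod →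
    ∃ i < l.length, s * l.prod = (l.eraseIdx i).prod

theorem IsWord.eraseIdx {S : Set W} {l : List W} (h : IsWord S l) (i : ℕ) :
    IsWord S (l.eraseIdx i) := h.sublist (List.eraseIdx_sublist l i)

theorem len_simple_mul_lt_of_le {S : Set W} (h : InvGen S) (hE : Exchange S) {s : W} (hs : s ∈ S)
    {w : W} (hle : len S (s * w) ≤ len S w) : len S (s * w) + 1 = len S w := by
  obtain ⟨l, hl, rfl, hlen⟩ := exists_reduced h w
  obtain ⟨i, hi, hi'⟩ := hE s hs l ⟨hl, hlen⟩ hle
  have h1 := len_le_length (hl.eraseIdx i)
  rw [← hi', List.length_eraseIdx, if_pos hi] at h1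
  have h2 := len_le_simple_mul h hs l.prod
  omega

/-- under the exchange condition, `len (s * w) = len w ± 1` -/
theorem len_simple_mul_cases {S : Set W} (h : InvGen S) (hE : Exchange S) {s : W} (hs : s ∈ S)
    (w : W) : len S (s * w) = len S w + 1 ∨ len S (s * w) + 1 = len S w := by
  rcases le_or_gt (len S (s * w)) (len S w) with hle | hlt
  · exact Or.inr (len_simple_mul_lt_of_le h hE hs hle)
  · left
    have := len_simple_mul_le h hs w
    omega

/-- deletion, weak form: a non-reduced word has a strictly shorter subword with the same product -/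
theorem exists_shorter_sublist {S : Set W} (h : InvGen S) (hE : Exchange S) :
    ∀ l : List W, IsWord S l → len S l.prod < l.length →
      ∃ l' : List W, l'.Sublist l ∧ l'.length < l.length ∧ l'.prod = l.prod := by
  intro l
  induction l with
  | nil => intro _ hlt; simp at hlt
  | cons s l ih =>
    intro hw hlt
    have hs : s ∈ S := (isWord_cons.1 hw).1
    have hl : IsWord S l := (isWord_cons.1 hw).2
    by_cases hred : l.length = len S l.prod
    · -- `l` reduced: use exchange
      have hle : len S (s * l.prod) ≤ len S l.prod := by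
        rw [List.prod_cons, List.length_cons] at hlt
        omega
      obtain ⟨i, hi, hi'⟩ := hE s hs l ⟨hl, hred⟩ hle
      refine ⟨l.eraseIdx i, (List.eraseIdx_sublist l i).trans (List.sublist_cons_self s l), ?_, ?_⟩
      · rw [List.length_eraseIdx, if_pos hi, List.length_cons]; omega
      · rw [List.prod_cons, hi']
    · have hlt' : len S l.prod < l.length := lt_of_le_of_ne (len_le_length hl) (Ne.symm hred)
      obtain ⟨l', hsub, hlen, hprod⟩ := ih hl hlt'
      refine ⟨s :: l', hsub.cons_cons s, by simpa using hlen, ?_⟩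
      rw [List.prod_cons, List.prod_cons, hprod]

/-- any word contains a reduced subword with the same product -/
theorem exists_reduced_sublist {S : Set W} (h : InvGen S) (hE : Exchange S) :
    ∀ (n : ℕ) (l : List W), l.length = n → IsWord S l →
      ∃ l' : List W, l'.Sublist l ∧ l'.prod = l.prod ∧ l'.length = len S l.prod := by
  intro n
  induction n using Nat.strong_induction_on with
  | _ n ih =>
    intro l hn hw
    by_cases hred : l.length = len S l.prod
    · exact ⟨l, List.Sublist.refl l, rfl, hred⟩
    · have hlt : len S l.prod < l.length := lt_of_le_of_ne (len_le_length hw) (Ne.symm hred)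
      obtain ⟨l', hsub, hlen, hprod⟩ := exists_shorter_sublist h hE l hw hlt
      obtain ⟨l'', hsub', hprod', hlen'⟩ := ih l'.length (hn ▸ hlen) l' rfl (hw.sublist hsub)
      exact ⟨l'', hsub'.trans hsub, hprod'.trans hprod, by rw [hlen', hprod]⟩

/-- an element of the subgroup generated by `J ⊆ S` has an `S`-reduced expression with letters in `J` -/
theorem exists_reduced_word_of_mem_closure {S : Set W} (h : InvGen S) (hE : Exchange S)
    {J : Set W} (hJ : J ⊆ S) {w : W} (hw : w ∈ Subgroup.closure J) :
    ∃ l : List W, IsWord J l ∧ l.prod = w ∧ l.length = len S w := by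
  obtain ⟨l, hl, rfl⟩ := exists_word_of_mem_closure (fun s hs => h.sq s (hJ hs)) hw
  obtain ⟨l', hsub, hprod, hlen⟩ := exists_reduced_sublist h hE l.length l rfl (hl.mono hJ)
  exact ⟨l', hl.sublist hsub, hprod, hlen⟩

/-- a generator lying in the subgroup generated by `J ⊆ S` lies in `J` -/
theorem mem_of_simple_mem_closure {S : Set W} (h : InvGen S) (hE : Exchange S) (h1 : (1 : W) ∉ S)
    {J : Set W} (hJ : J ⊆ S) {s : W} (hs : s ∈ S) (hsJ : s ∈ Subgroup.closure J) : s ∈ J := by
  obtain ⟨l, hl, hprod, hlen⟩ := exists_reduced_word_of_mem_closure h hE hJ hsJ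
  have hs1 : s ≠ 1 := fun h' => h1 (h' ▸ hs)
  rw [len_simple h hs hs1] at hlen
  obtain ⟨x, rfl⟩ := List.length_eq_one_iff.1 hlen
  simp only [List.prod_cons, List.prod_nil, mul_one] at hprod
  rw [← hprod]
  exact hl x (by simp)

/-- all letters of a reduced word of an element of the subgroup generated by `J ⊆ S` lie in `J` -/
theorem isWord_of_reduced_of_mem_closure {S : Set W} (h : InvGen S) (hE : Exchange S)
    (h1 : (1 : W) ∉ S) {J : Set W} (hJ : J ⊆ S) :
    ∀ l : List W, IsReduced S l → l.prod ∈ Subgroup.closure J → IsWord J l := by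
  intro l
  induction l with
  | nil => intro _ _; exact isWord_nil J
  | cons s l ih =>
    intro hred hmem
    have hs : s ∈ S := (isWord_cons.1 hred.1).1
    have hredl : IsReduced S l := hred.tail h
    obtain ⟨t, ht, htprod, htlen⟩ := exists_reduced_word_of_mem_closure h hE hJ hmem
    have hsl : s * (s :: l).prod = l.prod := by
      rw [List.prod_cons, ← mul_assoc, h.sq s hs, one_mul]
    have hle : len S (s * t.prod) ≤ len S t.prod := by
      rw [htprod, hsl, ← hred.2, ← hredl.2]; simp
    obtain ⟨i, _, hi'⟩ := hE s hs t ⟨ht.mono hJ, by rw [htlen, htprod]⟩ hle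
    have hsJ : s ∈ Subgroup.closure J := by
      have : s = (t.eraseIdx i).prod * t.prod⁻¹ := by rw [← hi']; group
      rw [this]
      exact Subgroup.mul_mem _ (prod_mem_closure (ht.eraseIdx i))
        (Subgroup.inv_mem _ (prod_mem_closure ht))
    have hsJ' : s ∈ J := mem_of_simple_mem_closure h hE h1 hJ hs hsJ
    have hlmem : l.prod ∈ Subgroup.closure J := by
      rw [← hsl]
      exact Subgroup.mul_mem _ hsJ hmem
    exact isWord_cons.2 ⟨hsJ', ih hredl hlmem⟩

theorem closure_inf_closure {S : Set W} (h : InvGen S) (hE : Exchange S)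
    (h1 : (1 : W) ∉ S) {J K : Set W} (hJ : J ⊆ S) (hK : K ⊆ S) :
    Subgroup.closure J ⊓ Subgroup.closure K = Subgroup.closure (J ∩ K) := by
  apply le_antisymm
  · intro w hw
    obtain ⟨hwJ, hwK⟩ := Subgroup.mem_inf.1 hw
    obtain ⟨l, hl, rfl, hlen⟩ := exists_reduced h w
    have h1' := isWord_of_reduced_of_mem_closure h hE h1 hJ l ⟨hl, hlen⟩ hwJ
    have h2' := isWord_of_reduced_of_mem_closure h hE h1 hK l ⟨hl, hlen⟩ hwK
    exact prod_mem_closure fun x hx => ⟨h1' x hx, h2' x hx⟩
  · exact le_inf (Subgroup.closure_mono Set.inter_subset_left)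
      (Subgroup.closure_mono Set.inter_subset_right)

end Cfsg.Agent.Lib.Helper6_Word
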