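/-
Basic theory of (B, N)-pairs (`Cfsg.BNPair`): double cosets, the Weyl group `W = N / (B ∩ N)` with its
length function, the Bruhat decomposition, the multiplication rules for double cosets and the exchange
condition in `W`.
-/
import Cfsg.Prelude.Def_LieExceptional
import Cfsg.Agent.Lib.Helper6_Word

set_option autoImplicit false
set_option linter.unusedSectionVars false
set_option linter.unusedVariables false

namespace Cfsg.Agent.Lib.Helper6_BNPair

open Cfsg DoubleCoset Cfsg.Agent.Lib.Helper6_Word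
open scoped Pointwise

variable {G : Type*} [Group G] (P : BNPair G)

/-! ### Double cosets of `B` -/

/-- the double coset `B g B` -/
abbrev C (g : G) : Set G := doubleCoset g (P.B : Set G) P.B

theorem mem_C {g h : G} : h ∈ C P g ↔ ∃ x ∈ P.B, ∃ y ∈ P.B, h = x * g * y := by
  simp only [C, mem_doubleCoset, SetLike.mem_coe]

theorem mem_C_self (g : G) : g ∈ C P g := mem_doubleCoset_self P.B P.B g

theorem C_eq_of_mem {g h : G} (hg : g ∈ C P h) : C P g = C P h := doubleCoset_eq_of_mem hg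

theorem C_eq_of_mem_of_mem {x g h : G} (hg : x ∈ C P g) (hh : x ∈ C P h) : C P g = C P h :=
  (C_eq_of_mem P hg).symm.trans (C_eq_of_mem P hh)

theorem mem_C_mul_left {g h b : G} (hb : b ∈ P.B) (hg : g ∈ C P h) : b * g ∈ C P h := by
  obtain ⟨x, hx, y, hy, rfl⟩ := (mem_C P).1 hg
  exact (mem_C P).2 ⟨b * x, P.B.mul_mem hb hx, y, hy, by group⟩

theorem mem_C_mul_right {g h b : G} (hb : b ∈ P.B) (hg : g ∈ C P h) : g * b ∈ C P h := by
  obtain ⟨x, hx, y, hy, rfl⟩ := (mem_C P).1 hg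
  exact (mem_C P).2 ⟨x, hx, y * b, P.B.mul_mem hy hb, by group⟩

theorem C_mul_left {b : G} (hb : b ∈ P.B) (g : G) : C P (b * g) = C P g :=
  C_eq_of_mem P (mem_C_mul_left P hb (mem_C_self P g))

theorem C_mul_right {b : G} (hb : b ∈ P.B) (g : G) : C P (g * b) = C P g :=
  C_eq_of_mem P (mem_C_mul_right P hb (mem_C_self P g))

theorem mem_C_of_mem_B {g b : G} (hb : b ∈ P.B) : g ∈ C P b ↔ g ∈ P.B := by
  rw [mem_C]
  constructor
  · rintro ⟨x, hx, y, hy, rfl⟩
    exact P.B.mul_mem (P.B.mul_mem hx hb) hy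
  · intro hg
    exact ⟨g * b⁻¹, P.B.mul_mem hg (P.B.inv_mem hb), 1, P.B.one_mem, by group⟩

theorem mem_C_one {g : G} : g ∈ C P 1 ↔ g ∈ P.B := mem_C_of_mem_B P P.B.one_mem

theorem inv_mem_C {g h : G} (hg : g ∈ C P h) : g⁻¹ ∈ C P h⁻¹ := by
  obtain ⟨x, hx, y, hy, rfl⟩ := (mem_C P).1 hg
  exact (mem_C P).2 ⟨y⁻¹, P.B.inv_mem hy, x⁻¹, P.B.inv_mem hx, by group⟩

theorem inv_mem_C_iff {g h : G} : g⁻¹ ∈ C P h⁻¹ ↔ g ∈ C P h := by
  constructor
  · intro hg
    have := inv_mem_C P hg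
    simpa using this
  · exact inv_mem_C P

/-! ### The Weyl group -/

/-- `T = B ∩ N` as a subgroup of `N` -/
def T : Subgroup P.N := (P.B ⊓ P.N).subgroupOf P.N

theorem mem_T {n : P.N} : n ∈ T P ↔ (n : G) ∈ P.B := by
  simp [T, Subgroup.mem_subgroupOf]

instance T_normal : (T P).Normal := ⟨fun t ht n => by
  rw [mem_T] at ht ⊢
  simpa using P.conj_mem n n.2 t ⟨ht, t.2⟩⟩

/-- the Weyl group `N / (B ∩ N)` -/
abbrev W := P.N ⧸ T P

/-- the quotient map `N → W` -/
def π : P.N →* W P := QuotientGroup.mk' (T P)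

theorem π_surjective : Function.Surjective (π P) := QuotientGroup.mk'_surjective (T P)

theorem π_eq_iff {n n' : P.N} : π P n = π P n' ↔ (n : G)⁻¹ * n' ∈ P.B := by
  show (QuotientGroup.mk n : W P) = QuotientGroup.mk n' ↔ _
  rw [QuotientGroup.eq, mem_T]
  simp

theorem π_eq_one_iff {n : P.N} : π P n = 1 ↔ (n : G) ∈ P.B := by
  show (QuotientGroup.mk n : W P) = 1 ↔ _
  rw [QuotientGroup.eq_one_iff, mem_T]

theorem C_congr {n n' : P.N} (h : π P n = π P n') : C P (n : G) = C P (n' : G) := by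
  have hb := (π_eq_iff P).1 h
  have : (n' : G) = n * ((n : G)⁻¹ * n') := by group
  rw [this, C_mul_right P hb]

/-- the distinguished generators, as elements of `N` -/
def SN : Set P.N := {n | (n : G) ∈ P.S}

/-- the distinguished generators of the Weyl group -/
def SW : Set (W P) := π P '' SN P

theorem not_mem_B_of_mem_S {s : G} (hs : s ∈ P.S) : s ∉ P.B := by
  intro hB
  apply P.conj_ne s hs
  ext g
  constructor
  · rintro ⟨b, hb, rfl⟩
    exact P.B.mul_mem (P.B.mul_mem hB hb) hB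
  · intro hg
    refine ⟨s⁻¹ * g * s⁻¹, P.B.mul_mem (P.B.mul_mem (P.B.inv_mem hB) hg) (P.B.inv_mem hB), ?_⟩
    group

theorem invGen : InvGen (SW P) := by
  constructor
  · rintro _ ⟨s, hs, rfl⟩
    rw [← map_mul, π_eq_one_iff]
    exact P.sq_mem s hs
  · -- generation
    have h1 : Subgroup.closure (SN P) ⊔ T P = ⊤ := by
      apply Subgroup.map_injective P.N.subtype_injective
      rw [Subgroup.map_sup, MonoidHom.map_closure, T, Subgroup.subgroupOf_map_subtype,
        ← MonoidHom.range_eq_map, Subgroup.range_subtype]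
      have : (P.N.subtype '' SN P) = P.S := by
        ext g
        constructor
        · rintro ⟨n, hn, rfl⟩; exact hn
        · intro hg; exact ⟨⟨g, P.subset hg⟩, hg, rfl⟩
      rw [this, inf_assoc, inf_idem]
      exact P.closure_sup
    have h2 : Subgroup.map (π P) (Subgroup.closure (SN P) ⊔ T P) = ⊤ := by
      rw [h1]; exact Subgroup.map_top_of_surjective _ (π_surjective P)
    rw [Subgroup.map_sup, MonoidHom.map_closure] at h2
    have h3 : Subgroup.map (π P) (T P) = ⊥ := by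
      rw [eq_bot_iff]
      rintro _ ⟨t, ht, rfl⟩
      rw [Subgroup.mem_bot, π_eq_one_iff]
      exact (mem_T P).1 ht
    rw [h3, sup_bot_eq] at h2
    exact h2

theorem one_not_mem_SW : (1 : W P) ∉ SW P := by
  rintro ⟨s, hs, h1⟩
  rw [π_eq_one_iff] at h1
  exact not_mem_B_of_mem_S P hs h1

/-- an element of `N` is *simple* if it represents a distinguished generator of `W` -/
def IsSimple (σ : P.N) : Prop := π P σ ∈ SW P

theorem isSimple_of_mem {σ : P.N} (h : (σ : G) ∈ P.S) : IsSimple P σ := ⟨σ, h, rfl⟩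

theorem IsSimple.sq {σ : P.N} (h : IsSimple P σ) : π P σ * π P σ = 1 := (invGen P).sq _ h

theorem IsSimple.π_inv {σ : P.N} (h : IsSimple P σ) : π P σ⁻¹ = π P σ := by
  rw [map_inv]; exact inv_eq_of_sq h.sq

theorem IsSimple.inv {σ : P.N} (h : IsSimple P σ) : IsSimple P σ⁻¹ := by
  unfold IsSimple; rw [h.π_inv]; exact h

theorem IsSimple.not_mem_B {σ : P.N} (h : IsSimple P σ) : (σ : G) ∉ P.B := by
  intro hB
  apply one_not_mem_SW P
  rw [← (π_eq_one_iff P).2 hB]
  exact h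

/-- axiom (T3) for all representatives of distinguished generators -/
theorem T3 {σ : P.N} (hσ : IsSimple P σ) (n : P.N) {b : G} (hb : b ∈ P.B) :
    (σ : G) * b * n ∈ C P ((σ : G) * n) ∪ C P (n : G) := by
  obtain ⟨s, hs, hπ⟩ := hσ
  have ht : (s : G)⁻¹ * σ ∈ P.B := (π_eq_iff P).1 hπ
  have h1 : (s : G) * ((s : G)⁻¹ * σ * b) * n ∈ C P ((s : G) * n) ∪ C P (n : G) :=
    P.mul_mem_union s hs n n.2 ((s : G)⁻¹ * σ * b) (P.B.mul_mem ht hb)
  have h2 : (s : G) * ((s : G)⁻¹ * σ * b) * n = σ * b * n := by group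
  have h3 : C P ((s : G) * n) = C P ((σ : G) * n) := by
    have : π P (s * n) = π P (σ * n) := by rw [map_mul, map_mul, hπ]
    exact C_congr P this
  rw [h2, h3] at h1
  exact h1

theorem T3_right {σ : P.N} (hσ : IsSimple P σ) (n : P.N) {b : G} (hb : b ∈ P.B) :
    (n : G) * b * σ ∈ C P ((n : G) * σ) ∪ C P (n : G) := by
  have h := T3 P hσ.inv n⁻¹ (P.B.inv_mem hb)
  have e1 : ((σ⁻¹ : P.N) : G) * b⁻¹ * ((n⁻¹ : P.N) : G) = ((n : G) * b * σ)⁻¹ := by
    simp only [Subgroup.coe_inv]; group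
  have e2 : ((σ⁻¹ : P.N) : G) * ((n⁻¹ : P.N) : G) = ((n : G) * σ)⁻¹ := by
    simp only [Subgroup.coe_inv]; group
  have e3 : ((n⁻¹ : P.N) : G) = (n : G)⁻¹ := by simp
  rw [e1, e2, e3] at h
  rcases h with h | h
  · exact Or.inl ((inv_mem_C_iff P).1 h)
  · exact Or.inr ((inv_mem_C_iff P).1 h)

/-! ### Bruhat decomposition: existence -/

theorem exists_lift_word : ∀ l : List (W P), IsWord (SW P) l →
    ∃ l' : List P.N, (∀ x ∈ l', x ∈ SN P) ∧ π P l'.prod = l.prod := by
  intro l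
  induction l with
  | nil => intro _; exact ⟨[], by simp, by simp⟩
  | cons x l ih =>
    intro hl
    obtain ⟨⟨s, hs, rfl⟩, hl'⟩ := isWord_cons.1 hl
    obtain ⟨l', hl'1, hl'2⟩ := ih hl'
    refine ⟨s :: l', ?_, ?_⟩
    · intro y hy
      rcases List.mem_cons.1 hy with rfl | hy
      · exact hs
      · exact hl'1 y hy
    · rw [List.prod_cons, List.prod_cons, map_mul, hl'2]

/-- every element of `N` is a product of distinguished generators times an element of `B ∩ N` -/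
theorem exists_word_mul (n : P.N) :
    ∃ l : List P.N, (∀ x ∈ l, x ∈ SN P) ∧ (l.prod : G)⁻¹ * n ∈ P.B := by
  obtain ⟨l, hl, hprod⟩ := exists_word (invGen P) (π P n)
  obtain ⟨l', hl'1, hl'2⟩ := exists_lift_word P l hl
  refine ⟨l', hl'1, ?_⟩
  rw [← π_eq_iff, hl'2, hprod]

/-- the union of the double cosets `B n B`, `n ∈ N` -/
def BNB : Set G := {g | ∃ n : P.N, g ∈ C P (n : G)}

/-- the submonoid of elements that map `B N B` into itself by left multiplication -/
def stabBNB : Submonoid G where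
  carrier := {h | ∀ g ∈ BNB P, h * g ∈ BNB P}
  one_mem' := by intro g hg; simpa using hg
  mul_mem' := by
    intro a b ha hb g hg
    rw [mul_assoc]
    exact ha _ (hb _ hg)

theorem mem_stabBNB_of_mem_B {b : G} (hb : b ∈ P.B) : b ∈ stabBNB P := by
  rintro g ⟨n, hn⟩
  exact ⟨n, mem_C_mul_left P hb hn⟩

theorem mem_stabBNB_of_isSimple {σ : P.N} (hσ : IsSimple P σ) : (σ : G) ∈ stabBNB P := by
  rintro g ⟨n, hn⟩
  obtain ⟨x, hx, y, hy, rfl⟩ := (mem_C P).1 hn
  have h := T3 P hσ n hx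
  have e : (σ : G) * (x * n * y) = (σ : G) * x * n * y := by group
  rw [e]
  rcases h with h | h
  · exact ⟨σ * n, mem_C_mul_right P hy h⟩
  · exact ⟨n, mem_C_mul_right P hy h⟩

theorem mem_stabBNB_of_mem_N (n : P.N) : (n : G) ∈ stabBNB P := by
  obtain ⟨l, hl, hb⟩ := exists_word_mul P n
  have h1 : ∀ l : List P.N, (∀ x ∈ l, x ∈ SN P) → ((l.prod : P.N) : G) ∈ stabBNB P := by
    intro l
    induction l with
    | nil => intro _; simp
    | cons x l ih =>
      intro hl
      rw [List.prod_cons, Subgroup.coe_mul]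
      apply (stabBNB P).mul_mem
      · exact mem_stabBNB_of_isSimple P (isSimple_of_mem P (hl x (by simp)))
      · exact ih fun y hy => hl y (List.mem_cons_of_mem _ hy)
  have e : (n : G) = (l.prod : G) * ((l.prod : G)⁻¹ * n) := by group
  rw [e]
  exact (stabBNB P).mul_mem (h1 l hl) (mem_stabBNB_of_mem_B P hb)

theorem stabBNB_eq_top : ∀ g : G, g ∈ stabBNB P := by
  intro g
  have hg : g ∈ Subgroup.closure ((P.B : Set G) ∪ P.N) := by
    rw [Subgroup.closure_union, Subgroup.closure_eq, Subgroup.closure_eq, P.sup_eq_top]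
    exact Subgroup.mem_top g
  induction hg using Subgroup.closure_induction'' with
  | mem x hx =>
    rcases hx with hx | hx
    · exact mem_stabBNB_of_mem_B P hx
    · exact mem_stabBNB_of_mem_N P ⟨x, hx⟩
  | inv_mem x hx =>
    rcases hx with hx | hx
    · exact mem_stabBNB_of_mem_B P (P.B.inv_mem hx)
    · exact mem_stabBNB_of_mem_N P ⟨x⁻¹, P.N.inv_mem hx⟩
  | one => exact (stabBNB P).one_mem
  | mul x y _ _ hx hy => exact (stabBNB P).mul_mem hx hy

/-- Bruhat decomposition, existence: `G = B N B` -/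
theorem exists_mem_C (g : G) : ∃ n : P.N, g ∈ C P (n : G) := by
  have h := stabBNB_eq_top P g 1 ⟨1, by simpa using mem_C_self P (1 : G)⟩
  rw [mul_one] at h
  exact h

/-! ### The length function and uniqueness in the Bruhat decomposition -/

/-- the length of (the image in `W` of) an element of `N` -/
noncomputable def ℓ (n : P.N) : ℕ := len (SW P) (π P n)

theorem ℓ_eq_zero_iff {n : P.N} : ℓ P n = 0 ↔ (n : G) ∈ P.B := by
  unfold ℓ
  rw [len_eq_zero_iff (invGen P), π_eq_one_iff]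

theorem ℓ_congr {n n' : P.N} (h : π P n = π P n') : ℓ P n = ℓ P n' := by
  unfold ℓ; rw [h]

theorem ℓ_simple_mul_le {σ : P.N} (hσ : IsSimple P σ) (n : P.N) : ℓ P (σ * n) ≤ ℓ P n + 1 := by
  unfold ℓ; rw [map_mul]; exact len_simple_mul_le (invGen P) hσ _

theorem ℓ_le_simple_mul {σ : P.N} (hσ : IsSimple P σ) (n : P.N) : ℓ P n ≤ ℓ P (σ * n) + 1 := by
  unfold ℓ; rw [map_mul]; exact len_le_simple_mul (invGen P) hσ _

theorem ℓ_mul_simple_le {σ : P.N} (hσ : IsSimple P σ) (n : P.N) : ℓ P (n * σ) ≤ ℓ P n + 1 := by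
  unfold ℓ; rw [map_mul]; exact len_mul_simple_le (invGen P) hσ _

theorem ℓ_le_mul_simple {σ : P.N} (hσ : IsSimple P σ) (n : P.N) : ℓ P n ≤ ℓ P (n * σ) + 1 := by
  unfold ℓ; rw [map_mul]; exact len_le_mul_simple (invGen P) hσ _

theorem ℓ_inv_simple_mul {σ : P.N} (hσ : IsSimple P σ) (n : P.N) : ℓ P (σ⁻¹ * n) = ℓ P (σ * n) := by
  unfold ℓ; rw [map_mul, map_mul, hσ.π_inv]

theorem ℓ_mul_inv_simple {σ : P.N} (hσ : IsSimple P σ) (n : P.N) : ℓ P (n * σ⁻¹) = ℓ P (n * σ) := by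
  unfold ℓ; rw [map_mul, map_mul, hσ.π_inv]

/-- if `ℓ n = k + 1`, some simple `σ` has `ℓ (σ * n) = k` -/
theorem exists_simple_mul_of_ℓ_succ {n : P.N} {k : ℕ} (h : ℓ P n = k + 1) :
    ∃ σ : P.N, (σ : G) ∈ P.S ∧ ℓ P (σ * n) = k := by
  obtain ⟨_, ⟨σ, hσ, rfl⟩, hk⟩ := exists_simple_mul_of_len_succ (invGen P) h
  exact ⟨σ, hσ, by unfold ℓ; rw [map_mul]; exact hk⟩

/-- if `ℓ n = k + 1`, some simple `σ` has `ℓ (n * σ) = k` -/
theorem exists_mul_simple_of_ℓ_succ {n : P.N} {k : ℕ} (h : ℓ P n = k + 1) :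
    ∃ σ : P.N, (σ : G) ∈ P.S ∧ ℓ P (n * σ) = k := by
  obtain ⟨_, ⟨σ, hσ, rfl⟩, hk⟩ := exists_mul_simple_of_len_succ (invGen P) h
  exact ⟨σ, hσ, by unfold ℓ; rw [map_mul]; exact hk⟩

theorem bruhat_unique_aux : ∀ (k : ℕ) (n n' : P.N), ℓ P n = k → ℓ P n ≤ ℓ P n' →
    C P (n : G) = C P (n' : G) → π P n = π P n' := by
  intro k
  induction k with
  | zero =>
    intro n n' hk _ hC
    have hn : (n : G) ∈ P.B := (ℓ_eq_zero_iff P).1 hk
    have hn' : (n' : G) ∈ C P (n : G) := hC ▸ mem_C_self P (n' : G)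
    rw [mem_C_of_mem_B P hn] at hn'
    rw [(π_eq_one_iff P).2 hn, (π_eq_one_iff P).2 hn']
  | succ k ih =>
    intro n n' hk hle hC
    obtain ⟨σ, hσS, hσk⟩ := exists_simple_mul_of_ℓ_succ P hk
    have hσ : IsSimple P σ := isSimple_of_mem P hσS
    have hn : (n : G) ∈ C P (n' : G) := hC ▸ mem_C_self P (n : G)
    obtain ⟨x, hx, y, hy, hxy⟩ := (mem_C P).1 hn
    have h3 := T3 P hσ n' hx
    have e : ((σ * n : P.N) : G) = (σ : G) * x * n' * y := by
      rw [Subgroup.coe_mul, hxy]; group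
    rcases h3 with h3 | h3
    · -- `σ n ∈ C (σ n')`
      have h4 : ((σ * n : P.N) : G) ∈ C P ((σ * n' : P.N) : G) := by
        rw [e]; exact mem_C_mul_right P hy h3
      have h5 := ih (σ * n) (σ * n') hσk (by
        have := ℓ_le_simple_mul P hσ n'
        omega) (C_eq_of_mem P h4)
      rw [map_mul, map_mul] at h5
      exact mul_left_cancel h5
    · -- `σ n ∈ C n'`: impossible
      have h4 : ((σ * n : P.N) : G) ∈ C P (n' : G) := by
        rw [e]; exact mem_C_mul_right P hy h3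
      have h5 := ih (σ * n) n' hσk (by omega) (C_eq_of_mem P h4)
      have := ℓ_congr P h5
      omega

/-- Bruhat decomposition, uniqueness -/
theorem C_eq_iff {n n' : P.N} : C P (n : G) = C P (n' : G) ↔ π P n = π P n' := by
  constructor
  · intro h
    rcases le_total (ℓ P n) (ℓ P n') with hle | hle
    · exact bruhat_unique_aux P _ n n' rfl hle h
    · exact (bruhat_unique_aux P _ n' n rfl hle h.symm).symm
  · exact C_congr P

theorem C_eq_iff' {n n' : P.N} : C P (n : G) = C P (n' : G) ↔ (n : G)⁻¹ * n' ∈ P.B := by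
  rw [C_eq_iff, π_eq_iff]

end Cfsg.Agent.Lib.Helper6_BNPair
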