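/-
(B, N)-pairs, second part: multiplication of double cosets by a simple double coset, the exchange
condition in the Weyl group, parabolic subgroups.
-/
import Cfsg.Agent.Lib.Helper6_BNPair

set_option autoImplicit false
set_option linter.unusedSectionVars false
set_option linter.unusedVariables false

namespace Cfsg.Agent.Lib.Helper6_BNPair

open Cfsg DoubleCoset Cfsg.Agent.Lib.Helper6_Word
open scoped Pointwise

variable {G : Type*} [Group G] (P : BNPair G)

/-! ### Multiplying by a simple double coset -/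

/-- if `ℓ (σ n) ≥ ℓ n` then `σ B n ⊆ B σ n B` -/
theorem simple_mul_mem_of_le_aux : ∀ (k : ℕ) (σ n : P.N), IsSimple P σ → ℓ P n = k →
    ℓ P n ≤ ℓ P (σ * n) → ∀ b ∈ P.B, (σ : G) * b * n ∈ C P ((σ : G) * n) := by
  intro k
  induction k with
  | zero =>
    intro σ n hσ hk _ b hb
    have hn : (n : G) ∈ P.B := (ℓ_eq_zero_iff P).1 hk
    refine (mem_C P).2 ⟨1, P.B.one_mem, (n : G)⁻¹ * b * n,
      P.B.mul_mem (P.B.mul_mem (P.B.inv_mem hn) hb) hn, by group⟩
  | succ k ih =>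
    intro σ n hσ hk hle b hb
    by_contra hnot
    obtain ⟨τ, hτS, hτk⟩ := exists_mul_simple_of_ℓ_succ P hk
    have hτ : IsSimple P τ := isSimple_of_mem P hτS
    have h3 := T3 P hσ n hb
    have hmem : (σ : G) * b * n ∈ C P (n : G) := by
      rcases h3 with h3 | h3
      · exact absurd h3 hnot
      · exact h3
    obtain ⟨x, hx, y, hy, hxy⟩ := (mem_C P).1 hmem
    -- `σ b (n τ) = x (n y τ)`
    have h4 := T3_right P hτ n hy
    have e : (σ : G) * b * ((n * τ : P.N) : G) = x * ((n : G) * y * τ) := by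
      rw [Subgroup.coe_mul, ← mul_assoc, hxy]; group
    have hle' : ℓ P (n * τ) ≤ ℓ P (σ * (n * τ)) := by
      have h5 := ℓ_le_mul_simple P hτ (σ * n)
      rw [mul_assoc] at h5
      omega
    have h6 := ih σ (n * τ) hσ hτk hle' b hb
    rw [e] at h6
    rcases h4 with h4 | h4
    · -- `C (σ n τ) = C (n τ)`: impossible
      have h7 : C P ((σ : G) * ((n * τ : P.N) : G)) = C P ((n : G) * τ) :=
        C_eq_of_mem_of_mem P h6 (mem_C_mul_left P hx h4)
      have h8 : π P (σ * (n * τ)) = π P (n * τ) := (C_eq_iff P).1 h7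
      rw [map_mul] at h8
      have h9 : π P σ = 1 := mul_eq_right.1 h8
      exact one_not_mem_SW P (h9 ▸ hσ)
    · -- `C (σ n τ) = C n`
      have h7 : C P ((σ : G) * ((n * τ : P.N) : G)) = C P (n : G) :=
        C_eq_of_mem_of_mem P h6 (mem_C_mul_left P hx h4)
      have h8 : π P (σ * (n * τ)) = π P n := (C_eq_iff P).1 h7
      have h9 : π P (σ * n) = π P (n * τ) := by
        have h8' : π P (σ * n) * π P τ = π P n := by
          rw [← map_mul, mul_assoc]; exact h8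
        rw [map_mul (π P) n τ, ← h8', mul_assoc, hτ.sq, mul_one]
      have := ℓ_congr P h9
      omega


/-- if `ℓ (σ n) ≥ ℓ n` then `σ B n ⊆ B σ n B` -/
theorem simple_mul_mem_of_le {σ n : P.N} (hσ : IsSimple P σ) (hle : ℓ P n ≤ ℓ P (σ * n))
    {b : G} (hb : b ∈ P.B) : (σ : G) * b * n ∈ C P ((σ : G) * n) :=
  simple_mul_mem_of_le_aux P _ σ n hσ rfl hle b hb

theorem exists_not_mem_B {s : G} (hs : s ∈ P.S) : ∃ b ∈ P.B, s * b * s ∉ P.B := by
  by_contra hcon
  push Not at hcon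
  apply P.conj_ne s hs
  ext g
  constructor
  · rintro ⟨b, hb, rfl⟩
    exact hcon b hb
  · intro hg
    have ht : (s * s)⁻¹ ∈ P.B := P.B.inv_mem (P.sq_mem s hs)
    refine ⟨(s * s)⁻¹ * (s * g * s) * (s * s)⁻¹, P.B.mul_mem (P.B.mul_mem ht (hcon g hg)) ht, ?_⟩
    show s * ((s * s)⁻¹ * (s * g * s) * (s * s)⁻¹) * s = g
    group

/-- `σ B σ` meets `B σ B` -/
theorem exists_sq_mem {σ : P.N} (hσ : IsSimple P σ) :
    ∃ b ∈ P.B, (σ : G) * b * σ ∈ C P (σ : G) := by
  obtain ⟨s, hs, hπ⟩ := id hσ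
  obtain ⟨b, hb, hnot⟩ := exists_not_mem_B P hs
  have ht : (s : G)⁻¹ * σ ∈ P.B := (π_eq_iff P).1 hπ
  have h3 := T3 P (isSimple_of_mem P hs) s hb
  have h4 : (s : G) * b * s ∈ C P (s : G) := by
    rcases h3 with h3 | h3
    · exfalso
      apply hnot
      exact (mem_C_of_mem_B P (P.sq_mem s hs)).1 h3
    · exact h3
  refine ⟨((s : G)⁻¹ * σ)⁻¹ * b, P.B.mul_mem (P.B.inv_mem ht) hb, ?_⟩
  have e : (σ : G) * (((s : G)⁻¹ * σ)⁻¹ * b) * σ = (s : G) * b * s * ((s : G)⁻¹ * σ) := by group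
  rw [e, ← C_congr P hπ]
  exact mem_C_mul_right P ht h4

/-- if `ℓ (σ n) ≤ ℓ n` then `σ B n` meets `B n B` -/
theorem exists_simple_mul_mem_of_le {σ n : P.N} (hσ : IsSimple P σ) (hle : ℓ P (σ * n) ≤ ℓ P n) :
    ∃ b ∈ P.B, (σ : G) * b * n ∈ C P (n : G) := by
  obtain ⟨b₀, hb₀, h0⟩ := exists_sq_mem P hσ
  obtain ⟨x, hx, y, hy, hxy⟩ := (mem_C P).1 h0
  have hle' : ℓ P (σ⁻¹ * n) ≤ ℓ P (σ * (σ⁻¹ * n)) := by
    rw [ℓ_inv_simple_mul P hσ, mul_inv_cancel_left]; exact hle
  have h1 := simple_mul_mem_of_le P hσ hle' hy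
  refine ⟨b₀, hb₀, ?_⟩
  have e : (σ : G) * b₀ * n = x * ((σ : G) * y * ((σ⁻¹ * n : P.N) : G)) := by
    have : (σ : G) * b₀ = x * σ * y * (σ : G)⁻¹ := by rw [← hxy]; group
    rw [this]; simp only [Subgroup.coe_mul, Subgroup.coe_inv]; group
  rw [e]
  have e2 : (σ : G) * ((σ⁻¹ * n : P.N) : G) = n := by
    simp only [Subgroup.coe_mul, Subgroup.coe_inv]; group
  rw [e2] at h1
  exact mem_C_mul_left P hx h1

theorem ℓ_simple_mul_ne {σ : P.N} (hσ : IsSimple P σ) (n : P.N) : ℓ P (σ * n) ≠ ℓ P n := by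
  intro heq
  obtain ⟨b, hb, h1⟩ := exists_simple_mul_mem_of_le P hσ heq.le
  have h2 := simple_mul_mem_of_le P hσ heq.ge hb
  have h3 : π P (σ * n) = π P n := (C_eq_iff P).1 (C_eq_of_mem_of_mem P h2 h1)
  rw [map_mul] at h3
  exact one_not_mem_SW P ((mul_eq_right.1 h3) ▸ hσ)

/-! ### The exchange condition -/

theorem exchange : Exchange (SW P) := by
  intro x hx l
  induction l using List.reverseRecOn with
  | nil =>
    intro _ hle
    exfalso
    simp only [List.prod_nil, mul_one, len_one, Nat.le_zero] at hle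
    rw [len_eq_zero_iff (invGen P)] at hle
    exact one_not_mem_SW P (hle ▸ hx)
  | append_singleton l y ih =>
    intro hred hle
    have hredl : IsReduced (SW P) l := hred.dropLast_concat (invGen P)
    have hy : y ∈ SW P := (isWord_append.1 hred.1).2 y (by simp)
    by_cases h : len (SW P) (x * l.prod) ≤ len (SW P) l.prod
    · obtain ⟨i, hi, hi'⟩ := ih hredl h
      refine ⟨i, by simp; omega, ?_⟩
      rw [List.eraseIdx_append_of_lt_length hi, List.prod_append, List.prod_append, ← hi',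
        mul_assoc]
    · push Not at h
      obtain ⟨σ, hσS, rfl⟩ := hx
      obtain ⟨τ, hτS, rfl⟩ := hy
      obtain ⟨n', hn'⟩ := π_surjective P l.prod
      have hσ : IsSimple P σ := isSimple_of_mem P hσS
      have hτ : IsSimple P τ := isSimple_of_mem P hτS
      have hprod : (l ++ [π P τ]).prod = π P (n' * τ) := by
        rw [List.prod_append, map_mul, hn']; simp
      have hle1 : ℓ P n' ≤ ℓ P (σ * n') := by
        unfold ℓ; rw [map_mul, hn']; exact h.le
      have hle2 : ℓ P (σ * (n' * τ)) ≤ ℓ P (n' * τ) := by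
        unfold ℓ; rw [map_mul, ← hprod]; exact hle
      obtain ⟨b, hb, h1⟩ := exists_simple_mul_mem_of_le P hσ hle2
      obtain ⟨x₁, hx₁, y₁, hy₁, hxy⟩ := (mem_C P).1 h1
      have h2 := simple_mul_mem_of_le P hσ hle1 hb
      have h3 := T3_right P hτ.inv (n' * τ) hy₁
      have e : (σ : G) * b * n' = x₁ * (((n' * τ : P.N) : G) * y₁ * ((τ⁻¹ : P.N) : G)) := by
        have : (σ : G) * b * n' = (σ : G) * b * ((n' * τ : P.N) : G) * ((τ⁻¹ : P.N) : G) := by
          simp only [Subgroup.coe_mul, Subgroup.coe_inv]; group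
        rw [this, hxy]; group
      have e2 : ((n' * τ : P.N) : G) * ((τ⁻¹ : P.N) : G) = n' := by
        simp only [Subgroup.coe_mul, Subgroup.coe_inv]; group
      rw [e] at h2
      rw [e2] at h3
      rcases h3 with h3 | h3
      · exfalso
        have h7 : π P (σ * n') = π P n' :=
          (C_eq_iff P).1 (C_eq_of_mem_of_mem P h2 (mem_C_mul_left P hx₁ h3))
        rw [map_mul] at h7
        exact one_not_mem_SW P ((mul_eq_right.1 h7) ▸ hσ)
      · have h7 : π P (σ * n') = π P (n' * τ) :=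
          (C_eq_iff P).1 (C_eq_of_mem_of_mem P h2 (mem_C_mul_left P hx₁ h3))
        refine ⟨l.length, by simp, ?_⟩
        rw [List.eraseIdx_append_of_length_le (le_refl _), Nat.sub_self, hprod, ← h7, map_mul,
          ← mul_assoc, hσ.sq, one_mul, hn']
        simp

theorem ℓ_simple_mul_cases {σ : P.N} (hσ : IsSimple P σ) (n : P.N) :
    ℓ P (σ * n) = ℓ P n + 1 ∨ ℓ P (σ * n) + 1 = ℓ P n := by
  unfold ℓ; rw [map_mul]
  exact len_simple_mul_cases (invGen P) (exchange P) hσ _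

/-! ### Parabolic subgroups -/

theorem closure_le_N {J : Set G} (hJ : J ⊆ P.S) : Subgroup.closure J ≤ P.N :=
  (Subgroup.closure_le _).2 (hJ.trans P.subset)

theorem B_le_parabolic (J : Set G) : P.B ≤ P.parabolic J := le_sup_left

theorem closure_le_parabolic (J : Set G) : Subgroup.closure J ≤ P.parabolic J := le_sup_right

/-- the union of the double cosets `B n B`, `n ∈ ⟨J⟩` -/
def BJB (J : Set G) : Set G := {g | ∃ n ∈ Subgroup.closure J, g ∈ C P n}

/-- the submonoid of elements that map `B ⟨J⟩ B` into itself by left multiplication -/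
def stabBJB (J : Set G) : Submonoid G where
  carrier := {h | ∀ g ∈ BJB P J, h * g ∈ BJB P J}
  one_mem' := by intro g hg; simpa using hg
  mul_mem' := by
    intro a b ha hb g hg
    rw [mul_assoc]
    exact ha _ (hb _ hg)

theorem mem_stabBJB_of_isSimple {J : Set G} (hJ : J ⊆ P.S) {σ : P.N} (hσ : IsSimple P σ)
    (hσJ : (σ : G) ∈ Subgroup.closure J) : (σ : G) ∈ stabBJB P J := by
  rintro g ⟨n, hnJ, hn⟩
  obtain ⟨x, hx, y, hy, rfl⟩ := (mem_C P).1 hn
  have h := T3 P hσ ⟨n, closure_le_N P hJ hnJ⟩ hx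
  have e : (σ : G) * (x * n * y) = (σ : G) * x * n * y := by group
  rw [e]
  rcases h with h | h
  · exact ⟨σ * n, Subgroup.mul_mem _ hσJ hnJ, mem_C_mul_right P hy h⟩
  · exact ⟨n, hnJ, mem_C_mul_right P hy h⟩

theorem parabolic_le_stabBJB {J : Set G} (hJ : J ⊆ P.S) {g : G} (hg : g ∈ P.parabolic J) :
    g ∈ stabBJB P J := by
  have hg' : g ∈ Subgroup.closure ((P.B : Set G) ∪ J) := by
    rw [Subgroup.closure_union, Subgroup.closure_eq]; exact hg
  induction hg' using Subgroup.closure_induction'' with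
  | mem x hx =>
    rcases hx with hx | hx
    · rintro g ⟨n, hnJ, hn⟩
      exact ⟨n, hnJ, mem_C_mul_left P hx hn⟩
    · exact mem_stabBJB_of_isSimple P hJ (σ := ⟨x, P.subset (hJ hx)⟩)
        (isSimple_of_mem P (hJ hx)) (Subgroup.subset_closure hx)
  | inv_mem x hx =>
    rcases hx with hx | hx
    · rintro g ⟨n, hnJ, hn⟩
      exact ⟨n, hnJ, mem_C_mul_left P (P.B.inv_mem hx) hn⟩
    · exact mem_stabBJB_of_isSimple P hJ (σ := (⟨x, P.subset (hJ hx)⟩ : P.N)⁻¹)
        (isSimple_of_mem P (hJ hx)).inv (Subgroup.inv_mem _ (Subgroup.subset_closure hx))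
  | one => exact (stabBJB P J).one_mem
  | mul x y hx hy hx' hy' =>
    rw [Subgroup.closure_union, Subgroup.closure_eq] at hx hy
    exact (stabBJB P J).mul_mem (hx' hx) (hy' hy)

/-- `P_J = B ⟨J⟩ B` -/
theorem mem_parabolic_iff {J : Set G} (hJ : J ⊆ P.S) (g : G) :
    g ∈ P.parabolic J ↔ ∃ n ∈ Subgroup.closure J, g ∈ C P n := by
  constructor
  · intro hg
    have h := parabolic_le_stabBJB P hJ hg 1 ⟨1, Subgroup.one_mem _, mem_C_self P 1⟩
    rw [mul_one] at h
    exact h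
  · rintro ⟨n, hnJ, hn⟩
    obtain ⟨x, hx, y, hy, rfl⟩ := (mem_C P).1 hn
    exact Subgroup.mul_mem _ (Subgroup.mul_mem _ (B_le_parabolic P J hx)
      (closure_le_parabolic P J hnJ)) (B_le_parabolic P J hy)

/-- if `σ` shortens `n` and `M ⊇ B` contains `n B n⁻¹`, then `σ ∈ M` -/
theorem simple_mem_of_shorter {M : Subgroup G} (hM : P.B ≤ M) {σ n : P.N} (hσ : IsSimple P σ)
    (hle : ℓ P (σ * n) ≤ ℓ P n) (hconj : ∀ b ∈ P.B, (n : G) * b * (n : G)⁻¹ ∈ M) :
    (σ : G) ∈ M := by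
  obtain ⟨b, hb, h1⟩ := exists_simple_mul_mem_of_le P hσ hle
  obtain ⟨x, hx, y, hy, hxy⟩ := (mem_C P).1 h1
  have e : (σ : G) = x * ((n : G) * y * (n : G)⁻¹) * b⁻¹ := by
    have : (σ : G) = (σ : G) * b * n * (n : G)⁻¹ * b⁻¹ := by group
    rw [this, hxy]; group
  rw [e]
  exact M.mul_mem (M.mul_mem (hM hx) (hconj y hy)) (hM (P.B.inv_mem hb))

theorem mem_of_conj_mem_aux : ∀ (k : ℕ) (n : P.N), ℓ P n = k → ∀ M : Subgroup G, P.B ≤ M →
    (∀ b ∈ P.B, (n : G) * b * (n : G)⁻¹ ∈ M) → (n : G) ∈ M := by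
  intro k
  induction k with
  | zero =>
    intro n hk M hM _
    exact hM ((ℓ_eq_zero_iff P).1 hk)
  | succ k ih =>
    intro n hk M hM hconj
    obtain ⟨σ, hσS, hσk⟩ := exists_simple_mul_of_ℓ_succ P hk
    have hσ : IsSimple P σ := isSimple_of_mem P hσS
    have hσM : (σ : G) ∈ M := simple_mem_of_shorter P hM hσ (by omega) hconj
    have h1 : ((σ * n : P.N) : G) ∈ M := by
      apply ih (σ * n) hσk M hM
      intro b hb
      have e : ((σ * n : P.N) : G) * b * ((σ * n : P.N) : G)⁻¹ =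
          (σ : G) * ((n : G) * b * (n : G)⁻¹) * (σ : G)⁻¹ := by
        simp only [Subgroup.coe_mul]; group
      rw [e]
      exact M.mul_mem (M.mul_mem hσM (hconj b hb)) (M.inv_mem hσM)
    have e : (n : G) = (σ : G)⁻¹ * ((σ * n : P.N) : G) := by
      simp only [Subgroup.coe_mul]; group
    rw [e]
    exact M.mul_mem (M.inv_mem hσM) h1

/-- a subgroup containing `B` and `n B n⁻¹` contains `n` -/
theorem mem_of_conj_mem (n : P.N) {M : Subgroup G} (hM : P.B ≤ M)
    (hconj : ∀ b ∈ P.B, (n : G) * b * (n : G)⁻¹ ∈ M) : (n : G) ∈ M :=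
  mem_of_conj_mem_aux P _ n rfl M hM hconj

/-- a subgroup containing `B` and `g B g⁻¹` contains `g` -/
theorem mem_of_conj_mem' (g : G) {M : Subgroup G} (hM : P.B ≤ M)
    (hconj : ∀ b ∈ P.B, g * b * g⁻¹ ∈ M) : g ∈ M := by
  obtain ⟨n, hn⟩ := exists_mem_C P g
  obtain ⟨x, hx, y, hy, rfl⟩ := (mem_C P).1 hn
  have hn' : (n : G) ∈ M := by
    apply mem_of_conj_mem P n hM
    intro b hb
    have h := hconj (y⁻¹ * b * y) (P.B.mul_mem (P.B.mul_mem (P.B.inv_mem hy) hb) hy)
    have e : (n : G) * b * (n : G)⁻¹ =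
        x⁻¹ * (x * n * y * (y⁻¹ * b * y) * (x * n * y)⁻¹) * x := by group
    rw [e]
    exact M.mul_mem (M.mul_mem (M.inv_mem (hM hx)) h) (hM hx)
  exact M.mul_mem (M.mul_mem (hM hx) hn') (hM hy)

theorem subgroup_eq_parabolic_aux {M : Subgroup G} (hM : P.B ≤ M) : ∀ (k : ℕ) (n : P.N),
    ℓ P n = k → (n : G) ∈ M → (n : G) ∈ P.parabolic (P.S ∩ M) := by
  intro k
  induction k with
  | zero =>
    intro n hk _
    exact B_le_parabolic P _ ((ℓ_eq_zero_iff P).1 hk)
  | succ k ih =>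
    intro n hk hnM
    obtain ⟨σ, hσS, hσk⟩ := exists_simple_mul_of_ℓ_succ P hk
    have hσ : IsSimple P σ := isSimple_of_mem P hσS
    have hσM : (σ : G) ∈ M := simple_mem_of_shorter P hM hσ (by omega)
      (fun b hb => M.mul_mem (M.mul_mem hnM (hM hb)) (M.inv_mem hnM))
    have h1 : ((σ * n : P.N) : G) ∈ P.parabolic (P.S ∩ M) :=
      ih (σ * n) hσk (by rw [Subgroup.coe_mul]; exact M.mul_mem hσM hnM)
    have hσJ : (σ : G) ∈ P.parabolic (P.S ∩ M) :=
      closure_le_parabolic P _ (Subgroup.subset_closure ⟨hσS, hσM⟩)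
    have e : (n : G) = (σ : G)⁻¹ * ((σ * n : P.N) : G) := by
      simp only [Subgroup.coe_mul]; group
    rw [e]
    exact Subgroup.mul_mem _ (Subgroup.inv_mem _ hσJ) h1

/-- every subgroup containing `B` is parabolic -/
theorem subgroup_eq_parabolic {M : Subgroup G} (hM : P.B ≤ M) :
    M = P.parabolic (P.S ∩ (M : Set G)) := by
  apply le_antisymm
  · intro g hg
    obtain ⟨n, hn⟩ := exists_mem_C P g
    obtain ⟨x, hx, y, hy, rfl⟩ := (mem_C P).1 hn
    have hnM : (n : G) ∈ M := by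
      have e : (n : G) = x⁻¹ * (x * n * y) * y⁻¹ := by group
      rw [e]
      exact M.mul_mem (M.mul_mem (M.inv_mem (hM hx)) hg) (M.inv_mem (hM hy))
    have h1 := subgroup_eq_parabolic_aux P hM _ n rfl hnM
    exact Subgroup.mul_mem _ (Subgroup.mul_mem _ (B_le_parabolic P _ hx) h1) (B_le_parabolic P _ hy)
  · apply sup_le hM
    rw [Subgroup.closure_le]
    exact fun x hx => hx.2

end Cfsg.Agent.Lib.Helper6_BNPair
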