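/-
(B, N)-pairs, third part: the subgroups of the Weyl group generated by sets of distinguished
generators, and consequences for parabolic subgroups.
-/
import Cfsg.Agent.Lib.Helper6_BNPairB

set_option autoImplicit false
set_option linter.unusedSectionVars false
set_option linter.unusedVariables false

namespace Cfsg.Agent.Lib.Helper6_BNPair

open Cfsg DoubleCoset Cfsg.Agent.Lib.Helper6_Word
open scoped Pointwise

variable {G : Type*} [Group G] (P : BNPair G)

/-- a subset `J` of `G`, viewed inside `N` -/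
def JN (J : Set G) : Set P.N := {n | (n : G) ∈ J}

/-- the image in `W` of a subset `J` of `G` (intersected with `N`) -/
def JW (J : Set G) : Set (W P) := π P '' JN P J

theorem JW_subset_SW {J : Set G} (hJ : J ⊆ P.S) : JW P J ⊆ SW P := by
  rintro _ ⟨n, hn, rfl⟩
  exact ⟨n, hJ hn, rfl⟩

theorem subtype_image_JN {J : Set G} (hJ : J ⊆ P.S) : P.N.subtype '' JN P J = J := by
  ext g
  constructor
  · rintro ⟨n, hn, rfl⟩; exact hn
  · intro hg; exact ⟨⟨g, P.subset (hJ hg)⟩, hg, rfl⟩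

theorem map_subtype_closure_JN {J : Set G} (hJ : J ⊆ P.S) :
    (Subgroup.closure (JN P J)).map P.N.subtype = Subgroup.closure J := by
  rw [MonoidHom.map_closure, subtype_image_JN P hJ]

theorem mem_closure_JN_iff {J : Set G} (hJ : J ⊆ P.S) {n : P.N} :
    n ∈ Subgroup.closure (JN P J) ↔ (n : G) ∈ Subgroup.closure J := by
  rw [← map_subtype_closure_JN P hJ]
  constructor
  · intro h; exact ⟨n, h, rfl⟩
  · rintro ⟨m, hm, hmn⟩
    have : m = n := Subtype.ext hmn
    rw [← this]; exact hm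

theorem map_π_closure_JN (J : Set G) :
    (Subgroup.closure (JN P J)).map (π P) = Subgroup.closure (JW P J) := by
  rw [MonoidHom.map_closure]; rfl

theorem π_mem_closure_JW {J : Set G} (hJ : J ⊆ P.S) {n : P.N}
    (hn : (n : G) ∈ Subgroup.closure J) : π P n ∈ Subgroup.closure (JW P J) := by
  rw [← map_π_closure_JN]
  exact ⟨n, (mem_closure_JN_iff P hJ).2 hn, rfl⟩

theorem exists_rep_of_mem_closure_JW {J : Set G} (hJ : J ⊆ P.S) {w : W P}
    (hw : w ∈ Subgroup.closure (JW P J)) :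
    ∃ n : P.N, (n : G) ∈ Subgroup.closure J ∧ π P n = w := by
  rw [← map_π_closure_JN] at hw
  obtain ⟨n, hn, rfl⟩ := hw
  exact ⟨n, (mem_closure_JN_iff P hJ).1 hn, rfl⟩

/-- a distinguished generator whose image in `W` lies in `W_J` belongs to `J` -/
theorem mem_of_π_mem_closure_JW {J : Set G} (hJ : J ⊆ P.S) {s : P.N} (hs : (s : G) ∈ P.S)
    (h : π P s ∈ Subgroup.closure (JW P J)) : (s : G) ∈ J := by
  have h1 := mem_of_simple_mem_closure (invGen P) (exchange P) (one_not_mem_SW P)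
    (JW_subset_SW P hJ) ⟨s, hs, rfl⟩ h
  obtain ⟨j, hj, hjs⟩ := h1
  have h2 : (j : G)⁻¹ * s ∈ P.B := (π_eq_iff P).1 hjs
  have h3 : (j : G) = s := P.inj j (hJ hj) s hs h2
  rw [← h3]; exact hj

/-- a distinguished generator lying in `P_J` belongs to `J` -/
theorem mem_of_mem_parabolic {J : Set G} (hJ : J ⊆ P.S) {s : G} (hs : s ∈ P.S)
    (h : s ∈ P.parabolic J) : s ∈ J := by
  obtain ⟨n, hnJ, hn⟩ := (mem_parabolic_iff P hJ s).1 h
  have hnN : n ∈ P.N := closure_le_N P hJ hnJ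
  have h1 : π P ⟨s, P.subset hs⟩ = π P ⟨n, hnN⟩ :=
    (C_eq_iff P).1 (C_eq_of_mem P (g := s) (h := n) hn)
  have h2 : π P ⟨s, P.subset hs⟩ ∈ Subgroup.closure (JW P J) := by
    rw [h1]; exact π_mem_closure_JW P hJ hnJ
  exact mem_of_π_mem_closure_JW P hJ (s := ⟨s, P.subset hs⟩) hs h2

theorem parabolic_mono {J K : Set G} (h : J ⊆ K) : P.parabolic J ≤ P.parabolic K :=
  sup_le_sup_left (Subgroup.closure_mono h) _

theorem parabolic_le_iff {J K : Set G} (hJ : J ⊆ P.S) (hK : K ⊆ P.S) :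
    P.parabolic J ≤ P.parabolic K ↔ J ⊆ K := by
  constructor
  · intro h s hs
    exact mem_of_mem_parabolic P hK (hJ hs)
      (h (closure_le_parabolic P J (Subgroup.subset_closure hs)))
  · exact parabolic_mono P

theorem parabolic_injective {J K : Set G} (hJ : J ⊆ P.S) (hK : K ⊆ P.S)
    (h : P.parabolic J = P.parabolic K) : J = K :=
  Set.Subset.antisymm ((parabolic_le_iff P hJ hK).1 h.le) ((parabolic_le_iff P hK hJ).1 h.ge)

theorem JW_inter {J K : Set G} (hJ : J ⊆ P.S) (hK : K ⊆ P.S) :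
    JW P J ∩ JW P K = JW P (J ∩ K) := by
  ext w
  constructor
  · rintro ⟨⟨j, hj, rfl⟩, ⟨k, hk, hjk⟩⟩
    have h2 : (k : G)⁻¹ * j ∈ P.B := (π_eq_iff P).1 hjk
    have h3 : (k : G) = j := P.inj k (hK hk) j (hJ hj) h2
    exact ⟨j, ⟨hj, by show (j : G) ∈ K; rw [← h3]; exact hk⟩, rfl⟩
  · rintro ⟨n, ⟨hn1, hn2⟩, rfl⟩
    exact ⟨⟨n, hn1, rfl⟩, ⟨n, hn2, rfl⟩⟩

theorem parabolic_inf {J K : Set G} (hJ : J ⊆ P.S) (hK : K ⊆ P.S) :
    P.parabolic J ⊓ P.parabolic K = P.parabolic (J ∩ K) := by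
  apply le_antisymm
  · intro g hg
    obtain ⟨hgJ, hgK⟩ := Subgroup.mem_inf.1 hg
    obtain ⟨n, hnJ, hn⟩ := (mem_parabolic_iff P hJ g).1 hgJ
    obtain ⟨n', hnK, hn'⟩ := (mem_parabolic_iff P hK g).1 hgK
    have hnN : n ∈ P.N := closure_le_N P hJ hnJ
    have hnN' : n' ∈ P.N := closure_le_N P hK hnK
    have h1 : π P ⟨n, hnN⟩ = π P ⟨n', hnN'⟩ :=
      (C_eq_iff P).1 (C_eq_of_mem_of_mem P (g := n) (h := n') hn hn')
    have h2 : π P ⟨n, hnN⟩ ∈ Subgroup.closure (JW P J) ⊓ Subgroup.closure (JW P K) := by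
      refine Subgroup.mem_inf.2 ⟨π_mem_closure_JW P hJ hnJ, ?_⟩
      rw [h1]; exact π_mem_closure_JW P hK hnK
    rw [closure_inf_closure (invGen P) (exchange P) (one_not_mem_SW P) (JW_subset_SW P hJ)
      (JW_subset_SW P hK), JW_inter P hJ hK] at h2
    obtain ⟨m, hm, hmn⟩ := exists_rep_of_mem_closure_JW P
      (Set.inter_subset_left.trans hJ) h2
    have h3 : C P (m : G) = C P n := (C_eq_iff P).2 hmn
    refine (mem_parabolic_iff P (Set.inter_subset_left.trans hJ) g).2 ⟨m, hm, ?_⟩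
    rw [h3]; exact hn
  · exact le_inf (parabolic_mono P Set.inter_subset_left) (parabolic_mono P Set.inter_subset_right)

/-- a distinguished generator lying in `⟨J⟩ (B ∩ N)` belongs to `J` -/
theorem mem_of_mem_closure_sup {J : Set G} (hJ : J ⊆ P.S) {s : G} (hs : s ∈ P.S)
    (h : s ∈ Subgroup.closure J ⊔ (P.B ⊓ P.N)) : s ∈ J := by
  have e : Subgroup.closure J ⊔ (P.B ⊓ P.N) =
      (Subgroup.closure (JN P J) ⊔ T P).map P.N.subtype := by
    rw [Subgroup.map_sup, map_subtype_closure_JN P hJ, T, Subgroup.subgroupOf_map_subtype,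
      inf_assoc, inf_idem]
  rw [e] at h
  obtain ⟨s', hs', rfl⟩ := h
  have h1 : π P s' ∈ (Subgroup.closure (JN P J) ⊔ T P).map (π P) := ⟨s', hs', rfl⟩
  have h3 : Subgroup.map (π P) (T P) = ⊥ := by
    rw [eq_bot_iff]
    rintro _ ⟨t, ht, rfl⟩
    rw [Subgroup.mem_bot, π_eq_one_iff]
    exact (mem_T P).1 ht
  rw [Subgroup.map_sup, map_π_closure_JN, h3, sup_bot_eq] at h1
  exact mem_of_π_mem_closure_JW P hJ hs h1

/-! ### Rank one -/

theorem pow_eq_one_or_self {M : Type*} [Monoid M] {x : M} (hx : x * x = 1) (k : ℕ) :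
    x ^ k = 1 ∨ x ^ k = x := by
  induction k with
  | zero => left; simp
  | succ k ih =>
    rcases ih with h | h
    · right; rw [pow_succ, h, one_mul]
    · left; rw [pow_succ, h, hx]

theorem mem_closure_singleton_of_sq {M : Type*} [Group M] {x w : M} (hx : x * x = 1)
    (hw : w ∈ Subgroup.closure {x}) : w = 1 ∨ w = x := by
  obtain ⟨l, hl, rfl⟩ := exists_word_of_mem_closure (S := {x}) (by
    intro s hs; rw [Set.mem_singleton_iff] at hs; rw [hs]; exact hx) hw
  have : l = List.replicate l.length x := List.eq_replicate_iff.2 ⟨rfl, fun y hy => hl y hy⟩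
  rw [this, List.prod_replicate]
  exact pow_eq_one_or_self hx _

/-- for `s ∈ S`, `P_{s} = B ∪ B s B` -/
theorem mem_parabolic_singleton_iff {s : G} (hs : s ∈ P.S) (g : G) :
    g ∈ P.parabolic {s} ↔ g ∈ P.B ∨ g ∈ C P s := by
  have hJ : ({s} : Set G) ⊆ P.S := Set.singleton_subset_iff.2 hs
  rw [mem_parabolic_iff P hJ]
  constructor
  · rintro ⟨n, hnJ, hn⟩
    have hnN : n ∈ P.N := closure_le_N P hJ hnJ
    have h1 := π_mem_closure_JW P hJ (n := ⟨n, hnN⟩) hnJ
    have e : JW P {s} = {π P ⟨s, P.subset hs⟩} := by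
      ext w
      constructor
      · rintro ⟨m, hm, rfl⟩
        have : m = ⟨s, P.subset hs⟩ := Subtype.ext hm
        rw [this]; rfl
      · rintro rfl
        exact ⟨⟨s, P.subset hs⟩, rfl, rfl⟩
    rw [e] at h1
    have hsq : π P ⟨s, P.subset hs⟩ * π P ⟨s, P.subset hs⟩ = 1 :=
      (isSimple_of_mem P (σ := ⟨s, P.subset hs⟩) hs).sq
    rcases mem_closure_singleton_of_sq hsq h1 with h2 | h2
    · left
      have : (n : G) ∈ P.B := (π_eq_one_iff P (n := ⟨n, hnN⟩)).1 h2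
      exact (mem_C_of_mem_B P this).1 hn
    · right
      have : C P n = C P s := (C_eq_iff P (n := ⟨n, hnN⟩) (n' := ⟨s, P.subset hs⟩)).2 h2
      rw [← this]; exact hn
  · rintro (h | h)
    · exact ⟨1, Subgroup.one_mem _, (mem_C_one P).2 h⟩
    · exact ⟨s, Subgroup.subset_closure rfl, h⟩

/-- in rank one (`S = {s}`), `G = B ∪ B s B` -/
theorem mem_B_or_mem_C_of_S_eq {s : G} (hS : P.S = {s}) (g : G) : g ∈ P.B ∨ g ∈ C P s := by
  have hs : s ∈ P.S := by rw [hS]; rfl
  rw [← mem_parabolic_singleton_iff P hs]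
  have h1 : P.parabolic {s} = ⊤ := by
    rw [eq_top_iff, ← P.sup_eq_top]
    apply sup_le (B_le_parabolic P _)
    rw [← P.closure_sup, hS]
    apply sup_le (closure_le_parabolic P _)
    exact inf_le_left.trans (B_le_parabolic P _)
  rw [h1]; exact Subgroup.mem_top g

end Cfsg.Agent.Lib.Helper6_BNPair
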