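import Mathlib
import Cfsg.Prelude.Def_Blocks

/-!
# Central characters: class sums act as scalars (helper78)

For an irreducible complex representation `ρ` of a finite group `G` on a finite-dimensional space:
* the operator `∑ x, ρ (x g x⁻¹)` is the scalar `|G| χ(g) / χ(1)`;
* `∑ x, χ (g (x h x⁻¹)) = |G| χ(g) χ(h) / χ(1)` (the central character is multiplicative);
* the class sum of `g` acts as the scalar `centralChar χ g`, and this scalar is an algebraic
  integer.
The last part is then restated for `Cfsg.IsIrrCharacter`.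
-/

set_option autoImplicit false
set_option linter.unusedSectionVars false

namespace Cfsg.Agent.Lib.Helper78_CentralChar

open Cfsg Representation

section Rep

variable {G V : Type*} [Group G] [AddCommGroup V] [Module ℂ V] [FiniteDimensional ℂ V]

/-- Schur's lemma: an endomorphism commuting with an irreducible complex representation is a
scalar. -/
theorem exists_scalar_of_commute (ρ : Representation ℂ G V) [ρ.IsIrreducible] (T : V →ₗ[ℂ] V)
    (hT : ∀ g, T ∘ₗ ρ g = ρ g ∘ₗ T) : ∃ c : ℂ, T = c • LinearMap.id := by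
  have hb := IsIrreducible.algebraMap_intertwiningMap_bijective_of_isAlgClosed (ρ := ρ)
  obtain ⟨c, hc⟩ := hb.2 ⟨T, hT⟩
  refine ⟨c, ?_⟩
  have := congrArg IntertwiningMap.toLinearMap hc
  simp at this
  rw [← this]
  ext v
  simp

theorem nontrivial_of_irreducible (ρ : Representation ℂ G V) [ρ.IsIrreducible] : Nontrivial V := by
  by_contra h
  rw [not_nontrivial_iff_subsingleton] at h
  have : (⊥ : Subrepresentation ρ) = ⊤ := by
    apply Subrepresentation.toSubmodule_injective
    exact Subsingleton.elim _ _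
  exact bot_ne_top this

theorem character_one_ne_zero (ρ : Representation ℂ G V) [ρ.IsIrreducible] :
    ρ.character 1 ≠ 0 := by
  have := nontrivial_of_irreducible ρ
  rw [char_one]
  exact_mod_cast (Module.finrank_pos (R := ℂ) (M := V)).ne'

variable [Fintype G]

/-- The sum of `ρ` over all conjugates `x g x⁻¹`, `x : G` (each conjugate counted `|C_G(g)|`
times). -/
noncomputable def conjSumOp (ρ : Representation ℂ G V) (g : G) : V →ₗ[ℂ] V :=
  ∑ x : G, ρ (x * g * x⁻¹)

theorem conjSumOp_comm (ρ : Representation ℂ G V) (g h : G) :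
    conjSumOp ρ g ∘ₗ ρ h = ρ h ∘ₗ conjSumOp ρ g := by
  unfold conjSumOp
  rw [← Module.End.mul_eq_comp, ← Module.End.mul_eq_comp, Finset.sum_mul, Finset.mul_sum]
  rw [← Equiv.sum_comp (Equiv.mulLeft h) (fun x => ρ (x * g * x⁻¹) * ρ h)]
  refine Finset.sum_congr rfl fun x _ => ?_
  simp only [Equiv.coe_mulLeft]
  rw [← map_mul, ← map_mul]
  congr 1
  group

theorem trace_conjSumOp (ρ : Representation ℂ G V) (g : G) :
    LinearMap.trace ℂ V (conjSumOp ρ g) = (Nat.card G : ℂ) * ρ.character g := by
  unfold conjSumOp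
  rw [map_sum]
  have : ∀ x : G, LinearMap.trace ℂ V (ρ (x * g * x⁻¹)) = ρ.character g := fun x => char_conj ρ g x
  simp only [this, Finset.sum_const, Finset.card_univ, nsmul_eq_mul, Nat.card_eq_fintype_card]

/-- The conjugate-sum operator is a scalar. -/
theorem conjSumOp_eq_smul (ρ : Representation ℂ G V) [ρ.IsIrreducible] (g : G) :
    conjSumOp ρ g = ((Nat.card G : ℂ) * ρ.character g / ρ.character 1) • LinearMap.id := by
  obtain ⟨c, hc⟩ := exists_scalar_of_commute ρ (conjSumOp ρ g) (conjSumOp_comm ρ g)
  have h1 := trace_conjSumOp ρ g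
  rw [hc, map_smul, LinearMap.trace_id, smul_eq_mul] at h1
  have h0 := character_one_ne_zero ρ
  rw [char_one] at h0
  rw [hc]
  congr 1
  rw [char_one]
  field_simp
  exact h1

/-- The central character is multiplicative. -/
theorem sum_character_mul_conj (ρ : Representation ℂ G V) [ρ.IsIrreducible] (g h : G) :
    ∑ x : G, ρ.character (g * (x * h * x⁻¹)) =
      (Nat.card G : ℂ) * ρ.character g * ρ.character h / ρ.character 1 := by
  have h1 : ∑ x : G, ρ.character (g * (x * h * x⁻¹)) =
      LinearMap.trace ℂ V (ρ g ∘ₗ conjSumOp ρ h) := by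
    unfold conjSumOp
    rw [← Module.End.mul_eq_comp, Finset.mul_sum, map_sum]
    refine Finset.sum_congr rfl fun x _ => ?_
    rw [← map_mul]
    rfl
  rw [h1, conjSumOp_eq_smul, LinearMap.comp_smul, map_smul, LinearMap.comp_id, smul_eq_mul]
  show _ * ρ.character g = _
  ring

end Rep

/-! ### Sums over conjugates versus sums over the conjugacy class -/

section Counting

variable {G : Type*} [Group G] [Fintype G] [DecidableEq G]

theorem card_conj_fiber (g k : G) (h : IsConj g k) :
    (Finset.univ.filter (fun x : G => x * g * x⁻¹ = k)).card =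
      Nat.card (Subgroup.centralizer ({g} : Set G)) := by
  classical
  obtain ⟨c, hc⟩ := isConj_iff.mp h
  rw [Nat.card_eq_fintype_card, ← Fintype.card_subtype]
  refine Fintype.card_congr ⟨fun x => ⟨c⁻¹ * x.1, ?_⟩, fun z => ⟨c * z.1, ?_⟩, ?_, ?_⟩
  · rw [Subgroup.mem_centralizer_iff]
    intro y hy
    rw [Set.mem_singleton_iff] at hy
    subst hy
    have hx : x.1 * y * x.1⁻¹ = c * y * c⁻¹ := by rw [hc]; exact x.2
    have h1 : y * (c⁻¹ * x.1) = c⁻¹ * (c * y * c⁻¹) * x.1 := by group
    rw [h1, ← hx]
    group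
  · have hz := z.2
    rw [Subgroup.mem_centralizer_iff] at hz
    have hz' := hz g (Set.mem_singleton g)
    rw [← hc]
    have h1 : c * z.1 * g * (c * z.1)⁻¹ = c * (z.1 * g) * z.1⁻¹ * c⁻¹ := by group
    rw [h1, ← hz']
    group
  · intro x
    ext
    simp
  · intro z
    ext
    simp

/-- A sum over all conjugates `x g x⁻¹`, `x : G`, is `|C_G(g)|` times the sum over the
conjugacy class of `g`. -/
theorem sum_conj_eq_card_nsmul_sum {A : Type*} [AddCommMonoid A] (g : G) (F : G → A) :
    ∑ x : G, F (x * g * x⁻¹) =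
      Nat.card (Subgroup.centralizer ({g} : Set G)) •
        ∑ k ∈ Finset.univ.filter (fun k : G => IsConj g k), F k := by
  classical
  rw [Finset.sum_comp F (fun x : G => x * g * x⁻¹), Finset.smul_sum]
  have himg : Finset.univ.image (fun x : G => x * g * x⁻¹) =
      Finset.univ.filter (fun k : G => IsConj g k) := by
    ext k
    simp only [Finset.mem_image, Finset.mem_univ, true_and, Finset.mem_filter]
    exact isConj_iff.symm
  rw [himg]
  refine Finset.sum_congr rfl fun k hk => ?_
  rw [card_conj_fiber g k (Finset.mem_filter.mp hk).2]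

theorem card_conjClass_filter (g : G) :
    ((Finset.univ.filter (fun k : G => IsConj g k)).card : ℂ) =
      ((Subgroup.centralizer ({g} : Set G)).index : ℂ) := by
  classical
  have h := sum_conj_eq_card_nsmul_sum g (fun _ : G => (1 : ℕ))
  simp only [Finset.sum_const, Finset.card_univ, smul_eq_mul, mul_one] at h
  have h2 := Subgroup.card_mul_index (Subgroup.centralizer ({g} : Set G))
  rw [Nat.card_eq_fintype_card (α := G), h] at h2
  have hpos : 0 < Nat.card (Subgroup.centralizer ({g} : Set G)) := Nat.card_pos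
  have := Nat.eq_of_mul_eq_mul_left hpos h2
  exact_mod_cast this.symm

end Counting

/-! ### The class sum acts as the central character, which is an algebraic integer -/

section ClassSum

variable {G V : Type*} [Group G] [Fintype G] [DecidableEq G] [AddCommGroup V] [Module ℂ V]
  [FiniteDimensional ℂ V]

/-- The class sum operator: the sum of `ρ k` over the conjugacy class of `g`. -/
noncomputable def classSumOp (ρ : Representation ℂ G V) (g : G) : V →ₗ[ℂ] V :=
  ∑ k ∈ Finset.univ.filter (fun k : G => IsConj g k), ρ k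

theorem conjSumOp_eq_nsmul_classSumOp (ρ : Representation ℂ G V) (g : G) :
    conjSumOp ρ g = Nat.card (Subgroup.centralizer ({g} : Set G)) • classSumOp ρ g := by
  unfold conjSumOp classSumOp
  exact sum_conj_eq_card_nsmul_sum g (fun k => ρ k)

theorem centralChar_eq (χ : G → ℂ) (g : G) :
    centralChar χ g = (Nat.card G : ℂ) * χ g / χ 1 /
      (Nat.card (Subgroup.centralizer ({g} : Set G)) : ℂ) := by
  unfold centralChar
  have h2 := Subgroup.card_mul_index (Subgroup.centralizer ({g} : Set G))
  have hpos : (Nat.card (Subgroup.centralizer ({g} : Set G)) : ℂ) ≠ 0 := by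
    exact_mod_cast (Nat.card_pos (α := Subgroup.centralizer ({g} : Set G))).ne'
  rw [← h2]
  push_cast
  field_simp

/-- The class sum of `g` acts as the scalar `centralChar χ g`. -/
theorem classSumOp_eq_smul (ρ : Representation ℂ G V) [ρ.IsIrreducible] (g : G) :
    classSumOp ρ g = centralChar ρ.character g • LinearMap.id := by
  have h1 := conjSumOp_eq_smul ρ g
  rw [conjSumOp_eq_nsmul_classSumOp] at h1
  have hpos : (Nat.card (Subgroup.centralizer ({g} : Set G)) : ℂ) ≠ 0 := by
    exact_mod_cast (Nat.card_pos (α := Subgroup.centralizer ({g} : Set G))).ne'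
  rw [centralChar_eq]
  have h2 : ((Nat.card (Subgroup.centralizer ({g} : Set G)) : ℂ)) • classSumOp ρ g =
      ((Nat.card G : ℂ) * ρ.character g / ρ.character 1) • LinearMap.id := by
    rw [← h1]
    exact (Nat.cast_smul_eq_nsmul ℂ _ _)
  have h3 : classSumOp ρ g = ((Nat.card (Subgroup.centralizer ({g} : Set G)) : ℂ))⁻¹ •
      (((Nat.card G : ℂ) * ρ.character g / ρ.character 1) • LinearMap.id) := by
    rw [← h2, smul_smul, inv_mul_cancel₀ hpos, one_smul]
  rw [h3, smul_smul]
  congr 1
  field_simp

/-- The central character of an irreducible representation takes algebraic integer values. -/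
theorem isIntegral_centralChar (ρ : Representation ℂ G V) [ρ.IsIrreducible] (g : G) :
    IsIntegral ℤ (centralChar ρ.character g) := by
  have := nontrivial_of_irreducible ρ
  -- the class sum in the integral group ring
  let s : MonoidAlgebra ℤ G :=
    ∑ k ∈ Finset.univ.filter (fun k : G => IsConj g k), MonoidAlgebra.of ℤ G k
  have hs : IsIntegral ℤ s := IsIntegral.of_finite ℤ s
  let φ : MonoidAlgebra ℤ G →ₐ[ℤ] Module.End ℂ V := MonoidAlgebra.lift ℤ (Module.End ℂ V) G ρ
  have hφ : IsIntegral ℤ (φ s) := hs.map φ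
  have hφs : φ s = classSumOp ρ g := by
    simp only [s, φ, map_sum, MonoidAlgebra.lift_of]
    rfl
  rw [hφs, classSumOp_eq_smul] at hφ
  have hinj : Function.Injective (algebraMap ℂ (Module.End ℂ V)) :=
    (algebraMap ℂ (Module.End ℂ V)).injective
  have h4 : centralChar ρ.character g • (LinearMap.id : V →ₗ[ℂ] V) =
      algebraMap ℂ (Module.End ℂ V) (centralChar ρ.character g) := by
    rw [Algebra.algebraMap_eq_smul_one]
    rfl
  rw [h4] at hφ
  exact (isIntegral_algebraMap_iff hinj).1 hφ

end ClassSum

/-! ### Restatements for `Cfsg.IsIrrCharacter` -/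

section Irr

universe u

variable {G : Type u} [Group G]

theorem isIrrCharacter_one_ne_zero {χ : G → ℂ} (h : IsIrrCharacter G χ) : χ 1 ≠ 0 := by
  obtain ⟨n, ρ, hρ, rfl⟩ := h
  exact character_one_ne_zero ρ

theorem isIrrCharacter_isClassFunction {χ : G → ℂ} (h : IsIrrCharacter G χ) :
    IsClassFunction G χ := by
  obtain ⟨n, ρ, hρ, rfl⟩ := h
  intro g k
  exact char_conj ρ g k

theorem isCharacter_isClassFunction {χ : G → ℂ} (h : IsCharacter G χ) :
    IsClassFunction G χ := by
  obtain ⟨n, ρ, rfl⟩ := h
  intro g k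
  exact char_conj ρ g k

theorem isIrrCharacter_isCharacter {χ : G → ℂ} (h : IsIrrCharacter G χ) : IsCharacter G χ := by
  obtain ⟨n, ρ, hρ, rfl⟩ := h
  exact ⟨n, ρ, rfl⟩

/-- The value at `1` of an irreducible character is a positive natural number. -/
theorem isIrrCharacter_one_eq_natCast {χ : G → ℂ} (h : IsIrrCharacter G χ) :
    ∃ n : ℕ, 0 < n ∧ χ 1 = (n : ℂ) := by
  obtain ⟨n, ρ, hρ, rfl⟩ := h
  have := nontrivial_of_irreducible ρ
  exact ⟨Module.finrank ℂ (Fin n → ℂ), Module.finrank_pos, char_one ρ⟩

theorem isCharacter_one_eq_natCast {χ : G → ℂ} (h : IsCharacter G χ) :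
    ∃ n : ℕ, χ 1 = (n : ℂ) := by
  obtain ⟨n, ρ, rfl⟩ := h
  exact ⟨Module.finrank ℂ (Fin n → ℂ), char_one ρ⟩

theorem charDegree_eq_of_one_eq_natCast {χ : G → ℂ} {n : ℕ} (h : χ 1 = (n : ℂ)) :
    charDegree χ = n := by
  unfold charDegree
  rw [h]
  simp

theorem isIrrCharacter_one_eq_charDegree {χ : G → ℂ} (h : IsIrrCharacter G χ) :
    χ 1 = (charDegree χ : ℂ) ∧ 0 < charDegree χ := by
  obtain ⟨n, hn, h1⟩ := isIrrCharacter_one_eq_natCast h
  rw [charDegree_eq_of_one_eq_natCast h1]
  exact ⟨h1, hn⟩

/-- The central character of an irreducible character is multiplicative. -/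
theorem sum_mul_conj_of_isIrrCharacter [Fintype G] {χ : G → ℂ} (h : IsIrrCharacter G χ)
    (g k : G) :
    ∑ x : G, χ (g * (x * k * x⁻¹)) = (Nat.card G : ℂ) * χ g * χ k / χ 1 := by
  obtain ⟨n, ρ, hρ, rfl⟩ := h
  exact sum_character_mul_conj ρ g k

/-- The central character of an irreducible character takes algebraic integer values. -/
theorem isIntegral_centralChar_of_isIrrCharacter [Finite G] {χ : G → ℂ}
    (h : IsIrrCharacter G χ) (g : G) : IsIntegral ℤ (centralChar χ g) := by
  classical
  have := Fintype.ofFinite G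
  obtain ⟨n, ρ, hρ, rfl⟩ := h
  exact isIntegral_centralChar ρ g

/-- The central character of an irreducible character, as an algebraic integer. -/
noncomputable def centralCharAlgInt [Finite G] (χ : IrrCharacter G) (g : G) : AlgInt :=
  ⟨centralChar (χ : G → ℂ) g, isIntegral_centralChar_of_isIrrCharacter χ.2 g⟩

@[simp] theorem coe_centralCharAlgInt [Finite G] (χ : IrrCharacter G) (g : G) :
    ((centralCharAlgInt χ g : AlgInt) : ℂ) = centralChar (χ : G → ℂ) g := rfl

end Irr

end Cfsg.Agent.Lib.Helper78_CentralChar
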