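import Cfsg.Agent.Lib.Helper75_LinChar
import Cfsg.Agent.Lib.Helper78_CentralChar
import Cfsg.Agent.Lib.Helper80_CharBasic

/-!
# Characters over an invariant character with abelian quotient (helper75)

`K` a finite group, `H ⊴ K` with `K/H` abelian, `ϑ ∈ Irr H` invariant in `K`, `ψ₀ ∈ Irr(K | ϑ)`.
Then every `ψ ∈ Irr(K | ϑ)` is `β * ψ₀` for a linear character `β` of `K` trivial on `H`,
so all of them restrict to `e • ϑ` with the same `e`, and `e ^ 2 * |Irr(K | ϑ)| = |K : H|`.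
-/

set_option autoImplicit false
open scoped ComplexConjugate

namespace Cfsg.Agent.Lib.Helper75_AbelianInertia

open Cfsg.Agent.Lib.Helper3_CharBridge Cfsg.Agent.Lib.Helper3_CharOrtho
  Cfsg.Agent.Lib.Helper3_CharComplete Cfsg.Agent.Lib.Helper75_CharArith
  Cfsg.Agent.Lib.Helper75_Induced Cfsg.Agent.Lib.Helper75_IndChar
  Cfsg.Agent.Lib.Helper75_Clifford Cfsg.Agent.Lib.Helper75_CharProd
  Cfsg.Agent.Lib.Helper75_LinChar

variable {K : Type*} [Group K]

/-- An irreducible character with `H` in its kernel, where `K/H` is abelian, has degree one. -/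
theorem irr_one_eq_one_of_abelian_quotient [Fintype K] (H : Subgroup K)
    (hab : ∀ x y : K, x * y * x⁻¹ * y⁻¹ ∈ H) {β : K → ℂ} (hβ : Cfsg.IsIrrCharacter K β)
    (hker : ∀ h : H, β h = β 1) : β 1 = 1 := by
  have hnorm := classInner_self_of_isIrrCharacter hβ
  obtain ⟨n, ρ, hirr, rfl⟩ := hβ
  have := hirr
  have h1 : ∀ h : H, ρ (h : K) = LinearMap.id := by
    intro h
    rw [← Cfsg.Agent.Lib.Helper3_CharEigen.char_eq_finrank_iff, hker h, Representation.char_one]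
  have hcomm : ∀ x y : K, ρ x * ρ y = ρ y * ρ x := by
    intro x y
    have h2 := h1 ⟨x * y * x⁻¹ * y⁻¹, hab x y⟩
    have h3 : x * y = (x * y * x⁻¹ * y⁻¹) * (y * x) := by group
    rw [← map_mul, h3, map_mul, h2, map_mul]
    rfl
  have hscalar : ∀ x : K, ‖ρ.character x‖ = (Module.finrank ℂ (Fin n → ℂ) : ℝ) := by
    intro x
    rw [Cfsg.Agent.Lib.Helper3_CharEigen.norm_char_eq_iff]
    obtain ⟨c, hc⟩ := Cfsg.Agent.Lib.Helper78_CentralChar.exists_scalar_of_commute ρ (ρ x)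
      (fun g => hcomm x g)
    exact ⟨c, hc⟩
  rw [Module.finrank_fintype_fun_eq_card, Fintype.card_fin] at hscalar
  unfold Cfsg.classInner at hnorm
  have h4 : ∑ g : K, ρ.character g * conj (ρ.character g) = (Nat.card K : ℂ) * ((n : ℂ) ^ 2) := by
    have : ∀ g : K, ρ.character g * conj (ρ.character g) = (n : ℂ) ^ 2 := by
      intro g
      rw [Complex.mul_conj, Complex.normSq_eq_norm_sq, hscalar g]
      push_cast
      rfl
    simp_rw [this]
    rw [Finset.sum_const, Finset.card_univ, nsmul_eq_mul, Nat.card_eq_fintype_card]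
  rw [h4] at hnorm
  have hK : (Nat.card K : ℂ) ≠ 0 := by
    rw [Nat.cast_ne_zero]; exact Nat.card_pos.ne'
  rw [← mul_assoc, inv_mul_cancel₀ hK, one_mul] at hnorm
  have hn : n = 1 := by
    have : (n : ℂ) ^ 2 = ((n ^ 2 : ℕ) : ℂ) := by push_cast; rfl
    rw [this] at hnorm
    have h5 : n ^ 2 = 1 := by exact_mod_cast hnorm
    exact (Nat.pow_eq_one.mp h5).resolve_right (by norm_num)
  rw [Representation.char_one, Module.finrank_fintype_fun_eq_card, Fintype.card_fin, hn,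
    Nat.cast_one]

/-- A constituent of `Ind_H^K 1` with `K/H` abelian is a linear character trivial on `H`. -/
theorem isLin_of_constituent_indFun_one [Fintype K] (H : Subgroup K) (hH : H.Normal)
    [Fintype H] (hab : ∀ x y : K, x * y * x⁻¹ * y⁻¹ ∈ H) {β : K → ℂ}
    (hβ : Cfsg.IsIrrCharacter K β)
    (hne : Cfsg.classInner (Cfsg.indFun H (fun _ => (1 : ℂ))) β ≠ 0) :
    IsLin K β ∧ ∀ h : H, β h = 1 := by
  have hone : Cfsg.IsIrrCharacter H (fun _ : H => (1 : ℂ)) :=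
    Cfsg.Agent.Lib.Helper80_CharBasic.isIrrCharacter_one H
  rw [frobenius_reciprocity H _ β (isClassFunction_of_isIrrCharacter hβ)] at hne
  have hne' : Cfsg.classInner (res H β) (fun _ : H => (1 : ℂ)) ≠ 0 := by
    rw [← classInner_conj_symm]
    exact (map_ne_zero _).mpr hne
  have hres := res_eq_smul_of_invariant H hH hβ hone (fun g => rfl) hne'
  have hval : ∀ h : H, β h = Cfsg.classInner (res H β) (fun _ : H => (1 : ℂ)) := by
    intro h
    have := congrFun hres h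
    simpa [res_apply] using this
  have hker : ∀ h : H, β h = β 1 := by
    intro h
    rw [hval h]
    exact (hval 1).symm
  have h1 : β 1 = 1 := irr_one_eq_one_of_abelian_quotient H hab hβ hker
  refine ⟨⟨isCharacter_of_isIrrCharacter hβ, h1⟩, fun h => ?_⟩
  rw [hker h, h1]

/-- **Main theorem**: all members of `Irr(K | ϑ)` are linear twists of a given one. -/
theorem exists_lin_twist [Fintype K] (H : Subgroup K) (hH : H.Normal) [Fintype H]
    (hab : ∀ x y : K, x * y * x⁻¹ * y⁻¹ ∈ H) {ϑ : H → ℂ} (hϑ : Cfsg.IsIrrCharacter H ϑ)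
    (hinv : ∀ g : K, conjFun H hH ϑ g = ϑ) {ψ₀ ψ : K → ℂ} (hψ₀ : Cfsg.IsIrrCharacter K ψ₀)
    (hψ₀ϑ : Cfsg.classInner (res H ψ₀) ϑ ≠ 0) (hψ : Cfsg.IsIrrCharacter K ψ)
    (hψϑ : Cfsg.classInner (Cfsg.indFun H ϑ) ψ ≠ 0) :
    ∃ β : K → ℂ, IsLin K β ∧ (∀ h : H, β h = 1) ∧ ψ = β * ψ₀ := by
  classical
  set e := Cfsg.classInner (res H ψ₀) ϑ with he
  have hres₀ : res H ψ₀ = e • ϑ := res_eq_smul_of_invariant H hH hψ₀ hϑ hinv hψ₀ϑ
  have hone : Cfsg.IsCharacter H (fun _ : H => (1 : ℂ)) :=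
    isCharacter_of_isIrrCharacter (Cfsg.Agent.Lib.Helper80_CharBasic.isIrrCharacter_one H)
  have hInd1 : Cfsg.IsCharacter K (Cfsg.indFun H (fun _ => (1 : ℂ))) := isCharacter_indFun H hone
  obtain ⟨m, hm, hsum⟩ := exists_multiplicities hInd1
  -- e • Ind ϑ = Ind 1 * ψ₀
  have h1 : e • Cfsg.indFun H ϑ = Cfsg.indFun H (fun _ => (1 : ℂ)) * ψ₀ := by
    rw [indFun_mul H _ (isClassFunction_of_isIrrCharacter hψ₀), ← indFun_smul]
    congr 1
    rw [← hres₀]
    funext h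
    simp
  have h2 : Cfsg.classInner (e • Cfsg.indFun H ϑ) ψ ≠ 0 := by
    rw [classInner_smul_left]
    exact mul_ne_zero hψ₀ϑ hψϑ
  rw [h1] at h2
  conv at h2 => rw [hsum, Finset.sum_mul, classInner_sum_left]
  obtain ⟨β, -, hβ⟩ := Finset.exists_ne_zero_of_sum_ne_zero h2
  rw [smul_mul_assoc, classInner_smul_left] at hβ
  have hmβ : (m β : ℂ) ≠ 0 := left_ne_zero_of_mul hβ
  have hβψ : Cfsg.classInner ((β : K → ℂ) * ψ₀) ψ ≠ 0 := right_ne_zero_of_mul hβ
  have hβne : Cfsg.classInner (Cfsg.indFun H (fun _ => (1 : ℂ))) (β : K → ℂ) ≠ 0 := by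
    rw [hm β]; exact hmβ
  obtain ⟨hβlin, hβH⟩ := isLin_of_constituent_indFun_one H hH hab β.2 hβne
  refine ⟨β, hβlin, hβH, ?_⟩
  have hirr : Cfsg.IsIrrCharacter K ((β : K → ℂ) * ψ₀) := hβlin.mul_irr hψ₀
  rw [classInner_irr hirr hψ] at hβψ
  by_contra hne
  rw [if_neg (fun h => hne h.symm)] at hβψ
  exact hβψ rfl

/-- All members of `Irr(K | ϑ)` restrict to `e • ϑ` with the same `e`, and
`e ^ 2 * |Irr(K | ϑ)| = |K : H|`. -/
theorem uniform_ramification [Fintype K] (H : Subgroup K) (hH : H.Normal) [Fintype H]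
    (hab : ∀ x y : K, x * y * x⁻¹ * y⁻¹ ∈ H) {ϑ : H → ℂ} (hϑ : Cfsg.IsIrrCharacter H ϑ)
    (hinv : ∀ g : K, conjFun H hH ϑ g = ϑ) {ψ₀ : K → ℂ} (hψ₀ : Cfsg.IsIrrCharacter K ψ₀)
    (e : ℕ) (he : Cfsg.classInner (res H ψ₀) ϑ = e) (he0 : e ≠ 0) :
    (∀ ψ : Cfsg.IrrCharacter K, Cfsg.classInner (Cfsg.indFun H ϑ) (ψ : K → ℂ) ≠ 0 →
      res H (ψ : K → ℂ) = (e : ℂ) • ϑ ∧ Cfsg.classInner (Cfsg.indFun H ϑ) (ψ : K → ℂ) = e) ∧
    e ^ 2 * (Finset.univ.filter (fun ψ : Cfsg.IrrCharacter K =>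
      Cfsg.classInner (Cfsg.indFun H ϑ) (ψ : K → ℂ) ≠ 0)).card = H.index := by
  classical
  have he0' : Cfsg.classInner (res H ψ₀) ϑ ≠ 0 := by rw [he]; exact_mod_cast he0
  have hres₀ : res H ψ₀ = (e : ℂ) • ϑ := by
    rw [← he]; exact res_eq_smul_of_invariant H hH hψ₀ hϑ hinv he0'
  have hpart1 : ∀ ψ : Cfsg.IrrCharacter K,
      Cfsg.classInner (Cfsg.indFun H ϑ) (ψ : K → ℂ) ≠ 0 →
      res H (ψ : K → ℂ) = (e : ℂ) • ϑ ∧
        Cfsg.classInner (Cfsg.indFun H ϑ) (ψ : K → ℂ) = e := by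
    intro ψ hψ
    obtain ⟨β, hβlin, hβH, hβ⟩ := exists_lin_twist H hH hab hϑ hinv hψ₀ he0' ψ.2 hψ
    have hres : res H (ψ : K → ℂ) = (e : ℂ) • ϑ := by
      rw [hβ, ← hres₀]
      funext h
      show β h * ψ₀ h = ψ₀ h
      rw [hβH h, one_mul]
    refine ⟨hres, ?_⟩
    rw [frobenius_reciprocity H ϑ _ (isClassFunction_of_isIrrCharacter ψ.2)]
    have : (fun h : H => (ψ : K → ℂ) h) = res H (ψ : K → ℂ) := rfl
    rw [this, hres, classInner_smul_right, classInner_self_of_isIrrCharacter hϑ,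
      Complex.conj_natCast, mul_one]
  refine ⟨hpart1, ?_⟩
  have hnorm := classInner_indFun_self_of_invariant H hH hϑ hinv
  rw [classInner_self_eq_sum (isClassFunction_indFun H ϑ)] at hnorm
  have h3 : ∀ ψ : Cfsg.IrrCharacter K,
      Cfsg.classInner (Cfsg.indFun H ϑ) (ψ : K → ℂ) *
        conj (Cfsg.classInner (Cfsg.indFun H ϑ) (ψ : K → ℂ)) =
      if Cfsg.classInner (Cfsg.indFun H ϑ) (ψ : K → ℂ) ≠ 0 then ((e ^ 2 : ℕ) : ℂ) else 0 := by
    intro ψ
    split_ifs with h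
    · rw [(hpart1 ψ h).2, Complex.conj_natCast]
      push_cast
      ring
    · rw [not_not] at h
      rw [h, zero_mul]
  simp_rw [h3] at hnorm
  rw [← Finset.sum_filter, Finset.sum_const, nsmul_eq_mul, ← Nat.cast_mul] at hnorm
  have h4 := Nat.cast_injective (R := ℂ) hnorm
  rw [← h4, mul_comm]

end Cfsg.Agent.Lib.Helper75_AbelianInertia
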