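import Cfsg.Agent.S0001

/-!
# Coprime action in an ambient finite group

`A` and `K` are subgroups of a finite group `G` with `A ≤ N_G(K)` and coprime orders, and
`A` or `K` is solvable. Consequences of the Schur–Zassenhaus theorem (`Cfsg.Agent.S0001`).
-/

set_option autoImplicit false

namespace Cfsg.Agent.Lib.Helper24_CoprimeAction

open Cfsg.Agent.S0001
open scoped commutatorElement

/-- Conjugating a subgroup by one of its elements does nothing. -/
theorem map_conj_of_mem {G : Type*} [Group G] (A : Subgroup G) {a : G} (ha : a ∈ A) :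
    A.map (MulAut.conj a).toMonoidHom = A := by
  ext x
  constructor
  · rintro ⟨y, hy, rfl⟩
    exact A.mul_mem (A.mul_mem ha hy) (A.inv_mem ha)
  · intro hx
    refine ⟨a⁻¹ * x * a, A.mul_mem (A.mul_mem (A.inv_mem ha) hx) ha, ?_⟩
    simp [mul_assoc]

/-- Membership in the normalizer via `Subgroup.map` along conjugation (`toMonoidHom` form). -/
theorem mem_normalizer_iff_map_conj {G : Type*} [Group G] {H : Subgroup G} {g : G} :
    g ∈ Subgroup.normalizer (H : Set G) ↔ H.map (MulAut.conj g).toMonoidHom = H :=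
  Subgroup.mem_normalizer_iff_map_conj_eq

theorem card_subgroupOf_of_le {G : Type*} [Group G] {H T : Subgroup G} (h : H ≤ T) :
    Nat.card (H.subgroupOf T) = Nat.card H :=
  Nat.card_congr (Subgroup.subgroupOfEquivOfLe h).toEquiv

/-- If `A` normalizes `K` and their orders are coprime, then inside `T = K ⊔ A` the subgroup `K` is
normal with complement `A`. -/
theorem isComplement'_subgroupOf_sup {G : Type*} [Group G] [Finite G] (A K : Subgroup G)
    (hAK : A ≤ Subgroup.normalizer (K : Set G)) (hdisj : K ⊓ A = ⊥) :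
    (K.subgroupOf (K ⊔ A)).Normal ∧
      Subgroup.IsComplement' (K.subgroupOf (K ⊔ A)) (A.subgroupOf (K ⊔ A)) := by
  have hKn : (K.subgroupOf (K ⊔ A)).Normal :=
    (Subgroup.normal_subgroupOf_iff_le_normalizer le_sup_left).mpr
      (sup_le Subgroup.le_normalizer hAK)
  refine ⟨hKn, ?_⟩
  apply Subgroup.isComplement'_of_disjoint_and_mul_eq_univ
  · rw [disjoint_iff, eq_bot_iff]
    intro x hx
    rw [Subgroup.mem_inf, Subgroup.mem_subgroupOf, Subgroup.mem_subgroupOf] at hx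
    have : (x : G) ∈ K ⊓ A := hx
    rw [hdisj, Subgroup.mem_bot] at this
    rw [Subgroup.mem_bot]
    exact Subtype.ext this
  · have h1 : K.subgroupOf (K ⊔ A) ⊔ A.subgroupOf (K ⊔ A) = ⊤ := by
      rw [← Subgroup.subgroupOf_sup le_sup_left le_sup_right, Subgroup.subgroupOf_self]
    rw [← Subgroup.normal_mul, h1, Subgroup.coe_top]

/-- Every element of `K ⊔ A` is a product `k * a` when `A` normalizes `K`. -/
theorem exists_mul_of_mem_sup {G : Type*} [Group G] (A K : Subgroup G)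
    (hAK : A ≤ Subgroup.normalizer (K : Set G)) {t : G} (ht : t ∈ K ⊔ A) :
    ∃ k ∈ K, ∃ a ∈ A, t = k * a := by
  have hKn : (K.subgroupOf (K ⊔ A)).Normal :=
    (Subgroup.normal_subgroupOf_iff_le_normalizer le_sup_left).mpr
      (sup_le Subgroup.le_normalizer hAK)
  have h1 : K.subgroupOf (K ⊔ A) ⊔ A.subgroupOf (K ⊔ A) = ⊤ := by
    rw [← Subgroup.subgroupOf_sup le_sup_left le_sup_right, Subgroup.subgroupOf_self]
  have h2 : (⟨t, ht⟩ : ↥(K ⊔ A)) ∈
      ((K.subgroupOf (K ⊔ A) ⊔ A.subgroupOf (K ⊔ A) : Subgroup ↥(K ⊔ A)) : Set ↥(K ⊔ A)) := by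
    rw [h1]; trivial
  rw [Subgroup.normal_mul] at h2
  obtain ⟨k, hk, a, ha, hka⟩ := h2
  refine ⟨k, Subgroup.mem_subgroupOf.mp hk, a, Subgroup.mem_subgroupOf.mp ha, ?_⟩
  have := congrArg Subtype.val hka
  simpa using this.symm

/-- **Relative Schur–Zassenhaus conjugacy.** If `A` normalizes `K`, the orders are coprime,
`A` or `K` is solvable, and `B ≤ KA` is another complement to `K` in `KA`, then `B` is conjugate
to `A` by an element of `K`. -/
theorem sz_rel_conj' {G : Type*} [Group G] [Finite G] (A K B : Subgroup G)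
    (hAK : A ≤ Subgroup.normalizer (K : Set G)) (hcop : (Nat.card A).Coprime (Nat.card K))
    (hsolv : Group.IsSolvable A ∨ Group.IsSolvable K)
    (hB : B ≤ K ⊔ A) (hBK : K ⊓ B = ⊥) (hsup : K ⊔ A ≤ K ⊔ B) :
    ∃ k ∈ K, A.map (MulAut.conj k).toMonoidHom = B := by
  have hdisj : K ⊓ A = ⊥ := by
    rw [inf_comm]; exact (Subgroup.disjoint_of_coprime_natCard hcop).eq_bot
  obtain ⟨hKn, hcA⟩ := isComplement'_subgroupOf_sup A K hAK hdisj
  have hTB : K ⊔ B = K ⊔ A := le_antisymm (sup_le le_sup_left hB) hsup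
  have hBn : B ≤ Subgroup.normalizer (K : Set G) :=
    hB.trans (sup_le Subgroup.le_normalizer hAK)
  obtain ⟨_, hcB'⟩ := isComplement'_subgroupOf_sup B K hBn hBK
  have hcB : Subgroup.IsComplement' (K.subgroupOf (K ⊔ A)) (B.subgroupOf (K ⊔ A)) := by
    rw [← hTB]; exact hcB'
  have hHall : (Nat.card (K.subgroupOf (K ⊔ A))).Coprime (K.subgroupOf (K ⊔ A)).index := by
    rw [hcA.symm.index_eq_card, card_subgroupOf_of_le le_sup_left,
      card_subgroupOf_of_le le_sup_right]
    exact hcop.symm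
  have hsolv' : Group.IsSolvable (K.subgroupOf (K ⊔ A)) ∨
      Group.IsSolvable (↥(K ⊔ A) ⧸ K.subgroupOf (K ⊔ A)) := by
    rcases hsolv with hs | hs
    · right
      have e1 : ↥(K ⊔ A) ⧸ K.subgroupOf (K ⊔ A) ≃* A.subgroupOf (K ⊔ A) :=
        hcA.symm.QuotientMulEquiv
      have e2 : A.subgroupOf (K ⊔ A) ≃* A := Subgroup.subgroupOfEquivOfLe le_sup_right
      exact Group.isSolvable_of_isSolvable_injective (f := (e1.trans e2).toMonoidHom)
        (e1.trans e2).injective
    · left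
      have e2 : K.subgroupOf (K ⊔ A) ≃* K := Subgroup.subgroupOfEquivOfLe le_sup_left
      exact Group.isSolvable_of_isSolvable_injective (f := e2.toMonoidHom) e2.injective
  obtain ⟨t, ht⟩ := sz_all (Nat.card ↥(K ⊔ A)) ↥(K ⊔ A) rfl (K.subgroupOf (K ⊔ A)) hHall hsolv'
    (A.subgroupOf (K ⊔ A)) (B.subgroupOf (K ⊔ A)) hcA hcB
  have h1 := conj_of_subgroupOf (K ⊔ A) A B le_sup_right hB t ht
  obtain ⟨k, hk, a, ha, hka⟩ := exists_mul_of_mem_sup A K hAK t.2
  refine ⟨k, hk, ?_⟩
  rw [← h1, hka, ← map_conj_mul, map_conj_of_mem A ha]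

/-- Cardinality form of `sz_rel_conj'`. -/
theorem sz_rel_conj {G : Type*} [Group G] [Finite G] (A K B : Subgroup G)
    (hAK : A ≤ Subgroup.normalizer (K : Set G)) (hcop : (Nat.card A).Coprime (Nat.card K))
    (hsolv : Group.IsSolvable A ∨ Group.IsSolvable K)
    (hB : B ≤ K ⊔ A) (hBcard : Nat.card B = Nat.card A) :
    ∃ k ∈ K, A.map (MulAut.conj k).toMonoidHom = B := by
  have hdisj : K ⊓ A = ⊥ := by
    rw [inf_comm]; exact (Subgroup.disjoint_of_coprime_natCard hcop).eq_bot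
  have hBK : K ⊓ B = ⊥ := by
    rw [inf_comm]
    exact (Subgroup.disjoint_of_coprime_natCard (by rw [hBcard]; exact hcop)).eq_bot
  have hBn : B ≤ Subgroup.normalizer (K : Set G) :=
    hB.trans (sup_le Subgroup.le_normalizer hAK)
  obtain ⟨_, hcA⟩ := isComplement'_subgroupOf_sup A K hAK hdisj
  obtain ⟨_, hcB⟩ := isComplement'_subgroupOf_sup B K hBn hBK
  have hle : K ⊔ B ≤ K ⊔ A := sup_le le_sup_left hB
  have hcard : Nat.card ↥(K ⊔ A) ≤ Nat.card ↥(K ⊔ B) := by
    rw [← hcA.card_mul_card, ← hcB.card_mul_card, card_subgroupOf_of_le le_sup_left,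
      card_subgroupOf_of_le le_sup_right, card_subgroupOf_of_le le_sup_left,
      card_subgroupOf_of_le le_sup_right, hBcard]
  have heq : K ⊔ B = K ⊔ A := Subgroup.eq_of_le_of_card_ge hle hcard
  exact sz_rel_conj' A K B hAK hcop hsolv hB hBK heq.ge

/-- An element of `K` normalizing `A` (in the weak sense `c A c⁻¹ = A`) centralizes `A`, when `A`
normalizes `K` and `K ∩ A = 1`. -/
theorem commute_of_map_conj_eq {G : Type*} [Group G] (A K : Subgroup G)
    (hAK : A ≤ Subgroup.normalizer (K : Set G)) (hdisj : K ⊓ A = ⊥) {c : G} (hc : c ∈ K)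
    (hcA : A.map (MulAut.conj c).toMonoidHom = A) : ∀ a ∈ A, a * c = c * a := by
  intro a ha
  have h1 : c * a * c⁻¹ ∈ A := by
    rw [← hcA]; exact ⟨a, ha, by simp⟩
  have h2 : c * a * c⁻¹ * a⁻¹ ∈ A := A.mul_mem h1 (A.inv_mem ha)
  have h3 : a * c⁻¹ * a⁻¹ ∈ K := (Subgroup.mem_normalizer_iff.mp (hAK ha) c⁻¹).mp (K.inv_mem hc)
  have h4 : c * a * c⁻¹ * a⁻¹ ∈ K := by
    have : c * a * c⁻¹ * a⁻¹ = c * (a * c⁻¹ * a⁻¹) := by group
    rw [this]; exact K.mul_mem hc h3
  have h5 : c * a * c⁻¹ * a⁻¹ ∈ K ⊓ A := ⟨h4, h2⟩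
  rw [hdisj, Subgroup.mem_bot] at h5
  calc a * c = (c * a * c⁻¹ * a⁻¹)⁻¹ * (c * a) := by group
    _ = c * a := by rw [h5]; group

/-- **Fixed points in invariant cosets (Glauberman's lemma for cosets).** Let `A` normalize `D`
with coprime orders (`A` or `D` solvable), and let `x : G` be such that the left coset `x D` is
`A`-invariant under conjugation. Then `x D` contains an element centralized by `A`. -/
theorem exists_fixed_in_coset {G : Type*} [Group G] [Finite G] (A D : Subgroup G)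
    (hAD : A ≤ Subgroup.normalizer (D : Set G)) (hcop : (Nat.card A).Coprime (Nat.card D))
    (hsolv : Group.IsSolvable A ∨ Group.IsSolvable D)
    (x : G) (hfix : ∀ a ∈ A, x⁻¹ * (a * x * a⁻¹) ∈ D) :
    ∃ d ∈ D, ∀ a ∈ A, a * (x * d) = (x * d) * a := by
  have hdisj : D ⊓ A = ⊥ := by
    rw [inf_comm]; exact (Subgroup.disjoint_of_coprime_natCard hcop).eq_bot
  set B := A.map (MulAut.conj x⁻¹).toMonoidHom with hBdef
  have hB : B ≤ D ⊔ A := by
    rintro _ ⟨a, ha, rfl⟩
    have h1 : (MulAut.conj x⁻¹).toMonoidHom a = (x⁻¹ * (a * x * a⁻¹)) * a := by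
      simp [mul_assoc]
    rw [h1]
    exact Subgroup.mul_mem _ (Subgroup.mem_sup_left (hfix a ha)) (Subgroup.mem_sup_right ha)
  have hBcard : Nat.card B = Nat.card A := card_map_conj x⁻¹ A
  obtain ⟨d, hd, hdA⟩ := sz_rel_conj A D B hAD hcop hsolv hB hBcard
  -- c = x * d normalizes A
  have hcA : A.map (MulAut.conj (x * d)).toMonoidHom = A := by
    rw [← map_conj_mul, hdA, hBdef, map_conj_mul, mul_inv_cancel]
    exact map_conj_of_mem A A.one_mem
  refine ⟨d, hd, ?_⟩
  intro a ha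
  -- a = c a' c⁻¹ with a' ∈ A
  have ha2 : a ∈ A.map (MulAut.conj (x * d)).toMonoidHom := by rw [hcA]; exact ha
  obtain ⟨a', ha', haa'⟩ := ha2
  have haa'' : (x * d) * a' * (x * d)⁻¹ = a := haa'
  -- a' a⁻¹ = c⁻¹ (a c a⁻¹) ∈ D ∩ A
  have hadD : a * d * a⁻¹ ∈ D := (Subgroup.mem_normalizer_iff.mp (hAD ha) d).mp hd
  have h1 : a' * a⁻¹ ∈ D := by
    have e : a' * a⁻¹ = d⁻¹ * (x⁻¹ * (a * x * a⁻¹)) * (a * d * a⁻¹) := by
      rw [← haa'']; group
    rw [e]
    exact D.mul_mem (D.mul_mem (D.inv_mem hd) (hfix a ha)) hadD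
  have h2 : a' * a⁻¹ ∈ D ⊓ A := ⟨h1, A.mul_mem ha' (A.inv_mem ha)⟩
  rw [hdisj, Subgroup.mem_bot] at h2
  have h3 : a' = a := by
    calc a' = (a' * a⁻¹) * a := by group
      _ = a := by rw [h2, one_mul]
  rw [h3] at haa''
  calc a * (x * d) = ((x * d) * a * (x * d)⁻¹) * (x * d) := by rw [haa'']
    _ = (x * d) * a := by group

/-- A subgroup of a solvable subgroup is solvable. -/
theorem isSolvable_of_le {G : Type*} [Group G] {D K : Subgroup G} (h : D ≤ K)
    (hK : Group.IsSolvable K) : Group.IsSolvable D :=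
  Group.isSolvable_of_isSolvable_injective (f := Subgroup.inclusion h)
    (Subgroup.inclusion_injective h)

/-- An element normalizing `K` and `A` normalizes `⁅K, A⁆`. -/
theorem mem_normalizer_commutator {G : Type*} [Group G] (K A : Subgroup G) {g : G}
    (hK : g ∈ Subgroup.normalizer (K : Set G)) (hA : g ∈ Subgroup.normalizer (A : Set G)) :
    g ∈ Subgroup.normalizer ((⁅K, A⁆ : Subgroup G) : Set G) := by
  rw [Subgroup.mem_normalizer_iff_map_conj_eq] at hK hA ⊢
  rw [Subgroup.map_commutator, hK, hA]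

/-- If `A` normalizes `K` then `⁅K, A⁆ ≤ K`. -/
theorem commutator_le_of_le_normalizer {G : Type*} [Group G] (K A : Subgroup G)
    (hAK : A ≤ Subgroup.normalizer (K : Set G)) : ⁅K, A⁆ ≤ K := by
  rw [Subgroup.commutator_le]
  intro k hk a ha
  have h1 : a * k⁻¹ * a⁻¹ ∈ K := (Subgroup.mem_normalizer_iff.mp (hAK ha) k⁻¹).mp (K.inv_mem hk)
  have h2 : ⁅k, a⁆ = k * (a * k⁻¹ * a⁻¹) := by rw [commutatorElement_def]; group
  rw [h2]; exact K.mul_mem hk h1

/-- **Coprime action: `K = [K, A] C_K(A)`**, elementwise form. -/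
theorem coprime_decomp {G : Type*} [Group G] [Finite G] (A K : Subgroup G)
    (hAK : A ≤ Subgroup.normalizer (K : Set G)) (hcop : (Nat.card A).Coprime (Nat.card K))
    (hsolv : Group.IsSolvable A ∨ Group.IsSolvable K) {k : G} (hk : k ∈ K) :
    ∃ d ∈ ⁅K, A⁆, ∃ c ∈ K ⊓ Subgroup.centralizer (A : Set G), k = d * c := by
  have hDK : ⁅K, A⁆ ≤ K := commutator_le_of_le_normalizer K A hAK
  have hAD : A ≤ Subgroup.normalizer ((⁅K, A⁆ : Subgroup G) : Set G) :=
    fun a ha => mem_normalizer_commutator K A (hAK ha) (Subgroup.le_normalizer ha)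
  have hcopD : (Nat.card A).Coprime (Nat.card (⁅K, A⁆ : Subgroup G)) :=
    Nat.Coprime.coprime_dvd_right (Subgroup.card_dvd_of_le hDK) hcop
  have hsolv' : Group.IsSolvable A ∨ Group.IsSolvable (⁅K, A⁆ : Subgroup G) :=
    hsolv.imp id (isSolvable_of_le hDK)
  have hfix : ∀ a ∈ A, k⁻¹⁻¹ * (a * k⁻¹ * a⁻¹) ∈ ⁅K, A⁆ := by
    intro a ha
    have h1 : ⁅k, a⁆ ∈ ⁅K, A⁆ := Subgroup.commutator_mem_commutator hk ha
    have h2 : k⁻¹⁻¹ * (a * k⁻¹ * a⁻¹) = ⁅k, a⁆ := by rw [commutatorElement_def]; group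
    rw [h2]; exact h1
  obtain ⟨d, hd, hc⟩ := exists_fixed_in_coset A ⁅K, A⁆ hAD hcopD hsolv' k⁻¹ hfix
  have hcK : k⁻¹ * d ∈ K := K.mul_mem (K.inv_mem hk) (hDK hd)
  refine ⟨d, hd, (k⁻¹ * d)⁻¹, ?_, by group⟩
  exact Subgroup.inv_mem _ ⟨hcK, Subgroup.mem_centralizer_iff.mpr hc⟩

/-- The automorphism of `K` induced by conjugation with an element of its normalizer. -/
def conjAut {G : Type*} [Group G] (K : Subgroup G) (a : G)
    (ha : a ∈ Subgroup.normalizer (K : Set G)) : K ≃* K where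
  toFun x := ⟨a * x * a⁻¹, (Subgroup.mem_normalizer_iff.mp ha x).mp x.2⟩
  invFun x := ⟨a⁻¹ * x * a, (Subgroup.mem_normalizer_iff''.mp ha x).mp x.2⟩
  left_inv x := by apply Subtype.ext; simp [mul_assoc]
  right_inv x := by apply Subtype.ext; simp [mul_assoc]
  map_mul' x y := by apply Subtype.ext; simp [mul_assoc]

/-- The image in `G` of a characteristic subgroup of `K` is normalized by `N_G(K)`. -/
theorem normalizer_le_normalizer_map_of_characteristic {G : Type*} [Group G] (K : Subgroup G)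
    (C : Subgroup K) [hC : C.Characteristic] :
    Subgroup.normalizer (K : Set G) ≤ Subgroup.normalizer ((C.map K.subtype : Subgroup G) : Set G) := by
  rw [Subgroup.le_normalizer_iff]
  rintro a ha _ ⟨z, hz, rfl⟩
  have h1 : C.map (conjAut K a ha).toMonoidHom = C :=
    Subgroup.characteristic_iff_map_eq.mp hC (conjAut K a ha)
  have h2 : (conjAut K a ha) z ∈ C := by
    rw [← h1]; exact ⟨z, hz, rfl⟩
  exact ⟨(conjAut K a ha) z, h2, rfl⟩

/-- **Glauberman's lemma, coset form (existence).** Let `A` normalize `K` with coprime orders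
(`A` or `K` solvable) and let `U ≤ KA` be a subgroup with `KU = KA`. Then some `K`-conjugate of `A`
lies in `U`. -/
theorem exists_conj_le {G : Type*} [Group G] [Finite G] (A K U : Subgroup G)
    (hAK : A ≤ Subgroup.normalizer (K : Set G)) (hcop : (Nat.card A).Coprime (Nat.card K))
    (hsolv : Group.IsSolvable A ∨ Group.IsSolvable K)
    (hU : U ≤ K ⊔ A) (hKU : K ⊔ A ≤ K ⊔ U) :
    ∃ k ∈ K, A.map (MulAut.conj k).toMonoidHom ≤ U := by
  have hdisj : K ⊓ A = ⊥ := by
    rw [inf_comm]; exact (Subgroup.disjoint_of_coprime_natCard hcop).eq_bot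
  obtain ⟨hKn, hcA⟩ := isComplement'_subgroupOf_sup A K hAK hdisj
  have hTN : K ⊔ A ≤ Subgroup.normalizer (K : Set G) := sup_le Subgroup.le_normalizer hAK
  have hUN : U ≤ Subgroup.normalizer (K : Set G) := hU.trans hTN
  -- `K ∩ U` is normal in `U`
  have hNn : (K.subgroupOf U).Normal := by
    rw [Subgroup.normal_subgroupOf_iff_le_normalizer_inf]
    exact (le_inf hUN Subgroup.le_normalizer).trans Subgroup.inf_normalizer_le_normalizer_inf
  -- its index divides `|A|`
  have hidx : (K.subgroupOf U).index ∣ Nat.card A := by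
    let f : U ⧸ K.subgroupOf U →* ↥(K ⊔ A) ⧸ K.subgroupOf (K ⊔ A) :=
      QuotientGroup.map (K.subgroupOf U) (K.subgroupOf (K ⊔ A)) (Subgroup.inclusion hU)
        (fun x hx => hx)
    have hf : Function.Injective f := by
      rw [injective_iff_map_eq_one]
      intro x hx
      obtain ⟨u, rfl⟩ := QuotientGroup.mk'_surjective (K.subgroupOf U) x
      have h1 : f (QuotientGroup.mk' _ u) =
          ((Subgroup.inclusion hU u : ↥(K ⊔ A)) : ↥(K ⊔ A) ⧸ K.subgroupOf (K ⊔ A)) := rfl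
      rw [h1, QuotientGroup.eq_one_iff] at hx
      exact (QuotientGroup.eq_one_iff u).mpr hx
    have h2 := Subgroup.card_dvd_of_injective f hf
    rw [← Subgroup.index_eq_card, ← Subgroup.index_eq_card, hcA.symm.index_eq_card,
      card_subgroupOf_of_le le_sup_right] at h2
    exact h2
  have hHallU : (Nat.card (K.subgroupOf U)).Coprime (K.subgroupOf U).index := by
    have h1 : Nat.card (K.subgroupOf U) ∣ Nat.card K :=
      Subgroup.card_comap_dvd_of_injective K U.subtype U.subtype_injective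
    exact Nat.Coprime.coprime_dvd_left h1 (Nat.Coprime.coprime_dvd_right hidx hcop.symm)
  obtain ⟨B', hB'⟩ := Subgroup.exists_right_complement'_of_coprime hHallU
  set B : Subgroup G := B'.map U.subtype with hBdef
  have hBU : B ≤ U := Subgroup.map_subtype_le B'
  have hKB : K ⊓ B = ⊥ := by
    rw [eq_bot_iff]
    rintro x ⟨hxK, ⟨b, hb, rfl⟩⟩
    have : b ∈ K.subgroupOf U ⊓ B' := ⟨Subgroup.mem_subgroupOf.mpr hxK, hb⟩
    rw [hB'.disjoint.eq_bot, Subgroup.mem_bot] at this
    rw [Subgroup.mem_bot, this]; rfl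
  have hUle : U ≤ K ⊔ B := by
    intro u hu
    have h1 : (⟨u, hu⟩ : U) ∈ K.subgroupOf U ⊔ B' := by rw [hB'.sup_eq_top]; trivial
    rw [← SetLike.mem_coe, Subgroup.normal_mul] at h1
    obtain ⟨n, hn, b, hb, hnb⟩ := h1
    have h2 : (n : G) * (b : G) = u := congrArg Subtype.val hnb
    rw [← h2]
    exact Subgroup.mul_mem _ (Subgroup.mem_sup_left (Subgroup.mem_subgroupOf.mp hn))
      (Subgroup.mem_sup_right ⟨b, hb, rfl⟩)
  have hsup : K ⊔ A ≤ K ⊔ B := hKU.trans (sup_le le_sup_left hUle)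
  obtain ⟨k, hk, hkA⟩ := sz_rel_conj' A K B hAK hcop hsolv (hBU.trans hU) hKB hsup
  exact ⟨k, hk, by rw [hkA]; exact hBU⟩

/-- **Glauberman's lemma, coset form (transitivity).** Let `A` normalize `K` with coprime orders
(`A` or `K` solvable), `U` a subgroup containing `A` with `A ≤ N_G(K ∩ U)`, and `k ∈ K` with
`k⁻¹ A k ≤ U`. Then `k ∈ c U` for some `c ∈ C_K(A)`. -/
theorem exists_centralizer_mul {G : Type*} [Group G] [Finite G] (A K U : Subgroup G)
    (hAK : A ≤ Subgroup.normalizer (K : Set G)) (hcop : (Nat.card A).Coprime (Nat.card K))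
    (hsolv : Group.IsSolvable A ∨ Group.IsSolvable K)
    (hAU : A ≤ U) (hAKU : A ≤ Subgroup.normalizer ((K ⊓ U : Subgroup G) : Set G))
    (k : G) (hk : k ∈ K) (hkU : A.map (MulAut.conj k⁻¹).toMonoidHom ≤ U) :
    ∃ c ∈ K ⊓ Subgroup.centralizer (A : Set G), c⁻¹ * k ∈ U := by
  have hdisj : K ⊓ A = ⊥ := by
    rw [inf_comm]; exact (Subgroup.disjoint_of_coprime_natCard hcop).eq_bot
  have hDK : K ⊓ U ≤ K := inf_le_left
  have hcopD : (Nat.card A).Coprime (Nat.card (K ⊓ U : Subgroup G)) :=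
    Nat.Coprime.coprime_dvd_right (Subgroup.card_dvd_of_le hDK) hcop
  have hsolv' : Group.IsSolvable A ∨ Group.IsSolvable (K ⊓ U : Subgroup G) :=
    hsolv.imp id (isSolvable_of_le hDK)
  set B := A.map (MulAut.conj k⁻¹).toMonoidHom with hBdef
  have hB : B ≤ (K ⊓ U) ⊔ A := by
    rintro _ ⟨a, ha, rfl⟩
    have hmemU : (MulAut.conj k⁻¹).toMonoidHom a ∈ U := hkU ⟨a, ha, rfl⟩
    have h1 : (MulAut.conj k⁻¹).toMonoidHom a = (k⁻¹ * (a * k * a⁻¹)) * a := by
      simp [mul_assoc]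
    have h2 : k⁻¹ * (a * k * a⁻¹) ∈ K :=
      K.mul_mem (K.inv_mem hk) ((Subgroup.mem_normalizer_iff.mp (hAK ha) k).mp hk)
    have h3 : k⁻¹ * (a * k * a⁻¹) ∈ U := by
      have : k⁻¹ * (a * k * a⁻¹) = (MulAut.conj k⁻¹).toMonoidHom a * a⁻¹ := by
        rw [h1]; group
      rw [this]; exact U.mul_mem hmemU (U.inv_mem (hAU ha))
    rw [h1]
    exact Subgroup.mul_mem _ (Subgroup.mem_sup_left ⟨h2, h3⟩) (Subgroup.mem_sup_right ha)
  have hBcard : Nat.card B = Nat.card A := card_map_conj k⁻¹ A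
  obtain ⟨u, hu, huA⟩ := sz_rel_conj A (K ⊓ U) B hAKU hcopD hsolv' hB hBcard
  have hcA : A.map (MulAut.conj (k * u)).toMonoidHom = A := by
    rw [← map_conj_mul, huA, hBdef, map_conj_mul, mul_inv_cancel]
    exact map_conj_of_mem A A.one_mem
  have hcK : k * u ∈ K := K.mul_mem hk hu.1
  have hcomm := commute_of_map_conj_eq A K hAK hdisj hcK hcA
  refine ⟨k * u, ⟨hcK, Subgroup.mem_centralizer_iff.mpr hcomm⟩, ?_⟩
  have : (k * u)⁻¹ * k = u⁻¹ := by group
  rw [this]; exact U.inv_mem hu.2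

/-! ### Sylow subgroups of `K` viewed in the ambient group -/

/-- The image in `G` of a Sylow subgroup of the subgroup `K`. -/
abbrev sylowImage {G : Type*} [Group G] {K : Subgroup G} {p : ℕ} (P : Sylow p K) : Subgroup G :=
  (P : Subgroup K).map K.subtype

theorem sylowImage_injective {G : Type*} [Group G] {K : Subgroup G} {p : ℕ} {P Q : Sylow p K}
    (h : sylowImage P = sylowImage Q) : P = Q :=
  Sylow.ext (Subgroup.map_injective K.subtype_injective h)

/-- Image of a `K`-conjugate of a Sylow subgroup of `K`. -/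
theorem sylowImage_smul {G : Type*} [Group G] {K : Subgroup G} {p : ℕ} (P : Sylow p K) (κ : K) :
    sylowImage (κ • P) = (sylowImage P).map (MulAut.conj (κ : G)).toMonoidHom := by
  have h1 : ((κ • P : Sylow p K) : Subgroup K) = (P : Subgroup K).map (MulAut.conj κ).toMonoidHom :=
    rfl
  rw [sylowImage, h1, sylowImage, Subgroup.map_map, Subgroup.map_map]
  congr 1

/-- Image of a conjugate of a Sylow subgroup of `K` by an element normalizing `K`. -/
theorem sylowImage_conjAut {G : Type*} [Group G] {K : Subgroup G} {p : ℕ} (P : Sylow p K) (t : G)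
    (ht : t ∈ Subgroup.normalizer (K : Set G)) :
    sylowImage (conjAut K t ht • P) = (sylowImage P).map (MulAut.conj t).toMonoidHom := by
  have h1 : ((conjAut K t ht • P : Sylow p K) : Subgroup K) =
      (P : Subgroup K).map (conjAut K t ht).toMonoidHom := rfl
  rw [sylowImage, h1, sylowImage, Subgroup.map_map, Subgroup.map_map]
  congr 1

/-- **Relative Frattini argument.** If `t` normalizes `K` and `P` is a Sylow subgroup of `K`, then
`κ⁻¹ t` normalizes `P` for some `κ ∈ K`. -/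
theorem frattini_rel {G : Type*} [Group G] [Finite G] {K : Subgroup G} {p : ℕ} [Fact p.Prime]
    (P : Sylow p K) (t : G) (ht : t ∈ Subgroup.normalizer (K : Set G)) :
    ∃ κ : K, (κ : G)⁻¹ * t ∈ Subgroup.normalizer ((sylowImage P : Subgroup G) : Set G) := by
  obtain ⟨κ, hκ⟩ := MulAction.exists_smul_eq K P (conjAut K t ht • P)
  refine ⟨κ, ?_⟩
  have h1 := congrArg sylowImage hκ
  rw [sylowImage_smul, sylowImage_conjAut] at h1
  rw [mem_normalizer_iff_map_conj]
  have h2 := congrArg (Subgroup.map (MulAut.conj (κ : G)⁻¹).toMonoidHom) h1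
  rw [map_conj_mul, map_conj_mul, inv_mul_cancel] at h2
  have h3 : (sylowImage P).map (MulAut.conj (1 : G)).toMonoidHom = sylowImage P :=
    map_conj_of_mem _ (Subgroup.one_mem _)
  rw [h3] at h2
  exact h2.symm

/-- **Coprime action: an invariant Sylow subgroup exists.** -/
theorem exists_invariant_sylow {G : Type*} [Group G] [Finite G] (A K : Subgroup G)
    (hAK : A ≤ Subgroup.normalizer (K : Set G)) (hcop : (Nat.card A).Coprime (Nat.card K))
    (hsolv : Group.IsSolvable A ∨ Group.IsSolvable K) (p : ℕ) [Fact p.Prime] :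
    ∃ P : Sylow p K, A ≤ Subgroup.normalizer ((sylowImage P : Subgroup G) : Set G) := by
  obtain P₀ : Sylow p K := default
  have hTN : K ⊔ A ≤ Subgroup.normalizer (K : Set G) := sup_le Subgroup.le_normalizer hAK
  set U : Subgroup G := Subgroup.normalizer ((sylowImage P₀ : Subgroup G) : Set G) ⊓ (K ⊔ A) with hU
  have hKU : K ⊔ A ≤ K ⊔ U := by
    intro t ht
    obtain ⟨κ, hκ⟩ := frattini_rel P₀ t (hTN ht)
    have e : t = (κ : G) * ((κ : G)⁻¹ * t) := by group
    rw [e]
    refine Subgroup.mul_mem _ (Subgroup.mem_sup_left κ.2) (Subgroup.mem_sup_right ⟨hκ, ?_⟩)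
    exact Subgroup.mul_mem _ (Subgroup.inv_mem _ (Subgroup.mem_sup_left κ.2)) ht
  obtain ⟨k, hk, hkU⟩ := exists_conj_le A K U hAK hcop hsolv inf_le_right hKU
  refine ⟨(⟨k, hk⟩ : K)⁻¹ • P₀, ?_⟩
  intro a ha
  rw [mem_normalizer_iff_map_conj, sylowImage_smul]
  have h1 : k * a * k⁻¹ ∈ Subgroup.normalizer ((sylowImage P₀ : Subgroup G) : Set G) :=
    (hkU ⟨a, ha, by simp⟩).1
  rw [mem_normalizer_iff_map_conj] at h1
  have e : a * ((⟨k, hk⟩ : K)⁻¹ : K) = ((⟨k, hk⟩ : K)⁻¹ : K) * (k * a * k⁻¹) := by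
    simp only [Subgroup.coe_inv]; group
  change ((sylowImage P₀).map (MulAut.conj (((⟨k, hk⟩ : K)⁻¹ : K) : G)).toMonoidHom).map
    (MulAut.conj a).toMonoidHom = _
  rw [map_conj_mul, e, ← map_conj_mul]
  congr 1

/-- **Coprime action: invariant Sylow subgroups are conjugate under `C_K(A)`.** -/
theorem invariant_sylow_conj {G : Type*} [Group G] [Finite G] (A K : Subgroup G)
    (hAK : A ≤ Subgroup.normalizer (K : Set G)) (hcop : (Nat.card A).Coprime (Nat.card K))
    (hsolv : Group.IsSolvable A ∨ Group.IsSolvable K) (p : ℕ) [Fact p.Prime] (P Q : Sylow p K)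
    (hP : A ≤ Subgroup.normalizer ((sylowImage P : Subgroup G) : Set G))
    (hQ : A ≤ Subgroup.normalizer ((sylowImage Q : Subgroup G) : Set G)) :
    ∃ c : K, (c : G) ∈ Subgroup.centralizer (A : Set G) ∧ c • P = Q := by
  obtain ⟨κ, hκ⟩ := MulAction.exists_smul_eq K P Q
  have hQP : sylowImage Q = (sylowImage P).map (MulAut.conj (κ : G)).toMonoidHom := by
    rw [← hκ, sylowImage_smul]
  set U : Subgroup G := Subgroup.normalizer ((sylowImage P : Subgroup G) : Set G) with hU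
  have hAKU : A ≤ Subgroup.normalizer ((K ⊓ U : Subgroup G) : Set G) :=
    (le_inf hAK (hP.trans Subgroup.le_normalizer)).trans Subgroup.inf_normalizer_le_normalizer_inf
  have hkU : A.map (MulAut.conj (κ : G)⁻¹).toMonoidHom ≤ U := by
    rintro _ ⟨a, ha, rfl⟩
    rw [hU, mem_normalizer_iff_map_conj]
    have h1 := hQ ha
    rw [mem_normalizer_iff_map_conj, hQP] at h1
    change ((sylowImage P).map (MulAut.conj (κ : G)).toMonoidHom).map
      (MulAut.conj a).toMonoidHom = _ at h1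
    have h2 := congrArg (Subgroup.map (MulAut.conj (κ : G)⁻¹).toMonoidHom) h1
    rw [map_conj_mul, map_conj_mul, map_conj_mul, inv_mul_cancel] at h2
    have h3 : (sylowImage P).map (MulAut.conj (1 : G)).toMonoidHom = sylowImage P :=
      map_conj_of_mem _ (Subgroup.one_mem _)
    rw [h3] at h2
    have e : (MulAut.conj (κ : G)⁻¹).toMonoidHom a = (κ : G)⁻¹ * a * κ := by
      simp [mul_assoc]
    rw [e]
    exact h2
  obtain ⟨c, hc, hcκ⟩ := exists_centralizer_mul A K U hAK hcop hsolv hP hAKU (κ : G) κ.2 hkU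
  refine ⟨⟨c, hc.1⟩, hc.2, ?_⟩
  apply sylowImage_injective
  rw [sylowImage_smul, hQP]
  rw [hU, mem_normalizer_iff_map_conj] at hcκ
  have e : (κ : G) = c * (c⁻¹ * κ) := by group
  conv_rhs => rw [e, ← map_conj_mul]
  rw [hcκ]

end Cfsg.Agent.Lib.Helper24_CoprimeAction
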