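import Mathlib
import Cfsg.Agent.Lib.Helper24_CoprimeAction

/-!
# Conjugacy in the coset `G s` for a coprime cyclic operator group (helper75)

`G S : Subgroup Γ`, `S` normalizes `G`, `(|G|, |S|) = 1`, `S = ⟨s⟩`, `C = G ⊓ C_Γ(S)`.
* `exists_conj_eq_mul`: every element `g s` of the coset `G s` is `G`-conjugate to `c s`, `c ∈ C`.
* `conj_mul_eq`: if `k (c s) k⁻¹ = c' s` with `k ∈ G`, `c c' ∈ C`, then `k ∈ C` and `k c k⁻¹ = c'`.
* `sum_coset_eq`: `|C| ∑_{g ∈ G} F (g s) = |G| ∑_{c ∈ C} F (c s)` for `G`-invariant `F`.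
-/

set_option autoImplicit false

namespace Cfsg.Agent.Lib.Helper75_CosetConj

open Cfsg.Agent.Lib.Helper24_CoprimeAction

variable {Γ : Type*} [Group Γ]

/-- CRT exponents for coprime `N`, `n`. -/
theorem exists_crt_exponents (N n : ℕ) (h : N.Coprime n) :
    ∃ a b : ℕ, a ≡ 1 [MOD n] ∧ N ∣ a ∧ n ∣ b ∧ b ≡ 1 [MOD N] ∧ a + b ≡ 1 [MOD N * n] := by
  obtain ⟨a, ha0, ha1⟩ := Nat.chineseRemainder h 0 1
  obtain ⟨b, hb1, hb0⟩ := Nat.chineseRemainder h 1 0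
  refine ⟨a, b, ha1, (Nat.modEq_zero_iff_dvd.mp ha0), (Nat.modEq_zero_iff_dvd.mp hb0), hb1, ?_⟩
  rw [← Nat.modEq_and_modEq_iff_modEq_mul h]
  constructor
  · have := Nat.ModEq.add ha0 hb1
    simpa using this
  · have := Nat.ModEq.add ha1 hb0
    simpa using this

theorem pow_eq_of_modEq {x : Γ} {m a b : ℕ} (hx : x ^ m = 1) (hab : a ≡ b [MOD m]) :
    x ^ a = x ^ b := by
  have h1 : orderOf x ∣ m := orderOf_dvd_of_pow_eq_one hx
  exact pow_eq_pow_iff_modEq.mpr (hab.of_dvd h1)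

theorem pow_eq_one_of_dvd {x : Γ} {m a : ℕ} (hx : x ^ m = 1) (hma : m ∣ a) : x ^ a = 1 := by
  obtain ⟨t, rfl⟩ := hma
  rw [pow_mul, hx, one_pow]

theorem pow_eq_self_of_modEq {x : Γ} {m a : ℕ} (hx : x ^ m = 1) (ha : a ≡ 1 [MOD m]) :
    x ^ a = x := by
  rw [pow_eq_of_modEq hx ha, pow_one]

theorem conjClasses_map_mk {α β : Type*} [Monoid α] [Monoid β] (f : α →* β) (a : α) :
    ConjClasses.map f (ConjClasses.mk a) = ConjClasses.mk (f a) := rfl

theorem pow_card_of_mem (H : Subgroup Γ) {y : Γ} (hy : y ∈ H) : y ^ Nat.card H = 1 := by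
  have h : ((⟨y, hy⟩ : H) ^ Nat.card H : H) = 1 := pow_card_eq_one'
  have h2 := congrArg Subtype.val h
  rwa [Subgroup.coe_pow, Subgroup.coe_one] at h2

section Coset

variable (G S : Subgroup Γ)

/-- Powers of an element of the coset `G s`. -/
theorem coset_pow (hnorm : ∀ t ∈ S, ∀ g ∈ G, t * g * t⁻¹ ∈ G) {s : Γ} (hs : s ∈ S) {g : Γ}
    (hg : g ∈ G) (j : ℕ) : ∃ g' ∈ G, (g * s) ^ j = g' * s ^ j := by
  induction j with
  | zero => exact ⟨1, G.one_mem, by simp⟩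
  | succ j ih =>
    obtain ⟨g', hg', h⟩ := ih
    refine ⟨g' * (s ^ j * g * (s ^ j)⁻¹), G.mul_mem hg' (hnorm _ (S.pow_mem hs j) _ hg), ?_⟩
    rw [pow_succ, h, pow_succ]
    group

theorem le_normalizer_of_hnorm (hnorm : ∀ t ∈ S, ∀ g ∈ G, t * g * t⁻¹ ∈ G) :
    S ≤ Subgroup.normalizer (G : Set Γ) := by
  intro t ht
  rw [Subgroup.mem_normalizer_iff]
  intro g
  constructor
  · intro hg
    exact hnorm t ht g hg
  · intro hg
    have := hnorm t⁻¹ (S.inv_mem ht) _ hg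
    simpa [mul_assoc] using this

theorem isSolvable_of_zpowers {s : Γ} (hs : Subgroup.zpowers s = S) : Group.IsSolvable S := by
  subst hs
  have : ∀ a b : Subgroup.zpowers s, a * b = b * a := by
    rintro ⟨a, ha⟩ ⟨b, hb⟩
    obtain ⟨i, rfl⟩ := Subgroup.mem_zpowers_iff.mp ha
    obtain ⟨j, rfl⟩ := Subgroup.mem_zpowers_iff.mp hb
    apply Subtype.ext
    show s ^ i * s ^ j = s ^ j * s ^ i
    rw [← zpow_add, ← zpow_add, add_comm]
  exact Group.isSolvable_of_comm this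

theorem mem_centralizer_of_commute {s : Γ} (hs : Subgroup.zpowers s = S) {c : Γ}
    (hc : c * s = s * c) : c ∈ Subgroup.centralizer (S : Set Γ) := by
  rw [Subgroup.mem_centralizer_iff]
  intro t ht
  have ht' : t ∈ Subgroup.zpowers s := by rw [hs]; exact ht
  obtain ⟨i, rfl⟩ := Subgroup.mem_zpowers_iff.mp ht'
  have : Commute c s := hc
  exact (this.zpow_right i).eq.symm

variable [Finite Γ]

/-- Every element of the coset `G s` is `G`-conjugate to an element `c s` with `c ∈ C_G(S)`. -/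
theorem exists_conj_eq_mul (hnorm : ∀ t ∈ S, ∀ g ∈ G, t * g * t⁻¹ ∈ G)
    (hcop : (Nat.card G).Coprime (Nat.card S)) {s : Γ} (hs : Subgroup.zpowers s = S) {g : Γ}
    (hg : g ∈ G) :
    ∃ k ∈ G, ∃ c ∈ G ⊓ Subgroup.centralizer (S : Set Γ), k⁻¹ * (g * s) * k = c * s := by
  have hsS : s ∈ S := hs ▸ Subgroup.mem_zpowers s
  obtain ⟨a, b, ha1, hNa, hnb, hb1, hab⟩ := exists_crt_exponents (Nat.card G) (Nat.card S) hcop
  have hdisj : G ⊓ S = ⊥ := (Subgroup.disjoint_of_coprime_natCard hcop).eq_bot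
  have hGpow : ∀ y ∈ G, y ^ Nat.card G = 1 := fun y hy => pow_card_of_mem G hy
  have hSpow : ∀ t ∈ S, t ^ Nat.card S = 1 := fun y hy => pow_card_of_mem S hy
  have hords : orderOf s = Nat.card S := by rw [← hs, Nat.card_zpowers]
  set x := g * s with hx
  -- x ^ n ∈ G
  obtain ⟨gn, hgn, hxn⟩ := coset_pow G S hnorm hsS hg (Nat.card S)
  rw [hSpow s hsS, mul_one] at hxn
  have hxnG : x ^ Nat.card S ∈ G := by rw [hxn]; exact hgn
  have hxNn : x ^ (Nat.card G * Nat.card S) = 1 := by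
    rw [mul_comm, pow_mul]; exact hGpow _ hxnG
  -- u = x ^ a
  obtain ⟨ga, hga, hxa⟩ := coset_pow G S hnorm hsS hg a
  rw [pow_eq_self_of_modEq (hSpow s hsS) ha1] at hxa
  set u := x ^ a with hu
  set v := x ^ b with hv
  have hvG : v ∈ G := by
    obtain ⟨t, ht⟩ := hnb
    rw [hv, ht, pow_mul]
    exact G.pow_mem hxnG t
  have hxuv : x = u * v := by
    rw [hu, hv, ← pow_add]
    exact (pow_eq_self_of_modEq hxNn hab).symm
  have hun : u ^ Nat.card S = 1 := by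
    rw [hu, ← pow_mul]
    apply pow_eq_one_of_dvd hxNn
    exact Nat.mul_dvd_mul_right hNa _
  have hordu : orderOf u = Nat.card S := by
    apply Nat.dvd_antisymm (orderOf_dvd_of_pow_eq_one hun)
    rw [← hords]
    apply orderOf_dvd_of_pow_eq_one
    obtain ⟨g', hg', h⟩ := coset_pow G S hnorm hsS hga (orderOf u)
    rw [← hxa, pow_orderOf_eq_one] at h
    have h1 : s ^ orderOf u = g'⁻¹ := eq_inv_of_mul_eq_one_right h.symm
    have h2 : s ^ orderOf u ∈ G ⊓ S := ⟨by rw [h1]; exact G.inv_mem hg', S.pow_mem hsS _⟩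
    rw [hdisj, Subgroup.mem_bot] at h2
    exact h2
  -- Schur–Zassenhaus conjugacy
  have hB : Subgroup.zpowers u ≤ G ⊔ S := by
    rw [Subgroup.zpowers_le, hxa]
    exact (G ⊔ S).mul_mem (le_sup_left (a := G) hga) (le_sup_right (b := S) hsS)
  have hBcard : Nat.card (Subgroup.zpowers u) = Nat.card S := by rw [Nat.card_zpowers, hordu]
  obtain ⟨k, hk, hkS⟩ := sz_rel_conj S G (Subgroup.zpowers u) (le_normalizer_of_hnorm G S hnorm)
    hcop.symm (Or.inl (isSolvable_of_zpowers S hs)) hB hBcard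
  have huB : u ∈ S.map (MulAut.conj k).toMonoidHom := by
    rw [hkS]; exact Subgroup.mem_zpowers u
  obtain ⟨t, ht, htu⟩ := huB
  have htu' : k * t * k⁻¹ = u := by simpa using htu
  have hts : t = s := by
    have h1 : t = k⁻¹ * u * k := by rw [← htu']; group
    have h2 : t * s⁻¹ ∈ G := by
      rw [h1, hxa]
      have : k⁻¹ * (ga * s) * k * s⁻¹ = k⁻¹ * ga * (s * k * s⁻¹) := by group
      rw [this]
      exact G.mul_mem (G.mul_mem (G.inv_mem hk) hga) (hnorm s hsS k hk)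
    have h3 : t * s⁻¹ ∈ G ⊓ S := ⟨h2, S.mul_mem ht (S.inv_mem hsS)⟩
    rw [hdisj, Subgroup.mem_bot] at h3
    exact mul_inv_eq_one.mp h3
  rw [hts] at htu'
  refine ⟨k, hk, k⁻¹ * v * k, ⟨G.mul_mem (G.mul_mem (G.inv_mem hk) hvG) hk, ?_⟩, ?_⟩
  · apply mem_centralizer_of_commute S hs
    have huv : u * v = v * u := by rw [hu, hv, ← pow_add, ← pow_add, add_comm]
    have hs' : s = k⁻¹ * u * k := by rw [← htu']; group
    rw [hs']
    calc k⁻¹ * v * k * (k⁻¹ * u * k) = k⁻¹ * (v * u) * k := by group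
      _ = k⁻¹ * (u * v) * k := by rw [huv]
      _ = k⁻¹ * u * k * (k⁻¹ * v * k) := by group
  · have huv : u * v = v * u := by rw [hu, hv, ← pow_add, ← pow_add, add_comm]
    have hs' : s = k⁻¹ * u * k := by rw [← htu']; group
    rw [hxuv, huv]
    conv_rhs => rw [hs']
    group

omit [Finite Γ] in
/-- If `k (c s) k⁻¹ = c' s` with `c, c' ∈ C_G(S)` and `k ∈ G`, then `k` centralizes `S` and
`k c k⁻¹ = c'`. -/
theorem conj_mul_eq (hcop : (Nat.card G).Coprime (Nat.card S)) {s : Γ}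
    (hs : Subgroup.zpowers s = S) {c c' k : Γ}
    (hc : c ∈ G ⊓ Subgroup.centralizer (S : Set Γ))
    (hc' : c' ∈ G ⊓ Subgroup.centralizer (S : Set Γ))
    (h : k * (c * s) * k⁻¹ = c' * s) :
    k ∈ Subgroup.centralizer (S : Set Γ) ∧ k * c * k⁻¹ = c' := by
  have hsS : s ∈ S := hs ▸ Subgroup.mem_zpowers s
  obtain ⟨a, b, ha1, hNa, hnb, hb1, hab⟩ := exists_crt_exponents (Nat.card G) (Nat.card S) hcop
  have hGpow : ∀ y ∈ G, y ^ Nat.card G = 1 := fun y hy => pow_card_of_mem G hy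
  have hSpow : ∀ t ∈ S, t ^ Nat.card S = 1 := fun y hy => pow_card_of_mem S hy
  have hpa : ∀ d ∈ G ⊓ Subgroup.centralizer (S : Set Γ), (d * s) ^ a = s := by
    intro d hd
    have hcomm : Commute d s := ((Subgroup.mem_centralizer_iff.mp hd.2) s hsS).symm
    rw [hcomm.mul_pow, pow_eq_one_of_dvd (hGpow d hd.1) hNa, one_mul,
      pow_eq_self_of_modEq (hSpow s hsS) ha1]
  have hpb : ∀ d ∈ G ⊓ Subgroup.centralizer (S : Set Γ), (d * s) ^ b = d := by
    intro d hd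
    have hcomm : Commute d s := ((Subgroup.mem_centralizer_iff.mp hd.2) s hsS).symm
    rw [hcomm.mul_pow, pow_eq_one_of_dvd (hSpow s hsS) hnb, mul_one,
      pow_eq_self_of_modEq (hGpow d hd.1) hb1]
  have h1 : k * s * k⁻¹ = s := by
    have := congrArg (· ^ a) h
    simp only [conj_pow, hpa c hc, hpa c' hc'] at this
    exact this
  have h2 : k * c * k⁻¹ = c' := by
    have := congrArg (· ^ b) h
    simp only [conj_pow, hpb c hc, hpb c' hc'] at this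
    exact this
  refine ⟨mem_centralizer_of_commute S hs ?_, h2⟩
  calc k * s = k * s * k⁻¹ * k := by group
    _ = s * k := by rw [h1]

/-- The counting formula on the coset `G s`: `|C| ∑_{g ∈ G} F (g s) = |G| ∑_{c ∈ C} F (c s)` for
any `G`-conjugation invariant `F`. -/
theorem sum_coset_eq (hnorm : ∀ t ∈ S, ∀ g ∈ G, t * g * t⁻¹ ∈ G)
    (hcop : (Nat.card G).Coprime (Nat.card S)) {s : Γ} (hs : Subgroup.zpowers s = S)
    (C : Subgroup Γ) (hC : C = G ⊓ Subgroup.centralizer (S : Set Γ))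
    [Fintype G] [Fintype C]
    (F : Γ → ℂ) (hF : ∀ k ∈ G, ∀ x : Γ, F (k * x * k⁻¹) = F x) :
    (Nat.card C : ℂ) * ∑ g : G, F ((g : Γ) * s) =
      (Nat.card G : ℂ) * ∑ c : C, F ((c : Γ) * s) := by
  classical
  have hsS : s ∈ S := hs ▸ Subgroup.mem_zpowers s
  have hCm : ∀ c : C, (c : Γ) ∈ G ⊓ Subgroup.centralizer (S : Set Γ) := fun c => by
    rw [← hC]; exact c.2
  have hCG : ∀ c : C, (c : Γ) ∈ G := fun c => (hCm c).1
  have hmemC : ∀ y : Γ, y ∈ G ⊓ Subgroup.centralizer (S : Set Γ) → y ∈ C := fun y hy => by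
    rw [hC]; exact hy
  let φ : G × C → G := fun p =>
    ⟨(p.1 : Γ) * (p.2 : Γ) * s * (p.1 : Γ)⁻¹ * s⁻¹, by
      have h1 : (p.1 : Γ) * (p.2 : Γ) * s * (p.1 : Γ)⁻¹ * s⁻¹ =
          ((p.1 : Γ) * (p.2 : Γ)) * (s * (p.1 : Γ)⁻¹ * s⁻¹) := by group
      rw [h1]
      exact G.mul_mem (G.mul_mem p.1.2 (hCG p.2)) (hnorm s hsS _ (G.inv_mem p.1.2))⟩
  have hφ : ∀ p : G × C, ((φ p : G) : Γ) * s = (p.1 : Γ) * ((p.2 : Γ) * s) * (p.1 : Γ)⁻¹ := by
    intro p
    show (p.1 : Γ) * (p.2 : Γ) * s * (p.1 : Γ)⁻¹ * s⁻¹ * s = _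
    group
  have h1 : ∑ p : G × C, F (((φ p : G) : Γ) * s) = (Nat.card G : ℂ) * ∑ c : C, F ((c : Γ) * s) := by
    rw [Fintype.sum_prod_type]
    simp_rw [hφ, hF _ (Subtype.property _)]
    rw [Finset.sum_const, Finset.card_univ, nsmul_eq_mul, Nat.card_eq_fintype_card]
  have hfib : ∀ g : G, (Finset.univ.filter (fun p : G × C => φ p = g)).card = Fintype.card C := by
    intro g
    obtain ⟨k₀, hk₀, c₀, hc₀', hkc⟩ := exists_conj_eq_mul G S hnorm hcop hs g.2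
    have hc₀ : c₀ ∈ C := hmemC _ hc₀'
    have hkc' : (g : Γ) * s = k₀ * (c₀ * s) * k₀⁻¹ := by rw [← hkc]; group
    let ι : C → G × C := fun u => (⟨k₀ * (u : Γ), G.mul_mem hk₀ (hCG u)⟩,
      ⟨(u : Γ)⁻¹ * c₀ * (u : Γ), C.mul_mem (C.mul_mem (C.inv_mem u.2) hc₀) u.2⟩)
    have hι : Function.Injective ι := by
      intro u u' h
      have := congrArg (fun p : G × C => ((p.1 : G) : Γ)) h
      simp only [ι] at this
      exact Subtype.ext (mul_left_cancel this)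
    have himg : Finset.univ.filter (fun p : G × C => φ p = g) = Finset.univ.image ι := by
      ext p
      simp only [Finset.mem_filter, Finset.mem_univ, true_and, Finset.mem_image]
      constructor
      · intro hp
        have h2 : (p.1 : Γ) * ((p.2 : Γ) * s) * (p.1 : Γ)⁻¹ = k₀ * (c₀ * s) * k₀⁻¹ := by
          rw [← hφ, hp, hkc']
        have h3 : (k₀⁻¹ * (p.1 : Γ)) * ((p.2 : Γ) * s) * (k₀⁻¹ * (p.1 : Γ))⁻¹ = c₀ * s := by
          have : (k₀⁻¹ * (p.1 : Γ)) * ((p.2 : Γ) * s) * (k₀⁻¹ * (p.1 : Γ))⁻¹ =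
              k₀⁻¹ * ((p.1 : Γ) * ((p.2 : Γ) * s) * (p.1 : Γ)⁻¹) * k₀ := by group
          rw [this, h2]; group
        obtain ⟨h4, h5⟩ := conj_mul_eq G S hcop hs (hCm p.2) hc₀' h3
        refine ⟨⟨k₀⁻¹ * (p.1 : Γ), hmemC _ ⟨G.mul_mem (G.inv_mem hk₀) p.1.2, h4⟩⟩, ?_⟩
        apply Prod.ext
        · apply Subtype.ext
          show k₀ * (k₀⁻¹ * (p.1 : Γ)) = (p.1 : Γ)
          group
        · apply Subtype.ext
          show (k₀⁻¹ * (p.1 : Γ))⁻¹ * c₀ * (k₀⁻¹ * (p.1 : Γ)) = (p.2 : Γ)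
          rw [← h5]; group
      · rintro ⟨u, rfl⟩
        apply Subtype.ext
        have hus : (u : Γ) * s = s * (u : Γ) :=
          ((Subgroup.mem_centralizer_iff.mp (hCm u).2) s hsS).symm
        have : ((φ (ι u) : G) : Γ) * s = (g : Γ) * s := by
          rw [hφ, hkc']
          show k₀ * (u : Γ) * ((u : Γ)⁻¹ * c₀ * (u : Γ) * s) * (k₀ * (u : Γ))⁻¹ = _
          calc k₀ * (u : Γ) * ((u : Γ)⁻¹ * c₀ * (u : Γ) * s) * (k₀ * (u : Γ))⁻¹
              = k₀ * c₀ * ((u : Γ) * s) * (u : Γ)⁻¹ * k₀⁻¹ := by group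
            _ = k₀ * c₀ * (s * (u : Γ)) * (u : Γ)⁻¹ * k₀⁻¹ := by rw [hus]
            _ = k₀ * (c₀ * s) * k₀⁻¹ := by group
        exact mul_right_cancel this
    rw [himg, Finset.card_image_of_injective _ hι, Finset.card_univ]
  have h2 : ∑ p : G × C, F (((φ p : G) : Γ) * s) = (Nat.card C : ℂ) * ∑ g : G, F ((g : Γ) * s) := by
    rw [← Finset.sum_fiberwise (s := Finset.univ) (g := φ)]
    rw [Finset.mul_sum]
    apply Finset.sum_congr rfl
    intro g _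
    rw [Finset.sum_congr rfl (fun p hp => by rw [(Finset.mem_filter.mp hp).2] :
      ∀ p ∈ Finset.univ.filter (fun p : G × C => φ p = g), F (((φ p : G) : Γ) * s) = F ((g : Γ) * s))]
    rw [Finset.sum_const, hfib, nsmul_eq_mul, Nat.card_eq_fintype_card]
  exact h2.symm.trans h1

omit [Finite Γ] in
/-- Exponents extracting the `S`-part and the `G`-part of `d s`, `d ∈ C_G(S)`. -/
theorem exists_pow_eq (hcop : (Nat.card G).Coprime (Nat.card S)) {s : Γ}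
    (hs : Subgroup.zpowers s = S) :
    ∃ a b : ℕ, ∀ d ∈ G ⊓ Subgroup.centralizer (S : Set Γ), (d * s) ^ a = s ∧ (d * s) ^ b = d := by
  have hsS : s ∈ S := hs ▸ Subgroup.mem_zpowers s
  obtain ⟨a, b, ha1, hNa, hnb, hb1, hab⟩ := exists_crt_exponents (Nat.card G) (Nat.card S) hcop
  refine ⟨a, b, fun d hd => ?_⟩
  have hcomm : Commute d s := ((Subgroup.mem_centralizer_iff.mp hd.2) s hsS).symm
  constructor
  · rw [hcomm.mul_pow, pow_eq_one_of_dvd (pow_card_of_mem G hd.1) hNa, one_mul,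
      pow_eq_self_of_modEq (pow_card_of_mem S hsS) ha1]
  · rw [hcomm.mul_pow, pow_eq_one_of_dvd (pow_card_of_mem S hsS) hnb, mul_one,
      pow_eq_self_of_modEq (pow_card_of_mem G hd.1) hb1]

/-- An `s`-invariant class of `G` meets `C_G(S)`. -/
theorem exists_conj_mem_of_isConj (hnorm : ∀ t ∈ S, ∀ g ∈ G, t * g * t⁻¹ ∈ G)
    (hcop : (Nat.card G).Coprime (Nat.card S)) {s : Γ} (hs : Subgroup.zpowers s = S)
    {g h : Γ} (hg : g ∈ G) (hh : h ∈ G) (hconj : s * g * s⁻¹ = h * g * h⁻¹) :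
    ∃ k ∈ G, k⁻¹ * g * k ∈ G ⊓ Subgroup.centralizer (S : Set Γ) := by
  obtain ⟨k, hk, c, hc, hkc⟩ := exists_conj_eq_mul G S hnorm hcop hs (G.inv_mem hh)
  obtain ⟨a, b, hab⟩ := exists_pow_eq G S hcop hs
  refine ⟨k, hk, G.mul_mem (G.mul_mem (G.inv_mem hk) hg) hk, ?_⟩
  apply mem_centralizer_of_commute S hs
  have hx : (h⁻¹ * s) * g * (h⁻¹ * s)⁻¹ = g := by
    have : (h⁻¹ * s) * g * (h⁻¹ * s)⁻¹ = h⁻¹ * (s * g * s⁻¹) * h := by group
    rw [this, hconj]; group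
  have h1 : Commute (c * s) (k⁻¹ * g * k) := by
    show c * s * (k⁻¹ * g * k) = k⁻¹ * g * k * (c * s)
    rw [← hkc]
    have h2 : (h⁻¹ * s) * g = g * (h⁻¹ * s) := by
      calc (h⁻¹ * s) * g = (h⁻¹ * s) * g * (h⁻¹ * s)⁻¹ * (h⁻¹ * s) := by group
        _ = g * (h⁻¹ * s) := by rw [hx]
    calc k⁻¹ * (h⁻¹ * s) * k * (k⁻¹ * g * k) = k⁻¹ * ((h⁻¹ * s) * g) * k := by group
      _ = k⁻¹ * (g * (h⁻¹ * s)) * k := by rw [h2]
      _ = k⁻¹ * g * k * (k⁻¹ * (h⁻¹ * s) * k) := by group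
  have h3 := h1.pow_left a
  rw [(hab c hc).1] at h3
  exact h3.eq.symm

/-- `G`-conjugate elements of `C_G(S)` are conjugate under `C_G(S)`. -/
theorem conj_in_centralizer (hnorm : ∀ t ∈ S, ∀ g ∈ G, t * g * t⁻¹ ∈ G)
    (hcop : (Nat.card G).Coprime (Nat.card S)) (hsolv : Group.IsSolvable S)
    {c₁ c₂ h : Γ} (hc₁ : c₁ ∈ G ⊓ Subgroup.centralizer (S : Set Γ))
    (hc₂ : c₂ ∈ G ⊓ Subgroup.centralizer (S : Set Γ)) (hh : h ∈ G)
    (hconj : h * c₁ * h⁻¹ = c₂) :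
    ∃ k ∈ G ⊓ Subgroup.centralizer (S : Set Γ), k * c₁ * k⁻¹ = c₂ := by
  set D : Subgroup Γ := G ⊓ Subgroup.centralizer ({c₁} : Set Γ) with hD
  have hcomm₁ : ∀ t ∈ S, t * c₁ = c₁ * t := fun t ht =>
    (Subgroup.mem_centralizer_iff.mp hc₁.2) t ht
  have hcomm₂ : ∀ t ∈ S, t * c₂ = c₂ * t := fun t ht =>
    (Subgroup.mem_centralizer_iff.mp hc₂.2) t ht
  have hnormD : ∀ t ∈ S, ∀ d ∈ D, t * d * t⁻¹ ∈ D := by
    intro t ht d hd
    refine Subgroup.mem_inf.mpr ⟨hnorm t ht d hd.1, ?_⟩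
    rw [Subgroup.mem_centralizer_singleton_iff]
    have hd2 : d * c₁ = c₁ * d := (Subgroup.mem_centralizer_singleton_iff.mp hd.2)
    have ht1 : t⁻¹ * c₁ = c₁ * t⁻¹ := hcomm₁ _ (S.inv_mem ht)
    calc t * d * t⁻¹ * c₁ = t * d * (t⁻¹ * c₁) := by group
      _ = t * d * (c₁ * t⁻¹) := by rw [ht1]
      _ = t * (d * c₁) * t⁻¹ := by group
      _ = t * (c₁ * d) * t⁻¹ := by rw [hd2]
      _ = (t * c₁) * d * t⁻¹ := by group
      _ = (c₁ * t) * d * t⁻¹ := by rw [hcomm₁ t ht]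
      _ = c₁ * (t * d * t⁻¹) := by group
  have hcopD : (Nat.card S).Coprime (Nat.card D) :=
    Nat.Coprime.coprime_dvd_right (Subgroup.card_dvd_of_le inf_le_left) hcop.symm
  have hfix : ∀ a ∈ S, h⁻¹ * (a * h * a⁻¹) ∈ D := by
    intro a ha
    refine Subgroup.mem_inf.mpr ⟨G.mul_mem (G.inv_mem hh) (hnorm a ha h hh), ?_⟩
    rw [Subgroup.mem_centralizer_singleton_iff]
    have ha1 : a⁻¹ * c₁ = c₁ * a⁻¹ := hcomm₁ _ (S.inv_mem ha)
    have hc2 : h * c₁ = c₂ * h := by rw [← hconj]; group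
    have hc2' : h⁻¹ * c₂ = c₁ * h⁻¹ := by rw [← hconj]; group
    calc h⁻¹ * (a * h * a⁻¹) * c₁ = h⁻¹ * a * h * (a⁻¹ * c₁) := by group
      _ = h⁻¹ * a * h * (c₁ * a⁻¹) := by rw [ha1]
      _ = h⁻¹ * a * (h * c₁) * a⁻¹ := by group
      _ = h⁻¹ * a * (c₂ * h) * a⁻¹ := by rw [hc2]
      _ = h⁻¹ * (a * c₂) * h * a⁻¹ := by group
      _ = h⁻¹ * (c₂ * a) * h * a⁻¹ := by rw [hcomm₂ a ha]
      _ = (h⁻¹ * c₂) * a * h * a⁻¹ := by group
      _ = (c₁ * h⁻¹) * a * h * a⁻¹ := by rw [hc2']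
      _ = c₁ * (h⁻¹ * (a * h * a⁻¹)) := by group
  obtain ⟨d, hd, hdfix⟩ := exists_fixed_in_coset S D (le_normalizer_of_hnorm D S hnormD) hcopD
    (Or.inl hsolv) h hfix
  refine ⟨h * d, Subgroup.mem_inf.mpr ⟨G.mul_mem hh hd.1, ?_⟩, ?_⟩
  · rw [Subgroup.mem_centralizer_iff]
    intro t ht
    exact hdfix t ht
  · have hd2 : d * c₁ = c₁ * d := (Subgroup.mem_centralizer_singleton_iff.mp hd.2)
    calc h * d * c₁ * (h * d)⁻¹ = h * (d * c₁) * d⁻¹ * h⁻¹ := by group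
      _ = h * (c₁ * d) * d⁻¹ * h⁻¹ := by rw [hd2]
      _ = h * c₁ * h⁻¹ := by group
      _ = c₂ := hconj

/-- The `s`-invariant conjugacy classes of `G` correspond bijectively to the classes of
`C = C_G(S)`. -/
theorem card_fixed_classes (hnorm : ∀ t ∈ S, ∀ g ∈ G, t * g * t⁻¹ ∈ G)
    (hcop : (Nat.card G).Coprime (Nat.card S)) {s : Γ} (hs : Subgroup.zpowers s = S)
    (α : G ≃* G) (hα : ∀ g : G, ((α g : G) : Γ) = s * g * s⁻¹)
    (C : Subgroup Γ) (hC : C = G ⊓ Subgroup.centralizer (S : Set Γ)) :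
    Nat.card {K : ConjClasses G // ConjClasses.map α.toMonoidHom K = K} =
      Nat.card (ConjClasses C) := by
  have hsS : s ∈ S := hs ▸ Subgroup.mem_zpowers s
  have hCm : ∀ c : C, (c : Γ) ∈ G ⊓ Subgroup.centralizer (S : Set Γ) := fun c => by
    rw [← hC]; exact c.2
  have hmemC : ∀ y : Γ, y ∈ G ⊓ Subgroup.centralizer (S : Set Γ) → y ∈ C := fun y hy => by
    rw [hC]; exact hy
  have hCG : C ≤ G := by rw [hC]; exact inf_le_left
  let ι : C →* G := Subgroup.inclusion hCG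
  have hfixed : ∀ K : ConjClasses C,
      ConjClasses.map α.toMonoidHom (ConjClasses.map ι K) = ConjClasses.map ι K := by
    intro K
    obtain ⟨c, rfl⟩ := ConjClasses.mk_surjective K
    rw [conjClasses_map_mk, conjClasses_map_mk]
    congr 1
    apply Subtype.ext
    rw [MulEquiv.coe_toMonoidHom, hα]
    show s * (c : Γ) * s⁻¹ = (c : Γ)
    have := (Subgroup.mem_centralizer_iff.mp (hCm c).2) s hsS
    rw [this]; group
  let f : ConjClasses C → {K : ConjClasses G // ConjClasses.map α.toMonoidHom K = K} :=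
    fun K => ⟨ConjClasses.map ι K, hfixed K⟩
  have hinj : Function.Injective f := by
    intro K₁ K₂ h
    have h' : ConjClasses.map ι K₁ = ConjClasses.map ι K₂ := congrArg Subtype.val h
    obtain ⟨c₁, rfl⟩ := ConjClasses.mk_surjective K₁
    obtain ⟨c₂, rfl⟩ := ConjClasses.mk_surjective K₂
    rw [conjClasses_map_mk, conjClasses_map_mk, ConjClasses.mk_eq_mk_iff_isConj,
      isConj_iff] at h'
    obtain ⟨x, hx⟩ := h'
    have hx' : (x : Γ) * (c₁ : Γ) * (x : Γ)⁻¹ = (c₂ : Γ) := congrArg Subtype.val hx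
    obtain ⟨k, hk, hkc⟩ := conj_in_centralizer G S hnorm hcop (isSolvable_of_zpowers S hs)
      (hCm c₁) (hCm c₂) x.2 hx'
    rw [ConjClasses.mk_eq_mk_iff_isConj, isConj_iff]
    exact ⟨⟨k, hmemC k hk⟩, Subtype.ext hkc⟩
  have hsurj : Function.Surjective f := by
    rintro ⟨K, hK⟩
    obtain ⟨g, rfl⟩ := ConjClasses.mk_surjective K
    rw [conjClasses_map_mk, ConjClasses.mk_eq_mk_iff_isConj, isConj_iff] at hK
    obtain ⟨x, hx⟩ := hK
    have hx' : (x : Γ) * (s * (g : Γ) * s⁻¹) * (x : Γ)⁻¹ = (g : Γ) := by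
      have := congrArg Subtype.val hx
      simpa [hα] using this
    have hconj : s * (g : Γ) * s⁻¹ = (x : Γ)⁻¹ * (g : Γ) * ((x : Γ)⁻¹)⁻¹ := by
      calc s * (g : Γ) * s⁻¹ = (x : Γ)⁻¹ * ((x : Γ) * (s * (g : Γ) * s⁻¹) * (x : Γ)⁻¹) * (x : Γ) := by
            group
        _ = (x : Γ)⁻¹ * (g : Γ) * (x : Γ) := by rw [hx']
        _ = (x : Γ)⁻¹ * (g : Γ) * ((x : Γ)⁻¹)⁻¹ := by group
    obtain ⟨k, hk, hkC⟩ := exists_conj_mem_of_isConj G S hnorm hcop hs g.2 (G.inv_mem x.2) hconj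
    refine ⟨ConjClasses.mk ⟨k⁻¹ * (g : Γ) * k, hmemC _ hkC⟩, ?_⟩
    apply Subtype.ext
    show ConjClasses.map ι (ConjClasses.mk _) = ConjClasses.mk g
    rw [conjClasses_map_mk, ConjClasses.mk_eq_mk_iff_isConj, isConj_iff]
    refine ⟨⟨k, hk⟩, ?_⟩
    apply Subtype.ext
    show k * (k⁻¹ * (g : Γ) * k) * k⁻¹ = (g : Γ)
    group
  exact (Nat.card_congr (Equiv.ofBijective f ⟨hinj, hsurj⟩)).symm

end Coset

end Cfsg.Agent.Lib.Helper75_CosetConj
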