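import Cfsg.Agent.Lib.Helper3_CharGaloisAct
import Cfsg.Agent.Lib.Helper3_CharColumn
import Cfsg.Agent.Lib.Helper78_CentralChar
import Cfsg.Agent.Lib.Helper75_CharArith

/-!
# Galois conjugates of irreducible characters are irreducible (helper75)

`isIrrCharacter_powMap`: for `χ ∈ Irr G` and `k` coprime to `|G|`, `g ↦ χ (g ^ k)` is again an
irreducible character.  The proof uses the functional equation
`∑ₓ χ(g · x h x⁻¹) · χ(1) = |G| χ(g) χ(h)`, which characterises the scalar multiples of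
irreducible characters among class functions and is preserved by field automorphisms.
-/

set_option autoImplicit false
open scoped ComplexConjugate

namespace Cfsg.Agent.Lib.Helper75_GalConj

open Cfsg.Agent.Lib.Helper3_CharBridge Cfsg.Agent.Lib.Helper3_CharOrtho
  Cfsg.Agent.Lib.Helper3_CharComplete Cfsg.Agent.Lib.Helper75_CharArith
  Cfsg.Agent.Lib.Helper3_CharGaloisAct

variable {G : Type*} [Group G] [Fintype G]

/-- The functional equation of an irreducible character (division free). -/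
theorem irr_functional_eq {χ : G → ℂ} (hχ : Cfsg.IsIrrCharacter G χ) (g h : G) :
    (∑ x : G, χ (g * (x * h * x⁻¹))) * χ 1 = (Nat.card G : ℂ) * χ g * χ h := by
  have h1 : χ 1 ≠ 0 := Cfsg.Agent.Lib.Helper78_CentralChar.isIrrCharacter_one_ne_zero hχ
  obtain ⟨n, ρ, hirr, rfl⟩ := hχ
  have := hirr
  rw [Cfsg.Agent.Lib.Helper78_CentralChar.sum_character_mul_conj ρ g h]
  field_simp

/-- The functional equation is preserved by the Galois action `χ ↦ (g ↦ χ (g ^ m))`. -/
theorem powMap_functional_eq {d : ℕ} (ρ : Representation ℂ G (Fin d → ℂ)) [ρ.IsIrreducible]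
    (m : ℕ) (hm : m.Coprime (Nat.card G)) (g h : G) :
    (∑ x : G, ρ.character ((g * (x * h * x⁻¹)) ^ m)) * ρ.character ((1 : G) ^ m) =
      (Nat.card G : ℂ) * ρ.character (g ^ m) * ρ.character (h ^ m) := by
  have : NeZero (Nat.card G) := ⟨Nat.card_pos.ne'⟩
  obtain ⟨σ, hσ⟩ := exists_aut_pow (Nat.card G) m hm
  have hirr : Cfsg.IsIrrCharacter G ρ.character := isIrrCharacter_of_rep ρ
  have h0 := irr_functional_eq hirr g h
  -- the identity in the cyclotomic field
  have hK : (∑ x : G, charK ρ (g * (x * h * x⁻¹))) * charK ρ 1 =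
      (Nat.card G : cyc (Nat.card G)) * charK ρ g * charK ρ h := by
    apply (algebraMap (cyc (Nat.card G)) ℂ).injective
    have hφ : ∀ x : cyc (Nat.card G), algebraMap (cyc (Nat.card G)) ℂ x = (x : ℂ) := fun x => rfl
    rw [map_mul, map_sum, map_mul, map_mul, map_natCast]
    simp only [hφ, coe_charK]
    exact h0
  have hK' := congrArg (fun z => ((σ z : cyc (Nat.card G)) : ℂ)) hK
  have hφ : ∀ x : cyc (Nat.card G), (x : ℂ) = algebraMap (cyc (Nat.card G)) ℂ x := fun x => rfl
  rw [map_mul, map_sum, map_mul, map_mul, map_natCast] at hK'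
  rw [hφ, hφ, map_mul, map_sum, map_mul, map_mul, map_natCast] at hK'
  simp only [← hφ, coe_aut_charK ρ _ σ m hσ] at hK'
  exact hK'

/-- A class function with `f 1 ≠ 0` satisfying the functional equation is a scalar multiple of an
irreducible character. -/
theorem eq_smul_irr_of_functional_eq {f : G → ℂ} (hf : Cfsg.IsClassFunction G f) (hf1 : f 1 ≠ 0)
    (hfe : ∀ g h : G, (∑ x : G, f (g * (x * h * x⁻¹))) * f 1 = (Nat.card G : ℂ) * f g * f h) :
    ∃ ψ : Cfsg.IrrCharacter G, ∀ h : G, f h * (ψ : G → ℂ) 1 = f 1 * (ψ : G → ℂ) h := by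
  classical
  have hG : (Nat.card G : ℂ) ≠ 0 := by
    rw [Nat.cast_ne_zero]; exact Nat.card_pos.ne'
  have hexp := classFunction_eq_sum f hf
  -- some coefficient is non-zero
  have hex : ∃ ψ : Cfsg.IrrCharacter G, Cfsg.classInner f (ψ : G → ℂ) ≠ 0 := by
    by_contra hcon
    push Not at hcon
    apply hf1
    rw [hexp]
    simp [hcon]
  obtain ⟨ψ, hψ⟩ := hex
  refine ⟨ψ, fun h => ?_⟩
  have hψ1 : (ψ : G → ℂ) 1 ≠ 0 :=
    Cfsg.Agent.Lib.Helper78_CentralChar.isIrrCharacter_one_ne_zero ψ.2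
  -- the function `g ↦ ∑ₓ f (g · x h x⁻¹)` computed in two ways
  set Φ : G → ℂ := fun g => ∑ x : G, f (g * (x * h * x⁻¹)) with hΦ
  have e1 : Φ = ((Nat.card G : ℂ) * f h / f 1) • f := by
    funext g
    have := hfe g h
    simp only [hΦ, Pi.smul_apply, smul_eq_mul]
    field_simp
    rw [this]
    ring
  have e2 : Φ = ∑ ξ : Cfsg.IrrCharacter G,
      (Cfsg.classInner f (ξ : G → ℂ) * ((Nat.card G : ℂ) * (ξ : G → ℂ) h / (ξ : G → ℂ) 1)) •
        (ξ : G → ℂ) := by
    funext g
    simp only [hΦ]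
    have h1 : ∀ y : G, f y = ∑ ξ : Cfsg.IrrCharacter G,
        Cfsg.classInner f (ξ : G → ℂ) * (ξ : G → ℂ) y := by
      intro y
      conv_lhs => rw [hexp]
      simp [Finset.sum_apply]
    simp_rw [h1]
    rw [Finset.sum_comm, Finset.sum_apply]
    refine Finset.sum_congr rfl (fun ξ _ => ?_)
    rw [← Finset.mul_sum]
    have hξ1 : (ξ : G → ℂ) 1 ≠ 0 :=
      Cfsg.Agent.Lib.Helper78_CentralChar.isIrrCharacter_one_ne_zero ξ.2
    have := irr_functional_eq ξ.2 g h
    simp only [Pi.smul_apply, smul_eq_mul]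
    field_simp
    rw [mul_assoc, this]
    ring
  have i1 : Cfsg.classInner Φ (ψ : G → ℂ) =
      ((Nat.card G : ℂ) * f h / f 1) * Cfsg.classInner f (ψ : G → ℂ) := by
    rw [e1, classInner_smul_left]
  have i2 : Cfsg.classInner Φ (ψ : G → ℂ) =
      Cfsg.classInner f (ψ : G → ℂ) * ((Nat.card G : ℂ) * (ψ : G → ℂ) h / (ψ : G → ℂ) 1) := by
    rw [e2, classInner_sum_left, Finset.sum_eq_single ψ]
    · rw [classInner_smul_left, classInner_self_of_isIrrCharacter ψ.2, mul_one]
    · intro ξ _ hne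
      rw [classInner_smul_left, classInner_of_isIrrCharacter_of_ne ξ.2 ψ.2
        (fun h => hne (Subtype.ext h)), mul_zero]
    · intro h; exact absurd (Finset.mem_univ _) h
  rw [i1] at i2
  have i3 : f h / f 1 = (ψ : G → ℂ) h / (ψ : G → ℂ) 1 := by
    have : (Nat.card G : ℂ) * Cfsg.classInner f (ψ : G → ℂ) * (f h / f 1) =
        (Nat.card G : ℂ) * Cfsg.classInner f (ψ : G → ℂ) * ((ψ : G → ℂ) h / (ψ : G → ℂ) 1) := by
      calc _ = (Nat.card G : ℂ) * f h / f 1 * Cfsg.classInner f (ψ : G → ℂ) := by ring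
        _ = _ := by rw [i2]; ring
    exact mul_left_cancel₀ (mul_ne_zero hG hψ) this
  field_simp at i3
  rw [i3]

/-- **Galois conjugates of irreducible characters are irreducible.** -/
theorem isIrrCharacter_powMap {χ : G → ℂ} (hχ : Cfsg.IsIrrCharacter G χ) (k : ℕ)
    (hk : k.Coprime (Nat.card G)) : Cfsg.IsIrrCharacter G (fun g => χ (g ^ k)) := by
  classical
  have hχ' := hχ
  obtain ⟨d, ρ, hirr, rfl⟩ := hχ
  have := hirr
  set f : G → ℂ := fun g => ρ.character (g ^ k) with hf
  have hcl : Cfsg.IsClassFunction G f := by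
    intro g x
    simp only [hf]
    rw [conj_pow]
    exact Representation.char_conj ρ _ _
  have hf1 : f 1 = ρ.character 1 := by simp [hf]
  have hf1' : f 1 ≠ 0 := by
    rw [hf1]; exact Cfsg.Agent.Lib.Helper78_CentralChar.isIrrCharacter_one_ne_zero hχ'
  have hfe : ∀ g h : G, (∑ x : G, f (g * (x * h * x⁻¹))) * f 1 =
      (Nat.card G : ℂ) * f g * f h := fun g h => powMap_functional_eq ρ k hk g h
  obtain ⟨ψ, hψ⟩ := eq_smul_irr_of_functional_eq hcl hf1' hfe
  -- norms
  have hnorm : Cfsg.classInner f f = 1 := by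
    rw [← classInner_self_of_isIrrCharacter hχ']
    unfold Cfsg.classInner
    congr 1
    exact Fintype.sum_equiv (powCoprime hk.symm) _ _ (fun g => by simp [hf, powCoprime_apply])
  obtain ⟨a, ha, ha1⟩ := Cfsg.Agent.Lib.Helper3_CharColumn.irr_one_eq_natCast hχ'
  obtain ⟨b, hb, hb1⟩ := Cfsg.Agent.Lib.Helper3_CharColumn.irr_one_eq_natCast ψ.2
  have hbC : (b : ℂ) ≠ 0 := by exact_mod_cast hb.ne'
  have hfψ : f = ((a : ℂ) / (b : ℂ)) • (ψ : G → ℂ) := by
    funext h
    have := hψ h
    rw [hf1, ha1, hb1] at this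
    simp only [Pi.smul_apply, smul_eq_mul]
    field_simp
    exact this
  rw [hfψ, classInner_smul_left, classInner_smul_right, classInner_self_of_isIrrCharacter ψ.2,
    mul_one] at hnorm
  have hab : a = b := by
    have h1 : ((a : ℂ) / (b : ℂ)) * conj ((a : ℂ) / (b : ℂ)) = ((a * a : ℕ) : ℂ) / ((b * b : ℕ) : ℂ) := by
      rw [map_div₀, Complex.conj_natCast, Complex.conj_natCast]
      push_cast
      field_simp
    rw [h1] at hnorm
    have hbb : ((b * b : ℕ) : ℂ) ≠ 0 := by
      push_cast; exact mul_ne_zero hbC hbC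
    rw [div_eq_one_iff_eq hbb] at hnorm
    have h2 : a * a = b * b := by exact_mod_cast hnorm
    exact Nat.mul_self_inj.mp h2
  rw [hab, div_self hbC, one_smul] at hfψ
  rw [hfψ]
  exact ψ.2

end Cfsg.Agent.Lib.Helper75_GalConj
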