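import Mathlib
import Cfsg.Prelude.Def_Characters

set_option autoImplicit false

namespace Cfsg.Agent.Lib.Helper15_Linear

open Cfsg

/-- the trace of an endomorphism of `Fin 1 → ℂ`, as a monoid hom -/
theorem trace_fin_one_mul (f g : (Fin 1 → ℂ) →ₗ[ℂ] (Fin 1 → ℂ)) :
    LinearMap.trace ℂ _ (f * g) = LinearMap.trace ℂ _ f * LinearMap.trace ℂ _ g := by
  rw [LinearMap.trace_eq_matrix_trace ℂ (Pi.basisFun ℂ (Fin 1)),
    LinearMap.trace_eq_matrix_trace ℂ (Pi.basisFun ℂ (Fin 1)) f,
    LinearMap.trace_eq_matrix_trace ℂ (Pi.basisFun ℂ (Fin 1)) g,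
    LinearMap.toMatrix_mul]
  simp [Matrix.trace_fin_one, Matrix.mul_apply]

/-- A character of degree one is multiplicative. -/
theorem linear_mul {G : Type*} [Group G] (lam : G → ℂ) (h : IsCharacter G lam) (h1 : lam 1 = 1)
    (a b : G) : lam (a * b) = lam a * lam b := by
  obtain ⟨n, ρ, rfl⟩ := h
  have hn : n = 1 := by
    have := Representation.char_one ρ
    rw [h1] at this
    simp at this
    exact_mod_cast this.symm
  subst hn
  simp only [Representation.character, map_mul]
  exact trace_fin_one_mul _ _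

/-- A character of degree one, as a monoid hom into `ℂ`. -/
noncomputable def linearHom {G : Type*} [Group G] (lam : G → ℂ) (h : IsCharacter G lam) (h1 : lam 1 = 1) :
    G →* ℂ where
  toFun := lam
  map_one' := h1
  map_mul' := linear_mul lam h h1

@[simp] theorem linearHom_apply {G : Type*} [Group G] (lam : G → ℂ) (h : IsCharacter G lam) (h1 : lam 1 = 1)
    (g : G) : linearHom lam h h1 g = lam g := rfl

theorem linear_ne_zero {G : Type*} [Group G] (lam : G → ℂ) (h : IsCharacter G lam) (h1 : lam 1 = 1)
    (g : G) : lam g ≠ 0 := by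
  intro h0
  have := linear_mul lam h h1 g g⁻¹
  rw [mul_inv_cancel, h1, h0, zero_mul] at this
  exact one_ne_zero this

theorem linear_inv {G : Type*} [Group G] (lam : G → ℂ) (h : IsCharacter G lam) (h1 : lam 1 = 1)
    (g : G) : lam g⁻¹ = (lam g)⁻¹ := by
  have := linear_mul lam h h1 g g⁻¹
  rw [mul_inv_cancel, h1] at this
  exact eq_inv_of_mul_eq_one_right this.symm

/-- Conversely a monoid hom to `ℂ` is a character of degree one. -/
theorem isCharacter_of_hom {G : Type*} [Group G] (f : G →* ℂ) : IsCharacter G (fun g => f g) ∧ f 1 = 1 := by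
  refine ⟨⟨1, ?_, ?_⟩, map_one f⟩
  · exact
      { toFun := fun g => f g • (1 : Module.End ℂ (Fin 1 → ℂ))
        map_one' := by simp
        map_mul' := fun a b => by
          rw [map_mul, smul_mul_smul_comm, mul_one] }
  · funext g
    simp [Representation.character]

end Cfsg.Agent.Lib.Helper15_Linear
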