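import Cfsg.Agent.Lib.Helper75_IndChar

set_option autoImplicit false

namespace Cfsg.Agent.Lib.Helper75_Clifford

open scoped ComplexConjugate
open Cfsg.Agent.Lib.Helper75_Induced Cfsg.Agent.Lib.Helper75_CharArith
  Cfsg.Agent.Lib.Helper75_IndChar
open Cfsg.Agent.Lib.Helper3_CharBridge Cfsg.Agent.Lib.Helper3_CharOrtho
  Cfsg.Agent.Lib.Helper3_CharComplete

variable {G : Type*} [Group G]

/-- The conjugate `χ^g` of a function on a normal subgroup: `n ↦ χ (g n g⁻¹)`. -/
def conjFun (N : Subgroup G) (hN : N.Normal) (χ : N → ℂ) (g : G) : N → ℂ :=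
  fun n => χ ⟨g * n * g⁻¹, hN.conj_mem n n.2 g⟩

theorem conjFun_apply (N : Subgroup G) (hN : N.Normal) (χ : N → ℂ) (g : G) (n : N) :
    conjFun N hN χ g n = χ ⟨g * n * g⁻¹, hN.conj_mem n n.2 g⟩ := rfl

theorem conjFun_eq_comp (N : Subgroup G) (hN : N.Normal) (χ : N → ℂ) (g : G) :
    conjFun N hN χ g = fun n => χ ((MulAut.conjNormal (H := N) g) n) := by
  funext n
  rw [conjFun_apply]
  congr 1

theorem conjFun_one (N : Subgroup G) (hN : N.Normal) (χ : N → ℂ) : conjFun N hN χ 1 = χ := by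
  funext n
  rw [conjFun_apply]
  congr 1
  ext
  simp

theorem conjFun_conjFun (N : Subgroup G) (hN : N.Normal) (χ : N → ℂ) (g h : G) :
    conjFun N hN (conjFun N hN χ g) h = conjFun N hN χ (g * h) := by
  funext n
  rw [conjFun_apply, conjFun_apply, conjFun_apply]
  congr 1
  ext
  simp [mul_assoc]

/-- A class function of `N` is fixed by conjugation with elements of `N`. -/
theorem conjFun_of_mem (N : Subgroup G) (hN : N.Normal) {χ : N → ℂ}
    (hχ : Cfsg.IsClassFunction N χ) (m : N) : conjFun N hN χ (m : G) = χ := by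
  funext n
  rw [conjFun_apply]
  have := hχ n m
  rw [← this]
  congr 1

/-- The restriction to `N` of a class function of `G` is fixed by conjugation. -/
theorem conjFun_restrict (N : Subgroup G) (hN : N.Normal) {θ : G → ℂ}
    (hθ : Cfsg.IsClassFunction G θ) (g : G) :
    conjFun N hN (fun n : N => θ n) g = fun n : N => θ n := by
  funext n
  rw [conjFun_apply]
  exact hθ n g

theorem conjFun_add (N : Subgroup G) (hN : N.Normal) (χ ψ : N → ℂ) (g : G) :
    conjFun N hN (χ + ψ) g = conjFun N hN χ g + conjFun N hN ψ g := rfl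

theorem conjFun_smul (N : Subgroup G) (hN : N.Normal) (c : ℂ) (χ : N → ℂ) (g : G) :
    conjFun N hN (c • χ) g = c • conjFun N hN χ g := rfl

/-- Conjugation preserves inner products. -/
theorem classInner_conjFun (N : Subgroup G) (hN : N.Normal) [Fintype N] (α β : N → ℂ) (g : G) :
    Cfsg.classInner (conjFun N hN α g) (conjFun N hN β g) = Cfsg.classInner α β := by
  unfold Cfsg.classInner
  congr 1
  rw [conjFun_eq_comp, conjFun_eq_comp]
  exact Fintype.sum_equiv (MulAut.conjNormal (H := N) g).toEquiv _ _ (fun n => rfl)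

theorem isCharacter_conjFun (N : Subgroup G) (hN : N.Normal) {χ : N → ℂ}
    (hχ : Cfsg.IsCharacter N χ) (g : G) : Cfsg.IsCharacter N (conjFun N hN χ g) := by
  rw [conjFun_eq_comp]
  exact isCharacter_comp (MulAut.conjNormal (H := N) g).toMonoidHom hχ

theorem isIrrCharacter_conjFun (N : Subgroup G) (hN : N.Normal) [Finite N] {χ : N → ℂ}
    (hχ : Cfsg.IsIrrCharacter N χ) (g : G) : Cfsg.IsIrrCharacter N (conjFun N hN χ g) := by
  have : Fintype N := Fintype.ofFinite N
  apply isIrrCharacter_of_classInner_self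
    (isCharacter_conjFun N hN (isCharacter_of_isIrrCharacter hχ) g)
  rw [classInner_conjFun, classInner_self_of_isIrrCharacter hχ]

theorem isClassFunction_conjFun (N : Subgroup G) (hN : N.Normal) {χ : N → ℂ}
    (hχ : Cfsg.IsClassFunction N χ) (g : G) : Cfsg.IsClassFunction N (conjFun N hN χ g) := by
  intro n m
  rw [conjFun_apply, conjFun_apply]
  have := hχ ⟨g * n * g⁻¹, hN.conj_mem n n.2 g⟩ ⟨g * m * g⁻¹, hN.conj_mem m m.2 g⟩
  rw [← this]
  congr 1
  ext
  simp [mul_assoc]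

/-- The restriction to a normal subgroup `N` of the function induced from `N`. -/
theorem indFun_restrict_normal [Fintype G] (N : Subgroup G) (hN : N.Normal) (χ : N → ℂ) (n : N) :
    Cfsg.indFun N χ (n : G) = (Nat.card N : ℂ)⁻¹ * ∑ x : G, conjFun N hN χ x n := by
  rw [indFun_apply]
  congr 1
  apply Fintype.sum_equiv (Equiv.inv G)
  intro x
  simp only [Equiv.inv_apply]
  rw [conjFun_apply]
  have h : x⁻¹ * (n : G) * x ∈ N := by
    have := hN.conj_mem n n.2 x⁻¹
    rwa [inv_inv] at this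
  rw [extendByZero_of_mem N χ h]
  congr 1
  ext
  simp

/-- The restriction of a function on `G` to a subgroup. -/
def res (N : Subgroup G) (f : G → ℂ) : N → ℂ := fun n => f n

theorem res_apply (N : Subgroup G) (f : G → ℂ) (n : N) : res N f n = f n := rfl

theorem res_sum (N : Subgroup G) {ι : Type*} (s : Finset ι) (f : ι → G → ℂ) :
    res N (∑ i ∈ s, f i) = ∑ i ∈ s, res N (f i) := by
  funext n
  simp [res]

theorem res_smul (N : Subgroup G) (c : ℂ) (f : G → ℂ) : res N (c • f) = c • res N f := rfl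

theorem isCharacter_res (N : Subgroup G) {f : G → ℂ} (hf : Cfsg.IsCharacter G f) :
    Cfsg.IsCharacter N (res N f) := isCharacter_restrict N hf

theorem isClassFunction_res (N : Subgroup G) {f : G → ℂ} (hf : Cfsg.IsClassFunction G f) :
    Cfsg.IsClassFunction N (res N f) := by
  intro n m
  exact hf n m


/-- `(Ind χ)|_N = |N|⁻¹ ∑ₓ χ^x` as functions. -/
theorem res_indFun_normal [Fintype G] (N : Subgroup G) (hN : N.Normal) (χ : N → ℂ) :
    res N (Cfsg.indFun N χ) = (Nat.card N : ℂ)⁻¹ • ∑ x : G, conjFun N hN χ x := by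
  funext n
  rw [res_apply, indFun_restrict_normal N hN χ n]
  simp

/-- `[(Ind χ)|_N, ψ] = |N|⁻¹ ∑ₓ [χ^x, ψ]`. -/
theorem classInner_res_indFun [Fintype G] (N : Subgroup G) (hN : N.Normal) [Fintype N]
    (χ ψ : N → ℂ) :
    Cfsg.classInner (res N (Cfsg.indFun N χ)) ψ =
      (Nat.card N : ℂ)⁻¹ * ∑ x : G, Cfsg.classInner (conjFun N hN χ x) ψ := by
  rw [res_indFun_normal N hN, classInner_smul_left, classInner_sum_left]

/-- Irreducible constituents of `θ|_N` are `G`-conjugate. -/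
theorem exists_conj_of_constituent [Fintype G] (N : Subgroup G) (hN : N.Normal) [Fintype N]
    {θ : G → ℂ} (hθ : Cfsg.IsIrrCharacter G θ) {χ ψ : N → ℂ} (hχ : Cfsg.IsIrrCharacter N χ)
    (hψ : Cfsg.IsIrrCharacter N ψ) (h1 : Cfsg.classInner (res N θ) χ ≠ 0)
    (h2 : Cfsg.classInner (res N θ) ψ ≠ 0) : ∃ g : G, ψ = conjFun N hN χ g := by
  classical
  by_contra hne
  have hne' : ∀ g : G, conjFun N hN χ g ≠ ψ := fun g h => hne ⟨g, h.symm⟩
  -- the induced character and its multiplicities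
  have hΦ : Cfsg.IsCharacter G (Cfsg.indFun N χ) :=
    isCharacter_indFun N (isCharacter_of_isIrrCharacter hχ)
  obtain ⟨a, ha, hsum⟩ := exists_multiplicities hΦ
  have haθ : a ⟨θ, hθ⟩ ≠ 0 := by
    intro h0
    have h3 := ha ⟨θ, hθ⟩
    rw [h0, Nat.cast_zero] at h3
    have h4 : Cfsg.classInner (Cfsg.indFun N χ) θ = 0 := h3
    rw [frobenius_reciprocity N χ θ (isClassFunction_of_isIrrCharacter hθ),
      ← classInner_conj_symm] at h4
    have h5 : Cfsg.classInner (res N θ) χ = 0 := (map_eq_zero _).mp h4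
    exact h1 h5
  -- multiplicities of ψ in restrictions
  have hb : ∀ φ : Cfsg.IrrCharacter G, ∃ n : ℕ, Cfsg.classInner (res N (φ : G → ℂ)) ψ = n :=
    fun φ => classInner_isCharacter_nat (isCharacter_res N (isCharacter_of_isIrrCharacter φ.2))
      (isCharacter_of_isIrrCharacter hψ)
  choose b hb using hb
  -- compute in two ways
  have h3 : Cfsg.classInner (res N (Cfsg.indFun N χ)) ψ = 0 := by
    rw [classInner_res_indFun N hN]
    apply mul_eq_zero_of_right
    apply Finset.sum_eq_zero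
    intro x _
    exact classInner_of_isIrrCharacter_of_ne (isIrrCharacter_conjFun N hN hχ x) hψ (hne' x)
  have h4 : Cfsg.classInner (res N (Cfsg.indFun N χ)) ψ =
      ((∑ φ : Cfsg.IrrCharacter G, a φ * b φ : ℕ) : ℂ) := by
    conv_lhs => rw [hsum]
    rw [res_sum, classInner_sum_left]
    push_cast
    apply Finset.sum_congr rfl
    intro φ _
    rw [res_smul, classInner_smul_left, hb φ]
  rw [h4] at h3
  have h5 : (∑ φ : Cfsg.IrrCharacter G, a φ * b φ) = 0 := by exact_mod_cast h3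
  have h6 : a ⟨θ, hθ⟩ * b ⟨θ, hθ⟩ = 0 :=
    (Finset.sum_eq_zero_iff.mp h5) ⟨θ, hθ⟩ (Finset.mem_univ _)
  have h7 : b ⟨θ, hθ⟩ = 0 := by
    rcases Nat.mul_eq_zero.mp h6 with h | h
    · exact absurd h haθ
    · exact h
  apply h2
  have := hb ⟨θ, hθ⟩
  rw [h7, Nat.cast_zero] at this
  exact this

/-- All `G`-conjugates of a constituent of `θ|_N` occur with the same multiplicity. -/
theorem classInner_res_conjFun [Fintype G] (N : Subgroup G) (hN : N.Normal) [Fintype N]
    {θ : G → ℂ} (hθ : Cfsg.IsClassFunction G θ) (χ : N → ℂ) (g : G) :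
    Cfsg.classInner (res N θ) (conjFun N hN χ g) = Cfsg.classInner (res N θ) χ := by
  have h := classInner_conjFun N hN (res N θ) χ g
  have h2 : conjFun N hN (res N θ) g = res N θ := conjFun_restrict N hN hθ g
  rw [h2] at h
  exact h

/-- **Clifford's theorem**. -/
theorem clifford [Fintype G] (N : Subgroup G) (hN : N.Normal) [Fintype N]
    {θ : G → ℂ} (hθ : Cfsg.IsIrrCharacter G θ) {χ : N → ℂ} (hχ : Cfsg.IsIrrCharacter N χ)
    (h1 : Cfsg.classInner (res N θ) χ ≠ 0) :
    res N θ = Cfsg.classInner (res N θ) χ •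
      ∑ᶠ ψ ∈ {ψ : N → ℂ | ∃ g : G, ψ = conjFun N hN χ g}, ψ := by
  classical
  set A : Set (N → ℂ) := {ψ : N → ℂ | ∃ g : G, ψ = conjFun N hN χ g} with hA
  have hθc : Cfsg.IsClassFunction G θ := isClassFunction_of_isIrrCharacter hθ
  -- rewrite the finsum as a finite sum over irreducible characters
  have hAirr : ∀ ψ ∈ A, Cfsg.IsIrrCharacter N ψ := by
    rintro ψ ⟨g, rfl⟩
    exact isIrrCharacter_conjFun N hN hχ g
  have himg : A = (Subtype.val : Cfsg.IrrCharacter N → (N → ℂ)) ''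
      ((Finset.univ.filter (fun ψ : Cfsg.IrrCharacter N => (ψ : N → ℂ) ∈ A) :
        Finset (Cfsg.IrrCharacter N)) : Set (Cfsg.IrrCharacter N)) := by
    ext ψ
    constructor
    · intro hψ
      exact ⟨⟨ψ, hAirr ψ hψ⟩, by simpa using hψ, rfl⟩
    · rintro ⟨φ, hφ, rfl⟩
      simpa using hφ
  have hfin : ∑ᶠ ψ ∈ A, ψ =
      ∑ ψ ∈ Finset.univ.filter (fun ψ : Cfsg.IrrCharacter N => (ψ : N → ℂ) ∈ A),
        (ψ : N → ℂ) := by
    conv_lhs => rw [himg]
    rw [finsum_mem_image (Subtype.val_injective.injOn), finsum_mem_coe_finset]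
  rw [hfin, Finset.smul_sum]
  conv_lhs => rw [classFunction_eq_sum (res N θ) (isClassFunction_res N hθc)]
  rw [Finset.sum_filter]
  apply Finset.sum_congr rfl
  intro ψ _
  by_cases hψ : (ψ : N → ℂ) ∈ A
  · rw [if_pos hψ]
    obtain ⟨g, hg⟩ := hψ
    rw [hg, classInner_res_conjFun N hN hθc]
  · rw [if_neg hψ]
    have : Cfsg.classInner (res N θ) (ψ : N → ℂ) = 0 := by
      by_contra h2
      exact hψ (exists_conj_of_constituent N hN hθ hχ ψ.2 h1 h2)
    rw [this, zero_smul]


theorem extendByZero_conjFun (N : Subgroup G) (hN : N.Normal) (χ : N → ℂ) (g z : G) :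
    Cfsg.extendByZero N (conjFun N hN χ g) z = Cfsg.extendByZero N χ (g * z * g⁻¹) := by
  by_cases hz : z ∈ N
  · rw [extendByZero_of_mem N _ hz, extendByZero_of_mem N χ (hN.conj_mem z hz g)]
    rfl
  · have hz' : g * z * g⁻¹ ∉ N := by
      intro h
      apply hz
      have := hN.conj_mem _ h g⁻¹
      simpa [mul_assoc] using this
    rw [extendByZero_of_not_mem N _ hz, extendByZero_of_not_mem N χ hz']

/-- Conjugate functions induce the same function. -/
theorem indFun_conjFun [Fintype G] (N : Subgroup G) (hN : N.Normal) (χ : N → ℂ) (g : G) :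
    Cfsg.indFun N (conjFun N hN χ g) = Cfsg.indFun N χ := by
  funext y
  rw [indFun_apply, indFun_apply]
  congr 1
  apply Fintype.sum_equiv (Equiv.mulRight g⁻¹)
  intro x
  simp only [Equiv.coe_mulRight]
  rw [extendByZero_conjFun]
  congr 1
  group

/-- `[Ind φ, Ind θ] = |N|⁻¹ ∑ₓ [φ, θ^x]`. -/
theorem classInner_indFun_indFun [Fintype G] (N : Subgroup G) (hN : N.Normal) [Fintype N]
    (φ θ : N → ℂ) :
    Cfsg.classInner (Cfsg.indFun N φ) (Cfsg.indFun N θ) =
      (Nat.card N : ℂ)⁻¹ * ∑ x : G, Cfsg.classInner φ (conjFun N hN θ x) := by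
  rw [frobenius_reciprocity N φ _ (isClassFunction_indFun N θ)]
  have : (fun h : N => Cfsg.indFun N θ h) = res N (Cfsg.indFun N θ) := rfl
  rw [this, res_indFun_normal N hN, classInner_smul_right, classInner_sum_right]
  simp


/-- Inner products are preserved by pulling back along a group isomorphism. -/
theorem classInner_comp_equiv {K L : Type*} [Group K] [Group L] [Fintype K] [Fintype L]
    (e : K ≃* L) (α β : L → ℂ) :
    Cfsg.classInner (fun k => α (e k)) (fun k => β (e k)) = Cfsg.classInner α β := by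
  unfold Cfsg.classInner
  rw [Nat.card_congr e.toEquiv]
  congr 1
  exact Fintype.sum_equiv e.toEquiv _ _ (fun k => rfl)

theorem isIrrCharacter_comp_equiv {K L : Type*} [Group K] [Group L] [Finite L]
    (e : K ≃* L) {χ : L → ℂ} (hχ : Cfsg.IsIrrCharacter L χ) :
    Cfsg.IsIrrCharacter K (fun k => χ (e k)) := by
  have : Fintype L := Fintype.ofFinite L
  have : Finite K := Finite.of_equiv L e.symm.toEquiv
  have : Fintype K := Fintype.ofFinite K
  have h1 : Cfsg.IsCharacter K (fun k => χ (e k)) :=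
    isCharacter_comp e.toMonoidHom (isCharacter_of_isIrrCharacter hχ)
  apply isIrrCharacter_of_classInner_self h1
  rw [classInner_comp_equiv e, classInner_self_of_isIrrCharacter hχ]

/-- `resSubgroupOf H T θ` is `θ` pulled back along `H.subgroupOf T ≃* H`. -/
theorem resSubgroupOf_eq_comp (H T : Subgroup G) (hHT : H ≤ T) (θ : H → ℂ) :
    resSubgroupOf H T θ = fun x => θ (Subgroup.subgroupOfEquivOfLe hHT x) := by
  funext x
  rfl

theorem isIrrCharacter_resSubgroupOf (H T : Subgroup G) [Finite H] (hHT : H ≤ T) {θ : H → ℂ}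
    (hθ : Cfsg.IsIrrCharacter H θ) : Cfsg.IsIrrCharacter (H.subgroupOf T) (resSubgroupOf H T θ) := by
  rw [resSubgroupOf_eq_comp H T hHT]
  exact isIrrCharacter_comp_equiv _ hθ

/-- Restricting `ψ : T → ℂ` to `H.subgroupOf T` and pairing with `resSubgroupOf θ` is the same
as restricting to `H` along the inclusion and pairing with `θ`. -/
theorem classInner_resSubgroupOf (H T : Subgroup G) [Fintype H] [Fintype (H.subgroupOf T)]
    (hHT : H ≤ T) (θ : H → ℂ) (ψ : T → ℂ) :
    Cfsg.classInner (resSubgroupOf H T θ) (fun x : H.subgroupOf T => ψ x) =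
      Cfsg.classInner θ (fun n : H => ψ ⟨(n : G), hHT n.2⟩) := by
  have h := classInner_comp_equiv (Subgroup.subgroupOfEquivOfLe hHT) θ
    (fun n : H => ψ ⟨(n : G), hHT n.2⟩)
  rw [← h]
  rfl


theorem irr_one_ne_zero {χ : G → ℂ} (hχ : Cfsg.IsIrrCharacter G χ) : χ 1 ≠ 0 := by
  obtain ⟨n, ρ, hρ, rfl⟩ := hχ
  rw [Representation.char_one]
  have hn : Module.finrank ℂ (Fin n → ℂ) = n := by simp
  rw [hn]
  intro h0
  have hn0 : n = 0 := by exact_mod_cast h0
  subst hn0
  have : Nontrivial (Subrepresentation ρ) := hρ.toNontrivial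
  obtain ⟨a, b, hab⟩ := exists_pair_ne (Subrepresentation ρ)
  apply hab
  apply Subrepresentation.toSubmodule_injective
  apply Subsingleton.elim

/-- Norm of the function induced from a normal subgroup: `[Ind θ, Ind θ] = |I_G(θ)| / |N|`. -/
theorem classInner_indFun_self [Fintype G] (N : Subgroup G) (hN : N.Normal) [Fintype N]
    {θ : N → ℂ} (hθ : Cfsg.IsIrrCharacter N θ) (T : Subgroup G)
    (hT : ∀ g : G, g ∈ T ↔ conjFun N hN θ g = θ) :
    Cfsg.classInner (Cfsg.indFun N θ) (Cfsg.indFun N θ) =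
      (Nat.card N : ℂ)⁻¹ * (Nat.card T : ℂ) := by
  classical
  rw [classInner_indFun_indFun N hN]
  congr 1
  have h1 : ∀ x : G, Cfsg.classInner θ (conjFun N hN θ x) = if x ∈ T then 1 else 0 := by
    intro x
    rw [classInner_irr hθ (isIrrCharacter_conjFun N hN hθ x)]
    congr 1
    apply propext
    rw [hT x]
    exact eq_comm
  simp_rw [h1]
  rw [Finset.sum_ite, Finset.sum_const_zero, add_zero, Finset.sum_const, nsmul_eq_mul, mul_one,
    Nat.card_eq_fintype_card, Fintype.card_subtype]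


/-- Elements of the inertia group `T` fix `resSubgroupOf H T θ`. -/
theorem conjFun_resSubgroupOf (H T : Subgroup G) (hN : H.Normal)
    (hN' : (H.subgroupOf T).Normal) (θ : H → ℂ)
    (hT : ∀ g : G, g ∈ T ↔ conjFun H hN θ g = θ) (t : T) :
    conjFun (H.subgroupOf T) hN' (resSubgroupOf H T θ) t = resSubgroupOf H T θ := by
  funext x
  have h1 := (hT t).mp t.2
  have h2 := congrFun h1 ⟨(x : T), Subgroup.mem_subgroupOf.mp x.2⟩
  rw [conjFun_apply] at h2
  rw [conjFun_apply]
  exact h2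

/-- Core of the Clifford correspondence: the characters induced from the members of
`Irr(T | θ)` are irreducible and pairwise orthogonal. -/
theorem corr_core [Fintype G] (H T : Subgroup G) (hN : H.Normal) [Fintype T] (hHT : H ≤ T)
    {θ : H → ℂ} (hθ : Cfsg.IsIrrCharacter H θ)
    (hT : ∀ g : G, g ∈ T ↔ conjFun H hN θ g = θ) (ψ : Cfsg.IrrCharacter T)
    (hψ : Cfsg.classInner (Cfsg.indFun (H.subgroupOf T) (resSubgroupOf H T θ)) ψ ≠ 0) :
    Cfsg.classInner (Cfsg.indFun T (ψ : T → ℂ)) (Cfsg.indFun T (ψ : T → ℂ)) = 1 ∧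
    ∀ ψ' : Cfsg.IrrCharacter T, ψ' ≠ ψ →
      Cfsg.classInner (Cfsg.indFun (H.subgroupOf T) (resSubgroupOf H T θ)) ψ' ≠ 0 →
      Cfsg.classInner (Cfsg.indFun T (ψ : T → ℂ)) (Cfsg.indFun T (ψ' : T → ℂ)) = 0 := by
  classical
  have : Fintype H := Fintype.ofFinite H
  have : Fintype (H.subgroupOf T) := Fintype.ofFinite _
  have hN' : (H.subgroupOf T).Normal := by
    have := hN
    infer_instance
  set θ' := resSubgroupOf H T θ with hθ'def
  have hθ' : Cfsg.IsIrrCharacter (H.subgroupOf T) θ' := isIrrCharacter_resSubgroupOf H T hHT hθ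
  have hcardH : Nat.card (H.subgroupOf T) = Nat.card H :=
    Nat.card_congr (Subgroup.subgroupOfEquivOfLe hHT).toEquiv
  -- norms
  have hnormG := classInner_indFun_self H hN hθ T hT
  have hnormT := classInner_indFun_self (H.subgroupOf T) hN' hθ' ⊤
    (fun t => ⟨fun _ => conjFun_resSubgroupOf H T hN hN' θ hT t, fun _ => Subgroup.mem_top t⟩)
  rw [Subgroup.card_top, hcardH] at hnormT
  -- decomposition of Φ'
  have hΦ' : Cfsg.IsCharacter T (Cfsg.indFun (H.subgroupOf T) θ') :=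
    isCharacter_indFun _ (isCharacter_of_isIrrCharacter hθ')
  obtain ⟨m, hm, hsum'⟩ := exists_multiplicities hΦ'
  have hpars : Cfsg.classInner (Cfsg.indFun (H.subgroupOf T) θ') (Cfsg.indFun (H.subgroupOf T) θ') =
      ((∑ ξ : Cfsg.IrrCharacter T, m ξ * m ξ : ℕ) : ℂ) := by
    rw [classInner_self_eq_sum (isClassFunction_of_isCharacter hΦ')]
    push_cast
    apply Finset.sum_congr rfl
    intro ξ _
    rw [hm ξ, Complex.conj_natCast]
  -- Φ = Ind_T^G Φ'
  have hΦ : Cfsg.indFun H θ = ∑ ξ : Cfsg.IrrCharacter T, (m ξ : ℂ) • Cfsg.indFun T (ξ : T → ℂ) := by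
    rw [← indFun_trans H T hHT θ]
    conv_lhs => rw [hsum']
    rw [indFun_sum]
    apply Finset.sum_congr rfl
    intro ξ _
    rw [indFun_smul]
  -- Gram numbers
  have hn : ∀ ξ ξ' : Cfsg.IrrCharacter T, ∃ k : ℕ,
      Cfsg.classInner (Cfsg.indFun T (ξ : T → ℂ)) (Cfsg.indFun T (ξ' : T → ℂ)) = k := fun ξ ξ' =>
    classInner_isCharacter_nat (isCharacter_indFun T (isCharacter_of_isIrrCharacter ξ.2))
      (isCharacter_indFun T (isCharacter_of_isIrrCharacter ξ'.2))
  choose n hn using hn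
  have hgram : Cfsg.classInner (Cfsg.indFun H θ) (Cfsg.indFun H θ) =
      ((∑ ξ : Cfsg.IrrCharacter T, ∑ ξ' : Cfsg.IrrCharacter T, m ξ * m ξ' * n ξ ξ' : ℕ) : ℂ) := by
    rw [hΦ, classInner_sum_left]
    push_cast
    apply Finset.sum_congr rfl
    intro ξ _
    rw [classInner_smul_left, classInner_sum_right, Finset.mul_sum]
    apply Finset.sum_congr rfl
    intro ξ' _
    rw [classInner_smul_right, hn ξ ξ', Complex.conj_natCast]
    ring
  have hEq : (∑ ξ : Cfsg.IrrCharacter T, ∑ ξ' : Cfsg.IrrCharacter T, m ξ * m ξ' * n ξ ξ') =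
      ∑ ξ : Cfsg.IrrCharacter T, m ξ * m ξ := by
    have : ((∑ ξ : Cfsg.IrrCharacter T, ∑ ξ' : Cfsg.IrrCharacter T, m ξ * m ξ' * n ξ ξ' : ℕ) : ℂ) =
        ((∑ ξ : Cfsg.IrrCharacter T, m ξ * m ξ : ℕ) : ℂ) := by
      rw [← hgram, ← hpars, hnormG, hnormT]
    exact Nat.cast_injective this
  have hdiag : ∀ ξ : Cfsg.IrrCharacter T, m ξ ≠ 0 → 1 ≤ n ξ ξ := by
    intro ξ _
    have h1 : Cfsg.indFun T (ξ : T → ℂ) 1 ≠ 0 := by
      rw [indFun_one]
      have hT0 : (Nat.card T : ℂ) ≠ 0 := by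
        rw [Nat.cast_ne_zero]; exact Nat.card_pos.ne'
      have hG0 : (Nat.card G : ℂ) ≠ 0 := by
        rw [Nat.cast_ne_zero]; exact Nat.card_pos.ne'
      exact mul_ne_zero (mul_ne_zero (inv_ne_zero hT0) hG0) (irr_one_ne_zero ξ.2)
    have h2 := classInner_self_ne_zero h1
    rw [hn ξ ξ] at h2
    have h3 : n ξ ξ ≠ 0 := by
      intro h0
      rw [h0] at h2
      exact h2 (by simp)
    omega
  have hmain := nat_gram_lemma m n hdiag hEq ψ (by
    intro h0
    apply hψ
    rw [hm ψ, h0, Nat.cast_zero])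
  constructor
  · rw [hn ψ ψ, hmain.1, Nat.cast_one]
  · intro ψ' hne hψ'
    rw [hn ψ ψ', hmain.2 ψ' hne (by
      intro h0
      apply hψ'
      rw [hm ψ', h0, Nat.cast_zero]), Nat.cast_zero]


/-- `Ind_H^G θ = ∑ m_ξ Ind_T^G ξ`, where `m_ξ` is the multiplicity of `ξ` in `Ind_H^T θ`. -/
theorem exists_mult_decomp [Fintype G] (H T : Subgroup G) [Fintype T] (hHT : H ≤ T)
    {θ : H → ℂ} (hθ : Cfsg.IsIrrCharacter H θ) :
    ∃ m : Cfsg.IrrCharacter T → ℕ,
      (∀ ξ : Cfsg.IrrCharacter T,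
        Cfsg.classInner (Cfsg.indFun (H.subgroupOf T) (resSubgroupOf H T θ)) ξ = m ξ) ∧
      Cfsg.indFun H θ = ∑ ξ : Cfsg.IrrCharacter T, (m ξ : ℂ) • Cfsg.indFun T (ξ : T → ℂ) := by
  have : Finite H := inferInstance
  have hθ' : Cfsg.IsIrrCharacter (H.subgroupOf T) (resSubgroupOf H T θ) :=
    isIrrCharacter_resSubgroupOf H T hHT hθ
  have hΦ' : Cfsg.IsCharacter T (Cfsg.indFun (H.subgroupOf T) (resSubgroupOf H T θ)) :=
    isCharacter_indFun _ (isCharacter_of_isIrrCharacter hθ')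
  obtain ⟨m, hm, hsum'⟩ := exists_multiplicities hΦ'
  refine ⟨m, hm, ?_⟩
  rw [← indFun_trans H T hHT θ]
  conv_lhs => rw [hsum']
  rw [indFun_sum]
  apply Finset.sum_congr rfl
  intro ξ _
  rw [indFun_smul]

/-- Surjectivity of the Clifford correspondence. -/
theorem corr_surj [Fintype G] (H T : Subgroup G) (hN : H.Normal) [Fintype H] [Fintype T]
    (hHT : H ≤ T) {θ : H → ℂ} (hθ : Cfsg.IsIrrCharacter H θ)
    (hT : ∀ g : G, g ∈ T ↔ conjFun H hN θ g = θ) {χ : G → ℂ} (hχ : Cfsg.IsIrrCharacter G χ)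
    (hcon : Cfsg.classInner (res H χ) θ ≠ 0) :
    ∃ ψ : T → ℂ, Cfsg.IsIrrCharacter T ψ ∧ Cfsg.indFun T ψ = χ ∧
      Cfsg.classInner (fun n : H => ψ ⟨(n : G), hHT n.2⟩) θ = Cfsg.classInner (res H χ) θ := by
  classical
  have : Fintype (H.subgroupOf T) := Fintype.ofFinite _
  obtain ⟨m, hm, hΦ⟩ := exists_mult_decomp H T hHT hθ
  have hχc : Cfsg.IsClassFunction G χ := isClassFunction_of_isIrrCharacter hχ
  -- [Φ, χ] ≠ 0
  have h1 : Cfsg.classInner (Cfsg.indFun H θ) χ = conj (Cfsg.classInner (res H χ) θ) := by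
    rw [frobenius_reciprocity H θ χ hχc, classInner_conj_symm]
    rfl
  have h2 : Cfsg.classInner (Cfsg.indFun H θ) χ ≠ 0 := by
    rw [h1]
    exact (map_ne_zero _).mpr hcon
  have h3 : Cfsg.classInner (Cfsg.indFun H θ) χ =
      ∑ ξ : Cfsg.IrrCharacter T, (m ξ : ℂ) * Cfsg.classInner (Cfsg.indFun T (ξ : T → ℂ)) χ := by
    rw [hΦ, classInner_sum_left]
    apply Finset.sum_congr rfl
    intro ξ _
    rw [classInner_smul_left]
  rw [h3] at h2
  obtain ⟨ξ, _, hξ⟩ := Finset.exists_ne_zero_of_sum_ne_zero h2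
  have hmξ : m ξ ≠ 0 := by
    intro h0
    apply hξ
    rw [h0, Nat.cast_zero, zero_mul]
  have hξχ : Cfsg.classInner (Cfsg.indFun T (ξ : T → ℂ)) χ ≠ 0 := by
    intro h0
    apply hξ
    rw [h0, mul_zero]
  have hξ' : Cfsg.classInner (Cfsg.indFun (H.subgroupOf T) (resSubgroupOf H T θ)) ξ ≠ 0 := by
    rw [hm ξ]
    exact_mod_cast hmξ
  have core := corr_core H T hN hHT hθ hT ξ hξ'
  have hirr : Cfsg.IsIrrCharacter G (Cfsg.indFun T (ξ : T → ℂ)) :=
    isIrrCharacter_of_classInner_self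
      (isCharacter_indFun T (isCharacter_of_isIrrCharacter ξ.2)) core.1
  have heq : Cfsg.indFun T (ξ : T → ℂ) = χ := by
    by_contra hne
    exact hξχ (classInner_of_isIrrCharacter_of_ne hirr hχ hne)
  refine ⟨ξ, ξ.2, heq, ?_⟩
  -- compute [Φ, χ] = m ξ
  have h4 : Cfsg.classInner (Cfsg.indFun H θ) χ = (m ξ : ℂ) := by
    rw [h3, Finset.sum_eq_single ξ]
    · rw [heq, classInner_self_of_isIrrCharacter hχ, mul_one]
    · intro ξ' _ hne
      by_cases h0 : m ξ' = 0
      · rw [h0, Nat.cast_zero, zero_mul]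
      · have hξ'' : Cfsg.classInner (Cfsg.indFun (H.subgroupOf T) (resSubgroupOf H T θ)) ξ' ≠ 0 := by
          rw [hm ξ']
          exact_mod_cast h0
        have := core.2 ξ' hne hξ''
        rw [← heq, ← classInner_conj_symm, this, map_zero, mul_zero]
    · intro h; exact absurd (Finset.mem_univ _) h
  have h5 : Cfsg.classInner (res H χ) θ = (m ξ : ℂ) := by
    have := congrArg (starRingEnd ℂ) h1
    rw [Complex.conj_conj, h4, Complex.conj_natCast] at this
    exact this.symm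
  rw [h5]
  -- m ξ = [ξ|_H, θ]
  have h6 := hm ξ
  rw [frobenius_reciprocity (H.subgroupOf T) (resSubgroupOf H T θ) ξ
    (isClassFunction_of_isIrrCharacter ξ.2), classInner_resSubgroupOf H T hHT θ ξ] at h6
  have := congrArg (starRingEnd ℂ) h6
  rw [classInner_conj_symm, Complex.conj_natCast] at this
  exact this

end Cfsg.Agent.Lib.Helper75_Clifford
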