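import Mathlib
import Cfsg.Prelude.Def_Characters
import Cfsg.Agent.Lib.Helper75_Clifford

/-!
# Products of characters, conjugate characters, invariant characters (helper75)

* `isCharacter_mul`: the pointwise product of two characters is a character (tensor product).
* `isCharacter_conj`, `isIrrCharacter_conj`: complex conjugates (dual representation).
* `indFun_mul`: `Ind φ * χ = Ind (φ * χ|_N)` for a class function `χ` of `G`.
* `classInner_indFun_self_of_invariant`: `[Ind θ, Ind θ] = |G : N|` for `G`-invariant `θ ∈ Irr N`.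
* `res_eq_smul_of_invariant`: Clifford for an invariant constituent: `χ|_N = [χ|_N, ϑ] ϑ`.
-/

set_option autoImplicit false
open scoped ComplexConjugate

namespace Cfsg.Agent.Lib.Helper75_CharProd

open Cfsg.Agent.Lib.Helper3_CharBridge Cfsg.Agent.Lib.Helper3_CharOrtho
  Cfsg.Agent.Lib.Helper3_CharComplete Cfsg.Agent.Lib.Helper75_CharArith
  Cfsg.Agent.Lib.Helper75_Induced Cfsg.Agent.Lib.Helper75_Clifford

variable {G : Type*} [Group G]

/-- The pointwise product of two characters is a character. -/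
theorem isCharacter_mul {χ ψ : G → ℂ} (hχ : Cfsg.IsCharacter G χ) (hψ : Cfsg.IsCharacter G ψ) :
    Cfsg.IsCharacter G (χ * ψ) := by
  obtain ⟨n, ρ, rfl⟩ := hχ
  obtain ⟨m, σ, rfl⟩ := hψ
  have h := isCharacter_of_rep (Representation.tprod ρ σ)
  rwa [Representation.char_tensor] at h

/-- The complex conjugate of a character is a character (dual representation). -/
theorem isCharacter_conj [Finite G] {χ : G → ℂ}
    (hχ : Cfsg.IsCharacter G χ) : Cfsg.IsCharacter G (fun g => conj (χ g)) := by
  obtain ⟨n, ρ, rfl⟩ := hχ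
  have h := isCharacter_of_rep ρ.dual
  have h2 : ρ.dual.character = fun g => conj (ρ.character g) := by
    funext g
    rw [Representation.char_dual, Cfsg.Agent.Lib.Helper3_CharEigen.char_inv]
  rw [h2] at h
  exact h

theorem classInner_conj_conj [Fintype G] (α β : G → ℂ) :
    Cfsg.classInner (fun g => conj (α g)) (fun g => conj (β g)) = conj (Cfsg.classInner α β) := by
  unfold Cfsg.classInner
  rw [map_mul, map_inv₀, Complex.conj_natCast, map_sum]
  congr 1
  refine Finset.sum_congr rfl (fun g _ => ?_)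
  rw [map_mul]

/-- The complex conjugate of an irreducible character is irreducible. -/
theorem isIrrCharacter_conj [Fintype G] {χ : G → ℂ}
    (hχ : Cfsg.IsIrrCharacter G χ) : Cfsg.IsIrrCharacter G (fun g => conj (χ g)) := by
  apply isIrrCharacter_of_classInner_self (isCharacter_conj (isCharacter_of_isIrrCharacter hχ))
  rw [classInner_conj_conj, classInner_self_of_isIrrCharacter hχ, map_one]

theorem extendByZero_mul_res (N : Subgroup G) (φ : N → ℂ) (χ : G → ℂ) (g : G) :
    Cfsg.extendByZero N φ g * χ g = Cfsg.extendByZero N (φ * res N χ) g := by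
  by_cases hg : g ∈ N
  · rw [extendByZero_of_mem N φ hg, extendByZero_of_mem N _ hg]
    rfl
  · rw [extendByZero_of_not_mem N φ hg, extendByZero_of_not_mem N _ hg, zero_mul]

/-- `Ind φ * χ = Ind (φ * χ|_N)` for a class function `χ` of `G`. -/
theorem indFun_mul [Fintype G] (N : Subgroup G) (φ : N → ℂ) {χ : G → ℂ}
    (hχ : Cfsg.IsClassFunction G χ) :
    Cfsg.indFun N φ * χ = Cfsg.indFun N (φ * res N χ) := by
  funext g
  rw [Pi.mul_apply, indFun_apply, indFun_apply, mul_assoc, Finset.sum_mul]
  congr 1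
  refine Finset.sum_congr rfl (fun x _ => ?_)
  rw [← extendByZero_mul_res]
  congr 1
  have := hχ g x⁻¹
  rw [inv_inv] at this
  exact this.symm

/-- `[Ind θ, Ind θ] = |G : N|` for a `G`-invariant irreducible character `θ` of `N ⊴ G`. -/
theorem classInner_indFun_self_of_invariant [Fintype G] (N : Subgroup G) (hN : N.Normal)
    [Fintype N] {θ : N → ℂ} (hθ : Cfsg.IsIrrCharacter N θ)
    (hinv : ∀ g : G, conjFun N hN θ g = θ) :
    Cfsg.classInner (Cfsg.indFun N θ) (Cfsg.indFun N θ) = (N.index : ℂ) := by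
  rw [classInner_indFun_self N hN hθ ⊤ (fun g => by simp [hinv g])]
  have hN0 : (Nat.card N : ℂ) ≠ 0 := by
    rw [Nat.cast_ne_zero]; exact Nat.card_pos.ne'
  rw [inv_mul_eq_iff_eq_mul₀ hN0, ← Nat.cast_mul, Subgroup.card_mul_index, Subgroup.card_top]

/-- Clifford's theorem for an invariant constituent: `χ|_N = [χ|_N, ϑ] ϑ`. -/
theorem res_eq_smul_of_invariant [Fintype G] (N : Subgroup G) (hN : N.Normal) [Fintype N]
    {χ : G → ℂ} (hχ : Cfsg.IsIrrCharacter G χ) {ϑ : N → ℂ} (hϑ : Cfsg.IsIrrCharacter N ϑ)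
    (hinv : ∀ g : G, conjFun N hN ϑ g = ϑ) (h1 : Cfsg.classInner (res N χ) ϑ ≠ 0) :
    res N χ = Cfsg.classInner (res N χ) ϑ • ϑ := by
  have h := clifford N hN hχ hϑ h1
  have hset : {ψ : N → ℂ | ∃ g : G, ψ = conjFun N hN ϑ g} = {ϑ} := by
    ext ψ
    simp only [Set.mem_ofPred_eq, Set.mem_singleton_iff]
    constructor
    · rintro ⟨g, rfl⟩
      exact hinv g
    · intro h
      exact ⟨1, by rw [h, conjFun_one]⟩
  rw [hset, finsum_mem_singleton] at h
  exact h

/-- Pointwise invariance implies invariance in the `conjFun` sense. -/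
theorem conjFun_eq_of_forall (N : Subgroup G) (hN : N.Normal) (ϑ : N → ℂ)
    (hinv : ∀ (g : G) (n : N), ϑ ⟨g * n * g⁻¹, hN.conj_mem (n : G) n.2 g⟩ = ϑ n) (g : G) :
    conjFun N hN ϑ g = ϑ := by
  funext n
  exact hinv g n

end Cfsg.Agent.Lib.Helper75_CharProd
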