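import Mathlib
import Cfsg.Prelude.Def_Characters
import Cfsg.Agent.Lib.Helper15_Linear
import Cfsg.Agent.Lib.Helper75_CharProd

/-!
# Characters of degree one (helper75)

A *linear character* is a `lam : G → ℂ` with `Cfsg.IsCharacter G lam ∧ lam 1 = 1`.
-/

set_option autoImplicit false
open scoped ComplexConjugate

namespace Cfsg.Agent.Lib.Helper75_LinChar

open Cfsg.Agent.Lib.Helper15_Linear Cfsg.Agent.Lib.Helper3_CharBridge
  Cfsg.Agent.Lib.Helper3_CharOrtho Cfsg.Agent.Lib.Helper75_CharArith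
  Cfsg.Agent.Lib.Helper75_CharProd

variable {G : Type*} [Group G]

/-- `lam` is a character of degree one. -/
def IsLin (G : Type*) [Group G] (lam : G → ℂ) : Prop := Cfsg.IsCharacter G lam ∧ lam 1 = 1

theorem IsLin.map_mul {lam : G → ℂ} (h : IsLin G lam) (a b : G) : lam (a * b) = lam a * lam b :=
  linear_mul lam h.1 h.2 a b

theorem IsLin.ne_zero {lam : G → ℂ} (h : IsLin G lam) (g : G) : lam g ≠ 0 :=
  linear_ne_zero lam h.1 h.2 g

theorem IsLin.map_inv {lam : G → ℂ} (h : IsLin G lam) (g : G) : lam g⁻¹ = (lam g)⁻¹ :=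
  linear_inv lam h.1 h.2 g

theorem IsLin.map_pow {lam : G → ℂ} (h : IsLin G lam) (g : G) (k : ℕ) :
    lam (g ^ k) = lam g ^ k := by
  induction k with
  | zero => rw [pow_zero, pow_zero, h.2]
  | succ k ih => rw [pow_succ, pow_succ, h.map_mul, ih]

theorem isLin_of_hom (f : G →* ℂ) : IsLin G (fun g => f g) := isCharacter_of_hom f

theorem isLin_one : IsLin G (fun _ => (1 : ℂ)) := isLin_of_hom (1 : G →* ℂ)

/-- the monoid hom of a linear character -/
noncomputable def IsLin.hom {lam : G → ℂ} (h : IsLin G lam) : G →* ℂ := linearHom lam h.1 h.2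

theorem IsLin.mul {lam mu : G → ℂ} (h : IsLin G lam) (h' : IsLin G mu) : IsLin G (lam * mu) :=
  isLin_of_hom (h.hom * h'.hom)

theorem IsLin.pow {lam : G → ℂ} (h : IsLin G lam) (k : ℕ) : IsLin G (lam ^ k) :=
  isLin_of_hom (h.hom ^ k)

theorem IsLin.pow_card_eq_one [Finite G] {lam : G → ℂ} (h : IsLin G lam) (g : G) :
    lam g ^ Nat.card G = 1 := by
  rw [← h.map_pow, pow_card_eq_one', h.2]

theorem IsLin.norm_eq_one [Finite G] {lam : G → ℂ} (h : IsLin G lam) (g : G) : ‖lam g‖ = 1 := by
  have h1 := h.pow_card_eq_one g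
  have h2 : ‖lam g‖ ^ Nat.card G = 1 := by rw [← norm_pow, h1, norm_one]
  exact (pow_eq_one_iff_of_nonneg (norm_nonneg _) Nat.card_pos.ne').mp h2

theorem IsLin.mul_conj [Finite G] {lam : G → ℂ} (h : IsLin G lam) (g : G) :
    lam g * conj (lam g) = 1 := by
  rw [Complex.mul_conj, Complex.normSq_eq_norm_sq, h.norm_eq_one g]
  simp

theorem IsLin.conj_eq_inv [Finite G] {lam : G → ℂ} (h : IsLin G lam) (g : G) :
    conj (lam g) = (lam g)⁻¹ :=
  eq_inv_of_mul_eq_one_right (h.mul_conj g)

/-- the inverse (= complex conjugate) of a linear character -/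
theorem IsLin.inv {lam : G → ℂ} (h : IsLin G lam) : IsLin G (fun g => (lam g)⁻¹) := by
  have := isLin_of_hom (G := G)
    { toFun := fun g => (lam g)⁻¹
      map_one' := by rw [h.2, inv_one]
      map_mul' := fun a b => by rw [h.map_mul, mul_inv] }
  exact this

theorem classInner_lin_mul [Fintype G] {lam : G → ℂ} (h : IsLin G lam) (α β : G → ℂ) :
    Cfsg.classInner (lam * α) (lam * β) = Cfsg.classInner α β := by
  unfold Cfsg.classInner
  congr 1
  refine Finset.sum_congr rfl (fun g _ => ?_)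
  rw [Pi.mul_apply, Pi.mul_apply, map_mul]
  calc lam g * α g * (conj (lam g) * conj (β g))
      = (lam g * conj (lam g)) * (α g * conj (β g)) := by ring
    _ = α g * conj (β g) := by rw [h.mul_conj g, one_mul]

/-- a linear character times an irreducible character is irreducible -/
theorem IsLin.mul_irr [Fintype G] {lam χ : G → ℂ} (h : IsLin G lam)
    (hχ : Cfsg.IsIrrCharacter G χ) : Cfsg.IsIrrCharacter G (lam * χ) := by
  apply isIrrCharacter_of_classInner_self (isCharacter_mul h.1 (isCharacter_of_isIrrCharacter hχ))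
  rw [classInner_lin_mul h, classInner_self_of_isIrrCharacter hχ]

/-- a linear character is irreducible -/
theorem IsLin.irr [Fintype G] {lam : G → ℂ} (h : IsLin G lam) : Cfsg.IsIrrCharacter G lam := by
  apply isIrrCharacter_of_classInner_self h.1
  have h1 := classInner_lin_mul h (fun _ => (1 : ℂ)) (fun _ => (1 : ℂ))
  have h2 : lam * (fun _ => (1 : ℂ)) = lam := by funext g; simp
  rw [h2] at h1
  rw [h1]
  unfold Cfsg.classInner
  have hG : (Nat.card G : ℂ) ≠ 0 := by
    rw [Nat.cast_ne_zero]; exact Nat.card_pos.ne'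
  simp [Nat.card_eq_fintype_card] at hG ⊢

/-- restriction of a linear character -/
theorem IsLin.res {lam : G → ℂ} (h : IsLin G lam) (N : Subgroup G) :
    IsLin N (fun n : N => lam n) :=
  ⟨Cfsg.Agent.Lib.Helper75_Clifford.isCharacter_res N h.1, h.2⟩

/-- a linear character trivial on the normal subgroup `N` has order dividing the index -/
theorem IsLin.pow_index_eq_one [Finite G] {lam : G → ℂ} (h : IsLin G lam) (N : Subgroup G)
    [N.Normal] (hN : ∀ n : N, lam n = 1) (g : G) : lam g ^ N.index = 1 := by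
  rw [← h.map_pow]
  exact hN ⟨g ^ N.index, Subgroup.pow_index_mem N g⟩

end Cfsg.Agent.Lib.Helper75_LinChar
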