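import Cfsg.Agent.S0856
import Cfsg.Agent.Lib.Helper75_LinChar
import Cfsg.Agent.Lib.Helper80_CharBasic

/-!
# Gallagher: extensions of an extendible character differ by linear characters of `G/N` (helper75)
-/

set_option autoImplicit false
open scoped ComplexConjugate

namespace Cfsg.Agent.Lib.Helper75_Gallagher

open Cfsg.Agent.Lib.Helper3_CharBridge Cfsg.Agent.Lib.Helper3_CharOrtho
  Cfsg.Agent.Lib.Helper75_CharArith Cfsg.Agent.Lib.Helper75_Induced
  Cfsg.Agent.Lib.Helper75_Clifford Cfsg.Agent.Lib.Helper75_CharProd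
  Cfsg.Agent.Lib.Helper75_LinChar

variable {G : Type*} [Group G]

/-- If `η ∈ Irr G` restricts irreducibly to `N ⊴ G`, every irreducible character of `G` with the
same restriction is `β * η` for a linear character `β` of `G` trivial on `N`. -/
theorem exists_lin_of_extensions [Fintype G] (N : Subgroup G) [hN : N.Normal] {η χ' : G → ℂ}
    (hη : Cfsg.IsIrrCharacter G η) (hχ' : Cfsg.IsIrrCharacter G χ')
    (hηN : Cfsg.IsIrrCharacter N (fun n : N => η n)) (hres : ∀ n : N, χ' n = η n) :
    ∃ β : G → ℂ, IsLin G β ∧ (∀ n : N, β n = 1) ∧ χ' = β * η := by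
  classical
  have : Fintype N := Fintype.ofFinite N
  have hone : Cfsg.IsIrrCharacter N (fun _ : N => (1 : ℂ)) :=
    Cfsg.Agent.Lib.Helper80_CharBasic.isIrrCharacter_one N
  have hprodeq : (fun _ : N => (1 : ℂ)) * (fun n : N => η n) = fun n : N => η n := by
    funext n; simp
  have hηc : Cfsg.IsClassFunction G η := isClassFunction_of_isIrrCharacter hη
  have hbij := Cfsg.Agent.S0856.result N (fun _ => 1) (fun n : N => η n) hone hηN
    (fun _ _ => rfl) (fun g n => hηc n g) (by rw [hprodeq]; exact hηN) η hη (fun _ => rfl)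
  have hmem : χ' ∈ {ψ : G → ℂ | Cfsg.IsIrrCharacter G ψ ∧
      Cfsg.classInner (Cfsg.indFun N ((fun _ : N => (1 : ℂ)) * fun n : N => η n)) ψ ≠ 0} := by
    refine ⟨hχ', ?_⟩
    rw [hprodeq, frobenius_reciprocity N _ χ' (isClassFunction_of_isIrrCharacter hχ')]
    have : (fun h : N => χ' h) = fun n : N => η n := funext hres
    rw [this, classInner_self_of_isIrrCharacter hηN]
    exact one_ne_zero
  obtain ⟨β, ⟨hβirr, hβne⟩, hβ⟩ := hbij.surjOn hmem
  have hβ1 : β 1 = 1 := by
    have h1 := congrFun hβ 1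
    have h2 := hres 1
    simp only [Pi.mul_apply, OneMemClass.coe_one] at h1 h2
    rw [h2] at h1
    have h3 : η 1 ≠ 0 := irr_one_ne_zero hη
    field_simp at h1
    exact h1
  have hβlin : IsLin G β := ⟨isCharacter_of_isIrrCharacter hβirr, hβ1⟩
  refine ⟨β, hβlin, ?_, hβ.symm⟩
  rw [frobenius_reciprocity N _ β (isClassFunction_of_isIrrCharacter hβirr),
    classInner_irr hone (hβlin.res N).irr] at hβne
  have h4 : (fun _ : N => (1 : ℂ)) = fun n : N => β n := by
    by_contra h
    rw [if_neg h] at hβne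
    exact hβne rfl
  intro n
  exact (congrFun h4 n).symm

end Cfsg.Agent.Lib.Helper75_Gallagher
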