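import Cfsg.Agent.Lib.Helper75_ExtendCoprime
import Cfsg.Agent.Lib.Helper75_Gallagher
import Cfsg.Agent.Lib.Helper75_GalConj
import Cfsg.Agent.Lib.Helper75_AbelianInertia
import Cfsg.Agent.Lib.Helper75_CosetConj

/-!
# The canonical extension of an invariant character over a coprime quotient (helper75)

`N ⊴ Γ`, `(|N|, |Γ : N|) = 1`, `Γ ⧸ N` solvable, `ϑ ∈ Irr N` invariant in `Γ`.
* `exists_canonical_extension`: an extension `χ ∈ Irr Γ` with `(det χ) ^ |N| = 1`;
* `canonical_extension_unique`: two extensions with determinantal order coprime to the index agree;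
* `canonical_powMap`: such an extension satisfies `χ (x ^ k) = χ x` whenever `k` is coprime to
  `|Γ|` and `k ≡ 1 mod |N|` (its values lie in the field of `|N|`-th roots of unity);
* `detChar_powMap`: `det (χ ∘ (· ^ k)) = (det χ) ^ k` for irreducible `χ`, `k` coprime to `|Γ|`.
-/

set_option autoImplicit false
open scoped ComplexConjugate

namespace Cfsg.Agent.Lib.Helper75_CanonExt

open Cfsg.Agent.Lib.Helper3_CharBridge Cfsg.Agent.Lib.Helper3_CharOrtho
  Cfsg.Agent.Lib.Helper75_CharArith Cfsg.Agent.Lib.Helper75_LinChar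
  Cfsg.Agent.Lib.Helper75_DetChar Cfsg.Agent.Lib.Helper75_Gallagher
  Cfsg.Agent.Lib.Helper75_GalConj Cfsg.Agent.Lib.Helper75_ExtendCoprime
  Cfsg.Agent.Lib.Helper75_CosetConj

universe u

theorem pow_eq_one_of_dvd' {M : Type*} [Monoid M] {x : M} {m a : ℕ} (hx : x ^ m = 1)
    (hma : m ∣ a) : x ^ a = 1 := by
  obtain ⟨t, rfl⟩ := hma
  rw [pow_mul, hx, one_pow]

section Det

variable {G : Type*} [Group G] [Finite G]

theorem detChar_zero : Cfsg.detChar (0 : G → ℂ) = 1 := by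
  let ρ : Representation ℂ G (Fin 0 → ℂ) := 1
  have h : ρ.character = 0 := by
    funext g
    simp [Representation.character, ρ]
  rw [← h, detChar_of_rep]
  funext g
  simp [ρ]

theorem detChar_nsmul {χ : G → ℂ} (hχ : Cfsg.IsCharacter G χ) (m : ℕ) :
    Cfsg.detChar (m • χ) = Cfsg.detChar χ ^ m := by
  have : Fintype G := Fintype.ofFinite G
  induction m with
  | zero => rw [zero_smul, pow_zero, detChar_zero]
  | succ m ih =>
    rw [succ_nsmul, detChar_add (isCharacter_nsmul m hχ) hχ, ih, pow_succ]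

theorem detChar_sum {ι : Type*} (s : Finset ι) (m : ι → ℕ) (ξ : ι → G → ℂ)
    (hξ : ∀ i ∈ s, Cfsg.IsCharacter G (ξ i)) :
    Cfsg.detChar (∑ i ∈ s, m i • ξ i) = ∏ i ∈ s, Cfsg.detChar (ξ i) ^ m i := by
  classical
  have : Fintype G := Fintype.ofFinite G
  induction s using Finset.induction_on with
  | empty => rw [Finset.sum_empty, Finset.prod_empty, detChar_zero]
  | insert a s ha ih =>
    rw [Finset.sum_insert ha, Finset.prod_insert ha]
    have h1 : Cfsg.IsCharacter G (m a • ξ a) :=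
      isCharacter_nsmul (m a) (hξ a (Finset.mem_insert_self a s))
    have h2 : Cfsg.IsCharacter G (∑ i ∈ s, m i • ξ i) :=
      isCharacter_sum s _ (fun i hi => isCharacter_nsmul (m i) (hξ i (Finset.mem_insert_of_mem hi)))
    rw [detChar_add h1 h2, detChar_nsmul (hξ a (Finset.mem_insert_self a s)),
      ih (fun i hi => hξ i (Finset.mem_insert_of_mem hi))]

/-- Irreducible characters of a commutative group are linear. -/
theorem isLin_of_comm (hcomm : ∀ a b : G, a * b = b * a) {ξ : G → ℂ}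
    (hξ : Cfsg.IsIrrCharacter G ξ) : IsLin G ξ := by
  have : Fintype G := Fintype.ofFinite G
  refine ⟨isCharacter_of_isIrrCharacter hξ, ?_⟩
  apply Cfsg.Agent.Lib.Helper75_AbelianInertia.irr_one_eq_one_of_abelian_quotient
    (⊥ : Subgroup G) _ hξ
  · rintro ⟨h, hh⟩
    rw [Subgroup.mem_bot] at hh
    subst hh
    rfl
  · intro x y
    rw [Subgroup.mem_bot, hcomm x y]
    group

/-- In a commutative group, `det (χ ∘ (· ^ k)) = (det χ) ^ k`. -/
theorem detChar_powMap_of_comm (hcomm : ∀ a b : G, a * b = b * a) {χ : G → ℂ}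
    (hχ : Cfsg.IsCharacter G χ) (k : ℕ) :
    Cfsg.detChar (fun a => χ (a ^ k)) = Cfsg.detChar χ ^ k := by
  classical
  have : Fintype G := Fintype.ofFinite G
  obtain ⟨m, -, hm⟩ := exists_multiplicities hχ
  have hlin : ∀ ξ : Cfsg.IrrCharacter G, IsLin G (ξ : G → ℂ) := fun ξ => isLin_of_comm hcomm ξ.2
  have h1 : χ = ∑ ξ : Cfsg.IrrCharacter G, m ξ • (ξ : G → ℂ) := by
    conv_lhs => rw [hm]
    apply Finset.sum_congr rfl
    intro ξ _
    rw [Nat.cast_smul_eq_nsmul]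
  have h2 : (fun a => χ (a ^ k)) = ∑ ξ : Cfsg.IrrCharacter G, m ξ • ((ξ : G → ℂ) ^ k) := by
    funext a
    conv_lhs => rw [h1]
    simp only [Finset.sum_apply, Pi.smul_apply, Pi.pow_apply]
    apply Finset.sum_congr rfl
    intro ξ _
    rw [(hlin ξ).map_pow]
  rw [h2, detChar_sum _ _ _ (fun ξ _ => ((hlin ξ).pow k).1)]
  conv_rhs => rw [h1, detChar_sum _ _ _ (fun ξ _ => (hlin ξ).1)]
  rw [← Finset.prod_pow]
  apply Finset.prod_congr rfl
  intro ξ _
  rw [detChar_linear ((hlin ξ).pow k).1 ((hlin ξ).pow k).2, detChar_linear (hlin ξ).1 (hlin ξ).2,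
    ← pow_mul, ← pow_mul, mul_comm]

/-- `det (χ ∘ (· ^ k)) = (det χ) ^ k` for irreducible `χ` and `k` coprime to the group order. -/
theorem detChar_powMap {χ : G → ℂ} (hχ : Cfsg.IsIrrCharacter G χ) (k : ℕ)
    (hk : k.Coprime (Nat.card G)) :
    Cfsg.detChar (fun g => χ (g ^ k)) = Cfsg.detChar χ ^ k := by
  have : Fintype G := Fintype.ofFinite G
  have hψ : Cfsg.IsCharacter G (fun g => χ (g ^ k)) :=
    isCharacter_of_isIrrCharacter (isIrrCharacter_powMap hχ k hk)
  have hχc : Cfsg.IsCharacter G χ := isCharacter_of_isIrrCharacter hχ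
  funext x
  set A : Subgroup G := Subgroup.zpowers x with hA
  have hcomm : ∀ a b : A, a * b = b * a := by
    rintro ⟨a, ha⟩ ⟨b, hb⟩
    obtain ⟨i, rfl⟩ := Subgroup.mem_zpowers_iff.mp ha
    obtain ⟨j, rfl⟩ := Subgroup.mem_zpowers_iff.mp hb
    apply Subtype.ext
    show x ^ i * x ^ j = x ^ j * x ^ i
    rw [← zpow_add, ← zpow_add, add_comm]
  have hx : x ∈ A := Subgroup.mem_zpowers x
  have h1 := congrFun (detChar_res A hψ) ⟨x, hx⟩
  have h2 := congrFun (detChar_res A hχc) ⟨x, hx⟩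
  have h3 := detChar_powMap_of_comm hcomm (Cfsg.Agent.Lib.Helper75_Clifford.isCharacter_res A hχc) k
  simp only at h1 h2
  rw [Pi.pow_apply, ← h1, ← h2]
  have h4 : (fun n : A => χ ((n : G) ^ k)) =
      fun a : A => Cfsg.Agent.Lib.Helper75_Clifford.res A χ (a ^ k) := by
    funext a
    rfl
  rw [h4, h3, Pi.pow_apply]
  rfl

/-- The degree of an irreducible character is a positive divisor of the group order. -/
theorem exists_degree {χ : G → ℂ} (hχ : Cfsg.IsIrrCharacter G χ) :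
    ∃ f : ℕ, χ 1 = f ∧ 0 < f ∧ f ∣ Nat.card G := by
  have : Fintype G := Fintype.ofFinite G
  obtain ⟨n, ρ, hirr, rfl⟩ := hχ
  have := hirr
  refine ⟨Module.finrank ℂ (Fin n → ℂ), Representation.char_one ρ, ?_, ?_⟩
  · exact Nat.pos_of_ne_zero (Cfsg.Agent.Lib.Helper3_CharDegree.finrank_ne_zero_of_irr ρ)
  · exact Cfsg.Agent.Lib.Helper3_CharDegree.finrank_dvd_card ρ

end Det

section Canon

variable {Γ : Type u} [Group Γ] [Finite Γ]

/-- Existence of the canonical extension. -/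
theorem exists_canonical_extension (N : Subgroup Γ) [hN : N.Normal]
    (hsolv : Group.IsSolvable (Γ ⧸ N)) (hcop : Nat.Coprime (Nat.card N) N.index)
    (ϑ : N → ℂ) (hϑ : Cfsg.IsIrrCharacter N ϑ)
    (hinv : ∀ (g : Γ) (n : N), ϑ ⟨g * n * g⁻¹, hN.conj_mem (n : Γ) n.2 g⟩ = ϑ n) :
    ∃ χ : Γ → ℂ, Cfsg.IsIrrCharacter Γ χ ∧ (∀ n : N, χ n = ϑ n) ∧
      Cfsg.detChar χ ^ Nat.card N = 1 := by
  have : Fintype Γ := Fintype.ofFinite Γ
  obtain ⟨χ₀, hχ₀, hres⟩ := exists_extension_of_coprime_solvable N hsolv hcop ϑ hϑ hinv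
  have hχ₀c : Cfsg.IsCharacter Γ χ₀ := isCharacter_of_isIrrCharacter hχ₀
  have hμ : IsLin Γ (Cfsg.detChar χ₀) := isCharacter_detChar hχ₀c
  obtain ⟨f, hf1, hfpos, hfdvd⟩ := exists_degree hϑ
  have hf : χ₀ 1 = f := by
    have := hres 1
    rw [← hf1, ← this]; rfl
  have hfcop : f.Coprime N.index := Nat.Coprime.coprime_dvd_left hfdvd hcop
  have hnpos : 0 < N.index := Nat.pos_of_ne_zero Subgroup.index_ne_zero_of_finite
  -- inverse of `f` mod the index
  have hff' : f * f ^ (Nat.totient N.index - 1) ≡ 1 [MOD N.index] := by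
    rw [← pow_succ', Nat.sub_add_cancel (Nat.totient_pos.mpr hnpos)]
    exact Nat.ModEq.pow_totient hfcop
  obtain ⟨e, he0, he1⟩ := Nat.chineseRemainder hcop 0
    (f ^ (Nat.totient N.index - 1) * (N.index - 1))
  have hNe : Nat.card N ∣ e := Nat.modEq_zero_iff_dvd.mp he0
  have hne : N.index ∣ e * f + 1 := by
    rw [← Nat.modEq_zero_iff_dvd]
    have h1 : e * f ≡ (f ^ (Nat.totient N.index - 1) * (N.index - 1)) * f [MOD N.index] :=
      he1.mul_right f
    have h2 : (f ^ (Nat.totient N.index - 1) * (N.index - 1)) * f =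
        (f * f ^ (Nat.totient N.index - 1)) * (N.index - 1) := by ring
    rw [h2] at h1
    have h3 : (f * f ^ (Nat.totient N.index - 1)) * (N.index - 1) ≡ 1 * (N.index - 1)
        [MOD N.index] := hff'.mul_right _
    have h4 : e * f + 1 ≡ 1 * (N.index - 1) + 1 [MOD N.index] := (h1.trans h3).add_right 1
    rw [one_mul, Nat.sub_add_cancel hnpos] at h4
    exact h4.trans (Nat.modEq_zero_iff_dvd.mpr dvd_rfl)
  have hlam : IsLin Γ (Cfsg.detChar χ₀ ^ e) := hμ.pow e
  refine ⟨Cfsg.detChar χ₀ ^ e * χ₀, hlam.mul_irr hχ₀, ?_, ?_⟩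
  · intro n
    rw [Pi.mul_apply, Pi.pow_apply, hres n]
    have h1 : Cfsg.detChar χ₀ (n : Γ) ^ Nat.card N = 1 := (hμ.res N).pow_card_eq_one n
    rw [pow_eq_one_of_dvd' h1 hNe, one_mul]
  · rw [detChar_linear_mul hlam.1 hlam.2 hχ₀c f hf, ← pow_mul, ← pow_succ, ← pow_mul]
    funext x
    rw [Pi.pow_apply, Pi.one_apply]
    apply pow_eq_one_of_dvd' (hμ.pow_card_eq_one x)
    rw [← Subgroup.card_mul_index N, mul_comm (e * f + 1)]
    exact Nat.mul_dvd_mul_left _ hne

/-- Uniqueness of the canonical extension. -/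
theorem canonical_extension_unique (N : Subgroup Γ) [hN : N.Normal]
    (hcop : Nat.Coprime (Nat.card N) N.index) {χ₁ χ₂ : Γ → ℂ}
    (h₁ : Cfsg.IsIrrCharacter Γ χ₁) (h₂ : Cfsg.IsIrrCharacter Γ χ₂)
    (hN₁ : Cfsg.IsIrrCharacter N (fun n : N => χ₁ n)) (hres : ∀ n : N, χ₂ n = χ₁ n)
    (hd₁ : (Cfsg.detOrder χ₁).Coprime N.index) (hd₂ : (Cfsg.detOrder χ₂).Coprime N.index) :
    χ₂ = χ₁ := by
  have : Fintype Γ := Fintype.ofFinite Γ
  obtain ⟨β, hβ, hβN, hβχ⟩ := exists_lin_of_extensions N h₁ h₂ hN₁ hres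
  obtain ⟨f, hf1, hfpos, hfdvd⟩ := exists_degree hN₁
  have hf : χ₁ 1 = f := hf1
  have hfcop : f.Coprime N.index := Nat.Coprime.coprime_dvd_left hfdvd hcop
  have hdet : Cfsg.detChar χ₂ = β ^ f * Cfsg.detChar χ₁ := by
    rw [hβχ]
    exact detChar_linear_mul hβ.1 hβ.2 (isCharacter_of_isIrrCharacter h₁) f hf
  set a := Cfsg.detOrder χ₁ with ha
  set b := Cfsg.detOrder χ₂ with hb
  have h1 : Cfsg.detChar χ₁ ^ (a * b) = 1 := by
    rw [pow_mul, ha]; unfold Cfsg.detOrder; rw [pow_orderOf_eq_one, one_pow]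
  have h2 : Cfsg.detChar χ₂ ^ (a * b) = 1 := by
    rw [mul_comm, pow_mul, hb]; unfold Cfsg.detOrder; rw [pow_orderOf_eq_one, one_pow]
  have h3 : β ^ (f * (a * b)) = 1 := by
    have := congrArg (· ^ (a * b)) hdet
    simp only [mul_pow, h1, h2, mul_one, ← pow_mul] at this
    exact this.symm
  have h4 : β ^ N.index = 1 := by
    funext x
    rw [Pi.pow_apply, Pi.one_apply]
    exact hβ.pow_index_eq_one N hβN x
  have h5 : orderOf β ∣ Nat.gcd (f * (a * b)) N.index :=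
    Nat.dvd_gcd (orderOf_dvd_of_pow_eq_one h3) (orderOf_dvd_of_pow_eq_one h4)
  have h6 : Nat.gcd (f * (a * b)) N.index = 1 :=
    Nat.Coprime.mul_left hfcop (Nat.Coprime.mul_left hd₁ hd₂)
  rw [h6, Nat.dvd_one, orderOf_eq_one_iff] at h5
  rw [hβχ, h5, one_mul]

/-- The canonical extension takes values in the field of `|N|`-th roots of unity: it is invariant
under `x ↦ x ^ k` for `k` coprime to `|Γ|` with `k ≡ 1 mod |N|`. -/
theorem canonical_powMap (N : Subgroup Γ) [hN : N.Normal]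
    (hcop : Nat.Coprime (Nat.card N) N.index) {χ : Γ → ℂ}
    (hχ : Cfsg.IsIrrCharacter Γ χ) (hχN : Cfsg.IsIrrCharacter N (fun n : N => χ n))
    (hd : (Cfsg.detOrder χ).Coprime N.index) (k : ℕ) (hk : k.Coprime (Nat.card Γ))
    (hk1 : k ≡ 1 [MOD Nat.card N]) (x : Γ) : χ (x ^ k) = χ x := by
  have : Fintype Γ := Fintype.ofFinite Γ
  have hψ : Cfsg.IsIrrCharacter Γ (fun g => χ (g ^ k)) := isIrrCharacter_powMap hχ k hk
  have hres : ∀ n : N, (fun g => χ (g ^ k)) (n : Γ) = χ n := by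
    intro n
    show χ ((n : Γ) ^ k) = χ n
    rw [pow_eq_self_of_modEq (pow_card_of_mem N n.2) hk1]
  have hdψ : (Cfsg.detOrder (fun g => χ (g ^ k))).Coprime N.index := by
    unfold Cfsg.detOrder
    rw [detChar_powMap hχ k hk]
    exact Nat.Coprime.coprime_dvd_left (orderOf_pow_dvd k) hd
  exact congrFun (canonical_extension_unique N hcop hχ hψ hχN hres hd hdψ) x

end Canon

end Cfsg.Agent.Lib.Helper75_CanonExt
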