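import Mathlib

/-!
Minimal normal subgroups of finite solvable groups are elementary abelian (helper1).
-/

set_option autoImplicit false

namespace Cfsg.Agent.Lib.Helper1_MinNormal

open Subgroup

variable {G : Type*} [Group G]

/-- The elements of order dividing `p` in a commutative subgroup `M`, as a subgroup of `G`. -/
def omega (M : Subgroup G) (hM : IsMulCommutative M) (p : ℕ) : Subgroup G where
  carrier := {x | x ∈ M ∧ x ^ p = 1}
  one_mem' := ⟨M.one_mem, one_pow p⟩
  mul_mem' := by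
    rintro a b ⟨ha, hap⟩ ⟨hb, hbp⟩
    refine ⟨M.mul_mem ha hb, ?_⟩
    have hcomm : Commute a b := by
      have := hM.is_comm.comm ⟨a, ha⟩ ⟨b, hb⟩
      exact congrArg Subtype.val this
    rw [hcomm.mul_pow, hap, hbp, one_mul]
  inv_mem' := by
    rintro a ⟨ha, hap⟩
    exact ⟨M.inv_mem ha, by rw [inv_pow, hap, inv_one]⟩

theorem mem_omega {M : Subgroup G} {hM : IsMulCommutative M} {p : ℕ} {x : G} :
    x ∈ omega M hM p ↔ x ∈ M ∧ x ^ p = 1 := Iff.rfl

theorem omega_le (M : Subgroup G) (hM : IsMulCommutative M) (p : ℕ) : omega M hM p ≤ M :=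
  fun _ hx => hx.1

theorem omega_normal (M : Subgroup G) [hn : M.Normal] (hM : IsMulCommutative M) (p : ℕ) :
    (omega M hM p).Normal := by
  constructor
  rintro x ⟨hx, hxp⟩ g
  refine ⟨hn.conj_mem x hx g, ?_⟩
  rw [conj_pow, hxp, mul_one, mul_inv_cancel]

/-- A subgroup `N ≠ ⊥` that is minimal among the nontrivial normal subgroups of `G`
and is solvable is elementary abelian. -/
theorem elementary_abelian_of_minimal [Finite G] (N : Subgroup G) [N.Normal]
    (hsolv : Group.IsSolvable N) (hN : N ≠ ⊥)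
    (hmin : ∀ M : Subgroup G, M.Normal → M ≤ N → M = ⊥ ∨ M = N) :
    IsMulCommutative N ∧ ∃ p : ℕ, p.Prime ∧ ∀ x ∈ N, x ^ p = 1 := by
  -- `N` is abelian
  have hlt : ⁅(⊤ : Subgroup N), (⊤ : Subgroup N)⁆ < (⊤ : Subgroup N) := by
    have : Nontrivial N := (nontrivial_iff_ne_bot N).mpr hN
    exact Group.IsSolvable.commutator_lt_top_of_nontrivial N
  have hcomm_normal : (⁅N, N⁆ : Subgroup G).Normal := inferInstance
  have hcomm_le : ⁅N, N⁆ ≤ N := commutator_le_left N N
  have hcomm_ne : ⁅N, N⁆ ≠ N := by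
    intro h
    have h1 : (⁅(⊤ : Subgroup N), (⊤ : Subgroup N)⁆ : Subgroup N).map N.subtype = ⁅N, N⁆ := by
      rw [map_commutator, ← MonoidHom.range_eq_map, range_subtype]
    have h2 : (⁅(⊤ : Subgroup N), (⊤ : Subgroup N)⁆ : Subgroup N).map N.subtype =
        (⊤ : Subgroup N).map N.subtype := by
      rw [h1, h, ← MonoidHom.range_eq_map, range_subtype]
    have h3 := map_injective (subtype_injective N) h2
    exact hlt.ne h3
  have hcomm_bot : ⁅N, N⁆ = ⊥ := (hmin _ hcomm_normal hcomm_le).resolve_right hcomm_ne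
  have hab : IsMulCommutative N := by
    refine ⟨⟨?_⟩⟩
    rintro ⟨a, ha⟩ ⟨b, hb⟩
    apply Subtype.ext
    have := (commutator_eq_bot_iff_le_centralizer (H₁ := N) (H₂ := N)).mp hcomm_bot
    exact (this ha b hb).symm
  refine ⟨hab, ?_⟩
  -- a prime dividing `|N|`
  have hcard : Nat.card N ≠ 1 := fun h => hN (card_eq_one.mp h)
  obtain ⟨p, hp, hdvd⟩ := Nat.exists_prime_and_dvd hcard
  refine ⟨p, hp, ?_⟩
  have : Fact p.Prime := ⟨hp⟩
  obtain ⟨x, hx⟩ := exists_prime_orderOf_dvd_card' p hdvd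
  have hΩn : (omega N hab p).Normal := omega_normal N hab p
  have hΩne : omega N hab p ≠ ⊥ := by
    intro h
    have hx1 : (x : G) ∈ omega N hab p := by
      refine ⟨x.2, ?_⟩
      have : x ^ p = 1 := by rw [← hx]; exact pow_orderOf_eq_one x
      exact_mod_cast congrArg Subtype.val this
    rw [h, mem_bot] at hx1
    have : x = 1 := Subtype.ext hx1
    rw [this, orderOf_one] at hx
    exact hp.one_lt.ne hx
  have hΩ : omega N hab p = N := (hmin _ hΩn (omega_le N hab p)).resolve_left hΩne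
  intro y hy
  rw [← hΩ] at hy
  exact hy.2

/-- A nontrivial solvable normal subgroup of a finite group contains a nontrivial elementary
abelian normal subgroup of the whole group. -/
theorem exists_elementary_abelian_normal_le [Finite G] (N : Subgroup G) [N.Normal]
    (hsolv : Group.IsSolvable N) (hN : N ≠ ⊥) :
    ∃ M : Subgroup G, M.Normal ∧ M ≤ N ∧ M ≠ ⊥ ∧ IsMulCommutative M ∧
      ∃ p : ℕ, p.Prime ∧ ∀ x ∈ M, x ^ p = 1 := by
  obtain ⟨M, -, hMmin⟩ :=
    Finite.exists_le_minimal (p := fun K : Subgroup G => K.Normal ∧ K ≤ N ∧ K ≠ ⊥) (a := N)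
      ⟨inferInstance, le_rfl, hN⟩
  obtain ⟨hM1, hM2, hM3⟩ := hMmin.prop
  have hMsolv : Group.IsSolvable M :=
    Group.isSolvable_of_isSolvable_injective (f := inclusion hM2) (inclusion_injective hM2)
  have hmin : ∀ K : Subgroup G, K.Normal → K ≤ M → K = ⊥ ∨ K = M := by
    intro K hK1 hK2
    by_cases hK : K = ⊥
    · exact Or.inl hK
    · exact Or.inr (le_antisymm hK2 (hMmin.le_of_le ⟨hK1, hK2.trans hM2, hK⟩ hK2))
  obtain ⟨h1, h2⟩ := elementary_abelian_of_minimal M hMsolv hM3 hmin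
  exact ⟨M, hM1, hM2, hM3, h1, h2⟩

end Cfsg.Agent.Lib.Helper1_MinNormal
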