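import Mathlib

/-!
Transport lemmas (helper1): orders of images and preimages of subgroups, conjugation in a
subgroup or a quotient versus conjugation in the ambient group.
-/

set_option autoImplicit false

namespace Cfsg.Agent.Lib.Helper1_Transport

open Subgroup
open scoped Pointwise

variable {G : Type*} [Group G]

/-! ### Orders -/

/-- `|f(K)| * |K ∩ ker f| = |K|`. -/
theorem card_map_mul_card_inf_ker {H : Type*} [Group H] (f : G →* H) (K : Subgroup G) :
    Nat.card (K.map f) * Nat.card (K ⊓ f.ker : Subgroup G) = Nat.card K := by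
  rw [← relIndex_ker (K := K) f, ← inf_relIndex_left K f.ker, ← relIndex_bot_left,
    ← relIndex_bot_left (H := K), mul_comm]
  exact relIndex_mul_relIndex ⊥ (K ⊓ f.ker) K bot_le inf_le_left

/-- The image of `K` modulo a normal subgroup of coprime order has the same order as `K`. -/
theorem card_map_mk'_of_coprime (M : Subgroup G) [M.Normal] (K : Subgroup G)
    (h : (Nat.card K).Coprime (Nat.card M)) :
    Nat.card (K.map (QuotientGroup.mk' M)) = Nat.card K := by
  have h1 := card_map_mul_card_inf_ker (QuotientGroup.mk' M) K
  rw [QuotientGroup.ker_mk', (disjoint_of_coprime_natCard h).eq_bot] at h1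
  simpa using h1

/-- The image of `K ≥ M` modulo the normal subgroup `M`. -/
theorem card_map_mk'_of_le (M : Subgroup G) [M.Normal] (K : Subgroup G) (h : M ≤ K) :
    Nat.card (K.map (QuotientGroup.mk' M)) * Nat.card M = Nat.card K := by
  have h1 := card_map_mul_card_inf_ker (QuotientGroup.mk' M) K
  rwa [QuotientGroup.ker_mk', inf_eq_right.mpr h] at h1

/-- The order of a preimage under the quotient map. -/
theorem card_comap_mk' (M : Subgroup G) [M.Normal] (K : Subgroup (G ⧸ M)) :
    Nat.card (K.comap (QuotientGroup.mk' M)) = Nat.card K * Nat.card M := by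
  have hle : M ≤ K.comap (QuotientGroup.mk' M) := by
    conv_lhs => rw [← QuotientGroup.ker_mk' M]
    exact ker_le_comap _ _
  rw [← card_map_mk'_of_le M _ hle, map_comap_eq_self_of_surjective (QuotientGroup.mk'_surjective M)]

/-- The order of the quotient. -/
theorem card_quotient_mul_card (M : Subgroup G) [M.Normal] :
    Nat.card (G ⧸ M) * Nat.card M = Nat.card G := by
  rw [← index_eq_card, index_mul_card]

/-- The order of a subgroup viewed inside a larger subgroup. -/
theorem card_subgroupOf {H L : Subgroup G} (h : H ≤ L) :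
    Nat.card (H.subgroupOf L) = Nat.card H :=
  Nat.card_congr (subgroupOfEquivOfLe h).toEquiv

/-! ### Conjugation -/

theorem mem_conj_smul_iff {g x : G} {H : Subgroup G} :
    x ∈ MulAut.conj g • H ↔ g⁻¹ * x * g ∈ H := by
  rw [mem_pointwise_smul_iff_inv_smul_mem, ← map_inv, MulAut.smul_def, MulAut.conj_apply, inv_inv]

theorem card_conj_smul (g : G) (H : Subgroup G) :
    Nat.card (MulAut.conj g • H : Subgroup G) = Nat.card H :=
  (Nat.card_congr (equivSMul (MulAut.conj g) H).toEquiv).symm

/-- Conjugation commutes with group homomorphisms. -/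
theorem map_conj_smul {H' : Type*} [Group H'] (f : G →* H') (g : G) (H : Subgroup G) :
    (MulAut.conj g • H).map f = MulAut.conj (f g) • H.map f := by
  ext y
  rw [mem_conj_smul_iff, mem_map, mem_map]
  constructor
  · rintro ⟨x, hx, rfl⟩
    rw [mem_conj_smul_iff] at hx
    exact ⟨g⁻¹ * x * g, hx, by simp⟩
  · rintro ⟨x, hx, hxy⟩
    refine ⟨g * x * g⁻¹, ?_, ?_⟩
    · rw [mem_conj_smul_iff]; simpa [mul_assoc] using hx
    · rw [map_mul, map_mul, hxy, map_inv]; group

/-- Conjugacy inside a subgroup `L` gives conjugacy in `G` by an element of `L`. -/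
theorem conj_of_subgroupOf {L H K : Subgroup G} (hH : H ≤ L) (hK : K ≤ L) (x : L)
    (h : MulAut.conj x • H.subgroupOf L = K.subgroupOf L) :
    MulAut.conj (x : G) • H = K := by
  rw [conj_smul_subgroupOf hH] at h
  have h1 : MulAut.conj (x : G) • H ≤ L := conj_smul_le_of_le hH x
  have := congrArg (fun S => S.map L.subtype) h
  simpa [map_subgroupOf_eq_of_le h1, map_subgroupOf_eq_of_le hK] using this

/-- If two subgroups have conjugate images modulo `M`, then after conjugating they have the same
join with `M`. -/
theorem conj_sup_eq_of_map_conj (M : Subgroup G) [M.Normal] (H K : Subgroup G) (g : G)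
    (h : MulAut.conj (QuotientGroup.mk' M g) • H.map (QuotientGroup.mk' M) =
      K.map (QuotientGroup.mk' M)) :
    (MulAut.conj g • H) ⊔ M = K ⊔ M := by
  rw [← map_conj_smul] at h
  have := congrArg (fun S => S.comap (QuotientGroup.mk' M)) h
  simpa [comap_map_eq, QuotientGroup.ker_mk'] using this

end Cfsg.Agent.Lib.Helper1_Transport
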