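import Mathlib
import Cfsg.Agent.S0002
import Cfsg.Agent.Lib.Helper1_Transport
import Cfsg.Agent.Lib.Helper1_MinNormal

/-!
Conjugacy part of the Schur–Zassenhaus theorem (helper1), in the "order" formulation:
if `N` is a normal Hall subgroup of the finite group `G` and `N` or `G ⧸ N` is solvable, then any
two subgroups of order `[G : N]` are conjugate.
-/

set_option autoImplicit false

namespace Cfsg.Agent.Lib.Helper1_SZ

open Subgroup
open scoped Pointwise
open Cfsg.Agent.Lib.Helper1_Transport Cfsg.Agent.Lib.Helper1_MinNormal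

universe u

/-- A subgroup of order `[G : N]` is a complement of the normal Hall subgroup `N`. -/
theorem isComplement'_of_card_eq_index {G : Type*} [Group G] [Finite G] (N : Subgroup G)
    (hN : (Nat.card N).Coprime N.index) (H : Subgroup G) (hH : Nat.card H = N.index) :
    IsComplement' N H :=
  isComplement'_of_coprime (by rw [hH, card_mul_index]) (by rw [hH]; exact hN)

/-- A complement of `N` has order `[G : N]`. -/
theorem card_eq_index_of_isComplement' {G : Type*} [Group G] [Finite G] (N : Subgroup G)
    (H : Subgroup G) (hH : IsComplement' N H) : Nat.card H = N.index := by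
  have h1 := hH.card_mul_card
  have h2 := N.card_mul_index
  have hpos : 0 < Nat.card N := Nat.card_pos
  exact Nat.eq_of_mul_eq_mul_left hpos (h1.trans h2.symm)

/-- Abelian Schur–Zassenhaus conjugacy, order formulation. -/
theorem sz_abelian_conj {G : Type*} [Group G] [Finite G] (A : Subgroup G) [A.Normal]
    [IsMulCommutative A] (hA : (Nat.card A).Coprime A.index) (H K : Subgroup G)
    (hH : Nat.card H = A.index) (hK : Nat.card K = A.index) :
    ∃ a ∈ A, MulAut.conj a • H = K :=
  Cfsg.Agent.S0002.result A hA H K (isComplement'_of_card_eq_index A hA H hH)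
    (isComplement'_of_card_eq_index A hA K hK)

/-- Schur–Zassenhaus conjugacy when the normal Hall subgroup is solvable (induction). -/
theorem sz_conj_of_solvable_normal_aux (n : ℕ) :
    ∀ (G : Type u) [Group G] [Finite G], Nat.card G = n →
    ∀ (N : Subgroup G) [N.Normal], (Nat.card N).Coprime N.index → Group.IsSolvable N →
    ∀ H K : Subgroup G, Nat.card H = N.index → Nat.card K = N.index →
      ∃ g : G, MulAut.conj g • H = K := by
  induction n using Nat.strong_induction_on with
  | _ n ih =>
  intro G _ _ hn N _ hcop hsolv H K hH hK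
  by_cases hNbot : N = ⊥
  · -- `H = K = ⊤`
    have hidx : N.index = Nat.card G := by rw [hNbot, index_bot]
    have hHtop : H = ⊤ := eq_top_of_card_eq H (hH.trans hidx)
    have hKtop : K = ⊤ := eq_top_of_card_eq K (hK.trans hidx)
    exact ⟨1, by rw [hHtop, hKtop]; simp⟩
  · obtain ⟨M, hMn, hMN, hMbot, hMcomm, -⟩ := exists_elementary_abelian_normal_le N hsolv hNbot
    -- the quotient by `M`
    have hcardM : 1 < Nat.card M := (one_lt_card_iff_ne_bot M).mpr hMbot
    have hMdvd : Nat.card M ∣ Nat.card N := card_dvd_of_le hMN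
    have hcopHM : ∀ X : Subgroup G, Nat.card X = N.index → (Nat.card X).Coprime (Nat.card M) := by
      intro X hX
      rw [hX]
      exact (hcop.coprime_dvd_left hMdvd).symm
    have hlt : Nat.card (G ⧸ M) < n := by
      rw [← hn, ← card_quotient_mul_card M]
      exact lt_mul_of_one_lt_right Nat.card_pos hcardM
    have hsurj : Function.Surjective (QuotientGroup.mk' M) := QuotientGroup.mk'_surjective M
    have hNbar_n : (N.map (QuotientGroup.mk' M)).Normal := Normal.map inferInstance _ hsurj
    have hidx : (N.map (QuotientGroup.mk' M)).index = N.index :=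
      index_map_eq N hsurj (by rw [QuotientGroup.ker_mk']; exact hMN)
    have hcop' : (Nat.card (N.map (QuotientGroup.mk' M))).Coprime
        (N.map (QuotientGroup.mk' M)).index := by
      rw [hidx]
      exact hcop.coprime_dvd_left (card_map_dvd N _)
    have hsolv' : Group.IsSolvable (N.map (QuotientGroup.mk' M)) :=
      Group.isSolvable_of_surjective (MonoidHom.subgroupMap_surjective (QuotientGroup.mk' M) N)
    have hH' : Nat.card (H.map (QuotientGroup.mk' M)) = (N.map (QuotientGroup.mk' M)).index := by
      rw [hidx, card_map_mk'_of_coprime M H (hcopHM H hH), hH]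
    have hK' : Nat.card (K.map (QuotientGroup.mk' M)) = (N.map (QuotientGroup.mk' M)).index := by
      rw [hidx, card_map_mk'_of_coprime M K (hcopHM K hK), hK]
    obtain ⟨gbar, hgbar⟩ := ih _ hlt (G ⧸ M) rfl (N.map (QuotientGroup.mk' M)) hcop' hsolv'
      (H.map (QuotientGroup.mk' M)) (K.map (QuotientGroup.mk' M)) hH' hK'
    obtain ⟨g, rfl⟩ := hsurj gbar
    have hsup := conj_sup_eq_of_map_conj M H K g hgbar
    -- work in `L = K ⊔ M`
    set L : Subgroup G := K ⊔ M with hL
    set H₁ : Subgroup G := MulAut.conj g • H with hH₁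
    have hH₁L : H₁ ≤ L := by rw [← hsup]; exact le_sup_left
    have hKL : K ≤ L := le_sup_left
    have hML : M ≤ L := le_sup_right
    have hcardH₁ : Nat.card H₁ = N.index := by rw [hH₁, card_conj_smul, hH]
    have hAidx : (M.subgroupOf L).index = N.index := by
      change M.relIndex L = N.index
      rw [hL, relIndex_sup_right, ← inf_relIndex_right,
        (disjoint_of_coprime_natCard (hcopHM K hK).symm).eq_bot, relIndex_bot_left, hK]
    have hAcop : (Nat.card (M.subgroupOf L)).Coprime (M.subgroupOf L).index := by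
      rw [hAidx, card_subgroupOf hML]
      exact hcop.coprime_dvd_left hMdvd
    obtain ⟨a, -, ha⟩ := sz_abelian_conj (M.subgroupOf L) hAcop (H₁.subgroupOf L)
      (K.subgroupOf L) (by rw [card_subgroupOf hH₁L, hcardH₁, hAidx])
      (by rw [card_subgroupOf hKL, hK, hAidx])
    have hconj := conj_of_subgroupOf hH₁L hKL a ha
    refine ⟨(a : G) * g, ?_⟩
    rw [map_mul, mul_smul]
    exact hconj

theorem isSolvable_quotient_subgroupOf {G : Type*} [Group G] (N L : Subgroup G) [N.Normal]
    (h : Group.IsSolvable (G ⧸ N)) : Group.IsSolvable (L ⧸ N.subgroupOf L) := by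
  let f : L →* G ⧸ N := (QuotientGroup.mk' N).comp L.subtype
  have hker : f.ker = N.subgroupOf L := by
    ext x
    simp [f, MonoidHom.mem_ker, mem_subgroupOf]
  have h1 : Group.IsSolvable (L ⧸ f.ker) :=
    Group.isSolvable_of_isSolvable_injective (QuotientGroup.kerLift_injective f)
  exact Group.isSolvable_of_surjective (f := (QuotientGroup.quotientMulEquivOfEq hker).toMonoidHom)
    (QuotientGroup.quotientMulEquivOfEq hker).surjective

theorem isSolvable_quotient_map {G : Type*} [Group G] (N P : Subgroup G) [N.Normal] [P.Normal]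
    (hn : (N.map (QuotientGroup.mk' P)).Normal)
    (h : Group.IsSolvable (G ⧸ N)) :
    Group.IsSolvable ((G ⧸ P) ⧸ N.map (QuotientGroup.mk' P)) := by
  have hle : N ≤ (N.map (QuotientGroup.mk' P)).comap (QuotientGroup.mk' P) := le_comap_map _ _
  let f : G ⧸ N →* (G ⧸ P) ⧸ N.map (QuotientGroup.mk' P) :=
    QuotientGroup.map N (N.map (QuotientGroup.mk' P)) (QuotientGroup.mk' P) hle
  have hf : Function.Surjective f := by
    intro y
    obtain ⟨y', rfl⟩ := QuotientGroup.mk'_surjective _ y
    obtain ⟨g, rfl⟩ := QuotientGroup.mk'_surjective _ y'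
    exact ⟨QuotientGroup.mk' N g, rfl⟩
  exact Group.isSolvable_of_surjective hf

theorem exists_normal_pSubgroup {Q : Type*} [Group Q] [Finite Q] [Nontrivial Q]
    (h : Group.IsSolvable Q) :
    ∃ (M : Subgroup Q) (p : ℕ), M.Normal ∧ M ≠ ⊥ ∧ p.Prime ∧ IsPGroup p M := by
  have htop : (⊤ : Subgroup Q) ≠ ⊥ := top_ne_bot
  obtain ⟨M, hM1, -, hM3, -, p, hp, hM4⟩ :=
    exists_elementary_abelian_normal_le (⊤ : Subgroup Q) inferInstance htop
  refine ⟨M, p, hM1, hM3, hp, ?_⟩
  intro x
  refine ⟨1, ?_⟩
  rw [pow_one]
  apply Subtype.ext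
  simpa using hM4 x x.2

theorem map_inf_comap {G H' : Type*} [Group G] [Group H'] (f : G →* H') (H : Subgroup G)
    (M : Subgroup H') : (H ⊓ M.comap f).map f = H.map f ⊓ M := by
  ext y
  simp only [mem_map, mem_inf, mem_comap]
  constructor
  · rintro ⟨x, ⟨hx1, hx2⟩, rfl⟩
    exact ⟨⟨x, hx1, rfl⟩, hx2⟩
  · rintro ⟨⟨x, hx1, rfl⟩, hx2⟩
    exact ⟨x, ⟨hx1, hx2⟩, rfl⟩

/-- Schur–Zassenhaus conjugacy when the quotient by the normal Hall subgroup is solvable. -/
theorem sz_conj_of_solvable_quotient_aux (n : ℕ) :
    ∀ (G : Type u) [Group G] [Finite G], Nat.card G = n →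
    ∀ (N : Subgroup G) [N.Normal], (Nat.card N).Coprime N.index → Group.IsSolvable (G ⧸ N) →
    ∀ H K : Subgroup G, Nat.card H = N.index → Nat.card K = N.index →
      ∃ g : G, MulAut.conj g • H = K := by
  induction n using Nat.strong_induction_on with
  | _ n ih =>
  intro G _ _ hn N _ hcop hsolv H K hH hK
  by_cases hNtop : N = ⊤
  · have hidx : N.index = 1 := by rw [hNtop, index_top]
    have hHbot : H = ⊥ := card_eq_one.mp (hH.trans hidx)
    have hKbot : K = ⊥ := card_eq_one.mp (hK.trans hidx)
    exact ⟨1, by rw [hHbot, hKbot]; simp⟩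
  · have hnt : Nontrivial (G ⧸ N) := by
      rw [← Finite.one_lt_card_iff_nontrivial, ← index_eq_card]
      exact one_lt_index_of_ne_top hNtop
    obtain ⟨Mbar, p, hMbar_n, hMbar_ne, hp, hMbar_p⟩ := exists_normal_pSubgroup hsolv
    have hpf : Fact p.Prime := ⟨hp⟩
    have hπ : Function.Surjective (QuotientGroup.mk' N) := QuotientGroup.mk'_surjective N
    obtain ⟨M, hMdef⟩ : ∃ M : Subgroup G, M = Mbar.comap (QuotientGroup.mk' N) := ⟨_, rfl⟩
    have hMn : M.Normal := by rw [hMdef]; exact hMbar_n.comap _
    -- `p` divides `[G : N]`, so `p ∤ |N|`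
    have hp_dvd_Mbar : p ∣ Nat.card Mbar := by
      obtain ⟨k, hk⟩ := IsPGroup.iff_card.mp hMbar_p
      cases k with
      | zero => exact absurd (card_eq_one.mp (by simpa using hk)) hMbar_ne
      | succ k => rw [hk]; exact dvd_pow_self p (Nat.succ_ne_zero k)
    have hp_dvd_idx : p ∣ N.index := by
      rw [index_eq_card]
      exact dvd_trans hp_dvd_Mbar (card_subgroup_dvd_card Mbar)
    have hpN : ¬ p ∣ Nat.card N := fun h =>
      hp.one_lt.ne' (Nat.eq_one_of_dvd_coprimes hcop h hp_dvd_idx)
    have hcardM : Nat.card M = Nat.card Mbar * Nat.card N := by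
      rw [hMdef, card_comap_mk']
    -- the intersections with `M` have order `|Mbar|`
    have hcard_inf : ∀ X : Subgroup G, Nat.card X = N.index →
        Nat.card (X ⊓ M : Subgroup G) = Nat.card Mbar := by
      intro X hX
      have hXcop : (Nat.card X).Coprime (Nat.card N) := by rw [hX]; exact hcop.symm
      have h1 : X.map (QuotientGroup.mk' N) = ⊤ := by
        apply eq_top_of_card_eq
        rw [card_map_mk'_of_coprime N X hXcop, hX, index_eq_card]
      have h2 : (X ⊓ M).map (QuotientGroup.mk' N) = Mbar := by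
        rw [hMdef, map_inf_comap, h1, top_inf_eq]
      have h3 : (Nat.card (X ⊓ M : Subgroup G)).Coprime (Nat.card N) :=
        hXcop.coprime_dvd_left (card_dvd_of_le inf_le_left)
      rw [← card_map_mk'_of_coprime N (X ⊓ M) h3, h2]
    -- they are Sylow `p`-subgroups of `M`
    have hsyl : ∀ X : Subgroup G, Nat.card X = N.index →
        ∃ S : Sylow p M, (S : Subgroup M) = (X ⊓ M).subgroupOf M := by
      intro X hX
      have hle : X ⊓ M ≤ M := inf_le_right
      have h1 : IsPGroup p ((X ⊓ M).subgroupOf M) := by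
        obtain ⟨k, hk⟩ := IsPGroup.iff_card.mp hMbar_p
        apply IsPGroup.of_card (n := k)
        rw [card_subgroupOf hle, hcard_inf X hX, hk]
      have h2 : ¬ p ∣ ((X ⊓ M).subgroupOf M).index := by
        change ¬ p ∣ (X ⊓ M).relIndex M
        have h3 : (X ⊓ M).relIndex M * Nat.card (X ⊓ M : Subgroup G) = Nat.card M := by
          rw [← relIndex_bot_left, ← relIndex_bot_left (H := M), mul_comm]
          exact relIndex_mul_relIndex ⊥ (X ⊓ M) M bot_le hle
        rw [hcard_inf X hX, hcardM, mul_comm] at h3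
        have hpos : 0 < Nat.card Mbar := Nat.card_pos
        rw [Nat.eq_of_mul_eq_mul_left hpos h3]
        exact hpN
      exact ⟨h1.toSylow h2, rfl⟩
    obtain ⟨SH, hSH⟩ := hsyl H hH
    obtain ⟨SK, hSK⟩ := hsyl K hK
    obtain ⟨x, hx⟩ := MulAction.exists_smul_eq M SH SK
    have hx' : MulAut.conj x • (H ⊓ M).subgroupOf M = (K ⊓ M).subgroupOf M := by
      rw [← hSH, ← hSK, ← hx]
      rfl
    have hconj1 : MulAut.conj (x : G) • (H ⊓ M) = K ⊓ M :=
      conj_of_subgroupOf inf_le_right inf_le_right x hx'
    -- replace `H` by its conjugate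
    obtain ⟨H₁, hH₁def⟩ : ∃ H₁ : Subgroup G, H₁ = MulAut.conj (x : G) • H := ⟨_, rfl⟩
    have hH₁card : Nat.card H₁ = N.index := by rw [hH₁def, card_conj_smul, hH]
    obtain ⟨P, hPdef⟩ : ∃ P : Subgroup G, P = K ⊓ M := ⟨_, rfl⟩
    have hPH₁ : H₁ ⊓ M = P := by
      rw [hPdef, ← hconj1, smul_inf, Normal.conj_smul_eq_self (x : G) M, hH₁def]
    have hPle_H₁ : P ≤ H₁ := by rw [← hPH₁]; exact inf_le_left
    have hPle_K : P ≤ K := by rw [hPdef]; exact inf_le_left
    have hPcard : Nat.card P = Nat.card Mbar := by rw [hPdef]; exact hcard_inf K hK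
    have hPne : P ≠ ⊥ := by
      intro h
      rw [h, card_bot] at hPcard
      rw [← hPcard] at hp_dvd_Mbar
      exact hp.one_lt.ne' (Nat.dvd_one.mp hp_dvd_Mbar)
    -- `H₁` and `K` normalize `P`
    have hnorm : ∀ X : Subgroup G, X ⊓ M = P → X ≤ normalizer (P : Set G) := by
      intro X hX y hy
      rw [mem_normalizer_iff]
      intro z
      rw [← hX]
      simp only [mem_inf]
      constructor
      · rintro ⟨hz1, hz2⟩
        exact ⟨X.mul_mem (X.mul_mem hy hz1) (X.inv_mem hy), hMn.conj_mem z hz2 y⟩
      · rintro ⟨hz1, hz2⟩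
        have e : z = y⁻¹ * (y * z * y⁻¹) * y := by group
        rw [e]
        refine ⟨X.mul_mem (X.mul_mem (X.inv_mem hy) hz1) hy, ?_⟩
        have := hMn.conj_mem _ hz2 y⁻¹
        simpa using this
    have hH₁L : H₁ ≤ normalizer (P : Set G) := hnorm H₁ hPH₁
    have hKL : K ≤ normalizer (P : Set G) := hnorm K hPdef.symm
    obtain ⟨L, hLdef⟩ : ∃ L : Subgroup G, L = normalizer (P : Set G) := ⟨_, rfl⟩
    rw [← hLdef] at hH₁L hKL
    suffices hsuff : ∃ g : G, MulAut.conj g • H₁ = K by
      obtain ⟨g, hg⟩ := hsuff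
      refine ⟨g * x, ?_⟩
      rw [map_mul, mul_smul, ← hH₁def]
      exact hg
    by_cases hLtop : L = ⊤
    · -- `P` is normal in `G`: pass to `G ⧸ P`
      have hPn : P.Normal := normalizer_eq_top_iff.mp (hLdef ▸ hLtop)
      have hcardP : 1 < Nat.card P := (one_lt_card_iff_ne_bot P).mpr hPne
      have hlt : Nat.card (G ⧸ P) < n := by
        rw [← hn, ← card_quotient_mul_card P]
        exact lt_mul_of_one_lt_right Nat.card_pos hcardP
      have hsurj : Function.Surjective (QuotientGroup.mk' P) := QuotientGroup.mk'_surjective P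
      have hNbar_n : (N.map (QuotientGroup.mk' P)).Normal := Normal.map inferInstance _ hsurj
      have hNPcop : (Nat.card N).Coprime (Nat.card P) := by
        obtain ⟨k, hk⟩ := IsPGroup.iff_card.mp hMbar_p
        rw [hPcard, hk]
        exact Nat.Coprime.pow_right _ ((Nat.Prime.coprime_iff_not_dvd hp).mpr hpN).symm
      have hNbar_card : Nat.card (N.map (QuotientGroup.mk' P)) = Nat.card N :=
        card_map_mk'_of_coprime P N hNPcop
      have hNbar_idx : (N.map (QuotientGroup.mk' P)).index * Nat.card P = N.index := by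
        have h1 := (N.map (QuotientGroup.mk' P)).index_mul_card
        have h2 := card_quotient_mul_card P
        have h3 := N.index_mul_card
        rw [hNbar_card] at h1
        have hpos : 0 < Nat.card N := Nat.card_pos
        apply Nat.eq_of_mul_eq_mul_right hpos
        rw [h3, ← h2, ← h1]
        ring
      have hcop' : (Nat.card (N.map (QuotientGroup.mk' P))).Coprime
          (N.map (QuotientGroup.mk' P)).index := by
        rw [hNbar_card]
        exact hcop.coprime_dvd_right (Dvd.intro _ hNbar_idx)
      have hsolv' : Group.IsSolvable ((G ⧸ P) ⧸ N.map (QuotientGroup.mk' P)) :=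
        isSolvable_quotient_map N P hNbar_n hsolv
      have hcard' : ∀ X : Subgroup G, Nat.card X = N.index → P ≤ X →
          Nat.card (X.map (QuotientGroup.mk' P)) = (N.map (QuotientGroup.mk' P)).index := by
        intro X hX hPX
        have h1 := card_map_mk'_of_le P X hPX
        rw [hX, ← hNbar_idx] at h1
        exact Nat.eq_of_mul_eq_mul_right Nat.card_pos h1
      obtain ⟨gbar, hgbar⟩ := ih _ hlt (G ⧸ P) rfl (N.map (QuotientGroup.mk' P)) hcop' hsolv'
        (H₁.map (QuotientGroup.mk' P)) (K.map (QuotientGroup.mk' P))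
        (hcard' H₁ hH₁card hPle_H₁) (hcard' K hK hPle_K)
      obtain ⟨g, rfl⟩ := hsurj gbar
      have hsup := conj_sup_eq_of_map_conj P H₁ K g hgbar
      refine ⟨g, ?_⟩
      have h1 : P ≤ MulAut.conj g • H₁ := by
        have : MulAut.conj g • P ≤ MulAut.conj g • H₁ :=
          pointwise_smul_le_pointwise_smul_iff.mpr hPle_H₁
        rwa [Normal.conj_smul_eq_self] at this
      rwa [sup_eq_left.mpr h1, sup_eq_left.mpr hPle_K] at hsup
    · -- work inside the proper subgroup `L`
      have hlt : Nat.card L < n := by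
        rw [← hn]
        exact lt_of_le_of_ne (card_le_card_group L) (fun h => hLtop (eq_top_of_card_eq L h))
      have hidxL : (N.subgroupOf L).index = N.index := by
        change N.relIndex L = N.index
        apply Nat.dvd_antisymm (relIndex_dvd_index_of_normal N L)
        -- `[G:N] = |K|` divides `|L| = |N ⊓ L| * [L : N ⊓ L]` and is coprime to `|N ⊓ L|`
        have h1 : N.relIndex L * Nat.card (N ⊓ L : Subgroup G) = Nat.card L := by
          rw [← inf_relIndex_right N L, ← relIndex_bot_left, ← relIndex_bot_left (H := L), mul_comm]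
          exact relIndex_mul_relIndex ⊥ (N ⊓ L) L bot_le inf_le_right
        have h2 : N.index ∣ Nat.card L := by rw [← hK]; exact card_dvd_of_le hKL
        rw [← h1] at h2
        have h3 : (N.index).Coprime (Nat.card (N ⊓ L : Subgroup G)) :=
          (hcop.coprime_dvd_left (card_dvd_of_le inf_le_left)).symm
        exact h3.dvd_of_dvd_mul_right h2
      have hcopL : (Nat.card (N.subgroupOf L)).Coprime (N.subgroupOf L).index := by
        rw [hidxL]
        have : Nat.card (N.subgroupOf L) ∣ Nat.card N := by
          rw [← inf_subgroupOf_right, card_subgroupOf inf_le_right]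
          exact card_dvd_of_le inf_le_left
        exact hcop.coprime_dvd_left this
      have hsolvL : Group.IsSolvable (L ⧸ N.subgroupOf L) :=
        isSolvable_quotient_subgroupOf N L hsolv
      obtain ⟨y, hy⟩ := ih _ hlt L rfl (N.subgroupOf L) hcopL hsolvL
        (H₁.subgroupOf L) (K.subgroupOf L)
        (by rw [card_subgroupOf hH₁L, hH₁card, hidxL]) (by rw [card_subgroupOf hKL, hK, hidxL])
      exact ⟨(y : G), conj_of_subgroupOf hH₁L hKL y hy⟩

/-- **Schur–Zassenhaus, conjugacy** (order formulation): if `N` is a normal Hall subgroup of the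
finite group `G` and `N` or `G ⧸ N` is solvable, any two subgroups of order `[G : N]` are
conjugate. -/
theorem sz_conj_card {G : Type u} [Group G] [Finite G] (N : Subgroup G) [N.Normal]
    (hN : (Nat.card N).Coprime N.index) (hsolv : Group.IsSolvable N ∨ Group.IsSolvable (G ⧸ N))
    (H K : Subgroup G) (hH : Nat.card H = N.index) (hK : Nat.card K = N.index) :
    ∃ g : G, MulAut.conj g • H = K := by
  rcases hsolv with h | h
  · exact sz_conj_of_solvable_normal_aux _ G rfl N hN h H K hH hK
  · exact sz_conj_of_solvable_quotient_aux _ G rfl N hN h H K hH hK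

/-- **Schur–Zassenhaus, conjugacy**: complements of a normal Hall subgroup `N` are conjugate if
`N` or `G ⧸ N` is solvable. -/
theorem sz_conj {G : Type u} [Group G] [Finite G] (N : Subgroup G) [N.Normal]
    (hN : (Nat.card N).Coprime N.index) (hsolv : Group.IsSolvable N ∨ Group.IsSolvable (G ⧸ N))
    (H K : Subgroup G) (hH : IsComplement' N H) (hK : IsComplement' N K) :
    ∃ g : G, MulAut.conj g • H = K :=
  sz_conj_card N hN hsolv H K (card_eq_index_of_isComplement' N H hH)
    (card_eq_index_of_isComplement' N K hK)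

end Cfsg.Agent.Lib.Helper1_SZ
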