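import Mathlib
import Cfsg.Agent.Lib.Helper1_SZ

/-!
Glauberman's lemma (helper1): consequences of the Schur–Zassenhaus theorem for actions.
-/

set_option autoImplicit false

namespace Cfsg.Agent.Lib.Helper1_Glauberman

open Subgroup MulAction
open scoped Pointwise
open Cfsg.Agent.Lib.Helper1_Transport Cfsg.Agent.Lib.Helper1_SZ

universe u

theorem conj_smul_eq_self_iff {G : Type*} [Group G] (g : G) (H : Subgroup G) :
    MulAut.conj g • H = H ↔ g ∈ normalizer (H : Set G) := by
  rw [mem_normalizer_iff_map_conj_eq]
  rfl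

/-- An element of a normal subgroup `K` that normalizes a subgroup `H` meeting `K` trivially
centralizes `H`. -/
theorem mem_centralizer_of_mem_normalizer {G : Type*} [Group G] (K H : Subgroup G) [hK : K.Normal]
    (hdisj : K ⊓ H = ⊥) {n : G} (hnK : n ∈ K) (hn : n ∈ normalizer (H : Set G)) :
    n ∈ centralizer (H : Set G) := by
  rw [mem_centralizer_iff]
  intro h hh
  have hh' : h ∈ H := hh
  have h1 : n * h * n⁻¹ ∈ H := (mem_normalizer_iff.mp hn h).mp hh'
  have h2 : n * h * n⁻¹ * h⁻¹ ∈ H := H.mul_mem h1 (H.inv_mem hh')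
  have h3 : n * h * n⁻¹ * h⁻¹ ∈ K := by
    have : n * h * n⁻¹ * h⁻¹ = n * (h * n⁻¹ * h⁻¹) := by group
    rw [this]
    exact K.mul_mem hnK (hK.conj_mem _ (K.inv_mem hnK) h)
  have h4 : n * h * n⁻¹ * h⁻¹ ∈ K ⊓ H := ⟨h3, h2⟩
  rw [hdisj, mem_bot] at h4
  have : n * h = h * n := by
    calc n * h = (n * h * n⁻¹ * h⁻¹) * h * n := by group
      _ = h * n := by rw [h4, one_mul]
  exact this.symm

/-- `K.subgroupOf S` is solvable when `K` is. -/
theorem isSolvable_subgroupOf {G : Type*} [Group G] (K S : Subgroup G)
    (h : Group.IsSolvable K) : Group.IsSolvable (K.subgroupOf S) := by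
  let f : K.subgroupOf S →* K :=
    MonoidHom.codRestrict (S.subtype.comp (K.subgroupOf S).subtype) K (fun x => x.2)
  have hf : Function.Injective f := by
    intro a b hab
    have : ((f a : K) : G) = ((f b : K) : G) := congrArg Subtype.val hab
    exact Subtype.ext (Subtype.ext this)
  exact Group.isSolvable_of_isSolvable_injective hf

/-- Schur–Zassenhaus conjugacy with the conjugating element in the normal Hall subgroup. -/
theorem sz_conj_card_mem {G : Type u} [Group G] [Finite G] (N : Subgroup G) [N.Normal]
    (hN : (Nat.card N).Coprime N.index) (hsolv : Group.IsSolvable N ∨ Group.IsSolvable (G ⧸ N))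
    (H K : Subgroup G) (hH : Nat.card H = N.index) (hK : Nat.card K = N.index) :
    ∃ n ∈ N, MulAut.conj n • H = K := by
  obtain ⟨g, hg⟩ := sz_conj_card N hN hsolv H K hH hK
  have hc : IsComplement' N H := isComplement'_of_card_eq_index N hN H hH
  obtain ⟨⟨⟨n, hn⟩, ⟨h, hh⟩⟩, hnh, -⟩ := (isComplement'_def.mp hc).existsUnique g
  simp only at hnh
  refine ⟨n, hn, ?_⟩
  rw [← hg, ← hnh, map_mul, mul_smul, conj_smul_eq_self_of_mem hh]

/-- **Glauberman's lemma.** Let `K` be a normal Hall subgroup of `G` with complement `H`, with `K`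
or `G ⧸ K` solvable, and let `G` act on `X` with `K` transitive. Then `H` fixes a point, and the
fixed points of `H` are permuted transitively by `C_K(H)`. -/
theorem glauberman {G : Type u} [Group G] [Finite G] {X : Type*} [Nonempty X] [MulAction G X]
    (K H : Subgroup G) [K.Normal] (hc : IsComplement' K H) (hcop : (Nat.card K).Coprime K.index)
    (hsolv : Group.IsSolvable K ∨ Group.IsSolvable (G ⧸ K)) (htrans : IsPretransitive K X) :
    (∃ x : X, ∀ h ∈ H, h • x = x) ∧
    ∀ x y : X, (∀ h ∈ H, h • x = x) → (∀ h ∈ H, h • y = y) →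
      ∃ k ∈ K ⊓ centralizer (H : Set G), k • x = y := by
  have hHcard : Nat.card H = K.index := card_eq_index_of_isComplement' K H hc
  have hdisj : K ⊓ H = ⊥ := hc.disjoint.eq_bot
  -- stabilizers have the full index over their intersection with `K`
  have hstab : ∀ x : X, K.relIndex (stabilizer G x) = K.index := by
    intro x
    have hsup : K ⊔ stabilizer G x = ⊤ := by
      rw [eq_top_iff]
      intro g _
      obtain ⟨k, hk⟩ := exists_smul_eq K x (g • x)
      have hk' : (k : G) • x = g • x := hk
      have h1 : (k : G)⁻¹ * g ∈ stabilizer G x := by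
        rw [mem_stabilizer_iff, mul_smul, ← hk', inv_smul_smul]
      have h2 : g = (k : G) * ((k : G)⁻¹ * g) := by group
      rw [h2]
      exact mul_mem_sup k.2 h1
    rw [← relIndex_sup_left, hsup, relIndex_top_right]
  have hcopS : ∀ x : X, (Nat.card (K.subgroupOf (stabilizer G x))).Coprime
      (K.subgroupOf (stabilizer G x)).index := by
    intro x
    have h1 : (K.subgroupOf (stabilizer G x)).index = K.index := hstab x
    rw [h1]
    have : Nat.card (K.subgroupOf (stabilizer G x)) ∣ Nat.card K := by
      rw [← inf_subgroupOf_right, card_subgroupOf inf_le_right]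
      exact card_dvd_of_le inf_le_left
    exact hcop.coprime_dvd_left this
  have hsolvS : ∀ x : X, Group.IsSolvable (K.subgroupOf (stabilizer G x)) ∨
      Group.IsSolvable (stabilizer G x ⧸ K.subgroupOf (stabilizer G x)) := by
    intro x
    rcases hsolv with h | h
    · left
      exact isSolvable_subgroupOf K (stabilizer G x) h
    · right
      exact isSolvable_quotient_subgroupOf K (stabilizer G x) h
  constructor
  · obtain ⟨x₀⟩ : Nonempty X := inferInstance
    obtain ⟨H', hH'⟩ := exists_right_complement'_of_coprime (hcopS x₀)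
    have hH'card : Nat.card H' = K.index := by
      rw [card_eq_index_of_isComplement' _ _ hH']
      exact hstab x₀
    have hH''card : Nat.card (H'.map (stabilizer G x₀).subtype) = K.index := by
      rw [card_map_of_injective (subtype_injective _), hH'card]
    obtain ⟨g, hg⟩ := sz_conj_card K hcop hsolv _ H hH''card hHcard
    refine ⟨g • x₀, ?_⟩
    intro h hh
    rw [← hg, mem_conj_smul_iff] at hh
    obtain ⟨s, -, hs⟩ := hh
    have hs' : (s : G) = g⁻¹ * h * g := hs
    have hfix : (g⁻¹ * h * g) • x₀ = x₀ := by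
      rw [← hs']
      exact s.2
    calc h • g • x₀ = g • ((g⁻¹ * h * g) • x₀) := by simp [mul_smul]
      _ = g • x₀ := by rw [hfix]
  · intro x y hx hy
    obtain ⟨k, hk⟩ := exists_smul_eq K x y
    have hk' : (k : G) • x = y := hk
    have hHS : H ≤ stabilizer G x := fun h hh => hx h hh
    have hH₁S : MulAut.conj (k : G)⁻¹ • H ≤ stabilizer G x := by
      intro z hz
      rw [mem_conj_smul_iff, inv_inv] at hz
      rw [mem_stabilizer_iff]
      have h1 := hy _ hz
      rw [← hk', mul_smul, mul_smul, inv_smul_smul, smul_left_cancel_iff] at h1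
      exact h1
    obtain ⟨n, hnK, hn⟩ := sz_conj_card_mem (K.subgroupOf (stabilizer G x)) (hcopS x) (hsolvS x)
      ((MulAut.conj (k : G)⁻¹ • H).subgroupOf (stabilizer G x)) (H.subgroupOf (stabilizer G x))
      (by rw [card_subgroupOf hH₁S, card_conj_smul, hHcard]; exact (hstab x).symm)
      (by rw [card_subgroupOf hHS, hHcard]; exact (hstab x).symm)
    have h1 := conj_of_subgroupOf hH₁S hHS n hn
    rw [← mul_smul, ← map_mul, conj_smul_eq_self_iff] at h1
    have hnK' : (n : G) ∈ K := hnK
    have h2 : (n : G) * (k : G)⁻¹ ∈ K := K.mul_mem hnK' (K.inv_mem k.2)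
    have h3 := mem_centralizer_of_mem_normalizer K H hdisj h2 h1
    refine ⟨((n : G) * (k : G)⁻¹)⁻¹, ⟨K.inv_mem h2, (centralizer (H : Set G)).inv_mem h3⟩, ?_⟩
    rw [inv_smul_eq_iff, mul_smul, ← hk', inv_smul_smul]
    exact (n.2).symm

section Ext

variable {A N : Type u} [Group A] [Group N] [MulDistribMulAction A N]
  {X : Type*} [MulAction A X] [MulAction N X]

/-- The action of the semidirect product `N ⋊ A` on `X` built from compatible actions of `N`
and `A`. -/
@[reducible] def semidirectAction
    (hcompat : ∀ (a : A) (n : N) (x : X), a • (n • x) = (a • n) • (a • x)) :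
    MulAction (N ⋊[MulDistribMulAction.toMulAut A N] A) X where
  smul γ x := γ.left • (γ.right • x)
  one_smul x := by
    change (1 : N) • ((1 : A) • x) = x
    rw [one_smul, one_smul]
  mul_smul γ₁ γ₂ x := by
    change (γ₁ * γ₂).left • ((γ₁ * γ₂).right • x) = γ₁.left • (γ₁.right • (γ₂.left • (γ₂.right • x)))
    rw [SemidirectProduct.mul_left, SemidirectProduct.mul_right, mul_smul, mul_smul, hcompat]
    rfl

/-- **Glauberman's lemma**, external form. -/
theorem glauberman_ext [Finite A] [Finite N] [Nonempty X]
    (hcompat : ∀ (a : A) (n : N) (x : X), a • (n • x) = (a • n) • (a • x))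
    (hcop : (Nat.card A).Coprime (Nat.card N)) (hsolv : Group.IsSolvable A ∨ Group.IsSolvable N)
    (htrans : IsPretransitive N X) :
    (∃ x : X, ∀ a : A, a • x = x) ∧
    ∀ x y : X, (∀ a : A, a • x = x) → (∀ a : A, a • y = y) →
      ∃ n : N, (∀ a : A, a • n = n) ∧ n • x = y := by
  let _ := semidirectAction (A := A) (N := N) (X := X) hcompat
  set Γ := N ⋊[MulDistribMulAction.toMulAut A N] A with hΓ
  have hsmul : ∀ (γ : Γ) (x : X), γ • x = γ.left • (γ.right • x) := fun _ _ => rfl
  have hinl : ∀ (n : N) (x : X), (SemidirectProduct.inl n : Γ) • x = n • x := by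
    intro n x
    rw [hsmul]
    simp
  have hinr : ∀ (a : A) (x : X), (SemidirectProduct.inr a : Γ) • x = a • x := by
    intro a x
    rw [hsmul]
    simp
  have : Finite Γ := Finite.of_equiv _ SemidirectProduct.equivProd.symm
  obtain ⟨K, hK⟩ : ∃ K : Subgroup Γ, K = (SemidirectProduct.inl : N →* Γ).range := ⟨_, rfl⟩
  obtain ⟨H, hH⟩ : ∃ H : Subgroup Γ, H = (SemidirectProduct.inr : A →* Γ).range := ⟨_, rfl⟩
  have hKn : K.Normal := by
    rw [hK, SemidirectProduct.range_inl_eq_ker_rightHom]
    exact MonoidHom.normal_ker _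
  have hKcard : Nat.card K = Nat.card N := by
    rw [hK]
    exact Nat.card_congr (MonoidHom.ofInjective SemidirectProduct.inl_injective).symm.toEquiv
  have hHcard : Nat.card H = Nat.card A := by
    rw [hH]
    exact Nat.card_congr (MonoidHom.ofInjective SemidirectProduct.inr_injective).symm.toEquiv
  have hΓcard : Nat.card Γ = Nat.card N * Nat.card A := SemidirectProduct.card
  have hKidx : K.index = Nat.card A := by
    have h1 := K.card_mul_index
    rw [hKcard, hΓcard] at h1
    exact Nat.eq_of_mul_eq_mul_left Nat.card_pos h1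
  have hcopK : (Nat.card K).Coprime K.index := by
    rw [hKcard, hKidx]; exact hcop.symm
  have hc : IsComplement' K H :=
    isComplement'_of_card_eq_index K hcopK H (by rw [hHcard, hKidx])
  have hsolvK : Group.IsSolvable K ∨ Group.IsSolvable (Γ ⧸ K) := by
    rcases hsolv with h | h
    · right
      have e : Γ ⧸ (SemidirectProduct.rightHom : Γ →* A).ker ≃* A :=
        QuotientGroup.quotientKerEquivOfSurjective _ SemidirectProduct.rightHom_surjective
      have hker : K = (SemidirectProduct.rightHom : Γ →* A).ker := by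
        rw [hK, SemidirectProduct.range_inl_eq_ker_rightHom]
      subst hker
      exact Group.isSolvable_of_surjective (f := e.symm.toMonoidHom) e.symm.surjective
    · left
      rw [hK]
      exact Group.isSolvable_of_surjective
        (f := (MonoidHom.ofInjective SemidirectProduct.inl_injective).toMonoidHom)
        (MonoidHom.ofInjective SemidirectProduct.inl_injective).surjective
  have htransK : IsPretransitive K X := by
    constructor
    intro x y
    obtain ⟨n, hn⟩ := exists_smul_eq N x y
    refine ⟨⟨SemidirectProduct.inl n, by rw [hK]; exact ⟨n, rfl⟩⟩, ?_⟩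
    change (SemidirectProduct.inl n : Γ) • x = y
    rw [hinl, hn]
  obtain ⟨h1, h2⟩ := glauberman K H hc hcopK hsolvK htransK
  have hfix : ∀ x : X, (∀ h ∈ H, h • x = x) ↔ ∀ a : A, a • x = x := by
    intro x
    constructor
    · intro h a
      rw [← hinr]
      exact h _ (by rw [hH]; exact ⟨a, rfl⟩)
    · intro h γ hγ
      rw [hH] at hγ
      obtain ⟨a, rfl⟩ := hγ
      rw [hinr]; exact h a
  constructor
  · obtain ⟨x, hx⟩ := h1
    exact ⟨x, (hfix x).mp hx⟩
  · intro x y hx hy
    obtain ⟨k, ⟨hkK, hkC⟩, hk⟩ := h2 x y ((hfix x).mpr hx) ((hfix y).mpr hy)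
    rw [hK] at hkK
    obtain ⟨n, rfl⟩ := hkK
    refine ⟨n, ?_, ?_⟩
    · intro a
      have h3 := (mem_centralizer_iff.mp hkC) (SemidirectProduct.inr a) (by rw [hH]; exact ⟨a, rfl⟩)
      have h4 := congrArg SemidirectProduct.left h3
      rw [SemidirectProduct.mul_left, SemidirectProduct.mul_left, SemidirectProduct.left_inr,
        SemidirectProduct.left_inl, SemidirectProduct.right_inr, SemidirectProduct.right_inl,
        one_mul, map_one] at h4
      simpa using h4
    · rw [← hinl]; exact hk

end Ext

end Cfsg.Agent.Lib.Helper1_Glauberman
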