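import Mathlib
import Cfsg.Agent.S0059

/-!
# Glauberman's lemma in relative form (helper74)

A version of Glauberman's lemma (imported from `Cfsg.Agent.S0059`) for subgroups `G`, `S`, `N`
of one ambient finite group acting on a set, where only `[G : N]` is coprime to `|S|` and `N`
acts trivially.
-/

set_option autoImplicit false

namespace Cfsg.Agent.Lib.Helper74_Glauberman

open Subgroup

/-- **Glauberman's lemma, relative form.**  Inside a finite group `Γ` acting on `X`, let `S`
normalise `G`, let `N ≤ G` be normal in `G`, with `[G : N]` coprime to `|S|` and `S` or `G/N`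
solvable.  Let `Y ⊆ X` be a nonempty subset preserved by `G` and `S`, on which `N` acts
trivially and `G` acts transitively.  Then `S` fixes a point of `Y`. -/
theorem glauberman_rel {Γ : Type*} [Group Γ] [Finite Γ] {X : Type*} [MulAction Γ X]
    (G S N : Subgroup Γ) (hnorm : ∀ s ∈ S, ∀ g ∈ G, s * g * s⁻¹ ∈ G)
    [hNn : (N.subgroupOf G).Normal]
    (hcop : (N.relIndex G).Coprime (Nat.card S))
    (hsolv : Group.IsSolvable S ∨ Group.IsSolvable (G ⧸ N.subgroupOf G))
    (Y : Set X) (hYne : Y.Nonempty)
    (hGY : ∀ g ∈ G, ∀ y ∈ Y, g • y ∈ Y) (hSY : ∀ s ∈ S, ∀ y ∈ Y, s • y ∈ Y)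
    (hNY : ∀ n ∈ N, ∀ y ∈ Y, n • y = y)
    (htrans : ∀ y ∈ Y, ∀ y' ∈ Y, ∃ g ∈ G, g • y = y') :
    ∃ y ∈ Y, ∀ s ∈ S, s • y = y := by
  classical
  -- the subgroup of elements preserving `Y`
  let P : Subgroup Γ :=
    { carrier := {t | (∀ y ∈ Y, t • y ∈ Y) ∧ (∀ y ∈ Y, t⁻¹ • y ∈ Y)}
      mul_mem' := by
        rintro a b ⟨ha, ha'⟩ ⟨hb, hb'⟩
        refine ⟨fun y hy => ?_, fun y hy => ?_⟩
        · rw [mul_smul]; exact ha _ (hb y hy)
        · rw [mul_inv_rev, mul_smul]; exact hb' _ (ha' y hy)
      one_mem' := by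
        refine ⟨fun y hy => ?_, fun y hy => ?_⟩
        · rwa [one_smul]
        · rwa [inv_one, one_smul]
      inv_mem' := by
        rintro a ⟨ha, ha'⟩
        refine ⟨ha', ?_⟩
        rw [inv_inv]; exact ha }
  set T : Subgroup Γ := G ⊔ S with hT
  have hGT : G ≤ T := le_sup_left
  have hST : S ≤ T := le_sup_right
  have hTP : T ≤ P := by
    apply sup_le
    · intro g hg
      exact ⟨hGY g hg, hGY g⁻¹ (G.inv_mem hg)⟩
    · intro s hs
      exact ⟨hSY s hs, hSY s⁻¹ (S.inv_mem hs)⟩
  have hTY : ∀ t ∈ T, ∀ y ∈ Y, t • y ∈ Y := fun t ht => (hTP ht).1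
  -- `T` acts on `Y`
  let actT : MulAction T Y :=
    { smul := fun t y => ⟨(t : Γ) • (y : X), hTY t t.2 y y.2⟩
      one_smul := fun y => Subtype.ext (one_smul Γ (y : X))
      mul_smul := fun a b y => Subtype.ext (mul_smul (a : Γ) (b : Γ) (y : X)) }
  have hsmul : ∀ (t : T) (y : Y), ((t • y : Y) : X) = (t : Γ) • (y : X) := fun _ _ => rfl
  let φ : T →* Equiv.Perm Y := MulAction.toPermHom T Y
  let f : T →* φ.range := φ.rangeRestrict
  have hf : Function.Surjective f := φ.rangeRestrict_surjective
  have hfapp : ∀ (t : T) (y : Y), ((f t : φ.range) : Equiv.Perm Y) y = t • y := fun _ _ => rfl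
  have : Finite φ.range := Finite.of_surjective f hf
  have : Nonempty Y := hYne.to_subtype
  set K : Subgroup φ.range := (G.subgroupOf T).map f with hK
  set H : Subgroup φ.range := (S.subgroupOf T).map f with hH
  -- `G` is normal in `T`
  have hGnormal : (G.subgroupOf T).Normal := by
    rw [normal_subgroupOf_iff_le_normalizer hGT]
    apply sup_le
    · exact le_normalizer
    · intro s hs
      rw [mem_normalizer_iff]
      intro g
      constructor
      · exact hnorm s hs g
      · intro h
        have := hnorm s⁻¹ (S.inv_mem hs) _ h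
        simpa [mul_assoc] using this
  have hKn : K.Normal := hGnormal.map f hf
  -- cardinalities
  have hNker : N.subgroupOf T ≤ f.ker := by
    intro t ht
    rw [MonoidHom.mem_ker]
    apply Subtype.ext
    apply Equiv.Perm.ext
    intro y
    apply Subtype.ext
    show (t : Γ) • (y : X) = (y : X)
    exact hNY t (mem_subgroupOf.mp ht) y y.2
  have hKcard : Nat.card K ∣ N.relIndex G := by
    rw [hK, ← relIndex_ker, ← relIndex_subgroupOf (H := N) hGT]
    exact relIndex_dvd_of_le_left _ hNker
  have hHcard : Nat.card H ∣ Nat.card S := by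
    rw [hH]
    refine (card_map_dvd (S.subgroupOf T) f).trans ?_
    rw [Nat.card_congr (subgroupOfEquivOfLe hST).toEquiv]
  have hcopKH : (Nat.card K).Coprime (Nat.card H) :=
    Nat.Coprime.coprime_dvd_left hKcard (Nat.Coprime.coprime_dvd_right hHcard hcop)
  have hsup : K ⊔ H = ⊤ := by
    rw [hK, hH, ← Subgroup.map_sup, ← subgroupOf_sup hGT hST, subgroupOf_self, ← MonoidHom.range_eq_map,
      MonoidHom.range_eq_top]
    exact hf
  have hc : IsComplement' K H := by
    apply isComplement'_of_disjoint_and_mul_eq_univ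
    · exact disjoint_of_coprime_natCard hcopKH
    · rw [← normal_mul, hsup]; rfl
  have hcopidx : (Nat.card K).Coprime K.index := by
    rw [hc.symm.index_eq_card]; exact hcopKH
  -- solvability
  have hsolv' : Group.IsSolvable K ∨ Group.IsSolvable (φ.range ⧸ K) := by
    rcases hsolv with hS | hGN
    · right
      let ψ : S →* φ.range ⧸ K := (QuotientGroup.mk' K).comp (f.comp (inclusion hST))
      have hψ : Function.Surjective ψ := by
        intro q
        obtain ⟨x, rfl⟩ := QuotientGroup.mk'_surjective K q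
        obtain ⟨⟨k, h⟩, hkh⟩ := hc.2 x
        obtain ⟨s', hs', hfs'⟩ := (mem_map.mp h.2)
        refine ⟨⟨(s' : Γ), mem_subgroupOf.mp hs'⟩, ?_⟩
        show (QuotientGroup.mk' K) (f (inclusion hST ⟨(s' : Γ), mem_subgroupOf.mp hs'⟩)) = _
        have h1 : inclusion hST ⟨(s' : Γ), mem_subgroupOf.mp hs'⟩ = s' := Subtype.ext rfl
        rw [h1, hfs']
        simp only at hkh
        rw [← hkh]
        simp only [QuotientGroup.mk'_apply]
        rw [eq_comm, QuotientGroup.eq]
        simp only [mul_inv_rev]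
        exact hKn.conj_mem' _ (K.inv_mem k.2) _
      exact Group.isSolvable_of_surjective hψ
    · left
      let fG : G →* K := (f.comp (inclusion hGT)).codRestrict K (fun g =>
        mem_map_of_mem f (mem_subgroupOf.mpr g.2))
      have hker : N.subgroupOf G ≤ fG.ker := by
        intro g hg
        rw [MonoidHom.mem_ker]
        apply Subtype.ext
        show f (inclusion hGT g) = 1
        have : inclusion hGT g ∈ N.subgroupOf T := mem_subgroupOf.mpr (mem_subgroupOf.mp hg)
        exact hNker this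
      let ψ : G ⧸ N.subgroupOf G →* K := QuotientGroup.lift (N.subgroupOf G) fG hker
      have hψ : Function.Surjective ψ := by
        rintro ⟨k, hk⟩
        obtain ⟨t, ht, hft⟩ := mem_map.mp hk
        refine ⟨QuotientGroup.mk ⟨(t : Γ), mem_subgroupOf.mp ht⟩, ?_⟩
        apply Subtype.ext
        show f (inclusion hGT ⟨(t : Γ), mem_subgroupOf.mp ht⟩) = k
        have h1 : inclusion hGT ⟨(t : Γ), mem_subgroupOf.mp ht⟩ = t := Subtype.ext rfl
        rw [h1, hft]
      exact Group.isSolvable_of_surjective hψ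
  -- transitivity
  have htr : MulAction.IsPretransitive K Y := by
    constructor
    intro y y'
    obtain ⟨g, hg, hgy⟩ := htrans y y.2 y' y'.2
    refine ⟨⟨f ⟨g, hGT hg⟩, mem_map_of_mem f (mem_subgroupOf.mpr hg)⟩, ?_⟩
    apply Subtype.ext
    exact hgy
  obtain ⟨x, hx⟩ := (Cfsg.Agent.S0059.result K H hc hcopidx hsolv' htr).1
  refine ⟨(x : X), x.2, fun s hs => ?_⟩
  have h1 : f ⟨s, hST hs⟩ ∈ H := mem_map_of_mem f (mem_subgroupOf.mpr hs)
  have h2 := hx _ h1
  exact congrArg Subtype.val h2

end Cfsg.Agent.Lib.Helper74_Glauberman
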