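import Cfsg.Agent.Lib.Helper81_CharComplete

/-!
# Expansion of class functions in irreducible characters; second orthogonality (helper81)
-/

set_option autoImplicit false

namespace Cfsg.Agent.Lib.Helper81_CharExpand

open Cfsg Cfsg.Agent.Lib.Helper81_CharBasic Cfsg.Agent.Lib.Helper81_CharOrth
  Cfsg.Agent.Lib.Helper81_CharComplete

universe u

variable {G : Type u} [Group G]

theorem isClassFunction_comp_inv {f : G → ℂ} (hf : IsClassFunction G f) :
    IsClassFunction G (fun g => f g⁻¹) := by
  intro g h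
  have := hf g⁻¹ h
  simpa [mul_inv_rev, mul_assoc] using this

/-- Completeness, with `χ g⁻¹` in place of `χ g`. -/
theorem eq_zero_of_forall_irr_sum_mul_inv_eq_zero [Fintype G] (f : G → ℂ)
    (hf : IsClassFunction G f)
    (h : ∀ χ : G → ℂ, IsIrrCharacter G χ → ∑ g : G, f g * χ g⁻¹ = 0) : f = 0 := by
  have h0 : (fun g => f g⁻¹) = 0 := by
    apply eq_zero_of_forall_irr_sum_mul_eq_zero _ (isClassFunction_comp_inv hf)
    intro χ hχ
    rw [← h χ hχ]
    exact Fintype.sum_equiv (Equiv.inv G) _ _ (fun g => by simp)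
  funext g
  have := congrFun h0 g⁻¹
  simpa using this

theorem isClassFunction_sub {f₁ f₂ : G → ℂ} (h₁ : IsClassFunction G f₁)
    (h₂ : IsClassFunction G f₂) : IsClassFunction G (f₁ - f₂) := by
  intro g h
  simp [h₁ g h, h₂ g h]

theorem isClassFunction_sum {ι : Type*} (s : Finset ι) (F : ι → G → ℂ)
    (h : ∀ i ∈ s, IsClassFunction G (F i)) : IsClassFunction G (∑ i ∈ s, F i) := by
  intro g k
  simp only [Finset.sum_apply]
  exact Finset.sum_congr rfl fun i hi => h i hi g k

theorem isClassFunction_smul (c : ℂ) {f : G → ℂ} (h : IsClassFunction G f) :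
    IsClassFunction G (c • f) := by
  intro g k
  simp [h g k]

theorem isClassFunction_irr (χ : IrrCharacter G) : IsClassFunction G (χ : G → ℂ) :=
  IsCharacter.isClassFunction (IsIrrCharacter.isCharacter χ.2)

/-- **Expansion of a class function** in terms of the irreducible characters (bilinear version
of the inner product: `⟨f, χ⟩ = |G|⁻¹ ∑ f g χ g⁻¹`). -/
theorem classFunction_expansion [Fintype G] [Fintype (IrrCharacter G)] (f : G → ℂ)
    (hf : IsClassFunction G f) :
    f = ∑ χ : IrrCharacter G,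
      ((Nat.card G : ℂ)⁻¹ * ∑ g : G, f g * (χ : G → ℂ) g⁻¹) • (χ : G → ℂ) := by
  classical
  set a : IrrCharacter G → ℂ := fun χ => (Nat.card G : ℂ)⁻¹ * ∑ g : G, f g * (χ : G → ℂ) g⁻¹
    with ha
  have hcf : IsClassFunction G (f - ∑ χ : IrrCharacter G, a χ • (χ : G → ℂ)) :=
    isClassFunction_sub hf (isClassFunction_sum _ _
      fun χ _ => isClassFunction_smul _ (isClassFunction_irr χ))
  have h0 : f - ∑ χ : IrrCharacter G, a χ • (χ : G → ℂ) = 0 := by
    apply eq_zero_of_forall_irr_sum_mul_inv_eq_zero _ hcf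
    intro ψ hψ
    simp only [Pi.sub_apply, Finset.sum_apply, Pi.smul_apply, smul_eq_mul, sub_mul,
      Finset.sum_sub_distrib, Finset.sum_mul]
    rw [Finset.sum_comm]
    have : ∀ χ : IrrCharacter G, ∑ g : G, a χ * (χ : G → ℂ) g * ψ g⁻¹
        = a χ * ∑ g : G, (χ : G → ℂ) g * ψ g⁻¹ := by
      intro χ
      rw [Finset.mul_sum]
      exact Finset.sum_congr rfl fun g _ => by ring
    simp only [this]
    rw [Finset.sum_eq_single (⟨ψ, hψ⟩ : IrrCharacter G)]
    · rw [sum_irr_mul_self_inv hψ, ha]
      simp only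
      field_simp [card_ne_zero (G := G)]
      ring
    · intro χ _ hne
      rw [sum_irr_mul_irr_inv_of_ne χ.2 hψ (fun h => hne (Subtype.ext h)), mul_zero]
    · intro h; exact absurd (Finset.mem_univ _) h
  exact sub_eq_zero.mp h0

/-- Pointwise form of the expansion. -/
theorem classFunction_expansion_apply [Fintype G] [Fintype (IrrCharacter G)] (f : G → ℂ)
    (hf : IsClassFunction G f) (x : G) :
    f x = ∑ χ : IrrCharacter G,
      ((Nat.card G : ℂ)⁻¹ * ∑ g : G, f g * (χ : G → ℂ) g⁻¹) * (χ : G → ℂ) x := by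
  conv_lhs => rw [classFunction_expansion f hf]
  simp [Finset.sum_apply]

end Cfsg.Agent.Lib.Helper81_CharExpand
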