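import Cfsg.Agent.Lib.Helper74_FS2
import Cfsg.Agent.Lib.Helper81_CharExpand
import Cfsg.Agent.Lib.Helper80_CharBasic

/-!
# Frobenius–Schur indicator, part 3 (helper74): irreducible characters, the involution count

Everything lives in `Cfsg.Agent.Lib.Helper74_FS`.
-/

set_option autoImplicit false

namespace Cfsg.Agent.Lib.Helper74_FS

open scoped ComplexConjugate
open Cfsg

variable {G : Type*} [Group G] [Fintype G]

/-- FS trichotomy for irreducible characters. -/
theorem fsInd_irr {χ : G → ℂ} (hχ : IsIrrCharacter G χ) :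
    fsInd χ = 0 ∨ ((∀ g : G, (χ g).im = 0) ∧ (fsInd χ = 1 ∨ fsInd χ = -1)) := by
  obtain ⟨n, ρ, hirr, rfl⟩ := hχ
  have := hirr
  rcases fsInd_trichotomy ρ with h | h
  · exact Or.inl h.1
  · exact Or.inr h

theorem fsInd_irr_conj {χ : G → ℂ} (hχ : IsIrrCharacter G χ) : conj (fsInd χ) = fsInd χ := by
  rcases fsInd_irr hχ with h | ⟨-, h | h⟩ <;> simp [h]

/-- number of square roots, as a complex valued function -/
noncomputable def sqrtCount (x : G) : ℂ :=
  haveI := Classical.decEq G
  ((Finset.univ.filter (fun s : G => s * s = x)).card : ℂ)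

theorem sqrtCount_isClassFunction : IsClassFunction G (sqrtCount (G := G)) := by
  classical
  intro g h
  unfold sqrtCount
  congr 1
  refine Finset.card_bij' (fun s _ => h⁻¹ * s * h) (fun s _ => h * s * h⁻¹) ?_ ?_ ?_ ?_
  · intro s hs
    simp only [Finset.mem_filter, Finset.mem_univ, true_and] at hs ⊢
    calc h⁻¹ * s * h * (h⁻¹ * s * h) = h⁻¹ * (s * s) * h := by group
      _ = g := by rw [hs]; group
  · intro s hs
    simp only [Finset.mem_filter, Finset.mem_univ, true_and] at hs ⊢
    calc h * s * h⁻¹ * (h * s * h⁻¹) = h * (s * s) * h⁻¹ := by group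
      _ = _ := by rw [hs]
  · intro s _; group
  · intro s _; group

theorem sum_sqrtCount_mul (F : G → ℂ) : ∑ g : G, sqrtCount g * F g = ∑ s : G, F (s * s) := by
  classical
  unfold sqrtCount
  have h1 : ∀ g : G, ((Finset.univ.filter (fun s : G => s * s = g)).card : ℂ) * F g =
      ∑ s ∈ Finset.univ.filter (fun s : G => s * s = g), F (s * s) := by
    intro g
    rw [Finset.card_eq_sum_ones, Nat.cast_sum, Finset.sum_mul]
    refine Finset.sum_congr rfl fun s hs => ?_
    simp only [Finset.mem_filter, Finset.mem_univ, true_and] at hs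
    simp [hs]
  simp only [h1]
  exact Finset.sum_fiberwise Finset.univ (fun s : G => s * s) (fun s => F (s * s))

/-- **Frobenius–Schur count**: the number of solutions of `s * s = 1` is `∑ ν(χ) χ(1)`. -/
theorem sqrtCount_one_eq [Fintype (IrrCharacter G)] :
    sqrtCount (1 : G) = ∑ χ : IrrCharacter G, fsInd (χ : G → ℂ) * (χ : G → ℂ) 1 := by
  rw [Helper81_CharExpand.classFunction_expansion_apply _ sqrtCount_isClassFunction 1]
  refine Finset.sum_congr rfl fun χ _ => ?_
  congr 1
  rw [sum_sqrtCount_mul (fun g => (χ : G → ℂ) g⁻¹), ← fsInd_irr_conj χ.2]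
  unfold fsInd
  rw [map_mul, map_inv₀, Complex.conj_natCast, map_sum]
  congr 1
  refine Finset.sum_congr rfl fun s _ => ?_
  exact Helper80_CharBasic.irr_inv χ (s * s)

/-- **Sum of squares of the degrees.** -/
theorem sum_deg_sq [Fintype (IrrCharacter G)] :
    ∑ χ : IrrCharacter G, (χ : G → ℂ) 1 * (χ : G → ℂ) 1 = (Nat.card G : ℂ) := by
  classical
  have hδ : IsClassFunction G (fun x : G => if x = 1 then (1 : ℂ) else 0) := by
    intro g h
    have : h * g * h⁻¹ = 1 ↔ g = 1 := by
      constructor
      · intro hh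
        have : g = h⁻¹ * (h * g * h⁻¹) * h := by group
        rw [this, hh]; group
      · rintro rfl; group
    simp only [this]
  have h := Helper81_CharExpand.classFunction_expansion_apply _ hδ 1
  simp only [if_true, ite_mul, one_mul, zero_mul, Finset.sum_ite_eq', Finset.mem_univ, inv_one] at h
  have hc : (Nat.card G : ℂ) ≠ 0 := card_ne_zero
  have h2 : (Nat.card G : ℂ) * 1 = (Nat.card G : ℂ) *
      ∑ χ : IrrCharacter G, (Nat.card G : ℂ)⁻¹ * (χ : G → ℂ) 1 * (χ : G → ℂ) 1 := by rw [← h]
  rw [mul_one, Finset.mul_sum] at h2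
  rw [h2]
  refine Finset.sum_congr rfl fun χ _ => ?_
  field_simp

/-- The number of irreducible characters is at most the number of conjugacy classes. -/
theorem card_irr_le : Nat.card (IrrCharacter G) ≤ Nat.card (ConjClasses G) := by
  classical
  have : Finite (IrrCharacter G) := Helper81_CharOrth.finite_irrCharacter
  have := Fintype.ofFinite (IrrCharacter G)
  have : Fintype (ConjClasses G) := Fintype.ofFinite _
  let L : (ConjClasses G → ℂ) →ₗ[ℂ] (G → ℂ) :=
    { toFun := fun F g => F (ConjClasses.mk g)
      map_add' := fun _ _ => rfl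
      map_smul' := fun _ _ => rfl }
  let v : IrrCharacter G → (ConjClasses G → ℂ) := fun χ =>
    Quotient.lift (χ : G → ℂ) (fun a b hab => by
      have hab' : IsConj a b := hab
      exact Helper80_CharBasic.irr_isConj χ hab')
  have hv : LinearIndependent ℂ v := by
    apply LinearIndependent.of_comp L
    have : L ∘ v = fun χ : IrrCharacter G => (χ : G → ℂ) := by
      funext χ g
      rfl
    rw [this]
    exact Helper81_CharOrth.linearIndependent_irr
  have := hv.fintype_card_le_finrank
  rw [Module.finrank_fintype_fun_eq_card] at this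
  simpa [Nat.card_eq_fintype_card] using this

end Cfsg.Agent.Lib.Helper74_FS
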