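import Cfsg.Agent.Lib.Helper15_Linear
import Mathlib.GroupTheory.FiniteAbelian.Duality
import Mathlib.RingTheory.RootsOfUnity.AlgebraicallyClosed
import Mathlib.RingTheory.SimpleModule.Rank
import Mathlib.GroupTheory.Abelianization.Defs

/-!
# Linear characters (helper79)

* `isIrrCharacter_of_hom` : a homomorphism `G →* ℂˣ` is an irreducible character;
* `linearEquiv` : irreducible characters of degree one correspond to `G →* ℂˣ`;
* `card_linear` : their number is the index of the commutator subgroup (statement S0154);
* `linear_commutator` : a linear character is trivial on the commutator subgroup.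
-/

set_option autoImplicit false

namespace Cfsg.Agent.Lib.Helper79_Linear

open Cfsg Cfsg.Agent.Lib.Helper15_Linear

universe u

variable {G : Type u} [Group G]

/-- The one-dimensional representation attached to a homomorphism to `ℂˣ`. -/
noncomputable def repOfHom (f : G →* ℂˣ) : Representation ℂ G (Fin 1 → ℂ) where
  toFun g := ((f g : ℂˣ) : ℂ) • (1 : Module.End ℂ (Fin 1 → ℂ))
  map_one' := by simp
  map_mul' a b := by
    rw [map_mul, Units.val_mul, smul_mul_smul_comm, mul_one]

theorem repOfHom_character (f : G →* ℂˣ) : (repOfHom f).character = fun g => ((f g : ℂˣ) : ℂ) := by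
  funext g
  simp [Representation.character, repOfHom]

theorem repOfHom_isIrreducible (f : G →* ℂˣ) : (repOfHom f).IsIrreducible := by
  have hfr : Module.finrank ℂ (Fin 1 → ℂ) = 1 := by simp
  haveI : IsSimpleModule ℂ (Fin 1 → ℂ) := isSimpleModule_iff_finrank_eq_one.2 hfr
  haveI : Nontrivial (Subrepresentation (repOfHom f)) := by
    refine ⟨⟨⊥, ⊤, ?_⟩⟩
    intro h
    have h2 := congrArg Subrepresentation.toSubmodule h
    exact bot_ne_top (α := Submodule ℂ (Fin 1 → ℂ)) h2
  refine ⟨fun W => ?_⟩
  rcases eq_bot_or_eq_top W.toSubmodule with h | h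
  · left; exact Subrepresentation.toSubmodule_injective h
  · right; exact Subrepresentation.toSubmodule_injective h

/-- A homomorphism to `ℂˣ` is an irreducible character. -/
theorem isIrrCharacter_of_hom (f : G →* ℂˣ) : IsIrrCharacter G (fun g => ((f g : ℂˣ) : ℂ)) :=
  ⟨1, repOfHom f, repOfHom_isIrreducible f, repOfHom_character f⟩

theorem isCharacter_of_irr {χ : G → ℂ} (h : IsIrrCharacter G χ) : IsCharacter G χ := by
  obtain ⟨n, ρ, _, hρ⟩ := h
  exact ⟨n, ρ, hρ⟩

/-- The homomorphism to `ℂˣ` attached to an irreducible character of degree one. -/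
noncomputable def homOfLinear (χ : {χ : IrrCharacter G // (χ : G → ℂ) 1 = 1}) : G →* ℂˣ :=
  (linearHom (χ.1 : G → ℂ) (isCharacter_of_irr χ.1.2) χ.2).toHomUnits

@[simp] theorem homOfLinear_apply (χ : {χ : IrrCharacter G // (χ : G → ℂ) 1 = 1}) (g : G) :
    ((homOfLinear χ g : ℂˣ) : ℂ) = (χ.1 : G → ℂ) g := by
  simp [homOfLinear, MonoidHom.coe_toHomUnits]

/-- Irreducible characters of degree one correspond to homomorphisms `G →* ℂˣ`. -/
noncomputable def linearEquiv : {χ : IrrCharacter G // (χ : G → ℂ) 1 = 1} ≃ (G →* ℂˣ) where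
  toFun := homOfLinear
  invFun f := ⟨⟨fun g => ((f g : ℂˣ) : ℂ), isIrrCharacter_of_hom f⟩, by simp⟩
  left_inv χ := by
    apply Subtype.ext
    apply Subtype.ext
    funext g
    simp
  right_inv f := by
    ext g
    simp

/-- The number of irreducible characters of degree one is the index of the commutator subgroup. -/
theorem card_linear [Finite G] :
    Nat.card {χ : IrrCharacter G // (χ : G → ℂ) 1 = 1} = (commutator G).index := by
  rw [Nat.card_congr linearEquiv, Nat.card_congr (Abelianization.lift (G := G) (A := ℂˣ))]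
  haveI : Finite (Abelianization G) := by
    unfold Abelianization; infer_instance
  haveI : NeZero (Monoid.exponent (Abelianization G)) :=
    ⟨Monoid.exponent_ne_zero_of_finite⟩
  rw [CommGroup.card_monoidHom_of_hasEnoughRootsOfUnity (Abelianization G) ℂ,
    Subgroup.index_eq_card]
  rfl

/-- A linear character is trivial on the commutator subgroup. -/
theorem linear_commutator (χ : {χ : IrrCharacter G // (χ : G → ℂ) 1 = 1}) {k : G}
    (hk : k ∈ commutator G) : (χ.1 : G → ℂ) k = 1 := by
  have h1 : homOfLinear χ k = 1 := by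
    have hle : commutator G ≤ (homOfLinear χ).ker := by
      rw [commutator_eq_closure, Subgroup.closure_le]
      rintro _ ⟨a, b, rfl⟩
      simp [MonoidHom.mem_ker, commutatorElement_def, mul_comm]
    exact hle hk
  have := congrArg (fun u : ℂˣ => (u : ℂ)) h1
  simpa using this

/-- A linear character is multiplicative. -/
theorem linear_mul' (χ : {χ : IrrCharacter G // (χ : G → ℂ) 1 = 1}) (a b : G) :
    (χ.1 : G → ℂ) (a * b) = (χ.1 : G → ℂ) a * (χ.1 : G → ℂ) b :=
  linear_mul _ (isCharacter_of_irr χ.1.2) χ.2 a b

/-- Values of a linear character of a finite group have norm one. -/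
theorem linear_norm [Finite G] (χ : {χ : IrrCharacter G // (χ : G → ℂ) 1 = 1}) (g : G) :
    ‖(χ.1 : G → ℂ) g‖ = 1 := by
  have hpow : ((χ.1 : G → ℂ) g) ^ (orderOf g) = 1 := by
    have h := congrArg (fun u : ℂˣ => (u : ℂ)) (map_pow (homOfLinear χ) g (orderOf g))
    simp only [pow_orderOf_eq_one, map_one, Units.val_one, Units.val_pow_eq_pow_val,
      homOfLinear_apply] at h
    exact h.symm
  have hpos : orderOf g ≠ 0 := (orderOf_pos g).ne'
  exact Complex.norm_eq_one_of_pow_eq_one hpow hpos

end Cfsg.Agent.Lib.Helper79_Linear
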