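import Mathlib
import Cfsg.Agent.Lib.Helper79_Linear
import Cfsg.Agent.Lib.Helper74_FS3
import Cfsg.Agent.S0188

/-!
# Linear characters acting on irreducible characters (helper74)

* `lin f` : the irreducible character attached to `f : G →* ℂˣ`;
* `twist f χ` : the product `f χ`, again irreducible; `twistAction` the resulting action of the
  group `G →* ℂˣ` on `IrrCharacter G`;
* inner product formulas for twists, Frobenius–Schur indicator of a linear character;
* `card_stable_modEq` : fixed point congruence for a `p`-group acting on a stable finset.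
-/

set_option autoImplicit false

namespace Cfsg.Agent.Lib.Helper74_LinAct

open Cfsg
open scoped ComplexConjugate

universe u

variable {G : Type u} [Group G]

/-- the linear character attached to a homomorphism `G →* ℂˣ` -/
noncomputable def lin (f : G →* ℂˣ) : IrrCharacter G :=
  ⟨fun g => ((f g : ℂˣ) : ℂ), Helper79_Linear.isIrrCharacter_of_hom f⟩

@[simp] theorem lin_apply (f : G →* ℂˣ) (g : G) : (lin f : G → ℂ) g = ((f g : ℂˣ) : ℂ) := rfl

theorem lin_injective : Function.Injective (lin (G := G)) := by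
  intro f f' h
  ext g
  have := congrFun (congrArg Subtype.val h) g
  simpa using this

theorem exists_lin_of_one {χ : IrrCharacter G} (h : (χ : G → ℂ) 1 = 1) :
    ∃ f : G →* ℂˣ, χ = lin f := by
  refine ⟨Helper79_Linear.linearEquiv ⟨χ, h⟩, ?_⟩
  have := Helper79_Linear.linearEquiv.symm_apply_apply ⟨χ, h⟩
  exact (congrArg Subtype.val this).symm

theorem lin_one_apply (f : G →* ℂˣ) : (lin f : G → ℂ) 1 = 1 := by simp

theorem norm_hom [Finite G] (f : G →* ℂˣ) (g : G) : ‖((f g : ℂˣ) : ℂ)‖ = 1 := by
  have hpow : ((f g : ℂˣ) : ℂ) ^ (orderOf g) = 1 := by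
    rw [← Units.val_pow_eq_pow_val, ← map_pow, pow_orderOf_eq_one, map_one, Units.val_one]
  exact Complex.norm_eq_one_of_pow_eq_one hpow (orderOf_pos g).ne'

theorem mul_conj_hom [Finite G] (f : G →* ℂˣ) (g : G) :
    ((f g : ℂˣ) : ℂ) * conj ((f g : ℂˣ) : ℂ) = 1 := by
  rw [Complex.mul_conj, Complex.normSq_eq_norm_sq, norm_hom]
  simp

theorem conj_hom [Finite G] (f : G →* ℂˣ) (g : G) :
    conj ((f g : ℂˣ) : ℂ) = (((f⁻¹) g : ℂˣ) : ℂ) := by
  rw [MonoidHom.inv_apply, Units.val_inv_eq_inv_val]
  have h := mul_conj_hom f g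
  have hne : ((f g : ℂˣ) : ℂ) ≠ 0 := Units.ne_zero _
  field_simp
  rw [mul_comm]
  exact h

/-- the product of a linear character and an irreducible character is irreducible -/
theorem isIrr_twist [Finite G] (f : G →* ℂˣ) {χ : G → ℂ} (hχ : IsIrrCharacter G χ) :
    IsIrrCharacter G (fun g => ((f g : ℂˣ) : ℂ) * χ g) := by
  have := Fintype.ofFinite G
  have hchar : IsCharacter G (fun g => ((f g : ℂˣ) : ℂ) * χ g) :=
    Cfsg.Agent.S0188.isCharacter_mul
      (Helper3_CharBridge.isCharacter_of_isIrrCharacter (lin f).2)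
      (Helper3_CharBridge.isCharacter_of_isIrrCharacter hχ)
  apply Helper75_CharArith.isIrrCharacter_of_classInner_self hchar
  rw [← Helper3_CharOrtho.classInner_self_of_isIrrCharacter hχ]
  unfold classInner
  congr 1
  apply Finset.sum_congr rfl
  intro g _
  rw [map_mul]
  have h := mul_conj_hom f g
  calc ((f g : ℂˣ) : ℂ) * χ g * (conj ((f g : ℂˣ) : ℂ) * conj (χ g))
      = (((f g : ℂˣ) : ℂ) * conj ((f g : ℂˣ) : ℂ)) * (χ g * conj (χ g)) := by ring
    _ = χ g * conj (χ g) := by rw [h, one_mul]

/-- the twist of an irreducible character by a linear character -/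
noncomputable def twist [Finite G] (f : G →* ℂˣ) (χ : IrrCharacter G) : IrrCharacter G :=
  ⟨fun g => ((f g : ℂˣ) : ℂ) * (χ : G → ℂ) g, isIrr_twist f χ.2⟩

@[simp] theorem twist_apply [Finite G] (f : G →* ℂˣ) (χ : IrrCharacter G) (g : G) :
    (twist f χ : G → ℂ) g = ((f g : ℂˣ) : ℂ) * (χ : G → ℂ) g := rfl

theorem twist_one [Finite G] (χ : IrrCharacter G) : twist 1 χ = χ := by
  apply Subtype.ext
  funext g
  simp

theorem twist_mul [Finite G] (f f' : G →* ℂˣ) (χ : IrrCharacter G) :
    twist (f * f') χ = twist f (twist f' χ) := by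
  apply Subtype.ext
  funext g
  simp [mul_assoc]

theorem twist_lin [Finite G] (f f' : G →* ℂˣ) : twist f (lin f') = lin (f * f') := by
  apply Subtype.ext
  funext g
  simp

/-- the action of the group of linear characters on the irreducible characters -/
@[reducible] noncomputable def twistAction [Finite G] : MulAction (G →* ℂˣ) (IrrCharacter G) where
  smul f χ := twist f χ
  one_smul χ := twist_one χ
  mul_smul f f' χ := twist_mul f f' χ

theorem twist_one_apply [Finite G] (f : G →* ℂˣ) (χ : IrrCharacter G) :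
    (twist f χ : G → ℂ) 1 = (χ : G → ℂ) 1 := by simp

theorem classInner_twist_twist [Fintype G] (f : G →* ℂˣ) (χ ψ : IrrCharacter G) :
    classInner (twist f χ : G → ℂ) (twist f ψ : G → ℂ) =
      classInner (χ : G → ℂ) (ψ : G → ℂ) := by
  unfold classInner
  congr 1
  apply Finset.sum_congr rfl
  intro g _
  rw [twist_apply, twist_apply, map_mul]
  have h := mul_conj_hom f g
  calc ((f g : ℂˣ) : ℂ) * (χ : G → ℂ) g * (conj ((f g : ℂˣ) : ℂ) * conj ((ψ : G → ℂ) g))
      = (((f g : ℂˣ) : ℂ) * conj ((f g : ℂˣ) : ℂ)) *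
          ((χ : G → ℂ) g * conj ((ψ : G → ℂ) g)) := by ring
    _ = (χ : G → ℂ) g * conj ((ψ : G → ℂ) g) := by rw [h, one_mul]

/-- `[χ ψ̄-type product, f] = [χ, f ψ]`: multiplicity of a linear character in a product -/
theorem classInner_mul_lin [Fintype G] (f : G →* ℂˣ) (χ ψ : G → ℂ) :
    classInner (fun g => χ g * conj (ψ g)) (lin f : G → ℂ) =
      classInner χ (fun g => ((f g : ℂˣ) : ℂ) * ψ g) := by
  unfold classInner
  congr 1
  apply Finset.sum_congr rfl
  intro g _
  rw [lin_apply, map_mul]
  ring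

/-- Frobenius–Schur indicator of a linear character -/
theorem fsInd_lin [Fintype G] (f : G →* ℂˣ) :
    Helper74_FS.fsInd (lin f : G → ℂ) = if f ^ 2 = 1 then 1 else 0 := by
  have h1 : Helper74_FS.fsInd (lin f : G → ℂ) =
      classInner (lin (f ^ 2) : G → ℂ) (lin (1 : G →* ℂˣ) : G → ℂ) := by
    unfold Helper74_FS.fsInd classInner
    congr 1
    apply Finset.sum_congr rfl
    intro g _
    simp [pow_two]
  rw [h1, Helper3_CharOrtho.classInner_irr (lin (f ^ 2)).2 (lin 1).2]
  by_cases h : f ^ 2 = 1
  · rw [if_pos h, if_pos (by rw [h])]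
  · rw [if_neg h, if_neg]
    intro h'
    exact h (lin_injective (Subtype.ext h'))

/-- fixed point congruence for a `p`-group acting on a type, restricted to a stable finset -/
theorem card_stable_modEq {A X : Type*} [Group A] [MulAction A X] [DecidableEq X]
    {p : ℕ} [Fact p.Prime] (hA : IsPGroup p A) (T : Finset X)
    (hT : ∀ a : A, ∀ x ∈ T, a • x ∈ T) [DecidablePred fun x : X => ∀ a : A, a • x = x] :
    T.card ≡ (T.filter (fun x => ∀ a : A, a • x = x)).card [MOD p] := by
  classical
  let S : SubMulAction A X := ⟨↑T, fun a x hx => by simpa using hT a x (by simpa using hx)⟩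
  have hfin : Finite S := by
    have : Finite (↑(T : Set X)) := T.finite_toSet.to_subtype
    exact this
  have h := hA.card_modEq_card_fixedPoints S
  have e1 : Nat.card S = T.card := by
    have : Nat.card S = Nat.card (↑(T : Set X)) := rfl
    rw [this, Nat.card_coe_set_eq, Set.ncard_coe_finset]
  have e2 : Nat.card (MulAction.fixedPoints A S) =
      (T.filter (fun x => ∀ a : A, a • x = x)).card := by
    rw [← Nat.card_eq_finsetCard]
    apply Nat.card_congr
    refine
      { toFun := fun y => ⟨(y.1 : X), ?_⟩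
        invFun := fun x => ⟨⟨x.1, ?_⟩, ?_⟩
        left_inv := fun y => rfl
        right_inv := fun x => rfl }
    · rw [Finset.mem_filter]
      refine ⟨y.1.2, fun a => ?_⟩
      have := y.2 a
      exact congrArg Subtype.val this
    · exact (Finset.mem_filter.mp x.2).1
    · intro a
      apply Subtype.ext
      exact (Finset.mem_filter.mp x.2).2 a
  rw [e1, e2] at h
  exact h

end Cfsg.Agent.Lib.Helper74_LinAct
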