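import Cfsg.Agent.Lib.Helper75_Induced
import Cfsg.Agent.Lib.Helper75_CharArith

set_option autoImplicit false

namespace Cfsg.Agent.Lib.Helper75_IndChar

open scoped ComplexConjugate
open Cfsg.Agent.Lib.Helper75_Induced Cfsg.Agent.Lib.Helper75_CharArith
open Cfsg.Agent.Lib.Helper3_CharBridge Cfsg.Agent.Lib.Helper3_CharOrtho
  Cfsg.Agent.Lib.Helper3_CharComplete

variable {G : Type*} [Group G]

/-- Inducing a character gives a character. -/
theorem isCharacter_indFun [Fintype G] (H : Subgroup G) {θ : H → ℂ} (hθ : Cfsg.IsCharacter H θ) :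
    Cfsg.IsCharacter G (Cfsg.indFun H θ) := by
  have : Fintype H := Fintype.ofFinite H
  apply isCharacter_of_classInner_nat (isClassFunction_indFun H θ)
  intro χ
  rw [frobenius_reciprocity H θ χ (isClassFunction_of_isIrrCharacter χ.2)]
  exact classInner_isCharacter_nat hθ
    (isCharacter_restrict H (isCharacter_of_isIrrCharacter χ.2))

end Cfsg.Agent.Lib.Helper75_IndChar
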