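import Mathlib
import Cfsg.Prelude.Def_Characters
import Cfsg.Prelude.Def_Blocks
import Cfsg.Agent.Lib.Helper80_CharComplete
import Cfsg.Agent.Lib.Helper75_IndChar
import Cfsg.Agent.Lib.Helper78_CentralChar

set_option autoImplicit false
set_option linter.style.haveILetI false

namespace Cfsg.Agent.Lib.Helper80_CharInd

open scoped ComplexConjugate
open Cfsg.Agent.Lib.Helper80_CharBasic Cfsg.Agent.Lib.Helper80_CharComplete

/-- Value at `1` of an induced function. -/
theorem indFun_one {G : Type*} [Group G] [Fintype G] (H : Subgroup G) (θ : H → ℂ) :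
    Cfsg.indFun H θ 1 = (H.index : ℂ) * θ 1 := by
  classical
  have hH : (Nat.card H : ℂ) ≠ 0 := by exact_mod_cast Nat.card_pos.ne'
  rw [Cfsg.Agent.Lib.Helper75_Induced.indFun_apply]
  have h1 : ∀ x : G, Cfsg.extendByZero H θ (x⁻¹ * 1 * x) = θ 1 := by
    intro x
    have : x⁻¹ * 1 * x = ((1 : H) : G) := by simp
    rw [this, Cfsg.Agent.Lib.Helper75_Induced.extendByZero_coe]
  rw [Finset.sum_congr rfl (fun x _ => h1 x), Finset.sum_const, Finset.card_univ, nsmul_eq_mul,
    ← Nat.card_eq_fintype_card, ← H.card_mul_index]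
  push_cast
  field_simp

/-- Decomposition of the degree of a character: `φ 1 = ∑ [φ,ψ] ψ 1` with natural coefficients. -/
theorem char_decomp {G : Type*} [Group G] [Fintype G] [Fintype (Cfsg.IrrCharacter G)]
    (φ : G → ℂ) (hφ : Cfsg.IsCharacter G φ) :
    ∃ b : Cfsg.IrrCharacter G → ℕ,
      (∀ ψ : Cfsg.IrrCharacter G, Cfsg.classInner φ (ψ : G → ℂ) = b ψ) ∧
      φ = ∑ ψ : Cfsg.IrrCharacter G, (b ψ : ℂ) • (ψ : G → ℂ) := by
  have h := fun ψ : Cfsg.IrrCharacter G =>
    Cfsg.Agent.Lib.Helper75_CharArith.classInner_isCharacter_nat hφ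
      (Cfsg.Agent.Lib.Helper78_CentralChar.isIrrCharacter_isCharacter ψ.2)
  choose b hb using h
  refine ⟨b, hb, ?_⟩
  have hcl : Cfsg.IsClassFunction G φ :=
    Cfsg.Agent.Lib.Helper78_CentralChar.isCharacter_isClassFunction hφ
  have := class_fn_expansion_sum φ hcl
  simp only [hb] at this
  exact this

/-- If the irreducible character `χ` is a constituent of the character `φ` and
`φ 1 ≤ χ 1`, then `φ = χ`. -/
theorem eq_of_constituent_of_degree_le {G : Type*} [Group G] [Fintype G]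
    (φ : G → ℂ) (hφ : Cfsg.IsCharacter G φ) (χ : Cfsg.IrrCharacter G)
    (hne : Cfsg.classInner φ (χ : G → ℂ) ≠ 0) (f n : ℕ) (hf : φ 1 = f)
    (hn : (χ : G → ℂ) 1 = n) (hle : f ≤ n) : φ = (χ : G → ℂ) := by
  classical
  haveI := Fintype.ofFinite (Cfsg.IrrCharacter G)
  obtain ⟨b, hb, hexp⟩ := char_decomp φ hφ
  choose d hdpos hd using fun ψ : Cfsg.IrrCharacter G => irr_apply_one ψ
  have hbχ : b χ ≠ 0 := by
    intro h0
    apply hne
    rw [hb χ, h0]
    simp
  -- degree equation in ℕ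
  have hdeg : f = ∑ ψ : Cfsg.IrrCharacter G, b ψ * d ψ := by
    have h1 := congrFun hexp 1
    simp only [Finset.sum_apply, Pi.smul_apply, smul_eq_mul, hd, hf] at h1
    exact_mod_cast h1
  have hdχ : d χ = n := by
    have := hd χ
    rw [hn] at this
    exact_mod_cast this.symm
  have hsplit : ∑ ψ : Cfsg.IrrCharacter G, b ψ * d ψ =
      b χ * d χ + ∑ ψ ∈ Finset.univ.erase χ, b ψ * d ψ :=
    (Finset.add_sum_erase Finset.univ (fun ψ => b ψ * d ψ) (Finset.mem_univ χ)).symm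
  rw [hsplit, hdχ] at hdeg
  have hnpos : 0 < n := by rw [← hdχ]; exact hdpos χ
  have hbχ1 : b χ = 1 := by
    by_contra hne1
    have h2 : 2 ≤ b χ := by omega
    have : 2 * n ≤ b χ * n := Nat.mul_le_mul_right n h2
    omega
  have hrest : ∑ ψ ∈ Finset.univ.erase χ, b ψ * d ψ = 0 := by
    rw [hbχ1] at hdeg
    omega
  have hb0 : ∀ ψ : Cfsg.IrrCharacter G, ψ ≠ χ → b ψ = 0 := by
    intro ψ hψ
    have := (Finset.sum_eq_zero_iff.mp hrest) ψ (Finset.mem_erase.mpr ⟨hψ, Finset.mem_univ _⟩)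
    rcases Nat.mul_eq_zero.mp this with h | h
    · exact h
    · have := hdpos ψ; omega
  rw [hexp, Finset.sum_eq_single χ]
  · rw [hbχ1]; simp
  · intro ψ _ hψ
    rw [hb0 ψ hψ]; simp
  · intro h; exact absurd (Finset.mem_univ χ) h

end Cfsg.Agent.Lib.Helper80_CharInd
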