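import Mathlib
import Cfsg.Agent.Lib.Helper74_LinAct
import Cfsg.Agent.Lib.Helper74_Glauberman
import Cfsg.Agent.Lib.Helper75_Clifford
import Cfsg.Agent.Lib.Helper80_CharInd

/-!
# Going up with invariant characters over an abelian quotient (helper74)

`abelian_step_abs`: if `K ⊲ H` with `H/K` abelian, a group `S'` acts on `H` by automorphisms
preserving `K`, `|H : K|` is coprime to `|S'|` and `φ ∈ Irr(K)` is `S'`-invariant, then some
`χ ∈ Irr(H)` lying over `φ` is `S'`-invariant.
-/

set_option autoImplicit false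

namespace Cfsg.Agent.Lib.Helper74_GoingUp

open Cfsg
open Cfsg.Agent.Lib.Helper74_LinAct
open scoped ComplexConjugate

section Transport

/-- Pulling an irreducible character back along an isomorphism gives an irreducible character. -/
theorem isIrr_comp_equiv {K N : Type*} [Group K] [Group N] [Finite K] [Finite N] (e : K ≃* N)
    {θ : N → ℂ} (hθ : IsIrrCharacter N θ) : IsIrrCharacter K (fun k => θ (e k)) := by
  have := Fintype.ofFinite K
  have := Fintype.ofFinite N
  have hchar : IsCharacter K (fun k => θ (e k)) :=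
    Helper75_CharArith.isCharacter_comp e.toMonoidHom
      (Helper3_CharBridge.isCharacter_of_isIrrCharacter hθ)
  apply Helper75_CharArith.isIrrCharacter_of_classInner_self hchar
  have h1 := Helper3_CharOrtho.classInner_self_of_isIrrCharacter hθ
  unfold classInner at h1 ⊢
  rw [← h1, Nat.card_congr e.toEquiv]
  congr 1
  exact Fintype.sum_equiv e.toEquiv _ _ (fun k => rfl)

/-- inner products are invariant under isomorphisms -/
theorem classInner_comp_equiv {K N : Type*} [Group K] [Group N] [Fintype K] [Fintype N]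
    (e : K ≃* N) (α β : N → ℂ) :
    classInner (fun k => α (e k)) (fun k => β (e k)) = classInner α β := by
  unfold classInner
  rw [Nat.card_congr e.toEquiv]
  congr 1
  exact Fintype.sum_equiv e.toEquiv _ _ (fun k => rfl)

end Transport

section AutAction

variable {H : Type*} [Group H] [Finite H]

/-- action of an automorphism on an irreducible character: `χ ∘ a⁻¹` -/
noncomputable def autSmul (a : MulAut H) (χ : IrrCharacter H) : IrrCharacter H :=
  ⟨fun h => (χ : H → ℂ) ((a⁻¹ : MulAut H) h), isIrr_comp_equiv (a⁻¹ : MulAut H) χ.2⟩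

@[simp] theorem autSmul_apply (a : MulAut H) (χ : IrrCharacter H) (h : H) :
    (autSmul a χ : H → ℂ) h = (χ : H → ℂ) ((a⁻¹ : MulAut H) h) := rfl

/-- the action of `MulAut H` on `IrrCharacter H` -/
@[reducible] noncomputable def autAction : MulAction (MulAut H) (IrrCharacter H) where
  smul a χ := autSmul a χ
  one_smul χ := by
    apply Subtype.ext
    funext h
    show (χ : H → ℂ) (((1 : MulAut H)⁻¹ : MulAut H) h) = (χ : H → ℂ) h
    rw [inv_one, MulAut.one_apply]
  mul_smul a b χ := by
    apply Subtype.ext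
    funext h
    show (χ : H → ℂ) (((a * b)⁻¹ : MulAut H) h) =
      (χ : H → ℂ) ((b⁻¹ : MulAut H) ((a⁻¹ : MulAut H) h))
    rw [mul_inv_rev, MulAut.mul_apply]

/-- the permutation representation of `MulAut H` on the irreducible characters -/
noncomputable def pA : MulAut H →* Equiv.Perm (IrrCharacter H) :=
  @MulAction.toPermHom (MulAut H) (IrrCharacter H) _ autAction

/-- the permutation representation of the linear characters on the irreducible characters -/
noncomputable def pL : (H →* ℂˣ) →* Equiv.Perm (IrrCharacter H) :=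
  @MulAction.toPermHom (H →* ℂˣ) (IrrCharacter H) _ twistAction

@[simp] theorem pA_apply (a : MulAut H) (χ : IrrCharacter H) : pA a χ = autSmul a χ := rfl

@[simp] theorem pL_apply (f : H →* ℂˣ) (χ : IrrCharacter H) : pL f χ = twist f χ := rfl

theorem pA_pL_conj (a : MulAut H) (f : H →* ℂˣ) :
    pA a * pL f * (pA a)⁻¹ = pL (f.comp ((a⁻¹ : MulAut H) : H ≃* H).toMonoidHom) := by
  ext χ h
  rw [← map_inv]
  simp only [Equiv.Perm.coe_mul, Function.comp_apply, pA_apply, pL_apply, autSmul_apply,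
    twist_apply, inv_inv, MonoidHom.comp_apply, MulEquiv.coe_toMonoidHom]
  congr 2
  simp

end AutAction

section Dual

variable {Q : Type*} [Group Q] [Finite Q]

theorem card_dual (hcomm : ∀ a b : Q, a * b = b * a) : Nat.card (Q →* ℂˣ) = Nat.card Q := by
  let inst : CommGroup Q := { (inferInstance : Group Q) with mul_comm := hcomm }
  have : NeZero (Monoid.exponent Q) := ⟨Monoid.exponent_ne_zero_of_finite⟩
  exact CommGroup.card_monoidHom_of_hasEnoughRootsOfUnity Q ℂ

theorem exists_dual_ne_one (hcomm : ∀ a b : Q, a * b = b * a) {a : Q} (ha : a ≠ 1) :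
    ∃ c : Q →* ℂˣ, c a ≠ 1 := by
  let inst : CommGroup Q := { (inferInstance : Group Q) with mul_comm := hcomm }
  have : NeZero (Monoid.exponent Q) := ⟨Monoid.exponent_ne_zero_of_finite⟩
  exact CommGroup.exists_apply_ne_one_of_hasEnoughRootsOfUnity Q ℂ ha

theorem finite_dual (hcomm : ∀ a b : Q, a * b = b * a) : Finite (Q →* ℂˣ) := by
  apply Nat.finite_of_card_ne_zero
  rw [card_dual hcomm]
  exact Nat.card_pos.ne'

theorem sum_dual_apply (hcomm : ∀ a b : Q, a * b = b * a) [Fintype (Q →* ℂˣ)] [DecidableEq Q]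
    (a : Q) :
    ∑ c : Q →* ℂˣ, ((c a : ℂˣ) : ℂ) = if a = 1 then (Nat.card Q : ℂ) else 0 := by
  by_cases ha : a = 1
  · rw [if_pos ha, ha]
    simp only [map_one, Units.val_one, Finset.sum_const, Finset.card_univ, nsmul_eq_mul, mul_one]
    rw [← card_dual hcomm, Nat.card_eq_fintype_card]
  · rw [if_neg ha]
    obtain ⟨c₀, hc₀⟩ := exists_dual_ne_one hcomm ha
    let ev : (Q →* ℂˣ) →* ℂ := (Units.coeHom ℂ).comp (MonoidHom.eval a)
    have hev : ev ≠ 1 := by
      intro h
      apply hc₀
      have := congrArg (fun F : (Q →* ℂˣ) →* ℂ => F c₀) h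
      simp only [ev, MonoidHom.comp_apply, MonoidHom.eval_apply_apply, Units.coeHom_apply,
        MonoidHom.one_apply] at this
      exact Units.ext this
    have := sum_hom_units_eq_zero ev hev
    simpa [ev] using this

end Dual


section Step

/-- every irreducible character of a subgroup lies under an irreducible character -/
theorem exists_over {H : Type*} [Group H] [Fintype H] (K : Subgroup H) [Fintype K]
    (φ : IrrCharacter K) :
    ∃ χ : IrrCharacter H, classInner (fun k : K => (χ : H → ℂ) k) (φ : K → ℂ) ≠ 0 := by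
  by_contra hcon
  push Not at hcon
  have hcf : IsClassFunction H (indFun K (φ : K → ℂ)) :=
    Helper75_Induced.isClassFunction_indFun K _
  have hzero : indFun K (φ : K → ℂ) = 0 := by
    apply Helper3_CharComplete.eq_zero_of_forall_classInner_irr_eq_zero _ hcf
    intro χ hχ
    rw [Helper75_Induced.frobenius_reciprocity K _ χ
      (Helper3_CharBridge.isClassFunction_of_isIrrCharacter hχ),
      ← Helper3_CharOrtho.classInner_conj_symm, hcon ⟨χ, hχ⟩, map_zero]
  have h1 := Helper80_CharInd.indFun_one K (φ : K → ℂ)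
  rw [hzero] at h1
  obtain ⟨n, hn, hφ1⟩ := Helper80_CharBasic.irr_apply_one φ
  rw [hφ1] at h1
  have hidx : K.index ≠ 0 := Subgroup.index_ne_zero_of_finite
  have : ((K.index * n : ℕ) : ℂ) = 0 := by
    push_cast
    exact h1.symm
  have h2 : K.index * n = 0 := by exact_mod_cast this
  rcases Nat.mul_eq_zero.mp h2 with h | h
  · exact hidx h
  · omega

/-- two characters with a common irreducible constituent are not orthogonal -/
theorem classInner_ne_zero_of_common {K : Type*} [Group K] [Fintype K] {A B : K → ℂ}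
    (hA : IsCharacter K A) (hB : IsCharacter K B) (φ : IrrCharacter K)
    (h1 : classInner A (φ : K → ℂ) ≠ 0) (h2 : classInner B (φ : K → ℂ) ≠ 0) :
    classInner A B ≠ 0 := by
  classical
  obtain ⟨a, ha, hAsum⟩ := Helper75_CharArith.exists_multiplicities hA
  obtain ⟨b, hb, -⟩ := Helper75_CharArith.exists_multiplicities hB
  have haφ : a φ ≠ 0 := by
    intro h
    apply h1
    rw [ha φ, h, Nat.cast_zero]
  have hbφ : b φ ≠ 0 := by
    intro h
    apply h2
    rw [hb φ, h, Nat.cast_zero]
  have key : classInner A B = ((∑ θ : IrrCharacter K, a θ * b θ : ℕ) : ℂ) := by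
    conv_lhs => rw [hAsum]
    rw [Helper3_CharOrtho.classInner_sum_left]
    push_cast
    apply Finset.sum_congr rfl
    intro θ _
    rw [Helper3_CharOrtho.classInner_smul_left, ← Helper3_CharOrtho.classInner_conj_symm, hb θ,
      Complex.conj_natCast]
  rw [key]
  have hle : a φ * b φ ≤ ∑ θ : IrrCharacter K, a θ * b θ :=
    Finset.single_le_sum (f := fun θ => a θ * b θ) (fun _ _ => Nat.zero_le _) (Finset.mem_univ φ)
  have hpos : 0 < a φ * b φ := Nat.mul_pos (Nat.pos_of_ne_zero haφ) (Nat.pos_of_ne_zero hbφ)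
  have : (∑ θ : IrrCharacter K, a θ * b θ) ≠ 0 := by omega
  exact_mod_cast this

variable {H : Type*} [Group H] [Fintype H]

/-- the linear character of `H` attached to a character of the quotient -/
noncomputable def infl (K : Subgroup H) [K.Normal] (c : (H ⧸ K) →* ℂˣ) : H →* ℂˣ :=
  c.comp (QuotientGroup.mk' K)

omit [Fintype H] in
theorem infl_apply (K : Subgroup H) [K.Normal] (c : (H ⧸ K) →* ℂˣ) (h : H) :
    infl K c h = c (h : H ⧸ K) := rfl

omit [Fintype H] in
theorem infl_of_mem (K : Subgroup H) [K.Normal] (c : (H ⧸ K) →* ℂˣ) {h : H} (hh : h ∈ K) :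
    infl K c h = 1 := by
  rw [infl_apply, (QuotientGroup.eq_one_iff h).mpr hh, map_one]

/-- the characters of an abelian quotient act transitively on the irreducible characters lying
over a given irreducible character of the normal subgroup -/
theorem exists_twist_eq (K : Subgroup H) [K.Normal] [Fintype K]
    (hcomm : ∀ a b : H ⧸ K, a * b = b * a) (φ : IrrCharacter K) (χ ψ : IrrCharacter H)
    (hχ : classInner (fun k : K => (χ : H → ℂ) k) (φ : K → ℂ) ≠ 0)
    (hψ : classInner (fun k : K => (ψ : H → ℂ) k) (φ : K → ℂ) ≠ 0) :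
    ∃ c : (H ⧸ K) →* ℂˣ, twist (infl K c) χ = ψ := by
  classical
  have hfin : Finite ((H ⧸ K) →* ℂˣ) := finite_dual hcomm
  have := Fintype.ofFinite ((H ⧸ K) →* ℂˣ)
  by_contra hcon
  push Not at hcon
  have h0 : ∀ c : (H ⧸ K) →* ℂˣ,
      classInner (twist (infl K c) χ : H → ℂ) (ψ : H → ℂ) = 0 := fun c =>
    Helper3_CharOrtho.classInner_of_isIrrCharacter_of_ne (twist (infl K c) χ).2 ψ.2
      (fun h => hcon c (Subtype.ext h))
  have hsum : ∑ c : (H ⧸ K) →* ℂˣ,
      classInner (twist (infl K c) χ : H → ℂ) (ψ : H → ℂ) = 0 :=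
    Finset.sum_eq_zero (fun c _ => h0 c)
  have hcalc : ∑ c : (H ⧸ K) →* ℂˣ,
      classInner (twist (infl K c) χ : H → ℂ) (ψ : H → ℂ) =
      (Nat.card H : ℂ)⁻¹ * ((Nat.card (H ⧸ K) : ℂ) *
        ∑ k : K, (χ : H → ℂ) k * conj ((ψ : H → ℂ) k)) := by
    unfold classInner
    rw [← Finset.mul_sum, Finset.sum_comm]
    congr 1
    have h1 : ∀ h : H, ∑ c : (H ⧸ K) →* ℂˣ,
        (twist (infl K c) χ : H → ℂ) h * conj ((ψ : H → ℂ) h) =
        (if h ∈ K then (Nat.card (H ⧸ K) : ℂ) * ((χ : H → ℂ) h * conj ((ψ : H → ℂ) h)) else 0) := by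
      intro h
      have h2 : ∀ c : (H ⧸ K) →* ℂˣ,
          (twist (infl K c) χ : H → ℂ) h * conj ((ψ : H → ℂ) h) =
            ((c (h : H ⧸ K) : ℂˣ) : ℂ) * ((χ : H → ℂ) h * conj ((ψ : H → ℂ) h)) := by
        intro c
        rw [twist_apply, infl_apply, mul_assoc]
      rw [Finset.sum_congr rfl (fun c _ => h2 c), ← Finset.sum_mul, sum_dual_apply hcomm]
      by_cases hh : h ∈ K
      · rw [if_pos hh, if_pos ((QuotientGroup.eq_one_iff h).mpr hh)]
      · rw [if_neg hh, if_neg (fun h' => hh ((QuotientGroup.eq_one_iff h).mp h')), zero_mul]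
    rw [Finset.sum_congr rfl (fun h _ => h1 h), ← Finset.sum_filter, Finset.mul_sum]
    exact Finset.sum_subtype (Finset.univ.filter (fun h : H => h ∈ K)) (by simp)
      (fun h => (Nat.card (H ⧸ K) : ℂ) * ((χ : H → ℂ) h * conj ((ψ : H → ℂ) h)))
  rw [hcalc] at hsum
  have hne := classInner_ne_zero_of_common
    (Helper75_CharArith.isCharacter_restrict K (Helper3_CharBridge.isCharacter_of_isIrrCharacter χ.2))
    (Helper75_CharArith.isCharacter_restrict K (Helper3_CharBridge.isCharacter_of_isIrrCharacter ψ.2))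
    φ hχ hψ
  apply hne
  unfold classInner
  have hH : (Nat.card H : ℂ) ≠ 0 := by exact_mod_cast Nat.card_pos.ne'
  have hQ : (Nat.card (H ⧸ K) : ℂ) ≠ 0 := by exact_mod_cast Nat.card_pos.ne'
  have hK : (Nat.card K : ℂ) ≠ 0 := by exact_mod_cast Nat.card_pos.ne'
  rcases mul_eq_zero.mp hsum with h | h
  · exact absurd (inv_eq_zero.mp h) hH
  · rcases mul_eq_zero.mp h with h | h
    · exact absurd h hQ
    · rw [h, mul_zero]

/-- restriction of an automorphism to an invariant subgroup -/
def resAut (K : Subgroup H) (a : MulAut H) (ha : ∀ k ∈ K, a k ∈ K)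
    (ha' : ∀ k ∈ K, (a⁻¹ : MulAut H) k ∈ K) : K ≃* K where
  toFun k := ⟨a k, ha k k.2⟩
  invFun k := ⟨(a⁻¹ : MulAut H) k, ha' k k.2⟩
  left_inv k := by ext; simp
  right_inv k := by ext; simp
  map_mul' x y := by ext; simp

omit [Fintype H] in
theorem resAut_apply (K : Subgroup H) (a : MulAut H) (ha : ∀ k ∈ K, a k ∈ K)
    (ha' : ∀ k ∈ K, (a⁻¹ : MulAut H) k ∈ K) (k : K) :
    ((resAut K a ha ha' k : K) : H) = a k := rfl

/-- **Going up over an abelian quotient.** -/
theorem abelian_step_abs (K : Subgroup H) [K.Normal] [Fintype K]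
    (hcomm : ∀ a b : H ⧸ K, a * b = b * a)
    {S' : Type*} [Group S'] [Finite S'] (α : S' →* MulAut H) (hαK : ∀ s, ∀ k ∈ K, α s k ∈ K)
    (hcop : K.index.Coprime (Nat.card S'))
    (φ : IrrCharacter K)
    (hinv : ∀ (s : S') (k : K), (φ : K → ℂ) ⟨α s k, hαK s k k.2⟩ = (φ : K → ℂ) k) :
    ∃ χ : IrrCharacter H, classInner (fun k : K => (χ : H → ℂ) k) (φ : K → ℂ) ≠ 0 ∧
      ∀ (s : S') (h : H), (χ : H → ℂ) (α s h) = (χ : H → ℂ) h := by
  classical
  have hfinC : Finite ((H ⧸ K) →* ℂˣ) := finite_dual hcomm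
  let hC : ((H ⧸ K) →* ℂˣ) →* Equiv.Perm (IrrCharacter H) :=
    pL.comp (MonoidHom.compHom' (QuotientGroup.mk' K))
  let hS : S' →* Equiv.Perm (IrrCharacter H) := pA.comp α
  have hCapp : ∀ c χ, hC c χ = twist (infl K c) χ := fun c χ => rfl
  have hSapp : ∀ s χ, hS s χ = autSmul (α s) χ := fun s χ => rfl
  have hαinv : ∀ s : S', ∀ k ∈ K, ((α s)⁻¹ : MulAut H) k ∈ K := by
    intro s k hk
    rw [← map_inv]
    exact hαK s⁻¹ k hk
  let Y : Set (IrrCharacter H) :=
    {χ | classInner (fun k : K => (χ : H → ℂ) k) (φ : K → ℂ) ≠ 0}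
  have hmain := Helper74_Glauberman.glauberman_rel (Γ := Equiv.Perm (IrrCharacter H))
    (X := IrrCharacter H) hC.range hS.range ⊥ ?_ ?_ ?_ Y ?_ ?_ ?_ ?_ ?_
  · obtain ⟨χ, hχY, hχS⟩ := hmain
    refine ⟨χ, hχY, fun s h => ?_⟩
    have h1 := hχS (hS s) ⟨s, rfl⟩
    rw [Equiv.Perm.smul_def, hSapp] at h1
    have h2 := congrFun (congrArg Subtype.val h1) (α s h)
    rw [autSmul_apply, MulAut.inv_apply_self] at h2
    exact h2.symm
  · -- normalisation
    rintro _ ⟨s, rfl⟩ _ ⟨c, rfl⟩
    have hle : K ≤ K.comap (((α s)⁻¹ : MulAut H) : H ≃* H).toMonoidHom := by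
      intro k hk
      exact hαinv s k hk
    refine ⟨c.comp (QuotientGroup.map K K _ hle), ?_⟩
    show pL (infl K (c.comp (QuotientGroup.map K K _ hle))) = pA (α s) * pL (infl K c) * (pA (α s))⁻¹
    rw [pA_pL_conj]
    congr 1
  · -- coprimality
    rw [Subgroup.relIndex_bot_left]
    have h1 : Nat.card hC.range ∣ K.index := by
      have := Subgroup.card_range_dvd hC
      rwa [card_dual hcomm] at this
    have h2 : Nat.card hS.range ∣ Nat.card S' := Subgroup.card_range_dvd hS
    exact Nat.Coprime.coprime_dvd_left h1 (Nat.Coprime.coprime_dvd_right h2 hcop)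
  · -- solvability
    right
    have : Group.IsSolvable hC.range := by
      apply Group.isSolvable_of_comm
      rintro ⟨_, c, rfl⟩ ⟨_, c', rfl⟩
      apply Subtype.ext
      show hC c * hC c' = hC c' * hC c
      rw [← map_mul, ← map_mul, mul_comm c c']
    infer_instance
  · exact exists_over K φ
  · rintro _ ⟨c, rfl⟩ χ hχ
    rw [Equiv.Perm.smul_def, hCapp]
    show classInner (fun k : K => (twist (infl K c) χ : H → ℂ) k) (φ : K → ℂ) ≠ 0
    have e : (fun k : K => (twist (infl K c) χ : H → ℂ) k) = fun k : K => (χ : H → ℂ) k := by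
      funext k
      rw [twist_apply, infl_of_mem K c k.2]
      simp
    rw [e]
    exact hχ
  · rintro _ ⟨s, rfl⟩ χ hχ
    rw [Equiv.Perm.smul_def, hSapp]
    show classInner (fun k : K => (autSmul (α s) χ : H → ℂ) k) (φ : K → ℂ) ≠ 0
    let β : K ≃* K := resAut K ((α s)⁻¹ : MulAut H) (hαinv s) (by
      intro k hk
      rw [inv_inv]
      exact hαK s k hk)
    have e2 : (φ : K → ℂ) = fun k : K => (φ : K → ℂ) (β k) := by
      funext k
      have := hinv s⁻¹ k
      rw [← this]
      refine congrArg _ (Subtype.ext ?_)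
      show ((α s⁻¹) (k : H)) = ((α s)⁻¹ : MulAut H) (k : H)
      rw [map_inv]
    have e1 : (fun k : K => (autSmul (α s) χ : H → ℂ) k) =
        fun k : K => (χ : H → ℂ) ((β k : K) : H) := by
      funext k
      rfl
    have h3 : classInner (fun k : K => (χ : H → ℂ) ((β k : K) : H))
        (fun k : K => (φ : K → ℂ) (β k)) =
        classInner (fun k : K => (χ : H → ℂ) k) (φ : K → ℂ) :=
      classInner_comp_equiv β (fun k' : K => (χ : H → ℂ) k') (φ : K → ℂ)
    rw [← e2] at h3
    rw [e1, h3]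
    exact hχ
  · intro n hn y _
    rw [Subgroup.mem_bot] at hn
    rw [hn, one_smul]
  · intro y hy y' hy'
    obtain ⟨c, hc⟩ := exists_twist_eq K hcomm φ y y' hy hy'
    exact ⟨hC c, ⟨c, rfl⟩, hc⟩

end Step

end Cfsg.Agent.Lib.Helper74_GoingUp
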