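import Cfsg.Agent.Lib.Helper75_CentralInv
import Cfsg.Agent.Lib.Helper80_CharBasic
import Cfsg.Agent.Lib.Helper74_GoingUp
import Cfsg.Agent.Lib.Helper3_CharEigen
import Cfsg.Agent.S0856

/-!
# Reduction of an invariant character to the central case (helper75)

* `descend`: an irreducible character constant on the kernel of a surjection descends.
* `exists_invariant_mod`: in a finite group `X` with a central subgroup `Z`, a normal subgroup
  `N₀` meeting `Z` trivially and `Z N₀ ≤ Gh ⊴ X` with `([X:Gh], [Gh:Z N₀]) = 1` and `X/Gh`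
  solvable, every linear character of `Z` lies under an `X`-invariant irreducible character of
  `Gh` with `N₀` in its kernel.
-/

set_option autoImplicit false
set_option linter.unusedSectionVars false
open scoped ComplexConjugate

namespace Cfsg.Agent.Lib.Helper75_TripleReduce

open Cfsg Cfsg.Agent.Lib.Helper3_CharBridge Cfsg.Agent.Lib.Helper3_CharOrtho
  Cfsg.Agent.Lib.Helper75_LinChar Cfsg.Agent.Lib.Helper75_GlaubCount
  Cfsg.Agent.Lib.Helper75_CentralInv

universe u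

/-- An irreducible character which is constant on the kernel of a surjective homomorphism
descends along it. -/
theorem descend {Y G : Type*} [Group Y] [Finite Y] [Group G] (f : Y →* G)
    (hf : Function.Surjective f) {χ : Y → ℂ} (hχ : Cfsg.IsIrrCharacter Y χ)
    (hker : ∀ u : Y, f u = 1 → χ u = χ 1) :
    ∃ ψ : G → ℂ, Cfsg.IsIrrCharacter G ψ ∧ ∀ y, ψ (f y) = χ y := by
  obtain ⟨n, ρ, hρ, rfl⟩ := hχ
  have hk : f.ker ≤ (MonoidHom.toHomUnits ρ).ker := by
    intro u hu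
    rw [MonoidHom.mem_ker] at hu ⊢
    have h1 := hker u hu
    rw [Representation.char_one] at h1
    apply Units.ext
    exact (Cfsg.Agent.Lib.Helper3_CharEigen.char_eq_finrank_iff ρ u).mp h1
  have hσ0 := MonoidHom.liftOfRightInverse_comp f (Function.surjInv hf)
    (Function.rightInverse_surjInv hf)
    (⟨MonoidHom.toHomUnits ρ, hk⟩ :
      {g : Y →* (Module.End ℂ (Fin n → ℂ))ˣ // f.ker ≤ g.ker})
  obtain ⟨σu, hσu⟩ : ∃ σu : G →* (Module.End ℂ (Fin n → ℂ))ˣ,
      σu.comp f = MonoidHom.toHomUnits ρ := ⟨_, hσ0⟩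
  obtain ⟨σ, hσ⟩ : ∃ σ : Representation ℂ G (Fin n → ℂ), σ.comp f = ρ := by
    refine ⟨(Units.coeHom (Module.End ℂ (Fin n → ℂ))).comp σu, ?_⟩
    ext y : 1
    have h2 := congrArg (fun g : Y →* (Module.End ℂ (Fin n → ℂ))ˣ =>
      ((g y : (Module.End ℂ (Fin n → ℂ))ˣ) : Module.End ℂ (Fin n → ℂ))) hσu
    exact h2
  refine ⟨σ.character, ⟨n, σ, ?_, rfl⟩, fun y => ?_⟩
  · have h1 := (Cfsg.Agent.Lib.Helper57_FrobNorm.subrepEquivComp σ f hf).isSimpleOrder_iff
    rw [hσ] at h1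
    exact h1.mp hρ
  · show LinearMap.trace ℂ _ (σ (f y)) = LinearMap.trace ℂ _ (ρ y)
    rw [← hσ]
    rfl

section ModCentral

variable {X : Type u} [Group X] [Fintype X]

/-- **Layer A.** -/
theorem exists_invariant_mod (HP : ∀ (Q : Type u) [Group Q] [Fintype Q], PCorr Q)
    (Z N₀ Gh : Subgroup X) [hN₀ : N₀.Normal] [hGh : Gh.Normal]
    (hZc : ∀ z ∈ Z, ∀ a : X, z * a = a * z) (hZN : ∀ z ∈ Z, z ∈ N₀ → z = 1)
    (hZG : Z ≤ Gh) (hNG : N₀ ≤ Gh)
    (hcop : (Gh.index).Coprime ((Z ⊔ N₀).relIndex Gh))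
    (hsolv : Group.IsSolvable (X ⧸ Gh)) (lam : Z →* ℂ) :
    ∃ β : Gh → ℂ, Cfsg.IsIrrCharacter Gh β ∧ (∀ n : Gh, (n : X) ∈ N₀ → β n = β 1) ∧
      (∀ (z : Z) (a : Gh), β ⟨z * a, Gh.mul_mem (hZG z.2) a.2⟩ = lam z * β a) ∧
      (∀ (x : X) (a : Gh), β ⟨x * a * x⁻¹, hGh.conj_mem a a.2 x⟩ = β a) := by
  classical
  have hfQ : Fintype (X ⧸ N₀) := Fintype.ofFinite _
  have hG₁n : (Gh.map (QuotientGroup.mk' N₀)).Normal :=
    hGh.map (QuotientGroup.mk' N₀) (QuotientGroup.mk'_surjective N₀)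
  have hfG₁ : Fintype (Gh.map (QuotientGroup.mk' N₀)) := Fintype.ofFinite _
  have hfN₁ : Fintype (Z.map (QuotientGroup.mk' N₀)) := Fintype.ofFinite _
  have hN₁G₁ : Z.map (QuotientGroup.mk' N₀) ≤ Gh.map (QuotientGroup.mk' N₀) :=
    Subgroup.map_mono hZG
  have hcent : ∀ q ∈ Z.map (QuotientGroup.mk' N₀), ∀ y : X ⧸ N₀, q * y = y * q := by
    rintro _ ⟨z, hz, rfl⟩ y
    obtain ⟨a, rfl⟩ := QuotientGroup.mk'_surjective N₀ y
    rw [← map_mul, ← map_mul, hZc z hz a]
  have hidx : (Gh.map (QuotientGroup.mk' N₀)).index = Gh.index := by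
    apply Subgroup.index_map_eq _ (QuotientGroup.mk'_surjective N₀)
    rw [QuotientGroup.ker_mk']
    exact hNG
  have hrel : (Z.map (QuotientGroup.mk' N₀)).relIndex (Gh.map (QuotientGroup.mk' N₀)) =
      (Z ⊔ N₀).relIndex Gh := by
    rw [Subgroup.relIndex_map_map, QuotientGroup.ker_mk', sup_eq_left.mpr hNG]
  have hcop' : ((Gh.map (QuotientGroup.mk' N₀)).index).Coprime
      ((Z.map (QuotientGroup.mk' N₀)).relIndex (Gh.map (QuotientGroup.mk' N₀))) := by
    rw [hidx, hrel]; exact hcop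
  have hsolv' : Group.IsSolvable ((X ⧸ N₀) ⧸ Gh.map (QuotientGroup.mk' N₀)) :=
    Group.isSolvable_of_surjective (QuotientGroup.quotientQuotientEquivQuotient N₀ Gh hNG).symm.surjective
  -- the isomorphism `Z ≃ N₁`
  have hinj : Function.Injective ((QuotientGroup.mk' N₀).subgroupMap Z) := by
    rw [injective_iff_map_eq_one]
    intro z hz
    have h1 : QuotientGroup.mk' N₀ (z : X) = 1 := congrArg Subtype.val hz
    rw [QuotientGroup.mk'_apply, QuotientGroup.eq_one_iff] at h1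
    exact Subtype.ext (hZN z z.2 h1)
  obtain ⟨e, he⟩ : ∃ e : Z ≃* Z.map (QuotientGroup.mk' N₀),
      ∀ z : Z, ((e z : Z.map (QuotientGroup.mk' N₀)) : X ⧸ N₀) = QuotientGroup.mk' N₀ (z : X) :=
    ⟨MulEquiv.ofBijective ((QuotientGroup.mk' N₀).subgroupMap Z)
      ⟨hinj, (QuotientGroup.mk' N₀).subgroupMap_surjective Z⟩, fun z => rfl⟩
  have hlam₁ : IsLin (Z.map (QuotientGroup.mk' N₀)) (fun q => lam (e.symm q)) :=
    isLin_of_hom (lam.comp e.symm.toMonoidHom)
  obtain ⟨β₁, hβ₁over, hβ₁inv⟩ := exists_invariant_central (HP (X ⧸ N₀))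
    (Gh.map (QuotientGroup.mk' N₀)) (Z.map (QuotientGroup.mk' N₀)) hN₁G₁ hcent hcop' hsolv'
    ⟨fun q => lam (e.symm q), hlam₁.irr⟩
  have hval := central_value (Gh.map (QuotientGroup.mk' N₀)) (Z.map (QuotientGroup.mk' N₀))
    hN₁G₁ (fun q hq d _ => hcent q hq d) β₁ ⟨fun q => lam (e.symm q), hlam₁.irr⟩ hlam₁ hβ₁over
  refine ⟨fun a => (β₁ : Gh.map (QuotientGroup.mk' N₀) → ℂ)
    ((QuotientGroup.mk' N₀).subgroupMap Gh a), ?_, ?_, ?_, ?_⟩
  · exact Cfsg.Agent.Lib.Helper57_FrobNorm.isIrrCharacter_comp_surjective _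
      ((QuotientGroup.mk' N₀).subgroupMap_surjective Gh) β₁.2
  · intro n hn
    refine congrArg _ (Subtype.ext ?_)
    show QuotientGroup.mk' N₀ (n : X) = QuotientGroup.mk' N₀ ((1 : Gh) : X)
    rw [Subgroup.coe_one, map_one, QuotientGroup.mk'_apply, QuotientGroup.eq_one_iff]
    exact hn
  · intro z a
    have h1 := hval (e z) ((QuotientGroup.mk' N₀).subgroupMap Gh a)
    show (β₁ : Gh.map (QuotientGroup.mk' N₀) → ℂ) _ = _
    have h2 : lam (e.symm (e z)) = lam z := by rw [MulEquiv.symm_apply_apply]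
    rw [← h2]
    show _ = (fun q => lam (e.symm q)) (e z) * _
    rw [← h1]
    refine congrArg _ (Subtype.ext ?_)
    show QuotientGroup.mk' N₀ ((z : X) * a) = ((e z : Z.map (QuotientGroup.mk' N₀)) : X ⧸ N₀) *
      QuotientGroup.mk' N₀ (a : X)
    rw [he z, map_mul]
  · intro x a
    have h1 := hβ₁inv (QuotientGroup.mk' N₀ x) ((QuotientGroup.mk' N₀).subgroupMap Gh a)
    show (β₁ : Gh.map (QuotientGroup.mk' N₀) → ℂ) _ = (β₁ : Gh.map (QuotientGroup.mk' N₀) → ℂ) _
    rw [← h1]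
    refine congrArg _ (Subtype.ext ?_)
    show QuotientGroup.mk' N₀ (x * a * x⁻¹) = QuotientGroup.mk' N₀ x *
      QuotientGroup.mk' N₀ (a : X) * (QuotientGroup.mk' N₀ x)⁻¹
    rw [map_mul, map_mul, map_inv]

end ModCentral

section Reduce

variable {Γ : Type u} [Group Γ] [Fintype Γ] {X : Type u} [Group X] [Fintype X]

/-- **Layer B.**  Reduction of the invariant-constituent problem to the central case through a
central extension `p : X → Γ` over which the invariant character `θ` of `N` extends. -/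
theorem reduce (HP : ∀ (Q : Type u) [Group Q] [Fintype Q], PCorr Q)
    (G N : Subgroup Γ) [hG : G.Normal] [hN : N.Normal] [Fintype G] [Fintype N] (hNG : N ≤ G)
    (hcop : (G.index).Coprime (N.relIndex G)) (hsolv : Group.IsSolvable (Γ ⧸ G))
    (θ : N → ℂ) (hθ : Cfsg.IsIrrCharacter N θ)
    (p : X →* Γ) (hp : Function.Surjective p)
    (hZ : ∀ z : X, p z = 1 → ∀ a : X, z * a = a * z)
    (ι : N →* X) (hpι : ∀ x : N, p (ι x) = x)
    (hconj : ∀ (a : X) (x : N),
      a * ι x * a⁻¹ = ι ⟨p a * x * (p a)⁻¹, hN.conj_mem x x.2 (p a)⟩)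
    (τ : X → ℂ) (hτcl : ∀ a b : X, τ (a * b * a⁻¹) = τ b) (hτι : ∀ x : N, τ (ι x) = θ x)
    (hτirr : ∀ Y : Subgroup X, ι.range ≤ Y → Cfsg.IsIrrCharacter Y (fun y : Y => τ y))
    (ζ : X → ℂ) (hζ1 : ζ 1 = 1)
    (hζmul : ∀ z z' : X, p z = 1 → p z' = 1 → ζ (z * z') = ζ z * ζ z')
    (hζτ : ∀ z a : X, p z = 1 → τ (z * a) = ζ z * τ a) :
    ∃ χ : Cfsg.IrrCharacter G,
      Cfsg.classInner (fun n : N => (χ : G → ℂ) ⟨n, hNG n.2⟩) θ ≠ 0 ∧
      ∀ (x : Γ) (g : G), (χ : G → ℂ) ⟨x * g * x⁻¹, hG.conj_mem g g.2 x⟩ = (χ : G → ℂ) g := by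
  classical
  have hR : (ι.range).Normal := by
    refine ⟨fun n hn a => ?_⟩
    obtain ⟨x, rfl⟩ := hn
    rw [hconj a x]
    exact ⟨_, rfl⟩
  have hGhn : (G.comap p).Normal := hG.comap p
  have hZG : p.ker ≤ G.comap p := by
    intro z hz
    rw [MonoidHom.mem_ker] at hz
    rw [Subgroup.mem_comap, hz]; exact G.one_mem
  have hRG : ι.range ≤ G.comap p := by
    rintro _ ⟨x, rfl⟩
    rw [Subgroup.mem_comap, hpι]; exact hNG x.2
  have hZN : ∀ z ∈ p.ker, z ∈ ι.range → z = 1 := by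
    rintro _ hz ⟨x, rfl⟩
    rw [MonoidHom.mem_ker, hpι] at hz
    have : x = 1 := Subtype.ext hz
    rw [this, map_one]
  have hsup : p.ker ⊔ ι.range = N.comap p := by
    apply le_antisymm
    · apply sup_le
      · intro z hz
        rw [MonoidHom.mem_ker] at hz
        rw [Subgroup.mem_comap, hz]; exact N.one_mem
      · rintro _ ⟨x, rfl⟩
        rw [Subgroup.mem_comap, hpι]; exact x.2
    · intro a ha
      rw [Subgroup.mem_comap] at ha
      have h1 : a = (a * (ι ⟨p a, ha⟩)⁻¹) * ι ⟨p a, ha⟩ := by group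
      rw [h1]
      apply Subgroup.mul_mem_sup
      · rw [MonoidHom.mem_ker, map_mul, map_inv, hpι]; exact mul_inv_cancel _
      · exact ⟨_, rfl⟩
  have hidx : (G.comap p).index = G.index := Subgroup.index_comap_of_surjective G hp
  have hrel : (p.ker ⊔ ι.range).relIndex (G.comap p) = N.relIndex G := by
    rw [hsup, Subgroup.relIndex_comap, Subgroup.map_comap_eq_self_of_surjective hp]
  have hcop' : ((G.comap p).index).Coprime ((p.ker ⊔ ι.range).relIndex (G.comap p)) := by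
    rw [hidx, hrel]; exact hcop
  have hsolv' : Group.IsSolvable (X ⧸ G.comap p) := by
    have hinj : Function.Injective (QuotientGroup.map (G.comap p) G p le_rfl) := by
      rw [← MonoidHom.ker_eq_bot_iff, QuotientGroup.ker_map, QuotientGroup.map_mk'_self]
    exact Group.isSolvable_of_isSolvable_injective hinj
  -- the linear character `ζ⁻¹` of `ker p`
  obtain ⟨lam, hlam⟩ : ∃ lam : p.ker →* ℂ, ∀ z : p.ker, lam z = (ζ z)⁻¹ :=
    ⟨{ toFun := fun z => (ζ z)⁻¹
       map_one' := by rw [Subgroup.coe_one, hζ1, inv_one]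
       map_mul' := fun z z' => by
        rw [Subgroup.coe_mul, hζmul z z' (MonoidHom.mem_ker.mp z.2) (MonoidHom.mem_ker.mp z'.2),
          mul_inv] }, fun _ => rfl⟩
  have hζ0 : ∀ z : X, p z = 1 → ζ z ≠ 0 := by
    intro z hz h0
    have h1 := hζmul z z⁻¹ hz (by rw [map_inv, hz, inv_one])
    rw [mul_inv_cancel, hζ1, h0, zero_mul] at h1
    exact one_ne_zero h1
  obtain ⟨β, hβirr, hβN, hβZ, hβinv⟩ := exists_invariant_mod HP p.ker ι.range (G.comap p)
    (fun z hz a => hZ z (MonoidHom.mem_ker.mp hz) a) hZN hZG hRG hcop' hsolv' lam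
  have hfGh : Fintype (G.comap p) := Fintype.ofFinite _
  have hτh : Cfsg.IsIrrCharacter (G.comap p) (fun a : G.comap p => τ a) :=
    hτirr (G.comap p) hRG
  have hN₀n : ((ι.range).subgroupOf (G.comap p)).Normal := hR.subgroupOf (G.comap p)
  have hfN₀ : Fintype ((ι.range).subgroupOf (G.comap p)) := Fintype.ofFinite _
  have hϑ : Cfsg.IsIrrCharacter ((ι.range).subgroupOf (G.comap p))
      (fun n : (ι.range).subgroupOf (G.comap p) => τ ((n : G.comap p) : X)) :=
    Cfsg.Agent.Lib.Helper74_GoingUp.isIrr_comp_equiv (Subgroup.subgroupOfEquivOfLe hRG)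
      (hτirr ι.range le_rfl)
  have hprod : Cfsg.IsIrrCharacter ((ι.range).subgroupOf (G.comap p))
      ((fun _ : (ι.range).subgroupOf (G.comap p) => (1 : ℂ)) *
        fun n : (ι.range).subgroupOf (G.comap p) => τ ((n : G.comap p) : X)) := by
    have h1 : ((fun _ : (ι.range).subgroupOf (G.comap p) => (1 : ℂ)) *
        fun n : (ι.range).subgroupOf (G.comap p) => τ ((n : G.comap p) : X)) =
        fun n : (ι.range).subgroupOf (G.comap p) => τ ((n : G.comap p) : X) := by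
      funext n; simp
    rw [h1]; exact hϑ
  have hbij := Cfsg.Agent.S0856.result ((ι.range).subgroupOf (G.comap p)) (fun _ => (1 : ℂ))
    (fun n : (ι.range).subgroupOf (G.comap p) => τ ((n : G.comap p) : X))
    (Cfsg.Agent.Lib.Helper80_CharBasic.isIrrCharacter_one _) hϑ (fun _ _ => rfl)
    (fun g n => hτcl (g : X) ((n : G.comap p) : X)) hprod (fun a : G.comap p => τ a) hτh
    (fun _ => rfl)
  have hover : Cfsg.classInner
      (Cfsg.indFun ((ι.range).subgroupOf (G.comap p)) (fun _ => (1 : ℂ))) β ≠ 0 := by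
    rw [Cfsg.Agent.Lib.Helper75_Induced.frobenius_reciprocity _ _ _
      (isClassFunction_of_isIrrCharacter hβirr)]
    have h1 : (fun h : (ι.range).subgroupOf (G.comap p) => β h) =
        β 1 • fun _ => (1 : ℂ) := by
      funext n
      rw [hβN (n : G.comap p) (Subgroup.mem_subgroupOf.mp n.2)]
      simp
    rw [h1, ← classInner_conj_symm, classInner_smul_left,
      classInner_self_of_isIrrCharacter (Cfsg.Agent.Lib.Helper80_CharBasic.isIrrCharacter_one _),
      mul_one]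
    exact (map_ne_zero _).mpr (Cfsg.Agent.Lib.Helper75_Clifford.irr_one_ne_zero hβirr)
  have hχh : Cfsg.IsIrrCharacter (G.comap p) (β * fun a : G.comap p => τ a) :=
    (hbij.mapsTo ⟨hβirr, hover⟩).1
  have hkerconst : ∀ u : G.comap p, p.subgroupComap G u = 1 →
      (β * fun a : G.comap p => τ a) u = (β * fun a : G.comap p => τ a) 1 := by
    intro u hu
    have hu1 : p (u : X) = 1 := congrArg Subtype.val hu
    have h1 := hβZ ⟨u, MonoidHom.mem_ker.mpr hu1⟩ 1
    have h2 := hζτ (u : X) 1 hu1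
    have h3 : β u = lam ⟨u, MonoidHom.mem_ker.mpr hu1⟩ * β 1 := by
      rw [← h1]
      refine congrArg _ (Subtype.ext ?_)
      show (u : X) = (u : X) * ((1 : G.comap p) : X)
      rw [Subgroup.coe_one, mul_one]
    rw [mul_one] at h2
    rw [Pi.mul_apply, Pi.mul_apply, h3, hlam]
    show (ζ (u : X))⁻¹ * β 1 * τ (u : X) = β 1 * τ ((1 : G.comap p) : X)
    rw [h2, Subgroup.coe_one]
    field_simp [hζ0 (u : X) hu1]
  obtain ⟨ψ, hψirr, hψ⟩ := descend (p.subgroupComap G)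
    (p.subgroupComap_surjective_of_surjective G hp) hχh hkerconst
  refine ⟨⟨ψ, hψirr⟩, ?_, ?_⟩
  · have h1 : (fun n : N => ψ ⟨n, hNG n.2⟩) = β 1 • θ := by
      funext n
      have h2 : (⟨n, hNG n.2⟩ : G) = p.subgroupComap G ⟨ι n, hRG ⟨n, rfl⟩⟩ :=
        Subtype.ext (hpι n).symm
      rw [h2, hψ, Pi.mul_apply, hβN _ ⟨n, rfl⟩]
      show β 1 * τ (ι n) = _
      rw [hτι]
      rfl
    show Cfsg.classInner (fun n : N => ψ ⟨n, hNG n.2⟩) θ ≠ 0
    rw [h1, classInner_smul_left, classInner_self_of_isIrrCharacter hθ, mul_one]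
    exact Cfsg.Agent.Lib.Helper75_Clifford.irr_one_ne_zero hβirr
  · intro x g
    obtain ⟨b, rfl⟩ := hp x
    obtain ⟨a, rfl⟩ := p.subgroupComap_surjective_of_surjective G hp g
    have h2 : (⟨p b * (p.subgroupComap G a : G) * (p b)⁻¹,
        hG.conj_mem _ (p.subgroupComap G a).2 (p b)⟩ : G) =
        p.subgroupComap G ⟨b * a * b⁻¹, hGhn.conj_mem a a.2 b⟩ := by
      apply Subtype.ext
      show p b * p (a : X) * (p b)⁻¹ = p (b * a * b⁻¹)
      rw [map_mul, map_mul, map_inv]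
    show ψ _ = ψ _
    rw [h2, hψ, hψ, Pi.mul_apply, Pi.mul_apply, hβinv b a]
    show β a * τ (b * a * b⁻¹) = β a * τ (a : X)
    rw [hτcl]

end Reduce

end Cfsg.Agent.Lib.Helper75_TripleReduce
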