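import Cfsg.Agent.Lib.Helper75_CharArith

set_option autoImplicit false

namespace Cfsg.Agent.Lib.Helper25_VirtNorm

open Cfsg
open scoped ComplexConjugate
open Cfsg.Agent.Lib.Helper3_CharBridge Cfsg.Agent.Lib.Helper3_CharOrtho
  Cfsg.Agent.Lib.Helper3_CharComplete Cfsg.Agent.Lib.Helper75_CharArith

/-- A virtual character of norm 1 is an irreducible character up to sign. -/
theorem norm_one {G : Type*} [Group G] [Fintype G] (θ : G → ℂ)
    (hθ : IsGeneralizedCharacter G θ) (h1 : classInner θ θ = 1) :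
    IsIrrCharacter G θ ∨ IsIrrCharacter G (-θ) := by
  classical
  obtain ⟨χ, ψ, hχ, hψ, rfl⟩ := hθ
  obtain ⟨m, hm, -⟩ := exists_multiplicities hχ
  obtain ⟨m', hm', -⟩ := exists_multiplicities hψ
  set a : IrrCharacter G → ℤ := fun ξ => (m ξ : ℤ) - (m' ξ : ℤ) with ha
  have hcf : IsClassFunction G (χ - ψ) :=
    isClassFunction_sub (isClassFunction_of_isCharacter hχ) (isClassFunction_of_isCharacter hψ)
  have hinner : ∀ ξ : IrrCharacter G, classInner (χ - ψ) ξ = (a ξ : ℂ) := by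
    intro ξ; rw [classInner_sub_left, hm, hm']; simp [ha]
  have hpars : (∑ ξ : IrrCharacter G, a ξ * a ξ) = 1 := by
    have := classInner_self_eq_sum hcf
    rw [h1] at this
    have h3 : (1 : ℂ) = ((∑ ξ : IrrCharacter G, a ξ * a ξ : ℤ) : ℂ) := by
      rw [this]; push_cast
      apply Finset.sum_congr rfl; intro ξ _; rw [hinner ξ, map_intCast]
    exact_mod_cast h3.symm
  have hdecomp : (χ - ψ) = ∑ ξ : IrrCharacter G, (a ξ : ℂ) • (ξ : G → ℂ) := by
    conv_lhs => rw [classFunction_eq_sum _ hcf]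
    apply Finset.sum_congr rfl; intro ξ _; rw [hinner ξ]
  obtain ⟨ξ₀, h₀⟩ : ∃ ξ₀, a ξ₀ ≠ 0 := by
    by_contra hcon
    have hz : ∀ ξ, a ξ = 0 := fun ξ => by
      by_contra h
      exact hcon ⟨ξ, h⟩
    simp [hz] at hpars
  have hsplit : (∑ ξ : IrrCharacter G, a ξ * a ξ) =
      a ξ₀ * a ξ₀ + ∑ ξ ∈ Finset.univ.erase ξ₀, a ξ * a ξ := by
    rw [Finset.add_sum_erase _ (fun ξ => a ξ * a ξ) (Finset.mem_univ ξ₀)]
  have hrest_nonneg : 0 ≤ ∑ ξ ∈ Finset.univ.erase ξ₀, a ξ * a ξ :=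
    Finset.sum_nonneg (fun ξ _ => mul_self_nonneg _)
  rw [hsplit] at hpars
  have h11 : 1 ≤ a ξ₀ * a ξ₀ := by
    rcases lt_or_gt_of_ne h₀ with h | h
    · nlinarith
    · nlinarith
  have hsq : a ξ₀ * a ξ₀ = 1 := by linarith
  have hrest : ∑ ξ ∈ Finset.univ.erase ξ₀, a ξ * a ξ = 0 := by linarith
  have hzero : ∀ ξ, ξ ≠ ξ₀ → a ξ = 0 := by
    intro ξ hx
    have := (Finset.sum_eq_zero_iff_of_nonneg (fun ξ _ => mul_self_nonneg (a ξ))).mp hrest ξ
      (by simp [hx])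
    exact mul_self_eq_zero.mp this
  have hθ : (χ - ψ) = (a ξ₀ : ℂ) • (ξ₀ : G → ℂ) := by
    rw [hdecomp, ← Finset.add_sum_erase _ (fun ξ : IrrCharacter G => (a ξ : ℂ) • (ξ : G → ℂ))
      (Finset.mem_univ ξ₀), Finset.sum_eq_zero, add_zero]
    intro ξ hξ
    simp only [Finset.mem_erase, Finset.mem_univ, and_true] at hξ
    rw [hzero ξ hξ]; simp
  have hpm : a ξ₀ = 1 ∨ a ξ₀ = -1 := by
    have : (a ξ₀ - 1) * (a ξ₀ + 1) = 0 := by ring_nf; linarith
    rcases mul_eq_zero.mp this with h | h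
    · left; linarith
    · right; linarith
  rcases hpm with h | h
  · left
    rw [hθ, h]
    simpa using ξ₀.2
  · right
    rw [hθ, h]
    simpa using ξ₀.2

end Cfsg.Agent.Lib.Helper25_VirtNorm
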