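/-
Combinatorics of a group generated by involutions satisfying the exchange condition (on top of
`Helper6_Word`): the element with full descent set (longest element), distinguished double coset
representatives for pairs of parabolic subgroups, and the alternating sum of their numbers.
-/
import Mathlib
import Cfsg.Agent.Lib.Helper6_Word

set_option autoImplicit false
set_option linter.unusedSectionVars false
set_option linter.unusedVariables false

namespace Cfsg.Agent.Lib.Helper81_CoxComb

open Cfsg.Agent.Lib.Helper6_Word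

variable {W : Type*} [Group W]

/-! ### Right-handed versions -/

theorem len_mul_simple_cases {S : Set W} (h : InvGen S) (hE : Exchange S) {s : W} (hs : s ∈ S)
    (w : W) : len S (w * s) = len S w + 1 ∨ len S (w * s) + 1 = len S w := by
  have := len_simple_mul_cases h hE hs w⁻¹
  have e : s * w⁻¹ = (w * s)⁻¹ := by rw [mul_inv_rev, inv_eq_of_sq (h.sq s hs)]
  rw [e, len_inv h, len_inv h] at this
  exact this

/-! ### The element with full descent set -/

/-- If every generator is a left descent of `w`, then every `v` is a prefix of `w`. -/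
theorem len_prefix_of_full_descent {S : Set W} (h : InvGen S) (hE : Exchange S) {w : W}
    (hw : ∀ s ∈ S, len S (s * w) ≤ len S w) :
    ∀ (n : ℕ) (v : W), len S v = n → len S (v⁻¹ * w) + n = len S w := by
  intro n
  induction n with
  | zero =>
    intro v hv
    rw [len_eq_zero_iff h] at hv
    subst hv
    simp
  | succ n ih =>
    intro v hv
    obtain ⟨s, hs, hsv⟩ := exists_simple_mul_of_len_succ h hv
    have ih' := ih (s * v) hsv
    obtain ⟨l₁, hl₁, hp₁, hlen₁⟩ := exists_reduced h (s * v)
    obtain ⟨l₂, hl₂, hp₂, hlen₂⟩ := exists_reduced h ((s * v)⁻¹ * w)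
    have hprod : (l₁ ++ l₂).prod = w := by
      rw [List.prod_append, hp₁, hp₂]; group
    have hred : IsReduced S (l₁ ++ l₂) := by
      refine ⟨isWord_append.2 ⟨hl₁, hl₂⟩, ?_⟩
      rw [hprod, List.length_append, hlen₁, hlen₂, hsv]; omega
    obtain ⟨i, hi, hi'⟩ := hE s hs (l₁ ++ l₂) hred (by rw [hprod]; exact hw s hs)
    rw [hprod] at hi'
    rw [List.length_append] at hi
    have hss : s * s = 1 := h.sq s hs
    by_cases hlt : i < l₁.length
    · exfalso
      rw [List.eraseIdx_append_of_lt_length hlt, List.prod_append, hp₂] at hi'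
      have hv' : v = (l₁.eraseIdx i).prod := by
        have e1 : s * w = v * ((s * v)⁻¹ * w) := by
          rw [mul_inv_rev, inv_eq_of_sq hss]
          have : v * (v⁻¹ * s * w) = s * w := by group
          rw [this]
        rw [e1] at hi'
        exact mul_right_cancel hi'
      have h1 := len_le_length (hl₁.eraseIdx i)
      rw [← hv', List.length_eraseIdx, if_pos hlt, hlen₁, hsv, hv] at h1
      omega
    · push Not at hlt
      rw [List.eraseIdx_append_of_length_le hlt, List.prod_append, hp₁] at hi'
      have hvu : v⁻¹ * w = (l₂.eraseIdx (i - l₁.length)).prod := by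
        have : v⁻¹ * w = (s * v)⁻¹ * (s * w) := by
          rw [mul_inv_rev, inv_eq_of_sq hss]
          have : v⁻¹ * s * (s * w) = v⁻¹ * (s * s) * w := by group
          rw [this, hss, mul_one]
        rw [this, hi']
        group
      have h1 := len_le_length ((hl₂.eraseIdx (i - l₁.length)))
      rw [← hvu, List.length_eraseIdx, if_pos (by omega), hlen₂] at h1
      have h2 := len_mul_le h v (v⁻¹ * w)
      rw [mul_inv_cancel_left, hv] at h2
      omega

theorem len_le_of_full_descent {S : Set W} (h : InvGen S) (hE : Exchange S) {w : W}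
    (hw : ∀ s ∈ S, len S (s * w) ≤ len S w) (v : W) : len S v ≤ len S w := by
  have := len_prefix_of_full_descent h hE hw _ v rfl
  omega

theorem eq_of_full_descent_of_len_le {S : Set W} (h : InvGen S) (hE : Exchange S) {w : W}
    (hw : ∀ s ∈ S, len S (s * w) ≤ len S w) {v : W} (hv : len S w ≤ len S v) : v = w := by
  have h1 := len_prefix_of_full_descent h hE hw _ v rfl
  have h2 : len S (v⁻¹ * w) = 0 := by omega
  rw [len_eq_zero_iff h] at h2
  exact (inv_mul_eq_one.1 h2)

theorem full_descent_unique {S : Set W} (h : InvGen S) (hE : Exchange S) {w w' : W}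
    (hw : ∀ s ∈ S, len S (s * w) ≤ len S w) (hw' : ∀ s ∈ S, len S (s * w') ≤ len S w') :
    w' = w :=
  eq_of_full_descent_of_len_le h hE hw (len_le_of_full_descent h hE hw' w)

theorem full_descent_inv {S : Set W} (h : InvGen S) (hE : Exchange S) {w : W}
    (hw : ∀ s ∈ S, len S (s * w) ≤ len S w) : w⁻¹ = w :=
  eq_of_full_descent_of_len_le h hE hw (by rw [len_inv h])

theorem full_descent_right {S : Set W} (h : InvGen S) (hE : Exchange S) {w : W}
    (hw : ∀ s ∈ S, len S (s * w) ≤ len S w) : ∀ s ∈ S, len S (w * s) ≤ len S w := by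
  intro s hs
  have e : w * s = (s * w)⁻¹ := by
    rw [mul_inv_rev, inv_eq_of_sq (h.sq s hs), full_descent_inv h hE hw]
  rw [e, len_inv h]
  exact hw s hs

theorem exists_full_descent [Finite W] {S : Set W} (h : InvGen S) :
    ∃ w : W, ∀ s ∈ S, len S (s * w) ≤ len S w := by
  obtain ⟨w, hw⟩ := Finite.exists_max (fun w : W => len S w)
  exact ⟨w, fun s _ => hw (s * w)⟩

/-! ### Distinguished double coset representatives -/

/-- The `(J, K)`-reduced elements: no generator in `J` shortens on the left, none in `K` on the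
right. -/
def Red (S J K : Set W) : Set W :=
  {w | (∀ s ∈ J, len S w < len S (s * w)) ∧ (∀ t ∈ K, len S w < len S (w * t))}

theorem exists_red {S : Set W} (h : InvGen S) (hE : Exchange S) {J K : Set W} (hJ : J ⊆ S)
    (hK : K ⊆ S) : ∀ (n : ℕ) (w : W), len S w = n →
      ∃ d ∈ Red S J K, ∃ x ∈ Subgroup.closure J, ∃ y ∈ Subgroup.closure K, w = x * d * y := by
  intro n
  induction n using Nat.strong_induction_on with
  | _ n ih =>
    intro w hw
    by_cases hred : w ∈ Red S J K
    · exact ⟨w, hred, 1, Subgroup.one_mem _, 1, Subgroup.one_mem _, by simp⟩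
    · have : (∃ s ∈ J, ¬ len S w < len S (s * w)) ∨ (∃ t ∈ K, ¬ len S w < len S (w * t)) := by
        by_contra hcon
        push Not at hcon
        exact hred ⟨hcon.1, hcon.2⟩
      rcases this with ⟨s, hs, hlt⟩ | ⟨t, ht, hlt⟩
      · have hc := len_simple_mul_cases h hE (hJ hs) w
        have hlt' : len S (s * w) < n := by omega
        obtain ⟨d, hd, x, hx, y, hy, he⟩ := ih _ hlt' (s * w) rfl
        refine ⟨d, hd, s * x, Subgroup.mul_mem _ (Subgroup.subset_closure hs) hx, y, hy, ?_⟩
        have hss : s * s = 1 := h.sq s (hJ hs)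
        calc w = s * (s * w) := by rw [← mul_assoc, hss, one_mul]
          _ = s * x * d * y := by rw [he]; group
      · have hc := len_mul_simple_cases h hE (hK ht) w
        have hlt' : len S (w * t) < n := by omega
        obtain ⟨d, hd, x, hx, y, hy, he⟩ := ih _ hlt' (w * t) rfl
        refine ⟨d, hd, x, hx, y * t, Subgroup.mul_mem _ hy (Subgroup.subset_closure ht), ?_⟩
        have htt : t * t = 1 := h.sq t (hK ht)
        calc w = (w * t) * t := by rw [mul_assoc, htt, mul_one]
          _ = x * d * (y * t) := by rw [he]; group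

/-- a `(J,K)`-reduced element of `W_J d W_K` is the product of a subword of any reduced word
of `d` -/
theorem red_sublist {S : Set W} (h : InvGen S) (hE : Exchange S) {J K : Set W} (hJ : J ⊆ S)
    (hK : K ⊆ S) {d d' x y : W} (hd' : d' ∈ Red S J K) (hx : x ∈ Subgroup.closure J)
    (hy : y ∈ Subgroup.closure K) (he : d' = x * d * y) (l : List W) (hl : IsWord S l)
    (hlp : l.prod = d) : ∃ b : List W, b.Sublist l ∧ b.prod = d' ∧ b.length = len S d' := by
  obtain ⟨lx, hlx, hpx, -⟩ := exists_reduced_word_of_mem_closure h hE hJ hx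
  obtain ⟨ly, hly, hpy, -⟩ := exists_reduced_word_of_mem_closure h hE hK hy
  have hword : IsWord S (lx ++ (l ++ ly)) :=
    isWord_append.2 ⟨hlx.mono hJ, isWord_append.2 ⟨hl, hly.mono hK⟩⟩
  have hprod : (lx ++ (l ++ ly)).prod = d' := by
    rw [List.prod_append, List.prod_append, hpx, hlp, hpy, he]; group
  obtain ⟨l', hsub, hp', hlen'⟩ := exists_reduced_sublist h hE _ _ rfl hword
  rw [hprod] at hp' hlen'
  obtain ⟨a, r, rfl, ha, hr⟩ := List.sublist_append_iff.1 hsub
  obtain ⟨b, c, rfl, hb, hc⟩ := List.sublist_append_iff.1 hr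
  have haJ : IsWord J a := hlx.sublist ha
  have hcK : IsWord K c := hly.sublist hc
  have hbS : IsWord S b := hl.sublist hb
  -- `a` is empty
  have ha0 : a = [] := by
    cases a with
    | nil => rfl
    | cons s a' =>
      exfalso
      have hs : s ∈ J := (isWord_cons.1 haJ).1
      have h1 := hd'.1 s hs
      have hss : s * s = 1 := h.sq s (hJ hs)
      have e : s * d' = (a' ++ (b ++ c)).prod := by
        rw [← hp', List.cons_append, List.prod_cons, ← mul_assoc, hss, one_mul]
      have hw' : IsWord S (a' ++ (b ++ c)) :=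
        isWord_append.2 ⟨((isWord_cons.1 haJ).2).mono hJ, isWord_append.2 ⟨hbS, hcK.mono hK⟩⟩
      have h2 := len_le_length hw'
      rw [← e] at h2
      simp only [List.cons_append, List.length_cons, List.length_append] at hlen' h2
      omega
  subst ha0
  have hc0 : c = [] := by
    rcases List.eq_nil_or_concat c with hc0 | ⟨c', t, hct⟩
    · exact hc0
    · exfalso
      rw [List.concat_eq_append] at hct
      subst hct
      have ht : t ∈ K := hcK t (by simp)
      have h1 := hd'.2 t ht
      have htt : t * t = 1 := h.sq t (hK ht)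
      have e : d' * t = (b ++ c').prod := by
        rw [← hp']
        simp only [List.nil_append, List.prod_append, List.prod_cons, List.prod_nil, mul_one]
        rw [mul_assoc, mul_assoc, htt, mul_one]
      have hc'K : IsWord K c' := fun z hz => hcK z (by simp [hz])
      have hw' : IsWord S (b ++ c') := isWord_append.2 ⟨hbS, hc'K.mono hK⟩
      have h2 := len_le_length hw'
      rw [← e] at h2
      simp only [List.nil_append, List.length_append, List.length_cons, List.length_nil] at hlen' h2
      omega
  subst hc0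
  refine ⟨b, hb, ?_, ?_⟩
  · simpa using hp'
  · simpa using hlen'

theorem red_unique {S : Set W} (h : InvGen S) (hE : Exchange S) {J K : Set W} (hJ : J ⊆ S)
    (hK : K ⊆ S) {d d' x y : W} (hd : d ∈ Red S J K) (hd' : d' ∈ Red S J K)
    (hx : x ∈ Subgroup.closure J) (hy : y ∈ Subgroup.closure K) (he : d' = x * d * y) :
    d' = d := by
  obtain ⟨l, hl, hlp, hlen⟩ := exists_reduced h d
  obtain ⟨l', hl', hlp', hlen'⟩ := exists_reduced h d'
  obtain ⟨b, hb, hbp, hblen⟩ := red_sublist h hE hJ hK hd' hx hy he l hl hlp
  have he' : d = x⁻¹ * d' * y⁻¹ := by rw [he]; group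
  obtain ⟨b', hb', hbp', hblen'⟩ := red_sublist h hE hJ hK hd (Subgroup.inv_mem _ hx)
    (Subgroup.inv_mem _ hy) he' l' hl' hlp'
  have h1 := hb.length_le
  have h2 := hb'.length_le
  have hbl : b = l := hb.eq_of_length_le (by omega)
  rw [← hbp, hbl, hlp]

/-! ### The alternating sum -/

open Classical in
/-- The alternating sum over `J` of the numbers of `(J, K)`-reduced elements is `1` for `K = ∅`
and `0` otherwise.  The subsets `J` of `S` are indexed through a map `σ` injective on a finset. -/
theorem alternating_sum_red [Fintype W] {S : Set W} (h : InvGen S) (hE : Exchange S)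
    {ι : Type*} (I : Finset ι) (σ : ι → W) (hσ : σ '' (I : Set ι) = S)
    {K : Set W} (hK : K ⊆ S) :
    ∑ J ∈ I.powerset, (-1 : ℤ) ^ J.card * (Nat.card (Red S (σ '' (J : Set ι)) K) : ℤ) =
      if K = ∅ then 1 else 0 := by
  obtain ⟨w₀, hw₀⟩ := exists_full_descent h
  have hcard : ∀ J : Finset ι, (Nat.card (Red S (σ '' (J : Set ι)) K) : ℤ) =
      ∑ w : W, if w ∈ Red S (σ '' (J : Set ι)) K then (1 : ℤ) else 0 := by
    intro J
    rw [Nat.card_eq_fintype_card, Fintype.card_subtype, Finset.card_filter]
    push_cast
    rfl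
  simp_rw [hcard, Finset.mul_sum]
  rw [Finset.sum_comm]
  -- inner sum for fixed `w`
  have hinner : ∀ w : W, ∑ J ∈ I.powerset,
      (-1 : ℤ) ^ J.card * (if w ∈ Red S (σ '' (J : Set ι)) K then (1 : ℤ) else 0) =
      if w = w₀ ∧ K = ∅ then 1 else 0 := by
    intro w
    set A : Finset ι := I.filter (fun i => len S w < len S (σ i * w)) with hA
    have hAI : A ⊆ I := Finset.filter_subset _ _
    have hmem : ∀ J ∈ I.powerset, (w ∈ Red S (σ '' (J : Set ι)) K ↔
        (J ⊆ A ∧ ∀ t ∈ K, len S w < len S (w * t))) := by
      intro J hJ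
      rw [Finset.mem_powerset] at hJ
      constructor
      · intro hr
        refine ⟨?_, hr.2⟩
        intro i hi
        rw [hA, Finset.mem_filter]
        exact ⟨hJ hi, hr.1 (σ i) ⟨i, hi, rfl⟩⟩
      · rintro ⟨hr, hr2⟩
        refine ⟨?_, hr2⟩
        rintro _ ⟨i, hi, rfl⟩
        exact (Finset.mem_filter.1 (hr hi)).2
    have hfilt : I.powerset.filter (fun J => J ⊆ A) = A.powerset := by
      ext J
      rw [Finset.mem_filter, Finset.mem_powerset, Finset.mem_powerset]
      exact ⟨fun hh => hh.2, fun hh => ⟨hh.trans hAI, hh⟩⟩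
    have hAempty : A = ∅ ↔ w = w₀ := by
      constructor
      · intro hAe
        apply full_descent_unique h hE hw₀
        intro s hs
        rw [← hσ] at hs
        obtain ⟨i, hi, rfl⟩ := hs
        by_contra hcon
        push Not at hcon
        have : i ∈ A := by
          rw [hA, Finset.mem_filter]
          exact ⟨hi, hcon⟩
        rw [hAe] at this
        exact absurd this (Finset.notMem_empty _)
      · intro hw
        rw [Finset.eq_empty_iff_forall_notMem]
        intro i hi
        rw [hA, Finset.mem_filter] at hi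
        have := hw₀ (σ i) (by rw [← hσ]; exact ⟨i, hi.1, rfl⟩)
        rw [hw] at hi
        omega
    by_cases hwK : ∀ t ∈ K, len S w < len S (w * t)
    · have hsum : ∑ J ∈ I.powerset,
          (-1 : ℤ) ^ J.card * (if w ∈ Red S (σ '' (J : Set ι)) K then (1 : ℤ) else 0) =
          ∑ J ∈ I.powerset, if J ⊆ A then (-1 : ℤ) ^ J.card else 0 := by
        apply Finset.sum_congr rfl
        intro J hJ
        by_cases hJA : J ⊆ A
        · rw [if_pos ((hmem J hJ).2 ⟨hJA, hwK⟩), if_pos hJA, mul_one]
        · rw [if_neg (fun hr => hJA ((hmem J hJ).1 hr).1), if_neg hJA, mul_zero]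
      rw [hsum, ← Finset.sum_filter, hfilt, Finset.sum_powerset_neg_one_pow_card]
      by_cases hw : w = w₀
      · have hK0 : K = ∅ := by
          rw [Set.eq_empty_iff_forall_notMem]
          intro t ht
          have h1 := hwK t ht
          have h2 := full_descent_right h hE hw₀ t (hK ht)
          rw [hw] at h1
          omega
        rw [if_pos (hAempty.2 hw), if_pos ⟨hw, hK0⟩]
      · rw [if_neg (fun hh => hw (hAempty.1 hh)), if_neg (fun hh => hw hh.1)]
    · have hsum : ∑ J ∈ I.powerset,
          (-1 : ℤ) ^ J.card * (if w ∈ Red S (σ '' (J : Set ι)) K then (1 : ℤ) else 0) = 0 := by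
        apply Finset.sum_eq_zero
        intro J hJ
        rw [if_neg (fun hr => hwK ((hmem J hJ).1 hr).2), mul_zero]
      rw [hsum, if_neg]
      rintro ⟨-, hK0⟩
      apply hwK
      intro t ht
      rw [hK0] at ht
      exact absurd ht (Set.notMem_empty _)
  simp_rw [hinner]
  by_cases hK0 : K = ∅
  · rw [if_pos hK0]
    rw [Finset.sum_eq_single w₀]
    · rw [if_pos ⟨rfl, hK0⟩]
    · intro w _ hw
      rw [if_neg (fun hh => hw hh.1)]
    · intro hh
      exact absurd (Finset.mem_univ _) hh
  · rw [if_neg hK0]
    apply Finset.sum_eq_zero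
    intro w _
    rw [if_neg (fun hh => hK0 hh.2)]

end Cfsg.Agent.Lib.Helper81_CoxComb
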