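import Mathlib

/-!
# Complete homogeneous polynomials and the Jacobi–Trudi/Vandermonde identity (helper81)

In `MvPolynomial (Fin n) ℤ`: `hh m = Σ_{|l| = m} x^l`, and for every `α : Fin n → ℕ`
`det (x_k ^ α_j) = det (x_k ^ j) * det (h_{α_j - i})`.
-/

set_option autoImplicit false

namespace Cfsg.Agent.Lib.Helper81_JT1

open MvPolynomial

variable {n : ℕ}

/-- complete homogeneous symmetric polynomial of degree `m` in `n` variables -/
noncomputable def hh (n m : ℕ) : MvPolynomial (Fin n) ℤ :=
  ∑ l ∈ Finset.finsuppAntidiag (Finset.univ : Finset (Fin n)) m, monomial l 1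

/-- `h_{a - i}`, zero when `i > a` -/
noncomputable def hsub (n a i : ℕ) : MvPolynomial (Fin n) ℤ := if i ≤ a then hh n (a - i) else 0

/-- geometric series in `x_i t` -/
noncomputable def G (i : Fin n) : PowerSeries (MvPolynomial (Fin n) ℤ) :=
  PowerSeries.mk fun m => (X i : MvPolynomial (Fin n) ℤ) ^ m

theorem G_mul (i : Fin n) :
    G i * (1 - PowerSeries.C (X i : MvPolynomial (Fin n) ℤ) * PowerSeries.X) = 1 := by
  have h1 : G i = PowerSeries.rescale (X i : MvPolynomial (Fin n) ℤ) (PowerSeries.mk 1) := by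
    rw [PowerSeries.rescale_mk]
    unfold G
    congr 1
    funext m
    simp
  have h2 : (1 - PowerSeries.C (X i : MvPolynomial (Fin n) ℤ) * PowerSeries.X) =
      PowerSeries.rescale (X i : MvPolynomial (Fin n) ℤ) (1 - PowerSeries.X) := by
    rw [map_sub, map_one, PowerSeries.rescale_X]
  rw [h1, h2, ← map_mul, PowerSeries.mk_one_mul_one_sub_eq_one, map_one]

/-- generating series of the `hh m` -/
noncomputable def Hs (n : ℕ) : PowerSeries (MvPolynomial (Fin n) ℤ) := ∏ i : Fin n, G i

theorem coeff_Hs (m : ℕ) : PowerSeries.coeff m (Hs n) = hh n m := by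
  classical
  unfold Hs hh
  rw [PowerSeries.coeff_prod]
  apply Finset.sum_congr rfl
  intro l _
  unfold G
  simp only [PowerSeries.coeff_mk]
  rw [monomial_eq, map_one, one_mul, Finsupp.prod_fintype]
  intro i
  exact pow_zero _

/-- `∏_{i ≠ k} (1 - x_i t)` as a polynomial in `t` -/
noncomputable def Ek (k : Fin n) : Polynomial (MvPolynomial (Fin n) ℤ) :=
  ∏ i ∈ Finset.univ.erase k, (1 - Polynomial.C (X i : MvPolynomial (Fin n) ℤ) * Polynomial.X)

theorem natDegree_Ek (k : Fin n) : (Ek k).natDegree ≤ n - 1 := by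
  unfold Ek
  refine le_trans (Polynomial.natDegree_prod_le _ _) ?_
  have h1 : ∀ i ∈ Finset.univ.erase k,
      (1 - Polynomial.C (X i : MvPolynomial (Fin n) ℤ) * Polynomial.X).natDegree ≤ 1 := by
    intro i _
    refine le_trans (Polynomial.natDegree_sub_le _ _) ?_
    rw [Polynomial.natDegree_one]
    exact max_le (Nat.zero_le _)
      (le_trans (Polynomial.natDegree_C_mul_le _ _) Polynomial.natDegree_X_le)
  refine le_trans (Finset.sum_le_sum h1) ?_
  rw [Finset.sum_const, Finset.card_erase_of_mem (Finset.mem_univ k), Finset.card_univ,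
    Fintype.card_fin]
  simp

theorem Ek_mul_Hs (k : Fin n) : ((Ek k : Polynomial (MvPolynomial (Fin n) ℤ)) :
    PowerSeries (MvPolynomial (Fin n) ℤ)) * Hs n = G k := by
  unfold Hs Ek
  rw [← Finset.mul_prod_erase Finset.univ G (Finset.mem_univ k)]
  have : ((∏ i ∈ Finset.univ.erase k,
      (1 - Polynomial.C (X i : MvPolynomial (Fin n) ℤ) * Polynomial.X) :
        Polynomial (MvPolynomial (Fin n) ℤ)) : PowerSeries (MvPolynomial (Fin n) ℤ)) =
      ∏ i ∈ Finset.univ.erase k,
        (1 - PowerSeries.C (X i : MvPolynomial (Fin n) ℤ) * PowerSeries.X) := by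
    rw [← Polynomial.coeToPowerSeries.ringHom_apply, map_prod]
    apply Finset.prod_congr rfl
    intro i _
    simp
  rw [this, mul_comm (G k), ← mul_assoc, ← Finset.prod_mul_distrib]
  rw [Finset.prod_eq_one, one_mul]
  intro i _
  rw [mul_comm]
  exact G_mul i

/-- the key recursion: `x_k^m = Σ_{i<n} E_{k,i} h_{m-i}` -/
theorem X_pow_eq (k : Fin n) (m : ℕ) :
    (X k : MvPolynomial (Fin n) ℤ) ^ m = ∑ i : Fin n, (Ek k).coeff i.val * hsub n m i.val := by
  have h1 : PowerSeries.coeff m (G k) = (X k : MvPolynomial (Fin n) ℤ) ^ m := by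
    unfold G; rw [PowerSeries.coeff_mk]
  rw [← h1, ← Ek_mul_Hs k, PowerSeries.coeff_mul,
    Finset.Nat.sum_antidiagonal_eq_sum_range_succ_mk]
  simp only [Polynomial.coeff_coe, coeff_Hs]
  rw [Fin.sum_univ_eq_sum_range (fun i => (Ek k).coeff i * hsub n m i) n]
  -- compare two range sums
  have hL : ∑ i ∈ Finset.range (m + 1), (Ek k).coeff i * hh n (m - i) =
      ∑ i ∈ Finset.range (max (m + 1) n), (Ek k).coeff i * hsub n m i := by
    rw [← Finset.sum_subset (s₁ := Finset.range (m + 1)) (s₂ := Finset.range (max (m + 1) n))]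
    · apply Finset.sum_congr rfl
      intro i hi
      rw [Finset.mem_range] at hi
      unfold hsub
      rw [if_pos (by omega)]
    · intro i hi
      rw [Finset.mem_range] at hi ⊢
      exact lt_of_lt_of_le hi (le_max_left _ _)
    · intro i _ hi
      rw [Finset.mem_range] at hi
      unfold hsub
      rw [if_neg (by omega), mul_zero]
  have hR : ∑ i ∈ Finset.range n, (Ek k).coeff i * hsub n m i =
      ∑ i ∈ Finset.range (max (m + 1) n), (Ek k).coeff i * hsub n m i := by
    apply Finset.sum_subset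
    · intro i hi
      rw [Finset.mem_range] at hi ⊢
      exact lt_of_lt_of_le hi (le_max_right _ _)
    · intro i _ hi
      rw [Finset.mem_range] at hi
      rw [Polynomial.coeff_eq_zero_of_natDegree_lt, zero_mul]
      have := natDegree_Ek k
      have := Fin.pos k
      omega
  rw [hL, hR]

theorem hh_zero : hh n 0 = 1 := by
  classical
  unfold hh
  rw [Finset.finsuppAntidiag_zero, Finset.sum_singleton]
  rfl

/-- exponent vectors as finitely supported functions -/
noncomputable def fs (c : Fin n → ℕ) : Fin n →₀ ℕ := Finsupp.equivFunOnFinite.symm c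

@[simp] theorem fs_apply (c : Fin n → ℕ) (i : Fin n) : fs c i = c i := rfl

theorem prod_X_pow (c : Fin n → ℕ) :
    ∏ i, (X i : MvPolynomial (Fin n) ℤ) ^ c i = monomial (fs c) 1 := by
  rw [monomial_eq, map_one, one_mul, Finsupp.prod_fintype]
  · rfl
  · intro i; exact pow_zero _

/-- alternant matrix: row `j` has exponent `α j`, column `k` has variable `x_k` -/
noncomputable def A (α : Fin n → ℕ) : Matrix (Fin n) (Fin n) (MvPolynomial (Fin n) ℤ) :=
  Matrix.of fun j k => (X k : MvPolynomial (Fin n) ℤ) ^ α j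

/-- Jacobi–Trudi matrix -/
noncomputable def Hm (α : Fin n → ℕ) : Matrix (Fin n) (Fin n) (MvPolynomial (Fin n) ℤ) :=
  Matrix.of fun j i => hsub n (α j) i.val

/-- the transition matrix -/
noncomputable def Mm (n : ℕ) : Matrix (Fin n) (Fin n) (MvPolynomial (Fin n) ℤ) :=
  Matrix.of fun i k => (Ek k).coeff i.val

theorem A_eq (α : Fin n → ℕ) : A α = Hm α * Mm n := by
  apply Matrix.ext
  intro j k
  rw [Matrix.mul_apply]
  change (X k : MvPolynomial (Fin n) ℤ) ^ α j =
    ∑ i : Fin n, hsub n (α j) i.val * (Ek k).coeff i.val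
  rw [X_pow_eq]
  apply Finset.sum_congr rfl
  intro i _
  rw [mul_comm]

theorem det_Hm_delta : (Hm (fun i : Fin n => i.val)).det = 1 := by
  rw [Matrix.det_of_isLowerTriangular]
  · apply Finset.prod_eq_one
    intro i _
    change hsub n i.val i.val = 1
    unfold hsub
    rw [if_pos le_rfl, Nat.sub_self, hh_zero]
  · intro j i hji
    change hsub n j.val i.val = 0
    unfold hsub
    rw [if_neg]
    have : j < i := hji
    rw [Fin.lt_def] at this
    omega

/-- `det (x_k^{α_j}) = det (h_{α_j - i}) * det (x_k^j)` -/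
theorem det_A (α : Fin n → ℕ) : (A α).det = (Hm α).det * (A (fun i : Fin n => i.val)).det := by
  have h1 : (A (fun i : Fin n => i.val)).det = (Mm n).det := by
    rw [A_eq, Matrix.det_mul, det_Hm_delta, one_mul]
  rw [h1, A_eq, Matrix.det_mul]

theorem det_A_eq (α : Fin n → ℕ) :
    (A α).det = ∑ σ : Equiv.Perm (Fin n),
      ((Equiv.Perm.sign σ : ℤ) : MvPolynomial (Fin n) ℤ) * monomial (fs fun i => α (σ i)) 1 := by
  rw [Matrix.det_apply']
  apply Finset.sum_congr rfl
  intro σ _
  congr 1
  exact prod_X_pow (fun i => α (σ i))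

theorem det_Hm_eq (α : Fin n → ℕ) :
    (Hm α).det = ∑ σ : Equiv.Perm (Fin n),
      ((Equiv.Perm.sign σ : ℤ) : MvPolynomial (Fin n) ℤ) * ∏ i, hsub n (α i) (σ i).val := by
  rw [← Matrix.det_transpose, Matrix.det_apply']
  rfl

/-- the coefficients of a product of complete homogeneous polynomials count contingency tables -/
theorem coeff_prod_hh (α β : Fin n → ℕ) :
    coeff (fs α) (∏ j, hh n (β j)) =
      (Nat.card {m : Fin n → Fin n → ℕ // (∀ a, ∑ b, m a b = α a) ∧ ∀ b, ∑ a, m a b = β b} : ℤ) := by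
  classical
  unfold hh
  rw [Finset.prod_univ_sum]
  simp_rw [← monomial_sum_one]
  rw [coeff_sum]
  simp_rw [coeff_monomial]
  rw [Finset.sum_boole]
  congr 1
  rw [← Fintype.card_coe, ← Nat.card_eq_fintype_card]
  apply Nat.card_congr
  refine
    { toFun := fun L => ⟨fun a b => L.1 b a, ?_, ?_⟩
      invFun := fun m => ⟨fun j => fs (fun a => m.1 a j), ?_⟩
      left_inv := ?_
      right_inv := ?_ }
  · intro a
    have h := (Finset.mem_filter.mp L.2).2
    have := DFunLike.congr_fun h a
    rw [Finsupp.finsetSum_apply] at this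
    exact this
  · intro b
    have h := (Finset.mem_filter.mp L.2).1
    rw [Fintype.mem_piFinset] at h
    exact (Finset.mem_finsuppAntidiag.mp (h b)).1
  · rw [Finset.mem_filter, Fintype.mem_piFinset]
    refine ⟨fun j => ?_, ?_⟩
    · rw [Finset.mem_finsuppAntidiag]
      exact ⟨m.2.2 j, Finset.subset_univ _⟩
    · ext a
      rw [Finsupp.finsetSum_apply]
      exact m.2.1 a
  · intro L
    apply Subtype.ext
    funext j
    ext a
    rfl
  · intro m
    rfl

theorem intCast_eq_C (z : ℤ) : ((z : ℤ) : MvPolynomial (Fin n) ℤ) = C z := by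
  simp

/-- coefficient of `x^lam` in `a_δ * P` -/
theorem coeff_vandermonde_mul (lam : Fin n → ℕ) (P : MvPolynomial (Fin n) ℤ) :
    coeff (fs lam) ((A (fun i : Fin n => i.val)).det * P) =
      ∑ σ : Equiv.Perm (Fin n), (Equiv.Perm.sign σ : ℤ) *
        (if ∀ i, (σ i).val ≤ lam i then coeff (fs fun i => lam i - (σ i).val) P else 0) := by
  classical
  rw [det_A_eq, Finset.sum_mul, coeff_sum]
  apply Finset.sum_congr rfl
  intro σ _
  rw [intCast_eq_C, mul_assoc, coeff_C_mul, coeff_monomial_mul']
  congr 1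
  have hiff : (fs fun i => ((σ i).val : ℕ)) ≤ fs lam ↔ ∀ i, (σ i).val ≤ lam i := by
    rw [Finsupp.le_def]
    rfl
  by_cases hok : ∀ i, (σ i).val ≤ lam i
  · rw [if_pos hok, if_pos (hiff.mpr hok), one_mul]
    congr 1
    ext i
    rw [Finsupp.tsub_apply]
    rfl
  · rw [if_neg hok, if_neg (fun h => hok (hiff.mp h))]

theorem perm_eq_one_of_strictMono (lam lam' : Fin n → ℕ) (h : StrictMono lam) (h' : StrictMono lam')
    (σ : Equiv.Perm (Fin n)) (he : ∀ i, lam' (σ i) = lam i) : σ = 1 := by
  have hσ : StrictMono σ := by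
    intro i j hij
    have := h hij
    rw [← he i, ← he j] at this
    exact h'.lt_iff_lt.mp this
  have : (σ : Fin n → Fin n) = id := by
    apply (StrictMono.range_inj hσ strictMono_id).mp
    rw [Set.range_id]
    exact σ.surjective.range_eq
  ext i
  rw [this]
  rfl

/-- coefficient of `x^lam` in the alternant `a_{lam'}` -/
theorem coeff_alternant (lam lam' : Fin n → ℕ) (h : StrictMono lam) (h' : StrictMono lam') :
    coeff (fs lam) (A lam').det = if lam = lam' then 1 else 0 := by
  classical
  rw [det_A_eq, coeff_sum]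
  rw [Finset.sum_eq_single (1 : Equiv.Perm (Fin n))]
  · rw [intCast_eq_C, coeff_C_mul, coeff_monomial, Equiv.Perm.sign_one, Units.val_one, one_mul]
    have e1 : (fs fun i => lam' ((1 : Equiv.Perm (Fin n)) i)) = fs lam ↔ lam = lam' := by
      constructor
      · intro he
        funext i
        exact (DFunLike.congr_fun he i).symm
      · intro hl
        rw [hl]
        rfl
    by_cases hl : lam = lam'
    · rw [if_pos hl, if_pos (e1.mpr hl)]
    · rw [if_neg hl, if_neg (fun he => hl (e1.mp he))]
  · intro σ _ hσ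
    rw [intCast_eq_C, coeff_C_mul, coeff_monomial, if_neg, mul_zero]
    intro he
    apply hσ
    apply perm_eq_one_of_strictMono lam lam' h h' σ
    intro i
    exact DFunLike.congr_fun he i
  · intro h; exact absurd (Finset.mem_univ _) h

/-- **Orthogonality identity** for the alternating sums of contingency table counts. -/
theorem star (lam lam' : Fin n → ℕ) (h : StrictMono lam) (h' : StrictMono lam') :
    ∑ κ : Equiv.Perm (Fin n), ∑ κ' : Equiv.Perm (Fin n),
      (if (∀ i, (κ i).val ≤ lam i) ∧ (∀ i, (κ' i).val ≤ lam' i) then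
        ((Equiv.Perm.sign κ : ℤ) * (Equiv.Perm.sign κ' : ℤ)) *
          (Nat.card {m : Fin n → Fin n → ℕ // (∀ a, ∑ b, m a b = lam a - (κ a).val) ∧
            ∀ b, ∑ a, m a b = lam' b - (κ' b).val} : ℤ) else 0) =
      if lam = lam' then 1 else 0 := by
  classical
  rw [← coeff_alternant lam lam' h h', det_A, mul_comm, coeff_vandermonde_mul]
  apply Finset.sum_congr rfl
  intro κ _
  by_cases hok : ∀ i, (κ i).val ≤ lam i
  · rw [if_pos hok, det_Hm_eq, coeff_sum, Finset.mul_sum]
    apply Finset.sum_congr rfl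
    intro κ' _
    rw [intCast_eq_C, coeff_C_mul]
    by_cases hok' : ∀ i, (κ' i).val ≤ lam' i
    · rw [if_pos ⟨hok, hok'⟩]
      have : ∏ i, hsub n (lam' i) (κ' i).val = ∏ i, hh n (lam' i - (κ' i).val) := by
        apply Finset.prod_congr rfl
        intro i _
        unfold hsub
        rw [if_pos (hok' i)]
      rw [this, coeff_prod_hh]
      ring
    · rw [if_neg (fun hh' => hok' hh'.2)]
      push Not at hok'
      obtain ⟨i, hi⟩ := hok'
      have : ∏ i, hsub n (lam' i) (κ' i).val = 0 := by
        apply Finset.prod_eq_zero (Finset.mem_univ i)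
        unfold hsub
        rw [if_neg (not_le.mpr hi)]
      rw [this, coeff_zero, mul_zero, mul_zero]
  · rw [if_neg hok, mul_zero]
    apply Finset.sum_eq_zero
    intro κ' _
    rw [if_neg (fun hh' => hok hh'.1)]

end Cfsg.Agent.Lib.Helper81_JT1
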