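import Mathlib
import Cfsg.Prelude.Def_ParabolicCharacters

/-!
# Bruhat decomposition (existence) for `GL_n(F)` (helper81)

Every invertible matrix is `b * W σ * b'` with `b, b'` upper triangular and `W σ` a permutation matrix.
-/

set_option autoImplicit false
open scoped MatrixGroups

namespace Cfsg.Agent.Lib.Helper81_Bruhat

variable {n : ℕ} {F : Type*} [Field F]

/-- permutation matrix: column `j` is the basis vector `e_{σ j}` -/
def W (σ : Equiv.Perm (Fin n)) : Matrix (Fin n) (Fin n) F :=
  Matrix.of fun i j => if i = σ j then 1 else 0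

theorem W_apply (σ : Equiv.Perm (Fin n)) (i j : Fin n) :
    (W σ : Matrix (Fin n) (Fin n) F) i j = if i = σ j then 1 else 0 := rfl

theorem W_one : (W (1 : Equiv.Perm (Fin n)) : Matrix (Fin n) (Fin n) F) = 1 := by
  ext i j
  rw [W_apply, Matrix.one_apply]
  rfl

theorem W_mul (σ τ : Equiv.Perm (Fin n)) :
    (W (σ * τ) : Matrix (Fin n) (Fin n) F) = W σ * W τ := by
  ext i j
  rw [Matrix.mul_apply, Finset.sum_eq_single (τ j)]
  · rw [W_apply, W_apply, W_apply, if_pos rfl, mul_one, Equiv.Perm.mul_apply]
  · intro l _ hl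
    rw [W_apply, W_apply, if_neg hl, mul_zero]
  · intro h; exact absurd (Finset.mem_univ _) h

/-- permutation matrices as a monoid hom -/
def WHom : Equiv.Perm (Fin n) →* Matrix (Fin n) (Fin n) F where
  toFun := W
  map_one' := W_one
  map_mul' := W_mul

/-- permutation matrices in `GL` -/
def WGL : Equiv.Perm (Fin n) →* GL (Fin n) F := (WHom (n := n) (F := F)).toHomUnits

theorem WGL_coe (σ : Equiv.Perm (Fin n)) :
    ((WGL σ : GL (Fin n) F) : Matrix (Fin n) (Fin n) F) = W σ := rfl

/-- the first `k` columns are distinct standard basis vectors -/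
def Good (k : ℕ) (h : Matrix (Fin n) (Fin n) F) : Prop :=
  ∃ ι : Fin n → Fin n, (∀ j j' : Fin n, j.val < k → j'.val < k → ι j = ι j' → j = j') ∧
    ∀ j : Fin n, j.val < k → ∀ i, h i j = if i = ι j then 1 else 0

theorem good_zero (h : Matrix (Fin n) (Fin n) F) : Good 0 h :=
  ⟨id, fun _ _ h => absurd h (Nat.not_lt_zero _), fun _ h => absurd h (Nat.not_lt_zero _)⟩

/-- column clearing -/
theorem step_col (k : Fin n) (h : Matrix (Fin n) (Fin n) F) (ι : Fin n → Fin n)
    (hinj : ∀ j j' : Fin n, j.val < k.val → j'.val < k.val → ι j = ι j' → j = j')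
    (hcol : ∀ j : Fin n, j.val < k.val → ∀ i, h i j = if i = ι j then 1 else 0) :
    ∃ c : Matrix (Fin n) (Fin n) F, c.BlockTriangular id ∧ (∀ i, c i i = 1) ∧
      (∀ j, j ≠ k → ∀ i, (h * c) i j = h i j) ∧
      (∀ t : Fin n, t.val < k.val → (h * c) (ι t) k = 0) := by
  classical
  set u : Fin n → F := fun l => if l.val < k.val then h (ι l) k else 0 with hu
  set B : Matrix (Fin n) (Fin n) F := Matrix.of fun l j => if j = k then u l else 0 with hB
  have hBapp : ∀ l j, B l j = if j = k then u l else 0 := fun _ _ => rfl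
  refine ⟨1 - B, ?_, ?_, ?_, ?_⟩
  · intro i j hij
    change j < i at hij
    rw [Matrix.sub_apply, Matrix.one_apply, if_neg (ne_of_gt hij), hBapp]
    split_ifs with hjk
    · subst hjk
      rw [hu]
      simp only
      rw [if_neg (by rw [Fin.lt_def] at hij; omega), sub_zero]
    · rw [sub_zero]
  · intro i
    rw [Matrix.sub_apply, Matrix.one_apply, if_pos rfl, hBapp]
    split_ifs with hik
    · subst hik
      rw [hu]
      simp
    · rw [sub_zero]
  · intro j hjk i
    rw [Matrix.mul_sub, Matrix.mul_one, Matrix.sub_apply, Matrix.mul_apply]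
    simp [hBapp, hjk]
  · intro t ht
    rw [Matrix.mul_sub, Matrix.mul_one, Matrix.sub_apply, Matrix.mul_apply]
    rw [Finset.sum_eq_single t]
    · rw [hBapp, if_pos rfl, hu]
      simp only
      rw [if_pos ht, hcol t ht (ι t), if_pos rfl, one_mul, sub_self]
    · intro l _ hl
      rw [hBapp, if_pos rfl, hu]
      simp only
      split_ifs with hlk
      · rw [hcol l hlk (ι t), if_neg, zero_mul]
        intro he
        exact hl (hinj t l ht hlk he).symm
      · rw [mul_zero]
    · intro h; exact absurd (Finset.mem_univ _) h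

theorem exists_last_nonzero (w : Fin n → F) (hw : ∃ i, w i ≠ 0) :
    ∃ p, w p ≠ 0 ∧ ∀ i, p < i → w i = 0 := by
  classical
  set S := Finset.univ.filter (fun i : Fin n => w i ≠ 0) with hS
  have hSne : S.Nonempty := by
    obtain ⟨i, hi⟩ := hw
    exact ⟨i, by simp [hS, hi]⟩
  refine ⟨S.max' hSne, ?_, ?_⟩
  · have := Finset.max'_mem S hSne
    exact (Finset.mem_filter.mp this).2
  · intro i hi
    by_contra hne
    have hiS : i ∈ S := by simp [hS, hne]
    have := Finset.le_max' S i hiS
    exact absurd (lt_of_lt_of_le hi this) (lt_irrefl _)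

/-- row clearing -/
theorem step_row (k : Fin n) (h : Matrix (Fin n) (Fin n) F) (hdet : h.det ≠ 0)
    (ι : Fin n → Fin n)
    (hinj : ∀ j j' : Fin n, j.val < k.val → j'.val < k.val → ι j = ι j' → j = j')
    (hcol : ∀ j : Fin n, j.val < k.val → ∀ i, h i j = if i = ι j then 1 else 0)
    (hz : ∀ t : Fin n, t.val < k.val → h (ι t) k = 0) :
    ∃ r : Matrix (Fin n) (Fin n) F, r.BlockTriangular id ∧ (∀ i, r i i ≠ 0) ∧
      Good (k.val + 1) (r * h) := by
  classical
  have hne : ∃ i, h i k ≠ 0 := by
    by_contra hcon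
    push Not at hcon
    exact hdet (Matrix.det_eq_zero_of_column_eq_zero k hcon)
  obtain ⟨p, hd, hmax⟩ := exists_last_nonzero (fun i => h i k) hne
  have hpι : ∀ t : Fin n, t.val < k.val → p ≠ ι t := by
    intro t ht he
    rw [he] at hd
    exact hd (hz t ht)
  obtain ⟨d, hdd⟩ : ∃ d, d = h p k := ⟨_, rfl⟩
  rw [← hdd] at hd
  obtain ⟨v, hv⟩ : ∃ v : Fin n → F, v = fun i =>
      if i = p then d⁻¹ - 1 else if i < p then - h i k * d⁻¹ else 0 := ⟨_, rfl⟩
  obtain ⟨A, hA⟩ : ∃ A : Matrix (Fin n) (Fin n) F, A = Matrix.of fun i l =>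
      if l = p then v i else 0 := ⟨_, rfl⟩
  have hAapp : ∀ i l, A i l = if l = p then v i else 0 := by
    intro i l; rw [hA]; rfl
  have hAh : ∀ i j, (A * h) i j = v i * h p j := by
    intro i j
    rw [Matrix.mul_apply, Finset.sum_eq_single p]
    · rw [hAapp, if_pos rfl]
    · intro l _ hl; rw [hAapp, if_neg hl, zero_mul]
    · intro h; exact absurd (Finset.mem_univ _) h
  refine ⟨1 + A, ?_, ?_, ?_⟩
  · intro i l hil
    change l < i at hil
    rw [Matrix.add_apply, Matrix.one_apply, if_neg (ne_of_gt hil), hAapp, zero_add]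
    split_ifs with hlp
    · subst hlp
      rw [hv]
      simp only
      rw [if_neg (ne_of_gt hil), if_neg (not_lt.mpr (le_of_lt hil))]
    · rfl
  · intro i
    rw [Matrix.add_apply, Matrix.one_apply, if_pos rfl, hAapp]
    split_ifs with hip
    · subst hip
      rw [hv]
      simp only [if_true]
      have : (1 : F) + (d⁻¹ - 1) = d⁻¹ := by ring
      rw [this]
      exact inv_ne_zero hd
    · rw [add_zero]; exact one_ne_zero
  · refine ⟨Function.update ι k p, ?_, ?_⟩
    · intro j j' hj hj' he
      by_cases hjk : j = k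
      · by_cases hjk' : j' = k
        · rw [hjk, hjk']
        · exfalso
          have hlt : j'.val < k.val := by
            have : j'.val ≠ k.val := fun h => hjk' (Fin.ext h)
            omega
          rw [hjk, Function.update_self, Function.update_of_ne hjk'] at he
          exact hpι j' hlt he
      · have hlt : j.val < k.val := by
          have : j.val ≠ k.val := fun h => hjk (Fin.ext h)
          omega
        by_cases hjk' : j' = k
        · exfalso
          rw [hjk', Function.update_self, Function.update_of_ne hjk] at he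
          exact hpι j hlt he.symm
        · have hlt' : j'.val < k.val := by
            have : j'.val ≠ k.val := fun h => hjk' (Fin.ext h)
            omega
          rw [Function.update_of_ne hjk, Function.update_of_ne hjk'] at he
          exact hinj j j' hlt hlt' he
    · intro j hj i
      rw [Matrix.add_mul, Matrix.one_mul, Matrix.add_apply, hAh]
      by_cases hjk : j = k
      · subst hjk
        rw [Function.update_self, ← hdd, hv]
        simp only
        by_cases hip : i = p
        · rw [if_pos hip, if_pos hip, hip, ← hdd]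
          field_simp
          ring
        · rw [if_neg hip, if_neg hip]
          by_cases hlt : i < p
          · rw [if_pos hlt]
            field_simp
            ring
          · rw [if_neg hlt, zero_mul, add_zero]
            apply hmax
            exact lt_of_le_of_ne (not_lt.mp hlt) (Ne.symm hip)
      · have hlt : j.val < k.val := by
          have : j.val ≠ k.val := fun h => hjk (Fin.ext h)
          omega
        rw [Function.update_of_ne hjk, hcol j hlt p, if_neg (hpι j hlt), mul_zero, add_zero,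
          hcol j hlt i]

/-- one full step -/
theorem step (k : ℕ) (hk : k < n) (h : Matrix (Fin n) (Fin n) F) (hdet : h.det ≠ 0)
    (hg : Good k h) :
    ∃ r c : Matrix (Fin n) (Fin n) F, r.BlockTriangular id ∧ (∀ i, r i i ≠ 0) ∧
      c.BlockTriangular id ∧ (∀ i, c i i ≠ 0) ∧ Good (k + 1) (r * h * c) := by
  classical
  obtain ⟨ι, hinj, hcol⟩ := hg
  obtain ⟨c, hc1, hc2, hc3, hc4⟩ := step_col (⟨k, hk⟩ : Fin n) h ι hinj hcol
  have hdetc : c.det = 1 := by
    rw [Matrix.det_of_isUpperTriangular hc1]
    exact Finset.prod_eq_one (fun i _ => hc2 i)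
  have hdet' : (h * c).det ≠ 0 := by
    rw [Matrix.det_mul, hdetc, mul_one]; exact hdet
  have hcol' : ∀ j : Fin n, j.val < k → ∀ i, (h * c) i j = if i = ι j then 1 else 0 := by
    intro j hj i
    rw [hc3 j (fun he => by rw [he] at hj; exact lt_irrefl _ hj) i]
    exact hcol j hj i
  obtain ⟨r, hr1, hr2, hr3⟩ := step_row (⟨k, hk⟩ : Fin n) (h * c) hdet' ι hinj hcol' hc4
  refine ⟨r, c, hr1, hr2, hc1, fun i => by rw [hc2 i]; exact one_ne_zero, ?_⟩
  rw [Matrix.mul_assoc]
  exact hr3

theorem det_ne_zero_of_diag {r : Matrix (Fin n) (Fin n) F} (h1 : r.BlockTriangular id)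
    (h2 : ∀ i, r i i ≠ 0) : r.det ≠ 0 := by
  rw [Matrix.det_of_isUpperTriangular h1]
  exact Finset.prod_ne_zero_iff.mpr (fun i _ => h2 i)

theorem exists_good (g : Matrix (Fin n) (Fin n) F) (hdet : g.det ≠ 0) : ∀ k, k ≤ n →
    ∃ r c : Matrix (Fin n) (Fin n) F, r.BlockTriangular id ∧ r.det ≠ 0 ∧
      c.BlockTriangular id ∧ c.det ≠ 0 ∧ Good k (r * g * c) := by
  intro k
  induction k with
  | zero =>
    intro _
    exact ⟨1, 1, Matrix.blockTriangular_one, by simp, Matrix.blockTriangular_one, by simp,
      good_zero _⟩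
  | succ k ih =>
    intro hk
    obtain ⟨r, c, hr1, hr2, hc1, hc2, hg⟩ := ih (by omega)
    have hdet' : (r * g * c).det ≠ 0 := by
      rw [Matrix.det_mul, Matrix.det_mul]
      exact mul_ne_zero (mul_ne_zero hr2 hdet) hc2
    obtain ⟨r', c', hr1', hr2', hc1', hc2', hg'⟩ := step k (by omega) (r * g * c) hdet' hg
    refine ⟨r' * r, c * c', hr1'.mul hr1, ?_, hc1.mul hc1', ?_, ?_⟩
    · rw [Matrix.det_mul]
      exact mul_ne_zero (det_ne_zero_of_diag hr1' hr2') hr2
    · rw [Matrix.det_mul]
      exact mul_ne_zero hc2 (det_ne_zero_of_diag hc1' hc2')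
    · have : r' * r * g * (c * c') = r' * (r * g * c) * c' := by
        simp only [Matrix.mul_assoc]
      rw [this]
      exact hg'

theorem good_top (h : Matrix (Fin n) (Fin n) F) (hg : Good n h) :
    ∃ σ : Equiv.Perm (Fin n), h = W σ := by
  obtain ⟨ι, hinj, hcol⟩ := hg
  have hi : Function.Injective ι := fun j j' he => hinj j j' j.isLt j'.isLt he
  have hb : Function.Bijective ι := Finite.injective_iff_bijective.mp hi
  refine ⟨Equiv.ofBijective ι hb, ?_⟩
  ext i j
  rw [hcol j j.isLt i, W_apply]
  rfl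

/-- **Bruhat decomposition**, existence: `GL_n(F) = B W B`. -/
theorem bruhat (g : GL (Fin n) F) :
    ∃ b ∈ Cfsg.upperTriangularGL n F, ∃ σ : Equiv.Perm (Fin n),
      ∃ b' ∈ Cfsg.upperTriangularGL n F, g = b * WGL σ * b' := by
  have hdet : (g : Matrix (Fin n) (Fin n) F).det ≠ 0 := by
    have := Matrix.GeneralLinearGroup.det_ne_zero g
    exact this
  obtain ⟨r, c, hr1, hr2, hc1, hc2, hg⟩ := exists_good (g : Matrix (Fin n) (Fin n) F) hdet n le_rfl
  obtain ⟨σ, hσ⟩ := good_top _ hg
  set R : GL (Fin n) F := Matrix.GeneralLinearGroup.mkOfDetNeZero r hr2 with hR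
  set C : GL (Fin n) F := Matrix.GeneralLinearGroup.mkOfDetNeZero c hc2 with hC
  have hRm : R ∈ Cfsg.upperTriangularGL n F := hr1
  have hCm : C ∈ Cfsg.upperTriangularGL n F := hc1
  have heq : R * g * C = WGL σ := by
    apply Units.ext
    exact hσ
  refine ⟨R⁻¹, inv_mem hRm, σ, C⁻¹, inv_mem hCm, ?_⟩
  rw [← heq]
  group

end Cfsg.Agent.Lib.Helper81_Bruhat
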