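import Mathlib

/-!
# Double cosets of Young subgroups and contingency tables (helper81)

For label functions `fa fb : Fin n → Fin n` the double cosets `Y_a \ S_n / Y_b` are classified by
the matrix `m σ a b = #{j | fb j = b ∧ fa (σ j) = a}`, and every matrix with the right margins
occurs.
-/

set_option autoImplicit false

namespace Cfsg.Agent.Lib.Helper81_Margins

/-- two functions with equal fibre cardinalities differ by a bijection of the sources -/
theorem exists_equiv_of_card_fiber {X X' Y : Type*} [Fintype X] [Fintype X'] [DecidableEq Y]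
    (f : X → Y) (g : X' → Y)
    (h : ∀ y, Fintype.card {x // f x = y} = Fintype.card {x // g x = y}) :
    ∃ e : X' ≃ X, ∀ x', f (e x') = g x' := by
  classical
  let e : X' ≃ X :=
    ((Equiv.sigmaFiberEquiv g).symm.trans
      (Equiv.sigmaCongrRight (fun y => Fintype.equivOfCardEq (h y).symm))).trans
      (Equiv.sigmaFiberEquiv f)
  refine ⟨e, ?_⟩
  intro x'
  change f ((Fintype.equivOfCardEq (h (g x')).symm ⟨x', rfl⟩ : {x // f x = g x'}) : X) = g x'
  exact (Fintype.equivOfCardEq (h (g x')).symm ⟨x', rfl⟩ : {x // f x = g x'}).2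

variable {n : ℕ}

/-- the contingency table of a permutation -/
def mMat (fa fb : Fin n → Fin n) (σ : Equiv.Perm (Fin n)) : Fin n → Fin n → ℕ :=
  fun a b => (Finset.univ.filter fun j : Fin n => fb j = b ∧ fa (σ j) = a).card

theorem mMat_row (fa fb : Fin n → Fin n) (σ : Equiv.Perm (Fin n)) (a : Fin n) :
    ∑ b, mMat fa fb σ a b = (Finset.univ.filter fun i : Fin n => fa i = a).card := by
  classical
  unfold mMat
  have h1 : (Finset.univ.filter fun i : Fin n => fa i = a).card =
      (Finset.univ.filter fun j : Fin n => fa (σ j) = a).card := by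
    apply Finset.card_bij' (fun i _ => σ.symm i) (fun j _ => σ j)
    · intro i hi
      simp only [Finset.mem_filter, Finset.mem_univ, true_and] at hi ⊢
      simpa using hi
    · intro j hj
      simp only [Finset.mem_filter, Finset.mem_univ, true_and] at hj ⊢
      exact hj
    · intro i _; simp
    · intro j _; simp
  rw [h1, Finset.card_eq_sum_card_fiberwise (f := fb) (t := Finset.univ)
    (fun _ _ => Finset.mem_univ _)]
  apply Finset.sum_congr rfl
  intro b _
  congr 1
  ext j
  simp only [Finset.mem_filter, Finset.mem_univ, true_and]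
  tauto

theorem mMat_col (fa fb : Fin n → Fin n) (σ : Equiv.Perm (Fin n)) (b : Fin n) :
    ∑ a, mMat fa fb σ a b = (Finset.univ.filter fun j : Fin n => fb j = b).card := by
  classical
  unfold mMat
  rw [Finset.card_eq_sum_card_fiberwise (f := fun j => fa (σ j)) (t := Finset.univ)
    (fun _ _ => Finset.mem_univ _)]
  apply Finset.sum_congr rfl
  intro a _
  congr 1
  ext j
  simp only [Finset.mem_filter, Finset.mem_univ, true_and]

theorem mMat_inv (fa fb : Fin n → Fin n) (σ y y' : Equiv.Perm (Fin n))
    (hy : ∀ i, fa (y i) = fa i) (hy' : ∀ j, fb (y' j) = fb j) :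
    mMat fa fb (y * σ * y') = mMat fa fb σ := by
  classical
  funext a b
  unfold mMat
  apply Finset.card_bij' (fun j _ => y' j) (fun j _ => y'.symm j)
  · intro j hj
    rw [Finset.mem_filter] at hj ⊢
    refine ⟨Finset.mem_univ _, ?_, ?_⟩
    · rw [hy']; exact hj.2.1
    · have := hj.2.2
      rw [Equiv.Perm.mul_apply, Equiv.Perm.mul_apply, hy] at this
      exact this
  · intro j hj
    rw [Finset.mem_filter] at hj ⊢
    refine ⟨Finset.mem_univ _, ?_, ?_⟩
    · have := hy' (y'.symm j)
      rw [Equiv.apply_symm_apply] at this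
      rw [← this]
      exact hj.2.1
    · rw [Equiv.Perm.mul_apply, Equiv.Perm.mul_apply, hy, Equiv.apply_symm_apply]
      exact hj.2.2
  · intro j _; simp
  · intro j _; simp

theorem mMat_sep (fa fb : Fin n → Fin n) (σ τ : Equiv.Perm (Fin n))
    (h : mMat fa fb σ = mMat fa fb τ) :
    ∃ y y' : Equiv.Perm (Fin n), (∀ i, fa (y i) = fa i) ∧ (∀ j, fb (y' j) = fb j) ∧
      τ = y * σ * y' := by
  classical
  have hfib : ∀ p : Fin n × Fin n,
      Fintype.card {j : Fin n // (fun j => (fa (σ j), fb j)) j = p} =
        Fintype.card {j : Fin n // (fun j => (fa (τ j), fb j)) j = p} := by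
    rintro ⟨a, b⟩
    rw [Fintype.card_subtype, Fintype.card_subtype]
    have := congrFun (congrFun h a) b
    unfold mMat at this
    convert this using 2 <;>
    · ext j
      simp only [Finset.mem_filter, Finset.mem_univ, true_and, Prod.mk.injEq]
      tauto
  obtain ⟨e, he⟩ := exists_equiv_of_card_fiber _ _ hfib
  have he1 : ∀ j, fa (σ (e j)) = fa (τ j) := fun j => (Prod.ext_iff.mp (he j)).1
  have he2 : ∀ j, fb (e j) = fb j := fun j => (Prod.ext_iff.mp (he j)).2
  refine ⟨τ * e⁻¹ * σ⁻¹, e, ?_, he2, ?_⟩
  · intro i
    simp only [Equiv.Perm.mul_apply]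
    rw [← he1]
    simp
  · group

theorem mMat_surj (fa fb : Fin n → Fin n) (m : Fin n → Fin n → ℕ)
    (hrow : ∀ a, ∑ b, m a b = (Finset.univ.filter fun i : Fin n => fa i = a).card)
    (hcol : ∀ b, ∑ a, m a b = (Finset.univ.filter fun j : Fin n => fb j = b).card) :
    ∃ σ : Equiv.Perm (Fin n), mMat fa fb σ = m := by
  classical
  let T := Σ (a : Fin n) (b : Fin n), Fin (m a b)
  let pA : T → Fin n := fun t => t.1
  let pB : T → Fin n := fun t => t.2.1
  have hA : ∀ a, Fintype.card {t : T // pA t = a} = Fintype.card {i : Fin n // fa i = a} := by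
    intro a
    rw [Fintype.card_subtype (fun i => fa i = a), ← hrow a]
    have e : {t : T // pA t = a} ≃ Σ b : Fin n, Fin (m a b) :=
      { toFun := fun t => ⟨t.1.2.1, by
          have := t.2
          obtain ⟨⟨a', b, x⟩, h⟩ := t
          change a' = a at h
          subst h
          exact x⟩
        invFun := fun s => ⟨⟨a, s.1, s.2⟩, rfl⟩
        left_inv := by
          rintro ⟨⟨a', b, x⟩, h⟩
          change a' = a at h
          subst h
          rfl
        right_inv := fun s => rfl }
    rw [Fintype.card_congr e, Fintype.card_sigma]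
    simp
  have hB : ∀ b, Fintype.card {t : T // pB t = b} = Fintype.card {j : Fin n // fb j = b} := by
    intro b
    rw [Fintype.card_subtype (fun j => fb j = b), ← hcol b]
    have e : {t : T // pB t = b} ≃ Σ a : Fin n, Fin (m a b) :=
      { toFun := fun t => ⟨t.1.1, by
          obtain ⟨⟨a, b', x⟩, h⟩ := t
          change b' = b at h
          subst h
          exact x⟩
        invFun := fun s => ⟨⟨s.1, b, s.2⟩, rfl⟩
        left_inv := by
          rintro ⟨⟨a, b', x⟩, h⟩
          change b' = b at h
          subst h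
          rfl
        right_inv := fun s => rfl }
    rw [Fintype.card_congr e, Fintype.card_sigma]
    simp
  obtain ⟨eA, heA⟩ := exists_equiv_of_card_fiber pA fa hA
  obtain ⟨eB, heB⟩ := exists_equiv_of_card_fiber pB fb hB
  -- eA eB : Fin n ≃ T
  refine ⟨eB.trans eA.symm, ?_⟩
  funext a b
  unfold mMat
  have hcard : (Finset.univ.filter fun j : Fin n => fb j = b ∧ fa ((eB.trans eA.symm) j) = a).card =
      Fintype.card {t : T // pB t = b ∧ pA t = a} := by
    rw [Fintype.card_subtype]
    apply Finset.card_bij' (fun j _ => eB j) (fun t _ => eB.symm t)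
    · intro j hj
      simp only [Finset.mem_filter, Finset.mem_univ, true_and] at hj ⊢
      refine ⟨by rw [heB]; exact hj.1, ?_⟩
      have := heA (eA.symm (eB j))
      rw [Equiv.apply_symm_apply] at this
      rw [this]
      exact hj.2
    · intro t ht
      simp only [Finset.mem_filter, Finset.mem_univ, true_and] at ht ⊢
      refine ⟨by rw [← heB, Equiv.apply_symm_apply]; exact ht.1, ?_⟩
      simp only [Equiv.trans_apply, Equiv.apply_symm_apply]
      rw [← heA, Equiv.apply_symm_apply]
      exact ht.2
    · intro j _; simp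
    · intro t _; simp
  rw [hcard]
  have e : {t : T // pB t = b ∧ pA t = a} ≃ Fin (m a b) :=
    { toFun := fun t => by
        obtain ⟨⟨a', b', x⟩, h⟩ := t
        have h1 : b' = b := h.1
        have h2 : a' = a := h.2
        subst h1 h2
        exact x
      invFun := fun x => ⟨⟨a, b, x⟩, rfl, rfl⟩
      left_inv := by
        rintro ⟨⟨a', b', x⟩, h⟩
        have h1 : b' = b := h.1
        have h2 : a' = a := h.2
        subst h1 h2
        rfl
      right_inv := fun x => rfl }
  rw [Fintype.card_congr e, Fintype.card_fin]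

end Cfsg.Agent.Lib.Helper81_Margins
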