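import Mathlib
import Cfsg.Prelude.Def_ParabolicCharacters

/-!
# Inner products of permutation characters via double coset invariants (helper81)

If `R : G → M → Prop` is a complete invariant of the `(H, K)`-double cosets of a finite group `G`,
then `⟨1_H^G, 1_K^G⟩ = |M|`.
-/

set_option autoImplicit false

namespace Cfsg.Agent.Lib.Helper81_OrbitCount

open MulAction

variable {G : Type*} [Group G]

theorem card_fixedBy_prod {A B : Type*} [MulAction G A] [MulAction G B] (g : G) :
    Nat.card (fixedBy (A × B) g) = Nat.card (fixedBy A g) * Nat.card (fixedBy B g) := by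
  rw [← Nat.card_prod]
  apply Nat.card_congr
  refine
    { toFun := fun p => (⟨p.1.1, ?_⟩, ⟨p.1.2, ?_⟩)
      invFun := fun q => ⟨(q.1.1, q.2.1), ?_⟩
      left_inv := fun p => rfl
      right_inv := fun q => rfl }
  · have := p.2
    rw [mem_fixedBy] at this ⊢
    exact congrArg Prod.fst this
  · have := p.2
    rw [mem_fixedBy] at this ⊢
    exact congrArg Prod.snd this
  · rw [mem_fixedBy]
    have h1 := q.1.2
    have h2 := q.2.2
    rw [mem_fixedBy] at h1 h2
    exact Prod.ext h1 h2

/-- `⟨1_H^G, 1_K^G⟩` is the number of values of a complete double coset invariant. -/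
theorem inner_eq_card [Fintype G] (H K : Subgroup G) {M : Type*} (R : G → M → Prop)
    (hE : ∀ g, ∃ m, R g m) (hU : ∀ g m m', R g m → R g m' → m = m')
    (hinv : ∀ g m, R g m → ∀ h ∈ H, ∀ k ∈ K, R (h * g * k) m)
    (hsep : ∀ g g' m, R g m → R g' m → ∃ h ∈ H, ∃ k ∈ K, g' = h * g * k)
    (hsurj : ∀ m, ∃ g, R g m) :
    (Nat.card G : ℂ)⁻¹ * ∑ g : G, Cfsg.fixedPointCharacter H g * Cfsg.fixedPointCharacter K g =
      (Nat.card M : ℂ) := by
  classical
  choose Φ hΦ using hE
  set Ψ : (G ⧸ H) × (G ⧸ K) → M := fun p => Φ (p.1.out⁻¹ * p.2.out) with hΨ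
  have hΨmk : ∀ x y : G, Ψ ((x : G ⧸ H), (y : G ⧸ K)) = Φ (x⁻¹ * y) := by
    intro x y
    obtain ⟨h, hh⟩ := QuotientGroup.mk_out_eq_mul H x
    obtain ⟨k, hk⟩ := QuotientGroup.mk_out_eq_mul K y
    change Φ ((QuotientGroup.mk x : G ⧸ H).out⁻¹ * (QuotientGroup.mk y : G ⧸ K).out) = _
    rw [hh, hk]
    have h1 := hinv _ _ (hΦ (x⁻¹ * y)) (h⁻¹ : H) (inv_mem h.2) k k.2
    have e : (x * (h : G))⁻¹ * (y * (k : G)) = ((h⁻¹ : H) : G) * (x⁻¹ * y) * k := by
      push_cast
      group
    rw [e]
    exact hU _ _ _ (hΦ _) h1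
  have hΨsmul : ∀ (g : G) (p : (G ⧸ H) × (G ⧸ K)), Ψ (g • p) = Ψ p := by
    rintro g ⟨a, b⟩
    induction a using QuotientGroup.induction_on with
    | H x =>
      induction b using QuotientGroup.induction_on with
      | H y =>
        have : g • ((x : G ⧸ H), (y : G ⧸ K)) = (((g * x : G) : G ⧸ H), ((g * y : G) : G ⧸ K)) := rfl
        rw [this, hΨmk, hΨmk]
        congr 1
        group
  set Ω := Quotient (orbitRel G ((G ⧸ H) × (G ⧸ K))) with hΩ
  let Ψ' : Ω → M := Quotient.lift Ψ (by
    intro p q hpq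
    obtain ⟨g, hg⟩ := hpq
    rw [← hg]
    exact hΨsmul g q)
  have hbij : Function.Bijective Ψ' := by
    constructor
    · intro a b hab
      induction a using Quotient.inductionOn with
      | h p =>
        induction b using Quotient.inductionOn with
        | h q =>
          change Ψ p = Ψ q at hab
          apply Quotient.sound
          obtain ⟨a1, a2⟩ := p
          obtain ⟨b1, b2⟩ := q
          induction a1 using QuotientGroup.induction_on with
          | H x =>
          induction a2 using QuotientGroup.induction_on with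
          | H y =>
          induction b1 using QuotientGroup.induction_on with
          | H x' =>
          induction b2 using QuotientGroup.induction_on with
          | H y' =>
            rw [hΨmk, hΨmk] at hab
            have h1 := hΦ (x⁻¹ * y)
            have h2 := hΦ (x'⁻¹ * y')
            rw [← hab] at h2
            obtain ⟨h, hh, k, hk, e⟩ := hsep _ _ _ h2 h1
            -- x⁻¹ y = h (x'⁻¹ y') k ; want (x,y) in the orbit of (x',y')
            refine ⟨x * h * x'⁻¹, ?_⟩
            have : (x * h * x'⁻¹) • (((x' : G) : G ⧸ H), ((y' : G) : G ⧸ K)) =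
                (((x * h * x'⁻¹ * x' : G) : G ⧸ H), ((x * h * x'⁻¹ * y' : G) : G ⧸ K)) := rfl
            change (x * h * x'⁻¹) • (((x' : G) : G ⧸ H), ((y' : G) : G ⧸ K)) = _
            rw [this]
            apply Prod.ext
            · change ((x * h * x'⁻¹ * x' : G) : G ⧸ H) = (x : G ⧸ H)
              rw [QuotientGroup.eq]
              have : (x * h * x'⁻¹ * x')⁻¹ * x = h⁻¹ := by group
              rw [this]
              exact inv_mem hh
            · change ((x * h * x'⁻¹ * y' : G) : G ⧸ K) = (y : G ⧸ K)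
              rw [QuotientGroup.eq]
              have : (x * h * x'⁻¹ * y')⁻¹ * y = (x'⁻¹ * y')⁻¹ * h⁻¹ * (x⁻¹ * y) := by group
              rw [this, e]
              have : (x'⁻¹ * y')⁻¹ * h⁻¹ * (h * (x'⁻¹ * y') * k) = k := by group
              rw [this]
              exact hk
    · intro m
      obtain ⟨g, hg⟩ := hsurj m
      refine ⟨Quotient.mk _ (((1 : G) : G ⧸ H), ((g : G) : G ⧸ K)), ?_⟩
      change Ψ _ = m
      rw [hΨmk, inv_one, one_mul]
      exact hU _ _ _ (hΦ g) hg
  have hcardΩ : Nat.card Ω = Nat.card M := Nat.card_eq_of_bijective Ψ' hbij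
  have hburn := sum_card_fixedBy_eq_card_orbits_mul_card_group G ((G ⧸ H) × (G ⧸ K))
  have hsum : ∑ g : G, Cfsg.fixedPointCharacter H g * Cfsg.fixedPointCharacter K g =
      ((∑ g : G, Fintype.card (fixedBy ((G ⧸ H) × (G ⧸ K)) g) : ℕ) : ℂ) := by
    push_cast
    apply Finset.sum_congr rfl
    intro g _
    unfold Cfsg.fixedPointCharacter
    rw [← Nat.cast_mul, ← card_fixedBy_prod, Nat.card_eq_fintype_card]
  rw [hsum, hburn, ← hcardΩ, Fintype.card_eq_nat_card, Fintype.card_eq_nat_card]
  have hG : (Nat.card G : ℂ) ≠ 0 := by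
    rw [Nat.card_eq_fintype_card]
    exact_mod_cast Fintype.card_ne_zero
  push_cast
  field_simp
  rfl

end Cfsg.Agent.Lib.Helper81_OrbitCount
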