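import Mathlib

set_option autoImplicit false

/-!
Counting invertible block triangular matrices over a finite field.
-/

namespace Cfsg.Agent.Lib.Helper40_BlockTri

open Matrix

section Equivs

variable {F : Type*} [Field F] {ι : Type*} [Fintype ι] [DecidableEq ι] {N : ℕ} (b : ι → Fin N)

/-- block triangular matrices ≃ diagonal blocks × strictly upper entries -/
def btEquiv : {M : Matrix ι ι F // M.BlockTriangular b} ≃
    (∀ a : Fin N, Matrix {i // b i = a} {i // b i = a} F) × ({p : ι × ι // b p.1 < b p.2} → F) where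
  toFun M := (fun a => M.1.toSquareBlock b a, fun p => M.1 p.1.1 p.1.2)
  invFun X := ⟨Matrix.of fun i j =>
      if h : b i = b j then X.1 (b j) ⟨i, h⟩ ⟨j, rfl⟩
      else if h' : b i < b j then X.2 ⟨(i, j), h'⟩ else 0, by
    intro i j hij
    have h1 : ¬ b i = b j := fun h => by rw [h] at hij; exact lt_irrefl _ hij
    have h2 : ¬ b i < b j := fun h => lt_asymm h hij
    simp only [Matrix.of_apply, dif_neg h1, dif_neg h2]⟩
  left_inv := by
    rintro ⟨M, hM⟩
    apply Subtype.ext
    ext i j
    simp only [Matrix.of_apply]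
    by_cases h : b i = b j
    · rw [dif_pos h]
      rfl
    · rw [dif_neg h]
      by_cases h' : b i < b j
      · rw [dif_pos h']
      · rw [dif_neg h']
        have : b j < b i := lt_of_le_of_ne (not_lt.mp h') (Ne.symm h)
        exact (hM this).symm
  right_inv := by
    rintro ⟨D, U⟩
    apply Prod.ext
    · funext a
      ext ⟨i, hi⟩ ⟨j, hj⟩
      subst hj
      simp only [Matrix.toSquareBlock_def, Matrix.of_apply, dif_pos hi]
    · funext ⟨⟨i, j⟩, hp⟩
      have h1 : ¬ b i = b j := fun h => by
        simp only at hp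
        rw [h] at hp
        exact lt_irrefl _ hp
      simp only [Matrix.of_apply]
      rw [dif_neg h1, dif_pos hp]

theorem det_eq_prod (M : {M : Matrix ι ι F // M.BlockTriangular b}) :
    M.1.det = ∏ a : Fin N, ((btEquiv (F := F) b M).1 a).det :=
  M.2.det_fintype

/-- invertible block triangular matrices ≃ invertible diagonal blocks × strictly upper entries -/
def btInvEquiv : {M : Matrix ι ι F // M.BlockTriangular b ∧ M.det ≠ 0} ≃
    (∀ a : Fin N, {D : Matrix {i // b i = a} {i // b i = a} F // D.det ≠ 0}) ×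
      ({p : ι × ι // b p.1 < b p.2} → F) :=
  ((Equiv.subtypeSubtypeEquivSubtypeInter (fun M : Matrix ι ι F => M.BlockTriangular b)
      (fun M => M.det ≠ 0)).symm.trans
    ((btEquiv (F := F) b).subtypeEquiv (p := fun M => M.1.det ≠ 0)
      (q := fun X => ∀ a, (X.1 a).det ≠ 0) (by
        intro M
        rw [det_eq_prod b M, Finset.prod_ne_zero_iff]
        simp))).trans
    (Equiv.prodSubtypeFstEquivSubtypeProd.trans
      (Equiv.prodCongr Equiv.subtypePiEquivPi (Equiv.refl _)))

end Equivs

section Card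

variable {F : Type*} [Field F] [Fintype F]

/-- invertible matrices with given nonzero determinant ≃ GL -/
def detNeZeroEquivGL (κ : Type*) [Fintype κ] [DecidableEq κ] :
    {D : Matrix κ κ F // D.det ≠ 0} ≃ GL κ F where
  toFun D := Matrix.GeneralLinearGroup.mkOfDetNeZero D.1 D.2
  invFun g := ⟨g.1, Matrix.GeneralLinearGroup.det_ne_zero g⟩
  left_inv D := by
    apply Subtype.ext
    rfl
  right_inv g := by
    apply Units.ext
    rfl

/-- the order of `GL_m(q)` -/
def glCard (q m : ℕ) : ℕ := ∏ i : Fin m, (q ^ m - q ^ (i : ℕ))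

theorem card_GL_fintype (κ : Type*) [Fintype κ] [DecidableEq κ] :
    Nat.card (GL κ F) = glCard (Fintype.card F) (Fintype.card κ) := by
  have e : κ ≃ Fin (Fintype.card κ) := Fintype.equivFin κ
  have e2 : GL κ F ≃* GL (Fin (Fintype.card κ)) F :=
    Units.mapEquiv (Matrix.reindexAlgEquiv F F e).toMulEquiv
  rw [Nat.card_congr e2.toEquiv, Matrix.card_GL_field]
  rfl

theorem card_btInv {ι : Type*} [Fintype ι] [DecidableEq ι] {N : ℕ} (b : ι → Fin N) :
    Nat.card {M : Matrix ι ι F // M.BlockTriangular b ∧ M.det ≠ 0} =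
      (∏ a : Fin N, glCard (Fintype.card F) (Fintype.card {i // b i = a})) *
        Fintype.card F ^ Fintype.card {p : ι × ι // b p.1 < b p.2} := by
  classical
  rw [Nat.card_congr (btInvEquiv (F := F) b), Nat.card_prod, Nat.card_pi, Nat.card_fun,
    Nat.card_eq_fintype_card (α := F), Nat.card_eq_fintype_card (α := {p : ι × ι // b p.1 < b p.2})]
  congr 1
  apply Finset.prod_congr rfl
  intro a _
  rw [Nat.card_congr (detNeZeroEquivGL _), card_GL_fintype]

end Card

section Arith

/-- triangular numbers as a sum -/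
def tri (m : ℕ) : ℕ := ∑ i ∈ Finset.range m, i

/-- the `q`-factorial -/
def qFact (q m : ℕ) : ℕ := ∏ j ∈ Finset.range m, ∑ l ∈ Finset.range (j + 1), q ^ l

theorem two_tri_add (m : ℕ) : 2 * tri m + m = m * m := by
  unfold tri
  induction m with
  | zero => simp
  | succ m ih =>
    rw [Finset.sum_range_succ]
    nlinarith [ih]

theorem geom_nat (q k : ℕ) (hq : 1 ≤ q) :
    (q - 1) * (∑ l ∈ Finset.range k, q ^ l) + 1 = q ^ k := by
  induction k with
  | zero => simp
  | succ k ih =>
    rw [Finset.sum_range_succ, mul_add, pow_succ]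
    have h1 : (q - 1) * q ^ k + q ^ k = q ^ k * q := by
      have : q - 1 + 1 = q := Nat.sub_add_cancel hq
      calc (q - 1) * q ^ k + q ^ k = (q - 1 + 1) * q ^ k := by ring
        _ = q ^ k * q := by rw [this, mul_comm]
    omega

theorem glCard_eq (q m : ℕ) (hq : 1 ≤ q) :
    glCard q m = q ^ tri m * (q - 1) ^ m * qFact q m := by
  unfold glCard tri qFact
  rw [Fin.prod_univ_eq_prod_range (fun i => q ^ m - q ^ i) m]
  -- q^m - q^i = q^i * (q^(m-i) - 1)
  have h1 : ∀ i ∈ Finset.range m, q ^ m - q ^ i = q ^ i * (q ^ (m - i) - 1) := by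
    intro i hi
    rw [Finset.mem_range] at hi
    rw [Nat.mul_sub, mul_one, ← pow_add]
    congr 2
    omega
  rw [Finset.prod_congr rfl h1, Finset.prod_mul_distrib, Finset.prod_pow_eq_pow_sum, mul_assoc]
  congr 1
  -- reflect
  rw [← Finset.prod_range_reflect]
  have h2 : ∀ j ∈ Finset.range m, q ^ (m - (m - 1 - j)) - 1 =
      (q - 1) * ∑ l ∈ Finset.range (j + 1), q ^ l := by
    intro j hj
    rw [Finset.mem_range] at hj
    have : m - (m - 1 - j) = j + 1 := by omega
    rw [this]
    have := geom_nat q (j + 1) hq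
    omega
  rw [Finset.prod_congr rfl h2, Finset.prod_mul_distrib, Finset.prod_const, Finset.card_range]

end Arith

end Cfsg.Agent.Lib.Helper40_BlockTri
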