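import Mathlib
import Cfsg.Prelude.Def_LinearParabolics
import Cfsg.Agent.Lib.Helper81_Bruhat
import Cfsg.Agent.Lib.Helper81_Margins
import Cfsg.Agent.Lib.Helper81_OrbitCount
import Cfsg.Agent.S2420

/-!
# Double cosets of parabolic subgroups of `GL_n` and of Young subgroups (helper81)

`⟨1_{P_α}^G, 1_{P_β}^G⟩ = #{ℕ-matrices with row sums α and column sums β} = ⟨1_{Y_α}^{S_n}, 1_{Y_β}^{S_n}⟩`.
-/

set_option autoImplicit false
open scoped MatrixGroups

namespace Cfsg.Agent.Lib.Helper81_ParaDouble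

open Cfsg.Agent.Lib.Helper81_Bruhat Cfsg.Agent.Lib.Helper81_Margins

variable {n : ℕ}

/-- contingency tables with given margins -/
def Marg (α β : Fin n → ℕ) : Type :=
  {m : Fin n → Fin n → ℕ // (∀ a, ∑ b, m a b = α a) ∧ ∀ b, ∑ a, m a b = β b}

theorem sum_perm_le (f : Fin n → ℕ) (π π' : Equiv.Perm (Fin n)) (h : ∀ l, f (π l) ≤ f (π' l)) :
    ∀ l, f (π l) = f (π' l) := by
  have hs : ∑ l, f (π l) = ∑ l, f (π' l) := by
    rw [Equiv.sum_comp π f, Equiv.sum_comp π' f]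
  have := (Finset.sum_eq_sum_iff_of_le (fun l _ => h l)).mp hs
  exact fun l => this l (Finset.mem_univ _)

theorem compLabel_mono (μ : Fin n → ℕ) {i i' : Fin n} (h : i ≤ i') :
    Cfsg.compLabel μ i ≤ Cfsg.compLabel μ i' := by
  unfold Cfsg.compLabel
  apply Finset.card_le_card
  intro j hj
  rw [Finset.mem_filter] at hj ⊢
  exact ⟨hj.1, le_trans hj.2 (by exact_mod_cast h)⟩

theorem borel_le_parabolic (F : Type*) [Field F] (μ : Fin n → ℕ) :
    Cfsg.upperTriangularGL n F ≤ Cfsg.parabolicGL n F μ := by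
  intro g hg i j hij
  apply hg
  change j < i
  by_contra hcon
  exact absurd (compLabel_mono μ (not_lt.mp hcon)) (not_le.mpr hij)

theorem W_mem_parabolic (F : Type*) [Field F] (μ : Fin n → ℕ) (y : Equiv.Perm (Fin n))
    (hy : y ∈ Cfsg.youngSubgroup μ) : WGL y ∈ Cfsg.parabolicGL n F μ := by
  intro i j hij
  rw [WGL_coe, W_apply, if_neg]
  intro he
  rw [he, hy j] at hij
  exact lt_irrefl _ hij

section key

variable {F : Type*} [Field F]

theorem exists_diag_ne_zero (M : Matrix (Fin n) (Fin n) F) (h : M.det ≠ 0) :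
    ∃ ρ : Equiv.Perm (Fin n), ∀ l, M (ρ l) l ≠ 0 := by
  by_contra hcon
  push Not at hcon
  apply h
  rw [Matrix.det_apply]
  apply Finset.sum_eq_zero
  intro ρ _
  obtain ⟨l, hl⟩ := hcon ρ
  have : ∏ i, M (ρ i) i = 0 := Finset.prod_eq_zero (Finset.mem_univ l) hl
  rw [this, smul_zero]

/-- if `W τ p' = p W σ` with `p, p'` block triangular (`p'` invertible), then `τ` and `σ` are in the
same double coset of the label-preserving permutations. -/
theorem perm_of_W_eq (la lb : Fin n → ℕ) (σ τ : Equiv.Perm (Fin n))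
    (p p' : Matrix (Fin n) (Fin n) F) (hp : p.BlockTriangular la) (hp' : p'.BlockTriangular lb)
    (hdet' : p'.det ≠ 0) (h : (W τ : Matrix (Fin n) (Fin n) F) * p' = p * W σ) :
    ∃ ρ : Equiv.Perm (Fin n), (∀ l, lb (ρ l) = lb l) ∧ (∀ l, la (τ (ρ l)) = la (σ l)) := by
  have hent : ∀ l j, p' l j = p (τ l) (σ j) := by
    intro l j
    have h1 := congrFun (congrFun h (τ l)) j
    rw [Matrix.mul_apply, Matrix.mul_apply, Finset.sum_eq_single l, Finset.sum_eq_single (σ j)]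
      at h1
    · rw [W_apply, W_apply, if_pos rfl, if_pos rfl, one_mul, mul_one] at h1
      exact h1
    · intro k _ hk
      rw [W_apply, if_neg hk, mul_zero]
    · intro h; exact absurd (Finset.mem_univ _) h
    · intro k _ hk
      rw [W_apply, if_neg, zero_mul]
      intro he
      exact hk (τ.injective he).symm
    · intro h; exact absurd (Finset.mem_univ _) h
  obtain ⟨ρ, hρ⟩ := exists_diag_ne_zero p' hdet'
  refine ⟨ρ, ?_, ?_⟩
  · have hle : ∀ l, lb (ρ l) ≤ lb ((1 : Equiv.Perm (Fin n)) l) := by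
      intro l
      by_contra hcon
      exact hρ l (hp' (not_le.mp hcon))
    exact sum_perm_le lb ρ 1 hle
  · have hle : ∀ l, la ((τ * ρ) l) ≤ la (σ l) := by
      intro l
      by_contra hcon
      apply hρ l
      rw [hent]
      exact hp (not_le.mp hcon)
    exact sum_perm_le la (τ * ρ) σ hle

end key

section labels

/-- block labels as elements of `Fin n` -/
def labF (μ : Fin n → ℕ) (hμ : ∑ i, μ i = n) (i : Fin n) : Fin n :=
  ⟨Cfsg.compLabel μ i, by
    have h := Cfsg.Agent.S2420.card_fiber μ hμ (Fin.last n)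
    have h0 : Cfsg.Agent.S2420.μext μ (Fin.last n) = 0 := by
      unfold Cfsg.Agent.S2420.μext
      rw [dif_neg]
      simp
    rw [h0, Fintype.card_eq_zero_iff] at h
    have hlt := (Cfsg.Agent.S2420.lab μ i).isLt
    have hne : Cfsg.Agent.S2420.lab μ i ≠ Fin.last n := fun he => h.false ⟨i, he⟩
    have : (Cfsg.Agent.S2420.lab μ i).val ≠ n := fun he => hne (Fin.ext he)
    have hv : (Cfsg.Agent.S2420.lab μ i).val = Cfsg.compLabel μ i := rfl
    omega⟩

theorem labF_val (μ : Fin n → ℕ) (hμ : ∑ i, μ i = n) (i : Fin n) :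
    (labF μ hμ i).val = Cfsg.compLabel μ i := rfl

theorem card_labF (μ : Fin n → ℕ) (hμ : ∑ i, μ i = n) (a : Fin n) :
    (Finset.univ.filter fun i : Fin n => labF μ hμ i = a).card = μ a := by
  have h := Cfsg.Agent.S2420.card_fiber μ hμ a.castSucc
  have h0 : Cfsg.Agent.S2420.μext μ a.castSucc = μ a := by
    unfold Cfsg.Agent.S2420.μext
    rw [dif_pos (show (a.castSucc).val < n from a.isLt)]
    rfl
  rw [h0, Fintype.card_subtype] at h
  rw [← h]
  congr 1
  ext i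
  simp only [Finset.mem_filter, Finset.mem_univ, true_and]
  constructor
  · intro hi
    apply Fin.ext
    have := congrArg Fin.val hi
    exact this
  · intro hi
    apply Fin.ext
    have := congrArg Fin.val hi
    exact this

theorem mem_young_iff (μ : Fin n → ℕ) (hμ : ∑ i, μ i = n) (y : Equiv.Perm (Fin n)) :
    y ∈ Cfsg.youngSubgroup μ ↔ ∀ i, labF μ hμ (y i) = labF μ hμ i := by
  constructor
  · intro h i
    exact Fin.ext (h i)
  · intro h i
    exact congrArg Fin.val (h i)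

end labels

section main

variable (α β : Fin n → ℕ) (hα : ∑ i, α i = n) (hβ : ∑ i, β i = n)

/-- the contingency table of a permutation, with its margins -/
def mM (σ : Equiv.Perm (Fin n)) : Marg α β :=
  ⟨mMat (labF α hα) (labF β hβ) σ,
    fun a => by rw [mMat_row, card_labF],
    fun b => by rw [mMat_col, card_labF]⟩

theorem mM_inv (σ y y' : Equiv.Perm (Fin n)) (hy : y ∈ Cfsg.youngSubgroup α)
    (hy' : y' ∈ Cfsg.youngSubgroup β) : mM α β hα hβ (y * σ * y') = mM α β hα hβ σ := by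
  apply Subtype.ext
  exact mMat_inv _ _ σ y y' ((mem_young_iff α hα y).mp hy) ((mem_young_iff β hβ y').mp hy')

theorem mM_sep (σ τ : Equiv.Perm (Fin n)) (h : mM α β hα hβ σ = mM α β hα hβ τ) :
    ∃ y ∈ Cfsg.youngSubgroup α, ∃ y' ∈ Cfsg.youngSubgroup β, τ = y * σ * y' := by
  obtain ⟨y, y', h1, h2, h3⟩ := mMat_sep _ _ σ τ (congrArg Subtype.val h)
  exact ⟨y, (mem_young_iff α hα y).mpr h1, y', (mem_young_iff β hβ y').mpr h2, h3⟩

theorem mM_surj (m : Marg α β) : ∃ σ, mM α β hα hβ σ = m := by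
  obtain ⟨σ, hσ⟩ := mMat_surj (labF α hα) (labF β hβ) m.1
    (fun a => by rw [card_labF]; exact m.2.1 a) (fun b => by rw [card_labF]; exact m.2.2 b)
  exact ⟨σ, Subtype.ext hσ⟩

include hα hβ in
/-- `⟨1_{Y_α}, 1_{Y_β}⟩` counts contingency tables -/
theorem inner_young :
    (Nat.card (Equiv.Perm (Fin n)) : ℂ)⁻¹ * ∑ σ : Equiv.Perm (Fin n),
        Cfsg.fixedPointCharacter (Cfsg.youngSubgroup α) σ *
          Cfsg.fixedPointCharacter (Cfsg.youngSubgroup β) σ = (Nat.card (Marg α β) : ℂ) := by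
  apply Cfsg.Agent.Lib.Helper81_OrbitCount.inner_eq_card (Cfsg.youngSubgroup α)
    (Cfsg.youngSubgroup β) (fun σ m => mM α β hα hβ σ = m)
  · intro σ; exact ⟨_, rfl⟩
  · intro σ m m' h h'; rw [← h, ← h']
  · intro σ m h y hy y' hy'
    rw [mM_inv α β hα hβ σ y y' hy hy']; exact h
  · intro σ τ m h h'
    exact mM_sep α β hα hβ σ τ (h.trans h'.symm)
  · intro m; exact mM_surj α β hα hβ m

variable {F : Type*} [Field F]

theorem mM_eq_of_dc (σ τ : Equiv.Perm (Fin n)) (P P' : GL (Fin n) F)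
    (hP : P ∈ Cfsg.parabolicGL n F α) (hP' : P' ∈ Cfsg.parabolicGL n F β)
    (h : WGL τ * P' = P * WGL σ) : mM α β hα hβ τ = mM α β hα hβ σ := by
  have hmat : (W τ : Matrix (Fin n) (Fin n) F) * (P' : Matrix (Fin n) (Fin n) F) =
      (P : Matrix (Fin n) (Fin n) F) * W σ := by
    have := congrArg Units.val h
    rw [Units.val_mul, Units.val_mul] at this
    exact this
  obtain ⟨ρ, h1, h2⟩ := perm_of_W_eq (Cfsg.compLabel α) (Cfsg.compLabel β) σ τ _ _ hP hP'
    (Matrix.GeneralLinearGroup.det_ne_zero P') hmat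
  have hy' : ρ⁻¹ ∈ Cfsg.youngSubgroup β := inv_mem (fun l => h1 l)
  have hy : τ * ρ * σ⁻¹ ∈ Cfsg.youngSubgroup α := by
    intro i
    have := h2 (σ⁻¹ i)
    simp only [Equiv.Perm.mul_apply]
    rw [this]
    simp
  have : τ = (τ * ρ * σ⁻¹) * σ * ρ⁻¹ := by group
  rw [this]
  exact mM_inv α β hα hβ σ _ _ hy hy'

include hα hβ in
/-- `⟨1_{P_α}, 1_{P_β}⟩` counts contingency tables -/
theorem inner_parabolic [Fintype (GL (Fin n) F)] :
    (Nat.card (GL (Fin n) F) : ℂ)⁻¹ * ∑ g : GL (Fin n) F,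
        Cfsg.fixedPointCharacter (Cfsg.parabolicGL n F α) g *
          Cfsg.fixedPointCharacter (Cfsg.parabolicGL n F β) g = (Nat.card (Marg α β) : ℂ) := by
  apply Cfsg.Agent.Lib.Helper81_OrbitCount.inner_eq_card (Cfsg.parabolicGL n F α)
    (Cfsg.parabolicGL n F β) (fun g m => ∃ σ, (∃ p ∈ Cfsg.parabolicGL n F α,
      ∃ p' ∈ Cfsg.parabolicGL n F β, g = p * WGL σ * p') ∧ mM α β hα hβ σ = m)
  · intro g
    obtain ⟨b, hb, σ, b', hb', e⟩ := bruhat g
    exact ⟨_, σ, ⟨b, borel_le_parabolic F α hb, b', borel_le_parabolic F β hb', e⟩, rfl⟩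
  · rintro g m m' ⟨σ, ⟨p, hp, p', hp', e⟩, rfl⟩ ⟨τ, ⟨q, hq, q', hq', e'⟩, rfl⟩
    symm
    apply mM_eq_of_dc α β hα hβ σ τ (q⁻¹ * p) (q' * p'⁻¹)
      (mul_mem (inv_mem hq) hp) (mul_mem hq' (inv_mem hp'))
    have : WGL τ = q⁻¹ * (p * WGL σ * p') * q'⁻¹ := by
      rw [← e, e']; group
    rw [this]; group
  · rintro g m ⟨σ, ⟨p, hp, p', hp', e⟩, hm⟩ h hh k hk
    refine ⟨σ, ⟨h * p, mul_mem hh hp, p' * k, mul_mem hp' hk, ?_⟩, hm⟩
    rw [e]; group
  · rintro g g' m ⟨σ, ⟨p, hp, p', hp', e⟩, hm⟩ ⟨τ, ⟨q, hq, q', hq', e'⟩, hm'⟩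
    obtain ⟨y, hy, y', hy', hτ⟩ := mM_sep α β hα hβ σ τ (hm.trans hm'.symm)
    refine ⟨q * WGL y * p⁻¹, mul_mem (mul_mem hq (W_mem_parabolic F α y hy)) (inv_mem hp),
      p'⁻¹ * WGL y' * q', mul_mem (mul_mem (inv_mem hp') (W_mem_parabolic F β y' hy')) hq', ?_⟩
    rw [e', e, hτ, map_mul, map_mul]; group
  · intro m
    obtain ⟨σ, hσ⟩ := mM_surj α β hα hβ m
    exact ⟨WGL σ, σ, ⟨1, one_mem _, 1, one_mem _, by group⟩, hσ⟩

end main

end Cfsg.Agent.Lib.Helper81_ParaDouble
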