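import Mathlib
import Cfsg.Prelude.Def_Characters

/-!
# Induced class functions (helper75)

Basic API for `Cfsg.extendByZero`, `Cfsg.indFun`: Frobenius reciprocity, class function,
transitivity, restriction to a normal subgroup.
-/

set_option autoImplicit false

namespace Cfsg.Agent.Lib.Helper75_Induced

open scoped ComplexConjugate

variable {G : Type*} [Group G]

theorem extendByZero_coe (H : Subgroup G) (θ : H → ℂ) (h : H) :
    Cfsg.extendByZero H θ (h : G) = θ h := by
  unfold Cfsg.extendByZero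
  exact Subtype.val_injective.extend_apply θ 0 h

theorem extendByZero_of_mem (H : Subgroup G) (θ : H → ℂ) {g : G} (hg : g ∈ H) :
    Cfsg.extendByZero H θ g = θ ⟨g, hg⟩ :=
  extendByZero_coe H θ ⟨g, hg⟩

theorem extendByZero_of_not_mem (H : Subgroup G) (θ : H → ℂ) {g : G} (hg : g ∉ H) :
    Cfsg.extendByZero H θ g = 0 := by
  unfold Cfsg.extendByZero
  rw [Function.extend_apply']
  · rfl
  · rintro ⟨h, rfl⟩
    exact hg h.2

/-- Summing a function against the extension by zero is a sum over the subgroup. -/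
theorem sum_extendByZero_mul [Fintype G] (H : Subgroup G) [Fintype H] (θ : H → ℂ) (f : G → ℂ) :
    ∑ g : G, Cfsg.extendByZero H θ g * f g = ∑ h : H, θ h * f h := by
  classical
  have h1 : ∑ g : G, Cfsg.extendByZero H θ g * f g =
      ∑ g ∈ Finset.univ.filter (fun g : G => g ∈ H), Cfsg.extendByZero H θ g * f g := by
    rw [Finset.sum_filter]
    apply Finset.sum_congr rfl
    intro g _
    by_cases hg : g ∈ H
    · rw [if_pos hg]
    · rw [if_neg hg, extendByZero_of_not_mem H θ hg, zero_mul]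
  rw [h1]
  symm
  apply Finset.sum_bij (fun (h : H) _ => (h : G))
  · intro h _
    simp
  · intro a _ b _ hab
    exact Subtype.ext hab
  · intro g hg
    simp only [Finset.mem_filter, Finset.mem_univ, true_and] at hg
    exact ⟨⟨g, hg⟩, Finset.mem_univ _, rfl⟩
  · intro h _
    rw [extendByZero_coe]

theorem sum_extendByZero [Fintype G] (H : Subgroup G) [Fintype H] (θ : H → ℂ) :
    ∑ g : G, Cfsg.extendByZero H θ g = ∑ h : H, θ h := by
  have := sum_extendByZero_mul H θ (fun _ => 1)
  simpa using this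

theorem indFun_apply [Fintype G] (H : Subgroup G) (θ : H → ℂ) (g : G) :
    Cfsg.indFun H θ g =
      (Nat.card H : ℂ)⁻¹ * ∑ x : G, Cfsg.extendByZero H θ (x⁻¹ * g * x) := rfl

/-- The induced function is a class function. -/
theorem isClassFunction_indFun [Fintype G] (H : Subgroup G) (θ : H → ℂ) :
    Cfsg.IsClassFunction G (Cfsg.indFun H θ) := by
  intro g h
  rw [indFun_apply, indFun_apply]
  congr 1
  apply Fintype.sum_equiv (Equiv.mulLeft h⁻¹)
  intro x
  simp only [Equiv.coe_mulLeft]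
  congr 1
  group

/-- **Frobenius reciprocity** for `indFun`. -/
theorem frobenius_reciprocity [Fintype G] (H : Subgroup G) [Fintype H] (θ : H → ℂ) (χ : G → ℂ)
    (hχ : Cfsg.IsClassFunction G χ) :
    Cfsg.classInner (Cfsg.indFun H θ) χ = Cfsg.classInner θ (fun h : H => χ h) := by
  unfold Cfsg.classInner
  have hG : (Nat.card G : ℂ) ≠ 0 := by
    rw [Nat.cast_ne_zero]; exact Nat.card_pos.ne'
  have key : ∀ x : G, ∑ g : G, Cfsg.extendByZero H θ (x⁻¹ * g * x) * conj (χ g) =
      ∑ h : H, θ h * conj (χ h) := by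
    intro x
    rw [← sum_extendByZero_mul H θ (fun g => conj (χ g))]
    apply Fintype.sum_equiv (MulAut.conj x⁻¹).toEquiv
    intro g
    simp only [MulEquiv.toEquiv_eq_coe, EquivLike.coe_coe, MulAut.conj_apply, inv_inv]
    congr 2
    have := hχ g x⁻¹
    rw [inv_inv] at this
    exact this.symm
  calc (Nat.card G : ℂ)⁻¹ * ∑ g : G, Cfsg.indFun H θ g * conj (χ g)
      = (Nat.card G : ℂ)⁻¹ * ∑ g : G, (Nat.card H : ℂ)⁻¹ *
          ∑ x : G, Cfsg.extendByZero H θ (x⁻¹ * g * x) * conj (χ g) := by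
        congr 1
        apply Finset.sum_congr rfl
        intro g _
        rw [indFun_apply, mul_assoc, Finset.sum_mul]
    _ = (Nat.card G : ℂ)⁻¹ * ((Nat.card H : ℂ)⁻¹ *
          ∑ x : G, ∑ g : G, Cfsg.extendByZero H θ (x⁻¹ * g * x) * conj (χ g)) := by
        rw [← Finset.mul_sum, Finset.sum_comm]
    _ = (Nat.card G : ℂ)⁻¹ * ((Nat.card H : ℂ)⁻¹ *
          ∑ _x : G, ∑ h : H, θ h * conj (χ h)) := by
        congr 2
        apply Finset.sum_congr rfl
        intro x _
        exact key x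
    _ = (Nat.card H : ℂ)⁻¹ * ∑ h : H, θ h * conj (χ h) := by
        rw [Finset.sum_const, Finset.card_univ, nsmul_eq_mul, ← Nat.card_eq_fintype_card]
        field_simp


/-- The function on `H.subgroupOf K` obtained from a function on `H`. -/
def resSubgroupOf (H K : Subgroup G) (θ : H → ℂ) : H.subgroupOf K → ℂ :=
  fun x => θ ⟨(x : K), Subgroup.mem_subgroupOf.mp x.2⟩

theorem extendByZero_resSubgroupOf (H K : Subgroup G) (θ : H → ℂ) (k : K) :
    Cfsg.extendByZero (H.subgroupOf K) (resSubgroupOf H K θ) k = Cfsg.extendByZero H θ (k : G) := by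
  by_cases hk : (k : G) ∈ H
  · rw [extendByZero_of_mem H θ hk,
      extendByZero_of_mem (H.subgroupOf K) _ (Subgroup.mem_subgroupOf.mpr hk)]
    rfl
  · rw [extendByZero_of_not_mem H θ hk,
      extendByZero_of_not_mem (H.subgroupOf K) _ (fun h => hk (Subgroup.mem_subgroupOf.mp h))]

theorem extendByZero_indFun_subgroupOf [Fintype G] (H K : Subgroup G) [Fintype K] (hHK : H ≤ K)
    (θ : H → ℂ) (g : G) :
    Cfsg.extendByZero K (Cfsg.indFun (H.subgroupOf K) (resSubgroupOf H K θ)) g =
      (Nat.card H : ℂ)⁻¹ * ∑ y : K, Cfsg.extendByZero H θ ((y : G)⁻¹ * g * (y : G)) := by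
  have hcard : Nat.card (H.subgroupOf K) = Nat.card H :=
    Nat.card_congr (Subgroup.subgroupOfEquivOfLe hHK).toEquiv
  by_cases hg : g ∈ K
  · rw [extendByZero_of_mem K _ hg, indFun_apply, hcard]
    congr 1
    apply Finset.sum_congr rfl
    intro y _
    rw [extendByZero_resSubgroupOf]
    rfl
  · rw [extendByZero_of_not_mem K _ hg]
    symm
    apply mul_eq_zero_of_right
    apply Finset.sum_eq_zero
    intro y _
    apply extendByZero_of_not_mem
    intro h
    apply hg
    have h1 : (y : G)⁻¹ * g * (y : G) ∈ K := hHK h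
    have h2 : g = (y : G) * ((y : G)⁻¹ * g * (y : G)) * (y : G)⁻¹ := by group
    rw [h2]
    exact K.mul_mem (K.mul_mem y.2 h1) (K.inv_mem y.2)

/-- **Transitivity of induction**. -/
theorem indFun_trans [Fintype G] (H K : Subgroup G) [Fintype K] (hHK : H ≤ K) (θ : H → ℂ) :
    Cfsg.indFun K (Cfsg.indFun (H.subgroupOf K) (resSubgroupOf H K θ)) = Cfsg.indFun H θ := by
  funext g
  have hK : (Nat.card K : ℂ) ≠ 0 := by
    rw [Nat.cast_ne_zero]; exact Nat.card_pos.ne'
  rw [indFun_apply, indFun_apply]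
  have key : ∀ y : K, ∑ x : G, Cfsg.extendByZero H θ ((y : G)⁻¹ * (x⁻¹ * g * x) * (y : G)) =
      ∑ x : G, Cfsg.extendByZero H θ (x⁻¹ * g * x) := by
    intro y
    apply Fintype.sum_equiv (Equiv.mulRight (y : G))
    intro x
    simp only [Equiv.coe_mulRight]
    congr 1
    group
  calc (Nat.card K : ℂ)⁻¹ * ∑ x : G, Cfsg.extendByZero K
          (Cfsg.indFun (H.subgroupOf K) (resSubgroupOf H K θ)) (x⁻¹ * g * x)
      = (Nat.card K : ℂ)⁻¹ * ∑ x : G, (Nat.card H : ℂ)⁻¹ *
          ∑ y : K, Cfsg.extendByZero H θ ((y : G)⁻¹ * (x⁻¹ * g * x) * (y : G)) := by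
        congr 1
        apply Finset.sum_congr rfl
        intro x _
        rw [extendByZero_indFun_subgroupOf H K hHK]
    _ = (Nat.card K : ℂ)⁻¹ * ((Nat.card H : ℂ)⁻¹ *
          ∑ y : K, ∑ x : G, Cfsg.extendByZero H θ ((y : G)⁻¹ * (x⁻¹ * g * x) * (y : G))) := by
        rw [← Finset.mul_sum, Finset.sum_comm]
    _ = (Nat.card K : ℂ)⁻¹ * ((Nat.card H : ℂ)⁻¹ *
          ∑ _y : K, ∑ x : G, Cfsg.extendByZero H θ (x⁻¹ * g * x)) := by
        congr 2
        apply Finset.sum_congr rfl
        intro y _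
        exact key y
    _ = (Nat.card H : ℂ)⁻¹ * ∑ x : G, Cfsg.extendByZero H θ (x⁻¹ * g * x) := by
        rw [Finset.sum_const, Finset.card_univ, nsmul_eq_mul, ← Nat.card_eq_fintype_card]
        field_simp


theorem extendByZero_add (H : Subgroup G) (θ φ : H → ℂ) :
    Cfsg.extendByZero H (θ + φ) = Cfsg.extendByZero H θ + Cfsg.extendByZero H φ := by
  funext g
  by_cases hg : g ∈ H
  · simp [extendByZero_of_mem H _ hg]
  · simp [extendByZero_of_not_mem H _ hg]

theorem extendByZero_smul (H : Subgroup G) (c : ℂ) (θ : H → ℂ) :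
    Cfsg.extendByZero H (c • θ) = c • Cfsg.extendByZero H θ := by
  funext g
  by_cases hg : g ∈ H
  · simp [extendByZero_of_mem H _ hg]
  · simp [extendByZero_of_not_mem H _ hg]

theorem extendByZero_zero (H : Subgroup G) :
    Cfsg.extendByZero H (0 : H → ℂ) = 0 := by
  funext g
  by_cases hg : g ∈ H
  · simp [extendByZero_of_mem H _ hg]
  · simp [extendByZero_of_not_mem H _ hg]

theorem indFun_add [Fintype G] (H : Subgroup G) (θ φ : H → ℂ) :
    Cfsg.indFun H (θ + φ) = Cfsg.indFun H θ + Cfsg.indFun H φ := by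
  funext g
  simp only [indFun_apply, Pi.add_apply, extendByZero_add, Finset.sum_add_distrib, mul_add]

theorem indFun_smul [Fintype G] (H : Subgroup G) (c : ℂ) (θ : H → ℂ) :
    Cfsg.indFun H (c • θ) = c • Cfsg.indFun H θ := by
  funext g
  simp only [indFun_apply, Pi.smul_apply, extendByZero_smul, smul_eq_mul, ← Finset.mul_sum]
  ring

theorem indFun_zero [Fintype G] (H : Subgroup G) :
    Cfsg.indFun H (0 : H → ℂ) = 0 := by
  funext g
  simp [indFun_apply, extendByZero_zero]

theorem indFun_sum [Fintype G] (H : Subgroup G) {ι : Type*} (s : Finset ι) (f : ι → H → ℂ) :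
    Cfsg.indFun H (∑ i ∈ s, f i) = ∑ i ∈ s, Cfsg.indFun H (f i) := by
  classical
  induction s using Finset.induction_on with
  | empty => simp [indFun_zero]
  | insert a s ha ih => rw [Finset.sum_insert ha, Finset.sum_insert ha, indFun_add, ih]

/-- The degree of the induced function. -/
theorem indFun_one [Fintype G] (H : Subgroup G) (θ : H → ℂ) :
    Cfsg.indFun H θ 1 = (Nat.card H : ℂ)⁻¹ * (Nat.card G : ℂ) * θ 1 := by
  rw [indFun_apply]
  have : ∀ x : G, Cfsg.extendByZero H θ (x⁻¹ * 1 * x) = θ 1 := by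
    intro x
    have h1 : x⁻¹ * 1 * x = ((1 : H) : G) := by simp
    rw [h1, extendByZero_coe]
  simp_rw [this]
  rw [Finset.sum_const, Finset.card_univ, nsmul_eq_mul, ← Nat.card_eq_fintype_card]
  ring

/-- A function not vanishing at `1` has nonzero norm. -/
theorem classInner_self_ne_zero [Fintype G] {f : G → ℂ} (hf : f 1 ≠ 0) :
    Cfsg.classInner f f ≠ 0 := by
  unfold Cfsg.classInner
  have hG : (Nat.card G : ℂ) ≠ 0 := by
    rw [Nat.cast_ne_zero]; exact Nat.card_pos.ne'
  apply mul_ne_zero (inv_ne_zero hG)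
  have h1 : ∑ g : G, f g * conj (f g) = ((∑ g : G, Complex.normSq (f g) : ℝ) : ℂ) := by
    push_cast
    apply Finset.sum_congr rfl
    intro g _
    rw [Complex.mul_conj]
  rw [h1]
  have h2 : 0 < ∑ g : G, Complex.normSq (f g) := by
    apply Finset.sum_pos'
    · intro g _; exact Complex.normSq_nonneg _
    · exact ⟨1, Finset.mem_univ _, Complex.normSq_pos.mpr hf⟩
  exact_mod_cast h2.ne'


theorem nat_gram_lemma {ι : Type*} [Fintype ι] [DecidableEq ι] (m : ι → ℕ) (n : ι → ι → ℕ)
    (hdiag : ∀ i, m i ≠ 0 → 1 ≤ n i i)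
    (hsum : ∑ i, ∑ j, m i * m j * n i j = ∑ i, m i * m i) :
    ∀ i, m i ≠ 0 → n i i = 1 ∧ ∀ j, j ≠ i → m j ≠ 0 → n i j = 0 := by
  have hle : ∀ i ∈ (Finset.univ : Finset ι), m i * m i ≤ ∑ j, m i * m j * n i j := by
    intro i _
    by_cases hi : m i = 0
    · simp [hi]
    · calc m i * m i = m i * m i * 1 := (mul_one _).symm
        _ ≤ m i * m i * n i i := Nat.mul_le_mul_left _ (hdiag i hi)
        _ ≤ ∑ j, m i * m j * n i j :=
          Finset.single_le_sum (f := fun j => m i * m j * n i j)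
            (fun j _ => Nat.zero_le _) (Finset.mem_univ i)
  have heq := (Finset.sum_eq_sum_iff_of_le hle).mp hsum.symm
  intro i hi
  have h1 : m i * m i = ∑ j, m i * m j * n i j := heq i (Finset.mem_univ i)
  rw [← Finset.add_sum_erase Finset.univ _ (Finset.mem_univ i)] at h1
  have h2 : m i * m i ≤ m i * m i * n i i := by
    calc m i * m i = m i * m i * 1 := (mul_one _).symm
      _ ≤ m i * m i * n i i := Nat.mul_le_mul_left _ (hdiag i hi)
  have h3 : ∑ j ∈ Finset.univ.erase i, m i * m j * n i j = 0 := by omega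
  have h4 : m i * m i * n i i = m i * m i := by omega
  have hpos : 0 < m i * m i := Nat.mul_pos (Nat.pos_of_ne_zero hi) (Nat.pos_of_ne_zero hi)
  refine ⟨?_, ?_⟩
  · have : m i * m i * n i i = m i * m i * 1 := by rw [h4, mul_one]
    exact Nat.eq_of_mul_eq_mul_left hpos this
  · intro j hj hmj
    have h5 := (Finset.sum_eq_zero_iff.mp h3) j (Finset.mem_erase.mpr ⟨hj, Finset.mem_univ j⟩)
    rcases Nat.mul_eq_zero.mp h5 with h | h
    · rcases Nat.mul_eq_zero.mp h with h' | h'
      · exact absurd h' hi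
      · exact absurd h' hmj
    · exact h

end Cfsg.Agent.Lib.Helper75_Induced
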