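import Mathlib

set_option autoImplicit false

namespace Cfsg.Agent.Lib.Helper95_Burnside

open MulAction

/-- Burnside's lemma with `Nat.card`. -/
theorem sum_natCard_fixedBy {G X : Type*} [Group G] [Fintype G] [MulAction G X] [Finite X] :
    ∑ g : G, Nat.card (fixedBy X g) = Nat.card (Quotient (orbitRel G X)) * Nat.card G := by
  classical
  have : Fintype X := Fintype.ofFinite X
  have : Fintype (Quotient (orbitRel G X)) := Fintype.ofFinite _
  have h := sum_card_fixedBy_eq_card_orbits_mul_card_group G X
  simp only [Nat.card_eq_fintype_card]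
  convert h

/-- For a transitive action on a nonempty set the fixed-point numbers sum to `|G|`. -/
theorem sum_natCard_fixedBy_of_transitive {G X : Type*} [Group G] [Fintype G] [MulAction G X]
    [Finite X] [Nonempty X] [IsPretransitive G X] :
    ∑ g : G, Nat.card (fixedBy X g) = Nat.card G := by
  rw [sum_natCard_fixedBy]
  have h1 : Subsingleton (Quotient (orbitRel G X)) :=
    (pretransitive_iff_subsingleton_quotient G X).mp inferInstance
  have h2 : Nonempty (Quotient (orbitRel G X)) := ⟨Quotient.mk _ (Classical.arbitrary X)⟩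
  have : Nat.card (Quotient (orbitRel G X)) = 1 := by
    rw [Nat.card_eq_one_iff_unique]
    exact ⟨h1, h2⟩
  rw [this, one_mul]

/-- The fixed points of `g` on `X × X` are the pairs of fixed points. -/
theorem natCard_fixedBy_prod {G X : Type*} [Group G] [MulAction G X] (g : G) :
    Nat.card (fixedBy (X × X) g) = Nat.card (fixedBy X g) ^ 2 := by
  have : fixedBy (X × X) g = (fixedBy X g) ×ˢ (fixedBy X g) := by
    ext ⟨a, b⟩
    simp [mem_fixedBy, Prod.ext_iff]
  rw [this, Nat.card_coe_set_eq, Set.ncard_prod, ← Nat.card_coe_set_eq, sq]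

/-- On a set with at least two points, the action on pairs has at least two orbits. -/
theorem two_le_natCard_orbits_prod {G X : Type*} [Group G] [MulAction G X] [Finite X]
    (h : 2 ≤ Nat.card X) : 2 ≤ Nat.card (Quotient (orbitRel G (X × X))) := by
  classical
  have : Fintype X := Fintype.ofFinite X
  have : Fintype (Quotient (orbitRel G (X × X))) := Fintype.ofFinite _
  rw [Nat.card_eq_fintype_card] at h ⊢
  obtain ⟨a, b, hab⟩ := Fintype.one_lt_card_iff.mp h
  apply Fintype.one_lt_card_iff.mpr
  refine ⟨Quotient.mk _ (a, a), Quotient.mk _ (a, b), ?_⟩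
  intro heq
  have := Quotient.exact heq
  change (orbitRel G (X × X)) (a, a) (a, b) at this
  rw [orbitRel_apply] at this
  obtain ⟨g, hg⟩ := this
  have h1 : g • a = a := congrArg Prod.fst hg
  have h2 : g • b = a := congrArg Prod.snd hg
  exact hab (smul_left_cancel g (h1.trans h2.symm))

/-- The squares of the fixed-point numbers sum to at least `2|G|` when there are at least two points. -/
theorem two_mul_card_le_sum_sq {G X : Type*} [Group G] [Fintype G] [MulAction G X] [Finite X]
    (h : 2 ≤ Nat.card X) : 2 * Nat.card G ≤ ∑ g : G, Nat.card (fixedBy X g) ^ 2 := by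
  have h1 := sum_natCard_fixedBy (G := G) (X := X × X)
  simp only [natCard_fixedBy_prod] at h1
  rw [h1]
  exact Nat.mul_le_mul_right _ (two_le_natCard_orbits_prod h)

end Cfsg.Agent.Lib.Helper95_Burnside
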