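import Mathlib
import Cfsg.Prelude.Def_Characters

set_option autoImplicit false

namespace Cfsg.Agent.Lib.Helper15_IndFun

open Cfsg

theorem extendByZero_mem {G : Type*} [Group G] (H : Subgroup G) (θ : H → ℂ) (g : G) (hg : g ∈ H) :
    extendByZero H θ g = θ ⟨g, hg⟩ := by
  unfold extendByZero
  exact Subtype.val_injective.extend_apply θ 0 ⟨g, hg⟩

theorem extendByZero_not_mem {G : Type*} [Group G] (H : Subgroup G) (θ : H → ℂ) (g : G) (hg : g ∉ H) :
    extendByZero H θ g = 0 := by
  unfold extendByZero
  rw [Function.extend_apply']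
  · rfl
  · rintro ⟨a, rfl⟩
    exact hg a.2

open Classical in
theorem extendByZero_one {G : Type*} [Group G] (H : Subgroup G) (g : G) :
    extendByZero H (fun _ => (1 : ℂ)) g = if g ∈ H then 1 else 0 := by
  split_ifs with h
  · exact extendByZero_mem H _ g h
  · exact extendByZero_not_mem H _ g h

/-- the number of `x` conjugating `g` into `U`, as a sum -/
theorem sum_extendByZero_one {G : Type*} [Group G] [Fintype G] (U : Subgroup G) (g : G) :
    ∑ x : G, extendByZero U (fun _ => (1 : ℂ)) (x⁻¹ * g * x) =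
      (Nat.card {x : G // x⁻¹ * g * x ∈ U} : ℂ) := by
  classical
  simp_rw [extendByZero_one]
  rw [Finset.sum_boole, Nat.card_eq_fintype_card, Fintype.card_subtype]

theorem indFun_one_apply {G : Type*} [Group G] [Fintype G] (U : Subgroup G) (g : G) :
    indFun U (fun _ => (1 : ℂ)) g =
      (Nat.card U : ℂ)⁻¹ * (Nat.card {x : G // x⁻¹ * g * x ∈ U} : ℂ) := by
  unfold indFun
  rw [sum_extendByZero_one]

/-- the set of conjugators is the preimage of the fixed cosets -/
theorem conjugators_eq_preimage {G : Type*} [Group G] (U : Subgroup G) (g : G) :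
    {x : G | x⁻¹ * g * x ∈ U} =
      (QuotientGroup.mk : G → G ⧸ U) ⁻¹' {c : G ⧸ U | g • c = c} := by
  ext x
  simp only [Set.mem_ofPred_eq, Set.mem_preimage]
  rw [MulAction.Quotient.smul_mk, eq_comm, QuotientGroup.eq, smul_eq_mul, ← mul_assoc]

/-- the value of a permutation character is the number of fixed cosets -/
theorem indFun_one_eq_card_fixed {G : Type*} [Group G] [Fintype G] (U : Subgroup G) (g : G) :
    indFun U (fun _ => (1 : ℂ)) g = (Nat.card {c : G ⧸ U // g • c = c} : ℂ) := by
  rw [indFun_one_apply]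
  have h1 : Nat.card {x : G // x⁻¹ * g * x ∈ U} = Nat.card U * Nat.card {c : G ⧸ U // g • c = c} := by
    have e := QuotientGroup.preimageMkEquivSubgroupProdSet U {c : G ⧸ U | g • c = c}
    rw [← conjugators_eq_preimage] at e
    rw [← Nat.card_prod]
    exact Nat.card_congr e
  rw [h1]
  have h2 : (Nat.card U : ℂ) ≠ 0 := by
    exact_mod_cast Nat.card_pos.ne'
  push_cast
  field_simp

open MulAction

/-- orbit counting for an invariant weight -/
theorem sum_mul_card_stabilizer {A X : Type*} [Group A] [Fintype A] [MulAction A X] [Fintype X] [Fintype (orbitRel.Quotient A X)]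
    (ψ : X → ℂ) (hψ : ∀ (a : A) (x : X), ψ (a • x) = ψ x) :
    ∑ x : X, ψ x * (Nat.card (stabilizer A x) : ℂ) =
      (Nat.card A : ℂ) * ∑ ω : orbitRel.Quotient A X, ψ ω.out := by
  classical
  rw [← Fintype.sum_fiberwise (fun x : X => (Quotient.mk'' x : orbitRel.Quotient A X))
    (fun x => ψ x * (Nat.card (stabilizer A x) : ℂ)), Finset.mul_sum]
  apply Finset.sum_congr rfl
  intro ω _
  have hmem : ∀ x : {x : X // (Quotient.mk'' x : orbitRel.Quotient A X) = ω},
      ∃ a : A, a • ω.out = x.1 := by
    intro x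
    have h1 : (Quotient.mk'' x.1 : orbitRel.Quotient A X) = Quotient.mk'' ω.out := by
      rw [x.2, Quotient.out_eq']
    have h2 := Quotient.exact' h1
    exact h2
  have hterm : ∀ x : {x : X // (Quotient.mk'' x : orbitRel.Quotient A X) = ω},
      ψ x.1 * (Nat.card (stabilizer A x.1) : ℂ) = ψ ω.out * (Nat.card (stabilizer A ω.out) : ℂ) := by
    intro x
    obtain ⟨a, ha⟩ := hmem x
    rw [← ha, hψ, stabilizer_smul_eq_stabilizer_map_conj]
    congr 2
    exact Nat.card_congr ((stabilizer A ω.out).equivMapOfInjective _ (MulAut.conj a).injective).symm.toEquiv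
  rw [Finset.sum_congr rfl (fun x _ => hterm x), Finset.sum_const, Finset.card_univ, nsmul_eq_mul]
  have hcard : Fintype.card {x : X // (Quotient.mk'' x : orbitRel.Quotient A X) = ω} =
      Nat.card (orbit A ω.out) := by
    rw [← Nat.card_eq_fintype_card]
    apply Nat.card_congr
    apply Equiv.subtypeEquivRight
    intro x
    rw [← orbitRel.Quotient.mem_orbit, orbitRel.Quotient.orbit_eq_orbit_out ω Quotient.out_eq']
  rw [hcard]
  have hos := card_orbit_mul_card_stabilizer_eq_card_group A ω.out
  rw [← Nat.card_eq_fintype_card, ← Nat.card_eq_fintype_card, ← Nat.card_eq_fintype_card] at hos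
  rw [← hos]
  push_cast
  ring



/-- permutation characters of conjugate subgroups agree -/
theorem indFun_one_map_conj {G : Type*} [Group G] [Fintype G] (U : Subgroup G) (t g : G) :
    indFun (U.map (MulAut.conj t).toMonoidHom) (fun _ => (1 : ℂ)) g =
      indFun U (fun _ => (1 : ℂ)) g := by
  rw [indFun_one_apply, indFun_one_apply]
  have h1 : Nat.card (U.map (MulAut.conj t).toMonoidHom) = Nat.card U :=
    Nat.card_congr (U.equivMapOfInjective _ (MulAut.conj t).injective).symm.toEquiv
  have h2 : Nat.card {x : G // x⁻¹ * g * x ∈ U.map (MulAut.conj t).toMonoidHom} =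
      Nat.card {x : G // x⁻¹ * g * x ∈ U} := by
    apply Nat.card_congr
    refine (Equiv.mulRight t).subtypeEquiv ?_
    intro x
    rw [Subgroup.mem_map_equiv, MulAut.conj_symm_apply, Equiv.coe_mulRight]
    simp only [mul_inv_rev, mul_assoc]
  rw [h1, h2]

/-- double counting: pairs `(x, t)` with `t⁻¹ g t` fixing `x` -/
theorem sum_card_conjugators_stabilizer {G X : Type*} [Group G] [Fintype G] [MulAction G X]
    [Fintype X] (g : G) :
    ∑ x : X, (Nat.card {t : G // t⁻¹ * g * t ∈ stabilizer G x} : ℂ) =
      (Nat.card G : ℂ) * (Nat.card {y : X // g • y = y} : ℂ) := by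
  classical
  have h1 : ∀ x : X, (Nat.card {t : G // t⁻¹ * g * t ∈ stabilizer G x} : ℂ) =
      ∑ t : G, if (t⁻¹ * g * t) • x = x then (1 : ℂ) else 0 := by
    intro x
    rw [Finset.sum_boole, Nat.card_eq_fintype_card, Fintype.card_subtype]
    rfl
  simp_rw [h1]
  rw [Finset.sum_comm]
  have h2 : ∀ t : G, (∑ x : X, if (t⁻¹ * g * t) • x = x then (1 : ℂ) else 0) =
      (Nat.card {y : X // g • y = y} : ℂ) := by
    intro t
    rw [Finset.sum_boole, Nat.card_eq_fintype_card, Fintype.card_subtype]
    congr 1
    apply Finset.card_bij (fun x _ => t • x)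
    · intro x hx
      simp only [Finset.mem_filter, Finset.mem_univ, true_and] at hx ⊢
      calc g • t • x = t • ((t⁻¹ * g * t) • x) := by simp [smul_smul, mul_assoc]
        _ = t • x := by rw [hx]
    · intro x _ y _ hxy
      exact smul_left_cancel t hxy
    · intro y hy
      simp only [Finset.mem_filter, Finset.mem_univ, true_and] at hy
      refine ⟨t⁻¹ • y, ?_, by simp⟩
      simp only [Finset.mem_filter, Finset.mem_univ, true_and]
      calc (t⁻¹ * g * t) • t⁻¹ • y = t⁻¹ • g • y := by simp [smul_smul, mul_assoc]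
        _ = t⁻¹ • y := by rw [hy]
  simp_rw [h2]
  rw [Finset.sum_const, Finset.card_univ, nsmul_eq_mul, Nat.card_eq_fintype_card (α := G)]


/-- The permutation character of a finite `G`-set is the sum over the orbits of the permutation
characters on the cosets of the stabilizers of chosen orbit representatives. -/
theorem card_fixed_eq_sum_orbits {G X : Type*} [Group G] [Fintype G] [MulAction G X] [Fintype X]
    [Fintype (orbitRel.Quotient G X)] (g : G) (φ : orbitRel.Quotient G X → X)
    (hφ : ∀ ω, (Quotient.mk'' (φ ω) : orbitRel.Quotient G X) = ω) :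
    (Nat.card {y : X // g • y = y} : ℂ) =
      ∑ ω : orbitRel.Quotient G X, indFun (stabilizer G (φ ω)) (fun _ => (1 : ℂ)) g := by
  have hG : (Nat.card G : ℂ) ≠ 0 := by exact_mod_cast Nat.card_pos.ne'
  apply mul_left_cancel₀ hG
  rw [← sum_card_conjugators_stabilizer]
  have hψ : ∀ (a : G) (x : X), indFun (stabilizer G (a • x)) (fun _ => (1 : ℂ)) g =
      indFun (stabilizer G x) (fun _ => (1 : ℂ)) g := by
    intro a x
    rw [stabilizer_smul_eq_stabilizer_map_conj, indFun_one_map_conj]
  have key := sum_mul_card_stabilizer (A := G) (X := X)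
    (fun x => indFun (stabilizer G x) (fun _ => (1 : ℂ)) g) hψ
  have hout : ∀ ω : orbitRel.Quotient G X,
      indFun (stabilizer G ω.out) (fun _ => (1 : ℂ)) g =
        indFun (stabilizer G (φ ω)) (fun _ => (1 : ℂ)) g := by
    intro ω
    have h1 : (Quotient.mk'' (φ ω) : orbitRel.Quotient G X) = Quotient.mk'' ω.out := by
      rw [hφ, Quotient.out_eq']
    obtain ⟨a, ha⟩ := Quotient.exact' h1
    have ha' : a • ω.out = φ ω := ha
    rw [← ha', hψ]
  rw [Finset.sum_congr rfl (fun ω _ => hout ω)] at key
  rw [← key]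
  apply Finset.sum_congr rfl
  intro x _
  rw [indFun_one_apply]
  have hS : (Nat.card (stabilizer G x) : ℂ) ≠ 0 := by exact_mod_cast Nat.card_pos.ne'
  field_simp

end Cfsg.Agent.Lib.Helper15_IndFun
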