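import Mathlib
import Cfsg.Prelude.Def_Characters
import Cfsg.Agent.S0190
import Cfsg.Agent.Lib.Helper75_Induced
import Cfsg.Agent.Lib.Helper75_IndChar
import Cfsg.Agent.Lib.Helper75_CharArith
import Cfsg.Agent.Lib.Helper95_Burnside
import Cfsg.Agent.Lib.Helper80_CharBasic
import Cfsg.Agent.Lib.Helper3_CharColumn

/-!
# Rank of a transitive permutation group and its permutation character (helper81)

* `isCharacter_perm`: the fixed-point function of a transitive action is a character;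
* `rank_eq_classInner`: `[π, π]` is the number of orbits of a point stabiliser;
* `card_eq_sum_orbits`: `|Ω|` is the sum of the orbit lengths;
* `perm_data`: multiplicities and degrees packaged as natural numbers.
-/

set_option autoImplicit false

namespace Cfsg.Agent.Lib.Helper81_Rank

open scoped ComplexConjugate
open MulAction
open Cfsg.Agent.Lib.Helper3_CharBridge Cfsg.Agent.Lib.Helper3_CharOrtho
  Cfsg.Agent.Lib.Helper3_CharComplete Cfsg.Agent.Lib.Helper75_CharArith
  Cfsg.Agent.Lib.Helper80_CharBasic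

/-- `|Ω|` is the sum of the lengths of the orbits of a group `H` acting on `Ω`. -/
theorem card_eq_sum_orbits (H : Type*) [Group H] (Ω : Type*) [Fintype Ω] [MulAction H Ω]
    [Fintype (orbitRel.Quotient H Ω)] :
    Fintype.card Ω = ∑ q : orbitRel.Quotient H Ω, Nat.card (orbit H q.out) := by
  classical
  rw [Fintype.card_congr (selfEquivSigmaOrbits H Ω), Fintype.card_sigma]
  refine Finset.sum_congr rfl fun q _ => ?_
  rw [Nat.card_eq_fintype_card]

/-- `|Ω|` is the sum of the lengths of the orbits (version with `orbitRel.Quotient.orbit`). -/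
theorem card_eq_sum_orbits' (H : Type*) [Group H] (Ω : Type*) [Fintype Ω] [MulAction H Ω]
    [Fintype (orbitRel.Quotient H Ω)] :
    Fintype.card Ω = ∑ q : orbitRel.Quotient H Ω, Nat.card q.orbit := by
  classical
  rw [Fintype.card_congr (selfEquivSigmaOrbits' H Ω), Fintype.card_sigma]
  refine Finset.sum_congr rfl fun q _ => ?_
  rw [Nat.card_eq_fintype_card]

theorem orbit_stabilizer_self {G : Type*} [Group G] {Ω : Type*} [MulAction G Ω] (a : Ω) :
    orbit (stabilizer G a) a = {a} := by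
  ext x
  rw [mem_orbit_iff, Set.mem_singleton_iff]
  constructor
  · rintro ⟨⟨h, hh⟩, rfl⟩
    exact hh
  · rintro rfl
    exact ⟨1, one_smul _ _⟩

/-- the arithmetic core of the equal-degrees argument -/
theorem arith_core {ι κ : Type*} (s : Finset ι) (t : Finset κ) (c : ι → ℕ) (m : κ → ℕ) (f : ℕ)
    (hfpos : 0 < f) (hc : ∀ i ∈ s, f ≤ c i) (hS : ∑ i ∈ s, c i = f * ∑ k ∈ t, m k)
    (hr : s.card = ∑ k ∈ t, m k ^ 2) : (∀ k ∈ t, m k ≤ 1) ∧ ∀ i ∈ s, c i = f := by
  have h1 : ∑ k ∈ t, m k ≤ ∑ k ∈ t, m k ^ 2 :=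
    Finset.sum_le_sum fun k _ => Nat.le_self_pow (by norm_num) _
  have h2 : ∑ _i ∈ s, f ≤ ∑ i ∈ s, c i := Finset.sum_le_sum hc
  rw [Finset.sum_const, smul_eq_mul, hr, hS, mul_comm] at h2
  have h3 : ∑ k ∈ t, m k ^ 2 ≤ ∑ k ∈ t, m k := Nat.le_of_mul_le_mul_left h2 hfpos
  have h4 : ∑ k ∈ t, m k = ∑ k ∈ t, m k ^ 2 := le_antisymm h1 h3
  have h5 := (Finset.sum_eq_sum_iff_of_le (fun k _ => Nat.le_self_pow (n := 2) (by norm_num) (m k))).mp h4
  have h6 : ∑ _i ∈ s, f = ∑ i ∈ s, c i := by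
    rw [Finset.sum_const, smul_eq_mul, hr, hS, h4, mul_comm]
  have h7 := (Finset.sum_eq_sum_iff_of_le hc).mp h6
  refine ⟨fun k hk => ?_, fun i hi => (h7 i hi).symm⟩
  have := h5 k hk
  by_contra hlt
  push Not at hlt
  nlinarith [sq (m k)]

section
variable {G : Type*} [Group G] [Fintype G] {Ω : Type*} [Fintype Ω] [MulAction G Ω]
  [MulAction.IsPretransitive G Ω]

theorem isCharacter_perm [Nonempty Ω] :
    Cfsg.IsCharacter G (fun g : G => (Nat.card (fixedBy Ω g) : ℂ)) := by
  obtain ⟨x⟩ := ‹Nonempty Ω›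
  rw [Cfsg.Agent.S0190.result (G := G) Ω x]
  apply Cfsg.Agent.Lib.Helper75_IndChar.isCharacter_indFun
  exact isCharacter_of_isIrrCharacter (isIrrCharacter_one _)

theorem classInner_perm_one [Nonempty Ω] :
    Cfsg.classInner (fun g : G => (Nat.card (fixedBy Ω g) : ℂ)) (fun _ => 1) = 1 := by
  unfold Cfsg.classInner
  simp only [map_one, mul_one]
  rw [← Nat.cast_sum, Cfsg.Agent.Lib.Helper95_Burnside.sum_natCard_fixedBy_of_transitive]
  have hcard : (Nat.card G : ℂ) ≠ 0 := by
    rw [Nat.card_eq_fintype_card]; exact Nat.cast_ne_zero.mpr Fintype.card_ne_zero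
  exact inv_mul_cancel₀ hcard

omit [Fintype G] [IsPretransitive G Ω] in
theorem perm_one : (Nat.card (fixedBy Ω (1 : G)) : ℂ) = (Fintype.card Ω : ℂ) := by
  congr 1
  have : fixedBy Ω (1 : G) = Set.univ := by
    ext x; simp
  rw [this, Nat.card_eq_fintype_card]
  exact Fintype.card_congr (Equiv.Set.univ Ω)

/-- The rank (number of orbits of a point stabiliser) equals `[π, π]`. -/
theorem rank_eq_classInner (a : Ω) :
    Cfsg.classInner (fun g : G => (Nat.card (fixedBy Ω g) : ℂ))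
      (fun g : G => (Nat.card (fixedBy Ω g) : ℂ)) =
      (Nat.card (orbitRel.Quotient (stabilizer G a) Ω) : ℂ) := by
  classical
  have : Nonempty Ω := ⟨a⟩
  have hcf : Cfsg.IsClassFunction G (fun g : G => (Nat.card (fixedBy Ω g) : ℂ)) :=
    isClassFunction_of_isCharacter isCharacter_perm
  have hπ := Cfsg.Agent.S0190.result (G := G) Ω a
  have hfr := Cfsg.Agent.Lib.Helper75_Induced.frobenius_reciprocity (stabilizer G a)
    (fun _ => 1) (fun g : G => (Nat.card (fixedBy Ω g) : ℂ)) hcf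
  rw [← hπ] at hfr
  rw [hfr]
  unfold Cfsg.classInner
  have hB := Cfsg.Agent.Lib.Helper95_Burnside.sum_natCard_fixedBy (G := stabilizer G a) (X := Ω)
  have h1 : ∀ h : stabilizer G a,
      (1 : ℂ) * conj ((Nat.card (fixedBy Ω (h : G)) : ℂ)) = ((Nat.card (fixedBy Ω h) : ℕ) : ℂ) := by
    intro h
    rw [one_mul, Complex.conj_natCast]
    rfl
  simp_rw [h1]
  rw [← Nat.cast_sum, hB, Nat.cast_mul]
  have hcard : (Nat.card (stabilizer G a) : ℂ) ≠ 0 := by
    rw [Nat.cast_ne_zero]; exact Nat.card_pos.ne'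
  rw [mul_comm, mul_assoc, mul_inv_cancel₀ hcard, mul_one]

/-- multiplicities and degrees of the constituents of the permutation character -/
theorem perm_data (a : Ω) :
    ∃ (m deg : Cfsg.IrrCharacter G → ℕ),
      (∀ χ : Cfsg.IrrCharacter G,
        Cfsg.classInner (fun g : G => (Nat.card (fixedBy Ω g) : ℂ)) χ = m χ) ∧
      (∀ χ : Cfsg.IrrCharacter G, (χ : G → ℂ) 1 = deg χ) ∧
      (∀ χ, 0 < deg χ) ∧ m (oneIrr G) = 1 ∧
      Fintype.card Ω = ∑ χ, m χ * deg χ ∧
      Nat.card (orbitRel.Quotient (stabilizer G a) Ω) = ∑ χ, m χ ^ 2 := by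
  classical
  have : Nonempty Ω := ⟨a⟩
  have hchar : Cfsg.IsCharacter G (fun g : G => (Nat.card (fixedBy Ω g) : ℂ)) := isCharacter_perm
  obtain ⟨m, hm, hsum⟩ := exists_multiplicities hchar
  have hdeg : ∀ χ : Cfsg.IrrCharacter G, ∃ n : ℕ, 0 < n ∧ (χ : G → ℂ) 1 = (n : ℂ) := fun χ =>
    Cfsg.Agent.Lib.Helper3_CharColumn.irr_one_eq_natCast χ.2
  choose deg hdeg0 hdeg1 using hdeg
  refine ⟨m, deg, hm, hdeg1, hdeg0, ?_, ?_, ?_⟩
  · have h1 := hm (oneIrr G)
    have h2 : Cfsg.classInner (fun g : G => (Nat.card (fixedBy Ω g) : ℂ))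
        ((oneIrr G : Cfsg.IrrCharacter G) : G → ℂ) = 1 := classInner_perm_one
    rw [h2] at h1
    exact_mod_cast h1.symm
  · have h1 := congrFun hsum 1
    rw [perm_one, Finset.sum_apply] at h1
    simp only [Pi.smul_apply, smul_eq_mul, hdeg1] at h1
    exact_mod_cast h1
  · have h1 := classInner_self_eq_sum (isClassFunction_of_isCharacter hchar)
    rw [rank_eq_classInner a] at h1
    simp only [hm, Complex.conj_natCast] at h1
    have h2 : (Nat.card (orbitRel.Quotient (stabilizer G a) Ω) : ℂ) =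
        ((∑ χ, m χ ^ 2 : ℕ) : ℂ) := by
      rw [h1]; push_cast
      exact Finset.sum_congr rfl fun χ _ => (sq _).symm
    exact_mod_cast h2

end

end Cfsg.Agent.Lib.Helper81_Rank
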