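import Mathlib
import Cfsg.Prelude.Def_LinearParabolics
import Cfsg.Prelude.Def_Characters
import Cfsg.Agent.Lib.Helper81_ParaDouble
import Cfsg.Agent.Lib.Helper81_JT1
import Cfsg.Agent.Lib.Helper81_Rank
import Cfsg.Agent.Lib.Helper75_CharArith
import Cfsg.Agent.S2424

/-!
# Orthonormality of the partition-indexed class functions of `GL_n(q)` (helper81)
-/

set_option autoImplicit false
open scoped MatrixGroups ComplexConjugate

namespace Cfsg.Agent.Lib.Helper81_UnipGL

open Cfsg.Agent.Lib.Helper81_ParaDouble Cfsg.Agent.Lib.Helper81_JT1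

variable {n : ℕ}

theorem sum_shift (ν : Fin n → ℕ) (hsum : ∑ i, ν i = n) (κ : Equiv.Perm (Fin n))
    (hok : ∀ i, (κ i).val ≤ ν i + i.val) : ∑ i, (ν i + i.val - (κ i).val) = n := by
  have h1 : ∑ i, (ν i + i.val - (κ i).val) + ∑ i, (κ i).val = ∑ i, ν i + ∑ i : Fin n, i.val := by
    rw [← Finset.sum_add_distrib, ← Finset.sum_add_distrib]
    apply Finset.sum_congr rfl
    intro i _
    have := hok i
    omega
  have h2 : ∑ i, (κ i).val = ∑ i : Fin n, i.val := Equiv.sum_comp κ (fun i : Fin n => i.val)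
  omega

theorem strictMono_shift (ν : Fin n → ℕ) (hmono : Monotone ν) :
    StrictMono (fun i : Fin n => ν i + i.val) := by
  intro i j hij
  have := hmono (le_of_lt hij)
  have h2 : i.val < j.val := hij
  change ν i + i.val < ν j + j.val
  omega

theorem shift_inj (ν ν' : Fin n → ℕ) :
    (fun i : Fin n => ν i + i.val) = (fun i : Fin n => ν' i + i.val) ↔ ν = ν' := by
  constructor
  · intro h
    funext i
    have : ν i + i.val = ν' i + i.val := congrFun h i
    omega
  · intro h
    rw [h]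

variable {F : Type*} [Field F] [Fintype (GL (Fin n) F)]

/-- the partition-indexed class functions are orthonormal -/
theorem inner_unip (ν ν' : Fin n → ℕ) (hmono : Monotone ν) (hsum : ∑ i, ν i = n)
    (hmono' : Monotone ν') (hsum' : ∑ i, ν' i = n) :
    (Nat.card (GL (Fin n) F) : ℂ)⁻¹ * ∑ g : GL (Fin n) F,
      Cfsg.unipotentCharacterGL n F ν g * Cfsg.unipotentCharacterGL n F ν' g =
      if ν = ν' then 1 else 0 := by
  classical
  have hstar := star (fun i : Fin n => ν i + i.val) (fun i : Fin n => ν' i + i.val)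
    (strictMono_shift ν hmono) (strictMono_shift ν' hmono')
  have hterm : ∀ κ κ' : Equiv.Perm (Fin n),
      (Nat.card (GL (Fin n) F) : ℂ)⁻¹ * ∑ g : GL (Fin n) F,
        (if ∀ i : Fin n, (κ i).val ≤ ν i + i.val then
          ((Equiv.Perm.sign κ : ℤ) : ℂ) *
            Cfsg.fixedPointCharacter (Cfsg.parabolicGL n F fun i => ν i + i.val - (κ i).val) g
          else 0) *
        (if ∀ i : Fin n, (κ' i).val ≤ ν' i + i.val then
          ((Equiv.Perm.sign κ' : ℤ) : ℂ) *
            Cfsg.fixedPointCharacter (Cfsg.parabolicGL n F fun i => ν' i + i.val - (κ' i).val) g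
          else 0) =
      (((if (∀ i, (κ i).val ≤ ν i + i.val) ∧ (∀ i, (κ' i).val ≤ ν' i + i.val) then
        ((Equiv.Perm.sign κ : ℤ) * (Equiv.Perm.sign κ' : ℤ)) *
          (Nat.card {m : Fin n → Fin n → ℕ // (∀ a, ∑ b, m a b = ν a + a.val - (κ a).val) ∧
            ∀ b, ∑ a, m a b = ν' b + b.val - (κ' b).val} : ℤ) else 0 : ℤ)) : ℂ) := by
    intro κ κ'
    by_cases hok : ∀ i : Fin n, (κ i).val ≤ ν i + i.val
    · by_cases hok' : ∀ i : Fin n, (κ' i).val ≤ ν' i + i.val
      · rw [if_pos ⟨hok, hok'⟩]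
        simp only [if_pos hok, if_pos hok']
        have h1 := inner_parabolic (F := F) (fun i => ν i + i.val - (κ i).val)
          (fun i => ν' i + i.val - (κ' i).val) (sum_shift ν hsum κ hok) (sum_shift ν' hsum' κ' hok')
        have h2 : ∀ g : GL (Fin n) F,
            ((Equiv.Perm.sign κ : ℤ) : ℂ) *
              Cfsg.fixedPointCharacter (Cfsg.parabolicGL n F fun i => ν i + i.val - (κ i).val) g *
            (((Equiv.Perm.sign κ' : ℤ) : ℂ) *
              Cfsg.fixedPointCharacter (Cfsg.parabolicGL n F fun i => ν' i + i.val - (κ' i).val) g) =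
            (((Equiv.Perm.sign κ : ℤ) : ℂ) * ((Equiv.Perm.sign κ' : ℤ) : ℂ)) *
              (Cfsg.fixedPointCharacter (Cfsg.parabolicGL n F fun i => ν i + i.val - (κ i).val) g *
              Cfsg.fixedPointCharacter (Cfsg.parabolicGL n F fun i => ν' i + i.val - (κ' i).val) g) := by
          intro g; ring
        simp_rw [h2]
        rw [← Finset.mul_sum, mul_left_comm, h1]
        push_cast
        rfl
      · rw [if_neg (fun h => hok' h.2)]
        simp only [if_neg hok', mul_zero, Finset.sum_const_zero, Int.cast_zero]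
    · rw [if_neg (fun h => hok h.1)]
      simp only [if_neg hok, zero_mul, Finset.sum_const_zero, mul_zero, Int.cast_zero]
  unfold Cfsg.unipotentCharacterGL
  simp_rw [Finset.sum_mul_sum]
  rw [Finset.sum_comm, Finset.mul_sum]
  have : ∀ κ : Equiv.Perm (Fin n), (Nat.card (GL (Fin n) F) : ℂ)⁻¹ *
      ∑ g : GL (Fin n) F, ∑ κ' : Equiv.Perm (Fin n),
        (if ∀ i : Fin n, (κ i).val ≤ ν i + i.val then
          ((Equiv.Perm.sign κ : ℤ) : ℂ) *
            Cfsg.fixedPointCharacter (Cfsg.parabolicGL n F fun i => ν i + i.val - (κ i).val) g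
          else 0) *
        (if ∀ i : Fin n, (κ' i).val ≤ ν' i + i.val then
          ((Equiv.Perm.sign κ' : ℤ) : ℂ) *
            Cfsg.fixedPointCharacter (Cfsg.parabolicGL n F fun i => ν' i + i.val - (κ' i).val) g
          else 0) =
      ∑ κ' : Equiv.Perm (Fin n),
      (((if (∀ i, (κ i).val ≤ ν i + i.val) ∧ (∀ i, (κ' i).val ≤ ν' i + i.val) then
        ((Equiv.Perm.sign κ : ℤ) * (Equiv.Perm.sign κ' : ℤ)) *
          (Nat.card {m : Fin n → Fin n → ℕ // (∀ a, ∑ b, m a b = ν a + a.val - (κ a).val) ∧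
            ∀ b, ∑ a, m a b = ν' b + b.val - (κ' b).val} : ℤ) else 0 : ℤ)) : ℂ) := by
    intro κ
    rw [Finset.sum_comm, Finset.mul_sum]
    apply Finset.sum_congr rfl
    intro κ' _
    exact hterm κ κ'
  simp_rw [this]
  have hcast := congrArg (fun z : ℤ => (z : ℂ)) hstar
  simp only [Int.cast_sum] at hcast
  rw [hcast]
  by_cases hν : ν = ν'
  · rw [if_pos hν, if_pos ((shift_inj ν ν').mpr hν)]
    simp
  · rw [if_neg hν, if_neg (fun h => hν ((shift_inj ν ν').mp h))]
    simp

omit [Fintype (GL (Fin n) F)] in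
theorem conj_unip (ν : Fin n → ℕ) (g : GL (Fin n) F) :
    conj (Cfsg.unipotentCharacterGL n F ν g) = Cfsg.unipotentCharacterGL n F ν g := by
  unfold Cfsg.unipotentCharacterGL Cfsg.fixedPointCharacter
  rw [map_sum]
  apply Finset.sum_congr rfl
  intro κ _
  split_ifs
  · rw [map_mul, map_intCast, map_natCast]
  · rw [map_zero]

theorem classInner_unip (ν ν' : Fin n → ℕ) (hmono : Monotone ν) (hsum : ∑ i, ν i = n)
    (hmono' : Monotone ν') (hsum' : ∑ i, ν' i = n) :
    Cfsg.classInner (Cfsg.unipotentCharacterGL n F ν) (Cfsg.unipotentCharacterGL n F ν') =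
      if ν = ν' then 1 else 0 := by
  unfold Cfsg.classInner
  simp_rw [conj_unip]
  exact inner_unip ν ν' hmono hsum hmono' hsum'

theorem isCharacter_fpc {G : Type*} [Group G] [Fintype G] (H : Subgroup G) :
    Cfsg.IsCharacter G (Cfsg.fixedPointCharacter H) := by
  classical
  haveI : Fintype (G ⧸ H) := Fintype.ofFinite _
  exact Cfsg.Agent.Lib.Helper81_Rank.isCharacter_perm (G := G) (Ω := G ⧸ H)

theorem unip_eq_sub (ν : Fin n → ℕ) :
    ∃ ξ₁ ξ₂ : GL (Fin n) F → ℂ, Cfsg.IsCharacter (GL (Fin n) F) ξ₁ ∧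
      Cfsg.IsCharacter (GL (Fin n) F) ξ₂ ∧ Cfsg.unipotentCharacterGL n F ν = ξ₁ - ξ₂ := by
  classical
  refine ⟨∑ κ : Equiv.Perm (Fin n),
      (if (∀ i : Fin n, (κ i).val ≤ ν i + i.val) ∧ Equiv.Perm.sign κ = 1 then
        Cfsg.fixedPointCharacter (Cfsg.parabolicGL n F fun i => ν i + i.val - (κ i).val) else 0),
    ∑ κ : Equiv.Perm (Fin n),
      (if (∀ i : Fin n, (κ i).val ≤ ν i + i.val) ∧ Equiv.Perm.sign κ = -1 then
        Cfsg.fixedPointCharacter (Cfsg.parabolicGL n F fun i => ν i + i.val - (κ i).val) else 0),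
    ?_, ?_, ?_⟩
  · apply Cfsg.Agent.Lib.Helper75_CharArith.isCharacter_sum
    intro κ _
    split_ifs
    · exact isCharacter_fpc _
    · exact Cfsg.Agent.Lib.Helper75_CharArith.isCharacter_zero
  · apply Cfsg.Agent.Lib.Helper75_CharArith.isCharacter_sum
    intro κ _
    split_ifs
    · exact isCharacter_fpc _
    · exact Cfsg.Agent.Lib.Helper75_CharArith.isCharacter_zero
  · funext g
    unfold Cfsg.unipotentCharacterGL
    rw [Pi.sub_apply, Finset.sum_apply, Finset.sum_apply, ← Finset.sum_sub_distrib]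
    apply Finset.sum_congr rfl
    intro κ _
    by_cases hok : ∀ i : Fin n, (κ i).val ≤ ν i + i.val
    · rw [if_pos hok]
      rcases Int.units_eq_one_or (Equiv.Perm.sign κ) with h1 | h1
      · rw [if_pos ⟨hok, h1⟩, if_neg (fun h => by rw [h1] at h; exact absurd h.2 (by decide)), h1]
        simp
      · rw [if_neg (fun h => by rw [h1] at h; exact absurd h.2 (by decide)), if_pos ⟨hok, h1⟩, h1]
        simp
    · rw [if_neg hok, if_neg (fun h => hok h.1), if_neg (fun h => hok h.1)]
      simp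

theorem geom_strictMono (q : ℕ) (hq : 1 ≤ q) {a b : ℕ} (hab : a < b) :
    ∑ l ∈ Finset.range a, q ^ l < ∑ l ∈ Finset.range b, q ^ l := by
  apply Finset.sum_lt_sum_of_subset (i := a)
  · intro x hx
    rw [Finset.mem_range] at hx ⊢
    omega
  · exact Finset.mem_range.mpr hab
  · exact Finset.notMem_range_self
  · exact Nat.pos_of_ne_zero (pow_ne_zero _ (by omega))
  · intro j _ _
    exact Nat.zero_le _

omit [Fintype (GL (Fin n) F)] in
open scoped ComplexOrder in
theorem unip_one_pos [Fintype F] (ν : Fin n → ℕ) (hmono : Monotone ν) (hsum : ∑ i, ν i = n) :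
    0 < (Cfsg.unipotentCharacterGL n F ν 1).re := by
  have hq : 1 ≤ Fintype.card F := Fintype.card_pos
  have h := Cfsg.Agent.S2424.result (F := F) (q := Fintype.card F) rfl ν hmono hsum
  have hsumpos : ∀ j : ℕ, (0 : ℂ) < ((∑ l ∈ Finset.range (j + 1), Fintype.card F ^ l : ℕ) : ℂ) := by
    intro j
    have : 0 < ∑ l ∈ Finset.range (j + 1), Fintype.card F ^ l := by
      have := geom_strictMono (Fintype.card F) hq (Nat.succ_pos j)
      simpa using this
    exact_mod_cast this
  have hA : (0 : ℂ) < ((Fintype.card F : ℕ) : ℂ) ^ (n * (n - 1) * (n - 2) / 6) *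
      ∏ i : Fin n, ∏ j ∈ Finset.range (ν i + i.val),
        ((∑ l ∈ Finset.range (j + 1), Fintype.card F ^ l : ℕ) : ℂ) := by
    apply mul_pos
    · apply pow_pos
      exact_mod_cast hq
    · apply Finset.prod_pos
      intro i _
      apply Finset.prod_pos
      intro j _
      exact hsumpos j
  have hB : (0 : ℂ) < (∏ j ∈ Finset.range n,
        ((∑ l ∈ Finset.range (j + 1), Fintype.card F ^ l : ℕ) : ℂ)) *
      ∏ i : Fin n, ∏ j ∈ Finset.univ.filter (fun j : Fin n => i < j),
        (((∑ l ∈ Finset.range (ν j + j.val), Fintype.card F ^ l : ℕ) : ℂ) -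
          ((∑ l ∈ Finset.range (ν i + i.val), Fintype.card F ^ l : ℕ) : ℂ)) := by
    apply mul_pos
    · apply Finset.prod_pos
      intro j _
      exact hsumpos j
    · apply Finset.prod_pos
      intro i _
      apply Finset.prod_pos
      intro j hj
      rw [Finset.mem_filter] at hj
      rw [sub_pos]
      have := geom_strictMono (Fintype.card F) hq (strictMono_shift ν hmono hj.2)
      exact_mod_cast this
  rw [mul_assoc] at h
  rw [← h] at hB
  exact (Complex.pos_iff.mp ((mul_pos_iff_of_pos_right hA).mp hB)).1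

end Cfsg.Agent.Lib.Helper81_UnipGL
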