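/-
For a finite group with a (B, N)-pair: the inner product of the permutation characters on two standard
parabolic subgroups is the number of distinguished double coset representatives in the Weyl group, and
the alternating sum of the permutation characters on the standard parabolic subgroups (the Steinberg
character) is irreducible.
-/
import Mathlib
import Cfsg.Prelude.Def_ParabolicCharacters
import Cfsg.Agent.Lib.Helper6_BNPairC
import Cfsg.Agent.Lib.Helper81_CoxComb
import Cfsg.Agent.Lib.Helper81_OrbitCount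
import Cfsg.Agent.Lib.Helper81_UnipGL
import Cfsg.Agent.Lib.Helper25_VirtNorm

set_option autoImplicit false
set_option linter.unusedSectionVars false
set_option linter.unusedVariables false

namespace Cfsg.Agent.Lib.Helper81_BNSteinberg

open Cfsg DoubleCoset Cfsg.Agent.Lib.Helper6_Word Cfsg.Agent.Lib.Helper6_BNPair
  Cfsg.Agent.Lib.Helper81_CoxComb
open scoped ComplexConjugate

variable {G : Type*} [Group G] (P : BNPair G)

/-- The set `B W_J n W_K B`. -/
def XS (J K : Set G) (n : G) : Set G :=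
  {g | ∃ x ∈ Subgroup.closure J, ∃ y ∈ Subgroup.closure K, g ∈ C P (x * n * y)}

theorem inv_mem_XS {J K : Set G} {n g : G} (h : g ∈ XS P J K n) : g⁻¹ ∈ XS P K J n⁻¹ := by
  obtain ⟨x, hx, y, hy, hg⟩ := h
  refine ⟨y⁻¹, inv_mem hy, x⁻¹, inv_mem hx, ?_⟩
  have : y⁻¹ * n⁻¹ * x⁻¹ = (x * n * y)⁻¹ := by group
  rw [this]
  exact (inv_mem_C_iff P).2 hg

/-- the submonoid of elements that map `B W_J n W_K B` into itself by left multiplication -/
def stabXS (J K : Set G) (n : G) : Submonoid G where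
  carrier := {h | ∀ g ∈ XS P J K n, h * g ∈ XS P J K n}
  one_mem' := by intro g hg; simpa using hg
  mul_mem' := by
    intro a b ha hb g hg
    rw [mul_assoc]
    exact ha _ (hb _ hg)

theorem mem_stabXS_of_isSimple {J K : Set G} (hJ : J ⊆ P.S) (hK : K ⊆ P.S) (n : P.N) {σ : P.N}
    (hσ : IsSimple P σ) (hσJ : (σ : G) ∈ Subgroup.closure J) : (σ : G) ∈ stabXS P J K n := by
  rintro g ⟨x, hx, y, hy, hg⟩
  obtain ⟨b, hb, b', hb', rfl⟩ := (mem_C P).1 hg
  have hxN : x ∈ P.N := closure_le_N P hJ hx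
  have hyN : y ∈ P.N := closure_le_N P hK hy
  have h := T3 P hσ (⟨x, hxN⟩ * n * ⟨y, hyN⟩) hb
  have e : (σ : G) * (b * (x * n * y) * b') = (σ : G) * b * (x * n * y) * b' := by group
  rw [e]
  have e2 : ((⟨x, hxN⟩ * n * ⟨y, hyN⟩ : P.N) : G) = x * n * y := rfl
  rw [e2] at h
  rcases h with h | h
  · refine ⟨σ * x, Subgroup.mul_mem _ hσJ hx, y, hy, ?_⟩
    have e3 : (σ : G) * x * n * y = σ * (x * n * y) := by group
    rw [e3]
    exact mem_C_mul_right P hb' h
  · exact ⟨x, hx, y, hy, mem_C_mul_right P hb' h⟩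

theorem parabolic_le_stabXS {J K : Set G} (hJ : J ⊆ P.S) (hK : K ⊆ P.S) (n : P.N) {p : G}
    (hp : p ∈ P.parabolic J) : p ∈ stabXS P J K n := by
  have hp' : p ∈ Subgroup.closure ((P.B : Set G) ∪ J) := by
    rw [Subgroup.closure_union, Subgroup.closure_eq]; exact hp
  induction hp' using Subgroup.closure_induction'' with
  | mem x hx =>
    rcases hx with hx | hx
    · rintro g ⟨a, ha, y, hy, hg⟩
      exact ⟨a, ha, y, hy, mem_C_mul_left P hx hg⟩
    · exact mem_stabXS_of_isSimple P hJ hK n (σ := ⟨x, P.subset (hJ hx)⟩)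
        (isSimple_of_mem P (hJ hx)) (Subgroup.subset_closure hx)
  | inv_mem x hx =>
    rcases hx with hx | hx
    · rintro g ⟨a, ha, y, hy, hg⟩
      exact ⟨a, ha, y, hy, mem_C_mul_left P (P.B.inv_mem hx) hg⟩
    · exact mem_stabXS_of_isSimple P hJ hK n (σ := (⟨x, P.subset (hJ hx)⟩ : P.N)⁻¹)
        (isSimple_of_mem P (hJ hx)).inv (Subgroup.inv_mem _ (Subgroup.subset_closure hx))
  | one => exact (stabXS P J K n).one_mem
  | mul x y hx hy hx' hy' =>
    rw [Subgroup.closure_union, Subgroup.closure_eq] at hx hy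
    exact (stabXS P J K n).mul_mem (hx' hx) (hy' hy)

theorem parabolic_mul_mem_XS {J K : Set G} (hJ : J ⊆ P.S) (hK : K ⊆ P.S) (n : P.N) {p g : G}
    (hp : p ∈ P.parabolic J) (hg : g ∈ XS P J K n) : p * g ∈ XS P J K n :=
  parabolic_le_stabXS P hJ hK n hp g hg

theorem mul_parabolic_mem_XS {J K : Set G} (hJ : J ⊆ P.S) (hK : K ⊆ P.S) (n : P.N) {q g : G}
    (hq : q ∈ P.parabolic K) (hg : g ∈ XS P J K n) : g * q ∈ XS P J K n := by
  have h1 := parabolic_mul_mem_XS P hK hJ n⁻¹ (inv_mem hq) (inv_mem_XS P hg)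
  have h2 := inv_mem_XS P h1
  have e : (q⁻¹ * g⁻¹)⁻¹ = g * q := by group
  have e2 : (((n⁻¹ : P.N) : G))⁻¹ = n := by simp
  rw [e, e2] at h2
  exact h2

/-- `P_J n P_K ∩ N` maps into `W_J π(n) W_K`. -/
theorem π_mem_of_mem_doubleCoset {J K : Set G} (hJ : J ⊆ P.S) (hK : K ⊆ P.S) (n n' : P.N)
    {p q : G} (hp : p ∈ P.parabolic J) (hq : q ∈ P.parabolic K) (he : (n' : G) = p * n * q) :
    ∃ x ∈ Subgroup.closure (JW P J), ∃ y ∈ Subgroup.closure (JW P K),
      π P n' = x * π P n * y := by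
  have h0 : (n : G) ∈ XS P J K n :=
    ⟨1, Subgroup.one_mem _, 1, Subgroup.one_mem _, by simpa using mem_C_self P (n : G)⟩
  have h1 := mul_parabolic_mem_XS P hJ hK n hq (parabolic_mul_mem_XS P hJ hK n hp h0)
  rw [← he] at h1
  obtain ⟨x, hx, y, hy, hg⟩ := h1
  have hxN : x ∈ P.N := closure_le_N P hJ hx
  have hyN : y ∈ P.N := closure_le_N P hK hy
  have h2 : C P (n' : G) = C P ((⟨x, hxN⟩ * n * ⟨y, hyN⟩ : P.N) : G) := C_eq_of_mem P hg
  have h3 := (C_eq_iff P).1 h2
  rw [map_mul, map_mul] at h3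
  exact ⟨_, π_mem_closure_JW P hJ (n := ⟨x, hxN⟩) hx, _, π_mem_closure_JW P hK (n := ⟨y, hyN⟩) hy, h3⟩

/-- `⟨1_{P_J}^G, 1_{P_K}^G⟩` is the number of `(J, K)`-reduced elements of the Weyl group. -/
theorem inner_fpc_parabolic [Fintype G] {J K : Set G} (hJ : J ⊆ P.S) (hK : K ⊆ P.S) :
    (Nat.card G : ℂ)⁻¹ * ∑ g : G, Cfsg.fixedPointCharacter (P.parabolic J) g *
        Cfsg.fixedPointCharacter (P.parabolic K) g =
      (Nat.card (Red (SW P) (JW P J) (JW P K)) : ℂ) := by
  have hJW := JW_subset_SW P hJ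
  have hKW := JW_subset_SW P hK
  apply Cfsg.Agent.Lib.Helper81_OrbitCount.inner_eq_card (P.parabolic J) (P.parabolic K)
    (M := Red (SW P) (JW P J) (JW P K))
    (fun g d => ∃ n : P.N, π P n = d.1 ∧ ∃ p ∈ P.parabolic J, ∃ q ∈ P.parabolic K, g = p * n * q)
  · -- existence
    intro g
    obtain ⟨n, hn⟩ := exists_mem_C P g
    obtain ⟨b, hb, b', hb', rfl⟩ := (mem_C P).1 hn
    obtain ⟨d, hd, x, hx, y, hy, he⟩ := exists_red (invGen P) (exchange P) hJW hKW _ (π P n) rfl
    obtain ⟨nx, hnx, rfl⟩ := exists_rep_of_mem_closure_JW P hJ hx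
    obtain ⟨ny, hny, rfl⟩ := exists_rep_of_mem_closure_JW P hK hy
    obtain ⟨nd, rfl⟩ := π_surjective P d
    rw [← map_mul, ← map_mul] at he
    have ht := (π_eq_iff P).1 he
    refine ⟨⟨π P nd, hd⟩, nd, rfl, b * nx, ?_, ny * ((nx * nd * ny : P.N) : G)⁻¹ * n * b', ?_, ?_⟩
    · exact Subgroup.mul_mem _ (B_le_parabolic P J hb) (closure_le_parabolic P J hnx)
    · have e : (ny : G) * ((nx * nd * ny : P.N) : G)⁻¹ * n * b' =
          ny * ((((nx * nd * ny : P.N) : G))⁻¹ * n * b') := by group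
      rw [e]
      refine Subgroup.mul_mem _ (closure_le_parabolic P K hny) (B_le_parabolic P K ?_)
      refine P.B.mul_mem ?_ hb'
      have := P.B.inv_mem ht
      simpa using this
    · push_cast
      group
  · -- uniqueness
    rintro g ⟨d, hd⟩ ⟨d', hd'⟩ ⟨n, hn, p, hp, q, hq, hg⟩ ⟨n', hn', p', hp', q', hq', hg'⟩
    simp only at hn hn'
    apply Subtype.ext
    simp only
    have he : (n' : G) = (p'⁻¹ * p) * n * (q * q'⁻¹) := by
      have : p' * n' * q' = p * n * q := by rw [← hg', ← hg]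
      calc (n' : G) = p'⁻¹ * (p' * n' * q') * q'⁻¹ := by group
        _ = p'⁻¹ * (p * n * q) * q'⁻¹ := by rw [this]
        _ = _ := by group
    obtain ⟨x, hx, y, hy, hxy⟩ := π_mem_of_mem_doubleCoset P hJ hK n n'
      (Subgroup.mul_mem _ (Subgroup.inv_mem _ hp') hp) (Subgroup.mul_mem _ hq (Subgroup.inv_mem _ hq')) he
    rw [hn, hn'] at hxy
    exact (red_unique (invGen P) (exchange P) hJW hKW hd hd' hx hy hxy).symm
  · -- invariance
    rintro g d ⟨n, hn, p, hp, q, hq, rfl⟩ h hh k hk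
    refine ⟨n, hn, h * p, Subgroup.mul_mem _ hh hp, q * k, Subgroup.mul_mem _ hq hk, ?_⟩
    group
  · -- separation
    rintro g g' d ⟨n, hn, p, hp, q, hq, rfl⟩ ⟨n', hn', p', hp', q', hq', rfl⟩
    have ht : (n : G)⁻¹ * n' ∈ P.B := (π_eq_iff P).1 (hn.trans hn'.symm)
    refine ⟨p' * p⁻¹, Subgroup.mul_mem _ hp' (Subgroup.inv_mem _ hp),
      q⁻¹ * ((n : G)⁻¹ * n') * q', ?_, ?_⟩
    · exact Subgroup.mul_mem _ (Subgroup.mul_mem _ (Subgroup.inv_mem _ hq) (B_le_parabolic P K ht)) hq'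
    · group
  · -- surjectivity
    rintro ⟨d, hd⟩
    obtain ⟨nd, rfl⟩ := π_surjective P d
    exact ⟨nd, nd, rfl, 1, Subgroup.one_mem _, 1, Subgroup.one_mem _, by simp⟩

/-! ### The Steinberg character -/

section steinberg

variable [Fintype G] {ι : Type*} [DecidableEq ι] (I : Finset ι) (s : ι → G)

/-- the alternating sum of the permutation characters on the standard parabolic subgroups -/
noncomputable def St : G → ℂ := fun g =>
  ∑ J ∈ I.powerset, (-1 : ℂ) ^ J.card * Cfsg.fixedPointCharacter (P.parabolic (s '' (J : Set ι))) g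

open Classical in
/-- the image in `W` of the `i`-th distinguished generator -/
noncomputable def σW (i : ι) : W P := if h : s i ∈ P.N then π P ⟨s i, h⟩ else 1

theorem image_subset_S (hs : s '' (I : Set ι) = P.S) {J : Finset ι} (hJ : J ⊆ I) :
    s '' (J : Set ι) ⊆ P.S := by
  rw [← hs]
  exact Set.image_mono (by exact_mod_cast hJ)

theorem JW_image (hs : s '' (I : Set ι) = P.S) {J : Finset ι} (hJ : J ⊆ I) :
    JW P (s '' (J : Set ι)) = σW P s '' (J : Set ι) := by
  ext w
  constructor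
  · rintro ⟨n, ⟨i, hi, hin⟩, rfl⟩
    refine ⟨i, hi, ?_⟩
    have hN : s i ∈ P.N := by rw [hin]; exact n.2
    unfold σW
    rw [dif_pos hN]
    congr 1
    exact Subtype.ext hin
  · rintro ⟨i, hi, rfl⟩
    have hS : s i ∈ P.S := image_subset_S P I s hs hJ ⟨i, hi, rfl⟩
    have hN : s i ∈ P.N := P.subset hS
    unfold σW
    rw [dif_pos hN]
    exact ⟨⟨s i, hN⟩, ⟨i, hi, rfl⟩, rfl⟩

theorem σW_image (hs : s '' (I : Set ι) = P.S) : σW P s '' (I : Set ι) = SW P := by
  rw [← JW_image P I s hs (Finset.Subset.refl I), hs]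
  rfl

theorem inner_St_fpc (hs : s '' (I : Set ι) = P.S) {K₀ : Finset ι} (hK : K₀ ⊆ I) :
    (Nat.card G : ℂ)⁻¹ * ∑ g : G, St P I s g *
        Cfsg.fixedPointCharacter (P.parabolic (s '' (K₀ : Set ι))) g =
      if K₀ = ∅ then 1 else 0 := by
  classical
  haveI : Fintype (W P) := Fintype.ofFinite _
  have h1 : (Nat.card G : ℂ)⁻¹ * ∑ g : G, St P I s g *
        Cfsg.fixedPointCharacter (P.parabolic (s '' (K₀ : Set ι))) g =
      ∑ J ∈ I.powerset, (-1 : ℂ) ^ J.card * ((Nat.card G : ℂ)⁻¹ * ∑ g : G,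
        Cfsg.fixedPointCharacter (P.parabolic (s '' (J : Set ι))) g *
        Cfsg.fixedPointCharacter (P.parabolic (s '' (K₀ : Set ι))) g) := by
    unfold St
    simp_rw [Finset.sum_mul]
    rw [Finset.sum_comm, Finset.mul_sum]
    apply Finset.sum_congr rfl
    intro J _
    rw [Finset.mul_sum, Finset.mul_sum, Finset.mul_sum]
    apply Finset.sum_congr rfl
    intro g _
    ring
  rw [h1]
  have h2 : ∀ J ∈ I.powerset, (-1 : ℂ) ^ J.card * ((Nat.card G : ℂ)⁻¹ * ∑ g : G,
        Cfsg.fixedPointCharacter (P.parabolic (s '' (J : Set ι))) g *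
        Cfsg.fixedPointCharacter (P.parabolic (s '' (K₀ : Set ι))) g) =
      (((-1 : ℤ) ^ J.card * (Nat.card (Red (SW P) (σW P s '' (J : Set ι))
        (JW P (s '' (K₀ : Set ι)))) : ℤ) : ℤ) : ℂ) := by
    intro J hJ
    rw [Finset.mem_powerset] at hJ
    rw [inner_fpc_parabolic P (image_subset_S P I s hs hJ) (image_subset_S P I s hs hK),
      JW_image P I s hs hJ]
    push_cast
    rfl
  rw [Finset.sum_congr rfl h2, ← Int.cast_sum,
    alternating_sum_red (invGen P) (exchange P) I (σW P s) (σW_image P I s hs)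
      (JW_subset_SW P (image_subset_S P I s hs hK))]
  have h3 : JW P (s '' (K₀ : Set ι)) = ∅ ↔ K₀ = ∅ := by
    rw [JW_image P I s hs hK, Set.image_eq_empty]
    exact_mod_cast Iff.rfl
  by_cases hK0 : K₀ = ∅
  · rw [if_pos hK0, if_pos (h3.2 hK0)]
    simp
  · rw [if_neg hK0, if_neg (fun h => hK0 (h3.1 h))]
    simp

theorem conj_St (g : G) : conj (St P I s g) = St P I s g := by
  unfold St Cfsg.fixedPointCharacter
  rw [map_sum]
  apply Finset.sum_congr rfl
  intro J _
  rw [map_mul, map_pow, map_neg, map_one, map_natCast]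

theorem conj_fpc (H : Subgroup G) (g : G) :
    conj (Cfsg.fixedPointCharacter H g) = Cfsg.fixedPointCharacter H g := by
  unfold Cfsg.fixedPointCharacter
  rw [map_natCast]

theorem classInner_St_fpc (hs : s '' (I : Set ι) = P.S) {K₀ : Finset ι} (hK : K₀ ⊆ I) :
    Cfsg.classInner (St P I s) (Cfsg.fixedPointCharacter (P.parabolic (s '' (K₀ : Set ι)))) =
      if K₀ = ∅ then 1 else 0 := by
  unfold Cfsg.classInner
  simp_rw [conj_fpc]
  exact inner_St_fpc P I s hs hK

theorem classInner_St_St (hs : s '' (I : Set ι) = P.S) :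
    Cfsg.classInner (St P I s) (St P I s) = 1 := by
  classical
  unfold Cfsg.classInner
  simp_rw [conj_St]
  have h1 : (Nat.card G : ℂ)⁻¹ * ∑ g : G, St P I s g * St P I s g =
      ∑ K₀ ∈ I.powerset, (-1 : ℂ) ^ K₀.card * ((Nat.card G : ℂ)⁻¹ * ∑ g : G, St P I s g *
        Cfsg.fixedPointCharacter (P.parabolic (s '' (K₀ : Set ι))) g) := by
    have : ∀ g : G, St P I s g * St P I s g = ∑ K₀ ∈ I.powerset, (-1 : ℂ) ^ K₀.card *
        (St P I s g * Cfsg.fixedPointCharacter (P.parabolic (s '' (K₀ : Set ι))) g) := by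
      intro g
      have e : St P I s g = ∑ K₀ ∈ I.powerset, (-1 : ℂ) ^ K₀.card *
          Cfsg.fixedPointCharacter (P.parabolic (s '' (K₀ : Set ι))) g := rfl
      nth_rewrite 2 [e]
      rw [Finset.mul_sum]
      apply Finset.sum_congr rfl
      intro K₀ _
      ring
    simp_rw [this]
    rw [Finset.sum_comm, Finset.mul_sum]
    apply Finset.sum_congr rfl
    intro K₀ _
    rw [← Finset.mul_sum]
    ring
  rw [h1]
  have h2 : ∀ K₀ ∈ I.powerset, (-1 : ℂ) ^ K₀.card * ((Nat.card G : ℂ)⁻¹ * ∑ g : G, St P I s g *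
        Cfsg.fixedPointCharacter (P.parabolic (s '' (K₀ : Set ι))) g) =
      if K₀ = ∅ then 1 else 0 := by
    intro K₀ hK
    rw [Finset.mem_powerset] at hK
    rw [inner_St_fpc P I s hs hK]
    by_cases h0 : K₀ = ∅
    · rw [if_pos h0, h0]; simp
    · rw [if_neg h0]; simp
  rw [Finset.sum_congr rfl h2, Finset.sum_ite_eq' I.powerset ∅ (fun _ => (1 : ℂ)),
    if_pos (Finset.empty_mem_powerset I)]

theorem St_generalized : Cfsg.IsGeneralizedCharacter G (St P I s) := by
  classical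
  refine ⟨∑ J ∈ I.powerset, (if Even J.card then
      Cfsg.fixedPointCharacter (P.parabolic (s '' (J : Set ι))) else 0),
    ∑ J ∈ I.powerset, (if Even J.card then 0 else
      Cfsg.fixedPointCharacter (P.parabolic (s '' (J : Set ι)))), ?_, ?_, ?_⟩
  · apply Cfsg.Agent.Lib.Helper75_CharArith.isCharacter_sum
    intro J _
    split_ifs
    · exact Cfsg.Agent.Lib.Helper81_UnipGL.isCharacter_fpc _
    · exact Cfsg.Agent.Lib.Helper75_CharArith.isCharacter_zero
  · apply Cfsg.Agent.Lib.Helper75_CharArith.isCharacter_sum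
    intro J _
    split_ifs
    · exact Cfsg.Agent.Lib.Helper75_CharArith.isCharacter_zero
    · exact Cfsg.Agent.Lib.Helper81_UnipGL.isCharacter_fpc _
  · funext g
    unfold St
    rw [Pi.sub_apply, Finset.sum_apply, Finset.sum_apply, ← Finset.sum_sub_distrib]
    apply Finset.sum_congr rfl
    intro J _
    by_cases hJ : Even J.card
    · rw [if_pos hJ, if_pos hJ, hJ.neg_one_pow]
      simp
    · rw [if_neg hJ, if_neg hJ, (Nat.not_even_iff_odd.1 hJ).neg_one_pow]
      simp

/-- **The Steinberg character of a finite group with a (B, N)-pair is irreducible.** -/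
theorem isIrrCharacter_St (hs : s '' (I : Set ι) = P.S) : Cfsg.IsIrrCharacter G (St P I s) := by
  rcases Cfsg.Agent.Lib.Helper25_VirtNorm.norm_one (St P I s) (St_generalized P I s)
    (classInner_St_St P I s hs) with h | h
  · exact h
  · exfalso
    have h1 := classInner_St_fpc P I s hs (Finset.empty_subset I)
    rw [if_pos rfl] at h1
    obtain ⟨n, hn⟩ := Cfsg.Agent.Lib.Helper75_CharArith.classInner_isCharacter_nat
      (Cfsg.Agent.Lib.Helper3_CharBridge.isCharacter_of_isIrrCharacter h)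
      (Cfsg.Agent.Lib.Helper81_UnipGL.isCharacter_fpc
        (P.parabolic (s '' ((∅ : Finset ι) : Set ι))))
    have h2 : Cfsg.classInner (-St P I s)
        (Cfsg.fixedPointCharacter (P.parabolic (s '' ((∅ : Finset ι) : Set ι)))) =
        - Cfsg.classInner (St P I s)
        (Cfsg.fixedPointCharacter (P.parabolic (s '' ((∅ : Finset ι) : Set ι)))) := by
      unfold Cfsg.classInner
      simp only [Pi.neg_apply, neg_mul, Finset.sum_neg_distrib, mul_neg]
    rw [h2, h1] at hn
    have h3 : ((n : ℂ)).re = (-1 : ℂ).re := by rw [← hn]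
    simp at h3
    have : (0 : ℝ) ≤ n := Nat.cast_nonneg n
    linarith

end steinberg

end Cfsg.Agent.Lib.Helper81_BNSteinberg
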