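import Mathlib
import Cfsg.Prelude.Def_Characters
import Cfsg.Agent.Lib.Helper3_CharBridge
import Cfsg.Agent.Lib.Helper3_CharOrtho

/-!
# Decomposing representations: invariant subspaces, Maschke complements, product decomposition,
equality of characters implies equivalence (helper3).
-/

set_option autoImplicit false
set_option linter.unusedSectionVars false

namespace Cfsg.Agent.Lib.Helper3_RepDecomp

open Representation
open Cfsg.Agent.Lib.Helper3_CharBridge Cfsg.Agent.Lib.Helper3_CharOrtho

section sub

variable {k G V : Type*} [Field k] [Group G] [AddCommGroup V] [Module k V]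

/-- Invariance of a subspace under a representation. -/
def IsInv (ρ : Representation k G V) (W : Submodule k V) : Prop := ∀ g : G, ∀ w ∈ W, ρ g w ∈ W

/-- The restriction of a representation to an invariant subspace. -/
noncomputable def subRep (ρ : Representation k G V) (W : Submodule k V) (hW : IsInv ρ W) :
    Representation k G W :=
  ρ.subrepresentation W (fun g w hw => hW g w hw)

@[simp]
theorem subRep_apply (ρ : Representation k G V) (W : Submodule k V) (hW : IsInv ρ W) (g : G)
    (w : W) : ((subRep ρ W hW g w : W) : V) = ρ g w := rfl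

/-- The subrepresentation (in the Mathlib sense) attached to an invariant subspace. -/
def toSubrep (ρ : Representation k G V) (W : Submodule k V) (hW : IsInv ρ W) :
    Subrepresentation ρ := ⟨W, fun g _ hv => hW g _ hv⟩

theorem isInv_of_subrep (ρ : Representation k G V) (S : Subrepresentation ρ) :
    IsInv ρ S.toSubmodule := fun g _ hw => S.apply_mem_toSubmodule g hw

/-- Maschke: every invariant subspace has an invariant complement. -/
theorem exists_isInv_isCompl [Finite G] [NeZero (Nat.card G : k)] (ρ : Representation k G V)
    (W : Submodule k V) (hW : IsInv ρ W) :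
    ∃ W' : Submodule k V, IsInv ρ W' ∧ IsCompl W W' := by
  obtain ⟨S', hS'⟩ := exists_isCompl (toSubrep ρ W hW)
  refine ⟨S'.toSubmodule, isInv_of_subrep ρ S', ?_⟩
  constructor
  · rw [disjoint_iff]
    have := congrArg Subrepresentation.toSubmodule hS'.inf_eq_bot
    exact this
  · rw [codisjoint_iff]
    have := congrArg Subrepresentation.toSubmodule hS'.sup_eq_top
    exact this

/-- The restriction of `ρ` to `W` is irreducible as soon as `W ≠ ⊥` and every invariant subspace
contained in `W` is `⊥` or `W`. -/
theorem isIrreducible_subRep_of_minimal (ρ : Representation k G V) (W : Submodule k V)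
    (hW : IsInv ρ W) (hne : W ≠ ⊥)
    (hmin : ∀ U : Submodule k V, IsInv ρ U → U ≤ W → U = ⊥ ∨ U = W) :
    (subRep ρ W hW).IsIrreducible := by
  refine { exists_pair_ne := ⟨⊥, ⊤, ?_⟩, eq_bot_or_eq_top := ?_ }
  · intro hbt
    have h1 := congrArg Subrepresentation.toSubmodule hbt
    have h2 : (⊥ : Submodule k W) = ⊤ := h1
    apply hne
    rw [eq_bot_iff]
    intro w hw
    have : (⟨w, hw⟩ : W) ∈ (⊤ : Submodule k W) := trivial
    rw [← h2, Submodule.mem_bot] at this
    have := congrArg Subtype.val this
    simpa using this
  · intro T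
    have hU : IsInv ρ (T.toSubmodule.map W.subtype) := by
      intro g v hv
      obtain ⟨w, hw, rfl⟩ := hv
      exact ⟨subRep ρ W hW g w, T.apply_mem_toSubmodule g hw, rfl⟩
    rcases hmin _ hU (Submodule.map_subtype_le W _) with h | h
    · left
      apply Subrepresentation.toSubmodule_injective
      have : T.toSubmodule = ⊥ := by
        apply Submodule.map_injective_of_injective W.subtype_injective
        rw [h, Submodule.map_bot]
      exact this
    · right
      apply Subrepresentation.toSubmodule_injective
      have : T.toSubmodule = ⊤ := by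
        rw [eq_top_iff]
        intro w _
        have hw : (w : V) ∈ T.toSubmodule.map W.subtype := by rw [h]; exact w.2
        obtain ⟨w', hw', hw''⟩ := hw
        have : w' = w := Subtype.ext hw''
        rwa [← this]
      exact this

/-- A nonzero finite-dimensional representation has an irreducible invariant subspace. -/
theorem exists_irreducible_sub [FiniteDimensional k V] [Nontrivial V] (ρ : Representation k G V) :
    ∃ (W : Submodule k V) (hW : IsInv ρ W), W ≠ ⊥ ∧ (subRep ρ W hW).IsIrreducible := by
  classical
  -- choose an invariant nonzero subspace of minimal dimension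
  have hex : ∃ n : ℕ, ∃ W : Submodule k V, IsInv ρ W ∧ W ≠ ⊥ ∧ Module.finrank k W = n :=
    ⟨_, ⊤, fun g w _ => trivial, top_ne_bot, rfl⟩
  obtain ⟨W, hW, hne, hn⟩ := Nat.find_spec hex
  refine ⟨W, hW, hne, isIrreducible_subRep_of_minimal ρ W hW hne ?_⟩
  intro U hU hUW
  by_cases hU0 : U = ⊥
  · exact Or.inl hU0
  right
  have h1 : Nat.find hex ≤ Module.finrank k U := Nat.find_min' hex ⟨U, hU, hU0, rfl⟩
  rw [← hn] at h1
  exact Submodule.eq_of_le_of_finrank_le hUW h1

end sub

section compl

variable {k G V : Type*} [Field k] [Group G] [AddCommGroup V] [Module k V]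

/-- `V ≅ P × Q` as representations, for complementary invariant subspaces. -/
noncomputable def equivProdOfIsCompl (ρ : Representation k G V) (P Q : Submodule k V)
    (hP : IsInv ρ P) (hQ : IsInv ρ Q) (h : IsCompl P Q) :
    ((subRep ρ P hP).prod (subRep ρ Q hQ)).Equiv ρ :=
  Representation.Equiv.mk (Submodule.prodEquivOfIsCompl P Q h) (fun g => by
    apply LinearMap.ext
    rintro ⟨p, q⟩
    simp)

theorem char_prod {W : Type*} [AddCommGroup W] [Module k W] [FiniteDimensional k V]
    [FiniteDimensional k W] (ρ : Representation k G V) (σ : Representation k G W) :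
    (ρ.prod σ).character = ρ.character + σ.character := by
  funext g
  simp only [Representation.character, Pi.add_apply]
  exact LinearMap.trace_prodMap' (ρ g) (σ g)

/-- Additivity of characters along complementary invariant subspaces. -/
theorem char_eq_add_of_isCompl [FiniteDimensional k V] (ρ : Representation k G V)
    (P Q : Submodule k V) (hP : IsInv ρ P) (hQ : IsInv ρ Q) (h : IsCompl P Q) :
    ρ.character = (subRep ρ P hP).character + (subRep ρ Q hQ).character := by
  rw [← char_prod, char_iso (equivProdOfIsCompl ρ P Q hP hQ h)]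

/-- Product of equivalences. -/
noncomputable def prodCongr {V₁ V₂ W₁ W₂ : Type*} [AddCommGroup V₁] [Module k V₁]
    [AddCommGroup V₂] [Module k V₂] [AddCommGroup W₁] [Module k W₁] [AddCommGroup W₂]
    [Module k W₂] {ρ₁ : Representation k G V₁} {ρ₂ : Representation k G V₂}
    {σ₁ : Representation k G W₁} {σ₂ : Representation k G W₂}
    (φ₁ : ρ₁.Equiv σ₁) (φ₂ : ρ₂.Equiv σ₂) : (ρ₁.prod ρ₂).Equiv (σ₁.prod σ₂) :=
  Representation.Equiv.mk (LinearEquiv.prodCongr φ₁.toLinearEquiv φ₂.toLinearEquiv) (fun g => by
    apply LinearMap.ext
    rintro ⟨v₁, v₂⟩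
    have h1 := IntertwiningMap.isIntertwining _ _ φ₁.toIntertwiningMap g v₁
    have h2 := IntertwiningMap.isIntertwining _ _ φ₂.toIntertwiningMap g v₂
    exact Prod.ext h1 h2)

/-- The range of an injective intertwining map, as an invariant subspace, is equivalent to the
source. -/
theorem isInv_range {W : Type*} [AddCommGroup W] [Module k W] {ρ : Representation k G V}
    {σ : Representation k G W} (f : IntertwiningMap ρ σ) :
    IsInv σ (LinearMap.range f.toLinearMap) := by
  rintro g _ ⟨v, rfl⟩
  exact ⟨ρ g v, IntertwiningMap.isIntertwining _ _ f g v⟩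

noncomputable def equivRange {W : Type*} [AddCommGroup W] [Module k W]
    {ρ : Representation k G V} {σ : Representation k G W} (f : IntertwiningMap ρ σ)
    (hf : Function.Injective f) :
    ρ.Equiv (subRep σ (LinearMap.range f.toLinearMap) (isInv_range f)) :=
  Representation.Equiv.mk (LinearEquiv.ofInjective f.toLinearMap hf) (fun g => by
    apply LinearMap.ext
    intro v
    apply Subtype.ext
    exact IntertwiningMap.isIntertwining _ _ f g v)

end compl

section main

universe u v w

variable {G : Type w} [Group G] [Fintype G]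

theorem nonempty_equiv_of_char_eq_aux : ∀ (n : ℕ) (V : Type u) [AddCommGroup V] [Module ℂ V]
    [FiniteDimensional ℂ V] (W : Type v) [AddCommGroup W] [Module ℂ W] [FiniteDimensional ℂ W]
    (ρ : Representation ℂ G V) (σ : Representation ℂ G W), Module.finrank ℂ V = n →
    ρ.character = σ.character → Nonempty (ρ.Equiv σ) := by
  intro n
  induction n using Nat.strong_induction_on with
  | _ n ih =>
  intro V _ _ _ W _ _ _ ρ σ hn hchar
  have : NeZero (Nat.card G : ℂ) := ⟨card_ne_zero_complex⟩
  have hdim : Module.finrank ℂ V = Module.finrank ℂ W := by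
    have h1 := congrFun hchar 1
    rw [char_one, char_one] at h1
    exact_mod_cast h1
  by_cases hV : Subsingleton V
  · -- trivial case
    have hW : Subsingleton W := by
      rw [← Module.finrank_zero_iff (R := ℂ), ← hdim, Module.finrank_zero_iff]
      exact hV
    refine ⟨Representation.Equiv.mk (LinearEquiv.ofSubsingleton V W) (fun g => ?_)⟩
    apply LinearMap.ext
    intro v
    exact Subsingleton.elim _ _
  have hVnt : Nontrivial V := not_subsingleton_iff_nontrivial.mp hV
  obtain ⟨S, hS, hSne, hSirr⟩ := exists_irreducible_sub ρ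
  set τ := subRep ρ S hS with hτ
  -- the inclusion is a nonzero intertwining map
  let ι : IntertwiningMap τ ρ := ⟨S.subtype, fun g => by
    apply LinearMap.ext
    intro v
    rfl⟩
  have hι : ι ≠ 0 := by
    intro h0
    apply hSne
    rw [eq_bot_iff]
    intro v hv
    have h1 : ι ⟨v, hv⟩ = (0 : IntertwiningMap τ ρ) ⟨v, hv⟩ := by rw [h0]
    exact h1
  have h1 : 0 < Module.finrank ℂ (IntertwiningMap τ ρ) :=
    Module.finrank_pos_iff_exists_ne_zero.mpr ⟨ι, hι⟩
  have h2 : Module.finrank ℂ (IntertwiningMap τ σ) = Module.finrank ℂ (IntertwiningMap τ ρ) := by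
    have e1 := classInner_char_eq_finrank τ σ
    have e2 := classInner_char_eq_finrank τ ρ
    rw [← hchar, e2] at e1
    exact_mod_cast e1.symm
  rw [← h2] at h1
  obtain ⟨f, hf⟩ := Module.finrank_pos_iff_exists_ne_zero.mp h1
  have hfinj : Function.Injective f :=
    (IsIrreducible.injective_or_eq_zero f).resolve_right hf
  -- the image of `f`
  set S' := LinearMap.range f.toLinearMap with hS'
  have hS'inv : IsInv σ S' := isInv_range f
  have e1 : τ.Equiv (subRep σ S' hS'inv) := equivRange f hfinj
  -- complements
  obtain ⟨P, hP, hSP⟩ := exists_isInv_isCompl ρ S hS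
  obtain ⟨Q, hQ, hSQ⟩ := exists_isInv_isCompl σ S' hS'inv
  have hc1 := char_eq_add_of_isCompl ρ S P hS hP hSP
  have hc2 := char_eq_add_of_isCompl σ S' Q hS'inv hQ hSQ
  have hc3 : (subRep ρ P hP).character = (subRep σ Q hQ).character := by
    have h3 : τ.character = (subRep σ S' hS'inv).character := char_iso e1
    rw [hc1, hc2, ← h3] at hchar
    exact add_left_cancel hchar
  have hlt : Module.finrank ℂ P < n := by
    have h4 := Submodule.finrank_add_eq_of_isCompl hSP
    have h5 : 0 < Module.finrank ℂ S :=
      Module.finrank_pos_iff.mpr (Submodule.nontrivial_iff_ne_bot.mpr hSne)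
    omega
  obtain ⟨e2⟩ := ih _ hlt P Q (subRep ρ P hP) (subRep σ Q hQ) rfl hc3
  exact ⟨(equivProdOfIsCompl ρ S P hS hP hSP).symm.trans
    ((prodCongr e1 e2).trans (equivProdOfIsCompl σ S' Q hS'inv hQ hSQ))⟩

/-- Two finite-dimensional complex representations of a finite group with the same character
are equivalent (this is S0153). -/
theorem nonempty_equiv_of_char_eq {V : Type u} [AddCommGroup V] [Module ℂ V]
    [FiniteDimensional ℂ V] {W : Type v} [AddCommGroup W] [Module ℂ W] [FiniteDimensional ℂ W]
    (ρ : Representation ℂ G V) (σ : Representation ℂ G W) (h : ρ.character = σ.character) :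
    Nonempty (ρ.Equiv σ) :=
  nonempty_equiv_of_char_eq_aux _ V W ρ σ rfl h

end main

end Cfsg.Agent.Lib.Helper3_RepDecomp
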