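import Mathlib
import Cfsg.Prelude.Def_CharExt
import Cfsg.Agent.Lib.Helper3_RepDecomp
import Cfsg.Agent.Lib.Helper15_Linear

/-!
# The determinantal character (helper75)

API for `Cfsg.detChar` on finite groups:
* `detChar_of_rep`: `detChar ρ.character = fun g => det (ρ g)` for every f.d. representation;
* `detChar_mul_apply`, `detChar_one`, `isCharacter_detChar`: it is a character of degree one;
* `detChar_add`: `detChar (χ + ψ) = detChar χ * detChar ψ`;
* `detChar_linear_mul`: `detChar (lam * χ) = lam ^ n * detChar χ` for `lam` of degree one, `χ 1 = n`;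
* `detChar_res`: `detChar (χ|_N) = (detChar χ)|_N`;
* `detChar_linear`: `detChar lam = lam` for `lam` of degree one.
-/

set_option autoImplicit false

namespace Cfsg.Agent.Lib.Helper75_DetChar

open Representation Cfsg.Agent.Lib.Helper3_CharBridge

variable {G : Type*} [Group G] [Finite G]

theorem detChar_of_rep {V : Type*} [AddCommGroup V] [Module ℂ V] [FiniteDimensional ℂ V]
    (ρ : Representation ℂ G V) : Cfsg.detChar ρ.character = fun g => LinearMap.det (ρ g) := by
  have : Fintype G := Fintype.ofFinite G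
  have h : Cfsg.IsCharacter G ρ.character := isCharacter_of_rep ρ
  unfold Cfsg.detChar
  rw [dif_pos h]
  have hσ := Classical.choose_spec (Classical.choose_spec h)
  set σ := Classical.choose (Classical.choose_spec h)
  obtain ⟨e⟩ := Cfsg.Agent.Lib.Helper3_RepDecomp.nonempty_equiv_of_char_eq σ ρ hσ
  funext g
  have h1 : ρ g = (e.toLinearEquiv : _ →ₗ[ℂ] V) ∘ₗ σ g ∘ₗ (e.toLinearEquiv.symm : V →ₗ[ℂ] _) := by
    have h2 := e.toIntertwiningMap.isIntertwining' g
    apply LinearMap.ext
    intro v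
    have h3 := LinearMap.congr_fun h2 (e.toLinearEquiv.symm v)
    simp only [LinearMap.comp_apply] at h3
    simp only [LinearMap.comp_apply, LinearEquiv.coe_coe]
    have h4 : e.toIntertwiningMap.toLinearMap (e.toLinearEquiv.symm v) = v :=
      e.toLinearEquiv.apply_symm_apply v
    rw [h4] at h3
    exact h3.symm
  rw [h1, LinearMap.det_conj]

theorem detChar_mul_apply {χ : G → ℂ} (hχ : Cfsg.IsCharacter G χ) (g h : G) :
    Cfsg.detChar χ (g * h) = Cfsg.detChar χ g * Cfsg.detChar χ h := by
  obtain ⟨n, ρ, rfl⟩ := hχ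
  rw [detChar_of_rep ρ]
  simp only [map_mul]

theorem detChar_one {χ : G → ℂ} (hχ : Cfsg.IsCharacter G χ) : Cfsg.detChar χ 1 = 1 := by
  obtain ⟨n, ρ, rfl⟩ := hχ
  rw [detChar_of_rep ρ]
  simp only [map_one]

/-- The determinantal character as a monoid hom. -/
noncomputable def detHom {χ : G → ℂ} (hχ : Cfsg.IsCharacter G χ) : G →* ℂ where
  toFun := Cfsg.detChar χ
  map_one' := detChar_one hχ
  map_mul' := detChar_mul_apply hχ

theorem isCharacter_detChar {χ : G → ℂ} (hχ : Cfsg.IsCharacter G χ) :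
    Cfsg.IsCharacter G (Cfsg.detChar χ) ∧ Cfsg.detChar χ 1 = 1 :=
  Cfsg.Agent.Lib.Helper15_Linear.isCharacter_of_hom (detHom hχ)

theorem detChar_add {χ ψ : G → ℂ} (hχ : Cfsg.IsCharacter G χ) (hψ : Cfsg.IsCharacter G ψ) :
    Cfsg.detChar (χ + ψ) = Cfsg.detChar χ * Cfsg.detChar ψ := by
  obtain ⟨n, ρ, rfl⟩ := hχ
  obtain ⟨m, σ, rfl⟩ := hψ
  rw [← Cfsg.Agent.Lib.Helper3_RepDecomp.char_prod ρ σ, detChar_of_rep, detChar_of_rep,
    detChar_of_rep]
  funext g
  simp only [Pi.mul_apply]
  exact LinearMap.det_prodMap _ _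

/-- The representation `g ↦ lam g • ρ g`. -/
noncomputable def twist (lam : G →* ℂ) {V : Type*} [AddCommGroup V] [Module ℂ V]
    (ρ : Representation ℂ G V) : Representation ℂ G V where
  toFun g := lam g • ρ g
  map_one' := by simp
  map_mul' g h := by
    rw [map_mul, map_mul, smul_mul_smul_comm]

omit [Finite G] in
theorem twist_character (lam : G →* ℂ) {V : Type*} [AddCommGroup V] [Module ℂ V]
    [FiniteDimensional ℂ V] (ρ : Representation ℂ G V) :
    (twist lam ρ).character = (fun g => lam g) * ρ.character := by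
  funext g
  simp [Representation.character, twist]

theorem detChar_linear_mul {lam χ : G → ℂ} (hlam : Cfsg.IsCharacter G lam) (hlam1 : lam 1 = 1)
    (hχ : Cfsg.IsCharacter G χ) (n : ℕ) (hn : χ 1 = n) :
    Cfsg.detChar (lam * χ) = lam ^ n * Cfsg.detChar χ := by
  obtain ⟨k, ρ, rfl⟩ := hχ
  have hk : k = n := by
    rw [Representation.char_one] at hn
    simp only [Module.finrank_fintype_fun_eq_card, Fintype.card_fin] at hn
    exact_mod_cast hn
  subst hk
  have h1 := twist_character (Cfsg.Agent.Lib.Helper15_Linear.linearHom lam hlam hlam1) ρ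
  have h2 : (fun g => Cfsg.Agent.Lib.Helper15_Linear.linearHom lam hlam hlam1 g) = lam := rfl
  rw [h2] at h1
  rw [← h1, detChar_of_rep, detChar_of_rep]
  funext g
  simp only [twist, MonoidHom.coe_mk, OneHom.coe_mk, Pi.mul_apply, Pi.pow_apply,
    Cfsg.Agent.Lib.Helper15_Linear.linearHom_apply]
  rw [LinearMap.det_smul]
  simp

theorem detChar_res (N : Subgroup G) {χ : G → ℂ} (hχ : Cfsg.IsCharacter G χ) :
    Cfsg.detChar (fun n : N => χ n) = fun n : N => Cfsg.detChar χ n := by
  obtain ⟨k, ρ, rfl⟩ := hχ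
  let σ : Representation ℂ N (Fin k → ℂ) := MonoidHom.comp ρ N.subtype
  have h1 : (fun n : N => ρ.character n) = σ.character := rfl
  rw [h1, detChar_of_rep, detChar_of_rep]
  rfl

theorem detChar_linear {lam : G → ℂ} (hlam : Cfsg.IsCharacter G lam) (hlam1 : lam 1 = 1) :
    Cfsg.detChar lam = lam := by
  obtain ⟨k, ρ, rfl⟩ := hlam
  have hk : k = 1 := by
    rw [Representation.char_one] at hlam1
    simp only [Module.finrank_fintype_fun_eq_card, Fintype.card_fin] at hlam1
    exact_mod_cast hlam1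
  subst hk
  rw [detChar_of_rep]
  funext g
  rw [Representation.character, LinearMap.trace_eq_matrix_trace ℂ (Pi.basisFun ℂ (Fin 1)),
    ← LinearMap.det_toMatrix (Pi.basisFun ℂ (Fin 1)), Matrix.det_fin_one, Matrix.trace_fin_one]

end Cfsg.Agent.Lib.Helper75_DetChar
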