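import Mathlib
import Cfsg.Prelude.Def_Characters
import Cfsg.Agent.Lib.Helper3_CharOrtho
import Cfsg.Agent.Lib.Helper78_CentralChar

/-!
# Extending an invariant irreducible representation over a cyclic quotient (helper75)

`exists_extension_of_cyclic`: `N ⊴ G`, `G ⧸ N` cyclic, `ρ` an irreducible complex representation
of `N` whose character is `G`-invariant.  Then `ρ` is the restriction of a representation of `G`
on the same space (which is then irreducible).
-/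

set_option autoImplicit false

namespace Cfsg.Agent.Lib.Helper75_ExtendCyclic

open Representation

variable {G : Type*} [Group G] {V : Type*} [AddCommGroup V] [Module ℂ V]

/-- A representation whose restriction to a subgroup is irreducible is irreducible. -/
theorem isIrreducible_of_restrict (N : Subgroup G) (ρ : Representation ℂ N V)
    (σ : Representation ℂ G V) (h : ∀ n : N, σ n = ρ n) [ρ.IsIrreducible] : σ.IsIrreducible := by
  refine { exists_pair_ne := ⟨⊥, ⊤, ?_⟩, eq_bot_or_eq_top := ?_ }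
  · intro hbt
    have h1 : (⊥ : Subrepresentation ρ) = ⊤ := by
      apply Subrepresentation.toSubmodule_injective
      have h2 := congrArg Subrepresentation.toSubmodule hbt
      exact h2
    exact bot_ne_top h1
  · intro a
    let b : Subrepresentation ρ := ⟨a.toSubmodule, fun n v hv => by
      rw [← h n]; exact a.apply_mem_toSubmodule n hv⟩
    rcases eq_bot_or_eq_top b with hb | hb
    · left
      apply Subrepresentation.toSubmodule_injective
      have h2 := congrArg Subrepresentation.toSubmodule hb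
      exact h2
    · right
      apply Subrepresentation.toSubmodule_injective
      have h2 := congrArg Subrepresentation.toSubmodule hb
      exact h2

section construction

variable (N : Subgroup G) (hN : N.Normal) (ρ : Representation ℂ N V) (g₀ : G) (m : ℕ)
  (M : Module.End ℂ V)

/-- Conjugation of `n ∈ N` by `g₀ ^ l`. -/
def cjp (l : ℕ) (n : N) : N := ⟨g₀ ^ l * n * (g₀ ^ l)⁻¹, hN.conj_mem n n.2 _⟩

theorem pow_mul_rho
    (hI : ∀ n : N, M * ρ n = ρ ⟨g₀ * n * g₀⁻¹, hN.conj_mem n n.2 g₀⟩ * M) (l : ℕ) (n : N) :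
    M ^ l * ρ n = ρ (cjp N hN g₀ l n) * M ^ l := by
  induction l generalizing n with
  | zero =>
    have : cjp N hN g₀ 0 n = n := by
      ext; simp [cjp]
    rw [this, pow_zero, one_mul, mul_one]
  | succ l ih =>
    rw [pow_succ, mul_assoc, hI n, ← mul_assoc, ih, mul_assoc]
    congr 2
    ext
    simp [cjp, pow_succ, mul_assoc]

theorem wd_aux (hm : ∀ k : ℕ, g₀ ^ k ∈ N → m ∣ k) (hmN : g₀ ^ m ∈ N)
    (hII : M ^ m = ρ ⟨g₀ ^ m, hmN⟩) (k t : ℕ) (a a' : N)
    (h : g₀ ^ k * (a : G) = g₀ ^ (k + t) * (a' : G)) :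
    M ^ k * ρ a = M ^ (k + t) * ρ a' := by
  have h1 : (a : G) = g₀ ^ t * (a' : G) := by
    rw [pow_add, mul_assoc] at h
    exact mul_left_cancel h
  have h2 : g₀ ^ t ∈ N := by
    have : g₀ ^ t = (a : G) * (a' : G)⁻¹ := by rw [h1]; group
    rw [this]
    exact N.mul_mem a.2 (N.inv_mem a'.2)
  obtain ⟨j, rfl⟩ := hm t h2
  have h3 : a = (⟨g₀ ^ m, hmN⟩ : N) ^ j * a' := by
    ext
    rw [h1, pow_mul]
    simp
  rw [pow_add, pow_mul, hII, h3, map_mul, map_pow, mul_assoc]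

theorem wd (hm : ∀ k : ℕ, g₀ ^ k ∈ N → m ∣ k) (hmN : g₀ ^ m ∈ N)
    (hII : M ^ m = ρ ⟨g₀ ^ m, hmN⟩) (k k' : ℕ) (a a' : N)
    (h : g₀ ^ k * (a : G) = g₀ ^ k' * (a' : G)) :
    M ^ k * ρ a = M ^ k' * ρ a' := by
  rcases le_total k k' with hle | hle
  · obtain ⟨t, rfl⟩ := Nat.exists_eq_add_of_le hle
    exact wd_aux N ρ g₀ m M hm hmN hII k t a a' h
  · obtain ⟨t, rfl⟩ := Nat.exists_eq_add_of_le hle
    exact (wd_aux N ρ g₀ m M hm hmN hII k' t a' a h.symm).symm

variable (hgen : ∀ g : G, ∃ k : ℕ, (g₀ ^ k)⁻¹ * g ∈ N)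

/-- The chosen exponent. -/
noncomputable def kk (g : G) : ℕ := Classical.choose (hgen g)

theorem kk_spec (g : G) : (g₀ ^ kk N g₀ hgen g)⁻¹ * g ∈ N := Classical.choose_spec (hgen g)

/-- The extended map. -/
noncomputable def extFun (g : G) : Module.End ℂ V :=
  M ^ kk N g₀ hgen g * ρ ⟨(g₀ ^ kk N g₀ hgen g)⁻¹ * g, kk_spec N g₀ hgen g⟩

theorem extFun_eq (hm : ∀ k : ℕ, g₀ ^ k ∈ N → m ∣ k) (hmN : g₀ ^ m ∈ N)
    (hII : M ^ m = ρ ⟨g₀ ^ m, hmN⟩) (k : ℕ) (a : N) :
    extFun N ρ g₀ M hgen (g₀ ^ k * (a : G)) = M ^ k * ρ a := by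
  unfold extFun
  apply wd N ρ g₀ m M hm hmN hII
  simp

theorem extFun_mul (hI : ∀ n : N, M * ρ n = ρ ⟨g₀ * n * g₀⁻¹, hN.conj_mem n n.2 g₀⟩ * M)
    (hm : ∀ k : ℕ, g₀ ^ k ∈ N → m ∣ k) (hmN : g₀ ^ m ∈ N)
    (hII : M ^ m = ρ ⟨g₀ ^ m, hmN⟩) (g h : G) :
    extFun N ρ g₀ M hgen (g * h) = extFun N ρ g₀ M hgen g * extFun N ρ g₀ M hgen h := by
  set k := kk N g₀ hgen g with hk
  set l := kk N g₀ hgen h with hl
  set a : N := ⟨(g₀ ^ k)⁻¹ * g, kk_spec N g₀ hgen g⟩ with ha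
  set b : N := ⟨(g₀ ^ l)⁻¹ * h, kk_spec N g₀ hgen h⟩ with hb
  have hg : g = g₀ ^ k * (a : G) := by simp [ha]
  have hh : h = g₀ ^ l * (b : G) := by simp [hb]
  -- c = g₀^{-l} a g₀^l
  let c : N := ⟨(g₀ ^ l)⁻¹ * (a : G) * g₀ ^ l, by
    have := hN.conj_mem a a.2 (g₀ ^ l)⁻¹
    simpa using this⟩
  have hc : cjp N hN g₀ l c = a := by
    ext
    simp [cjp, c, mul_assoc]
  have hgh : g * h = g₀ ^ (k + l) * ((c * b : N) : G) := by
    rw [hg, hh, pow_add]
    simp [c, mul_assoc]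
  have e1 : extFun N ρ g₀ M hgen g = M ^ k * ρ a := by
    conv_lhs => rw [hg]
    exact extFun_eq N ρ g₀ m M hgen hm hmN hII k a
  have e2 : extFun N ρ g₀ M hgen h = M ^ l * ρ b := by
    conv_lhs => rw [hh]
    exact extFun_eq N ρ g₀ m M hgen hm hmN hII l b
  rw [hgh, extFun_eq N ρ g₀ m M hgen hm hmN hII (k + l) (c * b), e1, e2, map_mul, pow_add]
  have h3 := pow_mul_rho N hN ρ g₀ M hI l c
  rw [hc] at h3
  rw [mul_assoc, mul_assoc, ← mul_assoc (M ^ l) (ρ c), h3, mul_assoc]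

/-- The extended representation. -/
noncomputable def extRep (hI : ∀ n : N, M * ρ n = ρ ⟨g₀ * n * g₀⁻¹, hN.conj_mem n n.2 g₀⟩ * M)
    (hm : ∀ k : ℕ, g₀ ^ k ∈ N → m ∣ k) (hmN : g₀ ^ m ∈ N)
    (hII : M ^ m = ρ ⟨g₀ ^ m, hmN⟩) : Representation ℂ G V where
  toFun := extFun N ρ g₀ M hgen
  map_one' := by
    have := extFun_eq N ρ g₀ m M hgen hm hmN hII 0 1
    simpa using this
  map_mul' := extFun_mul N hN ρ g₀ m M hgen hI hm hmN hII

theorem extRep_restrict (hI : ∀ n : N, M * ρ n = ρ ⟨g₀ * n * g₀⁻¹, hN.conj_mem n n.2 g₀⟩ * M)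
    (hm : ∀ k : ℕ, g₀ ^ k ∈ N → m ∣ k) (hmN : g₀ ^ m ∈ N)
    (hII : M ^ m = ρ ⟨g₀ ^ m, hmN⟩) (n : N) :
    extRep N hN ρ g₀ m M hgen hI hm hmN hII (n : G) = ρ n := by
  have := extFun_eq N ρ g₀ m M hgen hm hmN hII 0 n
  rw [pow_zero, one_mul, pow_zero, one_mul] at this
  exact this

end construction


/-- Composition with a group isomorphism preserves irreducibility. -/
theorem isIrreducible_comp_mulEquiv {H H' : Type*} [Group H] [Group H'] (τ : Representation ℂ H V)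
    (e : H' ≃* H) [τ.IsIrreducible] :
    Representation.IsIrreducible (MonoidHom.comp τ e.toMonoidHom : Representation ℂ H' V) := by
  refine { exists_pair_ne := ⟨⊥, ⊤, ?_⟩, eq_bot_or_eq_top := ?_ }
  · intro hbt
    have h1 : (⊥ : Subrepresentation τ) = ⊤ := by
      apply Subrepresentation.toSubmodule_injective
      have h2 := congrArg Subrepresentation.toSubmodule hbt
      exact h2
    exact bot_ne_top h1
  · intro a
    let b : Subrepresentation τ := ⟨a.toSubmodule, fun n v hv => by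
      have := a.apply_mem_toSubmodule (e.symm n) hv
      simpa using this⟩
    rcases eq_bot_or_eq_top b with hb | hb
    · left
      apply Subrepresentation.toSubmodule_injective
      have h2 := congrArg Subrepresentation.toSubmodule hb
      exact h2
    · right
      apply Subrepresentation.toSubmodule_injective
      have h2 := congrArg Subrepresentation.toSubmodule hb
      exact h2

/-- **Extension over a cyclic quotient.** -/
theorem exists_extension_of_cyclic [Finite G] (N : Subgroup G) (hN : N.Normal)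
    (hcyc : IsCyclic (G ⧸ N)) [FiniteDimensional ℂ V] (ρ : Representation ℂ N V)
    [ρ.IsIrreducible]
    (hinv : ∀ (g : G) (n : N),
      ρ.character ⟨g * n * g⁻¹, hN.conj_mem n n.2 g⟩ = ρ.character n) :
    ∃ σ : Representation ℂ G V, ∀ n : N, σ (n : G) = ρ n := by
  obtain ⟨q, hq⟩ := hcyc.exists_generator
  obtain ⟨g₀, rfl⟩ := QuotientGroup.mk_surjective q
  set m := orderOf (g₀ : G ⧸ N) with hmdef
  have hmpos : 0 < m := orderOf_pos _
  have hm : ∀ k : ℕ, g₀ ^ k ∈ N → m ∣ k := by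
    intro k hk
    apply orderOf_dvd_of_pow_eq_one
    rw [← QuotientGroup.mk_pow]
    exact (QuotientGroup.eq_one_iff _).mpr hk
  have hmN : g₀ ^ m ∈ N := by
    rw [← QuotientGroup.eq_one_iff, QuotientGroup.mk_pow]
    exact pow_orderOf_eq_one _
  have hgen : ∀ g : G, ∃ k : ℕ, (g₀ ^ k)⁻¹ * g ∈ N := by
    intro g
    have h1 := hq (g : G ⧸ N)
    rw [← mem_powers_iff_mem_zpowers, Submonoid.mem_powers_iff] at h1
    obtain ⟨k, hk⟩ := h1
    refine ⟨k, ?_⟩
    rw [← QuotientGroup.eq, QuotientGroup.mk_pow]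
    exact hk
  -- the conjugate representation
  let σ₀ : Representation ℂ N V := MonoidHom.comp ρ (MulAut.conjNormal (H := N) g₀).toMonoidHom
  have hσ₀irr : σ₀.IsIrreducible := isIrreducible_comp_mulEquiv ρ (MulAut.conjNormal (H := N) g₀)
  have hchar : σ₀.character = ρ.character := by
    funext n
    exact hinv g₀ n
  have : Fintype N := Fintype.ofFinite N
  obtain ⟨e⟩ := Cfsg.Agent.Lib.Helper3_CharOrtho.nonempty_equiv_of_char_eq σ₀ ρ hchar
  -- e : ρ.Equiv σ₀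
  let M₀ : Module.End ℂ V := e.toLinearMap
  have hI₀ : ∀ n : N, M₀ * ρ n = ρ ⟨g₀ * n * g₀⁻¹, hN.conj_mem n n.2 g₀⟩ * M₀ := by
    intro n
    exact e.toIntertwiningMap.isIntertwining' n
  have hM₀inj : Function.Injective M₀ := e.toLinearEquiv.injective
  set u : N := ⟨g₀ ^ m, hmN⟩ with hu
  let B : Module.End ℂ V := ρ u⁻¹ * M₀ ^ m
  have hBcomm : ∀ n : N, B ∘ₗ ρ n = ρ n ∘ₗ B := by
    intro n
    show B * ρ n = ρ n * B
    have h1 := pow_mul_rho N hN ρ g₀ M₀ hI₀ m n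
    have h2 : cjp N hN g₀ m n = u * n * u⁻¹ := by
      ext
      simp [cjp, hu]
    show ρ u⁻¹ * M₀ ^ m * ρ n = ρ n * (ρ u⁻¹ * M₀ ^ m)
    rw [mul_assoc, h1, h2, ← mul_assoc, ← mul_assoc, ← map_mul, ← map_mul]
    congr 2
    group
  obtain ⟨c, hc⟩ := Cfsg.Agent.Lib.Helper78_CentralChar.exists_scalar_of_commute ρ B hBcomm
  have hMm : M₀ ^ m = c • ρ u := by
    have h1 : ρ u * B = M₀ ^ m := by
      show ρ u * (ρ u⁻¹ * M₀ ^ m) = M₀ ^ m
      rw [← mul_assoc, ← map_mul, mul_inv_cancel, map_one, one_mul]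
    rw [← h1, hc]
    ext v
    simp
  have hnt : Nontrivial V := Cfsg.Agent.Lib.Helper78_CentralChar.nontrivial_of_irreducible ρ
  have hc0 : c ≠ 0 := by
    intro h0
    rw [h0, zero_smul] at hMm
    obtain ⟨v, hv⟩ := exists_ne (0 : V)
    have hinj : Function.Injective (M₀ ^ m) := by
      rw [Module.End.coe_pow]
      exact hM₀inj.iterate m
    apply hv
    apply hinj
    rw [hMm]
    simp
  obtain ⟨d, hd⟩ := IsAlgClosed.exists_pow_nat_eq c hmpos
  have hd0 : d ≠ 0 := by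
    intro h0
    rw [h0, zero_pow hmpos.ne'] at hd
    exact hc0 hd.symm
  let M : Module.End ℂ V := d⁻¹ • M₀
  have hI : ∀ n : N, M * ρ n = ρ ⟨g₀ * n * g₀⁻¹, hN.conj_mem n n.2 g₀⟩ * M := by
    intro n
    show (d⁻¹ • M₀) * ρ n = ρ _ * (d⁻¹ • M₀)
    rw [smul_mul_assoc, mul_smul_comm, hI₀ n]
  have hII : M ^ m = ρ ⟨g₀ ^ m, hmN⟩ := by
    show (d⁻¹ • M₀) ^ m = ρ u
    rw [smul_pow, hMm, inv_pow, hd, smul_smul, inv_mul_cancel₀ hc0, one_smul]
  exact ⟨extRep N hN ρ g₀ m M hgen hI hm hmN hII, extRep_restrict N hN ρ g₀ m M hgen hI hm hmN hII⟩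

/-- Character version: an invariant irreducible character of `N ⊴ G` with `G ⧸ N` cyclic extends
to an irreducible character of `G`. -/
theorem exists_irr_extension_of_cyclic [Finite G] (N : Subgroup G) (hN : N.Normal)
    (hcyc : IsCyclic (G ⧸ N)) (ϑ : N → ℂ) (hϑ : Cfsg.IsIrrCharacter N ϑ)
    (hinv : ∀ (g : G) (n : N), ϑ ⟨g * n * g⁻¹, hN.conj_mem (n : G) n.2 g⟩ = ϑ n) :
    ∃ χ : G → ℂ, Cfsg.IsIrrCharacter G χ ∧ ∀ n : N, χ n = ϑ n := by
  obtain ⟨k, ρ, hirr, rfl⟩ := hϑ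
  have := hirr
  obtain ⟨σ, hσ⟩ := exists_extension_of_cyclic N hN hcyc ρ hinv
  have hσirr : σ.IsIrreducible := isIrreducible_of_restrict N ρ σ hσ
  refine ⟨σ.character, Cfsg.Agent.Lib.Helper3_CharBridge.isIrrCharacter_of_rep σ, ?_⟩
  intro n
  show LinearMap.trace ℂ _ (σ n) = LinearMap.trace ℂ _ (ρ n)
  rw [hσ n]

end Cfsg.Agent.Lib.Helper75_ExtendCyclic
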