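import Cfsg.Agent.S0862
import Cfsg.Agent.Lib.Helper75_ExtendCyclic

/-!
# Extension of invariant characters over a solvable quotient with coprime degree (helper75)

`exists_extension_of_solvable` (Isaacs 6.25): `N ⊴ G`, `G ⧸ N` solvable, `ϑ ∈ Irr N` invariant of
degree coprime to `|G : N|`, and `det ϑ` extends to a linear character of `G`.  Then `ϑ` extends.
-/

set_option autoImplicit false
open scoped ComplexConjugate

namespace Cfsg.Agent.Lib.Helper75_ExtendSolvable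

open Cfsg.Agent.Lib.Helper3_CharBridge Cfsg.Agent.Lib.Helper3_CharOrtho
  Cfsg.Agent.Lib.Helper75_Induced Cfsg.Agent.Lib.Helper75_Clifford
  Cfsg.Agent.Lib.Helper75_LinChar Cfsg.Agent.Lib.Helper75_DetChar
  Cfsg.Agent.Lib.Helper75_ExtendCyclic

universe u

theorem exists_normal_cyclic_quotient {G : Type*} [Group G] [Finite G] (N : Subgroup G) [N.Normal]
    (hN : N ≠ ⊤) (hsolv : Group.IsSolvable (G ⧸ N)) :
    ∃ (M : Subgroup G) (_ : M.Normal), N ≤ M ∧ M ≠ ⊤ ∧ IsCyclic (G ⧸ M) := by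
  have hnt : Nontrivial (G ⧸ N) := by
    rw [← not_subsingleton_iff_nontrivial]
    intro h
    apply hN
    exact QuotientGroup.subgroup_eq_top_of_subsingleton N h
  have hlt : commutator (G ⧸ N) < ⊤ := Group.IsSolvable.commutator_lt_top_of_nontrivial (G ⧸ N)
  have hnt2 : Nontrivial (Abelianization (G ⧸ N)) := by
    rw [← not_subsingleton_iff_nontrivial]
    intro h
    apply hlt.ne
    exact QuotientGroup.subgroup_eq_top_of_subsingleton _ h
  obtain ⟨a, ha⟩ := exists_ne (1 : Abelianization (G ⧸ N))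
  have hexp : NeZero (Monoid.exponent (Abelianization (G ⧸ N))) :=
    ⟨Monoid.exponent_ne_zero_of_finite⟩
  obtain ⟨φ, hφ⟩ := CommGroup.exists_apply_ne_one_of_hasEnoughRootsOfUnity
    (Abelianization (G ⧸ N)) ℂ ha
  let f : G →* ℂˣ := φ.comp (Abelianization.of.comp (QuotientGroup.mk' N))
  refine ⟨f.ker, inferInstance, ?_, ?_, ?_⟩
  · intro n hn
    rw [MonoidHom.mem_ker]
    show φ (Abelianization.of ((n : G) : G ⧸ N)) = 1
    rw [(QuotientGroup.eq_one_iff n).mpr hn, map_one, map_one]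
  · intro htop
    obtain ⟨q, rfl⟩ := QuotientGroup.mk_surjective (s := commutator (G ⧸ N)) a
    obtain ⟨g, rfl⟩ := QuotientGroup.mk_surjective q
    apply hφ
    have : g ∈ f.ker := by rw [htop]; trivial
    exact this
  · have e := QuotientGroup.quotientKerEquivRange f
    have hfin : Finite f.range :=
      Finite.of_surjective f.rangeRestrict f.rangeRestrict_surjective
    have : IsCyclic f.range := isCyclic_subgroup_units f.range
    exact isCyclic_of_surjective e.symm e.symm.surjective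

theorem isSolvable_quotient_subgroupOf {G : Type*} [Group G] (N M : Subgroup G) [N.Normal]
    (hsolv : Group.IsSolvable (G ⧸ N)) : Group.IsSolvable (↥M ⧸ N.subgroupOf M) := by
  let f : (↥M ⧸ N.subgroupOf M) →* (G ⧸ N) :=
    QuotientGroup.map (N.subgroupOf M) N M.subtype (le_refl _)
  apply Group.isSolvable_of_isSolvable_injective (f := f)
  rw [injective_iff_map_eq_one]
  intro x hx
  obtain ⟨m, rfl⟩ := QuotientGroup.mk_surjective x
  rw [QuotientGroup.eq_one_iff]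
  have h1 : f (m : ↥M ⧸ N.subgroupOf M) = ((m : G) : G ⧸ N) := rfl
  rw [h1, QuotientGroup.eq_one_iff] at hx
  exact hx

/-- `detChar` commutes with pulling back along a homomorphism. -/
theorem detChar_comp_hom {H G : Type*} [Group H] [Group G] [Finite H] [Finite G] (f : H →* G)
    {χ : G → ℂ} (hχ : Cfsg.IsCharacter G χ) :
    Cfsg.detChar (fun h => χ (f h)) = fun h => Cfsg.detChar χ (f h) := by
  obtain ⟨k, ρ, rfl⟩ := hχ
  let σ : Representation ℂ H (Fin k → ℂ) := MonoidHom.comp ρ f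
  have h1 : (fun h : H => ρ.character (f h)) = σ.character := rfl
  rw [h1, detChar_of_rep, detChar_of_rep]
  rfl

section transport

variable {G : Type*} [Group G] [Finite G] (N M : Subgroup G) [hN : N.Normal] (hNM : N ≤ M)
  (ϑ : N → ℂ)

include hNM in
/-- The hypotheses of the extension problem for `(G, N)` restrict to `(M, N.subgroupOf M)`. -/
theorem transport_hyps (hϑ : Cfsg.IsIrrCharacter N ϑ)
    (hinv : ∀ (g : G) (n : N), ϑ ⟨g * n * g⁻¹, hN.conj_mem (n : G) n.2 g⟩ = ϑ n)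
    (d : ℕ) (hd : ϑ 1 = d) (hcop : Nat.Coprime N.index d)
    (μ : G → ℂ) (hμ : Cfsg.IsCharacter G μ ∧ μ 1 = 1) (hμN : ∀ n : N, μ n = Cfsg.detChar ϑ n) :
    Cfsg.IsIrrCharacter (N.subgroupOf M) (resSubgroupOf N M ϑ) ∧
    (∀ (g : M) (n : N.subgroupOf M), resSubgroupOf N M ϑ
      ⟨g * n * g⁻¹, (inferInstance : (N.subgroupOf M).Normal).conj_mem (n : M) n.2 g⟩ =
        resSubgroupOf N M ϑ n) ∧
    resSubgroupOf N M ϑ 1 = d ∧ Nat.Coprime (N.subgroupOf M).index d ∧
    (Cfsg.IsCharacter M (fun x : M => μ x) ∧ μ ((1 : M) : G) = 1) ∧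
    (∀ n : N.subgroupOf M, μ ((n : M) : G) = Cfsg.detChar (resSubgroupOf N M ϑ) n) := by
  refine ⟨isIrrCharacter_resSubgroupOf N M hNM hϑ, ?_, ?_, ?_, ⟨isCharacter_res M hμ.1, hμ.2⟩, ?_⟩
  · intro g n
    exact hinv (g : G) ⟨((n : M) : G), Subgroup.mem_subgroupOf.mp n.2⟩
  · exact hd
  · have h1 : (N.subgroupOf M).index ∣ N.index := by
      have := Subgroup.relIndex_mul_index hNM
      exact Dvd.intro _ this
    exact Nat.Coprime.coprime_dvd_left h1 hcop
  · intro n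
    rw [resSubgroupOf_eq_comp N M hNM]
    have h1 := detChar_comp_hom (Subgroup.subgroupOfEquivOfLe hNM).toMonoidHom
      (isCharacter_of_isIrrCharacter hϑ)
    have h2 := congrFun h1 n
    simp only [MulEquiv.toMonoidHom_eq_coe, MonoidHom.coe_coe] at h2
    rw [h2, ← hμN]
    rfl

end transport


section step

variable {G : Type*} [Group G] [Finite G]

/-- The canonical extension (with prescribed determinant) to an intermediate normal subgroup is
`G`-invariant. -/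
theorem step (N M : Subgroup G) [hN : N.Normal] [hM : M.Normal] (hNM : N ≤ M)
    (ϑ : N → ℂ) (hϑ : Cfsg.IsIrrCharacter N ϑ)
    (hinv : ∀ (g : G) (n : N), ϑ ⟨g * n * g⁻¹, hN.conj_mem (n : G) n.2 g⟩ = ϑ n)
    (d : ℕ) (hd : ϑ 1 = d) (hcop : Nat.Coprime N.index d)
    (μ : G → ℂ) (hμ : Cfsg.IsCharacter G μ ∧ μ 1 = 1) (hμN : ∀ n : N, μ n = Cfsg.detChar ϑ n)
    (ψ₀ : M → ℂ) (hψ₀ : Cfsg.IsIrrCharacter M ψ₀)
    (hψ₀N : ∀ n : N.subgroupOf M, ψ₀ n = resSubgroupOf N M ϑ n) :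
    ∃ ψ : M → ℂ, Cfsg.IsIrrCharacter M ψ ∧ (∀ n : N, ψ ⟨n, hNM n.2⟩ = ϑ n) ∧
      (∀ (g : G) (x : M), ψ ⟨g * x * g⁻¹, hM.conj_mem (x : G) x.2 g⟩ = ψ x) ∧
      (∀ x : M, Cfsg.detChar ψ x = μ x) := by
  obtain ⟨h1, -, h3, h4, h5, h6⟩ := transport_hyps N M hNM ϑ hϑ hinv d hd hcop μ hμ hμN
  obtain ⟨ψ, ⟨hψirr, hψN, hψdet⟩, huniq⟩ := Cfsg.Agent.S0862.result (N.subgroupOf M)
    (resSubgroupOf N M ϑ) h1 d h3 h4 ⟨ψ₀, hψ₀, hψ₀N⟩ (fun x : M => μ x) h5 h6
  have hμc : Cfsg.IsClassFunction G μ := isClassFunction_of_isCharacter hμ.1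
  refine ⟨ψ, hψirr, ?_, ?_, fun x => congrFun hψdet x⟩
  · intro n
    exact hψN ⟨⟨n, hNM n.2⟩, Subgroup.mem_subgroupOf.mpr n.2⟩
  · intro g x
    have hconj : conjFun M hM ψ g = ψ := by
      apply huniq
      refine ⟨isIrrCharacter_conjFun M hM hψirr g, ?_, ?_⟩
      · intro n
        rw [conjFun_apply]
        have hmem : (⟨g * ((n : M) : G) * g⁻¹, hM.conj_mem _ (n : M).2 g⟩ : M) ∈ N.subgroupOf M :=
          Subgroup.mem_subgroupOf.mpr (hN.conj_mem _ (Subgroup.mem_subgroupOf.mp n.2) g)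
        have h7 := hψN ⟨_, hmem⟩
        rw [h7]
        exact hinv g ⟨((n : M) : G), Subgroup.mem_subgroupOf.mp n.2⟩
      · rw [conjFun_eq_comp]
        have h8 := detChar_comp_hom (MulAut.conjNormal (H := M) g).toMonoidHom
          (isCharacter_of_isIrrCharacter hψirr)
        simp only [MulEquiv.toMonoidHom_eq_coe, MonoidHom.coe_coe] at h8
        rw [h8, hψdet]
        funext x
        exact hμc x g
    exact congrFun hconj x

end step

/-- Induction on the index for the solvable extension theorem. -/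
theorem exists_extension_aux : ∀ (n : ℕ) (G : Type u) [Group G] [Finite G] (N : Subgroup G)
    [hN : N.Normal], N.index = n → Group.IsSolvable (G ⧸ N) → ∀ (ϑ : N → ℂ),
    Cfsg.IsIrrCharacter N ϑ →
    (∀ (g : G) (n : N), ϑ ⟨g * n * g⁻¹, hN.conj_mem (n : G) n.2 g⟩ = ϑ n) →
    ∀ d : ℕ, ϑ 1 = d → Nat.Coprime N.index d →
    ∀ μ : G → ℂ, (Cfsg.IsCharacter G μ ∧ μ 1 = 1) → (∀ n : N, μ n = Cfsg.detChar ϑ n) →
    ∃ χ : G → ℂ, Cfsg.IsIrrCharacter G χ ∧ ∀ n : N, χ n = ϑ n := by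
  intro n
  induction n using Nat.strong_induction_on with
  | _ n ih =>
  intro G _ _ N hN hn hsolv ϑ hϑ hinv d hd hcop μ hμ hμN
  by_cases hNtop : N = ⊤
  · have hsub : Subsingleton (G ⧸ N) := by
      rw [hNtop]
      exact QuotientGroup.subsingleton_quotient_top
    have hcyc : IsCyclic (G ⧸ N) := isCyclic_of_subsingleton
    exact exists_irr_extension_of_cyclic N hN hcyc ϑ hϑ hinv
  · obtain ⟨M, hMn, hNM, hMtop, hcyc⟩ := exists_normal_cyclic_quotient N hNtop hsolv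
    have hlt : (N.subgroupOf M).index < n := by
      have h1 : (N.subgroupOf M).index * M.index = n := by
        rw [← hn]; exact Subgroup.relIndex_mul_index hNM
      have h2 : M.index ≠ 1 := fun h => hMtop (Subgroup.index_eq_one.mp h)
      have h3 : M.index ≠ 0 := Subgroup.index_ne_zero_of_finite
      have h4 : (N.subgroupOf M).index ≠ 0 := Subgroup.index_ne_zero_of_finite
      have h5 : 2 ≤ M.index := by omega
      nlinarith [Nat.pos_of_ne_zero h4]
    obtain ⟨h1, h2, h3, h4, h5, h6⟩ := transport_hyps N M hNM ϑ hϑ hinv d hd hcop μ hμ hμN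
    obtain ⟨ψ₀, hψ₀, hψ₀N⟩ := ih (N.subgroupOf M).index hlt M (N.subgroupOf M) rfl
      (isSolvable_quotient_subgroupOf N M hsolv) (resSubgroupOf N M ϑ) h1 h2 d h3 h4
      (fun x : M => μ x) h5 h6
    obtain ⟨ψ, hψirr, hψN, hψinv, -⟩ :=
      step N M hNM ϑ hϑ hinv d hd hcop μ hμ hμN ψ₀ hψ₀ hψ₀N
    obtain ⟨χ, hχ, hχM⟩ := exists_irr_extension_of_cyclic M hMn hcyc ψ hψirr hψinv
    refine ⟨χ, hχ, fun n => ?_⟩
    rw [← hψN n]
    exact hχM ⟨n, hNM n.2⟩

/-- **Isaacs 6.25**: over a solvable quotient, an invariant irreducible character of degree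
coprime to the index extends as soon as its determinant does. -/
theorem exists_extension_of_solvable {G : Type u} [Group G] [Finite G] (N : Subgroup G)
    [hN : N.Normal] (hsolv : Group.IsSolvable (G ⧸ N)) (ϑ : N → ℂ)
    (hϑ : Cfsg.IsIrrCharacter N ϑ)
    (hinv : ∀ (g : G) (n : N), ϑ ⟨g * n * g⁻¹, hN.conj_mem (n : G) n.2 g⟩ = ϑ n)
    (d : ℕ) (hd : ϑ 1 = d) (hcop : Nat.Coprime N.index d)
    (μ : G → ℂ) (hμ : Cfsg.IsCharacter G μ ∧ μ 1 = 1) (hμN : ∀ n : N, μ n = Cfsg.detChar ϑ n) :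
    ∃ χ : G → ℂ, Cfsg.IsIrrCharacter G χ ∧ ∀ n : N, χ n = ϑ n :=
  exists_extension_aux N.index G N rfl hsolv ϑ hϑ hinv d hd hcop μ hμ hμN

end Cfsg.Agent.Lib.Helper75_ExtendSolvable
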