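import Cfsg.Agent.S0864
import Cfsg.Agent.Lib.Helper75_ExtendSolvable
import Cfsg.Agent.Lib.Helper3_CharDegree

/-!
# Coprime extension over a solvable quotient (helper75)

`exists_extension_of_coprime_solvable` (Isaacs 6.28, solvable-quotient case): `N ⊴ G`, `G ⧸ N`
solvable, `|N|` coprime to `|G : N|`; then every `G`-invariant `ϑ ∈ Irr N` extends to `G`.
-/

set_option autoImplicit false
open scoped ComplexConjugate

namespace Cfsg.Agent.Lib.Helper75_ExtendCoprime

open Cfsg.Agent.Lib.Helper3_CharBridge Cfsg.Agent.Lib.Helper3_CharOrtho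
  Cfsg.Agent.Lib.Helper75_Clifford Cfsg.Agent.Lib.Helper75_LinChar
  Cfsg.Agent.Lib.Helper75_DetChar Cfsg.Agent.Lib.Helper75_ExtendSolvable

universe u

/-- The determinantal character of an invariant character is invariant. -/
theorem detChar_invariant {G : Type*} [Group G] [Finite G] (N : Subgroup G) [hN : N.Normal]
    {ϑ : N → ℂ} (hϑ : Cfsg.IsCharacter N ϑ)
    (hinv : ∀ (g : G) (n : N), ϑ ⟨g * n * g⁻¹, hN.conj_mem (n : G) n.2 g⟩ = ϑ n)
    (g : G) (n : N) :
    Cfsg.detChar ϑ ⟨g * n * g⁻¹, hN.conj_mem (n : G) n.2 g⟩ = Cfsg.detChar ϑ n := by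
  have h1 := detChar_comp_hom (MulAut.conjNormal (H := N) g).toMonoidHom hϑ
  simp only [MulEquiv.toMonoidHom_eq_coe, MonoidHom.coe_coe] at h1
  have h2 : (fun h : N => ϑ ((MulAut.conjNormal (H := N) g) h)) = ϑ := by
    funext n
    exact hinv g n
  rw [h2] at h1
  exact (congrFun h1 n).symm

/-- An invariant linear character of `N ⊴ G` with `|N|` coprime to `|G : N|` extends to `G`. -/
theorem exists_lin_extension_of_coprime {G : Type*} [Group G] [Finite G] (N : Subgroup G)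
    [hN : N.Normal] (hcop : Nat.Coprime (Nat.card N) N.index) (lam : N → ℂ)
    (hlam : Cfsg.IsCharacter N lam ∧ lam 1 = 1)
    (hinv : ∀ (g : G) (n : N), lam ⟨g * n * g⁻¹, hN.conj_mem (n : G) n.2 g⟩ = lam n) :
    ∃ μ : G → ℂ, Cfsg.IsCharacter G μ ∧ μ 1 = 1 ∧ ∀ n : N, μ n = lam n := by
  apply Cfsg.Agent.S0864.result N lam hlam hinv
  intro p hp hpdvd
  have hlin : IsLin N lam := hlam
  have hord : orderOf lam ∣ Nat.card N := by
    apply orderOf_dvd_of_pow_eq_one
    funext n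
    rw [Pi.pow_apply]
    exact hlin.pow_card_eq_one n
  have hpN : p ∣ Nat.card N := hpdvd.trans hord
  refine ⟨N, le_refl N, lam, ?_, ⟨0, ?_⟩, hlam.1, hlam.2, fun n => rfl⟩
  · exact (Nat.Coprime.coprime_dvd_left hpN hcop).symm
  · rw [Subgroup.relIndex_self, pow_zero]

/-- **Coprime extension over a solvable quotient.** -/
theorem exists_extension_of_coprime_solvable {G : Type u} [Group G] [Finite G] (N : Subgroup G)
    [hN : N.Normal] (hsolv : Group.IsSolvable (G ⧸ N))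
    (hcop : Nat.Coprime (Nat.card N) N.index) (ϑ : N → ℂ) (hϑ : Cfsg.IsIrrCharacter N ϑ)
    (hinv : ∀ (g : G) (n : N), ϑ ⟨g * n * g⁻¹, hN.conj_mem (n : G) n.2 g⟩ = ϑ n) :
    ∃ χ : G → ℂ, Cfsg.IsIrrCharacter G χ ∧ ∀ n : N, χ n = ϑ n := by
  have hϑc : Cfsg.IsCharacter N ϑ := isCharacter_of_isIrrCharacter hϑ
  obtain ⟨μ, hμ, hμ1, hμN⟩ := exists_lin_extension_of_coprime N hcop (Cfsg.detChar ϑ)
    (isCharacter_detChar hϑc) (detChar_invariant N hϑc hinv)
  obtain ⟨d, ρ, hirr, hρ⟩ := hϑ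
  have := hirr
  have hd : ϑ 1 = d := by
    rw [← hρ, Representation.char_one, Module.finrank_fintype_fun_eq_card, Fintype.card_fin]
  have hdvd : d ∣ Nat.card N := by
    have : Fintype N := Fintype.ofFinite N
    have := Cfsg.Agent.Lib.Helper3_CharDegree.finrank_dvd_card ρ
    rwa [Module.finrank_fintype_fun_eq_card, Fintype.card_fin] at this
  have hcop' : Nat.Coprime N.index d := (Nat.Coprime.coprime_dvd_left hdvd hcop).symm
  exact exists_extension_of_solvable N hsolv ϑ ⟨d, ρ, hirr, hρ⟩ hinv d hd hcop' μ ⟨hμ, hμ1⟩ hμN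

end Cfsg.Agent.Lib.Helper75_ExtendCoprime
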