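import Mathlib
import Cfsg.Agent.Lib.Helper74_LinAct
import Cfsg.Agent.Lib.Helper74_GoingUp
import Cfsg.Agent.Lib.Helper75_Clifford
import Cfsg.Agent.Lib.Helper75_CharArith
import Cfsg.Agent.Lib.Helper80_CharBasic
import Cfsg.Agent.Lib.Helper75_ExtendCyclic
import Cfsg.Agent.Lib.Helper75_ExtendSolvable
import Cfsg.Agent.Lib.Helper75_ExtendCoprime
import Cfsg.Agent.Lib.Helper75_Gallagher
import Cfsg.Agent.Lib.Helper75_DetChar
import Cfsg.Agent.Lib.Helper75_LinChar
import Cfsg.Agent.S0862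
import Cfsg.Agent.S0863
import Cfsg.Agent.S0864

/-!
# Characters and normal subgroups with `p`-group quotient (helper74)

* `sum_stable_modEq` : weighted fixed point congruence for `p`-group actions;
* `cjIrr`, `cjAction` : conjugation action of `G` on `Irr(N)` for `N ⊲ G`;
* `exists_invariant_constituent` : `G/M` a `p`-group, `p ∤ χ(1)` ⟹ `χ_M` has a `G`-invariant
  irreducible constituent;
* `irr_restrict` : `G/N` a `p`-group, `p ∤ χ(1)` ⟹ `χ_N` irreducible;
* `ext_unique`, `ext_exists` : extensions with determinantal order prime to `p` (Isaacs 6.28 for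
  `p`-group quotients).
-/

set_option autoImplicit false

namespace Cfsg.Agent.Lib.Helper74_PQuot

open Cfsg
open Cfsg.Agent.Lib.Helper74_LinAct Cfsg.Agent.Lib.Helper74_GoingUp
open scoped ComplexConjugate

/-- weighted fixed point congruence for a `p`-group acting on a type -/
theorem sum_stable_modEq {A X : Type*} [Group A] [MulAction A X] [DecidableEq X]
    {p : ℕ} [Fact p.Prime] (hA : IsPGroup p A) (T : Finset X)
    (hT : ∀ a : A, ∀ x ∈ T, a • x ∈ T) [DecidablePred fun x : X => ∀ a : A, a • x = x]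
    (f : X → ℕ) (hf : ∀ (a : A) (x : X), f (a • x) = f x) :
    ∑ x ∈ T, f x ≡ ∑ x ∈ T.filter (fun x => ∀ a : A, a • x = x), f x [MOD p] := by
  classical
  have h1 : ∑ x ∈ T, f x = ∑ d ∈ T.image f, d * (T.filter (fun x => f x = d)).card := by
    rw [← Finset.sum_fiberwise_of_maps_to (g := f) (t := T.image f)
      (fun x hx => Finset.mem_image_of_mem f hx)]
    apply Finset.sum_congr rfl
    intro d _
    rw [Finset.sum_congr rfl (fun x hx => (Finset.mem_filter.mp hx).2), Finset.sum_const,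
      smul_eq_mul, mul_comm]
  have h2 : ∑ x ∈ T.filter (fun x => ∀ a : A, a • x = x), f x =
      ∑ d ∈ T.image f, d * ((T.filter (fun x => ∀ a : A, a • x = x)).filter
        (fun x => f x = d)).card := by
    rw [← Finset.sum_fiberwise_of_maps_to (g := f) (t := T.image f)
      (fun x hx => Finset.mem_image_of_mem f (Finset.mem_filter.mp hx).1)]
    apply Finset.sum_congr rfl
    intro d _
    rw [Finset.sum_congr rfl (fun x hx => (Finset.mem_filter.mp hx).2), Finset.sum_const,
      smul_eq_mul, mul_comm]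
  rw [h1, h2]
  apply Nat.ModEq.sum
  intro d _
  apply Nat.ModEq.mul_left
  have h3 := card_stable_modEq hA (T.filter (fun x => f x = d)) (by
    intro a x hx
    rw [Finset.mem_filter] at hx ⊢
    exact ⟨hT a x hx.1, by rw [hf]; exact hx.2⟩)
  rw [Finset.filter_comm] at h3
  convert h3 using 2

section ConjAction

variable {G : Type*} [Group G]

/-- conjugation action of `G` on the irreducible characters of a normal subgroup -/
noncomputable def cjIrr (N : Subgroup G) [hN : N.Normal] [Finite N] (g : G)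
    (θ : IrrCharacter N) : IrrCharacter N :=
  ⟨Helper75_Clifford.conjFun N hN (θ : N → ℂ) g⁻¹,
    Helper75_Clifford.isIrrCharacter_conjFun N hN θ.2 g⁻¹⟩

theorem cjIrr_apply (N : Subgroup G) [hN : N.Normal] [Finite N] (g : G) (θ : IrrCharacter N)
    (n : N) : (cjIrr N g θ : N → ℂ) n =
      (θ : N → ℂ) ⟨g⁻¹ * n * g⁻¹⁻¹, hN.conj_mem n n.2 g⁻¹⟩ := rfl

/-- the conjugation action as a `MulAction` -/
@[reducible] noncomputable def cjAction (N : Subgroup G) [hN : N.Normal] [Finite N] :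
    MulAction G (IrrCharacter N) where
  smul g θ := cjIrr N g θ
  one_smul θ := by
    apply Subtype.ext
    show Helper75_Clifford.conjFun N hN (θ : N → ℂ) (1 : G)⁻¹ = θ
    rw [inv_one, Helper75_Clifford.conjFun_one]
  mul_smul a b θ := by
    apply Subtype.ext
    show Helper75_Clifford.conjFun N hN (θ : N → ℂ) (a * b)⁻¹ =
      Helper75_Clifford.conjFun N hN (Helper75_Clifford.conjFun N hN (θ : N → ℂ) b⁻¹) a⁻¹
    rw [Helper75_Clifford.conjFun_conjFun, mul_inv_rev]

theorem cjIrr_eq_iff (N : Subgroup G) [hN : N.Normal] [Finite N] (θ : IrrCharacter N) :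
    (∀ g : G, cjIrr N g θ = θ) ↔
      ∀ (g : G) (n : N), (θ : N → ℂ) ⟨g * n * g⁻¹, hN.conj_mem n n.2 g⟩ = (θ : N → ℂ) n := by
  constructor
  · intro h g n
    have := congrFun (congrArg Subtype.val (h g⁻¹)) n
    rw [cjIrr_apply] at this
    rw [← this]
    refine congrArg _ (Subtype.ext ?_)
    simp
  · intro h g
    apply Subtype.ext
    funext n
    rw [cjIrr_apply]
    exact h g⁻¹ n

end ConjAction



section LemmaC

variable {G : Type*} [Group G] [Finite G]

theorem sylow_sup_eq_top {p : ℕ} [Fact p.Prime] (M : Subgroup G) [M.Normal]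
    (hM : IsPGroup p (G ⧸ M)) (P : Sylow p G) : (P : Subgroup G) ⊔ M = ⊤ := by
  have hp : p.Prime := Fact.out
  rw [← Subgroup.index_eq_one]
  have h1 : ((P : Subgroup G) ⊔ M).index ∣ (P : Subgroup G).index :=
    Subgroup.index_dvd_of_le le_sup_left
  have h2 : ((P : Subgroup G) ⊔ M).index ∣ M.index := Subgroup.index_dvd_of_le le_sup_right
  obtain ⟨k, hk⟩ := IsPGroup.iff_card.mp hM
  have h3 : M.index = p ^ k := hk
  rw [h3] at h2
  have hcop : Nat.Coprime ((P : Subgroup G).index) (p ^ k) :=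
    Nat.Coprime.pow_right k
      (Nat.Coprime.symm ((Nat.Prime.coprime_iff_not_dvd hp).mpr P.not_dvd_index))
  exact Nat.eq_one_of_dvd_coprimes hcop h1 h2

/-- If `G/M` is a `p`-group and `p ∤ χ(1)`, then `χ_M` has a `G`-invariant irreducible
constituent. -/
theorem exists_invariant_constituent {p : ℕ} [Fact p.Prime] (M : Subgroup G) [hMn : M.Normal]
    [Fintype M] (hM : IsPGroup p (G ⧸ M)) (χ : IrrCharacter G) (dχ : ℕ) (hdχ : (χ : G → ℂ) 1 = dχ)
    (hp : ¬ p ∣ dχ) :
    ∃ θ : IrrCharacter M,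
      (∀ (g : G) (n : M), (θ : M → ℂ) ⟨g * n * g⁻¹, hMn.conj_mem n n.2 g⟩ = (θ : M → ℂ) n) ∧
      classInner (fun n : M => (χ : G → ℂ) n) (θ : M → ℂ) ≠ 0 := by
  classical
  have := Fintype.ofFinite G
  obtain ⟨P⟩ : Nonempty (Sylow p G) := inferInstance
  have hχc : IsCharacter G (χ : G → ℂ) := Helper3_CharBridge.isCharacter_of_isIrrCharacter χ.2
  have hχcf : IsClassFunction G (χ : G → ℂ) :=
    Helper3_CharBridge.isClassFunction_of_isIrrCharacter χ.2
  have hres : IsCharacter M (fun n : M => (χ : G → ℂ) n) :=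
    Helper75_CharArith.isCharacter_restrict M hχc
  obtain ⟨m, hm, hsum⟩ := Helper75_CharArith.exists_multiplicities hres
  obtain ⟨d, hd⟩ : ∃ d : IrrCharacter M → ℕ, ∀ ψ : IrrCharacter M, (ψ : M → ℂ) 1 = d ψ := by
    have := fun ψ : IrrCharacter M => Helper80_CharBasic.irr_apply_one ψ
    choose d _ hd using this
    exact ⟨d, hd⟩
  -- the action
  let act : MulAction G (IrrCharacter M) := cjAction M
  have hsmul : ∀ (g : G) (θ : IrrCharacter M), g • θ = cjIrr M g θ := fun _ _ => rfl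
  have hm_inv : ∀ (g : G) (θ : IrrCharacter M), m (g • θ) = m θ := by
    intro g θ
    have h1 := Helper75_Clifford.classInner_res_conjFun M hMn hχcf (θ : M → ℂ) g⁻¹
    have h2 : (m (g • θ) : ℂ) = (m θ : ℂ) := by
      rw [← hm, ← hm]
      exact h1
    exact_mod_cast h2
  have hd_inv : ∀ (g : G) (θ : IrrCharacter M), d (g • θ) = d θ := by
    intro g θ
    have h2 : (d (g • θ) : ℂ) = (d θ : ℂ) := by
      rw [← hd, ← hd, hsmul, cjIrr_apply]
      refine congrArg _ (Subtype.ext ?_)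
      simp
    exact_mod_cast h2
  have hdeg : dχ = ∑ θ : IrrCharacter M, m θ * d θ := by
    have h1 : (χ : G → ℂ) ((1 : M) : G) = ∑ θ : IrrCharacter M, (m θ : ℂ) * (θ : M → ℂ) 1 := by
      have := congrFun hsum 1
      simp only [Finset.sum_apply, Pi.smul_apply, smul_eq_mul] at this
      exact this
    rw [Subgroup.coe_one] at h1
    have h2 : ((dχ : ℕ) : ℂ) = ((∑ θ : IrrCharacter M, m θ * d θ : ℕ) : ℂ) := by
      push_cast
      rw [← hdχ, h1]
      apply Finset.sum_congr rfl
      intro θ _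
      rw [hd]
    exact_mod_cast h2
  let Q : Subgroup G := (P : Subgroup G)
  have hQp : IsPGroup p Q := P.isPGroup'
  have hmod := sum_stable_modEq (A := Q) (X := IrrCharacter M) hQp Finset.univ
    (fun _ _ _ => Finset.mem_univ _) (fun θ => m θ * d θ)
    (fun a θ => by
      show m ((a : G) • θ) * d ((a : G) • θ) = m θ * d θ
      rw [hm_inv, hd_inv])
  rw [← hdeg] at hmod
  -- a fixed point with nonzero multiplicity
  have hex : ∃ θ : IrrCharacter M, (∀ a : Q, a • θ = θ) ∧ m θ ≠ 0 := by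
    by_contra hcon
    push Not at hcon
    have hzero : ∑ x ∈ Finset.univ.filter (fun x : IrrCharacter M => ∀ a : Q, a • x = x),
        m x * d x = 0 := by
      apply Finset.sum_eq_zero
      intro θ hθ
      rw [Finset.mem_filter] at hθ
      rw [hcon θ hθ.2, zero_mul]
    rw [hzero] at hmod
    exact hp ((Nat.modEq_zero_iff_dvd).mp hmod)
  obtain ⟨θ, hθP, hθm⟩ := hex
  refine ⟨θ, ?_, ?_⟩
  · rw [← cjIrr_eq_iff]
    have hstab : (⊤ : Subgroup G) ≤ MulAction.stabilizer G θ := by
      rw [← sylow_sup_eq_top M hM P]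
      apply sup_le
      · intro g hg
        rw [MulAction.mem_stabilizer_iff]
        exact hθP ⟨g, hg⟩
      · intro g hg
        rw [MulAction.mem_stabilizer_iff, hsmul]
        apply Subtype.ext
        show Helper75_Clifford.conjFun M hMn (θ : M → ℂ) g⁻¹ = θ
        exact Helper75_Clifford.conjFun_of_mem M hMn
          (Helper3_CharBridge.isClassFunction_of_isIrrCharacter θ.2) (⟨g, hg⟩⁻¹ : M)
    intro g
    have := hstab (Subgroup.mem_top g)
    rw [MulAction.mem_stabilizer_iff, hsmul] at this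
    exact this
  · show classInner (fun n : M => (χ : G → ℂ) n) (θ : M → ℂ) ≠ 0
    rw [hm θ]
    exact_mod_cast hθm

/-- an irreducible character of `M ⊲ G` (with `G/M` a `p`-group) is `G`-invariant as soon as it is
fixed by a Sylow `p`-subgroup -/
theorem sylow_fixed_iff {p : ℕ} [Fact p.Prime] (M : Subgroup G) [hMn : M.Normal]
    (hM : IsPGroup p (G ⧸ M)) (P : Sylow p G) (θ : IrrCharacter M) :
    (∀ a : (P : Subgroup G), cjIrr M (a : G) θ = θ) ↔
      ∀ (g : G) (n : M), (θ : M → ℂ) ⟨g * n * g⁻¹, hMn.conj_mem n n.2 g⟩ = (θ : M → ℂ) n := by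
  rw [← cjIrr_eq_iff]
  constructor
  · intro hθP
    let act : MulAction G (IrrCharacter M) := cjAction M
    have hsmul : ∀ (g : G) (θ : IrrCharacter M), g • θ = cjIrr M g θ := fun _ _ => rfl
    have hstab : (⊤ : Subgroup G) ≤ MulAction.stabilizer G θ := by
      rw [← sylow_sup_eq_top M hM P]
      apply sup_le
      · intro g hg
        rw [MulAction.mem_stabilizer_iff]
        exact hθP ⟨g, hg⟩
      · intro g hg
        rw [MulAction.mem_stabilizer_iff, hsmul]
        apply Subtype.ext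
        show Helper75_Clifford.conjFun M hMn (θ : M → ℂ) g⁻¹ = θ
        exact Helper75_Clifford.conjFun_of_mem M hMn
          (Helper3_CharBridge.isClassFunction_of_isIrrCharacter θ.2) (⟨g, hg⟩⁻¹ : M)
    intro g
    have := hstab (Subgroup.mem_top g)
    rw [MulAction.mem_stabilizer_iff, hsmul] at this
    exact this
  · intro h a
    exact h a

end LemmaC

section LemmaR

universe u

/-- restriction to a normal subgroup with cyclic `p`-group quotient -/
theorem irr_restrict_of_cyclic {G : Type*} [Group G] [Finite G] {p : ℕ} [Fact p.Prime]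
    (M : Subgroup G) [hMn : M.Normal] (hM : IsPGroup p (G ⧸ M)) (hcyc : IsCyclic (G ⧸ M))
    (χ : IrrCharacter G) (dχ : ℕ) (hdχ : (χ : G → ℂ) 1 = dχ) (hp : ¬ p ∣ dχ) :
    IsIrrCharacter M (fun n : M => (χ : G → ℂ) n) := by
  classical
  have := Fintype.ofFinite G
  have := Fintype.ofFinite M
  obtain ⟨θ, hθinv, hθ⟩ := exists_invariant_constituent M hM χ dχ hdχ hp
  obtain ⟨η, hη, hηres⟩ :=
    Helper75_ExtendCyclic.exists_irr_extension_of_cyclic M hMn hcyc (θ : M → ℂ) θ.2 hθinv
  have hcomm : ∀ a b : G ⧸ M, a * b = b * a := fun a b => mul_comm' a b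
  have hηθ : classInner (fun n : M => ((⟨η, hη⟩ : IrrCharacter G) : G → ℂ) n) (θ : M → ℂ) ≠ 0 := by
    have e : (fun n : M => ((⟨η, hη⟩ : IrrCharacter G) : G → ℂ) n) = (θ : M → ℂ) :=
      funext hηres
    rw [e, Helper3_CharOrtho.classInner_self_of_isIrrCharacter θ.2]
    exact one_ne_zero
  obtain ⟨c, hc⟩ := exists_twist_eq M hcomm θ ⟨η, hη⟩ χ hηθ hθ
  have e : (fun n : M => (χ : G → ℂ) n) = (θ : M → ℂ) := by
    funext n
    rw [← hc, twist_apply, infl_of_mem M c n.2]
    simp only [Units.val_one, one_mul]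
    exact hηres n
  rw [e]
  exact θ.2

theorem isPGroup_quotient_subgroupOf {G : Type*} [Group G] {p : ℕ} (N M : Subgroup G)
    [N.Normal] (hN : IsPGroup p (G ⧸ N)) : IsPGroup p (↥M ⧸ N.subgroupOf M) := by
  intro x
  obtain ⟨m, rfl⟩ := QuotientGroup.mk_surjective x
  obtain ⟨j, hj⟩ := hN (QuotientGroup.mk (m : G))
  refine ⟨j, ?_⟩
  rw [← QuotientGroup.mk_pow, QuotientGroup.eq_one_iff] at hj ⊢
  rw [Subgroup.mem_subgroupOf]
  exact_mod_cast hj

theorem isPGroup_quotient_of_le {G : Type*} [Group G] {p : ℕ} (N M : Subgroup G)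
    [N.Normal] [M.Normal] (hNM : N ≤ M) (hN : IsPGroup p (G ⧸ N)) : IsPGroup p (G ⧸ M) := by
  intro x
  obtain ⟨g, rfl⟩ := QuotientGroup.mk_surjective x
  obtain ⟨j, hj⟩ := hN (QuotientGroup.mk g)
  refine ⟨j, ?_⟩
  rw [← QuotientGroup.mk_pow, QuotientGroup.eq_one_iff] at hj ⊢
  exact hNM hj

/-- **Restriction to a normal subgroup with `p`-group quotient** of an irreducible character of
degree prime to `p` is irreducible. -/
theorem irr_restrict_aux {p : ℕ} [Fact p.Prime] : ∀ (k : ℕ) (G : Type u) [Group G] [Finite G]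
    (N : Subgroup G) [N.Normal], N.index = k → IsPGroup p (G ⧸ N) →
    ∀ (χ : IrrCharacter G) (dχ : ℕ), (χ : G → ℂ) 1 = dχ → ¬ p ∣ dχ →
    IsIrrCharacter N (fun n : N => (χ : G → ℂ) n) := by
  intro k
  induction k using Nat.strong_induction_on with
  | _ k ih =>
    intro G _ _ N hNn hk hN χ dχ hdχ hp
    by_cases htop : N = ⊤
    · subst htop
      exact isIrr_comp_equiv (Subgroup.topEquiv : (⊤ : Subgroup G) ≃* G) χ.2
    · have hnil : Group.IsNilpotent (G ⧸ N) := hN.isNilpotent
      have hsolv : Group.IsSolvable (G ⧸ N) := inferInstance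
      obtain ⟨M, hMn, hNM, hMtop, hcyc⟩ :=
        Helper75_ExtendSolvable.exists_normal_cyclic_quotient N htop hsolv
      have hM : IsPGroup p (G ⧸ M) := isPGroup_quotient_of_le N M hNM hN
      have hχM := irr_restrict_of_cyclic M hM hcyc χ dχ hdχ hp
      -- induction inside `M`
      have hNsub : (N.subgroupOf M).Normal := inferInstance
      have hidx : (N.subgroupOf M).index < k := by
        have h1 : N.relIndex M * M.index = N.index := Subgroup.relIndex_mul_index hNM
        have h2 : M.index ≠ 1 := fun h => hMtop (Subgroup.index_eq_one.mp h)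
        have h3 : M.index ≠ 0 := Subgroup.index_ne_zero_of_finite
        have h4 : N.relIndex M ≠ 0 := by
          intro h
          rw [h, zero_mul] at h1
          exact (Subgroup.index_ne_zero_of_finite (H := N)) h1.symm
        rw [← hk, ← h1]
        show N.relIndex M < N.relIndex M * M.index
        have : 2 ≤ M.index := by omega
        nlinarith [Nat.pos_of_ne_zero h4]
      have hres := ih _ hidx (↥M) (N.subgroupOf M) rfl (isPGroup_quotient_subgroupOf N M hN)
        ⟨fun m : M => (χ : G → ℂ) m, hχM⟩ dχ (by simpa using hdχ) hp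
      let e : N.subgroupOf M ≃* N := Subgroup.subgroupOfEquivOfLe hNM
      exact isIrr_comp_equiv e.symm hres

theorem irr_restrict {G : Type u} [Group G] [Finite G] {p : ℕ} [Fact p.Prime] (N : Subgroup G)
    [N.Normal] (hN : IsPGroup p (G ⧸ N)) (χ : IrrCharacter G) (dχ : ℕ)
    (hdχ : (χ : G → ℂ) 1 = dχ) (hp : ¬ p ∣ dχ) :
    IsIrrCharacter N (fun n : N => (χ : G → ℂ) n) :=
  irr_restrict_aux N.index G N rfl hN χ dχ hdχ hp

end LemmaR

section LemmaE

open Cfsg.Agent.Lib.Helper75_LinChar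

variable {G : Type*} [Group G] [Finite G]

/-- uniqueness of the extension with determinantal order prime to `p` -/
theorem ext_unique {p : ℕ} [Fact p.Prime] (N : Subgroup G) [hNn : N.Normal]
    (hN : IsPGroup p (G ⧸ N)) {χ χ' : G → ℂ} (hχ : IsIrrCharacter G χ)
    (hχ' : IsIrrCharacter G χ') (hχN : IsIrrCharacter N (fun n : N => χ n))
    (hres : ∀ n : N, χ' n = χ n) (d : ℕ) (hd : χ 1 = d) (hpd : ¬ p ∣ d)
    (ho : ¬ p ∣ orderOf (detChar χ)) (ho' : ¬ p ∣ orderOf (detChar χ')) : χ' = χ := by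
  classical
  have hp : p.Prime := Fact.out
  have := Fintype.ofFinite G
  obtain ⟨β, hβ, hβN, hχ'eq⟩ := Helper75_Gallagher.exists_lin_of_extensions N hχ hχ' hχN hres
  have hχc : IsCharacter G χ := Helper3_CharBridge.isCharacter_of_isIrrCharacter hχ
  have hdet : detChar χ' = β ^ d * detChar χ := by
    rw [hχ'eq]
    exact Helper75_DetChar.detChar_linear_mul hβ.1 hβ.2 hχc d hd
  set o := orderOf (detChar χ) with ho_def
  set o' := orderOf (detChar χ') with ho'_def
  have h1 : (detChar χ) ^ (o * o') = 1 := by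
    rw [pow_mul, pow_orderOf_eq_one, one_pow]
  have h2 : (detChar χ') ^ (o * o') = 1 := by
    rw [mul_comm, pow_mul, pow_orderOf_eq_one, one_pow]
  have h3 : (β ^ d) ^ (o * o') = 1 := by
    rw [hdet, mul_pow, h1, mul_one] at h2
    exact h2
  obtain ⟨k, hk⟩ := IsPGroup.iff_card.mp hN
  have hidx : N.index = p ^ k := hk
  have hcop : Nat.Coprime (d * (o * o')) (p ^ k) := by
    apply Nat.Coprime.pow_right
    apply Nat.Coprime.symm
    rw [Nat.Prime.coprime_iff_not_dvd hp]
    intro hdvd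
    rcases (Nat.Prime.dvd_mul hp).mp hdvd with h | h
    · exact hpd h
    · rcases (Nat.Prime.dvd_mul hp).mp h with h | h
      · exact ho h
      · exact ho' h
  have hβ1 : ∀ g : G, β g = 1 := by
    intro g
    have e1 : β g ^ (d * (o * o')) = 1 := by
      have := congrFun h3 g
      simpa [Pi.pow_apply, pow_mul] using this
    have e2 : β g ^ (p ^ k) = 1 := by
      rw [← hidx]
      exact hβ.pow_index_eq_one N hβN g
    have := pow_gcd_eq_one.mpr ⟨e1, e2⟩
    rwa [hcop, pow_one] at this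
  rw [hχ'eq]
  funext g
  rw [Pi.mul_apply, hβ1 g, one_mul]

/-- existence of an extension with determinantal order prime to `p` -/
theorem ext_exists {p : ℕ} [Fact p.Prime] (N : Subgroup G) [hNn : N.Normal]
    (hN : IsPGroup p (G ⧸ N)) (a r : ℕ) (hcard : Nat.card G = p ^ a * r) (hr : ¬ p ∣ r)
    (hlin : ∀ lam : N → ℂ, IsLin N lam → ∀ n : N, lam n ^ r = 1)
    (ψ : N → ℂ) (hψ : IsIrrCharacter N ψ)
    (hinv : ∀ (g : G) (n : N), ψ ⟨g * n * g⁻¹, hNn.conj_mem (n : G) n.2 g⟩ = ψ n)
    (d : ℕ) (hd : ψ 1 = d) (hpd : ¬ p ∣ d) :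
    ∃ χ : G → ℂ, IsIrrCharacter G χ ∧ (∀ n : N, χ n = ψ n) ∧ ¬ p ∣ orderOf (detChar χ) := by
  classical
  have hp : p.Prime := Fact.out
  have hψc : IsCharacter N ψ := Helper3_CharBridge.isCharacter_of_isIrrCharacter hψ
  have hlam : IsLin N (detChar ψ) := Helper75_DetChar.isCharacter_detChar hψc
  have hlaminv := Helper75_ExtendCoprime.detChar_invariant N hψc hinv
  obtain ⟨k, hk⟩ := IsPGroup.iff_card.mp hN
  have hidx : N.index = p ^ k := hk
  have hlamr : (detChar ψ) ^ r = 1 := by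
    funext n
    rw [Pi.pow_apply]
    exact hlin _ hlam n
  -- extend the determinant
  obtain ⟨μ₀, hμ₀c, hμ₀1, hμ₀N⟩ := Cfsg.Agent.S0864.result N (detChar ψ) hlam hlaminv (by
    intro q hq hqdvd
    have hqr : q ∣ r := hqdvd.trans (orderOf_dvd_of_pow_eq_one hlamr)
    have hqp : q ≠ p := fun h => hr (h ▸ hqr)
    refine ⟨N, le_refl N, detChar ψ, ?_, ⟨0, ?_⟩, hlam.1, hlam.2, fun n => rfl⟩
    · rw [hidx]
      exact Nat.Coprime.pow_left k ((Nat.coprime_primes hp hq).mpr (Ne.symm hqp))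
    · rw [Subgroup.relIndex_self, pow_zero])
  have hμ₀ : IsLin G μ₀ := ⟨hμ₀c, hμ₀1⟩
  -- correct the order
  have hcop : Nat.Coprime (p ^ a) r :=
    Nat.Coprime.pow_left a ((Nat.Prime.coprime_iff_not_dvd hp).mpr hr)
  obtain ⟨t, j, htj⟩ : ∃ t j : ℕ, p ^ a * t = 1 + r * j := by
    by_cases hr1 : r = 1
    · refine ⟨1, p ^ a - 1, ?_⟩
      have : 1 ≤ p ^ a := Nat.one_le_pow _ _ hp.pos
      rw [hr1]
      omega
    · have hr0 : r ≠ 0 := fun h => hr (h ▸ dvd_zero p)
      have hr2 : 1 < r := by omega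
      obtain ⟨t, -, ht⟩ := Nat.exists_mul_mod_eq_one_of_coprime hcop hr2
      refine ⟨t, p ^ a * t / r, ?_⟩
      have := Nat.div_add_mod (p ^ a * t) r
      omega
  have hμ : IsLin G (μ₀ ^ (p ^ a * t)) := hμ₀.pow _
  have hμN : ∀ n : N, (μ₀ ^ (p ^ a * t)) n = detChar ψ n := by
    intro n
    rw [Pi.pow_apply, hμ₀N n, htj, pow_add, pow_one, pow_mul, hlin _ hlam n, one_pow, mul_one]
  have hμr : (μ₀ ^ (p ^ a * t)) ^ r = 1 := by
    funext g
    rw [Pi.pow_apply, Pi.pow_apply, ← pow_mul]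
    have : p ^ a * t * r = Nat.card G * t := by rw [hcard]; ring
    rw [this, pow_mul, hμ₀.pow_card_eq_one g, one_pow]
    rfl
  -- extend `ψ`
  have hsolv : Group.IsSolvable (G ⧸ N) := by
    have : Group.IsNilpotent (G ⧸ N) := hN.isNilpotent
    infer_instance
  have hcopd : Nat.Coprime N.index d := by
    rw [hidx]
    exact Nat.Coprime.pow_left k ((Nat.Prime.coprime_iff_not_dvd hp).mpr hpd)
  have hext := (Cfsg.Agent.S0863.result N hsolv ψ hψ hinv d hd hcopd).mpr
    ⟨μ₀ ^ (p ^ a * t), hμ.1, hμ.2, hμN⟩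
  obtain ⟨χ, ⟨hχ, hχN, hχdet⟩, -⟩ := Cfsg.Agent.S0862.result N ψ hψ d hd hcopd hext
    (μ₀ ^ (p ^ a * t)) hμ hμN
  refine ⟨χ, hχ, hχN, ?_⟩
  rw [hχdet]
  intro hdvd
  exact hr (hdvd.trans (orderOf_dvd_of_pow_eq_one hμr))

end LemmaE



end Cfsg.Agent.Lib.Helper74_PQuot
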