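import Mathlib

/-!
# A step lemma for solvable groups (helper75)

* `exists_normal_pgroup`: a nontrivial finite solvable group has a nontrivial normal `p`-subgroup.
* `exists_step`: if `A < S` with `A` normal in the solvable group `S` (inside a finite ambient
  group), there are `A < B ≤ S` with `B` normal in `S`, a prime `p`, and a `p`-subgroup `P ≤ B`
  with `B = A P`.
-/

set_option autoImplicit false

namespace Cfsg.Agent.Lib.Helper75_SolvStep

open scoped commutatorElement

/-- A nontrivial finite solvable group has a nontrivial normal `p`-subgroup for some prime `p`. -/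
theorem exists_normal_pgroup (Q : Type*) [Group Q] [Finite Q] [hs : Group.IsSolvable Q] [Nontrivial Q] :
    ∃ p : ℕ, p.Prime ∧ ∃ R : Subgroup Q, R.Normal ∧ IsPGroup p R ∧ R ≠ ⊥ := by
  classical
  obtain ⟨n, hn⟩ := hs.solvable
  have hex : ∃ n, derivedSeries Q n = ⊥ := ⟨n, hn⟩
  set k := Nat.find hex with hk
  have hkbot : derivedSeries Q k = ⊥ := Nat.find_spec hex
  have hk0 : k ≠ 0 := by
    intro h0
    rw [h0, derivedSeries_zero] at hkbot
    exact top_ne_bot hkbot
  obtain ⟨j, hj⟩ := Nat.exists_eq_succ_of_ne_zero hk0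
  set M := derivedSeries Q j with hM
  have hMne : M ≠ ⊥ := by
    intro h
    have : k ≤ j := Nat.find_min' hex h
    omega
  have hMcomm : ∀ x ∈ M, ∀ y ∈ M, x * y = y * x := by
    intro x hx y hy
    have h1 : ⁅x, y⁆ ∈ ⁅M, M⁆ := Subgroup.commutator_mem_commutator hx hy
    have h2 : ⁅M, M⁆ = ⊥ := by
      have := hkbot
      rw [hj, derivedSeries_succ] at this
      exact this
    rw [h2, Subgroup.mem_bot] at h1
    have := commutatorElement_eq_one_iff_mul_comm.mp h1
    exact this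
  have hMn : M.Normal := derivedSeries_normal Q j
  have hMcard : Nat.card M ≠ 1 := by
    intro h
    exact hMne (Subgroup.card_eq_one.mp h)
  obtain ⟨p, hp, hpd⟩ := Nat.exists_prime_and_dvd hMcard
  have : Fact p.Prime := ⟨hp⟩
  refine ⟨p, hp, ?_⟩
  let R : Subgroup Q :=
    { carrier := {x | x ∈ M ∧ ∃ i : ℕ, x ^ (p ^ i) = 1}
      one_mem' := ⟨M.one_mem, 0, by simp⟩
      mul_mem' := by
        rintro x y ⟨hx, i, hi⟩ ⟨hy, l, hl⟩
        refine ⟨M.mul_mem hx hy, i + l, ?_⟩
        have hc : Commute x y := hMcomm x hx y hy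
        rw [hc.mul_pow, pow_add, pow_mul, hi, one_pow, one_mul, mul_comm (p ^ i) (p ^ l), pow_mul,
          hl, one_pow]
      inv_mem' := by
        rintro x ⟨hx, i, hi⟩
        exact ⟨M.inv_mem hx, i, by rw [inv_pow, hi, inv_one]⟩ }
  refine ⟨R, ?_, ?_, ?_⟩
  · constructor
    rintro x ⟨hx, i, hi⟩ g
    refine ⟨hMn.conj_mem x hx g, i, ?_⟩
    rw [conj_pow, hi, mul_one, mul_inv_cancel]
  · rintro ⟨x, hx, i, hi⟩
    exact ⟨i, Subtype.ext hi⟩
  · obtain ⟨x, hx⟩ := exists_prime_orderOf_dvd_card' (G := M) p hpd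
    intro hbot
    have hxR : (x : Q) ∈ R := by
      refine ⟨x.2, 1, ?_⟩
      rw [pow_one]
      have : x ^ p = 1 := by rw [← hx]; exact pow_orderOf_eq_one x
      exact_mod_cast congrArg Subtype.val this
    rw [hbot, Subgroup.mem_bot] at hxR
    have : x = 1 := Subtype.ext hxR
    rw [this, orderOf_one] at hx
    exact hp.one_lt.ne hx

end Cfsg.Agent.Lib.Helper75_SolvStep

namespace Cfsg.Agent.Lib.Helper75_SolvStep

/-- **Step lemma.** If `A < S` with `A` normal in the solvable group `S`, there are a prime `p`,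
a subgroup `A < B ≤ S` normal in `S` and a `p`-subgroup `P ≤ B` with `B = A P`; moreover
`p ∣ [S : A]` and `[S : B]` is a proper divisor of `[S : A]`. -/
theorem exists_step {Γ : Type*} [Group Γ] [Finite Γ] (A S : Subgroup Γ) (hAS : A ≤ S)
    (hAn : ∀ s ∈ S, ∀ a ∈ A, s * a * s⁻¹ ∈ A) (hne : A ≠ S) (hsolv : Group.IsSolvable S) :
    ∃ (p : ℕ) (B P : Subgroup Γ), p.Prime ∧ A ≤ B ∧ B ≤ S ∧
      (∀ s ∈ S, ∀ b ∈ B, s * b * s⁻¹ ∈ B) ∧
      P ≤ B ∧ IsPGroup p P ∧ (∀ b ∈ B, ∃ a ∈ A, ∃ x ∈ P, b = a * x) ∧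
      p ∣ A.relIndex S ∧ B.relIndex S < A.relIndex S ∧ B.relIndex S ∣ A.relIndex S := by
  classical
  have hA'n : (A.subgroupOf S).Normal := by
    constructor
    intro a ha s
    rw [Subgroup.mem_subgroupOf] at ha ⊢
    simpa using hAn s s.2 a ha
  have hQs : Group.IsSolvable (S ⧸ A.subgroupOf S) := inferInstance
  have hQn : Nontrivial (S ⧸ A.subgroupOf S) := by
    rw [QuotientGroup.nontrivial_iff]
    intro h
    apply hne
    apply le_antisymm hAS
    intro s hs
    have : (⟨s, hs⟩ : S) ∈ A.subgroupOf S := by rw [h]; trivial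
    simpa [Subgroup.mem_subgroupOf] using this
  obtain ⟨p, hp, R, hRn, hRp, hRne⟩ := exists_normal_pgroup (S ⧸ A.subgroupOf S)
  have hpF : Fact p.Prime := ⟨hp⟩
  set B' : Subgroup S := R.comap (QuotientGroup.mk' (A.subgroupOf S)) with hB'
  have hB'n : B'.Normal := hRn.comap _
  set B : Subgroup Γ := B'.map S.subtype with hB
  have hBS : B ≤ S := Subgroup.map_subtype_le B'
  have hAB : A ≤ B := by
    intro a ha
    refine ⟨⟨a, hAS ha⟩, ?_, rfl⟩
    show QuotientGroup.mk' (A.subgroupOf S) ⟨a, hAS ha⟩ ∈ R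
    have : (QuotientGroup.mk' (A.subgroupOf S)) ⟨a, hAS ha⟩ = 1 := by
      rw [QuotientGroup.mk'_apply, QuotientGroup.eq_one_iff]
      simpa [Subgroup.mem_subgroupOf] using ha
    rw [this]; exact R.one_mem
  have hBsub : B.subgroupOf S = B' := by
    ext x
    rw [Subgroup.mem_subgroupOf]
    constructor
    · rintro ⟨y, hy, hxy⟩
      have : y = x := Subtype.ext hxy
      rwa [← this]
    · intro hx
      exact ⟨x, hx, rfl⟩
  have hBn : ∀ s ∈ S, ∀ b ∈ B, s * b * s⁻¹ ∈ B := by
    rintro s hs _ ⟨b, hb, rfl⟩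
    exact ⟨⟨s, hs⟩ * b * ⟨s, hs⟩⁻¹, hB'n.conj_mem b hb ⟨s, hs⟩, by simp⟩
  -- cardinalities
  have hcardQ : A.relIndex S = Nat.card (S ⧸ A.subgroupOf S) := by
    rw [Subgroup.relIndex, Subgroup.index_eq_card]
  have hBidx : B.relIndex S = R.index := by
    rw [Subgroup.relIndex, hBsub, hB',
      Subgroup.index_comap_of_surjective R (QuotientGroup.mk'_surjective _)]
  have hRcard : R.index * Nat.card R = Nat.card (S ⧸ A.subgroupOf S) := R.index_mul_card
  have hRne1 : Nat.card R ≠ 1 := fun h => hRne (Subgroup.card_eq_one.mp h)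
  have hRpos : 0 < Nat.card R := Nat.card_pos
  have hRipos : 0 < R.index := Nat.pos_of_ne_zero Subgroup.index_ne_zero_of_finite
  have hpR : p ∣ Nat.card R := by
    rcases hRp.card_eq_or_dvd with h | h
    · exact absurd h hRne1
    · exact h
  have hABidx : A.relIndex B = Nat.card R := by
    have h1 := Subgroup.relIndex_mul_relIndex A B S hAB hBS
    rw [hBidx, hcardQ, ← hRcard, mul_comm] at h1
    exact Nat.eq_of_mul_eq_mul_left hRipos h1
  -- the Sylow subgroup
  obtain ⟨P₀⟩ : Nonempty (Sylow p B) := inferInstance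
  have hA''n : (A.subgroupOf B).Normal := by
    constructor
    intro a ha s
    rw [Subgroup.mem_subgroupOf] at ha ⊢
    simpa using hAn s (hBS s.2) a ha
  have htop : A.subgroupOf B ⊔ (P₀ : Subgroup B) = ⊤ := by
    rw [← Subgroup.index_eq_one]
    have h1 : (A.subgroupOf B ⊔ (P₀ : Subgroup B)).index ∣ (A.subgroupOf B).index :=
      Subgroup.index_dvd_of_le le_sup_left
    have h2 : (A.subgroupOf B ⊔ (P₀ : Subgroup B)).index ∣ (P₀ : Subgroup B).index :=
      Subgroup.index_dvd_of_le le_sup_right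
    have h3 : (A.subgroupOf B).index = Nat.card R := hABidx
    obtain ⟨j, hj⟩ := (IsPGroup.iff_card.mp hRp)
    rw [h3, hj] at h1
    have h4 : ¬ p ∣ (P₀ : Subgroup B).index := P₀.not_dvd_index
    obtain ⟨i, -, hi⟩ := (Nat.dvd_prime_pow hp).mp h1
    rcases Nat.eq_zero_or_pos i with h0 | hpos
    · rw [hi, h0, pow_zero]
    · exfalso
      apply h4
      refine dvd_trans ?_ h2
      rw [hi]
      exact dvd_pow_self p hpos.ne'
  refine ⟨p, B, (P₀ : Subgroup B).map B.subtype, hp, hAB, hBS, hBn, Subgroup.map_subtype_le _,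
    ?_, ?_, ?_, ?_, ?_⟩
  · exact P₀.isPGroup'.map B.subtype
  · intro b hb
    have hmem : (⟨b, hb⟩ : B) ∈ ((A.subgroupOf B ⊔ (P₀ : Subgroup B) : Subgroup B) : Set B) := by
      rw [htop]; trivial
    rw [Subgroup.normal_mul] at hmem
    obtain ⟨a, ha, x, hx, hax⟩ := hmem
    refine ⟨a, by simpa [Subgroup.mem_subgroupOf] using ha, x, ⟨x, hx, rfl⟩, ?_⟩
    have := congrArg Subtype.val hax
    simpa using this.symm
  · rw [hcardQ, ← hRcard]
    exact dvd_mul_of_dvd_right hpR _
  · rw [hBidx, hcardQ, ← hRcard]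
    have : 1 < Nat.card R := by omega
    nlinarith
  · rw [hBidx, hcardQ, ← hRcard]
    exact dvd_mul_right _ _

end Cfsg.Agent.Lib.Helper75_SolvStep
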