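import Mathlib
import Cfsg.Prelude.Def_Characters
import Cfsg.Prelude.Def_Blocks
import Cfsg.Agent.Lib.Helper75_SolvStep
import Cfsg.Agent.Lib.Helper74_PQuot
import Cfsg.Agent.Lib.Helper74_GoingUp
import Cfsg.Agent.Lib.Helper75_ExtendCoprime
import Cfsg.Agent.Lib.Helper75_Gallagher
import Cfsg.Agent.Lib.Helper75_LinChar
import Cfsg.Agent.Lib.Helper75_CanonExt
import Cfsg.Agent.Lib.Helper75_Induced
import Cfsg.Agent.Lib.Helper80_CharBasic
import Cfsg.Agent.S0856

/-!
# Characters of degree coprime to the index of a normal Hall subgroup (helper75)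

* `irr_restrict_of_coprime`: if `G/K` is solvable and `χ(1)` is coprime to `[G : K]`, then `χ_K`
  is irreducible.
* `card_coprime_degree`: if moreover `|K|` is coprime to `[G : K]`, the irreducible characters of
  `G` of degree coprime to `[G : K]` are counted by
  `#(G-invariant irreducible characters of K) * #(linear characters of G trivial on K)`.
-/

set_option autoImplicit false

universe u

namespace Cfsg.Agent.Lib.Helper75_CoprimeDeg

open Cfsg Cfsg.Agent.Lib

/-- If `G/K` is solvable and `χ(1)` is coprime to `[G : K]`, then `χ_K` is irreducible. -/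
theorem irr_restrict_of_coprime {G : Type u} [Group G] [Finite G] : ∀ (k : ℕ) (K : Subgroup G)
    [K.Normal], K.index = k → Group.IsSolvable (G ⧸ K) → ∀ (χ : IrrCharacter G) (d : ℕ),
    (χ : G → ℂ) 1 = d → d.Coprime K.index →
    IsIrrCharacter K (fun n : K => (χ : G → ℂ) n) := by
  intro k
  induction k using Nat.strong_induction_on with
  | _ k ih =>
    intro K hKn hk hsolv χ d hd hcop
    by_cases htop : K = ⊤
    · subst htop
      exact Helper74_GoingUp.isIrr_comp_equiv (Subgroup.topEquiv : (⊤ : Subgroup G) ≃* G) χ.2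
    · have hQn : Nontrivial (G ⧸ K) := by
        rw [QuotientGroup.nontrivial_iff]; exact htop
      obtain ⟨p, hp, R, hRn, hRp, hRne⟩ := Helper75_SolvStep.exists_normal_pgroup (G ⧸ K)
      have hpF : Fact p.Prime := ⟨hp⟩
      set M : Subgroup G := R.comap (QuotientGroup.mk' K) with hM
      have hMn : M.Normal := hRn.comap _
      have hKM : K ≤ M := by
        intro x hx
        show QuotientGroup.mk' K x ∈ R
        rw [QuotientGroup.mk'_apply, (QuotientGroup.eq_one_iff x).mpr hx]
        exact R.one_mem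
      have hMidx : M.index = R.index :=
        Subgroup.index_comap_of_surjective R (QuotientGroup.mk'_surjective K)
      have hRcard : R.index * Nat.card R = K.index := by
        rw [Subgroup.index_eq_card K]; exact R.index_mul_card
      have hRne1 : Nat.card R ≠ 1 := fun h => hRne (Subgroup.card_eq_one.mp h)
      have hRipos : 0 < R.index := Nat.pos_of_ne_zero Subgroup.index_ne_zero_of_finite
      have hpR : p ∣ Nat.card R := by
        rcases hRp.card_eq_or_dvd with h | h
        · exact absurd h hRne1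
        · exact h
      have hMlt : M.index < k := by
        rw [hMidx, ← hk, ← hRcard]
        have : 0 < Nat.card R := Nat.card_pos
        have : 1 < Nat.card R := by omega
        nlinarith
      have hMdvd : M.index ∣ K.index := by
        rw [hMidx, ← hRcard]; exact dvd_mul_right _ _
      have hsolvM : Group.IsSolvable (G ⧸ M) := by
        have hsurj : Function.Surjective (QuotientGroup.map K M (MonoidHom.id G) hKM) := by
          intro x
          obtain ⟨g, rfl⟩ := QuotientGroup.mk_surjective x
          exact ⟨QuotientGroup.mk g, rfl⟩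
        exact Group.isSolvable_of_surjective hsurj
      have hχM := ih M.index hMlt M rfl hsolvM χ d hd (Nat.Coprime.coprime_dvd_right hMdvd hcop)
      -- now restrict from `M` to `K`
      have hK'n : (K.subgroupOf M).Normal := Subgroup.normal_subgroupOf
      have hPQ : IsPGroup p (↥M ⧸ K.subgroupOf M) := by
        intro x
        obtain ⟨m, rfl⟩ := QuotientGroup.mk_surjective x
        have hmR : QuotientGroup.mk' K (m : G) ∈ R := m.2
        obtain ⟨j, hj⟩ := hRp ⟨_, hmR⟩
        refine ⟨j, ?_⟩
        have hj' : (QuotientGroup.mk' K (m : G)) ^ (p ^ j) = 1 := by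
          have := congrArg Subtype.val hj
          simpa using this
        rw [QuotientGroup.mk'_apply, ← QuotientGroup.mk_pow, QuotientGroup.eq_one_iff] at hj'
        rw [← QuotientGroup.mk_pow, QuotientGroup.eq_one_iff, Subgroup.mem_subgroupOf]
        simpa using hj'
      have hpd : ¬ p ∣ d := by
        intro hpd
        have h1 : p ∣ K.index := by
          rw [← hRcard]; exact dvd_mul_of_dvd_right hpR _
        have := Nat.dvd_gcd hpd h1
        rw [Nat.Coprime] at hcop
        rw [hcop] at this
        exact hp.one_lt.ne' (Nat.dvd_one.mp this)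
      have h2 := Helper74_PQuot.irr_restrict (K.subgroupOf M) hPQ
        (⟨fun m : M => (χ : G → ℂ) m, hχM⟩ : IrrCharacter M) d (by simpa using hd) hpd
      have h3 := Helper74_GoingUp.isIrr_comp_equiv (Subgroup.subgroupOfEquivOfLe hKM).symm h2
      exact h3


theorem charDegree_eq_of_one_eq {G : Type u} [Group G] {χ : G → ℂ} {d : ℕ} (h : χ 1 = d) :
    charDegree χ = d := by
  unfold charDegree
  rw [h]; simp

open Helper75_LinChar in
/-- **Counting characters of degree coprime to the index of a normal Hall subgroup.** -/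
theorem card_coprime_degree {G : Type u} [Group G] [Finite G] (K : Subgroup G) [hK : K.Normal]
    (hsolv : Group.IsSolvable (G ⧸ K)) (hcop : (Nat.card K).Coprime K.index) :
    Nat.card {χ : IrrCharacter G // (charDegree (χ : G → ℂ)).Coprime K.index} =
      Nat.card {ϑ : IrrCharacter K // ∀ (g : G) (n : K),
        (ϑ : K → ℂ) ⟨g * n * g⁻¹, hK.conj_mem n n.2 g⟩ = (ϑ : K → ℂ) n} *
      Nat.card {β : G → ℂ // IsLin G β ∧ ∀ n : K, β n = 1} := by
  classical
  have instG : Fintype G := Fintype.ofFinite G
  have instK : Fintype K := Fintype.ofFinite K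
  rw [← Nat.card_prod]
  symm
  -- chosen extensions
  have hext : ∀ ϑ : {ϑ : IrrCharacter K // ∀ (g : G) (n : K),
      (ϑ : K → ℂ) ⟨g * n * g⁻¹, hK.conj_mem n n.2 g⟩ = (ϑ : K → ℂ) n},
      ∃ χ : G → ℂ, IsIrrCharacter G χ ∧ ∀ n : K, χ n = (ϑ.1 : K → ℂ) n := fun ϑ =>
    Helper75_ExtendCoprime.exists_extension_of_coprime_solvable K hsolv hcop _ ϑ.1.2 ϑ.2
  choose ext hextirr hextres using hext
  -- degree of `β * ext ϑ`
  have hdeg : ∀ (ϑ : {ϑ : IrrCharacter K // ∀ (g : G) (n : K),
      (ϑ : K → ℂ) ⟨g * n * g⁻¹, hK.conj_mem n n.2 g⟩ = (ϑ : K → ℂ) n})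
      (β : {β : G → ℂ // IsLin G β ∧ ∀ n : K, β n = 1}),
      (charDegree (β.1 * ext ϑ)).Coprime K.index := by
    intro ϑ β
    obtain ⟨d, hd, -, hdvd⟩ := Helper75_CanonExt.exists_degree ϑ.1.2
    have h1 : (β.1 * ext ϑ) 1 = d := by
      rw [Pi.mul_apply, β.2.1.2, one_mul]
      have := hextres ϑ 1
      rw [OneMemClass.coe_one] at this
      rw [this, hd]
    rw [charDegree_eq_of_one_eq h1]
    exact Nat.Coprime.coprime_dvd_left hdvd hcop
  let Φ : {ϑ : IrrCharacter K // ∀ (g : G) (n : K),
      (ϑ : K → ℂ) ⟨g * n * g⁻¹, hK.conj_mem n n.2 g⟩ = (ϑ : K → ℂ) n} ×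
      {β : G → ℂ // IsLin G β ∧ ∀ n : K, β n = 1} →
      {χ : IrrCharacter G // (charDegree (χ : G → ℂ)).Coprime K.index} :=
    fun x => ⟨⟨x.2.1 * ext x.1, x.2.2.1.mul_irr (hextirr x.1)⟩, hdeg x.1 x.2⟩
  have hone : IsIrrCharacter K (fun _ : K => (1 : ℂ)) :=
    Helper80_CharBasic.isIrrCharacter_one K
  have hinj : Function.Injective Φ := by
    rintro ⟨ϑ, β⟩ ⟨ϑ', β'⟩ h
    have hfun : β.1 * ext ϑ = β'.1 * ext ϑ' := congrArg (fun x => (x.1 : G → ℂ)) h
    have hϑ : ϑ = ϑ' := by
      apply Subtype.ext
      apply Subtype.ext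
      funext n
      have h1 := congrFun hfun n
      rw [Pi.mul_apply, Pi.mul_apply, β.2.2 n, β'.2.2 n, one_mul, one_mul, hextres, hextres] at h1
      exact h1
    subst hϑ
    have hβ : β = β' := by
      apply Subtype.ext
      have hprodeq : (fun _ : K => (1 : ℂ)) * (fun n : K => ext ϑ n) = fun n : K => ext ϑ n := by
        funext n; simp
      have hηc : IsClassFunction G (ext ϑ) :=
        Helper3_CharBridge.isClassFunction_of_isIrrCharacter (hextirr ϑ)
      have hresirr : IsIrrCharacter K (fun n : K => ext ϑ n) := by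
        have : (fun n : K => ext ϑ n) = (ϑ.1 : K → ℂ) := funext (hextres ϑ)
        rw [this]; exact ϑ.1.2
      have hbij := Cfsg.Agent.S0856.result K (fun _ => 1) (fun n : K => ext ϑ n) hone hresirr
        (fun _ _ => rfl) (fun g n => hηc n g) (by rw [hprodeq]; exact hresirr) (ext ϑ)
        (hextirr ϑ) (fun _ => rfl)
      have hmem : ∀ γ : {β : G → ℂ // IsLin G β ∧ ∀ n : K, β n = 1},
          γ.1 ∈ {β : G → ℂ | IsIrrCharacter G β ∧
            classInner (indFun K (fun _ : K => (1 : ℂ))) β ≠ 0} := by
        intro γ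
        refine ⟨γ.2.1.irr, ?_⟩
        rw [Helper75_Induced.frobenius_reciprocity K _ γ.1
          (Helper3_CharBridge.isClassFunction_of_isIrrCharacter γ.2.1.irr)]
        have : (fun h : K => γ.1 h) = fun _ : K => (1 : ℂ) := funext γ.2.2
        rw [this, Helper3_CharOrtho.classInner_self_of_isIrrCharacter hone]
        exact one_ne_zero
      exact hbij.injOn (hmem β) (hmem β') hfun
    rw [hβ]
  have hsurj : Function.Surjective Φ := by
    rintro ⟨χ, hχ⟩
    obtain ⟨d, hd, -, -⟩ := Helper75_CanonExt.exists_degree χ.2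
    rw [charDegree_eq_of_one_eq hd] at hχ
    have hres := irr_restrict_of_coprime K.index K rfl hsolv χ d hd hχ
    have hχc : IsClassFunction G (χ : G → ℂ) :=
      Helper3_CharBridge.isClassFunction_of_isIrrCharacter χ.2
    let ϑ : {ϑ : IrrCharacter K // ∀ (g : G) (n : K),
        (ϑ : K → ℂ) ⟨g * n * g⁻¹, hK.conj_mem n n.2 g⟩ = (ϑ : K → ℂ) n} :=
      ⟨⟨fun n : K => (χ : G → ℂ) n, hres⟩, fun g n => hχc n g⟩
    have hresirr : IsIrrCharacter K (fun n : K => ext ϑ n) := by
      have : (fun n : K => ext ϑ n) = (ϑ.1 : K → ℂ) := funext (hextres ϑ)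
      rw [this]; exact ϑ.1.2
    obtain ⟨β, hβlin, hβK, hβ⟩ := Helper75_Gallagher.exists_lin_of_extensions K
      (hextirr ϑ) χ.2 hresirr (fun n => (hextres ϑ n).symm)
    refine ⟨(ϑ, ⟨β, hβlin, hβK⟩), ?_⟩
    apply Subtype.ext
    apply Subtype.ext
    exact hβ.symm
  exact Nat.card_congr (Equiv.ofBijective Φ ⟨hinj, hsurj⟩)


open Helper75_LinChar in
/-- The linear characters of `G` trivial on the normal subgroup `K` correspond to the
homomorphisms `H →* ℂˣ` for a complement `H` of `K`. -/
theorem card_linK {G : Type u} [Group G] [Finite G] (K H : Subgroup G) [hK : K.Normal]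
    (hc : H.IsComplement' K) :
    Nat.card {β : G → ℂ // IsLin G β ∧ ∀ n : K, β n = 1} = Nat.card (H →* ℂˣ) := by
  classical
  let π : G →* H := hc.QuotientMulEquiv.toMonoidHom.comp (QuotientGroup.mk' K)
  have hπH : ∀ h : H, π (h : G) = h := by
    intro h
    have := hc.QuotientMulEquiv.apply_symm_apply h
    rw [Subgroup.IsComplement'.QuotientMulEquiv_symm_apply] at this
    exact this
  have hπK : ∀ n : K, π (n : G) = 1 := by
    intro n
    show hc.QuotientMulEquiv (QuotientGroup.mk' K (n : G)) = 1
    rw [QuotientGroup.mk'_apply, (QuotientGroup.eq_one_iff (n : G)).mpr n.2, map_one]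
  have hdec : ∀ g : G, g * ((π g : H) : G)⁻¹ ∈ K := by
    intro g
    rw [← QuotientGroup.eq_one_iff, QuotientGroup.mk_mul, QuotientGroup.mk_inv]
    have h1 : (QuotientGroup.mk ((π g : H) : G) : G ⧸ K) = QuotientGroup.mk g := by
      have h2 := hc.QuotientMulEquiv.symm_apply_apply (QuotientGroup.mk g)
      rw [Subgroup.IsComplement'.QuotientMulEquiv_symm_apply] at h2
      exact h2
    rw [h1, mul_inv_cancel]
  let F : (H →* ℂˣ) → {β : G → ℂ // IsLin G β ∧ ∀ n : K, β n = 1} := fun lam =>
    ⟨fun g => ((lam (π g) : ℂˣ) : ℂ),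
      isLin_of_hom ((Units.coeHom ℂ).comp (lam.comp π)), fun n => by
        show ((lam (π (n : G)) : ℂˣ) : ℂ) = 1
        rw [hπK n, map_one, Units.val_one]⟩
  have hinj : Function.Injective F := by
    intro lam lam' h
    ext h'
    have h1 := congrFun (congrArg Subtype.val h) (h' : G)
    simp only [F, hπH] at h1
    exact h1
  have hsurj : Function.Surjective F := by
    rintro ⟨β, hβ, hβK⟩
    let lam : H →* ℂˣ :=
      { toFun := fun h => Units.mk0 (β h) (hβ.ne_zero h)
        map_one' := by
          apply Units.ext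
          show β ((1 : H) : G) = 1
          rw [OneMemClass.coe_one]; exact hβ.2
        map_mul' := by
          intro a b
          apply Units.ext
          show β ((a * b : H) : G) = β a * β b
          rw [Subgroup.coe_mul, hβ.map_mul] }
    refine ⟨lam, ?_⟩
    apply Subtype.ext
    funext g
    show β ((π g : H) : G) = β g
    have h1 : g = (g * ((π g : H) : G)⁻¹) * ((π g : H) : G) := by group
    conv_rhs => rw [h1]
    rw [hβ.map_mul, hβK ⟨_, hdec g⟩, one_mul]
  exact (Nat.card_congr (Equiv.ofBijective F ⟨hinj, hsurj⟩)).symm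

end Cfsg.Agent.Lib.Helper75_CoprimeDeg
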