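import Mathlib
import Cfsg.Prelude.Def_Blocks
import Cfsg.Agent.Lib.Helper78_LocalRing

/-!
# Complex matrices with entries in the local ring at `M`

`EntR M A`: all entries of `A` are local integers at `M`; `EntI M A`: all entries lie in the local
ideal.  Main results: a matrix congruent to `1` modulo the local ideal is invertible, and two
idempotent matrices congruent modulo the local ideal are conjugate, so have equal traces (also
after multiplication by a matrix commuting with both).
-/

set_option autoImplicit false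
set_option linter.unusedSectionVars false

namespace Cfsg.Agent.Lib.Helper77_MatrixLocal

open Cfsg Cfsg.Agent.Lib.Helper78_LocalRing Matrix

variable {M : Ideal AlgInt} {n : Type*} [Fintype n] [DecidableEq n]

/-- All entries are local integers. -/
def EntR (M : Ideal AlgInt) (A : Matrix n n ℂ) : Prop := ∀ i j, MemLocalRing M (A i j)

/-- All entries lie in the local ideal. -/
def EntI (M : Ideal AlgInt) (A : Matrix n n ℂ) : Prop := ∀ i j, MemLocalIdeal M (A i j)

theorem EntI.entR {A : Matrix n n ℂ} (h : EntI M A) : EntR M A :=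
  fun i j => memLocalRing_of_memLocalIdeal (h i j)

theorem entR_one (hM : M.IsPrime) : EntR M (1 : Matrix n n ℂ) := by
  intro i j
  by_cases h : i = j
  · subst h; simpa using memLocalRing_one hM
  · simpa [Matrix.one_apply_ne h] using memLocalRing_zero hM

theorem entR_zero (hM : M.IsPrime) : EntR M (0 : Matrix n n ℂ) :=
  fun _ _ => by simpa using memLocalRing_zero hM

theorem EntR.add (hM : M.IsPrime) {A B : Matrix n n ℂ} (hA : EntR M A) (hB : EntR M B) :
    EntR M (A + B) := fun i j => by
  simpa using memLocalRing_add hM (hA i j) (hB i j)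

theorem EntR.sub (hM : M.IsPrime) {A B : Matrix n n ℂ} (hA : EntR M A) (hB : EntR M B) :
    EntR M (A - B) := fun i j => by
  simpa using memLocalRing_sub hM (hA i j) (hB i j)

theorem EntR.mul (hM : M.IsPrime) {A B : Matrix n n ℂ} (hA : EntR M A) (hB : EntR M B) :
    EntR M (A * B) := fun i j => by
  rw [Matrix.mul_apply]
  exact memLocalRing_sum hM _ _ fun k _ => memLocalRing_mul hM (hA i k) (hB k j)

theorem EntR.smul (hM : M.IsPrime) {c : ℂ} (hc : MemLocalRing M c) {A : Matrix n n ℂ}
    (hA : EntR M A) : EntR M (c • A) := fun i j => by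
  simpa using memLocalRing_mul hM hc (hA i j)

theorem EntR.sum (hM : M.IsPrime) {ι : Type*} (s : Finset ι) (A : ι → Matrix n n ℂ)
    (h : ∀ k ∈ s, EntR M (A k)) : EntR M (∑ k ∈ s, A k) := fun i j => by
  rw [Matrix.sum_apply]
  exact memLocalRing_sum hM _ _ fun k hk => h k hk i j

theorem EntI.add (hM : M.IsPrime) {A B : Matrix n n ℂ} (hA : EntI M A) (hB : EntI M B) :
    EntI M (A + B) := fun i j => by
  simpa using memLocalIdeal_add hM (hA i j) (hB i j)

theorem EntI.mul_right (hM : M.IsPrime) {A B : Matrix n n ℂ} (hA : EntI M A) (hB : EntR M B) :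
    EntI M (A * B) := fun i j => by
  rw [Matrix.mul_apply]
  exact memLocalIdeal_sum hM _ _ fun k _ => memLocalIdeal_mul_right hM (hA i k) (hB k j)

theorem EntI.mul_left (hM : M.IsPrime) {A B : Matrix n n ℂ} (hA : EntR M A) (hB : EntI M B) :
    EntI M (A * B) := fun i j => by
  rw [Matrix.mul_apply]
  exact memLocalIdeal_sum hM _ _ fun k _ => memLocalIdeal_mul_left hM (hA i k) (hB k j)

/-- A product of numbers congruent to `1` is congruent to `1`. -/
theorem memLocalIdeal_prod_sub_one (hM : M.IsPrime) {ι : Type*} (s : Finset ι) (f : ι → ℂ)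
    (h : ∀ i ∈ s, MemLocalIdeal M (f i - 1)) : MemLocalIdeal M (∏ i ∈ s, f i - 1) := by
  classical
  induction s using Finset.induction_on with
  | empty => simpa using memLocalIdeal_zero hM
  | insert a s ha ih =>
    rw [Finset.prod_insert ha]
    have h1 := h a (Finset.mem_insert_self a s)
    have h2 := ih fun i hi => h i (Finset.mem_insert_of_mem hi)
    have hP : MemLocalRing M (∏ i ∈ s, f i) := by
      have : ∏ i ∈ s, f i = (∏ i ∈ s, f i - 1) + 1 := by ring
      rw [this]
      exact memLocalRing_add hM (memLocalRing_of_memLocalIdeal h2) (memLocalRing_one hM)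
    have : f a * ∏ i ∈ s, f i - 1 = (f a - 1) * ∏ i ∈ s, f i + (∏ i ∈ s, f i - 1) := by ring
    rw [this]
    exact memLocalIdeal_add hM (memLocalIdeal_mul_right hM h1 hP) h2

/-- A matrix congruent to the identity modulo the local ideal has determinant congruent to `1`. -/
theorem memLocalIdeal_det_sub_one (hM : M.IsPrime) {A : Matrix n n ℂ} (hA : EntI M (A - 1)) :
    MemLocalIdeal M (A.det - 1) := by
  have hAR : EntR M A := by
    have : A = (A - 1) + 1 := by simp
    rw [this]
    exact EntR.add hM hA.entR (entR_one hM)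
  rw [Matrix.det_apply, ← Finset.add_sum_erase _ _ (Finset.mem_univ (1 : Equiv.Perm n))]
  have h1 : Equiv.Perm.sign (1 : Equiv.Perm n) • ∏ i, A ((1 : Equiv.Perm n) i) i - 1 =
      ∏ i, A i i - 1 := by simp
  have h2 : MemLocalIdeal M (∏ i, A i i - 1) := by
    apply memLocalIdeal_prod_sub_one hM
    intro i _
    have := hA i i
    simpa using this
  have h3 : MemLocalIdeal M
      (∑ σ ∈ Finset.univ.erase (1 : Equiv.Perm n), Equiv.Perm.sign σ • ∏ i, A (σ i) i) := by
    apply memLocalIdeal_sum hM
    intro σ hσ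
    have hσ1 : σ ≠ 1 := (Finset.mem_erase.mp hσ).1
    obtain ⟨i₀, hi₀⟩ : ∃ i, σ i ≠ i := by
      by_contra hcon
      push Not at hcon
      exact hσ1 (Equiv.ext hcon)
    have hent : MemLocalIdeal M (A (σ i₀) i₀) := by
      have := hA (σ i₀) i₀
      simpa [Matrix.one_apply_ne hi₀] using this
    have hprod : MemLocalIdeal M (∏ i, A (σ i) i) := by
      rw [← Finset.mul_prod_erase _ _ (Finset.mem_univ i₀)]
      exact memLocalIdeal_mul_right hM hent
        (memLocalRing_prod hM _ _ fun i _ => hAR (σ i) i)
    rcases Int.units_eq_one_or (Equiv.Perm.sign σ) with h | h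
    · rw [h]; simpa using hprod
    · rw [h]; simpa using memLocalIdeal_neg hprod
  have : Equiv.Perm.sign (1 : Equiv.Perm n) • ∏ i, A ((1 : Equiv.Perm n) i) i +
      ∑ σ ∈ Finset.univ.erase (1 : Equiv.Perm n), Equiv.Perm.sign σ • ∏ i, A (σ i) i - 1 =
      (Equiv.Perm.sign (1 : Equiv.Perm n) • ∏ i, A ((1 : Equiv.Perm n) i) i - 1) +
      ∑ σ ∈ Finset.univ.erase (1 : Equiv.Perm n), Equiv.Perm.sign σ • ∏ i, A (σ i) i := by ring
  rw [this, h1]
  exact memLocalIdeal_add hM h2 h3

theorem det_ne_zero_of_entI_sub_one (hM : M.IsPrime) {A : Matrix n n ℂ} (hA : EntI M (A - 1)) :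
    A.det ≠ 0 := by
  intro h0
  have := memLocalIdeal_det_sub_one hM hA
  rw [h0, zero_sub] at this
  have h1 := memLocalIdeal_neg this
  rw [neg_neg] at h1
  exact not_memLocalIdeal_one hM h1

/-- **Congruent idempotents have equal traces**, also after multiplying by a matrix `C` commuting
with both. -/
theorem trace_mul_eq_of_idempotent_congr (hM : M.IsPrime) {F F' C : Matrix n n ℂ}
    (hF : F * F = F) (hF' : F' * F' = F') (hFR : EntR M F) (hN : EntI M (F' - F))
    (hCF : C * F = F * C) (hCF' : C * F' = F' * C) :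
    (C * F').trace = (C * F).trace := by
  set U : Matrix n n ℂ := F' * F + (1 - F') * (1 - F) with hU
  have hUF : F' * U = U * F := by
    rw [hU]
    simp only [mul_add, add_mul, mul_sub, sub_mul, mul_one, one_mul, ← mul_assoc, hF']
    simp only [mul_assoc, hF]
    abel
  have hUC : C * U = U * C := by
    rw [hU]
    have e1 : C * (F' * F) = F' * F * C := by
      rw [← mul_assoc, hCF', mul_assoc, hCF, mul_assoc]
    have e2 : C * ((1 - F') * (1 - F)) = (1 - F') * (1 - F) * C := by
      have a1 : C * (1 - F') = (1 - F') * C := by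
        rw [mul_sub, sub_mul, mul_one, one_mul, hCF']
      have a2 : C * (1 - F) = (1 - F) * C := by
        rw [mul_sub, sub_mul, mul_one, one_mul, hCF]
      rw [← mul_assoc, a1, mul_assoc, a2, mul_assoc]
    rw [mul_add, add_mul, e1, e2]
  have hU1 : U - 1 = (F' - F) * (2 • F - 1) := by
    rw [hU]
    simp only [mul_add, add_mul, mul_sub, sub_mul, mul_one, one_mul, two_smul, hF]
    abel_nf
  have hUI : EntI M (U - 1) := by
    rw [hU1]
    apply EntI.mul_right hM hN
    apply EntR.sub hM _ (entR_one hM)
    rw [two_smul]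
    exact EntR.add hM hFR hFR
  have hdet : IsUnit U.det := isUnit_iff_ne_zero.mpr (det_ne_zero_of_entI_sub_one hM hUI)
  have hinv : U * U⁻¹ = 1 := Matrix.mul_nonsing_inv U hdet
  have hinv' : U⁻¹ * U = 1 := Matrix.nonsing_inv_mul U hdet
  have hF'eq : F' = U * F * U⁻¹ := by
    rw [← hUF, mul_assoc, hinv, mul_one]
  calc (C * F').trace = (C * (U * F * U⁻¹)).trace := by rw [← hF'eq]
    _ = (U * (C * F) * U⁻¹).trace := by
        congr 1
        rw [← mul_assoc, ← mul_assoc, hUC, mul_assoc U C F]
    _ = (U⁻¹ * (U * (C * F))).trace := Matrix.trace_mul_comm _ _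
    _ = (C * F).trace := by rw [← mul_assoc, hinv', one_mul]

end Cfsg.Agent.Lib.Helper77_MatrixLocal
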