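import Mathlib
import Cfsg.Prelude.Def_Blocks
import Cfsg.Agent.Lib.Helper78_LocalRing

set_option autoImplicit false

namespace Cfsg.Agent.Lib.Helper77_PRoots

open Cfsg Cfsg.Agent.Lib.Helper78_LocalRing

/-- A root of unity of `p`-power order is congruent to `1` modulo `M`. -/
theorem memLocalIdeal_sub_one_of_pow_eq_one {p : ℕ} {M : Ideal AlgInt} (hM : IsPModular p M)
    (η : ℂ) (k : ℕ) (h : η ^ (p ^ k) = 1) : MemLocalIdeal M (η - 1) := by
  have hp : p.Prime := hM.1
  have : Fact p.Prime := ⟨hp⟩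
  have hMmax : M.IsMaximal := hM.2.1
  have hMp : M.IsPrime := hMmax.isPrime
  have hint : IsIntegral ℤ η := by
    refine ⟨Polynomial.X ^ (p ^ k) - 1, Polynomial.monic_X_pow_sub_C 1 (pow_pos hp.pos k).ne', ?_⟩
    simp [h]
  let w : AlgInt := ⟨η, hint⟩
  have hw : w ^ (p ^ k) = 1 := by
    apply Subtype.ext
    simpa using h
  -- work in the residue field
  have : CharP (AlgInt ⧸ M) p := by
    rw [CharP.charP_iff_prime_eq_zero hp]
    have : ((p : AlgInt) : AlgInt ⧸ M) = 0 := Ideal.Quotient.eq_zero_iff_mem.mpr hM.2.2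
    simpa using this
  have h1 : (Ideal.Quotient.mk M (w - 1)) ^ (p ^ k) = 0 := by
    rw [map_sub, map_one, sub_pow_char_pow, one_pow, ← map_pow, hw, map_one, sub_self]
  have h2 : Ideal.Quotient.mk M (w - 1) = 0 := by
    have := Ideal.Quotient.isDomain M
    exact pow_eq_zero_iff (pow_pos hp.pos k).ne' |>.mp h1
  have h3 : w - 1 ∈ M := Ideal.Quotient.eq_zero_iff_mem.mp h2
  have := memLocalIdeal_of_mem hMp h3
  simpa [w] using this

end Cfsg.Agent.Lib.Helper77_PRoots
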