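import Mathlib
import Cfsg.Prelude.Def_Blocks
import Cfsg.Agent.Lib.Helper78_LocalRing
import Cfsg.Agent.Lib.Helper77_MatrixLocal
import Cfsg.Agent.Lib.Helper77_PRoots

set_option autoImplicit false
set_option linter.unusedSectionVars false

namespace Cfsg.Agent.Lib.Helper77_PermTrace

open Cfsg Cfsg.Agent.Lib.Helper78_LocalRing Cfsg.Agent.Lib.Helper77_MatrixLocal
  Cfsg.Agent.Lib.Helper77_PRoots Matrix

variable {M : Ideal AlgInt} {n : Type*} [Fintype n] [DecidableEq n]

/-- The permutation matrix of `π`, with entry `1` at `(π j, j)`. -/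
def pmat (π : Equiv.Perm n) : Matrix n n ℂ := fun i j => if i = π j then 1 else 0

theorem pmat_mul_apply (π : Equiv.Perm n) (A : Matrix n n ℂ) (i j : n) :
    (pmat π * A) i j = A (π.symm i) j := by
  rw [Matrix.mul_apply, Finset.sum_eq_single (π.symm i)]
  · simp [pmat]
  · intro k _ hk
    have : i ≠ π k := fun h => hk (by rw [h, Equiv.symm_apply_apply])
    simp [pmat, this]
  · intro h; exact absurd (Finset.mem_univ _) h

theorem mul_pmat_apply (π : Equiv.Perm n) (A : Matrix n n ℂ) (i j : n) :
    (A * pmat π) i j = A i (π j) := by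
  rw [Matrix.mul_apply, Finset.sum_eq_single (π j)]
  · simp [pmat]
  · intro k _ hk
    simp [pmat, hk]
  · intro h; exact absurd (Finset.mem_univ _) h

theorem trace_pmat_mul (π : Equiv.Perm n) (A : Matrix n n ℂ) :
    (pmat π * A).trace = ∑ i, A i (π i) := by
  unfold Matrix.trace
  simp only [Matrix.diag_apply, pmat_mul_apply]
  rw [← Equiv.sum_comp π]
  simp

/-- A function on `n` that is multiplied by `ω` along `π`, with values `p`-th roots of unity. -/
theorem exists_twist {p : ℕ} (π : Equiv.Perm n)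
    (hπ : ∀ (j : ℕ) (a : n), (π ^ j) a = a → p ∣ j) (ω : ℂ) (hω : ω ^ p = 1) :
    ∃ δ : n → ℂ, (∀ a, δ (π a) = ω * δ a) ∧ ∀ a, ∃ k : ℕ, δ a = ω ^ k := by
  classical
  let s : Setoid n := Equiv.Perm.SameCycle.setoid π
  let r : n → n := fun a => Quotient.out (Quotient.mk s a)
  have hr : ∀ a, Equiv.Perm.SameCycle π (r a) a := fun a => Quotient.mk_out (s := s) a
  have hrπ : ∀ a, r (π a) = r a := by
    intro a
    have : Quotient.mk s (π a) = Quotient.mk s a := by
      apply Quotient.sound
      show Equiv.Perm.SameCycle π (π a) a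
      exact Equiv.Perm.sameCycle_apply_left.mpr (Equiv.Perm.SameCycle.refl π a)
    show Quotient.out (Quotient.mk s (π a)) = Quotient.out (Quotient.mk s a)
    rw [this]
  have hk : ∀ a, ∃ k : ℕ, (π ^ k) (r a) = a := fun a => (hr a).exists_nat_pow_eq
  let κ : n → ℕ := fun a => Classical.choose (hk a)
  have hκ : ∀ a, (π ^ (κ a)) (r a) = a := fun a => Classical.choose_spec (hk a)
  -- powers of π agreeing at a point have exponents congruent mod p
  have hmod : ∀ (i j : ℕ) (a : n), i ≤ j → (π ^ i) a = (π ^ j) a → ω ^ i = ω ^ j := by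
    intro i j a hij h
    obtain ⟨d, rfl⟩ := Nat.exists_eq_add_of_le hij
    have h1 : (π ^ d) a = a := by
      have : (π ^ i) a = (π ^ i) ((π ^ d) a) := by
        rw [h, pow_add, Equiv.Perm.mul_apply]
      exact ((π ^ i).injective this).symm
    obtain ⟨c, rfl⟩ := hπ d a h1
    rw [pow_add, pow_mul, hω, one_pow, mul_one]
  refine ⟨fun a => ω ^ (κ a), ?_, fun a => ⟨κ a, rfl⟩⟩
  intro a
  show ω ^ (κ (π a)) = ω * ω ^ (κ a)
  have h1 : (π ^ (κ (π a))) (r a) = (π ^ (κ a + 1)) (r a) := by
    have := hκ (π a)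
    rw [hrπ a] at this
    rw [this, pow_succ', Equiv.Perm.mul_apply, hκ a]
  rw [← pow_succ']
  rcases le_total (κ (π a)) (κ a + 1) with hle | hle
  · exact hmod _ _ _ hle h1
  · exact (hmod _ _ _ hle h1.symm).symm

/-- **Key lemma.** If every cycle of the permutation `π` has length divisible by `p`, and `F` is an
idempotent matrix with local-integer entries commuting with the permutation matrix of `π`, then
the trace of `pmat π * F` vanishes. -/
theorem trace_pmat_mul_idempotent_eq_zero {p : ℕ} (hM : IsPModular p M) (π : Equiv.Perm n)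
    (hπ : ∀ (j : ℕ) (a : n), (π ^ j) a = a → p ∣ j)
    {F : Matrix n n ℂ} (hF : F * F = F) (hFR : EntR M F)
    (hc : pmat π * F = F * pmat π) : (pmat π * F).trace = 0 := by
  have hp : p.Prime := hM.1
  have hMp : M.IsPrime := hM.2.1.isPrime
  -- a primitive p-th root of unity
  obtain ⟨ω, hω1, hωp⟩ : ∃ ω : ℂ, ω ≠ 1 ∧ ω ^ p = 1 := by
    have hprim := Complex.isPrimitiveRoot_exp p hp.ne_zero
    refine ⟨_, ?_, hprim.pow_eq_one⟩
    exact hprim.ne_one hp.one_lt
  have hω0 : ω ≠ 0 := by
    intro h
    rw [h, zero_pow hp.ne_zero] at hωp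
    exact zero_ne_one hωp
  obtain ⟨δ, hδπ, hδk⟩ := exists_twist π hπ ω hωp
  have hδ0 : ∀ a, δ a ≠ 0 := by
    intro a
    obtain ⟨k, hk⟩ := hδk a
    rw [hk]
    exact pow_ne_zero _ hω0
  have hδp : ∀ a, δ a ^ p = 1 := by
    intro a
    obtain ⟨k, hk⟩ := hδk a
    rw [hk, ← pow_mul, mul_comm, pow_mul, hωp, one_pow]
  set D : Matrix n n ℂ := Matrix.diagonal δ with hD
  set D' : Matrix n n ℂ := Matrix.diagonal (fun a => (δ a)⁻¹) with hD'
  have hDD' : D * D' = 1 := by
    rw [hD, hD', Matrix.diagonal_mul_diagonal]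
    rw [← Matrix.diagonal_one]
    congr 1
    funext a
    exact mul_inv_cancel₀ (hδ0 a)
  have hD'D : D' * D = 1 := by
    rw [hD, hD', Matrix.diagonal_mul_diagonal]
    rw [← Matrix.diagonal_one]
    congr 1
    funext a
    exact inv_mul_cancel₀ (hδ0 a)
  -- twisting relations
  have hDP : D * pmat π = ω • (pmat π * D) := by
    ext i j
    rw [hD, Matrix.diagonal_mul, Matrix.smul_apply, Matrix.mul_diagonal, smul_eq_mul]
    unfold pmat
    by_cases h : i = π j
    · rw [if_pos h, h, hδπ]; ring
    · rw [if_neg h]; ring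
  have hPD' : pmat π * D' = ω • (D' * pmat π) := by
    ext i j
    rw [hD', Matrix.mul_diagonal, Matrix.smul_apply, Matrix.diagonal_mul, smul_eq_mul]
    unfold pmat
    by_cases h : i = π j
    · rw [if_pos h, h, hδπ, mul_inv]
      field_simp
    · rw [if_neg h]; ring
  set F' : Matrix n n ℂ := D' * F * D with hF'def
  have hF' : F' * F' = F' := by
    rw [hF'def]
    calc D' * F * D * (D' * F * D) = D' * F * (D * D') * F * D := by
          simp only [mul_assoc]
      _ = D' * (F * F) * D := by rw [hDD', mul_one]; simp only [mul_assoc]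
      _ = D' * F * D := by rw [hF]
  have hN : EntI M (F' - F) := by
    intro i j
    have h1 : (F' - F) i j = F i j * ((δ i)⁻¹ * δ j - 1) := by
      rw [Matrix.sub_apply, hF'def, hD, Matrix.mul_diagonal, hD', Matrix.diagonal_mul]
      ring
    rw [h1]
    apply memLocalIdeal_mul_left hMp (hFR i j)
    apply memLocalIdeal_sub_one_of_pow_eq_one hM _ 1
    rw [pow_one, mul_pow, inv_pow, hδp, hδp, inv_one, one_mul]
  have hcF' : pmat π * F' = F' * pmat π := by
    rw [hF'def]
    have e1 : pmat π * (D' * F * D) = ω • (D' * (pmat π * F) * D) := by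
      rw [← mul_assoc, ← mul_assoc, hPD']
      simp only [Matrix.smul_mul, mul_assoc]
    have e2 : D' * F * D * pmat π = ω • (D' * (F * pmat π) * D) := by
      rw [mul_assoc (D' * F), hDP]
      simp only [Matrix.mul_smul, mul_assoc]
    rw [e1, e2, hc]
  have key := trace_mul_eq_of_idempotent_congr hMp hF hF' hFR hN hc hcF'
  have htr : (pmat π * F').trace = ω * (pmat π * F).trace := by
    rw [hF'def]
    calc (pmat π * (D' * F * D)).trace = ((pmat π * D' * F) * D).trace := by
          simp only [mul_assoc]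
      _ = (D * (pmat π * D' * F)).trace := Matrix.trace_mul_comm _ _
      _ = ((D * pmat π) * D' * F).trace := by simp only [mul_assoc]
      _ = (ω • (pmat π * (D * D') * F)).trace := by
          rw [hDP]; simp only [Matrix.smul_mul, mul_assoc]
      _ = ω * (pmat π * F).trace := by
          rw [hDD', mul_one, Matrix.trace_smul, smul_eq_mul]
  rw [htr] at key
  have h2 : (ω - 1) * (pmat π * F).trace = 0 := by
    rw [sub_mul, key, one_mul, sub_self]
  rcases mul_eq_zero.mp h2 with h | h
  · exact absurd (sub_eq_zero.mp h) hω1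
  · exact h

end Cfsg.Agent.Lib.Helper77_PermTrace
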