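import Cfsg.Agent.Lib.Helper81_CharOrth

/-!
# Completeness of irreducible characters (helper81)
-/

set_option autoImplicit false

namespace Cfsg.Agent.Lib.Helper81_CharComplete

open Cfsg Cfsg.Agent.Lib.Helper81_CharBasic Cfsg.Agent.Lib.Helper81_CharOrth

universe u

variable {G : Type u} [Group G]

section Central

variable {V : Type*} [AddCommGroup V] [Module ℂ V] [FiniteDimensional ℂ V]

omit [FiniteDimensional ℂ V] in
/-- A class-function-weighted sum of the operators of a representation commutes with the
representation. -/
theorem classSum_comm [Fintype G] (ρ : Representation ℂ G V) (f : G → ℂ)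
    (hf : IsClassFunction G f) (h : G) :
    (∑ g : G, f g • ρ g) * ρ h = ρ h * (∑ g : G, f g • ρ g) := by
  rw [Finset.sum_mul, Finset.mul_sum]
  have h1 : ∀ g : G, (f g • ρ g) * ρ h = f g • ρ (g * h) := by
    intro g; rw [smul_mul_assoc, map_mul]
  have h2 : ∀ g : G, ρ h * (f g • ρ g) = f g • ρ (h * g) := by
    intro g; rw [mul_smul_comm, map_mul]
  simp only [h1, h2]
  -- reindex g ↦ h * g * h⁻¹ on the left
  refine (Fintype.sum_equiv (MulAut.conj h).toEquiv _ _ ?_).symm
  intro g
  simp only [MulEquiv.toEquiv_eq_coe, MulEquiv.coe_toEquiv, MulAut.conj_apply]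
  rw [hf g h]
  congr 2
  group

/-- Schur: on an irreducible representation, a class-function-weighted sum of the operators is a
scalar, and the scalar times the degree is the obvious trace. -/
theorem classSum_eq_smul_id [Fintype G] (ρ : Representation ℂ G V) [ρ.IsIrreducible] (f : G → ℂ)
    (hf : IsClassFunction G f) :
    ∃ c : ℂ, (∑ g : G, f g • ρ g) = c • (LinearMap.id : V →ₗ[ℂ] V) ∧
      c * (Module.finrank ℂ V : ℂ) = ∑ g : G, f g * ρ.character g := by
  let T : Representation.IntertwiningMap ρ ρ :=
    ⟨∑ g : G, f g • ρ g, fun h => classSum_comm ρ f hf h⟩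
  obtain ⟨c, hc⟩ :=
    (Representation.IsIrreducible.algebraMap_intertwiningMap_bijective_of_isAlgClosed (ρ := ρ)).2 T
  have hT : (∑ g : G, f g • ρ g) = c • (LinearMap.id : V →ₗ[ℂ] V) := by
    have := congrArg Representation.IntertwiningMap.toLinearMap hc
    rw [Representation.IntertwiningMap.algebraMap_apply] at this
    rw [← show T.toLinearMap = ∑ g : G, f g • ρ g from rfl, ← this]
    rfl
  refine ⟨c, hT, ?_⟩
  have := congrArg (LinearMap.trace ℂ V) hT
  rw [map_smul, LinearMap.trace_id, map_sum] at this
  simp only [map_smul, smul_eq_mul] at this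
  rw [← this]
  rfl

end Central


section ModuleRep

open MonoidAlgebra

variable (M : Type*) [AddCommGroup M] [Module ℂ M] [Module (MonoidAlgebra ℂ G) M]
  [IsScalarTower ℂ (MonoidAlgebra ℂ G) M]

/-- The representation on a module over the group algebra, on the module itself. -/
noncomputable def repOfModule : Representation ℂ G M where
  toFun g :=
    { toFun := fun m => (MonoidAlgebra.single g (1 : ℂ)) • m
      map_add' := smul_add _
      map_smul' := fun c m => smul_comm _ _ _ }
  map_one' := by
    ext m
    show (MonoidAlgebra.single (1 : G) (1 : ℂ)) • m = m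
    rw [← MonoidAlgebra.one_def, one_smul]
  map_mul' g h := by
    ext m
    show (MonoidAlgebra.single (g * h) (1 : ℂ)) • m =
      (MonoidAlgebra.single g (1 : ℂ)) • ((MonoidAlgebra.single h (1 : ℂ)) • m)
    rw [← mul_smul, MonoidAlgebra.single_mul_single, one_mul]

theorem repOfModule_apply (g : G) (m : M) :
    repOfModule (G := G) M g m = (MonoidAlgebra.single g (1 : ℂ)) • m := rfl

/-- Subrepresentations of `repOfModule M` are the same as submodules over the group algebra. -/
noncomputable def subrepOrderIsoSubmodule :
    Subrepresentation (repOfModule (G := G) M) ≃o Submodule (MonoidAlgebra ℂ G) M where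
  toFun W :=
    { carrier := W.toSubmodule
      add_mem' := W.toSubmodule.add_mem
      zero_mem' := W.toSubmodule.zero_mem
      smul_mem' := by
        intro a m hm
        induction a using MonoidAlgebra.induction_linear with
        | zero => simp
        | add x y hx hy => rw [add_smul]; exact W.toSubmodule.add_mem hx hy
        | single g c =>
          have : (MonoidAlgebra.single g c : MonoidAlgebra ℂ G) • m
              = c • ((MonoidAlgebra.single g (1 : ℂ)) • m) := by
            rw [← smul_assoc, MonoidAlgebra.smul_single, smul_eq_mul, mul_one]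
          rw [this]
          exact W.toSubmodule.smul_mem c (W.apply_mem_toSubmodule g hm) }
  invFun N :=
    { toSubmodule := N.restrictScalars ℂ
      apply_mem_toSubmodule := fun g v hv => N.smul_mem _ hv }
  left_inv W := by
    apply Subrepresentation.toSubmodule_injective
    ext v; rfl
  right_inv N := by
    ext v; rfl
  map_rel_iff' := Iff.rfl

theorem repOfModule_isIrreducible [IsSimpleModule (MonoidAlgebra ℂ G) M] :
    (repOfModule (G := G) M).IsIrreducible :=
  (OrderIso.isSimpleOrder_iff (subrepOrderIsoSubmodule (G := G) M)).mpr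
    ((isSimpleModule_iff _ _).mp inferInstance)

end ModuleRep


section Completeness

open MonoidAlgebra

/-- The element `∑ f g • g` of the group algebra. -/
noncomputable def classElt [Fintype G] (f : G → ℂ) : MonoidAlgebra ℂ G :=
  ∑ g : G, MonoidAlgebra.single g (f g)

theorem classElt_apply [Fintype G] (f : G → ℂ) (g : G) : (classElt f).coeff g = f g := by
  classical
  unfold classElt
  rw [MonoidAlgebra.coeff_sum, Finsupp.finset_sum_apply]
  simp [MonoidAlgebra.coeff_single, Finsupp.single_apply]

theorem classElt_central [Fintype G] (f : G → ℂ) (hf : IsClassFunction G f)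
    (b : MonoidAlgebra ℂ G) : classElt f * b = b * classElt f := by
  induction b using MonoidAlgebra.induction_linear with
  | zero => simp
  | add x y hx hy => rw [mul_add, add_mul, hx, hy]
  | single h c =>
    unfold classElt
    rw [Finset.sum_mul, Finset.mul_sum]
    simp only [MonoidAlgebra.single_mul_single]
    refine (Fintype.sum_equiv (MulAut.conj h).toEquiv _ _ ?_).symm
    intro g
    simp only [MulEquiv.toEquiv_eq_coe, MulEquiv.coe_toEquiv, MulAut.conj_apply]
    rw [hf g h, mul_comm c]
    congr 1
    group

/-- **Completeness.** A class function orthogonal to every irreducible character is zero. -/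
theorem eq_zero_of_forall_irr_sum_mul_eq_zero [Fintype G] (f : G → ℂ) (hf : IsClassFunction G f)
    (h : ∀ χ : G → ℂ, IsIrrCharacter G χ → ∑ g : G, f g * χ g = 0) : f = 0 := by
  classical
  have hne : NeZero (Nat.card G : ℂ) := ⟨card_ne_zero⟩
  set z := classElt f with hz
  -- the left ideal of elements killed by `z`
  let I : Submodule (MonoidAlgebra ℂ G) (MonoidAlgebra ℂ G) :=
    { carrier := {a | z * a = 0}
      add_mem' := by
        intro a b ha hb
        change z * _ = 0 at ha hb; change z * _ = 0
        rw [mul_add, ha, hb, add_zero]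
      zero_mem' := by simp
      smul_mem' := by
        intro b a ha
        change z * _ = 0 at ha; change z * (b * a) = 0
        rw [← mul_assoc, classElt_central f hf b, mul_assoc, ha, mul_zero] }
  have hI : ∀ S : Submodule (MonoidAlgebra ℂ G) (MonoidAlgebra ℂ G),
      IsSimpleModule (MonoidAlgebra ℂ G) S → S ≤ I := by
    intro S hS v hv
    haveI : FiniteDimensional ℂ S :=
      Module.Finite.of_injective (S.subtype.restrictScalars ℂ) Subtype.val_injective
    haveI := repOfModule_isIrreducible (G := G) S
    obtain ⟨c, hc, hc2⟩ := classSum_eq_smul_id (repOfModule (G := G) S) f hf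
    have hirr : IsIrrCharacter G (repOfModule (G := G) S).character :=
      isIrrCharacter_of_rep _ inferInstance
    rw [h _ hirr] at hc2
    have hfr : (Module.finrank ℂ S : ℂ) ≠ 0 := by
      haveI : Nontrivial S := IsSimpleModule.nontrivial (MonoidAlgebra ℂ G) S
      exact_mod_cast (Module.finrank_pos (R := ℂ) (M := S)).ne'
    have hc0 : c = 0 := (mul_eq_zero.mp hc2).resolve_right hfr
    rw [hc0, zero_smul] at hc
    have := congrArg (fun T : Module.End ℂ S => ((T ⟨v, hv⟩ : S) : MonoidAlgebra ℂ G)) hc
    simp only [LinearMap.sum_apply, LinearMap.smul_apply, repOfModule_apply,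
      LinearMap.zero_apply, ZeroMemClass.coe_zero] at this
    show z * v = 0
    rw [← this, hz]
    unfold classElt
    rw [Finset.sum_mul]
    simp only [Submodule.coe_sum]
    refine Finset.sum_congr rfl fun g _ => ?_
    have e1 : (MonoidAlgebra.single g (f g) : MonoidAlgebra ℂ G)
        = f g • MonoidAlgebra.single g (1 : ℂ) := by
      rw [MonoidAlgebra.smul_single, smul_eq_mul, mul_one]
    rw [e1, smul_mul_assoc]
    rfl
  have htop : I = ⊤ := by
    rw [eq_top_iff, ← IsSemisimpleModule.sSup_simples_eq_top (MonoidAlgebra ℂ G) (MonoidAlgebra ℂ G)]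
    exact sSup_le fun S hS => hI S hS
  have h1 : (1 : MonoidAlgebra ℂ G) ∈ I := htop ▸ Submodule.mem_top
  have hz0 : z = 0 := by
    have : z * 1 = 0 := h1
    rwa [mul_one] at this
  funext g
  rw [← classElt_apply f g, ← hz, hz0]
  rfl

end Completeness

end Cfsg.Agent.Lib.Helper81_CharComplete
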