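import Cfsg.Agent.Lib.Helper78_Osima
import Cfsg.Agent.Lib.Helper80_CharBasic
import Cfsg.Agent.Lib.Helper81_CharComplete

/-!
# `CharFacts G` holds for every finite group (helper78)

Instantiates the interface of `Helper78_Osima` from the character-theory libraries of helper80
(`χ g⁻¹ = conj (χ g)`) and helper81 (first orthogonality, finiteness, completeness), and restates
the consequences without the `CharFacts` hypothesis, for `[Finite G]`.
-/

set_option autoImplicit false

namespace Cfsg.Agent.Lib.Helper78_CharFacts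

open Cfsg Cfsg.Agent.Lib.Helper78_LocalRing Cfsg.Agent.Lib.Helper78_Osima

open scoped ComplexConjugate

universe u

variable {G : Type u} [Group G]

theorem charFacts [Fintype G] : CharFacts G := by
  refine ⟨Cfsg.Agent.Lib.Helper81_CharOrth.finite_irrCharacter, ?_, ?_⟩
  · intro χ ψ
    unfold classInner
    have h1 : ∑ g : G, (χ : G → ℂ) g * conj ((ψ : G → ℂ) g) =
        ∑ g : G, (χ : G → ℂ) g * (ψ : G → ℂ) g⁻¹ := by
      refine Finset.sum_congr rfl fun g _ => ?_
      rw [Cfsg.Agent.Lib.Helper80_CharBasic.irr_inv ψ g]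
    rw [h1, Cfsg.Agent.Lib.Helper81_CharOrth.sum_irr_mul_irr_inv χ.2 ψ.2]
    have hG : (Nat.card G : ℂ) ≠ 0 := Cfsg.Agent.Lib.Helper81_CharOrth.card_ne_zero
    by_cases h : χ = ψ
    · have h' : (χ : G → ℂ) = (ψ : G → ℂ) := by rw [h]
      rw [if_pos h, if_pos h', inv_mul_cancel₀ hG]
    · have h' : (χ : G → ℂ) ≠ (ψ : G → ℂ) := fun h2 => h (Subtype.ext h2)
      rw [if_neg h, if_neg h', mul_zero]
  · intro f hf h
    have hconj : (fun g => conj (f g)) = 0 := by
      refine Cfsg.Agent.Lib.Helper81_CharComplete.eq_zero_of_forall_irr_sum_mul_eq_zero _ ?_ ?_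
      · intro g k
        show conj (f (k * g * k⁻¹)) = conj (f g)
        rw [hf g k]
      · intro χ hχ
        have h1 := h ⟨χ, hχ⟩
        unfold classInner at h1
        have hG : (Nat.card G : ℂ)⁻¹ ≠ 0 :=
          inv_ne_zero Cfsg.Agent.Lib.Helper81_CharOrth.card_ne_zero
        have h2 : ∑ g : G, f g * conj (χ g) = 0 := by
          rcases mul_eq_zero.mp h1 with h1 | h1
          · exact absurd h1 hG
          · exact h1
        have h3 : ∑ g : G, conj (f g) * χ g = conj (∑ g : G, f g * conj (χ g)) := by
          rw [map_sum]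
          refine Finset.sum_congr rfl fun g _ => ?_
          rw [map_mul, Complex.conj_conj]
        rw [h3, h2, map_zero]
    funext g
    have := congrFun hconj g
    simpa using this

variable [Finite G] {M : Ideal AlgInt}

/-- Osima's theorem (no extra hypotheses): a `SameBlock`-closed set of irreducible characters has
local-integer idempotent coefficients. -/
theorem osima' (hM : M.IsPrime) (S : Set (IrrCharacter G))
    (hS : ∀ χ ∈ S, ∀ ψ : IrrCharacter G, SameBlock M (χ : G → ℂ) (ψ : G → ℂ) → ψ ∈ S) (g : G) :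
    MemLocalRing M (blockCoeff S g) := by
  have := Fintype.ofFinite G
  exact osima charFacts hM S hS g

theorem osima_block' (hM : M.IsPrime) {B : Set (IrrCharacter G)} (hB : IsPBlock M B) (g : G) :
    MemLocalRing M (blockCoeff B g) := by
  have := Fintype.ofFinite G
  exact osima_block charFacts hM hB g

theorem mem_of_sameBlock_of_memLocalRing_blockCoeff' (hM : M.IsPrime) (S : Set (IrrCharacter G))
    (hS : ∀ g : G, MemLocalRing M (blockCoeff S g)) {χ ψ : IrrCharacter G} (hχ : χ ∈ S)
    (hsb : SameBlock M (χ : G → ℂ) (ψ : G → ℂ)) : ψ ∈ S := by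
  have := Fintype.ofFinite G
  exact mem_of_sameBlock_of_memLocalRing_blockCoeff charFacts hM S hS hχ hsb

theorem exists_isDefectClass' (hM : M.IsPrime) {B : Set (IrrCharacter G)} (hB : IsPBlock M B) :
    ∃ g : G, IsDefectClass M B g := by
  have := Fintype.ofFinite G
  exact exists_isDefectClass charFacts hM hB

end Cfsg.Agent.Lib.Helper78_CharFacts
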