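import Mathlib
import Cfsg.Prelude.Def_Blocks
import Cfsg.Agent.Lib.Helper78_LocalRing
import Cfsg.Agent.Lib.Helper78_CharFacts
import Cfsg.Agent.Lib.Helper77_MatrixLocal
import Cfsg.Agent.Lib.Helper77_PermTrace

/-!
# Weak block orthogonality (helper77)

For a set `S` of irreducible characters whose idempotent `∑_{χ∈S} e_χ` has local-integer
coefficients at `M` (for instance a block, or a union of blocks), a `p`-regular `x` and a
`p`-singular `y`: `∑_{χ∈S} χ x * conj (χ y) = 0`.
-/

set_option autoImplicit false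
set_option linter.unusedSectionVars false

namespace Cfsg.Agent.Lib.Helper77_WeakOrth

open Cfsg Cfsg.Agent.Lib.Helper78_LocalRing Cfsg.Agent.Lib.Helper77_MatrixLocal
  Cfsg.Agent.Lib.Helper77_PermTrace Cfsg.Agent.Lib.Helper78_Osima
  Cfsg.Agent.Lib.Helper78_CharFacts Cfsg.Agent.Lib.Helper78_CentralChar Matrix

open scoped ComplexConjugate

universe u

variable {G : Type u} [Group G]

/-- The permutation `g ↦ x * g * y⁻¹` of `G`. -/
def twoSided (x y : G) : Equiv.Perm G where
  toFun g := x * g * y⁻¹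
  invFun g := x⁻¹ * g * y
  left_inv g := by group
  right_inv g := by group

theorem twoSided_apply (x y g : G) : twoSided x y g = x * g * y⁻¹ := rfl

theorem twoSided_pow_apply (x y g : G) (j : ℕ) :
    ((twoSided x y) ^ j) g = x ^ j * g * (y ^ j)⁻¹ := by
  induction j generalizing g with
  | zero => simp
  | succ k ih =>
    rw [pow_succ, Equiv.Perm.mul_apply, ih, twoSided_apply, pow_succ, pow_succ]
    rw [_root_.mul_inv_rev]
    simp only [mul_assoc]

/-- If `x` is `p`-regular and `y` is `p`-singular, all cycles of `g ↦ x g y⁻¹` have length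
divisible by `p`. -/
theorem twoSided_fixed {p : ℕ} (hp : p.Prime) (x y : G) (hx : ¬ p ∣ orderOf x)
    (hy : p ∣ orderOf y) (j : ℕ) (g : G) (h : ((twoSided x y) ^ j) g = g) : p ∣ j := by
  rw [twoSided_pow_apply] at h
  have h1 : y ^ j = g⁻¹ * x ^ j * g := by
    have : x ^ j * g = g * y ^ j := by
      calc x ^ j * g = x ^ j * g * (y ^ j)⁻¹ * y ^ j := by group
        _ = g * y ^ j := by rw [h]
    rw [mul_assoc, this]; group
  have h2 : (y ^ j) ^ orderOf x = 1 := by
    rw [h1]
    have : (g⁻¹ * x ^ j * g) ^ orderOf x = g⁻¹ * (x ^ j) ^ orderOf x * g := by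
      have := conj_pow (a := g⁻¹) (b := x ^ j) (i := orderOf x)
      simpa using this
    rw [this, ← pow_mul, mul_comm, pow_mul, pow_orderOf_eq_one, one_pow]
    group
  rw [← pow_mul] at h2
  have h3 : orderOf y ∣ j * orderOf x := orderOf_dvd_of_pow_eq_one h2
  have h4 : p ∣ j * orderOf x := dvd_trans hy h3
  rcases hp.dvd_mul.mp h4 with h5 | h5
  · exact h5
  · exact absurd h5 hx

variable [Fintype G] [DecidableEq G]

/-- The matrix of convolution with `a`. -/
def emat (a : G → ℂ) : Matrix G G ℂ := fun h g => a (g⁻¹ * h)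

theorem emat_mul_emat (a b : G → ℂ) : emat a * emat b = emat (conv b a) := by
  ext h g
  rw [Matrix.mul_apply]
  unfold emat conv
  rw [← Equiv.sum_comp (Equiv.mulLeft g)]
  refine Finset.sum_congr rfl fun k _ => ?_
  simp only [Equiv.coe_mulLeft, inv_mul_cancel_left]
  rw [mul_comm, _root_.mul_inv_rev, mul_assoc]

theorem pmat_twoSided_comm_emat (x y : G) {a : G → ℂ} (ha : IsClassFunction G a) :
    pmat (twoSided x y) * emat a = emat a * pmat (twoSided x y) := by
  ext h g
  rw [pmat_mul_apply, mul_pmat_apply]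
  unfold emat
  show a (g⁻¹ * (x⁻¹ * h * y)) = a ((x * g * y⁻¹)⁻¹ * h)
  have : (x * g * y⁻¹)⁻¹ * h = y * (g⁻¹ * (x⁻¹ * h * y)) * y⁻¹ := by group
  rw [this, ha]

theorem trace_pmat_twoSided_mul_emat (x y : G) (a : G → ℂ) :
    (pmat (twoSided x y) * emat a).trace = ∑ g : G, a (y * (g⁻¹ * x⁻¹ * g)) := by
  rw [trace_pmat_mul]
  refine Finset.sum_congr rfl fun g _ => ?_
  unfold emat
  rw [twoSided_apply]
  congr 1
  group

theorem conv_blockCoeff_self (S : Set (IrrCharacter G)) :
    conv (blockCoeff S) (blockCoeff S) = blockCoeff S := by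
  have hcf := blockCoeff_isClassFunction S
  have hcc := conv_isClassFunction hcf hcf
  have h0 : conv (blockCoeff S) (blockCoeff S) - blockCoeff S = 0 := by
    apply eq_zero_of_omega_eq_zero charFacts
    · intro g h
      simp only [Pi.sub_apply]
      rw [hcc g h, hcf g h]
    · intro χ
      rw [omega_sub, omega_conv χ.2 _ hcf, omega_blockCoeff charFacts]
      by_cases hχ : χ ∈ S
      · simp [Set.indicator_of_mem hχ]
      · simp [Set.indicator_of_notMem hχ]
  exact sub_eq_zero.mp h0

theorem sum_blockCoeff_twoSided [Fintype (IrrCharacter G)] (S : Set (IrrCharacter G)) (x y : G) :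
    ∑ g : G, blockCoeff S (y * (g⁻¹ * x⁻¹ * g)) =
      ∑ χ : IrrCharacter G, S.indicator
        (fun χ : IrrCharacter G => (χ : G → ℂ) x * conj ((χ : G → ℂ) y)) χ := by
  have hG : (Nat.card G : ℂ) ≠ 0 := by
    exact_mod_cast (Nat.card_pos (α := G)).ne'
  simp_rw [blockCoeff_eq_sum S, ← Finset.mul_sum]
  rw [Finset.sum_comm]
  rw [Finset.mul_sum]
  refine Finset.sum_congr rfl fun χ _ => ?_
  by_cases hχ : χ ∈ S
  · simp only [Set.indicator_of_mem hχ]
    rw [← Finset.mul_sum, ← map_sum]
    have h1 : ∑ g : G, (χ : G → ℂ) (y * (g⁻¹ * x⁻¹ * g)) =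
        (Nat.card G : ℂ) * (χ : G → ℂ) y * (χ : G → ℂ) x⁻¹ / (χ : G → ℂ) 1 := by
      rw [← sum_mul_conj_of_isIrrCharacter χ.2 y x⁻¹]
      rw [← Equiv.sum_comp (Equiv.inv G)]
      refine Finset.sum_congr rfl fun g _ => ?_
      simp
    rw [h1, Cfsg.Agent.Lib.Helper80_CharBasic.irr_inv χ x]
    have hχ1 := isIrrCharacter_one_ne_zero χ.2
    have hreal : conj ((χ : G → ℂ) 1) = (χ : G → ℂ) 1 := by
      have := Cfsg.Agent.Lib.Helper80_CharBasic.irr_inv χ (1 : G)
      rw [inv_one] at this
      exact this.symm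
    rw [map_div₀, map_mul, map_mul, Complex.conj_conj, hreal, map_natCast]
    field_simp
  · simp only [Set.indicator_of_notMem hχ]
    simp

/-- **Weak block orthogonality**, for a set of irreducible characters whose idempotent has
local-integer coefficients. -/
theorem weak_orthogonality {p : ℕ} {M : Ideal AlgInt} (hM : IsPModular p M)
    (S : Set (IrrCharacter G)) (hS : ∀ g : G, MemLocalRing M (blockCoeff S g))
    (x y : G) (hx : ¬ p ∣ orderOf x) (hy : p ∣ orderOf y) :
    ∑ᶠ χ ∈ S, (χ : G → ℂ) x * conj ((χ : G → ℂ) y) = 0 := by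
  have hfin : Finite (IrrCharacter G) := charFacts.finite
  have := Fintype.ofFinite (IrrCharacter G)
  rw [finsum_mem_def, finsum_eq_sum_of_fintype, ← sum_blockCoeff_twoSided S x y,
    ← trace_pmat_twoSided_mul_emat]
  apply trace_pmat_mul_idempotent_eq_zero hM
  · exact fun j a h => twoSided_fixed hM.1 x y hx hy j a h
  · rw [emat_mul_emat, conv_blockCoeff_self]
  · intro h g
    exact hS _
  · exact pmat_twoSided_comm_emat x y (blockCoeff_isClassFunction S)

/-- Osima: the idempotent of such a set vanishes at the `p`-singular elements. -/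
theorem blockCoeff_eq_zero_of_sing {p : ℕ} {M : Ideal AlgInt} (hM : IsPModular p M)
    (S : Set (IrrCharacter G)) (hS : ∀ g : G, MemLocalRing M (blockCoeff S g))
    (y : G) (hy : p ∣ orderOf y) : blockCoeff S y = 0 := by
  unfold blockCoeff
  have h1 : ¬ p ∣ orderOf (1 : G) := by
    rw [orderOf_one]
    exact hM.1.one_lt.ne' ∘ Nat.dvd_one.mp
  rw [weak_orthogonality hM S hS 1 y h1 hy, mul_zero]

end Cfsg.Agent.Lib.Helper77_WeakOrth

namespace Cfsg.Agent.Lib.Helper77_WeakOrth

open Cfsg Cfsg.Agent.Lib.Helper78_LocalRing Cfsg.Agent.Lib.Helper78_CharFacts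

open scoped ComplexConjugate

/-- **Weak block orthogonality** for a block of a finite group. -/
theorem weak_orthogonality_block {G : Type*} [Group G] [Finite G] {p : ℕ} {M : Ideal AlgInt}
    (hM : IsPModular p M) {B : Set (IrrCharacter G)} (hB : IsPBlock M B)
    (x y : G) (hx : ¬ p ∣ orderOf x) (hy : p ∣ orderOf y) :
    ∑ᶠ χ ∈ B, (χ : G → ℂ) x * conj ((χ : G → ℂ) y) = 0 := by
  classical
  have := Fintype.ofFinite G
  exact weak_orthogonality hM B (fun g => osima_block' hM.2.1.isPrime hB g) x y hx hy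

/-- The block idempotent vanishes at the `p`-singular elements. -/
theorem blockCoeff_block_eq_zero_of_sing {G : Type*} [Group G] [Finite G] {p : ℕ}
    {M : Ideal AlgInt} (hM : IsPModular p M) {B : Set (IrrCharacter G)} (hB : IsPBlock M B)
    (y : G) (hy : p ∣ orderOf y) : blockCoeff B y = 0 := by
  classical
  have := Fintype.ofFinite G
  exact blockCoeff_eq_zero_of_sing hM B (fun g => osima_block' hM.2.1.isPrime hB g) y hy

end Cfsg.Agent.Lib.Helper77_WeakOrth
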