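import Cfsg.Agent.Lib.Helper81_FrobSchur

/-!
# Second orthogonality; closure of irreducible characters under twists and conjugation (helper81)
-/

set_option autoImplicit false

namespace Cfsg.Agent.Lib.Helper81_CharOrth2

open Cfsg Cfsg.Agent.Lib.Helper81_CharBasic Cfsg.Agent.Lib.Helper81_CharOrth
  Cfsg.Agent.Lib.Helper81_CharComplete Cfsg.Agent.Lib.Helper81_CharExpand
  Cfsg.Agent.Lib.Helper81_CharSchur Cfsg.Agent.Lib.Helper81_FrobSchur

universe u

section SecondOrth

variable {G : Type u} [Group G]

/-- The number of elements conjugating `x` to `b`, as a function of `x`. -/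
noncomputable def conjCount (G : Type*) [Group G] (b x : G) : ℂ :=
  (Nat.card {c : G // c * x * c⁻¹ = b} : ℂ)

theorem conjCount_classFunction (G : Type*) [Group G] (b : G) :
    IsClassFunction G (conjCount G b) := by
  intro x h
  unfold conjCount
  congr 1
  refine Nat.card_congr ⟨fun c => ⟨c.1 * h, ?_⟩, fun c => ⟨c.1 * h⁻¹, ?_⟩, ?_, ?_⟩
  · have := c.2
    calc c.1 * h * x * (c.1 * h)⁻¹ = c.1 * (h * x * h⁻¹) * c.1⁻¹ := by group
      _ = b := this
  · have := c.2
    calc c.1 * h⁻¹ * (h * x * h⁻¹) * (c.1 * h⁻¹)⁻¹ = c.1 * x * c.1⁻¹ := by group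
      _ = b := this
  · intro c; apply Subtype.ext; simp
  · intro c; apply Subtype.ext; simp

/-- **Second orthogonality relation**: `∑_χ χ(a) χ(b⁻¹)` is the number of elements conjugating
`a` to `b` (that is, `|C_G(a)|` if `a` and `b` are conjugate and `0` otherwise). -/
theorem second_orthogonality [Fintype G] [Fintype (IrrCharacter G)] (a b : G) :
    ∑ χ : IrrCharacter G, (χ : G → ℂ) a * (χ : G → ℂ) b⁻¹
      = (Nat.card {c : G // c * a * c⁻¹ = b} : ℂ) := by
  classical
  have hexp := classFunction_expansion_apply (conjCount G b) (conjCount_classFunction G b) a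
  have hc : (Nat.card G : ℂ) ≠ 0 := card_ne_zero
  show _ = conjCount G b a
  rw [hexp]
  refine Finset.sum_congr rfl fun χ _ => ?_
  have h1 : ∀ x : G, conjCount G b x = (Nat.card {c : G // c⁻¹ * b * c = x} : ℂ) := by
    intro x
    unfold conjCount
    congr 1
    refine Nat.card_congr (Equiv.subtypeEquivRight fun c => ?_)
    constructor
    · intro h; rw [← h]; group
    · intro h; rw [← h]; group
  have h2 : ∑ g : G, conjCount G b g * (χ : G → ℂ) g⁻¹ = (Nat.card G : ℂ) * (χ : G → ℂ) b⁻¹ := by
    simp only [h1]
    rw [sum_card_fiber_mul (fun c : G => c⁻¹ * b * c) (fun w => (χ : G → ℂ) w⁻¹)]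
    have h3 : ∀ c : G, (χ : G → ℂ) (c⁻¹ * b * c)⁻¹ = (χ : G → ℂ) b⁻¹ := by
      intro c
      have := isClassFunction_irr χ b⁻¹ c⁻¹
      rw [← this]
      congr 1
      group
    simp only [h3, Finset.sum_const, Finset.card_univ, nsmul_eq_mul, Nat.card_eq_fintype_card]
  rw [h2]
  field_simp

end SecondOrth

section Twist

variable {G : Type u} [Group G]

/-- Twisting a representation by a group isomorphism. -/
noncomputable def twistRep {H : Type*} [Group H] {V : Type*} [AddCommGroup V] [Module ℂ V]
    (ρ : Representation ℂ G V) (φ : H ≃* G) : Representation ℂ H V :=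
  ρ.comp φ.toMonoidHom

theorem twistRep_apply {H : Type*} [Group H] {V : Type*} [AddCommGroup V] [Module ℂ V]
    (ρ : Representation ℂ G V) (φ : H ≃* G) (h : H) : twistRep ρ φ h = ρ (φ h) := rfl

theorem twistRep_isIrreducible {H : Type*} [Group H] {V : Type*} [AddCommGroup V] [Module ℂ V]
    (ρ : Representation ℂ G V) (φ : H ≃* G) (hρ : ρ.IsIrreducible) :
    (twistRep ρ φ).IsIrreducible := by
  let e : Subrepresentation (twistRep ρ φ) ≃o Subrepresentation ρ :=
    { toFun := fun W => ⟨W.toSubmodule, fun g v hv => by
        have := W.apply_mem_toSubmodule (φ.symm g) hv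
        rwa [twistRep_apply, MulEquiv.apply_symm_apply] at this⟩
      invFun := fun W => ⟨W.toSubmodule, fun h v hv => W.apply_mem_toSubmodule (φ h) hv⟩
      left_inv := fun W => rfl
      right_inv := fun W => rfl
      map_rel_iff' := Iff.rfl }
  exact (OrderIso.isSimpleOrder_iff e).mpr hρ

/-- Irreducible characters pull back to irreducible characters along group isomorphisms. -/
theorem isIrrCharacter_comp_mulEquiv {H : Type*} [Group H] (φ : H ≃* G) {χ : G → ℂ}
    (h : IsIrrCharacter G χ) : IsIrrCharacter H (χ ∘ φ) := by
  obtain ⟨n, ρ, hρ, rfl⟩ := h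
  exact ⟨n, twistRep ρ φ, twistRep_isIrreducible ρ φ hρ, rfl⟩

end Twist

section DualIrr

variable {G : Type u} [Group G]
variable {V : Type*} [AddCommGroup V] [Module ℂ V] [FiniteDimensional ℂ V]

/-- The dual of an irreducible finite-dimensional representation is irreducible. -/
theorem dual_isIrreducible (ρ : Representation ℂ G V) [hρ : ρ.IsIrreducible] :
    ρ.dual.IsIrreducible := by
  have hV : Nontrivial V := by
    have := finrank_ne_zero_of_irreducible ρ
    have h2 : 0 < Module.finrank ℂ V := by
      rcases Nat.eq_zero_or_pos (Module.finrank ℂ V) with h | h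
      · rw [h] at this; simp at this
      · exact h
    exact Module.finrank_pos_iff.mp h2
  refine { exists_pair_ne := ⟨⊥, ⊤, ?_⟩, eq_bot_or_eq_top := ?_ }
  · intro hbt
    have h1 := congrArg Subrepresentation.toSubmodule hbt
    have h2 : (⊥ : Submodule ℂ (Module.Dual ℂ V)) = ⊤ := h1
    have : Nontrivial (Module.Dual ℂ V) := by
      have : 0 < Module.finrank ℂ (Module.Dual ℂ V) := by
        rw [Subspace.dual_finrank_eq]; exact Module.finrank_pos
      exact Module.finrank_pos_iff.mp this
    exact bot_ne_top h2
  · intro W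
    let W0 : Subrepresentation ρ :=
      ⟨W.toSubmodule.dualCoannihilator, by
        intro g v hv
        rw [Submodule.mem_dualCoannihilator] at hv ⊢
        intro φ hφ
        have h1 := W.apply_mem_toSubmodule g⁻¹ hφ
        have h2 := hv _ h1
        rw [Representation.dual_apply, inv_inv] at h2
        exact h2⟩
    have key : W.toSubmodule.dualCoannihilator.dualAnnihilator = W.toSubmodule :=
      Subspace.dualCoannihilator_dualAnnihilator_eq
    rcases eq_bot_or_eq_top W0 with h0 | h0
    · right
      apply Subrepresentation.toSubmodule_injective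
      have h1 : W.toSubmodule.dualCoannihilator = ⊥ := congrArg Subrepresentation.toSubmodule h0
      rw [← key, h1]
      exact Submodule.dualAnnihilator_bot
    · left
      apply Subrepresentation.toSubmodule_injective
      have h1 : W.toSubmodule.dualCoannihilator = ⊤ := congrArg Subrepresentation.toSubmodule h0
      rw [← key, h1]
      exact Submodule.dualAnnihilator_top

end DualIrr

section Conj

variable {G : Type u} [Group G]

/-- The inverse-twist (complex conjugate, for finite groups) of an irreducible character is an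
irreducible character. -/
theorem isIrrCharacter_comp_inv {χ : G → ℂ} (h : IsIrrCharacter G χ) :
    IsIrrCharacter G (fun g => χ g⁻¹) := by
  obtain ⟨n, ρ, hρ, rfl⟩ := h
  haveI := hρ
  have h1 := isIrrCharacter_of_rep ρ.dual (dual_isIrreducible ρ)
  have h2 : ρ.dual.character = fun g => ρ.character g⁻¹ := by
    funext g
    exact Representation.char_dual ρ g
  rwa [h2] at h1

open scoped ComplexConjugate in
/-- The complex conjugate of an irreducible character of a finite group is an irreducible
character. -/
theorem isIrrCharacter_conj [Finite G] {χ : G → ℂ} (h : IsIrrCharacter G χ) :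
    IsIrrCharacter G (fun g => conj (χ g)) := by
  have h1 := isIrrCharacter_comp_inv h
  have h2 : (fun g => χ g⁻¹) = fun g => conj (χ g) := by
    funext g
    exact Cfsg.Agent.Lib.Helper80_CharBasic.irr_inv ⟨χ, h⟩ g
  rwa [h2] at h1

end Conj

end Cfsg.Agent.Lib.Helper81_CharOrth2
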