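import Mathlib
import Cfsg.Prelude.Def_LinearParabolics
import Cfsg.Agent.S2424

/-!
# The degree of the Steinberg character of `GL_n(q)` (helper81)

Specialisation of the degree formula S2424 to `ν = (1,…,1)`: the degree is `q^(n(n-1)/2)`.
-/

set_option autoImplicit false
open scoped MatrixGroups

namespace Cfsg.Agent.Lib.Helper81_StDegree

open Cfsg.Agent.S2424

/-- the Vandermonde-type product `∏_{i<j<n} (Q(j+1) - Q(i+1))` -/
noncomputable def DD (q n : ℕ) : ℂ :=
  ∏ i : Fin n, ∏ j ∈ Finset.univ.filter (fun j : Fin n => i < j),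
    (((Q q (1 + j.val) : ℕ) : ℂ) - ((Q q (1 + i.val) : ℕ) : ℂ))

theorem filter_succ {n : ℕ} (i : Fin n) :
    Finset.univ.filter (fun j : Fin (n + 1) => i.castSucc < j) =
      insert (Fin.last n) ((Finset.univ.filter (fun j : Fin n => i < j)).map Fin.castSuccEmb) := by
  ext j
  simp only [Finset.mem_filter, Finset.mem_univ, true_and, Finset.mem_insert, Finset.mem_map,
    Fin.coe_castSuccEmb]
  constructor
  · intro h
    rcases Fin.eq_castSucc_or_eq_last j with ⟨j', rfl⟩ | rfl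
    · right
      exact ⟨j', Fin.castSucc_lt_castSucc_iff.mp h, rfl⟩
    · left; rfl
  · rintro (rfl | ⟨j', hj', rfl⟩)
    · exact Fin.castSucc_lt_last i
    · exact Fin.castSucc_lt_castSucc_iff.mpr hj'

theorem DD_succ (q n : ℕ) :
    DD q (n + 1) = DD q n * ∏ i : Fin n, (((Q q (1 + n) : ℕ) : ℂ) - ((Q q (1 + i.val) : ℕ) : ℂ)) := by
  unfold DD
  rw [Fin.prod_univ_castSucc]
  have hlast : Finset.univ.filter (fun j : Fin (n + 1) => Fin.last n < j) = ∅ := by
    ext j
    simp only [Finset.mem_filter, Finset.mem_univ, true_and, Finset.notMem_empty, iff_false,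
      not_lt]
    exact Fin.le_last j
  rw [hlast, Finset.prod_empty, mul_one, ← Finset.prod_mul_distrib]
  apply Finset.prod_congr rfl
  intro i _
  rw [filter_succ, Finset.prod_insert, Finset.prod_map, mul_comm]
  · rfl
  · intro h
    rw [Finset.mem_map] at h
    obtain ⟨j', _, hj'⟩ := h
    exact absurd hj' (Fin.castSucc_lt_last j').ne

theorem Q_sub (q n i : ℕ) (hi : i < n) :
    ((Q q (1 + n) : ℕ) : ℂ) - ((Q q (1 + i) : ℕ) : ℂ) = (q : ℂ) ^ (1 + i) * ((Q q (n - i) : ℕ) : ℂ) := by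
  have h := Q_split q (1 + n) (1 + i) (by omega)
  have e : 1 + n - (1 + i) = n - i := by omega
  rw [h, e]
  push_cast
  ring

theorem prod_Q_sub (q n : ℕ) :
    ∏ i : Fin n, (((Q q (1 + n) : ℕ) : ℂ) - ((Q q (1 + i.val) : ℕ) : ℂ)) =
      (q : ℂ) ^ (tri (n + 1)) * ((Qf q n : ℕ) : ℂ) := by
  rw [Fin.prod_univ_eq_prod_range
    (fun i => ((Q q (1 + n) : ℕ) : ℂ) - ((Q q (1 + i) : ℕ) : ℂ)) n]
  have h1 : ∏ i ∈ Finset.range n, (((Q q (1 + n) : ℕ) : ℂ) - ((Q q (1 + i) : ℕ) : ℂ)) =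
      ∏ i ∈ Finset.range n, ((q : ℂ) ^ (1 + i) * ((Q q (n - i) : ℕ) : ℂ)) := by
    apply Finset.prod_congr rfl
    intro i hi
    exact Q_sub q n i (Finset.mem_range.mp hi)
  rw [h1, Finset.prod_mul_distrib, Finset.prod_pow_eq_pow_sum]
  congr 1
  · congr 1
    unfold tri
    rw [Finset.sum_range_succ']
    simp only [add_comm]
    simp
  · unfold Qf
    push_cast
    rw [← Finset.prod_range_reflect]
    apply Finset.prod_congr rfl
    intro i hi
    rw [Finset.mem_range] at hi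
    congr 2
    omega

/-- `∏_{i<n} Q!(i+1)` -/
noncomputable def AA (q n : ℕ) : ℂ :=
  ∏ i : Fin n, ∏ j ∈ Finset.range (1 + i.val), ((Q q (j + 1) : ℕ) : ℂ)

theorem AA_succ (q n : ℕ) : AA q (n + 1) = AA q n * ((Qf q (n + 1) : ℕ) : ℂ) := by
  unfold AA
  rw [Fin.prod_univ_castSucc]
  congr 1
  unfold Qf
  push_cast
  rw [add_comm 1 n]

theorem key (q n : ℕ) :
    (q : ℂ) ^ (tri n) * (q : ℂ) ^ (∑ j ∈ Finset.range n, tri j) * AA q n =
      ((Qf q n : ℕ) : ℂ) * DD q n := by
  induction n with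
  | zero => simp [tri, AA, DD, Qf]
  | succ n ih =>
    rw [AA_succ, DD_succ, prod_Q_sub, Finset.sum_range_succ, tri_succ, pow_add, pow_add]
    have : ((Qf q (n + 1) : ℕ) : ℂ) = ((Qf q n : ℕ) : ℂ) * ((Q q (n + 1) : ℕ) : ℂ) := by
      rw [Qf_succ]; push_cast; rfl
    linear_combination ((q : ℂ) ^ n * (q : ℂ) ^ tri n * ((Qf q (n + 1) : ℕ) : ℂ)) * ih

theorem tri_eq (n : ℕ) : tri n = n * (n - 1) / 2 := by
  rcases n with _ | n
  · simp [tri]
  · have := two_tri_succ n
    have e : n + 1 - 1 = n := by omega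
    rw [e]
    omega

/-- the degree of the Steinberg character of `GL_n(q)` -/
theorem st_degree {F : Type*} [Field F] [Fintype F] (n : ℕ) :
    Cfsg.unipotentCharacterGL n F (fun _ => 1) 1 = (Fintype.card F : ℂ) ^ (n * (n - 1) / 2) := by
  have hq : 1 ≤ Fintype.card F := Fintype.card_pos
  have h := Cfsg.Agent.S2424.result (F := F) (q := Fintype.card F) rfl (fun _ : Fin n => 1)
    monotone_const (by simp)
  have hk := key (Fintype.card F) n
  rw [sum_tri, tri_eq] at hk
  have hA : (∏ i : Fin n, ∏ j ∈ Finset.range (1 + i.val),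
      ((∑ l ∈ Finset.range (j + 1), Fintype.card F ^ l : ℕ) : ℂ)) = AA (Fintype.card F) n := rfl
  have hD : (∏ i : Fin n, ∏ j ∈ Finset.univ.filter (fun j : Fin n => i < j),
      (((∑ l ∈ Finset.range (1 + j.val), Fintype.card F ^ l : ℕ) : ℂ) -
        ((∑ l ∈ Finset.range (1 + i.val), Fintype.card F ^ l : ℕ) : ℂ))) = DD (Fintype.card F) n := rfl
  have hQf : (∏ j ∈ Finset.range n, ((∑ l ∈ Finset.range (j + 1), Fintype.card F ^ l : ℕ) : ℂ)) =
      ((Qf (Fintype.card F) n : ℕ) : ℂ) := by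
    unfold Qf Q
    push_cast
    rfl
  rw [hA, hD, hQf, ← hk] at h
  have hne : ((Fintype.card F : ℕ) : ℂ) ^ (n * (n - 1) * (n - 2) / 6) * AA (Fintype.card F) n ≠ 0 := by
    apply mul_ne_zero
    · apply pow_ne_zero
      exact_mod_cast (by omega : Fintype.card F ≠ 0)
    · unfold AA
      apply Finset.prod_ne_zero_iff.mpr
      intro i _
      apply Finset.prod_ne_zero_iff.mpr
      intro j _
      have : 0 < Q (Fintype.card F) (j + 1) := by
        unfold Q
        rw [Finset.sum_range_succ']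
        simp
      exact_mod_cast this.ne'
  apply mul_right_cancel₀ hne
  linear_combination h

end Cfsg.Agent.Lib.Helper81_StDegree
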