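import Mathlib
import Cfsg.Prelude.Def_Characters
import Cfsg.Agent.Lib.Helper75_CharArith
import Cfsg.Agent.Lib.Helper3_CharOrtho
import Cfsg.Agent.Lib.Helper3_CharBridge
import Cfsg.Agent.Lib.Helper80_CharBasic

/-!
# Differences of characters of small norm (helper39)

A difference of two characters of norm one and positive degree is an irreducible character; a
difference of norm two is `± χ₁ ± χ₂` for two different irreducible characters.
-/

set_option autoImplicit false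

namespace Cfsg.Agent.Lib.Helper39_Virtual

open scoped ComplexConjugate
open Cfsg.Agent.Lib.Helper75_CharArith (exists_multiplicities classInner_self_eq_sum)
open Cfsg.Agent.Lib.Helper3_CharOrtho (classInner_sub_left)
open Cfsg.Agent.Lib.Helper3_CharBridge (isClassFunction_of_isCharacter)

section ints

variable {ι : Type*} [DecidableEq ι]

/-- A sum of integer squares equal to one has exactly one non-zero term. -/
theorem sum_sq_eq_one (S : Finset ι) (c : ι → ℤ) (h : ∑ i ∈ S, c i ^ 2 = 1) :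
    ∃ i ∈ S, c i ^ 2 = 1 ∧ ∀ j ∈ S, j ≠ i → c j = 0 := by
  have hex : ∃ i ∈ S, c i ≠ 0 := by
    by_contra hno
    push Not at hno
    have : ∑ i ∈ S, c i ^ 2 = 0 := Finset.sum_eq_zero (fun i hi => by rw [hno i hi]; ring)
    omega
  obtain ⟨i, hi, hci⟩ := hex
  have hsplit := Finset.add_sum_erase S (fun j => c j ^ 2) hi
  have hnn : 0 ≤ ∑ j ∈ S.erase i, c j ^ 2 := Finset.sum_nonneg (fun j _ => sq_nonneg _)
  have h1 : 1 ≤ c i ^ 2 := by
    have : 0 < c i ^ 2 := by positivity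
    omega
  have hrest : ∑ j ∈ S.erase i, c j ^ 2 = 0 := by
    omega
  refine ⟨i, hi, by omega, ?_⟩
  intro j hj hji
  have := (Finset.sum_eq_zero_iff_of_nonneg (fun j _ => sq_nonneg (c j))).1 hrest j
    (Finset.mem_erase.2 ⟨hji, hj⟩)
  exact pow_eq_zero_iff (two_ne_zero) |>.1 this

/-- A sum of integer squares equal to two has exactly two non-zero terms, both `± 1`. -/
theorem sum_sq_eq_two (S : Finset ι) (c : ι → ℤ) (h : ∑ i ∈ S, c i ^ 2 = 2) :
    ∃ i ∈ S, ∃ j ∈ S, i ≠ j ∧ c i ^ 2 = 1 ∧ c j ^ 2 = 1 ∧ ∀ k ∈ S, k ≠ i → k ≠ j → c k = 0 := by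
  have hex : ∃ i ∈ S, c i ≠ 0 := by
    by_contra hno
    push Not at hno
    have : ∑ i ∈ S, c i ^ 2 = 0 := Finset.sum_eq_zero (fun i hi => by rw [hno i hi]; ring)
    omega
  obtain ⟨i, hi, hci⟩ := hex
  have hsplit := Finset.add_sum_erase S (fun j => c j ^ 2) hi
  have hnn : 0 ≤ ∑ j ∈ S.erase i, c j ^ 2 := Finset.sum_nonneg (fun j _ => sq_nonneg _)
  have h1 : c i ^ 2 = 1 := by
    have hpos : 0 < c i ^ 2 := by positivity
    have hle : c i ^ 2 ≤ 2 := by omega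
    have habs : |c i| ≤ 1 := by
      by_contra hgt
      push Not at hgt
      have : 2 ≤ |c i| := by omega
      have h4 : 4 ≤ |c i| ^ 2 := by nlinarith
      rw [sq_abs] at h4
      omega
    have : |c i| ^ 2 ≤ 1 := by nlinarith [abs_nonneg (c i)]
    rw [sq_abs] at this
    omega
  have hrest : ∑ j ∈ S.erase i, c j ^ 2 = 1 := by omega
  obtain ⟨j, hj, hcj, hothers⟩ := sum_sq_eq_one (S.erase i) c hrest
  refine ⟨i, hi, j, Finset.mem_of_mem_erase hj, (Finset.ne_of_mem_erase hj).symm, h1, hcj, ?_⟩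
  intro k hk hki hkj
  exact hothers k (Finset.mem_erase.2 ⟨hki, hk⟩) hkj

end ints

variable {G : Type*} [Group G] [Fintype G]

/-- The integer coefficients of a difference of two characters. -/
theorem exists_int_coeffs {ξ₁ ξ₂ : G → ℂ} (h₁ : Cfsg.IsCharacter G ξ₁)
    (h₂ : Cfsg.IsCharacter G ξ₂) :
    ∃ c : Cfsg.IrrCharacter G → ℤ,
      (∀ χ : Cfsg.IrrCharacter G, Cfsg.classInner (ξ₁ - ξ₂) χ = (c χ : ℂ)) ∧
      ξ₁ - ξ₂ = ∑ χ : Cfsg.IrrCharacter G, (c χ : ℂ) • (χ : G → ℂ) ∧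
      Cfsg.classInner (ξ₁ - ξ₂) (ξ₁ - ξ₂) = ((∑ χ : Cfsg.IrrCharacter G, c χ ^ 2 : ℤ) : ℂ) := by
  obtain ⟨m₁, hm₁, hs₁⟩ := exists_multiplicities h₁
  obtain ⟨m₂, hm₂, hs₂⟩ := exists_multiplicities h₂
  have hc : ∀ χ : Cfsg.IrrCharacter G,
      Cfsg.classInner (ξ₁ - ξ₂) χ = (((m₁ χ : ℤ) - (m₂ χ : ℤ) : ℤ) : ℂ) := by
    intro χ
    rw [classInner_sub_left, hm₁, hm₂]
    push_cast
    rfl
  have hcl : Cfsg.IsClassFunction G (ξ₁ - ξ₂) := by
    intro g h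
    simp only [Pi.sub_apply]
    rw [isClassFunction_of_isCharacter h₁ g h, isClassFunction_of_isCharacter h₂ g h]
  refine ⟨fun χ => (m₁ χ : ℤ) - (m₂ χ : ℤ), hc, ?_, ?_⟩
  · conv_lhs => rw [hs₁, hs₂]
    rw [← Finset.sum_sub_distrib]
    apply Finset.sum_congr rfl
    intro χ _
    push_cast
    rw [sub_smul]
  · rw [classInner_self_eq_sum hcl]
    push_cast
    apply Finset.sum_congr rfl
    intro χ _
    rw [hc χ]
    push_cast
    simp only [map_sub, map_natCast]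
    ring

/-- A difference of two characters of norm one and positive degree is irreducible. -/
theorem isIrrCharacter_of_norm_one {ξ₁ ξ₂ : G → ℂ} (h₁ : Cfsg.IsCharacter G ξ₁)
    (h₂ : Cfsg.IsCharacter G ξ₂)
    (hn : Cfsg.classInner (ξ₁ - ξ₂) (ξ₁ - ξ₂) = 1) (hpos : 0 < ((ξ₁ - ξ₂) 1).re) :
    Cfsg.IsIrrCharacter G (ξ₁ - ξ₂) := by
  classical
  obtain ⟨c, hc, hsum, hnorm⟩ := exists_int_coeffs h₁ h₂
  rw [hn] at hnorm
  have h1 : ∑ χ : Cfsg.IrrCharacter G, c χ ^ 2 = 1 := by exact_mod_cast hnorm.symm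
  obtain ⟨χ₀, -, hχ₀, hoth⟩ := sum_sq_eq_one Finset.univ c h1
  have hval : ξ₁ - ξ₂ = (c χ₀ : ℂ) • (χ₀ : G → ℂ) := by
    rw [hsum]
    apply Finset.sum_eq_single χ₀
    · intro χ _ hne
      rw [hoth χ (Finset.mem_univ _) hne]
      simp
    · intro h; exact absurd (Finset.mem_univ _) h
  obtain ⟨n, hn0, hn1⟩ := Cfsg.Agent.Lib.Helper80_CharBasic.irr_apply_one χ₀
  have hc1 : c χ₀ = 1 := by
    have h2 : (c χ₀ - 1) * (c χ₀ + 1) = 0 := by linear_combination hχ₀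
    rcases mul_eq_zero.1 h2 with h | h
    · omega
    · exfalso
      have h3 : c χ₀ = -1 := by omega
      have h4 := congrFun hval 1
      rw [h3, Pi.smul_apply, hn1] at h4
      rw [h4] at hpos
      simp at hpos
      have : (0 : ℝ) < n := by exact_mod_cast hn0
      linarith
  rw [hval, hc1]
  simp only [Int.cast_one, one_smul]
  exact χ₀.2


/-- A difference of two characters of norm two is `± χ₁ ± χ₂` with `χ₁ ≠ χ₂` irreducible. -/
theorem two_irr_of_norm_two {ξ₁ ξ₂ : G → ℂ} (h₁ : Cfsg.IsCharacter G ξ₁)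
    (h₂ : Cfsg.IsCharacter G ξ₂)
    (hn : Cfsg.classInner (ξ₁ - ξ₂) (ξ₁ - ξ₂) = 2) :
    ∃ χ₁ χ₂ : Cfsg.IrrCharacter G, χ₁ ≠ χ₂ ∧ ∃ e₁ e₂ : ℤ, (e₁ = 1 ∨ e₁ = -1) ∧
      (e₂ = 1 ∨ e₂ = -1) ∧
      ξ₁ - ξ₂ = (e₁ : ℂ) • (χ₁ : G → ℂ) + (e₂ : ℂ) • (χ₂ : G → ℂ) := by
  classical
  obtain ⟨c, hc, hsum, hnorm⟩ := exists_int_coeffs h₁ h₂
  rw [hn] at hnorm
  have h1 : ∑ χ : Cfsg.IrrCharacter G, c χ ^ 2 = 2 := by exact_mod_cast hnorm.symm
  obtain ⟨χ₁, -, χ₂, -, hne, hc₁, hc₂, hoth⟩ := sum_sq_eq_two Finset.univ c h1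
  have hpm : ∀ e : ℤ, e ^ 2 = 1 → e = 1 ∨ e = -1 := by
    intro e he
    have h2 : (e - 1) * (e + 1) = 0 := by linear_combination he
    rcases mul_eq_zero.1 h2 with h | h
    · left; omega
    · right; omega
  refine ⟨χ₁, χ₂, hne, c χ₁, c χ₂, hpm _ hc₁, hpm _ hc₂, ?_⟩
  rw [hsum]
  rw [← Finset.add_sum_erase Finset.univ _ (Finset.mem_univ χ₁)]
  congr 1
  apply Finset.sum_eq_single χ₂
  · intro χ hχ hne2
    rw [hoth χ (Finset.mem_univ _) (Finset.ne_of_mem_erase hχ) hne2]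
    simp
  · intro h
    exact absurd (Finset.mem_erase.2 ⟨hne.symm, Finset.mem_univ _⟩) h

end Cfsg.Agent.Lib.Helper39_Virtual
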