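import Mathlib
import Cfsg.Prelude.Def_LinearParabolics
import Cfsg.Prelude.Def_Characters
import Cfsg.Prelude.Def_Blocks
import Cfsg.Agent.Lib.Helper81_UnipGL
import Cfsg.Agent.Lib.Helper81_StDegree
import Cfsg.Agent.Lib.Helper75_CoprimeDeg
import Cfsg.Agent.Lib.Helper75_TripleReduce
import Cfsg.Agent.Lib.Helper75_CanonExt
import Cfsg.Agent.Lib.Helper81_CharOrth2
import Cfsg.Agent.Lib.Helper77_WeakOrth
import Cfsg.Agent.S0914
import Cfsg.Agent.S0165
import Cfsg.Agent.S2421

/-!
# The Steinberg character of `SL_n(q)` and `PSL_n(q)` (helper81)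
-/

set_option autoImplicit false
open scoped MatrixGroups ComplexConjugate

namespace Cfsg.Agent.Lib.Helper81_StPSL

/-- an irreducible character of `p`-defect zero vanishes at the `p`-singular elements -/
theorem vanish_of_defect_zero {G : Type*} [Group G] [Finite G] (p : ℕ) [Fact p.Prime]
    (χ : Cfsg.IrrCharacter G) (h : ¬ p ∣ Nat.card G / Cfsg.charDegree (χ : G → ℂ)) (y : G)
    (hy : p ∣ orderOf y) : (χ : G → ℂ) y = 0 := by
  obtain ⟨M, hM⟩ := Cfsg.Agent.S0165.exists_isPModular p (Fact.out)
  have hB := (Cfsg.Agent.S0914.result p M hM χ).mp h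
  have hblock : Cfsg.IsPBlock M ({χ} : Set (Cfsg.IrrCharacter G)) := ⟨χ, hB.symm⟩
  have h0 := Cfsg.Agent.Lib.Helper77_WeakOrth.blockCoeff_block_eq_zero_of_sing hM hblock y hy
  unfold Cfsg.blockCoeff at h0
  rw [finsum_mem_singleton] at h0
  obtain ⟨f, hf, hfpos, -⟩ := Cfsg.Agent.Lib.Helper75_CanonExt.exists_degree χ.2
  have hG : (Nat.card G : ℂ) ≠ 0 := by
    exact_mod_cast Nat.card_pos.ne'
  have h1 : (χ : G → ℂ) 1 ≠ 0 := by
    rw [hf]
    exact_mod_cast hfpos.ne'
  rcases mul_eq_zero.mp h0 with h2 | h2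
  · exact absurd (inv_eq_zero.mp h2) hG
  · rcases mul_eq_zero.mp h2 with h3 | h3
    · exact absurd h3 h1
    · exact (map_eq_zero _).mp h3

theorem fpc_central {G : Type*} [Group G] (H : Subgroup G) (z : G)
    (hz : z ∈ Subgroup.center G) (hzH : z ∈ H) :
    Cfsg.fixedPointCharacter H z = Cfsg.fixedPointCharacter H 1 := by
  unfold Cfsg.fixedPointCharacter
  have : MulAction.fixedBy (G ⧸ H) z = MulAction.fixedBy (G ⧸ H) (1 : G) := by
    ext x
    simp only [MulAction.mem_fixedBy, one_smul, iff_true]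
    induction x using QuotientGroup.induction_on with
    | H g =>
      change ((z * g : G) : G ⧸ H) = (g : G ⧸ H)
      rw [QuotientGroup.eq]
      have : (z * g)⁻¹ * g = z⁻¹ := by
        rw [Subgroup.mem_center_iff] at hz
        rw [← hz g]
        group
      rw [this]
      exact inv_mem hzH
  rw [this]

variable {F : Type*} [Field F] [Fintype F] {n : ℕ}

/-- the Steinberg character of `SL_n(F)` -/
noncomputable def stSL (n : ℕ) (F : Type*) [Field F] :
    Matrix.SpecialLinearGroup (Fin n) F → ℂ :=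
  fun s => Cfsg.unipotentCharacterGL n F (fun _ => 1) (Matrix.SpecialLinearGroup.toGL s)

theorem stSL_one : stSL n F 1 = (Fintype.card F : ℂ) ^ (n * (n - 1) / 2) := by
  unfold stSL
  rw [map_one]
  exact Cfsg.Agent.Lib.Helper81_StDegree.st_degree n

/-- `SL_n` as the kernel of the determinant -/
noncomputable def slEquivKer :
    Matrix.SpecialLinearGroup (Fin n) F ≃*
      (Matrix.GeneralLinearGroup.det : GL (Fin n) F →* Fˣ).ker where
  toFun s := ⟨Matrix.SpecialLinearGroup.toGL s, by
    rw [MonoidHom.mem_ker]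
    exact Matrix.SpecialLinearGroup.coeToGL_det s⟩
  invFun k := ⟨(k.1 : Matrix (Fin n) (Fin n) F), by
    have := k.2
    rw [MonoidHom.mem_ker] at this
    have h2 := congrArg Units.val this
    exact h2⟩
  left_inv s := by
    apply Subtype.ext
    rfl
  right_inv k := by
    apply Subtype.ext
    apply Units.ext
    rfl
  map_mul' a b := by
    apply Subtype.ext
    exact map_mul _ a b

theorem isIrr_stSL : Cfsg.IsIrrCharacter (Matrix.SpecialLinearGroup (Fin n) F) (stSL n F) := by
  classical
  set K := (Matrix.GeneralLinearGroup.det : GL (Fin n) F →* Fˣ).ker with hK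
  have hirr : Cfsg.IsIrrCharacter (GL (Fin n) F) (Cfsg.unipotentCharacterGL n F (fun _ => 1)) :=
    Cfsg.Agent.S2421.result (fun _ : Fin n => 1) monotone_const (by simp)
  set q := Fintype.card F with hq
  have hq1 : 1 ≤ q := Fintype.card_pos
  have hd : Cfsg.unipotentCharacterGL n F (fun _ => 1) 1 = ((q ^ (n * (n - 1) / 2) : ℕ) : ℂ) := by
    rw [Cfsg.Agent.Lib.Helper81_StDegree.st_degree n]
    push_cast
    rfl
  have hidx : K.index ∣ q - 1 := by
    rw [hK, Subgroup.index_ker]
    have h1 := Subgroup.card_subgroup_dvd_card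
      (Matrix.GeneralLinearGroup.det : GL (Fin n) F →* Fˣ).range
    have h2 : Nat.card Fˣ = q - 1 := by
      rw [Nat.card_eq_fintype_card, Fintype.card_units]
    rwa [h2] at h1
  have hcop : (q ^ (n * (n - 1) / 2)).Coprime K.index := by
    apply Nat.Coprime.coprime_dvd_right hidx
    apply Nat.Coprime.pow_left
    have : q = (q - 1) + 1 := by omega
    rw [this]
    simp
  have hsolv : Group.IsSolvable (GL (Fin n) F ⧸ K) := by
    have e := QuotientGroup.quotientKerEquivRange
      (Matrix.GeneralLinearGroup.det : GL (Fin n) F →* Fˣ)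
    have hs : Group.IsSolvable (Matrix.GeneralLinearGroup.det : GL (Fin n) F →* Fˣ).range :=
      Group.isSolvable_of_comm (fun a b => mul_comm a b)
    exact Group.isSolvable_of_isSolvable_injective (f := e.toMonoidHom) e.injective
  have hres := Cfsg.Agent.Lib.Helper75_CoprimeDeg.irr_restrict_of_coprime K.index K rfl hsolv
    ⟨_, hirr⟩ _ hd hcop
  exact Cfsg.Agent.Lib.Helper81_CharOrth2.isIrrCharacter_comp_mulEquiv slEquivKer hres

omit [Fintype F] in
theorem stSL_center (u : Matrix.SpecialLinearGroup (Fin n) F)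
    (hu : u ∈ Subgroup.center (Matrix.SpecialLinearGroup (Fin n) F)) :
    stSL n F u = stSL n F 1 := by
  obtain ⟨r, hr, hru⟩ := Matrix.SpecialLinearGroup.mem_center_iff.mp hu
  have hmat : ((Matrix.SpecialLinearGroup.toGL u : GL (Fin n) F) : Matrix (Fin n) (Fin n) F) =
      Matrix.diagonal (fun _ => r) := by
    rw [Matrix.SpecialLinearGroup.coe_GL_coe_matrix, ← hru]
    rfl
  have hcen : Matrix.SpecialLinearGroup.toGL u ∈ Subgroup.center (GL (Fin n) F) := by
    rw [Subgroup.mem_center_iff]
    intro g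
    apply Units.ext
    rw [Units.val_mul, Units.val_mul, hmat]
    have := Matrix.scalar_commute (n := Fin n) r (fun r' => mul_comm r r')
      (g : Matrix (Fin n) (Fin n) F)
    exact this.symm.eq
  unfold stSL Cfsg.unipotentCharacterGL
  apply Finset.sum_congr rfl
  intro κ _
  split_ifs
  · congr 1
    rw [map_one]
    apply fpc_central _ _ hcen
    change ((Matrix.SpecialLinearGroup.toGL u : GL (Fin n) F) : Matrix (Fin n) (Fin n) F).BlockTriangular _
    rw [hmat]
    exact Matrix.blockTriangular_diagonal _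
  · rfl

/-- the Steinberg character of `PSL_n(F)` -/
theorem exists_st_psl :
    ∃ ψ : Matrix.ProjectiveSpecialLinearGroup (Fin n) F → ℂ,
      Cfsg.IsIrrCharacter (Matrix.ProjectiveSpecialLinearGroup (Fin n) F) ψ ∧
      ψ 1 = (Fintype.card F : ℂ) ^ (n * (n - 1) / 2) := by
  classical
  have : Finite (Matrix.SpecialLinearGroup (Fin n) F) := by
    exact Finite.of_injective _ Matrix.SpecialLinearGroup.toGL_injective
  obtain ⟨ψ, hψ, hψf⟩ := Cfsg.Agent.Lib.Helper75_TripleReduce.descend
    (QuotientGroup.mk' (Subgroup.center (Matrix.SpecialLinearGroup (Fin n) F)))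
    (QuotientGroup.mk'_surjective _) (isIrr_stSL (n := n) (F := F))
    (fun u hu => stSL_center u (by
      rw [← MonoidHom.mem_ker, QuotientGroup.ker_mk'] at hu
      exact hu))
  refine ⟨ψ, hψ, ?_⟩
  have := hψf 1
  rw [map_one] at this
  rw [this, stSL_one]

end Cfsg.Agent.Lib.Helper81_StPSL
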