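/-
A (B, N)-pair from root-subgroup data attached to the distinguished generators, and the Steinberg character of
the resulting group (existence of an irreducible character of degree `|G|_p` vanishing on the non-identity
`p`-elements), also for central quotients.
-/
import Mathlib
import Cfsg.Prelude.Def_LieExceptional
import Cfsg.Prelude.Def_ParabolicCharacters
import Cfsg.Agent.Lib.Helper6_BNPairC
import Cfsg.Agent.Lib.Helper81_BNSteinberg
import Cfsg.Agent.Lib.Helper81_BNBorel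
import Cfsg.Agent.Lib.Helper81_StPSL
import Cfsg.Agent.Lib.Helper75_TripleReduce
import Cfsg.Agent.Lib.Helper75_CanonExt

set_option autoImplicit false
set_option linter.unusedSectionVars false
set_option linter.unusedVariables false

namespace Cfsg.Agent.Lib.Helper68_StAbs

open Cfsg DoubleCoset Cfsg.Agent.Lib.Helper6_Word Cfsg.Agent.Lib.Helper6_BNPair
  Cfsg.Agent.Lib.Helper81_BNSteinberg Cfsg.Agent.Lib.Helper81_BNIndex Cfsg.Agent.Lib.Helper81_BNBorel

/-- Root-subgroup data for a (B, N)-pair: subgroups `B`, `N`, representatives `s i` of the distinguished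
generators and for each `i` a subgroup `U i` of `B` (the root subgroup of the `i`-th simple root), with
(R1) `B = (B ∩ s⁻¹ B s) U`, (R2) every `n ∈ N` conjugates `U` or its opposite `s⁻¹ U s` into `B`, and
(R3) the rank one relation `s u s⁻¹ ∈ B s U` for `u ≠ 1`. -/
structure RDat (G : Type*) [Group G] (r : ℕ) where
  B : Subgroup G
  N : Subgroup G
  s : Fin r → G
  U : Fin r → Subgroup G
  sup_eq_top : B ⊔ N = ⊤
  conj_mem : ∀ n ∈ N, ∀ t ∈ B ⊓ N, n * t * n⁻¹ ∈ B
  s_mem : ∀ i, s i ∈ N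
  sq_mem : ∀ i, s i * s i ∈ B
  inj : ∀ i j, (s i)⁻¹ * s j ∈ B → i = j
  closure_sup : Subgroup.closure (Set.range s) ⊔ (B ⊓ N) = N
  U_le : ∀ i, U i ≤ B
  r1 : ∀ i, ∀ b ∈ B, ∃ u ∈ U i, s i * (b * u⁻¹) * (s i)⁻¹ ∈ B
  r2 : ∀ i, ∀ n ∈ N, (∀ u ∈ U i, n⁻¹ * u * n ∈ B) ∨ (∀ u ∈ U i, n⁻¹ * ((s i)⁻¹ * u * s i) * n ∈ B)
  r3 : ∀ i, ∀ u ∈ U i, u ≠ 1 → ∃ b ∈ B, ∃ u' ∈ U i, s i * u * (s i)⁻¹ = b * s i * u'
  r4 : ∀ i, ∃ u ∈ U i, s i * u * (s i)⁻¹ ∉ B

section bn

variable {G : Type*} [Group G] {r : ℕ} (D : RDat G r)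

/-- the second half of the double coset condition: if `n` conjugates the opposite root subgroup into `B`
then `s u n ∈ B n B` for `1 ≠ u ∈ U`. -/
theorem mul_mem_of_opp (i : Fin r) {n : G}
    (h2 : ∀ u ∈ D.U i, n⁻¹ * ((D.s i)⁻¹ * u * D.s i) * n ∈ D.B) {u : G} (hu : u ∈ D.U i) (hu1 : u ≠ 1) :
    D.s i * u * n ∈ doubleCoset n (D.B : Set G) D.B := by
  obtain ⟨b', hb', u', hu', e⟩ := D.r3 i u hu hu1
  rw [mem_doubleCoset]
  refine ⟨b' * (D.s i * D.s i), D.B.mul_mem hb' (D.sq_mem i), n⁻¹ * ((D.s i)⁻¹ * u' * D.s i) * n,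
    h2 u' hu', ?_⟩
  have e1 : D.s i * u * n = (D.s i * u * (D.s i)⁻¹) * (D.s i * n) := by group
  rw [e1, e]
  group

theorem mul_mem_union (i : Fin r) {n : G} (hn : n ∈ D.N) {b : G} (hb : b ∈ D.B) :
    D.s i * b * n ∈ doubleCoset (D.s i * n) (D.B : Set G) D.B ∪ doubleCoset n (D.B : Set G) D.B := by
  obtain ⟨u, hu, hc⟩ := D.r1 i b hb
  have e0 : D.s i * b * n = (D.s i * (b * u⁻¹) * (D.s i)⁻¹) * (D.s i * u * n) := by group
  rcases D.r2 i n hn with h | h
  · left
    rw [mem_doubleCoset]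
    refine ⟨_, hc, n⁻¹ * u * n, h u hu, ?_⟩
    rw [e0]
    group
  · by_cases hu1 : u = 1
    · left
      rw [mem_doubleCoset]
      refine ⟨_, hc, 1, D.B.one_mem, ?_⟩
      rw [e0, hu1]
      group
    · right
      have h3 := mul_mem_of_opp D i h hu hu1
      rw [mem_doubleCoset] at h3 ⊢
      obtain ⟨x, hx, y, hy, e⟩ := h3
      refine ⟨(D.s i * (b * u⁻¹) * (D.s i)⁻¹) * x, D.B.mul_mem hc hx, y, hy, ?_⟩
      rw [e0, e]
      group

/-- the (B, N)-pair of root-subgroup data -/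
def bnPair : Cfsg.BNPair G where
  B := D.B
  N := D.N
  S := Set.range D.s
  sup_eq_top := D.sup_eq_top
  conj_mem := D.conj_mem
  subset := by
    rintro _ ⟨i, rfl⟩
    exact D.s_mem i
  sq_mem := by
    rintro _ ⟨i, rfl⟩
    exact D.sq_mem i
  inj := by
    rintro _ ⟨i, rfl⟩ _ ⟨j, rfl⟩ h
    rw [D.inj i j h]
  closure_sup := D.closure_sup
  mul_mem_union := by
    rintro _ ⟨i, rfl⟩ n hn b hb
    exact mul_mem_union D i hn hb
  conj_ne := by
    rintro _ ⟨i, rfl⟩ h
    obtain ⟨u, hu, hnot⟩ := D.r4 i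
    have h1 : D.s i * u * D.s i ∈ (fun b : G => D.s i * b * D.s i) '' (D.B : Set G) :=
      ⟨u, D.U_le i hu, rfl⟩
    rw [h] at h1
    apply hnot
    have e : D.s i * u * (D.s i)⁻¹ = (D.s i * u * D.s i) * (D.s i * D.s i)⁻¹ := by group
    rw [e]
    exact D.B.mul_mem h1 (D.B.inv_mem (D.sq_mem i))

@[simp] theorem bnPair_B : (bnPair D).B = D.B := rfl
@[simp] theorem bnPair_N : (bnPair D).N = D.N := rfl
@[simp] theorem bnPair_S : (bnPair D).S = Set.range D.s := rfl

end bn

section cells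

variable {G : Type*} [Group G] (P : Cfsg.BNPair G)

/-- the number of cosets `g B` in the Bruhat cell of `w` -/
noncomputable def cs (w : W P) : ℕ := Nat.card {y : G ⧸ P.B // cellB P y = w}

theorem fixCell_one (w : W P) : fixCell P 1 w = cs P w := by
  unfold fixCell cs
  apply Nat.card_congr
  exact
    { toFun := fun y => ⟨y.1.1, y.2⟩
      invFun := fun y => ⟨⟨y.1, by rw [MulAction.mem_fixedBy, one_smul]⟩, y.2⟩
      left_inv := fun y => rfl
      right_inv := fun y => rfl }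

/-- the cell of `g` is the orbit of `g B` under `B` -/
theorem cell_set_eq_orbit (g : G) :
    {y : G ⧸ P.B | cellB P y = cell P g} = MulAction.orbit P.B ((g : G) : G ⧸ P.B) := by
  ext y
  induction y using QuotientGroup.induction_on with
  | H x =>
    show cellB P _ = _ ↔ _
    rw [cellB_mk, MulAction.mem_orbit_iff]
    obtain ⟨n, hn⟩ := exists_mem_C P g
    rw [cell_eq P hn]
    constructor
    · intro h
      have hx : x ∈ C P (n : G) := mem_C_of_cell_eq P h
      rw [← C_eq_of_mem P hn] at hx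
      obtain ⟨b, hb, b', hb', e⟩ := (mem_C P).1 hx
      refine ⟨⟨b, hb⟩, ?_⟩
      show ((b * g : G) : G ⧸ P.B) = (x : G ⧸ P.B)
      rw [QuotientGroup.eq, e]
      have : (b * g)⁻¹ * (b * g * b') = b' := by group
      rw [this]
      exact hb'
    · rintro ⟨b, hb⟩
      have hb' : ((b.1 * g : G) : G ⧸ P.B) = (x : G ⧸ P.B) := hb
      rw [QuotientGroup.eq] at hb'
      apply cell_eq P
      have : x = b.1 * g * ((b.1 * g)⁻¹ * x) := by group
      rw [this]
      exact mem_C_mul_right P hb' (mem_C_mul_left P b.2 hn)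

theorem cs_cell_mul_card_stab [Finite G] (g : G) :
    cs P (cell P g) * Nat.card (MulAction.stabilizer P.B ((g : G) : G ⧸ P.B)) = Nat.card P.B := by
  have h := (MulAction.stabilizer P.B ((g : G) : G ⧸ P.B)).index_mul_card
  rw [← h, MulAction.index_stabilizer, ← Nat.card_coe_set_eq]
  congr 1
  unfold cs
  have := cell_set_eq_orbit P g
  exact Nat.card_congr (Equiv.setCongr this)

theorem mem_stab_iff (g : G) (b : P.B) :
    b ∈ MulAction.stabilizer P.B ((g : G) : G ⧸ P.B) ↔ g⁻¹ * b * g ∈ P.B := by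
  rw [MulAction.mem_stabilizer_iff]
  show ((b.1 * g : G) : G ⧸ P.B) = (g : G ⧸ P.B) ↔ _
  rw [QuotientGroup.eq]
  have e : (b.1 * g)⁻¹ * g = (g⁻¹ * b * g)⁻¹ := by group
  rw [e, inv_mem_iff]

/-- every cell has at most `[B : B ∩ N]` cosets -/
theorem cs_mul_le [Finite G] (n : P.N) :
    cs P (π P n) * Nat.card ↥(P.B ⊓ P.N) ≤ Nat.card P.B := by
  have h := cs_cell_mul_card_stab P (n : G)
  rw [cell_eq P (mem_C_self P (n : G))] at h
  rw [← h]
  apply Nat.mul_le_mul_left
  -- `B ∩ N` embeds in the stabilizer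
  let f : ↥(P.B ⊓ P.N) → MulAction.stabilizer P.B (((n : G)) : G ⧸ P.B) := fun t =>
    ⟨⟨t.1, t.2.1⟩, by
      rw [mem_stab_iff]
      have h1 := P.conj_mem ((n : G)⁻¹) (P.N.inv_mem n.2) t.1 t.2
      rwa [inv_inv] at h1⟩
  have hf : Function.Injective f := by
    intro a b hab
    apply Subtype.ext
    exact congrArg (fun z : MulAction.stabilizer P.B (((n : G)) : G ⧸ P.B) => (z.1 : G)) hab
  exact Nat.card_le_card_of_injective f hf

/-- a cell whose stabilizer lies in `N` has at least `[B : B ∩ N]` cosets -/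
theorem le_cs_mul [Finite G] (g : G) (hg : ∀ b ∈ P.B, g⁻¹ * b * g ∈ P.B → b ∈ P.N) :
    Nat.card P.B ≤ cs P (cell P g) * Nat.card ↥(P.B ⊓ P.N) := by
  have h := cs_cell_mul_card_stab P g
  rw [← h]
  apply Nat.mul_le_mul_left
  let f : MulAction.stabilizer P.B ((g : G) : G ⧸ P.B) → ↥(P.B ⊓ P.N) := fun b =>
    ⟨b.1.1, ⟨b.1.2, hg b.1.1 b.1.2 ((mem_stab_iff P g b.1).1 b.2)⟩⟩
  have hf : Function.Injective f := by
    intro a b hab
    apply Subtype.ext
    apply Subtype.ext
    exact congrArg (fun z : ↥(P.B ⊓ P.N) => (z : G)) hab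
  exact Nat.card_le_card_of_injective f hf

/-- left multiplication by a distinguished generator maps a cell into the next one when the length
goes up -/
theorem cs_le_cs_simple_mul [Finite G] {σ : P.N} (hσ : IsSimple P σ) (n : P.N)
    (hle : ℓ P n ≤ ℓ P (σ * n)) : cs P (π P n) ≤ cs P (π P (σ * n)) := by
  unfold cs
  let f : {y : G ⧸ P.B // cellB P y = π P n} → {y : G ⧸ P.B // cellB P y = π P (σ * n)} := fun y =>
    ⟨(σ : G) • y.1, by
      obtain ⟨y, hy⟩ := y
      induction y using QuotientGroup.induction_on with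
      | H x =>
        show cellB P (((σ : G) * x : G) : G ⧸ P.B) = _
        rw [cellB_mk] at hy ⊢
        have hx : x ∈ C P (n : G) := mem_C_of_cell_eq P hy
        obtain ⟨b, hb, b', hb', e⟩ := (mem_C P).1 hx
        apply cell_eq P
        have h1 := simple_mul_mem_of_le P hσ hle hb
        have e2 : (σ : G) * x = (σ : G) * b * n * b' := by rw [e]; group
        rw [e2]
        exact mem_C_mul_right P hb' h1⟩
  have hf : Function.Injective f := by
    intro a b hab
    apply Subtype.ext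
    have := congrArg Subtype.val hab
    exact (MulAction.injective (σ : G)) this
  exact Nat.card_le_card_of_injective f hf

end cells

section main

variable {G : Type*} [Group G] [Finite G] {r : ℕ} (D : RDat G r)

/-- an element of the Weyl group that no distinguished generator lengthens and whose cell has exactly
`[B : B ∩ N]` cosets -/
theorem exists_top (q : ℕ) (hBT : Nat.card D.B = Nat.card ↥(D.B ⊓ D.N) * q)
    (g₀ : G) (hg₀ : ∀ b ∈ D.B, g₀⁻¹ * b * g₀ ∈ D.B → b ∈ D.N) :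
    ∃ w' : W (bnPair D), (∀ x ∈ SW (bnPair D),
      len (SW (bnPair D)) (x * w') ≤ len (SW (bnPair D)) w') ∧ cs (bnPair D) w' = q := by
  classical
  set P := bnPair D with hP
  have hTpos : 0 < Nat.card ↥(P.B ⊓ P.N) := Nat.card_pos
  have hBT' : Nat.card P.B = Nat.card ↥(P.B ⊓ P.N) * q := hBT
  have hup : ∀ w : W P, cs P w ≤ q := by
    intro w
    obtain ⟨n, rfl⟩ := π_surjective P w
    have h := cs_mul_le P n
    rw [hBT', mul_comm] at h
    exact Nat.le_of_mul_le_mul_left h hTpos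
  have hlow : q ≤ cs P (cell P g₀) := by
    have h := le_cs_mul P g₀ hg₀
    rw [hBT', mul_comm (cs P _)] at h
    exact Nat.le_of_mul_le_mul_left h hTpos
  have : Finite (W P) := inferInstance
  have : Fintype (W P) := Fintype.ofFinite _
  set 𝒲 : Finset (W P) := Finset.univ.filter (fun w => q ≤ cs P w) with h𝒲
  have hne : 𝒲.Nonempty := ⟨cell P g₀, by simp [h𝒲, hlow]⟩
  obtain ⟨w', hw'mem, hw'max⟩ := Finset.exists_max_image 𝒲 (fun w => len (SW P) w) hne
  have hw'q : q ≤ cs P w' := by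
    have := hw'mem
    simp only [h𝒲, Finset.mem_filter, Finset.mem_univ, true_and] at this
    exact this
  refine ⟨w', ?_, le_antisymm (hup w') hw'q⟩
  intro x hx
  obtain ⟨σ, hσS, rfl⟩ := hx
  have hσ : IsSimple P σ := ⟨σ, hσS, rfl⟩
  obtain ⟨n, rfl⟩ := π_surjective P w'
  rcases ℓ_simple_mul_cases P hσ n with h | h
  · have hmono := cs_le_cs_simple_mul P hσ n (by omega)
    have hmem : π P (σ * n) ∈ 𝒲 := by
      simp only [h𝒲, Finset.mem_filter, Finset.mem_univ, true_and]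
      exact le_trans hw'q hmono
    have := hw'max _ hmem
    rw [← map_mul]
    exact this
  · rw [← map_mul]
    show ℓ P (σ * n) ≤ ℓ P n
    omega

theorem arith_split (p N q r' : ℕ) (hqpos : 0 < q) (hdvd : q ∣ N)
    (hN : N ∣ q * r') (hr' : ¬ p ∣ r') : ∃ r, N = q * r ∧ ¬ p ∣ r := by
  obtain ⟨r, hr⟩ := hdvd
  refine ⟨r, hr, ?_⟩
  rw [hr] at hN
  have h1 : r ∣ r' := Nat.dvd_of_mul_dvd_mul_left hqpos hN
  exact fun h => hr' (dvd_trans h h1)

/-- **The Steinberg character of a central quotient of a group with root-subgroup data.** If `[B : B ∩ N] = p^k`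
is the `p`-part of `|G|` and some `g₀` has `B ∩ g₀ B g₀⁻¹ ≤ N`, then `G / Z` has an irreducible character of
degree `p^k = |G/Z|_p` vanishing at the non-identity elements of the Sylow `p`-subgroups. -/
theorem exists_steinberg (p : ℕ) [Fact p.Prime] (k : ℕ)
    (hBT : Nat.card D.B = Nat.card ↥(D.B ⊓ D.N) * p ^ k)
    (g₀ : G) (hg₀ : ∀ b ∈ D.B, g₀⁻¹ * b * g₀ ∈ D.B → b ∈ D.N)
    (hG : ∃ r', Nat.card G = p ^ k * r' ∧ ¬ p ∣ r')
    (Z : Subgroup G) [Z.Normal] (hZ : Z ≤ Subgroup.center G) (hZB : Z ≤ D.B) :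
    ∃ χ : G ⧸ Z → ℂ, Cfsg.IsIrrCharacter (G ⧸ Z) χ ∧ ∀ P : Sylow p (G ⧸ Z),
      χ 1 = Nat.card P ∧ ∀ x : G ⧸ Z, x ∈ P → x ≠ 1 → χ x = 0 := by
  classical
  have : Fintype G := Fintype.ofFinite G
  have hp : p.Prime := Fact.out
  set P := bnPair D with hP
  have hs : D.s '' ((Finset.univ : Finset (Fin r)) : Set (Fin r)) = P.S := by
    rw [Finset.coe_univ, Set.image_univ]
    rfl
  have hirr := isIrrCharacter_St P Finset.univ D.s hs
  obtain ⟨w', hw', hcs⟩ := exists_top D (p ^ k) hBT g₀ hg₀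
  have h1 : St P Finset.univ D.s 1 = ((p ^ k : ℕ) : ℂ) := by
    rw [St_apply_of_mem_B P Finset.univ D.s hs P.B.one_mem hw', fixCell_one, hcs]
  -- descent to the quotient
  obtain ⟨ψ, hψ, hψf⟩ := Cfsg.Agent.Lib.Helper75_TripleReduce.descend
    (QuotientGroup.mk' Z) (QuotientGroup.mk'_surjective _) hirr
    (fun u hu => by
      rw [← MonoidHom.mem_ker, QuotientGroup.ker_mk'] at hu
      unfold St
      apply Finset.sum_congr rfl
      intro J _
      congr 1
      exact Cfsg.Agent.Lib.Helper81_StPSL.fpc_central _ u (hZ hu)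
        (B_le_parabolic P _ (hZB hu)))
  have hψ1 : ψ 1 = ((p ^ k : ℕ) : ℂ) := by
    have := hψf 1
    rw [map_one] at this
    rw [this, h1]
  obtain ⟨d, hd1, hdpos, hddvd⟩ := Cfsg.Agent.Lib.Helper75_CanonExt.exists_degree hψ
  have hdq : d = p ^ k := by
    have : (d : ℂ) = ((p ^ k : ℕ) : ℂ) := by rw [← hd1, hψ1]
    exact_mod_cast this
  rw [hdq] at hddvd
  obtain ⟨r', hr', hpr'⟩ := hG
  have hquot : Nat.card (G ⧸ Z) ∣ p ^ k * r' := by
    rw [← hr']
    exact Subgroup.card_quotient_dvd_card Z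
  obtain ⟨r'', hr'', hpr''⟩ := arith_split p _ (p ^ k) r' (pow_pos hp.pos k) hddvd hquot hpr'
  have hr''pos : r'' ≠ 0 := by
    intro h0
    rw [h0, mul_zero] at hr''
    exact Nat.card_pos.ne' hr''
  have hfact : (Nat.card (G ⧸ Z)).factorization p = k := by
    rw [hr'', Nat.factorization_mul (pow_pos hp.pos k).ne' hr''pos, Finsupp.add_apply,
      Nat.factorization_eq_zero_of_not_dvd hpr'', add_zero, Nat.Prime.factorization_pow hp,
      Finsupp.single_eq_same]
  refine ⟨ψ, hψ, fun Q => ⟨?_, ?_⟩⟩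
  · rw [Sylow.card_eq_multiplicity, hfact, hψ1]
  · intro x hx hx1
    have hcd : Cfsg.charDegree ψ = p ^ k := by
      unfold Cfsg.charDegree
      rw [hψ1]
      have h : (((p ^ k : ℕ) : ℂ)).re = ((p ^ k : ℕ) : ℝ) := by
        rw [← Complex.ofReal_natCast, Complex.ofReal_re]
      rw [h, Nat.floor_natCast]
    have hdz : ¬ p ∣ Nat.card (G ⧸ Z) / Cfsg.charDegree ψ := by
      rw [hcd, hr'', Nat.mul_div_cancel_left _ (pow_pos hp.pos k)]
      exact hpr''
    have hord : p ∣ orderOf x := by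
      obtain ⟨j, hj⟩ := (IsPGroup.iff_orderOf.mp Q.isPGroup') ⟨x, hx⟩
      have hj' : orderOf x = p ^ j := by
        rw [← hj]
        exact (Subgroup.orderOf_mk x hx).symm
      rw [hj']
      apply dvd_pow_self
      intro hj0
      rw [hj0, pow_zero, orderOf_eq_one_iff] at hj'
      exact hx1 hj'
    exact Cfsg.Agent.Lib.Helper81_StPSL.vanish_of_defect_zero p ⟨ψ, hψ⟩ hdz x hord

end main

end Cfsg.Agent.Lib.Helper68_StAbs
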