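import Mathlib
import Cfsg.Agent.Lib.Helper22_StOmDefs
import Cfsg.Agent.Lib.Helper68_StAbs

/-!
# S2549 market (architect helper22), package DIAGHOM (helper84)

The block diagonal part of a block upper triangular isometry is an isometry, and `b ↦ diag(b)` is a
homomorphism (all characteristics).
-/

set_option autoImplicit false

namespace Cfsg.Agent.Lib.Helper84_StOm_DIAGHOM

open Matrix Cfsg.Agent.Lib.Helper68_MatGrp Cfsg.Agent.Lib.Helper22_BlkGrp Cfsg.Agent.Lib.Helper22_StOmDefs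

variable {m : ℕ} {F : Type*} [Field F]

theorem sum_I (f : I m → F) :
    ∑ z, f z = ∑ i, f (ie i) + ∑ i, f (jf i) + (f d0 + f d1) := by
  rw [Fintype.sum_sum_type, Fintype.sum_sum_type, Fin.sum_univ_two]
  rfl

/-- the block diagonal part of a matrix -/
def Dm (M : Matrix (I m) (I m) F) : Matrix (I m) (I m) F :=
  Matrix.of fun x y => if ht m x = ht m y then M x y else 0

theorem Dm_apply (M : Matrix (I m) (I m) F) (x y : I m) :
    Dm M x y = if ht m x = ht m y then M x y else 0 := rfl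

theorem Dm_one : Dm (1 : Matrix (I m) (I m) F) = 1 := by
  ext x y
  rw [Dm_apply]
  by_cases h : x = y
  · subst h
    rw [if_pos rfl]
  · rw [Matrix.one_apply_ne h, ite_self]

theorem Dm_mul {M M' : Matrix (I m) (I m) F} (hM : ∀ a b, ht m b < ht m a → M a b = 0)
    (hM' : ∀ a b, ht m b < ht m a → M' a b = 0) : Dm (M * M') = Dm M * Dm M' := by
  ext x y
  rw [Dm_apply, Matrix.mul_apply, Matrix.mul_apply]
  by_cases h : ht m x = ht m y
  · rw [if_pos h]
    apply Finset.sum_congr rfl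
    intro z _
    rw [Dm_apply, Dm_apply]
    by_cases hz : ht m x = ht m z
    · rw [if_pos hz, if_pos (hz.symm.trans h)]
    · rw [if_neg hz, zero_mul]
      rcases lt_or_gt_of_ne hz with h1 | h1
      · rw [hM' z y (h ▸ h1), mul_zero]
      · rw [hM x z h1, zero_mul]
  · rw [if_neg h]
    symm
    apply Finset.sum_eq_zero
    intro z _
    rw [Dm_apply, Dm_apply]
    by_cases hz : ht m x = ht m z
    · rw [if_neg (fun e => h (hz.trans e)), mul_zero]
    · rw [if_neg hz, zero_mul]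

theorem Dm_mulVec_np (M : Matrix (I m) (I m) F) (v : I m → F) {c : I m} (hc : ¬ IsPl c) :
    (Dm M *ᵥ v) c = M c c * v c := by
  rw [Matrix.mulVec, dotProduct, Finset.sum_eq_single c]
  · rw [Dm_apply, if_pos rfl]
  · intro z _ hz
    rw [Dm_apply, if_neg (fun e => hz (eq_of_ht_eq e hc).symm), zero_mul]
  · intro h
    exact absurd (Finset.mem_univ c) h

theorem Dm_mulVec_pl (M : Matrix (I m) (I m) F) (v : I m → F) {c : I m} (hc : IsPl c) :
    (Dm M *ᵥ v) c = M c d0 * v d0 + M c d1 * v d1 := by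
  rw [Matrix.mulVec, dotProduct, sum_I]
  have hcm : ht m c = m := ht_of_isPl hc
  have h1 : ∑ i : Fin m, Dm M c (ie i) * v (ie i) = 0 := by
    apply Finset.sum_eq_zero
    intro i _
    rw [Dm_apply, if_neg, zero_mul]
    rw [hcm, ht_ie]
    have := i.2
    omega
  have h2 : ∑ i : Fin m, Dm M c (jf i) * v (jf i) = 0 := by
    apply Finset.sum_eq_zero
    intro i _
    rw [Dm_apply, if_neg, zero_mul]
    rw [hcm, ht_jf]
    have := i.2
    omega
  rw [h1, h2, Dm_apply, Dm_apply, if_pos (by rw [hcm, ht_d0]), if_pos (by rw [hcm, ht_d1]), zero_add,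
    zero_add]

theorem mulVec_pv (M : Matrix (I m) (I m) F) (s t : F) (x : I m) :
    (M *ᵥ (pv s t : I m → F)) x = M x d0 * s + M x d1 * t := by
  rw [Matrix.mulVec, dotProduct, sum_I]
  simp only [pv_ie, pv_jf, pv_d0, pv_d1, mul_zero, Finset.sum_const_zero, zero_add]

variable {A B : F} [Fintype F]

/-- (F1) `β_i γ_i = 1` -/
theorem diag_mul_diag (b : OO m F A B) (hb : b ∈ BO m F A B) (i : Fin m) :
    φO m F A B b (ie i) (ie i) * φO m F A B b (jf i) (jf i) = 1 := by
  have hM := mem_BO.1 hb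
  have h := φO_polar b (Pi.single (ie i) 1) (Pi.single (jf i) 1)
  rw [polar_single_single_np A B (not_isPl_jf i), op_jf, if_pos rfl, mul_one,
    Helper22_StOmDefs.mulVec_single_one, Helper22_StOmDefs.mulVec_single_one, polar_Qm] at h
  have e1 : ∀ k : Fin m, φO m F A B b (jf k) (ie i) = 0 := fun k => hM _ _ (by
    rw [ht_ie, ht_jf]; have := i.2; have := k.2; omega)
  have e2 : φO m F A B b d0 (ie i) = 0 := hM _ _ (by rw [ht_ie, ht_d0]; exact i.2)
  have e3 : φO m F A B b d1 (ie i) = 0 := hM _ _ (by rw [ht_ie, ht_d1]; exact i.2)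
  simp only [e1, e2, e3, mul_zero, zero_mul, add_zero] at h
  rw [Finset.sum_eq_single i] at h
  · exact h
  · intro k _ hk
    rcases lt_or_gt_of_ne hk with h1 | h1
    · rw [hM (jf k) (jf i) (by rw [ht_jf, ht_jf]; have := i.2; have := k.2; omega), mul_zero]
    · rw [hM (ie k) (ie i) (by rw [ht_ie, ht_ie]; exact h1), zero_mul]
  · intro h'
    exact absurd (Finset.mem_univ i) h'

/-- (F2) the plane block preserves the norm form -/
theorem plane_nrm (b : OO m F A B) (hb : b ∈ BO m F A B) (s t : F) :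
    nrm A B (φO m F A B b d0 d0 * s + φO m F A B b d0 d1 * t)
      (φO m F A B b d1 d0 * s + φO m F A B b d1 d1 * t) = nrm A B s t := by
  have hM := mem_BO.1 hb
  have h := φO_isom b (pv s t)
  rw [Qm_pv, Qm_apply] at h
  have e1 : ∀ k : Fin m, (φO m F A B b *ᵥ (pv s t : I m → F)) (jf k) = 0 := by
    intro k
    rw [mulVec_pv, hM (jf k) d0 (by rw [ht_jf, ht_d0]; have := k.2; omega),
      hM (jf k) d1 (by rw [ht_jf, ht_d1]; have := k.2; omega), zero_mul, zero_mul, add_zero]
  simp only [e1, mul_zero, Finset.sum_const_zero, zero_add, mulVec_pv] at h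
  exact h

/-- the block diagonal part of a block upper triangular isometry preserves the form -/
theorem Dm_isom (b : OO m F A B) (hb : b ∈ BO m F A B) (v : I m → F) :
    Qm m F A B (Dm (φO m F A B b) *ᵥ v) = Qm m F A B v := by
  rw [Qm_apply, Qm_apply, Dm_mulVec_pl _ _ isPl_d0, Dm_mulVec_pl _ _ isPl_d1, plane_nrm b hb]
  congr 1
  apply Finset.sum_congr rfl
  intro i _
  rw [Dm_mulVec_np _ _ (not_isPl_ie i), Dm_mulVec_np _ _ (not_isPl_jf i)]
  have := diag_mul_diag b hb i
  linear_combination (v (ie i) * v (jf i)) * this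

theorem Dm_mul_inv (b : OO m F A B) (hb : b ∈ BO m F A B) :
    Dm (φO m F A B b) * Dm (φO m F A B b⁻¹) = 1 := by
  rw [← Dm_mul (mem_BO.1 hb) (mem_BO.1 ((BO m F A B).inv_mem hb)), ← map_mul, mul_inv_cancel,
    map_one, Dm_one]

theorem Dm_inv_mul (b : OO m F A B) (hb : b ∈ BO m F A B) :
    Dm (φO m F A B b⁻¹) * Dm (φO m F A B b) = 1 := by
  rw [← Dm_mul (mem_BO.1 ((BO m F A B).inv_mem hb)) (mem_BO.1 hb), ← map_mul, inv_mul_cancel,
    map_one, Dm_one]

/-- the block diagonal part as an isometry -/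
def dOO (b : ↥(BO m F A B)) : OO m F A B :=
  ⟨⟨Dm (φO m F A B b.1), Dm (φO m F A B b.1⁻¹), Dm_mul_inv b.1 b.2, Dm_inv_mul b.1 b.2⟩,
    (Cfsg.Agent.Lib.Helper44_Orth.mem_isometryGroup_iff _ _).2 (fun v => Dm_isom b.1 b.2 v)⟩

theorem φO_dOO (b : ↥(BO m F A B)) : φO m F A B (dOO b) = Dm (φO m F A B b.1) := rfl

variable [Fact (Aniso A B)]

/-- DIAGHOM (L). -/
theorem exists_diagHom :
    ∃ δ : ↥(BO m F A B) →* OO m F A B, ∀ (b : ↥(BO m F A B)) (x y : I m),
      φO m F A B (δ b) x y = if ht m x = ht m y then φO m F A B b.1 x y else 0 := by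
  refine ⟨{ toFun := dOO, map_one' := ?_, map_mul' := ?_ }, ?_⟩
  · apply φO_injective
    rw [φO_dOO, map_one]
    show Dm (φO m F A B (1 : OO m F A B)) = 1
    rw [map_one, Dm_one]
  · intro b b'
    apply φO_injective
    rw [map_mul, φO_dOO, φO_dOO, φO_dOO]
    show Dm (φO m F A B (b.1 * b'.1)) = _
    rw [map_mul, Dm_mul (mem_BO.1 b.2) (mem_BO.1 b'.2)]
  · intro b x y
    rfl

end Cfsg.Agent.Lib.Helper84_StOm_DIAGHOM
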