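import Mathlib
import Cfsg.Agent.Lib.Helper22_StOmDefs
import Cfsg.Agent.Lib.Helper84_StOm_DIAGHOM
import Cfsg.Agent.Lib.Helper68_EA2
import Cfsg.Agent.Lib.Helper68_EA2Peel

/-!
Helper22_EA2OmDefs: S4625 (helper68's market `ea2_packages`), the family `Ω⁻_{2m+2}` (all in the vocabulary of
`Helper22_StOmDefs`).  Definitions for the packages OM-SUB, OM-COL, OM-END:
* `δO` : the block diagonal part `BO →* OO` (helper84's `exists_diagHom`), `δO_apply`;
* `UO` : the block unitriangular isometries (a subgroup of `OO = O⁻_{2m+2}(F)`, NOT a priori inside `Ω`), `mem_UO`;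
* `posSetO` : the positive root elements `lxO a c t` (`LxOK a c`, `ht a < ht c`) and `sxO (ie i) s t`, in `OO`;
* `CkO k` : the isometries whose columns `e_i`, `f_i`, `i < k`, are identity columns.
helper22.
-/

set_option autoImplicit false
set_option linter.unusedSectionVars false
set_option linter.unusedVariables false

namespace Cfsg.Agent.Lib.Helper22_EA2OmDefs

open Matrix Cfsg.Agent.Lib.Helper68_MatGrp Cfsg.Agent.Lib.Helper22_BlkGrp Cfsg.Agent.Lib.Helper22_StOmDefs

variable {m : ℕ} {F : Type*} [Field F] [Fintype F] {A B : F} [Fact (Aniso A B)]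

/-- the block diagonal part of a block upper triangular isometry, as a homomorphism -/
noncomputable def δO (m : ℕ) (F : Type*) [Field F] [Fintype F] (A B : F) [Fact (Aniso A B)] :
    ↥(BO m F A B) →* OO m F A B :=
  Classical.choose (Cfsg.Agent.Lib.Helper84_StOm_DIAGHOM.exists_diagHom (m := m) (F := F) (A := A) (B := B))

theorem δO_apply (b : ↥(BO m F A B)) (x y : I m) :
    φO m F A B (δO m F A B b) x y = if ht m x = ht m y then φO m F A B b.1 x y else 0 :=
  Classical.choose_spec
    (Cfsg.Agent.Lib.Helper84_StOm_DIAGHOM.exists_diagHom (m := m) (F := F) (A := A) (B := B)) b x y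

/-- the block unitriangular isometries -/
noncomputable def UO (m : ℕ) (F : Type*) [Field F] [Fintype F] (A B : F) [Fact (Aniso A B)] :
    Subgroup (OO m F A B) :=
  (δO m F A B).ker.map (BO m F A B).subtype

theorem mem_UO {u : OO m F A B} :
    u ∈ UO m F A B ↔ u ∈ BO m F A B ∧
      ∀ x y : I m, ht m x = ht m y → φO m F A B u x y = (1 : Matrix (I m) (I m) F) x y := by
  constructor
  · rintro ⟨b, hb, rfl⟩
    refine ⟨b.2, ?_⟩
    intro x y hxy
    rw [SetLike.mem_coe, MonoidHom.mem_ker] at hb
    have := δO_apply b x y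
    rw [hb, if_pos hxy, map_one] at this
    exact this.symm
  · rintro ⟨hu, h⟩
    refine ⟨⟨u, hu⟩, ?_, rfl⟩
    rw [SetLike.mem_coe, MonoidHom.mem_ker]
    apply φO_injective
    ext x y
    rw [δO_apply, map_one]
    by_cases hxy : ht m x = ht m y
    · rw [if_pos hxy]
      exact h x y hxy
    · rw [if_neg hxy, Matrix.one_apply_ne (fun e => hxy (by rw [e]))]

theorem UO_le_BO : UO m F A B ≤ BO m F A B := fun u hu => (mem_UO.1 hu).1

/-- the positive root elements, as isometries -/
def posSetO (m : ℕ) (F : Type*) [Field F] [Fintype F] (A B : F) [Fact (Aniso A B)] : Set (OO m F A B) :=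
  {g | (∃ (a c : I m) (t : F), LxOK a c ∧ ht m a < ht m c ∧ g = lxO A B a c t) ∨
    (∃ (i : Fin m) (s t : F), g = sxO A B (ie i) s t)}

/-- the isometries whose columns `e_i`, `f_i`, `i < k`, are identity columns -/
def CkO (k : ℕ) : Set (OO m F A B) :=
  {g | ∀ i : Fin m, i.val < k → ∀ b : I m,
    φO m F A B g b (ie i) = (1 : Matrix (I m) (I m) F) b (ie i) ∧
    φO m F A B g b (jf i) = (1 : Matrix (I m) (I m) F) b (jf i)}

theorem mem_CkO_zero (g : OO m F A B) : g ∈ CkO (m := m) (F := F) (A := A) (B := B) 0 := by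
  intro i hi
  exact absurd hi (Nat.not_lt_zero _)

end Cfsg.Agent.Lib.Helper22_EA2OmDefs
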