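import Mathlib
import Cfsg.Agent.Lib.Helper22_EA2OmDefs

/-!
# S4625 (helper68), family POmega^-: mini-market `eam_packages` (architect helper22), package OM-END
(helper10): a block unitriangular isometry fixing all `e_i`, `f_i` is the identity.
-/

set_option autoImplicit false
set_option linter.unusedSectionVars false
set_option linter.unusedVariables false

namespace Cfsg.Agent.Lib.Helper10_EAM_OMEND

open Matrix Cfsg.Agent.Lib.Helper68_MatGrp Cfsg.Agent.Lib.Helper22_BlkGrp Cfsg.Agent.Lib.Helper22_StOmDefs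
  Cfsg.Agent.Lib.Helper22_EA2OmDefs

variable {m : ℕ} {F : Type*} [Field F] [Fintype F] {A B : F} [Fact (Aniso A B)]

theorem om_end (x : OO m F A B) (hx : x ∈ UO m F A B)
    (hxk : x ∈ CkO (m := m) (F := F) (A := A) (B := B) m) : x = 1 := by
  have hcol : ∀ c : I m, ¬ IsPl c → ∀ y, φO m F A B x y c = (1 : Matrix (I m) (I m) F) y c := by
    intro c hc y
    rcases index_cases c with ⟨i, rfl⟩ | ⟨i, rfl⟩ | rfl | rfl
    · exact (hxk i i.2 y).1
    · exact (hxk i i.2 y).2
    · exact absurd isPl_d0 hc
    · exact absurd isPl_d1 hc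
  apply φO_injective
  rw [map_one]
  ext a b
  by_cases hb : IsPl b
  · by_cases ha : IsPl a
    · exact (mem_UO.1 hx).2 a b (by rw [ht_of_isPl ha, ht_of_isPl hb])
    · have hab : a ≠ b := fun e => ha (e ▸ hb)
      rw [Matrix.one_apply_ne hab]
      have hopa : ¬ IsPl (op a) := fun h => ha (isPl_op.mp h)
      have h1 := φO_polar x (Pi.single b 1) (Pi.single (op a) 1)
      have hcolop : φO m F A B x *ᵥ Pi.single (op a) 1 = Pi.single (op a) 1 := by
        rw [Cfsg.Agent.Lib.Helper22_StOmDefs.mulVec_single_one]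
        funext y
        rw [hcol (op a) hopa y, Matrix.one_apply, Pi.single_apply]
      rw [hcolop, polar_single_np A B _ hopa, polar_single_np A B _ hopa, one_mul, one_mul, op_op,
        Cfsg.Agent.Lib.Helper22_StOmDefs.mulVec_single_one, Pi.single_eq_of_ne hab] at h1
      exact h1
  · exact hcol b hb a

end Cfsg.Agent.Lib.Helper10_EAM_OMEND
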