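import Mathlib
import Cfsg.Agent.S0754
import Cfsg.Agent.Lib.Helper13_Herm

/-!
# Counting vectors of given Hermitian norm (helper5)

`cnt n q c` = number of `v : Fin n → F` with `hermForm n F q v v = c`; recursion `cnt_succ`,
closed formulas `cnt_main` (in `ℤ`, multiplied by `q`), `card_norm_one`, `card_norm_zero`.
-/

set_option autoImplicit false
set_option linter.unusedSectionVars false

namespace Cfsg.Agent.Lib.Helper5_HermCount

open Cfsg.Agent.Lib.Helper13_Herm

variable {F : Type*} [Field F] [Fintype F] {q : ℕ}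

/-- number of vectors of Hermitian norm `c` -/
noncomputable def cnt (n q : ℕ) (c : F) : ℕ := Nat.card {v : Fin n → F // Cfsg.hermForm n F q v v = c}

lemma norm_fixed (hF : Fintype.card F = q ^ 2) (x : F) : (x * x ^ q) ^ q = x * x ^ q := by
  rw [mul_pow, pow_q_pow_q hF, mul_comm]

omit [Fintype F] in
lemma hermForm_cons (n : ℕ) (x : F) (w : Fin n → F) :
    Cfsg.hermForm (n + 1) F q (Fin.cons x w) (Fin.cons x w) = x * x ^ q + Cfsg.hermForm n F q w w := by
  unfold Cfsg.hermForm
  rw [Fin.sum_univ_succ]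
  simp

lemma cnt_succ (n : ℕ) (c : F) : cnt (n + 1) q c = ∑ x : F, cnt n q (c - x * x ^ q) := by
  unfold cnt
  rw [← Nat.card_sigma]
  refine Nat.card_congr ?_
  refine ((Equiv.subtypeEquiv (Fin.consEquiv (fun _ => F)).symm ?_).trans
    (Equiv.subtypeProdEquivSigmaSubtype (fun (x : F) (w : Fin n → F) => Cfsg.hermForm n F q w w = c - x * x ^ q)))
  intro v
  have hv : v = Fin.cons (v 0) (Fin.tail v) := (Fin.cons_self_tail v).symm
  conv_lhs => rw [hv, hermForm_cons]
  simp only [Fin.consEquiv_symm_apply]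
  constructor
  · intro h; rw [← h]; ring
  · intro h; rw [h]; ring

lemma cnt_zero_zero : cnt 0 q (0 : F) = 1 := by
  unfold cnt
  have : ∀ v : Fin 0 → F, Cfsg.hermForm 0 F q v v = 0 := by
    intro v; simp [Cfsg.hermForm]
  simp only [this]
  rw [Nat.card_eq_fintype_card, Fintype.card_subtype_true]
  simp

lemma cnt_zero_ne {c : F} (hc : c ≠ 0) : cnt 0 q c = 0 := by
  unfold cnt
  have : ∀ v : Fin 0 → F, Cfsg.hermForm 0 F q v v = 0 := by
    intro v; simp [Cfsg.hermForm]
  simp only [this]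
  have : IsEmpty {v : Fin 0 → F // (0 : F) = c} := ⟨fun v => hc v.2.symm⟩
  exact Nat.card_of_isEmpty

lemma card_norm_eq (hF : Fintype.card F = q ^ 2) [DecidableEq F] {c : F} (hc : c ≠ 0) (hcq : c ^ q = c) :
    (Finset.univ.filter (fun x : F => x * x ^ q = c)).card = q + 1 := by
  rw [← Cfsg.Agent.S0754.result hF c hc hcq, Nat.card_eq_fintype_card, Fintype.card_subtype]
  congr 1
  ext x
  simp [pow_succ']

lemma norm_eq_zero_iff (hF : Fintype.card F = q ^ 2) (x : F) : x * x ^ q = 0 ↔ x = 0 := by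
  constructor
  · intro h
    rcases mul_eq_zero.mp h with h | h
    · exact h
    · exact pow_eq_zero_iff (by have := two_le_q hF; omega) |>.mp h
  · rintro rfl; simp

theorem cnt_main (hF : Fintype.card F = q ^ 2) (n : ℕ) :
    ((q : ℤ) * cnt n q (0 : F) = (q : ℤ) ^ (2 * n) + (-1) ^ n * ((q : ℤ) ^ (n + 1) - (q : ℤ) ^ n)) ∧
    ∀ c : F, c ≠ 0 → c ^ q = c → (q : ℤ) * cnt n q c = (q : ℤ) ^ (2 * n) - (-1) ^ n * (q : ℤ) ^ n := by
  classical
  induction n with
  | zero =>
    refine ⟨?_, ?_⟩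
    · rw [cnt_zero_zero]; simp
    · intro c hc _
      rw [cnt_zero_ne hc]; simp
  | succ n ih =>
    obtain ⟨ih0, ih1⟩ := ih
    have hq2 := two_le_q hF
    refine ⟨?_, ?_⟩
    · rw [cnt_succ]
      push_cast
      rw [Finset.mul_sum, ← Finset.add_sum_erase Finset.univ _ (Finset.mem_univ (0 : F))]
      have h1 : ∀ x ∈ Finset.univ.erase (0 : F), (q : ℤ) * (cnt n q (0 - x * x ^ q) : ℤ)
          = (q : ℤ) ^ (2 * n) - (-1) ^ n * (q : ℤ) ^ n := by
        intro x hx
        have hx0 : x ≠ 0 := Finset.ne_of_mem_erase hx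
        apply ih1
        · rw [zero_sub, neg_ne_zero]
          exact fun h => hx0 ((norm_eq_zero_iff hF x).mp h)
        · rw [zero_sub, neg_pow_q hF, norm_fixed hF]
      rw [Finset.sum_congr rfl h1, Finset.sum_const, Finset.card_erase_of_mem (Finset.mem_univ _),
        Finset.card_univ, hF]
      simp only [zero_mul, zero_pow (by omega : q ≠ 0), mul_zero, sub_zero, nsmul_eq_mul]
      rw [ih0]
      have : ((q ^ 2 - 1 : ℕ) : ℤ) = (q : ℤ) ^ 2 - 1 := by
        rw [Nat.cast_sub (by nlinarith), Nat.cast_pow, Nat.cast_one]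
      rw [this]
      ring
    · intro c hc hcq
      rw [cnt_succ]
      push_cast
      rw [Finset.mul_sum, ← Finset.sum_filter_add_sum_filter_not Finset.univ (fun x : F => x * x ^ q = c)]
      have h1 : ∀ x ∈ Finset.univ.filter (fun x : F => x * x ^ q = c), (q : ℤ) * (cnt n q (c - x * x ^ q) : ℤ)
          = (q : ℤ) ^ (2 * n) + (-1) ^ n * ((q : ℤ) ^ (n + 1) - (q : ℤ) ^ n) := by
        intro x hx
        rw [(Finset.mem_filter.mp hx).2, sub_self, ih0]
      have h2 : ∀ x ∈ Finset.univ.filter (fun x : F => ¬ x * x ^ q = c), (q : ℤ) * (cnt n q (c - x * x ^ q) : ℤ)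
          = (q : ℤ) ^ (2 * n) - (-1) ^ n * (q : ℤ) ^ n := by
        intro x hx
        apply ih1
        · exact sub_ne_zero.mpr (fun h => (Finset.mem_filter.mp hx).2 h.symm)
        · rw [sub_pow_q hF, hcq, norm_fixed hF]
      rw [Finset.sum_congr rfl h1, Finset.sum_congr rfl h2, Finset.sum_const, Finset.sum_const]
      have hc1 := card_norm_eq hF hc hcq
      have hc2 : (Finset.univ.filter (fun x : F => ¬ x * x ^ q = c)).card = q ^ 2 - (q + 1) := by
        have := Finset.card_filter_add_card_filter_not (s := (Finset.univ : Finset F)) (fun x : F => x * x ^ q = c)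
        rw [hc1, Finset.card_univ, hF] at this
        omega
      rw [hc1, hc2]
      have : ((q ^ 2 - (q + 1) : ℕ) : ℤ) = (q : ℤ) ^ 2 - (q + 1) := by
        rw [Nat.cast_sub (by nlinarith)]; push_cast; ring
      simp only [nsmul_eq_mul]
      rw [this]
      push_cast
      ring

theorem card_norm_one (hF : Fintype.card F = q ^ 2) (n : ℕ) :
    Nat.card {v : Fin n → F // Cfsg.hermForm n F q v v = 1} = (if Even n then q ^ (n - 1) * (q ^ n - 1) else q ^ (n - 1) * (q ^ n + 1)) := by
  have hq2 := two_le_q hF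
  have hmain := (cnt_main hF n).2 1 one_ne_zero (one_pow q)
  have hq0 : (q : ℤ) ≠ 0 := by exact_mod_cast (by omega : q ≠ 0)
  have hpos : 1 ≤ q ^ n := Nat.one_le_pow _ _ (by omega)
  change cnt n q (1 : F) = _
  rcases Nat.eq_zero_or_pos n with rfl | hn
  · rw [cnt_zero_ne one_ne_zero]; simp
  · obtain ⟨k, rfl⟩ : ∃ k, n = k + 1 := ⟨n - 1, by omega⟩
    have hZ : ((cnt (k + 1) q (1 : F) : ℕ) : ℤ) = ((if Even (k + 1) then q ^ (k + 1 - 1) * (q ^ (k + 1) - 1) else q ^ (k + 1 - 1) * (q ^ (k + 1) + 1) : ℕ) : ℤ) := by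
      apply mul_left_cancel₀ hq0
      rw [hmain]
      split_ifs with he
      · rw [he.neg_one_pow]
        simp only [Nat.add_sub_cancel]
        push_cast [Nat.cast_sub hpos]
        ring
      · rw [(Nat.not_even_iff_odd.mp he).neg_one_pow]
        simp only [Nat.add_sub_cancel]
        push_cast
        ring
    exact_mod_cast hZ

theorem card_norm_zero (hF : Fintype.card F = q ^ 2) (n : ℕ) :
    Nat.card {v : Fin n → F // Cfsg.hermForm n F q v v = 0} = (if Even n then (q ^ n - 1) * (q ^ (n - 1) + 1) else (q ^ n + 1) * (q ^ (n - 1) - 1)) + 1 := by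
  have hq2 := two_le_q hF
  have hmain := (cnt_main hF n).1
  have hq0 : (q : ℤ) ≠ 0 := by exact_mod_cast (by omega : q ≠ 0)
  have hpos : 1 ≤ q ^ n := Nat.one_le_pow _ _ (by omega)
  change cnt n q (0 : F) = _
  rcases Nat.eq_zero_or_pos n with rfl | hn
  · rw [cnt_zero_zero]; simp
  · obtain ⟨k, rfl⟩ : ∃ k, n = k + 1 := ⟨n - 1, by omega⟩
    have hpos' : 1 ≤ q ^ k := Nat.one_le_pow _ _ (by omega)
    have hZ : ((cnt (k + 1) q (0 : F) : ℕ) : ℤ) = (((if Even (k + 1) then (q ^ (k + 1) - 1) * (q ^ (k + 1 - 1) + 1) else (q ^ (k + 1) + 1) * (q ^ (k + 1 - 1) - 1)) + 1 : ℕ) : ℤ) := by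
      apply mul_left_cancel₀ hq0
      rw [hmain]
      split_ifs with he
      · rw [he.neg_one_pow]
        simp only [Nat.add_sub_cancel]
        push_cast [Nat.cast_sub hpos]
        ring
      · rw [(Nat.not_even_iff_odd.mp he).neg_one_pow]
        simp only [Nat.add_sub_cancel]
        push_cast [Nat.cast_sub hpos']
        ring
    exact_mod_cast hZ

end Cfsg.Agent.Lib.Helper5_HermCount
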