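import Mathlib
import Cfsg.Agent.Lib.Helper5_HermCount
import Cfsg.Prelude.Def_LieClassical

/-!
# The order of the general unitary group (helper5)

`IsU n q M` (matrix preserves `hermForm`), `mkGU`, quasi-reflections `isU_transvection`,
transitivity of `GU_n` on norm-one vectors (`exists_map`, `pretransitive`), block matrices `blk`,
the stabiliser of `e0` is `GU_n` (`stabEquiv`), `card_GU_succ`, `card_GU`.
-/

set_option autoImplicit false
set_option linter.unusedSectionVars false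
set_option linter.unusedVariables false

namespace Cfsg.Agent.Lib.Helper5_GUOrder

open Matrix Cfsg.Agent.Lib.Helper13_Herm Cfsg.Agent.Lib.Helper5_HermCount

variable {F : Type*} [Field F] [Fintype F] {q : ℕ}

/-- matrices preserving the Hermitian form -/
def IsU (n q : ℕ) (M : Matrix (Fin n) (Fin n) F) : Prop :=
  ∀ u v, Cfsg.hermForm n F q (M *ᵥ u) (M *ᵥ v) = Cfsg.hermForm n F q u v

lemma mem_GU_iff {n : ℕ} (g : GL (Fin n) F) : g ∈ Cfsg.GU n F q ↔ IsU n q (g : Matrix (Fin n) (Fin n) F) := Iff.rfl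

lemma IsU.isUnit {n : ℕ} (hq : q ≠ 0) {M : Matrix (Fin n) (Fin n) F} (hM : IsU n q M) : IsUnit M := by
  rw [← Matrix.mulVec_injective_iff_isUnit]
  intro u u' huu'
  ext i
  have := hM (u - u') (Pi.single i 1)
  rw [Matrix.mulVec_sub, huu', sub_self, hermForm_zero_left, hermForm_single_right n hq] at this
  have h2 : u i - u' i = 0 := this.symm
  exact sub_eq_zero.mp h2

/-- build an element of `GU` from a form-preserving matrix -/
noncomputable def mkGU {n : ℕ} (hq : q ≠ 0) (M : Matrix (Fin n) (Fin n) F) (hM : IsU n q M) : Cfsg.GU n F q :=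
  ⟨(hM.isUnit hq).unit, by
    rw [mem_GU_iff]
    exact hM⟩

lemma mkGU_val {n : ℕ} (hq : q ≠ 0) (M : Matrix (Fin n) (Fin n) F) (hM : IsU n q M) :
    ((mkGU hq M hM : Cfsg.GU n F q) : GL (Fin n) F).1 = M := rfl

/-- the unitarity condition for quasi-reflections -/
lemma isU_transvection (hF : Fintype.card F = q ^ 2) {n : ℕ} (w : Fin n → F) (a : F)
    (ha : a + a ^ q + a * a ^ q * Cfsg.hermForm n F q w w = 0) :
    IsU n q (Cfsg.unitaryTransvection n q w a) := by
  intro x y
  rw [unitaryTransvection_mulVec, unitaryTransvection_mulVec]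
  simp only [hermForm_add_left, hermForm_add_right n hF, hermForm_smul_left, hermForm_smul_right, mul_pow,
    hermForm_pow_q n hF]
  linear_combination (Cfsg.hermForm n F q x w * Cfsg.hermForm n F q w y) * ha

lemma isU_smul (hF : Fintype.card F = q ^ 2) {n : ℕ} (l : F) (hl : l * l ^ q = 1) :
    IsU n q (l • (1 : Matrix (Fin n) (Fin n) F)) := by
  intro x y
  rw [Matrix.smul_mulVec, Matrix.smul_mulVec, Matrix.one_mulVec, Matrix.one_mulVec, hermForm_smul_left,
    hermForm_smul_right, ← mul_assoc, hl, one_mul]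

/-- vectors of norm one -/
def X (n q : ℕ) (F : Type*) [Field F] : Type _ := {v : Fin n → F // Cfsg.hermForm n F q v v = 1}

instance (n : ℕ) : MulAction (Cfsg.GU n F q) (X n q F) where
  smul g p := ⟨(g.1 : Matrix (Fin n) (Fin n) F) *ᵥ p.1, by
    rw [(mem_GU_iff g.1).mp g.2 p.1 p.1]; exact p.2⟩
  one_smul p := by
    apply Subtype.ext
    show ((1 : Cfsg.GU n F q).1 : Matrix (Fin n) (Fin n) F) *ᵥ p.1 = p.1
    simp
  mul_smul g g' p := by
    apply Subtype.ext
    show ((g * g').1 : Matrix (Fin n) (Fin n) F) *ᵥ p.1 = (g.1 : Matrix (Fin n) (Fin n) F) *ᵥ ((g'.1 : Matrix (Fin n) (Fin n) F) *ᵥ p.1)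
    simp [Matrix.mulVec_mulVec]

lemma smul_X_val (n : ℕ) (g : Cfsg.GU n F q) (p : X n q F) :
    (g • p).1 = (g.1 : Matrix (Fin n) (Fin n) F) *ᵥ p.1 := rfl

/-- move `u` to `v` when `h(u,v) ≠ 1` -/
lemma exists_map_of_ne_one (hF : Fintype.card F = q ^ 2) {n : ℕ} (u v : Fin n → F)
    (hu : Cfsg.hermForm n F q u u = 1) (hv : Cfsg.hermForm n F q v v = 1) (huv : Cfsg.hermForm n F q u v ≠ 1) :
    ∃ M : Matrix (Fin n) (Fin n) F, IsU n q M ∧ M *ᵥ u = v := by
  have hq0 : q ≠ 0 := by have := two_le_q hF; omega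
  set d := 1 - Cfsg.hermForm n F q u v with hd
  have hd0 : d ≠ 0 := sub_ne_zero.mpr (Ne.symm huv)
  have hdq0 : d ^ q ≠ 0 := pow_ne_zero _ hd0
  have hsub_right : ∀ x y z : Fin n → F, Cfsg.hermForm n F q x (y - z) = Cfsg.hermForm n F q x y - Cfsg.hermForm n F q x z := by
    intro x y z
    have : y - z = y + (-1 : F) • z := by simp [sub_eq_add_neg]
    rw [this, hermForm_add_right n hF, hermForm_smul_right, neg_pow_q hF, one_pow]; ring
  have hsub_left : ∀ x y z : Fin n → F, Cfsg.hermForm n F q (x - y) z = Cfsg.hermForm n F q x z - Cfsg.hermForm n F q y z := by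
    intro x y z
    have : x - y = x + (-1 : F) • y := by simp [sub_eq_add_neg]
    rw [this, hermForm_add_left, hermForm_smul_left]; ring
  have huw : Cfsg.hermForm n F q u (u - v) = d := by rw [hsub_right, hu]
  have hww : Cfsg.hermForm n F q (u - v) (u - v) = d + d ^ q := by
    rw [hsub_right, hsub_left, hsub_left, hu, hv, hd, sub_pow_q hF, one_pow, hermForm_pow_q n hF]
    ring
  refine ⟨Cfsg.unitaryTransvection n q (u - v) (-d⁻¹), isU_transvection hF _ _ ?_, ?_⟩
  · rw [hww, neg_pow_q hF, inv_pow]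
    field_simp
    ring
  · rw [unitaryTransvection_mulVec, huw, neg_mul, inv_mul_cancel₀ hd0]
    simp

lemma exists_norm_one_ne_one (hF : Fintype.card F = q ^ 2) : ∃ l : F, l * l ^ q = 1 ∧ l ≠ 1 := by
  classical
  have hq2 := two_le_q hF
  have hc := card_norm_eq hF (c := (1 : F)) one_ne_zero (one_pow q)
  have : 1 < (Finset.univ.filter (fun x : F => x * x ^ q = 1)).card := by rw [hc]; omega
  obtain ⟨l, hl, hl1⟩ := Finset.exists_mem_ne this 1
  exact ⟨l, (Finset.mem_filter.mp hl).2, hl1⟩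

lemma exists_map (hF : Fintype.card F = q ^ 2) {n : ℕ} (u v : Fin n → F)
    (hu : Cfsg.hermForm n F q u u = 1) (hv : Cfsg.hermForm n F q v v = 1) :
    ∃ M : Matrix (Fin n) (Fin n) F, IsU n q M ∧ M *ᵥ u = v := by
  by_cases huv : Cfsg.hermForm n F q u v = 1
  · obtain ⟨l, hl, hl1⟩ := exists_norm_one_ne_one hF
    have hl0 : l ≠ 0 := by rintro rfl; simp at hl
    have hlq : l ^ q ≠ 1 := by
      intro h; rw [h, mul_one] at hl; exact hl1 hl
    obtain ⟨M, hM, hMu⟩ := exists_map_of_ne_one hF u (l • v) hu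
      (by rw [hermForm_smul_left, hermForm_smul_right, hv, mul_one, hl])
      (by rw [hermForm_smul_right, huv, mul_one]; exact hlq)
    refine ⟨(l⁻¹ • (1 : Matrix (Fin n) (Fin n) F)) * M, ?_, ?_⟩
    · intro x y
      rw [← Matrix.mulVec_mulVec, ← Matrix.mulVec_mulVec]
      rw [isU_smul hF l⁻¹ (by rw [inv_pow, ← mul_inv, hl, inv_one]) _ _, hM]
    · rw [← Matrix.mulVec_mulVec, hMu, Matrix.smul_mulVec, Matrix.one_mulVec, smul_smul, inv_mul_cancel₀ hl0, one_smul]
  · exact exists_map_of_ne_one hF u v hu hv huv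

lemma pretransitive (hF : Fintype.card F = q ^ 2) (n : ℕ) : MulAction.IsPretransitive (Cfsg.GU n F q) (X n q F) where
  exists_smul_eq p p' := by
    have hq0 : q ≠ 0 := by have := two_le_q hF; omega
    obtain ⟨M, hM, hMu⟩ := exists_map hF p.1 p'.1 p.2 p'.2
    refine ⟨mkGU hq0 M hM, ?_⟩
    apply Subtype.ext
    rw [smul_X_val, mkGU_val, hMu]

omit [Fintype F] in
lemma hermForm_cons' (n : ℕ) (x y : F) (w z : Fin n → F) :
    Cfsg.hermForm (n + 1) F q (Fin.cons x w) (Fin.cons y z) = x * y ^ q + Cfsg.hermForm n F q w z := by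
  unfold Cfsg.hermForm
  rw [Fin.sum_univ_succ]
  simp

/-- block matrix `diag(1, N)` -/
def blk {n : ℕ} (N : Matrix (Fin n) (Fin n) F) : Matrix (Fin (n + 1)) (Fin (n + 1)) F :=
  Matrix.of (Fin.cons (Fin.cons 1 0) (fun i => Fin.cons 0 (N i)))

omit [Fintype F] in
lemma blk_mulVec {n : ℕ} (N : Matrix (Fin n) (Fin n) F) (v : Fin (n + 1) → F) :
    blk N *ᵥ v = Fin.cons (v 0) (N *ᵥ Fin.tail v) := by
  ext i
  refine Fin.cases ?_ (fun i' => ?_) i
  · simp [blk, Matrix.mulVec, dotProduct, Fin.sum_univ_succ]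
  · simp [blk, Matrix.mulVec, dotProduct, Fin.sum_univ_succ, Fin.tail]

omit [Fintype F] in
lemma blk_submatrix {n : ℕ} (N : Matrix (Fin n) (Fin n) F) : (blk N).submatrix Fin.succ Fin.succ = N := by
  ext i j
  simp [blk]

lemma isU_blk {n : ℕ} {N : Matrix (Fin n) (Fin n) F} (hN : IsU n q N) : IsU (n + 1) q (blk N) := by
  intro u v
  rw [blk_mulVec, blk_mulVec, hermForm_cons', hN]
  conv_rhs => rw [← Fin.cons_self_tail u, ← Fin.cons_self_tail v, hermForm_cons']

/-- the first standard basis vector -/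
def e0 (n : ℕ) : Fin (n + 1) → F := Pi.single 0 1

omit [Fintype F] in
lemma blk_mulVec_e0 {n : ℕ} (N : Matrix (Fin n) (Fin n) F) : blk N *ᵥ (e0 n) = e0 n := by
  rw [blk_mulVec]
  ext i
  refine Fin.cases ?_ (fun i' => ?_) i
  · simp [e0]
  · have : Fin.tail (e0 n : Fin (n + 1) → F) = 0 := by
      ext j; simp [e0, Fin.tail, Fin.succ_ne_zero]
    rw [this]
    simp [e0, Fin.succ_ne_zero]

lemma eq_blk_of_fix (hq : q ≠ 0) {n : ℕ} (M : Matrix (Fin (n + 1)) (Fin (n + 1)) F) (hM : IsU (n + 1) q M)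
    (h0 : M *ᵥ (e0 n) = e0 n) :
    IsU n q (M.submatrix Fin.succ Fin.succ) ∧ M = blk (M.submatrix Fin.succ Fin.succ) := by
  have hcol : ∀ i, M i 0 = (e0 n : Fin (n + 1) → F) i := by
    intro i
    have := congrFun h0 i
    rw [e0, Matrix.mulVec_single_one] at this
    exact this
  have hrow : ∀ j : Fin n, M 0 j.succ = 0 := by
    intro j
    have h1 := hM (Pi.single j.succ 1) (e0 n)
    rw [h0, e0, hermForm_single_right (n + 1) hq, hermForm_single_right (n + 1) hq, Matrix.mulVec_single_one] at h1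
    simpa [Fin.succ_ne_zero] using h1
  have hblk : M = blk (M.submatrix Fin.succ Fin.succ) := by
    ext i j
    refine Fin.cases ?_ (fun i' => ?_) i <;> refine Fin.cases ?_ (fun j' => ?_) j
    · simp [blk, hcol, e0]
    · simp [blk, hrow]
    · simp [blk, hcol, e0, Fin.succ_ne_zero]
    · simp [blk]
  refine ⟨?_, hblk⟩
  intro x y
  have h1 := hM (Fin.cons 0 x) (Fin.cons 0 y)
  rw [hblk, blk_mulVec, blk_mulVec, hermForm_cons', hermForm_cons'] at h1
  simpa using h1

/-- the base point -/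
def x0 (hq : q ≠ 0) (n : ℕ) : X (n + 1) q F := ⟨e0 n, by
  rw [e0, hermForm_single_right (n + 1) hq]; simp⟩

lemma mem_stabilizer_x0 (hq : q ≠ 0) (n : ℕ) (g : Cfsg.GU (n + 1) F q) :
    g ∈ MulAction.stabilizer (Cfsg.GU (n + 1) F q) (x0 hq n : X (n + 1) q F) ↔
      (g.1 : Matrix (Fin (n + 1)) (Fin (n + 1)) F) *ᵥ (e0 n) = e0 n := by
  rw [MulAction.mem_stabilizer_iff]
  constructor
  · intro h
    have h1 := congrArg Subtype.val h
    rw [smul_X_val] at h1
    exact h1
  · intro h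
    apply Subtype.ext
    rw [smul_X_val]
    exact h

noncomputable def stabEquiv (hq : q ≠ 0) (n : ℕ) :
    MulAction.stabilizer (Cfsg.GU (n + 1) F q) (x0 hq n : X (n + 1) q F) ≃ Cfsg.GU n F q where
  toFun g := mkGU hq ((g.1.1 : Matrix (Fin (n + 1)) (Fin (n + 1)) F).submatrix Fin.succ Fin.succ)
    (eq_blk_of_fix hq _ ((mem_GU_iff g.1.1).mp g.1.2) ((mem_stabilizer_x0 hq n g.1).mp g.2)).1
  invFun N := ⟨mkGU hq (blk (N.1 : Matrix (Fin n) (Fin n) F)) (isU_blk ((mem_GU_iff N.1).mp N.2)),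
    (mem_stabilizer_x0 hq n _).mpr (by rw [mkGU_val]; exact blk_mulVec_e0 _)⟩
  left_inv g := by
    apply Subtype.ext
    apply Subtype.ext
    apply Units.ext
    show blk ((g.1.1 : Matrix (Fin (n + 1)) (Fin (n + 1)) F).submatrix Fin.succ Fin.succ) = (g.1.1 : Matrix (Fin (n + 1)) (Fin (n + 1)) F)
    exact (eq_blk_of_fix hq _ ((mem_GU_iff g.1.1).mp g.1.2) ((mem_stabilizer_x0 hq n g.1).mp g.2)).2.symm
  right_inv N := by
    apply Subtype.ext
    apply Units.ext
    show (blk (N.1 : Matrix (Fin n) (Fin n) F)).submatrix Fin.succ Fin.succ = (N.1 : Matrix (Fin n) (Fin n) F)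
    exact blk_submatrix _

theorem card_GU_succ (hF : Fintype.card F = q ^ 2) (n : ℕ) :
    Nat.card (Cfsg.GU (n + 1) F q) = Nat.card (X (n + 1) q F) * Nat.card (Cfsg.GU n F q) := by
  have hq0 : q ≠ 0 := by have := two_le_q hF; omega
  have := pretransitive hF (n + 1)
  have h1 := Subgroup.card_mul_index
    (MulAction.stabilizer (Cfsg.GU (n + 1) F q) (x0 hq0 n : X (n + 1) q F))
  rw [MulAction.index_stabilizer_of_transitive, Nat.card_congr (stabEquiv hq0 n)] at h1
  rw [← h1, mul_comm]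

theorem card_GU {F : Type*} [Field F] [Fintype F] {q : ℕ} (hF : Fintype.card F = q ^ 2) (n : ℕ) : Nat.card (Cfsg.GU n F q) = q ^ (n * (n - 1) / 2) * ∏ i ∈ Finset.range n, (if Even i then q ^ (i + 1) + 1 else q ^ (i + 1) - 1) := by
  induction n with
  | zero =>
    have : Subsingleton (Cfsg.GU 0 F q) := ⟨fun a b => Subtype.ext (Units.ext (Subsingleton.elim _ _))⟩
    rw [Nat.card_of_subsingleton (1 : Cfsg.GU 0 F q)]
    simp
  | succ k ih =>
    rw [card_GU_succ hF, ih, Finset.prod_range_succ]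
    have hX : Nat.card (X (k + 1) q F) = (if Even (k + 1) then q ^ k * (q ^ (k + 1) - 1) else q ^ k * (q ^ (k + 1) + 1)) :=
      card_norm_one hF (k + 1)
    rw [hX]
    have hexp : (k + 1) * (k + 1 - 1) / 2 = k + k * (k - 1) / 2 := by
      rcases Nat.eq_zero_or_pos k with rfl | hk
      · simp
      · obtain ⟨j, rfl⟩ : ∃ j, k = j + 1 := ⟨k - 1, by omega⟩
        simp only [Nat.add_sub_cancel]
        have h2 : (j + 1 + 1) * (j + 1) = 2 * (j + 1) + (j + 1) * j := by ring
        rw [h2, Nat.mul_add_div (by norm_num : 0 < 2)]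
    rw [hexp, pow_add]
    by_cases he : Even k
    · have hne : ¬ Even (k + 1) := by rw [Nat.even_add_one]; exact not_not.mpr he
      simp only [he, hne, if_true, if_false]
      ring
    · have hne : Even (k + 1) := by rw [Nat.even_add_one]; exact he
      simp only [he, hne, if_true, if_false]
      ring

end Cfsg.Agent.Lib.Helper5_GUOrder
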