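import Mathlib
import Cfsg.Agent.Lib.Helper5_GUOrder

/-!
# The order of the special unitary group (helper5)

`powQ` (`x ↦ x^q` as a ring hom), `transpose_mul_map_of_isU` (`Mᵀ * M^(q) = 1`),
`det_mul_det_pow_of_isU`, `detGU`, `kerEquiv : ker detGU ≃ SU`, `isU_diagonal`,
`rangeEquiv`, `card_SU`.
-/

set_option autoImplicit false
set_option linter.unusedSectionVars false
set_option linter.unusedVariables false

namespace Cfsg.Agent.Lib.Helper5_SUOrder

open Matrix Cfsg.Agent.Lib.Helper13_Herm Cfsg.Agent.Lib.Helper5_HermCount Cfsg.Agent.Lib.Helper5_GUOrder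

variable {F : Type*} [Field F] [Fintype F] {q : ℕ}

/-- `x ↦ x^q` as a ring hom -/
def powQ (hF : Fintype.card F = q ^ 2) : F →+* F where
  toFun x := x ^ q
  map_one' := one_pow q
  map_mul' x y := mul_pow x y q
  map_zero' := zero_pow (by have := two_le_q hF; omega)
  map_add' := add_pow_q hF

lemma transpose_mul_map_of_isU (hF : Fintype.card F = q ^ 2) {n : ℕ} {M : Matrix (Fin n) (Fin n) F} (hM : IsU n q M) :
    Mᵀ * (powQ hF).mapMatrix M = 1 := by
  have hq0 : q ≠ 0 := by have := two_le_q hF; omega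
  ext i j
  have h1 := hM (Pi.single i 1) (Pi.single j 1)
  rw [Matrix.mulVec_single_one, Matrix.mulVec_single_one, hermForm_single_left] at h1
  rw [Matrix.mul_apply, Matrix.one_apply]
  have h2 : ∑ k, Mᵀ i k * ((powQ hF).mapMatrix M) k j = Cfsg.hermForm n F q (M.col i) (M.col j) := by
    unfold Cfsg.hermForm
    rfl
  rw [h2, h1]
  by_cases hij : i = j
  · subst hij; simp
  · simp [hij, hq0, Ne.symm hij]

lemma det_mul_det_pow_of_isU (hF : Fintype.card F = q ^ 2) {n : ℕ} {M : Matrix (Fin n) (Fin n) F} (hM : IsU n q M) :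
    M.det * M.det ^ q = 1 := by
  have h := congrArg Matrix.det (transpose_mul_map_of_isU hF hM)
  rw [Matrix.det_mul, Matrix.det_transpose, Matrix.det_one, ← RingHom.map_det] at h
  exact h

/-- determinant on `GU` -/
noncomputable def detGU (n q : ℕ) (F : Type*) [Field F] : Cfsg.GU n F q →* Fˣ :=
  (Matrix.GeneralLinearGroup.det).comp (Cfsg.GU n F q).subtype

lemma detGU_val {n : ℕ} (g : Cfsg.GU n F q) :
    ((detGU n q F g : Fˣ) : F) = (g.1 : Matrix (Fin n) (Fin n) F).det := rfl

lemma mem_SU_iff {n : ℕ} (s : Matrix.SpecialLinearGroup (Fin n) F) :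
    s ∈ Cfsg.SU n F q ↔ IsU n q (s : Matrix (Fin n) (Fin n) F) := Iff.rfl

/-- the kernel of the determinant on `GU` is `SU` -/
noncomputable def kerEquiv (n : ℕ) : (detGU n q F).ker ≃ Cfsg.SU n F q where
  toFun g := ⟨⟨(g.1.1 : Matrix (Fin n) (Fin n) F), by
      have h := g.2
      rw [MonoidHom.mem_ker] at h
      have h2 := congrArg Units.val h
      rw [detGU_val] at h2
      exact h2⟩, (mem_SU_iff _).mpr ((mem_GU_iff g.1.1).mp g.1.2)⟩
  invFun s := ⟨⟨Matrix.SpecialLinearGroup.toGL s.1, (mem_GU_iff _).mpr ((mem_SU_iff s.1).mp s.2)⟩, by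
      rw [MonoidHom.mem_ker]
      apply Units.ext
      rw [detGU_val]
      exact s.1.2⟩
  left_inv g := by
    apply Subtype.ext
    apply Subtype.ext
    apply Units.ext
    rfl
  right_inv s := by
    apply Subtype.ext
    apply Subtype.ext
    rfl

lemma isU_diagonal {n : ℕ} (d : Fin n → F) (hd : ∀ i, d i * (d i) ^ q = 1) : IsU n q (Matrix.diagonal d) := by
  intro x y
  unfold Cfsg.hermForm
  apply Finset.sum_congr rfl
  intro i _
  rw [Matrix.mulVec_diagonal, Matrix.mulVec_diagonal, mul_pow]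
  linear_combination (x i * y i ^ q) * hd i

/-- the range of the determinant on `GU_{k+1}` is the norm-one group -/
noncomputable def rangeEquiv (hF : Fintype.card F = q ^ 2) (k : ℕ) :
    (detGU (k + 1) q F).range ≃ {x : F // x ^ (q + 1) = 1} where
  toFun u := ⟨(u.1 : F), by
    obtain ⟨g, hg⟩ := u.2
    rw [← hg, detGU_val, pow_succ']
    exact det_mul_det_pow_of_isU hF ((mem_GU_iff g.1).mp g.2)⟩
  invFun x := ⟨Units.mk0 x.1 (by
      intro h0
      have := x.2
      rw [h0, zero_pow (by omega)] at this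
      exact zero_ne_one this), by
    have hq0 : q ≠ 0 := by have := two_le_q hF; omega
    have hd : ∀ i, (Function.update (1 : Fin (k + 1) → F) 0 x.1) i * (Function.update (1 : Fin (k + 1) → F) 0 x.1 i) ^ q = 1 := by
      intro i
      by_cases hi : i = 0
      · subst hi
        rw [Function.update_self, ← pow_succ']
        exact x.2
      · rw [Function.update_of_ne hi]; simp
    refine ⟨mkGU hq0 _ (isU_diagonal _ hd), ?_⟩
    apply Units.ext
    rw [detGU_val, mkGU_val, Matrix.det_diagonal, Fin.prod_univ_succ]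
    simp [Function.update_of_ne, Fin.succ_ne_zero]⟩
  left_inv u := by
    apply Subtype.ext
    apply Units.ext
    rfl
  right_inv x := by
    apply Subtype.ext
    rfl

theorem card_SU {F : Type*} [Field F] [Fintype F] {q : ℕ} (hF : Fintype.card F = q ^ 2) (n : ℕ) (hn : 1 ≤ n) : (q + 1) * Nat.card (Cfsg.SU n F q) = q ^ (n * (n - 1) / 2) * ∏ i ∈ Finset.range n, (if Even i then q ^ (i + 1) + 1 else q ^ (i + 1) - 1) := by
  obtain ⟨k, rfl⟩ : ∃ k, n = k + 1 := ⟨n - 1, by omega⟩
  rw [← card_GU hF (k + 1), ← Subgroup.card_mul_index (detGU (k + 1) q F).ker, Subgroup.index_ker,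
    Nat.card_congr (kerEquiv (k + 1)), Nat.card_congr (rangeEquiv hF k),
    Cfsg.Agent.S0754.result hF 1 one_ne_zero (one_pow q), mul_comm]

end Cfsg.Agent.Lib.Helper5_SUOrder
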