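import Mathlib
import Cfsg.Prelude.Def_FusionSystem

/-!
# 2-fusion systems of `PSL₃(q)` / `PSU₃(q)`, `q` odd: common definitions (architect helper87)

* `SCB S` : (A) `S` has no proper nontrivial strongly closed subgroup (with respect to the ambient
  group) and (B) every element normalizing `S` acts on `S` as an element of `S`
  (`N(S) = S C(S)`).  `SCB` for a Sylow `p`-subgroup gives simplicity of the fusion system.
* `dg a b`, `wsw`, `sc c` : diagonal, swap and scalar matrices in `GL₂(F)`.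
* `iota : GL₂(F) →* SL₃(F)`, `A ↦ diag(A, (det A)⁻¹)`; `t3 = diag(-1,-1,1)`.
* `GL2Syl F S₂` : the facts about a Sylow 2-subgroup `S₂` of `GL₂(F)` used in the proof.
-/

set_option autoImplicit false

namespace Cfsg.Agent.Lib.Helper87_F2L3

open Matrix

/-- (A) no proper nontrivial strongly closed subgroup; (B) `N(S) = S C(S)`. -/
def SCB {G : Type*} [Group G] (S : Subgroup G) : Prop :=
  (∀ T : Subgroup G, T ≤ S → T ≠ ⊥ →
      (∀ t ∈ T, ∀ g : G, g * t * g⁻¹ ∈ S → g * t * g⁻¹ ∈ T) → T = S) ∧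
    (∀ n : G, (∀ s ∈ S, n * s * n⁻¹ ∈ S) →
      ∃ s₀ ∈ S, ∀ x ∈ S, n * x * n⁻¹ = s₀ * x * s₀⁻¹)

variable {F : Type*} [Field F]

/-- The diagonal matrix `diag(a, b)` in `GL₂(F)`. -/
def dg (a b : Fˣ) : GL (Fin 2) F :=
  ⟨!![(a : F), 0; 0, (b : F)], !![((a⁻¹ : Fˣ) : F), 0; 0, ((b⁻¹ : Fˣ) : F)],
    by ext i j; fin_cases i <;> fin_cases j <;> simp [Matrix.mul_apply, Fin.sum_univ_two],
    by ext i j; fin_cases i <;> fin_cases j <;> simp [Matrix.mul_apply, Fin.sum_univ_two]⟩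

/-- The swap matrix in `GL₂(F)`. -/
def wsw : GL (Fin 2) F :=
  ⟨!![0, 1; 1, 0], !![0, 1; 1, 0],
    by ext i j; fin_cases i <;> fin_cases j <;> simp [Matrix.mul_apply, Fin.sum_univ_two],
    by ext i j; fin_cases i <;> fin_cases j <;> simp [Matrix.mul_apply, Fin.sum_univ_two]⟩

/-- The scalar matrix `c • 1` in `GL₂(F)`. -/
def sc (c : Fˣ) : GL (Fin 2) F := dg c c

/-- The underlying matrix of `iota A`. -/
def iotaMat (A : Matrix (Fin 2) (Fin 2) F) : Matrix (Fin 3) (Fin 3) F :=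
  !![A 0 0, A 0 1, 0; A 1 0, A 1 1, 0; 0, 0, (A.det)⁻¹]

theorem iotaMat_det (A : GL (Fin 2) F) : (iotaMat (A : Matrix (Fin 2) (Fin 2) F)).det = 1 := by
  have hd : (A : Matrix (Fin 2) (Fin 2) F).det ≠ 0 := by
    have := (Matrix.GeneralLinearGroup.det A).ne_zero
    simpa using this
  rw [iotaMat, Matrix.det_fin_three]
  simp only [Matrix.of_apply, Matrix.cons_val', Matrix.cons_val_zero, Matrix.cons_val_one,
    Matrix.cons_val_two, Matrix.head_cons, Matrix.tail_cons, Matrix.empty_val',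
    Matrix.cons_val_fin_one]
  rw [Matrix.det_fin_two] at hd ⊢
  simp only [Matrix.vecHead]
  have h2 := mul_inv_cancel₀ hd
  linear_combination h2

theorem iotaMat_mul (A B : Matrix (Fin 2) (Fin 2) F) :
    iotaMat (A * B) = iotaMat A * iotaMat B := by
  ext i j
  fin_cases i <;> fin_cases j <;>
    simp [iotaMat, Matrix.mul_apply, Fin.sum_univ_two, Fin.sum_univ_three, Matrix.det_mul,
      mul_comm]

theorem iotaMat_one : iotaMat (1 : Matrix (Fin 2) (Fin 2) F) = 1 := by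
  ext i j
  fin_cases i <;> fin_cases j <;> simp [iotaMat]

/-- `A ↦ diag(A, (det A)⁻¹)`, an injective homomorphism `GL₂(F) →* SL₃(F)`. -/
def iota : GL (Fin 2) F →* SpecialLinearGroup (Fin 3) F where
  toFun A := ⟨iotaMat (A : Matrix (Fin 2) (Fin 2) F), iotaMat_det A⟩
  map_one' := by
    apply Subtype.ext
    exact iotaMat_one
  map_mul' A B := by
    apply Subtype.ext
    show iotaMat ((A * B : GL (Fin 2) F) : Matrix (Fin 2) (Fin 2) F) = _
    rw [Units.val_mul, iotaMat_mul]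
    rfl

/-- `diag(-1, -1, 1)` in `SL₃(F)`. -/
def t3 : SpecialLinearGroup (Fin 3) F :=
  ⟨!![-1, 0, 0; 0, -1, 0; 0, 0, 1], by rw [Matrix.det_fin_three]; simp⟩

theorem dg_mul (a b c d : Fˣ) : dg a b * dg c d = dg (a * c) (b * d) := by
  apply Units.ext
  ext i j
  fin_cases i <;> fin_cases j <;> simp [dg, Matrix.mul_apply, Fin.sum_univ_two]

theorem dg_one : dg (1 : Fˣ) 1 = 1 := by
  apply Units.ext
  ext i j
  fin_cases i <;> fin_cases j <;> simp [dg]

theorem dg_inv (a b : Fˣ) : (dg a b)⁻¹ = dg a⁻¹ b⁻¹ := by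
  rw [inv_eq_iff_mul_eq_one, dg_mul, mul_inv_cancel, mul_inv_cancel, dg_one]

theorem wsw_mul_wsw : (wsw : GL (Fin 2) F) * wsw = 1 := by
  apply Units.ext
  ext i j
  fin_cases i <;> fin_cases j <;> simp [wsw, Matrix.mul_apply, Fin.sum_univ_two]

theorem wsw_inv : (wsw : GL (Fin 2) F)⁻¹ = wsw := by
  rw [inv_eq_iff_mul_eq_one, wsw_mul_wsw]

theorem wsw_mul_dg (a b : Fˣ) : wsw * dg a b = dg b a * wsw := by
  apply Units.ext
  ext i j
  fin_cases i <;> fin_cases j <;> simp [dg, wsw, Matrix.mul_apply, Fin.sum_univ_two]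

/-- The wreathed group `μ ≀ 2`: all `diag(a, b)` and `diag(a, b) * wsw` with `a, b ∈ μ`. -/
def Wr (μ : Subgroup Fˣ) : Subgroup (GL (Fin 2) F) where
  carrier := {g | ∃ a ∈ μ, ∃ b ∈ μ, g = dg a b ∨ g = dg a b * wsw}
  one_mem' := ⟨1, μ.one_mem, 1, μ.one_mem, Or.inl dg_one.symm⟩
  mul_mem' := by
    rintro x y ⟨a, ha, b, hb, hx⟩ ⟨c, hc, d, hd, hy⟩
    rcases hx with rfl | rfl <;> rcases hy with rfl | rfl
    · exact ⟨a * c, μ.mul_mem ha hc, b * d, μ.mul_mem hb hd, Or.inl (dg_mul a b c d)⟩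
    · exact ⟨a * c, μ.mul_mem ha hc, b * d, μ.mul_mem hb hd, Or.inr (by rw [← mul_assoc, dg_mul])⟩
    · refine ⟨a * d, μ.mul_mem ha hd, b * c, μ.mul_mem hb hc, Or.inr ?_⟩
      rw [mul_assoc, wsw_mul_dg, ← mul_assoc, dg_mul]
    · refine ⟨a * d, μ.mul_mem ha hd, b * c, μ.mul_mem hb hc, Or.inl ?_⟩
      rw [mul_assoc, ← mul_assoc wsw, wsw_mul_dg, mul_assoc (dg d c), wsw_mul_wsw, mul_one, dg_mul]
  inv_mem' := by
    rintro x ⟨a, ha, b, hb, hx⟩
    rcases hx with rfl | rfl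
    · exact ⟨a⁻¹, μ.inv_mem ha, b⁻¹, μ.inv_mem hb, Or.inl (dg_inv a b)⟩
    · refine ⟨b⁻¹, μ.inv_mem hb, a⁻¹, μ.inv_mem ha, Or.inr ?_⟩
      rw [_root_.mul_inv_rev, wsw_inv, dg_inv, wsw_mul_dg]

theorem mem_Wr {μ : Subgroup Fˣ} {g : GL (Fin 2) F} :
    g ∈ Wr μ ↔ ∃ a ∈ μ, ∃ b ∈ μ, g = dg a b ∨ g = dg a b * wsw := Iff.rfl

/-- The matrix `[[a, -b], [b, a]]` ("`a + b i`"). -/
def torM (a b : F) : Matrix (Fin 2) (Fin 2) F := !![a, -b; b, a]

theorem torM_mul (a b c d : F) :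
    torM a b * torM c d = torM (a * c - b * d) (a * d + b * c) := by
  ext i j
  fin_cases i <;> fin_cases j <;> simp [torM, Matrix.mul_apply, Fin.sum_univ_two] <;> ring

theorem torM_one : torM (1 : F) 0 = 1 := by
  ext i j
  fin_cases i <;> fin_cases j <;> simp [torM]

theorem torM_mul_neg_conj (a b : F) (h : a * a + b * b = -1) :
    torM a b * (- torM a (-b)) = 1 := by
  ext i j
  fin_cases i <;> fin_cases j <;>
    simp only [torM, Matrix.mul_apply, Fin.sum_univ_two, Matrix.neg_apply, Matrix.of_apply,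
      Matrix.cons_val', Matrix.cons_val_zero, Matrix.cons_val_one, Matrix.cons_val_fin_one,
      Fin.zero_eta, Fin.mk_one, Matrix.one_apply_eq, Matrix.one_apply_ne, ne_eq, zero_ne_one,
      one_ne_zero, not_false_eq_true, Fin.isValue]
  all_goals first | linear_combination (-1 : F) * h | ring

theorem neg_conj_mul_torM (a b : F) (h : a * a + b * b = -1) :
    (- torM a (-b)) * torM a b = 1 := by
  ext i j
  fin_cases i <;> fin_cases j <;>
    simp only [torM, Matrix.mul_apply, Fin.sum_univ_two, Matrix.neg_apply, Matrix.of_apply,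
      Matrix.cons_val', Matrix.cons_val_zero, Matrix.cons_val_one, Matrix.cons_val_fin_one,
      Fin.zero_eta, Fin.mk_one, Matrix.one_apply_eq, Matrix.one_apply_ne, ne_eq, zero_ne_one,
      one_ne_zero, not_false_eq_true, Fin.isValue]
  all_goals first | linear_combination (-1 : F) * h | ring

/-- `[[a, -b], [b, a]]` as an element of `GL₂(F)` when `a² + b² = -1` (its inverse is
`-[[a, b], [-b, a]]`). -/
def torGL (a b : F) (h : a * a + b * b = -1) : GL (Fin 2) F :=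
  ⟨torM a b, - torM a (-b), torM_mul_neg_conj a b h, neg_conj_mul_torM a b h⟩

/-- `diag(1, -1)` in `GL₂(F)`. -/
def fmGL : GL (Fin 2) F := dg 1 (-1)

/-- The subgroup of `GL₂(F)` generated by `torGL a b h` and `fmGL` (semidihedral when
`|F| ≡ 3 mod 4` and `torGL a b h` has order `2 ^ (m + 1)`, `2 ^ m ∥ |F| + 1`). -/
def SDg (a b : F) (h : a * a + b * b = -1) : Subgroup (GL (Fin 2) F) :=
  Subgroup.closure {torGL a b h, fmGL}

/-- The facts about a Sylow 2-subgroup `S₂` of `GL₂(F)` used for `PSL₃(F)`. -/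
structure GL2Syl (F : Type*) [Field F] [Fintype F] (S₂ : Subgroup (GL (Fin 2) F)) : Prop where
  card : Nat.card ↥S₂ = 2 ^ (Nat.card (GL (Fin 2) F)).factorization 2
  neg_mem : (-1 : GL (Fin 2) F) ∈ S₂
  cent : ∀ z ∈ S₂, z * z = 1 → z ≠ 1 → (∀ s ∈ S₂, z * s = s * z) → z = -1
  gen : ∀ T₂ : Subgroup (GL (Fin 2) F), T₂ ≤ S₂ → (∀ u ∈ S₂, u * u = 1 → u ∈ T₂) →
    (∀ u ∈ T₂, ∀ g : GL (Fin 2) F, g * u * g⁻¹ ∈ S₂ → g * u * g⁻¹ ∈ T₂) →
    (∀ a : Fˣ, dg a a⁻¹ ∈ T₂ → dg a 1 ∈ S₂ → dg a 1 ∈ T₂) → T₂ = S₂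
  norm : ∀ n : GL (Fin 2) F, (∀ s ∈ S₂, n * s * n⁻¹ ∈ S₂) →
    ∃ s₀ ∈ S₂, ∃ c : Fˣ, n = s₀ * sc c

end Cfsg.Agent.Lib.Helper87_F2L3
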