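import Mathlib
import Cfsg.Prelude.Def_FusionSystem
import Cfsg.Prelude.Def_Classical
import Cfsg.Prelude.Def_LieClassical
import Cfsg.Agent.Lib.Helper87_F2L3Defs

/-!
# 2-fusion system of `PSU₃(q)`, `q` odd: common definitions (architect helper87)

* `SCBrel U S` : the relative version of `SCB` (conjugating / normalizing elements taken from the subgroup `U`).
* `GU2Syl F q S₂` : the facts about a Sylow 2-subgroup `S₂` of `GU₂(q) ≤ GL₂(F)` used in the proof.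
-/

set_option autoImplicit false

namespace Cfsg.Agent.Lib.Helper87_F2L3

open Matrix

/-- Relative `SCB`: (A) no proper nontrivial subgroup of `S` is strongly closed in `S` with respect to `U`;
(B) every `n ∈ U` normalizing `S` acts on `S` as an element of `S`. -/
def SCBrel {G : Type*} [Group G] (U S : Subgroup G) : Prop :=
  (∀ T : Subgroup G, T ≤ S → T ≠ ⊥ →
      (∀ t ∈ T, ∀ g ∈ U, g * t * g⁻¹ ∈ S → g * t * g⁻¹ ∈ T) → T = S) ∧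
    (∀ n ∈ U, (∀ s ∈ S, n * s * n⁻¹ ∈ S) →
      ∃ s₀ ∈ S, ∀ x ∈ S, n * x * n⁻¹ = s₀ * x * s₀⁻¹)

/-- The facts about a Sylow 2-subgroup `S₂` of `GU₂(q) ≤ GL₂(F)` used for `PSU₃(q)`. -/
structure GU2Syl (F : Type*) [Field F] [Fintype F] (q : ℕ) (S₂ : Subgroup (GL (Fin 2) F)) :
    Prop where
  le : S₂ ≤ Cfsg.GU 2 F q
  card : Nat.card ↥S₂ = 2 ^ (Nat.card ↥(Cfsg.SU 3 F q)).factorization 2
  neg_mem : (-1 : GL (Fin 2) F) ∈ S₂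
  cent : ∀ z ∈ S₂, z * z = 1 → z ≠ 1 → (∀ s ∈ S₂, z * s = s * z) → z = -1
  gen : ∀ T₂ : Subgroup (GL (Fin 2) F), T₂ ≤ S₂ → (∀ u ∈ S₂, u * u = 1 → u ∈ T₂) →
    (∀ u ∈ T₂, ∀ g ∈ Cfsg.GU 2 F q, g * u * g⁻¹ ∈ S₂ → g * u * g⁻¹ ∈ T₂) →
    (∀ a : Fˣ, dg a a⁻¹ ∈ T₂ → dg a 1 ∈ S₂ → dg a 1 ∈ T₂) → T₂ = S₂
  norm : ∀ n ∈ Cfsg.GU 2 F q, (∀ s ∈ S₂, n * s * n⁻¹ ∈ S₂) →
    ∃ s₀ ∈ S₂, ∃ c : Fˣ, n = s₀ * sc c

end Cfsg.Agent.Lib.Helper87_F2L3
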