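import Mathlib
import Cfsg.Prelude.Def_FusionSystem
import Cfsg.Prelude.Def_Classical
import Cfsg.Prelude.Def_LieClassical
import Cfsg.Agent.Lib.Helper87_F2L3Defs
import Cfsg.Agent.Lib.Helper87_F2U3Defs
import Cfsg.Agent.Lib.Helper5_GUOrder
import Cfsg.Agent.Lib.Helper5_SUOrder

/-!
# S5319 package F2U3-IOTA (architect helper87): `iota A ∈ SU₃ ↔ A ∈ GU₂`
-/

set_option autoImplicit false

open Matrix Cfsg.Agent.Lib.Helper87_F2L3

namespace Cfsg.Agent.Lib.Helper10_F2U3_IOTA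

variable {F : Type*} [Field F]

/-- the Hermitian form of two images under `iotaMat A` -/
theorem herm3_iota (q : ℕ) (A : Matrix (Fin 2) (Fin 2) F) (u v : Fin 3 → F) :
    Cfsg.hermForm 3 F q (iotaMat A *ᵥ u) (iotaMat A *ᵥ v) =
      Cfsg.hermForm 2 F q (A *ᵥ ![u 0, u 1]) (A *ᵥ ![v 0, v 1]) +
        (A.det⁻¹ * u 2) * (A.det⁻¹ * v 2) ^ q := by
  unfold Cfsg.hermForm
  simp [Fin.sum_univ_three, Fin.sum_univ_two, Matrix.mulVec, dotProduct, iotaMat]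

theorem herm3_eq (q : ℕ) (u v : Fin 3 → F) :
    Cfsg.hermForm 3 F q u v =
      Cfsg.hermForm 2 F q ![u 0, u 1] ![v 0, v 1] + u 2 * v 2 ^ q := by
  unfold Cfsg.hermForm
  simp [Fin.sum_univ_three, Fin.sum_univ_two]

theorem iota_mem_iff [Fintype F] (q : ℕ) (hF : Fintype.card F = q ^ 2) (A : GL (Fin 2) F) :
    iota A ∈ Cfsg.SU 3 F q ↔ A ∈ Cfsg.GU 2 F q := by
  have hq0 : q ≠ 0 := by
    intro h
    rw [h] at hF
    have : 0 < Fintype.card F := Fintype.card_pos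
    omega
  constructor
  · intro h
    have h' : ∀ u v : Fin 3 → F,
        Cfsg.hermForm 3 F q (iotaMat (A : Matrix (Fin 2) (Fin 2) F) *ᵥ u)
          (iotaMat (A : Matrix (Fin 2) (Fin 2) F) *ᵥ v) = Cfsg.hermForm 3 F q u v := h
    show ∀ u v : Fin 2 → F,
        Cfsg.hermForm 2 F q ((A : Matrix (Fin 2) (Fin 2) F) *ᵥ u)
          ((A : Matrix (Fin 2) (Fin 2) F) *ᵥ v) = Cfsg.hermForm 2 F q u v
    intro u v
    have h1 := h' ![u 0, u 1, 0] ![v 0, v 1, 0]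
    rw [herm3_iota, herm3_eq] at h1
    have e1 : (![u 0, u 1, 0] : Fin 3 → F) 0 = u 0 := rfl
    have e2 : (![u 0, u 1, 0] : Fin 3 → F) 1 = u 1 := rfl
    have e3 : (![u 0, u 1, 0] : Fin 3 → F) 2 = 0 := rfl
    have e4 : (![v 0, v 1, 0] : Fin 3 → F) 0 = v 0 := rfl
    have e5 : (![v 0, v 1, 0] : Fin 3 → F) 1 = v 1 := rfl
    have e6 : (![v 0, v 1, 0] : Fin 3 → F) 2 = 0 := rfl
    rw [e1, e2, e3, e4, e5, e6] at h1
    have eu : (![u 0, u 1] : Fin 2 → F) = u := by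
      ext i; fin_cases i <;> rfl
    have ev : (![v 0, v 1] : Fin 2 → F) = v := by
      ext i; fin_cases i <;> rfl
    rw [eu, ev] at h1
    simpa [hq0] using h1
  · intro h
    have h' : ∀ u v : Fin 2 → F,
        Cfsg.hermForm 2 F q ((A : Matrix (Fin 2) (Fin 2) F) *ᵥ u)
          ((A : Matrix (Fin 2) (Fin 2) F) *ᵥ v) = Cfsg.hermForm 2 F q u v := h
    have hU : Cfsg.Agent.Lib.Helper5_GUOrder.IsU 2 q (A : Matrix (Fin 2) (Fin 2) F) := h'
    have hdet := Cfsg.Agent.Lib.Helper5_SUOrder.det_mul_det_pow_of_isU hF hU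
    show ∀ u v : Fin 3 → F,
        Cfsg.hermForm 3 F q (iotaMat (A : Matrix (Fin 2) (Fin 2) F) *ᵥ u)
          (iotaMat (A : Matrix (Fin 2) (Fin 2) F) *ᵥ v) = Cfsg.hermForm 3 F q u v
    intro u v
    rw [herm3_iota, herm3_eq, h']
    congr 1
    have hd : (A : Matrix (Fin 2) (Fin 2) F).det⁻¹ *
        ((A : Matrix (Fin 2) (Fin 2) F).det⁻¹) ^ q = 1 := by
      rw [inv_pow, ← mul_inv, hdet, inv_one]
    rw [mul_pow]
    linear_combination (u 2 * v 2 ^ q) * hd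

end Cfsg.Agent.Lib.Helper10_F2U3_IOTA
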