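import Mathlib
import Cfsg.Prelude.Def_FusionSystem
import Cfsg.Prelude.Def_Classical
import Cfsg.Prelude.Def_LieClassical
import Cfsg.Agent.Lib.Helper87_F2L3Defs
import Cfsg.Agent.Lib.Helper87_F2U3Defs

/-!
# S5319 package F2U3-WMEM (architect helper87): `Wr μ ≤ GU₂` when `μ` consists of norm-one elements
-/

set_option autoImplicit false

open Matrix Cfsg.Agent.Lib.Helper87_F2L3

namespace Cfsg.Agent.Lib.Helper10_F2U3_WMEM

variable {F : Type*} [Field F]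

theorem dg_mem_GU (q : ℕ) (a b : Fˣ) (ha : (a : F) * (a : F) ^ q = 1)
    (hb : (b : F) * (b : F) ^ q = 1) : dg a b ∈ Cfsg.GU 2 F q := by
  show ∀ u v : Fin 2 → F,
    Cfsg.hermForm 2 F q (((dg a b : GL (Fin 2) F) : Matrix (Fin 2) (Fin 2) F) *ᵥ u)
      (((dg a b : GL (Fin 2) F) : Matrix (Fin 2) (Fin 2) F) *ᵥ v) = Cfsg.hermForm 2 F q u v
  intro u v
  unfold Cfsg.hermForm
  simp only [Fin.sum_univ_two, Matrix.mulVec, dotProduct, dg]
  simp only [Matrix.of_apply, Matrix.cons_val', Matrix.cons_val_zero, Matrix.cons_val_one,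
    Matrix.cons_val_fin_one, zero_mul, add_zero, zero_add, mul_pow]
  linear_combination (u 0 * v 0 ^ q) * ha + (u 1 * v 1 ^ q) * hb

theorem wsw_mem_GU (q : ℕ) : (wsw : GL (Fin 2) F) ∈ Cfsg.GU 2 F q := by
  show ∀ u v : Fin 2 → F,
    Cfsg.hermForm 2 F q (((wsw : GL (Fin 2) F) : Matrix (Fin 2) (Fin 2) F) *ᵥ u)
      (((wsw : GL (Fin 2) F) : Matrix (Fin 2) (Fin 2) F) *ᵥ v) = Cfsg.hermForm 2 F q u v
  intro u v
  unfold Cfsg.hermForm
  simp only [Fin.sum_univ_two, Matrix.mulVec, dotProduct, wsw]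
  simp only [Matrix.of_apply, Matrix.cons_val', Matrix.cons_val_zero, Matrix.cons_val_one,
    Matrix.cons_val_fin_one, zero_mul, add_zero, zero_add, one_mul]
  ring

theorem Wr_le_GU (q : ℕ) (μ : Subgroup Fˣ) (hμ : ∀ a ∈ μ, (a : F) * (a : F) ^ q = 1) :
    Wr μ ≤ Cfsg.GU 2 F q := by
  rintro g ⟨a, ha, b, hb, hg⟩
  have h1 : dg a b ∈ Cfsg.GU 2 F q := dg_mem_GU q a b (hμ a ha) (hμ b hb)
  rcases hg with rfl | rfl
  · exact h1
  · exact (Cfsg.GU 2 F q).mul_mem h1 (wsw_mem_GU q)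

end Cfsg.Agent.Lib.Helper10_F2U3_WMEM
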