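import Cfsg.Agent.Lib.Helper3_CharEigen
import Cfsg.Prelude.Def_Blocks

/-!
# Small facts on character values (helper79)

* `irr_degree` : `χ 1 = n` with `0 < n` and `charDegree χ = n`;
* `char_int_of_orderOf_two` : character values at involutions are rational integers;
* `sum_subgroup_char` : the sum of a character over a subgroup is `|P|` times a natural number.
-/

set_option autoImplicit false

namespace Cfsg.Agent.Lib.Helper79_CharVals

open Cfsg Cfsg.Agent.Lib.Helper3_CharEigen

universe u

variable {G : Type u} [Group G]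

theorem charDegree_of_eq_natCast {χ : G → ℂ} {n : ℕ} (h : χ 1 = n) : charDegree χ = n := by
  unfold charDegree
  rw [h]
  simp

/-- The degree of an irreducible character is a positive natural number. -/
theorem irr_degree {χ : G → ℂ} (hχ : IsIrrCharacter G χ) :
    ∃ n : ℕ, 0 < n ∧ χ 1 = n ∧ charDegree χ = n := by
  obtain ⟨n, ρ, hρ, rfl⟩ := hχ
  haveI := hρ
  have hn : 0 < n := by
    rcases Nat.eq_zero_or_pos n with h0 | h0
    · subst h0
      exfalso
      have h1 : (⊥ : Subrepresentation ρ) ≠ ⊤ := bot_ne_top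
      apply h1
      apply Subrepresentation.toSubmodule_injective
      exact Subsingleton.elim _ _
    · exact h0
  have h1 : ρ.character 1 = n := by simp
  exact ⟨n, hn, h1, charDegree_of_eq_natCast h1⟩

/-- Character values at involutions are rational integers. -/
theorem char_int_of_orderOf_two [Finite G] {χ : G → ℂ} (hχ : IsCharacter G χ) {x : G}
    (hx : orderOf x = 2) : ∃ k : ℤ, χ x = k := by
  obtain ⟨n, ρ, rfl⟩ := hχ
  rw [char_eq_sum ρ x]
  have hterm : ∀ μ ∈ eigSet (ρ x), ∃ k : ℤ,
      (Module.finrank ℂ (Module.End.eigenspace (ρ x) μ) : ℂ) * μ = k := by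
    intro μ hμ
    have h2 := eig_pow_orderOf ρ hμ
    rw [hx] at h2
    have h3 : (μ - 1) * (μ + 1) = 0 := by linear_combination h2
    rcases mul_eq_zero.1 h3 with h4 | h4
    · refine ⟨(Module.finrank ℂ (Module.End.eigenspace (ρ x) μ) : ℤ), ?_⟩
      rw [sub_eq_zero.1 h4]; push_cast; ring
    · refine ⟨-(Module.finrank ℂ (Module.End.eigenspace (ρ x) μ) : ℤ), ?_⟩
      rw [eq_neg_of_add_eq_zero_left h4]; push_cast; ring
  choose! k hk using hterm
  refine ⟨∑ μ ∈ eigSet (ρ x), k μ, ?_⟩
  push_cast
  exact Finset.sum_congr rfl hk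

/-- The sum of a character over a subgroup is the order of the subgroup times a natural number. -/
theorem sum_subgroup_char {χ : G → ℂ} (hχ : IsCharacter G χ) (P : Subgroup G) [Fintype P] :
    ∃ d : ℕ, ∑ z : P, χ z = (Nat.card P : ℂ) * d := by
  obtain ⟨n, ρ, rfl⟩ := hχ
  have hne : (Nat.card P : ℂ) ≠ 0 := by exact_mod_cast Nat.card_pos.ne'
  have : Invertible (Nat.card P : ℂ) := invertibleOfNonzero hne
  let σ : Representation ℂ P (Fin n → ℂ) := ρ.comp P.subtype
  have h := Representation.card_inv_mul_sum_char_eq_finrank σ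
  refine ⟨Module.finrank ℂ (Representation.invariants σ), ?_⟩
  rw [← h, ← mul_assoc, mul_inv_cancel₀ hne, one_mul]
  rfl

end Cfsg.Agent.Lib.Helper79_CharVals
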