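import Mathlib
import Cfsg.Prelude.Def_Blocks
import Cfsg.Agent.Lib.Helper3_CharEigen
import Cfsg.Agent.Lib.Helper79_CharVals
import Cfsg.Agent.Lib.Helper80_CharBasic

/-!
# N19-MULT (S1022, architect helper62; author helper10)

`χ` irreducible of degree `d ∈ {18, 56, 96}`, `x` of order 19 commuting with the involution `y`,
`χ(x^k) = χ(x^k y) = ε` for `19 ∤ k`  ⇒  `324 ≤ |χ(y)|²`.
-/

set_option autoImplicit false

namespace Cfsg.Agent.Lib.Helper10_N19_MULT

open Cfsg Cfsg.Agent.Lib.Helper80_CharBasic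

/-- Twisted sum of a character over the powers of an element `w` with `w ^ N = 1`:
`∑_{k<N} c^k χ(w^k) = N · dim (c⁻¹-eigenspace of ρ w)` when `c ^ N = 1`. -/
theorem sum_twist_char_pow {G : Type*} [Group G] [Finite G] {V : Type*} [AddCommGroup V]
    [Module ℂ V] [FiniteDimensional ℂ V]
    (ρ : Representation ℂ G V) (w : G) {N : ℕ} (hw : w ^ N = 1) (c : ℂ) (hc : c ^ N = 1)
    (hN : 0 < N) :
    ∑ k ∈ Finset.range N, c ^ k * ρ.character (w ^ k) =
      N * (Module.finrank ℂ (Module.End.eigenspace (ρ w) c⁻¹) : ℂ) := by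
  classical
  have hc0 : c ≠ 0 := by
    rintro rfl
    rw [zero_pow hN.ne'] at hc
    exact zero_ne_one hc
  have h1 : ∀ j : ℕ, ρ.character (w ^ j) = ∑ μ ∈ Cfsg.Agent.Lib.Helper3_CharEigen.eigSet (ρ w),
      (Module.finrank ℂ (Module.End.eigenspace (ρ w) μ) : ℂ) * μ ^ j :=
    fun j => Cfsg.Agent.Lib.Helper3_CharEigen.char_pow_eq_sum ρ w j
  simp only [h1, Finset.mul_sum]
  rw [Finset.sum_comm]
  have h2 : ∀ μ ∈ Cfsg.Agent.Lib.Helper3_CharEigen.eigSet (ρ w),
      ∑ j ∈ Finset.range N, c ^ j * ((Module.finrank ℂ (Module.End.eigenspace (ρ w) μ) : ℂ) * μ ^ j)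
      = if μ = c⁻¹ then N * (Module.finrank ℂ (Module.End.eigenspace (ρ w) c⁻¹) : ℂ) else 0 := by
    intro μ hμ
    have hμN : μ ^ N = 1 := by
      have := Cfsg.Agent.Lib.Helper3_CharEigen.eig_pow_orderOf ρ hμ
      obtain ⟨t, ht⟩ := orderOf_dvd_of_pow_eq_one hw
      rw [ht, pow_mul, this, one_pow]
    have h3 : ∀ j : ℕ, c ^ j * ((Module.finrank ℂ (Module.End.eigenspace (ρ w) μ) : ℂ) * μ ^ j)
        = (Module.finrank ℂ (Module.End.eigenspace (ρ w) μ) : ℂ) * (c * μ) ^ j := by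
      intro j; rw [mul_pow]; ring
    simp only [h3]
    rw [← Finset.mul_sum]
    by_cases h : μ = c⁻¹
    · rw [if_pos h, h, mul_inv_cancel₀ hc0]
      simp
      ring
    · rw [if_neg h]
      have hne : c * μ ≠ 1 := by
        intro h'
        apply h
        field_simp
        rw [mul_comm]
        exact h'
      have hg : ∑ j ∈ Finset.range N, (c * μ) ^ j = 0 := by
        have := mul_geom_sum (c * μ) N
        rw [mul_pow, hc, hμN, one_mul, sub_self] at this
        rcases mul_eq_zero.mp this with h' | h'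
        · exact absurd (sub_eq_zero.mp h') hne
        · exact h'
      rw [hg, mul_zero]
  rw [Finset.sum_congr rfl h2, Finset.sum_ite_eq']
  split_ifs with h
  · rfl
  · have : Module.End.eigenspace (ρ w) c⁻¹ = ⊥ := by
      by_contra hne
      exact h (Cfsg.Agent.Lib.Helper3_CharEigen.mem_eigSet.mpr hne)
    rw [this]
    simp

/-- Arithmetic: `|d - 38 m| ≥ 18` for `d ∈ {18, 56, 96}`. -/
theorem sq_ge (d m : ℕ) (hd : d = 18 ∨ d = 56 ∨ d = 96) :
    (324 : ℤ) ≤ ((d : ℤ) - 38 * (m : ℤ)) ^ 2 := by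
  have h : (d : ℤ) - 38 * (m : ℤ) ≥ 18 ∨ (d : ℤ) - 38 * (m : ℤ) ≤ -18 := by
    rcases hd with rfl | rfl | rfl <;> omega
  rcases h with h | h <;> nlinarith

/-- **N19-MULT**. -/
theorem invol_lower {G : Type*} [Group G] [Finite G] [IsSimpleGroup G]
    (χ : Cfsg.IrrCharacter G) (hχ : χ ≠ oneIrr G) (x y : G) (hx : orderOf x = 19)
    (hy : orderOf y = 2) (hxy : Commute x y) (ε : ℤ)
    (h1 : ∀ k : ℕ, ¬ 19 ∣ k → (χ : G → ℂ) (x ^ k) = (ε : ℂ))
    (h2 : ∀ k : ℕ, ¬ 19 ∣ k → (χ : G → ℂ) (x ^ k * y) = (ε : ℂ))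
    (hd : Cfsg.charDegree (χ : G → ℂ) = 18 ∨ Cfsg.charDegree (χ : G → ℂ) = 56 ∨
      Cfsg.charDegree (χ : G → ℂ) = 96) :
    (324 : ℝ) ≤ ‖(χ : G → ℂ) y‖ ^ 2 := by
  classical
  obtain ⟨n, ρ, hirr, hρ⟩ := χ.2
  have hone : ρ.character 1 = (n : ℂ) := by
    rw [Representation.char_one]; simp
  have hdn : Cfsg.charDegree (χ : G → ℂ) = n := by
    apply Cfsg.Agent.Lib.Helper79_CharVals.charDegree_of_eq_natCast
    rw [← hρ, hone]
  rw [hdn] at hd
  have hx19 : x ^ 19 = 1 := by rw [← hx, pow_orderOf_eq_one]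
  have hy2 : y ^ 2 = 1 := by rw [← hy, pow_orderOf_eq_one]
  set w := x * y with hw
  have hwk : ∀ k : ℕ, w ^ k = x ^ k * y ^ k := fun k => hxy.mul_pow k
  have hw38 : w ^ 38 = 1 := by
    rw [hwk, show 38 = 19 * 2 from rfl, pow_mul, hx19, one_pow, one_mul, mul_comm 19 2, pow_mul, hy2,
      one_pow]
  have hyk : ∀ k : ℕ, y ^ k = if Even k then 1 else y := by
    intro k
    rcases Nat.even_or_odd k with hk | hk
    · rw [if_pos hk]
      obtain ⟨t, rfl⟩ := hk
      rw [← two_mul, pow_mul, hy2, one_pow]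
    · rw [if_neg (Nat.not_even_iff_odd.mpr hk)]
      obtain ⟨t, rfl⟩ := hk
      rw [pow_succ, pow_mul, hy2, one_pow, one_mul]
  -- the values of `χ` on the powers of `w`
  have hval : ∀ k ∈ Finset.range 38, ρ.character (w ^ k) =
      if k = 0 then (n : ℂ) else if k = 19 then ρ.character y else (ε : ℂ) := by
    intro k hk
    rw [Finset.mem_range] at hk
    by_cases hk0 : k = 0
    · rw [if_pos hk0, hk0, pow_zero, hone]
    rw [if_neg hk0]
    by_cases hk19 : k = 19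
    · rw [if_pos hk19, hk19, hwk, hx19, one_mul, hyk, if_neg (by decide)]
    rw [if_neg hk19]
    have hnd : ¬ 19 ∣ k := by omega
    rw [hwk, hyk]
    split_ifs with hev
    · rw [mul_one, hρ]; exact h1 k hnd
    · rw [hρ]; exact h2 k hnd
  have hsum := sum_twist_char_pow ρ w hw38 (-1) (by norm_num) (by norm_num)
  rw [Finset.sum_congr rfl (fun k hk => by rw [hval k hk])] at hsum
  set c := ρ.character y with hc
  set m := Module.finrank ℂ (Module.End.eigenspace (ρ w) (-1)⁻¹) with hm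
  have hsum' : (n : ℂ) - c = 38 * (m : ℂ) := by
    have h38 : ((38 : ℕ) : ℂ) = 38 := by norm_num
    rw [h38] at hsum
    rw [← hsum]
    simp [Finset.sum_range_succ]
    ring
  have hcz : c = (((n : ℤ) - 38 * (m : ℤ) : ℤ) : ℂ) := by
    push_cast
    linear_combination -hsum'
  have hcy : (χ : G → ℂ) y = c := by rw [hc, hρ]
  rw [hcy, hcz, Complex.norm_intCast, sq_abs]
  have := sq_ge n m hd
  exact_mod_cast this

end Cfsg.Agent.Lib.Helper10_N19_MULT
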