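import Mathlib
import Cfsg.Prelude.Def_Characters
import Cfsg.Agent.Lib.Helper3_CharColumn
import Cfsg.Agent.Lib.Helper3_CharDegree

/-!
# The degree of an irreducible character divides the index of any subgroup acting by scalars,
in particular of the centre (helper3).
-/

set_option autoImplicit false
set_option linter.unusedSectionVars false

namespace Cfsg.Agent.Lib.Helper3_CharCenter

open Representation
open scoped ComplexConjugate
open Cfsg.Agent.Lib.Helper3_CharBridge Cfsg.Agent.Lib.Helper3_CharEigen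
  Cfsg.Agent.Lib.Helper3_CharOrtho Cfsg.Agent.Lib.Helper3_CharComplete
  Cfsg.Agent.Lib.Helper3_CharColumn Cfsg.Agent.Lib.Helper3_CharDegree

section schur

variable {G : Type*} [Group G] [Fintype G]
variable {V : Type*} [AddCommGroup V] [Module ℂ V] [FiniteDimensional ℂ V]

/-- Schur's formula: `∑ g, χ(g⁻¹) ρ(g) = (|G| / χ(1)) • id` for irreducible `ρ`. -/
theorem sum_char_inv_smul_rho (ρ : Representation ℂ G V) [ρ.IsIrreducible] :
    ∑ g : G, ρ.character g⁻¹ • ρ g =
      ((Nat.card G : ℂ) / (Module.finrank ℂ V : ℂ)) • (LinearMap.id : V →ₗ[ℂ] V) := by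
  have hcf : Cfsg.IsClassFunction G (fun g => ρ.character g⁻¹) := by
    intro g h
    have : (h * g * h⁻¹)⁻¹ = h * g⁻¹ * h⁻¹ := by group
    simp only [this, char_conj]
  obtain ⟨t, h1, h2⟩ := asAlgebraHom_algElt_eq_smul ρ (fun g => ρ.character g⁻¹) hcf
  have h3 : ρ.asAlgebraHom (algElt (fun g => ρ.character g⁻¹)) =
      ∑ g : G, ρ.character g⁻¹ • ρ g := by
    simp [algElt, map_sum]
  rw [← h3, h1]
  congr 1
  have hd : (Module.finrank ℂ V : ℂ) ≠ 0 := by exact_mod_cast finrank_ne_zero_of_irr ρ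
  rw [eq_div_iff hd, h2]
  have h4 := classInner_self_of_isIrrCharacter (isIrrCharacter_of_rep ρ)
  rw [Cfsg.classInner] at h4
  have hG : (Nat.card G : ℂ) ≠ 0 := card_ne_zero_complex
  have h5 : ∑ g : G, ρ.character g * conj (ρ.character g) = (Nat.card G : ℂ) := by
    field_simp at h4
    exact h4
  rw [← h5]
  refine Finset.sum_congr rfl (fun g _ => ?_)
  rw [char_inv, mul_comm]

end schur

section fg

variable {G : Type*} [Group G] [Finite G]
variable {V : Type*} [AddCommGroup V] [Module ℂ V]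

/-- The finite multiplicative monoid `{ζ • ρ g | ζ ^ n = 1}` of endomorphisms. -/
def scalarMonoid (ρ : Representation ℂ G V) (n : ℕ) : Submonoid (Module.End ℂ V) where
  carrier := {f | ∃ ζ : ℂ, ζ ^ n = 1 ∧ ∃ g : G, f = ζ • ρ g}
  mul_mem' := by
    rintro _ _ ⟨ζ, hζ, g, rfl⟩ ⟨ξ, hξ, h, rfl⟩
    refine ⟨ζ * ξ, by rw [mul_pow, hζ, hξ, one_mul], g * h, ?_⟩
    rw [map_mul, smul_mul_smul_comm]
  one_mem' := ⟨1, one_pow n, 1, by simp⟩

theorem scalarMonoid_finite (ρ : Representation ℂ G V) {n : ℕ} (hn : 0 < n) :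
    ((scalarMonoid ρ n : Submonoid (Module.End ℂ V)) : Set (Module.End ℂ V)).Finite := by
  have h1 : {ζ : ℂ | ζ ^ n = 1}.Finite := by
    have : {ζ : ℂ | ζ ^ n = 1} ⊆ ((Polynomial.nthRoots n (1 : ℂ)).toFinset : Set ℂ) := by
      intro ζ hζ
      simp only [Finset.mem_coe, Multiset.mem_toFinset, Polynomial.mem_nthRoots hn]
      exact hζ
    exact (Finset.finite_toSet _).subset this
  have h2 : ((scalarMonoid ρ n : Submonoid (Module.End ℂ V)) : Set (Module.End ℂ V)) ⊆
      (fun p : ℂ × G => p.1 • ρ p.2) '' ({ζ : ℂ | ζ ^ n = 1} ×ˢ Set.univ) := by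
    rintro f ⟨ζ, hζ, g, rfl⟩
    exact ⟨(ζ, g), ⟨hζ, trivial⟩, rfl⟩
  exact ((h1.prod Set.finite_univ).image _).subset h2

/-- Elements of the subalgebra generated by `scalarMonoid` are integral over `ℤ`. -/
theorem isIntegral_of_mem_adjoin_scalarMonoid (ρ : Representation ℂ G V) {n : ℕ} (hn : 0 < n)
    (f : Module.End ℂ V)
    (hf : f ∈ Algebra.adjoin ℤ ((scalarMonoid ρ n : Submonoid (Module.End ℂ V)) :
      Set (Module.End ℂ V))) : IsIntegral ℤ f := by
  refine IsIntegral.of_mem_of_fg _ ?_ f hf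
  rw [Algebra.adjoin_eq_span, Submonoid.closure_eq]
  exact Submodule.fg_span (scalarMonoid_finite ρ hn)

end fg

section main

variable {G : Type*} [Group G] [Fintype G]
variable {V : Type*} [AddCommGroup V] [Module ℂ V] [FiniteDimensional ℂ V]

/-- If `ρ z = c • id` with `V` nontrivial then `ρ z⁻¹ = c⁻¹ • id`. -/
theorem rho_inv_of_scalar [Nontrivial V] (ρ : Representation ℂ G V) {z : G} {c : ℂ}
    (hc : ρ z = c • (LinearMap.id : V →ₗ[ℂ] V)) :
    c ≠ 0 ∧ ρ z⁻¹ = c⁻¹ • (LinearMap.id : V →ₗ[ℂ] V) := by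
  have hc0 : c ≠ 0 := by
    intro h0
    rw [h0, zero_smul] at hc
    obtain ⟨v, hv⟩ := exists_ne (0 : V)
    have h1 := Representation.inv_self_apply ρ z v
    rw [hc] at h1
    simp at h1
    exact hv h1.symm
  refine ⟨hc0, ?_⟩
  ext v
  have h1 := Representation.inv_self_apply ρ z v
  rw [hc] at h1
  simp only [LinearMap.smul_apply, LinearMap.id_coe, id_eq, map_smul] at h1 ⊢
  rw [← h1, smul_smul, inv_mul_cancel₀ hc0, one_smul, h1]

/-- The degree of an irreducible representation divides the index of any subgroup acting by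
scalars. -/
theorem finrank_dvd_index_of_scalar (ρ : Representation ℂ G V) [ρ.IsIrreducible] (Z : Subgroup G)
    (hZ : ∀ z ∈ Z, ∃ c : ℂ, ρ z = c • (LinearMap.id : V →ₗ[ℂ] V)) :
    Module.finrank ℂ V ∣ Z.index := by
  classical
  have hd := finrank_ne_zero_of_irr ρ
  have hdC : (Module.finrank ℂ V : ℂ) ≠ 0 := by exact_mod_cast hd
  have hnt : Nontrivial V := Module.nontrivial_of_finrank_pos (R := ℂ) (Nat.pos_of_ne_zero hd)
  set f : G → Module.End ℂ V := fun g => ρ.character g⁻¹ • ρ g with hf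
  -- invariance under `Z`
  have hfZ : ∀ g : G, ∀ z ∈ Z, f (g * z) = f g := by
    intro g z hz
    obtain ⟨c, hc⟩ := hZ z hz
    obtain ⟨hc0, hcinv⟩ := rho_inv_of_scalar ρ hc
    have h1 : ρ.character (g * z)⁻¹ = c⁻¹ * ρ.character g⁻¹ := by
      rw [mul_inv_rev, Representation.character, map_mul, hcinv, smul_mul_assoc, map_smul,
        smul_eq_mul]
      congr 1
    have h2 : ρ (g * z) = c • ρ g := by
      rw [map_mul, hc]
      ext v
      simp
    simp only [hf, h1, h2, smul_smul]
    congr 1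
    field_simp
  -- a transversal
  obtain ⟨T, hT, -⟩ := Subgroup.exists_isComplement_left Z 1
  have : Fintype T := Fintype.ofFinite T
  have hsum : ∑ g : G, f g = (Nat.card Z : ℂ) • ∑ t : T, f t := by
    rw [← Equiv.sum_comp hT.equiv.symm f, Fintype.sum_prod_type, Finset.smul_sum]
    refine Finset.sum_congr rfl (fun t _ => ?_)
    have : ∀ z : Z, f (hT.equiv.symm (t, z)) = f t := by
      intro z
      rw [Subgroup.IsComplement.equiv_symm_apply]
      exact hfZ t z z.2
    simp_rw [this]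
    rw [Finset.sum_const, Finset.card_univ, ← Nat.card_eq_fintype_card, Nat.cast_smul_eq_nsmul]
    rfl
  have hschur := sum_char_inv_smul_rho ρ
  rw [hsum] at hschur
  have hZC : (Nat.card Z : ℂ) ≠ 0 := by exact_mod_cast (Nat.card_pos (α := Z)).ne'
  have hS : ∑ t : T, f t = ((Z.index : ℂ) / (Module.finrank ℂ V : ℂ)) •
      (LinearMap.id : V →ₗ[ℂ] V) := by
    have h1 : ∑ t : T, f t = (Nat.card Z : ℂ)⁻¹ • ((Nat.card Z : ℂ) • ∑ t : T, f t) := by
      rw [smul_smul, inv_mul_cancel₀ hZC, one_smul]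
    rw [h1, hschur, smul_smul]
    congr 1
    have h2 : (Nat.card G : ℂ) = (Nat.card Z : ℂ) * (Z.index : ℂ) := by
      rw [← Nat.cast_mul, Subgroup.card_mul_index]
    rw [h2]
    field_simp
  -- integrality
  have hn : 0 < Nat.card G := Nat.card_pos
  have hmem : ∑ t : T, f t ∈ Algebra.adjoin ℤ
      ((scalarMonoid ρ (Nat.card G) : Submonoid (Module.End ℂ V)) : Set (Module.End ℂ V)) := by
    refine Subalgebra.sum_mem _ (fun t _ => ?_)
    simp only [hf]
    rw [char_eq_sum ρ (t : G)⁻¹, Finset.sum_smul]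
    refine Subalgebra.sum_mem _ (fun μ hμ => ?_)
    have h1 : ((Module.finrank ℂ (Module.End.eigenspace (ρ (t : G)⁻¹) μ) : ℂ) * μ) • ρ (t : G) =
        (Module.finrank ℂ (Module.End.eigenspace (ρ (t : G)⁻¹) μ)) • (μ • ρ (t : G)) := by
      rw [← smul_smul, Nat.cast_smul_eq_nsmul]
    rw [h1]
    refine Subalgebra.nsmul_mem _ (Algebra.subset_adjoin ?_) _
    refine ⟨μ, ?_, (t : G), rfl⟩
    have h2 := eig_pow_orderOf ρ hμ
    obtain ⟨k, hk⟩ := orderOf_dvd_natCard (t : G)⁻¹
    rw [hk, pow_mul, h2, one_pow]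
  have hint := isIntegral_of_mem_adjoin_scalarMonoid ρ hn _ hmem
  rw [hS, ← Module.algebraMap_end_eq_smul_id] at hint
  have hinj : Function.Injective (algebraMap ℂ (Module.End ℂ V)) :=
    (algebraMap ℂ (Module.End ℂ V)).injective
  have hint2 := (isIntegral_algebraMap_iff hinj).mp hint
  exact dvd_of_isIntegral_div hd hint2

/-- Schur: central elements act as scalars in an irreducible representation. -/
theorem exists_scalar_of_mem_center (ρ : Representation ℂ G V) [ρ.IsIrreducible] {z : G}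
    (hz : z ∈ Subgroup.center G) : ∃ c : ℂ, ρ z = c • (LinearMap.id : V →ₗ[ℂ] V) := by
  have hz' : z ∈ Submonoid.center G := hz
  obtain ⟨c, hc⟩ :=
    (IsIrreducible.algebraMap_intertwiningMap_bijective_of_isAlgClosed (ρ := ρ)).2
      (IntertwiningMap.centralMul ρ z hz')
  refine ⟨c, ?_⟩
  have := congrArg IntertwiningMap.toLinearMap hc
  rw [IntertwiningMap.algebraMap_apply] at this
  ext v
  have h2 := LinearMap.congr_fun this v
  simp only [IntertwiningMap.toLinearMap_smul, LinearMap.smul_apply] at h2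
  rw [LinearMap.smul_apply, LinearMap.id_apply]
  exact h2.symm

/-- The degree of an irreducible representation divides the index of the centre
(this is S0179). -/
theorem finrank_dvd_index_center (ρ : Representation ℂ G V) [ρ.IsIrreducible] :
    Module.finrank ℂ V ∣ (Subgroup.center G).index :=
  finrank_dvd_index_of_scalar ρ _ (fun _ hz => exists_scalar_of_mem_center ρ hz)

end main

end Cfsg.Agent.Lib.Helper3_CharCenter
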