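import Mathlib
import Cfsg.Agent.Lib.Helper3_RepDecomp

/-!
# Irreducible degrees and abelian subgroups (helper3)

* `exists_common_eigenvector`: a nonzero finite-dimensional complex representation of a
  commutative group has a common eigenvector.
* `finrank_le_index_of_eigenvector`: if `v ≠ 0` is a common eigenvector for a subgroup `A` in an
  irreducible representation `ρ` of `G`, then `dim ρ ≤ |G : A|`.
* `finrank_le_index_of_abelian`: `dim ρ ≤ |G : A|` for `A` abelian.
-/

set_option autoImplicit false
set_option linter.unusedSectionVars false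

namespace Cfsg.Agent.Lib.Helper3_AbelianIndex

open Representation
open Cfsg.Agent.Lib.Helper3_RepDecomp

/-- A nonzero finite-dimensional representation of a commutative group over an algebraically
closed field has a common eigenvector. -/
theorem exists_common_eigenvector {k A V : Type*} [Field k] [IsAlgClosed k] [Group A]
    [IsMulCommutative A]
    [AddCommGroup V] [Module k V] [FiniteDimensional k V] [Nontrivial V]
    (σ : Representation k A V) :
    ∃ v : V, v ≠ 0 ∧ ∀ a : A, ∃ c : k, σ a v = c • v := by
  obtain ⟨W, hW, hne, hirr⟩ := exists_irreducible_sub σ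
  have h1 : Module.finrank k W = 1 :=
    IsIrreducible.finrank_eq_one_of_isMulCommutative (subRep σ W hW)
  obtain ⟨w, hw0, hw⟩ := finrank_eq_one_iff'.mp h1
  refine ⟨(w : V), fun h => hw0 (Subtype.ext h), fun a => ?_⟩
  obtain ⟨c, hc⟩ := hw (subRep σ W hW a w)
  refine ⟨c, ?_⟩
  have := congrArg Subtype.val hc
  simpa using this.symm

/-- If a subgroup `A` has a common eigenvector in an irreducible representation, the degree is at
most the index of `A`. -/
theorem finrank_le_index_of_eigenvector {k G V : Type*} [Field k] [Group G] [Finite G]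
    [AddCommGroup V] [Module k V] [FiniteDimensional k V]
    (ρ : Representation k G V) [ρ.IsIrreducible] (A : Subgroup G) (v : V) (hv : v ≠ 0)
    (hA : ∀ a ∈ A, ∃ c : k, ρ a v = c • v) : Module.finrank k V ≤ A.index := by
  classical
  let f : G ⧸ A → V := fun q => ρ q.out v
  let S : Submodule k V := Submodule.span k (Set.range f)
  have hS : IsInv ρ S := by
    intro g w hw
    have : S.map (ρ g) ≤ S := by
      rw [Submodule.map_span_le]
      rintro _ ⟨q, rfl⟩
      show ρ g (ρ q.out v) ∈ S
      set q' : G ⧸ A := ((g * q.out : G) : G ⧸ A) with hq'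
      have ha : q'.out⁻¹ * (g * q.out) ∈ A := by
        rw [← QuotientGroup.eq, QuotientGroup.out_eq']
      obtain ⟨c, hc⟩ := hA _ ha
      have e1 : ρ g (ρ q.out v) = ρ q'.out (ρ (q'.out⁻¹ * (g * q.out)) v) := by
        rw [← Module.End.mul_apply, ← map_mul, ← Module.End.mul_apply, ← map_mul]
        congr 2
        group
      rw [e1, hc, map_smul]
      exact S.smul_mem c (Submodule.subset_span ⟨q', rfl⟩)
    exact this ⟨w, hw, rfl⟩
  have hne : S ≠ ⊥ := by
    intro h
    have hm : f ((1 : G) : G ⧸ A) ∈ S := Submodule.subset_span ⟨_, rfl⟩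
    rw [h, Submodule.mem_bot] at hm
    apply hv
    have : ρ (((1 : G) : G ⧸ A).out)⁻¹ (ρ (((1 : G) : G ⧸ A).out) v) = v := by
      rw [← Module.End.mul_apply, ← map_mul, inv_mul_cancel, map_one, Module.End.one_apply]
    rw [← this]
    show ρ _ (f _) = 0
    rw [hm, map_zero]
  have htop : S = ⊤ := by
    rcases IsSimpleOrder.eq_bot_or_eq_top (toSubrep ρ S hS) with h | h
    · exact absurd (congrArg Subrepresentation.toSubmodule h) hne
    · exact congrArg Subrepresentation.toSubmodule h
  have : Fintype (G ⧸ A) := Fintype.ofFinite _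
  have h1 : Module.finrank k S ≤ Fintype.card (G ⧸ A) := finrank_range_le_card f
  rw [htop, finrank_top] at h1
  rw [Subgroup.index, Nat.card_eq_fintype_card]
  exact h1

/-- The degree of an irreducible representation over an algebraically closed field is at most the
index of any abelian subgroup. -/
theorem finrank_le_index_of_abelian {k G V : Type*} [Field k] [IsAlgClosed k] [Group G] [Finite G]
    [AddCommGroup V] [Module k V] [FiniteDimensional k V]
    (ρ : Representation k G V) [ρ.IsIrreducible] (A : Subgroup G)
    (hA : ∀ a ∈ A, ∀ b ∈ A, a * b = b * a) : Module.finrank k V ≤ A.index := by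
  have : IsMulCommutative A := ⟨⟨fun a b => Subtype.ext (hA a a.2 b b.2)⟩⟩
  have : Nontrivial V := by
    by_contra hnt
    rw [not_nontrivial_iff_subsingleton] at hnt
    have : (⊥ : Subrepresentation ρ) ≠ ⊤ := bot_ne_top
    apply this
    apply Subrepresentation.toSubmodule_injective
    exact Subsingleton.elim _ _
  obtain ⟨v, hv, hc⟩ := exists_common_eigenvector (ρ.comp A.subtype)
  exact finrank_le_index_of_eigenvector ρ A v hv (fun a ha => hc ⟨a, ha⟩)

end Cfsg.Agent.Lib.Helper3_AbelianIndex
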