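import Mathlib
import Cfsg.Agent.Lib.Helper3_RepDecomp
import Cfsg.Agent.Lib.Helper3_CharCenter
import Cfsg.Agent.Lib.Helper3_AbelianIndex

/-!
# Itô's theorem (helper3)

`ito`: the degree of an irreducible complex representation divides the index of any abelian normal
subgroup.  The proof is direct (weight spaces of the abelian normal subgroup, inertia group,
`χ(1) ∣ |T : A|` for `A` acting by scalars).
-/

set_option autoImplicit false
set_option linter.unusedSectionVars false

namespace Cfsg.Agent.Lib.Helper3_Ito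

open Representation
open Cfsg.Agent.Lib.Helper3_RepDecomp Cfsg.Agent.Lib.Helper3_CharCenter
  Cfsg.Agent.Lib.Helper3_AbelianIndex

section weights

variable {G V : Type*} [Group G] [AddCommGroup V] [Module ℂ V]

/-- The conjugate of a function on a normal subgroup. -/
def tw (A : Subgroup G) [hA : A.Normal] (g : G) (μ : A → ℂ) : A → ℂ :=
  fun a => μ ⟨g⁻¹ * a * g, by simpa using hA.conj_mem a a.2 g⁻¹⟩

theorem tw_one (A : Subgroup G) [A.Normal] (μ : A → ℂ) : tw A 1 μ = μ := by
  funext a
  simp [tw]

theorem tw_mul (A : Subgroup G) [A.Normal] (g h : G) (μ : A → ℂ) :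
    tw A (g * h) μ = tw A g (tw A h μ) := by
  funext a
  simp only [tw]
  congr 1
  apply Subtype.ext
  simp only [mul_inv_rev]
  group

/-- The inertia group of a function on a normal subgroup. -/
def inertia (A : Subgroup G) [A.Normal] (μ : A → ℂ) : Subgroup G where
  carrier := {g | tw A g μ = μ}
  one_mem' := tw_one A μ
  mul_mem' := by
    intro g h hg hh
    change tw A g μ = μ at hg
    change tw A h μ = μ at hh
    change tw A (g * h) μ = μ
    rw [tw_mul, hh, hg]
  inv_mem' := by
    intro g hg
    change tw A g μ = μ at hg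
    change tw A g⁻¹ μ = μ
    conv_lhs => rw [← hg]
    rw [← tw_mul, inv_mul_cancel, tw_one]

theorem mem_inertia (A : Subgroup G) [A.Normal] (μ : A → ℂ) (g : G) :
    g ∈ inertia A μ ↔ tw A g μ = μ := Iff.rfl

theorem le_inertia (A : Subgroup G) [A.Normal] (hab : ∀ a ∈ A, ∀ b ∈ A, a * b = b * a)
    (μ : A → ℂ) : A ≤ inertia A μ := by
  intro a ha
  rw [mem_inertia]
  funext b
  simp only [tw]
  congr 1
  apply Subtype.ext
  show a⁻¹ * b * a = b
  rw [mul_assoc, hab b b.2 a ha, ← mul_assoc, inv_mul_cancel, one_mul]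

/-- The weight space of a function on `A`. -/
def wt (ρ : Representation ℂ G V) (A : Subgroup G) (μ : A → ℂ) : Submodule ℂ V :=
  ⨅ a : A, Module.End.eigenspace (ρ a) (μ a)

theorem mem_wt (ρ : Representation ℂ G V) (A : Subgroup G) (μ : A → ℂ) (w : V) :
    w ∈ wt ρ A μ ↔ ∀ a : A, ρ a w = μ a • w := by
  simp [wt]

theorem map_mem_wt (ρ : Representation ℂ G V) (A : Subgroup G) [A.Normal] (μ : A → ℂ) (g : G)
    {w : V} (hw : w ∈ wt ρ A μ) : ρ g w ∈ wt ρ A (tw A g μ) := by
  rw [mem_wt] at hw ⊢
  intro a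
  have h1 : ρ a (ρ g w) = ρ g (ρ (g⁻¹ * a * g) w) := by
    rw [← Module.End.mul_apply, ← map_mul, ← Module.End.mul_apply, ← map_mul]
    congr 2
    group
  have h2 := hw ⟨g⁻¹ * a * g, by simpa using ‹A.Normal›.conj_mem a a.2 g⁻¹⟩
  rw [h1]
  simp only at h2
  rw [h2, map_smul]
  rfl

theorem iSupIndep_wt (ρ : Representation ℂ G V) (A : Subgroup G)
    (hab : ∀ a ∈ A, ∀ b ∈ A, a * b = b * a) :
    iSupIndep (fun μ : A → ℂ => wt ρ A μ) := by
  have h := Module.End.independent_iInf_maxGenEigenspace_of_forall_mapsTo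
    (fun a : A => ρ a) (by
      intro a b φ
      apply Module.End.mapsTo_maxGenEigenspace_of_comm
      show ρ b * ρ a = ρ a * ρ b
      rw [← map_mul, ← map_mul, hab b b.2 a a.2])
  refine h.mono ?_
  intro μ
  refine iInf_mono ?_
  intro a
  exact Module.End.eigenspace_le_genEigenspace (k := 1) Nat.one_pos |>.trans
    (Module.End.genEigenspace_le_maximal _ _ _) 

end weights

section main

variable {G V : Type*} [Group G] [Finite G] [AddCommGroup V] [Module ℂ V] [FiniteDimensional ℂ V]

theorem rho_injective (ρ : Representation ℂ G V) (g : G) : Function.Injective (ρ g) := by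
  intro x y h
  have := congrArg (ρ g⁻¹) h
  rwa [← Module.End.mul_apply, ← map_mul, ← Module.End.mul_apply, ← map_mul, inv_mul_cancel,
    map_one, Module.End.one_apply, Module.End.one_apply] at this

/-- **Itô's theorem**. -/
theorem ito (ρ : Representation ℂ G V) [ρ.IsIrreducible] (A : Subgroup G) [hAn : A.Normal]
    (hab : ∀ a ∈ A, ∀ b ∈ A, a * b = b * a) : Module.finrank ℂ V ∣ A.index := by
  classical
  have : IsMulCommutative A := ⟨⟨fun a b => Subtype.ext (hab a a.2 b b.2)⟩⟩
  have hntV : Nontrivial V := by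
    by_contra hnt
    rw [not_nontrivial_iff_subsingleton] at hnt
    have : (⊥ : Subrepresentation ρ) ≠ ⊤ := bot_ne_top
    apply this
    apply Subrepresentation.toSubmodule_injective
    exact Subsingleton.elim _ _
  obtain ⟨v, hv, hc⟩ := exists_common_eigenvector (ρ.comp A.subtype)
  choose lam hlam using hc
  -- the inertia group and the weight space
  set T : Subgroup G := inertia A lam with hT
  have hAT : A ≤ T := le_inertia A hab lam
  set W : Submodule ℂ V := wt ρ A lam with hW
  have hvW : v ∈ W := by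
    rw [hW, mem_wt]
    intro a
    exact hlam a
  set σ : Representation ℂ T V := ρ.comp T.subtype with hσ
  have hWinv : IsInv σ W := by
    intro t w hw
    have h1 := map_mem_wt ρ A lam (t : G) hw
    have h2 : tw A (t : G) lam = lam := t.2
    rw [h2] at h1
    exact h1
  have hntW : Nontrivial W := ⟨⟨⟨v, hvW⟩, 0, fun h => hv (congrArg Subtype.val h)⟩⟩
  obtain ⟨U, hU, hUne, hUirr⟩ := exists_irreducible_sub (subRep σ W hWinv)
  -- `A` acts by scalars on `U`
  have hfinT : Fintype T := Fintype.ofFinite T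
  have hdvd : Module.finrank ℂ U ∣ (A.subgroupOf T).index := by
    apply finrank_dvd_index_of_scalar (subRep (subRep σ W hWinv) U hU) (A.subgroupOf T)
    intro z hz
    have hz' : (z : G) ∈ A := Subgroup.mem_subgroupOf.mp hz
    refine ⟨lam ⟨(z : G), hz'⟩, ?_⟩
    apply LinearMap.ext
    intro u
    apply Subtype.ext
    apply Subtype.ext
    have hu : ((u : W) : V) ∈ wt ρ A lam := (u : W).2
    rw [mem_wt] at hu
    exact hu ⟨(z : G), hz'⟩
  -- the image of `U` in `V`
  set U' : Submodule ℂ V := U.map W.subtype with hU'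
  have hU'W : U' ≤ W := Submodule.map_subtype_le W U
  have hU'fin : Module.finrank ℂ U' = Module.finrank ℂ U :=
    (Submodule.equivMapOfInjective W.subtype W.subtype_injective U).finrank_eq.symm
  have hU'ne : U' ≠ ⊥ := by
    intro h
    apply hUne
    apply Submodule.map_injective_of_injective W.subtype_injective
    rw [Submodule.map_bot]
    exact h
  have hU'inv : ∀ t ∈ T, U'.map (ρ t) ≤ U' := by
    intro t ht
    rintro _ ⟨_, ⟨u, hu, rfl⟩, rfl⟩
    exact ⟨subRep σ W hWinv ⟨t, ht⟩ u, hU ⟨t, ht⟩ u hu, rfl⟩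
  -- the translates of `U'`
  set P : G ⧸ T → Submodule ℂ V := fun q => U'.map (ρ q.out) with hP
  have hkey : ∀ g : G, U'.map (ρ g) ≤ P (g : G ⧸ T) := by
    intro g
    set q : G ⧸ T := (g : G ⧸ T) with hq
    have ht : q.out⁻¹ * g ∈ T := by
      rw [← QuotientGroup.eq, QuotientGroup.out_eq']
    have e : ρ g = ρ q.out ∘ₗ ρ (q.out⁻¹ * g) := by
      rw [← Module.End.mul_eq_comp, ← map_mul, mul_inv_cancel_left]
    rw [e, Submodule.map_comp]
    exact Submodule.map_mono (hU'inv _ ht)
  have hPinv : IsInv ρ (⨆ q, P q) := by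
    intro g w hw
    have h1 : (⨆ q, P q).map (ρ g) ≤ ⨆ q, P q := by
      rw [Submodule.map_iSup]
      refine iSup_le ?_
      intro q
      have h2 : (P q).map (ρ g) = U'.map (ρ (g * q.out)) := by
        rw [hP]
        simp only
        rw [← Submodule.map_comp, map_mul, Module.End.mul_eq_comp]
      rw [h2]
      exact (hkey _).trans (le_iSup P _)
    exact h1 ⟨w, hw, rfl⟩
  have hPne : (⨆ q, P q) ≠ ⊥ := by
    intro h
    apply hU'ne
    rw [eq_bot_iff, ← h]
    have h1 := hkey 1
    rw [map_one] at h1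
    have h2 : U'.map (1 : Module.End ℂ V) = U' := Submodule.map_id U'
    rw [h2] at h1
    exact h1.trans (le_iSup P _)
  have hPtop : (⨆ q, P q) = ⊤ := by
    rcases IsSimpleOrder.eq_bot_or_eq_top (toSubrep ρ _ hPinv) with h | h
    · exact absurd (congrArg Subrepresentation.toSubmodule h) hPne
    · exact congrArg Subrepresentation.toSubmodule h
  -- independence
  have hPle : ∀ q : G ⧸ T, P q ≤ wt ρ A (tw A q.out lam) := by
    intro q
    rintro _ ⟨u, hu, rfl⟩
    exact map_mem_wt ρ A lam q.out (hU'W hu)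
  have hinj : Function.Injective (fun q : G ⧸ T => tw A q.out lam) := by
    intro q q' h
    simp only at h
    have h1 : q.out⁻¹ * q'.out ∈ T := by
      show tw A (q.out⁻¹ * q'.out) lam = lam
      rw [tw_mul, ← h, ← tw_mul, inv_mul_cancel, tw_one]
    rw [← QuotientGroup.eq, QuotientGroup.out_eq', QuotientGroup.out_eq'] at h1
    exact h1
  have hind : iSupIndep P := by
    have h1 := (iSupIndep_wt ρ A hab).comp hinj
    exact h1.mono hPle
  have hint : DirectSum.IsInternal P :=
    DirectSum.isInternal_submodule_of_iSupIndep_of_iSup_eq_top hind hPtop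
  have hfinQ : Fintype (G ⧸ T) := Fintype.ofFinite _
  have hdim : Module.finrank ℂ V = ∑ q : G ⧸ T, Module.finrank ℂ (P q) := by
    rw [← Module.finrank_directSum]
    exact (LinearEquiv.ofBijective (DirectSum.coeLinearMap P) hint).finrank_eq.symm
  have hdimP : ∀ q : G ⧸ T, Module.finrank ℂ (P q) = Module.finrank ℂ U := by
    intro q
    rw [← hU'fin]
    exact (Submodule.equivMapOfInjective (ρ q.out) (rho_injective ρ q.out) U').finrank_eq.symm
  rw [hdim, Finset.sum_congr rfl (fun q _ => hdimP q), Finset.sum_const, Finset.card_univ,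
    smul_eq_mul, ← Subgroup.relIndex_mul_index hAT, mul_comm]
  have hidx : Fintype.card (G ⧸ T) = T.index := by
    rw [Subgroup.index, Nat.card_eq_fintype_card]
  rw [hidx]
  exact Nat.mul_dvd_mul_right hdvd _

end main

end Cfsg.Agent.Lib.Helper3_Ito
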