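import Mathlib
import Cfsg.Prelude.Def_Characters
import Cfsg.Agent.Lib.Helper3_CharBridge
import Cfsg.Agent.Lib.Helper3_CharEigen
import Cfsg.Agent.Lib.Helper3_CharOrtho
import Cfsg.Agent.Lib.Helper3_RepDecomp
import Cfsg.Agent.Lib.Helper3_CharCenter
import Cfsg.Agent.Lib.Helper3_CharDegree
import Cfsg.Agent.Lib.Helper3_AbelianIndex
import Cfsg.Agent.Lib.Helper3_Ito
import Cfsg.Agent.Lib.Helper75_Induced
import Cfsg.Agent.Lib.Helper75_CharArith
import Cfsg.Agent.Lib.Helper75_Clifford
import Cfsg.Agent.Lib.Helper79_Linear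

/-!
# Nilpotent groups are M-groups (helper3)
-/

set_option autoImplicit false
set_option linter.unusedSectionVars false

namespace Cfsg.Agent.Lib.Helper3_NilpMono

open scoped ComplexConjugate
open scoped commutatorElement
open Representation
open Cfsg.Agent.Lib.Helper3_CharBridge Cfsg.Agent.Lib.Helper3_CharOrtho
  Cfsg.Agent.Lib.Helper3_RepDecomp Cfsg.Agent.Lib.Helper3_CharCenter
  Cfsg.Agent.Lib.Helper3_AbelianIndex Cfsg.Agent.Lib.Helper3_Ito
open Cfsg.Agent.Lib.Helper75_Induced Cfsg.Agent.Lib.Helper75_CharArith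
  Cfsg.Agent.Lib.Helper75_Clifford

section nilp

/-- In a nilpotent group, a proper subgroup `Z` admits `a ∉ Z` with `[a, G] ⊆ Z`. -/
theorem exists_not_mem_commutator_mem {G : Type*} [Group G] [hG : Group.IsNilpotent G]
    (Z : Subgroup G) (hZ : Z ≠ ⊤) : ∃ a, a ∉ Z ∧ ∀ g : G, a * g * a⁻¹ * g⁻¹ ∈ Z := by
  classical
  obtain ⟨n, hn⟩ := Subgroup.nilpotent_iff_lowerCentralSeries.mp hG
  have hex : ∃ i, (⊤ : Subgroup G).lowerCentralSeries i ≤ Z := ⟨n, by rw [hn]; exact bot_le⟩
  have hi : (⊤ : Subgroup G).lowerCentralSeries (Nat.find hex) ≤ Z := Nat.find_spec hex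
  have hi0 : Nat.find hex ≠ 0 := by
    intro h0
    rw [h0, Subgroup.lowerCentralSeries_zero] at hi
    exact hZ (top_le_iff.mp hi)
  obtain ⟨j, hj⟩ := Nat.exists_eq_succ_of_ne_zero hi0
  have hjn : ¬ (⊤ : Subgroup G).lowerCentralSeries j ≤ Z := Nat.find_min hex (by omega)
  obtain ⟨a, haL, haZ⟩ := SetLike.not_le_iff_exists.mp hjn
  refine ⟨a, haZ, fun g => hi ?_⟩
  rw [hj, Nat.succ_eq_add_one, Subgroup.lowerCentralSeries_succ, ← commutatorElement_def]
  exact Subgroup.commutator_mem_commutator haL (Subgroup.mem_top g)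

end nilp

section scalar

variable {G V : Type*} [Group G] [Fintype G] [AddCommGroup V] [Module ℂ V] [FiniteDimensional ℂ V]
  [Nontrivial V]

/-- The subgroup of elements acting by scalars. -/
def scalarSubgroup (ρ : Representation ℂ G V) : Subgroup G where
  carrier := {g | ∃ c : ℂ, ρ g = c • (LinearMap.id : V →ₗ[ℂ] V)}
  one_mem' := ⟨1, by rw [map_one, one_smul]; rfl⟩
  mul_mem' := by
    rintro g h ⟨c, hc⟩ ⟨d, hd⟩
    refine ⟨c * d, ?_⟩
    rw [map_mul, hc, hd]
    ext w
    simp [mul_smul, smul_comm c d]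
  inv_mem' := by
    rintro g ⟨c, hc⟩
    exact ⟨c⁻¹, (rho_inv_of_scalar ρ hc).2⟩

theorem mem_scalarSubgroup (ρ : Representation ℂ G V) (g : G) :
    g ∈ scalarSubgroup ρ ↔ ∃ c : ℂ, ρ g = c • (LinearMap.id : V →ₗ[ℂ] V) := Iff.rfl

instance scalarSubgroup_normal (ρ : Representation ℂ G V) : (scalarSubgroup ρ).Normal := by
  constructor
  rintro g ⟨c, hc⟩ h
  refine ⟨c, ?_⟩
  rw [map_mul, map_mul, hc]
  ext w
  simp only [Module.End.mul_apply, LinearMap.smul_apply, LinearMap.id_coe, id_eq, map_smul]
  rw [← Module.End.mul_apply, ← map_mul, mul_inv_cancel, map_one, Module.End.one_apply]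

theorem rho_pow_apply (ρ : Representation ℂ G V) (a : G) (μ : ℂ) (v : V) (h : ρ a v = μ • v)
    (k : ℕ) : ρ (a ^ k) v = μ ^ k • v := by
  induction k with
  | zero => simp
  | succ k ih =>
    rw [pow_succ, map_mul, Module.End.mul_apply, h, map_smul, ih, smul_smul, pow_succ, mul_comm]

/-- For a nilpotent group acting irreducibly and not by scalars there is a normal subgroup `A`,
not acting by scalars, with a common eigenvector. -/
theorem exists_normal_with_eigen [Group.IsNilpotent G] (ρ : Representation ℂ G V)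
    (hZ : scalarSubgroup ρ ≠ ⊤) :
    ∃ (A : Subgroup G) (_ : A.Normal) (v : V) (lam : A →* ℂˣ), v ≠ 0 ∧
      (∀ x : A, ρ x v = ((lam x : ℂˣ) : ℂ) • v) ∧ ∃ a ∈ A, a ∉ scalarSubgroup ρ := by
  classical
  obtain ⟨a, haZ, hcomm⟩ := exists_not_mem_commutator_mem (scalarSubgroup ρ) hZ
  set Z := scalarSubgroup ρ with hZdef
  set π := QuotientGroup.mk' Z with hπ
  -- `π a` is central
  have hcent : ∀ y : G ⧸ Z, y * π a = π a * y := by
    intro y
    obtain ⟨g, rfl⟩ := QuotientGroup.mk'_surjective Z y
    have h1 : π (a * g * a⁻¹ * g⁻¹) = 1 := by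
      rw [hπ, QuotientGroup.mk'_apply, QuotientGroup.eq_one_iff]
      exact hcomm g
    rw [map_mul, map_mul, map_mul, map_inv, map_inv] at h1
    have h2 : π a * π g = π g * π a := by
      have := congrArg (fun t => t * π g * π a) h1
      simpa [mul_assoc] using this
    exact h2.symm
  have hN : (Subgroup.zpowers (π a)).Normal := by
    constructor
    intro y hy g
    obtain ⟨k, rfl⟩ := Subgroup.mem_zpowers_iff.mp hy
    have h1 : g * π a ^ k * g⁻¹ = π a ^ k := by
      have hc : Commute g (π a) := hcent g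
      rw [(hc.zpow_right k).eq, mul_inv_cancel_right]
    rw [h1]
    exact Subgroup.zpow_mem_zpowers _ _
  set A : Subgroup G := (Subgroup.zpowers (π a)).comap π with hAdef
  have hAn : A.Normal := hN.comap π
  have haA : a ∈ A := by
    rw [hAdef, Subgroup.mem_comap]
    exact Subgroup.mem_zpowers _
  -- an eigenvector of `ρ a`
  obtain ⟨μ, hμ⟩ := Module.End.exists_eigenvalue (ρ a)
  obtain ⟨v, hv⟩ := hμ.exists_hasEigenvector
  have hv0 : v ≠ 0 := hv.2
  have hav : ρ a v = μ • v := Module.End.mem_eigenspace_iff.mp hv.1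
  have heig : ∀ x : A, ∃ c : ℂ, ρ x v = c • v := by
    intro x
    have hx : π x ∈ Subgroup.zpowers (π a) := x.2
    rw [← mem_powers_iff_mem_zpowers] at hx
    obtain ⟨k, hk⟩ := hx
    have h1 : ((a ^ k)⁻¹ * (x : G)) ∈ Z := by
      have h2 : π (a ^ k) = π x := by rw [map_pow]; exact hk
      rw [hπ, QuotientGroup.mk'_apply, QuotientGroup.mk'_apply, QuotientGroup.eq] at h2
      exact h2
    obtain ⟨d, hd⟩ := h1
    have h3 : (x : G) = a ^ k * ((a ^ k)⁻¹ * (x : G)) := by group
    refine ⟨μ ^ k * d, ?_⟩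
    rw [h3, map_mul, Module.End.mul_apply, hd, LinearMap.smul_apply, LinearMap.id_apply, map_smul,
      rho_pow_apply ρ a μ v hav k, smul_smul, mul_comm]
  choose f hf using heig
  have hinj : ∀ c d : ℂ, c • v = d • v → c = d := by
    intro c d h
    have : (c - d) • v = 0 := by rw [sub_smul, h, sub_self]
    rcases smul_eq_zero.mp this with h | h
    · exact sub_eq_zero.mp h
    · exact absurd h hv0
  let f' : A →* ℂ :=
    { toFun := f
      map_one' := by
        apply hinj
        rw [← hf 1, one_smul]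
        simp
      map_mul' := by
        intro x y
        apply hinj
        rw [← hf (x * y), Subgroup.coe_mul, map_mul, Module.End.mul_apply, hf y, map_smul, hf x,
          smul_smul, mul_comm] }
  refine ⟨A, hAn, v, f'.toHomUnits, hv0, ?_, a, haA, haZ⟩
  intro x
  rw [MonoidHom.coe_toHomUnits]
  exact hf x

end scalar

section constituent

variable {G V : Type*} [Group G] [Fintype G] [AddCommGroup V] [Module ℂ V] [FiniteDimensional ℂ V]

/-- A common eigenvector of `A` gives a linear constituent of the restriction to `A`. -/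
theorem classInner_res_ne_zero (ρ : Representation ℂ G V) (A : Subgroup G) [Fintype A] (v : V)
    (hv : v ≠ 0) (lam : A →* ℂˣ) (h : ∀ x : A, ρ x v = ((lam x : ℂˣ) : ℂ) • v) :
    Cfsg.classInner (fun x : A => ρ.character x) (fun x : A => ((lam x : ℂˣ) : ℂ)) ≠ 0 := by
  classical
  set σ : Representation ℂ A V := ρ.comp A.subtype with hσ
  set L : Submodule ℂ V := Submodule.span ℂ {v} with hL
  have hLinv : IsInv σ L := by
    intro x w hw
    obtain ⟨c, rfl⟩ := Submodule.mem_span_singleton.mp hw
    show ρ x (c • v) ∈ L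
    rw [map_smul, h x, smul_smul]
    exact Submodule.mem_span_singleton.mpr ⟨_, rfl⟩
  have : NeZero (Nat.card A : ℂ) := ⟨by exact_mod_cast Nat.card_pos.ne'⟩
  obtain ⟨L', hL'inv, hcompl⟩ := exists_isInv_isCompl σ L hLinv
  have hchar := char_eq_add_of_isCompl σ L L' hLinv hL'inv hcompl
  have hσchar : (fun x : A => ρ.character x) = σ.character := rfl
  have hLchar : (subRep σ L hLinv).character = fun x : A => ((lam x : ℂˣ) : ℂ) := by
    funext x
    have h1 : subRep σ L hLinv x = ((lam x : ℂˣ) : ℂ) • (LinearMap.id : L →ₗ[ℂ] L) := by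
      apply LinearMap.ext
      intro w
      apply Subtype.ext
      obtain ⟨c, hc⟩ := Submodule.mem_span_singleton.mp w.2
      show ρ x (w : V) = ((lam x : ℂˣ) : ℂ) • (w : V)
      rw [← hc, map_smul, h x, smul_comm]
    show LinearMap.trace ℂ L (subRep σ L hLinv x) = _
    rw [h1, map_smul, LinearMap.trace_id, finrank_span_singleton hv]
    simp
  have hirr : Cfsg.IsIrrCharacter A (fun x : A => ((lam x : ℂˣ) : ℂ)) :=
    Cfsg.Agent.Lib.Helper79_Linear.isIrrCharacter_of_hom lam
  obtain ⟨m, hm⟩ := classInner_isCharacter_nat (isCharacter_of_rep (subRep σ L' hL'inv))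
    (isCharacter_of_isIrrCharacter hirr)
  rw [hσchar, hchar, classInner_add_left, hLchar, classInner_self_of_isIrrCharacter hirr, hm]
  have : ((1 : ℂ) + (m : ℂ)) = ((1 + m : ℕ) : ℂ) := by push_cast; ring
  rw [this]
  exact_mod_cast (Nat.succ_ne_zero m ∘ (by omega : 1 + m = 0 → m.succ = 0))

end constituent

section trans

variable {G : Type*} [Group G] [Fintype G]

theorem indFun_congr (H₁ H₂ : Subgroup G) (h : H₁ = H₂) (θ₁ : H₁ → ℂ) (θ₂ : H₂ → ℂ)
    (hθ : ∀ (x : G) (h1 : x ∈ H₁) (h2 : x ∈ H₂), θ₁ ⟨x, h1⟩ = θ₂ ⟨x, h2⟩) :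
    Cfsg.indFun H₁ θ₁ = Cfsg.indFun H₂ θ₂ := by
  subst h
  congr 1
  funext x
  exact hθ x.1 x.2 x.2

/-- Transitivity of induction, for a subgroup of a subgroup. -/
theorem indFun_map_subtype (T : Subgroup G) [Fintype T] (H' : Subgroup T) (θ : H' → ℂ) :
    Cfsg.indFun T (Cfsg.indFun H' θ) =
      Cfsg.indFun (H'.map T.subtype)
        (fun x => θ ((H'.equivMapOfInjective T.subtype T.subtype_injective).symm x)) := by
  rw [← indFun_trans (H'.map T.subtype) T (Subgroup.map_subtype_le H')]
  congr 1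
  apply indFun_congr
  · ext x
    rw [Subgroup.mem_subgroupOf, Subgroup.mem_map]
    constructor
    · intro hx
      exact ⟨x, hx, rfl⟩
    · rintro ⟨y, hy, hyx⟩
      have : y = x := Subtype.ext hyx
      rwa [← this]
  · intro x h1 h2
    unfold resSubgroupOf
    congr 1
    rw [MulEquiv.eq_symm_apply]
    apply Subtype.ext
    rw [Subgroup.coe_equivMapOfInjective_apply]
    rfl

theorem indFun_top (χ : G → ℂ) (hχ : Cfsg.IsClassFunction G χ) :
    Cfsg.indFun (⊤ : Subgroup G) (fun x => χ x) = χ := by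
  funext g
  rw [indFun_apply]
  have h1 : ∀ x : G, Cfsg.extendByZero (⊤ : Subgroup G) (fun y => χ y) (x⁻¹ * g * x) = χ g := by
    intro x
    rw [extendByZero_of_mem _ _ (Subgroup.mem_top _)]
    have := hχ g x⁻¹
    rw [inv_inv] at this
    exact this
  rw [Finset.sum_congr rfl (fun x _ => h1 x), Finset.sum_const, Finset.card_univ, nsmul_eq_mul,
    Subgroup.card_top, Nat.card_eq_fintype_card, ← mul_assoc, inv_mul_cancel₀, one_mul]
  exact_mod_cast Fintype.card_ne_zero

end trans

section main

universe u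

theorem monomial_aux : ∀ (n : ℕ) (G : Type u) [Group G] [Fintype G] [Group.IsNilpotent G],
    Fintype.card G = n → ∀ χ : G → ℂ, Cfsg.IsIrrCharacter G χ →
      ∃ (H : Subgroup G) (lam : H →* ℂˣ), χ = Cfsg.indFun H (fun h => ((lam h : ℂˣ) : ℂ)) := by
  intro n
  induction n using Nat.strong_induction_on with
  | _ n ih =>
  intro G _ _ _ hcard χ hχ
  classical
  obtain ⟨m, ρ, hρ, rfl⟩ := hχ
  have hirrχ : Cfsg.IsIrrCharacter G ρ.character := isIrrCharacter_of_rep ρ
  have hd : Module.finrank ℂ (Fin m → ℂ) ≠ 0 :=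
    Cfsg.Agent.Lib.Helper3_CharDegree.finrank_ne_zero_of_irr ρ
  have hnt : Nontrivial (Fin m → ℂ) :=
    Module.nontrivial_of_finrank_pos (R := ℂ) (Nat.pos_of_ne_zero hd)
  by_cases hZ : scalarSubgroup ρ = ⊤
  · -- the linear case
    obtain ⟨v, hv⟩ := exists_ne (0 : Fin m → ℂ)
    have h1 : Module.finrank ℂ (Fin m → ℂ) ≤ (⊤ : Subgroup G).index := by
      apply finrank_le_index_of_eigenvector ρ ⊤ v hv
      intro a _
      have ha : a ∈ scalarSubgroup ρ := by rw [hZ]; exact Subgroup.mem_top a
      obtain ⟨c, hc⟩ := ha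
      exact ⟨c, by rw [hc]; rfl⟩
    rw [Subgroup.index_top] at h1
    have h2 : Module.finrank ℂ (Fin m → ℂ) = 1 := by omega
    have h3 : ρ.character 1 = 1 := by
      rw [Representation.char_one, h2, Nat.cast_one]
    set μ : G →* ℂˣ := Cfsg.Agent.Lib.Helper79_Linear.homOfLinear ⟨⟨ρ.character, hirrχ⟩, h3⟩
      with hμ
    refine ⟨⊤, μ.comp (⊤ : Subgroup G).subtype, ?_⟩
    have h4 : (fun h : (⊤ : Subgroup G) => (((μ.comp (⊤ : Subgroup G).subtype) h : ℂˣ) : ℂ)) =
        fun h : (⊤ : Subgroup G) => ρ.character h := by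
      funext h
      rw [MonoidHom.comp_apply, hμ, Cfsg.Agent.Lib.Helper79_Linear.homOfLinear_apply]
      rfl
    rw [h4, indFun_top _ (isClassFunction_of_isIrrCharacter hirrχ)]
  · -- the inductive case
    obtain ⟨A, hAn, v, lam, hv, hlam, a, haA, haZ⟩ := exists_normal_with_eigen ρ hZ
    have : Fintype A := Fintype.ofFinite A
    set lam' : A → ℂ := fun x => ((lam x : ℂˣ) : ℂ) with hlam'
    have hlamirr : Cfsg.IsIrrCharacter A lam' :=
      Cfsg.Agent.Lib.Helper79_Linear.isIrrCharacter_of_hom lam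
    -- the inertia group
    let T : Subgroup G :=
      { carrier := {g | conjFun A hAn lam' g = lam'}
        one_mem' := conjFun_one A hAn lam'
        mul_mem' := by
          intro g h hg hh
          change conjFun A hAn lam' g = lam' at hg
          change conjFun A hAn lam' h = lam' at hh
          change conjFun A hAn lam' (g * h) = lam'
          rw [← conjFun_conjFun, hg, hh]
        inv_mem' := by
          intro g hg
          change conjFun A hAn lam' g = lam' at hg
          change conjFun A hAn lam' g⁻¹ = lam'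
          conv_lhs => rw [← hg]
          rw [conjFun_conjFun, mul_inv_cancel, conjFun_one] }
    have hT : ∀ g : G, g ∈ T ↔ conjFun A hAn lam' g = lam' := fun g => Iff.rfl
    have hAT : A ≤ T := by
      intro x hx
      rw [hT]
      exact conjFun_of_mem A hAn (isClassFunction_of_isIrrCharacter hlamirr) ⟨x, hx⟩
    have : Fintype T := Fintype.ofFinite T
    -- `T` is proper
    have hTne : T ≠ ⊤ := by
      intro htop
      have hall : ∀ g : G, conjFun A hAn lam' g = lam' := by
        intro g
        rw [← hT, htop]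
        exact Subgroup.mem_top g
      have := hAn
      have htw : ∀ g : G, tw A g lam' = lam' := by
        intro g
        funext x
        have h1 := congrFun (hall g⁻¹) x
        rw [conjFun_apply] at h1
        rw [← h1]
        unfold tw
        congr 1
        apply Subtype.ext
        simp
      set W : Submodule ℂ (Fin m → ℂ) := wt ρ A lam' with hW
      have hvW : v ∈ W := by
        rw [hW, mem_wt]
        exact hlam
      have hWinv : IsInv ρ W := by
        intro g w hw
        have := map_mem_wt ρ A lam' g hw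
        rw [htw g] at this
        exact this
      have hWtop : W = ⊤ := by
        rcases IsSimpleOrder.eq_bot_or_eq_top (toSubrep ρ W hWinv) with h | h
        · have h1 := congrArg Subrepresentation.toSubmodule h
          have h2 : W = ⊥ := h1
          rw [h2, Submodule.mem_bot] at hvW
          exact absurd hvW hv
        · exact congrArg Subrepresentation.toSubmodule h
      apply haZ
      refine ⟨lam' ⟨a, haA⟩, ?_⟩
      apply LinearMap.ext
      intro w
      have hw : w ∈ wt ρ A lam' := by rw [← hW, hWtop]; trivial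
      rw [mem_wt] at hw
      exact hw ⟨a, haA⟩
    -- Clifford correspondence
    have hcon : Cfsg.classInner (res A ρ.character) lam' ≠ 0 :=
      classInner_res_ne_zero ρ A v hv lam hlam
    obtain ⟨ψ, hψ, hind, -⟩ := corr_surj A T hAn hAT hlamirr hT hirrχ hcon
    -- induction hypothesis
    have hlt : Fintype.card T < n := by
      rw [← hcard]
      have h1 : Nat.card T ≤ Nat.card G := Subgroup.card_le_card_group T
      have h2 : Nat.card T ≠ Nat.card G := fun h => hTne (Subgroup.eq_top_of_card_eq T h)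
      rw [Nat.card_eq_fintype_card, Nat.card_eq_fintype_card] at h1 h2
      omega
    obtain ⟨H', μ, hμ⟩ := ih (Fintype.card T) hlt T rfl ψ hψ
    refine ⟨H'.map T.subtype,
      μ.comp (H'.equivMapOfInjective T.subtype T.subtype_injective).symm.toMonoidHom, ?_⟩
    rw [← hind, hμ, indFun_map_subtype]
    rfl

/-- A finite nilpotent group is an M-group. -/
theorem monomial_of_nilpotent {G : Type u} [Group G] [Fintype G] [Group.IsNilpotent G]
    (χ : G → ℂ) (hχ : Cfsg.IsIrrCharacter G χ) :
    ∃ (H : Subgroup G) (lam : H →* ℂˣ), χ = Cfsg.indFun H (fun h => ((lam h : ℂˣ) : ℂ)) :=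
  monomial_aux _ G rfl χ hχ

end main

end Cfsg.Agent.Lib.Helper3_NilpMono
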