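import Mathlib

set_option autoImplicit false

namespace Cfsg.Agent.Lib.Helper15_OrbitMod

open MulAction

/-- Orbit decomposition of an invariant natural-valued sum. -/
theorem sum_eq_sum_orbits {E X : Type*} [Group E] [Fintype E] [MulAction E X] [Fintype X]
    [Fintype (orbitRel.Quotient E X)] (F : X → ℕ) (hF : ∀ (g : E) (x : X), F (g • x) = F x) :
    ∑ x : X, F x = ∑ ω : orbitRel.Quotient E X, (stabilizer E ω.out).index * F ω.out := by
  classical
  rw [← Fintype.sum_fiberwise (fun x : X => (Quotient.mk'' x : orbitRel.Quotient E X)) F]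
  apply Finset.sum_congr rfl
  intro ω _
  have hmem : ∀ x : {x : X // (Quotient.mk'' x : orbitRel.Quotient E X) = ω},
      ∃ a : E, a • ω.out = x.1 := by
    intro x
    have h1 : (Quotient.mk'' x.1 : orbitRel.Quotient E X) = Quotient.mk'' ω.out := by
      rw [x.2, Quotient.out_eq']
    exact Quotient.exact' h1
  have hterm : ∀ x : {x : X // (Quotient.mk'' x : orbitRel.Quotient E X) = ω},
      F x.1 = F ω.out := by
    intro x
    obtain ⟨a, ha⟩ := hmem x
    rw [← ha, hF]
  rw [Finset.sum_congr rfl (fun x _ => hterm x), Finset.sum_const, Finset.card_univ, smul_eq_mul]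
  congr 1
  rw [index_stabilizer, ← Nat.card_eq_fintype_card, ← Nat.card_coe_set_eq]
  apply Nat.card_congr
  apply Equiv.subtypeEquivRight
  intro x
  rw [← orbitRel.Quotient.mem_orbit, orbitRel.Quotient.orbit_eq_orbit_out ω Quotient.out_eq']

/-- If all orbit lengths are powers of `p` and `p` does not divide an invariant sum, some fixed
point has weight prime to `p`. -/
theorem exists_fixed_of_not_dvd {E X : Type*} [Group E] [Fintype E] [MulAction E X] [Fintype X]
    (p : ℕ) (horb : ∀ x : X, ∃ j, (stabilizer E x).index = p ^ j)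
    (F : X → ℕ) (hF : ∀ (g : E) (x : X), F (g • x) = F x) (hsum : ¬ p ∣ ∑ x, F x) :
    ∃ x : X, (∀ g : E, g • x = x) ∧ ¬ p ∣ F x := by
  classical
  by_contra hcon
  push Not at hcon
  apply hsum
  have : Fintype (orbitRel.Quotient E X) := Fintype.ofFinite _
  rw [sum_eq_sum_orbits F hF]
  apply Finset.dvd_sum
  intro ω _
  obtain ⟨j, hj⟩ := horb ω.out
  rcases Nat.eq_zero_or_pos j with h0 | hpos
  · rw [h0, pow_zero, Subgroup.index_eq_one] at hj
    apply Dvd.dvd.mul_left
    apply hcon
    intro g
    have : g ∈ stabilizer E ω.out := by rw [hj]; trivial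
    exact this
  · rw [hj]
    exact Dvd.dvd.mul_right (dvd_pow_self p hpos.ne') _

end Cfsg.Agent.Lib.Helper15_OrbitMod
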