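import Mathlib
import Cfsg.Prelude.Def_Characters
import Cfsg.Prelude.Def_Blocks
import Cfsg.Agent.Lib.Helper75_CharProd
import Cfsg.Agent.Lib.Helper75_IndChar
import Cfsg.Agent.Lib.Helper79_Linear
import Cfsg.Agent.Lib.Helper80_CharBasic

/-!
# Twisting irreducible characters by linear characters; induction from the inertia group
of an extendible character of a normal subgroup (helper81).
-/

set_option autoImplicit false

namespace Cfsg.Agent.Lib.Helper81_Twist

open scoped ComplexConjugate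
open Cfsg.Agent.Lib.Helper3_CharBridge Cfsg.Agent.Lib.Helper3_CharOrtho
  Cfsg.Agent.Lib.Helper3_CharComplete Cfsg.Agent.Lib.Helper75_CharArith
  Cfsg.Agent.Lib.Helper75_Induced Cfsg.Agent.Lib.Helper75_Clifford
  Cfsg.Agent.Lib.Helper75_CharProd Cfsg.Agent.Lib.Helper79_Linear

variable {G : Type*} [Group G]

/-- A linear character has values of absolute value one. -/
theorem linear_mul_conj [Finite G] {ν : G → ℂ} (hν : Cfsg.IsIrrCharacter G ν) (h1 : ν 1 = 1)
    (g : G) : ν g * conj (ν g) = 1 := by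
  have h := linear_norm (G := G) ⟨⟨ν, hν⟩, h1⟩ g
  rw [Complex.mul_conj, Complex.normSq_eq_norm_sq]
  change ‖ν g‖ = 1 at h
  rw [h]
  simp

/-- Twisting both arguments by a linear character preserves the inner product. -/
theorem classInner_linear_mul [Fintype G] {ν : G → ℂ} (hν : Cfsg.IsIrrCharacter G ν)
    (h1 : ν 1 = 1) (α β : G → ℂ) :
    Cfsg.classInner (ν * α) (ν * β) = Cfsg.classInner α β := by
  unfold Cfsg.classInner
  congr 1
  refine Finset.sum_congr rfl fun g _ => ?_
  simp only [Pi.mul_apply, map_mul]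
  have := linear_mul_conj hν h1 g
  calc ν g * α g * (conj (ν g) * conj (β g)) = (ν g * conj (ν g)) * (α g * conj (β g)) := by ring
    _ = α g * conj (β g) := by rw [this, one_mul]

/-- The product of a linear character and an irreducible character is irreducible. -/
theorem isIrrCharacter_linear_mul [Finite G] {ν χ : G → ℂ} (hν : Cfsg.IsIrrCharacter G ν)
    (h1 : ν 1 = 1) (hχ : Cfsg.IsIrrCharacter G χ) : Cfsg.IsIrrCharacter G (ν * χ) := by
  classical
  haveI := Fintype.ofFinite G
  apply isIrrCharacter_of_classInner_self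
    (isCharacter_mul (isCharacter_of_isIrrCharacter hν) (isCharacter_of_isIrrCharacter hχ))
  rw [classInner_linear_mul hν h1, classInner_self_of_isIrrCharacter hχ]

/-- Linear characters are trivial on a non-abelian minimal normal subgroup. -/
theorem linear_trivial_on_minimal_normal [Finite G] (N : Subgroup G) (hN : N.Normal)
    (hmin : ∀ M : Subgroup G, M.Normal → M ≤ N → M = ⊥ ∨ M = N)
    (hna : ¬ IsMulCommutative ↥N) {ν : G → ℂ} (hν : Cfsg.IsIrrCharacter G ν) (h1 : ν 1 = 1)
    (n : G) (hn : n ∈ N) : ν n = 1 := by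
  haveI := hN
  have hnorm : (⁅N, N⁆ : Subgroup G).Normal := inferInstance
  have hle : (⁅N, N⁆ : Subgroup G) ≤ N := Subgroup.commutator_le_left N N
  rcases hmin _ hnorm hle with h | h
  · exfalso
    apply hna
    rw [Subgroup.commutator_eq_bot_iff_le_centralizer] at h
    rw [isMulCommutative_iff]
    intro a b
    apply Subtype.ext
    have := h a.2 b b.2
    exact this.symm
  · have hn' : n ∈ commutator G := by
      rw [commutator_def]
      have : n ∈ (⁅N, N⁆ : Subgroup G) := by rw [h]; exact hn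
      exact Subgroup.commutator_mono le_top le_top this
    exact linear_commutator (G := G) ⟨⟨ν, hν⟩, h1⟩ hn'

section extend

variable [Fintype G] (N I : Subgroup G) (hN : N.Normal) (hNI : N ≤ I)
  {φ : N → ℂ} (hφ : Cfsg.IsIrrCharacter N φ)
  (hI : ∀ g : G, g ∈ I ↔ conjFun N hN φ g = φ)
  (ψ : Cfsg.IrrCharacter I)
  (hext : ∀ n : N, (ψ : I → ℂ) (Subgroup.inclusion hNI n) = φ n)

include hφ hI hext in
/-- Clifford correspondence: inducing an extension of `φ` to its inertia group gives an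
irreducible character. -/
theorem isIrrCharacter_indFun_ext : Cfsg.IsIrrCharacter G (Cfsg.indFun I (ψ : I → ℂ)) := by
  classical
  haveI : Fintype I := Fintype.ofFinite I
  haveI : Fintype (N.subgroupOf I) := Fintype.ofFinite _
  have hφ' : Cfsg.IsIrrCharacter (N.subgroupOf I) (resSubgroupOf N I φ) :=
    isIrrCharacter_resSubgroupOf N I hNI hφ
  have hψ : Cfsg.classInner (Cfsg.indFun (N.subgroupOf I) (resSubgroupOf N I φ))
      (ψ : I → ℂ) ≠ 0 := by
    rw [frobenius_reciprocity (N.subgroupOf I) _ _ (isClassFunction_of_isIrrCharacter ψ.2)]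
    have : (fun h : N.subgroupOf I => (ψ : I → ℂ) h) = resSubgroupOf N I φ := by
      funext h
      exact hext ⟨((h : I) : G), Subgroup.mem_subgroupOf.mp h.2⟩
    rw [this, classInner_self_of_isIrrCharacter hφ']
    exact one_ne_zero
  have core := corr_core N I hN hNI hφ hI ψ hψ
  exact isIrrCharacter_of_classInner_self
    (Cfsg.Agent.Lib.Helper75_IndChar.isCharacter_indFun I (isCharacter_of_isIrrCharacter ψ.2))
    core.1

include hN hext in
/-- On `N`, the function induced from an extension `ψ` of `φ` to `I` is a multiple of the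
function induced from `φ`. -/
theorem indFun_ext_apply (n : N) :
    Cfsg.indFun I (ψ : I → ℂ) (n : G) =
      (Nat.card I : ℂ)⁻¹ * (Nat.card N : ℂ) * Cfsg.indFun N φ (n : G) := by
  have hN0 : (Nat.card N : ℂ) ≠ 0 := by
    rw [Nat.cast_ne_zero]; exact Nat.card_pos.ne'
  rw [indFun_apply, indFun_apply]
  have : ∀ x : G, Cfsg.extendByZero I (ψ : I → ℂ) (x⁻¹ * (n : G) * x) =
      Cfsg.extendByZero N φ (x⁻¹ * (n : G) * x) := by
    intro x
    have h : x⁻¹ * (n : G) * x ∈ N := by
      have := hN.conj_mem n n.2 x⁻¹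
      rwa [inv_inv] at this
    rw [extendByZero_of_mem N φ h, extendByZero_of_mem I _ (hNI h)]
    have := hext ⟨x⁻¹ * (n : G) * x, h⟩
    rw [← this]
    rfl
  simp_rw [this]
  field_simp

include hφ hI hext in
/-- The norm of the restriction to `N` of `Ind_I^G ψ` is `|G : I|`. -/
theorem classInner_res_indFun_ext [Fintype N] :
    Cfsg.classInner (res N (Cfsg.indFun I (ψ : I → ℂ))) (res N (Cfsg.indFun I (ψ : I → ℂ))) =
      (I.index : ℂ) := by
  classical
  have hN0 : (Nat.card N : ℂ) ≠ 0 := by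
    rw [Nat.cast_ne_zero]; exact Nat.card_pos.ne'
  have hI0 : (Nat.card I : ℂ) ≠ 0 := by
    rw [Nat.cast_ne_zero]; exact Nat.card_pos.ne'
  set Ψ : N → ℂ := res N (Cfsg.indFun N φ) with hΨ
  have hres : res N (Cfsg.indFun I (ψ : I → ℂ)) =
      ((Nat.card I : ℂ)⁻¹ * (Nat.card N : ℂ)) • Ψ := by
    funext n
    rw [res_apply, indFun_ext_apply N I hN hNI ψ hext n]
    rfl
  have hcf : Cfsg.IsClassFunction G (Cfsg.indFun N φ) := isClassFunction_indFun N φ
  -- [φ, Ψ] = |N|⁻¹ |I|
  have h1 : Cfsg.classInner φ Ψ = (Nat.card N : ℂ)⁻¹ * (Nat.card I : ℂ) := by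
    have := frobenius_reciprocity N φ (Cfsg.indFun N φ) hcf
    rw [classInner_indFun_self N hN hφ I hI] at this
    exact this.symm
  have hconj : conj ((Nat.card N : ℂ)⁻¹ * (Nat.card I : ℂ)) =
      (Nat.card N : ℂ)⁻¹ * (Nat.card I : ℂ) := by
    rw [map_mul, map_inv₀, Complex.conj_natCast, Complex.conj_natCast]
  have h2 : ∀ x : G, Cfsg.classInner (conjFun N hN φ x) Ψ =
      (Nat.card N : ℂ)⁻¹ * (Nat.card I : ℂ) := by
    intro x
    rw [← classInner_conj_symm, hΨ, classInner_res_conjFun N hN hcf φ x, ← hΨ,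
      ← classInner_conj_symm, h1, Complex.conj_conj]
  have h3 : Cfsg.classInner Ψ Ψ =
      (Nat.card N : ℂ)⁻¹ * ((Nat.card G : ℂ) * ((Nat.card N : ℂ)⁻¹ * (Nat.card I : ℂ))) := by
    rw [hΨ, classInner_res_indFun N hN φ]
    congr 1
    rw [← hΨ]
    simp_rw [h2]
    rw [Finset.sum_const, Finset.card_univ, nsmul_eq_mul, ← Nat.card_eq_fintype_card]
  rw [hres, classInner_smul_left, classInner_smul_right, h3]
  have hconj2 : conj ((Nat.card I : ℂ)⁻¹ * (Nat.card N : ℂ)) =
      (Nat.card I : ℂ)⁻¹ * (Nat.card N : ℂ) := by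
    rw [map_mul, map_inv₀, Complex.conj_natCast, Complex.conj_natCast]
  rw [hconj2]
  have hidx : (Nat.card G : ℂ) = (Nat.card I : ℂ) * (I.index : ℂ) := by
    rw [← Nat.cast_mul, Subgroup.card_mul_index]
  rw [hidx]
  field_simp

include hext in
/-- The degree of `Ind_I^G ψ`. -/
theorem indFun_ext_one : Cfsg.indFun I (ψ : I → ℂ) 1 = (I.index : ℂ) * φ 1 := by
  have hI0 : (Nat.card I : ℂ) ≠ 0 := by
    rw [Nat.cast_ne_zero]; exact Nat.card_pos.ne'
  rw [indFun_one]
  have hidx : (Nat.card G : ℂ) = (Nat.card I : ℂ) * (I.index : ℂ) := by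
    rw [← Nat.cast_mul, Subgroup.card_mul_index]
  have h1 : (ψ : I → ℂ) 1 = φ 1 := by
    have := hext 1
    rw [← this]
    rfl
  rw [hidx, h1]
  field_simp

end extend

/-- If the linear characters `ν ∈ F`, all trivial on `N`, twist `χ₀` to the same character `χ₁`,
then their number is at most the norm of the restriction of `χ₀` to `N`. -/
theorem card_le_of_twist_eq [Fintype G] (N : Subgroup G) [Fintype N] {χ₀ χ₁ : G → ℂ}
    (hχ₀ : Cfsg.IsIrrCharacter G χ₀) (hχ₁ : Cfsg.IsIrrCharacter G χ₁)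
    (hN01 : ∀ n : N, χ₁ n = χ₀ n)
    (k : ℕ) (hk : Cfsg.classInner (res N χ₀) (res N χ₀) = k)
    (F : Finset (Cfsg.IrrCharacter G))
    (hF : ∀ ν ∈ F, (∀ n : N, (ν : G → ℂ) n = 1) ∧ (ν : G → ℂ) * χ₀ = χ₁) :
    F.card ≤ k := by
  classical
  have hN0 : (Nat.card N : ℂ) ≠ 0 := by
    rw [Nat.cast_ne_zero]; exact Nat.card_pos.ne'
  set Θ : G → ℂ := χ₁ * (fun g => conj (χ₀ g)) with hΘdef
  have hΘ : Cfsg.IsCharacter G Θ :=
    isCharacter_mul (isCharacter_of_isIrrCharacter hχ₁)
      (isCharacter_conj (isCharacter_of_isIrrCharacter hχ₀))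
  obtain ⟨m, hm, hsum⟩ := exists_multiplicities hΘ
  have hone : Cfsg.IsCharacter N (fun _ : N => (1 : ℂ)) :=
    isCharacter_of_isIrrCharacter (Cfsg.Agent.Lib.Helper80_CharBasic.isIrrCharacter_one N)
  have hκ : ∀ χ : Cfsg.IrrCharacter G, ∃ n : ℕ,
      Cfsg.classInner (res N (χ : G → ℂ)) (fun _ : N => (1 : ℂ)) = n := fun χ =>
    classInner_isCharacter_nat (isCharacter_res N (isCharacter_of_isIrrCharacter χ.2)) hone
  choose κ hκ' using hκ
  have h1 : Cfsg.classInner (res N Θ) (fun _ : N => (1 : ℂ)) =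
      ∑ χ : Cfsg.IrrCharacter G, (m χ : ℂ) * (κ χ : ℂ) := by
    conv_lhs => rw [hsum]
    rw [res_sum, classInner_sum_left]
    refine Finset.sum_congr rfl fun χ _ => ?_
    rw [res_smul, classInner_smul_left, hκ']
  have h2 : Cfsg.classInner (res N Θ) (fun _ : N => (1 : ℂ)) = k := by
    rw [← hk]
    unfold Cfsg.classInner
    congr 1
    refine Finset.sum_congr rfl fun n _ => ?_
    simp only [res_apply, hΘdef, Pi.mul_apply, map_one, mul_one]
    rw [hN01 n]
  have h3 : k = ∑ χ : Cfsg.IrrCharacter G, m χ * κ χ := by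
    have : ((k : ℕ) : ℂ) = ((∑ χ : Cfsg.IrrCharacter G, m χ * κ χ : ℕ) : ℂ) := by
      rw [← h2, h1]
      push_cast
      rfl
    exact_mod_cast this
  have hmν : ∀ ν ∈ F, m ν = 1 := by
    intro ν hν
    have h := hm ν
    have h' : Cfsg.classInner Θ (ν : G → ℂ) = Cfsg.classInner χ₁ ((ν : G → ℂ) * χ₀) := by
      unfold Cfsg.classInner
      congr 1
      refine Finset.sum_congr rfl fun g _ => ?_
      simp only [hΘdef, Pi.mul_apply, map_mul]
      ring
    rw [h', (hF ν hν).2, classInner_self_of_isIrrCharacter hχ₁] at h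
    exact_mod_cast h.symm
  have hκν : ∀ ν ∈ F, κ ν = 1 := by
    intro ν hν
    have h := hκ' ν
    have h' : Cfsg.classInner (res N (ν : G → ℂ)) (fun _ : N => (1 : ℂ)) = 1 := by
      unfold Cfsg.classInner
      have : ∀ n : N, res N (ν : G → ℂ) n * conj (1 : ℂ) = 1 := by
        intro n
        rw [res_apply, (hF ν hν).1 n, map_one, mul_one]
      simp_rw [this]
      rw [Finset.sum_const, Finset.card_univ, nsmul_eq_mul, mul_one, ← Nat.card_eq_fintype_card]
      field_simp
    rw [h'] at h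
    exact_mod_cast h.symm
  calc F.card = ∑ ν ∈ F, 1 := by simp
    _ = ∑ ν ∈ F, m ν * κ ν := by
        refine Finset.sum_congr rfl fun ν hν => ?_
        rw [hmν ν hν, hκν ν hν]
    _ ≤ ∑ χ : Cfsg.IrrCharacter G, m χ * κ χ :=
        Finset.sum_le_sum_of_subset (Finset.subset_univ F)
    _ = k := h3.symm

end Cfsg.Agent.Lib.Helper81_Twist
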