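import Mathlib
import Cfsg.Prelude.Def_Characters
import Cfsg.Agent.Lib.Helper3_CharBridge
import Cfsg.Agent.Lib.Helper3_CharEigen
import Cfsg.Agent.Lib.Helper3_CharOrtho
import Cfsg.Agent.Lib.Helper3_CharComplete
import Cfsg.Agent.Lib.Helper75_CharArith
import Cfsg.Agent.Lib.Helper78_CentralChar
import Cfsg.Agent.Lib.Helper80_CharBasic
import Cfsg.Agent.Lib.Helper15_Linear

/-!
# Generic character-theoretic tools (helper39)

* `rho_eq_id_of_sum_ne_zero` : Clifford-lite: if the trivial character of a normal subgroup `N`
  occurs in the restriction of an irreducible character, `N` acts trivially.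
* `char_eq_sum_nat` : a character is a natural combination of the irreducible characters.
-/

set_option autoImplicit false

namespace Cfsg.Agent.Lib.Helper39_CharTools

open scoped ComplexConjugate
open Representation

section clifford

variable {G V : Type*} [Group G] [AddCommGroup V] [Module ℂ V] [FiniteDimensional ℂ V]

/-- Clifford-lite: if the sum of an irreducible character over a finite normal subgroup does not
vanish, the subgroup acts trivially. -/
theorem rho_eq_id_of_sum_ne_zero (ρ : Representation ℂ G V) [ρ.IsIrreducible]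
    (N : Subgroup G) [N.Normal] [Fintype N] (h : ∑ n : N, ρ.character n ≠ 0) :
    ∀ n : N, ρ n = LinearMap.id := by
  -- the averaging operator
  let P : V →ₗ[ℂ] V := ∑ n : N, ρ n
  have htr : LinearMap.trace ℂ V P = ∑ n : N, ρ.character n := by
    simp only [P, map_sum, Representation.character]
  have hP : P ≠ 0 := by
    intro h0
    rw [h0, map_zero] at htr
    exact h htr.symm
  -- the space of fixed vectors is a subrepresentation
  let W : Subrepresentation ρ :=
    { toSubmodule :=
        { carrier := {v | ∀ n : N, ρ n v = v}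
          add_mem' := by
            intro v w hv hw n
            rw [map_add, hv n, hw n]
          zero_mem' := by intro n; simp
          smul_mem' := by
            intro c v hv n
            rw [map_smul, hv n] }
      apply_mem_toSubmodule := by
        intro g v hv n
        change ρ n (ρ g v) = ρ g v
        have hmem : g⁻¹ * n * g ∈ N := by
          have := ‹N.Normal›.conj_mem n n.2 g⁻¹
          simpa using this
        have h1 : ρ n (ρ g v) = ρ g (ρ (g⁻¹ * n * g) v) := by
          rw [← Module.End.mul_apply, ← Module.End.mul_apply, ← map_mul, ← map_mul]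
          congr 2
          group
        rw [h1]
        congr 1
        exact hv ⟨_, hmem⟩ }
  have hPW : ∀ v : V, P v ∈ W.toSubmodule := by
    intro v m
    simp only [P, LinearMap.sum_apply, map_sum]
    have : ∀ n : N, ρ m (ρ n v) = ρ ((m * n : N) : G) v := by
      intro n
      rw [← Module.End.mul_apply, ← map_mul]
      rfl
    simp_rw [this]
    exact Fintype.sum_equiv (Equiv.mulLeft m) _ _ (fun n => rfl)
  have hW : W = ⊤ := by
    rcases eq_bot_or_eq_top W with hb | ht
    · exfalso
      apply hP
      ext v
      have := hPW v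
      rw [hb] at this
      change P v ∈ (⊥ : Submodule ℂ V) at this
      simpa using this
    · exact ht
  intro n
  ext v
  have : v ∈ W.toSubmodule := by rw [hW]; trivial
  exact this n

end clifford

section decomp

variable {G : Type*} [Group G] [Fintype G]

/-- A character is a natural combination of the irreducible characters. -/
theorem char_eq_sum_nat {ξ : G → ℂ} (hξ : Cfsg.IsCharacter G ξ) :
    ∃ m : Cfsg.IrrCharacter G → ℕ,
      (∀ φ : Cfsg.IrrCharacter G, Cfsg.classInner ξ (φ : G → ℂ) = (m φ : ℂ)) ∧
      ∀ g : G, ξ g = ∑ φ : Cfsg.IrrCharacter G, (m φ : ℂ) * (φ : G → ℂ) g := by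
  classical
  have hm : ∀ φ : Cfsg.IrrCharacter G, ∃ n : ℕ, Cfsg.classInner ξ (φ : G → ℂ) = (n : ℂ) := fun φ =>
    Cfsg.Agent.Lib.Helper75_CharArith.classInner_isCharacter_nat hξ
      (Cfsg.Agent.Lib.Helper3_CharBridge.isCharacter_of_isIrrCharacter φ.2)
  choose m hm using hm
  refine ⟨m, hm, fun g => ?_⟩
  have h := Cfsg.Agent.Lib.Helper3_CharComplete.classFunction_eq_sum ξ
    (Cfsg.Agent.Lib.Helper3_CharBridge.isClassFunction_of_isCharacter hξ)
  have h2 := congrFun h g
  rw [h2]
  simp only [Finset.sum_apply, Pi.smul_apply, smul_eq_mul]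
  refine Finset.sum_congr rfl (fun φ _ => ?_)
  rw [hm φ]

/-- Removing an irreducible constituent from a character leaves a character. -/
theorem isCharacter_sub_irr {θ χ : G → ℂ} (hθ : Cfsg.IsCharacter G θ)
    (hχ : Cfsg.IsIrrCharacter G χ) (h : Cfsg.classInner θ χ ≠ 0) :
    Cfsg.IsCharacter G (θ - χ) := by
  classical
  apply Cfsg.Agent.Lib.Helper75_CharArith.isCharacter_of_classInner_nat
  · exact Cfsg.Agent.Lib.Helper3_CharComplete.isClassFunction_sub
      (Cfsg.Agent.Lib.Helper3_CharBridge.isClassFunction_of_isCharacter hθ)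
      (Cfsg.Agent.Lib.Helper3_CharBridge.isClassFunction_of_isIrrCharacter hχ)
  · intro φ
    obtain ⟨n, hn⟩ := Cfsg.Agent.Lib.Helper75_CharArith.classInner_isCharacter_nat hθ
      (Cfsg.Agent.Lib.Helper3_CharBridge.isCharacter_of_isIrrCharacter φ.2)
    rw [Cfsg.Agent.Lib.Helper3_CharOrtho.classInner_sub_left, hn,
      Cfsg.Agent.Lib.Helper3_CharOrtho.classInner_irr hχ φ.2]
    split_ifs with heq
    · subst heq
      rw [hn] at h
      have hn0 : n ≠ 0 := by
        rintro rfl
        exact h (by simp)
      refine ⟨n - 1, ?_⟩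
      rw [Nat.cast_sub (Nat.one_le_iff_ne_zero.2 hn0)]
      simp
    · exact ⟨n, by simp⟩

/-- A character of degree zero vanishes. -/
theorem eq_zero_of_isCharacter_of_one_eq_zero {G : Type*} [Group G] {η : G → ℂ}
    (hη : Cfsg.IsCharacter G η) (h : η 1 = 0) : η = 0 := by
  obtain ⟨n, ρ, rfl⟩ := hη
  rw [Representation.char_one] at h
  have hn : n = 0 := by
    simp at h
    exact h
  subst hn
  funext g
  simp only [Representation.character, Pi.zero_apply]
  have : ρ g = 0 := by
    ext v i
    exact Fin.elim0 i
  rw [this, map_zero]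

/-- A character of degree one is irreducible. -/
theorem isIrrCharacter_of_isCharacter_of_one_eq_one {G : Type*} [Group G] {η : G → ℂ}
    (hη : Cfsg.IsCharacter G η) (h : η 1 = 1) : Cfsg.IsIrrCharacter G η := by
  obtain ⟨n, ρ, rfl⟩ := hη
  rw [Representation.char_one] at h
  have hn : Module.finrank ℂ (Fin n → ℂ) = 1 := by exact_mod_cast h
  exact ⟨n, ρ, Cfsg.Agent.Lib.Helper80_CharBasic.isIrreducible_of_finrank_eq_one ρ hn, rfl⟩

/-- Values of a character of degree one of a finite group have absolute value one. -/
theorem norm_linear_eq_one {G : Type*} [Group G] [Finite G] {ν : G → ℂ}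
    (hν : Cfsg.IsCharacter G ν) (h : ν 1 = 1) (g : G) : ‖ν g‖ = 1 := by
  have hpow : ∀ k : ℕ, ν (g ^ k) = ν g ^ k := by
    intro k
    induction k with
    | zero => simp [h]
    | succ k ih => rw [pow_succ, Cfsg.Agent.Lib.Helper15_Linear.linear_mul ν hν h, ih, pow_succ]
  have h1 : ν g ^ orderOf g = 1 := by rw [← hpow, pow_orderOf_eq_one, h]
  exact Complex.norm_eq_one_of_pow_eq_one h1 (orderOf_pos g).ne'

end decomp

end Cfsg.Agent.Lib.Helper39_CharTools
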