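import Cfsg.Agent.Lib.Helper75_AbelianInertia

/-!
# Inducing from a normal subgroup with abelian inertia quotient (helper75)

`ind_decomp_of_abelian_inertia`: `H ⊴ G`, `θ ∈ Irr H` with inertia group `T`, `T/H` abelian, and
`ψ₀ ∈ Irr T` lying over `θ` with multiplicity `e`.  Then `Ind_H^G θ = e • ∑_{χ ∈ C} χ` for a set
`C` of irreducible characters of `G` of degree `[G:T] e θ(1)` with `e² |C| |H| = |T|`.
-/

set_option autoImplicit false
open scoped ComplexConjugate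

namespace Cfsg.Agent.Lib.Helper75_AbelianInertia2

open Cfsg.Agent.Lib.Helper3_CharBridge Cfsg.Agent.Lib.Helper3_CharOrtho
  Cfsg.Agent.Lib.Helper3_CharComplete Cfsg.Agent.Lib.Helper75_CharArith
  Cfsg.Agent.Lib.Helper75_Induced Cfsg.Agent.Lib.Helper75_IndChar
  Cfsg.Agent.Lib.Helper75_Clifford Cfsg.Agent.Lib.Helper75_CharProd
  Cfsg.Agent.Lib.Helper75_LinChar Cfsg.Agent.Lib.Helper75_AbelianInertia

variable {G : Type*} [Group G]

theorem indFun_one_index [Fintype G] (H : Subgroup G) (θ : H → ℂ) :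
    Cfsg.indFun H θ 1 = (H.index : ℂ) * θ 1 := by
  rw [indFun_one]
  congr 1
  have hH : (Nat.card H : ℂ) ≠ 0 := by
    rw [Nat.cast_ne_zero]; exact Nat.card_pos.ne'
  rw [inv_mul_eq_iff_eq_mul₀ hH, ← Nat.cast_mul, Subgroup.card_mul_index]

theorem le_inertia (H T : Subgroup G) (hN : H.Normal) {θ : H → ℂ}
    (hθ : Cfsg.IsClassFunction H θ)
    (hT : ∀ g : G, g ∈ T ↔ conjFun H hN θ g = θ) : H ≤ T := by
  intro h hh
  rw [hT]
  exact conjFun_of_mem H hN hθ ⟨h, hh⟩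

theorem ind_decomp_of_abelian_inertia [Fintype G] (H T : Subgroup G) (hN : H.Normal)
    [Fintype (H.subgroupOf T)]
    {θ : H → ℂ} (hθ : Cfsg.IsIrrCharacter H θ)
    (hT : ∀ g : G, g ∈ T ↔ conjFun H hN θ g = θ)
    (hab : ∀ x ∈ T, ∀ y ∈ T, x * y * x⁻¹ * y⁻¹ ∈ H)
    (ψ₀ : T → ℂ) (hψ₀ : Cfsg.IsIrrCharacter T ψ₀) (e : ℕ) (he0 : e ≠ 0)
    (he : Cfsg.classInner (res (H.subgroupOf T) ψ₀) (resSubgroupOf H T θ) = e) :
    ∃ C : Finset (G → ℂ), (∀ χ ∈ C, Cfsg.IsIrrCharacter G χ) ∧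
      e ^ 2 * C.card * Nat.card H = Nat.card T ∧
      Cfsg.indFun H θ = (e : ℂ) • ∑ χ ∈ C, χ ∧
      ∀ χ ∈ C, χ 1 = (T.index : ℂ) * e * θ 1 := by
  classical
  have : Fintype H := Fintype.ofFinite H
  have : Fintype T := Fintype.ofFinite T
  have hHT : H ≤ T := le_inertia H T hN (isClassFunction_of_isIrrCharacter hθ) hT
  have hN' : (H.subgroupOf T).Normal := by
    have := hN
    infer_instance
  set θ' := resSubgroupOf H T θ with hθ'def
  have hθ' : Cfsg.IsIrrCharacter (H.subgroupOf T) θ' := isIrrCharacter_resSubgroupOf H T hHT hθ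
  have hinv' : ∀ t : T, conjFun (H.subgroupOf T) hN' θ' t = θ' :=
    conjFun_resSubgroupOf H T hN hN' θ hT
  have hab' : ∀ x y : T, x * y * x⁻¹ * y⁻¹ ∈ H.subgroupOf T := by
    intro x y
    rw [Subgroup.mem_subgroupOf]
    exact hab x x.2 y y.2
  obtain ⟨hP1, hP2⟩ := uniform_ramification (H.subgroupOf T) hN' hab' hθ' hinv' hψ₀ e he he0
  obtain ⟨m, hm, hdecomp⟩ := exists_mult_decomp H T hHT hθ
  set S : Finset (Cfsg.IrrCharacter T) := Finset.univ.filter (fun ψ : Cfsg.IrrCharacter T =>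
      Cfsg.classInner (Cfsg.indFun (H.subgroupOf T) θ') (ψ : T → ℂ) ≠ 0) with hS
  have hmS : ∀ ξ : Cfsg.IrrCharacter T, ξ ∈ S → m ξ = e := by
    intro ξ hξ
    rw [hS, Finset.mem_filter] at hξ
    have h1 := (hP1 ξ hξ.2).2
    rw [hm ξ] at h1
    exact_mod_cast h1
  have hmS' : ∀ ξ : Cfsg.IrrCharacter T, ξ ∉ S → m ξ = 0 := by
    intro ξ hξ
    rw [hS, Finset.mem_filter, not_and, not_not] at hξ
    have h1 := hξ (Finset.mem_univ _)
    rw [hm ξ] at h1
    exact_mod_cast h1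
  have hcore : ∀ ξ ∈ S, Cfsg.classInner (Cfsg.indFun T (ξ : T → ℂ)) (Cfsg.indFun T (ξ : T → ℂ)) = 1 ∧
      ∀ ψ' : Cfsg.IrrCharacter T, ψ' ≠ ξ → ψ' ∈ S →
      Cfsg.classInner (Cfsg.indFun T (ξ : T → ℂ)) (Cfsg.indFun T (ψ' : T → ℂ)) = 0 := by
    intro ξ hξ
    rw [hS, Finset.mem_filter] at hξ
    have := corr_core H T hN hHT hθ hT ξ hξ.2
    refine ⟨this.1, fun ψ' hne hψ' => ?_⟩
    rw [hS, Finset.mem_filter] at hψ'
    exact this.2 ψ' hne hψ'.2
  have hinj : Set.InjOn (fun ξ : Cfsg.IrrCharacter T => Cfsg.indFun T (ξ : T → ℂ)) S := by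
    intro ξ hξ ξ' hξ' heq
    by_contra hne
    have h1 := (hcore ξ hξ).2 ξ' (Ne.symm hne) hξ'
    have h2 := (hcore ξ hξ).1
    simp only at heq
    rw [← heq, h2] at h1
    exact one_ne_zero h1
  refine ⟨S.image (fun ξ : Cfsg.IrrCharacter T => Cfsg.indFun T (ξ : T → ℂ)), ?_, ?_, ?_, ?_⟩
  · intro χ hχ
    rw [Finset.mem_image] at hχ
    obtain ⟨ξ, hξ, rfl⟩ := hχ
    exact isIrrCharacter_of_classInner_self
      (isCharacter_indFun T (isCharacter_of_isIrrCharacter ξ.2)) (hcore ξ hξ).1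
  · rw [Finset.card_image_of_injOn hinj, hP2]
    have h1 : (H.subgroupOf T).index * Nat.card (H.subgroupOf T) = Nat.card T :=
      Subgroup.index_mul_card _
    have h2 : Nat.card (H.subgroupOf T) = Nat.card H :=
      Nat.card_congr (Subgroup.subgroupOfEquivOfLe hHT).toEquiv
    rw [← h2, h1]
  · rw [hdecomp, Finset.sum_image hinj, Finset.smul_sum]
    rw [← Finset.sum_subset (Finset.subset_univ S)]
    · refine Finset.sum_congr rfl (fun ξ hξ => ?_)
      rw [hmS ξ hξ]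
    · intro ξ _ hξ
      rw [hmS' ξ hξ, Nat.cast_zero, zero_smul]
  · intro χ hχ
    rw [Finset.mem_image] at hχ
    obtain ⟨ξ, hξ, rfl⟩ := hχ
    rw [hS, Finset.mem_filter] at hξ
    have h1 := (hP1 ξ hξ.2).1
    have h2 : (ξ : T → ℂ) 1 = (e : ℂ) * θ 1 := by
      have := congrFun h1 1
      rw [res_apply] at this
      rw [OneMemClass.coe_one] at this
      rw [this]
      rfl
    rw [indFun_one_index, h2, mul_assoc]

end Cfsg.Agent.Lib.Helper75_AbelianInertia2
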