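import Mathlib
import Cfsg.Prelude.Def_Blocks

set_option autoImplicit false

/-!
Shared helper library of seat helper16, part 3: for a representation of a finite group on a
coordinate space, the character at the inverse is the complex conjugate (Weyl's averaging trick,
in matrix form).
-/

namespace Cfsg.Agent.Lib.Helper16_Conj

open Cfsg Matrix
open scoped ComplexConjugate ComplexOrder

theorem char_eq_matrix_trace {G : Type*} [Group G] {n : ℕ} (ρ : Representation ℂ G (Fin n → ℂ))
    (x : G) : ρ.character x = Matrix.trace (LinearMap.toMatrix' (ρ x)) := by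
  unfold Representation.character
  rw [LinearMap.trace_eq_matrix_trace ℂ (Pi.basisFun ℂ (Fin n)) (ρ x),
    LinearMap.toMatrix_eq_toMatrix']

/-- the character value at the inverse is the conjugate -/
theorem char_inv {G : Type*} [Group G] [Finite G] {n : ℕ} (ρ : Representation ℂ G (Fin n → ℂ))
    (x : G) : ρ.character x⁻¹ = conj (ρ.character x) := by
  classical
  have := Fintype.ofFinite G
  set A : G → Matrix (Fin n) (Fin n) ℂ := fun g => LinearMap.toMatrix' (ρ g) with hA
  have hmul : ∀ g h : G, A (g * h) = A g * A h := by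
    intro g h
    simp only [hA]
    rw [map_mul, Module.End.mul_eq_comp, LinearMap.toMatrix'_comp]
  have hone : A 1 = 1 := by
    simp only [hA]
    rw [map_one, Module.End.one_eq_id, LinearMap.toMatrix'_id]
  set H : Matrix (Fin n) (Fin n) ℂ := ∑ g : G, (A g)ᴴ * A g with hH
  have hHsplit : H = 1 + ∑ g ∈ Finset.univ.erase (1 : G), (A g)ᴴ * A g := by
    rw [hH, ← Finset.add_sum_erase Finset.univ _ (Finset.mem_univ (1 : G)), hone]
    simp
  have hPD : H.PosDef := by
    rw [hHsplit]
    refine Matrix.PosDef.add_posSemidef Matrix.PosDef.one ?_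
    exact Matrix.posSemidef_sum _ (fun g _ => Matrix.posSemidef_conjTranspose_mul_self (A g))
  obtain ⟨u, hu⟩ := hPD.isUnit
  have hinv : (A x)ᴴ * H * A x = H := by
    rw [hH, Finset.mul_sum, Finset.sum_mul]
    rw [← Equiv.sum_comp (Equiv.mulRight x) (fun g => (A g)ᴴ * A g)]
    refine Finset.sum_congr rfl (fun g _ => ?_)
    simp only [Equiv.coe_mulRight]
    rw [hmul, Matrix.conjTranspose_mul]
    simp only [Matrix.mul_assoc]
  have hxx : A x * A x⁻¹ = 1 := by rw [← hmul, mul_inv_cancel, hone]
  have hcomm : (A x)ᴴ * H = H * A x⁻¹ := by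
    have : (A x)ᴴ * H * A x * A x⁻¹ = H * A x⁻¹ := by rw [hinv]
    rw [Matrix.mul_assoc, hxx, Matrix.mul_one] at this
    exact this
  rw [char_eq_matrix_trace, char_eq_matrix_trace]
  show Matrix.trace (A x⁻¹) = conj (Matrix.trace (A x))
  have h1 : Matrix.trace (A x⁻¹) = Matrix.trace ((u : Matrix (Fin n) (Fin n) ℂ) * A x⁻¹ *
      ((u⁻¹ : (Matrix (Fin n) (Fin n) ℂ)ˣ) : Matrix (Fin n) (Fin n) ℂ)) :=
    (Matrix.trace_units_conj u (A x⁻¹)).symm
  rw [h1, hu, ← hcomm, ← hu, Matrix.mul_assoc, Units.mul_inv, Matrix.mul_one,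
    Matrix.trace_conjTranspose]
  rfl

/-- same statement for any irreducible character -/
theorem irr_inv {G : Type*} [Group G] [Finite G] (χ : Cfsg.IrrCharacter G) (x : G) :
    (χ : G → ℂ) x⁻¹ = conj ((χ : G → ℂ) x) := by
  obtain ⟨χ, n, ρ, -, rfl⟩ := χ
  exact char_inv ρ x

end Cfsg.Agent.Lib.Helper16_Conj
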