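import Mathlib
import Cfsg.Prelude.Def_Blocks
import Cfsg.Agent.Lib.Helper16_Char
import Cfsg.Agent.Lib.Helper16_Conj

set_option autoImplicit false

/-!
Shared helper library of seat helper16, part 4: operators attached to conjugation-invariant sets,
restriction to a normal subgroup, and the central character of a character lying over a
character of a normal subgroup.
-/

namespace Cfsg.Agent.Lib.Helper16_Clifford

open Cfsg Cfsg.Agent.Lib.Helper16_Char Cfsg.Agent.Lib.Helper16_Conj
open scoped ComplexConjugate

section SetOp

variable {H : Type*} [Group H] [Fintype H] {W : Type*} [AddCommGroup W] [Module ℂ W]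
  (τ : Representation ℂ H W) (S : H → Prop) [DecidablePred S]

/-- the sum of the operators of the elements of a set -/
noncomputable def setOp : Module.End ℂ W :=
  ∑ k : H, if S k then τ k else 0

theorem setOp_comm (hS : ∀ x k : H, S k → S (x * k * x⁻¹)) (m : H) :
    setOp τ S ∘ₗ τ m = τ m ∘ₗ setOp τ S := by
  show setOp τ S * τ m = τ m * setOp τ S
  unfold setOp
  rw [Finset.sum_mul, Finset.mul_sum]
  have h1 : ∑ k : H, (if S k then τ k else 0) * τ m =
      ∑ k : H, if S (k * m⁻¹) then τ k else 0 := by
    rw [← Equiv.sum_comp (Equiv.mulRight m) (fun k => if S (k * m⁻¹) then τ k else 0)]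
    refine Finset.sum_congr rfl (fun k _ => ?_)
    simp only [Equiv.coe_mulRight, mul_inv_cancel_right]
    split_ifs
    · rw [map_mul]
    · rw [zero_mul]
  have h2 : ∑ k : H, τ m * (if S k then τ k else 0) =
      ∑ k : H, if S (m⁻¹ * k) then τ k else 0 := by
    rw [← Equiv.sum_comp (Equiv.mulLeft m) (fun k => if S (m⁻¹ * k) then τ k else 0)]
    refine Finset.sum_congr rfl (fun k _ => ?_)
    simp only [Equiv.coe_mulLeft, inv_mul_cancel_left]
    split_ifs
    · rw [map_mul]
    · rw [mul_zero]
  rw [h1, h2]
  refine Finset.sum_congr rfl (fun k _ => ?_)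
  have hiff : S (k * m⁻¹) ↔ S (m⁻¹ * k) := by
    constructor
    · intro h
      have := hS m⁻¹ _ h
      simpa [mul_assoc] using this
    · intro h
      have := hS m _ h
      simpa [mul_assoc] using this
  by_cases h : S (k * m⁻¹)
  · rw [if_pos h, if_pos (hiff.mp h)]
  · rw [if_neg h, if_neg (fun h' => h (hiff.mpr h'))]

theorem trace_setOp [FiniteDimensional ℂ W] :
    LinearMap.trace ℂ W (setOp τ S) = ∑ k : H, if S k then τ.character k else 0 := by
  unfold setOp
  rw [map_sum]
  refine Finset.sum_congr rfl (fun k _ => ?_)
  split_ifs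
  · rfl
  · rw [map_zero]

theorem setOp_eq_smul [FiniteDimensional ℂ W] [τ.IsIrreducible]
    (hS : ∀ x k : H, S k → S (x * k * x⁻¹)) :
    setOp τ S = ((∑ k : H, if S k then τ.character k else 0) / τ.character 1) •
      (1 : Module.End ℂ W) := by
  obtain ⟨c, hc⟩ := schur_scalar τ (setOp τ S) (setOp_comm τ S hS)
  have htr := trace_setOp τ S
  rw [hc, map_smul, LinearMap.trace_one, smul_eq_mul] at htr
  have hn : (Module.finrank ℂ W : ℂ) ≠ 0 := by
    rw [Nat.cast_ne_zero]; exact (finrank_pos_of_irreducible τ).ne'
  rw [hc]
  congr 1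
  rw [Representation.char_one, ← htr]
  field_simp

end SetOp

/-- a sum over `G` supported in a subgroup is a sum over the subgroup -/
theorem sum_subgroup_eq {G : Type*} [Group G] [Fintype G] (N : Subgroup G) [Fintype N]
    {A : Type*} [AddCommMonoid A] (P : G → Prop) [DecidablePred P] (hP : ∀ k, P k → k ∈ N)
    (F : G → A) :
    ∑ k : G, (if P k then F k else 0) = ∑ k : N, if P (k : G) then F (k : G) else 0 := by
  classical
  have hinj : Function.Injective (Subtype.val : N → G) := Subtype.val_injective
  rw [← Finset.sum_subset (Finset.subset_univ (Finset.univ.map ⟨Subtype.val, hinj⟩))]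
  · rw [Finset.sum_map]
    rfl
  · intro k _ hk
    have : k ∉ N := by
      intro hkN
      exact hk (Finset.mem_map.mpr ⟨⟨k, hkN⟩, Finset.mem_univ _, rfl⟩)
    rw [if_neg (fun h => this (hP k h))]

/-- `inducedCentralChar` as a finite sum -/
theorem inducedCentralChar_eq_sum {G : Type*} [Group G] (N : Subgroup G) [Fintype N]
    [DecidableEq G] [Fintype G] (θ : N → ℂ) (g : G) :
    Cfsg.inducedCentralChar N θ g = (∑ k : N, if IsConj g (k : G) then θ k else 0) / θ 1 := by
  unfold Cfsg.inducedCentralChar
  rw [finsum_mem_eq_sum_ite, Finset.sum_div]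
  refine Finset.sum_congr rfl (fun k _ => ?_)
  split_ifs <;> simp

section Over

variable {G : Type*} [Group G] [Fintype G] [DecidableEq G] (N : Subgroup G) [hN : N.Normal] [Fintype N]
  {V W : Type*} [AddCommGroup V] [Module ℂ V] [FiniteDimensional ℂ V]
  [AddCommGroup W] [Module ℂ W] [FiniteDimensional ℂ W]
  (ρ : Representation ℂ G V) (τ : Representation ℂ N W)

/-- If there is a nonzero intertwining map from the irreducible representation `τ` of the normal
subgroup `N` to the restriction of the irreducible representation `ρ` of `G`, the central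
character of `ρ` on `N` is the induced central character of `τ`. -/
theorem centralChar_eq_of_intertwining [ρ.IsIrreducible] [τ.IsIrreducible]
    (T : Representation.IntertwiningMap τ (ρ.comp N.subtype)) (hT : T ≠ 0) (n : N) :
    Cfsg.centralChar ρ.character (n : G) = Cfsg.inducedCentralChar N τ.character (n : G) := by
  have hcl := classOp_eq_smul ρ (n : G)
  have hS : ∀ x k : N, IsConj (n : G) (k : G) → IsConj (n : G) ((x * k * x⁻¹ : N) : G) := by
    intro x k hk
    exact hk.trans (isConj_iff.mpr ⟨(x : G), rfl⟩)
  have hset := setOp_eq_smul τ (fun k : N => IsConj (n : G) (k : G)) hS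
  -- a vector not killed by T
  obtain ⟨v, hv⟩ : ∃ v, T v ≠ 0 := by
    by_contra hcon
    push Not at hcon
    apply hT
    ext v
    exact hcon v
  have h1 : classOp ρ (n : G) (T v) = T (setOp τ (fun k : N => IsConj (n : G) (k : G)) v) := by
    unfold classOp setOp
    rw [sum_subgroup_eq N (fun k => IsConj (n : G) k) ?_ (fun k => ρ k)]
    · rw [LinearMap.sum_apply, LinearMap.sum_apply, map_sum]
      refine Finset.sum_congr rfl (fun k _ => ?_)
      split_ifs
      · exact (Representation.IntertwiningMap.isIntertwining _ _ T k v).symm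
      · simp
    · intro k hk
      obtain ⟨c, hc⟩ := isConj_iff.mp hk
      rw [← hc]
      exact hN.conj_mem _ n.2 c
  rw [hcl, hset] at h1
  simp only [LinearMap.smul_apply, Module.End.one_apply, map_smul] at h1
  have h2 : (Cfsg.centralChar ρ.character (n : G) -
      (∑ k : N, if IsConj (n : G) (k : G) then τ.character k else 0) / τ.character 1) • T v = 0 := by
    rw [sub_smul, h1, sub_self]
  rcases smul_eq_zero.mp h2 with h | h
  · rw [inducedCentralChar_eq_sum]
    exact sub_eq_zero.mp h
  · exact absurd h hv

/-- If the inner product of the restriction of `ρ.character` with `τ.character` is not zero,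
the central character of `ρ` on `N` is the induced central character of `τ`. -/
theorem centralChar_eq_of_classInner_ne_zero {a b : ℕ}
    (ρ : Representation ℂ G (Fin a → ℂ)) (τ : Representation ℂ N (Fin b → ℂ))
    [ρ.IsIrreducible] [τ.IsIrreducible]
    (h : Cfsg.classInner (fun n : N => ρ.character (n : G)) τ.character ≠ 0) (n : N) :
    Cfsg.centralChar ρ.character (n : G) = Cfsg.inducedCentralChar N τ.character (n : G) := by
  have hNne : (Nat.card N : ℂ) ≠ 0 := by
    rw [Nat.cast_ne_zero]; exact Nat.card_pos.ne'
  have : Invertible (Nat.card N : ℂ) := invertibleOfNonzero hNne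
  have hfin := Representation.card_inv_mul_sum_char_mul_char_eq_finrank τ (ρ.comp N.subtype)
  have heq : Cfsg.classInner (fun n : N => ρ.character (n : G)) τ.character =
      (Module.finrank ℂ (Representation.IntertwiningMap τ (ρ.comp N.subtype)) : ℂ) := by
    rw [← hfin]
    unfold Cfsg.classInner
    congr 1
    refine Finset.sum_congr rfl (fun m _ => ?_)
    rw [char_inv τ m]
    rfl
  rw [heq, Nat.cast_ne_zero] at h
  have hpos : 0 < Module.finrank ℂ (Representation.IntertwiningMap τ (ρ.comp N.subtype)) :=
    Nat.pos_of_ne_zero h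
  rw [Module.finrank_pos_iff] at hpos
  obtain ⟨T, hT⟩ := exists_ne (0 : Representation.IntertwiningMap τ (ρ.comp N.subtype))
  exact centralChar_eq_of_intertwining N ρ τ T hT n

end Over

end Cfsg.Agent.Lib.Helper16_Clifford
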