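import Mathlib
import Cfsg.Prelude.Def_Blocks
import Cfsg.Agent.Lib.Helper16_Char
import Cfsg.Agent.Lib.Helper16_Clifford

set_option autoImplicit false

/-!
Shared helper library of seat helper16, part 5: conjugates of functions on a normal subgroup,
orbit sums, extension by zero, and evaluation of central characters on invariant functions
supported on a normal subgroup.
-/

namespace Cfsg.Agent.Lib.Helper16_Orbit

open Cfsg Cfsg.Agent.Lib.Helper16_Char Cfsg.Agent.Lib.Helper16_Clifford
open scoped ComplexConjugate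

section SurjComp

variable {H H' : Type*} [Group H] [Group H'] {W : Type*} [AddCommGroup W] [Module ℂ W]
  (τ : Representation ℂ H W) (f : H' →* H) (hf : Function.Surjective f)

/-- subrepresentations of a composite with a surjective homomorphism -/
def subrepEquivComp : Subrepresentation (τ.comp f) ≃o Subrepresentation τ where
  toFun U := ⟨U.toSubmodule, fun g v hv => by
    obtain ⟨g', rfl⟩ := hf g
    exact U.apply_mem_toSubmodule g' hv⟩
  invFun U := ⟨U.toSubmodule, fun g' v hv => U.apply_mem_toSubmodule (f g') hv⟩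
  left_inv _ := rfl
  right_inv _ := rfl
  map_rel_iff' := Iff.rfl

include hf in
theorem irreducible_comp [τ.IsIrreducible] : Representation.IsIrreducible (τ.comp f) :=
  (subrepEquivComp τ f hf).isSimpleOrder_iff.mpr inferInstance

theorem character_comp [FiniteDimensional ℂ W] (g : H') :
    Representation.character (τ.comp f) g = τ.character (f g) := rfl

end SurjComp

section Conj

variable {G : Type*} [Group G] (N : Subgroup G) [hN : N.Normal]

/-- the conjugate `n ↦ φ (x⁻¹ n x)` of a function on the normal subgroup `N` -/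
def cj (x : G) (φ : N → ℂ) : N → ℂ := fun n => φ ((MulAut.conjNormal x⁻¹ : MulAut N) n)

theorem cj_one (φ : N → ℂ) : cj N 1 φ = φ := by
  funext n
  simp [cj]

theorem cj_mul (x y : G) (φ : N → ℂ) : cj N (x * y) φ = cj N x (cj N y φ) := by
  funext n
  simp only [cj, mul_inv_rev, map_mul, MulAut.mul_apply]

theorem cj_inv_cj (x : G) (φ : N → ℂ) : cj N x⁻¹ (cj N x φ) = φ := by
  rw [← cj_mul, inv_mul_cancel, cj_one]

theorem cj_cj_inv (x : G) (φ : N → ℂ) : cj N x (cj N x⁻¹ φ) = φ := by
  rw [← cj_mul, mul_inv_cancel, cj_one]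

theorem cj_sum {ι : Type*} (s : Finset ι) (x : G) (φ : ι → N → ℂ) :
    cj N x (∑ i ∈ s, φ i) = ∑ i ∈ s, cj N x (φ i) := by
  funext n
  simp only [cj, Finset.sum_apply]

theorem cj_irr (x : G) {φ : N → ℂ} (h : Cfsg.IsIrrCharacter N φ) :
    Cfsg.IsIrrCharacter N (cj N x φ) := by
  obtain ⟨n, τ, hτ, rfl⟩ := h
  have : τ.IsIrreducible := hτ
  refine ⟨n, τ.comp (MulAut.conjNormal x⁻¹ : MulAut N).toMonoidHom,
    irreducible_comp τ _ (MulAut.conjNormal x⁻¹ : MulAut N).surjective, ?_⟩
  rfl

/-- value of a conjugate at a point -/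
theorem cj_apply_coe (x : G) (φ : N → ℂ) (n : N) (h : x⁻¹ * (n : G) * x ∈ N) :
    cj N x φ n = φ ⟨x⁻¹ * (n : G) * x, h⟩ := by
  unfold cj
  congr 1
  apply Subtype.ext
  rw [MulAut.conjNormal_apply]
  simp

/-- a `G`-invariant function takes the same value at `G`-conjugate points -/
theorem eq_of_isConj_of_invariant (F : N → ℂ) (hF : ∀ x : G, cj N x F = F) (m n : N)
    (hmn : IsConj (m : G) (n : G)) : F m = F n := by
  obtain ⟨x, hx⟩ := isConj_iff.mp hmn
  have h1 := congrFun (hF x) n
  rw [← h1]
  unfold cj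
  congr 1
  apply Subtype.ext
  rw [MulAut.conjNormal_apply, ← hx]
  group

variable [Fintype G]

open Classical in
/-- the finite set of `G`-conjugates of a function on `N` -/
noncomputable def orbitFinset (θ : N → ℂ) : Finset (N → ℂ) :=
  Finset.univ.image (fun x : G => cj N x θ)

theorem mem_orbitFinset {θ φ : N → ℂ} : φ ∈ orbitFinset N θ ↔ ∃ x : G, cj N x θ = φ := by
  classical
  simp [orbitFinset]

theorem self_mem_orbitFinset (θ : N → ℂ) : θ ∈ orbitFinset N θ :=
  (mem_orbitFinset N).mpr ⟨1, cj_one N θ⟩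

/-- the sum of the distinct `G`-conjugates -/
noncomputable def orbitSum (θ : N → ℂ) : N → ℂ := ∑ φ ∈ orbitFinset N θ, φ

theorem cj_orbitSum (x : G) (θ : N → ℂ) : cj N x (orbitSum N θ) = orbitSum N θ := by
  unfold orbitSum
  rw [cj_sum]
  refine Finset.sum_nbij' (fun φ => cj N x φ) (fun φ => cj N x⁻¹ φ) ?_ ?_ ?_ ?_ ?_
  · intro φ hφ
    obtain ⟨y, rfl⟩ := (mem_orbitFinset N).mp hφ
    exact (mem_orbitFinset N).mpr ⟨x * y, cj_mul N x y θ⟩
  · intro φ hφ
    obtain ⟨y, rfl⟩ := (mem_orbitFinset N).mp hφ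
    exact (mem_orbitFinset N).mpr ⟨x⁻¹ * y, cj_mul N x⁻¹ y θ⟩
  · intro φ _
    exact cj_inv_cj N x φ
  · intro φ _
    exact cj_cj_inv N x φ
  · intro φ _
    rfl

theorem irr_of_mem_orbitFinset {θ φ : N → ℂ} (hθ : Cfsg.IsIrrCharacter N θ)
    (hφ : φ ∈ orbitFinset N θ) : Cfsg.IsIrrCharacter N φ := by
  obtain ⟨x, rfl⟩ := (mem_orbitFinset N).mp hφ
  exact cj_irr N x hθ

end Conj

section Ext

variable {G : Type*} [Group G] (N : Subgroup G)

open Classical in
/-- extension by zero -/
noncomputable def extZero (F : N → ℂ) : G → ℂ := fun g => if h : g ∈ N then F ⟨g, h⟩ else 0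

theorem extZero_mem (F : N → ℂ) (n : N) : extZero N F (n : G) = F n := by
  unfold extZero
  rw [dif_pos n.2]

theorem extZero_not_mem (F : N → ℂ) {g : G} (hg : g ∉ N) : extZero N F g = 0 := by
  unfold extZero
  rw [dif_neg hg]

variable [hN : N.Normal]

theorem extZero_isClassFunction (F : N → ℂ) (hF : ∀ x : G, cj N x F = F) :
    Cfsg.IsClassFunction G (extZero N F) := by
  intro g h
  by_cases hg : g ∈ N
  · have hg' : h * g * h⁻¹ ∈ N := hN.conj_mem g hg h
    have e1 : extZero N F (h * g * h⁻¹) = F ⟨h * g * h⁻¹, hg'⟩ := extZero_mem N F ⟨_, hg'⟩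
    have e2 : extZero N F g = F ⟨g, hg⟩ := extZero_mem N F ⟨g, hg⟩
    rw [e1, e2]
    apply eq_of_isConj_of_invariant N F hF
    exact (isConj_iff.mpr ⟨h, rfl⟩).symm
  · have hg' : h * g * h⁻¹ ∉ N := by
      intro hc
      apply hg
      have := hN.conj_mem _ hc h⁻¹
      simpa [mul_assoc] using this
    rw [extZero_not_mem N F hg, extZero_not_mem N F hg']

omit hN in
theorem sum_extZero_mul [Fintype G] [Fintype N] (F : N → ℂ) (χ : G → ℂ) :
    ∑ g : G, extZero N F g * χ g = ∑ n : N, F n * χ (n : G) := by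
  classical
  have h := sum_subgroup_eq N (fun k : G => k ∈ N) (fun k hk => hk)
    (fun g => extZero N F g * χ g)
  have h1 : ∑ g : G, extZero N F g * χ g =
      ∑ g : G, if g ∈ N then extZero N F g * χ g else 0 := by
    refine Finset.sum_congr rfl (fun g _ => ?_)
    split_ifs with hg
    · rfl
    · rw [extZero_not_mem N F hg, zero_mul]
  rw [h1, h]
  refine Finset.sum_congr rfl (fun n _ => ?_)
  rw [if_pos n.2, extZero_mem]

end Ext

section Count

variable {G : Type*} [Group G]

theorem index_centralizer_of_isConj {a b : G} (hab : IsConj a b) :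
    (Subgroup.centralizer ({a} : Set G)).index = (Subgroup.centralizer ({b} : Set G)).index := by
  obtain ⟨x, hx⟩ := isConj_iff.mp hab
  have : Subgroup.centralizer ({b} : Set G) =
      (Subgroup.centralizer ({a} : Set G)).map (MulAut.conj x).toMonoidHom := by
    ext y
    simp only [Subgroup.mem_map, Subgroup.mem_centralizer_iff, Set.mem_singleton_iff, forall_eq,
      MulEquiv.coe_toMonoidHom, MulAut.conj_apply]
    constructor
    · intro hy
      refine ⟨x⁻¹ * y * x, ?_, by group⟩
      rw [← hx] at hy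
      have e1 : a * (x⁻¹ * y * x) = x⁻¹ * (x * a * x⁻¹ * y) * x := by group
      have e2 : x⁻¹ * y * x * a = x⁻¹ * (y * (x * a * x⁻¹)) * x := by group
      rw [e1, e2, hy]
    · rintro ⟨z, hz, rfl⟩
      rw [← hx]
      have e1 : x * a * x⁻¹ * (x * z * x⁻¹) = x * (a * z) * x⁻¹ := by group
      have e2 : x * z * x⁻¹ * (x * a * x⁻¹) = x * (z * a) * x⁻¹ := by group
      rw [e1, e2, hz]
  rw [this]
  exact (Subgroup.index_map_equiv _ (MulAut.conj x)).symm

variable [Fintype G] [DecidableEq G] (N : Subgroup G) [hN : N.Normal] [Fintype N]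

/-- the number of elements of `N` that are `G`-conjugate to `n ∈ N` -/
theorem count_conj_in_normal (n : N) :
    (∑ m : N, if IsConj (m : G) (n : G) then (1 : ℂ) else 0) =
      ((Subgroup.centralizer ({(n : G)} : Set G)).index : ℂ) := by
  have h1 := sum_subgroup_eq N (fun k : G => IsConj k (n : G)) (fun k hk => by
    obtain ⟨x, hx⟩ := isConj_iff.mp hk.symm
    rw [← hx]; exact hN.conj_mem _ n.2 x) (fun _ => (1 : ℂ))
  rw [← h1, ← card_conj_eq_index, Finset.sum_boole]
  congr 2
  ext k
  simp only [Finset.mem_filter, Finset.mem_univ, true_and]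
  exact ⟨fun h => h.symm, fun h => h.symm⟩

/-- If the central character of `χ` on `N` is the induced central character of `θ`, then `χ` and
`θ` give the same value on every `G`-invariant function on `N`. -/
theorem sum_mul_char_eq (χ : G → ℂ) (θ : N → ℂ)
    (h : ∀ n : N, Cfsg.centralChar χ (n : G) = Cfsg.inducedCentralChar N θ (n : G))
    (F : N → ℂ) (hF : ∀ x : G, cj N x F = F) :
    (∑ n : N, F n * χ (n : G)) / χ 1 = (∑ n : N, F n * θ n) / θ 1 := by
  set c : N → ℂ := fun n => ((Subgroup.centralizer ({(n : G)} : Set G)).index : ℂ) with hc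
  have hc0 : ∀ n, c n ≠ 0 := by
    intro n
    simp only [hc]
    rw [Nat.cast_ne_zero]; exact Subgroup.index_ne_zero_of_finite
  have hcconj : ∀ m n : N, IsConj (m : G) (n : G) → c m = c n := by
    intro m n hmn
    simp only [hc]
    rw [index_centralizer_of_isConj hmn]
  have hΦ : ∀ n : N, c n * χ (n : G) / χ 1 =
      (∑ k : N, if IsConj (n : G) (k : G) then θ k else 0) / θ 1 := by
    intro n
    have := h n
    rw [inducedCentralChar_eq_sum] at this
    exact this
  have h1 : ∀ n : N, F n * χ (n : G) / χ 1 =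
      (∑ k : N, if IsConj (n : G) (k : G) then (F k / c k) * θ k else 0) / θ 1 := by
    intro n
    have e1 : F n * χ (n : G) / χ 1 = (F n / c n) * (c n * χ (n : G) / χ 1) := by
      field_simp [hc0 n]
    rw [e1, hΦ n, ← mul_div_assoc, Finset.mul_sum]
    congr 1
    refine Finset.sum_congr rfl (fun k _ => ?_)
    split_ifs with hnk
    · rw [eq_of_isConj_of_invariant N F hF n k hnk, hcconj n k hnk]
    · rw [mul_zero]
  rw [Finset.sum_div, Finset.sum_congr rfl (fun n _ => h1 n), ← Finset.sum_div, Finset.sum_comm]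
  congr 1
  refine Finset.sum_congr rfl (fun k _ => ?_)
  have : ∀ n : N, (if IsConj (n : G) (k : G) then (F k / c k) * θ k else 0) =
      (if IsConj (n : G) (k : G) then (1 : ℂ) else 0) * ((F k / c k) * θ k) := by
    intro n; split_ifs <;> simp
  rw [Finset.sum_congr rfl (fun n _ => this n), ← Finset.sum_mul, count_conj_in_normal N k]
  have hck := hc0 k
  simp only [hc] at hck ⊢
  field_simp

end Count

end Cfsg.Agent.Lib.Helper16_Orbit
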