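import Mathlib
import Cfsg.Prelude.Def_Characters
import Cfsg.Agent.Lib.Helper3_CharOrtho
import Cfsg.Agent.Lib.Helper3_CharCenter
import Cfsg.Agent.Lib.Helper16_Orbit

/-!
# The stabilizer cover of an invariant irreducible representation (helper80)

Let `N ⊴ G` and let `Y` be an irreducible complex representation of `N` on `V` whose character is
`G`-invariant.  The group
`cover N Y k = {(g, A) ∈ G × GL(V) | A Y(n) A⁻¹ = Y(g n g⁻¹) for all n, (det A)^k = 1}`
is a finite central extension of `G` (for `k > 0`) in which (the copy of) `Y` extends to the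
representation `(g, A) ↦ A`.
-/

set_option autoImplicit false
set_option linter.unusedSectionVars false

namespace Cfsg.Agent.Lib.Helper80_StabCover

universe u

section irr

variable {H K : Type*} [Group H] [Group K] {V : Type*} [AddCommGroup V] [Module ℂ V]

/-- A representation whose pullback along a homomorphism is irreducible is irreducible. -/
theorem isIrreducible_of_comp (f : K →* H) (σ : Representation ℂ H V)
    (ρ : Representation ℂ K V) (h : ∀ n : K, σ (f n) = ρ n) [ρ.IsIrreducible] :
    σ.IsIrreducible := by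
  refine { exists_pair_ne := ⟨⊥, ⊤, ?_⟩, eq_bot_or_eq_top := ?_ }
  · intro hbt
    have h1 : (⊥ : Subrepresentation ρ) = ⊤ := by
      apply Subrepresentation.toSubmodule_injective
      have h2 := congrArg Subrepresentation.toSubmodule hbt
      exact h2
    exact bot_ne_top h1
  · intro a
    let b : Subrepresentation ρ := ⟨a.toSubmodule, fun n v hv => by
      rw [← h n]; exact a.apply_mem_toSubmodule (f n) hv⟩
    rcases eq_bot_or_eq_top b with hb | hb
    · left
      apply Subrepresentation.toSubmodule_injective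
      have h2 := congrArg Subrepresentation.toSubmodule hb
      exact h2
    · right
      apply Subrepresentation.toSubmodule_injective
      have h2 := congrArg Subrepresentation.toSubmodule hb
      exact h2

end irr

section cover

variable {G : Type u} [Group G] (N : Subgroup G) [hN : N.Normal]
  {V : Type*} [AddCommGroup V] [Module ℂ V] (Y : Representation ℂ N V) (k : ℕ)

/-- The stabilizer cover. -/
def cover : Subgroup (G × (Module.End ℂ V)ˣ) where
  carrier := {x | (∀ n : N, (x.2 : Module.End ℂ V) * Y n =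
      Y (MulAut.conjNormal x.1 n) * (x.2 : Module.End ℂ V)) ∧
    LinearMap.det (x.2 : Module.End ℂ V) ^ k = 1}
  mul_mem' := by
    rintro x y ⟨hx, hxd⟩ ⟨hy, hyd⟩
    refine ⟨fun n => ?_, ?_⟩
    · rw [Prod.snd_mul, Units.val_mul, Prod.fst_mul, mul_assoc, hy n, ← mul_assoc, hx, mul_assoc,
        map_mul, MulAut.mul_apply]
    · rw [Prod.snd_mul, Units.val_mul, map_mul, mul_pow, hxd, hyd, one_mul]
  one_mem' := by
    refine ⟨fun n => ?_, ?_⟩
    · rw [Prod.snd_one, Units.val_one, Prod.fst_one, map_one, MulAut.one_apply, one_mul, mul_one]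
    · rw [Prod.snd_one, Units.val_one, map_one, one_pow]
  inv_mem' := by
    rintro x ⟨hx, hxd⟩
    refine ⟨fun n => ?_, ?_⟩
    · have h1 := hx (MulAut.conjNormal x.1⁻¹ n)
      have h2 : MulAut.conjNormal x.1 (MulAut.conjNormal x.1⁻¹ n) = n := by
        rw [← MulAut.mul_apply, ← map_mul, mul_inv_cancel, map_one, MulAut.one_apply]
      rw [h2] at h1
      rw [Prod.snd_inv, Prod.fst_inv]
      have h3 : ((x.2⁻¹ : (Module.End ℂ V)ˣ) : Module.End ℂ V) * (x.2 : Module.End ℂ V) = 1 :=
        Units.inv_mul _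
      have h4 : (x.2 : Module.End ℂ V) * ((x.2⁻¹ : (Module.End ℂ V)ˣ) : Module.End ℂ V) = 1 :=
        Units.mul_inv _
      calc ((x.2⁻¹ : (Module.End ℂ V)ˣ) : Module.End ℂ V) * Y n
          = ((x.2⁻¹ : (Module.End ℂ V)ˣ) : Module.End ℂ V) * (Y n * (x.2 : Module.End ℂ V)) *
              ((x.2⁻¹ : (Module.End ℂ V)ˣ) : Module.End ℂ V) := by
            rw [mul_assoc, mul_assoc, h4, mul_one]
        _ = ((x.2⁻¹ : (Module.End ℂ V)ˣ) : Module.End ℂ V) *
              ((x.2 : Module.End ℂ V) * Y (MulAut.conjNormal x.1⁻¹ n)) *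
              ((x.2⁻¹ : (Module.End ℂ V)ˣ) : Module.End ℂ V) := by rw [h1]
        _ = Y (MulAut.conjNormal x.1⁻¹ n) * ((x.2⁻¹ : (Module.End ℂ V)ˣ) : Module.End ℂ V) := by
            rw [← mul_assoc, h3, one_mul]
    · rw [Prod.snd_inv]
      have h3 : LinearMap.det ((x.2⁻¹ : (Module.End ℂ V)ˣ) : Module.End ℂ V) *
          LinearMap.det (x.2 : Module.End ℂ V) = 1 := by
        rw [← map_mul, Units.inv_mul, map_one]
      have h4 := congrArg (fun t => t ^ k) h3
      simp only [mul_pow, hxd, mul_one, one_pow] at h4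
      exact h4

theorem mem_cover (x : G × (Module.End ℂ V)ˣ) : x ∈ cover N Y k ↔
    (∀ n : N, (x.2 : Module.End ℂ V) * Y n =
      Y (MulAut.conjNormal x.1 n) * (x.2 : Module.End ℂ V)) ∧
    LinearMap.det (x.2 : Module.End ℂ V) ^ k = 1 := Iff.rfl

/-- The projection of the cover to `G`. -/
def coverFst : cover N Y k →* G := (MonoidHom.fst G _).comp (cover N Y k).subtype

/-- The tautological representation of the cover. -/
def coverRep : Representation ℂ (cover N Y k) V :=
  (Units.coeHom (Module.End ℂ V)).comp ((MonoidHom.snd G _).comp (cover N Y k).subtype)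

theorem coverFst_apply (x : cover N Y k) : coverFst N Y k x = x.1.1 := rfl

theorem coverRep_apply (x : cover N Y k) : coverRep N Y k x = (x.1.2 : Module.End ℂ V) := rfl

/-- The copy of `N` inside the cover (needs `det (Y n) ^ k = 1`). -/
def coverIncl (hk : ∀ n : N, LinearMap.det (Y n) ^ k = 1) : N →* cover N Y k where
  toFun n := ⟨((n : G), MonoidHom.toHomUnits Y n), by
    refine ⟨fun m => ?_, ?_⟩
    · show Y n * Y m = Y (MulAut.conjNormal (n : G) m) * Y n
      rw [← map_mul, ← map_mul]
      congr 1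
      apply Subtype.ext
      rw [Subgroup.coe_mul, Subgroup.coe_mul, MulAut.conjNormal_apply]
      group
    · exact hk n⟩
  map_one' := by
    apply Subtype.ext
    apply Prod.ext
    · rfl
    · show MonoidHom.toHomUnits Y 1 = 1
      rw [map_one]
  map_mul' a b := by
    apply Subtype.ext
    apply Prod.ext
    · rfl
    · show MonoidHom.toHomUnits Y (a * b) = MonoidHom.toHomUnits Y a * MonoidHom.toHomUnits Y b
      rw [map_mul]

theorem coverFst_coverIncl (hk : ∀ n : N, LinearMap.det (Y n) ^ k = 1) (n : N) :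
    coverFst N Y k (coverIncl N Y k hk n) = (n : G) := rfl

theorem coverRep_coverIncl (hk : ∀ n : N, LinearMap.det (Y n) ^ k = 1) (n : N) :
    coverRep N Y k (coverIncl N Y k hk n) = Y n := rfl

theorem coverIncl_injective (hk : ∀ n : N, LinearMap.det (Y n) ^ k = 1) :
    Function.Injective (coverIncl N Y k hk) := by
  intro a b hab
  have h := congrArg (coverFst N Y k) hab
  rw [coverFst_coverIncl, coverFst_coverIncl] at h
  exact Subtype.ext h

/-- conjugation in the cover -/
theorem conj_coverIncl (hk : ∀ n : N, LinearMap.det (Y n) ^ k = 1) (x : cover N Y k) (n : N) :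
    x * coverIncl N Y k hk n * x⁻¹ =
      coverIncl N Y k hk (MulAut.conjNormal (coverFst N Y k x) n) := by
  apply Subtype.ext
  apply Prod.ext
  · show x.1.1 * (n : G) * x.1.1⁻¹ = ((MulAut.conjNormal (coverFst N Y k x) n : N) : G)
    rw [MulAut.conjNormal_apply]
    rfl
  · apply Units.ext
    show (x.1.2 : Module.End ℂ V) * Y n * ((x.1.2⁻¹ : (Module.End ℂ V)ˣ) : Module.End ℂ V) =
      Y (MulAut.conjNormal x.1.1 n)
    rw [x.2.1 n, mul_assoc, Units.mul_inv, mul_one]

theorem det_pow_card_eq_one [Finite N] (n : N) : LinearMap.det (Y n) ^ Nat.card N = 1 := by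
  rw [← map_pow, ← map_pow, pow_card_eq_one', map_one, map_one]

section schur

variable [FiniteDimensional ℂ V] [hY : Y.IsIrreducible]

/-- Schur's lemma: an endomorphism commuting with an irreducible representation is a scalar. -/
theorem exists_scalar_of_commute (A : Module.End ℂ V) (hA : ∀ n : N, A * Y n = Y n * A) :
    ∃ c : ℂ, A = c • (1 : Module.End ℂ V) := by
  let f : Representation.IntertwiningMap Y Y := ⟨A, fun n => hA n⟩
  obtain ⟨c, hc⟩ :=
    (Representation.IsIrreducible.algebraMap_intertwiningMap_bijective_of_isAlgClosed (ρ := Y)).2 f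
  refine ⟨c, ?_⟩
  have h1 := congrArg Representation.IntertwiningMap.toLinearMap hc
  rw [Representation.IntertwiningMap.algebraMap_apply,
    Representation.IntertwiningMap.toLinearMap_smul] at h1
  exact h1.symm

include hY in
theorem finrank_pos_of_irr : 0 < Module.finrank ℂ V := by
  have hnt : Nontrivial V := by
    by_contra hnt
    rw [not_nontrivial_iff_subsingleton] at hnt
    have : (⊥ : Subrepresentation Y) ≠ ⊤ := bot_ne_top
    apply this
    apply Subrepresentation.toSubmodule_injective
    exact Subsingleton.elim _ _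
  exact Module.finrank_pos

/-- elements of the kernel of the projection are scalars -/
theorem exists_scalar_of_mem_ker (x : cover N Y k) (hx : x ∈ (coverFst N Y k).ker) :
    ∃ c : ℂ, (x.1.2 : Module.End ℂ V) = c • (1 : Module.End ℂ V) ∧
      c ^ (Module.finrank ℂ V * k) = 1 := by
  have h1 : x.1.1 = 1 := hx
  have h2 : ∀ n : N, (x.1.2 : Module.End ℂ V) * Y n = Y n * (x.1.2 : Module.End ℂ V) := by
    intro n
    have := x.2.1 n
    rw [h1, map_one, MulAut.one_apply] at this
    exact this
  obtain ⟨c, hc⟩ := exists_scalar_of_commute N Y _ h2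
  refine ⟨c, hc, ?_⟩
  have h3 := x.2.2
  rw [hc, LinearMap.det_smul, map_one, mul_one, ← pow_mul] at h3
  exact h3

theorem ker_le_center : (coverFst N Y k).ker ≤ Subgroup.center (cover N Y k) := by
  intro x hx
  obtain ⟨c, hc, -⟩ := exists_scalar_of_mem_ker N Y k x hx
  have h1 : x.1.1 = 1 := hx
  rw [Subgroup.mem_center_iff]
  intro y
  apply Subtype.ext
  apply Prod.ext
  · show y.1.1 * x.1.1 = x.1.1 * y.1.1
    rw [h1, one_mul, mul_one]
  · apply Units.ext
    show (y.1.2 : Module.End ℂ V) * (x.1.2 : Module.End ℂ V) =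
      (x.1.2 : Module.End ℂ V) * (y.1.2 : Module.End ℂ V)
    rw [hc, mul_smul_comm, smul_mul_assoc, mul_one, one_mul]

theorem finite_ker (hk : 0 < k) : Finite (coverFst N Y k).ker := by
  classical
  set m := Module.finrank ℂ V * k with hm
  have hmpos : 0 < m := Nat.mul_pos (finrank_pos_of_irr N Y) hk
  let S : Set (Module.End ℂ V) :=
    (fun c : ℂ => c • (1 : Module.End ℂ V)) '' {c : ℂ | c ^ m = 1}
  have hS : S.Finite := by
    apply Set.Finite.image
    apply (Polynomial.nthRootsFinset m (1 : ℂ)).finite_toSet.subset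
    intro c hc
    exact (Polynomial.mem_nthRootsFinset hmpos 1).mpr hc
  have : Finite S := hS
  let f : (coverFst N Y k).ker → S := fun x => ⟨(x.1.1.2 : Module.End ℂ V), by
    obtain ⟨c, hc, hcm⟩ := exists_scalar_of_mem_ker N Y k x.1 x.2
    exact ⟨c, hcm, hc.symm⟩⟩
  apply Finite.of_injective f
  intro x y hxy
  have h1 : (x.1.1.2 : Module.End ℂ V) = (y.1.1.2 : Module.End ℂ V) := congrArg Subtype.val hxy
  apply Subtype.ext
  apply Subtype.ext
  apply Prod.ext
  · have hx : x.1.1.1 = 1 := x.2
    have hy : y.1.1.1 = 1 := y.2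
    rw [hx, hy]
  · exact Units.ext h1

theorem finite_cover [Finite G] (hk : 0 < k) : Finite (cover N Y k) := by
  rw [(coverFst N Y k).finite_iff_finite_ker_range]
  exact ⟨finite_ker N Y k hk, inferInstance⟩

/-- If the character of `Y` is `G`-invariant, the projection of the cover is surjective. -/
theorem coverFst_surjective [Finite N] (hk : 0 < k)
    (hinv : ∀ (g : G) (n : N), Y.character (MulAut.conjNormal g n) = Y.character n) :
    Function.Surjective (coverFst N Y k) := by
  classical
  have : Fintype N := Fintype.ofFinite N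
  intro g
  -- the conjugate representation
  let Y' : Representation ℂ N V := MonoidHom.comp Y (MulAut.conjNormal g : N ≃* N).toMonoidHom
  have hY' : Y'.IsIrreducible := by
    have hsurj : Function.Surjective ((MulAut.conjNormal g : N ≃* N).toMonoidHom) :=
      (MulAut.conjNormal g : N ≃* N).surjective
    exact Cfsg.Agent.Lib.Helper16_Orbit.irreducible_comp Y _ hsurj
  have hchar : Y'.character = Y.character := by
    funext n
    exact hinv g n
  obtain ⟨e⟩ := Cfsg.Agent.Lib.Helper3_CharOrtho.nonempty_equiv_of_char_eq Y' Y hchar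
  -- the intertwiner as a unit
  let A₀ : (Module.End ℂ V)ˣ :=
    ⟨e.toLinearEquiv.toLinearMap, e.toLinearEquiv.symm.toLinearMap,
      by ext v; exact e.toLinearEquiv.apply_symm_apply v,
      by ext v; exact e.toLinearEquiv.symm_apply_apply v⟩
  have hA₀ : ∀ n : N, (A₀ : Module.End ℂ V) * Y n = Y (MulAut.conjNormal g n) * (A₀ : Module.End ℂ V) :=
    fun n => e.isIntertwining' n
  set D : ℂ := LinearMap.det (A₀ : Module.End ℂ V) with hD
  have hD0 : D ≠ 0 := by
    have h1 : IsUnit D := (A₀.isUnit).map LinearMap.det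
    exact h1.ne_zero
  set r := Module.finrank ℂ V with hr
  have hrk : 0 < r * k := Nat.mul_pos (finrank_pos_of_irr N Y) hk
  obtain ⟨c, hc⟩ := IsAlgClosed.exists_pow_nat_eq ((D ^ k)⁻¹) hrk
  have hc0 : c ≠ 0 := by
    intro h0
    rw [h0, zero_pow hrk.ne'] at hc
    exact inv_ne_zero (pow_ne_zero k hD0) hc.symm
  let z : (Module.End ℂ V)ˣ :=
    Units.map (algebraMap ℂ (Module.End ℂ V)).toMonoidHom (Units.mk0 c hc0)
  have hz : (z : Module.End ℂ V) = c • (1 : Module.End ℂ V) := by
    show algebraMap ℂ (Module.End ℂ V) c = _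
    rw [Algebra.algebraMap_eq_smul_one]
  refine ⟨⟨(g, z * A₀), ?_, ?_⟩, rfl⟩
  · intro n
    show ((z * A₀ : (Module.End ℂ V)ˣ) : Module.End ℂ V) * Y n =
      Y (MulAut.conjNormal g n) * ((z * A₀ : (Module.End ℂ V)ˣ) : Module.End ℂ V)
    rw [Units.val_mul, hz, smul_mul_assoc, one_mul, smul_mul_assoc, hA₀ n, mul_smul_comm]
  · show LinearMap.det ((z * A₀ : (Module.End ℂ V)ˣ) : Module.End ℂ V) ^ k = 1
    rw [Units.val_mul, hz, smul_mul_assoc, one_mul, LinearMap.det_smul, mul_pow, ← pow_mul, hc,
      ← hD]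
    exact inv_mul_cancel₀ (pow_ne_zero k hD0)

end schur

end cover

end Cfsg.Agent.Lib.Helper80_StabCover
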