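import Mathlib
import Cfsg.Prelude.Def_Characters
import Cfsg.Agent.Lib.Helper80_StabCover
import Cfsg.Agent.Lib.Helper80_CharBasic
import Cfsg.Agent.Lib.Helper75_CharProd
import Cfsg.Agent.Lib.Helper75_Clifford
import Cfsg.Agent.Lib.Helper75_AbelianInertia2
import Cfsg.Agent.Lib.Helper39_CharTools
import Cfsg.Agent.Lib.Helper3_CharCenter
import Cfsg.Agent.S0856

/-!
# Relative degrees divide the index (helper80)

If `ϑ` is an irreducible constituent of the restriction of `χ ∈ Irr(G)` to `N ⊴ G`, then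
`χ(1)/ϑ(1)` divides `|G : N|`.  The invariant case uses the stabilizer cover, Gallagher's
correspondence (S0856) and the fact that the degree divides the index of a subgroup acting by
scalars; the general case is reduced to it by the Clifford correspondence.
-/

set_option autoImplicit false
set_option linter.unusedSectionVars false

namespace Cfsg.Agent.Lib.Helper80_RelDegree

open scoped ComplexConjugate
open Cfsg.Agent.Lib.Helper80_StabCover
open Cfsg.Agent.Lib.Helper3_CharBridge Cfsg.Agent.Lib.Helper3_CharOrtho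
  Cfsg.Agent.Lib.Helper75_Induced Cfsg.Agent.Lib.Helper75_Clifford

universe u

/-- The invariant case. -/
theorem invariant_case {G : Type u} [Group G] [Fintype G] (N : Subgroup G) [hN : N.Normal]
    [Fintype N] (χ : G → ℂ) (hχ : Cfsg.IsIrrCharacter G χ) (ϑ : N → ℂ)
    (hϑ : Cfsg.IsIrrCharacter N ϑ)
    (hinv : ∀ (g : G) (n : N), ϑ ⟨g * n * g⁻¹, hN.conj_mem (n : G) n.2 g⟩ = ϑ n)
    (hcon : Cfsg.classInner (fun n : N => χ n) ϑ ≠ 0) (c d : ℕ) (hc : χ 1 = c) (hd : ϑ 1 = d) :
    ∃ e : ℕ, c = e * d ∧ e ∣ N.index := by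
  classical
  obtain ⟨d', Y, hYirr, hYchar⟩ := hϑ
  have hdd : d' = d := by
    have h1 : ϑ 1 = (d' : ℂ) := by
      rw [← hYchar, Representation.char_one, Module.finrank_fin_fun]
    rw [hd] at h1
    exact_mod_cast h1.symm
  subst hdd
  set k := Nat.card N with hk
  have hkpos : 0 < k := Nat.card_pos
  have hinv' : ∀ (g : G) (n : N), Y.character (MulAut.conjNormal g n) = Y.character n := by
    intro g n
    rw [hYchar]
    have h1 : (MulAut.conjNormal g n : N) = ⟨g * n * g⁻¹, hN.conj_mem (n : G) n.2 g⟩ := by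
      apply Subtype.ext
      rw [MulAut.conjNormal_apply]
    rw [h1]
    exact hinv g n
  have hfin : Finite (cover N Y k) := finite_cover N Y k hkpos
  have : Fintype (cover N Y k) := Fintype.ofFinite _
  have hsurj : Function.Surjective (coverFst N Y k) := coverFst_surjective N Y k hkpos hinv'
  have hdet : ∀ n : N, LinearMap.det (Y n) ^ k = 1 := fun n => det_pow_card_eq_one N Y n
  set ι := coverIncl N Y k hdet with hι
  set N₀ : Subgroup (cover N Y k) := ι.range with hN₀
  have hN₀normal : N₀.Normal := by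
    constructor
    rintro _ ⟨m, rfl⟩ g
    exact ⟨MulAut.conjNormal (coverFst N Y k g) m, (conj_coverIncl N Y k hdet g m).symm⟩
  have : Fintype N₀ := Fintype.ofFinite _
  set τ := coverRep N Y k with hτ
  have hτirr : τ.IsIrreducible :=
    isIrreducible_of_comp ι τ Y (fun n => coverRep_coverIncl N Y k hdet n)
  have hτchar : Cfsg.IsIrrCharacter (cover N Y k) τ.character := ⟨d', τ, hτirr, rfl⟩
  -- the inflated character
  set χh : cover N Y k → ℂ := fun x => χ (coverFst N Y k x) with hχh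
  have hχh_irr : Cfsg.IsIrrCharacter (cover N Y k) χh := by
    obtain ⟨n, ρ, hρ, hρc⟩ := hχ
    refine ⟨n, MonoidHom.comp ρ (coverFst N Y k),
      Cfsg.Agent.Lib.Helper16_Orbit.irreducible_comp ρ _ hsurj, ?_⟩
    funext x
    rw [hχh, ← hρc]
    rfl
  -- the restriction of τ to N₀
  set ϑ₀ : N₀ → ℂ := fun m => τ.character (m : cover N Y k) with hϑ₀
  have hϑ₀irr : Cfsg.IsIrrCharacter N₀ ϑ₀ := by
    refine ⟨d', MonoidHom.comp τ N₀.subtype, ?_, rfl⟩
    exact isIrreducible_of_comp ι.rangeRestrict (MonoidHom.comp τ N₀.subtype) Y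
      (fun n => coverRep_coverIncl N Y k hdet n)
  set φ : N₀ → ℂ := fun _ => (1 : ℂ) with hφ
  have hφirr : Cfsg.IsIrrCharacter N₀ φ := Cfsg.Agent.Lib.Helper80_CharBasic.isIrrCharacter_one N₀
  have hφϑ : φ * ϑ₀ = ϑ₀ := by
    funext m
    show (1 : ℂ) * ϑ₀ m = ϑ₀ m
    rw [one_mul]
  have hτcf : Cfsg.IsClassFunction (cover N Y k) τ.character :=
    isClassFunction_of_isIrrCharacter hτchar
  have hbij := Cfsg.Agent.S0856.result N₀ φ ϑ₀ hφirr hϑ₀irr (fun _ _ => rfl)
    (fun g n => hτcf (n : cover N Y k) g) (by rw [hφϑ]; exact hϑ₀irr) τ.character hτchar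
    (fun n => rfl)
  -- χh lies over ϑ₀
  have hχhcf : Cfsg.IsClassFunction (cover N Y k) χh := isClassFunction_of_isIrrCharacter hχh_irr
  have hover : Cfsg.classInner (Cfsg.indFun N₀ (φ * ϑ₀)) χh ≠ 0 := by
    rw [hφϑ, frobenius_reciprocity N₀ ϑ₀ χh hχhcf]
    let e : N ≃* N₀ := MonoidHom.ofInjective (coverIncl_injective N Y k hdet)
    have h1 := classInner_comp_equiv e ϑ₀ (fun h : N₀ => χh h)
    rw [← h1]
    have h2 : (fun n : N => ϑ₀ (e n)) = ϑ := by
      funext n
      rw [← hYchar]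
      rfl
    have h3 : (fun n : N => (fun h : N₀ => χh h) (e n)) = fun n : N => χ n := by
      funext n
      rfl
    rw [h2, h3, ← classInner_conj_symm]
    exact (map_ne_zero _).mpr hcon
  obtain ⟨β, ⟨hβirr, hβN₀⟩, hβmul⟩ := hbij.surjOn ⟨hχh_irr, hover⟩
  have hβmul' : β * τ.character = χh := hβmul
  have hβcf : Cfsg.IsClassFunction (cover N Y k) β := isClassFunction_of_isIrrCharacter hβirr
  obtain ⟨e, ρβ, hρβirr, hρβchar⟩ := hβirr
  -- N₀ acts trivially in ρβ
  have hsum : ∑ m : N₀, ρβ.character m ≠ 0 := by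
    rw [frobenius_reciprocity N₀ φ β hβcf] at hβN₀
    intro h0
    apply hβN₀
    unfold Cfsg.classInner
    have h4 : ∑ m : N₀, φ m * conj ((fun h : N₀ => β h) m) = conj (∑ m : N₀, ρβ.character m) := by
      rw [map_sum]
      refine Finset.sum_congr rfl (fun m _ => ?_)
      show (1 : ℂ) * conj (β m) = _
      rw [one_mul, hρβchar]
    rw [h4, h0, map_zero, mul_zero]
  have hid : ∀ m : N₀, ρβ m = LinearMap.id :=
    Cfsg.Agent.Lib.Helper39_CharTools.rho_eq_id_of_sum_ne_zero ρβ N₀ hsum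
  -- the preimage of N acts by scalars
  set M : Subgroup (cover N Y k) := N.comap (coverFst N Y k) with hM
  have hMindex : M.index = N.index := Subgroup.index_comap_of_surjective N hsurj
  have hscal : ∀ z ∈ M, ∃ a : ℂ, ρβ z = a • (LinearMap.id : (Fin e → ℂ) →ₗ[ℂ] (Fin e → ℂ)) := by
    intro z hz
    have hzN : coverFst N Y k z ∈ N := hz
    set n : N := ⟨coverFst N Y k z, hzN⟩ with hn
    set w := z * (ι n)⁻¹ with hw
    have hwker : w ∈ (coverFst N Y k).ker := by
      rw [MonoidHom.mem_ker, hw, map_mul, map_inv, hι, coverFst_coverIncl]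
      exact mul_inv_cancel _
    have hwc : w ∈ Subgroup.center (cover N Y k) := ker_le_center N Y k hwker
    obtain ⟨a, ha⟩ := Cfsg.Agent.Lib.Helper3_CharCenter.exists_scalar_of_mem_center ρβ hwc
    refine ⟨a, ?_⟩
    have hz2 : z = w * ι n := by rw [hw, inv_mul_cancel_right]
    have h5 : ρβ (ι n) = LinearMap.id := hid ⟨ι n, n, rfl⟩
    rw [hz2, map_mul, ha, h5]
    rfl
  have hdvd : Module.finrank ℂ (Fin e → ℂ) ∣ M.index :=
    Cfsg.Agent.Lib.Helper3_CharCenter.finrank_dvd_index_of_scalar ρβ M hscal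
  rw [Module.finrank_fin_fun, hMindex] at hdvd
  refine ⟨e, ?_, hdvd⟩
  have h6 := congrFun hβmul' 1
  have h7 : χh 1 = (c : ℂ) := by
    rw [hχh]
    show χ (coverFst N Y k 1) = _
    rw [map_one, hc]
  have h8 : β 1 = (e : ℂ) := by
    rw [← hρβchar, Representation.char_one, Module.finrank_fin_fun]
  have h9 : τ.character 1 = (d' : ℂ) := by
    rw [Representation.char_one, Module.finrank_fin_fun]
  rw [Pi.mul_apply, h7, h8, h9] at h6
  exact_mod_cast h6.symm

/-- The inertia group of a function on a normal subgroup. -/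
def inertia {G : Type u} [Group G] (N : Subgroup G) (hN : N.Normal) (ϑ : N → ℂ) : Subgroup G where
  carrier := {g | conjFun N hN ϑ g = ϑ}
  mul_mem' := by
    intro a b ha hb
    show conjFun N hN ϑ (a * b) = ϑ
    rw [← conjFun_conjFun, show conjFun N hN ϑ a = ϑ from ha]
    exact hb
  one_mem' := conjFun_one N hN ϑ
  inv_mem' := by
    intro a ha
    show conjFun N hN ϑ a⁻¹ = ϑ
    have h1 : conjFun N hN (conjFun N hN ϑ a) a⁻¹ = conjFun N hN ϑ (a * a⁻¹) :=
      conjFun_conjFun N hN ϑ a a⁻¹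
    rw [show conjFun N hN ϑ a = ϑ from ha, mul_inv_cancel, conjFun_one] at h1
    exact h1

theorem mem_inertia {G : Type u} [Group G] (N : Subgroup G) (hN : N.Normal) (ϑ : N → ℂ) (g : G) :
    g ∈ inertia N hN ϑ ↔ conjFun N hN ϑ g = ϑ := Iff.rfl

/-- **Relative degrees divide the index.** -/
theorem rel_degree_dvd {G : Type u} [Group G] [Fintype G] (N : Subgroup G) [hN : N.Normal]
    [Fintype N] (χ : G → ℂ) (hχ : Cfsg.IsIrrCharacter G χ) (ϑ : N → ℂ)
    (hϑ : Cfsg.IsIrrCharacter N ϑ)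
    (hcon : Cfsg.classInner (fun n : N => χ n) ϑ ≠ 0) (c d : ℕ) (hc : χ 1 = c) (hd : ϑ 1 = d) :
    ∃ e : ℕ, c = e * d ∧ e ∣ N.index := by
  classical
  set T := inertia N hN ϑ with hT
  have hTiff : ∀ g : G, g ∈ T ↔ conjFun N hN ϑ g = ϑ := fun g => Iff.rfl
  have hNT : N ≤ T :=
    Cfsg.Agent.Lib.Helper75_AbelianInertia2.le_inertia N T hN
      (isClassFunction_of_isIrrCharacter hϑ) hTiff
  have : Fintype T := Fintype.ofFinite T
  obtain ⟨ψ, hψirr, hψind, hψcon⟩ := corr_surj N T hN hNT hϑ hTiff hχ hcon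
  -- the situation inside T
  set N' : Subgroup T := N.subgroupOf T with hN'
  have hN'normal : N'.Normal := by
    have := hN
    infer_instance
  have : Fintype N' := Fintype.ofFinite N'
  set ϑ' : N' → ℂ := resSubgroupOf N T ϑ with hϑ'
  have hϑ'irr : Cfsg.IsIrrCharacter N' ϑ' := isIrrCharacter_resSubgroupOf N T hNT hϑ
  have hinv' : ∀ (t : T) (x : N'),
      ϑ' ⟨t * x * t⁻¹, hN'normal.conj_mem (x : T) x.2 t⟩ = ϑ' x := by
    intro t x
    have h1 := conjFun_resSubgroupOf N T hN hN'normal ϑ hTiff t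
    have h2 := congrFun h1 x
    rw [conjFun_apply] at h2
    exact h2
  have hcon' : Cfsg.classInner (fun x : N' => ψ x) ϑ' ≠ 0 := by
    have h1 := classInner_resSubgroupOf N T hNT ϑ ψ
    rw [← classInner_conj_symm, h1, ← classInner_conj_symm, hψcon]
    simp only [Complex.conj_conj]
    exact hcon
  -- degrees
  have hψ1 : ∃ c' : ℕ, ψ 1 = c' := by
    obtain ⟨n, ρ, -, hρ⟩ := hψirr
    exact ⟨n, by rw [← hρ, Representation.char_one, Module.finrank_fin_fun]⟩
  obtain ⟨c', hc'⟩ := hψ1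
  have hd' : ϑ' 1 = d := by
    rw [← hd]
    rfl
  obtain ⟨e, he1, he2⟩ := invariant_case N' ψ hψirr ϑ' hϑ'irr hinv' hcon' c' d hc' hd'
  refine ⟨T.index * e, ?_, ?_⟩
  · have h1 : χ 1 = (T.index : ℂ) * ψ 1 := by
      rw [← hψind]
      exact Cfsg.Agent.Lib.Helper75_AbelianInertia2.indFun_one_index T ψ
    rw [hc, hc', he1] at h1
    have h2 : c = T.index * (e * d) := by exact_mod_cast h1
    rw [h2, mul_assoc]
  · have h1 : N'.index = N.relIndex T := rfl
    rw [h1] at he2
    have h2 : N.relIndex T * T.index = N.index := Subgroup.relIndex_mul_index hNT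
    rw [← h2, mul_comm]
    exact Nat.mul_dvd_mul_right he2 _

end Cfsg.Agent.Lib.Helper80_RelDegree
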