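import Mathlib
import Cfsg.Prelude.Def_Characters
import Cfsg.Agent.Lib.Helper75_CharProd

/-!
# The ℤ-span of characters induced from `p`-elementary subgroups (helper15)

* `BSpan p G` : the additive subgroup of `G → ℂ` generated by the functions `indFun E φ`
  with `E` a `p`-elementary subgroup and `φ` a character of `E`.
* `BSpan.mul_mem` : `BSpan p G` is stable under multiplication by characters of `G`.
* `BSpan.ind_mem` : induction maps `BSpan p T` into `BSpan p G`.
* `isElementary_of_mulEquiv`, `backEquiv`, `indFun_map_subtype`, `indFun_congr`, `indFun_top`.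
-/

set_option autoImplicit false

namespace Cfsg.Agent.Lib.Helper15_BrauerSpan

open Cfsg
open Cfsg.Agent.Lib.Helper3_CharBridge Cfsg.Agent.Lib.Helper3_CharOrtho
  Cfsg.Agent.Lib.Helper3_CharComplete Cfsg.Agent.Lib.Helper75_CharArith
  Cfsg.Agent.Lib.Helper75_Induced Cfsg.Agent.Lib.Helper75_Clifford
  Cfsg.Agent.Lib.Helper75_CharProd Cfsg.Agent.Lib.Helper75_IndChar

universe u

/-- `IsElementary` is invariant under isomorphism. -/
theorem isElementary_of_mulEquiv {p : ℕ} {E E' : Type u} [Group E] [Group E'] (e : E ≃* E')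
    (h : IsElementary p E) : IsElementary p E' := by
  obtain ⟨x, hx, hord, k, hk⟩ := h
  refine ⟨e x, ?_, ?_, k, ?_⟩
  · rw [Subgroup.mem_center_iff] at hx ⊢
    intro y
    obtain ⟨y, rfl⟩ := e.surjective y
    rw [← map_mul, ← map_mul, hx y]
  · rwa [MulEquiv.orderOf_eq]
  · rw [← hk]
    have h1 : Subgroup.zpowers (e x) = (Subgroup.zpowers x).map e.toMonoidHom :=
      (MonoidHom.map_zpowers e.toMonoidHom x).symm
    rw [h1]
    exact Subgroup.index_map_equiv (Subgroup.zpowers x) e

/-- Inducing from the whole group does nothing to a class function. -/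
theorem indFun_top {G : Type u} [Group G] [Fintype G] {χ : G → ℂ} (hχ : IsClassFunction G χ) :
    indFun (⊤ : Subgroup G) (fun x : (⊤ : Subgroup G) => χ x) = χ := by
  funext g
  rw [indFun_apply]
  have h1 : ∀ x : G, extendByZero (⊤ : Subgroup G) (fun x : (⊤ : Subgroup G) => χ x)
      (x⁻¹ * g * x) = χ g := by
    intro x
    rw [extendByZero_of_mem _ _ (Subgroup.mem_top _)]
    have := hχ g x⁻¹
    rw [inv_inv] at this
    exact this
  rw [Finset.sum_congr rfl (fun x _ => h1 x), Finset.sum_const, Finset.card_univ, nsmul_eq_mul,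
    Subgroup.card_top, Nat.card_eq_fintype_card]
  have : (Fintype.card G : ℂ) ≠ 0 := by
    rw [Nat.cast_ne_zero]; exact Fintype.card_ne_zero
  field_simp

/-- Induction only depends on the subgroup and the values. -/
theorem indFun_congr {T : Type u} [Group T] [Fintype T] {A B : Subgroup T} (h : A = B)
    (f : A → ℂ) (g : B → ℂ) (hfg : ∀ x (ha : x ∈ A) (hb : x ∈ B), f ⟨x, ha⟩ = g ⟨x, hb⟩) :
    indFun A f = indFun B g := by
  subst h
  congr 1
  funext x
  exact hfg x.1 x.2 x.2

theorem mem_of_mem_map {G : Type u} [Group G] (T : Subgroup G) (H₁ : Subgroup T) (x : G)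
    (hx : x ∈ H₁.map T.subtype) (hxT : x ∈ T) : (⟨x, hxT⟩ : T) ∈ H₁ := by
  obtain ⟨y, hy, hyx⟩ := hx
  have : y = ⟨x, hxT⟩ := Subtype.ext hyx
  rwa [← this]

/-- The isomorphism from the image of `H₁ ≤ T` in `G` back to `H₁`. -/
def backEquiv {G : Type u} [Group G] (T : Subgroup G) (H₁ : Subgroup T) :
    (H₁.map T.subtype) ≃* H₁ where
  toFun x := ⟨⟨x, by obtain ⟨y, -, hyx⟩ := x.2; rw [← hyx]; exact y.2⟩,
    mem_of_mem_map T H₁ x x.2 _⟩
  invFun y := ⟨y, ⟨y, y.2, rfl⟩⟩
  left_inv x := rfl
  right_inv y := rfl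
  map_mul' x y := rfl

/-- Transitivity of induction, for a subgroup `H₁` of the subgroup `T`. -/
theorem indFun_map_subtype {G : Type u} [Group G] [Fintype G] (T : Subgroup G) [Fintype T]
    (H₁ : Subgroup T) (η₁ : H₁ → ℂ) :
    indFun (H₁.map T.subtype) (fun x => η₁ (backEquiv T H₁ x)) = indFun T (indFun H₁ η₁) := by
  have hHT : H₁.map T.subtype ≤ T := by
    rintro _ ⟨y, -, rfl⟩
    exact y.2
  rw [← indFun_trans (H₁.map T.subtype) T hHT]
  congr 1
  apply indFun_congr (Subgroup.comap_map_eq_self_of_injective (Subgroup.subtype_injective T) H₁)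
  intro x ha hb
  rfl

/-- The generators of `BSpan`. -/
def gens (p : ℕ) (G : Type u) [Group G] [Fintype G] : Set (G → ℂ) :=
  {f | ∃ (E : Subgroup G) (φ : E → ℂ), IsElementary p E ∧ IsCharacter E φ ∧ f = indFun E φ}

/-- The ℤ-span of the characters induced from `p`-elementary subgroups. -/
def BSpan (p : ℕ) (G : Type u) [Group G] [Fintype G] : AddSubgroup (G → ℂ) :=
  AddSubgroup.closure (gens p G)

namespace BSpan

variable {p : ℕ} {G : Type u} [Group G] [Fintype G]

theorem gen_mem {E : Subgroup G} {φ : E → ℂ} (hE : IsElementary p E) (hφ : IsCharacter E φ) :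
    indFun E φ ∈ BSpan p G :=
  AddSubgroup.subset_closure ⟨E, φ, hE, hφ, rfl⟩

/-- `BSpan` is stable under multiplication by characters. -/
theorem mul_mem {f : G → ℂ} (hf : f ∈ BSpan p G) {ψ : G → ℂ} (hψ : IsCharacter G ψ) :
    f * ψ ∈ BSpan p G := by
  induction hf using AddSubgroup.closure_induction with
  | mem f hf =>
    obtain ⟨E, φ, hE, hφ, rfl⟩ := hf
    rw [indFun_mul E φ (isClassFunction_of_isCharacter hψ)]
    exact gen_mem hE (isCharacter_mul hφ (isCharacter_res E hψ))
  | zero => rw [zero_mul]; exact AddSubgroup.zero_mem _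
  | add f g _ _ hf hg => rw [add_mul]; exact AddSubgroup.add_mem _ hf hg
  | neg f _ hf => rw [neg_mul]; exact AddSubgroup.neg_mem _ hf

theorem indFun_neg (H : Subgroup G) (θ : H → ℂ) : indFun H (-θ) = -indFun H θ := by
  have h := indFun_smul H (-1 : ℂ) θ
  simpa using h

/-- Induction maps `BSpan p T` into `BSpan p G`. -/
theorem ind_mem (T : Subgroup G) [Fintype T] {f : T → ℂ} (hf : f ∈ BSpan p T) :
    indFun T f ∈ BSpan p G := by
  induction hf using AddSubgroup.closure_induction with
  | mem f hf =>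
    obtain ⟨E, φ, hE, hφ, rfl⟩ := hf
    rw [← indFun_map_subtype T E φ]
    exact gen_mem (isElementary_of_mulEquiv (backEquiv T E).symm hE)
      (isCharacter_comp (backEquiv T E).toMonoidHom hφ)
  | zero => rw [indFun_zero]; exact AddSubgroup.zero_mem _
  | add f g _ _ hf hg => rw [indFun_add]; exact AddSubgroup.add_mem _ hf hg
  | neg f _ hf => rw [indFun_neg]; exact AddSubgroup.neg_mem _ hf

end BSpan

end Cfsg.Agent.Lib.Helper15_BrauerSpan
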