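import Mathlib
import Cfsg.Prelude.Def_Characters
import Cfsg.Agent.Lib.Helper15_BrauerSpan
import Cfsg.Agent.Lib.Helper15_Linear
import Cfsg.Agent.Lib.Helper39_CharTools
import Cfsg.Agent.Lib.Helper3_AbelianIndex
import Cfsg.Agent.Lib.Helper80_CharBasic

set_option autoImplicit false

namespace Cfsg.Agent.Lib.Helper15_QuasiElem

open Cfsg
open scoped ComplexConjugate
open Cfsg.Agent.Lib.Helper3_CharBridge Cfsg.Agent.Lib.Helper3_CharOrtho
  Cfsg.Agent.Lib.Helper3_CharComplete Cfsg.Agent.Lib.Helper75_CharArith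
  Cfsg.Agent.Lib.Helper75_Induced Cfsg.Agent.Lib.Helper75_Clifford
  Cfsg.Agent.Lib.Helper75_CharProd Cfsg.Agent.Lib.Helper75_IndChar
  Cfsg.Agent.Lib.Helper15_BrauerSpan Cfsg.Agent.Lib.Helper15_Linear
  Cfsg.Agent.Lib.Helper80_CharBasic

universe u

/-- A nonzero character has an irreducible constituent. -/
theorem exists_constituent {K : Type u} [Group K] [Fintype K] {χ : K → ℂ} (hχ : IsCharacter K χ)
    (h1 : χ 1 ≠ 0) : ∃ φ : K → ℂ, IsIrrCharacter K φ ∧ classInner χ φ ≠ 0 := by
  classical
  by_contra hcon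
  push Not at hcon
  apply h1
  have h2 := classFunction_eq_sum χ (isClassFunction_of_isCharacter hχ)
  rw [h2]
  rw [Finset.sum_apply]
  apply Finset.sum_eq_zero
  intro ψ _
  rw [hcon ψ ψ.2, zero_smul]
  rfl

/-- If the trivial character occurs in `χ|_B` it occurs in `χ|_A` for `A ≤ B`. -/
theorem trivial_constituent_mono {H : Type u} [Group H] (A B : Subgroup H) [Fintype A]
    [Fintype B] (hAB : A ≤ B) {χ : H → ℂ} (hχ : IsCharacter H χ)
    (h : classInner (res B χ) (fun _ => 1) ≠ 0) : classInner (res A χ) (fun _ => 1) ≠ 0 := by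
  classical
  obtain ⟨m, hm, hsum⟩ := exists_multiplicities (isCharacter_res B hχ)
  let oneB : IrrCharacter B := ⟨fun _ => 1, isIrrCharacter_one B⟩
  have hm1 : m oneB ≠ 0 := by
    intro h0
    apply h
    have := hm oneB
    rw [h0, Nat.cast_zero] at this
    exact this
  have hk : ∀ ψ : IrrCharacter B, ∃ k : ℕ,
      classInner (fun a : A => (ψ : B → ℂ) ⟨a, hAB a.2⟩) (fun _ => 1) = k := fun ψ =>
    classInner_isCharacter_nat
      (isCharacter_comp (Subgroup.inclusion hAB) (isCharacter_of_isIrrCharacter ψ.2))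
      (isCharacter_of_isIrrCharacter (isIrrCharacter_one A))
  choose k hk using hk
  have hk1 : k oneB = 1 := by
    have := hk oneB
    have h2 : classInner (fun _ : A => (1 : ℂ)) (fun _ => 1) = 1 :=
      classInner_self_of_isIrrCharacter (isIrrCharacter_one A)
    have h3 : (fun a : A => (oneB : B → ℂ) ⟨a, hAB a.2⟩) = fun _ => 1 := rfl
    rw [h3, h2] at this
    exact_mod_cast this.symm
  have h1 : classInner (res A χ) (fun _ => 1) = ((∑ ψ : IrrCharacter B, m ψ * k ψ : ℕ) : ℂ) := by
    have h4 : res A χ = ∑ ψ : IrrCharacter B,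
        (m ψ : ℂ) • (fun a : A => (ψ : B → ℂ) ⟨a, hAB a.2⟩) := by
      funext a
      have := congrFun hsum ⟨a, hAB a.2⟩
      simp only [Finset.sum_apply, Pi.smul_apply] at this ⊢
      exact this
    rw [h4, classInner_sum_left]
    push_cast
    apply Finset.sum_congr rfl
    intro ψ _
    rw [classInner_smul_left, hk]
  rw [h1]
  have hpos : 0 < ∑ ψ : IrrCharacter B, m ψ * k ψ := by
    apply Finset.sum_pos' (fun _ _ => Nat.zero_le _) ⟨oneB, Finset.mem_univ _, ?_⟩
    rw [hk1, mul_one]
    exact Nat.pos_of_ne_zero hm1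
  exact_mod_cast hpos.ne'

/-- Irreducible characters of an abelian group are linear. -/
theorem irr_one_eq_one_of_comm {C : Type u} [Group C] [Finite C] (hC : ∀ a b : C, a * b = b * a)
    {lam : C → ℂ} (hlam : IsIrrCharacter C lam) : lam 1 = 1 := by
  have h0 := irr_one_ne_zero hlam
  obtain ⟨n, ρ, hρ, rfl⟩ := hlam
  haveI := hρ
  have h1 := Cfsg.Agent.Lib.Helper3_AbelianIndex.finrank_le_index_of_abelian ρ ⊤
    (fun a _ b _ => hC a b)
  rw [Subgroup.index_top] at h1
  rw [Representation.char_one] at h0 ⊢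
  have h2 : Module.finrank ℂ (Fin n → ℂ) ≠ 0 := by
    intro h; apply h0; rw [h]; simp
  have h3 : Module.finrank ℂ (Fin n → ℂ) = 1 := by omega
  rw [h3]; simp

/-- A multiplicative function with nonzero sum is trivial. -/
theorem eq_one_of_sum_ne_zero {Z : Type u} [Group Z] [Fintype Z] (f : Z → ℂ)
    (hf : ∀ a b, f (a * b) = f a * f b) (h : ∑ z : Z, f z ≠ 0) (z₀ : Z) : f z₀ = 1 := by
  have h1 : ∑ z : Z, f z = f z₀ * ∑ z : Z, f z := by
    rw [Finset.mul_sum]
    apply Fintype.sum_equiv (Equiv.mulLeft z₀⁻¹)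
    intro z
    rw [← hf]
    simp
  have h2 : (f z₀ - 1) * ∑ z : Z, f z = 0 := by
    rw [sub_mul, one_mul, ← h1, sub_self]
  rcases mul_eq_zero.1 h2 with h3 | h3
  · exact sub_eq_zero.1 h3
  · exact absurd h3 h


/-- Coprime action (averaging): an invariant linear character of the abelian normal subgroup
`C`, trivial on `C_C(P)`, is trivial if `|P|` is prime to `|C|`. -/
theorem linear_trivial_of_coprime {H : Type u} [Group H] (C : Subgroup H) [hCn : C.Normal]
    [Finite C] (hCc : ∀ a ∈ C, ∀ b ∈ C, a * b = b * a) (P : Subgroup H) [Fintype P]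
    (hcop : Nat.Coprime (Nat.card C) (Nat.card P)) (lam : C →* ℂ)
    (hinv : ∀ x ∈ P, ∀ c : C, lam ⟨x * c * x⁻¹, hCn.conj_mem c c.2 x⟩ = lam c)
    (hZ : ∀ z : C, (∀ x ∈ P, x * (z : H) = z * x) → lam z = 1) (d : C) : lam d = 1 := by
  classical
  letI : CommGroup C :=
    { (inferInstance : Group C) with mul_comm := fun a b => Subtype.ext (hCc a a.2 b b.2) }
  let conjP : P → (C →* C) := fun x => (MulAut.conjNormal (x : H) : MulAut C).toMonoidHom
  have hconjP : ∀ (x : P) (c : C), ((conjP x c : C) : H) = x * c * (x : H)⁻¹ := fun x c => rfl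
  let n : C := ∏ x : P, conjP x d
  have h1 : lam n = lam d ^ Fintype.card P := by
    show lam (∏ x : P, conjP x d) = _
    rw [map_prod]
    have : ∀ x ∈ (Finset.univ : Finset P), lam (conjP x d) = lam d := by
      intro x _
      exact hinv x x.2 d
    rw [Finset.prod_congr rfl this, Finset.prod_const, Finset.card_univ]
  have h2 : ∀ y ∈ P, y * (n : H) = n * y := by
    intro y hy
    have h3 : conjP ⟨y, hy⟩ n = n := by
      show conjP ⟨y, hy⟩ (∏ x : P, conjP x d) = ∏ x : P, conjP x d
      rw [map_prod]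
      apply Fintype.prod_equiv (Equiv.mulLeft (⟨y, hy⟩ : P))
      intro x
      apply Subtype.ext
      rw [hconjP, hconjP, hconjP]
      simp only [Equiv.coe_mulLeft, Subgroup.coe_mul, mul_inv_rev]
      group
    have h4 := congrArg (fun c : C => (c : H)) h3
    simp only [hconjP] at h4
    calc y * (n : H) = (y * n * y⁻¹) * y := by group
      _ = n * y := by rw [h4]
  have h3 : lam n = 1 := hZ n h2
  rw [h1] at h3
  have h4 : lam d ^ Nat.card C = 1 := by
    rw [← map_pow, pow_card_eq_one', map_one]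
  have h5 : orderOf (lam d) ∣ Nat.card P := by
    rw [Nat.card_eq_fintype_card]
    exact orderOf_dvd_of_pow_eq_one h3
  have h6 : orderOf (lam d) ∣ Nat.card C := orderOf_dvd_of_pow_eq_one h4
  have h7 : orderOf (lam d) = 1 := Nat.eq_one_of_dvd_coprimes hcop h6 h5
  exact orderOf_eq_one_iff.1 h7


/-- `Z × P` with `Z` cyclic of order prime to `p` centralizing the `p`-group `P` is
`p`-elementary. -/
theorem isElementary_sup {H : Type u} [Group H] [Finite H] (p : ℕ) [Fact p.Prime]
    (Z P : Subgroup H) (hZcyc : IsCyclic Z) (hZP : ∀ z ∈ Z, ∀ x ∈ P, x * z = z * x)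
    (hP : IsPGroup p P) (hZcop : Nat.Coprime (Nat.card Z) p) :
    IsElementary p ↥(Z ⊔ P) := by
  classical
  obtain ⟨g, hg⟩ := hZcyc.exists_generator
  have hZcomm : ∀ a ∈ Z, ∀ b ∈ Z, a * b = b * a := by
    intro a ha b hb
    obtain ⟨i, hi⟩ := Subgroup.mem_zpowers_iff.1 (hg ⟨a, ha⟩)
    obtain ⟨j, hj⟩ := Subgroup.mem_zpowers_iff.1 (hg ⟨b, hb⟩)
    have h1 := congrArg (fun w : Z => (w : H)) hi
    have h2 := congrArg (fun w : Z => (w : H)) hj
    simp only [Subgroup.coe_zpow] at h1 h2
    rw [← h1, ← h2, ← zpow_add, ← zpow_add, add_comm]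
  have hcentE : Z ⊔ P ≤ Subgroup.centralizer (Z : Set H) := by
    apply sup_le
    · intro a ha
      rw [Subgroup.mem_centralizer_iff]
      intro b hb
      exact hZcomm b hb a ha
    · intro x hx
      rw [Subgroup.mem_centralizer_iff]
      intro z hz
      exact (hZP z hz x hx).symm
  have hcomm : ∀ y ∈ Z ⊔ P, ∀ w ∈ Z, y * w = w * y := by
    intro y hy w hw
    have := Subgroup.mem_centralizer_iff.1 (hcentE hy) w hw
    exact this.symm
  have hzE : (g : H) ∈ Z ⊔ P := (le_sup_left : Z ≤ Z ⊔ P) g.2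
  obtain ⟨j, hj⟩ := IsPGroup.exists_card_eq hP
  have hcopZP : Nat.Coprime (Nat.card Z) (Nat.card P) := by
    rw [hj]
    exact Nat.Coprime.pow_right j hZcop
  refine ⟨⟨g, hzE⟩, ?_, ?_, j, ?_⟩
  · rw [Subgroup.mem_center_iff]
    intro y
    apply Subtype.ext
    exact hcomm y y.2 g g.2
  · have h1 : orderOf (⟨(g : H), hzE⟩ : ↥(Z ⊔ P)) = orderOf g := by
      rw [← Subgroup.orderOf_coe, ← Subgroup.orderOf_coe g]
    rw [h1, orderOf_eq_card_of_forall_mem_zpowers hg]
    exact hZcop
  · have hzp : Subgroup.zpowers (⟨(g : H), hzE⟩ : ↥(Z ⊔ P)) = Z.subgroupOf (Z ⊔ P) := by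
      ext y
      rw [Subgroup.mem_subgroupOf, Subgroup.mem_zpowers_iff]
      constructor
      · rintro ⟨i, rfl⟩
        rw [Subgroup.coe_zpow]
        exact Z.zpow_mem g.2 i
      · intro hy
        obtain ⟨i, hi⟩ := Subgroup.mem_zpowers_iff.1 (hg ⟨y, hy⟩)
        refine ⟨i, ?_⟩
        apply Subtype.ext
        have h1 := congrArg (fun w : Z => (w : H)) hi
        simp only [Subgroup.coe_zpow] at h1
        rw [Subgroup.coe_zpow]
        exact h1
    rw [hzp]
    set E := Z ⊔ P with hE
    haveI hZn : (Z.subgroupOf E).Normal := by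
      constructor
      intro w hw y
      rw [Subgroup.mem_subgroupOf] at hw ⊢
      have h1 := hcomm y y.2 w hw
      have h2 : ((y * w * y⁻¹ : E) : H) = w := by
        simp only [Subgroup.coe_mul, Subgroup.coe_inv]
        rw [h1]; group
      rw [h2]; exact hw
    have hsup : Z.subgroupOf E ⊔ P.subgroupOf E = ⊤ := by
      rw [← Subgroup.subgroupOf_sup le_sup_left le_sup_right]
      exact Subgroup.subgroupOf_self _
    have hinf : Z.subgroupOf E ⊓ P.subgroupOf E = ⊥ := by
      rw [eq_bot_iff]
      intro w hw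
      have h1 : (w : H) ∈ Z ⊓ P := ⟨hw.1, hw.2⟩
      rw [(Subgroup.disjoint_of_coprime_natCard hcopZP).eq_bot] at h1
      rw [Subgroup.mem_bot] at h1 ⊢
      exact Subtype.ext h1
    have hcardP : Nat.card (P.subgroupOf E) = Nat.card P :=
      Nat.card_congr (Subgroup.subgroupOfEquivOfLe (le_sup_right : P ≤ E)).toEquiv
    calc (Z.subgroupOf E).index = (Z.subgroupOf E).relIndex ⊤ := by
            rw [Subgroup.relIndex_top_right]
      _ = (Z.subgroupOf E).relIndex (Z.subgroupOf E ⊔ P.subgroupOf E) := by rw [hsup]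
      _ = (Z.subgroupOf E).relIndex (P.subgroupOf E) := Subgroup.relIndex_sup_left _ _
      _ = (Z.subgroupOf E ⊓ P.subgroupOf E).relIndex (P.subgroupOf E) := by
            rw [Subgroup.inf_relIndex_right]
      _ = Nat.card (P.subgroupOf E) := by rw [hinf, Subgroup.relIndex_bot_left]
      _ = p ^ j := by rw [hcardP, hj]


theorem comm_of_isCyclic {H : Type u} [Group H] (C : Subgroup H) (hC : IsCyclic C) :
    ∀ a ∈ C, ∀ b ∈ C, a * b = b * a := by
  intro a ha b hb
  obtain ⟨g, hg⟩ := hC.exists_generator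
  obtain ⟨i, hi⟩ := Subgroup.mem_zpowers_iff.1 (hg ⟨a, ha⟩)
  obtain ⟨j, hj⟩ := Subgroup.mem_zpowers_iff.1 (hg ⟨b, hb⟩)
  have h1 := congrArg (fun w : C => (w : H)) hi
  have h2 := congrArg (fun w : C => (w : H)) hj
  simp only [Subgroup.coe_zpow] at h1 h2
  rw [← h1, ← h2, ← zpow_add, ← zpow_add, add_comm]

/-- **Isaacs 8.10**: on a `p`-quasi-elementary group the principal character is a ℤ-combination
of characters induced from `p`-elementary subgroups. -/
theorem one_mem_BSpan (p : ℕ) (hp : p.Prime) (n : ℕ) :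
    ∀ (H : Type u) [Group H] [Fintype H], Nat.card H = n →
    ∀ (C : Subgroup H), C.Normal → IsCyclic C → Nat.Coprime (Nat.card C) p →
      (∃ k, C.index = p ^ k) → (fun _ : H => (1 : ℂ)) ∈ BSpan p H := by
  induction n using Nat.strong_induction_on with
  | _ n ih =>
  intro H _ _ hcard C hCn hCcyc hCcop ⟨k, hk⟩
  classical
  haveI := hCn
  haveI : Fact p.Prime := ⟨hp⟩
  have hCc : ∀ a ∈ C, ∀ b ∈ C, a * b = b * a := comm_of_isCyclic C hCcyc
  obtain ⟨P⟩ : Nonempty (Sylow p H) := inferInstance
  have hCnp : ¬ p ∣ Nat.card C := by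
    intro h
    have := Nat.dvd_gcd h (dvd_refl p)
    rw [hCcop] at this
    exact hp.one_lt.ne' (Nat.dvd_one.1 this)
  have hPcard : Nat.card P = p ^ k := by
    rw [Sylow.card_eq_multiplicity, ← Subgroup.card_mul_index C, hk,
      Nat.factorization_mul (Nat.card_pos.ne') (pow_ne_zero _ hp.ne_zero), Finsupp.add_apply,
      Nat.factorization_eq_zero_of_not_dvd hCnp, hp.factorization_pow]
    simp
  have hcopCP : Nat.Coprime (Nat.card C) (Nat.card (P : Subgroup H)) := by
    rw [hPcard]; exact Nat.Coprime.pow_right k hCcop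
  have hcompl : Subgroup.IsComplement' C (P : Subgroup H) :=
    Subgroup.isComplement'_of_coprime (by rw [hPcard, ← hk, Subgroup.card_mul_index]) hcopCP
  -- Z and E
  set Z : Subgroup H := C ⊓ Subgroup.centralizer ((P : Subgroup H) : Set H) with hZdef
  have hZC : Z ≤ C := inf_le_left
  have hZcyc : IsCyclic Z := by
    have : IsCyclic (Z.subgroupOf C) := Subgroup.isCyclic _
    exact isCyclic_of_surjective (Subgroup.subgroupOfEquivOfLe hZC).toMonoidHom
      (Subgroup.subgroupOfEquivOfLe hZC).surjective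
  have hZP : ∀ z ∈ Z, ∀ x ∈ (P : Subgroup H), x * z = z * x := fun z hz x hx =>
    Subgroup.mem_centralizer_iff.1 hz.2 x hx
  have hZcop : Nat.Coprime (Nat.card Z) p :=
    Nat.Coprime.coprime_dvd_left (Subgroup.card_dvd_of_le hZC) hCcop
  set E : Subgroup H := Z ⊔ P with hEdef
  have hE : IsElementary p E := isElementary_sup p Z P hZcyc hZP P.isPGroup' hZcop
  -- the induced character
  have hone : ∀ (A : Subgroup H), IsCharacter A (fun _ : A => (1 : ℂ)) := fun A =>
    isCharacter_of_isIrrCharacter (isIrrCharacter_one A)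
  have hΦ : IsCharacter H (indFun E (fun _ => 1)) := isCharacter_indFun E (hone E)
  obtain ⟨m, hm, hsum⟩ := exists_multiplicities hΦ
  let oneH : IrrCharacter H := ⟨fun _ => 1, isIrrCharacter_one H⟩
  have hm1 : m oneH = 1 := by
    have h1 := hm oneH
    rw [frobenius_reciprocity E _ _ (isClassFunction_of_isIrrCharacter oneH.2)] at h1
    have h2 : classInner (fun _ : E => (1 : ℂ)) (fun _ => 1) = 1 :=
      classInner_self_of_isIrrCharacter (isIrrCharacter_one E)
    have h3 : (fun h : E => (oneH : H → ℂ) h) = fun _ => 1 := rfl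
    rw [h3, h2] at h1
    exact_mod_cast h1.symm
  -- key claim
  have key : ∀ χ : IrrCharacter H, χ ≠ oneH → m χ ≠ 0 → (χ : H → ℂ) ∈ BSpan p H := by
    intro χ hχne hmχ
    have hχchar : IsCharacter H (χ : H → ℂ) := isCharacter_of_isIrrCharacter χ.2
    have hχclass : IsClassFunction H (χ : H → ℂ) := isClassFunction_of_isIrrCharacter χ.2
    have hEχ : classInner (res E (χ : H → ℂ)) (fun _ => 1) ≠ 0 := by
      have h1 := hm χ
      rw [frobenius_reciprocity E _ _ hχclass] at h1
      intro h0
      apply hmχ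
      have h2 : classInner (fun _ : E => (1 : ℂ)) (res E (χ : H → ℂ)) = 0 := by
        rw [← classInner_conj_symm, h0, map_zero]
      have h3 : (fun h : E => (χ : H → ℂ) h) = res E (χ : H → ℂ) := rfl
      rw [h3, h2] at h1
      exact_mod_cast h1.symm
    have hχ1 : (χ : H → ℂ) 1 ≠ 0 := irr_one_ne_zero χ.2
    obtain ⟨lam, hlam, hlamne⟩ := exists_constituent (isCharacter_res C hχchar) hχ1
    let T : Subgroup H :=
      { carrier := {g | conjFun C hCn lam g = lam}
        one_mem' := conjFun_one C hCn lam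
        mul_mem' := by
          intro a b ha hb
          show conjFun C hCn lam (a * b) = lam
          have ha' : conjFun C hCn lam a = lam := ha
          have hb' : conjFun C hCn lam b = lam := hb
          rw [← conjFun_conjFun, ha', hb']
        inv_mem' := by
          intro a ha
          show conjFun C hCn lam a⁻¹ = lam
          have ha' : conjFun C hCn lam a = lam := ha
          have := conjFun_conjFun C hCn lam a a⁻¹
          rw [ha', mul_inv_cancel, conjFun_one] at this
          exact this }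
    have hT : ∀ g : H, g ∈ T ↔ conjFun C hCn lam g = lam := fun g => Iff.rfl
    have hCT : C ≤ T := fun x hx =>
      conjFun_of_mem C hCn (isClassFunction_of_isIrrCharacter hlam) ⟨x, hx⟩
    by_cases hTtop : T = ⊤
    swap
    · -- induced from the proper subgroup T
      haveI : Fintype T := Fintype.ofFinite _
      obtain ⟨ξ, hξ, hξind, -⟩ := corr_surj C T hCn hCT hlam hT χ.2 hlamne
      have hcardlt : Nat.card T < n := by
        rw [← hcard]
        have h1 : Nat.card T ≤ Nat.card H := Subgroup.card_le_card_group T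
        have h2 : Nat.card T ≠ Nat.card H := fun h => hTtop (Subgroup.eq_top_of_card_eq T h)
        omega
      have hCTcyc : IsCyclic (C.subgroupOf T) :=
        isCyclic_of_surjective (Subgroup.subgroupOfEquivOfLe hCT).symm.toMonoidHom
          (Subgroup.subgroupOfEquivOfLe hCT).symm.surjective
      have hCTcop : Nat.Coprime (Nat.card (C.subgroupOf T)) p := by
        rw [Nat.card_congr (Subgroup.subgroupOfEquivOfLe hCT).toEquiv]
        exact hCcop
      have hCTidx : ∃ j, (C.subgroupOf T).index = p ^ j := by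
        have h1 : C.relIndex T ∣ p ^ k := by
          rw [← hk, ← Subgroup.relIndex_mul_index hCT]
          exact dvd_mul_right _ _
        obtain ⟨j, -, hj⟩ := (Nat.dvd_prime_pow hp).1 h1
        exact ⟨j, hj⟩
      have h1T := ih (Nat.card T) hcardlt T rfl (C.subgroupOf T) inferInstance hCTcyc hCTcop
        hCTidx
      have h2T := BSpan.mul_mem h1T (isCharacter_of_isIrrCharacter hξ)
      have h3 : (fun _ : T => (1 : ℂ)) * ξ = ξ := by
        funext t; simp
      rw [h3] at h2T
      rw [← hξind]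
      exact BSpan.ind_mem T h2T
    · -- T = ⊤ is impossible
      exfalso
      have hinvl : ∀ g : H, conjFun C hCn lam g = lam := fun g =>
        (hT g).1 (hTtop ▸ Subgroup.mem_top g)
      have h1 := res_eq_smul_of_invariant C hCn χ.2 hlam hinvl hlamne
      set e := classInner (res C (χ : H → ℂ)) lam with he
      have hlam1 : lam 1 = 1 :=
        irr_one_eq_one_of_comm (fun a b => Subtype.ext (hCc a a.2 b b.2)) hlam
      have hlamchar := isCharacter_of_isIrrCharacter hlam
      have hZχ := trivial_constituent_mono Z E le_sup_left hχchar hEχ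
      have hPχ := trivial_constituent_mono (P : Subgroup H) E le_sup_right hχchar hEχ
      have hlamZ : ∀ z : C, (z : H) ∈ Z → lam z = 1 := by
        have hsumZ : ∑ z : Z, lam ⟨z, hZC z.2⟩ ≠ 0 := by
          intro h0
          apply hZχ
          unfold classInner
          have h2 : ∀ z : Z, res Z (χ : H → ℂ) z * conj ((fun _ : Z => (1 : ℂ)) z) =
              e * lam ⟨z, hZC z.2⟩ := by
            intro z
            have h3 := congrFun h1 ⟨z, hZC z.2⟩
            simp only [map_one, mul_one]
            exact h3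
          rw [Finset.sum_congr rfl (fun z _ => h2 z), ← Finset.mul_sum, h0, mul_zero, mul_zero]
        intro z hz
        have := eq_one_of_sum_ne_zero (fun z : Z => lam ⟨z, hZC z.2⟩)
          (fun a b => linear_mul lam hlamchar hlam1 ⟨a, hZC a.2⟩ ⟨b, hZC b.2⟩) hsumZ ⟨z, hz⟩
        exact this
      have hlamC : ∀ c : C, lam c = 1 := by
        intro c
        exact linear_trivial_of_coprime C hCc (P : Subgroup H) hcopCP
          (linearHom lam hlamchar hlam1) (fun x _ c => congrFun (hinvl x) c)
          (fun z hz => hlamZ z ⟨z.2, Subgroup.mem_centralizer_iff.2 hz⟩) c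
      have hsumC : ∑ c : C, (χ : H → ℂ) c ≠ 0 := by
        have h2 : ∀ c : C, (χ : H → ℂ) c = e := by
          intro c
          have h3 := congrFun h1 c
          rw [Pi.smul_apply, hlamC c, smul_eq_mul, mul_one] at h3
          exact h3
        rw [Finset.sum_congr rfl (fun c _ => h2 c), Finset.sum_const, Finset.card_univ,
          nsmul_eq_mul]
        exact mul_ne_zero (Nat.cast_ne_zero.2 Fintype.card_ne_zero) hlamne
      obtain ⟨nn, ρ, hρ, hχρ⟩ := χ.2
      haveI := hρ
      have hid : ∀ c : C, ρ c = LinearMap.id := by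
        apply Cfsg.Agent.Lib.Helper39_CharTools.rho_eq_id_of_sum_ne_zero ρ C
        rw [hχρ]
        exact hsumC
      have hmulC : ∀ (c : C) (h : H), (χ : H → ℂ) (c * h) = (χ : H → ℂ) h := by
        intro c h
        rw [← hχρ]
        simp only [Representation.character, map_mul, hid c]
        rfl
      have hPsum : ∑ x : (P : Subgroup H), (χ : H → ℂ) x ≠ 0 := by
        intro h0
        apply hPχ
        unfold classInner
        have h2 : ∀ x : (P : Subgroup H), res (P : Subgroup H) (χ : H → ℂ) x *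
            conj ((fun _ : (P : Subgroup H) => (1 : ℂ)) x) = (χ : H → ℂ) x := by
          intro x
          simp only [map_one, mul_one]
          rfl
        rw [Finset.sum_congr rfl (fun x _ => h2 x), h0, mul_zero]
      have hne1 : classInner (χ : H → ℂ) (fun _ => 1) ≠ 0 := by
        unfold classInner
        let eqv : C × (P : Subgroup H) ≃ H := Equiv.ofBijective _ hcompl
        have h5 : ∑ h : H, (χ : H → ℂ) h * conj ((fun _ : H => (1 : ℂ)) h) =
            ∑ cx : C × (P : Subgroup H), (χ : H → ℂ) ((cx.1 : H) * (cx.2 : H)) := by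
          rw [← Equiv.sum_comp eqv]
          apply Finset.sum_congr rfl
          intro cx _
          simp only [map_one, mul_one]
          rfl
        rw [h5, Fintype.sum_prod_type]
        simp_rw [hmulC]
        rw [Finset.sum_const, Finset.card_univ, nsmul_eq_mul]
        apply mul_ne_zero
        · apply inv_ne_zero
          rw [Nat.cast_ne_zero]
          exact Nat.card_pos.ne'
        · exact mul_ne_zero (Nat.cast_ne_zero.2 Fintype.card_ne_zero) hPsum
      have hχne' : (χ : H → ℂ) ≠ fun _ => 1 := by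
        intro h
        apply hχne
        exact Subtype.ext h
      exact hne1 (classInner_of_isIrrCharacter_of_ne ⟨nn, ρ, hρ, hχρ⟩ (isIrrCharacter_one H) hχne')
  -- conclusion
  have hsplit : indFun E (fun _ => 1) = (fun _ : H => (1 : ℂ)) +
      ∑ χ ∈ Finset.univ.erase oneH, (m χ : ℂ) • (χ : H → ℂ) := by
    conv_lhs => rw [hsum]
    rw [← Finset.add_sum_erase _ _ (Finset.mem_univ oneH), hm1, Nat.cast_one, one_smul]
  have hrest : ∑ χ ∈ Finset.univ.erase oneH, (m χ : ℂ) • (χ : H → ℂ) ∈ BSpan p H := by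
    apply AddSubgroup.sum_mem
    intro χ hχ
    have hχne : χ ≠ oneH := (Finset.mem_erase.1 hχ).1
    by_cases hmχ : m χ = 0
    · rw [hmχ, Nat.cast_zero, zero_smul]
      exact AddSubgroup.zero_mem _
    · rw [Nat.cast_smul_eq_nsmul]
      exact AddSubgroup.nsmul_mem _ (key χ hχne hmχ) _
  have : (fun _ : H => (1 : ℂ)) = indFun E (fun _ => 1) -
      ∑ χ ∈ Finset.univ.erase oneH, (m χ : ℂ) • (χ : H → ℂ) := by
    rw [hsplit, add_sub_cancel_right]
  rw [this]
  exact AddSubgroup.sub_mem _ (BSpan.gen_mem hE (hone E)) hrest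

end Cfsg.Agent.Lib.Helper15_QuasiElem
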