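import Mathlib
import Cfsg.Prelude.Def_Characters
import Cfsg.Agent.S0872
import Cfsg.Agent.Lib.Helper15_QuasiElem

/-!
# Brauer's induction theorem (helper15)

* `const_mem_BSpan` : local version: for each prime `p` some integer `m` prime to `p` has
  `m • 1_G ∈ BSpan p G`.
* `ESpan G` : the ℤ-span of characters induced from elementary subgroups (all primes).
* `one_mem_ESpan`, `character_mem_ESpan` : Brauer's induction theorem.
* `brauer_induction` : list form.
* `isGeneralizedCharacter_of_elementary` : Brauer's characterization of characters.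
-/

set_option autoImplicit false

namespace Cfsg.Agent.Lib.Helper15_Brauer

open Cfsg
open Cfsg.Agent.Lib.Helper3_CharBridge Cfsg.Agent.Lib.Helper75_CharArith
  Cfsg.Agent.Lib.Helper75_Induced Cfsg.Agent.Lib.Helper75_Clifford
  Cfsg.Agent.Lib.Helper75_CharProd Cfsg.Agent.Lib.Helper75_IndChar
  Cfsg.Agent.Lib.Helper15_BrauerSpan Cfsg.Agent.Lib.Helper15_QuasiElem

universe u

variable {G : Type u} [Group G] [Fintype G]

/-- Local Brauer induction. -/
theorem const_mem_BSpan (p : ℕ) (hp : p.Prime) :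
    ∃ m : ℤ, ¬ (p : ℤ) ∣ m ∧ (fun _ : G => (m : ℂ)) ∈ BSpan p G := by
  classical
  obtain ⟨m, a, hm, ha, hsum⟩ := Cfsg.Agent.S0872.result (G := G) p hp
  refine ⟨m, hm, ?_⟩
  rw [hsum]
  apply AddSubgroup.sum_mem
  intro H _
  by_cases haH : a H = 0
  · rw [haH, Int.cast_zero, zero_smul]
    exact AddSubgroup.zero_mem _
  · obtain ⟨C, hCH, hHN, hCcyc, hCcop, k, hk⟩ := ha H haH
    rw [Int.cast_smul_eq_zsmul]
    apply AddSubgroup.zsmul_mem
    haveI : Fintype H := Fintype.ofFinite _
    apply BSpan.ind_mem H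
    have hn : (C.subgroupOf H).Normal :=
      (Subgroup.normal_subgroupOf_iff_le_normalizer hCH).2 hHN
    have hcyc : IsCyclic (C.subgroupOf H) :=
      isCyclic_of_surjective (Subgroup.subgroupOfEquivOfLe hCH).symm.toMonoidHom
        (Subgroup.subgroupOfEquivOfLe hCH).symm.surjective
    have hcop : Nat.Coprime (Nat.card (C.subgroupOf H)) p := by
      rw [Nat.card_congr (Subgroup.subgroupOfEquivOfLe hCH).toEquiv]
      exact hCcop
    exact one_mem_BSpan p hp (Nat.card H) H rfl (C.subgroupOf H) hn hcyc hcop ⟨k, hk⟩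

/-- Generators: characters induced from elementary subgroups, for any prime. -/
def egens (G : Type u) [Group G] [Fintype G] : Set (G → ℂ) :=
  {f | ∃ (E : Subgroup G) (φ : E → ℂ), (∃ p : ℕ, p.Prime ∧ IsElementary p E) ∧
    IsCharacter E φ ∧ f = indFun E φ}

/-- The ℤ-span of the characters induced from elementary subgroups. -/
def ESpan (G : Type u) [Group G] [Fintype G] : AddSubgroup (G → ℂ) :=
  AddSubgroup.closure (egens G)

theorem BSpan_le_ESpan {p : ℕ} (hp : p.Prime) : BSpan p G ≤ ESpan G := by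
  apply AddSubgroup.closure_mono
  rintro f ⟨E, φ, hE, hφ, rfl⟩
  exact ⟨E, φ, ⟨p, hp, hE⟩, hφ, rfl⟩

/-- **Brauer's induction theorem** for the principal character. -/
theorem one_mem_ESpan : (fun _ : G => (1 : ℂ)) ∈ ESpan G := by
  classical
  let S : AddSubgroup ℤ :=
    { carrier := {n : ℤ | (fun _ : G => (n : ℂ)) ∈ ESpan G}
      zero_mem' := by
        show (fun _ : G => ((0 : ℤ) : ℂ)) ∈ ESpan G
        have : (fun _ : G => ((0 : ℤ) : ℂ)) = 0 := by funext; simp
        rw [this]; exact AddSubgroup.zero_mem _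
      add_mem' := by
        intro a b ha hb
        show (fun _ : G => ((a + b : ℤ) : ℂ)) ∈ ESpan G
        have : (fun _ : G => ((a + b : ℤ) : ℂ)) =
            (fun _ : G => (a : ℂ)) + (fun _ : G => (b : ℂ)) := by funext; simp
        rw [this]; exact AddSubgroup.add_mem _ ha hb
      neg_mem' := by
        intro a ha
        show (fun _ : G => ((-a : ℤ) : ℂ)) ∈ ESpan G
        have : (fun _ : G => ((-a : ℤ) : ℂ)) = -(fun _ : G => (a : ℂ)) := by funext; simp
        rw [this]; exact AddSubgroup.neg_mem _ ha }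
  have hpS : ∀ p : ℕ, p.Prime → ∃ m : ℤ, ¬ (p : ℤ) ∣ m ∧ m ∈ S := by
    intro p hp
    obtain ⟨m, hm, hmem⟩ := const_mem_BSpan (G := G) p hp
    exact ⟨m, hm, BSpan_le_ESpan hp hmem⟩
  have h1S : (1 : ℤ) ∈ S := by
    obtain ⟨d, hd⟩ := Int.subgroup_cyclic S
    have hunit : d.natAbs = 1 := by
      by_contra hne
      obtain ⟨p, hp, hpd⟩ := Nat.exists_prime_and_dvd hne
      obtain ⟨m, hm, hmS⟩ := hpS p hp
      rw [hd] at hmS
      obtain ⟨c, hc⟩ := AddSubgroup.mem_closure_singleton.1 hmS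
      have hdm : d ∣ m := ⟨c, by rw [← hc]; simp [mul_comm]⟩
      exact hm (dvd_trans (Int.natCast_dvd.2 hpd) hdm)
    rw [hd]
    rcases Int.natAbs_eq d with h | h
    · rw [h, hunit]
      exact AddSubgroup.subset_closure (by simp)
    · have : (1 : ℤ) = -d := by rw [h, hunit]; simp
      rw [this]
      exact AddSubgroup.neg_mem _ (AddSubgroup.subset_closure (by simp))
  have : (fun _ : G => ((1 : ℤ) : ℂ)) ∈ ESpan G := h1S
  simpa using this

namespace ESpan

theorem gen_mem {E : Subgroup G} {φ : E → ℂ} {p : ℕ} (hp : p.Prime) (hE : IsElementary p E)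
    (hφ : IsCharacter E φ) : indFun E φ ∈ ESpan G :=
  AddSubgroup.subset_closure ⟨E, φ, ⟨p, hp, hE⟩, hφ, rfl⟩

/-- `ESpan` is stable under multiplication by characters. -/
theorem mul_mem {f : G → ℂ} (hf : f ∈ ESpan G) {ψ : G → ℂ} (hψ : IsCharacter G ψ) :
    f * ψ ∈ ESpan G := by
  induction hf using AddSubgroup.closure_induction with
  | mem f hf =>
    obtain ⟨E, φ, ⟨p, hp, hE⟩, hφ, rfl⟩ := hf
    rw [indFun_mul E φ (isClassFunction_of_isCharacter hψ)]
    exact gen_mem hp hE (isCharacter_mul hφ (isCharacter_res E hψ))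
  | zero => rw [zero_mul]; exact AddSubgroup.zero_mem _
  | add f g _ _ hf hg => rw [add_mul]; exact AddSubgroup.add_mem _ hf hg
  | neg f _ hf => rw [neg_mul]; exact AddSubgroup.neg_mem _ hf

end ESpan

/-- **Brauer's induction theorem**: every character lies in `ESpan G`. -/
theorem character_mem_ESpan {χ : G → ℂ} (hχ : IsCharacter G χ) : χ ∈ ESpan G := by
  have h := ESpan.mul_mem (one_mem_ESpan (G := G)) hχ
  have h1 : (fun _ : G => (1 : ℂ)) * χ = χ := by funext g; simp
  rwa [h1] at h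

/-- Negating the coefficients of a list negates the sum. -/
theorem sum_map_neg
    (l : List ((E : Subgroup G) × ((E → ℂ) × ℤ))) :
    ((l.map fun t => (⟨t.1, (t.2.1, -t.2.2)⟩ : (E : Subgroup G) × ((E → ℂ) × ℤ))).map
      fun t => (t.2.2 : ℂ) • Cfsg.indFun t.1 t.2.1).sum =
    -((l.map fun t => (t.2.2 : ℂ) • Cfsg.indFun t.1 t.2.1).sum) := by
  induction l with
  | nil => simp
  | cons t l ih =>
    rw [List.map_cons, List.map_cons, List.sum_cons, ih, List.map_cons, List.sum_cons, neg_add]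
    congr 1
    push_cast
    rw [neg_smul]

/-- An element of `ESpan` is given by a list. -/
theorem exists_list_of_mem_ESpan {f : G → ℂ}
    (hf : f ∈ ESpan G) : ∃ l : List ((E : Subgroup G) × ((E → ℂ) × ℤ)),
      (∀ t ∈ l, (∃ p : ℕ, p.Prime ∧ Cfsg.IsElementary p t.1) ∧ Cfsg.IsCharacter t.1 t.2.1) ∧
      f = (l.map fun t => (t.2.2 : ℂ) • Cfsg.indFun t.1 t.2.1).sum := by
  induction hf using AddSubgroup.closure_induction with
  | mem f hf =>
    obtain ⟨E, φ, hE, hφ, rfl⟩ := hf
    refine ⟨[⟨E, (φ, 1)⟩], ?_, ?_⟩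
    · intro t ht
      rw [List.mem_singleton] at ht
      subst ht
      exact ⟨hE, hφ⟩
    · simp
  | zero => exact ⟨[], by simp, by simp⟩
  | add f g _ _ hf hg =>
    obtain ⟨l₁, h₁, rfl⟩ := hf
    obtain ⟨l₂, h₂, rfl⟩ := hg
    refine ⟨l₁ ++ l₂, ?_, ?_⟩
    · intro t ht
      rcases List.mem_append.1 ht with h | h
      · exact h₁ t h
      · exact h₂ t h
    · rw [List.map_append, List.sum_append]
  | neg f _ hf =>
    obtain ⟨l, h, rfl⟩ := hf
    refine ⟨l.map fun t => ⟨t.1, (t.2.1, -t.2.2)⟩, ?_, ?_⟩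
    · intro t ht
      obtain ⟨s, hs, rfl⟩ := List.mem_map.1 ht
      exact h s hs
    · rw [sum_map_neg]

/-- **Brauer's induction theorem**, list form (arbitrary characters of elementary subgroups). -/
theorem brauer_induction {χ : G → ℂ} (hχ : IsCharacter G χ) :
    ∃ l : List ((E : Subgroup G) × ((E → ℂ) × ℤ)),
      (∀ t ∈ l, (∃ p : ℕ, p.Prime ∧ Cfsg.IsElementary p t.1) ∧ Cfsg.IsCharacter t.1 t.2.1) ∧
      χ = (l.map fun t => (t.2.2 : ℂ) • Cfsg.indFun t.1 t.2.1).sum :=
  exists_list_of_mem_ESpan (character_mem_ESpan hχ)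

/-! ### Generalized characters -/

omit [Fintype G] in
theorem isGeneralizedCharacter_zero : IsGeneralizedCharacter G (0 : G → ℂ) :=
  ⟨0, 0, isCharacter_zero, isCharacter_zero, by simp⟩

omit [Fintype G] in
theorem isGeneralizedCharacter_add {f g : G → ℂ} (hf : IsGeneralizedCharacter G f)
    (hg : IsGeneralizedCharacter G g) : IsGeneralizedCharacter G (f + g) := by
  obtain ⟨a, b, ha, hb, rfl⟩ := hf
  obtain ⟨c, d, hc, hd, rfl⟩ := hg
  exact ⟨a + c, b + d, isCharacter_add ha hc, isCharacter_add hb hd, by abel⟩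

omit [Fintype G] in
theorem isGeneralizedCharacter_neg {f : G → ℂ} (hf : IsGeneralizedCharacter G f) :
    IsGeneralizedCharacter G (-f) := by
  obtain ⟨a, b, ha, hb, rfl⟩ := hf
  exact ⟨b, a, hb, ha, by abel⟩

/-- **Brauer's characterization of characters**. -/
theorem isGeneralizedCharacter_of_elementary (θ : G → ℂ) (hθ : IsClassFunction G θ)
    (hE : ∀ (E : Subgroup G) (p : ℕ), p.Prime → IsElementary p E →
      IsGeneralizedCharacter E (fun e : E => θ e)) : IsGeneralizedCharacter G θ := by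
  have key : ∀ f ∈ ESpan G, IsGeneralizedCharacter G (f * θ) := by
    intro f hf
    induction hf using AddSubgroup.closure_induction with
    | mem f hf =>
      obtain ⟨E, φ, ⟨p, hp, hEl⟩, hφ, rfl⟩ := hf
      rw [indFun_mul E φ hθ]
      obtain ⟨a, b, ha, hb, hab⟩ := hE E p hp hEl
      have h1 : res E θ = a - b := hab
      rw [h1, mul_sub]
      have h2 : indFun E (φ * a - φ * b) = indFun E (φ * a) - indFun E (φ * b) := by
        rw [sub_eq_add_neg, indFun_add, BSpan.indFun_neg, ← sub_eq_add_neg]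
      rw [h2]
      exact ⟨_, _, isCharacter_indFun E (isCharacter_mul hφ ha),
        isCharacter_indFun E (isCharacter_mul hφ hb), rfl⟩
    | zero => rw [zero_mul]; exact isGeneralizedCharacter_zero
    | add f g _ _ hf hg => rw [add_mul]; exact isGeneralizedCharacter_add hf hg
    | neg f _ hf => rw [neg_mul]; exact isGeneralizedCharacter_neg hf
  have h := key _ (one_mem_ESpan (G := G))
  have h1 : (fun _ : G => (1 : ℂ)) * θ = θ := by funext g; simp
  rwa [h1] at h

end Cfsg.Agent.Lib.Helper15_Brauer
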