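import Mathlib
import Cfsg.Prelude.Def_Characters

/-!
# Elementary groups (helper3)

* `isNilpotent_of_isElementary`: a finite `p`-elementary group is nilpotent.
* `isElementary_subgroup`: a subgroup of a `p`-elementary group is `p`-elementary.
* `isElementary_of_mulEquiv`: transport along an isomorphism.
-/

set_option autoImplicit false

namespace Cfsg.Agent.Lib.Helper3_Elementary

theorem zpowers_normal_of_mem_center {E : Type*} [Group E] {x : E} (hx : x ∈ Subgroup.center E) :
    (Subgroup.zpowers x).Normal := by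
  constructor
  intro y hy g
  obtain ⟨k, rfl⟩ := Subgroup.mem_zpowers_iff.mp hy
  have hc : Commute g x := Subgroup.mem_center_iff.mp hx g
  have h1 : g * x ^ k * g⁻¹ = x ^ k := by
    rw [(hc.zpow_right k).eq, mul_inv_cancel_right]
  rw [h1]
  exact Subgroup.zpow_mem_zpowers _ _

/-- A finite `p`-elementary group is nilpotent. -/
theorem isNilpotent_of_isElementary {E : Type*} [Group E] [Finite E] {p : ℕ} (hp : p.Prime)
    (h : Cfsg.IsElementary p E) : Group.IsNilpotent E := by
  obtain ⟨x, hx, -, k, hk⟩ := h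
  have hN : (Subgroup.zpowers x).Normal := zpowers_normal_of_mem_center hx
  have : Fact p.Prime := ⟨hp⟩
  have hP : IsPGroup p (E ⧸ Subgroup.zpowers x) := by
    apply IsPGroup.of_card (n := k)
    rw [← hk]
    rfl
  have hnil : Group.IsNilpotent (E ⧸ Subgroup.zpowers x) := hP.isNilpotent
  apply Subgroup.isNilpotent_of_ker_le_center (QuotientGroup.mk' (Subgroup.zpowers x))
  rw [QuotientGroup.ker_mk']
  intro y hy
  obtain ⟨k, rfl⟩ := Subgroup.mem_zpowers_iff.mp hy
  exact zpow_mem hx k

/-- A subgroup of a `p`-elementary group is `p`-elementary. -/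
theorem isElementary_subgroup {E : Type*} [Group E] {p : ℕ} (hp : p.Prime)
    (h : Cfsg.IsElementary p E) (H : Subgroup E) : Cfsg.IsElementary p H := by
  obtain ⟨x, hx, hcop, k, hk⟩ := h
  set C : Subgroup E := Subgroup.zpowers x with hC
  have hN : C.Normal := zpowers_normal_of_mem_center hx
  have hcyc : IsCyclic ↥(C ⊓ H) := Subgroup.isCyclic_of_le (inf_le_left : C ⊓ H ≤ C)
  obtain ⟨g, hg⟩ := hcyc.exists_generator
  set y : H := ⟨(g : E), g.2.2⟩ with hy
  have hyC : (y : E) ∈ C := g.2.1
  have hzp : Subgroup.zpowers y = C.subgroupOf H := by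
    ext z
    rw [Subgroup.mem_subgroupOf]
    constructor
    · intro hz
      obtain ⟨n, rfl⟩ := Subgroup.mem_zpowers_iff.mp hz
      rw [Subgroup.coe_zpow]
      exact C.zpow_mem hyC n
    · intro hz
      have h1 : (⟨(z : E), ⟨hz, z.2⟩⟩ : ↥(C ⊓ H)) ∈ Subgroup.zpowers g := hg _
      obtain ⟨n, hn⟩ := Subgroup.mem_zpowers_iff.mp h1
      rw [Subgroup.mem_zpowers_iff]
      refine ⟨n, ?_⟩
      apply Subtype.ext
      have := congrArg (fun w : ↥(C ⊓ H) => (w : E)) hn
      simpa using this
  refine ⟨y, ?_, ?_, ?_⟩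
  · rw [Subgroup.mem_center_iff]
    intro z
    apply Subtype.ext
    have hcen : (y : E) ∈ Subgroup.center E := by
      obtain ⟨n, hn⟩ := Subgroup.mem_zpowers_iff.mp hyC
      rw [← hn]
      exact zpow_mem hx n
    exact Subgroup.mem_center_iff.mp hcen (z : E)
  · have h1 : orderOf y = orderOf (y : E) := (Subgroup.orderOf_coe y).symm
    rw [h1]
    exact Nat.Coprime.coprime_dvd_left (orderOf_dvd_of_mem_zpowers hyC) hcop
  · have h1 : (C.subgroupOf H).index ∣ C.index := Subgroup.relIndex_dvd_index_of_normal C H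
    rw [hk] at h1
    obtain ⟨k', -, hk'⟩ := (Nat.dvd_prime_pow hp).mp h1
    exact ⟨k', by rw [hzp]; exact hk'⟩

/-- Transport of elementarity along an isomorphism. -/
theorem isElementary_of_mulEquiv {E E' : Type*} [Group E] [Group E'] {p : ℕ}
    (h : Cfsg.IsElementary p E) (e : E ≃* E') : Cfsg.IsElementary p E' := by
  obtain ⟨x, hx, hcop, k, hk⟩ := h
  refine ⟨e x, ?_, ?_, k, ?_⟩
  · rw [Subgroup.mem_center_iff]
    intro z
    obtain ⟨w, rfl⟩ := e.surjective z
    rw [← map_mul, ← map_mul, Subgroup.mem_center_iff.mp hx w]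
  · rw [MulEquiv.orderOf_eq]
    exact hcop
  · have h1 : Subgroup.zpowers (e x) = (Subgroup.zpowers x).map e.toMonoidHom := by
      rw [MonoidHom.map_zpowers]
      rfl
    rw [h1]
    exact (Subgroup.index_map_equiv (Subgroup.zpowers x) e).trans hk

/-- The image of a `p`-elementary subgroup of a subgroup is `p`-elementary. -/
theorem isElementary_map_subtype {G : Type*} [Group G] {p : ℕ} (T : Subgroup G) (H : Subgroup T)
    (h : Cfsg.IsElementary p H) : Cfsg.IsElementary p (H.map T.subtype) :=
  isElementary_of_mulEquiv h (H.equivMapOfInjective T.subtype T.subtype_injective)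

end Cfsg.Agent.Lib.Helper3_Elementary
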