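import Mathlib
import Cfsg.Prelude.Def_Characters
import Cfsg.Agent.Lib.Helper3_Elementary

/-!
# The `π`-part of an element via a CRT exponent; power maps on elementary groups (helper15)

For coprime `n`, `m` the exponent `crtExp n m h` is `≡ 1 mod n` and `≡ 0 mod m`, so `g ↦ g ^ u`
is the projection onto the `n`-part in a group of order `n * m`.

* `pow_crtExp_pow`, `pow_crtExp_of_pow_eq_one`, `pow_crtExp_of_pow_eq_one'`
* `mul_pow_of_isElementary` : on a `p`-elementary group the power map `e ↦ e ^ u` is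
  multiplicative as soon as `u ≡ 0` or `1` modulo the order of the Sylow `p`-subgroup.
-/

set_option autoImplicit false

namespace Cfsg.Agent.Lib.Helper15_PiPart

open Cfsg

/-- CRT exponent: `≡ 1 mod n`, `≡ 0 mod m`. -/
noncomputable def crtExp (n m : ℕ) (h : Nat.Coprime n m) : ℕ := (Nat.chineseRemainder h 1 0 : ℕ)

theorem crtExp_modEq_one (n m : ℕ) (h : Nat.Coprime n m) : crtExp n m h ≡ 1 [MOD n] :=
  (Nat.chineseRemainder h 1 0).2.1

theorem crtExp_modEq_zero (n m : ℕ) (h : Nat.Coprime n m) : crtExp n m h ≡ 0 [MOD m] :=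
  (Nat.chineseRemainder h 1 0).2.2

theorem dvd_crtExp (n m : ℕ) (h : Nat.Coprime n m) : m ∣ crtExp n m h :=
  (Nat.modEq_zero_iff_dvd).1 (crtExp_modEq_zero n m h)

variable {G : Type*} [Group G]

/-- `(g ^ u) ^ n = 1` when `g ^ (n * m) = 1`. -/
theorem pow_crtExp_pow (n m : ℕ) (h : Nat.Coprime n m) (g : G) (hg : g ^ (n * m) = 1) :
    (g ^ crtExp n m h) ^ n = 1 := by
  obtain ⟨c, hc⟩ := dvd_crtExp n m h
  rw [← pow_mul, hc, mul_comm m c, mul_assoc, mul_comm m n, mul_comm c, pow_mul, hg, one_pow]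

/-- `g ^ u = g` when `g ^ n = 1`. -/
theorem pow_crtExp_of_pow_eq_one (n m : ℕ) (h : Nat.Coprime n m) (g : G) (hg : g ^ n = 1) :
    g ^ crtExp n m h = g := by
  have h1 : crtExp n m h ≡ 1 [MOD orderOf g] :=
    (crtExp_modEq_one n m h).of_dvd (orderOf_dvd_of_pow_eq_one hg)
  have := (pow_eq_pow_iff_modEq (x := g)).2 h1
  rw [pow_one] at this
  exact this

/-- `g ^ u = 1` when `g ^ m = 1`. -/
theorem pow_crtExp_of_pow_eq_one' (n m : ℕ) (h : Nat.Coprime n m) (g : G) (hg : g ^ m = 1) :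
    g ^ crtExp n m h = 1 := by
  obtain ⟨c, hc⟩ := dvd_crtExp n m h
  rw [hc, pow_mul, hg, one_pow]

theorem conj_pow_crtExp (n m : ℕ) (h : Nat.Coprime n m) (t g : G) :
    (t * g * t⁻¹) ^ crtExp n m h = t * g ^ crtExp n m h * t⁻¹ :=
  conj_pow

/-- On a `p`-elementary group the power map `e ↦ e ^ u` is multiplicative if `u ≡ 1` or `u ≡ 0`
modulo the `p`-part of the order. -/
theorem mul_pow_of_isElementary {E : Type*} [Group E] [Finite E] {p : ℕ} (hp : p.Prime)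
    (hE : IsElementary p E) (u : ℕ)
    (hu : (∀ y : E, (∃ j, y ^ (p ^ j) = 1) → y ^ u = y) ∨ (∀ y : E, (∃ j, y ^ (p ^ j) = 1) → y ^ u = 1))
    (a b : E) : (a * b) ^ u = a ^ u * b ^ u := by
  classical
  haveI : Fact p.Prime := ⟨hp⟩
  obtain ⟨z, hz, hcop, k, hk⟩ := hE
  set Z : Subgroup E := Subgroup.zpowers z with hZ
  obtain ⟨P⟩ : Nonempty (Sylow p E) := inferInstance
  have hZcard : Nat.card Z = orderOf z := Nat.card_zpowers z
  have hZnp : ¬ p ∣ Nat.card Z := by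
    rw [hZcard]
    intro h
    have := Nat.dvd_gcd h (dvd_refl p)
    rw [hcop] at this
    exact hp.one_lt.ne' (Nat.dvd_one.1 this)
  have hPcard : Nat.card P = p ^ k := by
    rw [Sylow.card_eq_multiplicity, ← Subgroup.card_mul_index Z, hk,
      Nat.factorization_mul (Nat.card_pos.ne') (pow_ne_zero _ hp.ne_zero), Finsupp.add_apply,
      Nat.factorization_eq_zero_of_not_dvd hZnp, hp.factorization_pow]
    simp
  have hcopZP : Nat.Coprime (Nat.card Z) (Nat.card (P : Subgroup E)) := by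
    rw [hPcard, hZcard]; exact Nat.Coprime.pow_right k hcop
  have hcompl : Subgroup.IsComplement' Z (P : Subgroup E) :=
    Subgroup.isComplement'_of_coprime (by rw [hPcard, ← hk, Subgroup.card_mul_index]) hcopZP
  have hZcen : ∀ w ∈ Z, ∀ e : E, e * w = w * e := by
    intro w hw e
    obtain ⟨i, rfl⟩ := Subgroup.mem_zpowers_iff.1 hw
    exact Subgroup.mem_center_iff.1 (zpow_mem hz i) e
  have hPpow : ∀ y ∈ (P : Subgroup E), ∃ j, y ^ (p ^ j) = 1 := by
    intro y hy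
    obtain ⟨j, hj⟩ := P.isPGroup' ⟨y, hy⟩
    exact ⟨j, by simpa using congrArg (fun w : (P : Subgroup E) => (w : E)) hj⟩
  -- decompose
  obtain ⟨⟨z₁, y₁⟩, h1⟩ := hcompl.2 a
  obtain ⟨⟨z₂, y₂⟩, h2⟩ := hcompl.2 b
  simp only at h1 h2
  have hPmul : ((y₁ : E) * y₂) ^ u = (y₁ : E) ^ u * (y₂ : E) ^ u := by
    rcases hu with hu | hu
    · rw [hu _ (hPpow _ ((P : Subgroup E).mul_mem y₁.2 y₂.2)), hu _ (hPpow _ y₁.2),
        hu _ (hPpow _ y₂.2)]
    · rw [hu _ (hPpow _ ((P : Subgroup E).mul_mem y₁.2 y₂.2)), hu _ (hPpow _ y₁.2),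
        hu _ (hPpow _ y₂.2), one_mul]
  have hc1 : Commute (z₁ : E) (y₁ : E) := (hZcen z₁ z₁.2 y₁).symm
  have hc2 : Commute (z₂ : E) (y₂ : E) := (hZcen z₂ z₂.2 y₂).symm
  have hc12 : Commute (z₁ : E) (z₂ : E) := (hZcen z₁ z₁.2 z₂).symm
  have hab : a * b = ((z₁ : E) * z₂) * ((y₁ : E) * y₂) := by
    rw [← h1, ← h2]
    have := hZcen z₂ z₂.2 y₁
    calc (z₁ : E) * y₁ * (z₂ * y₂) = z₁ * (y₁ * z₂) * y₂ := by group
      _ = z₁ * (z₂ * y₁) * y₂ := by rw [this]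
      _ = _ := by group
  have hc3 : Commute ((z₁ : E) * z₂) ((y₁ : E) * y₂) :=
    (hZcen _ (Z.mul_mem z₁.2 z₂.2) _).symm
  rw [hab, hc3.mul_pow, hc12.mul_pow, hPmul, ← h1, ← h2, hc1.mul_pow, hc2.mul_pow]
  have h3 : Commute ((y₁ : E) ^ u) ((z₂ : E) ^ u) := by
    have : Commute (y₁ : E) (z₂ : E) := hZcen z₂ z₂.2 y₁
    exact this.pow_pow u u
  calc (z₁ : E) ^ u * (z₂ : E) ^ u * ((y₁ : E) ^ u * (y₂ : E) ^ u)
      = (z₁ : E) ^ u * ((z₂ : E) ^ u * (y₁ : E) ^ u) * (y₂ : E) ^ u := by group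
    _ = (z₁ : E) ^ u * ((y₁ : E) ^ u * (z₂ : E) ^ u) * (y₂ : E) ^ u := by rw [h3.eq]
    _ = _ := by group

end Cfsg.Agent.Lib.Helper15_PiPart
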