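import Mathlib
import Cfsg.Prelude.Def_Characters
import Cfsg.Agent.Lib.Helper15_PiPart
import Cfsg.Agent.Lib.Helper15_Brauer

set_option autoImplicit false

namespace Cfsg.Agent.Lib.Helper15_HallTilde

open Cfsg
open Cfsg.Agent.Lib.Helper15_PiPart Cfsg.Agent.Lib.Helper15_Brauer
  Cfsg.Agent.Lib.Helper3_Elementary Cfsg.Agent.Lib.Helper75_CharArith
  Cfsg.Agent.Lib.Helper3_CharBridge

universe u

variable {G : Type u} [Group G]

/-- A subgroup all of whose elements have order dividing `n`, in a group of order `n * m` with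
`n`, `m` coprime, has order dividing `n`. -/
theorem card_dvd_of_forall_pow_eq_one [Finite G] {n m : ℕ} (hcard : Nat.card G = n * m)
    (hcop : Nat.Coprime n m) (K : Subgroup G) (hK : ∀ x ∈ K, x ^ n = 1) : Nat.card K ∣ n := by
  have h1 : Nat.card K ∣ n * m := hcard ▸ Subgroup.card_subgroup_dvd_card K
  have h2 : Nat.Coprime (Nat.card K) m := by
    apply Nat.coprime_of_dvd
    intro q hq hqK hqm
    haveI : Fact q.Prime := ⟨hq⟩
    obtain ⟨x, hx⟩ := exists_prime_orderOf_dvd_card' q hqK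
    have h3 : (x : G) ^ n = 1 := hK x x.2
    have h4 : orderOf (x : G) ∣ n := orderOf_dvd_of_pow_eq_one h3
    rw [Subgroup.orderOf_coe, hx] at h4
    have := Nat.dvd_gcd h4 hqm
    rw [hcop] at this
    exact hq.one_lt.ne' (Nat.dvd_one.1 this)
  exact h2.dvd_of_dvd_mul_right h1

/-- A cyclic group is `p`-elementary for every prime `p` not dividing its order. -/
theorem isElementary_zpowers [Finite G] (x : G) :
    ∃ p : ℕ, p.Prime ∧ IsElementary p (Subgroup.zpowers x) := by
  obtain ⟨p, hp1, hp⟩ := Nat.exists_infinite_primes (orderOf x + 1)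
  refine ⟨p, hp, ⟨x, Subgroup.mem_zpowers x⟩, ?_, ?_, 0, ?_⟩
  · rw [Subgroup.mem_center_iff]
    intro y
    apply Subtype.ext
    obtain ⟨i, hi⟩ := Subgroup.mem_zpowers_iff.1 y.2
    simp only [Subgroup.coe_mul]
    rw [← hi]
    exact ((Commute.refl x).zpow_left i).eq
  · rw [← Subgroup.orderOf_coe]
    simp only
    apply Nat.Coprime.symm
    rw [Nat.Prime.coprime_iff_not_dvd hp]
    intro hdvd
    have := Nat.le_of_dvd (orderOf_pos x) hdvd
    omega
  · rw [pow_zero, Subgroup.index_eq_one]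
    rw [eq_top_iff]
    intro y _
    obtain ⟨i, hi⟩ := Subgroup.mem_zpowers_iff.1 y.2
    rw [Subgroup.mem_zpowers_iff]
    exact ⟨i, Subtype.ext (by simpa using hi)⟩

section tilde

variable (H : Subgroup G)

/-- The extension of a class function on a Hall subgroup via `π`-parts. -/
noncomputable def tilde (w : ℕ) (ψ : H → ℂ) (g : G) : ℂ :=
  open Classical in
  if h : ∃ t : G, t * g ^ w * t⁻¹ ∈ H then ψ ⟨_, h.choose_spec⟩ else 0

variable {H}

theorem tilde_eq (hfus : ∀ x ∈ H, ∀ y ∈ H, IsConj x y → ∃ h ∈ H, h * x * h⁻¹ = y) (w : ℕ)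
    {ψ : H → ℂ} (hψ : IsClassFunction H ψ) {g t : G} (ht : t * g ^ w * t⁻¹ ∈ H) :
    tilde H w ψ g = ψ ⟨t * g ^ w * t⁻¹, ht⟩ := by
  classical
  have hex : ∃ t : G, t * g ^ w * t⁻¹ ∈ H := ⟨t, ht⟩
  unfold tilde
  rw [dif_pos hex]
  set t' := hex.choose with ht'
  have hmem : t' * g ^ w * t'⁻¹ ∈ H := hex.choose_spec
  have hconj : IsConj (t' * g ^ w * t'⁻¹) (t * g ^ w * t⁻¹) := by
    rw [isConj_iff]
    refine ⟨t * t'⁻¹, ?_⟩
    group
  obtain ⟨h, hh, hh2⟩ := hfus _ hmem _ ht hconj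
  have h1 := hψ ⟨t' * g ^ w * t'⁻¹, hmem⟩ ⟨h, hh⟩
  rw [← h1]
  congr 1
  apply Subtype.ext
  exact hh2

end tilde


/-- The hypotheses of the Brauer–Suzuki theorem on Hall subgroups. -/
structure HallData (H : Subgroup G) : Prop where
  cop : Nat.Coprime (Nat.card H) H.index
  fus : ∀ x ∈ H, ∀ y ∈ H, IsConj x y → ∃ h ∈ H, h * x * h⁻¹ = y
  elem : ∀ (E : Subgroup G) (p : ℕ), p.Prime → IsElementary p E → Nat.card E ∣ Nat.card H →
    ∃ g : G, E.map (MulAut.conj g).toMonoidHom ≤ H

namespace HallData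

variable {H : Subgroup G} (hD : HallData H)

/-- The exponent projecting onto the `π`-part. -/
noncomputable def w (hD : HallData H) : ℕ := crtExp (Nat.card H) H.index hD.cop

include hD

theorem pow_w_pow [Finite G] (g : G) : (g ^ hD.w) ^ Nat.card H = 1 := by
  apply pow_crtExp_pow
  rw [Subgroup.card_mul_index]
  exact pow_card_eq_one'

theorem pow_w_of_pow_eq_one (g : G) (hg : g ^ Nat.card H = 1) : g ^ hD.w = g :=
  pow_crtExp_of_pow_eq_one _ _ hD.cop g hg

theorem pow_w_of_mem [Finite G] {h : G} (hh : h ∈ H) : h ^ hD.w = h := by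
  apply hD.pow_w_of_pow_eq_one
  have := pow_card_eq_one' (G := H) (x := ⟨h, hh⟩)
  exact congrArg (fun x : H => (x : G)) this

theorem exists_conj [Finite G] (x : G) (hx : x ^ Nat.card H = 1) : ∃ t : G, t * x * t⁻¹ ∈ H := by
  obtain ⟨p, hp, hE⟩ := isElementary_zpowers x
  have hdiv : Nat.card (Subgroup.zpowers x) ∣ Nat.card H := by
    rw [Nat.card_zpowers]
    exact orderOf_dvd_of_pow_eq_one hx
  obtain ⟨g, hg⟩ := hD.elem _ p hp hE hdiv
  refine ⟨g, hg ⟨x, Subgroup.mem_zpowers x, ?_⟩⟩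
  simp [MulAut.conj_apply]

theorem exists_conj_pow [Finite G] (g : G) : ∃ t : G, t * g ^ hD.w * t⁻¹ ∈ H :=
  hD.exists_conj _ (hD.pow_w_pow g)

theorem tilde_isClassFunction [Finite G] {ψ : H → ℂ} (hψ : IsClassFunction H ψ) :
    IsClassFunction G (tilde H hD.w ψ) := by
  intro g s
  obtain ⟨t, ht⟩ := hD.exists_conj_pow g
  have h1 : (t * s⁻¹) * (s * g * s⁻¹) ^ hD.w * (t * s⁻¹)⁻¹ = t * g ^ hD.w * t⁻¹ := by
    rw [conj_pow]; group
  have ht' : (t * s⁻¹) * (s * g * s⁻¹) ^ hD.w * (t * s⁻¹)⁻¹ ∈ H := by rw [h1]; exact ht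
  rw [tilde_eq hD.fus hD.w hψ ht', tilde_eq hD.fus hD.w hψ ht]
  congr 1
  exact Subtype.ext h1

theorem tilde_of_mem [Finite G] {ψ : H → ℂ} (hψ : IsClassFunction H ψ) (h : H) :
    tilde H hD.w ψ h = ψ h := by
  have h1 : (1 : G) * (h : G) ^ hD.w * (1 : G)⁻¹ = h := by
    rw [hD.pow_w_of_mem h.2]; group
  have ht : (1 : G) * (h : G) ^ hD.w * (1 : G)⁻¹ ∈ H := by rw [h1]; exact h.2
  rw [tilde_eq hD.fus hD.w hψ ht]
  congr 1
  exact Subtype.ext h1

/-- The restriction of `ψ̃` to an elementary subgroup is a character. -/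
theorem tilde_res_isCharacter [Finite G] {ψ : H → ℂ} (hψ : IsCharacter H ψ) (E : Subgroup G)
    (p : ℕ) (hp : p.Prime) (hE : IsElementary p E) :
    IsCharacter E (fun e : E => tilde H hD.w ψ e) := by
  classical
  have hcardG : Nat.card G = Nat.card H * H.index := (Subgroup.card_mul_index H).symm
  have hu : (∀ y : E, (∃ j, y ^ (p ^ j) = 1) → y ^ hD.w = y) ∨
      (∀ y : E, (∃ j, y ^ (p ^ j) = 1) → y ^ hD.w = 1) := by
    by_cases hpn : p ∣ Nat.card H
    · left
      rintro y ⟨j, hj⟩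
      apply Subtype.ext
      rw [Subgroup.coe_pow]
      apply hD.pow_w_of_pow_eq_one
      have h1 : orderOf (y : G) ∣ p ^ j := by
        apply orderOf_dvd_of_pow_eq_one
        exact_mod_cast congrArg (fun x : E => (x : G)) hj
      have h2 : orderOf (y : G) ∣ Nat.card H * H.index := hcardG ▸ orderOf_dvd_natCard (y : G)
      have h3 : Nat.Coprime (orderOf (y : G)) H.index := by
        apply Nat.Coprime.coprime_dvd_left h1
        apply Nat.Coprime.pow_left
        rw [Nat.Prime.coprime_iff_not_dvd hp]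
        intro hpm
        have := Nat.dvd_gcd hpn hpm
        rw [hD.cop] at this
        exact hp.one_lt.ne' (Nat.dvd_one.1 this)
      have h4 : orderOf (y : G) ∣ Nat.card H := h3.dvd_of_dvd_mul_right h2
      obtain ⟨c, hc⟩ := h4
      rw [hc, pow_mul, pow_orderOf_eq_one, one_pow]
    · right
      rintro y ⟨j, hj⟩
      apply Subtype.ext
      rw [Subgroup.coe_pow, Subgroup.coe_one]
      apply pow_crtExp_of_pow_eq_one'
      have h1 : orderOf (y : G) ∣ p ^ j := by
        apply orderOf_dvd_of_pow_eq_one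
        exact_mod_cast congrArg (fun x : E => (x : G)) hj
      have h2 : orderOf (y : G) ∣ Nat.card H * H.index := hcardG ▸ orderOf_dvd_natCard (y : G)
      have h3 : Nat.Coprime (orderOf (y : G)) (Nat.card H) := by
        apply Nat.Coprime.coprime_dvd_left h1
        apply Nat.Coprime.pow_left
        rw [Nat.Prime.coprime_iff_not_dvd hp]
        exact hpn
      have h4 : orderOf (y : G) ∣ H.index := h3.dvd_of_dvd_mul_left h2
      obtain ⟨c, hc⟩ := h4
      rw [hc, pow_mul, pow_orderOf_eq_one, one_pow]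
  have hmul : ∀ a b : E, (a * b) ^ hD.w = a ^ hD.w * b ^ hD.w :=
    mul_pow_of_isElementary hp hE hD.w hu
  let powHom : E →* E :=
    { toFun := fun e => e ^ hD.w
      map_one' := one_pow _
      map_mul' := hmul }
  set Eπ : Subgroup G := powHom.range.map E.subtype with hEπ
  have hEπel : IsElementary p Eπ :=
    isElementary_map_subtype E powHom.range (isElementary_subgroup hp hE powHom.range)
  have hEπpow : ∀ x ∈ Eπ, x ^ Nat.card H = 1 := by
    rintro _ ⟨_, ⟨e, rfl⟩, rfl⟩
    show ((e ^ hD.w : E) : G) ^ Nat.card H = 1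
    rw [Subgroup.coe_pow]
    exact hD.pow_w_pow (e : G)
  have hEπcard : Nat.card Eπ ∣ Nat.card H :=
    card_dvd_of_forall_pow_eq_one hcardG hD.cop Eπ hEπpow
  obtain ⟨t, ht⟩ := hD.elem Eπ p hp hEπel hEπcard
  have hmem : ∀ e : E, t * (e : G) ^ hD.w * t⁻¹ ∈ H := by
    intro e
    apply ht
    refine ⟨(e : G) ^ hD.w, ⟨e ^ hD.w, ⟨e, rfl⟩, by simp⟩, ?_⟩
    simp [MulAut.conj_apply]
  let f : E →* H :=
    { toFun := fun e => ⟨t * (e : G) ^ hD.w * t⁻¹, hmem e⟩
      map_one' := by
        apply Subtype.ext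
        simp
      map_mul' := by
        intro a b
        apply Subtype.ext
        have := congrArg (fun x : E => (x : G)) (hmul a b)
        simp only [Subgroup.coe_pow, Subgroup.coe_mul] at this
        simp only [Subgroup.coe_mul]
        rw [this]
        group }
  have hfun : (fun e : E => tilde H hD.w ψ e) = fun e => ψ (f e) := by
    funext e
    exact tilde_eq hD.fus hD.w (isClassFunction_of_isCharacter hψ) (hmem e)
  rw [hfun]
  exact isCharacter_comp f hψ

/-- `ψ̃` is a generalized character. -/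
theorem tilde_isGeneralizedCharacter [Fintype G] {ψ : H → ℂ} (hψ : IsCharacter H ψ) :
    IsGeneralizedCharacter G (tilde H hD.w ψ) := by
  apply isGeneralizedCharacter_of_elementary _
    (hD.tilde_isClassFunction (isClassFunction_of_isCharacter hψ))
  intro E p hp hE
  exact ⟨_, 0, hD.tilde_res_isCharacter hψ E p hp hE, isCharacter_zero, by simp⟩

end HallData

end Cfsg.Agent.Lib.Helper15_HallTilde
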