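import Mathlib
import Cfsg.Prelude.Def_Characters
import Cfsg.Agent.Lib.Helper3_CharBridge
import Cfsg.Agent.Lib.Helper3_CharOrtho
import Cfsg.Agent.Lib.Helper3_CharComplete
import Cfsg.Agent.Lib.Helper3_CharColumn
import Cfsg.Agent.Lib.Helper75_CharArith
import Cfsg.Agent.Lib.Helper80_CharBasic
import Cfsg.Agent.Lib.Helper75_Induced
import Cfsg.Prelude.Def_OddOrderChar

/-!
# Characters of a group with a "Frobenius-type" normal subgroup (helper57)

General character lemmas (inflation, generalized characters of norm one, the regular character),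
and: if `M` is a normal subgroup of the finite group `L` such that no element outside `M` commutes
with a nonidentity element of `M`, then every irreducible character of `L` which is not constant
on `M` vanishes off `M`.
-/

set_option autoImplicit false
set_option linter.unusedSectionVars false

namespace Cfsg.Agent.Lib.Helper57_FrobNorm

open scoped ComplexConjugate
open Cfsg.Agent.Lib.Helper3_CharBridge Cfsg.Agent.Lib.Helper3_CharOrtho
  Cfsg.Agent.Lib.Helper3_CharComplete Cfsg.Agent.Lib.Helper3_CharColumn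
  Cfsg.Agent.Lib.Helper75_CharArith

section Inflation

variable {H H' : Type*} [Group H] [Group H']

/-- Subrepresentations of the composite of a representation with a surjective homomorphism. -/
def subrepEquivComp {W : Type*} [AddCommGroup W] [Module ℂ W] (τ : Representation ℂ H W)
    (f : H' →* H) (hf : Function.Surjective f) :
    Subrepresentation (τ.comp f) ≃o Subrepresentation τ where
  toFun U := ⟨U.toSubmodule, fun g v hv => by
    obtain ⟨g', rfl⟩ := hf g
    exact U.apply_mem_toSubmodule g' hv⟩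
  invFun U := ⟨U.toSubmodule, fun g' v hv => U.apply_mem_toSubmodule (f g') hv⟩
  left_inv _ := rfl
  right_inv _ := rfl
  map_rel_iff' := Iff.rfl

/-- Inflation of an irreducible character along a surjective homomorphism is irreducible. -/
theorem isIrrCharacter_comp_surjective (f : H' →* H) (hf : Function.Surjective f) {χ : H → ℂ}
    (hχ : Cfsg.IsIrrCharacter H χ) : Cfsg.IsIrrCharacter H' (fun x => χ (f x)) := by
  obtain ⟨n, ρ, hρ, rfl⟩ := hχ
  refine ⟨n, ρ.comp f, ?_, rfl⟩
  exact (subrepEquivComp ρ f hf).isSimpleOrder_iff.mpr hρ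

end Inflation

section General

variable {G : Type*} [Group G] [Fintype G]

theorem isClassFunction_of_isGeneralizedCharacter {θ : G → ℂ}
    (hθ : Cfsg.IsGeneralizedCharacter G θ) : Cfsg.IsClassFunction G θ := by
  obtain ⟨χ, ψ, hχ, hψ, rfl⟩ := hθ
  exact isClassFunction_sub (isClassFunction_of_isCharacter hχ) (isClassFunction_of_isCharacter hψ)

/-- The inner product of a generalized character with a character is an integer. -/
theorem classInner_genChar_int {θ φ : G → ℂ} (hθ : Cfsg.IsGeneralizedCharacter G θ)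
    (hφ : Cfsg.IsCharacter G φ) : ∃ z : ℤ, Cfsg.classInner θ φ = z := by
  obtain ⟨χ, ψ, hχ, hψ, rfl⟩ := hθ
  obtain ⟨a, ha⟩ := classInner_isCharacter_nat hχ hφ
  obtain ⟨b, hb⟩ := classInner_isCharacter_nat hψ hφ
  refine ⟨(a : ℤ) - b, ?_⟩
  rw [classInner_sub_left, ha, hb]
  push_cast
  ring

/-- A generalized character of norm one which is not orthogonal to the irreducible character `ψ`
is `ψ` or `-ψ`. -/
theorem eq_or_eq_neg_of_norm_one {θ ψ : G → ℂ} (hθ : Cfsg.IsGeneralizedCharacter G θ)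
    (h1 : Cfsg.classInner θ θ = 1) (hψ : Cfsg.IsIrrCharacter G ψ)
    (hne : Cfsg.classInner θ ψ ≠ 0) : θ = ψ ∨ θ = -ψ := by
  classical
  have hcf := isClassFunction_of_isGeneralizedCharacter hθ
  have hz : ∀ φ : Cfsg.IrrCharacter G, ∃ z : ℤ, Cfsg.classInner θ (φ : G → ℂ) = z := fun φ =>
    classInner_genChar_int hθ (isCharacter_of_isIrrCharacter φ.2)
  choose z hz using hz
  have hP := classInner_self_eq_sum hcf
  rw [h1] at hP
  have hP' : (1 : ℤ) = ∑ φ : Cfsg.IrrCharacter G, z φ * z φ := by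
    have : ((1 : ℤ) : ℂ) = ((∑ φ : Cfsg.IrrCharacter G, z φ * z φ : ℤ) : ℂ) := by
      push_cast
      rw [hP]
      refine Finset.sum_congr rfl (fun φ _ => ?_)
      rw [hz φ, map_intCast]
    exact_mod_cast this
  set ψ' : Cfsg.IrrCharacter G := ⟨ψ, hψ⟩ with hψ'
  have hzψ : z ψ' ≠ 0 := by
    intro h0
    apply hne
    have := hz ψ'
    rw [h0] at this
    simpa using this
  rw [← Finset.add_sum_erase _ _ (Finset.mem_univ ψ')] at hP'
  have hnn : ∀ φ ∈ (Finset.univ : Finset (Cfsg.IrrCharacter G)).erase ψ', 0 ≤ z φ * z φ :=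
    fun φ _ => mul_self_nonneg _
  have hsum_nn := Finset.sum_nonneg hnn
  have hsq : 1 ≤ z ψ' * z ψ' := by
    have h := mul_self_nonneg (z ψ')
    have hne' : z ψ' * z ψ' ≠ 0 := mul_self_ne_zero.mpr hzψ
    omega
  have hrest : ∑ φ ∈ (Finset.univ : Finset (Cfsg.IrrCharacter G)).erase ψ', z φ * z φ = 0 := by
    omega
  have hzero : ∀ φ : Cfsg.IrrCharacter G, φ ≠ ψ' → z φ = 0 := by
    intro φ hφ
    have := (Finset.sum_eq_zero_iff_of_nonneg hnn).mp hrest φ
      (Finset.mem_erase.mpr ⟨hφ, Finset.mem_univ _⟩)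
    exact mul_self_eq_zero.mp this
  have hone : z ψ' * z ψ' = 1 := by omega
  have hexp := classFunction_eq_sum θ hcf
  rw [Finset.sum_eq_single ψ'] at hexp
  · rw [hz ψ'] at hexp
    rcases Int.eq_one_or_neg_one_of_mul_eq_one hone with h | h  -- z ψ' = 1 ∨ z ψ' = -1
    · left
      rw [hexp, h]
      simp [hψ']
    · right
      rw [hexp, h]
      simp [hψ']
  · intro φ _ hφ
    rw [hz φ, hzero φ hφ]
    simp
  · intro h
    exact absurd (Finset.mem_univ _) h

/-- The regular character vanishes off the identity: `∑ φ(1) φ(g) = 0` for `g ≠ 1`. -/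
theorem sum_irr_one_mul_eq_zero {g : G} (hg : g ≠ 1) :
    ∑ φ : Cfsg.IrrCharacter G, (φ : G → ℂ) 1 * (φ : G → ℂ) g = 0 := by
  classical
  have h := column_orthogonality g (1 : G)
  rw [if_neg (by rw [isConj_one_left]; exact hg)] at h
  rw [← h]
  refine Finset.sum_congr rfl (fun φ _ => ?_)
  obtain ⟨n, _, hn⟩ := irr_one_eq_natCast φ.2
  rw [hn, Complex.conj_natCast, mul_comm]

/-- A nonprincipal irreducible character sums to zero. -/
theorem sum_irr_eq_zero_of_ne_one {χ : G → ℂ} (hχ : Cfsg.IsIrrCharacter G χ)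
    (hne : χ ≠ fun _ => 1) : ∑ x : G, χ x = 0 := by
  have h := classInner_of_isIrrCharacter_of_ne hχ
    (Cfsg.Agent.Lib.Helper80_CharBasic.isIrrCharacter_one G) hne
  unfold Cfsg.classInner at h
  have hG : (Nat.card G : ℂ) ≠ 0 := card_ne_zero_complex
  have h2 : ∑ g : G, χ g * conj (1 : ℂ) = 0 := by
    rcases mul_eq_zero.mp h with h | h
    · exact absurd (inv_eq_zero.mp h) hG
    · exact h
  simpa using h2

end General

section Frobenius

variable {L : Type*} [Group L] [Fintype L] (M : Subgroup L) [M.Normal]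

/-- If no element outside `M` commutes with a nonidentity element of `M`, the centralizer of an
element `x ∉ M` embeds into the centralizer of its image modulo `M`. -/
theorem card_centralizer_le (hF : ∀ x : L, x ∉ M → ∀ k ∈ M, x * k = k * x → k = 1)
    {x : L} (hx : x ∉ M) :
    Nat.card (Subgroup.centralizer ({x} : Set L)) ≤
      Nat.card (Subgroup.centralizer ({(QuotientGroup.mk x : L ⧸ M)} : Set (L ⧸ M))) := by
  have hmem : ∀ y : Subgroup.centralizer ({x} : Set L),
      (QuotientGroup.mk (y : L) : L ⧸ M) ∈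
        Subgroup.centralizer ({(QuotientGroup.mk x : L ⧸ M)} : Set (L ⧸ M)) := by
    intro y
    have := Subgroup.mem_centralizer_singleton_iff.mp y.2
    rw [Subgroup.mem_centralizer_singleton_iff, ← QuotientGroup.mk_mul, ← QuotientGroup.mk_mul,
      this]
  apply Nat.card_le_card_of_injective
    (fun y => (⟨_, hmem y⟩ :
      Subgroup.centralizer ({(QuotientGroup.mk x : L ⧸ M)} : Set (L ⧸ M))))
  intro y y' hyy'
  have h1 : (QuotientGroup.mk (y : L) : L ⧸ M) = QuotientGroup.mk (y' : L) :=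
    congrArg Subtype.val hyy'
  rw [QuotientGroup.eq] at h1
  have h2 : (y : L)⁻¹ * (y' : L) ∈ Subgroup.centralizer ({x} : Set L) :=
    (Subgroup.centralizer ({x} : Set L)).mul_mem
      ((Subgroup.centralizer ({x} : Set L)).inv_mem y.2) y'.2
  have h3 := Subgroup.mem_centralizer_singleton_iff.mp h2
  have := hF x hx _ h1 h3.symm
  exact Subtype.ext (inv_mul_eq_one.mp this)

/-- If no element outside the normal subgroup `M` commutes with a nonidentity element of `M`,
then an irreducible character of `L` which is not constant on `M` vanishes off `M`. -/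
theorem vanish_off (hF : ∀ x : L, x ∉ M → ∀ k ∈ M, x * k = k * x → k = 1) {χ : L → ℂ}
    (hχ : Cfsg.IsIrrCharacter L χ) (hk : ∃ k ∈ M, χ k ≠ χ 1) {x : L} (hx : x ∉ M) :
    χ x = 0 := by
  classical
  let _ : Fintype (L ⧸ M) := Fintype.ofFinite _
  let ι : Cfsg.IrrCharacter (L ⧸ M) → Cfsg.IrrCharacter L := fun ξ =>
    ⟨fun y => (ξ : L ⧸ M → ℂ) (QuotientGroup.mk' M y),
      isIrrCharacter_comp_surjective (QuotientGroup.mk' M) (QuotientGroup.mk'_surjective M) ξ.2⟩
  have hι : Function.Injective ι := by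
    intro ξ ξ' h
    apply Subtype.ext
    funext q
    obtain ⟨y, rfl⟩ := QuotientGroup.mk_surjective q
    exact congrFun (congrArg Subtype.val h) y
  have hχ' : (⟨χ, hχ⟩ : Cfsg.IrrCharacter L) ∉ Finset.univ.image ι := by
    intro h
    obtain ⟨ξ, -, hξ⟩ := Finset.mem_image.mp h
    obtain ⟨k, hkM, hk1⟩ := hk
    apply hk1
    have h1 : (ξ : L ⧸ M → ℂ) (QuotientGroup.mk' M k) = χ k :=
      congrFun (congrArg Subtype.val hξ) k
    have h2 : (ξ : L ⧸ M → ℂ) (QuotientGroup.mk' M 1) = χ 1 :=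
      congrFun (congrArg Subtype.val hξ) 1
    have h3 : QuotientGroup.mk' M k = QuotientGroup.mk' M 1 := by
      rw [map_one]
      exact (QuotientGroup.eq_one_iff k).mpr hkM
    rw [← h1, ← h2, h3]
  have hL := column_orthogonality_self x
  have hQ := column_orthogonality_self (QuotientGroup.mk x : L ⧸ M)
  have hL' : ∑ φ : Cfsg.IrrCharacter L, Complex.normSq ((φ : L → ℂ) x) =
      (Nat.card (Subgroup.centralizer ({x} : Set L)) : ℝ) := by
    have : ((∑ φ : Cfsg.IrrCharacter L, Complex.normSq ((φ : L → ℂ) x) : ℝ) : ℂ) =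
        (((Nat.card (Subgroup.centralizer ({x} : Set L)) : ℕ) : ℝ) : ℂ) := by
      push_cast
      rw [← hL]
      refine Finset.sum_congr rfl (fun φ _ => ?_)
      rw [Complex.mul_conj]
    exact_mod_cast this
  have hQ' : ∑ ξ : Cfsg.IrrCharacter (L ⧸ M),
      Complex.normSq ((ξ : L ⧸ M → ℂ) (QuotientGroup.mk x)) =
      (Nat.card (Subgroup.centralizer ({(QuotientGroup.mk x : L ⧸ M)} : Set (L ⧸ M))) : ℝ) := by
    have : ((∑ ξ : Cfsg.IrrCharacter (L ⧸ M),
        Complex.normSq ((ξ : L ⧸ M → ℂ) (QuotientGroup.mk x)) : ℝ) : ℂ) =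
        (((Nat.card (Subgroup.centralizer ({(QuotientGroup.mk x : L ⧸ M)} : Set (L ⧸ M))) : ℕ) :
          ℝ) : ℂ) := by
      push_cast
      rw [← hQ]
      refine Finset.sum_congr rfl (fun φ _ => ?_)
      rw [Complex.mul_conj]
    exact_mod_cast this
  have hsub : Complex.normSq (χ x) + ∑ ξ : Cfsg.IrrCharacter (L ⧸ M),
      Complex.normSq ((ξ : L ⧸ M → ℂ) (QuotientGroup.mk x)) ≤
      ∑ φ : Cfsg.IrrCharacter L, Complex.normSq ((φ : L → ℂ) x) := by
    calc Complex.normSq (χ x) + ∑ ξ : Cfsg.IrrCharacter (L ⧸ M),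
          Complex.normSq ((ξ : L ⧸ M → ℂ) (QuotientGroup.mk x))
        = ∑ φ ∈ insert (⟨χ, hχ⟩ : Cfsg.IrrCharacter L) (Finset.univ.image ι),
            Complex.normSq ((φ : L → ℂ) x) := by
          rw [Finset.sum_insert hχ', Finset.sum_image (fun a _ b _ h => hι h)]
          rfl
      _ ≤ _ := Finset.sum_le_sum_of_subset_of_nonneg (Finset.subset_univ _)
          (fun _ _ _ => Complex.normSq_nonneg _)
  have hle := card_centralizer_le M hF hx
  have hle' : (Nat.card (Subgroup.centralizer ({x} : Set L)) : ℝ) ≤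
      (Nat.card (Subgroup.centralizer ({(QuotientGroup.mk x : L ⧸ M)} : Set (L ⧸ M))) : ℝ) := by
    exact_mod_cast hle
  have h0 : Complex.normSq (χ x) ≤ 0 := by linarith
  exact Complex.normSq_eq_zero.mp (le_antisymm h0 (Complex.normSq_nonneg _))

end Frobenius

section Coherence

variable {G : Type*} [Group G] [Fintype G]

theorem zsmul_eq_complex_smul {X : Type*} (z : ℤ) (f : X → ℂ) : z • f = (z : ℂ) • f := by
  funext x
  simp

theorem classInner_zsmul_left (z : ℤ) (φ ψ : G → ℂ) :
    Cfsg.classInner (z • φ) ψ = (z : ℂ) * Cfsg.classInner φ ψ := by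
  rw [zsmul_eq_complex_smul, classInner_smul_left]

theorem classInner_zsmul_right (z : ℤ) (φ ψ : G → ℂ) :
    Cfsg.classInner φ (z • ψ) = (z : ℂ) * Cfsg.classInner φ ψ := by
  rw [zsmul_eq_complex_smul, classInner_smul_right, map_intCast]

/-- The relevant characters of `N`: irreducible and not constant on `K`. -/
def relevant (N K : Subgroup G) : Set (↥N → ℂ) :=
  {χ : ↥N → ℂ | Cfsg.IsIrrCharacter ↥N χ ∧ ∃ k : ↥N, (k : G) ∈ K ∧ χ k ≠ χ 1}

variable (N K : Subgroup G) [Fintype ↥N]

/-- Relevant characters vanish off `K`. -/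
theorem relevant_vanish (hKN : K ≤ N) (hnorm : N ≤ Subgroup.normalizer (K : Set G))
    (hF : ∀ x ∈ N, x ∉ K → ∀ k ∈ K, x * k = k * x → k = 1) {χ : ↥N → ℂ}
    (hχ : χ ∈ relevant N K) {x : ↥N} (hx : (x : G) ∉ K) : χ x = 0 := by
  have hn : (K.subgroupOf N).Normal := (Subgroup.normal_subgroupOf_iff_le_normalizer hKN).mpr hnorm
  refine vanish_off (K.subgroupOf N) ?_ hχ.1 ?_ (x := x) ?_
  · intro y hy k hk hyk
    rw [Subgroup.mem_subgroupOf] at hy hk
    have := hF y y.2 hy k hk (by exact_mod_cast congrArg Subtype.val hyk)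
    exact Subtype.ext this
  · obtain ⟨k, hk, hk1⟩ := hχ.2
    exact ⟨k, Subgroup.mem_subgroupOf.mpr hk, hk1⟩
  · rwa [Subgroup.mem_subgroupOf]

/-- Relevant characters sum to zero. -/
theorem relevant_sum {χ : ↥N → ℂ} (hχ : χ ∈ relevant N K) : ∑ x : ↥N, χ x = 0 := by
  apply sum_irr_eq_zero_of_ne_one hχ.1
  intro h
  obtain ⟨k, -, hk1⟩ := hχ.2
  apply hk1
  rw [h]

/-- Irreducible characters which are not relevant are constant on `K`. -/
theorem eq_of_not_relevant {φ : ↥N → ℂ} (hφ : Cfsg.IsIrrCharacter ↥N φ)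
    (hφS : φ ∉ relevant N K) {k : ↥N} (hk : (k : G) ∈ K) : φ k = φ 1 := by
  by_contra h
  exact hφS ⟨hφ, k, hk, h⟩

variable {N K}

/-- `ξ(1) χ - χ(1) ξ` lies in the integer span of the relevant characters and vanishes at `1`. -/
theorem alpha_mem {χ ξ : ↥N → ℂ} (hχ : χ ∈ relevant N K) (hξ : ξ ∈ relevant N K) {m n : ℕ}
    (hm : ξ 1 = m) (hn : χ 1 = n) :
    ((m : ℤ) • χ + (-(n : ℤ)) • ξ) ∈
      Cfsg.zspanOn (relevant N K) ({1}ᶜ : Set ↥N) := by
  refine ⟨?_, ?_⟩
  · exact Submodule.add_mem _ (Submodule.smul_mem _ _ (Submodule.subset_span hχ))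
      (Submodule.smul_mem _ _ (Submodule.subset_span hξ))
  · intro x hx
    have hx1 : x = 1 := by
      by_contra h
      exact hx h
    subst hx1
    simp only [Pi.add_apply, Pi.smul_apply, hm, hn]
    simp
    ring

/-- Linearity of a linear isometry on the span, for combinations of two members. -/
theorem star_lin {S : Set (↥N → ℂ)} {star : (↥N → ℂ) → (G → ℂ)}
    (hstar : Cfsg.IsLinearIsometryOn (Cfsg.zspan S) star) {χ ξ : ↥N → ℂ} (hχ : χ ∈ S) (hξ : ξ ∈ S)
    (a b : ℤ) : star (a • χ + b • ξ) = a • star χ + b • star ξ := by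
  have hχ' : χ ∈ Cfsg.zspan S := Submodule.subset_span hχ
  have hξ' : ξ ∈ Cfsg.zspan S := Submodule.subset_span hξ
  have h1 : a • χ ∈ Cfsg.zspan S := Submodule.smul_mem _ _ hχ'
  have h2 : b • ξ ∈ Cfsg.zspan S := Submodule.smul_mem _ _ hξ'
  rw [hstar.1 _ h1 _ h2, hstar.2.1 _ hχ', hstar.2.1 _ hξ']

end Coherence

end Cfsg.Agent.Lib.Helper57_FrobNorm
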