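import Mathlib
import Cfsg.Prelude.Def_Characters
import Cfsg.Prelude.Def_Blocks
import Cfsg.Agent.Lib.Helper15_Brauer
import Cfsg.Agent.Lib.Helper75_Induced
import Cfsg.Agent.Lib.Helper75_CharProd
import Cfsg.Agent.Lib.Helper57_FrobNorm

/-!
# Class functions with algebraic-integer multiplicities; Brauer's characterization over `𝔸`
(helper15)
-/

set_option autoImplicit false

namespace Cfsg.Agent.Lib.Helper15_AlgIntChar

open Cfsg
open scoped ComplexConjugate
open Cfsg.Agent.Lib.Helper15_Brauer Cfsg.Agent.Lib.Helper3_CharBridge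
  Cfsg.Agent.Lib.Helper3_CharOrtho Cfsg.Agent.Lib.Helper3_CharComplete
  Cfsg.Agent.Lib.Helper75_CharArith Cfsg.Agent.Lib.Helper75_Induced
  Cfsg.Agent.Lib.Helper75_Clifford Cfsg.Agent.Lib.Helper75_CharProd

universe u

variable {G : Type u} [Group G] [Fintype G]

/-- A class function all of whose multiplicities are algebraic integers. -/
def IsAIComb (G : Type u) [Group G] [Fintype G] (θ : G → ℂ) : Prop :=
  IsClassFunction G θ ∧ ∀ χ : IrrCharacter G, classInner θ χ ∈ AlgInt

theorem IsAIComb.classInner_mem {θ : G → ℂ} (hθ : IsAIComb G θ) {ψ : G → ℂ}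
    (hψ : IsCharacter G ψ) : classInner θ ψ ∈ AlgInt := by
  rw [classInner_eq_sum_irr hθ.1 ψ]
  refine Subalgebra.sum_mem _ (fun χ _ => ?_)
  obtain ⟨k, hk⟩ := classInner_isCharacter_nat (isCharacter_of_isIrrCharacter χ.2) hψ
  rw [hk]
  exact Subalgebra.mul_mem _ (hθ.2 χ) (Subalgebra.natCast_mem _ k)

/-- **Brauer's characterization over the algebraic integers.** -/
theorem isAIComb_of_elementary (θ : G → ℂ) (hθ : IsClassFunction G θ)
    (hE : ∀ (E : Subgroup G) [Fintype E] (p : ℕ), p.Prime → IsElementary p E →
      IsAIComb E (fun e : E => θ e)) : IsAIComb G θ := by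
  classical
  have key : ∀ f ∈ ESpan G, ∀ χ : G → ℂ, IsCharacter G χ → classInner (f * θ) χ ∈ AlgInt := by
    intro f hf
    induction hf using AddSubgroup.closure_induction with
    | mem f hf =>
      obtain ⟨E, φ, ⟨p, hp, hEl⟩, hφ, rfl⟩ := hf
      intro χ hχ
      rw [indFun_mul E φ hθ, frobenius_reciprocity E _ χ (isClassFunction_of_isCharacter hχ)]
      have h1 : classInner (φ * res E θ) (fun h : E => χ h) =
          classInner (fun e : E => θ e) ((fun e => conj (φ e)) * res E χ) := by
        unfold classInner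
        congr 1
        refine Finset.sum_congr rfl (fun e _ => ?_)
        simp only [Pi.mul_apply, res, map_mul, Complex.conj_conj]
        ring
      rw [h1]
      exact (hE E p hp hEl).classInner_mem (isCharacter_mul (isCharacter_conj hφ)
        (isCharacter_res E hχ))
    | zero =>
      intro χ _
      rw [zero_mul, classInner_zero_left]
      exact Subalgebra.zero_mem _
    | add f g _ _ hf hg =>
      intro χ hχ
      rw [add_mul, classInner_add_left]
      exact Subalgebra.add_mem _ (hf χ hχ) (hg χ hχ)
    | neg f _ hf =>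
      intro χ hχ
      have : -f * θ = (-1 : ℂ) • (f * θ) := by
        funext g; simp
      rw [this, classInner_smul_left]
      exact Subalgebra.mul_mem _ (Subalgebra.neg_mem _ (Subalgebra.one_mem _)) (hf χ hχ)
  refine ⟨hθ, fun χ => ?_⟩
  have h := key _ (one_mem_ESpan (G := G)) χ (isCharacter_of_isIrrCharacter χ.2)
  have h1 : (fun _ : G => (1 : ℂ)) * θ = θ := by funext g; simp
  rwa [h1] at h

omit [Fintype G] in
/-- Composition with a surjective homomorphism preserves `IsAIComb`. -/
theorem isAIComb_comp_surjective [Fintype G] {B : Type u} [Group B] [Fintype B] (f : G →* B)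
    (hf : Function.Surjective f) {θ : B → ℂ} (hθ : IsAIComb B θ) :
    IsAIComb G (fun x => θ (f x)) := by
  classical
  have h1 := classFunction_eq_sum θ hθ.1
  have h2 : (fun x => θ (f x)) =
      ∑ β : IrrCharacter B, classInner θ β • (fun x => (β : B → ℂ) (f x)) := by
    funext x
    conv_lhs => rw [h1]
    simp [Finset.sum_apply]
  refine ⟨?_, fun χ => ?_⟩
  · intro g h
    simp only [map_mul, map_inv]
    exact hθ.1 (f g) (f h)
  · rw [h2, classInner_sum_left]
    refine Subalgebra.sum_mem _ (fun β _ => ?_)
    rw [classInner_smul_left]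
    refine Subalgebra.mul_mem _ (hθ.2 β) ?_
    rw [classInner_irr
      (Cfsg.Agent.Lib.Helper57_FrobNorm.isIrrCharacter_comp_surjective f hf β.2) χ.2]
    split_ifs
    · exact Subalgebra.one_mem _
    · exact Subalgebra.zero_mem _

end Cfsg.Agent.Lib.Helper15_AlgIntChar
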