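import Mathlib
import Cfsg.Prelude.Def_Characters
import Cfsg.Agent.Lib.Helper3_CharBridge
import Cfsg.Agent.Lib.Helper3_CharEigen
import Cfsg.Agent.Lib.Helper3_CharCenter
import Cfsg.Agent.Lib.Helper3_RepDecomp
import Cfsg.Agent.S0859

/-!
# Faithful irreducible representations: scalars, abelian normal subgroups, projections (helper80)

* `isCharacter_trace_proj`: the function `g ↦ tr (R g ∘ P)` is a character when `P` is an
  idempotent commuting with the representation `R`.
* `mem_center_of_scalar`: in a faithful representation, elements acting as scalars are central.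
* `abelian_normal_le_center`: for a faithful irreducible representation with primitive character,
  abelian normal subgroups are central.
* `char_eq_zero_of_comm_central`: `χ x = 0` if `b x b⁻¹ x⁻¹` is a nontrivial central element.
-/

set_option autoImplicit false
set_option linter.unusedSectionVars false

namespace Cfsg.Agent.Lib.Helper80_GalProdC

open Cfsg
open Cfsg.Agent.Lib.Helper3_CharBridge Cfsg.Agent.Lib.Helper3_RepDecomp

universe u

section proj

variable {G : Type u} [Group G] {E : Type*} [AddCommGroup E] [Module ℂ E] [FiniteDimensional ℂ E]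

theorem isCharacter_trace_proj (R : Representation ℂ G E) (P : E →ₗ[ℂ] E) (hP : P ∘ₗ P = P)
    (hcomm : ∀ g, R g ∘ₗ P = P ∘ₗ R g) :
    IsCharacter G (fun g => LinearMap.trace ℂ E (R g ∘ₗ P)) := by
  set W : Submodule ℂ E := LinearMap.range P with hWdef
  have hfix : ∀ w ∈ W, P w = w := by
    rintro _ ⟨x, rfl⟩
    have := LinearMap.congr_fun hP x
    simpa using this
  have hW : IsInv R W := by
    rintro g _ ⟨x, rfl⟩
    have := LinearMap.congr_fun (hcomm g) x
    simp only [LinearMap.comp_apply] at this
    rw [this]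
    exact ⟨_, rfl⟩
  have hchar := isCharacter_of_rep (subRep R W hW)
  have heq : (subRep R W hW).character = fun g => LinearMap.trace ℂ E (R g ∘ₗ P) := by
    funext g
    have hf : ∀ x, (R g ∘ₗ P) x ∈ W := by
      intro x
      rw [hcomm g]
      exact ⟨_, rfl⟩
    have hf' : ∀ x ∈ W, (R g ∘ₗ P) x ∈ W := fun x _ => hf x
    have h1 := LinearMap.trace_restrict_eq_of_forall_mem W (R g ∘ₗ P) hf hf'
    rw [← h1]
    unfold Representation.character
    congr 1
    apply LinearMap.ext
    intro w
    apply Subtype.ext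
    rw [subRep_apply, LinearMap.restrict_coe_apply, LinearMap.comp_apply, hfix w w.2]
  rw [← heq]
  exact hchar

end proj

section faithful

variable {G : Type u} [Group G] [Fintype G] {m : ℕ} (ρ : Representation ℂ G (Fin m → ℂ))

theorem char_eq_of_id {g : G} (h : ρ g = LinearMap.id) : ρ.character g = ρ.character 1 := by
  rw [(Cfsg.Agent.Lib.Helper3_CharEigen.char_eq_finrank_iff ρ g).2 h, Representation.char_one]

/-- In a faithful representation, elements acting as scalars are central. -/
theorem mem_center_of_scalar (hfaith : ∀ g : G, ρ.character g = ρ.character 1 → g = 1)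
    {a : G} {c : ℂ} (hc : ρ a = c • (LinearMap.id : (Fin m → ℂ) →ₗ[ℂ] (Fin m → ℂ))) :
    a ∈ Subgroup.center G := by
  rw [Subgroup.mem_center_iff]
  intro g
  have h1 : ρ (g * a * g⁻¹ * a⁻¹) = LinearMap.id := by
    have h2 : ρ g * ρ a = ρ a * ρ g := by
      rw [hc]
      apply LinearMap.ext
      intro v
      simp
    have h3 : ρ (g * a * g⁻¹ * a⁻¹) = ρ g * ρ a * ρ g⁻¹ * ρ a⁻¹ := by
      rw [map_mul, map_mul, map_mul]
    rw [h3, h2, mul_assoc (ρ a), ← map_mul, mul_inv_cancel, map_one, mul_one, ← map_mul,
      mul_inv_cancel, map_one]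
    rfl
  have h4 := hfaith _ (char_eq_of_id ρ h1)
  have h5 : g * a * g⁻¹ = a := by
    have := mul_inv_eq_one.mp h4
    exact this
  calc g * a = g * a * g⁻¹ * g := by group
    _ = a * g := by rw [h5]

open scoped Classical in
/-- Abelian normal subgroups are central (faithful, primitive). -/
theorem abelian_normal_le_center [hρ : ρ.IsIrreducible]
    (hfaith : ∀ g : G, ρ.character g = ρ.character 1 → g = 1)
    (hprim : Cfsg.Agent.S0859.Prim ρ.character) (A : Subgroup G) (hA : A.Normal)
    (hcomm : ∀ a ∈ A, ∀ b ∈ A, a * b = b * a) : A ≤ Subgroup.center G := by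
  intro a ha
  have hcomm' : ∀ a ∈ A, ∀ b ∈ A, ρ a * ρ b = ρ b * ρ a := by
    intro a ha b hb
    rw [← map_mul, ← map_mul, hcomm a ha b hb]
  obtain ⟨c, hc⟩ := Cfsg.Agent.S0859.scalar_of_comm ρ hprim A hA hcomm' a ha
  exact mem_center_of_scalar ρ hfaith hc

/-- If `b x b⁻¹ x⁻¹` is a nontrivial central element then `χ x = 0`. -/
theorem char_eq_zero_of_comm_central [hρ : ρ.IsIrreducible]
    (hfaith : ∀ g : G, ρ.character g = ρ.character 1 → g = 1) {x b : G}
    (hz : b * x * b⁻¹ * x⁻¹ ∈ Subgroup.center G) (hne : b * x * b⁻¹ * x⁻¹ ≠ 1) :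
    ρ.character x = 0 := by
  obtain ⟨c, hc⟩ := Cfsg.Agent.Lib.Helper3_CharCenter.exists_scalar_of_mem_center ρ hz
  have hc1 : c ≠ 1 := by
    intro h
    apply hne
    apply hfaith
    apply char_eq_of_id
    rw [hc, h, one_smul]
  have h1 : ρ.character (b * x * b⁻¹) = ρ.character x := Representation.char_conj ρ x b
  have h2 : b * x * b⁻¹ = (b * x * b⁻¹ * x⁻¹) * x := by group
  have h3 : ρ.character ((b * x * b⁻¹ * x⁻¹) * x) = c * ρ.character x := by
    unfold Representation.character
    rw [map_mul, hc]
    rw [show (LinearMap.id : (Fin m → ℂ) →ₗ[ℂ] (Fin m → ℂ)) = 1 from rfl, smul_mul_assoc, one_mul,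
      map_smul, smul_eq_mul]
  rw [h2, h3] at h1
  have h4 : (c - 1) * ρ.character x = 0 := by
    rw [sub_mul, h1, one_mul, sub_self]
  rcases mul_eq_zero.mp h4 with h | h
  · exact absurd (sub_eq_zero.mp h) hc1
  · exact h

end faithful

end Cfsg.Agent.Lib.Helper80_GalProdC
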