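import Mathlib
import Cfsg.Prelude.Def_Characters
import Cfsg.Agent.Lib.Helper3_CharEigen
import Cfsg.Agent.Lib.Helper80_GalProdC
import Cfsg.Agent.Lib.Helper15_Linear

/-!
# Characters of degree three of perfect groups (helper30)

* `deg3_involution`: a character of degree `3` of a perfect group takes the value `-1` or `3` at
  every involution (the determinant is trivial);
* `eq_const_of_value_eq`: in a simple group a character taking its degree at a nonidentity element
  is constant;
* `comm_eq_one_of_deg3`: the rank one projection attached to an involution `J` with `θ(J) = -1`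
  yields a linear character of `C(J)`; consequence for commutators.
-/

set_option autoImplicit false

namespace Cfsg.Agent.Lib.Helper30_Deg3

open Cfsg

theorem newton_three (A : Matrix (Fin 3) (Fin 3) ℂ) :
    6 * A.det = A.trace ^ 3 - 3 * A.trace * (A * A).trace + 2 * (A * A * A).trace := by
  rw [Matrix.det_fin_three]
  simp only [Matrix.trace_fin_three, Matrix.mul_apply, Fin.sum_univ_three]
  ring

theorem cubic_of_involution (A : Matrix (Fin 3) (Fin 3) ℂ) (hA : A * A = 1) (hdet : A.det = 1) :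
    (A.trace + 1) * (A.trace + 2) * (A.trace - 3) = 0 := by
  have h := newton_three A
  rw [hA, one_mul, hdet, Matrix.trace_one] at h
  simp only [Fintype.card_fin, Nat.cast_ofNat] at h
  linear_combination (-1 : ℂ) * h

/-- the value of a character at an involution has the parity of the degree -/
theorem char_involution {G : Type*} [Group G] {n : ℕ} (ρ : Representation ℂ G (Fin n → ℂ))
    {J : G} (hJ : J * J = 1) : ∃ r : ℕ, ρ.character J = 2 * (r : ℂ) - n := by
  obtain ⟨f, hf⟩ : ∃ f : Module.End ℂ (Fin n → ℂ), f = ρ J := ⟨_, rfl⟩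
  have hff : f * f = 1 := by rw [hf, ← map_mul, hJ, map_one]
  obtain ⟨P, hP⟩ : ∃ P : Module.End ℂ (Fin n → ℂ), P = (2 : ℂ)⁻¹ • (1 + f) := ⟨_, rfl⟩
  have hidem : IsIdempotentElem P := by
    unfold IsIdempotentElem
    rw [hP, smul_mul_smul_comm]
    have h1 : (1 + f) * (1 + f) = (2 : ℂ) • (1 + f) := by
      rw [mul_add, add_mul, add_mul, one_mul, mul_one, one_mul, hff, two_smul]
      abel
    rw [h1, smul_smul]
    congr 1
    norm_num
  have htr := (LinearMap.IsIdempotentElem.isProj_range P hidem).trace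
  refine ⟨Module.finrank ℂ (LinearMap.range P), ?_⟩
  have h1 : LinearMap.trace ℂ _ P = (2 : ℂ)⁻¹ * ((n : ℂ) + ρ.character J) := by
    rw [hP, map_smul, map_add, LinearMap.trace_one, smul_eq_mul, hf]
    simp [Representation.character]
  rw [h1] at htr
  linear_combination 2 * htr

/-- representations of perfect groups have determinant one -/
theorem det_eq_one_of_perfect {G : Type*} [Group G] (hperf : commutator G = ⊤) {n : ℕ}
    (ρ : Representation ℂ G (Fin n → ℂ)) (g : G) : LinearMap.det (ρ g) = 1 := by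
  set φ : G →* ℂˣ :=
    ((LinearMap.det : ((Fin n → ℂ) →ₗ[ℂ] (Fin n → ℂ)) →* ℂ).comp ρ).toHomUnits with hφ
  have hle := Abelianization.commutator_subset_ker φ
  rw [hperf] at hle
  have hg : φ g = 1 := MonoidHom.mem_ker.mp (hle (Subgroup.mem_top g))
  have := congrArg Units.val hg
  simpa [hφ] using this

/-- **A character of degree three of a perfect group takes the values `-1` or `3` at involutions.** -/
theorem deg3_involution {G : Type*} [Group G] (hperf : commutator G = ⊤) {θ : G → ℂ}
    (hθ : IsCharacter G θ) (h3 : θ 1 = 3) {τ : G} (hτ : τ * τ = 1) : θ τ = -1 ∨ θ τ = 3 := by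
  obtain ⟨n, ρ, rfl⟩ := hθ
  have hn : n = 3 := by
    have := Representation.char_one ρ
    rw [h3] at this
    simp only [Module.finrank_fin_fun] at this
    exact_mod_cast this.symm
  subst hn
  set A := LinearMap.toMatrix' (ρ τ) with hA
  have hAA : A * A = 1 := by
    rw [hA, ← LinearMap.toMatrix'_mul, ← map_mul, hτ, map_one]
    exact LinearMap.toMatrix'_one
  have hdet : A.det = 1 := by
    rw [hA, LinearMap.det_toMatrix']
    exact det_eq_one_of_perfect hperf ρ τ
  have htr : A.trace = ρ.character τ := by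
    rw [Representation.character, LinearMap.trace_eq_matrix_trace ℂ (Pi.basisFun ℂ (Fin 3)),
      LinearMap.toMatrix_eq_toMatrix']
  have hc := cubic_of_involution A hAA hdet
  rw [htr] at hc
  obtain ⟨r, hr⟩ := char_involution ρ hτ
  rcases mul_eq_zero.mp hc with h | h
  · rcases mul_eq_zero.mp h with h' | h'
    · left
      linear_combination h'
    · exfalso
      rw [hr] at h'
      have h2 : ((2 * r : ℕ) : ℂ) = ((1 : ℕ) : ℂ) := by
        push_cast
        linear_combination h'
      have h3 : 2 * r = 1 := by exact_mod_cast h2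
      omega
  · right
    linear_combination h

/-- in a simple group, a character taking the value of its degree at a nonidentity element is
constant -/
theorem eq_const_of_value_eq {G : Type*} [Group G] [Finite G] [IsSimpleGroup G] {θ : G → ℂ}
    (hθ : IsCharacter G θ) {g : G} (hg1 : g ≠ 1) (hg : θ g = θ 1) (x : G) : θ x = θ 1 := by
  obtain ⟨n, ρ, rfl⟩ := hθ
  have h1 : ρ.character 1 = (Module.finrank ℂ (Fin n → ℂ) : ℂ) := Representation.char_one ρ
  rw [h1] at hg ⊢
  have hρg : ρ g = LinearMap.id :=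
    (Cfsg.Agent.Lib.Helper3_CharEigen.char_eq_finrank_iff ρ g).mp hg
  have hker : (ρ : G →* ((Fin n → ℂ) →ₗ[ℂ] (Fin n → ℂ))).ker = ⊤ := by
    rcases (MonoidHom.normal_ker (ρ : G →* ((Fin n → ℂ) →ₗ[ℂ] (Fin n → ℂ)))).eq_bot_or_eq_top
      with h | h
    · exfalso
      have hmem : g ∈ (ρ : G →* ((Fin n → ℂ) →ₗ[ℂ] (Fin n → ℂ))).ker := by
        rw [MonoidHom.mem_ker]
        exact hρg
      rw [h, Subgroup.mem_bot] at hmem
      exact hg1 hmem
    · exact h
  have hx : x ∈ (ρ : G →* ((Fin n → ℂ) →ₗ[ℂ] (Fin n → ℂ))).ker := by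
    rw [hker]; exact Subgroup.mem_top x
  rw [MonoidHom.mem_ker] at hx
  exact (Cfsg.Agent.Lib.Helper3_CharEigen.char_eq_finrank_iff ρ x).mpr hx

/-- the function `h ↦ (θ h + θ (h J)) / 2` on `C(J)` is a character of degree one -/
theorem isCharacter_half {G : Type*} [Group G] {θ : G → ℂ} (hθ : IsCharacter G θ) {J : G}
    (hJ : J * J = 1) :
    IsCharacter (Subgroup.centralizer ({J} : Set G))
      (fun h => (2 : ℂ)⁻¹ * (θ (h : G) + θ ((h : G) * J))) := by
  obtain ⟨n, ρ, rfl⟩ := hθ
  set H := Subgroup.centralizer ({J} : Set G) with hH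
  set R : Representation ℂ H (Fin n → ℂ) := ρ.comp H.subtype with hR
  obtain ⟨f, hf⟩ : ∃ f : Module.End ℂ (Fin n → ℂ), f = ρ J := ⟨_, rfl⟩
  have hff : f * f = 1 := by rw [hf, ← map_mul, hJ, map_one]
  obtain ⟨P, hP⟩ : ∃ P : Module.End ℂ (Fin n → ℂ), P = (2 : ℂ)⁻¹ • (1 + f) := ⟨_, rfl⟩
  have hidem : P * P = P := by
    rw [hP, smul_mul_smul_comm]
    have h1 : (1 + f) * (1 + f) = (2 : ℂ) • (1 + f) := by
      rw [mul_add, add_mul, add_mul, one_mul, mul_one, one_mul, hff, two_smul]
      abel
    rw [h1, smul_smul]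
    congr 1
    norm_num
  have hcommJ : ∀ h : H, ρ (h : G) * f = f * ρ (h : G) := by
    intro h
    have hh : (h : G) ∈ Subgroup.centralizer ({J} : Set G) := h.2
    rw [Subgroup.mem_centralizer_singleton_iff] at hh
    rw [hf, ← map_mul, ← map_mul, hh]
  have hcomm : ∀ h : H, R h ∘ₗ P = P ∘ₗ R h := by
    intro h
    show ρ (h : G) * P = P * ρ (h : G)
    rw [hP, mul_smul_comm, smul_mul_assoc, mul_add, add_mul, mul_one, one_mul, hcommJ h]
  have hchar := Cfsg.Agent.Lib.Helper80_GalProdC.isCharacter_trace_proj R P hidem hcomm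
  convert hchar using 1
  funext h
  show (2 : ℂ)⁻¹ * (ρ.character (h : G) + ρ.character ((h : G) * J)) =
    LinearMap.trace ℂ _ (ρ (h : G) * P)
  have hmulP : ρ (h : G) * P = (2 : ℂ)⁻¹ • (ρ (h : G) + ρ ((h : G) * J)) := by
    rw [hP, mul_smul_comm, mul_add, mul_one, hf, ← map_mul]
  rw [hmulP, map_smul, map_add, smul_eq_mul]
  rfl

/-- **Commutators in `C(J)` for a character of degree three with `θ(J) = -1`.** -/
theorem comm_eq_one_of_deg3 {G : Type*} [Group G] [Finite G] [IsSimpleGroup G] {θ : G → ℂ}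
    (hθ : IsCharacter G θ) (h3 : θ 1 = 3) {J : G} (hJ : J * J = 1) (hθJ : θ J = -1) {k s : G}
    (hk : k * J = J * k) (hs : s * J = J * s)
    (hval : θ (k * s * k⁻¹ * s⁻¹ * J) = -1) : k * s * k⁻¹ * s⁻¹ = 1 := by
  set H := Subgroup.centralizer ({J} : Set G) with hH
  have hkH : k ∈ H := by rw [hH, Subgroup.mem_centralizer_singleton_iff]; exact hk
  have hsH : s ∈ H := by rw [hH, Subgroup.mem_centralizer_singleton_iff]; exact hs
  set lam : H → ℂ := fun h => (2 : ℂ)⁻¹ * (θ (h : G) + θ ((h : G) * J)) with hlam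
  have hchar : IsCharacter H lam := isCharacter_half hθ hJ
  have h1 : lam 1 = 1 := by
    simp only [hlam, Subgroup.coe_one, one_mul, h3, hθJ]
    norm_num
  have hmul := Cfsg.Agent.Lib.Helper15_Linear.linear_mul lam hchar h1
  have hinv := Cfsg.Agent.Lib.Helper15_Linear.linear_inv lam hchar h1
  have hne := Cfsg.Agent.Lib.Helper15_Linear.linear_ne_zero lam hchar h1
  have hc : lam (⟨k, hkH⟩ * ⟨s, hsH⟩ * (⟨k, hkH⟩ : H)⁻¹ * (⟨s, hsH⟩ : H)⁻¹) = 1 := by
    rw [hmul, hmul, hmul, hinv, hinv]
    have a := hne ⟨k, hkH⟩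
    have b := hne ⟨s, hsH⟩
    field_simp
  simp only [hlam, Subgroup.coe_mul, Subgroup.coe_inv] at hc
  rw [hval] at hc
  have h4 : θ (k * s * k⁻¹ * s⁻¹) = θ 1 := by
    rw [h3]
    linear_combination 2 * hc
  by_contra hne1
  have := eq_const_of_value_eq hθ hne1 h4 J
  rw [hθJ, h3] at this
  norm_num at this

end Cfsg.Agent.Lib.Helper30_Deg3
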