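import Mathlib
import Cfsg.Prelude.Def_Characters
import Cfsg.Agent.Lib.Helper3_CharEigen

/-!
# Determinants via eigenspaces (helper3)

* `det_eq_prod_eig` : the determinant of a semisimple endomorphism is the product of its
  eigenvalues with multiplicities.
* `prod_eq_neg_one_of_inv_closed`.
* `det_rho_eq_neg_one` : if `y` has even order `m`, the character of `ρ` vanishes on the
  nontrivial powers of `y` and `dim V = m * s` with `s` odd, then `det (ρ y) = -1`.
-/

set_option autoImplicit false
set_option linter.unusedSectionVars false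

namespace Cfsg.Agent.Lib.Helper3_DetEigen

open Module LinearMap Cfsg.Agent.Lib.Helper3_CharEigen

section
variable {V : Type*} [AddCommGroup V] [Module ℂ V] [FiniteDimensional ℂ V]

theorem det_eq_prod_eig {f : Module.End ℂ V} (hf : f.IsSemisimple) :
    LinearMap.det f = ∏ μ ∈ eigSet f, μ ^ (Module.finrank ℂ (f.eigenspace μ)) := by
  classical
  rw [Module.End.det_eq_prod_roots_charpoly_of_splits (IsAlgClosed.splits _),
    Finset.prod_multiset_count]
  have hne : f.charpoly ≠ 0 := (LinearMap.charpoly_monic f).ne_zero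
  have hset : f.charpoly.roots.toFinset = eigSet f := by
    ext μ
    rw [Multiset.mem_toFinset, Polynomial.mem_roots hne, mem_eigSet,
      Module.End.hasEigenvalue_iff_isRoot_charpoly]
  rw [hset]
  refine Finset.prod_congr rfl (fun μ _ => ?_)
  rw [Polynomial.count_roots, ← LinearMap.finrank_maxGenEigenspace_eq,
    hf.isFinitelySemisimple.maxGenEigenspace_eq_eigenspace]
end

/-- product of a finite set of complex numbers closed under inversion, containing `-1`,
all of whose elements different from `±1` are not self-inverse. -/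
theorem prod_eq_neg_one_of_inv_closed (E : Finset ℂ) (h0 : ∀ μ ∈ E, μ ≠ 0)
    (hinv : ∀ μ ∈ E, μ⁻¹ ∈ E) (hneg : (-1 : ℂ) ∈ E) : ∏ μ ∈ E, μ = -1 := by
  classical
  rw [← Finset.mul_prod_erase E (fun μ => μ) hneg]
  have : ∏ μ ∈ E.erase (-1), μ = 1 := by
    refine Finset.prod_involution (fun μ _ => μ⁻¹) ?_ ?_ ?_ ?_
    · intro μ hμ
      exact mul_inv_cancel₀ (h0 μ (Finset.mem_of_mem_erase hμ))
    · intro μ hμ hne hfix
      have hμ0 := h0 μ (Finset.mem_of_mem_erase hμ)
      have hsq : μ * μ = 1 := by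
        nth_rewrite 1 [← hfix]
        exact inv_mul_cancel₀ hμ0
      rcases mul_self_eq_one_iff.mp hsq with h | h
      · exact hne h
      · exact (Finset.ne_of_mem_erase hμ) h
    · intro μ hμ
      rw [Finset.mem_erase]
      refine ⟨?_, hinv μ (Finset.mem_of_mem_erase hμ)⟩
      intro h
      apply Finset.ne_of_mem_erase hμ
      have : μ = (μ⁻¹)⁻¹ := (inv_inv μ).symm
      rw [this, h]
      norm_num
    · intro μ hμ
      exact inv_inv μ
  rw [this, mul_one]

section rep
variable {G : Type*} [Group G] [Finite G] {V : Type*} [AddCommGroup V] [Module ℂ V]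
  [FiniteDimensional ℂ V] (ρ : Representation ℂ G V)

theorem det_rho_eq_neg_one (y : G) (m s : ℕ) (hm : orderOf y = m) (hmeven : Even m)
    (hs : Odd s) (hdim : Module.finrank ℂ V = m * s)
    (hvan : ∀ j : ℕ, 0 < j → j < m → ρ.character (y ^ j) = 0) :
    LinearMap.det (ρ y) = -1 := by
  classical
  have hmpos : 0 < m := hm ▸ orderOf_pos y
  have hmC : (m : ℂ) ≠ 0 := by exact_mod_cast hmpos.ne'
  have hs0 : s ≠ 0 := by
    rintro rfl
    exact (Nat.not_odd_iff_even.mpr (by decide : Even 0)) hs
  set E := eigSet (ρ y) with hE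
  set d : ℂ → ℕ := fun μ => Module.finrank ℂ (Module.End.eigenspace (ρ y) μ) with hd
  have hEpow : ∀ μ ∈ E, μ ^ m = 1 := fun μ hμ => hm ▸ eig_pow_orderOf ρ hμ
  -- Fourier inversion
  have key : ∀ ω : ℂ, ω ^ m = 1 → ω ∈ E ∧ d ω = s := by
    intro ω hω
    have hω0 : ω ≠ 0 := by
      intro h
      rw [h, zero_pow hmpos.ne'] at hω
      exact zero_ne_one hω
    have hA : ∑ j ∈ Finset.range m, (ω⁻¹) ^ j * ρ.character (y ^ j) = (m : ℂ) * s := by
      rw [Finset.sum_eq_single 0]
      · rw [pow_zero, pow_zero, one_mul, Representation.char_one, hdim]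
        push_cast
        ring
      · intro j hj hj0
        rw [hvan j (Nat.pos_of_ne_zero hj0) (Finset.mem_range.mp hj), mul_zero]
      · intro h
        exact absurd (Finset.mem_range.mpr hmpos) h
    have hB : ∑ j ∈ Finset.range m, (ω⁻¹) ^ j * ρ.character (y ^ j) =
        ∑ μ ∈ E, (d μ : ℂ) * (if μ = ω then (m : ℂ) else 0) := by
      simp_rw [char_pow_eq_sum ρ y, Finset.mul_sum]
      rw [Finset.sum_comm]
      refine Finset.sum_congr rfl (fun μ hμ => ?_)
      have h1 : ∀ j ∈ Finset.range m, (ω⁻¹) ^ j * ((d μ : ℂ) * μ ^ j) =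
          (d μ : ℂ) * (μ * ω⁻¹) ^ j := by
        intro j _
        rw [mul_pow]
        ring
      rw [Finset.sum_congr rfl h1, ← Finset.mul_sum]
      congr 1
      split_ifs with hμω
      · rw [hμω, mul_inv_cancel₀ hω0]
        simp
      · have hr : (μ * ω⁻¹) ^ m = 1 := by
          rw [mul_pow, inv_pow, hEpow μ hμ, hω]
          simp
        have hr1 : μ * ω⁻¹ ≠ 1 := by
          intro h
          apply hμω
          have := congrArg (· * ω) h
          simpa [mul_assoc, inv_mul_cancel₀ hω0] using this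
        have := mul_neg_geom_sum (μ * ω⁻¹) m
        have h2 : (1 - μ * ω⁻¹) * ∑ i ∈ Finset.range m, (μ * ω⁻¹) ^ i = 0 := by
          rw [this, hr, sub_self]
        rcases mul_eq_zero.mp h2 with h3 | h3
        · exact absurd (sub_eq_zero.mp h3).symm hr1
        · exact h3
    rw [hA] at hB
    by_cases hωE : ω ∈ E
    · refine ⟨hωE, ?_⟩
      rw [Finset.sum_eq_single ω] at hB
      · rw [if_pos rfl] at hB
        have : (s : ℂ) = (d ω : ℂ) := by
          have h3 : (m : ℂ) * s = (m : ℂ) * d ω := by rw [hB]; ring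
          exact mul_left_cancel₀ hmC h3
        exact_mod_cast this.symm
      · intro μ _ hμ
        rw [if_neg hμ, mul_zero]
      · intro h
        exact absurd hωE h
    · exfalso
      rw [Finset.sum_eq_zero] at hB
      · have : (m : ℂ) * s ≠ 0 := mul_ne_zero hmC (by exact_mod_cast hs0)
        exact this hB
      · intro μ hμ
        have : μ ≠ ω := fun h => hωE (h ▸ hμ)
        rw [if_neg this, mul_zero]
  have hdet : LinearMap.det (ρ y) = (∏ μ ∈ E, μ) ^ s := by
    rw [det_eq_prod_eig (rho_isSemisimple ρ y), ← Finset.prod_pow]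
    refine Finset.prod_congr rfl (fun μ hμ => ?_)
    show μ ^ d μ = μ ^ s
    rw [(key μ (hEpow μ hμ)).2]
  rw [hdet, prod_eq_neg_one_of_inv_closed E (fun μ hμ => eig_ne_zero ρ hμ) ?_ ?_, hs.neg_one_pow]
  · intro μ hμ
    apply (key μ⁻¹ _).1
    rw [inv_pow, hEpow μ hμ, inv_one]
  · apply (key (-1) _).1
    exact hmeven.neg_one_pow
end rep

end Cfsg.Agent.Lib.Helper3_DetEigen
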