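import Mathlib
import Cfsg.Prelude.Def_Solvable

/-!
Basic API for the `p`-core, the `p'`-core and the Fitting subgroup of `Def_Solvable`
(helper1).
-/

set_option autoImplicit false

namespace Cfsg.Agent.Lib.Helper1_Cores

open Subgroup

variable {G : Type*} [Group G]

/-- The order of a join `N ⊔ M` with `M` normal is `|M| * [N : N ⊓ M]`. -/
theorem card_sup_eq (N M : Subgroup G) [M.Normal] :
    Nat.card (N ⊔ M : Subgroup G) = Nat.card M * M.relIndex N := by
  rw [← relIndex_sup_right N M, mul_comm]
  have h : M ≤ N ⊔ M := le_sup_right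
  rw [← relIndex_bot_left, ← relIndex_bot_left (H := M)]
  rw [mul_comm]
  exact (relIndex_mul_relIndex ⊥ M (N ⊔ M) bot_le h).symm

/-- The order of a join `N ⊔ M` with `M` normal divides `|N| * |M|`. -/
theorem card_sup_dvd (N M : Subgroup G) [M.Normal] :
    Nat.card (N ⊔ M : Subgroup G) ∣ Nat.card N * Nat.card M := by
  rw [card_sup_eq, mul_comm]
  exact Nat.mul_dvd_mul_right (relIndex_dvd_card M N) _

/-- Induction principle for the join of all normal subgroups with a property, in a finite group. -/
theorem sSup_normal_induction [Finite G] (P : Subgroup G → Prop) (hbot : P ⊥)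
    (hsup : ∀ N M : Subgroup G, N.Normal → M.Normal → P N → P M → P (N ⊔ M)) :
    P (sSup {N : Subgroup G | N.Normal ∧ P N}) := by
  classical
  have hfin : Set.Finite {N : Subgroup G | N.Normal ∧ P N} := Set.toFinite _
  have h1 : sSup {N : Subgroup G | N.Normal ∧ P N} = hfin.toFinset.sup id := by
    rw [Finset.sup_id_eq_sSup]
    simp
  rw [h1]
  have key : (hfin.toFinset.sup id).Normal ∧ P (hfin.toFinset.sup id) := by
    refine Finset.sup_induction (p := fun N : Subgroup G => N.Normal ∧ P N) ⟨inferInstance, hbot⟩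
      ?_ ?_
    · rintro N ⟨hN1, hN2⟩ M ⟨hM1, hM2⟩
      exact ⟨inferInstance, hsup N M hN1 hM1 hN2 hM2⟩
    · intro N hN
      simpa using hN
  exact key.2

/-! ### The `p`-core -/

theorem pCore_normal (p : ℕ) : (pCore p G).Normal :=
  sSup_normal _ (fun _ hH => hH.1)

instance instPCoreNormal (p : ℕ) : (pCore p G).Normal := pCore_normal p

theorem pCore_isPGroup (p : ℕ) [Fact p.Prime] : IsPGroup p (pCore p G) :=
  Sylow.sSup_of_normal _ (fun _ hH => hH.2) (fun _ hH => hH.1)

theorem le_pCore {p : ℕ} {N : Subgroup G} (hN : N.Normal) (h : IsPGroup p N) : N ≤ pCore p G :=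
  le_sSup ⟨hN, h⟩

theorem pCore_le_sylow (p : ℕ) [Fact p.Prime] (P : Sylow p G) : pCore p G ≤ P :=
  (pCore_isPGroup p).le_sylow_of_normal P

theorem pCore_map_le (p : ℕ) [Fact p.Prime] (φ : G ≃* G) :
    (pCore p G).map φ.toMonoidHom ≤ pCore p G := by
  apply le_pCore
  · exact (pCore_normal p).map _ φ.surjective
  · exact (pCore_isPGroup p).map _

instance instPCoreCharacteristic (p : ℕ) [Fact p.Prime] : (pCore p G).Characteristic :=
  characteristic_iff_map_le.mpr (fun φ => pCore_map_le p φ)

/-- The `p`-core is the intersection of the Sylow `p`-subgroups. -/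
theorem pCore_eq_iInf_sylow (p : ℕ) [Fact p.Prime] :
    pCore p G = ⨅ P : Sylow p G, (P : Subgroup G) := by
  apply le_antisymm
  · exact le_iInf (fun P => pCore_le_sylow p P)
  · have hn : (⨅ P : Sylow p G, (P : Subgroup G)).Normal := by
      constructor
      intro n hn g
      rw [mem_iInf] at hn ⊢
      intro P
      have := hn (g⁻¹ • P)
      rw [Sylow.smul_def, Sylow.pointwise_smul_def, mem_pointwise_smul_iff_inv_smul_mem] at this
      simpa using this
    apply le_pCore hn
    obtain ⟨P⟩ : Nonempty (Sylow p G) := inferInstance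
    exact P.isPGroup'.to_le (iInf_le _ P)

/-! ### The `p'`-core -/

theorem pPrimeCore_normal (p : ℕ) : (pPrimeCore p G).Normal :=
  sSup_normal _ (fun _ hH => hH.1)

instance instPPrimeCoreNormal (p : ℕ) : (pPrimeCore p G).Normal := pPrimeCore_normal p

theorem le_pPrimeCore {p : ℕ} {N : Subgroup G} (hN : N.Normal) (h : (Nat.card N).Coprime p) :
    N ≤ pPrimeCore p G :=
  le_sSup ⟨hN, h⟩

theorem pPrimeCore_card_coprime [Finite G] (p : ℕ) : (Nat.card (pPrimeCore p G)).Coprime p := by
  refine sSup_normal_induction (fun N : Subgroup G => (Nat.card N).Coprime p) (by simp) ?_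
  intro N M _ _ hN hM
  exact Nat.Coprime.coprime_dvd_left (card_sup_dvd N M) (Nat.Coprime.mul_left hN hM)

theorem pPrimeCore_map_le [Finite G] (p : ℕ) (φ : G ≃* G) :
    (pPrimeCore p G).map φ.toMonoidHom ≤ pPrimeCore p G := by
  apply le_pPrimeCore
  · exact (pPrimeCore_normal p).map _ φ.surjective
  · have : Nat.card ((pPrimeCore p G).map φ.toMonoidHom) = Nat.card (pPrimeCore p G) :=
      Subgroup.card_map_of_injective φ.injective
    rw [this]
    exact pPrimeCore_card_coprime p

instance instPPrimeCoreCharacteristic [Finite G] (p : ℕ) : (pPrimeCore p G).Characteristic :=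
  characteristic_iff_map_le.mpr (fun φ => pPrimeCore_map_le p φ)

/-! ### The Fitting subgroup -/

theorem fittingSubgroup_normal : (fittingSubgroup G).Normal :=
  sSup_normal _ (fun _ hH => hH.1)

instance instFittingSubgroupNormal : (fittingSubgroup G).Normal := fittingSubgroup_normal

theorem le_fittingSubgroup {N : Subgroup G} (hN : N.Normal) (h : Group.IsNilpotent N) :
    N ≤ fittingSubgroup G :=
  le_sSup ⟨hN, h⟩

theorem pCore_le_fittingSubgroup [Finite G] (p : ℕ) [Fact p.Prime] :
    pCore p G ≤ fittingSubgroup G :=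
  le_fittingSubgroup (pCore_normal p) (pCore_isPGroup p).isNilpotent

/-- In a finite group, the Sylow subgroups (over all primes) generate the group. -/
theorem iSup_sylow_eq_top [Finite G] :
    (⨆ p : Nat.Primes, ⨆ P : Sylow (p : ℕ) G, (P : Subgroup G)) = ⊤ := by
  set H : Subgroup G := ⨆ p : Nat.Primes, ⨆ P : Sylow (p : ℕ) G, (P : Subgroup G) with hH
  rw [← index_eq_one]
  by_contra hne
  obtain ⟨p, hp, hdvd⟩ := Nat.exists_prime_and_dvd hne
  have : Fact p.Prime := ⟨hp⟩
  obtain ⟨P⟩ : Nonempty (Sylow p G) := inferInstance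
  have hle : (P : Subgroup G) ≤ H := by
    rw [hH]
    exact le_iSup_of_le (⟨p, hp⟩ : Nat.Primes) (le_iSup (fun P : Sylow p G => (P : Subgroup G)) P)
  exact P.not_dvd_index (dvd_trans hdvd (index_dvd_of_le hle))

/-- A normal nilpotent subgroup of a finite group lies in the join of the `p`-cores. -/
theorem le_iSup_pCore_of_nilpotent [Finite G] (N : Subgroup G) [N.Normal]
    (hN : Group.IsNilpotent N) : N ≤ ⨆ p : Nat.Primes, pCore (p : ℕ) G := by
  have h1 : N = (⊤ : Subgroup N).map N.subtype := by
    rw [← MonoidHom.range_eq_map, Subgroup.range_subtype]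
  rw [h1, ← iSup_sylow_eq_top, Subgroup.map_iSup]
  refine iSup_le (fun p => ?_)
  rw [Subgroup.map_iSup]
  refine iSup_le (fun P => ?_)
  have : Fact (p : ℕ).Prime := ⟨p.2⟩
  have : (P : Subgroup N).Normal := inferInstance
  have : (P : Subgroup N).Characteristic := P.characteristic_of_normal inferInstance
  have hnorm : ((P : Subgroup N).map N.subtype).Normal := inferInstance
  refine le_trans ?_ (le_iSup (fun p : Nat.Primes => pCore (p : ℕ) G) p)
  exact le_pCore hnorm (P.isPGroup'.map _)

/-- The Fitting subgroup of a finite group is the join of the `p`-cores. -/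
theorem fittingSubgroup_eq_iSup_pCore [Finite G] :
    fittingSubgroup G = ⨆ p : Nat.Primes, pCore (p : ℕ) G := by
  apply le_antisymm
  · apply sSup_le
    rintro N ⟨hN1, hN2⟩
    exact le_iSup_pCore_of_nilpotent N hN2
  · refine iSup_le (fun p => ?_)
    have : Fact (p : ℕ).Prime := ⟨p.2⟩
    exact pCore_le_fittingSubgroup p

/-- A finite group in which, for every prime `p`, some normal `p`-subgroup has index prime to `p`
is nilpotent. -/
theorem isNilpotent_of_normal_sylows [Finite G]
    (h : ∀ p : ℕ, p.Prime → ∃ N : Subgroup G, N.Normal ∧ IsPGroup p N ∧ ¬ p ∣ N.index) :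
    Group.IsNilpotent G := by
  refine (Group.isNilpotent_of_finite_tfae (G := G)).out 3 0 |>.mp ?_
  intro p hp P
  obtain ⟨N, hN1, hN2, hN3⟩ := h p hp.out
  let S : Sylow p G := hN2.toSylow hN3
  have hS : (S : Subgroup G).Normal := hN1
  have := Sylow.unique_of_normal S hS
  have hPS : P = S := Subsingleton.elim _ _
  rw [hPS]
  exact hS

/-- The order of the `p`-core of a finite group is coprime to any other prime. -/
theorem pCore_card_coprime [Finite G] {p q : ℕ} [Fact p.Prime] [Fact q.Prime] (hpq : p ≠ q) :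
    (Nat.card (pCore p G)).Coprime q := by
  obtain ⟨n, hn⟩ := IsPGroup.iff_card.mp (pCore_isPGroup (G := G) p)
  rw [hn]
  apply Nat.Coprime.pow_left
  exact (Nat.coprime_primes Fact.out Fact.out).mpr hpq

/-- **Fitting's theorem**: the Fitting subgroup of a finite group is nilpotent. -/
theorem fittingSubgroup_isNilpotent [Finite G] : Group.IsNilpotent (fittingSubgroup G) := by
  apply isNilpotent_of_normal_sylows
  intro q hq
  have : Fact q.Prime := ⟨hq⟩
  refine ⟨(pCore q G).subgroupOf (fittingSubgroup G), inferInstance, ?_, ?_⟩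
  · exact (pCore_isPGroup q).comap_of_injective _ (Subgroup.subtype_injective _)
  · change ¬ q ∣ (pCore q G).relIndex (fittingSubgroup G)
    -- `F ≤ O_q ⊔ O_{q'}`
    have hle : fittingSubgroup G ≤ pPrimeCore q G ⊔ pCore q G := by
      rw [fittingSubgroup_eq_iSup_pCore]
      refine iSup_le (fun p => ?_)
      have : Fact (p : ℕ).Prime := ⟨p.2⟩
      by_cases hpq : (p : ℕ) = q
      · rw [hpq]; exact le_sup_right
      · exact le_trans (le_pPrimeCore (pCore_normal _) (pCore_card_coprime hpq)) le_sup_left
    have h1 : (pCore q G).relIndex (fittingSubgroup G) ∣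
        (pCore q G).relIndex (pPrimeCore q G ⊔ pCore q G) := by
      rw [← relIndex_mul_relIndex (pCore q G) (fittingSubgroup G) _
        (pCore_le_fittingSubgroup q) hle]
      exact dvd_mul_right _ _
    rw [relIndex_sup_right] at h1
    have h2 : (pCore q G).relIndex (pPrimeCore q G) ∣ Nat.card (pPrimeCore q G) :=
      relIndex_dvd_card _ _
    have h3 := pPrimeCore_card_coprime (G := G) q
    intro hdvd
    have := Nat.Coprime.coprime_dvd_left (dvd_trans h1 h2) h3
    exact hq.one_lt.ne' (Nat.Coprime.eq_one_of_dvd this.symm hdvd |>.symm ▸ rfl)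

end Cfsg.Agent.Lib.Helper1_Cores
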