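import Mathlib
import Cfsg.Prelude.Def_Blocks
import Cfsg.Prelude.Def_BlockRank
import Cfsg.Agent.Lib.Helper77_WeakOrth

set_option autoImplicit false
set_option linter.unusedSectionVars false

namespace Cfsg.Agent.Lib.Helper77_RegProj

open Cfsg Cfsg.Agent.Lib.Helper78_LocalRing Cfsg.Agent.Lib.Helper77_MatrixLocal
  Cfsg.Agent.Lib.Helper77_PermTrace Cfsg.Agent.Lib.Helper78_Osima
  Cfsg.Agent.Lib.Helper78_CharFacts Cfsg.Agent.Lib.Helper78_CentralChar
  Cfsg.Agent.Lib.Helper77_WeakOrth Matrix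

open scoped ComplexConjugate

universe u

variable {G : Type u} [Group G]

theorem pRegularPart_of_reg {p : ℕ} (χ : G → ℂ) {g : G} (h : ¬ p ∣ orderOf g) :
    pRegularPart p χ g = χ g := by
  unfold pRegularPart
  exact if_pos h

theorem pRegularPart_of_sing {p : ℕ} (χ : G → ℂ) {g : G} (h : p ∣ orderOf g) :
    pRegularPart p χ g = 0 := by
  unfold pRegularPart
  exact if_neg (fun hn => hn h)

variable [Fintype G] [DecidableEq G]

/-- The matrix of the orthogonal projection onto the span of `S`. -/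
noncomputable def kmat (S : Set (IrrCharacter G)) : Matrix G G ℂ :=
  fun x y => (Nat.card G : ℂ)⁻¹ * ∑ᶠ χ ∈ S, (χ : G → ℂ) x * conj ((χ : G → ℂ) y)

/-- The diagonal matrix of the indicator function of the `p`-regular elements. -/
noncomputable def tmat (p : ℕ) : Matrix G G ℂ :=
  Matrix.diagonal (fun x => pRegularPart p (fun _ => (1 : ℂ)) x)

theorem tmat_mulVec (p : ℕ) (f : G → ℂ) : (tmat p).mulVec f = pRegularPart p f := by
  funext x
  unfold tmat
  rw [Matrix.mulVec_diagonal]
  by_cases h : p ∣ orderOf x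
  · rw [pRegularPart_of_sing _ h, pRegularPart_of_sing _ h, zero_mul]
  · rw [pRegularPart_of_reg _ h, pRegularPart_of_reg _ h, one_mul]

theorem kmat_conj (S : Set (IrrCharacter G)) (x y : G) : conj (kmat S x y) = kmat S y x := by
  have hfin : Finite (IrrCharacter G) := charFacts.finite
  unfold kmat
  rw [finsum_mem_eq_finite_toFinset_sum _ (Set.toFinite S),
    finsum_mem_eq_finite_toFinset_sum _ (Set.toFinite S), map_mul, map_inv₀, map_natCast, map_sum]
  congr 1
  refine Finset.sum_congr rfl fun χ _ => ?_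
  rw [map_mul, Complex.conj_conj, mul_comm]

open Classical in
theorem kmat_mulVec_irr (S : Set (IrrCharacter G)) (ψ : IrrCharacter G) :
    (kmat S).mulVec (ψ : G → ℂ) = if ψ ∈ S then (ψ : G → ℂ) else 0 := by
  classical
  have hfin : Finite (IrrCharacter G) := charFacts.finite
  funext x
  unfold Matrix.mulVec dotProduct kmat
  simp_rw [finsum_mem_eq_finite_toFinset_sum _ (Set.toFinite S)]
  have h1 : ∑ y : G, (Nat.card G : ℂ)⁻¹ * (∑ χ ∈ (Set.toFinite S).toFinset,
      (χ : G → ℂ) x * conj ((χ : G → ℂ) y)) * (ψ : G → ℂ) y =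
      ∑ χ ∈ (Set.toFinite S).toFinset, (χ : G → ℂ) x * classInner (ψ : G → ℂ) (χ : G → ℂ) := by
    unfold classInner
    simp_rw [Finset.mul_sum, Finset.sum_mul]
    rw [Finset.sum_comm]
    refine Finset.sum_congr rfl fun χ _ => ?_
    refine Finset.sum_congr rfl fun y _ => ?_
    ring
  rw [h1]
  simp_rw [charFacts.orth ψ]
  by_cases hψ : ψ ∈ S
  · rw [if_pos hψ, Finset.sum_eq_single ψ]
    · rw [if_pos rfl, mul_one]
    · intro χ _ hne
      rw [if_neg (Ne.symm hne), mul_zero]
    · intro h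
      exact absurd ((Set.Finite.mem_toFinset _).mpr hψ) h
  · rw [if_neg hψ, Finset.sum_eq_zero]
    · rfl
    · intro χ hχ
      have hχS : χ ∈ S := (Set.Finite.mem_toFinset _).mp hχ
      have hne : ψ ≠ χ := fun h => hψ (h ▸ hχS)
      rw [if_neg hne, mul_zero]

theorem kmat_mul_kmat (S : Set (IrrCharacter G)) : kmat S * kmat S = kmat S := by
  classical
  have hfin : Finite (IrrCharacter G) := charFacts.finite
  ext x y
  rw [Matrix.mul_apply]
  have h1 : ∀ z : G, kmat S z y = (Nat.card G : ℂ)⁻¹ * ∑ χ ∈ (Set.toFinite S).toFinset,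
      (χ : G → ℂ) z * conj ((χ : G → ℂ) y) := by
    intro z
    unfold kmat
    rw [finsum_mem_eq_finite_toFinset_sum _ (Set.toFinite S)]
  have h2 : ∑ z : G, kmat S x z * kmat S z y = (Nat.card G : ℂ)⁻¹ *
      ∑ χ ∈ (Set.toFinite S).toFinset, ((kmat S).mulVec (χ : G → ℂ)) x * conj ((χ : G → ℂ) y) := by
    simp_rw [h1]
    unfold Matrix.mulVec dotProduct
    simp_rw [Finset.mul_sum, Finset.sum_mul]
    rw [Finset.sum_comm]
    refine Finset.sum_congr rfl fun χ _ => ?_
    rw [Finset.mul_sum]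
    refine Finset.sum_congr rfl fun z _ => ?_
    ring
  rw [h2, h1 x]
  congr 1
  refine Finset.sum_congr rfl fun χ hχ => ?_
  have hχS : χ ∈ S := (Set.Finite.mem_toFinset _).mp hχ
  rw [kmat_mulVec_irr, if_pos hχS]

/-- Weak block orthogonality as a commutation relation. -/
theorem tmat_mul_kmat_comm {p : ℕ} {M : Ideal AlgInt} (hM : IsPModular p M)
    (S : Set (IrrCharacter G)) (hS : ∀ g : G, MemLocalRing M (blockCoeff S g)) :
    tmat p * kmat S = kmat S * tmat p := by
  ext x y
  unfold tmat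
  rw [Matrix.diagonal_mul, Matrix.mul_diagonal]
  by_cases hx : p ∣ orderOf x
  · by_cases hy : p ∣ orderOf y
    · rw [pRegularPart_of_sing _ hx, pRegularPart_of_sing _ hy, zero_mul, mul_zero]
    · rw [pRegularPart_of_sing _ hx, pRegularPart_of_reg _ hy, zero_mul, mul_one]
      have h0 : kmat S y x = 0 := by
        unfold kmat
        rw [weak_orthogonality hM S hS y x hy hx, mul_zero]
      rw [← kmat_conj, h0, map_zero]
  · by_cases hy : p ∣ orderOf y
    · rw [pRegularPart_of_reg _ hx, pRegularPart_of_sing _ hy, one_mul, mul_zero]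
      unfold kmat
      rw [weak_orthogonality hM S hS x y hx hy, mul_zero]
    · rw [pRegularPart_of_reg _ hx, pRegularPart_of_reg _ hy, one_mul, mul_one]

/-- Characters outside `S` are orthogonal on the `p`-regular elements to characters in `S`. -/
theorem sum_pRegularPart_mul_conj_eq_zero {p : ℕ} {M : Ideal AlgInt} (hM : IsPModular p M)
    (S : Set (IrrCharacter G)) (hS : ∀ g : G, MemLocalRing M (blockCoeff S g))
    (χ ψ : IrrCharacter G) (hχ : χ ∉ S) (hψ : ψ ∈ S) :
    ∑ x : G, pRegularPart p (χ : G → ℂ) x * conj ((ψ : G → ℂ) x) = 0 := by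
  have h1 : (kmat S).mulVec (pRegularPart p (χ : G → ℂ)) = 0 := by
    rw [← tmat_mulVec, Matrix.mulVec_mulVec, ← tmat_mul_kmat_comm hM S hS, ← Matrix.mulVec_mulVec,
      kmat_mulVec_irr, if_neg hχ, Matrix.mulVec_zero]
  have h2 : ∑ y : G, pRegularPart p (χ : G → ℂ) y * conj (((kmat S).mulVec (ψ : G → ℂ)) y) =
      ∑ x : G, conj ((ψ : G → ℂ) x) * ((kmat S).mulVec (pRegularPart p (χ : G → ℂ))) x := by
    unfold Matrix.mulVec dotProduct
    simp_rw [map_sum, Finset.mul_sum, map_mul, kmat_conj]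
    rw [Finset.sum_comm]
    refine Finset.sum_congr rfl fun x _ => ?_
    refine Finset.sum_congr rfl fun y _ => ?_
    ring
  rw [kmat_mulVec_irr, if_pos hψ, h1] at h2
  rw [h2]
  simp

end Cfsg.Agent.Lib.Helper77_RegProj
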