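import Cfsg.Agent.Lib.Helper78_LocalRing

/-!
# Idempotents from separating elements (helper78)

An elementary substitute for idempotent lifting.  Let `A` be a set of vectors `ι → ℂ` (`ι` finite)
with coordinates in the local ring at `M`, containing `1` and closed under subtraction,
multiplication and scalar multiplication by local integers.  If `S ⊆ ι` is separated from its
complement by `A` modulo the local ideal (for `i ∈ S`, `j ∉ S` some `a ∈ A` has `a i - a j`
outside the local ideal), then the indicator vector of `S` lies in `A`.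
-/

set_option autoImplicit false

namespace Cfsg.Agent.Lib.Helper78_Idempotent

open Cfsg Cfsg.Agent.Lib.Helper78_LocalRing

variable {M : Ideal AlgInt} {ι : Type*}

/-- A set of vectors closed under the operations of an algebra over the local ring at `M`. -/
structure IsLocalAlgebra (M : Ideal AlgInt) (A : Set (ι → ℂ)) : Prop where
  one_mem : (fun _ => (1 : ℂ)) ∈ A
  sub_mem : ∀ a b, a ∈ A → b ∈ A → a - b ∈ A
  mul_mem : ∀ a b, a ∈ A → b ∈ A → a * b ∈ A
  smul_mem : ∀ (r : ℂ) a, MemLocalRing M r → a ∈ A → (fun i => r * a i) ∈ A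
  val_mem : ∀ a ∈ A, ∀ i, MemLocalRing M (a i)

theorem IsLocalAlgebra.prod_mem {A : Set (ι → ℂ)} (hA : IsLocalAlgebra M A) {κ : Type*}
    (s : Finset κ) (f : κ → ι → ℂ) (h : ∀ k ∈ s, f k ∈ A) : (∏ k ∈ s, f k) ∈ A := by
  classical
  induction s using Finset.induction_on with
  | empty =>
    rw [Finset.prod_empty]
    exact hA.one_mem
  | insert a s ha ih =>
    rw [Finset.prod_insert ha]
    exact hA.mul_mem _ _ (h a (Finset.mem_insert_self a s))
      (ih fun k hk => h k (Finset.mem_insert_of_mem hk))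

/-- The indicator vector of a subset separated from its complement lies in the algebra. -/
theorem indicator_mem [Finite ι] (hM : M.IsPrime) {A : Set (ι → ℂ)} (hA : IsLocalAlgebra M A)
    (S : Set ι)
    (hsep : ∀ i ∈ S, ∀ j, j ∉ S → ∃ a ∈ A, ¬ MemLocalIdeal M (a i - a j)) :
    S.indicator (fun _ => (1 : ℂ)) ∈ A := by
  classical
  have := Fintype.ofFinite ι
  -- for `i ∈ S`, `j ∉ S`: an element with value `1` at `i` and `0` at `j`
  have hb : ∀ i ∈ S, ∀ j, j ∉ S → ∃ b ∈ A, b i = 1 ∧ b j = 0 := by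
    intro i hi j hj
    obtain ⟨a, ha, hne⟩ := hsep i hi j hj
    have hu : MemLocalRing M (a i - a j) := memLocalRing_sub hM (hA.val_mem a ha i) (hA.val_mem a ha j)
    have hinv : MemLocalRing M (a i - a j)⁻¹ := memLocalRing_inv hM hu hne
    have hne0 : a i - a j ≠ 0 := fun h0 => hne (h0 ▸ memLocalIdeal_zero hM)
    have h1 : (fun k => a j * (fun _ : ι => (1 : ℂ)) k) ∈ A :=
      hA.smul_mem (a j) _ (hA.val_mem a ha j) hA.one_mem
    have h2 : a - (fun k => a j * (fun _ : ι => (1 : ℂ)) k) ∈ A := hA.sub_mem _ _ ha h1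
    refine ⟨_, hA.smul_mem (a i - a j)⁻¹ _ hinv h2, ?_, ?_⟩
    · simp only [Pi.sub_apply, mul_one]
      exact inv_mul_cancel₀ hne0
    · simp
  choose! b hbA hbi hbj using hb
  -- for `i ∈ S`: an element with value `1` at `i` and `0` off `S`
  let T : Finset ι := Finset.univ.filter (fun j => j ∉ S)
  let c : ι → ι → ℂ := fun i => ∏ j ∈ T, b i j
  have hcA : ∀ i ∈ S, c i ∈ A := by
    intro i hi
    refine hA.prod_mem T (b i) ?_
    intro j hj
    exact hbA i hi j (Finset.mem_filter.mp hj).2
  have hci : ∀ i ∈ S, c i i = 1 := by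
    intro i hi
    show (∏ j ∈ T, b i j) i = 1
    rw [Finset.prod_apply]
    refine Finset.prod_eq_one ?_
    intro j hj
    exact hbi i hi j (Finset.mem_filter.mp hj).2
  have hcj : ∀ i ∈ S, ∀ j, j ∉ S → c i j = 0 := by
    intro i hi j hj
    show (∏ k ∈ T, b i k) j = 0
    rw [Finset.prod_apply]
    exact Finset.prod_eq_zero (Finset.mem_filter.mpr ⟨Finset.mem_univ j, hj⟩) (hbj i hi j hj)
  -- combine
  let U : Finset ι := Finset.univ.filter (fun i => i ∈ S)
  let one : ι → ℂ := fun _ => 1
  have hone : one ∈ A := hA.one_mem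
  have hP : (∏ i ∈ U, (one - c i)) ∈ A := by
    refine hA.prod_mem U (fun i => one - c i) ?_
    intro i hi
    exact hA.sub_mem _ _ hone (hcA i (Finset.mem_filter.mp hi).2)
  have hd : one - (∏ i ∈ U, (one - c i)) ∈ A := hA.sub_mem _ _ hone hP
  have heq : S.indicator (fun _ => (1 : ℂ)) = one - (∏ i ∈ U, (one - c i)) := by
    funext k
    simp only [Pi.sub_apply, Finset.prod_apply]
    by_cases hk : k ∈ S
    · rw [Set.indicator_of_mem hk]
      have : ∏ i ∈ U, (one k - c i k) = 0 := by
        refine Finset.prod_eq_zero (Finset.mem_filter.mpr ⟨Finset.mem_univ k, hk⟩) ?_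
        rw [hci k hk]
        simp [one]
      rw [this]
      simp [one]
    · rw [Set.indicator_of_notMem hk]
      have : ∏ i ∈ U, (one k - c i k) = 1 := by
        refine Finset.prod_eq_one ?_
        intro i hi
        rw [hcj i (Finset.mem_filter.mp hi).2 k hk]
        simp [one]
      rw [this]
      simp [one]
  rw [heq]
  exact hd

theorem IsLocalAlgebra.zero_mem {A : Set (ι → ℂ)} (hA : IsLocalAlgebra M A) : (0 : ι → ℂ) ∈ A := by
  have := hA.sub_mem _ _ hA.one_mem hA.one_mem
  rwa [sub_self] at this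

theorem IsLocalAlgebra.neg_mem {A : Set (ι → ℂ)} (hA : IsLocalAlgebra M A) {a : ι → ℂ}
    (ha : a ∈ A) : -a ∈ A := by
  have := hA.sub_mem _ _ hA.zero_mem ha
  rwa [zero_sub] at this

theorem IsLocalAlgebra.add_mem {A : Set (ι → ℂ)} (hA : IsLocalAlgebra M A) {a b : ι → ℂ}
    (ha : a ∈ A) (hb : b ∈ A) : a + b ∈ A := by
  have := hA.sub_mem _ _ ha (hA.neg_mem hb)
  rwa [sub_neg_eq_add] at this

/-- Inverses: if the indicator of `S` lies in the algebra and `a ∈ A` has all its coordinates on
`S` outside the local ideal, then the vector equal to `(a i)⁻¹` on `S` and `0` off `S` lies in the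
algebra. -/
theorem inv_indicator_mem [Finite ι] (hM : M.IsPrime) {A : Set (ι → ℂ)} (hA : IsLocalAlgebra M A)
    (S : Set ι) (hS : S.indicator (fun _ => (1 : ℂ)) ∈ A) {a : ι → ℂ} (ha : a ∈ A)
    (hu : ∀ i ∈ S, ¬ MemLocalIdeal M (a i)) :
    S.indicator (fun i => (a i)⁻¹) ∈ A := by
  classical
  have := Fintype.ofFinite ι
  let one : ι → ℂ := fun _ => 1
  -- by induction on a finset `T`: `∏ i ∈ T, (a - a i) = a * q + c` with `c` a unit
  have key : ∀ T : Finset ι, (∀ i ∈ T, i ∈ S) → ∃ q ∈ A, ∃ c : ℂ, MemLocalRing M c ∧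
      ¬ MemLocalIdeal M c ∧ ∀ k, ∏ i ∈ T, (a k - a i) = a k * q k + c := by
    intro T
    induction T using Finset.induction_on with
    | empty =>
      intro _
      refine ⟨0, hA.zero_mem, 1, memLocalRing_one hM, not_memLocalIdeal_one hM, fun k => ?_⟩
      simp
    | insert j T hj ih =>
      intro hT
      obtain ⟨q, hq, c, hcR, hcI, hqc⟩ := ih fun i hi => hT i (Finset.mem_insert_of_mem hi)
      have hjS : j ∈ S := hT j (Finset.mem_insert_self j T)
      have hajR : MemLocalRing M (a j) := hA.val_mem a ha j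
      -- new q := q * (a - a j) + c
      have h1 : (fun k => a j * one k) ∈ A := hA.smul_mem (a j) one hajR hA.one_mem
      have h2 : a - (fun k => a j * one k) ∈ A := hA.sub_mem _ _ ha h1
      have h3 : q * (a - (fun k => a j * one k)) ∈ A := hA.mul_mem _ _ hq h2
      have h4 : (fun k => c * one k) ∈ A := hA.smul_mem c one hcR hA.one_mem
      have h5 : q * (a - (fun k => a j * one k)) + (fun k => c * one k) ∈ A := hA.add_mem h3 h4
      refine ⟨_, h5, -(a j) * c, memLocalRing_mul hM (memLocalRing_neg hajR) hcR, ?_, fun k => ?_⟩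
      · rw [memLocalIdeal_mul_iff hM (memLocalRing_neg hajR) hcR]
        push Not
        refine ⟨fun h => hu j hjS ?_, hcI⟩
        have := memLocalIdeal_neg h
        rwa [neg_neg] at this
      · rw [Finset.prod_insert hj, hqc k]
        simp only [Pi.add_apply, Pi.mul_apply, Pi.sub_apply, one, mul_one]
        ring
  obtain ⟨q, hq, c, hcR, hcI, hqc⟩ := key (Finset.univ.filter (fun i => i ∈ S))
    (fun i hi => (Finset.mem_filter.mp hi).2)
  have hcinv : MemLocalRing M (-c⁻¹) := memLocalRing_neg (memLocalRing_inv hM hcR hcI)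
  have hc0 : c ≠ 0 := fun h0 => hcI (h0 ▸ memLocalIdeal_zero hM)
  have h6 : (fun k => -c⁻¹ * (S.indicator (fun _ => (1 : ℂ)) * q) k) ∈ A :=
    hA.smul_mem _ _ hcinv (hA.mul_mem _ _ hS hq)
  have heq : S.indicator (fun i => (a i)⁻¹) =
      (fun k => -c⁻¹ * (S.indicator (fun _ => (1 : ℂ)) * q) k) := by
    funext k
    by_cases hk : k ∈ S
    · rw [Set.indicator_of_mem hk]
      simp only [Pi.mul_apply, Set.indicator_of_mem hk, one_mul]
      have hprod : ∏ i ∈ Finset.univ.filter (fun i => i ∈ S), (a k - a i) = 0 :=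
        Finset.prod_eq_zero (Finset.mem_filter.mpr ⟨Finset.mem_univ k, hk⟩) (sub_self _)
      have h7 := hqc k
      rw [hprod] at h7
      have hak : a k ≠ 0 := fun h0 => hu k hk (h0 ▸ memLocalIdeal_zero hM)
      have h8 : q k = -c / a k := by
        field_simp
        linear_combination -h7
      rw [h8]
      field_simp
    · rw [Set.indicator_of_notMem hk]
      simp only [Pi.mul_apply, Set.indicator_of_notMem hk, zero_mul, mul_zero]
  rw [heq]
  exact h6

end Cfsg.Agent.Lib.Helper78_Idempotent
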