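import Mathlib
import Cfsg.Agent.Lib.Helper78_LocalRing
import Cfsg.Agent.Lib.Helper78_Idempotent
import Cfsg.Agent.Lib.Helper78_CentralChar

/-!
# Osima's theorem from the orthogonality relations (helper78)

`CharFacts G` packages the three facts of ordinary character theory that are needed: there are
finitely many irreducible characters, they are orthonormal, and a class function orthogonal to all
of them vanishes.  From these (and the integrality and multiplicativity of central characters,
`Helper78_CentralChar`) we derive, for a prime ideal `M` of the algebraic integers: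

* `osima`: if a set `S` of irreducible characters is closed under `SameBlock M`, then all
  coefficients `blockCoeff S g` of the sum of its central idempotents are local integers at `M`;
* in particular for a block (`osima_block`).
-/

set_option autoImplicit false
set_option linter.unusedSectionVars false

namespace Cfsg.Agent.Lib.Helper78_Osima

open Cfsg Cfsg.Agent.Lib.Helper78_LocalRing Cfsg.Agent.Lib.Helper78_Idempotent
  Cfsg.Agent.Lib.Helper78_CentralChar

open scoped ComplexConjugate

universe u

variable {G : Type u} [Group G] [Fintype G]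

/-- The facts of ordinary character theory used below. -/
structure CharFacts (G : Type u) [Group G] [Fintype G] : Prop where
  finite : Finite (IrrCharacter G)
  orth : ∀ χ ψ : IrrCharacter G,
    classInner (χ : G → ℂ) (ψ : G → ℂ) = if χ = ψ then 1 else 0
  complete : ∀ f : G → ℂ, IsClassFunction G f →
    (∀ χ : IrrCharacter G, classInner f (χ : G → ℂ) = 0) → f = 0

/-- The value of the central character of `χ` on the central element `∑ g, f g • g`. -/
noncomputable def omega (χ : G → ℂ) (f : G → ℂ) : ℂ := (∑ g : G, f g * χ g) / χ 1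

theorem omega_sub (χ f f' : G → ℂ) : omega χ (f - f') = omega χ f - omega χ f' := by
  unfold omega
  rw [← sub_div, ← Finset.sum_sub_distrib]
  congr 1
  refine Finset.sum_congr rfl fun g _ => ?_
  simp only [Pi.sub_apply]
  ring

theorem omega_smul (χ f : G → ℂ) (r : ℂ) : omega χ (fun g => r * f g) = r * omega χ f := by
  unfold omega
  rw [← mul_div_assoc, Finset.mul_sum]
  congr 1
  refine Finset.sum_congr rfl fun g _ => ?_
  ring

/-- Convolution of two functions on the group. -/
noncomputable def conv (f f' : G → ℂ) : G → ℂ := fun g => ∑ x : G, f x * f' (x⁻¹ * g)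

theorem conv_isClassFunction {f f' : G → ℂ} (hf : IsClassFunction G f)
    (hf' : IsClassFunction G f') : IsClassFunction G (conv f f') := by
  intro g h
  unfold conv
  rw [← Equiv.sum_comp (MulAut.conj h).toEquiv]
  refine Finset.sum_congr rfl fun x _ => ?_
  simp only [MulEquiv.toEquiv_eq_coe, EquivLike.coe_coe, MulAut.conj_apply]
  rw [hf x h]
  congr 1
  have : (h * x * h⁻¹)⁻¹ * (h * g * h⁻¹) = h * (x⁻¹ * g) * h⁻¹ := by group
  rw [this, hf' _ h]

/-- Key lemma: for a class function `f'` and an irreducible character `χ`,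
`∑ y, f' y χ(x y) = χ(x)/χ(1) ∑ y, f' y χ(y)`. -/
theorem sum_mul_shift {χ : G → ℂ} (hχ : IsIrrCharacter G χ) {f' : G → ℂ}
    (hf' : IsClassFunction G f') (x : G) :
    ∑ y : G, f' y * χ (x * y) = χ x * ((∑ y : G, f' y * χ y) / χ 1) := by
  have hG : (Nat.card G : ℂ) ≠ 0 := by
    exact_mod_cast (Nat.card_pos (α := G)).ne'
  have h1 : (Nat.card G : ℂ) * ∑ y : G, f' y * χ (x * y) =
      ∑ t : G, ∑ y : G, f' y * χ (x * (t * y * t⁻¹)) := by
    rw [Nat.card_eq_fintype_card, ← Finset.card_univ, ← nsmul_eq_mul, ← Finset.sum_const]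
    refine Finset.sum_congr rfl fun t _ => ?_
    rw [← Equiv.sum_comp (MulAut.conj t).toEquiv]
    refine Finset.sum_congr rfl fun y _ => ?_
    simp only [MulEquiv.toEquiv_eq_coe, EquivLike.coe_coe, MulAut.conj_apply]
    rw [hf' y t]
  have h2 : ∑ t : G, ∑ y : G, f' y * χ (x * (t * y * t⁻¹)) =
      ∑ y : G, f' y * ((Nat.card G : ℂ) * χ x * χ y / χ 1) := by
    rw [Finset.sum_comm]
    refine Finset.sum_congr rfl fun y _ => ?_
    rw [← Finset.mul_sum, sum_mul_conj_of_isIrrCharacter hχ x y]
  have h3 : (Nat.card G : ℂ) * ∑ y : G, f' y * χ (x * y) =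
      (Nat.card G : ℂ) * (χ x * ((∑ y : G, f' y * χ y) / χ 1)) := by
    rw [h1, h2, Finset.sum_div, Finset.mul_sum, Finset.mul_sum]
    refine Finset.sum_congr rfl fun y _ => ?_
    ring
  exact mul_left_cancel₀ hG h3

theorem omega_conv {χ : G → ℂ} (hχ : IsIrrCharacter G χ) (f : G → ℂ) {f' : G → ℂ}
    (hf' : IsClassFunction G f') : omega χ (conv f f') = omega χ f * omega χ f' := by
  unfold omega conv
  have h1 : ∑ g : G, (∑ x : G, f x * f' (x⁻¹ * g)) * χ g =
      ∑ x : G, f x * ∑ y : G, f' y * χ (x * y) := by
    simp_rw [Finset.sum_mul, Finset.mul_sum]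
    rw [Finset.sum_comm]
    refine Finset.sum_congr rfl fun x _ => ?_
    rw [← Equiv.sum_comp (Equiv.mulLeft x)]
    refine Finset.sum_congr rfl fun y _ => ?_
    simp only [Equiv.coe_mulLeft, inv_mul_cancel_left]
    ring
  rw [h1]
  simp_rw [sum_mul_shift hχ hf']
  have h0 := isIrrCharacter_one_ne_zero hχ
  have h2 : ∑ x : G, f x * (χ x * ((∑ y : G, f' y * χ y) / χ 1)) =
      (∑ x : G, f x * χ x) * ((∑ y : G, f' y * χ y) / χ 1) := by
    rw [Finset.sum_mul]
    refine Finset.sum_congr rfl fun x _ => ?_
    ring
  rw [h2]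
  field_simp

/-! ### Sums of class functions over the group, by conjugacy classes -/

/-- The indicator function of the conjugacy class of `g`. -/
noncomputable def classIndicator (g : G) : G → ℂ :=
  Set.indicator {k : G | IsConj g k} (fun _ => (1 : ℂ))

theorem isConj_conj_iff (g k h : G) : IsConj g (h * k * h⁻¹) ↔ IsConj g k := by
  constructor
  · intro h1
    exact h1.trans (isConj_iff.mpr ⟨h⁻¹, by group⟩)
  · intro h1
    exact h1.trans (isConj_iff.mpr ⟨h, rfl⟩)

theorem classIndicator_isClassFunction (g : G) : IsClassFunction G (classIndicator g) := by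
  classical
  intro k h
  unfold classIndicator
  simp only [Set.indicator_apply, Set.mem_ofPred_eq, isConj_conj_iff]

theorem memLocalRing_classIndicator {M : Ideal AlgInt} (hM : M.IsPrime) (g x : G) :
    MemLocalRing M (classIndicator g x) := by
  classical
  unfold classIndicator
  rw [Set.indicator_apply]
  split_ifs
  · exact memLocalRing_one hM
  · exact memLocalRing_zero hM

theorem omega_classIndicator {χ : G → ℂ} (hχ : IsClassFunction G χ) (g : G) :
    omega χ (classIndicator g) = centralChar χ g := by
  classical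
  unfold omega classIndicator centralChar
  have h1 : ∑ k : G, Set.indicator {k : G | IsConj g k} (fun _ => (1 : ℂ)) k * χ k =
      ∑ k ∈ Finset.univ.filter (fun k : G => IsConj g k), χ g := by
    rw [Finset.sum_filter]
    refine Finset.sum_congr rfl fun k _ => ?_
    rw [Set.indicator_apply]
    simp only [Set.mem_ofPred_eq]
    split_ifs with h
    · obtain ⟨c, hc⟩ := isConj_iff.mp h
      rw [one_mul, ← hc, hχ g c]
    · rw [zero_mul]
  rw [h1, Finset.sum_const, nsmul_eq_mul, card_conjClass_filter]

/-- A sum over the group of a class function, written as a sum over conjugacy classes. -/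
theorem sum_eq_sum_conjClasses [Fintype (ConjClasses G)] (F : G → ℂ) (hF : IsClassFunction G F) :
    ∑ g : G, F g = ∑ c : ConjClasses G,
      ((Subgroup.centralizer ({c.out} : Set G)).index : ℂ) * F c.out := by
  classical
  rw [← Finset.sum_fiberwise Finset.univ (ConjClasses.mk) F]
  refine Finset.sum_congr rfl fun c _ => ?_
  have hc : ∀ g : G, ConjClasses.mk g = c ↔ IsConj c.out g := by
    intro g
    rw [← ConjClasses.mk_eq_mk_iff_isConj]
    have : ConjClasses.mk c.out = c := Quotient.out_eq c
    rw [this, eq_comm]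
  have h1 : (Finset.univ.filter (fun g : G => ConjClasses.mk g = c)) =
      Finset.univ.filter (fun g : G => IsConj c.out g) := by
    ext g
    simp only [Finset.mem_filter, Finset.mem_univ, true_and]
    exact hc g
  rw [h1, ← card_conjClass_filter, ← nsmul_eq_mul, ← Finset.sum_const]
  refine Finset.sum_congr rfl fun g hg => ?_
  obtain ⟨x, hx⟩ := isConj_iff.mp (Finset.mem_filter.mp hg).2
  rw [← hx, hF]

/-- The central character of an irreducible character maps local-integer-valued class functions
to local integers. -/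
theorem memLocalRing_omega {M : Ideal AlgInt} (hM : M.IsPrime) {χ : G → ℂ}
    (hχ : IsIrrCharacter G χ) {f : G → ℂ} (hf : IsClassFunction G f)
    (hfR : ∀ g, MemLocalRing M (f g)) : MemLocalRing M (omega χ f) := by
  classical
  unfold omega
  have hχc := isIrrCharacter_isClassFunction hχ
  have h1 : (∑ g : G, f g * χ g) / χ 1 = ∑ g : G, f g * χ g / χ 1 := by
    rw [Finset.sum_div]
  rw [h1, sum_eq_sum_conjClasses (fun g => f g * χ g / χ 1)]
  · refine memLocalRing_sum hM _ _ fun c _ => ?_
    have h2 : ((Subgroup.centralizer ({c.out} : Set G)).index : ℂ) * (f c.out * χ c.out / χ 1) =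
        f c.out * centralChar χ c.out := by
      unfold centralChar
      ring
    rw [h2]
    refine memLocalRing_mul hM (hfR _) ?_
    have := memLocalRing_algInt hM (centralCharAlgInt ⟨χ, hχ⟩ c.out)
    simpa using this
  · intro g h
    show f (h * g * h⁻¹) * χ (h * g * h⁻¹) / χ 1 = f g * χ g / χ 1
    rw [hf g h, hχc g h]

/-! ### The algebra of central characters -/

/-- The vectors `(ω_χ(f))_χ` for `f` a class function with local-integer values. -/
def centralAlgebra (M : Ideal AlgInt) (G : Type u) [Group G] [Fintype G] :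
    Set (IrrCharacter G → ℂ) :=
  {v | ∃ f : G → ℂ, IsClassFunction G f ∧ (∀ g, MemLocalRing M (f g)) ∧
    ∀ χ : IrrCharacter G, v χ = omega (χ : G → ℂ) f}

theorem conj_eq_one_iff (g h : G) : h * g * h⁻¹ = 1 ↔ g = 1 := by
  constructor
  · intro h1
    have : g = h⁻¹ * (h * g * h⁻¹) * h := by group
    rw [this, h1]
    group
  · intro h1
    rw [h1]
    group

theorem centralAlgebra_isLocalAlgebra {M : Ideal AlgInt} (hM : M.IsPrime) :
    IsLocalAlgebra M (centralAlgebra M G) := by
  classical
  refine ⟨?_, ?_, ?_, ?_, ?_⟩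
  · refine ⟨fun g => if g = 1 then 1 else 0, ?_, ?_, ?_⟩
    · intro g h
      simp only [conj_eq_one_iff]
    · intro g
      show MemLocalRing M (if g = 1 then 1 else 0)
      split_ifs
      · exact memLocalRing_one hM
      · exact memLocalRing_zero hM
    · intro χ
      unfold omega
      simp only [ite_mul, one_mul, zero_mul, Finset.sum_ite_eq', Finset.mem_univ, if_true]
      rw [div_self (isIrrCharacter_one_ne_zero χ.2)]
  · rintro a b ⟨f, hf, hfR, hfa⟩ ⟨f', hf', hfR', hfb⟩
    refine ⟨f - f', ?_, ?_, ?_⟩
    · intro g h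
      simp only [Pi.sub_apply]
      rw [hf g h, hf' g h]
    · intro g
      exact memLocalRing_sub hM (hfR g) (hfR' g)
    · intro χ
      rw [omega_sub, Pi.sub_apply, hfa, hfb]
  · rintro a b ⟨f, hf, hfR, hfa⟩ ⟨f', hf', hfR', hfb⟩
    refine ⟨conv f f', conv_isClassFunction hf hf', ?_, ?_⟩
    · intro g
      unfold conv
      exact memLocalRing_sum hM _ _ fun x _ => memLocalRing_mul hM (hfR x) (hfR' _)
    · intro χ
      rw [omega_conv χ.2 f hf', Pi.mul_apply, hfa, hfb]
  · rintro r a hr ⟨f, hf, hfR, hfa⟩
    refine ⟨fun g => r * f g, ?_, ?_, ?_⟩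
    · intro g h
      show r * f (h * g * h⁻¹) = r * f g
      rw [hf g h]
    · intro g
      exact memLocalRing_mul hM hr (hfR g)
    · intro χ
      show r * a χ = _
      rw [omega_smul, hfa]
  · rintro a ⟨f, hf, hfR, hfa⟩ χ
    rw [hfa]
    exact memLocalRing_omega hM χ.2 hf hfR

/-! ### Osima's theorem -/

theorem blockCoeff_eq_sum [Fintype (IrrCharacter G)] (S : Set (IrrCharacter G)) (g : G) :
    blockCoeff S g = (Nat.card G : ℂ)⁻¹ * ∑ χ : IrrCharacter G,
      S.indicator (fun χ : IrrCharacter G => (χ : G → ℂ) 1 * conj ((χ : G → ℂ) g)) χ := by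
  unfold blockCoeff
  congr 1
  rw [finsum_mem_def, finsum_eq_sum_of_fintype]

theorem blockCoeff_isClassFunction (S : Set (IrrCharacter G)) :
    IsClassFunction G (blockCoeff S) := by
  intro g h
  unfold blockCoeff
  congr 1
  refine finsum_congr fun χ => ?_
  refine finsum_congr fun _ => ?_
  rw [isIrrCharacter_isClassFunction χ.2 g h]

theorem omega_blockCoeff (hc : CharFacts G) (S : Set (IrrCharacter G)) (ψ : IrrCharacter G) :
    omega (ψ : G → ℂ) (blockCoeff S) = S.indicator (fun _ => (1 : ℂ)) ψ := by
  classical
  have := hc.finite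
  have := Fintype.ofFinite (IrrCharacter G)
  unfold omega
  have hψ1 := isIrrCharacter_one_ne_zero ψ.2
  have h1 : ∑ g : G, blockCoeff S g * (ψ : G → ℂ) g =
      ∑ χ : IrrCharacter G, S.indicator (fun χ : IrrCharacter G => (χ : G → ℂ) 1 *
        classInner (ψ : G → ℂ) (χ : G → ℂ)) χ := by
    simp_rw [blockCoeff_eq_sum S, Finset.mul_sum, Finset.sum_mul]
    rw [Finset.sum_comm]
    refine Finset.sum_congr rfl fun χ _ => ?_
    by_cases hχ : χ ∈ S
    · simp only [Set.indicator_of_mem hχ]
      unfold classInner
      rw [Finset.mul_sum, Finset.mul_sum]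
      refine Finset.sum_congr rfl fun g _ => ?_
      ring
    · simp only [Set.indicator_of_notMem hχ]
      refine Finset.sum_eq_zero fun g _ => ?_
      ring
  rw [h1]
  simp_rw [hc.orth ψ]
  by_cases hψ : ψ ∈ S
  · rw [Set.indicator_of_mem hψ, Finset.sum_eq_single ψ]
    · rw [Set.indicator_of_mem hψ, if_pos rfl, mul_one, div_self hψ1]
    · intro χ _ hne
      by_cases hχ : χ ∈ S
      · rw [Set.indicator_of_mem hχ, if_neg (Ne.symm hne), mul_zero]
      · rw [Set.indicator_of_notMem hχ]
    · intro h
      exact absurd (Finset.mem_univ ψ) h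
  · rw [Set.indicator_of_notMem hψ, Finset.sum_eq_zero, zero_div]
    intro χ _
    by_cases hχ : χ ∈ S
    · have hne : ψ ≠ χ := fun h => hψ (h ▸ hχ)
      rw [Set.indicator_of_mem hχ, if_neg hne, mul_zero]
    · rw [Set.indicator_of_notMem hχ]

/-- Completeness in the form used here: a class function killed by all central characters
vanishes. -/
theorem eq_zero_of_omega_eq_zero (hc : CharFacts G) {h : G → ℂ} (hh : IsClassFunction G h)
    (h0 : ∀ χ : IrrCharacter G, omega (χ : G → ℂ) h = 0) : h = 0 := by
  have hconj : (fun g => conj (h g)) = 0 := by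
    refine hc.complete _ ?_ ?_
    · intro g k
      show conj (h (k * g * k⁻¹)) = conj (h g)
      rw [hh g k]
    · intro χ
      have h1 := h0 χ
      unfold omega at h1
      rw [div_eq_zero_iff] at h1
      have h2 : ∑ g : G, h g * (χ : G → ℂ) g = 0 := by
        rcases h1 with h1 | h1
        · exact h1
        · exact absurd h1 (isIrrCharacter_one_ne_zero χ.2)
      unfold classInner
      have h3 : ∑ g : G, conj (h g) * conj ((χ : G → ℂ) g) =
          conj (∑ g : G, h g * (χ : G → ℂ) g) := by
        rw [map_sum]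
        refine Finset.sum_congr rfl fun g _ => ?_
        rw [map_mul]
      rw [h3, h2, map_zero, mul_zero]
  funext g
  have := congrFun hconj g
  simpa using this

/-- **Osima's theorem**: if `S` is closed under `SameBlock M`, the coefficients of the sum of the
central idempotents of the members of `S` are local integers at `M`. -/
theorem osima (hc : CharFacts G) {M : Ideal AlgInt} (hM : M.IsPrime)
    (S : Set (IrrCharacter G))
    (hS : ∀ χ ∈ S, ∀ ψ : IrrCharacter G, SameBlock M (χ : G → ℂ) (ψ : G → ℂ) → ψ ∈ S) (g : G) :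
    MemLocalRing M (blockCoeff S g) := by
  classical
  have := hc.finite
  have hA := centralAlgebra_isLocalAlgebra (G := G) hM
  have hind := indicator_mem hM hA S ?_
  · obtain ⟨f, hf, hfR, hfv⟩ := hind
    have hsub : f - blockCoeff S = 0 := by
      refine eq_zero_of_omega_eq_zero hc ?_ ?_
      · intro k h
        simp only [Pi.sub_apply]
        rw [hf k h, blockCoeff_isClassFunction S k h]
      · intro χ
        rw [omega_sub, ← hfv χ, omega_blockCoeff hc S χ, sub_self]
    have : f = blockCoeff S := sub_eq_zero.mp hsub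
    rw [← this]
    exact hfR g
  · intro χ hχ ψ hψ
    have hns : ¬ SameBlock M (χ : G → ℂ) (ψ : G → ℂ) := fun h => hψ (hS χ hχ ψ h)
    unfold SameBlock at hns
    push Not at hns
    obtain ⟨k, hk⟩ := hns
    refine ⟨fun θ => omega (θ : G → ℂ) (classIndicator k),
      ⟨classIndicator k, classIndicator_isClassFunction k, memLocalRing_classIndicator hM k,
        fun θ => rfl⟩, ?_⟩
    show ¬ MemLocalIdeal M (omega (χ : G → ℂ) (classIndicator k) -
      omega (ψ : G → ℂ) (classIndicator k))
    rw [omega_classIndicator (isIrrCharacter_isClassFunction χ.2),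
      omega_classIndicator (isIrrCharacter_isClassFunction ψ.2)]
    exact hk

/-- Osima's theorem for a block. -/
theorem osima_block (hc : CharFacts G) {M : Ideal AlgInt} (hM : M.IsPrime)
    {B : Set (IrrCharacter G)} (hB : IsPBlock M B) (g : G) :
    MemLocalRing M (blockCoeff B g) :=
  osima hc hM B (fun _ hχ _ h => isPBlock_mem_of_sameBlock hM hB hχ h) g

/-! ### Central characters of characters in the same block agree on local-integral class
functions; converse of Osima; existence of defect classes -/

theorem omega_eq_sum_conjClasses [Fintype (ConjClasses G)] {χ : G → ℂ} (hχ : IsClassFunction G χ)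
    {f : G → ℂ} (hf : IsClassFunction G f) :
    omega χ f = ∑ c : ConjClasses G, f c.out * centralChar χ c.out := by
  unfold omega
  rw [Finset.sum_div, sum_eq_sum_conjClasses (fun g => f g * χ g / χ 1)]
  · refine Finset.sum_congr rfl fun c _ => ?_
    unfold centralChar
    ring
  · intro g h
    show f (h * g * h⁻¹) * χ (h * g * h⁻¹) / χ 1 = f g * χ g / χ 1
    rw [hf g h, hχ g h]

/-- If `χ` and `ψ` are in the same block, their central characters agree modulo the local ideal on
every class function with local-integer values. -/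
theorem memLocalIdeal_omega_sub {M : Ideal AlgInt} (hM : M.IsPrime) {χ ψ : G → ℂ}
    (hχ : IsClassFunction G χ) (hψ : IsClassFunction G ψ) (hsb : SameBlock M χ ψ) {f : G → ℂ}
    (hf : IsClassFunction G f) (hfR : ∀ g, MemLocalRing M (f g)) :
    MemLocalIdeal M (omega χ f - omega ψ f) := by
  classical
  rw [omega_eq_sum_conjClasses hχ hf, omega_eq_sum_conjClasses hψ hf, ← Finset.sum_sub_distrib]
  refine memLocalIdeal_sum hM _ _ fun c _ => ?_
  rw [← mul_sub]
  exact memLocalIdeal_mul_left hM (hfR _) (hsb _)

/-- Converse of Osima's theorem: a set of irreducible characters whose idempotent has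
local-integer coefficients is a union of blocks. -/
theorem mem_of_sameBlock_of_memLocalRing_blockCoeff (hc : CharFacts G) {M : Ideal AlgInt}
    (hM : M.IsPrime) (S : Set (IrrCharacter G)) (hS : ∀ g : G, MemLocalRing M (blockCoeff S g))
    {χ ψ : IrrCharacter G} (hχ : χ ∈ S) (hsb : SameBlock M (χ : G → ℂ) (ψ : G → ℂ)) : ψ ∈ S := by
  by_contra hψ
  have h := memLocalIdeal_omega_sub hM (isIrrCharacter_isClassFunction χ.2)
    (isIrrCharacter_isClassFunction ψ.2) hsb (blockCoeff_isClassFunction S) hS
  rw [omega_blockCoeff hc S χ, omega_blockCoeff hc S ψ, Set.indicator_of_mem hχ,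
    Set.indicator_of_notMem hψ, sub_zero] at h
  exact not_memLocalIdeal_one hM h

/-- Every block has a defect class. -/
theorem exists_isDefectClass (hc : CharFacts G) {M : Ideal AlgInt} (hM : M.IsPrime)
    {B : Set (IrrCharacter G)} (hB : IsPBlock M B) : ∃ g : G, IsDefectClass M B g := by
  classical
  obtain ⟨χ, hχ⟩ := isPBlock_nonempty hM hB
  have hχc := isIrrCharacter_isClassFunction χ.2
  have h1 : omega (χ : G → ℂ) (blockCoeff B) = 1 := by
    rw [omega_blockCoeff hc B χ, Set.indicator_of_mem hχ]
  rw [omega_eq_sum_conjClasses hχc (blockCoeff_isClassFunction B)] at h1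
  -- some class contributes outside the local ideal
  have hex : ∃ c : ConjClasses G,
      ¬ MemLocalIdeal M (blockCoeff B c.out * centralChar (χ : G → ℂ) c.out) := by
    by_contra hcon
    push Not at hcon
    have := memLocalIdeal_sum hM Finset.univ
      (fun c : ConjClasses G => blockCoeff B c.out * centralChar (χ : G → ℂ) c.out)
      (fun c _ => hcon c)
    rw [h1] at this
    exact not_memLocalIdeal_one hM this
  obtain ⟨c, hcne⟩ := hex
  have hR1 : MemLocalRing M (blockCoeff B c.out) := osima_block hc hM hB c.out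
  have hR2 : MemLocalRing M (centralChar (χ : G → ℂ) c.out) := by
    have := memLocalRing_algInt hM (centralCharAlgInt χ c.out)
    simpa using this
  rw [memLocalIdeal_mul_iff hM hR1 hR2] at hcne
  push Not at hcne
  refine ⟨c.out, hR1, hcne.1, ?_⟩
  intro ψ hψ hψI
  have hsb := isPBlock_sameBlock hM hB hχ hψ
  have := memLocalIdeal_add hM (hsb c.out) hψI
  rw [sub_add_cancel] at this
  exact hcne.2 this

/-! ### Units of the block algebra -/

/-- Two class functions with the same central character values are equal. -/
theorem eq_of_omega_eq (hc : CharFacts G) {f f' : G → ℂ} (hf : IsClassFunction G f)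
    (hf' : IsClassFunction G f')
    (h : ∀ χ : IrrCharacter G, omega (χ : G → ℂ) f = omega (χ : G → ℂ) f') : f = f' := by
  have hsub : f - f' = 0 := by
    refine eq_zero_of_omega_eq_zero hc ?_ ?_
    · intro k x
      simp only [Pi.sub_apply]
      rw [hf k x, hf' k x]
    · intro χ
      rw [omega_sub, h χ, sub_self]
  exact sub_eq_zero.mp hsub

/-- The indicator of a `SameBlock`-closed set lies in the central algebra. -/
theorem indicator_mem_centralAlgebra (hc : CharFacts G) {M : Ideal AlgInt} (hM : M.IsPrime)
    (S : Set (IrrCharacter G))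
    (hS : ∀ χ ∈ S, ∀ ψ : IrrCharacter G, SameBlock M (χ : G → ℂ) (ψ : G → ℂ) → ψ ∈ S) :
    S.indicator (fun _ => (1 : ℂ)) ∈ centralAlgebra M G :=
  ⟨blockCoeff S, blockCoeff_isClassFunction S, osima hc hM S hS,
    fun χ => (omega_blockCoeff hc S χ).symm⟩

/-- If the central characters of a block `B` do not vanish (modulo the local ideal) on the
local-integral class function `f`, then `f` is invertible in the block algebra: some
local-integral class function `w` satisfies `f ⋆ w = e_B`. -/
theorem exists_conv_eq_blockCoeff (hc : CharFacts G) {M : Ideal AlgInt} (hM : M.IsPrime)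
    {B : Set (IrrCharacter G)} (hB : IsPBlock M B) {f : G → ℂ} (hf : IsClassFunction G f)
    (hfR : ∀ g, MemLocalRing M (f g))
    (hu : ∀ χ ∈ B, ¬ MemLocalIdeal M (omega ((χ : IrrCharacter G) : G → ℂ) f)) :
    ∃ w : G → ℂ, IsClassFunction G w ∧ (∀ g, MemLocalRing M (w g)) ∧ conv f w = blockCoeff B := by
  classical
  have := hc.finite
  have hA := centralAlgebra_isLocalAlgebra (G := G) hM
  have hBind : B.indicator (fun _ => (1 : ℂ)) ∈ centralAlgebra M G :=
    indicator_mem_centralAlgebra hc hM B (fun _ hχ _ h => isPBlock_mem_of_sameBlock hM hB hχ h)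
  have hfA : (fun χ : IrrCharacter G => omega (χ : G → ℂ) f) ∈ centralAlgebra M G :=
    ⟨f, hf, hfR, fun _ => rfl⟩
  obtain ⟨w, hw, hwR, hwv⟩ := inv_indicator_mem hM hA B hBind hfA hu
  refine ⟨w, hw, hwR, ?_⟩
  refine eq_of_omega_eq hc (conv_isClassFunction hf hw) (blockCoeff_isClassFunction B) ?_
  intro χ
  rw [omega_conv χ.2 f hw, ← hwv χ, omega_blockCoeff hc B χ]
  by_cases hχ : χ ∈ B
  · rw [Set.indicator_of_mem hχ, Set.indicator_of_mem hχ]
    have h0 : omega (χ : G → ℂ) f ≠ 0 := fun h0 => hu χ hχ (h0 ▸ memLocalIdeal_zero hM)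
    exact mul_inv_cancel₀ h0
  · rw [Set.indicator_of_notMem hχ, Set.indicator_of_notMem hχ, mul_zero]

end Cfsg.Agent.Lib.Helper78_Osima
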