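import Mathlib
import Cfsg.Agent.Lib.Helper78_Osima

/-!
# Multiplicative functionals on the centre of the local group ring are central characters
(helper78)

`exists_irr_of_multiplicative`: a linear functional `lam` on functions `G → ℂ` that maps
local-integral class functions to local integers, is multiplicative modulo the local ideal with
respect to convolution, and maps the identity to `1`, agrees modulo the local ideal with
`omega χ` for some irreducible character `χ`.
-/

set_option autoImplicit false

namespace Cfsg.Agent.Lib.Helper78_AlgHom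

open Cfsg Cfsg.Agent.Lib.Helper78_LocalRing Cfsg.Agent.Lib.Helper78_CentralChar
  Cfsg.Agent.Lib.Helper78_Osima

open scoped ComplexConjugate

universe u
variable {G : Type u} [Group G] [Fintype G] {M : Ideal AlgInt}

theorem blockCoeff_union (hc : CharFacts G) {S T : Set (IrrCharacter G)} (hST : Disjoint S T) :
    blockCoeff (S ∪ T) = blockCoeff S + blockCoeff T := by
  classical
  have := hc.finite
  have := Fintype.ofFinite (IrrCharacter G)
  funext g
  simp only [Pi.add_apply, blockCoeff_eq_sum, ← mul_add, ← Finset.sum_add_distrib]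
  congr 1
  refine Finset.sum_congr rfl fun χ _ => ?_
  rw [Set.indicator_union_of_disjoint hST]

theorem blockCoeff_empty : blockCoeff (∅ : Set (IrrCharacter G)) = 0 := by
  funext g
  unfold blockCoeff
  simp

theorem omega_classIndicator_one {χ : G → ℂ} (hχ : IsIrrCharacter G χ) :
    omega χ (classIndicator 1) = 1 := by
  rw [omega_classIndicator (isIrrCharacter_isClassFunction hχ)]
  unfold centralChar
  have h1 : Subgroup.centralizer ({1} : Set G) = ⊤ := by
    ext x
    simp [Subgroup.mem_centralizer_iff]
  rw [h1, Subgroup.index_top, Nat.cast_one, one_mul, div_self (isIrrCharacter_one_ne_zero hχ)]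

theorem blockCoeff_univ (hc : CharFacts G) :
    blockCoeff (Set.univ : Set (IrrCharacter G)) = classIndicator 1 := by
  refine eq_of_omega_eq hc (blockCoeff_isClassFunction _) (classIndicator_isClassFunction 1) ?_
  intro χ
  rw [omega_blockCoeff hc, omega_classIndicator_one χ.2, Set.indicator_of_mem (Set.mem_univ χ)]

theorem conv_blockCoeff_self (hc : CharFacts G) (S : Set (IrrCharacter G)) :
    conv (blockCoeff S) (blockCoeff S) = blockCoeff S := by
  classical
  refine eq_of_omega_eq hc
    (conv_isClassFunction (blockCoeff_isClassFunction S) (blockCoeff_isClassFunction S))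
    (blockCoeff_isClassFunction S) ?_
  intro χ
  rw [omega_conv χ.2 _ (blockCoeff_isClassFunction S), omega_blockCoeff hc]
  by_cases h : χ ∈ S
  · rw [Set.indicator_of_mem h, mul_one]
  · rw [Set.indicator_of_notMem h, mul_zero]

/-- A functional which is not in the ideal on `e_S`, `S` closed under `SameBlock`, is not in the
ideal on some `e_B`, `B ⊆ S` a block. -/
theorem exists_block_not_mem (hc : CharFacts G) (hM : M.IsPrime) (lam : (G → ℂ) → ℂ)
    (hadd : ∀ f f' : G → ℂ, lam (f + f') = lam f + lam f') (hzero : lam 0 = 0) :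
    ∀ (n : ℕ) (S : Set (IrrCharacter G)), S.ncard = n →
      (∀ χ ∈ S, ∀ ψ : IrrCharacter G, SameBlock M (χ : G → ℂ) (ψ : G → ℂ) → ψ ∈ S) →
      ¬ MemLocalIdeal M (lam (blockCoeff S)) →
      ∃ B : Set (IrrCharacter G), IsPBlock M B ∧ B ⊆ S ∧ ¬ MemLocalIdeal M (lam (blockCoeff B)) := by
  classical
  have := hc.finite
  intro n
  induction n using Nat.strong_induction_on with
  | _ n ih =>
    intro S hn hS hlam
    have hne : S.Nonempty := by
      by_contra h
      rw [Set.not_nonempty_iff_eq_empty] at h
      rw [h, blockCoeff_empty, hzero] at hlam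
      exact hlam (memLocalIdeal_zero hM)
    obtain ⟨χ, hχ⟩ := hne
    set B := blockOf M (χ : G → ℂ) with hBdef
    have hB : IsPBlock M B := isPBlock_blockOf χ
    have hBS : B ⊆ S := fun ψ hψ => hS χ hχ ψ hψ
    by_cases hlB : MemLocalIdeal M (lam (blockCoeff B))
    · -- pass to the complement
      have hdisj : Disjoint B (S \ B) := Set.disjoint_sdiff_right
      have hunion : B ∪ (S \ B) = S := Set.union_sdiff_cancel hBS
      have hsplit : blockCoeff S = blockCoeff B + blockCoeff (S \ B) := by
        rw [← blockCoeff_union hc hdisj, hunion]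
      have hS' : ∀ θ ∈ S \ B, ∀ ψ : IrrCharacter G,
          SameBlock M (θ : G → ℂ) (ψ : G → ℂ) → ψ ∈ S \ B := by
        intro θ hθ ψ hsb
        refine ⟨hS θ hθ.1 ψ hsb, fun hψB => hθ.2 ?_⟩
        exact sameBlock_trans hM hψB (sameBlock_symm hsb)
      have hlam' : ¬ MemLocalIdeal M (lam (blockCoeff (S \ B))) := by
        intro h
        apply hlam
        rw [hsplit, hadd]
        exact memLocalIdeal_add hM hlB h
      have hlt : (S \ B).ncard < n := by
        rw [← hn]
        refine Set.ncard_lt_ncard ?_ (Set.toFinite S)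
        refine ⟨Set.sdiff_subset, fun h => ?_⟩
        exact (h hχ).2 (mem_blockOf_self hM χ)
      obtain ⟨B', hB', hB'S, hl'⟩ := ih _ hlt (S \ B) rfl hS' hlam'
      exact ⟨B', hB', hB'S.trans Set.sdiff_subset, hl'⟩
    · exact ⟨B, hB, hBS, hlB⟩

/-- **Characterisation of multiplicative functionals.** -/
theorem exists_irr_of_multiplicative (hc : CharFacts G) (hM : M.IsPrime) (lam : (G → ℂ) → ℂ)
    (hadd : ∀ f f' : G → ℂ, lam (f + f') = lam f + lam f')
    (hsmul : ∀ (r : ℂ) (f : G → ℂ), lam (fun g => r * f g) = r * lam f)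
    (hR : ∀ f : G → ℂ, IsClassFunction G f → (∀ g, MemLocalRing M (f g)) →
      MemLocalRing M (lam f))
    (hmul : ∀ f f' : G → ℂ, IsClassFunction G f → (∀ g, MemLocalRing M (f g)) →
      IsClassFunction G f' → (∀ g, MemLocalRing M (f' g)) →
      MemLocalIdeal M (lam (conv f f') - lam f * lam f'))
    (hone : lam (classIndicator 1) = 1) :
    ∃ χ : IrrCharacter G, ∀ f : G → ℂ, IsClassFunction G f → (∀ g, MemLocalRing M (f g)) →
      MemLocalIdeal M (lam f - omega (χ : G → ℂ) f) := by
  classical
  have hzero : lam 0 = 0 := by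
    have h := hsmul 0 0
    have h0 : (fun g : G => (0 : ℂ) * (0 : G → ℂ) g) = 0 := by
      funext g
      simp
    rw [h0, zero_mul] at h
    exact h
  -- a block on whose idempotent `lam` is a unit
  obtain ⟨B, hB, -, hlB⟩ := exists_block_not_mem hc hM lam hadd hzero _ Set.univ rfl
    (fun _ _ _ _ => Set.mem_univ _) (by
      rw [blockCoeff_univ hc, hone]
      exact not_memLocalIdeal_one hM)
  have heR : ∀ g, MemLocalRing M (blockCoeff B g) := osima_block hc hM hB
  have hec := blockCoeff_isClassFunction B
  set ℓ := lam (blockCoeff B) with hℓ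
  have hℓR : MemLocalRing M ℓ := hR _ hec heR
  -- `ℓ ≡ 1`
  have hℓ1 : MemLocalIdeal M (ℓ - 1) := by
    have h1 := hmul _ _ hec heR hec heR
    rw [conv_blockCoeff_self hc B] at h1
    have h2 : ℓ - ℓ * ℓ = -(ℓ * (ℓ - 1)) := by ring
    rw [← hℓ, h2] at h1
    have h3 := memLocalIdeal_neg h1
    rw [neg_neg] at h3
    rcases (memLocalIdeal_mul_iff hM hℓR (memLocalRing_sub hM hℓR (memLocalRing_one hM))).1 h3
      with h | h
    · exact absurd h hlB
    · exact h
  obtain ⟨χ, hχ⟩ := isPBlock_nonempty hM hB
  refine ⟨χ, fun f hf hfR => ?_⟩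
  by_contra hcon
  set r := lam f with hr
  have hrR : MemLocalRing M r := hR f hf hfR
  -- `f' = r δ₁ - f` is a unit in the block algebra of `B`
  let f' : G → ℂ := fun g => r * classIndicator 1 g - f g
  have hf'c : IsClassFunction G f' := by
    intro g k
    simp only [f']
    rw [classIndicator_isClassFunction 1 g k, hf g k]
  have hf'R : ∀ g, MemLocalRing M (f' g) := fun g =>
    memLocalRing_sub hM (memLocalRing_mul hM hrR (memLocalRing_classIndicator hM 1 g)) (hfR g)
  have hlf' : lam f' = 0 := by
    have h1 : f' = (fun g => r * classIndicator 1 g) + (fun g => (-1 : ℂ) * f g) := by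
      funext g
      simp only [f', Pi.add_apply]
      ring
    rw [h1, hadd, hsmul, hsmul, hone, ← hr]
    ring
  have hom : ∀ ψ : IrrCharacter G, omega (ψ : G → ℂ) f' = r - omega (ψ : G → ℂ) f := by
    intro ψ
    have h1 : f' = (fun g => r * classIndicator 1 g) - f := by
      funext g
      simp only [f', Pi.sub_apply]
    rw [h1, omega_sub, omega_smul, omega_classIndicator_one ψ.2, mul_one]
  have hu : ∀ ψ ∈ B, ¬ MemLocalIdeal M (omega ((ψ : IrrCharacter G) : G → ℂ) f') := by
    intro ψ hψ hmem
    apply hcon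
    rw [hom ψ] at hmem
    have hsb := isPBlock_sameBlock hM hB hψ hχ
    have h2 := memLocalIdeal_omega_sub hM (isIrrCharacter_isClassFunction ψ.2)
      (isIrrCharacter_isClassFunction χ.2) hsb hf hfR
    have h3 := memLocalIdeal_add hM hmem h2
    have h4 : r - omega (ψ : G → ℂ) f + (omega (ψ : G → ℂ) f - omega (χ : G → ℂ) f) =
        r - omega (χ : G → ℂ) f := by ring
    rwa [h4] at h3
  obtain ⟨w, hw, hwR, hconv⟩ := exists_conv_eq_blockCoeff hc hM hB hf'c hf'R hu
  have h5 := hmul f' w hf'c hf'R hw hwR
  rw [hconv, hlf', zero_mul, sub_zero] at h5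
  exact hlB h5

end Cfsg.Agent.Lib.Helper78_AlgHom
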