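import Mathlib

/-!
# Nilpotency of the augmentation ideal of a normal `p`-subgroup (helper78)

For a normal `p`-subgroup `Q` of `G` and a commutative ring `k` of characteristic `p`, every
element of the kernel of `k[G] → k[G/Q]` is nilpotent (`isNilpotent_of_mapDomain_eq_zero`).
Class sums of classes missing `C_G(Q)` lie in this kernel (`mapDomain_classSum_eq_zero`), hence
are nilpotent (`isNilpotent_classSum`).
-/

set_option autoImplicit false

namespace Cfsg.Agent.Lib.Helper78_AugNilp

open MonoidAlgebra

section Kernel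
variable {k : Type*} [CommRing k] {G : Type*} [Group G]

/-- `aug k g = g - 1` in the group algebra. -/
noncomputable def aug (k : Type*) [CommRing k] {G : Type*} [Group G] (g : G) : MonoidAlgebra k G :=
  MonoidAlgebra.of k G g - 1

theorem of_mul_aug (g q : G) :
    MonoidAlgebra.of k G g * aug k q = aug k (g * q * g⁻¹) * MonoidAlgebra.of k G g := by
  unfold aug
  rw [mul_sub, sub_mul, ← map_mul, ← map_mul, mul_one, one_mul]
  congr 2
  group

theorem of_mul_prod_aug (g : G) (l : List G) :
    MonoidAlgebra.of k G g * (l.map (aug k)).prod =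
      ((l.map (fun q => g * q * g⁻¹)).map (aug k)).prod * MonoidAlgebra.of k G g := by
  induction l with
  | nil => simp
  | cons q l ih =>
    simp only [List.map_cons, List.prod_cons]
    rw [← mul_assoc, of_mul_aug, mul_assoc, ih]
    simp only [mul_assoc]

/-- Elements in the kernel of `k[G] → k[G/N]` are combinations of `(n - 1) * g`. -/
theorem mem_span_of_mapDomain_eq_zero (N : Subgroup G) [N.Normal] (x : MonoidAlgebra k G)
    (hx : MonoidAlgebra.mapDomain (QuotientGroup.mk : G → G ⧸ N) x = 0) :
    x ∈ Submodule.span k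
      {y | ∃ n ∈ N, ∃ g : G, y = aug k n * MonoidAlgebra.of k G g} := by
  classical
  set r : G → G := fun g => Quotient.out (QuotientGroup.mk g : G ⧸ N) with hr
  have hr1 : ∀ g, g * (r g)⁻¹ ∈ N := by
    intro g
    have h1 : (QuotientGroup.mk (r g) : G ⧸ N) = QuotientGroup.mk g := Quotient.out_eq _
    have h2 : (QuotientGroup.mk (g * (r g)⁻¹) : G ⧸ N) = 1 := by
      rw [QuotientGroup.mk_mul, QuotientGroup.mk_inv, h1, mul_inv_cancel]
    exact (QuotientGroup.eq_one_iff _).1 h2
  have key : ∀ y : MonoidAlgebra k G, y - MonoidAlgebra.mapDomain r y ∈ Submodule.span k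
      {y | ∃ n ∈ N, ∃ g : G, y = aug k n * MonoidAlgebra.of k G g} := by
    intro y
    induction y using MonoidAlgebra.induction_linear with
    | zero => simp
    | add a b ha hb =>
      rw [MonoidAlgebra.mapDomain_add]
      have : a + b - (MonoidAlgebra.mapDomain r a + MonoidAlgebra.mapDomain r b) =
          (a - MonoidAlgebra.mapDomain r a) + (b - MonoidAlgebra.mapDomain r b) := by abel
      rw [this]
      exact Submodule.add_mem _ ha hb
    | single g a =>
      rw [MonoidAlgebra.mapDomain_single]
      have : (MonoidAlgebra.single g a : MonoidAlgebra k G) - MonoidAlgebra.single (r g) a =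
          a • (aug k (g * (r g)⁻¹) * MonoidAlgebra.of k G (r g)) := by
        unfold aug
        rw [sub_mul, one_mul, ← map_mul, inv_mul_cancel_right, smul_sub]
        simp [MonoidAlgebra.of_apply]
      rw [this]
      exact Submodule.smul_mem _ _ (Submodule.subset_span ⟨_, hr1 g, _, rfl⟩)
  have h0 : MonoidAlgebra.mapDomain r x = 0 := by
    have : MonoidAlgebra.mapDomain r x = MonoidAlgebra.mapDomain (Quotient.out : G ⧸ N → G)
        (MonoidAlgebra.mapDomain (QuotientGroup.mk : G → G ⧸ N) x) := by
      ext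
      simp [MonoidAlgebra.mapDomain, ← Finsupp.mapDomain_comp, hr, Function.comp_def]
    rw [this, hx, MonoidAlgebra.mapDomain_zero]
  have := key x
  rwa [h0, sub_zero] at this

/-- The filtration `J Q i`: span of products of `i` augmentation elements of `Q` times anything. -/
noncomputable def J (k : Type*) [CommRing k] {G : Type*} [Group G] (Q : Subgroup G) (i : ℕ) :
    Submodule k (MonoidAlgebra k G) :=
  Submodule.span k {y | ∃ l : List G, l.length = i ∧ (∀ q ∈ l, q ∈ Q) ∧
    ∃ w : MonoidAlgebra k G, y = (l.map (aug k)).prod * w}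

theorem one_mem_J_zero (Q : Subgroup G) : (1 : MonoidAlgebra k G) ∈ J k Q 0 :=
  Submodule.subset_span ⟨[], rfl, by simp, 1, by simp⟩

theorem gen_mul_mem_J (Q : Subgroup G) [Q.Normal] (n : G) (hn : n ∈ Q) (g : G) (i : ℕ)
    (y : MonoidAlgebra k G) (hy : y ∈ J k Q i) :
    aug k n * MonoidAlgebra.of k G g * y ∈ J k Q (i + 1) := by
  unfold J at hy
  induction hy using Submodule.span_induction with
  | mem y hy =>
    obtain ⟨l, hl, hlQ, w, rfl⟩ := hy
    refine Submodule.subset_span ⟨n :: l.map (fun q => g * q * g⁻¹), by simp [hl], ?_,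
      MonoidAlgebra.of k G g * w, ?_⟩
    · intro q hq
      rcases List.mem_cons.1 hq with rfl | hq
      · exact hn
      · obtain ⟨q', hq', rfl⟩ := List.mem_map.1 hq
        exact ‹Q.Normal›.conj_mem q' (hlQ q' hq') g
    · simp only [List.map_cons, List.prod_cons]
      rw [mul_assoc, mul_assoc, ← mul_assoc (MonoidAlgebra.of k G g), of_mul_prod_aug, mul_assoc]
  | zero => simp
  | add a b _ _ ha hb => rw [mul_add]; exact Submodule.add_mem _ ha hb
  | smul c a _ ha => rw [mul_smul_comm]; exact Submodule.smul_mem _ _ ha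

theorem mul_mem_J (Q : Subgroup G) [Q.Normal] (x : MonoidAlgebra k G)
    (hx : MonoidAlgebra.mapDomain (QuotientGroup.mk : G → G ⧸ Q) x = 0) (i : ℕ)
    (y : MonoidAlgebra k G) (hy : y ∈ J k Q i) : x * y ∈ J k Q (i + 1) := by
  have hx' := mem_span_of_mapDomain_eq_zero Q x hx
  clear hx
  induction hx' using Submodule.span_induction with
  | mem x hx =>
    obtain ⟨n, hn, g, rfl⟩ := hx
    exact gen_mul_mem_J Q n hn g i y hy
  | zero => simp
  | add a b _ _ ha hb => rw [add_mul]; exact Submodule.add_mem _ ha hb
  | smul c a _ ha => rw [smul_mul_assoc]; exact Submodule.smul_mem _ _ ha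

theorem pow_mem_J (Q : Subgroup G) [Q.Normal] (x : MonoidAlgebra k G)
    (hx : MonoidAlgebra.mapDomain (QuotientGroup.mk : G → G ⧸ Q) x = 0) (i : ℕ) :
    x ^ i ∈ J k Q i := by
  induction i with
  | zero => rw [pow_zero]; exact one_mem_J_zero Q
  | succ i ih => rw [pow_succ']; exact mul_mem_J Q x hx i _ ih

theorem J_eq_bot (Q : Subgroup G) (m : ℕ)
    (hm : ∀ l : List G, l.length = m → (∀ q ∈ l, q ∈ Q) → (l.map (aug k)).prod = 0) :
    J k Q m = ⊥ := by
  unfold J
  rw [Submodule.span_eq_bot]
  rintro y ⟨l, hl, hlQ, w, rfl⟩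
  rw [hm l hl hlQ, zero_mul]

theorem pow_eq_zero_of_mapDomain_eq_zero (Q : Subgroup G) [Q.Normal] (m : ℕ)
    (hm : ∀ l : List G, l.length = m → (∀ q ∈ l, q ∈ Q) → (l.map (aug k)).prod = 0)
    (x : MonoidAlgebra k G)
    (hx : MonoidAlgebra.mapDomain (QuotientGroup.mk : G → G ⧸ Q) x = 0) : x ^ m = 0 := by
  have h := pow_mem_J Q x hx m
  rw [J_eq_bot Q m hm] at h
  exact (Submodule.mem_bot k).1 h

end Kernel

section PGroup
universe u v
variable (p : ℕ) [Fact p.Prime] (k : Type v) [CommRing k] [CharP k p]

omit [Fact p.Prime] in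
theorem charP_monoidAlgebra (G : Type*) [Group G] : CharP (MonoidAlgebra k G) p :=
  charP_of_injective_ringHom
    (f := (MonoidAlgebra.singleOneRingHom : k →+* MonoidAlgebra k G))
    (fun _ _ h => MonoidAlgebra.single_right_injective h) p

variable {G : Type*} [Group G]

theorem aug_commute (z : G) (hz : z ∈ Subgroup.center G) (y : MonoidAlgebra k G) :
    Commute (aug k z) y := by
  unfold aug
  exact (MonoidAlgebra.of_commute (fun m => (Subgroup.mem_center_iff.1 hz m).symm) y).sub_left
    (Commute.one_left y)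

theorem aug_pow (z : G) (j : ℕ) :
    aug k (z ^ j) = aug k z * ∑ i ∈ Finset.range j, (MonoidAlgebra.of k G z) ^ i := by
  unfold aug
  rw [map_pow, mul_geom_sum]

theorem aug_pow_char (z : G) (hz : z ^ p = 1) : (aug k z) ^ p = 0 := by
  have := charP_monoidAlgebra p k G
  unfold aug
  rw [sub_pow_char_of_commute p (Commute.one_right _), one_pow, ← map_pow, hz, map_one, sub_self]

theorem mapDomain_aug {H : Type*} [Group H] (f : G →* H) (g : G) :
    MonoidAlgebra.mapDomainRingHom k f (aug k g) = aug k (f g) := by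
  unfold aug
  rw [map_sub, map_one]
  simp [MonoidAlgebra.of_apply]

theorem exists_prod_aug_eq_zero : ∀ (n : ℕ) (Q : Type u) [Group Q] [Finite Q],
    Nat.card Q = p ^ n →
    ∃ m, ∀ l : List Q, l.length = m → (l.map (aug k)).prod = 0 := by
  intro n
  induction n with
  | zero =>
    intro Q _ _ hQ
    rw [pow_zero] at hQ
    have : Subsingleton Q := (Nat.card_eq_one_iff_unique.1 hQ).1
    refine ⟨1, fun l hl => ?_⟩
    obtain ⟨q, rfl⟩ := List.length_eq_one_iff.1 hl
    simp only [List.map_cons, List.map_nil, List.prod_cons, List.prod_nil, mul_one, aug,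
      Subsingleton.elim q 1, map_one, sub_self]
  | succ n ih =>
    intro Q _ _ hQ
    have hp : p.Prime := Fact.out
    have hP : IsPGroup p Q := IsPGroup.of_card hQ
    have hnt : Nontrivial Q := by
      rw [← Finite.one_lt_card_iff_nontrivial, hQ]
      exact Nat.one_lt_pow (Nat.succ_ne_zero n) hp.one_lt
    have hcn : Nontrivial (Subgroup.center Q) := hP.center_nontrivial
    have hdvd : p ∣ Nat.card (Subgroup.center Q) := by
      obtain ⟨j, hj⟩ := (hP.to_subgroup (Subgroup.center Q)).exists_card_eq
      cases j with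
      | zero =>
        exfalso
        rw [pow_zero] at hj
        have := Finite.one_lt_card_iff_nontrivial.2 hcn
        omega
      | succ j => rw [hj]; exact dvd_pow_self p (Nat.succ_ne_zero j)
    obtain ⟨z', hz'⟩ := exists_prime_orderOf_dvd_card' p hdvd
    set z : Q := (z' : Q) with hz
    have hzc : z ∈ Subgroup.center Q := z'.2
    have hzo : orderOf z = p := by rw [← hz']; exact Subgroup.orderOf_coe z'
    let Z : Subgroup Q := Subgroup.zpowers z
    have hZn : Z.Normal := by
      refine ⟨fun x hx g => ?_⟩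
      have hxc : x ∈ Subgroup.center Q := (Subgroup.zpowers_le.2 hzc) hx
      have : g * x * g⁻¹ = x := by
        rw [Subgroup.mem_center_iff.1 hxc g, mul_inv_cancel_right]
      rw [this]; exact hx
    have hZcard : Nat.card Z = p := by rw [Nat.card_zpowers, hzo]
    have hcardq : Nat.card (Q ⧸ Z) = p ^ n := by
      have := Subgroup.card_eq_card_quotient_mul_card_subgroup Z
      rw [hQ, hZcard, pow_succ] at this
      exact (Nat.eq_of_mul_eq_mul_right hp.pos this).symm
    obtain ⟨m, hm⟩ := ih (Q ⧸ Z) hcardq
    have hsub : ∀ l : List Q, l.length = m → ∃ y, (l.map (aug k)).prod = aug k z * y := by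
      intro l hl
      have hπ : MonoidAlgebra.mapDomain (QuotientGroup.mk : Q → Q ⧸ Z)
          ((l.map (aug k)).prod) = 0 := by
        have h1 : MonoidAlgebra.mapDomain (QuotientGroup.mk : Q → Q ⧸ Z)
            ((l.map (aug k)).prod) =
            MonoidAlgebra.mapDomainRingHom k (QuotientGroup.mk' Z) ((l.map (aug k)).prod) := rfl
        rw [h1, map_list_prod, List.map_map]
        have h2 : (⇑(MonoidAlgebra.mapDomainRingHom k (QuotientGroup.mk' Z)) ∘ aug k) =
            aug k ∘ (QuotientGroup.mk' Z) := by
          funext q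
          exact mapDomain_aug k (QuotientGroup.mk' Z) q
        rw [h2, ← List.map_map]
        exact hm _ (by simp [hl])
      have hmem := mem_span_of_mapDomain_eq_zero Z _ hπ
      have hle : Submodule.span k
          {y | ∃ n ∈ Z, ∃ g : Q, y = aug k n * MonoidAlgebra.of k Q g} ≤
          LinearMap.range (LinearMap.mulLeft k (aug k z)) := by
        rw [Submodule.span_le]
        rintro y ⟨n, hn, g, rfl⟩
        obtain ⟨j, rfl⟩ := (mem_powers_iff_mem_zpowers.2 hn)
        refine ⟨(∑ i ∈ Finset.range j, MonoidAlgebra.of k Q z ^ i) * MonoidAlgebra.of k Q g, ?_⟩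
        simp only [LinearMap.mulLeft_apply]
        rw [aug_pow, mul_assoc]
      obtain ⟨y, hy⟩ := hle hmem
      exact ⟨y, hy.symm⟩
    have hE : ∀ j : ℕ, ∀ l : List Q, l.length = m * j →
        ∃ y, (l.map (aug k)).prod = (aug k z) ^ j * y := by
      intro j
      induction j with
      | zero =>
        intro l hl
        rw [mul_zero, List.length_eq_zero_iff] at hl
        subst hl
        exact ⟨1, by simp⟩
      | succ j ihj =>
        intro l hl
        obtain ⟨y1, hy1⟩ := hsub (l.take m) (by
          rw [List.length_take, hl]; apply min_eq_left; nlinarith)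
        obtain ⟨y2, hy2⟩ := ihj (l.drop m) (by
          rw [List.length_drop, hl, Nat.mul_succ]; omega)
        refine ⟨y1 * y2, ?_⟩
        have hl2 : (l.map (aug k)).prod =
            ((l.take m).map (aug k)).prod * ((l.drop m).map (aug k)).prod := by
          rw [← List.prod_append, ← List.map_append, List.take_append_drop]
        rw [hl2, hy1, hy2, pow_succ']
        have hc : Commute y1 (aug k z ^ j) := ((aug_commute k z hzc y1).symm).pow_right j
        calc aug k z * y1 * (aug k z ^ j * y2) = aug k z * (y1 * aug k z ^ j) * y2 := by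
              simp only [mul_assoc]
          _ = aug k z * (aug k z ^ j * y1) * y2 := by rw [hc.eq]
          _ = _ := by simp only [mul_assoc]
    refine ⟨m * p, fun l hl => ?_⟩
    obtain ⟨y, hy⟩ := hE p l hl
    rw [hy, aug_pow_char p k z (by rw [← hzo]; exact pow_orderOf_eq_one z), zero_mul]

end PGroup

section Assemble
universe u v
variable (p : ℕ) [Fact p.Prime] (k : Type v) [CommRing k] [CharP k p]
variable {G : Type u} [Group G]

theorem exists_prod_aug_eq_zero_subgroup (Q : Subgroup G) [Finite Q] (hQ : IsPGroup p Q) :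
    ∃ m, ∀ l : List G, l.length = m → (∀ q ∈ l, q ∈ Q) → (l.map (aug k)).prod = 0 := by
  obtain ⟨n, hn⟩ := hQ.exists_card_eq
  obtain ⟨m, hm⟩ := exists_prod_aug_eq_zero p k n Q hn
  refine ⟨m, fun l hl hlQ => ?_⟩
  lift l to List Q using hlQ
  have h := hm l (by simpa using hl)
  have h2 := congrArg (MonoidAlgebra.mapDomainRingHom k Q.subtype) h
  rw [map_list_prod, List.map_map, map_zero] at h2
  rw [List.map_map]
  have hfun : (aug k ∘ (Subtype.val : Q → G)) =
      (⇑(MonoidAlgebra.mapDomainRingHom k Q.subtype) ∘ aug k) := by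
    funext q
    simp only [Function.comp_apply]
    rw [mapDomain_aug]
    rfl
  rw [hfun]
  exact h2

/-- **Nilpotency of the kernel of `k[G] → k[G/Q]`** for a normal `p`-subgroup `Q`, `char k = p`. -/
theorem isNilpotent_of_mapDomain_eq_zero (Q : Subgroup G) [Q.Normal] [Finite Q]
    (hQ : IsPGroup p Q) (x : MonoidAlgebra k G)
    (hx : MonoidAlgebra.mapDomain (QuotientGroup.mk : G → G ⧸ Q) x = 0) : IsNilpotent x := by
  obtain ⟨m, hm⟩ := exists_prod_aug_eq_zero_subgroup p k Q hQ
  exact ⟨m, pow_eq_zero_of_mapDomain_eq_zero Q m hm x hx⟩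

end Assemble

section OrbitSum
variable {p : ℕ} [Fact p.Prime]

theorem sum_eq_sum_fixed {P X A : Type*} [Group P] [MulAction P X] [Fintype X] [Finite P]
    [DecidableEq X] [AddCommGroup A]
    [DecidablePred fun x : X => ∀ q : P, q • x = x] (hP : IsPGroup p P)
    (hA : ∀ a : A, p • a = 0)
    (F : X → A) (hF : ∀ (q : P) (x : X), F (q • x) = F x) :
    ∑ x, F x = ∑ x ∈ Finset.univ.filter (fun x : X => ∀ q : P, q • x = x), F x := by
  classical
  let Ω := MulAction.orbitRel.Quotient P X
  have : Fintype Ω := Fintype.ofFinite Ω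
  let π : X → Ω := Quotient.mk''
  rw [← Finset.sum_fiberwise Finset.univ π F,
    ← Finset.sum_fiberwise (Finset.univ.filter (fun x : X => ∀ q : P, q • x = x)) π F]
  refine Finset.sum_congr rfl fun ω _ => ?_
  obtain ⟨x₀, rfl⟩ := Quotient.mk''_surjective ω
  have hfib : ∀ x : X, π x = π x₀ ↔ x ∈ MulAction.orbit P x₀ := by
    intro x
    exact Quotient.eq''
  by_cases hx₀ : ∀ q : P, q • x₀ = x₀
  · have hsing : ∀ x : X, π x = π x₀ ↔ x = x₀ := by
      intro x
      rw [hfib]
      constructor
      · rintro ⟨q, rfl⟩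
        exact hx₀ q
      · rintro rfl
        exact MulAction.mem_orbit_self _
    have h1 : Finset.univ.filter (fun x : X => π x = π x₀) = {x₀} := by
      ext x
      simp [hsing]
    have h2 : (Finset.univ.filter (fun x : X => ∀ q : P, q • x = x)).filter
        (fun x : X => π x = π x₀) = {x₀} := by
      ext x
      simp only [Finset.mem_filter, Finset.mem_univ, true_and, Finset.mem_singleton, hsing]
      constructor
      · exact fun h => h.2
      · rintro rfl
        exact ⟨hx₀, rfl⟩
    rw [h1, h2]
  · have h2 : (Finset.univ.filter (fun x : X => ∀ q : P, q • x = x)).filter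
        (fun x : X => π x = π x₀) = ∅ := by
      ext x
      simp only [Finset.mem_filter, Finset.mem_univ, true_and, Finset.notMem_empty, iff_false]
      rintro ⟨hx, hxo⟩
      rw [hfib] at hxo
      obtain ⟨q, rfl⟩ := hxo
      apply hx₀
      intro r
      have h3 := hx (q * r * q⁻¹)
      simp only [smul_smul] at h3
      have h4 : q * r * q⁻¹ * q = q * r := by group
      rw [h4, ← smul_smul] at h3
      exact smul_left_cancel q h3
    rw [h2, Finset.sum_empty]
    have hconst : ∀ x ∈ Finset.univ.filter (fun x : X => π x = π x₀), F x = F x₀ := by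
      intro x hx
      rw [Finset.mem_filter, hfib] at hx
      obtain ⟨q, rfl⟩ := hx.2
      exact hF q x₀
    rw [Finset.sum_congr rfl hconst, Finset.sum_const]
    have hcard : (Finset.univ.filter (fun x : X => π x = π x₀)).card =
        (MulAction.stabilizer P x₀).index := by
      rw [MulAction.index_stabilizer, Set.ncard_eq_toFinset_card']
      congr 1
      ext x
      simp [hfib]
    rw [hcard]
    obtain ⟨n, hn⟩ := hP.index (MulAction.stabilizer P x₀)
    rw [hn]
    cases n with
    | zero =>
      exfalso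
      rw [pow_zero, Subgroup.index_eq_one] at hn
      apply hx₀
      intro q
      have : q ∈ MulAction.stabilizer P x₀ := hn ▸ Subgroup.mem_top q
      exact this
    | succ n => rw [pow_succ, mul_smul, hA, smul_zero]

/-- Conjugation action of a `p`-subgroup `S` on `G`: an `S`-invariant function with values in a
group of exponent `p` which vanishes on the centralizer of `S` has sum zero. -/
theorem sum_eq_zero_of_conj {G : Type*} [Group G] [Fintype G] (S : Subgroup G)
    (hS : IsPGroup p S) {A : Type*} [AddCommGroup A] (hA : ∀ a : A, p • a = 0) (F : G → A)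
    (hF : ∀ q ∈ S, ∀ x : G, F (q * x * q⁻¹) = F x)
    (h0 : ∀ x : G, (∀ q ∈ S, q * x * q⁻¹ = x) → F x = 0) : ∑ x, F x = 0 := by
  classical
  let _ : MulAction S G := MulAction.compHom G ((MulAut.conj (G := G)).comp S.subtype)
  have hsmul : ∀ (q : S) (x : G), q • x = (q : G) * x * (q : G)⁻¹ := fun q x => rfl
  rw [sum_eq_sum_fixed hS hA F (fun q x => by rw [hsmul]; exact hF q q.2 x)]
  refine Finset.sum_eq_zero fun x hx => ?_
  rw [Finset.mem_filter] at hx
  exact h0 x fun q hq => by have := hx.2 ⟨q, hq⟩; rwa [hsmul] at this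

end OrbitSum

section ClassSum
universe u v
variable (p : ℕ) [Fact p.Prime] (k : Type v) [CommRing k] [CharP k p]
variable {G : Type u} [Group G]

omit [Fact p.Prime] in
theorem nsmul_eq_zero_monoidAlgebra (H : Type*) [Group H] (a : MonoidAlgebra k H) : p • a = 0 := by
  have := charP_monoidAlgebra p k H
  rw [nsmul_eq_mul, CharP.cast_eq_zero, zero_mul]

/-- The class sum of a class missing `C_G(Q)` (for `Q` a normal `p`-subgroup) maps to `0` in
`k[G/Q]` when `char k = p`. -/
theorem mapDomain_classSum_eq_zero [Fintype G] [DecidableEq G] (Q : Subgroup G) [Q.Normal]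
    (hQ : IsPGroup p Q) (g : G)
    (hg : ∀ x : G, IsConj g x → x ∉ Subgroup.centralizer (Q : Set G)) :
    MonoidAlgebra.mapDomain (QuotientGroup.mk : G → G ⧸ Q)
      (∑ x ∈ Finset.univ.filter (fun x : G => IsConj g x),
        (MonoidAlgebra.single x (1 : k) : MonoidAlgebra k G)) = 0 := by
  classical
  have h1 : ∀ y : MonoidAlgebra k G, MonoidAlgebra.mapDomain (QuotientGroup.mk : G → G ⧸ Q) y =
      MonoidAlgebra.mapDomainRingHom k (QuotientGroup.mk' Q) y := fun y => rfl
  rw [h1, map_sum, Finset.sum_filter]
  refine sum_eq_zero_of_conj (p := p) Q hQ (nsmul_eq_zero_monoidAlgebra p k (G ⧸ Q)) _ ?_ ?_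
  · intro q hq x
    have hc : IsConj g (q * x * q⁻¹) ↔ IsConj g x := by
      constructor
      · intro h
        exact h.trans (isConj_iff.2 ⟨q⁻¹, by group⟩)
      · intro h
        exact h.trans (isConj_iff.2 ⟨q, rfl⟩)
    have hm : (QuotientGroup.mk' Q) (q * x * q⁻¹) = (QuotientGroup.mk' Q) x := by
      have hq1 : (QuotientGroup.mk' Q) q = 1 := (QuotientGroup.eq_one_iff q).2 hq
      rw [map_mul, map_mul, map_inv, hq1, one_mul, inv_one, mul_one]
    simp only [hc, ← h1, MonoidAlgebra.mapDomain_single]
    have hm' : (QuotientGroup.mk (q * x * q⁻¹) : G ⧸ Q) = QuotientGroup.mk x := hm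
    rw [hm']
  · intro x hx
    rw [if_neg]
    intro hc
    refine hg x hc ?_
    rw [Subgroup.mem_centralizer_iff]
    intro q hq
    have := hx q hq
    calc q * x = q * x * q⁻¹ * q := by group
      _ = x * q := by rw [this]

/-- **S0905-type statement**: the class sum of a class missing `C_G(Q)` is nilpotent. -/
theorem isNilpotent_classSum [Fintype G] [DecidableEq G] (Q : Subgroup G) [Q.Normal]
    (hQ : IsPGroup p Q) (g : G)
    (hg : ∀ x : G, IsConj g x → x ∉ Subgroup.centralizer (Q : Set G)) :
    IsNilpotent (∑ x ∈ Finset.univ.filter (fun x : G => IsConj g x),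
        (MonoidAlgebra.single x (1 : k) : MonoidAlgebra k G)) :=
  isNilpotent_of_mapDomain_eq_zero p k Q hQ _ (mapDomain_classSum_eq_zero p k Q hQ g hg)

end ClassSum

end Cfsg.Agent.Lib.Helper78_AugNilp
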