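import Mathlib
import Cfsg.Agent.Lib.Helper78_AugNilp
import Cfsg.Agent.Lib.Helper78_CentralChar
import Cfsg.Agent.Lib.Helper78_LocalRing

/-!
# Central characters vanish modulo `M` on classes missing the centralizer of a normal `p`-subgroup
(helper78)

`memLocalIdeal_centralChar_of_disjoint`: if `Q` is a normal `p`-subgroup of the finite group `G`,
`χ` an irreducible character and `g` an element none of whose conjugates centralizes `Q`, then
`ω_χ(K̂_g)` lies in the local ideal at `M` (`M` over `p`).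
-/

set_option autoImplicit false

namespace Cfsg.Agent.Lib.Helper78_CentralNil

open Cfsg Cfsg.Agent.Lib.Helper78_LocalRing Cfsg.Agent.Lib.Helper78_CentralChar
  Cfsg.Agent.Lib.Helper78_AugNilp

/-- An element of `ℤ[G]` that vanishes modulo `p` is `p` times something. -/
theorem exists_eq_smul_of_map_eq_zero {G : Type*} [Group G] (p : ℕ)
    (y : MonoidAlgebra ℤ G)
    (hy : MonoidAlgebra.mapRingHom G (Int.castRingHom (ZMod p)) y = 0) :
    ∃ z : MonoidAlgebra ℤ G, y = (p : ℤ) • z := by
  refine ⟨MonoidAlgebra.ofCoeff (y.coeff.mapRange (fun a => a / (p : ℤ)) (by simp)), ?_⟩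
  ext a
  have h1 := congrArg (fun w => w.coeff a) hy
  simp only [MonoidAlgebra.coeff_mapRingHom, MonoidAlgebra.coeff_zero, Finsupp.coe_zero,
    Pi.zero_apply, eq_intCast] at h1
  have h2 : (p : ℤ) ∣ y.coeff a := (ZMod.intCast_zmod_eq_zero_iff_dvd _ p).1 h1
  simp only [MonoidAlgebra.coeff_smul, Finsupp.smul_apply,
    Finsupp.mapRange_apply, smul_eq_mul]
  exact (Int.mul_ediv_cancel' h2).symm

variable {M : Ideal AlgInt} {p : ℕ}

theorem memLocalIdeal_of_pow (hM : M.IsPrime) {x : ℂ} (hx : MemLocalRing M x) :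
    ∀ n : ℕ, MemLocalIdeal M (x ^ n) → MemLocalIdeal M x
  | 0, h => by
    rw [pow_zero] at h
    exact absurd h (not_memLocalIdeal_one hM)
  | n + 1, h => by
    rw [pow_succ] at h
    rcases (memLocalIdeal_mul_iff hM (memLocalRing_pow hM hx n) hx).1 h with h | h
    · exact memLocalIdeal_of_pow hM hx n h
    · exact h

section Rep
variable {G : Type*} [Group G] [Fintype G]
variable {V : Type*} [AddCommGroup V] [Module ℂ V] [FiniteDimensional ℂ V]

theorem memLocalIdeal_centralChar_rep (hM : IsPModular p M) (Q : Subgroup G) [Q.Normal]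
    (hQ : IsPGroup p Q) (ρ : Representation ℂ G V) [ρ.IsIrreducible] (g : G)
    (hg : ∀ x : G, IsConj g x → x ∉ Subgroup.centralizer (Q : Set G)) :
    MemLocalIdeal M (centralChar ρ.character g) := by
  classical
  have hMp := isPrime_of_isPModular hM
  have hp : Fact p.Prime := ⟨hM.1⟩
  have := nontrivial_of_irreducible ρ
  obtain ⟨n, hn⟩ := isNilpotent_classSum p (ZMod p) Q hQ g hg
  let s : MonoidAlgebra ℤ G :=
    ∑ k ∈ Finset.univ.filter (fun k : G => IsConj g k), MonoidAlgebra.single k (1 : ℤ)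
  have hs : MonoidAlgebra.mapRingHom G (Int.castRingHom (ZMod p)) s =
      ∑ k ∈ Finset.univ.filter (fun k : G => IsConj g k),
        (MonoidAlgebra.single k (1 : ZMod p) : MonoidAlgebra (ZMod p) G) := by
    simp only [s, map_sum, MonoidAlgebra.mapRingHom_single, map_one]
  have hsn : MonoidAlgebra.mapRingHom G (Int.castRingHom (ZMod p)) (s ^ n) = 0 := by
    rw [map_pow, hs, hn]
  obtain ⟨z, hz⟩ := exists_eq_smul_of_map_eq_zero p (s ^ n) hsn
  let φ : MonoidAlgebra ℤ G →ₐ[ℤ] Module.End ℂ V := MonoidAlgebra.lift ℤ (Module.End ℂ V) G ρ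
  have hφz : IsIntegral ℤ (φ z) := (IsIntegral.of_finite ℤ z).map φ
  have hφs : φ s = classSumOp ρ g := by
    simp only [s, φ, map_sum]
    unfold classSumOp
    refine Finset.sum_congr rfl fun k _ => ?_
    exact MonoidAlgebra.lift_of _ _
  set ω := centralChar ρ.character g with hω
  have h1 : φ (s ^ n) = algebraMap ℂ (Module.End ℂ V) (ω ^ n) := by
    rw [map_pow, hφs, classSumOp_eq_smul, map_pow]
    congr 1
  have hpne : (p : ℂ) ≠ 0 := by exact_mod_cast hM.1.ne_zero
  have h2 : φ z = algebraMap ℂ (Module.End ℂ V) (ω ^ n / (p : ℂ)) := by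
    have h3 : φ (s ^ n) = (p : ℤ) • φ z := by rw [hz, map_smul]
    rw [h1] at h3
    rw [Algebra.algebraMap_eq_smul_one] at h3 ⊢
    have h4 : (ω ^ n / (p : ℂ)) • (1 : Module.End ℂ V) = (p : ℂ)⁻¹ • (ω ^ n • 1) := by
      rw [smul_smul, div_eq_inv_mul]
    rw [h4, h3, ← Int.cast_smul_eq_zsmul ℂ, Int.cast_natCast, smul_smul, inv_mul_cancel₀ hpne,
      one_smul]
  have hinj : Function.Injective (algebraMap ℂ (Module.End ℂ V)) :=
    (algebraMap ℂ (Module.End ℂ V)).injective
  rw [h2] at hφz
  have hint : IsIntegral ℤ (ω ^ n / (p : ℂ)) := (isIntegral_algebraMap_iff hinj).1 hφz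
  have hωR : MemLocalRing M ω := by
    have := memLocalRing_algInt hMp ⟨ω, isIntegral_centralChar ρ g⟩
    simpa using this
  have hpow : MemLocalIdeal M (ω ^ n) := by
    have h5 : ω ^ n = (p : ℂ) * (ω ^ n / (p : ℂ)) := by field_simp
    rw [h5]
    refine memLocalIdeal_mul_right hMp ((memLocalIdeal_natCast_iff hM p).2 dvd_rfl) ?_
    have := memLocalRing_algInt hMp ⟨ω ^ n / (p : ℂ), hint⟩
    simpa using this
  exact memLocalIdeal_of_pow hMp hωR n hpow

end Rep

section Irr
universe u
variable {G : Type u} [Group G]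

/-- **Fact (N)**: for a normal `p`-subgroup `Q`, an irreducible character `χ` and a class missing
`C_G(Q)`, the central character value is in the local ideal. -/
theorem memLocalIdeal_centralChar_of_disjoint [Finite G] (hM : IsPModular p M) (Q : Subgroup G)
    [Q.Normal] (hQ : IsPGroup p Q) {χ : G → ℂ} (hχ : IsIrrCharacter G χ) (g : G)
    (hg : ∀ x : G, IsConj g x → x ∉ Subgroup.centralizer (Q : Set G)) :
    MemLocalIdeal M (centralChar χ g) := by
  classical
  have := Fintype.ofFinite G
  obtain ⟨n, ρ, hρ, rfl⟩ := hχ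
  exact memLocalIdeal_centralChar_rep hM Q hQ ρ g hg

end Irr

end Cfsg.Agent.Lib.Helper78_CentralNil
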