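import Mathlib
import Cfsg.Agent.Lib.Helper78_CentralNil
import Cfsg.Agent.Lib.Helper78_Osima

/-!
# The Brauer map on central characters (helper78)

For a `p`-subgroup `P` of `G` and `P C_G(P) ≤ H ≤ N_G(P)`, and an irreducible character `ξ` of `H`:
the induced central character `inducedCentralChar H ξ g` and the Brauer central character
`brauerCentralChar P H ξ g` agree modulo the local ideal
(`memLocalIdeal_induced_sub_brauer`).
-/

set_option autoImplicit false

namespace Cfsg.Agent.Lib.Helper78_Brauer

open Cfsg Cfsg.Agent.Lib.Helper78_LocalRing Cfsg.Agent.Lib.Helper78_CentralChar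
  Cfsg.Agent.Lib.Helper78_CentralNil Cfsg.Agent.Lib.Helper78_Osima

universe u
variable {G : Type u} [Group G] {M : Ideal AlgInt} {p : ℕ}

/-- Conjugation by an element of the normalizer of `P` preserves the centralizer of `P`. -/
theorem conj_mem_centralizer_of_mem_normalizer {P : Subgroup G} {x h : G}
    (hx : x ∈ Subgroup.normalizer (P : Set G)) (hh : h ∈ Subgroup.centralizer (P : Set G)) :
    x * h * x⁻¹ ∈ Subgroup.centralizer (P : Set G) := by
  rw [Subgroup.mem_centralizer_iff] at hh ⊢
  intro q hq
  have hq' : x⁻¹ * q * x⁻¹⁻¹ ∈ (P : Set G) :=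
    ((Subgroup.mem_set_normalizer_iff (g := x⁻¹)).1 (inv_mem hx) q).1 hq
  have h1 := hh _ hq'
  have : q * (x * h * x⁻¹) = x * ((x⁻¹ * q * x⁻¹⁻¹) * h) * x⁻¹ := by group
  rw [this, h1]
  group

theorem conj_mem_centralizer_iff_of_mem_normalizer {P : Subgroup G} {x h : G}
    (hx : x ∈ Subgroup.normalizer (P : Set G)) :
    x * h * x⁻¹ ∈ Subgroup.centralizer (P : Set G) ↔ h ∈ Subgroup.centralizer (P : Set G) := by
  constructor
  · intro hh
    have := conj_mem_centralizer_of_mem_normalizer (inv_mem hx) hh
    have h2 : x⁻¹ * (x * h * x⁻¹) * x⁻¹⁻¹ = h := by group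
    rwa [h2] at this
  · exact conj_mem_centralizer_of_mem_normalizer hx

/-- The induced central character and the Brauer central character of an irreducible character
of `H` agree modulo the local ideal, when `P C_G(P) ≤ H ≤ N_G(P)`. -/
theorem memLocalIdeal_induced_sub_brauer [Finite G] (hM : IsPModular p M) (P H : Subgroup G)
    (hP : IsPGroup p P) (hPH : P ≤ H) (hHN : H ≤ Subgroup.normalizer (P : Set G))
    {ξ : H → ℂ} (hξ : IsIrrCharacter H ξ) (g : G) :
    MemLocalIdeal M (inducedCentralChar H ξ g - brauerCentralChar P H ξ g) := by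
  classical
  have hMp := isPrime_of_isPModular hM
  have := Fintype.ofFinite G
  have := Fintype.ofFinite H
  have := Fintype.ofFinite (ConjClasses H)
  have hPn : (P.subgroupOf H).Normal := (Subgroup.normal_subgroupOf_iff_le_normalizer hPH).2 hHN
  have hPp : IsPGroup p (P.subgroupOf H) := hP.comap_subtype
  let F : H → ℂ := fun h =>
    if IsConj g (h : G) ∧ (h : G) ∉ Subgroup.centralizer (P : Set G) then ξ h / ξ 1 else 0
  have hdiff : inducedCentralChar H ξ g - brauerCentralChar P H ξ g = ∑ h : H, F h := by
    unfold inducedCentralChar brauerCentralChar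
    rw [finsum_mem_def, finsum_mem_def, finsum_eq_sum_of_fintype, finsum_eq_sum_of_fintype,
      ← Finset.sum_sub_distrib]
    refine Finset.sum_congr rfl fun h _ => ?_
    simp only [Set.indicator_apply, Set.mem_ofPred_eq, F]
    by_cases h1 : IsConj g (h : G) <;> by_cases h2 : (h : G) ∈ Subgroup.centralizer (P : Set G) <;>
      simp [h2]
  have hFc : IsClassFunction H F := by
    intro h x
    simp only [F]
    have h1 : IsConj g ((x * h * x⁻¹ : H) : G) ↔ IsConj g (h : G) := by
      push_cast
      exact isConj_conj_iff g (h : G) (x : G)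
    have h2 : ((x * h * x⁻¹ : H) : G) ∈ Subgroup.centralizer (P : Set G) ↔
        (h : G) ∈ Subgroup.centralizer (P : Set G) := by
      push_cast
      exact conj_mem_centralizer_iff_of_mem_normalizer (hHN x.2)
    simp only [h1, h2, isIrrCharacter_isClassFunction hξ h x]
  rw [hdiff, sum_eq_sum_conjClasses F hFc]
  refine memLocalIdeal_sum hMp _ _ fun c _ => ?_
  simp only [F]
  split_ifs with hc
  · have h3 : ((Subgroup.centralizer ({c.out} : Set H)).index : ℂ) * (ξ c.out / ξ 1) =
        centralChar ξ c.out := by
      unfold centralChar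
      ring
    rw [h3]
    refine memLocalIdeal_centralChar_of_disjoint hM (P.subgroupOf H) hPp hξ c.out ?_
    intro x hx hxc
    apply hc.2
    obtain ⟨y, hy⟩ := isConj_iff.1 hx
    -- `x = y * c.out * y⁻¹` centralizes `P`, hence so does `c.out`
    have hxG : (x : G) ∈ Subgroup.centralizer (P : Set G) := by
      rw [Subgroup.mem_centralizer_iff]
      intro q hq
      have := Subgroup.mem_centralizer_iff.1 hxc ⟨q, hPH hq⟩ (by
        simpa [Subgroup.mem_subgroupOf] using hq)
      exact congrArg Subtype.val this
    have h4 : (c.out : G) = (y : G)⁻¹ * (x : G) * ((y : G)⁻¹)⁻¹ := by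
      rw [← hy]
      push_cast
      group
    rw [h4]
    exact conj_mem_centralizer_of_mem_normalizer (inv_mem (hHN y.2)) hxG
  · rw [mul_zero]
    exact memLocalIdeal_zero hMp

end Cfsg.Agent.Lib.Helper78_Brauer
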