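import Mathlib
import Cfsg.Agent.Lib.Helper78_LocalRing

/-!
# Sums of invariant functions over a set with a `p`-group action (helper78)

If a finite `p`-group `P` acts on a finite set `X` and `F : X → ℂ` is `P`-invariant with values in
the local ring at `M` (`M` over `p`), then `∑ x, F x` is congruent to the sum over the fixed points
modulo the local ideal.  In particular if `∑ x, F x` is outside the local ideal there is a fixed
point.
-/

set_option autoImplicit false

namespace Cfsg.Agent.Lib.Helper78_PGroupSum

open Cfsg Cfsg.Agent.Lib.Helper78_LocalRing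

variable {M : Ideal AlgInt} {p : ℕ}

theorem sum_sub_sum_fixed_mem {P X : Type*} [Group P] [MulAction P X] [Fintype X] [Finite P]
    [DecidableEq X]
    [DecidablePred fun x : X => ∀ q : P, q • x = x] (hP : IsPGroup p P) (hM : IsPModular p M)
    (F : X → ℂ) (hF : ∀ (q : P) (x : X), F (q • x) = F x) (hR : ∀ x, MemLocalRing M (F x)) :
    MemLocalIdeal M (∑ x, F x - ∑ x ∈ Finset.univ.filter (fun x : X => ∀ q : P, q • x = x), F x) := by
  classical
  have hMp := isPrime_of_isPModular hM
  have : Fact p.Prime := ⟨hM.1⟩
  let Ω := MulAction.orbitRel.Quotient P X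
  have : Fintype Ω := Fintype.ofFinite Ω
  let π : X → Ω := Quotient.mk''
  rw [← Finset.sum_fiberwise Finset.univ π F,
    ← Finset.sum_fiberwise (Finset.univ.filter (fun x : X => ∀ q : P, q • x = x)) π F,
    ← Finset.sum_sub_distrib]
  refine memLocalIdeal_sum hMp _ _ fun ω _ => ?_
  obtain ⟨x₀, rfl⟩ := Quotient.mk''_surjective ω
  have hfib : ∀ x : X, π x = π x₀ ↔ x ∈ MulAction.orbit P x₀ := by
    intro x
    exact Quotient.eq''
  by_cases hx₀ : ∀ q : P, q • x₀ = x₀
  · -- orbit is a singleton
    have hsing : ∀ x : X, π x = π x₀ ↔ x = x₀ := by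
      intro x
      rw [hfib]
      constructor
      · rintro ⟨q, rfl⟩
        exact hx₀ q
      · rintro rfl
        exact MulAction.mem_orbit_self _
    have h1 : Finset.univ.filter (fun x : X => π x = π x₀) = {x₀} := by
      ext x
      simp [hsing]
    have h2 : (Finset.univ.filter (fun x : X => ∀ q : P, q • x = x)).filter
        (fun x : X => π x = π x₀) = {x₀} := by
      ext x
      simp only [Finset.mem_filter, Finset.mem_univ, true_and, Finset.mem_singleton, hsing]
      constructor
      · exact fun h => h.2
      · rintro rfl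
        exact ⟨hx₀, rfl⟩
    rw [h1, h2, sub_self]
    exact memLocalIdeal_zero hMp
  · -- no fixed point in the orbit; the orbit has size divisible by p
    have h2 : (Finset.univ.filter (fun x : X => ∀ q : P, q • x = x)).filter
        (fun x : X => π x = π x₀) = ∅ := by
      ext x
      simp only [Finset.mem_filter, Finset.mem_univ, true_and, Finset.notMem_empty, iff_false]
      rintro ⟨hx, hxo⟩
      rw [hfib] at hxo
      obtain ⟨q, rfl⟩ := hxo
      apply hx₀
      intro r
      have h3 := hx (q * r * q⁻¹)
      simp only [smul_smul] at h3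
      have h4 : q * r * q⁻¹ * q = q * r := by group
      rw [h4, ← smul_smul] at h3
      exact smul_left_cancel q h3
    rw [h2, Finset.sum_empty, sub_zero]
    have hconst : ∀ x ∈ Finset.univ.filter (fun x : X => π x = π x₀), F x = F x₀ := by
      intro x hx
      rw [Finset.mem_filter, hfib] at hx
      obtain ⟨q, rfl⟩ := hx.2
      exact hF q x₀
    rw [Finset.sum_congr rfl hconst, Finset.sum_const, nsmul_eq_mul]
    refine memLocalIdeal_mul_right hMp ?_ (hR x₀)
    rw [memLocalIdeal_natCast_iff hM]
    -- card of the fibre = card of the orbit = index of the stabilizer, a nontrivial power of p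
    have hcard : (Finset.univ.filter (fun x : X => π x = π x₀)).card =
        (MulAction.stabilizer P x₀).index := by
      rw [MulAction.index_stabilizer, Set.ncard_eq_toFinset_card']
      congr 1
      ext x
      simp [hfib]
    rw [hcard]
    obtain ⟨n, hn⟩ := hP.index (MulAction.stabilizer P x₀)
    rw [hn]
    cases n with
    | zero =>
      exfalso
      rw [pow_zero, Subgroup.index_eq_one] at hn
      apply hx₀
      intro q
      have : q ∈ MulAction.stabilizer P x₀ := hn ▸ Subgroup.mem_top q
      exact this
    | succ n => exact dvd_pow_self p (Nat.succ_ne_zero n)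

/-- If the sum of an invariant local-integer-valued function is outside the local ideal, the
`p`-group has a fixed point. -/
theorem exists_fixed_of_sum_not_mem {P X : Type*} [Group P] [MulAction P X] [Fintype X] [Finite P]
    (hP : IsPGroup p P) (hM : IsPModular p M)
    (F : X → ℂ) (hF : ∀ (q : P) (x : X), F (q • x) = F x) (hR : ∀ x, MemLocalRing M (F x))
    (hsum : ¬ MemLocalIdeal M (∑ x, F x)) : ∃ x : X, ∀ q : P, q • x = x := by
  classical
  by_contra hcon
  push Not at hcon
  have h := sum_sub_sum_fixed_mem hP hM F hF hR
  have hemp : Finset.univ.filter (fun x : X => ∀ q : P, q • x = x) = ∅ := by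
    ext x
    simp only [Finset.mem_filter, Finset.mem_univ, true_and, Finset.notMem_empty, iff_false]
    intro hx
    obtain ⟨q, hq⟩ := hcon x
    exact hq (hx q)
  rw [hemp, Finset.sum_empty, sub_zero] at h
  exact hsum h

/-- Strengthening: there is a fixed point at which the function does not vanish. -/
theorem exists_fixed_ne_zero_of_sum_not_mem {P X : Type*} [Group P] [MulAction P X] [Fintype X]
    [Finite P] (hP : IsPGroup p P) (hM : IsPModular p M)
    (F : X → ℂ) (hF : ∀ (q : P) (x : X), F (q • x) = F x) (hR : ∀ x, MemLocalRing M (F x))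
    (hsum : ¬ MemLocalIdeal M (∑ x, F x)) : ∃ x : X, F x ≠ 0 ∧ ∀ q : P, q • x = x := by
  classical
  by_contra hcon
  push Not at hcon
  have hMp := isPrime_of_isPModular hM
  have h := sum_sub_sum_fixed_mem hP hM F hF hR
  have hz : ∑ x ∈ Finset.univ.filter (fun x : X => ∀ q : P, q • x = x), F x = 0 := by
    refine Finset.sum_eq_zero fun x hx => ?_
    by_contra hne
    obtain ⟨q, hq⟩ := hcon x hne
    exact hq ((Finset.mem_filter.mp hx).2 q)
  rw [hz, sub_zero] at h
  exact hsum h

/-- Conjugation action of a `p`-subgroup `S` of a finite group `G` on `G`: if `F` is invariant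
under conjugation by `S`, has local-integer values and `∑ x, F x` is outside the local ideal,
then some `x` centralized by `S` has `F x ≠ 0`. -/
theorem exists_conj_fixed_ne_zero {G : Type*} [Group G] [Fintype G] (S : Subgroup G)
    (hS : IsPGroup p S) (hM : IsPModular p M) (F : G → ℂ)
    (hF : ∀ q ∈ S, ∀ x : G, F (q * x * q⁻¹) = F x) (hR : ∀ x, MemLocalRing M (F x))
    (hsum : ¬ MemLocalIdeal M (∑ x, F x)) : ∃ x : G, F x ≠ 0 ∧ ∀ q ∈ S, q * x * q⁻¹ = x := by
  let _ : MulAction S G := MulAction.compHom G ((MulAut.conj (G := G)).comp S.subtype)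
  have hsmul : ∀ (q : S) (x : G), q • x = (q : G) * x * (q : G)⁻¹ := fun q x => rfl
  obtain ⟨x, hx, hfix⟩ := exists_fixed_ne_zero_of_sum_not_mem hS hM F
    (fun q x => by rw [hsmul]; exact hF q q.2 x) hR hsum
  exact ⟨x, hx, fun q hq => by have := hfix ⟨q, hq⟩; rwa [hsmul] at this⟩

end Cfsg.Agent.Lib.Helper78_PGroupSum
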