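import Mathlib
import Cfsg.Agent.Lib.Helper78_Brauer
import Cfsg.Agent.Lib.Helper78_PGroupSum
import Cfsg.Agent.Lib.Helper78_AlgHom
import Cfsg.Agent.Lib.Helper78_CharFacts

/-!
# The Brauer map is multiplicative modulo the local ideal (helper78)

`br P H f` truncates a function on `G` to `C_G(P)` and restricts it to `H`.  For class functions
with local-integer values, `br (f ⋆ f') ≡ br f ⋆ br f'` pointwise modulo the local ideal
(`memLocalIdeal_br_conv`), provided `C_G(P) ≤ H ≤ N_G(P)` and `P` is a `p`-group.  Hence
`f ↦ omega ξ (br f)` is a multiplicative functional, and by `Helper78_AlgHom` it is congruent to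
`omega χ` for some irreducible character `χ` of `G` (`exists_irr_brauer`).
-/

set_option autoImplicit false

namespace Cfsg.Agent.Lib.Helper78_BrauerMap

open Cfsg Cfsg.Agent.Lib.Helper78_LocalRing Cfsg.Agent.Lib.Helper78_CentralChar
  Cfsg.Agent.Lib.Helper78_Osima Cfsg.Agent.Lib.Helper78_PGroupSum
  Cfsg.Agent.Lib.Helper78_Brauer Cfsg.Agent.Lib.Helper78_AlgHom

universe u
variable {G : Type u} [Group G] {M : Ideal AlgInt} {p : ℕ}

/-- Conjugation version of `sum_sub_sum_fixed_mem`. -/
theorem sum_sub_sum_centralizer_mem [Fintype G] [DecidableEq G] (S : Subgroup G)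
    (hS : IsPGroup p S)
    (hM : IsPModular p M) (F : G → ℂ) (hF : ∀ q ∈ S, ∀ x : G, F (q * x * q⁻¹) = F x)
    (hR : ∀ x, MemLocalRing M (F x))
    [DecidablePred fun x : G => x ∈ Subgroup.centralizer (S : Set G)] :
    MemLocalIdeal M (∑ x, F x -
      ∑ x ∈ Finset.univ.filter (fun x : G => x ∈ Subgroup.centralizer (S : Set G)), F x) := by
  classical
  let _ : MulAction S G := MulAction.compHom G ((MulAut.conj (G := G)).comp S.subtype)
  have hsmul : ∀ (q : S) (x : G), q • x = (q : G) * x * (q : G)⁻¹ := fun q x => rfl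
  have h := sum_sub_sum_fixed_mem hS hM F (fun q x => by rw [hsmul]; exact hF q q.2 x) hR
  have hfil : Finset.univ.filter (fun x : G => ∀ q : S, q • x = x) =
      Finset.univ.filter (fun x : G => x ∈ Subgroup.centralizer (S : Set G)) := by
    ext x
    simp only [Finset.mem_filter, Finset.mem_univ, true_and, Subgroup.mem_centralizer_iff]
    constructor
    · intro hx q hq
      have := hx ⟨q, hq⟩
      rw [hsmul] at this
      calc q * x = q * x * q⁻¹ * q := by group
        _ = x * q := by rw [this]
    · intro hx q
      rw [hsmul, hx q q.2]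
      group
  rw [hfil] at h
  convert h

/-- The Brauer map on functions: truncate to `C_G(P)` and restrict to `H`. -/
noncomputable def br (P H : Subgroup G) (f : G → ℂ) : H → ℂ :=
  Set.indicator {h : H | (h : G) ∈ Subgroup.centralizer (P : Set G)} (fun h => f h)

theorem br_apply_of_mem {P H : Subgroup G} (f : G → ℂ) {h : H}
    (hh : (h : G) ∈ Subgroup.centralizer (P : Set G)) : br P H f h = f h :=
  Set.indicator_of_mem (s := {h : H | (h : G) ∈ Subgroup.centralizer (P : Set G)}) hh _

theorem br_apply_of_notMem {P H : Subgroup G} (f : G → ℂ) {h : H}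
    (hh : (h : G) ∉ Subgroup.centralizer (P : Set G)) : br P H f h = 0 :=
  Set.indicator_of_notMem (s := {h : H | (h : G) ∈ Subgroup.centralizer (P : Set G)}) hh _

theorem br_isClassFunction {P H : Subgroup G} (hHN : H ≤ Subgroup.normalizer (P : Set G))
    {f : G → ℂ} (hf : IsClassFunction G f) : IsClassFunction H (br P H f) := by
  intro h x
  have h2 : ((x * h * x⁻¹ : H) : G) ∈ Subgroup.centralizer (P : Set G) ↔
      (h : G) ∈ Subgroup.centralizer (P : Set G) := by
    push_cast
    exact conj_mem_centralizer_iff_of_mem_normalizer (hHN x.2)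
  by_cases hh : (h : G) ∈ Subgroup.centralizer (P : Set G)
  · rw [br_apply_of_mem f hh, br_apply_of_mem f (h2.2 hh)]
    push_cast
    exact hf _ _
  · rw [br_apply_of_notMem f hh, br_apply_of_notMem f (fun h' => hh (h2.1 h'))]

theorem br_memLocalRing (hM : M.IsPrime) {P H : Subgroup G} {f : G → ℂ}
    (hfR : ∀ g, MemLocalRing M (f g)) (h : H) : MemLocalRing M (br P H f h) := by
  by_cases hh : (h : G) ∈ Subgroup.centralizer (P : Set G)
  · rw [br_apply_of_mem f hh]; exact hfR _
  · rw [br_apply_of_notMem f hh]; exact memLocalRing_zero hM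

theorem br_add (P H : Subgroup G) (f f' : G → ℂ) : br P H (f + f') = br P H f + br P H f' := by
  funext h
  by_cases hh : (h : G) ∈ Subgroup.centralizer (P : Set G)
  · simp only [Pi.add_apply, br_apply_of_mem _ hh]
  · simp only [Pi.add_apply, br_apply_of_notMem _ hh, add_zero]

theorem br_smul (P H : Subgroup G) (r : ℂ) (f : G → ℂ) :
    br P H (fun g => r * f g) = fun h => r * br P H f h := by
  funext h
  by_cases hh : (h : G) ∈ Subgroup.centralizer (P : Set G)
  · simp only [br_apply_of_mem _ hh]
  · simp only [br_apply_of_notMem _ hh, mul_zero]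

/-- **Multiplicativity of the Brauer map modulo the local ideal.** -/
theorem memLocalIdeal_br_conv [Fintype G] (hM : IsPModular p M) {P H : Subgroup G} [Fintype H]
    (hP : IsPGroup p P) (hCH : Subgroup.centralizer (P : Set G) ≤ H)
    {f f' : G → ℂ} (hf : IsClassFunction G f) (hfR : ∀ g, MemLocalRing M (f g))
    (hf' : IsClassFunction G f') (hf'R : ∀ g, MemLocalRing M (f' g)) (h : H) :
    MemLocalIdeal M (br P H (conv f f') h - conv (br P H f) (br P H f') h) := by
  classical
  have hMp := isPrime_of_isPModular hM
  by_cases hh : (h : G) ∈ Subgroup.centralizer (P : Set G)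
  · rw [br_apply_of_mem _ hh]
    unfold conv
    -- the sum over `G` is congruent to the sum over `C_G(P)`
    have h1 := sum_sub_sum_centralizer_mem P hP hM (fun x : G => f x * f' (x⁻¹ * (h : G)))
      (fun q hq x => by
        have hq' : q * (h : G) = (h : G) * q := (Subgroup.mem_centralizer_iff.1 hh q hq)
        have h2 : (q * x * q⁻¹)⁻¹ * (h : G) = q * (x⁻¹ * (h : G)) * q⁻¹ := by
          have : (h : G) = q * (h : G) * q⁻¹ := by rw [hq']; group
          conv_lhs => rw [this]
          group
        show f (q * x * q⁻¹) * f' ((q * x * q⁻¹)⁻¹ * (h : G)) = f x * f' (x⁻¹ * (h : G))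
        rw [h2, hf x q, hf' _ q])
      (fun x => memLocalRing_mul hMp (hfR _) (hf'R _))
    -- and the sum over `C_G(P)` is the convolution over `H` of the truncations
    have h3 : ∑ x ∈ Finset.univ.filter
        (fun x : G => x ∈ Subgroup.centralizer (P : Set G)), f x * f' (x⁻¹ * (h : G)) =
        ∑ y : H, br P H f y * br P H f' (y⁻¹ * h) := by
      have h4 : ∑ y : H, br P H f y * br P H f' (y⁻¹ * h) =
          ∑ y ∈ Finset.univ.filter
            (fun y : H => (y : G) ∈ Subgroup.centralizer (P : Set G)),
            f (y : G) * f' ((y : G)⁻¹ * (h : G)) := by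
        rw [Finset.sum_filter]
        refine Finset.sum_congr rfl fun y _ => ?_
        split_ifs with hy
        · have hyh : ((y⁻¹ * h : H) : G) ∈ Subgroup.centralizer (P : Set G) := by
            push_cast
            exact mul_mem (inv_mem hy) hh
          rw [br_apply_of_mem _ hy, br_apply_of_mem _ hyh]
          push_cast
          rfl
        · rw [br_apply_of_notMem _ hy, zero_mul]
      rw [h4]
      symm
      refine Finset.sum_bij (fun (y : H) _ => (y : G)) ?_ ?_ ?_ ?_
      · intro y hy
        simpa using hy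
      · intro y₁ _ y₂ _ h12
        exact Subtype.ext h12
      · intro x hx
        rw [Finset.mem_filter] at hx
        exact ⟨⟨x, hCH hx.2⟩, by simpa using hx.2, rfl⟩
      · intro y _
        rfl
    rw [h3] at h1
    exact h1
  · rw [br_apply_of_notMem _ hh, zero_sub]
    refine memLocalIdeal_neg ?_
    have : conv (br P H f) (br P H f') h = 0 := by
      unfold conv
      refine Finset.sum_eq_zero fun y _ => ?_
      by_cases hy : (y : G) ∈ Subgroup.centralizer (P : Set G)
      · have hyh : ((y⁻¹ * h : H) : G) ∉ Subgroup.centralizer (P : Set G) := by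
          push_cast
          intro hc
          apply hh
          have := mul_mem hy hc
          rwa [mul_inv_cancel_left] at this
        rw [br_apply_of_notMem _ hyh, mul_zero]
      · rw [br_apply_of_notMem _ hy, zero_mul]
    rw [this]
    exact memLocalIdeal_zero hMp

/-- A class function with values in the local ideal has `omega` in the local ideal. -/
theorem memLocalIdeal_omega_of_pointwise [Fintype G] (hM : M.IsPrime) {χ : G → ℂ}
    (hχ : IsIrrCharacter G χ) {u : G → ℂ} (hu : IsClassFunction G u)
    (hum : ∀ g, MemLocalIdeal M (u g)) : MemLocalIdeal M (omega χ u) := by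
  classical
  have := Fintype.ofFinite (ConjClasses G)
  rw [omega_eq_sum_conjClasses (isIrrCharacter_isClassFunction hχ) hu]
  refine memLocalIdeal_sum hM _ _ fun c _ => ?_
  refine memLocalIdeal_mul_right hM (hum _) ?_
  have := memLocalRing_algInt hM
    ⟨centralChar χ c.out, isIntegral_centralChar_of_isIrrCharacter hχ c.out⟩
  simpa using this

section Functional
variable [Fintype G] {P H : Subgroup G} [Fintype H]

/-- `f ↦ omega ξ (br f)` is multiplicative modulo the local ideal. -/
theorem memLocalIdeal_omega_br_conv (hM : IsPModular p M) (hP : IsPGroup p P)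
    (hCH : Subgroup.centralizer (P : Set G) ≤ H) (hHN : H ≤ Subgroup.normalizer (P : Set G))
    {ξ : H → ℂ} (hξ : IsIrrCharacter H ξ)
    {f f' : G → ℂ} (hf : IsClassFunction G f) (hfR : ∀ g, MemLocalRing M (f g))
    (hf' : IsClassFunction G f') (hf'R : ∀ g, MemLocalRing M (f' g)) :
    MemLocalIdeal M (omega ξ (br P H (conv f f')) - omega ξ (br P H f) * omega ξ (br P H f')) := by
  have hMp := isPrime_of_isPModular hM
  rw [← omega_conv hξ _ (br_isClassFunction hHN hf'), ← omega_sub]
  refine memLocalIdeal_omega_of_pointwise hMp hξ ?_ ?_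
  · intro h x
    simp only [Pi.sub_apply]
    rw [br_isClassFunction hHN (conv_isClassFunction hf hf') h x,
      conv_isClassFunction (br_isClassFunction hHN hf) (br_isClassFunction hHN hf') h x]
  · intro h
    exact memLocalIdeal_br_conv hM hP hCH hf hfR hf' hf'R h

omit [Fintype G] [Fintype H] in
theorem br_classIndicator_one : br P H (classIndicator (1 : G)) = classIndicator (1 : H) := by
  classical
  funext h
  have h1 : ∀ k : G, IsConj (1 : G) k ↔ k = 1 := by
    intro k
    exact isConj_one_right
  have h2 : ∀ k : H, IsConj (1 : H) k ↔ k = 1 := by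
    intro k
    exact isConj_one_right
  by_cases hh : h = 1
  · subst hh
    rw [br_apply_of_mem _ (by simp)]
    unfold classIndicator
    rw [Set.indicator_of_mem, Set.indicator_of_mem]
    · exact (h2 1).2 rfl
    · exact (h1 _).2 rfl
  · have hh' : (h : G) ≠ 1 := fun hc => hh (Subtype.ext hc)
    have e1 : classIndicator (1 : H) h = 0 := by
      unfold classIndicator
      rw [Set.indicator_of_notMem]
      exact fun hc => hh ((h2 h).1 hc)
    have e2 : classIndicator (1 : G) (h : G) = 0 := by
      unfold classIndicator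
      rw [Set.indicator_of_notMem]
      exact fun hc => hh' ((h1 _).1 hc)
    rw [e1]
    by_cases hc : (h : G) ∈ Subgroup.centralizer (P : Set G)
    · rw [br_apply_of_mem _ hc, e2]
    · rw [br_apply_of_notMem _ hc]

theorem omega_br_classIndicator (ξ : H → ℂ) (g : G) :
    omega ξ (br P H (classIndicator g)) = brauerCentralChar P H ξ g := by
  classical
  unfold omega brauerCentralChar
  rw [finsum_mem_def, finsum_eq_sum_of_fintype, Finset.sum_div]
  refine Finset.sum_congr rfl fun h _ => ?_
  simp only [Set.indicator_apply, Set.mem_ofPred_eq]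
  by_cases hc : (h : G) ∈ Subgroup.centralizer (P : Set G)
  · rw [br_apply_of_mem _ hc]
    unfold classIndicator
    by_cases hg : IsConj g (h : G)
    · rw [Set.indicator_of_mem (by exact hg), if_pos ⟨hg, hc⟩, one_mul]
    · rw [Set.indicator_of_notMem (by exact hg), if_neg (fun h' => hg h'.1), zero_mul, zero_div]
  · rw [br_apply_of_notMem _ hc, if_neg (fun h' => hc h'.2), zero_mul, zero_div]

/-- **Existence of the Brauer correspondent on the level of central characters.** -/
theorem exists_irr_brauer (hM : IsPModular p M) (hP : IsPGroup p P)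
    (hCH : Subgroup.centralizer (P : Set G) ≤ H) (hHN : H ≤ Subgroup.normalizer (P : Set G))
    {ξ : H → ℂ} (hξ : IsIrrCharacter H ξ) :
    ∃ χ : IrrCharacter G, ∀ f : G → ℂ, IsClassFunction G f → (∀ g, MemLocalRing M (f g)) →
      MemLocalIdeal M (omega ξ (br P H f) - omega (χ : G → ℂ) f) := by
  have hMp := isPrime_of_isPModular hM
  refine exists_irr_of_multiplicative Cfsg.Agent.Lib.Helper78_CharFacts.charFacts hMp
    (fun f => omega ξ (br P H f)) ?_ ?_ ?_ ?_ ?_
  · intro f f'
    simp only [br_add]
    unfold omega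
    rw [← add_div, ← Finset.sum_add_distrib]
    congr 1
    refine Finset.sum_congr rfl fun h _ => ?_
    simp only [Pi.add_apply]
    ring
  · intro r f
    simp only [br_smul]
    exact omega_smul ξ _ r
  · intro f hf hfR
    exact memLocalRing_omega hMp hξ (br_isClassFunction hHN hf) (br_memLocalRing hMp hfR)
  · intro f f' hf hfR hf' hf'R
    exact memLocalIdeal_omega_br_conv hM hP hCH hHN hξ hf hfR hf' hf'R
  · simp only [br_classIndicator_one]
    exact omega_classIndicator_one hξ

theorem exists_irr_brauerCentralChar (hM : IsPModular p M) (hP : IsPGroup p P)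
    (hCH : Subgroup.centralizer (P : Set G) ≤ H) (hHN : H ≤ Subgroup.normalizer (P : Set G))
    {ξ : H → ℂ} (hξ : IsIrrCharacter H ξ) :
    ∃ χ : IrrCharacter G, ∀ g : G,
      MemLocalIdeal M (brauerCentralChar P H ξ g - centralChar (χ : G → ℂ) g) := by
  have hMp := isPrime_of_isPModular hM
  obtain ⟨χ, hχ⟩ := exists_irr_brauer hM hP hCH hHN hξ
  refine ⟨χ, fun g => ?_⟩
  have := hχ (classIndicator g) (classIndicator_isClassFunction g)
    (memLocalRing_classIndicator hMp g)
  rwa [omega_br_classIndicator, omega_classIndicator (isIrrCharacter_isClassFunction χ.2)] at this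

/-- Brauer central characters of two characters in the same block of `H` agree modulo the ideal. -/
theorem memLocalIdeal_brauerCentralChar_sub (hM : M.IsPrime)
    (hHN : H ≤ Subgroup.normalizer (P : Set G)) {ξ ξ' : H → ℂ} (hξ : IsIrrCharacter H ξ)
    (hξ' : IsIrrCharacter H ξ') (hsb : SameBlock M ξ ξ') (g : G) :
    MemLocalIdeal M (brauerCentralChar P H ξ g - brauerCentralChar P H ξ' g) := by
  rw [← omega_br_classIndicator, ← omega_br_classIndicator]
  exact memLocalIdeal_omega_sub hM (isIrrCharacter_isClassFunction hξ)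
    (isIrrCharacter_isClassFunction hξ') hsb
    (br_isClassFunction hHN (classIndicator_isClassFunction g))
    (br_memLocalRing hM (memLocalRing_classIndicator hM g))

/-- **Induced blocks are defined** for `P C_G(P) ≤ H ≤ N_G(P)` (S0919). -/
theorem inducedBlockDefined (hM : IsPModular p M) (hP : IsPGroup p P) (hPH : P ≤ H)
    (hCH : Subgroup.centralizer (P : Set G) ≤ H) (hHN : H ≤ Subgroup.normalizer (P : Set G))
    {b : Set (IrrCharacter H)} (hb : IsPBlock M b) : InducedBlockDefined M H b := by
  have hMp := isPrime_of_isPModular hM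
  obtain ⟨ξ, hξ⟩ := isPBlock_nonempty hMp hb
  obtain ⟨χ, hχ⟩ := exists_irr_brauerCentralChar hM hP hCH hHN ξ.2
  refine ⟨blockOf M (χ : G → ℂ), hb, isPBlock_blockOf χ, fun ξ' hξ' χ' hχ' g => ?_⟩
  have h1 := memLocalIdeal_induced_sub_brauer hM P H hP hPH hHN ξ'.2 g
  have h2 := memLocalIdeal_brauerCentralChar_sub hMp hHN ξ'.2 ξ.2
    (isPBlock_sameBlock hMp hb hξ' hξ) g
  have h3 := hχ g
  have h4 : MemLocalIdeal M (centralChar (χ : G → ℂ) g - centralChar (χ' : G → ℂ) g) := hχ' g
  have h5 := memLocalIdeal_add hMp (memLocalIdeal_add hMp (memLocalIdeal_add hMp h1 h2) h3) h4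
  have h6 : inducedCentralChar H (ξ' : H → ℂ) g - brauerCentralChar P H (ξ' : H → ℂ) g +
      (brauerCentralChar P H (ξ' : H → ℂ) g - brauerCentralChar P H (ξ : H → ℂ) g) +
      (brauerCentralChar P H (ξ : H → ℂ) g - centralChar (χ : G → ℂ) g) +
      (centralChar (χ : G → ℂ) g - centralChar (χ' : G → ℂ) g) =
      inducedCentralChar H (ξ' : H → ℂ) g - centralChar (χ' : G → ℂ) g := by ring
  rwa [h6] at h5

end Functional

end Cfsg.Agent.Lib.Helper78_BrauerMap
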