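import Mathlib
import Cfsg.Prelude.Def_Blocks
import Cfsg.Prelude.Def_BlockRank
import Cfsg.Agent.Lib.Helper78_LocalRing
import Cfsg.Agent.Lib.Helper78_CentralChar
import Cfsg.Agent.Lib.Helper78_Osima
import Cfsg.Agent.Lib.Helper78_CharFacts
import Cfsg.Agent.Lib.Helper78_BrauerMap
import Cfsg.Agent.Lib.Helper77_RegProj
import Cfsg.Agent.Lib.Helper80_CharBasic

/-!
# The sum of the `p`-regular elements and Brauer's Third Main Theorem (helper78)

* `card_pRegular_mul_card`: in a finite group with a central `p`-subgroup `Z` containing all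
  `p`-elements, `#{p-regular elements} * |Z| = |C|` and `p ∤ |C : Z|`.
* `not_memLocalIdeal_sum_pRegular`: the number of `p`-regular elements of a finite group is prime
  to `p` (stated as: the sum of the indicator function is outside the local ideal).
* `omega_pReg_eq_zero`: the central character of `χ` kills the sum of the `p`-regular elements when
  `χ` is outside the principal block.
* `memLocalIdeal_omega_restrict_sub`: if the central character induced from `ξ` on `H` is congruent
  to the central character of `χ`, then `ω_ξ(f|_H) ≡ ω_χ(f)` for all local-integer class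
  functions `f`.
* `third_main`: Brauer's Third Main Theorem.
-/

set_option autoImplicit false
set_option linter.unusedSectionVars false

namespace Cfsg.Agent.Lib.Helper78_PRegSum

open Cfsg Cfsg.Agent.Lib.Helper78_LocalRing Cfsg.Agent.Lib.Helper78_CentralChar
  Cfsg.Agent.Lib.Helper78_Osima Cfsg.Agent.Lib.Helper78_CharFacts
  Cfsg.Agent.Lib.Helper78_BrauerMap

open scoped ComplexConjugate

universe u

/-- In a finite group `C` with a central `p`-subgroup `Z` containing all `p`-elements, every
element is uniquely a product of a `p`-regular element and an element of `Z`. -/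
theorem card_pRegular_mul_card {C : Type*} [Group C] [Finite C] (p : ℕ) [hp : Fact p.Prime]
    (Z : Subgroup C) (hZc : Z ≤ Subgroup.center C) (hZp : IsPGroup p Z)
    (hall : ∀ x : C, (∃ k : ℕ, x ^ (p ^ k) = 1) → x ∈ Z) :
    Nat.card {y : C // ¬ p ∣ orderOf y} * Nat.card Z = Nat.card C ∧ ¬ p ∣ Z.index := by
  have hcard : Nat.card Z * Z.index = Nat.card C := Z.card_mul_index
  -- `Z` is a Sylow subgroup
  have hpn : ¬ p ∣ Z.index := by
    obtain ⟨S, hS⟩ := hZp.exists_le_sylow
    have hSZ : (S : Subgroup C) ≤ Z := by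
      intro x hx
      obtain ⟨k, hk⟩ := S.2 ⟨x, hx⟩
      refine hall x ⟨k, ?_⟩
      have := congrArg Subtype.val hk
      simpa using this
    have hZS : Z = (S : Subgroup C) := le_antisymm hS hSZ
    rw [hZS]
    exact S.not_dvd_index
  refine ⟨?_, hpn⟩
  obtain ⟨a, ha⟩ := hZp.exists_card_eq
  set q := Nat.card Z with hq
  set n := Z.index with hn
  have hcop : Nat.Coprime q n := by
    rw [ha]
    exact Nat.Coprime.pow_left a ((Nat.Prime.coprime_iff_not_dvd hp.1).2 hpn)
  have hbez : (q : ℤ) * Nat.gcdA q n + (n : ℤ) * Nat.gcdB q n = 1 := by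
    have := Nat.gcd_eq_gcd_ab q n
    rw [hcop.gcd_eq_one] at this
    exact_mod_cast this.symm
  set u := Nat.gcdA q n
  set v := Nat.gcdB q n
  let φ : C → C := fun x => x ^ ((q : ℤ) * u)
  let w : C → C := fun x => x ^ ((n : ℤ) * v)
  have hφw : ∀ x, φ x * w x = x := by
    intro x
    show x ^ ((q : ℤ) * u) * x ^ ((n : ℤ) * v) = x
    rw [← zpow_add, hbez, zpow_one]
  have hpowN : ∀ x : C, x ^ ((q : ℤ) * n) = 1 := by
    intro x
    have : ((q : ℤ) * n) = ((Nat.card C : ℕ) : ℤ) := by rw [← hcard]; push_cast; ring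
    rw [this, zpow_natCast, pow_card_eq_one']
  have hwZ : ∀ x, w x ∈ Z := by
    intro x
    refine hall _ ⟨a, ?_⟩
    show (x ^ ((n : ℤ) * v)) ^ (p ^ a) = 1
    rw [← ha, ← zpow_natCast, ← zpow_mul]
    have : (n : ℤ) * v * (q : ℤ) = (q : ℤ) * n * v := by ring
    rw [this, zpow_mul, hpowN, one_zpow]
  have hφn : ∀ x, (φ x) ^ n = 1 := by
    intro x
    show (x ^ ((q : ℤ) * u)) ^ n = 1
    rw [← zpow_natCast, ← zpow_mul]
    have : (q : ℤ) * u * (n : ℤ) = (q : ℤ) * n * u := by ring
    rw [this, zpow_mul, hpowN, one_zpow]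
  have hφreg : ∀ x, ¬ p ∣ orderOf (φ x) := by
    intro x hdvd
    exact hpn (hdvd.trans (orderOf_dvd_of_pow_eq_one (hφn x)))
  have hφid : ∀ y : C, ¬ p ∣ orderOf y → φ y = y := by
    intro y hy
    have h1 : orderOf y ∣ q * n := by rw [hcard]; exact orderOf_dvd_natCard y
    have h2 : Nat.Coprime (orderOf y) q := by
      rw [ha]
      exact Nat.Coprime.pow_right a ((Nat.Prime.coprime_iff_not_dvd hp.1).2 hy).symm
    have h3 : orderOf y ∣ n := h2.dvd_of_dvd_mul_left h1
    have h4 : y ^ n = 1 := orderOf_dvd_iff_pow_eq_one.mp h3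
    have h5 : w y = 1 := by
      show y ^ ((n : ℤ) * v) = 1
      rw [zpow_mul, zpow_natCast, h4, one_zpow]
    have := hφw y
    rw [h5, mul_one] at this
    exact this
  have hφZ : ∀ z ∈ Z, φ z = 1 := by
    intro z hz
    show z ^ ((q : ℤ) * u) = 1
    have h1 : z ^ q = 1 := by
      have h2 : ((⟨z, hz⟩ : Z) ^ q : Z) = 1 := pow_card_eq_one'
      have h3 := congrArg Subtype.val h2
      rw [Subgroup.coe_pow, Subgroup.coe_one] at h3
      exact h3
    rw [zpow_mul, zpow_natCast, h1, one_zpow]
  have hφmul : ∀ (y : C) (z : C), z ∈ Z → φ (y * z) = φ y := by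
    intro y z hz
    have hcomm : Commute y z := by
      have := Subgroup.mem_center_iff.mp (hZc hz) y
      exact this
    show (y * z) ^ ((q : ℤ) * u) = y ^ ((q : ℤ) * u)
    rw [hcomm.mul_zpow]
    have := hφZ z hz
    show y ^ ((q : ℤ) * u) * φ z = _
    rw [this, mul_one]
  let f : {y : C // ¬ p ∣ orderOf y} × Z → C := fun yz => (yz.1 : C) * (yz.2 : C)
  have hfinj : Function.Injective f := by
    rintro ⟨⟨y, hy⟩, ⟨z, hz⟩⟩ ⟨⟨y', hy'⟩, ⟨z', hz'⟩⟩ h
    have h0 : y * z = y' * z' := h
    have h1 : φ (y * z) = φ (y' * z') := by rw [h0]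
    rw [hφmul y z hz, hφmul y' z' hz', hφid y hy, hφid y' hy'] at h1
    subst h1
    have h2 : z = z' := mul_left_cancel h0
    subst h2
    rfl
  have hfsurj : Function.Surjective f := by
    intro x
    exact ⟨(⟨φ x, hφreg x⟩, ⟨w x, hwZ x⟩), hφw x⟩
  have := Nat.card_congr (Equiv.ofBijective f ⟨hfinj, hfsurj⟩)
  rw [Nat.card_prod] at this
  exact this

variable {G : Type u} [Group G] {M : Ideal AlgInt} {p : ℕ}

/-- The indicator function of the `p`-regular elements. -/
noncomputable def regInd (p : ℕ) (G : Type u) [Group G] : G → ℂ :=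
  pRegularPart p (fun _ : G => (1 : ℂ))

theorem regInd_of_reg {g : G} (h : ¬ p ∣ orderOf g) : regInd p G g = 1 := by
  unfold regInd pRegularPart
  exact if_pos h

theorem regInd_of_sing {g : G} (h : p ∣ orderOf g) : regInd p G g = 0 := by
  unfold regInd pRegularPart
  exact if_neg (fun hn => hn h)

theorem regInd_mul (χ : G → ℂ) (g : G) : regInd p G g * χ g = pRegularPart p χ g := by
  by_cases h : p ∣ orderOf g
  · rw [regInd_of_sing h, zero_mul]
    unfold pRegularPart
    exact (if_neg (fun hn => hn h)).symm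
  · rw [regInd_of_reg h, one_mul]
    unfold pRegularPart
    exact (if_pos h).symm

theorem regInd_isClassFunction : IsClassFunction G (regInd p G) := by
  intro g h
  have h1 : orderOf (h * g * h⁻¹) = orderOf g := by
    have := MulEquiv.orderOf_eq (MulAut.conj h) g
    simpa [MulAut.conj_apply] using this
  by_cases hg : p ∣ orderOf g
  · rw [regInd_of_sing hg, regInd_of_sing (h1 ▸ hg)]
  · rw [regInd_of_reg hg, regInd_of_reg (h1 ▸ hg)]

theorem regInd_memLocalRing (hM : M.IsPrime) (g : G) : MemLocalRing M (regInd p G g) := by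
  by_cases hg : p ∣ orderOf g
  · rw [regInd_of_sing hg]; exact memLocalRing_zero hM
  · rw [regInd_of_reg hg]; exact memLocalRing_one hM

theorem regInd_coe (H : Subgroup G) (h : H) : regInd p G (h : G) = regInd p H h := by
  have h1 : orderOf (h : G) = orderOf h := Subgroup.orderOf_coe h
  by_cases hg : p ∣ orderOf h
  · rw [regInd_of_sing hg, regInd_of_sing (h1 ▸ hg)]
  · rw [regInd_of_reg hg, regInd_of_reg (h1 ▸ hg)]

/-- The number of `p`-regular elements of a finite group is prime to `p`. -/
theorem not_memLocalIdeal_sum_regInd [Fintype G] [hp : Fact p.Prime] (hM : IsPModular p M) :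
    ¬ MemLocalIdeal M (∑ x : G, regInd p G x) := by
  classical
  have hMp := isPrime_of_isPModular hM
  obtain ⟨P⟩ : Nonempty (Sylow p G) := inferInstance
  have h1 := sum_sub_sum_centralizer_mem (M := M) (P : Subgroup G) P.2 hM (regInd p G)
    (fun q _ x => regInd_isClassFunction x q) (regInd_memLocalRing hMp)
  intro hcon
  have h2 : MemLocalIdeal M (∑ x ∈ Finset.univ.filter
      (fun x : G => x ∈ Subgroup.centralizer ((P : Subgroup G) : Set G)), regInd p G x) := by
    have := memLocalIdeal_sub hMp hcon h1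
    rwa [sub_sub_cancel] at this
  set C := Subgroup.centralizer ((P : Subgroup G) : Set G) with hC
  have h3 : ∑ x ∈ Finset.univ.filter (fun x : G => x ∈ C), regInd p G x =
      ((Nat.card {y : C // ¬ p ∣ orderOf y} : ℕ) : ℂ) := by
    rw [Finset.sum_filter]
    have h4 : ∀ x : G, (if x ∈ C then regInd p G x else 0) =
        if (x ∈ C ∧ ¬ p ∣ orderOf x) then (1 : ℂ) else 0 := by
      intro x
      by_cases hx : x ∈ C
      · by_cases hx2 : p ∣ orderOf x
        · rw [if_pos hx, regInd_of_sing hx2, if_neg (fun h => h.2 hx2)]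
        · rw [if_pos hx, regInd_of_reg hx2, if_pos ⟨hx, hx2⟩]
      · rw [if_neg hx, if_neg (fun h => hx h.1)]
    simp_rw [h4]
    rw [Finset.sum_boole]
    congr 1
    rw [Nat.card_eq_fintype_card, ← Fintype.card_subtype]
    refine Fintype.card_congr ?_
    exact
      { toFun := fun x => ⟨⟨x.1, x.2.1⟩, by rw [Subgroup.orderOf_mk]; exact x.2.2⟩
        invFun := fun y => ⟨(y.1 : G), y.1.2, by rw [Subgroup.orderOf_coe]; exact y.2⟩
        left_inv := fun x => rfl
        right_inv := fun y => rfl }
  rw [h3, memLocalIdeal_natCast_iff hM] at h2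
  -- the group-theoretic count
  let Z : Subgroup C := (P : Subgroup G).subgroupOf C
  have hZc : Z ≤ Subgroup.center C := by
    intro z hz
    rw [Subgroup.mem_center_iff]
    intro c
    have hzP : (z : G) ∈ (P : Subgroup G) := hz
    have := Subgroup.mem_centralizer_iff.mp c.2 (z : G) hzP
    exact Subtype.ext this.symm
  have hZp : IsPGroup p Z := by
    have : IsPGroup p ((P : Subgroup G).subgroupOf C) :=
      P.2.comap_of_injective C.subtype C.subtype_injective
    exact this
  have hall : ∀ x : C, (∃ k : ℕ, x ^ (p ^ k) = 1) → x ∈ Z := by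
    rintro x ⟨k, hk⟩
    show (x : G) ∈ (P : Subgroup G)
    have hxk : (x : G) ^ (p ^ k) = 1 := by
      have := congrArg Subtype.val hk
      simpa using this
    have hzp : IsPGroup p (Subgroup.zpowers (x : G)) :=
      IsPGroup.of_card_dvd_pow (n := k)
        (by rw [Nat.card_zpowers]; exact orderOf_dvd_of_pow_eq_one hxk)
    have hle : Subgroup.zpowers (x : G) ≤
        Subgroup.normalizer (((P : Subgroup G)) : Set G) := by
      rw [Subgroup.zpowers_le]
      exact Subgroup.centralizer_le_normalizer _ x.2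
    have hsup : IsPGroup p (Subgroup.zpowers (x : G) ⊔ (P : Subgroup G) : Subgroup G) :=
      hzp.to_sup_of_normal_right' P.2 hle
    have heq := P.is_maximal' hsup le_sup_right
    have : (x : G) ∈ Subgroup.zpowers (x : G) ⊔ (P : Subgroup G) :=
      (le_sup_left : Subgroup.zpowers (x : G) ≤ _) (Subgroup.mem_zpowers _)
    rw [heq] at this
    exact this
  obtain ⟨h5, h6⟩ := card_pRegular_mul_card p Z hZc hZp hall
  have h7 : Nat.card {y : C // ¬ p ∣ orderOf y} = Z.index := by
    have h8 : Nat.card Z * Z.index = Nat.card C := Z.card_mul_index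
    have hpos : 0 < Nat.card Z := Nat.card_pos
    have : Nat.card {y : C // ¬ p ∣ orderOf y} * Nat.card Z = Z.index * Nat.card Z := by
      rw [h5, ← h8, mul_comm]
    exact Nat.eq_of_mul_eq_mul_right hpos this
  rw [h7] at h2
  exact h6 h2

/-- The central character of an irreducible character outside the principal block kills the sum of
the `p`-regular elements. -/
theorem omega_regInd_eq_zero [Fintype G] [Fact p.Prime] (hM : IsPModular p M)
    (χ : IrrCharacter G) (hχ : χ ∉ principalBlock M G) :
    omega (χ : G → ℂ) (regInd p G) = 0 := by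
  classical
  have hMp := isPrime_of_isPModular hM
  have hblock : IsPBlock M (principalBlock M G) :=
    ⟨Cfsg.Agent.Lib.Helper80_CharBasic.oneIrr G, rfl⟩
  have hone : Cfsg.Agent.Lib.Helper80_CharBasic.oneIrr G ∈ principalBlock M G :=
    mem_blockOf_self hMp (Cfsg.Agent.Lib.Helper80_CharBasic.oneIrr G)
  have h := Cfsg.Agent.Lib.Helper77_RegProj.sum_pRegularPart_mul_conj_eq_zero hM
    (principalBlock M G) (fun g => osima_block' hMp hblock g) χ
    (Cfsg.Agent.Lib.Helper80_CharBasic.oneIrr G) hχ hone
  unfold omega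
  have h2 : ∑ g : G, regInd p G g * (χ : G → ℂ) g =
      ∑ x : G, pRegularPart p (χ : G → ℂ) x *
        conj (((Cfsg.Agent.Lib.Helper80_CharBasic.oneIrr G : IrrCharacter G) : G → ℂ) x) := by
    refine Finset.sum_congr rfl fun g _ => ?_
    rw [regInd_mul]
    have : ((Cfsg.Agent.Lib.Helper80_CharBasic.oneIrr G : IrrCharacter G) : G → ℂ) g = 1 := rfl
    rw [this, map_one, mul_one]
  rw [h2, h, zero_div]

/-- The principal character sends the sum of the `p`-regular elements outside the local ideal. -/
theorem not_memLocalIdeal_omega_one_regInd [Fintype G] [Fact p.Prime] (hM : IsPModular p M) :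
    ¬ MemLocalIdeal M (omega (fun _ : G => (1 : ℂ)) (regInd p G)) := by
  have h : omega (fun _ : G => (1 : ℂ)) (regInd p G) = ∑ x : G, regInd p G x := by
    unfold omega
    simp
  rw [h]
  exact not_memLocalIdeal_sum_regInd hM

/-- `ω_ξ(f|_H)` as a sum over the classes of `G` of the induced central character. -/
theorem omega_restrict_eq_sum [Fintype G] [Fintype (ConjClasses G)] (H : Subgroup G) [Fintype H]
    (ξ : H → ℂ) {f : G → ℂ} (hf : IsClassFunction G f) :
    omega ξ (fun h : H => f h) =
      ∑ c : ConjClasses G, f c.out * inducedCentralChar H ξ c.out := by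
  classical
  unfold omega inducedCentralChar
  rw [Finset.sum_div]
  have h1 : ∀ c : ConjClasses G,
      f c.out * (∑ᶠ h ∈ {h : H | IsConj c.out (h : G)}, ξ h / ξ 1) =
        ∑ h : H, if IsConj c.out (h : G) then f (h : G) * ξ h / ξ 1 else 0 := by
    intro c
    rw [finsum_mem_def, finsum_eq_sum_of_fintype, Finset.mul_sum]
    refine Finset.sum_congr rfl fun h _ => ?_
    simp only [Set.indicator_apply, Set.mem_ofPred_eq]
    split_ifs with hc
    · obtain ⟨x, hx⟩ := isConj_iff.mp hc
      rw [← hx, hf]
      ring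
    · rw [mul_zero]
  simp_rw [h1]
  rw [Finset.sum_comm]
  refine Finset.sum_congr rfl fun h _ => ?_
  rw [Finset.sum_eq_single (ConjClasses.mk (h : G))]
  · rw [if_pos]
    have : ConjClasses.mk (ConjClasses.mk (h : G)).out = ConjClasses.mk (h : G) :=
      Quotient.out_eq _
    exact ConjClasses.mk_eq_mk_iff_isConj.mp this
  · intro c _ hc
    rw [if_neg]
    intro hcon
    apply hc
    have h2 : ConjClasses.mk c.out = c := Quotient.out_eq c
    rw [← h2]
    exact ConjClasses.mk_eq_mk_iff_isConj.mpr hcon
  · intro hh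
    exact absurd (Finset.mem_univ _) hh

/-- If the central character induced from `ξ` is congruent to the central character of `χ`, then
`ω_ξ(f|_H) ≡ ω_χ(f)` for every class function `f` with local-integer values. -/
theorem memLocalIdeal_omega_restrict_sub [Fintype G] (hM : M.IsPrime) (H : Subgroup G) [Fintype H]
    (ξ : H → ℂ) {χ : G → ℂ} (hχ : IsClassFunction G χ)
    (hind : ∀ g : G, MemLocalIdeal M (inducedCentralChar H ξ g - centralChar χ g))
    {f : G → ℂ} (hf : IsClassFunction G f) (hfR : ∀ g, MemLocalRing M (f g)) :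
    MemLocalIdeal M (omega ξ (fun h : H => f h) - omega χ f) := by
  classical
  have := Fintype.ofFinite (ConjClasses G)
  rw [omega_restrict_eq_sum H ξ hf, omega_eq_sum_conjClasses hχ hf, ← Finset.sum_sub_distrib]
  refine memLocalIdeal_sum hM _ _ fun c _ => ?_
  rw [← mul_sub]
  exact memLocalIdeal_mul_left hM (hfR _) (hind _)

/-- If `b` induces `B`, `ξ ∈ b` and `χ ∈ B`, the values of the central characters on the sums of
the `p`-regular elements are congruent. -/
theorem memLocalIdeal_omega_regInd_sub [Fintype G] (hM : M.IsPrime) (H : Subgroup G) [Fintype H]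
    {b : Set (IrrCharacter H)} {B : Set (IrrCharacter G)} (hind : IsInducedBlock M H b B)
    {ξ : IrrCharacter H} (hξ : ξ ∈ b) {χ : IrrCharacter G} (hχ : χ ∈ B) :
    MemLocalIdeal M (omega (ξ : H → ℂ) (regInd p H) - omega (χ : G → ℂ) (regInd p G)) := by
  have h := memLocalIdeal_omega_restrict_sub hM H (ξ : H → ℂ)
    (isIrrCharacter_isClassFunction χ.2) (fun g => hind.2.2 ξ hξ χ hχ g)
    (regInd_isClassFunction (p := p) (G := G)) (regInd_memLocalRing hM)
  have h2 : (fun h : H => regInd p G (h : G)) = regInd p H := by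
    funext h
    exact regInd_coe H h
  rw [h2] at h
  exact h

/-- **Brauer's Third Main Theorem**. -/
theorem third_main [Finite G] [Fact p.Prime] (hM : IsPModular p M) (H : Subgroup G)
    (b : Set (IrrCharacter H)) (hdef : InducedBlockDefined M H b) :
    IsInducedBlock M H b (principalBlock M G) ↔ b = principalBlock M H := by
  classical
  have := Fintype.ofFinite G
  have := Fintype.ofFinite H
  have hMp := isPrime_of_isPModular hM
  have hPG : IsPBlock M (principalBlock M G) :=
    ⟨Cfsg.Agent.Lib.Helper80_CharBasic.oneIrr G, rfl⟩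
  have hPH : IsPBlock M (principalBlock M H) :=
    ⟨Cfsg.Agent.Lib.Helper80_CharBasic.oneIrr H, rfl⟩
  have honeG : Cfsg.Agent.Lib.Helper80_CharBasic.oneIrr G ∈ principalBlock M G :=
    mem_blockOf_self hMp (Cfsg.Agent.Lib.Helper80_CharBasic.oneIrr G)
  have honeH : Cfsg.Agent.Lib.Helper80_CharBasic.oneIrr H ∈ principalBlock M H :=
    mem_blockOf_self hMp (Cfsg.Agent.Lib.Helper80_CharBasic.oneIrr H)
  constructor
  · intro hind
    obtain ⟨ξ, hξ⟩ := isPBlock_nonempty hMp hind.1
    have h1 := memLocalIdeal_omega_regInd_sub (p := p) hMp H hind hξ honeG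
    have h2 : ¬ MemLocalIdeal M (omega (ξ : H → ℂ) (regInd p H)) := by
      intro hcon
      have h3 := memLocalIdeal_sub hMp hcon h1
      rw [sub_sub_cancel] at h3
      exact not_memLocalIdeal_omega_one_regInd (G := G) hM h3
    have h4 : ξ ∈ principalBlock M H := by
      by_contra hne
      rw [omega_regInd_eq_zero hM ξ hne] at h2
      exact h2 (memLocalIdeal_zero hMp)
    exact isPBlock_eq_of_mem_of_mem hMp hind.1 hPH hξ h4
  · intro hb
    obtain ⟨B, hind⟩ := hdef
    obtain ⟨χ, hχ⟩ := isPBlock_nonempty hMp hind.2.1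
    have hξ : Cfsg.Agent.Lib.Helper80_CharBasic.oneIrr H ∈ b := by rw [hb]; exact honeH
    have h1 := memLocalIdeal_omega_regInd_sub (p := p) hMp H hind hξ hχ
    have h2 : ¬ MemLocalIdeal M (omega (χ : G → ℂ) (regInd p G)) := by
      intro hcon
      have h3 := memLocalIdeal_add hMp h1 hcon
      rw [sub_add_cancel] at h3
      exact not_memLocalIdeal_omega_one_regInd (G := H) hM h3
    have h4 : χ ∈ principalBlock M G := by
      by_contra hne
      rw [omega_regInd_eq_zero hM χ hne] at h2
      exact h2 (memLocalIdeal_zero hMp)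
    have h5 : B = principalBlock M G := isPBlock_eq_of_mem_of_mem hMp hind.2.1 hPG hχ h4
    rw [← h5]
    exact hind

end Cfsg.Agent.Lib.Helper78_PRegSum
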