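import Mathlib
import Cfsg.Prelude.Def_Blocks
import Cfsg.Agent.Lib.Helper78_LocalRing
import Cfsg.Agent.Lib.Helper78_CharFacts
import Cfsg.Agent.Lib.Helper77_MatrixLocal
import Cfsg.Agent.Lib.Helper77_PermTrace
import Cfsg.Agent.Lib.Helper77_WeakOrth
import Cfsg.Agent.Lib.Helper80_CharBasic

/-!
# Block orthogonality on `p`-sections (helper16)

* `exists_isPPart` : every element of a finite group has a `p`-part.
* `isPPart_pow_eq` : the `p`-part is a fixed power of the element.
* `twoSided_fixed_of_not_isConj` : if the `p`-parts of `g`, `h` are not conjugate, every cycle of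
  `k ↦ g k h⁻¹` has length divisible by `p`.
* `orthogonality_of_cycles`, `block_orthogonality` : `∑_{χ∈B} χ g * conj (χ h) = 0`.
* `blockPart_eq_zero` : the `B`-part of a class function vanishing on a `p`-section vanishes there.
-/

set_option autoImplicit false
set_option linter.unusedSectionVars false

namespace Cfsg.Agent.Lib.Helper16_BlockOrth

open Cfsg Cfsg.Agent.Lib.Helper78_LocalRing Cfsg.Agent.Lib.Helper77_MatrixLocal
  Cfsg.Agent.Lib.Helper77_PermTrace Cfsg.Agent.Lib.Helper78_Osima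
  Cfsg.Agent.Lib.Helper78_CharFacts Cfsg.Agent.Lib.Helper78_CentralChar
  Cfsg.Agent.Lib.Helper77_WeakOrth Matrix

open scoped ComplexConjugate

universe u

variable {G : Type u} [Group G]

/-- If `x` is the `p`-part of `g` with complement `y`, then `g ^ E = x` whenever
`orderOf y ∣ E` and `E ≡ 1` modulo `orderOf x`. -/
theorem pow_eq_of_ppart {x y g : G} (hxy : x * y = g) (hc : Commute x y) {E q : ℕ}
    (hy : orderOf y ∣ E) (hx : E = 1 + orderOf x * q) : g ^ E = x := by
  rw [← hxy, hc.mul_pow]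
  have h1 : y ^ E = 1 := orderOf_dvd_iff_pow_eq_one.mp hy
  have h2 : x ^ E = x := by
    rw [hx, pow_add, pow_one, pow_mul, pow_orderOf_eq_one, one_pow, mul_one]
  rw [h1, h2, mul_one]

/-- If the `p`-parts of `g` and `h` are not conjugate, all cycles of `k ↦ g k h⁻¹` have length
divisible by `p`. -/
theorem twoSided_fixed_of_not_isConj {p : ℕ} (hp : p.Prime) {g h x y : G}
    (hg : IsPPart p g x) (hh : IsPPart p h y) (hxy : ¬ IsConj x y)
    (j : ℕ) (a : G) (hfix : ((twoSided g h) ^ j) a = a) : p ∣ j := by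
  by_contra hpj
  apply hxy
  obtain ⟨x', hx1, hx2, ⟨k1, hk1⟩, hx4⟩ := hg
  obtain ⟨y', hy1, hy2, ⟨k2, hk2⟩, hy4⟩ := hh
  rw [twoSided_pow_apply] at hfix
  have h1 : h ^ j = a⁻¹ * g ^ j * a := by
    have : g ^ j * a = a * h ^ j := by
      calc g ^ j * a = g ^ j * a * (h ^ j)⁻¹ * h ^ j := by group
        _ = a * h ^ j := by rw [hfix]
    rw [mul_assoc, this]; group
  -- choose the exponent
  set n := orderOf x' * orderOf y' with hn
  set K := k1 + k2 + 1 with hK
  have hcop : Nat.Coprime (j * n) (p ^ K) := by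
    apply Nat.Coprime.pow_right
    rw [Nat.coprime_comm]
    apply (Nat.Prime.coprime_iff_not_dvd hp).mpr
    intro hd
    rcases hp.dvd_mul.mp hd with h | h
    · exact hpj h
    · rcases hp.dvd_mul.mp h with h | h
      · exact hx4 h
      · exact hy4 h
  have hlt : 1 < p ^ K := Nat.one_lt_pow (by omega) hp.one_lt
  obtain ⟨m, -, hm⟩ := Nat.exists_mul_mod_eq_one_of_coprime hcop hlt
  -- E = j * n * m = 1 + p^K * q
  have hE : j * n * m = 1 + p ^ K * (j * n * m / p ^ K) := by
    have := Nat.div_add_mod (j * n * m) (p ^ K)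
    rw [hm] at this
    omega
  have hxE : g ^ (j * n * m) = x := by
    refine pow_eq_of_ppart hx1 hx2 (q := p ^ (k2 + 1) * (j * n * m / p ^ K)) ?_ ?_
    · exact Dvd.dvd.mul_right (Dvd.dvd.mul_left (Dvd.intro _ rfl) j) m
    · have hpp : p ^ k1 * (p ^ (k2 + 1) * (j * n * m / p ^ K)) = p ^ K * (j * n * m / p ^ K) := by
        rw [← mul_assoc, ← pow_add, show k1 + (k2 + 1) = K by omega]
      rw [hk1, hpp]
      exact hE
  have hyE : h ^ (j * n * m) = y := by
    refine pow_eq_of_ppart hy1 hy2 (q := p ^ (k1 + 1) * (j * n * m / p ^ K)) ?_ ?_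
    · exact Dvd.dvd.mul_right (Dvd.dvd.mul_left (Dvd.intro_left _ rfl) j) m
    · have hpp : p ^ k2 * (p ^ (k1 + 1) * (j * n * m / p ^ K)) = p ^ K * (j * n * m / p ^ K) := by
        rw [← mul_assoc, ← pow_add, show k2 + (k1 + 1) = K by omega]
      rw [hk2, hpp]
      exact hE
  have h2 : y = a⁻¹ * x * a := by
    rw [← hyE, ← hxE, mul_assoc j, pow_mul, h1, pow_mul (g)]
    have := conj_pow (a := a⁻¹) (b := g ^ j) (i := n * m)
    simpa using this
  rw [isConj_iff]
  refine ⟨a⁻¹, ?_⟩
  rw [h2, inv_inv]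

/-- Every element of finite order has a `p`-part. -/
theorem exists_isPPart [Finite G] {p : ℕ} (hp : p.Prime) (g : G) : ∃ z : G, IsPPart p g z := by
  have hpos : orderOf g ≠ 0 := (orderOf_pos g).ne'
  obtain ⟨k, m, hm, hkm⟩ := Nat.exists_eq_pow_mul_and_not_dvd hpos p hp.ne_one
  have hcop : Nat.Coprime m (p ^ (k + 1)) := by
    apply Nat.Coprime.pow_right
    rw [Nat.coprime_comm]
    exact (Nat.Prime.coprime_iff_not_dvd hp).mpr hm
  have hlt : 1 < p ^ (k + 1) := Nat.one_lt_pow (by omega) hp.one_lt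
  obtain ⟨a, -, ha⟩ := Nat.exists_mul_mod_eq_one_of_coprime hcop hlt
  have hE : m * a = 1 + p ^ (k + 1) * (m * a / p ^ (k + 1)) := by
    have := Nat.div_add_mod (m * a) (p ^ (k + 1))
    rw [ha] at this
    omega
  set q := m * a / p ^ (k + 1) with hq
  -- z = g^(m a), y = g^(p^(k+1) q)⁻¹
  refine ⟨g ^ (m * a), (g ^ (p ^ (k + 1) * q))⁻¹, ?_, ?_, ?_, ?_⟩
  · have : g ^ (m * a) = g * g ^ (p ^ (k + 1) * q) := by
      rw [hE, pow_add, pow_one]
    rw [this, mul_assoc, mul_inv_cancel, mul_one]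
  · exact ((Commute.refl g).pow_pow _ _).inv_right
  · have h1 : (g ^ (m * a)) ^ (p ^ k) = 1 := by
      rw [← pow_mul, mul_comm (m * a), ← mul_assoc, ← hkm, pow_mul, pow_orderOf_eq_one, one_pow]
    obtain ⟨i, _, hi⟩ := (Nat.dvd_prime_pow hp).mp (orderOf_dvd_of_pow_eq_one h1)
    exact ⟨i, hi⟩
  · rw [orderOf_inv]
    intro hd
    have h1 : (g ^ (p ^ (k + 1) * q)) ^ m = 1 := by
      rw [← pow_mul]
      have : p ^ (k + 1) * q * m = orderOf g * (p * q) := by
        rw [hkm, pow_succ]; ring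
      rw [this, pow_mul, pow_orderOf_eq_one, one_pow]
    exact hm (dvd_trans hd (orderOf_dvd_of_pow_eq_one h1))

variable [Fintype G] [DecidableEq G]

/-- Orthogonality for a set of irreducible characters whose idempotent has local-integer
coefficients, at a pair `g`, `h` for which all cycles of `k ↦ g k h⁻¹` have length divisible by
`p`. -/
theorem orthogonality_of_cycles {p : ℕ} {M : Ideal AlgInt} (hM : IsPModular p M)
    (S : Set (IrrCharacter G)) (hS : ∀ g : G, MemLocalRing M (blockCoeff S g))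
    (x y : G) (hcyc : ∀ (j : ℕ) (a : G), ((twoSided x y) ^ j) a = a → p ∣ j) :
    ∑ᶠ χ ∈ S, (χ : G → ℂ) x * conj ((χ : G → ℂ) y) = 0 := by
  have hfin : Finite (IrrCharacter G) := charFacts.finite
  have := Fintype.ofFinite (IrrCharacter G)
  rw [finsum_mem_def, finsum_eq_sum_of_fintype, ← sum_blockCoeff_twoSided S x y,
    ← trace_pmat_twoSided_mul_emat]
  apply trace_pmat_mul_idempotent_eq_zero hM
  · exact hcyc
  · rw [emat_mul_emat, conv_blockCoeff_self]
  · intro h g
    exact hS _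
  · exact pmat_twoSided_comm_emat x y (blockCoeff_isClassFunction S)

end Cfsg.Agent.Lib.Helper16_BlockOrth

namespace Cfsg.Agent.Lib.Helper16_BlockOrth

open Cfsg Cfsg.Agent.Lib.Helper78_LocalRing Cfsg.Agent.Lib.Helper78_CharFacts
  Cfsg.Agent.Lib.Helper77_WeakOrth

open scoped ComplexConjugate

/-- **Block orthogonality**: if the `p`-parts of `g` and `h` are not conjugate then
`∑_{χ ∈ B} χ g * conj (χ h) = 0`. -/
theorem block_orthogonality {G : Type*} [Group G] [Finite G] {p : ℕ} {M : Ideal AlgInt}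
    (hM : IsPModular p M) {B : Set (IrrCharacter G)} (hB : IsPBlock M B)
    {g h x y : G} (hg : IsPPart p g x) (hh : IsPPart p h y) (hxy : ¬ IsConj x y) :
    ∑ᶠ χ ∈ B, (χ : G → ℂ) g * conj ((χ : G → ℂ) h) = 0 := by
  classical
  have := Fintype.ofFinite G
  exact orthogonality_of_cycles hM B (fun g => osima_block' hM.2.1.isPrime hB g) g h
    (fun j a hfix => twoSided_fixed_of_not_isConj hM.1 hg hh hxy j a hfix)

/-- **Block orthogonality**, in the form `∑_{χ ∈ B} χ g * χ h⁻¹ = 0`. -/
theorem block_orthogonality_inv {G : Type*} [Group G] [Finite G] {p : ℕ} {M : Ideal AlgInt}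
    (hM : IsPModular p M) {B : Set (IrrCharacter G)} (hB : IsPBlock M B)
    {g h x y : G} (hg : IsPPart p g x) (hh : IsPPart p h y) (hxy : ¬ IsConj x y) :
    ∑ᶠ χ ∈ B, (χ : G → ℂ) g * (χ : G → ℂ) h⁻¹ = 0 := by
  rw [← block_orthogonality hM hB hg hh hxy]
  refine finsum_congr fun χ => ?_
  refine finsum_congr fun _ => ?_
  rw [Cfsg.Agent.Lib.Helper80_CharBasic.irr_inv χ h]

/-- The `B`-part of a function vanishing on the `p`-section of `x` vanishes on that section. -/
theorem blockPart_eq_zero {G : Type*} [Group G] [Finite G] {p : ℕ} {M : Ideal AlgInt}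
    (hM : IsPModular p M) {B : Set (IrrCharacter G)} (hB : IsPBlock M B) (ϑ : G → ℂ) (x : G)
    (hϑ : ∀ u z : G, IsPPart p u z → IsConj x z → ϑ u = 0)
    (u z : G) (hu : IsPPart p u z) (hxz : IsConj x z) : blockPart B ϑ u = 0 := by
  classical
  let _ : Fintype G := Fintype.ofFinite G
  have hfin : Finite (IrrCharacter G) := charFacts.finite
  have := Fintype.ofFinite (IrrCharacter G)
  have key : ∀ g : G, ϑ g * ∑ χ : IrrCharacter G,
      B.indicator (fun χ : IrrCharacter G => conj ((χ : G → ℂ) g) * (χ : G → ℂ) u) χ = 0 := by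
    intro g
    by_cases hg : ϑ g = 0
    · rw [hg, zero_mul]
    · obtain ⟨zg, hzg⟩ := exists_isPPart hM.1 g
      have hnc : ¬ IsConj z zg := fun hc => hg (hϑ g zg hzg (hxz.trans hc))
      have h0 := block_orthogonality hM hB hu hzg hnc
      rw [finsum_mem_def, finsum_eq_sum_of_fintype] at h0
      have : ∑ χ : IrrCharacter G,
          B.indicator (fun χ : IrrCharacter G => conj ((χ : G → ℂ) g) * (χ : G → ℂ) u) χ = 0 := by
        rw [← h0]
        refine Finset.sum_congr rfl fun χ _ => ?_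
        by_cases hχ : χ ∈ B
        · rw [Set.indicator_of_mem hχ, Set.indicator_of_mem hχ, mul_comm]
        · rw [Set.indicator_of_notMem hχ, Set.indicator_of_notMem hχ]
      rw [this, mul_zero]
  unfold blockPart
  rw [finsum_mem_def, finsum_eq_sum_of_fintype]
  unfold classInner
  have hstep : ∀ χ : IrrCharacter G,
      B.indicator (fun χ : IrrCharacter G =>
        ((Nat.card G : ℂ)⁻¹ * ∑ g : G, ϑ g * conj ((χ : G → ℂ) g)) * (χ : G → ℂ) u) χ =
      ∑ g : G, (Nat.card G : ℂ)⁻¹ * (ϑ g *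
        B.indicator (fun χ : IrrCharacter G => conj ((χ : G → ℂ) g) * (χ : G → ℂ) u) χ) := by
    intro χ
    by_cases hχ : χ ∈ B
    · rw [Set.indicator_of_mem hχ, mul_assoc, Finset.sum_mul, Finset.mul_sum]
      refine Finset.sum_congr rfl fun g _ => ?_
      rw [Set.indicator_of_mem hχ, mul_assoc]
    · rw [Set.indicator_of_notMem hχ]
      symm
      apply Finset.sum_eq_zero
      intro g _
      rw [Set.indicator_of_notMem hχ, mul_zero, mul_zero]
  rw [Finset.sum_congr rfl fun χ _ => hstep χ, Finset.sum_comm]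
  apply Finset.sum_eq_zero
  intro g _
  rw [← Finset.mul_sum, ← Finset.mul_sum, key g, mul_zero]

end Cfsg.Agent.Lib.Helper16_BlockOrth
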