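import Mathlib
import Cfsg.Prelude.Def_Blocks
import Cfsg.Agent.Lib.Helper78_LocalRing
import Cfsg.Agent.Lib.Helper77_MatrixLocal
import Cfsg.Agent.Lib.Helper77_PermTrace

/-!
# Traces of permutations on idempotents, with a bad set (helper16)

Strengthening of helper77's `trace_pmat_mul_idempotent_eq_zero`: the cycles of `π` only need to
have length divisible by `p` off a `π`-stable set `C`, provided the `C × C` entries of the
idempotent `F` all lie in the local ideal.

Also: a matrix congruent to `1` modulo the local ideal has an inverse with local-integer entries.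
-/

set_option autoImplicit false
set_option linter.unusedSectionVars false

namespace Cfsg.Agent.Lib.Helper16_BadTrace

open Cfsg Cfsg.Agent.Lib.Helper78_LocalRing Cfsg.Agent.Lib.Helper77_MatrixLocal
  Cfsg.Agent.Lib.Helper77_PermTrace Matrix

variable {M : Ideal AlgInt} {n : Type*} [Fintype n] [DecidableEq n]

theorem memLocalRing_det (hM : M.IsPrime) {A : Matrix n n ℂ} (hA : EntR M A) :
    MemLocalRing M A.det := by
  rw [Matrix.det_apply]
  apply memLocalRing_sum hM
  intro σ _
  have hprod : MemLocalRing M (∏ i, A (σ i) i) :=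
    memLocalRing_prod hM _ _ fun i _ => hA (σ i) i
  rcases Int.units_eq_one_or (Equiv.Perm.sign σ) with h | h
  · rw [h]; simpa using hprod
  · rw [h]; simpa using memLocalRing_neg hprod

theorem entR_adjugate (hM : M.IsPrime) {A : Matrix n n ℂ} (hA : EntR M A) :
    EntR M A.adjugate := by
  intro i j
  rw [Matrix.adjugate_apply]
  apply memLocalRing_det hM
  intro a b
  rw [Matrix.updateRow_apply]
  split_ifs with h
  · by_cases hb : b = i
    · subst hb
      simpa using memLocalRing_one hM
    · simpa [Pi.single_apply, hb] using memLocalRing_zero hM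
  · exact hA a b

/-- A matrix congruent to `1` modulo the local ideal has an inverse with local-integer entries. -/
theorem entR_inv_of_entI_sub_one (hM : M.IsPrime) {A : Matrix n n ℂ} (hA : EntI M (A - 1)) :
    EntR M A⁻¹ := by
  have hAR : EntR M A := by
    have : A = (A - 1) + 1 := by simp
    rw [this]
    exact EntR.add hM hA.entR (entR_one hM)
  rw [Matrix.inv_def, Ring.inverse_eq_inv']
  refine EntR.smul hM (memLocalRing_inv hM (memLocalRing_det hM hAR) ?_) (entR_adjugate hM hAR)
  intro h
  have h1 := memLocalIdeal_det_sub_one hM hA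
  have h2 := memLocalIdeal_sub hM h h1
  rw [sub_sub_cancel] at h2
  exact not_memLocalIdeal_one hM h2

theorem mul_inv_of_entI_sub_one (hM : M.IsPrime) {A : Matrix n n ℂ} (hA : EntI M (A - 1)) :
    A * A⁻¹ = 1 := by
  apply Matrix.mul_nonsing_inv
  exact isUnit_iff_ne_zero.mpr (det_ne_zero_of_entI_sub_one hM hA)

/-- Sum over a type against sum over the subtype off `C`, for a function vanishing on `C`. -/
theorem sum_eq_sum_subtype (C : n → Prop) [DecidablePred C] (f : n → ℂ)
    (hf : ∀ a, C a → f a = 0) : ∑ a : n, f a = ∑ a : {a : n // ¬ C a}, f a := by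
  rw [← Finset.sum_subtype (Finset.univ.filter (fun a => ¬ C a)) (by simp) f]
  symm
  apply Finset.sum_filter_of_ne
  intro a _ ha hCa
  exact ha (hf a hCa)

/-- **Key lemma with a bad set.** -/
theorem trace_pmat_mul_idempotent_eq_zero_of_bad {p : ℕ} (hM : IsPModular p M)
    (π : Equiv.Perm n) (C : n → Prop) [DecidablePred C] (hC : ∀ a, C (π a) ↔ C a)
    (hπ : ∀ (j : ℕ) (a : n), ¬ C a → (π ^ j) a = a → p ∣ j)
    {F : Matrix n n ℂ} (hF : F * F = F) (hFR : EntR M F)
    (hc : pmat π * F = F * pmat π)
    (hbad : ∀ a b, C a → C b → MemLocalIdeal M (F a b)) : (pmat π * F).trace = 0 := by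
  have hMp : M.IsPrime := hM.2.1.isPrime
  set P : Matrix n n ℂ := pmat π with hP
  set E : Matrix n n ℂ := Matrix.diagonal (fun a => if C a then (1 : ℂ) else 0) with hE
  set N : Matrix n n ℂ := Matrix.diagonal (fun a => if C a then (0 : ℂ) else 1) with hN
  have hNE : N = 1 - E := by
    ext a b
    rw [hN, hE, Matrix.sub_apply, Matrix.diagonal_apply, Matrix.diagonal_apply]
    by_cases hab : a = b
    · subst hab
      by_cases h : C a <;> simp [h]
    · simp [hab]
  have hNN : N * N = N := by
    rw [hN, Matrix.diagonal_mul_diagonal]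
    congr 1
    funext a
    by_cases h : C a <;> simp [h]
  have hER : EntR M E := by
    intro a b
    rw [hE, Matrix.diagonal_apply]
    by_cases hab : a = b
    · rw [if_pos hab]
      by_cases h : C a
      · rw [if_pos h]; exact memLocalRing_one hMp
      · rw [if_neg h]; exact memLocalRing_zero hMp
    · rw [if_neg hab]; exact memLocalRing_zero hMp
  have hNR : EntR M N := by
    rw [hNE]
    exact EntR.sub hMp (entR_one hMp) hER
  have hPE : P * E = E * P := by
    ext i j
    rw [hP, pmat_mul_apply, mul_pmat_apply, hE, Matrix.diagonal_apply, Matrix.diagonal_apply]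
    by_cases hij : i = π j
    · subst hij
      rw [Equiv.symm_apply_apply, if_pos rfl, if_pos rfl]
      by_cases h : C j
      · rw [if_pos h, if_pos ((hC j).mpr h)]
      · rw [if_neg h, if_neg (fun h' => h ((hC j).mp h'))]
    · rw [if_neg hij, if_neg]
      intro h
      apply hij
      rw [← h, Equiv.apply_symm_apply]
  have hPN : P * N = N * P := by
    rw [hNE, mul_sub, sub_mul, mul_one, one_mul, hPE]
  -- E F E has entries in the ideal
  have hEFE : EntI M (E * F * E) := by
    intro a b
    rw [hE, Matrix.mul_diagonal, Matrix.diagonal_mul]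
    by_cases ha : C a
    · by_cases hb : C b
      · rw [if_pos ha, if_pos hb, one_mul, mul_one]
        exact hbad a b ha hb
      · rw [if_neg hb, mul_zero]; exact memLocalIdeal_zero hMp
    · rw [if_neg ha, zero_mul, zero_mul]; exact memLocalIdeal_zero hMp
  set Z : Matrix n n ℂ := F * E * F with hZ
  have hZR : EntR M Z := (hFR.mul hMp hER).mul hMp hFR
  have hZZ : EntI M (Z * Z) := by
    have : Z * Z = F * (E * F * E) * F := by
      rw [hZ]
      calc F * E * F * (F * E * F) = F * E * (F * F) * E * F := by simp only [mul_assoc]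
        _ = F * (E * F * E) * F := by rw [hF]; simp only [mul_assoc]
    rw [this]
    exact (EntI.mul_left hMp hFR hEFE).mul_right hMp hFR
  set W : Matrix n n ℂ := 1 - Z with hW
  set V : Matrix n n ℂ := W * (1 + Z) with hV
  have hVI : EntI M (V - 1) := by
    have : V - 1 = -(Z * Z) := by
      rw [hV, hW]
      noncomm_ring
    rw [this]
    intro a b
    rw [Matrix.neg_apply]
    exact memLocalIdeal_neg (hZZ a b)
  set Wi : Matrix n n ℂ := (1 + Z) * V⁻¹ with hWi
  have hWiR : EntR M Wi :=
    ((entR_one hMp).add hMp hZR).mul hMp (entR_inv_of_entI_sub_one hMp hVI)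
  have hWWi : W * Wi = 1 := by
    rw [hWi, ← mul_assoc, ← hV]
    exact mul_inv_of_entI_sub_one hMp hVI
  have hWiW : Wi * W = 1 := mul_eq_one_comm.mp hWWi
  -- commutation
  have hFW : F * W = W * F := by
    rw [hW, hZ, mul_sub, sub_mul, mul_one, one_mul]
    congr 1
    calc F * (F * E * F) = (F * F) * E * F := by simp only [mul_assoc]
      _ = F * E * F := by rw [hF]
      _ = F * E * (F * F) := by rw [hF]
      _ = F * E * F * F := by simp only [mul_assoc]
  have hPZ : P * Z = Z * P := by
    rw [hZ]
    calc P * (F * E * F) = (P * F) * E * F := by simp only [mul_assoc]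
      _ = F * (P * E) * F := by rw [hc]; simp only [mul_assoc]
      _ = F * E * (P * F) := by rw [hPE]; simp only [mul_assoc]
      _ = F * E * F * P := by rw [hc]; simp only [mul_assoc]
  have hPW : P * W = W * P := by
    rw [hW, mul_sub, sub_mul, mul_one, one_mul, hPZ]
  have hinvcomm : ∀ X : Matrix n n ℂ, X * W = W * X → X * Wi = Wi * X := by
    intro X hX
    calc X * Wi = (Wi * W) * X * Wi := by rw [hWiW, one_mul]
      _ = Wi * (W * X) * Wi := by simp only [mul_assoc]
      _ = Wi * (X * W) * Wi := by rw [hX]
      _ = Wi * X * (W * Wi) := by simp only [mul_assoc]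
      _ = Wi * X := by rw [hWWi, mul_one]
  have hFWi : F * Wi = Wi * F := hinvcomm F hFW
  have hPWi : P * Wi = Wi * P := hinvcomm P hPW
  have hFNF : F * N * F = W * F := by
    rw [hNE, hW, hZ, mul_sub, sub_mul, sub_mul, mul_one, one_mul, hF]
    congr 1
    calc F * E * F = F * E * (F * F) := by rw [hF]
      _ = F * E * F * F := by simp only [mul_assoc]
  -- the idempotent supported off C
  set F2 : Matrix n n ℂ := N * F * Wi * F * N with hF2
  have hF2idem : F2 * F2 = F2 := by
    rw [hF2]
    calc N * F * Wi * F * N * (N * F * Wi * F * N)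
        = N * F * Wi * (F * (N * N) * F) * Wi * F * N := by simp only [mul_assoc]
      _ = N * F * Wi * (W * F) * Wi * F * N := by rw [hNN, hFNF]
      _ = N * F * (Wi * W) * F * Wi * F * N := by simp only [mul_assoc]
      _ = N * (F * F) * Wi * F * N := by rw [hWiW, mul_one]; simp only [mul_assoc]
      _ = N * F * Wi * F * N := by rw [hF]
  have hF2R : EntR M F2 :=
    ((((hNR.mul hMp hFR).mul hMp hWiR).mul hMp hFR).mul hMp hNR)
  have hF2c : P * F2 = F2 * P := by
    rw [hF2]
    calc P * (N * F * Wi * F * N) = (P * N) * F * Wi * F * N := by simp only [mul_assoc]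
      _ = N * (P * F) * Wi * F * N := by rw [hPN]; simp only [mul_assoc]
      _ = N * F * (P * Wi) * F * N := by rw [hc]; simp only [mul_assoc]
      _ = N * F * Wi * (P * F) * N := by rw [hPWi]; simp only [mul_assoc]
      _ = N * F * Wi * F * (P * N) := by rw [hc]; simp only [mul_assoc]
      _ = N * F * Wi * F * N * P := by rw [hPN]; simp only [mul_assoc]
  have hF2tr : (P * F2).trace = (P * F).trace := by
    rw [hF2]
    calc (P * (N * F * Wi * F * N)).trace = ((P * N * F * Wi * F) * N).trace := by
          simp only [mul_assoc]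
      _ = (N * (P * N * F * Wi * F)).trace := Matrix.trace_mul_comm _ _
      _ = ((N * P * N * F * Wi) * F).trace := by simp only [mul_assoc]
      _ = (F * (N * P * N * F * Wi)).trace := Matrix.trace_mul_comm _ _
      _ = (F * (P * (N * N)) * F * Wi).trace := by rw [← hPN]; simp only [mul_assoc]
      _ = ((F * P) * N * F * Wi).trace := by rw [hNN]; simp only [mul_assoc]
      _ = (P * (F * N * F) * Wi).trace := by rw [← hc]; simp only [mul_assoc]
      _ = (P * (F * W) * Wi).trace := by rw [hFNF, hFW]
      _ = (P * F * (W * Wi)).trace := by simp only [mul_assoc]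
      _ = (P * F).trace := by rw [hWWi, mul_one]
  have hF2left : ∀ a b, C a → F2 a b = 0 := by
    intro a b ha
    have : F2 = N * (F * Wi * F * N) := by rw [hF2]; simp only [mul_assoc]
    rw [this, hN, Matrix.diagonal_mul, if_pos ha, zero_mul]
  have hF2right : ∀ a b, C b → F2 a b = 0 := by
    intro a b hb
    rw [hF2, hN, Matrix.mul_diagonal, if_pos hb, mul_zero]
  -- restrict to the subtype off C
  rw [← hF2tr]
  set π' : Equiv.Perm {a : n // ¬ C a} :=
    π.subtypePerm (fun a => not_congr (hC a)) with hπ'
  set F3 : Matrix {a : n // ¬ C a} {a : n // ¬ C a} ℂ := fun a b => F2 a b with hF3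
  have hF3idem : F3 * F3 = F3 := by
    ext a b
    rw [Matrix.mul_apply]
    have h1 : F2 a b = ∑ k : n, F2 a k * F2 k b := by
      conv_lhs => rw [← hF2idem]
      rw [Matrix.mul_apply]
    show ∑ k : {a : n // ¬ C a}, F2 a k * F2 k b = F2 a b
    rw [h1]
    symm
    apply sum_eq_sum_subtype C (fun k => F2 a k * F2 k b)
    intro k hk
    rw [hF2right a k hk, zero_mul]
  have hF3R : EntR M F3 := fun a b => hF2R a b
  have hF3c : pmat π' * F3 = F3 * pmat π' := by
    ext a b
    rw [pmat_mul_apply, mul_pmat_apply]
    show F2 ((π'.symm a : {a : n // ¬ C a}) : n) b = F2 a ((π' b : {a : n // ¬ C a}) : n)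
    have h1 := congrFun (congrFun hF2c (a : n)) (b : n)
    rw [hP, pmat_mul_apply, mul_pmat_apply] at h1
    have h2 : ((π'.symm a : {a : n // ¬ C a}) : n) = π.symm a := rfl
    have h3 : ((π' b : {a : n // ¬ C a}) : n) = π b := rfl
    rw [h2, h3]
    exact h1
  have hcyc : ∀ (j : ℕ) (a : {a : n // ¬ C a}), (π' ^ j) a = a → p ∣ j := by
    intro j a h
    apply hπ j a a.2
    rw [hπ', Equiv.Perm.subtypePerm_pow] at h
    have := congrArg Subtype.val h
    simpa [Equiv.Perm.subtypePerm_apply] using this
  have h0 := trace_pmat_mul_idempotent_eq_zero hM π' hcyc hF3idem hF3R hF3c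
  rw [trace_pmat_mul] at h0
  rw [hP, trace_pmat_mul]
  rw [sum_eq_sum_subtype C (fun a => F2 a (π a)) (fun a ha => hF2left a _ ha)]
  exact h0

end Cfsg.Agent.Lib.Helper16_BadTrace
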