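import Cfsg.Agent.Lib.Helper78_CharFacts
import Cfsg.Agent.Lib.Helper78_PGroupSum

/-!
# The min-max theorem for defect classes (helper78)

Let `B` be a block and `f` a local-integral class function on which the central characters of `B`
do not vanish modulo the local ideal.  If `blockCoeff B h` is outside the local ideal and `S` is
a `p`-subgroup centralizing `h`, then `S` centralizes some `x` with `f x ≠ 0`
(`exists_centralized_of_blockCoeff`).  Applied to class indicator functions this gives both halves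
of the min-max theorem (`S0911`).
-/

set_option autoImplicit false

namespace Cfsg.Agent.Lib.Helper78_MinMax

open Cfsg Cfsg.Agent.Lib.Helper78_LocalRing Cfsg.Agent.Lib.Helper78_Osima
  Cfsg.Agent.Lib.Helper78_CharFacts Cfsg.Agent.Lib.Helper78_PGroupSum
  Cfsg.Agent.Lib.Helper78_CentralChar

universe u

variable {G : Type u} [Group G] {M : Ideal AlgInt} {p : ℕ}

/-- Key step of the min-max theorem. -/
theorem exists_centralized_of_blockCoeff [Fintype G] (hM : IsPModular p M)
    {B : Set (IrrCharacter G)} (hB : IsPBlock M B) {f : G → ℂ} (hf : IsClassFunction G f)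
    (hfR : ∀ g, MemLocalRing M (f g))
    (hu : ∀ χ ∈ B, ¬ MemLocalIdeal M (omega ((χ : IrrCharacter G) : G → ℂ) f))
    (h : G) (hh : ¬ MemLocalIdeal M (blockCoeff B h)) (S : Subgroup G) (hS : IsPGroup p S)
    (hSh : S ≤ Subgroup.centralizer ({h} : Set G)) :
    ∃ x : G, f x ≠ 0 ∧ S ≤ Subgroup.centralizer ({x} : Set G) := by
  classical
  have hMp := isPrime_of_isPModular hM
  obtain ⟨w, hw, hwR, hconv⟩ := exists_conv_eq_blockCoeff charFacts hMp hB hf hfR hu
  have hsum : blockCoeff B h = ∑ x : G, f x * w (x⁻¹ * h) := by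
    rw [← hconv, conv]
  rw [hsum] at hh
  have hinv : ∀ q ∈ S, ∀ x : G, (fun x => f x * w (x⁻¹ * h)) (q * x * q⁻¹) =
      (fun x => f x * w (x⁻¹ * h)) x := by
    intro q hq x
    have hqh : q * h = h * q := by
      have := hSh hq
      rw [Subgroup.mem_centralizer_iff] at this
      exact (this h (Set.mem_singleton h)).symm
    show f (q * x * q⁻¹) * w ((q * x * q⁻¹)⁻¹ * h) = f x * w (x⁻¹ * h)
    rw [hf x q]
    congr 1
    have h1 : (q * x * q⁻¹)⁻¹ * h = q * (x⁻¹ * h) * q⁻¹ := by
      have : q⁻¹ * h = h * q⁻¹ := by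
        calc q⁻¹ * h = q⁻¹ * (h * q) * q⁻¹ := by group
          _ = q⁻¹ * (q * h) * q⁻¹ := by rw [hqh]
          _ = h * q⁻¹ := by group
      calc (q * x * q⁻¹)⁻¹ * h = q * x⁻¹ * (q⁻¹ * h) := by group
        _ = q * x⁻¹ * (h * q⁻¹) := by rw [this]
        _ = q * (x⁻¹ * h) * q⁻¹ := by group
    rw [h1, hw _ q]
  have hR : ∀ x : G, MemLocalRing M ((fun x => f x * w (x⁻¹ * h)) x) := by
    intro x
    exact memLocalRing_mul hMp (hfR x) (hwR _)
  obtain ⟨x, hx, hfix⟩ := exists_conj_fixed_ne_zero S hS hM (fun x => f x * w (x⁻¹ * h))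
    hinv hR hh
  refine ⟨x, left_ne_zero_of_mul hx, ?_⟩
  intro q hq
  rw [Subgroup.mem_centralizer_iff]
  intro y hy
  rw [Set.mem_singleton_iff] at hy
  subst hy
  have := hfix q hq
  calc y * q = (q * y * q⁻¹) * q := by rw [this]
    _ = q * y := by group

/-- A `p`-subgroup of `H` lies in a conjugate (by an element of `H`) of any Sylow `p`-subgroup of
`H`; everything read in the ambient group. -/
theorem exists_conj_sylow_ge [Finite G] [Fact p.Prime] (H : Subgroup G) (D : Sylow p H)
    (T : Subgroup G) (hT : IsPGroup p T) (hTH : T ≤ H) :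
    ∃ c ∈ H, T ≤ ((D : Subgroup H).map H.subtype).map (MulAut.conj c).toMonoidHom := by
  have hT' : IsPGroup p (T.subgroupOf H) := by
    refine hT.comap_of_injective (H.subtype) ?_ |>.to_le ?_
    · exact H.subtype_injective
    · intro x hx
      exact hx
  obtain ⟨Q, hQ⟩ := hT'.exists_le_sylow
  obtain ⟨c, hc⟩ := MulAction.exists_smul_eq H D Q
  refine ⟨c, c.2, ?_⟩
  intro t ht
  have htH : t ∈ H := hTH ht
  have h1 : (⟨t, htH⟩ : H) ∈ (Q : Subgroup H) := hQ (by
    rw [Subgroup.mem_subgroupOf]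
    exact ht)
  rw [← hc, Sylow.coe_subgroup_smul, Subgroup.mem_pointwise_smul_iff_inv_smul_mem] at h1
  rw [Subgroup.mem_map]
  refine ⟨((c⁻¹ : H) : G) * t * (c : G), ?_, ?_⟩
  · rw [Subgroup.mem_map]
    refine ⟨(MulAut.conj c)⁻¹ • (⟨t, htH⟩ : H), h1, ?_⟩
    simp [MulAut.smul_def, MulAut.inv_apply, MulAut.conj_symm_apply]
  · simp only [MulEquiv.coe_toMonoidHom, MulAut.conj_apply, Subgroup.coe_inv]
    group

theorem classIndicator_ne_zero_iff [Fintype G] (g x : G) :
    classIndicator g x ≠ 0 ↔ IsConj g x := by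
  classical
  unfold classIndicator
  rw [Set.indicator_apply]
  simp only [Set.mem_ofPred_eq]
  split_ifs with h
  · exact ⟨fun _ => h, fun _ => one_ne_zero⟩
  · exact ⟨fun h0 => absurd rfl h0, fun h1 => absurd h1 h⟩

/-- The image in `G` of a Sylow subgroup of a subgroup is a `p`-group. -/
theorem isPGroup_map_sylow (H : Subgroup G) (D : Sylow p H) :
    IsPGroup p ((D : Subgroup H).map H.subtype) :=
  D.isPGroup'.map H.subtype

theorem map_sylow_le (H : Subgroup G) (D : Sylow p H) :
    (D : Subgroup H).map H.subtype ≤ H := by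
  rintro _ ⟨x, -, rfl⟩
  exact x.2

theorem conj_mem_centralizer_iff (t g s : G) :
    t⁻¹ * s * t ∈ Subgroup.centralizer ({g} : Set G) ↔
      s ∈ Subgroup.centralizer ({t * g * t⁻¹} : Set G) := by
  simp only [Subgroup.mem_centralizer_iff, Set.mem_singleton_iff, forall_eq]
  constructor
  · intro h
    calc t * g * t⁻¹ * s = t * (g * (t⁻¹ * s * t)) * t⁻¹ := by group
      _ = t * ((t⁻¹ * s * t) * g) * t⁻¹ := by rw [h]
      _ = s * (t * g * t⁻¹) := by group
  · intro h
    calc g * (t⁻¹ * s * t) = t⁻¹ * ((t * g * t⁻¹) * s) * t := by group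
      _ = t⁻¹ * (s * (t * g * t⁻¹)) * t := by rw [h]
      _ = t⁻¹ * s * t * g := by group

/-- **Min-max theorem, first half.** If `g` represents a defect class of `B`, `D'` is (the image in
`G` of) a Sylow `p`-subgroup of `C_G(g)`, and the idempotent coefficient of `B` at `h` is outside
the local ideal, then every `p`-subgroup `S` of `C_G(h)` lies in a conjugate of `D'`. -/
theorem le_conj_of_blockCoeff_not_mem [Finite G] [Fact p.Prime] (hM : IsPModular p M)
    {B : Set (IrrCharacter G)} (hB : IsPBlock M B) {g : G} (hg : IsDefectClass M B g)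
    (D : Sylow p (Subgroup.centralizer ({g} : Set G))) (h : G)
    (hh : ¬ MemLocalIdeal M (blockCoeff B h)) (S : Subgroup G) (hS : IsPGroup p S)
    (hSh : S ≤ Subgroup.centralizer ({h} : Set G)) :
    ∃ x : G, S ≤ ((D : Subgroup (Subgroup.centralizer ({g} : Set G))).map
      (Subgroup.centralizer ({g} : Set G)).subtype).map (MulAut.conj x).toMonoidHom := by
  classical
  have := Fintype.ofFinite G
  have hMp := isPrime_of_isPModular hM
  obtain ⟨x, hx, hSx⟩ := exists_centralized_of_blockCoeff hM hB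
    (classIndicator_isClassFunction g) (memLocalRing_classIndicator hMp g) (fun χ hχ => by
      rw [omega_classIndicator (isIrrCharacter_isClassFunction χ.2)]
      exact hg.2.2 χ hχ) h hh S hS hSh
  rw [classIndicator_ne_zero_iff] at hx
  obtain ⟨t, ht⟩ := isConj_iff.mp hx
  -- `T = t⁻¹ S t ≤ C_G(g)`
  let T : Subgroup G := S.map (MulAut.conj t⁻¹).toMonoidHom
  have hT : IsPGroup p T := hS.map _
  have hTg : T ≤ Subgroup.centralizer ({g} : Set G) := by
    rintro _ ⟨s, hs, rfl⟩
    simp only [MulEquiv.coe_toMonoidHom, MulAut.conj_apply, inv_inv]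
    rw [conj_mem_centralizer_iff, ht]
    exact hSx hs
  obtain ⟨c, -, hc⟩ := exists_conj_sylow_ge (Subgroup.centralizer ({g} : Set G)) D T hT hTg
  refine ⟨t * c, ?_⟩
  intro s hs
  have h1 : t⁻¹ * s * t ∈ T := ⟨s, hs, by simp⟩
  obtain ⟨d, hd, hd'⟩ := hc h1
  refine ⟨d, hd, ?_⟩
  simp only [MulEquiv.coe_toMonoidHom, MulAut.conj_apply] at hd' ⊢
  calc t * c * d * (t * c)⁻¹ = t * (c * d * c⁻¹) * t⁻¹ := by group
    _ = t * (t⁻¹ * s * t) * t⁻¹ := by rw [hd']
    _ = s := by group

/-- **Min-max theorem, second half.** If `g` represents a defect class of `B`, `D'` is (the image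
in `G` of) a Sylow `p`-subgroup of `C_G(g)`, and the central character of some member of `B` at `h`
is outside the local ideal, then some conjugate of `D'` centralizes `h`. -/
theorem conj_le_centralizer_of_centralChar_not_mem [Finite G] [Fact p.Prime]
    (hM : IsPModular p M) {B : Set (IrrCharacter G)} (hB : IsPBlock M B) {g : G}
    (hg : IsDefectClass M B g) (D : Sylow p (Subgroup.centralizer ({g} : Set G))) (h : G)
    (hh : ∃ χ ∈ B, ¬ MemLocalIdeal M (centralChar ((χ : IrrCharacter G) : G → ℂ) h)) :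
    ∃ x : G, ((D : Subgroup (Subgroup.centralizer ({g} : Set G))).map
      (Subgroup.centralizer ({g} : Set G)).subtype).map (MulAut.conj x).toMonoidHom ≤
        Subgroup.centralizer ({h} : Set G) := by
  classical
  have := Fintype.ofFinite G
  have hMp := isPrime_of_isPModular hM
  obtain ⟨χ₀, hχ₀, hχ₀h⟩ := hh
  have hall : ∀ χ ∈ B, ¬ MemLocalIdeal M (centralChar ((χ : IrrCharacter G) : G → ℂ) h) := by
    intro χ hχ hI
    have hsb := isPBlock_sameBlock hMp hB hχ₀ hχ
    have := memLocalIdeal_add hMp (hsb h) hI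
    rw [sub_add_cancel] at this
    exact hχ₀h this
  set D' := (D : Subgroup (Subgroup.centralizer ({g} : Set G))).map
      (Subgroup.centralizer ({g} : Set G)).subtype with hD'
  obtain ⟨y, hy, hDy⟩ := exists_centralized_of_blockCoeff hM hB
    (classIndicator_isClassFunction h) (memLocalRing_classIndicator hMp h) (fun χ hχ => by
      rw [omega_classIndicator (isIrrCharacter_isClassFunction χ.2)]
      exact hall χ hχ) g hg.2.1 D' (isPGroup_map_sylow _ D) (map_sylow_le _ D)
  rw [classIndicator_ne_zero_iff] at hy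
  obtain ⟨t, ht⟩ := isConj_iff.mp hy
  refine ⟨t⁻¹, ?_⟩
  rintro _ ⟨d, hd, rfl⟩
  simp only [MulEquiv.coe_toMonoidHom, MulAut.conj_apply, inv_inv]
  rw [conj_mem_centralizer_iff, ht]
  exact hDy hd

end Cfsg.Agent.Lib.Helper78_MinMax
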