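import Mathlib
import Cfsg.Agent.Lib.Helper78_MinMax
import Cfsg.Agent.Lib.Helper78_Brauer

/-!
# Defect classes and defect groups: basic manipulations (helper78)

* `isDefectClass_conj`, `isDefectClass_of_isConj`: defect classes are conjugation invariant;
* `exists_isDefectGroup_ge`: a `p`-subgroup of the centralizer of a defect-class element lies in
  a defect group;
* `exists_class_of_inducedCentralChar_not_mem`: if the induced central character of `ξ` at `g` is
  outside the local ideal, some `l ∈ H` conjugate to `g` has `ω_ξ(l)` outside the local ideal;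
* `exists_isDefectGroup_ge_of_induced` (S0917): defect groups of `b` lie in defect groups of `b^G`.
-/

set_option autoImplicit false

namespace Cfsg.Agent.Lib.Helper78_Defect

open Cfsg Cfsg.Agent.Lib.Helper78_LocalRing Cfsg.Agent.Lib.Helper78_CentralChar
  Cfsg.Agent.Lib.Helper78_Osima Cfsg.Agent.Lib.Helper78_MinMax Cfsg.Agent.Lib.Helper78_Brauer
  Cfsg.Agent.Lib.Helper78_CharFacts

universe u
variable {G : Type u} [Group G] {M : Ideal AlgInt} {p : ℕ}

/-- The centralizer of a conjugate is the conjugate of the centralizer. -/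
theorem centralizer_conj (g h : G) :
    Subgroup.centralizer ({h * g * h⁻¹} : Set G) =
      (Subgroup.centralizer ({g} : Set G)).map (MulAut.conj h).toMonoidHom := by
  ext x
  rw [Subgroup.mem_centralizer_iff, Subgroup.mem_map]
  constructor
  · intro hx
    refine ⟨h⁻¹ * x * h, ?_, by simp [mul_assoc]⟩
    rw [Subgroup.mem_centralizer_iff]
    intro y hy
    rw [Set.mem_singleton_iff] at hy
    subst hy
    have := hx (h * y * h⁻¹) (Set.mem_singleton _)
    calc y * (h⁻¹ * x * h) = h⁻¹ * (h * y * h⁻¹ * x) * h := by group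
      _ = h⁻¹ * (x * (h * y * h⁻¹)) * h := by rw [this]
      _ = h⁻¹ * x * h * y := by group
  · rintro ⟨c, hc, rfl⟩ y hy
    rw [Set.mem_singleton_iff] at hy
    subst hy
    have := (Subgroup.mem_centralizer_iff.mp hc) g (Set.mem_singleton _)
    simp only [MulEquiv.coe_toMonoidHom, MulAut.conj_apply]
    calc h * g * h⁻¹ * (h * c * h⁻¹) = h * (g * c) * h⁻¹ := by group
      _ = h * (c * g) * h⁻¹ := by rw [this]
      _ = h * c * h⁻¹ * (h * g * h⁻¹) := by group

theorem index_centralizer_conj (g h : G) :
    (Subgroup.centralizer ({h * g * h⁻¹} : Set G)).index =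
      (Subgroup.centralizer ({g} : Set G)).index := by
  rw [centralizer_conj]
  exact Subgroup.index_map_equiv _ (MulAut.conj h)

theorem centralChar_conj {χ : G → ℂ} (hχ : IsClassFunction G χ) (g h : G) :
    centralChar χ (h * g * h⁻¹) = centralChar χ g := by
  unfold centralChar
  rw [index_centralizer_conj, hχ g h]

theorem blockCoeff_conj (B : Set (IrrCharacter G)) (g h : G) :
    blockCoeff B (h * g * h⁻¹) = blockCoeff B g := by
  unfold blockCoeff
  congr 1
  refine finsum_congr fun χ => ?_
  refine finsum_congr fun _ => ?_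
  rw [isIrrCharacter_isClassFunction χ.2 g h]

/-- Defect classes are invariant under conjugation. -/
theorem isDefectClass_conj {B : Set (IrrCharacter G)} {g : G} (hg : IsDefectClass M B g) (h : G) :
    IsDefectClass M B (h * g * h⁻¹) := by
  refine ⟨?_, ?_, ?_⟩
  · rw [blockCoeff_conj]; exact hg.1
  · rw [blockCoeff_conj]; exact hg.2.1
  · intro χ hχ
    rw [centralChar_conj (isIrrCharacter_isClassFunction χ.2)]
    exact hg.2.2 χ hχ

theorem isDefectClass_of_isConj {B : Set (IrrCharacter G)} {g k : G} (hg : IsDefectClass M B g)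
    (hgk : IsConj g k) : IsDefectClass M B k := by
  obtain ⟨c, hc⟩ := isConj_iff.1 hgk
  rw [← hc]
  exact isDefectClass_conj hg c

/-- A `p`-subgroup of the centralizer of an element of a defect class lies in a defect group. -/
theorem exists_isDefectGroup_ge [Finite G] [Fact p.Prime] {B : Set (IrrCharacter G)} {g : G}
    (hg : IsDefectClass M B g) (T : Subgroup G) (hT : IsPGroup p T)
    (hTg : T ≤ Subgroup.centralizer ({g} : Set G)) :
    ∃ E : Subgroup G, IsDefectGroup p M B E ∧ T ≤ E := by
  have hT' : IsPGroup p (T.subgroupOf (Subgroup.centralizer ({g} : Set G))) := hT.comap_subtype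
  obtain ⟨Q, hQ⟩ := hT'.exists_le_sylow
  refine ⟨(Q : Subgroup (Subgroup.centralizer ({g} : Set G))).map
    (Subgroup.centralizer ({g} : Set G)).subtype, ⟨g, hg, Q, rfl⟩, ?_⟩
  have := Subgroup.map_mono (f := (Subgroup.centralizer ({g} : Set G)).subtype) hQ
  rwa [Subgroup.map_subgroupOf_eq_of_le hTg] at this

section Induced
variable [Finite G]

/-- The induced central character as a sum over the classes of `H`. -/
theorem inducedCentralChar_eq_sum (H : Subgroup G) [Fintype (ConjClasses H)]
    {ξ : H → ℂ} (hξ : IsClassFunction H ξ) (g : G)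
    [DecidablePred fun c : ConjClasses H => IsConj g (c.out : G)] :
    inducedCentralChar H ξ g =
      ∑ c : ConjClasses H, if IsConj g (c.out : G) then centralChar ξ c.out else 0 := by
  classical
  have := Fintype.ofFinite G
  have := Fintype.ofFinite H
  let F : H → ℂ := fun h => if IsConj g (h : G) then ξ h / ξ 1 else 0
  have h1 : inducedCentralChar H ξ g = ∑ h : H, F h := by
    unfold inducedCentralChar
    rw [finsum_mem_def, finsum_eq_sum_of_fintype]
    refine Finset.sum_congr rfl fun h _ => ?_
    simp only [Set.indicator_apply, Set.mem_ofPred_eq, F]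
  have hFc : IsClassFunction H F := by
    intro h x
    simp only [F]
    have h1 : IsConj g ((x * h * x⁻¹ : H) : G) ↔ IsConj g (h : G) := by
      push_cast
      exact isConj_conj_iff g (h : G) (x : G)
    simp only [h1, hξ h x]
  rw [h1, sum_eq_sum_conjClasses F hFc]
  refine Finset.sum_congr rfl fun c _ => ?_
  simp only [F]
  split_ifs
  · unfold centralChar
    ring
  · rw [mul_zero]

/-- If the induced central character is a unit at `g`, some `H`-class inside the class of `g`
has a unit central character. -/
theorem exists_class_of_inducedCentralChar_not_mem (hM : M.IsPrime) (H : Subgroup G)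
    {ξ : H → ℂ} (hξ : IsClassFunction H ξ) (g : G)
    (h : ¬ MemLocalIdeal M (inducedCentralChar H ξ g)) :
    ∃ l : H, IsConj g (l : G) ∧ ¬ MemLocalIdeal M (centralChar ξ l) := by
  classical
  have := Fintype.ofFinite (ConjClasses H)
  by_contra hcon
  push Not at hcon
  apply h
  rw [inducedCentralChar_eq_sum H hξ g]
  refine memLocalIdeal_sum hM _ _ fun c _ => ?_
  split_ifs with hc
  · exact hcon c.out hc
  · exact memLocalIdeal_zero hM

/-- **S0917**: if `b` induces `B`, every defect group of `b` lies in a defect group of `B`. -/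
theorem exists_isDefectGroup_ge_of_induced [Fact p.Prime] (hM : IsPModular p M) (H : Subgroup G)
    {b : Set (IrrCharacter H)} (hb : IsPBlock M b) {B : Set (IrrCharacter G)}
    (hB : IsPBlock M B) (hind : IsInducedBlock M H b B) (D : Subgroup H)
    (hD : IsDefectGroup p M b D) :
    ∃ E : Subgroup G, IsDefectGroup p M B E ∧ D.map H.subtype ≤ E := by
  classical
  have hMp := isPrime_of_isPModular hM
  obtain ⟨h₀, hh₀, P₀, rfl⟩ := hD
  obtain ⟨k, hk⟩ := exists_isDefectClass' (G := G) hMp hB
  obtain ⟨ξ, hξ⟩ := isPBlock_nonempty hMp hb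
  obtain ⟨χ, hχ⟩ := isPBlock_nonempty hMp hB
  have hξc := isIrrCharacter_isClassFunction ξ.2
  -- the induced central character of `ξ` at `k` is a unit
  have h1 : ¬ MemLocalIdeal M (inducedCentralChar H (ξ : H → ℂ) k) := by
    intro h
    apply hk.2.2 χ hχ
    have h2 := memLocalIdeal_sub hMp h (hind.2.2 ξ hξ χ hχ k)
    rwa [sub_sub_cancel] at h2
  obtain ⟨l, hkl, hl⟩ := exists_class_of_inducedCentralChar_not_mem hMp H hξc k h1
  -- min-max in `H`
  obtain ⟨x, hx⟩ := conj_le_centralizer_of_centralChar_not_mem hM hb hh₀ P₀ l ⟨ξ, hξ, hl⟩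
  -- `D ≤ C_H(x⁻¹ l x)`
  set l' : H := x⁻¹ * l * x with hl'
  have hDl' : (P₀ : Subgroup (Subgroup.centralizer ({h₀} : Set H))).map
      (Subgroup.centralizer ({h₀} : Set H)).subtype ≤ Subgroup.centralizer ({l'} : Set H) := by
    intro d hd
    have h3 : x * d * x⁻¹ ∈ Subgroup.centralizer ({l} : Set H) := hx ⟨d, hd, rfl⟩
    rw [Subgroup.mem_centralizer_iff] at h3 ⊢
    intro y hy
    rw [Set.mem_singleton_iff] at hy
    subst hy
    have h4 := h3 l rfl
    calc l' * d = x⁻¹ * (l * (x * d * x⁻¹)) * x := by rw [hl']; group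
      _ = x⁻¹ * ((x * d * x⁻¹) * l) * x := by rw [h4]
      _ = d * l' := by rw [hl']; group
  have hkl' : IsConj k (l' : G) := by
    refine hkl.trans (isConj_iff.2 ⟨((x⁻¹ : H) : G), ?_⟩)
    rw [hl']
    push_cast
    group
  have hk' : IsDefectClass M B (l' : G) := isDefectClass_of_isConj hk hkl'
  refine exists_isDefectGroup_ge hk' _ ?_ ?_
  · exact ((P₀.isPGroup'.map _).map _)
  · rintro _ ⟨d, hd, rfl⟩
    have h5 := hDl' hd
    rw [Subgroup.mem_centralizer_iff] at h5 ⊢
    intro y hy
    rw [Set.mem_singleton_iff] at hy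
    subst hy
    have h6 := h5 l' rfl
    exact congrArg Subtype.val h6

end Induced

end Cfsg.Agent.Lib.Helper78_Defect
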