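import Mathlib
import Cfsg.Prelude.Def_Blocks
import Cfsg.Agent.Lib.Helper78_LocalRing
import Cfsg.Agent.Lib.Helper78_CharFacts
import Cfsg.Agent.Lib.Helper78_MinMax
import Cfsg.Agent.Lib.Helper78_Defect
import Cfsg.Agent.Lib.Helper77_MatrixLocal
import Cfsg.Agent.Lib.Helper77_PermTrace
import Cfsg.Agent.Lib.Helper77_WeakOrth
import Cfsg.Agent.Lib.Helper80_CharBasic
import Cfsg.Agent.Lib.Helper16_BlockOrth
import Cfsg.Agent.Lib.Helper16_BadTrace

/-!
# Vanishing of block characters off the sections of the defect groups (helper16)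

* `orthogonality_of_bad` : for a set `S` of irreducible characters whose idempotent has
  local-integer coefficients, if the idempotent coefficients on `C_G(x)` all lie in the local ideal
  (`x` the `p`-part of `g`) then `∑_{χ∈S} χ g * conj (χ h) = 0` for all `h`.
* `irr_eq_zero_of_bad` : then every `χ ∈ S` vanishes at `g`.
* `irr_eq_zero_of_not_mem_defectGroup` : a character of a block vanishes at `g` when the `p`-part
  of `g` lies in no defect group of the block.
-/

set_option autoImplicit false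
set_option linter.unusedSectionVars false

namespace Cfsg.Agent.Lib.Helper16_Vanish

open Cfsg Cfsg.Agent.Lib.Helper78_LocalRing Cfsg.Agent.Lib.Helper77_MatrixLocal
  Cfsg.Agent.Lib.Helper77_PermTrace Cfsg.Agent.Lib.Helper78_Osima
  Cfsg.Agent.Lib.Helper78_CharFacts Cfsg.Agent.Lib.Helper78_CentralChar
  Cfsg.Agent.Lib.Helper77_WeakOrth Cfsg.Agent.Lib.Helper16_BlockOrth
  Cfsg.Agent.Lib.Helper16_BadTrace Matrix

open scoped ComplexConjugate

universe u

variable {G : Type u} [Group G]

/-- A fixed point of a power prime to `p` of `k ↦ g k h⁻¹` conjugates the `p`-part of `g` to the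
`p`-part of `h`. -/
theorem twoSided_fixed_imp {p : ℕ} (hp : p.Prime) {g h x y : G}
    (hg : IsPPart p g x) (hh : IsPPart p h y)
    (j : ℕ) (a : G) (hfix : ((twoSided g h) ^ j) a = a) (hpj : ¬ p ∣ j) : x * a = a * y := by
  obtain ⟨x', hx1, hx2, ⟨k1, hk1⟩, hx4⟩ := hg
  obtain ⟨y', hy1, hy2, ⟨k2, hk2⟩, hy4⟩ := hh
  rw [twoSided_pow_apply] at hfix
  have h1 : h ^ j = a⁻¹ * g ^ j * a := by
    have : g ^ j * a = a * h ^ j := by
      calc g ^ j * a = g ^ j * a * (h ^ j)⁻¹ * h ^ j := by group
        _ = a * h ^ j := by rw [hfix]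
    rw [mul_assoc, this]; group
  set n := orderOf x' * orderOf y' with hn
  set K := k1 + k2 + 1 with hK
  have hcop : Nat.Coprime (j * n) (p ^ K) := by
    apply Nat.Coprime.pow_right
    rw [Nat.coprime_comm]
    apply (Nat.Prime.coprime_iff_not_dvd hp).mpr
    intro hd
    rcases hp.dvd_mul.mp hd with h | h
    · exact hpj h
    · rcases hp.dvd_mul.mp h with h | h
      · exact hx4 h
      · exact hy4 h
  have hlt : 1 < p ^ K := Nat.one_lt_pow (by omega) hp.one_lt
  obtain ⟨m, -, hm⟩ := Nat.exists_mul_mod_eq_one_of_coprime hcop hlt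
  have hE : j * n * m = 1 + p ^ K * (j * n * m / p ^ K) := by
    have := Nat.div_add_mod (j * n * m) (p ^ K)
    rw [hm] at this
    omega
  have hxE : g ^ (j * n * m) = x := by
    refine pow_eq_of_ppart hx1 hx2 (q := p ^ (k2 + 1) * (j * n * m / p ^ K)) ?_ ?_
    · exact Dvd.dvd.mul_right (Dvd.dvd.mul_left (Dvd.intro _ rfl) j) m
    · have hpp : p ^ k1 * (p ^ (k2 + 1) * (j * n * m / p ^ K)) =
          p ^ K * (j * n * m / p ^ K) := by
        rw [← mul_assoc, ← pow_add, show k1 + (k2 + 1) = K by omega]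
      rw [hk1, hpp]
      exact hE
  have hyE : h ^ (j * n * m) = y := by
    refine pow_eq_of_ppart hy1 hy2 (q := p ^ (k1 + 1) * (j * n * m / p ^ K)) ?_ ?_
    · exact Dvd.dvd.mul_right (Dvd.dvd.mul_left (Dvd.intro_left _ rfl) j) m
    · have hpp : p ^ k2 * (p ^ (k1 + 1) * (j * n * m / p ^ K)) =
          p ^ K * (j * n * m / p ^ K) := by
        rw [← mul_assoc, ← pow_add, show k2 + (k1 + 1) = K by omega]
      rw [hk2, hpp]
      exact hE
  have h2 : y = a⁻¹ * x * a := by
    rw [← hyE, ← hxE, mul_assoc j, pow_mul, h1, pow_mul (g)]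
    have := conj_pow (a := a⁻¹) (b := g ^ j) (i := n * m)
    simpa using this
  rw [h2]
  group

theorem commute_of_isPPart {p : ℕ} {g x : G} (hg : IsPPart p g x) : x * g = g * x := by
  obtain ⟨x', hx1, hx2, -, -⟩ := hg
  rw [← hx1, mul_assoc, hx2.eq]

variable [Fintype G] [DecidableEq G]

/-- Orthogonality at `(g, h)` for a set of irreducible characters whose idempotent has
local-integer coefficients, lying in the local ideal on the centralizer of the `p`-part of `g`. -/
theorem orthogonality_of_bad {p : ℕ} {M : Ideal AlgInt} (hM : IsPModular p M)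
    (S : Set (IrrCharacter G)) (hS : ∀ g : G, MemLocalRing M (blockCoeff S g))
    {g h x y : G} (hg : IsPPart p g x) (hh : IsPPart p h y)
    (hx : ∀ c : G, c * x = x * c → MemLocalIdeal M (blockCoeff S c)) :
    ∑ᶠ χ ∈ S, (χ : G → ℂ) g * conj ((χ : G → ℂ) h) = 0 := by
  have hfin : Finite (IrrCharacter G) := charFacts.finite
  have := Fintype.ofFinite (IrrCharacter G)
  have hxg := commute_of_isPPart hg
  have hyh := commute_of_isPPart hh
  rw [finsum_mem_def, finsum_eq_sum_of_fintype, ← sum_blockCoeff_twoSided S g h,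
    ← trace_pmat_twoSided_mul_emat]
  apply trace_pmat_mul_idempotent_eq_zero_of_bad hM (twoSided g h) (fun k => x * k = k * y)
  · intro k
    rw [twoSided_apply]
    have hyh' : y * h⁻¹ = h⁻¹ * y := by
      calc y * h⁻¹ = h⁻¹ * (h * y) * h⁻¹ := by group
        _ = h⁻¹ * (y * h) * h⁻¹ := by rw [hyh]
        _ = h⁻¹ * y := by group
    constructor
    · intro hk
      have h1 : g * (x * k) * h⁻¹ = g * (k * y) * h⁻¹ := by
        calc g * (x * k) * h⁻¹ = (g * x) * k * h⁻¹ := by group
          _ = x * (g * k * h⁻¹) := by rw [← hxg]; group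
          _ = g * k * h⁻¹ * y := hk
          _ = g * k * (h⁻¹ * y) := by group
          _ = g * k * (y * h⁻¹) := by rw [hyh']
          _ = g * (k * y) * h⁻¹ := by group
      exact mul_left_cancel (mul_right_cancel h1)
    · intro hk
      calc x * (g * k * h⁻¹) = (x * g) * k * h⁻¹ := by group
        _ = g * (x * k) * h⁻¹ := by rw [hxg]; group
        _ = g * (k * y) * h⁻¹ := by rw [hk]
        _ = g * k * (y * h⁻¹) := by group
        _ = g * k * (h⁻¹ * y) := by rw [hyh']
        _ = g * k * h⁻¹ * y := by group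
  · intro j a ha hfix
    by_contra hpj
    exact ha (twoSided_fixed_imp hM.1 hg hh j a hfix hpj)
  · rw [emat_mul_emat, conv_blockCoeff_self]
  · intro h g
    exact hS _
  · exact pmat_twoSided_comm_emat g h (blockCoeff_isClassFunction S)
  · intro a b ha hb
    show MemLocalIdeal M (blockCoeff S (b⁻¹ * a))
    have h1 : blockCoeff S (b⁻¹ * a) = blockCoeff S (a * b⁻¹) := by
      have := blockCoeff_isClassFunction S (b⁻¹ * a) b
      rw [← this]
      congr 1
      group
    rw [h1]
    apply hx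
    have hb' : b⁻¹ * x = y * b⁻¹ := by
      calc b⁻¹ * x = b⁻¹ * (x * b) * b⁻¹ := by group
        _ = b⁻¹ * (b * y) * b⁻¹ := by rw [hb]
        _ = y * b⁻¹ := by group
    calc a * b⁻¹ * x = a * (b⁻¹ * x) := by group
      _ = a * (y * b⁻¹) := by rw [hb']
      _ = (a * y) * b⁻¹ := by group
      _ = (x * a) * b⁻¹ := by rw [ha]
      _ = x * (a * b⁻¹) := by group

end Cfsg.Agent.Lib.Helper16_Vanish

namespace Cfsg.Agent.Lib.Helper16_Vanish

open Cfsg Cfsg.Agent.Lib.Helper78_LocalRing Cfsg.Agent.Lib.Helper78_CharFacts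
  Cfsg.Agent.Lib.Helper77_WeakOrth Cfsg.Agent.Lib.Helper16_BlockOrth

open scoped ComplexConjugate

/-- Orthogonality at `(g, h)`, all `h`, for a block whose idempotent coefficients lie in the local
ideal on the centralizer of the `p`-part of `g`. -/
theorem block_orthogonality_of_bad {G : Type*} [Group G] [Finite G] {p : ℕ} {M : Ideal AlgInt}
    (hM : IsPModular p M) {B : Set (IrrCharacter G)} (hB : IsPBlock M B)
    {g x : G} (hg : IsPPart p g x)
    (hx : ∀ c : G, c * x = x * c → MemLocalIdeal M (blockCoeff B c)) (h : G) :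
    ∑ᶠ χ ∈ B, (χ : G → ℂ) g * conj ((χ : G → ℂ) h) = 0 := by
  classical
  have := Fintype.ofFinite G
  obtain ⟨y, hy⟩ := exists_isPPart hM.1 h
  exact orthogonality_of_bad hM B (fun g => osima_block' hM.2.1.isPrime hB g) hg hy hx

/-- A member of a block vanishes at `g` when the idempotent coefficients of the block lie in the
local ideal on the centralizer of the `p`-part of `g`. -/
theorem irr_eq_zero_of_bad {G : Type*} [Group G] [Finite G] {p : ℕ} {M : Ideal AlgInt}
    (hM : IsPModular p M) {B : Set (IrrCharacter G)} (hB : IsPBlock M B)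
    {g x : G} (hg : IsPPart p g x)
    (hx : ∀ c : G, c * x = x * c → MemLocalIdeal M (blockCoeff B c))
    (χ : IrrCharacter G) (hχ : χ ∈ B) : (χ : G → ℂ) g = 0 := by
  classical
  let _ : Fintype G := Fintype.ofFinite G
  have hfin : Finite (IrrCharacter G) := charFacts.finite
  have := Fintype.ofFinite (IrrCharacter G)
  have hGne : (Nat.card G : ℂ) ≠ 0 := by
    exact_mod_cast (Nat.card_pos (α := G)).ne'
  have h0 : ∀ h : G, ∑ ψ : IrrCharacter G,
      B.indicator (fun ψ : IrrCharacter G => (ψ : G → ℂ) g * conj ((ψ : G → ℂ) h)) ψ = 0 := by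
    intro h
    have := block_orthogonality_of_bad hM hB hg hx h
    rwa [finsum_mem_def, finsum_eq_sum_of_fintype] at this
  have h1 : ∑ h : G, (∑ ψ : IrrCharacter G,
      B.indicator (fun ψ : IrrCharacter G => (ψ : G → ℂ) g * conj ((ψ : G → ℂ) h)) ψ) *
        (χ : G → ℂ) h = 0 := by
    apply Finset.sum_eq_zero
    intro h _
    rw [h0 h, zero_mul]
  have h2 : ∑ h : G, (∑ ψ : IrrCharacter G,
      B.indicator (fun ψ : IrrCharacter G => (ψ : G → ℂ) g * conj ((ψ : G → ℂ) h)) ψ) *
        (χ : G → ℂ) h = (Nat.card G : ℂ) * (χ : G → ℂ) g := by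
    simp_rw [Finset.sum_mul]
    rw [Finset.sum_comm]
    rw [Finset.sum_eq_single χ]
    · simp_rw [Set.indicator_of_mem hχ]
      have : ∀ h : G, (χ : G → ℂ) g * conj ((χ : G → ℂ) h) * (χ : G → ℂ) h =
          (χ : G → ℂ) g * ((χ : G → ℂ) h * (χ : G → ℂ) h⁻¹) := by
        intro h
        rw [Cfsg.Agent.Lib.Helper80_CharBasic.irr_inv χ h]
        ring
      simp_rw [this]
      rw [← Finset.mul_sum, Cfsg.Agent.Lib.Helper80_CharBasic.irr_norm χ, mul_comm]
    · intro ψ _ hψ
      by_cases hψB : ψ ∈ B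
      · simp_rw [Set.indicator_of_mem hψB]
        have : ∀ h : G, (ψ : G → ℂ) g * conj ((ψ : G → ℂ) h) * (χ : G → ℂ) h =
            (ψ : G → ℂ) g * ((χ : G → ℂ) h * (ψ : G → ℂ) h⁻¹) := by
          intro h
          rw [Cfsg.Agent.Lib.Helper80_CharBasic.irr_inv ψ h]
          ring
        simp_rw [this]
        rw [← Finset.mul_sum, Cfsg.Agent.Lib.Helper80_CharBasic.irr_orthogonal χ ψ (Ne.symm hψ),
          mul_zero]
      · simp_rw [Set.indicator_of_notMem hψB]
        simp
    · intro h
      exact absurd (Finset.mem_univ _) h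
  rw [h2] at h1
  rcases mul_eq_zero.mp h1 with h | h
  · exact absurd h hGne
  · exact h

/-- If some idempotent coefficient of the block `B` on the centralizer of the `p`-element `x`
is outside the local ideal, then `x` lies in a defect group of `B`. -/
theorem mem_defectGroup_of_blockCoeff_not_mem {G : Type*} [Group G] [Finite G] {p : ℕ}
    [Fact p.Prime] {M : Ideal AlgInt}
    (hM : IsPModular p M) {B : Set (IrrCharacter G)} (hB : IsPBlock M B)
    {x : G} (hx : ∃ k : ℕ, orderOf x = p ^ k) {c : G} (hcx : c * x = x * c)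
    (hc : ¬ MemLocalIdeal M (blockCoeff B c)) :
    ∃ D : Subgroup G, IsDefectGroup p M B D ∧ x ∈ D := by
  have hMp : M.IsPrime := hM.2.1.isPrime
  obtain ⟨g₀, hg₀⟩ := exists_isDefectClass' hMp hB
  obtain ⟨D₀⟩ : Nonempty (Sylow p (Subgroup.centralizer ({g₀} : Set G))) := inferInstance
  have hpg : IsPGroup p (Subgroup.zpowers x) := by
    obtain ⟨k, hk⟩ := hx
    apply IsPGroup.of_card (n := k)
    rw [Nat.card_zpowers, hk]
  have hle : Subgroup.zpowers x ≤ Subgroup.centralizer ({c} : Set G) := by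
    rw [Subgroup.zpowers_le]
    rw [Subgroup.mem_centralizer_iff]
    intro z hz
    rw [Set.mem_singleton_iff] at hz
    rw [hz]
    exact hcx
  obtain ⟨t, ht⟩ := Cfsg.Agent.Lib.Helper78_MinMax.le_conj_of_blockCoeff_not_mem hM hB hg₀ D₀ c hc
    (Subgroup.zpowers x) hpg hle
  have hle2 : Subgroup.zpowers x ≤ Subgroup.centralizer ({t * g₀ * t⁻¹} : Set G) := by
    intro s hs
    obtain ⟨d', hd', hd's⟩ := ht hs
    obtain ⟨d, hd, rfl⟩ := hd'
    rw [Subgroup.mem_centralizer_iff]
    intro z hz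
    rw [Set.mem_singleton_iff] at hz
    rw [hz, ← hd's]
    have hdc : (d : G) * g₀ = g₀ * (d : G) := by
      have := d.2
      rw [Subgroup.mem_centralizer_iff] at this
      exact (this g₀ (Set.mem_singleton _)).symm
    simp only [MulEquiv.coe_toMonoidHom, MulAut.conj_apply, Subgroup.coe_subtype]
    calc t * g₀ * t⁻¹ * (t * (d : G) * t⁻¹) = t * (g₀ * (d : G)) * t⁻¹ := by group
      _ = t * ((d : G) * g₀) * t⁻¹ := by rw [hdc]
      _ = t * (d : G) * t⁻¹ * (t * g₀ * t⁻¹) := by group
  obtain ⟨E, hE, hxE⟩ := Cfsg.Agent.Lib.Helper78_Defect.exists_isDefectGroup_ge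
    (Cfsg.Agent.Lib.Helper78_Defect.isDefectClass_conj hg₀ t) (Subgroup.zpowers x) hpg hle2
  exact ⟨E, hE, hxE (Subgroup.mem_zpowers x)⟩

/-- **A character vanishes off the sections of the defect groups of its block.** -/
theorem irr_eq_zero_of_not_mem_defectGroup {G : Type*} [Group G] [Finite G] {p : ℕ}
    [Fact p.Prime] {M : Ideal AlgInt}
    (hM : IsPModular p M) {B : Set (IrrCharacter G)} (hB : IsPBlock M B)
    (χ : IrrCharacter G) (hχ : χ ∈ B) {g x : G} (hg : IsPPart p g x)
    (hD : ∀ D : Subgroup G, IsDefectGroup p M B D → x ∉ D) : (χ : G → ℂ) g = 0 := by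
  apply irr_eq_zero_of_bad hM hB hg _ χ hχ
  intro c hcx
  by_contra hc
  obtain ⟨D, hDd, hxD⟩ := mem_defectGroup_of_blockCoeff_not_mem hM hB hg.choose_spec.2.2.1 hcx hc
  exact hD D hDd hxD

end Cfsg.Agent.Lib.Helper16_Vanish
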