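import Mathlib
import Cfsg.Agent.Lib.Helper78_BrauerMap

/-!
# Idempotents modulo the local ideal and the Brauer image of a block idempotent (helper78)

* `exists_conv_eq_blockCoeff_of_closed`, `exists_conv_eq_one`: invertibility in the centre of the
  local group ring;
* `pointwise_mem_of_idem`: a local-integral class function which is idempotent modulo the local
  ideal and on which every central character lies in the local ideal has all values in the ideal;
* `exists_block_inducing`: if `C_G(P) ≤ H ≤ N_G(P)`, `B` is a block of `G` and `h₀ ∈ C_G(P)` has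
  `a_B(h₀)` outside the ideal, there is a block `b` of `H` inducing `B` with `a_b(h₀)` outside the
  ideal.
-/

set_option autoImplicit false

namespace Cfsg.Agent.Lib.Helper78_BrDecomp

open Cfsg Cfsg.Agent.Lib.Helper78_LocalRing Cfsg.Agent.Lib.Helper78_CentralChar
  Cfsg.Agent.Lib.Helper78_Osima Cfsg.Agent.Lib.Helper78_Idempotent
  Cfsg.Agent.Lib.Helper78_Brauer Cfsg.Agent.Lib.Helper78_AlgHom Cfsg.Agent.Lib.Helper78_BrauerMap

universe u
variable {G : Type u} [Group G] [Fintype G] {M : Ideal AlgInt} {p : ℕ}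

/-! ### Bilinearity of convolution and pointwise congruences -/

theorem conv_sub_left (f f' w : G → ℂ) : conv (f - f') w = conv f w - conv f' w := by
  funext g
  unfold conv
  simp only [Pi.sub_apply, sub_mul, Finset.sum_sub_distrib]

theorem conv_sub_right (w f f' : G → ℂ) : conv w (f - f') = conv w f - conv w f' := by
  funext g
  unfold conv
  simp only [Pi.sub_apply, mul_sub, Finset.sum_sub_distrib]

theorem conv_memLocalIdeal_left (hM : M.IsPrime) {u w : G → ℂ}
    (hu : ∀ g, MemLocalIdeal M (u g)) (hw : ∀ g, MemLocalRing M (w g)) (g : G) :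
    MemLocalIdeal M (conv u w g) := by
  unfold conv
  exact memLocalIdeal_sum hM _ _ fun x _ => memLocalIdeal_mul_right hM (hu x) (hw _)

theorem conv_memLocalIdeal_right (hM : M.IsPrime) {u w : G → ℂ}
    (hw : ∀ g, MemLocalRing M (w g)) (hu : ∀ g, MemLocalIdeal M (u g)) (g : G) :
    MemLocalIdeal M (conv w u g) := by
  unfold conv
  exact memLocalIdeal_sum hM _ _ fun x _ => memLocalIdeal_mul_left hM (hw x) (hu _)

theorem conv_memLocalRing (hM : M.IsPrime) {u w : G → ℂ}
    (hu : ∀ g, MemLocalRing M (u g)) (hw : ∀ g, MemLocalRing M (w g)) (g : G) :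
    MemLocalRing M (conv u w g) := by
  unfold conv
  exact memLocalRing_sum hM _ _ fun x _ => memLocalRing_mul hM (hu x) (hw _)

theorem conv_classIndicator_one_right {f : G → ℂ} (hc : CharFacts G) (hf : IsClassFunction G f) :
    conv f (classIndicator 1) = f := by
  refine eq_of_omega_eq hc (conv_isClassFunction hf (classIndicator_isClassFunction 1)) hf ?_
  intro χ
  rw [omega_conv χ.2 f (classIndicator_isClassFunction 1), omega_classIndicator_one χ.2, mul_one]

/-! ### Invertibility -/

theorem exists_conv_eq_blockCoeff_of_closed (hc : CharFacts G) (hM : M.IsPrime)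
    (S : Set (IrrCharacter G))
    (hS : ∀ χ ∈ S, ∀ ψ : IrrCharacter G, SameBlock M (χ : G → ℂ) (ψ : G → ℂ) → ψ ∈ S)
    {f : G → ℂ} (hf : IsClassFunction G f) (hfR : ∀ g, MemLocalRing M (f g))
    (hu : ∀ χ ∈ S, ¬ MemLocalIdeal M (omega ((χ : IrrCharacter G) : G → ℂ) f)) :
    ∃ w : G → ℂ, IsClassFunction G w ∧ (∀ g, MemLocalRing M (w g)) ∧ conv f w = blockCoeff S := by
  classical
  have := hc.finite
  have hA := centralAlgebra_isLocalAlgebra (G := G) hM
  have hBind : S.indicator (fun _ => (1 : ℂ)) ∈ centralAlgebra M G :=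
    indicator_mem_centralAlgebra hc hM S hS
  have hfA : (fun χ : IrrCharacter G => omega (χ : G → ℂ) f) ∈ centralAlgebra M G :=
    ⟨f, hf, hfR, fun _ => rfl⟩
  obtain ⟨w, hw, hwR, hwv⟩ := inv_indicator_mem hM hA S hBind hfA hu
  refine ⟨w, hw, hwR, ?_⟩
  refine eq_of_omega_eq hc (conv_isClassFunction hf hw) (blockCoeff_isClassFunction S) ?_
  intro χ
  rw [omega_conv χ.2 f hw, ← hwv χ, omega_blockCoeff hc S χ]
  by_cases hχ : χ ∈ S
  · rw [Set.indicator_of_mem hχ, Set.indicator_of_mem hχ]
    have h0 : omega (χ : G → ℂ) f ≠ 0 := fun h0 => hu χ hχ (h0 ▸ memLocalIdeal_zero hM)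
    exact mul_inv_cancel₀ h0
  · rw [Set.indicator_of_notMem hχ, Set.indicator_of_notMem hχ, mul_zero]

theorem exists_conv_eq_one (hc : CharFacts G) (hM : M.IsPrime)
    {f : G → ℂ} (hf : IsClassFunction G f) (hfR : ∀ g, MemLocalRing M (f g))
    (hu : ∀ χ : IrrCharacter G, ¬ MemLocalIdeal M (omega (χ : G → ℂ) f)) :
    ∃ w : G → ℂ, IsClassFunction G w ∧ (∀ g, MemLocalRing M (w g)) ∧
      conv f w = classIndicator 1 := by
  obtain ⟨w, hw, hwR, h⟩ := exists_conv_eq_blockCoeff_of_closed hc hM Set.univ
    (fun _ _ _ _ => Set.mem_univ _) hf hfR (fun χ _ => hu χ)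
  exact ⟨w, hw, hwR, by rw [h, blockCoeff_univ hc]⟩

/-! ### Idempotents modulo the ideal lying in the radical vanish modulo the ideal -/

theorem pointwise_mem_of_idem (hc : CharFacts G) (hM : M.IsPrime) {u : G → ℂ}
    (hu : IsClassFunction G u) (huR : ∀ g, MemLocalRing M (u g))
    (hidem : ∀ g, MemLocalIdeal M (conv u u g - u g))
    (hrad : ∀ χ : IrrCharacter G, MemLocalIdeal M (omega (χ : G → ℂ) u)) (g : G) :
    MemLocalIdeal M (u g) := by
  classical
  -- `δ - u` is invertible
  let f : G → ℂ := classIndicator 1 - u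
  have hfc : IsClassFunction G f := by
    intro g k
    simp only [f, Pi.sub_apply]
    rw [classIndicator_isClassFunction 1 g k, hu g k]
  have hfR : ∀ g, MemLocalRing M (f g) := fun g =>
    memLocalRing_sub hM (memLocalRing_classIndicator hM 1 g) (huR g)
  have hfu : ∀ χ : IrrCharacter G, ¬ MemLocalIdeal M (omega (χ : G → ℂ) f) := by
    intro χ h
    simp only [f] at h
    rw [omega_sub, omega_classIndicator_one χ.2] at h
    have := memLocalIdeal_add hM h (hrad χ)
    rw [sub_add_cancel] at this
    exact not_memLocalIdeal_one hM this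
  obtain ⟨w, hw, hwR, hconv⟩ := exists_conv_eq_one hc hM hfc hfR hfu
  -- `u = (u - u ⋆ u) ⋆ w`
  have h1 : u = conv (u - conv u u) w := by
    refine eq_of_omega_eq hc hu (conv_isClassFunction ?_ hw) ?_
    · intro g k
      simp only [Pi.sub_apply]
      rw [hu g k, conv_isClassFunction hu hu g k]
    · intro χ
      have h2 := congrArg (omega (χ : G → ℂ)) hconv
      rw [omega_conv χ.2 f hw, omega_classIndicator_one χ.2] at h2
      simp only [f] at h2
      rw [omega_sub, omega_classIndicator_one χ.2] at h2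
      rw [omega_conv χ.2 _ hw, omega_sub, omega_conv χ.2 u hu]
      have : omega (χ : G → ℂ) u = omega (χ : G → ℂ) u * ((1 - omega (χ : G → ℂ) u) *
          omega (χ : G → ℂ) w) := by rw [h2, mul_one]
      linear_combination this
  rw [h1]
  refine conv_memLocalIdeal_left hM (fun x => ?_) hwR g
  have := memLocalIdeal_neg (hidem x)
  simpa using this

/-! ### Components of an idempotent modulo the ideal along closed sets of characters -/

omit [Fintype G] in
theorem sub_isClassFunction {f f' : G → ℂ} (hf : IsClassFunction G f)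
    (hf' : IsClassFunction G f') : IsClassFunction G (f - f') := by
  intro g k
  simp only [Pi.sub_apply]
  rw [hf g k, hf' g k]

/-- If `c` is idempotent modulo the ideal and all `ω_ψ(c)`, `ψ ∈ S`, lie in the ideal, then
`c ⋆ e_S` has values in the ideal. -/
theorem conv_blockCoeff_mem_of_omega_mem (hc : CharFacts G) (hM : M.IsPrime) {c : G → ℂ}
    (hcc : IsClassFunction G c) (hcR : ∀ g, MemLocalRing M (c g))
    (hidem : ∀ g, MemLocalIdeal M (conv c c g - c g)) (S : Set (IrrCharacter G))
    (hS : ∀ χ ∈ S, ∀ ψ : IrrCharacter G, SameBlock M (χ : G → ℂ) (ψ : G → ℂ) → ψ ∈ S)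
    (hrad : ∀ ψ ∈ S, MemLocalIdeal M (omega ((ψ : IrrCharacter G) : G → ℂ) c)) (g : G) :
    MemLocalIdeal M (conv c (blockCoeff S) g) := by
  classical
  have hec := blockCoeff_isClassFunction S
  have heR : ∀ g, MemLocalRing M (blockCoeff S g) := osima hc hM S hS
  have huc : IsClassFunction G (conv c (blockCoeff S)) := conv_isClassFunction hcc hec
  have hom : ∀ ψ : IrrCharacter G, omega (ψ : G → ℂ) (conv c (blockCoeff S)) =
      omega (ψ : G → ℂ) c * S.indicator (fun _ => (1 : ℂ)) ψ := fun ψ => by
    rw [omega_conv ψ.2 c hec, omega_blockCoeff hc]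
  refine pointwise_mem_of_idem hc hM huc (conv_memLocalRing hM hcR heR) ?_ ?_ g
  · intro x
    have h1 : conv (conv c (blockCoeff S)) (conv c (blockCoeff S)) - conv c (blockCoeff S) =
        conv (conv c c - c) (blockCoeff S) := by
      refine eq_of_omega_eq hc (sub_isClassFunction (conv_isClassFunction huc huc) huc)
        (conv_isClassFunction (sub_isClassFunction (conv_isClassFunction hcc hcc) hcc) hec) ?_
      intro ψ
      rw [omega_sub, omega_conv ψ.2 _ huc, hom, omega_conv ψ.2 _ hec, omega_sub,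
        omega_conv ψ.2 c hcc, omega_blockCoeff hc]
      by_cases hψ : ψ ∈ S
      · rw [Set.indicator_of_mem hψ]; ring
      · rw [Set.indicator_of_notMem hψ]; ring
    have h2 := congrFun h1 x
    simp only [Pi.sub_apply] at h2
    rw [h2]
    exact conv_memLocalIdeal_left hM hidem heR x
  · intro ψ
    rw [hom]
    by_cases hψ : ψ ∈ S
    · rw [Set.indicator_of_mem hψ, mul_one]; exact hrad ψ hψ
    · rw [Set.indicator_of_notMem hψ, mul_zero]; exact memLocalIdeal_zero hM

/-- If `c` is idempotent modulo the ideal and all `ω_ψ(c) - 1`, `ψ ∈ S`, lie in the ideal, then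
`c ⋆ e_S ≡ e_S` pointwise. -/
theorem blockCoeff_sub_conv_mem_of_omega_sub_one_mem (hc : CharFacts G) (hM : M.IsPrime)
    {c : G → ℂ}
    (hcc : IsClassFunction G c) (hcR : ∀ g, MemLocalRing M (c g))
    (hidem : ∀ g, MemLocalIdeal M (conv c c g - c g)) (S : Set (IrrCharacter G))
    (hS : ∀ χ ∈ S, ∀ ψ : IrrCharacter G, SameBlock M (χ : G → ℂ) (ψ : G → ℂ) → ψ ∈ S)
    (hone : ∀ ψ ∈ S, MemLocalIdeal M (omega ((ψ : IrrCharacter G) : G → ℂ) c - 1)) (g : G) :
    MemLocalIdeal M (blockCoeff S g - conv c (blockCoeff S) g) := by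
  classical
  have hec := blockCoeff_isClassFunction S
  have heR : ∀ g, MemLocalRing M (blockCoeff S g) := osima hc hM S hS
  have hcec : IsClassFunction G (conv c (blockCoeff S)) := conv_isClassFunction hcc hec
  set u : G → ℂ := blockCoeff S - conv c (blockCoeff S) with hu
  have huc : IsClassFunction G u := sub_isClassFunction hec hcec
  have hom : ∀ ψ : IrrCharacter G, omega (ψ : G → ℂ) u =
      S.indicator (fun _ => (1 : ℂ)) ψ * (1 - omega (ψ : G → ℂ) c) := fun ψ => by
    rw [hu, omega_sub, omega_conv ψ.2 c hec, omega_blockCoeff hc]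
    ring
  have key := pointwise_mem_of_idem hc hM huc
    (fun x => memLocalRing_sub hM (heR x) (conv_memLocalRing hM hcR heR x)) ?_ ?_ g
  · exact key
  · intro x
    have h1 : conv u u - u = conv (conv c c - c) (blockCoeff S) := by
      refine eq_of_omega_eq hc (sub_isClassFunction (conv_isClassFunction huc huc) huc)
        (conv_isClassFunction (sub_isClassFunction (conv_isClassFunction hcc hcc) hcc) hec) ?_
      intro ψ
      rw [omega_sub, omega_conv ψ.2 _ huc, hom, omega_conv ψ.2 _ hec, omega_sub,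
        omega_conv ψ.2 c hcc, omega_blockCoeff hc]
      by_cases hψ : ψ ∈ S
      · rw [Set.indicator_of_mem hψ]; ring
      · rw [Set.indicator_of_notMem hψ]; ring
    have h2 := congrFun h1 x
    simp only [Pi.sub_apply] at h2
    rw [h2]
    exact conv_memLocalIdeal_left hM hidem heR x
  · intro ψ
    rw [hom]
    by_cases hψ : ψ ∈ S
    · rw [Set.indicator_of_mem hψ, one_mul]
      have := memLocalIdeal_neg (hone ψ hψ)
      rwa [neg_sub] at this
    · rw [Set.indicator_of_notMem hψ, zero_mul]; exact memLocalIdeal_zero hM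

/-- For `c` idempotent modulo the ideal, each `ω_ψ(c)` is congruent to `0` or `1`. -/
theorem omega_idem_dichotomy (hM : M.IsPrime) {c : G → ℂ}
    (hcc : IsClassFunction G c) (hcR : ∀ g, MemLocalRing M (c g))
    (hidem : ∀ g, MemLocalIdeal M (conv c c g - c g)) {ψ : G → ℂ} (hψ : IsIrrCharacter G ψ) :
    MemLocalIdeal M (omega ψ c) ∨ MemLocalIdeal M (omega ψ c - 1) := by
  have h1 : MemLocalIdeal M (omega ψ (conv c c - c)) :=
    memLocalIdeal_omega_of_pointwise hM hψ
      (sub_isClassFunction (conv_isClassFunction hcc hcc) hcc) hidem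
  rw [omega_sub, omega_conv hψ c hcc] at h1
  have hR := memLocalRing_omega hM hψ hcc hcR
  have h2 : omega ψ c * omega ψ c - omega ψ c = omega ψ c * (omega ψ c - 1) := by ring
  rw [h2] at h1
  exact (memLocalIdeal_mul_iff hM hR (memLocalRing_sub hM hR (memLocalRing_one hM))).1 h1

/-! ### The Brauer image of a block idempotent -/

section BrauerImage
variable {P H : Subgroup G} [Fintype H]

/-- `br e_B` is idempotent modulo the ideal. -/
theorem br_blockCoeff_idem (hM : IsPModular p M) (hP : IsPGroup p P)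
    (hCH : Subgroup.centralizer (P : Set G) ≤ H) {B : Set (IrrCharacter G)}
    (hB : IsPBlock M B) (h : H) :
    MemLocalIdeal M (conv (br P H (blockCoeff B)) (br P H (blockCoeff B)) h -
      br P H (blockCoeff B) h) := by
  have hMp := isPrime_of_isPModular hM
  have hc := Cfsg.Agent.Lib.Helper78_CharFacts.charFacts (G := G)
  have hec := blockCoeff_isClassFunction B
  have heR : ∀ g, MemLocalRing M (blockCoeff B g) := osima_block hc hMp hB
  have h1 := memLocalIdeal_br_conv hM hP hCH (H := H) hec heR hec heR h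
  rw [conv_blockCoeff_self hc B] at h1
  have := memLocalIdeal_neg h1
  rwa [neg_sub] at this

/-- **Blocks of `H` covering a nonzero coefficient of the Brauer image of `e_B`.**  If
`C_G(P) ≤ H ≤ N_G(P)`, `B` is a block of `G` and `h₀ ∈ C_G(P)` has `a_B(h₀)` outside the local
ideal, there is a block `b` of `H` inducing `B` with `a_b(h₀)` outside the local ideal. -/
theorem exists_block_inducing (hM : IsPModular p M) (hP : IsPGroup p P) (hPH : P ≤ H)
    (hCH : Subgroup.centralizer (P : Set G) ≤ H) (hHN : H ≤ Subgroup.normalizer (P : Set G))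
    {B : Set (IrrCharacter G)} (hB : IsPBlock M B) (h₀ : H)
    (hh₀ : (h₀ : G) ∈ Subgroup.centralizer (P : Set G))
    (ha : ¬ MemLocalIdeal M (blockCoeff B (h₀ : G))) :
    ∃ b : Set (IrrCharacter H), IsInducedBlock M H b B ∧
      ¬ MemLocalIdeal M (blockCoeff b h₀) := by
  classical
  have hMp := isPrime_of_isPModular hM
  have hcG := Cfsg.Agent.Lib.Helper78_CharFacts.charFacts (G := G)
  have hcH := Cfsg.Agent.Lib.Helper78_CharFacts.charFacts (G := H)
  have hec := blockCoeff_isClassFunction B
  have heR : ∀ g, MemLocalRing M (blockCoeff B g) := osima_block hcG hMp hB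
  set c : H → ℂ := br P H (blockCoeff B) with hc
  have hcc : IsClassFunction H c := br_isClassFunction hHN hec
  have hcR : ∀ h, MemLocalRing M (c h) := br_memLocalRing hMp heR
  have hidem : ∀ h, MemLocalIdeal M (conv c c h - c h) := br_blockCoeff_idem hM hP hCH hB
  have hch₀ : c h₀ = blockCoeff B (h₀ : G) := br_apply_of_mem _ hh₀
  -- a block `b` of `H` with `(c ⋆ e_b)(h₀)` outside the ideal
  obtain ⟨b, hb, -, hlb⟩ := exists_block_not_mem hcH hMp (fun f => conv c f h₀)
    (fun f f' => by
      unfold conv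
      simp only [Pi.add_apply, mul_add, Finset.sum_add_distrib])
    (by unfold conv; simp) _ Set.univ rfl (fun _ _ _ _ => Set.mem_univ _) (by
      show ¬ MemLocalIdeal M (conv c (blockCoeff Set.univ) h₀)
      rw [blockCoeff_univ hcH, conv_classIndicator_one_right hcH hcc, hch₀]
      exact ha)
  have hbS : ∀ χ ∈ b, ∀ ψ : IrrCharacter H, SameBlock M (χ : H → ℂ) (ψ : H → ℂ) → ψ ∈ b :=
    fun _ hχ _ h => isPBlock_mem_of_sameBlock hMp hb hχ h
  obtain ⟨ξ, hξ⟩ := isPBlock_nonempty hMp hb
  -- the Brauer correspondent character of `ξ`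
  obtain ⟨χ, hχ⟩ := exists_irr_brauer hM hP hCH hHN ξ.2
  have hωξ : MemLocalIdeal M (omega (ξ : H → ℂ) c - B.indicator (fun _ => (1 : ℂ)) χ) := by
    have := hχ (blockCoeff B) hec heR
    rwa [omega_blockCoeff hcG] at this
  have hsame : ∀ ψ ∈ b, MemLocalIdeal M (omega ((ψ : IrrCharacter H) : H → ℂ) c -
      omega (ξ : H → ℂ) c) := fun ψ hψ =>
    memLocalIdeal_omega_sub hMp (isIrrCharacter_isClassFunction ψ.2)
      (isIrrCharacter_isClassFunction ξ.2) (isPBlock_sameBlock hMp hb hψ hξ) hcc hcR
  -- `χ ∈ B`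
  have hχB : χ ∈ B := by
    by_contra hχB
    rw [Set.indicator_of_notMem hχB, sub_zero] at hωξ
    apply hlb
    refine conv_blockCoeff_mem_of_omega_mem hcH hMp hcc hcR hidem b hbS (fun ψ hψ => ?_) h₀
    have := memLocalIdeal_add hMp (hsame ψ hψ) hωξ
    rwa [sub_add_cancel] at this
  rw [Set.indicator_of_mem hχB] at hωξ
  refine ⟨b, ⟨hb, hB, fun ξ' hξ' χ' hχ' g => ?_⟩, ?_⟩
  · -- `b` induces `B`
    have h1 := memLocalIdeal_induced_sub_brauer hM P H hP hPH hHN ξ'.2 g
    have h2 := memLocalIdeal_brauerCentralChar_sub hMp hHN ξ'.2 ξ.2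
      (isPBlock_sameBlock hMp hb hξ' hξ) g
    have h3 : MemLocalIdeal M (brauerCentralChar P H (ξ : H → ℂ) g -
        centralChar (χ : G → ℂ) g) := by
      have := hχ (classIndicator g) (classIndicator_isClassFunction g)
        (memLocalRing_classIndicator hMp g)
      rwa [omega_br_classIndicator,
        omega_classIndicator (isIrrCharacter_isClassFunction χ.2)] at this
    have h4 : MemLocalIdeal M (centralChar (χ : G → ℂ) g - centralChar (χ' : G → ℂ) g) :=
      isPBlock_sameBlock hMp hB hχB hχ' g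
    have h5 := memLocalIdeal_add hMp (memLocalIdeal_add hMp (memLocalIdeal_add hMp h1 h2) h3) h4
    have h6 : inducedCentralChar H (ξ' : H → ℂ) g - brauerCentralChar P H (ξ' : H → ℂ) g +
        (brauerCentralChar P H (ξ' : H → ℂ) g - brauerCentralChar P H (ξ : H → ℂ) g) +
        (brauerCentralChar P H (ξ : H → ℂ) g - centralChar (χ : G → ℂ) g) +
        (centralChar (χ : G → ℂ) g - centralChar (χ' : G → ℂ) g) =
        inducedCentralChar H (ξ' : H → ℂ) g - centralChar (χ' : G → ℂ) g := by ring
    rwa [h6] at h5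
  · -- `a_b(h₀)` is outside the ideal
    intro hmem
    apply hlb
    have h7 := blockCoeff_sub_conv_mem_of_omega_sub_one_mem hcH hMp hcc hcR hidem b hbS
      (fun ψ hψ => by
        have := memLocalIdeal_add hMp (hsame ψ hψ) hωξ
        rwa [sub_add_sub_cancel] at this) h₀
    have h8 := memLocalIdeal_sub hMp hmem h7
    rwa [sub_sub_cancel] at h8

end BrauerImage

end Cfsg.Agent.Lib.Helper78_BrDecomp
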