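import Mathlib
import Cfsg.Prelude.Def_Blocks
import Cfsg.Agent.Lib.Helper78_LocalRing
import Cfsg.Agent.Lib.Helper78_CentralChar
import Cfsg.Agent.Lib.Helper78_Osima
import Cfsg.Agent.Lib.Helper78_CharFacts
import Cfsg.Agent.Lib.Helper78_AlgHom
import Cfsg.Agent.Lib.Helper78_BrauerMap
import Cfsg.Agent.Lib.Helper78_BrDecomp

/-!
# Extension by zero, restriction to a centralizer and the Brauer map for invariant functions
(helper78)

* `ext H φ`: the extension by zero to `G` of a function on the subgroup `H`; it is compatible with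
  convolution (`ext_conv`).
* `conv_comm_of_isClassFunction`: class functions are central for convolution.
* `res_conv_mem`: for a `p`-subgroup `P` and functions `φ φ'` on `G` invariant under conjugation by
  `P`, with local-integer values, `(φ ⋆ φ')|_C ≡ φ|_C ⋆ φ'|_C` modulo the local ideal, where
  `C = C_G(P)`.
-/

set_option autoImplicit false
set_option linter.unusedSectionVars false

namespace Cfsg.Agent.Lib.Helper78_ExtConv

open Cfsg Cfsg.Agent.Lib.Helper78_LocalRing Cfsg.Agent.Lib.Helper78_CentralChar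
  Cfsg.Agent.Lib.Helper78_Osima Cfsg.Agent.Lib.Helper78_CharFacts
  Cfsg.Agent.Lib.Helper78_BrauerMap Cfsg.Agent.Lib.Helper78_AlgHom
  Cfsg.Agent.Lib.Helper78_BrDecomp

universe u

variable {G : Type u} [Group G] {M : Ideal AlgInt} {p : ℕ}

/-! ### Extension by zero -/

open Classical in
/-- Extension by zero of a function on a subgroup. -/
noncomputable def ext (H : Subgroup G) (φ : H → ℂ) : G → ℂ :=
  fun g => if hg : g ∈ H then φ ⟨g, hg⟩ else 0

theorem ext_of_mem (H : Subgroup G) (φ : H → ℂ) {g : G} (hg : g ∈ H) :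
    ext H φ g = φ ⟨g, hg⟩ := by
  unfold ext
  exact dif_pos hg

theorem ext_coe (H : Subgroup G) (φ : H → ℂ) (h : H) : ext H φ (h : G) = φ h :=
  ext_of_mem H φ h.2

theorem ext_of_notMem (H : Subgroup G) (φ : H → ℂ) {g : G} (hg : g ∉ H) :
    ext H φ g = 0 := by
  unfold ext
  exact dif_neg hg

theorem ext_add (H : Subgroup G) (φ φ' : H → ℂ) : ext H (φ + φ') = ext H φ + ext H φ' := by
  funext g
  by_cases hg : g ∈ H
  · simp only [Pi.add_apply, ext_of_mem H _ hg]
  · simp only [Pi.add_apply, ext_of_notMem H _ hg, add_zero]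

theorem ext_smul (H : Subgroup G) (r : ℂ) (φ : H → ℂ) :
    ext H (fun h => r * φ h) = fun g => r * ext H φ g := by
  funext g
  by_cases hg : g ∈ H
  · simp only [ext_of_mem H _ hg]
  · simp only [ext_of_notMem H _ hg, mul_zero]

theorem ext_memLocalRing (hM : M.IsPrime) (H : Subgroup G) {φ : H → ℂ}
    (hφ : ∀ h, MemLocalRing M (φ h)) (g : G) : MemLocalRing M (ext H φ g) := by
  by_cases hg : g ∈ H
  · rw [ext_of_mem H _ hg]; exact hφ _
  · rw [ext_of_notMem H _ hg]; exact memLocalRing_zero hM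

theorem ext_conj (H : Subgroup G) {φ : H → ℂ} (hφ : IsClassFunction H φ) {q : G} (hq : q ∈ H)
    (x : G) : ext H φ (q * x * q⁻¹) = ext H φ x := by
  by_cases hx : x ∈ H
  · have h1 : q * x * q⁻¹ ∈ H := H.mul_mem (H.mul_mem hq hx) (H.inv_mem hq)
    rw [ext_of_mem H _ h1, ext_of_mem H _ hx]
    exact hφ ⟨x, hx⟩ ⟨q, hq⟩
  · have h1 : q * x * q⁻¹ ∉ H := by
      intro h
      apply hx
      have : x = q⁻¹ * (q * x * q⁻¹) * q := by group
      rw [this]
      exact H.mul_mem (H.mul_mem (H.inv_mem hq) h) hq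
    rw [ext_of_notMem H _ h1, ext_of_notMem H _ hx]

theorem sum_ext_mul [Fintype G] (H : Subgroup G) [Fintype H] (φ : H → ℂ) (F : G → ℂ) :
    ∑ g : G, ext H φ g * F g = ∑ h : H, φ h * F h := by
  classical
  have h1 : ∑ g : G, ext H φ g * F g =
      ∑ g ∈ Finset.univ.filter (fun g : G => g ∈ H), ext H φ g * F g := by
    symm
    apply Finset.sum_filter_of_ne
    intro g _ hne
    by_contra hg
    apply hne
    rw [ext_of_notMem H _ hg, zero_mul]
  rw [h1, Finset.sum_subtype (Finset.univ.filter (fun g : G => g ∈ H))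
    (p := fun g => g ∈ H) (by simp)]
  refine Finset.sum_congr rfl fun h _ => ?_
  rw [ext_coe]

theorem ext_conv [Fintype G] (H : Subgroup G) [Fintype H] (φ φ' : H → ℂ) :
    conv (ext H φ) (ext H φ') = ext H (conv φ φ') := by
  funext g
  unfold conv
  rw [sum_ext_mul H φ (fun x => ext H φ' (x⁻¹ * g))]
  by_cases hg : g ∈ H
  · rw [ext_of_mem H _ hg]
    refine Finset.sum_congr rfl fun h _ => ?_
    have : (h : G)⁻¹ * g = ((h⁻¹ * ⟨g, hg⟩ : H) : G) := by
      push_cast
      rfl
    rw [this, ext_coe]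
  · rw [ext_of_notMem H _ hg]
    refine Finset.sum_eq_zero fun h _ => ?_
    have : (h : G)⁻¹ * g ∉ H := by
      intro hh
      apply hg
      have h2 : g = (h : G) * ((h : G)⁻¹ * g) := by group
      rw [h2]
      exact H.mul_mem h.2 hh
    rw [ext_of_notMem H _ this, mul_zero]

theorem ext_classIndicator_one (H : Subgroup G) :
    ext H (classIndicator (1 : H)) = classIndicator (1 : G) := by
  classical
  funext g
  have h1 : ∀ k : G, IsConj (1 : G) k ↔ k = 1 := fun k => isConj_one_right
  have h2 : ∀ k : H, IsConj (1 : H) k ↔ k = 1 := fun k => isConj_one_right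
  unfold classIndicator
  by_cases hg : g ∈ H
  · rw [ext_of_mem H _ hg]
    simp only [Set.indicator_apply, Set.mem_ofPred_eq, h1, h2]
    have : (⟨g, hg⟩ : H) = 1 ↔ g = 1 := by
      constructor
      · intro h; exact congrArg Subtype.val h
      · intro h; exact Subtype.ext h
    simp only [this]
  · rw [ext_of_notMem H _ hg]
    have : g ≠ 1 := fun h => hg (h ▸ H.one_mem)
    simp only [Set.indicator_apply, Set.mem_ofPred_eq, h1, this, if_false]

/-! ### Class functions are central -/

theorem conv_comm_of_isClassFunction [Fintype G] {e : G → ℂ} (he : IsClassFunction G e)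
    (φ : G → ℂ) : conv e φ = conv φ e := by
  funext g
  unfold conv
  -- both sides equal `∑ t, e t * φ (g * t⁻¹)`
  have h1 : ∑ x : G, e x * φ (x⁻¹ * g) = ∑ t : G, e t * φ (g * t⁻¹) := by
    rw [← Equiv.sum_comp (MulAut.conj g).toEquiv]
    refine Finset.sum_congr rfl fun t _ => ?_
    simp only [MulEquiv.toEquiv_eq_coe, EquivLike.coe_coe, MulAut.conj_apply]
    rw [he]
    congr 2
    group
  have h2 : ∑ x : G, φ x * e (x⁻¹ * g) = ∑ t : G, e t * φ (g * t⁻¹) := by
    rw [← Equiv.sum_comp ((Equiv.inv G).trans (Equiv.mulLeft g))]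
    refine Finset.sum_congr rfl fun t _ => ?_
    simp only [Equiv.trans_apply, Equiv.inv_apply, Equiv.coe_mulLeft]
    rw [mul_comm]
    congr 2
    group
  rw [h1, h2]

theorem conv_conj_invariant [Fintype G] {φ φ' : G → ℂ} {q : G}
    (hφ : ∀ x, φ (q * x * q⁻¹) = φ x) (hφ' : ∀ x, φ' (q * x * q⁻¹) = φ' x) (x : G) :
    conv φ φ' (q * x * q⁻¹) = conv φ φ' x := by
  unfold conv
  rw [← Equiv.sum_comp (MulAut.conj q).toEquiv]
  refine Finset.sum_congr rfl fun t _ => ?_
  simp only [MulEquiv.toEquiv_eq_coe, EquivLike.coe_coe, MulAut.conj_apply]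
  rw [hφ]
  have : (q * t * q⁻¹)⁻¹ * (q * x * q⁻¹) = q * (t⁻¹ * x) * q⁻¹ := by group
  rw [this, hφ']

/-! ### Restriction to the centralizer and the Brauer congruence -/

/-- Restriction of a function to a subgroup. -/
def res (C : Subgroup G) (φ : G → ℂ) : C → ℂ := fun c => φ c

theorem res_apply (C : Subgroup G) (φ : G → ℂ) (c : C) : res C φ c = φ c := rfl

theorem res_memLocalRing (C : Subgroup G) {φ : G → ℂ} (hφ : ∀ g, MemLocalRing M (φ g)) (c : C) :
    MemLocalRing M (res C φ c) := hφ _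

theorem res_isClassFunction (C : Subgroup G) {φ : G → ℂ}
    (hφ : ∀ q ∈ C, ∀ x, φ (q * x * q⁻¹) = φ x) : IsClassFunction C (res C φ) := by
  intro c k
  show φ ((k * c * k⁻¹ : C) : G) = φ c
  push_cast
  exact hφ k k.2 c

theorem res_sub (C : Subgroup G) (φ φ' : G → ℂ) : res C (φ - φ') = res C φ - res C φ' := rfl

/-- The Brauer congruence for functions invariant under conjugation by the `p`-subgroup `P`. -/
theorem res_conv_mem [Fintype G] (hM : IsPModular p M) (P : Subgroup G) (hP : IsPGroup p P)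
    [Fintype (Subgroup.centralizer (P : Set G))]
    {φ φ' : G → ℂ} (hφ : ∀ q ∈ P, ∀ x, φ (q * x * q⁻¹) = φ x)
    (hφ' : ∀ q ∈ P, ∀ x, φ' (q * x * q⁻¹) = φ' x)
    (hφR : ∀ g, MemLocalRing M (φ g)) (hφ'R : ∀ g, MemLocalRing M (φ' g))
    (c : Subgroup.centralizer (P : Set G)) :
    MemLocalIdeal M (res (Subgroup.centralizer (P : Set G)) (conv φ φ') c -
      conv (res (Subgroup.centralizer (P : Set G)) φ)
        (res (Subgroup.centralizer (P : Set G)) φ') c) := by
  classical
  have hMp := isPrime_of_isPModular hM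
  have h1 := sum_sub_sum_centralizer_mem (M := M) P hP hM
    (fun x => φ x * φ' (x⁻¹ * (c : G)))
    (fun q hq x => by
      have hcq : (c : G) = q * (c : G) * q⁻¹ := by
        have := Subgroup.mem_centralizer_iff.mp c.2 q hq
        calc (c : G) = (c : G) * q * q⁻¹ := by group
          _ = q * (c : G) * q⁻¹ := by rw [← this]
      show φ (q * x * q⁻¹) * φ' ((q * x * q⁻¹)⁻¹ * (c : G)) = φ x * φ' (x⁻¹ * (c : G))
      rw [hφ q hq x]
      have h2 : (q * x * q⁻¹)⁻¹ * (c : G) = q * (x⁻¹ * (c : G)) * q⁻¹ := by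
        conv_lhs => rw [hcq]
        group
      rw [h2, hφ' q hq])
    (fun x => memLocalRing_mul hMp (hφR _) (hφ'R _))
  have h3 : ∑ x ∈ Finset.univ.filter
      (fun x : G => x ∈ Subgroup.centralizer (P : Set G)), φ x * φ' (x⁻¹ * (c : G)) =
      conv (res (Subgroup.centralizer (P : Set G)) φ)
        (res (Subgroup.centralizer (P : Set G)) φ') c := by
    rw [Finset.sum_subtype (Finset.univ.filter
      (fun x : G => x ∈ Subgroup.centralizer (P : Set G)))
      (p := fun g => g ∈ Subgroup.centralizer (P : Set G)) (by simp)]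
    unfold conv
    refine Finset.sum_congr rfl fun x _ => ?_
    rfl
  rw [h3] at h1
  exact h1

end Cfsg.Agent.Lib.Helper78_ExtConv
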