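import Mathlib
import Cfsg.Prelude.Def_Blocks
import Cfsg.Agent.Lib.Helper78_LocalRing
import Cfsg.Agent.Lib.Helper78_CentralChar
import Cfsg.Agent.Lib.Helper78_Osima
import Cfsg.Agent.Lib.Helper78_CharFacts
import Cfsg.Agent.Lib.Helper78_AlgHom
import Cfsg.Agent.Lib.Helper78_BrauerMap
import Cfsg.Agent.Lib.Helper78_BrDecomp
import Cfsg.Agent.Lib.Helper78_PRegSum
import Cfsg.Agent.Lib.Helper78_ExtConv
import Cfsg.Agent.Lib.Helper77_WeakOrth
import Cfsg.Agent.Lib.Helper77_MatrixLocal
import Cfsg.Agent.Lib.Helper77_PermTrace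
import Cfsg.Agent.Lib.Helper16_BlockOrth
import Cfsg.Agent.Lib.Helper16_BadTrace
import Cfsg.Agent.Lib.Helper16_Vanish

/-!
# Brauer's Second Main Theorem, idempotent form: the local part (helper78)

Let `b` be a block of `H ≤ G` inducing the block `B` of `G`, `P ≤ H` a `p`-subgroup with
`C_G(P) ≤ H`, and `χ` an irreducible character of `G` outside `B`.  Then the element
`f_b * e_{B(χ)}` of the group algebra has all its coefficients on `C_G(P)` in the local ideal
(`conv_ext_blockCoeff_mem`).
-/

set_option autoImplicit false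
set_option linter.unusedSectionVars false

namespace Cfsg.Agent.Lib.Helper78_SecondMain

open Cfsg Cfsg.Agent.Lib.Helper78_LocalRing Cfsg.Agent.Lib.Helper78_CentralChar
  Cfsg.Agent.Lib.Helper78_Osima Cfsg.Agent.Lib.Helper78_CharFacts
  Cfsg.Agent.Lib.Helper78_BrauerMap Cfsg.Agent.Lib.Helper78_AlgHom
  Cfsg.Agent.Lib.Helper78_BrDecomp Cfsg.Agent.Lib.Helper78_ExtConv
  Cfsg.Agent.Lib.Helper78_PRegSum Cfsg.Agent.Lib.Helper77_WeakOrth
  Cfsg.Agent.Lib.Helper77_MatrixLocal Cfsg.Agent.Lib.Helper77_PermTrace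
  Cfsg.Agent.Lib.Helper16_BlockOrth Cfsg.Agent.Lib.Helper16_BadTrace
  Cfsg.Agent.Lib.Helper16_Vanish

universe u

variable {G : Type u} [Group G] {M : Ideal AlgInt} {p : ℕ}

theorem eq_of_emat_eq [Fintype G] [DecidableEq G] {a a' : G → ℂ}
    (h : Cfsg.Agent.Lib.Helper77_WeakOrth.emat a = Cfsg.Agent.Lib.Helper77_WeakOrth.emat a') :
    a = a' := by
  funext g
  have := congrFun (congrFun h g) 1
  unfold Cfsg.Agent.Lib.Helper77_WeakOrth.emat at this
  simpa using this

theorem omega_add [Fintype G] (χ f f' : G → ℂ) :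
    omega χ (f + f') = omega χ f + omega χ f' := by
  unfold omega
  rw [← add_div, ← Finset.sum_add_distrib]
  congr 1
  refine Finset.sum_congr rfl fun h _ => ?_
  simp only [Pi.add_apply]
  ring

theorem br_eq_res (P : Subgroup G) (z : G → ℂ) :
    br P (Subgroup.centralizer (P : Set G)) z = res (Subgroup.centralizer (P : Set G)) z := by
  funext c
  exact br_apply_of_mem z c.2

/-- The irreducible character of `G` attached to an irreducible character of `C_G(P)`. -/
theorem exists_irr_res [Fintype G] (hM : IsPModular p M) (P : Subgroup G) (hP : IsPGroup p P)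
    [Fintype (Subgroup.centralizer (P : Set G))]
    (ψ : IrrCharacter (Subgroup.centralizer (P : Set G))) :
    ∃ χ' : IrrCharacter G, ∀ z : G → ℂ, IsClassFunction G z → (∀ g, MemLocalRing M (z g)) →
      MemLocalIdeal M (omega (ψ : Subgroup.centralizer (P : Set G) → ℂ)
        (res (Subgroup.centralizer (P : Set G)) z) - omega (χ' : G → ℂ) z) := by
  obtain ⟨χ', h⟩ := exists_irr_brauer hM hP (le_refl _)
    (Subgroup.centralizer_le_normalizer (P : Set G)) ψ.2
  refine ⟨χ', fun z hz hzR => ?_⟩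
  have := h z hz hzR
  rwa [br_eq_res] at this

/-- The irreducible character of `H ⊇ C_G(P)` attached to an irreducible character of
`C_G(P)`. -/
theorem exists_irr_res_ext [Fintype G] (hM : IsPModular p M) (P : Subgroup G)
    (hP : IsPGroup p P) [Fintype (Subgroup.centralizer (P : Set G))]
    (H : Subgroup G) [Fintype H] (hPH : P ≤ H) (hCH : Subgroup.centralizer (P : Set G) ≤ H)
    (ψ : IrrCharacter (Subgroup.centralizer (P : Set G))) :
    ∃ ξ : IrrCharacter H, ∀ φ : H → ℂ, IsClassFunction H φ → (∀ h, MemLocalRing M (φ h)) →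
      MemLocalIdeal M (omega (ψ : Subgroup.centralizer (P : Set G) → ℂ)
        (res (Subgroup.centralizer (P : Set G)) (ext H φ)) - omega (ξ : H → ℂ) φ) := by
  classical
  have hMp := isPrime_of_isPModular hM
  have hcl : ∀ φ : H → ℂ, IsClassFunction H φ →
      IsClassFunction (Subgroup.centralizer (P : Set G))
        (res (Subgroup.centralizer (P : Set G)) (ext H φ)) := by
    intro φ hφ
    exact res_isClassFunction _ (fun q hq x => ext_conj H hφ (hCH hq) x)
  refine exists_irr_of_multiplicative Cfsg.Agent.Lib.Helper78_CharFacts.charFacts hMp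
    (fun φ => omega (ψ : Subgroup.centralizer (P : Set G) → ℂ)
      (res (Subgroup.centralizer (P : Set G)) (ext H φ))) ?_ ?_ ?_ ?_ ?_
  · intro φ φ'
    show omega _ (res _ (ext H (φ + φ'))) = _
    rw [ext_add]
    exact omega_add _ _ _
  · intro r φ
    show omega _ (res _ (ext H (fun h => r * φ h))) = _
    rw [ext_smul]
    exact omega_smul _ _ r
  · intro φ hφ hφR
    exact memLocalRing_omega hMp ψ.2 (hcl φ hφ)
      (res_memLocalRing _ (ext_memLocalRing hMp H hφR))
  · intro φ φ' hφ hφR hφ' hφ'R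
    show MemLocalIdeal M (omega _ (res _ (ext H (conv φ φ'))) -
      omega _ (res _ (ext H φ)) * omega _ (res _ (ext H φ')))
    rw [← ext_conv, ← omega_conv ψ.2 _ (hcl φ' hφ'), ← omega_sub]
    refine memLocalIdeal_omega_of_pointwise hMp ψ.2 ?_ ?_
    · refine sub_isClassFunction ?_ (conv_isClassFunction (hcl φ hφ) (hcl φ' hφ'))
      refine res_isClassFunction _ (fun q hq x => ?_)
      exact conv_conj_invariant (fun x => ext_conj H hφ (hCH hq) x)
        (fun x => ext_conj H hφ' (hCH hq) x) x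
    · intro c
      exact res_conv_mem hM P hP (fun q hq x => ext_conj H hφ (hPH hq) x)
        (fun q hq x => ext_conj H hφ' (hPH hq) x) (ext_memLocalRing hMp H hφR)
        (ext_memLocalRing hMp H hφ'R) c
  · show omega _ (res _ (ext H (classIndicator (1 : H)))) = 1
    rw [ext_classIndicator_one]
    have : res (Subgroup.centralizer (P : Set G)) (classIndicator (1 : G)) =
        classIndicator (1 : Subgroup.centralizer (P : Set G)) := by
      rw [← br_eq_res, br_classIndicator_one]
    rw [this]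
    exact omega_classIndicator_one ψ.2

/-- The restriction to `H` of a class function of `G`. -/
theorem restrict_isClassFunction (H : Subgroup G) {z : G → ℂ} (hz : IsClassFunction G z) :
    IsClassFunction H (fun h : H => z h) := by
  intro h k
  show z ((k * h * k⁻¹ : H) : G) = z h
  push_cast
  exact hz h k

theorem res_ext_restrict (H C : Subgroup G) (hCH : C ≤ H) (z : G → ℂ) :
    res C (ext H (fun h : H => z h)) = res C z := by
  funext c
  show ext H (fun h : H => z h) (c : G) = z c
  rw [ext_of_mem H _ (hCH c.2)]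

/-- **Key local statement.**  If `b` induces `B` and `χ ∉ B`, the coefficients of
`f_b * e_{B(χ)}` on `C_G(P)` lie in the local ideal. -/
theorem conv_ext_blockCoeff_mem [Fintype G] (hM : IsPModular p M) (H : Subgroup G) [Fintype H]
    {b : Set (IrrCharacter H)} {B : Set (IrrCharacter G)} (hind : IsInducedBlock M H b B)
    (χ : IrrCharacter G) (hχ : χ ∉ B) (P : Subgroup G) (hP : IsPGroup p P) (hPH : P ≤ H)
    (hCH : Subgroup.centralizer (P : Set G) ≤ H) {c : G}
    (hc : c ∈ Subgroup.centralizer (P : Set G)) :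
    MemLocalIdeal M (conv (ext H (blockCoeff b)) (blockCoeff (blockOf M (χ : G → ℂ))) c) := by
  classical
  have hMp := isPrime_of_isPModular hM
  have hcG := Cfsg.Agent.Lib.Helper78_CharFacts.charFacts (G := G)
  have hcH := Cfsg.Agent.Lib.Helper78_CharFacts.charFacts (G := H)
  have := Fintype.ofFinite (Subgroup.centralizer (P : Set G))
  have hcC := Cfsg.Agent.Lib.Helper78_CharFacts.charFacts
    (G := Subgroup.centralizer (P : Set G))
  obtain ⟨hb, hB, hcong⟩ := hind
  have hB' : IsPBlock M (blockOf M (χ : G → ℂ)) := isPBlock_blockOf χ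
  set e : G → ℂ := blockCoeff (blockOf M (χ : G → ℂ)) with he
  set f : H → ℂ := blockCoeff b with hf
  have hec : IsClassFunction G e := blockCoeff_isClassFunction _
  have heR : ∀ g, MemLocalRing M (e g) := osima_block hcG hMp hB'
  have hfc : IsClassFunction H f := blockCoeff_isClassFunction _
  have hfR : ∀ h, MemLocalRing M (f h) := osima_block hcH hMp hb
  have hee : conv e e = e := conv_blockCoeff_self hcG _
  have hff : conv f f = f := conv_blockCoeff_self hcH _
  set ft : G → ℂ := ext H f with hft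
  have hftR : ∀ g, MemLocalRing M (ft g) := ext_memLocalRing hMp H hfR
  have hftinv : ∀ q ∈ H, ∀ x, ft (q * x * q⁻¹) = ft x := fun q hq x => ext_conj H hfc hq x
  have heinv : ∀ q : G, ∀ x, e (q * x * q⁻¹) = e x := fun q x => hec x q
  have hftft : conv ft ft = ft := by rw [hft, ext_conv, hff]
  set A : G → ℂ := conv ft e with hA
  have hAR : ∀ g, MemLocalRing M (A g) := conv_memLocalRing hMp hftR heR
  have hAinv : ∀ q ∈ H, ∀ x, A (q * x * q⁻¹) = A x := fun q hq x =>
    conv_conj_invariant (hftinv q hq) (heinv q) x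
  -- `A` is idempotent
  have hAA : conv A A = A := by
    have h1 : conv e ft = conv ft e := conv_comm_of_isClassFunction hec ft
    apply eq_of_emat_eq
    rw [← emat_mul_emat, hA, ← emat_mul_emat]
    calc emat e * emat ft * (emat e * emat ft)
        = emat e * (emat ft * emat e) * emat ft := by simp only [mul_assoc]
      _ = emat e * (emat e * emat ft) * emat ft := by
          rw [emat_mul_emat ft e, emat_mul_emat e ft, h1]
      _ = (emat e * emat e) * (emat ft * emat ft) := by simp only [mul_assoc]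
      _ = emat e * emat ft := by rw [emat_mul_emat e e, emat_mul_emat ft ft, hee, hftft]
  -- the restriction to the centralizer
  set u : Subgroup.centralizer (P : Set G) → ℂ := res _ A with hu
  have huc : IsClassFunction _ u := res_isClassFunction _ (fun q hq x => hAinv q (hCH hq) x)
  have huR : ∀ c, MemLocalRing M (u c) := res_memLocalRing _ hAR
  have hidem : ∀ c, MemLocalIdeal M (conv u u c - u c) := by
    intro c
    have h1 := res_conv_mem hM P hP (fun q hq x => hAinv q (hPH hq) x)
      (fun q hq x => hAinv q (hPH hq) x) hAR hAR c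
    rw [hAA] at h1
    have := memLocalIdeal_neg h1
    rwa [neg_sub] at this
  have hrc : IsClassFunction _ (res (Subgroup.centralizer (P : Set G)) ft) :=
    res_isClassFunction _ (fun q hq x => hftinv q (hCH hq) x)
  have hec' : IsClassFunction _ (res (Subgroup.centralizer (P : Set G)) e) :=
    res_isClassFunction _ (fun q _ x => heinv q x)
  have hrad : ∀ ψ : IrrCharacter (Subgroup.centralizer (P : Set G)),
      MemLocalIdeal M (omega (ψ : Subgroup.centralizer (P : Set G) → ℂ) u) := by
    intro ψ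
    -- `ω_ψ(u) ≡ ω_ψ(ft|_C) ω_ψ(e|_C)`
    have h1 : MemLocalIdeal M (omega (ψ : Subgroup.centralizer (P : Set G) → ℂ) u -
        omega (ψ : Subgroup.centralizer (P : Set G) → ℂ) (res _ ft) *
          omega (ψ : Subgroup.centralizer (P : Set G) → ℂ) (res _ e)) := by
      rw [← omega_conv ψ.2 _ hec', ← omega_sub]
      refine memLocalIdeal_omega_of_pointwise hMp ψ.2 ?_ ?_
      · exact sub_isClassFunction huc (conv_isClassFunction hrc hec')
      · intro c
        exact res_conv_mem hM P hP (fun q hq x => hftinv q (hPH hq) x)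
          (fun q _ x => heinv q x) hftR heR c
    have hR1 : MemLocalRing M (omega (ψ : Subgroup.centralizer (P : Set G) → ℂ) (res _ ft)) :=
      memLocalRing_omega hMp ψ.2 hrc (res_memLocalRing _ hftR)
    have hR2 : MemLocalRing M (omega (ψ : Subgroup.centralizer (P : Set G) → ℂ) (res _ e)) :=
      memLocalRing_omega hMp ψ.2 hec' (res_memLocalRing _ heR)
    by_contra hcon
    have hprod : ¬ MemLocalIdeal M
        (omega (ψ : Subgroup.centralizer (P : Set G) → ℂ) (res _ ft) *
          omega (ψ : Subgroup.centralizer (P : Set G) → ℂ) (res _ e)) := by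
      intro h
      apply hcon
      have := memLocalIdeal_add hMp h1 h
      rwa [sub_add_cancel] at this
    have hn1 : ¬ MemLocalIdeal M
        (omega (ψ : Subgroup.centralizer (P : Set G) → ℂ) (res _ ft)) := fun h =>
      hprod (memLocalIdeal_mul_right hMp h hR2)
    have hn2 : ¬ MemLocalIdeal M
        (omega (ψ : Subgroup.centralizer (P : Set G) → ℂ) (res _ e)) := fun h =>
      hprod (memLocalIdeal_mul_left hMp hR1 h)
    obtain ⟨χ', hχ'⟩ := exists_irr_res hM P hP ψ
    obtain ⟨ξ, hξ⟩ := exists_irr_res_ext hM P hP H hPH hCH ψ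
    -- `χ'` lies in the block of `χ`
    have hχ'B : χ' ∈ blockOf M (χ : G → ℂ) := by
      by_contra hne
      have h2 := hχ' e hec heR
      rw [he, omega_blockCoeff hcG, Set.indicator_of_notMem hne, sub_zero] at h2
      exact hn2 h2
    -- `ξ` lies in `b`
    have hξb : ξ ∈ b := by
      by_contra hne
      have h2 := hξ f hfc hfR
      rw [hf, omega_blockCoeff hcH, Set.indicator_of_notMem hne, sub_zero] at h2
      exact hn1 h2
    -- `χ'` lies in `B`
    obtain ⟨χ₀, hχ₀⟩ := isPBlock_nonempty hMp hB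
    have hsb : SameBlock M (χ₀ : G → ℂ) (χ' : G → ℂ) := by
      intro g
      have hzc := classIndicator_isClassFunction g
      have hzR := memLocalRing_classIndicator (M := M) hMp g
      have e1 := hχ' (classIndicator g) hzc hzR
      have e2 := hξ (fun h : H => classIndicator g (h : G)) (restrict_isClassFunction H hzc)
        (fun h => hzR _)
      rw [res_ext_restrict H _ hCH] at e2
      have e3 := memLocalIdeal_omega_restrict_sub hMp H (ξ : H → ℂ)
        (isIrrCharacter_isClassFunction χ₀.2) (fun g => hcong ξ hξb χ₀ hχ₀ g) hzc hzR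
      rw [omega_classIndicator (isIrrCharacter_isClassFunction χ'.2)] at e1
      rw [omega_classIndicator (isIrrCharacter_isClassFunction χ₀.2)] at e3
      -- e1 : ω_ψ(z|_C) - cc χ' g ; e2 : ω_ψ(z|_C) - ω_ξ(z|_H) ; e3 : ω_ξ(z|_H) - cc χ₀ g
      have e4 := memLocalIdeal_sub hMp (memLocalIdeal_add hMp e2 e3) e1
      have : omega (ψ : Subgroup.centralizer (P : Set G) → ℂ)
            (res (Subgroup.centralizer (P : Set G)) (classIndicator g)) -
          omega (ξ : H → ℂ) (fun h : H => classIndicator g (h : G)) +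
          (omega (ξ : H → ℂ) (fun h : H => classIndicator g (h : G)) -
            centralChar (χ₀ : G → ℂ) g) -
          (omega (ψ : Subgroup.centralizer (P : Set G) → ℂ)
            (res (Subgroup.centralizer (P : Set G)) (classIndicator g)) -
            centralChar (χ' : G → ℂ) g) =
          -(centralChar (χ₀ : G → ℂ) g - centralChar (χ' : G → ℂ) g) := by ring
      rw [this] at e4
      have := memLocalIdeal_neg e4
      rwa [neg_neg] at this
    have hχ'inB : χ' ∈ B := isPBlock_mem_of_sameBlock hMp hB hχ₀ hsb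
    have hχinB : χ ∈ B := by
      have h3 : SameBlock M (χ' : G → ℂ) (χ : G → ℂ) := sameBlock_symm hχ'B
      exact isPBlock_mem_of_sameBlock hMp hB hχ'inB h3
    exact hχ hχinB
  have := pointwise_mem_of_idem hcC hMp huc huR hidem hrad ⟨c, hc⟩
  exact this

/-- `f_b * e` is idempotent when `f_b` and `e` are, `e` central. -/
theorem conv_ext_idem [Fintype G] [DecidableEq G] (H : Subgroup G) [Fintype H] {f : H → ℂ}
    (hff : conv f f = f) {e : G → ℂ} (hec : IsClassFunction G e) (hee : conv e e = e) :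
    conv (conv (ext H f) e) (conv (ext H f) e) = conv (ext H f) e := by
  have hftft : conv (ext H f) (ext H f) = ext H f := by rw [ext_conv, hff]
  have h1 : conv e (ext H f) = conv (ext H f) e := conv_comm_of_isClassFunction hec _
  apply eq_of_emat_eq
  rw [← emat_mul_emat, ← emat_mul_emat]
  calc emat e * emat (ext H f) * (emat e * emat (ext H f))
      = emat e * (emat (ext H f) * emat e) * emat (ext H f) := by simp only [mul_assoc]
    _ = emat e * (emat e * emat (ext H f)) * emat (ext H f) := by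
        rw [emat_mul_emat (ext H f) e, emat_mul_emat e (ext H f), h1]
    _ = (emat e * emat e) * (emat (ext H f) * emat (ext H f)) := by simp only [mul_assoc]
    _ = emat e * emat (ext H f) := by
        rw [emat_mul_emat e e, emat_mul_emat (ext H f) (ext H f), hee, hftft]

theorem pmat_twoSided_comm_emat' [Fintype G] [DecidableEq G] (x y : G) {a : G → ℂ}
    (ha : ∀ t, a (y * t * y⁻¹) = a t) :
    pmat (twoSided x y) * emat a = emat a * pmat (twoSided x y) := by
  ext h g
  rw [pmat_mul_apply, mul_pmat_apply]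
  unfold emat
  show a (g⁻¹ * (x⁻¹ * h * y)) = a ((x * g * y⁻¹)⁻¹ * h)
  have : (x * g * y⁻¹)⁻¹ * h = y * (g⁻¹ * (x⁻¹ * h * y)) * y⁻¹ := by group
  rw [this, ha]

/-- The trace computation: for every `g₀`, `∑_v A(h v⁻¹ g₀⁻¹ v) = 0`. -/
theorem sum_conv_twoSided_eq_zero [Fintype G] [DecidableEq G] (hM : IsPModular p M)
    (H : Subgroup G) [Fintype H]
    {b : Set (IrrCharacter H)} {B : Set (IrrCharacter G)} (hind : IsInducedBlock M H b B)
    (χ : IrrCharacter G) (hχ : χ ∉ B) {h y : G} (hh : h ∈ H) (hy : IsPPart p h y)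
    (hCH : Subgroup.centralizer ({y} : Set G) ≤ H) (g₀ : G) :
    ∑ v : G, conv (ext H (blockCoeff b)) (blockCoeff (blockOf M (χ : G → ℂ)))
      (h * (v⁻¹ * g₀⁻¹ * v)) = 0 := by
  have hMp := isPrime_of_isPModular hM
  have hcG := Cfsg.Agent.Lib.Helper78_CharFacts.charFacts (G := G)
  have hcH := Cfsg.Agent.Lib.Helper78_CharFacts.charFacts (G := H)
  obtain ⟨x, hx⟩ := exists_isPPart hM.1 g₀
  have hb := hind.1
  have hB' : IsPBlock M (blockOf M (χ : G → ℂ)) := isPBlock_blockOf χ
  have hec : IsClassFunction G (blockCoeff (blockOf M (χ : G → ℂ))) :=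
    blockCoeff_isClassFunction _
  have heR : ∀ g, MemLocalRing M (blockCoeff (blockOf M (χ : G → ℂ)) g) :=
    osima_block hcG hMp hB'
  have hfc : IsClassFunction H (blockCoeff b) := blockCoeff_isClassFunction _
  have hfR : ∀ h, MemLocalRing M (blockCoeff b h) := osima_block hcH hMp hb
  have hyH : y ∈ H := hCH (Subgroup.mem_centralizer_iff.mpr (fun k hk => by
    rw [Set.mem_singleton_iff] at hk
    rw [hk]))
  set A : G → ℂ := conv (ext H (blockCoeff b)) (blockCoeff (blockOf M (χ : G → ℂ))) with hA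
  have hAinv : ∀ q ∈ H, ∀ t, A (q * t * q⁻¹) = A t := fun q hq t =>
    conv_conj_invariant (fun t => ext_conj H hfc hq t) (fun t => hec t q) t
  have hAR : ∀ g, MemLocalRing M (A g) :=
    conv_memLocalRing hMp (ext_memLocalRing hMp H hfR) heR
  have hAA : conv A A = A :=
    conv_ext_idem H (Cfsg.Agent.Lib.Helper78_AlgHom.conv_blockCoeff_self hcH b) hec
      (Cfsg.Agent.Lib.Helper78_AlgHom.conv_blockCoeff_self hcG _)
  -- the p-subgroup generated by `y`
  have hyp : IsPGroup p (Subgroup.zpowers y) := by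
    obtain ⟨w, -, -, ⟨k, hk⟩, -⟩ := hy
    exact IsPGroup.of_card_dvd_pow (n := k) (by rw [Nat.card_zpowers, hk])
  have hPH : Subgroup.zpowers y ≤ H := by
    rw [Subgroup.zpowers_le]
    exact hyH
  have hCP : Subgroup.centralizer ((Subgroup.zpowers y : Subgroup G) : Set G) ≤ H := by
    refine le_trans (Subgroup.centralizer_le ?_) hCH
    intro k hk
    rw [Set.mem_singleton_iff] at hk
    rw [hk]
    exact Subgroup.mem_zpowers y
  have hxg := commute_of_isPPart hx
  have hyh := commute_of_isPPart hy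
  rw [← trace_pmat_twoSided_mul_emat]
  apply trace_pmat_mul_idempotent_eq_zero_of_bad hM (twoSided g₀ h) (fun k => x * k = k * y)
  · -- (copied from helper16's `orthogonality_of_bad`)
    intro k
    rw [twoSided_apply]
    have hyh' : y * h⁻¹ = h⁻¹ * y := by
      calc y * h⁻¹ = h⁻¹ * (h * y) * h⁻¹ := by group
        _ = h⁻¹ * (y * h) * h⁻¹ := by rw [hyh]
        _ = h⁻¹ * y := by group
    constructor
    · intro hk
      have h1 : g₀ * (x * k) * h⁻¹ = g₀ * (k * y) * h⁻¹ := by
        calc g₀ * (x * k) * h⁻¹ = (g₀ * x) * k * h⁻¹ := by group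
          _ = x * (g₀ * k * h⁻¹) := by rw [← hxg]; group
          _ = g₀ * k * h⁻¹ * y := hk
          _ = g₀ * k * (h⁻¹ * y) := by group
          _ = g₀ * k * (y * h⁻¹) := by rw [hyh']
          _ = g₀ * (k * y) * h⁻¹ := by group
      exact mul_left_cancel (mul_right_cancel h1)
    · intro hk
      calc x * (g₀ * k * h⁻¹) = (x * g₀) * k * h⁻¹ := by group
        _ = g₀ * (x * k) * h⁻¹ := by rw [hxg]; group
        _ = g₀ * (k * y) * h⁻¹ := by rw [hk]
        _ = g₀ * k * (y * h⁻¹) := by group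
        _ = g₀ * k * (h⁻¹ * y) := by rw [hyh']
        _ = g₀ * k * h⁻¹ * y := by group
  · intro j a ha hfix
    by_contra hpj
    exact ha (twoSided_fixed_imp hM.1 hx hy j a hfix hpj)
  · rw [emat_mul_emat, hAA]
  · intro i j
    exact hAR _
  · exact pmat_twoSided_comm_emat' g₀ h (fun t => hAinv h hh t)
  · intro a c ha hc
    show MemLocalIdeal M (A (c⁻¹ * a))
    rw [hA]
    apply conv_ext_blockCoeff_mem hM H hind χ hχ (Subgroup.zpowers y) hyp hPH hCP
    -- `c⁻¹ a` centralizes `y`
    have hcomm : Commute y (c⁻¹ * a) := by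
      show y * (c⁻¹ * a) = c⁻¹ * a * y
      have hc' : c⁻¹ * x = y * c⁻¹ := by
        calc c⁻¹ * x = c⁻¹ * (x * c) * c⁻¹ := by group
          _ = c⁻¹ * (c * y) * c⁻¹ := by rw [hc]
          _ = y * c⁻¹ := by group
      calc y * (c⁻¹ * a) = (y * c⁻¹) * a := by group
        _ = (c⁻¹ * x) * a := by rw [hc']
        _ = c⁻¹ * (x * a) := by group
        _ = c⁻¹ * (a * y) := by rw [ha]
        _ = c⁻¹ * a * y := by group
    rw [Subgroup.mem_centralizer_iff]
    intro k hk
    obtain ⟨n, rfl⟩ := Subgroup.mem_zpowers_iff.mp hk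
    exact (hcomm.zpow_left n).eq

/-- `∑_{k ∈ H} a_b(k) χ(h⁻¹ k) = 0` for `χ ∉ B = b^G`, `h ∈ H`, `C_G(h_p) ≤ H`. -/
theorem sum_blockCoeff_mul_irr_eq_zero [Fintype G] [DecidableEq G] (hM : IsPModular p M)
    (H : Subgroup G) [Fintype H]
    {b : Set (IrrCharacter H)} {B : Set (IrrCharacter G)} (hind : IsInducedBlock M H b B)
    (χ : IrrCharacter G) (hχ : χ ∉ B) {h y : G} (hh : h ∈ H) (hy : IsPPart p h y)
    (hCH : Subgroup.centralizer ({y} : Set G) ≤ H) :
    ∑ k : H, blockCoeff b k * (χ : G → ℂ) (h⁻¹ * (k : G)) = 0 := by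
  have hMp := isPrime_of_isPModular hM
  have hcG := Cfsg.Agent.Lib.Helper78_CharFacts.charFacts (G := G)
  have hχc := isIrrCharacter_isClassFunction χ.2
  have hec : IsClassFunction G (blockCoeff (blockOf M (χ : G → ℂ))) :=
    blockCoeff_isClassFunction _
  set A : G → ℂ := conv (ext H (blockCoeff b)) (blockCoeff (blockOf M (χ : G → ℂ))) with hA
  have hT : ∀ g₀ : G, ∑ v : G, A (h * (v⁻¹ * g₀⁻¹ * v)) = 0 := fun g₀ =>
    sum_conv_twoSided_eq_zero hM H hind χ hχ hh hy hCH g₀
  -- Step 1
  have hS : ∑ t : G, A (h * t) * (χ : G → ℂ) t = 0 := by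
    have h1 : ∑ g₀ : G, (χ : G → ℂ) g₀⁻¹ * ∑ v : G, A (h * (v⁻¹ * g₀⁻¹ * v)) = 0 := by
      refine Finset.sum_eq_zero fun g₀ _ => ?_
      rw [hT g₀, mul_zero]
    have h2 : ∑ g₀ : G, (χ : G → ℂ) g₀⁻¹ * ∑ v : G, A (h * (v⁻¹ * g₀⁻¹ * v)) =
        ∑ v : G, ∑ t : G, A (h * t) * (χ : G → ℂ) t := by
      simp_rw [Finset.mul_sum]
      rw [Finset.sum_comm]
      refine Finset.sum_congr rfl fun v _ => ?_
      rw [← Equiv.sum_comp ((Equiv.inv G).trans (MulAut.conj v).toEquiv)]
      refine Finset.sum_congr rfl fun t _ => ?_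
      simp only [Equiv.trans_apply, Equiv.inv_apply, MulEquiv.toEquiv_eq_coe, EquivLike.coe_coe,
        MulAut.conj_apply]
      have e1 : (v * t⁻¹ * v⁻¹)⁻¹ = v * t * v⁻¹ := by group
      have e2 : v⁻¹ * (v * t * v⁻¹) * v = t := by group
      rw [e1, e2, hχc t v, mul_comm]
    rw [h2, Finset.sum_const, Finset.card_univ, nsmul_eq_mul] at h1
    have hG : (Fintype.card G : ℂ) ≠ 0 := by
      exact_mod_cast Fintype.card_ne_zero
    exact (mul_eq_zero.mp h1).resolve_left hG
  -- Step 2
  have hom : omega (χ : G → ℂ) (blockCoeff (blockOf M (χ : G → ℂ))) = 1 := by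
    rw [omega_blockCoeff hcG, Set.indicator_of_mem (mem_blockOf_self hMp χ)]
  have hS2 : ∑ t : G, A (h * t) * (χ : G → ℂ) t =
      ∑ x : G, ext H (blockCoeff b) x * (χ : G → ℂ) (h⁻¹ * x) := by
    have h1 : ∀ t : G, A (h * t) * (χ : G → ℂ) t =
        ∑ x : G, ext H (blockCoeff b) x *
          (blockCoeff (blockOf M (χ : G → ℂ)) (x⁻¹ * (h * t)) * (χ : G → ℂ) t) := by
      intro t
      rw [hA]
      unfold conv
      rw [Finset.sum_mul]
      refine Finset.sum_congr rfl fun x _ => ?_
      ring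
    simp_rw [h1]
    rw [Finset.sum_comm]
    refine Finset.sum_congr rfl fun x _ => ?_
    rw [← Finset.mul_sum]
    congr 1
    rw [← Equiv.sum_comp (Equiv.mulLeft (h⁻¹ * x))]
    have h2 : ∀ s : G, blockCoeff (blockOf M (χ : G → ℂ))
        (x⁻¹ * (h * (Equiv.mulLeft (h⁻¹ * x)) s)) * (χ : G → ℂ) ((Equiv.mulLeft (h⁻¹ * x)) s) =
        blockCoeff (blockOf M (χ : G → ℂ)) s * (χ : G → ℂ) (h⁻¹ * x * s) := by
      intro s
      simp only [Equiv.coe_mulLeft]
      have : x⁻¹ * (h * (h⁻¹ * x * s)) = s := by group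
      rw [this]
    simp_rw [h2]
    rw [sum_mul_shift χ.2 hec (h⁻¹ * x)]
    have h3 : (∑ y : G, blockCoeff (blockOf M (χ : G → ℂ)) y * (χ : G → ℂ) y) /
        (χ : G → ℂ) 1 = 1 := hom
    rw [h3, mul_one]
  rw [hS2, sum_ext_mul H (blockCoeff b) (fun x => (χ : G → ℂ) (h⁻¹ * x))] at hS
  exact hS

theorem isPPart_inv {g x : G} (h : IsPPart p g⁻¹ x) : IsPPart p g x⁻¹ := by
  obtain ⟨w, h1, h2, ⟨k, hk⟩, h4⟩ := h
  refine ⟨w⁻¹, ?_, h2.inv_inv, ⟨k, by rw [orderOf_inv, hk]⟩, by rw [orderOf_inv]; exact h4⟩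
  have : g = (x * w)⁻¹ := by rw [h1, inv_inv]
  rw [this, mul_inv_rev, h2.inv_inv.eq]

/-- **Brauer's Second Main Theorem, idempotent form.** -/
theorem second_main_idempotent [Finite G] [Fact p.Prime] (hM : IsPModular p M) (H : Subgroup G)
    (b : Set (IrrCharacter H)) (B : Set (IrrCharacter G)) (hind : IsInducedBlock M H b B)
    (h : H)
    (hC : ∀ z : G, IsPPart p (h : G) z → Subgroup.centralizer ({z} : Set G) ≤ H)
    (χ : IrrCharacter G) (hχ : χ ∉ B) :
    ∑ᶠ k : H, blockCoeff b k * (χ : G → ℂ) ((k : G) * (h : G)) = 0 := by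
  classical
  have := Fintype.ofFinite G
  have := Fintype.ofFinite H
  have hχc := isIrrCharacter_isClassFunction χ.2
  obtain ⟨y', hy'⟩ := exists_isPPart hM.1 ((h : G)⁻¹)
  have hy : IsPPart p (h : G) y'⁻¹ := isPPart_inv hy'
  have hCH : Subgroup.centralizer ({y'} : Set G) ≤ H := by
    refine le_trans ?_ (hC _ hy)
    intro c hc
    rw [Subgroup.mem_centralizer_iff] at hc ⊢
    intro k hk
    rw [Set.mem_singleton_iff] at hk
    have h1 := hc y' (Set.mem_singleton _)
    rw [hk]
    calc y'⁻¹ * c = y'⁻¹ * (c * y') * y'⁻¹ := by group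
      _ = y'⁻¹ * (y' * c) * y'⁻¹ := by rw [h1]
      _ = c * y'⁻¹ := by group
  have key := sum_blockCoeff_mul_irr_eq_zero hM H hind χ hχ (H.inv_mem h.2) hy' hCH
  rw [finsum_eq_sum_of_fintype, ← key]
  refine Finset.sum_congr rfl fun k _ => ?_
  congr 1
  rw [inv_inv]
  have : (k : G) * (h : G) = (h : G)⁻¹ * ((h : G) * (k : G)) * ((h : G)⁻¹)⁻¹ := by group
  rw [this, hχc]

end Cfsg.Agent.Lib.Helper78_SecondMain
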