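import Mathlib
import Cfsg.Prelude.Def_Blocks
import Cfsg.Agent.Lib.Helper78_LocalRing
import Cfsg.Agent.Lib.Helper78_CentralChar
import Cfsg.Agent.Lib.Helper78_Osima
import Cfsg.Agent.Lib.Helper78_CharFacts
import Cfsg.Agent.Lib.Helper78_BrauerMap
import Cfsg.Agent.Lib.Helper78_SecondMain
import Cfsg.Agent.Lib.Helper80_CharBasic
import Cfsg.Agent.Lib.Helper16_BlockOrth

/-!
# Brauer's Second Main Theorem in terms of ordinary characters (helper78)

* `isPPart_unique`: the `p`-part of an element is unique.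
* `blockPart_eq_sum_blockCoeff`: `(ϑ_S)(y) = ∑_k a_S(k) ϑ(k y)` for a class function `ϑ`.
* `second_main_char`: the Second Main Theorem (generalized decomposition numbers vanish outside the
  Brauer correspondents).
-/

set_option autoImplicit false
set_option linter.unusedSectionVars false

namespace Cfsg.Agent.Lib.Helper78_SecondMainChar

open Cfsg Cfsg.Agent.Lib.Helper78_LocalRing Cfsg.Agent.Lib.Helper78_CentralChar
  Cfsg.Agent.Lib.Helper78_Osima Cfsg.Agent.Lib.Helper78_CharFacts
  Cfsg.Agent.Lib.Helper78_BrauerMap Cfsg.Agent.Lib.Helper78_SecondMain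
  Cfsg.Agent.Lib.Helper16_BlockOrth

open scoped ComplexConjugate

universe u

variable {G : Type u} [Group G] {M : Ideal AlgInt} {p : ℕ}

/-- The `p`-part of an element of a finite group is unique. -/
theorem isPPart_unique [Finite G] (hp : p.Prime) {g x z : G} (hx : IsPPart p g x)
    (hz : IsPPart p g z) : x = z := by
  obtain ⟨y, hxy, hcxy, ⟨k1, hk1⟩, hy⟩ := hx
  obtain ⟨w, hzw, hczw, ⟨k2, hk2⟩, hw⟩ := hz
  set n := orderOf y * orderOf w with hn
  set K := k1 + k2 + 1 with hK
  have hcop : Nat.Coprime n (p ^ K) := by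
    apply Nat.Coprime.pow_right
    rw [Nat.coprime_comm]
    apply (Nat.Prime.coprime_iff_not_dvd hp).mpr
    intro hd
    rcases (Nat.Prime.dvd_mul hp).mp hd with h | h
    · exact hy h
    · exact hw h
  have hlt : 1 < p ^ K := Nat.one_lt_pow (by omega) hp.one_lt
  obtain ⟨a, -, ha⟩ := Nat.exists_mul_mod_eq_one_of_coprime hcop hlt
  have hE : n * a = 1 + p ^ K * (n * a / p ^ K) := by
    have := Nat.div_add_mod (n * a) (p ^ K)
    rw [ha] at this
    omega
  set q := n * a / p ^ K with hq
  have h1 : g ^ (n * a) = x := by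
    apply pow_eq_of_ppart hxy hcxy (q := p ^ (k2 + 1) * q)
    · exact Dvd.dvd.mul_right (Dvd.intro _ rfl) a
    · rw [hE, hk1, hK]
      ring
  have h2 : g ^ (n * a) = z := by
    apply pow_eq_of_ppart hzw hczw (q := p ^ (k1 + 1) * q)
    · exact Dvd.dvd.mul_right (Dvd.intro_left _ rfl) a
    · rw [hE, hk2, hK]
      ring
  rw [← h1, h2]

/-- The `S`-part of a class function in terms of the idempotent coefficients. -/
theorem blockPart_eq_sum_blockCoeff {K : Type*} [Group K] [Finite K] (S : Set (IrrCharacter K))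
    {ϑ : K → ℂ} (hϑ : IsClassFunction K ϑ) (y : K) :
    blockPart S ϑ y = ∑ᶠ k : K, blockCoeff S k * ϑ (k * y) := by
  classical
  let _ : Fintype K := Fintype.ofFinite K
  have hfin : Finite (IrrCharacter K) := charFacts.finite
  have := Fintype.ofFinite (IrrCharacter K)
  have hKne : (Nat.card K : ℂ) ≠ 0 := by
    exact_mod_cast (Nat.card_pos (α := K)).ne'
  -- the key identity for one irreducible character
  have key : ∀ ψ : IrrCharacter K,
      (ψ : K → ℂ) 1 * ∑ k : K, conj ((ψ : K → ℂ) k) * ϑ (k * y) =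
        (∑ c : K, ϑ c * conj ((ψ : K → ℂ) c)) * (ψ : K → ℂ) y := by
    intro ψ
    have hψ1 := isIrrCharacter_one_ne_zero ψ.2
    -- `∑_k conj ψ(k) ϑ(k y) = ∑_c ϑ(c⁻¹) ψ(y c)`
    have h1 : ∑ k : K, conj ((ψ : K → ℂ) k) * ϑ (k * y) =
        ∑ c : K, ϑ c⁻¹ * (ψ : K → ℂ) (y * c) := by
      rw [← Equiv.sum_comp ((Equiv.inv K).trans (Equiv.mulRight y⁻¹))]
      refine Finset.sum_congr rfl fun c _ => ?_
      simp only [Equiv.trans_apply, Equiv.inv_apply, Equiv.coe_mulRight]
      have e1 : c⁻¹ * y⁻¹ * y = c⁻¹ := by group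
      have e2 : c⁻¹ * y⁻¹ = (y * c)⁻¹ := by group
      rw [e1, e2, Cfsg.Agent.Lib.Helper80_CharBasic.irr_inv ψ (y * c), Complex.conj_conj,
        mul_comm]
    have hcl : IsClassFunction K (fun c => ϑ c⁻¹) := by
      intro c k
      show ϑ (k * c * k⁻¹)⁻¹ = ϑ c⁻¹
      have : (k * c * k⁻¹)⁻¹ = k * c⁻¹ * k⁻¹ := by group
      rw [this, hϑ]
    have h2 := sum_mul_shift ψ.2 hcl y
    have h3 : ∑ c : K, ϑ c⁻¹ * (ψ : K → ℂ) c = ∑ c : K, ϑ c * conj ((ψ : K → ℂ) c) := by
      rw [← Equiv.sum_comp (Equiv.inv K)]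
      refine Finset.sum_congr rfl fun c _ => ?_
      simp only [Equiv.inv_apply, inv_inv]
      rw [Cfsg.Agent.Lib.Helper80_CharBasic.irr_inv ψ c]
    rw [h1, h2, h3]
    field_simp
  unfold blockPart
  rw [finsum_mem_def, finsum_eq_sum_of_fintype, finsum_eq_sum_of_fintype]
  simp_rw [blockCoeff_eq_sum S]
  unfold classInner
  have hL : ∀ ψ : IrrCharacter K,
      S.indicator (fun χ : IrrCharacter K =>
        ((Nat.card K : ℂ)⁻¹ * ∑ g : K, ϑ g * conj ((χ : K → ℂ) g)) * (χ : K → ℂ) y) ψ =
      (Nat.card K : ℂ)⁻¹ * ∑ k : K,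
        S.indicator (fun χ : IrrCharacter K =>
          (χ : K → ℂ) 1 * conj ((χ : K → ℂ) k)) ψ * ϑ (k * y) := by
    intro ψ
    by_cases hψ : ψ ∈ S
    · simp only [Set.indicator_of_mem hψ]
      rw [mul_assoc, ← key ψ, Finset.mul_sum]
      congr 1
      refine Finset.sum_congr rfl fun k _ => ?_
      ring
    · simp only [Set.indicator_of_notMem hψ, zero_mul, Finset.sum_const_zero, mul_zero]
  rw [Finset.sum_congr rfl fun ψ _ => hL ψ, ← Finset.mul_sum, Finset.sum_comm]
  have hR : ∀ k : K, (Nat.card K : ℂ)⁻¹ * (∑ χ : IrrCharacter K,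
      S.indicator (fun χ : IrrCharacter K => (χ : K → ℂ) 1 * conj ((χ : K → ℂ) k)) χ) *
        ϑ (k * y) =
      (Nat.card K : ℂ)⁻¹ * ∑ χ : IrrCharacter K,
        S.indicator (fun χ : IrrCharacter K => (χ : K → ℂ) 1 * conj ((χ : K → ℂ) k)) χ *
          ϑ (k * y) := by
    intro k
    rw [mul_assoc, Finset.sum_mul]
  rw [Finset.sum_congr rfl fun k _ => hR k, ← Finset.mul_sum]

/-- The centralizer of an element centralizes the cyclic group it generates. -/
theorem centralizer_singleton_le_zpowers (x : G) :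
    Subgroup.centralizer ({x} : Set G) ≤
      Subgroup.centralizer ((Subgroup.zpowers x : Subgroup G) : Set G) := by
  intro c hc
  rw [Subgroup.mem_centralizer_iff] at hc ⊢
  intro k hk
  obtain ⟨n, rfl⟩ := Subgroup.mem_zpowers_iff.mp hk
  have hcomm : Commute x c := hc x (Set.mem_singleton x)
  exact (hcomm.zpow_left n).eq

/-- Blocks of the centralizer of a `p`-element always induce a block. -/
theorem inducedBlockDefined_centralizer [Finite G] (hM : IsPModular p M) {x : G}
    (hx : ∃ k : ℕ, orderOf x = p ^ k) {b : Set (IrrCharacter (Subgroup.centralizer ({x} : Set G)))}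
    (hb : IsPBlock M b) : InducedBlockDefined M (Subgroup.centralizer ({x} : Set G)) b := by
  classical
  have := Fintype.ofFinite G
  have := Fintype.ofFinite (Subgroup.centralizer ({x} : Set G))
  have hP : IsPGroup p (Subgroup.zpowers x) := by
    obtain ⟨k, hk⟩ := hx
    exact IsPGroup.of_card_dvd_pow (n := k) (by rw [Nat.card_zpowers, hk])
  have hxC : x ∈ Subgroup.centralizer ({x} : Set G) := by
    rw [Subgroup.mem_centralizer_iff]
    intro k hk
    rw [Set.mem_singleton_iff] at hk
    rw [hk]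
  refine inducedBlockDefined hM hP ?_ ?_ ?_ hb
  · rw [Subgroup.zpowers_le]
    exact hxC
  · apply Subgroup.centralizer_le
    intro k hk
    rw [Set.mem_singleton_iff] at hk
    rw [hk]
    exact Subgroup.mem_zpowers x
  · exact le_trans (centralizer_singleton_le_zpowers x)
      (Subgroup.centralizer_le_normalizer _)

/-- **Brauer's Second Main Theorem** in terms of ordinary characters. -/
theorem second_main_char [Finite G] [Fact p.Prime] (hM : IsPModular p M) (x : G)
    (hx : ∃ k : ℕ, orderOf x = p ^ k) (B : Set (IrrCharacter G)) (hB : IsPBlock M B)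
    (χ : IrrCharacter G) (hχ : χ ∈ B)
    (b : Set (IrrCharacter (Subgroup.centralizer ({x} : Set G)))) (hb : IsPBlock M b)
    (hnot : ¬ IsInducedBlock M (Subgroup.centralizer ({x} : Set G)) b B)
    (y : Subgroup.centralizer ({x} : Set G)) (hy : ¬ p ∣ orderOf y) :
    blockPart b (fun c : Subgroup.centralizer ({x} : Set G) => (χ : G → ℂ) (x * (c : G))) y =
      0 := by
  have hMp := isPrime_of_isPModular hM
  have hχc := isIrrCharacter_isClassFunction χ.2
  obtain ⟨B₁, hind⟩ := inducedBlockDefined_centralizer hM hx hb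
  have hχB₁ : χ ∉ B₁ := by
    intro h
    have : B₁ = B := isPBlock_eq_of_mem_of_mem hMp hind.2.1 hB h hχ
    rw [this] at hind
    exact hnot hind
  have hxC : x ∈ Subgroup.centralizer ({x} : Set G) := by
    rw [Subgroup.mem_centralizer_iff]
    intro k hk
    rw [Set.mem_singleton_iff] at hk
    rw [hk]
  have hcomm : ∀ c : Subgroup.centralizer ({x} : Set G), x * (c : G) = (c : G) * x :=
    fun c => Subgroup.mem_centralizer_iff.mp c.2 x (Set.mem_singleton x)
  have hϑ : IsClassFunction (Subgroup.centralizer ({x} : Set G))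
      (fun c : Subgroup.centralizer ({x} : Set G) => (χ : G → ℂ) (x * (c : G))) := by
    intro c k
    show (χ : G → ℂ) (x * ((k * c * k⁻¹ : Subgroup.centralizer ({x} : Set G)) : G)) =
      (χ : G → ℂ) (x * (c : G))
    push_cast
    have : x * ((k : G) * (c : G) * (k : G)⁻¹) = (k : G) * (x * (c : G)) * (k : G)⁻¹ := by
      calc x * ((k : G) * (c : G) * (k : G)⁻¹) = (x * (k : G)) * (c : G) * (k : G)⁻¹ := by group
        _ = ((k : G) * x) * (c : G) * (k : G)⁻¹ := by rw [hcomm k]
        _ = (k : G) * (x * (c : G)) * (k : G)⁻¹ := by group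
    rw [this, hχc]
  rw [blockPart_eq_sum_blockCoeff b hϑ y]
  have hpart : IsPPart p (x * (y : G)) x := by
    refine ⟨(y : G), rfl, hcomm y, hx, ?_⟩
    rw [Subgroup.orderOf_coe]
    exact hy
  have key := second_main_idempotent hM (Subgroup.centralizer ({x} : Set G)) b B₁ hind
    (⟨x, hxC⟩ * y) (fun z hz => by
      have hz' : IsPPart p (x * (y : G)) z := hz
      have : x = z := isPPart_unique hM.1 hpart hz'
      rw [← this]) χ hχB₁
  rw [← key]
  refine finsum_congr fun k => ?_
  congr 1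
  show (χ : G → ℂ) (x * ((k * y : Subgroup.centralizer ({x} : Set G)) : G)) =
    (χ : G → ℂ) ((k : G) * ((⟨x, hxC⟩ * y : Subgroup.centralizer ({x} : Set G)) : G))
  push_cast
  have e1 : x * ((k : G) * (y : G)) = (k : G) * (x * (y : G)) := by
    calc x * ((k : G) * (y : G)) = (x * (k : G)) * (y : G) := by group
      _ = ((k : G) * x) * (y : G) := by rw [hcomm k]
      _ = (k : G) * (x * (y : G)) := by group
  rw [e1]

end Cfsg.Agent.Lib.Helper78_SecondMainChar
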