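import Mathlib
import Cfsg.Prelude.Def_Blocks
import Cfsg.Agent.Lib.Helper16_Char

set_option autoImplicit false

/-!
Shared helper library of seat helper16, part 2: sums of class functions over conjugation-invariant
sets, sums along a quotient map, invariants of a normal subgroup in an irreducible
representation, and representations of a quotient group.
-/

namespace Cfsg.Agent.Lib.Helper16_Quot

open Cfsg Cfsg.Agent.Lib.Helper16_Char

/-- Sum of a class function over a conjugation-invariant set, when each class contributes
something in the local ideal. -/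
theorem sum_invariant_set {G : Type*} [Group G] [Fintype G] [DecidableEq G] (M : Ideal Cfsg.AlgInt)
    (hM : M.IsMaximal) (S : G → Prop) [DecidablePred S]
    (hS : ∀ x k : G, S k → S (x * k * x⁻¹)) (f : G → ℂ)
    (hf : ∀ x c : G, f (x * c * x⁻¹) = f c)
    (hloc : ∀ c : G, Cfsg.MemLocalIdeal M (((Subgroup.centralizer ({c} : Set G)).index : ℂ) * f c)) :
    Cfsg.MemLocalIdeal M (∑ k : G, if S k then f k else 0) := by
  rw [← Finset.sum_fiberwise (s := Finset.univ) (g := fun h : G => ConjClasses.mk h)]
  refine memLocalIdeal_sum M hM _ _ (fun C _ => ?_)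
  obtain ⟨c, rfl⟩ := ConjClasses.mk_surjective C
  have hconst : ∀ k ∈ Finset.univ.filter (fun k : G => ConjClasses.mk k = ConjClasses.mk c),
      (if S k then f k else 0) = (if S c then f c else 0) := by
    intro k hk
    have hk' : IsConj c k := (ConjClasses.mk_eq_mk_iff_isConj.mp (Finset.mem_filter.mp hk).2).symm
    obtain ⟨x, hx⟩ := isConj_iff.mp hk'
    have hiff : S k ↔ S c := by
      constructor
      · intro h
        have := hS x⁻¹ k h
        rw [← hx] at this
        simpa [mul_assoc] using this
      · intro h
        rw [← hx]; exact hS x c h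
    rw [← hx, hf]
    by_cases hgc : S c
    · rw [if_pos hgc, if_pos]
      rw [hx]; exact hiff.mpr hgc
    · rw [if_neg hgc, if_neg]
      rw [hx]; exact fun h => hgc (hiff.mp h)
  rw [Finset.sum_congr rfl hconst, Finset.sum_const, nsmul_eq_mul]
  have hfilter : (Finset.univ.filter (fun k : G => ConjClasses.mk k = ConjClasses.mk c)) =
      (Finset.univ.filter (fun k : G => IsConj c k)) := by
    ext k
    simp only [Finset.mem_filter, Finset.mem_univ, true_and]
    rw [ConjClasses.mk_eq_mk_iff_isConj]
    exact ⟨fun h => h.symm, fun h => h.symm⟩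
  rw [hfilter, card_conj_eq_index]
  by_cases hgc : S c
  · rw [if_pos hgc]; exact hloc c
  · rw [if_neg hgc, mul_zero]; exact memLocalIdeal_zero M hM

/-- Summation along the quotient map. -/
theorem sum_comp_mk {G : Type*} [Group G] [Fintype G] (N : Subgroup G) [N.Normal]
    [Fintype (G ⧸ N)] (F : G ⧸ N → ℂ) :
    ∑ k : G, F (QuotientGroup.mk k) = (Nat.card N : ℂ) * ∑ q : G ⧸ N, F q := by
  classical
  rw [← Finset.sum_fiberwise (s := Finset.univ) (g := fun k : G => (QuotientGroup.mk k : G ⧸ N)),
    Finset.mul_sum]
  refine Finset.sum_congr rfl (fun q _ => ?_)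
  have h1 : ∑ k ∈ Finset.univ.filter (fun k : G => (QuotientGroup.mk k : G ⧸ N) = q),
      F (QuotientGroup.mk k) =
      ((Finset.univ.filter (fun k : G => (QuotientGroup.mk k : G ⧸ N) = q)).card : ℂ) * F q := by
    rw [Finset.sum_congr rfl (g := fun _ => F q)]
    · rw [Finset.sum_const, nsmul_eq_mul]
    · intro x hx
      rw [(Finset.mem_filter.mp hx).2]
  rw [h1]
  congr 2
  rw [← Fintype.card_subtype, ← Nat.card_eq_fintype_card]
  induction q using QuotientGroup.induction_on with
  | H g₀ =>
    refine Nat.card_congr ⟨fun k => ⟨g₀⁻¹ * k.1, ?_⟩, fun n => ⟨g₀ * n.1, ?_⟩, ?_, ?_⟩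
    · exact QuotientGroup.eq.mp k.2.symm
    · rw [QuotientGroup.eq]
      simp
    · intro k; ext; simp
    · intro n; ext; simp

section Normal

variable {G : Type*} [Group G] {V : Type*} [AddCommGroup V] [Module ℂ V]
  (ρ : Representation ℂ G V) (N : Subgroup G) [N.Normal]

/-- The invariants of a normal subgroup form a subrepresentation. -/
noncomputable def invSubrep : Subrepresentation ρ where
  toSubmodule := Representation.invariants (ρ.comp N.subtype)
  apply_mem_toSubmodule g _ hv := Representation.le_comap_invariants ρ N g hv

theorem invSubrep_eq_bot_or_top [ρ.IsIrreducible] : invSubrep ρ N = ⊥ ∨ invSubrep ρ N = ⊤ :=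
  eq_bot_or_eq_top _

theorem isTrivial_of_invSubrep_eq_top (h : invSubrep ρ N = ⊤) :
    Representation.IsTrivial (ρ.comp N.subtype) where
  out n := by
    ext v
    have hv : v ∈ invSubrep ρ N := by rw [h]; trivial
    exact hv n

variable [FiniteDimensional ℂ V] [Finite G]

/-- the sum of the character values over the normal subgroup is `|N|` times the dimension of the
invariants -/
theorem sum_char_subgroup [Fintype N] :
    ∑ n : N, ρ.character (n : G) =
      (Nat.card N : ℂ) * (Module.finrank ℂ (Representation.invariants (ρ.comp N.subtype)) : ℂ) := by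
  have hN : (Nat.card N : ℂ) ≠ 0 := by
    rw [Nat.cast_ne_zero]; exact Nat.card_pos.ne'
  have : Invertible (Nat.card N : ℂ) := invertibleOfNonzero hN
  have h := Representation.card_inv_mul_sum_char_eq_finrank (ρ.comp N.subtype)
  rw [← h, ← mul_assoc, mul_inv_cancel₀ hN, one_mul]
  rfl

theorem sum_char_subgroup_of_bot [ρ.IsIrreducible] [Fintype N] (h : invSubrep ρ N = ⊥) :
    ∑ n : N, ρ.character (n : G) = 0 := by
  rw [sum_char_subgroup]
  have : Representation.invariants (ρ.comp N.subtype) = ⊥ := by
    have := congrArg Subrepresentation.toSubmodule h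
    exact this
  rw [this]
  simp

end Normal

section Quotient

variable {G : Type*} [Group G] {V : Type*} [AddCommGroup V] [Module ℂ V]
  (ρ : Representation ℂ G V) (N : Subgroup G) [N.Normal] [Representation.IsTrivial (ρ.comp N.subtype)]

theorem ofQuotient_mk (g : G) : Representation.ofQuotient ρ N (QuotientGroup.mk g) = ρ g := by
  ext v
  exact Representation.ofQuotient_coe_apply ρ N g v

/-- subrepresentations of the quotient representation are the same -/
def subrepEquiv : Subrepresentation (Representation.ofQuotient ρ N) ≃o Subrepresentation ρ where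
  toFun W := ⟨W.toSubmodule, fun g v hv => by
    have := W.apply_mem_toSubmodule (QuotientGroup.mk g) hv
    rwa [ofQuotient_mk] at this⟩
  invFun W := ⟨W.toSubmodule, fun q v hv => by
    induction q using QuotientGroup.induction_on with
    | H g =>
      rw [ofQuotient_mk]
      exact W.apply_mem_toSubmodule g hv⟩
  left_inv _ := rfl
  right_inv _ := rfl
  map_rel_iff' := Iff.rfl

theorem ofQuotient_irreducible [ρ.IsIrreducible] : (Representation.ofQuotient ρ N).IsIrreducible :=
  (subrepEquiv ρ N).isSimpleOrder_iff.mpr inferInstance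

theorem ofQuotient_character [FiniteDimensional ℂ V] (g : G) :
    (Representation.ofQuotient ρ N).character (QuotientGroup.mk g) = ρ.character g := by
  unfold Representation.character
  rw [ofQuotient_mk]

end Quotient

end Cfsg.Agent.Lib.Helper16_Quot
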