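import Mathlib
import Cfsg.Prelude.Def_Blocks
import Cfsg.Prelude.Def_Local
import Cfsg.Agent.Lib.Helper78_LocalRing
import Cfsg.Agent.Lib.Helper78_CentralChar
import Cfsg.Agent.Lib.Helper78_CharFacts
import Cfsg.Agent.Lib.Helper78_PRegSum
import Cfsg.Agent.Lib.Helper78_SecondMainChar
import Cfsg.Agent.Lib.Helper80_CharBasic
import Cfsg.Agent.Lib.Helper3_CharComplete
import Cfsg.Agent.Lib.Helper1_Cores
import Cfsg.Agent.Lib.Helper16_Char
import Cfsg.Agent.S0938

/-!
# Principal block characters on `p`-sections (helper16)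

* `sum_eq_finsum_mem_block` : a sum over all irreducible characters reduces to a block when the
  sums over the other blocks vanish.
* `irr_mul_eq_blockPart_principal` : for `χ` in the principal block of `G`, `x` a `p`-element and
  `y` a `p`-regular element of `H = C_G(x)`, `χ (x * y)` is the value at `y` of the
  principal-block part (in `H`) of `c ↦ χ (x * c)`.
* `principal_mul_pPrimeCore` : members of the principal block are invariant under translation by
  `O_{p'}`.
* `principal_mul_centralizerPPrimeCore` (S0942).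
-/

set_option autoImplicit false
set_option linter.unusedSectionVars false

namespace Cfsg.Agent.Lib.Helper16_PrincipalSection

open Cfsg Cfsg.Agent.Lib.Helper78_LocalRing Cfsg.Agent.Lib.Helper78_CentralChar
  Cfsg.Agent.Lib.Helper78_CharFacts Cfsg.Agent.Lib.Helper16_Char

open scoped ComplexConjugate

/-- A sum over all irreducible characters reduces to the block `B₀` when the sums over all other
blocks vanish. -/
theorem sum_eq_finsum_mem_block {K : Type*} [Group K] {M : Ideal AlgInt} (hM : M.IsPrime)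
    [Fintype (IrrCharacter K)] (B₀ : Set (IrrCharacter K)) (hB₀ : IsPBlock M B₀)
    (f : IrrCharacter K → ℂ)
    (h : ∀ b : Set (IrrCharacter K), IsPBlock M b → b ≠ B₀ → ∑ᶠ ψ ∈ b, f ψ = 0) :
    ∑ ψ : IrrCharacter K, f ψ = ∑ᶠ ψ ∈ B₀, f ψ := by
  classical
  have h1 : ∑ᶠ ψ ∈ B₀, f ψ = ∑ ψ : IrrCharacter K, if ψ ∈ B₀ then f ψ else 0 :=
    finsum_mem_eq_sum_ite (fun ψ => ψ ∈ B₀) f
  rw [h1, ← Finset.sum_filter_add_sum_filter_not Finset.univ (fun ψ => ψ ∈ B₀) f,
    ← Finset.sum_filter]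
  have h2 : ∑ ψ ∈ Finset.univ.filter (fun ψ : IrrCharacter K => ¬ ψ ∈ B₀), f ψ = 0 := by
    set T := Finset.univ.filter (fun ψ : IrrCharacter K => ¬ ψ ∈ B₀) with hT
    let β : IrrCharacter K → Set (IrrCharacter K) := fun ψ => blockOf M (ψ : K → ℂ)
    rw [← Finset.sum_fiberwise_of_maps_to (s := T) (t := T.image β) (g := β)
      (fun x hx => Finset.mem_image_of_mem β hx) f]
    apply Finset.sum_eq_zero
    intro b hb
    obtain ⟨ψ₀, hψ₀T, rfl⟩ := Finset.mem_image.mp hb
    have hψ₀ : ¬ ψ₀ ∈ B₀ := (Finset.mem_filter.mp hψ₀T).2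
    have hbl : IsPBlock M (β ψ₀) := isPBlock_blockOf ψ₀
    have hne : β ψ₀ ≠ B₀ := by
      intro heq
      apply hψ₀
      rw [← heq]
      exact mem_blockOf_self hM ψ₀
    have h3 := h (β ψ₀) hbl hne
    have h4 : ∑ᶠ ψ ∈ β ψ₀, f ψ = ∑ ψ : IrrCharacter K, if ψ ∈ β ψ₀ then f ψ else 0 :=
      finsum_mem_eq_sum_ite (fun ψ => ψ ∈ β ψ₀) f
    rw [h4, ← Finset.sum_filter] at h3
    rw [← h3]
    apply Finset.sum_congr _ (fun _ _ => rfl)
    ext ψ
    simp only [Finset.mem_filter, Finset.mem_univ, true_and, hT]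
    constructor
    · rintro ⟨-, hβ⟩
      rw [← hβ]
      exact mem_blockOf_self hM ψ
    · intro hψ
      have heq : β ψ₀ = β ψ := blockOf_eq_of_sameBlock hM hψ
      refine ⟨?_, heq.symm⟩
      intro hψB
      apply hne
      exact isPBlock_eq_of_mem_of_mem hM hbl hB₀ hψ hψB
  rw [h2, add_zero]

/-- **Principal block characters on a `p`-section.** -/
theorem irr_mul_eq_blockPart_principal {G : Type*} [Group G] [Finite G] {p : ℕ} [Fact p.Prime]
    {M : Ideal AlgInt} (hM : IsPModular p M) (x : G) (hx : ∃ k : ℕ, orderOf x = p ^ k)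
    (χ : IrrCharacter G) (hχ : χ ∈ principalBlock M G)
    (y : Subgroup.centralizer ({x} : Set G)) (hy : ¬ p ∣ orderOf y) :
    (χ : G → ℂ) (x * (y : G)) =
      blockPart (principalBlock M (Subgroup.centralizer ({x} : Set G)))
        (fun c : Subgroup.centralizer ({x} : Set G) => (χ : G → ℂ) (x * (c : G))) y := by
  classical
  have hMp := isPrime_of_isPModular hM
  let _ : Fintype (Subgroup.centralizer ({x} : Set G)) := Fintype.ofFinite _
  have hχc := isIrrCharacter_isClassFunction χ.2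
  have hcomm : ∀ c : Subgroup.centralizer ({x} : Set G), x * (c : G) = (c : G) * x :=
    fun c => Subgroup.mem_centralizer_iff.mp c.2 x (Set.mem_singleton x)
  set ϑ : Subgroup.centralizer ({x} : Set G) → ℂ := fun c => (χ : G → ℂ) (x * (c : G)) with hϑdef
  have hϑ : IsClassFunction (Subgroup.centralizer ({x} : Set G)) ϑ := by
    intro c h
    show (χ : G → ℂ) (x * ((h * c * h⁻¹ : Subgroup.centralizer ({x} : Set G)) : G)) =
      (χ : G → ℂ) (x * (c : G))
    push_cast
    have : x * ((h : G) * (c : G) * (h : G)⁻¹) = (h : G) * (x * (c : G)) * (h : G)⁻¹ := by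
      calc x * ((h : G) * (c : G) * (h : G)⁻¹) = (x * (h : G)) * (c : G) * (h : G)⁻¹ := by group
        _ = ((h : G) * x) * (c : G) * (h : G)⁻¹ := by rw [hcomm h]
        _ = (h : G) * (x * (c : G)) * (h : G)⁻¹ := by group
    rw [this, hχc]
  have hPG : IsPBlock M (principalBlock M G) :=
    ⟨Cfsg.Agent.Lib.Helper80_CharBasic.oneIrr G, rfl⟩
  have hPH : IsPBlock M (principalBlock M (Subgroup.centralizer ({x} : Set G))) :=
    ⟨Cfsg.Agent.Lib.Helper80_CharBasic.oneIrr _, rfl⟩
  have hsum := congrFun (Cfsg.Agent.Lib.Helper3_CharComplete.classFunction_eq_sum ϑ hϑ) y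
  rw [Finset.sum_apply] at hsum
  simp only [Pi.smul_apply, smul_eq_mul] at hsum
  show ϑ y = _
  rw [hsum]
  unfold blockPart
  apply sum_eq_finsum_mem_block hMp _ hPH
  intro b hb hne
  have hnot : ¬ IsInducedBlock M (Subgroup.centralizer ({x} : Set G)) b (principalBlock M G) := by
    intro hind
    apply hne
    exact (Cfsg.Agent.Lib.Helper78_PRegSum.third_main hM _ b
      (Cfsg.Agent.Lib.Helper78_SecondMainChar.inducedBlockDefined_centralizer hM hx hb)).mp hind
  have := Cfsg.Agent.Lib.Helper78_SecondMainChar.second_main_char hM x hx (principalBlock M G) hPG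
    χ hχ b hb hnot y hy
  unfold blockPart at this
  exact this

/-- Members of the principal block are invariant under translation by `O_{p'}`. -/
theorem principal_mul_pPrimeCore {K : Type*} [Group K] [Finite K] {p : ℕ} [Fact p.Prime]
    {M : Ideal AlgInt} (hM : IsPModular p M) (ψ : IrrCharacter K)
    (hψ : ψ ∈ principalBlock M K) {v : K} (hv : v ∈ pPrimeCore p K) (c : K) :
    (ψ : K → ℂ) (v * c) = (ψ : K → ℂ) c := by
  have hMp := isPrime_of_isPModular hM
  have hPK : IsPBlock M (principalBlock M K) :=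
    ⟨Cfsg.Agent.Lib.Helper80_CharBasic.oneIrr K, rfl⟩
  have honeK : Cfsg.Agent.Lib.Helper80_CharBasic.oneIrr K ∈ principalBlock M K :=
    mem_blockOf_self hMp (Cfsg.Agent.Lib.Helper80_CharBasic.oneIrr K)
  obtain ⟨Ker, -, hKer, -, -, hmax⟩ := Cfsg.Agent.S0938.result p M hM (principalBlock M K) hPK
    (Cfsg.Agent.Lib.Helper80_CharBasic.oneIrr K) honeK
  have hcop := Cfsg.Agent.Lib.Helper1_Cores.pPrimeCore_card_coprime (G := K) p
  have hnd : ¬ p ∣ Nat.card (pPrimeCore p K) := by
    intro hd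
    have := Nat.Coprime.eq_one_of_dvd hcop.symm hd
    exact (Fact.out : p.Prime).one_lt.ne' this
  have hle := hmax (pPrimeCore p K) (Cfsg.Agent.Lib.Helper1_Cores.pPrimeCore_normal p) hnd
    (fun g _ => rfl)
  have hvK : v ∈ (Ker : Set K) := hle hv
  rw [hKer] at hvK
  have hψv : (ψ : K → ℂ) v = (ψ : K → ℂ) 1 := hvK ψ hψ
  obtain ⟨n, ρ, -, hρ⟩ := ψ.2
  rw [← hρ] at hψv ⊢
  rw [Cfsg.Agent.S0938.char_eq_one_iff] at hψv
  show LinearMap.trace ℂ _ (ρ (v * c)) = LinearMap.trace ℂ _ (ρ c)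
  rw [map_mul, hψv, one_mul]

/-- Elements of `O_{p'}` are `p`-regular. -/
theorem not_dvd_orderOf_of_mem_pPrimeCore {K : Type*} [Group K] [Finite K] {p : ℕ} (hp : p.Prime)
    {v : K} (hv : v ∈ pPrimeCore p K) : ¬ p ∣ orderOf v := by
  intro hd
  have hcop := Cfsg.Agent.Lib.Helper1_Cores.pPrimeCore_card_coprime (G := K) p
  have h1 : orderOf (⟨v, hv⟩ : pPrimeCore p K) ∣ Nat.card (pPrimeCore p K) :=
    orderOf_dvd_natCard _
  have h2 : orderOf (⟨v, hv⟩ : pPrimeCore p K) = orderOf v := by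
    rw [← Subgroup.orderOf_coe]
  rw [h2] at h1
  have := Nat.Coprime.eq_one_of_dvd hcop.symm (dvd_trans hd h1)
  exact hp.one_lt.ne' this

/-- **S0942**: characters in the principal block are constant on `u * O_{p'}(C_G(u))`. -/
theorem principal_mul_centralizerPPrimeCore {G : Type*} [Group G] [Finite G] {p : ℕ}
    [Fact p.Prime] {M : Ideal AlgInt} (hM : IsPModular p M) (u : G)
    (hu : ∃ k : ℕ, orderOf u = p ^ k) (v : G) (hv : v ∈ centralizerPPrimeCore p u)
    (χ : IrrCharacter G) (hχ : χ ∈ principalBlock M G) :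
    (χ : G → ℂ) (u * v) = (χ : G → ℂ) u := by
  have hp : p.Prime := Fact.out
  obtain ⟨v', hv', rfl⟩ := hv
  have hreg : ¬ p ∣ orderOf v' := not_dvd_orderOf_of_mem_pPrimeCore hp hv'
  have hreg1 : ¬ p ∣ orderOf (1 : Subgroup.centralizer ({u} : Set G)) := by
    rw [orderOf_one]
    exact fun h => hp.one_lt.ne' (Nat.dvd_one.mp h)
  have h1 := irr_mul_eq_blockPart_principal hM u hu χ hχ v' hreg
  have h2 := irr_mul_eq_blockPart_principal hM u hu χ hχ 1 hreg1
  have h3 : (χ : G → ℂ) u = (χ : G → ℂ) (u * ((1 : Subgroup.centralizer ({u} : Set G)) : G)) := by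
    simp
  rw [h3, h2]
  show (χ : G → ℂ) (u * (v' : G)) = _
  rw [h1]
  unfold blockPart
  refine finsum_congr fun ψ => ?_
  refine finsum_congr fun hψ => ?_
  have := principal_mul_pPrimeCore hM ψ hψ hv' 1
  rw [mul_one] at this
  rw [this]

end Cfsg.Agent.Lib.Helper16_PrincipalSection
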