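import Mathlib

set_option autoImplicit false

namespace Cfsg.Agent.Lib.Helper4_InvPairs

variable {G : Type*} [Group G]

theorem mul_self_of_orderOf_two {t : G} (ht : orderOf t = 2) : t * t = 1 := by
  have := pow_orderOf_eq_one t
  rwa [ht, pow_two] at this

theorem inv_eq_self_of_orderOf_two {t : G} (ht : orderOf t = 2) : t⁻¹ = t := by
  rw [inv_eq_iff_mul_eq_one]; exact mul_self_of_orderOf_two ht

theorem ne_one_of_orderOf_two {t : G} (ht : orderOf t = 2) : t ≠ 1 := by
  intro h; rw [h, orderOf_one] at ht; omega

theorem orderOf_two_of_mul_self {t : G} (h : t * t = 1) (h1 : t ≠ 1) : orderOf t = 2 := by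
  apply orderOf_eq_prime _ h1
  rw [pow_two]; exact h

theorem orderOf_two_iff {t : G} : orderOf t = 2 ↔ t * t = 1 ∧ t ≠ 1 :=
  ⟨fun h => ⟨mul_self_of_orderOf_two h, ne_one_of_orderOf_two h⟩,
   fun h => orderOf_two_of_mul_self h.1 h.2⟩

/-- Ordered pairs of involutions with product `x` correspond to involutions `t ≠ x`
inverting `x`, via `(u, v) ↦ u`. -/
def pairEquiv (x : G) :
    {p : G × G // orderOf p.1 = 2 ∧ orderOf p.2 = 2 ∧ p.1 * p.2 = x} ≃
      {t : G // orderOf t = 2 ∧ t * x * t⁻¹ = x⁻¹ ∧ t ≠ x} where
  toFun p := ⟨p.1.1, p.2.1, by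
    obtain ⟨⟨u, v⟩, hu, hv, huv⟩ := p
    simp only at hu hv huv ⊢
    subst huv
    rw [mul_inv_rev, inv_eq_self_of_orderOf_two hu, inv_eq_self_of_orderOf_two hv]
    calc u * (u * v) * u = (u * u) * v * u := by group
      _ = v * u := by rw [mul_self_of_orderOf_two hu, one_mul], by
    obtain ⟨⟨u, v⟩, hu, hv, huv⟩ := p
    simp only at hu hv huv ⊢
    intro h
    rw [← huv] at h
    have : v = 1 := by
      have := congrArg (fun w => u⁻¹ * w) h
      simpa using this.symm
    exact ne_one_of_orderOf_two hv this⟩
  invFun t := ⟨(t.1, t.1 * x), t.2.1, by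
    obtain ⟨t, ht, htx, hne⟩ := t
    simp only
    apply orderOf_two_of_mul_self
    · rw [inv_eq_self_of_orderOf_two ht] at htx
      calc t * x * (t * x) = (t * x * t) * x := by group
        _ = 1 := by rw [htx]; group
    · intro h
      apply hne
      have : x = t⁻¹ := by
        rw [eq_inv_iff_mul_eq_one]
        have := congrArg (fun w => t⁻¹ * w * t) h
        simpa [mul_assoc] using this
      rw [this, inv_eq_self_of_orderOf_two ht], by
    obtain ⟨t, ht, htx, hne⟩ := t
    simp only
    rw [← mul_assoc, mul_self_of_orderOf_two ht, one_mul]⟩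
  left_inv p := by
    obtain ⟨⟨u, v⟩, hu, hv, huv⟩ := p
    simp only at hu hv huv ⊢
    subst huv
    ext
    · rfl
    · simp only
      rw [← mul_assoc, mul_self_of_orderOf_two hu, one_mul]
  right_inv t := by
    ext; rfl

/-- If `x` is not an involution-or-trivial (`x^2 ≠ 1`), the condition `t ≠ x` is automatic. -/
def invertEquiv_of_sq_ne_one (x : G) (hx : x ^ 2 ≠ 1) :
    {t : G // orderOf t = 2 ∧ t * x * t⁻¹ = x⁻¹ ∧ t ≠ x} ≃
      {t : G // orderOf t = 2 ∧ t * x * t⁻¹ = x⁻¹} where
  toFun t := ⟨t.1, t.2.1, t.2.2.1⟩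
  invFun t := ⟨t.1, t.2.1, t.2.2, by
    intro h
    apply hx
    rw [← h, pow_two]
    exact mul_self_of_orderOf_two t.2.1⟩
  left_inv t := by ext; rfl
  right_inv t := by ext; rfl

/-- If `x` is an involution, involutions commuting with `x` are `x` itself together with the
involutions `t ≠ x` inverting `x`. -/
noncomputable def commuteEquiv (x : G) (hx : orderOf x = 2) :
    {t : G // orderOf t = 2 ∧ Commute t x} ≃
      Option {t : G // orderOf t = 2 ∧ t * x * t⁻¹ = x⁻¹ ∧ t ≠ x} := by
  classical
  exact
  { toFun := fun t => if h : t.1 = x then none else some ⟨t.1, t.2.1, by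
      rw [t.2.2.eq, mul_assoc, mul_inv_cancel, mul_one, inv_eq_self_of_orderOf_two hx], h⟩
    invFun := fun o => match o with
      | none => ⟨x, hx, Commute.refl x⟩
      | some t => ⟨t.1, t.2.1, by
          obtain ⟨t, ht, h, hne⟩ := t
          simp only
          rw [inv_eq_self_of_orderOf_two hx] at h
          have : t * x = x * t := by
            calc t * x = t * x * t⁻¹ * t := by group
              _ = x * t := by rw [h]
          exact this⟩
    left_inv := by
      intro t
      by_cases h : t.1 = x
      · simp only [h, dite_true]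
        ext; exact h.symm
      · simp only [h, dite_false]
    right_inv := by
      intro o
      match o with
      | none => simp
      | some t =>
        have : t.1 ≠ x := t.2.2.2
        simp [this] }

end Cfsg.Agent.Lib.Helper4_InvPairs
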