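import Mathlib

set_option autoImplicit false

namespace Cfsg.Agent.Lib.Helper4_Dihedral

variable {G : Type*} [Group G]

section basic

variable {x y : G}

theorem inv_of_mul_self (hx : x * x = 1) : x⁻¹ = x := by
  rw [inv_eq_iff_mul_eq_one]; exact hx

/-- `x (xy) x = (xy)⁻¹`. -/
theorem conj_rot (hx : x * x = 1) (hy : y * y = 1) : x * (x * y) * x = (x * y)⁻¹ := by
  rw [mul_inv_rev, inv_of_mul_self hx, inv_of_mul_self hy, ← mul_assoc, hx, one_mul]

theorem conj_rot' (hx : x * x = 1) (hy : y * y = 1) : x * (x * y) * x⁻¹ = (x * y)⁻¹ := by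
  rw [inv_of_mul_self hx]; exact conj_rot hx hy

theorem conj_rot_zpow' (hx : x * x = 1) (hy : y * y = 1) (k : ℤ) :
    x * (x * y) ^ k * x⁻¹ = ((x * y) ^ k)⁻¹ := by
  rw [← conj_zpow, conj_rot' hx hy, inv_zpow]

theorem conj_rot_zpow (hx : x * x = 1) (hy : y * y = 1) (k : ℤ) :
    x * (x * y) ^ k * x = ((x * y) ^ k)⁻¹ := by
  have := conj_rot_zpow' hx hy k
  rwa [inv_of_mul_self hx] at this

/-- `x ρ^k = ρ^(-k) x`. -/
theorem x_mul_zpow (hx : x * x = 1) (hy : y * y = 1) (k : ℤ) :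
    x * (x * y) ^ k = ((x * y) ^ k)⁻¹ * x := by
  have := conj_rot_zpow hx hy k
  calc x * (x * y) ^ k = x * (x * y) ^ k * x * x := by rw [mul_assoc _ x x, hx, mul_one]
    _ = ((x * y) ^ k)⁻¹ * x := by rw [this]

theorem zpow_mul_x (hx : x * x = 1) (hy : y * y = 1) (k : ℤ) :
    (x * y) ^ k * x = x * ((x * y) ^ k)⁻¹ := by
  have := x_mul_zpow hx hy (-k)
  rw [zpow_neg, inv_inv] at this
  exact this.symm

/-- the reflections `x ρ^k` square to one -/
theorem refl_mul_self (hx : x * x = 1) (hy : y * y = 1) (k : ℤ) :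
    (x * (x * y) ^ k) * (x * (x * y) ^ k) = 1 := by
  calc (x * (x * y) ^ k) * (x * (x * y) ^ k) = (x * (x * y) ^ k * x) * (x * y) ^ k := by group
    _ = 1 := by rw [conj_rot_zpow hx hy]; group

theorem x_mul_rot (hx : x * x = 1) : x * (x * y) = y := by
  rw [← mul_assoc, hx, one_mul]

/-- Elements of `⟨x, y⟩` are rotations `ρ^k` or reflections `x ρ^k`, `ρ = xy`. -/
theorem mem_closure_iff (hx : x * x = 1) (hy : y * y = 1) (d : G) :
    d ∈ Subgroup.closure ({x, y} : Set G) ↔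
      ∃ k : ℤ, d = (x * y) ^ k ∨ d = x * (x * y) ^ k := by
  have hxmem : x ∈ Subgroup.closure ({x, y} : Set G) :=
    Subgroup.subset_closure (by simp)
  have hymem : y ∈ Subgroup.closure ({x, y} : Set G) :=
    Subgroup.subset_closure (by simp)
  constructor
  · intro hd
    induction hd using Subgroup.closure_induction with
    | mem z hz =>
      rcases hz with rfl | hz
      · exact ⟨0, Or.inr (by simp)⟩
      · rw [Set.mem_singleton_iff] at hz
        subst hz
        exact ⟨1, Or.inr (by rw [zpow_one, x_mul_rot hx])⟩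
    | one => exact ⟨0, Or.inl (by simp)⟩
    | mul a b _ _ iha ihb =>
      obtain ⟨i, hi | hi⟩ := iha <;> obtain ⟨j, hj | hj⟩ := ihb
      · exact ⟨i + j, Or.inl (by rw [hi, hj, zpow_add])⟩
      · refine ⟨j - i, Or.inr ?_⟩
        rw [hi, hj, ← mul_assoc, zpow_mul_x hx hy, zpow_sub]
        group
      · exact ⟨i + j, Or.inr (by rw [hi, hj, zpow_add, mul_assoc])⟩
      · refine ⟨j - i, Or.inl ?_⟩
        rw [hi, hj]
        calc x * (x * y) ^ i * (x * (x * y) ^ j) = (x * (x * y) ^ i * x) * (x * y) ^ j := by group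
          _ = (x * y) ^ (j - i) := by rw [conj_rot_zpow hx hy, zpow_sub]; group
    | inv a _ iha =>
      obtain ⟨i, hi | hi⟩ := iha
      · exact ⟨-i, Or.inl (by rw [hi, zpow_neg])⟩
      · refine ⟨i, Or.inr ?_⟩
        rw [hi]
        exact inv_eq_of_mul_eq_one_left (refl_mul_self hx hy i)
  · rintro ⟨k, rfl | rfl⟩
    · exact Subgroup.zpow_mem _ (Subgroup.mul_mem _ hxmem hymem) k
    · exact Subgroup.mul_mem _ hxmem (Subgroup.zpow_mem _ (Subgroup.mul_mem _ hxmem hymem) k)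

theorem zpowers_le_closure : Subgroup.zpowers (x * y) ≤ Subgroup.closure ({x, y} : Set G) := by
  rw [Subgroup.zpowers_le]
  exact Subgroup.mul_mem _ (Subgroup.subset_closure (by simp)) (Subgroup.subset_closure (by simp))

/-- If `ρ = xy` commutes with `x` then `ρ^2 = 1`. -/
theorem rot_sq_of_commute (hx : x * x = 1) (hy : y * y = 1) (h : Commute x (x * y)) :
    (x * y) * (x * y) = 1 := by
  have h1 := conj_rot hx hy
  rw [h.eq, mul_assoc, hx, mul_one] at h1
  calc (x * y) * (x * y) = (x * y) * (x * y)⁻¹ := by rw [← h1]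
    _ = 1 := mul_inv_cancel _

/-- A reflection is never a rotation (for nontrivial `x`, `y`). -/
theorem x_notMem_zpowers (hx : x * x = 1) (hy : y * y = 1) (hx1 : x ≠ 1) (hy1 : y ≠ 1) :
    x ∉ Subgroup.zpowers (x * y) := by
  intro hmem
  obtain ⟨k, hk⟩ := Subgroup.mem_zpowers_iff.mp hmem
  have hcomm : Commute x (x * y) := by
    have h := (Commute.refl (x * y)).zpow_left k
    rwa [hk] at h
  have hsq := rot_sq_of_commute hx hy hcomm
  -- ρ^k is 1 or ρ
  have hcases : (x * y) ^ k = 1 ∨ (x * y) ^ k = x * y := by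
    rcases Int.emod_two_eq_zero_or_one k with h | h
    · left
      have : k = 2 * (k / 2) := by omega
      rw [this, zpow_mul, zpow_ofNat, pow_two, hsq, one_zpow]
    · right
      have : k = 2 * (k / 2) + 1 := by omega
      rw [this, zpow_add, zpow_mul, zpow_ofNat, pow_two, hsq, one_zpow, one_mul, zpow_one]
  rcases hcases with h | h
  · exact hx1 (hk.symm.trans h)
  · rw [h] at hk
    apply hy1
    have := congrArg (fun w => x⁻¹ * w) hk
    simpa using this

theorem refl_notMem_zpowers (hx : x * x = 1) (hy : y * y = 1) (hx1 : x ≠ 1) (hy1 : y ≠ 1)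
    (k : ℤ) : x * (x * y) ^ k ∉ Subgroup.zpowers (x * y) := by
  intro hmem
  apply x_notMem_zpowers hx hy hx1 hy1
  have h2 : ((x * y) ^ k)⁻¹ ∈ Subgroup.zpowers (x * y) :=
    Subgroup.inv_mem _ (Subgroup.zpow_mem _ (Subgroup.mem_zpowers _) k)
  have := Subgroup.mul_mem _ hmem h2
  simpa [mul_assoc] using this

/-- `y = ρ⁻¹ x`. -/
theorem y_eq (hx : x * x = 1) (hy : y * y = 1) : y = (x * y)⁻¹ * x := by
  rw [mul_inv_rev, inv_of_mul_self hx, inv_of_mul_self hy, mul_assoc, hx, mul_one]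

/-- conjugating `x` by a rotation -/
theorem rot_conj_x (hx : x * x = 1) (hy : y * y = 1) (k : ℤ) :
    (x * y) ^ k * x * ((x * y) ^ k)⁻¹ = (x * y) ^ (2 * k) * x := by
  rw [mul_assoc, ← zpow_mul_x hx hy k, ← mul_assoc, two_mul, zpow_add]

/-- conjugating `x` by a reflection -/
theorem refl_conj_x (hx : x * x = 1) (hy : y * y = 1) (k : ℤ) :
    (x * (x * y) ^ k) * x * (x * (x * y) ^ k)⁻¹ = (x * y) ^ (-(2 * k)) * x := by
  have h1 : (x * (x * y) ^ k)⁻¹ = x * (x * y) ^ k :=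
    inv_eq_of_mul_eq_one_left (refl_mul_self hx hy k)
  rw [h1]
  calc x * (x * y) ^ k * x * (x * (x * y) ^ k)
      = (x * (x * y) ^ k * x) * (x * (x * y) ^ k) := by group
    _ = ((x * y) ^ k)⁻¹ * (((x * y) ^ k)⁻¹ * x) := by
        rw [conj_rot_zpow hx hy, x_mul_zpow hx hy]
    _ = (x * y) ^ (-(2 * k)) * x := by
        rw [← mul_assoc, ← zpow_neg, ← zpow_add, two_mul, neg_add]

/-- An element of `⟨x,y⟩` conjugates `x` to `ρ^j x` iff `j ≡ ±2k`: here the general form. -/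
theorem conj_x_eq_iff (hx : x * x = 1) (hy : y * y = 1) (j : ℤ) :
    (∃ d ∈ Subgroup.closure ({x, y} : Set G), d * x * d⁻¹ = (x * y) ^ j * x) ↔
      ∃ k : ℤ, 2 * k ≡ j [ZMOD (orderOf (x * y))] := by
  constructor
  · rintro ⟨d, hd, hdx⟩
    obtain ⟨k, rfl | rfl⟩ := (mem_closure_iff hx hy d).mp hd
    · rw [rot_conj_x hx hy, mul_left_inj, zpow_eq_zpow_iff_modEq] at hdx
      exact ⟨k, hdx⟩
    · rw [refl_conj_x hx hy, mul_left_inj, zpow_eq_zpow_iff_modEq] at hdx
      exact ⟨-k, by rwa [mul_neg]⟩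
  · rintro ⟨k, hk⟩
    refine ⟨(x * y) ^ k, Subgroup.zpow_mem _ (Subgroup.mul_mem _
      (Subgroup.subset_closure (by simp)) (Subgroup.subset_closure (by simp))) k, ?_⟩
    rw [rot_conj_x hx hy, mul_left_inj, zpow_eq_zpow_iff_modEq]
    exact hk

end basic

end Cfsg.Agent.Lib.Helper4_Dihedral
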