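import Mathlib
import Cfsg.Prelude.Def_Solvable
import Cfsg.Prelude.Def_Local
import Cfsg.Agent.Lib.Helper1_Cores
import Cfsg.Agent.Lib.Helper4_InvPairs
import Cfsg.Agent.S0208
import Cfsg.Agent.S0209

/-!
# Glauberman's Z*-theorem, group-theoretic part (helper23)

`OddProd t` : `t` is an involution and `t * t^g` has odd order for all `g` (equivalent to `t`
being an isolated involution).  This form passes trivially to subgroups and quotients.
-/

set_option autoImplicit false
set_option linter.unusedSectionVars false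

namespace Cfsg.Agent.Lib.Helper23_ZStarA

open Cfsg Cfsg.Agent.Lib.Helper4_InvPairs

/-- `t` is an involution all of whose products with its conjugates have odd order. -/
def OddProd {G : Type*} [Group G] (t : G) : Prop :=
  orderOf t = 2 ∧ ∀ g : G, Odd (orderOf (t * (g * t * g⁻¹)))

section Basic

variable {G : Type*} [Group G]

theorem OddProd.conj {t : G} (ht : OddProd t) (h : G) : OddProd (h * t * h⁻¹) := by
  refine ⟨?_, fun g => ?_⟩
  · have := (MulAut.conj h).orderOf_eq t
    rw [MulAut.conj_apply] at this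
    rw [this, ht.1]
  · have h1 : h * t * h⁻¹ * (g * (h * t * h⁻¹) * g⁻¹) =
        h * (t * ((h⁻¹ * g * h) * t * (h⁻¹ * g * h)⁻¹)) * h⁻¹ := by group
    rw [h1]
    have := (MulAut.conj h).orderOf_eq (t * ((h⁻¹ * g * h) * t * (h⁻¹ * g * h)⁻¹))
    rw [MulAut.conj_apply] at this
    rw [this]
    exact ht.2 _

/-- An `OddProd` involution commutes with none of its other conjugates. -/
theorem OddProd.eq_of_commute {t : G} (ht : OddProd t) (g : G) (hc : Commute t (g * t * g⁻¹)) :
    g * t * g⁻¹ = t := by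
  have hs : orderOf (g * t * g⁻¹) = 2 := (ht.conj g).1
  have h2 : (t * (g * t * g⁻¹)) ^ 2 = 1 := by
    rw [hc.mul_pow, pow_two, pow_two, mul_self_of_orderOf_two ht.1, mul_self_of_orderOf_two hs,
      one_mul]
  have hdvd : orderOf (t * (g * t * g⁻¹)) ∣ 2 := orderOf_dvd_of_pow_eq_one h2
  have hodd := ht.2 g
  have h1 : orderOf (t * (g * t * g⁻¹)) = 1 := by
    rcases (Nat.dvd_prime Nat.prime_two).mp hdvd with h | h
    · exact h
    · rw [h] at hodd; exact absurd hodd (by decide)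
  have h3 : t * (g * t * g⁻¹) = 1 := orderOf_eq_one_iff.mp h1
  have h4 : g * t * g⁻¹ = t⁻¹ := by
    rw [eq_inv_iff_mul_eq_one, ← hc.eq]; exact h3
  rw [h4, inv_eq_self_of_orderOf_two ht.1]

/-- An involution commuting with `t` and different from `t` is not conjugate to `t`. -/
theorem OddProd.not_conj_of_commute {t : G} (ht : OddProd t) {v : G}
    (hvt : v ≠ t) (hc : Commute t v) (g : G) : g * t * g⁻¹ ≠ v := by
  intro h
  apply hvt
  rw [← h]
  apply ht.eq_of_commute g
  rw [h]; exact hc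

theorem OddProd.subgroup {t : G} (ht : OddProd t) (H : Subgroup G) (htH : t ∈ H) :
    OddProd (⟨t, htH⟩ : H) := by
  refine ⟨?_, fun g => ?_⟩
  · rw [← ht.1]
    exact (Subgroup.orderOf_mk t htH)
  · have h1 : ((⟨t, htH⟩ * (g * ⟨t, htH⟩ * g⁻¹) : H) : G) = t * ((g : G) * t * (g : G)⁻¹) := rfl
    rw [← Subgroup.orderOf_coe, h1]
    exact ht.2 _

theorem OddProd.quotient {t : G} (ht : OddProd t) (N : Subgroup G) [N.Normal] (htN : t ∉ N) :
    OddProd (QuotientGroup.mk t : G ⧸ N) := by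
  refine ⟨?_, fun g => ?_⟩
  · apply orderOf_two_of_mul_self
    · rw [← QuotientGroup.mk_mul, mul_self_of_orderOf_two ht.1]; rfl
    · intro h
      exact htN ((QuotientGroup.eq_one_iff t).mp h)
  · obtain ⟨g, rfl⟩ := QuotientGroup.mk_surjective g
    have h1 : (QuotientGroup.mk t : G ⧸ N) * (QuotientGroup.mk g * QuotientGroup.mk t *
        (QuotientGroup.mk g)⁻¹) = QuotientGroup.mk' N (t * (g * t * g⁻¹)) := rfl
    rw [h1]
    exact (ht.2 g).of_dvd_nat (orderOf_map_dvd _ _)

end Basic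

section Fusion

variable {G : Type*} [Group G] [Finite G]

/-- The centralizer of an `OddProd` involution controls fusion of its elements. -/
theorem OddProd.fusion_control {t : G} (ht : OddProd t) (v a : G) (hv : Commute t v)
    (hav : Commute t (a * v * a⁻¹)) : ∃ c : G, Commute c t ∧ c * v * c⁻¹ = a * v * a⁻¹ := by
  have hy : orderOf (a * t * a⁻¹) = 2 := (ht.conj a).1
  obtain ⟨d, hd, hdt⟩ := Cfsg.Agent.S0208.result t (a * t * a⁻¹) ht.1 hy (ht.2 a)
  -- `d` centralizes `a v a⁻¹`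
  have hle : Subgroup.closure ({t, a * t * a⁻¹} : Set G) ≤
      Subgroup.centralizer ({a * v * a⁻¹} : Set G) := by
    rw [Subgroup.closure_le]
    intro x hx
    rw [SetLike.mem_coe, Subgroup.mem_centralizer_iff]
    intro k hk
    rw [Set.mem_singleton_iff] at hk
    rw [hk]
    rcases hx with hx | hx
    · rw [hx]; exact hav.eq.symm
    · rw [Set.mem_singleton_iff] at hx
      rw [hx]
      have : a * v * a⁻¹ * (a * t * a⁻¹) = a * (v * t) * a⁻¹ := by group
      rw [this, ← hv.eq]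
      group
  have hdc : a * v * a⁻¹ * d = d * (a * v * a⁻¹) :=
    Subgroup.mem_centralizer_iff.mp (hle hd) _ (Set.mem_singleton _)
  refine ⟨d⁻¹ * a, ?_, ?_⟩
  · show d⁻¹ * a * t = t * (d⁻¹ * a)
    have h1 : a * t = d * t * d⁻¹ * a := by rw [hdt]; group
    calc d⁻¹ * a * t = d⁻¹ * (a * t) := by group
      _ = d⁻¹ * (d * t * d⁻¹ * a) := by rw [h1]
      _ = t * (d⁻¹ * a) := by group
  · calc d⁻¹ * a * v * (d⁻¹ * a)⁻¹ = d⁻¹ * (a * v * a⁻¹ * d) := by group
      _ = d⁻¹ * (d * (a * v * a⁻¹)) := by rw [hdc]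
      _ = a * v * a⁻¹ := by group

/-- Dihedral computation: if `s, v` are involutions, `w = s v`, `z = w ^ m` commutes with `s`
and `m + 1 = 2 k`, then `w ^ k` conjugates `v` to `s z`. -/
theorem dihedral_conj {s v : G} (hs : orderOf s = 2) (hv : orderOf v = 2) (m k : ℕ)
    (hmk : m + 1 = 2 * k) (hz : Commute ((s * v) ^ m) s) :
    (s * v) ^ k * v * ((s * v) ^ k)⁻¹ = s * (s * v) ^ m := by
  have hv2 := mul_self_of_orderOf_two hv
  have hvi := inv_eq_self_of_orderOf_two hv
  have hsi := inv_eq_self_of_orderOf_two hs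
  set w := s * v with hw
  have h1 : v * w * v⁻¹ = w⁻¹ := by
    rw [hw, mul_inv_rev, hvi, hsi]
    calc v * (s * v) * v = v * s * (v * v) := by group
      _ = v * s := by rw [hv2, mul_one]
  have h2 : v * w ^ k * v⁻¹ = (w ^ k)⁻¹ := by
    rw [← conj_pow, h1, inv_pow]
  have h3 : v * (w ^ k)⁻¹ * v⁻¹ = w ^ k := by
    have := congrArg (fun x => x⁻¹) h2
    simp only [mul_inv_rev, inv_inv] at this
    rw [mul_assoc]; exact this
  have h4 : w * v = s := by
    rw [hw, mul_assoc, hv2, mul_one]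
  calc w ^ k * v * (w ^ k)⁻¹ = w ^ k * (v * (w ^ k)⁻¹ * v⁻¹) * v := by group
    _ = w ^ k * w ^ k * v := by rw [h3]
    _ = w ^ (m + 1) * v := by rw [← pow_add, hmk, two_mul]
    _ = w ^ m * (w * v) := by rw [pow_succ]; group
    _ = w ^ m * s := by rw [h4]
    _ = s * w ^ m := hz.eq

/-- Elements of `O(C_G(z))` have odd order. -/
theorem odd_orderOf_of_mem_centralizerPPrimeCore {z y : G}
    (hy : y ∈ centralizerPPrimeCore 2 z) : Odd (orderOf y) := by
  have hcop : (Nat.card (centralizerPPrimeCore 2 z)).Coprime 2 := by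
    unfold centralizerPPrimeCore
    rw [Subgroup.card_map_of_injective (Subgroup.subtype_injective _)]
    exact Cfsg.Agent.Lib.Helper1_Cores.pPrimeCore_card_coprime 2
  have hdvd : orderOf y ∣ Nat.card (centralizerPPrimeCore 2 z) :=
    Subgroup.orderOf_dvd_natCard _ hy
  have h2 : (orderOf y).Coprime 2 := Nat.Coprime.coprime_dvd_left hdvd hcop
  exact Nat.Coprime.odd_of_right h2

/-- The group-theoretic heart of the `Z*`-theorem: if `t` is an `OddProd` involution, the theorem
holds in centralizers of involutions, `v ≠ t` is an involution commuting with `t` and `s` is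
conjugate to `t`, then `s v = z y` with `z` an involution conjugate to `t v` and
`y ∈ O(C_G(z))`. -/
theorem OddProd.key_claim {t : G} (ht : OddProd t)
    (hIH : ∀ z : G, orderOf z = 2 → ∀ s : G, OddProd s → Commute s z → ∀ h : G, Commute h z →
      s * h * s⁻¹ * h⁻¹ ∈ centralizerPPrimeCore 2 z)
    (v : G) (hv : orderOf v = 2) (hvt : v ≠ t) (hc : Commute t v) (s : G) (hs : IsConj t s) :
    ∃ z y : G, orderOf z = 2 ∧ y ∈ centralizerPPrimeCore 2 z ∧ s * v = z * y ∧
      IsConj z (t * v) := by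
  obtain ⟨g, hg⟩ := isConj_iff.mp hs
  have hs' : OddProd s := hg ▸ ht.conj g
  have hs2 := mul_self_of_orderOf_two hs'.1
  have hv2 := mul_self_of_orderOf_two hv
  have hsi := inv_eq_self_of_orderOf_two hs'.1
  have hvi := inv_eq_self_of_orderOf_two hv
  -- `v` is not conjugate to `s`
  have hnc : ∀ a : G, a * s * a⁻¹ ≠ v := by
    intro a h
    apply ht.not_conj_of_commute hvt hc (a * g)
    rw [← h, ← hg]; group
  -- the order of `s v` is even
  have heven : Even (orderOf (s * v)) := by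
    by_contra hodd
    rw [Nat.not_even_iff_odd] at hodd
    obtain ⟨d, -, hd⟩ := Cfsg.Agent.S0208.result s v hs'.1 hv hodd
    exact hnc d hd
  obtain ⟨hz2, hzs, hzv⟩ := Cfsg.Agent.S0209.result s v hs'.1 hv heven
  set w := s * v with hw
  set n := orderOf w with hn
  set m := n / 2 with hm
  set z := w ^ m with hz
  have hnm : n = 2 * m := (Nat.mul_div_cancel' (even_iff_two_dvd.mp heven)).symm
  -- `w ^ 2 ∈ O(C_G(z))`
  have hw2 : w ^ 2 ∈ centralizerPPrimeCore 2 z := by
    have := hIH z hz2 s hs' hzs.symm v hzv.symm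
    rw [hsi, hvi] at this
    have e : s * v * s * v = w ^ 2 := by rw [hw, pow_two]; group
    rwa [e] at this
  -- `m` is odd
  have hmodd : Odd m := by
    have h1 := odd_orderOf_of_mem_centralizerPPrimeCore hw2
    have h2 : orderOf (w ^ 2) = m := by
      rw [orderOf_pow' w (by norm_num : (2 : ℕ) ≠ 0), ← hn, hm]
      congr 1
      exact Nat.gcd_eq_right (even_iff_two_dvd.mp heven)
    rwa [h2] at h1
  obtain ⟨j, hj⟩ := hmodd
  have hmk : m + 1 = 2 * (j + 1) := by omega
  -- the decomposition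
  have hy : w ^ (m + 1) ∈ centralizerPPrimeCore 2 z := by
    rw [hmk, pow_mul]
    exact Subgroup.pow_mem _ hw2 _
  have hdec : s * v = z * w ^ (m + 1) := by
    rw [hz, ← pow_add, show m + (m + 1) = n + 1 by omega, pow_succ, hn, pow_orderOf_eq_one,
      one_mul]
  refine ⟨z, w ^ (m + 1), hz2, hy, hdec, ?_⟩
  -- `z` is conjugate to `t v`
  have hd := dihedral_conj hs'.1 hv m (j + 1) hmk hzs
  rw [← hw, ← hz] at hd
  set d := w ^ (j + 1) with hddef
  -- `u₂ = (g⁻¹ d) v (g⁻¹ d)⁻¹` commutes with `t`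
  have hu2 : (g⁻¹ * d) * v * (g⁻¹ * d)⁻¹ = g⁻¹ * (s * z) * g := by
    rw [← hd]; group
  have ht' : t = g⁻¹ * s * g := by rw [← hg]; group
  have hcomm : Commute t ((g⁻¹ * d) * v * (g⁻¹ * d)⁻¹) := by
    rw [hu2, ht']
    show g⁻¹ * s * g * (g⁻¹ * (s * z) * g) = g⁻¹ * (s * z) * g * (g⁻¹ * s * g)
    have e1 : g⁻¹ * s * g * (g⁻¹ * (s * z) * g) = g⁻¹ * (s * (s * z)) * g := by group
    have e2 : g⁻¹ * (s * z) * g * (g⁻¹ * s * g) = g⁻¹ * (s * (z * s)) * g := by group
    rw [e1, e2, hzs.eq]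
  obtain ⟨c, hct, hcv⟩ := ht.fusion_control v (g⁻¹ * d) hc hcomm
  rw [isConj_comm, isConj_iff]
  refine ⟨g * c, ?_⟩
  have hctt : c * t * c⁻¹ = t := by
    rw [hct.eq]; group
  have h1 : c * (t * v) * c⁻¹ = t * (g⁻¹ * (s * z) * g) := by
    calc c * (t * v) * c⁻¹ = (c * t * c⁻¹) * (c * v * c⁻¹) := by group
      _ = t * (g⁻¹ * (s * z) * g) := by rw [hctt, hcv, hu2]
  calc g * c * (t * v) * (g * c)⁻¹ = g * (c * (t * v) * c⁻¹) * g⁻¹ := by group
    _ = g * (t * (g⁻¹ * (s * z) * g)) * g⁻¹ := by rw [h1]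
    _ = (g * t * g⁻¹) * (s * z) := by group
    _ = s * (s * z) := by rw [hg]
    _ = z := by rw [← mul_assoc, hs2, one_mul]

end Fusion

end Cfsg.Agent.Lib.Helper23_ZStarA
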