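import Mathlib
import Cfsg.Prelude.Def_Blocks
import Cfsg.Agent.Lib.Helper23_ZStarA
import Cfsg.Agent.Lib.Helper78_LocalRing
import Cfsg.Agent.Lib.Helper78_CharFacts
import Cfsg.Agent.Lib.Helper80_CharBasic
import Cfsg.Agent.Lib.Helper3_CharEigen
import Cfsg.Agent.Lib.Helper16_Char
import Cfsg.Agent.Lib.Helper16_PrincipalSection
import Cfsg.Agent.Lib.Helper77_WeakOrth
import Cfsg.Agent.S0943

/-!
# Glauberman's Z*-theorem, character-theoretic part (helper23)

In a minimal situation (`G = ⟨t^G⟩`, the theorem known in centralizers of involutions), a Sylow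
`2`-subgroup containing the isolated involution `t` has no other involution.
-/

set_option autoImplicit false
set_option linter.unusedSectionVars false

namespace Cfsg.Agent.Lib.Helper23_ZStarB

open Cfsg Cfsg.Agent.Lib.Helper4_InvPairs Cfsg.Agent.Lib.Helper23_ZStarA
  Cfsg.Agent.Lib.Helper78_LocalRing Cfsg.Agent.Lib.Helper78_CharFacts
  Cfsg.Agent.Lib.Helper80_CharBasic Cfsg.Agent.Lib.Helper16_Char

open scoped ComplexConjugate

/-- For every prime `p` there is a maximal ideal of the algebraic integers containing `p`. -/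
theorem exists_pModular (p : ℕ) (hp : p.Prime) : ∃ M : Ideal AlgInt, IsPModular p M := by
  have hne : Ideal.span {(p : AlgInt)} ≠ ⊤ := by
    rw [Ne, Ideal.span_singleton_eq_top]
    intro hu
    obtain ⟨b, hb⟩ := hu.exists_right_inv
    have hbint : IsIntegral ℤ (b : ℂ) := b.2
    have hpC : (p : ℂ) ≠ 0 := by exact_mod_cast hp.ne_zero
    have hbval : (b : ℂ) = algebraMap ℚ ℂ (1 / (p : ℚ)) := by
      have h1 := congrArg (fun x : AlgInt => (x : ℂ)) hb
      simp only [MulMemClass.coe_mul, OneMemClass.coe_one] at h1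
      have h2 : ((p : AlgInt) : ℂ) = (p : ℂ) := by simp
      rw [h2] at h1
      rw [map_div₀, map_one, map_natCast]
      field_simp
      linear_combination h1
    rw [hbval] at hbint
    have h3 : IsIntegral ℤ (1 / (p : ℚ)) :=
      (isIntegral_algebraMap_iff (algebraMap ℚ ℂ).injective).1 hbint
    obtain ⟨m, hm⟩ := IsIntegrallyClosed.isIntegral_iff.mp h3
    have hpQ : (p : ℚ) ≠ 0 := by exact_mod_cast hp.ne_zero
    have h4 : (m : ℚ) * (p : ℚ) = 1 := by
      have : (algebraMap ℤ ℚ m : ℚ) = (m : ℚ) := rfl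
      rw [← this, hm]
      field_simp
    have h5 : m * (p : ℤ) = 1 := by exact_mod_cast h4
    have h6 : (p : ℤ) ∣ 1 := ⟨m, by rw [mul_comm]; exact h5.symm⟩
    have h7 : p ∣ 1 := by exact_mod_cast h6
    exact hp.one_lt.ne' (Nat.dvd_one.mp h7)
  obtain ⟨M, hM, hle⟩ := Ideal.exists_le_maximal _ hne
  exact ⟨M, hp, hM, hle (Ideal.mem_span_singleton_self _)⟩

section Kernel

variable {G : Type*} [Group G] [Finite G]

theorem char_eq_char_one_iff {n : ℕ} (ρ : Representation ℂ G (Fin n → ℂ)) (g : G) :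
    ρ.character g = ρ.character 1 ↔ ρ g = 1 := by
  rw [Representation.char_one]
  exact Cfsg.Agent.Lib.Helper3_CharEigen.char_eq_finrank_iff ρ g

/-- The kernel of an irreducible character, as a subgroup. -/
def irrKer (ψ : IrrCharacter G) : Subgroup G where
  carrier := {g | (ψ : G → ℂ) g = (ψ : G → ℂ) 1}
  one_mem' := rfl
  mul_mem' := by
    intro a b ha hb
    obtain ⟨n, ρ, -, hρ⟩ := ψ.2
    simp only [Set.mem_ofPred_eq, ← hρ] at ha hb ⊢
    rw [char_eq_char_one_iff] at ha hb ⊢
    rw [map_mul, ha, hb, mul_one]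
  inv_mem' := by
    intro a ha
    obtain ⟨n, ρ, -, hρ⟩ := ψ.2
    simp only [Set.mem_ofPred_eq, ← hρ] at ha ⊢
    rw [char_eq_char_one_iff] at ha ⊢
    have h1 : ρ a⁻¹ = ρ a⁻¹ * ρ a := by rw [ha, mul_one]
    rw [h1, ← map_mul, inv_mul_cancel, map_one]

theorem mem_irrKer (ψ : IrrCharacter G) (g : G) :
    g ∈ irrKer ψ ↔ (ψ : G → ℂ) g = (ψ : G → ℂ) 1 := Iff.rfl

instance irrKer_normal (ψ : IrrCharacter G) : (irrKer ψ).Normal := by
  refine ⟨fun n hn g => ?_⟩
  rw [mem_irrKer, irr_conj]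
  exact hn

/-- An irreducible character whose kernel is everything is the principal character. -/
theorem eq_oneIrr_of_forall (ψ : IrrCharacter G) (h : ∀ g : G, (ψ : G → ℂ) g = (ψ : G → ℂ) 1) :
    ψ = oneIrr G := by
  classical
  let _ : Fintype G := Fintype.ofFinite G
  by_contra hne
  have h0 := irr_orthogonal ψ (oneIrr G) hne
  obtain ⟨n, hn, hn1⟩ := irr_apply_one ψ
  have h1 : ∑ g : G, (ψ : G → ℂ) g * ((oneIrr G : IrrCharacter G) : G → ℂ) g⁻¹ =
      (Nat.card G : ℂ) * (n : ℂ) := by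
    have : ∀ g : G, (ψ : G → ℂ) g * ((oneIrr G : IrrCharacter G) : G → ℂ) g⁻¹ = (n : ℂ) := by
      intro g
      rw [h g, hn1]
      show (n : ℂ) * 1 = n
      rw [mul_one]
    rw [Finset.sum_congr rfl fun g _ => this g, Finset.sum_const, Finset.card_univ,
      nsmul_eq_mul, Nat.card_eq_fintype_card]
  rw [h1] at h0
  have hG : (Nat.card G : ℂ) ≠ 0 := by exact_mod_cast (Nat.card_pos (α := G)).ne'
  have hnC : (n : ℂ) ≠ 0 := by exact_mod_cast hn.ne'
  exact mul_ne_zero hG hnC h0

/-- If `G` is generated by the conjugates of `t` and `ψ t = ψ 1` then `ψ` is principal. -/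
theorem eq_oneIrr_of_normalClosure {t : G} (hN : Subgroup.normalClosure ({t} : Set G) = ⊤)
    (ψ : IrrCharacter G) (h : (ψ : G → ℂ) t = (ψ : G → ℂ) 1) : ψ = oneIrr G := by
  apply eq_oneIrr_of_forall
  intro g
  have hle : Subgroup.normalClosure ({t} : Set G) ≤ irrKer ψ :=
    Subgroup.normalClosure_le_normal (by
      intro x hx
      rw [Set.mem_singleton_iff] at hx
      rw [hx]
      exact h)
  rw [hN] at hle
  exact hle (Subgroup.mem_top g)

end Kernel

section CaseB

variable {G : Type*} [Group G] [Finite G]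

/-- The class-multiplication identity for `t` and an involution `v ≠ t` of `C_G(t)`, for the
characters of the principal `2`-block. -/
theorem principal_mul_identity {M : Ideal AlgInt} (hM : IsPModular 2 M) {t : G} (ht : OddProd t)
    (hIH : ∀ z : G, orderOf z = 2 → ∀ s : G, OddProd s → Commute s z → ∀ h : G, Commute h z →
      s * h * s⁻¹ * h⁻¹ ∈ centralizerPPrimeCore 2 z)
    (v : G) (hv : orderOf v = 2) (hvt : v ≠ t) (hc : Commute t v)
    (χ : IrrCharacter G) (hχ : χ ∈ principalBlock M G) :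
    (χ : G → ℂ) t * (χ : G → ℂ) v = (χ : G → ℂ) 1 * (χ : G → ℂ) (t * v) := by
  have : Fact (Nat.Prime 2) := ⟨Nat.prime_two⟩
  apply Cfsg.Agent.S0943.result χ t v
  intro x y hx hy
  obtain ⟨a, ha⟩ := isConj_iff.mp hy
  have hxy : x * y = a * ((a⁻¹ * x * a) * v) * a⁻¹ := by rw [← ha]; group
  rw [hxy, irr_conj]
  have hs : IsConj t (a⁻¹ * x * a) := by
    refine hx.trans ?_
    rw [isConj_iff]
    exact ⟨a⁻¹, by group⟩
  obtain ⟨z, y', hz2, hy', hdec, hzc⟩ := ht.key_claim hIH v hv hvt hc (a⁻¹ * x * a) hs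
  rw [hdec, Cfsg.Agent.Lib.Helper16_PrincipalSection.principal_mul_centralizerPPrimeCore hM z
    ⟨1, by rw [hz2, pow_one]⟩ y' hy' χ hχ]
  exact irr_isConj χ hzc

/-- **Case B of the `Z*`-theorem**: if `G` is generated by the conjugates of the `OddProd`
involution `t`, and the theorem holds in centralizers of involutions, then no involution `u ≠ t`
commutes with `t`. -/
theorem no_other_involution {t : G} (ht : OddProd t)
    (hN : Subgroup.normalClosure ({t} : Set G) = ⊤)
    (hIH : ∀ z : G, orderOf z = 2 → ∀ s : G, OddProd s → Commute s z → ∀ h : G, Commute h z →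
      s * h * s⁻¹ * h⁻¹ ∈ centralizerPPrimeCore 2 z)
    (u : G) (hu : orderOf u = 2) (hut : u ≠ t) (hc : Commute t u) : False := by
  classical
  have : Fact (Nat.Prime 2) := ⟨Nat.prime_two⟩
  obtain ⟨M, hM⟩ := exists_pModular 2 Nat.prime_two
  have hMp := isPrime_of_isPModular hM
  let _ : Fintype G := Fintype.ofFinite G
  have hfin : Finite (IrrCharacter G) := charFacts.finite
  have := Fintype.ofFinite (IrrCharacter G)
  have ht2 := mul_self_of_orderOf_two ht.1
  have hu2 := mul_self_of_orderOf_two hu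
  -- `t u` is an involution of `C_G(t)` different from `t`
  have htu2 : orderOf (t * u) = 2 := by
    apply orderOf_two_of_mul_self
    · calc t * u * (t * u) = t * (u * t) * u := by group
        _ = t * (t * u) * u := by rw [hc.eq]
        _ = (t * t) * (u * u) := by group
        _ = 1 := by rw [ht2, hu2, one_mul]
    · intro h
      apply hut
      have : u = t⁻¹ := by rw [eq_inv_iff_mul_eq_one, ← hc.eq]; exact h
      rw [this, inv_eq_self_of_orderOf_two ht.1]
  have htut : t * u ≠ t := by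
    intro h
    exact ne_one_of_orderOf_two hu (mul_left_cancel (h.trans (mul_one t).symm))
  have hctu : Commute t (t * u) := by
    show t * (t * u) = t * u * t
    rw [mul_assoc, hc.eq]
  have httu : t * (t * u) = u := by rw [← mul_assoc, ht2, one_mul]
  -- the block
  have hB : IsPBlock M (principalBlock M G) := ⟨oneIrr G, rfl⟩
  set S : Finset (IrrCharacter G) := Finset.univ.filter (fun χ => χ ∈ principalBlock M G) with hSdef
  have hS : ∀ f : IrrCharacter G → ℂ, ∑ᶠ χ ∈ principalBlock M G, f χ = ∑ χ ∈ S, f χ := by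
    intro f
    have e := finsum_mem_eq_sum_ite (fun χ => χ ∈ principalBlock M G) f
    rw [show (∑ᶠ χ ∈ principalBlock M G, f χ) = _ from e, hSdef, Finset.sum_filter]
  have hmemS : ∀ χ, χ ∈ S ↔ χ ∈ principalBlock M G := by
    intro χ
    rw [hSdef, Finset.mem_filter]
    exact ⟨fun h => h.2, fun h => ⟨Finset.mem_univ _, h⟩⟩
  have hone : oneIrr G ∈ S := (hmemS _).mpr (sameBlock_refl hMp _)
  -- the two identities
  have hR1 : ∀ χ ∈ S, (χ : G → ℂ) t * (χ : G → ℂ) u = (χ : G → ℂ) 1 * (χ : G → ℂ) (t * u) :=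
    fun χ hχ => principal_mul_identity hM ht hIH u hu hut hc χ ((hmemS χ).mp hχ)
  have hR2 : ∀ χ ∈ S, (χ : G → ℂ) t * (χ : G → ℂ) (t * u) = (χ : G → ℂ) 1 * (χ : G → ℂ) u := by
    intro χ hχ
    have := principal_mul_identity hM ht hIH (t * u) htu2 htut hctu χ ((hmemS χ).mp hχ)
    rwa [httu] at this
  -- reality
  have hreal : ∀ (χ : IrrCharacter G) (x : G), orderOf x = 2 →
      conj ((χ : G → ℂ) x) = (χ : G → ℂ) x := by
    intro χ x hx
    rw [← irr_inv, inv_eq_self_of_orderOf_two hx]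
  -- orthogonality
  have h1reg : ¬ 2 ∣ orderOf (1 : G) := by rw [orderOf_one]; norm_num
  have hO1 := Cfsg.Agent.Lib.Helper77_WeakOrth.weak_orthogonality_block hM hB 1 u h1reg
    (by rw [hu])
  have hO2 := Cfsg.Agent.Lib.Helper77_WeakOrth.weak_orthogonality_block hM hB 1 (t * u) h1reg
    (by rw [htu2])
  rw [hS] at hO1 hO2
  -- the combined sum vanishes
  have hsum0 : ∑ χ ∈ S, ((χ : G → ℂ) 1 + (χ : G → ℂ) t) * (χ : G → ℂ) u = 0 := by
    have e : ∀ χ ∈ S, ((χ : G → ℂ) 1 + (χ : G → ℂ) t) * (χ : G → ℂ) u =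
        (χ : G → ℂ) 1 * conj ((χ : G → ℂ) u) + (χ : G → ℂ) 1 * conj ((χ : G → ℂ) (t * u)) := by
      intro χ hχ
      rw [hreal χ u hu, hreal χ (t * u) htu2, ← hR1 χ hχ]
      ring
    rw [Finset.sum_congr rfl e, Finset.sum_add_distrib, hO1, hO2, add_zero]
  -- termwise evaluation
  have hterm : ∀ χ ∈ S, ((χ : G → ℂ) 1 + (χ : G → ℂ) t) * (χ : G → ℂ) u =
      if χ = oneIrr G then 2 else 0 := by
    intro χ hχ
    by_cases hχ1 : χ = oneIrr G
    · rw [if_pos hχ1, hχ1]
      show ((1 : ℂ) + 1) * 1 = 2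
      norm_num
    · rw [if_neg hχ1]
      have r1 := hR1 χ hχ
      have r2 := hR2 χ hχ
      have h3 : ((χ : G → ℂ) t - (χ : G → ℂ) 1) * (((χ : G → ℂ) t + (χ : G → ℂ) 1) *
          (χ : G → ℂ) u) = 0 := by
        linear_combination (χ : G → ℂ) t * r1 + (χ : G → ℂ) 1 * r2
      rcases mul_eq_zero.mp h3 with h4 | h4
      · exfalso
        exact hχ1 (eq_oneIrr_of_normalClosure hN χ (sub_eq_zero.mp h4))
      · rw [add_comm] at h4
        exact h4
  rw [Finset.sum_congr rfl hterm, Finset.sum_ite_eq' S (oneIrr G), if_pos hone] at hsum0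
  norm_num at hsum0

end CaseB

end Cfsg.Agent.Lib.Helper23_ZStarB
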