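import Mathlib

/-!
# Galois norm argument for averages of roots of unity (helper3).
-/

set_option autoImplicit false
set_option linter.unusedSectionVars false

namespace Cfsg.Agent.Lib.Helper3_CharGalois

open Polynomial

section abstract

variable (K : IntermediateField ℚ ℂ) [FiniteDimensional ℚ K] [IsGalois ℚ K]

/-- If `a` is an algebraic integer in a Galois number field `K ⊆ ℂ` all of whose Galois
conjugates have absolute value at most one, then `a = 0` or `‖a‖ = 1`. -/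
theorem eq_zero_or_norm_eq_one_of_conjugates_le_one (a : K) (ha : IsIntegral ℤ a)
    (hconj : ∀ σ : K ≃ₐ[ℚ] K, ‖((σ a : K) : ℂ)‖ ≤ 1) : a = 0 ∨ ‖(a : ℂ)‖ = 1 := by
  classical
  have hN : IsIntegral ℤ (Algebra.norm ℚ a) := Algebra.isIntegral_norm ℚ ha
  obtain ⟨m, hm⟩ := IsIntegrallyClosed.isIntegral_iff.mp hN
  have hprod : algebraMap ℚ K (Algebra.norm ℚ a) = ∏ σ : K ≃ₐ[ℚ] K, σ a :=
    Algebra.norm_eq_prod_automorphisms ℚ a
  have hprodC : ((Algebra.norm ℚ a : ℚ) : ℂ) = ∏ σ : K ≃ₐ[ℚ] K, ((σ a : K) : ℂ) := by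
    have := congrArg (fun x : K => (x : ℂ)) hprod
    simp only [IntermediateField.coe_prod] at this
    rw [← this]
    rfl
  have hnorm : ‖((Algebra.norm ℚ a : ℚ) : ℂ)‖ = ∏ σ : K ≃ₐ[ℚ] K, ‖((σ a : K) : ℂ)‖ := by
    rw [hprodC, norm_prod]
  -- split off the identity automorphism
  have hsplit : ∏ σ : K ≃ₐ[ℚ] K, ‖((σ a : K) : ℂ)‖ =
      ‖(a : ℂ)‖ * ∏ σ ∈ Finset.univ.erase (AlgEquiv.refl : K ≃ₐ[ℚ] K), ‖((σ a : K) : ℂ)‖ := by
    rw [← Finset.mul_prod_erase Finset.univ _ (Finset.mem_univ (AlgEquiv.refl : K ≃ₐ[ℚ] K))]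
    rfl
  have hrest_le : ∏ σ ∈ Finset.univ.erase (AlgEquiv.refl : K ≃ₐ[ℚ] K), ‖((σ a : K) : ℂ)‖ ≤ 1 :=
    Finset.prod_le_one (fun σ _ => norm_nonneg _) (fun σ _ => hconj σ)
  have hrest_nonneg : 0 ≤ ∏ σ ∈ Finset.univ.erase (AlgEquiv.refl : K ≃ₐ[ℚ] K),
      ‖((σ a : K) : ℂ)‖ := Finset.prod_nonneg (fun σ _ => norm_nonneg _)
  have ha1 : ‖(a : ℂ)‖ ≤ 1 := by simpa using hconj AlgEquiv.refl
  by_cases hm0 : m = 0
  · left
    rw [hm0] at hm
    have : Algebra.norm ℚ a = 0 := by rw [← hm]; simp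
    exact Algebra.norm_eq_zero_iff.mp this
  · right
    have hm1 : (1 : ℝ) ≤ ‖((Algebra.norm ℚ a : ℚ) : ℂ)‖ := by
      rw [← hm]
      have : ((algebraMap ℤ ℚ m : ℚ) : ℂ) = (m : ℂ) := by simp
      rw [this, Complex.norm_intCast]
      have : (1 : ℤ) ≤ |m| := Int.one_le_abs hm0
      exact_mod_cast this
    rw [hnorm, hsplit] at hm1
    have : (1 : ℝ) ≤ ‖(a : ℂ)‖ := by
      calc (1 : ℝ) ≤ ‖(a : ℂ)‖ * ∏ σ ∈ Finset.univ.erase (AlgEquiv.refl : K ≃ₐ[ℚ] K),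
            ‖((σ a : K) : ℂ)‖ := hm1
        _ ≤ ‖(a : ℂ)‖ * 1 := mul_le_mul_of_nonneg_left hrest_le (norm_nonneg _)
        _ = ‖(a : ℂ)‖ := mul_one _
    exact le_antisymm ha1 this

end abstract

section cyclo

/-- The subfield of `ℂ` generated by the `n`-th roots of unity. -/
noncomputable def cycloField (n : ℕ) : IntermediateField ℚ ℂ :=
  IntermediateField.adjoin ℚ ((X ^ n - 1 : ℚ[X]).rootSet ℂ)

instance cycloField_isSplittingField (n : ℕ) :
    IsSplittingField ℚ (cycloField n) (X ^ n - 1 : ℚ[X]) :=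
  IntermediateField.adjoin_rootSet_isSplittingField (IsAlgClosed.splits _)

instance cycloField_finiteDimensional (n : ℕ) : FiniteDimensional ℚ (cycloField n) :=
  IsSplittingField.finiteDimensional (cycloField n) (X ^ n - 1 : ℚ[X])

theorem cycloField_isGalois (n : ℕ) (hn : 0 < n) : IsGalois ℚ (cycloField n) := by
  have hsep : (X ^ n - 1 : ℚ[X]).Separable := by
    have := Polynomial.separable_X_pow_sub_C (1 : ℚ) (by exact_mod_cast hn.ne') one_ne_zero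
    simpa using this
  exact IsGalois.of_separable_splitting_field hsep

theorem mem_cycloField_of_pow_eq_one {n : ℕ} (hn : 0 < n) {μ : ℂ} (h : μ ^ n = 1) :
    μ ∈ cycloField n := by
  apply IntermediateField.subset_adjoin
  rw [Polynomial.mem_rootSet]
  refine ⟨Polynomial.X_pow_sub_C_ne_zero hn (1 : ℚ) |> (by simpa using ·), ?_⟩
  simp [h]

/-- **Key lemma**: if `α = (∑ c μ • μ) / d` is an average of `d = ∑ c μ` roots of unity and is
an algebraic integer, then `α = 0` or `‖α‖ = 1`; stated without division for the conclusion. -/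
theorem sum_roots_of_unity_eq_zero_or_norm_eq (n : ℕ) (hn : 0 < n) (S : Finset ℂ)
    (hS : ∀ μ ∈ S, μ ^ n = 1) (c : ℂ → ℕ) (d : ℕ) (hd : d = ∑ μ ∈ S, c μ) (hd0 : 0 < d)
    (hint : IsIntegral ℤ ((∑ μ ∈ S, (c μ : ℂ) * μ) / (d : ℂ))) :
    (∑ μ ∈ S, (c μ : ℂ) * μ) = 0 ∨ ‖∑ μ ∈ S, (c μ : ℂ) * μ‖ = (d : ℝ) := by
  classical
  have := cycloField_isGalois n hn
  set K := cycloField n with hK
  have hmem : ∀ μ ∈ S, μ ∈ K := fun μ hμ => mem_cycloField_of_pow_eq_one hn (hS μ hμ)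
  let a : K := (d : K)⁻¹ * ∑ μ ∈ S.attach, (c μ.1 : K) * ⟨μ.1, hmem μ.1 μ.2⟩
  have hdC : (d : ℂ) ≠ 0 := by exact_mod_cast hd0.ne'
  have hdR : (0 : ℝ) < d := by exact_mod_cast hd0
  have hφ : ∀ x : K, (x : ℂ) = algebraMap K ℂ x := fun x => rfl
  have hφμ : ∀ μ : S, algebraMap K ℂ ⟨μ.1, hmem μ.1 μ.2⟩ = μ.1 := fun μ => rfl
  have haC : (a : ℂ) = (∑ μ ∈ S, (c μ : ℂ) * μ) / (d : ℂ) := by
    rw [hφ]
    simp only [a, map_mul, map_inv₀, map_natCast, map_sum, hφμ]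
    rw [div_eq_inv_mul]
    congr 1
    rw [← Finset.sum_attach S (fun μ => (c μ : ℂ) * μ)]
  have haint : IsIntegral ℤ a := by
    have : IsIntegral ℤ ((algebraMap K ℂ) a) := by
      rw [← hφ, haC]; exact hint
    exact (isIntegral_algebraMap_iff (algebraMap K ℂ).injective).mp this
  have hconj : ∀ σ : K ≃ₐ[ℚ] K, ‖((σ a : K) : ℂ)‖ ≤ 1 := by
    intro σ
    have h1 : σ a = (d : K)⁻¹ * ∑ μ ∈ S.attach, (c μ.1 : K) * σ ⟨μ.1, hmem μ.1 μ.2⟩ := by
      simp only [a, map_mul, map_inv₀, map_natCast, map_sum]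
    rw [h1, hφ]
    simp only [map_mul, map_inv₀, map_natCast, map_sum]
    rw [norm_mul, norm_inv, Complex.norm_natCast, inv_mul_le_iff₀ hdR, mul_one]
    refine (norm_sum_le _ _).trans ?_
    have h2 : ∀ μ ∈ S.attach,
        ‖(c μ.1 : ℂ) * algebraMap K ℂ (σ ⟨μ.1, hmem μ.1 μ.2⟩)‖ = (c μ.1 : ℝ) := by
      intro μ _
      have h3 : (σ ⟨μ.1, hmem μ.1 μ.2⟩ : K) ^ n = 1 := by
        rw [← map_pow]
        have : (⟨μ.1, hmem μ.1 μ.2⟩ : K) ^ n = 1 := by
          apply Subtype.ext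
          simp [hS μ.1 μ.2]
        rw [this, map_one]
      have h4 : (algebraMap K ℂ (σ ⟨μ.1, hmem μ.1 μ.2⟩)) ^ n = 1 := by
        rw [← map_pow, h3, map_one]
      rw [norm_mul, Complex.norm_natCast, Complex.norm_eq_one_of_pow_eq_one h4 hn.ne', mul_one]
    rw [Finset.sum_congr rfl h2, Finset.sum_attach S (fun μ => (c μ : ℝ)), hd, Nat.cast_sum]
  rcases eq_zero_or_norm_eq_one_of_conjugates_le_one K a haint hconj with h0 | h1
  · left
    have : (a : ℂ) = 0 := by rw [h0]; rfl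
    rw [haC, div_eq_zero_iff] at this
    exact this.resolve_right hdC
  · right
    rw [haC, norm_div, Complex.norm_natCast, div_eq_one_iff_eq hdR.ne'] at h1
    exact h1

end cyclo

end Cfsg.Agent.Lib.Helper3_CharGalois
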