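import Mathlib
import Cfsg.Prelude.Def_Characters
import Cfsg.Agent.Lib.Helper3_CharColumn
import Cfsg.Agent.Lib.Helper3_CharDegree
import Cfsg.Agent.Lib.Helper3_CharGalois
import Cfsg.Agent.Lib.Helper77_CentralInt
import Cfsg.Agent.Lib.Helper80_CharBasic

/-!
# Burnside's theorems on characters: coprime degree/class size, prime power classes, p^a q^b (helper3).
-/

set_option autoImplicit false
set_option linter.unusedSectionVars false

namespace Cfsg.Agent.Lib.Helper3_CharBurnside

open Representation
open scoped ComplexConjugate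
open Cfsg.Agent.Lib.Helper3_CharBridge Cfsg.Agent.Lib.Helper3_CharEigen
  Cfsg.Agent.Lib.Helper3_CharOrtho Cfsg.Agent.Lib.Helper3_CharComplete
  Cfsg.Agent.Lib.Helper3_CharColumn Cfsg.Agent.Lib.Helper3_CharDegree
  Cfsg.Agent.Lib.Helper3_CharGalois

section coprime

variable {G : Type*} [Group G] [Fintype G]
variable {V : Type*} [AddCommGroup V] [Module ℂ V] [FiniteDimensional ℂ V]

/-- If the degree of an irreducible representation is coprime to the class size of `g`, then
`χ(g) = 0` or `‖χ(g)‖ = χ(1)` (this is S0142). -/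
theorem char_eq_zero_or_norm_eq_of_coprime (ρ : Representation ℂ G V) [ρ.IsIrreducible] (g : G)
    (hcop : Nat.Coprime (Module.finrank ℂ V) (Subgroup.centralizer ({g} : Set G)).index) :
    ρ.character g = 0 ∨ ‖ρ.character g‖ = (Module.finrank ℂ V : ℝ) := by
  have hd := finrank_ne_zero_of_irr ρ
  have hdC : (Module.finrank ℂ V : ℂ) ≠ 0 := by exact_mod_cast hd
  obtain ⟨a, b, hab⟩ := (Nat.isCoprime_iff_coprime.mpr hcop)
  -- χ(g)/d is an algebraic integer
  have hint : IsIntegral ℤ (ρ.character g / (Module.finrank ℂ V : ℂ)) := by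
    have h1 : ρ.character g / (Module.finrank ℂ V : ℂ) =
        (a : ℂ) * ρ.character g + (b : ℂ) *
          (((Subgroup.centralizer ({g} : Set G)).index : ℂ) * ρ.character g /
            (Module.finrank ℂ V : ℂ)) := by
      have h2 : (a : ℂ) * (Module.finrank ℂ V : ℂ) +
          (b : ℂ) * ((Subgroup.centralizer ({g} : Set G)).index : ℂ) = 1 := by
        exact_mod_cast hab
      field_simp
      linear_combination (-(ρ.character g)) * h2
    rw [h1]
    refine IsIntegral.add (IsIntegral.mul ?_ (isIntegral_char ρ g))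
      (IsIntegral.mul ?_ (Cfsg.Agent.Lib.Helper77_CentralInt.isIntegral_centralValue ρ g))
    · have := isIntegral_algebraMap (R := ℤ) (A := ℂ) (x := a)
      rwa [algebraMap_int_eq, Int.coe_castRingHom] at this
    · have := isIntegral_algebraMap (R := ℤ) (A := ℂ) (x := b)
      rwa [algebraMap_int_eq, Int.coe_castRingHom] at this
  have hsum := char_eq_sum ρ g
  rw [hsum] at hint ⊢
  exact sum_roots_of_unity_eq_zero_or_norm_eq (orderOf g) (orderOf_pos g) (eigSet (ρ g))
    (fun μ hμ => eig_pow_orderOf ρ hμ)
    (fun μ => Module.finrank ℂ (Module.End.eigenspace (ρ g) μ)) _ (finrank_eq_sum ρ g)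
    (Nat.pos_of_ne_zero hd) hint

end coprime

section primepower

variable {G : Type*} [Group G] [Fintype G]
variable {V : Type*} [AddCommGroup V] [Module ℂ V] [FiniteDimensional ℂ V]

/-- In a non-abelian simple group, a non-identity element cannot act as a scalar in a
non-principal irreducible representation. -/
theorem not_scalar_of_simple_nonabelian [IsSimpleGroup G] (hna : ¬ ∀ a b : G, a * b = b * a)
    (ρ : Representation ℂ G V) [ρ.IsIrreducible] (hnt : ρ.character ≠ fun _ => 1) (g : G)
    (hg : g ≠ 1) (hsc : ∃ ω : ℂ, ρ g = ω • (LinearMap.id : V →ₗ[ℂ] V)) : False := by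
  obtain ⟨ω, hω⟩ := hsc
  have hK : (MonoidHom.ker ρ).Normal := MonoidHom.normal_ker ρ
  rcases IsSimpleGroup.eq_bot_or_eq_top_of_normal (MonoidHom.ker ρ) hK with hbot | htop
  · -- faithful: then `g` is central
    have hinj : Function.Injective ρ := (MonoidHom.ker_eq_bot_iff ρ).mp hbot
    have hcen : g ∈ Subgroup.center G := by
      rw [Subgroup.mem_center_iff]
      intro x
      apply hinj
      rw [map_mul, map_mul, hω]
      ext v
      simp
    have hcne : Subgroup.center G ≠ ⊥ := by
      intro h
      rw [h, Subgroup.mem_bot] at hcen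
      exact hg hcen
    have hctop : Subgroup.center G = ⊤ :=
      (IsSimpleGroup.eq_bot_or_eq_top_of_normal (Subgroup.center G) inferInstance).resolve_left hcne
    apply hna
    intro a b
    have hb : b ∈ Subgroup.center G := by rw [hctop]; trivial
    exact (Subgroup.mem_center_iff.mp hb a)
  · -- trivial action: then the character is a multiple of the principal character
    have htriv : ∀ x : G, ρ x = 1 := by
      intro x
      have : x ∈ MonoidHom.ker ρ := by rw [htop]; trivial
      exact MonoidHom.mem_ker.mp this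
    have hchar : ρ.character = fun _ => (Module.finrank ℂ V : ℂ) := by
      funext x
      rw [Representation.character, htriv x]
      exact LinearMap.trace_one ℂ V
    have h1 := classInner_of_isIrrCharacter_of_ne (isIrrCharacter_of_rep ρ)
      (Cfsg.Agent.Lib.Helper80_CharBasic.isIrrCharacter_one G) hnt
    rw [hchar, Cfsg.classInner] at h1
    simp only [map_one, mul_one, Finset.sum_const, Finset.card_univ, nsmul_eq_mul] at h1
    have hG : (Nat.card G : ℂ) ≠ 0 := card_ne_zero_complex
    have hG' : (Fintype.card G : ℂ) ≠ 0 := by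
      rw [Fintype.card_eq_nat_card]; exact hG
    have hd : (Module.finrank ℂ V : ℂ) ≠ 0 := by exact_mod_cast finrank_ne_zero_of_irr ρ
    rcases mul_eq_zero.mp h1 with h2 | h2
    · exact hG (inv_eq_zero.mp h2)
    · rcases mul_eq_zero.mp h2 with h3 | h3
      · exact hG' h3
      · exact hd h3

/-- Burnside: a finite simple group with a non-identity conjugacy class of prime power size
has prime order (this is S0143). -/
theorem prime_card_of_simple_of_prime_power_class [IsSimpleGroup G] (p k : ℕ) (hp : p.Prime)
    (g : G) (hg : g ≠ 1)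
    (hclass : (Subgroup.centralizer ({g} : Set G)).index = p ^ k) : (Nat.card G).Prime := by
  classical
  by_cases hcomm : ∀ a b : G, a * b = b * a
  · let _ : CommGroup G := { ‹Group G› with mul_comm := hcomm }
    exact IsSimpleGroup.prime_card
  exfalso
  set χ₀ : Cfsg.IrrCharacter G := ⟨fun _ => 1, Cfsg.Agent.Lib.Helper80_CharBasic.isIrrCharacter_one G⟩
    with hχ₀
  have hpC : (p : ℂ) ≠ 0 := by exact_mod_cast hp.ne_zero
  -- term-by-term analysis
  have hterm : ∀ χ : Cfsg.IrrCharacter G, ∃ t : ℂ, IsIntegral ℤ t ∧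
      (χ : G → ℂ) g * conj ((χ : G → ℂ) 1) = (if χ = χ₀ then 1 else 0) + (p : ℂ) * t := by
    intro χ
    by_cases hχ : χ = χ₀
    · refine ⟨0, isIntegral_zero, ?_⟩
      rw [if_pos hχ, hχ]
      simp [hχ₀]
    simp only [if_neg hχ, zero_add]
    obtain ⟨n, ρ, hirr, hρ⟩ := χ.2
    have := hirr
    have hd1 : (χ : G → ℂ) 1 = (Module.finrank ℂ (Fin n → ℂ) : ℂ) := by
      rw [← hρ, char_one]
    rw [hd1, Complex.conj_natCast]
    by_cases hpd : p ∣ Module.finrank ℂ (Fin n → ℂ)
    · obtain ⟨m, hm⟩ := hpd
      refine ⟨(χ : G → ℂ) g * (m : ℂ), ?_, ?_⟩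
      · refine IsIntegral.mul ?_ (isIntegral_algebraMap (R := ℤ) (x := (m : ℤ)) |>
          (by simpa using ·))
        rw [← hρ]
        exact isIntegral_char ρ g
      · rw [hm]
        push_cast
        ring
    · refine ⟨0, isIntegral_zero, ?_⟩
      rw [mul_zero]
      have hcop : Nat.Coprime (Module.finrank ℂ (Fin n → ℂ))
          (Subgroup.centralizer ({g} : Set G)).index := by
        rw [hclass]
        exact Nat.Coprime.pow_right k ((Nat.Prime.coprime_iff_not_dvd hp).mpr hpd).symm
      rcases char_eq_zero_or_norm_eq_of_coprime ρ g hcop with h0 | h1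
      · rw [← hρ, h0, zero_mul]
      · exfalso
        refine not_scalar_of_simple_nonabelian hcomm ρ ?_ g hg ((norm_char_eq_iff ρ g).mp h1)
        intro h
        apply hχ
        apply Subtype.ext
        rw [← hρ, h]
  choose t ht1 ht2 using hterm
  have hcol := column_orthogonality g (1 : G)
  have hnc : ¬ IsConj g 1 := by
    intro h
    exact hg (isConj_one_left.mp h)
  rw [if_neg hnc] at hcol
  simp_rw [ht2] at hcol
  rw [Finset.sum_add_distrib, Finset.sum_ite_eq' Finset.univ χ₀, if_pos (Finset.mem_univ _),
    ← Finset.mul_sum] at hcol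
  have hβ : IsIntegral ℤ (∑ χ : Cfsg.IrrCharacter G, t χ) := IsIntegral.sum _ (fun χ _ => ht1 χ)
  have h1 : ((1 : ℕ) : ℂ) / (p : ℂ) = -(∑ χ : Cfsg.IrrCharacter G, t χ) := by
    field_simp
    push_cast
    linear_combination hcol
  have h2 : IsIntegral ℤ (((1 : ℕ) : ℂ) / (p : ℂ)) := by
    rw [h1]; exact hβ.neg
  have h3 := dvd_of_isIntegral_div hp.ne_zero h2
  exact hp.one_lt.ne' (Nat.dvd_one.mp h3)

end primepower

section paqb

universe u

/-- A group all of whose prime divisors equal `p` is a `p`-group, hence solvable. -/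
theorem isSolvable_of_unique_prime {G : Type u} [Group G] [Finite G] (p : ℕ) (hp : p.Prime)
    (h : ∀ r : ℕ, r.Prime → r ∣ Nat.card G → r = p) : Group.IsSolvable G := by
  have : Fact p.Prime := ⟨hp⟩
  have h1 := Nat.eq_prime_pow_of_unique_prime_dvd (Nat.card_pos (α := G)).ne'
    (fun {d} hd hdvd => h d hd hdvd)
  have h2 : IsPGroup p G := IsPGroup.of_card h1
  have := h2.isNilpotent
  exact inferInstance

/-- **Burnside's `p^a q^b` theorem**, in the form: a finite group whose order is divisible by at
most two primes is solvable. -/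
theorem isSolvable_of_two_primes (p q : ℕ) (hp : p.Prime) (hq : q.Prime) :
    ∀ (n : ℕ) (G : Type u) [Group G] [Finite G], Nat.card G = n →
      (∀ r : ℕ, r.Prime → r ∣ Nat.card G → r = p ∨ r = q) → Group.IsSolvable G := by
  intro n
  induction n using Nat.strong_induction_on with
  | _ n ih =>
  intro G _ _ hn hpq
  -- reduce to the simple case
  by_cases hsimple : ∀ N : Subgroup G, N.Normal → N = ⊥ ∨ N = ⊤
  swap
  · simp only [not_forall, not_or] at hsimple
    obtain ⟨N, hN, hbot, htop⟩ := hsimple
    have := hN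
    have hNcard : Nat.card N < n := by
      rw [← hn]
      refine lt_of_le_of_ne (Nat.le_of_dvd Nat.card_pos (Subgroup.card_subgroup_dvd_card N)) ?_
      intro h
      exact htop (Subgroup.card_eq_iff_eq_top N |>.mp h)
    have hQcard : Nat.card (G ⧸ N) < n := by
      rw [← hn, ← Subgroup.card_mul_index N]
      have h1 : 1 < Nat.card N := by
        rw [Finite.one_lt_card_iff_nontrivial]
        exact (Subgroup.nontrivial_iff_ne_bot N).mpr hbot
      have h2 : 0 < N.index := Nat.pos_of_ne_zero (Subgroup.index_ne_zero_of_finite)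
      rw [Subgroup.index_eq_card] at h2 ⊢
      nlinarith
    have : Group.IsSolvable N := ih _ hNcard N rfl
      (fun r hr hdvd => hpq r hr (hdvd.trans (Subgroup.card_subgroup_dvd_card N)))
    have : Group.IsSolvable (G ⧸ N) := ih _ hQcard (G ⧸ N) rfl
      (fun r hr hdvd => hpq r hr (hdvd.trans (Subgroup.card_quotient_dvd_card N)))
    refine Group.isSolvable_of_ker_le_range N.subtype (QuotientGroup.mk' N) ?_
    rw [QuotientGroup.ker_mk', Subgroup.range_subtype]
  by_cases hsub : Subsingleton G
  · exact Group.isSolvable_of_comm (fun a b => Subsingleton.elim _ _)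
  have : Nontrivial G := not_subsingleton_iff_nontrivial.mp hsub
  have : IsSimpleGroup G := ⟨fun N hN => hsimple N hN⟩
  by_cases hpeq : p = q
  · exact isSolvable_of_unique_prime p hp (fun r hr hdvd => by
      rcases hpq r hr hdvd with h | h
      · exact h
      · rw [h, hpeq])
  by_cases hqdvd : q ∣ Nat.card G
  swap
  · exact isSolvable_of_unique_prime p hp (fun r hr hdvd => by
      rcases hpq r hr hdvd with h | h
      · exact h
      · exfalso; rw [h] at hdvd; exact hqdvd hdvd)
  -- the interesting case
  have : Fact q.Prime := ⟨hq⟩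
  obtain ⟨Q⟩ : Nonempty (Sylow q G) := inferInstance
  have hQne : (Q : Subgroup G) ≠ ⊥ := Q.ne_bot_of_dvd_card hqdvd
  have : Nontrivial (Q : Subgroup G) := (Subgroup.nontrivial_iff_ne_bot _).mpr hQne
  have := IsPGroup.center_nontrivial Q.isPGroup'
  obtain ⟨z, hz⟩ := exists_ne (1 : Subgroup.center (Q : Subgroup G))
  set g : G := ((z : (Q : Subgroup G)) : G) with hg
  have hg1 : g ≠ 1 := by
    intro h
    apply hz
    apply Subtype.ext
    apply Subtype.ext
    exact h
  have hle : (Q : Subgroup G) ≤ Subgroup.centralizer ({g} : Set G) := by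
    intro x hx
    rw [Subgroup.mem_centralizer_singleton_iff]
    have := Subgroup.mem_center_iff.mp z.2 ⟨x, hx⟩
    have h2 : x * g = g * x := congrArg (fun y : (Q : Subgroup G) => (y : G)) this
    exact h2
  have hidx : (Subgroup.centralizer ({g} : Set G)).index ∣ (Q : Subgroup G).index :=
    Subgroup.index_dvd_of_le hle
  have hclass : (Subgroup.centralizer ({g} : Set G)).index =
      p ^ ((Subgroup.centralizer ({g} : Set G)).index).primeFactorsList.length := by
    refine Nat.eq_prime_pow_of_unique_prime_dvd Subgroup.index_ne_zero_of_finite ?_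
    intro d hd hdvd
    rcases hpq d hd (hdvd.trans (Subgroup.index_dvd_card _)) with h | h
    · exact h
    · exfalso
      rw [h] at hdvd
      exact Q.not_dvd_index (hdvd.trans hidx)
  have hprime : (Nat.card G).Prime := by
    cases nonempty_fintype G
    exact prime_card_of_simple_of_prime_power_class p _ hp g hg1 hclass
  have : Fact (Nat.card G).Prime := ⟨hprime⟩
  have : IsCyclic G := isCyclic_of_prime_card rfl
  exact Group.isSolvable_of_comm (fun a b => IsCyclic.commGroup.mul_comm a b)

/-- **Burnside's `p^a q^b` theorem** (this is S0144). -/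
theorem burnside_paqb {G : Type u} [Group G] [Finite G] (p q a b : ℕ) (hp : p.Prime)
    (hq : q.Prime) (hcard : Nat.card G = p ^ a * q ^ b) : Group.IsSolvable G := by
  refine isSolvable_of_two_primes p q hp hq _ G rfl ?_
  intro r hr hdvd
  rw [hcard] at hdvd
  rcases (Nat.Prime.dvd_mul hr).mp hdvd with h | h
  · left
    exact (Nat.prime_dvd_prime_iff_eq hr hp).mp (hr.dvd_of_dvd_pow h)
  · right
    exact (Nat.prime_dvd_prime_iff_eq hr hq).mp (hr.dvd_of_dvd_pow h)

end paqb

end Cfsg.Agent.Lib.Helper3_CharBurnside
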