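import Mathlib
import Cfsg.Prelude.Def_Blocks
import Cfsg.Prelude.Def_BlockRank
import Cfsg.Agent.Lib.Helper77_WeakOrth
import Cfsg.Agent.S0135
import Cfsg.Agent.S4665

/-!
# Basic facts on degrees and defects used in block theory (helper77)
-/

set_option autoImplicit false

namespace Cfsg.Agent.Lib.Helper77_BlockBasics

open Cfsg Cfsg.Agent.Lib.Helper78_LocalRing

open scoped ComplexConjugate

/-- The degree of an irreducible character, as a natural number dividing the group order. -/
theorem exists_degree {G : Type*} [Group G] [Finite G] (χ : IrrCharacter G) :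
    ∃ n : ℕ, 0 < n ∧ (χ : G → ℂ) 1 = n ∧ charDegree (χ : G → ℂ) = n ∧ n ∣ Nat.card G := by
  obtain ⟨n, ρ, hirr, hρ⟩ := χ.2
  have hdvd := @Cfsg.Agent.S0135.result G _ _ (Fin n → ℂ) _ _ _ ρ hirr
  rw [Module.finrank_fin_fun] at hdvd
  have h1 : (χ : G → ℂ) 1 = n := by
    rw [← hρ, Representation.char_one]
    simp
  have hpos : 0 < n := by
    rcases Nat.eq_zero_or_pos n with h0 | h0
    · exfalso
      obtain ⟨k, hk, hk1⟩ := Cfsg.Agent.Lib.Helper80_CharBasic.irr_apply_one χ
      rw [h1, h0] at hk1
      have : (k : ℂ) = 0 := by rw [← hk1]; simp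
      have : k = 0 := by exact_mod_cast this
      omega
    · exact h0
  refine ⟨n, hpos, h1, ?_, hdvd⟩
  unfold charDegree
  rw [h1]
  simp

theorem charDegree_pos {G : Type*} [Group G] [Finite G] (χ : IrrCharacter G) :
    0 < charDegree (χ : G → ℂ) := by
  obtain ⟨n, hn, _, h, _⟩ := exists_degree χ
  rw [h]; exact hn

theorem charDegree_dvd_card {G : Type*} [Group G] [Finite G] (χ : IrrCharacter G) :
    charDegree (χ : G → ℂ) ∣ Nat.card G := by
  obtain ⟨n, _, _, h, hd⟩ := exists_degree χ
  rw [h]; exact hd

theorem apply_one_eq_charDegree {G : Type*} [Group G] [Finite G] (χ : IrrCharacter G) :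
    (χ : G → ℂ) 1 = (charDegree (χ : G → ℂ) : ℂ) := by
  obtain ⟨n, _, h1, h, _⟩ := exists_degree χ
  rw [h, h1]

/-- A character vanishing at all `p`-singular elements has degree divisible by the full power of
`p` dividing the group order. -/
theorem pow_dvd_of_vanish {G : Type*} [Group G] [Finite G] {p : ℕ} (hp : p.Prime)
    (θ : G → ℂ) (hθ : IsCharacter G θ) (n : ℕ) (hn : θ 1 = n)
    (hvan : ∀ y : G, p ∣ orderOf y → θ y = 0) :
    p ^ (Nat.card G).factorization p ∣ n := by
  classical
  have : Fact p.Prime := ⟨hp⟩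
  obtain ⟨P⟩ : Nonempty (Sylow p G) := inferInstance
  have hPcard : Nat.card (P : Subgroup G) = p ^ (Nat.card G).factorization p :=
    P.card_eq_multiplicity
  have := Fintype.ofFinite (P : Subgroup G)
  have hsum1 : ∑ x : (P : Subgroup G), θ (x : G) = θ 1 := by
    rw [Finset.sum_eq_single (1 : (P : Subgroup G))]
    · simp
    · intro x _ hx
      have hx1 : (x : G) ≠ 1 := fun h => hx (Subtype.ext h)
      obtain ⟨j, hj⟩ := (P.isPGroup'.to_le le_rfl) x
      have hord : orderOf (x : G) ∣ p ^ j := by
        rw [orderOf_dvd_iff_pow_eq_one]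
        simpa using congrArg Subtype.val hj
      obtain ⟨i, _, hi⟩ := (Nat.dvd_prime_pow hp).mp hord
      have hi0 : i ≠ 0 := by
        rintro rfl
        rw [pow_zero, orderOf_eq_one_iff] at hi
        exact hx1 hi
      exact hvan _ (by rw [hi]; exact dvd_pow_self p hi0)
    · intro h; exact absurd (Finset.mem_univ _) h
  obtain ⟨d, hd⟩ := Cfsg.Agent.S4665.sum_subgroup_char θ hθ (P : Subgroup G)
  rw [hsum1, hn, hPcard] at hd
  have hd' : n = p ^ (Nat.card G).factorization p * d := by exact_mod_cast hd
  exact ⟨d, hd'⟩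

/-- The `p`-adic valuation of the degree is at most that of the group order. -/
theorem factorization_charDegree_le {G : Type*} [Group G] [Finite G] (p : ℕ)
    (χ : IrrCharacter G) :
    (charDegree (χ : G → ℂ)).factorization p ≤ (Nat.card G).factorization p := by
  have h := charDegree_dvd_card χ
  have hG : Nat.card G ≠ 0 := (Nat.card_pos (α := G)).ne'
  exact (Nat.factorization_le_iff_dvd (charDegree_pos χ).ne' hG).mpr h p

/-- `p ∤ |G| / χ(1)` in terms of valuations. -/
theorem not_dvd_div_iff {G : Type*} [Group G] [Finite G] {p : ℕ} (hp : p.Prime)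
    (χ : IrrCharacter G) :
    ¬ p ∣ Nat.card G / charDegree (χ : G → ℂ) ↔
      (Nat.card G).factorization p ≤ (charDegree (χ : G → ℂ)).factorization p := by
  obtain ⟨k, hk⟩ := charDegree_dvd_card χ
  have hnpos := charDegree_pos χ
  have hG : Nat.card G ≠ 0 := (Nat.card_pos (α := G)).ne'
  have hk0 : k ≠ 0 := by
    rintro rfl
    rw [mul_zero] at hk
    exact hG hk
  have hdiv : Nat.card G / charDegree (χ : G → ℂ) = k := by
    rw [hk, Nat.mul_div_cancel_left _ hnpos]
  rw [hdiv]
  have hfac : (Nat.card G).factorization p =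
      (charDegree (χ : G → ℂ)).factorization p + k.factorization p := by
    rw [hk, Nat.factorization_mul hnpos.ne' hk0]
    rfl
  rw [hfac]
  constructor
  · intro h
    rw [Nat.factorization_eq_zero_of_not_dvd h, add_zero]
  · intro h hpk
    have : 0 < k.factorization p := hp.factorization_pos_of_dvd hk0 hpk
    omega

/-- A nonempty set of irreducible characters has defect zero iff all its members have full
`p`-part of the degree. -/
theorem blockDefect_eq_zero_iff {G : Type*} [Group G] (p : ℕ) (B : Set (IrrCharacter G))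
    (hne : B.Nonempty) :
    blockDefect p B = 0 ↔ ∀ χ ∈ B,
      (Nat.card G).factorization p ≤ (charDegree (χ : G → ℂ)).factorization p := by
  unfold blockDefect
  set S : Set ℕ := (fun χ : IrrCharacter G => (charDegree (χ : G → ℂ)).factorization p) '' B
    with hS
  have hSne : S.Nonempty := hne.image _
  rw [Nat.sub_eq_zero_iff_le]
  constructor
  · intro h χ hχ
    exact le_trans h (Nat.sInf_le ⟨χ, hχ, rfl⟩)
  · intro h
    obtain ⟨χ, hχ, hχe⟩ := Nat.sInf_mem hSne
    rw [← hχe]
    exact h χ hχ

/-- There is a member of minimal `p`-adic valuation of the degree (a character of height zero). -/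
theorem exists_height_zero {G : Type*} [Group G] (p : ℕ) (B : Set (IrrCharacter G))
    (hne : B.Nonempty) :
    ∃ χ ∈ B, (∀ ψ ∈ B, (charDegree (χ : G → ℂ)).factorization p ≤
      (charDegree (ψ : G → ℂ)).factorization p) ∧
      blockDefect p B = (Nat.card G).factorization p -
        (charDegree (χ : G → ℂ)).factorization p := by
  set S : Set ℕ := (fun χ : IrrCharacter G => (charDegree (χ : G → ℂ)).factorization p) '' B
    with hS
  have hSne : S.Nonempty := hne.image _
  obtain ⟨χ, hχ, hχe⟩ := Nat.sInf_mem hSne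
  refine ⟨χ, hχ, ?_, ?_⟩
  · intro ψ hψ
    have : sInf S ≤ (charDegree (ψ : G → ℂ)).factorization p := Nat.sInf_le ⟨ψ, hψ, rfl⟩
    rw [← hχe] at this
    exact this
  · unfold blockDefect
    rw [← hS, ← hχe]

end Cfsg.Agent.Lib.Helper77_BlockBasics
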