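import Mathlib
import Cfsg.Agent.S0165
import Cfsg.Agent.Lib.Helper80_CharComplete
import Cfsg.Agent.Lib.Helper80_CharBasic
import Cfsg.Agent.Lib.Helper3_CharEigen
import Cfsg.Agent.Lib.Helper79_CharVals

/-!
# Real elements with centralizer of odd order force a character of even degree (helper79)

If `u ≠ 1` is conjugate to its inverse and `C_G(u)` has odd order, then some irreducible
character of `G` has even degree.  Proof: reduce the two column orthogonality relations
`∑ χ(u) χ(1) = 0` and `∑ χ(u)² = |C_G(u)|` modulo a maximal ideal of the algebraic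
integers containing `2`, and use `(∑ a)² = ∑ a²` in characteristic two.
-/

set_option autoImplicit false
open Cfsg

namespace Cfsg.Agent.Lib.Helper79_RealOdd

open scoped ComplexConjugate
open Cfsg.Agent.Lib.Helper80_CharBasic Cfsg.Agent.Lib.Helper80_CharComplete

/-- Values of irreducible characters are algebraic integers. -/
theorem irr_isIntegral {G : Type*} [Group G] [Finite G] (χ : Cfsg.IrrCharacter G) (g : G) :
    IsIntegral ℤ ((χ : G → ℂ) g) := by
  obtain ⟨n, ρ, hirr, hρ⟩ := χ.2
  rw [← hρ]
  exact Cfsg.Agent.Lib.Helper3_CharEigen.isIntegral_char ρ g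

/-- A real element `u ≠ 1` (conjugate to its inverse) whose centralizer has odd order forces an
irreducible character of even degree. -/
theorem exists_even_degree_of_real {G : Type*} [Group G] [Finite G] (u : G) (hu : u ≠ 1)
    (hreal : IsConj u u⁻¹) (hodd : Odd (Nat.card ↥(Subgroup.centralizer ({u} : Set G)))) :
    ∃ χ : Cfsg.IrrCharacter G, Even (Cfsg.charDegree (χ : G → ℂ)) := by
  classical
  by_contra hne
  push Not at hne
  haveI : Fintype G := Fintype.ofFinite G
  haveI : Fintype (Cfsg.IrrCharacter G) := Fintype.ofFinite _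
  obtain ⟨M, -, hMax, h2M⟩ := Cfsg.Agent.S0165.exists_isPModular 2 Nat.prime_two
  haveI := hMax
  letI : Field (AlgInt ⧸ M) := Ideal.Quotient.field M
  set φ : AlgInt →+* (AlgInt ⧸ M) := Ideal.Quotient.mk M with hφ
  have h2k : (2 : AlgInt ⧸ M) = 0 := by
    have : φ (2 : AlgInt) = 0 := by
      rw [hφ, Ideal.Quotient.eq_zero_iff_mem]
      exact_mod_cast h2M
    rw [map_ofNat] at this
    exact this
  haveI : CharP (AlgInt ⧸ M) 2 := CharTwo.of_one_ne_zero_of_two_eq_zero one_ne_zero h2k
  haveI : Fact (Nat.Prime 2) := ⟨Nat.prime_two⟩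
  have hoddcast : ∀ n : ℕ, Odd n → ((n : ℕ) : AlgInt ⧸ M) = 1 := by
    rintro n ⟨m, rfl⟩
    push_cast
    rw [h2k, zero_mul, zero_add]
  -- the values at `u` as algebraic integers
  let a : Cfsg.IrrCharacter G → AlgInt := fun χ => ⟨(χ : G → ℂ) u, irr_isIntegral χ u⟩
  -- degrees
  have hdeg : ∀ χ : Cfsg.IrrCharacter G, ∃ d : ℕ, Odd d ∧ (χ : G → ℂ) 1 = d := by
    intro χ
    obtain ⟨n, hn, h1, h2⟩ := Cfsg.Agent.Lib.Helper79_CharVals.irr_degree χ.2
    refine ⟨n, ?_, h1⟩
    have := hne χ
    rw [h2] at this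
    exact Nat.not_even_iff_odd.mp this
  choose d hdodd hd using hdeg
  -- first relation
  have hnc : ¬ IsConj u (1 : G) := by
    intro h
    exact hu (isConj_one_left.mp h)
  have e1 : ∑ χ : Cfsg.IrrCharacter G, a χ * ((d χ : ℕ) : AlgInt) = 0 := by
    apply Subtype.ext
    have := second_orthogonality_sum (G := G) u 1
    rw [if_neg hnc] at this
    push_cast
    rw [← this]
    refine Finset.sum_congr rfl (fun χ _ => ?_)
    rw [hd χ, Complex.conj_natCast]
  have e2 : ∑ χ : Cfsg.IrrCharacter G, a χ ^ 2 =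
      ((Nat.card ↥(Subgroup.centralizer ({u} : Set G)) : ℕ) : AlgInt) := by
    apply Subtype.ext
    have := second_orthogonality_sum (G := G) u u⁻¹
    rw [if_pos hreal] at this
    push_cast
    rw [← this]
    refine Finset.sum_congr rfl (fun χ _ => ?_)
    rw [irr_inv χ u, Complex.conj_conj, sq]
  have f1 : ∑ χ : Cfsg.IrrCharacter G, φ (a χ) = 0 := by
    have := congrArg φ e1
    rw [map_sum, map_zero] at this
    rw [← this]
    refine Finset.sum_congr rfl (fun χ _ => ?_)
    rw [map_mul, map_natCast, hoddcast _ (hdodd χ), mul_one]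
  have f2 : ∑ χ : Cfsg.IrrCharacter G, φ (a χ) ^ 2 = 1 := by
    have := congrArg φ e2
    rw [map_sum, map_natCast, hoddcast _ hodd] at this
    rw [← this]
    refine Finset.sum_congr rfl (fun χ _ => ?_)
    rw [map_pow]
  have f3 := sum_pow_char (R := AlgInt ⧸ M) 2 Finset.univ (fun χ : Cfsg.IrrCharacter G => φ (a χ))
  rw [f1, f2] at f3
  simp at f3

end Cfsg.Agent.Lib.Helper79_RealOdd
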