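import Mathlib
import Cfsg.Prelude.Def_Characters
import Cfsg.Agent.Lib.Helper78_Osima
import Cfsg.Agent.Lib.Helper79_RealOdd
import Cfsg.Agent.Lib.Helper75_CharArith
import Cfsg.Agent.Lib.Helper80_CharBasic
import Cfsg.Agent.Lib.Helper3_CharColumn

/-!
# A congruence for irreducible characters constant on a central subgroup of a TI Sylow subgroup
(helper79)

Peterfalvi (6.7).  `P` a TI Sylow `p`-subgroup with normalizer `L` of odd order, `Z ≤ Z(P)` normal in
`L`; an irreducible character `ψ` constant on `Z \ {1}` takes an integer value `n` there and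
`|P|` divides `ψ 1 - n`.
-/

set_option autoImplicit false

namespace Cfsg.Agent.Lib.Helper79_TISylowCongr

open Cfsg.Agent.Lib.Helper78_Osima

/-- A sum of an invariant function supported on points with trivial stabilizer is divisible by the
order of the acting group. -/
theorem sum_eq_card_mul_of_free {H X : Type*} [Group H] [Fintype H] [Fintype X]
    (act : H →* Equiv.Perm X) (f : X → ℂ) (hinv : ∀ h x, f (act h x) = f x)
    (hfree : ∀ h x, f x ≠ 0 → act h x = x → h = 1)
    (hint : ∀ x, IsIntegral ℤ (f x)) :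
    ∃ w : ℂ, IsIntegral ℤ w ∧ ∑ x, f x = (Fintype.card H : ℂ) * w := by
  classical
  letI : MulAction H X := MulAction.compHom X act
  have : Fintype (Quotient (MulAction.orbitRel H X)) := Fintype.ofFinite _
  refine ⟨∑ ω : Quotient (MulAction.orbitRel H X), f ω.out,
    IsIntegral.sum _ (fun ω _ => hint _), ?_⟩
  rw [← Finset.sum_fiberwise Finset.univ
    (fun x : X => (Quotient.mk'' x : Quotient (MulAction.orbitRel H X))) f, Finset.mul_sum]
  refine Finset.sum_congr rfl fun ω _ => ?_
  have hfib : ∀ x : X, (Quotient.mk'' x : Quotient (MulAction.orbitRel H X)) = ω ↔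
      ∃ h : H, act h ω.out = x := by
    intro x
    conv_lhs => rw [← Quotient.out_eq' ω]
    rw [Quotient.eq'', MulAction.orbitRel_apply, MulAction.mem_orbit_iff]
    rfl
  by_cases h0 : f ω.out = 0
  · rw [h0, mul_zero]
    apply Finset.sum_eq_zero
    intro x hx
    obtain ⟨h, rfl⟩ := (hfib x).1 (Finset.mem_filter.1 hx).2
    rw [hinv, h0]
  · have hinj : Function.Injective (fun h : H => act h ω.out) := by
      intro h h' hh
      have h1 : act (h'⁻¹ * h) ω.out = ω.out := by
        rw [map_mul, Equiv.Perm.mul_apply]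
        have hh' : act h ω.out = act h' ω.out := hh
        rw [hh', ← Equiv.Perm.mul_apply, ← map_mul, inv_mul_cancel, map_one]
        rfl
      exact (inv_mul_eq_one.1 (hfree _ _ h0 h1)).symm
    have himg : Finset.univ.filter
        (fun x : X => (Quotient.mk'' x : Quotient (MulAction.orbitRel H X)) = ω) =
        Finset.univ.image (fun h : H => act h ω.out) := by
      ext x
      rw [Finset.mem_filter, Finset.mem_image]
      simp only [Finset.mem_univ, true_and]
      exact hfib x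
    rw [himg, Finset.sum_image (fun h _ h' _ hh => hinj hh),
      Finset.sum_congr rfl (fun h _ => hinv h ω.out), Finset.sum_const, Finset.card_univ,
      nsmul_eq_mul]

/-- A rational number that is an algebraic integer is an integer. -/
theorem exists_int_of_isIntegral_rat (q : ℚ) (h : IsIntegral ℤ ((q : ℂ))) : ∃ m : ℤ, q = m := by
  have h1 : ((q : ℂ)) = algebraMap ℚ ℂ q := rfl
  rw [h1] at h
  have h2 : IsIntegral ℤ q := (isIntegral_algebraMap_iff (algebraMap ℚ ℂ).injective).mp h
  obtain ⟨y, hy⟩ := IsIntegrallyClosed.isIntegral_iff.mp h2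
  exact ⟨y, hy.symm⟩

/-- In a group of odd order no non-identity element is conjugate to its inverse. -/
theorem eq_one_of_conj_eq_inv {L : Type*} [Group L] [Finite L] (hodd : Odd (Nat.card L))
    (g a : L) (h : g * a * g⁻¹ = a⁻¹) : a = 1 := by
  have h2 : Commute (g * g) a := by
    have h3 : (g * g) * a * (g * g)⁻¹ = a := by
      have h4 : (g * g) * a * (g * g)⁻¹ = g * (g * a * g⁻¹) * g⁻¹ := by group
      have h5 : g * a⁻¹ * g⁻¹ = (g * a * g⁻¹)⁻¹ := by group
      rw [h4, h, h5, h, inv_inv]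
    show (g * g) * a = a * (g * g)
    calc (g * g) * a = ((g * g) * a * (g * g)⁻¹) * (g * g) := by group
      _ = a * (g * g) := by rw [h3]
  have hog : Odd (orderOf g) := hodd.of_dvd_nat (orderOf_dvd_natCard g)
  obtain ⟨m, hm⟩ := hog
  have h6 : g = (g * g) ^ (m + 1) := by
    rw [← pow_two, ← pow_mul]
    have h7 : 2 * (m + 1) = orderOf g + 1 := by omega
    rw [h7, pow_succ, pow_orderOf_eq_one, one_mul]
  have h8 : Commute g a := by
    rw [h6]
    exact h2.pow_left _
  have h9 : a = a⁻¹ := by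
    rw [← h, h8.eq, mul_inv_cancel_right]
  have h10 : a ^ 2 = 1 := by
    rw [pow_two]
    nth_rewrite 2 [h9]
    exact mul_inv_cancel a
  have h11 : orderOf a ∣ 2 := orderOf_dvd_of_pow_eq_one h10
  have h12 : Odd (orderOf a) := hodd.of_dvd_nat (orderOf_dvd_natCard a)
  have h13 : orderOf a = 1 := by
    rcases (Nat.dvd_prime Nat.prime_two).1 h11 with h | h
    · exact h
    · rw [h] at h12
      exact absurd h12 (by decide)
  exact orderOf_eq_one_iff.1 h13

section main

variable {G : Type*} [Group G] (p : ℕ) [hpF : Fact p.Prime] (P : Sylow p G)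
  (hTI : ∀ g : G, g ∉ Subgroup.normalizer ((P : Subgroup G) : Set G) →
    ∀ x ∈ (P : Subgroup G), g * x * g⁻¹ ∈ (P : Subgroup G) → x = 1)
  (Z : Subgroup G) (hZP : Z ≤ P)
  (hZn : ∀ x ∈ Subgroup.normalizer ((P : Subgroup G) : Set G), ∀ z ∈ Z, x * z * x⁻¹ ∈ Z)

include hTI hZP hZn in
omit hpF in
/-- An element of a class meeting `Z \ {1}` that is centralized by a non-identity element of `P`
lies in `Z`. -/
theorem mem_of_fixed {b u h : G} (hb : b ∈ Z) (hb1 : b ≠ 1) (hu : IsConj b u)
    (hh : h ∈ (P : Subgroup G)) (hh1 : h ≠ 1) (hfix : h * u * h⁻¹ = u) : u ∈ Z := by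
  have huL : u ∈ Subgroup.normalizer ((P : Subgroup G) : Set G) := by
    by_contra hu'
    apply hh1
    apply hTI u hu' h hh
    have h1 : h * u = u * h := by
      have := congrArg (· * h) hfix
      simpa using this
    have h2 : u * h * u⁻¹ = h := by rw [← h1, mul_inv_cancel_right]
    rw [h2]
    exact hh
  obtain ⟨g, hg⟩ := isConj_iff.1 hu
  have huQ : u ∈ ((g • P : Sylow p G) : Subgroup G) := by
    rw [Sylow.coe_subgroup_smul, ← hg]
    exact ⟨b, hZP hb, rfl⟩
  have huP : u ∈ (P : Subgroup G) := by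
    have h1 := (g • P).2.inf_normalizer_sylow P
    have h2 : u ∈ ((g • P : Sylow p G) : Subgroup G) ⊓ (P : Subgroup G) := by
      rw [← h1]
      exact ⟨huQ, huL⟩
    exact h2.2
  have hgL : g ∈ Subgroup.normalizer ((P : Subgroup G) : Set G) := by
    by_contra hg'
    apply hb1
    apply hTI g hg' b (hZP hb)
    rw [hg]
    exact huP
  rw [← hg]
  exact hZn g hgL b hb

include hTI hZP in
omit hpF in
/-- A non-identity element of `Z` is not conjugate to its inverse when the normalizer of `P` has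
odd order. -/
theorem not_isConj_inv [Finite G]
    (hodd : Odd (Nat.card (Subgroup.normalizer ((P : Subgroup G) : Set G))))
    {a : G} (ha : a ∈ Z) (ha1 : a ≠ 1) : ¬ IsConj a⁻¹ a := by
  intro hcon
  obtain ⟨g, hg⟩ := isConj_iff.1 hcon
  have hg' : g * a * g⁻¹ = a⁻¹ := by
    have h1 : g * a * g⁻¹ = (g * a⁻¹ * g⁻¹)⁻¹ := by group
    rw [h1, hg]
  have hgL : g ∈ Subgroup.normalizer ((P : Subgroup G) : Set G) := by
    by_contra hgn
    apply ha1
    apply hTI g hgn a (hZP ha)
    rw [hg']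
    exact (P : Subgroup G).inv_mem (hZP ha)
  have haL : a ∈ Subgroup.normalizer ((P : Subgroup G) : Set G) :=
    Subgroup.le_normalizer (hZP ha)
  have h2 := eq_one_of_conj_eq_inv hodd
    (⟨g, hgL⟩ : Subgroup.normalizer ((P : Subgroup G) : Set G)) ⟨a, haL⟩ (Subtype.ext hg')
  exact ha1 (congrArg Subtype.val h2)

end main

section congr

variable {G : Type*} [Group G] [Fintype G] (p : ℕ) [hpF : Fact p.Prime] (P : Sylow p G)
  (hTI : ∀ g : G, g ∉ Subgroup.normalizer ((P : Subgroup G) : Set G) →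
    ∀ x ∈ (P : Subgroup G), g * x * g⁻¹ ∈ (P : Subgroup G) → x = 1)
  (Z : Subgroup G) (hZP : Z ≤ P)
  (hZn : ∀ x ∈ Subgroup.normalizer ((P : Subgroup G) : Set G), ∀ z ∈ Z, x * z * x⁻¹ ∈ Z)
  (hZc : ∀ z ∈ Z, ∀ y ∈ (P : Subgroup G), z * y = y * z)
  (ψ : G → ℂ) (hψ : Cfsg.IsIrrCharacter G ψ)

/-- conjugation action of `P` on `G` -/
def conjAct : ↥(P : Subgroup G) →* Equiv.Perm G :=
  (MulAut.toPerm G).comp ((MulAut.conj (G := G)).comp (P : Subgroup G).subtype)

omit [Fintype G] hpF in
theorem conjAct_apply (h : ↥(P : Subgroup G)) (u : G) :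
    conjAct p P h u = (h : G) * u * (h : G)⁻¹ := rfl

include hTI hZP hZn hZc hψ in
/-- The part of a class sum outside `Z` is divisible by `|P|`. -/
theorem outside_sum [DecidablePred (· ∈ Z)] {a b : G} (ha : a ∈ Z) (hb : b ∈ Z) (hb1 : b ≠ 1) :
    ∃ w : ℂ, IsIntegral ℤ w ∧
      ∑ u : G, (if u ∈ Z then 0 else classIndicator b u * ψ (a⁻¹ * u)) =
        (Nat.card (P : Subgroup G) : ℂ) * w := by
  classical
  have hint : ∀ g, IsIntegral ℤ (ψ g) := fun g =>
    Cfsg.Agent.Lib.Helper79_RealOdd.irr_isIntegral ⟨ψ, hψ⟩ g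
  have hcf : Cfsg.IsClassFunction G ψ :=
    Cfsg.Agent.Lib.Helper78_CentralChar.isIrrCharacter_isClassFunction hψ
  have hPL : ∀ h ∈ (P : Subgroup G), h ∈ Subgroup.normalizer ((P : Subgroup G) : Set G) :=
    fun h hh => Subgroup.le_normalizer hh
  have hinv : ∀ (h : ↥(P : Subgroup G)) (u : G),
      (fun u : G => if u ∈ Z then 0 else classIndicator b u * ψ (a⁻¹ * u)) (conjAct p P h u) =
      (fun u : G => if u ∈ Z then 0 else classIndicator b u * ψ (a⁻¹ * u)) u := by
    intro h u
    obtain ⟨v, hv⟩ : ∃ v, v = conjAct p P h u := ⟨_, rfl⟩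
    rw [← hv]
    have hv' : v = (h : G) * u * (h : G)⁻¹ := hv
    simp only
    have hmem : (v ∈ Z ↔ u ∈ Z) := by
      rw [hv']
      constructor
      · intro hu
        have := hZn (h : G)⁻¹ ((Subgroup.normalizer _).inv_mem (hPL h h.2)) _ hu
        have e : (h : G)⁻¹ * ((h : G) * u * (h : G)⁻¹) * (h : G)⁻¹⁻¹ = u := by group
        rwa [e] at this
      · intro hu
        exact hZn (h : G) (hPL h h.2) u hu
    by_cases hu : u ∈ Z
    · rw [if_pos hu, if_pos (hmem.2 hu)]
    · rw [if_neg hu, if_neg (fun h' => hu (hmem.1 h'))]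
      rw [hv', classIndicator_isClassFunction b u (h : G)]
      have hcomm : a⁻¹ * (h : G) = (h : G) * a⁻¹ := hZc a⁻¹ (Z.inv_mem ha) (h : G) h.2
      have e : a⁻¹ * ((h : G) * u * (h : G)⁻¹) = (h : G) * (a⁻¹ * u) * (h : G)⁻¹ := by
        rw [← mul_assoc, ← mul_assoc, hcomm]
        group
      rw [e, hcf]
  have hfree : ∀ (h : ↥(P : Subgroup G)) (u : G),
      (fun u : G => if u ∈ Z then 0 else classIndicator b u * ψ (a⁻¹ * u)) u ≠ 0 →
      conjAct p P h u = u → h = 1 := by
    intro h u hfu hfix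
    simp only at hfu
    rw [conjAct_apply] at hfix
    by_contra hh1
    by_cases hu : u ∈ Z
    · exact hfu (if_pos hu)
    · rw [if_neg hu] at hfu
      have hconj : IsConj b u := by
        by_contra hnc
        apply hfu
        unfold classIndicator
        rw [Set.indicator_of_notMem (by simpa using hnc), zero_mul]
      have hh1' : (h : G) ≠ 1 := fun h' => hh1 (Subtype.ext h')
      exact hu (mem_of_fixed p P hTI Z hZP hZn hb hb1 hconj h.2 hh1' hfix)
  have hintf : ∀ u : G, IsIntegral ℤ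
      ((fun u : G => if u ∈ Z then 0 else classIndicator b u * ψ (a⁻¹ * u)) u) := by
    intro u
    simp only
    by_cases hu : u ∈ Z
    · rw [if_pos hu]
      exact isIntegral_zero
    · rw [if_neg hu]
      apply IsIntegral.mul _ (hint _)
      unfold classIndicator
      by_cases hc : IsConj b u
      · rw [Set.indicator_of_mem (by simpa using hc)]
        exact isIntegral_one
      · rw [Set.indicator_of_notMem (by simpa using hc)]
        exact isIntegral_zero
  obtain ⟨w, hw, hsum⟩ := sum_eq_card_mul_of_free (conjAct p P)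
    (fun u : G => if u ∈ Z then 0 else classIndicator b u * ψ (a⁻¹ * u)) hinv hfree hintf
  refine ⟨w, hw, ?_⟩
  rw [hsum, Nat.card_eq_fintype_card]

theorem classIndicator_apply' [DecidableEq G] (b u : G) [Decidable (IsConj b u)] :
    classIndicator b u = if IsConj b u then 1 else 0 := by
  unfold classIndicator
  by_cases h : IsConj b u
  · rw [Set.indicator_of_mem (by simpa using h), if_pos h]
  · rw [Set.indicator_of_notMem (by simpa using h), if_neg h]

omit [Fintype G] in
theorem isConj_inv_iff (a y : G) : IsConj a⁻¹ y ↔ IsConj a y⁻¹ := by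
  rw [isConj_iff, isConj_iff]
  constructor
  · rintro ⟨g, hg⟩
    refine ⟨g, ?_⟩
    rw [← hg]
    group
  · rintro ⟨g, hg⟩
    refine ⟨g, ?_⟩
    have h1 : g * a⁻¹ * g⁻¹ = (g * a * g⁻¹)⁻¹ := by group
    rw [h1, hg, inv_inv]

theorem classIndicator_inv (a y : G) : classIndicator a⁻¹ y = classIndicator a y⁻¹ := by
  classical
  rw [classIndicator_apply', classIndicator_apply']
  by_cases h : IsConj a⁻¹ y
  · rw [if_pos h, if_pos ((isConj_inv_iff a y).1 h)]
  · rw [if_neg h, if_neg (fun h' => h ((isConj_inv_iff a y).2 h'))]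

include hTI hZP hZn hZc hψ in
/-- **Peterfalvi (6.7).** -/
theorem ti_sylow_congr
    (hodd : Odd (Nat.card (Subgroup.normalizer ((P : Subgroup G) : Set G))))
    (hconst : ∀ z ∈ Z, ∀ z' ∈ Z, z ≠ 1 → z' ≠ 1 → ψ z = ψ z') (z : G) (hz : z ∈ Z)
    (hz1 : z ≠ 1) :
    ∃ n d : ℤ, ψ z = n ∧ ψ 1 = d ∧ (Nat.card (P : Subgroup G) : ℤ) ∣ d - n := by
  classical
  have hint : ∀ g, IsIntegral ℤ (ψ g) := fun g =>
    Cfsg.Agent.Lib.Helper79_RealOdd.irr_isIntegral ⟨ψ, hψ⟩ g
  have hcf : Cfsg.IsClassFunction G ψ :=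
    Cfsg.Agent.Lib.Helper78_CentralChar.isIrrCharacter_isClassFunction hψ
  obtain ⟨d, hd0, hd⟩ := Cfsg.Agent.Lib.Helper3_CharColumn.irr_one_eq_natCast hψ
  have hd0' : ψ 1 ≠ 0 := by
    rw [hd]
    exact_mod_cast hd0.ne'
  obtain ⟨c, hc⟩ : ∃ c, ψ z = c := ⟨_, rfl⟩
  have hcall : ∀ x ∈ Z, x ≠ 1 → ψ x = c := fun x hx hx1 => (hconst x hx z hz hx1 hz1).trans hc
  have hzi : z⁻¹ ∈ Z := Z.inv_mem hz
  have hzi1 : z⁻¹ ≠ 1 := fun h => hz1 (inv_eq_one.1 h)
  -- Step 1: `c` is an integer
  have hZ2 : 2 ≤ Nat.card Z := by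
    have : Nontrivial Z := ⟨⟨⟨z, hz⟩, 1, fun h => hz1 (congrArg Subtype.val h)⟩⟩
    exact Finite.one_lt_card_iff_nontrivial.2 this
  obtain ⟨n, hn⟩ : ∃ n : ℤ, c = n := by
    have hres : Cfsg.IsCharacter Z (fun x : Z => ψ x) :=
      Cfsg.Agent.Lib.Helper75_CharArith.isCharacter_restrict Z
        (Cfsg.Agent.Lib.Helper3_CharBridge.isCharacter_of_isIrrCharacter hψ)
    have hone : Cfsg.IsCharacter Z (fun _ : Z => (1 : ℂ)) :=
      Cfsg.Agent.Lib.Helper3_CharBridge.isCharacter_of_isIrrCharacter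
        (Cfsg.Agent.Lib.Helper80_CharBasic.isIrrCharacter_one Z)
    obtain ⟨n₁, hn₁⟩ := Cfsg.Agent.Lib.Helper75_CharArith.classInner_isCharacter_nat hres hone
    unfold Cfsg.classInner at hn₁
    have hsum : ∑ x : Z, ψ x = (d : ℂ) + ((Nat.card Z : ℂ) - 1) * c := by
      rw [← Finset.add_sum_erase Finset.univ _ (Finset.mem_univ (1 : Z)), Subgroup.coe_one, hd]
      congr 1
      have h1 : ∀ x ∈ Finset.univ.erase (1 : Z), ψ (x : G) = c := by
        intro x hx
        exact hcall x x.2 (fun h => (Finset.ne_of_mem_erase hx) (Subtype.ext h))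
      rw [Finset.sum_congr rfl h1, Finset.sum_const, Finset.card_erase_of_mem (Finset.mem_univ _),
        Finset.card_univ, nsmul_eq_mul, Nat.card_eq_fintype_card,
        Nat.cast_sub Fintype.card_pos, Nat.cast_one]
    have hZ0 : (Nat.card Z : ℂ) ≠ 0 := by
      have : 0 < Nat.card Z := by omega
      exact_mod_cast this.ne'
    have h2 : (d : ℂ) + ((Nat.card Z : ℂ) - 1) * c = (Nat.card Z : ℂ) * n₁ := by
      have h3 : ∑ x : Z, ψ x * (starRingEnd ℂ) (1 : ℂ) = ∑ x : Z, ψ x := by
        apply Finset.sum_congr rfl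
        intro x _
        rw [map_one, mul_one]
      rw [h3, hsum] at hn₁
      rw [← hn₁]
      field_simp
    have hZ1' : ((Nat.card Z : ℂ) - 1) ≠ 0 := by
      intro h
      have h4 : (Nat.card Z : ℂ) = 1 := by linear_combination h
      have h5 : Nat.card Z = 1 := by exact_mod_cast h4
      omega
    have hcq : c = (((Nat.card Z : ℚ) * n₁ - d) / ((Nat.card Z : ℚ) - 1) : ℚ) := by
      push_cast
      rw [eq_div_iff hZ1']
      linear_combination h2
    have hci : IsIntegral ℤ c := hc ▸ hint z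
    rw [hcq] at hci
    obtain ⟨m, hm⟩ := exists_int_of_isIntegral_rat _ hci
    refine ⟨m, ?_⟩
    rw [hcq, hm]
    push_cast
    rfl
  -- Step 2: the class sums
  have hshift : ∀ b : G, ∑ u : G, classIndicator b u * ψ (z⁻¹ * u) =
      ψ z⁻¹ * ((∑ u : G, classIndicator b u * ψ u) / ψ 1) := fun b =>
    sum_mul_shift hψ (classIndicator_isClassFunction b) z⁻¹
  have hE : ∀ b ∈ Z, b ≠ 1 → ∑ u : G, classIndicator b u * ψ u =
      c * ∑ u : G, classIndicator b u := by
    intro b hb hb1
    rw [Finset.mul_sum]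
    apply Finset.sum_congr rfl
    intro u _
    rw [classIndicator_apply']
    by_cases hu : IsConj b u
    · rw [if_pos hu, one_mul, mul_one]
      obtain ⟨g, hg⟩ := isConj_iff.1 hu
      rw [← hg, hcf, hcall b hb hb1]
    · rw [if_neg hu, zero_mul, mul_zero]
  have hcount : ∑ u : G, classIndicator z⁻¹ u = ∑ u : G, classIndicator z u := by
    rw [← Equiv.sum_comp (Equiv.inv G)]
    apply Finset.sum_congr rfl
    intro u _
    rw [classIndicator_inv, Equiv.inv_apply, inv_inv]
  have hT : ∑ u : G, classIndicator z u * ψ (z⁻¹ * u) =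
      ∑ u : G, classIndicator z⁻¹ u * ψ (z⁻¹ * u) := by
    rw [hshift, hshift, hE z hz hz1, hE z⁻¹ hzi hzi1, hcount]
  -- split according to membership in `Z`
  have hsplit : ∀ b : G, ∑ u : G, classIndicator b u * ψ (z⁻¹ * u) =
      ∑ u : G, (if u ∈ Z then classIndicator b u * ψ (z⁻¹ * u) else 0) +
      ∑ u : G, (if u ∈ Z then 0 else classIndicator b u * ψ (z⁻¹ * u)) := by
    intro b
    rw [← Finset.sum_add_distrib]
    apply Finset.sum_congr rfl
    intro u _
    by_cases hu : u ∈ Z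
    · rw [if_pos hu, if_pos hu, add_zero]
    · rw [if_neg hu, if_neg hu, zero_add]
  have hinside : ∀ b : G, ∑ u : G, (if u ∈ Z then classIndicator b u * ψ (z⁻¹ * u) else 0) =
      c * ∑ u : G, (if u ∈ Z then classIndicator b u else 0) +
        classIndicator b z * ((d : ℂ) - c) := by
    intro b
    have h1 : ∀ u : G, (if u ∈ Z then classIndicator b u * ψ (z⁻¹ * u) else 0) =
        c * (if u ∈ Z then classIndicator b u else 0) +
          (if u = z then classIndicator b u * ((d : ℂ) - c) else 0) := by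
      intro u
      by_cases hu : u ∈ Z
      · rw [if_pos hu, if_pos hu]
        by_cases huz : u = z
        · rw [if_pos huz, huz, inv_mul_cancel, hd]
          ring
        · rw [if_neg huz, add_zero]
          have h2 : z⁻¹ * u ≠ 1 := by
            intro h
            apply huz
            rw [← mul_one z, ← h, mul_inv_cancel_left]
          rw [hcall _ (Z.mul_mem hzi hu) h2]
          ring
      · have huz : u ≠ z := fun h => hu (h ▸ hz)
        rw [if_neg hu, if_neg hu, if_neg huz, mul_zero, add_zero]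
    rw [Finset.sum_congr rfl (fun u _ => h1 u), Finset.sum_add_distrib, ← Finset.mul_sum,
      Finset.sum_ite_eq' Finset.univ z, if_pos (Finset.mem_univ _)]
  have hN : ∑ u : G, (if u ∈ Z then classIndicator z⁻¹ u else 0) =
      ∑ u : G, (if u ∈ Z then classIndicator z u else 0) := by
    rw [← Equiv.sum_comp (Equiv.inv G)]
    apply Finset.sum_congr rfl
    intro u _
    rw [Equiv.inv_apply]
    by_cases hu : u ∈ Z
    · rw [if_pos hu, if_pos (Z.inv_mem hu), classIndicator_inv, inv_inv]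
    · rw [if_neg hu, if_neg (fun h => hu (by simpa using Z.inv_mem h))]
  have hzz : classIndicator z z = 1 := by
    rw [classIndicator_apply', if_pos (IsConj.refl z)]
  have hzz' : classIndicator z⁻¹ z = 0 := by
    rw [classIndicator_apply', if_neg (not_isConj_inv p P hTI Z hZP hodd hz hz1)]
  obtain ⟨w₁, hw₁, hs₁⟩ := outside_sum p P hTI Z hZP hZn hZc ψ hψ hz hz hz1
  obtain ⟨w₂, hw₂, hs₂⟩ := outside_sum p P hTI Z hZP hZn hZc ψ hψ hz hzi hzi1
  rw [hsplit z, hsplit z⁻¹, hinside z, hinside z⁻¹, hN, hzz, hzz', hs₁, hs₂] at hT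
  have hkey : (d : ℂ) - c = (Nat.card (P : Subgroup G) : ℂ) * (w₂ - w₁) := by
    linear_combination hT
  -- conclude
  have hP0 : (Nat.card (P : Subgroup G) : ℂ) ≠ 0 := by
    exact_mod_cast (Nat.card_pos (α := (P : Subgroup G))).ne'
  have hq : (w₂ - w₁) = ((((d : ℤ) - n : ℤ) : ℚ) / (Nat.card (P : Subgroup G) : ℚ) : ℚ) := by
    push_cast
    rw [eq_div_iff hP0, ← hn]
    linear_combination -hkey
  have hwi : IsIntegral ℤ (w₂ - w₁) := hw₂.sub hw₁
  rw [hq] at hwi
  obtain ⟨m, hm⟩ := exists_int_of_isIntegral_rat _ hwi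
  refine ⟨n, d, by rw [hc, hn], by rw [hd]; push_cast; rfl, ⟨m, ?_⟩⟩
  have hP0' : (Nat.card (P : Subgroup G) : ℚ) ≠ 0 := by
    exact_mod_cast (Nat.card_pos (α := (P : Subgroup G))).ne'
  rw [div_eq_iff hP0'] at hm
  have : (((d : ℤ) - n : ℤ) : ℚ) = ((Nat.card (P : Subgroup G) : ℤ) * m : ℤ) := by
    rw [hm]
    push_cast
    ring
  exact_mod_cast this

end congr

end Cfsg.Agent.Lib.Helper79_TISylowCongr
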