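import Mathlib
import Cfsg.Prelude.Def_Blocks
import Cfsg.Agent.Lib.Helper3_CharBridge
import Cfsg.Agent.Lib.Helper3_CharEigen
import Cfsg.Agent.Lib.Helper3_CharBurnside
import Cfsg.Agent.Lib.Helper23_ZStarB
import Cfsg.Agent.Lib.Helper75_LinChar
import Cfsg.Agent.Lib.Helper77_BlockBasics
import Cfsg.Agent.Lib.Helper78_CentralChar
import Cfsg.Agent.Lib.Helper79_CharVals
import Cfsg.Agent.Lib.Helper79_TISylowCongr
import Cfsg.Agent.Lib.Helper80_CharBasic
import Cfsg.Agent.Lib.Helper80_CharComplete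
import Cfsg.Agent.S0165

/-!
# Character-theoretic tools for small simple groups (helper74)

* `sum_shift_eq_zero` : if a character sums to zero over a subgroup `H` (no `H`-fixed vectors)
  then it sums to zero over every coset `H g`;
* `eq_one_of_apply_eq`, `eq_oneIrr_of_degree_one`, `not_norm_eq` : kernels, linear characters and
  centres of irreducible characters of non-abelian simple groups;
* `irr_vanish_of_defect_zero` : S0165 for `IrrCharacter`;
* `involution_parity` : `χ(t) = χ(1) - 2 j` for an involution `t`;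
* `sum_sq_charDegree`, `charDegree_sq_le` : the degree equation;
* `dvd_index_of_centralChar` : integrality of the central character, rational form.
-/

set_option autoImplicit false
set_option linter.unusedSectionVars false

namespace Cfsg.Agent.Lib.Helper74_CharTools

open Cfsg Cfsg.Agent.Lib.Helper80_CharBasic
open scoped ComplexConjugate

section shift

variable {G : Type*} [Group G]

/-- If a character sums to zero over a subgroup `H`, it sums to zero over every coset `H g`. -/
theorem sum_shift_eq_zero {χ : G → ℂ} (hχ : IsCharacter G χ) (H : Subgroup G) [Fintype H]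
    (h0 : ∑ z : H, χ z = 0) (g : G) : ∑ z : H, χ ((z : G) * g) = 0 := by
  obtain ⟨n, ρ, rfl⟩ := hχ
  have hne : (Nat.card H : ℂ) ≠ 0 := by exact_mod_cast Nat.card_pos.ne'
  have : Invertible (Nat.card H : ℂ) := invertibleOfNonzero hne
  let σ : Representation ℂ H (Fin n → ℂ) := ρ.comp H.subtype
  have hfr : Module.finrank ℂ (Representation.invariants σ) = 0 := by
    have h := Representation.card_inv_mul_sum_char_eq_finrank σ
    have h1 : ∑ z : H, σ.character z = 0 := h0
    rw [h1, mul_zero] at h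
    exact_mod_cast h.symm
  have hbot : Representation.invariants σ = ⊥ := Submodule.finrank_eq_zero.mp hfr
  set E : (Fin n → ℂ) →ₗ[ℂ] (Fin n → ℂ) := ∑ z : H, ρ (z : G) with hE
  have hE0 : E = 0 := by
    apply LinearMap.ext
    intro v
    have hv : E v ∈ Representation.invariants σ := by
      intro h
      show ρ (h : G) (E v) = E v
      rw [hE, LinearMap.sum_apply, map_sum]
      refine Fintype.sum_equiv (Equiv.mulLeft h) _ _ (fun z => ?_)
      show ρ (h : G) (ρ (z : G) v) = ρ ((h * z : H) : G) v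
      rw [Subgroup.coe_mul, map_mul]
      rfl
    rw [hbot] at hv
    exact (Submodule.mem_bot ℂ).mp hv
  have h2 : ∑ z : H, ρ.character ((z : G) * g) = LinearMap.trace ℂ _ (E * ρ g) := by
    rw [hE, Finset.sum_mul, map_sum]
    refine Finset.sum_congr rfl fun z _ => ?_
    rw [Representation.character, map_mul]
  rw [h2, hE0, zero_mul, map_zero]

end shift

section simple

variable {G : Type*} [Group G] [Finite G] [IsSimpleGroup G]

/-- In a simple group a non-principal irreducible character has trivial kernel. -/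
theorem eq_one_of_apply_eq (ψ : IrrCharacter G) (hψ : ψ ≠ oneIrr G) (g : G)
    (hg : (ψ : G → ℂ) g = (ψ : G → ℂ) 1) : g = 1 := by
  rcases IsSimpleGroup.eq_bot_or_eq_top_of_normal (Cfsg.Agent.Lib.Helper23_ZStarB.irrKer ψ)
    inferInstance with h | h
  · have : g ∈ Cfsg.Agent.Lib.Helper23_ZStarB.irrKer ψ := hg
    rw [h] at this
    exact Subgroup.mem_bot.mp this
  · exfalso
    apply hψ
    apply Cfsg.Agent.Lib.Helper23_ZStarB.eq_oneIrr_of_forall
    intro x
    have : x ∈ Cfsg.Agent.Lib.Helper23_ZStarB.irrKer ψ := by rw [h]; trivial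
    exact this

/-- A non-abelian simple group has only one linear character. -/
theorem eq_oneIrr_of_degree_one (hna : ¬ ∀ a b : G, a * b = b * a) (ψ : IrrCharacter G)
    (h1 : charDegree (ψ : G → ℂ) = 1) : ψ = oneIrr G := by
  by_contra hne
  apply hna
  intro a b
  have hψ1 : (ψ : G → ℂ) 1 = 1 := by
    rw [Cfsg.Agent.Lib.Helper77_BlockBasics.apply_one_eq_charDegree ψ, h1]
    simp
  have hlin : Cfsg.Agent.Lib.Helper75_LinChar.IsLin G (ψ : G → ℂ) :=
    ⟨Cfsg.Agent.Lib.Helper3_CharBridge.isCharacter_of_isIrrCharacter ψ.2, hψ1⟩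
  have h2 : (ψ : G → ℂ) (a * b * a⁻¹ * b⁻¹) = (ψ : G → ℂ) 1 := by
    rw [hlin.map_mul, hlin.map_mul, hlin.map_mul, hlin.map_inv, hlin.map_inv, hψ1]
    have ha := hlin.ne_zero a
    have hb := hlin.ne_zero b
    field_simp
  have h3 := eq_one_of_apply_eq ψ hne _ h2
  calc a * b = (a * b * a⁻¹ * b⁻¹) * (b * a) := by group
    _ = b * a := by rw [h3, one_mul]

/-- In a non-abelian simple group a non-principal irreducible character has trivial centre. -/
theorem not_norm_eq (hna : ¬ ∀ a b : G, a * b = b * a) (ψ : IrrCharacter G)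
    (hψ : ψ ≠ oneIrr G) (g : G) (hg : g ≠ 1) :
    ‖(ψ : G → ℂ) g‖ ≠ (charDegree (ψ : G → ℂ) : ℝ) := by
  classical
  let _ : Fintype G := Fintype.ofFinite G
  intro h
  obtain ⟨n, ρ, hirr, hρ⟩ := ψ.2
  haveI := hirr
  have hn : charDegree (ψ : G → ℂ) = n := by
    apply Cfsg.Agent.Lib.Helper79_CharVals.charDegree_of_eq_natCast
    rw [← hρ, Representation.char_one]
    simp
  rw [hn, ← hρ] at h
  have h' : ‖ρ.character g‖ = (Module.finrank ℂ (Fin n → ℂ) : ℝ) := by
    rw [h, Module.finrank_fin_fun]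
  have hsc := Cfsg.Agent.Lib.Helper3_CharEigen.rho_eq_smul_id_of_norm_char_eq ρ g h'
  refine Cfsg.Agent.Lib.Helper3_CharBurnside.not_scalar_of_simple_nonabelian hna ρ ?_ g hg hsc
  intro hcon
  apply hψ
  apply Subtype.ext
  rw [← hρ, hcon]
  rfl

end simple

section misc

variable {G : Type*} [Group G] [Finite G]

/-- S0165 for `IrrCharacter`: a character of `p`-defect zero vanishes on the `p`-singular
elements. -/
theorem irr_vanish_of_defect_zero (χ : IrrCharacter G) (p n : ℕ) (hp : p.Prime)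
    (hn : p ^ n ∣ Nat.card G) (hn' : ¬ p ^ (n + 1) ∣ Nat.card G)
    (hdeg : p ^ n ∣ charDegree (χ : G → ℂ)) (x : G) (hx : p ∣ orderOf x) :
    (χ : G → ℂ) x = 0 := by
  obtain ⟨m, ρ, hirr, hρ⟩ := χ.2
  haveI := hirr
  have hm : charDegree (χ : G → ℂ) = m := by
    apply Cfsg.Agent.Lib.Helper79_CharVals.charDegree_of_eq_natCast
    rw [← hρ, Representation.char_one]
    simp
  rw [← hρ]
  refine Cfsg.Agent.S0165.result ρ p n hp hn hn' ?_ x hx
  rw [Module.finrank_fin_fun, ← hm]
  exact hdeg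

/-- The value of a character at an involution: `χ(t) = χ(1) - 2 j`. -/
theorem involution_parity (χ : IrrCharacter G) (t : G) (ht : orderOf t = 2) :
    ∃ j : ℕ, (χ : G → ℂ) t = (charDegree (χ : G → ℂ) : ℂ) - 2 * (j : ℂ) := by
  classical
  obtain ⟨m, ρ, hirr, hρ⟩ := χ.2
  have hm : charDegree (χ : G → ℂ) = m := by
    apply Cfsg.Agent.Lib.Helper79_CharVals.charDegree_of_eq_natCast
    rw [← hρ, Representation.char_one]
    simp
  have hfr := Cfsg.Agent.Lib.Helper3_CharEigen.finrank_eq_sum ρ t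
  rw [Module.finrank_fin_fun] at hfr
  refine ⟨∑ μ ∈ Cfsg.Agent.Lib.Helper3_CharEigen.eigSet (ρ t),
    if μ = -1 then Module.finrank ℂ (Module.End.eigenspace (ρ t) μ) else 0, ?_⟩
  have hmC : (m : ℂ) = ∑ μ ∈ Cfsg.Agent.Lib.Helper3_CharEigen.eigSet (ρ t),
      (Module.finrank ℂ (Module.End.eigenspace (ρ t) μ) : ℂ) := by
    have := congrArg (Nat.cast : ℕ → ℂ) hfr
    rw [this]
    push_cast
    rfl
  rw [hm, ← hρ, Cfsg.Agent.Lib.Helper3_CharEigen.char_eq_sum ρ t, hmC]
  push_cast
  rw [Finset.mul_sum, ← Finset.sum_sub_distrib]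
  refine Finset.sum_congr rfl fun μ hμ => ?_
  have h2 := Cfsg.Agent.Lib.Helper3_CharEigen.eig_pow_orderOf ρ hμ
  rw [ht] at h2
  have h3 : (μ - 1) * (μ + 1) = 0 := by linear_combination h2
  rcases mul_eq_zero.mp h3 with h4 | h4
  · have h5 : μ = 1 := sub_eq_zero.mp h4
    have h6 : μ ≠ -1 := by rw [h5]; norm_num
    rw [if_neg h6, h5]
    simp
  · have h5 : μ = -1 := eq_neg_of_add_eq_zero_left h4
    rw [if_pos h5, h5]
    ring

/-- The degree equation over `ℕ`. -/
theorem sum_sq_charDegree [Fintype (IrrCharacter G)] :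
    ∑ χ : IrrCharacter G, charDegree (χ : G → ℂ) ^ 2 = Nat.card G := by
  have h := Cfsg.Agent.Lib.Helper80_CharComplete.sum_sq_degrees (G := G)
  rw [finsum_eq_sum_of_fintype] at h
  have h2 : ((∑ χ : IrrCharacter G, charDegree (χ : G → ℂ) ^ 2 : ℕ) : ℂ) = (Nat.card G : ℂ) := by
    rw [← h]
    push_cast
    refine Finset.sum_congr rfl fun χ _ => ?_
    rw [Cfsg.Agent.Lib.Helper77_BlockBasics.apply_one_eq_charDegree χ]
  exact_mod_cast h2

theorem charDegree_sq_le (χ : IrrCharacter G) : charDegree (χ : G → ℂ) ^ 2 ≤ Nat.card G := by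
  classical
  let _ : Fintype (IrrCharacter G) := Fintype.ofFinite _
  rw [← sum_sq_charDegree (G := G)]
  exact Finset.single_le_sum (f := fun χ : IrrCharacter G => charDegree (χ : G → ℂ) ^ 2)
    (fun _ _ => Nat.zero_le _) (Finset.mem_univ χ)

/-- Integrality of the central character when `χ(g)` is a rational integer `k`: the degree divides
`|G : C_G(g)| k`. -/
theorem dvd_index_mul_of_apply_eq_int (χ : IrrCharacter G) (g : G) (k : ℤ)
    (hk : (χ : G → ℂ) g = k) :
    ((charDegree (χ : G → ℂ) : ℕ) : ℤ) ∣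
      ((Subgroup.centralizer ({g} : Set G)).index : ℤ) * k := by
  have hint := Cfsg.Agent.Lib.Helper78_CentralChar.isIntegral_centralChar_of_isIrrCharacter χ.2 g
  unfold centralChar at hint
  rw [hk, Cfsg.Agent.Lib.Helper77_BlockBasics.apply_one_eq_charDegree χ] at hint
  have hpos := Cfsg.Agent.Lib.Helper77_BlockBasics.charDegree_pos χ
  set d := charDegree (χ : G → ℂ) with hd
  set i := (Subgroup.centralizer ({g} : Set G)).index with hi
  have hq : ((i : ℂ) * (k : ℂ) / (d : ℂ)) = (((i : ℚ) * (k : ℚ) / (d : ℚ) : ℚ) : ℂ) := by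
    push_cast
    rfl
  rw [hq] at hint
  obtain ⟨m, hm⟩ := Cfsg.Agent.Lib.Helper79_TISylowCongr.exists_int_of_isIntegral_rat _ hint
  have hd0 : (d : ℚ) ≠ 0 := by exact_mod_cast hpos.ne'
  rw [div_eq_iff hd0] at hm
  refine ⟨m, ?_⟩
  have : ((i : ℤ) * k : ℚ) = ((d : ℤ) * m : ℚ) := by
    push_cast
    rw [hm]
    ring
  exact_mod_cast this

end misc

end Cfsg.Agent.Lib.Helper74_CharTools
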