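import Mathlib
import Cfsg.Prelude.Def_Blocks
import Cfsg.Agent.Lib.Helper3_CharEigen
import Cfsg.Agent.Lib.Helper3_DetEigen
import Cfsg.Agent.Lib.Helper30_Deg3
import Cfsg.Agent.Lib.Helper74_CharTools
import Cfsg.Agent.Lib.Helper79_CharVals
import Cfsg.Agent.Lib.Helper80_CharBasic
import Cfsg.Agent.Lib.Helper10_N19_MULT

/-!
# F5040-INVVAL (S0978, architect helper62; author helper10)

Values of irreducible characters of perfect / simple groups at involutions:
* `invol_parity4`: `G` perfect ⇒ `χ(t) = χ(1) - 4 j`;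
* `invol_value`: `x` of odd prime order `p` commuting with the involution `u`,
  `χ(x^k) = χ(x^k u) = ε` for `p ∤ k` ⇒ `χ(u) = χ(1) - 4 p m`, `m ≥ 1`.
-/

set_option autoImplicit false

namespace Cfsg.Agent.Lib.Helper10_F5040_INVVAL

open Cfsg Cfsg.Agent.Lib.Helper80_CharBasic Cfsg.Agent.Lib.Helper3_CharEigen
  Cfsg.Agent.Lib.Helper3_DetEigen

/-- The determinant of `ρ t` for `t ^ 2 = 1`. -/
theorem det_involution {G : Type*} [Group G] [Finite G] {V : Type*} [AddCommGroup V] [Module ℂ V]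
    [FiniteDimensional ℂ V] (ρ : Representation ℂ G V) (t : G) (ht : t ^ 2 = 1) :
    LinearMap.det (ρ t) =
      (-1 : ℂ) ^ (Module.finrank ℂ (Module.End.eigenspace (ρ t) (-1))) := by
  classical
  rw [det_eq_prod_eig (rho_isSemisimple ρ t)]
  have h2 : ∀ μ ∈ eigSet (ρ t), μ ^ (Module.finrank ℂ (Module.End.eigenspace (ρ t) μ)) =
      if μ = -1 then (-1 : ℂ) ^ (Module.finrank ℂ (Module.End.eigenspace (ρ t) (-1))) else 1 := by
    intro μ hμ
    have hμ2 : μ ^ 2 = 1 := by
      have := eig_pow_orderOf ρ hμ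
      obtain ⟨k, hk⟩ := orderOf_dvd_of_pow_eq_one ht
      rw [hk, pow_mul, this, one_pow]
    have h3 : (μ - 1) * (μ + 1) = 0 := by linear_combination hμ2
    rcases mul_eq_zero.mp h3 with h4 | h4
    · have h5 : μ = 1 := sub_eq_zero.mp h4
      have h6 : μ ≠ -1 := by rw [h5]; norm_num
      rw [if_neg h6, h5, one_pow]
    · have h5 : μ = -1 := eq_neg_of_add_eq_zero_left h4
      rw [if_pos h5, h5]
  rw [Finset.prod_congr rfl h2, Finset.prod_ite_eq']
  split_ifs with h
  · rfl
  · have : Module.End.eigenspace (ρ t) (-1) = ⊥ := by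
      by_contra hne
      exact h (mem_eigSet.mpr hne)
    rw [this, finrank_bot, pow_zero]

/-- `χ(1) - χ(t) = 2 · dim (-1)-eigenspace` for `t ^ 2 = 1`. -/
theorem char_involution {G : Type*} [Group G] [Finite G] {V : Type*} [AddCommGroup V] [Module ℂ V]
    [FiniteDimensional ℂ V] (ρ : Representation ℂ G V) (t : G) (ht : t ^ 2 = 1) :
    ρ.character 1 - ρ.character t =
      2 * (Module.finrank ℂ (Module.End.eigenspace (ρ t) (-1)) : ℂ) := by
  have h := Cfsg.Agent.Lib.Helper10_N19_MULT.sum_twist_char_pow ρ t ht (-1) (by norm_num)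
    (by norm_num)
  rw [inv_neg_one, Finset.sum_range_succ, Finset.sum_range_one, pow_zero, pow_one, pow_zero,
    one_mul, pow_one] at h
  have h2 : ((2 : ℕ) : ℂ) = 2 := by norm_num
  rw [h2] at h
  rw [← h]
  ring

/-- In a perfect group the `(-1)`-eigenspace of an involution has even dimension. -/
theorem even_finrank_of_perfect {G : Type*} [Group G] [Finite G] (hperf : commutator G = ⊤)
    {n : ℕ} (ρ : Representation ℂ G (Fin n → ℂ)) (t : G) (ht : t ^ 2 = 1) :
    Even (Module.finrank ℂ (Module.End.eigenspace (ρ t) (-1))) := by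
  have h1 := det_involution ρ t ht
  rw [Cfsg.Agent.Lib.Helper30_Deg3.det_eq_one_of_perfect hperf ρ t] at h1
  by_contra hodd
  rw [Nat.not_even_iff_odd] at hodd
  rw [hodd.neg_one_pow] at h1
  norm_num at h1

theorem invol_parity4 {G : Type*} [Group G] [Finite G] (hperf : commutator G = ⊤)
    (χ : Cfsg.IrrCharacter G) (t : G) (ht : orderOf t = 2) :
    ∃ j : ℕ, (χ : G → ℂ) t = (Cfsg.charDegree (χ : G → ℂ) : ℂ) - 4 * (j : ℂ) := by
  obtain ⟨n, ρ, hirr, hρ⟩ := χ.2
  have hone : ρ.character 1 = (n : ℂ) := by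
    rw [Representation.char_one]; simp
  have hdn : Cfsg.charDegree (χ : G → ℂ) = n := by
    apply Cfsg.Agent.Lib.Helper79_CharVals.charDegree_of_eq_natCast
    rw [← hρ, hone]
  have ht2 : t ^ 2 = 1 := by rw [← ht, pow_orderOf_eq_one]
  obtain ⟨j, hj⟩ := even_finrank_of_perfect hperf ρ t ht2
  have h1 := char_involution ρ t ht2
  rw [hj, hone] at h1
  refine ⟨j, ?_⟩
  rw [hdn, ← hρ]
  push_cast at h1
  linear_combination -h1

/-- A non-abelian simple group is perfect. -/
theorem commutator_eq_top_of_simple {G : Type*} [Group G] [IsSimpleGroup G]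
    (hna : ¬ ∀ a b : G, a * b = b * a) : commutator G = ⊤ := by
  rcases IsSimpleGroup.eq_bot_or_eq_top_of_normal (commutator G) inferInstance with h | h
  · exfalso
    apply hna
    intro a b
    have h1 : a * b * a⁻¹ * b⁻¹ ∈ commutator G := by
      have := Subgroup.commutator_mem_commutator (H₁ := (⊤ : Subgroup G)) (H₂ := (⊤ : Subgroup G))
        (Subgroup.mem_top a) (Subgroup.mem_top b)
      rwa [commutatorElement_def] at this
    rw [h, Subgroup.mem_bot] at h1
    calc a * b = (a * b * a⁻¹ * b⁻¹) * (b * a) := by group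
      _ = b * a := by rw [h1, one_mul]
  · exact h

/-- the alternating sum of a two-spike function -/
theorem alt_sum (p : ℕ) (hp0 : 0 < p) (hodd : Odd p) (d c ε : ℂ) :
    ∑ k ∈ Finset.range (2 * p), (-1 : ℂ) ^ k * (if k = 0 then d else if k = p then c else ε)
      = d - c := by
  classical
  have h0 : ∑ k ∈ Finset.range (2 * p), (-1 : ℂ) ^ k = 0 := by
    clear hp0 hodd
    induction p with
    | zero => simp
    | succ q ih =>
      rw [show 2 * (q + 1) = 2 * q + 1 + 1 by ring, Finset.sum_range_succ, Finset.sum_range_succ, ih,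
        pow_succ, pow_mul]
      norm_num
  have hterm : ∀ k ∈ Finset.range (2 * p),
      (-1 : ℂ) ^ k * (if k = 0 then d else if k = p then c else ε) =
      (-1 : ℂ) ^ k * ε + (if k = 0 then (d - ε) else 0) + (if k = p then -(c - ε) else 0) := by
    intro k _
    by_cases hk0 : k = 0
    · have hkp : k ≠ p := by omega
      rw [if_pos hk0, if_pos hk0, if_neg hkp, hk0, pow_zero]
      ring
    · rw [if_neg hk0, if_neg hk0]
      by_cases hkp : k = p
      · rw [if_pos hkp, if_pos hkp, hkp, hodd.neg_one_pow]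
        ring
      · rw [if_neg hkp, if_neg hkp]
        ring
  rw [Finset.sum_congr rfl hterm, Finset.sum_add_distrib, Finset.sum_add_distrib, ← Finset.sum_mul,
    h0, zero_mul, zero_add, Finset.sum_ite_eq', Finset.sum_ite_eq',
    if_pos (Finset.mem_range.mpr (by omega)), if_pos (Finset.mem_range.mpr (by omega))]
  ring

theorem invol_value {G : Type*} [Group G] [Finite G] [IsSimpleGroup G]
    (hna : ¬ ∀ a b : G, a * b = b * a) (χ : Cfsg.IrrCharacter G) (hχ : χ ≠ oneIrr G)
    (p : ℕ) (hp : p.Prime) (hp2 : p ≠ 2) (x u : G) (hx : orderOf x = p) (hu : orderOf u = 2)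
    (hxu : Commute x u) (ε : ℤ)
    (h1 : ∀ k : ℕ, ¬ p ∣ k → (χ : G → ℂ) (x ^ k) = (ε : ℂ))
    (h2 : ∀ k : ℕ, ¬ p ∣ k → (χ : G → ℂ) (x ^ k * u) = (ε : ℂ)) :
    ∃ m : ℕ, 1 ≤ m ∧
      (χ : G → ℂ) u = (Cfsg.charDegree (χ : G → ℂ) : ℂ) - 4 * (p : ℂ) * (m : ℂ) := by
  classical
  have hperf := commutator_eq_top_of_simple hna
  have hodd : Odd p := hp.odd_of_ne_two hp2
  obtain ⟨n, ρ, hirr, hρ⟩ := χ.2
  have hone : ρ.character 1 = (n : ℂ) := by
    rw [Representation.char_one]; simp
  have hdn : Cfsg.charDegree (χ : G → ℂ) = n := by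
    apply Cfsg.Agent.Lib.Helper79_CharVals.charDegree_of_eq_natCast
    rw [← hρ, hone]
  have hxp : x ^ p = 1 := by rw [← hx, pow_orderOf_eq_one]
  have hu2 : u ^ 2 = 1 := by rw [← hu, pow_orderOf_eq_one]
  obtain ⟨w, hw⟩ : ∃ w : G, w = x * u := ⟨_, rfl⟩
  have hwk : ∀ k : ℕ, w ^ k = x ^ k * u ^ k := fun k => by rw [hw]; exact hxu.mul_pow k
  have hw2p : w ^ (2 * p) = 1 := by
    rw [hwk, mul_comm 2 p, pow_mul, hxp, one_pow, one_mul, mul_comm p 2, pow_mul, hu2, one_pow]
  have huk : ∀ k : ℕ, u ^ k = if Even k then 1 else u := by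
    intro k
    rcases Nat.even_or_odd k with hk | hk
    · rw [if_pos hk]
      obtain ⟨t, rfl⟩ := hk
      rw [← two_mul, pow_mul, hu2, one_pow]
    · rw [if_neg (Nat.not_even_iff_odd.mpr hk)]
      obtain ⟨t, rfl⟩ := hk
      rw [pow_succ, pow_mul, hu2, one_pow, one_mul]
  have hval : ∀ k ∈ Finset.range (2 * p), ρ.character (w ^ k) =
      if k = 0 then (n : ℂ) else if k = p then ρ.character u else (ε : ℂ) := by
    intro k hk
    rw [Finset.mem_range] at hk
    by_cases hk0 : k = 0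
    · rw [if_pos hk0, hk0, pow_zero, hone]
    rw [if_neg hk0]
    by_cases hkp : k = p
    · rw [if_pos hkp, hkp, hwk, hxp, one_mul, huk, if_neg (Nat.not_even_iff_odd.mpr hodd)]
    rw [if_neg hkp]
    have hnd : ¬ p ∣ k := by
      rintro ⟨t, rfl⟩
      have : t = 0 ∨ t = 1 ∨ 2 ≤ t := by omega
      rcases this with rfl | rfl | ht
      · exact hk0 (mul_zero p)
      · exact hkp (mul_one p)
      · have : 2 * p ≤ p * t := by rw [mul_comm]; exact Nat.mul_le_mul_left p ht
        omega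
    rw [hwk, huk]
    split_ifs with hev
    · rw [mul_one, hρ]; exact h1 k hnd
    · rw [hρ]; exact h2 k hnd
  have hsum := Cfsg.Agent.Lib.Helper10_N19_MULT.sum_twist_char_pow ρ w hw2p (-1)
    (by rw [pow_mul]; norm_num) (by have := hp.pos; omega)
  rw [Finset.sum_congr rfl (fun k hk => by rw [hval k hk]), alt_sum p hp.pos hodd, inv_neg_one]
    at hsum
  -- the `(-1)`-eigenspace of `u`
  have hcu := char_involution ρ u hu2
  obtain ⟨j, hj⟩ := even_finrank_of_perfect hperf ρ u hu2
  rw [hone] at hcu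
  set m' := Module.finrank ℂ (Module.End.eigenspace (ρ w) (-1)) with hm'
  set nu := Module.finrank ℂ (Module.End.eigenspace (ρ u) (-1)) with hnu
  -- `nu = p * m'`
  have hnat : nu = p * m' := by
    have hC : (2 : ℂ) * (nu : ℂ) = 2 * ((p * m' : ℕ) : ℂ) := by
      rw [← hcu, hsum]
      push_cast
      ring
    have := mul_left_cancel₀ (two_ne_zero) hC
    exact_mod_cast this
  have hev : Even m' := by
    have h3 : Even (p * m') := by rw [← hnat, hj]; exact ⟨j, rfl⟩
    rcases Nat.even_mul.mp h3 with h | h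
    · exact absurd h (Nat.not_even_iff_odd.mpr hodd)
    · exact h
  obtain ⟨m, hm⟩ := hev
  have hval_u : (χ : G → ℂ) u = (n : ℂ) - 4 * (p : ℂ) * (m : ℂ) := by
    rw [← hρ]
    rw [hm] at hsum
    push_cast at hsum
    linear_combination -hsum
  refine ⟨m, ?_, ?_⟩
  · by_contra hm0
    have hm0' : m = 0 := by omega
    rw [hm0'] at hval_u
    have h4 : (χ : G → ℂ) u = (χ : G → ℂ) 1 := by
      rw [hval_u, ← hρ, hone]; simp
    have := Cfsg.Agent.Lib.Helper74_CharTools.eq_one_of_apply_eq χ hχ u h4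
    rw [this, orderOf_one] at hu
    norm_num at hu
  · rw [hdn]; exact hval_u

end Cfsg.Agent.Lib.Helper10_F5040_INVVAL
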