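/-
Helper library (helper76): basic facts on `Cfsg.pPrimeCore`, `Cfsg.pCore`, `Cfsg.IsPSolvable`
and the Hall–Higman centralizer lemma (Lemma 1.2.3).
-/
import Cfsg.Prelude.Def_Local
import Mathlib.GroupTheory.SchurZassenhaus
import Mathlib.GroupTheory.Transfer
import Mathlib.GroupTheory.GroupAction.ConjAct

set_option autoImplicit false

namespace Cfsg.Agent.Lib.Helper76_PSolvable

open Cfsg

variable {G : Type*} [Group G]

/-- In a finite lattice of subgroups, the supremum of a family containing `⊥` and closed under
binary suprema belongs to the family. -/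
theorem sSup_mem_of_sup_closed [Finite G] (S : Set (Subgroup G)) (hbot : ⊥ ∈ S)
    (hsup : ∀ A ∈ S, ∀ B ∈ S, A ⊔ B ∈ S) : sSup S ∈ S := by
  classical
  have hfin : S.Finite := Set.toFinite S
  have h1 : sSup S = hfin.toFinset.sup id := by
    rw [Finset.sup_id_eq_sSup, Set.Finite.coe_toFinset]
  rw [h1]
  apply Finset.sup_induction (p := fun A => A ∈ S) hbot
  · intro a ha b hb
    exact hsup a ha b hb
  · intro b hb
    exact (Set.Finite.mem_toFinset hfin).mp hb

theorem card_sup_dvd (A B : Subgroup G) [B.Normal] :
    Nat.card (A ⊔ B : Subgroup G) ∣ Nat.card A * Nat.card B := by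
  have h1 : Nat.card B * B.relIndex (A ⊔ B) = Nat.card (A ⊔ B : Subgroup G) := by
    rw [← Subgroup.relIndex_bot_left, ← Subgroup.relIndex_bot_left,
      Subgroup.relIndex_mul_relIndex _ _ _ bot_le le_sup_right]
  rw [Subgroup.relIndex_sup_right] at h1
  rw [← h1, mul_comm (Nat.card A)]
  exact Nat.mul_dvd_mul_left _ (Subgroup.relIndex_dvd_card _ _)

/-- `O_{p'}(G)` is normal. -/
theorem pPrimeCore_normal (p : ℕ) : (pPrimeCore p G).Normal :=
  Subgroup.sSup_normal _ fun _ hH => hH.1

instance pPrimeCore_normal_inst (p : ℕ) : (pPrimeCore p G).Normal := pPrimeCore_normal p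

/-- `O_{p'}(G)` has order prime to `p`. -/
theorem pPrimeCore_card_coprime [Finite G] (p : ℕ) : (Nat.card (pPrimeCore p G)).Coprime p := by
  have := sSup_mem_of_sup_closed {N : Subgroup G | N.Normal ∧ (Nat.card N).Coprime p}
    ⟨inferInstance, by simp⟩ (by
      rintro A ⟨hA1, hA2⟩ B ⟨hB1, hB2⟩
      refine ⟨inferInstance, ?_⟩
      exact Nat.Coprime.coprime_dvd_left (card_sup_dvd A B) (Nat.Coprime.mul_left hA2 hB2))
  exact this.2

theorem le_pPrimeCore (p : ℕ) (N : Subgroup G) [hN : N.Normal] (h : (Nat.card N).Coprime p) :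
    N ≤ pPrimeCore p G :=
  le_sSup ⟨hN, h⟩

/-- `O_p(G)` is normal. -/
theorem pCore_normal (p : ℕ) : (pCore p G).Normal :=
  Subgroup.sSup_normal _ fun _ hH => hH.1

instance pCore_normal_inst (p : ℕ) : (pCore p G).Normal := pCore_normal p

/-- `O_p(G)` is a `p`-group. -/
theorem pCore_isPGroup [Finite G] (p : ℕ) : IsPGroup p (pCore p G) := by
  have := sSup_mem_of_sup_closed {N : Subgroup G | N.Normal ∧ IsPGroup p N}
    ⟨inferInstance, IsPGroup.of_bot⟩ (by
      rintro A ⟨hA1, hA2⟩ B ⟨hB1, hB2⟩
      exact ⟨inferInstance, IsPGroup.to_sup_of_normal_right hA2 hB2⟩)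
  exact this.2

theorem le_pCore (p : ℕ) (N : Subgroup G) [hN : N.Normal] (h : IsPGroup p N) :
    N ≤ pCore p G :=
  le_sSup ⟨hN, h⟩

/-- The order of the image of `H` in the quotient by a normal subgroup `D ≤ H`. -/
theorem card_mul_card_map_mk (D : Subgroup G) [D.Normal] (H : Subgroup G) (h : D ≤ H) :
    Nat.card D * Nat.card (H.map (QuotientGroup.mk' D)) = Nat.card H := by
  rw [← Subgroup.relIndex_ker, QuotientGroup.ker_mk', ← Subgroup.relIndex_bot_left,
    ← Subgroup.relIndex_bot_left, Subgroup.relIndex_mul_relIndex _ _ _ bot_le h]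

/-- Quotients of `p`-solvable groups are `p`-solvable. -/
theorem isPSolvable_quotient (p : ℕ) [hp : Fact p.Prime] (N : Subgroup G) [N.Normal]
    (h : IsPSolvable p G) : IsPSolvable p (G ⧸ N) := by
  obtain ⟨n, H, h0, hlast, hmono, hnormal, hfac⟩ := h
  set π := QuotientGroup.mk' N with hπ
  have hπs : Function.Surjective π := QuotientGroup.mk'_surjective N
  refine ⟨n, fun i => (H i).map π, ?_, ?_, ?_, ?_, ?_⟩
  · simp only [h0, Subgroup.map_bot]
  · simp only [hlast]
    rw [← MonoidHom.range_eq_map, MonoidHom.range_eq_top]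
    exact hπs
  · intro i j hij
    exact Subgroup.map_mono (hmono hij)
  · intro i
    exact (hnormal i).map π hπs
  · intro i
    have hAB : H i.castSucc ≤ H i.succ := hmono (Fin.castSucc_lt_succ).le
    have hAn : (H i.castSucc).Normal := hnormal _
    have hdvd : ((H i.castSucc).map π).relIndex ((H i.succ).map π) ∣
        (H i.castSucc).relIndex (H i.succ) := by
      rw [Subgroup.relIndex_map_map, hπ, QuotientGroup.ker_mk']
      have h1 : H i.succ ⊔ N = H i.succ ⊔ (H i.castSucc ⊔ N) := by
        rw [← sup_assoc, sup_eq_left.mpr hAB]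
      rw [h1, Subgroup.relIndex_sup_right]
      exact Subgroup.relIndex_dvd_of_le_left _ le_sup_left
    rcases hfac i with ⟨m, hm⟩ | hm
    · left
      rw [hm] at hdvd
      obtain ⟨k, _, hk⟩ := (Nat.dvd_prime_pow hp.out).mp hdvd
      exact ⟨k, hk⟩
    · right
      exact Nat.Coprime.coprime_dvd_left hdvd hm

/-- `O_{p'}(G / O_{p'}(G)) = 1`. -/
theorem pPrimeCore_quotient_pPrimeCore [Finite G] (p : ℕ) :
    pPrimeCore p (G ⧸ pPrimeCore p G) = ⊥ := by
  set K := pPrimeCore p G with hK
  set π := QuotientGroup.mk' K with hπ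
  have hπs : Function.Surjective π := QuotientGroup.mk'_surjective K
  set Mbar := pPrimeCore p (G ⧸ K) with hMbar
  set M := Mbar.comap π with hM
  have hMn : M.Normal := Subgroup.Normal.comap (pPrimeCore_normal p) π
  have hKM : K ≤ M := by
    rw [hM]
    have : π.ker ≤ Mbar.comap π := Subgroup.ker_le_comap _ _
    rwa [hπ, QuotientGroup.ker_mk'] at this
  have hmap : M.map π = Mbar := Subgroup.map_comap_eq_self_of_surjective hπs _
  have hcard := card_mul_card_map_mk K M hKM
  rw [← hπ, hmap] at hcard
  have hcop : (Nat.card M).Coprime p := by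
    rw [← hcard]
    exact Nat.Coprime.mul_left (pPrimeCore_card_coprime p) (pPrimeCore_card_coprime p)
  have hMK : M ≤ K := le_pPrimeCore p M hcop
  rw [eq_bot_iff, ← hmap]
  intro q hq
  obtain ⟨g, hg, rfl⟩ := hq
  rw [Subgroup.mem_bot, hπ, QuotientGroup.mk'_apply, QuotientGroup.eq_one_iff]
  exact hMK hg

/-- For `H` normal and `K ≤ L`, `|K : H ∩ K|` divides `|L : H ∩ L|`. -/
theorem relIndex_dvd_relIndex_of_le_right (H : Subgroup G) [H.Normal] {K L : Subgroup G}
    (hKL : K ≤ L) : H.relIndex K ∣ H.relIndex L := by
  have h1 : (H.subgroupOf L).relIndex (K.subgroupOf L) ∣ (H.subgroupOf L).index :=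
    Subgroup.relIndex_dvd_index_of_normal _ _
  rwa [Subgroup.relIndex_subgroupOf hKL] at h1

/-- A group with a central `p`-subgroup `S` of index prime to `p` has a characteristic
complement `T` of order prime to `p`. -/
theorem exists_characteristic_complement_of_central {M : Type*} [Group M] [Finite M] (p : ℕ)
    [hp : Fact p.Prime] (S : Subgroup M) (hSc : S ≤ Subgroup.center M) (hSp : IsPGroup p S)
    (hidx : S.index.Coprime p) :
    ∃ T : Subgroup M, T.Characteristic ∧ (Nat.card T).Coprime p ∧ (T = ⊥ → S = ⊤) := by
  have hSn : S.Normal := ⟨fun n hn g => by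
    have := Subgroup.mem_center_iff.mp (hSc hn) g
    rw [this, mul_assoc, mul_inv_cancel, mul_one]; exact hn⟩
  obtain ⟨a, ha⟩ := IsPGroup.iff_card.mp hSp
  have hcop : Nat.Coprime (Nat.card S) S.index := by
    rw [ha]
    exact Nat.Coprime.pow_left a hidx.symm
  obtain ⟨T, hT⟩ := Subgroup.exists_right_complement'_of_coprime hcop
  have hTcard : Nat.card T = S.index := (hT.symm.index_eq_card).symm
  have hTidx : T.index = Nat.card S := hT.index_eq_card
  have hTn : T.Normal := by
    rw [← Subgroup.normalizer_eq_top_iff, eq_top_iff, ← hT.sup_eq_top, sup_le_iff]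
    constructor
    · intro s hs
      rw [Subgroup.mem_normalizer_iff]
      intro t
      have := Subgroup.mem_center_iff.mp (hSc hs) t
      rw [← this, mul_assoc, mul_inv_cancel, mul_one]
    · exact Subgroup.le_normalizer
  refine ⟨T, ?_, ?_, ?_⟩
  · rw [Subgroup.characteristic_iff_map_le]
    intro φ
    set U := T.map φ.toMonoidHom with hU
    have hUcard : Nat.card U = Nat.card T :=
      Subgroup.card_map_of_injective φ.injective
    have h1 : T.relIndex U ∣ T.index := Subgroup.relIndex_dvd_index_of_normal _ _
    have h2 : T.relIndex U ∣ Nat.card U := Subgroup.relIndex_dvd_card _ _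
    rw [hTidx, ha] at h1
    rw [hUcard, hTcard] at h2
    have h3 : T.relIndex U = 1 := by
      have hc : Nat.Coprime (p ^ a) S.index := Nat.Coprime.pow_left a hidx.symm
      exact Nat.eq_one_of_dvd_coprimes hc h1 h2
    exact Subgroup.relIndex_eq_one.mp h3
  · rw [hTcard]; exact hidx
  · intro h
    rw [h] at hT
    exact Subgroup.isComplement'_bot_right.mp hT

/-- **Hall–Higman Lemma 1.2.3.** In a finite `p`-solvable group with `O_{p'}(X) = 1`,
the centralizer of `O_p(X)` is contained in `O_p(X)`. -/
theorem centralizer_pCore_le {X : Type*} [Group X] [Finite X] (p : ℕ) [hp : Fact p.Prime]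
    (hsol : IsPSolvable p X) (hcore : pPrimeCore p X = ⊥) :
    Subgroup.centralizer (pCore p X : Set X) ≤ pCore p X := by
  obtain ⟨n, H, h0, hlast, hmono, hnormal, hfac⟩ := hsol
  set R := pCore p X with hR
  set C := Subgroup.centralizer (R : Set X) with hC
  have hCn : C.Normal := by rw [hC]; infer_instance
  have hRp : IsPGroup p R := pCore_isPGroup p
  have key : ∀ i : Fin (n + 1), C ⊓ H i ≤ R := by
    intro i
    induction i using Fin.induction with
    | zero => rw [h0, inf_bot_eq]; exact bot_le
    | succ i ih =>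
      set S := C ⊓ H i.castSucc with hS
      set M := C ⊓ H i.succ with hM
      have hAB : H i.castSucc ≤ H i.succ := hmono (Fin.castSucc_lt_succ).le
      have hAn : (H i.castSucc).Normal := hnormal _
      have hBn : (H i.succ).Normal := hnormal _
      have hSM : S ≤ M := inf_le_inf_left C hAB
      have hMn : M.Normal := by rw [hM]; infer_instance
      have hSn : S.Normal := by rw [hS]; infer_instance
      have hSp : IsPGroup p S := hRp.to_le ih
      have hcent : ∀ s ∈ S, ∀ m ∈ M, s * m = m * s := by
        intro s hs m hm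
        have hm' : m ∈ C := (Subgroup.mem_inf.mp hm).1
        exact Subgroup.mem_centralizer_iff.mp hm' s (ih hs)
      have hrel : S.relIndex M ∣ (H i.castSucc).relIndex (H i.succ) := by
        have h1 : S.relIndex M = (H i.castSucc).relIndex M := by
          rw [← Subgroup.inf_relIndex_right S M, ← Subgroup.inf_relIndex_right (H i.castSucc) M]
          congr 1
          rw [hS, hM]
          apply le_antisymm
          · exact le_inf (inf_le_left.trans inf_le_right) inf_le_right
          · refine le_inf (le_inf (inf_le_right.trans inf_le_left) inf_le_left) inf_le_right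
        rw [h1]
        exact relIndex_dvd_relIndex_of_le_right _ inf_le_right
      have hcardM : Nat.card S * S.relIndex M = Nat.card M := by
        rw [← Subgroup.relIndex_bot_left, ← Subgroup.relIndex_bot_left,
          Subgroup.relIndex_mul_relIndex _ _ _ bot_le hSM]
      rcases hfac i with ⟨m, hm⟩ | hm
      · -- p-power factor: M is a normal p-subgroup
        rw [hm] at hrel
        obtain ⟨k, _, hk⟩ := (Nat.dvd_prime_pow hp.out).mp hrel
        obtain ⟨a, ha⟩ := IsPGroup.iff_card.mp hSp
        have hMp : IsPGroup p M := by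
          apply IsPGroup.of_card (n := a + k)
          rw [← hcardM, ha, hk, pow_add]
        exact le_pCore p M hMp
      · -- p'-factor
        have hcop : (S.relIndex M).Coprime p := Nat.Coprime.coprime_dvd_left hrel hm
        have hSc : S.subgroupOf M ≤ Subgroup.center M := by
          intro z hz
          rw [Subgroup.mem_center_iff]
          intro g
          apply Subtype.ext
          rw [Subgroup.mem_subgroupOf] at hz
          simpa using (hcent z hz g g.2).symm
        have hSp' : IsPGroup p (S.subgroupOf M) :=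
          hSp.comap_subtype
        obtain ⟨T, hTchar, hTcard, hTbot⟩ :=
          exists_characteristic_complement_of_central p (S.subgroupOf M) hSc hSp' hcop
        have hTn : (T.map M.subtype).Normal := inferInstance
        have hTcard' : (Nat.card (T.map M.subtype)).Coprime p := by
          rw [Subgroup.card_map_of_injective M.subtype_injective]; exact hTcard
        have hTle : T.map M.subtype ≤ pPrimeCore p X := le_pPrimeCore p _ hTcard'
        rw [hcore, le_bot_iff, Subgroup.map_eq_bot_iff_of_injective _ M.subtype_injective] at hTle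
        have := hTbot hTle
        rw [Subgroup.subgroupOf_eq_top] at this
        exact this.trans ih
  have := key (Fin.last n)
  rwa [hlast, inf_top_eq] at this

end Cfsg.Agent.Lib.Helper76_PSolvable
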