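import Mathlib
import Cfsg.Prelude.Def_Solvable

set_option autoImplicit false

namespace Cfsg.Agent.Lib.Helper71_Fitting

open Subgroup

variable {G : Type*} [Group G]

/-- Prime-power induction inside a cyclic subgroup: if every element of prime power order of
`zpowers x` lies in the subgroup `K`, then so does `x`. -/
theorem mem_of_primePow_mem [Finite G] (K : Subgroup G) (x : G)
    (h : ∀ y ∈ zpowers x, ∀ p k : ℕ, p.Prime → orderOf y = p ^ k → y ∈ K) : x ∈ K := by
  suffices H : ∀ N : ℕ, ∀ y ∈ zpowers x, orderOf y = N → y ∈ K from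
    H _ x (mem_zpowers x) rfl
  intro N
  induction N using Nat.strong_induction_on with
  | _ N ih =>
    intro y hy hN
    have hNpos : 0 < N := hN ▸ orderOf_pos y
    by_cases hN1 : N = 1
    · have : y = 1 := orderOf_eq_one_iff.mp (hN.trans hN1)
      rw [this]; exact one_mem K
    -- pick a prime divisor
    set p := N.minFac with hp_def
    have hp : p.Prime := Nat.minFac_prime hN1
    set a := N.factorization p with ha_def
    have hpa_dvd : p ^ a ∣ N := Nat.ordProj_dvd N p
    set m := N / p ^ a with hm_def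
    have hNm : p ^ a * m = N := Nat.mul_div_cancel' hpa_dvd
    have hcop : Nat.Coprime (p ^ a) m := by
      have : Nat.Coprime p m := Nat.coprime_ordCompl hp hNpos.ne'
      exact Nat.Coprime.pow_left a this
    have ha_pos : 0 < a := hp.factorization_pos_of_dvd hNpos.ne' (Nat.minFac_dvd N)
    have hm_lt : m < N := by
      have h2 : 2 ≤ p ^ a := by
        calc 2 ≤ p := hp.two_le
          _ = p ^ 1 := (pow_one p).symm
          _ ≤ p ^ a := Nat.pow_le_pow_right hp.pos ha_pos
      have hmpos : 0 < m := Nat.pos_of_ne_zero (by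
        intro h0; rw [h0, mul_zero] at hNm; omega)
      nlinarith
    -- orders of the two components
    have ho1 : orderOf (y ^ (p ^ a)) = m := by
      rw [orderOf_pow' y (pow_pos hp.pos a).ne', hN]
      rw [Nat.gcd_eq_right hpa_dvd]
    have ho2 : orderOf (y ^ m) = p ^ a := by
      have hm0 : m ≠ 0 := by
        intro h0; rw [h0, mul_zero] at hNm; omega
      rw [orderOf_pow' y hm0, hN]
      have : m ∣ N := ⟨p ^ a, by rw [mul_comm]; exact hNm.symm⟩
      rw [Nat.gcd_eq_right this]
      exact Nat.div_eq_of_eq_mul_left (Nat.pos_of_ne_zero hm0) hNm.symm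
    have hy1 : y ^ (p ^ a) ∈ K := ih m hm_lt _ (pow_mem hy _) ho1
    have hy2 : y ^ m ∈ K := h _ (pow_mem hy _) p a hp ho2
    -- Bezout
    have hcop' : IsCoprime ((p ^ a : ℕ) : ℤ) (m : ℤ) := Nat.isCoprime_iff_coprime.mpr hcop
    obtain ⟨u, v, huv⟩ := hcop'
    have : y = (y ^ (p ^ a)) ^ u * (y ^ m) ^ v := by
      rw [← zpow_natCast y (p ^ a), ← zpow_natCast y m, ← zpow_mul, ← zpow_mul, ← zpow_add]
      have : ((p ^ a : ℕ) : ℤ) * u + (m : ℤ) * v = 1 := by linarith
      rw [this, zpow_one]
    rw [this]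
    exact K.mul_mem (K.zpow_mem hy1 _) (K.zpow_mem hy2 _)


/-- `O_p(G)` realised as the intersection of all Sylow `p`-subgroups. -/
def sylowCore (p : ℕ) (G : Type*) [Group G] : Subgroup G := ⨅ P : Sylow p G, (P : Subgroup G)

theorem mem_sylowCore {p : ℕ} {z : G} : z ∈ sylowCore p G ↔ ∀ P : Sylow p G, z ∈ P := by
  simp only [sylowCore, Subgroup.mem_iInf]
  exact Iff.rfl

instance sylowCore_normal (p : ℕ) : (sylowCore p G).Normal := by
  constructor
  intro n hn g
  rw [mem_sylowCore] at hn ⊢
  intro P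
  have h1 : n ∈ ((g⁻¹ • P : Sylow p G) : Subgroup G) := hn (g⁻¹ • P)
  rw [Sylow.coe_subgroup_smul, Subgroup.mem_pointwise_smul_iff_inv_smul_mem] at h1
  have h2 : g * n * g⁻¹ ∈ (P : Subgroup G) := by simpa [MulAut.smul_def] using h1
  exact h2

theorem sylowCore_isPGroup (p : ℕ) [Fact p.Prime] : IsPGroup p (sylowCore p G) := by
  obtain ⟨P⟩ : Nonempty (Sylow p G) := inferInstance
  exact P.isPGroup'.to_le (iInf_le _ P)

theorem le_sylowCore_of_normal {p : ℕ} {N : Subgroup G} [N.Normal] (h : IsPGroup p N) :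
    N ≤ sylowCore p G :=
  le_iInf fun P => h.le_sylow_of_normal P

theorem fittingSubgroup_normal : (Cfsg.fittingSubgroup G).Normal :=
  Subgroup.sSup_normal _ fun _ hN => hN.1

theorem sylowCore_le_fitting [Finite G] (p : ℕ) [Fact p.Prime] :
    sylowCore p G ≤ Cfsg.fittingSubgroup G :=
  le_sSup ⟨inferInstance, (sylowCore_isPGroup (G := G) p).isNilpotent⟩

/-- An element of prime power order of a normal nilpotent subgroup lies in every Sylow subgroup
for that prime. -/
theorem mem_sylowCore_of_mem_normal_nilpotent [Finite G] {p : ℕ} [Fact p.Prime]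
    (N : Subgroup G) [N.Normal] (hN : Group.IsNilpotent N) {z : G} (hz : z ∈ N) {k : ℕ}
    (hzo : orderOf z = p ^ k) : z ∈ sylowCore p G := by
  have hzp : IsPGroup p (zpowers (⟨z, hz⟩ : N)) := by
    apply IsPGroup.of_card (n := k)
    rw [Nat.card_zpowers, ← hzo]
    exact Subgroup.orderOf_mk z hz
  obtain ⟨Q, hQ⟩ := hzp.exists_le_sylow
  have : (Q : Subgroup N).Normal := inferInstance
  have : (Q : Subgroup N).Characteristic := Sylow.characteristic_of_normal Q inferInstance
  have hQn : ((Q : Subgroup N).map N.subtype).Normal := inferInstance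
  have hQp : IsPGroup p ((Q : Subgroup N).map N.subtype) := Q.isPGroup'.map _
  have := le_sylowCore_of_normal (N := (Q : Subgroup N).map N.subtype) hQp
  apply this
  exact ⟨⟨z, hz⟩, hQ (mem_zpowers _), rfl⟩


/-- The join of the `O_p(G)` over the prime divisors of `|G|`. -/
def sylowCoreSup (G : Type*) [Group G] : Subgroup G :=
  ⨆ p : (Nat.card G).primeFactors, sylowCore (p : ℕ) G

instance sylowCoreSup_normal : (sylowCoreSup G).Normal := by
  unfold sylowCoreSup
  infer_instance

theorem sylowCore_le_sylowCoreSup [Finite G] (p : ℕ) [hp : Fact p.Prime] :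
    sylowCore p G ≤ sylowCoreSup G := by
  by_cases hpG : p ∣ Nat.card G
  · have hmem : p ∈ (Nat.card G).primeFactors :=
      Nat.mem_primeFactors.mpr ⟨hp.out, hpG, Nat.card_pos.ne'⟩
    exact le_iSup (fun q : (Nat.card G).primeFactors => sylowCore (q : ℕ) G) ⟨p, hmem⟩
  · -- trivial p-group
    have h1 : sylowCore p G = ⊥ := by
      rw [← Subgroup.card_eq_one]
      obtain ⟨n, hn⟩ := (IsPGroup.iff_card.mp (sylowCore_isPGroup (G := G) p))
      rcases Nat.eq_zero_or_pos n with h0 | hpos
      · rw [hn, h0, pow_zero]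
      · exfalso
        apply hpG
        have : p ∣ Nat.card (sylowCore p G) := by
          rw [hn]; exact dvd_pow_self p hpos.ne'
        exact this.trans (Subgroup.card_subgroup_dvd_card _)
    rw [h1]; exact bot_le

theorem fitting_le_sylowCoreSup [Finite G] : Cfsg.fittingSubgroup G ≤ sylowCoreSup G := by
  apply sSup_le
  rintro N ⟨hNn, hNnil⟩
  intro y hy
  apply mem_of_primePow_mem
  intro z hz p k hp hzo
  have : Fact p.Prime := ⟨hp⟩
  have hzN : z ∈ N := (Subgroup.zpowers_le.mpr hy) hz
  exact sylowCore_le_sylowCoreSup p (mem_sylowCore_of_mem_normal_nilpotent N hNnil hzN hzo)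

theorem sylowCoreSup_isNilpotent [Finite G] : Group.IsNilpotent (sylowCoreSup G) := by
  classical
  have hcomm : Pairwise fun p₁ p₂ : (Nat.card G).primeFactors =>
      ∀ x y : G, x ∈ sylowCore (p₁ : ℕ) G → y ∈ sylowCore (p₂ : ℕ) G → Commute x y := by
    rintro ⟨p₁, hp₁⟩ ⟨p₂, hp₂⟩ hne
    have hp₁' := Fact.mk (Nat.prime_of_mem_primeFactors hp₁)
    have hp₂' := Fact.mk (Nat.prime_of_mem_primeFactors hp₂)
    have hne' : p₁ ≠ p₂ := by simpa using hne
    apply Subgroup.commute_of_normal_of_disjoint _ _ inferInstance inferInstance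
    exact IsPGroup.disjoint_of_ne p₁ p₂ hne' _ _ (sylowCore_isPGroup p₁) (sylowCore_isPGroup p₂)
  have hnil : ∀ p : (Nat.card G).primeFactors, Group.IsNilpotent (sylowCore (p : ℕ) G) := by
    rintro ⟨p, hp⟩
    have := Fact.mk (Nat.prime_of_mem_primeFactors hp)
    exact (sylowCore_isPGroup (G := G) p).isNilpotent
  have hrange : (Subgroup.noncommPiCoprod hcomm).range = sylowCoreSup G :=
    Subgroup.noncommPiCoprod_range
  have h1 : Group.IsNilpotent (Subgroup.noncommPiCoprod hcomm).range :=
    Group.nilpotent_of_surjective (Subgroup.noncommPiCoprod hcomm).rangeRestrict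
      (MonoidHom.rangeRestrict_surjective _)
  rw [hrange] at h1
  exact h1

theorem fittingSubgroup_eq_sylowCoreSup [Finite G] : Cfsg.fittingSubgroup G = sylowCoreSup G :=
  le_antisymm fitting_le_sylowCoreSup
    (le_sSup ⟨inferInstance, sylowCoreSup_isNilpotent⟩)

/-- **Fitting's theorem** for finite groups. -/
theorem fittingSubgroup_isNilpotent [Finite G] : Group.IsNilpotent (Cfsg.fittingSubgroup G) := by
  rw [fittingSubgroup_eq_sylowCoreSup]
  exact sylowCoreSup_isNilpotent

/-- An element of prime power order `p ^ k` of the Fitting subgroup lies in every Sylow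
`p`-subgroup. -/
theorem mem_sylow_of_mem_fitting [Finite G] {p : ℕ} [Fact p.Prime] {z : G}
    (hz : z ∈ Cfsg.fittingSubgroup G) {k : ℕ} (hzo : orderOf z = p ^ k) (P : Sylow p G) :
    z ∈ P := by
  have := fittingSubgroup_normal (G := G)
  exact mem_sylowCore.mp
    (mem_sylowCore_of_mem_normal_nilpotent _ fittingSubgroup_isNilpotent hz hzo) P


/-- For `N` normal, `|HN : H| = |N : H ⊓ N|`. -/
theorem relIndex_sup_eq_of_normal_right [Finite G] (H N : Subgroup G) [N.Normal] :
    H.relIndex (H ⊔ N) = H.relIndex N := by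
  have e1 : Nat.card ↥(H ⊓ N) * H.relIndex N = Nat.card N := by
    have := relIndex_mul_relIndex ⊥ (H ⊓ N) N bot_le inf_le_right
    rwa [relIndex_bot_left, relIndex_bot_left, inf_relIndex_right] at this
  have e2 : Nat.card ↥(H ⊓ N) * N.relIndex H = Nat.card H := by
    have := relIndex_mul_relIndex ⊥ (H ⊓ N) H bot_le inf_le_left
    rwa [relIndex_bot_left, relIndex_bot_left, inf_relIndex_left] at this
  have e3 : Nat.card N * N.relIndex H = Nat.card ↥(H ⊔ N) := by
    have := relIndex_mul_relIndex ⊥ N (H ⊔ N) bot_le le_sup_right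
    rwa [relIndex_bot_left, relIndex_bot_left, relIndex_sup_right] at this
  have e5 : Nat.card H * H.relIndex (H ⊔ N) = Nat.card ↥(H ⊔ N) := by
    have := relIndex_mul_relIndex ⊥ H (H ⊔ N) bot_le le_sup_left
    rwa [relIndex_bot_left, relIndex_bot_left] at this
  have hHpos : 0 < Nat.card H := Nat.card_pos
  have hIpos : 0 < Nat.card ↥(H ⊓ N) := Nat.card_pos
  have key : Nat.card ↥(H ⊓ N) * Nat.card H * H.relIndex (H ⊔ N)
      = Nat.card ↥(H ⊓ N) * Nat.card H * H.relIndex N := by
    calc Nat.card ↥(H ⊓ N) * Nat.card H * H.relIndex (H ⊔ N)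
        = Nat.card ↥(H ⊓ N) * (Nat.card H * H.relIndex (H ⊔ N)) := by ring
      _ = Nat.card ↥(H ⊓ N) * (Nat.card N * N.relIndex H) := by rw [e5, e3]
      _ = Nat.card N * (Nat.card ↥(H ⊓ N) * N.relIndex H) := by ring
      _ = Nat.card N * Nat.card H := by rw [e2]
      _ = (Nat.card ↥(H ⊓ N) * H.relIndex N) * Nat.card H := by rw [e1]
      _ = Nat.card ↥(H ⊓ N) * Nat.card H * H.relIndex N := by ring
  exact Nat.eq_of_mul_eq_mul_left (Nat.mul_pos hIpos hHpos) key

/-- For `N` normal, `|N : H ⊓ N|` divides `|G : H|`. -/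
theorem relIndex_dvd_index_of_normal_right [Finite G] (H N : Subgroup G) [N.Normal] :
    H.relIndex N ∣ H.index := by
  have e0 : H.relIndex (H ⊔ N) ∣ H.index := relIndex_dvd_index_of_le le_sup_left
  rwa [relIndex_sup_eq_of_normal_right] at e0

/-- For `N` normal with `HN = G`, `|G : H| = |N : H ⊓ N|`. -/
theorem index_eq_relIndex_of_sup_eq_top [Finite G] (H N : Subgroup G) [N.Normal]
    (h : H ⊔ N = ⊤) : H.index = H.relIndex N := by
  rw [← relIndex_sup_eq_of_normal_right, h, relIndex_top_right]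

/-- If `y` lies in a normal `p`-subgroup then `y ^ |G : H| ∈ H` for every subgroup `H`. -/
theorem pow_index_mem_of_mem_normal_pGroup [Finite G] {p : ℕ} [hp : Fact p.Prime]
    (N : Subgroup G) [N.Normal] (hN : IsPGroup p N) (H : Subgroup G) {y : G} (hy : y ∈ N) :
    y ^ H.index ∈ H := by
  -- the index of `H ⊓ N` in `N` is a power of `p`
  obtain ⟨c, hc⟩ : ∃ c, H.relIndex N = p ^ c := hN.index (H.subgroupOf N)
  -- the relative index in the cyclic group
  set d := H.relIndex (zpowers y) with hd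
  have hyd : y ^ d ∈ H := by
    have hnorm : (H.subgroupOf (zpowers y)).Normal := inferInstance
    have := Subgroup.pow_index_mem (H.subgroupOf (zpowers y)) (⟨y, mem_zpowers y⟩ : zpowers y)
    rw [Subgroup.mem_subgroupOf] at this
    simpa [hd, Subgroup.relIndex] using this
  have hzp : IsPGroup p (zpowers y) := hN.to_le (Subgroup.zpowers_le.mpr hy)
  obtain ⟨j, hj⟩ : ∃ j, d = p ^ j := hzp.index (H.subgroupOf (zpowers y))
  have hle : d ≤ H.relIndex N := by
    apply relIndex_le_of_le_right (Subgroup.zpowers_le.mpr hy)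
    rw [hc]; exact (pow_pos hp.out.pos c).ne'
  rw [hj, hc] at hle
  have hjc : j ≤ c := (Nat.pow_le_pow_iff_right hp.out.one_lt).mp hle
  have hdvd : d ∣ H.index := by
    rw [hj]
    exact (pow_dvd_pow p hjc).trans (hc ▸ relIndex_dvd_index_of_normal_right H N)
  obtain ⟨t, ht⟩ := hdvd
  rw [ht, pow_mul]
  exact H.pow_mem hyd t

/-- If `x` is in the Fitting subgroup of a finite group, then `x ^ |G : H| ∈ H` for every `H`. -/
theorem pow_index_mem_of_mem_fitting [Finite G] {x : G} (hx : x ∈ Cfsg.fittingSubgroup G)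
    (H : Subgroup G) : x ^ H.index ∈ H := by
  -- the subgroup of `zpowers x` of elements whose `n`-th power lies in `H`
  let T : Subgroup G :=
    { carrier := {y | y ∈ zpowers x ∧ y ^ H.index ∈ H}
      one_mem' := ⟨one_mem _, by simp⟩
      mul_mem' := by
        rintro a b ⟨ha, ha'⟩ ⟨hb, hb'⟩
        refine ⟨mul_mem ha hb, ?_⟩
        obtain ⟨i, rfl⟩ := ha
        obtain ⟨j, rfl⟩ := hb
        have hc : Commute (x ^ i) (x ^ j) := (Commute.refl x).zpow_zpow i j
        rw [hc.mul_pow]
        exact H.mul_mem ha' hb'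
      inv_mem' := by
        rintro a ⟨ha, ha'⟩
        refine ⟨inv_mem ha, ?_⟩
        rw [inv_pow]
        exact H.inv_mem ha' }
  have hxT : x ∈ T := by
    apply mem_of_primePow_mem
    intro z hz p k hp hzo
    have : Fact p.Prime := ⟨hp⟩
    refine ⟨hz, ?_⟩
    have hzF : z ∈ Cfsg.fittingSubgroup G := (Subgroup.zpowers_le.mpr hx) hz
    have hzc : z ∈ sylowCore p G := mem_sylowCore.mpr (mem_sylow_of_mem_fitting hzF hzo)
    exact pow_index_mem_of_mem_normal_pGroup (sylowCore p G) (sylowCore_isPGroup p) H hzc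
  exact hxT.2

/-- If `x ^ |G : P| ∈ P` for every Sylow subgroup `P` (all primes), then `x` lies in the Fitting
subgroup. -/
theorem mem_fitting_of_pow_index_mem_sylow [Finite G] {x : G}
    (h : ∀ (p : ℕ) [Fact p.Prime] (P : Sylow p G), x ^ (P : Subgroup G).index ∈ P) :
    x ∈ Cfsg.fittingSubgroup G := by
  apply mem_of_primePow_mem
  intro z hz p k hp hzo
  have : Fact p.Prime := ⟨hp⟩
  apply sylowCore_le_fitting p
  rw [mem_sylowCore]
  intro P
  -- `z ^ n ∈ P` where `n = |G : P|` is coprime to the order of `z`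
  obtain ⟨i, rfl⟩ := hz
  have h1 : (x ^ i) ^ (P : Subgroup G).index ∈ (P : Subgroup G) := by
    rw [← zpow_natCast, ← zpow_mul, mul_comm, zpow_mul, zpow_natCast]
    exact (P : Subgroup G).zpow_mem (h p P) i
  have hcop : Nat.Coprime (orderOf (x ^ i)) (P : Subgroup G).index := by
    rw [hzo]
    apply Nat.Coprime.pow_left
    exact (Nat.Prime.coprime_iff_not_dvd hp).mpr P.not_dvd_index
  -- so `z` is a power of `z ^ n`
  obtain ⟨m, hm⟩ := exists_pow_eq_self_of_coprime hcop.symm
  change x ^ i ∈ (P : Subgroup G)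
  rw [← hm]
  exact (P : Subgroup G).pow_mem h1 m

end Cfsg.Agent.Lib.Helper71_Fitting
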