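/-
Helper library (helper10): groups generated by two quadratically acting elements on an
elementary abelian `p`-group, homomorphisms to `SL₂` over a finite field, and consequences
(conditional on a Dickson-type containment statement supplied as a hypothesis `DicksonHyp`).
Main results: `subgroup_version`, `core_pair`, `sylow_two_not_comm_of_pair`,
`sylow_two_not_comm_of_not_mem_pCore`, `section_of_pclosed`, `centralizer_pPrimeCore_le`
(dual Hall-Higman 1.2.3), `s0593_of_dickson` ... `s0596_of_dickson`, `section_sl2p_of_not_mem_pCore`, `s0656_of_dickson`.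
-/
import Mathlib
import Cfsg.Prelude.Def_Solvable
import Cfsg.Prelude.Def_Local
import Cfsg.Prelude.Def_Transfer
import Cfsg.Agent.S0592
import Cfsg.Agent.S0199
import Cfsg.Agent.Lib.Helper76_PSolvable

set_option autoImplicit false

namespace Cfsg.Agent.Lib.Helper10_QuadPair

section partL


open Cfsg.Agent.S0592
open scoped commutatorElement

theorem quad_of_mul_sub_one {K : Type*} [Field K] {W : Type*} [AddCommGroup W] [Module K W]
    {A : Module.End K W} (h : (A - 1) * (A - 1) = 0) : Quad A := by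
  intro w
  have h1 : ((A - 1) * (A - 1)) w = (0 : Module.End K W) w := by rw [h]
  simp only [Module.End.mul_apply, LinearMap.sub_apply, Module.End.one_apply,
    LinearMap.zero_apply] at h1
  exact sub_eq_zero.1 h1

section ext

variable {p : ℕ} [Fact p.Prime] (K : Type*) [Field K] [CharP K p]
variable {M : Type*} [AddCommGroup M] [Module (ZMod p) M]

/-- extension of scalars via matrices -/
noncomputable def extHom {n : ℕ} (b : Module.Basis (Fin n) (ZMod p) M) :
    Module.End (ZMod p) M →+* Module.End K (Fin n → K) :=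
  (Matrix.toLinAlgEquiv' (R := K) (n := Fin n)).toRingEquiv.toRingHom.comp
    ((ZMod.castHom (dvd_refl p) K).mapMatrix.comp
      (LinearMap.toMatrixAlgEquiv b).toRingEquiv.toRingHom)

theorem extHom_injective {n : ℕ} (b : Module.Basis (Fin n) (ZMod p) M) :
    Function.Injective (extHom K b) := by
  unfold extHom
  intro A B h
  simp only [RingHom.coe_comp, Function.comp_apply] at h
  have h1 := (Matrix.toLinAlgEquiv' (R := K) (n := Fin n)).injective h
  have h2 : Function.Injective ((ZMod.castHom (dvd_refl p) K).mapMatrix (m := Fin n)) := by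
    intro X Y hXY
    ext i j
    have := congrFun (congrFun hXY i) j
    simp only [RingHom.mapMatrix_apply, Matrix.map_apply] at this
    exact (ZMod.castHom (dvd_refl p) K).injective this
  have h3 := h2 h1
  exact (LinearMap.toMatrixAlgEquiv b).injective h3

end ext


/-- The image of a finite group generated by two elements of order dividing `p`, if not a
`p`-group, has more than one Sylow `p`-subgroup. -/
theorem one_lt_card_sylow_range {p : ℕ} [Fact p.Prime] {Γ : Type*} [Group Γ] [Finite Γ]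
    (x y : Γ) (hgen : Subgroup.closure {x, y} = ⊤) (hx : x ^ p = 1) (hy : y ^ p = 1)
    {X : Type*} [Group X] (φ : Γ →* X) (hnp : ¬ IsPGroup p φ.range) :
    1 < Nat.card (Sylow p φ.range) := by
  by_contra hle
  rw [not_lt] at hle
  have hsurj : Function.Surjective φ.rangeRestrict := φ.rangeRestrict_surjective
  have : Finite φ.range := Finite.of_surjective _ hsurj
  have hss : Subsingleton (Sylow p φ.range) := Finite.card_le_one_iff_subsingleton.1 hle
  obtain ⟨P⟩ : Nonempty (Sylow p φ.range) := inferInstance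
  have hmem : ∀ z : φ.range, z ^ p = 1 → z ∈ (P : Subgroup φ.range) := by
    intro z hz
    have hzp : IsPGroup p (Subgroup.zpowers z) := by
      rintro ⟨w, hw⟩
      obtain ⟨i, rfl⟩ := Subgroup.mem_zpowers_iff.1 hw
      refine ⟨1, ?_⟩
      apply Subtype.ext
      simp only [pow_one, Subgroup.coe_pow, Subgroup.coe_one]
      rw [← zpow_natCast, ← zpow_mul, mul_comm, zpow_mul, zpow_natCast, hz, one_zpow]
    obtain ⟨Q, hQ⟩ := hzp.exists_le_sylow
    rw [Subsingleton.elim P Q]
    exact hQ (Subgroup.mem_zpowers z)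
  have hle2 : Subgroup.closure {x, y} ≤ (P : Subgroup φ.range).comap φ.rangeRestrict := by
    rw [Subgroup.closure_le]
    intro z hz
    rcases hz with hz | hz
    · rw [hz]
      show φ.rangeRestrict x ∈ (P : Subgroup φ.range)
      apply hmem
      rw [← map_pow, hx, map_one]
    · have hz' : z = y := hz
      rw [hz']
      show φ.rangeRestrict y ∈ (P : Subgroup φ.range)
      apply hmem
      rw [← map_pow, hy, map_one]
  rw [hgen] at hle2
  apply hnp
  intro z
  obtain ⟨g, rfl⟩ := hsurj z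
  have hg : φ.rangeRestrict g ∈ (P : Subgroup φ.range) := hle2 (Subgroup.mem_top g)
  obtain ⟨k, hk⟩ := P.2 ⟨_, hg⟩
  refine ⟨k, ?_⟩
  have := congrArg Subtype.val hk
  simpa using this


/-- A faithful representation of a finite group `Γ = ⟨x, y⟩` over `ZMod p` with `x`, `y`
quadratic and `Γ` not a `p`-group gives a homomorphism to `SL₂` of a finite field of
characteristic `p` whose image is not a `p`-group. -/
theorem rep_version {p : ℕ} [Fact p.Prime] {Γ : Type*} [Group Γ] [Finite Γ] (x y : Γ)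
    (hgen : Subgroup.closure {x, y} = ⊤) {M : Type*} [AddCommGroup M] [Module (ZMod p) M]
    [Finite M] (ρ : Γ →* Module.End (ZMod p) M) (hinj : ∀ γ, ρ γ = 1 → γ = 1)
    (hx : Quad (ρ x)) (hy : Quad (ρ y)) (hnp : ¬ IsPGroup p Γ) :
    ∃ (m : ℕ) (_ : m ≠ 0) (φ : Γ →* Matrix.SpecialLinearGroup (Fin 2) (GaloisField p m)),
      ¬ IsPGroup p φ.range ∧ 1 < Nat.card (Sylow p φ.range) := by
  classical
  have hpp : p.Prime := Fact.out
  -- the order of `x * y`
  obtain ⟨e, k, hk, hord⟩ := Nat.exists_eq_pow_mul_and_not_dvd (orderOf_pos (x * y)).ne' p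
    hpp.ne_one
  have hkpos : 0 < k := by
    rcases Nat.eq_zero_or_pos k with h | h
    · rw [h, mul_zero] at hord
      exact absurd hord (orderOf_pos (x * y)).ne'
    · exact h
  obtain ⟨m, hmdef⟩ : ∃ m : ℕ, m = Nat.totient k := ⟨_, rfl⟩
  have hm0 : m ≠ 0 := by rw [hmdef]; exact (Nat.totient_pos.2 hkpos).ne'
  have hcop : Nat.Coprime p k := (Nat.Prime.coprime_iff_not_dvd hpp).2 hk
  have hkd : k ∣ p ^ m - 1 := by
    have h1 : p ^ m ≡ 1 [MOD k] := by rw [hmdef]; exact Nat.ModEq.pow_totient hcop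
    exact (Nat.modEq_iff_dvd' (Nat.one_le_pow _ _ hpp.pos)).1 h1.symm
  refine ⟨m, hm0, ?_⟩
  obtain ⟨K, hKdef⟩ : ∃ K : Type, K = GaloisField p m := ⟨_, rfl⟩
  subst hKdef
  haveI : Fintype (GaloisField p m) := Fintype.ofFinite _
  have hcardK : Fintype.card (GaloisField p m) = p ^ m := by
    rw [← Nat.card_eq_fintype_card]; exact GaloisField.card p m hm0
  -- basis
  obtain ⟨n, hn⟩ : ∃ n : ℕ, Module.finrank (ZMod p) M = n := ⟨_, rfl⟩
  let b : Module.Basis (Fin n) (ZMod p) M := Module.finBasisOfFinrankEq (ZMod p) M hn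
  let Θ := extHom (GaloisField p m) b
  have hΘ : Function.Injective Θ := extHom_injective (GaloisField p m) b
  let ρK : Γ →* Module.End (GaloisField p m) (Fin n → GaloisField p m) :=
    Θ.toMonoidHom.comp ρ
  have hρK : ∀ γ, ρK γ = Θ (ρ γ) := fun γ => rfl
  have hquad : ∀ γ, Quad (ρ γ) → Quad (ρK γ) := by
    intro γ h
    apply quad_of_mul_sub_one
    rw [hρK, ← map_one Θ, ← map_sub, ← map_mul, h.mul_sub_one, map_zero]
  have hone : ∀ γ, ρK γ = 1 → γ = 1 := by
    intro γ h
    apply hinj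
    apply hΘ
    rw [map_one]; exact h
  have hnpK : ¬ PG p ρK := by
    intro hP
    apply hnp
    intro γ
    obtain ⟨j, hj⟩ := hP γ
    exact ⟨j, hone _ hj⟩
  have hM : ∃ e : ℕ, ρK ((x * y) ^ (p ^ e * (Fintype.card (GaloisField p m) - 1))) = 1 := by
    refine ⟨e, ?_⟩
    have : (x * y) ^ (p ^ e * (Fintype.card (GaloisField p m) - 1)) = 1 := by
      apply orderOf_dvd_iff_pow_eq_one.1
      rw [hord, hcardK]
      exact Nat.mul_dvd_mul_left _ hkd
    rw [this, map_one]
  -- nontriviality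
  have hnpos : 0 < n := by
    rcases Nat.eq_zero_or_pos n with h0 | h0
    · exfalso
      apply hnp
      intro γ
      refine ⟨0, ?_⟩
      rw [pow_zero, pow_one]
      apply hinj
      haveI : Subsingleton M := by
        rw [h0] at hn
        exact Module.finrank_zero_iff.1 hn
      ext v
      exact Subsingleton.elim _ _
    · exact h0
  haveI : NeZero n := ⟨hnpos.ne'⟩
  haveI : Nontrivial (Fin n → GaloisField p m) := inferInstance
  obtain ⟨φ, hφ⟩ := main (p := p) x y hgen _ (Fin n → GaloisField p m) ρK rfl (hquad x hx)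
    (hquad y hy) hM hnpK
  have hxp : x ^ p = 1 := by
    apply hinj
    rw [map_pow]
    exact hx.pow_p (p := p)
  have hyp : y ^ p = 1 := by
    apply hinj
    rw [map_pow]
    exact hy.pow_p (p := p)
  exact ⟨φ, hφ, one_lt_card_sylow_range x y hgen hxp hyp φ hφ⟩


section lin

variable {G : Type*} [Group G]

/-- conjugation action of `H ≤ N_G(V)` on `V` -/
def conjAct (V H : Subgroup G) (hHV : H ≤ Subgroup.normalizer (V : Set G)) : H →* MulAut V where
  toFun h :=
    { toFun := fun v => ⟨h * v * (h : G)⁻¹, ((Subgroup.mem_normalizer_iff.1 (hHV h.2)) v).1 v.2⟩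
      invFun := fun v => ⟨(h : G)⁻¹ * v * h, by
        apply ((Subgroup.mem_normalizer_iff.1 (hHV h.2)) ((h : G)⁻¹ * v * h)).2
        have : (h : G) * ((h : G)⁻¹ * v * h) * (h : G)⁻¹ = v := by group
        rw [this]; exact v.2⟩
      left_inv := fun v => Subtype.ext (by
        show (h : G)⁻¹ * ((h : G) * v * (h : G)⁻¹) * h = v
        group)
      right_inv := fun v => Subtype.ext (by
        show (h : G) * ((h : G)⁻¹ * v * h) * (h : G)⁻¹ = v
        group)
      map_mul' := fun v w => Subtype.ext (by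
        show (h : G) * ((v : G) * w) * (h : G)⁻¹ = ((h : G) * v * (h : G)⁻¹) * ((h : G) * w * (h : G)⁻¹)
        group) }
  map_one' := by
    ext v
    show ((1 : H) : G) * v * ((1 : H) : G)⁻¹ = v
    simp
  map_mul' h k := by
    ext v
    show ((h * k : H) : G) * v * ((h * k : H) : G)⁻¹ = (h : G) * ((k : G) * v * (k : G)⁻¹) * (h : G)⁻¹
    rw [Subgroup.coe_mul]
    group

@[simp] theorem conjAct_apply (V H : Subgroup G) (hHV : H ≤ Subgroup.normalizer (V : Set G))
    (h : H) (v : V) : ((conjAct V H hHV h v : V) : G) = h * v * (h : G)⁻¹ := rfl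

end lin


/-- Version for an action by automorphisms on a commutative group of exponent `p`. -/
theorem comm_version {p : ℕ} [Fact p.Prime] {Γ : Type*} [Group Γ] [Finite Γ] (x y : Γ)
    (hgen : Subgroup.closure {x, y} = ⊤) (N : Type*) [CommGroup N] [Finite N]
    [Module (ZMod p) (Additive N)] (c : Γ →* MulAut N)
    (hfaith : ∀ γ, (∀ n, c γ n = n) → γ = 1)
    (hx : ∀ n : N, c x (c x n * n⁻¹) = c x n * n⁻¹)
    (hy : ∀ n : N, c y (c y n * n⁻¹) = c y n * n⁻¹)
    (hnp : ¬ IsPGroup p Γ) :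
    ∃ (m : ℕ) (_ : m ≠ 0) (φ : Γ →* Matrix.SpecialLinearGroup (Fin 2) (GaloisField p m)),
      ¬ IsPGroup p φ.range ∧ 1 < Nat.card (Sylow p φ.range) := by
  let ρ : Γ →* Module.End (ZMod p) (Additive N) :=
    { toFun := fun γ => (MonoidHom.toAdditive ((c γ : N ≃* N).toMonoidHom)).toZModLinearMap p
      map_one' := LinearMap.ext fun v => by
        show Additive.ofMul ((c 1) v.toMul) = v
        rw [map_one]; rfl
      map_mul' := fun γ δ => LinearMap.ext fun v => by
        show Additive.ofMul ((c (γ * δ)) v.toMul) = Additive.ofMul ((c γ) ((c δ) v.toMul))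
        rw [map_mul]; rfl }
  have hρ : ∀ γ (v : Additive N), ρ γ v = Additive.ofMul (c γ v.toMul) := fun γ v => rfl
  haveI : Finite (Additive N) := inferInstanceAs (Finite N)
  have hinj : ∀ γ, ρ γ = 1 → γ = 1 := by
    intro γ h
    apply hfaith
    intro n
    have h1 : ρ γ (Additive.ofMul n) = (1 : Module.End (ZMod p) (Additive N)) (Additive.ofMul n) := by
      rw [h]
    rw [hρ, Module.End.one_apply] at h1
    exact h1
  have hq : ∀ γ, (∀ n : N, c γ (c γ n * n⁻¹) = c γ n * n⁻¹) → Quad (ρ γ) := by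
    intro γ h w
    rw [hρ, hρ]
    have := h w.toMul
    show Additive.ofMul (c γ (Additive.toMul (Additive.ofMul (c γ w.toMul) - w))) =
      Additive.ofMul (c γ w.toMul) - w
    have h2 : Additive.toMul (Additive.ofMul (c γ w.toMul) - w) =
        c γ w.toMul * (w.toMul)⁻¹ := by
      rw [← div_eq_mul_inv]; rfl
    rw [h2, this, ← div_eq_mul_inv]
    rfl
  exact rep_version x y hgen ρ hinj (hq x hx) (hq y hy) hnp


theorem quad_elt {G : Type*} [Group G] (V : Subgroup G) (a : G)
    (ha : ⁅⁅V, Subgroup.zpowers a⁆, Subgroup.zpowers a⁆ = ⊥) (v : G) (hv : v ∈ V) :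
    a * (a * v * a⁻¹ * v⁻¹) * a⁻¹ = a * v * a⁻¹ * v⁻¹ := by
  have haa : a ∈ Subgroup.zpowers a := Subgroup.mem_zpowers a
  have h1 : ⁅a, v⁆ ∈ ⁅V, Subgroup.zpowers a⁆ := by
    rw [Subgroup.commutator_comm]
    exact Subgroup.commutator_mem_commutator haa hv
  have h2 : ⁅⁅a, v⁆, a⁆ ∈ ⁅⁅V, Subgroup.zpowers a⁆, Subgroup.zpowers a⁆ :=
    Subgroup.commutator_mem_commutator h1 haa
  rw [ha, Subgroup.mem_bot, commutatorElement_eq_one_iff_commute] at h2
  have h3 : ⁅a, v⁆ = a * v * a⁻¹ * v⁻¹ := rfl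
  rw [h3] at h2
  have h4 : (a * v * a⁻¹ * v⁻¹) * a = a * (a * v * a⁻¹ * v⁻¹) := h2
  rw [← h4]
  group

/-- Version for subgroups `V`, `H` of a finite group. -/
theorem subgroup_version {G : Type*} [Group G] [Finite G] {p : ℕ} [Fact p.Prime]
    (V H : Subgroup G) (hVc : ∀ u ∈ V, ∀ v ∈ V, u * v = v * u) (hVp : ∀ v ∈ V, v ^ p = 1)
    (hHV : H ≤ Subgroup.normalizer (V : Set G))
    (hf : H ⊓ Subgroup.centralizer (V : Set G) = ⊥) (a b : G)
    (hab : H = Subgroup.closure {a, b})
    (ha : ⁅⁅V, Subgroup.zpowers a⁆, Subgroup.zpowers a⁆ = ⊥)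
    (hb : ⁅⁅V, Subgroup.zpowers b⁆, Subgroup.zpowers b⁆ = ⊥) (hnp : ¬ IsPGroup p H) :
    ∃ (m : ℕ) (_ : m ≠ 0) (φ : H →* Matrix.SpecialLinearGroup (Fin 2) (GaloisField p m)),
      ¬ IsPGroup p φ.range ∧ 1 < Nat.card (Sylow p φ.range) := by
  subst hab
  letI instC : CommGroup V :=
    { (inferInstance : Group V) with mul_comm := fun u v => Subtype.ext (hVc u u.2 v v.2) }
  letI instM : Module (ZMod p) (Additive V) := AddCommGroup.zmodModule (n := p) (by
    intro w
    have h1 : (Additive.toMul w) ^ p = 1 := by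
      apply Subtype.ext
      have := hVp _ (Additive.toMul w).2
      simpa using this
    have h2 : Additive.ofMul ((Additive.toMul w) ^ p) = 0 := by rw [h1]; rfl
    rw [ofMul_pow] at h2
    exact h2)
  have haH : a ∈ Subgroup.closure {a, b} := Subgroup.subset_closure (by simp)
  have hbH : b ∈ Subgroup.closure {a, b} := Subgroup.subset_closure (by simp)
  obtain ⟨x, hxdef⟩ : ∃ x : (Subgroup.closure {a, b} : Subgroup G), x = ⟨a, haH⟩ := ⟨_, rfl⟩
  obtain ⟨y, hydef⟩ : ∃ y : (Subgroup.closure {a, b} : Subgroup G), y = ⟨b, hbH⟩ := ⟨_, rfl⟩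
  have hgen : Subgroup.closure {x, y} = ⊤ := by
    have h1 := Subgroup.closure_closure_coe_preimage (k := ({a, b} : Set G))
    have h2 : ((↑) ⁻¹' ({a, b} : Set G) : Set (Subgroup.closure ({a, b} : Set G))) = {x, y} := by
      ext z
      simp only [Set.mem_preimage, Set.mem_insert_iff, Set.mem_singleton_iff, hxdef, hydef,
        Subtype.ext_iff]
    rw [h2] at h1
    exact h1
  let c := conjAct V (Subgroup.closure {a, b}) hHV
  have hfaith : ∀ γ, (∀ n, c γ n = n) → γ = 1 := by
    intro γ h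
    have h1 : (γ : G) ∈ Subgroup.closure {a, b} ⊓ Subgroup.centralizer (V : Set G) := by
      refine Subgroup.mem_inf.2 ⟨γ.2, ?_⟩
      rw [Subgroup.mem_centralizer_iff]
      intro v hv
      have h2 := congrArg Subtype.val (h ⟨v, hv⟩)
      rw [conjAct_apply] at h2
      have h3 : (γ : G) * v = v * γ := by
        calc (γ : G) * v = ((γ : G) * v * (γ : G)⁻¹) * γ := by group
          _ = v * γ := by rw [h2]
      exact h3.symm
    rw [hf, Subgroup.mem_bot] at h1
    exact Subtype.ext h1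
  have hq : ∀ (g : G) (hg : g ∈ Subgroup.closure {a, b}),
      ⁅⁅V, Subgroup.zpowers g⁆, Subgroup.zpowers g⁆ = ⊥ →
      ∀ n : V, c ⟨g, hg⟩ (c ⟨g, hg⟩ n * n⁻¹) = c ⟨g, hg⟩ n * n⁻¹ := by
    intro g hg hgq n
    apply Subtype.ext
    have := quad_elt V g hgq n n.2
    show g * (g * (n : G) * g⁻¹ * (n : G)⁻¹) * g⁻¹ = g * (n : G) * g⁻¹ * (n : G)⁻¹
    exact this
  have hx := hq a haH ha
  have hy := hq b hbH hb
  rw [← hxdef] at hx
  rw [← hydef] at hy
  exact comm_version x y hgen V c hfaith hx hy hnp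


end partL

section partQ


open Matrix

/-- A homomorphism from the quaternion group of order 8 from the defining relations. -/
theorem exists_quaternion_hom {P : Type*} [Group P] (x y : P) (hx4 : x ^ 4 = 1)
    (hy : y ^ 2 = x ^ 2) (hyx : y * x * y⁻¹ = x⁻¹) :
    ∃ F : QuaternionGroup 2 →* P, x ∈ F.range ∧ y ∈ F.range := by
  classical
  let e : ZMod (2 * 2) → P := fun i => x ^ i.val
  have he_add : ∀ i j, e (i + j) = e i * e j := by
    intro i j
    show x ^ (i + j).val = x ^ i.val * x ^ j.val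
    rw [ZMod.val_add, ← pow_add]
    exact (pow_eq_pow_mod _ hx4).symm
  have he_zero : e 0 = 1 := by
    show x ^ (0 : ZMod (2 * 2)).val = 1
    rw [ZMod.val_zero, pow_zero]
  have he_neg : ∀ i, e (-i) = (e i)⁻¹ := by
    intro i
    rw [eq_inv_iff_mul_eq_one, ← he_add, neg_add_cancel, he_zero]
  have he_sub : ∀ i j, e (i - j) = e i * (e j)⁻¹ := by
    intro i j
    rw [sub_eq_add_neg, he_add, he_neg]
  have he_two : e ((2 : ℕ) : ZMod (2 * 2)) = x ^ 2 := by
    show x ^ (((2 : ℕ) : ZMod (2 * 2))).val = x ^ 2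
    rfl
  have hcomm : ∀ i j, Commute (e i) (e j) := fun i j => (Commute.refl x).pow_pow _ _
  have hcomm2 : ∀ i, Commute (x ^ 2) (e i) := fun i => (Commute.refl x).pow_pow _ _
  have hconj : ∀ i, y * e i * y⁻¹ = (e i)⁻¹ := by
    intro i
    show y * x ^ i.val * y⁻¹ = (x ^ i.val)⁻¹
    rw [← conj_pow, hyx, inv_pow]
  let f : QuaternionGroup 2 → P := fun g =>
    match g with
    | QuaternionGroup.a i => e i
    | QuaternionGroup.xa i => y * e i
  have hf_mul : ∀ g h, f (g * h) = f g * f h := by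
    rintro (i | i) (j | j)
    · show e (i + j) = e i * e j
      exact he_add i j
    · show y * e (j - i) = e i * (y * e j)
      rw [he_sub]
      have h1 : y * (e i)⁻¹ = e i * y := by
        have h0 : y * (e i)⁻¹ * y⁻¹ = e i := by
          have h00 : y * (e i)⁻¹ * y⁻¹ = (y * e i * y⁻¹)⁻¹ := by group
          rw [h00, hconj i, inv_inv]
        calc y * (e i)⁻¹ = (y * (e i)⁻¹ * y⁻¹) * y := by group
          _ = e i * y := by rw [h0]
      calc y * (e j * (e i)⁻¹) = y * ((e i)⁻¹ * e j) := by rw [((hcomm i j).inv_left).eq]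
        _ = (y * (e i)⁻¹) * e j := by group
        _ = e i * (y * e j) := by rw [h1]; group
    · show y * e (i + j) = y * e i * e j
      rw [he_add, mul_assoc]
    · show e (((2 : ℕ) : ZMod (2 * 2)) + j - i) = y * e i * (y * e j)
      rw [he_sub, he_add, he_two]
      have h1 : y * e i * y = (e i)⁻¹ * x ^ 2 := by
        have := hconj i
        calc y * e i * y = (y * e i * y⁻¹) * y ^ 2 := by group
          _ = (e i)⁻¹ * x ^ 2 := by rw [this, hy]
      calc x ^ 2 * e j * (e i)⁻¹ = (e i)⁻¹ * (x ^ 2 * e j) :=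
            ((((hcomm2 i).mul_left (hcomm j i)).inv_right).eq).symm ▸ rfl
        _ = ((e i)⁻¹ * x ^ 2) * e j := by group
        _ = y * e i * (y * e j) := by rw [← h1]; group
  let F : QuaternionGroup 2 →* P := MonoidHom.mk' f hf_mul
  refine ⟨F, ⟨QuaternionGroup.a 1, ?_⟩, ⟨QuaternionGroup.xa 0, ?_⟩⟩
  · show x ^ (1 : ZMod (2 * 2)).val = x
    have : (1 : ZMod (2 * 2)).val = 1 := rfl
    rw [this, pow_one]
  · show y * e 0 = y
    rw [he_zero, mul_one]

section q8

variable {R : Type*} [CommRing R]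

/-- the matrix `[[0,1],[-1,0]]` -/
def mx : SpecialLinearGroup (Fin 2) R := ⟨!![0, 1; -1, 0], by simp [Matrix.det_fin_two]⟩

/-- the matrix `[[a,b],[b,-a]]` with `a^2+b^2 = -1` -/
def my (a b : R) (h : a ^ 2 + b ^ 2 = -1) : SpecialLinearGroup (Fin 2) R :=
  ⟨!![a, b; b, -a], by rw [Matrix.det_fin_two_of]; linear_combination (-1 : R) * h⟩

variable (a b : R) (h : a ^ 2 + b ^ 2 = -1)

theorem mx_sq : (mx : SpecialLinearGroup (Fin 2) R) * mx = -1 := by
  apply Matrix.SpecialLinearGroup.ext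
  intro i j
  rw [Matrix.SpecialLinearGroup.coe_mul, Matrix.SpecialLinearGroup.coe_neg, Matrix.SpecialLinearGroup.coe_one]
  fin_cases i <;> fin_cases j <;> simp [mx, Matrix.mul_apply, Fin.sum_univ_two]

theorem my_sq : my a b h * my a b h = -1 := by
  apply Matrix.SpecialLinearGroup.ext
  intro i j
  rw [Matrix.SpecialLinearGroup.coe_mul, Matrix.SpecialLinearGroup.coe_neg, Matrix.SpecialLinearGroup.coe_one]
  fin_cases i <;> fin_cases j <;> simp [my, Matrix.mul_apply, Fin.sum_univ_two] <;>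
    first | ring1 | linear_combination h

theorem my_mx : my a b h * mx = -(mx * my a b h) := by
  apply Matrix.SpecialLinearGroup.ext
  intro i j
  rw [Matrix.SpecialLinearGroup.coe_neg, Matrix.SpecialLinearGroup.coe_mul, Matrix.SpecialLinearGroup.coe_mul]
  fin_cases i <;> fin_cases j <;> simp [mx, my, Matrix.mul_apply, Fin.sum_univ_two]

end q8

/-- `SL(2, p)` for odd `p` contains a `2`-subgroup with two non-commuting elements. -/
theorem sl2_nonabelian_two_subgroup (p : ℕ) [Fact p.Prime] (hp : p ≠ 2) :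
    ∃ Q : Subgroup (SpecialLinearGroup (Fin 2) (ZMod p)), IsPGroup 2 Q ∧
      ∃ x ∈ Q, ∃ y ∈ Q, x * y ≠ y * x := by
  obtain ⟨a, b, h⟩ := ZMod.sq_add_sq p (-1 : ZMod p)
  have h2 : (2 : ZMod p) ≠ 0 := by
    intro h2
    have h3 : ((2 : ℕ) : ZMod p) = 0 := by exact_mod_cast h2
    rw [ZMod.natCast_eq_zero_iff] at h3
    have := (Nat.prime_dvd_prime_iff_eq (Fact.out : p.Prime) Nat.prime_two).1 h3
    exact hp this
  set x : SpecialLinearGroup (Fin 2) (ZMod p) := mx with hx
  set y : SpecialLinearGroup (Fin 2) (ZMod p) := my a b h with hy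
  have hxx : x * x = -1 := mx_sq
  have hyy : y * y = -1 := my_sq a b h
  have hyx : y * x = -(x * y) := my_mx a b h
  have hx4 : x ^ 4 = 1 := by
    have : x ^ 4 = (x * x) * (x * x) := by rw [← pow_two x, ← pow_add]
    rw [this, hxx, neg_mul_neg, one_mul]
  have hy2 : y ^ 2 = x ^ 2 := by rw [pow_two, pow_two, hxx, hyy]
  have hxinv : x⁻¹ = -x := by
    rw [inv_eq_iff_mul_eq_one, mul_neg, hxx, neg_neg]
  have hyinv : y⁻¹ = -y := by
    rw [inv_eq_iff_mul_eq_one, mul_neg, hyy, neg_neg]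
  have hconj : y * x * y⁻¹ = x⁻¹ := by
    rw [hyx, hyinv, hxinv, neg_mul_neg, mul_assoc, hyy, mul_neg, mul_one]
  obtain ⟨F, hxF, hyF⟩ := exists_quaternion_hom x y hx4 hy2 hconj
  refine ⟨F.range, ?_, x, hxF, y, hyF, ?_⟩
  · have h8 : IsPGroup 2 (QuaternionGroup 2) := by
      apply IsPGroup.of_card (n := 3)
      rw [Nat.card_eq_fintype_card, QuaternionGroup.card]; norm_num
    exact h8.of_surjective F.rangeRestrict F.rangeRestrict_surjective
  · intro hcomm
    rw [hyx] at hcomm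
    have h1 : (1 : SpecialLinearGroup (Fin 2) (ZMod p)) = -1 := by
      calc (1 : SpecialLinearGroup (Fin 2) (ZMod p)) = (x * y) * (x * y)⁻¹ :=
            (mul_inv_cancel _).symm
        _ = (-(x * y)) * (x * y)⁻¹ := congrArg (· * (x * y)⁻¹) hcomm
        _ = -1 := by rw [neg_mul, mul_inv_cancel]
    have h00 := congrArg
      (fun M : SpecialLinearGroup (Fin 2) (ZMod p) => (M : Matrix (Fin 2) (Fin 2) (ZMod p)) 0 0) h1
    simp only [Matrix.SpecialLinearGroup.coe_neg, Matrix.SpecialLinearGroup.coe_one,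
      Matrix.neg_apply, Matrix.one_apply_eq] at h00
    exact h2 (by linear_combination h00)


end partQ

section partR


open scoped Pointwise

/-- If a finite group has a `q`-subgroup with two noncommuting elements, no Sylow `q`-subgroup
is commutative. -/
theorem sylow_not_comm_of_subgroup {Γ : Type*} [Group Γ] [Finite Γ] {q : ℕ} [Fact q.Prime]
    (Q : Subgroup Γ) (hQ : IsPGroup q Q) (x y : Γ) (hx : x ∈ Q) (hy : y ∈ Q)
    (hxy : x * y ≠ y * x) (T : Sylow q Γ) : ¬ IsMulCommutative T := by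
  intro hT
  obtain ⟨S, hQS⟩ := hQ.exists_le_sylow
  obtain ⟨g, hg⟩ := MulAction.exists_smul_eq Γ S T
  have hmem : ∀ z ∈ Q, g * z * g⁻¹ ∈ (T : Subgroup Γ) := by
    intro z hz
    rw [← hg, Sylow.smul_def, Sylow.pointwise_smul_def]
    have := Subgroup.smul_mem_pointwise_smul z (MulAut.conj g) (S : Subgroup Γ) (hQS hz)
    rwa [MulAut.smul_def, MulAut.conj_apply] at this
  have h1 := hT.is_comm.comm (⟨_, hmem x hx⟩ : (T : Subgroup Γ)) ⟨_, hmem y hy⟩
  have h2 := congrArg Subtype.val h1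
  simp only [Subgroup.coe_mul] at h2
  apply hxy
  have h3 : g * (x * y) * g⁻¹ = g * (y * x) * g⁻¹ := by
    calc g * (x * y) * g⁻¹ = (g * x * g⁻¹) * (g * y * g⁻¹) := by group
      _ = (g * y * g⁻¹) * (g * x * g⁻¹) := h2
      _ = g * (y * x) * g⁻¹ := by group
  exact mul_left_cancel (mul_right_cancel h3)

/-- Version through a homomorphism: a `q`-subgroup of the image with two noncommuting elements
forces every Sylow `q`-subgroup of the source to be noncommutative. -/
theorem sylow_not_comm_of_hom {H X : Type*} [Group H] [Group X] [Finite H] {q : ℕ}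
    [Fact q.Prime] (f : H →* X) (Q : Subgroup X) (hQf : Q ≤ f.range) (hQ : IsPGroup q Q)
    (x y : X) (hx : x ∈ Q) (hy : y ∈ Q) (hxy : x * y ≠ y * x) (T : Sylow q H) :
    ¬ IsMulCommutative T := by
  intro hT
  have hsurj : Function.Surjective f.rangeRestrict := f.rangeRestrict_surjective
  have : Finite f.range := Finite.of_surjective _ hsurj
  let T' : Sylow q f.range := T.mapSurjective hsurj
  have hQ' : IsPGroup q (Q.subgroupOf f.range) := hQ.comap_subtype
  refine sylow_not_comm_of_subgroup (Q.subgroupOf f.range) hQ' ⟨x, hQf hx⟩ ⟨y, hQf hy⟩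
    (Subgroup.mem_subgroupOf.2 hx) (Subgroup.mem_subgroupOf.2 hy) ?_ T' ?_
  · intro h
    exact hxy (congrArg Subtype.val h)
  · refine ⟨⟨?_⟩⟩
    rintro ⟨u, hu⟩ ⟨v, hv⟩
    have hu' : u ∈ (T : Subgroup H).map f.rangeRestrict := by
      rw [← Sylow.coe_mapSurjective hsurj T]; exact hu
    have hv' : v ∈ (T : Subgroup H).map f.rangeRestrict := by
      rw [← Sylow.coe_mapSurjective hsurj T]; exact hv
    obtain ⟨s, hs, rfl⟩ := hu'
    obtain ⟨t, ht, rfl⟩ := hv'
    apply Subtype.ext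
    have h1 := hT.is_comm.comm (⟨s, hs⟩ : (T : Subgroup H)) ⟨t, ht⟩
    have h2 : s * t = t * s := congrArg Subtype.val h1
    show f.rangeRestrict s * f.rangeRestrict t = f.rangeRestrict t * f.rangeRestrict s
    rw [← map_mul, ← map_mul, h2]


end partR

section partM


open Matrix
open scoped commutatorElement

section trace

variable {p : ℕ} [Fact p.Prime]

/-- A `p`-element of `SL(2, F)` in characteristic `p` has trace `2`. -/
theorem trace_eq_two_of_pow {F : Type*} [Field F] [CharP F p]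
    (M : SpecialLinearGroup (Fin 2) F) (k : ℕ) (h : M ^ (p ^ k) = 1) :
    (M : Matrix (Fin 2) (Fin 2) F).trace = 2 := by
  set A : Matrix (Fin 2) (Fin 2) F := (M : Matrix (Fin 2) (Fin 2) F) with hA
  have h1 : A ^ (p ^ k) = 1 := by
    have := congrArg (fun N : SpecialLinearGroup (Fin 2) F => (N : Matrix (Fin 2) (Fin 2) F)) h
    simpa using this
  have : CharP (Matrix (Fin 2) (Fin 2) F) p := Matrix.charP p
  have h2 : (A - 1) ^ (p ^ k) = 0 := by
    rw [sub_pow_char_pow_of_commute p k (Commute.one_right A), h1, one_pow, sub_self]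
  have h3 : IsNilpotent (A - 1) := ⟨_, h2⟩
  have h4 : IsNilpotent (A - 1).trace := Matrix.isNilpotent_trace_of_isNilpotent h3
  have h5 : (A - 1).trace = 0 := h4.eq_zero
  rw [Matrix.trace_sub, Matrix.trace_one, sub_eq_zero] at h5
  rw [h5]
  simp

end trace

section mats

variable {R : Type*} [CommRing R]

/-- upper unitriangular -/
def uu (t : R) : SpecialLinearGroup (Fin 2) R := ⟨!![1, t; 0, 1], by simp [Matrix.det_fin_two]⟩

/-- lower unitriangular -/
def ll (t : R) : SpecialLinearGroup (Fin 2) R := ⟨!![1, 0; t, 1], by simp [Matrix.det_fin_two]⟩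

/-- diagonal -/
def dd (s t : R) (h : s * t = 1) : SpecialLinearGroup (Fin 2) R :=
  ⟨!![s, 0; 0, t], by simp [Matrix.det_fin_two, h]⟩

theorem uu_mul (s t : R) : uu s * uu t = uu (s + t) := by
  apply Matrix.SpecialLinearGroup.ext
  intro i j
  rw [Matrix.SpecialLinearGroup.coe_mul]
  fin_cases i <;> fin_cases j <;> simp [uu, Matrix.mul_apply, Fin.sum_univ_two, add_comm]

theorem ll_mul (s t : R) : ll s * ll t = ll (s + t) := by
  apply Matrix.SpecialLinearGroup.ext
  intro i j
  rw [Matrix.SpecialLinearGroup.coe_mul]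
  fin_cases i <;> fin_cases j <;> simp [ll, Matrix.mul_apply, Fin.sum_univ_two, add_comm]

theorem uu_zero : uu (0 : R) = 1 := by
  apply Matrix.SpecialLinearGroup.ext
  intro i j
  rw [Matrix.SpecialLinearGroup.coe_one]
  fin_cases i <;> fin_cases j <;> simp [uu]

theorem ll_zero : ll (0 : R) = 1 := by
  apply Matrix.SpecialLinearGroup.ext
  intro i j
  rw [Matrix.SpecialLinearGroup.coe_one]
  fin_cases i <;> fin_cases j <;> simp [ll]

theorem uu_pow (t : R) (n : ℕ) : uu t ^ n = uu (n * t) := by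
  induction n with
  | zero => simp [uu_zero]
  | succ n ih => rw [pow_succ, ih, uu_mul]; congr 1; push_cast; ring

theorem ll_pow (t : R) (n : ℕ) : ll t ^ n = ll (n * t) := by
  induction n with
  | zero => simp [ll_zero]
  | succ n ih => rw [pow_succ, ih, ll_mul]; congr 1; push_cast; ring

theorem dd_uu (s t : R) (h : s * t = 1) (r : R) : dd s t h * uu r = uu (s * s * r) * dd s t h := by
  apply Matrix.SpecialLinearGroup.ext
  intro i j
  rw [Matrix.SpecialLinearGroup.coe_mul, Matrix.SpecialLinearGroup.coe_mul]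
  fin_cases i <;> fin_cases j <;> simp [uu, dd, Matrix.mul_apply, Fin.sum_univ_two]
  linear_combination (-(s * r)) * h

theorem dd_ll (s t : R) (h : s * t = 1) (r : R) : dd s t h * ll r = ll (t * t * r) * dd s t h := by
  apply Matrix.SpecialLinearGroup.ext
  intro i j
  rw [Matrix.SpecialLinearGroup.coe_mul, Matrix.SpecialLinearGroup.coe_mul]
  fin_cases i <;> fin_cases j <;> simp [ll, dd, Matrix.mul_apply, Fin.sum_univ_two]
  linear_combination (-(t * r)) * h

theorem comm_dd_uu (s t : R) (h : s * t = 1) (r : R) :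
    ⁅dd s t h, uu r⁆ = uu ((s * s - 1) * r) := by
  rw [commutatorElement_def, dd_uu, mul_assoc (uu _), mul_inv_cancel, mul_one]
  have : uu ((s * s - 1) * r) * uu r = uu (s * s * r) := by rw [uu_mul]; congr 1; ring
  rw [← this, mul_assoc, mul_inv_cancel, mul_one]

theorem comm_dd_ll (s t : R) (h : s * t = 1) (r : R) :
    ⁅dd s t h, ll r⁆ = ll ((t * t - 1) * r) := by
  rw [commutatorElement_def, dd_ll, mul_assoc (ll _), mul_inv_cancel, mul_one]
  have : ll ((t * t - 1) * r) * ll r = ll (t * t * r) := by rw [ll_mul]; congr 1; ring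
  rw [← this, mul_assoc, mul_inv_cancel, mul_one]

theorem trace_uu_ll (s t : R) :
    ((uu s * ll t : SpecialLinearGroup (Fin 2) R) : Matrix (Fin 2) (Fin 2) R).trace = 2 + s * t := by
  rw [Matrix.SpecialLinearGroup.coe_mul, Matrix.trace_fin_two]
  simp [uu, ll, Matrix.mul_apply, Fin.sum_univ_two]
  ring

end mats

/-- If a group `Γ` maps onto a group containing a copy of `SL(2, p)` (`p` odd) and products of
`m`-th powers of two commutators of `Γ` are `p`-elements (`m` prime to `p`), then `p = 3`. -/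
theorem p_eq_three_of_comm {Γ : Type*} [Group Γ] (p : ℕ) [Fact p.Prime] (hp2 : p ≠ 2)
    {X : Type*} [Group X] (φ : Γ →* X) (K₀ : Subgroup X) (hK : K₀ ≤ φ.range)
    (e : K₀ ≃* SpecialLinearGroup (Fin 2) (ZMod p)) (m : ℕ) (hm : m.Coprime p)
    (hc : ∀ g h g' h' : Γ, ∃ k, ((⁅g, h⁆) ^ m * (⁅g', h'⁆) ^ m) ^ (p ^ k) = 1) : p = 3 := by
  have hpp : p.Prime := Fact.out
  have h2 : (2 : ZMod p) ≠ 0 := by
    intro h2
    have h3 : ((2 : ℕ) : ZMod p) = 0 := by exact_mod_cast h2
    rw [ZMod.natCast_eq_zero_iff] at h3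
    exact hp2 ((Nat.prime_dvd_prime_iff_eq hpp Nat.prime_two).1 h3)
  have hst : (2 : ZMod p) * 2⁻¹ = 1 := mul_inv_cancel₀ h2
  have hts : (2 : ZMod p)⁻¹ * 2 = 1 := inv_mul_cancel₀ h2
  set D : SpecialLinearGroup (Fin 2) (ZMod p) := dd 2 2⁻¹ hst with hD
  set D' : SpecialLinearGroup (Fin 2) (ZMod p) := dd 2⁻¹ 2 hts with hD'
  set U : SpecialLinearGroup (Fin 2) (ZMod p) := uu 1 with hU
  set L : SpecialLinearGroup (Fin 2) (ZMod p) := ll 1 with hL
  obtain ⟨gD, hgD⟩ := hK (e.symm D).2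
  obtain ⟨gD', hgD'⟩ := hK (e.symm D').2
  obtain ⟨gU, hgU⟩ := hK (e.symm U).2
  obtain ⟨gL, hgL⟩ := hK (e.symm L).2
  obtain ⟨k, hk⟩ := hc gD gU gD' gL
  have h1 := congrArg φ hk
  rw [map_pow, map_mul, map_pow, map_pow, map_commutatorElement, map_commutatorElement, map_one,
    hgD, hgD', hgU, hgL] at h1
  have h3 : ((⁅e.symm D, e.symm U⁆) ^ m * (⁅e.symm D', e.symm L⁆) ^ m) ^ (p ^ k) = (1 : K₀) := by
    apply Subtype.ext
    simpa [commutatorElement_def] using h1
  have h4 := congrArg e h3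
  rw [map_pow, map_mul, map_pow, map_pow, map_commutatorElement, map_commutatorElement, map_one,
    MulEquiv.apply_symm_apply, MulEquiv.apply_symm_apply, MulEquiv.apply_symm_apply,
    MulEquiv.apply_symm_apply, hD, hD', hU, hL, comm_dd_uu, comm_dd_ll, uu_pow, ll_pow] at h4
  have h5 := trace_eq_two_of_pow (p := p) _ k h4
  rw [trace_uu_ll] at h5
  have h6 : (9 : ZMod p) * ((m : ZMod p) * (m : ZMod p)) = 0 := by linear_combination h5
  have hm0 : (m : ZMod p) ≠ 0 := by
    intro h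
    rw [ZMod.natCast_eq_zero_iff] at h
    have := Nat.Coprime.eq_one_of_dvd hm.symm h
    exact hpp.one_lt.ne' this
  have h7 : ((9 : ℕ) : ZMod p) = 0 := by
    rcases mul_eq_zero.1 h6 with h | h
    · exact_mod_cast h
    · exact absurd (mul_self_eq_zero.1 h) hm0
  rw [ZMod.natCast_eq_zero_iff] at h7
  have h8 : p ∣ 3 := by
    have : (9 : ℕ) = 3 ^ 2 := by norm_num
    rw [this] at h7
    exact hpp.dvd_of_dvd_pow h7
  exact (Nat.prime_dvd_prime_iff_eq hpp Nat.prime_three).1 h8


end partM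

section partS


open scoped commutatorElement

/-- In a group generated by `x, y` with `x⁻¹ y` in a normal subgroup `N`, all commutators lie in
`N`. -/
theorem commutator_mem_of_two_gen {Γ : Type*} [Group Γ] (x y : Γ)
    (hgen : Subgroup.closure {x, y} = ⊤) (N : Subgroup Γ) [N.Normal] (hxy : x⁻¹ * y ∈ N)
    (g h : Γ) : ⁅g, h⁆ ∈ N := by
  set π := QuotientGroup.mk' N with hπdef
  have hπ : π y = π x := by
    rw [hπdef, QuotientGroup.mk'_apply, QuotientGroup.mk'_apply]
    exact (QuotientGroup.eq.2 hxy).symm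
  have key : ∀ g : Γ, π g ∈ Subgroup.zpowers (π x) := by
    intro g
    have hg : g ∈ Subgroup.closure {x, y} := by rw [hgen]; trivial
    refine Subgroup.closure_induction (p := fun g _ => π g ∈ Subgroup.zpowers (π x))
      ?_ ?_ ?_ ?_ hg
    · intro z hz
      rcases hz with hz | hz
      · rw [hz]; exact Subgroup.mem_zpowers _
      · have hz' : z = y := hz
        rw [hz', hπ]; exact Subgroup.mem_zpowers _
    · rw [map_one]; exact one_mem _
    · intro a b _ _ ha hb; rw [map_mul]; exact mul_mem ha hb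
    · intro a _ ha; rw [map_inv]; exact inv_mem ha
  obtain ⟨i, hi⟩ := Subgroup.mem_zpowers_iff.1 (key g)
  obtain ⟨j, hj⟩ := Subgroup.mem_zpowers_iff.1 (key h)
  have hcomm : Commute (π g) (π h) := by
    rw [← hi, ← hj]
    exact (Commute.refl (π x)).zpow_zpow i j
  have h1 : π ⁅g, h⁆ = 1 := by
    rw [map_commutatorElement, commutatorElement_eq_one_iff_commute]
    exact hcomm
  rw [hπdef, QuotientGroup.mk'_apply, QuotientGroup.eq_one_iff] at h1
  exact h1

/-- A subgroup of the image of a homomorphism defined on a subgroup `H₁ ≤ G` is a section of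
`G` inside `H₁`. -/
theorem exists_section_of_hom {G : Type*} [Group G] (H₁ : Subgroup G) {X : Type*} [Group X]
    (f : H₁ →* X) (K₀ : Subgroup X) (hK : K₀ ≤ f.range) :
    ∃ (K L : Subgroup G) (_hL : (L.subgroupOf K).Normal), K ≤ H₁ ∧
      Nonempty ((K ⧸ L.subgroupOf K) ≃* K₀) := by
  set K : Subgroup G := (K₀.comap f).map H₁.subtype with hKdef
  set L : Subgroup G := f.ker.map H₁.subtype with hLdef
  have hKH : K ≤ H₁ := Subgroup.map_subtype_le _
  let ψ₀ : K →* X := f.comp (Subgroup.inclusion hKH)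
  have hψ : ∀ k, ψ₀ k ∈ K₀ := by
    rintro ⟨k, hk⟩
    obtain ⟨k', hk', hkk⟩ := hk
    have : Subgroup.inclusion hKH ⟨k, ⟨k', hk', hkk⟩⟩ = k' := by
      apply Subtype.ext
      simp only [Subgroup.coe_inclusion]
      exact hkk.symm
    show f (Subgroup.inclusion hKH ⟨k, ⟨k', hk', hkk⟩⟩) ∈ K₀
    rw [this]
    exact hk'
  let ψ : K →* K₀ := ψ₀.codRestrict K₀ hψ
  have hsurj : Function.Surjective ψ := by
    rintro ⟨y, hy⟩
    obtain ⟨h, rfl⟩ := hK hy
    have hh : (h : G) ∈ K := ⟨h, hy, rfl⟩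
    refine ⟨⟨h, hh⟩, ?_⟩
    apply Subtype.ext
    show f (Subgroup.inclusion hKH ⟨h, hh⟩) = f h
    congr 1
  have hker : ψ.ker = L.subgroupOf K := by
    ext k
    rw [MonoidHom.mem_ker, Subgroup.mem_subgroupOf]
    constructor
    · intro h
      have h1 : f (Subgroup.inclusion hKH k) = 1 := congrArg Subtype.val h
      exact ⟨Subgroup.inclusion hKH k, h1, rfl⟩
    · rintro ⟨h, hh, hhk⟩
      apply Subtype.ext
      show f (Subgroup.inclusion hKH k) = 1
      have : Subgroup.inclusion hKH k = h := by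
        apply Subtype.ext
        simp only [Subgroup.coe_inclusion]
        exact hhk.symm
      rw [this]
      exact hh
  have hL : (L.subgroupOf K).Normal := by rw [← hker]; exact ψ.normal_ker
  refine ⟨K, L, hL, hKH, ⟨?_⟩⟩
  exact (QuotientGroup.quotientMulEquivOfEq hker.symm).trans
    (QuotientGroup.quotientKerEquivOfSurjective ψ hsurj)


end partS

section partC


open scoped commutatorElement

/-- Dickson-type containment hypothesis. -/
def DicksonHyp (p : ℕ) [Fact p.Prime] : Prop :=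
  ∀ (F : Type) [Field F] [Fintype F] [CharP F p]
    (X : Subgroup (Matrix.SpecialLinearGroup (Fin 2) F)),
    1 < Nat.card (Sylow p X) →
      ∃ K : Subgroup (Matrix.SpecialLinearGroup (Fin 2) F), K ≤ X ∧
        Nonempty (K ≃* Matrix.SpecialLinearGroup (Fin 2) (ZMod p))

theorem pow_p_eq_one_of_quad {G : Type*} [Group G] {p : ℕ} (V H : Subgroup G)
    (hVp : ∀ v ∈ V, v ^ p = 1) (hHV : H ≤ Subgroup.normalizer (V : Set G))
    (hf : H ⊓ Subgroup.centralizer (V : Set G) = ⊥) (a : G) (haH : a ∈ H)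
    (ha : ⁅⁅V, Subgroup.zpowers a⁆, Subgroup.zpowers a⁆ = ⊥) : a ^ p = 1 := by
  have hnorm : ∀ v ∈ V, a * v * a⁻¹ ∈ V := fun v hv =>
    ((Subgroup.mem_normalizer_iff.1 (hHV haH)) v).1 hv
  have key : ∀ k : ℕ, ∀ v ∈ V, a ^ k * v * (a ^ k)⁻¹ = (a * v * a⁻¹ * v⁻¹) ^ k * v := by
    intro k
    induction k with
    | zero => intro v hv; simp
    | succ k ih =>
      intro v hv
      have hc := quad_elt V a ha v hv
      obtain ⟨c, hcdef⟩ : ∃ c, c = a * v * a⁻¹ * v⁻¹ := ⟨_, rfl⟩
      rw [← hcdef] at hc ⊢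
      have h1 : a ^ (k + 1) * v * (a ^ (k + 1))⁻¹ = a * (a ^ k * v * (a ^ k)⁻¹) * a⁻¹ := by
        rw [pow_succ']; group
      rw [h1, ih v hv, ← hcdef]
      have h2 : a * (c ^ k * v) * a⁻¹ = (a * c * a⁻¹) ^ k * (a * v * a⁻¹) := by
        rw [conj_pow]; group
      rw [h2, hc, pow_succ]
      have : a * v * a⁻¹ = c * v := by rw [hcdef]; group
      rw [this, mul_assoc]
  have hcent : a ^ p ∈ H ⊓ Subgroup.centralizer (V : Set G) := by
    refine Subgroup.mem_inf.2 ⟨pow_mem haH p, ?_⟩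
    rw [Subgroup.mem_centralizer_iff]
    intro v hv
    have h1 := key p v hv
    have hcV : a * v * a⁻¹ * v⁻¹ ∈ V := V.mul_mem (hnorm v hv) (V.inv_mem hv)
    rw [hVp _ hcV, one_mul] at h1
    calc v * a ^ p = (a ^ p * v * (a ^ p)⁻¹) * a ^ p := by rw [h1]
      _ = a ^ p * v := by group
  rw [hf] at hcent
  exact Subgroup.mem_bot.1 hcent

theorem quad_conj {G : Type*} [Group G] (V : Subgroup G) (a g : G)
    (hg : g ∈ Subgroup.normalizer (V : Set G))
    (ha : ⁅⁅V, Subgroup.zpowers a⁆, Subgroup.zpowers a⁆ = ⊥) :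
    ⁅⁅V, Subgroup.zpowers (g * a * g⁻¹)⁆, Subgroup.zpowers (g * a * g⁻¹)⁆ = ⊥ := by
  set c : G →* G := (MulAut.conj g).toMonoidHom with hc
  have hcapp : ∀ x, c x = g * x * g⁻¹ := fun x => rfl
  have hV : V.map c = V := by
    ext x
    constructor
    · rintro ⟨v, hv, rfl⟩
      rw [hcapp]
      exact ((Subgroup.mem_normalizer_iff.1 hg) v).1 hv
    · intro hx
      refine ⟨g⁻¹ * x * g, ?_, ?_⟩
      · apply ((Subgroup.mem_normalizer_iff.1 hg) (g⁻¹ * x * g)).2
        have : g * (g⁻¹ * x * g) * g⁻¹ = x := by group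
        rw [this]; exact hx
      · rw [hcapp]; group
  have hZ : (Subgroup.zpowers a).map c = Subgroup.zpowers (g * a * g⁻¹) := by
    rw [MonoidHom.map_zpowers, hcapp]
  have h1 : (⁅⁅V, Subgroup.zpowers a⁆, Subgroup.zpowers a⁆).map c =
      ⁅⁅V.map c, (Subgroup.zpowers a).map c⁆, (Subgroup.zpowers a).map c⁆ := by
    rw [Subgroup.map_commutator, Subgroup.map_commutator]
  rw [ha, Subgroup.map_bot, hV, hZ] at h1
  exact h1.symm

/-- Two quadratic generators of a faithful non-`p`-group: homomorphism to `SL₂` over a finite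
field of characteristic `p` whose image contains a copy of `SL(2, p)`. -/
theorem core_pair {G : Type*} [Group G] [Finite G] {p : ℕ} [Fact p.Prime] (hD : DicksonHyp p)
    (V H : Subgroup G) (hVc : ∀ u ∈ V, ∀ v ∈ V, u * v = v * u) (hVp : ∀ v ∈ V, v ^ p = 1)
    (hHV : H ≤ Subgroup.normalizer (V : Set G))
    (hf : H ⊓ Subgroup.centralizer (V : Set G) = ⊥) (a b : G)
    (hab : H = Subgroup.closure {a, b})
    (ha : ⁅⁅V, Subgroup.zpowers a⁆, Subgroup.zpowers a⁆ = ⊥)
    (hb : ⁅⁅V, Subgroup.zpowers b⁆, Subgroup.zpowers b⁆ = ⊥) (hnp : ¬ IsPGroup p H) :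
    ∃ (m : ℕ) (φ : H →* Matrix.SpecialLinearGroup (Fin 2) (GaloisField p m))
      (K₀ : Subgroup (Matrix.SpecialLinearGroup (Fin 2) (GaloisField p m))),
      K₀ ≤ φ.range ∧ Nonempty (K₀ ≃* Matrix.SpecialLinearGroup (Fin 2) (ZMod p)) := by
  obtain ⟨m, hm, φ, _, hφ⟩ := subgroup_version V H hVc hVp hHV hf a b hab ha hb hnp
  have : Fintype (GaloisField p m) := Fintype.ofFinite _
  obtain ⟨K₀, hK, he⟩ := hD (GaloisField p m) φ.range hφ
  exact ⟨m, φ, K₀, hK, he⟩

/-- Core of S0593. -/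
theorem sylow_two_not_comm_of_pair {G : Type*} [Group G] [Finite G] {p : ℕ} [Fact p.Prime]
    (hD : DicksonHyp p) (hp : p ≠ 2)
    (V H : Subgroup G) (hVc : ∀ u ∈ V, ∀ v ∈ V, u * v = v * u) (hVp : ∀ v ∈ V, v ^ p = 1)
    (hHV : H ≤ Subgroup.normalizer (V : Set G))
    (hf : H ⊓ Subgroup.centralizer (V : Set G) = ⊥) (a b : G)
    (hab : H = Subgroup.closure {a, b})
    (ha : ⁅⁅V, Subgroup.zpowers a⁆, Subgroup.zpowers a⁆ = ⊥)
    (hb : ⁅⁅V, Subgroup.zpowers b⁆, Subgroup.zpowers b⁆ = ⊥) (hnp : ¬ IsPGroup p H)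
    (T : Sylow 2 H) : ¬ IsMulCommutative T := by
  obtain ⟨m, φ, K₀, hK, ⟨e⟩⟩ := core_pair hD V H hVc hVp hHV hf a b hab ha hb hnp
  obtain ⟨Q, hQ, x, hx, y, hy, hxy⟩ := sl2_nonabelian_two_subgroup p hp
  let Q' : Subgroup (Matrix.SpecialLinearGroup (Fin 2) (GaloisField p m)) :=
    (Q.comap e.toMonoidHom).map K₀.subtype
  have hQ' : IsPGroup 2 Q' := (hQ.comap_of_injective e.toMonoidHom e.injective).map _
  have hQ'le : Q' ≤ φ.range := (Subgroup.map_subtype_le _).trans hK
  refine sylow_not_comm_of_hom φ Q' hQ'le hQ' (e.symm x : _) (e.symm y : _) ?_ ?_ ?_ T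
  · refine ⟨e.symm x, ?_, rfl⟩
    show e.toMonoidHom (e.symm x) ∈ Q
    simpa using hx
  · refine ⟨e.symm y, ?_, rfl⟩
    show e.toMonoidHom (e.symm y) ∈ Q
    simpa using hy
  · intro h
    have h' : e.symm x * e.symm y = e.symm y * e.symm x := Subtype.ext (by simpa using h)
    have h2 := congrArg e h'
    simp only [map_mul, MulEquiv.apply_symm_apply] at h2
    exact hxy h2

/-- Noncommutativity of Sylow subgroups passes up along an injective homomorphism. -/
theorem sylow_not_comm_of_injective {Γ₁ Γ : Type*} [Group Γ₁] [Group Γ] [Finite Γ] {q : ℕ}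
    [Fact q.Prime] (ι : Γ₁ →* Γ) (hι : Function.Injective ι) (T₁ : Sylow q Γ₁)
    (hT₁ : ¬ IsMulCommutative T₁) (T : Sylow q Γ) : ¬ IsMulCommutative T := by
  have hex : ∃ s t : (T₁ : Subgroup Γ₁), s * t ≠ t * s := by
    by_contra hcon
    simp only [not_exists, not_not] at hcon
    exact hT₁ ⟨⟨hcon⟩⟩
  obtain ⟨s, t, hst⟩ := hex
  have hQ : IsPGroup q ((T₁ : Subgroup Γ₁).map ι) := T₁.2.map ι
  refine sylow_not_comm_of_subgroup _ hQ (ι s) (ι t) ⟨s, s.2, rfl⟩ ⟨t, t.2, rfl⟩ ?_ T
  intro h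
  apply hst
  apply Subtype.ext
  apply hι
  simpa using h

theorem closure_pair_top {G : Type*} [Group G] (a b : G)
    (haH : a ∈ Subgroup.closure {a, b}) (hbH : b ∈ Subgroup.closure {a, b}) :
    Subgroup.closure {(⟨a, haH⟩ : (Subgroup.closure {a, b} : Subgroup G)), ⟨b, hbH⟩} = ⊤ := by
  have h1 := Subgroup.closure_closure_coe_preimage (k := ({a, b} : Set G))
  have h2 : ((↑) ⁻¹' ({a, b} : Set G) : Set (Subgroup.closure ({a, b} : Set G))) =
      {⟨a, haH⟩, ⟨b, hbH⟩} := by
    ext z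
    simp only [Set.mem_preimage, Set.mem_insert_iff, Set.mem_singleton_iff, Subtype.ext_iff]
  rw [h2] at h1
  exact h1

/-- Baer–Suzuki consequence: an element of order `p` of `H` outside `O_p(H)` generates a
non-`p`-group together with some `H`-conjugate. -/
theorem exists_conj_not_pgroup {G : Type*} [Group G] [Finite G] {p : ℕ} [Fact p.Prime]
    (H : Subgroup G) (a : G) (haH : a ∈ H) (hap : a ^ p = 1)
    (hna : a ∉ (Cfsg.pCore p H).map H.subtype) :
    ∃ g ∈ H, ¬ IsPGroup p (Subgroup.closure {a, g * a * g⁻¹} : Subgroup G) := by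
  by_contra hcon
  simp only [not_exists, not_and, not_not] at hcon
  apply hna
  set a₀ : H := ⟨a, haH⟩ with ha₀
  have hX : IsPGroup p (Subgroup.zpowers a₀) := by
    rintro ⟨w, hw⟩
    obtain ⟨i, rfl⟩ := Subgroup.mem_zpowers_iff.1 hw
    refine ⟨1, ?_⟩
    apply Subtype.ext
    apply Subtype.ext
    simp only [pow_one, Subgroup.coe_pow, Subgroup.coe_one, Subgroup.coe_zpow, ha₀]
    rw [← zpow_natCast, ← zpow_mul, mul_comm, zpow_mul, zpow_natCast, hap, one_zpow]
  have h : ∀ g : H, IsPGroup p ↥(Subgroup.zpowers a₀ ⊔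
      (Subgroup.zpowers a₀).map (MulAut.conj g).toMonoidHom) := by
    intro g
    have h1 := (hcon g g.2).comap_of_injective H.subtype H.subtype_injective
    refine h1.to_le (sup_le ?_ ?_)
    · rw [Subgroup.zpowers_le]
      show (a₀ : G) ∈ Subgroup.closure {a, (g : G) * a * (g : G)⁻¹}
      exact Subgroup.subset_closure (by simp [ha₀])
    · rw [MonoidHom.map_zpowers, Subgroup.zpowers_le]
      show ((g * a₀ * g⁻¹ : H) : G) ∈ Subgroup.closure {a, (g : G) * a * (g : G)⁻¹}
      exact Subgroup.subset_closure (by simp [ha₀])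
  obtain ⟨N, hN, hNp, hXN⟩ := Cfsg.Agent.S0199.result (Subgroup.zpowers a₀) hX h
  have hNle : N ≤ Cfsg.pCore p H := le_sSup ⟨hN, hNp⟩
  exact ⟨a₀, hNle (hXN (Subgroup.mem_zpowers a₀)), rfl⟩

/-- Core of S0595. -/
theorem sylow_two_not_comm_of_not_mem_pCore {G : Type*} [Group G] [Finite G] {p : ℕ}
    [Fact p.Prime] (hD : DicksonHyp p) (hp : p ≠ 2)
    (V H : Subgroup G) (hVc : ∀ u ∈ V, ∀ v ∈ V, u * v = v * u) (hVp : ∀ v ∈ V, v ^ p = 1)
    (hHV : H ≤ Subgroup.normalizer (V : Set G))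
    (hf : H ⊓ Subgroup.centralizer (V : Set G) = ⊥) (a : G) (haH : a ∈ H)
    (hq : ⁅⁅V, Subgroup.zpowers a⁆, Subgroup.zpowers a⁆ = ⊥)
    (hna : a ∉ (Cfsg.pCore p H).map H.subtype) (T : Sylow 2 H) : ¬ IsMulCommutative T := by
  have hap : a ^ p = 1 := pow_p_eq_one_of_quad V H hVp hHV hf a haH hq
  obtain ⟨g, hgH, hnp⟩ := exists_conj_not_pgroup H a haH hap hna
  have hbH : g * a * g⁻¹ ∈ H := H.mul_mem (H.mul_mem hgH haH) (H.inv_mem hgH)
  have hH₁H : Subgroup.closure {a, g * a * g⁻¹} ≤ H := by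
    rw [Subgroup.closure_le]
    intro z hz
    rcases hz with hz | hz
    · rw [hz]; exact haH
    · have hz' : z = g * a * g⁻¹ := hz
      rw [hz']; exact hbH
  have hf₁ : Subgroup.closure {a, g * a * g⁻¹} ⊓ Subgroup.centralizer (V : Set G) = ⊥ := by
    rw [eq_bot_iff, ← hf]
    exact inf_le_inf_right _ hH₁H
  obtain ⟨T₁⟩ : Nonempty (Sylow 2 (Subgroup.closure {a, g * a * g⁻¹} : Subgroup G)) :=
    inferInstance
  have h1 := sylow_two_not_comm_of_pair hD hp V (Subgroup.closure {a, g * a * g⁻¹}) hVc hVp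
    (hH₁H.trans hHV) hf₁ a (g * a * g⁻¹) rfl hq (quad_conj V a g (hHV hgH) hq) hnp T₁
  exact sylow_not_comm_of_injective (Subgroup.inclusion hH₁H) (Subgroup.inclusion_injective _)
    T₁ h1 T

/-- Core of S0594 and S0596: a quadratic element `a` and an element `w` of a normal subgroup
`N` of `H` whose `m`-th powers (`m` prime to `p`) lie in a `p`-subgroup `P`, such that
`a⁻¹ (w a w⁻¹)` is not a `p`-element, force `p = 3` and a section `SL(2, 3)`. -/
theorem section_of_pclosed {G : Type*} [Group G] [Finite G] {p : ℕ} [Fact p.Prime]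
    (hD : DicksonHyp p) (hp : p ≠ 2)
    (V H : Subgroup G) (hVc : ∀ u ∈ V, ∀ v ∈ V, u * v = v * u) (hVp : ∀ v ∈ V, v ^ p = 1)
    (hHV : H ≤ Subgroup.normalizer (V : Set G))
    (hf : H ⊓ Subgroup.centralizer (V : Set G) = ⊥) (a : G) (haH : a ∈ H)
    (hq : ⁅⁅V, Subgroup.zpowers a⁆, Subgroup.zpowers a⁆ = ⊥)
    (N P : Subgroup H) [hNn : N.Normal] (hP : IsPGroup p P) (m : ℕ) (hm : m.Coprime p)
    (hNP : ∀ n ∈ N, n ^ m ∈ P) (w : H) (hw : w ∈ N)
    (hnp : ∀ k : ℕ, (a⁻¹ * ((w : G) * a * (w : G)⁻¹)) ^ (p ^ k) ≠ 1) :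
    p = 3 ∧ ∃ (K L : Subgroup G) (_hL : (L.subgroupOf K).Normal), K ≤ H ∧
      Nonempty ((K ⧸ L.subgroupOf K) ≃* Matrix.SpecialLinearGroup (Fin 2) (ZMod 3)) := by
  obtain ⟨a', ha'def⟩ : ∃ a' : G, a' = (w : G) * a * (w : G)⁻¹ := ⟨_, rfl⟩
  rw [← ha'def] at hnp
  have ha'H : a' ∈ H := by
    rw [ha'def]; exact H.mul_mem (H.mul_mem w.2 haH) (H.inv_mem w.2)
  have hH₁H : Subgroup.closure {a, a'} ≤ H := by
    rw [Subgroup.closure_le]
    intro z hz
    rcases hz with hz | hz
    · rw [hz]; exact haH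
    · have hz' : z = a' := hz
      rw [hz']; exact ha'H
  have haH₁ : a ∈ Subgroup.closure {a, a'} := Subgroup.subset_closure (by simp)
  have ha'H₁ : a' ∈ Subgroup.closure {a, a'} := Subgroup.subset_closure (by simp)
  have hf₁ : Subgroup.closure {a, a'} ⊓ Subgroup.centralizer (V : Set G) = ⊥ := by
    rw [eq_bot_iff, ← hf]
    exact inf_le_inf_right _ hH₁H
  have hnp₁ : ¬ IsPGroup p (Subgroup.closure {a, a'} : Subgroup G) := by
    intro h
    obtain ⟨k, hk⟩ := h ⟨a⁻¹ * a', mul_mem (inv_mem haH₁) ha'H₁⟩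
    exact hnp k (congrArg Subtype.val hk)
  have hq' : ⁅⁅V, Subgroup.zpowers a'⁆, Subgroup.zpowers a'⁆ = ⊥ := by
    rw [ha'def]; exact quad_conj V a w (hHV w.2) hq
  obtain ⟨m₀, φ, K₀, hK, ⟨e⟩⟩ := core_pair hD V (Subgroup.closure {a, a'}) hVc hVp
    (hH₁H.trans hHV) hf₁ a a' rfl hq hq' hnp₁
  -- `p = 3`
  have hp3 : p = 3 := by
    refine p_eq_three_of_comm p hp φ K₀ hK e m hm ?_
    set ι := Subgroup.inclusion hH₁H with hι
    have hιinj : Function.Injective ι := Subgroup.inclusion_injective _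
    have hN₁n : (N.comap ι).Normal := hNn.comap ι
    have hgen := closure_pair_top a a' haH₁ ha'H₁
    have hmem : (⟨a, haH₁⟩ : (Subgroup.closure {a, a'} : Subgroup G))⁻¹ * ⟨a', ha'H₁⟩ ∈
        N.comap ι := by
      rw [Subgroup.mem_comap]
      have h1 : ι ((⟨a, haH₁⟩ : (Subgroup.closure {a, a'} : Subgroup G))⁻¹ * ⟨a', ha'H₁⟩) =
          ((⟨a, haH⟩ : H)⁻¹ * w * (⟨a, haH⟩ : H)⁻¹⁻¹) * w⁻¹ := by
        apply Subtype.ext
        simp only [hι, Subgroup.coe_inclusion, Subgroup.coe_mul, Subgroup.coe_inv, ha'def]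
        group
      rw [h1]
      exact N.mul_mem (hNn.conj_mem w hw _) (N.inv_mem hw)
    intro g h g' h'
    have hc1 := commutator_mem_of_two_gen _ _ hgen (N.comap ι) hmem g h
    have hc2 := commutator_mem_of_two_gen _ _ hgen (N.comap ι) hmem g' h'
    rw [Subgroup.mem_comap] at hc1 hc2
    have hprod : (ι ⁅g, h⁆) ^ m * (ι ⁅g', h'⁆) ^ m ∈ P :=
      P.mul_mem (hNP _ hc1) (hNP _ hc2)
    obtain ⟨k, hk⟩ := hP ⟨_, hprod⟩
    refine ⟨k, ?_⟩
    apply hιinj
    have hk' := congrArg Subtype.val hk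
    simp only [Subgroup.coe_pow, Subgroup.coe_one] at hk'
    rw [map_pow, map_mul, map_pow, map_pow, map_one]
    exact hk'
  refine ⟨hp3, ?_⟩
  subst hp3
  obtain ⟨K, L, hL, hKH₁, ⟨ε⟩⟩ := exists_section_of_hom (Subgroup.closure {a, a'}) φ K₀ hK
  exact ⟨K, L, hL, hKH₁.trans hH₁H, ⟨ε.trans e⟩⟩


end partC

section partD


open Cfsg Cfsg.Agent.Lib.Helper76_PSolvable

/-- A central subgroup `S` whose order is prime to its index has a characteristic complement. -/
theorem exists_characteristic_complement_of_central' {M : Type*} [Group M] [Finite M]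
    (S : Subgroup M) (hSc : S ≤ Subgroup.center M)
    (hcop : Nat.Coprime (Nat.card S) S.index) :
    ∃ T : Subgroup M, T.Characteristic ∧ Nat.card T = S.index ∧ (T = ⊥ → S = ⊤) := by
  have hSn : S.Normal := ⟨fun n hn g => by
    have := Subgroup.mem_center_iff.mp (hSc hn) g
    rw [this, mul_assoc, mul_inv_cancel, mul_one]; exact hn⟩
  obtain ⟨T, hT⟩ := Subgroup.exists_right_complement'_of_coprime hcop
  have hTcard : Nat.card T = S.index := (hT.symm.index_eq_card).symm
  have hTidx : T.index = Nat.card S := hT.index_eq_card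
  have hTn : T.Normal := by
    rw [← Subgroup.normalizer_eq_top_iff, eq_top_iff, ← hT.sup_eq_top, sup_le_iff]
    constructor
    · intro s hs
      rw [Subgroup.mem_normalizer_iff]
      intro t
      have := Subgroup.mem_center_iff.mp (hSc hs) t
      rw [← this, mul_assoc, mul_inv_cancel, mul_one]
    · exact Subgroup.le_normalizer
  refine ⟨T, ?_, hTcard, ?_⟩
  · rw [Subgroup.characteristic_iff_map_le]
    intro φ
    set U := T.map φ.toMonoidHom with hU
    have hUcard : Nat.card U = Nat.card T :=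
      Subgroup.card_map_of_injective φ.injective
    have h1 : T.relIndex U ∣ T.index := Subgroup.relIndex_dvd_index_of_normal _ _
    have h2 : T.relIndex U ∣ Nat.card U := Subgroup.relIndex_dvd_card _ _
    rw [hTidx] at h1
    rw [hUcard, hTcard] at h2
    have h3 : T.relIndex U = 1 := Nat.eq_one_of_dvd_coprimes hcop h1 h2
    exact Subgroup.relIndex_eq_one.mp h3
  · intro h
    rw [h] at hT
    exact Subgroup.isComplement'_bot_right.mp hT

/-- Dual form of Hall–Higman Lemma 1.2.3: in a finite `p`-solvable group with `O_p(X) = 1`,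
the centralizer of `O_{p'}(X)` is contained in `O_{p'}(X)`. -/
theorem centralizer_pPrimeCore_le {X : Type*} [Group X] [Finite X] (p : ℕ) [hp : Fact p.Prime]
    (hsol : IsPSolvable p X) (hcore : pCore p X = ⊥) :
    Subgroup.centralizer (pPrimeCore p X : Set X) ≤ pPrimeCore p X := by
  obtain ⟨n, H, h0, hlast, hmono, hnormal, hfac⟩ := hsol
  set R := pPrimeCore p X with hR
  set C := Subgroup.centralizer (R : Set X) with hC
  have hCn : C.Normal := by rw [hC]; infer_instance
  have hRc : (Nat.card R).Coprime p := pPrimeCore_card_coprime p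
  have key : ∀ i : Fin (n + 1), C ⊓ H i ≤ R := by
    intro i
    induction i using Fin.induction with
    | zero => rw [h0, inf_bot_eq]; exact bot_le
    | succ i ih =>
      set S := C ⊓ H i.castSucc with hS
      set M := C ⊓ H i.succ with hM
      have hAB : H i.castSucc ≤ H i.succ := hmono (Fin.castSucc_lt_succ).le
      have hAn : (H i.castSucc).Normal := hnormal _
      have hBn : (H i.succ).Normal := hnormal _
      have hSM : S ≤ M := inf_le_inf_left C hAB
      have hMn : M.Normal := by rw [hM]; infer_instance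
      have hSn : S.Normal := by rw [hS]; infer_instance
      have hScop : (Nat.card S).Coprime p :=
        Nat.Coprime.coprime_dvd_left (Subgroup.card_dvd_of_le ih) hRc
      have hcent : ∀ s ∈ S, ∀ m ∈ M, s * m = m * s := by
        intro s hs m hm
        have hm' : m ∈ C := (Subgroup.mem_inf.mp hm).1
        exact Subgroup.mem_centralizer_iff.mp hm' s (ih hs)
      have hrel : S.relIndex M ∣ (H i.castSucc).relIndex (H i.succ) := by
        have h1 : S.relIndex M = (H i.castSucc).relIndex M := by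
          rw [← Subgroup.inf_relIndex_right S M, ← Subgroup.inf_relIndex_right (H i.castSucc) M]
          congr 1
          rw [hS, hM]
          apply le_antisymm
          · exact le_inf (inf_le_left.trans inf_le_right) inf_le_right
          · refine le_inf (le_inf (inf_le_right.trans inf_le_left) inf_le_left) inf_le_right
        rw [h1]
        exact relIndex_dvd_relIndex_of_le_right _ inf_le_right
      have hcardM : Nat.card S * S.relIndex M = Nat.card M := by
        rw [← Subgroup.relIndex_bot_left, ← Subgroup.relIndex_bot_left,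
          Subgroup.relIndex_mul_relIndex _ _ _ bot_le hSM]
      rcases hfac i with ⟨m, hm⟩ | hm
      · -- p-power factor
        rw [hm] at hrel
        obtain ⟨k, _, hk⟩ := (Nat.dvd_prime_pow hp.out).mp hrel
        have hSc : S.subgroupOf M ≤ Subgroup.center M := by
          intro z hz
          rw [Subgroup.mem_center_iff]
          intro g
          apply Subtype.ext
          rw [Subgroup.mem_subgroupOf] at hz
          simpa using (hcent z hz g g.2).symm
        have hidx : (S.subgroupOf M).index = p ^ k := hk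
        have hcardS' : Nat.card (S.subgroupOf M) = Nat.card S :=
          Nat.card_congr (Subgroup.subgroupOfEquivOfLe hSM).toEquiv
        have hcop' : Nat.Coprime (Nat.card (S.subgroupOf M)) (S.subgroupOf M).index := by
          rw [hcardS', hidx]; exact Nat.Coprime.pow_right k hScop
        obtain ⟨T, hTchar, hTcard, hTbot⟩ :=
          exists_characteristic_complement_of_central' (S.subgroupOf M) hSc hcop'
        have hTn : (T.map M.subtype).Normal := inferInstance
        have hTp : IsPGroup p (T.map M.subtype) := by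
          apply IsPGroup.of_card (n := k)
          rw [Subgroup.card_map_of_injective M.subtype_injective, hTcard, hidx]
        have hTle : T.map M.subtype ≤ pCore p X := le_pCore p _ hTp
        rw [hcore, le_bot_iff, Subgroup.map_eq_bot_iff_of_injective _ M.subtype_injective] at hTle
        have := hTbot hTle
        rw [Subgroup.subgroupOf_eq_top] at this
        exact this.trans ih
      · -- p'-factor
        have hcop : (S.relIndex M).Coprime p := Nat.Coprime.coprime_dvd_left hrel hm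
        have hMc : (Nat.card M).Coprime p := by
          rw [← hcardM]; exact Nat.Coprime.mul_left hScop hcop
        exact le_pPrimeCore p M hMc
  have := key (Fin.last n)
  rwa [hlast, inf_top_eq] at this


end partD

section partE


open scoped commutatorElement
open Cfsg Cfsg.Agent.Lib.Helper76_PSolvable

/-- An element of a subgroup of order prime to `p` which is a `p`-element is trivial. -/
theorem eq_one_of_pow_of_mem_coprime {X : Type*} [Group X] {p : ℕ} (K : Subgroup X)
    (hK : (Nat.card K).Coprime p) (x : X) (hx : x ∈ K) (k : ℕ) (hxk : x ^ (p ^ k) = 1) :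
    x = 1 := by
  have h1 : orderOf (⟨x, hx⟩ : K) ∣ Nat.card K := orderOf_dvd_natCard _
  have h2 : orderOf (⟨x, hx⟩ : K) ∣ p ^ k := by
    apply orderOf_dvd_of_pow_eq_one
    apply Subtype.ext
    simpa using hxk
  have h3 : orderOf (⟨x, hx⟩ : K) = 1 :=
    Nat.eq_one_of_dvd_coprimes (Nat.Coprime.pow_right k hK) h1 h2
  have h4 := orderOf_eq_one_iff.1 h3
  exact congrArg Subtype.val h4

/-- `O_p(X / O_p(X)) = 1`. -/
theorem pCore_quotient_pCore' {X : Type*} [Group X] [Finite X] (p : ℕ) [Fact p.Prime] :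
    pCore p (X ⧸ pCore p X) = ⊥ := by
  set V := pCore p X with hV
  set K := (pCore p (X ⧸ V)).comap (QuotientGroup.mk' V) with hK
  have hKn : K.Normal := Subgroup.Normal.comap inferInstance _
  have hKp : IsPGroup p K := by
    have h1 : IsPGroup p (pCore p (X ⧸ V)) := pCore_isPGroup p
    have h2 : IsPGroup p V := pCore_isPGroup p
    intro ⟨g, hg⟩
    have hg' : QuotientGroup.mk' V g ∈ pCore p (X ⧸ V) := hg
    obtain ⟨k, hk⟩ := h1 ⟨_, hg'⟩
    have hk' : (QuotientGroup.mk' V g) ^ p ^ k = 1 := by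
      have := congrArg Subtype.val hk
      simpa using this
    rw [← map_pow, QuotientGroup.mk'_apply, QuotientGroup.eq_one_iff] at hk'
    obtain ⟨l, hl⟩ := h2 ⟨_, hk'⟩
    have hl' : (g ^ p ^ k) ^ p ^ l = 1 := by
      have := congrArg Subtype.val hl
      simpa using this
    refine ⟨k + l, ?_⟩
    apply Subtype.ext
    simp only [Subgroup.coe_pow, Subgroup.coe_one]
    rw [pow_add, pow_mul]
    exact hl'
  have hKV : K ≤ V := le_pCore p K hKp
  rw [eq_bot_iff]
  intro z hz
  obtain ⟨g, rfl⟩ := QuotientGroup.mk_surjective z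
  have hg : g ∈ K := hz
  rw [Subgroup.mem_bot]
  exact (QuotientGroup.eq_one_iff g).2 (hKV hg)

/-- S0593 from the Dickson hypothesis. -/
theorem s0593_of_dickson {G : Type*} [Group G] [Finite G] {p : ℕ} [Fact p.Prime]
    (hD : DicksonHyp p) (hp : p ≠ 2)
    (V H : Subgroup G) (hV : Cfsg.IsElementaryAbelian p V)
    (hHV : H ≤ Subgroup.normalizer (V : Set G))
    (hf : H ⊓ Subgroup.centralizer (V : Set G) = ⊥) (a b : G)
    (hab : H = Subgroup.closure {a, b})
    (ha : ⁅⁅V, Subgroup.zpowers a⁆, Subgroup.zpowers a⁆ = ⊥)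
    (hb : ⁅⁅V, Subgroup.zpowers b⁆, Subgroup.zpowers b⁆ = ⊥) (hnp : ¬ IsPGroup p H)
    (T : Sylow 2 H) : ¬ IsMulCommutative T :=
  sylow_two_not_comm_of_pair hD hp V H
    (fun u hu v hv => congrArg Subtype.val (hV.1.is_comm.comm ⟨u, hu⟩ ⟨v, hv⟩)) hV.2 hHV hf a b
    hab ha hb hnp T

/-- S0595 from the Dickson hypothesis. -/
theorem s0595_of_dickson {G : Type*} [Group G] [Finite G] {p : ℕ} [Fact p.Prime]
    (hD : DicksonHyp p) (hp : p ≠ 2)
    (V H : Subgroup G) (hV : Cfsg.IsElementaryAbelian p V)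
    (hHV : H ≤ Subgroup.normalizer (V : Set G))
    (hf : H ⊓ Subgroup.centralizer (V : Set G) = ⊥) (a : G) (haH : a ∈ H)
    (hq : ⁅⁅V, Subgroup.zpowers a⁆, Subgroup.zpowers a⁆ = ⊥)
    (hna : a ∉ (Cfsg.pCore p H).map H.subtype) (T : Sylow 2 H) : ¬ IsMulCommutative T :=
  sylow_two_not_comm_of_not_mem_pCore hD hp V H
    (fun u hu v hv => congrArg Subtype.val (hV.1.is_comm.comm ⟨u, hu⟩ ⟨v, hv⟩)) hV.2 hHV hf a
    haH hq hna T

/-- S0594 from the Dickson hypothesis (the second generator is not needed). -/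
theorem s0594_of_dickson {G : Type*} [Group G] [Finite G] {p : ℕ} [Fact p.Prime]
    (hD : DicksonHyp p) (hp : p ≠ 2)
    (V H : Subgroup G) (hV : Cfsg.IsElementaryAbelian p V)
    (hHV : H ≤ Subgroup.normalizer (V : Set G))
    (hf : H ⊓ Subgroup.centralizer (V : Set G) = ⊥) (a : G) (haH : a ∈ H)
    (ha : ⁅⁅V, Subgroup.zpowers a⁆, Subgroup.zpowers a⁆ = ⊥)
    (Q : Subgroup G) (hQH : Q ≤ H) (hQn : H ≤ Subgroup.normalizer (Q : Set G))
    (hQ : (Nat.card Q).Coprime p) (hQa : ⁅Q, Subgroup.zpowers a⁆ ≠ ⊥) :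
    p = 3 ∧ ∃ (K L : Subgroup G) (_hL : (L.subgroupOf K).Normal), K ≤ H ∧
      Nonempty ((K ⧸ L.subgroupOf K) ≃* Matrix.SpecialLinearGroup (Fin 2) (ZMod 3)) := by
  -- an element of `Q` not commuting with `a`
  have hex : ∃ x ∈ Q, x * a ≠ a * x := by
    by_contra hcon
    simp only [not_exists, not_and, not_not] at hcon
    apply hQa
    rw [Subgroup.commutator_eq_bot_iff_le_centralizer]
    intro x hx
    rw [Subgroup.mem_centralizer_iff]
    intro z hz
    obtain ⟨i, rfl⟩ := Subgroup.mem_zpowers_iff.1 hz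
    have hc : Commute a x := (hcon x hx).symm
    exact (hc.zpow_left i).eq
  obtain ⟨x, hxQ, hxa⟩ := hex
  have hNn : (Q.subgroupOf H).Normal := Subgroup.normal_subgroupOf_of_le_normalizer hQn
  have hcQ : a⁻¹ * (x * a * x⁻¹) ∈ Q := by
    have h1 : a⁻¹ * x * a⁻¹⁻¹ ∈ Q :=
      ((Subgroup.mem_normalizer_iff.1 (inv_mem (hQn haH))) x).1 hxQ
    have h2 : a⁻¹ * (x * a * x⁻¹) = (a⁻¹ * x * a⁻¹⁻¹) * x⁻¹ := by group
    rw [h2]
    exact Q.mul_mem h1 (Q.inv_mem hxQ)
  refine section_of_pclosed hD hp V H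
    (fun u hu v hv => congrArg Subtype.val (hV.1.is_comm.comm ⟨u, hu⟩ ⟨v, hv⟩)) hV.2 hHV hf a
    haH ha (Q.subgroupOf H) ⊥ IsPGroup.of_bot (Nat.card Q) hQ ?_ ⟨x, hQH hxQ⟩
    (Subgroup.mem_subgroupOf.2 hxQ) ?_
  · intro n hn
    rw [Subgroup.mem_subgroupOf] at hn
    rw [Subgroup.mem_bot]
    have h1 : (⟨(n : G), hn⟩ : Q) ^ Nat.card Q = 1 := pow_card_eq_one'
    have h2 := congrArg Subtype.val h1
    rw [Subgroup.coe_pow, Subgroup.coe_one] at h2
    apply Subtype.ext
    rw [Subgroup.coe_pow, Subgroup.coe_one]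
    exact h2
  · intro k hk
    have h1 := eq_one_of_pow_of_mem_coprime Q hQ _ hcQ k hk
    apply hxa
    have h2 : x * a * x⁻¹ = a := by
      have := congrArg (a * ·) h1
      simpa using this
    calc x * a = (x * a * x⁻¹) * x := by group
      _ = a * x := by rw [h2]

/-- S0596 from the Dickson hypothesis. -/
theorem s0596_of_dickson {G : Type*} [Group G] [Finite G] {p : ℕ} [Fact p.Prime]
    (hD : DicksonHyp p) (hp : p ≠ 2)
    (V H : Subgroup G) (hV : Cfsg.IsElementaryAbelian p V)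
    (hHV : H ≤ Subgroup.normalizer (V : Set G))
    (hf : H ⊓ Subgroup.centralizer (V : Set G) = ⊥) (hsep : Cfsg.IsPSolvable p H)
    (a : G) (haH : a ∈ H)
    (hq : ⁅⁅V, Subgroup.zpowers a⁆, Subgroup.zpowers a⁆ = ⊥)
    (hna : a ∉ (Cfsg.pCore p H).map H.subtype) :
    p = 3 ∧ ∃ (K L : Subgroup G) (_hL : (L.subgroupOf K).Normal), K ≤ H ∧
      Nonempty ((K ⧸ L.subgroupOf K) ≃* Matrix.SpecialLinearGroup (Fin 2) (ZMod 3)) := by
  have hVc : ∀ u ∈ V, ∀ v ∈ V, u * v = v * u :=
    fun u hu v hv => congrArg Subtype.val (hV.1.is_comm.comm ⟨u, hu⟩ ⟨v, hv⟩)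
  have hap : a ^ p = 1 := pow_p_eq_one_of_quad V H hV.2 hHV hf a haH hq
  set P : Subgroup H := pCore p H with hPdef
  have hPn : P.Normal := Cfsg.Agent.Lib.Helper76_PSolvable.pCore_normal p
  have hPp : IsPGroup p P := pCore_isPGroup p
  set π : H →* H ⧸ P := QuotientGroup.mk' P with hπ
  have hπs : Function.Surjective π := QuotientGroup.mk'_surjective P
  have hsol : IsPSolvable p (H ⧸ P) := isPSolvable_quotient p P hsep
  have hcore : pCore p (H ⧸ P) = ⊥ := pCore_quotient_pCore' p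
  set W : Subgroup (H ⧸ P) := pPrimeCore p (H ⧸ P) with hWdef
  have hWn : W.Normal := Cfsg.Agent.Lib.Helper76_PSolvable.pPrimeCore_normal p
  have hWc : (Nat.card W).Coprime p := pPrimeCore_card_coprime p
  have hHH : Subgroup.centralizer (W : Set (H ⧸ P)) ≤ W := centralizer_pPrimeCore_le p hsol hcore
  set a₀ : H := ⟨a, haH⟩ with ha₀
  have ha₀P : a₀ ∉ P := fun h => hna ⟨a₀, h, rfl⟩
  have hπa : π a₀ ≠ 1 := by
    intro h
    rw [hπ, QuotientGroup.mk'_apply, QuotientGroup.eq_one_iff] at h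
    exact ha₀P h
  have hπap : (π a₀) ^ (p ^ 1) = 1 := by
    rw [pow_one, ← map_pow]
    have : a₀ ^ p = 1 := Subtype.ext (by simpa using hap)
    rw [this, map_one]
  have hnc : π a₀ ∉ Subgroup.centralizer (W : Set (H ⧸ P)) := by
    intro h
    exact hπa (eq_one_of_pow_of_mem_coprime W hWc _ (hHH h) 1 hπap)
  rw [Subgroup.mem_centralizer_iff] at hnc
  simp only [not_forall] at hnc
  obtain ⟨wbar, hwW, hwa⟩ := hnc
  obtain ⟨w, rfl⟩ := hπs wbar
  have hNn : (W.comap π).Normal := hWn.comap π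
  refine section_of_pclosed hD hp V H hVc hV.2 hHV hf a haH hq (W.comap π) P hPp (Nat.card W)
    hWc ?_ w hwW ?_
  · intro n hn
    rw [Subgroup.mem_comap] at hn
    have h1 : (⟨π n, hn⟩ : W) ^ Nat.card W = 1 := pow_card_eq_one'
    have h2 : (π n) ^ Nat.card W = 1 := by
      have := congrArg Subtype.val h1
      rw [Subgroup.coe_pow, Subgroup.coe_one] at this
      exact this
    rw [← map_pow, hπ, QuotientGroup.mk'_apply, QuotientGroup.eq_one_iff] at h2
    exact h2
  · intro k hk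
    apply hwa
    -- the commutator, as an element of `H`
    have hc : (a₀⁻¹ * (w * a₀ * w⁻¹)) ^ (p ^ k) = 1 := by
      apply Subtype.ext
      simpa [ha₀] using hk
    have hc' : ((π a₀)⁻¹ * (π w * π a₀ * (π w)⁻¹)) ^ (p ^ k) = 1 := by
      have := congrArg π hc
      simpa using this
    have hmem : (π a₀)⁻¹ * (π w * π a₀ * (π w)⁻¹) ∈ W := by
      have h1 : (π a₀)⁻¹ * π w * (π a₀)⁻¹⁻¹ ∈ W := hWn.conj_mem _ hwW _
      have h2 : (π a₀)⁻¹ * (π w * π a₀ * (π w)⁻¹) =
          ((π a₀)⁻¹ * π w * (π a₀)⁻¹⁻¹) * (π w)⁻¹ := by group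
      rw [h2]
      exact W.mul_mem h1 (W.inv_mem hwW)
    have h3 := eq_one_of_pow_of_mem_coprime W hWc _ hmem k hc'
    have h4 : π w * π a₀ * (π w)⁻¹ = π a₀ := by
      have := congrArg (π a₀ * ·) h3
      simpa using this
    calc π w * π a₀ = (π w * π a₀ * (π w)⁻¹) * π w := by group
      _ = π a₀ * π w := by rw [h4]


end partE

section partF


open scoped commutatorElement
open Cfsg

/-- A quadratic element outside `O_p(H)` gives a section `SL(2, p)` of `H`
(from the Dickson hypothesis). -/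
theorem section_sl2p_of_not_mem_pCore {G : Type*} [Group G] [Finite G] {p : ℕ} [Fact p.Prime]
    (hD : DicksonHyp p)
    (V H : Subgroup G) (hV : Cfsg.IsElementaryAbelian p V)
    (hHV : H ≤ Subgroup.normalizer (V : Set G))
    (hf : H ⊓ Subgroup.centralizer (V : Set G) = ⊥) (a : G) (haH : a ∈ H)
    (hq : ⁅⁅V, Subgroup.zpowers a⁆, Subgroup.zpowers a⁆ = ⊥)
    (hna : a ∉ (Cfsg.pCore p H).map H.subtype) :
    ∃ (K L : Subgroup G) (_hL : (L.subgroupOf K).Normal), K ≤ H ∧
      Nonempty ((K ⧸ L.subgroupOf K) ≃* Matrix.SpecialLinearGroup (Fin 2) (ZMod p)) := by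
  have hVc : ∀ u ∈ V, ∀ v ∈ V, u * v = v * u :=
    fun u hu v hv => congrArg Subtype.val (hV.1.is_comm.comm ⟨u, hu⟩ ⟨v, hv⟩)
  have hap : a ^ p = 1 := pow_p_eq_one_of_quad V H hV.2 hHV hf a haH hq
  obtain ⟨g, hgH, hnp⟩ := exists_conj_not_pgroup H a haH hap hna
  have hbH : g * a * g⁻¹ ∈ H := H.mul_mem (H.mul_mem hgH haH) (H.inv_mem hgH)
  have hH₁H : Subgroup.closure {a, g * a * g⁻¹} ≤ H := by
    rw [Subgroup.closure_le]
    intro z hz
    rcases hz with hz | hz
    · rw [hz]; exact haH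
    · have hz' : z = g * a * g⁻¹ := hz
      rw [hz']; exact hbH
  have hf₁ : Subgroup.closure {a, g * a * g⁻¹} ⊓ Subgroup.centralizer (V : Set G) = ⊥ := by
    rw [eq_bot_iff, ← hf]
    exact inf_le_inf_right _ hH₁H
  obtain ⟨m₀, φ, K₀, hK, ⟨e⟩⟩ := core_pair hD V (Subgroup.closure {a, g * a * g⁻¹}) hVc hV.2
    (hH₁H.trans hHV) hf₁ a (g * a * g⁻¹) rfl hq (quad_conj V a g (hHV hgH) hq) hnp
  obtain ⟨K, L, hL, hKH₁, ⟨ε⟩⟩ :=
    exists_section_of_hom (Subgroup.closure {a, g * a * g⁻¹}) φ K₀ hK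
  exact ⟨K, L, hL, hKH₁.trans hH₁H, ⟨ε.trans e⟩⟩

/-- S0656 from the Dickson hypothesis. -/
theorem s0656_of_dickson {G : Type*} [Group G] [Finite G] {p : ℕ} [Fact p.Prime]
    (hD : DicksonHyp p)
    (V H : Subgroup G) (hV : Cfsg.IsElementaryAbelian p V)
    (hHV : H ≤ Subgroup.normalizer (V : Set G))
    (hf : H ⊓ Subgroup.centralizer (V : Set G) = ⊥) (hO : Cfsg.pCore p ↥H = ⊥) (x : G)
    (hxH : x ∈ H) (hx1 : x ≠ 1)
    (hq : ⁅⁅V, Subgroup.zpowers x⁆, Subgroup.zpowers x⁆ = ⊥) :
    ∃ (K L : Subgroup G) (_hL : (L.subgroupOf K).Normal), K ≤ H ∧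
      Nonempty ((K ⧸ L.subgroupOf K) ≃* Matrix.SpecialLinearGroup (Fin 2) (ZMod p)) := by
  apply section_sl2p_of_not_mem_pCore hD V H hV hHV hf x hxH hq
  rw [hO, Subgroup.map_bot, Subgroup.mem_bot]
  exact hx1


end partF

end Cfsg.Agent.Lib.Helper10_QuadPair
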