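import Mathlib
import Cfsg.Prelude.Def_Transfer

/-!
Basic API for `Cfsg.IsElementaryAbelian`, `Cfsg.maxElementaryAbelianSubgroups`,
`Cfsg.thompsonSubgroup`, `Cfsg.thompsonSubgroupOf` (helper10).
-/

set_option autoImplicit false
open Cfsg

namespace Cfsg.Agent.Lib.Helper10_Thompson

universe u

variable {G : Type u} [Group G] {p : ℕ}

theorem ea_comm {A : Subgroup G} (h : IsElementaryAbelian p A) {x y : G}
    (hx : x ∈ A) (hy : y ∈ A) : x * y = y * x := by
  have := h.1.is_comm.comm (⟨x, hx⟩ : A) ⟨y, hy⟩
  exact congrArg Subtype.val this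

theorem ea_pow_eq_one {A : Subgroup G} (h : IsElementaryAbelian p A) {x : G}
    (hx : x ∈ A) : x ^ p = 1 := h.2 x hx

theorem isElementaryAbelian_of_forall {A : Subgroup G}
    (hc : ∀ x ∈ A, ∀ y ∈ A, x * y = y * x) (hp : ∀ x ∈ A, x ^ p = 1) :
    IsElementaryAbelian p A :=
  ⟨⟨⟨fun a b => Subtype.ext (hc a a.2 b b.2)⟩⟩, hp⟩

theorem isElementaryAbelian_bot : IsElementaryAbelian p (⊥ : Subgroup G) := by
  apply isElementaryAbelian_of_forall
  · intro x hx y hy
    rw [Subgroup.mem_bot] at hx hy; simp [hx, hy]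
  · intro x hx
    rw [Subgroup.mem_bot] at hx; simp [hx]

theorem ea_mono {A B : Subgroup G} (h : A ≤ B) (hB : IsElementaryAbelian p B) :
    IsElementaryAbelian p A :=
  isElementaryAbelian_of_forall (fun _ hx _ hy => ea_comm hB (h hx) (h hy)) (fun _ hx => hB.2 _ (h hx))

theorem isElementaryAbelian_closure {S : Set G} (hcomm : ∀ x ∈ S, ∀ y ∈ S, x * y = y * x)
    (hpow : ∀ x ∈ S, x ^ p = 1) : IsElementaryAbelian p (Subgroup.closure S) := by
  have hc : IsMulCommutative (Subgroup.closure S) := Subgroup.isMulCommutative_closure hcomm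
  have hcomm' : ∀ x ∈ Subgroup.closure S, ∀ y ∈ Subgroup.closure S, x * y = y * x := by
    intro x hx y hy
    have := hc.is_comm.comm (⟨x, hx⟩ : Subgroup.closure S) ⟨y, hy⟩
    exact congrArg Subtype.val this
  refine ⟨hc, ?_⟩
  intro a ha
  induction ha using Subgroup.closure_induction with
  | mem x hx => exact hpow x hx
  | one => simp
  | mul x y hx hy ihx ihy =>
    have : Commute x y := hcomm' x hx y hy
    rw [this.mul_pow, ihx, ihy, one_mul]
  | inv x hx ih => rw [inv_pow, ih, inv_one]

theorem isElementaryAbelian_sup {A B : Subgroup G} (hA : IsElementaryAbelian p A)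
    (hB : IsElementaryAbelian p B) (hAB : ∀ a ∈ A, ∀ b ∈ B, a * b = b * a) :
    IsElementaryAbelian p (A ⊔ B) := by
  have : A ⊔ B = Subgroup.closure ((A : Set G) ∪ (B : Set G)) := by
    rw [Subgroup.closure_union, Subgroup.closure_eq, Subgroup.closure_eq]
  rw [this]
  apply isElementaryAbelian_closure
  · rintro x (hx | hx) y (hy | hy)
    · exact ea_comm hA hx hy
    · exact hAB x hx y hy
    · exact (hAB y hy x hx).symm
    · exact ea_comm hB hx hy
  · rintro x (hx | hx)
    · exact hA.2 x hx
    · exact hB.2 x hx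

theorem isElementaryAbelian_zpowers {x : G} (hx : x ^ p = 1) :
    IsElementaryAbelian p (Subgroup.zpowers x) := by
  rw [Subgroup.zpowers_eq_closure]
  apply isElementaryAbelian_closure
  · intro a ha b hb
    rw [Set.mem_singleton_iff] at ha hb; rw [ha, hb]
  · intro a ha
    rw [Set.mem_singleton_iff] at ha; rw [ha, hx]

theorem ea_map {H : Type*} [Group H] {A : Subgroup G}
    (hA : IsElementaryAbelian p A) (f : G →* H) : IsElementaryAbelian p (A.map f) := by
  apply isElementaryAbelian_of_forall
  · rintro _ ⟨a, ha, rfl⟩ _ ⟨b, hb, rfl⟩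
    rw [← map_mul, ← map_mul, ea_comm hA ha hb]
  · rintro _ ⟨a, ha, rfl⟩
    rw [← map_pow, hA.2 a ha, map_one]

theorem ea_comap_of_injective {H : Type*} [Group H] {A : Subgroup G}
    (hA : IsElementaryAbelian p A) (f : H →* G) (hf : Function.Injective f) :
    IsElementaryAbelian p (A.comap f) := by
  apply isElementaryAbelian_of_forall
  · intro x hx y hy
    apply hf
    rw [map_mul, map_mul]
    exact ea_comm hA hx hy
  · intro x hx
    apply hf
    rw [map_pow, map_one]
    exact hA.2 _ hx

theorem ea_subgroupOf {A : Subgroup G} (hA : IsElementaryAbelian p A)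
    (U : Subgroup G) : IsElementaryAbelian p (A.subgroupOf U) :=
  ea_comap_of_injective hA U.subtype U.subtype_injective

theorem isElementaryAbelian_map_iff_of_injective {H : Type*} [Group H] {A : Subgroup G}
    (f : G →* H) (hf : Function.Injective f) :
    IsElementaryAbelian p (A.map f) ↔ IsElementaryAbelian p A := by
  constructor
  · intro h
    have := ea_comap_of_injective h f hf
    rwa [Subgroup.comap_map_eq_self_of_injective hf] at this
  · intro h
    exact ea_map h f

theorem ea_isPGroup [Fact p.Prime] {A : Subgroup G}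
    (hA : IsElementaryAbelian p A) : IsPGroup p A := by
  intro a
  refine ⟨1, ?_⟩
  rw [pow_one]
  exact Subtype.ext (by simpa using hA.2 a a.2)

/-- In a finite group there is an elementary abelian subgroup of largest order. -/
theorem exists_mem_max [Finite G] : ∃ A : Subgroup G, A ∈ maxElementaryAbelianSubgroups p G := by
  have : Nonempty {A : Subgroup G // IsElementaryAbelian p A} := ⟨⟨⊥, isElementaryAbelian_bot⟩⟩
  obtain ⟨A, hA⟩ := Finite.exists_max
    (fun A : {A : Subgroup G // IsElementaryAbelian p A} => Nat.card A.1)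
  exact ⟨A.1, A.2, fun B hB => hA ⟨B, hB⟩⟩

theorem eq_of_mem_max_of_le [Finite G] {A B : Subgroup G}
    (hA : A ∈ maxElementaryAbelianSubgroups p G) (hB : IsElementaryAbelian p B) (h : A ≤ B) :
    A = B :=
  Subgroup.eq_of_le_of_card_ge h (hA.2 B hB)

theorem le_thompsonSubgroup {A : Subgroup G} (hA : A ∈ maxElementaryAbelianSubgroups p G) :
    A ≤ thompsonSubgroup p G :=
  le_sSup hA

theorem card_eq_of_mem_max {A B : Subgroup G} (hA : A ∈ maxElementaryAbelianSubgroups p G)
    (hB : B ∈ maxElementaryAbelianSubgroups p G) : Nat.card A = Nat.card B :=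
  le_antisymm (hB.2 A hA.1) (hA.2 B hB.1)

/-- An elementary abelian subgroup with the order of a largest one is a largest one. -/
theorem mem_max_of_card_eq {A B : Subgroup G} (hA : A ∈ maxElementaryAbelianSubgroups p G)
    (hB : IsElementaryAbelian p B) (h : Nat.card A ≤ Nat.card B) :
    B ∈ maxElementaryAbelianSubgroups p G :=
  ⟨hB, fun C hC => (hA.2 C hC).trans h⟩

/-- Images of largest elementary abelian subgroups under isomorphisms are largest. -/
theorem map_mem_max {H : Type u} [Group H] (f : G ≃* H) {A : Subgroup G}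
    (hA : A ∈ maxElementaryAbelianSubgroups p G) :
    A.map f.toMonoidHom ∈ maxElementaryAbelianSubgroups p H := by
  refine ⟨ea_map hA.1 _, ?_⟩
  intro B hB
  have h1 : Nat.card (A.map f.toMonoidHom) = Nat.card A :=
    Subgroup.card_map_of_injective f.injective
  have h2 : Nat.card (B.map f.symm.toMonoidHom) = Nat.card B :=
    Subgroup.card_map_of_injective f.symm.injective
  rw [h1, ← h2]
  exact hA.2 _ (ea_map hB _)

theorem card_map_subtype {U : Subgroup G} (B : Subgroup U) :
    Nat.card (B.map U.subtype) = Nat.card B :=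
  Subgroup.card_map_of_injective U.subtype_injective

theorem card_subgroupOf_of_le {A U : Subgroup G} (h : A ≤ U) :
    Nat.card (A.subgroupOf U) = Nat.card A := by
  rw [← card_map_subtype, Subgroup.map_subgroupOf_eq_of_le h]

/-- A largest elementary abelian subgroup of `G` lying in `U` is a largest one of `U`. -/
theorem subgroupOf_mem_max {U A : Subgroup G} (hA : A ∈ maxElementaryAbelianSubgroups p G)
    (hAU : A ≤ U) : A.subgroupOf U ∈ maxElementaryAbelianSubgroups p U := by
  refine ⟨ea_subgroupOf hA.1 U, ?_⟩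
  intro B hB
  rw [card_subgroupOf_of_le hAU, ← card_map_subtype]
  exact hA.2 _ (ea_map hB _)

/-- If `U` contains a largest elementary abelian subgroup of `G`, then the largest ones of `U`
are largest in `G`. -/
theorem map_subtype_mem_max {U A : Subgroup G} (hA : A ∈ maxElementaryAbelianSubgroups p G)
    (hAU : A ≤ U) {B : Subgroup U} (hB : B ∈ maxElementaryAbelianSubgroups p U) :
    B.map U.subtype ∈ maxElementaryAbelianSubgroups p G := by
  apply mem_max_of_card_eq hA (ea_map hB.1 _)
  rw [card_map_subtype, ← card_subgroupOf_of_le hAU]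
  exact hB.2 _ (ea_subgroupOf hA.1 U)

/-- If `U` contains a largest elementary abelian subgroup of `G`, then `J(U) ≤ J(G)`. -/
theorem thompsonSubgroupOf_le {U A : Subgroup G} (hA : A ∈ maxElementaryAbelianSubgroups p G)
    (hAU : A ≤ U) : thompsonSubgroupOf p U ≤ thompsonSubgroup p G := by
  unfold thompsonSubgroupOf
  rw [Subgroup.map_le_iff_le_comap]
  apply sSup_le
  intro B hB
  rw [← Subgroup.map_le_iff_le_comap]
  exact le_thompsonSubgroup (map_subtype_mem_max hA hAU hB)

/-- A largest elementary abelian subgroup of `G` lying in `U` lies in `J(U)`. -/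
theorem le_thompsonSubgroupOf {U A : Subgroup G} (hA : A ∈ maxElementaryAbelianSubgroups p G)
    (hAU : A ≤ U) : A ≤ thompsonSubgroupOf p U := by
  unfold thompsonSubgroupOf
  rw [← Subgroup.map_subgroupOf_eq_of_le hAU]
  exact Subgroup.map_mono (le_thompsonSubgroup (subgroupOf_mem_max hA hAU))

theorem card_eq_relIndex_mul_card {H K : Subgroup G} (h : H ≤ K) :
    Nat.card K = H.relIndex K * Nat.card H := by
  rw [Subgroup.relIndex, ← card_subgroupOf_of_le h]
  exact (Subgroup.index_mul_card _).symm

/-- The product inequality `|B| |W| ≤ |B ⊔ W| |B ⊓ W|` for subgroups of a finite group. -/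
theorem card_mul_card_le_card_sup_mul_card_inf [Finite G] (B W : Subgroup G) :
    Nat.card B * Nat.card W ≤ Nat.card (B ⊔ W : Subgroup G) * Nat.card (W ⊓ B : Subgroup G) := by
  have h1 : Nat.card B = W.relIndex B * Nat.card (W ⊓ B : Subgroup G) := by
    rw [card_eq_relIndex_mul_card (inf_le_right : W ⊓ B ≤ B), Subgroup.inf_relIndex_right]
  have h2 : Nat.card (B ⊔ W : Subgroup G) = W.relIndex (B ⊔ W) * Nat.card W :=
    card_eq_relIndex_mul_card le_sup_right
  have h3 : W.relIndex B ≤ W.relIndex (B ⊔ W) := by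
    apply Subgroup.relIndex_le_of_le_right le_sup_left
    intro h0
    rw [h0, zero_mul] at h2
    exact (Nat.card_pos (α := (B ⊔ W : Subgroup G))).ne' h2
  calc Nat.card B * Nat.card W
      = W.relIndex B * Nat.card W * Nat.card (W ⊓ B : Subgroup G) := by rw [h1]; ring
    _ ≤ W.relIndex (B ⊔ W) * Nat.card W * Nat.card (W ⊓ B : Subgroup G) := by gcongr
    _ = Nat.card (B ⊔ W : Subgroup G) * Nat.card (W ⊓ B : Subgroup G) := by rw [h2]

end Cfsg.Agent.Lib.Helper10_Thompson
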