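import Mathlib
import Cfsg.Prelude.Def_OddOrderLocal

/-!
Generic "order-class cores" (helper32): for a predicate `Pr` on orders closed under divisors of
products, the join of all normal subgroups whose order satisfies `Pr`.  Specialises to
`Cfsg.piCore π` and `Cfsg.pPrimeCore p` (definitionally).
Main facts (finite groups): the core itself satisfies `Pr`, is characteristic, contains every subnormal
subgroup whose order satisfies `Pr`, and the core of the quotient by the core is trivial.
-/

set_option autoImplicit false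

namespace Cfsg.Agent.Lib.Helper32_Cores

open Subgroup

/-- A predicate on orders, containing `1` and closed under divisors of products. -/
structure OrdClass (Pr : ℕ → Prop) : Prop where
  one : Pr 1
  dvd_mul : ∀ a b c : ℕ, Pr a → Pr b → c ∣ a * b → Pr c

theorem OrdClass.of_dvd {Pr : ℕ → Prop} (h : OrdClass Pr) {a c : ℕ} (ha : Pr a) (hc : c ∣ a) : Pr c :=
  h.dvd_mul a 1 c ha h.one (by simpa using hc)

theorem OrdClass.mul {Pr : ℕ → Prop} (h : OrdClass Pr) {a b : ℕ} (ha : Pr a) (hb : Pr b) : Pr (a * b) :=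
  h.dvd_mul a b _ ha hb dvd_rfl

/-- the class of `π`-numbers -/
def piPred (π : Set ℕ) : ℕ → Prop := fun n => ∀ p : ℕ, p.Prime → p ∣ n → p ∈ π

theorem piPred_ordClass (π : Set ℕ) : OrdClass (piPred π) where
  one := fun p hp h => absurd (Nat.dvd_one.mp h) hp.ne_one
  dvd_mul := fun a b c ha hb hc p hp hpc => by
    rcases (Nat.Prime.dvd_mul hp).mp (hpc.trans hc) with h | h
    · exact ha p hp h
    · exact hb p hp h

/-- the class of numbers coprime to `p` -/
def coprimePred (p : ℕ) : ℕ → Prop := fun n => n.Coprime p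

theorem coprimePred_ordClass (p : ℕ) : OrdClass (coprimePred p) where
  one := Nat.coprime_one_left p
  dvd_mul := fun _ _ _ ha hb hc => Nat.Coprime.coprime_dvd_left hc (Nat.Coprime.mul_left ha hb)

variable {G : Type*} [Group G]

/-- The `Pr`-core: the join of all normal subgroups whose order satisfies `Pr`. -/
def ordCore (Pr : ℕ → Prop) (G : Type*) [Group G] : Subgroup G :=
  sSup {N : Subgroup G | N.Normal ∧ Pr (Nat.card N)}

theorem piCore_eq (π : Set ℕ) (G : Type*) [Group G] : Cfsg.piCore π G = ordCore (piPred π) G := rfl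

theorem pPrimeCore_eq (p : ℕ) (G : Type*) [Group G] :
    Cfsg.pPrimeCore p G = ordCore (coprimePred p) G := rfl

instance ordCore_normal (Pr : ℕ → Prop) : (ordCore Pr G).Normal :=
  Subgroup.sSup_normal _ (fun _ h => h.1)

theorem le_ordCore {Pr : ℕ → Prop} {N : Subgroup G} (hN : N.Normal) (h : Pr (Nat.card N)) :
    N ≤ ordCore Pr G :=
  le_sSup ⟨hN, h⟩

/-- The order of a join `N ⊔ M` with `M` normal divides `|N| * |M|`. -/
theorem card_sup_dvd (N M : Subgroup G) [M.Normal] :
    Nat.card (N ⊔ M : Subgroup G) ∣ Nat.card N * Nat.card M := by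
  have h1 : Nat.card (N ⊔ M : Subgroup G) = Nat.card M * M.relIndex N := by
    rw [← relIndex_sup_right N M]
    have h : M ≤ N ⊔ M := le_sup_right
    have := relIndex_mul_relIndex ⊥ M (N ⊔ M) bot_le h
    rw [relIndex_bot_left, relIndex_bot_left] at this
    exact this.symm
  rw [h1, mul_comm]
  exact Nat.mul_dvd_mul_right (relIndex_dvd_card M N) _

theorem card_ordCore [Finite G] {Pr : ℕ → Prop} (h : OrdClass Pr) : Pr (Nat.card (ordCore Pr G)) := by
  classical
  have hfin : Set.Finite {N : Subgroup G | N.Normal ∧ Pr (Nat.card N)} := Set.toFinite _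
  have h1 : ordCore Pr G = hfin.toFinset.sup id := by
    rw [Finset.sup_id_eq_sSup]
    simp [ordCore]
  rw [h1]
  have key : (fun N : Subgroup G => N.Normal ∧ Pr (Nat.card N)) (hfin.toFinset.sup id) := by
    refine Finset.sup_induction (p := fun N : Subgroup G => N.Normal ∧ Pr (Nat.card N)) ?_ ?_ ?_
    · refine ⟨inferInstance, ?_⟩
      rw [Subgroup.card_bot]; exact h.one
    · rintro N ⟨hN1, hN2⟩ M ⟨hM1, hM2⟩
      exact ⟨inferInstance, h.dvd_mul _ _ _ hN2 hM2 (card_sup_dvd N M)⟩
    · intro N hN
      simpa using hN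
  exact key.2

theorem map_ordCore_le [Finite G] {Pr : ℕ → Prop} (h : OrdClass Pr) (φ : G ≃* G) :
    (ordCore Pr G).map φ.toMonoidHom ≤ ordCore Pr G := by
  apply le_ordCore
  · exact (ordCore_normal Pr).map _ φ.surjective
  · have : Nat.card ((ordCore Pr G).map φ.toMonoidHom) = Nat.card (ordCore Pr G) :=
      Subgroup.card_map_of_injective φ.injective
    rw [this]
    exact card_ordCore h

theorem ordCore_characteristic [Finite G] {Pr : ℕ → Prop} (h : OrdClass Pr) :
    (ordCore Pr G).Characteristic :=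
  characteristic_iff_map_le.mpr (fun φ => map_ordCore_le h φ)

/-- The core of a normal subgroup lies in the core of the group. -/
theorem map_ordCore_le_of_normal [Finite G] {Pr : ℕ → Prop} (h : OrdClass Pr) (H : Subgroup G)
    [H.Normal] : (ordCore Pr H).map H.subtype ≤ ordCore Pr G := by
  have : (ordCore Pr H).Characteristic := ordCore_characteristic h
  apply le_ordCore
  · exact ConjAct.normal_of_characteristic_of_normal
  · have : Nat.card ((ordCore Pr H).map H.subtype) = Nat.card (ordCore Pr H) :=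
      Subgroup.card_map_of_injective H.subtype_injective
    rw [this]
    exact card_ordCore h

universe u

/-- A subnormal subgroup whose order satisfies `Pr` lies in the `Pr`-core. -/
theorem le_ordCore_of_isSubnormal {Pr : ℕ → Prop} (h : OrdClass Pr) :
    ∀ {G : Type u} [Group G] [Finite G] (H : Subgroup G), H.IsSubnormal → Pr (Nat.card H) →
      H ≤ ordCore Pr G := by
  suffices key : ∀ n : ℕ, ∀ (G : Type u) [Group G] [Finite G], Nat.card G = n →
      ∀ H : Subgroup G, H.IsSubnormal → Pr (Nat.card H) → H ≤ ordCore Pr G by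
    intro G _ _ H hH hP
    exact key _ G rfl H hH hP
  intro n
  induction n using Nat.strong_induction_on with
  | _ n ih =>
    intro G _ _ hn H hH hP
    rcases hH.lt_normal with rfl | ⟨K, hKn, hHK, hKlt⟩
    · exact le_ordCore inferInstance hP
    · have hcard : Nat.card K < n := by
        rw [← hn]
        have hne : K ≠ ⊤ := hKlt.ne
        have h1 : Nat.card K ∣ Nat.card G := Subgroup.card_subgroup_dvd_card K
        have h2 : Nat.card K ≠ Nat.card G := fun h' => hne (Subgroup.card_eq_iff_eq_top K |>.mp h')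
        exact lt_of_le_of_ne (Nat.le_of_dvd Nat.card_pos h1) h2
      have hsub : (H.subgroupOf K).IsSubnormal := hH.subgroupOf
      have hc : Nat.card (H.subgroupOf K) = Nat.card H :=
        Nat.card_congr (Subgroup.subgroupOfEquivOfLe hHK).toEquiv
      have h3 := ih _ hcard K rfl (H.subgroupOf K) hsub (hc ▸ hP)
      have h4 : H = (H.subgroupOf K).map K.subtype := (Subgroup.map_subgroupOf_eq_of_le hHK).symm
      rw [h4]
      exact (Subgroup.map_mono h3).trans (map_ordCore_le_of_normal h K)

/-- The core of the quotient by the core is trivial. -/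
theorem ordCore_quotient_eq_bot [Finite G] {Pr : ℕ → Prop} (h : OrdClass Pr) :
    ordCore Pr (G ⧸ ordCore Pr G) = ⊥ := by
  have hker : (QuotientGroup.mk' (ordCore Pr G)).ker = ordCore Pr G := QuotientGroup.ker_mk' _
  set M := (ordCore Pr (G ⧸ ordCore Pr G)).comap (QuotientGroup.mk' (ordCore Pr G)) with hM
  have hNM : ordCore Pr G ≤ M := by
    intro x hx
    rw [hM, Subgroup.mem_comap]
    have : QuotientGroup.mk' (ordCore Pr G) x = 1 := by
      rw [← MonoidHom.mem_ker, hker]; exact hx
    rw [this]; exact one_mem _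
  have hmap : M.map (QuotientGroup.mk' (ordCore Pr G)) = ordCore Pr (G ⧸ ordCore Pr G) :=
    Subgroup.map_comap_eq_self_of_surjective (QuotientGroup.mk'_surjective _) _
  have hrel : (ordCore Pr G).relIndex M = Nat.card (ordCore Pr (G ⧸ ordCore Pr G)) := by
    have h1 := Subgroup.relIndex_comap (⊥ : Subgroup (G ⧸ ordCore Pr G))
      (QuotientGroup.mk' (ordCore Pr G)) M
    have h2 : (⊥ : Subgroup (G ⧸ ordCore Pr G)).comap (QuotientGroup.mk' (ordCore Pr G))
        = ordCore Pr G := hker
    rw [h2, Subgroup.relIndex_bot_left, hmap] at h1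
    exact h1
  have hcardM : Nat.card M = Nat.card (ordCore Pr G) * Nat.card (ordCore Pr (G ⧸ ordCore Pr G)) := by
    have := Subgroup.relIndex_mul_relIndex ⊥ (ordCore Pr G) M bot_le hNM
    rw [Subgroup.relIndex_bot_left, Subgroup.relIndex_bot_left, hrel] at this
    exact this.symm
  have hPM : Pr (Nat.card M) := by
    rw [hcardM]
    exact h.mul (card_ordCore h) (card_ordCore h)
  have hMN : M ≤ ordCore Pr G := le_ordCore inferInstance hPM
  rw [← hmap, eq_bot_iff]
  calc M.map (QuotientGroup.mk' (ordCore Pr G))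
      ≤ (ordCore Pr G).map (QuotientGroup.mk' (ordCore Pr G)) := Subgroup.map_mono hMN
    _ = ⊥ := by rw [Subgroup.map_eq_bot_iff, hker]

/-! ### Specialisations to `Cfsg.piCore` and `Cfsg.pPrimeCore` -/

theorem piCore_quotient_eq_bot [Finite G] (π : Set ℕ) :
    Cfsg.piCore π (G ⧸ Cfsg.piCore π G) = ⊥ := by
  have h := ordCore_quotient_eq_bot (G := G) (piPred_ordClass π)
  unfold Cfsg.piCore
  unfold ordCore piPred at h
  exact h

theorem pPrimeCore_quotient_eq_bot [Finite G] (p : ℕ) :
    Cfsg.pPrimeCore p (G ⧸ Cfsg.pPrimeCore p G) = ⊥ := by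
  have h := ordCore_quotient_eq_bot (G := G) (coprimePred_ordClass p)
  unfold Cfsg.pPrimeCore
  unfold ordCore coprimePred at h
  exact h

theorem card_piCore [Finite G] (π : Set ℕ) :
    ∀ q : ℕ, q.Prime → q ∣ Nat.card (Cfsg.piCore π G) → q ∈ π := by
  rw [piCore_eq]
  exact card_ordCore (G := G) (piPred_ordClass π)

theorem card_pPrimeCore_coprime [Finite G] (p : ℕ) : (Nat.card (Cfsg.pPrimeCore p G)).Coprime p := by
  rw [pPrimeCore_eq]
  exact card_ordCore (G := G) (coprimePred_ordClass p)

theorem le_piCore_of_isSubnormal [Finite G] (π : Set ℕ) (H : Subgroup G) (hH : H.IsSubnormal)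
    (hP : ∀ q : ℕ, q.Prime → q ∣ Nat.card H → q ∈ π) : H ≤ Cfsg.piCore π G := by
  rw [piCore_eq]
  exact le_ordCore_of_isSubnormal (piPred_ordClass π) H hH hP

theorem le_pPrimeCore_of_isSubnormal [Finite G] (p : ℕ) (H : Subgroup G) (hH : H.IsSubnormal)
    (hP : (Nat.card H).Coprime p) : H ≤ Cfsg.pPrimeCore p G := by
  rw [pPrimeCore_eq]
  exact le_ordCore_of_isSubnormal (coprimePred_ordClass p) H hH hP

theorem piCore_characteristic [Finite G] (π : Set ℕ) : (Cfsg.piCore π G).Characteristic := by
  rw [piCore_eq]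
  exact ordCore_characteristic (G := G) (piPred_ordClass π)

theorem pPrimeCore_characteristic [Finite G] (p : ℕ) : (Cfsg.pPrimeCore p G).Characteristic := by
  rw [pPrimeCore_eq]
  exact ordCore_characteristic (G := G) (coprimePred_ordClass p)

theorem le_pPrimeCore {p : ℕ} {N : Subgroup G} (hN : N.Normal) (h : (Nat.card N).Coprime p) :
    N ≤ Cfsg.pPrimeCore p G :=
  le_sSup ⟨hN, h⟩

theorem le_piCore {π : Set ℕ} {N : Subgroup G} (hN : N.Normal)
    (h : ∀ q : ℕ, q.Prime → q ∣ Nat.card N → q ∈ π) : N ≤ Cfsg.piCore π G :=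
  le_sSup ⟨hN, h⟩

end Cfsg.Agent.Lib.Helper32_Cores
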