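import Cfsg.Agent.Lib.Helper62_StructureThm
import Cfsg.Agent.Lib.Helper32_Cores
import Cfsg.Agent.Lib.Helper10_QuadPair
import Cfsg.Agent.Lib.Helper10_Thompson
import Mathlib

set_option autoImplicit false
set_option linter.unusedSectionVars false
set_option linter.unusedVariables false

/-!
# Coprime operators on the FF-module structure (helper10)

In the setting of helper62's structure theorem (`Amb p V H`, `H` generated by best offenders), let
a `q`-group `X` (`q ∤ |H|`) normalize `V` and `H`.  Then for every transvection element `a` there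
is an `X`-fixed element of `O_{p'}(H)` not commuting with `a` (`exists_fixed_noncomm`), and
consequently `H` is generated by `C_H(X)` and any Sylow `p`-subgroup (`le_of_fixed_le`).
-/

namespace Cfsg.Agent.Lib.Helper10_FFCoprime

open Cfsg.Agent.Lib.Helper62_Offender Cfsg.Agent.Lib.Helper62_SL2
open Cfsg.Agent.Lib.Helper62_SL2Closure Cfsg.Agent.Lib.Helper62_Structure
open Cfsg.Agent.Lib.Helper62_StructureThm
open Cfsg.Agent.Lib.Helper24_CoprimeAction
open scoped commutatorElement

theorem noncommProd_congr_multiset {β : Type*} [Monoid β] {s t : Multiset β} (h : s = t)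
    (hs : {x | x ∈ s}.Pairwise Commute) (ht : {x | x ∈ t}.Pairwise Commute) :
    s.noncommProd hs = t.noncommProd ht := by
  subst h; rfl

theorem noncommProd_univ_equiv {α β : Type*} [Fintype α] [Monoid β] (e : α ≃ α) (f : α → β)
    (comm : ((Finset.univ : Finset α) : Set α).Pairwise (Function.onFun Commute f))
    (comm' : ((Finset.univ : Finset α) : Set α).Pairwise
      (Function.onFun Commute (fun i => f (e i)))) :
    Finset.univ.noncommProd (fun i => f (e i)) comm' = Finset.univ.noncommProd f comm := by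
  unfold Finset.noncommProd
  apply noncommProd_congr_multiset
  have : (fun i => f (e i)) = f ∘ e := rfl
  rw [this, ← Multiset.map_map, Multiset.map_univ_val_equiv]

variable {G : Type*} [Group G] [Finite G] {p : ℕ} [Fact p.Prime] {V H : Subgroup G}

/-- an element normalizing `H` normalizes the image of `O_{p'}(H)` -/
theorem coreK_map_conj {x : G} (hxH : x ∈ Subgroup.normalizer (H : Set G)) :
    (coreK p H).map (MulAut.conj x).toMonoidHom = coreK p H := by
  have : (Cfsg.pPrimeCore p ↥H).Characteristic :=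
    Cfsg.Agent.Lib.Helper32_Cores.pPrimeCore_characteristic p
  have h := normalizer_le_normalizer_map_of_characteristic H (Cfsg.pPrimeCore p ↥H) hxH
  exact Subgroup.mem_normalizer_iff_map_conj_eq.mp h

theorem isTv_conj' {a : G} (ha : IsTv p V H a) {x : G}
    (hxV : x ∈ Subgroup.normalizer (V : Set G)) (hxH : x ∈ Subgroup.normalizer (H : Set G)) :
    IsTv p V H (x * a * x⁻¹) where
  mem := (Subgroup.mem_normalizer_iff.mp hxH a).mp ha.mem
  pow := by rw [conj_pow, ha.pow]; group
  card := by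
    rw [commutator_zpowers_conj V x a hxV,
      Subgroup.card_map_of_injective (MulAut.conj x).injective, ha.card]

theorem E_conj' (a : G) {x : G} (hxH : x ∈ Subgroup.normalizer (H : Set G)) :
    E p H (x * a * x⁻¹) = (E p H a).map (MulAut.conj x).toMonoidHom := by
  unfold E
  rw [Subgroup.map_sup, Subgroup.map_commutator, coreK_map_conj hxH, MonoidHom.map_zpowers]
  rfl

/-- counting lemma: a `q`-element normalizing a group `W` of order `p²`, where `q` divides none of
`p`, `p² - 1`, centralizes `W`. -/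
theorem centralizes_of_card_sq {q : ℕ} [Fact q.Prime] (W : Subgroup G)
    (hW : Nat.card W = p ^ 2) (hqp : ¬ q ∣ p) (hq1 : ¬ q ∣ p ^ 2 - 1)
    {x : G} {k : ℕ} (hxq : x ^ (q ^ k) = 1)
    (hxW : x ∈ Subgroup.normalizer (W : Set G)) :
    x ∈ Subgroup.centralizer (W : Set G) := by
  classical
  have hp := (Fact.out : p.Prime)
  have hq := (Fact.out : q.Prime)
  have := Fintype.ofFinite ↥W
  let f : Function.End ↥W := fun w => ⟨x * w * x⁻¹, (Subgroup.mem_normalizer_iff.mp hxW w).mp w.2⟩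
  have hfn : ∀ (n : ℕ) (w : ↥W), (((f ^ n) w : ↥W) : G) = x ^ n * w * (x ^ n)⁻¹ := by
    intro n
    induction n with
    | zero =>
      intro w
      rw [pow_zero, pow_zero]
      show (w : G) = 1 * w * 1⁻¹
      group
    | succ n ih =>
      intro w
      rw [pow_succ]
      show (((f ^ n) (f w) : ↥W) : G) = _
      rw [ih]
      show x ^ n * (x * w * x⁻¹) * (x ^ n)⁻¹ = _
      rw [pow_succ]
      group
  have hf : f ^ q ^ k = 1 := by
    funext w
    apply Subtype.ext
    rw [hfn, hxq]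
    show 1 * (w : G) * 1⁻¹ = w
    group
  have hmod := Equiv.Perm.card_fixedPoints_modEq (f := f) (p := q) (n := k) hf
  set F : Subgroup ↥W := (Subgroup.centralizer {x}).subgroupOf W with hF
  have hFcard : Fintype.card (Function.fixedPoints f) = Nat.card F := by
    rw [Nat.card_eq_fintype_card]
    apply Fintype.card_congr
    refine Equiv.subtypeEquivRight ?_
    intro w
    rw [Function.mem_fixedPoints, Function.IsFixedPt, hF, Subgroup.mem_subgroupOf,
      Subgroup.mem_centralizer_singleton_iff]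
    constructor
    · intro h
      have h1 : x * (w : G) * x⁻¹ = w := congrArg Subtype.val h
      symm
      calc x * (w : G) = x * w * x⁻¹ * x := by group
        _ = w * x := by rw [h1]
    · intro h
      apply Subtype.ext
      show x * (w : G) * x⁻¹ = w
      rw [← h]; group
  rw [hFcard, ← Nat.card_eq_fintype_card, hW] at hmod
  have hdvd : Nat.card F ∣ p ^ 2 := hW ▸ Subgroup.card_subgroup_dvd_card F
  obtain ⟨j, hj, hjc⟩ := (Nat.dvd_prime_pow hp).mp hdvd
  have hj2 : j = 2 := by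
    by_contra hne
    have hjlt : j < 2 := lt_of_le_of_ne hj hne
    have hle : p ^ j ≤ p ^ 2 := Nat.pow_le_pow_right hp.pos hj
    have hd : q ∣ p ^ 2 - p ^ j := by
      rw [hjc] at hmod
      exact (Nat.modEq_iff_dvd' hle).mp hmod.symm
    interval_cases j
    · rw [pow_zero] at hd
      exact hq1 hd
    · rw [pow_one] at hd
      have h1 : p ^ 2 - p = p * (p - 1) := by
        rw [Nat.mul_sub, mul_one, sq]
      rw [h1] at hd
      rcases (Nat.Prime.dvd_mul hq).mp hd with h | h
      · exact hqp h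
      · apply hq1
        have h2 : p ^ 2 - 1 = (p - 1) * (p + 1) := by
          have : 1 ≤ p := hp.pos
          zify [this, Nat.one_le_pow 2 p hp.pos]
          ring
        rw [h2]
        exact h.mul_right _
  have hFtop : F = ⊤ := by
    apply Subgroup.eq_top_of_card_eq
    rw [hjc, hj2, hW]
  rw [Subgroup.mem_centralizer_iff]
  intro w hw
  have : (⟨w, hw⟩ : ↥W) ∈ F := by rw [hFtop]; exact Subgroup.mem_top _
  rw [hF, Subgroup.mem_subgroupOf, Subgroup.mem_centralizer_singleton_iff] at this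
  exact this

/-- numerical facts: `p ∣ |H|` and `p² - 1 ∣ |H|` when a transvection element exists -/
theorem dvd_card_of_tv (amb : Amb p V H) {a : G} (ha : IsTv p V H a) :
    p ∣ Nat.card H ∧ p ^ 2 - 1 ∣ Nat.card H := by
  constructor
  · rw [← ha.orderOf]
    exact Subgroup.orderOf_dvd_natCard H ha.mem
  · obtain ⟨x, hx, hxa⟩ := exists_noncomm amb ha
    rw [← card_commutator V H amb.hV amb.hHV amb.hf a x ha.mem hx ha.pow ha.card hxa]
    apply Subgroup.card_dvd_of_le
    exact (commutator_le_of_le_normalizer _ _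
      (Subgroup.zpowers_le.mpr (le_normalizer_coreK H ha.mem))).trans (coreK_le H)

/-- a `q`-element normalizing `V` and `E a` centralizes `[V, E a]` and `E a` -/
theorem centralizes_of_normalizes (amb : Amb p V H) {a : G} (ha : IsTv p V H a) {q : ℕ}
    [Fact q.Prime] (hq : ¬ q ∣ Nat.card H) {x : G} {k : ℕ} (hxq : x ^ (q ^ k) = 1)
    (hxV : x ∈ Subgroup.normalizer (V : Set G))
    (hxE : x ∈ Subgroup.normalizer ((E p H a : Subgroup G) : Set G)) :
    x ∈ Subgroup.centralizer ((⁅V, E p H a⁆ : Subgroup G) : Set G) ∧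
    x ∈ Subgroup.centralizer ((E p H a : Subgroup G) : Set G) := by
  obtain ⟨hpH, hp1H⟩ := dvd_card_of_tv amb ha
  obtain ⟨-, hcardW, hEW, -, -, -, -⟩ := E_facts amb ha
  have hEH : E p H a ≤ H := E_le ha.mem
  have hxW : x ∈ Subgroup.normalizer ((⁅V, E p H a⁆ : Subgroup G) : Set G) :=
    mem_normalizer_commutator V _ hxV hxE
  have hcW := centralizes_of_card_sq _ hcardW (fun h => hq (h.trans hpH))
    (fun h => hq (h.trans hp1H)) hxq hxW
  refine ⟨hcW, ?_⟩
  rw [Subgroup.mem_centralizer_iff]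
  intro e he
  have hxe : x * e * x⁻¹ ∈ E p H a := (Subgroup.mem_normalizer_iff.mp hxE e).mp he
  have heW : e ∈ Subgroup.normalizer ((⁅V, E p H a⁆ : Subgroup G) : Set G) :=
    mem_normalizer_commutator V _ (amb.hHV (hEH he)) (Subgroup.le_normalizer he)
  have h1 : e⁻¹ * (x * e * x⁻¹) ∈
      E p H a ⊓ Subgroup.centralizer ((⁅V, E p H a⁆ : Subgroup G) : Set G) := by
    refine Subgroup.mem_inf.mpr ⟨Subgroup.mul_mem _ (Subgroup.inv_mem _ he) hxe, ?_⟩
    rw [Subgroup.mem_centralizer_iff]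
    intro w hw
    have a1 : x⁻¹ * w * x = w := by
      have := Subgroup.mem_centralizer_iff.mp hcW w hw
      calc x⁻¹ * w * x = x⁻¹ * (w * x) := by group
        _ = x⁻¹ * (x * w) := by rw [this]
        _ = w := by group
    have hw2 : e * w * e⁻¹ ∈ ⁅V, E p H a⁆ := (Subgroup.mem_normalizer_iff.mp heW w).mp hw
    have a2 : x * (e * w * e⁻¹) * x⁻¹ = e * w * e⁻¹ := by
      have := Subgroup.mem_centralizer_iff.mp hcW _ hw2
      calc x * (e * w * e⁻¹) * x⁻¹ = (x * (e * w * e⁻¹)) * x⁻¹ := by group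
        _ = ((e * w * e⁻¹) * x) * x⁻¹ := by rw [this]
        _ = e * w * e⁻¹ := by group
    have a3 : (e⁻¹ * (x * e * x⁻¹)) * w * (e⁻¹ * (x * e * x⁻¹))⁻¹ = w := by
      calc (e⁻¹ * (x * e * x⁻¹)) * w * (e⁻¹ * (x * e * x⁻¹))⁻¹
          = e⁻¹ * (x * (e * (x⁻¹ * w * x) * e⁻¹) * x⁻¹) * e := by group
        _ = e⁻¹ * (e * w * e⁻¹) * e := by rw [a1, a2]
        _ = w := by group
    calc w * (e⁻¹ * (x * e * x⁻¹))
        = ((e⁻¹ * (x * e * x⁻¹)) * w * (e⁻¹ * (x * e * x⁻¹))⁻¹) * (e⁻¹ * (x * e * x⁻¹)) := by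
          rw [a3]
      _ = (e⁻¹ * (x * e * x⁻¹)) * w := by group
  rw [hEW, Subgroup.mem_bot] at h1
  calc e * x = e * (e⁻¹ * (x * e * x⁻¹)) * x := by rw [h1, mul_one]
    _ = x * e := by group

/-- transvection elements outside `E a` give commuting `E`'s -/
theorem E_le_centralizer_of_not_mem (amb : Amb p V H)
    (hS3 : H = ⨆ A : {A : Subgroup G // A ≤ H ∧ Cfsg.IsBestOffenderOn p V A}, (A : Subgroup G))
    (hH1 : H ≠ ⊥) {a b : G} (ha : IsTv p V H a) (hb : IsTv p V H b) (hne : b ∉ E p H a) :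
    E p H b ≤ Subgroup.centralizer ((E p H a : Subgroup G) : Set G) := by
  have hne' : E p H b ≠ E p H a := fun h => hne (h ▸ self_mem_E b)
  have h1 := E_le_centralizer amb ha hb hne'
  obtain ⟨-, -, -, -, -, h2⟩ := structure_one amb hS3 hH1 ha
  exact h1.trans h2

/-- an element of `O_{p'}(H) ∩ E a` not commuting with `a` -/
theorem exists_noncomm_in_E (amb : Amb p V H) {a : G} (ha : IsTv p V H a) :
    ∃ c ∈ coreK p H, c ∈ E p H a ∧ c * a ≠ a * c := by
  obtain ⟨c₀, hc₀, hc₀a⟩ := exists_noncomm amb ha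
  have hanorm := le_normalizer_coreK (p := p) H ha.mem
  have hcK : ⁅c₀, a⁆ ∈ coreK p H := by
    have h1 : a * c₀⁻¹ * a⁻¹ ∈ coreK p H :=
      (Subgroup.mem_normalizer_iff.mp hanorm c₀⁻¹).mp (Subgroup.inv_mem _ hc₀)
    have h2 : ⁅c₀, a⁆ = c₀ * (a * c₀⁻¹ * a⁻¹) := by rw [commutatorElement_def]; group
    rw [h2]
    exact Subgroup.mul_mem _ hc₀ h1
  have hcE : ⁅c₀, a⁆ ∈ E p H a :=
    (le_sup_left : ⁅coreK p H, Subgroup.zpowers a⁆ ≤ E p H a)
      (Subgroup.commutator_mem_commutator hc₀ (Subgroup.mem_zpowers a))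
  refine ⟨⁅c₀, a⁆, hcK, hcE, ?_⟩
  intro hcomm
  -- then `b = c₀ a c₀⁻¹ = ⁅c₀, a⁆ * a` commutes with `a`, so `E a` is elementary abelian
  have hb : c₀ * a * c₀⁻¹ = ⁅c₀, a⁆ * a := by rw [commutatorElement_def]; group
  have hab : a * (c₀ * a * c₀⁻¹) = (c₀ * a * c₀⁻¹) * a := by
    rw [hb, ← mul_assoc, ← hcomm, mul_assoc]
  have hEeq := commutator_sup_eq V H amb.hV amb.hHV amb.hf a c₀ ha.mem hc₀ ha.pow ha.card hc₀a
  have hea : Cfsg.IsElementaryAbelian p
      (Subgroup.zpowers a ⊔ Subgroup.zpowers (c₀ * a * c₀⁻¹)) := by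
    apply Cfsg.Agent.Lib.Helper10_Thompson.isElementaryAbelian_sup
      (Cfsg.Agent.Lib.Helper10_Thompson.isElementaryAbelian_zpowers ha.pow)
      (Cfsg.Agent.Lib.Helper10_Thompson.isElementaryAbelian_zpowers
        (by rw [conj_pow, ha.pow]; group))
    intro x hx y hy
    obtain ⟨i, rfl⟩ := Subgroup.mem_zpowers_iff.mp hx
    obtain ⟨j, rfl⟩ := Subgroup.mem_zpowers_iff.mp hy
    exact ((Commute.zpow_zpow (show Commute a (c₀ * a * c₀⁻¹) from hab) i j)).eq
  have hcp : ⁅c₀, a⁆ ^ p = 1 := hea.2 _ (by rw [← hEeq]; exact hcE)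
  have hc1 : ⁅c₀, a⁆ = 1 :=
    Cfsg.Agent.Lib.Helper10_QuadPair.eq_one_of_pow_of_mem_coprime (coreK p H)
      (coreK_coprime H) _ hcK 1 (by rw [pow_one]; exact hcp)
  apply hc₀a
  rw [commutatorElement_eq_one_iff_mul_comm] at hc1
  exact hc1

/-- **Fixed points not commuting with a transvection element.** If a `q`-group `X` (`q ∤ |H|`)
normalizes `V` and `H`, then for every transvection element `a` some element of
`O_{p'}(H) ∩ C(X)` does not commute with `a`. -/
theorem exists_fixed_noncomm (amb : Amb p V H)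
    (hS3 : H = ⨆ A : {A : Subgroup G // A ≤ H ∧ Cfsg.IsBestOffenderOn p V A}, (A : Subgroup G))
    (hH1 : H ≠ ⊥) {a : G} (ha : IsTv p V H a) {q : ℕ} [Fact q.Prime]
    (hq : ¬ q ∣ Nat.card H) (X : Subgroup G) (hXq : IsPGroup q X)
    (hXV : X ≤ Subgroup.normalizer (V : Set G)) (hXH : X ≤ Subgroup.normalizer (H : Set G)) :
    ∃ d ∈ coreK p H, (∀ x ∈ X, x * d = d * x) ∧ d * a ≠ a * d := by
  classical
  have hqp := (Fact.out : q.Prime)
  have := Fintype.ofFinite ↥X
  obtain ⟨c, hcK, hcE, hca⟩ := exists_noncomm_in_E amb ha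
  let f : ↥X → G := fun x => (x : G) * c * (x : G)⁻¹
  -- dichotomy
  have hdich : ∀ x : ↥X, ((x : G) ∈ Subgroup.normalizer ((E p H a : Subgroup G) : Set G) →
      f x = c) ∧ ((x : G) ∉ Subgroup.normalizer ((E p H a : Subgroup G) : Set G) →
      ∀ e ∈ E p H a, f x * e = e * f x) := by
    intro x
    constructor
    · intro hxE
      obtain ⟨k, hk⟩ := hXq x
      have hk' : (x : G) ^ (q ^ k) = 1 := by
        have := congrArg Subtype.val hk
        simpa using this
      have h := (centralizes_of_normalizes amb ha hq hk' (hXV x.2) hxE).2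
      have h1 := Subgroup.mem_centralizer_iff.mp h c hcE
      show (x : G) * c * (x : G)⁻¹ = c
      rw [← h1]; group
    · intro hxE e he
      have hax := isTv_conj' ha (hXV x.2) (hXH x.2)
      have hnot : (x : G) * a * (x : G)⁻¹ ∉ E p H a := by
        intro hmem
        apply hxE
        have h1 := E_eq_of_mem amb ha hax hmem
        rw [E_conj' a (hXH x.2)] at h1
        exact Subgroup.mem_normalizer_iff_map_conj_eq.mpr h1
      have h2 := E_le_centralizer_of_not_mem amb hS3 hH1 ha hax hnot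
      have h3 : f x ∈ E p H ((x : G) * a * (x : G)⁻¹) := by
        rw [E_conj' a (hXH x.2)]
        exact ⟨c, hcE, rfl⟩
      exact (Subgroup.mem_centralizer_iff.mp (h2 h3) e he).symm
  have hcomm_c : ∀ x : ↥X, Commute c (f x) := by
    intro x
    by_cases hx : (x : G) ∈ Subgroup.normalizer ((E p H a : Subgroup G) : Set G)
    · rw [(hdich x).1 hx]
    · exact ((hdich x).2 hx c hcE).symm
  have hcomm : ((Finset.univ : Finset ↥X) : Set ↥X).Pairwise (Function.onFun Commute f) := by
    intro x _ y _ _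
    show Commute (f x) (f y)
    have h1 : f x = (x : G) * c * (x : G)⁻¹ := rfl
    have h2 : f y = (x : G) * f (x⁻¹ * y) * (x : G)⁻¹ := by
      show (y : G) * c * (y : G)⁻¹ = (x : G) * (((x⁻¹ * y : ↥X) : G) * c *
        ((x⁻¹ * y : ↥X) : G)⁻¹) * (x : G)⁻¹
      push_cast
      group
    rw [h1, h2]
    have := hcomm_c (x⁻¹ * y)
    exact this.conj (x : G)
  set d := Finset.univ.noncommProd f hcomm with hd
  have hdK : d ∈ coreK p H := by
    apply Subgroup.noncommProd_mem
    intro x _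
    have h1 := coreK_map_conj (p := p) (hXH x.2)
    rw [← h1]
    exact ⟨c, hcK, rfl⟩
  -- invariance
  have hdX : ∀ x ∈ X, x * d = d * x := by
    intro x₀ hx₀
    have h1 : (MulAut.conj x₀) d = d := by
      rw [hd, Finset.map_noncommProd]
      have h2 : ∀ i : ↥X, (MulAut.conj x₀) (f i) = f (Equiv.mulLeft (⟨x₀, hx₀⟩ : ↥X) i) := by
        intro i
        show x₀ * ((i : G) * c * (i : G)⁻¹) * x₀⁻¹ =
          (((⟨x₀, hx₀⟩ : ↥X) * i : ↥X) : G) * c * (((⟨x₀, hx₀⟩ : ↥X) * i : ↥X) : G)⁻¹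
        push_cast
        group
      have hcomm' : ((Finset.univ : Finset ↥X) : Set ↥X).Pairwise
          (Function.onFun Commute (fun i => f (Equiv.mulLeft (⟨x₀, hx₀⟩ : ↥X) i))) := by
        intro x _ y _ hxy
        exact hcomm (Finset.mem_coe.mpr (Finset.mem_univ _)) (Finset.mem_coe.mpr (Finset.mem_univ _))
          (fun h => hxy ((Equiv.mulLeft (⟨x₀, hx₀⟩ : ↥X)).injective h))
      rw [← noncommProd_univ_equiv (Equiv.mulLeft (⟨x₀, hx₀⟩ : ↥X)) f hcomm hcomm']
      exact Finset.noncommProd_congr rfl (fun i _ => h2 i) _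
    rw [MulAut.conj_apply] at h1
    calc x₀ * d = x₀ * d * x₀⁻¹ * x₀ := by group
      _ = d * x₀ := by rw [h1]
  refine ⟨d, hdK, hdX, ?_⟩
  -- splitting
  intro hda
  set s := (Finset.univ : Finset ↥X).filter
    (fun x : ↥X => (x : G) ∈ Subgroup.normalizer ((E p H a : Subgroup G) : Set G)) with hs
  set t := (Finset.univ : Finset ↥X).filter
    (fun x : ↥X => ¬ (x : G) ∈ Subgroup.normalizer ((E p H a : Subgroup G) : Set G)) with ht
  have hst : s ∪ t = Finset.univ := Finset.filter_union_filter_not_eq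
    (fun x : ↥X => (x : G) ∈ Subgroup.normalizer ((E p H a : Subgroup G) : Set G)) Finset.univ
  have hdisj : Disjoint s t := Finset.disjoint_filter_filter_not _ _ _
  have hcomm2 : ((s ∪ t : Finset ↥X) : Set ↥X).Pairwise (Function.onFun Commute f) := by
    rw [hst]; exact hcomm
  have e1 : d = (s ∪ t).noncommProd f hcomm2 :=
    (Finset.noncommProd_congr hst (fun _ _ => rfl) hcomm2).symm
  rw [Finset.noncommProd_union_of_disjoint hdisj] at e1
  have e2 : s.noncommProd f (hcomm2.mono (by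
      intro x hx; exact Finset.mem_coe.mpr (Finset.mem_union_left _ (Finset.mem_coe.mp hx)))) =
      c ^ s.card := by
    apply Finset.noncommProd_eq_pow_card
    intro x hx
    exact (hdich x).1 (Finset.mem_filter.mp hx).2
  have e3 : Commute a (t.noncommProd f (hcomm2.mono (by
      intro x hx; exact Finset.mem_coe.mpr (Finset.mem_union_right _ (Finset.mem_coe.mp hx))))) := by
    apply Finset.noncommProd_commute
    intro x hx
    exact ((hdich x).2 (Finset.mem_filter.mp hx).2 a (self_mem_E a)).symm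
  rw [e2] at e1
  set r := t.noncommProd f _ with hr
  -- `c ^ |s|` commutes with `a`
  have h4 : c ^ s.card * a = a * c ^ s.card := by
    have h5 : c ^ s.card * r * a = a * (c ^ s.card * r) := by rw [← e1]; exact hda
    have h6 : r * a = a * r := e3.eq.symm
    calc c ^ s.card * a = c ^ s.card * (a * r) * r⁻¹ := by group
      _ = (c ^ s.card * r * a) * r⁻¹ := by rw [← h6]; group
      _ = a * (c ^ s.card * r) * r⁻¹ := by rw [h5]
      _ = a * c ^ s.card := by group
  -- `|s|` is a power of `q`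
  have hscard : s.card = Nat.card ↥((Subgroup.normalizer ((E p H a : Subgroup G) : Set G)).subgroupOf X) := by
    rw [Nat.card_eq_fintype_card, hs]
    exact (Fintype.card_subtype _).symm
  obtain ⟨n, hn⟩ := hXq.exists_card_eq
  have hsdvd : s.card ∣ q ^ n := by
    rw [hscard, ← hn]
    exact Subgroup.card_subgroup_dvd_card _
  obtain ⟨j, -, hj⟩ := (Nat.dvd_prime_pow hqp).mp hsdvd
  have hcop : (s.card).Coprime (orderOf c) := by
    rw [hj]
    apply Nat.Coprime.pow_left
    rw [Nat.Prime.coprime_iff_not_dvd hqp]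
    intro h
    exact hq (h.trans (Subgroup.orderOf_dvd_natCard H (coreK_le H hcK)))
  obtain ⟨m, hm⟩ := exists_pow_eq_self_of_coprime hcop
  apply hca
  rw [← hm]
  exact ((Commute.pow_left (show Commute (c ^ s.card) a from h4) m)).eq

/-- conjugating a `p`-element of `H` into a `p`-subgroup `T` of `p'`-index in `H` -/
theorem exists_conj_mem_of_relIndex (T : Subgroup G) (hTH : T ≤ H) (hTp : IsPGroup p T)
    (hTi : ¬ p ∣ T.relIndex H) {b : G} (hb : b ∈ H) {k : ℕ} (hbp : b ^ (p ^ k) = 1) :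
    ∃ h ∈ H, h * b * h⁻¹ ∈ T := by
  have hT₀ : IsPGroup p (T.subgroupOf H) := hTp.comap_subtype
  let P : Sylow p ↥H := hT₀.toSylow hTi
  have hP : (P : Subgroup ↥H) = T.subgroupOf H := IsPGroup.toSylow_coe _ _
  have hQ : IsPGroup p (Subgroup.zpowers (⟨b, hb⟩ : ↥H)) := by
    rintro ⟨x, hx⟩
    obtain ⟨n, rfl⟩ := Subgroup.mem_zpowers_iff.mp hx
    refine ⟨k, Subtype.ext ?_⟩
    have hb' : (⟨b, hb⟩ : ↥H) ^ (p ^ k) = 1 := Subtype.ext (by simpa using hbp)
    show ((⟨b, hb⟩ : ↥H) ^ n) ^ (p ^ k) = 1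
    rw [← zpow_natCast, ← zpow_mul, mul_comm, zpow_mul, zpow_natCast, hb', one_zpow]
  obtain ⟨Q', hQ'⟩ := hQ.exists_le_sylow
  obtain ⟨g, hg⟩ := MulAction.exists_smul_eq ↥H Q' P
  refine ⟨g, g.2, ?_⟩
  have h1 : g * ⟨b, hb⟩ * g⁻¹ ∈ ((g • Q' : Sylow p ↥H) : Subgroup ↥H) := by
    rw [Sylow.coe_subgroup_smul, Subgroup.pointwise_smul_def]
    exact ⟨⟨b, hb⟩, hQ' (Subgroup.mem_zpowers _), rfl⟩
  rw [hg, hP, Subgroup.mem_subgroupOf] at h1
  exact h1

/-- **Generation by fixed points and a Sylow subgroup.** -/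
theorem le_of_fixed_le (amb : Amb p V H)
    (hS3 : H = ⨆ A : {A : Subgroup G // A ≤ H ∧ Cfsg.IsBestOffenderOn p V A}, (A : Subgroup G))
    (hH1 : H ≠ ⊥) {q : ℕ} [Fact q.Prime]
    (hq : ¬ q ∣ Nat.card H) (X : Subgroup G) (hXq : IsPGroup q X)
    (hXV : X ≤ Subgroup.normalizer (V : Set G)) (hXH : X ≤ Subgroup.normalizer (H : Set G))
    (M : Subgroup G) (hXM : H ⊓ Subgroup.centralizer (X : Set G) ≤ M)
    (T : Subgroup G) (hTH : T ≤ H) (hTp : IsPGroup p T) (hTi : ¬ p ∣ T.relIndex H)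
    (hTM : T ≤ M) : H ≤ M := by
  apply le_of_tv_mem amb hS3 hH1
  intro b hb
  obtain ⟨h, hh, hhb⟩ := exists_conj_mem_of_relIndex T hTH hTp hTi hb.mem (k := 1)
    (by rw [pow_one]; exact hb.pow)
  have ha : IsTv p V H (h * b * h⁻¹) := hb.conj amb hh
  have hEab : E p H (h * b * h⁻¹) = E p H b := by
    rw [E_conj' b (Subgroup.le_normalizer hh)]
    obtain ⟨-, -, -, -, hnorm, -⟩ := structure_one amb hS3 hH1 hb
    exact Subgroup.mem_normalizer_iff_map_conj_eq.mp (hnorm hh)
  obtain ⟨d, hdK, hdX, hda⟩ := exists_fixed_noncomm amb hS3 hH1 ha hq X hXq hXV hXH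
  have hdM : d ∈ M :=
    hXM (Subgroup.mem_inf.mpr ⟨coreK_le H hdK, Subgroup.mem_centralizer_iff.mpr hdX⟩)
  have haM : h * b * h⁻¹ ∈ M := hTM hhb
  have hE : E p H (h * b * h⁻¹) ≤ M := by
    unfold E
    rw [commutator_sup_eq V H amb.hV amb.hHV amb.hf _ d ha.mem hdK ha.pow ha.card hda]
    exact sup_le (Subgroup.zpowers_le.mpr haM)
      (Subgroup.zpowers_le.mpr (M.mul_mem (M.mul_mem hdM haM) (M.inv_mem hdM)))
  exact hE (hEab ▸ self_mem_E b)

end Cfsg.Agent.Lib.Helper10_FFCoprime
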