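import Mathlib
import Cfsg.Prelude.Def_Local

/-!
Basic API for `Cfsg.IsPSolvable` (helper32): quotients, and a nontrivial `p`-solvable group has
`O_{p'}(G) ≠ 1` or `O_p(G) ≠ 1`.
-/

set_option autoImplicit false

namespace Cfsg.Agent.Lib.Helper32_PSolvable

open Subgroup

variable {G : Type*} [Group G]

/-- For normal `H ≤ K` and normal `N`, `|KN : HN|` divides `|K : H|`. -/
theorem relIndex_sup_dvd (H K N : Subgroup G) [H.Normal] [N.Normal] (hHK : H ≤ K) :
    (H ⊔ N).relIndex (K ⊔ N) ∣ H.relIndex K := by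
  have h1 : K ⊔ N = K ⊔ (H ⊔ N) := by
    rw [← sup_assoc, sup_eq_left.mpr hHK]
  rw [h1, relIndex_sup_right]
  exact relIndex_dvd_of_le_left K (le_sup_left : H ≤ H ⊔ N)

theorem relIndex_map_dvd {G' : Type*} [Group G'] (f : G →* G') (H K : Subgroup G) [H.Normal]
    (hHK : H ≤ K) : (H.map f).relIndex (K.map f) ∣ H.relIndex K := by
  rw [relIndex_map_map]
  exact relIndex_sup_dvd H K f.ker hHK

/-- A quotient of a `p`-solvable group is `p`-solvable. -/
theorem isPSolvable_of_surjective {p : ℕ} [hp : Fact p.Prime] {G' : Type*} [Group G'] (f : G →* G')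
    (hf : Function.Surjective f) (h : Cfsg.IsPSolvable p G) : Cfsg.IsPSolvable p G' := by
  obtain ⟨n, H, h0, hlast, hmono, hnorm, hstep⟩ := h
  refine ⟨n, fun i => (H i).map f, ?_, ?_, ?_, ?_, ?_⟩
  · simp only [h0, Subgroup.map_bot]
  · simp only [hlast]
    exact Subgroup.map_top_of_surjective f hf
  · intro i j hij
    exact Subgroup.map_mono (hmono hij)
  · intro i
    exact (hnorm i).map f hf
  · intro i
    have := hnorm i.castSucc
    have hle : H i.castSucc ≤ H i.succ := hmono (Fin.castSucc_le_succ i)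
    have hdvd := relIndex_map_dvd f (H i.castSucc) (H i.succ) hle
    rcases hstep i with ⟨m, hm⟩ | hc
    · left
      rw [hm] at hdvd
      obtain ⟨m', -, hm'⟩ := (Nat.dvd_prime_pow hp.out).mp hdvd
      exact ⟨m', hm'⟩
    · right
      exact Nat.Coprime.coprime_dvd_left hdvd hc

theorem isPSolvable_quotient {p : ℕ} [Fact p.Prime] (N : Subgroup G) [N.Normal]
    (h : Cfsg.IsPSolvable p G) : Cfsg.IsPSolvable p (G ⧸ N) :=
  isPSolvable_of_surjective (QuotientGroup.mk' N) (QuotientGroup.mk'_surjective N) h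

/-- A nontrivial `p`-solvable group has a nontrivial normal `p'`-subgroup or a nontrivial normal
`p`-subgroup. -/
theorem exists_core_ne_bot {p : ℕ} [Fact p.Prime] [Nontrivial G] (h : Cfsg.IsPSolvable p G) :
    Cfsg.pPrimeCore p G ≠ ⊥ ∨ Cfsg.pCore p G ≠ ⊥ := by
  obtain ⟨n, H, h0, hlast, hmono, hnorm, hstep⟩ := h
  by_contra hcon
  push Not at hcon
  obtain ⟨hc1, hc2⟩ := hcon
  have key : ∀ i : ℕ, ∀ hi : i < n + 1, H ⟨i, hi⟩ = ⊥ := by
    intro i
    induction i with
    | zero => intro hi; exact h0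
    | succ i ih =>
      intro hi
      have hi' : i < n := by omega
      have hprev := ih (by omega)
      have hs := hstep ⟨i, hi'⟩
      have e1 : (⟨i, hi'⟩ : Fin n).castSucc = ⟨i, by omega⟩ := rfl
      have e2 : (⟨i, hi'⟩ : Fin n).succ = ⟨i + 1, hi⟩ := rfl
      rw [e1, e2, hprev, relIndex_bot_left] at hs
      have hn := hnorm ⟨i + 1, hi⟩
      rcases hs with ⟨m, hm⟩ | hc
      · have hpg : IsPGroup p (H ⟨i + 1, hi⟩) := IsPGroup.of_card hm
        have hle : H ⟨i + 1, hi⟩ ≤ Cfsg.pCore p G := le_sSup ⟨hn, hpg⟩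
        rw [hc2] at hle
        exact eq_bot_iff.mpr hle
      · have hle : H ⟨i + 1, hi⟩ ≤ Cfsg.pPrimeCore p G := le_sSup ⟨hn, hc⟩
        rw [hc1] at hle
        exact eq_bot_iff.mpr hle
  have := key n (by omega)
  have hl : (⟨n, by omega⟩ : Fin (n + 1)) = Fin.last n := rfl
  rw [hl, hlast] at this
  exact top_ne_bot this

end Cfsg.Agent.Lib.Helper32_PSolvable
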