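import Cfsg.Agent.Lib.Helper47_SubAPI

set_option autoImplicit false

namespace Cfsg.Agent.Lib.Helper47_PClosed

open Cfsg
open Cfsg.Agent.Lib.Helper47_PLocal Cfsg.Agent.Lib.Helper47_PReduced Cfsg.Agent.Lib.Helper47_SubAPI
open scoped commutatorElement Pointwise

variable {G : Type*} [Group G] {p : ℕ}

/-! ### `p`-elements -/

theorem zpowers_isPGroup_of_pow_eq_one {g : G} {k : ℕ} (hg : g ^ (p ^ k) = 1) :
    IsPGroup p (Subgroup.zpowers g) := by
  rintro ⟨x, hx⟩
  obtain ⟨n, rfl⟩ := Subgroup.mem_zpowers_iff.mp hx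
  refine ⟨k, Subtype.ext ?_⟩
  show (g ^ n) ^ (p ^ k) = 1
  rw [← zpow_natCast, ← zpow_mul, mul_comm, zpow_mul, zpow_natCast, hg, one_zpow]

theorem exists_pow_eq_one_of_mem {P : Subgroup G} (hP : IsPGroup p P) {g : G} (hg : g ∈ P) :
    ∃ k : ℕ, g ^ (p ^ k) = 1 := by
  obtain ⟨k, hk⟩ := hP ⟨g, hg⟩
  exact ⟨k, by simpa using congrArg Subtype.val hk⟩

/-- A `p`-element lies in some Sylow `p`-subgroup. -/
theorem exists_sylow_mem_of_pow_eq_one {g : G} {k : ℕ} (hg : g ^ (p ^ k) = 1) :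
    ∃ P : Sylow p G, g ∈ P := by
  obtain ⟨P, hP⟩ := (zpowers_isPGroup_of_pow_eq_one hg).exists_le_sylow
  exact ⟨P, hP (Subgroup.mem_zpowers g)⟩

/-! ### `p`-closed groups -/

theorem isPClosed_iff_forall_mem_pCore [Finite G] [Fact p.Prime] :
    Cfsg.IsPClosed p G ↔ ∀ g : G, (∃ k : ℕ, g ^ (p ^ k) = 1) → g ∈ Cfsg.pCore p G := by
  constructor
  · rintro h g ⟨k, hk⟩
    obtain ⟨P, hP⟩ := exists_sylow_mem_of_pow_eq_one hk
    exact le_pCore (h P) P.isPGroup' hP
  · intro h P
    have h1 : (P : Subgroup G) ≤ Cfsg.pCore p G := fun g hg =>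
      h g (exists_pow_eq_one_of_mem P.isPGroup' hg)
    have h2 : (P : Subgroup G) = Cfsg.pCore p G := le_antisymm h1 (pCore_le_sylow P)
    rw [h2]
    infer_instance

/-- `p`-closedness of a subgroup, stated in the ambient group. -/
theorem isPClosed_subgroup_iff [Finite G] [Fact p.Prime] (N : Subgroup G) :
    Cfsg.IsPClosed p N ↔ ∀ g ∈ N, (∃ k : ℕ, g ^ (p ^ k) = 1) → g ∈ Cfsg.pCoreOf p N := by
  rw [isPClosed_iff_forall_mem_pCore]
  constructor
  · rintro h g hg ⟨k, hk⟩
    have := h ⟨g, hg⟩ ⟨k, Subtype.ext (by simpa using hk)⟩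
    exact Subgroup.mem_map.mpr ⟨⟨g, hg⟩, this, rfl⟩
  · rintro h g ⟨k, hk⟩
    have hk' : (g : G) ^ (p ^ k) = 1 := by simpa using congrArg Subtype.val hk
    obtain ⟨y, hy, hyg⟩ := Subgroup.mem_map.mp (h g g.2 ⟨k, hk'⟩)
    have : y = g := Subtype.ext hyg
    rwa [this] at hy

/-- If `M` normalizes `N` then `M` normalizes `O_p(N)`. -/
theorem le_normalizer_pCoreOf_of_le_normalizer {M N : Subgroup G}
    (h : M ≤ Subgroup.normalizer (N : Set G)) :
    M ≤ Subgroup.normalizer ((Cfsg.pCoreOf p N : Subgroup G) : Set G) := by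
  have key : ∀ g ∈ M, (Cfsg.pCoreOf p N).map (MulAut.conj g).toMonoidHom ≤ Cfsg.pCoreOf p N := by
    intro g hg
    have hgN : N.map (MulAut.conj g).toMonoidHom = N :=
      Subgroup.mem_normalizer_iff_map_conj_eq.mp (h hg)
    apply le_pCoreOf
    · exact (Subgroup.map_mono (pCoreOf_le N)).trans hgN.le
    · have h1 := Subgroup.le_normalizer_map (H := Cfsg.pCoreOf p N) (MulAut.conj g).toMonoidHom
      have h2 := Subgroup.map_mono (f := (MulAut.conj g).toMonoidHom) (le_normalizer_pCoreOf (p := p) N)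
      rw [hgN] at h2
      exact h2.trans h1
    · exact (isPGroup_pCoreOf N).map _
  intro g hg
  rw [Subgroup.mem_normalizer_iff_map_conj_eq]
  apply le_antisymm (key g hg)
  have h3 := Subgroup.map_mono (f := (MulAut.conj g).toMonoidHom) (key g⁻¹ (M.inv_mem hg))
  rw [Subgroup.map_map] at h3
  have h4 : (MulAut.conj g).toMonoidHom.comp (MulAut.conj g⁻¹).toMonoidHom = MonoidHom.id G := by
    ext x
    simp only [MonoidHom.coe_comp, MulEquiv.coe_toMonoidHom, Function.comp_apply,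
      MulAut.conj_apply, MonoidHom.id_apply]
    group
  rw [h4, Subgroup.map_id] at h3
  exact h3

theorem pCoreOf_le_pCore_of_normal (N : Subgroup G) [hN : N.Normal] :
    Cfsg.pCoreOf p N ≤ Cfsg.pCore p G := by
  apply le_pCore _ (isPGroup_pCoreOf N)
  rw [← Subgroup.normalizer_eq_top_iff, eq_top_iff]
  apply le_normalizer_pCoreOf_of_le_normalizer
  rw [Subgroup.normalizer_eq_top_iff.mpr hN]

/-- In a `p`-closed normal subgroup, every `p`-subgroup lies in `O_p(G)`. -/
theorem le_pCore_of_isPClosed [Finite G] [Fact p.Prime] {N : Subgroup G} [N.Normal]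
    (hN : Cfsg.IsPClosed p N) {Y : Subgroup G} (hYN : Y ≤ N) (hY : IsPGroup p Y) :
    Y ≤ Cfsg.pCore p G := by
  intro y hy
  exact pCoreOf_le_pCore_of_normal N
    ((isPClosed_subgroup_iff N).mp hN y (hYN hy) (exists_pow_eq_one_of_mem hY hy))

/-- A non-`p`-closed group is not `p`-closed... a normal subgroup containing a Sylow `p`-subgroup
of a non-`p`-closed group is not `p`-closed. -/
theorem not_isPClosed_of_sylow_le [Finite G] [Fact p.Prime] (hG : ¬ Cfsg.IsPClosed p G)
    {N : Subgroup G} [N.Normal] (T : Sylow p G) (hTN : (T : Subgroup G) ≤ N) :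
    ¬ Cfsg.IsPClosed p N := by
  intro hN
  apply hG
  have h1 : (T : Subgroup G) ≤ Cfsg.pCore p G := le_pCore_of_isPClosed hN hTN T.isPGroup'
  have h2 : (T : Subgroup G) = Cfsg.pCore p G := le_antisymm h1 (pCore_le_sylow T)
  rw [isPClosed_iff_forall_mem_pCore]
  rintro g ⟨k, hk⟩
  obtain ⟨P, hP⟩ := exists_sylow_mem_of_pow_eq_one hk
  obtain ⟨x, rfl⟩ := MulAction.exists_smul_eq G T P
  have h3 : ((x • T : Sylow p G) : Subgroup G) = Cfsg.pCore p G := by
    rw [Sylow.coe_subgroup_smul, h2]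
    exact Subgroup.Normal.map_conj_eq _ x
  rw [← h3]; exact hP

/-! ### `O^p` -/

theorem normal_closure_of_conj_mem {S : Set G} (h : ∀ s ∈ S, ∀ g : G, g * s * g⁻¹ ∈ S) :
    (Subgroup.closure S).Normal := by
  constructor
  intro n hn g
  induction hn using Subgroup.closure_induction with
  | mem x hx => exact Subgroup.subset_closure (h x hx g)
  | one => simp
  | mul x y _ _ ihx ihy =>
    rw [← conj_mul]; exact Subgroup.mul_mem _ ihx ihy
  | inv x _ ihx =>
    rw [← conj_inv]; exact Subgroup.inv_mem _ ihx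

instance pResidual_normal (p : ℕ) (G : Type*) [Group G] : (Cfsg.pResidual p G).Normal := by
  unfold Cfsg.pResidual
  apply normal_closure_of_conj_mem
  intro s hs g
  show (orderOf (g * s * g⁻¹)).Coprime p
  have : g * s * g⁻¹ = MulAut.conj g s := by simp
  rw [this, MulEquiv.orderOf_eq]
  exact hs

theorem mem_pResidual_of_coprime {g : G} (hg : (orderOf g).Coprime p) : g ∈ Cfsg.pResidual p G :=
  Subgroup.subset_closure hg

/-- Every element has a `p`-power power in `O^p(G)`. -/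
theorem exists_pow_mem_pResidual [Finite G] [Fact p.Prime] (g : G) :
    ∃ k : ℕ, g ^ (p ^ k) ∈ Cfsg.pResidual p G := by
  have hpos : 0 < orderOf g := orderOf_pos _
  obtain ⟨k, m, hm, hkm⟩ := Nat.exists_eq_pow_mul_and_not_dvd hpos.ne' p (Fact.out : p.Prime).ne_one
  refine ⟨k, mem_pResidual_of_coprime ?_⟩
  have h1 : orderOf (g ^ (p ^ k)) = m := by
    rw [orderOf_pow' _ (pow_ne_zero k (Fact.out : p.Prime).ne_zero), hkm]
    rw [Nat.gcd_eq_right (dvd_mul_right _ _)]
    exact Nat.mul_div_cancel_left m (pow_pos (Fact.out : p.Prime).pos k)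
  rw [h1]
  exact ((Nat.Prime.coprime_iff_not_dvd (Fact.out : p.Prime)).mpr hm).symm

theorem isPGroup_quotient_pResidual [Finite G] [Fact p.Prime] :
    IsPGroup p (G ⧸ Cfsg.pResidual p G) := by
  intro x
  obtain ⟨g, rfl⟩ := QuotientGroup.mk'_surjective _ x
  obtain ⟨k, hk⟩ := exists_pow_mem_pResidual (p := p) g
  refine ⟨k, ?_⟩
  rw [← map_pow]
  exact (QuotientGroup.eq_one_iff _).mpr hk

/-- `G = O^p(G) T` for a Sylow `p`-subgroup `T`. -/
theorem pResidual_sup_sylow_eq_top [Finite G] [Fact p.Prime] (T : Sylow p G) :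
    Cfsg.pResidual p G ⊔ (T : Subgroup G) = ⊤ := by
  have h1 : IsPGroup p (⊤ : Subgroup (G ⧸ Cfsg.pResidual p G)) :=
    (isPGroup_quotient_pResidual (p := p) (G := G)).of_equiv Subgroup.topEquiv.symm
  have h2 := (T.mapSurjective (QuotientGroup.mk'_surjective (Cfsg.pResidual p G))).is_maximal' h1 le_top
  rw [Sylow.coe_mapSurjective] at h2
  have h3 := congrArg (Subgroup.comap (QuotientGroup.mk' (Cfsg.pResidual p G))) h2
  rw [QuotientGroup.comap_map_mk', Subgroup.comap_top] at h3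
  exact h3.symm

/-- A `p'`-element of `N D`, with `N` normal and `D` a `p`-group, lies in `N`. -/
theorem mem_of_mem_sup_of_coprime [Fact p.Prime] {N D : Subgroup G} [N.Normal]
    (hD : IsPGroup p D) {g : G} (hg : g ∈ N ⊔ D) (hgp : (orderOf g).Coprime p) : g ∈ N := by
  have h1 : QuotientGroup.mk' N g ∈ D.map (QuotientGroup.mk' N) := by
    have : (N ⊔ D).map (QuotientGroup.mk' N) = D.map (QuotientGroup.mk' N) := by
      rw [Subgroup.map_sup, QuotientGroup.map_mk'_self, bot_sup_eq]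
    rw [← this]
    exact Subgroup.mem_map_of_mem _ hg
  have h2 : (orderOf (QuotientGroup.mk' N g)).Coprime p :=
    Nat.Coprime.coprime_dvd_left (orderOf_map_dvd _ g) hgp
  have h3 := eq_one_of_coprime_of_mem (hD.map (QuotientGroup.mk' N)) h1 h2
  exact (QuotientGroup.eq_one_iff g).mp h3

/-- If `O^p(G) ≤ N D` with `N` normal and `D` a `p`-group, then `O^p(G) ≤ N`. -/
theorem pResidual_le_of_le_sup [Fact p.Prime] {N D : Subgroup G} [N.Normal]
    (hD : IsPGroup p D) (h : Cfsg.pResidual p G ≤ N ⊔ D) : Cfsg.pResidual p G ≤ N := by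
  have h0 : Cfsg.pResidual p G = Subgroup.closure {g : G | Nat.Coprime (orderOf g) p} := rfl
  rw [h0, Subgroup.closure_le]
  intro g hg
  exact mem_of_mem_sup_of_coprime hD (h (mem_pResidual_of_coprime hg)) hg

/-! ### Normalizers -/

theorem le_normalizer_of_forall_map_conj_le {M K : Subgroup G}
    (h : ∀ g ∈ M, K.map (MulAut.conj g).toMonoidHom ≤ K) :
    M ≤ Subgroup.normalizer (K : Set G) := by
  intro g hg
  rw [Subgroup.mem_normalizer_iff_map_conj_eq]
  apply le_antisymm (h g hg)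
  have h3 := Subgroup.map_mono (f := (MulAut.conj g).toMonoidHom) (h g⁻¹ (M.inv_mem hg))
  rw [Subgroup.map_map] at h3
  have h4 : (MulAut.conj g).toMonoidHom.comp (MulAut.conj g⁻¹).toMonoidHom = MonoidHom.id G := by
    ext x
    simp only [MonoidHom.coe_comp, MulEquiv.coe_toMonoidHom, Function.comp_apply,
      MulAut.conj_apply, MonoidHom.id_apply]
    group
  rw [h4, Subgroup.map_id] at h3
  exact h3

theorem normalizer_inf_le_normalizer_commutator (A B : Subgroup G) :
    Subgroup.normalizer (A : Set G) ⊓ Subgroup.normalizer (B : Set G) ≤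
      Subgroup.normalizer ((⁅A, B⁆ : Subgroup G) : Set G) := by
  intro g hg
  have hA : A.map (MulAut.conj g).toMonoidHom = A := Subgroup.mem_normalizer_iff_map_conj_eq.mp hg.1
  have hB : B.map (MulAut.conj g).toMonoidHom = B := Subgroup.mem_normalizer_iff_map_conj_eq.mp hg.2
  rw [Subgroup.mem_normalizer_iff_map_conj_eq]
  have := Subgroup.map_commutator A B (MulAut.conj g).toMonoidHom
  rw [hA, hB] at this
  exact this

/-! ### Transport along isomorphisms; Bezout -/


theorem isPClosed_of_mulEquiv {A B : Type*} [Group A] [Group B] (e : A ≃* B)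
    (h : Cfsg.IsPClosed p A) : Cfsg.IsPClosed p B := by
  intro P
  have hr : (P : Subgroup B) ≤ e.toMonoidHom.range := by
    rw [MonoidHom.range_eq_top.mpr e.surjective]; exact le_top
  have h1 : ((P : Subgroup B).comap e.toMonoidHom).Normal :=
    h (P.comapOfInjective e.toMonoidHom e.injective hr)
  have h2 := h1.map e.toMonoidHom e.surjective
  rwa [Subgroup.map_comap_eq_self_of_surjective e.surjective] at h2

theorem mem_of_pow_mem_of_pow_mem_of_coprime {C : Subgroup G} {x : G} {a b : ℕ}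
    (hab : a.Coprime b) (ha : x ^ a ∈ C) (hb : x ^ b ∈ C) : x ∈ C := by
  obtain ⟨u, v, huv⟩ := Nat.isCoprime_iff_coprime.mpr hab
  have : x = (x ^ (a : ℤ)) ^ u * (x ^ (b : ℤ)) ^ v := by
    rw [← zpow_mul, ← zpow_mul, ← zpow_add, mul_comm (a : ℤ) u, mul_comm (b : ℤ) v, huv, zpow_one]
  rw [this]
  refine C.mul_mem (C.zpow_mem ?_ u) (C.zpow_mem ?_ v)
  · rw [zpow_natCast]; exact ha
  · rw [zpow_natCast]; exact hb


end Cfsg.Agent.Lib.Helper47_PClosed
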