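import Cfsg.Prelude.Def_Local
import Mathlib

/-!
# `p`-complements in `p`-soluble groups (helper69)

* `exists_pComplement` : a finite `p`-soluble group (`Cfsg.IsPSolvable`) has a `p`-complement,
  i.e. a subgroup of order prime to `p` and index a power of `p`.
* `isPSolvable_subgroup` : subgroups of `p`-soluble groups are `p`-soluble.
-/

set_option autoImplicit false

namespace Cfsg.Agent.Lib.Helper69_PComplement

open Cfsg

universe u

/-- Existence of `p`-complements, by induction on the length of the chain. -/
theorem exists_pComplement_aux (p : ℕ) [hp : Fact p.Prime] : ∀ n : ℕ, ∀ (G : Type u) [Group G]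
    [Finite G] (H : Fin (n + 1) → Subgroup G), H 0 = ⊥ → H (Fin.last n) = ⊤ → Monotone H →
    (∀ i, (H i).Normal) →
    (∀ i : Fin n, (∃ m : ℕ, (H i.castSucc).relIndex (H i.succ) = p ^ m) ∨
      ((H i.castSucc).relIndex (H i.succ)).Coprime p) →
    ∃ K : Subgroup G, (Nat.card K).Coprime p ∧ ∃ m : ℕ, K.index = p ^ m := by
  intro n
  induction n with
  | zero =>
    intro G _ _ H h0 hlast _ _ _
    have hbt : (⊥ : Subgroup G) = ⊤ := by rw [← h0, ← hlast]; rfl
    refine ⟨⊥, by simp, 0, ?_⟩
    rw [hbt, Subgroup.index_top, pow_zero]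
  | succ n ih =>
    intro G _ _ H h0 hlast hmono hnormal hfac
    have hN : (H 1).Normal := hnormal 1
    set N : Subgroup G := H 1 with hNdef
    set π := QuotientGroup.mk' N with hπ
    have hπs : Function.Surjective π := QuotientGroup.mk'_surjective N
    -- the chain in the quotient
    obtain ⟨Kbar, hKbar1, mb, hKbar2⟩ := ih (G ⧸ N) (fun i => (H i.succ).map π)
      (by
        show (H (Fin.succ 0)).map π = ⊥
        have : (Fin.succ 0 : Fin (n + 2)) = 1 := rfl
        rw [this, hπ]
        exact QuotientGroup.map_mk'_self N)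
      (by
        show (H (Fin.last n).succ).map π = ⊤
        rw [Fin.succ_last, hlast, ← MonoidHom.range_eq_map, MonoidHom.range_eq_top]
        exact hπs)
      (by
        intro i j hij
        exact Subgroup.map_mono (hmono (Fin.succ_le_succ_iff.mpr hij)))
      (by
        intro i
        exact (hnormal i.succ).map π hπs)
      (by
        intro i
        have hAB : H i.succ.castSucc ≤ H i.succ.succ := hmono (Fin.castSucc_lt_succ).le
        have hAn : (H i.succ.castSucc).Normal := hnormal _
        have hcs : (i.castSucc).succ = i.succ.castSucc := Fin.succ_castSucc i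
        have hdvd : ((H (i.castSucc).succ).map π).relIndex ((H i.succ.succ).map π) ∣
            (H i.succ.castSucc).relIndex (H i.succ.succ) := by
          rw [hcs, Subgroup.relIndex_map_map, hπ, QuotientGroup.ker_mk']
          have h1 : H i.succ.succ ⊔ N = H i.succ.succ ⊔ (H i.succ.castSucc ⊔ N) := by
            rw [← sup_assoc, sup_eq_left.mpr hAB]
          rw [h1, Subgroup.relIndex_sup_right]
          exact Subgroup.relIndex_dvd_of_le_left _ le_sup_left
        rcases hfac i.succ with ⟨m, hm⟩ | hm
        · left
          rw [hm] at hdvd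
          obtain ⟨k, _, hk⟩ := (Nat.dvd_prime_pow hp.out).mp hdvd
          exact ⟨k, hk⟩
        · right
          exact Nat.Coprime.coprime_dvd_left hdvd hm)
    -- pull back
    set K₁ : Subgroup G := Kbar.comap π with hK₁
    have hNK₁ : N ≤ K₁ := by
      intro x hx
      rw [hK₁, Subgroup.mem_comap]
      have : π x = 1 := by rw [hπ, QuotientGroup.mk'_apply, QuotientGroup.eq_one_iff]; exact hx
      rw [this]; exact Kbar.one_mem
    have hK₁idx : K₁.index = p ^ mb := by
      rw [hK₁, Subgroup.index_comap_of_surjective _ hπs, hKbar2]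
    have hK₁card : Nat.card K₁ = Nat.card N * Nat.card Kbar := by
      have h1 : Nat.card K₁ * K₁.index = Nat.card G := Subgroup.card_mul_index _
      have h2 : Nat.card Kbar * Kbar.index = Nat.card (G ⧸ N) := Subgroup.card_mul_index _
      have h3 : Nat.card G = Nat.card (G ⧸ N) * Nat.card N :=
        Subgroup.card_eq_card_quotient_mul_card_subgroup N
      have hpos : 0 < p ^ mb := pow_pos hp.out.pos _
      rw [hK₁idx] at h1
      rw [hKbar2] at h2
      have : Nat.card K₁ * p ^ mb = Nat.card N * Nat.card Kbar * p ^ mb := by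
        rw [h1, h3, ← h2]; ring
      exact Nat.eq_of_mul_eq_mul_right hpos this
    -- the order of `N`
    have hNcard : (∃ m : ℕ, Nat.card N = p ^ m) ∨ (Nat.card N).Coprime p := by
      have h1 := hfac 0
      have h2 : H (0 : Fin (n + 1)).castSucc = ⊥ := by
        rw [Fin.castSucc_zero]; exact h0
      have h3 : (0 : Fin (n + 1)).succ = 1 := rfl
      rw [h2, h3, Subgroup.relIndex_bot_left] at h1
      exact h1
    rcases hNcard with ⟨j, hj⟩ | hcop
    · -- `N` is a `p`-group: Schur–Zassenhaus inside `K₁`
      set N' : Subgroup K₁ := N.subgroupOf K₁ with hN'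
      have hN'n : N'.Normal := Subgroup.Normal.subgroupOf hN K₁
      have hN'card : Nat.card N' = p ^ j := by
        rw [hN', ← hj]
        exact Nat.card_congr (Subgroup.subgroupOfEquivOfLe hNK₁).toEquiv
      have hN'idx : N'.index = Nat.card Kbar := by
        have h1 : Nat.card N' * N'.index = Nat.card K₁ := Subgroup.card_mul_index _
        rw [hN'card, hK₁card, hj] at h1
        exact Nat.eq_of_mul_eq_mul_left (pow_pos hp.out.pos _) h1
      have hcop : Nat.Coprime (Nat.card N') N'.index := by
        rw [hN'card, hN'idx]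
        exact Nat.Coprime.pow_left _ (Nat.Coprime.symm hKbar1)
      obtain ⟨K', hK'⟩ := Subgroup.exists_right_complement'_of_coprime hcop
      have hK'card : Nat.card K' = Nat.card Kbar := by
        have h1 := hK'.card_mul_card
        have h2 : Nat.card N' * N'.index = Nat.card K₁ := Subgroup.card_mul_index _
        rw [← h2, hN'idx] at h1
        exact Nat.eq_of_mul_eq_mul_left (by rw [hN'card]; exact pow_pos hp.out.pos _) h1
      have hK'idx : K'.index = p ^ j := by
        have h1 : Nat.card K' * K'.index = Nat.card K₁ := Subgroup.card_mul_index _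
        rw [hK'card, hK₁card, hj, mul_comm] at h1
        exact Nat.eq_of_mul_eq_mul_right Nat.card_pos h1
      refine ⟨K'.map K₁.subtype, ?_, j + mb, ?_⟩
      · rw [Subgroup.card_map_of_injective K₁.subtype_injective, hK'card]
        exact hKbar1
      · rw [Subgroup.index_map_subtype, hK'idx, hK₁idx, pow_add]
    · -- `N` is a `p'`-group
      refine ⟨K₁, ?_, mb, hK₁idx⟩
      rw [hK₁card]
      exact Nat.Coprime.mul_left hcop hKbar1

/-- A finite `p`-soluble group has a `p`-complement. -/
theorem exists_pComplement {G : Type u} [Group G] [Finite G] (p : ℕ) [Fact p.Prime]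
    (h : IsPSolvable p G) :
    ∃ K : Subgroup G, (Nat.card K).Coprime p ∧ ∃ m : ℕ, K.index = p ^ m := by
  obtain ⟨n, H, h0, hlast, hmono, hnormal, hfac⟩ := h
  exact exists_pComplement_aux p n G H h0 hlast hmono hnormal hfac

/-- Subgroups of `p`-soluble groups are `p`-soluble. -/
theorem isPSolvable_subgroup {G : Type u} [Group G] (p : ℕ) [hp : Fact p.Prime]
    (h : IsPSolvable p G) (D : Subgroup G) : IsPSolvable p D := by
  obtain ⟨n, H, h0, hlast, hmono, hnormal, hfac⟩ := h
  refine ⟨n, fun i => (H i).subgroupOf D, ?_, ?_, ?_, ?_, ?_⟩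
  · simp only [h0, Subgroup.bot_subgroupOf]
  · simp only [hlast, Subgroup.top_subgroupOf]
  · intro i j hij
    exact Subgroup.comap_mono (hmono hij)
  · intro i
    exact Subgroup.Normal.subgroupOf (hnormal i) D
  · intro i
    have hAB : H i.castSucc ≤ H i.succ := hmono (Fin.castSucc_lt_succ).le
    have hAn : (H i.castSucc).Normal := hnormal _
    have hdvd : ((H i.castSucc).subgroupOf D).relIndex ((H i.succ).subgroupOf D) ∣
        (H i.castSucc).relIndex (H i.succ) := by
      have h1 : (H i.succ).subgroupOf D = (H i.succ ⊓ D).subgroupOf D := by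
        rw [Subgroup.inf_subgroupOf_right]
      rw [h1, Subgroup.relIndex_subgroupOf inf_le_right]
      -- `(H i).relIndex (H (i+1) ⊓ D) ∣ (H i).relIndex (H (i+1))`
      have h2 : ((H i.castSucc).subgroupOf (H i.succ)).relIndex ((H i.succ ⊓ D).subgroupOf (H i.succ))
          ∣ ((H i.castSucc).subgroupOf (H i.succ)).index :=
        Subgroup.relIndex_dvd_index_of_normal _ _
      rwa [Subgroup.relIndex_subgroupOf inf_le_left] at h2
    rcases hfac i with ⟨m, hm⟩ | hm
    · left
      rw [hm] at hdvd
      obtain ⟨k, _, hk⟩ := (Nat.dvd_prime_pow hp.out).mp hdvd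
      exact ⟨k, hk⟩
    · right
      exact Nat.Coprime.coprime_dvd_left hdvd hm

end Cfsg.Agent.Lib.Helper69_PComplement
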