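import Mathlib.GroupTheory.Sylow
import Mathlib.GroupTheory.Nilpotent
import Mathlib.GroupTheory.Perm.Cycle.Type
import Mathlib.Algebra.Field.ZMod

/-!
# Generation by centralizers for `Z_p × Z_p` acting coprimely (helper48)

If commuting automorphisms `α, β` of exponent `p` act on a finite nilpotent group `Q` of order prime to
`p`, then `Q` is generated by the fixed points of `β` and of the `α β^i`.  Ambient-group version for an
arbitrary `p'`-subgroup `K` of a finite group `G` normalized by commuting `a, b` with `a^p = b^p = 1`.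
-/

set_option autoImplicit false
open scoped Pointwise

namespace Cfsg.Agent.Lib.Helper48_Generation

section Abelian

variable {Z : Type*} [CommGroup Z] {p : ℕ} [Fact p.Prime]

/-- The norm of `z` under the cyclic group generated by `c` (with `c ^ p = 1`). -/
noncomputable def cycNorm (p : ℕ) [Fact p.Prime] (c : MulAut Z) (z : Z) : Z :=
  ∏ j : ZMod p, (c ^ j.val) z

theorem pow_val_add_one {M : Type*} [Monoid M] {c : M} (hc : c ^ p = 1) (j : ZMod p) :
    c ^ ((j + 1).val) = c ^ (j.val + 1) := by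
  rw [ZMod.val_add, ← pow_eq_pow_mod _ hc]
  congr 2
  have hp : 1 < p := (Fact.out : p.Prime).one_lt
  have : Fact (1 < p) := ⟨hp⟩
  rw [ZMod.val_one]

theorem pow_val_mul {M : Type*} [Monoid M] {c : M} (hc : c ^ p = 1) (i j : ZMod p) :
    c ^ ((i * j).val) = c ^ (i.val * j.val) := by
  rw [ZMod.val_mul, ← pow_eq_pow_mod _ hc]

theorem cycNorm_fixed {c : MulAut Z} (hc : c ^ p = 1) (z : Z) : c (cycNorm p c z) = cycNorm p c z := by
  unfold cycNorm
  rw [map_prod]
  have : ∀ j : ZMod p, c ((c ^ j.val) z) = (c ^ (j + 1).val) z := by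
    intro j
    rw [pow_val_add_one hc, pow_succ']
    rfl
  simp_rw [this]
  exact Equiv.prod_comp (Equiv.addRight (1 : ZMod p)) (fun j => (c ^ j.val) z)

/-- The norm identity for `Z_p × Z_p = ⟨α⟩ × ⟨β⟩` acting on an abelian group. -/
theorem norm_identity {α β : MulAut Z} (hβ : β ^ p = 1) (hαβ : α * β = β * α) (z : Z) :
    (∏ i : ZMod p, cycNorm p (α * β ^ i.val) z) * cycNorm p β z =
      z ^ p * ∏ j : ZMod p, ∏ k : ZMod p, (α ^ j.val * β ^ k.val) z := by
  have hcomm : Commute α β := hαβ
  have hpow : ∀ (i j : ZMod p), (α * β ^ i.val) ^ j.val = α ^ j.val * β ^ (i * j).val := by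
    intro i j
    rw [(hcomm.pow_right _).mul_pow, ← pow_mul, pow_val_mul hβ]
  unfold cycNorm
  simp_rw [hpow]
  rw [Finset.prod_comm]
  -- split off `j = 0`
  rw [← Finset.mul_prod_erase Finset.univ _ (Finset.mem_univ (0 : ZMod p))]
  rw [← Finset.mul_prod_erase Finset.univ (fun j => ∏ k : ZMod p, (α ^ j.val * β ^ k.val) z) (Finset.mem_univ (0 : ZMod p))]
  have h0 : (∏ i : ZMod p, (α ^ (0 : ZMod p).val * β ^ (i * 0).val) z) = z ^ p := by
    simp [ZMod.val_zero, Finset.prod_const, Finset.card_univ, ZMod.card]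
  have h0' : (∏ k : ZMod p, (α ^ (0 : ZMod p).val * β ^ k.val) z) = ∏ k : ZMod p, (β ^ k.val) z := by
    simp [ZMod.val_zero]
  rw [h0, h0']
  have hrest : ∀ j ∈ Finset.univ.erase (0 : ZMod p),
      (∏ i : ZMod p, (α ^ j.val * β ^ (i * j).val) z) = ∏ k : ZMod p, (α ^ j.val * β ^ k.val) z := by
    intro j hj
    have hj0 : j ≠ 0 := Finset.ne_of_mem_erase hj
    exact Equiv.prod_comp (Equiv.mulRight₀ j hj0) (fun k => (α ^ j.val * β ^ k.val) z)
  rw [Finset.prod_congr rfl hrest]
  rw [mul_assoc]
  congr 1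
  rw [mul_comm]

end Abelian

section Lifting

variable {Q : Type*} [Group Q] {p : ℕ} [Fact p.Prime]

/-- Lifting fixed points: if `c ^ p = 1`, `N` is a finite `c`-invariant subgroup of order prime to `p`
and the coset `x N` is `c`-invariant, then the coset contains a fixed point of `c`. -/
theorem exists_fixed_in_coset (c : MulAut Q) (hc : c ^ p = 1) (N : Subgroup Q) [Finite N]
    (hN : ¬ p ∣ Nat.card N) (hcN : ∀ n ∈ N, c n ∈ N) (x : Q) (hx : x⁻¹ * c x ∈ N) :
    ∃ n ∈ N, c (x * n) = x * n := by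
  classical
  have hmem : ∀ (d : MulAut Q), (∀ n ∈ N, d n ∈ N) → x⁻¹ * d x ∈ N → ∀ n : N, x⁻¹ * d (x * n) ∈ N := by
    intro d hdN hdx n
    rw [map_mul, ← mul_assoc]
    exact N.mul_mem hdx (hdN _ n.2)
  let f : Function.End N := fun n => ⟨x⁻¹ * c (x * n), hmem c hcN hx n⟩
  have hpow : ∀ j : ℕ, ∀ n : N, (((f ^ j) • n : N) : Q) = x⁻¹ * (c ^ j) (x * n) := by
    intro j
    induction j with
    | zero => intro n; rw [pow_zero, one_smul, pow_zero]; simp
    | succ j ih =>
      intro n
      rw [pow_succ', mul_smul, Function.End.smul_def]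
      show x⁻¹ * c (x * (((f ^ j) • n : N) : Q)) = _
      rw [ih n, pow_succ', MulAut.mul_apply]
      congr 2
      group
  have hfp : f ^ p ^ 1 = 1 := by
    rw [pow_one]
    funext n
    apply Subtype.ext
    have := hpow p n
    rw [Function.End.smul_def] at this
    rw [this, hc]
    simp only [MulAut.one_apply, inv_mul_cancel_left]
    rfl
  let _ : Fintype N := Fintype.ofFinite N
  have hmod := Equiv.Perm.card_fixedPoints_modEq (p := p) (n := 1) hfp
  have hne : Fintype.card (Function.fixedPoints f) ≠ 0 := by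
    intro h0
    rw [h0] at hmod
    apply hN
    rw [Nat.card_eq_fintype_card]
    exact (Nat.modEq_zero_iff_dvd).mp hmod
  obtain ⟨⟨n, hn⟩⟩ := Fintype.card_pos_iff.mp (Nat.pos_of_ne_zero hne)
  refine ⟨n, n.2, ?_⟩
  have h1 : ((f n : N) : Q) = n := congrArg Subtype.val hn
  have h2 : x⁻¹ * c (x * n) = n := h1
  calc c (x * n) = x * (x⁻¹ * c (x * n)) := by group
    _ = x * n := by rw [h2]

end Lifting

section Quot

variable {Q : Type*} [Group Q]

/-- Automorphisms act on the quotient by a characteristic subgroup. -/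
noncomputable def autQuot (N : Subgroup Q) [N.Characteristic] : MulAut Q →* MulAut (Q ⧸ N) where
  toFun φ := QuotientGroup.congr N N φ (Subgroup.characteristic_iff_map_eq.mp inferInstance φ)
  map_one' := by
    ext x
    induction x using QuotientGroup.induction_on
    rfl
  map_mul' φ ψ := by
    ext x
    induction x using QuotientGroup.induction_on
    rfl

theorem autQuot_mk (N : Subgroup Q) [N.Characteristic] (φ : MulAut Q) (x : Q) :
    autQuot N φ (x : Q ⧸ N) = ((φ x : Q) : Q ⧸ N) := rfl

theorem characteristic_apply_coe (N : Subgroup Q) [N.Characteristic] (φ : MulAut Q) (z : N) :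
    ((MulAut.characteristic N φ z : N) : Q) = φ z := rfl

end Quot

section Main

open scoped IsMulCommutative

variable {p : ℕ} [Fact p.Prime]


/-- Central elements lie in `T`. -/
theorem center_le_of_fixed_le {Q : Type*} [Group Q] [Finite Q] (hcop : ¬ p ∣ Nat.card Q)
    (α β : MulAut Q) (hα : α ^ p = 1) (hβ : β ^ p = 1) (hαβ : α * β = β * α) (T : Subgroup Q)
    (hTβ : ∀ x, β x = x → x ∈ T) (hTα : ∀ i : ℕ, ∀ x, (α * β ^ i) x = x → x ∈ T) :
    Subgroup.center Q ≤ T := by
  intro z hz
  let α' : MulAut (Subgroup.center Q) := MulAut.characteristic (Subgroup.center Q) α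
  let β' : MulAut (Subgroup.center Q) := MulAut.characteristic (Subgroup.center Q) β
  have hα' : α' ^ p = 1 := by rw [← map_pow, hα, map_one]
  have hβ' : β' ^ p = 1 := by rw [← map_pow, hβ, map_one]
  have hαβ' : α' * β' = β' * α' := by rw [← map_mul, hαβ, map_mul]
  let z' : Subgroup.center Q := ⟨z, hz⟩
  have hid := norm_identity (p := p) hβ' hαβ' z'
  -- each factor on the left lies in `T`
  have hcomm : Commute α' β' := hαβ'
  have key : ∀ (c : MulAut Q) (w : Subgroup.center Q),
      (MulAut.characteristic (Subgroup.center Q) c) w = w → c (w : Q) = w :=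
    fun c w h => congrArg Subtype.val h
  have h1 : ∀ i : ZMod p, ((cycNorm p (α' * β' ^ i.val) z' : Subgroup.center Q) : Q) ∈ T := by
    intro i
    apply hTα i.val
    have hc : (α' * β' ^ i.val) ^ p = 1 := by
      rw [(hcomm.pow_right _).mul_pow, hα', ← pow_mul, mul_comm, pow_mul, hβ', one_pow, one_mul]
    apply key
    rw [map_mul, map_pow]
    exact cycNorm_fixed hc z'
  have h2 : ((cycNorm p β' z' : Subgroup.center Q) : Q) ∈ T := by
    apply hTβ
    exact congrArg Subtype.val (cycNorm_fixed hβ' z')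
  have h3 : ((∏ j : ZMod p, ∏ k : ZMod p, (α' ^ j.val * β' ^ k.val) z' : Subgroup.center Q) : Q) ∈ T := by
    apply hTβ
    have : β' (∏ j : ZMod p, ∏ k : ZMod p, (α' ^ j.val * β' ^ k.val) z') =
        ∏ j : ZMod p, ∏ k : ZMod p, (α' ^ j.val * β' ^ k.val) z' := by
      rw [map_prod]
      apply Finset.prod_congr rfl
      intro j _
      rw [map_prod]
      have : ∀ k : ZMod p, β' ((α' ^ j.val * β' ^ k.val) z') = (α' ^ j.val * β' ^ (k + 1).val) z' := by
        intro k
        rw [pow_val_add_one hβ', pow_succ']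
        have hc2 : Commute β' (α' ^ j.val) := (hcomm.pow_left _).symm
        rw [← MulAut.mul_apply, ← mul_assoc, hc2.eq, mul_assoc]
      simp_rw [this]
      exact Equiv.prod_comp (Equiv.addRight (1 : ZMod p)) (fun k => (α' ^ j.val * β' ^ k.val) z')
    exact congrArg Subtype.val this
  have h4 : ((z' ^ p : Subgroup.center Q) : Q) ∈ T := by
    have e : z' ^ p = ((∏ i : ZMod p, cycNorm p (α' * β' ^ i.val) z') * cycNorm p β' z') *
        (∏ j : ZMod p, ∏ k : ZMod p, (α' ^ j.val * β' ^ k.val) z')⁻¹ := by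
      rw [hid]; simp
    rw [e]
    have hmem : ∀ w : Subgroup.center Q, (w : Q) ∈ T ↔ w ∈ T.subgroupOf (Subgroup.center Q) :=
      fun w => Subgroup.mem_subgroupOf.symm
    rw [hmem] at h2 h3 ⊢
    simp_rw [hmem] at h1
    refine Subgroup.mul_mem _ (Subgroup.mul_mem _ ?_ h2) (Subgroup.inv_mem _ h3)
    exact Subgroup.prod_mem _ (fun i _ => h1 i)
  have h5 : z ^ p ∈ T := h4
  have hco : Nat.Coprime p (orderOf z) := by
    have h6 : orderOf z ∣ Nat.card Q := orderOf_dvd_natCard z
    have h7 : Nat.Coprime p (Nat.card Q) := (Nat.Prime.coprime_iff_not_dvd (Fact.out : p.Prime)).mpr hcop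
    exact Nat.Coprime.coprime_dvd_right h6 h7
  obtain ⟨m, hm⟩ := exists_pow_eq_self_of_coprime hco
  rw [← hm]
  exact T.pow_mem h5 m

/-- **Generation, abstract nilpotent form.** Commuting automorphisms `α, β` with `α^p = β^p = 1` of a
finite nilpotent `p'`-group `Q`: any subgroup containing the fixed points of `β` and of every
`α β^i` is all of `Q`. -/
theorem eq_top_of_fixed_le (Q : Type*) [Group Q] [hnil : Group.IsNilpotent Q] :
    ∀ [Finite Q], ¬ p ∣ Nat.card Q →
    ∀ (α β : MulAut Q), α ^ p = 1 → β ^ p = 1 → α * β = β * α → ∀ (T : Subgroup Q),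
    (∀ x, β x = x → x ∈ T) → (∀ i : ℕ, ∀ x, (α * β ^ i) x = x → x ∈ T) → T = ⊤ := by
  refine Group.nilpotent_center_quotient_ind
    (P := fun (Q : Type _) [Group Q] [Group.IsNilpotent Q] => ∀ [Finite Q], ¬ p ∣ Nat.card Q →
      ∀ (α β : MulAut Q), α ^ p = 1 → β ^ p = 1 → α * β = β * α → ∀ (T : Subgroup Q),
      (∀ x, β x = x → x ∈ T) → (∀ i : ℕ, ∀ x, (α * β ^ i) x = x → x ∈ T) → T = ⊤) Q ?_ ?_
  · intro Q _ _ _ _ α β _ _ _ T _ _
    exact Subsingleton.elim _ _
  · intro Q _ _ ih hfin hcop α β hα hβ hαβ T hTβ hTα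
    have hZT : Subgroup.center Q ≤ T := center_le_of_fixed_le hcop α β hα hβ hαβ T hTβ hTα
    have hcomm : Commute α β := hαβ
    have hZcard : ¬ p ∣ Nat.card (Subgroup.center Q) := fun h =>
      hcop (h.trans (Subgroup.card_subgroup_dvd_card _))
    -- lifting step
    have lift : ∀ (c : MulAut Q), c ^ p = 1 → (∀ x, c x = x → x ∈ T) →
        ∀ y : Q ⧸ Subgroup.center Q, autQuot (Subgroup.center Q) c y = y →
          y ∈ T.map (QuotientGroup.mk' (Subgroup.center Q)) := by
      intro c hc hcT y hy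
      induction y using QuotientGroup.induction_on with
      | H x =>
        rw [autQuot_mk] at hy
        have hx : x⁻¹ * c x ∈ Subgroup.center Q := by
          rw [← QuotientGroup.eq]; exact hy.symm
        have hcZ : ∀ n ∈ Subgroup.center Q, c n ∈ Subgroup.center Q := by
          intro n hn
          have := (Subgroup.characteristic_iff_le_map.mp (inferInstance : (Subgroup.center Q).Characteristic)) c
          have h2 : c n ∈ (Subgroup.center Q).map c.toMonoidHom := ⟨n, hn, rfl⟩
          have h3 := (Subgroup.characteristic_iff_map_eq.mp (inferInstance : (Subgroup.center Q).Characteristic)) c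
          rw [h3] at h2
          exact h2
        obtain ⟨n, hn, hfix⟩ := exists_fixed_in_coset c hc (Subgroup.center Q) hZcard hcZ x hx
        refine ⟨x * n, hcT _ hfix, ?_⟩
        show ((x * n : Q) : Q ⧸ Subgroup.center Q) = (x : Q ⧸ Subgroup.center Q)
        rw [QuotientGroup.eq]
        simpa using (Subgroup.center Q).inv_mem hn
    have hcard : ¬ p ∣ Nat.card (Q ⧸ Subgroup.center Q) := fun h =>
      hcop (h.trans (Subgroup.card_quotient_dvd_card _))
    have hTbar := ih hcard (autQuot _ α) (autQuot _ β)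
      (by rw [← map_pow, hα, map_one]) (by rw [← map_pow, hβ, map_one])
      (by rw [← map_mul, hαβ, map_mul]) (T.map (QuotientGroup.mk' (Subgroup.center Q)))
      (lift β hβ hTβ)
      (by
        intro i y hy
        have hc : (α * β ^ i) ^ p = 1 := by
          rw [(hcomm.pow_right _).mul_pow, hα, ← pow_mul, mul_comm, pow_mul, hβ, one_pow, one_mul]
        apply lift (α * β ^ i) hc (hTα i) y
        rw [map_mul, map_pow]
        exact hy)
    rw [eq_top_iff]
    intro x _
    have hx : (x : Q ⧸ Subgroup.center Q) ∈ T.map (QuotientGroup.mk' (Subgroup.center Q)) := by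
      rw [hTbar]; trivial
    obtain ⟨t, ht, htx⟩ := hx
    have h1 : t⁻¹ * x ∈ Subgroup.center Q := by
      rw [← QuotientGroup.eq]; exact htx
    have : x = t * (t⁻¹ * x) := by group
    rw [this]
    exact T.mul_mem ht (hZT h1)

end Main

section Ambient

variable {G : Type*} [Group G]

/-- Conjugation automorphism of a subgroup induced by an element of its normalizer. -/
def normAut (Q : Subgroup G) : ↥(Subgroup.normalizer (Q : Set G)) →* MulAut ↥Q where
  toFun g :=
    { toFun := fun x => ⟨g * x * (g : G)⁻¹, (Subgroup.mem_normalizer_iff.mp g.2 x).mp x.2⟩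
      invFun := fun x => ⟨(g : G)⁻¹ * x * g, by
        have := (Subgroup.mem_normalizer_iff.mp (Subgroup.inv_mem _ g.2) x).mp x.2
        simpa using this⟩
      left_inv := fun x => by
        apply Subtype.ext
        show (g : G)⁻¹ * (g * x * (g : G)⁻¹) * g = x
        group
      right_inv := fun x => by
        apply Subtype.ext
        show (g : G) * ((g : G)⁻¹ * x * g) * (g : G)⁻¹ = x
        group
      map_mul' := fun x y => by
        apply Subtype.ext
        show (g : G) * (x * y) * (g : G)⁻¹ = (g * x * (g : G)⁻¹) * (g * y * (g : G)⁻¹)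
        group }
  map_one' := by
    ext x
    show ((1 : Subgroup.normalizer (Q : Set G)) : G) * x * ((1 : Subgroup.normalizer (Q : Set G)) : G)⁻¹ = x
    simp
  map_mul' := fun g h => by
    ext x
    show ((g * h : Subgroup.normalizer (Q : Set G)) : G) * x * ((g * h : Subgroup.normalizer (Q : Set G)) : G)⁻¹
      = (g : G) * ((h : G) * x * (h : G)⁻¹) * (g : G)⁻¹
    push_cast
    group

theorem normAut_apply_coe (Q : Subgroup G) (g : Subgroup.normalizer (Q : Set G)) (x : Q) :
    ((normAut Q g x : Q) : G) = g * x * (g : G)⁻¹ := rfl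

variable {p : ℕ} [Fact p.Prime]

/-- **Generation, ambient nilpotent form.** -/
theorem le_of_centralizers_le_of_nilpotent (Q : Subgroup G) [Finite Q] [Group.IsNilpotent Q]
    (hcop : ¬ p ∣ Nat.card Q) (a b : G)
    (ha : a ∈ Subgroup.normalizer (Q : Set G)) (hb : b ∈ Subgroup.normalizer (Q : Set G))
    (hap : a ^ p = 1) (hbp : b ^ p = 1) (hab : a * b = b * a) (T : Subgroup G)
    (hTb : Q ⊓ Subgroup.centralizer ({b} : Set G) ≤ T)
    (hTa : ∀ i : ℕ, Q ⊓ Subgroup.centralizer ({a * b ^ i} : Set G) ≤ T) : Q ≤ T := by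
  let a' : Subgroup.normalizer (Q : Set G) := ⟨a, ha⟩
  let b' : Subgroup.normalizer (Q : Set G) := ⟨b, hb⟩
  have ha' : a' ^ p = 1 := Subtype.ext (by simpa using hap)
  have hb' : b' ^ p = 1 := Subtype.ext (by simpa using hbp)
  have hab' : a' * b' = b' * a' := Subtype.ext (by simpa using hab)
  have hfix : ∀ (g : Subgroup.normalizer (Q : Set G)) (x : Q), normAut Q g x = x →
      (x : G) ∈ Q ⊓ Subgroup.centralizer ({(g : G)} : Set G) := by
    intro g x hx
    refine Subgroup.mem_inf.mpr ⟨x.2, ?_⟩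
    rw [Subgroup.mem_centralizer_singleton_iff]
    have h1 : (g : G) * x * (g : G)⁻¹ = x := congrArg Subtype.val hx
    calc (x : G) * g = ((g : G) * x * (g : G)⁻¹) * g := by rw [h1]
      _ = g * x := by group
  have key := eq_top_of_fixed_le (p := p) Q hcop (normAut Q a') (normAut Q b')
    (by rw [← map_pow, ha', map_one]) (by rw [← map_pow, hb', map_one])
    (by rw [← map_mul, hab', map_mul]) (T.subgroupOf Q)
    (by
      intro x hx
      rw [Subgroup.mem_subgroupOf]
      exact hTb (hfix b' x hx))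
    (by
      intro i x hx
      rw [Subgroup.mem_subgroupOf]
      rw [← map_pow, ← map_mul] at hx
      have := hfix (a' * b' ^ i) x hx
      exact hTa i (by simpa using this))
  intro x hx
  have : (⟨x, hx⟩ : Q) ∈ T.subgroupOf Q := by rw [key]; trivial
  rwa [Subgroup.mem_subgroupOf] at this

/-- A `p`-group `D` normalizing a finite `p'`-group `K` normalizes some Sylow `q`-subgroup of `K`. -/
theorem exists_sylow_normalized (K : Subgroup G) [Finite K] (hcop : ¬ p ∣ Nat.card K)
    (D : Subgroup G) (hD : IsPGroup p D) (hDK : D ≤ Subgroup.normalizer (K : Set G))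
    (q : ℕ) [Fact q.Prime] :
    ∃ P : Sylow q ↥K, ∀ d ∈ D, ∀ y ∈ (P : Subgroup K).map K.subtype,
      d * y * d⁻¹ ∈ (P : Subgroup K).map K.subtype := by
  let φ : ↥D →* MulAut ↥K := (normAut K).comp (Subgroup.inclusion hDK)
  let _ : MulDistribMulAction ↥D ↥K := MulDistribMulAction.compHom ↥K φ
  have hcard : ¬ p ∣ Nat.card (Sylow q ↥K) := by
    intro h
    obtain ⟨P0⟩ : Nonempty (Sylow q ↥K) := inferInstance
    exact hcop (h.trans ((Sylow.card_dvd_index P0).trans (Subgroup.index_dvd_card _)))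
  obtain ⟨P, hP⟩ := hD.nonempty_fixed_point_of_prime_not_dvd_card (Sylow q ↥K) hcard
  refine ⟨P, ?_⟩
  intro d hd y hy
  obtain ⟨x, hx, rfl⟩ := hy
  have h1 : (⟨d, hd⟩ : D) • P = P := hP ⟨d, hd⟩
  have h2 : (⟨d, hd⟩ : D) • x ∈ ((⟨d, hd⟩ : D) • (P : Subgroup K)) :=
    Subgroup.smul_mem_pointwise_smul x _ _ hx
  rw [← Sylow.pointwise_smul_def, h1] at h2
  refine ⟨(⟨d, hd⟩ : D) • x, h2, ?_⟩
  rfl

end Ambient

section Final

variable {G : Type*} [Group G] {p : ℕ} [Fact p.Prime]

omit [Fact p.Prime] in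
theorem isPGroup_zpowers_of_pow_eq_one {a : G} (hap : a ^ p = 1) : IsPGroup p (Subgroup.zpowers a) := by
  intro g
  refine ⟨1, ?_⟩
  obtain ⟨g, hg⟩ := g
  obtain ⟨k, rfl⟩ := Subgroup.mem_zpowers_iff.mp hg
  apply Subtype.ext
  show (a ^ k) ^ p ^ 1 = 1
  rw [pow_one, ← zpow_natCast, ← zpow_mul, mul_comm, zpow_mul, zpow_natCast, hap, one_zpow]

/-- **Generation by centralizers.** Let `a, b` be commuting elements with `a^p = b^p = 1`
normalizing a `p'`-subgroup `K` of a finite group. Any subgroup `T` containing `C_K(b)` and all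
`C_K(a b^i)` contains `K`. -/
theorem le_of_centralizers_le [Finite G] (K : Subgroup G) (hcop : ¬ p ∣ Nat.card K) (a b : G)
    (ha : a ∈ Subgroup.normalizer (K : Set G)) (hb : b ∈ Subgroup.normalizer (K : Set G))
    (hap : a ^ p = 1) (hbp : b ^ p = 1) (hab : a * b = b * a) (T : Subgroup G)
    (hTb : K ⊓ Subgroup.centralizer ({b} : Set G) ≤ T)
    (hTa : ∀ i : ℕ, K ⊓ Subgroup.centralizer ({a * b ^ i} : Set G) ≤ T) : K ≤ T := by
  set D := Subgroup.zpowers a ⊔ Subgroup.zpowers b with hDdef
  have hD : IsPGroup p D := by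
    apply IsPGroup.to_sup_of_normal_right' (isPGroup_zpowers_of_pow_eq_one hap)
      (isPGroup_zpowers_of_pow_eq_one hbp)
    rw [Subgroup.zpowers_le]
    have : a ∈ Subgroup.centralizer ((Subgroup.zpowers b : Subgroup G) : Set G) := by
      rw [Subgroup.zpowers_eq_closure, Subgroup.centralizer_closure, Subgroup.mem_centralizer_singleton_iff]
      exact hab
    exact Subgroup.centralizer_le_normalizer _ this
  have hDK : D ≤ Subgroup.normalizer (K : Set G) :=
    sup_le (Subgroup.zpowers_le.mpr ha) (Subgroup.zpowers_le.mpr hb)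
  have haD : a ∈ D := (le_sup_left : Subgroup.zpowers a ≤ D) (Subgroup.mem_zpowers a)
  have hbD : b ∈ D := (le_sup_right : Subgroup.zpowers b ≤ D) (Subgroup.mem_zpowers b)
  -- every prime `q`: an invariant Sylow `q`-subgroup inside `T`
  have hq : ∀ q : ℕ, q.Prime → q ^ (Nat.card K).factorization q ∣ Nat.card (K ⊓ T : Subgroup G) := by
    intro q hqp
    have : Fact q.Prime := ⟨hqp⟩
    obtain ⟨P, hP⟩ := exists_sylow_normalized K hcop D hD hDK q
    set Q := (P : Subgroup K).map K.subtype with hQdef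
    have hQK : Q ≤ K := Subgroup.map_subtype_le _
    have hnorm : ∀ d ∈ D, d ∈ Subgroup.normalizer (Q : Set G) := by
      intro d hd
      rw [Subgroup.mem_normalizer_iff]
      intro y
      refine ⟨hP d hd y, fun h => ?_⟩
      have := hP d⁻¹ (D.inv_mem hd) _ h
      have e : d⁻¹ * (d * y * d⁻¹) * d⁻¹⁻¹ = y := by group
      rwa [e] at this
    have hQq : IsPGroup q Q := P.2.map _
    have : Group.IsNilpotent Q := hQq.isNilpotent
    have hQcop : ¬ p ∣ Nat.card Q := fun h => hcop (h.trans (Subgroup.card_dvd_of_le hQK))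
    have hQT : Q ≤ T := le_of_centralizers_le_of_nilpotent Q hQcop a b (hnorm a haD) (hnorm b hbD)
      hap hbp hab T ((inf_le_inf_right _ hQK).trans hTb) (fun i => (inf_le_inf_right _ hQK).trans (hTa i))
    have hcardQ : Nat.card Q = q ^ (Nat.card K).factorization q := by
      rw [hQdef, Subgroup.card_map_of_injective K.subtype_injective]
      exact P.card_eq_multiplicity
    rw [← hcardQ]
    exact Subgroup.card_dvd_of_le (le_inf hQK hQT)
  have hdvd : Nat.card K ∣ Nat.card (K ⊓ T : Subgroup G) := by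
    rw [← Nat.factorization_prime_le_iff_dvd Nat.card_pos.ne' Nat.card_pos.ne']
    intro q hqp
    exact (hqp.pow_dvd_iff_le_factorization Nat.card_pos.ne').mp (hq q hqp)
  have hEq : K ⊓ T = K :=
    Subgroup.eq_of_le_of_card_ge inf_le_left (Nat.le_of_dvd Nat.card_pos hdvd)
  rw [← hEq]
  exact inf_le_right

end Final

end Cfsg.Agent.Lib.Helper48_Generation
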