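import Mathlib
import Cfsg.Prelude.Def_Transfer
import Cfsg.Agent.Lib.Helper48_Generation

/-!
# Generation by centralizers of hyperplanes (helper38)

If an elementary abelian `p`-group `A` normalizes a `p'`-subgroup `X` of a finite group, then any
subgroup `T` containing `C_X(B)` for all `B ≤ A` of index at most `p` contains `X`.
-/

set_option autoImplicit false

namespace Cfsg.Agent.Lib.Helper38_HyperplaneGen

open scoped IsMulCommutative

variable {H : Type*} [Group H] {p : ℕ} [Fact p.Prime]

/-- If `C ≤ A` has index more than `p` in the elementary abelian group `A`, there are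
`a, b ∈ A` which are independent modulo `C`. -/
theorem exists_indep [Finite H] (A C : Subgroup H) (hA : Cfsg.IsElementaryAbelian p A)
    (h : ¬ C.relIndex A ≤ p) :
    ∃ a ∈ A, ∃ b ∈ A, b ∉ C ∧ ∀ i : ℕ, a * b ^ i ∉ C := by
  have := hA.1
  have hp : p.Prime := Fact.out
  set C' : Subgroup A := C.subgroupOf A with hC'
  have hidx : C'.index = C.relIndex A := rfl
  have hpow : ∀ x : A, x ^ p = 1 := by
    intro x
    apply Subtype.ext
    simpa using hA.2 x x.2
  -- a' ∉ C'
  have h1 : ∃ a' : A, a' ∉ C' := by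
    by_contra hcon
    push Not at hcon
    have : C' = ⊤ := by rw [eq_top_iff]; intro x _; exact hcon x
    apply h
    rw [← hidx, this, Subgroup.index_top]
    exact hp.one_lt.le
  obtain ⟨a', ha'⟩ := h1
  have h2 : ∃ b' : A, b' ∉ C' ⊔ Subgroup.zpowers a' := by
    by_contra hcon
    push Not at hcon
    have htop : C' ⊔ Subgroup.zpowers a' = ⊤ := by rw [eq_top_iff]; intro x _; exact hcon x
    apply h
    have e1 : C'.index = C'.relIndex (Subgroup.zpowers a') := by
      rw [← Subgroup.relIndex_top_right, ← htop, Subgroup.relIndex_sup_left]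
    have e2 : C'.relIndex (Subgroup.zpowers a') ∣ p := by
      refine (Subgroup.relIndex_dvd_card _ _).trans ?_
      rw [Nat.card_zpowers]
      exact orderOf_dvd_of_pow_eq_one (hpow a')
    rw [← hidx, e1]
    exact Nat.le_of_dvd hp.pos e2
  obtain ⟨b', hb'⟩ := h2
  have hb'C : b' ∉ C' := fun hh => hb' ((le_sup_left : C' ≤ C' ⊔ Subgroup.zpowers a') hh)
  refine ⟨a', a'.2, b', b'.2, ?_, ?_⟩
  · intro hb
    exact hb'C (Subgroup.mem_subgroupOf.mpr hb)
  · intro i hi
    have hi' : a' * b' ^ i ∈ C' := by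
      rw [Subgroup.mem_subgroupOf]
      simpa using hi
    by_cases hpi : p ∣ i
    · obtain ⟨k, rfl⟩ := hpi
      rw [pow_mul, hpow b', one_pow, mul_one] at hi'
      exact ha' hi'
    · have hco : Nat.Coprime i p := ((Nat.Prime.coprime_iff_not_dvd hp).mpr hpi).symm
      have hco' : Nat.Coprime i (orderOf b') :=
        Nat.Coprime.coprime_dvd_right (orderOf_dvd_of_pow_eq_one (hpow b')) hco
      obtain ⟨m, hm⟩ := exists_pow_eq_self_of_coprime hco'
      apply hb'
      rw [← hm]
      apply Subgroup.pow_mem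
      have : b' ^ i = (a' * b' ^ i) * a'⁻¹ := by rw [mul_comm, inv_mul_cancel_left]
      rw [this]
      exact Subgroup.mul_mem _ ((le_sup_left : C' ≤ C' ⊔ Subgroup.zpowers a') hi')
        ((le_sup_right : Subgroup.zpowers a' ≤ C' ⊔ Subgroup.zpowers a')
          (Subgroup.inv_mem _ (Subgroup.mem_zpowers a')))

/-- `C_X(C) ∩ C(c) ≤ C_X(⟨C, c⟩)`. -/
theorem inf_centralizer_le (X C : Subgroup H) (c : H) :
    X ⊓ Subgroup.centralizer (C : Set H) ⊓ Subgroup.centralizer ({c} : Set H) ≤
      X ⊓ Subgroup.centralizer ((C ⊔ Subgroup.zpowers c : Subgroup H) : Set H) := by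
  intro y hy
  obtain ⟨hy1, hyc⟩ := Subgroup.mem_inf.mp hy
  obtain ⟨hyX, hyC⟩ := Subgroup.mem_inf.mp hy1
  refine Subgroup.mem_inf.mpr ⟨hyX, ?_⟩
  have hle : C ⊔ Subgroup.zpowers c ≤ Subgroup.centralizer ({y} : Set H) := by
    refine sup_le ?_ (Subgroup.zpowers_le.mpr ?_)
    · intro d hd
      rw [Subgroup.mem_centralizer_singleton_iff]
      exact (Subgroup.mem_centralizer_iff.mp hyC) d hd
    · rw [Subgroup.mem_centralizer_singleton_iff]
      exact (Subgroup.mem_centralizer_singleton_iff.mp hyc).symm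
  rw [Subgroup.mem_centralizer_iff]
  intro d hd
  exact Subgroup.mem_centralizer_singleton_iff.mp (hle hd)

/-- An abelian group `A` normalizing `X` normalizes `C_X(C)` for every `C ≤ A`. -/
theorem mem_normalizer_inf_centralizer (A X C : Subgroup H)
    (hcomm : ∀ u ∈ A, ∀ v ∈ A, u * v = v * u)
    (hAX : A ≤ Subgroup.normalizer (X : Set H)) (hCA : C ≤ A) (u : H) (hu : u ∈ A) :
    u ∈ Subgroup.normalizer ((X ⊓ Subgroup.centralizer (C : Set H) : Subgroup H) : Set H) := by
  have key : ∀ v ∈ A, ∀ y ∈ X ⊓ Subgroup.centralizer (C : Set H),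
      v * y * v⁻¹ ∈ X ⊓ Subgroup.centralizer (C : Set H) := by
    intro v hv y hy
    obtain ⟨hyX, hyC⟩ := Subgroup.mem_inf.mp hy
    refine Subgroup.mem_inf.mpr ⟨(Subgroup.mem_normalizer_iff.mp (hAX hv) y).mp hyX, ?_⟩
    rw [Subgroup.mem_centralizer_iff]
    intro c hc
    have h1 : c * y = y * c := (Subgroup.mem_centralizer_iff.mp hyC) c hc
    have h2 : c * v = v * c := hcomm c (hCA hc) v hv
    have h3 : c * v⁻¹ = v⁻¹ * c := hcomm c (hCA hc) v⁻¹ (A.inv_mem hv)
    calc c * (v * y * v⁻¹) = (c * v) * y * v⁻¹ := by group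
      _ = v * (c * y) * v⁻¹ := by rw [h2]; group
      _ = v * y * (c * v⁻¹) := by rw [h1]; group
      _ = v * y * v⁻¹ * c := by rw [h3]; group
  rw [Subgroup.mem_normalizer_iff]
  intro y
  refine ⟨key u hu y, fun h => ?_⟩
  have := key u⁻¹ (A.inv_mem hu) _ h
  have e : u⁻¹ * (u * y * u⁻¹) * u⁻¹⁻¹ = y := by group
  rwa [e] at this

/-- **Generation by centralizers of hyperplanes.** Let the elementary abelian `p`-group `A`
normalize the `p'`-subgroup `X`. A subgroup `T` containing `C_X(B)` for all `B ≤ A` of index at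
most `p` contains `X`. -/
theorem le_of_hyperplane_centralizers_le [Finite H] (A X : Subgroup H)
    (hA : Cfsg.IsElementaryAbelian p A) (hX : ¬ p ∣ Nat.card X)
    (hAX : A ≤ Subgroup.normalizer (X : Set H)) (T : Subgroup H)
    (hT : ∀ B : Subgroup H, B ≤ A → B.relIndex A ≤ p →
      X ⊓ Subgroup.centralizer (B : Set H) ≤ T) : X ≤ T := by
  have hcomm : ∀ u ∈ A, ∀ v ∈ A, u * v = v * u := by
    intro u hu v hv
    have := hA.1.is_comm.comm ⟨u, hu⟩ ⟨v, hv⟩
    exact congrArg Subtype.val this
  have key : ∀ C : Subgroup H, C ≤ A → X ⊓ Subgroup.centralizer (C : Set H) ≤ T := by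
    intro C
    induction C using WellFoundedGT.induction with
    | ind C ih =>
      intro hCA
      by_cases hidx : C.relIndex A ≤ p
      · exact hT C hCA hidx
      · obtain ⟨a, haA, b, hbA, hbC, habC⟩ := exists_indep A C hA hidx
        have hKcop : ¬ p ∣ Nat.card (X ⊓ Subgroup.centralizer (C : Set H) : Subgroup H) :=
          fun h => hX (h.trans (Subgroup.card_dvd_of_le inf_le_left))
        have hnorm := mem_normalizer_inf_centralizer A X C hcomm hAX hCA
        have step : ∀ c ∈ A, c ∉ C →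
            X ⊓ Subgroup.centralizer (C : Set H) ⊓ Subgroup.centralizer ({c} : Set H) ≤ T := by
          intro c hcA hcC
          refine (inf_centralizer_le X C c).trans (ih (C ⊔ Subgroup.zpowers c) ?_ ?_)
          · refine lt_of_le_of_ne le_sup_left ?_
            intro heq
            apply hcC
            rw [heq]
            exact (le_sup_right : Subgroup.zpowers c ≤ _) (Subgroup.mem_zpowers c)
          · exact sup_le hCA (Subgroup.zpowers_le.mpr hcA)
        exact Cfsg.Agent.Lib.Helper48_Generation.le_of_centralizers_le (p := p) _ hKcop a b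
          (hnorm a haA) (hnorm b hbA) (hA.2 a haA) (hA.2 b hbA) (hcomm a haA b hbA) T
          (step b hbA hbC) (fun i => step (a * b ^ i) (A.mul_mem haA (A.pow_mem hbA i)) (habC i))
  have h0 := key ⊥ bot_le
  refine le_trans ?_ h0
  intro y hy
  refine Subgroup.mem_inf.mpr ⟨hy, ?_⟩
  rw [Subgroup.mem_centralizer_iff]
  intro d hd
  rw [SetLike.mem_coe, Subgroup.mem_bot] at hd
  rw [hd]; simp

end Cfsg.Agent.Lib.Helper38_HyperplaneGen
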