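import Mathlib
import Cfsg.Agent.Lib.Helper48_Generation
import Cfsg.Agent.S0023
import Cfsg.Agent.S0058
import Cfsg.Agent.Lib.Helper38_HyperplaneGen

/-!
# Generation by centralizers for abelian groups acting coprimely (helper38)

Generalization of helper48's `Z_p × Z_p` generation lemma to elements `a, b` whose `p`-th powers
merely centralize the group acted on, and the resulting theorem: if the abelian group `A` acts
coprimely on `K`, then `K` is generated by the `C_K(B)`, `A / B` cyclic.
-/

set_option autoImplicit false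

namespace Cfsg.Agent.Lib.Helper38_AbelianGen

open Cfsg.Agent.Lib.Helper48_Generation

variable {G : Type*} [Group G]

section

variable {p : ℕ} [Fact p.Prime]

/-- Ambient nilpotent form, with `a ^ p` and `b ^ p` merely centralizing `Q`. -/
theorem le_of_centralizers_le_of_nilpotent' (Q : Subgroup G) [Finite Q] [Group.IsNilpotent Q]
    (hcop : ¬ p ∣ Nat.card Q) (a b : G)
    (ha : a ∈ Subgroup.normalizer (Q : Set G)) (hb : b ∈ Subgroup.normalizer (Q : Set G))
    (hap : a ^ p ∈ Subgroup.centralizer (Q : Set G))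
    (hbp : b ^ p ∈ Subgroup.centralizer (Q : Set G)) (hab : a * b = b * a) (T : Subgroup G)
    (hTb : Q ⊓ Subgroup.centralizer ({b} : Set G) ≤ T)
    (hTa : ∀ i : ℕ, Q ⊓ Subgroup.centralizer ({a * b ^ i} : Set G) ≤ T) : Q ≤ T := by
  let a' : Subgroup.normalizer (Q : Set G) := ⟨a, ha⟩
  let b' : Subgroup.normalizer (Q : Set G) := ⟨b, hb⟩
  have hab' : a' * b' = b' * a' := Subtype.ext (by simpa using hab)
  have hpow : ∀ (g : Subgroup.normalizer (Q : Set G)),
      (g : G) ^ p ∈ Subgroup.centralizer (Q : Set G) → (normAut Q g) ^ p = 1 := by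
    intro g hg
    rw [← map_pow]
    ext x
    rw [normAut_apply_coe, MulAut.one_apply]
    have h1 : (x : G) * (g : G) ^ p = (g : G) ^ p * x :=
      (Subgroup.mem_centralizer_iff.mp hg) x x.2
    have h2 : ((g ^ p : Subgroup.normalizer (Q : Set G)) : G) = (g : G) ^ p := by simp
    rw [h2, ← h1]
    group
  have hfix : ∀ (g : Subgroup.normalizer (Q : Set G)) (x : Q), normAut Q g x = x →
      (x : G) ∈ Q ⊓ Subgroup.centralizer ({(g : G)} : Set G) := by
    intro g x hx
    refine Subgroup.mem_inf.mpr ⟨x.2, ?_⟩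
    rw [Subgroup.mem_centralizer_singleton_iff]
    have h1 : (g : G) * x * (g : G)⁻¹ = x := congrArg Subtype.val hx
    calc (x : G) * g = ((g : G) * x * (g : G)⁻¹) * g := by rw [h1]
      _ = g * x := by group
  have key := eq_top_of_fixed_le (p := p) Q hcop (normAut Q a') (normAut Q b')
    (hpow a' hap) (hpow b' hbp)
    (by rw [← map_mul, hab', map_mul]) (T.subgroupOf Q)
    (by
      intro x hx
      rw [Subgroup.mem_subgroupOf]
      exact hTb (hfix b' x hx))
    (by
      intro i x hx
      rw [Subgroup.mem_subgroupOf]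
      rw [← map_pow, ← map_mul] at hx
      have := hfix (a' * b' ^ i) x hx
      exact hTa i (by simpa using this))
  intro x hx
  have : (⟨x, hx⟩ : Q) ∈ T.subgroupOf Q := by rw [key]; trivial
  rwa [Subgroup.mem_subgroupOf] at this

/-- **Generation by centralizers**, for commuting elements `a, b` of an abelian group `A` acting
coprimely on `K`, whose `p`-th powers centralize `K`. -/
theorem le_of_centralizers_le' [Finite G] (A K : Subgroup G) (hAab : IsMulCommutative A)
    (hAK : A ≤ Subgroup.normalizer (K : Set G)) (hcop : (Nat.card A).Coprime (Nat.card K))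
    (hpK : ¬ p ∣ Nat.card K) (a b : G) (ha : a ∈ A) (hb : b ∈ A)
    (hap : a ^ p ∈ Subgroup.centralizer (K : Set G))
    (hbp : b ^ p ∈ Subgroup.centralizer (K : Set G)) (T : Subgroup G)
    (hTb : K ⊓ Subgroup.centralizer ({b} : Set G) ≤ T)
    (hTa : ∀ i : ℕ, K ⊓ Subgroup.centralizer ({a * b ^ i} : Set G) ≤ T) : K ≤ T := by
  have hab : a * b = b * a := by
    have := hAab.is_comm.comm ⟨a, ha⟩ ⟨b, hb⟩
    exact congrArg Subtype.val this
  have hAsolv : Group.IsSolvable A := by
    have : ∀ x y : A, x * y = y * x := fun x y => hAab.is_comm.comm x y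
    exact Group.isSolvable_of_comm this
  -- every prime `q`: an invariant Sylow `q`-subgroup inside `T`
  have hq : ∀ q : ℕ, q.Prime → q ^ (Nat.card K).factorization q ∣ Nat.card (K ⊓ T : Subgroup G) := by
    intro q hqp
    have : Fact q.Prime := ⟨hqp⟩
    obtain ⟨P, hP⟩ := Cfsg.Agent.S0023.result A K hAK hcop (Or.inl hAsolv) q
    set Q := (P : Subgroup K).map K.subtype with hQdef
    have hQK : Q ≤ K := Subgroup.map_subtype_le _
    have hQq : IsPGroup q Q := P.2.map _
    have : Group.IsNilpotent Q := hQq.isNilpotent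
    have hQcop : ¬ p ∣ Nat.card Q := fun h => hpK (h.trans (Subgroup.card_dvd_of_le hQK))
    have hcent : Subgroup.centralizer (K : Set G) ≤ Subgroup.centralizer (Q : Set G) :=
      Subgroup.centralizer_le hQK
    have hQT : Q ≤ T := le_of_centralizers_le_of_nilpotent' Q hQcop a b (hP ha) (hP hb)
      (hcent hap) (hcent hbp) hab T ((inf_le_inf_right _ hQK).trans hTb)
      (fun i => (inf_le_inf_right _ hQK).trans (hTa i))
    have hcardQ : Nat.card Q = q ^ (Nat.card K).factorization q := by
      rw [hQdef, Subgroup.card_map_of_injective K.subtype_injective]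
      exact P.card_eq_multiplicity
    rw [← hcardQ]
    exact Subgroup.card_dvd_of_le (le_inf hQK hQT)
  have hdvd : Nat.card K ∣ Nat.card (K ⊓ T : Subgroup G) := by
    rw [← Nat.factorization_prime_le_iff_dvd Nat.card_pos.ne' Nat.card_pos.ne']
    intro q hqp
    exact (hqp.pow_dvd_iff_le_factorization Nat.card_pos.ne').mp (hq q hqp)
  have hEq : K ⊓ T = K :=
    Subgroup.eq_of_le_of_card_ge inf_le_left (Nat.le_of_dvd Nat.card_pos hdvd)
  rw [← hEq]
  exact inf_le_right

end

section Indep

open scoped IsMulCommutative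

/-- If `A / B` is not cyclic (`A` abelian), there are a prime `p` and `a, b ∈ A`, independent
modulo `B`, with `a ^ p, b ^ p ∈ B`. -/
theorem exists_indep_mod [Finite G] (A B : Subgroup G) (hAab : IsMulCommutative A) (hBA : B ≤ A)
    (h : ¬ ∃ a ∈ A, B ⊔ Subgroup.zpowers a = A) :
    ∃ (p : ℕ) (_ : p.Prime), p ∣ Nat.card A ∧ ∃ a ∈ A, ∃ b ∈ A, a ^ p ∈ B ∧ b ^ p ∈ B ∧ b ∉ B ∧
      ∀ i : ℕ, a * b ^ i ∉ B := by
  have hN : (B.subgroupOf A).Normal := inferInstance
  have hQc : IsMulCommutative (↥A ⧸ B.subgroupOf A) := by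
    refine ⟨⟨fun x y => ?_⟩⟩
    induction x using QuotientGroup.induction_on with
    | H x =>
      induction y using QuotientGroup.induction_on with
      | H y => rw [← QuotientGroup.mk_mul, ← QuotientGroup.mk_mul, mul_comm]
  have hncyc : ¬ IsCyclic (↥A ⧸ B.subgroupOf A) := by
    intro hcyc
    apply h
    obtain ⟨g, hg⟩ := hcyc.exists_generator
    obtain ⟨a', rfl⟩ := QuotientGroup.mk_surjective g
    refine ⟨a', a'.2, le_antisymm (sup_le hBA (Subgroup.zpowers_le.mpr a'.2)) ?_⟩
    intro x hx
    obtain ⟨k, hk⟩ := Subgroup.mem_zpowers_iff.mp (hg (QuotientGroup.mk ⟨x, hx⟩))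
    rw [← QuotientGroup.mk_zpow, QuotientGroup.eq] at hk
    rw [Subgroup.mem_subgroupOf] at hk
    have hk' : ((a' : G) ^ k)⁻¹ * x ∈ B := by simpa using hk
    have : x = (a' : G) ^ k * (((a' : G) ^ k)⁻¹ * x) := by group
    rw [this]
    exact Subgroup.mul_mem _
      ((le_sup_right : Subgroup.zpowers (a' : G) ≤ B ⊔ Subgroup.zpowers (a' : G))
        (Subgroup.zpow_mem _ (Subgroup.mem_zpowers _) k))
      ((le_sup_left : B ≤ B ⊔ Subgroup.zpowers (a' : G)) hk')
  obtain ⟨p, hp, abar, bbar, hap, hbp, hb1, hab⟩ :=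
    Cfsg.Agent.S0058.exists_rank_two (A := ↥A ⧸ B.subgroupOf A) hncyc
  obtain ⟨a', rfl⟩ := QuotientGroup.mk_surjective abar
  obtain ⟨b', rfl⟩ := QuotientGroup.mk_surjective bbar
  refine ⟨p, hp, ?_, a', a'.2, b', b'.2, ?_, ?_, ?_, ?_⟩
  · have h1 : orderOf (QuotientGroup.mk b' : ↥A ⧸ B.subgroupOf A) = p :=
      haveI : Fact p.Prime := ⟨hp⟩
      orderOf_eq_prime hbp hb1
    rw [← h1]
    exact (orderOf_dvd_natCard _).trans (Subgroup.card_quotient_dvd_card _)
  · rw [← QuotientGroup.mk_pow, QuotientGroup.eq_one_iff, Subgroup.mem_subgroupOf] at hap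
    simpa using hap
  · rw [← QuotientGroup.mk_pow, QuotientGroup.eq_one_iff, Subgroup.mem_subgroupOf] at hbp
    simpa using hbp
  · intro hb
    apply hb1
    rw [QuotientGroup.eq_one_iff, Subgroup.mem_subgroupOf]
    exact hb
  · intro i hi
    apply hab i
    rw [← QuotientGroup.mk_pow, ← QuotientGroup.mk_mul, QuotientGroup.eq_one_iff,
      Subgroup.mem_subgroupOf]
    simpa using hi

end Indep

section Main

open Cfsg.Agent.Lib.Helper38_HyperplaneGen

/-- **Generation by centralizers of subgroups with cyclic quotient.** Let the abelian group `A`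
act coprimely on `K`. A subgroup `T` containing `C_K(B)` for all `B ≤ A` with `A / B` cyclic
contains `K`. -/
theorem le_of_cyclic_quotient_centralizers_le [Finite G] (A K : Subgroup G)
    (hAab : IsMulCommutative A) (hAK : A ≤ Subgroup.normalizer (K : Set G))
    (hcop : (Nat.card A).Coprime (Nat.card K)) (T : Subgroup G)
    (hT : ∀ B : Subgroup G, B ≤ A → (∃ a ∈ A, B ⊔ Subgroup.zpowers a = A) →
      K ⊓ Subgroup.centralizer (B : Set G) ≤ T) : K ≤ T := by
  have hcomm : ∀ u ∈ A, ∀ v ∈ A, u * v = v * u := by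
    intro u hu v hv
    have := hAab.is_comm.comm ⟨u, hu⟩ ⟨v, hv⟩
    exact congrArg Subtype.val this
  have key : ∀ C : Subgroup G, C ≤ A → K ⊓ Subgroup.centralizer (C : Set G) ≤ T := by
    intro C
    induction C using WellFoundedGT.induction with
    | ind C ih =>
      intro hCA
      by_cases hcyc : ∃ a ∈ A, C ⊔ Subgroup.zpowers a = A
      · exact hT C hCA hcyc
      · obtain ⟨p, hp, hpA, a, haA, b, hbA, hapC, hbpC, hbC, habC⟩ :=
          exists_indep_mod A C hAab hCA hcyc
        have : Fact p.Prime := ⟨hp⟩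
        have hdvd : Nat.card (K ⊓ Subgroup.centralizer (C : Set G) : Subgroup G) ∣ Nat.card K :=
          Subgroup.card_dvd_of_le inf_le_left
        have hcop' : (Nat.card A).Coprime
            (Nat.card (K ⊓ Subgroup.centralizer (C : Set G) : Subgroup G)) :=
          Nat.Coprime.coprime_dvd_right hdvd hcop
        have hpK : ¬ p ∣ Nat.card (K ⊓ Subgroup.centralizer (C : Set G) : Subgroup G) := by
          intro h
          have h2 : p ∣ Nat.gcd (Nat.card A)
              (Nat.card (K ⊓ Subgroup.centralizer (C : Set G) : Subgroup G)) :=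
            Nat.dvd_gcd hpA h
          rw [hcop'] at h2
          exact hp.one_lt.ne' (Nat.dvd_one.mp h2)
        have hnorm : A ≤ Subgroup.normalizer
            ((K ⊓ Subgroup.centralizer (C : Set G) : Subgroup G) : Set G) :=
          fun u hu => mem_normalizer_inf_centralizer A K C hcomm hAK hCA u hu
        have hcent : ∀ c ∈ C, c ∈ Subgroup.centralizer
            ((K ⊓ Subgroup.centralizer (C : Set G) : Subgroup G) : Set G) := by
          intro c hc
          rw [Subgroup.mem_centralizer_iff]
          intro x hx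
          exact ((Subgroup.mem_centralizer_iff.mp (Subgroup.mem_inf.mp hx).2) c hc).symm
        have step : ∀ c ∈ A, c ∉ C →
            K ⊓ Subgroup.centralizer (C : Set G) ⊓ Subgroup.centralizer ({c} : Set G) ≤ T := by
          intro c hcA hcC
          refine (inf_centralizer_le K C c).trans (ih (C ⊔ Subgroup.zpowers c) ?_ ?_)
          · refine lt_of_le_of_ne le_sup_left ?_
            intro heq
            apply hcC
            rw [heq]
            exact (le_sup_right : Subgroup.zpowers c ≤ _) (Subgroup.mem_zpowers c)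
          · exact sup_le hCA (Subgroup.zpowers_le.mpr hcA)
        exact le_of_centralizers_le' (p := p) A _ hAab hnorm hcop' hpK a b haA hbA
          (hcent _ hapC) (hcent _ hbpC) T (step b hbA hbC)
          (fun i => step (a * b ^ i) (A.mul_mem haA (A.pow_mem hbA i)) (habC i))
  have h0 := key ⊥ bot_le
  refine le_trans ?_ h0
  intro y hy
  refine Subgroup.mem_inf.mpr ⟨hy, ?_⟩
  rw [Subgroup.mem_centralizer_iff]
  intro d hd
  rw [SetLike.mem_coe, Subgroup.mem_bot] at hd
  rw [hd]; simp

end Main

end Cfsg.Agent.Lib.Helper38_AbelianGen
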