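import Cfsg.Agent.S3755
import Cfsg.Agent.Lib.Helper38_AbelianGen
import Cfsg.Prelude.Def_PLocal

/-!
# Best offenders in a faithful group with self-centralizing `p'`-core (helper62)

Setting (Kurzweil–Stellmacher 9.3): `V` an elementary abelian `p`-subgroup, `H ≤ N(V)` faithful on
`V`, `K = O_{p'}(H)` with `C_H(K) ≤ K`.  The key lemma: a nontrivial best offender `A ≤ H` has a
"hyperplane" `A₀` which is again a best offender, with `|A| = p |A₀|`,
`|C_V(A₀)| = p |C_V(A)|`.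
-/

set_option autoImplicit false
set_option linter.style.haveILetI false
set_option linter.unusedSectionVars false
open Cfsg

namespace Cfsg.Agent.Lib.Helper62_Offender

open Cfsg.Agent.Lib.Helper1_Cores Cfsg.Agent.S3739 Cfsg.Agent.S3755
open scoped commutatorElement

variable {G : Type*} [Group G] [Finite G] {p : ℕ} [Fact p.Prime]

/-- the image of `O_{p'}(H)` in the ambient group -/
def coreK (p : ℕ) (H : Subgroup G) : Subgroup G := (Cfsg.pPrimeCore p ↥H).map H.subtype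

theorem coreK_le (H : Subgroup G) : coreK p H ≤ H := Subgroup.map_subtype_le _

theorem le_normalizer_coreK (H : Subgroup G) :
    H ≤ Subgroup.normalizer ((coreK p H : Subgroup G) : Set G) :=
  (Cfsg.Agent.Lib.Helper47_SubAPI.normal_iff_le_normalizer_map H _).mp inferInstance

theorem coreK_coprime (H : Subgroup G) : (Nat.card (coreK p H)).Coprime p := by
  rw [coreK, Subgroup.card_map_of_injective H.subtype_injective]
  exact pPrimeCore_card_coprime p

theorem coreK_con (H : Subgroup G)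
    (hS1 : Subgroup.centralizer (Cfsg.pPrimeCore p ↥H : Set ↥H) ≤ Cfsg.pPrimeCore p ↥H) :
    H ⊓ Subgroup.centralizer ((coreK p H : Subgroup G) : Set G) ≤ coreK p H := by
  rintro y ⟨hyM, hyC⟩
  have h1 : (⟨y, hyM⟩ : ↥H) ∈ Subgroup.centralizer (Cfsg.pPrimeCore p ↥H : Set ↥H) := by
    rw [Subgroup.mem_centralizer_iff]
    intro z hz
    apply Subtype.ext
    have h2 : (z : G) ∈ coreK p H := ⟨z, hz, rfl⟩
    exact Subgroup.mem_centralizer_iff.mp hyC _ h2
  exact ⟨⟨y, hyM⟩, hS1 h1, rfl⟩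

section offender

variable (V H : Subgroup G) (hf : H ⊓ Subgroup.centralizer (V : Set G) = ⊥)
  {A : Subgroup G} (hAH : A ≤ H) (hA : Cfsg.IsBestOffenderOn p V A)

include hf hAH hA in
theorem offender_comm {x y : G} (hx : x ∈ A) (hy : y ∈ A) : x * y = y * x := by
  have h1 : ⁅x, y⁆ ∈ H ⊓ Subgroup.centralizer (V : Set G) :=
    ⟨H.mul_mem (H.mul_mem (H.mul_mem (hAH hx) (hAH hy)) (H.inv_mem (hAH hx)))
      (H.inv_mem (hAH hy)), hA.2.1 (Subgroup.commutator_mem_commutator hx hy)⟩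
  rw [hf, Subgroup.mem_bot, commutatorElement_eq_one_iff_mul_comm] at h1
  exact h1

include hf hAH hA in
theorem offender_exp {x : G} (hx : x ∈ A) : x ^ p = 1 := by
  have h1 : x ^ p ∈ H ⊓ Subgroup.centralizer (V : Set G) :=
    ⟨H.pow_mem (hAH hx) p, hA.2.2 x hx⟩
  rw [hf, Subgroup.mem_bot] at h1
  exact h1

include hf hAH hA in
theorem offender_elementary : Cfsg.IsElementaryAbelian p A := by
  refine ⟨⟨⟨fun x y => ?_⟩⟩, fun a ha => offender_exp V H hf hAH hA ha⟩
  apply Subtype.ext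
  exact offender_comm V H hf hAH hA x.2 y.2

include hf hAH hA in
theorem offender_isPGroup : IsPGroup p A := by
  intro x
  refine ⟨1, ?_⟩
  apply Subtype.ext
  have := offender_exp V H hf hAH hA x.2
  simpa using this

end offender

/-- `C(A₀ ⊔ ⟨a⟩) = C(A₀) ⊓ C(a)` -/
theorem centralizer_sup_zpowers_eq (B : Subgroup G) (c : G) :
    Subgroup.centralizer ((B ⊔ Subgroup.zpowers c : Subgroup G) : Set G) =
      Subgroup.centralizer (B : Set G) ⊓ Subgroup.centralizer {c} := by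
  apply le_antisymm
  · refine le_inf (Subgroup.centralizer_le
      (SetLike.coe_subset_coe.mpr (le_sup_left : B ≤ B ⊔ Subgroup.zpowers c)))
      (Subgroup.centralizer_le ?_)
    intro x hx
    rw [Set.mem_singleton_iff] at hx
    rw [hx]
    exact (le_sup_right : Subgroup.zpowers c ≤ B ⊔ Subgroup.zpowers c) (Subgroup.mem_zpowers c)
  · exact centralizer_sup_zpowers B c

/-- **Key lemma.** A nontrivial best offender `A ≤ H` has a subgroup `A₀` of index `p` which is a
best offender with `|C_V(A₀)| = p |C_V(A)|`; moreover `A₀` can be chosen not to contain a given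
nontrivial subgroup `D ≤ A`. -/
theorem key_lemma' (V H : Subgroup G) (hV : Cfsg.IsElementaryAbelian p V)
    (hHV : H ≤ Subgroup.normalizer (V : Set G))
    (hf : H ⊓ Subgroup.centralizer (V : Set G) = ⊥)
    (hS1 : Subgroup.centralizer (Cfsg.pPrimeCore p ↥H : Set ↥H) ≤ Cfsg.pPrimeCore p ↥H)
    (A : Subgroup G) (hAH : A ≤ H) (hA : Cfsg.IsBestOffenderOn p V A)
    (D : Subgroup G) (hDA : D ≤ A) (hD1 : D ≠ ⊥) :
    ∃ A₀ : Subgroup G, A₀ ≤ A ∧ Cfsg.IsBestOffenderOn p V A₀ ∧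
      Nat.card A = p * Nat.card A₀ ∧
      Nat.card ↥(V ⊓ Subgroup.centralizer (A₀ : Set G)) =
        p * Nat.card ↥(V ⊓ Subgroup.centralizer (A : Set G)) ∧ ¬ D ≤ A₀ := by
  classical
  set K := coreK p H with hK
  have hKH : K ≤ H := coreK_le H
  have hHK : H ≤ Subgroup.normalizer (K : Set G) := le_normalizer_coreK (p := p) H
  have hKcop : (Nat.card K).Coprime p := coreK_coprime (p := p) H
  have hKcon : H ⊓ Subgroup.centralizer (K : Set G) ≤ K := coreK_con H hS1
  have hAel := offender_elementary V H hf hAH hA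
  have hAp := offender_isPGroup V H hf hAH hA
  have hp := (Fact.out : p.Prime)
  have hVp : IsPGroup p V := by
    intro x
    refine ⟨1, ?_⟩
    apply Subtype.ext
    have := hV.2 x.1 x.2
    simpa using this
  -- `K` does not centralize `D`
  have hKD : ¬ K ≤ Subgroup.centralizer (D : Set G) := by
    intro h
    have h1 : D ≤ K := fun x hx => hKcon ⟨hAH (hDA hx), (Subgroup.le_centralizer_iff.mp h) hx⟩
    have h2 : Nat.card D ∣ Nat.card K := Subgroup.card_dvd_of_le h1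
    rcases (hAp.to_le hDA).card_eq_or_dvd with h3 | h3
    · exact hD1 (Subgroup.card_eq_one.mp h3)
    · have := Nat.Coprime.eq_one_of_dvd hKcop.symm (dvd_trans h3 h2)
      exact hp.one_lt.ne' this
  have hcopAK : (Nat.card A).Coprime (Nat.card K) := by
    obtain ⟨n, hn⟩ := hAp.exists_card_eq
    rw [hn]
    exact Nat.Coprime.pow_left n hKcop.symm
  obtain ⟨A₀, hA₀A, ⟨a, haA, hsup⟩, hnotD⟩ : ∃ B : Subgroup G, B ≤ A ∧
      (∃ a ∈ A, B ⊔ Subgroup.zpowers a = A) ∧
      ¬ (K ⊓ Subgroup.centralizer (B : Set G) ≤ Subgroup.centralizer (D : Set G)) := by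
    by_contra hcon
    push Not at hcon
    exact hKD (Cfsg.Agent.Lib.Helper38_AbelianGen.le_of_cyclic_quotient_centralizers_le A K
      hAel.1 (le_trans hAH hHK) hcopAK _ (fun B hB hBa => hcon B hB hBa))
  have hnot : ¬ (K ⊓ Subgroup.centralizer (A₀ : Set G) ≤ Subgroup.centralizer (A : Set G)) :=
    fun h => hnotD (le_trans h (Subgroup.centralizer_le hDA))
  have hDA₀ : ¬ D ≤ A₀ := fun h => hnotD (le_trans inf_le_right (Subgroup.centralizer_le h))
  have hCA : Subgroup.centralizer (A : Set G) =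
      Subgroup.centralizer (A₀ : Set G) ⊓ Subgroup.centralizer {a} := by
    rw [← hsup]
    exact centralizer_sup_zpowers_eq A₀ a
  have hQa : ¬ (K ⊓ Subgroup.centralizer (A₀ : Set G) ≤ Subgroup.centralizer {a}) := by
    intro h
    apply hnot
    rw [hCA]
    exact le_inf inf_le_right h
  have hap : a ^ p = 1 := hAel.2 a haA
  have haH : a ∈ H := hAH haA
  have hACA₀ : A ≤ Subgroup.centralizer (A₀ : Set G) := by
    intro x hx
    rw [Subgroup.mem_centralizer_iff]
    intro y hy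
    exact offender_comm V H hf hAH hA (hA₀A hy) hx
  have haCA₀ : a ∈ Subgroup.centralizer (A₀ : Set G) := hACA₀ haA
  set V₀ : Subgroup G := V ⊓ Subgroup.centralizer (A₀ : Set G) with hV₀
  have hV₀V : V₀ ≤ V := inf_le_left
  have hVA : V ⊓ Subgroup.centralizer (A : Set G) = V₀ ⊓ Subgroup.centralizer {a} := by
    rw [hCA, hV₀, inf_assoc]
  -- `a` acts nontrivially on `V₀`
  have hV₀a : ¬ V₀ ≤ Subgroup.centralizer {a} := by
    intro hcon
    apply hQa
    set Q : Subgroup G := K ⊓ Subgroup.centralizer (A₀ : Set G) with hQ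
    set L : Subgroup G := ⁅Q, Subgroup.zpowers a⁆ with hL
    have hnormV₀ : ∀ c ∈ H, c ∈ Subgroup.centralizer (A₀ : Set G) →
        c ∈ Subgroup.normalizer (V₀ : Set G) := by
      intro c hcM hcB
      apply Cfsg.Agent.Lib.Helper47_SubAPI.normalizer_inf_le_normalizer_inf
      exact ⟨hHV hcM, Subgroup.le_normalizer hcB⟩
    have hzaC : Subgroup.zpowers a ≤ Subgroup.centralizer (V₀ : Set G) := by
      rw [Subgroup.zpowers_le, Subgroup.mem_centralizer_iff]
      intro v hv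
      exact Subgroup.mem_centralizer_singleton_iff.mp (hcon hv)
    have hLV₀ : L ≤ Subgroup.centralizer (V₀ : Set G) := by
      rw [hL, Subgroup.commutator_le]
      intro g₁ hg₁ g₂ hg₂
      have hconjC : g₁ * g₂ * g₁⁻¹ ∈ Subgroup.centralizer (V₀ : Set G) := by
        rw [Subgroup.mem_centralizer_iff]
        intro v hv
        have hv' : g₁⁻¹ * v * g₁ ∈ V₀ :=
          (Subgroup.mem_normalizer_iff''.mp (hnormV₀ g₁ (hKH hg₁.1) hg₁.2) v).mp hv
        have h1 := Subgroup.mem_centralizer_iff.mp (hzaC hg₂) _ hv'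
        calc v * (g₁ * g₂ * g₁⁻¹) = g₁ * ((g₁⁻¹ * v * g₁) * g₂) * g₁⁻¹ := by group
          _ = g₁ * (g₂ * (g₁⁻¹ * v * g₁)) * g₁⁻¹ := by rw [h1]
          _ = g₁ * g₂ * g₁⁻¹ * v := by group
      rw [commutatorElement_def]
      exact Subgroup.mul_mem _ hconjC (Subgroup.inv_mem _ (hzaC hg₂))
    have hzaK : Subgroup.zpowers a ≤ Subgroup.normalizer (K : Set G) :=
      Subgroup.zpowers_le.mpr (hHK haH)
    have hLK : L ≤ K := by
      rw [hL, Subgroup.commutator_le]
      intro g₁ hg₁ g₂ hg₂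
      have h1 : g₂ * g₁⁻¹ * g₂⁻¹ ∈ K :=
        (Subgroup.mem_normalizer_iff.mp (hzaK hg₂) g₁⁻¹).mp (K.inv_mem hg₁.1)
      have : ⁅g₁, g₂⁆ = g₁ * (g₂ * g₁⁻¹ * g₂⁻¹) := by rw [commutatorElement_def]; group
      rw [this]
      exact K.mul_mem hg₁.1 h1
    have hLCA₀ : L ≤ Subgroup.centralizer (A₀ : Set G) := by
      rw [hL, Subgroup.commutator_le]
      intro g₁ hg₁ g₂ hg₂
      have hg₂C : g₂ ∈ Subgroup.centralizer (A₀ : Set G) :=
        (Subgroup.zpowers_le.mpr haCA₀) hg₂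
      rw [commutatorElement_def]
      exact Subgroup.mul_mem _ (Subgroup.mul_mem _ (Subgroup.mul_mem _ hg₁.2 hg₂C)
        (Subgroup.inv_mem _ hg₁.2)) (Subgroup.inv_mem _ hg₂C)
    have hLcop : (Nat.card L).Coprime p :=
      Nat.Coprime.coprime_dvd_left (Subgroup.card_dvd_of_le hLK) hKcop
    have hA₀p : IsPGroup p A₀ := hAp.to_le hA₀A
    have hLV : L ≤ Subgroup.centralizer (V : Set G) :=
      Cfsg.Agent.S0028.result p A₀ L V hA₀p hLcop hVp
        (Subgroup.le_centralizer_iff.mp hLCA₀) (le_trans hA₀A (le_trans hAH hHV))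
        (le_trans hLK (le_trans hKH hHV)) (Subgroup.le_centralizer_iff.mp hLV₀)
    have hLbot : L = ⊥ := by
      rw [eq_bot_iff, ← hf]
      exact le_inf (le_trans hLK hKH) hLV
    intro g hg
    rw [Subgroup.mem_centralizer_singleton_iff]
    have h1 : ⁅g, a⁆ ∈ L := Subgroup.commutator_mem_commutator hg (Subgroup.mem_zpowers a)
    rw [hLbot, Subgroup.mem_bot, commutatorElement_eq_one_iff_mul_comm] at h1
    exact h1
  have hle : V ⊓ Subgroup.centralizer (A : Set G) ≤ V₀ := by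
    rw [hVA]; exact inf_le_left
  have hne : ¬ V₀ ≤ V ⊓ Subgroup.centralizer (A : Set G) := by
    intro h
    apply hV₀a
    rw [hVA] at h
    exact le_trans h inf_le_right
  -- cardinalities
  have hcard0 : Nat.card ↥(V ⊓ Subgroup.centralizer (A : Set G)) *
      (V ⊓ Subgroup.centralizer (A : Set G)).relIndex V₀ = Nat.card V₀ := by
    have := Subgroup.relIndex_mul_relIndex (⊥ : Subgroup G) _ V₀ bot_le hle
    rwa [Subgroup.relIndex_bot_left, Subgroup.relIndex_bot_left] at this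
  have hr : p ≤ (V ⊓ Subgroup.centralizer (A : Set G)).relIndex V₀ := by
    obtain ⟨k, hk⟩ := (hVp.to_le hV₀V).exists_card_eq
    have h4 : (V ⊓ Subgroup.centralizer (A : Set G)).relIndex V₀ ∣ p ^ k := by
      rw [← hk]
      exact Subgroup.relIndex_dvd_card _ _
    obtain ⟨j, -, hj⟩ := (Nat.dvd_prime_pow hp).mp h4
    rcases Nat.eq_zero_or_pos j with rfl | hjpos
    · rw [pow_zero, Subgroup.relIndex_eq_one] at hj
      exact absurd hj hne
    · rw [hj]
      calc p = p ^ 1 := (pow_one p).symm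
        _ ≤ p ^ j := Nat.pow_le_pow_right hp.pos hjpos
  have h1 : p * Nat.card ↥(V ⊓ Subgroup.centralizer (A : Set G)) ≤ Nat.card V₀ := by
    rw [← hcard0, mul_comm]
    exact Nat.mul_le_mul_left _ hr
  have h2 : Nat.card A ≤ p * Nat.card A₀ := by
    have hza : Subgroup.zpowers a ≤ Subgroup.normalizer (A₀ : Set G) :=
      Subgroup.zpowers_le.mpr (Subgroup.centralizer_le_normalizer _ haCA₀)
    have hsurj : Function.Surjective (fun q : A₀ × Subgroup.zpowers a =>
        (⟨(q.1 : G) * (q.2 : G), by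
          rw [← hsup]
          exact Subgroup.mul_mem _ (Subgroup.mem_sup_left q.1.2) (Subgroup.mem_sup_right q.2.2)⟩ :
          A)) := by
      intro x
      have hx : (x : G) ∈ A₀ ⊔ Subgroup.zpowers a := by rw [hsup]; exact x.2
      obtain ⟨k, hk, c, hc, hkc⟩ :=
        Cfsg.Agent.Lib.Helper24_CoprimeAction.exists_mul_of_mem_sup (Subgroup.zpowers a) A₀ hza hx
      exact ⟨(⟨k, hk⟩, ⟨c, hc⟩), Subtype.ext hkc.symm⟩
    have h3 := Nat.card_le_card_of_surjective _ hsurj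
    rw [Nat.card_prod] at h3
    have h4 : Nat.card (Subgroup.zpowers a) ≤ p := by
      rw [Nat.card_zpowers]
      exact Nat.le_of_dvd hp.pos (orderOf_dvd_of_pow_eq_one hap)
    calc Nat.card A ≤ Nat.card A₀ * Nat.card (Subgroup.zpowers a) := h3
      _ ≤ Nat.card A₀ * p := Nat.mul_le_mul_left _ h4
      _ = p * Nat.card A₀ := mul_comm _ _
  have h3 : Nat.card A₀ * Nat.card V₀ ≤
      Nat.card A * Nat.card ↥(V ⊓ Subgroup.centralizer (A : Set G)) := hA.1 A₀ hA₀A
  have hxpos : 0 < Nat.card A₀ := Nat.card_pos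
  have hwpos : 0 < Nat.card ↥(V ⊓ Subgroup.centralizer (A : Set G)) := Nat.card_pos
  have hchain1 : Nat.card A₀ * (p * Nat.card ↥(V ⊓ Subgroup.centralizer (A : Set G))) ≤
      Nat.card A₀ * Nat.card V₀ := Nat.mul_le_mul_left _ h1
  have hchain2 : Nat.card A * Nat.card ↥(V ⊓ Subgroup.centralizer (A : Set G)) ≤
      (p * Nat.card A₀) * Nat.card ↥(V ⊓ Subgroup.centralizer (A : Set G)) :=
    Nat.mul_le_mul_right _ h2
  have hassoc : (p * Nat.card A₀) * Nat.card ↥(V ⊓ Subgroup.centralizer (A : Set G)) =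
      Nat.card A₀ * (p * Nat.card ↥(V ⊓ Subgroup.centralizer (A : Set G))) := by ring
  have heq1 : Nat.card A₀ * Nat.card V₀ =
      Nat.card A₀ * (p * Nat.card ↥(V ⊓ Subgroup.centralizer (A : Set G))) := by
    apply le_antisymm _ hchain1
    calc Nat.card A₀ * Nat.card V₀ ≤ _ := h3
      _ ≤ _ := hchain2
      _ = _ := hassoc
  have heq2 : Nat.card A * Nat.card ↥(V ⊓ Subgroup.centralizer (A : Set G)) =
      (p * Nat.card A₀) * Nat.card ↥(V ⊓ Subgroup.centralizer (A : Set G)) := by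
    apply le_antisymm hchain2
    rw [hassoc]
    exact le_trans hchain1 h3
  have hy : Nat.card V₀ = p * Nat.card ↥(V ⊓ Subgroup.centralizer (A : Set G)) :=
    Nat.eq_of_mul_eq_mul_left hxpos heq1
  have hu : Nat.card A = p * Nat.card A₀ := Nat.eq_of_mul_eq_mul_right hwpos heq2
  refine ⟨A₀, hA₀A, ⟨?_, le_trans (Subgroup.commutator_mono hA₀A hA₀A) hA.2.1,
    fun x hx => hA.2.2 x (hA₀A hx)⟩, hu, hy, hDA₀⟩
  intro B hB
  calc Nat.card B * Nat.card ↥(V ⊓ Subgroup.centralizer (B : Set G))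
      ≤ Nat.card A * Nat.card ↥(V ⊓ Subgroup.centralizer (A : Set G)) :=
        hA.1 B (le_trans hB hA₀A)
    _ = Nat.card A₀ * Nat.card V₀ := by rw [heq2, hassoc, ← heq1]

/-- **Key lemma.** A nontrivial best offender `A ≤ H` has a subgroup `A₀` of index `p` which is a
best offender with `|C_V(A₀)| = p |C_V(A)|`. -/
theorem key_lemma (V H : Subgroup G) (hV : Cfsg.IsElementaryAbelian p V)
    (hHV : H ≤ Subgroup.normalizer (V : Set G))
    (hf : H ⊓ Subgroup.centralizer (V : Set G) = ⊥)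
    (hS1 : Subgroup.centralizer (Cfsg.pPrimeCore p ↥H : Set ↥H) ≤ Cfsg.pPrimeCore p ↥H)
    (A : Subgroup G) (hAH : A ≤ H) (hA : Cfsg.IsBestOffenderOn p V A) (hA1 : A ≠ ⊥) :
    ∃ A₀ : Subgroup G, A₀ ≤ A ∧ Cfsg.IsBestOffenderOn p V A₀ ∧
      Nat.card A = p * Nat.card A₀ ∧
      Nat.card ↥(V ⊓ Subgroup.centralizer (A₀ : Set G)) =
        p * Nat.card ↥(V ⊓ Subgroup.centralizer (A : Set G)) := by
  obtain ⟨A₀, h1, h2, h3, h4, -⟩ := key_lemma' V H hV hHV hf hS1 A hAH hA A le_rfl hA1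
  exact ⟨A₀, h1, h2, h3, h4⟩

section commHom

variable (V : Subgroup G) (hVc : ∀ x ∈ V, ∀ y ∈ V, x * y = y * x) (a : G)
  (ha : a ∈ Subgroup.normalizer (V : Set G))

include ha in
theorem comm_mem_of_normalizer {v : G} (hv : v ∈ V) : ⁅v, a⁆ ∈ V := by
  have h1 : a * v⁻¹ * a⁻¹ ∈ V := (Subgroup.mem_normalizer_iff.mp ha v⁻¹).mp (V.inv_mem hv)
  have : ⁅v, a⁆ = v * (a * v⁻¹ * a⁻¹) := by rw [commutatorElement_def]; group
  rw [this]
  exact V.mul_mem hv h1

include hVc ha in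
theorem comm_mul_of_abelian {v w : G} (hv : v ∈ V) (hw : w ∈ V) :
    ⁅v * w, a⁆ = ⁅v, a⁆ * ⁅w, a⁆ := by
  have h1 : a * v⁻¹ * a⁻¹ ∈ V := (Subgroup.mem_normalizer_iff.mp ha v⁻¹).mp (V.inv_mem hv)
  have h2 : ⁅w, a⁆ ∈ V := comm_mem_of_normalizer V a ha hw
  have h3 : ⁅w, a⁆ * (a * v⁻¹ * a⁻¹) = (a * v⁻¹ * a⁻¹) * ⁅w, a⁆ := hVc _ h2 _ h1
  calc ⁅v * w, a⁆ = v * (⁅w, a⁆ * (a * v⁻¹ * a⁻¹)) := by
        simp only [commutatorElement_def]; group
    _ = v * ((a * v⁻¹ * a⁻¹) * ⁅w, a⁆) := by rw [h3]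
    _ = ⁅v, a⁆ * ⁅w, a⁆ := by simp only [commutatorElement_def]; group

/-- the homomorphism `v ↦ [v, a]` of an abelian subgroup normalized by `a` -/
def commHom : ↥V →* ↥V where
  toFun v := ⟨⁅(v : G), a⁆, comm_mem_of_normalizer V a ha v.2⟩
  map_one' := by
    apply Subtype.ext
    simp
  map_mul' v w := by
    apply Subtype.ext
    simpa using comm_mul_of_abelian V hVc a ha v.2 w.2

theorem commHom_ker :
    (commHom V hVc a ha).ker = (V ⊓ Subgroup.centralizer {a}).subgroupOf V := by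
  ext v
  rw [MonoidHom.mem_ker, Subgroup.mem_subgroupOf, Subgroup.mem_inf,
    Subgroup.mem_centralizer_singleton_iff]
  constructor
  · intro h
    have h1 : ⁅(v : G), a⁆ = 1 := congrArg Subtype.val h
    rw [commutatorElement_eq_one_iff_mul_comm] at h1
    exact ⟨v.2, h1⟩
  · rintro ⟨-, h⟩
    apply Subtype.ext
    change ⁅(v : G), a⁆ = 1
    rw [commutatorElement_eq_one_iff_mul_comm]
    exact h

theorem card_range_commHom :
    Nat.card (commHom V hVc a ha).range = (V ⊓ Subgroup.centralizer {a}).relIndex V := by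
  rw [← Subgroup.index_ker, commHom_ker, Subgroup.relIndex]

include hVc ha in
/-- `[v, a^k]` is a commutator `[w, a]` -/
theorem exists_comm_pow (k : ℕ) {v : G} (hv : v ∈ V) : ∃ w ∈ V, ⁅v, a ^ k⁆ = ⁅w, a⁆ := by
  induction k with
  | zero => exact ⟨1, V.one_mem, by simp⟩
  | succ k ih =>
    obtain ⟨w, hw, hwk⟩ := ih
    have hak : a ^ k ∈ Subgroup.normalizer (V : Set G) := Subgroup.pow_mem _ ha k
    have hv' : a ^ k * v * (a ^ k)⁻¹ ∈ V := (Subgroup.mem_normalizer_iff.mp hak v).mp hv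
    refine ⟨w * (a ^ k * v * (a ^ k)⁻¹), V.mul_mem hw hv', ?_⟩
    rw [comm_mul_of_abelian V hVc a ha hw hv', ← hwk]
    have hcomm : a ^ k * a = a * a ^ k := (Commute.pow_self a k).eq
    have hcomm' : (a ^ k)⁻¹ * a⁻¹ = a⁻¹ * (a ^ k)⁻¹ := by
      rw [← mul_inv_rev, ← mul_inv_rev, hcomm]
    have e1 : ⁅a ^ k * v * (a ^ k)⁻¹, a⁆ = a ^ k * ⁅v, a⁆ * (a ^ k)⁻¹ := by
      rw [commutatorElement_def, commutatorElement_def]
      calc a ^ k * v * (a ^ k)⁻¹ * a * (a ^ k * v * (a ^ k)⁻¹)⁻¹ * a⁻¹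
          = a ^ k * v * ((a ^ k)⁻¹ * (a * a ^ k)) * v⁻¹ * ((a ^ k)⁻¹ * a⁻¹) := by group
        _ = a ^ k * v * ((a ^ k)⁻¹ * (a ^ k * a)) * v⁻¹ * (a⁻¹ * (a ^ k)⁻¹) := by
            rw [hcomm, hcomm']
        _ = a ^ k * (v * a * v⁻¹ * a⁻¹) * (a ^ k)⁻¹ := by group
    rw [e1, pow_succ]
    simp only [commutatorElement_def, mul_inv_rev]
    group

include hVc ha in
theorem commutator_zpowers_le :
    ⁅V, Subgroup.zpowers a⁆ ≤ (commHom V hVc a ha).range.map V.subtype := by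
  rw [Subgroup.commutator_le]
  intro v hv g hg
  rw [← mem_powers_iff_mem_zpowers] at hg
  obtain ⟨k, rfl⟩ := hg
  obtain ⟨w, hw, hwk⟩ := exists_comm_pow V hVc a ha k hv
  rw [hwk]
  exact ⟨⟨⁅w, a⁆, comm_mem_of_normalizer V a ha hw⟩, ⟨⟨w, hw⟩, rfl⟩, rfl⟩

include hVc ha in
theorem card_commutator_zpowers :
    Nat.card ↥(⁅V, Subgroup.zpowers a⁆) = (V ⊓ Subgroup.centralizer {a}).relIndex V := by
  have h1 : ⁅V, Subgroup.zpowers a⁆ = (commHom V hVc a ha).range.map V.subtype := by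
    apply le_antisymm (commutator_zpowers_le V hVc a ha)
    rintro _ ⟨_, ⟨w, rfl⟩, rfl⟩
    exact Subgroup.commutator_mem_commutator w.2 (Subgroup.mem_zpowers a)
  rw [h1, Subgroup.card_map_of_injective V.subtype_injective, card_range_commHom]

end commHom

end Cfsg.Agent.Lib.Helper62_Offender
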