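import Cfsg.Agent.S0617
import Cfsg.Agent.S0610
import Cfsg.Agent.S0606
import Cfsg.Agent.Lib.Helper47_PClosed
import Cfsg.Agent.Lib.Helper69_PComplement
import Cfsg.Agent.Lib.Helper32_PSolvable
import Cfsg.Agent.Lib.Helper10_QuadPair
import Cfsg.Agent.Lib.Helper10_Thompson
import Mathlib

set_option autoImplicit false
set_option linter.unusedSectionVars false

/-!
# Transport to a faithful setting (helper10)

For a normal subgroup `V` of `G` with `C = C_G(V)`, the KS 9.3 structure theorems (helper62's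
`S0610`, `S0617`, ...) are stated for subgroups `V, H` of one group with `H ⊓ C(V) = ⊥`.  This
file transports the (non-faithful) situation `(G, V)` to such a faithful one: a group `W` with
homomorphisms `ι : G →* W` (kernel `C`) and `j : V →* W` (injective) such that `ι g` acts on
`j V` the way `g` acts on `V`.  `permFFT` realizes this in `Equiv.Perm V` (the holomorph).
-/

namespace Cfsg.Agent.Lib.Helper10_FFTransport

open Cfsg
open Cfsg.Agent.Lib.Helper10_Thompson

variable {G : Type*} [Group G]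

/-- transport data from `(G, V)` to a group `W` -/
structure FFT (V : Subgroup G) (W : Type*) [Group W] where
  ι : G →* W
  j : V →* W
  j_inj : Function.Injective j
  ker_ι : ι.ker = Subgroup.centralizer (V : Set G)
  conj : ∀ (g : G) (v : V) (hv : g * v * g⁻¹ ∈ V), ι g * j v * (ι g)⁻¹ = j ⟨g * v * g⁻¹, hv⟩

/-- conjugation action of `G` on a normal subgroup, as permutations -/
noncomputable def conjPerm (V : Subgroup G) [hVn : V.Normal] : G →* Equiv.Perm V :=
  MonoidHom.mk' (fun g => (MulAut.conjNormal g : V ≃* V).toEquiv) (by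
    intro a b
    ext v
    simp [map_mul])

theorem conjPerm_apply (V : Subgroup G) [hVn : V.Normal] (g : G) (v : V) :
    ((conjPerm V g v : V) : G) = g * v * g⁻¹ := by
  show ((MulAut.conjNormal g v : V) : G) = _
  rw [MulAut.conjNormal_apply]

/-- the holomorph realization inside `Equiv.Perm V` -/
noncomputable def permFFT (V : Subgroup G) [hVn : V.Normal] : FFT V (Equiv.Perm V) where
  ι := conjPerm V
  j := MulAction.toPermHom V V
  j_inj := MulAction.toPerm_injective
  ker_ι := by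
    ext g
    rw [MonoidHom.mem_ker, Subgroup.mem_centralizer_iff]
    constructor
    · intro h v hv
      have h1 := congrArg (fun σ : Equiv.Perm V => ((σ ⟨v, hv⟩ : V) : G)) h
      simp only [conjPerm_apply, Equiv.Perm.coe_one, id_eq] at h1
      calc v * g = g * v * g⁻¹ * g := by rw [h1]
        _ = g * v := by group
    · intro h
      ext v
      rw [conjPerm_apply, Equiv.Perm.coe_one, id_eq, ← h v v.2]
      group
  conj := by
    intro g v hv
    rw [mul_inv_eq_iff_eq_mul]
    ext w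
    simp only [Equiv.Perm.coe_mul, Function.comp_apply, MulAction.toPermHom_apply,
      MulAction.toPerm_apply, smul_eq_mul, Subgroup.coe_mul, conjPerm_apply]
    group

variable {W : Type*} [Group W] {V : Subgroup G} [hVn : V.Normal] (t : FFT V W)

theorem FFT.conj' (g : G) (v : V) :
    t.ι g * t.j v * (t.ι g)⁻¹ = t.j ⟨g * v * g⁻¹, hVn.conj_mem v v.2 g⟩ :=
  t.conj g v _

theorem FFT.mem_centralizer_map_iff (A : Subgroup G) (v : V) :
    t.j v ∈ Subgroup.centralizer ((A.map t.ι : Subgroup W) : Set W) ↔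
      (v : G) ∈ Subgroup.centralizer (A : Set G) := by
  rw [Subgroup.mem_centralizer_iff, Subgroup.mem_centralizer_iff]
  constructor
  · intro h a ha
    have h1 := h (t.ι a) (Subgroup.mem_map_of_mem _ ha)
    have h2 : t.ι a * t.j v * (t.ι a)⁻¹ = t.j v := by rw [h1]; group
    rw [t.conj' a v] at h2
    have h3 : a * (v : G) * a⁻¹ = v := congrArg Subtype.val (t.j_inj h2)
    calc a * (v : G) = a * v * a⁻¹ * a := by group
      _ = v * a := by rw [h3]
  · rintro h _ ⟨a, ha, rfl⟩
    have h1 := h a ha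
    have h2 : t.ι a * t.j v * (t.ι a)⁻¹ = t.j v := by
      rw [t.conj' a v]
      congr 1
      apply Subtype.ext
      show a * (v : G) * a⁻¹ = v
      rw [h1]; group
    calc t.ι a * t.j v = t.ι a * t.j v * (t.ι a)⁻¹ * t.ι a := by group
      _ = t.j v * t.ι a := by rw [h2]

theorem FFT.fix_eq (A : Subgroup G) :
    t.j.range ⊓ Subgroup.centralizer ((A.map t.ι : Subgroup W) : Set W)
      = ((V ⊓ Subgroup.centralizer (A : Set G)).subgroupOf V).map t.j := by
  ext w
  constructor
  · rintro ⟨⟨v, rfl⟩, hw⟩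
    exact ⟨v, Subgroup.mem_subgroupOf.mpr ⟨v.2, (t.mem_centralizer_map_iff A v).mp hw⟩, rfl⟩
  · rintro ⟨v, hv, rfl⟩
    exact ⟨⟨v, rfl⟩, (t.mem_centralizer_map_iff A v).mpr (Subgroup.mem_subgroupOf.mp hv).2⟩

theorem FFT.card_fix (A : Subgroup G) :
    Nat.card ↥(t.j.range ⊓ Subgroup.centralizer ((A.map t.ι : Subgroup W) : Set W))
      = Nat.card ↥(V ⊓ Subgroup.centralizer (A : Set G)) := by
  rw [t.fix_eq A, Subgroup.card_map_of_injective t.j_inj]
  exact card_subgroupOf_of_le inf_le_left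

theorem FFT.card_range : Nat.card ↥t.j.range = Nat.card V := by
  exact Nat.card_congr (MonoidHom.ofInjective t.j_inj).toEquiv.symm

theorem FFT.card_map (A : Subgroup G) :
    Nat.card ↥(A.map t.ι) * Nat.card ↥(A ⊓ Subgroup.centralizer (V : Set G)) = Nat.card A := by
  have hsurj := t.ι.subgroupMap_surjective A
  have hker : (t.ι.subgroupMap A).ker = (Subgroup.centralizer (V : Set G)).subgroupOf A := by
    rw [← t.ker_ι]
    ext a
    rw [MonoidHom.mem_ker, Subgroup.mem_subgroupOf, MonoidHom.mem_ker, Subtype.ext_iff]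
    rfl
  have h1 := Subgroup.card_eq_card_quotient_mul_card_subgroup (t.ι.subgroupMap A).ker
  have h2 : Nat.card (A ⧸ (t.ι.subgroupMap A).ker) = Nat.card (A.map t.ι) :=
    Nat.card_congr (QuotientGroup.quotientKerEquivOfSurjective _ hsurj).toEquiv
  have h3 : Nat.card (t.ι.subgroupMap A).ker =
      Nat.card ↥(A ⊓ Subgroup.centralizer (V : Set G)) := by
    rw [hker, ← Subgroup.inf_subgroupOf_left]
    exact card_subgroupOf_of_le inf_le_left
  rw [h1, h2, h3]

theorem FFT.map_eq_bot_iff (A : Subgroup G) :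
    A.map t.ι = ⊥ ↔ A ≤ Subgroup.centralizer (V : Set G) := by
  rw [Subgroup.map_eq_bot_iff, t.ker_ι]

theorem FFT.faithful (A : Subgroup G) :
    A.map t.ι ⊓ Subgroup.centralizer ((t.j.range : Subgroup W) : Set W) = ⊥ := by
  rw [eq_bot_iff]
  rintro _ ⟨⟨a, ha, rfl⟩, hc⟩
  rw [Subgroup.mem_bot, ← MonoidHom.mem_ker, t.ker_ι, Subgroup.mem_centralizer_iff]
  intro v hv
  have h1 := (Subgroup.mem_centralizer_iff.mp hc) (t.j ⟨v, hv⟩) ⟨_, rfl⟩
  have h2 : t.ι a * t.j ⟨v, hv⟩ * (t.ι a)⁻¹ = t.j ⟨v, hv⟩ := by rw [← h1]; group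
  rw [t.conj'] at h2
  have h3 : a * v * a⁻¹ = v := congrArg Subtype.val (t.j_inj h2)
  calc v * a = a * v * a⁻¹ * a := by rw [h3]
    _ = a * v := by group

theorem FFT.le_normalizer (A : Subgroup G) :
    A.map t.ι ≤ Subgroup.normalizer ((t.j.range : Subgroup W) : Set W) := by
  rintro _ ⟨a, -, rfl⟩
  rw [Subgroup.mem_normalizer_iff]
  intro w
  constructor
  · rintro ⟨v, rfl⟩
    rw [t.conj']
    exact ⟨_, rfl⟩
  · rintro ⟨v, hv⟩
    have : w = t.ι a⁻¹ * t.j v * (t.ι a⁻¹)⁻¹ := by rw [hv, map_inv]; group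
    rw [this, t.conj']
    exact ⟨_, rfl⟩

theorem FFT.elemAb {p : ℕ} (hV : IsElementaryAbelian p V) :
    IsElementaryAbelian p t.j.range := by
  apply isElementaryAbelian_of_forall
  · rintro _ ⟨u, rfl⟩ _ ⟨v, rfl⟩
    rw [← map_mul, ← map_mul]
    congr 1
    apply Subtype.ext
    exact ea_comm hV u.2 v.2
  · rintro _ ⟨v, rfl⟩
    rw [← map_pow]
    have : v ^ p = 1 := Subtype.ext (by simpa using hV.2 v v.2)
    rw [this, map_one]

theorem FFT.best [Finite G] {p : ℕ} (A : Subgroup G) (hA : IsBestOffenderOn p V A) :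
    IsBestOffenderOn p t.j.range (A.map t.ι) := by
  obtain ⟨h1, h2, h3⟩ := hA
  refine ⟨?_, ?_, ?_⟩
  · intro B' hB'
    set B := A ⊓ B'.comap t.ι with hB
    have hBmap : B.map t.ι = B' := by
      apply le_antisymm
      · rintro _ ⟨b, hb, rfl⟩
        exact hb.2
      · intro w hw
        obtain ⟨a, ha, rfl⟩ := hB' hw
        exact ⟨a, ⟨ha, hw⟩, rfl⟩
    have hBC : B ⊓ Subgroup.centralizer (V : Set G) = A ⊓ Subgroup.centralizer (V : Set G) := by
      rw [hB, inf_assoc]
      congr 1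
      rw [inf_eq_right, ← t.ker_ι]
      intro c hc
      show t.ι c ∈ B'
      rw [MonoidHom.mem_ker.mp hc]
      exact B'.one_mem
    have e1 := t.card_map B
    rw [hBmap, hBC] at e1
    have e2 := t.card_map A
    have e3 := t.card_fix B
    rw [hBmap] at e3
    have e4 := t.card_fix A
    have h := h1 B inf_le_left
    rw [e3, e4]
    rw [← e1, ← e2] at h
    have ha0 : 0 < Nat.card ↥(A ⊓ Subgroup.centralizer (V : Set G)) := Nat.card_pos
    refine Nat.le_of_mul_le_mul_left ?_ ha0
    calc Nat.card ↥(A ⊓ Subgroup.centralizer (V : Set G)) *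
          (Nat.card ↥B' * Nat.card ↥(V ⊓ Subgroup.centralizer (B : Set G)))
        = Nat.card ↥B' * Nat.card ↥(A ⊓ Subgroup.centralizer (V : Set G)) *
            Nat.card ↥(V ⊓ Subgroup.centralizer (B : Set G)) := by ring
      _ ≤ Nat.card ↥(A.map t.ι) * Nat.card ↥(A ⊓ Subgroup.centralizer (V : Set G)) *
            Nat.card ↥(V ⊓ Subgroup.centralizer (A : Set G)) := h
      _ = _ := by ring
  · rw [← Subgroup.map_commutator]
    have : (⁅A, A⁆).map t.ι = ⊥ := by
      rw [t.map_eq_bot_iff]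
      exact h2
    rw [this]
    exact bot_le
  · rintro _ ⟨a, ha, rfl⟩
    have : t.ι (a ^ p) = 1 := by
      rw [← MonoidHom.mem_ker, t.ker_ι]
      exact h3 a ha
    rw [← map_pow, this]
    exact Subgroup.one_mem _

/-- hypothesis `hS3` of the structure theorems for the image of `J(G)` -/
theorem FFT.hS3 [Finite G] {p : ℕ} [Fact p.Prime] (hV : IsElementaryAbelian p V) :
    (thompsonSubgroup p G).map t.ι =
      ⨆ A : {A : Subgroup W // A ≤ (thompsonSubgroup p G).map t.ι ∧
        IsBestOffenderOn p t.j.range A}, (A : Subgroup W) := by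
  apply le_antisymm
  · rw [Subgroup.map_le_iff_le_comap]
    apply sSup_le
    intro A hA
    rw [← Subgroup.map_le_iff_le_comap]
    have hb : IsBestOffenderOn p t.j.range (A.map t.ι) :=
      t.best A (Cfsg.Agent.S0606.result V hV A hA)
    have hle : A.map t.ι ≤ (thompsonSubgroup p G).map t.ι := Subgroup.map_mono (le_sSup hA)
    exact le_iSup_of_le (ι := {A : Subgroup W // A ≤ (thompsonSubgroup p G).map t.ι ∧
        IsBestOffenderOn p t.j.range A}) (f := fun A => (A : Subgroup W))
      ⟨A.map t.ι, hle, hb⟩ le_rfl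
  · exact iSup_le fun A => A.2.1

/-- `O_p` of the image of a normal subgroup `J` of `G` is trivial when `O_p(G / C_G(V)) = 1`. -/
theorem FFT.pCore_map_eq_bot {p : ℕ} [Fact p.Prime]
    (hO : pCore p (G ⧸ Subgroup.centralizer (V : Set G)) = ⊥) (J : Subgroup G) [hJ : J.Normal] :
    pCore p ↥(J.map t.ι) = ⊥ := by
  have hn : t.ι.range ≤ Subgroup.normalizer ((J.map t.ι : Subgroup W) : Set W) := by
    rintro _ ⟨g, rfl⟩
    rw [Subgroup.mem_normalizer_iff]
    intro w
    constructor
    · rintro ⟨x, hx, rfl⟩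
      exact ⟨g * x * g⁻¹, hJ.conj_mem x hx g, by simp⟩
    · rintro ⟨x, hx, hxw⟩
      refine ⟨g⁻¹ * x * g, ?_, ?_⟩
      · have := hJ.conj_mem x hx g⁻¹
        simpa using this
      · rw [map_mul, map_mul, hxw, map_inv]
        group
  have hn2 := Cfsg.Agent.Lib.Helper47_PClosed.le_normalizer_pCoreOf_of_le_normalizer (p := p) hn
  set P := pCoreOf p (J.map t.ι) with hP
  set D := P.comap t.ι with hD
  have hDn : D.Normal := by
    constructor
    intro x hx g
    show t.ι (g * x * g⁻¹) ∈ P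
    rw [map_mul, map_mul, map_inv]
    exact (Subgroup.mem_normalizer_iff.mp (hn2 ⟨g, rfl⟩) (t.ι x)).mp hx
  have hDp : IsPGroup p ↥(D.map (QuotientGroup.mk' (Subgroup.centralizer (V : Set G)))) := by
    rintro ⟨_, ⟨d, hd, rfl⟩⟩
    obtain ⟨k, hk⟩ := (Cfsg.Agent.Lib.Helper47_SubAPI.isPGroup_pCoreOf (p := p) (J.map t.ι))
      ⟨t.ι d, hd⟩
    refine ⟨k, Subtype.ext ?_⟩
    show (QuotientGroup.mk' _ d) ^ (p ^ k) = 1
    rw [← map_pow, QuotientGroup.mk'_apply, QuotientGroup.eq_one_iff, ← t.ker_ι,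
      MonoidHom.mem_ker, map_pow]
    exact congrArg Subtype.val hk
  have hDn' : (D.map (QuotientGroup.mk' (Subgroup.centralizer (V : Set G)))).Normal :=
    hDn.map _ (QuotientGroup.mk'_surjective _)
  have hDle := Cfsg.Agent.Lib.Helper47_PLocal.le_pCore hDn' hDp
  rw [hO, le_bot_iff, Subgroup.map_eq_bot_iff, QuotientGroup.ker_mk', ← t.ker_ι] at hDle
  have hPbot : P = ⊥ := by
    rw [eq_bot_iff]
    intro w hw
    obtain ⟨d, -, rfl⟩ := Cfsg.Agent.Lib.Helper47_SubAPI.pCoreOf_le (p := p) (J.map t.ι) hw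
    rw [Subgroup.mem_bot]
    exact MonoidHom.mem_ker.mp (hDle hw)
  exact (Subgroup.map_eq_bot_iff_of_injective _ (Subgroup.subtype_injective _)).mp hPbot

/-- hypothesis `hS1` of the structure theorems for the image of a normal subgroup `J` of `G` -/
theorem FFT.hS1 [Finite G] {p : ℕ} [Fact p.Prime] (hsep : IsPSolvable p G)
    (hO : pCore p (G ⧸ Subgroup.centralizer (V : Set G)) = ⊥) (J : Subgroup G) [hJ : J.Normal] :
    Subgroup.centralizer (pPrimeCore p ↥(J.map t.ι) : Set ↥(J.map t.ι)) ≤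
      pPrimeCore p ↥(J.map t.ι) := by
  have : Finite ↥(J.map t.ι) := Finite.of_surjective _ (t.ι.subgroupMap_surjective J)
  apply Cfsg.Agent.Lib.Helper10_QuadPair.centralizer_pPrimeCore_le p
  · exact Cfsg.Agent.Lib.Helper32_PSolvable.isPSolvable_of_surjective (t.ι.subgroupMap J)
      (t.ι.subgroupMap_surjective J)
      (Cfsg.Agent.Lib.Helper69_PComplement.isPSolvable_subgroup p hsep J)
  · exact t.pCore_map_eq_bot hO J

omit hVn in
/-- The preimage of a subgroup of the range, modulo the kernel, is isomorphic to the subgroup. -/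
theorem comap_quot_equiv {X : Type*} [Group X] (f : G →* X) (K : Subgroup G) (hK : f.ker = K)
    (E' : Subgroup X) (hE : E' ≤ f.range) :
    ∃ _hn : (K.subgroupOf (E'.comap f)).Normal,
      Nonempty (↥(E'.comap f) ⧸ K.subgroupOf (E'.comap f) ≃* ↥E') := by
  subst hK
  let ψ : ↥(E'.comap f) →* ↥E' := f.subgroupComap E'
  have hsurj : Function.Surjective ψ := by
    rintro ⟨y, hy⟩
    obtain ⟨x, rfl⟩ := hE hy
    exact ⟨⟨x, hy⟩, rfl⟩
  have hker : ψ.ker = f.ker.subgroupOf (E'.comap f) := by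
    ext x
    rw [MonoidHom.mem_ker, Subgroup.mem_subgroupOf, MonoidHom.mem_ker, Subtype.ext_iff]
    rfl
  have hn : (f.ker.subgroupOf (E'.comap f)).Normal := by rw [← hker]; exact ψ.normal_ker
  exact ⟨hn, ⟨(QuotientGroup.quotientMulEquivOfEq hker.symm).trans
    (QuotientGroup.quotientKerEquivOfSurjective ψ hsurj)⟩⟩

end Cfsg.Agent.Lib.Helper10_FFTransport
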