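/-
Zassenhaus-type permutation groups (helper6): faithful, doubly transitive, three-point
stabilisers trivial, two-point stabilisers non-trivial.  The point stabilisers are Frobenius
groups; via Frobenius' theorem (`Helper6_Frobenius`) the elements of a point stabiliser fixing
no further point form, with the identity, a subgroup `K a` acting regularly on the other points.
-/
import Mathlib
import Cfsg.Prelude.Def_Solvable
import Cfsg.Prelude.Def_LieExceptional
import Cfsg.Agent.Lib.Helper6_Frobenius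

set_option autoImplicit false
set_option linter.unusedSectionVars false
set_option linter.unusedVariables false

namespace Cfsg.Agent.Lib.Helper6_Zassenhaus

open Cfsg MulAction
open scoped Pointwise

/-- the hypotheses shared by Zassenhaus groups and their non-trivial normal subgroups -/
structure ZHyp (G Ω : Type*) [Group G] [MulAction G Ω] : Prop where
  faithful : FaithfulSMul G Ω
  two : ∀ {a b c d : Ω}, a ≠ b → c ≠ d → ∃ g : G, g • a = c ∧ g • b = d
  three : ∀ g : G, ∀ a b c : Ω, a ≠ b → b ≠ c → a ≠ c → g • a = a → g • b = b → g • c = c → g = 1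
  fix : ∃ g : G, g ≠ 1 ∧ ∃ a b : Ω, a ≠ b ∧ g • a = a ∧ g • b = b

section basic

variable {G Ω : Type*} [Group G] [MulAction G Ω] (hZ : ZHyp G Ω)
include hZ

theorem finite_of_finite [Finite Ω] : Finite G := by
  have := hZ.faithful
  exact Finite.of_injective (MulAction.toPermHom G Ω) MulAction.toPerm_injective

/-- every pair of distinct points is fixed by a non-identity element -/
theorem exists_fix (a b : Ω) (hab : a ≠ b) : ∃ h : G, h ≠ 1 ∧ h • a = a ∧ h • b = b := by
  obtain ⟨g, hg1, a', b', hab', ha', hb'⟩ := hZ.fix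
  obtain ⟨x, hxa, hxb⟩ := hZ.two hab' hab
  refine ⟨x * g * x⁻¹, ?_, ?_, ?_⟩
  · intro h
    apply hg1
    have : g = x⁻¹ * (x * g * x⁻¹) * x := by group
    rw [this, h]; group
  · rw [mul_smul, mul_smul, ← hxa, inv_smul_smul, ha']
  · rw [mul_smul, mul_smul, ← hxb, inv_smul_smul, hb']

/-- there is a third point -/
theorem exists_third (a b : Ω) (hab : a ≠ b) : ∃ c : Ω, c ≠ a ∧ c ≠ b := by
  obtain ⟨h, h1, ha, hb⟩ := exists_fix hZ a b hab
  have := hZ.faithful
  by_contra hcon
  push Not at hcon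
  apply h1
  apply FaithfulSMul.eq_of_smul_eq_smul (α := Ω)
  intro c
  rw [one_smul]
  by_cases hca : c = a
  · rw [hca, ha]
  · rw [hcon c hca, hb]

/-- a non-identity element fixing `a` and `b ≠ a` fixes nothing else -/
theorem ne_of_fix {h : G} (h1 : h ≠ 1) {a b c : Ω} (hab : a ≠ b) (ha : h • a = a) (hb : h • b = b)
    (hca : c ≠ a) (hcb : c ≠ b) : h • c ≠ c := by
  intro hc
  exact h1 (hZ.three h a b c hab hcb.symm hca.symm ha hb hc)

end basic

section stab

variable {G Ω : Type*} [Group G] [MulAction G Ω]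

/-- the two-point stabiliser inside the point stabiliser -/
def Hab (G : Type*) {Ω : Type*} [Group G] [MulAction G Ω] (a b : Ω) : Subgroup (stabilizer G a) :=
  (stabilizer G b).subgroupOf (stabilizer G a)

theorem mem_Hab {a b : Ω} (g : stabilizer G a) : g ∈ Hab G a b ↔ (g : G) • b = b := by
  rw [Hab, Subgroup.mem_subgroupOf, mem_stabilizer_iff]

theorem mem_conj_Hab {a b : Ω} (g y : stabilizer G a) :
    y ∈ MulAut.conj g • Hab G a b ↔ (y : G) • ((g : G) • b) = (g : G) • b := by
  rw [Subgroup.mem_smul_pointwise_iff_exists]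
  constructor
  · rintro ⟨s, hs, rfl⟩
    rw [mem_Hab] at hs
    rw [MulAut.smul_def, MulAut.conj_apply]
    simp only [Subgroup.coe_mul, Subgroup.coe_inv, mul_smul, inv_smul_smul]
    rw [hs]
  · intro h
    refine ⟨g⁻¹ * y * g, ?_, ?_⟩
    · rw [mem_Hab]
      simp only [Subgroup.coe_mul, Subgroup.coe_inv, mul_smul]
      rw [h, inv_smul_smul]
    · rw [MulAut.smul_def, MulAut.conj_apply]
      group

variable (hZ : ZHyp G Ω)
include hZ

theorem isFrobeniusComplement_Hab {a b : Ω} (hab : a ≠ b) :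
    IsFrobeniusComplement (Hab G a b) := by
  refine ⟨?_, ?_, ?_⟩
  · obtain ⟨h, h1, ha, hb⟩ := exists_fix hZ a b hab
    intro hbot
    have hmem : (⟨h, ha⟩ : stabilizer G a) ∈ Hab G a b := (mem_Hab _).2 hb
    rw [hbot, Subgroup.mem_bot] at hmem
    exact h1 (congrArg Subtype.val hmem)
  · obtain ⟨c, hca, hcb⟩ := exists_third hZ a b hab
    obtain ⟨g, hga, hgb⟩ := hZ.two hab hca.symm
    intro htop
    have hmem : (⟨g, hga⟩ : stabilizer G a) ∈ Hab G a b := by rw [htop]; trivial
    rw [mem_Hab] at hmem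
    exact hcb (by rw [← hgb]; exact hmem)
  · intro g hg
    rw [eq_bot_iff]
    intro x hx
    obtain ⟨hx1, hx2⟩ := Subgroup.mem_inf.1 hx
    rw [mem_Hab] at hx1 hg
    rw [mem_conj_Hab] at hx2
    have hgb_a : (g : G) • b ≠ a := by
      intro h
      apply hab
      have := g.2
      rw [mem_stabilizer_iff] at this
      have h' : (g : G) • b = (g : G) • a := by rw [h, this]
      exact (smul_left_cancel _ h').symm
    have := hZ.three (x : G) a b ((g : G) • b) hab (Ne.symm hg) hgb_a.symm x.2 hx1 hx2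
    exact Subgroup.mem_bot.2 (Subtype.ext this)

/-- the elements of the stabiliser of `a` fixing no further point, with the identity -/
def Kset (G : Type*) {Ω : Type*} [Group G] [MulAction G Ω] (a : Ω) : Set G :=
  {g | g • a = a ∧ (g = 1 ∨ ∀ c, c ≠ a → g • c ≠ c)}

/-- **Frobenius kernel of a point stabiliser**: `Kset G a` is a subgroup, transitive on the
other points. -/
theorem exists_K [Finite Ω] (a : Ω) :
    ∃ K : Subgroup G, (K : Set G) = Kset G a ∧
      ∀ b c, b ≠ a → c ≠ a → ∃ k ∈ K, k • b = c := by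
  have hfin : Finite G := finite_of_finite hZ
  obtain ⟨b, hba⟩ : ∃ b : Ω, b ≠ a := by
    obtain ⟨g, _, a', b', hab', _, _⟩ := hZ.fix
    by_cases h : a' = a
    · exact ⟨b', fun hb => hab' (h.trans hb.symm)⟩
    · exact ⟨a', h⟩
  have hab : a ≠ b := hba.symm
  obtain ⟨N, hN, hNn, hNc⟩ :=
    Cfsg.Agent.Lib.Helper6_Frobenius.exists_kernel (Hab G a b) (isFrobeniusComplement_Hab hZ hab)
  have hset : ((N.map (stabilizer G a).subtype : Subgroup G) : Set G) = Kset G a := by
    ext x
    simp only [Subgroup.coe_map, Set.mem_image, SetLike.mem_coe, Subgroup.coe_subtype, Kset,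
      Set.mem_ofPred_eq]
    constructor
    · rintro ⟨y, hy, rfl⟩
      refine ⟨y.2, ?_⟩
      have hy' : y ∈ frobeniusKernel (Hab G a b) := by rw [← hN]; exact hy
      rcases hy' with h1 | h2
      · left; rw [h1]; rfl
      · right
        intro c hca hc
        obtain ⟨g, hga, hgb⟩ := hZ.two hab hca.symm
        apply h2 ⟨g, hga⟩
        rw [mem_conj_Hab]
        show (y : G) • (g • b) = g • b
        rw [hgb, hc]
    · rintro ⟨hxa, hx⟩
      refine ⟨⟨x, hxa⟩, ?_, rfl⟩
      have : (⟨x, hxa⟩ : stabilizer G a) ∈ frobeniusKernel (Hab G a b) := by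
        rcases hx with h1 | h2
        · left; exact Subtype.ext h1
        · right
          intro g hg
          rw [mem_conj_Hab] at hg
          refine h2 _ ?_ hg
          intro h
          apply hab
          have := g.2
          rw [mem_stabilizer_iff] at this
          have h' : (g : G) • b = (g : G) • a := by rw [h, this]
          exact (smul_left_cancel _ h').symm
      rw [← hN] at this
      exact this
  have htr : ∀ c, c ≠ a → ∃ k ∈ (N.map (stabilizer G a).subtype : Subgroup G), k • b = c := by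
    intro c hca
    obtain ⟨g, hga, hgb⟩ := hZ.two hab hca.symm
    obtain ⟨⟨n, h⟩, hnh, _⟩ := (Subgroup.isComplement'_def.1 hNc).existsUnique (⟨g, hga⟩ : stabilizer G a)
    refine ⟨(n : stabilizer G a), Subgroup.mem_map.2 ⟨n, n.2, rfl⟩, ?_⟩
    have hh : ((h : stabilizer G a) : G) • b = b := (mem_Hab _).1 h.2
    have hg : ((n : stabilizer G a) : G) * ((h : stabilizer G a) : G) = g := by
      have := congrArg Subtype.val hnh
      simpa using this
    rw [← hgb, ← hg, mul_smul, hh]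
  refine ⟨N.map (stabilizer G a).subtype, hset, ?_⟩
  intro b' c' hb' hc'
  obtain ⟨k₁, hk₁, e₁⟩ := htr b' hb'
  obtain ⟨k₂, hk₂, e₂⟩ := htr c' hc'
  refine ⟨k₂ * k₁⁻¹, Subgroup.mul_mem _ hk₂ (Subgroup.inv_mem _ hk₁), ?_⟩
  rw [mul_smul, ← e₁, inv_smul_smul, e₂]

end stab

section normal

variable {G Ω : Type*} [Group G] [MulAction G Ω] (hZ : ZHyp G Ω)
include hZ

/-- a non-trivial normal subgroup is transitive -/
theorem normal_transitive (M : Subgroup G) [M.Normal] (hM : M ≠ ⊥) (x y : Ω) :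
    ∃ m ∈ M, m • x = y := by
  by_cases hxy : x = y
  · exact ⟨1, M.one_mem, by rw [one_smul, hxy]⟩
  have := hZ.faithful
  obtain ⟨m, hm, hm1⟩ := (Subgroup.ne_bot_iff_exists_ne_one (H := M)).1 hM |>.imp
    (fun m hm => hm) |> fun ⟨m, hm⟩ => (⟨(m : G), m.2, fun h => hm (Subtype.ext h)⟩ :
      ∃ m : G, m ∈ M ∧ m ≠ 1)
  obtain ⟨c, hc⟩ : ∃ c : Ω, m • c ≠ c := by
    by_contra hcon
    push Not at hcon
    apply hm1
    apply FaithfulSMul.eq_of_smul_eq_smul (α := Ω)
    intro c
    rw [one_smul, hcon c]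
  obtain ⟨g, hgc, hgm⟩ := hZ.two (Ne.symm hc) hxy
  refine ⟨g * m * g⁻¹, Subgroup.Normal.conj_mem inferInstance m hm g, ?_⟩
  rw [mul_smul, mul_smul, ← hgc, inv_smul_smul, hgm]

/-- if a normal subgroup `M` contains a non-identity element fixing `a` and `b ≠ a`, it contains
the Frobenius kernel of the stabiliser of `a` -/
theorem K_le_of_fix [Finite Ω] (M : Subgroup G) [M.Normal] {a b : Ω} (hab : a ≠ b) {h : G}
    (hM : h ∈ M) (h1 : h ≠ 1) (ha : h • a = a) (hb : h • b = b)
    (K : Subgroup G) (hK : (K : Set G) = Kset G a) : K ≤ M := by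
  have hfin : Finite G := finite_of_finite hZ
  have memK : ∀ x, x ∈ K ↔ x • a = a ∧ (x = 1 ∨ ∀ c, c ≠ a → x • c ≠ c) := by
    intro x
    rw [← SetLike.mem_coe, hK]; rfl
  -- `h` normalises `K`
  have hnorm : ∀ k ∈ K, h * k * h⁻¹ ∈ K := by
    intro k hk
    rw [memK] at hk ⊢
    have hia : h⁻¹ • a = a := inv_smul_eq_iff.2 ha.symm
    refine ⟨by rw [mul_smul, mul_smul, hia, hk.1, ha], ?_⟩
    rcases hk.2 with rfl | hk2
    · left; group
    · right
      intro c hca hc
      apply hk2 (h⁻¹ • c)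
      · intro e
        apply hca
        rw [← ha, ← e, smul_inv_smul]
      · rw [mul_smul, mul_smul] at hc
        exact (inv_smul_eq_iff.2 hc.symm).symm
  -- the commutator map on `K`
  let f : K → K := fun k => ⟨(k : G) * (h * (k : G)⁻¹ * h⁻¹),
    K.mul_mem k.2 (hnorm _ (K.inv_mem k.2))⟩
  have hinj : Function.Injective f := by
    intro k k' hkk
    have e : (k : G) * (h * (k : G)⁻¹ * h⁻¹) = (k' : G) * (h * (k' : G)⁻¹ * h⁻¹) :=
      congrArg Subtype.val hkk
    -- `k'⁻¹ k` commutes with `h`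
    set u : G := (k' : G)⁻¹ * (k : G) with hu
    have hcomm : u * h = h * u := by
      have e2 : (k : G) * h * (k : G)⁻¹ = (k' : G) * h * (k' : G)⁻¹ := by
        have := congrArg (fun z => z * h) e
        simp only [mul_assoc, inv_mul_cancel, mul_one] at this
        simpa [mul_assoc] using this
      rw [hu]
      have : h = (k : G)⁻¹ * ((k' : G) * h * (k' : G)⁻¹) * (k : G) := by
        rw [← e2]; group
      calc (k' : G)⁻¹ * (k : G) * h
          = (k' : G)⁻¹ * (k : G) * ((k : G)⁻¹ * ((k' : G) * h * (k' : G)⁻¹) * (k : G)) := by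
            rw [← this]
        _ = h * ((k' : G)⁻¹ * (k : G)) := by group
    have huK : u ∈ K := K.mul_mem (K.inv_mem k'.2) k.2
    have hu1 : u = 1 := by
      by_contra hne
      have hub := ((memK u).1 huK).2.resolve_left hne b hab.symm
      have hua : u • a = a := ((memK u).1 huK).1
      have hfix : h • (u • b) = u • b := by
        rw [← mul_smul, ← hcomm, mul_smul, hb]
      have hne_a : u • b ≠ a := by
        intro e
        apply hab
        have : u • b = u • a := by rw [e, hua]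
        exact (smul_left_cancel _ this).symm
      exact h1 (hZ.three h a b (u • b) hab (Ne.symm hub) hne_a.symm ha hb hfix)
    apply Subtype.ext
    have : (k : G) = (k' : G) * u := by rw [hu]; group
    rw [this, hu1, mul_one]
  have hsurj : Function.Surjective f := Finite.injective_iff_surjective.1 hinj
  intro k hk
  obtain ⟨k₀, hk₀⟩ := hsurj ⟨k, hk⟩
  have e : (k₀ : G) * (h * (k₀ : G)⁻¹ * h⁻¹) = k := congrArg Subtype.val hk₀
  rw [← e]
  have h2 : (k₀ : G) * h * (k₀ : G)⁻¹ ∈ M := Subgroup.Normal.conj_mem inferInstance h hM _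
  have : (k₀ : G) * (h * (k₀ : G)⁻¹ * h⁻¹) = ((k₀ : G) * h * (k₀ : G)⁻¹) * h⁻¹ := by group
  rw [this]
  exact M.mul_mem h2 (M.inv_mem hM)

end normal

section regular

variable {G Ω : Type*} [Group G] [MulAction G Ω]

theorem mem_conj_stabilizer (M : Subgroup G) (a : Ω) (g y : M) :
    y ∈ MulAut.conj g • stabilizer M a ↔ (y : G) • ((g : G) • a) = (g : G) • a := by
  rw [Subgroup.mem_smul_pointwise_iff_exists]
  constructor
  · rintro ⟨s, hs, rfl⟩
    rw [mem_stabilizer_iff, Subgroup.smul_def] at hs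
    rw [MulAut.smul_def, MulAut.conj_apply]
    simp only [Subgroup.coe_mul, Subgroup.coe_inv, mul_smul, inv_smul_smul]
    rw [hs]
  · intro h
    refine ⟨g⁻¹ * y * g, ?_, ?_⟩
    · rw [mem_stabilizer_iff, Subgroup.smul_def]
      simp only [Subgroup.coe_mul, Subgroup.coe_inv, mul_smul]
      rw [h, inv_smul_smul]
    · rw [MulAut.smul_def, MulAut.conj_apply]
      group

variable (hZ : ZHyp G Ω)
include hZ

/-- If a non-trivial normal subgroup `M` has trivial two-point stabilisers but a non-trivial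
point stabiliser, then the fixed-point-free elements of `M`, with the identity, form a normal
subgroup of `G` which acts regularly. -/
theorem exists_regular_normal [Finite Ω] (M : Subgroup G) [hMn : M.Normal] (hM : M ≠ ⊥)
    (h2pt : ∀ m ∈ M, ∀ a b : Ω, a ≠ b → m • a = a → m • b = b → m = 1)
    (hpt : ∃ a : Ω, ∃ m ∈ M, m ≠ 1 ∧ m • a = a) :
    ∃ L : Subgroup G, L.Normal ∧ (∀ x y : Ω, ∃ l ∈ L, l • x = y) ∧
      (∀ l ∈ L, ∀ c : Ω, l • c = c → l = 1) := by
  have hfin : Finite G := finite_of_finite hZ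
  obtain ⟨a, m₀, hm₀, hm₀1, hm₀a⟩ := hpt
  have hF : IsFrobeniusComplement (stabilizer M a) := by
    refine ⟨?_, ?_, ?_⟩
    · intro hbot
      have hmem : (⟨m₀, hm₀⟩ : M) ∈ stabilizer M a := by
        rw [mem_stabilizer_iff, Subgroup.smul_def]; exact hm₀a
      rw [hbot, Subgroup.mem_bot] at hmem
      exact hm₀1 (congrArg Subtype.val hmem)
    · obtain ⟨b, hba⟩ : ∃ b : Ω, b ≠ a := by
        obtain ⟨g, _, a', b', hab', _, _⟩ := hZ.fix
        by_cases h : a' = a
        · exact ⟨b', fun hb => hab' (h.trans hb.symm)⟩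
        · exact ⟨a', h⟩
      obtain ⟨m, hm, hma⟩ := normal_transitive hZ M hM a b
      intro htop
      have hmem : (⟨m, hm⟩ : M) ∈ stabilizer M a := by rw [htop]; trivial
      rw [mem_stabilizer_iff, Subgroup.smul_def] at hmem
      exact hba (by rw [← hma]; exact hmem)
    · intro g hg
      rw [eq_bot_iff]
      intro x hx
      obtain ⟨hx1, hx2⟩ := Subgroup.mem_inf.1 hx
      rw [mem_stabilizer_iff, Subgroup.smul_def] at hx1 hg
      rw [mem_conj_stabilizer] at hx2
      have := h2pt (x : G) x.2 a ((g : G) • a) (Ne.symm hg) hx1 hx2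
      exact Subgroup.mem_bot.2 (Subtype.ext this)
  obtain ⟨N, hN, hNn, hNc⟩ :=
    Cfsg.Agent.Lib.Helper6_Frobenius.exists_kernel (stabilizer M a) hF
  have memL : ∀ x : G, x ∈ N.map M.subtype ↔ x ∈ M ∧ (x = 1 ∨ ∀ c : Ω, x • c ≠ c) := by
    intro x
    rw [Subgroup.mem_map]
    constructor
    · rintro ⟨y, hy, rfl⟩
      refine ⟨y.2, ?_⟩
      have hy' : y ∈ frobeniusKernel (stabilizer M a) := by rw [← hN]; exact hy
      rcases hy' with h1 | h2
      · left; rw [h1]; rfl
      · right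
        intro c hc
        obtain ⟨g, hg, hga⟩ := normal_transitive hZ M hM a c
        apply h2 ⟨g, hg⟩
        rw [mem_conj_stabilizer]
        show (y : G) • (g • a) = g • a
        rw [hga]; exact hc
    · rintro ⟨hxM, hx⟩
      refine ⟨⟨x, hxM⟩, ?_, rfl⟩
      have : (⟨x, hxM⟩ : M) ∈ frobeniusKernel (stabilizer M a) := by
        rcases hx with h1 | h2
        · left; exact Subtype.ext h1
        · right
          intro g hg
          rw [mem_conj_stabilizer] at hg
          exact h2 _ hg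
      rw [← hN] at this
      exact this
  refine ⟨N.map M.subtype, ⟨?_⟩, ?_, ?_⟩
  · intro x hx g
    rw [memL] at hx ⊢
    refine ⟨hMn.conj_mem x hx.1 g, ?_⟩
    rcases hx.2 with rfl | h2
    · left; group
    · right
      intro c hc
      apply h2 (g⁻¹ • c)
      rw [mul_smul, mul_smul] at hc
      exact (inv_smul_eq_iff.2 hc.symm).symm
  · have htr : ∀ c : Ω, ∃ l ∈ N.map M.subtype, l • a = c := by
      intro c
      obtain ⟨g, hg, hga⟩ := normal_transitive hZ M hM a c
      obtain ⟨⟨n, h⟩, hnh, _⟩ := (Subgroup.isComplement'_def.1 hNc).existsUnique (⟨g, hg⟩ : M)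
      refine ⟨((n : M) : G), Subgroup.mem_map.2 ⟨n, n.2, rfl⟩, ?_⟩
      have hh : (((h : M)) : G) • a = a := by
        have := h.2
        rw [SetLike.mem_coe, mem_stabilizer_iff, Subgroup.smul_def] at this
        exact this
      have hgeq : ((n : M) : G) * ((h : M) : G) = g := by
        have := congrArg Subtype.val hnh
        simpa using this
      rw [← hga, ← hgeq, mul_smul, hh]
    intro x y
    obtain ⟨l₁, hl₁, e₁⟩ := htr x
    obtain ⟨l₂, hl₂, e₂⟩ := htr y
    refine ⟨l₂ * l₁⁻¹, Subgroup.mul_mem _ hl₂ (Subgroup.inv_mem _ hl₁), ?_⟩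
    rw [mul_smul, ← e₁, inv_smul_smul, e₂]
  · intro l hl c hc
    rw [memL] at hl
    rcases hl.2 with h1 | h2
    · exact h1
    · exact absurd hc (h2 c)

end regular

section zass

variable {G Ω : Type*} [Group G] [MulAction G Ω]

/-- the hypotheses of a Zassenhaus group, unpacked -/
theorem zhyp_of_isZassenhausGroup (hZ : IsZassenhausGroup G Ω) : ZHyp G Ω :=
  ⟨hZ.1, fun h h' => (MulAction.is_two_pretransitive_iff.1 hZ.2.1) h h', hZ.2.2.1, hZ.2.2.2.1⟩

/-- the last Zassenhaus axiom in elementwise form -/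
theorem no_regular_normal (hZ : IsZassenhausGroup G Ω) (L : Subgroup G) (hL : L.Normal)
    (htr : ∀ x y : Ω, ∃ l ∈ L, l • x = y) : ∃ l ∈ L, l ≠ 1 ∧ ∃ c : Ω, l • c = c := by
  have hpre : MulAction.IsPretransitive L Ω := by
    constructor
    intro x y
    obtain ⟨l, hl, e⟩ := htr x y
    exact ⟨⟨l, hl⟩, e⟩
  obtain ⟨a, ha⟩ := hZ.2.2.2.2 L hL hpre
  obtain ⟨s, hs1⟩ := (Subgroup.ne_bot_iff_exists_ne_one).1 ha
  have hs := s.2
  rw [mem_stabilizer_iff, Subgroup.smul_def] at hs
  refine ⟨((s : L) : G), (s : L).2, ?_, a, hs⟩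
  intro h
  apply hs1
  apply Subtype.ext
  apply Subtype.ext
  exact h

/-- In a Zassenhaus group, a non-trivial normal subgroup contains non-identity elements fixing
any two given points. -/
theorem exists_fix_normal [Finite Ω] (hZ : IsZassenhausGroup G Ω) (M : Subgroup G) [M.Normal]
    (hM : M ≠ ⊥) (a b : Ω) (hab : a ≠ b) : ∃ h ∈ M, h ≠ 1 ∧ h • a = a ∧ h • b = b := by
  have hz := zhyp_of_isZassenhausGroup hZ
  by_contra hcon
  push Not at hcon
  -- two-point stabilisers of `M` are trivial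
  have h2pt : ∀ m ∈ M, ∀ a' b' : Ω, a' ≠ b' → m • a' = a' → m • b' = b' → m = 1 := by
    intro m hm a' b' hab' ha' hb'
    obtain ⟨x, hxa, hxb⟩ := hz.two hab' hab
    by_contra hm1
    apply hcon (x * m * x⁻¹) (Subgroup.Normal.conj_mem inferInstance m hm x)
    · intro h
      apply hm1
      have : m = x⁻¹ * (x * m * x⁻¹) * x := by group
      rw [this, h]; group
    · rw [mul_smul, mul_smul, ← hxa, inv_smul_smul, ha']
    · rw [mul_smul, mul_smul, ← hxb, inv_smul_smul, hb']
  obtain ⟨l, hl, hl1, c, hc⟩ := no_regular_normal hZ M inferInstance (normal_transitive hz M hM)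
  obtain ⟨L, hLn, hLt, hLs⟩ := exists_regular_normal hz M hM h2pt ⟨c, l, hl, hl1, hc⟩
  obtain ⟨l', hl', hl'1, c', hc'⟩ := no_regular_normal hZ L hLn hLt
  exact hl'1 (hLs l' hl' c' hc')

/-- In a Zassenhaus group, a non-trivial normal subgroup contains the Frobenius kernels of all
point stabilisers. -/
theorem K_le_normal [Finite Ω] (hZ : IsZassenhausGroup G Ω) (M : Subgroup G) [M.Normal]
    (hM : M ≠ ⊥) (a : Ω) (K : Subgroup G) (hK : (K : Set G) = Kset G a) : K ≤ M := by
  have hz := zhyp_of_isZassenhausGroup hZ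
  obtain ⟨b, hba⟩ : ∃ b : Ω, b ≠ a := by
    obtain ⟨g, _, a', b', hab', _, _⟩ := hz.fix
    by_cases h : a' = a
    · exact ⟨b', fun hb => hab' (h.trans hb.symm)⟩
    · exact ⟨a', h⟩
  obtain ⟨h, hhM, hh1, hha, hhb⟩ := exists_fix_normal hZ M hM a b hba.symm
  exact K_le_of_fix hz M hba.symm hhM hh1 hha hhb K hK

end zass

section regnormal

variable {G Ω : Type*} [Group G] [MulAction G Ω]

/-- `L` is a regular subgroup of `N`, normalised by `N` -/
structure RegNormal (N L : Subgroup G) (Ω : Type*) [MulAction G Ω] : Prop where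
  le : L ≤ N
  conj : ∀ n ∈ N, ∀ l ∈ L, n * l * n⁻¹ ∈ L
  trans : ∀ x y : Ω, ∃ l ∈ L, l • x = y
  semi : ∀ l ∈ L, ∀ c : Ω, l • c = c → l = 1

variable {N L : Subgroup G}
  (hN2 : ∀ {a b c d : Ω}, a ≠ b → c ≠ d → ∃ n ∈ N, n • a = c ∧ n • b = d)
  (hL : RegNormal N L Ω)
include hN2 hL

/-- all non-identity elements of a regular normal subgroup of a doubly transitive group are
conjugate -/
theorem RegNormal.conj_of_ne_one [Nonempty Ω] {x y : G} (hx : x ∈ L) (hy : y ∈ L) (hx1 : x ≠ 1)
    (hy1 : y ≠ 1) : ∃ n ∈ N, n * x * n⁻¹ = y := by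
  obtain ⟨a⟩ := ‹Nonempty Ω›
  have hxa : a ≠ x • a := fun h => hx1 (hL.semi x hx a h.symm)
  have hya : a ≠ y • a := fun h => hy1 (hL.semi y hy a h.symm)
  obtain ⟨n, hn, hna, hnx⟩ := hN2 hxa hya
  refine ⟨n, hn, ?_⟩
  have hmem : y⁻¹ * (n * x * n⁻¹) ∈ L := L.mul_mem (L.inv_mem hy) (hL.conj n hn x hx)
  have hfix : (y⁻¹ * (n * x * n⁻¹)) • a = a := by
    have hia : n⁻¹ • a = a := inv_smul_eq_iff.2 hna.symm
    rw [mul_smul, mul_smul, mul_smul, hia, hnx, inv_smul_smul]
  have := hL.semi _ hmem a hfix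
  calc n * x * n⁻¹ = y * (y⁻¹ * (n * x * n⁻¹)) := by group
    _ = y := by rw [this, mul_one]

/-- a regular normal subgroup of a doubly transitive group is abelian -/
theorem RegNormal.comm [Finite G] [Nonempty Ω] {x y : G} (hx : x ∈ L) (hy : y ∈ L) :
    x * y = y * x := by
  by_cases hx1 : x = 1
  · rw [hx1, one_mul, mul_one]
  -- `L` is non-trivial
  have hnt : Nontrivial L := ⟨⟨⟨x, hx⟩, 1, fun h => hx1 (congrArg Subtype.val h)⟩⟩
  obtain ⟨p, hp, hpd⟩ := Nat.exists_prime_and_dvd (Finite.one_lt_card (α := L)).ne'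
  have : Fact p.Prime := ⟨hp⟩
  obtain ⟨x₀, hx₀⟩ := exists_prime_orderOf_dvd_card' (G := L) p hpd
  have hx₀1 : (x₀ : G) ≠ 1 := by
    intro h
    have : x₀ = 1 := Subtype.ext h
    rw [this, orderOf_one] at hx₀
    exact hp.one_lt.ne hx₀
  have hx₀p : (x₀ : G) ^ p = 1 := by
    have : x₀ ^ p = 1 := by rw [← hx₀]; exact pow_orderOf_eq_one x₀
    exact congrArg Subtype.val this
  -- every element has order dividing `p`
  have hpow : ∀ w ∈ L, w ^ p = 1 := by
    intro w hw
    by_cases hw1 : w = 1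
    · rw [hw1, one_pow]
    obtain ⟨n, hn, e⟩ := hL.conj_of_ne_one hN2 x₀.2 hw hx₀1 hw1
    rw [← e, conj_pow, hx₀p]; group
  have hPG : IsPGroup p L := by
    intro w
    refine ⟨1, ?_⟩
    apply Subtype.ext
    rw [pow_one]
    exact hpow w w.2
  obtain ⟨⟨z, hzc⟩, z', hzz'⟩ := hPG.center_nontrivial
  -- a non-identity central element
  obtain ⟨z, hzc, hz1⟩ : ∃ z : L, z ∈ Subgroup.center L ∧ z ≠ 1 := by
    by_cases h : (⟨z, hzc⟩ : Subgroup.center L) = 1
    · refine ⟨z', z'.2, ?_⟩
      intro h'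
      apply hzz'
      rw [h]
      exact (Subtype.ext h').symm
    · exact ⟨z, hzc, fun h' => h (Subtype.ext h')⟩
  have hzG1 : (z : G) ≠ 1 := fun h => hz1 (Subtype.ext h)
  have hzcomm : ∀ w ∈ L, (z : G) * w = w * (z : G) := by
    intro w hw
    have := (Subgroup.mem_center_iff.1 hzc) ⟨w, hw⟩
    exact (congrArg Subtype.val this).symm
  obtain ⟨n, hn, e⟩ := hL.conj_of_ne_one hN2 z.2 hx hzG1 hx1
  -- `x = n z n⁻¹` is central in `L`
  have hw : n⁻¹ * y * n⁻¹⁻¹ ∈ L := hL.conj n⁻¹ (N.inv_mem hn) y hy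
  have h1 := hzcomm _ hw
  rw [← e]
  calc n * (z : G) * n⁻¹ * y = n * ((z : G) * (n⁻¹ * y * n⁻¹⁻¹)) * n⁻¹ := by group
    _ = n * ((n⁻¹ * y * n⁻¹⁻¹) * (z : G)) * n⁻¹ := by rw [h1]
    _ = y * (n * (z : G) * n⁻¹) := by group

/-- anything centralising a regular abelian subgroup lies in it -/
theorem RegNormal.mem_of_centralizes [Finite G] [Nonempty Ω] [FaithfulSMul G Ω] {c : G}
    (hc : ∀ l ∈ L, c * l = l * c) : c ∈ L := by
  obtain ⟨a⟩ := ‹Nonempty Ω›
  obtain ⟨l, hl, hla⟩ := hL.trans a (c • a)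
  have h1 : l⁻¹ * c = 1 := by
    apply FaithfulSMul.eq_of_smul_eq_smul (α := Ω)
    intro x
    rw [one_smul]
    obtain ⟨l', hl', rfl⟩ := hL.trans a x
    have e1 : c * l' = l' * c := hc l' hl'
    have e2 : l⁻¹ * l' = l' * l⁻¹ := hL.comm hN2 (L.inv_mem hl) hl'
    calc (l⁻¹ * c) • l' • a = (l⁻¹ * (c * l')) • a := by rw [← mul_smul]; group
      _ = (l⁻¹ * (l' * c)) • a := by rw [e1]
      _ = ((l⁻¹ * l') * c) • a := by group
      _ = ((l' * l⁻¹) * c) • a := by rw [e2]
      _ = l' • l⁻¹ • c • a := by rw [mul_smul, mul_smul]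
      _ = l' • a := by rw [← hla, inv_smul_smul]
  have : c = l := by
    calc c = l * (l⁻¹ * c) := by group
      _ = l := by rw [h1, mul_one]
  rw [this]; exact hl

end regnormal

section regnormal2

variable {G Ω : Type*} [Group G] [MulAction G Ω]

/-- the conjugate of a regular normal subgroup of `N ⊴ G` -/
theorem RegNormal.map_conj {N L : Subgroup G} [hNn : N.Normal] (hL : RegNormal N L Ω) (g : G) :
    RegNormal N (L.map (MulAut.conj g).toMonoidHom) Ω := by
  have mem : ∀ x, x ∈ L.map (MulAut.conj g).toMonoidHom ↔ g⁻¹ * x * g ∈ L := by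
    intro x
    rw [Subgroup.mem_map]
    constructor
    · rintro ⟨l, hl, rfl⟩
      simp only [MulEquiv.coe_toMonoidHom, MulAut.conj_apply]
      have : g⁻¹ * (g * l * g⁻¹) * g = l := by group
      rw [this]; exact hl
    · intro h
      refine ⟨g⁻¹ * x * g, h, ?_⟩
      simp only [MulEquiv.coe_toMonoidHom, MulAut.conj_apply]
      group
  refine ⟨?_, ?_, ?_, ?_⟩
  · intro x hx
    rw [mem] at hx
    have := hNn.conj_mem _ (hL.le hx) g
    have e : g * (g⁻¹ * x * g) * g⁻¹ = x := by group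
    rw [e] at this
    exact this
  · intro n hn l hl
    rw [mem] at hl ⊢
    have hn' : g⁻¹ * n * g⁻¹⁻¹ ∈ N := hNn.conj_mem n hn g⁻¹
    have := hL.conj _ hn' _ hl
    have e : g⁻¹ * n * g⁻¹⁻¹ * (g⁻¹ * l * g) * (g⁻¹ * n * g⁻¹⁻¹)⁻¹ = g⁻¹ * (n * l * n⁻¹) * g := by
      group
    rw [e] at this
    exact this
  · intro x y
    obtain ⟨l, hl, e⟩ := hL.trans (g⁻¹ • x) (g⁻¹ • y)
    refine ⟨g * l * g⁻¹, ?_, ?_⟩
    · rw [mem]
      have : g⁻¹ * (g * l * g⁻¹) * g = l := by group
      rw [this]; exact hl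
    · rw [mul_smul, mul_smul, e, smul_inv_smul]
  · intro l hl c hc
    rw [mem] at hl
    have := hL.semi _ hl (g⁻¹ • c) (by rw [mul_smul, mul_smul, smul_inv_smul, hc])
    calc l = g * (g⁻¹ * l * g) * g⁻¹ := by group
      _ = 1 := by rw [this]; group

/-- a regular normal subgroup of a doubly transitive normal subgroup `N` of `G` is normal in `G` -/
theorem RegNormal.normal [Finite G] [Nonempty Ω] [FaithfulSMul G Ω] {N L : Subgroup G}
    [hNn : N.Normal]
    (hN2 : ∀ {a b c d : Ω}, a ≠ b → c ≠ d → ∃ n ∈ N, n • a = c ∧ n • b = d)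
    (hL : RegNormal N L Ω) : L.Normal := by
  constructor
  intro l hl g
  by_cases hl1 : l = 1
  · rw [hl1]; simp
  have hL' := hL.map_conj g
  have hmem' : g * l * g⁻¹ ∈ L.map (MulAut.conj g).toMonoidHom :=
    Subgroup.mem_map.2 ⟨l, hl, by simp⟩
  have hne : g * l * g⁻¹ ≠ 1 := by
    intro h
    apply hl1
    calc l = g⁻¹ * (g * l * g⁻¹) * g := by group
      _ = 1 := by rw [h]; group
  by_cases hint : ∃ z, z ∈ L ∧ z ∈ L.map (MulAut.conj g).toMonoidHom ∧ z ≠ 1
  · obtain ⟨z, hzL, hzL', hz1⟩ := hint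
    obtain ⟨n, hn, e⟩ := hL'.conj_of_ne_one hN2 hzL' hmem' hz1 hne
    rw [← e]
    exact hL.conj n hn z hzL
  · push Not at hint
    apply hL.mem_of_centralizes hN2
    intro w hw
    -- the commutator lies in both subgroups
    set y := g * l * g⁻¹ with hy
    have h1 : y * w * y⁻¹ * w⁻¹ ∈ L :=
      L.mul_mem (hL.conj y (hL'.le hmem') w hw) (L.inv_mem hw)
    have h2 : y * w * y⁻¹ * w⁻¹ ∈ L.map (MulAut.conj g).toMonoidHom := by
      have : y * w * y⁻¹ * w⁻¹ = y * (w * y⁻¹ * w⁻¹) := by group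
      rw [this]
      exact Subgroup.mul_mem _ hmem' (hL'.conj w (hL.le hw) y⁻¹ (Subgroup.inv_mem _ hmem'))
    have := hint _ h1 h2
    calc y * w = (y * w * y⁻¹ * w⁻¹) * (w * y) := by group
      _ = w * y := by rw [this, one_mul]

end regnormal2

end Cfsg.Agent.Lib.Helper6_Zassenhaus
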