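import Mathlib
import Cfsg.Prelude.Def_Characters
import Cfsg.Prelude.Def_OddOrderChar
import Cfsg.Prelude.Def_OddOrderLocal
import Cfsg.Prelude.Def_LieExceptional

/-!
# Feit's theorem on Zassenhaus groups (S0885): shared definitions (helper95)

`Nice` bundles the hypotheses of the "nice case" (after the reduction through S0739): a Zassenhaus
group `G` on `Ω`, two points `a ≠ b`, the two-point stabiliser of odd order `e`, the Frobenius
kernel `H` of the stabiliser of `a` (of order `h = |Ω| - 1`), and the key property that every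
element interchanging two points is an involution.

`ZData` is the group-theoretic interface used by the character-theoretic core: everything the
character theory needs to know about `G ≥ N = G_a ≥ H`.
-/

set_option autoImplicit false

namespace Cfsg.Agent.Lib.Helper95_FeitDefs

open Cfsg MulAction

universe u v

/-- The nice case of a Zassenhaus group with two-point stabilisers of odd order. -/
structure Nice (G : Type u) (Ω : Type v) [Group G] [MulAction G Ω] [Fintype Ω]
    (a b : Ω) (H : Subgroup G) (h e : ℕ) : Prop where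
  zass : Cfsg.IsZassenhausGroup G Ω
  hab : a ≠ b
  card_Ω : Fintype.card Ω = h + 1
  card_E : Nat.card ↥(stabilizer G a ⊓ stabilizer G b : Subgroup G) = e
  e_odd : Odd e
  H_le : H ≤ stabilizer G a
  card_H : Nat.card H = h
  H_fix : ∀ u ∈ H, u ≠ 1 → ∀ c : Ω, u • c = c → c = a
  swap_sq : ∀ (s : G) (c d : Ω), c ≠ d → s • c = d → s • d = c → s * s = 1

/-- The group-theoretic interface for the character theory: `N` plays the role of the point
stabiliser, `H` of its Frobenius kernel, `h = |H|`, `e = |N : H|`. -/
structure ZData {G : Type u} [Group G] [Fintype G] (N H : Subgroup G) (h e : ℕ) : Prop where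
  H_le : H ≤ N
  H_normal : ∀ n ∈ N, ∀ x ∈ H, n * x * n⁻¹ ∈ H
  card_H : Nat.card H = h
  card_N : Nat.card N = h * e
  index_N : N.index = h + 1
  e_odd : Odd e
  one_lt_e : 1 < e
  frob : ∀ x ∈ H, x ≠ 1 → ∀ n ∈ N, n * x = x * n → n ∈ H
  ti : Cfsg.IsTISubset (H : Set G)
  normalizer_eq : Subgroup.normalizer (H : Set G) = N
  ind_H : ∀ β : N → ℂ, Cfsg.IsClassFunction N β → ∀ x : N, (x : G) ∈ H → x ≠ 1 →
    Cfsg.indFun N β x = β x
  ind_off : ∀ β : N → ℂ, Cfsg.IsClassFunction N β → ∀ x : N, (x : G) ∉ H →
    Cfsg.indFun N β x = β x + β x⁻¹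
  sq_out : ∀ s : G, s ∉ N → s * s ∈ N → s * s = 1
  card_invol_out : Nat.card {s : G // s ∉ N ∧ s * s = 1} = h * e
  invol_H : Nat.card {z : G // z ∈ H ∧ z * z = 1} ≤ e + 1

/-- The irreducible characters of `N` not having `H` in their kernel. -/
def SS {G : Type u} [Group G] (N H : Subgroup G) : Set (N → ℂ) :=
  {χ | Cfsg.IsIrrCharacter N χ ∧ ∃ x ∈ H.subgroupOf N, χ x ≠ χ 1}

end Cfsg.Agent.Lib.Helper95_FeitDefs
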