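import Mathlib
import Cfsg.Agent.Lib.Helper1_Glauberman

/-!
Coprime action (helper1), in the internal formulation used by the statements: `A` and `K` are
subgroups of a finite group `G`, `A` normalizes `K`, their orders are coprime and one of them is
solvable.
-/

set_option autoImplicit false

namespace Cfsg.Agent.Lib.Helper1_Coprime

open Subgroup MulAction
open scoped Pointwise
open Cfsg.Agent.Lib.Helper1_Transport Cfsg.Agent.Lib.Helper1_SZ Cfsg.Agent.Lib.Helper1_Glauberman

universe u

variable {G : Type u} [Group G]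

/-- The conjugation action of a subgroup `A` on a subgroup `K` that it normalizes. -/
@[reducible] def conjAction (A K : Subgroup G) (hAK : A ≤ normalizer (K : Set G)) :
    MulDistribMulAction A K where
  smul a k := ⟨a * k * a⁻¹, (mem_normalizer_iff.mp (hAK a.2) k).mp k.2⟩
  one_smul k := Subtype.ext (by change (1 : G) * k * (1 : G)⁻¹ = k; simp)
  mul_smul a b k := Subtype.ext (by
    change ((a : G) * b) * k * ((a : G) * b)⁻¹ = a * (b * k * (b : G)⁻¹) * (a : G)⁻¹
    group)
  smul_mul a k₁ k₂ := Subtype.ext (by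
    change (a : G) * (k₁ * k₂) * (a : G)⁻¹ = (a * k₁ * (a : G)⁻¹) * (a * k₂ * (a : G)⁻¹)
    group)
  smul_one a := Subtype.ext (by change (a : G) * 1 * (a : G)⁻¹ = 1; simp)

theorem conjAction_coe (A K : Subgroup G) (hAK : A ≤ normalizer (K : Set G)) (a : A) (k : K) :
    letI := conjAction A K hAK
    ((a • k : K) : G) = a * k * (a : G)⁻¹ := rfl

/-- Solvability passes to subgroups of a subgroup. -/
theorem isSolvable_of_le {N K : Subgroup G} (h : N ≤ K) (hK : Group.IsSolvable K) :
    Group.IsSolvable N :=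
  Group.isSolvable_of_isSolvable_injective (f := inclusion h) (inclusion_injective h)

/-- **Fixed points pass to quotients** under coprime action. -/
theorem exists_fixed_in_coset [Finite G] (A K : Subgroup G)
    (hcop : (Nat.card A).Coprime (Nat.card K)) (hsolv : Group.IsSolvable A ∨ Group.IsSolvable K)
    (N : Subgroup G) (hNK : N ≤ K) (hNnormal : K ≤ normalizer (N : Set G))
    (hNA : A ≤ normalizer (N : Set G))
    (k : G) (hk : k ∈ K) (hfix : ∀ a ∈ A, a * k * a⁻¹ * k⁻¹ ∈ N) :
    ∃ c ∈ K ⊓ centralizer (A : Set G), k⁻¹ * c ∈ N := by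
  let _ := conjAction A N hNA
  -- the coset `kN`
  let X := {x : G // k⁻¹ * x ∈ N}
  have hX : Nonempty X := ⟨⟨k, by simp⟩⟩
  let instN : MulAction N X :=
    { smul := fun n x => ⟨x.1 * (n : G)⁻¹, by
        have := N.mul_mem x.2 (N.inv_mem n.2)
        simpa [mul_assoc] using this⟩
      one_smul := fun x => Subtype.ext (by change x.1 * ((1 : N) : G)⁻¹ = x.1; simp)
      mul_smul := fun n m x => Subtype.ext (by
        change x.1 * ((n * m : N) : G)⁻¹ = x.1 * (m : G)⁻¹ * (n : G)⁻¹
        simp [mul_assoc]) }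
  have hkconj : ∀ a ∈ A, k⁻¹ * a * k * a⁻¹ ∈ N := by
    intro a ha
    have h1 := hfix a ha
    have h2 := (mem_normalizer_iff.mp (hNnormal (K.inv_mem hk)) _).mp h1
    have e : k⁻¹ * (a * k * a⁻¹ * k⁻¹) * k⁻¹⁻¹ = k⁻¹ * a * k * a⁻¹ := by group
    rwa [e] at h2
  let instA : MulAction A X :=
    { smul := fun a x => ⟨a * x.1 * (a : G)⁻¹, by
        have h1 := hkconj a a.2
        have h2 := (mem_normalizer_iff.mp (hNA a.2) _).mp x.2
        have h3 := N.mul_mem h1 h2
        have e : k⁻¹ * ↑a * k * (↑a)⁻¹ * (↑a * (k⁻¹ * x.1) * (↑a)⁻¹) = k⁻¹ * (a * x.1 * (a : G)⁻¹) := by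
          group
        rwa [e] at h3⟩
      one_smul := fun x => Subtype.ext (by change ((1 : A) : G) * x.1 * ((1 : A) : G)⁻¹ = x.1; simp)
      mul_smul := fun a b x => Subtype.ext (by
        change ((a * b : A) : G) * x.1 * ((a * b : A) : G)⁻¹ = a * (b * x.1 * (b : G)⁻¹) * (a : G)⁻¹
        simp [mul_assoc]) }
  have hcompat : ∀ (a : A) (n : N) (x : X), a • (n • x) = (a • n) • (a • x) := by
    intro a n x
    apply Subtype.ext
    change (a : G) * (x.1 * (n : G)⁻¹) * (a : G)⁻¹ = (a * x.1 * (a : G)⁻¹) * ((a : G) * n * (a : G)⁻¹)⁻¹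
    group
  have htrans : IsPretransitive N X := by
    constructor
    intro x y
    refine ⟨⟨y.1⁻¹ * x.1, ?_⟩, ?_⟩
    · have := N.mul_mem (N.inv_mem y.2) x.2
      simpa [mul_assoc] using this
    · apply Subtype.ext
      change x.1 * (y.1⁻¹ * x.1)⁻¹ = y.1
      group
  have hcop' : (Nat.card A).Coprime (Nat.card N) :=
    hcop.coprime_dvd_right (card_dvd_of_le hNK)
  have hsolv' : Group.IsSolvable A ∨ Group.IsSolvable N :=
    hsolv.imp id (isSolvable_of_le hNK)
  have : Finite A := inferInstance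
  have : Finite N := inferInstance
  obtain ⟨⟨x, hx⟩, -⟩ := glauberman_ext (A := A) (N := N) (X := X) hcompat hcop' hsolv' htrans
  refine ⟨x.1, ⟨?_, ?_⟩, x.2⟩
  · have : x.1 = k * (k⁻¹ * x.1) := by group
    rw [this]
    exact K.mul_mem hk (hNK x.2)
  · change x.1 ∈ centralizer (A : Set G)
    rw [mem_centralizer_iff]
    intro a ha
    have h1 := congrArg Subtype.val (hx ⟨a, ha⟩)
    change a * x.1 * a⁻¹ = x.1 at h1
    calc a * x.1 = (a * x.1 * a⁻¹) * a := by group
      _ = x.1 * a := by rw [h1]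

/-- The image in `G` of `a • P` (conjugation action on subgroups of `K`) is the conjugate of the
image of `P`. -/
theorem map_subtype_conjAction_smul (A K : Subgroup G) (hAK : A ≤ normalizer (K : Set G))
    (a : A) (P : Subgroup K) :
    letI := conjAction A K hAK
    (a • P).map K.subtype = MulAut.conj (a : G) • P.map K.subtype := by
  let _ := conjAction A K hAK
  ext g
  rw [mem_conj_smul_iff, mem_map, mem_map]
  constructor
  · rintro ⟨x, hx, rfl⟩
    rw [mem_pointwise_smul_iff_inv_smul_mem] at hx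
    refine ⟨a⁻¹ • x, hx, ?_⟩
    change ((a⁻¹ : A) : G) * x * ((a⁻¹ : A) : G)⁻¹ = _
    simp
  · rintro ⟨x, hx, hxg⟩
    refine ⟨a • x, smul_mem_pointwise_smul _ _ _ hx, ?_⟩
    change (a : G) * x * (a : G)⁻¹ = g
    change (x : G) = _ at hxg
    rw [hxg]; group

/-- `a • P = P` for the conjugation action iff `a` normalizes the image of `P` in `G`. -/
theorem conjAction_smul_eq_iff (A K : Subgroup G) (hAK : A ≤ normalizer (K : Set G))
    (a : A) (P : Subgroup K) :
    letI := conjAction A K hAK
    a • P = P ↔ (a : G) ∈ normalizer ((P.map K.subtype : Subgroup G) : Set G) := by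
  let _ := conjAction A K hAK
  rw [← conj_smul_eq_self_iff, ← map_subtype_conjAction_smul A K hAK]
  constructor
  · intro h; rw [h]
  · intro h; exact map_injective (subtype_injective K) h

/-- Compatibility of the conjugation actions of `A` and `K` on `Sylow p K`. -/
theorem sylow_compat (A K : Subgroup G) (hAK : A ≤ normalizer (K : Set G)) (p : ℕ) [Fact p.Prime]
    (a : A) (k : K) (P : Sylow p K) :
    letI := conjAction A K hAK
    a • (k • P) = (a • k) • (a • P) := by
  let _ := conjAction A K hAK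
  apply Sylow.ext
  ext x
  change x ∈ a • (MulAut.conj k • (P : Subgroup K)) ↔ x ∈ MulAut.conj (a • k) • (a • (P : Subgroup K))
  rw [mem_pointwise_smul_iff_inv_smul_mem, mem_conj_smul_iff, mem_conj_smul_iff,
    mem_pointwise_smul_iff_inv_smul_mem]
  have : a⁻¹ • ((a • k)⁻¹ * x * (a • k)) = k⁻¹ * a⁻¹ • x * k := by
    rw [smul_mul', smul_mul', smul_inv', inv_smul_smul]
  rw [this]

variable [Finite G]

/-- **Existence of an invariant Sylow subgroup** under coprime action. -/
theorem exists_invariant_sylow (A K : Subgroup G) (hAK : A ≤ normalizer (K : Set G))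
    (hcop : (Nat.card A).Coprime (Nat.card K)) (hsolv : Group.IsSolvable A ∨ Group.IsSolvable K)
    (p : ℕ) [Fact p.Prime] :
    ∃ P : Sylow p K, A ≤ normalizer (((P : Subgroup K).map K.subtype : Subgroup G) : Set G) := by
  let _ := conjAction A K hAK
  obtain ⟨⟨P, hP⟩, -⟩ := glauberman_ext (A := A) (N := K) (X := Sylow p K)
    (fun a k P => sylow_compat A K hAK p a k P) hcop hsolv inferInstance
  refine ⟨P, fun a ha => ?_⟩
  have h1 := congrArg (fun Q : Sylow p K => (Q : Subgroup K)) (hP ⟨a, ha⟩)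
  exact (conjAction_smul_eq_iff A K hAK ⟨a, ha⟩ P).mp h1

/-- **Conjugacy of invariant Sylow subgroups** under coprime action. -/
theorem invariant_sylow_conj (A K : Subgroup G) (hAK : A ≤ normalizer (K : Set G))
    (hcop : (Nat.card A).Coprime (Nat.card K)) (hsolv : Group.IsSolvable A ∨ Group.IsSolvable K)
    (p : ℕ) [Fact p.Prime] (P Q : Sylow p K)
    (hP : A ≤ normalizer (((P : Subgroup K).map K.subtype : Subgroup G) : Set G))
    (hQ : A ≤ normalizer (((Q : Subgroup K).map K.subtype : Subgroup G) : Set G)) :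
    ∃ c : K, (c : G) ∈ centralizer (A : Set G) ∧ MulAut.conj c • P = Q := by
  let _ := conjAction A K hAK
  have hfix : ∀ R : Sylow p K,
      A ≤ normalizer (((R : Subgroup K).map K.subtype : Subgroup G) : Set G) →
      ∀ a : A, a • R = R := by
    intro R hR a
    apply Sylow.ext
    exact (conjAction_smul_eq_iff A K hAK a R).mpr (hR a.2)
  obtain ⟨-, h2⟩ := glauberman_ext (A := A) (N := K) (X := Sylow p K)
    (fun a k P => sylow_compat A K hAK p a k P) hcop hsolv inferInstance
  obtain ⟨c, hc1, hc2⟩ := h2 P Q (hfix P hP) (hfix Q hQ)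
  refine ⟨c, ?_, hc2⟩
  rw [mem_centralizer_iff]
  intro a ha
  have h1 := congrArg Subtype.val (hc1 ⟨a, ha⟩)
  change a * (c : G) * a⁻¹ = c at h1
  calc a * (c : G) = (a * c * a⁻¹) * a := by group
    _ = c * a := by rw [h1]

end Cfsg.Agent.Lib.Helper1_Coprime
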