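import Mathlib
import Cfsg.Agent.Lib.Helper1_Coprime
import Cfsg.Agent.Lib.Helper48_Generation

/-!
Fixed-point-free actions (helper1): a group acting on a nontrivial group so that no nonidentity
element fixes a nonidentity element.
-/

set_option autoImplicit false

namespace Cfsg.Agent.Lib.Helper1_FPF

open Subgroup Finset
open scoped Pointwise

/-- A finite abelian group that is not cyclic contains, for some prime `p`, two elements
`a ≠ 1` and `b ∉ ⟨a⟩` with `a ^ p = b ^ p = 1`. -/
theorem exists_noncyclic_pair {A : Type*} [CommGroup A] [Finite A] (h : ¬ IsCyclic A) :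
    ∃ p : ℕ, p.Prime ∧ ∃ a b : A, a ^ p = 1 ∧ b ^ p = 1 ∧ a ≠ 1 ∧ b ∉ zpowers a := by
  classical
  by_contra hcon
  push Not at hcon
  apply h
  have := Fintype.ofFinite A
  apply isCyclic_of_card_pow_eq_one_le
  -- the `p`-torsion has at most `p` elements
  have hOm : ∀ p : ℕ, p.Prime → #{x : A | x ^ p = 1} ≤ p := by
    intro p hp
    by_cases hex : ∃ a : A, a ^ p = 1 ∧ a ≠ 1
    · obtain ⟨a, hap, ha1⟩ := hex
      have hsub : ({x : A | x ^ p = 1} : Finset A) ⊆ (univ.filter (· ∈ zpowers a)) := by
        intro x hx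
        rw [mem_filter] at hx ⊢
        exact ⟨mem_univ _, hcon p hp a x hap hx.2 ha1⟩
      refine (card_le_card hsub).trans ?_
      have h1 : #(univ.filter (· ∈ zpowers a)) = Nat.card (zpowers a) := by
        rw [Nat.card_eq_fintype_card, Fintype.card_subtype]
      rw [h1, Nat.card_zpowers]
      exact Nat.le_of_dvd hp.pos (orderOf_dvd_of_pow_eq_one hap)
    · push Not at hex
      have hsub : ({x : A | x ^ p = 1} : Finset A) ⊆ {1} := by
        intro x hx
        rw [mem_filter] at hx
        rw [mem_singleton]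
        by_contra hx1
        exact hx1 (hex x hx.2)
      exact (card_le_card hsub).trans (by simpa using hp.one_lt.le)
  intro n
  induction n using Nat.strong_induction_on with
  | _ n ih =>
    intro hn
    by_cases hn1 : n = 1
    · subst hn1
      rw [Finset.card_le_one]
      intro a ha b hb
      rw [mem_filter] at ha hb
      rw [pow_one] at ha hb
      rw [ha.2, hb.2]
    · set p := n.minFac with hpdef
      have hp : p.Prime := Nat.minFac_prime hn1
      obtain ⟨k, hk⟩ : p ∣ n := Nat.minFac_dvd n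
      have hkpos : 0 < k := by
        rcases Nat.eq_zero_or_pos k with h0 | h0
        · rw [h0, mul_zero] at hk; omega
        · exact h0
      have hklt : k < n := by
        rw [hk]
        have := hp.two_le
        nlinarith
      have him : ({x : A | x ^ n = 1} : Finset A).image (· ^ p) ⊆
          ({x : A | x ^ k = 1} : Finset A) := by
        intro y hy
        rw [mem_image] at hy
        obtain ⟨x, hx, rfl⟩ := hy
        rw [mem_filter] at hx ⊢
        refine ⟨mem_univ _, ?_⟩
        rw [← pow_mul, ← hk]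
        exact hx.2
      have hfib : ∀ y ∈ ({x : A | x ^ n = 1} : Finset A).image (· ^ p),
          #{x ∈ ({x : A | x ^ n = 1} : Finset A) | x ^ p = y} ≤ p := by
        intro y hy
        rw [mem_image] at hy
        obtain ⟨x0, _, rfl⟩ := hy
        refine le_trans ?_ (hOm p hp)
        apply card_le_card_of_injOn (fun x => x * x0⁻¹)
        · intro x hx
          simp only [coe_filter, Set.mem_ofPred_eq, mem_univ, true_and] at hx ⊢
          rw [mul_pow, hx.2, inv_pow, mul_inv_cancel]
        · intro x _ y _ hxy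
          exact mul_right_cancel hxy
      calc #{x : A | x ^ n = 1} ≤ p * #(({x : A | x ^ n = 1} : Finset A).image (· ^ p)) :=
            card_le_mul_card_image _ _ hfib
        _ ≤ p * #{x : A | x ^ k = 1} := Nat.mul_le_mul_left _ (card_le_card him)
        _ ≤ p * k := Nat.mul_le_mul_left _ (ih k hklt hkpos)
        _ = n := hk.symm


section Coprime

variable {A V : Type*} [Group A] [Finite A] [Group V] [Finite V] [MulDistribMulAction A V]

/-- If no nonidentity element of `A` fixes a nonidentity element of `V`, no prime divides both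
orders. -/
theorem not_dvd_of_fpf (hfpf : ∀ a : A, a ≠ 1 → ∀ v : V, a • v = v → v = 1)
    {p : ℕ} [hp : Fact p.Prime] (hpA : p ∣ Nat.card A) (hpV : p ∣ Nat.card V) : False := by
  obtain ⟨a, ha⟩ := exists_prime_orderOf_dvd_card' p hpA
  have hP : IsPGroup p (zpowers a) :=
    IsPGroup.of_card (n := 1) (by rw [Nat.card_zpowers, ha, pow_one])
  have hfix : (1 : V) ∈ MulAction.fixedPoints (zpowers a) V := fun g => smul_one g
  obtain ⟨v, hv, hv1⟩ := hP.exists_fixed_point_of_prime_dvd_card_of_fixed_point V hpV hfix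
  have h1 : a • v = v := hv ⟨a, mem_zpowers a⟩
  have ha1 : a ≠ 1 := by
    rintro rfl
    rw [orderOf_one] at ha
    exact hp.out.ne_one ha.symm
  exact hv1 (hfpf a ha1 v h1).symm

end Coprime

section Abstract

open Classical

variable {A V : Type*} [Group A] [Fintype A] [CommGroup V] [MulDistribMulAction A V]

/-- Under a fixed-point-free action on an abelian group, the "norm" of `v` over a nontrivial
subgroup is trivial. -/
theorem prod_smul_eq_one (hfpf : ∀ a : A, a ≠ 1 → ∀ v : V, a • v = v → v = 1)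
    (C : Subgroup A) (hC : C ≠ ⊥) (v : V) : ∏ e ∈ univ.filter (· ∈ C), e • v = 1 := by
  obtain ⟨⟨c, hc⟩, hc1⟩ := (Subgroup.ne_bot_iff_exists_ne_one).mp hC
  have hc1' : c ≠ 1 := fun h => hc1 (Subtype.ext h)
  apply hfpf c hc1'
  rw [Finset.smul_prod']
  refine Finset.prod_equiv (Equiv.mulLeft c) ?_ ?_
  · intro e
    simp only [mem_filter, mem_univ, true_and, Equiv.coe_mulLeft]
    exact (C.mul_mem_cancel_left hc).symm
  · intro e _
    simp [mul_smul]

theorem prod_erase_one (hfpf : ∀ a : A, a ≠ 1 → ∀ v : V, a • v = v → v = 1)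
    (C : Subgroup A) (hC : C ≠ ⊥) (v : V) :
    ∏ e ∈ (univ.filter (· ∈ C)).erase 1, e • v = v⁻¹ := by
  have h := Finset.prod_erase_mul (univ.filter (· ∈ C)) (fun e => e • v) (a := 1)
    (by simp [C.one_mem])
  rw [prod_smul_eq_one hfpf C hC v, one_smul] at h
  exact eq_inv_of_mul_eq_one_left h

omit [CommGroup V] [MulDistribMulAction A V] in
theorem fiber_eq (c : A) (hc : (orderOf c).Prime) :
    (univ.erase (1 : A)).filter (fun e => zpowers e = zpowers c) =
      (univ.filter (· ∈ zpowers c)).erase 1 := by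
  ext e
  simp only [mem_filter, mem_erase, mem_univ, true_and, and_true]
  constructor
  · rintro ⟨he1, he⟩
    exact ⟨he1, he ▸ mem_zpowers e⟩
  · rintro ⟨he1, he⟩
    refine ⟨he1, ?_⟩
    have hle : zpowers e ≤ zpowers c := zpowers_le.mpr he
    apply Subgroup.eq_of_le_of_card_ge hle
    have hdvd := Subgroup.card_dvd_of_le hle
    rw [Nat.card_zpowers, Nat.card_zpowers] at hdvd ⊢
    rcases (Nat.dvd_prime hc).mp hdvd with h | h
    · exact absurd (orderOf_eq_one_iff.mp h) he1
    · exact h.ge

/-- If every nonidentity element of `A` has prime order, and `A` acts fixed-point-freely on the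
abelian group `V`, then `v ^ m = v` where `m` is the number of subgroups of prime order. -/
theorem pow_card_image_zpowers [Nontrivial A]
    (hfpf : ∀ a : A, a ≠ 1 → ∀ v : V, a • v = v → v = 1)
    (hprime : ∀ a : A, a ≠ 1 → (orderOf a).Prime) (v : V) :
    v ^ ((univ.erase (1 : A)).image zpowers).card = v := by
  have h1 : ∏ e ∈ univ.erase (1 : A), e • v = v⁻¹ := by
    have := prod_erase_one hfpf ⊤ top_ne_bot v
    simpa using this
  have h2 := Finset.prod_fiberwise_of_maps_to (s := univ.erase (1 : A))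
    (t := (univ.erase (1 : A)).image zpowers) (g := zpowers)
    (fun e he => mem_image_of_mem _ he) (fun e => e • v)
  rw [h1] at h2
  have h3 : ∀ C ∈ (univ.erase (1 : A)).image zpowers,
      ∏ e ∈ (univ.erase (1 : A)) with zpowers e = C, e • v = v⁻¹ := by
    intro C hC
    obtain ⟨c, hc, rfl⟩ := mem_image.mp hC
    rw [fiber_eq c (hprime c (ne_of_mem_erase hc))]
    exact prod_erase_one hfpf _ (zpowers_ne_bot.mpr (ne_of_mem_erase hc)) v
  rw [Finset.prod_congr rfl h3, Finset.prod_const, inv_pow, inv_inj] at h2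
  exact h2

omit [CommGroup V] [MulDistribMulAction A V] in
theorem sum_card_sub_one (hprime : ∀ a : A, a ≠ 1 → (orderOf a).Prime) :
    ∑ C ∈ (univ.erase (1 : A)).image zpowers, (Nat.card C - 1) = Fintype.card A - 1 := by
  have h := Finset.card_eq_sum_card_fiberwise (f := zpowers) (s := univ.erase (1 : A))
    (t := (univ.erase (1 : A)).image zpowers) (fun e he => mem_image_of_mem _ he)
  rw [card_erase_of_mem (mem_univ _), card_univ] at h
  rw [h]
  apply Finset.sum_congr rfl
  intro C hC
  obtain ⟨c, hc, rfl⟩ := mem_image.mp hC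
  rw [fiber_eq c (hprime c (ne_of_mem_erase hc)), card_erase_of_mem (by simp),
    Nat.card_eq_fintype_card, Fintype.card_subtype]


/-- A group of order `p * q` (`p < q` primes) acting fixed-point-freely on a nontrivial abelian
group is cyclic. -/
theorem isCyclic_of_card_eq_mul_of_lt [Finite V] [Nontrivial V]
    (hfpf : ∀ a : A, a ≠ 1 → ∀ v : V, a • v = v → v = 1)
    {p q : ℕ} (hp : p.Prime) (hq : q.Prime) (hpq : p < q) (hA : Fintype.card A = p * q) :
    IsCyclic A := by
  by_contra hnc
  have hp2 := hp.two_le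
  have hq2 := hq.two_le
  have : Nontrivial A := Fintype.one_lt_card_iff_nontrivial.mp (by rw [hA]; nlinarith)
  have hord : ∀ a : A, a ≠ 1 → orderOf a = p ∨ orderOf a = q := by
    intro a ha
    have hd : orderOf a ∣ p * q := hA ▸ orderOf_dvd_card
    have hne1 : orderOf a ≠ 1 := fun h => ha (orderOf_eq_one_iff.mp h)
    have hnepq : orderOf a ≠ p * q := fun h =>
      hnc (isCyclic_of_orderOf_eq_card a (by rw [h, Nat.card_eq_fintype_card, hA]))
    obtain ⟨d1, d2, h1, h2, h3⟩ := (Nat.dvd_mul).mp hd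
    rcases (Nat.dvd_prime hp).mp h1 with rfl | rfl <;> rcases (Nat.dvd_prime hq).mp h2 with rfl | rfl
    · exact absurd h3.symm hne1
    · right; rw [← h3, one_mul]
    · left; rw [← h3, mul_one]
    · exact absurd h3.symm hnepq
  have hprime : ∀ a : A, a ≠ 1 → (orderOf a).Prime := by
    intro a ha
    rcases hord a ha with h | h <;> rw [h] <;> assumption
  set 𝒞 := (univ.erase (1 : A)).image zpowers with h𝒞
  -- the subgroup of order `q`
  have : Fact q.Prime := ⟨hq⟩
  obtain ⟨y, hy⟩ := exists_prime_orderOf_dvd_card' (G := A) q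
    (by rw [Nat.card_eq_fintype_card, hA]; exact dvd_mul_left q p)
  have hy1 : y ≠ 1 := by
    rintro rfl
    rw [orderOf_one] at hy
    exact hq.ne_one hy.symm
  have hQ𝒞 : zpowers y ∈ 𝒞 := mem_image_of_mem _ (mem_erase.mpr ⟨hy1, mem_univ _⟩)
  have hcardC : ∀ C ∈ 𝒞, Nat.card C = p ∨ Nat.card C = q := by
    intro C hC
    obtain ⟨c, hc, rfl⟩ := mem_image.mp hC
    rw [Nat.card_zpowers]
    exact hord c (ne_of_mem_erase hc)
  have huniq : ∀ C ∈ 𝒞, Nat.card C = q → C = zpowers y := by
    intro C hC hCq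
    by_contra hne
    have hinf : C ⊓ zpowers y = ⊥ := by
      have hdvd : Nat.card (C ⊓ zpowers y : Subgroup A) ∣ q := by
        rw [← hCq]; exact Subgroup.card_dvd_of_le inf_le_left
      rcases (Nat.dvd_prime hq).mp hdvd with h | h
      · exact Subgroup.card_eq_one.mp h
      · exfalso
        apply hne
        have e1 : C ⊓ zpowers y = C :=
          Subgroup.eq_of_le_of_card_ge inf_le_left (by rw [h, hCq])
        have e2 : C ⊓ zpowers y = zpowers y :=
          Subgroup.eq_of_le_of_card_ge inf_le_right (by rw [h, Nat.card_zpowers, hy])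
        rw [← e1, e2]
    have h1 := Subgroup.index_inf_le (H := C) (K := zpowers y)
    rw [hinf, Subgroup.index_bot, Nat.card_eq_fintype_card, hA] at h1
    have h2 : C.index = p := by
      have := C.card_mul_index
      rw [hCq, Nat.card_eq_fintype_card, hA, mul_comm] at this
      exact Nat.eq_of_mul_eq_mul_right hq.pos this
    have h3 : (zpowers y).index = p := by
      have := (zpowers y).card_mul_index
      rw [Nat.card_zpowers, hy, Nat.card_eq_fintype_card, hA, mul_comm] at this
      exact Nat.eq_of_mul_eq_mul_right hq.pos this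
    rw [h2, h3] at h1
    have : q ≤ p := Nat.le_of_mul_le_mul_left h1 hp.pos
    omega
  -- count
  have hsum := sum_card_sub_one (A := A) hprime
  rw [← h𝒞, ← Finset.add_sum_erase 𝒞 _ hQ𝒞, hA, Nat.card_zpowers, hy] at hsum
  have hrest : ∀ C ∈ 𝒞.erase (zpowers y), Nat.card C - 1 = p - 1 := by
    intro C hC
    rw [mem_erase] at hC
    rcases hcardC C hC.2 with h | h
    · rw [h]
    · exact absurd (huniq C hC.2 h) hC.1
  rw [Finset.sum_congr rfl hrest, Finset.sum_const, smul_eq_mul, card_erase_of_mem hQ𝒞] at hsum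
  have hm : 𝒞.card = q + 1 := by
    have h𝒞pos : 0 < 𝒞.card := card_pos.mpr ⟨_, hQ𝒞⟩
    obtain ⟨p', rfl⟩ : ∃ p', p = p' + 1 := ⟨p - 1, by omega⟩
    obtain ⟨m', hm'⟩ : ∃ m', 𝒞.card = m' + 1 := ⟨𝒞.card - 1, by omega⟩
    rw [hm'] at hsum ⊢
    simp only [Nat.add_sub_cancel] at hsum
    have h5 : m' * p' = q * p' := by
      have : (p' + 1) * q - 1 = q - 1 + q * p' := by
        have : (p' + 1) * q = q * p' + q := by ring
        omega
      omega
    have hp' : 0 < p' := by omega
    rw [Nat.eq_of_mul_eq_mul_right hp' h5]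
  -- every element of `V` has order dividing `q`
  have hVq : ∀ v : V, v ^ q = 1 := by
    intro v
    have h := pow_card_image_zpowers hfpf hprime v
    rw [← h𝒞, hm, pow_succ] at h
    exact mul_eq_right.mp h
  obtain ⟨v, hv⟩ := exists_ne (1 : V)
  have hov : orderOf v = q := by
    rcases (Nat.dvd_prime hq).mp (orderOf_dvd_of_pow_eq_one (hVq v)) with h | h
    · exact absurd (orderOf_eq_one_iff.mp h) hv
    · exact h
  exact not_dvd_of_fpf (p := q) hfpf
    (by rw [Nat.card_eq_fintype_card, hA]; exact dvd_mul_left q p)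
    (hov ▸ orderOf_dvd_natCard v)

end Abstract


section Concrete

open Cfsg.Agent.Lib.Helper1_Coprime
open scoped IsMulCommutative

variable {G : Type*} [Group G]

/-- The concrete fixed-point-freeness hypothesis gives the abstract one for the conjugation
action. -/
theorem fpf_conjAction (A V : Subgroup G) (hAV : A ≤ normalizer (V : Set G))
    (hfpf : ∀ a ∈ A, a ≠ 1 → V ⊓ centralizer {a} = ⊥) :
    letI := conjAction A V hAV
    ∀ a : A, a ≠ 1 → ∀ v : V, a • v = v → v = 1 := by
  intro a ha v hv
  have h1 : (a : G) * v * (a : G)⁻¹ = v := congrArg Subtype.val hv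
  have h2 : (v : G) ∈ V ⊓ centralizer {(a : G)} := by
    refine mem_inf.mpr ⟨v.2, ?_⟩
    rw [mem_centralizer_singleton_iff]
    calc (v : G) * a = (a * v * (a : G)⁻¹) * a := by rw [h1]
      _ = a * v := by group
  rw [hfpf a a.2 (fun h => ha (Subtype.ext h))] at h2
  exact Subtype.ext (mem_bot.mp h2)

variable [Finite G]

/-- Fixed-point-free action forces coprime orders. -/
theorem not_dvd_card_of_fpf (A V : Subgroup G) (hAV : A ≤ normalizer (V : Set G))
    (hfpf : ∀ a ∈ A, a ≠ 1 → V ⊓ centralizer {a} = ⊥) {p : ℕ} [Fact p.Prime]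
    (hpA : p ∣ Nat.card A) : ¬ p ∣ Nat.card V := by
  let _ := conjAction A V hAV
  intro hpV
  exact not_dvd_of_fpf (A := A) (V := V) (fpf_conjAction A V hAV hfpf) hpA hpV

/-- An abelian group acting fixed-point-freely on a nontrivial group is cyclic. -/
theorem isCyclic_of_fpf_of_comm (A V : Subgroup G) (hV : V ≠ ⊥)
    (hAV : A ≤ normalizer (V : Set G)) (hfpf : ∀ a ∈ A, a ≠ 1 → V ⊓ centralizer {a} = ⊥)
    [IsMulCommutative A] : IsCyclic A := by
  by_contra hnc
  obtain ⟨p, hp, a, b, hap, hbp, ha1, hb⟩ := exists_noncyclic_pair hnc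
  have : Fact p.Prime := ⟨hp⟩
  have hpA : p ∣ Nat.card A := by
    have h1 : orderOf a = p := orderOf_eq_prime hap ha1
    rw [← h1]; exact orderOf_dvd_natCard a
  have hcop := not_dvd_card_of_fpf A V hAV hfpf hpA
  have hap' : (a : G) ^ p = 1 := by exact_mod_cast congrArg Subtype.val hap
  have hbp' : (b : G) ^ p = 1 := by exact_mod_cast congrArg Subtype.val hbp
  have hab : (b : G) * a = a * b := by exact_mod_cast congrArg Subtype.val (mul_comm b a)
  have ha1' : (a : G) ≠ 1 := fun h => ha1 (Subtype.ext h)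
  have hle := Cfsg.Agent.Lib.Helper48_Generation.le_of_centralizers_le (p := p) V hcop (b : G) (a : G)
    (hAV b.2) (hAV a.2) hbp' hap' hab ⊥ (hfpf a a.2 ha1').le (fun i => by
      refine (hfpf _ (A.mul_mem b.2 (A.pow_mem a.2 i)) ?_).le
      intro h
      apply hb
      have h2 : b = (a ^ i)⁻¹ := by
        apply Subtype.ext
        have h3 : (b : G) = ((a : G) ^ i)⁻¹ := eq_inv_of_mul_eq_one_left h
        rw [h3]
        simp
      rw [h2]
      exact (zpowers a).inv_mem ((zpowers a).pow_mem (mem_zpowers a) i))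
  exact hV (le_bot_iff.mp hle)

/-- A group of order `p * q` acting fixed-point-freely on a nontrivial abelian group is cyclic. -/
theorem isCyclic_of_fpf_of_card (A V : Subgroup G) [IsMulCommutative V] (hV : V ≠ ⊥)
    (hAV : A ≤ normalizer (V : Set G)) (hfpf : ∀ a ∈ A, a ≠ 1 → V ⊓ centralizer {a} = ⊥)
    {p q : ℕ} (hp : p.Prime) (hq : q.Prime) (hA : Nat.card A = p * q) : IsCyclic A := by
  let _ := conjAction A V hAV
  have := Fintype.ofFinite A
  have : Nontrivial V := (Subgroup.nontrivial_iff_ne_bot V).mpr hV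
  rcases lt_trichotomy p q with h | h | h
  · exact isCyclic_of_card_eq_mul_of_lt (A := A) (V := V) (fpf_conjAction A V hAV hfpf) hp hq h
      (by rw [← Nat.card_eq_fintype_card, hA])
  · subst h
    have : Fact p.Prime := ⟨hp⟩
    have : IsMulCommutative A := IsPGroup.isMulCommutative_of_card_eq_prime_sq (p := p)
      (by rw [hA, sq])
    exact isCyclic_of_fpf_of_comm A V hV hAV hfpf
  · exact isCyclic_of_card_eq_mul_of_lt (A := A) (V := V) (fpf_conjAction A V hAV hfpf) hq hp h
      (by rw [← Nat.card_eq_fintype_card, hA, mul_comm])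


/-- In a group `H` acting fixed-point-freely on `K ≠ ⊥`, a `p`-subgroup `P` of `H` has at most
one subgroup of order `p`. -/
theorem unique_subgroup_card_prime (K H : Subgroup G) (hHK : H ≤ normalizer (K : Set G))
    (hK : K ≠ ⊥) (hfpf : ∀ h ∈ H, h ≠ 1 → K ⊓ centralizer {h} = ⊥) {p : ℕ} [Fact p.Prime]
    (P : Subgroup G) (hPH : P ≤ H) (hP : IsPGroup p P)
    (B1 B2 : Subgroup G) (hB1 : B1 ≤ P) (hB2 : B2 ≤ P)
    (h1 : Nat.card B1 = p) (h2 : Nat.card B2 = p) : B1 = B2 := by
  have hp := (Fact.out : p.Prime)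
  have hB1ne : B1 ≠ ⊥ := B1.one_lt_card_iff_ne_bot.mp (by rw [h1]; exact hp.one_lt)
  obtain ⟨⟨b1, hb1⟩, hb1ne⟩ := (Subgroup.ne_bot_iff_exists_ne_one).mp hB1ne
  have hb1ne' : b1 ≠ 1 := fun h => hb1ne (Subtype.ext h)
  have hnt : Nontrivial P :=
    nontrivial_of_ne (⟨b1, hB1 hb1⟩ : P) 1 (fun h => hb1ne' (congrArg Subtype.val h))
  have hcnt : Nontrivial (Subgroup.center P) := hP.center_nontrivial
  have hpc : p ∣ Nat.card (Subgroup.center P) := by
    rcases (hP.to_subgroup (Subgroup.center P)).card_eq_or_dvd with h | h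
    · exact absurd h (Finite.one_lt_card (α := Subgroup.center P)).ne'
    · exact h
  obtain ⟨z, hz⟩ := exists_prime_orderOf_dvd_card' p hpc
  have hzord : orderOf (z : P) = p := by rw [Subgroup.orderOf_coe]; exact hz
  have hzordG : orderOf ((z : P) : G) = p := by rw [Subgroup.orderOf_coe]; exact hzord
  have hpH : p ∣ Nat.card H := by
    have h3 : p ∣ Nat.card P := by
      have h4 := orderOf_dvd_natCard (z : P)
      rwa [hzord] at h4
    exact h3.trans (Subgroup.card_dvd_of_le hPH)
  have hcop := not_dvd_card_of_fpf H K hHK hfpf hpH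
  have claim : ∀ B : Subgroup G, B ≤ P → Nat.card B = p → ((z : P) : G) ∈ B := by
    intro B hBP hB
    by_contra hzB
    have hBne : B ≠ ⊥ := B.one_lt_card_iff_ne_bot.mp (by rw [hB]; exact hp.one_lt)
    obtain ⟨⟨b, hb⟩, hbne⟩ := (Subgroup.ne_bot_iff_exists_ne_one).mp hBne
    have hbne' : b ≠ 1 := fun h => hbne (Subtype.ext h)
    have hzp : ((z : P) : G) ^ p = 1 := by
      have h4 := pow_orderOf_eq_one ((z : P) : G)
      rwa [hzordG] at h4
    have hbp : b ^ p = 1 := by
      have h3 : (⟨b, hb⟩ : B) ^ Nat.card B = 1 := pow_card_eq_one'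
      rw [hB] at h3
      simpa using congrArg Subtype.val h3
    have hcomm : ((z : P) : G) * b = b * ((z : P) : G) := by
      have h3 := (Subgroup.mem_center_iff.mp z.2 ⟨b, hBP hb⟩).symm
      exact congrArg Subtype.val h3
    have hzH : ((z : P) : G) ∈ H := hPH (z : P).2
    have hbH : b ∈ H := hPH (hBP hb)
    have hle := Cfsg.Agent.Lib.Helper48_Generation.le_of_centralizers_le (p := p) K hcop
      ((z : P) : G) b (hHK hzH) (hHK hbH) hzp hbp hcomm ⊥ (hfpf b hbH hbne').le
      (fun i => by
        refine (hfpf _ (H.mul_mem hzH (H.pow_mem hbH i)) ?_).le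
        intro h
        apply hzB
        rw [eq_inv_of_mul_eq_one_left h]
        exact B.inv_mem (B.pow_mem hb i))
    exact hK (le_bot_iff.mp hle)
  have heq : ∀ B : Subgroup G, B ≤ P → Nat.card B = p → Subgroup.zpowers ((z : P) : G) = B := by
    intro B hBP hB
    apply Subgroup.eq_of_le_of_card_ge (Subgroup.zpowers_le.mpr (claim B hBP hB))
    rw [hB, Nat.card_zpowers, hzordG]
  rw [← heq B1 hB1 h1, ← heq B2 hB2 h2]

/-- The order of `A ⊔ V` when `A` normalizes `V` and meets it trivially. -/
theorem card_sup_of_le_normalizer (A V : Subgroup G) (h : A ≤ normalizer (V : Set G))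
    (hd : A ⊓ V = ⊥) : Nat.card (A ⊔ V : Subgroup G) = Nat.card A * Nat.card V := by
  rw [← Nat.card_prod]
  symm
  apply Nat.card_congr
  have hcoe : ((A ⊔ V : Subgroup G) : Set G) = (A : Set G) * (V : Set G) :=
    coe_mul_of_left_le_normalizer_right A V h
  refine Equiv.ofBijective (fun x : A × V => ⟨(x.1 : G) * x.2,
    (A ⊔ V).mul_mem (le_sup_left (a := A) x.1.2) (le_sup_right (b := V) x.2.2)⟩) ⟨?_, ?_⟩
  · intro x y hxy
    exact Subgroup.mul_injective_of_disjoint (disjoint_iff.mpr hd) (congrArg Subtype.val hxy)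
  · rintro ⟨g, hg⟩
    have h1 : g ∈ (A : Set G) * (V : Set G) := hcoe ▸ hg
    obtain ⟨a, ha, v, hv, rfl⟩ := Set.mem_mul.mp h1
    exact ⟨(⟨a, ha⟩, ⟨v, hv⟩), rfl⟩

end Concrete

end Cfsg.Agent.Lib.Helper1_FPF
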