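import Cfsg.Agent.Lib.Helper50_CL

set_option autoImplicit false
open scoped Pointwise

namespace Cfsg.Agent.Lib.Helper50_CL2

open Cfsg.Agent.Lib.Helper50_CD Cfsg.Agent.Lib.Helper50_CL

variable {G : Type*} [Group G]

theorem isMulCommutative_sup {B₁ B₂ : Subgroup G} (h₁ : IsMulCommutative B₁)
    (h₂ : IsMulCommutative B₂) (h : B₁ ≤ Subgroup.centralizer (B₂ : Set G)) :
    IsMulCommutative (B₁ ⊔ B₂ : Subgroup G) := by
  rw [← Subgroup.le_centralizer_iff_isMulCommutative, centralizer_sup]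
  have h' : B₂ ≤ Subgroup.centralizer (B₁ : Set G) := by
    intro b hb a ha
    exact (h ha b hb).symm
  exact sup_le (le_inf (Subgroup.le_centralizer_iff_isMulCommutative.mpr h₁) h)
    (le_inf h' (Subgroup.le_centralizer_iff_isMulCommutative.mpr h₂))

theorem isMulCommutative_of_le {A B : Subgroup G} (hA : IsMulCommutative A) (h : B ≤ A) :
    IsMulCommutative B := by
  rw [← Subgroup.le_centralizer_iff_isMulCommutative] at hA ⊢
  exact h.trans (hA.trans (Subgroup.centralizer_le (by exact_mod_cast h)))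

variable [Finite G]

/-- Abelian subgroups of largest order are self-centralizing. -/
theorem centralizer_eq_of_mem_maxAbelian {A : Subgroup G} (hA : A ∈ Cfsg.maxAbelianSubgroups G) :
    Subgroup.centralizer (A : Set G) = A := by
  apply le_antisymm _ (Subgroup.le_centralizer_iff_isMulCommutative.mpr hA.1)
  intro x hx
  have hz : IsMulCommutative (Subgroup.zpowers x) := inferInstance
  have hle : Subgroup.zpowers x ≤ Subgroup.centralizer (A : Set G) := by
    rw [Subgroup.zpowers_le]; exact hx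
  have hcomm : IsMulCommutative (Subgroup.zpowers x ⊔ A : Subgroup G) :=
    isMulCommutative_sup hz hA.1 hle
  have hcard := hA.2 _ hcomm
  have : (Subgroup.zpowers x ⊔ A : Subgroup G) = A :=
    (Subgroup.eq_of_le_of_card_ge le_sup_right hcard).symm
  rw [← this]
  exact Subgroup.mem_sup_left (Subgroup.mem_zpowers x)

theorem exists_maxAbelian : (Cfsg.maxAbelianSubgroups G).Nonempty := by
  classical
  let S : Set (Subgroup G) := {A | IsMulCommutative A}
  have hfin : S.Finite := Set.toFinite S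
  have hne : S.Nonempty := ⟨⊥, by
    show IsMulCommutative (⊥ : Subgroup G)
    infer_instance⟩
  obtain ⟨A, hA, hmax⟩ := Set.exists_max_image S (fun R : Subgroup G => Nat.card R) hfin hne
  exact ⟨A, hA, fun B hB => hmax B hB⟩

/-- The main lemma on a centrally large `Q` and an abelian subgroup `A` of largest order. -/
theorem cl_sup_maxAbelian {Q A : Subgroup G} (hQ : Cfsg.IsCentrallyLarge Q)
    (hA : A ∈ Cfsg.maxAbelianSubgroups G) :
    ((Q ⊔ A : Subgroup G) : Set G) = (Q : Set G) * (A : Set G) ∧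
    Cfsg.IsCentrallyLarge (Q ⊔ A) ∧
    (Q ⊓ Subgroup.centralizer (Q : Set G)) ⊔ (Q ⊓ A) ∈ Cfsg.maxAbelianSubgroups G := by
  obtain ⟨hQ1, hQ2⟩ := centralizerLarge_of_centrallyLarge hQ
  set Z := Q ⊓ Subgroup.centralizer (Q : Set G) with hZ
  have hCA := centralizer_eq_of_mem_maxAbelian hA
  have hZQ : Z ≤ Q := inf_le_left
  have hZC : Z ≤ Subgroup.centralizer (Q : Set G) := inf_le_right
  -- `B` is abelian
  have hZab : IsMulCommutative Z := by
    rw [← Subgroup.le_centralizer_iff_isMulCommutative]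
    exact hZC.trans (Subgroup.centralizer_le (by exact_mod_cast hZQ))
  have hQAab : IsMulCommutative (Q ⊓ A : Subgroup G) := isMulCommutative_of_le hA.1 inf_le_right
  have hZcent : Z ≤ Subgroup.centralizer ((Q ⊓ A : Subgroup G) : Set G) :=
    hZC.trans (Subgroup.centralizer_le (by exact_mod_cast (inf_le_left : Q ⊓ A ≤ Q)))
  have hBab : IsMulCommutative (Z ⊔ (Q ⊓ A) : Subgroup G) := isMulCommutative_sup hZab hQAab hZcent
  have hBcard : Nat.card (Z ⊔ (Q ⊓ A) : Subgroup G) ≤ Nat.card A := hA.2 _ hBab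
  -- (*)
  have hZA : Z ⊓ (Q ⊓ A) = Z ⊓ A := by
    rw [← inf_assoc, inf_eq_left.mpr hZQ]
  have star1 : Nat.card Z * Nat.card (Q ⊓ A : Subgroup G) ≤
      Nat.card (Z ⊔ (Q ⊓ A) : Subgroup G) * Nat.card (Z ⊓ A : Subgroup G) := by
    have := card_mul_card_le Z (Q ⊓ A)
    rwa [hZA] at this
  have star : Nat.card Z * Nat.card (Q ⊓ A : Subgroup G) ≤ Nat.card A * Nat.card (Z ⊓ A : Subgroup G) :=
    star1.trans (Nat.mul_le_mul_right _ hBcard)
  -- centralizer of `Q ⊔ A`
  have hCQA : Subgroup.centralizer ((Q ⊔ A : Subgroup G) : Set G) = Z ⊓ A := by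
    rw [centralizer_sup, hCA, hQ2]
  have hm : meas (Q ⊔ A) = Nat.card (Q ⊔ A : Subgroup G) * Nat.card (Z ⊓ A : Subgroup G) := by
    rw [meas, hCQA]
  have hprod := card_mul_card_le Q A
  have hf : meas Q = Nat.card Q * Nat.card Z := by
    rw [meas, hQ2]
  have hmax := meas_le_max (Q ⊔ A)
  have hQm : meas Q = Cfsg.maxCentralizerProduct G := hQ1
  -- chain
  have chain : meas Q * Nat.card (Q ⊓ A : Subgroup G) ≤ meas (Q ⊔ A) * Nat.card (Q ⊓ A : Subgroup G) := by
    rw [hf, hm]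
    calc Nat.card Q * Nat.card Z * Nat.card (Q ⊓ A : Subgroup G)
        = Nat.card Q * (Nat.card Z * Nat.card (Q ⊓ A : Subgroup G)) := by ring
      _ ≤ Nat.card Q * (Nat.card A * Nat.card (Z ⊓ A : Subgroup G)) := Nat.mul_le_mul_left _ star
      _ = (Nat.card Q * Nat.card A) * Nat.card (Z ⊓ A : Subgroup G) := by ring
      _ ≤ (Nat.card (Q ⊔ A : Subgroup G) * Nat.card (Q ⊓ A : Subgroup G)) * Nat.card (Z ⊓ A : Subgroup G) :=
          Nat.mul_le_mul_right _ hprod
      _ = Nat.card (Q ⊔ A : Subgroup G) * Nat.card (Z ⊓ A : Subgroup G) * Nat.card (Q ⊓ A : Subgroup G) := by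
          ring
  have hge : meas Q ≤ meas (Q ⊔ A) := Nat.le_of_mul_le_mul_right chain Nat.card_pos
  have heq : meas (Q ⊔ A) = meas Q := le_antisymm (hQm ▸ hmax) hge
  -- equalities
  have e_all : Nat.card Q * (Nat.card Z * Nat.card (Q ⊓ A : Subgroup G)) =
      (Nat.card (Q ⊔ A : Subgroup G) * Nat.card (Q ⊓ A : Subgroup G)) * Nat.card (Z ⊓ A : Subgroup G) := by
    have : meas Q * Nat.card (Q ⊓ A : Subgroup G) = meas (Q ⊔ A) * Nat.card (Q ⊓ A : Subgroup G) := by
      rw [heq]
    rw [hf, hm] at this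
    calc Nat.card Q * (Nat.card Z * Nat.card (Q ⊓ A : Subgroup G))
        = Nat.card Q * Nat.card Z * Nat.card (Q ⊓ A : Subgroup G) := by ring
      _ = Nat.card (Q ⊔ A : Subgroup G) * Nat.card (Z ⊓ A : Subgroup G) * Nat.card (Q ⊓ A : Subgroup G) := this
      _ = _ := by ring
  -- sandwich
  have s1 : Nat.card Q * (Nat.card Z * Nat.card (Q ⊓ A : Subgroup G)) ≤
      Nat.card Q * (Nat.card A * Nat.card (Z ⊓ A : Subgroup G)) := Nat.mul_le_mul_left _ star
  have s2 : Nat.card Q * (Nat.card A * Nat.card (Z ⊓ A : Subgroup G)) ≤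
      (Nat.card (Q ⊔ A : Subgroup G) * Nat.card (Q ⊓ A : Subgroup G)) * Nat.card (Z ⊓ A : Subgroup G) := by
    calc Nat.card Q * (Nat.card A * Nat.card (Z ⊓ A : Subgroup G))
        = (Nat.card Q * Nat.card A) * Nat.card (Z ⊓ A : Subgroup G) := by ring
      _ ≤ _ := Nat.mul_le_mul_right _ hprod
  have t1 : Nat.card Q * (Nat.card A * Nat.card (Z ⊓ A : Subgroup G)) =
      (Nat.card (Q ⊔ A : Subgroup G) * Nat.card (Q ⊓ A : Subgroup G)) * Nat.card (Z ⊓ A : Subgroup G) :=
    le_antisymm s2 (e_all ▸ s1)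
  have t2 : Nat.card Q * (Nat.card Z * Nat.card (Q ⊓ A : Subgroup G)) =
      Nat.card Q * (Nat.card A * Nat.card (Z ⊓ A : Subgroup G)) :=
    le_antisymm s1 (by rw [t1, ← e_all])
  have u1 : Nat.card Q * Nat.card A = Nat.card (Q ⊔ A : Subgroup G) * Nat.card (Q ⊓ A : Subgroup G) := by
    have : (Nat.card Q * Nat.card A) * Nat.card (Z ⊓ A : Subgroup G) =
        (Nat.card (Q ⊔ A : Subgroup G) * Nat.card (Q ⊓ A : Subgroup G)) * Nat.card (Z ⊓ A : Subgroup G) := by
      rw [← t1]; ring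
    exact Nat.eq_of_mul_eq_mul_right Nat.card_pos this
  have u2 : Nat.card Z * Nat.card (Q ⊓ A : Subgroup G) = Nat.card A * Nat.card (Z ⊓ A : Subgroup G) :=
    Nat.eq_of_mul_eq_mul_left Nat.card_pos t2
  have u3 : Nat.card (Z ⊔ (Q ⊓ A) : Subgroup G) = Nat.card A := by
    apply le_antisymm hBcard
    have : Nat.card A * Nat.card (Z ⊓ A : Subgroup G) ≤
        Nat.card (Z ⊔ (Q ⊓ A) : Subgroup G) * Nat.card (Z ⊓ A : Subgroup G) := u2 ▸ star1
    exact Nat.le_of_mul_le_mul_right this Nat.card_pos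
  refine ⟨coe_sup_eq_mul_of_card_eq Q A u1, ?_, ?_⟩
  · rw [centrallyLarge_iff]
    refine ⟨by rw [isCentralizerLarge_iff, heq]; exact hQm, ?_⟩
    rw [hCQA]
    exact inf_le_right.trans le_sup_right
  · exact ⟨hBab, fun B hB => u3 ▸ hA.2 B hB⟩

/-- `C_{QA}(Q ∩ A) = Z(Q) A`, and `Z(Q) A` is a product set. -/
theorem cl_sup_maxAbelian_centralizer {Q A : Subgroup G} (hQ : Cfsg.IsCentrallyLarge Q)
    (hA : A ∈ Cfsg.maxAbelianSubgroups G) :
    (Q ⊔ A) ⊓ Subgroup.centralizer ((Q ⊓ A : Subgroup G) : Set G) =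
      (Q ⊓ Subgroup.centralizer (Q : Set G)) ⊔ A ∧
    (((Q ⊓ Subgroup.centralizer (Q : Set G)) ⊔ A : Subgroup G) : Set G) =
      ((Q ⊓ Subgroup.centralizer (Q : Set G) : Subgroup G) : Set G) * (A : Set G) := by
  obtain ⟨h1, -, h3⟩ := cl_sup_maxAbelian hQ hA
  set Z := Q ⊓ Subgroup.centralizer (Q : Set G) with hZ
  have hCB := centralizer_eq_of_mem_maxAbelian h3
  have hCA := centralizer_eq_of_mem_maxAbelian hA
  have hZQ : Z ≤ Q := inf_le_left
  have hZC : Z ≤ Subgroup.centralizer (Q : Set G) := inf_le_right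
  have hZcent : Z ≤ Subgroup.centralizer ((Q ⊓ A : Subgroup G) : Set G) :=
    hZC.trans (Subgroup.centralizer_le (by exact_mod_cast (inf_le_left : Q ⊓ A ≤ Q)))
  have hAcent : A ≤ Subgroup.centralizer ((Q ⊓ A : Subgroup G) : Set G) := by
    have : A ≤ Subgroup.centralizer (A : Set G) := hCA.ge
    exact this.trans (Subgroup.centralizer_le (by exact_mod_cast (inf_le_right : Q ⊓ A ≤ A)))
  have hBset : ((Z ⊔ (Q ⊓ A) : Subgroup G) : Set G) = (Z : Set G) * ((Q ⊓ A : Subgroup G) : Set G) :=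
    Subgroup.coe_mul_of_left_le_normalizer_right Z (Q ⊓ A)
      (hZcent.trans (Subgroup.centralizer_le_normalizer _))
  -- key: every element of the left side lies in `Z * A`
  have key : ∀ x, x ∈ (Q ⊔ A) ⊓ Subgroup.centralizer ((Q ⊓ A : Subgroup G) : Set G) →
      x ∈ (Z : Set G) * (A : Set G) := by
    rintro x ⟨hx1, hx2⟩
    have hx1' : x ∈ ((Q ⊔ A : Subgroup G) : Set G) := hx1
    rw [h1] at hx1'
    obtain ⟨q, hq, a, ha, rfl⟩ := hx1'
    have hq2 : q ∈ Subgroup.centralizer ((Q ⊓ A : Subgroup G) : Set G) := by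
      have : q = (q * a) * a⁻¹ := by group
      rw [this]
      exact Subgroup.mul_mem _ hx2 (Subgroup.inv_mem _ (hAcent ha))
    have hqB : q ∈ Z ⊔ (Q ⊓ A) := by
      rw [← hCB, centralizer_sup]
      refine ⟨?_, hq2⟩
      intro z hz
      exact (hZC hz q hq).symm
    have hqB' : q ∈ ((Z ⊔ (Q ⊓ A) : Subgroup G) : Set G) := hqB
    rw [hBset] at hqB'
    obtain ⟨z, hz, b, hb, rfl⟩ := hqB'
    refine ⟨z, hz, b * a, A.mul_mem hb.2 ha, ?_⟩
    simp only [mul_assoc]
  have hsub : ((Z : Set G) * (A : Set G)) ⊆ ((Z ⊔ A : Subgroup G) : Set G) := by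
    rintro _ ⟨z, hz, a, ha, rfl⟩
    exact (Z ⊔ A).mul_mem (Subgroup.mem_sup_left hz) (Subgroup.mem_sup_right ha)
  have hle : Z ⊔ A ≤ (Q ⊔ A) ⊓ Subgroup.centralizer ((Q ⊓ A : Subgroup G) : Set G) :=
    sup_le (le_inf (hZQ.trans le_sup_left) hZcent) (le_inf le_sup_right hAcent)
  constructor
  · apply le_antisymm
    · intro x hx
      exact hsub (key x hx)
    · exact hle
  · apply Set.Subset.antisymm
    · intro x hx
      exact key x (hle hx)
    · exact hsub

/-- The Thompson subgroup (abelian version) lies in every centrally large subgroup that absorbs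
abelian subgroups of largest order; in particular in the join of all centrally large subgroups. -/
theorem thompsonA_le_centrallyLargeJoin : Cfsg.thompsonSubgroupA G ≤ Cfsg.centrallyLargeJoin G := by
  apply sSup_le
  intro A hA
  have h := (cl_sup_maxAbelian (centrallyLargeJoin_isCentrallyLarge (G := G)) hA).2.1
  have : Cfsg.centrallyLargeJoin G ⊔ A ≤ Cfsg.centrallyLargeJoin G := le_sSup h
  exact le_sup_right.trans this

/-- If `T` is centrally large and contains `J(G)` then `C(Z(J(G))) ≤ T`. -/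
theorem centralizer_center_thompsonA_le {T : Subgroup G} (hT : Cfsg.IsCentrallyLarge T)
    (hJ : Cfsg.thompsonSubgroupA G ≤ T) :
    Subgroup.centralizer ((Cfsg.thompsonSubgroupA G ⊓
      Subgroup.centralizer (Cfsg.thompsonSubgroupA G : Set G) : Subgroup G) : Set G) ≤ T := by
  obtain ⟨hT1, hT2⟩ := centralizerLarge_of_centrallyLarge hT
  obtain ⟨-, hdual⟩ := cd_dual meas_le_max hT1
  obtain ⟨A, hA⟩ := exists_maxAbelian (G := G)
  have hAJ : A ≤ Cfsg.thompsonSubgroupA G := le_sSup hA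
  have hCA := centralizer_eq_of_mem_maxAbelian hA
  have h1 : Subgroup.centralizer (T : Set G) ≤ Subgroup.centralizer (Cfsg.thompsonSubgroupA G : Set G) :=
    Subgroup.centralizer_le (by exact_mod_cast hJ)
  have h2 : Subgroup.centralizer (T : Set G) ≤ Cfsg.thompsonSubgroupA G := by
    have : Subgroup.centralizer (T : Set G) ≤ Subgroup.centralizer (A : Set G) :=
      Subgroup.centralizer_le (by exact_mod_cast (hAJ.trans hJ))
    rw [hCA] at this
    exact this.trans hAJ
  have h3 : Subgroup.centralizer (T : Set G) ≤ Cfsg.thompsonSubgroupA G ⊓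
      Subgroup.centralizer (Cfsg.thompsonSubgroupA G : Set G) := le_inf h2 h1
  calc Subgroup.centralizer ((Cfsg.thompsonSubgroupA G ⊓
      Subgroup.centralizer (Cfsg.thompsonSubgroupA G : Set G) : Subgroup G) : Set G)
      ≤ Subgroup.centralizer ((Subgroup.centralizer (T : Set G) : Subgroup G) : Set G) :=
        Subgroup.centralizer_le (by exact_mod_cast h3)
    _ = T := hdual.symm

end Cfsg.Agent.Lib.Helper50_CL2
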