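import Mathlib

set_option autoImplicit false

namespace Cfsg.Agent.Lib.Helper32_PGroup

open MulAction

/-- A nontrivial normal subgroup of a finite `p`-group contains a nontrivial central element. -/
theorem exists_mem_center_of_normal {G : Type*} [Group G] [Finite G] {p : ℕ} [Fact p.Prime]
    (hG : IsPGroup p G) (N : Subgroup G) [N.Normal] (hN : N ≠ ⊥) :
    ∃ z ∈ N, z ∈ Subgroup.center G ∧ z ≠ 1 := by
  have hGc : IsPGroup p (ConjAct G) := hG.of_equiv ConjAct.toConjAct
  have hNp : IsPGroup p N := hG.to_subgroup N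
  have hdvd : p ∣ Nat.card N := by
    have : Nontrivial N := (Subgroup.nontrivial_iff_ne_bot N).mpr hN
    obtain ⟨n, hn0, hn⟩ := hNp.nontrivial_iff_card.mp this
    exact hn.symm ▸ dvd_pow_self _ (ne_of_gt hn0)
  have h1 : (1 : N) ∈ fixedPoints (ConjAct G) N := by
    intro g
    exact smul_one g
  obtain ⟨b, hb, hb1⟩ := hGc.exists_fixed_point_of_prime_dvd_card_of_fixed_point N hdvd h1
  refine ⟨b.1, b.2, ?_, ?_⟩
  · rw [Subgroup.mem_center_iff]
    intro g
    have := hb (ConjAct.toConjAct g)
    have h2 := congrArg Subtype.val this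
    rw [ConjAct.Subgroup.val_conj_smul, ConjAct.smul_def] at h2
    simp only [ConjAct.ofConjAct_toConjAct] at h2
    calc g * b.1 = g * b.1 * g⁻¹ * g := by group
      _ = b.1 * g := by rw [h2]
  · intro h
    exact hb1 (Subtype.ext h.symm)

/-- A nontrivial normal subgroup of a finite `p`-group meets the centre nontrivially. -/
theorem normal_inf_center_ne_bot {G : Type*} [Group G] [Finite G] {p : ℕ} [Fact p.Prime]
    (hG : IsPGroup p G) (N : Subgroup G) [N.Normal] (hN : N ≠ ⊥) :
    N ⊓ Subgroup.center G ≠ ⊥ := by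
  obtain ⟨z, hzN, hzc, hz1⟩ := exists_mem_center_of_normal hG N hN
  intro h
  have : z ∈ N ⊓ Subgroup.center G := ⟨hzN, hzc⟩
  rw [h, Subgroup.mem_bot] at this
  exact hz1 this

/-- A subgroup contained in the centre is normal. -/
theorem normal_of_le_center {G : Type*} [Group G] (H : Subgroup G) (h : H ≤ Subgroup.center G) :
    H.Normal := by
  constructor
  intro n hn g
  have h1 := Subgroup.mem_center_iff.mp (h hn) g
  rw [h1, mul_inv_cancel_right]
  exact hn

end Cfsg.Agent.Lib.Helper32_PGroup
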