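import Mathlib
import Cfsg.Agent.Lib.Helper32_PGroup

/-!
# Odd `p`-groups: a non-cyclic normal subgroup contains a normal elementary abelian `p²`

* `mul_pow_eq_of_comm` : class two power formula `(x*y)^n = c^(n choose 2) * x^n * y^n`.
* `Good p S z h` : `z ∈ S` central of order `p`, `h ∈ S` with `h^p = 1`, `h ∉ ⟨z⟩`, and
  all `g*h*g⁻¹*h⁻¹ ∈ ⟨z⟩`.  `Good.B = ⟨z⟩ ⊔ ⟨h⟩` is then normal, elementary abelian of order `p²`.
* `exists_good` : for `p` odd, `R` a finite `p`-group, `S` a non-cyclic normal subgroup, a good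
  pair exists in `S`.
-/

set_option autoImplicit false

namespace Cfsg.Agent.Lib.Helper20_PGroupOdd

universe u

open Subgroup

section PowerFormula
variable {G : Type*} [Group G]

/-- If `y * x = c * x * y` with `c` commuting with `x` and `y`, then `y ^ n * x = c ^ n * x * y ^ n`. -/
theorem pow_mul_eq_of_comm {x y c : G} (hc : y * x = c * x * y)
    (hcy : Commute c y) (n : ℕ) : y ^ n * x = c ^ n * x * y ^ n := by
  induction n with
  | zero => simp
  | succ n ih =>
    have h1 : y * c ^ n = c ^ n * y := ((hcy.pow_left n).eq).symm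
    calc y ^ (n + 1) * x = y * (y ^ n * x) := by rw [pow_succ', mul_assoc]
      _ = y * (c ^ n * x * y ^ n) := by rw [ih]
      _ = (y * c ^ n) * x * y ^ n := by simp only [mul_assoc]
      _ = c ^ n * (y * x) * y ^ n := by rw [h1]; simp only [mul_assoc]
      _ = c ^ n * (c * x * y) * y ^ n := by rw [hc]
      _ = c ^ (n + 1) * x * y ^ (n + 1) := by rw [pow_succ, pow_succ']; simp only [mul_assoc]

/-- Class two power formula. -/
theorem mul_pow_eq_of_comm {x y c : G} (hc : y * x = c * x * y)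
    (hcx : Commute c x) (hcy : Commute c y) (n : ℕ) :
    (x * y) ^ n = c ^ (n.choose 2) * x ^ n * y ^ n := by
  induction n with
  | zero => simp
  | succ n ih =>
    have h1 : y ^ n * x = c ^ n * x * y ^ n := pow_mul_eq_of_comm hc hcy n
    have h2 : x ^ n * c ^ n = c ^ n * x ^ n := ((hcx.pow_pow n n).eq).symm
    have h3 : (n + 1).choose 2 = n.choose 2 + n := by
      rw [Nat.choose_succ_succ' n 1, Nat.choose_one_right, add_comm]
    calc (x * y) ^ (n + 1) = (x * y) ^ n * (x * y) := pow_succ _ _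
      _ = c ^ (n.choose 2) * x ^ n * y ^ n * (x * y) := by rw [ih]
      _ = c ^ (n.choose 2) * x ^ n * (y ^ n * x) * y := by simp only [mul_assoc]
      _ = c ^ (n.choose 2) * x ^ n * (c ^ n * x * y ^ n) * y := by rw [h1]
      _ = c ^ (n.choose 2) * (x ^ n * c ^ n) * x * y ^ n * y := by simp only [mul_assoc]
      _ = c ^ (n.choose 2) * (c ^ n * x ^ n) * x * y ^ n * y := by rw [h2]
      _ = c ^ ((n + 1).choose 2) * x ^ (n + 1) * y ^ (n + 1) := by
          rw [h3, pow_add, pow_succ, pow_succ]; simp only [mul_assoc]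

/-- For an odd prime `p`, if the commutator `c` of `y, x` commutes with both and `c ^ p = 1`
then `(x * y) ^ p = x ^ p * y ^ p`. -/
theorem mul_pow_prime_of_comm {p : ℕ} (hp : p.Prime) (hp2 : p ≠ 2) {x y c : G}
    (hc : y * x = c * x * y) (hcx : Commute c x) (hcy : Commute c y) (hcp : c ^ p = 1) :
    (x * y) ^ p = x ^ p * y ^ p := by
  have h2 : 2 < p := lt_of_le_of_ne hp.two_le (Ne.symm hp2)
  obtain ⟨k, hk⟩ := hp.dvd_choose_self (by norm_num : (2 : ℕ) ≠ 0) h2
  rw [mul_pow_eq_of_comm hc hcx hcy p, hk, pow_mul, hcp, one_pow, one_mul]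

end PowerFormula


/-- The data of a central element `z` of order `p` and a further element `h` of order `p`,
both in `S`, with all commutators `[g, h]` in `⟨z⟩`. -/
def Good {R : Type*} [Group R] (p : ℕ) (S : Subgroup R) (z h : R) : Prop :=
  z ∈ S ∧ h ∈ S ∧ z ∈ Subgroup.center R ∧ orderOf z = p ∧ h ^ p = 1 ∧ h ∉ Subgroup.zpowers z ∧
  ∀ g : R, g * h * g⁻¹ * h⁻¹ ∈ Subgroup.zpowers z

section GoodLemmas
variable {R : Type*} [Group R] {p : ℕ} {S : Subgroup R} {z h : R}

theorem Good.mono {T : Subgroup R} (hg : Good p S z h) (hST : S ≤ T) : Good p T z h :=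
  ⟨hST hg.1, hST hg.2.1, hg.2.2.1, hg.2.2.2.1, hg.2.2.2.2.1, hg.2.2.2.2.2.1, hg.2.2.2.2.2.2⟩

/-- the subgroup generated by a good pair -/
def Good.B (_hg : Good p S z h) : Subgroup R := Subgroup.zpowers z ⊔ Subgroup.zpowers h

theorem Good.z_pow (hg : Good p S z h) : z ^ p = 1 := by
  have := pow_orderOf_eq_one z
  rwa [hg.2.2.2.1] at this

theorem Good.zpowers_normal (hg : Good p S z h) : (Subgroup.zpowers z).Normal :=
  Cfsg.Agent.Lib.Helper32_PGroup.normal_of_le_center _ (Subgroup.zpowers_le.mpr hg.2.2.1)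

theorem Good.mem_B_iff (hg : Good p S z h) {x : R} :
    x ∈ hg.B ↔ ∃ a ∈ Subgroup.zpowers z, ∃ b ∈ Subgroup.zpowers h, a * b = x := by
  have := hg.zpowers_normal
  exact Subgroup.mem_sup_of_normal_left

theorem Good.z_mem_B (hg : Good p S z h) : z ∈ hg.B :=
  Subgroup.mem_sup_left (Subgroup.mem_zpowers z)

theorem Good.h_mem_B (hg : Good p S z h) : h ∈ hg.B :=
  Subgroup.mem_sup_right (Subgroup.mem_zpowers h)

theorem Good.zpowers_le_B (hg : Good p S z h) : Subgroup.zpowers z ≤ hg.B := le_sup_left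

theorem Good.B_le (hg : Good p S z h) : hg.B ≤ S :=
  sup_le (Subgroup.zpowers_le.mpr hg.1) (Subgroup.zpowers_le.mpr hg.2.1)

theorem Good.B_normal (hg : Good p S z h) : hg.B.Normal := by
  constructor
  intro n hn g
  have hmap : hg.B.map (MulAut.conj g).toMonoidHom ≤ hg.B := by
    unfold Good.B
    rw [Subgroup.map_sup, MonoidHom.map_zpowers, MonoidHom.map_zpowers]
    apply sup_le
    · rw [Subgroup.zpowers_le]
      have : (MulAut.conj g).toMonoidHom z = z := by
        simp only [MulEquiv.coe_toMonoidHom, MulAut.conj_apply]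
        rw [(Subgroup.mem_center_iff.mp hg.2.2.1 g), mul_inv_cancel_right]
      rw [this]
      exact Subgroup.mem_sup_left (Subgroup.mem_zpowers z)
    · rw [Subgroup.zpowers_le]
      have : (MulAut.conj g).toMonoidHom h = (g * h * g⁻¹ * h⁻¹) * h := by
        simp only [MulEquiv.coe_toMonoidHom, MulAut.conj_apply]
        group
      rw [this]
      exact mul_mem (Subgroup.mem_sup_left (hg.2.2.2.2.2.2 g))
        (Subgroup.mem_sup_right (Subgroup.mem_zpowers h))
  have : (MulAut.conj g).toMonoidHom n ∈ hg.B.map (MulAut.conj g).toMonoidHom :=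
    Subgroup.mem_map_of_mem _ hn
  have h2 := hmap this
  simpa using h2

theorem Good.B_comm (hg : Good p S z h) : ∀ x ∈ hg.B, ∀ y ∈ hg.B, x * y = y * x := by
  intro x hx y hy
  obtain ⟨a, ha, b, hb, rfl⟩ := hg.mem_B_iff.mp hx
  obtain ⟨a', ha', b', hb', rfl⟩ := hg.mem_B_iff.mp hy
  have hac : a ∈ Subgroup.center R := (Subgroup.zpowers_le.mpr hg.2.2.1) ha
  have hac' : a' ∈ Subgroup.center R := (Subgroup.zpowers_le.mpr hg.2.2.1) ha'
  obtain ⟨i, rfl⟩ := Subgroup.mem_zpowers_iff.mp hb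
  obtain ⟨j, rfl⟩ := Subgroup.mem_zpowers_iff.mp hb'
  have h1 : h ^ i * h ^ j = h ^ j * h ^ i := by rw [← zpow_add, ← zpow_add, add_comm]
  have c1 := Subgroup.mem_center_iff.mp hac
  have c2 := Subgroup.mem_center_iff.mp hac'
  calc a * h ^ i * (a' * h ^ j) = a * (h ^ i * a') * h ^ j := by simp only [mul_assoc]
    _ = a * (a' * h ^ i) * h ^ j := by rw [c2]
    _ = (a * a') * (h ^ i * h ^ j) := by simp only [mul_assoc]
    _ = (a' * a) * (h ^ j * h ^ i) := by rw [h1, ← c1 a']
    _ = a' * (a * h ^ j) * h ^ i := by simp only [mul_assoc]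
    _ = a' * (h ^ j * a) * h ^ i := by rw [← c1]
    _ = a' * h ^ j * (a * h ^ i) := by simp only [mul_assoc]

theorem Good.B_exp (hg : Good p S z h) : ∀ x ∈ hg.B, x ^ p = 1 := by
  intro x hx
  obtain ⟨a, ha, b, hb, rfl⟩ := hg.mem_B_iff.mp hx
  have hac : a ∈ Subgroup.center R := (Subgroup.zpowers_le.mpr hg.2.2.1) ha
  have hcomm : Commute a b := (Subgroup.mem_center_iff.mp hac b).symm
  obtain ⟨i, rfl⟩ := Subgroup.mem_zpowers_iff.mp ha
  obtain ⟨j, rfl⟩ := Subgroup.mem_zpowers_iff.mp hb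
  rw [hcomm.mul_pow, ← zpow_natCast, ← zpow_mul, mul_comm, zpow_mul, zpow_natCast, hg.z_pow,
    one_zpow, one_mul, ← zpow_natCast, ← zpow_mul, mul_comm, zpow_mul, zpow_natCast, hg.2.2.2.2.1,
    one_zpow]

end GoodLemmas

section Aux
variable {R : Type*} [Group R]

/-- In a group of prime order `⟨z⟩`, a nontrivial element generates. -/
theorem zpowers_eq_of_mem_of_ne_one {p : ℕ} [Fact p.Prime] {z x : R} (hz : orderOf z = p)
    (hx : x ∈ Subgroup.zpowers z) (hx1 : x ≠ 1) : Subgroup.zpowers x = Subgroup.zpowers z := by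
  have hle : Subgroup.zpowers x ≤ Subgroup.zpowers z := Subgroup.zpowers_le.mpr hx
  have hzp : z ^ p = 1 := by rw [← hz]; exact pow_orderOf_eq_one z
  have hxp : x ^ p = 1 := by
    obtain ⟨i, rfl⟩ := Subgroup.mem_zpowers_iff.mp hx
    rw [← zpow_natCast, ← zpow_mul, mul_comm, zpow_mul, zpow_natCast, hzp, one_zpow]
  have hox : orderOf x = p := orderOf_eq_prime hxp hx1
  have hfin : Finite (Subgroup.zpowers z) := by
    have : Nat.card (Subgroup.zpowers z) = p := by rw [Nat.card_zpowers, hz]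
    exact Nat.finite_of_card_ne_zero (by rw [this]; exact (Fact.out : p.Prime).ne_zero)
  apply Subgroup.eq_of_le_of_card_ge hle
  rw [Nat.card_zpowers, Nat.card_zpowers, hz, hox]

theorem card_sup_zpowers {p : ℕ} [Fact p.Prime] {z h : R} (hzc : z ∈ Subgroup.center R)
    (hz : orderOf z = p) (hh : orderOf h = p) (hhz : h ∉ Subgroup.zpowers z) :
    Nat.card ↥(Subgroup.zpowers z ⊔ Subgroup.zpowers h) = p ^ 2 := by
  have hn : (Subgroup.zpowers z).Normal :=
    Cfsg.Agent.Lib.Helper32_PGroup.normal_of_le_center _ (Subgroup.zpowers_le.mpr hzc)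
  have hdisj : Subgroup.zpowers z ⊓ Subgroup.zpowers h = ⊥ := by
    rw [Subgroup.eq_bot_iff_forall]
    intro x hx
    by_contra hx1
    have h1 := zpowers_eq_of_mem_of_ne_one hz hx.1 hx1
    have h2 := zpowers_eq_of_mem_of_ne_one hh hx.2 hx1
    apply hhz
    rw [← h1, h2]
    exact Subgroup.mem_zpowers h
  have h1 : (Subgroup.zpowers z).relIndex (Subgroup.zpowers z ⊔ Subgroup.zpowers h) = p := by
    rw [Subgroup.relIndex_sup_left, ← Subgroup.inf_relIndex_right, hdisj,
      Subgroup.relIndex_bot_left, Nat.card_zpowers, hh]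
  have h2 := Subgroup.relIndex_mul_relIndex (⊥ : Subgroup R) (Subgroup.zpowers z)
    (Subgroup.zpowers z ⊔ Subgroup.zpowers h) bot_le le_sup_left
  rw [Subgroup.relIndex_bot_left, Subgroup.relIndex_bot_left, h1, Nat.card_zpowers, hz] at h2
  rw [← h2, sq]

end Aux

section GoodCard
variable {R : Type*} [Group R] {p : ℕ} {S : Subgroup R} {z h : R}

theorem Good.h_ne_one (hg : Good p S z h) : h ≠ 1 := by
  intro h1
  apply hg.2.2.2.2.2.1
  rw [h1]
  exact one_mem _

theorem Good.orderOf_h [Fact p.Prime] (hg : Good p S z h) : orderOf h = p :=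
  orderOf_eq_prime hg.2.2.2.2.1 hg.h_ne_one

theorem Good.card_B [Fact p.Prime] (hg : Good p S z h) : Nat.card hg.B = p ^ 2 :=
  card_sup_zpowers hg.2.2.1 hg.2.2.2.1 hg.orderOf_h hg.2.2.2.2.2.1

end GoodCard

section LemmaM
variable {R : Type u} [Group R] [Finite R] {p : ℕ} [hpf : Fact p.Prime]

omit [Finite R] in
/-- `x ↦ x ^ p` is multiplicative on a subgroup whose commutators lie in a central `⟨z⟩`
of order `p` (`p` odd). -/
theorem mul_pow_of_mem (hp2 : p ≠ 2) {z : R} (hzc : z ∈ Subgroup.center R) (hz : z ^ p = 1)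
    (A : Subgroup R)
    (hA : ∀ x ∈ A, ∀ y ∈ A, y * x * y⁻¹ * x⁻¹ ∈ Subgroup.zpowers z) {x y : R}
    (hx : x ∈ A) (hy : y ∈ A) : (x * y) ^ p = x ^ p * y ^ p := by
  have hc := hA x hx y hy
  have hcc : y * x * y⁻¹ * x⁻¹ ∈ Subgroup.center R := (Subgroup.zpowers_le.mpr hzc) hc
  have hcp : (y * x * y⁻¹ * x⁻¹) ^ p = 1 := by
    obtain ⟨i, hi⟩ := Subgroup.mem_zpowers_iff.mp hc
    rw [← hi, ← zpow_natCast, ← zpow_mul, mul_comm, zpow_mul, zpow_natCast, hz, one_zpow]
  have h1 : y * x = (y * x * y⁻¹ * x⁻¹) * x * y := by group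
  have c1 : Commute (y * x * y⁻¹ * x⁻¹) x := (Subgroup.mem_center_iff.mp hcc x).symm
  have c2 : Commute (y * x * y⁻¹ * x⁻¹) y := (Subgroup.mem_center_iff.mp hcc y).symm
  exact mul_pow_prime_of_comm hpf.out hp2 h1 c1 c2 hcp

/-- the subgroup of elements of order dividing `p` in a subgroup `A` whose commutators lie in
the central subgroup `⟨z⟩` of order `p` -/
def omegaSub (hp2 : p ≠ 2) {z : R} (hzc : z ∈ Subgroup.center R) (hz : z ^ p = 1)
    (A : Subgroup R)
    (hA : ∀ x ∈ A, ∀ y ∈ A, y * x * y⁻¹ * x⁻¹ ∈ Subgroup.zpowers z) : Subgroup R where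
  carrier := {x | x ∈ A ∧ x ^ p = 1}
  one_mem' := ⟨A.one_mem, one_pow p⟩
  inv_mem' := by
    rintro x ⟨hx, hxp⟩
    exact ⟨A.inv_mem hx, by rw [inv_pow, hxp, inv_one]⟩
  mul_mem' := by
    rintro x y ⟨hx, hxp⟩ ⟨hy, hyp⟩
    refine ⟨A.mul_mem hx hy, ?_⟩
    rw [mul_pow_of_mem hp2 hzc hz A hA hx hy, hxp, hyp, one_mul]

theorem lemmaM (hp2 : p ≠ 2) (hR : IsPGroup p R) {z : R} (hzc : z ∈ Subgroup.center R)
    (hz : orderOf z = p) (A : Subgroup R) [hAn : A.Normal] (hzA : z ∈ A)
    (hA : ∀ x ∈ A, ∀ y ∈ A, y * x * y⁻¹ * x⁻¹ ∈ Subgroup.zpowers z)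
    {h₀ : R} (h₀A : h₀ ∈ A) (h₀Z : h₀ ∉ Subgroup.zpowers z) (h₀p : h₀ ^ p = 1) :
    ∃ h : R, Good p A z h := by
  have hzp : z ^ p = 1 := by rw [← hz]; exact pow_orderOf_eq_one z
  have hZn : (Subgroup.zpowers z).Normal :=
    Cfsg.Agent.Lib.Helper32_PGroup.normal_of_le_center _ (Subgroup.zpowers_le.mpr hzc)
  set V : Subgroup R := omegaSub hp2 hzc hzp A hA with hV
  have hVmem : ∀ x, x ∈ V ↔ x ∈ A ∧ x ^ p = 1 := fun x => Iff.rfl
  have hVn : V.Normal := by
    constructor
    intro n hn g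
    rw [hVmem] at hn ⊢
    exact ⟨hAn.conj_mem n hn.1 g, by rw [conj_pow, hn.2, mul_one, mul_inv_cancel]⟩
  set f := QuotientGroup.mk' (Subgroup.zpowers z) with hf
  have hfs : Function.Surjective f := QuotientGroup.mk'_surjective _
  have : (V.map f).Normal := hVn.map f hfs
  have hne : V.map f ≠ ⊥ := by
    intro hbot
    have : f h₀ ∈ V.map f := Subgroup.mem_map_of_mem f ((hVmem h₀).mpr ⟨h₀A, h₀p⟩)
    rw [hbot, Subgroup.mem_bot] at this
    apply h₀Z
    rw [← QuotientGroup.ker_mk' (Subgroup.zpowers z)]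
    exact this
  have hQ : IsPGroup p (R ⧸ Subgroup.zpowers z) := hR.to_quotient _
  obtain ⟨w, hwV, hwc, hw1⟩ :=
    Cfsg.Agent.Lib.Helper32_PGroup.exists_mem_center_of_normal hQ (V.map f) hne
  obtain ⟨h, hhV, rfl⟩ := Subgroup.mem_map.mp hwV
  refine ⟨h, hzA, ((hVmem h).mp hhV).1, hzc, hz, ((hVmem h).mp hhV).2, ?_, ?_⟩
  · intro hhz
    apply hw1
    rw [← QuotientGroup.ker_mk' (Subgroup.zpowers z)] at hhz
    exact hhz
  · intro g
    rw [← QuotientGroup.ker_mk' (Subgroup.zpowers z), MonoidHom.mem_ker]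
    show f (g * h * g⁻¹ * h⁻¹) = 1
    rw [map_mul, map_mul, map_mul, map_inv, map_inv, Subgroup.mem_center_iff.mp hwc (f g)]
    group

end LemmaM

theorem exists_good_aux (p : ℕ) [hpf : Fact p.Prime] (hp2 : p ≠ 2) :
    ∀ (n : ℕ) (R : Type u) [Group R] [Finite R], Nat.card R = n → IsPGroup p R →
      ∀ (S : Subgroup R) [S.Normal], ¬ IsCyclic S → ∃ z h : R, Good p S z h := by
  intro n
  induction n using Nat.strong_induction_on with
  | _ n ih =>
    intro R _ _ hcard hR S hSn hS
    have hSne : S ≠ ⊥ := by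
      rintro rfl
      exact hS inferInstance
    -- a central element of order p in S
    have hne2 := Cfsg.Agent.Lib.Helper32_PGroup.normal_inf_center_ne_bot hR S hSne
    have hIp : IsPGroup p ↥(S ⊓ Subgroup.center R) := hR.to_subgroup _
    have hdvd : p ∣ Nat.card ↥(S ⊓ Subgroup.center R) := by
      have : Nontrivial ↥(S ⊓ Subgroup.center R) := (Subgroup.nontrivial_iff_ne_bot _).mpr hne2
      obtain ⟨m, hm0, hm⟩ := hIp.nontrivial_iff_card.mp this
      exact hm.symm ▸ dvd_pow_self _ (ne_of_gt hm0)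
    obtain ⟨z', hz'⟩ := exists_prime_orderOf_dvd_card' p hdvd
    obtain ⟨z, hzI⟩ := z'
    have hz : orderOf z = p := by
      rw [← hz']; exact (Subgroup.orderOf_mk z hzI).symm
    have hzS : z ∈ S := hzI.1
    have hzc : z ∈ Subgroup.center R := hzI.2
    have hzp : z ^ p = 1 := by rw [← hz]; exact pow_orderOf_eq_one z
    have hZn : (Subgroup.zpowers z).Normal :=
      Cfsg.Agent.Lib.Helper32_PGroup.normal_of_le_center _ (Subgroup.zpowers_le.mpr hzc)
    have hZS : Subgroup.zpowers z ≤ S := Subgroup.zpowers_le.mpr hzS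
    have hZcard : Nat.card (Subgroup.zpowers z) = p := by rw [Nat.card_zpowers, hz]
    set f := QuotientGroup.mk' (Subgroup.zpowers z) with hf
    have hfs : Function.Surjective f := QuotientGroup.mk'_surjective _
    have hker : ∀ x : R, f x = 1 ↔ x ∈ Subgroup.zpowers z := by
      intro x
      rw [← MonoidHom.mem_ker, QuotientGroup.ker_mk']
    have hSbn : (S.map f).Normal := hSn.map f hfs
    have hQ : IsPGroup p (R ⧸ Subgroup.zpowers z) := hR.to_quotient _
    have hQcard : Nat.card (R ⧸ Subgroup.zpowers z) < n := by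
      have h1 := Subgroup.card_eq_card_quotient_mul_card_subgroup (Subgroup.zpowers z)
      rw [hZcard, hcard] at h1
      have hpos : 0 < Nat.card (R ⧸ Subgroup.zpowers z) := Nat.card_pos
      have h2 : 2 ≤ p := hpf.out.two_le
      nlinarith
    by_cases hc : IsCyclic ↥(S.map f)
    · -- Case A : S is abelian
      have hScomm : IsMulCommutative S := by
        apply (f.subgroupMap S).isMulCommutative_of_isCyclic_of_ker_le_center
        intro s hs
        rw [MonoidHom.mem_ker] at hs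
        have hs' : f s.1 = 1 := congrArg Subtype.val hs
        rw [hker] at hs'
        have hsc : s.1 ∈ Subgroup.center R := (Subgroup.zpowers_le.mpr hzc) hs'
        rw [Subgroup.mem_center_iff]
        intro t
        exact Subtype.ext (Subgroup.mem_center_iff.mp hsc t.1)
      have hScomm' : ∀ x ∈ S, ∀ y ∈ S, x * y = y * x := by
        intro x hx y hy
        have := hScomm.is_comm.comm ⟨x, hx⟩ ⟨y, hy⟩
        exact congrArg Subtype.val this
      obtain ⟨gbar, hgbar⟩ := IsCyclic.exists_generator (α := ↥(S.map f))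
      obtain ⟨g, hgS, hg⟩ := Subgroup.mem_map.mp gbar.2
      have hSle : S ≤ Subgroup.zpowers g ⊔ Subgroup.zpowers z := by
        intro s hs
        obtain ⟨k, hk⟩ := Subgroup.mem_zpowers_iff.mp (hgbar ⟨f s, Subgroup.mem_map_of_mem f hs⟩)
        have hk' : f (g ^ k) = f s := by
          have := congrArg Subtype.val hk
          rw [map_zpow, hg]
          simpa using this
        have hmem : (g ^ k)⁻¹ * s ∈ Subgroup.zpowers z := by
          rw [← hker, map_mul, map_inv, hk', inv_mul_cancel]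
        have : s = g ^ k * ((g ^ k)⁻¹ * s) := by group
        rw [this]
        exact mul_mem (Subgroup.mem_sup_left (Subgroup.zpow_mem_zpowers g k))
          (Subgroup.mem_sup_right hmem)
      have hzg : z ∉ Subgroup.zpowers g := by
        intro hzg
        have h1 : S ≤ Subgroup.zpowers g :=
          hSle.trans (sup_le le_rfl (Subgroup.zpowers_le.mpr hzg))
        have h2 : S = Subgroup.zpowers g := le_antisymm h1 (Subgroup.zpowers_le.mpr hgS)
        apply hS
        rw [h2]
        infer_instance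
      obtain ⟨k, hk⟩ := (IsPGroup.iff_orderOf.mp hR) g
      have hk0 : k ≠ 0 := by
        rintro rfl
        rw [pow_zero, orderOf_eq_one_iff] at hk
        rw [hk, Subgroup.zpowers_one_eq_bot, bot_sup_eq] at hSle
        have h2 : S = Subgroup.zpowers z := le_antisymm hSle hZS
        exact hS (by rw [h2]; infer_instance)
      obtain ⟨k', rfl⟩ := Nat.exists_eq_succ_of_ne_zero hk0
      have h₀p : (g ^ (p ^ k')) ^ p = 1 := by
        rw [← pow_mul, ← pow_succ, ← hk]; exact pow_orderOf_eq_one g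
      have h₀1 : g ^ (p ^ k') ≠ 1 := by
        intro h1
        have := orderOf_dvd_of_pow_eq_one h1
        rw [hk] at this
        have h3 := Nat.le_of_dvd (pow_pos hpf.out.pos _) this
        have h4 : p ^ k' < p ^ (k' + 1) := Nat.pow_lt_pow_right hpf.out.one_lt (Nat.lt_succ_self _)
        exact absurd h3 (not_le.mpr h4)
      have h₀Z : g ^ (p ^ k') ∉ Subgroup.zpowers z := by
        intro hmem
        have := zpowers_eq_of_mem_of_ne_one hz hmem h₀1
        apply hzg
        have hz' : z ∈ Subgroup.zpowers (g ^ (p ^ k')) := by rw [this]; exact Subgroup.mem_zpowers z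
        exact (Subgroup.zpowers_le.mpr (Subgroup.npow_mem_zpowers g _)) hz'
      have hA : ∀ x ∈ S, ∀ y ∈ S, y * x * y⁻¹ * x⁻¹ ∈ Subgroup.zpowers z := by
        intro x hx y hy
        rw [hScomm' y hy x hx, mul_inv_cancel_right, mul_inv_cancel]
        exact one_mem _
      obtain ⟨h, hgood⟩ := lemmaM hp2 hR hzc hz S hzS hA (S.pow_mem hgS _) h₀Z h₀p
      exact ⟨z, h, hgood⟩
    · -- Case B
      obtain ⟨zb, hb, hgood⟩ := ih _ hQcard (R ⧸ Subgroup.zpowers z) rfl hQ (S.map f) hc
      have hBn : hgood.B.Normal := hgood.B_normal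
      set A : Subgroup R := hgood.B.comap f with hAdef
      have hAn : A.Normal := hBn.comap f
      have hzA : z ∈ A := by
        rw [hAdef, Subgroup.mem_comap, (hker z).mpr (Subgroup.mem_zpowers z)]
        exact one_mem _
      have hAS : A ≤ S := by
        intro x hx
        have h1 : f x ∈ S.map f := hgood.B_le hx
        obtain ⟨s, hs, hsx⟩ := Subgroup.mem_map.mp h1
        have hmem : s⁻¹ * x ∈ Subgroup.zpowers z := by
          rw [← hker, map_mul, map_inv, hsx, inv_mul_cancel]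
        have : x = s * (s⁻¹ * x) := by group
        rw [this]
        exact S.mul_mem hs (hZS hmem)
      have hA : ∀ x ∈ A, ∀ y ∈ A, y * x * y⁻¹ * x⁻¹ ∈ Subgroup.zpowers z := by
        intro x hx y hy
        rw [← hker, map_mul, map_mul, map_mul, map_inv, map_inv, hgood.B_comm (f y) hy (f x) hx,
          mul_inv_cancel_right, mul_inv_cancel]
      have hApow : ∀ x ∈ A, x ^ p ∈ Subgroup.zpowers z := by
        intro x hx
        rw [← hker, map_pow, hgood.B_exp (f x) hx]
      -- pigeonhole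
      have hex : ∃ h₀ ∈ A, h₀ ∉ Subgroup.zpowers z ∧ h₀ ^ p = 1 := by
        let r : ↥hgood.B → R := fun b => (hfs b.1).choose
        have hr : ∀ b : ↥hgood.B, f (r b) = b.1 := fun b => (hfs b.1).choose_spec
        have hrA : ∀ b : ↥hgood.B, r b ∈ A := by
          intro b
          rw [hAdef, Subgroup.mem_comap, hr b]
          exact b.2
        let φ : ↥hgood.B → ↥(Subgroup.zpowers z) := fun b => ⟨(r b) ^ p, hApow _ (hrA b)⟩
        have hninj : ¬ Function.Injective φ := by
          intro hinj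
          have h1 := Nat.card_le_card_of_injective φ hinj
          rw [hgood.card_B, hZcard] at h1
          have h2 : 2 ≤ p := hpf.out.two_le
          nlinarith
        rw [Function.Injective] at hninj
        push Not at hninj
        obtain ⟨b₁, b₂, hφ, hne⟩ := hninj
        have hxy : (r b₁) ^ p = (r b₂) ^ p := congrArg Subtype.val hφ
        refine ⟨r b₁ * (r b₂)⁻¹, A.mul_mem (hrA b₁) (A.inv_mem (hrA b₂)), ?_, ?_⟩
        · intro hmem
          rw [← hker, map_mul, map_inv, hr, hr, mul_inv_eq_one] at hmem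
          exact hne (Subtype.ext hmem)
        · rw [mul_pow_of_mem hp2 hzc hzp A hA (hrA b₁) (A.inv_mem (hrA b₂)), inv_pow, hxy,
            mul_inv_cancel]
      obtain ⟨h₀, h₀A, h₀Z, h₀p⟩ := hex
      obtain ⟨h, hgood'⟩ := lemmaM hp2 hR hzc hz A hzA hA h₀A h₀Z h₀p
      exact ⟨z, h, hgood'.mono hAS⟩

/-- **Main lemma.**  For `p` odd, a non-cyclic normal subgroup `S` of a finite `p`-group `R`
contains a good pair. -/
theorem exists_good {R : Type u} [Group R] [Finite R] {p : ℕ} [Fact p.Prime] (hp2 : p ≠ 2)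
    (hR : IsPGroup p R) (S : Subgroup R) [S.Normal] (hS : ¬ IsCyclic S) :
    ∃ z h : R, Good p S z h :=
  exists_good_aux p hp2 (Nat.card R) R rfl hR S hS

/-- For `p` odd, a non-cyclic normal subgroup `S` of a finite `p`-group `R` contains a normal
subgroup of `R` which is abelian of exponent `p` and order `p²`. -/
theorem exists_normal_rank_two {R : Type u} [Group R] [Finite R] {p : ℕ} [Fact p.Prime]
    (hp2 : p ≠ 2) (hR : IsPGroup p R) (S : Subgroup R) [S.Normal] (hS : ¬ IsCyclic S) :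
    ∃ A : Subgroup R, A ≤ S ∧ A.Normal ∧ (∀ x ∈ A, ∀ y ∈ A, x * y = y * x) ∧
      (∀ x ∈ A, x ^ p = 1) ∧ Nat.card A = p ^ 2 := by
  obtain ⟨z, h, hg⟩ := exists_good hp2 hR S hS
  exact ⟨hg.B, hg.B_le, hg.B_normal, hg.B_comm, hg.B_exp, hg.card_B⟩

end Cfsg.Agent.Lib.Helper20_PGroupOdd
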