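import Mathlib.GroupTheory.SpecificGroups.Cyclic
import Mathlib.GroupTheory.SpecificGroups.Dihedral
import Mathlib.GroupTheory.PGroup
import Mathlib.GroupTheory.Sylow
import Mathlib.GroupTheory.IndexNormal

/-!
Helper lemmas on finite 2-groups (helper54):
* `isCyclic_of_unique_involution`: a finite commutative 2-group with at most one involution is cyclic;
* `nonempty_mulEquiv_dihedralGroup`: recognition of dihedral groups from generators.
-/

set_option autoImplicit false

namespace Cfsg.Agent.Lib.Helper54_TwoGroups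

open Finset in
/-- A finite commutative `2`-group with at most one involution is cyclic. -/
theorem isCyclic_of_unique_involution {N : Type*} [CommGroup N] [Finite N] (hN : IsPGroup 2 N)
    (h : ∀ a b : N, a ^ 2 = 1 → b ^ 2 = 1 → a ≠ 1 → b ≠ 1 → a = b) : IsCyclic N := by
  classical
  have : Fintype N := Fintype.ofFinite N
  -- the 2-torsion has at most two elements
  have hT : #{a : N | a ^ 2 = 1} ≤ 2 := by
    have h1 : #(({a : N | a ^ 2 = 1} : Finset N).erase 1) ≤ 1 := by
      rw [Finset.card_le_one]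
      intro a ha b hb
      simp only [mem_erase, mem_filter, mem_univ, true_and] at ha hb
      exact h a b ha.2 hb.2 ha.1 hb.1
    have := Finset.card_erase_add_one (s := ({a : N | a ^ 2 = 1} : Finset N)) (a := 1)
      (by simp)
    omega
  -- the 2^j-torsion has at most 2^j elements
  have key : ∀ j : ℕ, #{a : N | a ^ (2 ^ j) = 1} ≤ 2 ^ j := by
    intro j
    induction j with
    | zero =>
      simp only [pow_zero, pow_one]
      rw [Finset.card_le_one]
      intro a ha b hb
      simp only [mem_filter, mem_univ, true_and] at ha hb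
      rw [ha, hb]
    | succ j ih =>
      have hmaps : ∀ a ∈ ({a : N | a ^ (2 ^ (j + 1)) = 1} : Finset N),
          a ^ 2 ∈ ({a : N | a ^ (2 ^ j) = 1} : Finset N) := by
        intro a ha
        simp only [mem_filter, mem_univ, true_and] at ha ⊢
        rw [← pow_mul, ← pow_succ']
        exact ha
      have hfib : ∀ b ∈ ({a : N | a ^ (2 ^ j) = 1} : Finset N),
          #{a ∈ ({a : N | a ^ (2 ^ (j + 1)) = 1} : Finset N) | a ^ 2 = b} ≤ 2 := by
        intro b _
        by_cases hne : ({a ∈ ({a : N | a ^ (2 ^ (j + 1)) = 1} : Finset N) | a ^ 2 = b}).Nonempty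
        · obtain ⟨a₀, ha₀⟩ := hne
          simp only [mem_filter, mem_univ, true_and] at ha₀
          refine le_trans ?_ hT
          apply Finset.card_le_card_of_injOn (fun a => a * a₀⁻¹)
          · intro a ha
            simp only [coe_filter, mem_filter, mem_univ, true_and, Set.mem_ofPred_eq] at ha ⊢
            rw [mul_pow, inv_pow, ha.2, ha₀.2, mul_inv_cancel]
          · intro a _ a' _ haa
            exact mul_right_cancel haa
        · rw [Finset.not_nonempty_iff_eq_empty] at hne
          rw [hne]; simp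
      calc #{a : N | a ^ (2 ^ (j + 1)) = 1}
          ≤ 2 * #{a : N | a ^ (2 ^ j) = 1} :=
            Finset.card_le_mul_card_image_of_maps_to hmaps 2 hfib
        _ ≤ 2 * 2 ^ j := Nat.mul_le_mul_left 2 ih
        _ = 2 ^ (j + 1) := by ring
  apply isCyclic_of_card_pow_eq_one_le
  intro n hn
  obtain ⟨k, hk⟩ := (IsPGroup.iff_card.1 hN)
  obtain ⟨j, _, hj⟩ := (Nat.dvd_prime_pow Nat.prime_two).1 (Nat.gcd_dvd_right n (2 ^ k))
  calc #{a : N | a ^ n = 1} ≤ #{a : N | a ^ (2 ^ j) = 1} := by
        apply Finset.card_le_card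
        intro a ha
        simp only [mem_filter, mem_univ, true_and] at ha ⊢
        rw [← hj]
        refine pow_gcd_eq_one.2 ⟨ha, ?_⟩
        rw [← hk]
        exact pow_card_eq_one'
    _ ≤ 2 ^ j := key j
    _ = Nat.gcd n (2 ^ k) := hj.symm
    _ ≤ n := Nat.gcd_le_left _ hn

section Dihedral

variable {G : Type*} [Group G]

/-- Powers of `c` indexed by `ZMod n`. -/
def zmodPow (c : G) (n : ℕ) (i : ZMod n) : G := c ^ (ZMod.cast i : ℤ)

theorem zpow_eq_of_intCast_eq {c : G} {n : ℕ} (hc : c ^ n = 1) {a b : ℤ}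
    (hab : (a : ZMod n) = (b : ZMod n)) : c ^ a = c ^ b := by
  rw [zpow_eq_zpow_iff_modEq]
  exact Int.ModEq.of_dvd (Int.natCast_dvd_natCast.2 (orderOf_dvd_of_pow_eq_one hc))
    ((ZMod.intCast_eq_intCast_iff a b n).1 hab)

theorem zmodPow_intCast {c : G} {n : ℕ} (hc : c ^ n = 1) (a : ℤ) :
    zmodPow c n (a : ZMod n) = c ^ a :=
  zpow_eq_of_intCast_eq hc (by rw [ZMod.intCast_zmod_cast])

theorem zmodPow_zero {c : G} {n : ℕ} (hc : c ^ n = 1) : zmodPow c n 0 = 1 := by
  have := zmodPow_intCast hc 0
  simpa using this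

theorem zmodPow_add {c : G} {n : ℕ} (hc : c ^ n = 1) (i j : ZMod n) :
    zmodPow c n (i + j) = zmodPow c n i * zmodPow c n j := by
  unfold zmodPow
  rw [← zpow_add]
  apply zpow_eq_of_intCast_eq hc
  simp

theorem zmodPow_neg {c : G} {n : ℕ} (hc : c ^ n = 1) (i : ZMod n) :
    zmodPow c n (-i) = (zmodPow c n i)⁻¹ := by
  unfold zmodPow
  rw [← zpow_neg]
  apply zpow_eq_of_intCast_eq hc
  simp

theorem zmodPow_sub {c : G} {n : ℕ} (hc : c ^ n = 1) (i j : ZMod n) :
    zmodPow c n (i - j) = zmodPow c n i * (zmodPow c n j)⁻¹ := by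
  rw [sub_eq_add_neg, zmodPow_add hc, zmodPow_neg hc]

theorem zmodPow_mem_zpowers (c : G) (n : ℕ) (i : ZMod n) : zmodPow c n i ∈ Subgroup.zpowers c :=
  ⟨_, rfl⟩

theorem zmodPow_eq_one_iff {c : G} {n : ℕ} (hc : orderOf c = n) (i : ZMod n) :
    zmodPow c n i = 1 ↔ i = 0 := by
  constructor
  · intro h
    unfold zmodPow at h
    rw [← zpow_zero c, zpow_eq_zpow_iff_modEq, hc, ← ZMod.intCast_eq_intCast_iff,
      ZMod.intCast_zmod_cast] at h
    simpa using h
  · rintro rfl
    exact zmodPow_zero (by rw [← hc]; exact pow_orderOf_eq_one c)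

/-- conjugation by an inverting element inverts all `ZMod`-indexed powers -/
theorem conj_zmodPow {c x : G} {n : ℕ} (hxc : x * c * x⁻¹ = c⁻¹) (i : ZMod n) :
    x * zmodPow c n i * x⁻¹ = (zmodPow c n i)⁻¹ := by
  unfold zmodPow
  have h : ∀ k : ℤ, x * c ^ k * x⁻¹ = (c ^ k)⁻¹ := by
    intro k
    have := (MulAut.conj x).toMonoidHom.map_zpow c k
    simp only [MulEquiv.coe_toMonoidHom, MulAut.conj_apply] at this
    rw [this, hxc, inv_zpow]
  exact h _

/-- The homomorphism from the dihedral group determined by a rotation `c` and a reflection `x`. -/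
def dihedralHom (n : ℕ) (c x : G) (hc : c ^ n = 1) (hx2 : x * x = 1) (hxc : x * c * x⁻¹ = c⁻¹) :
    DihedralGroup n →* G where
  toFun
    | DihedralGroup.r i => zmodPow c n i
    | DihedralGroup.sr i => x * zmodPow c n i
  map_one' := by
    rw [DihedralGroup.one_def]
    exact zmodPow_zero hc
  map_mul' := by
    have hxinv : x⁻¹ = x := inv_eq_of_mul_eq_one_left hx2
    have hcomm : ∀ i : ZMod n, zmodPow c n i * x = x * (zmodPow c n i)⁻¹ := by
      intro i
      have := conj_zmodPow (n := n) hxc i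
      rw [hxinv] at this
      calc zmodPow c n i * x = x * (x * zmodPow c n i * x) := by
            rw [← mul_assoc, ← mul_assoc, hx2, one_mul]
        _ = x * (zmodPow c n i)⁻¹ := by rw [this]
    rintro (i | i) (j | j)
    · simp only [DihedralGroup.r_mul_r]
      exact zmodPow_add hc i j
    · simp only [DihedralGroup.r_mul_sr]
      rw [zmodPow_sub hc, ← mul_assoc (zmodPow c n i), hcomm i, mul_assoc,
        mul_comm_of_zpowers]
    · simp only [DihedralGroup.sr_mul_r]
      rw [zmodPow_add hc, mul_assoc]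
    · simp only [DihedralGroup.sr_mul_sr]
      rw [zmodPow_sub hc, mul_assoc, ← mul_assoc (zmodPow c n i), hcomm i, mul_assoc x,
        ← mul_assoc x x, hx2, one_mul, mul_comm_of_zpowers]
where
  mul_comm_of_zpowers {i j : ZMod n} :
      (zmodPow c n i)⁻¹ * zmodPow c n j = zmodPow c n j * (zmodPow c n i)⁻¹ := by
    unfold zmodPow
    rw [← zpow_neg, ← zpow_add, ← zpow_add, add_comm]

theorem dihedralHom_injective (n : ℕ) (c x : G) (hc : orderOf c = n) (hx2 : x * x = 1)
    (hxc : x * c * x⁻¹ = c⁻¹) (hxn : x ∉ Subgroup.zpowers c) :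
    Function.Injective (dihedralHom n c x (by rw [← hc]; exact pow_orderOf_eq_one c) hx2 hxc) := by
  rw [injective_iff_map_eq_one]
  rintro (i | i) h
  · change zmodPow c n i = 1 at h
    rw [zmodPow_eq_one_iff hc] at h
    rw [h, DihedralGroup.one_def]
  · exfalso
    change x * zmodPow c n i = 1 at h
    apply hxn
    have : x = (zmodPow c n i)⁻¹ := eq_inv_of_mul_eq_one_left h
    rw [this]
    exact (Subgroup.zpowers c).inv_mem (zmodPow_mem_zpowers c n i)

/-- **Recognition of dihedral groups**: a finite group of order `2 n` containing an element `c` of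
order `n` and an element `x ∉ ⟨c⟩` with `x² = 1` and `x c x⁻¹ = c⁻¹` is isomorphic to
`DihedralGroup n`. -/
theorem nonempty_mulEquiv_dihedralGroup [Finite G] (n : ℕ) (c x : G) (hc : orderOf c = n)
    (hx2 : x * x = 1) (hxc : x * c * x⁻¹ = c⁻¹) (hxn : x ∉ Subgroup.zpowers c)
    (hcard : Nat.card G = 2 * n) : Nonempty (G ≃* DihedralGroup n) := by
  have hinj := dihedralHom_injective n c x hc hx2 hxc hxn
  have hbij : Function.Bijective
      (dihedralHom n c x (by rw [← hc]; exact pow_orderOf_eq_one c) hx2 hxc) :=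
    hinj.bijective_of_nat_card_le (by rw [hcard, DihedralGroup.nat_card])
  exact ⟨(MulEquiv.ofBijective _ hbij).symm⟩

end Dihedral

end Cfsg.Agent.Lib.Helper54_TwoGroups
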