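import Cfsg.Agent.Lib.Helper50_UniqueInv
import Cfsg.Agent.Lib.Helper54_TwoGroups
import Cfsg.Agent.S0015

/-!
# A finite 2-group with a unique involution is cyclic or generalized quaternion (helper50)
-/

set_option autoImplicit false

namespace Cfsg.Agent.Lib.Helper50_UniqueInv2

open Cfsg.Agent.Lib.Helper50_UniqueInv

variable {P : Type*} [Group P] [Finite P]

/-- existence of a maximal normal abelian subgroup -/
theorem exists_max_normal_abelian :
    ∃ A : Subgroup P, A.Normal ∧ IsMulCommutative A ∧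
      ∀ M : Subgroup P, M.Normal → IsMulCommutative M → A ≤ M → M = A := by
  let S : Set (Subgroup P) := {M | M.Normal ∧ IsMulCommutative M}
  have hne : S.Nonempty := ⟨⊥, inferInstance, inferInstance⟩
  obtain ⟨A, hA, hmax⟩ := Set.exists_max_image S (fun M : Subgroup P => Nat.card M)
    (Set.toFinite S) hne
  refine ⟨A, hA.1, hA.2, ?_⟩
  intro M hM1 hM2 hle
  exact (Subgroup.eq_of_le_of_card_ge hle (hmax M ⟨hM1, hM2⟩)).symm

open scoped IsMulCommutative in
theorem isCyclic_of_abelian (huniq : UniqueInvolution P) (hP : IsPGroup 2 P)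
    (A : Subgroup P) [IsMulCommutative A] : IsCyclic A := by
  apply Cfsg.Agent.Lib.Helper54_TwoGroups.isCyclic_of_unique_involution (hP.to_subgroup A)
  intro a b ha hb ha1 hb1
  apply Subtype.ext
  apply huniq (a : P) (b : P)
  · exact congrArg Subtype.val ha
  · exact congrArg Subtype.val hb
  · intro h; exact ha1 (Subtype.ext h)
  · intro h; exact hb1 (Subtype.ext h)

/-- A finite `2`-group with a unique involution is cyclic or generalized quaternion. -/
theorem isCyclic_or_quaternion (hP : IsPGroup 2 P) (huniq : UniqueInvolution P) :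
    IsCyclic P ∨ ∃ k : ℕ, 1 ≤ k ∧ Nonempty (P ≃* QuaternionGroup (2 ^ k)) := by
  obtain ⟨A, hAn, hAc, hmax⟩ := exists_max_normal_abelian (P := P)
  have := hAn
  have := hAc
  have : Group.IsNilpotent P := hP.isNilpotent
  have hcent : Subgroup.centralizer (A : Set P) = A := Cfsg.Agent.S0015.result A hmax
  have hAcyc : IsCyclic A := isCyclic_of_abelian huniq hP A
  have hA : IsPGroup 2 A := hP.to_subgroup A
  rcases eq_top_or_index_eq_two hP huniq A hcent.le with htop | hidx
  · left
    have e : A ≃* P := htop ▸ Subgroup.topEquiv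
    exact isCyclic_of_surjective e e.surjective
  · right
    -- an element outside `A`
    have hne : A ≠ ⊤ := by
      intro h
      rw [h, Subgroup.index_top] at hidx
      norm_num at hidx
    obtain ⟨y, -, hyA⟩ := SetLike.exists_of_lt (lt_of_le_of_ne le_top hne)
    have hy2 : y ^ 2 ∈ A := Subgroup.sq_mem_of_index_two hidx y
    have hnc : ∃ c ∈ A, y * c * y⁻¹ ≠ c := by
      by_contra hno
      push Not at hno
      apply hyA
      rw [← hcent, Subgroup.mem_centralizer_iff]
      intro h hh
      have := hno h hh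
      calc h * y = (y * h * y⁻¹) * y := by rw [this]
        _ = y * h := by group
    obtain ⟨hy21, hy4, hyinv⟩ := inverts_of_sq_mem huniq A hA y hyA hy2 hnc
    -- a generator of `A`
    obtain ⟨a, ha⟩ := IsCyclic.exists_generator (α := A)
    have hord : orderOf a = Nat.card A := orderOf_eq_card_of_forall_mem_zpowers ha
    obtain ⟨m, hm⟩ := hA.exists_card_eq
    -- `m ≥ 2`
    obtain ⟨c, hcA, hc⟩ := hnc
    have hc2 : c ^ 2 ≠ 1 := by
      intro h
      apply hc
      rw [hyinv c hcA]
      rw [pow_two] at h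
      exact (eq_inv_of_mul_eq_one_left h).symm
    have hm2 : 2 ≤ m := by
      by_contra hlt
      have hle : m ≤ 1 := by omega
      have hdvd : Nat.card A ∣ 2 := by
        rw [hm]
        calc 2 ^ m ∣ 2 ^ 1 := pow_dvd_pow 2 hle
          _ = 2 := pow_one 2
      have : (⟨c, hcA⟩ : A) ^ Nat.card A = 1 := pow_card_eq_one'
      obtain ⟨t, ht⟩ := hdvd
      have h2 : (⟨c, hcA⟩ : A) ^ 2 = 1 := by
        rw [ht, pow_mul, this, one_pow]
      exact hc2 (congrArg Subtype.val h2)
    refine ⟨m - 1, by omega, ?_⟩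
    have hcardA : Nat.card A = 2 * 2 ^ (m - 1) := by
      rw [hm, ← pow_succ']; congr 1; omega
    have hordP : orderOf (a : P) = 2 * 2 ^ (m - 1) := by
      rw [Subgroup.orderOf_coe, hord, hcardA]
    have hcardP : Nat.card P = 4 * 2 ^ (m - 1) := by
      rw [← Subgroup.card_mul_index A, hidx, hcardA]; ring
    have hn2 : 2 ≤ 2 ^ (m - 1) := by
      calc 2 = 2 ^ 1 := (pow_one 2).symm
        _ ≤ 2 ^ (m - 1) := Nat.pow_le_pow_right (by norm_num) (by omega)
    -- `y² = a ^ n`
    have han1 : (a : P) ^ (2 ^ (m - 1)) ≠ 1 := by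
      intro h
      have := orderOf_dvd_of_pow_eq_one h
      rw [hordP] at this
      have h3 := Nat.le_of_dvd (by positivity) this
      omega
    have han2 : ((a : P) ^ (2 ^ (m - 1))) ^ 2 = 1 := by
      rw [← pow_mul, mul_comm, ← hordP]; exact pow_orderOf_eq_one _
    have hy22 : (y ^ 2) ^ 2 = 1 := by rw [← pow_mul]; exact hy4
    have hyx : y ^ 2 = (a : P) ^ (2 ^ (m - 1)) := huniq _ _ hy22 han2 hy21 han1
    exact nonempty_mulEquiv_quaternionGroup (2 ^ (m - 1)) (a : P) hn2 y hordP hyx
      (hyinv a a.2) hcardP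

/-- Version with the hypothesis on subgroups of order `2`. -/
theorem uniqueInvolution_of_subgroups
    (h : ∀ H K : Subgroup P, Nat.card H = 2 → Nat.card K = 2 → H = K) : UniqueInvolution P := by
  intro u v hu hv hu1 hv1
  have hou : orderOf u = 2 := orderOf_eq_prime hu hu1
  have hov : orderOf v = 2 := orderOf_eq_prime hv hv1
  have h1 : Nat.card (Subgroup.zpowers u) = 2 := by rw [Nat.card_zpowers, hou]
  have h2 : Nat.card (Subgroup.zpowers v) = 2 := by rw [Nat.card_zpowers, hov]
  have h3 := h _ _ h1 h2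
  have h4 : u ∈ Subgroup.zpowers v := h3 ▸ Subgroup.mem_zpowers u
  rw [Subgroup.mem_zpowers_iff] at h4
  obtain ⟨k, hk⟩ := h4
  rcases Int.even_or_odd' k with ⟨t, ht | ht⟩
  · exfalso
    apply hu1
    rw [← hk, ht, zpow_mul, zpow_ofNat, hv, one_zpow]
  · rw [← hk, ht, zpow_add, zpow_mul, zpow_ofNat, hv, one_zpow, one_mul, zpow_one]

end Cfsg.Agent.Lib.Helper50_UniqueInv2
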