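import Mathlib
import Cfsg.Agent.Lib.Helper95_FeitDefs
import Cfsg.Agent.Lib.Helper6_Zassenhaus
import Cfsg.Agent.S0739
import Cfsg.Agent.S0339

/-!
# S0885 package PA (helper10): reduction of Feit's theorem on Zassenhaus groups to the nice case
-/

set_option autoImplicit false

namespace Cfsg.Agent.Lib.Helper10_Feit_PA

open Cfsg MulAction Cfsg.Agent.Lib.Helper95_FeitDefs Cfsg.Agent.Lib.Helper6_Zassenhaus

universe u v

/-- The nice-case theorem (copy of the package definition). -/
def NTStatement : Prop :=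
  ∀ {G : Type u} {Ω : Type v} [Group G] [Fintype G] [MulAction G Ω] [Fintype Ω] {a b : Ω}
    {H : Subgroup G} {h e : ℕ}, Nice G Ω a b H h e → 2 * e < h - 1 →
    IsPGroup 2 H ∧ (∃ x y : H, x * y ≠ y * x) ∧ (commutator H).index ≤ 4 * e ^ 2 + 1

/-- an element of a finite group of odd order whose square is trivial is trivial -/
lemma eq_one_of_sq_of_odd {E : Type*} [Group E] [Finite E] (hodd : Odd (Nat.card E)) (x : E)
    (hx : x * x = 1) : x = 1 := by
  have h1 : orderOf x ∣ 2 := orderOf_dvd_of_pow_eq_one (by rw [pow_two, hx])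
  have h2 : orderOf x ∣ Nat.card E := orderOf_dvd_natCard x
  have h3 : orderOf x ∣ Nat.gcd 2 (Nat.card E) := Nat.dvd_gcd h1 h2
  have h4 : Nat.gcd 2 (Nat.card E) = 1 := Nat.coprime_two_left.mpr hodd
  rw [h4, Nat.dvd_one] at h3
  exact orderOf_eq_one_iff.mp h3

/-- the swapping property in the case without normal complements -/
lemma swap_sq_of_invert {G : Type u} {Ω : Type v} [Group G] [Finite G] [MulAction G Ω]
    (hz : ZHyp G Ω) {a b : Ω} (hab : a ≠ b)
    (hodd : Odd (Nat.card ↥(stabilizer G a ⊓ stabilizer G b : Subgroup G)))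
    (hinv : ∀ s : G, s • a = b → s • b = a →
      ∀ x ∈ stabilizer G a ⊓ stabilizer G b, s * x * s⁻¹ = x⁻¹)
    (s : G) (c d : Ω) (hcd : c ≠ d) (hsc : s • c = d) (hsd : s • d = c) : s * s = 1 := by
  obtain ⟨g, hga, hgb⟩ := hz.two hab hcd
  obtain ⟨t, ht⟩ : ∃ t : G, t = g⁻¹ * s * g := ⟨_, rfl⟩
  have hta : t • a = b := by
    rw [ht, mul_smul, mul_smul, hga, hsc, ← hgb, inv_smul_smul]
  have htb : t • b = a := by
    rw [ht, mul_smul, mul_smul, hgb, hsd, ← hga, inv_smul_smul]
  have htt : t * t ∈ stabilizer G a ⊓ stabilizer G b := by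
    rw [Subgroup.mem_inf, mem_stabilizer_iff, mem_stabilizer_iff]
    exact ⟨by rw [mul_smul, hta, htb], by rw [mul_smul, htb, hta]⟩
  have h1 := hinv t hta htb (t * t) htt
  have h2 : t * (t * t) * t⁻¹ = t * t := by group
  rw [h2] at h1
  have h3 : (t * t) * (t * t) = 1 := by
    nth_rewrite 2 [h1]
    exact mul_inv_cancel _
  have h4 : (⟨t * t, htt⟩ : ↥(stabilizer G a ⊓ stabilizer G b : Subgroup G)) = 1 := by
    apply eq_one_of_sq_of_odd hodd
    apply Subtype.ext
    exact h3
  have h5 : t * t = 1 := congrArg Subtype.val h4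
  have h6 : s = g * t * g⁻¹ := by rw [ht]; group
  rw [h6]
  calc g * t * g⁻¹ * (g * t * g⁻¹) = g * (t * t) * g⁻¹ := by group
    _ = 1 := by rw [h5]; group

/-- a doubly transitive group has even order -/
lemma even_card_of_two {G : Type u} {Ω : Type v} [Group G] [Finite G] [MulAction G Ω]
    (hz : ZHyp G Ω) {a b : Ω} (hab : a ≠ b) : 2 ∣ Nat.card G := by
  obtain ⟨s, hsa, hsb⟩ := hz.two hab hab.symm
  have hpow : ∀ k : ℕ, (s ^ (2 * k)) • a = a ∧ (s ^ (2 * k + 1)) • a = b := by
    intro k
    induction k with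
    | zero => simp [hsa]
    | succ k ih =>
      have e1 : s ^ (2 * (k + 1)) = s * s ^ (2 * k + 1) := by
        rw [← pow_succ']
        rfl
      have e2 : s ^ (2 * (k + 1) + 1) = s * s ^ (2 * (k + 1)) := by
        rw [← pow_succ']
      have h1 : (s ^ (2 * (k + 1))) • a = a := by rw [e1, mul_smul, ih.2, hsb]
      exact ⟨h1, by rw [e2, mul_smul, h1, hsa]⟩
  have h2 : 2 ∣ orderOf s := by
    by_contra hnd
    have hodd : Odd (orderOf s) := by
      rw [← Nat.not_even_iff_odd, even_iff_two_dvd]
      exact hnd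
    obtain ⟨k, hk⟩ := hodd
    have := (hpow k).2
    rw [← hk, pow_orderOf_eq_one, one_smul] at this
    exact hab this
  exact h2.trans (orderOf_dvd_natCard s)


/-- transfer of the conclusion along an isomorphism -/
lemma transfer {A B : Type*} [Group A] [Group B] (φ : A ≃* B) {n : ℕ}
    (hA : IsPGroup 2 A ∧ (∃ u v : A, u * v ≠ v * u) ∧ (commutator A).index ≤ n) :
    IsPGroup 2 B ∧ (∃ u v : B, u * v ≠ v * u) ∧ (commutator B).index ≤ n := by
  obtain ⟨h1, ⟨u, v, huv⟩, h3⟩ := hA
  refine ⟨h1.of_equiv φ, ⟨φ u, φ v, fun h => huv (φ.injective (by rw [map_mul, map_mul, h]))⟩, ?_⟩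
  have : (commutator A).map (φ : A →* B) = commutator B := by
    rw [commutator_def, commutator_def, Subgroup.map_commutator,
      Subgroup.map_top_of_surjective _ φ.surjective]
  rw [← this, Subgroup.index_map_equiv]
  exact h3

theorem PA_aux (NT : NTStatement.{u, v}) {Ω : Type v} [Fintype Ω] :
    ∀ n : ℕ, ∀ (G : Type u) [Group G] [Finite G] [MulAction G Ω], Nat.card G = n →
    Cfsg.IsZassenhausGroup G Ω → ∀ {a b : Ω}, a ≠ b → ∀ (h e : ℕ), Fintype.card Ω = h + 1 →
    Nat.card ↥(stabilizer G a ⊓ stabilizer G b : Subgroup G) = e → Odd e →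
    ∀ (H : Subgroup G), H ≤ stabilizer G a → Nat.card H + 1 = Fintype.card Ω →
    (∀ u ∈ H, u ≠ 1 → ∀ c : Ω, u • c = c → c = a) →
    h - 1 ≤ 2 * e ∨ (IsPGroup 2 H ∧ (∃ u v : H, u * v ≠ v * u) ∧
      (commutator H).index ≤ 4 * e ^ 2 + 1) := by
  intro n
  induction n using Nat.strong_induction_on with
  | _ n ih =>
  intro G _ _ _ hn hZ a b hab h e hh he hodd H hHa hHcard hHfix
  have hz := zhyp_of_isZassenhausGroup hZ
  by_cases hle : h - 1 ≤ 2 * e
  · exact Or.inl hle
  by_cases hnil : ∀ q : ℕ, q.Prime → q ∣ e →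
      ¬ ∃ M : Subgroup G, M.Normal ∧ M.index = q ^ (Nat.card G).factorization q
  · -- the nice case
    right
    have hS := Cfsg.Agent.S0739.result hZ hab (by rw [he]; exact hodd) (by rw [he]; exact hnil)
    have hnice : Nice G Ω a b H h e :=
      { zass := hZ
        hab := hab
        card_Ω := hh
        card_E := he
        e_odd := hodd
        H_le := hHa
        card_H := by omega
        H_fix := hHfix
        swap_sq := swap_sq_of_invert hz hab (by rw [he]; exact hodd) hS.2.2 }
    let _ : Fintype G := Fintype.ofFinite G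
    exact NT hnice (by omega)
  · push Not at hnil
    obtain ⟨q, hq, hqe, M, hMn, hMi⟩ := hnil
    have := hMn
    have hq2 : q ≠ 2 := by
      rintro rfl
      exact (Nat.not_even_iff_odd.mpr hodd) (even_iff_two_dvd.mpr hqe)
    have heG : e ∣ Nat.card G := by
      rw [← he]
      exact Subgroup.card_subgroup_dvd_card _
    have hqG : q ∣ Nat.card G := hqe.trans heG
    have hv : 0 < (Nat.card G).factorization q :=
      hq.factorization_pos_of_dvd Nat.card_pos.ne' hqG
    have hMbot : M ≠ ⊥ := by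
      rintro rfl
      rw [Subgroup.index_bot] at hMi
      have h2 := even_card_of_two hz hab
      rw [hMi] at h2
      have h3 := Nat.Prime.dvd_of_dvd_pow Nat.prime_two h2
      exact hq2 ((Nat.prime_dvd_prime_iff_eq Nat.prime_two hq).mp h3).symm
    have hMZ : IsZassenhausGroup M Ω := Cfsg.Agent.S0339.result hZ M hMbot
    have hMlt : Nat.card M < Nat.card G := by
      have h1 : Nat.card M * M.index = Nat.card G := Subgroup.card_mul_index M
      have h2 : 1 < M.index := by
        rw [hMi]
        exact Nat.one_lt_pow hv.ne' hq.one_lt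
      have h3 : 0 < Nat.card M := Nat.card_pos
      nlinarith
    -- `H ≤ M`
    obtain ⟨K, hK, -⟩ := exists_K hz a
    have hKM : K ≤ M := K_le_normal hZ M hMbot a K hK
    have hHK : H ≤ K := by
      intro u hu
      have : u ∈ (K : Set G) := by
        rw [hK]
        refine ⟨hHa hu, ?_⟩
        by_cases hu1 : u = 1
        · exact Or.inl hu1
        · exact Or.inr (fun c hc hfix => hc (hHfix u hu hu1 c hfix))
      exact this
    have hHM : H ≤ M := hHK.trans hKM
    -- the two-point stabiliser of `M`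
    have he'e : Nat.card ↥(stabilizer M a ⊓ stabilizer M b : Subgroup M) ∣ e := by
      rw [← he]
      let φ : ↥(stabilizer M a ⊓ stabilizer M b : Subgroup M) →*
          ↥(stabilizer G a ⊓ stabilizer G b : Subgroup G) :=
        ((M.subtype).comp (Subgroup.subtype _)).codRestrict _ (fun x => by
          have hx := x.2
          rw [Subgroup.mem_inf, mem_stabilizer_iff, mem_stabilizer_iff] at hx
          rw [Subgroup.mem_inf, mem_stabilizer_iff, mem_stabilizer_iff]
          exact hx)
      apply Subgroup.card_dvd_of_injective φ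
      intro x y hxy
      have h0 := congrArg (fun z : ↥(stabilizer G a ⊓ stabilizer G b : Subgroup G) => (z : G)) hxy
      have h1 : ((x : M) : G) = ((y : M) : G) := h0
      exact Subtype.ext (Subtype.ext h1)
    have he'odd : Odd (Nat.card ↥(stabilizer M a ⊓ stabilizer M b : Subgroup M)) := by
      obtain ⟨k, hk⟩ := he'e
      rw [hk] at hodd
      exact (Nat.odd_mul.mp hodd).1
    have he'le : Nat.card ↥(stabilizer M a ⊓ stabilizer M b : Subgroup M) ≤ e :=
      Nat.le_of_dvd hodd.pos he'e
    have hH'a : H.subgroupOf M ≤ stabilizer M a := by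
      intro x hx
      rw [Subgroup.mem_subgroupOf] at hx
      have := hHa hx
      rw [mem_stabilizer_iff] at this ⊢
      exact this
    have hH'card : Nat.card (H.subgroupOf M) + 1 = Fintype.card Ω := by
      rw [Nat.card_congr (Subgroup.subgroupOfEquivOfLe hHM).toEquiv]
      exact hHcard
    have hH'fix : ∀ u ∈ H.subgroupOf M, u ≠ 1 → ∀ c : Ω, u • c = c → c = a := by
      intro u hu hu1 c hc
      rw [Subgroup.mem_subgroupOf] at hu
      exact hHfix (u : G) hu (fun h => hu1 (Subtype.ext h)) c hc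
    have hres := ih (Nat.card M) (by rw [← hn]; exact hMlt) M rfl hMZ hab h _ hh rfl he'odd
      (H.subgroupOf M) hH'a hH'card hH'fix
    rcases hres with hres | hres
    · exact Or.inl (hres.trans (Nat.mul_le_mul_left 2 he'le))
    · right
      have hbound : 4 * Nat.card ↥(stabilizer M a ⊓ stabilizer M b : Subgroup M) ^ 2 + 1 ≤
          4 * e ^ 2 + 1 := by
        have := Nat.pow_le_pow_left he'le 2
        omega
      have := transfer (Subgroup.subgroupOfEquivOfLe hHM) hres
      exact ⟨this.1, this.2.1, this.2.2.trans hbound⟩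

/-- **PA**: the frozen S0885 from the nice-case theorem -/
theorem PA (NT : NTStatement.{u, v})
    {G : Type u} {Ω : Type v} [Group G] [Finite G] [MulAction G Ω] [Fintype Ω]
    (hZ : Cfsg.IsZassenhausGroup G Ω) {a b : Ω} (hab : a ≠ b) (h e : ℕ)
    (hh : Fintype.card Ω = h + 1)
    (he : Nat.card ↥(MulAction.stabilizer G a ⊓ MulAction.stabilizer G b : Subgroup G) = e)
    (hodd : Odd e) (H : Subgroup G) (hHa : H ≤ MulAction.stabilizer G a)
    (hHcard : Nat.card H + 1 = Fintype.card Ω)
    (hHfix : ∀ u ∈ H, u ≠ 1 → ∀ c : Ω, u • c = c → c = a) :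
    h - 1 ≤ 2 * e ∨ (IsPGroup 2 H ∧ (∃ u v : H, u * v ≠ v * u) ∧
      (commutator H).index ≤ 4 * e ^ 2 + 1) :=
  PA_aux NT (Nat.card G) G rfl hZ hab h e hh he hodd H hHa hHcard hHfix

end Cfsg.Agent.Lib.Helper10_Feit_PA
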