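import Mathlib
import Cfsg.Agent.Lib.Helper94_Symp

set_option autoImplicit false

/-!
Hermitian forms `B : V →ₗ[F] V →ₛₗ[σ] F` for an involution `σ` of the field `F`:
field facts (trace, norm), unitary transvections, isotropic vectors, hyperbolic pairs.
-/

namespace Cfsg.Agent.Lib.Helper94_Herm

open Module Cfsg.Agent.Lib.Helper94_Symp

variable {F V : Type*} [Field F] [AddCommGroup V] [Module F V]

/-- An involution of a field, different from the identity. -/
structure Invol (σ : F →+* F) : Prop where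
  invol : ∀ a, σ (σ a) = a
  ne_id : ∃ θ, σ θ ≠ θ

section FieldFacts

variable {σ : F →+* F} (hσ : Invol σ)

include hσ in
lemma exists_tr_ne_zero : ∃ θ, θ + σ θ ≠ 0 := by
  by_cases h2 : (2 : F) = 0
  · obtain ⟨θ, hθ⟩ := hσ.ne_id
    refine ⟨θ, fun h => hθ ?_⟩
    have : θ - σ θ = 0 := by linear_combination h - σ θ * h2
    exact (sub_eq_zero.mp this).symm
  · refine ⟨1, ?_⟩
    rw [map_one]
    intro h
    exact h2 (by linear_combination h)

include hσ in
lemma tr_surj (a : F) (ha : σ a = a) : ∃ l, l + σ l = a := by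
  obtain ⟨θ, hθ⟩ := exists_tr_ne_zero hσ
  refine ⟨a * θ / (θ + σ θ), ?_⟩
  rw [map_div₀, map_mul, map_add, hσ.invol, ha, add_comm (σ θ) θ]
  field_simp

include hσ in
lemma exists_skew : ∃ ζ, ζ ≠ 0 ∧ σ ζ = -ζ := by
  obtain ⟨θ, hθ⟩ := hσ.ne_id
  refine ⟨θ - σ θ, fun h => hθ (sub_eq_zero.mp h).symm, ?_⟩
  rw [map_sub, hσ.invol]
  ring

include hσ in
lemma eq_zero_of_tr {x : F} (h : ∀ l, σ l * x + l * σ x = 0) : x = 0 := by
  by_contra hx
  obtain ⟨θ, hθ⟩ := exists_tr_ne_zero hσ
  have hsx : σ x ≠ 0 := by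
    intro h0
    apply hx
    have := congrArg σ h0
    rwa [hσ.invol, map_zero] at this
  have := h (σ θ / σ x)
  rw [map_div₀, hσ.invol, hσ.invol] at this
  apply hθ
  field_simp at this
  linear_combination this

include hσ in
lemma decomp {ω : F} (hω : σ ω ≠ ω) (x : F) : ∃ r s, σ r = r ∧ σ s = s ∧ x = r + s * ω := by
  have hd : ω - σ ω ≠ 0 := fun h => hω (sub_eq_zero.mp h).symm
  have hd' : σ ω - ω ≠ 0 := fun h => hω (sub_eq_zero.mp h)
  refine ⟨x - (x - σ x) / (ω - σ ω) * ω, (x - σ x) / (ω - σ ω), ?_, ?_, by ring⟩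
  · simp only [map_sub, map_mul, map_div₀, hσ.invol]
    field_simp
    ring
  · simp only [map_sub, map_div₀, hσ.invol]
    field_simp
    ring

include hσ in
/-- Hilbert 90 for the involution. -/
lemma hilbert90 {x : F} (hx : x * σ x = 1) : ∃ y, y ≠ 0 ∧ y = x * σ y := by
  by_cases h1 : x = -1
  · obtain ⟨ζ, hζ0, hζ⟩ := exists_skew hσ
    exact ⟨ζ, hζ0, by rw [h1, hζ]; ring⟩
  · refine ⟨1 + x, fun h => h1 (by linear_combination h), ?_⟩
    rw [map_add, map_one, mul_add, hx]
    ring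

include hσ in
/-- The norm of a finite field with involution is onto the fixed field. -/
lemma norm_surj [Finite F] (a : F) (ha : σ a = a) : ∃ l, l * σ l = a := by
  by_cases ha0 : a = 0
  · exact ⟨0, by simp [ha0]⟩
  let σu : Fˣ →* Fˣ := Units.map (σ : F →* F)
  have hσu : ∀ u : Fˣ, ((σu u : Fˣ) : F) = σ (u : F) := fun u => rfl
  let nm : Fˣ →* Fˣ := MonoidHom.id Fˣ * σu
  let ψ : Fˣ →* Fˣ := MonoidHom.id Fˣ / σu
  have hnm : ∀ u : Fˣ, ((nm u : Fˣ) : F) = (u : F) * σ (u : F) := fun u => by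
    simp [nm, hσu]
  have hψ : ∀ u : Fˣ, ψ u = 1 ↔ σ (u : F) = (u : F) := by
    intro u
    simp only [ψ, MonoidHom.div_apply, MonoidHom.id_apply, div_eq_one]
    constructor
    · intro h
      rw [← hσu, ← h]
    · intro h
      exact Units.ext (by rw [hσu, h])
  have h1 : nm.range ≤ ψ.ker := by
    rintro _ ⟨u, rfl⟩
    rw [MonoidHom.mem_ker, hψ, hnm, map_mul, hσ.invol, mul_comm]
  have h2 : ψ.range = nm.ker := by
    ext u
    rw [MonoidHom.mem_ker, MonoidHom.mem_range]
    constructor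
    · rintro ⟨y, rfl⟩
      apply Units.ext
      rw [hnm]
      simp only [ψ, MonoidHom.div_apply, MonoidHom.id_apply, Units.val_div_eq_div_val, hσu,
        map_div₀, hσ.invol, Units.val_one]
      field_simp
    · intro hu
      have hu' : (u : F) * σ (u : F) = 1 := by
        rw [← hnm, hu]; rfl
      obtain ⟨y, hy0, hy⟩ := hilbert90 hσ hu'
      refine ⟨Units.mk0 y hy0, ?_⟩
      apply Units.ext
      simp only [ψ, MonoidHom.div_apply, MonoidHom.id_apply, Units.val_div_eq_div_val, hσu,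
        Units.val_mk0]
      have hsy : σ y ≠ 0 := by
        intro h0
        rw [h0, mul_zero] at hy
        exact hy0 hy
      field_simp
      rw [mul_comm]
      exact hy
  have c1 := Subgroup.card_mul_index nm.ker
  have c2 := Subgroup.card_mul_index ψ.ker
  rw [Subgroup.index_ker] at c1 c2
  rw [← h2] at c1
  have hpos : 0 < Nat.card ψ.range := Nat.card_pos
  have hcard : Nat.card ψ.ker = Nat.card nm.range := by
    have : Nat.card ψ.range * Nat.card nm.range = Nat.card ψ.range * Nat.card ψ.ker := by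
      rw [c1, mul_comm, c2]
    exact (Nat.eq_of_mul_eq_mul_left hpos this).symm
  have heq : nm.range = ψ.ker := Subgroup.eq_of_le_of_card_ge h1 (le_of_eq hcard)
  have hmem : Units.mk0 a ha0 ∈ ψ.ker := by
    rw [MonoidHom.mem_ker, hψ]
    exact ha
  rw [← heq] at hmem
  obtain ⟨l, hl⟩ := hmem
  refine ⟨(l : F), ?_⟩
  rw [← hnm, hl]
  rfl

end FieldFacts

section Form

variable {σ : F →+* F} (B : V →ₗ[F] V →ₛₗ[σ] F)

/-- Hermitian symmetry of a sesquilinear form. -/
def IsHerm : Prop := ∀ x y, B y x = σ (B x y)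

/-- The isometry group of a sesquilinear form. -/
def uG : Subgroup (V ≃ₗ[F] V) where
  carrier := {g | ∀ x y, B (g x) (g y) = B x y}
  mul_mem' := by
    intro a b ha hb x y
    rw [LinearEquiv.mul_apply, LinearEquiv.mul_apply, ha, hb]
  one_mem' := fun x y => rfl
  inv_mem' := by
    intro g hg x y
    have := hg (g⁻¹ x) (g⁻¹ y)
    rw [apply_inv_apply', apply_inv_apply'] at this
    exact this.symm

lemma mem_uG {g : V ≃ₗ[F] V} : g ∈ uG B ↔ ∀ x y, B (g x) (g y) = B x y := Iff.rfl

lemma uG_inv_apply {g : V ≃ₗ[F] V} (hg : g ∈ uG B) (x y : V) : B (g⁻¹ x) y = B x (g y) := by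
  have := hg (g⁻¹ x) y
  rw [apply_inv_apply'] at this
  exact this.symm

open Classical in
/-- The unitary transvection `x ↦ x + c * B x a • a` for an isotropic vector `a`
(the identity when `a` is not isotropic). -/
noncomputable def utv (a : V) (c : F) : V ≃ₗ[F] V :=
  if h : B a a = 0 then
    LinearEquiv.transvection (f := c • B.flip a) (v := a) (by simp [h])
  else 1

lemma utv_apply {a : V} (ha : B a a = 0) (c : F) (x : V) :
    utv B a c x = x + (c * B x a) • a := by
  simp [utv, ha, LinearEquiv.transvection.apply, LinearMap.transvection.apply]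

lemma utv_fix (a : V) (c : F) {x : V} (h : B x a = 0) : utv B a c x = x := by
  by_cases ha : B a a = 0
  · rw [utv_apply B ha, h, mul_zero, zero_smul, add_zero]
  · simp [utv, ha]

lemma utv_self (a : V) (c : F) : utv B a c a = a := by
  by_cases ha : B a a = 0
  · exact utv_fix B a c ha
  · simp [utv, ha]

variable {B}

lemma herm_self (hB : IsHerm B) (x : V) : σ (B x x) = B x x := (hB x x).symm

lemma herm_eq_zero (hB : IsHerm B) {x y : V} (h : B x y = 0) : B y x = 0 := by
  rw [hB x y, h, map_zero]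

lemma herm_ne_zero (hσ : Invol σ) (hB : IsHerm B) {x y : V} (h : B x y ≠ 0) : B y x ≠ 0 := by
  intro h0
  apply h
  have := hB y x
  rw [h0, map_zero] at this
  exact this

lemma self_add (hB : IsHerm B) (x y : V) :
    B (x + y) (x + y) = B x x + B y y + (B x y + σ (B x y)) := by
  simp only [map_add, LinearMap.add_apply]
  rw [hB x y]
  ring

lemma self_smul (x : V) (c : F) : B (c • x) (c • x) = c * σ c * B x x := by
  simp only [map_smul, map_smulₛₗ, LinearMap.smul_apply, smul_eq_mul]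
  ring

lemma utv_mem_uG (hB : IsHerm B) (a : V) {c : F} (hc : σ c = -c) : utv B a c ∈ uG B := by
  by_cases ha : B a a = 0
  · intro x y
    rw [utv_apply B ha, utv_apply B ha]
    simp only [map_add, map_smul, map_smulₛₗ, LinearMap.add_apply, LinearMap.smul_apply,
      smul_eq_mul, ha, map_mul, hc]
    rw [hB y a]
    ring
  · simp [utv, ha, Subgroup.one_mem]

lemma conj_utv {g : V ≃ₗ[F] V} (hg : g ∈ uG B) (a : V) (c : F) :
    g * utv B a c * g⁻¹ = utv B (g a) c := by
  by_cases ha : B a a = 0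
  · have ha' : B (g a) (g a) = 0 := by rw [hg, ha]
    ext x
    rw [LinearEquiv.mul_apply, LinearEquiv.mul_apply, utv_apply B ha, utv_apply B ha', map_add,
      map_smul, apply_inv_apply', uG_inv_apply B hg]
  · have ha' : ¬ B (g a) (g a) = 0 := by rw [hg]; exact ha
    simp [utv, ha, ha']

lemma utv_smul (a : V) (μ c : F) : utv B (μ • a) c = utv B a (μ * σ μ * c) := by
  by_cases ha : B a a = 0
  · have ha' : B (μ • a) (μ • a) = 0 := by rw [self_smul, ha, mul_zero]
    ext x
    rw [utv_apply B ha, utv_apply B ha']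
    simp only [map_smulₛₗ, smul_eq_mul, smul_smul]
    congr 2
    ring
  · by_cases hμ : μ = 0
    · subst hμ
      have : B ((0 : F) • a) ((0 : F) • a) = 0 := by simp
      ext x
      rw [utv_apply B this]
      simp [utv, ha]
    · have ha' : ¬ B (μ • a) (μ • a) = 0 := by
        rw [self_smul]
        have hσμ : σ μ ≠ 0 := (map_ne_zero σ).mpr hμ
        exact mul_ne_zero (mul_ne_zero hμ hσμ) ha
      unfold utv
      rw [dif_neg ha, dif_neg ha']

/-- Nondegeneracy of the form on a subspace. -/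
def NondegOn (B : V →ₗ[F] V →ₛₗ[σ] F) (U : Submodule F V) : Prop :=
  ∀ x ∈ U, x ≠ 0 → ∃ y ∈ U, B x y ≠ 0

end Form

section Geometry

variable {σ : F →+* F} {B : V →ₗ[F] V →ₛₗ[σ] F}

/-- The vectors orthogonal to `a`. -/
def orthV (B : V →ₗ[F] V →ₛₗ[σ] F) (a : V) : Submodule F V := LinearMap.ker (B.flip a)

@[simp] lemma mem_orthV {a x : V} : x ∈ orthV B a ↔ B x a = 0 := by
  simp [orthV]

variable (hσ : Invol σ) (hB : IsHerm B)

include hσ hB in
/-- Any two independent vectors span a subspace containing a nonzero isotropic vector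
(finite fields). -/
lemma exists_iso [Finite F] {x y : V} (hx : x ≠ 0) (hy : y ∉ Submodule.span F {x}) :
    ∃ a b : F, a • x + b • y ≠ 0 ∧ B (a • x + b • y) (a • x + b • y) = 0 := by
  by_cases hNx : B x x = 0
  · refine ⟨1, 0, ?_, ?_⟩
    · simpa using hx
    · simpa using hNx
  set t := B y x / B x x with ht
  set y' := y - t • x with hy'
  have hy'0 : y' ≠ 0 := by
    intro h
    apply hy
    rw [Submodule.mem_span_singleton]
    exact ⟨t, (sub_eq_zero.mp h).symm⟩
  have hy'x : B y' x = 0 := by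
    rw [hy', map_sub, map_smul, LinearMap.sub_apply, LinearMap.smul_apply, smul_eq_mul, ht]
    field_simp
    ring
  have hxy' : B x y' = 0 := herm_eq_zero hB hy'x
  by_cases hNy : B y' y' = 0
  · refine ⟨-t, 1, ?_, ?_⟩
    · have : -t • x + (1 : F) • y = y' := by rw [hy']; module
      rw [this]; exact hy'0
    · have : -t • x + (1 : F) • y = y' := by rw [hy']; module
      rw [this]; exact hNy
  · obtain ⟨l, hl⟩ := norm_surj hσ (-(B x x) / B y' y')
      (by rw [map_div₀, map_neg, herm_self hB, herm_self hB])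
    have hz : (1 - l * t) • x + l • y = x + l • y' := by rw [hy']; module
    refine ⟨1 - l * t, l, ?_, ?_⟩
    · rw [hz]
      intro h0
      have : B (x + l • y') x = 0 := by rw [h0]; simp
      rw [map_add, map_smul, LinearMap.add_apply, LinearMap.smul_apply, hy'x, smul_zero,
        add_zero] at this
      exact hNx this
    · rw [hz, self_add hB, self_smul, map_smulₛₗ, hxy', smul_zero, map_zero, add_zero, add_zero,
        hl]
      field_simp
      ring

include hσ hB in
/-- A nonzero isotropic vector of a nondegenerate subspace has a hyperbolic partner there. -/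
lemma exists_partner {U : Submodule F V} (hU : NondegOn B U) {u : V} (huU : u ∈ U) (hu0 : u ≠ 0)
    (hu : B u u = 0) : ∃ f ∈ U, B f f = 0 ∧ B u f = 1 := by
  obtain ⟨z', hz'U, h1⟩ : ∃ z' ∈ U, B u z' = 1 := by
    obtain ⟨z, hzU, hz⟩ := hU u huU hu0
    refine ⟨σ (B u z)⁻¹ • z, U.smul_mem _ hzU, ?_⟩
    rw [map_smulₛₗ, smul_eq_mul, hσ.invol, inv_mul_cancel₀ hz]
  obtain ⟨l, hl⟩ := tr_surj hσ (-(B z' z')) (by rw [map_neg, herm_self hB])
  refine ⟨z' + l • u, U.add_mem hz'U (U.smul_mem _ huU), ?_, ?_⟩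
  · have h2 : B z' (l • u) = σ l := by
      rw [map_smulₛₗ, smul_eq_mul, hB u z', h1, map_one, mul_one]
    rw [self_add hB, self_smul, hu, mul_zero, add_zero, h2, hσ.invol]
    linear_combination hl
  · rw [map_add, map_smulₛₗ, hu, smul_zero, add_zero, h1]

include hσ hB in
/-- A subspace containing a hyperbolic pair is spanned by its isotropic vectors. -/
lemma span_iso {U : Submodule F V} {e f : V} (heU : e ∈ U) (hfU : f ∈ U) (he : B e e = 0)
    (hf : B f f = 0) (hef : B e f = 1) :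
    ∀ x ∈ U, x ∈ Submodule.span F {z | z ∈ U ∧ B z z = 0} := by
  intro x hx
  have hfe : B f e = 1 := by rw [hB e f, hef, map_one]
  have heS : e ∈ Submodule.span F {z | z ∈ U ∧ B z z = 0} := Submodule.subset_span ⟨heU, he⟩
  have hfS : f ∈ Submodule.span F {z | z ∈ U ∧ B z z = 0} := Submodule.subset_span ⟨hfU, hf⟩
  set x1 := x - B x f • e - B x e • f with hx1
  have hx1U : x1 ∈ U := U.sub_mem (U.sub_mem hx (U.smul_mem _ heU)) (U.smul_mem _ hfU)
  have hx1e : B x1 e = 0 := by
    simp only [hx1, map_sub, map_smul, LinearMap.sub_apply, LinearMap.smul_apply, smul_eq_mul, he,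
      hfe]
    ring
  have hx1f : B x1 f = 0 := by
    simp only [hx1, map_sub, map_smul, LinearMap.sub_apply, LinearMap.smul_apply, smul_eq_mul, hf,
      hef]
    ring
  have hex1 : B e x1 = 0 := herm_eq_zero hB hx1e
  have hfx1 : B f x1 = 0 := herm_eq_zero hB hx1f
  obtain ⟨μ, hμ⟩ := tr_surj hσ (-(B x1 x1)) (by rw [map_neg, herm_self hB])
  have hz : B (x1 + e + μ • f) (x1 + e + μ • f) = 0 := by
    simp only [map_add, map_smul, map_smulₛₗ, LinearMap.add_apply, LinearMap.smul_apply,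
      smul_eq_mul, he, hf, hef, hfe, hx1e, hx1f, hex1, hfx1]
    linear_combination hμ
  have hzS : x1 + e + μ • f ∈ Submodule.span F {z | z ∈ U ∧ B z z = 0} :=
    Submodule.subset_span ⟨U.add_mem (U.add_mem hx1U heU) (U.smul_mem _ hfU), hz⟩
  have hx1S : x1 ∈ Submodule.span F {z | z ∈ U ∧ B z z = 0} := by
    have : x1 = (x1 + e + μ • f) - e - μ • f := by abel
    rw [this]
    exact Submodule.sub_mem _ (Submodule.sub_mem _ hzS heS) (Submodule.smul_mem _ _ hfS)
  have : x = x1 + B x f • e + B x e • f := by rw [hx1]; abel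
  rw [this]
  exact Submodule.add_mem _ (Submodule.add_mem _ hx1S (Submodule.smul_mem _ _ heS))
    (Submodule.smul_mem _ _ hfS)

include hσ hB in
/-- Two orthogonal isotropic vectors of a nondegenerate subspace are both non-orthogonal to a
third isotropic vector. -/
lemma exists_connect {U : Submodule F V} (hU : NondegOn B U) {b b' : V} (hbU : b ∈ U)
    (hb'U : b' ∈ U) (hb0 : b ≠ 0) (hb'0 : b' ≠ 0) (hb : B b b = 0) (hbb' : B b b' = 0) :
    ∃ b'' ∈ U, B b'' b'' = 0 ∧ B b b'' ≠ 0 ∧ B b' b'' ≠ 0 := by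
  obtain ⟨z1, hz1U, hz1⟩ := hU b hbU hb0
  obtain ⟨z2, hz2U, hz2⟩ := hU b' hb'U hb'0
  have hb'b : B b' b = 0 := herm_eq_zero hB hbb'
  obtain ⟨z, hzU, hzb, hzb'⟩ : ∃ z ∈ U, B b z ≠ 0 ∧ B b' z ≠ 0 := by
    by_cases h1 : B b' z1 = 0
    · by_cases h2 : B b z2 = 0
      · refine ⟨z1 + z2, U.add_mem hz1U hz2U, ?_, ?_⟩
        · rw [map_add, h2, add_zero]; exact hz1
        · rw [map_add, h1, zero_add]; exact hz2
      · exact ⟨z2, hz2U, h2, hz2⟩
    · exact ⟨z1, hz1U, hz1, h1⟩
  obtain ⟨l, hl⟩ := tr_surj hσ (-(B z z)) (by rw [map_neg, herm_self hB])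
  refine ⟨z + (l / B b z) • b, U.add_mem hzU (U.smul_mem _ hbU), ?_, ?_, ?_⟩
  · have h3 : B z ((l / B b z) • b) = σ l := by
      rw [map_smulₛₗ, smul_eq_mul, hB b z, ← map_mul, div_mul_cancel₀ _ hzb]
    rw [self_add hB, self_smul, hb, mul_zero, add_zero, h3, hσ.invol]
    linear_combination hl
  · rw [map_add, map_smulₛₗ, hb, smul_zero, add_zero]
    exact hzb
  · rw [map_add, map_smulₛₗ, hb'b, smul_zero, add_zero]
    exact hzb'

include hσ hB in
/-- A unitary transvection moving an isotropic vector to a multiple of a non-orthogonal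
isotropic vector. -/
lemma exists_move {u v : V} (hu : B u u = 0) (hv : B v v = 0) (huv : B u v ≠ 0) :
    ∃ μ : F, μ ≠ 0 ∧ ∃ c : F, σ c = -c ∧ B (μ • v - u) (μ • v - u) = 0 ∧
      utv B (μ • v - u) c u = μ • v := by
  obtain ⟨ζ, hζ0, hζ⟩ := exists_skew hσ
  have hμ0 : σ (ζ / B u v) ≠ 0 := (map_ne_zero σ).mpr (div_ne_zero hζ0 huv)
  have hβ : B u (σ (ζ / B u v) • v) = ζ := by
    rw [map_smulₛₗ, smul_eq_mul, hσ.invol, div_mul_cancel₀ _ huv]
  have hβ' : B (σ (ζ / B u v) • v) u = -ζ := by rw [hB u, hβ, hζ]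
  have ha : B (σ (ζ / B u v) • v - u) (σ (ζ / B u v) • v - u) = 0 := by
    simp only [map_sub, LinearMap.sub_apply]
    rw [self_smul, hv, hβ, hβ', hu]
    ring
  refine ⟨σ (ζ / B u v), hμ0, ζ⁻¹, by rw [map_inv₀, hζ, inv_neg], ha, ?_⟩
  rw [utv_apply B ha, map_sub, hβ, hu, sub_zero, inv_mul_cancel₀ hζ0, one_smul]
  abel

include hB in
lemma nondegOn_orthV {U : Submodule F V} (hU : NondegOn B U) {v : V} (hvU : v ∈ U)
    (hv : B v v ≠ 0) : NondegOn B (U ⊓ orthV B v) := by
  intro x hx hx0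
  obtain ⟨y, hyU, hy⟩ := hU x hx.1 hx0
  have hxv : B x v = 0 := mem_orthV.mp hx.2
  refine ⟨y - (B y v / B v v) • v,
    Submodule.mem_inf.mpr ⟨U.sub_mem hyU (U.smul_mem _ hvU), mem_orthV.mpr ?_⟩, ?_⟩
  · rw [map_sub, map_smul, LinearMap.sub_apply, LinearMap.smul_apply, smul_eq_mul]
    field_simp
    ring
  · rw [map_sub, map_smulₛₗ, hxv, smul_zero, sub_zero]
    exact hy

include hB in
lemma nondegOn_pair {U : Submodule F V} (hU : NondegOn B U) {e f : V} (heU : e ∈ U)
    (hfU : f ∈ U) (he : B e e = 0) (hf : B f f = 0) (hef : B e f = 1) :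
    NondegOn B (U ⊓ orthV B e ⊓ orthV B f) := by
  intro x hx hx0
  obtain ⟨y, hyU, hy⟩ := hU x hx.1.1 hx0
  have hxe : B x e = 0 := mem_orthV.mp hx.1.2
  have hxf : B x f = 0 := mem_orthV.mp hx.2
  have hfe : B f e = 1 := by rw [hB e f, hef, map_one]
  refine ⟨y - B y f • e - B y e • f,
    Submodule.mem_inf.mpr ⟨Submodule.mem_inf.mpr
      ⟨U.sub_mem (U.sub_mem hyU (U.smul_mem _ heU)) (U.smul_mem _ hfU), mem_orthV.mpr ?_⟩,
      mem_orthV.mpr ?_⟩, ?_⟩
  · simp only [map_sub, map_smul, LinearMap.sub_apply, LinearMap.smul_apply,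
      smul_eq_mul, he, hfe]
    ring
  · simp only [map_sub, map_smul, LinearMap.sub_apply, LinearMap.smul_apply,
      smul_eq_mul, hf, hef]
    ring
  · simp only [map_sub, map_smulₛₗ, hxe, hxf, smul_zero, sub_zero]
    exact hy

include hσ hB in
/-- A nonzero nondegenerate subspace contains a non-isotropic vector. -/
lemma exists_aniso {U : Submodule F V} (hU : NondegOn B U) {x : V} (hxU : x ∈ U) (hx0 : x ≠ 0) :
    ∃ d ∈ U, B d d ≠ 0 := by
  by_contra hcon
  push Not at hcon
  obtain ⟨y, hyU, hy⟩ := hU x hxU hx0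
  apply hy
  apply eq_zero_of_tr hσ
  intro l
  have h1 := hcon (x + l • y) (U.add_mem hxU (U.smul_mem _ hyU))
  rw [self_add hB, self_smul, hcon x hxU, hcon y hyU, map_smulₛₗ, smul_eq_mul, map_mul,
    hσ.invol] at h1
  linear_combination h1

end Geometry

end Cfsg.Agent.Lib.Helper94_Herm
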