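import Mathlib
import Cfsg.Agent.Lib.Helper94_Herm

set_option autoImplicit false

/-!
An additive subgroup of a nondegenerate hermitian space (dimension at least three, finite field)
that is invariant under all unitary transvections and meets the space nontrivially contains the
whole space.
-/

namespace Cfsg.Agent.Lib.Helper94_HermIrr

open Module Cfsg.Agent.Lib.Helper94_Symp Cfsg.Agent.Lib.Helper94_Herm

variable {F V : Type*} [Field F] [AddCommGroup V] [Module F V]
variable {σ : F →+* F} {B : V →ₗ[F] V →ₛₗ[σ] F}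

/-- A subspace that is not contained in the span of two vectors and on which the form is
nondegenerate contains a hyperbolic pair. -/
lemma exists_pair [Finite F] (hσ : Invol σ) (hB : IsHerm B) {U : Submodule F V}
    (hU : NondegOn B U) (h2 : ∀ x : V, ∃ z ∈ U, z ∉ Submodule.span F {x}) :
    ∃ e ∈ U, ∃ f ∈ U, B e e = 0 ∧ B f f = 0 ∧ B e f = 1 := by
  obtain ⟨z0, hz0U, hz0⟩ := h2 0
  have hz00 : z0 ≠ 0 := fun h => hz0 (by rw [h]; exact Submodule.zero_mem _)
  obtain ⟨z1, hz1U, hz1⟩ := h2 z0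
  obtain ⟨a, b, hne, hiso⟩ := exists_iso hσ hB hz00 hz1
  have huU : a • z0 + b • z1 ∈ U := U.add_mem (U.smul_mem _ hz0U) (U.smul_mem _ hz1U)
  obtain ⟨f, hfU, hf, hef⟩ := exists_partner hσ hB hU huU hne hiso
  exact ⟨_, huU, f, hfU, hiso, hf, hef⟩

theorem mem_of_utv_invariant [Finite F] (hσ : Invol σ) (hB : IsHerm B) {U : Submodule F V}
    (hU : NondegOn B U) (h3 : ∀ x y : V, ∃ z ∈ U, z ∉ Submodule.span F {x, y})
    (A : AddSubgroup V)
    (hinv : ∀ a ∈ U, B a a = 0 → ∀ c, σ c = -c → ∀ x ∈ A, utv B a c x ∈ A)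
    (hne : ∃ x ∈ A, x ∈ U ∧ x ≠ 0) : ∀ x ∈ U, x ∈ A := by
  obtain ⟨ζ, hζ0, hζ⟩ := exists_skew hσ
  have hζ2 : σ (ζ * ζ) = ζ * ζ := by rw [map_mul, hζ]; ring
  have h2 : ∀ x : V, ∃ z ∈ U, z ∉ Submodule.span F {x} := by
    intro x
    obtain ⟨z, hzU, hz⟩ := h3 x x
    refine ⟨z, hzU, ?_⟩
    simpa using hz
  obtain ⟨e, heU, f, hfU, he, hf, hef⟩ := exists_pair hσ hB hU h2
  have hspan := span_iso hσ hB heU hfU he hf hef
  -- transfer along a transvection
  have P1 : ∀ b ∈ U, B b b = 0 → ∀ x ∈ A, ∀ c, σ c = -c → (c * B x b) • b ∈ A := by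
    intro b hbU hb x hx c hc
    have h1 := hinv b hbU hb c hc x hx
    rw [utv_apply B hb] at h1
    have := A.sub_mem h1 hx
    rwa [add_sub_cancel_left] at this
  -- step 2: an isotropic vector non-orthogonal to a nonzero element of A
  obtain ⟨a0, ha0A, ha0U, ha00⟩ := hne
  obtain ⟨b, hbU, hb, hab⟩ : ∃ b ∈ U, B b b = 0 ∧ B a0 b ≠ 0 := by
    by_contra hcon
    push Not at hcon
    obtain ⟨y, hyU, hy⟩ := hU a0 ha0U ha00
    apply hy
    have := hspan y hyU
    refine Submodule.span_induction (p := fun y _ => B a0 y = 0) ?_ ?_ ?_ ?_ this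
    · rintro z ⟨hzU, hz⟩
      exact hcon z hzU hz
    · simp
    · intro x y _ _ hx hy
      rw [map_add, hx, hy, add_zero]
    · intro c x _ hx
      rw [map_smulₛₗ, hx, smul_zero]
  have hb0 : b ≠ 0 := by
    rintro rfl
    simp at hab
  -- the partner of b
  obtain ⟨fb, hfbU, hfb, hbfb⟩ := exists_partner hσ hB hU hbU hb0 hb
  have hfbb : B fb b = 1 := by rw [hB b fb, hbfb, map_one]
  -- λ0
  have hl0 : (ζ * B a0 b) • b ∈ A := P1 b hbU hb a0 ha0A ζ hζ
  have hl00 : ζ * B a0 b ≠ 0 := mul_ne_zero hζ0 hab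
  -- F0-closure
  have hF0 : ∀ l : F, l • b ∈ A → ∀ r : F, σ r = r → (r * l) • b ∈ A := by
    intro l hl r hr
    have h1 := P1 fb hfbU hfb _ hl ζ hζ
    rw [map_smul, LinearMap.smul_apply, smul_eq_mul, hbfb, mul_one] at h1
    have hc : σ (ζ * (r / (ζ * ζ))) = -(ζ * (r / (ζ * ζ))) := by
      rw [map_mul, map_div₀, hζ2, hr, hζ]; ring
    have h2 := P1 b hbU hb _ h1 _ hc
    rw [map_smul, LinearMap.smul_apply, smul_eq_mul, hfbb, mul_one] at h2
    have : ζ * (r / (ζ * ζ)) * (ζ * l) = r * l := by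
      field_simp
    rwa [this] at h2
  -- the triangle
  obtain ⟨z, hzU, hz⟩ := h3 b fb
  set z1 := z - B z fb • b - B z b • fb with hz1
  have hU1 := nondegOn_pair hB hU hbU hfbU hb hfb hbfb
  have hz1U1 : z1 ∈ U ⊓ orthV B b ⊓ orthV B fb := by
    refine Submodule.mem_inf.mpr ⟨Submodule.mem_inf.mpr
      ⟨U.sub_mem (U.sub_mem hzU (U.smul_mem _ hbU)) (U.smul_mem _ hfbU), mem_orthV.mpr ?_⟩,
      mem_orthV.mpr ?_⟩
    · simp only [hz1, map_sub, map_smul, LinearMap.sub_apply, LinearMap.smul_apply, smul_eq_mul,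
        hb, hfbb]
      ring
    · simp only [hz1, map_sub, map_smul, LinearMap.sub_apply, LinearMap.smul_apply, smul_eq_mul,
        hfb, hbfb]
      ring
  have hz10 : z1 ≠ 0 := by
    intro h0
    apply hz
    have hzeq : z = B z fb • b + B z b • fb := by
      have h := h0
      rw [hz1, sub_sub, sub_eq_zero] at h
      exact h
    rw [hzeq]
    exact Submodule.add_mem _ (Submodule.smul_mem _ _ (Submodule.subset_span (by simp)))
      (Submodule.smul_mem _ _ (Submodule.subset_span (by simp)))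
  obtain ⟨d, hdU1, hd⟩ := exists_aniso hσ hB hU1 hz1U1 hz10
  have hdU : d ∈ U := hdU1.1.1
  have hdb : B d b = 0 := mem_orthV.mp hdU1.1.2
  have hdfb : B d fb = 0 := mem_orthV.mp hdU1.2
  have hbd : B b d = 0 := herm_eq_zero hB hdb
  have hfbd : B fb d = 0 := herm_eq_zero hB hdfb
  obtain ⟨μ, hμ⟩ := tr_surj hσ (-(B d d)) (by rw [map_neg, herm_self hB])
  have hb2U : b + μ • fb + d ∈ U := U.add_mem (U.add_mem hbU (U.smul_mem _ hfbU)) hdU
  have hb2 : B (b + μ • fb + d) (b + μ • fb + d) = 0 := by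
    simp only [map_add, map_smul, map_smulₛₗ, LinearMap.add_apply, LinearMap.smul_apply,
      smul_eq_mul, hb, hfb, hbfb, hfbb, hdb, hdfb, hbd, hfbd]
    linear_combination hμ
  have hfbb2 : B fb (b + μ • fb + d) = 1 := by
    simp only [map_add, map_smulₛₗ, smul_eq_mul, hfbb, hfb, hfbd]
    ring
  have hb2b : B (b + μ • fb + d) b = μ := by
    simp only [map_add, map_smul, LinearMap.add_apply, LinearMap.smul_apply, smul_eq_mul, hb, hfbb,
      hdb]
    ring
  have hω : σ (ζ * μ) ≠ ζ * μ := by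
    intro h
    rw [map_mul, hζ] at h
    apply hd
    have h0 : ζ * (μ + σ μ) = 0 := by linear_combination -h
    rcases mul_eq_zero.mp h0 with h' | h'
    · exact absurd h' hζ0
    · linear_combination hμ - h'
  have htri : ∀ l : F, l • b ∈ A → (ζ * μ * l) • b ∈ A := by
    intro l hl
    have h1 := P1 fb hfbU hfb _ hl ζ hζ
    rw [map_smul, LinearMap.smul_apply, smul_eq_mul, hbfb, mul_one] at h1
    have h2 := P1 _ hb2U hb2 _ h1 ζ hζ
    rw [map_smul, LinearMap.smul_apply, smul_eq_mul, hfbb2, mul_one] at h2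
    have h3 := P1 b hbU hb _ h2 ζ hζ
    rw [map_smul, LinearMap.smul_apply, smul_eq_mul, hb2b] at h3
    have h4 := hF0 _ h3 (1 / (ζ * ζ)) (by rw [map_div₀, map_one, hζ2])
    have : 1 / (ζ * ζ) * (ζ * (ζ * (ζ * l) * μ)) = ζ * μ * l := by field_simp
    rwa [this] at h4
  have hall : ∀ x : F, x • b ∈ A := by
    intro x
    obtain ⟨r, s, hr, hs, hx⟩ := decomp hσ hω (x / (ζ * B a0 b))
    have h1 := hF0 _ hl0 r hr
    have h2 := hF0 _ (htri _ hl0) s hs
    have h3 := A.add_mem h1 h2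
    rw [← add_smul] at h3
    have hx' : x = (r + s * (ζ * μ)) * (ζ * B a0 b) := by
      rw [← hx]
      field_simp
    have e : r * (ζ * B a0 b) + s * (ζ * μ * (ζ * B a0 b)) = x := by
      rw [hx']; ring
    rwa [e] at h3
  have step : ∀ b1 ∈ U, B b1 b1 = 0 → (∀ x : F, x • b1 ∈ A) → ∀ b' ∈ U, B b' b' = 0 →
      B b1 b' ≠ 0 → ∀ x : F, x • b' ∈ A := by
    intro b1 hb1U hb1 hall1 b' hb'U hb' hne x
    have h1 := P1 b' hb'U hb' _ (hall1 (x / (ζ * B b1 b'))) ζ hζ
    rw [map_smul, LinearMap.smul_apply, smul_eq_mul] at h1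
    have e : ζ * (x / (ζ * B b1 b') * B b1 b') = x := by field_simp
    rwa [e] at h1
  have hiso_all : ∀ b' ∈ U, B b' b' = 0 → ∀ x : F, x • b' ∈ A := by
    intro b' hb'U hb' x
    by_cases hb'0 : b' = 0
    · rw [hb'0, smul_zero]; exact A.zero_mem
    by_cases hbb' : B b b' = 0
    · obtain ⟨b'', hb''U, hb'', h1, h2⟩ := exists_connect hσ hB hU hbU hb'U hb0 hb'0 hb hbb'
      have hall'' := step b hbU hb hall b'' hb''U hb'' h1
      exact step b'' hb''U hb'' hall'' b' hb'U hb' (herm_ne_zero hσ hB h2) x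
    · exact step b hbU hb hall b' hb'U hb' hbb' x
  intro x hx
  have hxs := hspan x hx
  have key : ∀ c : F, c • x ∈ A := by
    refine Submodule.span_induction (p := fun y _ => ∀ c : F, c • y ∈ A) ?_ ?_ ?_ ?_ hxs
    · rintro z ⟨hzU, hz⟩ c
      exact hiso_all z hzU hz c
    · intro c
      rw [smul_zero]; exact A.zero_mem
    · intro y y' _ _ hy hy' c
      rw [smul_add]; exact A.add_mem (hy c) (hy' c)
    · intro c' y _ hy c
      rw [smul_smul]; exact hy _
  have := key 1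
  rwa [one_smul] at this

end Cfsg.Agent.Lib.Helper94_HermIrr
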