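import Mathlib
import Cfsg.Agent.Lib.Helper94_Herm
import Cfsg.Agent.Lib.Helper94_HermIrr

set_option autoImplicit false

/-!
Two hermitian forms (finite field, dimension at least four), the first one nondegenerate, such that
every isotropic vector of the first is isotropic for the second: the second is a multiple of the
first.
-/

namespace Cfsg.Agent.Lib.Helper94_HermCone

open Module Cfsg.Agent.Lib.Helper94_Symp Cfsg.Agent.Lib.Helper94_Herm
  Cfsg.Agent.Lib.Helper94_HermIrr

variable {F V : Type*} [Field F] [AddCommGroup V] [Module F V]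
variable {σ : F →+* F} {B B' : V →ₗ[F] V →ₛₗ[σ] F}

theorem prop_of_cone [Finite F] (hσ : Invol σ) (hB : IsHerm B) (hB' : IsHerm B')
    (hN : NondegOn B ⊤) (h4 : ∀ x y z : V, ∃ w : V, w ∉ Submodule.span F {x, y, z})
    (hcone : ∀ u, B u u = 0 → B' u u = 0) :
    ∃ c : F, ∀ x y, B' x y = c * B x y := by
  obtain ⟨ζ, hζ0, hζ⟩ := exists_skew hσ
  have h2top : ∀ x : V, ∃ z ∈ (⊤ : Submodule F V), z ∉ Submodule.span F {x} := by
    intro x
    obtain ⟨w, hw⟩ := h4 x x x
    exact ⟨w, trivial, by simpa using hw⟩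
  obtain ⟨e, -, f, -, he, hf, hef⟩ := exists_pair hσ hB hN h2top
  -- e1
  have e1 : ∀ u u', B u u = 0 → B u' u' = 0 → B u u' = 0 → B' u u' = 0 := by
    intro u u' hu hu' huu'
    apply eq_zero_of_tr hσ
    intro l
    have h1 : B (u + l • u') (u + l • u') = 0 := by
      rw [self_add hB, self_smul, hu, hu', map_smulₛₗ, huu']
      simp
    have h2 := hcone _ h1
    rw [self_add hB', self_smul, hcone u hu, hcone u' hu', map_smulₛₗ, smul_eq_mul, map_mul,
      hσ.invol] at h2
    linear_combination h2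
  -- e2
  have e2 : ∀ u u', B u u = 0 → B u' u' = 0 → B u u' = 1 → σ (B' u u') = B' u u' := by
    intro u u' hu hu' huu'
    have h1 : B (u + ζ • u') (u + ζ • u') = 0 := by
      rw [self_add hB, self_smul, hu, hu', map_smulₛₗ, huu', smul_eq_mul, mul_one, hσ.invol, hζ]
      ring
    have h2 := hcone _ h1
    rw [self_add hB', self_smul, hcone u hu, hcone u' hu', map_smulₛₗ, smul_eq_mul, map_mul,
      hσ.invol, hζ] at h2
    have h3 : ζ * (σ (B' u u') - B' u u') = 0 := by linear_combination h2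
    rcases mul_eq_zero.mp h3 with h | h
    · exact absurd h hζ0
    · exact sub_eq_zero.mp h
  -- e3/e4
  have e4 : ∀ e0 f0, B e0 e0 = 0 → B f0 f0 = 0 → B e0 f0 = 1 →
      ∀ x, B' x e0 = B' f0 e0 * B x e0 := by
    intro e0 f0 he0 hf0 hef0 x
    have hfe0 : B f0 e0 = 1 := by rw [hB e0 f0, hef0, map_one]
    have hU1 := nondegOn_pair hB hN (Submodule.mem_top : e0 ∈ ⊤) (Submodule.mem_top : f0 ∈ ⊤)
      he0 hf0 hef0
    have hproj : ∀ w : V, w - B w f0 • e0 - B w e0 • f0 ∈ (⊤ ⊓ orthV B e0 ⊓ orthV B f0 :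
        Submodule F V) := by
      intro w
      refine Submodule.mem_inf.mpr ⟨Submodule.mem_inf.mpr ⟨trivial, mem_orthV.mpr ?_⟩,
        mem_orthV.mpr ?_⟩
      · simp only [map_sub, map_smul, LinearMap.sub_apply, LinearMap.smul_apply, smul_eq_mul, he0,
          hfe0]
        ring
      · simp only [map_sub, map_smul, LinearMap.sub_apply, LinearMap.smul_apply, smul_eq_mul, hf0,
          hef0]
        ring
    have h2U1 : ∀ x : V, ∃ z ∈ (⊤ ⊓ orthV B e0 ⊓ orthV B f0 : Submodule F V),
        z ∉ Submodule.span F {x} := by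
      intro y
      obtain ⟨w, hw⟩ := h4 e0 f0 y
      refine ⟨_, hproj w, ?_⟩
      intro hmem
      apply hw
      obtain ⟨k, hk⟩ := Submodule.mem_span_singleton.mp hmem
      have : w = B w f0 • e0 + B w e0 • f0 + k • y := by
        rw [hk]; abel
      rw [this]
      refine Submodule.add_mem _ (Submodule.add_mem _ ?_ ?_) ?_
      · exact Submodule.smul_mem _ _ (Submodule.subset_span (by simp))
      · exact Submodule.smul_mem _ _ (Submodule.subset_span (by simp))
      · exact Submodule.smul_mem _ _ (Submodule.subset_span (by simp))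
    obtain ⟨e1', he1U, f1, hf1U, he1, hf1, hef1⟩ := exists_pair hσ hB hU1 h2U1
    have hspan1 := span_iso hσ hB he1U hf1U he1 hf1 hef1
    -- every element of U1 is B'-orthogonal to e0
    have hU1e0 : ∀ y ∈ (⊤ ⊓ orthV B e0 ⊓ orthV B f0 : Submodule F V), B' y e0 = 0 := by
      intro y hy
      refine Submodule.span_induction (p := fun y _ => B' y e0 = 0) ?_ ?_ ?_ ?_ (hspan1 y hy)
      · rintro z ⟨hzU, hz⟩
        exact e1 z e0 hz he0 (mem_orthV.mp hzU.1.2)
      · simp
      · intro a b _ _ ha hb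
        rw [map_add, LinearMap.add_apply, ha, hb, add_zero]
      · intro k a _ ha
        rw [map_smul, LinearMap.smul_apply, ha, smul_zero]
    have h5 := hU1e0 _ (hproj x)
    simp only [map_sub, map_smul, LinearMap.sub_apply, LinearMap.smul_apply, smul_eq_mul,
      hcone e0 he0] at h5
    linear_combination h5
  -- the constant attached to an isotropic vector
  have e5 : ∀ e0 f0 e0' f0', B e0 e0 = 0 → B f0 f0 = 0 → B e0 f0 = 1 → B e0' e0' = 0 →
      B f0' f0' = 0 → B e0' f0' = 1 → B e0 e0' ≠ 0 → B' f0 e0 = B' f0' e0' := by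
    intro e0 f0 e0' f0' he0 hf0 hef0 he0' hf0' hef0' hne
    have hfe0 : B f0 e0 = 1 := by rw [hB e0 f0, hef0, map_one]
    have hfe0' : B f0' e0' = 1 := by rw [hB e0' f0', hef0', map_one]
    have h1 := e4 e0 f0 he0 hf0 hef0 e0'
    have h2 := e4 e0' f0' he0' hf0' hef0' e0
    have hc' : σ (B' f0' e0') = B' f0' e0' := e2 f0' e0' hf0' he0' hfe0'
    have h3 : B' e0' e0 = σ (B' e0 e0') := hB' e0 e0'
    rw [h2, map_mul, hc', ← hB e0 e0', h1] at h3
    have h4' : (B' f0 e0 - B' f0' e0') * B e0' e0 = 0 := by linear_combination h3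
    rcases mul_eq_zero.mp h4' with h | h
    · exact sub_eq_zero.mp h
    · exact absurd h (herm_ne_zero hσ hB hne)
  have e6 : ∀ e0 f0, B e0 e0 = 0 → B f0 f0 = 0 → B e0 f0 = 1 → B' f0 e0 = B' f e := by
    intro e0 f0 he0 hf0 hef0
    have he00 : e0 ≠ 0 := by
      rintro rfl
      simp at hef0
    have hee0 : e ≠ 0 := by
      rintro rfl
      simp at hef
    by_cases hne : B e0 e = 0
    · obtain ⟨b'', -, hb'', h1, h2⟩ := exists_connect hσ hB hN (Submodule.mem_top : e0 ∈ ⊤)
        (Submodule.mem_top : e ∈ ⊤) he00 hee0 he0 hne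
      have hb''0 : b'' ≠ 0 := by
        rintro rfl
        simp at h1
      obtain ⟨f'', -, hf'', hef''⟩ := exists_partner hσ hB hN (Submodule.mem_top : b'' ∈ ⊤)
        hb''0 hb''
      rw [e5 e0 f0 b'' f'' he0 hf0 hef0 hb'' hf'' hef'' h1]
      exact e5 b'' f'' e f hb'' hf'' hef'' he hf hef (herm_ne_zero hσ hB h2)
    · exact e5 e0 f0 e f he0 hf0 hef0 he hf hef hne
  refine ⟨B' f e, ?_⟩
  have hiso : ∀ z, B z z = 0 → ∀ x, B' x z = B' f e * B x z := by
    intro z hz x
    by_cases hz0 : z = 0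
    · subst hz0
      simp
    · obtain ⟨fz, -, hfz, hzfz⟩ := exists_partner hσ hB hN (Submodule.mem_top : z ∈ ⊤) hz0 hz
      rw [e4 z fz hz hfz hzfz x, e6 z fz hz hfz hzfz]
  have hspan := span_iso hσ hB (Submodule.mem_top : e ∈ ⊤) (Submodule.mem_top : f ∈ ⊤) he hf hef
  intro x y
  refine Submodule.span_induction (p := fun y _ => B' x y = B' f e * B x y) ?_ ?_ ?_ ?_
    (hspan y trivial)
  · rintro z ⟨-, hz⟩
    exact hiso z hz x
  · simp
  · intro a b _ _ ha hb
    rw [map_add, map_add, ha, hb]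
    ring
  · intro k a _ ha
    rw [map_smulₛₗ, map_smulₛₗ, ha, smul_eq_mul, smul_eq_mul]
    ring

end Cfsg.Agent.Lib.Helper94_HermCone
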