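import Mathlib
import Cfsg.Agent.Lib.Helper94_Symp

set_option autoImplicit false
set_option linter.unusedSimpArgs false

/-!
Maximality of the stabiliser of a proper nonzero subspace in the group `K` generated by all
transvections of a finite-dimensional vector space (i.e. in the special linear group).
-/

namespace Cfsg.Agent.Lib.Helper94_LinStab

open Module Cfsg.Agent.Lib.Helper94_Symp

variable {F V : Type*} [Field F] [AddCommGroup V] [Module F V]

/-- Conjugating a transvection. -/
lemma conj_transvection (g : V ≃ₗ[F] V) (φ : Dual F V) (v : V) (h : φ v = 0)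
    (h' : (φ ∘ₗ (g⁻¹ : V ≃ₗ[F] V).toLinearMap) (g v) = 0) :
    g * LinearEquiv.transvection h * g⁻¹ = LinearEquiv.transvection h' := by
  ext x
  simp [LinearEquiv.mul_apply, LinearEquiv.transvection.apply, LinearMap.transvection.apply]

lemma transvection_smul_right (φ : Dual F V) (v : V) (a : F) (h : φ (a • v) = 0)
    (h' : (a • φ) v = 0) : LinearEquiv.transvection h = LinearEquiv.transvection h' := by
  ext x
  simp [LinearEquiv.transvection.apply, LinearMap.transvection.apply, smul_smul, mul_comm]

variable [FiniteDimensional F V]

theorem maximal_stab_subspace (W : Submodule F V) (hW0 : W ≠ ⊥) (hW1 : W ≠ ⊤)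
    (K : Subgroup (V ≃ₗ[F] V))
    (hK1 : ∀ (φ : Dual F V) (v : V) (h : φ v = 0), LinearEquiv.transvection h ∈ K)
    (hK2 : ∀ M : Subgroup (V ≃ₗ[F] V),
      (∀ (φ : Dual F V) (v : V) (h : φ v = 0), LinearEquiv.transvection h ∈ M) → K ≤ M) :
    (stab W ⊓ K < K) ∧ ∀ M : Subgroup (V ≃ₗ[F] V), stab W ⊓ K ≤ M → M ≤ K →
      M = stab W ⊓ K ∨ M = K := by
  constructor
  · refine lt_of_le_of_ne inf_le_right ?_
    intro heq
    obtain ⟨w, hwW, hw0⟩ := Submodule.exists_mem_ne_zero_of_ne_bot hW0
    have hlt : W < ⊤ := lt_top_iff_ne_top.mpr hW1
    obtain ⟨y, -, hyW⟩ := SetLike.exists_of_lt hlt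
    have hwy : w ∉ Submodule.span F {y} := by
      intro h
      obtain ⟨c, rfl⟩ := Submodule.mem_span_singleton.mp h
      have hc : c ≠ 0 := by
        rintro rfl
        exact hw0 (zero_smul _ _)
      apply hyW
      have : y = c⁻¹ • (c • y) := by rw [smul_smul, inv_mul_cancel₀ hc, one_smul]
      rw [this]; exact W.smul_mem _ hwW
    obtain ⟨φ, hφw, hφy⟩ := Submodule.exists_le_ker_of_notMem hwy
    have hφy0 : φ y = 0 := by
      have := hφy (Submodule.mem_span_singleton_self y)
      simpa using this
    have hmem : LinearEquiv.transvection hφy0 ∈ stab W ⊓ K := by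
      rw [heq]; exact hK1 _ _ _
    have := (mem_stab.mp hmem.1 w).mp hwW
    rw [LinearEquiv.transvection.apply] at this
    apply hyW
    have h2 : φ w • y ∈ W := by
      have := W.sub_mem this hwW
      simpa using this
    have : y = (φ w)⁻¹ • (φ w • y) := by rw [smul_smul, inv_mul_cancel₀ hφw, one_smul]
    rw [this]; exact W.smul_mem _ h2
  · intro M hHM hMK
    -- the subspace Z
    have hZinv : ∀ g ∈ M, ∀ v : V, (∀ (φ : Dual F V) (h : φ v = 0), LinearEquiv.transvection h ∈ M) →
        ∀ (φ : Dual F V) (h : φ (g v) = 0), LinearEquiv.transvection h ∈ M := by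
      intro g hg v hv φ h
      have h1 : (φ ∘ₗ (g : V ≃ₗ[F] V).toLinearMap) v = 0 := by simpa using h
      have h2 : ((φ ∘ₗ (g : V ≃ₗ[F] V).toLinearMap) ∘ₗ (g⁻¹ : V ≃ₗ[F] V).toLinearMap) (g v) = 0 := by
        simp [inv_apply_apply', h]
      have := conj_transvection g _ v h1 h2
      have h3 : LinearEquiv.transvection h2 = LinearEquiv.transvection h := by
        ext x
        simp [LinearEquiv.transvection.apply, LinearMap.transvection.apply, apply_inv_apply']
      rw [← h3, ← this]
      exact M.mul_mem (M.mul_mem hg (hv _ h1)) (M.inv_mem hg)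
    let Z : Submodule F V :=
      { carrier := {v | ∀ (φ : Dual F V) (h : φ v = 0), LinearEquiv.transvection h ∈ M}
        zero_mem' := by
          intro φ h
          have : LinearEquiv.transvection h = 1 := by
            ext x; simp [LinearEquiv.transvection.apply, LinearMap.transvection.apply]
          rw [this]; exact M.one_mem
        smul_mem' := by
          intro a v hv φ h
          have h' : (a • φ) v = 0 := by
            simpa [mul_comm] using h
          rw [transvection_smul_right φ v a h h']
          exact hv _ h'
        add_mem' := by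
          intro v w hv hw
          by_cases hvw : v ∈ Submodule.span F {w}
          · obtain ⟨c, rfl⟩ := Submodule.mem_span_singleton.mp hvw
            intro φ h
            have e : c • w + w = (c + 1) • w := by rw [add_smul, one_smul]
            have h0 : φ ((c + 1) • w) = 0 := by rw [← e]; exact h
            have h' : ((c + 1) • φ) w = 0 := by
              simpa [mul_comm] using h0
            have e2 : LinearEquiv.transvection h = LinearEquiv.transvection h0 := by
              ext x
              simp [LinearEquiv.transvection.apply, LinearMap.transvection.apply, e]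
            rw [e2, transvection_smul_right φ w (c + 1) h0 h']
            exact hw _ h'
          · obtain ⟨ψ, hψv, hψw⟩ := Submodule.exists_le_ker_of_notMem hvw
            have hψw0 : ψ w = 0 := by
              have := hψw (Submodule.mem_span_singleton_self w)
              simpa using this
            have hψ' : ((ψ v)⁻¹ • ψ) w = 0 := by simp [hψw0]
            have hmem : LinearEquiv.transvection hψ' ∈ M := hw _ hψ'
            have := hZinv _ hmem v hv
            have e : LinearEquiv.transvection hψ' v = v + w := by
              simp [LinearEquiv.transvection.apply, LinearMap.transvection.apply, hψv]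
            rw [e] at this
            exact this }
    have hZmem : ∀ v, v ∈ Z ↔ ∀ (φ : Dual F V) (h : φ v = 0), LinearEquiv.transvection h ∈ M :=
      fun v => Iff.rfl
    have hWZ : W ≤ Z := by
      intro v hv φ h
      apply hHM
      refine ⟨mem_stab_of_forall_mem ?_, hK1 _ _ _⟩
      intro x hx
      rw [LinearEquiv.transvection.apply]
      exact W.add_mem hx (W.smul_mem _ hv)
    by_cases hMs : M ≤ stab W
    · left
      exact le_antisymm (fun g hg => ⟨hMs hg, hMK hg⟩) hHM
    · right
      apply le_antisymm hMK
      obtain ⟨g, hgM, hgs⟩ := SetLike.not_le_iff_exists.mp hMs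
      have : ∃ w ∈ W, g w ∉ W := by
        by_contra hcon
        push Not at hcon
        exact hgs (mem_stab_of_forall_mem hcon)
      obtain ⟨w, hwW, hgw⟩ := this
      set z := g w with hz
      have hzZ : z ∈ Z := (hZmem _).mpr (hZinv g hgM w ((hZmem _).mp (hWZ hwW)))
      obtain ⟨φ, hφz, hφW⟩ := Submodule.exists_le_ker_of_notMem hgw
      have hZtop : Z = ⊤ := by
        by_contra hne
        have hker : ¬ (LinearMap.ker φ ≤ Z) := by
          intro hle
          apply hne
          rw [eq_top_iff]
          intro x _
          have hx1 : x - ((φ x) * (φ z)⁻¹) • z ∈ LinearMap.ker φ := by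
            rw [LinearMap.mem_ker, map_sub, map_smul, smul_eq_mul, mul_assoc,
              inv_mul_cancel₀ hφz, mul_one, sub_self]
          have := Z.add_mem (hle hx1) (Z.smul_mem ((φ x) * (φ z)⁻¹) hzZ)
          simpa using this
        obtain ⟨y, hyker, hyZ⟩ := SetLike.not_le_iff_exists.mp hker
        have hφy : φ y = 0 := LinearMap.mem_ker.mp hyker
        have hmemH : LinearEquiv.transvection hφy ∈ stab W ⊓ K := by
          refine ⟨mem_stab_of_forall_mem ?_, hK1 _ _ _⟩
          intro x hx
          have : φ x = 0 := LinearMap.mem_ker.mp (hφW hx)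
          rw [LinearEquiv.transvection.apply, this, zero_smul, add_zero]
          exact hx
        have h1 := hZinv _ (hHM hmemH) z ((hZmem _).mp hzZ)
        have h2 : LinearEquiv.transvection hφy z ∈ Z := (hZmem _).mpr h1
        rw [LinearEquiv.transvection.apply] at h2
        have h3 : φ z • y ∈ Z := by
          have := Z.sub_mem h2 hzZ
          simpa using this
        apply hyZ
        have : y = (φ z)⁻¹ • (φ z • y) := by rw [smul_smul, inv_mul_cancel₀ hφz, one_smul]
        rw [this]; exact Z.smul_mem _ h3
      apply hK2
      intro φ' v h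
      have : v ∈ Z := by rw [hZtop]; trivial
      exact (hZmem v).mp this φ' h

end Cfsg.Agent.Lib.Helper94_LinStab
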