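import Mathlib
import Cfsg.Agent.Lib.Helper94_Herm
import Cfsg.Agent.Lib.Helper94_HermIrr
import Cfsg.Agent.Lib.Helper94_HermCone
import Cfsg.Agent.Lib.Helper94_LinStab

set_option autoImplicit false

/-!
The group of similarities of a nondegenerate hermitian form over a finite field, intersected with
the group `K` generated by all transvections (the special linear group), is maximal in `K`.
-/

namespace Cfsg.Agent.Lib.Helper94_HermSim

open Module Cfsg.Agent.Lib.Helper94_Symp Cfsg.Agent.Lib.Helper94_Herm
  Cfsg.Agent.Lib.Helper94_HermIrr Cfsg.Agent.Lib.Helper94_HermCone Cfsg.Agent.Lib.Helper94_LinStab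

variable {F V : Type*} [Field F] [AddCommGroup V] [Module F V]

section Dir

/-- The directions all of whose transvections belong to `M`. -/
def dirSub (M : Subgroup (V ≃ₗ[F] V)) : Submodule F V where
  carrier := {v | ∀ (φ : Dual F V) (h : φ v = 0), LinearEquiv.transvection h ∈ M}
  zero_mem' := by
    intro φ h
    have : LinearEquiv.transvection h = 1 := by
      ext x; simp [LinearEquiv.transvection.apply, LinearMap.transvection.apply]
    rw [this]; exact M.one_mem
  smul_mem' := by
    intro a v hv φ h
    have h' : (a • φ) v = 0 := by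
      simpa [mul_comm] using h
    rw [transvection_smul_right φ v a h h']
    exact hv _ h'
  add_mem' := by
    intro v w hv hw
    have hZinv : ∀ g ∈ M, ∀ v : V,
        (∀ (φ : Dual F V) (h : φ v = 0), LinearEquiv.transvection h ∈ M) →
        ∀ (φ : Dual F V) (h : φ (g v) = 0), LinearEquiv.transvection h ∈ M := by
      intro g hg v hv φ h
      have h1 : (φ ∘ₗ (g : V ≃ₗ[F] V).toLinearMap) v = 0 := by simpa using h
      have h2 : ((φ ∘ₗ (g : V ≃ₗ[F] V).toLinearMap) ∘ₗ (g⁻¹ : V ≃ₗ[F] V).toLinearMap) (g v) = 0 := by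
        simp [inv_apply_apply', h]
      have := conj_transvection g _ v h1 h2
      have h3 : LinearEquiv.transvection h2 = LinearEquiv.transvection h := by
        ext x
        simp [LinearEquiv.transvection.apply, LinearMap.transvection.apply, apply_inv_apply']
      rw [← h3, ← this]
      exact M.mul_mem (M.mul_mem hg (hv _ h1)) (M.inv_mem hg)
    by_cases hvw : v ∈ Submodule.span F {w}
    · obtain ⟨c, rfl⟩ := Submodule.mem_span_singleton.mp hvw
      intro φ h
      have e : c • w + w = (c + 1) • w := by rw [add_smul, one_smul]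
      have h0 : φ ((c + 1) • w) = 0 := by rw [← e]; exact h
      have h' : ((c + 1) • φ) w = 0 := by
        simpa [mul_comm] using h0
      have e2 : LinearEquiv.transvection h = LinearEquiv.transvection h0 := by
        ext x
        simp [LinearEquiv.transvection.apply, LinearMap.transvection.apply, e]
      rw [e2, transvection_smul_right φ w (c + 1) h0 h']
      exact hw _ h'
    · obtain ⟨ψ, hψv, hψw⟩ := Submodule.exists_le_ker_of_notMem hvw
      have hψw0 : ψ w = 0 := by
        have := hψw (Submodule.mem_span_singleton_self w)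
        simpa using this
      have hψ' : ((ψ v)⁻¹ • ψ) w = 0 := by simp [hψw0]
      have hmem : LinearEquiv.transvection hψ' ∈ M := hw _ hψ'
      have := hZinv _ hmem v hv
      have e : LinearEquiv.transvection hψ' v = v + w := by
        simp [LinearEquiv.transvection.apply, LinearMap.transvection.apply, hψv]
      rw [e] at this
      exact this

lemma mem_dirSub {M : Subgroup (V ≃ₗ[F] V)} {v : V} :
    v ∈ dirSub M ↔ ∀ (φ : Dual F V) (h : φ v = 0), LinearEquiv.transvection h ∈ M := Iff.rfl

lemma dirSub_map {M : Subgroup (V ≃ₗ[F] V)} {g : V ≃ₗ[F] V} (hg : g ∈ M) {v : V}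
    (hv : v ∈ dirSub M) : g v ∈ dirSub M := by
  intro φ h
  have h1 : (φ ∘ₗ (g : V ≃ₗ[F] V).toLinearMap) v = 0 := by simpa using h
  have h2 : ((φ ∘ₗ (g : V ≃ₗ[F] V).toLinearMap) ∘ₗ (g⁻¹ : V ≃ₗ[F] V).toLinearMap) (g v) = 0 := by
    simp [inv_apply_apply', h]
  have := conj_transvection g _ v h1 h2
  have h3 : LinearEquiv.transvection h2 = LinearEquiv.transvection h := by
    ext x
    simp [LinearEquiv.transvection.apply, LinearMap.transvection.apply, apply_inv_apply']
  rw [← h3, ← this]
  exact M.mul_mem (M.mul_mem hg (hv _ h1)) (M.inv_mem hg)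

end Dir

variable {σ : F →+* F} (B : V →ₗ[F] V →ₛₗ[σ] F)

/-- The pullback of a sesquilinear form along a linear automorphism. -/
noncomputable def pull (g : V ≃ₗ[F] V) : V →ₗ[F] V →ₛₗ[σ] F :=
  (B.comp (g : V →ₗ[F] V)).compl₂ (g : V →ₗ[F] V)

@[simp] lemma pull_apply (g : V ≃ₗ[F] V) (x y : V) : pull B g x y = B (g x) (g y) := by
  simp [pull]

/-- The general transvection `x ↦ x + B x a • v`, for `B v a = 0`. -/
def gtv (a v : V) (h : B v a = 0) : V ≃ₗ[F] V :=
  LinearEquiv.transvection (f := B.flip a) (v := v) (by simpa using h)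

@[simp] lemma gtv_apply (a v : V) (h : B v a = 0) (x : V) : gtv B a v h x = x + B x a • v := by
  simp [gtv, LinearEquiv.transvection.apply, LinearMap.transvection.apply]

lemma gtv_mul (a a' v : V) (h : B v a = 0) (h' : B v a' = 0) (h'' : B v (a + a') = 0) :
    gtv B a v h * gtv B a' v h' = gtv B (a + a') v h'' := by
  ext x
  simp only [LinearEquiv.mul_apply, gtv_apply, map_add, map_smul, LinearMap.add_apply,
    LinearMap.smul_apply, h, smul_eq_mul, mul_zero, add_zero]
  module

lemma conj_gtv {g : V ≃ₗ[F] V} (hg : g ∈ uG B) (a v : V) (h : B v a = 0)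
    (h' : B (g v) (g a) = 0) : g * gtv B a v h * g⁻¹ = gtv B (g a) (g v) h' := by
  ext x
  simp only [LinearEquiv.mul_apply, gtv_apply, map_add, map_smul]
  rw [uG_inv_apply B hg, apply_inv_apply']

variable {B}

/-- Every linear functional is represented by the form (finite fields). -/
lemma exists_rep [Finite F] [FiniteDimensional F V] (hB : IsHerm B)
    (hN : NondegOn B ⊤) (φ : Dual F V) : ∃ a : V, ∀ x, B x a = φ x := by
  have : Finite V := Module.finite_of_finite F
  have : Finite (Dual F V) := Module.finite_of_finite F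
  have hcard : Nat.card (Dual F V) = Nat.card V := by
    rw [Module.natCard_eq_pow_finrank (K := F), Module.natCard_eq_pow_finrank (K := F) (V := V),
      Subspace.dual_finrank_eq]
  have hinj : Function.Injective (fun a : V => B.flip a) := by
    intro a a' h
    by_contra hne
    have hd : a - a' ≠ 0 := sub_ne_zero.mpr hne
    obtain ⟨y, -, hy⟩ := hN (a - a') trivial hd
    apply hy
    have h1 : ∀ x, B x (a - a') = 0 := by
      intro x
      have := congrArg (fun ψ : Dual F V => ψ x) h
      simp only [LinearMap.flip_apply] at this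
      rw [map_sub, this, sub_self]
    rw [hB y (a - a'), h1 y, map_zero]
  have hbij := hinj.bijective_of_nat_card_le (le_of_eq hcard)
  obtain ⟨a, ha⟩ := hbij.2 φ
  refine ⟨a, fun x => ?_⟩
  have := congrArg (fun ψ : Dual F V => ψ x) ha
  simpa using this

lemma exists_notMem_span3 [FiniteDimensional F V] (h : 4 ≤ finrank F V) (x y z : V) :
    ∃ w : V, w ∉ Submodule.span F {x, y, z} := by
  classical
  by_contra hcon
  push Not at hcon
  have htop : Submodule.span F ({x, y, z} : Set V) = ⊤ := eq_top_iff.mpr (fun w _ => hcon w)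
  have h1 := finrank_span_finset_le_card (R := F) ({x, y, z} : Finset V)
  have h2 : (({x, y, z} : Finset V) : Set V) = {x, y, z} := by simp
  rw [h2, Set.finrank, htop, finrank_top] at h1
  have := Finset.card_le_three (a := x) (b := y) (c := z)
  omega

variable (B) in
/-- The vectors `a` such that the transvection `x ↦ x + B x a • v` lies in `M`. -/
def dirAdd (M : Subgroup (V ≃ₗ[F] V)) (v : V) : AddSubgroup V where
  carrier := {a | ∃ h : B v a = 0, gtv B a v h ∈ M}
  zero_mem' := by
    refine ⟨by simp, ?_⟩
    have : gtv B 0 v (by simp) = 1 := by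
      ext x; simp
    rw [this]; exact M.one_mem
  add_mem' := by
    rintro a a' ⟨h, hm⟩ ⟨h', hm'⟩
    have h'' : B v (a + a') = 0 := by rw [map_add, h, h', add_zero]
    exact ⟨h'', by rw [← gtv_mul B a a' v h h' h'']; exact M.mul_mem hm hm'⟩
  neg_mem' := by
    rintro a ⟨h, hm⟩
    have h' : B v (-a) = 0 := by rw [map_neg, h, neg_zero]
    refine ⟨h', ?_⟩
    have h0 : B v (-a + a) = 0 := by simp
    have h1 : gtv B (-a) v h' * gtv B a v h = 1 := by
      rw [gtv_mul B (-a) a v h' h h0]
      ext x; simp
    rw [eq_inv_of_mul_eq_one_left h1]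
    exact M.inv_mem hm

lemma mem_dirAdd {M : Subgroup (V ≃ₗ[F] V)} {v a : V} :
    a ∈ dirAdd B M v ↔ ∃ h : B v a = 0, gtv B a v h ∈ M := Iff.rfl

theorem maximal_usim [Finite F] [FiniteDimensional F V] (hσ : Invol σ) (hB : IsHerm B)
    (hN : NondegOn B ⊤) (hdim : 5 ≤ finrank F V)
    (S K : Subgroup (V ≃ₗ[F] V))
    (hS : ∀ g, g ∈ S ↔ ∃ c : Fˣ, ∀ u v, B (g u) (g v) = (c : F) * B u v)
    (hK1 : ∀ (φ : Dual F V) (v : V) (h : φ v = 0), LinearEquiv.transvection h ∈ K)
    (hK2 : ∀ M : Subgroup (V ≃ₗ[F] V),
      (∀ (φ : Dual F V) (v : V) (h : φ v = 0), LinearEquiv.transvection h ∈ M) → K ≤ M) :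
    (S ⊓ K < K) ∧ ∀ M : Subgroup (V ≃ₗ[F] V), S ⊓ K ≤ M → M ≤ K → M = S ⊓ K ∨ M = K := by
  obtain ⟨ζ, hζ0, hζ⟩ := exists_skew hσ
  have hspan3 : ∀ x y z : V, ∃ w : V, w ∉ Submodule.span F {x, y, z} :=
    exists_notMem_span3 (by omega)
  have hN' : ∀ z : V, (∀ x, B x z = 0) → z = 0 := by
    intro z hz
    by_contra h0
    obtain ⟨y, -, hy⟩ := hN z trivial h0
    apply hy
    rw [hB y z, hz, map_zero]
  have h2top : ∀ x : V, ∃ z ∈ (⊤ : Submodule F V), z ∉ Submodule.span F {x} := by
    intro x
    obtain ⟨w, hw⟩ := hspan3 x x x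
    exact ⟨w, trivial, by simpa using hw⟩
  have h3top : ∀ x y : V, ∃ z ∈ (⊤ : Submodule F V), z ∉ Submodule.span F {x, y} := by
    intro x y
    obtain ⟨w, hw⟩ := hspan3 x y y
    exact ⟨w, trivial, by simpa using hw⟩
  obtain ⟨e, -, f, -, he, hf, hef⟩ := exists_pair hσ hB hN h2top
  have hfe : B f e = 1 := by rw [hB e f, hef, map_one]
  have hisoS : ∀ g, g ∈ uG B → g ∈ S := fun g hg =>
    (hS g).mpr ⟨1, fun u v => by rw [hg u v]; simp⟩
  have hutvH : ∀ a c, σ c = -c → utv B a c ∈ S ⊓ K := by
    intro a c hc
    refine ⟨hisoS _ (utv_mem_uG hB a hc), ?_⟩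
    unfold utv
    split_ifs with h
    · exact hK1 _ _ _
    · exact K.one_mem
  constructor
  · -- proper
    refine lt_of_le_of_ne inf_le_right ?_
    intro heq
    obtain ⟨w, hw⟩ := hspan3 e f f
    have hae : B (w - B w f • e - B w e • f) e = 0 := by
      simp only [map_sub, map_smul, LinearMap.sub_apply, LinearMap.smul_apply, smul_eq_mul, he, hfe]
      ring
    have haf : B (w - B w f • e - B w e • f) f = 0 := by
      simp only [map_sub, map_smul, LinearMap.sub_apply, LinearMap.smul_apply, smul_eq_mul, hf, hef]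
      ring
    have ha0 : w - B w f • e - B w e • f ≠ 0 := by
      intro h0
      apply hw
      have : w = B w f • e + B w e • f := by
        rw [sub_sub, sub_eq_zero] at h0
        exact h0
      rw [this]
      exact Submodule.add_mem _ (Submodule.smul_mem _ _ (Submodule.subset_span (by simp)))
        (Submodule.smul_mem _ _ (Submodule.subset_span (by simp)))
    generalize w - B w f • e - B w e • f = a at hae haf ha0
    have hea : B e a = 0 := herm_eq_zero hB hae
    have hfa : B f a = 0 := herm_eq_zero hB haf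
    have ht : gtv B a e hea ∈ S := by
      have : gtv B a e hea ∈ S ⊓ K := by rw [heq]; exact hK1 _ _ _
      exact this.1
    obtain ⟨c, hc⟩ := (hS _).mp ht
    have hc1 : (c : F) = 1 := by
      have := hc e f
      simp only [gtv_apply, hea, hfa, zero_smul, add_zero, hef, mul_one] at this
      exact this.symm
    apply ha0 (hN' a ?_)
    intro x
    have := hc x f
    simp only [gtv_apply, hfa, zero_smul, add_zero, map_add, map_smul, LinearMap.add_apply,
      LinearMap.smul_apply, hef, smul_eq_mul, mul_one, hc1, one_mul] at this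
    linear_combination this
  · intro M hHM hMK
    by_cases hMS : M ≤ S
    · left
      exact le_antisymm (fun g hg => ⟨hMS hg, hMK hg⟩) hHM
    · right
      apply le_antisymm hMK
      obtain ⟨g, hgM, hgS⟩ := SetLike.not_le_iff_exists.mp hMS
      obtain ⟨u, hu, hgu⟩ : ∃ u, B u u = 0 ∧ B (g u) (g u) ≠ 0 := by
        by_contra hcon
        push Not at hcon
        have hB' : IsHerm (pull B g) := fun x y => by
          rw [pull_apply, pull_apply]; exact hB _ _
        obtain ⟨c, hc⟩ := prop_of_cone hσ hB hB' hN hspan3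
          (fun u hu => by rw [pull_apply]; exact hcon u hu)
        have hc0 : c ≠ 0 := by
          rintro rfl
          have := hc (g⁻¹ e) (g⁻¹ f)
          rw [pull_apply, apply_inv_apply', apply_inv_apply', hef, zero_mul] at this
          exact one_ne_zero this
        apply hgS
        rw [hS]
        exact ⟨Units.mk0 c hc0, fun x y => by rw [← pull_apply, hc]; rfl⟩
      have hu0 : u ≠ 0 := by
        rintro rfl
        simp at hgu
      have hconj : g * utv B u ζ * g⁻¹ ∈ M :=
        M.mul_mem (M.mul_mem hgM (hHM (hutvH u ζ hζ))) (M.inv_mem hgM)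
      obtain ⟨a0, ha0⟩ := exists_rep hB hN ((ζ • B.flip u) ∘ₗ (g⁻¹ : V ≃ₗ[F] V).toLinearMap)
      have ha0' : ∀ x, B x a0 = ζ * B (g⁻¹ x) u := fun x => by rw [ha0]; simp
      have hva0 : B (g u) a0 = 0 := by rw [ha0', inv_apply_apply', hu, mul_zero]
      have ha00 : a0 ≠ 0 := by
        rintro rfl
        apply hu0
        apply hN'
        intro y
        have := ha0' (g y)
        rw [inv_apply_apply', map_zero] at this
        rcases mul_eq_zero.mp this.symm with h | h
        · exact absurd h hζ0
        · exact h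
      have ha0A : a0 ∈ dirAdd B M (g u) := by
        refine ⟨hva0, ?_⟩
        have : gtv B a0 (g u) hva0 = g * utv B u ζ * g⁻¹ := by
          ext x
          simp only [gtv_apply, LinearEquiv.mul_apply, utv_apply B hu, map_add, map_smul]
          rw [apply_inv_apply', ha0']
        rw [this]; exact hconj
      have hinv : ∀ a ∈ (⊤ ⊓ orthV B (g u) : Submodule F V), B a a = 0 → ∀ c, σ c = -c →
          ∀ x ∈ dirAdd B M (g u), utv B a c x ∈ dirAdd B M (g u) := by
        rintro a ⟨-, hav⟩ ha c hc x ⟨hx, hxm⟩
        have hav' : B a (g u) = 0 := mem_orthV.mp hav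
        have hva : B (g u) a = 0 := herm_eq_zero hB hav'
        have hkM : utv B a c ∈ M := hHM (hutvH a c hc)
        have hkI : utv B a c ∈ uG B := utv_mem_uG hB a hc
        have hkv : utv B a c (g u) = g u := utv_fix B a c hva
        have h' : B (utv B a c (g u)) (utv B a c x) = 0 := by rw [hkI, hx]
        have hcj := conj_gtv B hkI x (g u) hx h'
        have hm : gtv B (utv B a c x) (utv B a c (g u)) h' ∈ M := by
          rw [← hcj]; exact M.mul_mem (M.mul_mem hkM hxm) (M.inv_mem hkM)
        have h'' : B (g u) (utv B a c x) = 0 := by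
          have := h'
          rwa [hkv] at this
        refine ⟨h'', ?_⟩
        have e : gtv B (utv B a c x) (g u) h'' = gtv B (utv B a c x) (utv B a c (g u)) h' := by
          ext y
          simp [hkv]
        rw [e]; exact hm
      have hUnd : NondegOn B (⊤ ⊓ orthV B (g u)) := nondegOn_orthV hB hN trivial hgu
      have h3U : ∀ x y : V, ∃ z ∈ (⊤ ⊓ orthV B (g u) : Submodule F V),
          z ∉ Submodule.span F {x, y} := by
        intro x y
        obtain ⟨w, hw⟩ := hspan3 (g u) x y
        refine ⟨w - (B w (g u) / B (g u) (g u)) • g u, ⟨trivial, mem_orthV.mpr ?_⟩, ?_⟩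
        · rw [map_sub, map_smul, LinearMap.sub_apply, LinearMap.smul_apply, smul_eq_mul]
          field_simp
          ring
        · intro hmem
          apply hw
          have : w = (B w (g u) / B (g u) (g u)) • g u +
              (w - (B w (g u) / B (g u) (g u)) • g u) := by abel
          rw [this]
          refine Submodule.add_mem _ (Submodule.smul_mem _ _ (Submodule.subset_span (by simp))) ?_
          refine Submodule.span_mono ?_ hmem
          intro t ht
          simp only [Set.mem_insert_iff, Set.mem_singleton_iff] at ht ⊢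
          tauto
      have hall := mem_of_utv_invariant hσ hB hUnd h3U (dirAdd B M (g u)) hinv
        ⟨a0, ha0A, ⟨trivial, mem_orthV.mpr (herm_eq_zero hB hva0)⟩, ha00⟩
      have hvD : g u ∈ dirSub M := by
        intro φ hφ
        obtain ⟨a, ha⟩ := exists_rep hB hN φ
        have hva : B (g u) a = 0 := by rw [ha, hφ]
        obtain ⟨h, hm⟩ := hall a ⟨trivial, mem_orthV.mpr (herm_eq_zero hB hva)⟩
        have : LinearEquiv.transvection hφ = gtv B a (g u) h := by
          ext x
          simp [LinearEquiv.transvection.apply, LinearMap.transvection.apply, ha]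
        rw [this]; exact hm
      have hv0 : g u ≠ 0 := by
        intro h
        rw [h] at hgu
        simp at hgu
      have hDtop : ∀ x ∈ (⊤ : Submodule F V), x ∈ (dirSub M).toAddSubgroup := by
        apply mem_of_utv_invariant hσ hB hN h3top (dirSub M).toAddSubgroup
        · intro a _ ha c hc x hx
          exact dirSub_map (hHM (hutvH a c hc)) hx
        · exact ⟨g u, hvD, trivial, hv0⟩
      apply hK2
      intro φ w hφ
      exact hDtop w trivial φ hφ

end Cfsg.Agent.Lib.Helper94_HermSim
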