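import Mathlib
import Cfsg.Agent.Lib.Helper94_Herm
import Cfsg.Agent.Lib.Helper94_HermSim

set_option autoImplicit false

/-!
Orthogonal complements for nondegenerate hermitian forms over finite fields:
dimension formula, double orthogonal, orthogonal of an intersection.
-/

namespace Cfsg.Agent.Lib.Helper94_HermOrth

open Module Cfsg.Agent.Lib.Helper94_Symp Cfsg.Agent.Lib.Helper94_Herm Cfsg.Agent.Lib.Helper94_HermSim

variable {F V : Type*} [Field F] [AddCommGroup V] [Module F V]
variable {σ : F →+* F}

/-- The orthogonal complement of a subspace. -/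
def orthS (B : V →ₗ[F] V →ₛₗ[σ] F) (W : Submodule F V) : Submodule F V where
  carrier := {y | ∀ x ∈ W, B x y = 0}
  zero_mem' := by intro x _; simp
  add_mem' := by
    intro a b ha hb x hx
    rw [map_add, ha x hx, hb x hx, add_zero]
  smul_mem' := by
    intro c a ha x hx
    rw [map_smulₛₗ, ha x hx, smul_zero]

variable {B : V →ₗ[F] V →ₛₗ[σ] F}

lemma mem_orthS {W : Submodule F V} {y : V} : y ∈ orthS B W ↔ ∀ x ∈ W, B x y = 0 := Iff.rfl

lemma mem_orthS' (hB : IsHerm B) {W : Submodule F V} {y : V} :
    y ∈ orthS B W ↔ ∀ x ∈ W, B y x = 0 := by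
  rw [mem_orthS]
  constructor
  · intro h x hx
    exact herm_eq_zero hB (h x hx)
  · intro h x hx
    exact herm_eq_zero hB (h x hx)

lemma orthS_anti {A C : Submodule F V} (h : A ≤ C) : orthS B C ≤ orthS B A :=
  fun _ hy x hx => hy x (h hx)

lemma orthS_sup (A C : Submodule F V) : orthS B (A ⊔ C) = orthS B A ⊓ orthS B C := by
  apply le_antisymm
  · exact le_inf (orthS_anti le_sup_left) (orthS_anti le_sup_right)
  · rintro y ⟨hA, hC⟩ x hx
    obtain ⟨a, ha, c, hc, rfl⟩ := Submodule.mem_sup.mp hx
    rw [map_add, LinearMap.add_apply, hA a ha, hC c hc, add_zero]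

lemma le_orthS_orthS (hB : IsHerm B) (W : Submodule F V) : W ≤ orthS B (orthS B W) :=
  fun w hw y hy => herm_eq_zero hB (hy w hw)

variable [Finite F] [FiniteDimensional F V]

lemma finrank_orthS (hB : IsHerm B) (hN : NondegOn B ⊤) (W : Submodule F V) :
    finrank F W + finrank F (orthS B W) = finrank F V := by
  have : Finite V := Module.finite_of_finite F
  let ρ : V →+ Dual F W := AddMonoidHom.mk' (fun v => (B.flip v).comp W.subtype) (by
    intro a b
    ext x
    simp)
  have hker : ∀ v, v ∈ ρ.ker ↔ v ∈ orthS B W := by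
    intro v
    rw [AddMonoidHom.mem_ker, mem_orthS]
    constructor
    · intro h x hx
      have := congrArg (fun ψ : Dual F W => ψ ⟨x, hx⟩) h
      simpa [ρ] using this
    · intro h
      ext x
      simpa [ρ] using h x x.2
  have hsurj : Function.Surjective ρ := by
    intro φ
    obtain ⟨ψ, hψ⟩ := LinearMap.exists_extend φ
    obtain ⟨a, ha⟩ := exists_rep hB hN ψ
    refine ⟨a, ?_⟩
    ext x
    have := ha x
    simp only [ρ, AddMonoidHom.mk'_apply, LinearMap.comp_apply, Submodule.subtype_apply,
      LinearMap.flip_apply]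
    rw [this, ← hψ]
    rfl
  have hrange : ρ.range = ⊤ := AddMonoidHom.range_eq_top.mpr hsurj
  have c1 := AddSubgroup.card_mul_index ρ.ker
  rw [AddSubgroup.index_ker, hrange] at c1
  have c2 : Nat.card ρ.ker = Nat.card (orthS B W) :=
    Nat.card_congr (Equiv.subtypeEquivRight hker)
  have c3 : Nat.card (⊤ : AddSubgroup (Dual F W)) = Nat.card (Dual F W) :=
    Nat.card_congr (Equiv.Set.univ _)
  rw [c2, c3, Module.natCard_eq_pow_finrank (K := F) (V := V),
    Module.natCard_eq_pow_finrank (K := F) (V := orthS B W),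
    Module.natCard_eq_pow_finrank (K := F) (V := Dual F W), Subspace.dual_finrank_eq,
    ← pow_add] at c1
  have hq : 1 < Nat.card F := Finite.one_lt_card
  have := Nat.pow_right_injective hq c1
  omega

lemma orthS_orthS (hB : IsHerm B) (hN : NondegOn B ⊤) (W : Submodule F V) :
    orthS B (orthS B W) = W := by
  symm
  apply Submodule.eq_of_le_of_finrank_le (le_orthS_orthS hB W)
  have h1 := finrank_orthS hB hN W
  have h2 := finrank_orthS hB hN (orthS B W)
  omega

lemma orthS_inf (hB : IsHerm B) (hN : NondegOn B ⊤) (A C : Submodule F V) :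
    orthS B (A ⊓ C) = orthS B A ⊔ orthS B C := by
  have h := orthS_sup (B := B) (orthS B A) (orthS B C)
  rw [orthS_orthS hB hN, orthS_orthS hB hN] at h
  rw [← h, orthS_orthS hB hN]

end Cfsg.Agent.Lib.Helper94_HermOrth
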