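import Mathlib
import Cfsg.Agent.Lib.Helper94_Herm

set_option autoImplicit false

/-!
Eichler (Siegel) elements `x ↦ x + B x w • y - B x y • w + c * B x w • w` of a unitary group,
for `w` isotropic, `y` orthogonal to `w` and `c + σ c = - B y y`.
-/

namespace Cfsg.Agent.Lib.Helper94_HermEich

open Module Cfsg.Agent.Lib.Helper94_Symp Cfsg.Agent.Lib.Helper94_Herm

variable {F V : Type*} [Field F] [AddCommGroup V] [Module F V]
variable {σ : F →+* F} (B : V →ₗ[F] V →ₛₗ[σ] F)

open Classical in
/-- The Eichler element attached to `w`, `y`, `c` (the identity unless `w` is isotropic and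
orthogonal to `y`). -/
noncomputable def eich (w y : V) (c : F) : V ≃ₗ[F] V :=
  if h : B w w = 0 ∧ B y w = 0 ∧ B w y = 0 then
    LinearEquiv.transvection (f := -(B.flip y)) (v := w) (by simp [h.2.2]) *
    LinearEquiv.transvection (f := B.flip w) (v := y + (c + B y y) • w) (by simp [h.1, h.2.1])
  else 1

lemma eich_apply {w y : V} (hw : B w w = 0) (hyw : B y w = 0) (hwy : B w y = 0) (c : F) (x : V) :
    eich B w y c x = x + B x w • y - B x y • w + (c * B x w) • w := by
  have h : B w w = 0 ∧ B y w = 0 ∧ B w y = 0 := ⟨hw, hyw, hwy⟩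
  unfold eich
  rw [dif_pos h]
  simp only [LinearEquiv.mul_apply, LinearEquiv.transvection.apply, LinearMap.neg_apply,
    LinearMap.flip_apply, map_add, map_smul, LinearMap.add_apply, LinearMap.smul_apply,
    smul_eq_mul, hwy, mul_zero, add_zero]
  module

lemma eich_mem_of_transvections {w y : V} {c : F} (K0 : Subgroup (V ≃ₗ[F] V))
    (hK1 : ∀ (φ : Dual F V) (v : V) (h : φ v = 0), LinearEquiv.transvection h ∈ K0) :
    eich B w y c ∈ K0 := by
  unfold eich
  split_ifs with h
  · exact K0.mul_mem (hK1 _ _ _) (hK1 _ _ _)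
  · exact K0.one_mem

variable {B}

lemma eich_mem_uG (hB : IsHerm B) {w y : V} {c : F} (hc : c + σ c = -(B y y)) :
    eich B w y c ∈ uG B := by
  by_cases h : B w w = 0 ∧ B y w = 0 ∧ B w y = 0
  · obtain ⟨hw, hyw, hwy⟩ := h
    intro x x'
    rw [eich_apply B hw hyw hwy, eich_apply B hw hyw hwy]
    simp only [map_add, map_sub, map_smul, map_smulₛₗ, LinearMap.add_apply, LinearMap.sub_apply,
      LinearMap.smul_apply, smul_eq_mul, hw, hyw, hwy, map_mul, mul_zero, add_zero, sub_zero,
      zero_add]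
    rw [hB x' w, hB x' y]
    have hc' : σ c = -(B y y) - c := by linear_combination hc
    rw [hc']
    ring
  · unfold eich
    rw [dif_neg h]
    exact (uG B).one_mem

lemma conj_eich {g : V ≃ₗ[F] V} (hg : g ∈ uG B) (w y : V) (c : F) :
    g * eich B w y c * g⁻¹ = eich B (g w) (g y) c := by
  by_cases h : B w w = 0 ∧ B y w = 0 ∧ B w y = 0
  · obtain ⟨hw, hyw, hwy⟩ := h
    have hw' : B (g w) (g w) = 0 := by rw [hg, hw]
    have hyw' : B (g y) (g w) = 0 := by rw [hg, hyw]
    have hwy' : B (g w) (g y) = 0 := by rw [hg, hwy]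
    ext x
    rw [LinearEquiv.mul_apply, LinearEquiv.mul_apply, eich_apply B hw hyw hwy,
      eich_apply B hw' hyw' hwy']
    simp only [map_add, map_sub, map_smul, apply_inv_apply', uG_inv_apply B hg]
  · have h' : ¬ (B (g w) (g w) = 0 ∧ B (g y) (g w) = 0 ∧ B (g w) (g y) = 0) := by
      rw [hg, hg, hg]; exact h
    unfold eich
    rw [dif_neg h, dif_neg h']
    simp

end Cfsg.Agent.Lib.Helper94_HermEich
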