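import Mathlib
import Cfsg.Agent.Lib.Helper94_Herm

set_option autoImplicit false

/-!
The group generated by the unitary transvections with centre in a nondegenerate subspace `U` is
transitive on the totally isotropic subspaces of `U` of a given dimension.
-/

namespace Cfsg.Agent.Lib.Helper94_HermTrans

open Module Cfsg.Agent.Lib.Helper94_Symp Cfsg.Agent.Lib.Helper94_Herm

variable {F V : Type*} [Field F] [AddCommGroup V] [Module F V]
variable {σ : F →+* F}

/-- The group generated by the unitary transvections with centre in `U`. -/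
def tvGroup (B : V →ₗ[F] V →ₛₗ[σ] F) (U : Submodule F V) : Subgroup (V ≃ₗ[F] V) :=
  Subgroup.closure {g | ∃ a ∈ U, ∃ c, B a a = 0 ∧ σ c = -c ∧ g = utv B a c}

variable {B : V →ₗ[F] V →ₛₗ[σ] F}

lemma utv_mem_tvGroup {U : Submodule F V} {a : V} (haU : a ∈ U) (ha : B a a = 0) {c : F}
    (hc : σ c = -c) : utv B a c ∈ tvGroup B U :=
  Subgroup.subset_closure ⟨a, haU, c, ha, hc, rfl⟩

lemma tvGroup_mono {U U' : Submodule F V} (h : U ≤ U') : tvGroup B U ≤ tvGroup B U' := by
  apply Subgroup.closure_mono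
  rintro g ⟨a, haU, c, ha, hc, rfl⟩
  exact ⟨a, h haU, c, ha, hc, rfl⟩

lemma tvGroup_le (U : Submodule F V) (M : Subgroup (V ≃ₗ[F] V))
    (hM : ∀ a ∈ U, B a a = 0 → ∀ c, σ c = -c → utv B a c ∈ M) : tvGroup B U ≤ M := by
  rw [tvGroup, Subgroup.closure_le]
  rintro g ⟨a, haU, c, ha, hc, rfl⟩
  exact hM a haU ha c hc

lemma tvGroup_le_uG (hB : IsHerm B) (U : Submodule F V) : tvGroup B U ≤ uG B :=
  tvGroup_le U _ (fun a _ _ _ hc => utv_mem_uG hB a hc)

lemma tvGroup_fix {U : Submodule F V} {x : V} (hx : ∀ a ∈ U, B x a = 0) {t : V ≃ₗ[F] V}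
    (ht : t ∈ tvGroup B U) : t x = x := by
  have hle : tvGroup B U ≤ MulAction.stabilizer (V ≃ₗ[F] V) x := by
    apply tvGroup_le
    intro a haU _ c _
    rw [MulAction.mem_stabilizer_iff, LinearEquiv.smul_def]
    exact utv_fix B a c (hx a haU)
  have := MulAction.mem_stabilizer_iff.mp (hle ht)
  rwa [LinearEquiv.smul_def] at this

lemma tvGroup_map_mem [FiniteDimensional F V] {U : Submodule F V} {t : V ≃ₗ[F] V}
    (ht : t ∈ tvGroup B U) : ∀ x ∈ U, t x ∈ U := by
  have hle : tvGroup B U ≤ stab U := by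
    apply tvGroup_le
    intro a haU ha c _
    apply mem_stab_of_forall_mem
    intro x hx
    rw [utv_apply B ha]
    exact U.add_mem hx (U.smul_mem _ haU)
  intro x hx
  exact (mem_stab.mp (hle ht) x).mp hx

section

variable (hσ : Invol σ) (hB : IsHerm B)

include hσ hB in
theorem exists_tv_move_point {U : Submodule F V} (hU : NondegOn B U) {u u' : V}
    (huU : u ∈ U) (hu'U : u' ∈ U) (hu0 : u ≠ 0) (hu'0 : u' ≠ 0) (hu : B u u = 0)
    (hu' : B u' u' = 0) : ∃ t ∈ tvGroup B U, ∃ μ : F, μ ≠ 0 ∧ t u = μ • u' := by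
  have step : ∀ p p' : V, p ∈ U → p' ∈ U → B p p = 0 → B p' p' = 0 → B p p' ≠ 0 →
      ∃ t ∈ tvGroup B U, ∃ μ : F, μ ≠ 0 ∧ t p = μ • p' := by
    intro p p' hpU hp'U hp hp' hpp'
    obtain ⟨μ, hμ0, c, hc, ha, hmove⟩ := exists_move hσ hB hp hp' hpp'
    exact ⟨utv B (μ • p' - p) c,
      utv_mem_tvGroup (U.sub_mem (U.smul_mem _ hp'U) hpU) ha hc, μ, hμ0, hmove⟩
  by_cases h : B u u' = 0
  · obtain ⟨b, hbU, hb, h1, h2⟩ := exists_connect hσ hB hU huU hu'U hu0 hu'0 hu h
    obtain ⟨t1, ht1, μ1, hμ1, hm1⟩ := step u b huU hbU hu hb h1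
    have hb2 : B (μ1 • b) u' ≠ 0 := by
      rw [map_smul, LinearMap.smul_apply, smul_eq_mul]
      exact mul_ne_zero hμ1 (herm_ne_zero hσ hB h2)
    have hb3 : B (μ1 • b) (μ1 • b) = 0 := by rw [self_smul, hb, mul_zero]
    obtain ⟨t2, ht2, μ2, hμ2, hm2⟩ := step (μ1 • b) u' (U.smul_mem _ hbU) hu'U hb3 hu' hb2
    refine ⟨t2 * t1, (tvGroup B U).mul_mem ht2 ht1, μ2, hμ2, ?_⟩
    rw [LinearEquiv.mul_apply, hm1, hm2]
  · exact step u u' huU hu'U hu hu' h

include hσ hB in
theorem exists_tv_map [Finite F] [FiniteDimensional F V] :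
    ∀ (k : ℕ) (U : Submodule F V), NondegOn B U → ∀ W W' : Submodule F V, W ≤ U → W' ≤ U →
      (∀ x ∈ W, ∀ y ∈ W, B x y = 0) → (∀ x ∈ W', ∀ y ∈ W', B x y = 0) →
      finrank F W = k → finrank F W' = k →
      ∃ t ∈ tvGroup B U, W.map (t : V →ₗ[F] V) = W' := by
  intro k
  induction k with
  | zero =>
    intro U _ W W' _ _ _ _ hk hk'
    rw [Submodule.finrank_eq_zero] at hk hk'
    refine ⟨1, (tvGroup B U).one_mem, ?_⟩
    rw [hk, hk', Submodule.map_bot]
  | succ k ih =>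
    intro U hU W W' hWU hW'U hW hW' hk hk'
    have hWne : W ≠ ⊥ := by
      intro h
      rw [h, finrank_bot] at hk
      omega
    have hW'ne : W' ≠ ⊥ := by
      intro h
      rw [h, finrank_bot] at hk'
      omega
    obtain ⟨u, huW, hu0⟩ := Submodule.exists_mem_ne_zero_of_ne_bot hWne
    obtain ⟨u', hu'W', hu'0⟩ := Submodule.exists_mem_ne_zero_of_ne_bot hW'ne
    have hu : B u u = 0 := hW u huW u huW
    have hu' : B u' u' = 0 := hW' u' hu'W' u' hu'W'
    obtain ⟨t1, ht1, μ, hμ0, hm1⟩ :=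
      exists_tv_move_point hσ hB hU (hWU huW) (hW'U hu'W') hu0 hu'0 hu hu'
    have ht1U : t1 ∈ uG B := tvGroup_le_uG hB U ht1
    -- the image W1
    have hW1U : W.map (t1 : V →ₗ[F] V) ≤ U := by
      rintro _ ⟨x, hx, rfl⟩
      exact tvGroup_map_mem ht1 x (hWU hx)
    have hW1 : ∀ x ∈ W.map (t1 : V →ₗ[F] V), ∀ y ∈ W.map (t1 : V →ₗ[F] V), B x y = 0 := by
      rintro _ ⟨x, hx, rfl⟩ _ ⟨y, hy, rfl⟩
      have := ht1U x y
      rw [hW x hx y hy] at this
      exact this
    have hk1 : finrank F (W.map (t1 : V →ₗ[F] V)) = k + 1 := by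
      rw [← hk]
      exact LinearEquiv.finrank_map_eq t1 W
    have hu'W1 : u' ∈ W.map (t1 : V →ₗ[F] V) := by
      have h1 : μ • u' ∈ W.map (t1 : V →ₗ[F] V) := by
        rw [← hm1]
        exact Submodule.mem_map_of_mem huW
      have := Submodule.smul_mem _ μ⁻¹ h1
      rwa [smul_smul, inv_mul_cancel₀ hμ0, one_smul] at this
    obtain ⟨f, hfU, hf, hu'f⟩ := exists_partner hσ hB hU (hW'U hu'W') hu'0 hu'
    have hfu' : B f u' = 1 := by rw [hB u' f, hu'f, map_one]
    have hU1 := nondegOn_pair hB hU (hW'U hu'W') hfU hu' hf hu'f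
    -- the structure of a totally isotropic subspace containing u'
    have key : ∀ Z : Submodule F V, Z ≤ U → (∀ x ∈ Z, ∀ y ∈ Z, B x y = 0) → u' ∈ Z →
        finrank F Z = k + 1 →
        Z = Submodule.span F {u'} ⊔ (Z ⊓ (U ⊓ orthV B u' ⊓ orthV B f)) ∧
          finrank F (Z ⊓ (U ⊓ orthV B u' ⊓ orthV B f) : Submodule F V) = k := by
      intro Z hZU hZ hu'Z hkZ
      have hdecomp : Z = Submodule.span F {u'} ⊔ (Z ⊓ (U ⊓ orthV B u' ⊓ orthV B f)) := by
        apply le_antisymm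
        · intro x hx
          have hx1 : x - B x f • u' ∈ Z ⊓ (U ⊓ orthV B u' ⊓ orthV B f) := by
            have hxZ : x - B x f • u' ∈ Z := Z.sub_mem hx (Z.smul_mem _ hu'Z)
            refine Submodule.mem_inf.mpr ⟨hxZ, Submodule.mem_inf.mpr ⟨Submodule.mem_inf.mpr
              ⟨hZU hxZ, mem_orthV.mpr ?_⟩, mem_orthV.mpr ?_⟩⟩
            · exact hZ _ hxZ _ hu'Z
            · rw [map_sub, map_smul, LinearMap.sub_apply, LinearMap.smul_apply, hu'f,
                smul_eq_mul, mul_one, sub_self]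
          have : x = B x f • u' + (x - B x f • u') := by abel
          rw [this]
          exact Submodule.add_mem _ (Submodule.mem_sup_left
            (Submodule.smul_mem _ _ (Submodule.mem_span_singleton_self u')))
            (Submodule.mem_sup_right hx1)
        · apply sup_le
          · rw [Submodule.span_singleton_le_iff_mem]; exact hu'Z
          · exact inf_le_left
      refine ⟨hdecomp, ?_⟩
      have hdisj : Submodule.span F {u'} ⊓ (Z ⊓ (U ⊓ orthV B u' ⊓ orthV B f)) = ⊥ := by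
        rw [eq_bot_iff]
        rintro x ⟨hx1, hx2⟩
        obtain ⟨c, rfl⟩ := Submodule.mem_span_singleton.mp hx1
        have h3 : B (c • u') f = 0 := mem_orthV.mp hx2.2.2
        rw [map_smul, LinearMap.smul_apply, hu'f, smul_eq_mul, mul_one] at h3
        rw [h3, zero_smul]
        exact Submodule.zero_mem _
      have h4 := Submodule.finrank_sup_add_finrank_inf_eq (Submodule.span F {u'})
        (Z ⊓ (U ⊓ orthV B u' ⊓ orthV B f))
      rw [← hdecomp, hdisj, finrank_bot, hkZ, finrank_span_singleton hu'0] at h4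
      omega
    obtain ⟨hd1, hf1⟩ := key _ hW1U hW1 hu'W1 hk1
    obtain ⟨hd2, hf2⟩ := key _ hW'U hW' hu'W' hk'
    obtain ⟨t2, ht2, hmap2⟩ := ih (U ⊓ orthV B u' ⊓ orthV B f) hU1 _ _ inf_le_right inf_le_right
      (fun x hx y hy => hW1 x hx.1 y hy.1) (fun x hx y hy => hW' x hx.1 y hy.1) hf1 hf2
    have ht2u' : t2 u' = u' := by
      apply tvGroup_fix _ ht2
      intro a ha
      exact herm_eq_zero hB (mem_orthV.mp ha.1.2)
    refine ⟨t2 * t1, (tvGroup B U).mul_mem
      (tvGroup_mono (inf_le_left.trans inf_le_left) ht2) ht1, ?_⟩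
    have hcomp : W.map ((t2 * t1 : V ≃ₗ[F] V) : V →ₗ[F] V) =
        (W.map (t1 : V →ₗ[F] V)).map (t2 : V →ₗ[F] V) := by
      rw [← Submodule.map_comp]
      rfl
    rw [hcomp]
    conv_lhs => rw [hd1]
    rw [Submodule.map_sup, hmap2, Submodule.map_span, Set.image_singleton, LinearEquiv.coe_coe,
      ht2u', ← hd2]

end

end Cfsg.Agent.Lib.Helper94_HermTrans
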