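import Mathlib
import Cfsg.Agent.Lib.Helper94_Herm
import Cfsg.Agent.Lib.Helper94_HermOrth
import Cfsg.Agent.Lib.Helper94_HermEich
import Cfsg.Agent.Lib.Helper94_HermTrans

set_option autoImplicit false

/-!
The stabiliser of a nonzero totally isotropic subspace is a maximal subgroup of the special
unitary group (finite fields).
-/

namespace Cfsg.Agent.Lib.Helper94_HermPara

open Module Cfsg.Agent.Lib.Helper94_Symp Cfsg.Agent.Lib.Helper94_Herm
  Cfsg.Agent.Lib.Helper94_HermOrth Cfsg.Agent.Lib.Helper94_HermEich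
  Cfsg.Agent.Lib.Helper94_HermTrans

variable {F V : Type*} [Field F] [AddCommGroup V] [Module F V]
variable {σ : F →+* F} {B : V →ₗ[F] V →ₛₗ[σ] F}

/-- Product of two Eichler elements with the same isotropic vector. -/
lemma eich_mul {w y2 y3 : V} (hw : B w w = 0) (h2 : B y2 w = 0) (h2' : B w y2 = 0)
    (h3 : B y3 w = 0) (h3' : B w y3 = 0) (c2 c3 : F) :
    eich B w y2 c2 * eich B w y3 c3 = eich B w (y2 + y3) (c2 + c3 - B y3 y2) := by
  have h23 : B (y2 + y3) w = 0 := by rw [map_add, LinearMap.add_apply, h2, h3, add_zero]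
  have h23' : B w (y2 + y3) = 0 := by rw [map_add, h2', h3', add_zero]
  ext x
  rw [LinearEquiv.mul_apply, eich_apply B hw h3 h3', eich_apply B hw h2 h2',
    eich_apply B hw h23 h23']
  simp only [map_add, map_sub, map_smul, LinearMap.add_apply, LinearMap.sub_apply,
    LinearMap.smul_apply, smul_eq_mul, hw, h2, h3, h2', h3', mul_zero, add_zero, sub_zero]
  module

/-- An Eichler element times a transvection with the same isotropic vector. -/
lemma eich_mul_utv {w y : V} (hw : B w w = 0) (h : B y w = 0) (h' : B w y = 0) (c d : F) :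
    eich B w y c * utv B w d = eich B w y (c + d) := by
  ext x
  rw [LinearEquiv.mul_apply, utv_apply B hw, eich_apply B hw h h', eich_apply B hw h h']
  simp only [map_add, map_smul, LinearMap.add_apply, LinearMap.smul_apply, smul_eq_mul, hw, h',
    mul_zero, add_zero]
  module

section

variable (hσ : Invol σ) (hB : IsHerm B)

include hσ hB in
/-- Adjusting a vector of `orthS B W3` by an element of `orthS B W2 ⊓ orthS B W3` to make it
isotropic. -/
lemma exists_delta [Finite F] [FiniteDimensional F V] (hN : NondegOn B ⊤)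
    {W2 W3 : Submodule F V} (hW2 : ∀ u ∈ W2, ∀ v ∈ W2, B u v = 0)
    (hW3 : ∀ u ∈ W3, ∀ v ∈ W3, B u v = 0) {y3 : V} (hy3 : y3 ∈ orthS B W3) :
    ∃ δ ∈ orthS B W2 ⊓ orthS B W3, B (y3 + δ) (y3 + δ) = 0 := by
  by_cases hcase : ∀ z ∈ W2 ⊓ orthS B W3, B z y3 = 0
  · -- case A
    have h1 : y3 ∈ orthS B (W3 ⊔ (W2 ⊓ orthS B W3)) := by
      rw [orthS_sup]
      exact ⟨hy3, hcase⟩
    rw [orthS_sup, orthS_inf hB hN, orthS_orthS hB hN] at h1
    obtain ⟨p, hp, w3, hw3, hpw⟩ := Submodule.mem_sup.mp h1.2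
    have hw3o : w3 ∈ orthS B W3 := fun x hx => hW3 x hx w3 hw3
    have hp3 : p ∈ orthS B W3 := by
      have : p = y3 - w3 := by rw [← hpw]; abel
      rw [this]
      exact Submodule.sub_mem _ hy3 hw3o
    refine ⟨-p, Submodule.neg_mem _ ⟨hp, hp3⟩, ?_⟩
    have : y3 + -p = w3 := by rw [← hpw]; abel
    rw [this]
    exact hW3 w3 hw3 w3 hw3
  · -- case B
    push Not at hcase
    obtain ⟨z, hz, hzy⟩ := hcase
    have hyz : B y3 z ≠ 0 := herm_ne_zero hσ hB hzy
    have hzz : B z z = 0 := hW2 z hz.1 z hz.1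
    obtain ⟨l, hl⟩ := tr_surj hσ (-(B y3 y3)) (by rw [map_neg, herm_self hB])
    refine ⟨σ (l / B y3 z) • z, Submodule.smul_mem _ _ ⟨fun x hx => hW2 x hx z hz.1, hz.2⟩, ?_⟩
    have h3 : B y3 (σ (l / B y3 z) • z) = l := by
      rw [map_smulₛₗ, smul_eq_mul, hσ.invol, div_mul_cancel₀ _ hyz]
    rw [self_add hB, self_smul, hzz, mul_zero, add_zero, h3]
    linear_combination hl

end

theorem maximal_stab_ti [Finite F] [FiniteDimensional F V] (hσ : Invol σ) (hB : IsHerm B)
    (hN : NondegOn B ⊤) (K0 : Subgroup (V ≃ₗ[F] V))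
    (hK1 : ∀ (φ : Dual F V) (v : V) (h : φ v = 0), LinearEquiv.transvection h ∈ K0)
    (W : Submodule F V) (hW0 : W ≠ ⊥) (hW : ∀ u ∈ W, ∀ v ∈ W, B u v = 0) :
    (stab W ⊓ (uG B ⊓ K0) < uG B ⊓ K0) ∧
      ∀ M : Subgroup (V ≃ₗ[F] V), stab W ⊓ (uG B ⊓ K0) ≤ M → M ≤ uG B ⊓ K0 →
        M = stab W ⊓ (uG B ⊓ K0) ∨ M = uG B ⊓ K0 := by
  have hutvG : ∀ a c, σ c = -c → utv B a c ∈ uG B ⊓ K0 := by
    intro a c hc
    refine ⟨utv_mem_uG hB a hc, ?_⟩
    unfold utv
    split_ifs with h
    · exact hK1 _ _ _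
    · exact K0.one_mem
  have heichG : ∀ w y c, c + σ c = -(B y y) → eich B w y c ∈ uG B ⊓ K0 := fun w y c hc =>
    ⟨eich_mem_uG hB hc, eich_mem_of_transvections B K0 hK1⟩
  constructor
  · -- proper
    refine lt_of_le_of_ne inf_le_right ?_
    intro heq
    obtain ⟨w, hwW, hw0⟩ := Submodule.exists_mem_ne_zero_of_ne_bot hW0
    have hw : B w w = 0 := hW w hwW w hwW
    obtain ⟨f, -, hf, hwf⟩ := exists_partner hσ hB hN (Submodule.mem_top : w ∈ ⊤) hw0 hw
    obtain ⟨μ, hμ0, c, hc, ha, hmove⟩ := exists_move hσ hB hw hf (by rw [hwf]; exact one_ne_zero)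
    have hg : utv B (μ • f - w) c ∈ stab W ⊓ (uG B ⊓ K0) := by
      rw [heq]; exact hutvG _ _ hc
    have hgw := (mem_stab.mp hg.1 w).mp hwW
    rw [hmove] at hgw
    have := hW w hwW _ hgw
    rw [map_smulₛₗ, hwf, smul_eq_mul, mul_one] at this
    exact hμ0 (by
      have h2 := congrArg σ this
      rwa [hσ.invol, map_zero] at h2)
  · intro M hHM hMK
    -- the family
    let P : Submodule F V → Prop := fun W2 =>
      (∀ u ∈ W2, ∀ v ∈ W2, B u v = 0) ∧
      (∀ a ∈ orthS B W2, B a a = 0 → ∀ c, σ c = -c → utv B a c ∈ M) ∧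
      (∀ w ∈ W2, ∀ y ∈ orthS B W2, ∀ c, c + σ c = -(B y y) → eich B w y c ∈ M)
    have hPW : P W := by
      refine ⟨hW, ?_, ?_⟩
      · intro a ha haa c hc
        apply hHM
        refine ⟨mem_stab_of_forall_mem ?_, hutvG a c hc⟩
        intro x hx
        rw [utv_fix B a c (ha x hx)]
        exact hx
      · intro w hw y hy c hc
        apply hHM
        refine ⟨mem_stab_of_forall_mem ?_, heichG w y c hc⟩
        intro x hx
        have hwy : B w y = 0 := hy w hw
        rw [eich_apply B (hW w hw w hw) (herm_eq_zero hB hwy) hwy, hW x hx w hw, hy x hx]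
        simpa using hx
    -- invariance under M
    have hB5 : ∀ W2, P W2 → ∀ g ∈ M, P (W2.map (g : V →ₗ[F] V)) := by
      intro W2 hP g hgM
      have hgU : g ∈ uG B := (hMK hgM).1
      have horth : ∀ m, m ∈ orthS B (W2.map (g : V →ₗ[F] V)) → g⁻¹ m ∈ orthS B W2 := by
        intro m hm n hn
        have := hm (g n) (Submodule.mem_map_of_mem hn)
        rw [← apply_inv_apply' g m, hgU] at this
        exact this
      refine ⟨?_, ?_, ?_⟩
      · rintro _ ⟨x, hx, rfl⟩ _ ⟨y, hy, rfl⟩
        have := hgU x y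
        rw [hP.1 x hx y hy] at this
        exact this
      · intro a ha haa c hc
        have h1 : B (g⁻¹ a) (g⁻¹ a) = 0 := by
          have := hgU (g⁻¹ a) (g⁻¹ a)
          rw [apply_inv_apply'] at this
          rw [← this, haa]
        have h2 := hP.2.1 _ (horth a ha) h1 c hc
        have h3 := conj_utv hgU (g⁻¹ a) c
        rw [apply_inv_apply'] at h3
        rw [← h3]
        exact M.mul_mem (M.mul_mem hgM h2) (M.inv_mem hgM)
      · rintro _ ⟨w0, hw0, rfl⟩ y hy c hc
        have h1 : B (g⁻¹ y) (g⁻¹ y) = B y y := by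
          have := hgU (g⁻¹ y) (g⁻¹ y)
          rw [apply_inv_apply'] at this
          exact this.symm
        have h2 := hP.2.2 w0 hw0 _ (horth y hy) c (by rw [h1]; exact hc)
        have h3 := conj_eich hgU w0 (g⁻¹ y) c
        rw [apply_inv_apply'] at h3
        rw [LinearEquiv.coe_coe, ← h3]
        exact M.mul_mem (M.mul_mem hgM h2) (M.inv_mem hgM)
    -- closed under intersections
    have hB4 : ∀ W2 W3, P W2 → P W3 → P (W2 ⊓ W3) := by
      intro W2 W3 h2 h3
      have hiii : ∀ w ∈ W2 ⊓ W3, ∀ y ∈ orthS B (W2 ⊓ W3), ∀ c, c + σ c = -(B y y) →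
          eich B w y c ∈ M := by
        intro w hw y hy c hc
        rw [orthS_inf hB hN] at hy
        obtain ⟨y2, hy2, y3, hy3, rfl⟩ := Submodule.mem_sup.mp hy
        have hww : B w w = 0 := h2.1 w hw.1 w hw.1
        have hwy2 : B w y2 = 0 := hy2 w hw.1
        have hwy3 : B w y3 = 0 := hy3 w hw.2
        have hy2w : B y2 w = 0 := herm_eq_zero hB hwy2
        have hy3w : B y3 w = 0 := herm_eq_zero hB hwy3
        obtain ⟨c2, hc2⟩ := tr_surj hσ (-(B y2 y2)) (by rw [map_neg, herm_self hB])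
        obtain ⟨c3, hc3⟩ := tr_surj hσ (-(B y3 y3)) (by rw [map_neg, herm_self hB])
        have hE2 := h2.2.2 w hw.1 y2 hy2 c2 hc2
        have hE3 := h3.2.2 w hw.2 y3 hy3 c3 hc3
        have hprod := eich_mul hww hy2w hwy2 hy3w hwy3 c2 c3
        have hd : σ (c - (c2 + c3 - B y3 y2)) = -(c - (c2 + c3 - B y3 y2)) := by
          have e1 : B (y2 + y3) (y2 + y3) = B y2 y2 + B y3 y3 + (B y2 y3 + σ (B y2 y3)) :=
            self_add hB y2 y3
          have e2 : B y3 y2 = σ (B y2 y3) := hB y2 y3
          simp only [map_sub, map_add]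
          rw [e2, hσ.invol]
          rw [e1] at hc
          linear_combination hc - hc2 - hc3
        have hwo : w ∈ orthS B W2 := fun x hx => h2.1 x hx w hw.1
        have hT := h2.2.1 w hwo hww _ hd
        have h23 : B (y2 + y3) w = 0 := by rw [map_add, LinearMap.add_apply, hy2w, hy3w, add_zero]
        have h23' : B w (y2 + y3) = 0 := by rw [map_add, hwy2, hwy3, add_zero]
        have hfin := eich_mul_utv hww h23 h23' (c2 + c3 - B y3 y2) (c - (c2 + c3 - B y3 y2))
        have e3 : c2 + c3 - B y3 y2 + (c - (c2 + c3 - B y3 y2)) = c := by ring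
        rw [e3] at hfin
        rw [← hfin, ← hprod]
        exact M.mul_mem (M.mul_mem hE2 hE3) hT
      refine ⟨fun u hu v hv => h2.1 u hu.1 v hv.1, ?_, hiii⟩
      intro a ha haa c hc
      rw [orthS_inf hB hN] at ha
      obtain ⟨y2, hy2, y3, hy3, rfl⟩ := Submodule.mem_sup.mp ha
      by_cases hcase : y3 ∈ orthS B W2
      · exact h2.2.1 _ (Submodule.add_mem _ hy2 hcase) haa c hc
      · have : ∃ w0 ∈ W2, B w0 y3 ≠ 0 := by
          by_contra hcon
          push Not at hcon
          exact hcase hcon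
        obtain ⟨w0, hw0, hw0y⟩ := this
        obtain ⟨δ, hδ, hu⟩ := exists_delta hσ hB hN h2.1 h3.1 hy3
        have huo3 : y3 + δ ∈ orthS B W3 := Submodule.add_mem _ hy3 hδ.2
        have hutv := h3.2.1 _ huo3 hu c hc
        have hy'o : y2 - δ ∈ orthS B W2 := Submodule.sub_mem _ hy2 hδ.1
        have hw0u : B w0 (y3 + δ) ≠ 0 := by
          rw [map_add, hδ.1 w0 hw0, add_zero]; exact hw0y
        have huw0 : B (y3 + δ) w0 ≠ 0 := herm_ne_zero hσ hB hw0u
        -- normalise
        have huw : B (y3 + δ) (σ (B (y3 + δ) w0)⁻¹ • w0) = 1 := by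
          rw [map_smulₛₗ, smul_eq_mul, hσ.invol, inv_mul_cancel₀ huw0]
        have hwW2 : σ (B (y3 + δ) w0)⁻¹ • w0 ∈ W2 := W2.smul_mem _ hw0
        generalize σ (B (y3 + δ) w0)⁻¹ • w0 = w at huw hwW2
        have hww : B w w = 0 := h2.1 w hwW2 w hwW2
        have hwy' : B w (y2 - δ) = 0 := hy'o w hwW2
        have hy'w : B (y2 - δ) w = 0 := herm_eq_zero hB hwy'
        have hsum : y3 + δ + (y2 - δ) = y2 + y3 := by abel
        have hval : B (y3 + δ) (y2 - δ) + σ (B (y3 + δ) (y2 - δ)) = -(B (y2 - δ) (y2 - δ)) := by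
          have e1 := self_add hB (y3 + δ) (y2 - δ)
          rw [hsum, haa, hu] at e1
          linear_combination -e1
        have hE := h2.2.2 w hwW2 _ hy'o _ hval
        have hEU : eich B w (y2 - δ) (B (y3 + δ) (y2 - δ)) ∈ uG B := eich_mem_uG hB hval
        have hEu : eich B w (y2 - δ) (B (y3 + δ) (y2 - δ)) (y3 + δ) = y2 + y3 := by
          rw [eich_apply B hww hy'w hwy', huw, one_smul, mul_one, ← hsum]
          abel
        have hconj := conj_utv hEU (y3 + δ) c
        rw [hEu] at hconj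
        rw [← hconj]
        exact M.mul_mem (M.mul_mem hE hutv) (M.inv_mem hE)
    -- a member of minimal dimension
    have hex : ∃ n, ∃ W2, P W2 ∧ finrank F W2 = n := ⟨_, W, hPW, rfl⟩
    classical
    obtain ⟨Wm, hPm, hWm⟩ := Nat.find_spec hex
    have hmin : ∀ W2, P W2 → finrank F Wm ≤ finrank F W2 := by
      intro W2 hP2
      rw [hWm]
      exact Nat.find_min' hex ⟨W2, hP2, rfl⟩
    have hinf : ∀ W2, P W2 → Wm ≤ W2 := by
      intro W2 hP2
      have h1 := hmin _ (hB4 Wm W2 hPm hP2)
      have h2 : Wm ⊓ W2 = Wm :=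
        Submodule.eq_of_le_of_finrank_le inf_le_left h1
      rw [← h2]; exact inf_le_right
    have hWmW : Wm ≤ W := hinf W hPW
    have hMstab : M ≤ stab Wm := by
      intro g hg
      apply mem_stab_of_forall_mem
      intro x hx
      have h1 := hinf _ (hB5 Wm hPm g⁻¹ (M.inv_mem hg)) hx
      obtain ⟨x', hx', hxx'⟩ := h1
      rw [LinearEquiv.coe_coe] at hxx'
      rw [← hxx', apply_inv_apply']
      exact hx'
    by_cases hbot : Wm = ⊥
    · right
      apply le_antisymm hMK
      have hT : tvGroup B ⊤ ≤ M := by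
        apply tvGroup_le
        intro a _ haa c hc
        apply hPm.2.1 a _ haa c hc
        rw [hbot]
        intro x hx
        rw [(Submodule.mem_bot F).mp hx]
        simp
      intro g hg
      have hgU : g ∈ uG B := hg.1
      obtain ⟨t, ht, hmap⟩ := exists_tv_map hσ hB (finrank F W) ⊤ hN W (W.map (g : V →ₗ[F] V))
        le_top le_top hW (by
          rintro _ ⟨x, hx, rfl⟩ _ ⟨y, hy, rfl⟩
          have := hgU x y
          rw [hW x hx y hy] at this
          exact this) rfl (LinearEquiv.finrank_map_eq g W)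
      have htM : t ∈ M := hT ht
      have hmem : t⁻¹ * g ∈ stab W ⊓ (uG B ⊓ K0) := by
        refine ⟨mem_stab_of_forall_mem ?_, (uG B ⊓ K0).mul_mem ((uG B ⊓ K0).inv_mem (hMK htM)) hg⟩
        intro x hx
        have h1 : g x ∈ W.map (t : V →ₗ[F] V) := by
          rw [hmap]
          exact Submodule.mem_map_of_mem hx
        obtain ⟨x', hx', hxx'⟩ := h1
        rw [LinearEquiv.coe_coe] at hxx'
        rw [LinearEquiv.mul_apply, ← hxx', inv_apply_apply']
        exact hx'
      have : g = t * (t⁻¹ * g) := by group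
      rw [this]
      exact M.mul_mem htM (hHM hmem)
    · by_cases htop : Wm = W
      · left
        apply le_antisymm _ hHM
        intro g hg
        exact ⟨htop ▸ hMstab hg, hMK hg⟩
      · exfalso
        obtain ⟨w1, hw1, hw10⟩ := Submodule.exists_mem_ne_zero_of_ne_bot hbot
        have hlt : Wm < W := lt_of_le_of_ne hWmW htop
        obtain ⟨w2, hw2W, hw2⟩ := SetLike.exists_of_lt hlt
        have haW : w2 - w1 ∈ W := W.sub_mem hw2W (hWmW hw1)
        have hz : ∃ z, B (w2 - w1) z = 0 ∧ B w1 z ≠ 0 := by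
          by_contra hcon
          push Not at hcon
          have hmem : w1 ∈ orthS B (orthS B (Submodule.span F {w2 - w1})) := by
            rw [mem_orthS' hB]
            intro z hz
            exact hcon z (hz _ (Submodule.mem_span_singleton_self _))
          rw [orthS_orthS hB hN] at hmem
          obtain ⟨c, hc⟩ := Submodule.mem_span_singleton.mp hmem
          by_cases hc0 : c = 0
          · rw [hc0, zero_smul] at hc
            exact hw10 hc.symm
          · apply hw2
            have : w2 = (c⁻¹ * (1 + c)) • w1 := by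
              have h1 : c • w2 = (1 + c) • w1 := by
                rw [smul_sub] at hc
                calc c • w2 = (c • w2 - c • w1) + c • w1 := by abel
                  _ = w1 + c • w1 := by rw [hc]
                  _ = (1 + c) • w1 := by rw [add_smul, one_smul]
              rw [mul_smul, ← h1, smul_smul, inv_mul_cancel₀ hc0, one_smul]
            rw [this]
            exact Wm.smul_mem _ hw1
        obtain ⟨z0, hz0a, hz0w⟩ := hz
        obtain ⟨z, hza, hzw⟩ : ∃ z, B (w2 - w1) z = 0 ∧ B w1 z = -1 := by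
          refine ⟨σ (-(B w1 z0)⁻¹) • z0, ?_, ?_⟩
          · rw [map_smulₛₗ, hz0a, smul_zero]
          · rw [map_smulₛₗ, smul_eq_mul, hσ.invol, neg_mul, inv_mul_cancel₀ hz0w]
        have haa : B (w2 - w1) (w2 - w1) = 0 := hW _ haW _ haW
        have hza' : B z (w2 - w1) = 0 := herm_eq_zero hB hza
        obtain ⟨c, hc⟩ := tr_surj hσ (-(B z z)) (by rw [map_neg, herm_self hB])
        have hact : ∀ x ∈ W, eich B (w2 - w1) z c x = x - B x z • (w2 - w1) := by
          intro x hx
          rw [eich_apply B haa hza' hza, hW x hx _ haW]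
          simp
        have hEH : eich B (w2 - w1) z c ∈ stab W ⊓ (uG B ⊓ K0) := by
          refine ⟨mem_stab_of_forall_mem ?_, heichG _ _ _ hc⟩
          intro x hx
          rw [hact x hx]
          exact W.sub_mem hx (W.smul_mem _ haW)
        have hEw1 : eich B (w2 - w1) z c w1 = w2 := by
          rw [hact w1 (hWmW hw1), hzw]
          simp
        have := (mem_stab.mp (hMstab (hHM hEH)) w1).mp hw1
        rw [hEw1] at this
        exact hw2 this

end Cfsg.Agent.Lib.Helper94_HermPara
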