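import Mathlib
import Cfsg.Agent.Lib.Helper94_Herm
import Cfsg.Agent.Lib.Helper94_HermIrr
import Cfsg.Agent.Lib.Helper94_HermTrans

set_option autoImplicit false

/-!
Witt-type transitivity statements for the group `tvGroup B U` generated by the unitary
transvections with centre in a nondegenerate subspace `U` of a hermitian space over a finite field:
transitivity on nonzero isotropic vectors, on hyperbolic pairs, on vectors of a given nonzero
norm, and on (isometric images of) nondegenerate subspaces of small dimension.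
-/

namespace Cfsg.Agent.Lib.Helper94_HermWitt

open Module Cfsg.Agent.Lib.Helper94_Symp Cfsg.Agent.Lib.Helper94_Herm
  Cfsg.Agent.Lib.Helper94_HermIrr Cfsg.Agent.Lib.Helper94_HermTrans

variable {F V : Type*} [Field F] [AddCommGroup V] [Module F V]
variable {σ : F →+* F} {B : V →ₗ[F] V →ₛₗ[σ] F}

section Dim

variable [FiniteDimensional F V]

lemma exists_notMem_of_finrank_lt {U S : Submodule F V} (h : finrank F S < finrank F U) :
    ∃ w ∈ U, w ∉ S := by
  by_contra hcon
  push Not at hcon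
  have hle : U ≤ S := hcon
  have := Submodule.finrank_mono hle
  omega

lemma exists_notMem_span1 {U : Submodule F V} (h : 2 ≤ finrank F U) (x : V) :
    ∃ z ∈ U, z ∉ Submodule.span F {x} := by
  classical
  apply exists_notMem_of_finrank_lt
  have h1 := finrank_span_finset_le_card (R := F) ({x} : Finset V)
  have h2 : (({x} : Finset V) : Set V) = {x} := by simp
  rw [h2, Set.finrank] at h1
  have : ({x} : Finset V).card = 1 := Finset.card_singleton x
  omega

lemma exists_notMem_span2 {U : Submodule F V} (h : 3 ≤ finrank F U) (x y : V) :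
    ∃ z ∈ U, z ∉ Submodule.span F {x, y} := by
  classical
  apply exists_notMem_of_finrank_lt
  have h1 := finrank_span_finset_le_card (R := F) ({x, y} : Finset V)
  have h2 : (({x, y} : Finset V) : Set V) = {x, y} := by simp
  rw [h2, Set.finrank] at h1
  have := Finset.card_le_two (a := x) (b := y)
  omega

lemma exists_ne_zero_of_finrank_pos {U : Submodule F V} (h : 1 ≤ finrank F U) :
    ∃ z ∈ U, z ≠ 0 := by
  apply Submodule.exists_mem_ne_zero_of_ne_bot
  intro hbot
  rw [hbot, finrank_bot] at h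
  omega

lemma finrank_le_inf_orthV_add_one (X : Submodule F V) (a : V) :
    finrank F X ≤ finrank F (X ⊓ orthV B a : Submodule F V) + 1 := by
  have h1 := Submodule.finrank_sup_add_finrank_inf_eq X (orthV B a)
  have h2 := LinearMap.finrank_range_add_finrank_ker (B.flip a)
  have h3 : finrank F (LinearMap.range (B.flip a)) ≤ 1 := by
    calc finrank F (LinearMap.range (B.flip a)) ≤ finrank F F := Submodule.finrank_le _
      _ = 1 := finrank_self F
  have h4 : finrank F (X ⊔ orthV B a : Submodule F V) ≤ finrank F V := Submodule.finrank_le _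
  unfold orthV at h1 h4 ⊢
  omega

end Dim

/-- A transvection moving an isotropic vector `u` to an isotropic vector `v` when `B u v` is a
nonzero skew element. -/
lemma move_skew (hB : IsHerm B) {u v : V} (hu : B u u = 0) (hv : B v v = 0) {s : F}
    (hs : B u v = s) (hs' : σ s = -s) (hs0 : s ≠ 0) :
    B (v - u) (v - u) = 0 ∧ σ s⁻¹ = -s⁻¹ ∧ utv B (v - u) s⁻¹ u = v := by
  have hvu : B v u = -s := by rw [hB u v, hs, hs']
  have ha : B (v - u) (v - u) = 0 := by
    simp only [map_sub, LinearMap.sub_apply]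
    rw [hu, hv, hs, hvu]; ring
  refine ⟨ha, by rw [map_inv₀, hs', inv_neg], ?_⟩
  rw [utv_apply B ha, map_sub, hs, hu, sub_zero, inv_mul_cancel₀ hs0, one_smul]
  abel

lemma exists_tv_of_skew (hB : IsHerm B) {U : Submodule F V} {u v : V} (huU : u ∈ U)
    (hvU : v ∈ U) (hu : B u u = 0) (hv : B v v = 0) (hs' : σ (B u v) = -(B u v))
    (hs0 : B u v ≠ 0) : ∃ t ∈ tvGroup B U, t u = v := by
  obtain ⟨ha, hc, hm⟩ := move_skew hB hu hv rfl hs' hs0
  exact ⟨_, utv_mem_tvGroup (U.sub_mem hvU huU) ha hc, hm⟩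

section Main

variable [Finite F] [FiniteDimensional F V] (hσ : Invol σ) (hB : IsHerm B)

include hσ hB in
/-- The transvection group of a nondegenerate subspace of dimension at least three scales
isotropic vectors arbitrarily. -/
lemma exists_tv_scale {U : Submodule F V} (hU : NondegOn B U) (h3 : 3 ≤ finrank F U) {b : V}
    (hbU : b ∈ U) (hb0 : b ≠ 0) (hb : B b b = 0) {μ : F} (hμ : μ ≠ 0) :
    ∃ t ∈ tvGroup B U, t b = μ • b := by
  obtain ⟨ζ, hζ0, hζ⟩ := exists_skew hσ
  obtain ⟨f, hfU, hf, hbf⟩ := exists_partner hσ hB hU hbU hb0 hb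
  have hfb : B f b = 1 := by rw [hB b f, hbf, map_one]
  have hU1 := nondegOn_pair hB hU hbU hfU hb hf hbf
  have hfr : 1 ≤ finrank F (U ⊓ orthV B b ⊓ orthV B f : Submodule F V) := by
    have h1 := finrank_le_inf_orthV_add_one (B := B) U b
    have h2 := finrank_le_inf_orthV_add_one (B := B) (U ⊓ orthV B b) f
    omega
  obtain ⟨z1, hz1U1, hz10⟩ := exists_ne_zero_of_finrank_pos hfr
  obtain ⟨d, hdU1, hd⟩ := exists_aniso hσ hB hU1 hz1U1 hz10
  have hdU : d ∈ U := hdU1.1.1
  have hdb : B d b = 0 := mem_orthV.mp hdU1.1.2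
  have hdf : B d f = 0 := mem_orthV.mp hdU1.2
  have hbd : B b d = 0 := herm_eq_zero hB hdb
  have hfd : B f d = 0 := herm_eq_zero hB hdf
  have hσμ : σ μ ≠ 0 := (map_ne_zero σ).mpr hμ
  set y := ζ / σ μ with hy
  obtain ⟨z, hz⟩ := norm_surj hσ (-(y + σ y) / B d d) (by
    rw [map_div₀, map_neg, map_add, hσ.invol, herm_self hB]; ring)
  -- the three vectors
  set v' := (-ζ) • f with hv'
  set w' := b + y • f + z • d with hw'
  have hv'U : v' ∈ U := U.smul_mem _ hfU
  have hw'U : w' ∈ U := U.add_mem (U.add_mem hbU (U.smul_mem _ hfU)) (U.smul_mem _ hdU)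
  have hv'v' : B v' v' = 0 := by rw [hv', self_smul, hf, mul_zero]
  have hw'w' : B w' w' = 0 := by
    simp only [hw', map_add, map_smul, map_smulₛₗ, LinearMap.add_apply, LinearMap.smul_apply,
      smul_eq_mul, hb, hf, hbf, hfb, hdb, hdf, hbd, hfd]
    have : z * σ z * B d d = -(y + σ y) := by
      rw [hz]; field_simp
    linear_combination this
  have hμb : B (μ • b) (μ • b) = 0 := by rw [self_smul, hb, mul_zero]
  have h1 : B b v' = ζ := by
    rw [hv', map_smulₛₗ, smul_eq_mul, hbf, mul_one, map_neg, hζ, neg_neg]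
  have h2 : B v' w' = -ζ := by
    simp only [hv', hw', map_add, map_smul, map_smulₛₗ, LinearMap.add_apply,
      LinearMap.smul_apply, smul_eq_mul, hf, hfb, hfd]
    ring
  have h3' : B w' (μ • b) = ζ := by
    simp only [hw', map_add, map_smul, map_smulₛₗ, LinearMap.add_apply,
      LinearMap.smul_apply, smul_eq_mul, hb, hfb, hdb, hy]
    field_simp
    ring
  obtain ⟨t1, ht1, hm1⟩ := exists_tv_of_skew hB hbU hv'U hb hv'v' (by rw [h1]; exact hζ)
    (by rw [h1]; exact hζ0)
  obtain ⟨t2, ht2, hm2⟩ := exists_tv_of_skew hB hv'U hw'U hv'v' hw'w'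
    (by rw [h2, map_neg, hζ]) (by rw [h2]; exact neg_ne_zero.mpr hζ0)
  obtain ⟨t3, ht3, hm3⟩ := exists_tv_of_skew hB hw'U (U.smul_mem μ hbU) hw'w' hμb
    (by rw [h3']; exact hζ) (by rw [h3']; exact hζ0)
  refine ⟨t3 * t2 * t1, (tvGroup B U).mul_mem ((tvGroup B U).mul_mem ht3 ht2) ht1, ?_⟩
  rw [LinearEquiv.mul_apply, LinearEquiv.mul_apply, hm1, hm2, hm3]

include hσ hB in
/-- Transitivity on nonzero isotropic vectors. -/
theorem exists_tv_iso {U : Submodule F V} (hU : NondegOn B U) (h3 : 3 ≤ finrank F U) {b b' : V}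
    (hbU : b ∈ U) (hb'U : b' ∈ U) (hb0 : b ≠ 0) (hb'0 : b' ≠ 0) (hb : B b b = 0)
    (hb' : B b' b' = 0) : ∃ t ∈ tvGroup B U, t b = b' := by
  obtain ⟨t1, ht1, μ, hμ0, hm1⟩ := exists_tv_move_point hσ hB hU hbU hb'U hb0 hb'0 hb hb'
  obtain ⟨t2, ht2, hm2⟩ := exists_tv_scale hσ hB hU h3 hb'U hb'0 hb' (inv_ne_zero hμ0)
  refine ⟨t2 * t1, (tvGroup B U).mul_mem ht2 ht1, ?_⟩
  rw [LinearEquiv.mul_apply, hm1, map_smul, hm2, smul_smul, mul_inv_cancel₀ hμ0, one_smul]

include hσ hB in
/-- Moving a hyperbolic partner of `e` to another one differing by an isotropic vector, by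
transvections fixing `e`. -/
lemma partner_step {U : Submodule F V} {e f1 f' : V}
    (heU : e ∈ U) (hf1U : f1 ∈ U) (hf'U : f' ∈ U) (he : B e e = 0) (hf1 : B f1 f1 = 0)
    (hf' : B f' f' = 0) (h1 : B e f1 = 1) (h' : B e f' = 1)
    (ha : B (f' - f1) (f' - f1) = 0) : ∃ t ∈ tvGroup B U, t e = e ∧ t f1 = f' := by
  obtain ⟨ζ, hζ0, hζ⟩ := exists_skew hσ
  have hf1e : B f1 e = 1 := by rw [hB e f1, h1, map_one]
  have hf'e : B f' e = 1 := by rw [hB e f', h', map_one]
  have hae : B (f' - f1) e = 0 := by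
    rw [map_sub, LinearMap.sub_apply, hf'e, hf1e, sub_self]
  have hea : B e (f' - f1) = 0 := herm_eq_zero hB hae
  have hf1a : B f1 (f' - f1) = σ (B (f' - f1) f1) := hB (f' - f1) f1
  -- x skew
  have hxs : σ (B (f' - f1) f1) = -(B (f' - f1) f1) := by
    have h0 : B (f1 + (f' - f1)) (f1 + (f' - f1)) = 0 := by
      rw [add_sub_cancel]; exact hf'
    rw [self_add hB, hf1, ha, hf1a, hσ.invol] at h0
    linear_combination h0
  generalize hadef : f' - f1 = a at *
  generalize hx : B a f1 = x at *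
  set d := a - x • e with hd
  have hdd : B d d = 0 := by
    simp only [hd, map_sub, map_smul, map_smulₛₗ, LinearMap.sub_apply, LinearMap.smul_apply,
      smul_eq_mul, ha, hae, hea, he]
    ring
  have hde : B d e = 0 := by
    simp only [hd, map_sub, map_smul, LinearMap.sub_apply, LinearMap.smul_apply, smul_eq_mul,
      hae, he]
    ring
  have hed : B e d = 0 := herm_eq_zero hB hde
  have hf1d : B f1 d = 0 := by
    simp only [hd, map_sub, map_smulₛₗ, smul_eq_mul, hf1a, hf1e]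
    ring
  have hσμ : σ (-ζ⁻¹) = ζ⁻¹ := by rw [map_neg, map_inv₀, hζ, inv_neg, neg_neg]
  have hμs : σ (-ζ⁻¹) = -(-ζ⁻¹) := by rw [hσμ, neg_neg]
  have haU : a ∈ U := by rw [← hadef]; exact U.sub_mem hf'U hf1U
  have hcU : d + (-ζ⁻¹) • e ∈ U :=
    U.add_mem (U.sub_mem haU (U.smul_mem _ heU)) (U.smul_mem _ heU)
  have hc : B (d + (-ζ⁻¹) • e) (d + (-ζ⁻¹) • e) = 0 := by
    simp only [map_add, map_smul, map_smulₛₗ, LinearMap.add_apply, LinearMap.smul_apply,
      smul_eq_mul, hdd, hde, hed, he]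
    ring
  have hxμ : σ (x - (-ζ⁻¹)) = -(x - (-ζ⁻¹)) := by rw [map_sub, hxs, hμs]; ring
  refine ⟨utv B (d + (-ζ⁻¹) • e) ζ * utv B e (x - (-ζ⁻¹)),
    (tvGroup B U).mul_mem (utv_mem_tvGroup hcU hc hζ) (utv_mem_tvGroup heU he hxμ), ?_, ?_⟩
  · rw [LinearEquiv.mul_apply, utv_self, utv_fix]
    rw [map_add, map_smulₛₗ, hed, he, smul_zero, add_zero]
  · rw [LinearEquiv.mul_apply, utv_apply B he, hf1e, mul_one, utv_apply B hc]
    have h5 : B (f1 + (x - (-ζ⁻¹)) • e) (d + (-ζ⁻¹) • e) = ζ⁻¹ := by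
      simp only [map_add, map_smul, map_smulₛₗ, LinearMap.add_apply, LinearMap.smul_apply,
        smul_eq_mul, hf1d, hf1e, hed, he, hσμ]
      ring
    rw [h5, mul_inv_cancel₀ hζ0, one_smul, hd]
    have : f' = f1 + a := by rw [← hadef]; abel
    rw [this]
    module

include hσ hB in
/-- In a nondegenerate subspace of dimension at least two every vector is the sum of two
isotropic vectors. -/
lemma exists_two_iso {D : Submodule F V} (hD : NondegOn B D) (h2 : 2 ≤ finrank F D) {d : V}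
    (hdD : d ∈ D) : ∃ d1 ∈ D, B d1 d1 = 0 ∧ B (d - d1) (d - d1) = 0 := by
  by_cases hdd : B d d = 0
  · exact ⟨0, D.zero_mem, by simp, by simpa using hdd⟩
  have hD1 := nondegOn_orthV hB hD hdD hdd
  have hfr : 1 ≤ finrank F (D ⊓ orthV B d : Submodule F V) := by
    have h1 := finrank_le_inf_orthV_add_one (B := B) D d
    omega
  obtain ⟨z1, hz1, hz10⟩ := exists_ne_zero_of_finrank_pos hfr
  obtain ⟨d', hd'D1, hd'⟩ := exists_aniso hσ hB hD1 hz1 hz10
  have hd'd : B d' d = 0 := mem_orthV.mp hd'D1.2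
  have hdd' : B d d' = 0 := herm_eq_zero hB hd'd
  obtain ⟨l, hl⟩ := tr_surj hσ 1 (map_one σ)
  obtain ⟨m, hm⟩ := norm_surj hσ (-(l * σ l * B d d) / B d' d') (by
    rw [map_div₀, map_neg, map_mul, map_mul, hσ.invol, herm_self hB, herm_self hB]; ring)
  have hm' : m * σ m * B d' d' = -(l * σ l * B d d) := by
    rw [hm]; field_simp
  refine ⟨l • d + m • d', D.add_mem (D.smul_mem _ hdD) (D.smul_mem _ hd'D1.1), ?_, ?_⟩
  · simp only [map_add, map_smul, map_smulₛₗ, LinearMap.add_apply, LinearMap.smul_apply,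
      smul_eq_mul, hd'd, hdd']
    linear_combination hm'
  · have : d - (l • d + m • d') = (1 - l) • d + (-m) • d' := by module
    rw [this]
    simp only [map_add, map_smul, map_smulₛₗ, LinearMap.add_apply, LinearMap.smul_apply,
      smul_eq_mul, hd'd, hdd', map_sub, map_one, map_neg]
    linear_combination hm' - (B d d) * hl

include hσ hB in
/-- Transitivity on the hyperbolic partners of a given isotropic vector. -/
theorem partner_trans {U : Submodule F V} (hU : NondegOn B U) (h4 : 4 ≤ finrank F U)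
    {e f1 f' : V} (heU : e ∈ U) (hf1U : f1 ∈ U) (hf'U : f' ∈ U) (he : B e e = 0)
    (hf1 : B f1 f1 = 0) (hf' : B f' f' = 0) (h1 : B e f1 = 1) (h' : B e f' = 1) :
    ∃ t ∈ tvGroup B U, t e = e ∧ t f1 = f' := by
  have hf1e : B f1 e = 1 := by rw [hB e f1, h1, map_one]
  have hf'e : B f' e = 1 := by rw [hB e f', h', map_one]
  have hD := nondegOn_pair hB hU heU hf1U he hf1 h1
  have hfr : 2 ≤ finrank F (U ⊓ orthV B e ⊓ orthV B f1 : Submodule F V) := by
    have h1 := finrank_le_inf_orthV_add_one (B := B) U e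
    have h2 := finrank_le_inf_orthV_add_one (B := B) (U ⊓ orthV B e) f1
    omega
  set x := B (f' - f1) f1 with hx
  have hae : B (f' - f1) e = 0 := by
    rw [map_sub, LinearMap.sub_apply, hf'e, hf1e, sub_self]
  have hdD : f' - f1 - x • e ∈ U ⊓ orthV B e ⊓ orthV B f1 := by
    refine Submodule.mem_inf.mpr ⟨Submodule.mem_inf.mpr
      ⟨U.sub_mem (U.sub_mem hf'U hf1U) (U.smul_mem _ heU), mem_orthV.mpr ?_⟩, mem_orthV.mpr ?_⟩
    · rw [map_sub, LinearMap.sub_apply, hae, map_smul, LinearMap.smul_apply, he, smul_zero,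
        sub_zero]
    · rw [map_sub, LinearMap.sub_apply, map_smul, LinearMap.smul_apply, h1, smul_eq_mul, mul_one,
        ← hx, sub_self]
  obtain ⟨d1, hd1D, hd1, hd2⟩ := exists_two_iso hσ hB hD hfr hdD
  have hd1U : d1 ∈ U := hd1D.1.1
  have hd1e : B d1 e = 0 := mem_orthV.mp hd1D.1.2
  have hd1f : B d1 f1 = 0 := mem_orthV.mp hd1D.2
  have hed1 : B e d1 = 0 := herm_eq_zero hB hd1e
  have hfd1 : B f1 d1 = 0 := herm_eq_zero hB hd1f
  have hf2U : f1 + d1 ∈ U := U.add_mem hf1U hd1U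
  have hf2 : B (f1 + d1) (f1 + d1) = 0 := by
    rw [self_add hB, hf1, hd1, hfd1, map_zero]; ring
  have h2 : B e (f1 + d1) = 1 := by rw [map_add, h1, hed1, add_zero]
  obtain ⟨t1, ht1, ht1e, ht1f⟩ := partner_step hσ hB heU hf1U hf2U he hf1 hf2 h1 h2
    (by rw [add_sub_cancel_left]; exact hd1)
  have hlast : B (f' - (f1 + d1)) (f' - (f1 + d1)) = 0 := by
    have e1 : f' - (f1 + d1) = (f' - f1 - x • e - d1) + x • e := by abel
    have hde : B (f' - f1 - x • e - d1) e = 0 := by
      rw [map_sub, LinearMap.sub_apply, hd1e, sub_zero, map_sub, LinearMap.sub_apply, hae,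
        map_smul, LinearMap.smul_apply, he, smul_zero, sub_zero]
    have hed : B e (f' - f1 - x • e - d1) = 0 := herm_eq_zero hB hde
    rw [e1, self_add hB, hd2, self_smul, he, map_smulₛₗ, hde, smul_zero, map_zero]
    ring
  obtain ⟨t2, ht2, ht2e, ht2f⟩ := partner_step hσ hB heU hf2U hf'U he hf2 hf' h2 h' hlast
  refine ⟨t2 * t1, (tvGroup B U).mul_mem ht2 ht1, ?_, ?_⟩
  · rw [LinearEquiv.mul_apply, ht1e, ht2e]
  · rw [LinearEquiv.mul_apply, ht1f, ht2f]

include hσ hB in
/-- Transitivity on hyperbolic pairs. -/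
theorem pair_trans {U : Submodule F V} (hU : NondegOn B U) (h4 : 4 ≤ finrank F U)
    {e f e' f' : V} (heU : e ∈ U) (hfU : f ∈ U) (he'U : e' ∈ U) (hf'U : f' ∈ U)
    (he : B e e = 0) (hf : B f f = 0) (hef : B e f = 1) (he' : B e' e' = 0) (hf' : B f' f' = 0)
    (hef' : B e' f' = 1) : ∃ t ∈ tvGroup B U, t e = e' ∧ t f = f' := by
  have he0 : e ≠ 0 := by
    rintro rfl
    simp at hef
  have he'0 : e' ≠ 0 := by
    rintro rfl
    simp at hef'
  obtain ⟨t1, ht1, hm1⟩ := exists_tv_iso hσ hB hU (by omega) heU he'U he0 he'0 he he'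
  have ht1U : t1 ∈ uG B := tvGroup_le_uG hB U ht1
  have hf1U : t1 f ∈ U := tvGroup_map_mem ht1 f hfU
  have hf1 : B (t1 f) (t1 f) = 0 := by rw [ht1U, hf]
  have h1 : B e' (t1 f) = 1 := by rw [← hm1, ht1U, hef]
  obtain ⟨t2, ht2, ht2e, ht2f⟩ := partner_trans hσ hB hU h4 he'U hf1U hf'U he' hf1 hf' h1 hef'
  refine ⟨t2 * t1, (tvGroup B U).mul_mem ht2 ht1, ?_, ?_⟩
  · rw [LinearEquiv.mul_apply, hm1, ht2e]
  · rw [LinearEquiv.mul_apply, ht2f]

include hσ hB in
/-- A nondegenerate subspace of dimension at least two contains vectors of every norm. -/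
lemma exists_norm {U : Submodule F V} (hU : NondegOn B U) (h2 : 2 ≤ finrank F U) (ν : F)
    (hν : σ ν = ν) : ∃ d ∈ U, d ≠ 0 ∧ B d d = ν := by
  obtain ⟨e, heU, f, hfU, he, hf, hef⟩ := exists_pair hσ hB hU (exists_notMem_span1 h2)
  have hfe : B f e = 1 := by rw [hB e f, hef, map_one]
  obtain ⟨κ, hκ⟩ := tr_surj hσ ν hν
  refine ⟨e + κ • f, U.add_mem heU (U.smul_mem _ hfU), ?_, ?_⟩
  · intro h0
    have : B (e + κ • f) f = 0 := by rw [h0]; simp
    rw [map_add, LinearMap.add_apply, hef, map_smul, LinearMap.smul_apply, hf, smul_zero,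
      add_zero] at this
    exact one_ne_zero this
  · simp only [map_add, map_smul, map_smulₛₗ, LinearMap.add_apply, LinearMap.smul_apply,
      smul_eq_mul, he, hf, hef, hfe]
    linear_combination hκ

include hσ hB in
/-- A vector of nonzero norm `κ + σ κ` is `e + κ • f` for a hyperbolic pair `e`, `f`. -/
lemma exists_pair_decomp {U : Submodule F V} (hU : NondegOn B U) (h2 : 2 ≤ finrank F U) {v : V}
    (hvU : v ∈ U) (hv : B v v ≠ 0) {κ : F} (hκ : κ + σ κ = B v v) :
    ∃ e ∈ U, ∃ f ∈ U, B e e = 0 ∧ B f f = 0 ∧ B e f = 1 ∧ v = e + κ • f := by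
  obtain ⟨e1, he1U, f1, hf1U, he1, hf1, hef1⟩ := exists_pair hσ hB hU (exists_notMem_span1 h2)
  have hspan := span_iso hσ hB he1U hf1U he1 hf1 hef1
  have hv0 : v ≠ 0 := by
    rintro rfl
    simp at hv
  obtain ⟨e0, he0U, he0, hve0⟩ : ∃ b ∈ U, B b b = 0 ∧ B v b ≠ 0 := by
    by_contra hcon
    push Not at hcon
    obtain ⟨y, hyU, hy⟩ := hU v hvU hv0
    apply hy
    have := hspan y hyU
    refine Submodule.span_induction (p := fun y _ => B v y = 0) ?_ ?_ ?_ ?_ this
    · rintro z ⟨hzU, hz⟩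
      exact hcon z hzU hz
    · simp
    · intro x y _ _ hx hy
      rw [map_add, hx, hy, add_zero]
    · intro c x _ hx
      rw [map_smulₛₗ, hx, smul_zero]
  have he0v : B e0 v ≠ 0 := herm_ne_zero hσ hB hve0
  have hκ0 : κ ≠ 0 := by
    rintro rfl
    apply hv
    rw [← hκ, map_zero, add_zero]
  have hσκ0 : σ κ ≠ 0 := (map_ne_zero σ).mpr hκ0
  set e := (σ κ / B e0 v) • e0 with he
  have heU : e ∈ U := U.smul_mem _ he0U
  have hee : B e e = 0 := by rw [he, self_smul, he0, mul_zero]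
  have hev : B e v = σ κ := by
    rw [he, map_smul, LinearMap.smul_apply, smul_eq_mul, div_mul_cancel₀ _ he0v]
  have hve : B v e = κ := by rw [hB e v, hev, hσ.invol]
  have hvee : B (v - e) (v - e) = 0 := by
    simp only [map_sub, LinearMap.sub_apply, hev, hve, hee]
    linear_combination -hκ
  refine ⟨e, heU, κ⁻¹ • (v - e), U.smul_mem _ (U.sub_mem hvU heU), hee, ?_, ?_, ?_⟩
  · rw [self_smul, hvee, mul_zero]
  · rw [map_smulₛₗ, map_sub, hev, hee, sub_zero, smul_eq_mul, map_inv₀, inv_mul_cancel₀ hσκ0]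
  · rw [smul_smul, mul_inv_cancel₀ hκ0, one_smul]; abel

include hσ hB in
/-- Transitivity on the vectors of a given nonzero norm. -/
theorem exists_tv_aniso {U : Submodule F V} (hU : NondegOn B U) (h4 : 4 ≤ finrank F U)
    {v v' : V} (hvU : v ∈ U) (hv'U : v' ∈ U) (hv : B v v ≠ 0) (hvv' : B v' v' = B v v) :
    ∃ t ∈ tvGroup B U, t v = v' := by
  obtain ⟨κ, hκ⟩ := tr_surj hσ (B v v) (herm_self hB v)
  obtain ⟨e, heU, f, hfU, he, hf, hef, hdec⟩ :=
    exists_pair_decomp hσ hB hU (by omega) hvU hv hκ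
  obtain ⟨e', he'U, f', hf'U, he', hf', hef', hdec'⟩ :=
    exists_pair_decomp hσ hB hU (by omega) hv'U (by rw [hvv']; exact hv) (by rw [hvv']; exact hκ)
  obtain ⟨t, ht, hte, htf⟩ := pair_trans hσ hB hU h4 heU hfU he'U hf'U he hf hef he' hf' hef'
  refine ⟨t, ht, ?_⟩
  rw [hdec, hdec', map_add, map_smul, hte, htf]

include hσ hB in
/-- Witt-type extension: the restriction of an isometry to a nondegenerate subspace `W` of
codimension at least four in the nondegenerate subspace `U` is induced by an element of the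
transvection group of `U`. -/
theorem exists_tv_agree : ∀ (k : ℕ) (U : Submodule F V), NondegOn B U → ∀ W : Submodule F V,
    W ≤ U → NondegOn B W → finrank F W ≤ k → finrank F W + 4 ≤ finrank F U →
    ∀ g ∈ uG B, (∀ w ∈ W, g w ∈ U) → ∃ t ∈ tvGroup B U, ∀ w ∈ W, t w = g w := by
  intro k
  induction k with
  | zero =>
    intro U _ W _ _ hk _ g _ _
    have hW : W = ⊥ := by
      rw [← Submodule.finrank_eq_zero]; omega
    refine ⟨1, (tvGroup B U).one_mem, ?_⟩
    intro w hw
    rw [hW, Submodule.mem_bot] at hw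
    rw [hw, map_zero, map_zero]
  | succ k ih =>
    intro U hU W hWU hW hk hdim g hg hgW
    by_cases hW0 : W = ⊥
    · refine ⟨1, (tvGroup B U).one_mem, ?_⟩
      intro w hw
      rw [hW0, Submodule.mem_bot] at hw
      rw [hw, map_zero, map_zero]
    obtain ⟨x0, hx0W, hx00⟩ := Submodule.exists_mem_ne_zero_of_ne_bot hW0
    obtain ⟨w0, hw0W, hw0⟩ := exists_aniso hσ hB hW hx0W hx00
    have hgw0 : B (g w0) (g w0) = B w0 w0 := hg w0 w0
    obtain ⟨t1, ht1, hm1⟩ := exists_tv_aniso hσ hB hU (by omega) (hgW w0 hw0W) (hWU hw0W)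
      (by rw [hgw0]; exact hw0) hgw0.symm
    have ht1U : t1 ∈ uG B := tvGroup_le_uG hB U ht1
    have hg' : t1 * g ∈ uG B := (uG B).mul_mem ht1U hg
    have hg'w0 : (t1 * g) w0 = w0 := by rw [LinearEquiv.mul_apply, hm1]
    have hU1 := nondegOn_orthV hB hU (hWU hw0W) hw0
    have hW1 := nondegOn_orthV hB hW hw0W hw0
    have hW1U1 : W ⊓ orthV B w0 ≤ U ⊓ orthV B w0 := inf_le_inf_right _ hWU
    have hlt : W ⊓ orthV B w0 < W := by
      refine lt_of_le_of_ne inf_le_left ?_
      intro heq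
      have : w0 ∈ W ⊓ orthV B w0 := by rw [heq]; exact hw0W
      exact hw0 (mem_orthV.mp this.2)
    have hk1 : finrank F (W ⊓ orthV B w0 : Submodule F V) ≤ k := by
      have := Submodule.finrank_lt_finrank_of_lt hlt
      omega
    have hdim1 : finrank F (W ⊓ orthV B w0 : Submodule F V) + 4 ≤
        finrank F (U ⊓ orthV B w0 : Submodule F V) := by
      have h1 := Submodule.finrank_lt_finrank_of_lt hlt
      have h2 := finrank_le_inf_orthV_add_one (B := B) U w0
      omega
    have hmap : ∀ w ∈ W ⊓ orthV B w0, (t1 * g) w ∈ U ⊓ orthV B w0 := by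
      intro w hw
      refine ⟨?_, mem_orthV.mpr ?_⟩
      · rw [LinearEquiv.mul_apply]
        exact tvGroup_map_mem ht1 _ (hgW w hw.1)
      · have := hg' w w0
        rw [hg'w0] at this
        rw [this]
        exact mem_orthV.mp hw.2
    obtain ⟨t2, ht2, hag⟩ := ih (U ⊓ orthV B w0) hU1 (W ⊓ orthV B w0) hW1U1 hW1 hk1 hdim1
      (t1 * g) hg' hmap
    have ht2U : t2 ∈ tvGroup B U := tvGroup_mono inf_le_left ht2
    have ht2w0 : t2 w0 = w0 := by
      apply tvGroup_fix _ ht2
      intro a ha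
      exact herm_eq_zero hB (mem_orthV.mp ha.2)
    refine ⟨t1⁻¹ * t2, (tvGroup B U).mul_mem ((tvGroup B U).inv_mem ht1) ht2U, ?_⟩
    intro w hw
    set c := B w w0 / B w0 w0 with hc
    have hw1 : w - c • w0 ∈ W ⊓ orthV B w0 := by
      refine ⟨W.sub_mem hw (W.smul_mem _ hw0W), mem_orthV.mpr ?_⟩
      rw [map_sub, LinearMap.sub_apply, map_smul, LinearMap.smul_apply, smul_eq_mul, hc,
        div_mul_cancel₀ _ hw0, sub_self]
    have h5 := hag _ hw1
    have h6 : t2 w = (t1 * g) w := by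
      have e1 : w = (w - c • w0) + c • w0 := by abel
      rw [e1, map_add, map_add, h5, map_smul, map_smul, ht2w0, hg'w0]
    rw [LinearEquiv.mul_apply, h6, LinearEquiv.mul_apply, inv_apply_apply']

end Main

end Cfsg.Agent.Lib.Helper94_HermWitt
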