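import Mathlib
import Cfsg.Agent.Lib.Helper94_HermWitt
import Cfsg.Agent.Lib.Helper94_HermOrth
import Cfsg.Agent.Lib.Helper94_HermPara

set_option autoImplicit false

/-!
The isometries of determinant one of a nondegenerate hermitian space over a finite field are
products of unitary transvections (dimension at least four; dimension three when the fixed
field has more than two elements).  Abstract form, on top of `Helper94_Herm*`.
-/

namespace Cfsg.Agent.Lib.Helper13_SUGen

open Module Cfsg.Agent.Lib.Helper94_Symp Cfsg.Agent.Lib.Helper94_Herm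
  Cfsg.Agent.Lib.Helper94_HermTrans Cfsg.Agent.Lib.Helper94_HermWitt
  Cfsg.Agent.Lib.Helper94_HermOrth Cfsg.Agent.Lib.Helper94_HermEich
  Cfsg.Agent.Lib.Helper94_HermPara Cfsg.Agent.Lib.Helper94_HermIrr

variable {F V : Type*} [Field F] [AddCommGroup V] [Module F V]
variable {σ : F →+* F} {B : V →ₗ[F] V →ₛₗ[σ] F}

/-! ### Hyperbolic pairs -/

/-- A hyperbolic pair. -/
structure HypPair (B : V →ₗ[F] V →ₛₗ[σ] F) (e f : V) : Prop where
  ee : B e e = 0
  ff : B f f = 0
  ef : B e f = 1
  fe : B f e = 1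

lemma hypPair_mk (hB : IsHerm B) {e f : V} (he : B e e = 0) (hf : B f f = 0) (hef : B e f = 1) :
    HypPair B e f :=
  ⟨he, hf, hef, by rw [hB e f, hef, map_one]⟩

/-- The component of `v` orthogonal to the hyperbolic pair. -/
def perpPart (B : V →ₗ[F] V →ₛₗ[σ] F) (e f v : V) : V := v - B v f • e - B v e • f

lemma perpPart_e {e f : V} (h : HypPair B e f) (v : V) : B (perpPart B e f v) e = 0 := by
  simp only [perpPart, map_sub, map_smul, LinearMap.sub_apply, LinearMap.smul_apply, smul_eq_mul,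
    h.ee, h.fe]
  ring

lemma perpPart_f {e f : V} (h : HypPair B e f) (v : V) : B (perpPart B e f v) f = 0 := by
  simp only [perpPart, map_sub, map_smul, LinearMap.sub_apply, LinearMap.smul_apply, smul_eq_mul,
    h.ff, h.ef]
  ring

lemma eq_add_perpPart (e f v : V) : v = B v f • e + B v e • f + perpPart B e f v := by
  simp only [perpPart]
  abel

/-- Two linear equivalences agreeing on `e`, `f` and on the vectors orthogonal to both agree. -/
lemma ext_pair {e f : V} (h : HypPair B e f) {g g' : V ≃ₗ[F] V} (he : g e = g' e)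
    (hf : g f = g' f) (hM : ∀ m, B m e = 0 → B m f = 0 → g m = g' m) : g = g' := by
  ext v
  rw [eq_add_perpPart (B := B) e f v]
  simp only [map_add, map_smul, he, hf, hM _ (perpPart_e h v) (perpPart_f h v)]

lemma utv_e_f {e f : V} (h : HypPair B e f) (s : F) : utv B e s f = f + s • e := by
  rw [utv_apply B h.ee, h.fe, mul_one]

lemma utv_f_e {e f : V} (h : HypPair B e f) (s : F) : utv B f s e = e + s • f := by
  rw [utv_apply B h.ff, h.ef, mul_one]

/-- Explicit factorisation of an isometry of a hyperbolic plane with lower-left entry `c ≠ 0`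
as a product of three transvections. -/
lemma plane_explicit {e f : V} (h : HypPair B e f) {g : V ≃ₗ[F] V} {a b c d : F}
    (hge : g e = a • e + c • f) (hgf : g f = b • e + d • f)
    (hM : ∀ m, B m e = 0 → B m f = 0 → g m = m) (hc0 : c ≠ 0) (hdet : a * d - b * c = 1) :
    g = utv B e ((a - 1) / c) * utv B f c * utv B e ((d - 1) / c) := by
  obtain ⟨x, hx⟩ : ∃ x, x = (a - 1) / c := ⟨_, rfl⟩
  obtain ⟨y, hy⟩ : ∃ y, y = (d - 1) / c := ⟨_, rfl⟩
  rw [← hx, ← hy]
  have ha : a = 1 + c * x := by rw [hx]; field_simp; ring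
  have hd : d = 1 + y * c := by rw [hy]; field_simp; ring
  have hb : b = y + (y * c + 1) * x := by
    rw [hx, hy]
    field_simp
    linear_combination (-1 : F) * hdet
  apply ext_pair h
  · rw [LinearEquiv.mul_apply, LinearEquiv.mul_apply, utv_self, utv_f_e h, map_add, map_smul,
      utv_self, utv_e_f h, hge, ha]
    module
  · rw [LinearEquiv.mul_apply, LinearEquiv.mul_apply, utv_e_f h, map_add, map_smul, utv_self,
      utv_f_e h, map_add, map_smul, map_add, map_smul, utv_self, utv_e_f h, hgf, hb, hd]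
    module
  · intro m hme hmf
    rw [LinearEquiv.mul_apply, LinearEquiv.mul_apply, utv_fix B e _ hme, utv_fix B f _ hmf,
      utv_fix B e _ hme, hM m hme hmf]

/-- An isometry of a hyperbolic plane given by entries `a, d` fixed by `σ` and `b, c` skew, of
determinant one, is a product of transvections with centres `e`, `f`. -/
lemma plane_mem (hσ : Invol σ) {U : Submodule F V} {e f : V} (h : HypPair B e f) (heU : e ∈ U)
    (hfU : f ∈ U) {g : V ≃ₗ[F] V} {a b c d : F}
    (hge : g e = a • e + c • f) (hgf : g f = b • e + d • f)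
    (hM : ∀ m, B m e = 0 → B m f = 0 → g m = m)
    (ha : σ a = a) (hb : σ b = -b) (hc : σ c = -c) (hd : σ d = d) (hdet : a * d - b * c = 1) :
    g ∈ tvGroup B U := by
  have key : ∀ (g : V ≃ₗ[F] V) (a b c d : F), g e = a • e + c • f → g f = b • e + d • f →
      (∀ m, B m e = 0 → B m f = 0 → g m = m) → σ a = a → σ c = -c → σ d = d →
      a * d - b * c = 1 → c ≠ 0 → g ∈ tvGroup B U := by
    intro g a b c d hge hgf hM ha hc hd hdet hc0
    rw [plane_explicit h hge hgf hM hc0 hdet]
    have hx : σ ((a - 1) / c) = -((a - 1) / c) := by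
      rw [map_div₀, map_sub, map_one, ha, hc]
      field_simp
    have hy : σ ((d - 1) / c) = -((d - 1) / c) := by
      rw [map_div₀, map_sub, map_one, hd, hc]
      field_simp
    exact mul_mem (mul_mem (utv_mem_tvGroup heU h.ee hx) (utv_mem_tvGroup hfU h.ff hc))
      (utv_mem_tvGroup heU h.ee hy)
  by_cases hc0 : c = 0
  · obtain ⟨ζ, hζ0, hζ⟩ := exists_skew hσ
    have ha0 : a ≠ 0 := by
      rintro rfl
      rw [hc0] at hdet
      simp at hdet
    have h1 : utv B f ζ * g ∈ tvGroup B U := by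
      refine key (utv B f ζ * g) a b (a * ζ + c) (b * ζ + d) ?_ ?_ ?_ ha ?_ ?_ ?_ ?_
      · rw [LinearEquiv.mul_apply, hge, map_add, map_smul, map_smul, utv_f_e h, utv_self]
        module
      · rw [LinearEquiv.mul_apply, hgf, map_add, map_smul, map_smul, utv_f_e h, utv_self]
        module
      · intro m hme hmf
        rw [LinearEquiv.mul_apply, hM m hme hmf, utv_fix B f _ hmf]
      · rw [map_add, map_mul, ha, hζ, hc]; ring
      · rw [map_add, map_mul, hb, hζ, hd]; ring
      · linear_combination hdet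
      · rw [hc0, add_zero]
        exact mul_ne_zero ha0 hζ0
    have h2 : g = (utv B f ζ)⁻¹ * (utv B f ζ * g) := by group
    rw [h2]
    exact mul_mem (inv_mem (utv_mem_tvGroup hfU h.ff hζ)) h1
  · exact key g a b c d hge hgf hM ha hc hd hdet hc0

/-! ### Normality and determinant of the transvection group -/

lemma conj_mem_tvGroup {g : V ≃ₗ[F] V} (hg : g ∈ uG B) {t : V ≃ₗ[F] V}
    (ht : t ∈ tvGroup B ⊤) : g * t * g⁻¹ ∈ tvGroup B ⊤ := by
  unfold tvGroup at ht
  induction ht using Subgroup.closure_induction with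
  | mem x hx =>
    obtain ⟨a, -, c, ha, hc, rfl⟩ := hx
    rw [conj_utv hg]
    exact utv_mem_tvGroup Submodule.mem_top (by rw [hg, ha]) hc
  | one => simp
  | mul x y _ _ hx hy =>
    have : g * (x * y) * g⁻¹ = (g * x * g⁻¹) * (g * y * g⁻¹) := by group
    rw [this]
    exact mul_mem hx hy
  | inv x _ hx =>
    have : g * x⁻¹ * g⁻¹ = (g * x * g⁻¹)⁻¹ := by group
    rw [this]
    exact inv_mem hx

lemma det_utv (a : V) (c : F) : LinearEquiv.det (utv B a c) = 1 := by
  unfold utv
  split_ifs with h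
  · exact LinearEquiv.transvection.det_eq_one _
  · exact map_one _

lemma det_tvGroup {U : Submodule F V} {t : V ≃ₗ[F] V} (ht : t ∈ tvGroup B U) :
    LinearEquiv.det t = 1 := by
  have hle : tvGroup B U ≤ MonoidHom.ker (LinearEquiv.det (R := F) (M := V)) := by
    apply tvGroup_le
    intro a _ _ c _
    rw [MonoidHom.mem_ker]
    exact det_utv a c
  exact MonoidHom.mem_ker.mp (hle ht)

/-! ### A determinant computation -/

/-- If `g` maps the span of a linearly independent family `u` to itself with matrix `A` and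
acts trivially modulo that span, then `det g = det A`. -/
lemma det_eq_of_span [FiniteDimensional F V] {ι : Type*} [Fintype ι] [DecidableEq ι] {u : ι → V}
    (hu : LinearIndependent F u) (g : V →ₗ[F] V) (A : Matrix ι ι F)
    (hA : ∀ j, g (u j) = ∑ i, A i j • u i)
    (hq : ∀ v, g v - v ∈ Submodule.span F (Set.range u)) : LinearMap.det g = A.det := by
  set L := Submodule.span F (Set.range u) with hL
  have he : L ≤ L.comap g := by
    rw [hL, Submodule.span_le]
    rintro _ ⟨j, rfl⟩
    rw [SetLike.mem_coe, Submodule.mem_comap, hA]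
    exact Submodule.sum_mem _ fun i _ => Submodule.smul_mem _ _
      (Submodule.subset_span ⟨i, rfl⟩)
  rw [LinearMap.det_eq_det_mul_det L g he]
  have h1 : L.mapQ L g he = LinearMap.id := by
    apply LinearMap.ext
    intro x
    obtain ⟨v, rfl⟩ := Submodule.Quotient.mk_surjective L x
    rw [Submodule.mapQ_apply, LinearMap.id_apply, Submodule.Quotient.eq]
    exact hq v
  rw [h1, LinearMap.det_id, mul_one]
  let bL : Basis ι F L := Basis.span hu
  rw [← LinearMap.det_toMatrix bL]
  congr 1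
  ext i j
  rw [LinearMap.toMatrix_apply]
  have h2 : g.restrict he (bL j) = ∑ i, A i j • bL i := by
    apply Subtype.ext
    rw [LinearMap.coe_restrict_apply, Basis.span_apply, hA, Submodule.coe_sum]
    refine Finset.sum_congr rfl fun i _ => ?_
    rw [Submodule.coe_smul, Basis.span_apply]
  rw [h2, Basis.repr_sum_self]

/-! ### The special unitary group of a hyperbolic plane -/

lemma hypPair_linearIndependent {e f : V} (h : HypPair B e f) :
    LinearIndependent F ![e, f] := by
  rw [LinearIndependent.pair_iff]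
  intro s t hst
  have h1 : B (s • e + t • f) f = 0 := by rw [hst]; simp
  have h2 : B (s • e + t • f) e = 0 := by rw [hst]; simp
  simp only [map_add, map_smul, LinearMap.add_apply, LinearMap.smul_apply, smul_eq_mul, h.ee,
    h.ff, h.ef, h.fe, mul_zero, mul_one, add_zero, zero_add] at h1 h2
  exact ⟨h1, h2⟩

lemma mem_span_pair_range {e f : V} (s t : F) :
    s • e + t • f ∈ Submodule.span F (Set.range ![e, f]) :=
  Submodule.add_mem _ (Submodule.smul_mem _ _ (Submodule.subset_span ⟨0, rfl⟩))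
    (Submodule.smul_mem _ _ (Submodule.subset_span ⟨1, rfl⟩))

/-- A vector orthogonal to everything orthogonal to the pair lies in the plane of the pair. -/
lemma eq_of_perp_perp (hB : IsHerm B) (hN : NondegOn B ⊤) {e f : V} (h : HypPair B e f) {x : V}
    (hx : ∀ m, B m e = 0 → B m f = 0 → B x m = 0) : x = B x f • e + B x e • f := by
  have hm0 : perpPart B e f x = 0 := by
    by_contra hne
    obtain ⟨y, -, hy⟩ := hN _ Submodule.mem_top hne
    apply hy
    have hme := perpPart_e h x
    have hmf := perpPart_f h x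
    have hem : ∀ m, B m e = 0 → B m f = 0 → B (perpPart B e f x) m = 0 := by
      intro m hme' hmf'
      have h1 : B e m = 0 := herm_eq_zero hB hme'
      have h2 : B f m = 0 := herm_eq_zero hB hmf'
      simp only [perpPart, map_sub, map_smul, LinearMap.sub_apply, LinearMap.smul_apply,
        smul_eq_mul, h1, h2, hx m hme' hmf', mul_zero, sub_zero]
    rw [eq_add_perpPart (B := B) e f y]
    simp only [map_add, map_smulₛₗ, smul_eq_mul, hme, hmf, mul_zero, zero_add,
      hem _ (perpPart_e h y) (perpPart_f h y)]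
  have := eq_add_perpPart (B := B) e f x
  rw [hm0, add_zero] at this
  exact this

/-- An isometry of determinant one fixing pointwise the orthogonal of a hyperbolic pair is a
product of transvections. -/
theorem plane_det [FiniteDimensional F V] (hσ : Invol σ) (hB : IsHerm B)
    (hN : NondegOn B ⊤) {e f : V} (h : HypPair B e f) {g : V ≃ₗ[F] V} (hg : g ∈ uG B)
    (hM : ∀ m, B m e = 0 → B m f = 0 → g m = m) (hdet : LinearEquiv.det g = 1) :
    g ∈ tvGroup B ⊤ := by
  have hperp : ∀ x, (∀ m, B m e = 0 → B m f = 0 → B x m = 0) →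
      ∀ m, B m e = 0 → B m f = 0 → B (g x) m = 0 := by
    intro x hx m hme hmf
    have := hg x m
    rw [hM m hme hmf] at this
    rw [this]
    exact hx m hme hmf
  have hge := eq_of_perp_perp hB hN h
    (hperp e (fun m hme _ => herm_eq_zero hB hme))
  have hgf := eq_of_perp_perp hB hN h
    (hperp f (fun m _ hmf => herm_eq_zero hB hmf))
  obtain ⟨a, ha⟩ : ∃ a, a = B (g e) f := ⟨_, rfl⟩
  obtain ⟨c, hc⟩ : ∃ c, c = B (g e) e := ⟨_, rfl⟩
  obtain ⟨b, hb⟩ : ∃ b, b = B (g f) f := ⟨_, rfl⟩
  obtain ⟨d, hd⟩ : ∃ d, d = B (g f) e := ⟨_, rfl⟩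
  rw [← ha, ← hc] at hge
  rw [← hb, ← hd] at hgf
  have r1 : a * σ c + c * σ a = 0 := by
    have := hg e e
    rw [hge, h.ee] at this
    simp only [map_add, map_smul, map_smulₛₗ, LinearMap.add_apply, LinearMap.smul_apply,
      smul_eq_mul, h.ee, h.ff, h.ef, h.fe, mul_zero, mul_one, add_zero, zero_add] at this
    linear_combination this
  have r2 : b * σ d + d * σ b = 0 := by
    have := hg f f
    rw [hgf, h.ff] at this
    simp only [map_add, map_smul, map_smulₛₗ, LinearMap.add_apply, LinearMap.smul_apply,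
      smul_eq_mul, h.ee, h.ff, h.ef, h.fe, mul_zero, mul_one, add_zero, zero_add] at this
    linear_combination this
  have r3 : a * σ d + c * σ b = 1 := by
    have := hg e f
    rw [hge, hgf, h.ef] at this
    simp only [map_add, map_smul, map_smulₛₗ, LinearMap.add_apply, LinearMap.smul_apply,
      smul_eq_mul, h.ee, h.ff, h.ef, h.fe, mul_zero, mul_one, add_zero, zero_add] at this
    linear_combination this
  have r3' : σ a * d + σ c * b = 1 := by
    have := congrArg σ r3
    simpa only [map_add, map_mul, hσ.invol, map_one] using this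
  have r4 : a * d - b * c = 1 := by
    have h1 : LinearMap.det (g : V →ₗ[F] V) = 1 := by
      rw [← LinearEquiv.coe_det, hdet, Units.val_one]
    rw [det_eq_of_span (hypPair_linearIndependent h) (g : V →ₗ[F] V) !![a, b; c, d]] at h1
    · rw [Matrix.det_fin_two_of] at h1
      exact h1
    · intro j
      fin_cases j
      · simp [Fin.sum_univ_two, hge]
      · simp [Fin.sum_univ_two, hgf]
    · intro v
      have hv := eq_add_perpPart (B := B) e f v
      have hgm := hM _ (perpPart_e h v) (perpPart_f h v)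
      obtain ⟨α, hα⟩ : ∃ α, α = B v f := ⟨_, rfl⟩
      obtain ⟨β, hβ⟩ : ∃ β, β = B v e := ⟨_, rfl⟩
      obtain ⟨m, hm⟩ : ∃ m, m = perpPart B e f v := ⟨_, rfl⟩
      rw [← hα, ← hβ, ← hm] at hv
      rw [← hm] at hgm
      have : (g : V →ₗ[F] V) v - v = (α * (a - 1) + β * b) • e
          + (α * c + β * (d - 1)) • f := by
        rw [LinearEquiv.coe_coe, hv, map_add, map_add, map_smul, map_smul, hgm, hge, hgf]
        module
      rw [this]
      exact mem_span_pair_range _ _
  have sa : σ a = a := by linear_combination (-b) * r1 + a * r3' - σ a * r4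
  have sc : σ c = -c := by linear_combination d * r1 - c * r3' - σ c * r4
  have sd : σ d = d := by linear_combination (-c) * r2 + d * r3 - σ d * r4
  have sb : σ b = -b := by linear_combination (-b) * r3 + a * r2 - σ b * r4
  exact plane_mem hσ h Submodule.mem_top Submodule.mem_top hge hgf hM sa sb sc sd r4

/-! ### Dimension at least four -/

lemma inf_orthV_lt {X : Submodule F V} {a x : V} (hx : x ∈ X) (h : B x a ≠ 0) :
    X ⊓ orthV B a < X := by
  refine lt_of_le_of_ne inf_le_left ?_
  intro heq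
  have : x ∈ X ⊓ orthV B a := by rw [heq]; exact hx
  exact h (mem_orthV.mp this.2)

lemma nondegOn_orthS [Finite F] [FiniteDimensional F V] (hB : IsHerm B) (hN : NondegOn B ⊤)
    {W : Submodule F V} (hW : NondegOn B W) : NondegOn B (orthS B W) := by
  intro x hx hx0
  by_contra hcon
  push Not at hcon
  have hxW : x ∈ W := by
    rw [← orthS_orthS hB hN W]
    intro y hy
    exact herm_eq_zero hB (hcon y hy)
  obtain ⟨y, hyW, hy⟩ := hW x hxW hx0
  exact hy (herm_eq_zero hB (hx y hyW))

/-- In dimension at least four, every isometry of determinant one is a product of unitary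
transvections. -/
theorem mem_tvGroup_of_four_le [Finite F] [FiniteDimensional F V] (hσ : Invol σ) (hB : IsHerm B)
    (hN : NondegOn B ⊤) (h4 : 4 ≤ finrank F V) {g : V ≃ₗ[F] V} (hg : g ∈ uG B)
    (hdet : LinearEquiv.det g = 1) : g ∈ tvGroup B ⊤ := by
  have htop : finrank F (⊤ : Submodule F V) = finrank F V := finrank_top F V
  obtain ⟨e, -, f, -, he, hf, hef⟩ := exists_pair hσ hB hN
    (exists_notMem_span1 (U := ⊤) (by omega))
  have h := hypPair_mk hB he hf hef
  obtain ⟨M, hMdef⟩ : ∃ M, M = (⊤ : Submodule F V) ⊓ orthV B e ⊓ orthV B f := ⟨_, rfl⟩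
  have hMN : NondegOn B M := by
    rw [hMdef]
    exact nondegOn_pair hB hN Submodule.mem_top Submodule.mem_top he hf hef
  have hX1 : (⊤ : Submodule F V) ⊓ orthV B e < ⊤ :=
    inf_orthV_lt (x := f) Submodule.mem_top (by rw [h.fe]; exact one_ne_zero)
  have hX2 : M < ⊤ ⊓ orthV B e := by
    rw [hMdef]
    exact inf_orthV_lt (x := e) ⟨Submodule.mem_top, mem_orthV.mpr he⟩
      (by rw [hef]; exact one_ne_zero)
  have hM2 : 2 ≤ finrank F M := by
    have h1 := finrank_le_inf_orthV_add_one (B := B) ⊤ e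
    have h2 := finrank_le_inf_orthV_add_one (B := B) (⊤ ⊓ orthV B e) f
    rw [hMdef]
    omega
  have hmemM : ∀ m, m ∈ M ↔ B m e = 0 ∧ B m f = 0 := by
    intro m
    rw [hMdef]
    simp only [Submodule.mem_inf, Submodule.mem_top, true_and, mem_orthV]
  obtain ⟨e2, he2M, f2, hf2M, he2, hf2, hef2⟩ := exists_pair hσ hB hMN (exists_notMem_span1 hM2)
  have h' := hypPair_mk hB he2 hf2 hef2
  obtain ⟨W, hWdef⟩ : ∃ W, W = M ⊓ orthV B e2 ⊓ orthV B f2 := ⟨_, rfl⟩
  have hWN : NondegOn B W := by
    rw [hWdef]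
    exact nondegOn_pair hB hMN he2M hf2M he2 hf2 hef2
  have hX3 : M ⊓ orthV B e2 < M :=
    inf_orthV_lt (x := f2) hf2M (by rw [h'.fe]; exact one_ne_zero)
  have hX4 : W < M ⊓ orthV B e2 := by
    rw [hWdef]
    exact inf_orthV_lt (x := e2) ⟨he2M, mem_orthV.mpr he2⟩ (by rw [hef2]; exact one_ne_zero)
  have hmemW : ∀ w, w ∈ W ↔ w ∈ M ∧ B w e2 = 0 ∧ B w f2 = 0 := by
    intro w
    rw [hWdef]
    simp only [Submodule.mem_inf, mem_orthV, and_assoc]
  have hdim : finrank F W + 4 ≤ finrank F (⊤ : Submodule F V) := by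
    have a1 := Submodule.finrank_lt_finrank_of_lt hX1
    have a2 := Submodule.finrank_lt_finrank_of_lt hX2
    have a3 := Submodule.finrank_lt_finrank_of_lt hX3
    have a4 := Submodule.finrank_lt_finrank_of_lt hX4
    omega
  -- first step: make `g` the identity on `W`
  obtain ⟨t1, ht1, hag⟩ := exists_tv_agree hσ hB (finrank F W) ⊤ hN W le_top hWN le_rfl hdim g hg
    (fun _ _ => Submodule.mem_top)
  have ht1U : t1 ∈ uG B := tvGroup_le_uG hB ⊤ ht1
  obtain ⟨g1, hg1def⟩ : ∃ g1, g1 = t1⁻¹ * g := ⟨_, rfl⟩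
  have hg1 : g1 ∈ uG B := by rw [hg1def]; exact mul_mem (inv_mem ht1U) hg
  have hg1W : ∀ w ∈ W, g1 w = w := by
    intro w hw
    rw [hg1def, LinearEquiv.mul_apply, ← hag w hw, inv_apply_apply']
  -- second step: move the pair `e2`, `f2` back inside the orthogonal of `W`
  have hU4N : NondegOn B (orthS B W) := nondegOn_orthS hB hN hWN
  have hU4dim : 4 ≤ finrank F (orthS B W) := by
    have := finrank_orthS hB hN W
    omega
  have he2U : e2 ∈ orthS B W := fun w hw => ((hmemW w).mp hw).2.1
  have hf2U : f2 ∈ orthS B W := fun w hw => ((hmemW w).mp hw).2.2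
  have hgU : ∀ x ∈ orthS B W, g1 x ∈ orthS B W := by
    intro x hx w hw
    have := hg1 w x
    rw [hg1W w hw] at this
    rw [this]
    exact hx w hw
  obtain ⟨t2, ht2, ht2e, ht2f⟩ := pair_trans hσ hB hU4N hU4dim he2U hf2U (hgU e2 he2U)
    (hgU f2 hf2U) he2 hf2 hef2 (by rw [hg1, he2]) (by rw [hg1, hf2]) (by rw [hg1, hef2])
  have ht2W : ∀ w ∈ W, t2 w = w := by
    intro w hw
    apply tvGroup_fix _ ht2
    intro a ha
    exact ha w hw
  have ht2T : t2 ∈ tvGroup B ⊤ := tvGroup_mono le_top ht2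
  have ht2U : t2 ∈ uG B := tvGroup_le_uG hB ⊤ ht2T
  obtain ⟨g2, hg2def⟩ : ∃ g2, g2 = t2⁻¹ * g1 := ⟨_, rfl⟩
  have hg2 : g2 ∈ uG B := by rw [hg2def]; exact mul_mem (inv_mem ht2U) hg1
  have hg2W : ∀ w ∈ W, g2 w = w := by
    intro w hw
    rw [hg2def, LinearEquiv.mul_apply, hg1W w hw]
    nth_rewrite 1 [← ht2W w hw]
    rw [inv_apply_apply']
  have hg2e : g2 e2 = e2 := by
    rw [hg2def, LinearEquiv.mul_apply, ← ht2e, inv_apply_apply']
  have hg2f : g2 f2 = f2 := by
    rw [hg2def, LinearEquiv.mul_apply, ← ht2f, inv_apply_apply']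
  have hg2M : ∀ m, B m e = 0 → B m f = 0 → g2 m = m := by
    intro m hme hmf
    have hmM : m ∈ M := (hmemM m).mpr ⟨hme, hmf⟩
    have hpW : perpPart B e2 f2 m ∈ W := by
      rw [hmemW]
      refine ⟨?_, perpPart_e h' m, perpPart_f h' m⟩
      exact M.sub_mem (M.sub_mem hmM (M.smul_mem _ he2M)) (M.smul_mem _ hf2M)
    have hm := eq_add_perpPart (B := B) e2 f2 m
    obtain ⟨α, hα⟩ : ∃ α, α = B m f2 := ⟨_, rfl⟩
    obtain ⟨β, hβ⟩ : ∃ β, β = B m e2 := ⟨_, rfl⟩
    obtain ⟨p, hp⟩ : ∃ p, p = perpPart B e2 f2 m := ⟨_, rfl⟩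
    rw [← hα, ← hβ, ← hp] at hm
    rw [← hp] at hpW
    rw [hm, map_add, map_add, map_smul, map_smul, hg2e, hg2f, hg2W p hpW]
  have hdet2 : LinearEquiv.det g2 = 1 := by
    rw [hg2def, hg1def, map_mul, map_mul, map_inv, map_inv, det_tvGroup ht1, det_tvGroup ht2,
      hdet]
    simp
  have hg2T := plane_det hσ hB hN h hg2 hg2M hdet2
  have : g = t1 * (t2 * g2) := by
    rw [hg2def, hg1def]
    group
  rw [this]
  exact mul_mem ht1 (mul_mem ht2T hg2T)

/-! ### Torus elements of a hyperbolic plane -/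

/-- The map `e ↦ a e`, `f ↦ a' f`, identity on the orthogonal of the pair. -/
noncomputable def tor (B : V →ₗ[F] V →ₛₗ[σ] F) (e f : V) (a a' : F) : V →ₗ[F] V :=
  LinearMap.id + (a - 1) • (B.flip f).smulRight e + (a' - 1) • (B.flip e).smulRight f

lemma tor_apply (e f : V) (a a' : F) (v : V) :
    tor B e f a a' v = v + ((a - 1) * B v f) • e + ((a' - 1) * B v e) • f := by
  simp [tor, smul_smul]

lemma tor_comp {e f : V} (h : HypPair B e f) {a a' : F} (haa' : a * a' = 1) :
    tor B e f a a' ∘ₗ tor B e f a' a = LinearMap.id := by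
  apply LinearMap.ext
  intro v
  rw [LinearMap.comp_apply, LinearMap.id_apply, tor_apply, tor_apply]
  simp only [map_add, map_smul, LinearMap.add_apply, LinearMap.smul_apply, smul_eq_mul, h.ee,
    h.ff, h.ef, h.fe, mul_zero, mul_one, add_zero]
  have h1 : (a' - 1) + (a - 1) * a' = 0 := by linear_combination haa'
  have h2 : (a - 1) + (a' - 1) * a = 0 := by linear_combination haa'
  calc _ = v + (((a' - 1) + (a - 1) * a') * B v f) • e + (((a - 1) + (a' - 1) * a) * B v e) • f := by
        module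
    _ = v := by rw [h1, h2]; simp

/-- The torus element as a linear equivalence. -/
noncomputable def torE {e f : V} (h : HypPair B e f) {a a' : F} (haa' : a * a' = 1) :
    V ≃ₗ[F] V :=
  LinearEquiv.ofLinearMap (tor B e f a a') (tor B e f a' a) (tor_comp h haa')
    (tor_comp h (by rw [mul_comm]; exact haa'))

lemma torE_apply {e f : V} (h : HypPair B e f) {a a' : F} (haa' : a * a' = 1) (v : V) :
    torE h haa' v = v + ((a - 1) * B v f) • e + ((a' - 1) * B v e) • f := by
  simp [torE, tor_apply]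

lemma torE_mem (hσ : Invol σ) {e f : V} (h : HypPair B e f) {a a' : F} (haa' : a * a' = 1)
    (ha : σ a = a) : torE h haa' ∈ tvGroup B ⊤ := by
  have ha0 : a ≠ 0 := by
    rintro rfl
    simp at haa'
  have ha' : σ a' = a' := by
    have := congrArg σ haa'
    rw [map_mul, map_one, ha] at this
    exact mul_left_cancel₀ ha0 (by rw [this, haa'])
  refine plane_mem hσ h Submodule.mem_top Submodule.mem_top (a := a) (b := 0) (c := 0)
    (d := a') ?_ ?_ ?_ ha (by simp) (by simp) ha' (by linear_combination haa')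
  · rw [torE_apply, h.ee, h.ef]
    module
  · rw [torE_apply, h.ff, h.fe]
    module
  · intro m hme hmf
    rw [torE_apply, hme, hmf]
    simp

/-! ### Eichler elements are products of transvections when the fixed field is large -/

lemma eich_smul_left {w y : V} (hw : B w w = 0) (hyw : B y w = 0) (hwy : B w y = 0) {a : F}
    (ha : σ a = a) (c : F) : eich B (a • w) y c = eich B w (a • y) (a * a * c) := by
  have h1 : B (a • w) (a • w) = 0 := by rw [self_smul, hw, mul_zero]
  have h2 : B y (a • w) = 0 := by rw [map_smulₛₗ, hyw, smul_zero]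
  have h3 : B (a • w) y = 0 := by rw [map_smul, LinearMap.smul_apply, hwy, smul_zero]
  have h4 : B (a • y) w = 0 := by rw [map_smul, LinearMap.smul_apply, hyw, smul_zero]
  have h5 : B w (a • y) = 0 := by rw [map_smulₛₗ, hwy, smul_zero]
  ext x
  rw [eich_apply B h1 h2 h3, eich_apply B hw h4 h5]
  simp only [map_smulₛₗ, ha, smul_eq_mul]
  module

theorem eich_mem_tvGroup (hσ : Invol σ) (hB : IsHerm B) {e f : V} (h : HypPair B e f) {a : F}
    (ha : σ a = a) (ha0 : a ≠ 0) (ha1 : a ≠ 1) {y : V} (hye : B y e = 0) (hyf : B y f = 0)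
    {c : F} (hc : c + σ c = -(B y y)) : eich B e y c ∈ tvGroup B ⊤ := by
  have hey : B e y = 0 := herm_eq_zero hB hye
  have ha1' : a - 1 ≠ 0 := sub_ne_zero.mpr ha1
  obtain ⟨k, hk⟩ : ∃ k, k = (a - 1)⁻¹ := ⟨_, rfl⟩
  have hk1 : k * (a - 1) = 1 := by rw [hk]; exact inv_mul_cancel₀ ha1'
  have hσk : σ k = k := by rw [hk, map_inv₀, map_sub, map_one, ha]
  obtain ⟨y0, hy0⟩ : ∃ y0, y0 = k • y := ⟨_, rfl⟩
  have hy0e : B y0 e = 0 := by rw [hy0, map_smul, LinearMap.smul_apply, hye, smul_zero]
  have hy0f : B y0 f = 0 := by rw [hy0, map_smul, LinearMap.smul_apply, hyf, smul_zero]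
  have hey0 : B e y0 = 0 := herm_eq_zero hB hy0e
  have hN0 : B y0 y0 = k * k * B y y := by rw [hy0, self_smul, hσk]
  have hy0y : B y0 y = k * B y y := by rw [hy0, map_smul, LinearMap.smul_apply, smul_eq_mul]
  have hyy0 : B y y0 = k * B y y := by rw [hy0, map_smulₛₗ, hσk, smul_eq_mul]
  obtain ⟨c0, hc0⟩ := tr_surj hσ (-(B y0 y0)) (by rw [map_neg, herm_self hB])
  have hu0 : eich B e y0 c0 ∈ uG B := eich_mem_uG hB hc0
  have haa' : a * a⁻¹ = 1 := mul_inv_cancel₀ ha0
  have hT : torE h haa' ∈ tvGroup B ⊤ := torE_mem hσ h haa' ha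
  have hTU : torE h haa' ∈ uG B := tvGroup_le_uG hB ⊤ hT
  have hTe : torE h haa' e = a • e := by
    rw [torE_apply, h.ee, h.ef]
    module
  have hTy : torE h haa' y0 = y0 := by
    rw [torE_apply, hy0e, hy0f]
    simp
  have hay : a • y0 = y + y0 := by
    rw [hy0, smul_smul]
    have : a * k = 1 + k := by linear_combination hk1
    rw [this, add_smul, one_smul]
  have e1 : torE h haa' * eich B e y0 c0 * (torE h haa')⁻¹ = eich B e (y + y0) (a * a * c0) := by
    rw [conj_eich hTU, hTe, hTy, eich_smul_left h.ee hy0e hey0 ha, hay]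
  obtain ⟨c', hc'⟩ : ∃ c', c' = a * a * c0 - c0 + B y0 y := ⟨_, rfl⟩
  have e2 : eich B e y c' * eich B e y0 c0 = eich B e (y + y0) (a * a * c0) := by
    rw [eich_mul h.ee hye hey hy0e hey0, hc']
    congr 1
    ring
  have e3 : eich B e y c' =
      torE h haa' * (eich B e y0 c0 * (torE h haa')⁻¹ * (eich B e y0 c0)⁻¹) := by
    have : eich B e y c' = (eich B e y c' * eich B e y0 c0) * (eich B e y0 c0)⁻¹ := by group
    rw [this, e2, ← e1]
    group
  have e4 : eich B e y c' ∈ tvGroup B ⊤ := by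
    rw [e3]
    exact mul_mem hT (conj_mem_tvGroup hu0 (inv_mem hT))
  have hskew : σ (c - c') = -(c - c') := by
    have h1 : σ c' = a * a * σ c0 - σ c0 + B y y0 := by
      rw [hc', map_add, map_sub, map_mul, map_mul, ha, ← hB y0 y]
    have h2 : σ c = -(B y y) - c := by linear_combination hc
    have h3 : σ c0 = -(B y0 y0) - c0 := by linear_combination hc0
    rw [map_sub, h1, h2, h3, hc', hN0, hy0y, hyy0]
    linear_combination (B y y * (1 + (a + 1) * k)) * hk1
  have e5 : eich B e y c = eich B e y c' * utv B e (c - c') := by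
    rw [eich_mul_utv h.ee hye hey]
    congr 1
    ring
  rw [e5]
  exact mul_mem e4 (utv_mem_tvGroup Submodule.mem_top h.ee hskew)

/-! ### Dimension three -/

/-- In dimension three, when the fixed field has an element other than `0`, `1`, every isometry
of determinant one is a product of unitary transvections. -/
theorem mem_tvGroup_of_three [Finite F] [FiniteDimensional F V] (hσ : Invol σ) (hB : IsHerm B)
    (hN : NondegOn B ⊤) (h3 : finrank F V = 3) {a : F} (ha : σ a = a) (ha0 : a ≠ 0)
    (ha1 : a ≠ 1) {g : V ≃ₗ[F] V} (hg : g ∈ uG B) (hdet : LinearEquiv.det g = 1) :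
    g ∈ tvGroup B ⊤ := by
  have htop : finrank F (⊤ : Submodule F V) = finrank F V := finrank_top F V
  obtain ⟨e, -, f, -, he, hf, hef⟩ := exists_pair hσ hB hN
    (exists_notMem_span1 (U := ⊤) (by omega))
  have h := hypPair_mk hB he hf hef
  obtain ⟨M, hMdef⟩ : ∃ M, M = (⊤ : Submodule F V) ⊓ orthV B e ⊓ orthV B f := ⟨_, rfl⟩
  have hMN : NondegOn B M := by
    rw [hMdef]
    exact nondegOn_pair hB hN Submodule.mem_top Submodule.mem_top he hf hef
  have hX1 : (⊤ : Submodule F V) ⊓ orthV B e < ⊤ :=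
    inf_orthV_lt (x := f) Submodule.mem_top (by rw [h.fe]; exact one_ne_zero)
  have hX2 : M < ⊤ ⊓ orthV B e := by
    rw [hMdef]
    exact inf_orthV_lt (x := e) ⟨Submodule.mem_top, mem_orthV.mpr he⟩
      (by rw [hef]; exact one_ne_zero)
  have hM1 : finrank F M = 1 := by
    have h1 := finrank_le_inf_orthV_add_one (B := B) ⊤ e
    have h2 := finrank_le_inf_orthV_add_one (B := B) (⊤ ⊓ orthV B e) f
    have a1 := Submodule.finrank_lt_finrank_of_lt hX1
    have a2 := Submodule.finrank_lt_finrank_of_lt hX2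
    rw [← hMdef] at h2
    omega
  have hmemM : ∀ m, m ∈ M ↔ B m e = 0 ∧ B m f = 0 := by
    intro m
    rw [hMdef]
    simp only [Submodule.mem_inf, Submodule.mem_top, true_and, mem_orthV]
  -- first step: fix `e`
  have he0 : e ≠ 0 := by
    rintro rfl
    simp at hef
  have hge0 : g e ≠ 0 := by
    intro h0
    exact he0 (by simpa using h0)
  obtain ⟨t1, ht1, hm1⟩ := exists_tv_iso hσ hB hN (by omega) (b := g e) (b' := e)
    Submodule.mem_top Submodule.mem_top hge0 he0 (by rw [hg, he]) he
  have ht1U : t1 ∈ uG B := tvGroup_le_uG hB ⊤ ht1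
  obtain ⟨g1, hg1def⟩ : ∃ g1, g1 = t1 * g := ⟨_, rfl⟩
  have hg1 : g1 ∈ uG B := by rw [hg1def]; exact mul_mem ht1U hg
  have hg1e : g1 e = e := by rw [hg1def, LinearEquiv.mul_apply, hm1]
  -- second step: fix `f`
  obtain ⟨f', hf'def⟩ : ∃ f', f' = g1 f := ⟨_, rfl⟩
  have hf'f' : B f' f' = 0 := by rw [hf'def, hg1, hf]
  have hf'e : B f' e = 1 := by
    have := hg1 f e
    rw [hg1e] at this
    rw [hf'def, this, h.fe]
  have hef' : B e f' = 1 := by rw [hB f' e, hf'e, map_one]
  obtain ⟨γ, hγ⟩ : ∃ γ, γ = B f' f := ⟨_, rfl⟩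
  obtain ⟨y, hy⟩ : ∃ y, y = f' - f - γ • e := ⟨_, rfl⟩
  have hye : B y e = 0 := by
    rw [hy]
    simp only [map_sub, map_smul, LinearMap.sub_apply, LinearMap.smul_apply, hf'e, h.fe, he,
      smul_zero, sub_self]
  have hyf : B y f = 0 := by
    rw [hy]
    simp only [map_sub, map_smul, LinearMap.sub_apply, LinearMap.smul_apply, ← hγ, hf, hef,
      smul_eq_mul, mul_one, sub_zero, sub_self]
  have hey : B e y = 0 := herm_eq_zero hB hye
  have hfy : B f y = 0 := herm_eq_zero hB hyf
  have hf'eq : f' = f + y + γ • e := by rw [hy]; abel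
  have hcγ : γ + σ γ = -(B y y) := by
    have := hf'f'
    rw [hf'eq] at this
    simp only [map_add, map_smul, map_smulₛₗ, LinearMap.add_apply, LinearMap.smul_apply,
      smul_eq_mul, he, hf, hef, h.fe, hye, hyf, hey, hfy, mul_zero, mul_one, add_zero,
      zero_add] at this
    linear_combination this
  have huT : eich B e y γ ∈ tvGroup B ⊤ := eich_mem_tvGroup hσ hB h ha ha0 ha1 hye hyf hcγ
  have huU : eich B e y γ ∈ uG B := tvGroup_le_uG hB ⊤ huT
  have hue : eich B e y γ e = e := by
    rw [eich_apply B he hye hey, he, hey]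
    simp
  have huf : eich B e y γ f = f' := by
    rw [eich_apply B he hye hey, h.fe, hfy, hf'eq]
    simp
  obtain ⟨g2, hg2def⟩ : ∃ g2, g2 = (eich B e y γ)⁻¹ * g1 := ⟨_, rfl⟩
  have hg2 : g2 ∈ uG B := by rw [hg2def]; exact mul_mem (inv_mem huU) hg1
  have hg2e : g2 e = e := by
    have := congrArg (⇑(eich B e y γ)⁻¹) hue
    rw [inv_apply_apply'] at this
    rw [hg2def, LinearEquiv.mul_apply, hg1e, ← this]
  have hg2f : g2 f = f := by
    rw [hg2def, LinearEquiv.mul_apply, ← hf'def, ← huf, inv_apply_apply']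
  have hdet2 : LinearEquiv.det g2 = 1 := by
    rw [hg2def, hg1def, map_mul, map_mul, map_inv, det_tvGroup ht1, det_tvGroup huT, hdet]
    simp
  -- third step: `g2` is the identity
  have hM0 : ∃ x ∈ M, x ≠ 0 := exists_ne_zero_of_finrank_pos (by omega)
  obtain ⟨x0, hx0M, hx00⟩ := hM0
  obtain ⟨d, hdM, hdd⟩ := exists_aniso hσ hB hMN hx0M hx00
  have hd0 : d ≠ 0 := by
    rintro rfl
    simp at hdd
  have hMd : ∀ m ∈ M, m = (B m d / B d d) • d := by
    intro m hm
    have hlt : M ⊓ orthV B d < M := inf_orthV_lt hdM hdd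
    have hbot : M ⊓ orthV B d = ⊥ := by
      rw [← Submodule.finrank_eq_zero]
      have := Submodule.finrank_lt_finrank_of_lt hlt
      omega
    have hmem : m - (B m d / B d d) • d ∈ M ⊓ orthV B d := by
      refine ⟨M.sub_mem hm (M.smul_mem _ hdM), mem_orthV.mpr ?_⟩
      rw [map_sub, LinearMap.sub_apply, map_smul, LinearMap.smul_apply, smul_eq_mul,
        div_mul_cancel₀ _ hdd, sub_self]
    rw [hbot, Submodule.mem_bot] at hmem
    exact sub_eq_zero.mp hmem
  have hg2M : ∀ m ∈ M, g2 m ∈ M := by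
    intro m hm
    rw [hmemM] at hm ⊢
    constructor
    · have := hg2 m e
      rw [hg2e] at this
      rw [this, hm.1]
    · have := hg2 m f
      rw [hg2f] at this
      rw [this, hm.2]
  obtain ⟨l, hl⟩ : ∃ l, l = B (g2 d) d / B d d := ⟨_, rfl⟩
  have hg2d : g2 d = l • d := by
    rw [hl]
    exact hMd _ (hg2M d hdM)
  have hl1 : l = 1 := by
    have h1 : LinearMap.det (g2 : V →ₗ[F] V) = 1 := by
      rw [← LinearEquiv.coe_det, hdet2, Units.val_one]
    rw [det_eq_of_span (ι := Unit) (u := fun _ => d)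
      (linearIndependent_unique_iff.mpr hd0) (g2 : V →ₗ[F] V) (Matrix.of fun _ _ => l)] at h1
    · rw [Matrix.det_unique] at h1
      exact h1
    · intro j
      simp [hg2d]
    · intro v
      have hv := eq_add_perpPart (B := B) e f v
      have hpM : perpPart B e f v ∈ M := (hmemM _).mpr ⟨perpPart_e h v, perpPart_f h v⟩
      obtain ⟨α, hα⟩ : ∃ α, α = B v f := ⟨_, rfl⟩
      obtain ⟨β, hβ⟩ : ∃ β, β = B v e := ⟨_, rfl⟩
      obtain ⟨m, hm⟩ : ∃ m, m = perpPart B e f v := ⟨_, rfl⟩
      rw [← hα, ← hβ, ← hm] at hv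
      rw [← hm] at hpM
      have hmd := hMd m hpM
      obtain ⟨μ, hμ⟩ : ∃ μ, μ = B m d / B d d := ⟨_, rfl⟩
      rw [← hμ] at hmd
      have : (g2 : V →ₗ[F] V) v - v = (μ * (l - 1)) • d := by
        rw [LinearEquiv.coe_coe, hv, map_add, map_add, map_smul, map_smul, hg2e, hg2f, hmd,
          map_smul, hg2d]
        module
      rw [this]
      exact Submodule.smul_mem _ _ (Submodule.subset_span ⟨(), rfl⟩)
  have hg2one : g2 = 1 := by
    apply ext_pair h
    · rw [hg2e]; rfl
    · rw [hg2f]; rfl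
    · intro m hme hmf
      have hmM : m ∈ M := (hmemM m).mpr ⟨hme, hmf⟩
      have h1 : (1 : V ≃ₗ[F] V) m = m := rfl
      have h2 := hMd m hmM
      obtain ⟨μ, hμ⟩ : ∃ μ, μ = B m d / B d d := ⟨_, rfl⟩
      rw [← hμ] at h2
      rw [h1, h2, map_smul, hg2d, hl1, one_smul]
  have : g = t1⁻¹ * (eich B e y γ * g2) := by
    rw [hg2def, hg1def]
    group
  rw [this, hg2one, mul_one]
  exact mul_mem (inv_mem ht1) huT

end Cfsg.Agent.Lib.Helper13_SUGen
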