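import Mathlib
import Cfsg.Agent.Lib.Helper13_SUGen

set_option autoImplicit false

/-!
Iwasawa's criterion for the abstract special unitary group `SUg B = uG B ⊓ ker det` acting on
the isotropic points of a nondegenerate hermitian space over a finite field.
-/

namespace Cfsg.Agent.Lib.Helper13_PSUSimple

open Module MulAction Cfsg.Agent.Lib.Helper94_Symp Cfsg.Agent.Lib.Helper94_Herm
  Cfsg.Agent.Lib.Helper94_HermTrans Cfsg.Agent.Lib.Helper94_HermWitt
  Cfsg.Agent.Lib.Helper94_HermOrth Cfsg.Agent.Lib.Helper94_HermEich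
  Cfsg.Agent.Lib.Helper94_HermPara Cfsg.Agent.Lib.Helper94_HermIrr
  Cfsg.Agent.Lib.Helper13_SUGen

open scoped Pointwise

variable {F V : Type*} [Field F] [AddCommGroup V] [Module F V]
variable {σ : F →+* F} {B : V →ₗ[F] V →ₛₗ[σ] F}

/-- The abstract special unitary group. -/
noncomputable def SUg (B : V →ₗ[F] V →ₛₗ[σ] F) : Subgroup (V ≃ₗ[F] V) :=
  uG B ⊓ MonoidHom.ker (LinearEquiv.det (R := F) (M := V))

lemma mem_SUg {g : V ≃ₗ[F] V} : g ∈ SUg B ↔ g ∈ uG B ∧ LinearEquiv.det g = 1 := by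
  rw [SUg, Subgroup.mem_inf, MonoidHom.mem_ker]

lemma tvGroup_le_SUg (hB : IsHerm B) (U : Submodule F V) : tvGroup B U ≤ SUg B := fun _ ht =>
  mem_SUg.mpr ⟨tvGroup_le_uG hB U ht, det_tvGroup ht⟩

/-! ### Isotropic points -/

/-- The isotropic points, as one-dimensional totally isotropic subspaces. -/
def IsoPt (B : V →ₗ[F] V →ₛₗ[σ] F) : Type _ :=
  {W : Submodule F V // finrank F W = 1 ∧ ∀ u ∈ W, ∀ v ∈ W, B u v = 0}

/-- The point spanned by a nonzero isotropic vector. -/
def mkPt {a : V} (ha0 : a ≠ 0) (ha : B a a = 0) : IsoPt B :=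
  ⟨Submodule.span F {a}, finrank_span_singleton ha0, by
    intro u hu v hv
    obtain ⟨c, rfl⟩ := Submodule.mem_span_singleton.mp hu
    obtain ⟨d, rfl⟩ := Submodule.mem_span_singleton.mp hv
    rw [map_smulₛₗ (B (c • a)), map_smul, LinearMap.smul_apply, ha, smul_zero, smul_zero]⟩

lemma exists_eq_mkPt (W : IsoPt B) : ∃ (a : V) (ha0 : a ≠ 0) (ha : B a a = 0), W = mkPt ha0 ha := by
  obtain ⟨⟨a, haW⟩, ha0, hspan⟩ := finrank_eq_one_iff'.mp W.2.1
  have ha0' : a ≠ 0 := fun h => ha0 (Subtype.ext h)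
  refine ⟨a, ha0', W.2.2 a haW a haW, Subtype.ext ?_⟩
  apply le_antisymm
  · intro w hw
    obtain ⟨c, hc⟩ := hspan ⟨w, hw⟩
    have : c • a = w := congrArg Subtype.val hc
    rw [← this]
    exact Submodule.smul_mem _ _ (Submodule.mem_span_singleton_self a)
  · exact (Submodule.span_singleton_le_iff_mem a W.1).mpr haW

noncomputable instance : MulAction ↥(SUg B) (IsoPt B) where
  smul g W := ⟨W.1.map ((g : V ≃ₗ[F] V) : V →ₗ[F] V), by
    rw [LinearEquiv.finrank_map_eq]; exact W.2.1, by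
    rintro _ ⟨u, hu, rfl⟩ _ ⟨v, hv, rfl⟩
    rw [LinearEquiv.coe_coe, (mem_SUg.mp g.2).1 u v]
    exact W.2.2 u hu v hv⟩
  one_smul W := Subtype.ext (Submodule.map_id _)
  mul_smul g h W := Subtype.ext (by
    show W.1.map (((g * h : ↥(SUg B)) : V ≃ₗ[F] V) : V →ₗ[F] V) =
      (W.1.map ((h : V ≃ₗ[F] V) : V →ₗ[F] V)).map ((g : V ≃ₗ[F] V) : V →ₗ[F] V)
    rw [← Submodule.map_comp]
    rfl)

lemma smul_val (g : ↥(SUg B)) (W : IsoPt B) :
    (g • W).1 = W.1.map ((g : V ≃ₗ[F] V) : V →ₗ[F] V) := rfl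

lemma smul_mkPt (g : ↥(SUg B)) {a : V} (ha0 : a ≠ 0) (ha : B a a = 0) :
    g • mkPt ha0 ha = mkPt (B := B) (a := (g : V ≃ₗ[F] V) a)
      (fun h => ha0 (by simpa using h)) (by rw [(mem_SUg.mp g.2).1, ha]) := by
  apply Subtype.ext
  rw [smul_val]
  show (Submodule.span F {a}).map _ = Submodule.span F {(g : V ≃ₗ[F] V) a}
  rw [Submodule.map_span, Set.image_singleton]
  rfl

/-! ### Primitivity -/

section Prim

variable [Finite F] [FiniteDimensional F V] (hσ : Invol σ) (hB : IsHerm B) (hN : NondegOn B ⊤)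

include hσ hB hN in
lemma isPretransitive (h3 : 3 ≤ finrank F V) : IsPretransitive ↥(SUg B) (IsoPt B) := by
  refine ⟨fun W W' => ?_⟩
  obtain ⟨a, ha0, ha, rfl⟩ := exists_eq_mkPt W
  obtain ⟨a', ha'0, ha', rfl⟩ := exists_eq_mkPt W'
  have htop : finrank F (⊤ : Submodule F V) = finrank F V := finrank_top F V
  obtain ⟨t, ht, hta⟩ := exists_tv_iso hσ hB hN (by omega) (b := a) (b' := a')
    Submodule.mem_top Submodule.mem_top ha0 ha'0 ha ha'
  refine ⟨⟨t, tvGroup_le_SUg hB ⊤ ht⟩, ?_⟩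
  rw [smul_mkPt]
  apply Subtype.ext
  show Submodule.span F {t a} = Submodule.span F {a'}
  rw [hta]

include hσ hB hN in
lemma exists_hypPair (h2 : 2 ≤ finrank F V) : ∃ e f : V, HypPair B e f := by
  have htop : finrank F (⊤ : Submodule F V) = finrank F V := finrank_top F V
  obtain ⟨e, -, f, -, he, hf, hef⟩ := exists_pair hσ hB hN
    (exists_notMem_span1 (U := ⊤) (by omega))
  exact ⟨e, f, hypPair_mk hB he hf hef⟩

omit [Finite F] [FiniteDimensional F V] in
lemma hypPair_ne_zero {e f : V} (h : HypPair B e f) : e ≠ 0 ∧ f ≠ 0 := by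
  constructor
  · rintro rfl
    have := h.ef
    simp at this
  · rintro rfl
    have := h.ef
    simp at this

include hσ hB hN in
lemma nontrivial_isoPt (h2 : 2 ≤ finrank F V) : Nontrivial (IsoPt B) := by
  obtain ⟨e, f, h⟩ := exists_hypPair hσ hB hN h2
  refine ⟨⟨mkPt (hypPair_ne_zero h).1 h.ee, mkPt (hypPair_ne_zero h).2 h.ff, ?_⟩⟩
  intro heq
  have h1 : f ∈ Submodule.span F {e} := by
    have := congrArg Subtype.val heq
    change Submodule.span F {e} = Submodule.span F {f} at this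
    rw [this]
    exact Submodule.mem_span_singleton_self f
  obtain ⟨c, rfl⟩ := Submodule.mem_span_singleton.mp h1
  have := h.ef
  rw [map_smulₛₗ, h.ee, smul_zero] at this
  exact zero_ne_one this

omit [Finite F] [FiniteDimensional F V] in
lemma map_eq_of_mem_stab {W : Submodule F V} {g : V ≃ₗ[F] V} (hg : g ∈ stab W) :
    W.map (g : V →ₗ[F] V) = W := by
  apply le_antisymm
  · rintro _ ⟨v, hv, rfl⟩
    exact (hg v).mp hv
  · intro w hw
    refine ⟨g⁻¹ w, (hg _).mpr ?_, apply_inv_apply' g w⟩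
    rw [apply_inv_apply']
    exact hw

omit [Finite F] in
lemma stabilizer_eq (W : IsoPt B) :
    stabilizer ↥(SUg B) W = (stab W.1).subgroupOf (SUg B) := by
  ext g
  rw [mem_stabilizer_iff, Subgroup.mem_subgroupOf]
  constructor
  · intro h
    have h' : W.1.map ((g : V ≃ₗ[F] V) : V →ₗ[F] V) = W.1 := congrArg Subtype.val h
    apply mem_stab_of_forall_mem
    intro v hv
    rw [← h']
    exact ⟨v, hv, rfl⟩
  · intro h
    exact Subtype.ext (map_eq_of_mem_stab h)

include hσ hB hN in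
lemma isCoatom_stabilizer (W : IsoPt B) : IsCoatom (stabilizer ↥(SUg B) W) := by
  have hW0 : W.1 ≠ ⊥ := by
    intro h
    have := W.2.1
    rw [h, finrank_bot] at this
    omega
  obtain ⟨hlt, hmax⟩ := maximal_stab_ti hσ hB hN
    (MonoidHom.ker (LinearEquiv.det (R := F) (M := V)))
    (fun φ v h => MonoidHom.mem_ker.mpr (LinearEquiv.transvection.det_eq_one h)) W.1 hW0 W.2.2
  change stab W.1 ⊓ SUg B < SUg B at hlt
  change ∀ M : Subgroup (V ≃ₗ[F] V), stab W.1 ⊓ SUg B ≤ M → M ≤ SUg B →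
    M = stab W.1 ⊓ SUg B ∨ M = SUg B at hmax
  rw [stabilizer_eq]
  constructor
  · intro htop
    rw [Subgroup.subgroupOf_eq_top] at htop
    have : stab W.1 ⊓ SUg B = SUg B := inf_eq_right.mpr htop
    rw [this] at hlt
    exact lt_irrefl _ hlt
  · intro M' hM'
    have hM1 : stab W.1 ⊓ SUg B ≤ M'.map (SUg B).subtype := by
      intro x hx
      exact ⟨⟨x, hx.2⟩, hM'.le (Subgroup.mem_subgroupOf.mpr hx.1), rfl⟩
    have hM2 : M'.map (SUg B).subtype ≤ SUg B := Subgroup.map_subtype_le M'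
    rcases hmax _ hM1 hM2 with h | h
    · exfalso
      apply not_le_of_gt hM'
      intro x hx
      have : (x : V ≃ₗ[F] V) ∈ M'.map (SUg B).subtype := ⟨x, hx, rfl⟩
      rw [h] at this
      exact Subgroup.mem_subgroupOf.mpr this.1
    · rw [eq_top_iff]
      intro x _
      have : (x : V ≃ₗ[F] V) ∈ M'.map (SUg B).subtype := by rw [h]; exact x.2
      obtain ⟨y, hy, hyx⟩ := this
      have : y = x := Subtype.ext hyx
      rw [← this]
      exact hy

include hσ hB hN in
lemma isPreprimitive (h3 : 3 ≤ finrank F V) : IsPreprimitive ↥(SUg B) (IsoPt B) := by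
  have := isPretransitive hσ hB hN h3
  have := nontrivial_isoPt hσ hB hN (by omega)
  obtain ⟨W⟩ : Nonempty (IsoPt B) := inferInstance
  exact (isCoatom_stabilizer_iff_preprimitive ↥(SUg B) W).mp (isCoatom_stabilizer hσ hB hN W)

end Prim

/-! ### The Iwasawa structure -/

lemma utv_comm {a a' : V} (ha : B a a = 0) (ha' : B a' a' = 0) (h1 : B a a' = 0)
    (h2 : B a' a = 0) (c c' : F) : utv B a c * utv B a' c' = utv B a' c' * utv B a c := by
  ext x
  rw [LinearEquiv.mul_apply, LinearEquiv.mul_apply, utv_apply B ha, utv_apply B ha',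
    utv_apply B ha, utv_apply B ha']
  simp only [map_add, map_smul, LinearMap.add_apply, LinearMap.smul_apply, smul_eq_mul, h1, h2,
    mul_zero, add_zero]
  abel

lemma tvGroup_isMulCommutative {W : Submodule F V} (hW : ∀ u ∈ W, ∀ v ∈ W, B u v = 0) :
    IsMulCommutative (tvGroup B W) := by
  unfold tvGroup
  apply Subgroup.isMulCommutative_closure
  rintro _ ⟨a, haW, c, ha, -, rfl⟩ _ ⟨a', ha'W, c', ha', -, rfl⟩
  exact utv_comm ha ha' (hW a haW a' ha'W) (hW a' ha'W a haW) c c'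

lemma conj_tvGroup {g : V ≃ₗ[F] V} (hg : g ∈ uG B) (U : Submodule F V) {t : V ≃ₗ[F] V}
    (ht : t ∈ tvGroup B U) : g * t * g⁻¹ ∈ tvGroup B (U.map (g : V →ₗ[F] V)) := by
  unfold tvGroup at ht
  induction ht using Subgroup.closure_induction with
  | mem x hx =>
    obtain ⟨a, haU, c, ha, hc, rfl⟩ := hx
    rw [conj_utv hg]
    exact utv_mem_tvGroup (Submodule.mem_map_of_mem (f := (g : V →ₗ[F] V)) haU)
      (by rw [LinearEquiv.coe_coe, hg, ha]) hc
  | one => simp
  | mul x y _ _ hx hy =>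
    have : g * (x * y) * g⁻¹ = (g * x * g⁻¹) * (g * y * g⁻¹) := by group
    rw [this]
    exact mul_mem hx hy
  | inv x _ hx =>
    have : g * x⁻¹ * g⁻¹ = (g * x * g⁻¹)⁻¹ := by group
    rw [this]
    exact inv_mem hx

/-- The root subgroup of an isotropic point. -/
noncomputable def rootSub (W : IsoPt B) : Subgroup ↥(SUg B) := (tvGroup B W.1).subgroupOf (SUg B)

lemma mem_rootSub {W : IsoPt B} {g : ↥(SUg B)} :
    g ∈ rootSub W ↔ (g : V ≃ₗ[F] V) ∈ tvGroup B W.1 := Subgroup.mem_subgroupOf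

lemma rootSub_comm (W : IsoPt B) : IsMulCommutative (rootSub W) := by
  have := tvGroup_isMulCommutative W.2.2
  unfold rootSub
  infer_instance

lemma rootSub_conj (g : ↥(SUg B)) (W : IsoPt B) :
    rootSub (g • W) = MulAut.conj g • rootSub W := by
  have hgU : (g : V ≃ₗ[F] V) ∈ uG B := (mem_SUg.mp g.2).1
  have hgU' : (g : V ≃ₗ[F] V)⁻¹ ∈ uG B := inv_mem hgU
  ext x
  rw [Subgroup.mem_pointwise_smul_iff_inv_smul_mem, mem_rootSub, mem_rootSub, smul_val]
  have hx : ((MulAut.conj g)⁻¹ • x : ↥(SUg B)) = g⁻¹ * x * g := by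
    rw [MulAut.smul_def, MulAut.conj_inv_apply]
  rw [hx]
  constructor
  · intro h
    have := conj_tvGroup hgU' _ h
    have hmap : (W.1.map ((g : V ≃ₗ[F] V) : V →ₗ[F] V)).map
        (((g : V ≃ₗ[F] V)⁻¹ : V ≃ₗ[F] V) : V →ₗ[F] V) = W.1 := by
      ext v
      constructor
      · rintro ⟨_, ⟨w, hw, rfl⟩, rfl⟩
        rw [LinearEquiv.coe_coe, LinearEquiv.coe_coe, inv_apply_apply']
        exact hw
      · intro hv
        exact ⟨_, ⟨v, hv, rfl⟩, by rw [LinearEquiv.coe_coe, LinearEquiv.coe_coe, inv_apply_apply']⟩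
    rw [hmap, inv_inv] at this
    exact this
  · intro h
    have := conj_tvGroup hgU _ h
    have e : (g : V ≃ₗ[F] V) * ((g⁻¹ * x * g : ↥(SUg B)) : V ≃ₗ[F] V) * (g : V ≃ₗ[F] V)⁻¹
        = (x : V ≃ₗ[F] V) := by
      show (g : V ≃ₗ[F] V) * ((g : V ≃ₗ[F] V)⁻¹ * (x : V ≃ₗ[F] V) * (g : V ≃ₗ[F] V)) *
        (g : V ≃ₗ[F] V)⁻¹ = (x : V ≃ₗ[F] V)
      group
    rw [e] at this
    exact this

/-- The Iwasawa structure, given that the transvections generate. -/
noncomputable def iwasawa (hB : IsHerm B) (hgen : ∀ g ∈ uG B, LinearEquiv.det g = 1 → g ∈ tvGroup B ⊤) :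
    IwasawaStructure ↥(SUg B) (IsoPt B) where
  T := rootSub
  is_comm := rootSub_comm
  is_conj := rootSub_conj
  is_generator := by
    rw [eq_top_iff]
    intro g _
    have hle : tvGroup B ⊤ ≤ (iSup (rootSub (B := B))).map (SUg B).subtype := by
      apply tvGroup_le
      intro a _ ha c hc
      by_cases ha0 : a = 0
      · have : utv B a c = 1 := by
          ext x
          rw [utv_apply B ha, ha0]
          simp
        rw [this]
        exact one_mem _
      · have hmem : utv B a c ∈ tvGroup B (Submodule.span F {a}) :=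
          utv_mem_tvGroup (Submodule.mem_span_singleton_self a) ha hc
        have hS : utv B a c ∈ SUg B := tvGroup_le_SUg hB _ hmem
        refine ⟨⟨utv B a c, hS⟩, ?_, rfl⟩
        apply Subgroup.mem_iSup_of_mem (mkPt ha0 ha)
        exact mem_rootSub.mpr hmem
    obtain ⟨y, hy, hyg⟩ := hle (hgen g.1 (mem_SUg.mp g.2).1 (mem_SUg.mp g.2).2)
    have : y = g := Subtype.ext hyg
    rw [← this]
    exact hy

/-! ### The kernel of the action -/

section Kernel

variable [Finite F] [FiniteDimensional F V] (hσ : Invol σ) (hB : IsHerm B) (hN : NondegOn B ⊤)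

omit [Finite F] [FiniteDimensional F V] in
lemma exists_smul_of_fixes {g : ↥(SUg B)} (hg : ∀ W : IsoPt B, g • W = W) {a : V} (ha0 : a ≠ 0)
    (ha : B a a = 0) : ∃ l : F, (g : V ≃ₗ[F] V) a = l • a := by
  have h1 := congrArg Subtype.val (hg (mkPt ha0 ha))
  rw [smul_mkPt] at h1
  change Submodule.span F {(g : V ≃ₗ[F] V) a} = Submodule.span F {a} at h1
  have h2 : (g : V ≃ₗ[F] V) a ∈ Submodule.span F {a} := by
    rw [← h1]
    exact Submodule.mem_span_singleton_self _
  obtain ⟨l, hl⟩ := Submodule.mem_span_singleton.mp h2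
  exact ⟨l, hl.symm⟩

omit [Finite F] [FiniteDimensional F V] in
include hσ hB hN in
lemma norm_one_of_fixes {g : ↥(SUg B)} (hg : ∀ W : IsoPt B, g • W = W) {a : V} (ha0 : a ≠ 0)
    (ha : B a a = 0) {l : F} (hl : (g : V ≃ₗ[F] V) a = l • a) : l * σ l = 1 := by
  have hgU : (g : V ≃ₗ[F] V) ∈ uG B := (mem_SUg.mp g.2).1
  obtain ⟨f, -, hf, haf⟩ := exists_partner hσ hB hN Submodule.mem_top ha0 ha
  have h := hypPair_mk hB ha hf haf
  obtain ⟨l', hl'⟩ := exists_smul_of_fixes hg (hypPair_ne_zero h).2 hf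
  obtain ⟨ζ, hζ0, hζ⟩ := exists_skew hσ
  have hw : B (a + ζ • f) (a + ζ • f) = 0 := by
    simp only [map_add, map_smul, map_smulₛₗ, LinearMap.add_apply, LinearMap.smul_apply,
      smul_eq_mul, h.ee, h.ff, h.ef, h.fe, hζ]
    ring
  have hw0 : a + ζ • f ≠ 0 := by
    intro h0
    have : B (a + ζ • f) f = 0 := by rw [h0]; simp
    rw [map_add, LinearMap.add_apply, map_smul, LinearMap.smul_apply, h.ef, h.ff, smul_zero,
      add_zero] at this
    exact one_ne_zero this
  obtain ⟨ν, hν⟩ := exists_smul_of_fixes hg hw0 hw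
  rw [map_add, map_smul, hl, hl'] at hν
  have e1 : l = ν := by
    have := congrArg (fun x => B x f) hν
    simp only [map_add, map_smul, LinearMap.add_apply, LinearMap.smul_apply, smul_eq_mul, h.ef,
      h.ff, mul_zero, mul_one, add_zero] at this
    exact this
  have e2 : l' = ν := by
    have := congrArg (fun x => B x a) hν
    simp only [map_add, map_smul, LinearMap.add_apply, LinearMap.smul_apply, smul_eq_mul, h.ee,
      h.fe, mul_zero, mul_one, zero_add] at this
    exact mul_left_cancel₀ hζ0 (this.trans (mul_comm _ _))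
  have := hgU a f
  rw [hl, hl', e2, ← e1, map_smulₛₗ (B (l • a)), map_smul, LinearMap.smul_apply, h.ef] at this
  rw [mul_comm]
  simpa using this

include hσ hB hN in
lemma mem_center_of_fixes (hgen : ∀ g ∈ uG B, LinearEquiv.det g = 1 → g ∈ tvGroup B ⊤)
    {g : ↥(SUg B)} (hg : ∀ W : IsoPt B, g • W = W) : g ∈ Subgroup.center ↥(SUg B) := by
  have hgU : (g : V ≃ₗ[F] V) ∈ uG B := (mem_SUg.mp g.2).1
  have hle : tvGroup B ⊤ ≤ Subgroup.centralizer {(g : V ≃ₗ[F] V)} := by
    apply tvGroup_le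
    intro a _ ha c _
    rw [Subgroup.mem_centralizer_iff]
    rintro _ rfl
    by_cases ha0 : a = 0
    · have : utv B a c = 1 := by
        ext x
        rw [utv_apply B ha, ha0]
        simp
      rw [this, mul_one, one_mul]
    · obtain ⟨l, hl⟩ := exists_smul_of_fixes hg ha0 ha
      have hl1 := norm_one_of_fixes hσ hB hN hg ha0 ha hl
      have h1 := conj_utv hgU a c
      rw [hl, utv_smul, hl1, one_mul] at h1
      calc (g : V ≃ₗ[F] V) * utv B a c
          = ((g : V ≃ₗ[F] V) * utv B a c * (g : V ≃ₗ[F] V)⁻¹) * (g : V ≃ₗ[F] V) := by group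
        _ = utv B a c * (g : V ≃ₗ[F] V) := by rw [h1]
  rw [Subgroup.mem_center_iff]
  intro x
  have hx := hle (hgen x.1 (mem_SUg.mp x.2).1 (mem_SUg.mp x.2).2)
  rw [Subgroup.mem_centralizer_iff] at hx
  apply Subtype.ext
  exact (hx _ rfl).symm

end Kernel

/-! ### Simplicity of the central quotient -/

theorem simple_of_perfect [Finite F] [FiniteDimensional F V] (hσ : Invol σ) (hB : IsHerm B)
    (hN : NondegOn B ⊤) (h3 : 3 ≤ finrank F V)
    (hgen : ∀ g ∈ uG B, LinearEquiv.det g = 1 → g ∈ tvGroup B ⊤)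
    (hperf : commutator ↥(SUg B) = ⊤) :
    IsSimpleGroup (↥(SUg B) ⧸ Subgroup.center ↥(SUg B)) := by
  have hprim := isPreprimitive hσ hB hN h3
  have key : ∀ N : Subgroup ↥(SUg B), N.Normal → N = ⊤ ∨ N ≤ Subgroup.center _ := by
    intro N hN'
    by_cases hfix : fixedPoints N (IsoPt B) = Set.univ
    · right
      intro g hg
      apply mem_center_of_fixes hσ hB hN hgen
      intro p
      have : p ∈ fixedPoints N (IsoPt B) := by rw [hfix]; trivial
      exact this ⟨g, hg⟩
    · left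
      have := (iwasawa hB hgen).commutator_le N hfix
      rw [hperf] at this
      exact eq_top_iff.mpr this
  have hnt : Subgroup.center ↥(SUg B) ≠ ⊤ := by
    intro htop
    have h1 := (commutator_eq_bot_iff_center_eq_top (G := ↥(SUg B))).mpr htop
    rw [hperf] at h1
    obtain ⟨e, f, h⟩ := exists_hypPair hσ hB hN (by omega)
    obtain ⟨ζ, hζ0, hζ⟩ := exists_skew hσ
    have hmem : utv B e ζ ∈ SUg B :=
      tvGroup_le_SUg hB ⊤ (utv_mem_tvGroup Submodule.mem_top h.ee hζ)
    have h2 : (⟨utv B e ζ, hmem⟩ : ↥(SUg B)) ∈ (⊤ : Subgroup ↥(SUg B)) := trivial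
    rw [h1, Subgroup.mem_bot] at h2
    have h3' : utv B e ζ = 1 := congrArg Subtype.val h2
    have h4 : utv B e ζ f = f := by rw [h3']; rfl
    rw [utv_e_f h] at h4
    have h5 : ζ • e = 0 := by simpa using h4
    rcases smul_eq_zero.mp h5 with h6 | h6
    · exact hζ0 h6
    · exact (hypPair_ne_zero h).1 h6
  have hnt' : Nontrivial (↥(SUg B) ⧸ Subgroup.center ↥(SUg B)) := by
    by_contra hcon
    rw [not_nontrivial_iff_subsingleton] at hcon
    apply hnt
    rw [eq_top_iff]
    intro g _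
    rw [← QuotientGroup.eq_one_iff]
    exact Subsingleton.elim _ _
  refine { toNontrivial := hnt', eq_bot_or_eq_top_of_normal := ?_ }
  intro K hK
  have hN' : (K.comap (QuotientGroup.mk' (Subgroup.center ↥(SUg B)))).Normal := hK.comap _
  rcases key _ hN' with h1 | h1
  · right
    rw [← Subgroup.map_comap_eq_self_of_surjective (QuotientGroup.mk'_surjective _) K, h1]
    exact Subgroup.map_top_of_surjective _ (QuotientGroup.mk'_surjective _)
  · left
    rw [eq_bot_iff]
    intro k hk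
    obtain ⟨g, rfl⟩ := QuotientGroup.mk_surjective k
    have : g ∈ K.comap (QuotientGroup.mk' (Subgroup.center ↥(SUg B))) := hk
    rw [Subgroup.mem_bot]
    exact (QuotientGroup.eq_one_iff g).mpr (h1 this)

end Cfsg.Agent.Lib.Helper13_PSUSimple
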