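import Mathlib
import Cfsg.Agent.Lib.Helper94_Herm
import Cfsg.Agent.Lib.Helper94_HermOrth

set_option autoImplicit false
set_option linter.unusedVariables false
set_option linter.unusedSectionVars false

namespace Cfsg.Agent.Lib.Helper46_U3TI

open Module Cfsg.Agent.Lib.Helper94_Herm Cfsg.Agent.Lib.Helper94_HermOrth Cfsg.Agent.Lib.Helper94_Symp

variable {F V : Type*} [Field F] [AddCommGroup V] [Module F V]
variable {σ : F →+* F} {B : V →ₗ[F] V →ₛₗ[σ] F}
variable {p : ℕ} [Fact p.Prime] [CharP F p] [Finite F] [FiniteDimensional F V]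

theorem prime_dvd_card_field (F : Type*) [Field F] [Finite F] (p : ℕ) [hc : CharP F p] :
    p ∣ Nat.card F := by
  have h := CharP.addOrderOf_one (R := F)
  have e : p = addOrderOf (1 : F) := CharP.eq F hc h
  rw [e]
  exact addOrderOf_dvd_natCard 1

/-- a `p`-group of linear automorphisms fixes a nonzero vector of any nonzero invariant
subspace -/
theorem exists_fixed (P : Subgroup (V ≃ₗ[F] V)) (hP : IsPGroup p P) (W : Submodule F V)
    (hW : W ≠ ⊥) (hinv : ∀ g ∈ P, ∀ w ∈ W, g w ∈ W) :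
    ∃ w ∈ W, w ≠ 0 ∧ ∀ g ∈ P, g w = w := by
  have : Finite V := Module.finite_of_finite F
  let _ : MulAction P W :=
    { smul := fun g w => ⟨(g : V ≃ₗ[F] V) w, hinv g g.2 w w.2⟩
      one_smul := fun w => Subtype.ext rfl
      mul_smul := fun g h w => Subtype.ext rfl }
  have hcard : p ∣ Nat.card W := by
    rw [Module.natCard_eq_pow_finrank (K := F) (V := W)]
    have hpos : 0 < finrank F W :=
      Nat.pos_of_ne_zero (fun h => hW (Submodule.finrank_eq_zero.mp h))
    exact Dvd.dvd.trans (prime_dvd_card_field F p) (dvd_pow_self _ hpos.ne')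
  have h0 : (0 : W) ∈ MulAction.fixedPoints P W := by
    intro g
    apply Subtype.ext
    show (g : V ≃ₗ[F] V) 0 = 0
    simp
  obtain ⟨b, hb, hne⟩ := hP.exists_fixed_point_of_prime_dvd_card_of_fixed_point W hcard h0
  refine ⟨b, b.2, ?_, ?_⟩
  · intro hb0
    apply hne
    exact (Subtype.ext hb0).symm
  · intro g hg
    have := hb ⟨g, hg⟩
    exact congrArg Subtype.val this

omit [Fact p.Prime] [CharP F p] [Finite F] [FiniteDimensional F V] in
theorem mem_orthS_singleton (v y : V) : y ∈ orthS B (Submodule.span F {v}) ↔ B v y = 0 := by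
  rw [mem_orthS]
  constructor
  · intro h
    exact h v (Submodule.mem_span_singleton_self v)
  · intro h x hx
    obtain ⟨c, rfl⟩ := Submodule.mem_span_singleton.mp hx
    rw [map_smul, LinearMap.smul_apply, h, smul_zero]

omit [Fact p.Prime] [CharP F p] [Finite F] in
theorem two_le_finrank_of_indep (H : Submodule F V) (v w : V) (hv : v ∈ H) (hw : w ∈ H)
    (hv0 : v ≠ 0) (hw' : w ∉ Submodule.span F {v}) : 2 ≤ finrank F H := by
  by_contra hlt
  have h1 : finrank F H ≤ 1 := by omega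
  obtain ⟨u, hu⟩ := finrank_le_one_iff.mp h1
  obtain ⟨a, ha⟩ := hu ⟨v, hv⟩
  obtain ⟨b, hb⟩ := hu ⟨w, hw⟩
  have ha' : a • (u : V) = v := congrArg Subtype.val ha
  have hb' : b • (u : V) = w := congrArg Subtype.val hb
  have ha0 : a ≠ 0 := by
    rintro rfl
    rw [zero_smul] at ha'
    exact hv0 ha'.symm
  apply hw'
  rw [Submodule.mem_span_singleton]
  refine ⟨b * a⁻¹, ?_⟩
  rw [← ha', smul_smul, mul_assoc, inv_mul_cancel₀ ha0, mul_one, hb']

theorem finrank_orthS_singleton (hB : IsHerm B) (hN : NondegOn B ⊤) (h3 : finrank F V = 3)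
    (v : V) (hv : v ≠ 0) : finrank F (orthS B (Submodule.span F {v})) = 2 := by
  have h := finrank_orthS hB hN (Submodule.span F {v})
  rw [finrank_span_singleton hv, h3] at h
  omega

/-- a `p`-group of isometries of a 3-dimensional unitary space fixes a nonzero isotropic vector -/
theorem exists_fixed_iso (hσ : Invol σ) (hB : IsHerm B) (hN : NondegOn B ⊤)
    (h3 : finrank F V = 3) (P : Subgroup (V ≃ₗ[F] V)) (hPU : P ≤ uG B) (hP : IsPGroup p P) :
    ∃ v : V, v ≠ 0 ∧ B v v = 0 ∧ ∀ g ∈ P, g v = v := by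
  have htop : (⊤ : Submodule F V) ≠ ⊥ := by
    intro h
    have := finrank_top F V
    rw [h, finrank_bot, h3] at this
    omega
  obtain ⟨v₁, -, hv₁, hfix₁⟩ := exists_fixed P hP ⊤ htop (fun _ _ _ _ => Submodule.mem_top)
  by_cases h1 : B v₁ v₁ = 0
  · exact ⟨v₁, hv₁, h1, hfix₁⟩
  have hW1 : orthS B (Submodule.span F {v₁}) ≠ ⊥ := by
    intro h
    have := finrank_orthS_singleton hB hN h3 v₁ hv₁
    rw [h, finrank_bot] at this
    omega
  obtain ⟨v₂, hv₂W, hv₂, hfix₂⟩ := exists_fixed P hP _ hW1 (by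
    intro g hg w hw
    rw [mem_orthS_singleton] at hw ⊢
    rw [← hfix₁ g hg, hPU hg, hw])
  rw [mem_orthS_singleton] at hv₂W
  have hindep : v₂ ∉ Submodule.span F {v₁} := by
    intro hmem
    obtain ⟨c, rfl⟩ := Submodule.mem_span_singleton.mp hmem
    rw [map_smulₛₗ, smul_eq_mul] at hv₂W
    rcases mul_eq_zero.mp hv₂W with h | h
    · rw [map_eq_zero] at h
      rw [h, zero_smul] at hv₂
      exact hv₂ rfl
    · exact h1 h
  obtain ⟨a, b, hne, hiso⟩ := exists_iso hσ hB hv₁ hindep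
  refine ⟨a • v₁ + b • v₂, hne, hiso, ?_⟩
  intro g hg
  rw [map_add, map_smul, map_smul, hfix₁ g hg, hfix₂ g hg]

omit [Finite F] [FiniteDimensional F V] in
theorem eq_one_of_pow_char_pow (γ : F) (k : ℕ) (h : γ ^ (p ^ k) = 1) : γ = 1 := by
  have h1 : (γ - 1) ^ (p ^ k) = 0 := by
    rw [sub_pow_char_pow, h, one_pow, sub_self]
  have := pow_eq_zero_iff (pow_ne_zero k (Fact.out : p.Prime).ne_zero) |>.mp h1
  exact sub_eq_zero.mp this

omit [Fact p.Prime] [CharP F p] [Finite F] [FiniteDimensional F V] in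
theorem pow_apply_of_eigen (x : V ≃ₗ[F] V) (u : V) (γ : F) (h : x u = γ • u) (n : ℕ) :
    (x ^ n) u = γ ^ n • u := by
  induction n with
  | zero => simp
  | succ n ih =>
    rw [pow_succ, LinearEquiv.mul_apply, h, map_smul, ih, smul_smul, pow_succ, mul_comm]

omit [Fact p.Prime] [CharP F p] [Finite F] [FiniteDimensional F V] in
theorem mem_orthS_pair (v w y : V) :
    y ∈ orthS B (Submodule.span F {v, w}) ↔ B v y = 0 ∧ B w y = 0 := by
  rw [mem_orthS]
  constructor
  · intro h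
    exact ⟨h v (Submodule.subset_span (by simp)), h w (Submodule.subset_span (by simp))⟩
  · rintro ⟨h1, h2⟩ x hx
    obtain ⟨a, b, rfl⟩ := Submodule.mem_span_pair.mp hx
    rw [map_add, LinearMap.add_apply, map_smul, map_smul, LinearMap.smul_apply,
      LinearMap.smul_apply, h1, h2, smul_zero, smul_zero, add_zero]

/-- a nontrivial isometry of `p`-power order fixes at most one isotropic point -/
theorem eq_one_of_fix_two (hσ : Invol σ) (hB : IsHerm B) (hN : NondegOn B ⊤)
    (h3 : finrank F V = 3) (x : V ≃ₗ[F] V) (hx : x ∈ uG B) (k : ℕ) (hxk : x ^ (p ^ k) = 1)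
    (v w : V) (hv0 : v ≠ 0) (hw : w ∉ Submodule.span F {v}) (hv : B v v = 0) (hww : B w w = 0)
    (hxv : x v = v) (hxw : x w = w) : x = 1 := by
  set H := Submodule.span F {v, w} with hH
  have hvH : v ∈ H := Submodule.subset_span (by simp)
  have hwH : w ∈ H := Submodule.subset_span (by simp)
  have hH2 : 2 ≤ finrank F H := two_le_finrank_of_indep H v w hvH hwH hv0 hw
  have hfin := finrank_orthS hB hN H
  -- step 1
  have hvw : B v w ≠ 0 := by
    intro h0
    have hwv : B w v = 0 := herm_eq_zero hB h0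
    have hle : H ≤ orthS B H := by
      intro y hy
      rw [hH, mem_orthS_pair]
      obtain ⟨c, d, rfl⟩ := Submodule.mem_span_pair.mp hy
      constructor
      · rw [map_add, map_smulₛₗ, map_smulₛₗ, hv, h0, smul_zero, smul_zero, add_zero]
      · rw [map_add, map_smulₛₗ, map_smulₛₗ, hwv, hww, smul_zero, smul_zero, add_zero]
    have := Submodule.finrank_mono hle
    omega
  have hwv : B w v ≠ 0 := herm_ne_zero hσ hB hvw
  -- x fixes H pointwise
  have hxH : ∀ h ∈ H, x h = h := by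
    intro h hh
    obtain ⟨c, d, rfl⟩ := Submodule.mem_span_pair.mp hh
    rw [map_add, map_smul, map_smul, hxv, hxw]
  -- step 2
  have hL1 : finrank F (orthS B H) ≤ 1 := by omega
  obtain ⟨u, hu⟩ := finrank_le_one_iff.mp hL1
  have hxL : ∀ y ∈ orthS B H, x y ∈ orthS B H := by
    intro y hy h hh
    rw [← hxH h hh, hx, hy h hh]
  obtain ⟨γ, hγ⟩ := hu ⟨x (u : V), hxL _ u.2⟩
  have hγ' : x (u : V) = γ • (u : V) := (congrArg Subtype.val hγ).symm
  have hxLfix : ∀ y ∈ orthS B H, x y = y := by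
    intro y hy
    obtain ⟨c, hc⟩ := hu ⟨y, hy⟩
    have hc' : c • (u : V) = y := congrArg Subtype.val hc
    by_cases hu0 : (u : V) = 0
    · rw [← hc', hu0, smul_zero, map_zero]
    · have h1 := pow_apply_of_eigen x (u : V) γ hγ' (p ^ k)
      rw [hxk, LinearEquiv.coe_one, id_eq] at h1
      have h2 : (γ ^ (p ^ k) - 1) • (u : V) = 0 := by
        rw [sub_smul, one_smul, ← h1, sub_self]
      rcases smul_eq_zero.mp h2 with h | h
      · have hγ1 : γ = 1 := eq_one_of_pow_char_pow γ k (sub_eq_zero.mp h)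
        rw [← hc', map_smul, hγ', hγ1, one_smul]
      · exact absurd h hu0
  -- step 3
  apply LinearEquiv.ext
  intro z
  set a := σ (B w z / B w v) with ha
  set b := σ (B v z / B v w) with hb
  have hz' : z - a • v - b • w ∈ orthS B H := by
    rw [hH, mem_orthS_pair]
    constructor
    · rw [map_sub, map_sub, map_smulₛₗ, map_smulₛₗ, hv, smul_zero, sub_zero, hb, hσ.invol,
        smul_eq_mul, div_mul_cancel₀ _ hvw, sub_self]
    · rw [map_sub, map_sub, map_smulₛₗ, map_smulₛₗ, hww, smul_zero, sub_zero, ha, hσ.invol,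
        smul_eq_mul, div_mul_cancel₀ _ hwv, sub_self]
  have hfixz := hxLfix _ hz'
  rw [map_sub, map_sub, map_smul, map_smul, hxv, hxw] at hfixz
  rw [LinearEquiv.coe_one, id_eq]
  have : x z = z := by
    have h5 : x z - a • v - b • w = z - a • v - b • w := hfixz
    have h6 := congrArg (fun t => t + b • w + a • v) h5
    simpa using h6
  exact this

/-- the unipotent radical of the stabiliser of the vector `v` -/
def unip (B : V →ₗ[F] V →ₛₗ[σ] F) (v : V) : Subgroup (V ≃ₗ[F] V) where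
  carrier := {g | g ∈ uG B ∧ g v = v ∧ ∀ u, B v u = 0 → ∃ c : F, g u - u = c • v}
  mul_mem' := by
    rintro g h ⟨hg, hgv, hgu⟩ ⟨hh, hhv, hhu⟩
    refine ⟨(uG B).mul_mem hg hh, ?_, ?_⟩
    · rw [LinearEquiv.mul_apply, hhv, hgv]
    · intro u hu
      obtain ⟨c₂, hc₂⟩ := hhu u hu
      have hhu' : B v (h u) = 0 := by
        have h5 := hh v u
        rw [hhv] at h5
        rw [h5]
        exact hu
      obtain ⟨c₁, hc₁⟩ := hgu (h u) hhu'
      refine ⟨c₁ + c₂, ?_⟩
      rw [LinearEquiv.mul_apply, add_smul, ← hc₁, ← hc₂]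
      abel
  one_mem' := by
    refine ⟨(uG B).one_mem, rfl, ?_⟩
    intro u hu
    exact ⟨0, by simp⟩
  inv_mem' := by
    rintro g ⟨hg, hgv, hgu⟩
    have hgiv : g⁻¹ v = v := by
      conv_lhs => rw [← hgv]
      exact inv_apply_apply' g v
    refine ⟨(uG B).inv_mem hg, hgiv, ?_⟩
    intro u hu
    obtain ⟨c, hc⟩ := hgu u hu
    refine ⟨-c, ?_⟩
    have h1 : g⁻¹ (g u - u) = g⁻¹ (c • v) := by rw [hc]
    rw [map_sub, inv_apply_apply', map_smul, hgiv] at h1
    rw [neg_smul, ← h1]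
    abel

omit [Fact p.Prime] [CharP F p] [Finite F] [FiniteDimensional F V] in
theorem mem_unip (v : V) (g : V ≃ₗ[F] V) : g ∈ unip B v ↔
    g ∈ uG B ∧ g v = v ∧ ∀ u, B v u = 0 → ∃ c : F, g u - u = c • v := Iff.rfl

theorem pow_eq_one_of_mem_unip (h3 : finrank F V = 3) (v : V) (hv : B v v = 0)
    (g : V ≃ₗ[F] V) (hg : g ∈ unip B v) : g ^ (p ^ 2) = 1 := by
  obtain ⟨hgU, hgv, hgu⟩ := hg
  have hnt : Nontrivial V := by
    apply Module.nontrivial_of_finrank_pos (R := F)
    omega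
  have hchar : CharP (Module.End F V) p :=
    charP_of_injective_algebraMap (algebraMap F (Module.End F V)).injective p
  let φ := LinearEquiv.automorphismGroup.toLinearMapMonoidHom (R := F) (M := V)
  have hφ : Function.Injective φ := by
    intro a b hab
    apply LinearEquiv.ext
    intro z
    exact congrArg (fun t : V →ₗ[F] V => t z) hab
  apply hφ
  rw [map_pow, map_one]
  set N : Module.End F V := φ g - 1 with hN
  have hNz : ∀ z, N z = g z - z := fun z => rfl
  have hN1 : ∀ z, B v (N z) = 0 := by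
    intro z
    rw [hNz, map_sub]
    conv_lhs => rw [← hgv, hgU, hgv]
    exact sub_self _
  have hNv : N v = 0 := by rw [hNz, hgv, sub_self]
  have hN3 : N ^ 3 = 0 := by
    apply LinearMap.ext
    intro z
    rw [pow_succ, pow_succ, pow_one, Module.End.mul_apply, Module.End.mul_apply]
    obtain ⟨c, hc⟩ := hgu (N z) (hN1 z)
    rw [← hNz] at hc
    rw [hc, map_smul, hNv, smul_zero]
    simp
  have hp2 : 3 ≤ p ^ 2 := by
    have := (Fact.out : p.Prime).two_le
    nlinarith
  have hNp : N ^ (p ^ 2) = 0 := by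
    rw [← Nat.sub_add_cancel hp2, pow_add, hN3, mul_zero]
  have hsum : φ g = 1 + N := by rw [hN]; abel
  rw [hsum, add_pow_char_pow_of_commute p 2 (Commute.one_left N), one_pow, hNp,
    add_zero]

/-- every isometry of `p`-power order fixing the isotropic vector `v` lies in `unip B v` -/
theorem mem_unip_of_pow (hB : IsHerm B) (hN : NondegOn B ⊤)
    (h3 : finrank F V = 3) (v : V) (hv0 : v ≠ 0) (hv : B v v = 0)
    (x : V ≃ₗ[F] V) (hx : x ∈ uG B) (hxv : x v = v) (k : ℕ) (hxk : x ^ (p ^ k) = 1) :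
    x ∈ unip B v := by
  refine ⟨hx, hxv, ?_⟩
  set W := orthS B (Submodule.span F {v}) with hW
  have hW2 : finrank F W = 2 := finrank_orthS_singleton hB hN h3 v hv0
  have hvW : v ∈ W := (mem_orthS_singleton v v).mpr hv
  have hxW : ∀ y ∈ W, x y ∈ W := by
    intro y hy
    rw [hW, mem_orthS_singleton] at hy ⊢
    have h5 := hx v y
    rw [hxv] at h5
    rw [h5]
    exact hy
  -- a second basis vector of W
  obtain ⟨u₀, hu₀W, hu₀⟩ : ∃ u₀ ∈ W, u₀ ∉ Submodule.span F {v} := by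
    by_contra hcon
    push Not at hcon
    have hle : W ≤ Submodule.span F {v} := fun y hy => hcon y hy
    have := Submodule.finrank_mono hle
    rw [finrank_span_singleton hv0] at this
    omega
  have hspan : Submodule.span F {v, u₀} = W := by
    apply Submodule.eq_of_le_of_finrank_le
    · rw [Submodule.span_le]
      intro y hy
      rcases hy with rfl | rfl
      · exact hvW
      · exact hu₀W
    · rw [hW2]
      exact two_le_finrank_of_indep _ v u₀ (Submodule.subset_span (by simp))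
        (Submodule.subset_span (by simp)) hv0 hu₀
  have hdec : ∀ y ∈ W, ∃ c d : F, c • v + d • u₀ = y := by
    intro y hy
    rw [← hspan] at hy
    exact Submodule.mem_span_pair.mp hy
  obtain ⟨a, β, hβ⟩ := hdec _ (hxW u₀ hu₀W)
  have hpow : ∀ n : ℕ, ∃ c : F, (x ^ n) u₀ = c • v + β ^ n • u₀ := by
    intro n
    induction n with
    | zero => exact ⟨0, by simp⟩
    | succ n ih =>
      obtain ⟨c, hc⟩ := ih
      refine ⟨c + β ^ n * a, ?_⟩
      rw [pow_succ', LinearEquiv.mul_apply, hc, map_add, map_smul, map_smul, hxv, ← hβ, smul_add,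
        smul_smul, smul_smul, add_smul, pow_succ]
      abel
  have hβ1 : β = 1 := by
    obtain ⟨c, hc⟩ := hpow (p ^ k)
    rw [hxk, LinearEquiv.coe_one, id_eq] at hc
    apply eq_one_of_pow_char_pow β k
    by_contra hne
    apply hu₀
    rw [Submodule.mem_span_singleton]
    have h1 : (1 - β ^ (p ^ k)) • u₀ = c • v := by
      rw [sub_smul, one_smul]
      nth_rewrite 1 [hc]
      abel
    have h2 : (1 - β ^ (p ^ k)) ≠ 0 := by
      intro h
      apply hne
      exact (sub_eq_zero.mp h).symm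
    refine ⟨(1 - β ^ (p ^ k))⁻¹ * c, ?_⟩
    rw [← smul_smul, ← h1, smul_smul, inv_mul_cancel₀ h2, one_smul]
  intro u hu
  have huW : u ∈ W := (mem_orthS_singleton v u).mpr hu
  obtain ⟨c, d, rfl⟩ := hdec u huW
  refine ⟨d * a, ?_⟩
  rw [map_add, map_smul, map_smul, hxv, ← hβ, hβ1, one_smul, smul_add, smul_smul]
  abel

/-- two `p`-groups of isometries fixing a common nonzero isotropic vector generate a `p`-group -/
theorem isPGroup_sup_of_fix (hB : IsHerm B) (hN : NondegOn B ⊤)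
    (h3 : finrank F V = 3) (v : V) (hv0 : v ≠ 0) (hv : B v v = 0)
    (P₁ P₂ : Subgroup (V ≃ₗ[F] V)) (hU₁ : P₁ ≤ uG B) (hU₂ : P₂ ≤ uG B)
    (hP₁ : IsPGroup p P₁) (hP₂ : IsPGroup p P₂) (hf₁ : ∀ g ∈ P₁, g v = v)
    (hf₂ : ∀ g ∈ P₂, g v = v) : IsPGroup p (P₁ ⊔ P₂ : Subgroup (V ≃ₗ[F] V)) := by
  have hunip : IsPGroup p (unip B v) := by
    intro g
    refine ⟨2, ?_⟩
    apply Subtype.ext
    rw [Subgroup.coe_pow, Subgroup.coe_one]
    exact pow_eq_one_of_mem_unip h3 v hv g.1 g.2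
  have hle : ∀ (P : Subgroup (V ≃ₗ[F] V)), P ≤ uG B → IsPGroup p P → (∀ g ∈ P, g v = v) →
      P ≤ unip B v := by
    intro P hPU hP hf g hg
    obtain ⟨k, hk⟩ := hP ⟨g, hg⟩
    have hk' : g ^ (p ^ k) = 1 := by
      have := congrArg Subtype.val hk
      simpa using this
    exact mem_unip_of_pow hB hN h3 v hv0 hv g (hPU hg) (hf g hg) k hk'
  exact hunip.to_le (sup_le (hle P₁ hU₁ hP₁ hf₁) (hle P₂ hU₂ hP₂ hf₂))

/-- Sylow `p`-subgroups of a finite group of isometries of a 3-dimensional unitary space in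
characteristic `p` intersect trivially -/
theorem sylow_ti {G : Type*} [Group G] [Finite G] (hσ : Invol σ) (hB : IsHerm B)
    (hN : NondegOn B ⊤) (h3 : finrank F V = 3) (ρ : G →* (V ≃ₗ[F] V))
    (hρ : Function.Injective ρ) (hρU : ∀ g, ρ g ∈ uG B)
    (P₁ P₂ : Sylow p G) (x : G) (hx₁ : x ∈ P₁) (hx₂ : x ∈ P₂) (hx : x ≠ 1) : P₁ = P₂ := by
  have hQU : ∀ P : Subgroup G, P.map ρ ≤ uG B := by
    rintro P _ ⟨g, _, rfl⟩
    exact hρU g
  have hQ₁ : IsPGroup p ((P₁ : Subgroup G).map ρ) := P₁.isPGroup'.map ρ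
  have hQ₂ : IsPGroup p ((P₂ : Subgroup G).map ρ) := P₂.isPGroup'.map ρ
  obtain ⟨v₁, hv₁0, hv₁, hf₁⟩ := exists_fixed_iso hσ hB hN h3 _ (hQU P₁) hQ₁
  obtain ⟨v₂, hv₂0, hv₂, hf₂⟩ := exists_fixed_iso hσ hB hN h3 _ (hQU P₂) hQ₂
  obtain ⟨k, hk⟩ := P₁.isPGroup' ⟨x, hx₁⟩
  have hk' : x ^ (p ^ k) = 1 := by
    have := congrArg Subtype.val hk
    simpa using this
  have hρk : (ρ x) ^ (p ^ k) = 1 := by rw [← map_pow, hk', map_one]
  have hρx : ρ x ≠ 1 := fun h => hx (hρ (h.trans (map_one ρ).symm))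
  have hmem : v₂ ∈ Submodule.span F {v₁} := by
    by_contra hcon
    exact hρx (eq_one_of_fix_two hσ hB hN h3 (ρ x) (hρU x) k hρk v₁ v₂ hv₁0 hcon hv₁ hv₂
      (hf₁ _ (Subgroup.mem_map_of_mem ρ hx₁)) (hf₂ _ (Subgroup.mem_map_of_mem ρ hx₂)))
  obtain ⟨c, rfl⟩ := Submodule.mem_span_singleton.mp hmem
  have hc0 : c ≠ 0 := by
    rintro rfl
    rw [zero_smul] at hv₂0
    exact hv₂0 rfl
  have hf₂' : ∀ g ∈ (P₂ : Subgroup G).map ρ, g v₁ = v₁ := by
    intro g hg
    have h1 := hf₂ g hg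
    rw [map_smul] at h1
    exact smul_right_injective V hc0 h1
  have hsup := isPGroup_sup_of_fix hB hN h3 v₁ hv₁0 hv₁ _ _ (hQU P₁) (hQU P₂) hQ₁ hQ₂ hf₁ hf₂'
  rw [← Subgroup.map_sup] at hsup
  have hsupG : IsPGroup p ((P₁ : Subgroup G) ⊔ (P₂ : Subgroup G) : Subgroup G) := by
    intro g
    obtain ⟨j, hj⟩ := hsup ⟨ρ g.1, Subgroup.mem_map_of_mem ρ g.2⟩
    refine ⟨j, ?_⟩
    apply Subtype.ext
    apply hρ
    have := congrArg Subtype.val hj
    simpa using this
  have e₁ := P₁.is_maximal' hsupG le_sup_left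
  have e₂ := P₂.is_maximal' hsupG le_sup_right
  exact Sylow.ext (e₁.symm.trans e₂)

end Cfsg.Agent.Lib.Helper46_U3TI
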