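/-
Helper99_UnitaryTv: unitary transvections — characterisation of the rank-one isometries of a
hermitian space, and conjugacy of all unitary transvections under the isometries of
determinant one (dimension at least three, finite field).  Built on helper94's `Helper94_Herm`.
-/
import Mathlib
import Cfsg.Agent.Lib.Helper94_Herm
import Cfsg.Agent.Lib.Helper94_HermTrans

set_option autoImplicit false

namespace Cfsg.Agent.Lib.Helper99_UnitaryTv

open Module Cfsg.Agent.Lib.Helper94_Herm Cfsg.Agent.Lib.Helper94_HermTrans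

variable {F V : Type*} [Field F] [AddCommGroup V] [Module F V]
variable {σ : F →+* F} {B : V →ₗ[F] V →ₛₗ[σ] F}

/-- A unitary transvection has determinant one. -/
lemma det_utv (a : V) (c : F) : LinearEquiv.det (utv B a c) = 1 := by
  unfold utv
  split_ifs with h
  · exact LinearEquiv.transvection.det_eq_one _
  · exact map_one _

lemma det_of_mem_tvGroup {U : Submodule F V} {t : V ≃ₗ[F] V} (ht : t ∈ tvGroup B U) :
    LinearEquiv.det t = 1 := by
  have hle : tvGroup B U ≤ (LinearEquiv.det : (V ≃ₗ[F] V) →* Fˣ).ker :=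
    tvGroup_le U _ (fun a _ _ c _ => by rw [MonoidHom.mem_ker]; exact det_utv a c)
  exact hle ht

/-- An isometry of the form `x ↦ x + φ x • a` is a unitary transvection. -/
theorem eq_utv_of_rank_one (hσ : Invol σ) (hB : IsHerm B) (hnd : NondegOn B ⊤) {T : V ≃ₗ[F] V}
    (hT : T ∈ uG B) {a : V} {φ : V →ₗ[F] F} (ha0 : a ≠ 0) (hφ0 : φ ≠ 0) (hφa : φ a = 0)
    (hTx : ∀ x, T x = x + φ x • a) :
    ∃ c, c ≠ 0 ∧ σ c = -c ∧ B a a = 0 ∧ T = utv B a c := by
  obtain ⟨y₀, hy₀⟩ : ∃ y, φ y ≠ 0 := by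
    by_contra h
    push Not at h
    exact hφ0 (LinearMap.ext h)
  have hσy₀ : σ (φ y₀) ≠ 0 := (map_ne_zero σ).mpr hy₀
  have key : ∀ x y, φ x * B a y + σ (φ y) * B x a + φ x * σ (φ y) * B a a = 0 := by
    intro x y
    have := hT x y
    rw [hTx, hTx] at this
    simp only [map_add, map_smul, map_smulₛₗ, LinearMap.add_apply, LinearMap.smul_apply,
      smul_eq_mul] at this
    linear_combination this
  have haa : B a a = 0 := by
    have := key a y₀
    simp only [hφa, zero_mul, zero_add, add_zero] at this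
    rcases mul_eq_zero.mp this with h | h
    · exact absurd h hσy₀
    · exact h
  have key' : ∀ x y, φ x * B a y = -(σ (φ y) * B x a) := by
    intro x y
    have := key x y
    rw [haa, mul_zero, add_zero] at this
    linear_combination this
  obtain ⟨z, -, hz⟩ := hnd a trivial ha0
  have hza : B z a ≠ 0 := herm_ne_zero hσ hB hz
  have hay₀ : B a y₀ ≠ 0 := by
    intro h0
    have := key' z y₀
    rw [h0, mul_zero] at this
    have h2 : σ (φ y₀) * B z a = 0 := by linear_combination this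
    rcases mul_eq_zero.mp h2 with h | h
    · exact hσy₀ h
    · exact hza h
  set c := -(σ (φ y₀)) / B a y₀ with hc
  have hφ : ∀ x, φ x = c * B x a := by
    intro x
    have := key' x y₀
    rw [hc]
    field_simp
    linear_combination this
  have hc0 : c ≠ 0 := by
    intro h0
    apply hy₀
    rw [hφ, h0, zero_mul]
  have hskew : σ c = -c := by
    have := key' z z
    rw [hφ z, map_mul, ← hB z a] at this
    have h3 : (c + σ c) * (B z a * B a z) = 0 := by linear_combination this
    rcases mul_eq_zero.mp h3 with h | h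
    · linear_combination h
    · exact absurd h (mul_ne_zero hza hz)
  refine ⟨c, hc0, hskew, haa, ?_⟩
  ext x
  rw [hTx, utv_apply B haa, hφ]

/-- An isometry of determinant one scaling a given isotropic vector by a given scalar
(dimension at least three). -/
theorem exists_adjust [FiniteDimensional F V] (hσ : Invol σ) (hB : IsHerm B)
    (hnd : NondegOn B ⊤) (hdim : 3 ≤ finrank F V) {a : V} (ha0 : a ≠ 0) (ha : B a a = 0) {ν : F}
    (hν : ν ≠ 0) : ∃ h : V ≃ₗ[F] V, h ∈ uG B ∧ LinearEquiv.det h = 1 ∧ h a = ν • a := by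
  obtain ⟨b, -, hb, hab⟩ := exists_partner hσ hB hnd (Submodule.mem_top) ha0 ha
  have hba : B b a = 1 := by rw [hB a b, hab, map_one]
  have hW := nondegOn_pair hB hnd (Submodule.mem_top) (Submodule.mem_top) ha hb hab
  -- a nonzero vector orthogonal to `a` and `b`
  obtain ⟨x₀, hx₀W, hx₀⟩ : ∃ x ∈ (⊤ ⊓ orthV B a ⊓ orthV B b : Submodule F V), x ≠ 0 := by
    let L : V →ₗ[F] F × F := (B.flip a).prod (B.flip b)
    have h1 := LinearMap.finrank_range_add_finrank_ker L
    have h2 : finrank F (LinearMap.range L) ≤ 2 := by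
      have := Submodule.finrank_le (LinearMap.range L)
      rwa [Module.finrank_prod, Module.finrank_self] at this
    have h3 : 0 < finrank F (LinearMap.ker L) := by omega
    obtain ⟨⟨x, hx⟩, hx0⟩ := Module.finrank_pos_iff_exists_ne_zero.mp h3
    refine ⟨x, ?_, fun h => hx0 (Subtype.ext h)⟩
    have hL : L x = 0 := hx
    have hL' : (B x a, B x b) = (0 : F × F) := hL
    rw [Prod.mk_eq_zero] at hL'
    exact Submodule.mem_inf.mpr ⟨Submodule.mem_inf.mpr ⟨Submodule.mem_top, mem_orthV.mpr hL'.1⟩,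
      mem_orthV.mpr hL'.2⟩
  obtain ⟨d, hdW, hdd⟩ := exists_aniso hσ hB hW hx₀W hx₀
  have hda : B d a = 0 := mem_orthV.mp hdW.1.2
  have hdb : B d b = 0 := mem_orthV.mp hdW.2
  have had : B a d = 0 := herm_eq_zero hB hda
  have hσν : σ ν ≠ 0 := (map_ne_zero σ).mpr hν
  have hβ : σ (B d d) = B d d := herm_self hB d
  -- the three factors
  set f₁ : Module.Dual F V := (ν - 1) • B.flip b with hf₁
  set f₂ : Module.Dual F V := ((σ ν)⁻¹ - 1) • B.flip a with hf₂
  set lam : F := σ ν / ν with hlam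
  have hlam0 : lam ≠ 0 := div_ne_zero hσν hν
  have hlamN : lam * σ lam = 1 := by
    rw [hlam, map_div₀, hσ.invol]
    field_simp
  set f₃ : Module.Dual F V := ((lam - 1) / B d d) • B.flip d with hf₃
  have h1 : 1 + f₁ a = ν := by
    simp only [hf₁, LinearMap.smul_apply, LinearMap.flip_apply, hab, smul_eq_mul, mul_one]
    ring
  have h2 : 1 + f₂ b = (σ ν)⁻¹ := by
    simp only [hf₂, LinearMap.smul_apply, LinearMap.flip_apply, hba, smul_eq_mul, mul_one]
    ring
  have h3 : 1 + f₃ d = lam := by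
    simp only [hf₃, LinearMap.smul_apply, LinearMap.flip_apply, smul_eq_mul]
    field_simp
    ring
  have u1 : IsUnit (1 + f₁ a) := by rw [h1]; exact isUnit_iff_ne_zero.mpr hν
  have u2 : IsUnit (1 + f₂ b) := by rw [h2]; exact isUnit_iff_ne_zero.mpr (inv_ne_zero hσν)
  have u3 : IsUnit (1 + f₃ d) := by rw [h3]; exact isUnit_iff_ne_zero.mpr hlam0
  set D₁ := LinearEquiv.dilatransvection u1 with hD₁
  set D₂ := LinearEquiv.dilatransvection u2 with hD₂
  set R := LinearEquiv.dilatransvection u3 with hR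
  have aD₁ : ∀ x, D₁ x = x + ((ν - 1) * B x b) • a := by
    intro x
    rw [hD₁, LinearEquiv.dilatransvection.apply]
    rfl
  have aD₂ : ∀ x, D₂ x = x + (((σ ν)⁻¹ - 1) * B x a) • b := by
    intro x
    rw [hD₂, LinearEquiv.dilatransvection.apply]
    rfl
  have aR : ∀ x, R x = x + ((lam - 1) / B d d * B x d) • d := by
    intro x
    rw [hR, LinearEquiv.dilatransvection.apply]
    rfl
  have aH : ∀ x, (D₂ * D₁) x = x + ((ν - 1) * B x b) • a + (((σ ν)⁻¹ - 1) * B x a) • b := by
    intro x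
    rw [LinearEquiv.mul_apply, aD₂, aD₁]
    simp only [map_add, map_smul, LinearMap.add_apply, LinearMap.smul_apply, ha, smul_eq_mul,
      mul_zero, add_zero]
  have hH : D₂ * D₁ ∈ uG B := by
    intro x y
    rw [aH, aH]
    simp only [map_add, map_smul, map_smulₛₗ, LinearMap.add_apply, LinearMap.smul_apply,
      smul_eq_mul, ha, hb, hab, hba, map_mul, map_sub, map_one, map_inv₀, hσ.invol, mul_zero,
      add_zero, mul_one]
    rw [hB y a, hB y b]
    field_simp
    ring
  have hRu : R ∈ uG B := by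
    intro x y
    rw [aR, aR]
    simp only [map_add, map_smul, map_smulₛₗ, LinearMap.add_apply, LinearMap.smul_apply,
      smul_eq_mul, map_mul, map_sub, map_one, map_div₀, hβ]
    rw [hB y d]
    have hσl : σ lam = lam⁻¹ := eq_inv_of_mul_eq_one_right hlamN
    rw [hσl]
    field_simp
    ring
  refine ⟨R * (D₂ * D₁), (uG B).mul_mem hRu hH, ?_, ?_⟩
  · rw [map_mul, map_mul]
    apply Units.ext
    rw [Units.val_mul, Units.val_mul, LinearEquiv.coe_det, LinearEquiv.coe_det, LinearEquiv.coe_det,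
      hR, hD₂, hD₁, LinearEquiv.dilatransvection.coe_toLinearMap,
      LinearEquiv.dilatransvection.coe_toLinearMap, LinearEquiv.dilatransvection.coe_toLinearMap,
      LinearMap.transvection.det, LinearMap.transvection.det, LinearMap.transvection.det, h1, h2,
      h3, Units.val_one, hlam]
    field_simp
  · rw [LinearEquiv.mul_apply, aH, aR]
    simp only [map_add, map_smul, LinearMap.add_apply, LinearMap.smul_apply, ha, hab, had,
      smul_eq_mul, mul_zero, mul_one, zero_smul, add_zero]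
    module

/-- **Conjugacy of unitary transvections** under isometries of determinant one. -/
theorem exists_conj_utv [Finite F] [FiniteDimensional F V] (hσ : Invol σ) (hB : IsHerm B)
    (hnd : NondegOn B ⊤) (hdim : 3 ≤ finrank F V) {a a' : V} {c c' : F} (ha0 : a ≠ 0)
    (ha'0 : a' ≠ 0) (ha : B a a = 0) (ha' : B a' a' = 0) (hc0 : c ≠ 0) (hc'0 : c' ≠ 0)
    (hc : σ c = -c) (hc' : σ c' = -c') :
    ∃ g : V ≃ₗ[F] V, g ∈ uG B ∧ LinearEquiv.det g = 1 ∧ g * utv B a c * g⁻¹ = utv B a' c' := by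
  obtain ⟨t₁, ht₁, μ, hμ0, hm⟩ := exists_tv_move_point hσ hB hnd (Submodule.mem_top)
    (Submodule.mem_top) ha0 ha'0 ha ha'
  have ht₁u : t₁ ∈ uG B := tvGroup_le_uG hB ⊤ ht₁
  have hσμ : σ μ ≠ 0 := (map_ne_zero σ).mpr hμ0
  set ρ : F := c' / (μ * σ μ * c) with hρ
  have hρfix : σ ρ = ρ := by
    rw [hρ, map_div₀, map_mul, map_mul, hσ.invol, hc, hc']
    field_simp
  obtain ⟨ν, hνN⟩ := norm_surj hσ ρ hρfix
  have hρ0 : ρ ≠ 0 := div_ne_zero hc'0 (mul_ne_zero (mul_ne_zero hμ0 hσμ) hc0)
  have hν0 : ν ≠ 0 := by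
    rintro rfl
    rw [zero_mul] at hνN
    exact hρ0 hνN.symm
  obtain ⟨h, hhu, hhdet, hha⟩ := exists_adjust hσ hB hnd hdim ha'0 ha' hν0
  refine ⟨h * t₁, (uG B).mul_mem hhu ht₁u, ?_, ?_⟩
  · rw [map_mul, hhdet, det_of_mem_tvGroup ht₁, one_mul]
  · have e1 : (h * t₁) * utv B a c * (h * t₁)⁻¹ = h * (t₁ * utv B a c * t₁⁻¹) * h⁻¹ := by
      rw [mul_inv_rev]
      group
    rw [e1, conj_utv ht₁u, hm, conj_utv hhu, map_smul, hha, smul_smul, utv_smul]
    congr 1
    rw [map_mul]
    have : μ * ν * (σ μ * σ ν) * c = μ * σ μ * c * (ν * σ ν) := by ring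
    rw [this, hνN, hρ]
    field_simp

end Cfsg.Agent.Lib.Helper99_UnitaryTv
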