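import Mathlib
import Cfsg.Agent.Lib.Helper94_Herm
import Cfsg.Agent.Lib.Helper94_HermOrth
import Cfsg.Agent.Lib.Helper94_HermEich
import Cfsg.Agent.Lib.Helper99_UnitaryTv
import Cfsg.Agent.Lib.Helper46_U3TI

/-!
# The centre of the unipotent radical `unip B v` of a unitary group

In the setting of `Helper94_Herm` (hermitian form `B` with involution `σ`): an element of
`unip B v` (`v` isotropic) commuting with all of `unip B v` fixes `v^⊥` pointwise
(`fix_orth_of_central`) and, if nontrivial, is a unitary transvection `utv B v c`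
(`eq_utv_of_central`).
-/

set_option autoImplicit false
set_option linter.unusedVariables false
set_option linter.unusedSectionVars false

namespace Cfsg.Agent.Lib.Helper46_U3Center

open Module Cfsg.Agent.Lib.Helper94_Herm Cfsg.Agent.Lib.Helper94_HermOrth
  Cfsg.Agent.Lib.Helper94_HermEich Cfsg.Agent.Lib.Helper46_U3TI Cfsg.Agent.Lib.Helper99_UnitaryTv

variable {F V : Type*} [Field F] [AddCommGroup V] [Module F V]
variable {σ : F →+* F} {B : V →ₗ[F] V →ₛₗ[σ] F}

/-- Eichler elements lie in the unipotent radical. -/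
theorem eich_mem_unip (hB : IsHerm B) {v y : V} {c : F} (hv : B v v = 0) (hvy : B v y = 0)
    (hc : c + σ c = -(B y y)) : eich B v y c ∈ unip B v := by
  have hyv : B y v = 0 := herm_eq_zero hB hvy
  refine ⟨eich_mem_uG hB hc, ?_, ?_⟩
  · rw [eich_apply B hv hyv hvy, hv, hvy]
    simp
  · intro u hu
    have huv : B u v = 0 := herm_eq_zero hB hu
    refine ⟨-(B u y), ?_⟩
    rw [eich_apply B hv hyv hvy, huv]
    simp only [zero_smul, mul_zero, add_zero, neg_smul]
    abel

/-- A central element of `unip B v` fixes every vector orthogonal to `v`. -/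
theorem fix_orth_of_central (hσ : Invol σ) (hB : IsHerm B) (hN : NondegOn B ⊤) {v : V}
    (hv0 : v ≠ 0) (hv : B v v = 0) {z : V ≃ₗ[F] V} (hz : z ∈ unip B v)
    (hcen : ∀ g ∈ unip B v, g * z = z * g) (u : V) (hu : B v u = 0) : z u = u := by
  obtain ⟨hzU, hzv, hzu⟩ := hz
  obtain ⟨α, hα⟩ := hzu u hu
  obtain ⟨x₀, -, hx₀⟩ := hN v trivial hv0
  have hx₀' : B x₀ v ≠ 0 := herm_ne_zero hσ hB hx₀
  set x := (B x₀ v)⁻¹ • x₀ with hx
  have hxv : B x v = 1 := by
    rw [hx, map_smul, LinearMap.smul_apply, smul_eq_mul, inv_mul_cancel₀ hx₀']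
  have hzxv : B (z x) v = 1 := by
    have h1 := hzU x v
    rw [hzv] at h1
    rw [h1, hxv]
  clear_value x
  have hzu' : z u = u + α • v := by
    rw [← hα]; abel
  have key : ∀ l : F, l * α = σ (l * α) := by
    intro l
    set y := l • u with hy
    have hvy : B v y = 0 := by rw [hy, map_smulₛₗ, hu, smul_zero]
    have hyv : B y v = 0 := herm_eq_zero hB hvy
    obtain ⟨c, hc⟩ := tr_surj hσ (-(B y y)) (by rw [map_neg, herm_self hB])
    have hE := eich_mem_unip hB hv hvy hc
    have hcomm := hcen _ hE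
    have h1 := congrArg (fun g : V ≃ₗ[F] V => g x) hcomm
    simp only [LinearEquiv.mul_apply] at h1
    have hzy : z y = y + (l * α) • v := by
      rw [hy, map_smul, hzu', smul_add, smul_smul]
    clear_value y
    rw [eich_apply B hv hyv hvy, eich_apply B hv hyv hvy, hzxv, hxv] at h1
    simp only [map_add, map_sub, map_smul, hzv, hzy, one_smul, mul_one] at h1
    have h2 : (B x y - B (z x) y - l * α) • v = 0 := by
      have e : (B x y - B (z x) y - l * α) • v =
          (z x + y - B (z x) y • v + c • v) - (z x + (y + (l * α) • v) - B x y • v + c • v) := by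
        module
      rw [e, h1, sub_self]
    have h3 : B x y - B (z x) y - l * α = 0 := (smul_eq_zero.mp h2).resolve_right hv0
    have h4 : B (z x) (z y) = B x y := hzU x y
    rw [hzy, map_add, map_smulₛₗ, hzxv, smul_eq_mul, mul_one] at h4
    linear_combination -h4 - h3
  by_contra hne
  have hα0 : α ≠ 0 := by
    rintro rfl
    apply hne
    rw [hzu', zero_smul, add_zero]
  obtain ⟨θ, hθ⟩ := hσ.ne_id
  have := key (θ / α)
  rw [div_mul_cancel₀ θ hα0] at this
  exact hθ this.symm

/-- A nontrivial central element of `unip B v` is a unitary transvection centred at `v`. -/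
theorem eq_utv_of_central [Finite F] [FiniteDimensional F V] (hσ : Invol σ) (hB : IsHerm B)
    (hN : NondegOn B ⊤) {v : V}
    (hv0 : v ≠ 0) (hv : B v v = 0) {z : V ≃ₗ[F] V} (hz : z ∈ unip B v) (hz1 : z ≠ 1)
    (hcen : ∀ g ∈ unip B v, g * z = z * g) :
    ∃ c, c ≠ 0 ∧ σ c = -c ∧ z = utv B v c := by
  have hfix := fix_orth_of_central hσ hB hN hv0 hv hz hcen
  obtain ⟨hzU, hzv, -⟩ := hz
  obtain ⟨x₀, -, hx₀⟩ := hN v trivial hv0
  set x₁ := (σ (B v x₀))⁻¹ • x₀ with hx₁
  have hvx₁ : B v x₁ = 1 := by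
    rw [hx₁, map_smulₛₗ, map_inv₀, hσ.invol, smul_eq_mul, inv_mul_cancel₀ hx₀]
  clear_value x₁
  have hspan : ∀ x, z x - x ∈ Submodule.span F {v} := by
    intro x
    rw [← orthS_orthS hB hN (Submodule.span F {v}), mem_orthS]
    intro w hw
    rw [mem_orthS_singleton] at hw
    have hzw : z w = w := hfix w hw
    have h1 := hzU w x
    rw [hzw] at h1
    rw [map_sub, h1, sub_self]
  let φ : V →ₗ[F] F := (B.flip x₁).comp ((z : V →ₗ[F] V) - LinearMap.id)
  have hφx : ∀ x, φ x = B (z x - x) x₁ := fun x => rfl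
  have hTx : ∀ x, z x = x + φ x • v := by
    intro x
    obtain ⟨k, hk⟩ := Submodule.mem_span_singleton.mp (hspan x)
    have : φ x = k := by
      rw [hφx, ← hk, map_smul, LinearMap.smul_apply, hvx₁, smul_eq_mul, mul_one]
    rw [this, hk]
    abel
  have hφv : φ v = 0 := by
    rw [hφx, hzv, sub_self, map_zero, LinearMap.zero_apply]
  have hφ0 : φ ≠ 0 := by
    intro h0
    apply hz1
    ext x
    rw [hTx x, h0]
    simp
  obtain ⟨c, hc0, hskew, -, hT⟩ := eq_utv_of_rank_one hσ hB hN hzU hv0 hφ0 hφv hTx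
  exact ⟨c, hc0, hskew, hT⟩

end Cfsg.Agent.Lib.Helper46_U3Center
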