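import Mathlib
import Cfsg.Agent.Lib.Helper94_Symp
import Cfsg.Agent.Lib.Helper94_Herm
import Cfsg.Agent.Lib.Helper94_HermOrth
import Cfsg.Agent.Lib.Helper94_HermEich
import Cfsg.Agent.Lib.Helper94_HermTrans
import Cfsg.Agent.Lib.Helper94_HermPara

set_option autoImplicit false

/-!
The stabiliser of a pair of complementary totally isotropic subspaces `U, U'` in a special unitary
group is maximal (helper94).  Unitary analogue of `Helper94_SympTI`.
-/

namespace Cfsg.Agent.Lib.Helper94_HermTI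

open Module Cfsg.Agent.Lib.Helper94_Herm Cfsg.Agent.Lib.Helper94_HermOrth
  Cfsg.Agent.Lib.Helper94_HermEich Cfsg.Agent.Lib.Helper94_HermTrans
  Cfsg.Agent.Lib.Helper94_HermPara

variable {F V : Type*} [Field F] [AddCommGroup V] [Module F V]
variable {σ : F →+* F} {B : V →ₗ[F] V →ₛₗ[σ] F}

lemma exists_sub_conj (hσ : Invol σ) {c : F} (hc : σ c = -c) : ∃ t, t - σ t = c := by
  obtain ⟨θ, hθ⟩ := exists_tr_ne_zero hσ
  have hθ' : σ θ + θ ≠ 0 := by rwa [add_comm]
  refine ⟨c * θ / (θ + σ θ), ?_⟩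
  rw [map_div₀, map_mul, map_add, hσ.invol, hc]
  field_simp
  ring

section UTV

variable (B)

/-- Vectors all of whose unitary transvections lie in `M`. -/
def UTV (M : Subgroup (V ≃ₗ[F] V)) : Set V := {a | ∀ c, σ c = -c → utv B a c ∈ M}

variable {B} {M : Subgroup (V ≃ₗ[F] V)}

lemma UTV_map {g : V ≃ₗ[F] V} (hgM : g ∈ M) (hg : g ∈ uG B) {v : V} (hv : v ∈ UTV B M) :
    g v ∈ UTV B M := by
  intro c hc
  rw [← conj_utv hg]
  exact M.mul_mem (M.mul_mem hgM (hv c hc)) (M.inv_mem hgM)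

lemma UTV_smul (hσ : Invol σ) (μ : F) {v : V} (hv : v ∈ UTV B M) : μ • v ∈ UTV B M := by
  intro c hc
  rw [utv_smul]
  apply hv
  rw [map_mul, map_mul, hσ.invol, hc]
  ring

end UTV

section EE

lemma eich_comm {a z z' : V} (ha : B a a = 0) (hz : B z a = 0) (hza : B a z = 0)
    (hz' : B z' a = 0) (hz'a : B a z' = 0) :
    eich B a z 0 * eich B a z' 0 =
      (eich B a z' 0 * eich B a z 0) * utv B a (B z z' - B z' z) := by
  have h1 : B (z' + z) a = 0 := by rw [map_add, LinearMap.add_apply, hz, hz', add_zero]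
  have h2 : B a (z' + z) = 0 := by rw [map_add, hza, hz'a, add_zero]
  rw [eich_mul ha hz hza hz' hz'a, eich_mul ha hz' hz'a hz hza, eich_mul_utv ha h1 h2,
    add_comm z' z]
  congr 1
  ring

lemma eich_add_smul {a y : V} (ha : B a a = 0) (hy : B y a = 0) (hya : B a y = 0) (l : F) :
    eich B a (y + l • a) 0 = eich B a y 0 * utv B a (l - σ l) := by
  have h1 : B (y + l • a) a = 0 := by
    rw [map_add, LinearMap.add_apply, hy, map_smul, LinearMap.smul_apply, ha, smul_zero, add_zero]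
  have h2 : B a (y + l • a) = 0 := by
    rw [map_add, hya, map_smulₛₗ, ha, smul_zero, add_zero]
  rw [eich_mul_utv ha hy hya, zero_add]
  ext x
  rw [eich_apply B ha h1 h2, eich_apply B ha hy hya]
  simp only [map_add, map_smulₛₗ, smul_eq_mul]
  module

lemma eich_swap {a y : V} (ha : B a a = 0) (hy : B y y = 0) (hay : B a y = 0) (hya : B y a = 0) :
    eich B y a 0 = (eich B a y 0)⁻¹ := by
  apply eq_inv_of_mul_eq_one_right
  ext x
  rw [LinearEquiv.mul_apply, eich_apply B hy hay hya, eich_apply B ha hya hay]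
  simp only [map_add, map_sub, map_smul, LinearMap.add_apply, LinearMap.sub_apply,
    LinearMap.smul_apply, smul_eq_mul, ha, hy, hay, hya, mul_zero, add_zero, sub_zero, zero_mul,
    zero_smul, LinearEquiv.coe_one, id_eq]
  module

/-- Key step. -/
lemma key_step (hσ : Invol σ) (hB : IsHerm B) (M : Subgroup (V ≃ₗ[F] V))
    (A A' N' : Submodule F V)
    (hA : ∀ u ∈ A, ∀ v ∈ A, B u v = 0) (hA' : ∀ u ∈ A', ∀ v ∈ A', B u v = 0)
    (hsup : A ⊔ A' = ⊤)
    (hpair : ∀ u ∈ A, (∀ y ∈ A', B y u = 0) → u = 0)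
    {a : V} (ha : a ∈ A) (ha0 : a ≠ 0)
    (hE : ∀ y ∈ A', B y a = 0 → eich B a y 0 ∈ M)
    (hE' : ∀ z ∈ N', B z a = 0 → eich B a z 0 ∈ M)
    (hTV : a ∉ UTV B M) :
    ∀ z ∈ N', B z a = 0 → z ∈ A' := by
  intro z' hz'N hz'a
  have haa : B a a = 0 := hA a ha a ha
  have haz' : B a z' = 0 := herm_eq_zero hB hz'a
  have hz'M := hE' z' hz'N hz'a
  -- Step 1
  have h1 : ∀ z ∈ A', B z a = 0 → B z z' = 0 := by
    intro z hz hza
    by_contra hne
    apply hTV
    intro c hc
    obtain ⟨t, ht⟩ := exists_sub_conj hσ hc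
    have hsza : B ((t / B z z') • z) a = 0 := by
      rw [map_smul, LinearMap.smul_apply, hza, smul_zero]
    have hasz : B a ((t / B z z') • z) = 0 := herm_eq_zero hB hsza
    have hsz : eich B a ((t / B z z') • z) 0 ∈ M := hE _ (A'.smul_mem _ hz) hsza
    have hcomm := eich_comm haa hsza hasz hz'a haz'
    have hv1 : B ((t / B z z') • z) z' = t := by
      rw [map_smul, LinearMap.smul_apply, smul_eq_mul, div_mul_cancel₀ _ hne]
    have hv2 : B z' ((t / B z z') • z) = σ t := by rw [hB _ z', hv1]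
    rw [hv1, hv2, ht] at hcomm
    have : utv B a c = (eich B a z' 0 * eich B a ((t / B z z') • z) 0)⁻¹ *
        (eich B a ((t / B z z') • z) 0 * eich B a z' 0) := by
      rw [hcomm, inv_mul_cancel_left]
    rw [this]
    exact M.mul_mem (M.inv_mem (M.mul_mem hz'M hsz)) (M.mul_mem hsz hz'M)
  -- Step 2
  obtain ⟨u, hu, u', hu', huz⟩ := Submodule.mem_sup.mp (hsup ▸ Submodule.mem_top : z' ∈ A ⊔ A')
  have hua : B u a = 0 := hA u hu a ha
  have hu'a : B u' a = 0 := by
    have := hz'a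
    rw [← huz, map_add, LinearMap.add_apply, hua, zero_add] at this
    exact this
  have hau' : B a u' = 0 := herm_eq_zero hB hu'a
  obtain ⟨b, hb, hba⟩ : ∃ b ∈ A', B b a = 1 := by
    by_contra hcon
    push Not at hcon
    apply ha0
    apply hpair a ha
    intro y hy
    by_contra hne
    exact hcon ((B y a)⁻¹ • y) (A'.smul_mem _ hy)
      (by rw [map_smul, LinearMap.smul_apply, smul_eq_mul, inv_mul_cancel₀ hne])
  have hyu : ∀ y ∈ A', B y u = B y a * B b u := by
    intro y hy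
    have hmem : y - B y a • b ∈ A' := A'.sub_mem hy (A'.smul_mem _ hb)
    have h0 : B (y - B y a • b) a = 0 := by
      rw [map_sub, LinearMap.sub_apply, map_smul, LinearMap.smul_apply, smul_eq_mul, hba, mul_one,
        sub_self]
    have h3 := h1 _ hmem h0
    rw [← huz] at h3
    simp only [map_add, map_sub, map_smul, LinearMap.sub_apply, LinearMap.smul_apply,
      smul_eq_mul] at h3
    rw [hA' y hy u' hu', hA' b hb u' hu'] at h3
    linear_combination h3
  obtain ⟨l, hul⟩ : ∃ l : F, u = l • a := by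
    refine ⟨σ (B b u), ?_⟩
    have : u - σ (B b u) • a = 0 := hpair _ (A.sub_mem hu (A.smul_mem _ ha)) (fun y hy => by
      rw [map_sub, map_smulₛₗ, smul_eq_mul, hyu y hy, hσ.invol]
      ring)
    exact sub_eq_zero.mp this
  -- Step 3
  by_cases hl : l = 0
  · rw [← huz, hul, hl, zero_smul, zero_add]
    exact hu'
  · exfalso
    apply hTV
    intro c hc
    obtain ⟨t, ht⟩ := exists_sub_conj hσ hc
    have hsz' : (t / l) • z' = (t / l) • u' + t • a := by
      rw [← huz, hul, smul_add, smul_smul, div_mul_cancel₀ _ hl, add_comm]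
    have h3 := hE' ((t / l) • z') (N'.smul_mem _ hz'N)
      (by rw [map_smul, LinearMap.smul_apply, hz'a, smul_zero])
    have hsu'a : B ((t / l) • u') a = 0 := by
      rw [map_smul, LinearMap.smul_apply, hu'a, smul_zero]
    have hasu' : B a ((t / l) • u') = 0 := herm_eq_zero hB hsu'a
    rw [hsz', eich_add_smul haa hsu'a hasu', ht] at h3
    have h4 := hE _ (A'.smul_mem (t / l) hu') hsu'a
    have : utv B a c = (eich B a ((t / l) • u') 0)⁻¹ *
        (eich B a ((t / l) • u') 0 * utv B a c) := by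
      rw [inv_mul_cancel_left]
    rw [this]
    exact M.mul_mem (M.inv_mem h4) h3

end EE


section Pair

variable (B)

/-- A pair of totally isotropic subspaces spanning the space, in perfect duality. -/
structure TIPair (U U' : Submodule F V) : Prop where
  tiU : ∀ u ∈ U, ∀ v ∈ U, B u v = 0
  tiU' : ∀ u ∈ U', ∀ v ∈ U', B u v = 0
  sup : U ⊔ U' = ⊤
  pairU : ∀ u ∈ U, (∀ y ∈ U', B y u = 0) → u = 0
  pairU' : ∀ u ∈ U', (∀ y ∈ U, B y u = 0) → u = 0

variable {B}

lemma TIPair.symm {U U' : Submodule F V} (P : TIPair B U U') : TIPair B U' U :=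
  ⟨P.tiU', P.tiU, by rw [sup_comm]; exact P.sup, P.pairU', P.pairU⟩

lemma TIPair.inf_eq_bot {U U' : Submodule F V} (P : TIPair B U U') : U ⊓ U' = ⊥ := by
  rw [eq_bot_iff]
  rintro x ⟨hx, hx'⟩
  exact P.pairU x hx (fun y hy => P.tiU' y hy x hx')

variable (B)

/-- The short root elements of the pair lie in `M`. -/
def EEin (M : Subgroup (V ≃ₗ[F] V)) (U U' : Submodule F V) : Prop :=
  ∀ a ∈ U, ∀ y ∈ U', B y a = 0 → eich B a y 0 ∈ M

variable {B}

lemma EEin.symm (hB : IsHerm B) {M : Subgroup (V ≃ₗ[F] V)} {U U' : Submodule F V}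
    (P : TIPair B U U') (h : EEin B M U U') : EEin B M U' U := by
  intro a ha y hy hya
  rw [eich_swap (P.tiU y hy y hy) (P.tiU' a ha a ha) hya (herm_eq_zero hB hya)]
  exact M.inv_mem (h y hy a ha (herm_eq_zero hB hya))

variable (B)

lemma exists_ne_zero_orth2 [FiniteDimensional F V] (W : Submodule F V) (h : 3 ≤ finrank F W)
    (p q : V) : ∃ w ∈ W, w ≠ 0 ∧ B w p = 0 ∧ B w q = 0 := by
  let f : W →ₗ[F] F × F := ((B.flip p).comp W.subtype).prod ((B.flip q).comp W.subtype)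
  have hlt : finrank F (F × F) < finrank F W := by
    rw [Module.finrank_prod, Module.finrank_self]
    omega
  have hker := LinearMap.ker_ne_bot_of_finrank_lt (f := f) hlt
  obtain ⟨w, hw, hw0⟩ := Submodule.exists_mem_ne_zero_of_ne_bot hker
  have hw' : f w = 0 := LinearMap.mem_ker.mp hw
  refine ⟨w, w.2, fun h => hw0 (Subtype.ext h), ?_, ?_⟩
  · have := congrArg Prod.fst hw'
    simpa [f] using this
  · have := congrArg Prod.snd hw'
    simpa [f] using this

lemma exists_both_ne_zero' (W : Submodule F V) {v v' : V}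
    (h1 : ∃ x ∈ W, B x v ≠ 0) (h2 : ∃ x ∈ W, B x v' ≠ 0) :
    ∃ z ∈ W, B z v ≠ 0 ∧ B z v' ≠ 0 := by
  obtain ⟨x, hxW, hx⟩ := h1
  obtain ⟨x', hxW', hx'⟩ := h2
  by_cases h3 : B x v' = 0
  · by_cases h4 : B x' v = 0
    · refine ⟨x + x', W.add_mem hxW hxW', ?_, ?_⟩
      · rw [map_add, LinearMap.add_apply, h4, add_zero]; exact hx
      · rw [map_add, LinearMap.add_apply, h3, zero_add]; exact hx'
    · exact ⟨x', hxW', h4, hx'⟩
  · exact ⟨x, hxW, hx, h3⟩

variable {B}

/-- First step: if `g ∈ M` sends a nonzero `a ∈ U` into `U`, it sends `U' ∩ a^⊥` into `U'`. -/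
lemma step1 (hσ : Invol σ) (hB : IsHerm B) {U U' : Submodule F V} (P : TIPair B U U')
    {M : Subgroup (V ≃ₗ[F] V)} (hMI : M ≤ uG B) (hE : EEin B M U U')
    (hTVU : ∀ a ∈ U, a ∈ UTV B M → a = 0)
    {g : V ≃ₗ[F] V} (hg : g ∈ M) {a : V} (ha : a ∈ U) (ha0 : a ≠ 0) (hga : g a ∈ U)
    {y : V} (hy : y ∈ U') (hya : B y a = 0) : g y ∈ U' := by
  have hgI := hMI hg
  have hga0 : g a ≠ 0 := fun h => ha0 (by
    have := g.injective (h.trans (map_zero g).symm)
    exact this)
  apply key_step hσ hB M U U' (U'.map (g : V →ₗ[F] V)) P.tiU P.tiU' P.sup P.pairU hga hga0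
    (fun y hy hy0 => hE _ hga y hy hy0) ?_ (fun h => hga0 (hTVU _ hga h)) (g y)
    ⟨y, hy, rfl⟩ (by rw [hgI]; exact hya)
  rintro _ ⟨y0, hy0, rfl⟩ h0
  have h0' : B y0 a = 0 := by
    have := hgI y0 a
    rw [← this]
    exact h0
  have := conj_eich hgI a y0 0
  change eich B (g a) (g y0) 0 ∈ M
  rw [← this]
  exact M.mul_mem (M.mul_mem hg (hE a ha y0 hy0 h0')) (M.inv_mem hg)

/-- If `g ∈ M` sends a nonzero vector of `U` into `U`, then `g` stabilises both `U` and `U'`
(assuming `M` contains no full transvection group with centre in `U ∪ U'`). -/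
lemma stab_of_fix [FiniteDimensional F V] (hσ : Invol σ) (hB : IsHerm B) {U U' : Submodule F V}
    (P : TIPair B U U')
    (hk : 3 ≤ finrank F U) (hk' : 3 ≤ finrank F U')
    {M : Subgroup (V ≃ₗ[F] V)} (hMI : M ≤ uG B) (hE : EEin B M U U')
    (hTVU : ∀ a ∈ U, a ∈ UTV B M → a = 0) (hTVU' : ∀ a ∈ U', a ∈ UTV B M → a = 0)
    {g : V ≃ₗ[F] V} (hg : g ∈ M) {a : V} (ha : a ∈ U) (ha0 : a ≠ 0) (hga : g a ∈ U) :
    (∀ u ∈ U, g u ∈ U) ∧ (∀ y ∈ U', g y ∈ U') := by
  have h1 : ∀ u ∈ U, g u ∈ U := by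
    intro u hu
    obtain ⟨b, hbU', hb0, hba, hbu⟩ := exists_ne_zero_orth2 B U' hk' a u
    have hgb : g b ∈ U' := step1 hσ hB P hMI hE hTVU hg ha ha0 hga hbU' hba
    exact step1 hσ hB P.symm hMI (hE.symm hB P) hTVU' hg hbU' hb0 hgb hu (herm_eq_zero hB hbu)
  refine ⟨h1, ?_⟩
  intro y hy
  obtain ⟨a1, ha1, ha10, ha1y, -⟩ := exists_ne_zero_orth2 B U hk y y
  exact step1 hσ hB P hMI hE hTVU hg ha1 ha10 (h1 a1 ha1) hy (herm_eq_zero hB ha1y)

end Pair


section General

open Cfsg.Agent.Lib.Helper94_Symp (apply_inv_apply' inv_apply_apply')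

lemma ti_orth_self [Finite F] [FiniteDimensional F V] (hB : IsHerm B) (hN : NondegOn B ⊤)
    (X : Submodule F V)
    (hX : ∀ u ∈ X, ∀ v ∈ X, B u v = 0) (hdim : 2 * finrank F X = finrank F V) {v : V}
    (hv : ∀ x ∈ X, B x v = 0) : v ∈ X := by
  have hle : X ≤ orthS B X := fun x hx n hn => hX n hn x hx
  have hfr := finrank_orthS hB hN X
  have heq : X = orthS B X := Submodule.eq_of_le_of_finrank_eq hle (by omega)
  rw [heq]
  exact hv

lemma general_position [Finite F] [FiniteDimensional F V] (hσ : Invol σ) (hB : IsHerm B)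
    (hN : NondegOn B ⊤)
    {U U' : Submodule F V} (P : TIPair B U U')
    (hk : 3 ≤ finrank F U) (hk' : 3 ≤ finrank F U') (hkk : finrank F U = finrank F U')
    {M : Subgroup (V ≃ₗ[F] V)} (hMI : M ≤ uG B) (hE : EEin B M U U')
    (hTVU : ∀ a ∈ U, a ∈ UTV B M → a = 0) (hTVU' : ∀ a ∈ U', a ∈ UTV B M → a = 0)
    {m : V ≃ₗ[F] V} (hm : m ∈ M) (h1 : ∀ a ∈ U, a ≠ 0 → m a ∉ U)
    (h1' : ∀ a ∈ U, a ≠ 0 → m a ∉ U') : False := by
  have hmI := hMI hm
  have hV : finrank F V = 2 * finrank F U := by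
    have := Submodule.finrank_sup_add_finrank_inf_eq U U'
    rw [P.sup, P.inf_eq_bot, finrank_bot, finrank_top] at this
    omega
  have hXti : ∀ u ∈ U.map (m : V →ₗ[F] V), ∀ v ∈ U.map (m : V →ₗ[F] V), B u v = 0 := by
    rintro _ ⟨u, hu, rfl⟩ _ ⟨v, hv, rfl⟩
    change B (m u) (m v) = 0
    rw [hmI]
    exact P.tiU u hu v hv
  have hXfr : finrank F (U.map (m : V →ₗ[F] V)) = finrank F U := LinearEquiv.finrank_map_eq m U
  have hdec : ∀ x : V, ∃ a ∈ U, ∃ a' ∈ U', a + a' = x := fun x =>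
    Submodule.mem_sup.mp (P.sup ▸ Submodule.mem_top)
  have hpol : ∃ u0 ∈ U, ∃ a ∈ U, ∃ a' ∈ U', m u0 = a + a' ∧ B a a' ≠ 0 := by
    by_contra hcon
    push Not at hcon
    obtain ⟨u1, hu1, hu10⟩ : ∃ u1 ∈ U, u1 ≠ 0 := by
      obtain ⟨w, hw, hw0, -, -⟩ := exists_ne_zero_orth2 B U hk 0 0
      exact ⟨w, hw, hw0⟩
    obtain ⟨a1, ha1, a1', ha1', h11⟩ := hdec (m u1)
    obtain ⟨θ, hθ⟩ := hσ.ne_id
    have ha1X : a1 ∈ U.map (m : V →ₗ[F] V) := by
      apply ti_orth_self hB hN _ hXti (by omega)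
      rintro _ ⟨u2, hu2, rfl⟩
      change B (m u2) a1 = 0
      obtain ⟨a2, ha2, a2', ha2', h22⟩ := hdec (m u2)
      have e1 := hcon u1 hu1 a1 ha1 a1' ha1' h11.symm
      have e2 := hcon u2 hu2 a2 ha2 a2' ha2' h22.symm
      have e3 : ∀ l : F, σ l * B a1 a2' + l * B a2 a1' = 0 := by
        intro l
        have := hcon (u1 + l • u2) (U.add_mem hu1 (U.smul_mem _ hu2)) (a1 + l • a2)
          (U.add_mem ha1 (U.smul_mem _ ha2)) (a1' + l • a2')
          (U'.add_mem ha1' (U'.smul_mem _ ha2'))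
          (by rw [map_add, map_smul, ← h11, ← h22, smul_add]; abel)
        simp only [map_add, map_smul, map_smulₛₗ, LinearMap.add_apply, LinearMap.smul_apply,
          smul_eq_mul] at this
        rw [e1, e2] at this
        linear_combination this
      have e4 := e3 1
      have e5 := e3 θ
      rw [map_one] at e4
      have e6 : B a1 a2' = 0 := by
        have : (σ θ - θ) * B a1 a2' = 0 := by linear_combination e5 - θ * e4
        rcases mul_eq_zero.mp this with h | h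
        · exact absurd (sub_eq_zero.mp h) hθ
        · exact h
      rw [← h22, map_add, LinearMap.add_apply, P.tiU a2 ha2 a1 ha1, zero_add]
      exact herm_eq_zero hB e6
    obtain ⟨w, hw, hwa⟩ := ha1X
    change m w = a1 at hwa
    have hw0 : w = 0 := by
      by_contra hne
      exact h1 w hw hne (hwa ▸ ha1)
    have ha10 : a1 = 0 := by rw [← hwa, hw0, map_zero]
    apply h1' u1 hu1 hu10
    rw [← h11, ha10, zero_add]
    exact ha1'
  obtain ⟨u0, hu0, a, ha, a', ha', hma, hne⟩ := hpol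
  have ha0 : a ≠ 0 := fun h => hne (by rw [h, map_zero, LinearMap.zero_apply])
  have haa : B a a = 0 := P.tiU a ha a ha
  obtain ⟨b, hb, hb0, hba, -⟩ := exists_ne_zero_orth2 B U' hk' a a
  have hab : B a b = 0 := herm_eq_zero hB hba
  have hh : eich B a b 0 ∈ M := hE a ha b hb hba
  obtain ⟨y0, hy0, hy00, hy0a, hy0b⟩ := exists_ne_zero_orth2 B U hk (m⁻¹ a) (m⁻¹ b)
  have hmy0a : B (m y0) a = 0 := by
    have := hmI y0 (m⁻¹ a)
    rw [apply_inv_apply'] at this
    rw [this]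
    exact hy0a
  have hmy0b : B (m y0) b = 0 := by
    have := hmI y0 (m⁻¹ b)
    rw [apply_inv_apply'] at this
    rw [this]
    exact hy0b
  have hfix : eich B a b 0 (m y0) = m y0 := by
    rw [eich_apply B haa hba hab, hmy0a, hmy0b]
    simp
  have hm'M : m⁻¹ * eich B a b 0 * m ∈ M := M.mul_mem (M.mul_mem (M.inv_mem hm) hh) hm
  have hm'y0 : (m⁻¹ * eich B a b 0 * m) y0 = y0 := by
    simp only [LinearEquiv.mul_apply]
    rw [hfix, inv_apply_apply']
  obtain ⟨hst, -⟩ := stab_of_fix hσ hB P hk hk' hMI hE hTVU hTVU' hm'M hy0 hy00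
    (by rw [hm'y0]; exact hy0)
  have hm'u0 := hst u0 hu0
  have hcomp : m ((m⁻¹ * eich B a b 0 * m) u0 - u0) = B a' a • b := by
    rw [map_sub]
    simp only [LinearEquiv.mul_apply]
    rw [apply_inv_apply', hma, eich_apply B haa hba hab]
    rw [map_add, LinearMap.add_apply, LinearMap.add_apply, hab, P.tiU' a' ha' b hb, haa]
    simp
  have hw : (m⁻¹ * eich B a b 0 * m) u0 - u0 ∈ U := U.sub_mem hm'u0 hu0
  have hw0 : (m⁻¹ * eich B a b 0 * m) u0 - u0 = 0 := by
    by_contra hne'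
    apply h1' _ hw hne'
    rw [hcomp]
    exact U'.smul_mem _ hb
  rw [hw0, map_zero] at hcomp
  rcases smul_eq_zero.mp hcomp.symm with h | h
  · exact hne (herm_eq_zero hB h)
  · exact hb0 h

lemma spread (hσ : Invol σ) (hB : IsHerm B) {U U' : Submodule F V} (P : TIPair B U U')
    {M : Subgroup (V ≃ₗ[F] V)}
    (hE : EEin B M U U') {a : V} (ha : a ∈ U) (ha0 : a ≠ 0) (haTV : a ∈ UTV B M) :
    ∀ a1 ∈ U, a1 ∈ UTV B M := by
  intro a1 ha1
  by_cases ha10 : a1 = 0
  · rw [ha10]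
    have := UTV_smul hσ (0 : F) haTV
    rwa [zero_smul] at this
  have hx : ∀ v ∈ U, v ≠ 0 → ∃ x ∈ U', B x v ≠ 0 := by
    intro v hv hv0
    by_contra hcon
    push Not at hcon
    exact hv0 (P.pairU v hv hcon)
  obtain ⟨b, hb, hba, hba1⟩ := exists_both_ne_zero' B U' (hx a ha ha0) (hx a1 ha1 ha10)
  have hab : B a b ≠ 0 := herm_ne_zero hσ hB hba
  have ha1b : B a1 b ≠ 0 := herm_ne_zero hσ hB hba1
  obtain ⟨μ, hμdef⟩ : ∃ μ : F, μ = B a b / B a1 b := ⟨_, rfl⟩
  have hμ : μ ≠ 0 := by rw [hμdef]; exact div_ne_zero hab ha1b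
  have hcb : B (μ • a1 - a) b = 0 := by
    simp only [map_sub, map_smul, LinearMap.sub_apply, LinearMap.smul_apply, smul_eq_mul]
    rw [hμdef]
    field_simp
    ring
  have hcU : μ • a1 - a ∈ U := U.sub_mem (U.smul_mem _ ha1) ha
  have hyc : B ((-(B b a)⁻¹) • b) (μ • a1 - a) = 0 := by
    rw [map_smul, LinearMap.smul_apply, herm_eq_zero hB hcb, smul_zero]
  have hcy : B (μ • a1 - a) ((-(B b a)⁻¹) • b) = 0 := herm_eq_zero hB hyc
  have hh := hE _ hcU _ (U'.smul_mem _ hb) hyc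
  have hhI : eich B (μ • a1 - a) ((-(B b a)⁻¹) • b) 0 ∈ uG B := by
    apply eich_mem_uG hB
    rw [map_zero, add_zero, P.tiU' _ (U'.smul_mem _ hb) _ (U'.smul_mem _ hb), neg_zero]
  have hmove : eich B (μ • a1 - a) ((-(B b a)⁻¹) • b) 0 a = μ • a1 := by
    rw [eich_apply B (P.tiU _ hcU _ hcU) hyc hcy]
    have e1 : B a ((-(B b a)⁻¹) • b) = -1 := by
      have hne : σ (B b a) ≠ 0 := by rw [← hB b a]; exact hab
      rw [map_smulₛₗ, smul_eq_mul, map_neg, map_inv₀, hB b a, neg_mul, inv_mul_cancel₀ hne]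
    have e2 : B a (μ • a1 - a) = 0 := P.tiU a ha _ hcU
    rw [e1, e2]
    simp
  have h3 := UTV_map hh hhI haTV
  rw [hmove] at h3
  have h4 := UTV_smul hσ μ⁻¹ h3
  rwa [smul_smul, inv_mul_cancel₀ hμ, one_smul] at h4

lemma all_UTV (hσ : Invol σ) (hB : IsHerm B) {U U' : Submodule F V} (P : TIPair B U U')
    {M : Subgroup (V ≃ₗ[F] V)}
    (hU : ∀ u ∈ U, u ∈ UTV B M) (hU' : ∀ u ∈ U', u ∈ UTV B M) :
    ∀ v, B v v = 0 → v ∈ UTV B M := by
  have key : ∀ u ∈ U, ∀ u' ∈ U', B u' u ≠ 0 → B (u + u') (u + u') = 0 → u + u' ∈ UTV B M := by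
    intro u hu u' hu' h hiso
    have huu : B u u = 0 := P.tiU u hu u hu
    have hsk : σ (B u' u) = -(B u' u) := by
      have e1 := self_add hB u u'
      rw [hiso, huu, P.tiU' u' hu' u' hu'] at e1
      have e2 : B u' u = σ (B u u') := hB u u'
      rw [e2, hσ.invol]
      linear_combination -e1
    have hc : σ (B u' u)⁻¹ = -(B u' u)⁻¹ := by rw [map_inv₀, hsk, inv_neg]
    have h3 := UTV_map (hU u hu _ hc) (utv_mem_uG hB u hc) (hU' u' hu')
    rw [utv_apply B huu, inv_mul_cancel₀ h, one_smul, add_comm] at h3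
    exact h3
  intro v hv
  obtain ⟨u, hu, u', hu', rfl⟩ := Submodule.mem_sup.mp (P.sup ▸ Submodule.mem_top : v ∈ U ⊔ U')
  by_cases h : B u' u = 0
  · by_cases hu0 : u = 0
    · rw [hu0, zero_add]
      exact hU' u' hu'
    · obtain ⟨x, hx, hne⟩ : ∃ x ∈ U', B x u ≠ 0 := by
        by_contra hcon
        push Not at hcon
        exact hu0 (P.pairU u hu hcon)
      obtain ⟨ζ, hζ0, hζ⟩ := exists_skew hσ
      have hu''U : (ζ / B x u) • x ∈ U' := U'.smul_mem _ hx
      have hu''u : B ((ζ / B x u) • x) u = ζ := by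
        rw [map_smul, LinearMap.smul_apply, smul_eq_mul, div_mul_cancel₀ _ hne]
      generalize (ζ / B x u) • x = u'' at hu''U hu''u
      have huu'' : B u u'' = -ζ := by rw [hB u'' u, hu''u, hζ]
      have hiso1 : B (u + u'') (u + u'') = 0 := by
        rw [self_add hB, P.tiU u hu u hu, P.tiU' u'' hu''U u'' hu''U, huu'', map_neg, hζ]
        ring
      have h1 := key u hu u'' hu''U (by rw [hu''u]; exact hζ0) hiso1
      have h2 := hU' (u' - u'') (U'.sub_mem hu' hu''U)
      have h3 : B (u' - u'') (u + u'') = -ζ := by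
        simp only [map_sub, map_add, LinearMap.sub_apply]
        rw [h, P.tiU' u' hu' u'' hu''U, P.tiU' u'' hu''U u'' hu''U, hu''u]
        ring
      have hc : σ (-ζ)⁻¹ = -(-ζ)⁻¹ := by rw [map_inv₀, map_neg, hζ, inv_neg]
      have h4 := UTV_map (h1 _ hc) (utv_mem_uG hB _ hc) h2
      rw [utv_apply B hiso1, h3, inv_mul_cancel₀ (neg_ne_zero.mpr hζ0), one_smul] at h4
      have e : (u' - u'') + (u + u'') = u + u' := by abel
      rwa [e] at h4
  · exact key u hu u' hu' h hv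

end General


section Swap

open Cfsg.Agent.Lib.Helper94_Symp (apply_inv_apply' inv_apply_apply')

lemma swap_base (G : Subgroup (V ≃ₗ[F] V)) {U U' : Submodule F V} (hU0 : U = ⊥)
    (hp' : ∀ u ∈ U', (∀ y ∈ U, B y u = 0) → u = 0) :
    ∃ g ∈ G, (∀ u ∈ U, g u ∈ U') ∧ (∀ u ∈ U', g u ∈ U) ∧
      ∀ x, (∀ y ∈ U, B y x = 0) → (∀ y ∈ U', B y x = 0) → g x = x := by
  have hU'0 : ∀ u ∈ U', u = 0 := fun u hu => hp' u hu (fun y hy => by
    rw [hU0, Submodule.mem_bot] at hy
    rw [hy, map_zero, LinearMap.zero_apply])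
  refine ⟨1, one_mem _, ?_, ?_, fun x _ _ => rfl⟩
  · intro u hu
    rw [hU0, Submodule.mem_bot] at hu
    rw [hu, map_zero]
    exact U'.zero_mem
  · intro u hu
    rw [hU'0 u hu, map_zero]
    exact U.zero_mem

theorem exists_swap_aux [FiniteDimensional F V] (hσ : Invol σ) (hB : IsHerm B)
    (G : Subgroup (V ≃ₗ[F] V))
    (hG : ∀ a c, B a a = 0 → σ c = -c → utv B a c ∈ G) :
    ∀ (n : ℕ) (U U' : Submodule F V),
    finrank F U ≤ n →
    (∀ u ∈ U, ∀ v ∈ U, B u v = 0) → (∀ u ∈ U', ∀ v ∈ U', B u v = 0) →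
    (∀ u ∈ U, (∀ y ∈ U', B y u = 0) → u = 0) → (∀ u ∈ U', (∀ y ∈ U, B y u = 0) → u = 0) →
    ∃ g ∈ G, (∀ u ∈ U, g u ∈ U') ∧ (∀ u ∈ U', g u ∈ U) ∧
      ∀ x, (∀ y ∈ U, B y x = 0) → (∀ y ∈ U', B y x = 0) → g x = x := by
  intro n
  induction n with
  | zero =>
    intro U U' hfr hU hU' hp hp'
    exact swap_base G (Submodule.finrank_eq_zero.mp (by omega)) hp'
  | succ n ih =>
    intro U U' hfr hU hU' hp hp'
    by_cases hU0 : U = ⊥
    · exact swap_base G hU0 hp'
    obtain ⟨e, heU, he0⟩ := Submodule.exists_mem_ne_zero_of_ne_bot hU0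
    obtain ⟨f, hfU', hfe⟩ : ∃ f ∈ U', B f e = 1 := by
      by_contra hcon
      push Not at hcon
      apply he0
      apply hp e heU
      intro y hy
      by_contra hne
      exact hcon ((B y e)⁻¹ • y) (U'.smul_mem _ hy)
        (by rw [map_smul, LinearMap.smul_apply, smul_eq_mul, inv_mul_cancel₀ hne])
    have hef : B e f = 1 := by rw [hB f e, hfe, map_one]
    have hee : B e e = 0 := hU e heU e heU
    have hff : B f f = 0 := hU' f hfU' f hfU'
    obtain ⟨ζ, hζ0, hζ⟩ := exists_skew hσ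
    have hζi : σ (-ζ⁻¹) = -(-ζ⁻¹) := by rw [map_neg, map_inv₀, hζ, inv_neg]
    have hU1lt : finrank F (U ⊓ orthV B f : Submodule F V) < finrank F U := by
      apply Submodule.finrank_lt_finrank_of_lt
      refine lt_of_le_of_ne inf_le_left ?_
      intro h
      have : e ∈ (U ⊓ orthV B f : Submodule F V) := by rw [h]; exact heU
      have h0 := mem_orthV.mp this.2
      rw [hef] at h0
      exact one_ne_zero h0
    obtain ⟨g1, hg1I, hg1U, hg1U', hg1fix⟩ := ih (U ⊓ orthV B f)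
      (U' ⊓ orthV B e) (by omega)
      (fun u hu v hv => hU u hu.1 v hv.1) (fun u hu v hv => hU' u hu.1 v hv.1)
      (by
        intro u hu hyp
        apply hp u hu.1
        intro y hy
        have hmem : y - B y e • f ∈ (U' ⊓ orthV B e : Submodule F V) := by
          refine ⟨U'.sub_mem hy (U'.smul_mem _ hfU'), mem_orthV.mpr ?_⟩
          rw [map_sub, LinearMap.sub_apply, map_smul, LinearMap.smul_apply, smul_eq_mul, hfe,
            mul_one, sub_self]
        have h0 := hyp _ hmem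
        have hfu : B f u = 0 := herm_eq_zero hB (mem_orthV.mp hu.2)
        rw [map_sub, LinearMap.sub_apply, map_smul, LinearMap.smul_apply, smul_eq_mul, hfu,
          mul_zero, sub_zero] at h0
        exact h0)
      (by
        intro u hu hyp
        apply hp' u hu.1
        intro y hy
        have hmem : y - B y f • e ∈ (U ⊓ orthV B f : Submodule F V) := by
          refine ⟨U.sub_mem hy (U.smul_mem _ heU), mem_orthV.mpr ?_⟩
          rw [map_sub, LinearMap.sub_apply, map_smul, LinearMap.smul_apply, smul_eq_mul, hef,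
            mul_one, sub_self]
        have h0 := hyp _ hmem
        have heu : B e u = 0 := herm_eq_zero hB (mem_orthV.mp hu.2)
        rw [map_sub, LinearMap.sub_apply, map_smul, LinearMap.smul_apply, smul_eq_mul, heu,
          mul_zero, sub_zero] at h0
        exact h0)
    have hg1e : g1 e = e := hg1fix e (fun y hy => hU y hy.1 e heU)
      (fun y hy => mem_orthV.mp hy.2)
    have hg1f : g1 f = f := hg1fix f (fun y hy => mem_orthV.mp hy.2)
      (fun y hy => hU' y hy.1 f hfU')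
    have hwI : utv B e (-ζ⁻¹) * utv B f ζ * utv B e (-ζ⁻¹) ∈ G :=
      G.mul_mem (G.mul_mem (hG _ _ hee hζi) (hG _ _ hff hζ)) (hG _ _ hee hζi)
    have hwe : (utv B e (-ζ⁻¹) * utv B f ζ * utv B e (-ζ⁻¹)) e = ζ • f := by
      have t1 : utv B e (-ζ⁻¹) e = e := utv_self B e _
      have t2 : utv B f ζ e = e + ζ • f := by rw [utv_apply B hff, hef, mul_one]
      have t3 : utv B e (-ζ⁻¹) (e + ζ • f) = ζ • f := by
        rw [utv_apply B hee, map_add, LinearMap.add_apply, hee, map_smul, LinearMap.smul_apply,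
          hfe, smul_eq_mul, mul_one, zero_add, neg_mul, inv_mul_cancel₀ hζ0, neg_one_smul]
        abel
      simp only [LinearEquiv.mul_apply]
      rw [t1, t2, t3]
    have hwf : (utv B e (-ζ⁻¹) * utv B f ζ * utv B e (-ζ⁻¹)) f = (-ζ⁻¹) • e := by
      have s1 : utv B e (-ζ⁻¹) f = f + (-ζ⁻¹) • e := by rw [utv_apply B hee, hfe, mul_one]
      have s2 : utv B f ζ (f + (-ζ⁻¹) • e) = (-ζ⁻¹) • e := by
        rw [utv_apply B hff, map_add, LinearMap.add_apply, hff, map_smul, LinearMap.smul_apply,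
          hef, smul_eq_mul, mul_one, zero_add, mul_neg, mul_inv_cancel₀ hζ0, neg_one_smul]
        abel
      have s3 : utv B e (-ζ⁻¹) ((-ζ⁻¹) • e) = (-ζ⁻¹) • e := by rw [map_smul, utv_self]
      simp only [LinearEquiv.mul_apply]
      rw [s1, s2, s3]
    have hwfix : ∀ x, B x e = 0 → B x f = 0 →
        (utv B e (-ζ⁻¹) * utv B f ζ * utv B e (-ζ⁻¹)) x = x := by
      intro x hxe hxf
      simp only [LinearEquiv.mul_apply]
      rw [utv_fix B e _ hxe, utv_fix B f _ hxf, utv_fix B e _ hxe]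
    refine ⟨g1 * (utv B e (-ζ⁻¹) * utv B f ζ * utv B e (-ζ⁻¹)), G.mul_mem hg1I hwI,
      ?_, ?_, ?_⟩
    · intro u hu
      have hu1 : u - B u f • e ∈ (U ⊓ orthV B f : Submodule F V) := by
        refine ⟨U.sub_mem hu (U.smul_mem _ heU), mem_orthV.mpr ?_⟩
        rw [map_sub, LinearMap.sub_apply, map_smul, LinearMap.smul_apply, smul_eq_mul, hef,
          mul_one, sub_self]
      have hw1 := hwfix (u - B u f • e) (hU _ hu1.1 e heU) (mem_orthV.mp hu1.2)
      have hdec : u = B u f • e + (u - B u f • e) := by abel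
      have : (g1 * (utv B e (-ζ⁻¹) * utv B f ζ * utv B e (-ζ⁻¹))) u =
          B u f • ζ • f + g1 (u - B u f • e) := by
        conv_lhs => rw [hdec]
        rw [LinearEquiv.mul_apply, map_add, map_smul, hwe, hw1, map_add, map_smul, map_smul, hg1f]
      rw [this]
      exact U'.add_mem (U'.smul_mem _ (U'.smul_mem _ hfU')) (hg1U _ hu1).1
    · intro u hu
      have hu1 : u - B u e • f ∈ (U' ⊓ orthV B e : Submodule F V) := by
        refine ⟨U'.sub_mem hu (U'.smul_mem _ hfU'), mem_orthV.mpr ?_⟩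
        rw [map_sub, LinearMap.sub_apply, map_smul, LinearMap.smul_apply, smul_eq_mul, hfe,
          mul_one, sub_self]
      have hw1 := hwfix (u - B u e • f) (mem_orthV.mp hu1.2) (hU' _ hu1.1 f hfU')
      have hdec : u = B u e • f + (u - B u e • f) := by abel
      have : (g1 * (utv B e (-ζ⁻¹) * utv B f ζ * utv B e (-ζ⁻¹))) u =
          B u e • (-ζ⁻¹) • e + g1 (u - B u e • f) := by
        conv_lhs => rw [hdec]
        rw [LinearEquiv.mul_apply, map_add, map_smul, hwf, hw1, map_add, map_smul, map_smul, hg1e]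
      rw [this]
      exact U.add_mem (U.smul_mem _ (U.smul_mem _ heU)) (hg1U' _ hu1).1
    · intro x hxU hxU'
      rw [LinearEquiv.mul_apply, hwfix x (herm_eq_zero hB (hxU e heU))
        (herm_eq_zero hB (hxU' f hfU'))]
      exact hg1fix x (fun y hy => hxU y hy.1) (fun y hy => hxU' y hy.1)

end Swap


section Final

open Cfsg.Agent.Lib.Helper94_Symp (apply_inv_apply' inv_apply_apply')

/-- The stabiliser of a pair of complementary totally isotropic subspaces of dimension at least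
three is a maximal subgroup of the special unitary group `uG B ⊓ K0` (where `K0` contains all
transvections and `uG B ⊓ K0` is generated by unitary transvections). -/
theorem maximal_utipair [Finite F] [FiniteDimensional F V] (hσ : Invol σ) (hB : IsHerm B)
    (hN : NondegOn B ⊤) (K0 : Subgroup (V ≃ₗ[F] V))
    (hK1 : ∀ (φ : Dual F V) (v : V) (h : φ v = 0), LinearEquiv.transvection h ∈ K0)
    (hgen : uG B ⊓ K0 ≤ tvGroup B ⊤)
    (k : ℕ) (hk : 3 ≤ k) (D : Fin 2 → Submodule F V) (hfr : ∀ i, finrank F (D i) = k)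
    (hsup : iSup D = ⊤) (hts : ∀ i, ∀ u ∈ D i, ∀ v ∈ D i, B u v = 0)
    (S : Subgroup (V ≃ₗ[F] V))
    (hS : ∀ g, g ∈ S ↔ ∃ π : Equiv.Perm (Fin 2), ∀ i, (D i).map (g : V →ₗ[F] V) = D (π i)) :
    (S ⊓ (uG B ⊓ K0) < uG B ⊓ K0) ∧
      ∀ M : Subgroup (V ≃ₗ[F] V), S ⊓ (uG B ⊓ K0) ≤ M → M ≤ uG B ⊓ K0 →
        M = S ⊓ (uG B ⊓ K0) ∨ M = uG B ⊓ K0 := by
  classical
  have hutvG : ∀ a c, B a a = 0 → σ c = -c → utv B a c ∈ uG B ⊓ K0 := by
    intro a c haa hc
    refine ⟨utv_mem_uG hB a hc, ?_⟩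
    rw [utv, dif_pos haa]
    exact hK1 _ _ _
  have heichG : ∀ w y, B y y = 0 → eich B w y 0 ∈ uG B ⊓ K0 := fun w y hy =>
    ⟨eich_mem_uG hB (by rw [map_zero, add_zero, hy, neg_zero]),
      eich_mem_of_transvections B K0 hK1⟩
  have hsup' : D 0 ⊔ D 1 = ⊤ := by
    rw [eq_top_iff, ← hsup]
    apply iSup_le
    intro i
    fin_cases i
    · exact le_sup_left
    · exact le_sup_right
  have hdec : ∀ x : V, ∃ a ∈ D 0, ∃ a' ∈ D 1, a + a' = x := fun x =>
    Submodule.mem_sup.mp (hsup' ▸ Submodule.mem_top)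
  have hsep : ∀ u : V, (∀ x, B x u = 0) → u = 0 := by
    intro u hu
    by_contra hne
    obtain ⟨y, -, hy⟩ := hN u Submodule.mem_top hne
    exact hy (herm_eq_zero hB (hu y))
  have P : TIPair B (D 0) (D 1) := by
    refine ⟨hts 0, hts 1, hsup', ?_, ?_⟩
    · intro u hu hyp
      apply hsep u
      intro x
      obtain ⟨a, ha, a', ha', rfl⟩ := hdec x
      rw [map_add, LinearMap.add_apply, hts 0 a ha u hu, hyp a' ha', add_zero]
    · intro u hu hyp
      apply hsep u
      intro x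
      obtain ⟨a, ha, a', ha', rfl⟩ := hdec x
      rw [map_add, LinearMap.add_apply, hts 1 a' ha' u hu, hyp a ha, add_zero]
  have hkU : 3 ≤ finrank F (D 0) := by rw [hfr]; exact hk
  have hkU' : 3 ≤ finrank F (D 1) := by rw [hfr]; exact hk
  have hmapeq : ∀ (g : V ≃ₗ[F] V) (W W' : Submodule F V), finrank F W = finrank F W' →
      (∀ v ∈ W, g v ∈ W') → W.map (g : V →ₗ[F] V) = W' := by
    intro g W W' hf h
    apply Submodule.eq_of_le_of_finrank_eq
    · rintro _ ⟨v, hv, rfl⟩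
      exact h v hv
    · rw [LinearEquiv.finrank_map_eq g W]
      exact hf
  have hS0 : ∀ g : V ≃ₗ[F] V, (∀ u ∈ D 0, g u ∈ D 0) → (∀ y ∈ D 1, g y ∈ D 1) → g ∈ S := by
    intro g h h'
    rw [hS]
    refine ⟨1, ?_⟩
    intro i
    fin_cases i
    · exact hmapeq g _ _ rfl h
    · exact hmapeq g _ _ rfl h'
  have hS1 : ∀ g : V ≃ₗ[F] V, (∀ u ∈ D 0, g u ∈ D 1) → (∀ y ∈ D 1, g y ∈ D 0) → g ∈ S := by
    intro g h h'
    rw [hS]
    refine ⟨Equiv.swap 0 1, ?_⟩
    intro i
    fin_cases i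
    · simp only [Fin.zero_eta, Equiv.swap_apply_left]
      exact hmapeq g _ _ (by rw [hfr, hfr]) h
    · simp only [Fin.mk_one, Equiv.swap_apply_right]
      exact hmapeq g _ _ (by rw [hfr, hfr]) h'
  obtain ⟨s, hsI, hsU, hsU', -⟩ := exists_swap_aux hσ hB (uG B ⊓ K0) hutvG (finrank F (D 0))
    (D 0) (D 1) le_rfl P.tiU P.tiU' P.pairU P.pairU'
  have hsS : s ∈ S := hS1 s hsU hsU'
  have hEE : ∀ M : Subgroup (V ≃ₗ[F] V), S ⊓ (uG B ⊓ K0) ≤ M → EEin B M (D 0) (D 1) := by
    intro M hM a ha y hy hya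
    have hay : B a y = 0 := herm_eq_zero hB hya
    have haa : B a a = 0 := P.tiU a ha a ha
    apply hM
    refine ⟨hS0 _ ?_ ?_, heichG a y (P.tiU' y hy y hy)⟩
    · intro u hu
      rw [eich_apply B haa hya hay, P.tiU u hu a ha]
      simp only [zero_smul, add_zero, mul_zero]
      exact (D 0).sub_mem hu ((D 0).smul_mem _ ha)
    · intro u hu
      rw [eich_apply B haa hya hay, P.tiU' u hu y hy]
      simp only [zero_smul, add_zero, sub_zero, zero_mul]
      exact (D 1).add_mem hu ((D 1).smul_mem _ hy)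
  constructor
  · refine lt_of_le_of_ne inf_le_right ?_
    intro heq
    obtain ⟨u', hu', hu'0, -, -⟩ := exists_ne_zero_orth2 B (D 1) hkU' 0 0
    obtain ⟨x, hx, hxu'⟩ : ∃ x ∈ D 0, B x u' ≠ 0 := by
      by_contra hcon
      push Not at hcon
      exact hu'0 (P.pairU' u' hu' hcon)
    obtain ⟨ζ, hζ0, hζ⟩ := exists_skew hσ
    have hu'u' : B u' u' = 0 := P.tiU' u' hu' u' hu'
    have hg : utv B u' ζ ∈ S := by
      have : utv B u' ζ ∈ S ⊓ (uG B ⊓ K0) := by
        rw [heq]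
        exact hutvG _ _ hu'u' hζ
      exact this.1
    rw [hS] at hg
    obtain ⟨π, hπ⟩ := hg
    have hmem : utv B u' ζ x ∈ D (π 0) := by
      rw [← hπ 0]
      exact ⟨x, hx, rfl⟩
    rw [utv_apply B hu'u'] at hmem
    have hc0 : ζ * B x u' ≠ 0 := mul_ne_zero hζ0 hxu'
    have h01 : ∀ j : Fin 2, j = 0 ∨ j = 1 := by decide
    have hbot := P.inf_eq_bot
    rcases h01 (π 0) with h | h
    · rw [h] at hmem
      have h1 : (ζ * B x u') • u' ∈ D 0 := by
        have := (D 0).sub_mem hmem hx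
        rwa [add_sub_cancel_left] at this
      have h3 : u' ∈ D 0 := by
        have := (D 0).smul_mem (ζ * B x u')⁻¹ h1
        rwa [smul_smul, inv_mul_cancel₀ hc0, one_smul] at this
      have : u' ∈ (D 0 ⊓ D 1 : Submodule F V) := ⟨h3, hu'⟩
      rw [hbot, Submodule.mem_bot] at this
      exact hu'0 this
    · rw [h] at hmem
      have h1 : x ∈ D 1 := by
        have := (D 1).sub_mem hmem ((D 1).smul_mem (ζ * B x u') hu')
        rwa [add_sub_cancel_right] at this
      have : x ∈ (D 0 ⊓ D 1 : Submodule F V) := ⟨hx, h1⟩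
      rw [hbot, Submodule.mem_bot] at this
      apply hxu'
      rw [this, map_zero, LinearMap.zero_apply]
  · intro M hSM hMG
    have hMI : M ≤ uG B := fun g hg => (hMG hg).1
    by_cases hMS : M ≤ S
    · left
      exact le_antisymm (le_inf hMS hMG) hSM
    · right
      obtain ⟨m, hmM, hmS⟩ := SetLike.not_le_iff_exists.mp hMS
      apply le_antisymm hMG
      have hE := hEE M hSM
      have hsM : s ∈ M := hSM ⟨hsS, hsI⟩
      have hex : ∃ a, (a ∈ D 0 ∨ a ∈ D 1) ∧ a ≠ 0 ∧ a ∈ UTV B M := by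
        by_contra hcon
        push Not at hcon
        have hTVU : ∀ a ∈ D 0, a ∈ UTV B M → a = 0 := fun a ha h => by
          by_contra h0
          exact hcon a (Or.inl ha) h0 h
        have hTVU' : ∀ a ∈ D 1, a ∈ UTV B M → a = 0 := fun a ha h => by
          by_contra h0
          exact hcon a (Or.inr ha) h0 h
        apply hmS
        by_cases c1 : ∃ a ∈ D 0, a ≠ 0 ∧ m a ∈ D 0
        · obtain ⟨a, ha, ha0, hma⟩ := c1
          obtain ⟨h1, h1'⟩ := stab_of_fix hσ hB P hkU hkU' hMI hE hTVU hTVU' hmM ha ha0 hma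
          exact hS0 m h1 h1'
        by_cases c3 : ∃ a ∈ D 0, a ≠ 0 ∧ m a ∈ D 1
        · obtain ⟨a, ha, ha0, hma⟩ := c3
          have hsm : s * m ∈ M := M.mul_mem hsM hmM
          obtain ⟨h1, h1'⟩ := stab_of_fix hσ hB P hkU hkU' hMI hE hTVU hTVU' hsm ha ha0
            (hsU' _ hma)
          have h3 := hS0 (s * m) h1 h1'
          have h4 : m = s⁻¹ * (s * m) := by group
          rw [h4]
          exact S.mul_mem (S.inv_mem hsS) h3
        · exfalso
          push Not at c1 c3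
          exact general_position hσ hB hN P hkU hkU' (by rw [hfr, hfr]) hMI hE hTVU hTVU' hmM
            (fun a ha ha0 => c1 a ha ha0) (fun a ha ha0 => c3 a ha ha0)
      obtain ⟨a, haU, ha0, haTV⟩ := hex
      have hall : (∀ u ∈ D 0, u ∈ UTV B M) ∧ (∀ u ∈ D 1, u ∈ UTV B M) := by
        rcases haU with ha | ha
        · have h1 := spread hσ hB P hE ha ha0 haTV
          refine ⟨h1, ?_⟩
          intro u hu
          have := UTV_map (M.inv_mem hsM) ((uG B).inv_mem hsI.1) (h1 _ (hsU' u hu))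
          rwa [inv_apply_apply'] at this
        · have h1 := spread hσ hB P.symm (hE.symm hB P) ha ha0 haTV
          refine ⟨?_, h1⟩
          intro u hu
          have := UTV_map (M.inv_mem hsM) ((uG B).inv_mem hsI.1) (h1 _ (hsU u hu))
          rwa [inv_apply_apply'] at this
      refine le_trans hgen ?_
      apply tvGroup_le
      intro v _ hvv c hc
      exact all_UTV hσ hB P hall.1 hall.2 v hvv c hc

end Final

end Cfsg.Agent.Lib.Helper94_HermTI
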