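import Mathlib
import Cfsg.Agent.Lib.Helper94_Herm
import Cfsg.Agent.Lib.Helper94_HermOrth
import Cfsg.Agent.Lib.Helper94_HermEich
import Cfsg.Agent.Lib.Helper94_HermPara
import Cfsg.Agent.Lib.Helper94_HermTI
import Cfsg.Agent.Lib.Helper13_SUGen
import Cfsg.Agent.Lib.Helper13_PSUSimple
import Cfsg.Agent.Lib.Helper46_U3TI
import Cfsg.Agent.Lib.Helper46_U3Center

/-!
# Eichler calculus relative to a hyperbolic pair

For a hermitian form `B` and a hyperbolic pair `e`, `f` with orthogonal complement `W`, the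
unipotent radical `unip B e` of the stabiliser of `e` consists of the Eichler elements
`eich B e w a` (`w ∈ W`, `a + σ a = -B w w`).  We record how they act, multiply, commute, and how
they are conjugated by isometries fixing the point `F e`.
-/

set_option autoImplicit false
set_option linter.unusedVariables false
set_option linter.unusedSectionVars false

namespace Cfsg.Agent.Lib.Helper14_PSULocal1

open Module Cfsg.Agent.Lib.Helper94_Symp Cfsg.Agent.Lib.Helper94_Herm
  Cfsg.Agent.Lib.Helper94_HermOrth Cfsg.Agent.Lib.Helper94_HermEich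
  Cfsg.Agent.Lib.Helper94_HermPara Cfsg.Agent.Lib.Helper13_SUGen
  Cfsg.Agent.Lib.Helper13_PSUSimple Cfsg.Agent.Lib.Helper46_U3TI
  Cfsg.Agent.Lib.Helper46_U3Center

variable {F V : Type*} [Field F] [AddCommGroup V] [Module F V]
variable {σ : F →+* F} {B : V →ₗ[F] V →ₛₗ[σ] F}

/-! ### Evaluation of Eichler elements -/

lemma eich_zero {e : V} (he : B e e = 0) (c : F) : eich B e 0 c = utv B e c := by
  ext x
  rw [eich_apply B he (by simp) (by simp), utv_apply B he]
  simp

lemma eich_e {e w : V} (he : B e e = 0) (hwe : B w e = 0) (hew : B e w = 0) (a : F) :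
    eich B e w a e = e := by
  rw [eich_apply B he hwe hew, he, hew]
  simp

lemma eich_f {e f w : V} (h : HypPair B e f) (hwe : B w e = 0) (hew : B e w = 0)
    (hfw : B f w = 0) (a : F) : eich B e w a f = f + w + a • e := by
  rw [eich_apply B h.ee hwe hew, h.fe, hfw]
  simp

lemma eich_perp {e w u : V} (he : B e e = 0) (hwe : B w e = 0) (hew : B e w = 0)
    (hue : B u e = 0) (a : F) : eich B e w a u = u - B u w • e := by
  rw [eich_apply B he hwe hew, hue]
  simp

lemma eich_inj {e f w w' : V} (h : HypPair B e f) (hwe : B w e = 0) (hwf : B w f = 0)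
    (hew : B e w = 0) (hfw : B f w = 0)
    (hwe' : B w' e = 0) (hwf' : B w' f = 0) (hew' : B e w' = 0) (hfw' : B f w' = 0) {a a' : F}
    (heq : eich B e w a = eich B e w' a') : w = w' ∧ a = a' := by
  have h1 := congrArg (fun g : V ≃ₗ[F] V => g f) heq
  simp only [eich_f h hwe hew hfw, eich_f h hwe' hew' hfw'] at h1
  have h2 := congrArg (fun x => B x f) h1
  simp only [map_add, map_smul, LinearMap.add_apply, LinearMap.smul_apply, h.ff, hwf, hwf', h.ef,
    smul_eq_mul, mul_one, zero_add] at h2
  refine ⟨?_, h2⟩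
  rw [h2] at h1
  have h3 : f + w = f + w' := add_right_cancel h1
  exact add_left_cancel h3

/-- Scaling the isotropic vector of an Eichler element. -/
lemma eich_smul_left' (hσ : Invol σ) {w y : V} (hw : B w w = 0) (hyw : B y w = 0)
    (hwy : B w y = 0) (l c : F) :
    eich B (l • w) y c = eich B w (σ l • y) (l * σ l * c) := by
  have h1 : B (l • w) (l • w) = 0 := by rw [self_smul, hw, mul_zero]
  have h2 : B y (l • w) = 0 := by rw [map_smulₛₗ, hyw, smul_zero]
  have h3 : B (l • w) y = 0 := by rw [map_smul, LinearMap.smul_apply, hwy, smul_zero]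
  have h4 : B (σ l • y) w = 0 := by rw [map_smul, LinearMap.smul_apply, hyw, smul_zero]
  have h5 : B w (σ l • y) = 0 := by rw [map_smulₛₗ, hwy, smul_zero]
  ext x
  rw [eich_apply B h1 h2 h3, eich_apply B hw h4 h5]
  simp only [map_smulₛₗ, hσ.invol, smul_eq_mul]
  module

/-- Conjugating an Eichler element by an isometry that scales `e`. -/
lemma conj_eich_levi (hσ : Invol σ) {e w : V} (he : B e e = 0) (hwe : B w e = 0)
    (hew : B e w = 0) {l : V ≃ₗ[F] V} (hl : l ∈ uG B) {lam : F} (hlam : lam ≠ 0)
    (hle : l e = lam • e) (a : F) :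
    l * eich B e w a * l⁻¹ = eich B e (σ lam • l w) (lam * σ lam * a) := by
  rw [conj_eich hl, hle]
  have hs : σ lam ≠ 0 := by
    intro h
    apply hlam
    have := congrArg σ h
    rwa [hσ.invol, map_zero] at this
  have h1 : B (l w) e = 0 := by
    have := hl w e
    rw [hle, map_smulₛₗ, hwe, smul_eq_mul] at this
    exact (mul_eq_zero.mp this).resolve_left hs
  have h2 : B e (l w) = 0 := by
    have := hl e w
    rw [hle, map_smul, LinearMap.smul_apply, hew, smul_eq_mul] at this
    exact (mul_eq_zero.mp this).resolve_left hlam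
  exact eich_smul_left' hσ he h1 h2 lam a

/-! ### The unipotent radical consists of Eichler elements -/

lemma mem_unip_iff (hB : IsHerm B) {e f : V} (h : HypPair B e f) (g : V ≃ₗ[F] V) :
    g ∈ unip B e ↔ ∃ (w : V) (a : F), B w e = 0 ∧ B w f = 0 ∧ a + σ a = -(B w w) ∧
      g = eich B e w a := by
  constructor
  · rintro ⟨hgU, hge, hgu⟩
    set w := perpPart B e f (g f) with hw
    set a := B (g f) f with ha
    have hwe : B w e = 0 := perpPart_e h _
    have hwf : B w f = 0 := perpPart_f h _
    have hew : B e w = 0 := herm_eq_zero hB hwe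
    have hfw : B f w = 0 := herm_eq_zero hB hwf
    have hgfe : B (g f) e = 1 := by
      have := hgU f e
      rw [hge, h.fe] at this
      exact this
    have hgf : g f = f + w + a • e := by
      have := eq_add_perpPart (B := B) e f (g f)
      rw [hgfe, one_smul] at this
      conv_lhs => rw [this]
      abel
    have htr : a + σ a = -(B w w) := by
      have h0 : B (g f) (g f) = 0 := by rw [hgU, h.ff]
      rw [hgf] at h0
      simp only [map_add, map_smul, map_smulₛₗ, LinearMap.add_apply, LinearMap.smul_apply,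
        smul_eq_mul, h.ee, h.ff, h.ef, h.fe, hwe, hwf, hew, hfw, mul_zero, mul_one, add_zero,
        zero_add] at h0
      linear_combination h0
    refine ⟨w, a, hwe, hwf, htr, ?_⟩
    apply ext_pair h
    · rw [hge, eich_e h.ee hwe hew]
    · rw [hgf, eich_f h hwe hew hfw]
    · intro m hme hmf
      have hem : B e m = 0 := herm_eq_zero hB hme
      obtain ⟨c, hc⟩ := hgu m hem
      have hgm : g m = m + c • e := by rw [← hc]; abel
      have h1 : B (g m) (g f) = 0 := by rw [hgU, hmf]
      rw [hgm, hgf] at h1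
      simp only [map_add, map_smul, map_smulₛₗ, LinearMap.add_apply, LinearMap.smul_apply,
        smul_eq_mul, h.ee, h.ef, hme, hmf, hew, mul_zero, mul_one, add_zero,
        zero_add] at h1
      have hc' : c = -(B m w) := by linear_combination h1
      rw [hgm, eich_perp h.ee hwe hew hme, hc']
      module
  · rintro ⟨w, a, hwe, hwf, htr, rfl⟩
    exact eich_mem_unip hB h.ee (herm_eq_zero hB hwe) htr

/-! ### Products, inverses and commutators -/

lemma eich_mul' (hB : IsHerm B) {e w w' : V} (he : B e e = 0) (hwe : B w e = 0)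
    (hwe' : B w' e = 0) (a a' : F) :
    eich B e w a * eich B e w' a' = eich B e (w + w') (a + a' - B w' w) :=
  eich_mul he hwe (herm_eq_zero hB hwe) hwe' (herm_eq_zero hB hwe') a a'

lemma eich_one {e : V} (he : B e e = 0) : eich B e 0 0 = 1 := by
  ext x
  rw [eich_apply B he (by simp) (by simp)]
  simp

lemma eich_inv (hB : IsHerm B) {e w : V} (he : B e e = 0) (hwe : B w e = 0) {a : F}
    (ha : a + σ a = -(B w w)) : (eich B e w a)⁻¹ = eich B e (-w) (σ a) := by
  have hwe' : B (-w) e = 0 := by rw [map_neg, LinearMap.neg_apply, hwe, neg_zero]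
  rw [inv_eq_iff_mul_eq_one, eich_mul' hB he hwe hwe']
  have h1 : a + σ a - B (-w) w = 0 := by
    rw [map_neg, LinearMap.neg_apply, ha]; ring
  rw [h1, add_neg_cancel]
  exact eich_one he

lemma eich_comm' (hB : IsHerm B) {e w w' : V} (he : B e e = 0) (hwe : B w e = 0)
    (hwe' : B w' e = 0) (a a' : F) :
    eich B e w a * eich B e w' a' =
      eich B e w' a' * eich B e w a * utv B e (B w w' - B w' w) := by
  rw [eich_mul' hB he hwe hwe', eich_mul' hB he hwe' hwe]
  have h1 : B (w' + w) e = 0 := by rw [map_add, LinearMap.add_apply, hwe, hwe', add_zero]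
  rw [eich_mul_utv he h1 (herm_eq_zero hB h1), add_comm w' w]
  congr 1
  ring

/-- Eichler elements have determinant one. -/
lemma det_eich (w y : V) (c : F) : LinearEquiv.det (eich B w y c) = 1 := by
  have := eich_mem_of_transvections B (w := w) (y := y) (c := c)
    (MonoidHom.ker (LinearEquiv.det (R := F) (M := V))) (by
      intro φ v hφ
      rw [MonoidHom.mem_ker]
      exact LinearEquiv.transvection.det_eq_one _)
  exact MonoidHom.mem_ker.mp this

lemma eich_mem_SUg (hB : IsHerm B) {e w : V} {a : F} (ha : a + σ a = -(B w w)) :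
    eich B e w a ∈ SUg B :=
  mem_SUg.mpr ⟨eich_mem_uG hB ha, det_eich _ _ _⟩

lemma utv_mem_SUg (hB : IsHerm B) (v : V) {c : F} (hc : σ c = -c) : utv B v c ∈ SUg B :=
  mem_SUg.mpr ⟨utv_mem_uG hB v hc, det_utv v c⟩

/-! ### The orthogonal complement of a hyperbolic pair -/

/-- The orthogonal complement of the pair `e`, `f`. -/
def Wp (B : V →ₗ[F] V →ₛₗ[σ] F) (e f : V) : Submodule F V := orthV B e ⊓ orthV B f

lemma mem_Wp {e f w : V} : w ∈ Wp B e f ↔ B w e = 0 ∧ B w f = 0 := by
  simp [Wp]

lemma perpPart_mem_Wp {e f : V} (h : HypPair B e f) (v : V) : perpPart B e f v ∈ Wp B e f :=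
  mem_Wp.mpr ⟨perpPart_e h v, perpPart_f h v⟩

lemma perpPart_of_mem {e f w : V} (hw : w ∈ Wp B e f) : perpPart B e f w = w := by
  obtain ⟨h1, h2⟩ := mem_Wp.mp hw
  simp [perpPart, h1, h2]

lemma nondegOn_Wp (hB : IsHerm B) (hN : NondegOn B ⊤) {e f : V} (h : HypPair B e f) :
    NondegOn B (Wp B e f) := by
  have := nondegOn_pair hB hN (U := ⊤) Submodule.mem_top Submodule.mem_top h.ee h.ff h.ef
  rwa [top_inf_eq] at this

/-! ### Diagonal maps relative to a hyperbolic pair -/

/-- The map `e ↦ a e`, `f ↦ b f`, `w ↦ c w` on the orthogonal complement of the pair. -/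
noncomputable def dg (B : V →ₗ[F] V →ₛₗ[σ] F) (e f : V) (a b c : F) : V →ₗ[F] V :=
  c • LinearMap.id + (a - c) • (B.flip f).smulRight e + (b - c) • (B.flip e).smulRight f

lemma dg_apply (e f : V) (a b c : F) (v : V) :
    dg B e f a b c v = c • v + ((a - c) * B v f) • e + ((b - c) * B v e) • f := by
  simp [dg, smul_smul]

lemma dg_e {e f : V} (h : HypPair B e f) (a b c : F) : dg B e f a b c e = a • e := by
  rw [dg_apply, h.ee, h.ef]; module

lemma dg_f {e f : V} (h : HypPair B e f) (a b c : F) : dg B e f a b c f = b • f := by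
  rw [dg_apply, h.ff, h.fe]; module

lemma dg_W {e f w : V} (hwe : B w e = 0) (hwf : B w f = 0) (a b c : F) :
    dg B e f a b c w = c • w := by
  rw [dg_apply, hwe, hwf]; simp

lemma dg_comp {e f : V} (h : HypPair B e f) (a b c a' b' c' : F) :
    dg B e f a b c ∘ₗ dg B e f a' b' c' = dg B e f (a * a') (b * b') (c * c') := by
  apply LinearMap.ext
  intro v
  rw [LinearMap.comp_apply, dg_apply, dg_apply, dg_apply]
  simp only [map_add, map_smul, LinearMap.add_apply, LinearMap.smul_apply, smul_eq_mul, h.ee,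
    h.ff, h.ef, h.fe, mul_zero, mul_one, add_zero, zero_add]
  module

lemma dg_one (e f : V) : dg B e f 1 1 1 = LinearMap.id := by
  apply LinearMap.ext
  intro v
  rw [dg_apply]; simp

/-- The diagonal map as a linear equivalence. -/
noncomputable def dgE {e f : V} (h : HypPair B e f) {a b c : F} (ha : a ≠ 0) (hb : b ≠ 0)
    (hc : c ≠ 0) : V ≃ₗ[F] V :=
  LinearEquiv.ofLinearMap (dg B e f a b c) (dg B e f a⁻¹ b⁻¹ c⁻¹)
    (by rw [dg_comp h, mul_inv_cancel₀ ha, mul_inv_cancel₀ hb, mul_inv_cancel₀ hc, dg_one])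
    (by rw [dg_comp h, inv_mul_cancel₀ ha, inv_mul_cancel₀ hb, inv_mul_cancel₀ hc, dg_one])

lemma dgE_apply {e f : V} (h : HypPair B e f) {a b c : F} (ha : a ≠ 0) (hb : b ≠ 0)
    (hc : c ≠ 0) (v : V) :
    dgE h ha hb hc v = c • v + ((a - c) * B v f) • e + ((b - c) * B v e) • f := by
  simp [dgE, dg_apply]

lemma dgE_mem_uG (hσ : Invol σ) (hB : IsHerm B) {e f : V} (h : HypPair B e f) {a b c : F}
    (ha : a ≠ 0) (hb : b ≠ 0) (hc : c ≠ 0) (hab : a * σ b = 1) (hcc : c * σ c = 1) :
    dgE h ha hb hc ∈ uG B := by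
  intro x y
  rw [dgE_apply, dgE_apply]
  have hab' : σ a * b = 1 := by
    have := congrArg σ hab
    rwa [map_mul, map_one, hσ.invol] at this
  simp only [map_add, map_smul, map_smulₛₗ, LinearMap.add_apply, LinearMap.smul_apply,
    smul_eq_mul, h.ee, h.ff, h.ef, h.fe, map_mul, map_sub, mul_zero, mul_one, add_zero]
  rw [hB y e, hB y f]
  linear_combination (B x y) * hcc + (B x f * σ (B y e)) * (hab - hcc) +
    (B x e * σ (B y f)) * (hab' - hcc)

lemma dgE_e {e f : V} (h : HypPair B e f) {a b c : F} (ha : a ≠ 0) (hb : b ≠ 0)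
    (hc : c ≠ 0) : dgE h ha hb hc e = a • e := dg_e h a b c

lemma dgE_f {e f : V} (h : HypPair B e f) {a b c : F} (ha : a ≠ 0) (hb : b ≠ 0)
    (hc : c ≠ 0) : dgE h ha hb hc f = b • f := dg_f h a b c

lemma dgE_W {e f : V} (h : HypPair B e f) {a b c : F} (ha : a ≠ 0) (hb : b ≠ 0)
    (hc : c ≠ 0) {w : V} (hwe : B w e = 0) (hwf : B w f = 0) : dgE h ha hb hc w = c • w :=
  dg_W hwe hwf a b c

/-- The determinant of a diagonal map with trivial action on the complement. -/
lemma det_dg_one [FiniteDimensional F V] {e f : V} (h : HypPair B e f) (a b : F) :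
    LinearMap.det (dg B e f a b 1) = a * b := by
  have := det_eq_of_span (hypPair_linearIndependent h) (dg B e f a b 1)
    (Matrix.diagonal ![a, b]) (by
      intro j
      fin_cases j
      · simp [dg_e h, Fin.sum_univ_two]
      · simp [dg_f h, Fin.sum_univ_two]) (by
      intro v
      rw [dg_apply, one_smul]
      have : v + ((a - 1) * B v f) • e + ((b - 1) * B v e) • f - v =
          ((a - 1) * B v f) • e + ((b - 1) * B v e) • f := by abel
      rw [this]
      exact mem_span_pair_range _ _)
  rw [this, Matrix.det_diagonal, Fin.prod_univ_two]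
  rfl

lemma dg_eq_smul {e f : V} (a b : F) {c : F} (hc : c ≠ 0) :
    dg B e f a b c = c • dg B e f (a / c) (b / c) 1 := by
  apply LinearMap.ext
  intro v
  rw [LinearMap.smul_apply, dg_apply, dg_apply, one_smul]
  have h1 : c * (a / c - 1) = a - c := by field_simp
  have h2 : c * (b / c - 1) = b - c := by field_simp
  rw [smul_add, smul_add, smul_smul, smul_smul, ← mul_assoc, ← mul_assoc, h1, h2]

lemma det_dgE [FiniteDimensional F V] {e f : V} (h : HypPair B e f) {a b c : F} (ha : a ≠ 0)
    (hb : b ≠ 0) (hc : c ≠ 0) :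
    ((LinearEquiv.det (dgE h ha hb hc) : Fˣ) : F) = c ^ (finrank F V) * (a / c * (b / c)) := by
  rw [LinearEquiv.coe_det]
  have : ((dgE h ha hb hc : V ≃ₗ[F] V) : V →ₗ[F] V) = dg B e f a b c := rfl
  rw [this, dg_eq_smul a b hc, LinearMap.det_smul, det_dg_one h]

end Cfsg.Agent.Lib.Helper14_PSULocal1
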