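import Mathlib
import Cfsg.Agent.Lib.Helper94_Herm
import Cfsg.Agent.Lib.Helper94_HermEich
import Cfsg.Agent.Lib.Helper94_HermPara
import Cfsg.Agent.Lib.Helper13_SUGen
import Cfsg.Agent.Lib.Helper13_PSUSimple
import Cfsg.Agent.Lib.Helper14_PSULocal1

set_option autoImplicit false

/-!
# Unitary `Q_v` foundation layer (owner helper27; for S2152 helper94 / S2153 helper33): DEFINITIONS

Hermitian mirror of `Cfsg/Agent/Lib/Helper66_MI_SpDefs.lean`, in the setting of `Helper94_Herm`: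
`B : V →ₗ[F] V →ₛₗ[σ] F` (linear in the first slot, `σ`-semilinear in the second).

* `SUg B` is `Cfsg.Agent.Lib.Helper13_PSUSimple.SUg B` (`mem_SUg : g ∈ SUg B ↔ g ∈ uG B ∧ det g = 1`), NOT redefined.
* `gv B v w c := eich B v w c : x ↦ x + B x v • w - B x w • v + (c * B x v) • v`
  (`v` isotropic, `w ⟂ v`, `c + σ c = -(B w w)`); the root element is `utv B v c` (`σ c = -c`).
* `Wsub B v v'`, `Pv B v`, `Qv B v`, `Xv B v`, `Lv B v v'`, `Kv B v v'`, `Tv B v v'`;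
* local data of a subgroup `H` at `(v, v')`: `Yv B H v : AddSubgroup F`, `Iv B H v v' : AddSubgroup V`,
  `Dbar B H v v'`, `KH B H v v'`, `T1 B H v v'`, `NoRoot B H`, `conjSub`.

Bridges to the existing library: `Qv_eq_unip : Qv B v = Helper46_U3TI.unip B v`,
`Wsub_eq_Wp : Wsub B v v' = Helper14_PSULocal1.Wp B v v'`.
-/

namespace Cfsg.Agent.Lib.Helper27_UQDefs

open Module Cfsg.Agent.Lib.Helper94_Symp Cfsg.Agent.Lib.Helper94_Herm
  Cfsg.Agent.Lib.Helper94_HermEich Cfsg.Agent.Lib.Helper94_HermPara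
  Cfsg.Agent.Lib.Helper13_SUGen Cfsg.Agent.Lib.Helper13_PSUSimple
  Cfsg.Agent.Lib.Helper46_U3TI Cfsg.Agent.Lib.Helper14_PSULocal1

variable {F V : Type*} [Field F] [AddCommGroup V] [Module F V] {σ : F →+* F}
variable (B : V →ₗ[F] V →ₛₗ[σ] F)

/-! ### transvections with a fixed centre (no isotropy hypothesis) -/

theorem utv_of_not_iso {v : V} (hv : ¬ B v v = 0) (c : F) : utv B v c = 1 := by
  unfold utv
  rw [dif_neg hv]

theorem utv_add (v : V) (c d : F) : utv B v c * utv B v d = utv B v (c + d) := by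
  by_cases hv : B v v = 0
  · ext x
    rw [LinearEquiv.mul_apply, utv_apply B hv, utv_apply B hv, utv_apply B hv]
    simp only [map_add, map_smul, LinearMap.add_apply, LinearMap.smul_apply, smul_eq_mul, hv,
      mul_zero, add_zero]
    module
  · rw [utv_of_not_iso B hv, utv_of_not_iso B hv, utv_of_not_iso B hv, mul_one]

theorem utv_zero_right (v : V) : utv B v 0 = 1 := by
  by_cases hv : B v v = 0
  · ext x
    rw [utv_apply B hv]
    simp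
  · exact utv_of_not_iso B hv 0

theorem utv_neg (v : V) (c : F) : (utv B v c)⁻¹ = utv B v (-c) := by
  symm
  apply eq_inv_of_mul_eq_one_left
  rw [utv_add, neg_add_cancel, utv_zero_right]

/-! ### `W = ⟨v, v'⟩^⊥` -/

/-- `W = ⟨v, v'⟩^⊥ = {x | B x v = 0 ∧ B x v' = 0}` -/
def Wsub (v v' : V) : Submodule F V where
  carrier := {x | B x v = 0 ∧ B x v' = 0}
  add_mem' := by
    intro a b ha hb
    refine ⟨?_, ?_⟩
    · show B (a + b) v = 0
      rw [map_add, LinearMap.add_apply, ha.1, hb.1, add_zero]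
    · show B (a + b) v' = 0
      rw [map_add, LinearMap.add_apply, ha.2, hb.2, add_zero]
  zero_mem' := by
    refine ⟨?_, ?_⟩
    · show B 0 v = 0
      simp
    · show B 0 v' = 0
      simp
  smul_mem' := by
    intro c x hx
    refine ⟨?_, ?_⟩
    · show B (c • x) v = 0
      rw [map_smul, LinearMap.smul_apply, hx.1, smul_zero]
    · show B (c • x) v' = 0
      rw [map_smul, LinearMap.smul_apply, hx.2, smul_zero]

theorem mem_Wsub {v v' x : V} : x ∈ Wsub B v v' ↔ B x v = 0 ∧ B x v' = 0 := Iff.rfl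

theorem Wsub_eq_Wp (v v' : V) : Wsub B v v' = Wp B v v' := by
  ext x
  rw [mem_Wsub, mem_Wp]

/-! ### the point stabiliser and its unipotent radical -/

/-- the stabiliser of the point `⟨v⟩` in `SUg B` -/
def Pv (v : V) : Subgroup (V ≃ₗ[F] V) where
  carrier := {g | g ∈ SUg B ∧ ∃ c : F, c ≠ 0 ∧ g v = c • v}
  mul_mem' := by
    rintro a b ⟨ha, c, hc, hav⟩ ⟨hb, d, hd, hbv⟩
    refine ⟨(SUg B).mul_mem ha hb, d * c, mul_ne_zero hd hc, ?_⟩
    rw [LinearEquiv.mul_apply, hbv, map_smul, hav, smul_smul]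
  one_mem' := ⟨(SUg B).one_mem, 1, one_ne_zero, by simp⟩
  inv_mem' := by
    rintro a ⟨ha, c, hc, hav⟩
    refine ⟨(SUg B).inv_mem ha, c⁻¹, inv_ne_zero hc, ?_⟩
    have h1 : a⁻¹ (a v) = v := inv_apply_apply' a v
    rw [hav, map_smul] at h1
    calc a⁻¹ v = c⁻¹ • (c • a⁻¹ v) := by rw [smul_smul, inv_mul_cancel₀ hc, one_smul]
      _ = c⁻¹ • v := by rw [h1]

theorem mem_Pv {v : V} {g : V ≃ₗ[F] V} :
    g ∈ Pv B v ↔ g ∈ SUg B ∧ ∃ c : F, c ≠ 0 ∧ g v = c • v := Iff.rfl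

theorem Pv_le (v : V) : Pv B v ≤ SUg B := fun _ hg => hg.1

theorem Pv_le_uG (v : V) : Pv B v ≤ uG B := fun _ hg => (mem_SUg.mp hg.1).1

/-- the unipotent radical of `Pv`: isometries fixing `v` and acting trivially on `v^⊥ / ⟨v⟩` -/
def Qv (v : V) : Subgroup (V ≃ₗ[F] V) where
  carrier := {g | g ∈ uG B ∧ g v = v ∧ ∀ x, B x v = 0 → ∃ c : F, g x = x + c • v}
  mul_mem' := by
    rintro a b ⟨ha, hav, ha2⟩ ⟨hb, hbv, hb2⟩
    refine ⟨(uG B).mul_mem ha hb, ?_, ?_⟩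
    · rw [LinearEquiv.mul_apply, hbv, hav]
    · intro x hx
      obtain ⟨d, hd⟩ := hb2 x hx
      obtain ⟨c, hc⟩ := ha2 x hx
      refine ⟨c + d, ?_⟩
      rw [LinearEquiv.mul_apply, hd, map_add, map_smul, hav, hc, add_smul, add_assoc]
  one_mem' := ⟨(uG B).one_mem, rfl, fun x _ => ⟨0, by simp⟩⟩
  inv_mem' := by
    rintro a ⟨ha, hav, ha2⟩
    have hv : a⁻¹ v = v := by
      calc a⁻¹ v = a⁻¹ (a v) := by rw [hav]
        _ = v := inv_apply_apply' a v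
    refine ⟨(uG B).inv_mem ha, hv, ?_⟩
    intro x hx
    obtain ⟨c, hc⟩ := ha2 x hx
    refine ⟨-c, ?_⟩
    have h1 : a⁻¹ (a x) = x := inv_apply_apply' a x
    rw [hc, map_add, map_smul, hv] at h1
    rw [neg_smul, ← sub_eq_add_neg, eq_sub_iff_add_eq, h1]

theorem mem_Qv {v : V} {g : V ≃ₗ[F] V} :
    g ∈ Qv B v ↔ g ∈ uG B ∧ g v = v ∧ ∀ x, B x v = 0 → ∃ c : F, g x = x + c • v := Iff.rfl

theorem Qv_le_uG (v : V) : Qv B v ≤ uG B := fun _ hg => hg.1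

variable {B} in
/-- bridge to the existing library: `Qv B v` is `Helper46_U3TI.unip B v` -/
theorem Qv_eq_unip (hB : IsHerm B) (v : V) : Qv B v = unip B v := by
  ext g
  constructor
  · rintro ⟨h1, h2, h3⟩
    refine ⟨h1, h2, fun u hu => ?_⟩
    obtain ⟨c, hc⟩ := h3 u (herm_eq_zero hB hu)
    exact ⟨c, by rw [hc]; abel⟩
  · rintro ⟨h1, h2, h3⟩
    refine ⟨h1, h2, fun x hx => ?_⟩
    obtain ⟨c, hc⟩ := h3 x (herm_eq_zero hB hx)
    exact ⟨c, by rw [← hc]; abel⟩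

variable {B} in
/-- Eichler elements lie in `Qv` -/
theorem eich_mem_Qv (hB : IsHerm B) {v w : V} {c : F} (hv : B v v = 0) (hwv : B w v = 0)
    (hc : c + σ c = -(B w w)) : eich B v w c ∈ Qv B v := by
  have hvw : B v w = 0 := herm_eq_zero hB hwv
  refine ⟨eich_mem_uG hB hc, eich_e hv hwv hvw c, fun x hx => ⟨-(B x w), ?_⟩⟩
  rw [eich_perp hv hwv hvw hx, neg_smul, sub_eq_add_neg]

variable {B} in
/-- given a hyperbolic partner, every element of `Qv` is an Eichler element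
(`Helper14_PSULocal1.mem_unip_iff`) -/
theorem mem_Qv_iff_eich (hB : IsHerm B) {v v' : V} (h : HypPair B v v') (g : V ≃ₗ[F] V) :
    g ∈ Qv B v ↔ ∃ (w : V) (c : F), w ∈ Wsub B v v' ∧ c + σ c = -(B w w) ∧ g = eich B v w c := by
  rw [Qv_eq_unip hB, mem_unip_iff hB h]
  constructor
  · rintro ⟨w, a, h1, h2, h3, h4⟩
    exact ⟨w, a, ⟨h1, h2⟩, h3, h4⟩
  · rintro ⟨w, a, ⟨h1, h2⟩, h3, h4⟩
    exact ⟨w, a, h1, h2, h3, h4⟩

variable {B} in
theorem Qv_le_SUg (hB : IsHerm B) {v v' : V} (h : HypPair B v v') : Qv B v ≤ SUg B := by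
  intro g hg
  obtain ⟨w, c, -, hc, rfl⟩ := (mem_Qv_iff_eich hB h g).mp hg
  exact eich_mem_SUg hB hc

variable {B} in
theorem Qv_le_Pv (hB : IsHerm B) {v v' : V} (h : HypPair B v v') : Qv B v ≤ Pv B v :=
  fun g hg => ⟨Qv_le_SUg hB h hg, 1, one_ne_zero, by rw [hg.2.1, one_smul]⟩

/-- any isometry scaling `v` normalises `Qv v` (in particular `Pv v` does) -/
theorem conj_mem_Qv' {v : V} {l g : V ≃ₗ[F] V} (hl1 : l ∈ uG B) {c : F} (hc : c ≠ 0)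
    (hlv : l v = c • v) (hg : g ∈ Qv B v) : l * g * l⁻¹ ∈ Qv B v := by
  obtain ⟨hg1, hgv, hg2⟩ := hg
  have hlinv : l⁻¹ v = c⁻¹ • v := by
    have h1 : l⁻¹ (l v) = v := inv_apply_apply' l v
    rw [hlv, map_smul] at h1
    calc l⁻¹ v = c⁻¹ • (c • l⁻¹ v) := by rw [smul_smul, inv_mul_cancel₀ hc, one_smul]
      _ = c⁻¹ • v := by rw [h1]
  refine ⟨(uG B).mul_mem ((uG B).mul_mem hl1 hg1) ((uG B).inv_mem hl1), ?_, ?_⟩
  · rw [LinearEquiv.mul_apply, LinearEquiv.mul_apply, hlinv, map_smul, hgv, map_smul, hlv,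
      smul_smul, inv_mul_cancel₀ hc, one_smul]
  · intro x hx
    have hx' : B (l⁻¹ x) v = 0 := by
      rw [uG_inv_apply B hl1, hlv, map_smulₛₗ, hx, smul_zero]
    obtain ⟨d, hd⟩ := hg2 (l⁻¹ x) hx'
    refine ⟨d * c, ?_⟩
    rw [LinearEquiv.mul_apply, LinearEquiv.mul_apply, hd, map_add, map_smul, hlv,
      apply_inv_apply', smul_smul]

/-- `Pv v` normalises `Qv v` -/
theorem conj_mem_Qv {v : V} {l g : V ≃ₗ[F] V} (hl : l ∈ Pv B v) (hg : g ∈ Qv B v) :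
    l * g * l⁻¹ ∈ Qv B v := by
  obtain ⟨hl1, c, hc, hlv⟩ := hl
  exact conj_mem_Qv' B (mem_SUg.mp hl1).1 hc hlv hg

/-! ### the root group -/

/-- the root group `X_v = {utv B v c | σ c = -c}` -/
def Xv (v : V) : Subgroup (V ≃ₗ[F] V) where
  carrier := {g | ∃ c : F, σ c = -c ∧ g = utv B v c}
  mul_mem' := by
    rintro a b ⟨s, hs, rfl⟩ ⟨t, ht, rfl⟩
    exact ⟨s + t, by rw [map_add, hs, ht]; ring, utv_add B v s t⟩
  one_mem' := ⟨0, by simp, (utv_zero_right B v).symm⟩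
  inv_mem' := by
    rintro a ⟨s, hs, rfl⟩
    exact ⟨-s, by rw [map_neg, hs], utv_neg B v s⟩

theorem mem_Xv {v : V} {g : V ≃ₗ[F] V} : g ∈ Xv B v ↔ ∃ c : F, σ c = -c ∧ g = utv B v c := Iff.rfl

theorem utv_mem_Xv (v : V) {c : F} (hc : σ c = -c) : utv B v c ∈ Xv B v := ⟨c, hc, rfl⟩

variable {B} in
theorem Xv_le_SUg (hB : IsHerm B) (v : V) : Xv B v ≤ SUg B := by
  rintro _ ⟨c, hc, rfl⟩
  exact utv_mem_SUg hB v hc

variable {B} in
theorem Xv_le_Qv (hB : IsHerm B) (v : V) : Xv B v ≤ Qv B v := by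
  rintro _ ⟨c, hc, rfl⟩
  exact ⟨utv_mem_uG hB v hc, utv_self B v c, fun x hx => ⟨0, by rw [utv_fix B v c hx]; simp⟩⟩

/-! ### Levi complement, `K`, torus -/

/-- the Levi complement `L = Stab ⟨v⟩ ∩ Stab ⟨v'⟩` -/
def Lv (v v' : V) : Subgroup (V ≃ₗ[F] V) := Pv B v ⊓ Pv B v'

theorem mem_Lv {v v' : V} {g : V ≃ₗ[F] V} :
    g ∈ Lv B v v' ↔ g ∈ SUg B ∧ (∃ c : F, c ≠ 0 ∧ g v = c • v) ∧
      ∃ c : F, c ≠ 0 ∧ g v' = c • v' := by
  constructor
  · rintro ⟨⟨h1, h2⟩, -, h3⟩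
    exact ⟨h1, h2, h3⟩
  · rintro ⟨h1, h2, h3⟩
    exact ⟨⟨h1, h2⟩, h1, h3⟩

theorem Lv_le_Pv (v v' : V) : Lv B v v' ≤ Pv B v := inf_le_left

theorem Lv_le (v v' : V) : Lv B v v' ≤ SUg B := fun _ hg => hg.1.1

/-- `K = {g ∈ SU : g v = v, g v' = v'} ≅ SU(W)` -/
def Kv (v v' : V) : Subgroup (V ≃ₗ[F] V) where
  carrier := {g | g ∈ SUg B ∧ g v = v ∧ g v' = v'}
  mul_mem' := by
    rintro a b ⟨ha, ha1, ha2⟩ ⟨hb, hb1, hb2⟩
    refine ⟨(SUg B).mul_mem ha hb, ?_, ?_⟩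
    · rw [LinearEquiv.mul_apply, hb1, ha1]
    · rw [LinearEquiv.mul_apply, hb2, ha2]
  one_mem' := ⟨(SUg B).one_mem, rfl, rfl⟩
  inv_mem' := by
    rintro a ⟨ha, ha1, ha2⟩
    refine ⟨(SUg B).inv_mem ha, ?_, ?_⟩
    · calc a⁻¹ v = a⁻¹ (a v) := by rw [ha1]
        _ = v := inv_apply_apply' a v
    · calc a⁻¹ v' = a⁻¹ (a v') := by rw [ha2]
        _ = v' := inv_apply_apply' a v'

theorem mem_Kv {v v' : V} {g : V ≃ₗ[F] V} :
    g ∈ Kv B v v' ↔ g ∈ SUg B ∧ g v = v ∧ g v' = v' := Iff.rfl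

theorem Kv_le_Lv (v v' : V) : Kv B v v' ≤ Lv B v v' := by
  rintro g ⟨h1, h2, h3⟩
  exact (mem_Lv B).2 ⟨h1, ⟨1, one_ne_zero, by rw [h2, one_smul]⟩,
    ⟨1, one_ne_zero, by rw [h3, one_smul]⟩⟩

theorem Kv_le (v v' : V) : Kv B v v' ≤ SUg B := fun _ hg => hg.1

/-- the torus `T = {g ∈ L : g = id on W}` -/
def Tv (v v' : V) : Subgroup (V ≃ₗ[F] V) where
  carrier := {g | g ∈ Lv B v v' ∧ ∀ w ∈ Wsub B v v', g w = w}
  mul_mem' := by
    rintro a b ⟨ha, ha2⟩ ⟨hb, hb2⟩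
    refine ⟨(Lv B v v').mul_mem ha hb, ?_⟩
    intro w hw
    rw [LinearEquiv.mul_apply, hb2 w hw, ha2 w hw]
  one_mem' := ⟨(Lv B v v').one_mem, fun _ _ => rfl⟩
  inv_mem' := by
    rintro a ⟨ha, ha2⟩
    refine ⟨(Lv B v v').inv_mem ha, ?_⟩
    intro w hw
    calc a⁻¹ w = a⁻¹ (a w) := by rw [ha2 w hw]
      _ = w := inv_apply_apply' a w

theorem mem_Tv {v v' : V} {g : V ≃ₗ[F] V} :
    g ∈ Tv B v v' ↔ g ∈ Lv B v v' ∧ ∀ w ∈ Wsub B v v', g w = w := Iff.rfl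

theorem Tv_le_Lv (v v' : V) : Tv B v v' ≤ Lv B v v' := fun _ hg => hg.1

/-! ### `gv = eich` -/

/-- `gv B v w c = g_v(w,c) : x ↦ x + B x v • w - B x w • v + (c * B x v) • v`
(for `B v v = 0`, `B w v = 0 = B v w`); this is `Helper94_HermEich.eich B v w c`. -/
noncomputable def gv (v w : V) (c : F) : V ≃ₗ[F] V := eich B v w c

theorem gv_def (v w : V) (c : F) : gv B v w c = eich B v w c := rfl

theorem gv_apply {v w : V} (hv : B v v = 0) (hwv : B w v = 0) (hvw : B v w = 0) (c : F) (x : V) :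
    gv B v w c x = x + B x v • w - B x w • v + (c * B x v) • v := eich_apply B hv hwv hvw c x

/-! ### local data of a subgroup `H` at `(v, v')` -/

/-- `Y = {c : σ c = -c ∧ utv B v c ∈ H}`, an additive subgroup of `F` (the root part `H ∩ X_v`) -/
def Yv (H : Subgroup (V ≃ₗ[F] V)) (v : V) : AddSubgroup F where
  carrier := {c | σ c = -c ∧ utv B v c ∈ H}
  add_mem' := by
    rintro a b ⟨ha, ha'⟩ ⟨hb, hb'⟩
    refine ⟨by rw [map_add, ha, hb]; ring, ?_⟩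
    rw [← utv_add]
    exact H.mul_mem ha' hb'
  zero_mem' := ⟨by simp, by rw [utv_zero_right]; exact H.one_mem⟩
  neg_mem' := by
    rintro a ⟨ha, ha'⟩
    refine ⟨by rw [map_neg, ha], ?_⟩
    rw [← utv_neg]
    exact H.inv_mem ha'

theorem mem_Yv {H : Subgroup (V ≃ₗ[F] V)} {v : V} {c : F} :
    c ∈ Yv B H v ↔ σ c = -c ∧ utv B v c ∈ H := Iff.rfl

variable {B} in
/-- `I = {w ∈ W : g_v(w,c) ∈ H for some admissible c}`, the image of `H ∩ Q_v` in `Q_v / X_v ≅ W`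
(an additive subgroup of `V` contained in `W`); needs `v` isotropic for the group structure -/
def Iv (hB : IsHerm B) (H : Subgroup (V ≃ₗ[F] V)) {v : V} (hv : B v v = 0) (v' : V) :
    AddSubgroup V where
  carrier := {w | w ∈ Wsub B v v' ∧ ∃ c : F, c + σ c = -(B w w) ∧ eich B v w c ∈ H}
  add_mem' := by
    rintro a b ⟨ha, s, hs, hsH⟩ ⟨hb, t, ht, htH⟩
    refine ⟨(Wsub B v v').add_mem ha hb, s + t - B b a, ?_, ?_⟩
    · have e1 : σ (B b a) = B a b := (hB b a).symm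
      have e2 : σ (B a b) = B b a := (hB a b).symm
      rw [self_add hB a b, map_sub, map_add, e1, e2]
      linear_combination hs + ht
    · rw [← eich_mul' hB hv ha.1 hb.1]
      exact H.mul_mem hsH htH
  zero_mem' := ⟨(Wsub B v v').zero_mem, 0, by simp, by rw [eich_one hv]; exact H.one_mem⟩
  neg_mem' := by
    rintro a ⟨ha, s, hs, hsH⟩
    refine ⟨(Wsub B v v').neg_mem ha, σ s, ?_, ?_⟩
    · have hinv : σ (σ s) + σ s = -(B a a) := by
        have := congrArg σ hs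
        rw [map_add, map_neg, herm_self hB] at this
        linear_combination this
      simp only [map_neg, LinearMap.neg_apply, neg_neg]
      linear_combination hinv
    · rw [← eich_inv hB hv ha.1 hs]
      exact H.inv_mem hsH

variable {B} in
theorem mem_Iv {hB : IsHerm B} {H : Subgroup (V ≃ₗ[F] V)} {v : V} {hv : B v v = 0} {v' w : V} :
    w ∈ Iv hB H hv v' ↔ w ∈ Wsub B v v' ∧ ∃ c : F, c + σ c = -(B w w) ∧ eich B v w c ∈ H :=
  Iff.rfl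

/-- `Dbar = {l ∈ L : Q_v l ∩ H ≠ ∅}`, the image of `H ∩ P_v` in `P_v / Q_v ≅ L` -/
def Dbar (H : Subgroup (V ≃ₗ[F] V)) (v v' : V) : Subgroup (V ≃ₗ[F] V) where
  carrier := {l | l ∈ Lv B v v' ∧ ∃ g ∈ Qv B v, g * l ∈ H}
  mul_mem' := by
    rintro a b ⟨ha, g, hg, hga⟩ ⟨hb, g', hg', hgb⟩
    refine ⟨(Lv B v v').mul_mem ha hb, g * (a * g' * a⁻¹), ?_, ?_⟩
    · exact (Qv B v).mul_mem hg (conj_mem_Qv B ha.1 hg')
    · have : g * (a * g' * a⁻¹) * (a * b) = (g * a) * (g' * b) := by group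
      rw [this]
      exact H.mul_mem hga hgb
  one_mem' := ⟨(Lv B v v').one_mem, 1, (Qv B v).one_mem, by rw [mul_one]; exact H.one_mem⟩
  inv_mem' := by
    rintro a ⟨ha, g, hg, hga⟩
    refine ⟨(Lv B v v').inv_mem ha, a⁻¹ * g⁻¹ * a⁻¹⁻¹, ?_, ?_⟩
    · exact conj_mem_Qv B ((Lv B v v').inv_mem ha).1 ((Qv B v).inv_mem hg)
    · have : a⁻¹ * g⁻¹ * a⁻¹⁻¹ * a⁻¹ = (g * a)⁻¹ := by group
      rw [this]
      exact H.inv_mem hga

theorem mem_Dbar {H : Subgroup (V ≃ₗ[F] V)} {v v' : V} {l : V ≃ₗ[F] V} :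
    l ∈ Dbar B H v v' ↔ l ∈ Lv B v v' ∧ ∃ g ∈ Qv B v, g * l ∈ H := Iff.rfl

theorem Dbar_le_Lv (H : Subgroup (V ≃ₗ[F] V)) (v v' : V) : Dbar B H v v' ≤ Lv B v v' :=
  fun _ hl => hl.1

/-- `K_H = Dbar ∩ K` -/
def KH (H : Subgroup (V ≃ₗ[F] V)) (v v' : V) : Subgroup (V ≃ₗ[F] V) := Dbar B H v v' ⊓ Kv B v v'

theorem KH_le_Kv (H : Subgroup (V ≃ₗ[F] V)) (v v' : V) : KH B H v v' ≤ Kv B v v' := inf_le_right

/-- `T_1 = {λ : some l ∈ Dbar has l v = λ v}`, a subgroup of `Fˣ` -/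
def T1 (H : Subgroup (V ≃ₗ[F] V)) (v v' : V) : Subgroup Fˣ where
  carrier := {c | ∃ l ∈ Dbar B H v v', l v = (c : F) • v}
  mul_mem' := by
    rintro a b ⟨l, hl, hlv⟩ ⟨l', hl', hlv'⟩
    refine ⟨l * l', (Dbar B H v v').mul_mem hl hl', ?_⟩
    rw [LinearEquiv.mul_apply, hlv', map_smul, hlv, smul_smul, Units.val_mul, mul_comm]
  one_mem' := ⟨1, (Dbar B H v v').one_mem, by simp⟩
  inv_mem' := by
    rintro a ⟨l, hl, hlv⟩
    refine ⟨l⁻¹, (Dbar B H v v').inv_mem hl, ?_⟩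
    have h1 : l⁻¹ (l v) = v := inv_apply_apply' l v
    rw [hlv, map_smul] at h1
    calc l⁻¹ v = ((a⁻¹ : Fˣ) : F) • ((a : F) • l⁻¹ v) := by
          rw [smul_smul, ← Units.val_mul, inv_mul_cancel, Units.val_one, one_smul]
      _ = ((a⁻¹ : Fˣ) : F) • v := by rw [h1]

theorem mem_T1 {H : Subgroup (V ≃ₗ[F] V)} {v v' : V} {c : Fˣ} :
    c ∈ T1 B H v v' ↔ ∃ l ∈ Dbar B H v v', l v = (c : F) • v := Iff.rfl

/-- `H` contains no full root group -/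
def NoRoot (H : Subgroup (V ≃ₗ[F] V)) : Prop :=
  ∀ u : V, u ≠ 0 → B u u = 0 → ¬ Xv B u ≤ H

/-- conjugate subgroup `x H x⁻¹` -/
def conjSub (x : V ≃ₗ[F] V) (H : Subgroup (V ≃ₗ[F] V)) : Subgroup (V ≃ₗ[F] V) :=
  H.map (MulAut.conj x).toMonoidHom

theorem mem_conjSub {x g : V ≃ₗ[F] V} {H : Subgroup (V ≃ₗ[F] V)} :
    g ∈ conjSub x H ↔ x⁻¹ * g * x ∈ H := by
  constructor
  · rintro ⟨h, hh, rfl⟩
    have : x⁻¹ * ((MulAut.conj x).toMonoidHom h) * x = h := by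
      simp [MulAut.conj_apply, mul_assoc]
    rw [this]; exact hh
  · intro h
    refine ⟨x⁻¹ * g * x, h, ?_⟩
    simp [MulAut.conj_apply, mul_assoc]

end Cfsg.Agent.Lib.Helper27_UQDefs
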