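import Mathlib
import Cfsg.Agent.Lib.Helper94_Herm
import Cfsg.Agent.Lib.Helper13_PSUSimple
import Cfsg.Agent.Lib.Helper27_UQDefs

set_option autoImplicit false
set_option linter.unusedSimpArgs false
set_option linter.unusedVariables false
set_option linter.unusedSectionVars false

/-!
Definitions for the frame-stabiliser theorem (S5655, blocks of dimension one):
unitary quasi-reflections `qr B x ζ`, double reflections `rho`, orthonormal frames,
the monomial group, the set of reflection centres of a subgroup and the set of its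
full root groups.
-/

namespace Cfsg.Agent.Lib.Helper94_FrmDefs

open Module Cfsg.Agent.Lib.Helper94_Symp Cfsg.Agent.Lib.Helper94_Herm Cfsg.Agent.Lib.Helper13_PSUSimple
  Cfsg.Agent.Lib.Helper27_UQDefs

variable {F V : Type*} [Field F] [AddCommGroup V] [Module F V]
variable {σ : F →+* F} (B : V →ₗ[F] V →ₛₗ[σ] F)

/-- the linear map `v ↦ v + ((ζ - 1) * (B x x)⁻¹ * B v x) • x` -/
noncomputable def qrLin (x : V) (ζ : F) : V →ₗ[F] V :=
  LinearMap.transvection (((ζ - 1) * (B x x)⁻¹) • B.flip x) x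

lemma qrLin_apply (x : V) (ζ : F) (v : V) :
    qrLin B x ζ v = v + ((ζ - 1) * (B x x)⁻¹ * B v x) • x := by
  simp [qrLin, LinearMap.transvection.apply]

lemma qrLin_one (x : V) : qrLin B x 1 = LinearMap.id := by
  ext v
  rw [qrLin_apply]
  simp

lemma qrLin_comp (x : V) (ζ ζ' : F) :
    (qrLin B x ζ).comp (qrLin B x ζ') = qrLin B x (ζ * ζ') := by
  ext v
  rw [LinearMap.comp_apply, qrLin_apply, qrLin_apply, qrLin_apply]
  simp only [map_add, map_smul, LinearMap.add_apply, LinearMap.smul_apply, smul_eq_mul]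
  by_cases hN : B x x = 0
  · simp [hN]
  · rw [add_assoc, ← add_smul]
    congr 2
    field_simp
    ring

open Classical in
/-- the unitary quasi-reflection with centre `x` and multiplier `ζ`
(the identity when `ζ = 0`) -/
noncomputable def qr (x : V) (ζ : F) : V ≃ₗ[F] V :=
  if h : ζ = 0 then 1 else
    LinearEquiv.ofLinear (qrLin B x ζ) (qrLin B x ζ⁻¹)
      (by rw [qrLin_comp, mul_inv_cancel₀ h, qrLin_one])
      (by rw [qrLin_comp, inv_mul_cancel₀ h, qrLin_one])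

lemma qr_apply (x : V) {ζ : F} (hζ : ζ ≠ 0) (v : V) :
    qr B x ζ v = v + ((ζ - 1) * (B x x)⁻¹ * B v x) • x := by
  simp [qr, hζ, qrLin_apply]

lemma qr_one (x : V) : qr B x 1 = 1 := by
  ext v
  rw [qr_apply B x one_ne_zero]
  simp

lemma qr_mul (x : V) {ζ ζ' : F} (hζ : ζ ≠ 0) (hζ' : ζ' ≠ 0) :
    qr B x ζ * qr B x ζ' = qr B x (ζ * ζ') := by
  ext v
  have h := LinearMap.congr_fun (qrLin_comp B x ζ ζ') v
  rw [LinearMap.comp_apply, qrLin_apply, qrLin_apply, qrLin_apply] at h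
  rw [LinearEquiv.mul_apply, qr_apply B x hζ', qr_apply B x hζ, qr_apply B x (mul_ne_zero hζ hζ')]
  exact h

lemma qr_inv (x : V) {ζ : F} (hζ : ζ ≠ 0) : (qr B x ζ)⁻¹ = qr B x ζ⁻¹ := by
  apply inv_eq_of_mul_eq_one_right
  rw [qr_mul B x hζ (inv_ne_zero hζ), mul_inv_cancel₀ hζ, qr_one]

lemma qr_fix (x : V) (ζ : F) {v : V} (h : B v x = 0) : qr B x ζ v = v := by
  by_cases hζ : ζ = 0
  · simp [qr, hζ]
  · rw [qr_apply B x hζ, h, mul_zero, zero_smul, add_zero]

lemma qr_self {x : V} (hx : B x x ≠ 0) {ζ : F} (hζ : ζ ≠ 0) : qr B x ζ x = ζ • x := by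
  rw [qr_apply B x hζ]
  have : (ζ - 1) * (B x x)⁻¹ * B x x = ζ - 1 := by field_simp
  rw [this, sub_smul, one_smul]
  abel

lemma qr_of_iso {x : V} (hx : B x x = 0) (ζ : F) : qr B x ζ = 1 := by
  by_cases hζ : ζ = 0
  · simp [qr, hζ]
  · ext v
    rw [qr_apply B x hζ, hx]
    simp

variable {B}

lemma qr_smul (x : V) {c : F} (hc : c ≠ 0) (ζ : F) : qr B (c • x) ζ = qr B x ζ := by
  by_cases hζ : ζ = 0
  · simp [qr, hζ]
  · ext v
    rw [qr_apply B _ hζ, qr_apply B _ hζ, self_smul]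
    have hσc : σ c ≠ 0 := (map_ne_zero σ).2 hc
    simp only [map_smulₛₗ, smul_eq_mul, smul_smul]
    congr 2
    by_cases hN : B x x = 0
    · simp [hN]
    · field_simp

lemma qr_mem_uG (hB : IsHerm B) (x : V) {ζ : F} (hζ : ζ * σ ζ = 1) : qr B x ζ ∈ uG B := by
  have hζ0 : ζ ≠ 0 := by
    rintro rfl
    rw [zero_mul] at hζ
    exact zero_ne_one hζ
  intro v w
  rw [qr_apply B x hζ0, qr_apply B x hζ0]
  by_cases hN : B x x = 0
  · simp [hN]
  · have hσN : σ (B x x) = B x x := herm_self hB x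
    simp only [map_add, map_smul, map_smulₛₗ, LinearMap.add_apply, LinearMap.smul_apply,
      smul_eq_mul, map_mul, map_sub, map_one, map_inv₀, hσN]
    rw [hB w x]
    have h2 : σ ζ = ζ⁻¹ := eq_inv_of_mul_eq_one_right hζ
    rw [h2]
    field_simp
    ring

lemma det_qr [FiniteDimensional F V] {x : V} (hx : B x x ≠ 0) {ζ : F} (hζ : ζ ≠ 0) :
    LinearEquiv.det (qr B x ζ) = Units.mk0 ζ hζ := by
  apply Units.ext
  rw [LinearEquiv.coe_det]
  have : ((qr B x ζ : V ≃ₗ[F] V) : V →ₗ[F] V) = qrLin B x ζ := by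
    ext v
    simp [qr, hζ]
  rw [this, qrLin, LinearMap.transvection.det]
  simp only [LinearMap.smul_apply, LinearMap.flip_apply, smul_eq_mul, Units.val_mk0]
  field_simp
  ring

lemma conj_qr {g : V ≃ₗ[F] V} (hg : g ∈ uG B) (x : V) (ζ : F) :
    g * qr B x ζ * g⁻¹ = qr B (g x) ζ := by
  by_cases hζ : ζ = 0
  · simp [qr, hζ]
  · ext v
    rw [LinearEquiv.mul_apply, LinearEquiv.mul_apply, qr_apply B x hζ, qr_apply B _ hζ, map_add,
      map_smul, apply_inv_apply', uG_inv_apply B hg, hg]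

lemma qr_comm (hB : IsHerm B) {x y : V} (hxy : B x y = 0) (ζ ζ' : F) :
    qr B x ζ * qr B y ζ' = qr B y ζ' * qr B x ζ := by
  have hyx : B y x = 0 := herm_eq_zero hB hxy
  by_cases hζ : ζ = 0
  · simp [qr, hζ]
  by_cases hζ' : ζ' = 0
  · simp [qr, hζ']
  ext v
  rw [LinearEquiv.mul_apply, LinearEquiv.mul_apply, qr_apply B y hζ', qr_apply B x hζ,
    qr_apply B x hζ, qr_apply B y hζ']
  simp only [map_add, map_smul, LinearMap.add_apply, LinearMap.smul_apply, smul_eq_mul, hxy, hyx,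
    mul_zero, add_zero]
  abel

variable (B)

/-- the double reflection `r_x(ζ) r_y(ζ⁻¹)` -/
noncomputable def rho (x y : V) (ζ : F) : V ≃ₗ[F] V := qr B x ζ * qr B y ζ⁻¹

variable {B}

lemma rho_mem_SUg [FiniteDimensional F V] (hσ : Invol σ) (hB : IsHerm B) {x y : V}
    (hx : B x x ≠ 0) (hy : B y y ≠ 0) {ζ : F} (hζ : ζ * σ ζ = 1) : rho B x y ζ ∈ SUg B := by
  have hζ0 : ζ ≠ 0 := by
    rintro rfl
    rw [zero_mul] at hζ
    exact zero_ne_one hζ
  have hζi : ζ⁻¹ * σ ζ⁻¹ = 1 := by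
    rw [map_inv₀, ← mul_inv, hζ, inv_one]
  rw [mem_SUg]
  refine ⟨(uG B).mul_mem (qr_mem_uG hB x hζ) (qr_mem_uG hB y hζi), ?_⟩
  rw [rho, map_mul, det_qr hx hζ0, det_qr hy (inv_ne_zero hζ0)]
  apply Units.ext
  simp [hζ0]

lemma conj_rho {g : V ≃ₗ[F] V} (hg : g ∈ uG B) (x y : V) (ζ : F) :
    g * rho B x y ζ * g⁻¹ = rho B (g x) (g y) ζ := by
  rw [rho, rho, ← conj_qr hg x ζ, ← conj_qr hg y ζ⁻¹]
  group

variable (B)

/-- an orthonormal frame: an orthonormal family spanning the space -/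
structure OFrame {ι : Type*} (e : ι → V) : Prop where
  orth : ∀ i j, i ≠ j → B (e i) (e j) = 0
  unit : ∀ i, B (e i) (e i) = 1
  span : Submodule.span F (Set.range e) = ⊤

/-- the full monomial group of an orthonormal frame inside the isometry group -/
def Mono {ι : Type*} (e : ι → V) : Subgroup (V ≃ₗ[F] V) where
  carrier := {g | g ∈ uG B ∧ ∃ π : Equiv.Perm ι, ∀ i, ∃ c : F, c ≠ 0 ∧ g (e i) = c • e (π i)}
  mul_mem' := by
    rintro a b ⟨ha, π, hπ⟩ ⟨hb, τ, hτ⟩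
    refine ⟨(uG B).mul_mem ha hb, τ.trans π, fun i => ?_⟩
    obtain ⟨c, hc0, hc⟩ := hτ i
    obtain ⟨d, hd0, hd⟩ := hπ (τ i)
    exact ⟨c * d, mul_ne_zero hc0 hd0,
      by rw [LinearEquiv.mul_apply, hc, map_smul, hd, smul_smul, Equiv.trans_apply]⟩
  one_mem' := ⟨(uG B).one_mem, 1, fun i => ⟨1, one_ne_zero, by simp⟩⟩
  inv_mem' := by
    rintro a ⟨ha, π, hπ⟩
    refine ⟨(uG B).inv_mem ha, π.symm, fun i => ?_⟩
    obtain ⟨c, hc0, hc⟩ := hπ (π.symm i)
    rw [Equiv.apply_symm_apply] at hc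
    exact ⟨c⁻¹, inv_ne_zero hc0, by
      have : a⁻¹ (c • e i) = e (π.symm i) := by rw [← hc, inv_apply_apply']
      rw [map_smul] at this
      rw [← this, smul_smul, inv_mul_cancel₀ hc0, one_smul]⟩

variable {B}

lemma mem_Mono {ι : Type*} {e : ι → V} {g : V ≃ₗ[F] V} :
    g ∈ Mono B e ↔ g ∈ uG B ∧ ∃ π : Equiv.Perm ι, ∀ i, ∃ c : F, c ≠ 0 ∧ g (e i) = c • e (π i) :=
  Iff.rfl

lemma Mono_le_uG {ι : Type*} (e : ι → V) : Mono B e ≤ uG B := fun _ h => h.1

variable (B)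

/-- the set of centres of the full groups of quasi-reflections of a subgroup -/
def Rc (μ : Set F) (L : Subgroup (V ≃ₗ[F] V)) : Set V :=
  {x | B x x = 1 ∧ ∀ ζ ∈ μ, qr B x ζ ∈ L}

/-- the set of isotropic vectors whose full root group lies in a subgroup -/
def UU (L : Subgroup (V ≃ₗ[F] V)) : Set V :=
  {u | B u u = 0 ∧ ∀ c : F, σ c = -c → utv B u c ∈ L}

/-- the norm-one elements of the field -/
def mu1 (σ : F →+* F) : Set F := {ζ | ζ * σ ζ = 1}

end Cfsg.Agent.Lib.Helper94_FrmDefs
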