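import Mathlib
import Cfsg.Agent.Lib.Helper94_FrmDefs

set_option autoImplicit false
set_option linter.unusedSectionVars false
set_option linter.unusedVariables false

/-!
S5655, blocks of dimension one, case (C) ("the frames of the orbit are pairwise disjoint"):
shared definitions and basic facts, on top of `Helper94_FrmDefs` (`OFrame`, `Mono`) and
`Helper13_PSUSimple` (`SUg`).  Paper proof: `pending/helper83/S5655_caseC_proof.md`.
-/

namespace Cfsg.Agent.Lib.Helper83_FrCDefs

open Module Cfsg.Agent.Lib.Helper94_Herm Cfsg.Agent.Lib.Helper13_PSUSimple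
  Cfsg.Agent.Lib.Helper94_FrmDefs

variable {F V ι : Type*} [Field F] [AddCommGroup V] [Module F V]
variable {σ : F →+* F} (B : V →ₗ[F] V →ₛₗ[σ] F) (e : ι → V)

/-- the frame stabiliser inside the special unitary group -/
noncomputable def frH : Subgroup (V ≃ₗ[F] V) := Mono B e ⊓ SUg B

/-- hypothesis (C): an element of `M` fixing a point of the frame is monomial -/
def CaseC (M : Subgroup (V ≃ₗ[F] V)) : Prop :=
  ∀ k, ∀ g ∈ M, (∃ c : F, g (e k) = c • e k) → g ∈ Mono B e

/-- (C'): an element of `M` mapping a frame point to a frame point is monomial -/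
def PC' (M : Subgroup (V ≃ₗ[F] V)) : Prop :=
  ∀ g ∈ M, ∀ i j (c : F), g (e i) = c • e j → g ∈ Mono B e

/-- (2.1): a column of a non-monomial element of `M` has at most one zero coordinate -/
def P21 (M : Subgroup (V ≃ₗ[F] V)) : Prop :=
  ∀ g ∈ M, g ∉ Mono B e → ∀ i a b, a ≠ b → B (g (e i)) (e a) = 0 → B (g (e i)) (e b) = 0 → False

/-- (2.2): a diagonal element of `H`, not `1`, trivial outside a set `S` of at most four
frame vectors: if a conjugate `g⁻¹ s g` (`g ∈ M`) is monomial then `g` is monomial -/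
def P22 (M : Subgroup (V ≃ₗ[F] V)) : Prop :=
  ∀ s ∈ frH B e, (∀ i, ∃ c : F, s (e i) = c • e i) → s ≠ 1 →
    ∀ S : Finset ι, S.card ≤ 4 → (∀ i, i ∉ S → s (e i) = e i) →
      ∀ g ∈ M, g⁻¹ * s * g ∈ Mono B e → g ∈ Mono B e

/-- (2.3): all coordinates of all columns of a non-monomial element of `M` are nonzero -/
def P23 (M : Subgroup (V ≃ₗ[F] V)) : Prop :=
  ∀ g ∈ M, g ∉ Mono B e → ∀ i a, B (g (e i)) (e a) ≠ 0

/-- (2.4): orthogonal points of the orbit lie in the same frame -/
def P24 (M : Subgroup (V ≃ₗ[F] V)) : Prop :=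
  ∀ g ∈ M, ∀ g' ∈ M, ∀ i j, B (g (e i)) (g' (e j)) = 0 → g⁻¹ * g' ∈ Mono B e

/-- (2.5): the colours `N (x_r)` of a column of a non-monomial element of `M` have no two
disjoint monochromatic pairs -/
def P25 (M : Subgroup (V ≃ₗ[F] V)) : Prop :=
  ∀ g ∈ M, g ∉ Mono B e → ∀ i r1 r2 r3 r4, r1 ≠ r2 → r1 ≠ r3 → r1 ≠ r4 → r2 ≠ r3 → r2 ≠ r4 →
    r3 ≠ r4 →
    B (g (e i)) (e r1) * σ (B (g (e i)) (e r1)) = B (g (e i)) (e r2) * σ (B (g (e i)) (e r2)) →
    B (g (e i)) (e r3) * σ (B (g (e i)) (e r3)) = B (g (e i)) (e r4) * σ (B (g (e i)) (e r4)) →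
    False

/-- (E7): the stabiliser in `M` of a frame-isotropic point `e_a + l e_b` is monomial -/
def PE7 (M : Subgroup (V ≃ₗ[F] V)) : Prop :=
  ∀ a b, a ≠ b → ∀ l : F, l * σ l = 1 → ∀ m ∈ M,
    (∃ c : F, m (e a + l • e b) = c • (e a + l • e b)) → m ∈ Mono B e

/-- (E8): the image of a frame-isotropic point under a non-monomial element of `M` has at most
one zero coordinate -/
def PE8 (M : Subgroup (V ≃ₗ[F] V)) : Prop :=
  ∀ g ∈ M, g ∉ Mono B e → ∀ a b, a ≠ b → ∀ l : F, l * σ l = 1 → ∀ c c', c ≠ c' →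
    B (g (e a + l • e b)) (e c) = 0 → B (g (e a + l • e b)) (e c') = 0 → False

/-- the norm-one element `z` is "good": `z³ ≠ 1` and `z⁴ ≠ 1` -/
def Good (σ : F →+* F) (z : F) : Prop := z * σ z = 1 ∧ z ^ 3 ≠ 1 ∧ z ^ 4 ≠ 1


/-! ### Interface propositions (each is proved by one package; the other packages take them as
hypotheses, so that all packages are independent of each other) -/

section Interface

variable [Fintype ι] [DecidableEq ι]

/-- the monomial map with permutation `π` and norm-one weights `w` of determinant one lies in `H` -/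
def HasMono : Prop :=
  ∀ (π : Equiv.Perm ι) (w : ι → F), (∀ i, w i * σ (w i) = 1) →
    (((Equiv.Perm.sign π : ℤˣ) : ℤ) : F) * ∏ i, w i = 1 →
    ∃ g : V ≃ₗ[F] V, g ∈ frH B e ∧ ∀ i, g (e i) = w i • e (π i)

/-- the determinant of a monomial map -/
def HasDet (F : Type*) [Field F] {V ι : Type*} [AddCommGroup V] [Module F V] [Fintype ι]
    [DecidableEq ι] (e : ι → V) : Prop :=
  ∀ (g : V ≃ₗ[F] V) (π : Equiv.Perm ι) (w : ι → F), (∀ i, g (e i) = w i • e (π i)) →
    ((LinearEquiv.det g : Fˣ) : F) = (((Equiv.Perm.sign π : ℤˣ) : ℤ) : F) * ∏ i, w i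

/-- `g` permutes the points of the frame (no isometry condition) -/
def IsMonoMap (g : V ≃ₗ[F] V) : Prop :=
  ∃ π : Equiv.Perm ι, ∀ i, ∃ c : F, c ≠ 0 ∧ g (e i) = c • e (π i)

/-- the cycle lemma (D) -/
def CycleLemma (σ : F →+* F) (e : ι → V) : Prop :=
  ∀ z : F, Good σ z → ∀ a b : ι, a ≠ b → ∀ d : V ≃ₗ[F] V, d (e a) = z • e a →
    d (e b) = σ z • e b → (∀ r, r ≠ a → r ≠ b → d (e r) = e r) →
    ∀ g : V ≃ₗ[F] V, IsMonoMap e (g⁻¹ * d * g) → ∃ j, ∃ c : F, g (e j) = c • e a

/-- the rank lemma (R): a monomial map `m` such that `m - l` has range in a subspace of dimension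
`≤ r` satisfies `m e_i = l e_i` for all but at most `3 r` indices -/
def RankLemma (F : Type*) [Field F] {V ι : Type*} [AddCommGroup V] [Module F V]
    (e : ι → V) : Prop :=
  ∀ m : V ≃ₗ[F] V, IsMonoMap e m → ∀ l : F, l ≠ 0 → ∀ U : Submodule F V,
    (∀ x, m x - l • x ∈ U) → ∀ r : ℕ, finrank F U ≤ r →
    Set.ncard {i | m (e i) ≠ l • e i} ≤ 3 * r

/-- the involutive rank lemma (R2) -/
def RankLemmaInvol (F : Type*) [Field F] {V ι : Type*} [AddCommGroup V] [Module F V]
    (e : ι → V) : Prop :=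
  ∀ m : V ≃ₗ[F] V, IsMonoMap e m → m * m = 1 → ∀ U : Submodule F V,
    (∀ x, m x - x ∈ U) → ∀ r : ℕ, finrank F U ≤ r →
    Set.ncard {i | ∀ c : F, m (e i) ≠ c • e i} ≤ 2 * r

/-- the cycle lemma for `q = 3` (`z = i`, `i² = -1`): rows `a`, `b` of `g` are supported on two
columns `j1 ≠ j2`, and column `j1` is supported on `{a, b}` -/
def CycleLemma3 : Prop :=
  ∀ i0 : F, i0 * i0 = -1 → σ i0 = -i0 → ∀ a b : ι, a ≠ b → ∀ d : V ≃ₗ[F] V, d (e a) = i0 • e a →
    d (e b) = (-i0) • e b → (∀ r, r ≠ a → r ≠ b → d (e r) = e r) →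
    ∀ g ∈ uG B, IsMonoMap e (g⁻¹ * d * g) → (∀ j (c : F), g (e j) ≠ c • e a) →
    (∀ j (c : F), g (e j) ≠ c • e b) →
    ∃ j1 j2, j1 ≠ j2 ∧ (∀ c, c ≠ a → c ≠ b → B (g (e j1)) (e c) = 0) ∧
      ∀ j, j ≠ j1 → j ≠ j2 → B (g (e j)) (e a) = 0 ∧ B (g (e j)) (e b) = 0

/-- the standard hermitian form `∑ x_r σ(y_r)` on functions -/
noncomputable def stdB (σ : F →+* F) (κ : Type*) [Fintype κ] :
    (κ → F) →ₗ[F] (κ → F) →ₛₗ[σ] F :=
  LinearMap.mk₂'ₛₗ (RingHom.id F) σ (fun x y => ∑ r, x r * σ (y r))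
    (fun x y v => by simp only [Pi.add_apply, add_mul, Finset.sum_add_distrib])
    (fun c x v => by
      simp only [Pi.smul_apply, smul_eq_mul, RingHom.id_apply, Finset.mul_sum, mul_assoc])
    (fun v x y => by simp only [Pi.add_apply, map_add, mul_add, Finset.sum_add_distrib])
    (fun c v x => by
      simp only [Pi.smul_apply, smul_eq_mul, map_mul, Finset.mul_sum]
      exact Finset.sum_congr rfl (fun i _ => by ring))

lemma stdB_apply (σ : F →+* F) (κ : Type*) [Fintype κ] (x y : κ → F) :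
    stdB σ κ x y = ∑ r, x r * σ (y r) := rfl

/-- the standard frame of the space of functions -/
def stdE (F : Type*) [Field F] (κ : Type*) [DecidableEq κ] : κ → (κ → F) := fun r => Pi.single r 1

/-- the index set of the quotient `p^⊥ / p`, `p = e_a + l e_b` -/
abbrev Idx' (a b : ι) : Type _ := {r : ι // r ≠ a ∧ r ≠ b}

/-- `m` fixes the point spanned by `p = e_a + l e_b` -/
def FixesPt (a b : ι) (l : F) (m : V ≃ₗ[F] V) : Prop :=
  ∃ c : F, m (e a + l • e b) = c • (e a + l • e b)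

/-- `k` is the map induced by `m` on `p^⊥ / p`, in coordinates -/
def QRel (a b : ι) (m : V ≃ₗ[F] V) (k : (Idx' a b → F) ≃ₗ[F] (Idx' a b → F)) : Prop :=
  ∀ r s : Idx' a b, k (stdE F (Idx' a b) s) r = B (m (e s.1)) (e r.1)

/-- the group `K` induced by `Stab_M(p)` on `p^⊥ / p` and its properties -/
structure QuotData (a b : ι) (l : F) (M : Subgroup (V ≃ₗ[F] V))
    (K : Subgroup ((Idx' a b → F) ≃ₗ[F] (Idx' a b → F))) : Prop where
  le_uG : K ≤ uG (stdB σ (Idx' a b))
  mono_mem : ∀ k ∈ uG (stdB σ (Idx' a b)), IsMonoMap (stdE F (Idx' a b)) k → k ∈ K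
  lift : ∀ k ∈ K, ∃ m ∈ M, FixesPt e a b l m ∧ QRel B e a b m k
  proj : ∀ m ∈ M, FixesPt e a b l m → ∃ k ∈ K, QRel B e a b m k
  mul : ∀ m m' k k', m ∈ uG B → m' ∈ uG B → FixesPt e a b l m → FixesPt e a b l m' →
    QRel B e a b m k → QRel B e a b m' k' → QRel B e a b (m * m') (k * k')
  inv : ∀ m k, m ∈ uG B → FixesPt e a b l m → QRel B e a b m k → QRel B e a b m⁻¹ k⁻¹
  mono_of : ∀ m ∈ Mono B e, FixesPt e a b l m → ∀ k, QRel B e a b m k →
    IsMonoMap (stdE F (Idx' a b)) k

/-- helper94's Steps 1-4 in the GU setting, as consumed by (E2) -/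
def RootGU {W κ : Type*} [AddCommGroup W] [Module F W] (B' : W →ₗ[F] W →ₛₗ[σ] F) (e' : κ → W)
    (K : Subgroup (W ≃ₗ[F] W)) : Prop :=
  K ≤ uG B' → (∀ k ∈ uG B', IsMonoMap e' k → k ∈ K) → (∃ k ∈ K, ¬ IsMonoMap e' k) →
    ∃ c c' : κ, c ≠ c' ∧ ∃ al be : F, al • e' c + be • e' c' ≠ 0 ∧
      B' (al • e' c + be • e' c') (al • e' c + be • e' c') = 0 ∧
      ∀ t : F, σ t = -t → utv B' (al • e' c + be • e' c') t ∈ K

end Interface

lemma mem_Mono_iff {g : V ≃ₗ[F] V} : g ∈ Mono B e ↔ g ∈ uG B ∧ IsMonoMap e g := Iff.rfl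

variable {B e}

lemma mem_frH {g : V ≃ₗ[F] V} : g ∈ frH B e ↔ g ∈ Mono B e ∧ g ∈ SUg B := Subgroup.mem_inf

lemma frH_le_Mono : frH B e ≤ Mono B e := inf_le_left

lemma frH_le_SUg : frH B e ≤ SUg B := inf_le_right

section Frame

variable [Fintype ι] [DecidableEq ι]

lemma fr_apply_eq (h : OFrame B e) (i j : ι) : B (e i) (e j) = if i = j then 1 else 0 := by
  by_cases hij : i = j
  · subst hij; simp [h.unit i]
  · simp [hij, h.orth i j hij]

/-- the `j`-th coordinate of a linear combination of the frame vectors -/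
lemma fr_coord_sum (h : OFrame B e) (c : ι → F) (j : ι) :
    B (∑ i, c i • e i) (e j) = c j := by
  rw [map_sum, LinearMap.sum_apply]
  simp only [map_smul, LinearMap.smul_apply, smul_eq_mul, fr_apply_eq h]
  simp

lemma fr_linearIndependent (h : OFrame B e) : LinearIndependent F e := by
  rw [Fintype.linearIndependent_iff]
  intro c hc j
  have := fr_coord_sum h c j
  rw [hc] at this
  simpa using this.symm

/-- the frame as a basis -/
noncomputable def fr_basis (h : OFrame B e) : Basis ι F V :=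
  Basis.mk (fr_linearIndependent h) (by rw [h.span])

@[simp] lemma fr_basis_apply (h : OFrame B e) (i : ι) : fr_basis h i = e i := by
  simp [fr_basis]

/-- every vector is the sum of its coordinates times the frame vectors -/
lemma fr_expand (h : OFrame B e) (x : V) : x = ∑ i, B x (e i) • e i := by
  have hx := (fr_basis h).sum_repr x
  have hc : ∀ j, (fr_basis h).repr x j = B x (e j) := by
    intro j
    have h2 := congrArg (fun y => B y (e j)) hx
    simp only [fr_basis_apply] at h2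
    rw [fr_coord_sum h] at h2
    exact h2
  simp only [fr_basis_apply, hc] at hx
  exact hx.symm

lemma fr_repr_apply (h : OFrame B e) (x : V) (j : ι) : (fr_basis h).repr x j = B x (e j) := by
  have hx := (fr_basis h).sum_repr x
  have h2 := congrArg (fun y => B y (e j)) hx
  simp only [fr_basis_apply] at h2
  rw [fr_coord_sum h] at h2
  exact h2

/-- two vectors with the same coordinates are equal -/
lemma fr_ext_coord (h : OFrame B e) {x y : V} (hxy : ∀ i, B x (e i) = B y (e i)) : x = y := by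
  rw [fr_expand h x, fr_expand h y]
  exact Finset.sum_congr rfl (fun i _ => by rw [hxy i])

lemma fr_finiteDimensional (h : OFrame B e) : FiniteDimensional F V :=
  (fr_basis h).finiteDimensional_of_finite

lemma fr_finrank_eq (h : OFrame B e) : finrank F V = Fintype.card ι :=
  Module.finrank_eq_card_basis (fr_basis h)

lemma fr_ne_zero (h : OFrame B e) (i : ι) : e i ≠ 0 := by
  intro h0
  have := h.unit i
  rw [h0, map_zero] at this
  exact zero_ne_one this

/-- Parseval: the form in coordinates -/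
lemma fr_form_eq (h : OFrame B e) (x y : V) : B x y = ∑ i, B x (e i) * σ (B y (e i)) := by
  conv_lhs => rw [fr_expand h y]
  rw [map_sum]
  refine Finset.sum_congr rfl (fun i _ => ?_)
  rw [map_smulₛₗ, smul_eq_mul, mul_comm]

end Frame

end Cfsg.Agent.Lib.Helper83_FrCDefs
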