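import Mathlib
import Cfsg.Agent.Lib.Helper83_FrCDefs

/-!
# S5655, k = 1, case (C) (architect helper83), package PK15B

`q` even: (E-mono) lift of the monomial isometries of `p^⊥ / p` and the assembly of the subgroup
`K := {k | k ∈ uG ∧ ∃ m ∈ M, FixesPt m ∧ QRel m k}`.
-/

set_option autoImplicit false
set_option linter.unusedVariables false
set_option linter.unusedSectionVars false

namespace Cfsg.Agent.Lib.Helper10_FrC_PK15B

open Module Cfsg.Agent.Lib.Helper94_Herm Cfsg.Agent.Lib.Helper13_PSUSimple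
  Cfsg.Agent.Lib.Helper94_FrmDefs Cfsg.Agent.Lib.Helper83_FrCDefs

variable {F V ι : Type*} [Field F] [AddCommGroup V] [Module F V] [Fintype ι] [DecidableEq ι]
variable {σ : F →+* F} {B : V →ₗ[F] V →ₛₗ[σ] F} {e : ι → V}

/-! ### characteristic two -/

lemma units_cast_of_two (h2 : (2 : F) = 0) (u : ℤˣ) : (((u : ℤ)) : F) = 1 := by
  rcases Int.units_eq_one_or u with rfl | rfl
  · simp
  · simp only [Units.val_neg, Units.val_one, Int.reduceNeg, Int.cast_neg, Int.cast_one]
    linear_combination (-1 : F) * h2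

lemma eq_one_of_sq_of_two (h2 : (2 : F) = 0) {c : F} (h : c * c = 1) : c = 1 := by
  have h1 : (c - 1) * (c - 1) = 0 := by linear_combination h - c * h2 + h2
  have := mul_self_eq_zero.1 h1
  exact sub_eq_zero.1 this

/-- in a finite field of characteristic two every element is a square -/
lemma exists_sqrt_of_two [Finite F] (h2 : (2 : F) = 0) (u : F) : ∃ t : F, t * t = u := by
  have hinj : Function.Injective (fun t : F => t * t) := by
    intro x y hxy
    have h1 : (x - y) * (x - y) = 0 := by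
      have hxy' : x * x = y * y := hxy
      linear_combination hxy' - x * y * h2 + y * y * h2
    exact sub_eq_zero.1 (mul_self_eq_zero.1 h1)
  exact Finite.surjective_of_injective hinj u

/-! ### the standard frame -/

lemma stdE_apply (κ : Type*) [DecidableEq κ] (s r : κ) :
    stdE F κ s r = if r = s then 1 else 0 := by
  simp [stdE, Pi.single_apply]

lemma stdB_stdE (σ : F →+* F) (κ : Type*) [Fintype κ] [DecidableEq κ] (r s : κ) :
    stdB σ κ (stdE F κ r) (stdE F κ s) = if r = s then 1 else 0 := by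
  rw [stdB_apply, Finset.sum_eq_single r]
  · rw [stdE_apply, stdE_apply, if_pos rfl, one_mul]
    by_cases hrs : r = s
    · rw [if_pos hrs, map_one]
    · rw [if_neg hrs, map_zero]
  · intro t _ ht
    rw [stdE_apply, if_neg ht, zero_mul]
  · intro h
    exact absurd (Finset.mem_univ r) h

lemma stdB_smul_smul (σ : F →+* F) (κ : Type*) [Fintype κ] (c d : F) (x y : κ → F) :
    stdB σ κ (c • x) (d • y) = c * σ d * stdB σ κ x y := by
  simp only [stdB_apply, Pi.smul_apply, smul_eq_mul, map_mul, Finset.mul_sum]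
  exact Finset.sum_congr rfl (fun i _ => by ring)

lemma ext_stdE {κ : Type*} [Fintype κ] [DecidableEq κ] {k k' : (κ → F) ≃ₗ[F] (κ → F)}
    (h : ∀ s, k (stdE F κ s) = k' (stdE F κ s)) : k = k' := by
  apply LinearEquiv.toLinearMap_injective
  apply (Pi.basisFun F κ).ext
  intro s
  rw [Pi.basisFun_apply]
  exact h s

/-! ### `QRel` and `FixesPt` -/

lemma qrel_unique (a b : ι) (m : V ≃ₗ[F] V) (k k' : (Idx' a b → F) ≃ₗ[F] (Idx' a b → F))
    (h : QRel B e a b m k) (h' : QRel B e a b m k') : k = k' := by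
  apply ext_stdE
  intro s
  funext r
  rw [h r s, h' r s]

lemma qrel_one (hfr : OFrame B e) (a b : ι) : QRel B e a b 1 1 := by
  intro r s
  rw [LinearEquiv.coe_one, id_eq, LinearEquiv.coe_one, id_eq, stdE_apply, fr_apply_eq hfr]
  by_cases hrs : r = s
  · rw [if_pos hrs, if_pos (by rw [hrs])]
  · rw [if_neg hrs, if_neg (fun h => hrs (Subtype.ext h.symm))]

lemma pt_ne_zero (hfr : OFrame B e) {a b : ι} (hab : a ≠ b) (l : F) : e a + l • e b ≠ 0 := by
  intro h
  have h1 := congrArg (fun y => B y (e a)) h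
  simp only [map_add, map_smul, LinearMap.add_apply, LinearMap.smul_apply, smul_eq_mul,
    fr_apply_eq hfr, if_neg (Ne.symm hab), if_true, mul_zero, add_zero, map_zero,
    LinearMap.zero_apply] at h1
  exact one_ne_zero h1

lemma fixesPt_one (a b : ι) (l : F) : FixesPt e a b l (1 : V ≃ₗ[F] V) := ⟨1, by simp⟩

lemma fixesPt_mul {a b : ι} {l : F} {m m' : V ≃ₗ[F] V} (h : FixesPt e a b l m)
    (h' : FixesPt e a b l m') : FixesPt e a b l (m * m') := by
  obtain ⟨c, hc⟩ := h
  obtain ⟨c', hc'⟩ := h'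
  exact ⟨c' * c, by rw [LinearEquiv.mul_apply, hc', map_smul, hc, smul_smul]⟩

lemma fixesPt_inv (hfr : OFrame B e) {a b : ι} (hab : a ≠ b) {l : F} {m : V ≃ₗ[F] V}
    (h : FixesPt e a b l m) : FixesPt e a b l m⁻¹ := by
  obtain ⟨c, hc⟩ := h
  have hp := pt_ne_zero hfr hab l
  have hc0 : c ≠ 0 := by
    rintro rfl
    rw [zero_smul] at hc
    exact hp ((map_eq_zero_iff m m.injective).1 hc)
  refine ⟨c⁻¹, ?_⟩
  have h0 : m⁻¹ (c • (e a + l • e b)) = e a + l • e b := by
    rw [← hc, Cfsg.Agent.Lib.Helper94_Symp.inv_apply_apply']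
  rw [map_smul] at h0
  have h1 : c⁻¹ • (c • m⁻¹ (e a + l • e b)) = c⁻¹ • (e a + l • e b) := by rw [h0]
  rwa [smul_smul, inv_mul_cancel₀ hc0, one_smul] at h1

/-! ### (E-mono): the lift -/

lemma card_not_idx {a b : ι} (hab : a ≠ b) :
    Fintype.card {x : ι // ¬ (x ≠ a ∧ x ≠ b)} = 2 := by
  rw [Fintype.card_subtype]
  have : Finset.univ.filter (fun x : ι => ¬ (x ≠ a ∧ x ≠ b)) = {a, b} := by
    ext x
    simp only [Finset.mem_filter, Finset.mem_univ, true_and, Finset.mem_insert,
      Finset.mem_singleton]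
    tauto
  rw [this, Finset.card_pair hab]

/-- (E-mono): every monomial isometry of `p^⊥ / p` is induced by an element of `H` fixing `p` -/
lemma mono_lift [Finite F] (hσ : Invol σ) (hfr : OFrame B e) (hmono : HasMono B e)
    (h2 : (2 : F) = 0) (a b : ι) (hab : a ≠ b) (l : F)
    (k : (Idx' a b → F) ≃ₗ[F] (Idx' a b → F)) (hk : k ∈ uG (stdB σ (Idx' a b)))
    (hkm : IsMonoMap (stdE F (Idx' a b)) k) :
    ∃ h ∈ frH B e, FixesPt e a b l h ∧ QRel B e a b h k := by
  obtain ⟨π, hπ⟩ := hkm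
  choose c hc0 hc using hπ
  have hcn : ∀ r, c r * σ (c r) = 1 := by
    intro r
    have := hk (stdE F _ r) (stdE F _ r)
    rw [hc r, stdB_smul_smul, stdB_stdE, stdB_stdE, if_pos rfl, if_pos rfl, mul_one] at this
    exact this
  have hPn : (∏ r, c r) * σ (∏ r, c r) = 1 := by
    rw [map_prod, ← Finset.prod_mul_distrib]
    exact Finset.prod_eq_one (fun r _ => hcn r)
  have hP0 : (∏ r, c r) ≠ 0 := by
    intro h0
    rw [h0, zero_mul] at hPn
    exact zero_ne_one hPn
  obtain ⟨t, ht⟩ := exists_sqrt_of_two h2 (∏ r, c r)⁻¹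
  have hun : (∏ r, c r)⁻¹ * σ (∏ r, c r)⁻¹ = 1 := by
    rw [map_inv₀, ← mul_inv, hPn, inv_one]
  have htn : t * σ t = 1 := by
    apply eq_one_of_sq_of_two h2
    calc (t * σ t) * (t * σ t) = (t * t) * σ (t * t) := by rw [map_mul]; ring
      _ = 1 := by rw [ht, hun]
  set w : ι → F := fun i => if h : i ≠ a ∧ i ≠ b then c ⟨i, h⟩ else t with hw
  have hwpos : ∀ r : Idx' a b, w r.1 = c r := fun r => dif_pos r.2
  have hwneg : ∀ i : ι, ¬ (i ≠ a ∧ i ≠ b) → w i = t := fun i hi => dif_neg hi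
  have hw1 : ∀ i, w i * σ (w i) = 1 := by
    intro i
    by_cases h : i ≠ a ∧ i ≠ b
    · have := hwpos ⟨i, h⟩
      rw [this]
      exact hcn _
    · rw [hwneg i h]
      exact htn
  have hprod : ∏ i, w i = 1 := by
    rw [← Fintype.prod_subtype_mul_prod_subtype (fun i => i ≠ a ∧ i ≠ b) w]
    have e1 : ∏ i : {x // x ≠ a ∧ x ≠ b}, w i = ∏ r, c r :=
      Finset.prod_congr rfl (fun r _ => hwpos r)
    have e2 : ∏ i : {x // ¬ (x ≠ a ∧ x ≠ b)}, w i = t * t := by
      rw [Finset.prod_congr rfl (fun i _ => hwneg i.1 i.2), Finset.prod_const, Finset.card_univ,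
        card_not_idx hab, pow_two]
    rw [e1, e2, ht]
    exact mul_inv_cancel₀ hP0
  obtain ⟨h, hH, hh⟩ := hmono (Equiv.Perm.ofSubtype π) w hw1
    (by rw [units_cast_of_two h2, one_mul, hprod])
  have hπa : Equiv.Perm.ofSubtype π a = a :=
    Equiv.Perm.ofSubtype_apply_of_not_mem π (fun h => h.1 rfl)
  have hπb : Equiv.Perm.ofSubtype π b = b :=
    Equiv.Perm.ofSubtype_apply_of_not_mem π (fun h => h.2 rfl)
  have hwa : w a = t := hwneg a (fun h => h.1 rfl)
  have hwb : w b = t := hwneg b (fun h => h.2 rfl)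
  refine ⟨h, hH, ⟨t, ?_⟩, ?_⟩
  · rw [map_add, map_smul, hh a, hh b, hπa, hπb, hwa, hwb, smul_add, smul_comm t l]
  · intro r s
    have hπs : Equiv.Perm.ofSubtype π s.1 = (π s).1 := by
      rw [Equiv.Perm.ofSubtype_apply_of_mem π s.2]
    rw [hc s, hh s.1, hπs, hwpos s, Pi.smul_apply, smul_eq_mul, stdE_apply, map_smul,
      LinearMap.smul_apply, smul_eq_mul, fr_apply_eq hfr]
    by_cases hrs : r = π s
    · rw [if_pos hrs, if_pos (by rw [hrs])]
    · rw [if_neg hrs, if_neg (fun h => hrs (Subtype.ext h.symm))]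

/-! ### a monomial isometry fixing `p` induces a monomial map -/

lemma mono_of (hfr : OFrame B e) {a b : ι} (hab : a ≠ b) {l : F} (hl0 : l ≠ 0)
    (m : V ≃ₗ[F] V) (hm : m ∈ Mono B e) (hfix : FixesPt e a b l m)
    (k : (Idx' a b → F) ≃ₗ[F] (Idx' a b → F)) (hk : QRel B e a b m k) :
    IsMonoMap (stdE F (Idx' a b)) k := by
  obtain ⟨hmU, π, hπ⟩ := hm
  choose c hc0 hc using hπ
  obtain ⟨d, hd⟩ := hfix
  have hcoord : ∀ j, B (m (e a + l • e b)) (e j) =
      c a * (if π a = j then 1 else 0) + l * (c b * (if π b = j then 1 else 0)) := by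
    intro j
    rw [map_add, map_smul, hc a, hc b]
    simp only [map_add, map_smul, LinearMap.add_apply, LinearMap.smul_apply, smul_eq_mul,
      fr_apply_eq hfr]
  have hcoord' : ∀ j, B (d • (e a + l • e b)) (e j) =
      d * ((if a = j then 1 else 0) + l * (if b = j then 1 else 0)) := by
    intro j
    simp only [map_add, map_smul, LinearMap.add_apply, LinearMap.smul_apply, smul_eq_mul,
      fr_apply_eq hfr]
  have hπab : π a ≠ π b := fun h => hab (π.injective h)
  have hπa : π a = a ∨ π a = b := by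
    by_contra hcon
    push Not at hcon
    have h1 := hcoord (π a)
    rw [hd, hcoord', if_pos rfl, if_neg (Ne.symm hπab), if_neg (Ne.symm hcon.1),
      if_neg (Ne.symm hcon.2)] at h1
    apply hc0 a
    linear_combination -h1
  have hπb : π b = a ∨ π b = b := by
    by_contra hcon
    push Not at hcon
    have h1 := hcoord (π b)
    rw [hd, hcoord', if_pos rfl, if_neg hπab, if_neg (Ne.symm hcon.1),
      if_neg (Ne.symm hcon.2)] at h1
    have h3 : l * c b = 0 := by linear_combination -h1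
    rcases mul_eq_zero.1 h3 with h4 | h4
    · exact hl0 h4
    · exact hc0 b h4
  have key : ∀ y, (y = a ∨ y = b) → ∃ x', (x' = a ∨ x' = b) ∧ π x' = y := by
    intro y hy
    rcases hπa with ha | ha <;> rcases hπb with hb | hb
    · exact absurd (ha.trans hb.symm) hπab
    · rcases hy with h | h
      · exact ⟨a, Or.inl rfl, ha.trans h.symm⟩
      · exact ⟨b, Or.inr rfl, hb.trans h.symm⟩
    · rcases hy with h | h
      · exact ⟨b, Or.inr rfl, hb.trans h.symm⟩
      · exact ⟨a, Or.inl rfl, ha.trans h.symm⟩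
    · exact absurd (ha.trans hb.symm) hπab
  have hpres : ∀ x, (π x ≠ a ∧ π x ≠ b) ↔ (x ≠ a ∧ x ≠ b) := by
    intro x
    constructor
    · rintro ⟨h1, h2⟩
      constructor
      · intro hx
        rw [hx] at h1 h2
        rcases hπa with h | h
        · exact h1 h
        · exact h2 h
      · intro hx
        rw [hx] at h1 h2
        rcases hπb with h | h
        · exact h1 h
        · exact h2 h
    · rintro ⟨h1, h2⟩
      constructor
      · intro h
        obtain ⟨x', hx', hπx'⟩ := key a (Or.inl rfl)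
        have hxx : x = x' := π.injective (h.trans hπx'.symm)
        rcases hx' with h' | h'
        · exact h1 (hxx.trans h')
        · exact h2 (hxx.trans h')
      · intro h
        obtain ⟨x', hx', hπx'⟩ := key b (Or.inr rfl)
        have hxx : x = x' := π.injective (h.trans hπx'.symm)
        rcases hx' with h' | h'
        · exact h1 (hxx.trans h')
        · exact h2 (hxx.trans h')
  refine ⟨π.subtypePerm hpres, fun s => ⟨c s.1, hc0 s.1, ?_⟩⟩
  funext r
  rw [hk r s, hc s.1, map_smul, LinearMap.smul_apply, smul_eq_mul, fr_apply_eq hfr,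
    Pi.smul_apply, smul_eq_mul, stdE_apply]
  by_cases hrs : r = π.subtypePerm hpres s
  · rw [if_pos hrs, if_pos (by rw [hrs]; rfl)]
  · rw [if_neg hrs, if_neg (fun h => hrs (Subtype.ext h.symm))]

/-! ### PK15d -/

/-- PK15d. paper (E-mono) and the assembly of the subgroup
`K := {k | k ∈ uG ∧ ∃ m ∈ M, FixesPt m ∧ QRel m k}`; PK15b/c enter as hypotheses. -/
theorem exists_quotData [Finite F] (hσ : Invol σ) (hB : IsHerm B) (hfr : OFrame B e)
    (hmono : HasMono B e) (h2 : (2 : F) = 0) (a b : ι) (hab : a ≠ b) (l : F) (hl : l * σ l = 1)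
    (M : Subgroup (V ≃ₗ[F] V)) (hHM : frH B e ≤ M) (hMU : M ≤ uG B)
    (hex : ∀ m : V ≃ₗ[F] V, m ∈ uG B → FixesPt e a b l m →
      ∃ k : (Idx' a b → F) ≃ₗ[F] (Idx' a b → F), k ∈ uG (stdB σ (Idx' a b)) ∧ QRel B e a b m k)
    (hmul : ∀ (m m' : V ≃ₗ[F] V) (k k' : (Idx' a b → F) ≃ₗ[F] (Idx' a b → F)), m ∈ uG B →
      m' ∈ uG B → FixesPt e a b l m → FixesPt e a b l m' → QRel B e a b m k → QRel B e a b m' k' →
      QRel B e a b (m * m') (k * k')) :
    ∃ K : Subgroup ((Idx' a b → F) ≃ₗ[F] (Idx' a b → F)), QuotData B e a b l M K := by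
  have hl0 : l ≠ 0 := by
    rintro rfl
    rw [zero_mul] at hl
    exact zero_ne_one hl
  have hinv : ∀ m k, m ∈ uG B → FixesPt e a b l m → QRel B e a b m k →
      QRel B e a b m⁻¹ k⁻¹ := by
    intro m k hm hfix hq
    have hm' := (uG B).inv_mem hm
    have hfix' := fixesPt_inv hfr hab hfix
    obtain ⟨k'', -, hk''⟩ := hex m⁻¹ hm' hfix'
    have h1 := hmul m m⁻¹ k k'' hm hm' hfix hfix' hq hk''
    rw [mul_inv_cancel] at h1
    have h3 : k * k'' = 1 := qrel_unique a b 1 _ _ h1 (qrel_one hfr a b)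
    have h4 : k'' = k⁻¹ := eq_inv_of_mul_eq_one_right h3
    rw [← h4]
    exact hk''
  refine ⟨{ carrier := {k | k ∈ uG (stdB σ (Idx' a b)) ∧
              ∃ m ∈ M, FixesPt e a b l m ∧ QRel B e a b m k}
            mul_mem' := ?_
            one_mem' := ?_
            inv_mem' := ?_ }, ?_⟩
  · rintro k k' ⟨hk, m, hmM, hmf, hmq⟩ ⟨hk', m', hmM', hmf', hmq'⟩
    exact ⟨(uG _).mul_mem hk hk', m * m', M.mul_mem hmM hmM', fixesPt_mul hmf hmf',
      hmul m m' k k' (hMU hmM) (hMU hmM') hmf hmf' hmq hmq'⟩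
  · exact ⟨(uG _).one_mem, 1, M.one_mem, fixesPt_one a b l, qrel_one hfr a b⟩
  · rintro k ⟨hk, m, hmM, hmf, hmq⟩
    exact ⟨(uG _).inv_mem hk, m⁻¹, M.inv_mem hmM, fixesPt_inv hfr hab hmf,
      hinv m k (hMU hmM) hmf hmq⟩
  · exact
    { le_uG := fun k hk => hk.1
      mono_mem := fun k hk hkm => by
        obtain ⟨h, hH, hf, hq⟩ := mono_lift hσ hfr hmono h2 a b hab l k hk hkm
        exact ⟨hk, h, hHM hH, hf, hq⟩
      lift := fun k hk => hk.2
      proj := fun m hmM hmf => by
        obtain ⟨k, hkU, hkq⟩ := hex m (hMU hmM) hmf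
        exact ⟨k, ⟨hkU, m, hmM, hmf, hkq⟩, hkq⟩
      mul := hmul
      inv := hinv
      mono_of := fun m hm hmf k hk => mono_of hfr hab hl0 m hm hmf k hk }

end Cfsg.Agent.Lib.Helper10_FrC_PK15B
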