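import Mathlib
import Cfsg.Agent.Lib.Helper83_FrCDefs

/-!
# S5655, k = 1, case (C) (architect helper83), package PK13

The dihedral lemma (DI), the closure-range lemma (CR), and the rank of a conjugate.
-/

set_option autoImplicit false
set_option linter.unusedVariables false
set_option linter.unusedSectionVars false

namespace Cfsg.Agent.Lib.Helper8_FrC_PK13

open Module Cfsg.Agent.Lib.Helper94_Herm Cfsg.Agent.Lib.Helper13_PSUSimple
  Cfsg.Agent.Lib.Helper94_FrmDefs Cfsg.Agent.Lib.Helper83_FrCDefs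

variable {F V ι : Type*} [Field F] [AddCommGroup V] [Module F V] [Fintype ι] [DecidableEq ι]
variable {σ : F →+* F} {B : V →ₗ[F] V →ₛₗ[σ] F} {e : ι → V}

/-- PK13a. paper (DI). -/
theorem dihedral_lemma {G : Type*} [Group G] (a b : G) (ha : a * a = 1) (hb : b * b = 1)
    (hfin : IsOfFinOrder (a * b)) :
    (∃ k : G, b = k * a * k⁻¹) ∨
      ∃ z : G, z ∈ Subgroup.closure {a, b} ∧ z ≠ 1 ∧ z * z = 1 ∧ z * a = a * z ∧ z * b = b * z := by
  have hai : a⁻¹ = a := inv_eq_of_mul_eq_one_left ha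
  have hbi : b⁻¹ = b := inv_eq_of_mul_eq_one_left hb
  set c := a * b with hc
  have hci : c⁻¹ = b * a := by rw [hc, mul_inv_rev, hai, hbi]
  have hca : a * c * a⁻¹ = c⁻¹ := by
    rw [hci, hai, hc, ← mul_assoc, ha, one_mul]
  have hcb : b * c * b⁻¹ = c⁻¹ := by
    rw [hci, hbi, hc, mul_assoc, mul_assoc, hb, mul_one]
  have hpa : ∀ m : ℕ, a * c ^ m * a⁻¹ = (c ^ m)⁻¹ := by
    intro m; rw [← conj_pow, hca, inv_pow]
  have hpb : ∀ m : ℕ, b * c ^ m * b⁻¹ = (c ^ m)⁻¹ := by
    intro m; rw [← conj_pow, hcb, inv_pow]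
  have hn : 0 < orderOf c := hfin.orderOf_pos
  rcases Nat.even_or_odd' (orderOf c) with ⟨m, hm | hm⟩
  · -- even order: a central involution
    right
    have hm0 : m ≠ 0 := by omega
    have hzz : c ^ m * c ^ m = 1 := by
      rw [← pow_add, ← two_mul, ← hm, pow_orderOf_eq_one]
    have hzi : (c ^ m)⁻¹ = c ^ m := inv_eq_of_mul_eq_one_left hzz
    refine ⟨c ^ m, ?_, ?_, hzz, ?_, ?_⟩
    · apply Subgroup.pow_mem
      exact Subgroup.mul_mem _ (Subgroup.subset_closure (by simp))
        (Subgroup.subset_closure (by simp))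
    · exact pow_ne_one_of_lt_orderOf hm0 (by omega)
    · have := hpa m
      rw [hzi, mul_inv_eq_iff_eq_mul] at this
      exact this.symm
    · have := hpb m
      rw [hzi, mul_inv_eq_iff_eq_mul] at this
      exact this.symm
  · -- odd order: conjugate
    left
    refine ⟨c ^ m, ?_⟩
    have h1 : a * (c ^ m)⁻¹ = c ^ m * a := by
      have h := hpa m
      have h' : (a * c ^ m * a⁻¹)⁻¹ = c ^ m := by rw [h, inv_inv]
      rw [mul_inv_rev, mul_inv_rev, inv_inv, ← mul_assoc, mul_inv_eq_iff_eq_mul] at h'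
      exact h'
    have h2 : c ^ (2 * m) = c⁻¹ := by
      have : c ^ (2 * m) * c = 1 := by
        rw [← pow_succ, ← hm, pow_orderOf_eq_one]
      exact eq_inv_of_mul_eq_one_left this
    calc b = (b * a) * a := by rw [mul_assoc, ha, mul_one]
      _ = c ^ (2 * m) * a := by rw [h2, hci]
      _ = c ^ m * (c ^ m * a) := by rw [two_mul, pow_add, mul_assoc]
      _ = c ^ m * (a * (c ^ m)⁻¹) := by rw [h1]
      _ = c ^ m * a * (c ^ m)⁻¹ := by rw [mul_assoc]

/-- PK13b. paper (CR). -/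
theorem closure_range (a b : V ≃ₗ[F] V) (U : Submodule F V) (ha : ∀ x, a x - x ∈ U)
    (hb : ∀ x, b x - x ∈ U) : ∀ z ∈ Subgroup.closure {a, b}, ∀ x, z x - x ∈ U := by
  intro z hz
  induction hz using Subgroup.closure_induction with
  | mem g hg =>
    rcases hg with rfl | rfl
    · exact ha
    · exact hb
  | one => intro x; simp
  | mul g h _ _ ihg ihh =>
    intro x
    have : (g * h) x - x = (g (h x) - h x) + (h x - x) := by
      rw [LinearEquiv.mul_apply]; abel
    rw [this]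
    exact U.add_mem (ihg (h x)) (ihh x)
  | inv g _ ihg =>
    intro x
    have h1 := ihg (g⁻¹ x)
    have h2 : g (g⁻¹ x) = x := by
      show (g * g⁻¹) x = x
      rw [mul_inv_cancel]; rfl
    rw [h2] at h1
    have : g⁻¹ x - x = -(x - g⁻¹ x) := by abel
    rw [this]
    exact U.neg_mem h1

/-- PK13c. conjugate maps have ranges of `· - 1` of the same dimension. -/
theorem finrank_range_conj (a k : V ≃ₗ[F] V) :
    finrank F (LinearMap.range (((k * a * k⁻¹ : V ≃ₗ[F] V) : V →ₗ[F] V) - LinearMap.id)) =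
      finrank F (LinearMap.range ((a : V →ₗ[F] V) - LinearMap.id)) := by
  have h1 : LinearMap.range (((k * a * k⁻¹ : V ≃ₗ[F] V) : V →ₗ[F] V) - LinearMap.id) =
      (LinearMap.range ((a : V →ₗ[F] V) - LinearMap.id)).map (k : V →ₗ[F] V) := by
    ext y
    constructor
    · rintro ⟨x, rfl⟩
      refine ⟨a (k⁻¹ x) - k⁻¹ x, ⟨k⁻¹ x, rfl⟩, ?_⟩
      have hk : k (k⁻¹ x) = x := by
        show (k * k⁻¹) x = x
        rw [mul_inv_cancel]; rfl
      simp only [LinearMap.sub_apply, LinearEquiv.coe_coe, LinearMap.id_apply, map_sub,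
        LinearEquiv.mul_apply, hk]
    · rintro ⟨_, ⟨x, rfl⟩, rfl⟩
      refine ⟨k x, ?_⟩
      have hk : k⁻¹ (k x) = x := by
        show (k⁻¹ * k) x = x
        rw [inv_mul_cancel]; rfl
      simp only [LinearMap.sub_apply, LinearEquiv.coe_coe, LinearMap.id_apply, map_sub,
        LinearEquiv.mul_apply, hk]
  rw [h1]
  exact LinearEquiv.finrank_map_eq k _

end Cfsg.Agent.Lib.Helper8_FrC_PK13
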