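import Mathlib
import Cfsg.Agent.Lib.Helper83_FrCDefs
import Cfsg.Agent.Lib.Helper8_FrC_PK13

/-!
# S5655, k = 1, case (C) (architect helper83), package PK19

`q` even: the fusion argument (E9).
-/

set_option autoImplicit false
set_option linter.unusedVariables false
set_option linter.unusedSectionVars false

namespace Cfsg.Agent.Lib.Helper10_FrC_PK19

open Module Cfsg.Agent.Lib.Helper94_Herm Cfsg.Agent.Lib.Helper13_PSUSimple
  Cfsg.Agent.Lib.Helper94_FrmDefs Cfsg.Agent.Lib.Helper83_FrCDefs

variable {F V ι : Type*} [Field F] [AddCommGroup V] [Module F V] [Fintype ι] [DecidableEq ι]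
variable {σ : F →+* F} {B : V →ₗ[F] V →ₛₗ[σ] F} {e : ι → V}

/-! ### characteristic two -/

lemma add_self_of_two (h2 : (2 : F) = 0) (x : V) : x + x = 0 := by
  rw [← two_smul F x, h2, zero_smul]

lemma neg_eq_of_two (h2 : (2 : F) = 0) (x : V) : -x = x :=
  neg_eq_of_add_eq_zero_left (add_self_of_two h2 x)

lemma sub_eq_add_of_two (h2 : (2 : F) = 0) (x y : V) : x - y = x + y := by
  rw [sub_eq_add_neg, neg_eq_of_two h2]

lemma units_cast_of_two (h2 : (2 : F) = 0) (u : ℤˣ) : (((u : ℤ)) : F) = 1 := by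
  rcases Int.units_eq_one_or u with rfl | rfl
  · simp
  · simp only [Units.val_neg, Units.val_one, Int.reduceNeg, Int.cast_neg, Int.cast_one]
    linear_combination (-1 : F) * h2

lemma eq_one_of_sq_of_two (h2 : (2 : F) = 0) {c : F} (h : c * c = 1) : c = 1 := by
  have h1 : (c - 1) * (c - 1) = 0 := by linear_combination h - c * h2 + h2
  have := mul_self_eq_zero.1 h1
  exact sub_eq_zero.1 this

/-! ### permutation maps in `H` -/

lemma exists_perm_map (hmono : HasMono B e) (h2 : (2 : F) = 0) (π : Equiv.Perm ι) :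
    ∃ a ∈ frH B e, ∀ i, a (e i) = e (π i) := by
  obtain ⟨a, ha, hae⟩ := hmono π (fun _ => 1) (fun i => by simp)
    (by rw [units_cast_of_two h2]; simp)
  exact ⟨a, ha, fun i => by rw [hae i, one_smul]⟩

/-- a map that moves every frame vector inside `U` moves every vector inside `U` -/
lemma sub_mem_of_frame (hfr : OFrame B e) (a : V ≃ₗ[F] V) (U : Submodule F V)
    (h : ∀ i, a (e i) - e i ∈ U) (x : V) : a x - x ∈ U := by
  have hx := fr_expand hfr x
  have h1 : a x - x = ∑ i, B x (e i) • (a (e i) - e i) := by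
    calc a x - x = a (∑ i, B x (e i) • e i) - ∑ i, B x (e i) • e i := by rw [← hx]
      _ = ∑ i, B x (e i) • (a (e i) - e i) := by
        rw [map_sum, ← Finset.sum_sub_distrib]
        refine Finset.sum_congr rfl (fun i _ => ?_)
        rw [map_smul, smul_sub]
  rw [h1]
  exact U.sum_mem (fun i _ => U.smul_mem _ (h i))

/-- coordinates of a vector of `span {e i + e j, e k + e l}` -/
lemma coord_span_pair (hfr : OFrame B e) {i1 i2 i3 i4 c : ι} (h1 : c ≠ i1) (h2' : c ≠ i2)
    (h3 : c ≠ i3) (h4 : c ≠ i4) {y : V}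
    (hy : y ∈ Submodule.span F {e i1 + (1 : F) • e i2, e i3 + (1 : F) • e i4}) :
    B y (e c) = 0 := by
  obtain ⟨s, t, rfl⟩ := Submodule.mem_span_pair.1 hy
  simp only [map_add, map_smul, LinearMap.add_apply, LinearMap.smul_apply, smul_eq_mul,
    fr_apply_eq hfr, if_neg (Ne.symm h1), if_neg (Ne.symm h2'), if_neg (Ne.symm h3),
    if_neg (Ne.symm h4)]
  ring

/-- the swap map of `i ≠ j` moves every vector inside `U ∋ e_i + e_j` -/
lemma swap_sub_mem' (hfr : OFrame B e) (h2 : (2 : F) = 0) {i j : ι} (hij : i ≠ j)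
    (U : Submodule F V) (hp : e i + e j ∈ U)
    (a : V ≃ₗ[F] V) (ha : ∀ r, a (e r) = e (Equiv.swap i j r)) (x : V) :
    a x - x ∈ U := by
  apply sub_mem_of_frame hfr
  intro r
  rw [ha r]
  by_cases hri : r = i
  · rw [hri, Equiv.swap_apply_left, sub_eq_add_of_two h2, add_comm]
    exact hp
  · by_cases hrj : r = j
    · rw [hrj, Equiv.swap_apply_right, sub_eq_add_of_two h2]
      exact hp
    · rw [Equiv.swap_apply_of_ne_of_ne hri hrj, sub_self]
      exact Submodule.zero_mem _

lemma swap_sub_mem (hfr : OFrame B e) (h2 : (2 : F) = 0) {i j : ι} (hij : i ≠ j)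
    (a : V ≃ₗ[F] V) (ha : ∀ r, a (e r) = e (Equiv.swap i j r)) (x : V) :
    a x - x ∈ Submodule.span F {e i + (1 : F) • e j} := by
  apply swap_sub_mem' hfr h2 hij _ _ a ha
  have := Submodule.mem_span_singleton_self (R := F) (e i + (1 : F) • e j)
  rw [one_smul] at this ⊢
  exact this

/-- the double swap map moves every vector inside `U ∋ e_1 + e_2, e_3 + e_4` -/
lemma swap2_sub_mem' (hfr : OFrame B e) (h2 : (2 : F) = 0) {i1 i2 i3 i4 : ι}
    (h13 : i1 ≠ i3) (h14 : i1 ≠ i4) (h23 : i2 ≠ i3) (h24 : i2 ≠ i4)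
    (U : Submodule F V) (hp1 : e i1 + e i2 ∈ U) (hp2 : e i3 + e i4 ∈ U)
    (a : V ≃ₗ[F] V) (ha : ∀ r, a (e r) = e ((Equiv.swap i1 i2 * Equiv.swap i3 i4) r)) (x : V) :
    a x - x ∈ U := by
  apply sub_mem_of_frame hfr
  intro r
  rw [ha r, Equiv.Perm.mul_apply]
  by_cases hr3 : r = i3
  · rw [hr3, Equiv.swap_apply_left, Equiv.swap_apply_of_ne_of_ne (Ne.symm h14) (Ne.symm h24),
      sub_eq_add_of_two h2, add_comm]
    exact hp2
  · by_cases hr4 : r = i4
    · rw [hr4, Equiv.swap_apply_right, Equiv.swap_apply_of_ne_of_ne (Ne.symm h13) (Ne.symm h23),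
        sub_eq_add_of_two h2]
      exact hp2
    · rw [Equiv.swap_apply_of_ne_of_ne hr3 hr4]
      by_cases hr1 : r = i1
      · rw [hr1, Equiv.swap_apply_left, sub_eq_add_of_two h2, add_comm]
        exact hp1
      · by_cases hr2 : r = i2
        · rw [hr2, Equiv.swap_apply_right, sub_eq_add_of_two h2]
          exact hp1
        · rw [Equiv.swap_apply_of_ne_of_ne hr1 hr2, sub_self]
          exact Submodule.zero_mem _

lemma swap2_sub_mem (hfr : OFrame B e) (h2 : (2 : F) = 0) {i1 i2 i3 i4 : ι}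
    (h13 : i1 ≠ i3) (h14 : i1 ≠ i4) (h23 : i2 ≠ i3) (h24 : i2 ≠ i4)
    (a : V ≃ₗ[F] V) (ha : ∀ r, a (e r) = e ((Equiv.swap i1 i2 * Equiv.swap i3 i4) r)) (x : V) :
    a x - x ∈ Submodule.span F {e i1 + (1 : F) • e i2, e i3 + (1 : F) • e i4} := by
  apply swap2_sub_mem' hfr h2 h13 h14 h23 h24 _ _ _ a ha
  · have : e i1 + (1 : F) • e i2 ∈
        Submodule.span F {e i1 + (1 : F) • e i2, e i3 + (1 : F) • e i4} :=
      Submodule.subset_span (Set.mem_insert _ _)
    simpa only [one_smul] using this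
  · have : e i3 + (1 : F) • e i4 ∈
        Submodule.span F {e i1 + (1 : F) • e i2, e i3 + (1 : F) • e i4} :=
      Submodule.subset_span (Set.mem_insert_of_mem _ rfl)
    simpa only [one_smul] using this

lemma ext_frame (hfr : OFrame B e) {a b : V ≃ₗ[F] V} (h : ∀ i, a (e i) = b (e i)) : a = b := by
  apply LinearEquiv.ext
  intro x
  rw [fr_expand hfr x]
  simp only [map_sum, map_smul, h]

lemma swap2_sq {i1 i2 i3 i4 : ι} (h12 : i1 ≠ i2) (h13 : i1 ≠ i3) (h14 : i1 ≠ i4) (h23 : i2 ≠ i3)
    (h24 : i2 ≠ i4) (h34 : i3 ≠ i4) :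
    (Equiv.swap i1 i2 * Equiv.swap i3 i4) * (Equiv.swap i1 i2 * Equiv.swap i3 i4) = 1 := by
  have hd : Equiv.Perm.Disjoint (Equiv.swap i1 i2) (Equiv.swap i3 i4) :=
    Equiv.Perm.disjoint_swap_swap (by simp [h12, h13, h14, h23, h24, h34])
  have hc : Equiv.swap i1 i2 * Equiv.swap i3 i4 = Equiv.swap i3 i4 * Equiv.swap i1 i2 :=
    hd.commute.eq
  calc (Equiv.swap i1 i2 * Equiv.swap i3 i4) * (Equiv.swap i1 i2 * Equiv.swap i3 i4)
      = (Equiv.swap i1 i2 * Equiv.swap i3 i4) * (Equiv.swap i3 i4 * Equiv.swap i1 i2) := by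
        rw [← hc]
    _ = Equiv.swap i1 i2 * (Equiv.swap i3 i4 * Equiv.swap i3 i4) * Equiv.swap i1 i2 := by
        simp only [mul_assoc]
    _ = 1 := by rw [Equiv.swap_mul_self, mul_one, Equiv.swap_mul_self]

/-- PK19. paper (E9); uses PK13. -/
theorem caseC_even [Finite F] (hσ : Invol σ) (hB : IsHerm B) (hfr : OFrame B e)
    (hmono : HasMono B e) (hrank : RankLemma F e) (h2 : (2 : F) = 0) (h13 : 13 ≤ Fintype.card ι)
    (M : Subgroup (V ≃ₗ[F] V)) (hHM : frH B e ≤ M) (hMS : M ≤ SUg B) (hE7 : PE7 B e M)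
    (hE8 : PE8 B e M) : M ≤ Mono B e := by
  intro g hgM
  by_contra hgnot
  have hfd : FiniteDimensional F V := fr_finiteDimensional hfr
  have hMU : M ≤ uG B := fun x hx => (mem_SUg.1 (hMS hx)).1
  -- distinct indices
  obtain ⟨f⟩ : Nonempty (Fin 13 ↪ ι) :=
    Function.Embedding.nonempty_of_card_le (by simpa using h13)
  have hne : ∀ k k' : Fin 13, k ≠ k' → f k ≠ f k' := fun k k' h hh => h (f.injective hh)
  have h12 : f 0 ≠ f 1 := hne _ _ (by decide)
  have h13' : f 0 ≠ f 2 := hne _ _ (by decide)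
  have h14 : f 0 ≠ f 3 := hne _ _ (by decide)
  have h23 : f 1 ≠ f 2 := hne _ _ (by decide)
  have h24 : f 1 ≠ f 3 := hne _ _ (by decide)
  have h34 : f 2 ≠ f 3 := hne _ _ (by decide)
  -- the two involutions
  obtain ⟨a, haH, hae⟩ := exists_perm_map hmono h2 (Equiv.swap (f 0) (f 1))
  obtain ⟨u, huH, hue⟩ := exists_perm_map hmono h2
    (Equiv.swap (f 0) (f 1) * Equiv.swap (f 2) (f 3))
  have haM : a ∈ M := hHM haH
  have huM : u ∈ M := hHM huH
  have hbM : g * u * g⁻¹ ∈ M := M.mul_mem (M.mul_mem hgM huM) (M.inv_mem hgM)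
  have haa : a * a = 1 := by
    apply ext_frame hfr
    intro i
    rw [LinearEquiv.mul_apply, hae, hae, Equiv.swap_apply_self]
    rfl
  have huu : u * u = 1 := by
    apply ext_frame hfr
    intro i
    rw [LinearEquiv.mul_apply, hue, hue, ← Equiv.Perm.mul_apply,
      swap2_sq h12 h13' h14 h23 h24 h34]
    rfl
  have hbb : (g * u * g⁻¹) * (g * u * g⁻¹) = 1 := by
    calc (g * u * g⁻¹) * (g * u * g⁻¹) = g * (u * u) * g⁻¹ := by group
      _ = 1 := by rw [huu]; group
  set p1 : V := e (f 0) + (1 : F) • e (f 1) with hp1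
  set p2 : V := e (f 2) + (1 : F) • e (f 3) with hp2
  have haU : ∀ x, a x - x ∈ Submodule.span F {p1} := swap_sub_mem hfr h2 h12 a hae
  have huU : ∀ x, u x - x ∈ Submodule.span F {p1, p2} :=
    swap2_sub_mem hfr h2 h13' h14 h23 h24 u hue
  have hp1a : a (e (f 0)) - e (f 0) = p1 := by
    rw [hae, Equiv.swap_apply_left, sub_eq_add_of_two h2, add_comm, hp1, one_smul]
  have hp1u : u (e (f 0)) - e (f 0) = p1 := by
    rw [hue, Equiv.Perm.mul_apply, Equiv.swap_apply_of_ne_of_ne h13' h14, Equiv.swap_apply_left,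
      sub_eq_add_of_two h2, add_comm, hp1, one_smul]
  have hp2u : u (e (f 2)) - e (f 2) = p2 := by
    rw [hue, Equiv.Perm.mul_apply, Equiv.swap_apply_left,
      Equiv.swap_apply_of_ne_of_ne (Ne.symm h14) (Ne.symm h24),
      sub_eq_add_of_two h2, add_comm, hp2, one_smul]
  -- finiteness
  have : Finite V := Module.finite_of_finite F
  have : Finite (V ≃ₗ[F] V) :=
    Finite.of_injective (fun k : V ≃ₗ[F] V => (k : V → V)) DFunLike.coe_injective
  have hfin : IsOfFinOrder (a * (g * u * g⁻¹)) := isOfFinOrder_of_finite _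
  have hU1 : finrank F (Submodule.span F {p1}) ≤ 1 := by
    have := finrank_span_finset_le_card (R := F) ({p1} : Finset V)
    rw [Finset.coe_singleton, Finset.card_singleton] at this
    exact this
  have hU2 : finrank F (Submodule.span F {p1, p2}) ≤ 2 := by
    classical
    have := finrank_span_finset_le_card (R := F) ({p1, p2} : Finset V)
    rw [Finset.coe_insert, Finset.coe_singleton] at this
    exact this.trans Finset.card_le_two
  rcases Cfsg.Agent.Lib.Helper8_FrC_PK13.dihedral_lemma a (g * u * g⁻¹) haa hbb hfin with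
    ⟨k, hk⟩ | ⟨z, hzcl, hz1, hzz, hza, hzb⟩
  · -- the ranks differ
    exfalso
    have e1 := Cfsg.Agent.Lib.Helper8_FrC_PK13.finrank_range_conj a k
    have e2 := Cfsg.Agent.Lib.Helper8_FrC_PK13.finrank_range_conj u g
    rw [← hk, e2] at e1
    have hle : finrank F (LinearMap.range ((a : V →ₗ[F] V) - LinearMap.id)) ≤ 1 := by
      refine le_trans (Submodule.finrank_mono ?_) hU1
      rintro _ ⟨x, rfl⟩
      exact haU x
    have hli : LinearIndependent F ![p1, p2] := by
      rw [LinearIndependent.pair_iff]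
      intro s t hst
      have h0 := congrArg (fun y => B y (e (f 0))) hst
      have h2' := congrArg (fun y => B y (e (f 2))) hst
      simp only [hp1, hp2, map_add, map_smul, LinearMap.add_apply, LinearMap.smul_apply,
        smul_eq_mul, fr_apply_eq hfr, if_neg (Ne.symm h12), if_neg (Ne.symm h13'),
        if_neg (Ne.symm h14), if_neg h13', if_neg h23, if_neg (Ne.symm h34), if_true,
        map_zero, LinearMap.zero_apply] at h0 h2'
      constructor
      · linear_combination h0
      · linear_combination h2'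
    have hge : 2 ≤ finrank F (LinearMap.range ((u : V →ₗ[F] V) - LinearMap.id)) := by
      have h3 : finrank F (Submodule.span F (Set.range ![p1, p2])) = 2 :=
        (finrank_span_eq_card hli).trans (by simp)
      rw [← h3]
      apply Submodule.finrank_mono
      rw [Submodule.span_le]
      rintro _ ⟨i, rfl⟩
      fin_cases i
      · exact ⟨e (f 0), hp1u⟩
      · exact ⟨e (f 2), hp2u⟩
    omega
  · -- the involution `z`
    have hzM : z ∈ M := by
      refine (Subgroup.closure_le M).2 ?_ hzcl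
      intro y hy
      rcases hy with rfl | rfl
      · exact haM
      · exact hbM
    set U : Submodule F V :=
      Submodule.span F {p1} ⊔ (Submodule.span F {p1, p2}).map (g : V →ₗ[F] V) with hU
    have haU' : ∀ x, a x - x ∈ U := fun x => Submodule.mem_sup_left (haU x)
    have hbU' : ∀ x, (g * u * g⁻¹) x - x ∈ U := by
      intro x
      apply Submodule.mem_sup_right
      refine ⟨u (g⁻¹ x) - g⁻¹ x, huU _, ?_⟩
      simp only [LinearEquiv.coe_coe, map_sub, LinearEquiv.mul_apply,
        Cfsg.Agent.Lib.Helper94_Symp.apply_inv_apply']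
    have hzU : ∀ x, z x - x ∈ U :=
      Cfsg.Agent.Lib.Helper8_FrC_PK13.closure_range a _ U haU' hbU' z hzcl
    have hU3 : finrank F U ≤ 3 := by
      calc finrank F U ≤ finrank F (Submodule.span F {p1}) +
            finrank F ((Submodule.span F {p1, p2}).map (g : V →ₗ[F] V)) :=
            Submodule.finrank_add_le_finrank_add_finrank _ _
        _ ≤ 1 + 2 := Nat.add_le_add hU1 ((Submodule.finrank_map_le _ _).trans hU2)
    -- `z` is monomial
    have hzp1 : z p1 ∈ Submodule.span F {p1} := by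
      have h1 : z p1 = a (z (e (f 0))) - z (e (f 0)) := by
        rw [← hp1a, map_sub, ← LinearEquiv.mul_apply, hza, LinearEquiv.mul_apply]
      rw [h1]
      exact haU _
    obtain ⟨c, hc⟩ := Submodule.mem_span_singleton.1 hzp1
    have hzMono : z ∈ Mono B e := hE7 (f 0) (f 1) h12 1 (by simp) z hzM ⟨c, hc.symm⟩
    -- `m = g⁻¹ z g` is monomial
    set m := g⁻¹ * z * g with hm
    have hmM : m ∈ M := M.mul_mem (M.mul_mem (M.inv_mem hgM) hzM) hgM
    have hmu : m * u = u * m := by
      calc m * u = g⁻¹ * (z * (g * u * g⁻¹)) * g := by rw [hm]; group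
        _ = g⁻¹ * ((g * u * g⁻¹) * z) * g := by rw [hzb]
        _ = u * m := by rw [hm]; group
    have hmp1 : m p1 ∈ Submodule.span F {p1, p2} := by
      have h1 : m p1 = u (m (e (f 0))) - m (e (f 0)) := by
        rw [← hp1u, map_sub, ← LinearEquiv.mul_apply, hmu, LinearEquiv.mul_apply]
      rw [h1]
      exact huU _
    have hmMono : m ∈ Mono B e := by
      by_contra hmnot
      exact hE8 m hmM hmnot (f 0) (f 1) h12 1 (by simp) (f 4) (f 5) (hne _ _ (by decide))
        (coord_span_pair hfr (hne _ _ (by decide)) (hne _ _ (by decide)) (hne _ _ (by decide))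
          (hne _ _ (by decide)) hmp1)
        (coord_span_pair hfr (hne _ _ (by decide)) (hne _ _ (by decide)) (hne _ _ (by decide))
          (hne _ _ (by decide)) hmp1)
    have hm1 : m ≠ 1 := by
      intro h
      apply hz1
      calc z = g * m * g⁻¹ := by rw [hm]; group
        _ = 1 := by rw [h]; group
    have hmm : m * m = 1 := by
      calc m * m = g⁻¹ * (z * z) * g := by rw [hm]; group
        _ = 1 := by rw [hzz]; group
    obtain ⟨hmU, π, hπ⟩ := hmMono
    have hex : ∃ r, π r ≠ r := by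
      by_contra hall
      push Not at hall
      apply hm1
      apply ext_frame hfr
      intro i
      obtain ⟨c, hc0, hc⟩ := hπ i
      rw [hall i] at hc
      have hcc : c * c = 1 := by
        have h1 : (m * m) (e i) = (c * c) • e i := by
          rw [LinearEquiv.mul_apply, hc, map_smul, hc, smul_smul]
        rw [hmm] at h1
        have h1' : e i = (c * c) • e i := h1
        have h2' : ((c * c) - 1) • e i = 0 := by
          rw [sub_smul, ← h1', one_smul, sub_self]
        rcases smul_eq_zero.1 h2' with h3 | h3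
        · exact sub_eq_zero.1 h3
        · exact absurd h3 (fr_ne_zero hfr i)
      rw [hc, eq_one_of_sq_of_two h2 hcc, one_smul]
      rfl
    obtain ⟨r, hr⟩ := hex
    obtain ⟨w, hw0, hw⟩ := hπ r
    have hww : w * σ w = 1 := by
      have := hmU (e r) (e r)
      simp only [hw, map_smul, map_smulₛₗ, LinearMap.smul_apply, smul_eq_mul, hfr.unit,
        mul_one] at this
      rw [mul_comm]
      exact this
    have hp'm : m (e r) - e r = e r + w • e (π r) := by
      rw [hw, sub_eq_add_of_two h2, add_comm]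
    have hgm : g * m = z * g := by rw [hm]; group
    have hgp' : g (e r + w • e (π r)) = z (g (e r)) - g (e r) := by
      rw [← hp'm, map_sub, ← LinearEquiv.mul_apply, hgm, LinearEquiv.mul_apply]
    -- the fixed frame vectors of `z`
    have hzU1 : ∀ x, z x - (1 : F) • x ∈ U := by
      intro x
      rw [one_smul]
      exact hzU x
    have hcnt := hrank z hzMono.2 1 one_ne_zero U hzU1 3 hU3
    have hcompl : 1 < Set.ncard {s : ι | z (e s) = (1 : F) • e s} := by
      have h1 := Set.ncard_add_ncard_compl {i | z (e i) ≠ (1 : F) • e i}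
      have h3 : {i | z (e i) ≠ (1 : F) • e i}ᶜ = {s : ι | z (e s) = (1 : F) • e s} := by
        ext s
        simp
      rw [h3, Nat.card_eq_fintype_card] at h1
      omega
    obtain ⟨c, c', hc, hc', hcc'⟩ := (Set.one_lt_ncard_iff (Set.toFinite _)).1 hcompl
    have hzero : ∀ s, z (e s) = (1 : F) • e s → B (g (e r + w • e (π r))) (e s) = 0 := by
      intro s hs
      rw [one_smul] at hs
      rw [hgp', map_sub, LinearMap.sub_apply]
      have hzuG : z ∈ uG B := hzMono.1
      have : B (z (g (e r))) (e s) = B (g (e r)) (e s) := by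
        conv_lhs => rw [← hs]
        exact hzuG _ _
      rw [this, sub_self]
    exact hE8 g hgM hgnot r (π r) (Ne.symm hr) w hww c c' hcc' (hzero c hc) (hzero c' hc')

end Cfsg.Agent.Lib.Helper10_FrC_PK19
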