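import Mathlib
import Cfsg.Prelude.Def_ChevStructure
import Cfsg.Prelude.Def_ChevG2

/-!
# S2177 (involution classes of `G₂(q)`, `q ≥ 4` even): definitions for the market `s2177_packages`
(architect helper34)

Abstract layer: a group `Γ` with "root elements" `X r t` (`r = 6, …, 11` the positive roots of `G₂` in
the numbering of the Prelude: `6 = b`, `7 = a`, `8 = a+b`, `9 = 2a+b`, `10 = 3a+b`, `11 = 3a+2b`)
satisfying the relations of the positive root elements of `G₂` in characteristic 2 (`URel`), with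
Weyl elements `na`, `nb` (`WRel`); `PW X s t c d e f` is the ordered product (normal form).

Concrete layer: `XG F r t : GL chevG2.Idx F` with matrix `chevG2.x F r t`, `NG F r` with matrix
`chevG2.nMat F r 1`, `HG F r c` with matrix `chevG2.hMat F r c`, and the bundle `G2Facts F` of the
(landed) general facts on Chevalley groups, specialised to `chevG2`, that the glue packages may use.
-/

set_option autoImplicit false

namespace Cfsg.Agent.Lib.Helper34_G2InvDefs

open Cfsg Cfsg.Lie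

section Abstract

variable {F : Type*} [Field F] {Γ : Type*} [Group Γ]

/-- the ordered product `x_b(s) x_a(t) x_{a+b}(c) x_{2a+b}(d) x_{3a+b}(e) x_{3a+2b}(f)` -/
def PW (X : ℕ → F → Γ) (s t c d e f : F) : Γ :=
  X 6 s * X 7 t * X 8 c * X 9 d * X 10 e * X 11 f

/-- The relations among the positive root elements of `G₂` in characteristic 2. -/
structure URel (X : ℕ → F → Γ) : Prop where
  add : ∀ (r : ℕ) (t u : F), X r (t + u) = X r t * X r u
  r67 : ∀ t u : F, X 6 u * X 7 t =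
    X 7 t * X 6 u * X 8 (t * u) * X 9 (t ^ 2 * u) * X 10 (t ^ 3 * u) * X 11 (t ^ 3 * u ^ 2)
  r87 : ∀ t u : F, X 8 u * X 7 t = X 7 t * X 8 u * X 10 (t ^ 2 * u) * X 11 (t * u ^ 2)
  r97 : ∀ t u : F, X 9 u * X 7 t = X 7 t * X 9 u * X 10 (t * u)
  r106 : ∀ t u : F, X 10 u * X 6 t = X 6 t * X 10 u * X 11 (t * u)
  r98 : ∀ t u : F, X 9 u * X 8 t = X 8 t * X 9 u * X 11 (t * u)
  c68 : ∀ t u : F, X 6 t * X 8 u = X 8 u * X 6 t
  c69 : ∀ t u : F, X 6 t * X 9 u = X 9 u * X 6 t
  c611 : ∀ t u : F, X 6 t * X 11 u = X 11 u * X 6 t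
  c710 : ∀ t u : F, X 7 t * X 10 u = X 10 u * X 7 t
  c711 : ∀ t u : F, X 7 t * X 11 u = X 11 u * X 7 t
  c810 : ∀ t u : F, X 8 t * X 10 u = X 10 u * X 8 t
  c811 : ∀ t u : F, X 8 t * X 11 u = X 11 u * X 8 t
  c910 : ∀ t u : F, X 9 t * X 10 u = X 10 u * X 9 t
  c911 : ∀ t u : F, X 9 t * X 11 u = X 11 u * X 9 t
  c1011 : ∀ t u : F, X 10 t * X 11 u = X 11 u * X 10 t

/-- The action of the Weyl elements `n_a`, `n_b` on the positive root elements (characteristic 2:
no signs). -/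
structure WRel (X : ℕ → F → Γ) (na nb : Γ) : Prop where
  a6 : ∀ t : F, na * X 6 t = X 10 t * na
  a10 : ∀ t : F, na * X 10 t = X 6 t * na
  a8 : ∀ t : F, na * X 8 t = X 9 t * na
  a9 : ∀ t : F, na * X 9 t = X 8 t * na
  a11 : ∀ t : F, na * X 11 t = X 11 t * na
  b7 : ∀ t : F, nb * X 7 t = X 8 t * nb
  b8 : ∀ t : F, nb * X 8 t = X 7 t * nb
  b10 : ∀ t : F, nb * X 10 t = X 11 t * nb
  b11 : ∀ t : F, nb * X 11 t = X 10 t * nb
  b9 : ∀ t : F, nb * X 9 t = X 9 t * nb

/-- `u` and `v` are conjugate by an element of `K` -/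
def ConjIn (K : Subgroup Γ) (u v : Γ) : Prop := ∃ y ∈ K, y * u * y⁻¹ = v

lemma ConjIn.refl (K : Subgroup Γ) (u : Γ) : ConjIn K u u := ⟨1, K.one_mem, by simp⟩

lemma ConjIn.trans {K : Subgroup Γ} {u v w : Γ} (h1 : ConjIn K u v) (h2 : ConjIn K v w) :
    ConjIn K u w := by
  obtain ⟨y, hy, e1⟩ := h1
  obtain ⟨z, hz, e2⟩ := h2
  refine ⟨z * y, K.mul_mem hz hy, ?_⟩
  rw [← e2, ← e1]
  group

lemma ConjIn.symm {K : Subgroup Γ} {u v : Γ} (h : ConjIn K u v) : ConjIn K v u := by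
  obtain ⟨y, hy, e⟩ := h
  refine ⟨y⁻¹, K.inv_mem hy, ?_⟩
  rw [← e]
  group

/-- injectivity of the normal form -/
def PWInj (X : ℕ → F → Γ) : Prop :=
  ∀ s t c d e f s' t' c' d' e' f' : F, PW X s t c d e f = PW X s' t' c' d' e' f' →
    s = s' ∧ t = t' ∧ c = c' ∧ d = d' ∧ e = e' ∧ f = f'

end Abstract

section Concrete

variable (F : Type*) [Field F]

open Classical in
/-- the element of `GL` with matrix `x_r(t)` (meaningful once `x_r(t)` is known to be invertible) -/
noncomputable def XG (r : ℕ) (t : F) : GL chevG2.Idx F :=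
  if h : IsUnit (chevG2.x F r t) then h.unit else 1

open Classical in
/-- the element of `GL` with matrix `n_r = n_r(1)` -/
noncomputable def NG (r : ℕ) : GL chevG2.Idx F :=
  if h : IsUnit (chevG2.nMat F r 1) then h.unit else 1

open Classical in
/-- the element of `GL` with matrix `h_r(c)` -/
noncomputable def HG (r : ℕ) (c : F) : GL chevG2.Idx F :=
  if h : IsUnit (chevG2.hMat F r c) then h.unit else 1

/-- The general facts on Chevalley groups used by the glue packages, specialised to `chevG2`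
(each field is the frozen statement named in the comment, at `D = chevG2`). -/
structure G2Facts : Prop where
  /-- S1023 -/
  add : ∀ r < chevG2.nroots, ∀ t₁ t₂ : F,
    chevG2.x F r t₁ * chevG2.x F r t₂ = chevG2.x F r (t₁ + t₂)
  /-- S1024 -/
  zero : ∀ r < chevG2.nroots, ∀ t : F, chevG2.x F r t = 1 ↔ t = 0
  /-- S1025 -/
  comm : ∀ r s : ℕ, r < chevG2.nroots → s < chevG2.nroots → s ≠ r → s ≠ chevG2.neg r →
    ∀ t u : F, chevG2.x F s u * chevG2.x F r t =
      chevG2.x F r t * chevG2.x F s u * chevG2.wordMat F (chevG2.commWord F r s t u)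
  /-- S1026 -/
  uniq : (∀ g : GL chevG2.Idx F, g ∈ chevG2.posUnipotent F →
      ∃! t : ℕ → F, (∀ r, ¬ chevG2.IsPosRoot r → t r = 0) ∧
        (g : Matrix chevG2.Idx chevG2.Idx F) =
          chevG2.wordMat F (chevG2.posRoots.map fun r => (r, t r))) ∧
    (∀ t : ℕ → F, ∃ g : GL chevG2.Idx F, g ∈ chevG2.posUnipotent F ∧
      (g : Matrix chevG2.Idx chevG2.Idx F) =
        chevG2.wordMat F (chevG2.posRoots.map fun r => (r, t r)))
  /-- S1031 -/
  nconj : ∀ i s : ℕ, i < chevG2.rank → s < chevG2.nroots →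
    ∃ η : ℤ, (η = 1 ∨ η = -1) ∧ ∀ t : F,
      chevG2.nMat F (chevG2.simple i) 1 * chevG2.x F s t =
        chevG2.x F (chevG2.reflectRoot i s) ((η : F) * t) * chevG2.nMat F (chevG2.simple i) 1
  /-- S1032 -/
  hconj : ∀ i s : ℕ, i < chevG2.rank → s < chevG2.nroots → ∀ c : F, c ≠ 0 → ∀ t : F,
    chevG2.hMat F (chevG2.simple i) c * chevG2.x F s t =
      chevG2.x F s (c ^ (chevG2.cartan i s) * t) * chevG2.hMat F (chevG2.simple i) c
  /-- S1034 -/
  hprod : ∀ g : GL chevG2.Idx F, g ∈ chevG2.diagonalSubgroup F →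
    ∃ c : ℕ → F, (∀ i < chevG2.rank, c i ≠ 0) ∧
      (g : Matrix chevG2.Idx chevG2.Idx F) =
        chevG2.wordMat F ((List.range chevG2.rank).flatMap fun i => chevG2.hWord (chevG2.simple i) (c i))
  /-- S1036 -/
  semi : chevG2.diagonalSubgroup F ≤
      Subgroup.normalizer (chevG2.posUnipotent F : Set (GL chevG2.Idx F)) ∧
    chevG2.posUnipotent F ⊓ chevG2.diagonalSubgroup F = ⊥
  /-- S1037 -/
  binfv : chevG2.borelSubgroup F ⊓ chevG2.negUnipotent F = ⊥ ∧
    chevG2.borelSubgroup F ⊓ (chevG2.negUnipotent F ⊔ chevG2.diagonalSubgroup F) =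
      chevG2.diagonalSubgroup F
  /-- S1039 -/
  weyl : ∃ φ : ↥(chevG2.monomialSubgroup F) →* CoxeterMatrix.G₂.Group, Function.Surjective φ ∧
    φ.ker = (chevG2.diagonalSubgroup F).subgroupOf (chevG2.monomialSubgroup F) ∧
    ∀ (i : Fin 2) (g : ↥(chevG2.monomialSubgroup F)),
      ((g : GL chevG2.Idx F) : Matrix chevG2.Idx chevG2.Idx F) =
        chevG2.nMat F (chevG2.simple i) 1 → φ g = CoxeterMatrix.G₂.simple i
  /-- S1100, existence part -/
  bruhat : ∀ g ∈ chevG2.group F, ∃ b ∈ chevG2.borelSubgroup F, ∃ n ∈ chevG2.monomialSubgroup F,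
    ∃ u ∈ Subgroup.closure {x : GL chevG2.Idx F | ∃ (r : ℕ) (t : F), chevG2.IsPosRoot r ∧
        (chevG2.rootSubgroup F r).map (MulAut.conj n).toMonoidHom ≤ chevG2.negUnipotent F ∧
        (x : Matrix chevG2.Idx chevG2.Idx F) = chevG2.x F r t},
      g = b * n * u

end Concrete

end Cfsg.Agent.Lib.Helper34_G2InvDefs
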