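import Mathlib
import Cfsg.Agent.Lib.Helper34_G2InvDefs

/-!
# S2177 market: basic consequences of `URel` in characteristic 2 (helper34)
-/

set_option autoImplicit false

namespace Cfsg.Agent.Lib.Helper34_G2InvBasic

open Cfsg.Agent.Lib.Helper34_G2InvDefs

variable {F : Type*} [Field F] {Γ : Type*} [Group Γ] {X : ℕ → F → Γ}

lemma X_zero (h : URel X) (r : ℕ) : X r 0 = 1 := by
  have := h.add r 0 0
  rw [add_zero] at this
  exact (mul_eq_left.mp this.symm)

lemma X_mul_self [CharP F 2] (h : URel X) (r : ℕ) (t : F) : X r t * X r t = 1 := by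
  rw [← h.add, CharTwo.add_self_eq_zero, X_zero h]

lemma X_inv [CharP F 2] (h : URel X) (r : ℕ) (t : F) : (X r t)⁻¹ = X r t :=
  inv_eq_of_mul_eq_one_right (X_mul_self h r t)

lemma X_add_mul (h : URel X) (r : ℕ) (t u : F) : X r t * X r u = X r (t + u) := (h.add r t u).symm

lemma PW_zero (h : URel X) : PW X 0 0 0 0 0 0 = 1 := by
  simp [PW, X_zero h]

lemma PW_6 (h : URel X) (s : F) : PW X s 0 0 0 0 0 = X 6 s := by simp [PW, X_zero h]
lemma PW_7 (h : URel X) (s : F) : PW X 0 s 0 0 0 0 = X 7 s := by simp [PW, X_zero h]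
lemma PW_8 (h : URel X) (s : F) : PW X 0 0 s 0 0 0 = X 8 s := by simp [PW, X_zero h]
lemma PW_9 (h : URel X) (s : F) : PW X 0 0 0 s 0 0 = X 9 s := by simp [PW, X_zero h]
lemma PW_10 (h : URel X) (s : F) : PW X 0 0 0 0 s 0 = X 10 s := by simp [PW, X_zero h]
lemma PW_11 (h : URel X) (s : F) : PW X 0 0 0 0 0 s = X 11 s := by simp [PW, X_zero h]

/-- right multiplication by `X 11 a` -/
lemma PW_mul_11 (h : URel X) (s t c d e f a : F) :
    PW X s t c d e f * X 11 a = PW X s t c d e (f + a) := by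
  unfold PW
  rw [mul_assoc, X_add_mul h]

/-- right multiplication by `X 10 a` -/
lemma PW_mul_10 (h : URel X) (s t c d e f a : F) :
    PW X s t c d e f * X 10 a = PW X s t c d (e + a) f := by
  unfold PW
  rw [mul_assoc, ← h.c1011, ← mul_assoc, mul_assoc _ (X 10 e), X_add_mul h]

/-- right multiplication by `X 9 a` -/
lemma PW_mul_9 (h : URel X) (s t c d e f a : F) :
    PW X s t c d e f * X 9 a = PW X s t c (d + a) e f := by
  unfold PW
  rw [mul_assoc, ← h.c911, ← mul_assoc, mul_assoc _ (X 10 e), ← h.c910, ← mul_assoc,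
    mul_assoc _ (X 9 d), X_add_mul h]

end Cfsg.Agent.Lib.Helper34_G2InvBasic
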