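import Mathlib
import Cfsg.Agent.Lib.Helper34_G2InvDefs
import Cfsg.Agent.Lib.Helper34_G2InvBasic

/-!
# S2177 market, package GCOE (helper25 for helper34)

The matrices of `XG`, `NG`, `HG`, and membership in the Chevalley group.
-/

set_option autoImplicit false

namespace Cfsg.Agent.Lib.Helper25_G2I_GCOE

open Cfsg Cfsg.Lie Cfsg.Agent.Lib.Helper34_G2InvDefs Cfsg.Agent.Lib.Helper34_G2InvBasic

variable {F : Type*} [Field F]

lemma isUnit_x (hf : G2Facts F) (r : ℕ) (t : F) : IsUnit (chevG2.x F r t) := by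
  by_cases hr : r < chevG2.nroots
  · have h0 : chevG2.x F r 0 = 1 := (hf.zero r hr 0).2 rfl
    have h1 : chevG2.x F r t * chevG2.x F r (-t) = 1 := by
      rw [hf.add r hr, add_neg_cancel, h0]
    have h2 : chevG2.x F r (-t) * chevG2.x F r t = 1 := by
      rw [hf.add r hr, neg_add_cancel, h0]
    exact ⟨⟨_, _, h1, h2⟩, rfl⟩
  · have : chevG2.x F r t = 1 := by
      unfold ChevalleyDatum.x
      rw [dif_neg hr]
    rw [this]
    exact isUnit_one

lemma coe_XG (hf : G2Facts F) (r : ℕ) (t : F) :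
    ((XG F r t : GL chevG2.Idx F) : Matrix chevG2.Idx chevG2.Idx F) = chevG2.x F r t := by
  unfold XG
  rw [dif_pos (isUnit_x hf r t)]
  exact IsUnit.unit_spec _

lemma nMat_eq (r : ℕ) (t : F) :
    chevG2.nMat F r t = chevG2.x F r t * chevG2.x F (chevG2.neg r) (-t⁻¹) * chevG2.x F r t := by
  unfold ChevalleyDatum.nMat ChevalleyDatum.nWord ChevalleyDatum.wordMat
  simp [mul_assoc]

lemma hMat_eq (r : ℕ) (t : F) :
    chevG2.hMat F r t = chevG2.nMat F r t * chevG2.nMat F r (-1) := by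
  unfold ChevalleyDatum.hMat ChevalleyDatum.hWord ChevalleyDatum.nMat ChevalleyDatum.wordMat
  rw [List.map_append, List.prod_append]

lemma isUnit_nMat (hf : G2Facts F) (r : ℕ) (t : F) : IsUnit (chevG2.nMat F r t) := by
  rw [nMat_eq]
  exact ((isUnit_x hf _ _).mul (isUnit_x hf _ _)).mul (isUnit_x hf _ _)

lemma isUnit_hMat (hf : G2Facts F) (r : ℕ) (t : F) : IsUnit (chevG2.hMat F r t) := by
  rw [hMat_eq]
  exact (isUnit_nMat hf _ _).mul (isUnit_nMat hf _ _)

lemma coe_NG (hf : G2Facts F) (r : ℕ) :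
    ((NG F r : GL chevG2.Idx F) : Matrix chevG2.Idx chevG2.Idx F) = chevG2.nMat F r 1 := by
  unfold NG
  rw [dif_pos (isUnit_nMat hf r 1)]
  exact IsUnit.unit_spec _

lemma coe_HG (hf : G2Facts F) (r : ℕ) (c : F) :
    ((HG F r c : GL chevG2.Idx F) : Matrix chevG2.Idx chevG2.Idx F) = chevG2.hMat F r c := by
  unfold HG
  rw [dif_pos (isUnit_hMat hf r c)]
  exact IsUnit.unit_spec _

lemma XG_mem_group (hf : G2Facts F) (r : ℕ) (t : F) : XG F r t ∈ chevG2.group F := by
  by_cases hr : r < chevG2.nroots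
  · refine Subgroup.subset_closure ⟨⟨r, hr⟩, t, ?_⟩
    rw [coe_XG hf]
    unfold ChevalleyDatum.x
    rw [dif_pos hr]
  · have : XG F r t = 1 := by
      apply Units.ext
      rw [coe_XG hf]
      unfold ChevalleyDatum.x
      rw [dif_neg hr]
      rfl
    rw [this]
    exact Subgroup.one_mem _

/-- the element of `GL` with matrix `n_r(t)` as a product of `XG`s -/
noncomputable def nG (F : Type*) [Field F] (r : ℕ) (t : F) : GL chevG2.Idx F :=
  XG F r t * XG F (chevG2.neg r) (-t⁻¹) * XG F r t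

lemma coe_nG (hf : G2Facts F) (r : ℕ) (t : F) :
    ((nG F r t : GL chevG2.Idx F) : Matrix chevG2.Idx chevG2.Idx F) = chevG2.nMat F r t := by
  unfold nG
  rw [nMat_eq, Units.val_mul, Units.val_mul, coe_XG hf, coe_XG hf]

lemma nG_mem_group (hf : G2Facts F) (r : ℕ) (t : F) : nG F r t ∈ chevG2.group F := by
  unfold nG
  exact Subgroup.mul_mem _ (Subgroup.mul_mem _ (XG_mem_group hf _ _) (XG_mem_group hf _ _))
    (XG_mem_group hf _ _)

lemma NG_eq (hf : G2Facts F) (r : ℕ) : NG F r = nG F r 1 := by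
  apply Units.ext
  rw [coe_NG hf, coe_nG hf]

lemma HG_eq (hf : G2Facts F) (r : ℕ) (c : F) : HG F r c = nG F r c * nG F r (-1) := by
  apply Units.ext
  rw [coe_HG hf, Units.val_mul, coe_nG hf, coe_nG hf, hMat_eq]

/-- GCOE (S).  The matrices of `XG`, `NG`, `HG`, and membership in the Chevalley group. -/
theorem GCOE (hf : G2Facts F) :
    (∀ r (t : F), ((XG F r t : GL chevG2.Idx F) : Matrix chevG2.Idx chevG2.Idx F) = chevG2.x F r t) ∧
    (∀ r, r < chevG2.nroots →
      ((NG F r : GL chevG2.Idx F) : Matrix chevG2.Idx chevG2.Idx F) = chevG2.nMat F r 1) ∧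
    (∀ r (c : F), r < chevG2.nroots → c ≠ 0 →
      ((HG F r c : GL chevG2.Idx F) : Matrix chevG2.Idx chevG2.Idx F) = chevG2.hMat F r c) ∧
    (∀ r (t : F), XG F r t ∈ chevG2.group F) ∧
    (∀ r, r < chevG2.nroots → NG F r ∈ chevG2.group F) ∧
    (∀ r (c : F), r < chevG2.nroots → c ≠ 0 → HG F r c ∈ chevG2.group F) ∧
    (∀ r (t : F), chevG2.IsPosRoot r → XG F r t ∈ chevG2.posUnipotent F) := by
  refine ⟨coe_XG hf, fun r _ => coe_NG hf r, fun r c _ _ => coe_HG hf r c, XG_mem_group hf,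
    fun r _ => ?_, fun r c _ _ => ?_, fun r t hr => ?_⟩
  · rw [NG_eq hf]
    exact nG_mem_group hf r 1
  · rw [HG_eq hf]
    exact Subgroup.mul_mem _ (nG_mem_group hf r c) (nG_mem_group hf r (-1))
  · exact Subgroup.subset_closure ⟨r, t, hr, coe_XG hf r t⟩

end Cfsg.Agent.Lib.Helper25_G2I_GCOE
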