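import Mathlib
import Cfsg.Agent.Lib.Helper34_G2InvDefs
import Cfsg.Agent.Lib.Helper34_G2InvBasic
import Cfsg.Agent.Lib.Helper25_G2I_GCOE

/-!
# S2177 market (architect helper34), package GP1 (helper10)

`GP1_aux`: `x_11(1)` and `x_9(1)` are involutions and distinct, from the first part of the GCOE
statement (`hXc`: the matrix of `XG F r t` is `chevG2.x F r t`).
-/

set_option autoImplicit false

namespace Cfsg.Agent.Lib.Helper10_G2I_GP1

open Cfsg Cfsg.Lie Cfsg.Agent.Lib.Helper34_G2InvDefs Cfsg.Agent.Lib.Helper34_G2InvBasic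

section Concrete

variable {F : Type*} [Field F]

theorem nroots_eq : chevG2.nroots = 12 := rfl

/-- `XG r 1` has order two (`r` a root, characteristic 2) -/
theorem orderOf_XG_one [CharP F 2] (hf : G2Facts F)
    (hXc : ∀ r (t : F),
      ((XG F r t : GL chevG2.Idx F) : Matrix chevG2.Idx chevG2.Idx F) = chevG2.x F r t)
    (r : ℕ) (hr : r < chevG2.nroots) : orderOf (XG F r (1 : F)) = 2 := by
  have h1 : XG F r (1 : F) ^ 2 = 1 := by
    apply Units.ext
    rw [pow_two, Units.val_mul, hXc, hf.add r hr, CharTwo.add_self_eq_zero, Units.val_one]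
    exact (hf.zero r hr 0).2 rfl
  have h2 : XG F r (1 : F) ≠ 1 := by
    intro h
    have h3 : chevG2.x F r (1 : F) = 1 := by
      rw [← hXc, h, Units.val_one]
    exact one_ne_zero ((hf.zero r hr 1).1 h3)
  exact orderOf_eq_prime h1 h2

/-- the entry `(e_11, h_{p_2})` of `x_11(t)` -/
theorem x11_entry (t : F) :
    chevG2.x F 11 t (Sum.inr (⟨11, by decide⟩ : Fin chevG2.nroots))
      (Sum.inl (⟨1, by decide⟩ : Fin chevG2.rank)) = -t := by
  unfold ChevalleyDatum.x
  rw [dif_pos (by decide : 11 < chevG2.nroots)]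
  unfold ChevalleyDatum.xMat
  simp only [Matrix.of_apply]
  rw [if_pos trivial]
  have : ((chevG2.cartanSR.getD 1 #[]).getD 11 0 : ℤ) = 1 := by decide
  rw [this]
  simp

/-- the entry `(e_11, h_{p_2})` of `x_9(t)` -/
theorem x9_entry (t : F) :
    chevG2.x F 9 t (Sum.inr (⟨11, by decide⟩ : Fin chevG2.nroots))
      (Sum.inl (⟨1, by decide⟩ : Fin chevG2.rank)) = 0 := by
  unfold ChevalleyDatum.x
  rw [dif_pos (by decide : 9 < chevG2.nroots)]
  unfold ChevalleyDatum.xMat
  simp only [Matrix.of_apply]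
  rw [if_neg (by decide)]

/-- GP1, from the first part of GCOE -/
theorem GP1_aux [CharP F 2] (hf : G2Facts F)
    (hXc : ∀ r (t : F),
      ((XG F r t : GL chevG2.Idx F) : Matrix chevG2.Idx chevG2.Idx F) = chevG2.x F r t) :
    orderOf (XG F 11 1) = 2 ∧ orderOf (XG F 9 1) = 2 ∧ XG F 11 (1 : F) ≠ XG F 9 1 := by
  refine ⟨orderOf_XG_one hf hXc 11 (by decide), orderOf_XG_one hf hXc 9 (by decide), ?_⟩
  intro h
  have h1 : chevG2.x F 11 (1 : F) = chevG2.x F 9 1 := by
    rw [← hXc, ← hXc, h]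
  have h2 := congrFun (congrFun h1 (Sum.inr (⟨11, by decide⟩ : Fin chevG2.nroots)))
    (Sum.inl (⟨1, by decide⟩ : Fin chevG2.rank))
  rw [x11_entry, x9_entry] at h2
  exact one_ne_zero (neg_eq_zero.mp h2)

/-- GP1 (M; dep GCOE).  `x_11(1)` and `x_9(1)` are involutions of `G`, and they are distinct. -/
theorem GP1 [CharP F 2] (hf : G2Facts F) :
    orderOf (XG F 11 1) = 2 ∧ orderOf (XG F 9 1) = 2 ∧ XG F 11 (1 : F) ≠ XG F 9 1 :=
  GP1_aux hf (Cfsg.Agent.Lib.Helper25_G2I_GCOE.GCOE hf).1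

end Concrete

end Cfsg.Agent.Lib.Helper10_G2I_GP1
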