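import Mathlib
import Cfsg.Agent.Lib.Helper34_G2InvDefs
import Cfsg.Agent.Lib.Helper34_G2InvBasic

/-!
# S2177 market, package GRELC (helper31): additivity and the commuting pairs of the positive root
elements `XG F r t` of `chevG2`
-/

set_option autoImplicit false

namespace Cfsg.Agent.Lib.Helper31_G2I_GRELC

open Cfsg Cfsg.Lie Cfsg.Agent.Lib.Helper34_G2InvDefs Cfsg.Agent.Lib.Helper34_G2InvBasic

section Concrete

variable {F : Type*} [Field F]

/-- `x_r(0) = 1` -/
theorem x_zero (hf : G2Facts F) (r : ℕ) : chevG2.x F r (0 : F) = 1 := by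
  by_cases hr : r < chevG2.nroots
  · exact (hf.zero r hr 0).mpr rfl
  · unfold ChevalleyDatum.x
    rw [dif_neg hr]

/-- `x_r(t) x_r(u) = x_r(t + u)` for every index `r` -/
theorem x_add (hf : G2Facts F) (r : ℕ) (t u : F) :
    chevG2.x F r t * chevG2.x F r u = chevG2.x F r (t + u) := by
  by_cases hr : r < chevG2.nroots
  · exact hf.add r hr t u
  · unfold ChevalleyDatum.x
    rw [dif_neg hr, dif_neg hr, dif_neg hr, mul_one]

/-- `x_r(t)` is invertible -/
theorem isUnit_x (hf : G2Facts F) (r : ℕ) (t : F) : IsUnit (chevG2.x F r t) :=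
  ⟨⟨chevG2.x F r t, chevG2.x F r (-t), by rw [x_add hf, add_neg_cancel, x_zero hf],
    by rw [x_add hf, neg_add_cancel, x_zero hf]⟩, rfl⟩

/-- the matrix of `XG F r t` (part of GCOE, proved here to be independent of it) -/
theorem XG_coe (hf : G2Facts F) (r : ℕ) (t : F) :
    ((XG F r t : GL chevG2.Idx F) : Matrix chevG2.Idx chevG2.Idx F) = chevG2.x F r t := by
  unfold XG
  rw [dif_pos (isUnit_x hf r t)]
  exact IsUnit.unit_spec _

/-- two root elements with an empty commutator word commute -/
theorem XG_comm_of_nil (hf : G2Facts F) {r s : ℕ} (hr : r < chevG2.nroots)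
    (hs : s < chevG2.nroots) (hsr : s ≠ r) (hsn : s ≠ chevG2.neg r)
    (hnil : chevG2.commTerms r s = []) (t u : F) :
    XG F s u * XG F r t = XG F r t * XG F s u := by
  apply Units.ext
  rw [Units.val_mul, Units.val_mul, XG_coe hf, XG_coe hf, hf.comm r s hr hs hsr hsn t u]
  unfold ChevalleyDatum.commWord
  rw [hnil]
  simp [ChevalleyDatum.wordMat]

/-- GRELC (M; dep GCOE).  Additivity and the commuting pairs. -/
theorem GRELC [CharP F 2] (hf : G2Facts F) :
    (∀ (r : ℕ) (t u : F), XG F r (t + u) = XG F r t * XG F r u) ∧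
    (∀ t u : F, XG F 6 t * XG F 8 u = XG F 8 u * XG F 6 t) ∧
    (∀ t u : F, XG F 6 t * XG F 9 u = XG F 9 u * XG F 6 t) ∧
    (∀ t u : F, XG F 6 t * XG F 11 u = XG F 11 u * XG F 6 t) ∧
    (∀ t u : F, XG F 7 t * XG F 10 u = XG F 10 u * XG F 7 t) ∧
    (∀ t u : F, XG F 7 t * XG F 11 u = XG F 11 u * XG F 7 t) ∧
    (∀ t u : F, XG F 8 t * XG F 10 u = XG F 10 u * XG F 8 t) ∧
    (∀ t u : F, XG F 8 t * XG F 11 u = XG F 11 u * XG F 8 t) ∧
    (∀ t u : F, XG F 9 t * XG F 10 u = XG F 10 u * XG F 9 t) ∧
    (∀ t u : F, XG F 9 t * XG F 11 u = XG F 11 u * XG F 9 t) ∧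
    (∀ t u : F, XG F 10 t * XG F 11 u = XG F 11 u * XG F 10 t) := by
  refine ⟨?_, ?_, ?_, ?_, ?_, ?_, ?_, ?_, ?_, ?_, ?_⟩
  · intro r t u
    apply Units.ext
    rw [Units.val_mul, XG_coe hf, XG_coe hf, XG_coe hf, x_add hf]
  · intro t u
    exact XG_comm_of_nil hf (r := 8) (s := 6) (by decide) (by decide) (by decide) (by decide)
      (by decide) u t
  · intro t u
    exact XG_comm_of_nil hf (r := 9) (s := 6) (by decide) (by decide) (by decide) (by decide)
      (by decide) u t
  · intro t u
    exact XG_comm_of_nil hf (r := 11) (s := 6) (by decide) (by decide) (by decide) (by decide)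
      (by decide) u t
  · intro t u
    exact XG_comm_of_nil hf (r := 10) (s := 7) (by decide) (by decide) (by decide) (by decide)
      (by decide) u t
  · intro t u
    exact XG_comm_of_nil hf (r := 11) (s := 7) (by decide) (by decide) (by decide) (by decide)
      (by decide) u t
  · intro t u
    exact XG_comm_of_nil hf (r := 10) (s := 8) (by decide) (by decide) (by decide) (by decide)
      (by decide) u t
  · intro t u
    exact XG_comm_of_nil hf (r := 11) (s := 8) (by decide) (by decide) (by decide) (by decide)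
      (by decide) u t
  · intro t u
    exact XG_comm_of_nil hf (r := 10) (s := 9) (by decide) (by decide) (by decide) (by decide)
      (by decide) u t
  · intro t u
    exact XG_comm_of_nil hf (r := 11) (s := 9) (by decide) (by decide) (by decide) (by decide)
      (by decide) u t
  · intro t u
    exact XG_comm_of_nil hf (r := 11) (s := 10) (by decide) (by decide) (by decide) (by decide)
      (by decide) u t

end Concrete

end Cfsg.Agent.Lib.Helper31_G2I_GRELC
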