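import Mathlib
import Cfsg.Agent.Lib.Helper34_G2InvDefs
import Cfsg.Agent.Lib.Helper34_G2InvBasic
import Cfsg.Agent.Lib.Helper25_G2I_GCOE
import Cfsg.Agent.Lib.Helper31_G2I_GRELC

/-!
# S2177 market (architect helper34), package NCZ (helper10)

`NCZ_aux`: `x_11(1)` is central in `U`, from the first part of the GCOE statement and the parts
`add`, `c611`, `c711`, `c811`, `c911`, `c1011` of the GRELC statement.
-/

set_option autoImplicit false

namespace Cfsg.Agent.Lib.Helper10_G2I_NCZ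

open Cfsg Cfsg.Lie Cfsg.Agent.Lib.Helper34_G2InvDefs Cfsg.Agent.Lib.Helper34_G2InvBasic

section Concrete

variable {F : Type*} [Field F]

/-- the positive roots of `G₂` are `6, …, 11` -/
theorem posRoot_cases : ∀ r : ℕ, chevG2.IsPosRoot r →
    r = 6 ∨ r = 7 ∨ r = 8 ∨ r = 9 ∨ r = 10 ∨ r = 11 := by
  intro r hr
  have h12 : r < 12 := hr.1
  have key : ∀ r : ℕ, r < 12 → chevG2.IsPosRoot r →
      r = 6 ∨ r = 7 ∨ r = 8 ∨ r = 9 ∨ r = 10 ∨ r = 11 := by decide
  exact key r h12 hr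

/-- NCZ, from the statements of GCOE (first part) and GRELC (the parts about `x_11`) -/
theorem NCZ_aux
    (hXc : ∀ r (t : F),
      ((XG F r t : GL chevG2.Idx F) : Matrix chevG2.Idx chevG2.Idx F) = chevG2.x F r t)
    (hadd : ∀ (r : ℕ) (t u : F), XG F r (t + u) = XG F r t * XG F r u)
    (c611 : ∀ t u : F, XG F 6 t * XG F 11 u = XG F 11 u * XG F 6 t)
    (c711 : ∀ t u : F, XG F 7 t * XG F 11 u = XG F 11 u * XG F 7 t)
    (c811 : ∀ t u : F, XG F 8 t * XG F 11 u = XG F 11 u * XG F 8 t)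
    (c911 : ∀ t u : F, XG F 9 t * XG F 11 u = XG F 11 u * XG F 9 t)
    (c1011 : ∀ t u : F, XG F 10 t * XG F 11 u = XG F 11 u * XG F 10 t) :
    ∀ u ∈ chevG2.posUnipotent F, u * XG F 11 1 = XG F 11 1 * u := by
  have hle : chevG2.posUnipotent F ≤ Subgroup.centralizer ({XG F 11 (1 : F)} : Set _) := by
    unfold ChevalleyDatum.posUnipotent
    rw [Subgroup.closure_le]
    rintro g ⟨r, t, hr, hg⟩
    have hgX : g = XG F r t := by
      apply Units.ext
      rw [hg, hXc]
    subst hgX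
    rw [SetLike.mem_coe, Subgroup.mem_centralizer_iff]
    intro z hz
    rw [Set.mem_singleton_iff] at hz
    subst hz
    rcases posRoot_cases r hr with rfl | rfl | rfl | rfl | rfl | rfl
    · exact (c611 t 1).symm
    · exact (c711 t 1).symm
    · exact (c811 t 1).symm
    · exact (c911 t 1).symm
    · exact (c1011 t 1).symm
    · rw [← hadd, ← hadd, add_comm]
  intro u hu
  have := Subgroup.mem_centralizer_iff.1 (hle hu) (XG F 11 1) (Set.mem_singleton _)
  exact this.symm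

/-- NCZ (M; dep GCOE, GRELC).  `x_11(1)` is central in `U`. -/
theorem NCZ [CharP F 2] (hf : G2Facts F) :
    ∀ u ∈ chevG2.posUnipotent F, u * XG F 11 1 = XG F 11 1 * u := by
  obtain ⟨h0, h1, h2, h3, h4, h5, h6, h7, h8, h9, h10⟩ :=
    Cfsg.Agent.Lib.Helper31_G2I_GRELC.GRELC hf
  exact NCZ_aux (Cfsg.Agent.Lib.Helper25_G2I_GCOE.GCOE hf).1 h0 h3 h5 h7 h9 h10

end Concrete

end Cfsg.Agent.Lib.Helper10_G2I_NCZ
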