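import Mathlib

set_option autoImplicit false

namespace Cfsg.Agent.Lib.Helper10_GUSp_PC2

theorem sq_sub_one_eq (x : ℕ) (hx : 1 ≤ x) : (x + 1) * (x - 1) = x ^ 2 - 1 := by
  obtain ⟨y, rfl⟩ := Nat.exists_eq_add_of_le hx
  rw [Nat.add_sub_cancel_left]
  symm
  apply Nat.sub_eq_of_eq_add
  ring

theorem tri_add (d : ℕ) : d * (d - 1) / 2 + d * (d + 1) / 2 = d ^ 2 := by
  have h1 : 2 * (d * (d - 1) / 2) = d * (d - 1) :=
    Nat.two_mul_div_two_of_even (Nat.even_mul_pred_self d)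
  have h2 : 2 * (d * (d + 1) / 2) = d * (d + 1) :=
    Nat.two_mul_div_two_of_even (Nat.even_mul_succ_self d)
  have h3 : d * (d - 1) + d * (d + 1) = 2 * d ^ 2 := by
    cases d with
    | zero => simp
    | succ k => simp only [Nat.add_sub_cancel]; ring
  omega

theorem PC2 {q d r M N : ℕ} (hq : 2 ≤ q) (hr : r.Prime) (hr2 : r ≠ 2) (hrq : ¬ r ∣ q) (hrM : r ∣ M)
    (h : M * (N * (q ^ (d * (d - 1) / 2) *
        ∏ i ∈ Finset.range d, (if Even i then q ^ (i + 1) + 1 else q ^ (i + 1) - 1))) =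
      q ^ (d ^ 2) * ∏ i ∈ Finset.range d, (q ^ (2 * (i + 1)) - 1)) :
    (Odd (orderOf ((q : ℕ) : ZMod r)) ∧ orderOf ((q : ℕ) : ZMod r) ≤ d) ∨
      (4 ∣ orderOf ((q : ℕ) : ZMod r) ∧ orderOf ((q : ℕ) : ZMod r) ≤ 2 * d) := by
  have hqpos : ∀ k : ℕ, 1 ≤ q ^ k := fun k => Nat.one_le_pow _ _ (by omega)
  have hq2 : ∀ k : ℕ, 2 ≤ q ^ (k + 1) := by
    intro k
    calc 2 ≤ q := hq
      _ = q ^ 1 := (pow_one q).symm
      _ ≤ q ^ (k + 1) := Nat.pow_le_pow_right (by omega) (by omega)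
  obtain ⟨A, hA⟩ : ∃ A, A = ∏ i ∈ Finset.range d,
      (if Even i then q ^ (i + 1) + 1 else q ^ (i + 1) - 1) := ⟨_, rfl⟩
  obtain ⟨B, hB⟩ : ∃ B, B = ∏ i ∈ Finset.range d,
      (if Even i then q ^ (i + 1) - 1 else q ^ (i + 1) + 1) := ⟨_, rfl⟩
  have hAB : ∏ i ∈ Finset.range d, (q ^ (2 * (i + 1)) - 1) = A * B := by
    rw [hA, hB, ← Finset.prod_mul_distrib]
    apply Finset.prod_congr rfl
    intro i _
    have e : q ^ (2 * (i + 1)) = (q ^ (i + 1)) ^ 2 := by rw [← pow_mul, mul_comm]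
    rw [e, ← sq_sub_one_eq _ (hqpos _)]
    split_ifs
    · rfl
    · rw [mul_comm]
  have hApos : 0 < A := by
    rw [hA]
    apply Finset.prod_pos
    intro i _
    have := hq2 i
    split_ifs <;> omega
  rw [← hA, hAB, ← tri_add d, pow_add] at h
  have h' : (M * N) * (q ^ (d * (d - 1) / 2) * A) =
      (q ^ (d * (d + 1) / 2) * B) * (q ^ (d * (d - 1) / 2) * A) := by
    rw [mul_assoc, h]; ring
  have hpos : 0 < q ^ (d * (d - 1) / 2) * A := Nat.mul_pos (hqpos _) hApos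
  have hMN : M * N = q ^ (d * (d + 1) / 2) * B := Nat.eq_of_mul_eq_mul_right hpos h'
  have hrMN : r ∣ q ^ (d * (d + 1) / 2) * B := hMN ▸ Dvd.dvd.mul_right hrM N
  have hrB : r ∣ B := by
    rcases (Nat.Prime.dvd_mul hr).1 hrMN with h1 | h1
    · exact absurd (hr.dvd_of_dvd_pow h1) hrq
    · exact h1
  rw [hB] at hrB
  obtain ⟨i, hi, hri⟩ := (Prime.dvd_finsetProd_iff hr.prime _).1 hrB
  have hid : i < d := Finset.mem_range.1 hi
  have : Fact r.Prime := ⟨hr⟩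
  have hr3 : 2 < r := lt_of_le_of_ne hr.two_le (Ne.symm hr2)
  have : Fact (2 < r) := ⟨hr3⟩
  by_cases hev : Even i
  · left
    rw [if_pos hev] at hri
    have h0 : ((q ^ (i + 1) - 1 : ℕ) : ZMod r) = 0 := (ZMod.natCast_eq_zero_iff _ _).2 hri
    rw [Nat.cast_sub (hqpos _), Nat.cast_pow, Nat.cast_one, sub_eq_zero] at h0
    have hdvd : orderOf ((q : ℕ) : ZMod r) ∣ i + 1 := orderOf_dvd_of_pow_eq_one h0
    have hodd : Odd (i + 1) := hev.add_one
    refine ⟨Odd.of_dvd_nat hodd hdvd, ?_⟩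
    have := Nat.le_of_dvd (by omega) hdvd
    omega
  · right
    rw [if_neg hev] at hri
    have hodd : Odd i := Nat.not_even_iff_odd.1 hev
    have h0 : ((q ^ (i + 1) + 1 : ℕ) : ZMod r) = 0 := (ZMod.natCast_eq_zero_iff _ _).2 hri
    rw [Nat.cast_add, Nat.cast_pow, Nat.cast_one] at h0
    have h1 : ((q : ℕ) : ZMod r) ^ (i + 1) = -1 := eq_neg_of_add_eq_zero_left h0
    have h2 : ((q : ℕ) : ZMod r) ^ (2 * (i + 1)) = 1 := by
      rw [mul_comm, pow_mul, h1]; norm_num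
    have hdvd : orderOf ((q : ℕ) : ZMod r) ∣ 2 * (i + 1) := orderOf_dvd_of_pow_eq_one h2
    have hndvd : ¬ orderOf ((q : ℕ) : ZMod r) ∣ i + 1 := by
      intro hd
      have h3 : ((q : ℕ) : ZMod r) ^ (i + 1) = 1 := orderOf_dvd_iff_pow_eq_one.1 hd
      rw [h1] at h3
      exact ZMod.neg_one_ne_one h3
    obtain ⟨e, he⟩ : ∃ e, e = orderOf ((q : ℕ) : ZMod r) := ⟨_, rfl⟩
    rw [← he] at hdvd hndvd ⊢
    obtain ⟨t, ht⟩ := hdvd
    obtain ⟨m, hm⟩ := hodd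
    have htodd : ¬ 2 ∣ t := by
      rintro ⟨s, rfl⟩
      apply hndvd
      exact ⟨s, by nlinarith⟩
    constructor
    · have h4 : 4 ∣ e * t := ⟨m + 1, by rw [← ht, hm]; ring⟩
      have hcop : Nat.Coprime 4 t := by
        have : Nat.Coprime 2 t := (Nat.Prime.coprime_iff_not_dvd Nat.prime_two).2 htodd
        exact Nat.Coprime.pow_left 2 this
      exact hcop.dvd_of_dvd_mul_right h4
    · have := Nat.le_of_dvd (by omega) (Dvd.intro t ht.symm)
      omega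

end Cfsg.Agent.Lib.Helper10_GUSp_PC2
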