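import Mathlib
import Cfsg.Prelude.Def_ClassicalGeometry
import Cfsg.Agent.Lib.Helper13_Symp

/-!
# Quadratic field structures of unitary type on the symplectic space (definitions for S5976)

`IsSkew d θ`: the matrix `θ` is skew-adjoint for the standard alternating form `Cfsg.sympForm d F`;
`Theta0 d Δ`: the standard skew-adjoint matrix with square `Δ`.
-/

set_option autoImplicit false

namespace Cfsg.Agent.Lib.Helper13_GUSpDefs

open Matrix Cfsg.Agent.Lib.Helper13_Symp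

variable {F : Type*} [Field F]

/-- `θ` is skew-adjoint for the standard alternating form -/
def IsSkew (d : ℕ) (θ : Matrix (Fin d ⊕ Fin d) (Fin d ⊕ Fin d) F) : Prop :=
  ∀ u v : Fin d ⊕ Fin d → F, Cfsg.sympForm d F (θ *ᵥ u) v = - Cfsg.sympForm d F u (θ *ᵥ v)

/-- the standard skew-adjoint matrix with square `Δ` -/
def Theta0 (d : ℕ) (Δ : F) : Matrix (Fin d ⊕ Fin d) (Fin d ⊕ Fin d) F :=
  fromBlocks 0 (Δ • (1 : Matrix (Fin d) (Fin d) F)) 1 0

theorem Theta0_mul_self (d : ℕ) (Δ : F) :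
    Theta0 d Δ * Theta0 d Δ = Δ • (1 : Matrix (Fin d ⊕ Fin d) (Fin d ⊕ Fin d) F) := by
  unfold Theta0
  rw [fromBlocks_multiply, ← fromBlocks_one, fromBlocks_smul]
  simp

theorem sympForm_eq_dot (d : ℕ) (u v : Fin d ⊕ Fin d → F) :
    Cfsg.sympForm d F u v = u ⬝ᵥ (J (Fin d) F *ᵥ v) := rfl

theorem matrix_eq_of_dot {ι : Type*} [Fintype ι] [DecidableEq ι] {A B : Matrix ι ι F}
    (h : ∀ u v : ι → F, u ⬝ᵥ (A *ᵥ v) = u ⬝ᵥ (B *ᵥ v)) : A = B := by
  ext i j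
  have := h (Pi.single i 1) (Pi.single j 1)
  rwa [Matrix.mulVec_single_one, Matrix.mulVec_single_one, single_one_dotProduct,
    single_one_dotProduct] at this

theorem sympForm_mulVec_left (d : ℕ) (θ : Matrix (Fin d ⊕ Fin d) (Fin d ⊕ Fin d) F)
    (u v : Fin d ⊕ Fin d → F) :
    Cfsg.sympForm d F (θ *ᵥ u) v = u ⬝ᵥ ((θᵀ * J (Fin d) F) *ᵥ v) := by
  rw [sympForm_eq_dot, ← Matrix.mulVec_mulVec, Matrix.dotProduct_mulVec u, Matrix.vecMul_transpose]

theorem sympForm_mulVec_right (d : ℕ) (θ : Matrix (Fin d ⊕ Fin d) (Fin d ⊕ Fin d) F)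
    (u v : Fin d ⊕ Fin d → F) :
    Cfsg.sympForm d F u (θ *ᵥ v) = u ⬝ᵥ ((J (Fin d) F * θ) *ᵥ v) := by
  rw [sympForm_eq_dot, Matrix.mulVec_mulVec]

theorem isSkew_iff (d : ℕ) (θ : Matrix (Fin d ⊕ Fin d) (Fin d ⊕ Fin d) F) :
    IsSkew d θ ↔ θᵀ * J (Fin d) F = -(J (Fin d) F * θ) := by
  constructor
  · intro h
    apply matrix_eq_of_dot
    intro u v
    rw [← sympForm_mulVec_left, h u v, sympForm_mulVec_right, Matrix.neg_mulVec, dotProduct_neg]
  · intro h u v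
    rw [sympForm_mulVec_left, h, sympForm_mulVec_right, Matrix.neg_mulVec, dotProduct_neg]

theorem Theta0_isSkew (d : ℕ) (Δ : F) : IsSkew d (Theta0 d Δ) := by
  rw [isSkew_iff]
  unfold Theta0 J
  rw [fromBlocks_transpose, fromBlocks_multiply, fromBlocks_multiply, fromBlocks_neg]
  simp

/-- conjugating a skew-adjoint matrix by a symplectic matrix -/
theorem IsSkew.conj {d : ℕ} {θ : Matrix (Fin d ⊕ Fin d) (Fin d ⊕ Fin d) F} (h : IsSkew d θ)
    {P Q : Matrix (Fin d ⊕ Fin d) (Fin d ⊕ Fin d) F} (hP : P ∈ symplecticGroup (Fin d) F)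
    (hPQ : P * Q = 1) : IsSkew d (P * θ * Q) := by
  have hQP : Q * P = 1 := mul_eq_one_comm.1 hPQ
  have hpres := fun u v => sympForm_mulVec_mulVec_of_mem d hP u v
  have key : ∀ u v : Fin d ⊕ Fin d → F, Cfsg.sympForm d F (P *ᵥ u) v = Cfsg.sympForm d F u (Q *ᵥ v) := by
    intro u v
    have := hpres u (Q *ᵥ v)
    rwa [Matrix.mulVec_mulVec, hPQ, Matrix.one_mulVec] at this
  have key' : ∀ u v : Fin d ⊕ Fin d → F, Cfsg.sympForm d F u (P *ᵥ v) = Cfsg.sympForm d F (Q *ᵥ u) v := by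
    intro u v
    have := hpres (Q *ᵥ u) v
    rwa [Matrix.mulVec_mulVec, hPQ, Matrix.one_mulVec] at this
  intro u v
  rw [← Matrix.mulVec_mulVec, ← Matrix.mulVec_mulVec, key, h, ← Matrix.mulVec_mulVec,
    ← Matrix.mulVec_mulVec, key']

end Cfsg.Agent.Lib.Helper13_GUSpDefs
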