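import Mathlib
import Cfsg.Agent.Lib.Helper40_Semisimple

set_option autoImplicit false

/-!
Isometries of finite order of alternating bilinear forms: adjoints of polynomials,
invariant subspaces and their orthogonals.
-/

namespace Cfsg.Agent.Lib.Helper40_SpBasic

open Polynomial Module Cfsg.Agent.Lib.Helper40_Semisimple

variable {F : Type*} [Field F] {V : Type*} [AddCommGroup V] [Module F V]

/-- An isometry `a` of the alternating form `B` with `a ^ N = 1`. -/
structure IsoData (B : LinearMap.BilinForm F V) (a : Module.End F V) (N : ℕ) : Prop where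
  alt : ∀ x, B x x = 0
  iso : ∀ x y, B (a x) (a y) = B x y
  pow : a ^ N = 1
  pos : 0 < N

/-- invariance of a subspace -/
abbrev Inv (a : Module.End F V) (Z : Submodule F V) : Prop := ∀ x ∈ Z, a x ∈ Z

/-- nondegeneracy of the form on a subspace -/
def NDOn (B : LinearMap.BilinForm F V) (Z : Submodule F V) : Prop :=
  ∀ x ∈ Z, (∀ y ∈ Z, B x y = 0) → x = 0

/-- total isotropy of a subspace -/
def IsoOn (B : LinearMap.BilinForm F V) (Z : Submodule F V) : Prop :=
  ∀ x ∈ Z, ∀ y ∈ Z, B x y = 0

theorem Inv.aeval_mem {a : Module.End F V} {Z : Submodule F V} (h : Inv a Z) (p : F[X])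
    {x : V} (hx : x ∈ Z) : aeval a p x ∈ Z := by
  induction p using Polynomial.induction_on' with
  | add p q hp hq =>
    rw [map_add, LinearMap.add_apply]
    exact Z.add_mem hp hq
  | monomial n c =>
    rw [← C_mul_X_pow_eq_monomial, map_mul, aeval_C, map_pow, aeval_X, Module.End.mul_apply,
      Module.algebraMap_end_apply]
    apply Z.smul_mem
    induction n with
    | zero => simpa using hx
    | succ n ih =>
      rw [pow_succ', Module.End.mul_apply]
      exact h _ ih

theorem Inv.pow_mem {a : Module.End F V} {Z : Submodule F V} (h : Inv a Z) (k : ℕ)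
    {x : V} (hx : x ∈ Z) : (a ^ k) x ∈ Z := by
  have := h.aeval_mem (X ^ k) hx
  rwa [map_pow, aeval_X] at this

theorem inv_range_orbitMap (a : Module.End F V) (v : V) :
    Inv a (LinearMap.range (orbitMap a v)) := by
  rintro _ ⟨p, rfl⟩
  exact ⟨X * p, orbitMap_X_mul a v p⟩

theorem self_mem_range_orbitMap (a : Module.End F V) (v : V) :
    v ∈ LinearMap.range (orbitMap a v) :=
  ⟨1, by rw [orbitMap_apply, map_one, Module.End.one_apply]⟩

namespace IsoData

variable {B : LinearMap.BilinForm F V} {a : Module.End F V} {N : ℕ}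

theorem skew (h : IsoData B a N) (x y : V) : B x y = - B y x := by
  have h1 := h.alt (x + y)
  simp only [map_add, LinearMap.add_apply, h.alt x, h.alt y, zero_add, add_zero] at h1
  exact eq_neg_of_add_eq_zero_right h1

theorem isRefl (h : IsoData B a N) : B.IsRefl := by
  intro x y hxy
  rw [h.skew, hxy, neg_zero]

theorem apply_ad (h : IsoData B a N) (x : V) : a ((a ^ (N - 1)) x) = x := by
  rw [← Module.End.mul_apply, ← pow_succ', Nat.sub_add_cancel h.pos, h.pow, Module.End.one_apply]

theorem ad_apply (h : IsoData B a N) (x : V) : (a ^ (N - 1)) (a x) = x := by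
  rw [← Module.End.mul_apply, ← pow_succ, Nat.sub_add_cancel h.pos, h.pow, Module.End.one_apply]

theorem injective (h : IsoData B a N) : Function.Injective a := by
  intro x y hxy
  rw [← h.ad_apply x, ← h.ad_apply y, hxy]

/-- `a ^ (N - 1)` is again an isometry -/
theorem ad (h : IsoData B a N) : IsoData B (a ^ (N - 1)) N where
  alt := h.alt
  iso := by
    intro x y
    rw [← h.iso ((a ^ (N - 1)) x) ((a ^ (N - 1)) y), h.apply_ad, h.apply_ad]
  pow := by rw [← pow_mul, mul_comm, pow_mul, h.pow, one_pow]
  pos := h.pos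

theorem adj1 (h : IsoData B a N) (x y : V) : B (a x) y = B x ((a ^ (N - 1)) y) := by
  rw [← h.iso x ((a ^ (N - 1)) y), h.apply_ad]

theorem adj1' (h : IsoData B a N) (x y : V) : B x (a y) = B ((a ^ (N - 1)) x) y := by
  rw [← h.iso ((a ^ (N - 1)) x) y, h.apply_ad]

theorem adj_pow (h : IsoData B a N) (k : ℕ) (x y : V) :
    B ((a ^ k) x) y = B x (((a ^ (N - 1)) ^ k) y) := by
  induction k generalizing x y with
  | zero => simp
  | succ k ih =>
    rw [pow_succ, Module.End.mul_apply, ih, h.adj1, pow_succ', Module.End.mul_apply]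

/-- the adjoint of a polynomial in `a` is the same polynomial in `a ^ (N - 1)` -/
theorem adj (h : IsoData B a N) (p : F[X]) (x y : V) :
    B (aeval a p x) y = B x (aeval (a ^ (N - 1)) p y) := by
  induction p using Polynomial.induction_on' with
  | add p q hp hq =>
    rw [map_add, map_add, LinearMap.add_apply, LinearMap.add_apply, map_add,
      LinearMap.add_apply, map_add, hp, hq]
  | monomial n c =>
    rw [← C_mul_X_pow_eq_monomial, map_mul, map_mul, aeval_C, aeval_C, map_pow, map_pow,
      aeval_X, aeval_X, Module.End.mul_apply, Module.End.mul_apply, Module.algebraMap_end_apply,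
      Module.algebraMap_end_apply, map_smul, LinearMap.smul_apply, map_smul, h.adj_pow]

theorem adj' (h : IsoData B a N) (p : F[X]) (x y : V) :
    B x (aeval a p y) = B (aeval (a ^ (N - 1)) p x) y := by
  rw [h.skew, h.adj, h.skew, neg_neg]

/-- `aeval (a ^ (N - 1)) p` as a polynomial in `a` -/
theorem aeval_ad (a : Module.End F V) (N : ℕ) (p : F[X]) :
    aeval (a ^ (N - 1)) p = aeval a (expand F (N - 1) p) := by
  rw [expand_aeval]

theorem inv_orthogonal (h : IsoData B a N) {Z : Submodule F V} (hZ : Inv a Z) :
    Inv a (B.orthogonal Z) := by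
  intro y hy
  rw [LinearMap.BilinForm.mem_orthogonal_iff] at hy ⊢
  intro z hz
  rw [h.adj1']
  exact hy _ (hZ.pow_mem (N - 1) hz)

theorem restrict (h : IsoData B a N) {Z : Submodule F V} (hZ : ∀ x ∈ Z, a x ∈ Z) :
    IsoData (B.restrict Z) (a.restrict hZ) N where
  alt := fun x => h.alt x
  iso := fun x y => h.iso x y
  pow := by
    apply LinearMap.ext
    intro z
    apply Subtype.ext
    rw [Module.End.one_apply]
    have : ∀ k : ℕ, (((a.restrict hZ) ^ k) z : V) = (a ^ k) z := by
      intro k
      induction k with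
      | zero => simp
      | succ k ih =>
        rw [pow_succ', pow_succ', Module.End.mul_apply, Module.End.mul_apply,
          LinearMap.coe_restrict_apply, ih]
    rw [this, h.pow, Module.End.one_apply]
  pos := h.pos

end IsoData

section FiniteDim

variable [FiniteDimensional F V] {B : LinearMap.BilinForm F V} {a : Module.End F V} {N : ℕ}

theorem isCompl_orthogonal (h : IsoData B a N) {Z : Submodule F V} (hZ : NDOn B Z) :
    IsCompl Z (B.orthogonal Z) := by
  rw [LinearMap.BilinForm.isCompl_orthogonal_iff_disjoint h.isRefl, Submodule.disjoint_def]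
  intro x hx hx'
  apply hZ x hx
  intro y hy
  rw [h.skew, hx' y hy, neg_zero]

theorem ndOn_orthogonal (h : IsoData B a N) (hB : B.Nondegenerate) {Z : Submodule F V}
    (hZ : NDOn B Z) : NDOn B (B.orthogonal Z) := by
  intro x hx hxy
  apply hB.1 x
  intro v
  have htop : v ∈ Z ⊔ B.orthogonal Z := by
    rw [(isCompl_orthogonal h hZ).sup_eq_top]
    trivial
  obtain ⟨z, hz, c, hc, rfl⟩ := Submodule.mem_sup.1 htop
  rw [map_add, hxy c hc, add_zero, h.skew, hx z hz, neg_zero]

omit [FiniteDimensional F V] in
theorem nondegenerate_restrict (h : IsoData B a N) {Z : Submodule F V} (hZ : NDOn B Z) :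
    (B.restrict Z).Nondegenerate := by
  constructor
  · intro x hx
    apply Subtype.ext
    apply hZ x x.2
    intro y hy
    exact hx ⟨y, hy⟩
  · intro x hx
    apply Subtype.ext
    apply hZ x x.2
    intro y hy
    have := hx ⟨y, hy⟩
    have h2 : B y x = 0 := this
    rw [h.skew, h2, neg_zero]

end FiniteDim

end Cfsg.Agent.Lib.Helper40_SpBasic
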