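import Mathlib
import Cfsg.Agent.Lib.Helper40_SpBasic

set_option autoImplicit false

/-!
Cyclic subspaces `F[a] v` with `f(a) v = 0`, `f` irreducible: the identification with
`AdjoinRoot f`, irreducibility, and the isometry criterion.
-/

namespace Cfsg.Agent.Lib.Helper40_SpCyclic

open Polynomial Module Cfsg.Agent.Lib.Helper40_Semisimple Cfsg.Agent.Lib.Helper40_SpBasic

variable {F : Type*} [Field F] {V : Type*} [AddCommGroup V] [Module F V]

section Cyclic

variable (a : Module.End F V) (v : V) (hv0 : v ≠ 0) (f : F[X]) (hf : Irreducible f)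
  (hfv : aeval a f v = 0)

/-- the cyclic subspace generated by `v` -/
noncomputable abbrev cyc : Submodule F V := LinearMap.range (orbitMap a v)

include hv0 hf hfv

theorem mem_cyc_gen {x : V} (hx : x ∈ cyc a v) (hx0 : x ≠ 0) : ∃ u : F[X], aeval a u x = v := by
  obtain ⟨p, rfl⟩ := hx
  have hnd : ¬ f ∣ p := by
    intro hd
    apply hx0
    exact (orbitMap_eq_zero_iff a v hv0 f hf hfv p).2 hd
  obtain ⟨u, w, huw⟩ := (Irreducible.coprime_iff_not_dvd hf).2 hnd
  refine ⟨w, ?_⟩
  have h1 : aeval a (u * f + w * p) v = v := by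
    rw [huw, map_one, Module.End.one_apply]
  rw [map_add, map_mul, map_mul, LinearMap.add_apply, Module.End.mul_apply,
    Module.End.mul_apply, hfv, map_zero, zero_add] at h1
  rw [orbitMap_apply]
  exact h1

/-- every nonzero invariant subspace of the cyclic subspace is everything -/
theorem cyc_le_of_inv {Y : Submodule F V} (hY : Inv a Y) {x : V} (hxY : x ∈ Y)
    (hx : x ∈ cyc a v) (hx0 : x ≠ 0) : cyc a v ≤ Y := by
  obtain ⟨u, hu⟩ := mem_cyc_gen a v hv0 f hf hfv hx hx0
  have hvY : v ∈ Y := by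
    rw [← hu]
    exact hY.aeval_mem u hxY
  rintro _ ⟨p, rfl⟩
  rw [orbitMap_apply]
  exact hY.aeval_mem p hvY

omit hv0 hf in
theorem aeval_eq_zero_of_mem_cyc {x : V} (hx : x ∈ cyc a v) : aeval a f x = 0 := by
  obtain ⟨p, rfl⟩ := hx
  rw [orbitMap_apply, ← Module.End.mul_apply, ← map_mul, mul_comm, map_mul,
    Module.End.mul_apply, hfv, map_zero]

theorem cyc_eq_of_mem {x : V} (hx : x ∈ cyc a v) (hx0 : x ≠ 0) : cyc a x = cyc a v := by
  apply le_antisymm
  · rintro _ ⟨p, rfl⟩
    rw [orbitMap_apply]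
    exact (inv_range_orbitMap a v).aeval_mem p hx
  · exact cyc_le_of_inv a v hv0 f hf hfv (inv_range_orbitMap a x) (self_mem_range_orbitMap a x)
      hx hx0

end Cyclic

section Forms

variable {B : LinearMap.BilinForm F V} {a : Module.End F V} {N : ℕ}

/-- A cyclic vector with a nonzero moment generates a nondegenerate subspace. -/
theorem ndOn_cyc (h : IsoData B a N) (v : V) (f : F[X]) (hf : Irreducible f)
    (hfv : aeval a f v = 0) (p : F[X]) (hp : B v (aeval a p v) ≠ 0) : NDOn B (cyc a v) := by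
  have hv0 : v ≠ 0 := by
    rintro rfl
    apply hp
    simp
  intro x hx hxy
  by_contra hx0
  -- x lies in the orthogonal of the cyclic subspace, which is invariant
  have hxo : x ∈ B.orthogonal (cyc a v) := by
    rw [LinearMap.BilinForm.mem_orthogonal_iff]
    intro y hy
    rw [h.skew, hxy y hy, neg_zero]
  have hle := cyc_le_of_inv a v hv0 f hf hfv (h.inv_orthogonal (inv_range_orbitMap a v)) hxo hx hx0
  have hvo := hle (self_mem_range_orbitMap a v)
  rw [LinearMap.BilinForm.mem_orthogonal_iff] at hvo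
  have := hvo (aeval a p v) ⟨p, rfl⟩
  apply hp
  rw [h.skew, this, neg_zero]

end Forms

section Equiv

variable {W : Type*} [AddCommGroup W] [Module F W]

/-- Two cyclic vectors killed by the same irreducible polynomial generate isomorphic
subspaces. -/
theorem exists_cyc_equiv (a : Module.End F V) (b : Module.End F W) (u : V) (w : W)
    (hu0 : u ≠ 0) (hw0 : w ≠ 0) (f : F[X]) (hf : Irreducible f) (hfu : aeval a f u = 0)
    (hfw : aeval b f w = 0) :
    ∃ e : cyc a u ≃ₗ[F] cyc b w, ∀ p : F[X],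
      e ⟨orbitMap a u p, LinearMap.mem_range_self (orbitMap a u) p⟩ =
        ⟨orbitMap b w p, LinearMap.mem_range_self (orbitMap b w) p⟩ := by
  set ψa := orbitMap a u with hψa
  set ψb := orbitMap b w with hψb
  have hker : LinearMap.ker ψa = LinearMap.ker ψb := by
    ext p
    rw [LinearMap.mem_ker, LinearMap.mem_ker, orbitMap_eq_zero_iff a u hu0 f hf hfu,
      orbitMap_eq_zero_iff b w hw0 f hf hfw]
  let eZ : LinearMap.range ψa ≃ₗ[F] LinearMap.range ψb :=
    (ψa.quotKerEquivRange.symm.trans (Submodule.quotEquivOfEq _ _ hker)).trans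
      ψb.quotKerEquivRange
  refine ⟨eZ, fun p => ?_⟩
  simp only [eZ, LinearEquiv.trans_apply]
  rw [LinearMap.quotKerEquivRange_symm_apply_image, Submodule.mkQ_apply]
  rw [Submodule.quotEquivOfEq_mk]
  apply Subtype.ext
  rw [LinearMap.quotKerEquivRange_apply_mk]

variable {B : LinearMap.BilinForm F V} {B' : LinearMap.BilinForm F W}
  {a : Module.End F V} {b : Module.End F W} {N : ℕ}

/-- Cyclic vectors with the same moments generate isometric subspaces. -/
theorem exists_cyc_isometry (h : IsoData B a N) (h' : IsoData B' b N) (u : V) (w : W)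
    (hu0 : u ≠ 0) (hw0 : w ≠ 0) (f : F[X]) (hf : Irreducible f) (hfu : aeval a f u = 0)
    (hfw : aeval b f w = 0) (hτ : ∀ p : F[X], B u (aeval a p u) = B' w (aeval b p w)) :
    ∃ e : cyc a u ≃ₗ[F] cyc b w,
      (∀ z : cyc a u, e ((a.restrict (inv_range_orbitMap a u)) z) =
        (b.restrict (inv_range_orbitMap b w)) (e z)) ∧
      ∀ x y : cyc a u, B' (e x : W) (e y : W) = B (x : V) (y : V) := by
  obtain ⟨e, he⟩ := exists_cyc_equiv a b u w hu0 hw0 f hf hfu hfw
  refine ⟨e, ?_, ?_⟩
  · rintro ⟨_, ⟨p, rfl⟩⟩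
    have h1 : (a.restrict (inv_range_orbitMap a u))
        ⟨orbitMap a u p, LinearMap.mem_range_self (orbitMap a u) p⟩ =
        ⟨orbitMap a u (X * p), LinearMap.mem_range_self (orbitMap a u) (X * p)⟩ := by
      apply Subtype.ext
      rw [LinearMap.coe_restrict_apply]
      exact (orbitMap_X_mul a u p).symm
    rw [h1, he, he]
    apply Subtype.ext
    rw [LinearMap.coe_restrict_apply]
    exact orbitMap_X_mul b w p
  · rintro ⟨_, ⟨p, rfl⟩⟩ ⟨_, ⟨r, rfl⟩⟩
    rw [he, he]
    show B' (orbitMap b w p) (orbitMap b w r) = B (orbitMap a u p) (orbitMap a u r)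
    rw [orbitMap_apply, orbitMap_apply, orbitMap_apply, orbitMap_apply]
    rw [h.adj, h'.adj, IsoData.aeval_ad, IsoData.aeval_ad, ← Module.End.mul_apply,
      ← Module.End.mul_apply, ← map_mul, ← map_mul, hτ]

end Equiv

section Equiv2

variable {W : Type*} [AddCommGroup W] [Module F W]

/-- the isomorphism of cyclic subspaces commutes with all polynomials -/
theorem exists_cyc_equiv' (a : Module.End F V) (b : Module.End F W) (u : V) (w : W)
    (hu0 : u ≠ 0) (hw0 : w ≠ 0) (f : F[X]) (hf : Irreducible f) (hfu : aeval a f u = 0)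
    (hfw : aeval b f w = 0) :
    ∃ e : cyc a u ≃ₗ[F] cyc b w, ∀ (r : F[X]) (z : cyc a u)
      (hz : aeval a r (z : V) ∈ cyc a u),
      ((e ⟨aeval a r (z : V), hz⟩ : cyc b w) : W) = aeval b r ((e z : cyc b w) : W) := by
  obtain ⟨e, he⟩ := exists_cyc_equiv a b u w hu0 hw0 f hf hfu hfw
  refine ⟨e, ?_⟩
  rintro r ⟨_, ⟨p, rfl⟩⟩ hz
  have h1 : (⟨aeval a r (orbitMap a u p), hz⟩ : cyc a u) =
      ⟨orbitMap a u (r * p), LinearMap.mem_range_self (orbitMap a u) (r * p)⟩ := by
    apply Subtype.ext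
    show aeval a r (orbitMap a u p) = orbitMap a u (r * p)
    rw [orbitMap_apply, orbitMap_apply, map_mul, Module.End.mul_apply]
  rw [h1, he, he]
  show orbitMap b w (r * p) = aeval b r (orbitMap b w p)
  rw [orbitMap_apply, orbitMap_apply, map_mul, Module.End.mul_apply]

end Equiv2

end Cfsg.Agent.Lib.Helper40_SpCyclic
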