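import Mathlib
import Cfsg.Agent.Lib.Helper40_SpCyclic

set_option autoImplicit false

/-!
Hyperbolic pairs of irreducible invariant subspaces.
-/

namespace Cfsg.Agent.Lib.Helper40_SpHyperbolic

open Polynomial Module Cfsg.Agent.Lib.Helper40_Semisimple Cfsg.Agent.Lib.Helper40_SpBasic
  Cfsg.Agent.Lib.Helper40_SpCyclic

variable {F : Type*} [Field F] {V : Type*} [AddCommGroup V] [Module F V]
variable {B : LinearMap.BilinForm F V} {a : Module.End F V} {N : ℕ}

/-- If all moments of `v` vanish then the cyclic subspace is totally isotropic. -/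
theorem isoOn_cyc (h : IsoData B a N) (v : V) (hm : ∀ p : F[X], B v (aeval a p v) = 0) :
    IsoOn B (cyc a v) := by
  rintro _ ⟨p, rfl⟩ _ ⟨r, rfl⟩
  rw [orbitMap_apply, orbitMap_apply, h.adj, IsoData.aeval_ad, ← Module.End.mul_apply, ← map_mul]
  exact hm _

section FD

variable [FiniteDimensional F V]

/-- the invariant complement of the orthogonal of an isotropic cyclic subspace is
irreducible -/
theorem compl_irreducible (h : IsoData B a N) (hB : B.Nondegenerate) (v : V) (hv0 : v ≠ 0)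
    (f : F[X]) (hf : Irreducible f) (hfv : aeval a f v = 0) (Z₁ : Submodule F V)
    (hc : IsCompl (B.orthogonal (cyc a v)) Z₁) (Y : Submodule F V) (hY : Inv a Y)
    (hYZ : Y ≤ Z₁) (hY0 : Y ≠ ⊥) : Y = Z₁ := by
  have hdis : B.orthogonal Y ⊓ cyc a v = ⊥ := by
    rw [eq_bot_iff]
    intro x hx
    rw [Submodule.mem_bot]
    by_contra hx0
    have hinv : Inv a (B.orthogonal Y ⊓ cyc a v) := by
      intro z hz
      rw [Submodule.mem_inf] at hz ⊢
      exact ⟨h.inv_orthogonal hY z hz.1, inv_range_orbitMap a v z hz.2⟩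
    have hle := cyc_le_of_inv a v hv0 f hf hfv hinv hx (Submodule.mem_inf.1 hx).2 hx0
    apply hY0
    rw [eq_bot_iff]
    intro y hy
    rw [Submodule.mem_bot]
    have hy' : y ∈ B.orthogonal (cyc a v) ⊓ Z₁ := by
      rw [Submodule.mem_inf]
      refine ⟨?_, hYZ hy⟩
      rw [LinearMap.BilinForm.mem_orthogonal_iff]
      intro z hz
      have := (Submodule.mem_inf.1 (hle hz)).1
      rw [LinearMap.BilinForm.mem_orthogonal_iff] at this
      rw [h.skew, this y hy, neg_zero]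
    rw [hc.inf_eq_bot] at hy'
    exact hy'
  have h1 := Submodule.finrank_sup_add_finrank_inf_eq (B.orthogonal Y) (cyc a v)
  rw [hdis, finrank_bot, add_zero] at h1
  have h2 := LinearMap.BilinForm.finrank_orthogonal hB Y
  have h3 := LinearMap.BilinForm.finrank_orthogonal hB (cyc a v)
  have h4 := Submodule.finrank_add_eq_of_isCompl hc
  have h5 := Submodule.finrank_le (B.orthogonal Y ⊔ cyc a v)
  have h6 := Submodule.finrank_le Y
  have h7 := Submodule.finrank_le (cyc a v)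
  apply Submodule.eq_of_le_of_finrank_le hYZ
  omega

/-- In the isotropic case there is an isotropic invariant partner. -/
theorem exists_hyperbolic (h : IsoData B a N) (hB : B.Nondegenerate) (ha : a.IsSemisimple)
    (v : V) (hv0 : v ≠ 0) (f : F[X]) (hf : Irreducible f) (hfv : aeval a f v = 0)
    (hcase : ∀ u : V, aeval a f u = 0 → ∀ p : F[X], B u (aeval a p u) = 0) :
    ∃ Z₁ : Submodule F V, Inv a Z₁ ∧ IsCompl (B.orthogonal (cyc a v)) Z₁ ∧ IsoOn B Z₁ := by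
  have hinv0 : Inv a (B.orthogonal (cyc a v)) := h.inv_orthogonal (inv_range_orbitMap a v)
  obtain ⟨Z₁, hZ₁', hc⟩ := (Module.End.isSemisimple_iff.1 ha) (B.orthogonal (cyc a v))
    (by rw [Module.End.mem_invtSubmodule]; exact hinv0)
  have hZ₁ : Inv a Z₁ := by
    rw [Module.End.mem_invtSubmodule] at hZ₁'; exact hZ₁'
  refine ⟨Z₁, hZ₁, hc, ?_⟩
  -- the radical of the form on Z₁
  have hRinv : Inv a (Z₁ ⊓ B.orthogonal Z₁) := by
    intro z hz
    rw [Submodule.mem_inf] at hz ⊢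
    exact ⟨hZ₁ z hz.1, h.inv_orthogonal hZ₁ z hz.2⟩
  by_cases hR : Z₁ ⊓ B.orthogonal Z₁ = ⊥
  · exfalso
    -- Z₁ is nondegenerate, hence killed by f(a)
    have hnd : NDOn B Z₁ := by
      intro x hx hxy
      have : x ∈ Z₁ ⊓ B.orthogonal Z₁ := by
        rw [Submodule.mem_inf]
        refine ⟨hx, ?_⟩
        rw [LinearMap.BilinForm.mem_orthogonal_iff]
        intro y hy
        rw [h.skew, hxy y hy, neg_zero]
      rw [hR] at this
      exact this
    have hkill : ∀ y ∈ Z₁, aeval (a ^ (N - 1)) f y = 0 := by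
      intro y hy
      have hmem : aeval (a ^ (N - 1)) f y ∈ B.orthogonal (cyc a v) ⊓ Z₁ := by
        rw [Submodule.mem_inf]
        refine ⟨?_, ?_⟩
        · rw [LinearMap.BilinForm.mem_orthogonal_iff]
          intro z hz
          rw [← h.adj, aeval_eq_zero_of_mem_cyc a v f hfv hz, map_zero, LinearMap.zero_apply]
        · rw [IsoData.aeval_ad]
          exact hZ₁.aeval_mem _ hy
      rw [hc.inf_eq_bot] at hmem
      exact hmem
    have hkill' : ∀ z ∈ Z₁, aeval a f z = 0 := by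
      intro z hz
      apply hnd _ (hZ₁.aeval_mem f hz)
      intro y hy
      rw [h.adj, hkill y hy, map_zero]
    -- Z₁ is nonzero
    have hZ₁0 : Z₁ ≠ ⊥ := by
      intro h0
      have h3 := LinearMap.BilinForm.finrank_orthogonal hB (cyc a v)
      have h4 := Submodule.finrank_add_eq_of_isCompl hc
      rw [h0, finrank_bot, add_zero] at h4
      have h7 := Submodule.finrank_le (cyc a v)
      have h8 : 0 < finrank F (cyc a v) := by
        rw [Module.finrank_pos_iff_exists_ne_zero]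
        refine ⟨⟨v, self_mem_range_orbitMap a v⟩, ?_⟩
        intro h9
        exact hv0 (congrArg Subtype.val h9)
      omega
    obtain ⟨z, hz, hz0⟩ := Submodule.exists_mem_ne_zero_of_ne_bot hZ₁0
    have hcz : cyc a z = Z₁ := by
      apply compl_irreducible h hB v hv0 f hf hfv Z₁ hc (cyc a z) (inv_range_orbitMap a z)
      · rintro _ ⟨p, rfl⟩
        rw [orbitMap_apply]
        exact hZ₁.aeval_mem p hz
      · intro h0
        have : z ∈ cyc a z := self_mem_range_orbitMap a z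
        rw [h0] at this
        exact hz0 this
    apply hz0
    apply hnd z hz
    intro y hy
    rw [← hcz] at hy
    obtain ⟨p, rfl⟩ := hy
    rw [orbitMap_apply]
    exact hcase z (hkill' z hz) p
  · -- the radical is everything
    have hReq : Z₁ ⊓ B.orthogonal Z₁ = Z₁ :=
      compl_irreducible h hB v hv0 f hf hfv Z₁ hc _ hRinv inf_le_left hR
    intro x hx y hy
    have hy' : y ∈ Z₁ ⊓ B.orthogonal Z₁ := by rw [hReq]; exact hy
    have hy'' := (Submodule.mem_inf.1 hy').2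
    rw [LinearMap.BilinForm.mem_orthogonal_iff] at hy''
    exact hy'' x hx

end FD

/-- a pair of isotropic invariant subspaces in perfect duality -/
structure HypPair (B : LinearMap.BilinForm F V) (a : Module.End F V) (Z₀ Z₁ : Submodule F V) :
    Prop where
  inv0 : Inv a Z₀
  inv1 : Inv a Z₁
  iso0 : IsoOn B Z₀
  iso1 : IsoOn B Z₁
  compl : IsCompl (B.orthogonal Z₀) Z₁

namespace HypPair

variable {Z₀ Z₁ : Submodule F V}

theorem le_orth (hp : HypPair B a Z₀ Z₁) : Z₀ ≤ B.orthogonal Z₀ := by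
  intro x hx
  rw [LinearMap.BilinForm.mem_orthogonal_iff]
  intro y hy
  exact hp.iso0 y hy x hx

theorem pairing_injective (hp : HypPair B a Z₀ Z₁) {z1 : V} (hz1 : z1 ∈ Z₁)
    (hz : ∀ z0 ∈ Z₀, B z0 z1 = 0) : z1 = 0 := by
  have : z1 ∈ B.orthogonal Z₀ ⊓ Z₁ := by
    rw [Submodule.mem_inf]
    refine ⟨?_, hz1⟩
    rw [LinearMap.BilinForm.mem_orthogonal_iff]
    exact hz
  rw [hp.compl.inf_eq_bot] at this
  exact this

theorem disjoint (hp : HypPair B a Z₀ Z₁) : Disjoint Z₀ Z₁ := by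
  rw [Submodule.disjoint_def]
  intro x hx0 hx1
  apply hp.pairing_injective hx1
  intro z0 hz0
  exact hp.iso0 z0 hz0 x hx0

theorem inv_sup (hp : HypPair B a Z₀ Z₁) : Inv a (Z₀ ⊔ Z₁) := by
  intro x hx
  obtain ⟨z0, hz0, z1, hz1, rfl⟩ := Submodule.mem_sup.1 hx
  rw [map_add]
  exact Submodule.add_mem_sup (hp.inv0 z0 hz0) (hp.inv1 z1 hz1)

theorem ndOn_sup (hp : HypPair B a Z₀ Z₁) (h : IsoData B a N) (hB : B.Nondegenerate) :
    NDOn B (Z₀ ⊔ Z₁) := by
  intro x hx hxy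
  obtain ⟨z0, hz0, z1, hz1, rfl⟩ := Submodule.mem_sup.1 hx
  have hz1' : z1 = 0 := by
    apply hp.pairing_injective hz1
    intro y0 hy0
    have := hxy y0 (Submodule.mem_sup_left hy0)
    rw [map_add, LinearMap.add_apply, hp.iso0 z0 hz0 y0 hy0, zero_add] at this
    rw [h.skew, this, neg_zero]
  subst hz1'
  rw [add_zero] at hxy ⊢
  apply hB.1 z0
  intro y
  have htop : y ∈ B.orthogonal Z₀ ⊔ Z₁ := by
    rw [hp.compl.sup_eq_top]
    trivial
  obtain ⟨c, hc, y1, hy1, rfl⟩ := Submodule.mem_sup.1 htop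
  rw [LinearMap.BilinForm.mem_orthogonal_iff] at hc
  rw [map_add, hc z0 hz0, zero_add]
  exact hxy y1 (Submodule.mem_sup_right hy1)

theorem finrank_eq [FiniteDimensional F V] (hp : HypPair B a Z₀ Z₁) (hB : B.Nondegenerate) :
    finrank F Z₁ = finrank F Z₀ := by
  have h3 := LinearMap.BilinForm.finrank_orthogonal hB Z₀
  have h4 := Submodule.finrank_add_eq_of_isCompl hp.compl
  have h7 := Submodule.finrank_le Z₀
  omega

/-- the internal direct sum decomposition of `Z₀ ⊔ Z₁` -/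
theorem exists_sumEquiv (hp : HypPair B a Z₀ Z₁) :
    ∃ ψ : (Z₀ × Z₁) ≃ₗ[F] ↥(Z₀ ⊔ Z₁), ∀ s : Z₀ × Z₁, ((ψ s : ↥(Z₀ ⊔ Z₁)) : V) = s.1 + s.2 := by
  let g : (Z₀ × Z₁) →ₗ[F] ↥(Z₀ ⊔ Z₁) :=
    (LinearMap.coprod Z₀.subtype Z₁.subtype).codRestrict (Z₀ ⊔ Z₁) (by
      rintro ⟨z0, z1⟩
      rw [LinearMap.coprod_apply]
      exact Submodule.add_mem_sup z0.2 z1.2)
  have hg : ∀ s : Z₀ × Z₁, ((g s : ↥(Z₀ ⊔ Z₁)) : V) = s.1 + s.2 := by
    rintro ⟨z0, z1⟩
    rfl
  have hinj : Function.Injective g := by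
    rw [← LinearMap.ker_eq_bot, LinearMap.ker_eq_bot']
    rintro ⟨z0, z1⟩ hs
    have h1 : (z0 : V) + (z1 : V) = 0 := by
      have := congrArg Subtype.val hs
      rwa [hg] at this
    have h2 : (z0 : V) = -(z1 : V) := eq_neg_of_add_eq_zero_left h1
    have h3 : (z0 : V) ∈ Z₁ := by
      rw [h2]
      exact Z₁.neg_mem z1.2
    have h4 : (z0 : V) = 0 := by
      have := Submodule.disjoint_def.1 hp.disjoint (z0 : V) z0.2 h3
      exact this
    have h5 : (z1 : V) = 0 := by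
      rw [h4, zero_add] at h1
      exact h1
    apply Prod.ext
    · exact Subtype.ext h4
    · exact Subtype.ext h5
  have hsurj : Function.Surjective g := by
    rintro ⟨x, hx⟩
    obtain ⟨z0, hz0, z1, hz1, rfl⟩ := Submodule.mem_sup.1 hx
    refine ⟨(⟨z0, hz0⟩, ⟨z1, hz1⟩), ?_⟩
    apply Subtype.ext
    rw [hg]
  exact ⟨LinearEquiv.ofBijective g ⟨hinj, hsurj⟩, hg⟩

end HypPair

section TwoSided

variable {W : Type*} [AddCommGroup W] [Module F W] {B' : LinearMap.BilinForm F W}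
  {b : Module.End F W} [FiniteDimensional F V] [FiniteDimensional F W]

/-- Two hyperbolic pairs over the same irreducible polynomial are isometric, compatibly with
the isometries. -/
theorem exists_hyp_isometry (h : IsoData B a N) (h' : IsoData B' b N) (hB : B.Nondegenerate)
    (hB' : B'.Nondegenerate) (v : V) (w : W) (hv0 : v ≠ 0) (hw0 : w ≠ 0) (f : F[X])
    (hf : Irreducible f) (hfv : aeval a f v = 0) (hfw : aeval b f w = 0)
    (Z₁ : Submodule F V) (Z₁' : Submodule F W) (hp : HypPair B a (cyc a v) Z₁)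
    (hp' : HypPair B' b (cyc b w) Z₁') :
    ∃ (hZ : Inv a (cyc a v ⊔ Z₁)) (hZ' : Inv b (cyc b w ⊔ Z₁'))
      (e : ↥(cyc a v ⊔ Z₁) ≃ₗ[F] ↥(cyc b w ⊔ Z₁')),
      (∀ z, e ((a.restrict hZ) z) = (b.restrict hZ') (e z)) ∧
      ∀ x y : ↥(cyc a v ⊔ Z₁), B' (e x : W) (e y : W) = B (x : V) (y : V) := by
  obtain ⟨φ₀, hφ₀⟩ := exists_cyc_equiv' a b v w hv0 hw0 f hf hfv hfw
  -- equivariance of φ₀ for powers
  have hφ₀pow : ∀ (k : ℕ) (z0 : cyc a v) (hz : (a ^ k) (z0 : V) ∈ cyc a v),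
      ((φ₀ ⟨(a ^ k) (z0 : V), hz⟩ : cyc b w) : W) = (b ^ k) ((φ₀ z0 : cyc b w) : W) := by
    intro k z0 hz
    have hz' : aeval a ((X : F[X]) ^ k) (z0 : V) ∈ cyc a v := by
      rw [map_pow, aeval_X]; exact hz
    have h1 : (⟨(a ^ k) (z0 : V), hz⟩ : cyc a v) = ⟨aeval a ((X : F[X]) ^ k) (z0 : V), hz'⟩ := by
      apply Subtype.ext
      show (a ^ k) (z0 : V) = aeval a ((X : F[X]) ^ k) (z0 : V)
      rw [map_pow, aeval_X]
    rw [h1, hφ₀, map_pow, aeval_X]
  -- the dual pairings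
  let δ : Z₁ →ₗ[F] Module.Dual F (cyc a v) := B.flip.domRestrict₁₂ Z₁ (cyc a v)
  have hδ : ∀ (z1 : Z₁) (z0 : cyc a v), δ z1 z0 = B (z0 : V) (z1 : V) := fun z1 z0 => rfl
  have hδinj : Function.Injective δ := by
    rw [← LinearMap.ker_eq_bot, LinearMap.ker_eq_bot']
    intro z1 hz1
    apply Subtype.ext
    apply hp.pairing_injective z1.2
    intro z0 hz0
    have := LinearMap.congr_fun hz1 ⟨z0, hz0⟩
    rwa [hδ] at this
  have hdim : finrank F Z₁ = finrank F (Module.Dual F (cyc a v)) := by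
    rw [Subspace.dual_finrank_eq, hp.finrank_eq hB]
  let δE : Z₁ ≃ₗ[F] Module.Dual F (cyc a v) := LinearMap.linearEquivOfInjective δ hδinj hdim
  have hδE : ∀ z1, δE z1 = δ z1 := fun z1 => rfl
  let δ' : Z₁' →ₗ[F] Module.Dual F (cyc b w) := B'.flip.domRestrict₁₂ Z₁' (cyc b w)
  have hδ' : ∀ (z1 : Z₁') (z0 : cyc b w), δ' z1 z0 = B' (z0 : W) (z1 : W) := fun z1 z0 => rfl
  have hδ'inj : Function.Injective δ' := by
    rw [← LinearMap.ker_eq_bot, LinearMap.ker_eq_bot']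
    intro z1 hz1
    apply Subtype.ext
    apply hp'.pairing_injective z1.2
    intro z0 hz0
    have := LinearMap.congr_fun hz1 ⟨z0, hz0⟩
    rwa [hδ'] at this
  have hdim' : finrank F Z₁' = finrank F (Module.Dual F (cyc b w)) := by
    rw [Subspace.dual_finrank_eq, hp'.finrank_eq hB']
  let δE' : Z₁' ≃ₗ[F] Module.Dual F (cyc b w) :=
    LinearMap.linearEquivOfInjective δ' hδ'inj hdim'
  have hδE' : ∀ z1, δE' z1 = δ' z1 := fun z1 => rfl
  let φ₁ : Z₁ ≃ₗ[F] Z₁' := (δE.trans φ₀.symm.dualMap).trans δE'.symm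
  have key : ∀ (z0 : cyc a v) (z1 : Z₁),
      B' ((φ₀ z0 : cyc b w) : W) ((φ₁ z1 : Z₁') : W) = B (z0 : V) (z1 : V) := by
    intro z0 z1
    have h1 : δE' (φ₁ z1) = φ₀.symm.dualMap (δE z1) := by
      simp only [φ₁, LinearEquiv.trans_apply, LinearEquiv.apply_symm_apply]
    have h2 := LinearMap.congr_fun h1 (φ₀ z0)
    rw [hδE', hδ', LinearEquiv.dualMap_apply, LinearEquiv.symm_apply_apply, hδE, hδ] at h2
    exact h2
  -- equivariance of φ₁
  have hφ₁a : ∀ (z1 : Z₁) (hz : a (z1 : V) ∈ Z₁),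
      ((φ₁ ⟨a (z1 : V), hz⟩ : Z₁') : W) = b ((φ₁ z1 : Z₁') : W) := by
    intro z1 hz
    have hmem : ((φ₁ ⟨a (z1 : V), hz⟩ : Z₁') : W) - b ((φ₁ z1 : Z₁') : W) ∈ Z₁' :=
      Z₁'.sub_mem (φ₁ _).2 (hp'.inv1 _ (φ₁ z1).2)
    have hzero := hp'.pairing_injective hmem (fun z0' hz0' => by
      obtain ⟨z0, rfl⟩ : ∃ z0 : cyc a v, ((φ₀ z0 : cyc b w) : W) = z0' :=
        ⟨φ₀.symm ⟨z0', hz0'⟩, by rw [LinearEquiv.apply_symm_apply]⟩
      rw [map_sub, key z0 ⟨a (z1 : V), hz⟩, h'.adj1']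
      have hz0mem : (a ^ (N - 1)) (z0 : V) ∈ cyc a v :=
        (inv_range_orbitMap a v).pow_mem (N - 1) z0.2
      rw [← hφ₀pow (N - 1) z0 hz0mem, key ⟨(a ^ (N - 1)) (z0 : V), hz0mem⟩ z1]
      show B (z0 : V) (a (z1 : V)) - B ((a ^ (N - 1)) (z0 : V)) (z1 : V) = 0
      rw [h.adj1', sub_self])
    exact sub_eq_zero.1 hzero
  have hφ₀a : ∀ (z0 : cyc a v) (hz : a (z0 : V) ∈ cyc a v),
      ((φ₀ ⟨a (z0 : V), hz⟩ : cyc b w) : W) = b ((φ₀ z0 : cyc b w) : W) := by
    intro z0 hz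
    have := hφ₀pow 1 z0 (by rw [pow_one]; exact hz)
    simp only [pow_one] at this
    exact this
  -- the sum decompositions
  obtain ⟨ψ, hψ⟩ := hp.exists_sumEquiv
  obtain ⟨ψ', hψ'⟩ := hp'.exists_sumEquiv
  let e : ↥(cyc a v ⊔ Z₁) ≃ₗ[F] ↥(cyc b w ⊔ Z₁') :=
    (ψ.symm.trans (φ₀.prodCongr φ₁)).trans ψ'
  have he : ∀ s : cyc a v × Z₁, ((e (ψ s) : ↥(cyc b w ⊔ Z₁')) : W) =
      ((φ₀ s.1 : cyc b w) : W) + ((φ₁ s.2 : Z₁') : W) := by
    intro s
    simp only [e, LinearEquiv.trans_apply, LinearEquiv.symm_apply_apply, hψ',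
      LinearEquiv.prodCongr_apply]
  refine ⟨hp.inv_sup, hp'.inv_sup, e, ?_, ?_⟩
  · intro z
    obtain ⟨s, rfl⟩ := ψ.surjective z
    have h1 : (a.restrict hp.inv_sup) (ψ s) =
        ψ (⟨a (s.1 : V), hp.inv0 _ s.1.2⟩, ⟨a (s.2 : V), hp.inv1 _ s.2.2⟩) := by
      apply Subtype.ext
      rw [LinearMap.coe_restrict_apply, hψ, hψ, map_add]
    apply Subtype.ext
    rw [h1, he, LinearMap.coe_restrict_apply, he, map_add, hφ₀a, hφ₁a]
  · intro x y
    obtain ⟨s, rfl⟩ := ψ.surjective x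
    obtain ⟨t, rfl⟩ := ψ.surjective y
    rw [he, he, hψ, hψ]
    simp only [map_add, LinearMap.add_apply]
    rw [hp'.iso0 _ (φ₀ s.1).2 _ (φ₀ t.1).2, hp'.iso1 _ (φ₁ s.2).2 _ (φ₁ t.2).2,
      hp.iso0 _ s.1.2 _ t.1.2, hp.iso1 _ s.2.2 _ t.2.2, key,
      h'.skew ((φ₁ s.2 : Z₁') : W), key, ← h.skew]

end TwoSided

end Cfsg.Agent.Lib.Helper40_SpHyperbolic
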