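import Mathlib

set_option autoImplicit false

/-!
A finite field with a nontrivial involution `σ`: every nonzero fixed element is of the form
`x * σ x`.
-/

namespace Cfsg.Agent.Lib.Helper40_FieldInvolution

variable {L : Type*} [Field L]

theorem card_ker_mul_card_range {G : Type*} [Group G] (f : G →* G) :
    Nat.card f.ker * Nat.card f.range = Nat.card G := by
  rw [← Subgroup.index_ker, Subgroup.card_mul_index]

/-- Hilbert 90 together with a count. -/
theorem exists_norm_eq [Finite L] (σ : L →+* L) (hσσ : ∀ x, σ (σ x) = x)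
    (hσ : ∃ x, σ x ≠ x) (s : L) (hs : σ s = s) (hs0 : s ≠ 0) :
    ∃ x : L, x ≠ 0 ∧ x * σ x = s := by
  classical
  let σu : Lˣ →* Lˣ := Units.map (σ : L →* L)
  have hσu : ∀ x : Lˣ, ((σu x : Lˣ) : L) = σ (x : L) := fun x => rfl
  have hσuσu : ∀ x : Lˣ, σu (σu x) = x := by
    intro x
    apply Units.ext
    rw [hσu, hσu, hσσ]
  let Nm : Lˣ →* Lˣ :=
    { toFun := fun x => x * σu x
      map_one' := by simp
      map_mul' := by
        intro x y
        rw [map_mul]
        exact mul_mul_mul_comm x y (σu x) (σu y) }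
  let Mm : Lˣ →* Lˣ :=
    { toFun := fun x => x * (σu x)⁻¹
      map_one' := by simp
      map_mul' := by
        intro x y
        rw [map_mul, _root_.mul_inv_rev, mul_comm (σu y)⁻¹ (σu x)⁻¹]
        exact mul_mul_mul_comm x y (σu x)⁻¹ (σu y)⁻¹ }
  have hNm : ∀ x, Nm x = x * σu x := fun x => rfl
  have hMm : ∀ x, Mm x = x * (σu x)⁻¹ := fun x => rfl
  -- Hilbert 90
  have h90 : Nm.ker ≤ Mm.range := by
    intro μ hμ
    rw [MonoidHom.mem_ker, hNm] at hμ
    have hμ' : (μ : L) * σ (μ : L) = 1 := by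
      have := congrArg Units.val hμ
      rwa [Units.val_mul, hσu, Units.val_one] at this
    -- find x with x + μ σ x ≠ 0
    have hx : ∃ x : L, x + (μ : L) * σ x ≠ 0 := by
      by_contra hcon
      rw [not_exists] at hcon
      have h1 : ∀ x : L, x + (μ : L) * σ x = 0 := fun x => not_not.1 (hcon x)
      have hμ1 : (μ : L) = -1 := by
        have := h1 1
        rw [map_one, mul_one] at this
        exact (neg_eq_of_add_eq_zero_right this).symm
      obtain ⟨x, hx⟩ := hσ
      apply hx
      have := h1 x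
      rw [hμ1] at this
      have h2 : x - σ x = 0 := by
        rw [← this]
        ring
      exact (sub_eq_zero.1 h2).symm
    obtain ⟨x, hx⟩ := hx
    set y : L := x + (μ : L) * σ x with hy
    have hyσ : (μ : L) * σ y = y := by
      rw [hy, map_add, map_mul, hσσ, mul_add, ← mul_assoc, hμ', one_mul, add_comm]
    rw [MonoidHom.mem_range]
    refine ⟨Units.mk0 y hx, ?_⟩
    rw [hMm, mul_inv_eq_iff_eq_mul]
    apply Units.ext
    rw [Units.val_mul, hσu, Units.val_mk0, hyσ]
  -- the image of the norm is fixed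
  have hfix : Nm.range ≤ Mm.ker := by
    rintro _ ⟨x, rfl⟩
    rw [MonoidHom.mem_ker, hMm, hNm, mul_inv_eq_one, map_mul, hσuσu, mul_comm]
  -- count
  have hc1 := card_ker_mul_card_range Nm
  have hc2 := card_ker_mul_card_range Mm
  have hle : Nat.card Nm.ker ≤ Nat.card Mm.range := Subgroup.card_le_of_le h90
  have hpos : 0 < Nat.card Nm.ker := Nat.card_pos
  have hle2 : Nat.card Mm.ker ≤ Nat.card Nm.range := by
    have h3 : Nat.card Nm.ker * Nat.card Mm.ker ≤ Nat.card Nm.ker * Nat.card Nm.range := by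
      rw [hc1, ← hc2, mul_comm (Nat.card Mm.ker)]
      exact Nat.mul_le_mul_right _ hle
    exact Nat.le_of_mul_le_mul_left h3 hpos
  have heq : Nm.range = Mm.ker := Subgroup.eq_of_le_of_card_ge hfix hle2
  have hsu : Units.mk0 s hs0 ∈ Mm.ker := by
    rw [MonoidHom.mem_ker, hMm, mul_inv_eq_one]
    apply Units.ext
    rw [hσu, Units.val_mk0, hs]
  rw [← heq, MonoidHom.mem_range] at hsu
  obtain ⟨x, hx⟩ := hsu
  refine ⟨(x : L), x.ne_zero, ?_⟩
  have := congrArg Units.val hx
  rwa [hNm, Units.val_mul, hσu, Units.val_mk0] at this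

end Cfsg.Agent.Lib.Helper40_FieldInvolution
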