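import Mathlib
import Cfsg.Agent.Lib.Helper40_SpCyclic
import Cfsg.Agent.Lib.Helper40_FieldInvolution

set_option autoImplicit false

/-!
Matching the moments of two cyclic vectors generating nondegenerate irreducible subspaces.
-/

namespace Cfsg.Agent.Lib.Helper40_SpMatch

open Polynomial Module Cfsg.Agent.Lib.Helper40_Semisimple Cfsg.Agent.Lib.Helper40_SpBasic
  Cfsg.Agent.Lib.Helper40_SpCyclic

variable {F : Type*} [Field F] {V : Type*} [AddCommGroup V] [Module F V]

/-- the identification of `F[X]/(f)` with the cyclic subspace -/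
theorem exists_adjoinRoot_equiv (a : Module.End F V) (v : V) (hv0 : v ≠ 0) (f : F[X])
    (hf : Irreducible f) (hfv : aeval a f v = 0) :
    ∃ θ : AdjoinRoot f ≃ₗ[F] cyc a v, ∀ p : F[X], (θ (AdjoinRoot.mk f p) : V) = aeval a p v := by
  set ψ := orbitMap a v with hψ
  let mkl : F[X] →ₗ[F] AdjoinRoot f := (AdjoinRoot.mkₐ f).toLinearMap
  have hmkl : ∀ p, mkl p = AdjoinRoot.mk f p := fun p => rfl
  have hmkl_surj : Function.Surjective mkl := AdjoinRoot.mk_surjective
  let ψZ : F[X] →ₗ[F] LinearMap.range ψ := ψ.rangeRestrict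
  have hψZ_surj : Function.Surjective ψZ := LinearMap.surjective_rangeRestrict ψ
  have hker : LinearMap.ker mkl = LinearMap.ker ψZ := by
    ext p
    rw [LinearMap.mem_ker, LinearMap.mem_ker, hmkl, AdjoinRoot.mk_eq_zero]
    rw [← orbitMap_eq_zero_iff a v hv0 f hf hfv p]
    constructor
    · intro h
      apply Subtype.ext
      exact h
    · intro h
      exact congrArg Subtype.val h
  let θ : AdjoinRoot f ≃ₗ[F] LinearMap.range ψ :=
    ((LinearMap.quotKerEquivOfSurjective mkl hmkl_surj).symm.trans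
      (Submodule.quotEquivOfEq _ _ hker)).trans (LinearMap.quotKerEquivOfSurjective ψZ hψZ_surj)
  refine ⟨θ, fun p => ?_⟩
  have h1 : (LinearMap.quotKerEquivOfSurjective mkl hmkl_surj).symm (AdjoinRoot.mk f p) =
      Submodule.Quotient.mk p := by
    rw [LinearEquiv.symm_apply_eq]
    rfl
  simp only [θ, LinearEquiv.trans_apply]
  rw [h1, Submodule.quotEquivOfEq_mk]
  rfl

section Match

variable {W : Type*} [AddCommGroup W] [Module F W]
variable {B : LinearMap.BilinForm F V} {B' : LinearMap.BilinForm F W}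
  {a : Module.End F V} {b : Module.End F W} {N : ℕ}

/-- an eigenvector for `±1` has vanishing moments -/
theorem moment_eq_zero_of_eigen (h : IsoData B a N) (v : V) (ε : F) (hv : a v = ε • v)
    (p : F[X]) : B v (aeval a p v) = 0 := by
  by_cases hv0 : v = 0
  · subst hv0
    simp
  · have hev : Module.End.HasEigenvector a ε v :=
      ⟨Module.End.mem_eigenspace_iff.2 hv, hv0⟩
    rw [Module.End.aeval_apply_of_hasEigenvector hev, map_smul, h.alt, smul_zero]

theorem exists_matching [Finite F] (h : IsoData B a N) (h' : IsoData B' b N) (v : V) (w : W)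
    (f : F[X]) (hfm : f.Monic) (hf : Irreducible f) (hfv : aeval a f v = 0)
    (hfw : aeval b f w = 0) (p₁ : F[X]) (hp₁ : B v (aeval a p₁ v) ≠ 0) (p₂ : F[X])
    (hp₂ : B' w (aeval b p₂ w) ≠ 0) :
    ∃ u : V, u ≠ 0 ∧ aeval a f u = 0 ∧ ∀ p : F[X], B u (aeval a p u) = B' w (aeval b p w) := by
  classical
  have hv0 : v ≠ 0 := by
    rintro rfl
    apply hp₁
    simp
  have hw0 : w ≠ 0 := by
    rintro rfl
    apply hp₂
    simp
  have : Fact (Irreducible f) := ⟨hf⟩
  have : Module.Finite F (AdjoinRoot f) := hfm.finite_adjoinRoot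
  have : Finite (AdjoinRoot f) := Module.finite_of_finite F
  obtain ⟨θ, hθ⟩ := exists_adjoinRoot_equiv a v hv0 f hf hfv
  obtain ⟨θ', hθ'⟩ := exists_adjoinRoot_equiv b w hw0 f hf hfw
  -- the moment functionals
  let τ : AdjoinRoot f →ₗ[F] F := (B v) ∘ₗ (cyc a v).subtype ∘ₗ (θ : AdjoinRoot f →ₗ[F] cyc a v)
  let τ' : AdjoinRoot f →ₗ[F] F :=
    (B' w) ∘ₗ (cyc b w).subtype ∘ₗ (θ' : AdjoinRoot f →ₗ[F] cyc b w)
  have hτ : ∀ p : F[X], τ (AdjoinRoot.mk f p) = B v (aeval a p v) := by
    intro p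
    simp only [τ, LinearMap.comp_apply, LinearEquiv.coe_coe, Submodule.subtype_apply, hθ]
  have hτ' : ∀ p : F[X], τ' (AdjoinRoot.mk f p) = B' w (aeval b p w) := by
    intro p
    simp only [τ', LinearMap.comp_apply, LinearEquiv.coe_coe, Submodule.subtype_apply, hθ']
  -- self-duality of f
  have hnd : NDOn B (cyc a v) := ndOn_cyc h v f hf hfv p₁ hp₁
  have hmem : aeval (a ^ (N - 1)) f v ∈ cyc a v := by
    rw [IsoData.aeval_ad]
    exact (inv_range_orbitMap a v).aeval_mem _ (self_mem_range_orbitMap a v)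
  have hdual : aeval (a ^ (N - 1)) f v = 0 := by
    apply hnd _ hmem
    intro y hy
    rw [← h.adj', aeval_eq_zero_of_mem_cyc a v f hfv hy, map_zero]
  have hdvd : f ∣ expand F (N - 1) f := by
    rw [← orbitMap_eq_zero_iff a v hv0 f hf hfv, orbitMap_apply, ← IsoData.aeval_ad]
    exact hdual
  have hdvdN : f ∣ X ^ N - 1 := by
    rw [← orbitMap_eq_zero_iff a v hv0 f hf hfv, orbitMap_apply, map_sub, map_pow, aeval_X,
      map_one, h.pow, sub_self, LinearMap.zero_apply]
  set ρ : AdjoinRoot f := AdjoinRoot.root f with hρ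
  have hρN : ρ ^ N = 1 := by
    have := AdjoinRoot.mk_eq_zero.2 hdvdN
    rw [map_sub, map_pow, AdjoinRoot.mk_X, map_one] at this
    exact sub_eq_zero.1 this
  have hρ0 : ρ ≠ 0 := by
    intro h0
    rw [h0, zero_pow h.pos.ne'] at hρN
    exact zero_ne_one hρN
  have hρinv : ρ ^ (N - 1) = ρ⁻¹ := by
    apply eq_inv_of_mul_eq_one_left
    rw [← pow_succ, Nat.sub_add_cancel h.pos, hρN]
  -- the involution
  have hσ0 : eval₂ (↑(Algebra.ofId F (AdjoinRoot f)) : F →+* AdjoinRoot f) (ρ ^ (N - 1)) f = 0 := by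
    have h1 : aeval (ρ ^ (N - 1)) f = AdjoinRoot.mk f (expand F (N - 1) f) := by
      rw [← AdjoinRoot.aeval_eq, expand_aeval]
    have h2 : aeval (ρ ^ (N - 1)) f = 0 := by
      rw [h1]
      exact AdjoinRoot.mk_eq_zero.2 hdvd
    exact h2
  let σ : AdjoinRoot f →ₐ[F] AdjoinRoot f :=
    AdjoinRoot.liftAlgHom f (Algebra.ofId F (AdjoinRoot f)) (ρ ^ (N - 1)) hσ0
  have hσmk : ∀ p : F[X], σ (AdjoinRoot.mk f p) = AdjoinRoot.mk f (expand F (N - 1) p) := by
    intro p
    have h1 : σ (AdjoinRoot.mk f p) = aeval (ρ ^ (N - 1)) p := by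
      simp only [σ, AdjoinRoot.liftAlgHom_mk]
      rfl
    rw [h1, ← AdjoinRoot.aeval_eq, expand_aeval]
  have hσρ : σ ρ = ρ⁻¹ := by
    have := hσmk X
    rw [AdjoinRoot.mk_X, expand_X, map_pow, AdjoinRoot.mk_X] at this
    rw [this, hρinv]
  have hσσ : ∀ x, σ (σ x) = x := by
    intro x
    induction x using AdjoinRoot.induction_on with
    | ih p =>
      have h1 : AdjoinRoot.mk f p = aeval ρ p := (AdjoinRoot.aeval_eq p).symm
      rw [h1, ← aeval_algHom_apply, ← aeval_algHom_apply, hσρ, map_inv₀, hσρ, inv_inv]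
  -- the moments are skew for the involution
  have hτσ : ∀ x, τ (σ x) = - τ x := by
    intro x
    induction x using AdjoinRoot.induction_on with
    | ih p =>
      rw [hσmk, hτ, hτ, ← IsoData.aeval_ad, ← h.adj, h.skew]
  have hτ'σ : ∀ x, τ' (σ x) = - τ' x := by
    intro x
    induction x using AdjoinRoot.induction_on with
    | ih p =>
      rw [hσmk, hτ', hτ', ← IsoData.aeval_ad, ← h'.adj, h'.skew]
  -- the trace-form type pairing
  let Φ : AdjoinRoot f →ₗ[F] Module.Dual F (AdjoinRoot f) :=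
    (LinearMap.mul F (AdjoinRoot f)).compr₂ τ
  have hΦ : ∀ s x, Φ s x = τ (s * x) := fun s x => rfl
  have hΦinj : Function.Injective Φ := by
    rw [← LinearMap.ker_eq_bot, LinearMap.ker_eq_bot']
    intro s hs
    by_contra hs0
    apply hp₁
    rw [← hτ]
    have := LinearMap.congr_fun hs (s⁻¹ * AdjoinRoot.mk f p₁)
    rwa [hΦ, ← mul_assoc, mul_inv_cancel₀ hs0, one_mul, LinearMap.zero_apply] at this
  have hΦsurj : Function.Surjective Φ := by
    have hfin : finrank F (AdjoinRoot f) = finrank F (Module.Dual F (AdjoinRoot f)) :=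
      Subspace.dual_finrank_eq.symm
    exact (LinearMap.linearEquivOfInjective Φ hΦinj hfin).surjective
  obtain ⟨s, hs⟩ := hΦsurj τ'
  have hsx : ∀ x, τ (s * x) = τ' x := fun x => by rw [← hΦ, hs]
  -- s is fixed by the involution
  have hsσ : σ s = s := by
    have h1 : Φ (s - σ s) = 0 := by
      apply LinearMap.ext
      intro y
      rw [hΦ, LinearMap.zero_apply, sub_mul, map_sub]
      have h2 : τ (σ s * y) = τ (s * y) := by
        have h3 : σ s * y = σ (s * σ y) := by rw [map_mul, hσσ]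
        rw [h3, hτσ, hsx, hτ'σ, neg_neg, hsx]
      rw [h2, sub_self]
    have := hΦinj (h1.trans (map_zero Φ).symm)
    exact (sub_eq_zero.1 this).symm
  have hs0 : s ≠ 0 := by
    rintro rfl
    apply hp₂
    rw [← hτ', ← hsx, zero_mul, map_zero]
  -- the involution is not the identity
  have hσne : ∃ x, σ x ≠ x := by
    refine ⟨ρ, fun hfix => ?_⟩
    rw [hσρ] at hfix
    have h1 : ρ * ρ = 1 := by
      nth_rewrite 1 [← hfix]
      exact inv_mul_cancel₀ hρ0
    have h2 : (ρ - 1) * (ρ + 1) = 0 := by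
      have : (ρ - 1) * (ρ + 1) = ρ * ρ - 1 := by ring
      rw [this, h1, sub_self]
    have hev : ∀ ε : F, ρ = algebraMap F (AdjoinRoot f) ε → a v = ε • v := by
      intro ε hε
      have h3 : AdjoinRoot.mk f (X - C ε) = 0 := by
        rw [map_sub, AdjoinRoot.mk_X, AdjoinRoot.mk_C]
        rw [← hρ, hε, sub_eq_zero]
        rfl
      have h4 := hθ (X - C ε)
      rw [h3, map_zero, map_sub, aeval_X, aeval_C, LinearMap.sub_apply,
        Module.algebraMap_end_apply] at h4
      exact (sub_eq_zero.1 h4.symm)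
    rcases mul_eq_zero.1 h2 with h3 | h3
    · apply hp₁
      apply moment_eq_zero_of_eigen h v 1
      apply hev
      rw [map_one]
      exact sub_eq_zero.1 h3
    · apply hp₁
      apply moment_eq_zero_of_eigen h v (-1)
      apply hev
      rw [map_neg, map_one]
      exact eq_neg_of_add_eq_zero_left h3
  -- the norm equation
  obtain ⟨lam, hlam0, hlam⟩ := Helper40_FieldInvolution.exists_norm_eq
    (σ : AdjoinRoot f →+* AdjoinRoot f) hσσ hσne s hsσ hs0
  obtain ⟨l, hl⟩ := AdjoinRoot.mk_surjective lam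
  refine ⟨aeval a l v, ?_, ?_, ?_⟩
  · intro h0
    apply hlam0
    have h1 : θ lam = 0 := by
      apply Subtype.ext
      rw [← hl, hθ, h0]
      rfl
    exact (map_eq_zero_iff θ θ.injective).1 h1
  · exact aeval_eq_zero_of_mem_cyc a v f hfv ⟨l, rfl⟩
  · intro p
    have hL : B (aeval a l v) (aeval a p (aeval a l v)) =
        B v (aeval a (expand F (N - 1) l * p * l) v) := by
      rw [h.adj, IsoData.aeval_ad, map_mul, map_mul, Module.End.mul_apply, Module.End.mul_apply]
    have hR : B' w (aeval b p w) = B v (aeval a (l * expand F (N - 1) l * p) v) := by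
      rw [← hτ', ← hsx, ← hlam, ← hl]
      have h1 : (σ : AdjoinRoot f →+* AdjoinRoot f) (AdjoinRoot.mk f l) =
          AdjoinRoot.mk f (expand F (N - 1) l) := hσmk l
      rw [h1, ← map_mul, ← map_mul, hτ]
    rw [hL, hR]
    have hpoly : expand F (N - 1) l * p * l = l * expand F (N - 1) l * p := by ring
    rw [hpoly]

end Match

end Cfsg.Agent.Lib.Helper40_SpMatch
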