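import Mathlib
import Cfsg.Agent.Lib.Helper40_SpMatch
import Cfsg.Agent.Lib.Helper40_SpHyperbolic

set_option autoImplicit false

/-!
Splitting off isometric nondegenerate pieces from two semisimple isometries with the same
characteristic polynomial.
-/

namespace Cfsg.Agent.Lib.Helper40_SpCases

open Polynomial Module Cfsg.Agent.Lib.Helper40_Semisimple Cfsg.Agent.Lib.Helper40_SpBasic
  Cfsg.Agent.Lib.Helper40_SpCyclic Cfsg.Agent.Lib.Helper40_SpMatch
  Cfsg.Agent.Lib.Helper40_SpHyperbolic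

variable {F : Type*} [Field F] {V : Type*} [AddCommGroup V] [Module F V]
variable {B : LinearMap.BilinForm F V} {a : Module.End F V} {N : ℕ}

/-- A cyclic vector with a nonzero moment forces `f` to be self-dual and not a factor of
`X ^ 2 - 1`. -/
theorem witness_props (h : IsoData B a N) (v : V) (f : F[X]) (hf : Irreducible f)
    (hfv : aeval a f v = 0) (p₁ : F[X]) (hp₁ : B v (aeval a p₁ v) ≠ 0) :
    f ∣ expand F (N - 1) f ∧ ¬ f ∣ X ^ 2 - 1 := by
  have hv0 : v ≠ 0 := by
    rintro rfl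
    apply hp₁
    simp
  have hnd : NDOn B (cyc a v) := ndOn_cyc h v f hf hfv p₁ hp₁
  constructor
  · have hmem : aeval (a ^ (N - 1)) f v ∈ cyc a v := by
      rw [IsoData.aeval_ad]
      exact (inv_range_orbitMap a v).aeval_mem _ (self_mem_range_orbitMap a v)
    have hdual : aeval (a ^ (N - 1)) f v = 0 := by
      apply hnd _ hmem
      intro y hy
      rw [← h.adj', aeval_eq_zero_of_mem_cyc a v f hfv hy, map_zero]
    rw [← orbitMap_eq_zero_iff a v hv0 f hf hfv, orbitMap_apply, ← IsoData.aeval_ad]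
    exact hdual
  · intro hdvd
    have hfac : (X : F[X]) ^ 2 - 1 = (X - C 1) * (X - C (-1)) := by
      rw [map_neg, map_one]
      ring
    rw [hfac] at hdvd
    rcases hf.prime.dvd_or_dvd hdvd with h1 | h1
    · rw [← orbitMap_eq_zero_iff a v hv0 f hf hfv, orbitMap_apply, map_sub, aeval_X, aeval_C,
        LinearMap.sub_apply, Module.algebraMap_end_apply, sub_eq_zero] at h1
      exact hp₁ (moment_eq_zero_of_eigen h v 1 h1 p₁)
    · rw [← orbitMap_eq_zero_iff a v hv0 f hf hfv, orbitMap_apply, map_sub, aeval_X, aeval_C,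
        LinearMap.sub_apply, Module.algebraMap_end_apply, sub_eq_zero] at h1
      exact hp₁ (moment_eq_zero_of_eigen h v (-1) h1 p₁)

/-- The isotropic case is impossible for a self-dual `f` not dividing `X ^ 2 - 1`. -/
theorem caseB_false [FiniteDimensional F V] (h : IsoData B a N) (hB : B.Nondegenerate)
    (ha : a.IsSemisimple) (v : V) (hv0 : v ≠ 0) (f : F[X]) (hf : Irreducible f)
    (hfv : aeval a f v = 0)
    (hcase : ∀ u : V, aeval a f u = 0 → ∀ p : F[X], B u (aeval a p u) = 0)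
    (hdvd : f ∣ expand F (N - 1) f) (hX2 : ¬ f ∣ X ^ 2 - 1) : False := by
  obtain ⟨Z₁, hZ₁, hc, hiso1⟩ := exists_hyperbolic h hB ha v hv0 f hf hfv hcase
  have hiso0 : IsoOn B (cyc a v) := isoOn_cyc h v (hcase v hfv)
  have hp : HypPair B a (cyc a v) Z₁ := ⟨inv_range_orbitMap a v, hZ₁, hiso0, hiso1, hc⟩
  -- f(a) kills Z₁
  have hkill : ∀ z1 ∈ Z₁, aeval a f z1 = 0 := by
    intro z1 hz1
    apply hp.pairing_injective (hZ₁.aeval_mem f hz1)
    intro z0 hz0
    rw [h.adj', IsoData.aeval_ad]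
    obtain ⟨k, hk⟩ := hdvd
    rw [hk, mul_comm, map_mul, Module.End.mul_apply, aeval_eq_zero_of_mem_cyc a v f hfv hz0,
      map_zero, map_zero, LinearMap.zero_apply]
  -- a² = 1 on Z₁
  have hsq : ∀ z1 ∈ Z₁, a (a z1) = z1 := by
    intro z1 hz1
    have h1 : a z1 - (a ^ (N - 1)) z1 = 0 := by
      apply hp.pairing_injective (Z₁.sub_mem (hZ₁ _ hz1) (hZ₁.pow_mem _ hz1))
      intro z0 hz0
      have hu : aeval a f (z0 + z1) = 0 := by
        rw [map_add, aeval_eq_zero_of_mem_cyc a v f hfv hz0, hkill z1 hz1, add_zero]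
      have h2 := hcase (z0 + z1) hu X
      rw [aeval_X] at h2
      simp only [map_add, LinearMap.add_apply] at h2
      rw [hiso0 z0 hz0 _ (inv_range_orbitMap a v _ hz0), hiso1 z1 hz1 _ (hZ₁ _ hz1), zero_add,
        add_zero] at h2
      rw [map_sub, ← h.adj1, h.skew (a z0) z1]
      rw [sub_neg_eq_add, add_comm]
      exact h2
    have h2 : a z1 = (a ^ (N - 1)) z1 := sub_eq_zero.1 h1
    rw [h2, h.apply_ad]
  -- a nonzero vector of Z₁
  have hZ₁0 : Z₁ ≠ ⊥ := by
    intro h0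
    have h3 := hp.finrank_eq hB
    rw [h0, finrank_bot] at h3
    have h8 : 0 < finrank F (cyc a v) := by
      rw [Module.finrank_pos_iff_exists_ne_zero]
      refine ⟨⟨v, self_mem_range_orbitMap a v⟩, ?_⟩
      intro h9
      exact hv0 (congrArg Subtype.val h9)
    omega
  obtain ⟨z, hz, hz0⟩ := Submodule.exists_mem_ne_zero_of_ne_bot hZ₁0
  apply hX2
  rw [← orbitMap_eq_zero_iff a z hz0 f hf (hkill z hz), orbitMap_apply, map_sub, map_pow,
    aeval_X, map_one, LinearMap.sub_apply, Module.End.one_apply, pow_two, Module.End.mul_apply,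
    hsq z hz, sub_self]

section Piece

variable {W : Type*} [AddCommGroup W] [Module F W] {B' : LinearMap.BilinForm F W}
  {b : Module.End F W}

/-- Two semisimple isometries with the same characteristic polynomial have nonzero
nondegenerate invariant subspaces which are compatibly isometric. -/
theorem exists_piece [Finite F] [FiniteDimensional F V] [FiniteDimensional F W]
    (h : IsoData B a N) (h' : IsoData B' b N) (hB : B.Nondegenerate) (hB' : B'.Nondegenerate)
    (ha : a.IsSemisimple) (hb : b.IsSemisimple) (hc : a.charpoly = b.charpoly)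
    (hpos : 0 < finrank F V) :
    ∃ (Z : Submodule F V) (Z' : Submodule F W) (hZ : Inv a Z) (hZ' : Inv b Z')
      (e : Z ≃ₗ[F] Z'), Z ≠ ⊥ ∧ NDOn B Z ∧ NDOn B' Z' ∧
      (∀ z, e ((a.restrict hZ) z) = (b.restrict hZ') (e z)) ∧
      ∀ x y : Z, B' (e x : W) (e y : W) = B (x : V) (y : V) := by
  classical
  have hnotunit : ¬ IsUnit a.charpoly := by
    intro hu
    have := natDegree_eq_zero_of_isUnit hu
    rw [LinearMap.charpoly_natDegree] at this
    omega
  obtain ⟨f, hfm, hf, hfa⟩ := exists_monic_irreducible_factor a.charpoly hnotunit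
  have hfb : f ∣ b.charpoly := hc ▸ hfa
  obtain ⟨v, hv0, hfv⟩ := exists_ne_zero_aeval_eq_zero a f hf hfa
  obtain ⟨w, hw0, hfw⟩ := exists_ne_zero_aeval_eq_zero b f hf hfb
  by_cases hA : ∃ u, aeval a f u = 0 ∧ ∃ p : F[X], B u (aeval a p u) ≠ 0
  · obtain ⟨v₁, hfv₁, p₁, hp₁⟩ := hA
    by_cases hA' : ∃ u, aeval b f u = 0 ∧ ∃ p : F[X], B' u (aeval b p u) ≠ 0
    · obtain ⟨w₁, hfw₁, p₂, hp₂⟩ := hA'
      have hw₁0 : w₁ ≠ 0 := by
        rintro rfl
        apply hp₂
        simp
      obtain ⟨u, hu0, hfu, hmom⟩ := exists_matching h h' v₁ w₁ f hfm hf hfv₁ hfw₁ p₁ hp₁ p₂ hp₂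
      obtain ⟨e, he1, he2⟩ := exists_cyc_isometry h h' u w₁ hu0 hw₁0 f hf hfu hfw₁ hmom
      refine ⟨cyc a u, cyc b w₁, inv_range_orbitMap a u, inv_range_orbitMap b w₁, e, ?_, ?_, ?_,
        he1, he2⟩
      · intro h0
        have : u ∈ cyc a u := self_mem_range_orbitMap a u
        rw [h0] at this
        exact hu0 this
      · exact ndOn_cyc h u f hf hfu p₂ (by rw [hmom]; exact hp₂)
      · exact ndOn_cyc h' w₁ f hf hfw₁ p₂ hp₂
    · exfalso
      have hcase' : ∀ u : W, aeval b f u = 0 → ∀ p : F[X], B' u (aeval b p u) = 0 := by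
        intro u hu p
        by_contra hne
        exact hA' ⟨u, hu, p, hne⟩
      obtain ⟨hd, hX2⟩ := witness_props h v₁ f hf hfv₁ p₁ hp₁
      exact caseB_false h' hB' hb w hw0 f hf hfw hcase' hd hX2
  · have hcase : ∀ u : V, aeval a f u = 0 → ∀ p : F[X], B u (aeval a p u) = 0 := by
      intro u hu p
      by_contra hne
      exact hA ⟨u, hu, p, hne⟩
    by_cases hA' : ∃ u, aeval b f u = 0 ∧ ∃ p : F[X], B' u (aeval b p u) ≠ 0
    · exfalso
      obtain ⟨w₁, hfw₁, p₂, hp₂⟩ := hA'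
      obtain ⟨hd, hX2⟩ := witness_props h' w₁ f hf hfw₁ p₂ hp₂
      exact caseB_false h hB ha v hv0 f hf hfv hcase hd hX2
    · have hcase' : ∀ u : W, aeval b f u = 0 → ∀ p : F[X], B' u (aeval b p u) = 0 := by
        intro u hu p
        by_contra hne
        exact hA' ⟨u, hu, p, hne⟩
      obtain ⟨Z₁, hZ₁, hc1, hiso1⟩ := exists_hyperbolic h hB ha v hv0 f hf hfv hcase
      obtain ⟨Z₁', hZ₁', hc1', hiso1'⟩ := exists_hyperbolic h' hB' hb w hw0 f hf hfw hcase'
      have hp : HypPair B a (cyc a v) Z₁ :=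
        ⟨inv_range_orbitMap a v, hZ₁, isoOn_cyc h v (hcase v hfv), hiso1, hc1⟩
      have hp' : HypPair B' b (cyc b w) Z₁' :=
        ⟨inv_range_orbitMap b w, hZ₁', isoOn_cyc h' w (hcase' w hfw), hiso1', hc1'⟩
      obtain ⟨hZ, hZ', e, he1, he2⟩ :=
        exists_hyp_isometry h h' hB hB' v w hv0 hw0 f hf hfv hfw Z₁ Z₁' hp hp'
      refine ⟨cyc a v ⊔ Z₁, cyc b w ⊔ Z₁', hZ, hZ', e, ?_, hp.ndOn_sup h hB,
        hp'.ndOn_sup h' hB', he1, he2⟩
      intro h0
      have : v ∈ cyc a v ⊔ Z₁ := Submodule.mem_sup_left (self_mem_range_orbitMap a v)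
      rw [h0] at this
      exact hv0 this

end Piece

end Cfsg.Agent.Lib.Helper40_SpCases
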