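import Mathlib
import Cfsg.Agent.Lib.Helper40_SpCases

set_option autoImplicit false

/-!
Semisimple isometries of nondegenerate alternating forms over a finite field with the same
characteristic polynomial are conjugate by an isometry.
-/

namespace Cfsg.Agent.Lib.Helper40_SpConj

open Polynomial Module Cfsg.Agent.Lib.Helper40_Semisimple Cfsg.Agent.Lib.Helper40_SpBasic
  Cfsg.Agent.Lib.Helper40_SpCases

universe u v

variable {F : Type v} [Field F]

theorem exists_isometry_conj [Finite F] (d : ℕ) :
    ∀ {V W : Type u} [AddCommGroup V] [Module F V] [FiniteDimensional F V]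
      [AddCommGroup W] [Module F W] [FiniteDimensional F W]
      (B : LinearMap.BilinForm F V) (B' : LinearMap.BilinForm F W)
      (a : Module.End F V) (b : Module.End F W) (N : ℕ), finrank F V = d →
      IsoData B a N → IsoData B' b N → B.Nondegenerate → B'.Nondegenerate →
      a.IsSemisimple → b.IsSemisimple → a.charpoly = b.charpoly →
      ∃ e : V ≃ₗ[F] W, (∀ v, e (a v) = b (e v)) ∧ ∀ x y, B' (e x) (e y) = B x y := by
  induction d using Nat.strong_induction_on with
  | _ d ih =>
  intro V W _ _ _ _ _ _ B B' a b N hd h h' hB hB' ha hb hc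
  have hdW : finrank F W = d := by
    rw [← LinearMap.charpoly_natDegree b, ← hc, LinearMap.charpoly_natDegree, hd]
  rcases Nat.eq_zero_or_pos d with hd0 | hdpos
  · subst hd0
    have : Subsingleton V := Module.finrank_zero_iff.mp hd
    have : Subsingleton W := Module.finrank_zero_iff.mp hdW
    refine ⟨LinearEquiv.ofSubsingleton V W, fun v => Subsingleton.elim _ _, fun x y => ?_⟩
    rw [Subsingleton.elim x 0, Subsingleton.elim ((LinearEquiv.ofSubsingleton V W) 0) 0]
    simp
  · obtain ⟨Z, Z', hZ, hZ', eZ, hZ0, hnd, hnd', heZ_int, heZ_iso⟩ :=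
      exists_piece h h' hB hB' ha hb hc (by rw [hd]; exact hdpos)
    -- complements
    set C := B.orthogonal Z with hCdef
    set C' := B'.orthogonal Z' with hC'def
    have hC : Inv a C := h.inv_orthogonal hZ
    have hC' : Inv b C' := h'.inv_orthogonal hZ'
    have hcompl : IsCompl Z C := isCompl_orthogonal h hnd
    have hcompl' : IsCompl Z' C' := isCompl_orthogonal h' hnd'
    -- characteristic polynomials
    have hcha := charpoly_eq_mul_of_isCompl a Z C hZ hC hcompl
    have hchb := charpoly_eq_mul_of_isCompl b Z' C' hZ' hC' hcompl'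
    have hZchar : (a.restrict hZ).charpoly = (b.restrict hZ').charpoly := by
      have : b.restrict hZ' = eZ.conj (a.restrict hZ) := by
        apply LinearMap.ext
        intro z
        rw [LinearEquiv.conj_apply, LinearMap.comp_apply, LinearMap.comp_apply]
        simp only [LinearEquiv.coe_coe]
        rw [heZ_int, LinearEquiv.apply_symm_apply]
      rw [this, LinearEquiv.charpoly_conj]
    have hCchar : (a.restrict hC).charpoly = (b.restrict hC').charpoly := by
      rw [hcha, hchb, hZchar] at hc
      exact mul_left_cancel₀ (LinearMap.charpoly_monic _).ne_zero hc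
    -- dimensions
    have hdim : finrank F Z + finrank F C = d := by
      rw [Submodule.finrank_add_eq_of_isCompl hcompl, hd]
    have hZpos : 0 < finrank F Z := by
      rw [Module.finrank_pos_iff_exists_ne_zero]
      obtain ⟨z, hz, hz0⟩ := Submodule.exists_mem_ne_zero_of_ne_bot hZ0
      refine ⟨⟨z, hz⟩, ?_⟩
      intro h9
      exact hz0 (congrArg Subtype.val h9)
    have hClt : finrank F C < d := by omega
    -- induction
    obtain ⟨eC, heC_int, heC_iso⟩ := ih (finrank F C) hClt (B.restrict C) (B'.restrict C')
      (a.restrict hC) (b.restrict hC') N rfl (h.restrict hC) (h'.restrict hC')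
      (nondegenerate_restrict h (ndOn_orthogonal h hB hnd))
      (nondegenerate_restrict h' (ndOn_orthogonal h' hB' hnd'))
      (ha.restrict (by rw [Module.End.mem_invtSubmodule]; exact hC))
      (hb.restrict (by rw [Module.End.mem_invtSubmodule]; exact hC')) hCchar
    -- glue
    let Ea := Submodule.prodEquivOfIsCompl Z C hcompl
    let Eb := Submodule.prodEquivOfIsCompl Z' C' hcompl'
    let e : V ≃ₗ[F] W := (Ea.symm.trans (eZ.prodCongr eC)).trans Eb
    have hEa : ∀ s : Z × C, Ea s = (s.1 : V) + (s.2 : V) :=
      fun s => Submodule.coe_prodEquivOfIsCompl' Z C hcompl s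
    have he : ∀ s : Z × C, e (Ea s) = ((eZ s.1 : Z') : W) + ((eC s.2 : C') : W) := by
      intro s
      simp only [e, LinearEquiv.trans_apply, LinearEquiv.symm_apply_apply,
        LinearEquiv.prodCongr_apply, Eb]
      rw [Submodule.coe_prodEquivOfIsCompl']
    have haE : ∀ s : Z × C, a (Ea s) = Ea ((a.restrict hZ) s.1, (a.restrict hC) s.2) := by
      intro s
      rw [hEa, hEa, map_add]
      rfl
    refine ⟨e, fun x => ?_, fun x y => ?_⟩
    · obtain ⟨s, rfl⟩ := Ea.surjective x
      rw [haE, he, he, heZ_int, heC_int, map_add]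
      rfl
    · obtain ⟨s, rfl⟩ := Ea.surjective x
      obtain ⟨t, rfl⟩ := Ea.surjective y
      rw [he, he, hEa, hEa]
      simp only [map_add, LinearMap.add_apply]
      have h1 : B' ((eZ s.1 : Z') : W) ((eC t.2 : C') : W) = 0 := (eC t.2).2 _ (eZ s.1).2
      have h2 : B' ((eC s.2 : C') : W) ((eZ t.1 : Z') : W) = 0 := by
        rw [h'.skew, (eC s.2).2 _ (eZ t.1).2, neg_zero]
      have h3 : B (s.1 : V) (t.2 : V) = 0 := t.2.2 _ s.1.2
      have h4 : B (s.2 : V) (t.1 : V) = 0 := by
        rw [h.skew, s.2.2 _ t.1.2, neg_zero]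
      rw [h1, h2, h3, h4, heZ_iso]
      have h5 : B' ((eC s.2 : C') : W) ((eC t.2 : C') : W) = B (s.2 : V) (t.2 : V) :=
        heC_iso s.2 t.2
      rw [h5]

end Cfsg.Agent.Lib.Helper40_SpConj
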