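import Mathlib
import Cfsg.Agent.Lib.Helper40_SpConj

set_option autoImplicit false

/-!
Semisimple elements of the finite symplectic groups with the same characteristic polynomial
are conjugate.
-/

namespace Cfsg.Agent.Lib.Helper40_SpMatrix

open Polynomial Module Matrix Cfsg.Agent.Lib.Helper40_SpBasic

universe v

variable {F : Type v} [Field F] {n : ℕ}

/-- the standard alternating form -/
noncomputable def Jform (n : ℕ) (F : Type v) [Field F] :
    LinearMap.BilinForm F (Fin n ⊕ Fin n → F) :=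
  Matrix.toBilin' (J (Fin n) F)

theorem Jform_alt (x : Fin n ⊕ Fin n → F) : Jform n F x x = 0 := by
  unfold Jform
  rw [Matrix.toBilin'_apply', J, Matrix.fromBlocks_mulVec]
  nth_rewrite 1 [← Sum.elim_comp_inl_inr x]
  rw [sumElim_dotProduct_sumElim]
  simp only [zero_mulVec, zero_add, add_zero, neg_mulVec, one_mulVec, dotProduct_neg]
  rw [dotProduct_comm, neg_add_cancel]

theorem Jform_nondeg : (Jform n F).Nondegenerate := by
  unfold Jform
  apply LinearMap.BilinForm.nondegenerate_toBilin'_of_det_ne_zero'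
  exact (isUnit_det_J (Fin n) F).ne_zero

theorem Jform_comp (P : Matrix (Fin n ⊕ Fin n) (Fin n ⊕ Fin n) F) (x y : Fin n ⊕ Fin n → F) :
    Jform n F (Matrix.toLin' P x) (Matrix.toLin' P y) =
      Matrix.toBilin' (Pᵀ * J (Fin n) F * P) x y := by
  unfold Jform
  rw [← Matrix.toBilin'_comp, LinearMap.BilinForm.comp_apply]

theorem isoData_of_mem (A : Matrix (Fin n ⊕ Fin n) (Fin n ⊕ Fin n) F)
    (hA : A ∈ symplecticGroup (Fin n) F) (N : ℕ) (hN : 0 < N) (hAN : A ^ N = 1) :
    IsoData (Jform n F) (Matrix.toLin' A) N where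
  alt := Jform_alt
  iso := by
    intro x y
    rw [Jform_comp, SymplecticGroup.mem_iff'.1 hA]
    rfl
  pow := by
    rw [← Matrix.toLin'_pow, hAN, Matrix.toLin'_one]
    rfl
  pos := hN

theorem isSemisimple_of_pow_eq_one (A : Matrix (Fin n ⊕ Fin n) (Fin n ⊕ Fin n) F) (m : ℕ)
    (hm : (m : F) ≠ 0) (hA : A ^ m = 1) :
    Module.End.IsSemisimple (Matrix.toLin' A : Module.End F (Fin n ⊕ Fin n → F)) := by
  apply Module.End.isSemisimple_of_squarefree_aeval_eq_zero
    ((X_pow_sub_one_separable_iff.2 hm).squarefree)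
  rw [map_sub, map_pow, aeval_X, map_one, ← Matrix.toLin'_pow, hA, Matrix.toLin'_one]
  exact sub_self _

/-- In `Sp_{2n}(q)` elements of order prime to `p` with the same characteristic polynomial are
conjugate. -/
theorem sp_isConj_of_charpoly_eq [Finite F] (p : ℕ) [Fact p.Prime] [CharP F p]
    (g h : symplecticGroup (Fin n) F) (hg : (orderOf g).Coprime p) (hh : (orderOf h).Coprime p)
    (hc : (g : Matrix (Fin n ⊕ Fin n) (Fin n ⊕ Fin n) F).charpoly =
      (h : Matrix (Fin n ⊕ Fin n) (Fin n ⊕ Fin n) F).charpoly) : IsConj g h := by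
  have hp : p.Prime := Fact.out
  have hne : ∀ k : symplecticGroup (Fin n) F, (orderOf k).Coprime p → ((orderOf k : ℕ) : F) ≠ 0 := by
    intro k hk
    rw [Ne, CharP.cast_eq_zero_iff F p]
    intro hdvd
    have : p ∣ Nat.gcd (orderOf k) p := Nat.dvd_gcd hdvd dvd_rfl
    rw [hk] at this
    exact hp.one_lt.ne' (Nat.dvd_one.1 this)
  have hpowg : (g : Matrix (Fin n ⊕ Fin n) (Fin n ⊕ Fin n) F) ^ orderOf g = 1 := by
    have := congrArg Subtype.val (pow_orderOf_eq_one g)
    rwa [SubmonoidClass.coe_pow] at this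
  have hpowh : (h : Matrix (Fin n ⊕ Fin n) (Fin n ⊕ Fin n) F) ^ orderOf h = 1 := by
    have := congrArg Subtype.val (pow_orderOf_eq_one h)
    rwa [SubmonoidClass.coe_pow] at this
  have hfin : Finite (symplecticGroup (Fin n) F) := by
    have : Finite (Matrix (Fin n ⊕ Fin n) (Fin n ⊕ Fin n) F) := by
      unfold Matrix
      infer_instance
    exact Finite.of_injective _ Subtype.val_injective
  set N := orderOf g * orderOf h with hN
  have hNpos : 0 < N := Nat.mul_pos (orderOf_pos g) (orderOf_pos h)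
  have hgN : (g : Matrix (Fin n ⊕ Fin n) (Fin n ⊕ Fin n) F) ^ N = 1 := by
    rw [hN, pow_mul, hpowg, one_pow]
  have hhN : (h : Matrix (Fin n ⊕ Fin n) (Fin n ⊕ Fin n) F) ^ N = 1 := by
    rw [hN, mul_comm, pow_mul, hpowh, one_pow]
  obtain ⟨e, he1, he2⟩ := Helper40_SpConj.exists_isometry_conj (F := F) (2 * n)
    (Jform n F) (Jform n F) (Matrix.toLin' (g : Matrix (Fin n ⊕ Fin n) (Fin n ⊕ Fin n) F))
    (Matrix.toLin' (h : Matrix (Fin n ⊕ Fin n) (Fin n ⊕ Fin n) F)) N
    (by rw [Module.finrank_pi, Fintype.card_sum, Fintype.card_fin, two_mul])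
    (isoData_of_mem _ g.2 N hNpos hgN) (isoData_of_mem _ h.2 N hNpos hhN)
    Jform_nondeg Jform_nondeg
    (isSemisimple_of_pow_eq_one _ _ (hne g hg) hpowg)
    (isSemisimple_of_pow_eq_one _ _ (hne h hh) hpowh)
    (by rw [Matrix.charpoly_toLin', Matrix.charpoly_toLin', hc])
  -- the matrix of the isometry
  let P : Matrix (Fin n ⊕ Fin n) (Fin n ⊕ Fin n) F :=
    LinearMap.toMatrix' (e : (Fin n ⊕ Fin n → F) →ₗ[F] (Fin n ⊕ Fin n → F))
  have hPe : Matrix.toLin' P = (e : (Fin n ⊕ Fin n → F) →ₗ[F] (Fin n ⊕ Fin n → F)) :=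
    Matrix.toLin'_toMatrix' _
  have hPmem : P ∈ symplecticGroup (Fin n) F := by
    rw [SymplecticGroup.mem_iff']
    apply Matrix.toBilin'.injective
    apply LinearMap.ext
    intro x
    apply LinearMap.ext
    intro y
    rw [← Jform_comp, hPe]
    exact he2 x y
  have hPg : P * (g : Matrix (Fin n ⊕ Fin n) (Fin n ⊕ Fin n) F) =
      (h : Matrix (Fin n ⊕ Fin n) (Fin n ⊕ Fin n) F) * P := by
    apply Matrix.toLin'.injective
    rw [Matrix.toLin'_mul, Matrix.toLin'_mul, hPe]
    apply LinearMap.ext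
    intro x
    exact he1 x
  rw [isConj_iff]
  refine ⟨⟨P, hPmem⟩, ?_⟩
  rw [mul_inv_eq_iff_eq_mul]
  apply Subtype.ext
  exact hPg

end Cfsg.Agent.Lib.Helper40_SpMatrix
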