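import Mathlib
import Cfsg.Agent.Lib.Helper13_GUSpDefs
import Cfsg.Agent.Lib.Helper40_SpMatrix

set_option autoImplicit false

namespace Cfsg.Agent.Lib.Helper10_GUSp_PE2

open Matrix Polynomial Cfsg.Agent.Lib.Helper13_GUSpDefs

section general

variable {ι : Type*} [Fintype ι] [DecidableEq ι] {F : Type*} [Field F]

/-- `charpoly x * charpoly (-x) = (X² - z)^n` when `x² = z`. -/
theorem charpoly_mul_charpoly_neg (x : Matrix ι ι F) (z : F) (hx : x * x = z • 1) :
    x.charpoly * (-x).charpoly = (X ^ 2 - C z) ^ Fintype.card ι := by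
  set A : Matrix ι ι F[X] := (C : F →+* F[X]).mapMatrix x with hA
  have hAA : A * A = Matrix.scalar ι (C z) := by
    rw [hA, ← map_mul, hx]
    ext i j
    simp [Matrix.one_apply, Matrix.scalar_apply, Matrix.diagonal_apply]
    split_ifs <;> simp
  have hcm : charmatrix x * charmatrix (-x) = Matrix.scalar ι (X ^ 2 - C z) := by
    have h1 : charmatrix x = Matrix.scalar ι X - A := rfl
    have h2 : charmatrix (-x) = Matrix.scalar ι X + A := by
      show Matrix.scalar ι X - (C : F →+* F[X]).mapMatrix (-x) = _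
      rw [map_neg, sub_neg_eq_add]
    have hcomm : Matrix.scalar ι (X : F[X]) * A = A * Matrix.scalar ι X :=
      (Matrix.scalar_commute (X : F[X]) (fun r => mul_comm _ _) A).eq
    rw [h1, h2, sub_mul, mul_add, mul_add, hAA, hcomm, map_sub, map_pow, pow_two]
    abel
  unfold Matrix.charpoly
  rw [← Matrix.det_mul, hcm, Matrix.scalar_apply, Matrix.det_diagonal]
  simp

end general

variable {F : Type*} [Field F]

/-- For a symplectic matrix `y` with `y² = -1`, `charpoly (-y) = charpoly y`. -/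
theorem charpoly_neg_eq (d : ℕ) (y : Matrix (Fin d ⊕ Fin d) (Fin d ⊕ Fin d) F)
    (hy : y ∈ symplecticGroup (Fin d) F) (hyy : y * y = -1) : (-y).charpoly = y.charpoly := by
  have h1 : y⁻¹ = -y := Matrix.inv_eq_left_inv (by rw [Matrix.neg_mul, hyy, neg_neg])
  have h2 : y⁻¹ = (-J (Fin d) F) * yᵀ * J (Fin d) F :=
    SymplecticGroup.inv_eq_symplectic_inv y hy
  rw [← h1, h2, Matrix.mul_assoc, Matrix.charpoly_mul_comm, Matrix.mul_assoc, Matrix.mul_neg,
    J_squared, neg_neg, Matrix.mul_one, Matrix.charpoly_transpose]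

/-- Two symplectic matrices with square `-1` have the same characteristic polynomial. -/
theorem charpoly_eq_of_sq (h2 : (2 : F) ≠ 0) (d : ℕ)
    (y y' : Matrix (Fin d ⊕ Fin d) (Fin d ⊕ Fin d) F)
    (hy : y ∈ symplecticGroup (Fin d) F) (hyy : y * y = -1)
    (hy' : y' ∈ symplecticGroup (Fin d) F) (hyy' : y' * y' = -1) : y.charpoly = y'.charpoly := by
  have e1 := charpoly_mul_charpoly_neg y (-1) (by rw [hyy, neg_smul, one_smul])
  have e2 := charpoly_mul_charpoly_neg y' (-1) (by rw [hyy', neg_smul, one_smul])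
  rw [charpoly_neg_eq d y hy hyy] at e1
  rw [charpoly_neg_eq d y' hy' hyy'] at e2
  have e3 : y.charpoly * y.charpoly = y'.charpoly * y'.charpoly := by rw [e1, e2]
  rcases mul_self_eq_mul_self_iff.1 e3 with h | h
  · exact h
  · exfalso
    have hl := congrArg Polynomial.leadingCoeff h
    rw [Polynomial.leadingCoeff_neg, (Matrix.charpoly_monic y).leadingCoeff,
      (Matrix.charpoly_monic y').leadingCoeff] at hl
    apply h2
    have : (1 : F) + 1 = 0 := by nth_rewrite 1 [hl]; ring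
    rw [← this]; norm_num

theorem exists_sq_add_sq [Fintype F] (hF : Fintype.card F % 2 = 1) (x : F) :
    ∃ a b : F, a ^ 2 + b ^ 2 = x := by
  obtain ⟨a, b, hab⟩ : ∃ a b, (Polynomial.X ^ 2 : Polynomial F).eval a +
      (Polynomial.X ^ 2 - Polynomial.C x : Polynomial F).eval b = 0 :=
    FiniteField.exists_root_sum_quadratic (Polynomial.degree_X_pow 2)
      (Polynomial.degree_X_pow_sub_C (by decide) _) hF
  refine ⟨a, b, ?_⟩
  rw [← sub_eq_zero]
  simpa only [Polynomial.eval_C, Polynomial.eval_X, Polynomial.eval_pow,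
    Polynomial.eval_sub, ← add_sub_assoc] using hab

/-- the model `θ₀` -/
def theta1 (d : ℕ) (α β : F) : Matrix (Fin d ⊕ Fin d) (Fin d ⊕ Fin d) F :=
  fromBlocks (α • (1 : Matrix (Fin d) (Fin d) F)) (β • 1) (β • 1) (-(α • 1))

set_option linter.unusedSimpArgs false in
theorem theta1_sq (d : ℕ) (α β Δ : F) (h : α ^ 2 + β ^ 2 = Δ) :
    theta1 d α β * theta1 d α β = Δ • (1 : Matrix (Fin d ⊕ Fin d) (Fin d ⊕ Fin d) F) := by
  unfold theta1
  rw [fromBlocks_multiply, ← fromBlocks_one, fromBlocks_smul]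
  subst h
  congr 1
  · simp only [smul_mul_assoc, mul_smul_comm, Matrix.mul_one, Matrix.mul_neg, Matrix.neg_mul]
    module
  · simp only [smul_mul_assoc, mul_smul_comm, Matrix.mul_one, Matrix.mul_neg, Matrix.neg_mul,
      smul_zero]
    module
  · simp only [smul_mul_assoc, mul_smul_comm, Matrix.mul_one, Matrix.mul_neg, Matrix.neg_mul,
      smul_zero]
    module
  · simp only [smul_mul_assoc, mul_smul_comm, Matrix.mul_one, Matrix.mul_neg, Matrix.neg_mul]
    module

theorem theta1_isSkew (d : ℕ) (α β : F) : IsSkew d (theta1 d α β) := by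
  rw [isSkew_iff]
  unfold theta1 J
  rw [fromBlocks_transpose, fromBlocks_multiply, fromBlocks_multiply, fromBlocks_neg]
  simp

theorem J_mul_theta1 (d : ℕ) (α β : F) :
    J (Fin d) F * theta1 d α β = -(theta1 d α β * J (Fin d) F) := by
  unfold theta1 J
  rw [fromBlocks_multiply, fromBlocks_multiply, fromBlocks_neg]
  simp

/-- PE2: elements with square `-1` -/
theorem PE2 {F : Type*} [Field F] [Fintype F] (p : ℕ) [Fact p.Prime] [CharP F p] (h2 : (2 : F) ≠ 0) (d : ℕ) (Δ : F)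
    (x : Matrix (Fin d ⊕ Fin d) (Fin d ⊕ Fin d) F) (hx : x ∈ symplecticGroup (Fin d) F)
    (hxx : x * x = -1) :
    ∃ θ : Matrix (Fin d ⊕ Fin d) (Fin d ⊕ Fin d) F,
      θ * θ = Δ • (1 : Matrix (Fin d ⊕ Fin d) (Fin d ⊕ Fin d) F) ∧ IsSkew d θ ∧ x * θ = -(θ * x) := by
  classical
  have hp : p.Prime := Fact.out
  have hp2 : p ≠ 2 := by
    intro h
    apply h2
    have h0 : ((p : ℕ) : F) = 0 := CharP.cast_eq_zero F p
    rw [h] at h0
    exact_mod_cast h0
  have hodd : Fintype.card F % 2 = 1 :=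
    FiniteField.odd_card_of_char_ne_two (by rw [ringChar.eq F p]; exact hp2)
  obtain ⟨α, β, hαβ⟩ := exists_sq_add_sq hodd Δ
  obtain ⟨g, hg⟩ : ∃ g : symplecticGroup (Fin d) F,
      (g : Matrix (Fin d ⊕ Fin d) (Fin d ⊕ Fin d) F) = x := ⟨⟨x, hx⟩, rfl⟩
  obtain ⟨j, hj⟩ : ∃ j : symplecticGroup (Fin d) F,
      (j : Matrix (Fin d ⊕ Fin d) (Fin d ⊕ Fin d) F) = J (Fin d) F :=
    ⟨⟨J (Fin d) F, SymplecticGroup.J_mem _ _⟩, rfl⟩
  have hcop4 : Nat.Coprime 4 p := by
    have h : Nat.Coprime 2 p := (Nat.coprime_primes Nat.prime_two hp).2 (Ne.symm hp2)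
    exact Nat.Coprime.pow_left 2 h
  have hpow4 : ∀ k : symplecticGroup (Fin d) F,
      (k : Matrix (Fin d ⊕ Fin d) (Fin d ⊕ Fin d) F) * k = -1 → (orderOf k).Coprime p := by
    intro k hk
    have h4 : k ^ 4 = 1 := by
      apply Subtype.ext
      rw [SubmonoidClass.coe_pow, Submonoid.coe_one, show (4 : ℕ) = 2 * 2 from rfl, pow_mul,
        pow_two ((k : Matrix (Fin d ⊕ Fin d) (Fin d ⊕ Fin d) F)), hk, neg_one_sq]
    exact Nat.Coprime.coprime_dvd_left (orderOf_dvd_of_pow_eq_one h4) hcop4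
  have hgc : (orderOf g).Coprime p := hpow4 g (by rw [hg]; exact hxx)
  have hjc : (orderOf j).Coprime p := hpow4 j (by rw [hj]; exact J_squared (Fin d) F)
  have hc : (g : Matrix (Fin d ⊕ Fin d) (Fin d ⊕ Fin d) F).charpoly =
      (j : Matrix (Fin d ⊕ Fin d) (Fin d ⊕ Fin d) F).charpoly := by
    rw [hg, hj]
    exact charpoly_eq_of_sq h2 d x (J (Fin d) F) hx hxx (SymplecticGroup.J_mem _ _)
      (J_squared (Fin d) F)
  have hconj : IsConj g j :=
    Cfsg.Agent.Lib.Helper40_SpMatrix.sp_isConj_of_charpoly_eq p g j hgc hjc hc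
  obtain ⟨c, hcg⟩ := isConj_iff.1 hconj
  obtain ⟨P, hP⟩ : ∃ P : Matrix (Fin d ⊕ Fin d) (Fin d ⊕ Fin d) F,
      P = ((c⁻¹ : symplecticGroup (Fin d) F) : Matrix (Fin d ⊕ Fin d) (Fin d ⊕ Fin d) F) :=
    ⟨_, rfl⟩
  obtain ⟨Q, hQ⟩ : ∃ Q : Matrix (Fin d ⊕ Fin d) (Fin d ⊕ Fin d) F,
      Q = ((c : symplecticGroup (Fin d) F) : Matrix (Fin d ⊕ Fin d) (Fin d ⊕ Fin d) F) :=
    ⟨_, rfl⟩
  have hPmem : P ∈ symplecticGroup (Fin d) F := by rw [hP]; exact (c⁻¹).2
  have hPQ : P * Q = 1 := by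
    have h := congrArg Subtype.val (inv_mul_cancel c)
    rw [Submonoid.coe_mul, Submonoid.coe_one] at h
    rw [hP, hQ]; exact h
  have hQP : Q * P = 1 := mul_eq_one_comm.1 hPQ
  have hxPQ : x = P * J (Fin d) F * Q := by
    have h1 : g = c⁻¹ * j * c := by rw [← hcg]; group
    have h := congrArg Subtype.val h1
    rw [Submonoid.coe_mul, Submonoid.coe_mul, hg, hj] at h
    rw [hP, hQ]; exact h
  refine ⟨P * theta1 d α β * Q, ?_, (theta1_isSkew d α β).conj hPmem hPQ, ?_⟩
  · calc P * theta1 d α β * Q * (P * theta1 d α β * Q)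
        = P * theta1 d α β * (Q * P) * theta1 d α β * Q := by simp only [Matrix.mul_assoc]
      _ = P * (theta1 d α β * theta1 d α β) * Q := by rw [hQP, Matrix.mul_one, Matrix.mul_assoc P]
      _ = Δ • (1 : Matrix (Fin d ⊕ Fin d) (Fin d ⊕ Fin d) F) := by
          rw [theta1_sq d α β Δ hαβ, Matrix.mul_smul, Matrix.smul_mul, Matrix.mul_one, hPQ]
  · rw [hxPQ]
    calc P * J (Fin d) F * Q * (P * theta1 d α β * Q)
        = P * J (Fin d) F * (Q * P) * theta1 d α β * Q := by simp only [Matrix.mul_assoc]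
      _ = P * (J (Fin d) F * theta1 d α β) * Q := by rw [hQP, Matrix.mul_one, Matrix.mul_assoc P]
      _ = -(P * (theta1 d α β * J (Fin d) F) * Q) := by
          rw [J_mul_theta1, Matrix.mul_neg, Matrix.neg_mul]
      _ = -(P * theta1 d α β * (Q * P) * J (Fin d) F * Q) := by
          rw [hQP, Matrix.mul_one]; simp only [Matrix.mul_assoc]
      _ = -(P * theta1 d α β * Q * (P * J (Fin d) F * Q)) := by simp only [Matrix.mul_assoc]

end Cfsg.Agent.Lib.Helper10_GUSp_PE2
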