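import Mathlib
import Cfsg.Prelude.Def_Characters
import Cfsg.Agent.Lib.Helper80_CharBasic

/-!
# S3701 (`H ≅ 3³:2² ≤ Sym(9)` strongly 3-embedded in `G`  ⇒  `G = H`):
shared definitions for helper17's package market `h27_packages`.

`elt a b c e`       : the element `a^i b^j c^k` for `e = (i, j, k) ∈ (ℤ/3)³`.
`Hyp G T a b c u v` : the configuration after the local analysis: `T = ⟨a⟩ × ⟨b⟩ × ⟨c⟩` of order 27,
                      `N_G(T) = T ⟨u, v⟩` of order 108 (`u` inverts `a, b` and centralizes `c`; `v` inverts `a, c`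
                      and centralizes `b`), and `C_G(t) ≤ N_G(T)` for all `t ∈ T ∖ 1`.
`gen1 … gen5`, `S0` : the five generators of `H₀ ≤ Sym(9)` of the statement.
-/

set_option autoImplicit false

namespace Cfsg.Agent.Lib.Helper17_H27Defs

/-- the element `a^i b^j c^k` -/
def elt {G : Type*} [Group G] (a b c : G) (e : ZMod 3 × ZMod 3 × ZMod 3) : G :=
  a ^ e.1.val * b ^ e.2.1.val * c ^ e.2.2.val

/-- standing hypotheses (`N_G(T) = 3³:2²`, strongly 3-embedded type) -/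
structure Hyp (G : Type*) [Group G] (T : Subgroup G) (a b c u v : G) : Prop where
  card : Nat.card T = 27
  oa : orderOf a = 3
  ob : orderOf b = 3
  oc : orderOf c = 3
  ab : a * b = b * a
  ac : a * c = c * a
  bc : b * c = c * b
  mem : ∀ t : G, t ∈ T ↔ ∃ e : ZMod 3 × ZMod 3 × ZMod 3, t = elt a b c e
  inj : Function.Injective (elt a b c)
  hu : u ∈ Subgroup.normalizer (T : Set G)
  hv : v ∈ Subgroup.normalizer (T : Set G)
  ua : u * a * u⁻¹ = a⁻¹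
  ub : u * b * u⁻¹ = b⁻¹
  uc : u * c * u⁻¹ = c
  va : v * a * v⁻¹ = a⁻¹
  vb : v * b * v⁻¹ = b
  vc : v * c * v⁻¹ = c⁻¹
  act : ∀ n ∈ Subgroup.normalizer (T : Set G),
    (n * a * n⁻¹ = a ∧ n * b * n⁻¹ = b ∧ n * c * n⁻¹ = c) ∨
    (n * a * n⁻¹ = a⁻¹ ∧ n * b * n⁻¹ = b⁻¹ ∧ n * c * n⁻¹ = c) ∨
    (n * a * n⁻¹ = a⁻¹ ∧ n * b * n⁻¹ = b ∧ n * c * n⁻¹ = c⁻¹) ∨
    (n * a * n⁻¹ = a ∧ n * b * n⁻¹ = b⁻¹ ∧ n * c * n⁻¹ = c⁻¹)
  cardN : Nat.card (Subgroup.normalizer (T : Set G)) = 108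
  loc : ∀ t ∈ T, t ≠ 1 →
    Subgroup.centralizer ({t} : Set G) ≤ Subgroup.normalizer (T : Set G)

/-- the generators of `H₀ ≤ Sym(9)` -/
def gen1 : Equiv.Perm (Fin 9) := Equiv.swap (0 : Fin 9) 1 * Equiv.swap 1 2
def gen2 : Equiv.Perm (Fin 9) := Equiv.swap (3 : Fin 9) 4 * Equiv.swap 4 5
def gen3 : Equiv.Perm (Fin 9) := Equiv.swap (6 : Fin 9) 7 * Equiv.swap 7 8
def gen4 : Equiv.Perm (Fin 9) := Equiv.swap (0 : Fin 9) 1 * Equiv.swap 3 4
def gen5 : Equiv.Perm (Fin 9) := Equiv.swap (0 : Fin 9) 1 * Equiv.swap 6 7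

/-- the generating set of the statement S3701 -/
def S0 : Set (Equiv.Perm (Fin 9)) := {gen1, gen2, gen3, gen4, gen5}

end Cfsg.Agent.Lib.Helper17_H27Defs
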