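import Mathlib
import Cfsg.Prelude.Def_Characters
import Cfsg.Agent.Lib.Helper80_CharBasic
import Cfsg.Agent.Lib.Helper17_H27Defs

/-!
# S3702 (`H ≅ N_{A₉}(3³) = 3³:S₄`, `J = O₃(H)` strongly closed, `C_G(j) ≤ H`  ⇒  `G = H`):
shared definitions for helper76's package market `h648_packages`.

`g1 … g4`, `S0`   : the four generators of `K₀ ≤ Sym(9)` of the statement, `K₀ = ⟨S0⟩` of order `648`.
`pA pB pC pS pU pV pT` : the permutations `a = (0 1 2)`, `b = (3 4 5)`, `c = (6 7 8)`, `σ`, `u`, `v`, `s`.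
`Hyp G H J a b c σ u v s` : the configuration after the local analysis (images of these permutations).
`rep9`, `cent9`   : the nine special class representatives and the orders of their centralizers.
`cvec`            : the nine functionals `c₀ … c₈` of a class function, in terms of its values at the
                    nine special class representatives.
`Gm`, `r0`        : their Gram matrix and the coordinates of the trivial character.
`valA valB valD`  : the values at the classes `A, B, D` (elements of `J` of weight `1, 2, 3`) in terms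
                    of the coordinates.
`PureCfg`         : the purely arithmetical configuration extracted from the character theory.
-/

set_option autoImplicit false

namespace Cfsg.Agent.Lib.Helper76_H648Defs

open Cfsg.Agent.Lib.Helper17_H27Defs (elt)

/-! ### the permutation group `K₀` -/

def g1 : Equiv.Perm (Fin 9) := Equiv.swap (0 : Fin 9) 1 * Equiv.swap 1 2
def g2 : Equiv.Perm (Fin 9) :=
  Equiv.swap (0 : Fin 9) 3 * Equiv.swap 3 6 * (Equiv.swap (1 : Fin 9) 4 * Equiv.swap 4 7) *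
    (Equiv.swap (2 : Fin 9) 5 * Equiv.swap 5 8)
def g3 : Equiv.Perm (Fin 9) := Equiv.swap (0 : Fin 9) 1 * Equiv.swap 3 4
def g4 : Equiv.Perm (Fin 9) :=
  Equiv.swap (0 : Fin 9) 3 * Equiv.swap 1 4 * Equiv.swap 2 5 * Equiv.swap 6 7

/-- the generating set of the statement S3702 -/
def S0 : Set (Equiv.Perm (Fin 9)) := {g1, g2, g3, g4}

/-- `a = (0 1 2)` -/
def pA : Equiv.Perm (Fin 9) := g1
/-- `σ = (0 3 6)(1 4 7)(2 5 8)` -/
def pS : Equiv.Perm (Fin 9) := g2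
/-- `u = (0 1)(3 4)` -/
def pU : Equiv.Perm (Fin 9) := g3
/-- `v = (0 3)(1 4)(2 5)(6 7)` -/
def pV : Equiv.Perm (Fin 9) := g4
/-- `b = σ a σ⁻¹ = (3 4 5)` -/
def pB : Equiv.Perm (Fin 9) := pS * pA * pS⁻¹
/-- `c = σ b σ⁻¹ = (6 7 8)` -/
def pC : Equiv.Perm (Fin 9) := pS * pB * pS⁻¹
/-- `s = v (σ u σ⁻¹) = (0 3 1 4)(2 5)`, of order `4`, `s² = u` -/
def pT : Equiv.Perm (Fin 9) := pV * (pS * pU * pS⁻¹)

theorem g1_mem : g1 ∈ Subgroup.closure S0 := Subgroup.subset_closure (by simp [S0])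
theorem g2_mem : g2 ∈ Subgroup.closure S0 := Subgroup.subset_closure (by simp [S0])
theorem g3_mem : g3 ∈ Subgroup.closure S0 := Subgroup.subset_closure (by simp [S0])
theorem g4_mem : g4 ∈ Subgroup.closure S0 := Subgroup.subset_closure (by simp [S0])

/-- the 24 elements of the complement `W = ⟨σ, u, v⟩ ≅ S₄`, as words -/
def Wfun {M : Type*} [Monoid M] (σ u v : M) : Fin 24 → M :=
  ![1, u, v, σ, u * v, u * σ, v * σ, σ * u, σ * v, σ * σ, u * v * σ, u * σ * u, u * σ * v,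
    u * σ * σ, v * σ * u, v * σ * σ, σ * u * v, σ * u * σ, σ * v * σ, σ * σ * u, σ * σ * v,
    σ * u * σ * σ, σ * v * σ * u, σ * σ * u * σ]

/-! ### the configuration in `G` -/

/-- standing hypotheses: `H = ψ(K₀)` for an injective homomorphism `ψ`, `a, σ, u, v` the images of the
four generators, `b = σ a σ⁻¹`, `c = σ b σ⁻¹`, `s = v σ u σ⁻¹`, `J = ⟨a, b, c⟩` (27 elements `elt a b c e`),
`C_G(j) ≤ H` for `j ∈ J ∖ 1`, and `J` strongly closed in `H` with respect to `G`. -/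
structure Hyp (G : Type*) [Group G] (H J : Subgroup G) (a b c σ u v s : G) : Prop where
  iso : ∃ ψ : ↥(Subgroup.closure S0) →* G, Function.Injective ψ ∧ ψ.range = H ∧
    ψ ⟨g1, g1_mem⟩ = a ∧ ψ ⟨g2, g2_mem⟩ = σ ∧ ψ ⟨g3, g3_mem⟩ = u ∧ ψ ⟨g4, g4_mem⟩ = v
  hb : b = σ * a * σ⁻¹
  hc : c = σ * b * σ⁻¹
  hs : s = v * (σ * u * σ⁻¹)
  memJ : ∀ t : G, t ∈ J ↔ ∃ e : ZMod 3 × ZMod 3 × ZMod 3, t = elt a b c e
  loc : ∀ j ∈ J, j ≠ 1 → Subgroup.centralizer ({j} : Set G) ≤ H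
  sc : ∀ x ∈ J, ∀ g : G, g * x * g⁻¹ ∈ H → g * x * g⁻¹ ∈ J

/-- the weight (number of nonzero coordinates) of a vector of `(ℤ/3)³` -/
def wt (e : ZMod 3 × ZMod 3 × ZMod 3) : ℕ :=
  (if e.1 = 0 then 0 else 1) + (if e.2.1 = 0 then 0 else 1) + (if e.2.2 = 0 then 0 else 1)

/-- the representative of the class of elements of `J` of weight `1, 2, 3` (`c`, `a b`, `a b c`);
junk value `1` for other arguments -/
def repW {G : Type*} [Group G] (a b c : G) : ℕ → G
  | 1 => c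
  | 2 => a * b
  | 3 => a * b * c
  | _ => 1

/-- the vector of `(ℤ/3)³` with `repW a b c w = elt a b c (vecW w)` -/
def vecW : ℕ → ZMod 3 × ZMod 3 × ZMod 3
  | 1 => (0, 0, 1)
  | 2 => (1, 1, 0)
  | 3 => (1, 1, 1)
  | _ => (0, 0, 0)

/-- the nine special class representatives, in the order `A, 6A, 6B, 12A, 12B, 9A, 9B, B, D` -/
def rep9 {G : Type*} [Group G] (a b c σ u v s : G) : Fin 9 → G :=
  ![c, c * u, a * b * v, c⁻¹ * s, c * s, a * σ, a⁻¹ * σ, a * b, a * b * c]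

/-- the orders of their centralizers -/
def cent9 : Fin 9 → ℕ := ![108, 12, 6, 12, 12, 9, 9, 54, 81]

/-- representatives of the classes of the powers `(c s)^k`, `k` modulo `12` -/
def t12 {G : Type*} [Group G] (c u s : G) : Fin 12 → G :=
  ![1, c * s, c * u, s, c, c⁻¹ * s, u, c⁻¹ * s, c, s, c * u, c * s]

/-- representatives of the classes of the powers `(a b v)^k`, `k` modulo `6` -/
def t6 {G : Type*} [Group G] (a b v : G) : Fin 6 → G :=
  ![1, a * b * v, a * b, v, a * b, a * b * v]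

/-- representatives of the classes of the powers `(a^ε σ)^k`, `k` modulo `9` (`y = a σ` or `a⁻¹ σ`) -/
def t9 {G : Type*} [Group G] (a b c y : G) : Fin 9 → G :=
  ![1, y, y, a * b * c, y, y, a * b * c, y, y]

/-! ### the nine functionals -/

/-- `√3` as a complex number -/
noncomputable def s3 : ℂ := ((Real.sqrt 3 : ℝ) : ℂ)

/-- the coordinates `c₀ … c₈` from the nine values
`XA = χ(c)`, `X6A = χ(c u)`, `X6B = χ(a b v)`, `X12A = χ(c⁻¹ s)`, `X12B = χ(c s)`, `X9A = χ(a σ)`,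
`X9B = χ(a⁻¹ σ)`, `XB = χ(a b)`, `XD = χ(a b c)` -/
noncomputable def cform (XA X6A X6B X12A X12B X9A X9B XB XD : ℂ) : Fin 9 → ℂ :=
  ![s3 / 6 * (X12A - X12B),
    -XA / 36 + X6A / 4 - s3 / 12 * (X12A - X12B) - XB / 9 - XD / 9,
    (X9A - X9B) / 3,
    -XA / 12 - X6A / 4 + s3 / 12 * (X12A - X12B) + X9B / 3,
    -XA / 36 - X6A / 4 - (X12A + X12B) / 4 - XB / 9 - XD / 9,
    -XA / 12 - X6A / 4 + s3 / 12 * (X12A - X12B) - X9A / 3 - X9B / 3,
    X6B / 2 - X9B / 3 - XB / 6,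
    -X6B / 2 - X9B / 3 - XB / 6,
    -XA / 36 - X6A / 4 + (X12A + X12B) / 4 - XB / 9 - XD / 9]

/-- the coordinates of a class function `χ` of `G` -/
noncomputable def cvec {G : Type*} [Group G] (a b c σ u v s : G) (χ : G → ℂ) : Fin 9 → ℂ :=
  cform (χ c) (χ (c * u)) (χ (a * b * v)) (χ (c⁻¹ * s)) (χ (c * s)) (χ (a * σ)) (χ (a⁻¹ * σ))
    (χ (a * b)) (χ (a * b * c))

/-- the Gram matrix of the nine functionals -/
def Gm : Fin 9 → Fin 9 → ℤ :=
  ![![2, -1, 0, 1, 0, 1, 0, 0, 0],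
    ![-1, 3, 0, -1, 1, -1, 1, 1, 1],
    ![0, 0, 2, -1, 0, 0, 1, 1, 0],
    ![1, -1, -1, 3, 1, 1, -1, -1, 1],
    ![0, 1, 0, 1, 4, 1, 1, 1, 1],
    ![1, -1, 0, 1, 1, 4, 1, 1, 1],
    ![0, 1, 1, -1, 1, 1, 4, 1, 1],
    ![0, 1, 1, -1, 1, 1, 1, 4, 1],
    ![0, 1, 0, 1, 1, 1, 1, 1, 4]]

/-- the coordinates of the trivial character -/
def r0 : Fin 9 → ℤ := ![0, 0, 0, 0, -1, -1, 0, -1, 0]

/-- the value at the class `A` (weight 1) -/
def valA (n : Fin 9 → ℤ) : ℤ := 3 * n 0 - 6 * n 1 - 4 * n 2 - 8 * n 3 + 3 * n 4 - 4 * n 5 + 3 * n 8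
/-- the value at the class `B` (weight 2) -/
def valB (n : Fin 9 → ℤ) : ℤ := 2 * n 2 - 2 * n 3 + 2 * n 5 - 3 * n 6 - 3 * n 7
/-- the value at the class `D` (weight 3) -/
def valD (n : Fin 9 → ℤ) : ℤ :=
  -3 * n 0 - 3 * n 1 - n 2 + 4 * n 3 - 3 * n 4 - n 5 + 3 * n 6 + 3 * n 7 - 3 * n 8

/-- the exponents `(i, j, k)` of the seven monomials `A^i B^j D^k` -/
def mexp : Fin 7 → ℕ × ℕ × ℕ := ![(2, 1, 0), (1, 2, 0), (2, 0, 1), (1, 1, 1), (1, 0, 2), (0, 2, 1), (0, 1, 2)]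
/-- the seven local class-multiplication constants `|C(k₁)| |C(k₂)| N` -/
def Kc : Fin 7 → ℤ := ![23328, 11664, 0, 17496, 26244, 17496, 13122]

/-- the arithmetical configuration: `ι` = the nontrivial irreducible characters, `g = |G|`, `n` the integer
coordinates, `f` the degrees -/
structure PureCfg (ι : Type*) [Fintype ι] (g : ℤ) (n : ι → Fin 9 → ℤ) (f : ι → ℤ) : Prop where
  fpos : ∀ i, 0 < f i
  gram : ∀ j k : Fin 9, ∑ i, n i j * n i k = Gm j k - r0 j * r0 k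
  deg : ∀ j : Fin 9, ∑ i, n i j * f i = - r0 j
  eqs : ∀ e : Fin 7, (g : ℚ) * (1 + ∑ i, ((valA (n i) : ℚ) ^ (mexp e).1 * (valB (n i) : ℚ) ^ (mexp e).2.1 *
      (valD (n i) : ℚ) ^ (mexp e).2.2) / (f i : ℚ)) = (Kc e : ℚ)
  m0 : ∀ i, ∃ m : ℕ, f i + 6 * valA (n i) + 12 * valB (n i) + 8 * valD (n i) = 27 * (m : ℤ)
  sq : ∀ i, f i ^ 2 < g
  idx : ∃ t : ℕ, g = 648 + 17496 * (t : ℤ)

end Cfsg.Agent.Lib.Helper76_H648Defs
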