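import Mathlib
import Cfsg.Prelude.Def_Characters
import Cfsg.Agent.Lib.Helper80_CharBasic
import Cfsg.Agent.Lib.Helper17_H27Defs
import Cfsg.Agent.Lib.Helper76_H648Defs

/-!
# S3702 market `h648_packages` (architect helper76), package INT (helper10): the nine coordinates
are integers

`int_aux`: for a class function `χ`, from the conclusions of MULT12, MULT6, MULT9, MULTJ for `χ`.
-/

set_option autoImplicit false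

namespace Cfsg.Agent.Lib.Helper10_H648_INT

open Cfsg Cfsg.Agent.Lib.Helper80_CharBasic
  Cfsg.Agent.Lib.Helper76_H648Defs
open Cfsg.Agent.Lib.Helper17_H27Defs (elt)

section grp
variable {G : Type*} [Group G]

/-- the nine coordinates are integers, from the conclusions of `mult12`, `mult6`, `mult9`, `multJ` -/
theorem int_aux (a b c σ u v s : G) (χ : G → ℂ)
    (h12 : ∃ n1 n2 n3 n4 : ℤ,
      -(χ (c⁻¹ * s) + χ (c * s) + χ (c * u) + χ c) / 4 = n1 ∧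
      s3 / 6 * (χ (c⁻¹ * s) - χ (c * s)) = n2 ∧
      (s3 * (χ (c⁻¹ * s) - χ (c * s)) + 3 * (χ c - χ (c * u))) / 12 = n3 ∧
      (χ c + χ (c * u) - χ (c⁻¹ * s) - χ (c * s)) / 4 = n4)
    (h6 : ∃ n1 n2 : ℤ,
      -(χ (a * b * v) + χ (a * b)) / 2 = n1 ∧ (χ (a * b) - χ (a * b * v)) / 2 = n2)
    (h9 : ∃ n1 n2 n3 n4 : ℤ,
      χ (a * σ) = n1 ∧ (χ (a * b * c) - χ (a * σ)) / 3 = n2 ∧
      χ (a⁻¹ * σ) = n3 ∧ (χ (a * b * c) - χ (a⁻¹ * σ)) / 3 = n4)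
    (hJ : ∃ (m0 : ℕ) (n1 n2 n3 : ℤ),
      (χ 1 + 6 * χ c + 12 * χ (a * b) + 8 * χ (a * b * c)) / 27 = m0 ∧
      -(χ c + 4 * χ (a * b) + 4 * χ (a * b * c)) / 9 = n1 ∧
      -(2 * χ c + 5 * χ (a * b) + 2 * χ (a * b * c)) / 9 = n2 ∧
      -(χ c + χ (a * b) + χ (a * b * c)) / 3 = n3) :
    ∃ n : Fin 9 → ℤ, ∀ j : Fin 9, cvec a b c σ u v s χ j = (n j : ℂ) := by
  obtain ⟨qa, qb, qc, qd, hqa, hqb, hqc, hqd⟩ := h12
  obtain ⟨s6, d6, hs6, hd6⟩ := h6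
  obtain ⟨x9a, t9a, x9b, t9b, hx9a, ht9a, hx9b, ht9b⟩ := h9
  obtain ⟨m0, j1, j2, j3, -, hj1, hj2, hj3⟩ := hJ
  refine ⟨![qb, j1 - j3 - qc, t9b - t9a, j1 + j2 + x9b + 2 * t9b - s6 + d6 + qc,
    j1 - 3 * j2 + j3 + s6 - d6 + qa, j1 + j2 + t9a + t9b - s6 + d6 + qc,
    -2 * j1 + j2 - x9b - 2 * t9b - d6, -2 * j1 + j2 - x9b - 2 * t9b + s6,
    j1 - 3 * j2 + j3 + s6 - d6 - qd], ?_⟩
  intro j
  fin_cases j
  · show s3 / 6 * (χ (c⁻¹ * s) - χ (c * s)) = ((qb : ℤ) : ℂ)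
    exact hqb
  · show -χ c / 36 + χ (c * u) / 4 - s3 / 12 * (χ (c⁻¹ * s) - χ (c * s)) - χ (a * b) / 9
      - χ (a * b * c) / 9 = ((j1 - j3 - qc : ℤ) : ℂ)
    push_cast
    rw [← hj1, ← hj3, ← hqc]
    ring
  · show (χ (a * σ) - χ (a⁻¹ * σ)) / 3 = ((t9b - t9a : ℤ) : ℂ)
    push_cast
    rw [← ht9a, ← ht9b]
    ring
  · show -χ c / 12 - χ (c * u) / 4 + s3 / 12 * (χ (c⁻¹ * s) - χ (c * s)) + χ (a⁻¹ * σ) / 3
      = ((j1 + j2 + x9b + 2 * t9b - s6 + d6 + qc : ℤ) : ℂ)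
    push_cast
    rw [← hj1, ← hj2, ← hx9b, ← ht9b, ← hs6, ← hd6, ← hqc]
    ring
  · show -χ c / 36 - χ (c * u) / 4 - (χ (c⁻¹ * s) + χ (c * s)) / 4 - χ (a * b) / 9
      - χ (a * b * c) / 9 = ((j1 - 3 * j2 + j3 + s6 - d6 + qa : ℤ) : ℂ)
    push_cast
    rw [← hj1, ← hj2, ← hj3, ← hs6, ← hd6, ← hqa]
    ring
  · show -χ c / 12 - χ (c * u) / 4 + s3 / 12 * (χ (c⁻¹ * s) - χ (c * s)) - χ (a * σ) / 3
      - χ (a⁻¹ * σ) / 3 = ((j1 + j2 + t9a + t9b - s6 + d6 + qc : ℤ) : ℂ)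
    push_cast
    rw [← hj1, ← hj2, ← ht9a, ← ht9b, ← hs6, ← hd6, ← hqc]
    ring
  · show χ (a * b * v) / 2 - χ (a⁻¹ * σ) / 3 - χ (a * b) / 6
      = ((-2 * j1 + j2 - x9b - 2 * t9b - d6 : ℤ) : ℂ)
    push_cast
    rw [← hj1, ← hj2, ← hx9b, ← ht9b, ← hd6]
    ring
  · show -χ (a * b * v) / 2 - χ (a⁻¹ * σ) / 3 - χ (a * b) / 6
      = ((-2 * j1 + j2 - x9b - 2 * t9b + s6 : ℤ) : ℂ)
    push_cast
    rw [← hj1, ← hj2, ← hx9b, ← ht9b, ← hs6]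
    ring
  · show -χ c / 36 - χ (c * u) / 4 + (χ (c⁻¹ * s) + χ (c * s)) / 4 - χ (a * b) / 9
      - χ (a * b * c) / 9 = ((j1 - 3 * j2 + j3 + s6 - d6 - qd : ℤ) : ℂ)
    push_cast
    rw [← hj1, ← hj2, ← hj3, ← hs6, ← hd6, ← hqd]
    ring

end grp

end Cfsg.Agent.Lib.Helper10_H648_INT
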