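import Mathlib
import Cfsg.Agent.Lib.Helper17_H27Defs
import Cfsg.Agent.Lib.Helper76_H648Defs

set_option autoImplicit false
set_option linter.unusedSectionVars false
set_option linter.unusedVariables false

/-!
h648 market (helper76, row S3702), package TAB: the classes of the powers of `c s`, `a b v`, `a σ`,
`a⁻¹ σ` and of the elements of `J`, by explicit conjugators in `K₀ ≤ Sym(9)`.  (helper16)
-/

namespace Cfsg.Agent.Lib.Helper16_H648_TAB

open Cfsg.Agent.Lib.Helper76_H648Defs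
open Cfsg.Agent.Lib.Helper17_H27Defs (elt)

/-- the group `K₀` -/
abbrev K0 : Type := ↥(Subgroup.closure S0)

def G1 : K0 := ⟨g1, g1_mem⟩
def G2 : K0 := ⟨g2, g2_mem⟩
def G3 : K0 := ⟨g3, g3_mem⟩
def G4 : K0 := ⟨g4, g4_mem⟩
def kB : K0 := G2 * G1 * G2⁻¹
def kC : K0 := G2 * kB * G2⁻¹
def kT : K0 := G4 * (G2 * G3 * G2⁻¹)

theorem coe_kC : ((kC : K0) : Equiv.Perm (Fin 9)) = pC := rfl
theorem coe_kT : ((kT : K0) : Equiv.Perm (Fin 9)) = pT := rfl
theorem coe_kB : ((kB : K0) : Equiv.Perm (Fin 9)) = pB := rfl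

/-- the order of a permutation from a decidable statement -/
theorem orderOf_eq_of_dec {x : Equiv.Perm (Fin 9)} {n : ℕ} (hn : 0 < n) (h1 : x ^ n = 1)
    (h2 : ∀ m : Fin n, 0 < m.val → x ^ m.val ≠ 1) : orderOf x = n := by
  rw [orderOf_eq_iff hn]
  exact ⟨h1, fun m hm hm0 => h2 ⟨m, hm⟩ hm0⟩

set_option maxRecDepth 100000 in
theorem ord12 : orderOf (kC * kT) = 12 := by
  rw [← Subgroup.orderOf_coe]
  exact orderOf_eq_of_dec (x := pC * pT) (by norm_num) (by decide) (by decide)

set_option maxRecDepth 100000 in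
theorem ord6 : orderOf (G1 * kB * G4) = 6 := by
  rw [← Subgroup.orderOf_coe]
  exact orderOf_eq_of_dec (x := pA * pB * pV) (by norm_num) (by decide) (by decide)

set_option maxRecDepth 100000 in
theorem ord9 : orderOf (G1 * G2) = 9 := by
  rw [← Subgroup.orderOf_coe]
  exact orderOf_eq_of_dec (x := pA * pS) (by norm_num) (by decide) (by decide)

set_option maxRecDepth 100000 in
theorem ord9' : orderOf (G1⁻¹ * G2) = 9 := by
  rw [← Subgroup.orderOf_coe]
  exact orderOf_eq_of_dec (x := pA⁻¹ * pS) (by norm_num) (by decide) (by decide)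

theorem isConj_of_coe {x y : K0} (w : K0)
    (h : (w : Equiv.Perm (Fin 9)) * (x : Equiv.Perm (Fin 9)) * (w : Equiv.Perm (Fin 9))⁻¹ =
      (y : Equiv.Perm (Fin 9))) : IsConj x y :=
  isConj_iff.2 ⟨w, Subtype.ext h⟩

set_option maxRecDepth 100000 in
theorem tab12K : ∀ k : Fin 12, IsConj ((kC * kT) ^ (k : ℕ)) (t12 kC G3 kT k) := by
  intro k
  fin_cases k
  · exact isConj_of_coe 1 (by decide)
  · exact isConj_of_coe 1 (by decide)
  · exact isConj_of_coe (G4) (by decide)
  · exact isConj_of_coe (G4) (by decide)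
  · exact isConj_of_coe 1 (by decide)
  · exact isConj_of_coe 1 (by decide)
  · exact isConj_of_coe 1 (by decide)
  · exact isConj_of_coe (G4) (by decide)
  · exact isConj_of_coe (G4) (by decide)
  · exact isConj_of_coe 1 (by decide)
  · exact isConj_of_coe 1 (by decide)
  · exact isConj_of_coe (G4) (by decide)

set_option maxRecDepth 100000 in
theorem tab6K : ∀ k : Fin 6, IsConj ((G1 * kB * G4) ^ (k : ℕ)) (t6 G1 kB G4 k) := by
  intro k
  fin_cases k
  · exact isConj_of_coe 1 (by decide)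
  · exact isConj_of_coe 1 (by decide)
  · exact isConj_of_coe (G3) (by decide)
  · exact isConj_of_coe 1 (by decide)
  · exact isConj_of_coe 1 (by decide)
  · exact isConj_of_coe (G3) (by decide)

set_option maxRecDepth 100000 in
theorem tab9K : ∀ k : Fin 9, IsConj ((G1 * G2) ^ (k : ℕ)) (t9 G1 kB kC (G1 * G2) k) := by
  intro k
  fin_cases k
  · exact isConj_of_coe 1 (by decide)
  · exact isConj_of_coe 1 (by decide)
  · exact isConj_of_coe (G3 * G1 * G4) (by decide)
  · exact isConj_of_coe 1 (by decide)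
  · exact isConj_of_coe (G2 * G1) (by decide)
  · exact isConj_of_coe (G3 * G4 * G1) (by decide)
  · exact isConj_of_coe (G3 * G4) (by decide)
  · exact isConj_of_coe (G1 * G1 * G2 * G2) (by decide)
  · exact isConj_of_coe (G2 * G3 * G4) (by decide)

set_option maxRecDepth 100000 in
theorem tab9K' : ∀ k : Fin 9, IsConj ((G1⁻¹ * G2) ^ (k : ℕ)) (t9 G1 kB kC (G1⁻¹ * G2) k) := by
  intro k
  fin_cases k
  · exact isConj_of_coe 1 (by decide)
  · exact isConj_of_coe 1 (by decide)
  · exact isConj_of_coe (G1 * G3 * G4) (by decide)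
  · exact isConj_of_coe (G3 * G4) (by decide)
  · exact isConj_of_coe (G2 * G1 * G1) (by decide)
  · exact isConj_of_coe (G4 * G1 * G3) (by decide)
  · exact isConj_of_coe 1 (by decide)
  · exact isConj_of_coe (G1 * G2 * G1) (by decide)
  · exact isConj_of_coe (G2 * G3 * G4) (by decide)

set_option maxRecDepth 100000 in
theorem tabJK : ∀ e : ZMod 3 × ZMod 3 × ZMod 3, e ≠ 0 →
    IsConj (elt G1 kB kC e) (repW G1 kB kC (wt e)) := by
  rintro ⟨x, y, z⟩ he
  fin_cases x <;> fin_cases y <;> fin_cases z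
  · exact absurd rfl he
  · exact isConj_of_coe 1 (by decide)
  · exact isConj_of_coe (G4) (by decide)
  · exact isConj_of_coe (G2) (by decide)
  · exact isConj_of_coe (G2 * G2) (by decide)
  · exact isConj_of_coe (G2 * G4) (by decide)
  · exact isConj_of_coe (G2 * G3) (by decide)
  · exact isConj_of_coe (G2 * G2 * G3) (by decide)
  · exact isConj_of_coe (G2 * G3 * G4) (by decide)
  · exact isConj_of_coe (G2 * G2) (by decide)
  · exact isConj_of_coe (G2) (by decide)
  · exact isConj_of_coe (G2 * G2 * G4) (by decide)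
  · exact isConj_of_coe 1 (by decide)
  · exact isConj_of_coe 1 (by decide)
  · exact isConj_of_coe (G4) (by decide)
  · exact isConj_of_coe (G2 * G4 * G2) (by decide)
  · exact isConj_of_coe (G4 * G2) (by decide)
  · exact isConj_of_coe (G3 * G2 * G2) (by decide)
  · exact isConj_of_coe (G2 * G2 * G3) (by decide)
  · exact isConj_of_coe (G2 * G3) (by decide)
  · exact isConj_of_coe (G3 * G2) (by decide)
  · exact isConj_of_coe (G2 * G2 * G3 * G2) (by decide)
  · exact isConj_of_coe (G4 * G2 * G2) (by decide)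
  · exact isConj_of_coe (G3 * G2) (by decide)
  · exact isConj_of_coe (G3) (by decide)
  · exact isConj_of_coe (G3) (by decide)
  · exact isConj_of_coe (G3 * G4) (by decide)

section grp

variable {G : Type*} [Group G] [Finite G] {H J : Subgroup G} {a b c σ u v s : G}

theorem exists_psi (h : Hyp G H J a b c σ u v s) :
    ∃ ψ : K0 →* G, Function.Injective ψ ∧ ψ G1 = a ∧ ψ kB = b ∧ ψ kC = c ∧ ψ G2 = σ ∧
      ψ G3 = u ∧ ψ G4 = v ∧ ψ kT = s := by
  obtain ⟨ψ, hinj, -, h1, h2, h3, h4⟩ := h.iso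
  have e1 : ψ G1 = a := h1
  have e2 : ψ G2 = σ := h2
  have e3 : ψ G3 = u := h3
  have e4 : ψ G4 = v := h4
  have eB : ψ kB = b := by
    rw [h.hb]
    unfold kB
    rw [map_mul, map_mul, map_inv, e1, e2]
  have eC : ψ kC = c := by
    rw [h.hc]
    unfold kC
    rw [map_mul, map_mul, map_inv, eB, e2]
  have eT : ψ kT = s := by
    rw [h.hs]
    unfold kT
    rw [map_mul, map_mul, map_mul, map_inv, e2, e3, e4]
  exact ⟨ψ, hinj, e1, eB, eC, e2, e3, e4, eT⟩

omit [Finite G] in
theorem map_t12 {K : Type*} [Group K] (ψ : K →* G) (C U S : K) (k : Fin 12) :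
    ψ (t12 C U S k) = t12 (ψ C) (ψ U) (ψ S) k := by
  fin_cases k <;> simp [t12, map_mul, map_inv]

omit [Finite G] in
theorem map_t6 {K : Type*} [Group K] (ψ : K →* G) (A B V : K) (k : Fin 6) :
    ψ (t6 A B V k) = t6 (ψ A) (ψ B) (ψ V) k := by
  fin_cases k <;> simp [t6, map_mul]

omit [Finite G] in
theorem map_t9 {K : Type*} [Group K] (ψ : K →* G) (A B C Y : K) (k : Fin 9) :
    ψ (t9 A B C Y k) = t9 (ψ A) (ψ B) (ψ C) (ψ Y) k := by
  fin_cases k <;> simp [t9, map_mul]

omit [Finite G] in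
theorem map_elt {K : Type*} [Group K] (ψ : K →* G) (A B C : K) (e : ZMod 3 × ZMod 3 × ZMod 3) :
    ψ (elt A B C e) = elt (ψ A) (ψ B) (ψ C) e := by
  unfold elt
  rw [map_mul, map_mul, map_pow, map_pow, map_pow]

omit [Finite G] in
theorem map_repW {K : Type*} [Group K] (ψ : K →* G) (A B C : K) (w : ℕ) :
    ψ (repW A B C w) = repW (ψ A) (ψ B) (ψ C) w := by
  match w with
  | 0 => simp [repW]
  | 1 => simp [repW]
  | 2 => simp [repW]
  | 3 => simp [repW]
  | (n + 4) => simp [repW]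

/-! ### TAB: the classes of the powers of `c s`, `a b v`, `a σ`, `a⁻¹ σ` and of the elements of `J` -/
theorem tab12 (h : Hyp G H J a b c σ u v s) :
    orderOf (c * s) = 12 ∧ ∀ k : Fin 12, IsConj ((c * s) ^ (k : ℕ)) (t12 c u s k) := by
  obtain ⟨ψ, hinj, ea, eb, ec, es, eu, ev, et⟩ := exists_psi h
  constructor
  · rw [← ec, ← et, ← map_mul, orderOf_injective ψ hinj]
    exact ord12
  · intro k
    have := MonoidHom.map_isConj ψ (tab12K k)
    rw [map_pow, map_mul, map_t12, ec, et, eu] at this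
    exact this

theorem tab6 (h : Hyp G H J a b c σ u v s) :
    orderOf (a * b * v) = 6 ∧ ∀ k : Fin 6, IsConj ((a * b * v) ^ (k : ℕ)) (t6 a b v k) := by
  obtain ⟨ψ, hinj, ea, eb, ec, es, eu, ev, et⟩ := exists_psi h
  constructor
  · rw [← ea, ← eb, ← ev, ← map_mul, ← map_mul, orderOf_injective ψ hinj]
    exact ord6
  · intro k
    have := MonoidHom.map_isConj ψ (tab6K k)
    rw [map_pow, map_mul, map_mul, map_t6, ea, eb, ev] at this
    exact this

theorem tab9 (h : Hyp G H J a b c σ u v s) :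
    (orderOf (a * σ) = 9 ∧ ∀ k : Fin 9, IsConj ((a * σ) ^ (k : ℕ)) (t9 a b c (a * σ) k)) ∧
    (orderOf (a⁻¹ * σ) = 9 ∧ ∀ k : Fin 9, IsConj ((a⁻¹ * σ) ^ (k : ℕ)) (t9 a b c (a⁻¹ * σ) k)) := by
  obtain ⟨ψ, hinj, ea, eb, ec, es, eu, ev, et⟩ := exists_psi h
  refine ⟨⟨?_, ?_⟩, ⟨?_, ?_⟩⟩
  · rw [← ea, ← es, ← map_mul, orderOf_injective ψ hinj]
    exact ord9
  · intro k
    have := MonoidHom.map_isConj ψ (tab9K k)
    rw [map_pow, map_t9, map_mul, ea, eb, ec, es] at this
    exact this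
  · rw [← ea, ← es, ← map_inv, ← map_mul, orderOf_injective ψ hinj]
    exact ord9'
  · intro k
    have := MonoidHom.map_isConj ψ (tab9K' k)
    rw [map_pow, map_t9, map_mul, map_inv, ea, eb, ec, es] at this
    exact this

theorem tabJ (h : Hyp G H J a b c σ u v s) (e : ZMod 3 × ZMod 3 × ZMod 3) (he : e ≠ 0) :
    IsConj (elt a b c e) (repW a b c (wt e)) := by
  obtain ⟨ψ, hinj, ea, eb, ec, es, eu, ev, et⟩ := exists_psi h
  have := MonoidHom.map_isConj ψ (tabJK e he)
  rw [map_elt, map_repW, ea, eb, ec] at this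
  exact this

end grp

end Cfsg.Agent.Lib.Helper16_H648_TAB
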