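import Mathlib
import Cfsg.Prelude.Def_Characters
import Cfsg.Prelude.Def_TwoFusion
import Cfsg.Prelude.Def_Solvable
import Cfsg.Agent.Lib.Helper80_CharBasic
import Cfsg.Agent.Lib.Helper80_CharComplete
import Cfsg.Agent.Lib.Helper3_CharBridge
import Cfsg.Agent.Lib.Helper75_CharArith
import Cfsg.Agent.Lib.Helper79_Linear
import Cfsg.Agent.Lib.Helper17_H27Defs
import Cfsg.Agent.Lib.Helper76_H648Defs
import Cfsg.Agent.Lib.Helper16_H648_TAB

/-!
# S3702 package MULT12 (architect helper76)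

`mult12_aux`: the statement `mult12` of the market, from the conclusion of `tab12` (the table of the
classes of the powers of `c s`, an element of order twelve) as an explicit hypothesis.
The four numbers are differences of multiplicities of linear characters of `⟨c s⟩` in the
restriction of `χ`: `n1 = m4 - m0`, `n2 = m5 - m1`, `n3 = m3 - m1`, `n4 = m6 - m2`.
Also: `cyc_mult`, the multiplicity of a linear character of a cyclic subgroup (general).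
-/

set_option autoImplicit false
open scoped ComplexConjugate

namespace Cfsg.Agent.Lib.Helper46_H648_MULT12

open Cfsg Cfsg.Agent.Lib.Helper80_CharBasic
  Cfsg.Agent.Lib.Helper76_H648Defs
open Cfsg.Agent.Lib.Helper17_H27Defs (elt)

/-- `k ↦ x ^ k.val` as a homomorphism from the cyclic group `ZMod n` (written multiplicatively)
when `x ^ n = 1` -/
def cycHom {M : Type*} [Monoid M] (n : ℕ) [NeZero n] (x : M) (hx : x ^ n = 1) :
    Multiplicative (ZMod n) →* M where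
  toFun k := x ^ (Multiplicative.toAdd k).val
  map_one' := by simp
  map_mul' p q := by
    rw [toAdd_mul, ZMod.val_add, ← pow_add, ← pow_eq_pow_mod _ hx]

/-- multiplicity of a linear character of a cyclic subgroup in the restriction of a character -/
theorem cyc_mult {G : Type*} [Group G] {n : ℕ} [NeZero n] (x : G) (hx : x ^ n = 1) (w : ℂ)
    (hw : w ^ n = 1) {χ : G → ℂ} (hχ : IsCharacter G χ) :
    ∃ m : ℕ, ∑ k : ZMod n, χ (x ^ k.val) * w ^ k.val = (n : ℂ) * (m : ℂ) := by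
  classical
  have hn : n ≠ 0 := NeZero.ne n
  have hcw : (conj w) ^ n = 1 := by rw [← map_pow, hw, map_one]
  have hcw0 : conj w ≠ 0 := by
    intro h0
    rw [h0, zero_pow hn] at hcw
    exact zero_ne_one hcw
  set W : ℂˣ := Units.mk0 (conj w) hcw0 with hW
  have hWn : W ^ n = 1 := by
    apply Units.ext
    rw [Units.val_pow_eq_pow_val, Units.val_one, hW, Units.val_mk0, hcw]
  set f : Multiplicative (ZMod n) →* G := cycHom n x hx with hf
  set μ : Multiplicative (ZMod n) →* ℂˣ := cycHom n W hWn with hμ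
  have hχA : IsCharacter (Multiplicative (ZMod n)) (fun k => χ (f k)) :=
    Cfsg.Agent.Lib.Helper75_CharArith.isCharacter_comp f hχ
  have hμA : IsCharacter (Multiplicative (ZMod n)) (fun k => ((μ k : ℂˣ) : ℂ)) :=
    Cfsg.Agent.Lib.Helper3_CharBridge.isCharacter_of_isIrrCharacter
      (Cfsg.Agent.Lib.Helper79_Linear.isIrrCharacter_of_hom μ)
  obtain ⟨m, hm⟩ := Cfsg.Agent.Lib.Helper75_CharArith.classInner_isCharacter_nat hχA hμA
  refine ⟨m, ?_⟩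
  unfold classInner at hm
  have hcard : Nat.card (Multiplicative (ZMod n)) = n := by
    rw [Nat.card_eq_fintype_card, Fintype.card_multiplicative, ZMod.card]
  rw [hcard] at hm
  have hn0 : ((n : ℕ) : ℂ) ≠ 0 := Nat.cast_ne_zero.2 hn
  rw [inv_mul_eq_iff_eq_mul₀ hn0] at hm
  have hsum : ∑ k : Multiplicative (ZMod n), χ (f k) * conj ((μ k : ℂˣ) : ℂ) =
      ∑ k : ZMod n, χ (x ^ k.val) * w ^ k.val := by
    refine (Fintype.sum_equiv Multiplicative.ofAdd _ _ fun e => ?_).symm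
    congr 1
    rw [hμ]
    simp only [cycHom, MonoidHom.coe_mk, OneHom.coe_mk, toAdd_ofAdd, Units.val_pow_eq_pow_val, hW,
      Units.val_mk0, map_pow, Complex.conj_conj]
  rw [← hsum, hm]


theorem s3_sq : s3 ^ 2 = 3 := by
  unfold s3
  rw [← Complex.ofReal_pow, Real.sq_sqrt (by norm_num : (0:ℝ) ≤ 3)]
  norm_num

/-- the primitive twelfth root of unity `ζ = (√3 + i)/2` -/
noncomputable def zeta : ℂ := (s3 + Complex.I) / 2

theorem zeta_table :
    zeta ^ 0 = 1 ∧ zeta ^ 1 = (s3 + Complex.I) / 2 ∧ zeta ^ 2 = (1 + s3 * Complex.I) / 2 ∧ zeta ^ 3 = Complex.I ∧ zeta ^ 4 = (-1 + s3 * Complex.I) / 2 ∧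
    zeta ^ 5 = (-s3 + Complex.I) / 2 ∧ zeta ^ 6 = -1 ∧ zeta ^ 7 = (-s3 - Complex.I) / 2 ∧ zeta ^ 8 = (-1 - s3 * Complex.I) / 2 ∧ zeta ^ 9 = -Complex.I ∧
    zeta ^ 10 = (1 - s3 * Complex.I) / 2 ∧ zeta ^ 11 = (s3 - Complex.I) / 2 ∧ zeta ^ 12 = 1 := by
  have hs3 := s3_sq
  have hI : Complex.I ^ 2 = -1 := Complex.I_sq
  have z0 : zeta ^ 0 = 1 := pow_zero _
  have z1 : zeta ^ 1 = (s3 + Complex.I) / 2 := by rw [pow_one]; rfl
  have z2 : zeta ^ 2 = (1 + s3 * Complex.I) / 2 := by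
    unfold zeta
    linear_combination (1/4) * hs3 + (1/4) * hI
  have z3 : zeta ^ 3 = Complex.I := by
    rw [pow_succ, z2]
    unfold zeta
    linear_combination (Complex.I/4) * hs3 + (s3/4) * hI
  have z4 : zeta ^ 4 = (-1 + s3 * Complex.I) / 2 := by
    rw [pow_succ, z3]
    unfold zeta
    linear_combination (1/2) * hI
  have z5 : zeta ^ 5 = (-s3 + Complex.I) / 2 := by
    rw [pow_succ, z4]
    unfold zeta
    linear_combination (Complex.I/4) * hs3 + (s3/4) * hI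
  have z6 : zeta ^ 6 = -1 := by
    rw [pow_succ, z5]
    unfold zeta
    linear_combination (-1/4) * hs3 + (1/4) * hI
  have z7 : zeta ^ 7 = (-s3 - Complex.I) / 2 := by
    rw [show (7:ℕ) = 6 + 1 from rfl, pow_add, z6, z1]; ring
  have z8 : zeta ^ 8 = (-1 - s3 * Complex.I) / 2 := by
    rw [show (8:ℕ) = 6 + 2 from rfl, pow_add, z6, z2]; ring
  have z9 : zeta ^ 9 = -Complex.I := by
    rw [show (9:ℕ) = 6 + 3 from rfl, pow_add, z6, z3]; ring
  have z10 : zeta ^ 10 = (1 - s3 * Complex.I) / 2 := by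
    rw [show (10:ℕ) = 6 + 4 from rfl, pow_add, z6, z4]; ring
  have z11 : zeta ^ 11 = (s3 - Complex.I) / 2 := by
    rw [show (11:ℕ) = 6 + 5 from rfl, pow_add, z6, z5]; ring
  have z12 : zeta ^ 12 = 1 := by
    rw [show (12:ℕ) = 6 + 6 from rfl, pow_add, z6]; ring
  exact ⟨z0, z1, z2, z3, z4, z5, z6, z7, z8, z9, z10, z11, z12⟩


section grp
variable {G : Type*} [Group G] [Finite G] {c u s : G}

omit [Finite G] in
/-- the restriction of `χ` to `⟨c s⟩`: the twelve values, through the table -/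
theorem sum_formula
    (htab : orderOf (c * s) = 12 ∧ ∀ k : Fin 12, IsConj ((c * s) ^ (k : ℕ)) (t12 c u s k))
    (χ : IrrCharacter G) (w : ℂ) :
    ∑ k : ZMod 12, (χ : G → ℂ) ((c * s) ^ k.val) * w ^ k.val =
      (χ : G → ℂ) 1 + (χ : G → ℂ) (c * s) * w + (χ : G → ℂ) (c * u) * w ^ 2 +
      (χ : G → ℂ) s * w ^ 3 + (χ : G → ℂ) c * w ^ 4 + (χ : G → ℂ) (c⁻¹ * s) * w ^ 5 +
      (χ : G → ℂ) u * w ^ 6 + (χ : G → ℂ) (c⁻¹ * s) * w ^ 7 + (χ : G → ℂ) c * w ^ 8 +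
      (χ : G → ℂ) s * w ^ 9 + (χ : G → ℂ) (c * u) * w ^ 10 + (χ : G → ℂ) (c * s) * w ^ 11 := by
  have hv : ∀ k : Fin 12, (χ : G → ℂ) ((c * s) ^ (k : ℕ)) = (χ : G → ℂ) (t12 c u s k) :=
    fun k => irr_isConj χ (htab.2 k)
  have h1 : ∑ k : ZMod 12, (χ : G → ℂ) ((c * s) ^ k.val) * w ^ k.val =
      ∑ k : Fin 12, (χ : G → ℂ) (t12 c u s k) * w ^ (k : ℕ) := by
    refine Finset.sum_congr rfl fun k _ => ?_
    rw [← hv k]
    rfl
  rw [h1]
  simp only [Fin.sum_univ_succ, Fin.sum_univ_zero, t12]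
  simp
  ring

/-- **MULT12**, from the table of powers of `c s`. -/
theorem mult12_aux
    (htab : orderOf (c * s) = 12 ∧ ∀ k : Fin 12, IsConj ((c * s) ^ (k : ℕ)) (t12 c u s k))
    (χ : IrrCharacter G) :
    ∃ n1 n2 n3 n4 : ℤ,
      -((χ : G → ℂ) (c⁻¹ * s) + (χ : G → ℂ) (c * s) + (χ : G → ℂ) (c * u) + (χ : G → ℂ) c) / 4 = n1 ∧
      s3 / 6 * ((χ : G → ℂ) (c⁻¹ * s) - (χ : G → ℂ) (c * s)) = n2 ∧
      (s3 * ((χ : G → ℂ) (c⁻¹ * s) - (χ : G → ℂ) (c * s)) +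
        3 * ((χ : G → ℂ) c - (χ : G → ℂ) (c * u))) / 12 = n3 ∧
      ((χ : G → ℂ) c + (χ : G → ℂ) (c * u) - (χ : G → ℂ) (c⁻¹ * s) - (χ : G → ℂ) (c * s)) / 4 = n4 := by
  obtain ⟨z0, z1, z2, z3, z4, z5, z6, z7, z8, z9, z10, z11, z12⟩ := zeta_table
  have zp0 : zeta ^ 0 = 1 := z0
  have zp1 : zeta ^ 1 = (s3 + Complex.I) / 2 := z1
  have zp2 : zeta ^ 2 = (1 + s3 * Complex.I) / 2 := z2
  have zp3 : zeta ^ 3 = Complex.I := z3
  have zp4 : zeta ^ 4 = (-1 + s3 * Complex.I) / 2 := z4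
  have zp5 : zeta ^ 5 = (-s3 + Complex.I) / 2 := z5
  have zp6 : zeta ^ 6 = -1 := z6
  have zp7 : zeta ^ 7 = (-s3 - Complex.I) / 2 := z7
  have zp8 : zeta ^ 8 = (-1 - s3 * Complex.I) / 2 := z8
  have zp9 : zeta ^ 9 = -Complex.I := z9
  have zp10 : zeta ^ 10 = (1 - s3 * Complex.I) / 2 := z10
  have zp11 : zeta ^ 11 = (s3 - Complex.I) / 2 := z11
  have zp12 : zeta ^ 12 = 1 := by
    have h : zeta ^ 12 = zeta ^ 0 * (zeta ^ 12) ^ 1 := by rw [← pow_mul, ← pow_add]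
    rw [h, z12, one_pow, mul_one, z0]
  have zp14 : zeta ^ 14 = (1 + s3 * Complex.I) / 2 := by
    have h : zeta ^ 14 = zeta ^ 2 * (zeta ^ 12) ^ 1 := by rw [← pow_mul, ← pow_add]
    rw [h, z12, one_pow, mul_one, z2]
  have zp15 : zeta ^ 15 = Complex.I := by
    have h : zeta ^ 15 = zeta ^ 3 * (zeta ^ 12) ^ 1 := by rw [← pow_mul, ← pow_add]
    rw [h, z12, one_pow, mul_one, z3]
  have zp16 : zeta ^ 16 = (-1 + s3 * Complex.I) / 2 := by
    have h : zeta ^ 16 = zeta ^ 4 * (zeta ^ 12) ^ 1 := by rw [← pow_mul, ← pow_add]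
    rw [h, z12, one_pow, mul_one, z4]
  have zp18 : zeta ^ 18 = -1 := by
    have h : zeta ^ 18 = zeta ^ 6 * (zeta ^ 12) ^ 1 := by rw [← pow_mul, ← pow_add]
    rw [h, z12, one_pow, mul_one, z6]
  have zp20 : zeta ^ 20 = (-1 - s3 * Complex.I) / 2 := by
    have h : zeta ^ 20 = zeta ^ 8 * (zeta ^ 12) ^ 1 := by rw [← pow_mul, ← pow_add]
    rw [h, z12, one_pow, mul_one, z8]
  have zp21 : zeta ^ 21 = -Complex.I := by
    have h : zeta ^ 21 = zeta ^ 9 * (zeta ^ 12) ^ 1 := by rw [← pow_mul, ← pow_add]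
    rw [h, z12, one_pow, mul_one, z9]
  have zp22 : zeta ^ 22 = (1 - s3 * Complex.I) / 2 := by
    have h : zeta ^ 22 = zeta ^ 10 * (zeta ^ 12) ^ 1 := by rw [← pow_mul, ← pow_add]
    rw [h, z12, one_pow, mul_one, z10]
  have zp24 : zeta ^ 24 = 1 := by
    have h : zeta ^ 24 = zeta ^ 0 * (zeta ^ 12) ^ 2 := by rw [← pow_mul, ← pow_add]
    rw [h, z12, one_pow, mul_one, z0]
  have zp25 : zeta ^ 25 = (s3 + Complex.I) / 2 := by
    have h : zeta ^ 25 = zeta ^ 1 * (zeta ^ 12) ^ 2 := by rw [← pow_mul, ← pow_add]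
    rw [h, z12, one_pow, mul_one, z1]
  have zp27 : zeta ^ 27 = Complex.I := by
    have h : zeta ^ 27 = zeta ^ 3 * (zeta ^ 12) ^ 2 := by rw [← pow_mul, ← pow_add]
    rw [h, z12, one_pow, mul_one, z3]
  have zp28 : zeta ^ 28 = (-1 + s3 * Complex.I) / 2 := by
    have h : zeta ^ 28 = zeta ^ 4 * (zeta ^ 12) ^ 2 := by rw [← pow_mul, ← pow_add]
    rw [h, z12, one_pow, mul_one, z4]
  have zp30 : zeta ^ 30 = -1 := by
    have h : zeta ^ 30 = zeta ^ 6 * (zeta ^ 12) ^ 2 := by rw [← pow_mul, ← pow_add]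
    rw [h, z12, one_pow, mul_one, z6]
  have zp32 : zeta ^ 32 = (-1 - s3 * Complex.I) / 2 := by
    have h : zeta ^ 32 = zeta ^ 8 * (zeta ^ 12) ^ 2 := by rw [← pow_mul, ← pow_add]
    rw [h, z12, one_pow, mul_one, z8]
  have zp33 : zeta ^ 33 = -Complex.I := by
    have h : zeta ^ 33 = zeta ^ 9 * (zeta ^ 12) ^ 2 := by rw [← pow_mul, ← pow_add]
    rw [h, z12, one_pow, mul_one, z9]
  have zp35 : zeta ^ 35 = (s3 - Complex.I) / 2 := by
    have h : zeta ^ 35 = zeta ^ 11 * (zeta ^ 12) ^ 2 := by rw [← pow_mul, ← pow_add]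
    rw [h, z12, one_pow, mul_one, z11]
  have zp36 : zeta ^ 36 = 1 := by
    have h : zeta ^ 36 = zeta ^ 0 * (zeta ^ 12) ^ 3 := by rw [← pow_mul, ← pow_add]
    rw [h, z12, one_pow, mul_one, z0]
  have zp40 : zeta ^ 40 = (-1 + s3 * Complex.I) / 2 := by
    have h : zeta ^ 40 = zeta ^ 4 * (zeta ^ 12) ^ 3 := by rw [← pow_mul, ← pow_add]
    rw [h, z12, one_pow, mul_one, z4]
  have zp42 : zeta ^ 42 = -1 := by
    have h : zeta ^ 42 = zeta ^ 6 * (zeta ^ 12) ^ 3 := by rw [← pow_mul, ← pow_add]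
    rw [h, z12, one_pow, mul_one, z6]
  have zp44 : zeta ^ 44 = (-1 - s3 * Complex.I) / 2 := by
    have h : zeta ^ 44 = zeta ^ 8 * (zeta ^ 12) ^ 3 := by rw [← pow_mul, ← pow_add]
    rw [h, z12, one_pow, mul_one, z8]
  have zp45 : zeta ^ 45 = -Complex.I := by
    have h : zeta ^ 45 = zeta ^ 9 * (zeta ^ 12) ^ 3 := by rw [← pow_mul, ← pow_add]
    rw [h, z12, one_pow, mul_one, z9]
  have zp48 : zeta ^ 48 = 1 := by
    have h : zeta ^ 48 = zeta ^ 0 * (zeta ^ 12) ^ 4 := by rw [← pow_mul, ← pow_add]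
    rw [h, z12, one_pow, mul_one, z0]
  have zp50 : zeta ^ 50 = (1 + s3 * Complex.I) / 2 := by
    have h : zeta ^ 50 = zeta ^ 2 * (zeta ^ 12) ^ 4 := by rw [← pow_mul, ← pow_add]
    rw [h, z12, one_pow, mul_one, z2]
  have zp54 : zeta ^ 54 = -1 := by
    have h : zeta ^ 54 = zeta ^ 6 * (zeta ^ 12) ^ 4 := by rw [← pow_mul, ← pow_add]
    rw [h, z12, one_pow, mul_one, z6]
  have zp55 : zeta ^ 55 = (-s3 - Complex.I) / 2 := by
    have h : zeta ^ 55 = zeta ^ 7 * (zeta ^ 12) ^ 4 := by rw [← pow_mul, ← pow_add]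
    rw [h, z12, one_pow, mul_one, z7]
  have zp60 : zeta ^ 60 = 1 := by
    have h : zeta ^ 60 = zeta ^ 0 * (zeta ^ 12) ^ 5 := by rw [← pow_mul, ← pow_add]
    rw [h, z12, one_pow, mul_one, z0]
  have zp66 : zeta ^ 66 = -1 := by
    have h : zeta ^ 66 = zeta ^ 6 * (zeta ^ 12) ^ 5 := by rw [← pow_mul, ← pow_add]
    rw [h, z12, one_pow, mul_one, z6]
  have hx : (c * s) ^ 12 = 1 := by rw [← htab.1]; exact pow_orderOf_eq_one _
  have hχ : IsCharacter G (χ : G → ℂ) :=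
    Cfsg.Agent.Lib.Helper3_CharBridge.isCharacter_of_isIrrCharacter χ.2
  have hgen : ∀ r : ℕ, ∃ m : ℕ, ∑ k : ZMod 12, (χ : G → ℂ) ((c * s) ^ k.val) * (zeta ^ r) ^ k.val =
      ((12 : ℕ) : ℂ) * (m : ℂ) := fun r =>
    cyc_mult (c * s) hx (zeta ^ r) (by rw [← pow_mul, mul_comm, pow_mul, z12, one_pow]) hχ
  obtain ⟨m0, e0⟩ := hgen 0
  obtain ⟨m1, e1⟩ := hgen 1
  obtain ⟨m2, e2⟩ := hgen 2
  obtain ⟨m3, e3⟩ := hgen 3
  obtain ⟨m4, e4⟩ := hgen 4
  obtain ⟨m5, e5⟩ := hgen 5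
  obtain ⟨m6, e6⟩ := hgen 6
  rw [sum_formula htab χ] at e0 e1 e2 e3 e4 e5 e6
  simp only [← pow_mul, Nat.reduceMul] at e0 e1 e2 e3 e4 e5 e6
  simp only [zp0, zp1, zp2, zp3, zp4, zp5, zp6, zp7, zp8, zp9, zp10, zp11, zp12, zp14, zp15, zp16, zp18, zp20, zp21, zp22, zp24, zp25, zp27, zp28, zp30, zp32, zp33, zp35, zp36, zp40, zp42, zp44, zp45, zp48, zp50, zp54, zp55, zp60, zp66] at e0 e1 e2 e3 e4 e5 e6
  refine ⟨(m4 : ℤ) - m0, (m5 : ℤ) - m1, (m3 : ℤ) - m1, (m6 : ℤ) - m2, ?_, ?_, ?_, ?_⟩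
  · push_cast
    linear_combination (1/12) * e4 - (1/12) * e0
  · push_cast
    linear_combination (1/12) * e5 - (1/12) * e1
  · push_cast
    linear_combination (1/12) * e3 - (1/12) * e1
  · push_cast
    linear_combination (1/12) * e6 - (1/12) * e2

end grp

section verbatim
variable {G : Type*} [Group G] [Finite G] {H J : Subgroup G} {a b c σ u v s : G}

/-- **PKG MULT12** (S3702 market of helper76), verbatim statement. -/
theorem mult12 (h : Hyp G H J a b c σ u v s) (χ : IrrCharacter G) :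
    ∃ n1 n2 n3 n4 : ℤ,
      -((χ : G → ℂ) (c⁻¹ * s) + (χ : G → ℂ) (c * s) + (χ : G → ℂ) (c * u) + (χ : G → ℂ) c) / 4 = n1 ∧
      s3 / 6 * ((χ : G → ℂ) (c⁻¹ * s) - (χ : G → ℂ) (c * s)) = n2 ∧
      (s3 * ((χ : G → ℂ) (c⁻¹ * s) - (χ : G → ℂ) (c * s)) +
        3 * ((χ : G → ℂ) c - (χ : G → ℂ) (c * u))) / 12 = n3 ∧
      ((χ : G → ℂ) c + (χ : G → ℂ) (c * u) - (χ : G → ℂ) (c⁻¹ * s) - (χ : G → ℂ) (c * s)) / 4 = n4 :=
  mult12_aux (Cfsg.Agent.Lib.Helper16_H648_TAB.tab12 h) χ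

end verbatim

end Cfsg.Agent.Lib.Helper46_H648_MULT12
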