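import Mathlib
import Cfsg.Prelude.Def_Characters
import Cfsg.Agent.Lib.Helper80_CharBasic
import Cfsg.Agent.Lib.Helper3_CharBridge
import Cfsg.Agent.Lib.Helper75_CharArith
import Cfsg.Agent.Lib.Helper79_Linear
import Cfsg.Agent.Lib.Helper17_H27Defs

/-!
# S3701 package MULT1 (architect helper17)

For an irreducible character `χ` of `G` and a primitive cube root of unity `ζ`, the sum
`∑ e, χ (a^i b^j c^k) ζ^(i+j+k)` over `e = (i,j,k) ∈ (ℤ/3)³` is `27` times a natural number (the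
multiplicity of a linear character of `⟨a⟩ × ⟨b⟩ × ⟨c⟩` in the restriction of `χ`).
-/

set_option autoImplicit false
open scoped ComplexConjugate

namespace Cfsg.Agent.Lib.Helper33_H27_MULT1

open Cfsg Cfsg.Agent.Lib.Helper80_CharBasic Cfsg.Agent.Lib.Helper17_H27Defs

/-- the abstract group `(ℤ/3)³`, written multiplicatively -/
abbrev A3 : Type := Multiplicative (ZMod 3 × ZMod 3 × ZMod 3)

theorem pow_val_add {M : Type*} [Monoid M] {x : M} (hx : x ^ 3 = 1) (i j : ZMod 3) :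
    x ^ (i + j).val = x ^ i.val * x ^ j.val := by
  rw [ZMod.val_add, ← pow_add, ← pow_eq_pow_mod _ hx]

/-- `e ↦ a^i b^j c^k` is a homomorphism when `a, b, c` commute and have exponent three -/
def eltHom {G : Type*} [Group G] (a b c : G) (ha : a ^ 3 = 1) (hb : b ^ 3 = 1) (hc : c ^ 3 = 1)
    (hab : a * b = b * a) (hac : a * c = c * a) (hbc : b * c = c * b) : A3 →* G where
  toFun e := elt a b c (Multiplicative.toAdd e)
  map_one' := by simp [elt]
  map_mul' x y := by
    have h1 : Commute a b := hab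
    have h2 : Commute a c := hac
    have h3 : Commute b c := hbc
    simp only [elt, toAdd_mul, Prod.fst_add, Prod.snd_add, pow_val_add ha, pow_val_add hb,
      pow_val_add hc]
    set i := (Multiplicative.toAdd x).1.val
    set j := (Multiplicative.toAdd x).2.1.val
    set k := (Multiplicative.toAdd x).2.2.val
    set i' := (Multiplicative.toAdd y).1.val
    set j' := (Multiplicative.toAdd y).2.1.val
    set k' := (Multiplicative.toAdd y).2.2.val
    have e1 : Commute (b ^ j) (a ^ i') := (h1.pow_pow i' j).symm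
    have e2 : Commute (c ^ k) (a ^ i') := (h2.pow_pow i' k).symm
    have e3 : Commute (c ^ k) (b ^ j') := (h3.pow_pow j' k).symm
    calc a ^ i * a ^ i' * (b ^ j * b ^ j') * (c ^ k * c ^ k')
        = a ^ i * (a ^ i' * b ^ j) * b ^ j' * c ^ k * c ^ k' := by simp only [mul_assoc]
      _ = a ^ i * (b ^ j * a ^ i') * b ^ j' * c ^ k * c ^ k' := by rw [e1.eq]
      _ = a ^ i * b ^ j * (a ^ i' * (b ^ j' * c ^ k)) * c ^ k' := by simp only [mul_assoc]
      _ = a ^ i * b ^ j * (a ^ i' * (c ^ k * b ^ j')) * c ^ k' := by rw [e3.eq]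
      _ = a ^ i * b ^ j * ((a ^ i' * c ^ k) * b ^ j') * c ^ k' := by simp only [mul_assoc]
      _ = a ^ i * b ^ j * ((c ^ k * a ^ i') * b ^ j') * c ^ k' := by rw [e2.eq]
      _ = a ^ i * b ^ j * c ^ k * (a ^ i' * b ^ j' * c ^ k') := by simp only [mul_assoc]

/-- the linear character `e ↦ w^(i+j+k)` of `(ℤ/3)³` -/
def lamHom (w : ℂˣ) (hw : w ^ 3 = 1) : A3 →* ℂˣ where
  toFun e := w ^ ((Multiplicative.toAdd e).1 + (Multiplicative.toAdd e).2.1 +
    (Multiplicative.toAdd e).2.2).val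
  map_one' := by simp
  map_mul' x y := by
    rw [← pow_val_add hw]
    congr 2
    simp only [toAdd_mul, Prod.fst_add, Prod.snd_add]
    ring

section grp
variable {G : Type*} [Group G] [Finite G] {T : Subgroup G} {a b c u v : G}

/-- **MULT1**. -/
theorem mult_nat (h : Hyp G T a b c u v) (χ : IrrCharacter G) (ζ : ℂ) (hζ : ζ ^ 2 + ζ + 1 = 0) :
    ∃ m : ℕ, ∑ e : ZMod 3 × ZMod 3 × ZMod 3,
      (χ : G → ℂ) (elt a b c e) * ζ ^ (e.1 + e.2.1 + e.2.2).val = 27 * (m : ℂ) := by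
  classical
  have ha : a ^ 3 = 1 := by rw [← h.oa]; exact pow_orderOf_eq_one a
  have hb : b ^ 3 = 1 := by rw [← h.ob]; exact pow_orderOf_eq_one b
  have hc : c ^ 3 = 1 := by rw [← h.oc]; exact pow_orderOf_eq_one c
  -- the conjugate root of unity, as a unit
  have hζ3 : ζ ^ 3 = 1 := by linear_combination (ζ - 1) * hζ
  have hcζ3 : (conj ζ) ^ 3 = 1 := by rw [← map_pow, hζ3, map_one]
  have hcζ0 : conj ζ ≠ 0 := by
    intro h0
    rw [h0] at hcζ3
    norm_num at hcζ3
  set w : ℂˣ := Units.mk0 (conj ζ) hcζ0 with hw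
  have hw3 : w ^ 3 = 1 := by
    apply Units.ext
    rw [Units.val_pow_eq_pow_val, Units.val_one, hw, Units.val_mk0, hcζ3]
  set f : A3 →* G := eltHom a b c ha hb hc h.ab h.ac h.bc with hf
  set μ : A3 →* ℂˣ := lamHom w hw3 with hμ
  have hχ : IsCharacter G (χ : G → ℂ) :=
    Cfsg.Agent.Lib.Helper3_CharBridge.isCharacter_of_isIrrCharacter χ.2
  have hχA : IsCharacter A3 (fun x : A3 => (χ : G → ℂ) (f x)) :=
    Cfsg.Agent.Lib.Helper75_CharArith.isCharacter_comp f hχ
  have hμA : IsCharacter A3 (fun x : A3 => ((μ x : ℂˣ) : ℂ)) :=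
    Cfsg.Agent.Lib.Helper3_CharBridge.isCharacter_of_isIrrCharacter
      (Cfsg.Agent.Lib.Helper79_Linear.isIrrCharacter_of_hom μ)
  obtain ⟨m, hm⟩ := Cfsg.Agent.Lib.Helper75_CharArith.classInner_isCharacter_nat hχA hμA
  refine ⟨m, ?_⟩
  unfold classInner at hm
  have hcard : Nat.card A3 = 27 := by
    rw [Nat.card_eq_fintype_card]
    rfl
  rw [hcard] at hm
  have h27 : ((27 : ℕ) : ℂ) ≠ 0 := by norm_num
  rw [inv_mul_eq_iff_eq_mul₀ h27] at hm
  have hsum : ∑ x : A3, (χ : G → ℂ) (f x) * conj ((μ x : ℂˣ) : ℂ) =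
      ∑ e : ZMod 3 × ZMod 3 × ZMod 3,
        (χ : G → ℂ) (elt a b c e) * ζ ^ (e.1 + e.2.1 + e.2.2).val := by
    refine (Fintype.sum_equiv Multiplicative.ofAdd _ _ fun e => ?_).symm
    congr 1
    rw [hμ]
    simp only [lamHom, MonoidHom.coe_mk, OneHom.coe_mk, toAdd_ofAdd, Units.val_pow_eq_pow_val, hw,
      Units.val_mk0, map_pow, Complex.conj_conj]
  rw [← hsum, hm]
  push_cast
  ring

end grp

end Cfsg.Agent.Lib.Helper33_H27_MULT1
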