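import Mathlib
import Cfsg.Prelude.Def_Characters
import Cfsg.Agent.Lib.Helper80_CharBasic
import Cfsg.Agent.Lib.Helper17_H27Defs

/-!
# S3701 package LAM (helper17's market `h27_packages`)

`lam_aux`: the statement of `lam` with the three inputs MULT1 (`mult_nat`), FUS27 (`real_of`, `conj_of_prod`)
passed as explicit hypotheses.
-/

set_option autoImplicit false

namespace Cfsg.Agent.Lib.Helper51_H27_LAM

open Cfsg Cfsg.Agent.Lib.Helper80_CharBasic Cfsg.Agent.Lib.Helper17_H27Defs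

theorem sum27 (g : ZMod 3 × ZMod 3 × ZMod 3 → ℂ) : ∑ e, g e =
    g (0,0,0) + g (0,0,1) + g (0,0,2) + g (0,1,0) + g (0,1,1) + g (0,1,2) + g (0,2,0) + g (0,2,1) + g (0,2,2) +
    g (1,0,0) + g (1,0,1) + g (1,0,2) + g (1,1,0) + g (1,1,1) + g (1,1,2) + g (1,2,0) + g (1,2,1) + g (1,2,2) +
    g (2,0,0) + g (2,0,1) + g (2,0,2) + g (2,1,0) + g (2,1,1) + g (2,1,2) + g (2,2,0) + g (2,2,1) + g (2,2,2) := by
  simp only [Fintype.sum_prod_type]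
  have h3 : ∀ f : ZMod 3 → ℂ, ∑ x : ZMod 3, f x = f 0 + f 1 + f 2 := fun f => Fin.sum_univ_three f
  simp only [h3]
  ring

section grp
variable {G : Type*} [Group G]

theorem pow_neg_val {x : G} (hx : orderOf x = 3) (i : ZMod 3) : x ^ (-i).val = (x ^ i.val)⁻¹ := by
  have h3 : x ^ 3 = 1 := by rw [← hx]; exact pow_orderOf_eq_one x
  fin_cases i
  · show x ^ 0 = (x ^ 0)⁻¹
    simp
  · show x ^ 2 = (x ^ 1)⁻¹
    rw [eq_inv_iff_mul_eq_one, ← pow_add]; exact h3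
  · show x ^ 1 = (x ^ 2)⁻¹
    rw [eq_inv_iff_mul_eq_one, ← pow_add]; exact h3

variable {T : Subgroup G} {a b c u v : G}

theorem elt_neg (h : Hyp G T a b c u v) (e : ZMod 3 × ZMod 3 × ZMod 3) :
    elt a b c (-e) = (elt a b c e)⁻¹ := by
  unfold elt
  have hab : Commute a b := h.ab
  have hac : Commute a c := h.ac
  have hbc : Commute b c := h.bc
  simp only [Prod.fst_neg, Prod.snd_neg]
  rw [pow_neg_val h.oa, pow_neg_val h.ob, pow_neg_val h.oc, mul_inv_rev, mul_inv_rev]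
  have h1 : Commute (a ^ e.1.val)⁻¹ (b ^ e.2.1.val)⁻¹ := ((hab.pow_pow _ _).inv_inv)
  have h2 : Commute (a ^ e.1.val)⁻¹ (c ^ e.2.2.val)⁻¹ := ((hac.pow_pow _ _).inv_inv)
  have h3 : Commute (b ^ e.2.1.val)⁻¹ (c ^ e.2.2.val)⁻¹ := ((hbc.pow_pow _ _).inv_inv)
  calc (a ^ e.1.val)⁻¹ * (b ^ e.2.1.val)⁻¹ * (c ^ e.2.2.val)⁻¹
      = (c ^ e.2.2.val)⁻¹ * ((a ^ e.1.val)⁻¹ * (b ^ e.2.1.val)⁻¹) := ((h2.mul_left h3).eq)
    _ = (c ^ e.2.2.val)⁻¹ * ((b ^ e.2.1.val)⁻¹ * (a ^ e.1.val)⁻¹) := by rw [h1.eq]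

theorem lam_aux (h : Hyp G T a b c u v) (χ : IrrCharacter G)
    (hmult : ∀ ζ : ℂ, ζ ^ 2 + ζ + 1 = 0 → ∃ m : ℕ, ∑ e : ZMod 3 × ZMod 3 × ZMod 3,
      (χ : G → ℂ) (elt a b c e) * ζ ^ (e.1 + e.2.1 + e.2.2).val = 27 * (m : ℂ))
    (hreal : ∀ e : ZMod 3 × ZMod 3 × ZMod 3, (e.1 = 0 ∨ e.2.1 = 0 ∨ e.2.2 = 0) →
      IsConj (elt a b c e) (elt a b c e)⁻¹)
    (hprod : ∀ e : ZMod 3 × ZMod 3 × ZMod 3,
      (e.1 * e.2.1 * e.2.2 = 1 → IsConj (a * b * c) (elt a b c e)) ∧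
      (e.1 * e.2.1 * e.2.2 = 2 → IsConj (a * b * c)⁻¹ (elt a b c e))) :
    ∃ k : ℤ, ((χ : G → ℂ) (a * b * c) - (χ : G → ℂ) (a * b * c)⁻¹) ^ 2 = -27 * (k : ℂ) ^ 2 := by
  obtain ⟨ζ, hζ⟩ : ∃ ζ : ℂ, ζ ^ 2 + ζ + 1 = 0 := by
    have hp := Complex.isPrimitiveRoot_exp 3 (by norm_num)
    refine ⟨Complex.exp (2 * Real.pi * Complex.I / (3 : ℕ)), ?_⟩
    have h3 := hp.pow_eq_one
    have h1 := hp.ne_one (by norm_num)
    have : (Complex.exp (2 * Real.pi * Complex.I / (3 : ℕ)) - 1) *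
        (Complex.exp (2 * Real.pi * Complex.I / (3 : ℕ)) ^ 2 + Complex.exp (2 * Real.pi * Complex.I / (3 : ℕ)) + 1) = 0 := by
      linear_combination h3
    rcases mul_eq_zero.mp this with h0 | h0
    · exact absurd (sub_eq_zero.mp h0) h1
    · exact h0
  have hζ2 : (ζ ^ 2) ^ 2 + ζ ^ 2 + 1 = 0 := by linear_combination (ζ ^ 2 - ζ + 1) * hζ
  obtain ⟨m, hm⟩ := hmult ζ hζ
  obtain ⟨m', hm'⟩ := hmult (ζ ^ 2) hζ2
  set f : ZMod 3 × ZMod 3 × ZMod 3 → ℂ := fun e => (χ : G → ℂ) (elt a b c e) with hf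
  set X : ℂ := (χ : G → ℂ) (a * b * c) with hX
  set Y : ℂ := (χ : G → ℂ) (a * b * c)⁻¹ with hY
  have hneg : ∀ e : ZMod 3 × ZMod 3 × ZMod 3, (e.1 = 0 ∨ e.2.1 = 0 ∨ e.2.2 = 0) → f (-e) = f e := by
    intro e he
    show (χ : G → ℂ) (elt a b c (-e)) = (χ : G → ℂ) (elt a b c e)
    rw [elt_neg h e]
    exact (irr_isConj χ (hreal e he)).symm
  have r001 : f (0, 0, 2) = f (0, 0, 1) := hneg (0, 0, 1) (by decide)
  have r010 : f (0, 2, 0) = f (0, 1, 0) := hneg (0, 1, 0) (by decide)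
  have r011 : f (0, 2, 2) = f (0, 1, 1) := hneg (0, 1, 1) (by decide)
  have r012 : f (0, 2, 1) = f (0, 1, 2) := hneg (0, 1, 2) (by decide)
  have r100 : f (2, 0, 0) = f (1, 0, 0) := hneg (1, 0, 0) (by decide)
  have r101 : f (2, 0, 2) = f (1, 0, 1) := hneg (1, 0, 1) (by decide)
  have r102 : f (2, 0, 1) = f (1, 0, 2) := hneg (1, 0, 2) (by decide)
  have r110 : f (2, 2, 0) = f (1, 1, 0) := hneg (1, 1, 0) (by decide)
  have r120 : f (2, 1, 0) = f (1, 2, 0) := hneg (1, 2, 0) (by decide)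
  have p111 : f (1, 1, 1) = X := (irr_isConj χ ((hprod (1, 1, 1)).1 (by decide))).symm
  have p122 : f (1, 2, 2) = X := (irr_isConj χ ((hprod (1, 2, 2)).1 (by decide))).symm
  have p212 : f (2, 1, 2) = X := (irr_isConj χ ((hprod (2, 1, 2)).1 (by decide))).symm
  have p221 : f (2, 2, 1) = X := (irr_isConj χ ((hprod (2, 2, 1)).1 (by decide))).symm
  have m112 : f (1, 1, 2) = Y := (irr_isConj χ ((hprod (1, 1, 2)).2 (by decide))).symm
  have m121 : f (1, 2, 1) = Y := (irr_isConj χ ((hprod (1, 2, 1)).2 (by decide))).symm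
  have m211 : f (2, 1, 1) = Y := (irr_isConj χ ((hprod (2, 1, 1)).2 (by decide))).symm
  have m222 : f (2, 2, 2) = Y := (irr_isConj χ ((hprod (2, 2, 2)).2 (by decide))).symm
  have E1 : ∑ e : ZMod 3 × ZMod 3 × ZMod 3, f e * ζ ^ (e.1 + e.2.1 + e.2.2).val = 27 * (m : ℂ) := hm
  have E2 : ∑ e : ZMod 3 × ZMod 3 × ZMod 3, f e * (ζ ^ 2) ^ (e.1 + e.2.1 + e.2.2).val = 27 * (m' : ℂ) := hm'
  rw [sum27] at E1 E2
  simp only [
    (show (((0:ZMod 3)) + 0 + 0).val = 0 from rfl),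
    (show (((0:ZMod 3)) + 0 + 1).val = 1 from rfl),
    (show (((0:ZMod 3)) + 0 + 2).val = 2 from rfl),
    (show (((0:ZMod 3)) + 1 + 0).val = 1 from rfl),
    (show (((0:ZMod 3)) + 1 + 1).val = 2 from rfl),
    (show (((0:ZMod 3)) + 1 + 2).val = 0 from rfl),
    (show (((0:ZMod 3)) + 2 + 0).val = 2 from rfl),
    (show (((0:ZMod 3)) + 2 + 1).val = 0 from rfl),
    (show (((0:ZMod 3)) + 2 + 2).val = 1 from rfl),
    (show (((1:ZMod 3)) + 0 + 0).val = 1 from rfl),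
    (show (((1:ZMod 3)) + 0 + 1).val = 2 from rfl),
    (show (((1:ZMod 3)) + 0 + 2).val = 0 from rfl),
    (show (((1:ZMod 3)) + 1 + 0).val = 2 from rfl),
    (show (((1:ZMod 3)) + 1 + 1).val = 0 from rfl),
    (show (((1:ZMod 3)) + 1 + 2).val = 1 from rfl),
    (show (((1:ZMod 3)) + 2 + 0).val = 0 from rfl),
    (show (((1:ZMod 3)) + 2 + 1).val = 1 from rfl),
    (show (((1:ZMod 3)) + 2 + 2).val = 2 from rfl),
    (show (((2:ZMod 3)) + 0 + 0).val = 2 from rfl),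
    (show (((2:ZMod 3)) + 0 + 1).val = 0 from rfl),
    (show (((2:ZMod 3)) + 0 + 2).val = 1 from rfl),
    (show (((2:ZMod 3)) + 1 + 0).val = 0 from rfl),
    (show (((2:ZMod 3)) + 1 + 1).val = 1 from rfl),
    (show (((2:ZMod 3)) + 1 + 2).val = 2 from rfl),
    (show (((2:ZMod 3)) + 2 + 0).val = 1 from rfl),
    (show (((2:ZMod 3)) + 2 + 1).val = 2 from rfl),
    (show (((2:ZMod 3)) + 2 + 2).val = 0 from rfl)] at E1 E2
  rw [r001, r010, r011, r012, r100, r101, r102, r110, r120, p111, p122, p212, p221, m112, m121, m211, m222] at E1 E2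
  have H : 3 * (ζ ^ 2 - ζ) * (X - Y) - 27 * ((m : ℂ) - (m' : ℂ)) = 0 := by
    linear_combination E1 - E2 + (f (0,0,1) + f (0,1,1) + f (0,1,0) + f (1,0,1) + f (1,1,0) + f (1,0,0) + 3*X) * ζ * (ζ - 1) * hζ
  refine ⟨(m : ℤ) - (m' : ℤ), ?_⟩
  push_cast
  linear_combination (-1/27 : ℂ) * ((3 * (ζ ^ 2 - ζ) * (X - Y) + 27 * ((m : ℂ) - (m' : ℂ))) * H
    - 9 * (X - Y) ^ 2 * (ζ ^ 2 - 3 * ζ + 3) * hζ)

end grp

end Cfsg.Agent.Lib.Helper51_H27_LAM
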