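import Mathlib
import Cfsg.Prelude.Def_Characters
import Cfsg.Agent.Lib.Helper80_CharBasic
import Cfsg.Agent.Lib.Helper3_CharBridge
import Cfsg.Agent.Lib.Helper75_CharArith
import Cfsg.Agent.Lib.Helper79_Linear
import Cfsg.Agent.Lib.Helper17_H27Defs
import Cfsg.Agent.Lib.Helper33_H27_MULT1
import Cfsg.Agent.Lib.Helper51_H27_LAM
import Cfsg.Agent.Lib.Helper76_H648Defs

/-!
# S3702 market `h648_packages` (architect helper76), package MULTJ, aux form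

`multJ_aux`: the conclusion of `multJ` from the facts that `a, b, c` commute and have exponent three (from STRUCT) and
the class table `tabJ` of `J`: the multiplicities of the four linear characters `ζ^(p x + q y + r z)`,
`(p, q, r) = (0,0,0), (0,0,1), (1,1,0), (1,1,1)` of `J = ⟨a⟩ × ⟨b⟩ × ⟨c⟩` in the restriction of `χ`.
-/

set_option autoImplicit false
open scoped ComplexConjugate

namespace Cfsg.Agent.Lib.Helper60_H648_MULTJaux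

open Cfsg Cfsg.Agent.Lib.Helper80_CharBasic Cfsg.Agent.Lib.Helper76_H648Defs
open Cfsg.Agent.Lib.Helper17_H27Defs (elt)
open Cfsg.Agent.Lib.Helper33_H27_MULT1 (A3 eltHom pow_val_add)
open Cfsg.Agent.Lib.Helper51_H27_LAM (sum27)

/-- the linear character `e ↦ w^(p i + q j + r k)` of `(ℤ/3)³` -/
def lamHomG (w : ℂˣ) (hw : w ^ 3 = 1) (p q r : ZMod 3) : A3 →* ℂˣ where
  toFun e := w ^ (p * (Multiplicative.toAdd e).1 + q * (Multiplicative.toAdd e).2.1 +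
    r * (Multiplicative.toAdd e).2.2).val
  map_one' := by simp
  map_mul' x y := by
    rw [← pow_val_add hw]
    congr 2
    simp only [toAdd_mul, Prod.fst_add, Prod.snd_add]
    ring

section grp
variable {G : Type*} [Group G] [Finite G] {a b c : G}

omit [Finite G] in
/-- the multiplicity of a general linear character of `⟨a⟩ × ⟨b⟩ × ⟨c⟩` -/
theorem mult_gen (ha : a ^ 3 = 1) (hb : b ^ 3 = 1) (hc : c ^ 3 = 1) (hab : a * b = b * a)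
    (hac : a * c = c * a) (hbc : b * c = c * b) (χ : IrrCharacter G) (ζ : ℂ)
    (hζ : ζ ^ 2 + ζ + 1 = 0) (p q r : ZMod 3) :
    ∃ m : ℕ, ∑ e : ZMod 3 × ZMod 3 × ZMod 3,
      (χ : G → ℂ) (elt a b c e) * ζ ^ (p * e.1 + q * e.2.1 + r * e.2.2).val = 27 * (m : ℂ) := by
  classical
  have hζ3 : ζ ^ 3 = 1 := by linear_combination (ζ - 1) * hζ
  have hcζ3 : (conj ζ) ^ 3 = 1 := by rw [← map_pow, hζ3, map_one]
  have hcζ0 : conj ζ ≠ 0 := by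
    intro h0
    rw [h0] at hcζ3
    norm_num at hcζ3
  set w : ℂˣ := Units.mk0 (conj ζ) hcζ0 with hw
  have hw3 : w ^ 3 = 1 := by
    apply Units.ext
    rw [Units.val_pow_eq_pow_val, Units.val_one, hw, Units.val_mk0, hcζ3]
  set f : A3 →* G := eltHom a b c ha hb hc hab hac hbc with hf
  set μ : A3 →* ℂˣ := lamHomG w hw3 p q r with hμ
  have hχ : IsCharacter G (χ : G → ℂ) :=
    Cfsg.Agent.Lib.Helper3_CharBridge.isCharacter_of_isIrrCharacter χ.2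
  have hχA : IsCharacter A3 (fun x : A3 => (χ : G → ℂ) (f x)) :=
    Cfsg.Agent.Lib.Helper75_CharArith.isCharacter_comp f hχ
  have hμA : IsCharacter A3 (fun x : A3 => ((μ x : ℂˣ) : ℂ)) :=
    Cfsg.Agent.Lib.Helper3_CharBridge.isCharacter_of_isIrrCharacter
      (Cfsg.Agent.Lib.Helper79_Linear.isIrrCharacter_of_hom μ)
  obtain ⟨m, hm⟩ := Cfsg.Agent.Lib.Helper75_CharArith.classInner_isCharacter_nat hχA hμA
  refine ⟨m, ?_⟩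
  unfold classInner at hm
  have hcard : Nat.card A3 = 27 := by
    rw [Nat.card_eq_fintype_card]
    rfl
  rw [hcard] at hm
  have h27 : ((27 : ℕ) : ℂ) ≠ 0 := by norm_num
  rw [inv_mul_eq_iff_eq_mul₀ h27] at hm
  have hsum : ∑ x : A3, (χ : G → ℂ) (f x) * conj ((μ x : ℂˣ) : ℂ) =
      ∑ e : ZMod 3 × ZMod 3 × ZMod 3,
        (χ : G → ℂ) (elt a b c e) * ζ ^ (p * e.1 + q * e.2.1 + r * e.2.2).val := by
    refine (Fintype.sum_equiv Multiplicative.ofAdd _ _ fun e => ?_).symm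
    congr 1
    rw [hμ]
    simp only [lamHomG, MonoidHom.coe_mk, OneHom.coe_mk, toAdd_ofAdd, Units.val_pow_eq_pow_val, hw,
      Units.val_mk0, map_pow, Complex.conj_conj]
  rw [← hsum, hm]
  push_cast
  ring

theorem sum_c000 (f : ZMod 3 × ZMod 3 × ZMod 3 → ℂ) (ζ : ℂ) :
    ∑ e : ZMod 3 × ZMod 3 × ZMod 3, f e * ζ ^ ((0 : ZMod 3) * e.1 + 0 * e.2.1 + 0 * e.2.2).val =
      f (0, 0, 0) * ζ ^ 0 +
      f (0, 0, 1) * ζ ^ 0 +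
      f (0, 0, 2) * ζ ^ 0 +
      f (0, 1, 0) * ζ ^ 0 +
      f (0, 1, 1) * ζ ^ 0 +
      f (0, 1, 2) * ζ ^ 0 +
      f (0, 2, 0) * ζ ^ 0 +
      f (0, 2, 1) * ζ ^ 0 +
      f (0, 2, 2) * ζ ^ 0 +
      f (1, 0, 0) * ζ ^ 0 +
      f (1, 0, 1) * ζ ^ 0 +
      f (1, 0, 2) * ζ ^ 0 +
      f (1, 1, 0) * ζ ^ 0 +
      f (1, 1, 1) * ζ ^ 0 +
      f (1, 1, 2) * ζ ^ 0 +
      f (1, 2, 0) * ζ ^ 0 +
      f (1, 2, 1) * ζ ^ 0 +
      f (1, 2, 2) * ζ ^ 0 +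
      f (2, 0, 0) * ζ ^ 0 +
      f (2, 0, 1) * ζ ^ 0 +
      f (2, 0, 2) * ζ ^ 0 +
      f (2, 1, 0) * ζ ^ 0 +
      f (2, 1, 1) * ζ ^ 0 +
      f (2, 1, 2) * ζ ^ 0 +
      f (2, 2, 0) * ζ ^ 0 +
      f (2, 2, 1) * ζ ^ 0 +
      f (2, 2, 2) * ζ ^ 0 := by
  rw [sum27]
  rfl

theorem sum_c001 (f : ZMod 3 × ZMod 3 × ZMod 3 → ℂ) (ζ : ℂ) :
    ∑ e : ZMod 3 × ZMod 3 × ZMod 3, f e * ζ ^ ((0 : ZMod 3) * e.1 + 0 * e.2.1 + 1 * e.2.2).val =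
      f (0, 0, 0) * ζ ^ 0 +
      f (0, 0, 1) * ζ ^ 1 +
      f (0, 0, 2) * ζ ^ 2 +
      f (0, 1, 0) * ζ ^ 0 +
      f (0, 1, 1) * ζ ^ 1 +
      f (0, 1, 2) * ζ ^ 2 +
      f (0, 2, 0) * ζ ^ 0 +
      f (0, 2, 1) * ζ ^ 1 +
      f (0, 2, 2) * ζ ^ 2 +
      f (1, 0, 0) * ζ ^ 0 +
      f (1, 0, 1) * ζ ^ 1 +
      f (1, 0, 2) * ζ ^ 2 +
      f (1, 1, 0) * ζ ^ 0 +
      f (1, 1, 1) * ζ ^ 1 +
      f (1, 1, 2) * ζ ^ 2 +
      f (1, 2, 0) * ζ ^ 0 +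
      f (1, 2, 1) * ζ ^ 1 +
      f (1, 2, 2) * ζ ^ 2 +
      f (2, 0, 0) * ζ ^ 0 +
      f (2, 0, 1) * ζ ^ 1 +
      f (2, 0, 2) * ζ ^ 2 +
      f (2, 1, 0) * ζ ^ 0 +
      f (2, 1, 1) * ζ ^ 1 +
      f (2, 1, 2) * ζ ^ 2 +
      f (2, 2, 0) * ζ ^ 0 +
      f (2, 2, 1) * ζ ^ 1 +
      f (2, 2, 2) * ζ ^ 2 := by
  rw [sum27]
  rfl

theorem sum_c110 (f : ZMod 3 × ZMod 3 × ZMod 3 → ℂ) (ζ : ℂ) :
    ∑ e : ZMod 3 × ZMod 3 × ZMod 3, f e * ζ ^ ((1 : ZMod 3) * e.1 + 1 * e.2.1 + 0 * e.2.2).val =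
      f (0, 0, 0) * ζ ^ 0 +
      f (0, 0, 1) * ζ ^ 0 +
      f (0, 0, 2) * ζ ^ 0 +
      f (0, 1, 0) * ζ ^ 1 +
      f (0, 1, 1) * ζ ^ 1 +
      f (0, 1, 2) * ζ ^ 1 +
      f (0, 2, 0) * ζ ^ 2 +
      f (0, 2, 1) * ζ ^ 2 +
      f (0, 2, 2) * ζ ^ 2 +
      f (1, 0, 0) * ζ ^ 1 +
      f (1, 0, 1) * ζ ^ 1 +
      f (1, 0, 2) * ζ ^ 1 +
      f (1, 1, 0) * ζ ^ 2 +
      f (1, 1, 1) * ζ ^ 2 +
      f (1, 1, 2) * ζ ^ 2 +
      f (1, 2, 0) * ζ ^ 0 +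
      f (1, 2, 1) * ζ ^ 0 +
      f (1, 2, 2) * ζ ^ 0 +
      f (2, 0, 0) * ζ ^ 2 +
      f (2, 0, 1) * ζ ^ 2 +
      f (2, 0, 2) * ζ ^ 2 +
      f (2, 1, 0) * ζ ^ 0 +
      f (2, 1, 1) * ζ ^ 0 +
      f (2, 1, 2) * ζ ^ 0 +
      f (2, 2, 0) * ζ ^ 1 +
      f (2, 2, 1) * ζ ^ 1 +
      f (2, 2, 2) * ζ ^ 1 := by
  rw [sum27]
  rfl

theorem sum_c111 (f : ZMod 3 × ZMod 3 × ZMod 3 → ℂ) (ζ : ℂ) :
    ∑ e : ZMod 3 × ZMod 3 × ZMod 3, f e * ζ ^ ((1 : ZMod 3) * e.1 + 1 * e.2.1 + 1 * e.2.2).val =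
      f (0, 0, 0) * ζ ^ 0 +
      f (0, 0, 1) * ζ ^ 1 +
      f (0, 0, 2) * ζ ^ 2 +
      f (0, 1, 0) * ζ ^ 1 +
      f (0, 1, 1) * ζ ^ 2 +
      f (0, 1, 2) * ζ ^ 0 +
      f (0, 2, 0) * ζ ^ 2 +
      f (0, 2, 1) * ζ ^ 0 +
      f (0, 2, 2) * ζ ^ 1 +
      f (1, 0, 0) * ζ ^ 1 +
      f (1, 0, 1) * ζ ^ 2 +
      f (1, 0, 2) * ζ ^ 0 +
      f (1, 1, 0) * ζ ^ 2 +
      f (1, 1, 1) * ζ ^ 0 +
      f (1, 1, 2) * ζ ^ 1 +
      f (1, 2, 0) * ζ ^ 0 +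
      f (1, 2, 1) * ζ ^ 1 +
      f (1, 2, 2) * ζ ^ 2 +
      f (2, 0, 0) * ζ ^ 2 +
      f (2, 0, 1) * ζ ^ 0 +
      f (2, 0, 2) * ζ ^ 1 +
      f (2, 1, 0) * ζ ^ 0 +
      f (2, 1, 1) * ζ ^ 1 +
      f (2, 1, 2) * ζ ^ 2 +
      f (2, 2, 0) * ζ ^ 1 +
      f (2, 2, 1) * ζ ^ 2 +
      f (2, 2, 2) * ζ ^ 0 := by
  rw [sum27]
  rfl

omit [Finite G] in
/-- **MULTJ**, aux form -/
theorem multJ_aux (ha : a ^ 3 = 1) (hb : b ^ 3 = 1) (hc : c ^ 3 = 1) (hab : a * b = b * a)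
    (hac : a * c = c * a) (hbc : b * c = c * b)
    (htab : ∀ e : ZMod 3 × ZMod 3 × ZMod 3, e ≠ 0 → IsConj (elt a b c e) (repW a b c (wt e)))
    (χ : IrrCharacter G) :
    ∃ (m0 : ℕ) (n1 n2 n3 : ℤ),
      ((χ : G → ℂ) 1 + 6 * (χ : G → ℂ) c + 12 * (χ : G → ℂ) (a * b) + 8 * (χ : G → ℂ) (a * b * c)) / 27
        = m0 ∧
      -((χ : G → ℂ) c + 4 * (χ : G → ℂ) (a * b) + 4 * (χ : G → ℂ) (a * b * c)) / 9 = n1 ∧
      -(2 * (χ : G → ℂ) c + 5 * (χ : G → ℂ) (a * b) + 2 * (χ : G → ℂ) (a * b * c)) / 9 = n2 ∧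
      -((χ : G → ℂ) c + (χ : G → ℂ) (a * b) + (χ : G → ℂ) (a * b * c)) / 3 = n3 := by
  obtain ⟨ζ, hζ⟩ : ∃ ζ : ℂ, ζ ^ 2 + ζ + 1 = 0 := by
    have hp := Complex.isPrimitiveRoot_exp 3 (by norm_num)
    refine ⟨Complex.exp (2 * Real.pi * Complex.I / (3 : ℕ)), ?_⟩
    have h3 := hp.pow_eq_one
    have h1 := hp.ne_one (by norm_num)
    have : (Complex.exp (2 * Real.pi * Complex.I / (3 : ℕ)) - 1) *
        (Complex.exp (2 * Real.pi * Complex.I / (3 : ℕ)) ^ 2 + Complex.exp (2 * Real.pi * Complex.I / (3 : ℕ)) + 1) = 0 := by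
      linear_combination h3
    rcases mul_eq_zero.mp this with h0 | h0
    · exact absurd (sub_eq_zero.mp h0) h1
    · exact h0
  obtain ⟨m0, E0⟩ := mult_gen ha hb hc hab hac hbc χ ζ hζ 0 0 0
  obtain ⟨m1, E1⟩ := mult_gen ha hb hc hab hac hbc χ ζ hζ 0 0 1
  obtain ⟨m2, E2⟩ := mult_gen ha hb hc hab hac hbc χ ζ hζ 1 1 0
  obtain ⟨m3, E3⟩ := mult_gen ha hb hc hab hac hbc χ ζ hζ 1 1 1
  set f : ZMod 3 × ZMod 3 × ZMod 3 → ℂ := fun e => (χ : G → ℂ) (elt a b c e) with hf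
  set XA : ℂ := (χ : G → ℂ) c with hXA
  set XB : ℂ := (χ : G → ℂ) (a * b) with hXB
  set XD : ℂ := (χ : G → ℂ) (a * b * c) with hXD
  set X0 : ℂ := (χ : G → ℂ) 1 with hX0
  have v000 : f (0, 0, 0) = X0 := by
    show (χ : G → ℂ) (elt a b c (0, 0, 0)) = (χ : G → ℂ) 1
    simp [elt]
  have v001 : f (0, 0, 1) = XA := irr_isConj χ (htab (0, 0, 1) (by decide))
  have v002 : f (0, 0, 2) = XA := irr_isConj χ (htab (0, 0, 2) (by decide))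
  have v010 : f (0, 1, 0) = XA := irr_isConj χ (htab (0, 1, 0) (by decide))
  have v011 : f (0, 1, 1) = XB := irr_isConj χ (htab (0, 1, 1) (by decide))
  have v012 : f (0, 1, 2) = XB := irr_isConj χ (htab (0, 1, 2) (by decide))
  have v020 : f (0, 2, 0) = XA := irr_isConj χ (htab (0, 2, 0) (by decide))
  have v021 : f (0, 2, 1) = XB := irr_isConj χ (htab (0, 2, 1) (by decide))
  have v022 : f (0, 2, 2) = XB := irr_isConj χ (htab (0, 2, 2) (by decide))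
  have v100 : f (1, 0, 0) = XA := irr_isConj χ (htab (1, 0, 0) (by decide))
  have v101 : f (1, 0, 1) = XB := irr_isConj χ (htab (1, 0, 1) (by decide))
  have v102 : f (1, 0, 2) = XB := irr_isConj χ (htab (1, 0, 2) (by decide))
  have v110 : f (1, 1, 0) = XB := irr_isConj χ (htab (1, 1, 0) (by decide))
  have v111 : f (1, 1, 1) = XD := irr_isConj χ (htab (1, 1, 1) (by decide))
  have v112 : f (1, 1, 2) = XD := irr_isConj χ (htab (1, 1, 2) (by decide))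
  have v120 : f (1, 2, 0) = XB := irr_isConj χ (htab (1, 2, 0) (by decide))
  have v121 : f (1, 2, 1) = XD := irr_isConj χ (htab (1, 2, 1) (by decide))
  have v122 : f (1, 2, 2) = XD := irr_isConj χ (htab (1, 2, 2) (by decide))
  have v200 : f (2, 0, 0) = XA := irr_isConj χ (htab (2, 0, 0) (by decide))
  have v201 : f (2, 0, 1) = XB := irr_isConj χ (htab (2, 0, 1) (by decide))
  have v202 : f (2, 0, 2) = XB := irr_isConj χ (htab (2, 0, 2) (by decide))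
  have v210 : f (2, 1, 0) = XB := irr_isConj χ (htab (2, 1, 0) (by decide))
  have v211 : f (2, 1, 1) = XD := irr_isConj χ (htab (2, 1, 1) (by decide))
  have v212 : f (2, 1, 2) = XD := irr_isConj χ (htab (2, 1, 2) (by decide))
  have v220 : f (2, 2, 0) = XB := irr_isConj χ (htab (2, 2, 0) (by decide))
  have v221 : f (2, 2, 1) = XD := irr_isConj χ (htab (2, 2, 1) (by decide))
  have v222 : f (2, 2, 2) = XD := irr_isConj χ (htab (2, 2, 2) (by decide))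
  have E0' : ∑ e : ZMod 3 × ZMod 3 × ZMod 3, f e * ζ ^ ((0 : ZMod 3) * e.1 + 0 * e.2.1 + 0 * e.2.2).val = 27 * (m0 : ℂ) := E0
  have E1' : ∑ e : ZMod 3 × ZMod 3 × ZMod 3, f e * ζ ^ ((0 : ZMod 3) * e.1 + 0 * e.2.1 + 1 * e.2.2).val = 27 * (m1 : ℂ) := E1
  have E2' : ∑ e : ZMod 3 × ZMod 3 × ZMod 3, f e * ζ ^ ((1 : ZMod 3) * e.1 + 1 * e.2.1 + 0 * e.2.2).val = 27 * (m2 : ℂ) := E2
  have E3' : ∑ e : ZMod 3 × ZMod 3 × ZMod 3, f e * ζ ^ ((1 : ZMod 3) * e.1 + 1 * e.2.1 + 1 * e.2.2).val = 27 * (m3 : ℂ) := E3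
  rw [sum_c000] at E0'
  rw [sum_c001] at E1'
  rw [sum_c110] at E2'
  rw [sum_c111] at E3'
  rw [v000, v001, v002, v010, v011, v012, v020, v021, v022, v100, v101, v102, v110, v111, v112, v120, v121, v122, v200, v201, v202, v210, v211, v212, v220, v221, v222] at E0' E1' E2' E3'
  refine ⟨m0, (m1 : ℤ) - (m0 : ℤ), (m2 : ℤ) - (m0 : ℤ), (m3 : ℤ) - (m0 : ℤ), ?_, ?_, ?_, ?_⟩
  · linear_combination (1 / 27 : ℂ) * E0'
  · push_cast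
    linear_combination (1 / 27 : ℂ) * E1' - (1 / 27 : ℂ) * E0' + (-(1 / 27 : ℂ) * (XA + 4 * XB + 4 * XD)) * hζ
  · push_cast
    linear_combination (1 / 27 : ℂ) * E2' - (1 / 27 : ℂ) * E0' + (-(1 / 27 : ℂ) * (2 * XA + 5 * XB + 2 * XD)) * hζ
  · push_cast
    linear_combination (1 / 27 : ℂ) * E3' - (1 / 27 : ℂ) * E0' + (-(1 / 27 : ℂ) * (3 * XA + 3 * XB + 3 * XD)) * hζ

theorem perm_e1 : g1 ^ 3 = 1 := by decide +kernel
theorem perm_e2 : (g2 * g1 * g2⁻¹) ^ 3 = 1 := by decide +kernel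
theorem perm_e3 : (g2 * (g2 * g1 * g2⁻¹) * g2⁻¹) ^ 3 = 1 := by decide +kernel
theorem perm_e4 : g1 * (g2 * g1 * g2⁻¹) = (g2 * g1 * g2⁻¹) * g1 := by decide +kernel
theorem perm_e5 : g1 * (g2 * (g2 * g1 * g2⁻¹) * g2⁻¹) = (g2 * (g2 * g1 * g2⁻¹) * g2⁻¹) * g1 := by
  decide +kernel
theorem perm_e6 : (g2 * g1 * g2⁻¹) * (g2 * (g2 * g1 * g2⁻¹) * g2⁻¹) =
    (g2 * (g2 * g1 * g2⁻¹) * g2⁻¹) * (g2 * g1 * g2⁻¹) := by decide +kernel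

omit [Finite G] in
/-- `a, b, c` have exponent three and commute, straight from `Hyp.iso` -/
theorem abc_facts {H J : Subgroup G} {σ u v s : G} (h : Hyp G H J a b c σ u v s) :
    a ^ 3 = 1 ∧ b ^ 3 = 1 ∧ c ^ 3 = 1 ∧ a * b = b * a ∧ a * c = c * a ∧ b * c = c * b := by
  obtain ⟨ψ, -, -, h1, h2, -, -⟩ := h.iso
  set x1 : ↥(Subgroup.closure S0) := ⟨g1, g1_mem⟩ with hx1
  set x2 : ↥(Subgroup.closure S0) := ⟨g2, g2_mem⟩ with hx2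
  have hb' : b = ψ (x2 * x1 * x2⁻¹) := by
    rw [h.hb, map_mul, map_mul, map_inv, h1, h2]
  have hc' : c = ψ (x2 * (x2 * x1 * x2⁻¹) * x2⁻¹) := by
    rw [h.hc, hb', map_mul ψ (x2 * (x2 * x1 * x2⁻¹)), map_mul ψ x2, map_inv, h2]
  have e1 : x1 ^ 3 = 1 := Subtype.ext perm_e1
  have e2 : (x2 * x1 * x2⁻¹) ^ 3 = 1 := Subtype.ext perm_e2
  have e3 : (x2 * (x2 * x1 * x2⁻¹) * x2⁻¹) ^ 3 = 1 := Subtype.ext perm_e3
  have e4 : x1 * (x2 * x1 * x2⁻¹) = (x2 * x1 * x2⁻¹) * x1 := Subtype.ext perm_e4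
  have e5 : x1 * (x2 * (x2 * x1 * x2⁻¹) * x2⁻¹) = (x2 * (x2 * x1 * x2⁻¹) * x2⁻¹) * x1 :=
    Subtype.ext perm_e5
  have e6 : (x2 * x1 * x2⁻¹) * (x2 * (x2 * x1 * x2⁻¹) * x2⁻¹) =
      (x2 * (x2 * x1 * x2⁻¹) * x2⁻¹) * (x2 * x1 * x2⁻¹) := Subtype.ext perm_e6
  refine ⟨?_, ?_, ?_, ?_, ?_, ?_⟩
  · rw [← h1, ← map_pow, e1, map_one]
  · rw [hb', ← map_pow, e2, map_one]
  · rw [hc', ← map_pow, e3, map_one]
  · rw [hb', ← h1, ← map_mul, ← map_mul, e4]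
  · rw [hc', ← h1, ← map_mul, ← map_mul, e5]
  · rw [hb', hc', ← map_mul, ← map_mul, e6]

omit [Finite G] in
/-- **MULTJ** from the class table `tabJ` -/
theorem multJ_of {H J : Subgroup G} {σ u v s : G} (h : Hyp G H J a b c σ u v s)
    (htab : ∀ e : ZMod 3 × ZMod 3 × ZMod 3, e ≠ 0 → IsConj (elt a b c e) (repW a b c (wt e)))
    (χ : IrrCharacter G) :
    ∃ (m0 : ℕ) (n1 n2 n3 : ℤ),
      ((χ : G → ℂ) 1 + 6 * (χ : G → ℂ) c + 12 * (χ : G → ℂ) (a * b) + 8 * (χ : G → ℂ) (a * b * c)) / 27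
        = m0 ∧
      -((χ : G → ℂ) c + 4 * (χ : G → ℂ) (a * b) + 4 * (χ : G → ℂ) (a * b * c)) / 9 = n1 ∧
      -(2 * (χ : G → ℂ) c + 5 * (χ : G → ℂ) (a * b) + 2 * (χ : G → ℂ) (a * b * c)) / 9 = n2 ∧
      -((χ : G → ℂ) c + (χ : G → ℂ) (a * b) + (χ : G → ℂ) (a * b * c)) / 3 = n3 := by
  obtain ⟨ha, hb, hc, hab, hac, hbc⟩ := abc_facts h
  exact multJ_aux ha hb hc hab hac hbc htab χ

end grp

end Cfsg.Agent.Lib.Helper60_H648_MULTJaux
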