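import Mathlib
import Cfsg.Prelude.Def_Characters
import Cfsg.Agent.Lib.Helper80_CharBasic
import Cfsg.Agent.Lib.Helper17_H27Defs
import Cfsg.Agent.Lib.Helper76_H648Defs
import Cfsg.Agent.Lib.Helper16_H648_TAB
import Cfsg.Agent.Lib.Helper60_H648_MULTJaux

/-!
# S3702 market `h648_packages` (architect helper76), package MULTJ (verbatim)

`multJ`: the multiplicities of the linear characters of `J` in the restriction of an irreducible character,
from `Helper60_H648_MULTJaux.multJ_of` and the class table `Helper16_H648_TAB.tabJ`.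
-/

set_option autoImplicit false
open scoped ComplexConjugate

namespace Cfsg.Agent.Lib.Helper60_H648_MULTJ

open Cfsg Cfsg.Agent.Lib.Helper80_CharBasic
  Cfsg.Agent.Lib.Helper76_H648Defs
open Cfsg.Agent.Lib.Helper17_H27Defs (elt)

section grp
variable {G : Type*} [Group G] [Finite G]
variable {H J : Subgroup G} {a b c σ u v s : G}

theorem multJ (h : Hyp G H J a b c σ u v s) (χ : IrrCharacter G) :
    ∃ (m0 : ℕ) (n1 n2 n3 : ℤ),
      ((χ : G → ℂ) 1 + 6 * (χ : G → ℂ) c + 12 * (χ : G → ℂ) (a * b) + 8 * (χ : G → ℂ) (a * b * c)) / 27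
        = m0 ∧
      -((χ : G → ℂ) c + 4 * (χ : G → ℂ) (a * b) + 4 * (χ : G → ℂ) (a * b * c)) / 9 = n1 ∧
      -(2 * (χ : G → ℂ) c + 5 * (χ : G → ℂ) (a * b) + 2 * (χ : G → ℂ) (a * b * c)) / 9 = n2 ∧
      -((χ : G → ℂ) c + (χ : G → ℂ) (a * b) + (χ : G → ℂ) (a * b * c)) / 3 = n3 :=
  Cfsg.Agent.Lib.Helper60_H648_MULTJaux.multJ_of h
    (fun e he => Cfsg.Agent.Lib.Helper16_H648_TAB.tabJ h e he) χ

end grp

end Cfsg.Agent.Lib.Helper60_H648_MULTJ
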