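import Mathlib

/-!
Finite Fourier analysis on `ZMod m` with respect to a primitive `m`-th root of unity (helper17).
Used for the principal `2`-block of groups with dihedral Sylow `2`-subgroups.
-/

set_option autoImplicit false

namespace Cfsg.Agent.Lib.Helper17_DihFourier

open scoped ComplexConjugate

variable {m : ℕ} [NeZero m] {ζ : ℂ}

/-- `ee ζ a = ζ ^ a.val` -/
noncomputable def ee (ζ : ℂ) (a : ZMod m) : ℂ := ζ ^ a.val

theorem ee_zero : ee ζ (0 : ZMod m) = 1 := by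
  unfold ee
  rw [ZMod.val_zero, pow_zero]

theorem ee_add (hζ : ζ ^ m = 1) (a b : ZMod m) : ee ζ (a + b) = ee ζ a * ee ζ b := by
  unfold ee
  rw [ZMod.val_add, ← pow_eq_pow_mod _ hζ, pow_add]

theorem ee_mul (hζ : ζ ^ m = 1) (a b : ZMod m) : ee ζ (a * b) = (ee ζ a) ^ b.val := by
  unfold ee
  rw [ZMod.val_mul, ← pow_eq_pow_mod _ hζ, pow_mul]

theorem ee_natCast (hζ : ζ ^ m = 1) (k : ℕ) : ee ζ ((k : ℕ) : ZMod m) = ζ ^ k := by
  unfold ee
  rw [ZMod.val_natCast, ← pow_eq_pow_mod _ hζ]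

theorem ee_mul_natCast (hζ : ζ ^ m = 1) (a : ZMod m) (k : ℕ) :
    ee ζ (a * (k : ZMod m)) = (ee ζ a) ^ k := by
  rw [ee_mul hζ, ZMod.val_natCast]
  have h : (ee ζ a) ^ m = 1 := by
    unfold ee
    rw [← pow_mul, mul_comm, pow_mul, hζ, one_pow]
  rw [← pow_eq_pow_mod _ h]

theorem ee_ne_zero (hζ : ζ ^ m = 1) (a : ZMod m) : ee ζ a ≠ 0 := by
  unfold ee
  apply pow_ne_zero
  intro h
  rw [h, zero_pow (NeZero.ne m)] at hζ
  exact zero_ne_one hζ

theorem ee_neg_mul (hζ : ζ ^ m = 1) (a : ZMod m) : ee ζ (-a) * ee ζ a = 1 := by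
  rw [← ee_add hζ, neg_add_cancel, ee_zero]

theorem ee_neg_eq_inv (hζ : ζ ^ m = 1) (a : ZMod m) : ee ζ (-a) = (ee ζ a)⁻¹ :=
  eq_inv_of_mul_eq_one_left (ee_neg_mul hζ a)

theorem norm_ee (hζ : ζ ^ m = 1) (a : ZMod m) : ‖ee ζ a‖ = 1 := by
  have h : (ee ζ a) ^ m = 1 := by
    unfold ee
    rw [← pow_mul, mul_comm, pow_mul, hζ, one_pow]
  exact Complex.norm_eq_one_of_pow_eq_one h (NeZero.ne m)

theorem ee_neg (hζ : ζ ^ m = 1) (a : ZMod m) : ee ζ (-a) = conj (ee ζ a) := by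
  rw [ee_neg_eq_inv hζ, Complex.inv_eq_conj (norm_ee hζ a)]

theorem conj_ee (hζ : ζ ^ m = 1) (a : ZMod m) : conj (ee ζ a) = ee ζ (-a) := (ee_neg hζ a).symm

theorem ee_eq_one_iff (hζ : IsPrimitiveRoot ζ m) (a : ZMod m) : ee ζ a = 1 ↔ a = 0 := by
  constructor
  · intro h
    unfold ee at h
    have h1 : m ∣ a.val := (hζ.pow_eq_one_iff_dvd _).1 h
    have h2 : a.val < m := ZMod.val_lt a
    have h3 : a.val = 0 := Nat.eq_zero_of_dvd_of_lt h1 h2
    exact (ZMod.val_eq_zero a).1 h3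
  · intro h
    rw [h, ee_zero]

/-- orthogonality -/
theorem sum_ee_mul (hζ : IsPrimitiveRoot ζ m) (s : ZMod m) :
    ∑ l : ZMod m, ee ζ (s * l) = if s = 0 then (m : ℂ) else 0 := by
  have h1 := hζ.pow_eq_one
  split_ifs with hs
  · rw [hs]
    simp only [zero_mul, ee_zero, Finset.sum_const, Finset.card_univ, ZMod.card, nsmul_eq_mul,
      mul_one]
  · have hw : ee ζ s ≠ 1 := fun h => hs ((ee_eq_one_iff hζ s).1 h)
    have h2 : ∑ l : ZMod m, ee ζ (s * l) = ee ζ s * ∑ l : ZMod m, ee ζ (s * l) := by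
      rw [Finset.mul_sum]
      rw [← Equiv.sum_comp (Equiv.addRight (1 : ZMod m))]
      refine Finset.sum_congr rfl fun l _ => ?_
      rw [Equiv.coe_addRight, mul_add, mul_one, ee_add h1, mul_comm]
    have h3 : (1 - ee ζ s) * ∑ l : ZMod m, ee ζ (s * l) = 0 := by
      rw [sub_mul, one_mul, ← h2, sub_self]
    rcases mul_eq_zero.1 h3 with h | h
    · exact absurd (sub_eq_zero.1 h).symm hw
    · exact h

theorem sum_ee_mul' (hζ : IsPrimitiveRoot ζ m) (s : ZMod m) :
    ∑ l : ZMod m, ee ζ (l * s) = if s = 0 then (m : ℂ) else 0 := by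
  rw [← sum_ee_mul hζ s]
  refine Finset.sum_congr rfl fun l _ => ?_
  rw [mul_comm]

/-- the sum over the nonzero residues -/
theorem sum_ee_ne_zero (hζ : IsPrimitiveRoot ζ m) {l : ZMod m} (hl : l ≠ 0) :
    ∑ s : ZMod m, (if s = 0 then 0 else ee ζ (s * l)) = -1 := by
  have h := sum_ee_mul' hζ l
  rw [if_neg hl] at h
  have h2 : ∀ s : ZMod m, (if s = 0 then (0 : ℂ) else ee ζ (s * l)) =
      ee ζ (s * l) - (if s = 0 then 1 else 0) := by
    intro s
    split_ifs with hs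
    · rw [hs, zero_mul, ee_zero, sub_self]
    · rw [sub_zero]
  simp only [h2]
  rw [Finset.sum_sub_distrib, h, Finset.sum_ite_eq' Finset.univ (0 : ZMod m), if_pos (Finset.mem_univ _)]
  ring

/-- **Fourier uniqueness**: a function vanishing at `0` whose Fourier transform vanishes off `0`
is zero. -/
theorem eq_zero_of_transform (hζ : IsPrimitiveRoot ζ m) (f : ZMod m → ℂ) (h0 : f 0 = 0)
    (h : ∀ l : ZMod m, l ≠ 0 → ∑ s : ZMod m, f s * ee ζ (s * l) = 0) (t : ZMod m) : f t = 0 := by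
  have h1 := hζ.pow_eq_one
  have key : ∀ t : ZMod m, (m : ℂ) * f t = ∑ s : ZMod m, f s := by
    intro t
    have hA : ∑ l : ZMod m, (∑ s : ZMod m, f s * ee ζ (s * l)) * ee ζ (-(t * l)) =
        (m : ℂ) * f t := by
      simp only [Finset.sum_mul]
      rw [Finset.sum_comm]
      have h2 : ∀ s : ZMod m, ∑ l : ZMod m, f s * ee ζ (s * l) * ee ζ (-(t * l)) =
          f s * (if s - t = 0 then (m : ℂ) else 0) := by
        intro s
        rw [← sum_ee_mul hζ (s - t), Finset.mul_sum]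
        refine Finset.sum_congr rfl fun l _ => ?_
        rw [mul_assoc, ← ee_add h1]
        congr 2
        ring
      simp only [h2]
      have h3 : ∀ s : ZMod m, f s * (if s - t = 0 then (m : ℂ) else 0) =
          if s = t then (m : ℂ) * f t else 0 := by
        intro s
        by_cases hs : s = t
        · rw [if_pos hs, if_pos (by rw [hs, sub_self]), hs, mul_comm]
        · rw [if_neg hs, if_neg (fun h => hs (sub_eq_zero.1 h)), mul_zero]
      simp only [h3]
      rw [Finset.sum_ite_eq' Finset.univ t, if_pos (Finset.mem_univ _)]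
    have hB : ∑ l : ZMod m, (∑ s : ZMod m, f s * ee ζ (s * l)) * ee ζ (-(t * l)) =
        ∑ s : ZMod m, f s := by
      rw [Finset.sum_eq_single (0 : ZMod m)]
      · simp only [mul_zero, ee_zero, neg_zero, mul_one]
      · intro l _ hl
        rw [h l hl, zero_mul]
      · intro hh
        exact absurd (Finset.mem_univ _) hh
    rw [← hA, hB]
  have hT : ∑ s : ZMod m, f s = 0 := by
    rw [← key 0, h0, mul_zero]
  have h2 := key t
  rw [hT] at h2
  have hm : (m : ℂ) ≠ 0 := Nat.cast_ne_zero.2 (NeZero.ne m)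
  exact (mul_eq_zero.1 h2).resolve_left hm

/-- two-dimensional Fourier uniqueness -/
theorem eq_zero_of_transform₂ (hζ : IsPrimitiveRoot ζ m) (f : ZMod m → ZMod m → ℂ)
    (h0l : ∀ s, f 0 s = 0) (h0r : ∀ r, f r 0 = 0)
    (h : ∀ l l' : ZMod m, l ≠ 0 → l' ≠ 0 →
      ∑ r : ZMod m, ∑ s : ZMod m, f r s * ee ζ (r * l) * ee ζ (-(s * l')) = 0)
    (r s : ZMod m) : f r s = 0 := by
  have h1 := hζ.pow_eq_one
  -- first in `s`
  have hstep : ∀ l : ZMod m, l ≠ 0 → ∀ s : ZMod m, ∑ r : ZMod m, f r s * ee ζ (r * l) = 0 := by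
    intro l hl
    apply eq_zero_of_transform hζ (fun s => ∑ r : ZMod m, f r s * ee ζ (r * l))
    · simp only [h0r, zero_mul, Finset.sum_const_zero]
    · intro l' hl'
      have hneg : -l' ≠ 0 := neg_ne_zero.2 hl'
      have := h l (-l') hl hneg
      rw [Finset.sum_comm] at this
      rw [← this]
      refine Finset.sum_congr rfl fun s _ => ?_
      rw [Finset.sum_mul]
      refine Finset.sum_congr rfl fun r _ => ?_
      congr 2
      ring
  exact eq_zero_of_transform hζ (fun r => f r s) (h0l s) (fun l hl => hstep l hl s) r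

theorem ee_injective (hζ : IsPrimitiveRoot ζ m) : Function.Injective (ee ζ : ZMod m → ℂ) := by
  intro a b hab
  have h1 := hζ.pow_eq_one
  have h2 : ee ζ (a - b) = 1 := by
    rw [sub_eq_add_neg, ee_add h1, ee_neg_eq_inv h1, hab, mul_inv_cancel₀ (ee_ne_zero h1 b)]
  exact sub_eq_zero.1 ((ee_eq_one_iff hζ _).1 h2)

/-- every `m`-th root of unity is a value of `ee` -/
theorem exists_ee_eq (hζ : IsPrimitiveRoot ζ m) {μ : ℂ} (hμ : μ ^ m = 1) :
    ∃ r : ZMod m, ee ζ r = μ := by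
  obtain ⟨i, -, hi⟩ := hζ.eq_pow_of_pow_eq_one hμ
  exact ⟨(i : ZMod m), by rw [ee_natCast hζ.pow_eq_one, hi]⟩

/-- Fourier uniqueness, all frequencies -/
theorem eq_zero_of_transform_all (hζ : IsPrimitiveRoot ζ m) (f : ZMod m → ℂ)
    (h : ∀ l : ZMod m, ∑ s : ZMod m, f s * ee ζ (s * l) = 0) (t : ZMod m) : f t = 0 := by
  have h1 := hζ.pow_eq_one
  have hA : ∑ l : ZMod m, (∑ s : ZMod m, f s * ee ζ (s * l)) * ee ζ (-(t * l)) =
      (m : ℂ) * f t := by
    simp only [Finset.sum_mul]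
    rw [Finset.sum_comm]
    have h2 : ∀ s : ZMod m, ∑ l : ZMod m, f s * ee ζ (s * l) * ee ζ (-(t * l)) =
        f s * (if s - t = 0 then (m : ℂ) else 0) := by
      intro s
      rw [← sum_ee_mul hζ (s - t), Finset.mul_sum]
      refine Finset.sum_congr rfl fun l _ => ?_
      rw [mul_assoc, ← ee_add h1]
      congr 2
      ring
    simp only [h2]
    have h3 : ∀ s : ZMod m, f s * (if s - t = 0 then (m : ℂ) else 0) =
        if s = t then (m : ℂ) * f t else 0 := by
      intro s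
      by_cases hs : s = t
      · rw [if_pos hs, if_pos (by rw [hs, sub_self]), hs, mul_comm]
      · rw [if_neg hs, if_neg (fun h => hs (sub_eq_zero.1 h)), mul_zero]
    simp only [h3]
    rw [Finset.sum_ite_eq' Finset.univ t, if_pos (Finset.mem_univ _)]
  have hB : ∑ l : ZMod m, (∑ s : ZMod m, f s * ee ζ (s * l)) * ee ζ (-(t * l)) = 0 :=
    Finset.sum_eq_zero fun l _ => by rw [h l, zero_mul]
  rw [hB] at hA
  have hm : (m : ℂ) ≠ 0 := Nat.cast_ne_zero.2 (NeZero.ne m)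
  exact (mul_eq_zero.1 hA.symm).resolve_left hm

end Cfsg.Agent.Lib.Helper17_DihFourier
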