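import Mathlib
import Cfsg.Prelude.Def_Characters
import Cfsg.Agent.Lib.Helper3_CharEigen
import Cfsg.Agent.Lib.Helper17_DihFourier

/-!
Multiplicities of the eigenvalues of an element of order `m` in a character, indexed by `ZMod m`
(helper17).
-/

set_option autoImplicit false

namespace Cfsg.Agent.Lib.Helper17_DihChar

open Cfsg Cfsg.Agent.Lib.Helper3_CharEigen Cfsg.Agent.Lib.Helper17_DihFourier

variable {G : Type*} [Group G] [Finite G] {m : ℕ} [NeZero m] {ζ : ℂ}

/-- the restriction of a character to a cyclic subgroup of order `m`, with natural multiplicities -/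
theorem exists_mult (hζ : IsPrimitiveRoot ζ m) (σ : G) (hσ : orderOf σ = m) (χ : G → ℂ)
    (hχ : IsCharacter G χ) :
    ∃ c : ZMod m → ℕ, ∀ k : ℕ, χ (σ ^ k) = ∑ r : ZMod m, (c r : ℂ) * (ee ζ r) ^ k := by
  classical
  obtain ⟨n, ρ, rfl⟩ := hχ
  refine ⟨fun r => Module.finrank ℂ (Module.End.eigenspace (ρ σ) (ee ζ r)), ?_⟩
  intro k
  rw [char_pow_eq_sum ρ σ k]
  have hinj := ee_injective (m := m) hζ
  have himg : ∑ r : ZMod m,
      (Module.finrank ℂ (Module.End.eigenspace (ρ σ) (ee ζ r)) : ℂ) * (ee ζ r) ^ k =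
      ∑ μ ∈ Finset.univ.image (ee ζ : ZMod m → ℂ),
        (Module.finrank ℂ (Module.End.eigenspace (ρ σ) μ) : ℂ) * μ ^ k := by
    rw [Finset.sum_image (fun a _ b _ hab => hinj hab)]
  rw [himg]
  apply Finset.sum_subset
  · intro μ hμ
    have h1 : μ ^ m = 1 := by
      have := eig_pow_orderOf ρ hμ
      rwa [hσ] at this
    obtain ⟨r, hr⟩ := exists_ee_eq hζ h1
    exact Finset.mem_image.2 ⟨r, Finset.mem_univ _, hr⟩
  · intro μ _ hμ
    rw [mem_eigSet, Module.End.hasEigenvalue_iff, not_not] at hμ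
    rw [hμ, finrank_bot, Nat.cast_zero, zero_mul]

end Cfsg.Agent.Lib.Helper17_DihChar
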