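import Mathlib
import Cfsg.Prelude.Def_Characters
import Cfsg.Agent.Lib.Helper80_CharBasic
import Cfsg.Agent.Lib.Helper3_CharBridge
import Cfsg.Agent.Lib.Helper17_DihChar
import Cfsg.Agent.Lib.Helper17_H27Defs
import Cfsg.Agent.Lib.Helper76_H648Defs
import Cfsg.Agent.Lib.Helper16_H648_TAB

/-!
# S3702 package MULT6 (architect helper76)

The restriction of an irreducible character to the cyclic group `⟨a b v⟩` of order `6`:
`-(χ(abv) + χ(ab))/2` and `(χ(ab) - χ(abv))/2` are integers (differences of multiplicities).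
`mult6_aux` takes the statement of `tab6` as a hypothesis.
-/

set_option autoImplicit false
open scoped ComplexConjugate

namespace Cfsg.Agent.Lib.Helper87_H648_MULT6

open Cfsg Cfsg.Agent.Lib.Helper80_CharBasic Cfsg.Agent.Lib.Helper76_H648Defs
open Cfsg.Agent.Lib.Helper17_DihFourier

/-- the sum over `ZMod 6` written out -/
theorem sum_zmod6 (f : ZMod 6 → ℂ) : ∑ r : ZMod 6, f r = f 0 + f 1 + f 2 + f 3 + f 4 + f 5 :=
  Fin.sum_univ_six f

/-- a primitive sixth root of unity -/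
theorem exists_prim6 : ∃ ζ : ℂ, IsPrimitiveRoot ζ 6 ∧ ζ ^ 2 = ζ - 1 := by
  refine ⟨Complex.exp (2 * Real.pi * Complex.I / (6 : ℕ)), Complex.isPrimitiveRoot_exp 6 (by norm_num), ?_⟩
  have hp : IsPrimitiveRoot (Complex.exp (2 * Real.pi * Complex.I / (6 : ℕ))) 6 :=
    Complex.isPrimitiveRoot_exp 6 (by norm_num)
  set ζ := Complex.exp (2 * Real.pi * Complex.I / (6 : ℕ)) with hζ
  have h6 : ζ ^ 6 = 1 := hp.pow_eq_one
  have h3 : ζ ^ 3 ≠ 1 := hp.pow_ne_one_of_pos_of_lt (by norm_num) (by norm_num)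
  have h2 : ζ ^ 2 ≠ 1 := hp.pow_ne_one_of_pos_of_lt (by norm_num) (by norm_num)
  -- ζ^6 - 1 = (ζ^3 - 1)(ζ + 1)(ζ^2 - ζ + 1)
  have hfac : (ζ ^ 3 - 1) * ((ζ + 1) * (ζ ^ 2 - ζ + 1)) = 0 := by
    have : (ζ ^ 3 - 1) * ((ζ + 1) * (ζ ^ 2 - ζ + 1)) = ζ ^ 6 - 1 := by ring
    rw [this, h6, sub_self]
  rcases mul_eq_zero.1 hfac with h | h
  · exact absurd (sub_eq_zero.1 h) h3
  rcases mul_eq_zero.1 h with h | h
  · exfalso
    have : ζ = -1 := by linear_combination h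
    apply h2
    rw [this]; norm_num
  · linear_combination h

section grp
variable {G : Type*} [Group G] [Finite G]
variable {H J : Subgroup G} {a b c σ u v s : G}

/-- **MULT6**, with the statement of `tab6` as hypothesis. -/
theorem mult6_aux (htab : orderOf (a * b * v) = 6 ∧
      ∀ k : Fin 6, IsConj ((a * b * v) ^ (k : ℕ)) (t6 a b v k)) (χ : IrrCharacter G) :
    ∃ n1 n2 : ℤ,
      -((χ : G → ℂ) (a * b * v) + (χ : G → ℂ) (a * b)) / 2 = n1 ∧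
      ((χ : G → ℂ) (a * b) - (χ : G → ℂ) (a * b * v)) / 2 = n2 := by
  obtain ⟨ζ, hζ, hz⟩ := exists_prim6
  obtain ⟨ho, hconj⟩ := htab
  have hχ : IsCharacter G (χ : G → ℂ) :=
    Cfsg.Agent.Lib.Helper3_CharBridge.isCharacter_of_isIrrCharacter χ.2
  obtain ⟨c, hc⟩ := Cfsg.Agent.Lib.Helper17_DihChar.exists_mult hζ (a * b * v) ho (χ : G → ℂ) hχ
  set x := a * b * v with hx
  -- values of ee
  have e0 : ee ζ (0 : ZMod 6) = 1 := by simp [ee]
  have e1 : ee ζ (1 : ZMod 6) = ζ := by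
    have : (1 : ZMod 6).val = 1 := rfl
    simp [ee, this]
  have e2 : ee ζ (2 : ZMod 6) = ζ ^ 2 := by
    have : (2 : ZMod 6).val = 2 := rfl
    simp [ee, this]
  have e3 : ee ζ (3 : ZMod 6) = ζ ^ 3 := by
    have : (3 : ZMod 6).val = 3 := rfl
    simp [ee, this]
  have e4 : ee ζ (4 : ZMod 6) = ζ ^ 4 := by
    have : (4 : ZMod 6).val = 4 := rfl
    simp [ee, this]
  have e5 : ee ζ (5 : ZMod 6) = ζ ^ 5 := by
    have : (5 : ZMod 6).val = 5 := rfl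
    simp [ee, this]
  have z3 : ζ ^ 3 = -1 := by linear_combination (ζ + 1) * hz
  have z4 : ζ ^ 4 = -ζ := by linear_combination (ζ ^ 2 + ζ) * hz
  have z5 : ζ ^ 5 = 1 - ζ := by linear_combination (ζ ^ 3 + ζ ^ 2 - 1) * hz
  have z6 : ζ ^ 6 = 1 := hζ.pow_eq_one
  have hpow : ∀ n : ℕ, ζ ^ n = ζ ^ (n % 6) := fun n => pow_eq_pow_mod n z6
  -- the four equations
  have c1 := (irr_isConj χ (hconj 1)).symm
  have c2 := (irr_isConj χ (hconj 2)).symm
  have c4 := (irr_isConj χ (hconj 4)).symm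
  have c5 := (irr_isConj χ (hconj 5)).symm
  simp only [t6] at c1 c2 c4 c5
  have E1 := hc 1
  have E2 := hc 2
  have E4 := hc 4
  have E5 := hc 5
  rw [sum_zmod6, e0, e1, e2, e3, e4, e5] at E1 E2 E4 E5
  have c1' : (χ : G → ℂ) x = (χ : G → ℂ) (x ^ 1) := c1
  have c2' : (χ : G → ℂ) (a * b) = (χ : G → ℂ) (x ^ 2) := c2
  have c4' : (χ : G → ℂ) (a * b) = (χ : G → ℂ) (x ^ 4) := c4
  have c5' : (χ : G → ℂ) x = (χ : G → ℂ) (x ^ 5) := c5
  rw [← c1'] at E1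
  rw [← c2'] at E2
  rw [← c4'] at E4
  rw [← c5'] at E5
  have p8 : ζ ^ 8 = ζ - 1 := by rw [hpow 8]; exact hz
  have p10 : ζ ^ 10 = -ζ := by rw [hpow 10]; exact z4
  have p12 : ζ ^ 12 = 1 := by rw [hpow 12]; exact pow_zero ζ
  have p15 : ζ ^ 15 = -1 := by rw [hpow 15]; exact z3
  have p16 : ζ ^ 16 = -ζ := by rw [hpow 16]; exact z4
  have p20 : ζ ^ 20 = ζ - 1 := by rw [hpow 20]; exact hz
  have p25 : ζ ^ 25 = ζ := by rw [hpow 25]; exact pow_one ζ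
  simp only [one_pow, pow_one, ← pow_mul, Nat.reduceMul] at E1 E2 E4 E5
  simp only [hz, z3, z4, z5, z6, p8, p10, p12, p15, p16, p20, p25] at E1 E2 E4 E5
  set X1 := (χ : G → ℂ) x
  set X2 := (χ : G → ℂ) (a * b)
  have hw : (2 * ζ - 1) ≠ 0 := by
    intro h0
    have : (2 * ζ - 1) ^ 2 = -3 := by linear_combination 4 * hz
    rw [h0] at this
    norm_num at this
  have hd1 : ((c 1 : ℂ) + c 2 - c 4 - c 5) = 0 := by
    have : (2 * ζ - 1) * ((c 1 : ℂ) + c 2 - c 4 - c 5) = 0 := by linear_combination E5 - E1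
    exact (mul_eq_zero.1 this).resolve_left hw
  have hd2 : ((c 1 : ℂ) - c 2 + c 4 - c 5) = 0 := by
    have : (2 * ζ - 1) * ((c 1 : ℂ) - c 2 + c 4 - c 5) = 0 := by linear_combination E4 - E2
    exact (mul_eq_zero.1 this).resolve_left hw
  refine ⟨(c 2 : ℤ) - c 0, (c 3 : ℤ) - c 1, ?_, ?_⟩
  · push_cast
    linear_combination (-1 / 4 : ℂ) * E1 + (-1 / 4 : ℂ) * E5 + (-1 / 4 : ℂ) * E2 + (-1 / 4 : ℂ) * E4 +
      (-1 / 4 : ℂ) * hd1 + (1 / 4 : ℂ) * hd2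
  · push_cast
    linear_combination (1 / 4 : ℂ) * E2 + (1 / 4 : ℂ) * E4 - (1 / 4 : ℂ) * E1 - (1 / 4 : ℂ) * E5 +
      (1 / 4 : ℂ) * hd1 + (1 / 4 : ℂ) * hd2

/-- **MULT6** (verbatim). -/
theorem mult6 (h : Hyp G H J a b c σ u v s) (χ : IrrCharacter G) :
    ∃ n1 n2 : ℤ,
      -((χ : G → ℂ) (a * b * v) + (χ : G → ℂ) (a * b)) / 2 = n1 ∧
      ((χ : G → ℂ) (a * b) - (χ : G → ℂ) (a * b * v)) / 2 = n2 :=
  mult6_aux (Cfsg.Agent.Lib.Helper16_H648_TAB.tab6 h) χ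

end grp

end Cfsg.Agent.Lib.Helper87_H648_MULT6

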