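import Mathlib
import Cfsg.Prelude.Def_Characters
import Cfsg.Agent.Lib.Helper80_CharBasic
import Cfsg.Agent.Lib.Helper3_CharBridge
import Cfsg.Agent.Lib.Helper17_DihChar
import Cfsg.Agent.Lib.Helper17_H27Defs
import Cfsg.Agent.Lib.Helper76_H648Defs
import Cfsg.Agent.Lib.Helper16_H648_TAB

/-!
# S3702 package MULT9 (architect helper76)

The restriction of an irreducible character to the cyclic groups `⟨a σ⟩`, `⟨a⁻¹ σ⟩` of order `9`: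
`χ(y)` and `(χ(abc) - χ(y))/3` are integers (differences of multiplicities), `y = a σ` or `a⁻¹ σ`.
`mult9_aux` takes the statement of `tab9` as a hypothesis.
Also: `fourier_mult`, the inversion formula for the multiplicities of `Helper17_DihChar.exists_mult`.
-/

set_option autoImplicit false
open scoped ComplexConjugate

namespace Cfsg.Agent.Lib.Helper87_H648_MULT9

open Cfsg Cfsg.Agent.Lib.Helper80_CharBasic Cfsg.Agent.Lib.Helper76_H648Defs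
open Cfsg.Agent.Lib.Helper17_DihFourier

/-- Fourier inversion: if `f k = ∑ r, c r * (ee ζ r)^k` for all `k`, then
`∑ k : ZMod m, f k.val * ee ζ (-(j * k)) = m * c j`. -/
theorem fourier_mult {m : ℕ} [NeZero m] {ζ : ℂ} (hζ : IsPrimitiveRoot ζ m) (f : ℕ → ℂ)
    (c : ZMod m → ℂ) (hc : ∀ k : ℕ, f k = ∑ r : ZMod m, c r * (ee ζ r) ^ k) (j : ZMod m) :
    ∑ k : ZMod m, f k.val * ee ζ (-(j * k)) = (m : ℂ) * c j := by
  have h1 := hζ.pow_eq_one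
  calc ∑ k : ZMod m, f k.val * ee ζ (-(j * k))
      = ∑ k : ZMod m, ∑ r : ZMod m, c r * ee ζ ((r - j) * k) := by
        refine Finset.sum_congr rfl fun k _ => ?_
        rw [hc, Finset.sum_mul]
        refine Finset.sum_congr rfl fun r _ => ?_
        rw [← ee_mul h1, mul_assoc, ← ee_add h1]
        congr 2
        ring
    _ = ∑ r : ZMod m, c r * ∑ k : ZMod m, ee ζ ((r - j) * k) := by
        rw [Finset.sum_comm]
        refine Finset.sum_congr rfl fun r _ => ?_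
        rw [Finset.mul_sum]
    _ = ∑ r : ZMod m, c r * (if r - j = 0 then (m : ℂ) else 0) := by
        refine Finset.sum_congr rfl fun r _ => ?_
        rw [sum_ee_mul hζ]
    _ = (m : ℂ) * c j := by
        rw [Finset.sum_eq_single j]
        · rw [sub_self, if_pos rfl, mul_comm]
        · intro r _ hr
          rw [if_neg (sub_ne_zero.2 hr), mul_zero]
        · intro h
          exact absurd (Finset.mem_univ j) h

/-- the sum over `ZMod 9` written out -/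
theorem sum_fin9 (f : Fin 9 → ℂ) :
    ∑ r : Fin 9, f r = f 0 + f 1 + f 2 + f 3 + f 4 + f 5 + f 6 + f 7 + f 8 := by
  rw [Fin.sum_univ_succ, Fin.sum_univ_eight]
  simp only [add_assoc]
  rfl

theorem sum_zmod9 (f : ZMod 9 → ℂ) :
    ∑ r : ZMod 9, f r = f 0 + f 1 + f 2 + f 3 + f 4 + f 5 + f 6 + f 7 + f 8 :=
  sum_fin9 f

/-- a primitive ninth root of unity -/
theorem exists_prim9 : ∃ ζ : ℂ, IsPrimitiveRoot ζ 9 ∧ ζ ^ 6 + ζ ^ 3 + 1 = 0 := by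
  have hp : IsPrimitiveRoot (Complex.exp (2 * Real.pi * Complex.I / (9 : ℕ))) 9 :=
    Complex.isPrimitiveRoot_exp 9 (by norm_num)
  refine ⟨_, hp, ?_⟩
  set ζ := Complex.exp (2 * Real.pi * Complex.I / (9 : ℕ)) with hζ
  have h9 : ζ ^ 9 = 1 := hp.pow_eq_one
  have h3 : ζ ^ 3 ≠ 1 := hp.pow_ne_one_of_pos_of_lt (by norm_num) (by norm_num)
  have hfac : (ζ ^ 3 - 1) * (ζ ^ 6 + ζ ^ 3 + 1) = 0 := by
    have : (ζ ^ 3 - 1) * (ζ ^ 6 + ζ ^ 3 + 1) = ζ ^ 9 - 1 := by ring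
    rw [this, h9, sub_self]
  rcases mul_eq_zero.1 hfac with h | h
  · exact absurd (sub_eq_zero.1 h) h3
  · exact h

section grp
variable {G : Type*} [Group G] [Finite G]
variable {H J : Subgroup G} {a b c σ u v s : G}

/-- one cyclic subgroup of order nine -/
theorem mult9_one (y : G) (ho : orderOf y = 9)
    (hconj : ∀ k : Fin 9, IsConj (y ^ (k : ℕ)) (t9 a b c y k)) (χ : IrrCharacter G) :
    ∃ n1 n2 : ℤ, (χ : G → ℂ) y = n1 ∧ ((χ : G → ℂ) (a * b * c) - (χ : G → ℂ) y) / 3 = n2 := by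
  obtain ⟨ζ, hζ, hz⟩ := exists_prim9
  have hχ : IsCharacter G (χ : G → ℂ) :=
    Cfsg.Agent.Lib.Helper3_CharBridge.isCharacter_of_isIrrCharacter χ.2
  obtain ⟨m, hm⟩ := Cfsg.Agent.Lib.Helper17_DihChar.exists_mult hζ y ho (χ : G → ℂ) hχ
  have F := fourier_mult hζ (fun k => (χ : G → ℂ) (y ^ k)) (fun r => (m r : ℂ)) hm
  have F0 := F 0
  have F3 := F 3
  have F1 := F 1
  rw [sum_zmod9] at F0 F3 F1
  -- the values of the character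
  have v1 : (χ : G → ℂ) (y ^ (1 : ZMod 9).val) = (χ : G → ℂ) y := by
    have : (1 : ZMod 9).val = 1 := rfl
    rw [this, pow_one]
  have v2 : (χ : G → ℂ) (y ^ (2 : ZMod 9).val) = (χ : G → ℂ) y := irr_isConj χ (hconj 2)
  have v3 : (χ : G → ℂ) (y ^ (3 : ZMod 9).val) = (χ : G → ℂ) (a * b * c) := irr_isConj χ (hconj 3)
  have v4 : (χ : G → ℂ) (y ^ (4 : ZMod 9).val) = (χ : G → ℂ) y := irr_isConj χ (hconj 4)
  have v5 : (χ : G → ℂ) (y ^ (5 : ZMod 9).val) = (χ : G → ℂ) y := irr_isConj χ (hconj 5)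
  have v6 : (χ : G → ℂ) (y ^ (6 : ZMod 9).val) = (χ : G → ℂ) (a * b * c) := irr_isConj χ (hconj 6)
  have v7 : (χ : G → ℂ) (y ^ (7 : ZMod 9).val) = (χ : G → ℂ) y := irr_isConj χ (hconj 7)
  have v8 : (χ : G → ℂ) (y ^ (8 : ZMod 9).val) = (χ : G → ℂ) y := irr_isConj χ (hconj 8)
  simp only [v1, v2, v3, v4, v5, v6, v7, v8] at F0 F3 F1
  have q0_0 : ee ζ (-((0 : ZMod 9) * 0)) = ζ ^ 0 := rfl
  have q0_1 : ee ζ (-((0 : ZMod 9) * 1)) = ζ ^ 0 := rfl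
  have q0_2 : ee ζ (-((0 : ZMod 9) * 2)) = ζ ^ 0 := rfl
  have q0_3 : ee ζ (-((0 : ZMod 9) * 3)) = ζ ^ 0 := rfl
  have q0_4 : ee ζ (-((0 : ZMod 9) * 4)) = ζ ^ 0 := rfl
  have q0_5 : ee ζ (-((0 : ZMod 9) * 5)) = ζ ^ 0 := rfl
  have q0_6 : ee ζ (-((0 : ZMod 9) * 6)) = ζ ^ 0 := rfl
  have q0_7 : ee ζ (-((0 : ZMod 9) * 7)) = ζ ^ 0 := rfl
  have q0_8 : ee ζ (-((0 : ZMod 9) * 8)) = ζ ^ 0 := rfl
  have q3_0 : ee ζ (-((3 : ZMod 9) * 0)) = ζ ^ 0 := rfl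
  have q3_1 : ee ζ (-((3 : ZMod 9) * 1)) = ζ ^ 6 := rfl
  have q3_2 : ee ζ (-((3 : ZMod 9) * 2)) = ζ ^ 3 := rfl
  have q3_3 : ee ζ (-((3 : ZMod 9) * 3)) = ζ ^ 0 := rfl
  have q3_4 : ee ζ (-((3 : ZMod 9) * 4)) = ζ ^ 6 := rfl
  have q3_5 : ee ζ (-((3 : ZMod 9) * 5)) = ζ ^ 3 := rfl
  have q3_6 : ee ζ (-((3 : ZMod 9) * 6)) = ζ ^ 0 := rfl
  have q3_7 : ee ζ (-((3 : ZMod 9) * 7)) = ζ ^ 6 := rfl
  have q3_8 : ee ζ (-((3 : ZMod 9) * 8)) = ζ ^ 3 := rfl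
  have q1_0 : ee ζ (-((1 : ZMod 9) * 0)) = ζ ^ 0 := rfl
  have q1_1 : ee ζ (-((1 : ZMod 9) * 1)) = ζ ^ 8 := rfl
  have q1_2 : ee ζ (-((1 : ZMod 9) * 2)) = ζ ^ 7 := rfl
  have q1_3 : ee ζ (-((1 : ZMod 9) * 3)) = ζ ^ 6 := rfl
  have q1_4 : ee ζ (-((1 : ZMod 9) * 4)) = ζ ^ 5 := rfl
  have q1_5 : ee ζ (-((1 : ZMod 9) * 5)) = ζ ^ 4 := rfl
  have q1_6 : ee ζ (-((1 : ZMod 9) * 6)) = ζ ^ 3 := rfl
  have q1_7 : ee ζ (-((1 : ZMod 9) * 7)) = ζ ^ 2 := rfl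
  have q1_8 : ee ζ (-((1 : ZMod 9) * 8)) = ζ ^ 1 := rfl
  simp only [q0_0, q0_1, q0_2, q0_3, q0_4, q0_5, q0_6, q0_7, q0_8, q3_0, q3_1, q3_2, q3_3, q3_4, q3_5, q3_6, q3_7, q3_8, q1_0, q1_1, q1_2, q1_3, q1_4, q1_5, q1_6, q1_7, q1_8] at F0 F3 F1
  set Y := (χ : G → ℂ) y
  set D := (χ : G → ℂ) (a * b * c)
  refine ⟨(m 0 : ℤ) - m 3, (m 3 : ℤ) - m 1, ?_, ?_⟩
  · push_cast
    linear_combination (1 / 9 : ℂ) * F0 - (1 / 9 : ℂ) * F3 + (Y / 3) * hz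
  · push_cast
    linear_combination (1 / 9 : ℂ) * F3 - (1 / 9 : ℂ) * F1 +
      ((D - 3 * Y + Y * (ζ + ζ ^ 2)) / 9) * hz

/-- **MULT9**, with the statement of `tab9` as hypothesis. -/
theorem mult9_aux (htab :
      (orderOf (a * σ) = 9 ∧ ∀ k : Fin 9, IsConj ((a * σ) ^ (k : ℕ)) (t9 a b c (a * σ) k)) ∧
      (orderOf (a⁻¹ * σ) = 9 ∧ ∀ k : Fin 9, IsConj ((a⁻¹ * σ) ^ (k : ℕ)) (t9 a b c (a⁻¹ * σ) k)))
    (χ : IrrCharacter G) :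
    ∃ n1 n2 n3 n4 : ℤ,
      (χ : G → ℂ) (a * σ) = n1 ∧ ((χ : G → ℂ) (a * b * c) - (χ : G → ℂ) (a * σ)) / 3 = n2 ∧
      (χ : G → ℂ) (a⁻¹ * σ) = n3 ∧ ((χ : G → ℂ) (a * b * c) - (χ : G → ℂ) (a⁻¹ * σ)) / 3 = n4 := by
  obtain ⟨⟨ho1, hc1⟩, ⟨ho2, hc2⟩⟩ := htab
  obtain ⟨n1, n2, h1, h2⟩ := mult9_one (a * σ) ho1 hc1 χ
  obtain ⟨n3, n4, h3, h4⟩ := mult9_one (a⁻¹ * σ) ho2 hc2 χ
  exact ⟨n1, n2, n3, n4, h1, h2, h3, h4⟩

/-- **MULT9** (verbatim). -/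
theorem mult9 (h : Hyp G H J a b c σ u v s) (χ : IrrCharacter G) :
    ∃ n1 n2 n3 n4 : ℤ,
      (χ : G → ℂ) (a * σ) = n1 ∧ ((χ : G → ℂ) (a * b * c) - (χ : G → ℂ) (a * σ)) / 3 = n2 ∧
      (χ : G → ℂ) (a⁻¹ * σ) = n3 ∧ ((χ : G → ℂ) (a * b * c) - (χ : G → ℂ) (a⁻¹ * σ)) / 3 = n4 :=
  mult9_aux (Cfsg.Agent.Lib.Helper16_H648_TAB.tab9 h) χ

end grp

end Cfsg.Agent.Lib.Helper87_H648_MULT9

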