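import Mathlib
import Cfsg.Prelude.Def_Characters
import Cfsg.Agent.Lib.Helper80_CharBasic
import Cfsg.Agent.Lib.Helper17_H27Defs
import Cfsg.Agent.Lib.Helper76_H648Defs
import Cfsg.Agent.Lib.Helper10_H648_INT
import Cfsg.Agent.Lib.Helper46_H648_MULT12
import Cfsg.Agent.Lib.Helper87_H648_MULT6
import Cfsg.Agent.Lib.Helper87_H648_MULT9
import Cfsg.Agent.Lib.Helper60_H648_MULTJ

/-!
# S3702 market `h648_packages` (architect helper76), package INT (helper10): verbatim statement
`int`, from `int_aux` and the landed verbatim MULT12, MULT6, MULT9, MULTJ.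
-/

set_option autoImplicit false

namespace Cfsg.Agent.Lib.Helper10_H648_INTv

open Cfsg Cfsg.Agent.Lib.Helper80_CharBasic
  Cfsg.Agent.Lib.Helper76_H648Defs
open Cfsg.Agent.Lib.Helper17_H27Defs (elt)

section grp
variable {G : Type*} [Group G] [Finite G]

variable {H J : Subgroup G} {a b c σ u v s : G}

/-! ### INT: the nine coordinates are integers -/
theorem int (h : Hyp G H J a b c σ u v s) (χ : IrrCharacter G) :
    ∃ n : Fin 9 → ℤ, ∀ j : Fin 9, cvec a b c σ u v s (χ : G → ℂ) j = (n j : ℂ) :=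
  Cfsg.Agent.Lib.Helper10_H648_INT.int_aux a b c σ u v s (χ : G → ℂ)
    (Cfsg.Agent.Lib.Helper46_H648_MULT12.mult12 h χ)
    (Cfsg.Agent.Lib.Helper87_H648_MULT6.mult6 h χ)
    (Cfsg.Agent.Lib.Helper87_H648_MULT9.mult9 h χ)
    (Cfsg.Agent.Lib.Helper60_H648_MULTJ.multJ h χ)

end grp

end Cfsg.Agent.Lib.Helper10_H648_INTv
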