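import Mathlib

set_option autoImplicit false

namespace Cfsg.Agent.Lib.Helper17_Sylow

open Subgroup

/-- A simple group acts faithfully on the cosets of any proper subgroup. -/
theorem toPermHom_injective_of_ne_top {G : Type*} [Group G] [IsSimpleGroup G]
    (H : Subgroup G) (hH : H ≠ ⊤) :
    Function.Injective (MulAction.toPermHom G (G ⧸ H)) := by
  rw [← MonoidHom.ker_eq_bot_iff, ← Subgroup.normalCore_eq_ker]
  rcases (Subgroup.normalCore_normal H).eq_bot_or_eq_top with h | h
  · exact h
  · exact absurd (top_le_iff.mp (h ▸ Subgroup.normalCore_le H)) hH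

/-- A finite simple group with a proper subgroup of index `n` has order dividing `n!`. -/
theorem card_dvd_factorial_index {G : Type*} [Group G] [Finite G] [IsSimpleGroup G]
    (H : Subgroup G) (hH : H ≠ ⊤) :
    Nat.card G ∣ (H.index).factorial := by
  have h1 := Subgroup.card_dvd_of_injective _ (toPermHom_injective_of_ne_top H hH)
  rwa [Nat.card_perm, ← Subgroup.index_eq_card] at h1

/-- Embedding theorem: a non-abelian simple group with a proper subgroup of finite index `n`
embeds into the alternating group of degree `n`. -/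
theorem exists_embedding_alternating {G : Type*} [Group G] [IsSimpleGroup G]
    (hG : ¬ IsMulCommutative G) (H : Subgroup G) [H.FiniteIndex] (hH : H ≠ ⊤) :
    ∃ f : G →* ↥(alternatingGroup (Fin H.index)), Function.Injective f := by
  classical
  have hfin : Finite (G ⧸ H) := Subgroup.finite_quotient_of_finiteIndex
  let e : (G ⧸ H) ≃ Fin H.index := (Finite.equivFin (G ⧸ H)).trans
    (finCongr (Subgroup.index_eq_card H).symm)
  let ψ : G →* Equiv.Perm (Fin H.index) :=
    (e.permCongrHom : Equiv.Perm (G ⧸ H) →* Equiv.Perm (Fin H.index)).comp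
      (MulAction.toPermHom G (G ⧸ H))
  have hψ : Function.Injective ψ := by
    intro a b hab
    apply toPermHom_injective_of_ne_top H hH
    exact e.permCongrHom.injective hab
  have hsign : ∀ g : G, Equiv.Perm.sign (ψ g) = 1 := by
    let σ : G →* ℤˣ := Equiv.Perm.sign.comp ψ
    rcases (MonoidHom.normal_ker σ).eq_bot_or_eq_top with h | h
    · exfalso
      apply hG
      have hσ : Function.Injective σ := (MonoidHom.ker_eq_bot_iff σ).mp h
      refine ⟨⟨fun a b => hσ ?_⟩⟩
      rw [map_mul, map_mul, mul_comm]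
    · intro g
      have : g ∈ σ.ker := h ▸ Subgroup.mem_top g
      exact this
  refine ⟨ψ.codRestrict (alternatingGroup (Fin H.index)) (fun g => ?_), ?_⟩
  · exact Equiv.Perm.mem_alternatingGroup.mpr (hsign g)
  · intro a b hab
    apply hψ
    exact congrArg Subtype.val hab


/-! ### Burnside transfer and N/C -/

/-- Burnside's transfer theorem for simple groups: a Sylow `p`-subgroup central in its normalizer
is trivial or everything. -/
theorem sylow_eq_bot_or_top_of_normalizer_le_centralizer {G : Type*} [Group G] [Finite G]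
    [IsSimpleGroup G] {p : ℕ} [Fact p.Prime] (P : Sylow p G)
    (hP : normalizer ((P : Subgroup G) : Set G) ≤ centralizer ((P : Subgroup G) : Set G)) :
    (P : Subgroup G) = ⊥ ∨ (P : Subgroup G) = ⊤ := by
  have hc := MonoidHom.ker_transferSylow_isComplement' P hP
  rcases (MonoidHom.normal_ker (MonoidHom.transferSylow P hP)).eq_bot_or_eq_top with h | h
  · right
    rw [h] at hc
    have h1 := hc.card_mul_card
    rw [Subgroup.card_bot, one_mul] at h1
    exact Subgroup.eq_top_of_card_eq _ h1
  · left
    rw [h] at hc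
    have h1 := hc.card_mul_card
    rw [Subgroup.card_top] at h1
    have hpos : 0 < Nat.card G := Nat.card_pos
    have : Nat.card (P : Subgroup G) = 1 := by
      apply Nat.eq_of_mul_eq_mul_left hpos
      rw [h1, mul_one]
    exact Subgroup.card_eq_one.mp this

/-- `|N(H) : C(H)|` divides `|Aut H|`. -/
theorem relIndex_centralizer_normalizer_dvd {G : Type*} [Group G] (H : Subgroup G) [Finite H] :
    (centralizer (H : Set G)).relIndex (normalizer (H : Set G)) ∣ Nat.card (MulAut H) := by
  have h2 : (H.normalizerMonoidHom.ker).index ∣ Nat.card (MulAut H) := by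
    rw [Subgroup.index_ker]
    exact Subgroup.card_subgroup_dvd_card _
  rwa [Subgroup.normalizerMonoidHom_ker] at h2

theorem card_mulAut_of_card_eq_prime {H : Type*} [Group H] {p : ℕ} [hp : Fact p.Prime]
    (h : Nat.card H = p) : Nat.card (MulAut H) = p - 1 := by
  have : Finite H := Nat.finite_of_card_ne_zero (by rw [h]; exact hp.out.ne_zero)
  have hc : IsCyclic H := isCyclic_of_prime_card h
  rw [IsCyclic.card_mulAut, h, Nat.totient_prime hp.out]

/-- If a subgroup `P` has prime order `p`, then `|N(P) : C(P)|` divides `p - 1`. -/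
theorem relIndex_centralizer_normalizer_dvd_pred {G : Type*} [Group G] {p : ℕ} [Fact p.Prime]
    (P : Subgroup G) (hP : Nat.card P = p) :
    (centralizer (P : Set G)).relIndex (normalizer (P : Set G)) ∣ p - 1 := by
  have : Finite P := Nat.finite_of_card_ne_zero (by rw [hP]; exact (Fact.out : p.Prime).ne_zero)
  have := relIndex_centralizer_normalizer_dvd P
  rwa [card_mulAut_of_card_eq_prime hP] at this

/-- A cyclic subgroup is contained in its centralizer. -/
theorem le_centralizer_of_isCyclic {G : Type*} [Group G] (P : Subgroup G) [IsCyclic P] :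
    P ≤ centralizer (P : Set G) := by
  intro x hx y hy
  have := (IsCyclic.commGroup (α := P)).mul_comm ⟨y, hy⟩ ⟨x, hx⟩
  exact congrArg Subtype.val this

theorem card_mul_relIndex_of_le {G : Type*} [Group G] {H K : Subgroup G} (h : H ≤ K) :
    Nat.card H * H.relIndex K = Nat.card K := by
  have h1 := Subgroup.card_mul_index (H.subgroupOf K)
  rwa [Nat.card_congr (Subgroup.subgroupOfEquivOfLe h).toEquiv] at h1

/-- If `P` has prime order `p` and `|N(P)|/p` is coprime to `p - 1` then `N(P) ≤ C(P)`. -/
theorem normalizer_le_centralizer_of_coprime {G : Type*} [Group G] [Finite G] {p : ℕ}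
    [hp : Fact p.Prime] (P : Subgroup G) (hP : Nat.card P = p)
    (hcop : Nat.Coprime (Nat.card (normalizer (P : Set G)) / p) (p - 1)) :
    normalizer (P : Set G) ≤ centralizer (P : Set G) := by
  have hcyc : IsCyclic P := isCyclic_of_prime_card hP
  have hPC : P ≤ centralizer (P : Set G) := le_centralizer_of_isCyclic P
  have hCN : centralizer (P : Set G) ≤ normalizer (P : Set G) := centralizer_le_normalizer _
  have hk := relIndex_centralizer_normalizer_dvd_pred P hP
  have h1 := card_mul_relIndex_of_le hCN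
  have h2 : p ∣ Nat.card (centralizer (P : Set G)) := hP ▸ Subgroup.card_dvd_of_le hPC
  obtain ⟨c, hc⟩ := h2
  set k := (centralizer (P : Set G)).relIndex (normalizer (P : Set G)) with hk_def
  have h3 : Nat.card (normalizer (P : Set G)) / p = c * k := by
    rw [← h1, hc, mul_assoc, Nat.mul_div_cancel_left _ hp.out.pos]
  rw [h3] at hcop
  have h4 : k ∣ Nat.gcd (c * k) (p - 1) := Nat.dvd_gcd (dvd_mul_left _ _) hk
  rw [hcop] at h4
  have h5 : k = 1 := Nat.dvd_one.mp h4
  exact Subgroup.relIndex_eq_one.mp h5

/-! ### Sylow numerics -/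

theorem card_sylow_eq_pow {G : Type*} [Group G] [Finite G] {p k m : ℕ} [hp : Fact p.Prime]
    (hG : Nat.card G = p ^ k * m) (hm : ¬ p ∣ m) (P : Sylow p G) :
    Nat.card (P : Subgroup G) = p ^ k := by
  rw [Sylow.card_eq_multiplicity, hG]
  have hm0 : m ≠ 0 := fun h => hm (h ▸ dvd_zero p)
  have hpk : p ^ k ≠ 0 := pow_ne_zero _ hp.out.ne_zero
  rw [Nat.factorization_mul hpk hm0, Nat.Prime.factorization_pow hp.out]
  simp [Nat.factorization_eq_zero_of_not_dvd hm]

theorem index_sylow_eq {G : Type*} [Group G] [Finite G] {p k m : ℕ} [hp : Fact p.Prime]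
    (hG : Nat.card G = p ^ k * m) (hm : ¬ p ∣ m) (P : Sylow p G) :
    (P : Subgroup G).index = m := by
  have h1 := Subgroup.card_mul_index (P : Subgroup G)
  rw [card_sylow_eq_pow hG hm P, hG] at h1
  exact Nat.eq_of_mul_eq_mul_left (pow_pos hp.out.pos k) h1

theorem card_sylow_dvd {G : Type*} [Group G] [Finite G] {p k m : ℕ} [hp : Fact p.Prime]
    (hG : Nat.card G = p ^ k * m) (hm : ¬ p ∣ m) :
    Nat.card (Sylow p G) ∣ m := by
  obtain ⟨P⟩ : Nonempty (Sylow p G) := inferInstance
  have := Sylow.card_dvd_index P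
  rwa [index_sylow_eq hG hm P] at this

/-- The list of candidates for the number of Sylow `p`-subgroups of a group of order `p ^ k * m`. -/
def sylowCandidates (p m : ℕ) : List ℕ :=
  ((List.range (m / p + 1)).map (fun j => 1 + j * p)).filter (fun d => m % d = 0)

theorem card_sylow_mem_candidates {G : Type*} [Group G] [Finite G] {p k m : ℕ} [hp : Fact p.Prime]
    (hG : Nat.card G = p ^ k * m) (hm : ¬ p ∣ m) :
    Nat.card (Sylow p G) ∈ sylowCandidates p m := by
  have hm0 : 0 < m := Nat.pos_of_ne_zero (fun h => hm (h ▸ dvd_zero p))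
  have h1 := card_sylow_dvd hG hm
  have h2 := card_sylow_modEq_one p G
  unfold sylowCandidates
  simp only [List.mem_filter, List.mem_map, List.mem_range, decide_eq_true_eq]
  set n := Nat.card (Sylow p G) with hn
  have hle : n ≤ m := Nat.le_of_dvd hm0 h1
  have hmod : n % p = 1 := by
    have := h2
    unfold Nat.ModEq at this
    rw [this]
    exact Nat.mod_eq_of_lt hp.out.one_lt
  refine ⟨⟨n / p, ?_, ?_⟩, Nat.mod_eq_zero_of_dvd h1⟩
  · exact Nat.lt_succ_of_le (Nat.div_le_div_right hle)
  · have := Nat.div_add_mod n p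
    rw [hmod] at this
    linarith [mul_comm (n / p) p]

/-- `|N(P)| * n_p = |G|`. -/
theorem card_normalizer_mul_card_sylow {G : Type*} [Group G] [Finite G] {p : ℕ} [Fact p.Prime]
    (P : Sylow p G) :
    Nat.card (normalizer ((P : Subgroup G) : Set G)) * Nat.card (Sylow p G) = Nat.card G := by
  rw [Sylow.card_eq_index_normalizer P]
  exact Subgroup.card_mul_index _

/-- In a simple group a nontrivial proper Sylow subgroup is not unique. -/
theorem one_lt_card_sylow {G : Type*} [Group G] [Finite G] [IsSimpleGroup G] {p : ℕ}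
    [Fact p.Prime] (P : Sylow p G) (h1 : (P : Subgroup G) ≠ ⊥) (h2 : (P : Subgroup G) ≠ ⊤) :
    1 < Nat.card (Sylow p G) := by
  by_contra hlt
  have hpos : 0 < Nat.card (Sylow p G) := Nat.card_pos
  have h1' : Nat.card (Sylow p G) = 1 := by omega
  have : Subsingleton (Sylow p G) := (Nat.card_eq_one_iff_unique.mp h1').1
  have hn : (P : Subgroup G).Normal := Sylow.normal_of_subsingleton P
  rcases hn.eq_bot_or_eq_top with h | h
  · exact h1 h
  · exact h2 h

/-- Numeric version: in a simple group of order `p ^ k * m` with `0 < k`, `1 < m`, `p ∤ m`,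
there is more than one Sylow `p`-subgroup. -/
theorem one_lt_card_sylow_of_card {G : Type*} [Group G] [Finite G] [IsSimpleGroup G] {p k m : ℕ}
    [hp : Fact p.Prime] (hG : Nat.card G = p ^ k * m) (hm : ¬ p ∣ m) (hk : 0 < k) (hm1 : 1 < m) :
    1 < Nat.card (Sylow p G) := by
  obtain ⟨P⟩ : Nonempty (Sylow p G) := inferInstance
  have hP := card_sylow_eq_pow hG hm P
  apply one_lt_card_sylow P
  · intro h
    rw [h, Subgroup.card_bot] at hP
    have : 1 < p ^ k := Nat.one_lt_pow hk.ne' hp.out.one_lt
    omega
  · intro h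
    rw [h, Subgroup.card_top, hG] at hP
    have hpos : 0 < p ^ k := pow_pos hp.out.pos k
    nlinarith

/-- A simple group embeds in the symmetric group on its Sylow `p`-subgroups when there are
several, hence its order divides `n_p !`. -/
theorem card_dvd_factorial_card_sylow {G : Type*} [Group G] [Finite G] [IsSimpleGroup G] {p : ℕ}
    [Fact p.Prime] (h : 1 < Nat.card (Sylow p G)) :
    Nat.card G ∣ (Nat.card (Sylow p G)).factorial := by
  obtain ⟨P⟩ : Nonempty (Sylow p G) := inferInstance
  rw [Sylow.card_eq_index_normalizer P] at h ⊢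
  apply card_dvd_factorial_index
  intro htop
  rw [htop, Subgroup.index_top] at h
  exact lt_irrefl _ h

/-- A simple group whose order is not prime is not commutative. -/
theorem not_isMulCommutative_of_not_prime {G : Type*} [Group G] [Finite G] [IsSimpleGroup G]
    (h : ¬ (Nat.card G).Prime) : ¬ IsMulCommutative G := by
  intro hc
  apply h
  let _ : CommGroup G := { (inferInstance : Group G) with mul_comm := hc.is_comm.comm }
  exact IsSimpleGroup.prime_card

/-- A non-abelian simple group with a proper subgroup of index `n` has `2 * |G| ∣ n!`. -/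
theorem two_mul_card_dvd_factorial_index {G : Type*} [Group G] [Finite G] [IsSimpleGroup G]
    (hG : ¬ IsMulCommutative G) (H : Subgroup G) (hH : H ≠ ⊤) :
    2 * Nat.card G ∣ (H.index).factorial := by
  obtain ⟨f, hf⟩ := exists_embedding_alternating hG H hH
  have h1 := Subgroup.card_dvd_of_injective f hf
  have hnt : Nontrivial (Fin H.index) := by
    rw [Fin.nontrivial_iff_two_le]
    have h0 : H.index ≠ 0 := Subgroup.index_ne_zero_of_finite
    have h1 : H.index ≠ 1 := fun h => hH (Subgroup.index_eq_one.mp h)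
    omega
  have h2 := two_mul_card_alternatingGroup (α := Fin H.index)
  rw [Fintype.card_perm, Fintype.card_fin] at h2
  rw [← h2, ← Nat.card_eq_fintype_card]
  exact Nat.mul_dvd_mul_left 2 h1

theorem two_mul_card_dvd_factorial_card_sylow {G : Type*} [Group G] [Finite G] [IsSimpleGroup G]
    (hG : ¬ IsMulCommutative G) {p : ℕ}
    [Fact p.Prime] (h : 1 < Nat.card (Sylow p G)) :
    2 * Nat.card G ∣ (Nat.card (Sylow p G)).factorial := by
  obtain ⟨P⟩ : Nonempty (Sylow p G) := inferInstance
  rw [Sylow.card_eq_index_normalizer P] at h ⊢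
  apply two_mul_card_dvd_factorial_index hG
  intro htop
  rw [htop, Subgroup.index_top] at h
  exact lt_irrefl _ h


/-- Burnside kill: in a simple group of order `p * m` (`p ∤ m`, `1 < m`), the number
`m / n_p = |N(P)|/p` is not coprime to `p - 1`. -/
theorem not_coprime_of_simple {G : Type*} [Group G] [Finite G] [IsSimpleGroup G] {p m : ℕ}
    [hp : Fact p.Prime] (hG : Nat.card G = p ^ 1 * m) (hm : ¬ p ∣ m) (hm1 : 1 < m) :
    ¬ Nat.Coprime (m / Nat.card (Sylow p G)) (p - 1) := by
  intro hcop
  obtain ⟨P⟩ : Nonempty (Sylow p G) := inferInstance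
  have hP : Nat.card (P : Subgroup G) = p := by
    have := card_sylow_eq_pow hG hm P
    rwa [pow_one] at this
  have hdvd : Nat.card (Sylow p G) ∣ m := card_sylow_dvd hG hm
  have hN := card_normalizer_mul_card_sylow P
  have hnpos : 0 < Nat.card (Sylow p G) := Nat.card_pos
  have h1 : Nat.card (normalizer ((P : Subgroup G) : Set G)) / p = m / Nat.card (Sylow p G) := by
    obtain ⟨c, hc⟩ := hdvd
    rw [hc, Nat.mul_div_cancel_left _ hnpos]
    rw [hG, hc, pow_one] at hN
    have h2 : Nat.card (normalizer ((P : Subgroup G) : Set G)) = p * c := by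
      apply Nat.eq_of_mul_eq_mul_right hnpos
      rw [hN]; ring
    rw [h2, Nat.mul_div_cancel_left _ hp.out.pos]
  rw [← h1] at hcop
  have hNC := normalizer_le_centralizer_of_coprime (P : Subgroup G) hP hcop
  rcases sylow_eq_bot_or_top_of_normalizer_le_centralizer P hNC with h | h
  · rw [h, Subgroup.card_bot] at hP
    exact hp.out.one_lt.ne hP
  · rw [h, Subgroup.card_top, hG, pow_one] at hP
    have := hp.out.pos
    nlinarith


/-! ### Counting elements of prime order -/

theorem card_mem_ne_one {G : Type*} [Group G] (P : Subgroup G) [Finite P] :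
    Nat.card {g : G // g ∈ P ∧ g ≠ 1} = Nat.card P - 1 := by
  classical
  have e : {g : G // g ∈ P ∧ g ≠ 1} ≃ {x : P // x ≠ 1} :=
    { toFun := fun g => ⟨⟨g.1, g.2.1⟩, fun h => g.2.2 (congrArg Subtype.val h)⟩
      invFun := fun x => ⟨x.1.1, x.1.2, fun h => x.2 (Subtype.ext h)⟩
      left_inv := fun g => rfl
      right_inv := fun x => rfl }
  rw [Nat.card_congr e]
  have : Fintype P := Fintype.ofFinite P
  rw [Nat.card_eq_fintype_card, Fintype.card_subtype_compl, Nat.card_eq_fintype_card]
  simp

/-- If all Sylow `p`-subgroups have order `p`, a Sylow `p`-subgroup containing an element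
of order `p` is generated by it. -/
theorem sylow_eq_zpowers {G : Type*} [Group G] [Finite G] {p : ℕ} [Fact p.Prime]
    (P : Sylow p G) (hP : Nat.card (P : Subgroup G) = p) (g : G) (hg : g ∈ (P : Subgroup G))
    (ho : orderOf g = p) : (P : Subgroup G) = zpowers g := by
  symm
  apply Subgroup.eq_of_le_of_card_ge (by rwa [zpowers_le])
  rw [hP, Nat.card_zpowers, ho]

/-- If the Sylow `p`-subgroups have order `p`, there are `n_p * (p - 1)` elements of order `p`. -/
theorem card_orderOf_eq_prime {G : Type*} [Group G] [Finite G] {p : ℕ} [hp : Fact p.Prime]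
    (hP : ∀ P : Sylow p G, Nat.card (P : Subgroup G) = p) :
    Nat.card {g : G // orderOf g = p} = Nat.card (Sylow p G) * (p - 1) := by
  classical
  let f : (Σ P : Sylow p G, {g : G // g ∈ (P : Subgroup G) ∧ g ≠ 1}) → {g : G // orderOf g = p} :=
    fun x => ⟨x.2.1, by
      have h1 : orderOf (⟨x.2.1, x.2.2.1⟩ : (x.1 : Subgroup G)) ∣ p := by
        have := orderOf_dvd_natCard (⟨x.2.1, x.2.2.1⟩ : (x.1 : Subgroup G))
        rwa [hP x.1] at this
      rw [Subgroup.orderOf_mk] at h1
      rcases (Nat.dvd_prime hp.out).mp h1 with h | h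
      · exact absurd (orderOf_eq_one_iff.mp h) x.2.2.2
      · exact h⟩
  have hf : Function.Bijective f := by
    constructor
    · rintro ⟨P, g, hg, hg1⟩ ⟨Q, g', hg', hg1'⟩ h
      have hgg : g = g' := congrArg Subtype.val h
      subst hgg
      have ho : orderOf g = p := (f ⟨P, g, hg, hg1⟩).2
      have hPQ : P = Q := Sylow.ext ((sylow_eq_zpowers P (hP P) g hg ho).trans
        (sylow_eq_zpowers Q (hP Q) g hg' ho).symm)
      subst hPQ
      rfl
    · rintro ⟨g, ho⟩
      have hpg : IsPGroup p (zpowers g) := by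
        apply IsPGroup.of_card (n := 1)
        rw [Nat.card_zpowers, ho, pow_one]
      obtain ⟨P, hle⟩ := hpg.exists_le_sylow
      have hg : g ∈ (P : Subgroup G) := hle (mem_zpowers g)
      refine ⟨⟨P, g, hg, ?_⟩, rfl⟩
      rintro rfl
      rw [orderOf_one] at ho
      exact hp.out.one_lt.ne ho
  have : Fintype (Sylow p G) := Fintype.ofFinite _
  rw [← Nat.card_congr (Equiv.ofBijective f hf), Nat.card_sigma]
  have : ∀ P : Sylow p G, Nat.card {g : G // g ∈ (P : Subgroup G) ∧ g ≠ 1} = p - 1 := by
    intro P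
    rw [card_mem_ne_one, hP P]
  simp only [this]
  rw [Finset.sum_const, Finset.card_univ, Nat.card_eq_fintype_card, smul_eq_mul]

/-- The numbers of elements of pairwise distinct orders add up to at most `|G|`. -/
theorem sum_card_orderOf_le {G : Type*} [Group G] [Finite G] (S : Finset ℕ) :
    ∑ a ∈ S, Nat.card {g : G // orderOf g = a} ≤ Nat.card G := by
  classical
  have : Fintype G := Fintype.ofFinite G
  have h1 : ∀ a, Nat.card {g : G // orderOf g = a} =
      (Finset.univ.filter (fun g : G => orderOf g = a)).card := by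
    intro a
    rw [Nat.card_eq_fintype_card, Fintype.card_subtype]
  simp only [h1]
  rw [← Finset.card_biUnion]
  · rw [Nat.card_eq_fintype_card, ← Finset.card_univ]
    exact Finset.card_le_card (Finset.subset_univ _)
  · intro a _ b _ hab
    rw [Function.onFun, Finset.disjoint_left]
    intro g hg hg'
    simp only [Finset.mem_filter, Finset.mem_univ, true_and] at hg hg'
    exact hab (hg.symm.trans hg')

theorem card_orderOf_eq_one {G : Type*} [Group G] :
    Nat.card {g : G // orderOf g = 1} = 1 := by
  have : Unique {g : G // orderOf g = 1} :=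
    { default := ⟨1, orderOf_one⟩
      uniq := fun g => Subtype.ext (orderOf_eq_one_iff.mp g.2) }
  exact Nat.card_unique


/-! ### Sylow intersections -/

/-- If a group `H` acts on a finite type `X` with a fixed point `x₀` and every orbit other than
`{x₀}` has size divisible by `m`, then `|X| ≡ 1 mod m`. -/
theorem card_modEq_one_of_orbits {H X : Type*} [Group H] [MulAction H X] [Finite X] (m : ℕ)
    (x₀ : X) (hfix : ∀ h : H, h • x₀ = x₀)
    (horb : ∀ x : X, x ≠ x₀ → m ∣ Nat.card (MulAction.orbit H x)) :
    Nat.card X ≡ 1 [MOD m] := by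
  classical
  have : Fintype (MulAction.orbitRel.Quotient H X) := Fintype.ofFinite _
  rw [Nat.card_congr (MulAction.selfEquivSigmaOrbits H X), Nat.card_sigma]
  set ω₀ : MulAction.orbitRel.Quotient H X := Quotient.mk'' x₀ with hω₀
  rw [← Finset.add_sum_erase Finset.univ _ (Finset.mem_univ ω₀)]
  have horb0 : MulAction.orbit H x₀ = {x₀} := by
    ext y
    simp only [MulAction.mem_orbit_iff, Set.mem_singleton_iff]
    constructor
    · rintro ⟨h, rfl⟩; exact hfix h
    · rintro rfl; exact ⟨1, one_smul _ _⟩
  have hout0 : (Quotient.out ω₀ : X) = x₀ := by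
    have h1 : (Quotient.out ω₀ : X) ∈ MulAction.orbit H x₀ := by
      rw [← MulAction.orbitRel_apply]
      exact Quotient.exact' (Quotient.out_eq' ω₀)
    rw [horb0] at h1
    exact h1
  have h0 : Nat.card (MulAction.orbit H (Quotient.out ω₀ : X)) = 1 := by
    rw [hout0, horb0]
    simp
  rw [h0]
  have hdvd : m ∣ ∑ ω ∈ Finset.univ.erase ω₀, Nat.card (MulAction.orbit H (Quotient.out ω : X)) := by
    apply Finset.dvd_sum
    intro ω hω
    apply horb
    intro h
    apply (Finset.mem_erase.mp hω).1
    rw [← Quotient.out_eq' ω, h]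
  obtain ⟨t, ht⟩ := hdvd
  rw [ht]
  unfold Nat.ModEq
  simp

/-- The orbit of a Sylow subgroup `R` under conjugation by a Sylow subgroup `P` has
size `|P : P ∩ R|`. -/
theorem card_orbit_sylow {G : Type*} [Group G] [Finite G] {p : ℕ} [Fact p.Prime]
    (P R : Sylow p G) :
    Nat.card (MulAction.orbit (↥(P : Subgroup G)) R) = (R : Subgroup G).relIndex (P : Subgroup G) := by
  have h1 := MulAction.index_stabilizer (↥(P : Subgroup G)) R
  rw [← Nat.card_coe_set_eq] at h1
  rw [← h1]
  have h2 : MulAction.stabilizer (↥(P : Subgroup G)) R =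
      (normalizer ((R : Subgroup G) : Set G)).subgroupOf (P : Subgroup G) := by
    ext x
    rw [MulAction.mem_stabilizer_iff, Subgroup.mem_subgroupOf, Subgroup.smul_def,
      Sylow.smul_eq_iff_mem_normalizer]
    rfl
  rw [h2]
  change (normalizer ((R : Subgroup G) : Set G)).relIndex (P : Subgroup G) = _
  rw [← Subgroup.inf_relIndex_right, inf_comm]
  have h3 := IsPGroup.inf_normalizer_sylow P.2 R
  have h4 : (P : Subgroup G) ⊓ normalizer ((R : Subgroup G) : Set G) = (P : Subgroup G) ⊓ (R : Subgroup G) := h3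
  rw [h4, inf_comm, Subgroup.inf_relIndex_right]

theorem exists_sylow_relIndex_le {G : Type*} [Group G] [Finite G] (p k : ℕ) [hp : Fact p.Prime]
    (h : ¬ Nat.card (Sylow p G) ≡ 1 [MOD p ^ k]) (P : Sylow p G) :
    ∃ R : Sylow p G, R ≠ P ∧ (R : Subgroup G).relIndex (P : Subgroup G) ≤ p ^ (k - 1) := by
  by_contra hcon
  push Not at hcon
  apply h
  apply card_modEq_one_of_orbits (H := ↥(P : Subgroup G)) (p ^ k) P
  · intro x
    rw [Subgroup.smul_def, Sylow.smul_eq_iff_mem_normalizer]
    exact Subgroup.le_normalizer x.2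
  · intro R hR
    rw [card_orbit_sylow]
    have h1 := hcon R hR
    have h2 : (R : Subgroup G).relIndex (P : Subgroup G) ∣ Nat.card (P : Subgroup G) :=
      Subgroup.relIndex_dvd_card _ _
    obtain ⟨a, ha⟩ := IsPGroup.iff_card.mp P.2
    rw [ha] at h2
    obtain ⟨j, hj, hj'⟩ := (Nat.dvd_prime_pow hp.out).mp h2
    rw [hj'] at h1 ⊢
    have h3 : k - 1 < j := (Nat.pow_lt_pow_iff_right hp.out.one_lt).mp h1
    exact pow_dvd_pow p (by omega)

/-- If two distinct Sylow `p`-subgroups of `G` lie in a subgroup `N`, then `(p + 1) * |P| ≤ |N|`;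
more precisely `n_p(N) * |P| ∣ |N|` with `n_p(N) ≥ p + 1`. -/
theorem succ_mul_card_sylow_le_card {G : Type*} [Group G] [Finite G] {p : ℕ} [hp : Fact p.Prime]
    (P R : Sylow p G) (hPR : P ≠ R) (N : Subgroup G) (hP : (P : Subgroup G) ≤ N)
    (hR : (R : Subgroup G) ≤ N) :
    ∃ n : ℕ, p + 1 ≤ n ∧ n ≡ 1 [MOD p] ∧ n * Nat.card (P : Subgroup G) ∣ Nat.card N := by
  refine ⟨Nat.card (Sylow p N), ?_, card_sylow_modEq_one p N, ?_⟩
  · have hne : P.subtype hP ≠ R.subtype hR := fun h => hPR (Sylow.subtype_injective h)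
    have h1 : 1 < Nat.card (Sylow p N) := by
      rw [Finite.one_lt_card_iff_nontrivial]
      exact ⟨⟨_, _, hne⟩⟩
    have h2 := card_sylow_modEq_one p N
    by_contra hlt
    have h3 : Nat.card (Sylow p N) < p + 1 := by omega
    unfold Nat.ModEq at h2
    rw [Nat.mod_eq_of_lt hp.out.one_lt] at h2
    rcases Nat.lt_or_ge (Nat.card (Sylow p N)) p with h4 | h4
    · rw [Nat.mod_eq_of_lt h4] at h2; omega
    · have h5 : Nat.card (Sylow p N) = p := by omega
      rw [h5, Nat.mod_self] at h2; omega
  · have h1 := Sylow.card_dvd_index (P.subtype hP)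
    have h2 := Subgroup.card_mul_index ((P.subtype hP : Sylow p N) : Subgroup N)
    have h3 : Nat.card ((P.subtype hP : Sylow p N) : Subgroup N) = Nat.card (P : Subgroup G) := by
      rw [Sylow.coe_subtype]
      exact Nat.card_congr (Subgroup.subgroupOfEquivOfLe hP).toEquiv
    rw [h3] at h2
    rw [← h2, mul_comm]
    exact Nat.mul_dvd_mul_left _ h1

/-- In a finite simple group of order not dividing `b!`, every proper subgroup has index
greater than `b`. -/
theorem index_gt_of_not_dvd_factorial {G : Type*} [Group G] [Finite G] [IsSimpleGroup G]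
    (H : Subgroup G) (hH : H ≠ ⊤) (b : ℕ) (hb : ¬ Nat.card G ∣ b.factorial) : b < H.index := by
  by_contra hle
  apply hb
  have h1 : Nat.card G ∣ (H.index).factorial := by
    have h1 := Subgroup.card_dvd_of_injective (MulAction.toPermHom G (G ⧸ H)) (by
      rw [← MonoidHom.ker_eq_bot_iff, ← Subgroup.normalCore_eq_ker]
      rcases (Subgroup.normalCore_normal H).eq_bot_or_eq_top with h | h
      · exact h
      · exact absurd (top_le_iff.mp (h ▸ Subgroup.normalCore_le H)) hH)
    rwa [Nat.card_perm, ← Subgroup.index_eq_card] at h1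
  exact h1.trans (Nat.factorial_dvd_factorial (by omega))

/-- In a finite `p`-group, a subgroup of index `p` is normal (stated inside an ambient group). -/
theorem le_normalizer_of_relIndex_eq_prime {G : Type*} [Group G] {p : ℕ} [hp : Fact p.Prime]
    (P D : Subgroup G) [Finite P] (hP : IsPGroup p P) (hD : D ≤ P) (h : D.relIndex P = p) :
    P ≤ normalizer (D : Set G) := by
  rw [← Subgroup.normal_subgroupOf_iff_le_normalizer hD]
  apply Subgroup.normal_of_index_eq_minFac_card
  change D.relIndex P = _
  rw [h]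
  obtain ⟨a, ha⟩ := IsPGroup.iff_card.mp hP
  have ha0 : a ≠ 0 := by
    rintro rfl
    rw [pow_zero] at ha
    have h1 : D.relIndex P ∣ Nat.card P := Subgroup.relIndex_dvd_card _ _
    rw [ha, h] at h1
    exact hp.out.one_lt.ne' (Nat.dvd_one.mp h1)
  rw [ha, Nat.Prime.pow_minFac hp.out ha0]

/-- An abelian subgroup normalizes each of its subgroups. -/
theorem le_normalizer_of_comm {G : Type*} [Group G] (P D : Subgroup G) (hD : D ≤ P)
    (hcomm : ∀ a ∈ P, ∀ b ∈ P, a * b = b * a) : P ≤ normalizer (D : Set G) := by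
  refine le_trans ?_ (Subgroup.centralizer_le_normalizer _)
  intro x hx
  rw [Subgroup.mem_centralizer_iff]
  intro d hd
  exact hcomm d (hD hd) x hx


/-- `n_p = |G : N(P)|`, with the coercions in the form used by the statements. -/
theorem card_sylow_eq_index {G : Type*} [Group G] [Finite G] {p : ℕ} [Fact p.Prime]
    (P : Sylow p G) :
    Nat.card (Sylow p G) = (normalizer ((P : Subgroup G) : Set G)).index :=
  Sylow.card_eq_index_normalizer P

/-- If there are several Sylow `p`-subgroups, the normalizer of one is a proper subgroup. -/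
theorem normalizer_sylow_ne_top {G : Type*} [Group G] [Finite G] {p : ℕ} [Fact p.Prime]
    (P : Sylow p G) (h : 1 < Nat.card (Sylow p G)) :
    normalizer ((P : Subgroup G) : Set G) ≠ ⊤ := by
  intro htop
  rw [card_sylow_eq_index P, htop, Subgroup.index_top] at h
  exact lt_irrefl _ h


open scoped Pointwise in
/-- A normal subgroup containing one Sylow `p`-subgroup contains all of them. -/
theorem sylow_le_of_normal {G : Type*} [Group G] [Finite G] {p : ℕ} [Fact p.Prime]
    (K : Subgroup G) [hK : K.Normal] (Q P : Sylow p G) (hQ : (Q : Subgroup G) ≤ K) :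
    (P : Subgroup G) ≤ K := by
  obtain ⟨g, rfl⟩ := MulAction.exists_smul_eq G Q P
  intro x hx
  have hx' : x ∈ (MulAut.conj g • (Q : Subgroup G)) := by
    rw [← Sylow.pointwise_smul_def, ← Sylow.smul_def]; exact hx
  obtain ⟨y, hy, rfl⟩ := (Subgroup.mem_smul_pointwise_iff_exists _ _ _).mp hx'
  rw [MulAut.smul_def, MulAut.conj_apply]
  exact hK.conj_mem _ (hQ hy) g

/-- If the Sylow `p`-subgroups have order `p`, an element of order `p` generates one. -/
theorem exists_sylow_eq_zpowers {G : Type*} [Group G] [Finite G] {p : ℕ} [Fact p.Prime]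
    (hP : ∀ P : Sylow p G, Nat.card (P : Subgroup G) = p) (g : G) (ho : orderOf g = p) :
    ∃ P : Sylow p G, (P : Subgroup G) = zpowers g := by
  have hpg : IsPGroup p (zpowers g) := by
    apply IsPGroup.of_card (n := 1)
    rw [Nat.card_zpowers, ho, pow_one]
  obtain ⟨P, hle⟩ := hpg.exists_le_sylow
  exact ⟨P, sylow_eq_zpowers P (hP P) g (hle (mem_zpowers g)) ho⟩

/-- A normal subgroup of order 2 is central. -/
theorem commute_of_normal_of_card_eq_two {G : Type*} [Group G] (K : Subgroup G) [hK : K.Normal]
    (h2 : Nat.card K = 2) (t : G) (ht : t ∈ K) (g : G) : Commute g t := by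
  by_cases ht1 : t = 1
  · subst ht1; exact Commute.one_right g
  · have hc : g * t * g⁻¹ ∈ K := hK.conj_mem t ht g
    have hne : g * t * g⁻¹ ≠ 1 := by
      intro h
      apply ht1
      have : t = g⁻¹ * (g * t * g⁻¹) * g := by group
      rw [this, h]; group
    obtain ⟨y, -, hy⟩ := (Nat.card_eq_two_iff' (1 : K)).mp h2
    have h1 : (⟨t, ht⟩ : K) = y := hy _ (fun h => ht1 (congrArg Subtype.val h))
    have h2' : (⟨g * t * g⁻¹, hc⟩ : K) = y := hy _ (fun h => hne (congrArg Subtype.val h))
    have h' : g * t * g⁻¹ = t := congrArg Subtype.val (h2'.trans h1.symm)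
    unfold Commute SemiconjBy
    calc g * t = g * t * g⁻¹ * g := by group
      _ = t * g := by rw [h']


/-! ### Conjugation, centralizers, class sizes -/

open scoped Pointwise in
theorem mem_smul_sylow {G : Type*} [Group G] {p : ℕ} (g h : G) (R : Sylow p G) :
    h ∈ ((g • R : Sylow p G) : Subgroup G) ↔ g⁻¹ * h * g ∈ (R : Subgroup G) := by
  have h1 : ((g • R : Sylow p G) : Subgroup G) = MulAut.conj g • (R : Subgroup G) := by
    rw [Sylow.smul_def, Sylow.pointwise_smul_def]
  rw [h1, Subgroup.mem_pointwise_smul_iff_inv_smul_mem, MulAut.smul_def, MulAut.conj_inv_apply]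

theorem orderOf_conj' {G : Type*} [Group G] (g h : G) : orderOf (h * g * h⁻¹) = orderOf g :=
  orderOf_injective ((MulAut.conj h).toMonoidHom) (MulAut.conj h).injective g

theorem orderOf_of_isConj {G : Type*} [Group G] {x y : G} (h : IsConj x y) :
    orderOf y = orderOf x := by
  obtain ⟨g, hg⟩ := isConj_iff.mp h
  rw [← hg, orderOf_conj']

/-- If all fibres of `f` over a subset `T` have the same size `c`, the preimage of `T` has
`c * |T|` elements. -/
theorem card_preimage_eq_mul {A B : Type*} [Finite A] [Finite B] (f : A → B) (c : ℕ) (T : Set B)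
    (hf : ∀ b ∈ T, Nat.card {a : A // f a = b} = c) :
    Nat.card {a : A // f a ∈ T} = c * Nat.card T := by
  classical
  have e : {a : A // f a ∈ T} ≃ Σ b : T, {a : A // f a = b} :=
    { toFun := fun a => ⟨⟨f a.1, a.2⟩, ⟨a.1, rfl⟩⟩
      invFun := fun x => ⟨x.2.1, by rw [x.2.2]; exact x.1.2⟩
      left_inv := fun a => rfl
      right_inv := by
        rintro ⟨⟨b, hb⟩, ⟨a, ha⟩⟩
        change f a = b at ha
        subst ha
        rfl }
  have : Fintype T := Fintype.ofFinite T
  rw [Nat.card_congr e, Nat.card_sigma]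
  have : ∀ b : T, Nat.card {a : A // f a = b} = c := fun b => hf b b.2
  simp only [this]
  rw [Finset.sum_const, Finset.card_univ, Nat.card_eq_fintype_card, smul_eq_mul, mul_comm]

/-- If all fibres of `f` have the same size `c`, then `|A| = c * |B|`. -/
theorem card_eq_mul_of_fibers {A B : Type*} [Finite A] [Finite B] (f : A → B) (c : ℕ)
    (hf : ∀ b : B, Nat.card {a : A // f a = b} = c) :
    Nat.card A = c * Nat.card B := by
  have h1 := card_preimage_eq_mul f c Set.univ (fun b _ => hf b)
  rw [Nat.card_congr (Equiv.Set.univ B)] at h1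
  rw [← h1]
  apply Nat.card_congr
  exact
    { toFun := fun a => ⟨a, Set.mem_univ _⟩
      invFun := fun a => a.1
      left_inv := fun a => rfl
      right_inv := fun a => rfl }

/-- The fibres of `g ↦ g⁻¹ x g` over conjugates of `x` are in bijection with the centralizer. -/
theorem card_fiber_conj {G : Type*} [Group G] (x y : G) (h : IsConj x y) :
    Nat.card {g : G // g⁻¹ * x * g = y} = Nat.card (centralizer ({x} : Set G)) := by
  obtain ⟨g₀, hg₀⟩ := isConj_iff.mp h
  apply Nat.card_congr
  refine
    { toFun := fun g => ⟨g.1 * g₀, ?_⟩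
      invFun := fun c => ⟨c.1 * g₀⁻¹, ?_⟩
      left_inv := fun g => by apply Subtype.ext; simp
      right_inv := fun c => by apply Subtype.ext; simp }
  · rw [Subgroup.mem_centralizer_iff]
    intro z hz
    rw [Set.mem_singleton_iff] at hz
    subst hz
    have h1 : g.1⁻¹ * z * g.1 = g₀ * z * g₀⁻¹ := g.2.trans hg₀.symm
    have h2 : g.1 * (g₀ * z * g₀⁻¹) * g.1⁻¹ = z := by rw [← h1]; group
    calc z * (g.1 * g₀) = g.1 * (g₀ * z * g₀⁻¹) * g.1⁻¹ * (g.1 * g₀) := by rw [h2]
      _ = g.1 * g₀ * z := by group
  · have hc := (Subgroup.mem_centralizer_iff.mp c.2) x (Set.mem_singleton x)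
    rw [← hg₀]
    calc (c.1 * g₀⁻¹)⁻¹ * x * (c.1 * g₀⁻¹) = g₀ * c.1⁻¹ * (x * c.1) * g₀⁻¹ := by group
      _ = g₀ * c.1⁻¹ * (c.1 * x) * g₀⁻¹ := by rw [hc]
      _ = g₀ * x * g₀⁻¹ := by group

theorem isConj_inv_mul_mul {G : Type*} [Group G] (x g : G) : IsConj x (g⁻¹ * x * g) := by
  rw [isConj_iff]
  exact ⟨g⁻¹, by group⟩

/-- Orbit-stabilizer for conjugacy classes: `|C(x)| * |x^G| = |G|`. -/
theorem card_centralizer_mul_card_conj {G : Type*} [Group G] [Finite G] (x : G) :
    Nat.card (centralizer ({x} : Set G)) * Nat.card {y : G // IsConj x y} = Nat.card G := by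
  have h2 : Nat.card {g : G // g⁻¹ * x * g ∈ {y : G | IsConj x y}} =
      Nat.card (centralizer ({x} : Set G)) * Nat.card {y : G | IsConj x y} :=
    card_preimage_eq_mul (fun g : G => g⁻¹ * x * g) _ _ (fun y hy => card_fiber_conj x y hy)
  have h2' : Nat.card {g : G // g⁻¹ * x * g ∈ {y : G | IsConj x y}} = Nat.card G := by
    apply Nat.card_congr
    exact
      { toFun := fun g => g.1
        invFun := fun g => ⟨g, isConj_inv_mul_mul x g⟩
        left_inv := fun g => rfl
        right_inv := fun g => rfl }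
  rw [← h2', h2]
  rfl

/-- Conjugate elements have centralizers of the same order. -/
theorem card_centralizer_conj {G : Type*} [Group G] (g h : G) :
    Nat.card (centralizer ({h⁻¹ * g * h} : Set G)) = Nat.card (centralizer ({g} : Set G)) := by
  apply Nat.card_congr
  refine
    { toFun := fun x => ⟨h * x.1 * h⁻¹, ?_⟩
      invFun := fun x => ⟨h⁻¹ * x.1 * h, ?_⟩
      left_inv := fun x => by apply Subtype.ext; simp only; group
      right_inv := fun x => by apply Subtype.ext; simp only; group }
  · rw [Subgroup.mem_centralizer_iff]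
    intro z hz
    rw [Set.mem_singleton_iff] at hz
    subst hz
    have hc := (Subgroup.mem_centralizer_iff.mp x.2) (h⁻¹ * z * h) (Set.mem_singleton _)
    calc z * (h * x.1 * h⁻¹) = h * ((h⁻¹ * z * h) * x.1) * h⁻¹ := by group
      _ = h * (x.1 * (h⁻¹ * z * h)) * h⁻¹ := by rw [hc]
      _ = h * x.1 * h⁻¹ * z := by group
  · rw [Subgroup.mem_centralizer_iff]
    intro z hz
    rw [Set.mem_singleton_iff] at hz
    subst hz
    have hc := (Subgroup.mem_centralizer_iff.mp x.2) g (Set.mem_singleton _)
    calc h⁻¹ * g * h * (h⁻¹ * x.1 * h) = h⁻¹ * (g * x.1) * h := by group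
      _ = h⁻¹ * (x.1 * g) * h := by rw [hc]
      _ = h⁻¹ * x.1 * h * (h⁻¹ * g * h) := by group

/-- The centralizer of a generator of a cyclic group of prime order equals the centralizer
of any non-trivial power. -/
theorem centralizer_eq_of_mem_zpowers {G : Type*} [Group G] {p : ℕ} [hp : Fact p.Prime]
    (z w : G) (hz : orderOf z = p) (hw : w ∈ zpowers z) (hw1 : w ≠ 1) :
    centralizer ({w} : Set G) = centralizer ({z} : Set G) := by
  have hwo : orderOf w = p := by
    have h1 : orderOf w ∣ p := by
      have := orderOf_dvd_natCard (⟨w, hw⟩ : zpowers z)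
      rwa [Subgroup.orderOf_mk, Nat.card_zpowers, hz] at this
    rcases (Nat.dvd_prime hp.out).mp h1 with h | h
    · exact absurd (orderOf_eq_one_iff.mp h) hw1
    · exact h
  have hzw : zpowers w = zpowers z := by
    have : Finite (zpowers z) := Nat.finite_of_card_ne_zero (by
      rw [Nat.card_zpowers, hz]; exact hp.out.ne_zero)
    apply Subgroup.eq_of_le_of_card_ge (by rwa [zpowers_le])
    rw [Nat.card_zpowers, Nat.card_zpowers, hz, hwo]
  have hz' : z ∈ zpowers w := hzw ▸ mem_zpowers z
  apply le_antisymm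
  · intro x hx
    rw [Subgroup.mem_centralizer_iff] at hx ⊢
    intro y hy
    rw [Set.mem_singleton_iff] at hy
    subst hy
    obtain ⟨k, rfl⟩ := Subgroup.mem_zpowers_iff.mp hz'
    have hc : Commute w x := hx w (Set.mem_singleton w)
    exact (hc.zpow_left k)
  · intro x hx
    rw [Subgroup.mem_centralizer_iff] at hx ⊢
    intro y hy
    rw [Set.mem_singleton_iff] at hy
    subst hy
    obtain ⟨k, rfl⟩ := Subgroup.mem_zpowers_iff.mp hw
    have hc : Commute z x := hx z (Set.mem_singleton z)
    exact (hc.zpow_left k)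


/-! ### Fixed points on cosets -/

/-- A `p`-subgroup of the normalizer of a Sylow `p`-subgroup `P` lies in `P`. -/
theorem le_sylow_of_le_normalizer {G : Type*} [Group G] {p : ℕ} [Fact p.Prime]
    (P : Sylow p G) (H : Subgroup G) (hH : IsPGroup p H)
    (hHN : H ≤ normalizer ((P : Subgroup G) : Set G)) : H ≤ (P : Subgroup G) := by
  have h1 : IsPGroup p (H ⊔ (P : Subgroup G) : Subgroup G) := hH.to_sup_of_normal_right' P.2 hHN
  have h2 := P.3 h1 le_sup_right
  rw [← h2]
  exact le_sup_left

/-- An element of order `p` in the normalizer of a Sylow `p`-subgroup `P` lies in `P`. -/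
theorem mem_sylow_of_mem_normalizer {G : Type*} [Group G] {p : ℕ} [hp : Fact p.Prime]
    (P : Sylow p G) (w : G) (hw : orderOf w = p)
    (hwN : w ∈ normalizer ((P : Subgroup G) : Set G)) : w ∈ (P : Subgroup G) := by
  have hpg : IsPGroup p (zpowers w) := by
    apply IsPGroup.of_card (n := 1)
    rw [Nat.card_zpowers, hw, pow_one]
  exact le_sylow_of_le_normalizer P (zpowers w) hpg (by rwa [zpowers_le]) (mem_zpowers w)

/-- The preimage in `G` of the set of cosets of `H` fixed by `x`. -/
theorem card_fixedBy_mul {G : Type*} [Group G] [Finite G] (H : Subgroup G) (x : G) :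
    Nat.card {g : G // g⁻¹ * x * g ∈ H} = Nat.card H * Nat.card (MulAction.fixedBy (G ⧸ H) x) := by
  rw [← Nat.card_prod, ← Nat.card_congr (QuotientGroup.preimageMkEquivSubgroupProdSet H
    (MulAction.fixedBy (G ⧸ H) x))]
  apply Nat.card_congr
  apply Equiv.subtypeEquivRight
  intro g
  simp only [Set.mem_preimage, MulAction.mem_fixedBy]
  rw [MulAction.Quotient.smul_mk, smul_eq_mul, QuotientGroup.eq]
  constructor
  · intro h
    have : (x * g)⁻¹ * g = (g⁻¹ * x * g)⁻¹ := by group
    rw [this]
    exact H.inv_mem h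
  · intro h
    have : g⁻¹ * x * g = ((x * g)⁻¹ * g)⁻¹ := by group
    rw [this]
    exact H.inv_mem h


/-- `Sylow.smul_eq_iff_mem_normalizer` with the coercions in the form used by the statements. -/
theorem smul_eq_iff_mem_normalizer' {G : Type*} [Group G] {p : ℕ} {g : G} {P : Sylow p G} :
    g • P = P ↔ g ∈ normalizer ((P : Subgroup G) : Set G) :=
  Sylow.smul_eq_iff_mem_normalizer

end Cfsg.Agent.Lib.Helper17_Sylow
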