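import Mathlib
import Cfsg.Prelude.Def_Characters
import Cfsg.Agent.Lib.Helper80_CharBasic
import Cfsg.Agent.Lib.Helper17_H27Defs

/-!
S3701 package PERM (helper17's market): `H₀ = ⟨S0⟩ ≤ Sym(9)` is `T₀ W` of order 108.
Also a generic toolkit (`Rel`, `wk`, `elt_add`, `wk_conj_elt`, `exists_rep_of_mem_closure`) for groups
generated by `a, b, c, u, v` subject to the relations of `3³ : 2²`, used again in package LOC.
-/

set_option autoImplicit false
set_option linter.unusedVariables false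
set_option linter.unusedSectionVars false
set_option linter.unusedSimpArgs false

namespace Cfsg.Agent.Lib.Helper2_H27_PERM

open Cfsg.Agent.Lib.Helper17_H27Defs

/-- the defining relations of `3³ : 2²` -/
structure Rel {A : Type*} [Group A] (a b c u v : A) : Prop where
  a3 : a ^ 3 = 1
  b3 : b ^ 3 = 1
  c3 : c ^ 3 = 1
  ab : a * b = b * a
  ac : a * c = c * a
  bc : b * c = c * b
  u2 : u * u = 1
  v2 : v * v = 1
  uv : u * v = v * u
  ua : u * a * u⁻¹ = a⁻¹
  ub : u * b * u⁻¹ = b⁻¹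
  uc : u * c * u⁻¹ = c
  va : v * a * v⁻¹ = a⁻¹
  vb : v * b * v⁻¹ = b
  vc : v * c * v⁻¹ = c⁻¹

/-- the four-group `{1, u, v, uv}` -/
def wk {A : Type*} [Group A] (u v : A) : Fin 4 → A := ![1, u, v, u * v]

/-- the sign patterns of the four-group on `(ℤ/3)³` -/
def sg (k : Fin 4) (e : ZMod 3 × ZMod 3 × ZMod 3) : ZMod 3 × ZMod 3 × ZMod 3 :=
  (![1, -1, -1, 1] k * e.1, ![1, -1, 1, -1] k * e.2.1, ![1, 1, -1, -1] k * e.2.2)

section generic

variable {A : Type*} [Group A] {a b c u v : A}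

theorem pow_val_add {x : A} (h3 : x ^ 3 = 1) (i j : ZMod 3) :
    x ^ i.val * x ^ j.val = x ^ (i + j).val := by
  rw [← pow_add, ZMod.val_add, ← pow_eq_pow_mod _ h3]

theorem inv_pow_val {x : A} (h3 : x ^ 3 = 1) (i : ZMod 3) :
    (x ^ i.val)⁻¹ = x ^ (-i).val := by
  symm
  apply eq_inv_of_mul_eq_one_right
  rw [pow_val_add h3, add_neg_cancel, ZMod.val_zero, pow_zero]

theorem six_swap {M : Type*} [Monoid M] (X X' Y Y' Z Z' : M) (h1 : X' * Y = Y * X')
    (h2 : X' * Z = Z * X') (h3 : Y' * Z = Z * Y') :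
    X * X' * (Y * Y') * (Z * Z') = X * Y * Z * (X' * Y' * Z') := by
  calc X * X' * (Y * Y') * (Z * Z') = X * (X' * Y) * (Y' * Z) * Z' := by simp only [mul_assoc]
    _ = X * (Y * X') * (Z * Y') * Z' := by rw [h1, h3]
    _ = X * Y * (X' * Z) * Y' * Z' := by simp only [mul_assoc]
    _ = X * Y * (Z * X') * Y' * Z' := by rw [h2]
    _ = X * Y * Z * (X' * Y' * Z') := by simp only [mul_assoc]

theorem elt_zero : elt a b c 0 = 1 := by
  simp [elt]

theorem elt_add (r : Rel a b c u v) (e e' : ZMod 3 × ZMod 3 × ZMod 3) :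
    elt a b c (e + e') = elt a b c e * elt a b c e' := by
  unfold elt
  simp only [Prod.fst_add, Prod.snd_add]
  rw [← pow_val_add r.a3, ← pow_val_add r.b3, ← pow_val_add r.c3]
  have hab : Commute a b := r.ab
  have hac : Commute a c := r.ac
  have hbc : Commute b c := r.bc
  exact six_swap _ _ _ _ _ _ (hab.pow_pow _ _).eq (hac.pow_pow _ _).eq (hbc.pow_pow _ _).eq

theorem elt_neg (r : Rel a b c u v) (e : ZMod 3 × ZMod 3 × ZMod 3) :
    (elt a b c e)⁻¹ = elt a b c (-e) := by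
  symm
  apply eq_inv_of_mul_eq_one_right
  rw [← elt_add r, add_neg_cancel, elt_zero]

theorem elt_pow_three (r : Rel a b c u v) (e : ZMod 3 × ZMod 3 × ZMod 3) :
    elt a b c e ^ 3 = 1 := by
  have h3 : e + e + e = 0 := by
    have : ∀ x : ZMod 3, x + x + x = 0 := by decide
    ext <;> simp [this]
  rw [pow_succ, pow_two, ← elt_add r, ← elt_add r, h3, elt_zero]

theorem elt_comm (r : Rel a b c u v) (e e' : ZMod 3 × ZMod 3 × ZMod 3) :
    elt a b c e * elt a b c e' = elt a b c e' * elt a b c e := by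
  rw [← elt_add r, ← elt_add r, add_comm]

theorem elt_a : elt a b c (1, 0, 0) = a := by
  simp [elt, ZMod.val_one]

theorem elt_b : elt a b c (0, 1, 0) = b := by
  simp [elt, ZMod.val_one]

theorem elt_c : elt a b c (0, 0, 1) = c := by
  simp [elt, ZMod.val_one]

/-- conjugation of a power by an element acting as `±1` -/
theorem conj_pow_val {g x : A} (h3 : x ^ 3 = 1) (s : ZMod 3)
    (h : (s = 1 ∧ g * x * g⁻¹ = x) ∨ (s = -1 ∧ g * x * g⁻¹ = x⁻¹)) (i : ZMod 3) :
    g * x ^ i.val * g⁻¹ = x ^ (s * i).val := by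
  rw [← conj_pow]
  rcases h with ⟨rfl, h⟩ | ⟨rfl, h⟩
  · rw [h, one_mul]
  · rw [h, inv_pow, inv_pow_val h3, neg_one_mul]

/-- the conjugation action of `wk k` on `a, b, c` -/
theorem wk_conj (r : Rel a b c u v) (k : Fin 4) :
    ((![1, -1, -1, 1] k = (1 : ZMod 3) ∧ wk u v k * a * (wk u v k)⁻¹ = a) ∨
      (![1, -1, -1, 1] k = (-1 : ZMod 3) ∧ wk u v k * a * (wk u v k)⁻¹ = a⁻¹)) ∧
    ((![1, -1, 1, -1] k = (1 : ZMod 3) ∧ wk u v k * b * (wk u v k)⁻¹ = b) ∨
      (![1, -1, 1, -1] k = (-1 : ZMod 3) ∧ wk u v k * b * (wk u v k)⁻¹ = b⁻¹)) ∧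
    ((![1, 1, -1, -1] k = (1 : ZMod 3) ∧ wk u v k * c * (wk u v k)⁻¹ = c) ∨
      (![1, 1, -1, -1] k = (-1 : ZMod 3) ∧ wk u v k * c * (wk u v k)⁻¹ = c⁻¹)) := by
  have huva : u * v * a * (u * v)⁻¹ = a := by
    calc u * v * a * (u * v)⁻¹ = u * (v * a * v⁻¹) * u⁻¹ := by group
      _ = a := by rw [r.va, ← conj_inv, r.ua, inv_inv]
  have huvb : u * v * b * (u * v)⁻¹ = b⁻¹ := by
    calc u * v * b * (u * v)⁻¹ = u * (v * b * v⁻¹) * u⁻¹ := by group
      _ = b⁻¹ := by rw [r.vb, r.ub]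
  have huvc : u * v * c * (u * v)⁻¹ = c⁻¹ := by
    calc u * v * c * (u * v)⁻¹ = u * (v * c * v⁻¹) * u⁻¹ := by group
      _ = c⁻¹ := by rw [r.vc, ← conj_inv, r.uc]
  fin_cases k
  · refine ⟨Or.inl ⟨rfl, ?_⟩, Or.inl ⟨rfl, ?_⟩, Or.inl ⟨rfl, ?_⟩⟩ <;> simp [wk]
  · exact ⟨Or.inr ⟨rfl, r.ua⟩, Or.inr ⟨rfl, r.ub⟩, Or.inl ⟨rfl, r.uc⟩⟩
  · exact ⟨Or.inr ⟨rfl, r.va⟩, Or.inl ⟨rfl, r.vb⟩, Or.inr ⟨rfl, r.vc⟩⟩
  · exact ⟨Or.inl ⟨rfl, huva⟩, Or.inr ⟨rfl, huvb⟩, Or.inr ⟨rfl, huvc⟩⟩

theorem wk_conj_elt (r : Rel a b c u v) (k : Fin 4) (e : ZMod 3 × ZMod 3 × ZMod 3) :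
    wk u v k * elt a b c e * (wk u v k)⁻¹ = elt a b c (sg k e) := by
  obtain ⟨ha, hb, hc⟩ := wk_conj r k
  unfold elt sg
  rw [← conj_mul, ← conj_mul, conj_pow_val r.a3 _ ha, conj_pow_val r.b3 _ hb,
    conj_pow_val r.c3 _ hc]

theorem rep_mul_elt (r : Rel a b c u v) (e e' : ZMod 3 × ZMod 3 × ZMod 3) (k : Fin 4) :
    elt a b c e * wk u v k * elt a b c e' = elt a b c (e + sg k e') * wk u v k := by
  rw [elt_add r, ← wk_conj_elt r k e']
  group

theorem u_inv (r : Rel a b c u v) : u⁻¹ = u := inv_eq_of_mul_eq_one_left r.u2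

theorem v_inv (r : Rel a b c u v) : v⁻¹ = v := inv_eq_of_mul_eq_one_left r.v2

theorem wk_mul_u (r : Rel a b c u v) (k : Fin 4) :
    wk u v k * u = wk u v (![1, 0, 3, 2] k) := by
  fin_cases k
  · simp [wk]
  · simp [wk, r.u2]
  · simp only [wk]
    show v * u = u * v
    exact r.uv.symm
  · simp only [wk]
    show u * v * u = v
    rw [mul_assoc, ← r.uv, ← mul_assoc, r.u2, one_mul]

theorem wk_mul_v (r : Rel a b c u v) (k : Fin 4) :
    wk u v k * v = wk u v (![2, 3, 0, 1] k) := by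
  fin_cases k
  · simp [wk]
  · simp [wk]
  · simp [wk, r.v2]
  · simp only [wk]
    show u * v * v = u
    rw [mul_assoc, r.v2, mul_one]

theorem wk_inv (r : Rel a b c u v) (k : Fin 4) : (wk u v k)⁻¹ = wk u v k := by
  apply inv_eq_of_mul_eq_one_left
  fin_cases k
  · simp [wk]
  · simp [wk, r.u2]
  · simp [wk, r.v2]
  · simp only [wk]
    show u * v * (u * v) = 1
    calc u * v * (u * v) = u * (v * u) * v := by group
      _ = u * (u * v) * v := by rw [r.uv]
      _ = (u * u) * (v * v) := by group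
      _ = 1 := by rw [r.u2, r.v2, one_mul]

/-- every element of `⟨a, b, c, u, v⟩` is of the form `elt e * wk k` -/
theorem exists_rep_of_mem_closure (r : Rel a b c u v) {h : A}
    (hh : h ∈ Subgroup.closure ({a, b, c, u, v} : Set A)) :
    ∃ (e : ZMod 3 × ZMod 3 × ZMod 3) (k : Fin 4), h = elt a b c e * wk u v k := by
  have key : ∀ (x : A), (∃ (e : ZMod 3 × ZMod 3 × ZMod 3) (k : Fin 4), x = elt a b c e * wk u v k) →
      ∀ y ∈ ({a, b, c, u, v} : Set A),
      (∃ (e : ZMod 3 × ZMod 3 × ZMod 3) (k : Fin 4), x * y = elt a b c e * wk u v k) ∧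
      (∃ (e : ZMod 3 × ZMod 3 × ZMod 3) (k : Fin 4), x * y⁻¹ = elt a b c e * wk u v k) := by
    rintro x ⟨e, k, rfl⟩ y hy
    have helt : ∀ e' : ZMod 3 × ZMod 3 × ZMod 3,
        (∃ (e₁ : ZMod 3 × ZMod 3 × ZMod 3) (k₁ : Fin 4),
          elt a b c e * wk u v k * elt a b c e' = elt a b c e₁ * wk u v k₁) ∧
        (∃ (e₁ : ZMod 3 × ZMod 3 × ZMod 3) (k₁ : Fin 4),
          elt a b c e * wk u v k * (elt a b c e')⁻¹ = elt a b c e₁ * wk u v k₁) := by
      intro e'
      refine ⟨⟨_, _, rep_mul_elt r e e' k⟩, ?_⟩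
      rw [elt_neg r]
      exact ⟨_, _, rep_mul_elt r e (-e') k⟩
    simp only [Set.mem_insert_iff, Set.mem_singleton_iff] at hy
    rcases hy with hy | hy | hy | hy | hy
    · rw [hy]
      have := helt (1, 0, 0)
      rwa [elt_a] at this
    · rw [hy]
      have := helt (0, 1, 0)
      rwa [elt_b] at this
    · rw [hy]
      have := helt (0, 0, 1)
      rwa [elt_c] at this
    · rw [hy, u_inv r]
      have : elt a b c e * wk u v k * u = elt a b c e * wk u v (![1, 0, 3, 2] k) := by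
        rw [mul_assoc, wk_mul_u r]
      exact ⟨⟨_, _, this⟩, ⟨_, _, this⟩⟩
    · rw [hy, v_inv r]
      have : elt a b c e * wk u v k * v = elt a b c e * wk u v (![2, 3, 0, 1] k) := by
        rw [mul_assoc, wk_mul_v r]
      exact ⟨⟨_, _, this⟩, ⟨_, _, this⟩⟩
  induction hh using Subgroup.closure_induction_right with
  | one => exact ⟨0, 0, by simp [elt_zero, wk]⟩
  | mul_right x hx y hy ih => exact (key x ih y hy).1
  | mul_inv_cancel x hx y hy ih => exact (key x ih y hy).2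

theorem elt_mem_closure (e : ZMod 3 × ZMod 3 × ZMod 3) :
    elt a b c e ∈ Subgroup.closure ({a, b, c, u, v} : Set A) := by
  unfold elt
  refine Subgroup.mul_mem _ (Subgroup.mul_mem _ (Subgroup.pow_mem _ ?_ _) (Subgroup.pow_mem _ ?_ _))
    (Subgroup.pow_mem _ ?_ _)
  · exact Subgroup.subset_closure (by simp)
  · exact Subgroup.subset_closure (by simp)
  · exact Subgroup.subset_closure (by simp)

theorem wk_mem_closure (k : Fin 4) :
    wk u v k ∈ Subgroup.closure ({a, b, c, u, v} : Set A) := by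
  have hu : u ∈ Subgroup.closure ({a, b, c, u, v} : Set A) := Subgroup.subset_closure (by simp)
  have hv : v ∈ Subgroup.closure ({a, b, c, u, v} : Set A) := Subgroup.subset_closure (by simp)
  fin_cases k
  · exact Subgroup.one_mem _
  · exact hu
  · exact hv
  · exact Subgroup.mul_mem _ hu hv

theorem map_elt {B : Type*} [Group B] (f : A →* B) (e : ZMod 3 × ZMod 3 × ZMod 3) :
    f (elt a b c e) = elt (f a) (f b) (f c) e := by
  simp [elt, map_mul, map_pow]

theorem map_wk {B : Type*} [Group B] (f : A →* B) (k : Fin 4) :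
    f (wk u v k) = wk (f u) (f v) k := by
  fin_cases k <;> simp [wk]

theorem Rel.map {B : Type*} [Group B] (f : A →* B) (r : Rel a b c u v) :
    Rel (f a) (f b) (f c) (f u) (f v) where
  a3 := by rw [← map_pow, r.a3, map_one]
  b3 := by rw [← map_pow, r.b3, map_one]
  c3 := by rw [← map_pow, r.c3, map_one]
  ab := by rw [← map_mul, r.ab, map_mul]
  ac := by rw [← map_mul, r.ac, map_mul]
  bc := by rw [← map_mul, r.bc, map_mul]
  u2 := by rw [← map_mul, r.u2, map_one]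
  v2 := by rw [← map_mul, r.v2, map_one]
  uv := by rw [← map_mul, r.uv, map_mul]
  ua := by rw [← map_inv, ← map_mul, ← map_mul, r.ua, map_inv]
  ub := by rw [← map_inv, ← map_mul, ← map_mul, r.ub, map_inv]
  uc := by rw [← map_inv, ← map_mul, ← map_mul, r.uc]
  va := by rw [← map_inv, ← map_mul, ← map_mul, r.va, map_inv]
  vb := by rw [← map_inv, ← map_mul, ← map_mul, r.vb]
  vc := by rw [← map_inv, ← map_mul, ← map_mul, r.vc, map_inv]

theorem Rel.of_map {B : Type*} [Group B] (f : A →* B) (hf : Function.Injective f)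
    (r : Rel (f a) (f b) (f c) (f u) (f v)) : Rel a b c u v where
  a3 := hf (by rw [map_pow, r.a3, map_one])
  b3 := hf (by rw [map_pow, r.b3, map_one])
  c3 := hf (by rw [map_pow, r.c3, map_one])
  ab := hf (by rw [map_mul, r.ab, map_mul])
  ac := hf (by rw [map_mul, r.ac, map_mul])
  bc := hf (by rw [map_mul, r.bc, map_mul])
  u2 := hf (by rw [map_mul, r.u2, map_one])
  v2 := hf (by rw [map_mul, r.v2, map_one])
  uv := hf (by rw [map_mul, r.uv, map_mul])
  ua := hf (by rw [map_mul, map_mul, map_inv, r.ua, map_inv])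
  ub := hf (by rw [map_mul, map_mul, map_inv, r.ub, map_inv])
  uc := hf (by rw [map_mul, map_mul, map_inv, r.uc])
  va := hf (by rw [map_mul, map_mul, map_inv, r.va, map_inv])
  vb := hf (by rw [map_mul, map_mul, map_inv, r.vb])
  vc := hf (by rw [map_mul, map_mul, map_inv, r.vc, map_inv])

end generic

/-! ### The permutation group `H₀ ≤ Sym(9)` -/

theorem rel_gen : Rel gen1 gen2 gen3 gen4 gen5 where
  a3 := by decide
  b3 := by decide
  c3 := by decide
  ab := by decide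
  ac := by decide
  bc := by decide
  u2 := by decide
  v2 := by decide
  uv := by decide
  ua := by decide
  ub := by decide
  uc := by decide
  va := by decide
  vb := by decide
  vc := by decide

/-- decoder: recovers `(e, k)` from `elt gen1 gen2 gen3 e * wk gen4 gen5 k` -/
def dec (h : Equiv.Perm (Fin 9)) : (ZMod 3 × ZMod 3 × ZMod 3) × Fin 4 :=
  let e : ZMod 3 × ZMod 3 × ZMod 3 :=
    (if h 2 = 2 then 0 else if h 2 = 0 then 1 else 2,
     if h 5 = 5 then 0 else if h 5 = 3 then 1 else 2,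
     if h 8 = 8 then 0 else if h 8 = 6 then 1 else 2)
  let w := (elt gen1 gen2 gen3 e)⁻¹ * h
  (e, if w = 1 then 0 else if w = gen4 then 1 else if w = gen5 then 2 else 3)

set_option maxRecDepth 100000 in
theorem dec_rep : ∀ (e : ZMod 3 × ZMod 3 × ZMod 3) (k : Fin 4),
    dec (elt gen1 gen2 gen3 e * wk gen4 gen5 k) = (e, k) := by
  decide

theorem rep_injective : Function.Injective
    (fun p : (ZMod 3 × ZMod 3 × ZMod 3) × Fin 4 => elt gen1 gen2 gen3 p.1 * wk gen4 gen5 p.2) := by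
  intro p q h
  have h2 := congrArg dec h
  simp only [dec_rep] at h2
  exact h2

theorem elt_gen_injective : Function.Injective (elt gen1 gen2 gen3) := by
  intro e e' h
  have h2 := rep_injective (a₁ := (e, 0)) (a₂ := (e', 0)) (by simp only [h])
  exact (Prod.ext_iff.mp h2).1

theorem closure_S0_eq :
    Subgroup.closure S0 = Subgroup.closure ({gen1, gen2, gen3, gen4, gen5} : Set (Equiv.Perm (Fin 9))) :=
  rfl

theorem mem_closure_S0 (h : Equiv.Perm (Fin 9)) (hh : h ∈ Subgroup.closure S0) :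
    ∃ (e : ZMod 3 × ZMod 3 × ZMod 3) (k : Fin 4), h = elt gen1 gen2 gen3 e * wk gen4 gen5 k :=
  exists_rep_of_mem_closure rel_gen hh

theorem rep_mem_closure_S0 (e : ZMod 3 × ZMod 3 × ZMod 3) (k : Fin 4) :
    elt gen1 gen2 gen3 e * wk gen4 gen5 k ∈ Subgroup.closure S0 :=
  Subgroup.mul_mem _ (elt_mem_closure (u := gen4) (v := gen5) e)
    (wk_mem_closure (a := gen1) (b := gen2) (c := gen3) k)

theorem card_closure_S0 : Nat.card (Subgroup.closure S0) = 108 := by
  have h1 : Nat.card (Subgroup.closure S0) =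
      Nat.card ((ZMod 3 × ZMod 3 × ZMod 3) × Fin 4) := by
    symm
    apply Nat.card_congr
    refine Equiv.ofBijective
      (fun p => ⟨elt gen1 gen2 gen3 p.1 * wk gen4 gen5 p.2, rep_mem_closure_S0 p.1 p.2⟩) ⟨?_, ?_⟩
    · intro p q h
      exact rep_injective (Subtype.ext_iff.mp h)
    · rintro ⟨h, hh⟩
      obtain ⟨e, k, rfl⟩ := mem_closure_S0 h hh
      exact ⟨(e, k), rfl⟩
  rw [h1]
  simp [Nat.card_eq_fintype_card, ZMod.card]

/-- **PERM**. -/
theorem perm_facts :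
    Nat.card (Subgroup.closure S0) = 108 ∧
    (∀ h ∈ Subgroup.closure S0, ∃ (e : ZMod 3 × ZMod 3 × ZMod 3) (k : Fin 4),
      h = elt gen1 gen2 gen3 e * ![1, gen4, gen5, gen4 * gen5] k) :=
  ⟨card_closure_S0, mem_closure_S0⟩

end Cfsg.Agent.Lib.Helper2_H27_PERM
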