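import Mathlib
import Cfsg.Agent.Lib.Helper76_H648Defs
import Cfsg.Agent.Lib.Helper2_H27_PERM

/-!
S3702 package PERM (helper76's market `h648_packages`): `K₀ = ⟨S0⟩ ≤ Sym(9)` is `J₀ W₀` of order `648`,
with the `648` elements `elt pA pB pC e * Wfun pS pU pV i` pairwise distinct.
-/

set_option autoImplicit false
set_option linter.unusedVariables false

namespace Cfsg.Agent.Lib.Helper52_H648_PERM

open Cfsg.Agent.Lib.Helper76_H648Defs
open Cfsg.Agent.Lib.Helper17_H27Defs (elt)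

theorem pA3 : pA ^ 3 = 1 := by decide +kernel
theorem pB3 : pB ^ 3 = 1 := by decide +kernel
theorem pC3 : pC ^ 3 = 1 := by decide +kernel
theorem pAB : pA * pB = pB * pA := by decide +kernel
theorem pAC : pA * pC = pC * pA := by decide +kernel
theorem pBC : pB * pC = pC * pB := by decide +kernel

theorem J_mul (e e' : ZMod 3 × ZMod 3 × ZMod 3) :
    elt pA pB pC e * elt pA pB pC e' = elt pA pB pC (e + e') := by
  unfold elt
  simp only [Prod.fst_add, Prod.snd_add]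
  rw [← Cfsg.Agent.Lib.Helper2_H27_PERM.pow_val_add pA3,
    ← Cfsg.Agent.Lib.Helper2_H27_PERM.pow_val_add pB3,
    ← Cfsg.Agent.Lib.Helper2_H27_PERM.pow_val_add pC3]
  have hab : Commute pA pB := pAB
  have hac : Commute pA pC := pAC
  have hbc : Commute pB pC := pBC
  exact (Cfsg.Agent.Lib.Helper2_H27_PERM.six_swap _ _ _ _ _ _ (hab.pow_pow _ _).eq
    (hac.pow_pow _ _).eq (hbc.pow_pow _ _).eq).symm

theorem J_zero : elt pA pB pC 0 = 1 := Cfsg.Agent.Lib.Helper2_H27_PERM.elt_zero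

set_option maxRecDepth 100000 in
theorem W_mul_S : ∀ i : Fin 24, ∃ i' : Fin 24, Wfun pS pU pV i * pS = Wfun pS pU pV i' := by
  decide +kernel

set_option maxRecDepth 100000 in
theorem W_mul_U : ∀ i : Fin 24, ∃ i' : Fin 24, Wfun pS pU pV i * pU = Wfun pS pU pV i' := by
  decide +kernel

set_option maxRecDepth 100000 in
theorem W_mul_V : ∀ i : Fin 24, ∃ i' : Fin 24, Wfun pS pU pV i * pV = Wfun pS pU pV i' := by
  decide +kernel

set_option maxRecDepth 100000 in
theorem W_mul_Sinv : ∀ i : Fin 24, ∃ i' : Fin 24, Wfun pS pU pV i * pS⁻¹ = Wfun pS pU pV i' := by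
  decide +kernel

theorem pU_inv : pU⁻¹ = pU := by decide +kernel
theorem pV_inv : pV⁻¹ = pV := by decide +kernel

set_option maxRecDepth 100000 in
theorem W_mul_A : ∀ i : Fin 24, ∃ e' : ZMod 3 × ZMod 3 × ZMod 3,
    Wfun pS pU pV i * pA = elt pA pB pC e' * Wfun pS pU pV i := by
  decide +kernel

set_option maxRecDepth 100000 in
theorem W_mul_Ainv : ∀ i : Fin 24, ∃ e' : ZMod 3 × ZMod 3 × ZMod 3,
    Wfun pS pU pV i * pA⁻¹ = elt pA pB pC e' * Wfun pS pU pV i := by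
  decide +kernel

set_option maxRecDepth 100000 in
theorem JW_eq_W : ∀ (d : ZMod 3 × ZMod 3 × ZMod 3) (i i' : Fin 24),
    elt pA pB pC d * Wfun pS pU pV i = Wfun pS pU pV i' → d = 0 ∧ i = i' := by
  decide +kernel

theorem mem_pA : pA ∈ Subgroup.closure S0 := g1_mem
theorem mem_pS : pS ∈ Subgroup.closure S0 := g2_mem
theorem mem_pU : pU ∈ Subgroup.closure S0 := g3_mem
theorem mem_pV : pV ∈ Subgroup.closure S0 := g4_mem
theorem mem_pB : pB ∈ Subgroup.closure S0 :=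
  Subgroup.mul_mem _ (Subgroup.mul_mem _ mem_pS mem_pA) (Subgroup.inv_mem _ mem_pS)
theorem mem_pC : pC ∈ Subgroup.closure S0 :=
  Subgroup.mul_mem _ (Subgroup.mul_mem _ mem_pS mem_pB) (Subgroup.inv_mem _ mem_pS)

theorem J_mem (e : ZMod 3 × ZMod 3 × ZMod 3) : elt pA pB pC e ∈ Subgroup.closure S0 := by
  unfold elt
  exact Subgroup.mul_mem _ (Subgroup.mul_mem _ (Subgroup.pow_mem _ mem_pA _)
    (Subgroup.pow_mem _ mem_pB _)) (Subgroup.pow_mem _ mem_pC _)

theorem Wfun_mem {G : Type*} [Group G] (K : Subgroup G) {σ u v : G} (hσ : σ ∈ K) (hu : u ∈ K)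
    (hv : v ∈ K) (i : Fin 24) : Wfun σ u v i ∈ K := by
  fin_cases i <;> simp [Wfun] <;>
    repeat' (first | exact hσ | exact hu | exact hv | exact K.one_mem | apply K.mul_mem)

theorem rep_mem (e : ZMod 3 × ZMod 3 × ZMod 3) (i : Fin 24) :
    elt pA pB pC e * Wfun pS pU pV i ∈ Subgroup.closure S0 :=
  Subgroup.mul_mem _ (J_mem e) (Wfun_mem _ mem_pS mem_pU mem_pV i)

theorem rep_exists : ∀ k ∈ Subgroup.closure S0, ∃ (e : ZMod 3 × ZMod 3 × ZMod 3) (i : Fin 24),
    k = elt pA pB pC e * Wfun pS pU pV i := by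
  intro k hk
  induction hk using Subgroup.closure_induction_right with
  | one => exact ⟨0, 0, by rw [J_zero]; simp [Wfun]⟩
  | mul_right x hx y hy ih =>
    obtain ⟨e, i, rfl⟩ := ih
    simp only [S0, Set.mem_insert_iff, Set.mem_singleton_iff] at hy
    rcases hy with rfl | rfl | rfl | rfl
    · obtain ⟨e', he'⟩ := W_mul_A i
      refine ⟨e + e', i, ?_⟩
      rw [mul_assoc]
      show _ * (Wfun pS pU pV i * pA) = _
      rw [he', ← mul_assoc, J_mul]
    · obtain ⟨i', hi'⟩ := W_mul_S i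
      refine ⟨e, i', ?_⟩
      rw [mul_assoc]
      show _ * (Wfun pS pU pV i * pS) = _
      rw [hi']
    · obtain ⟨i', hi'⟩ := W_mul_U i
      refine ⟨e, i', ?_⟩
      rw [mul_assoc]
      show _ * (Wfun pS pU pV i * pU) = _
      rw [hi']
    · obtain ⟨i', hi'⟩ := W_mul_V i
      refine ⟨e, i', ?_⟩
      rw [mul_assoc]
      show _ * (Wfun pS pU pV i * pV) = _
      rw [hi']
  | mul_inv_cancel x hx y hy ih =>
    obtain ⟨e, i, rfl⟩ := ih
    simp only [S0, Set.mem_insert_iff, Set.mem_singleton_iff] at hy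
    rcases hy with rfl | rfl | rfl | rfl
    · obtain ⟨e', he'⟩ := W_mul_Ainv i
      refine ⟨e + e', i, ?_⟩
      rw [mul_assoc]
      show _ * (Wfun pS pU pV i * pA⁻¹) = _
      rw [he', ← mul_assoc, J_mul]
    · obtain ⟨i', hi'⟩ := W_mul_Sinv i
      refine ⟨e, i', ?_⟩
      rw [mul_assoc]
      show _ * (Wfun pS pU pV i * pS⁻¹) = _
      rw [hi']
    · obtain ⟨i', hi'⟩ := W_mul_U i
      refine ⟨e, i', ?_⟩
      rw [mul_assoc]
      show _ * (Wfun pS pU pV i * pU⁻¹) = _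
      rw [pU_inv, hi']
    · obtain ⟨i', hi'⟩ := W_mul_V i
      refine ⟨e, i', ?_⟩
      rw [mul_assoc]
      show _ * (Wfun pS pU pV i * pV⁻¹) = _
      rw [pV_inv, hi']

theorem rep_inj : Function.Injective (fun p : (ZMod 3 × ZMod 3 × ZMod 3) × Fin 24 =>
    elt pA pB pC p.1 * Wfun pS pU pV p.2) := by
  rintro ⟨e, i⟩ ⟨e', i'⟩ h
  simp only at h
  have h1 : elt pA pB pC (-e' + e) * Wfun pS pU pV i = Wfun pS pU pV i' := by
    rw [← J_mul, mul_assoc, h, ← mul_assoc, J_mul, neg_add_cancel, J_zero, one_mul]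
  obtain ⟨hd, hi⟩ := JW_eq_W _ _ _ h1
  have he : e' = e := neg_add_eq_zero.mp hd
  rw [he, hi]

theorem card_K0 : Nat.card (Subgroup.closure S0) = 648 := by
  have h1 : Nat.card (Subgroup.closure S0) =
      Nat.card ((ZMod 3 × ZMod 3 × ZMod 3) × Fin 24) := by
    symm
    apply Nat.card_congr
    refine Equiv.ofBijective
      (fun p => ⟨elt pA pB pC p.1 * Wfun pS pU pV p.2, rep_mem p.1 p.2⟩) ⟨?_, ?_⟩
    · intro p q h
      exact rep_inj (Subtype.ext_iff.mp h)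
    · rintro ⟨h, hh⟩
      obtain ⟨e, i, rfl⟩ := rep_exists h hh
      exact ⟨(e, i), rfl⟩
  rw [h1]
  simp [Nat.card_eq_fintype_card, ZMod.card]

/-- **PERM**. -/
theorem perm_param :
    (∀ k ∈ Subgroup.closure S0, ∃ (e : ZMod 3 × ZMod 3 × ZMod 3) (i : Fin 24),
      k = elt pA pB pC e * Wfun pS pU pV i) ∧
    (∀ (e : ZMod 3 × ZMod 3 × ZMod 3) (i : Fin 24),
      elt pA pB pC e * Wfun pS pU pV i ∈ Subgroup.closure S0) ∧
    Function.Injective (fun p : (ZMod 3 × ZMod 3 × ZMod 3) × Fin 24 =>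
      elt pA pB pC p.1 * Wfun pS pU pV p.2) ∧
    Nat.card (Subgroup.closure S0) = 648 :=
  ⟨rep_exists, rep_mem, rep_inj, card_K0⟩

end Cfsg.Agent.Lib.Helper52_H648_PERM
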