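import Mathlib
import Cfsg.Agent.Lib.Helper17_H27Defs
import Cfsg.Agent.Lib.Helper76_H648Defs
import Cfsg.Agent.Lib.Helper2_H27_PERM

/-!
# S3702 market (architect helper76), package STRUCT (aux form)

`struct_of` = the statement of STRUCT with the statement of PERM (`perm_param`) as hypothesis `hP`.
-/

set_option autoImplicit false
set_option linter.unusedSectionVars false

namespace Cfsg.Agent.Lib.Helper86_H648_STRUCTaux

open Cfsg Cfsg.Agent.Lib.Helper76_H648Defs
open Cfsg.Agent.Lib.Helper17_H27Defs (elt)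

section generic

variable {A : Type*} [Group A] {a b c : A}

theorem elt_zero' : elt a b c 0 = 1 := by
  simp [elt]

theorem elt_add' (a3 : a ^ 3 = 1) (b3 : b ^ 3 = 1) (c3 : c ^ 3 = 1) (ab : a * b = b * a)
    (ac : a * c = c * a) (bc : b * c = c * b) (e e' : ZMod 3 × ZMod 3 × ZMod 3) :
    elt a b c (e + e') = elt a b c e * elt a b c e' := by
  unfold elt
  simp only [Prod.fst_add, Prod.snd_add]
  rw [← Cfsg.Agent.Lib.Helper2_H27_PERM.pow_val_add a3,
    ← Cfsg.Agent.Lib.Helper2_H27_PERM.pow_val_add b3,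
    ← Cfsg.Agent.Lib.Helper2_H27_PERM.pow_val_add c3]
  have hab : Commute a b := ab
  have hac : Commute a c := ac
  have hbc : Commute b c := bc
  exact Cfsg.Agent.Lib.Helper2_H27_PERM.six_swap _ _ _ _ _ _ (hab.pow_pow _ _).eq
    (hac.pow_pow _ _).eq (hbc.pow_pow _ _).eq

theorem map_elt' {B : Type*} [Group B] (f : A →* B) (e : ZMod 3 × ZMod 3 × ZMod 3) :
    f (elt a b c e) = elt (f a) (f b) (f c) e := by
  simp [elt, map_mul, map_pow]

theorem map_Wfun {B : Type*} [Group B] (f : A →* B) (σ u v : A) (i : Fin 24) :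
    f (Wfun σ u v i) = Wfun (f σ) (f u) (f v) i := by
  fin_cases i <;> simp [Wfun]

end generic

/-! ### the relations in `Sym(9)` -/

set_option maxRecDepth 100000 in
theorem pA3 : pA ^ 3 = 1 := by decide
set_option maxRecDepth 100000 in
theorem pB3 : pB ^ 3 = 1 := by decide
set_option maxRecDepth 100000 in
theorem pC3 : pC ^ 3 = 1 := by decide
set_option maxRecDepth 100000 in
theorem pAB : pA * pB = pB * pA := by decide
set_option maxRecDepth 100000 in
theorem pAC : pA * pC = pC * pA := by decide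
set_option maxRecDepth 100000 in
theorem pBC : pB * pC = pC * pB := by decide

theorem Wfun_zero {M : Type*} [Monoid M] (σ u v : M) : Wfun σ u v 0 = 1 := rfl

section grp
variable {G : Type*} [Group G] [Finite G]

variable {H J : Subgroup G} {a b c σ u v s : G}

/-- STRUCT with PERM as a hypothesis -/
theorem struct_of
    (hP : (∀ k ∈ Subgroup.closure S0, ∃ (e : ZMod 3 × ZMod 3 × ZMod 3) (i : Fin 24),
        k = elt pA pB pC e * Wfun pS pU pV i) ∧
      (∀ (e : ZMod 3 × ZMod 3 × ZMod 3) (i : Fin 24),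
        elt pA pB pC e * Wfun pS pU pV i ∈ Subgroup.closure S0) ∧
      Function.Injective (fun p : (ZMod 3 × ZMod 3 × ZMod 3) × Fin 24 =>
        elt pA pB pC p.1 * Wfun pS pU pV p.2) ∧
      Nat.card (Subgroup.closure S0) = 648)
    (h : Hyp G H J a b c σ u v s) :
    Nat.card H = 648 ∧ Nat.card J = 27 ∧ J ≤ H ∧
    (∀ x ∈ J, ∀ y ∈ J, x * y = y * x) ∧ (∀ x ∈ J, x ^ 3 = 1) ∧
    (∀ k ∈ H, ∀ x ∈ J, k * x * k⁻¹ ∈ J) ∧
    Function.Injective (elt a b c) ∧
    (∀ k : G, k ∈ H ↔ ∃ (e : ZMod 3 × ZMod 3 × ZMod 3) (i : Fin 24), k = elt a b c e * Wfun σ u v i) := by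
  obtain ⟨ψ, hinj, hrange, ha, hσ, hu, hv⟩ := h.iso
  obtain ⟨hP1, hP2, hP3, hP4⟩ := hP
  -- the generators inside `K₀`
  set kA : ↥(Subgroup.closure S0) := ⟨g1, g1_mem⟩ with hkA
  set kS : ↥(Subgroup.closure S0) := ⟨g2, g2_mem⟩ with hkS
  set kU : ↥(Subgroup.closure S0) := ⟨g3, g3_mem⟩ with hkU
  set kV : ↥(Subgroup.closure S0) := ⟨g4, g4_mem⟩ with hkV
  set kB : ↥(Subgroup.closure S0) := kS * kA * kS⁻¹ with hkB
  set kC : ↥(Subgroup.closure S0) := kS * kB * kS⁻¹ with hkC
  have vA : (kA : Equiv.Perm (Fin 9)) = pA := rfl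
  have vS : (kS : Equiv.Perm (Fin 9)) = pS := rfl
  have vU : (kU : Equiv.Perm (Fin 9)) = pU := rfl
  have vV : (kV : Equiv.Perm (Fin 9)) = pV := rfl
  have vB : (kB : Equiv.Perm (Fin 9)) = pB := rfl
  have vC : (kC : Equiv.Perm (Fin 9)) = pC := rfl
  have ψB : ψ kB = b := by rw [hkB, map_mul, map_mul, map_inv, hσ, ha, h.hb]
  have ψC : ψ kC = c := by rw [hkC, map_mul, map_mul, map_inv, hσ, ψB, h.hc]
  -- relations in `K₀`, then in `G`
  have kA3 : kA ^ 3 = 1 := Subtype.ext (by simpa [vA] using pA3)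
  have kB3 : kB ^ 3 = 1 := Subtype.ext (by simpa [vB] using pB3)
  have kC3 : kC ^ 3 = 1 := Subtype.ext (by simpa [vC] using pC3)
  have kAB : kA * kB = kB * kA := Subtype.ext (by simpa [vA, vB] using pAB)
  have kAC : kA * kC = kC * kA := Subtype.ext (by simpa [vA, vC] using pAC)
  have kBC : kB * kC = kC * kB := Subtype.ext (by simpa [vB, vC] using pBC)
  have a3 : a ^ 3 = 1 := by rw [← ha, ← map_pow, kA3, map_one]
  have b3 : b ^ 3 = 1 := by rw [← ψB, ← map_pow, kB3, map_one]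
  have c3 : c ^ 3 = 1 := by rw [← ψC, ← map_pow, kC3, map_one]
  have ab : a * b = b * a := by rw [← ha, ← ψB, ← map_mul, kAB, map_mul]
  have ac : a * c = c * a := by rw [← ha, ← ψC, ← map_mul, kAC, map_mul]
  have bc : b * c = c * b := by rw [← ψB, ← ψC, ← map_mul, kBC, map_mul]
  -- `ψ` on the normal form
  have ψelt : ∀ e, ψ (elt kA kB kC e) = elt a b c e := by
    intro e
    rw [map_elt', ha, ψB, ψC]
  have velt : ∀ e, ((elt kA kB kC e : ↥(Subgroup.closure S0)) : Equiv.Perm (Fin 9)) =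
      elt pA pB pC e := by
    intro e
    have := map_elt' (a := kA) (b := kB) (c := kC) (Subgroup.closure S0).subtype e
    simp only [Subgroup.coe_subtype] at this
    exact this
  have ψW : ∀ i, ψ (Wfun kS kU kV i) = Wfun σ u v i := by
    intro i
    rw [map_Wfun, hσ, hu, hv]
  have vW : ∀ i, ((Wfun kS kU kV i : ↥(Subgroup.closure S0)) : Equiv.Perm (Fin 9)) =
      Wfun pS pU pV i := by
    intro i
    have := map_Wfun (Subgroup.closure S0).subtype kS kU kV i
    simp only [Subgroup.coe_subtype] at this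
    exact this
  -- injectivity of `elt a b c`
  have hinjelt : Function.Injective (elt a b c) := by
    intro e e' hee
    rw [← ψelt, ← ψelt] at hee
    have h1 := hinj hee
    have h2 : elt pA pB pC e = elt pA pB pC e' := by
      rw [← velt, ← velt, h1]
    have h3 := @hP3 (e, 0) (e', 0) (by simp only [Wfun_zero, mul_one]; exact h2)
    exact (Prod.mk.inj h3).1
  -- membership in `H`
  have hmemH : ∀ k : G, k ∈ H ↔
      ∃ (e : ZMod 3 × ZMod 3 × ZMod 3) (i : Fin 24), k = elt a b c e * Wfun σ u v i := by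
    intro k
    rw [← hrange]
    constructor
    · rintro ⟨x, rfl⟩
      obtain ⟨e, i, hx⟩ := hP1 x.1 x.2
      refine ⟨e, i, ?_⟩
      have : x = elt kA kB kC e * Wfun kS kU kV i := by
        apply Subtype.ext
        rw [Subgroup.coe_mul, velt, vW]
        exact hx
      rw [this, map_mul, ψelt, ψW]
    · rintro ⟨e, i, rfl⟩
      exact ⟨elt kA kB kC e * Wfun kS kU kV i, by rw [map_mul, ψelt, ψW]⟩
  have hJH : J ≤ H := by
    intro t ht
    obtain ⟨e, rfl⟩ := (h.memJ t).mp ht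
    exact (hmemH _).mpr ⟨e, 0, by rw [Wfun_zero, mul_one]⟩
  refine ⟨?_, ?_, hJH, ?_, ?_, ?_, hinjelt, hmemH⟩
  · -- `|H| = 648`
    rw [← hrange, ← hP4]
    exact (Nat.card_congr (MonoidHom.ofInjective hinj).toEquiv).symm
  · -- `|J| = 27`
    have e : (ZMod 3 × ZMod 3 × ZMod 3) ≃ ↥J :=
      Equiv.ofBijective (fun e => ⟨elt a b c e, (h.memJ _).mpr ⟨e, rfl⟩⟩)
        ⟨fun e e' hee => hinjelt (congrArg Subtype.val hee),
          fun t => by
            obtain ⟨e, he⟩ := (h.memJ t.1).mp t.2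
            exact ⟨e, Subtype.ext he.symm⟩⟩
    rw [← Nat.card_congr e]
    simp [Nat.card_eq_fintype_card]
  · -- commutative
    intro x hx y hy
    obtain ⟨e, rfl⟩ := (h.memJ x).mp hx
    obtain ⟨e', rfl⟩ := (h.memJ y).mp hy
    rw [← elt_add' a3 b3 c3 ab ac bc, ← elt_add' a3 b3 c3 ab ac bc, add_comm]
  · -- exponent 3
    intro x hx
    obtain ⟨e, rfl⟩ := (h.memJ x).mp hx
    have h3 : e + e + e = 0 := by
      have : ∀ x : ZMod 3, x + x + x = 0 := by decide
      ext <;> simp [this]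
    rw [pow_succ, pow_two, ← elt_add' a3 b3 c3 ab ac bc, ← elt_add' a3 b3 c3 ab ac bc, h3, elt_zero']
  · -- normal in `H`
    intro k hk x hx
    exact h.sc x hx k (H.mul_mem (H.mul_mem hk (hJH hx)) (H.inv_mem hk))

end grp

end Cfsg.Agent.Lib.Helper86_H648_STRUCTaux
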