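import Mathlib
import Cfsg.Prelude.Def_Characters
import Cfsg.Prelude.Def_TwoFusion
import Cfsg.Prelude.Def_Solvable
import Cfsg.Agent.Lib.Helper80_CharBasic
import Cfsg.Agent.Lib.Helper17_H27Defs
import Cfsg.Agent.Lib.Helper76_H648Defs
import Cfsg.Agent.Lib.Helper52_H648_PERM
import Cfsg.Agent.Lib.Helper86_H648_STRUCTaux

/-!
# S3702 package STRUCT (architect helper76): verbatim `struct`

`struct h = struct_of perm_param h`, with `struct_of` from `Helper86_H648_STRUCTaux` and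
`perm_param` from `Helper52_H648_PERM`.
-/

set_option autoImplicit false
set_option linter.unusedSectionVars false

namespace Cfsg.Agent.Lib.Helper86_H648_STRUCT

open Cfsg Cfsg.Agent.Lib.Helper80_CharBasic
  Cfsg.Agent.Lib.Helper76_H648Defs
open Cfsg.Agent.Lib.Helper17_H27Defs (elt)

section grp
variable {G : Type*} [Group G] [Finite G]
variable {H J : Subgroup G} {a b c σ u v s : G}

/-! ### STRUCT: basic structure of `H` and `J` in `G` -/
theorem struct (h : Hyp G H J a b c σ u v s) :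
    Nat.card H = 648 ∧ Nat.card J = 27 ∧ J ≤ H ∧
    (∀ x ∈ J, ∀ y ∈ J, x * y = y * x) ∧ (∀ x ∈ J, x ^ 3 = 1) ∧
    (∀ k ∈ H, ∀ x ∈ J, k * x * k⁻¹ ∈ J) ∧
    Function.Injective (elt a b c) ∧
    (∀ k : G, k ∈ H ↔ ∃ (e : ZMod 3 × ZMod 3 × ZMod 3) (i : Fin 24), k = elt a b c e * Wfun σ u v i) :=
  Cfsg.Agent.Lib.Helper86_H648_STRUCTaux.struct_of
    Cfsg.Agent.Lib.Helper52_H648_PERM.perm_param h

end grp

end Cfsg.Agent.Lib.Helper86_H648_STRUCT
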