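import Mathlib
import Cfsg.Agent.Lib.Helper76_H648Defs

/-!
# S3702 (architect helper76, market `h648_packages`): package CONJJ (helper99)

The `H`-classes of `J`: elements `elt a b c e` of equal weight are conjugate under `H`.  The
computation is done in `K₀ ≤ Sym(9)` (`decide`) and transported by the isomorphism `ψ` of `Hyp.iso`.
The transport lemmas (`map_elt`, `map_Wfun`, `map_repW`, `exists_psi`, …) are reused by CENTJ.
-/

set_option autoImplicit false
set_option linter.unusedSectionVars false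

namespace Cfsg.Agent.Lib.Helper99_H648_CONJJ

open Cfsg.Agent.Lib.Helper76_H648Defs
open Cfsg.Agent.Lib.Helper17_H27Defs (elt)

/-! ### transport along homomorphisms -/

section transport

variable {A B : Type*} [Group A] [Group B] (f : A →* B)

theorem map_elt (x y z : A) (e : ZMod 3 × ZMod 3 × ZMod 3) :
    f (elt x y z e) = elt (f x) (f y) (f z) e := by
  simp only [elt, map_mul, map_pow]

theorem map_Wfun (x y z : A) (i : Fin 24) : f (Wfun x y z i) = Wfun (f x) (f y) (f z) i := by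
  fin_cases i <;> simp [Wfun, map_mul]

theorem map_repW (x y z : A) (w : ℕ) : f (repW x y z w) = repW (f x) (f y) (f z) w := by
  match w with
  | 0 => simp [repW]
  | 1 => simp [repW]
  | 2 => simp [repW]
  | 3 => simp [repW]
  | (n + 4) => simp [repW]

end transport

/-! ### the generators as elements of `K₀` -/

/-- `a` in `K₀` -/
def kA : ↥(Subgroup.closure S0) := ⟨g1, g1_mem⟩
/-- `σ` in `K₀` -/
def kS : ↥(Subgroup.closure S0) := ⟨g2, g2_mem⟩
/-- `u` in `K₀` -/
def kU : ↥(Subgroup.closure S0) := ⟨g3, g3_mem⟩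
/-- `v` in `K₀` -/
def kV : ↥(Subgroup.closure S0) := ⟨g4, g4_mem⟩
/-- `b` in `K₀` -/
def kB : ↥(Subgroup.closure S0) := kS * kA * kS⁻¹
/-- `c` in `K₀` -/
def kC : ↥(Subgroup.closure S0) := kS * kB * kS⁻¹
/-- `s` in `K₀` -/
def kT : ↥(Subgroup.closure S0) := kV * (kS * kU * kS⁻¹)

theorem coe_kA : ((kA : ↥(Subgroup.closure S0)) : Equiv.Perm (Fin 9)) = pA := rfl
theorem coe_kS : ((kS : ↥(Subgroup.closure S0)) : Equiv.Perm (Fin 9)) = pS := rfl
theorem coe_kU : ((kU : ↥(Subgroup.closure S0)) : Equiv.Perm (Fin 9)) = pU := rfl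
theorem coe_kV : ((kV : ↥(Subgroup.closure S0)) : Equiv.Perm (Fin 9)) = pV := rfl
theorem coe_kB : ((kB : ↥(Subgroup.closure S0)) : Equiv.Perm (Fin 9)) = pB := rfl
theorem coe_kC : ((kC : ↥(Subgroup.closure S0)) : Equiv.Perm (Fin 9)) = pC := rfl
theorem coe_kT : ((kT : ↥(Subgroup.closure S0)) : Equiv.Perm (Fin 9)) = pT := rfl

theorem coe_elt (e : ZMod 3 × ZMod 3 × ZMod 3) :
    ((elt kA kB kC e : ↥(Subgroup.closure S0)) : Equiv.Perm (Fin 9)) = elt pA pB pC e :=
  map_elt (Subgroup.closure S0).subtype kA kB kC e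

theorem coe_Wfun (i : Fin 24) :
    ((Wfun kS kU kV i : ↥(Subgroup.closure S0)) : Equiv.Perm (Fin 9)) = Wfun pS pU pV i :=
  map_Wfun (Subgroup.closure S0).subtype kS kU kV i

theorem coe_repW (w : ℕ) :
    ((repW kA kB kC w : ↥(Subgroup.closure S0)) : Equiv.Perm (Fin 9)) = repW pA pB pC w :=
  map_repW (Subgroup.closure S0).subtype kA kB kC w

section grp

variable {G : Type*} [Group G] [Finite G]
variable {H J : Subgroup G} {a b c σ u v s : G}

/-- the isomorphism of `Hyp.iso` with the images of all named elements -/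
theorem exists_psi (h : Hyp G H J a b c σ u v s) :
    ∃ ψ : ↥(Subgroup.closure S0) →* G, Function.Injective ψ ∧ ψ.range = H ∧
      ψ kA = a ∧ ψ kB = b ∧ ψ kC = c ∧ ψ kS = σ ∧ ψ kU = u ∧ ψ kV = v ∧ ψ kT = s := by
  obtain ⟨ψ, hinj, hrange, ha, hσ, hu, hv⟩ := h.iso
  have hA : ψ kA = a := ha
  have hS : ψ kS = σ := hσ
  have hU : ψ kU = u := hu
  have hV : ψ kV = v := hv
  have hB : ψ kB = b := by
    unfold kB
    rw [map_mul, map_mul, map_inv, hA, hS, h.hb]
  have hC : ψ kC = c := by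
    unfold kC
    rw [map_mul, map_mul, map_inv, hB, hS, h.hc]
  have hT : ψ kT = s := by
    unfold kT
    rw [map_mul, map_mul, map_mul, map_inv, hV, hS, hU, h.hs]
  exact ⟨ψ, hinj, hrange, hA, hB, hC, hS, hU, hV, hT⟩

/-! ### the computation in `Sym(9)` -/

set_option maxRecDepth 100000 in
theorem perm_conjJ : ∀ e : ZMod 3 × ZMod 3 × ZMod 3, e ≠ 0 →
    ∃ i : Fin 24, Wfun pS pU pV i * elt pA pB pC e * (Wfun pS pU pV i)⁻¹ =
      repW pA pB pC (wt e) := by
  decide +kernel

/-! ### CONJJ: the `H`-classes of `J`: elements of equal weight are conjugate under `H` -/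
theorem conjJ (h : Hyp G H J a b c σ u v s) (e : ZMod 3 × ZMod 3 × ZMod 3) (he : e ≠ 0) :
    ∃ k ∈ H, k * elt a b c e * k⁻¹ = repW a b c (wt e) := by
  obtain ⟨ψ, hinj, hrange, hA, hB, hC, hS, hU, hV, hT⟩ := exists_psi h
  obtain ⟨i, hi⟩ := perm_conjJ e he
  -- the equation in `K₀`
  have hK : Wfun kS kU kV i * elt kA kB kC e * (Wfun kS kU kV i)⁻¹ = repW kA kB kC (wt e) := by
    apply Subtype.ext
    rw [Subgroup.coe_mul, Subgroup.coe_mul, Subgroup.coe_inv, coe_Wfun, coe_elt, coe_repW]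
    exact hi
  refine ⟨ψ (Wfun kS kU kV i), ?_, ?_⟩
  · rw [← hrange]
    exact ⟨_, rfl⟩
  · have h1 := congrArg ψ hK
    rw [map_mul, map_mul, map_inv, map_elt, map_repW, hA, hB, hC] at h1
    exact h1

end grp

end Cfsg.Agent.Lib.Helper99_H648_CONJJ
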