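import Mathlib
import Cfsg.Agent.Lib.Helper76_H648Defs
import Cfsg.Agent.Lib.Helper99_H648_CONJJ
import Cfsg.Agent.Lib.Helper52_H648_PERM

/-!
# S3702 (architect helper76, market `h648_packages`): package CENTJ (helper99)

The centralizers in `G` of `c`, `a b`, `a b c` have orders `108, 54, 81`: by `Hyp.loc` they lie in
`H = ψ(K₀)`, and in `K₀ = {elt pA pB pC e * Wfun pS pU pV i}` (package PERM, taken here as the
hypothesis `PermParam`) the count is a computation (`decide`).

`centJ_aux` is the statement with `perm_param` as an explicit hypothesis; `centJ` is the verbatim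
statement (using `Helper52_H648_PERM.perm_param`).
-/

set_option autoImplicit false
set_option linter.unusedSectionVars false

namespace Cfsg.Agent.Lib.Helper99_H648_CENTJ

open Cfsg.Agent.Lib.Helper76_H648Defs Cfsg.Agent.Lib.Helper99_H648_CONJJ
open Cfsg.Agent.Lib.Helper17_H27Defs (elt)

/-- the statement of package PERM (`perm_param`) -/
def PermParam : Prop :=
    (∀ k ∈ Subgroup.closure S0, ∃ (e : ZMod 3 × ZMod 3 × ZMod 3) (i : Fin 24),
      k = elt pA pB pC e * Wfun pS pU pV i) ∧
    (∀ (e : ZMod 3 × ZMod 3 × ZMod 3) (i : Fin 24),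
      elt pA pB pC e * Wfun pS pU pV i ∈ Subgroup.closure S0) ∧
    Function.Injective (fun p : (ZMod 3 × ZMod 3 × ZMod 3) × Fin 24 =>
      elt pA pB pC p.1 * Wfun pS pU pV p.2) ∧
    Nat.card (Subgroup.closure S0) = 648

/-- the parametrisation of `K₀` -/
def par (p : (ZMod 3 × ZMod 3 × ZMod 3) × Fin 24) : Equiv.Perm (Fin 9) :=
  elt pA pB pC p.1 * Wfun pS pU pV p.2

/-- the number of elements of `K₀` commuting with `k₀` -/
def ccount (k₀ : Equiv.Perm (Fin 9)) : ℕ :=
  (Finset.univ.filter (fun p : (ZMod 3 × ZMod 3 × ZMod 3) × Fin 24 =>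
    par p * k₀ = k₀ * par p)).card

set_option maxRecDepth 100000 in
theorem ccount_pC : ccount pC = 108 := by
  decide +kernel

set_option maxRecDepth 100000 in
theorem ccount_pAB : ccount (pA * pB) = 54 := by
  decide +kernel

set_option maxRecDepth 100000 in
theorem ccount_pABC : ccount (pA * pB * pC) = 81 := by
  decide +kernel

set_option maxRecDepth 100000 in
theorem pC_ne_one : pC ≠ 1 := by decide +kernel

set_option maxRecDepth 100000 in
theorem pAB_ne_one : pA * pB ≠ 1 := by decide +kernel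

set_option maxRecDepth 100000 in
theorem pABC_ne_one : pA * pB * pC ≠ 1 := by decide +kernel

section grp

variable {G : Type*} [Group G] [Finite G]
variable {H J : Subgroup G} {a b c σ u v s : G}

/-- the centralizer in `G` of `x = ψ kk ∈ J ∖ 1` is counted in `K₀` -/
theorem card_centralizer_of (hperm : PermParam) (h : Hyp G H J a b c σ u v s)
    (ψ : ↥(Subgroup.closure S0) →* G) (hinj : Function.Injective ψ) (hrange : ψ.range = H)
    (kk : ↥(Subgroup.closure S0)) (hJ : ψ kk ∈ J) (h1 : (kk : Equiv.Perm (Fin 9)) ≠ 1) :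
    Nat.card (Subgroup.centralizer ({ψ kk} : Set G)) = ccount (kk : Equiv.Perm (Fin 9)) := by
  obtain ⟨hall, hmem, hparinj, -⟩ := hperm
  have hx1 : ψ kk ≠ 1 := by
    intro h0
    apply h1
    have : kk = 1 := hinj (by rw [h0, map_one])
    rw [this]; rfl
  have hle : Subgroup.centralizer ({ψ kk} : Set G) ≤ H := h.loc _ hJ hx1
  have hmem' : ∀ p : (ZMod 3 × ZMod 3 × ZMod 3) × Fin 24, par p ∈ Subgroup.closure S0 :=
    fun p => hmem p.1 p.2
  -- the map from the commuting parameters to the centralizer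
  let F : {p : (ZMod 3 × ZMod 3 × ZMod 3) × Fin 24 //
      par p * (kk : Equiv.Perm (Fin 9)) = (kk : Equiv.Perm (Fin 9)) * par p} →
      ↥(Subgroup.centralizer ({ψ kk} : Set G)) := fun p =>
    ⟨ψ ⟨par p.1, hmem' p.1⟩, by
      rw [Subgroup.mem_centralizer_iff]
      intro y hy
      rw [Set.mem_singleton_iff] at hy
      subst hy
      rw [← map_mul, ← map_mul]
      congr 1
      apply Subtype.ext
      rw [Subgroup.coe_mul, Subgroup.coe_mul]
      exact p.2.symm⟩
  have hF : Function.Bijective F := by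
    constructor
    · intro p q hpq
      have h2 : ψ ⟨par p.1, hmem' p.1⟩ = ψ ⟨par q.1, hmem' q.1⟩ := congrArg Subtype.val hpq
      have h3 := hinj h2
      have h4 : par p.1 = par q.1 := congrArg Subtype.val h3
      exact Subtype.ext (hparinj h4)
    · rintro ⟨g, hg⟩
      have hgH : g ∈ H := hle hg
      rw [← hrange] at hgH
      obtain ⟨k, rfl⟩ := hgH
      obtain ⟨e, i, hk⟩ := hall k.1 k.2
      have hkp : k = ⟨par (e, i), hmem' (e, i)⟩ := Subtype.ext hk
      rw [Subgroup.mem_centralizer_iff] at hg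
      have h2 := hg (ψ kk) rfl
      rw [← map_mul, ← map_mul] at h2
      have h3 := hinj h2
      have h4 : (kk : Equiv.Perm (Fin 9)) * k.1 = k.1 * (kk : Equiv.Perm (Fin 9)) := by
        have := congrArg Subtype.val h3
        rwa [Subgroup.coe_mul, Subgroup.coe_mul] at this
      refine ⟨⟨(e, i), ?_⟩, ?_⟩
      · show par (e, i) * (kk : Equiv.Perm (Fin 9)) = (kk : Equiv.Perm (Fin 9)) * par (e, i)
        have : par (e, i) = k.1 := hk.symm
        rw [this]
        exact h4.symm
      · apply Subtype.ext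
        show ψ ⟨par (e, i), hmem' (e, i)⟩ = ψ k
        rw [hkp]
  rw [← Nat.card_congr (Equiv.ofBijective F hF), Nat.card_eq_fintype_card, Fintype.card_subtype]
  rfl

/-- CENTJ with `perm_param` as an explicit hypothesis -/
theorem centJ_aux (hperm : PermParam) (h : Hyp G H J a b c σ u v s) :
    Nat.card (Subgroup.centralizer ({c} : Set G)) = 108 ∧
    Nat.card (Subgroup.centralizer ({a * b} : Set G)) = 54 ∧
    Nat.card (Subgroup.centralizer ({a * b * c} : Set G)) = 81 := by
  obtain ⟨ψ, hinj, hrange, hA, hB, hC, hS, hU, hV, hT⟩ := exists_psi h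
  have hcJ : ψ kC ∈ J := by
    rw [hC, h.memJ]
    exact ⟨(0, 0, 1), by simp [elt, ZMod.val_one]⟩
  have habJ : ψ (kA * kB) ∈ J := by
    rw [map_mul, hA, hB, h.memJ]
    exact ⟨(1, 1, 0), by simp [elt, ZMod.val_one]⟩
  have habcJ : ψ (kA * kB * kC) ∈ J := by
    rw [map_mul, map_mul, hA, hB, hC, h.memJ]
    exact ⟨(1, 1, 1), by simp [elt, ZMod.val_one]⟩
  have e1 := card_centralizer_of hperm h ψ hinj hrange kC hcJ pC_ne_one
  have e2 := card_centralizer_of hperm h ψ hinj hrange (kA * kB) habJ pAB_ne_one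
  have e3 := card_centralizer_of hperm h ψ hinj hrange (kA * kB * kC) habcJ pABC_ne_one
  rw [hC] at e1
  rw [map_mul, hA, hB] at e2
  rw [map_mul, map_mul, hA, hB, hC] at e3
  refine ⟨?_, ?_, ?_⟩
  · rw [e1]; exact ccount_pC
  · rw [e2]; exact ccount_pAB
  · rw [e3]; exact ccount_pABC

/-! ### CENTJ: the centralizers of the elements of `J` -/
theorem centJ (h : Hyp G H J a b c σ u v s) :
    Nat.card (Subgroup.centralizer ({c} : Set G)) = 108 ∧
    Nat.card (Subgroup.centralizer ({a * b} : Set G)) = 54 ∧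
    Nat.card (Subgroup.centralizer ({a * b * c} : Set G)) = 81 :=
  centJ_aux Cfsg.Agent.Lib.Helper52_H648_PERM.perm_param h

end grp

end Cfsg.Agent.Lib.Helper99_H648_CENTJ
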