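import Mathlib
import Cfsg.Prelude.Def_Characters
import Cfsg.Agent.Lib.Helper80_CharBasic
import Cfsg.Agent.Lib.Helper17_H27Defs
import Cfsg.Agent.Lib.Helper17_Sylow
import Cfsg.Agent.Lib.Helper76_H648Defs
import Cfsg.Agent.Lib.Helper99_H648_CONJJ
import Cfsg.Agent.Lib.Helper99_H648_CENTJ
import Cfsg.Agent.Lib.Helper86_H648_STRUCT

/-!
# S3702 market `h648_packages` (architect helper76), package NORM (helper10): `N_G(J) = H`

`normalizer_eq_aux`: from the statements of CONJJ (`conjJ`), CENTJ (`centJ`) and the parts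
"`H` normalises `J`" and "`elt a b c` is injective" of STRUCT (`struct`).
-/

set_option autoImplicit false

namespace Cfsg.Agent.Lib.Helper10_H648_NORM

open Cfsg Cfsg.Agent.Lib.Helper80_CharBasic
  Cfsg.Agent.Lib.Helper76_H648Defs
open Cfsg.Agent.Lib.Helper17_H27Defs (elt)

section grp
variable {G : Type*} [Group G]

variable {H J : Subgroup G} {a b c σ u v s : G}

theorem elt_zero (a b c : G) : elt a b c 0 = 1 := by
  simp [elt]

theorem elt_c (a b c : G) : elt a b c (0, 0, 1) = c := by
  simp [elt, ZMod.val_one]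

theorem wt_cases (e : ZMod 3 × ZMod 3 × ZMod 3) (he : e ≠ 0) : wt e = 1 ∨ wt e = 2 ∨ wt e = 3 := by
  obtain ⟨x, y, z⟩ := e
  unfold wt
  by_cases hx : x = 0 <;> by_cases hy : y = 0 <;> by_cases hz : z = 0 <;> simp [hx, hy, hz]
  exact he (by rw [hx, hy, hz]; rfl)

/-- conjugate elements have centralizers of the same order -/
theorem card_cent_conj (g x : G) :
    Nat.card (Subgroup.centralizer ({g * x * g⁻¹} : Set G)) =
      Nat.card (Subgroup.centralizer ({x} : Set G)) := by
  have := Cfsg.Agent.Lib.Helper17_Sylow.card_centralizer_conj x g⁻¹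
  rwa [inv_inv] at this

/-- `N_G(J) = H`, from the statements of CONJJ, CENTJ and two parts of STRUCT -/
theorem normalizer_eq_aux (h : Hyp G H J a b c σ u v s)
    (hconj : ∀ e : ZMod 3 × ZMod 3 × ZMod 3, e ≠ 0 →
      ∃ k ∈ H, k * elt a b c e * k⁻¹ = repW a b c (wt e))
    (hcent : Nat.card (Subgroup.centralizer ({c} : Set G)) = 108 ∧
      Nat.card (Subgroup.centralizer ({a * b} : Set G)) = 54 ∧
      Nat.card (Subgroup.centralizer ({a * b * c} : Set G)) = 81)
    (hnorm : ∀ k ∈ H, ∀ x ∈ J, k * x * k⁻¹ ∈ J)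
    (hinj : Function.Injective (elt a b c)) :
    Subgroup.normalizer (J : Set G) = H := by
  have hcJ : c ∈ J := (h.memJ c).2 ⟨(0, 0, 1), (elt_c a b c).symm⟩
  have hc1 : c ≠ 1 := by
    intro hc
    have h1 : elt a b c (0, 0, 1) = elt a b c 0 := by rw [elt_c, elt_zero, hc]
    have h2 := hinj h1
    have h3 : (1 : ZMod 3) = 0 := congrArg (fun p => p.2.2) h2
    exact one_ne_zero h3
  apply le_antisymm
  · intro n hn
    rw [Subgroup.mem_normalizer_iff] at hn
    have hj' : n * c * n⁻¹ ∈ J := (hn c).1 hcJ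
    obtain ⟨e, he⟩ := (h.memJ _).1 hj'
    have he0 : e ≠ 0 := by
      rintro rfl
      rw [elt_zero] at he
      apply hc1
      have : n * c = n := by
        rw [mul_inv_eq_one] at he
        exact he
      exact mul_eq_left.mp this
    obtain ⟨k, hk, hke⟩ := hconj e he0
    rw [← he] at hke
    have hkn : k * (n * c * n⁻¹) * k⁻¹ = (k * n) * c * (k * n)⁻¹ := by group
    rw [hkn] at hke
    have hcard := card_cent_conj (k * n) c
    rw [hke, hcent.1] at hcard
    rcases wt_cases e he0 with hw | hw | hw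
    · rw [hw] at hke
      have hmem : k * n ∈ Subgroup.centralizer ({c} : Set G) := by
        rw [Subgroup.mem_centralizer_iff]
        intro z hz
        rw [Set.mem_singleton_iff] at hz
        subst hz
        have : k * n * z * (k * n)⁻¹ = z := hke
        rw [mul_inv_eq_iff_eq_mul] at this
        exact this.symm
      have hknH : k * n ∈ H := h.loc c hcJ hc1 hmem
      have : n = k⁻¹ * (k * n) := by group
      rw [this]
      exact H.mul_mem (H.inv_mem hk) hknH
    · rw [hw] at hcard
      have h54 : Nat.card (Subgroup.centralizer ({repW a b c 2} : Set G)) = 54 := hcent.2.1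
      omega
    · rw [hw] at hcard
      have h81 : Nat.card (Subgroup.centralizer ({repW a b c 3} : Set G)) = 81 := hcent.2.2
      omega
  · intro k hk
    rw [Subgroup.mem_normalizer_iff]
    intro x
    constructor
    · intro hx
      exact hnorm k hk x hx
    · intro hx
      have := hnorm k⁻¹ (H.inv_mem hk) _ hx
      have e : k⁻¹ * (k * x * k⁻¹) * k⁻¹⁻¹ = x := by group
      rwa [e] at this

end grp

section grp'
variable {G : Type*} [Group G] [Finite G]

variable {H J : Subgroup G} {a b c σ u v s : G}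

/-! ### NORM: `N_G(J) = H` -/
theorem normalizer_eq (h : Hyp G H J a b c σ u v s) :
    Subgroup.normalizer (J : Set G) = H :=
  normalizer_eq_aux h (fun e he => Cfsg.Agent.Lib.Helper99_H648_CONJJ.conjJ h e he)
    (Cfsg.Agent.Lib.Helper99_H648_CENTJ.centJ h)
    (Cfsg.Agent.Lib.Helper86_H648_STRUCT.struct h).2.2.2.2.2.1
    (Cfsg.Agent.Lib.Helper86_H648_STRUCT.struct h).2.2.2.2.2.2.1

end grp'

end Cfsg.Agent.Lib.Helper10_H648_NORM
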