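import Mathlib
import Cfsg.Agent.Lib.Helper94_Symp
import Cfsg.Agent.Lib.Helper94_OrthSmall
import Cfsg.Agent.Lib.Helper94_OrthSiegel
import Cfsg.Agent.Lib.Helper44_QuadClass

set_option autoImplicit false

/-!
More on Siegel elements in the abstract setting of `Helper94_OrthSiegel` over finite fields:
existence of singular vectors in subspaces of dimension at least three, and every Siegel element
is a commutator of two Siegel elements (any finite field, dimension at least seven).
-/

namespace Cfsg.Agent.Lib.Helper94_OrthSiegel2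

open Module Cfsg.Agent.Lib.Helper94_Symp Cfsg.Agent.Lib.Helper94_OrthSmall
  Cfsg.Agent.Lib.Helper94_OrthSiegel
open scoped commutatorElement

variable {F V : Type*} [Field F] [AddCommGroup V] [Module F V]

section

variable (Q : V → F) (B : LinearMap.BilinForm F V)
  (hQs : ∀ (c : F) (v : V), Q (c • v) = c * c * Q v)
  (hQp : ∀ u v : V, Q (u + v) = Q u + Q v + B u v)

/-- The map `Q` as a quadratic form. -/
def qmOf : QuadraticForm F V where
  toFun := Q
  toFun_smul := by
    intro a x
    rw [hQs, smul_eq_mul]
  exists_companion' := ⟨B, hQp⟩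

@[simp] lemma qmOf_apply (x : V) : qmOf Q B hQs hQp x = Q x := rfl

include hQs hQp in
/-- A subspace of dimension at least three over a finite field contains a nonzero singular
vector. -/
lemma exists_singular_in [Finite F] [FiniteDimensional F V] (U : Submodule F V)
    (hU : 3 ≤ finrank F U) : ∃ p ∈ U, p ≠ 0 ∧ Q p = 0 := by
  obtain ⟨v, hv0, hv⟩ := Cfsg.Agent.Lib.Helper44_QuadClass.exists_singular
    ((qmOf Q B hQs hQp).comp U.subtype) hU
  refine ⟨v, v.2, ?_, ?_⟩
  · intro h
    exact hv0 (Subtype.ext h)
  · simpa using hv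

include hQs hQp in
/-- Every Siegel element is a commutator of two Siegel elements (finite field, dimension at
least seven). -/
theorem sieg_mem_commutator' [Finite F] [FiniteDimensional F V] (hN : B.Nondegenerate)
    (h7 : 7 ≤ finrank F V) {u z : V} (hu : Q u = 0) (huz : B u z = 0) :
    sieg Q B u z ∈ ⁅oG Q, oG Q⁆ := by
  have hsymm := B_symm Q B hQp
  have hR := B_isRefl Q B hQp
  by_cases hzu : z ∈ Submodule.span F {u}
  · obtain ⟨a, rfl⟩ := Submodule.mem_span_singleton.mp hzu
    have h1 := sieg_add_smul Q B hQs hQp hu (z := 0) (by simp) a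
    rw [zero_add] at h1
    rw [h1, sieg_zero_right Q B hQs hQp hu]
    exact Subgroup.one_mem _
  -- a singular vector orthogonal to u, z and outside their span
  obtain ⟨C, hC⟩ := Submodule.exists_isCompl (Submodule.span F {u, z})
  have hfrS : finrank F (Submodule.span F ({u, z} : Set V)) ≤ 2 := by
    classical
    have h6 := finrank_span_finset_le_card (R := F) ({u, z} : Finset V)
    have h7' : (({u, z} : Finset V) : Set V) = {u, z} := by simp
    rw [h7', Set.finrank] at h6
    have := Finset.card_le_two (a := u) (b := z)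
    omega
  have hfrC : finrank F V ≤ finrank F C + 2 := by
    have := Submodule.finrank_add_eq_of_isCompl hC
    omega
  have hfrK := LinearMap.BilinForm.finrank_orthogonal hN (Submodule.span F {u, z})
  have hfrKC : 3 ≤ finrank F (B.orthogonal (Submodule.span F {u, z}) ⊓ C : Submodule F V) := by
    have h1 := Submodule.finrank_sup_add_finrank_inf_eq
      (B.orthogonal (Submodule.span F {u, z})) C
    have h2 : finrank F (B.orthogonal (Submodule.span F {u, z}) ⊔ C : Submodule F V) ≤
        finrank F V := Submodule.finrank_le _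
    omega
  obtain ⟨p, hpKC, hp0, hQp0⟩ := exists_singular_in Q B hQs hQp _ hfrKC
  have hpK := (mem_orth B).mp hpKC.1
  have hup : B u p = 0 := hpK u (Submodule.subset_span (by simp))
  have hzp : B z p = 0 := hpK z (Submodule.subset_span (by simp))
  have hpu : B p u = 0 := by rw [hsymm, hup]
  have hpz : B p z = 0 := by rw [hsymm, hzp]
  have hpp : B p p = 0 := by rw [B_self Q B hQs hQp, hQp0, mul_zero]
  have hpS : p ∉ Submodule.span F {u, z} := by
    intro h
    have : p ∈ Submodule.span F {u, z} ⊓ C := ⟨h, hpKC.2⟩
    rw [hC.inf_eq_bot] at this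
    exact hp0 ((Submodule.mem_bot F).mp this)
  set s := z + Q z • p with hs
  have hQs' : Q s = Q z := by
    rw [hs, Q_add_smul Q B hQs hQp, hQp0, hzp]; ring
  have hps : B p s = 0 := by rw [hs, map_add, map_smul, hpz, hpp, smul_zero, add_zero]
  have hus : B u s = 0 := by rw [hs, map_add, map_smul, huz, hup, smul_zero, add_zero]
  have hpS' : p ∉ Submodule.span F {u, s} := by
    intro h
    obtain ⟨a, b, hab⟩ := Submodule.mem_span_pair.mp h
    by_cases hb : b = 0
    · apply hpS
      rw [← hab, hb, zero_smul, add_zero]
      exact Submodule.smul_mem _ _ (Submodule.subset_span (by simp))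
    · -- (1 - b Q z) p = a u + b z
      have h1 : (1 - b * Q z) • p = a • u + b • z := by
        have : p = a • u + b • (z + Q z • p) := by rw [← hs]; exact hab.symm
        calc (1 - b * Q z) • p = p - (b * Q z) • p := by module
          _ = (a • u + b • (z + Q z • p)) - (b * Q z) • p := by rw [← this]
          _ = a • u + b • z := by module
      by_cases h2 : 1 - b * Q z = 0
      · rw [h2, zero_smul] at h1
        apply hzu
        rw [Submodule.mem_span_singleton]
        refine ⟨-(b⁻¹ * a), ?_⟩
        have h3 : b • z = -(a • u) := by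
          rw [eq_neg_iff_add_eq_zero, add_comm]; exact h1.symm
        calc (-(b⁻¹ * a)) • u = b⁻¹ • (-(a • u)) := by module
          _ = b⁻¹ • (b • z) := by rw [h3]
          _ = z := by rw [smul_smul, inv_mul_cancel₀ hb, one_smul]
      · apply hpS
        have : p = (1 - b * Q z)⁻¹ • (a • u + b • z) := by
          rw [← h1, smul_smul, inv_mul_cancel₀ h2, one_smul]
        rw [this]
        exact Submodule.smul_mem _ _ (Submodule.add_mem _
          (Submodule.smul_mem _ _ (Submodule.subset_span (by simp)))
          (Submodule.smul_mem _ _ (Submodule.subset_span (by simp))))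
  -- the vector y
  obtain ⟨y0, hy0, hy0p⟩ : ∃ y ∈ B.orthogonal (Submodule.span F {u, s}), B y p ≠ 0 := by
    by_contra hcon
    push Not at hcon
    apply hpS'
    rw [← LinearMap.BilinForm.orthogonal_orthogonal hN hR (Submodule.span F {u, s}), mem_orth]
    exact hcon
  set y := (B y0 p)⁻¹ • y0 with hy
  have hyo : y ∈ B.orthogonal (Submodule.span F {u, s}) := Submodule.smul_mem _ _ hy0
  have hyp : B y p = 1 := by
    rw [hy, map_smul, LinearMap.smul_apply, smul_eq_mul, inv_mul_cancel₀ hy0p]
  have huy : B u y = 0 := (mem_orth B).mp hyo u (Submodule.subset_span (by simp))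
  have hsy : B s y = 0 := (mem_orth B).mp hyo s (Submodule.subset_span (by simp))
  have hys : B y s = 0 := by rw [hsymm, hsy]
  have hgG : sieg Q B p s ∈ oG Q := sieg_mem_oG Q B hQs hQp hQp0 hps
  have hhG : sieg Q B u y ∈ oG Q := sieg_mem_oG Q B hQs hQp hu huy
  have hgu : sieg Q B p s u = u := by
    rw [sieg_apply Q B hQs hQp hQp0 hps, hup, hus]
    simp
  have hgy : sieg Q B p s y = y + z := by
    rw [sieg_apply Q B hQs hQp hQp0 hps, hyp, hys, hQs', hs]
    module
  have hconj := conj_sieg Q B hQs hQp hgG hu huy
  rw [hgu, hgy] at hconj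
  have huyz : B u (y + z) = 0 := by rw [map_add, huy, huz, add_zero]
  have hcomm : ⁅sieg Q B p s, sieg Q B u y⁆ = sieg Q B u z := by
    rw [commutatorElement_def, hconj, sieg_inv Q B hQs hQp hu huy,
      sieg_mul Q B hQs hQp hu huyz (by rw [map_neg, huy, neg_zero])]
    congr 1
    abel
  rw [← hcomm]
  exact Subgroup.commutator_mem_commutator hgG hhG

end

end Cfsg.Agent.Lib.Helper94_OrthSiegel2
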