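import Mathlib
import Cfsg.Agent.Lib.Helper94_Symp
import Cfsg.Agent.Lib.Helper94_OrthSmall
import Cfsg.Agent.Lib.Helper94_OrthSiegel
import Cfsg.Agent.Lib.Helper94_OrthSiegel2
import Cfsg.Agent.Lib.Helper94_OrthPara

set_option autoImplicit false

/-!
In characteristic two, the stabiliser of a nonsingular vector is maximal in a group `G` of
isometries of a nondegenerate quadratic space that contains, and is generated by, the Siegel
elements (abstract setting of `Helper94_OrthSiegel`).
-/

namespace Cfsg.Agent.Lib.Helper94_OrthVec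

open Module Cfsg.Agent.Lib.Helper94_Symp Cfsg.Agent.Lib.Helper94_OrthSmall
  Cfsg.Agent.Lib.Helper94_OrthSiegel Cfsg.Agent.Lib.Helper94_OrthSiegel2
  Cfsg.Agent.Lib.Helper94_OrthPara

variable {F V : Type*} [Field F] [AddCommGroup V] [Module F V]

section

variable [FiniteDimensional F V] (Q : V → F) (B : LinearMap.BilinForm F V)
  (hQs : ∀ (c : F) (v : V), Q (c • v) = c * c * Q v)
  (hQp : ∀ u v : V, Q (u + v) = Q u + Q v + B u v)

include hQs hQp in
/-- If a subgroup `M` of isometries contains the full Siegel groups of two non-orthogonal singular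
vectors, it contains all Siegel elements. -/
theorem all_of_pair (hN : B.Nondegenerate) (M : Subgroup (V ≃ₗ[F] V)) (hM : M ≤ oG Q)
    {w1 w2 : V} (hw1 : Q w1 = 0 ∧ ∀ z, B w1 z = 0 → sieg Q B w1 z ∈ M)
    (hw2 : Q w2 = 0 ∧ ∀ z, B w2 z = 0 → sieg Q B w2 z ∈ M) (h12 : B w1 w2 ≠ 0) :
    ∀ u z, Q u = 0 → B u z = 0 → sieg Q B u z ∈ M := by
  have hsymm := B_symm Q B hQp
  have hself : ∀ a, Q a = 0 → B a a = 0 := by
    intro a ha
    rw [B_self Q B hQs hQp, ha, mul_zero]
  have hsapp := @sieg_apply F V _ _ _ Q B hQs hQp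
  let P : V → Prop := fun w => Q w = 0 ∧ ∀ z, B w z = 0 → sieg Q B w z ∈ M
  have hP0 : P 0 := by
    refine ⟨Q_zero Q hQs, fun z _ => ?_⟩
    rw [sieg_zero_left Q B hQs hQp]; exact M.one_mem
  have hP2 : ∀ g ∈ M, ∀ w, P w → P (g w) := by
    intro g hg w hw
    have hgO : g ∈ oG Q := hM hg
    refine ⟨by rw [hgO, hw.1], fun z hz => ?_⟩
    have h1 : B w (g⁻¹ z) = 0 := by
      rw [← oG_B Q B hQp hgO, apply_inv_apply']; exact hz
    have h2 := conj_sieg Q B hQs hQp hgO hw.1 h1
    rw [apply_inv_apply'] at h2
    rw [← h2]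
    exact M.mul_mem (M.mul_mem hg (hw.2 _ h1)) (M.inv_mem hg)
  have hP3 : ∀ w, P w → ∀ c : F, P (c • w) := by
    intro w hw c
    by_cases hc : c = 0
    · rw [hc, zero_smul]; exact hP0
    refine ⟨by rw [hQs, hw.1, mul_zero], fun z hz => ?_⟩
    have h1 : B w z = 0 := by
      rw [map_smul, LinearMap.smul_apply, smul_eq_mul] at hz
      exact (mul_eq_zero.mp hz).resolve_left hc
    rw [sieg_smul_left Q B hQs hQp hw.1 h1]
    apply hw.2
    rw [map_smul, h1, smul_zero]
  have hP5a : ∀ w, P w → ∀ p p', Q p = 0 → Q p' = 0 → B p w ≠ 0 → B p' w ≠ 0 → P p → P p' := by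
    intro w hw p p' hp hp' hpw hp'w hPp
    set l := B p w with hl
    set p'' := (l / B p' w) • p' with hp''
    have hQp'' : Q p'' = 0 := by rw [hp'', hQs, hp', mul_zero]
    have hp''w : B p'' w = l := by
      rw [hp'', map_smul, LinearMap.smul_apply, smul_eq_mul, div_mul_cancel₀ _ hp'w]
    set z := l⁻¹ • (p'' - p) with hz
    have hwz : B w z = 0 := by
      rw [hz, map_smul, map_sub, hsymm w p'', hsymm w p, hp''w, ← hl, sub_self, smul_zero]
    have hg : sieg Q B w z ∈ M := hw.2 z hwz
    have hlz : l • z = p'' - p := by rw [hz, smul_smul, mul_inv_cancel₀ hpw, one_smul]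
    have hkey : B p z + l * Q z = 0 := by
      have e1 : p'' = p + l • z := by rw [hlz]; abel
      have e2 := hQp''
      rw [e1, Q_add_smul Q B hQs hQp, hp] at e2
      have e3 : l * (B p z + l * Q z) = 0 := by linear_combination e2
      exact (mul_eq_zero.mp e3).resolve_left hpw
    have h1 := hP2 _ hg p hPp
    rw [hsapp hw.1 hwz, ← hl, hlz] at h1
    have e4 : p + (p'' - p) - B p z • w - (Q z * l) • w = p'' - (B p z + l * Q z) • w := by
      module
    rw [e4, hkey, zero_smul, sub_zero] at h1
    have h2 := hP3 p'' h1 (B p' w / l)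
    rwa [hp'', smul_smul, div_mul_div_cancel₀ hpw, div_self hp'w, one_smul] at h2
  have h21 : B w2 w1 ≠ 0 := by rw [hsymm]; exact h12
  have hw10 : w1 ≠ 0 := by
    rintro rfl
    simp at h12
  have hall : ∀ p, Q p = 0 → P p := by
    intro p hp
    by_cases hpw1 : B p w1 = 0
    · by_cases hp0 : p = 0
      · rw [hp0]; exact hP0
      obtain ⟨x, hx1, hx2⟩ : ∃ x, B x w1 ≠ 0 ∧ B x p ≠ 0 := by
        obtain ⟨x1, hx1⟩ : ∃ x, B x w1 ≠ 0 := by
          by_contra hcon
          push Not at hcon
          exact hw10 (hN.2 w1 hcon)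
        obtain ⟨x2, hx2⟩ : ∃ x, B x p ≠ 0 := by
          by_contra hcon
          push Not at hcon
          exact hp0 (hN.2 p hcon)
        by_cases h1 : B x1 p = 0
        · by_cases h2 : B x2 w1 = 0
          · refine ⟨x1 + x2, ?_, ?_⟩
            · rw [map_add, LinearMap.add_apply, h2, add_zero]; exact hx1
            · rw [map_add, LinearMap.add_apply, h1, zero_add]; exact hx2
          · exact ⟨x2, h2, hx2⟩
        · exact ⟨x1, hx1, h1⟩
      have hQr := sing_adjust Q B hQs hQp hw1.1 hx1
      set r := x + (-(Q x / B x w1)) • w1 with hr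
      have hrw1 : B r w1 ≠ 0 := by
        rw [hr, map_add, LinearMap.add_apply, map_smul, LinearMap.smul_apply,
          hself w1 hw1.1, smul_zero, add_zero]
        exact hx1
      have hrp : B r p ≠ 0 := by
        rw [hr, map_add, LinearMap.add_apply, map_smul, LinearMap.smul_apply, hsymm w1 p,
          hpw1, smul_zero, add_zero]
        exact hx2
      have hPr : P r := hP5a w1 hw1 w2 r hw2.1 hQr h21 hrw1 hw2
      exact hP5a r hPr w1 p hw1.1 hp (by rw [hsymm]; exact hrw1) (by rw [hsymm]; exact hrp)
        hw1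
    · exact hP5a w1 hw1 w2 p hw2.1 hp h21 hpw1 hw2
  intro u z hu huz
  exact (hall u hu).2 z huz

include hQs hQp in
theorem maximal_stab_nonsing [Finite F] (hchar : (2 : F) = 0) (hN : B.Nondegenerate)
    (G : Subgroup (V ≃ₗ[F] V)) (hG1 : G ≤ oG Q)
    (hG2 : ∀ u z, Q u = 0 → B u z = 0 → sieg Q B u z ∈ G)
    (hG3 : ∀ M : Subgroup (V ≃ₗ[F] V),
      (∀ u z, Q u = 0 → B u z = 0 → sieg Q B u z ∈ M) → G ≤ M)
    (h8 : 8 ≤ finrank F V) (v : V) (hv : Q v ≠ 0) :
    (stab (Submodule.span F {v}) ⊓ G < G) ∧
      ∀ M : Subgroup (V ≃ₗ[F] V), stab (Submodule.span F {v}) ⊓ G ≤ M → M ≤ G →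
        M = stab (Submodule.span F {v}) ⊓ G ∨ M = G := by
  have hsymm := B_symm Q B hQp
  have hR := B_isRefl Q B hQp
  have hself : ∀ a, B a a = 0 := by
    intro a
    rw [B_self Q B hQs hQp, hchar, zero_mul]
  have hsapp := @sieg_apply F V _ _ _ Q B hQs hQp
  have hv0 : v ≠ 0 := by
    rintro rfl
    exact hv (Q_zero Q hQs)
  -- isometries stabilising the line fix the vector
  have hfix : ∀ g ∈ oG Q, g ∈ stab (Submodule.span F {v}) → g v = v := by
    intro g hgO hgs
    have h1 := (mem_stab.mp hgs v).mp (Submodule.mem_span_singleton_self v)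
    obtain ⟨c, hc⟩ := Submodule.mem_span_singleton.mp h1
    have h2 : Q (g v) = Q v := hgO v
    rw [← hc, hQs] at h2
    have h3 : (c * c - 1) * Q v = 0 := by linear_combination h2
    have h4 : c * c - 1 = 0 := (mul_eq_zero.mp h3).resolve_right hv
    have h5 : (c - 1) * (c - 1) = 0 := by
      have : (c - 1) * (c - 1) = c * c - 1 - (2 : F) * (c - 1) := by ring
      rw [this, h4, hchar]; ring
    have h6 : c = 1 := by
      rcases mul_eq_zero.mp h5 with h | h <;> exact sub_eq_zero.mp h
    rw [← hc, h6, one_smul]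
  have hstab_of_fix : ∀ g : V ≃ₗ[F] V, g v = v → g ∈ stab (Submodule.span F {v}) := by
    intro g hg
    apply mem_stab_of_forall_mem
    intro x hx
    obtain ⟨c, rfl⟩ := Submodule.mem_span_singleton.mp hx
    rw [map_smul, hg]
    exact Submodule.smul_mem _ _ (Submodule.mem_span_singleton_self v)
  constructor
  · -- proper
    refine lt_of_le_of_ne inf_le_right ?_
    intro heq
    -- a singular vector not orthogonal to v
    obtain ⟨w0, -, hw00, hQw0⟩ := exists_singular_in Q B hQs hQp ⊤ (by rw [finrank_top]; omega)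
    obtain ⟨w, hQw, hwv⟩ : ∃ w, Q w = 0 ∧ B w v ≠ 0 := by
      by_cases h : B w0 v = 0
      · obtain ⟨x, hx1, hx2⟩ : ∃ x, B x w0 ≠ 0 ∧ B x v ≠ 0 := by
          obtain ⟨x1, hx1⟩ : ∃ x, B x w0 ≠ 0 := by
            by_contra hcon
            push Not at hcon
            exact hw00 (hN.2 w0 hcon)
          obtain ⟨x2, hx2⟩ : ∃ x, B x v ≠ 0 := by
            by_contra hcon
            push Not at hcon
            exact hv0 (hN.2 v hcon)
          by_cases h1 : B x1 v = 0
          · by_cases h2 : B x2 w0 = 0
            · refine ⟨x1 + x2, ?_, ?_⟩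
              · rw [map_add, LinearMap.add_apply, h2, add_zero]; exact hx1
              · rw [map_add, LinearMap.add_apply, h1, zero_add]; exact hx2
            · exact ⟨x2, h2, hx2⟩
          · exact ⟨x1, hx1, h1⟩
        refine ⟨x + (-(Q x / B x w0)) • w0, sing_adjust Q B hQs hQp hQw0 hx1, ?_⟩
        rw [map_add, LinearMap.add_apply, map_smul, LinearMap.smul_apply, h, smul_zero, add_zero]
        exact hx2
      · exact ⟨w0, hQw0, h⟩
    have hvw : B v w ≠ 0 := by rw [hsymm]; exact hwv
    -- z orthogonal to w outside span{v, w}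
    obtain ⟨z, hz, hzn⟩ : ∃ z ∈ B.orthogonal (Submodule.span F {w}),
        z ∉ Submodule.span F {v, w} := by
      by_contra hcon
      push Not at hcon
      have hle : B.orthogonal (Submodule.span F {w}) ≤ Submodule.span F {v, w} := hcon
      have h1 := Submodule.finrank_mono hle
      have h2 := LinearMap.BilinForm.finrank_orthogonal hN (Submodule.span F {w})
      have h3 : finrank F (Submodule.span F ({w} : Set V)) ≤ 1 := by
        classical
        have h6 := finrank_span_finset_le_card (R := F) ({w} : Finset V)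
        have h7' : (({w} : Finset V) : Set V) = {w} := by simp
        rw [h7', Set.finrank] at h6
        simpa using h6
      have h4 : finrank F (Submodule.span F ({v, w} : Set V)) ≤ 2 := by
        classical
        have h6 := finrank_span_finset_le_card (R := F) ({v, w} : Finset V)
        have h7' : (({v, w} : Finset V) : Set V) = {v, w} := by simp
        rw [h7', Set.finrank] at h6
        have := Finset.card_le_two (a := v) (b := w)
        omega
      omega
    have hwz : B w z = 0 := (mem_orth B).mp hz w (Submodule.mem_span_singleton_self w)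
    have hg : sieg Q B w z ∈ stab (Submodule.span F {v}) ⊓ G := by
      rw [heq]; exact hG2 w z hQw hwz
    have h1 := hfix _ (hG1 hg.2) hg.1
    rw [hsapp hQw hwz] at h1
    apply hzn
    have h2 : B v w • z = (B v z + Q z * B v w) • w := by
      have : v + B v w • z - B v z • w - (Q z * B v w) • w - v = 0 := by rw [h1, sub_self]
      have e : B v w • z - (B v z + Q z * B v w) • w = 0 := by
        rw [← this]; module
      exact sub_eq_zero.mp e
    have h3 : z = ((B v w)⁻¹ * (B v z + Q z * B v w)) • w := by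
      rw [mul_smul, ← h2, smul_smul, inv_mul_cancel₀ hvw, one_smul]
    rw [h3]
    exact Submodule.smul_mem _ _ (Submodule.subset_span (by simp))
  · intro M hHM hMK
    by_cases hMs : M ≤ stab (Submodule.span F {v})
    · left
      exact le_antisymm (fun g hg => ⟨hMs hg, hMK hg⟩) hHM
    right
    apply le_antisymm hMK
    obtain ⟨g, hgM, hgs⟩ := SetLike.not_le_iff_exists.mp hMs
    have hgO : g ∈ oG Q := hG1 (hMK hgM)
    have hgv : g v ≠ v := fun h => hgs (hstab_of_fix g h)
    set v' := g v with hv'
    have hQv' : Q v' = Q v := hgO v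
    have hd0 : v' - v ≠ 0 := sub_ne_zero.mpr hgv
    -- Siegel elements fixing v or v' lie in M
    have hM1 : ∀ w z, Q w = 0 → B w z = 0 → B v w = 0 → B v z = 0 → sieg Q B w z ∈ M := by
      intro w z hw hwz hvw hvz
      apply hHM
      refine ⟨hstab_of_fix _ ?_, hG2 w z hw hwz⟩
      rw [hsapp hw hwz, hvw, hvz]
      simp
    have hM2 : ∀ w z, Q w = 0 → B w z = 0 → B v' w = 0 → B v' z = 0 → sieg Q B w z ∈ M := by
      intro w z hw hwz hvw hvz
      have hginv : g⁻¹ ∈ oG Q := (oG Q).inv_mem hgO
      have h1 : B (g⁻¹ w) (g⁻¹ z) = 0 := by rw [oG_B Q B hQp hginv, hwz]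
      have h2 : Q (g⁻¹ w) = 0 := by rw [hginv, hw]
      have h3 : ∀ y, B v (g⁻¹ y) = B v' y := by
        intro y
        rw [hv', ← oG_B Q B hQp hgO v (g⁻¹ y), apply_inv_apply']
      have h4 := hM1 (g⁻¹ w) (g⁻¹ z) h2 h1 (by rw [h3, hvw]) (by rw [h3, hvz])
      have h5 := conj_sieg Q B hQs hQp hgO h2 h1
      rw [apply_inv_apply', apply_inv_apply'] at h5
      rw [← h5]
      exact M.mul_mem (M.mul_mem hgM h4) (M.inv_mem hgM)
    -- full Siegel groups
    have hfull : ∀ w, Q w = 0 → B v w = 0 → B v' w = 0 → v' - v ∉ Submodule.span F {w} →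
        ∀ z, B w z = 0 → sieg Q B w z ∈ M := by
      intro w hw hvw hv'w hdw z hwz
      -- y orthogonal to w and v' with B y v = B z v
      have hvn : v ∉ Submodule.span F {w, v'} := by
        intro h
        obtain ⟨a, b, hab⟩ := Submodule.mem_span_pair.mp h
        have hwv' : B w v' = 0 := by rw [hsymm, hv'w]
        have h1 : Q v = b * b * Q v := by
          have : Q (b • v' + a • w) = b * b * Q v' + a * a * Q w + a * B (b • v') w := by
            rw [Q_add_smul Q B hQs hQp, hQs]
          rw [add_comm] at hab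
          rw [hab, hw, map_smul, LinearMap.smul_apply, hv'w, hQv'] at this
          simp only [mul_zero, smul_zero, add_zero] at this
          exact this
        have h2 : (b * b - 1) * Q v = 0 := by linear_combination -h1
        have h3 : b * b - 1 = 0 := (mul_eq_zero.mp h2).resolve_right hv
        have h4 : (b - 1) * (b - 1) = 0 := by
          have : (b - 1) * (b - 1) = b * b - 1 - (2 : F) * (b - 1) := by ring
          rw [this, h3, hchar]; ring
        have h5 : b = 1 := by
          rcases mul_eq_zero.mp h4 with h | h <;> exact sub_eq_zero.mp h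
        apply hdw
        rw [Submodule.mem_span_singleton]
        refine ⟨-a, ?_⟩
        rw [← hab, h5]
        module
      obtain ⟨y0, hy0, hy0v⟩ : ∃ y ∈ B.orthogonal (Submodule.span F {w, v'}), B y v ≠ 0 := by
        by_contra hcon
        push Not at hcon
        apply hvn
        rw [← LinearMap.BilinForm.orthogonal_orthogonal hN hR (Submodule.span F {w, v'}),
          mem_orth]
        exact hcon
      set z2 := (B z v / B y0 v) • y0 with hz2
      have hz2o : z2 ∈ B.orthogonal (Submodule.span F {w, v'}) := Submodule.smul_mem _ _ hy0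
      have hwz2 : B w z2 = 0 := (mem_orth B).mp hz2o w (Submodule.subset_span (by simp))
      have hv'z2 : B v' z2 = 0 := (mem_orth B).mp hz2o v' (Submodule.subset_span (by simp))
      have hz2v : B z2 v = B z v := by
        rw [hz2, map_smul, LinearMap.smul_apply, smul_eq_mul, div_mul_cancel₀ _ hy0v]
      have hwz1 : B w (z - z2) = 0 := by rw [map_sub, hwz, hwz2, sub_self]
      have hvz1 : B v (z - z2) = 0 := by
        rw [map_sub, hsymm v z, hsymm v z2, hz2v, sub_self]
      have h1 := hM1 w (z - z2) hw hwz1 hvw hvz1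
      have h2 := hM2 w z2 hw hwz2 hv'w hv'z2
      have h3 := sieg_mul Q B hQs hQp hw hwz1 hwz2
      rw [sub_add_cancel] at h3
      rw [← h3]
      exact M.mul_mem h1 h2
    -- two non-orthogonal singular vectors in the orthogonal of v, v'
    obtain ⟨C, hC⟩ := Submodule.exists_isCompl (Submodule.span F {v, v'})
    have hfrS : finrank F (Submodule.span F ({v, v'} : Set V)) ≤ 2 := by
      classical
      have h6 := finrank_span_finset_le_card (R := F) ({v, v'} : Finset V)
      have h7' : (({v, v'} : Finset V) : Set V) = {v, v'} := by simp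
      rw [h7', Set.finrank] at h6
      have := Finset.card_le_two (a := v) (b := v')
      omega
    have hfrK := LinearMap.BilinForm.finrank_orthogonal hN (Submodule.span F {v, v'})
    have hfrKC : 3 ≤ finrank F (B.orthogonal (Submodule.span F {v, v'}) ⊓ C : Submodule F V) := by
      have h0 := Submodule.finrank_add_eq_of_isCompl hC
      have h1 := Submodule.finrank_sup_add_finrank_inf_eq
        (B.orthogonal (Submodule.span F {v, v'})) C
      have h2 : finrank F (B.orthogonal (Submodule.span F {v, v'}) ⊔ C : Submodule F V) ≤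
          finrank F V := Submodule.finrank_le _
      omega
    obtain ⟨w1, hw1KC, hw10, hQw1⟩ := exists_singular_in Q B hQs hQp _ hfrKC
    have hw1K := (mem_orth B).mp hw1KC.1
    have hw1S : w1 ∉ Submodule.span F {v, v'} := by
      intro h
      have : w1 ∈ Submodule.span F {v, v'} ⊓ C := ⟨h, hw1KC.2⟩
      rw [hC.inf_eq_bot] at this
      exact hw10 ((Submodule.mem_bot F).mp this)
    obtain ⟨x, hxK, hxw1⟩ : ∃ x ∈ B.orthogonal (Submodule.span F {v, v'}), B x w1 ≠ 0 := by
      by_contra hcon
      push Not at hcon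
      apply hw1S
      rw [← LinearMap.BilinForm.orthogonal_orthogonal hN hR (Submodule.span F {v, v'}), mem_orth]
      exact hcon
    have hQw2 := sing_adjust Q B hQs hQp hQw1 hxw1
    set w2 := x + (-(Q x / B x w1)) • w1 with hw2
    have hw2K : w2 ∈ B.orthogonal (Submodule.span F {v, v'}) :=
      Submodule.add_mem _ hxK (Submodule.smul_mem _ _ hw1KC.1)
    have hw2K' := (mem_orth B).mp hw2K
    have hw2w1 : B w2 w1 ≠ 0 := by
      rw [hw2, map_add, LinearMap.add_apply, map_smul, LinearMap.smul_apply, hself w1, smul_zero,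
        add_zero]
      exact hxw1
    have hw1w2 : B w1 w2 ≠ 0 := by rw [hsymm]; exact hw2w1
    have hvS : v ∈ Submodule.span F {v, v'} := Submodule.subset_span (by simp)
    have hv'S : v' ∈ Submodule.span F {v, v'} := Submodule.subset_span (by simp)
    have hdS : v' - v ∈ Submodule.span F {v, v'} := Submodule.sub_mem _ hv'S hvS
    have hd1 : v' - v ∉ Submodule.span F {w1} := by
      intro h
      obtain ⟨c, hc⟩ := Submodule.mem_span_singleton.mp h
      have hc0 : c ≠ 0 := by
        rintro rfl
        rw [zero_smul] at hc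
        exact hd0 hc.symm
      apply hw1S
      have : w1 = c⁻¹ • (v' - v) := by rw [← hc, smul_smul, inv_mul_cancel₀ hc0, one_smul]
      rw [this]
      exact Submodule.smul_mem _ _ hdS
    have hd2 : v' - v ∉ Submodule.span F {w2} := by
      intro h
      obtain ⟨c, hc⟩ := Submodule.mem_span_singleton.mp h
      apply hw1w2
      have h1 : B w1 (v' - v) = 0 := by
        rw [map_sub, hsymm w1 v', hsymm w1 v, hw1K v' hv'S, hw1K v hvS, sub_self]
      have hc0 : c ≠ 0 := by
        rintro rfl
        rw [zero_smul] at hc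
        exact hd0 hc.symm
      rw [← hc, map_smul, smul_eq_mul] at h1
      exact (mul_eq_zero.mp h1).resolve_left hc0
    have hP1 := hfull w1 hQw1 (hw1K v hvS) (hw1K v' hv'S) hd1
    have hP2 := hfull w2 hQw2 (hw2K' v hvS) (hw2K' v' hv'S) hd2
    apply hG3
    exact all_of_pair Q B hQs hQp hN M (le_trans hMK hG1) ⟨hQw1, hP1⟩ ⟨hQw2, hP2⟩ hw1w2

end

end Cfsg.Agent.Lib.Helper94_OrthVec
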