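import Mathlib
import Cfsg.Agent.Lib.Helper94_Symp
import Cfsg.Agent.Lib.Helper94_OrthSmall
import Cfsg.Agent.Lib.Helper94_OrthSiegel
import Cfsg.Agent.Lib.Helper94_OrthSiegel2
import Cfsg.Agent.Lib.Helper94_OrthPara
import Cfsg.Agent.Lib.Helper94_OrthVec

set_option autoImplicit false

/-!
Orthogonal groups: the stabiliser of a nondegenerate subspace `A'` with `V = A ⊥ A'`, both of
dimension at least five and `A'` not isometrically embeddable in `A`, is maximal in any group `G`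
of isometries containing, and generated by, the Siegel elements (helper94).
-/

namespace Cfsg.Agent.Lib.Helper94_OrthNondeg

open Module Cfsg.Agent.Lib.Helper94_Symp Cfsg.Agent.Lib.Helper94_OrthSmall
  Cfsg.Agent.Lib.Helper94_OrthSiegel Cfsg.Agent.Lib.Helper94_OrthSiegel2
  Cfsg.Agent.Lib.Helper94_OrthPara Cfsg.Agent.Lib.Helper94_OrthVec

variable {F V : Type*} [Field F] [AddCommGroup V] [Module F V]

lemma mem_ker_flip {B : LinearMap.BilinForm F V} {x f : V} :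
    x ∈ LinearMap.ker (B.flip f) ↔ B x f = 0 := by
  rw [LinearMap.mem_ker]
  rfl

lemma finrank_le_inf_ker_add_one [FiniteDimensional F V] (X : Submodule F V) (φ : V →ₗ[F] F) :
    finrank F X ≤ finrank F (X ⊓ LinearMap.ker φ : Submodule F V) + 1 := by
  have h1 := Submodule.finrank_sup_add_finrank_inf_eq X (LinearMap.ker φ)
  have h2 := LinearMap.finrank_range_add_finrank_ker φ
  have h3 : finrank F (LinearMap.range φ) ≤ 1 :=
    (Submodule.finrank_le _).trans (by rw [finrank_self])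
  have h4 : finrank F (X ⊔ LinearMap.ker φ : Submodule F V) ≤ finrank F V := Submodule.finrank_le _
  omega

section

variable [Finite F] [FiniteDimensional F V] (Q : V → F) (B : LinearMap.BilinForm F V)
  (hQs : ∀ (c : F) (v : V), Q (c • v) = c * c * Q v)
  (hQp : ∀ u v : V, Q (u + v) = Q u + Q v + B u v)

include hQs hQp in
/-- A nonzero singular vector of `A` orthogonal to two given vectors. -/
lemma exists_sing_orth2 (A : Submodule F V) (h5 : 5 ≤ finrank F A) (p q : V) :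
    ∃ w ∈ A, w ≠ 0 ∧ Q w = 0 ∧ B w p = 0 ∧ B w q = 0 := by
  have h1 := finrank_le_inf_ker_add_one A (B.flip p)
  have h2 := finrank_le_inf_ker_add_one (A ⊓ LinearMap.ker (B.flip p)) (B.flip q)
  obtain ⟨w, hw, hw0, hQw⟩ := exists_singular_in Q B hQs hQp
    (A ⊓ LinearMap.ker (B.flip p) ⊓ LinearMap.ker (B.flip q)) (by omega)
  exact ⟨w, hw.1.1, hw0, hQw, mem_ker_flip.mp hw.1.2, mem_ker_flip.mp hw.2⟩

include hQs hQp in
/-- A singular vector of a nondegenerate subspace not orthogonal to a given vector. -/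
lemma exists_sing_not_orth (A : Submodule F V)
    (hA : ∀ a ∈ A, a ≠ 0 → ∃ x ∈ A, B x a ≠ 0) (h3 : 3 ≤ finrank F A) {a : V}
    (ha : ∃ x ∈ A, B x a ≠ 0) : ∃ s ∈ A, Q s = 0 ∧ B s a ≠ 0 := by
  obtain ⟨s0, hs0A, hs00, hQs0⟩ := exists_singular_in Q B hQs hQp A h3
  by_cases h : B s0 a = 0
  · obtain ⟨x, hxA, hx1, hx2⟩ := exists_both_ne_zero B A (hA s0 hs0A hs00) ha
    refine ⟨x + (-(Q x / B x s0)) • s0, A.add_mem hxA (A.smul_mem _ hs0A),
      sing_adjust Q B hQs hQp hQs0 hx1, ?_⟩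
    rw [map_add, LinearMap.add_apply, map_smul, LinearMap.smul_apply, h, smul_zero, add_zero]
    exact hx2
  · exact ⟨s0, hs0A, hQs0, h⟩

include hQs hQp in
/-- The Siegel elements of a nondegenerate subspace `A` of dimension at least five act
irreducibly on `A`. -/
lemma irr (A : Submodule F V) (hA : ∀ a ∈ A, a ≠ 0 → ∃ x ∈ A, B x a ≠ 0) (h5 : 5 ≤ finrank F A)
    (X : Submodule F V)
    (hX : ∀ u ∈ A, ∀ v ∈ A, Q u = 0 → B u v = 0 → ∀ x ∈ X, sieg Q B u v x ∈ X)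
    {a a' : V} (hx : a + a' ∈ X) (ha : a ∈ A) (ha0 : a ≠ 0) (ha' : ∀ y ∈ A, B y a' = 0) :
    A ≤ X := by
  have hsymm := B_symm Q B hQp
  have hsapp := @sieg_apply F V _ _ _ Q B hQs hQp
  -- Step a
  obtain ⟨s, hsX, hsA, hs0, hQs'⟩ : ∃ s ∈ X, s ∈ A ∧ s ≠ 0 ∧ Q s = 0 := by
    obtain ⟨u, huA, hQu, hua⟩ := exists_sing_not_orth Q B hQs hQp A hA (by omega) (hA a ha ha0)
    obtain ⟨v, hvA, hv0, hQv, hvu, hva⟩ := exists_sing_orth2 Q B hQs hQp A h5 u a
    have huv : B u v = 0 := by rw [hsymm, hvu]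
    have h1 := hX u huA v hvA hQu huv _ hx
    rw [hsapp hQu huv] at h1
    have e1 : B (a + a') u = B u a := by
      rw [map_add, LinearMap.add_apply, hsymm a' u, ha' u huA, add_zero, hsymm]
    have e2 : B (a + a') v = 0 := by
      rw [map_add, LinearMap.add_apply, hsymm a' v, ha' v hvA, add_zero, hsymm, hva]
    rw [e1, e2, hQv] at h1
    have h2 := X.sub_mem h1 hx
    have e3 : a + a' + B u a • v - (0 : F) • u - ((0 : F) * B u a) • u - (a + a') = B u a • v := by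
      module
    rw [e3] at h2
    have h3 := X.smul_mem (B u a)⁻¹ h2
    rw [smul_smul, inv_mul_cancel₀ hua, one_smul] at h3
    exact ⟨v, h3, hvA, hv0, hQv⟩
  -- Step b1
  have hb1 : ∀ s ∈ X, s ∈ A → s ≠ 0 → Q s = 0 → ∀ u ∈ A, Q u = 0 → B s u = 0 → u ∈ X := by
    intro s hsX hsA hs0 _ u huA hQu hsu
    by_cases hus : ∃ c : F, u = c • s
    · obtain ⟨c, rfl⟩ := hus
      exact X.smul_mem _ hsX
    · obtain ⟨v, hvA, huv, hsv⟩ : ∃ v ∈ A, B u v = 0 ∧ B s v ≠ 0 := by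
        by_contra hcon
        push Not at hcon
        by_cases hu0 : u = 0
        · obtain ⟨x, hxA, hxs⟩ := hA s hsA hs0
          apply hxs
          rw [hsymm]
          exact hcon x hxA (by rw [hu0, map_zero, LinearMap.zero_apply])
        · obtain ⟨x, hxA, hxu⟩ := hA u huA hu0
          have hux : B u x ≠ 0 := by rw [hsymm]; exact hxu
          have hkey : ∀ y ∈ A, B (s - (B s x / B u x) • u) y = 0 := by
            intro y hy
            have hmem : y - (B u y / B u x) • x ∈ A := A.sub_mem hy (A.smul_mem _ hxA)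
            have h0 : B u (y - (B u y / B u x) • x) = 0 := by
              rw [map_sub, map_smul, smul_eq_mul, div_mul_cancel₀ _ hux, sub_self]
            have h1 := hcon _ hmem h0
            rw [map_sub, map_smul, smul_eq_mul] at h1
            rw [map_sub, LinearMap.sub_apply, map_smul, LinearMap.smul_apply, smul_eq_mul]
            field_simp
            field_simp at h1
            linear_combination h1
          have hz : s - (B s x / B u x) • u = 0 := by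
            by_contra hne
            obtain ⟨y, hyA, hy⟩ := hA _ (A.sub_mem hsA (A.smul_mem _ huA)) hne
            apply hy
            rw [hsymm]
            exact hkey y hyA
          obtain ⟨c, hs'⟩ : ∃ c : F, s = c • u := ⟨_, sub_eq_zero.mp hz⟩
          have hc0 : c ≠ 0 := by
            intro h
            rw [h, zero_smul] at hs'
            exact hs0 hs'
          apply hus
          refine ⟨c⁻¹, ?_⟩
          rw [hs', smul_smul, inv_mul_cancel₀ hc0, one_smul]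
      have h1 := hX u huA v hvA hQu huv _ hsX
      rw [hsapp hQu huv, hsu] at h1
      have h2 := X.sub_mem h1 hsX
      have e3 : s + (0 : F) • v - B s v • u - (Q v * 0) • u - s = (-(B s v)) • u := by module
      rw [e3] at h2
      have h3 := X.smul_mem (-(B s v))⁻¹ h2
      rw [smul_smul, inv_mul_cancel₀ (neg_ne_zero.mpr hsv), one_smul] at h3
      exact h3
  -- Step b2
  have hb2 : ∀ t ∈ A, Q t = 0 → t ∈ X := by
    intro t htA hQt
    obtain ⟨u, huA, hu0, hQu, hus, hut⟩ := exists_sing_orth2 Q B hQs hQp A h5 s t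
    have huX : u ∈ X := hb1 s hsX hsA hs0 hQs' u huA hQu (by rw [hsymm, hus])
    exact hb1 u huX huA hu0 hQu t htA hQt hut
  -- Step c
  intro a1 ha1
  by_cases ha10 : a1 = 0
  · rw [ha10]
    exact X.zero_mem
  obtain ⟨s1, hs1A, hQs1, hs1a⟩ := exists_sing_not_orth Q B hQs hQp A hA (by omega)
    (hA a1 ha1 ha10)
  have ha1s : B a1 s1 ≠ 0 := by rw [hsymm]; exact hs1a
  have h1 := sing_adjust Q B hQs hQp hQs1 ha1s
  have h2 := hb2 _ (A.add_mem ha1 (A.smul_mem _ hs1A)) h1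
  have h3 := hb2 s1 hs1A hQs1
  have h4 := X.sub_mem h2 (X.smul_mem (-(Q a1 / B a1 s1)) h3)
  rwa [add_sub_cancel_right] at h4


/-- `z` lies in the part of the Siegel group at `w` contained in `M`. -/
def InZ (M : Subgroup (V ≃ₗ[F] V)) (w z : V) : Prop :=
  B w z = 0 ∧ ∀ t : F, sieg Q B w (t • z) ∈ M

variable {Q B}

include hQs hQp in
lemma InZ_add {M : Subgroup (V ≃ₗ[F] V)} {w z z' : V} (hw : Q w = 0) (h1 : InZ Q B M w z)
    (h2 : InZ Q B M w z') : InZ Q B M w (z + z') := by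
  refine ⟨by rw [map_add, h1.1, h2.1, add_zero], fun t => ?_⟩
  rw [smul_add, ← sieg_mul Q B hQs hQp hw (by rw [map_smul, h1.1, smul_zero])
    (by rw [map_smul, h2.1, smul_zero])]
  exact M.mul_mem (h1.2 t) (h2.2 t)

lemma InZ_smul {M : Subgroup (V ≃ₗ[F] V)} {w z : V} (c : F) (h1 : InZ Q B M w z) :
    InZ Q B M w (c • z) := by
  refine ⟨by rw [map_smul, h1.1, smul_zero], fun t => ?_⟩
  rw [smul_smul]
  exact h1.2 (t * c)

include hQs hQp in
lemma InZ_sub {M : Subgroup (V ≃ₗ[F] V)} {w z z' : V} (hw : Q w = 0) (h1 : InZ Q B M w z)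
    (h2 : InZ Q B M w z') : InZ Q B M w (z - z') := by
  have := InZ_add hQs hQp hw h1 (InZ_smul (-1 : F) h2)
  rwa [neg_one_smul, ← sub_eq_add_neg] at this

include hQs hQp in
lemma InZ_zero {M : Subgroup (V ≃ₗ[F] V)} {w : V} (hw : Q w = 0) : InZ Q B M w 0 := by
  refine ⟨by simp, fun t => ?_⟩
  rw [smul_zero, sieg_zero_right Q B hQs hQp hw]
  exact M.one_mem

include hQs hQp in
lemma InZ_map {M : Subgroup (V ≃ₗ[F] V)} {g : V ≃ₗ[F] V} (hgM : g ∈ M) (hgO : g ∈ oG Q)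
    {w z : V} (hw : Q w = 0) (h : InZ Q B M w z) : InZ Q B M (g w) (g z) := by
  refine ⟨by rw [oG_B Q B hQp hgO, h.1], fun t => ?_⟩
  have h1 := conj_sieg Q B hQs hQp hgO hw (z := t • z) (by rw [map_smul, h.1, smul_zero])
  rw [map_smul] at h1
  rw [← h1]
  exact M.mul_mem (M.mul_mem hgM (h.2 t)) (M.inv_mem hgM)

include hQs hQp in
lemma sieg_mem_stab_of_mem (A' : Submodule F V) {u v : V} (hu : u ∈ A') (hv : v ∈ A')
    (hQu : Q u = 0) (huv : B u v = 0) : sieg Q B u v ∈ stab A' := by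
  apply mem_stab_of_forall_mem
  intro x hx
  rw [sieg_apply Q B hQs hQp hQu huv]
  exact A'.sub_mem (A'.sub_mem (A'.add_mem hx (A'.smul_mem _ hv)) (A'.smul_mem _ hu))
    (A'.smul_mem _ hu)

include hQs hQp in
lemma sieg_mem_stab_of_orth (A A' : Submodule F V) (hAA' : ∀ a ∈ A, ∀ a' ∈ A', B a a' = 0)
    {u v : V} (hu : u ∈ A) (hv : v ∈ A)
    (hQu : Q u = 0) (huv : B u v = 0) : sieg Q B u v ∈ stab A' := by
  have hsymm := B_symm Q B hQp
  apply mem_stab_of_forall_mem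
  intro x hx
  rw [sieg_apply Q B hQs hQp hQu huv, hsymm x u, hsymm x v, hAA' u hu x hx, hAA' v hv x hx]
  simpa using hx

include hQp in
lemma nondegOn_left (hN : B.Nondegenerate) (A A' : Submodule F V)
    (hAA' : ∀ a ∈ A, ∀ a' ∈ A', B a a' = 0) (hsup : A ⊔ A' = ⊤) :
    ∀ a ∈ A, a ≠ 0 → ∃ x ∈ A, B x a ≠ 0 := by
  have hsymm := B_symm Q B hQp
  intro a ha ha0
  by_contra hcon
  push Not at hcon
  apply ha0
  apply hN.2 a
  intro x
  obtain ⟨x1, hx1, x2, hx2, rfl⟩ := Submodule.mem_sup.mp (hsup ▸ Submodule.mem_top : x ∈ A ⊔ A')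
  rw [map_add, LinearMap.add_apply, hcon x1 hx1, hsymm x2 a, hAA' a ha x2 hx2, add_zero]

include hQp in
lemma nondegOn_right (hN : B.Nondegenerate) (A A' : Submodule F V)
    (hAA' : ∀ a ∈ A, ∀ a' ∈ A', B a a' = 0) (hsup : A ⊔ A' = ⊤) :
    ∀ a ∈ A', a ≠ 0 → ∃ x ∈ A', B x a ≠ 0 := by
  have hsymm := B_symm Q B hQp
  apply nondegOn_left hQp hN A' A (fun a ha a' ha' => by rw [hsymm]; exact hAA' a' ha' a ha)
  rw [sup_comm]
  exact hsup

include hQs hQp in
/-- If the part of the Siegel group at `w ∈ A'` contained in `M` is not inside `A'`, then the full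
Siegel group at `w` lies in `M`. -/
lemma full_of_notMem (hN : B.Nondegenerate) (A A' : Submodule F V)
    (hAA' : ∀ a ∈ A, ∀ a' ∈ A', B a a' = 0) (hsup : A ⊔ A' = ⊤) (h5 : 5 ≤ finrank F A)
    (G M : Subgroup (V ≃ₗ[F] V)) (hG2 : ∀ u z, Q u = 0 → B u z = 0 → sieg Q B u z ∈ G)
    (hHM : stab A' ⊓ G ≤ M) {w : V} (hwA' : w ∈ A') (hw : Q w = 0)
    {z : V} (hz : InZ Q B M w z) (hzA' : z ∉ A') :
    ∀ z, B w z = 0 → sieg Q B w z ∈ M := by
  have hsymm := B_symm Q B hQp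
  have hdec : ∀ x : V, ∃ a ∈ A, ∃ a' ∈ A', a + a' = x := fun x =>
    Submodule.mem_sup.mp (hsup ▸ Submodule.mem_top)
  have hAnd := nondegOn_left hQp hN A A' hAA' hsup
  obtain ⟨x, hxA, y, hyA', hxy⟩ := hdec z
  have hx0 : x ≠ 0 := by
    rintro rfl
    apply hzA'
    rw [← hxy, zero_add]
    exact hyA'
  have hwA : ∀ x ∈ A, B w x = 0 := fun x hx => by rw [hsymm]; exact hAA' x hx w hwA'
  have hwy : B w y = 0 := by
    have := hz.1
    rw [← hxy, map_add, hwA x hxA, zero_add] at this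
    exact this
  have hHA' : ∀ y ∈ A', B w y = 0 → InZ Q B M w y := fun y hy hwy =>
    ⟨hwy, fun t => hHM ⟨sieg_mem_stab_of_mem hQs hQp A' hwA' (A'.smul_mem t hy) hw
      (by rw [map_smul, hwy, smul_zero]), hG2 _ _ hw (by rw [map_smul, hwy, smul_zero])⟩⟩
  have hxZ : InZ Q B M w x := by
    have := InZ_sub hQs hQp hw hz (hHA' y hyA' hwy)
    rwa [← hxy, add_sub_cancel_right] at this
  let X : Submodule F V :=
    { carrier := {z | InZ Q B M w z}
      add_mem' := fun h1 h2 => InZ_add hQs hQp hw h1 h2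
      zero_mem' := InZ_zero hQs hQp hw
      smul_mem' := fun c _ h1 => InZ_smul c h1 }
  have hXinv : ∀ u ∈ A, ∀ v ∈ A, Q u = 0 → B u v = 0 → ∀ x ∈ X, sieg Q B u v x ∈ X := by
    intro u hu v hv hQu huv x hx
    have hgM : sieg Q B u v ∈ M :=
      hHM ⟨sieg_mem_stab_of_orth hQs hQp A A' hAA' hu hv hQu huv, hG2 u v hQu huv⟩
    have hgO := sieg_mem_oG Q B hQs hQp hQu huv
    have hfix : sieg Q B u v w = w := by
      rw [sieg_apply Q B hQs hQp hQu huv, hwA u hu, hwA v hv]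
      simp
    have h1 : InZ Q B M (sieg Q B u v w) (sieg Q B u v x) := InZ_map hQs hQp hgM hgO hw hx
    rw [hfix] at h1
    exact h1
  have hAX : A ≤ X := irr Q B hQs hQp A hAnd h5 X hXinv (a := x) (a' := 0)
    (by rw [add_zero]; exact hxZ) hxA hx0 (fun y _ => by simp)
  intro z' hwz'
  obtain ⟨x', hx'A, y', hy'A', hx'y'⟩ := hdec z'
  have hwy' : B w y' = 0 := by
    have := hwz'
    rw [← hx'y', map_add, hwA x' hx'A, zero_add] at this
    exact this
  have h1 : InZ Q B M w x' := hAX hx'A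
  have h2 := hHA' y' hy'A' hwy'
  have h3 := InZ_add hQs hQp hw h1 h2
  rw [hx'y'] at h3
  have h4 := h3.2 1
  rwa [one_smul] at h4

include hQs hQp in
lemma stab_of_fix (A' : Submodule F V) (h5' : 5 ≤ finrank F A')
    (G M : Subgroup (V ≃ₗ[F] V)) (hG2 : ∀ u z, Q u = 0 → B u z = 0 → sieg Q B u z ∈ G)
    (hHM : stab A' ⊓ G ≤ M)
    (hZ : ∀ w ∈ A', w ≠ 0 → Q w = 0 → ∀ z, InZ Q B M w z → z ∈ A')
    {g : V ≃ₗ[F] V} (hgM : g ∈ M) (hgO : g ∈ oG Q) {w : V} (hwA' : w ∈ A') (hw0 : w ≠ 0)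
    (hw : Q w = 0) (hgw : g w ∈ A') : ∀ y ∈ A', g y ∈ A' := by
  have hsymm := B_symm Q B hQp
  have key : ∀ w ∈ A', w ≠ 0 → Q w = 0 → g w ∈ A' → ∀ y ∈ A', B w y = 0 → g y ∈ A' := by
    intro w hwA' hw0 hw hgw y hy hwy
    have h1 : InZ Q B M w y :=
      ⟨hwy, fun t => hHM ⟨sieg_mem_stab_of_mem hQs hQp A' hwA' (A'.smul_mem t hy) hw
        (by rw [map_smul, hwy, smul_zero]), hG2 _ _ hw (by rw [map_smul, hwy, smul_zero])⟩⟩
    have h2 := InZ_map hQs hQp hgM hgO hw h1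
    have hgw0 : g w ≠ 0 := fun h => hw0 (g.injective (h.trans (map_zero g).symm))
    exact hZ (g w) hgw hgw0 (by rw [hgO, hw]) (g y) h2
  intro y hy
  obtain ⟨w2, hw2A', hw20, hQw2, hw2w, hw2y⟩ := exists_sing_orth2 Q B hQs hQp A' h5' w y
  have hgw2 := key w hwA' hw0 hw hgw w2 hw2A' (by rw [hsymm]; exact hw2w)
  exact key w2 hw2A' hw20 hQw2 hgw2 y hy hw2y


include hQs hQp in
lemma stab_of_general (hN : B.Nondegenerate) (A A' : Submodule F V)
    (hAA' : ∀ a ∈ A, ∀ a' ∈ A', B a a' = 0) (hsup : A ⊔ A' = ⊤) (h5 : 5 ≤ finrank F A)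
    (h5' : 5 ≤ finrank F A')
    (G M : Subgroup (V ≃ₗ[F] V)) (hG2 : ∀ u z, Q u = 0 → B u z = 0 → sieg Q B u z ∈ G)
    (hHM : stab A' ⊓ G ≤ M) (hMO : M ≤ oG Q)
    (hZ : ∀ w ∈ A', w ≠ 0 → Q w = 0 → ∀ z, InZ Q B M w z → z ∈ A')
    (hni : ∀ g ∈ oG Q, ¬ ∀ y ∈ A', g y ∈ A)
    {m : V ≃ₗ[F] V} (hmM : m ∈ M) : ∀ y ∈ A', m y ∈ A' := by
  have hsymm := B_symm Q B hQp
  have hmO := hMO hmM
  have hdec : ∀ x : V, ∃ a ∈ A, ∃ a' ∈ A', a + a' = x := fun x =>
    Submodule.mem_sup.mp (hsup ▸ Submodule.mem_top)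
  have hAnd := nondegOn_left hQp hN A A' hAA' hsup
  have hA'nd := nondegOn_right hQp hN A A' hAA' hsup
  have hinf : A ⊓ A' = ⊥ := by
    rw [eq_bot_iff]
    rintro x ⟨hx, hx'⟩
    by_contra hx0
    obtain ⟨y, hy, hyx⟩ := hAnd x hx hx0
    exact hyx (hAA' y hy x hx')
  by_cases c : ∃ w ∈ A', w ≠ 0 ∧ Q w = 0 ∧ m w ∈ A'
  · obtain ⟨w, hwA', hw0, hw, hmw⟩ := c
    exact stab_of_fix hQs hQp A' h5' G M hG2 hHM hZ hmM hmO hwA' hw0 hw hmw
  -- general position
  have hHelt : ∀ u z, ((u ∈ A' ∧ z ∈ A') ∨ (u ∈ A ∧ z ∈ A)) → Q u = 0 → B u z = 0 →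
      ∀ x ∈ A'.map (m : V →ₗ[F] V), sieg Q B u z x ∈ A'.map (m : V →ₗ[F] V) := by
    intro u z huz hQu hBuz x hx
    have hhM : sieg Q B u z ∈ M := by
      apply hHM
      refine ⟨?_, hG2 u z hQu hBuz⟩
      rcases huz with ⟨hu, hz⟩ | ⟨hu, hz⟩
      · exact sieg_mem_stab_of_mem hQs hQp A' hu hz hQu hBuz
      · exact sieg_mem_stab_of_orth hQs hQp A A' hAA' hu hz hQu hBuz
    have hhO := sieg_mem_oG Q B hQs hQp hQu hBuz
    obtain ⟨w, hwA', hw0, hQw, hw1, hw2⟩ :=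
      exists_sing_orth2 Q B hQs hQp A' h5' (m⁻¹ u) (m⁻¹ z)
    have hmwu : B (m w) u = 0 := by
      have := oG_B Q B hQp hmO w (m⁻¹ u)
      rw [apply_inv_apply'] at this
      rw [this]
      exact hw1
    have hmwz : B (m w) z = 0 := by
      have := oG_B Q B hQp hmO w (m⁻¹ z)
      rw [apply_inv_apply'] at this
      rw [this]
      exact hw2
    have hfix : sieg Q B u z (m w) = m w := by
      rw [sieg_apply Q B hQs hQp hQu hBuz, hmwu, hmwz]
      simp
    have hm'M : m⁻¹ * sieg Q B u z * m ∈ M := M.mul_mem (M.mul_mem (M.inv_mem hmM) hhM) hmM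
    have hm'O : m⁻¹ * sieg Q B u z * m ∈ oG Q := hMO hm'M
    have hm'w : (m⁻¹ * sieg Q B u z * m) w = w := by
      simp only [LinearEquiv.mul_apply]
      rw [hfix, inv_apply_apply']
    have hst := stab_of_fix hQs hQp A' h5' G M hG2 hHM hZ hm'M hm'O hwA' hw0 hQw
      (by rw [hm'w]; exact hwA')
    obtain ⟨y, hy, rfl⟩ := hx
    refine ⟨(m⁻¹ * sieg Q B u z * m) y, hst y hy, ?_⟩
    simp only [LinearEquiv.mul_apply, LinearEquiv.coe_coe]
    rw [apply_inv_apply']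
  have hXfr : finrank F (A'.map (m : V →ₗ[F] V)) = finrank F A' := LinearEquiv.finrank_map_eq m A'
  have hV : finrank F V = finrank F A + finrank F A' := by
    have := Submodule.finrank_sup_add_finrank_inf_eq A A'
    rw [hsup, hinf, finrank_bot, finrank_top] at this
    omega
  by_cases c1 : ∃ a ∈ A, ∃ a' ∈ A', a + a' ∈ A'.map (m : V →ₗ[F] V) ∧ a ≠ 0
  · obtain ⟨a, ha, a', ha', hx, ha0⟩ := c1
    have hAX : A ≤ A'.map (m : V →ₗ[F] V) :=
      irr Q B hQs hQp A hAnd h5 _ (fun u hu v hv hQu huv x hx => hHelt u v (Or.inr ⟨hu, hv⟩) hQu huv x hx)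
        hx ha ha0 (fun y hy => hAA' y hy a' ha')
    by_cases c2 : ∃ a ∈ A, ∃ a' ∈ A', a + a' ∈ A'.map (m : V →ₗ[F] V) ∧ a' ≠ 0
    · exfalso
      obtain ⟨b, hb, b', hb', hx2, hb'0⟩ := c2
      have hA'X : A' ≤ A'.map (m : V →ₗ[F] V) :=
        irr Q B hQs hQp A' hA'nd h5' _
          (fun u hu v hv hQu huv x hx => hHelt u v (Or.inl ⟨hu, hv⟩) hQu huv x hx)
          (a := b') (a' := b) (by rw [add_comm]; exact hx2) hb' hb'0
          (fun y hy => by rw [hsymm]; exact hAA' b hb y hy)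
      have htop : A'.map (m : V →ₗ[F] V) = ⊤ := by
        rw [eq_top_iff, ← hsup]
        exact sup_le hAX hA'X
      rw [htop, finrank_top] at hXfr
      omega
    · exfalso
      push Not at c2
      apply hni m hmO
      intro y hy
      obtain ⟨b, hb, b', hb', hbb'⟩ := hdec (m y)
      have hmem : b + b' ∈ A'.map (m : V →ₗ[F] V) := by
        rw [hbb']
        exact ⟨y, hy, rfl⟩
      have := c2 b hb b' hb' hmem
      rw [← hbb', this, add_zero]
      exact hb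
  · push Not at c1
    intro y hy
    obtain ⟨b, hb, b', hb', hbb'⟩ := hdec (m y)
    have hmem : b + b' ∈ A'.map (m : V →ₗ[F] V) := by
      rw [hbb']
      exact ⟨y, hy, rfl⟩
    have := c1 b hb b' hb' hmem
    rw [← hbb', this, zero_add]
    exact hb'

include hQs hQp in
lemma all_of_full (hN : B.Nondegenerate) (A A' : Submodule F V)
    (hAA' : ∀ a ∈ A, ∀ a' ∈ A', B a a' = 0) (hsup : A ⊔ A' = ⊤)
    (h5' : 5 ≤ finrank F A')
    (G M : Subgroup (V ≃ₗ[F] V)) (hG2 : ∀ u z, Q u = 0 → B u z = 0 → sieg Q B u z ∈ G)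
    (hHM : stab A' ⊓ G ≤ M) (hMO : M ≤ oG Q)
    {w : V} (hwA' : w ∈ A') (hw0 : w ≠ 0) (hw : Q w = 0)
    (hfull : ∀ z, B w z = 0 → sieg Q B w z ∈ M) :
    ∀ u z, Q u = 0 → B u z = 0 → sieg Q B u z ∈ M := by
  have hsymm := B_symm Q B hQp
  have hA'nd := nondegOn_right hQp hN A A' hAA' hsup
  obtain ⟨u, huA', hQu, huw⟩ := exists_sing_not_orth Q B hQs hQp A' hA'nd (by omega)
    (hA'nd w hwA' hw0)
  have hu0 : u ≠ 0 := by
    rintro rfl
    apply huw
    rw [map_zero, LinearMap.zero_apply]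
  -- a nonsingular vector of `A'` orthogonal to `u`
  obtain ⟨v, hvA', huv, hQv⟩ : ∃ v ∈ A', B u v = 0 ∧ Q v ≠ 0 := by
    obtain ⟨u', hu'A', hu'u⟩ := hA'nd u huA' hu0
    have huu' : B u u' ≠ 0 := by rw [hsymm]; exact hu'u
    obtain ⟨x, hxA', hx0, -, hxu, hxu'⟩ := exists_sing_orth2 Q B hQs hQp A' h5' u u'
    obtain ⟨y0, hy0A', hy0x⟩ := hA'nd x hxA' hx0
    have hxy0 : B x y0 ≠ 0 := by rw [hsymm]; exact hy0x
    have hyA' : y0 - (B u y0 / B u u') • u' ∈ A' := A'.sub_mem hy0A' (A'.smul_mem _ hu'A')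
    have huy : B u (y0 - (B u y0 / B u u') • u') = 0 := by
      rw [map_sub, map_smul, smul_eq_mul, div_mul_cancel₀ _ huu', sub_self]
    have hxy : B x (y0 - (B u y0 / B u u') • u') ≠ 0 := by
      rw [map_sub, map_smul, hxu', smul_zero, sub_zero]
      exact hxy0
    have hux : B u x = 0 := by rw [hsymm]; exact hxu
    generalize y0 - (B u y0 / B u u') • u' = y at hyA' huy hxy
    by_cases h1 : Q x = 0
    · by_cases h2 : Q y = 0
      · refine ⟨x + y, A'.add_mem hxA' hyA', by rw [map_add, hux, huy, add_zero], ?_⟩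
        rw [hQp, h1, h2, zero_add, zero_add]
        exact hxy
      · exact ⟨y, hyA', huy, h2⟩
    · exact ⟨x, hxA', hux, h1⟩
  have hhM : sieg Q B u v ∈ M :=
    hHM ⟨sieg_mem_stab_of_mem hQs hQp A' huA' hvA' hQu huv, hG2 u v hQu huv⟩
  have hhO := sieg_mem_oG Q B hQs hQp hQu huv
  apply all_of_pair Q B hQs hQp hN M hMO (w1 := w) (w2 := sieg Q B u v w) ⟨hw, hfull⟩
  · refine ⟨by rw [hhO, hw], ?_⟩
    intro z hz
    have h1 : B w ((sieg Q B u v)⁻¹ z) = 0 := by
      have := oG_B Q B hQp hhO w ((sieg Q B u v)⁻¹ z)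
      rw [apply_inv_apply'] at this
      rw [← this]
      exact hz
    have h2 := conj_sieg Q B hQs hQp hhO hw h1
    rw [apply_inv_apply'] at h2
    rw [← h2]
    exact M.mul_mem (M.mul_mem hhM (hfull _ h1)) (M.inv_mem hhM)
  · rw [sieg_apply Q B hQs hQp hQu huv]
    have hww : B w w = 0 := by rw [B_self Q B hQs hQp, hw, mul_zero]
    simp only [map_add, map_sub, map_smul, smul_eq_mul, hww]
    have hwu : B w u ≠ 0 := by rw [hsymm]; exact huw
    have : 0 + B w u * B w v - B w v * B w u - Q v * B w u * B w u = -(Q v * B w u * B w u) := by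
      ring
    rw [this]
    exact neg_ne_zero.mpr (mul_ne_zero (mul_ne_zero hQv hwu) hwu)

include hQs hQp in
/-- **Maximality of the stabiliser of a nondegenerate subspace** `A'` (with orthogonal complement
`A`, both of dimension at least five, `A'` not isometrically embeddable into `A`). -/
theorem maximal_stab_nondeg (hN : B.Nondegenerate) (G : Subgroup (V ≃ₗ[F] V)) (hG1 : G ≤ oG Q)
    (hG2 : ∀ u z, Q u = 0 → B u z = 0 → sieg Q B u z ∈ G)
    (hG3 : ∀ M : Subgroup (V ≃ₗ[F] V),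
      (∀ u z, Q u = 0 → B u z = 0 → sieg Q B u z ∈ M) → G ≤ M)
    (A A' : Submodule F V)
    (hAA' : ∀ a ∈ A, ∀ a' ∈ A', B a a' = 0) (hsup : A ⊔ A' = ⊤) (h5 : 5 ≤ finrank F A)
    (h5' : 5 ≤ finrank F A')
    (hni : ∀ g ∈ oG Q, ¬ ∀ y ∈ A', g y ∈ A) :
    (stab A' ⊓ G < G) ∧
      ∀ M : Subgroup (V ≃ₗ[F] V), stab A' ⊓ G ≤ M → M ≤ G → M = stab A' ⊓ G ∨ M = G := by
  have hsymm := B_symm Q B hQp
  have hAnd := nondegOn_left hQp hN A A' hAA' hsup
  have hA'nd := nondegOn_right hQp hN A A' hAA' hsup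
  have hinf : A ⊓ A' = ⊥ := by
    rw [eq_bot_iff]
    rintro x ⟨hx, hx'⟩
    by_contra hx0
    obtain ⟨y, hy, hyx⟩ := hAnd x hx hx0
    exact hyx (hAA' y hy x hx')
  constructor
  · refine lt_of_le_of_ne inf_le_right ?_
    intro heq
    obtain ⟨u, huA', hu0, hQu, -, -⟩ := exists_sing_orth2 Q B hQs hQp A' h5' 0 0
    obtain ⟨z, hzA, hz0, -, -, -⟩ := exists_sing_orth2 Q B hQs hQp A h5 0 0
    obtain ⟨x, hxA', hxu⟩ := hA'nd u huA' hu0
    have huz : B u z = 0 := by rw [hsymm]; exact hAA' z hzA u huA'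
    have hg : sieg Q B u z ∈ stab A' ⊓ G := by
      rw [heq]
      exact hG2 u z hQu huz
    have h1 := (mem_stab.mp hg.1 x).mp hxA'
    rw [sieg_apply Q B hQs hQp hQu huz, hsymm x z, hAA' z hzA x hxA'] at h1
    have h2 : B x u • z ∈ A' := by
      have h3 := A'.add_mem (A'.sub_mem h1 hxA') (A'.smul_mem (Q z * B x u) huA')
      have e : x + B x u • z - (0 : F) • u - (Q z * B x u) • u - x + (Q z * B x u) • u =
          B x u • z := by module
      rwa [e] at h3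
    have h4 : z ∈ A' := by
      have := A'.smul_mem (B x u)⁻¹ h2
      rwa [smul_smul, inv_mul_cancel₀ hxu, one_smul] at this
    have : z ∈ (A ⊓ A' : Submodule F V) := ⟨hzA, h4⟩
    rw [hinf, Submodule.mem_bot] at this
    exact hz0 this
  · intro M hHM hMG
    have hMO : M ≤ oG Q := hMG.trans hG1
    by_cases hZ : ∀ w ∈ A', w ≠ 0 → Q w = 0 → ∀ z, InZ Q B M w z → z ∈ A'
    · left
      apply le_antisymm _ hHM
      intro m hmM
      refine ⟨mem_stab_of_forall_mem ?_, hMG hmM⟩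
      exact stab_of_general hQs hQp hN A A' hAA' hsup h5 h5' G M hG2 hHM hMO hZ hni hmM
    · right
      push Not at hZ
      obtain ⟨w, hwA', hw0, hw, z, hz, hzA'⟩ := hZ
      apply le_antisymm hMG
      apply hG3
      have hfull := full_of_notMem hQs hQp hN A A' hAA' hsup h5 G M hG2 hHM hwA' hw hz hzA'
      exact all_of_full hQs hQp hN A A' hAA' hsup h5' G M hG2 hHM hMO hwA' hw0 hw hfull

end

end Cfsg.Agent.Lib.Helper94_OrthNondeg
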