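import Mathlib
import Cfsg.Agent.Lib.Helper94_OrthNondeg

set_option autoImplicit false

/-!
Vocabulary for the maximality of the stabiliser of an orthogonal decomposition
`V = D 0 ⊥ … ⊥ D (t-1)` into isometric nondegenerate blocks of dimension `k ≥ 3`
inside `Ω(V) = [O(V), O(V)]`, in the abstract setting of helper94
(`Q : V → F`, `B` its polar form, `sieg`, `oG`, `InZ`).  (helper29, row S5677)
-/

namespace Cfsg.Agent.Lib.Helper29_ODDefs

open Module Cfsg.Agent.Lib.Helper94_Symp Cfsg.Agent.Lib.Helper94_OrthSmall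
  Cfsg.Agent.Lib.Helper94_OrthSiegel Cfsg.Agent.Lib.Helper94_OrthNondeg

variable {F V : Type*} [Field F] [AddCommGroup V] [Module F V]

/-- An orthogonal decomposition of `V` into `t` pairwise orthogonal, pairwise isometric
nondegenerate blocks of dimension `k`. -/
structure ODec (Q : V → F) (B : LinearMap.BilinForm F V) {t : ℕ} (k : ℕ)
    (D : Fin t → Submodule F V) : Prop where
  fr : ∀ i, finrank F (D i) = k
  sup : iSup D = ⊤
  nd : ∀ i, ∀ a ∈ D i, a ≠ 0 → ∃ x ∈ D i, B x a ≠ 0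
  orth : ∀ i j, i ≠ j → ∀ u ∈ D i, ∀ v ∈ D j, B u v = 0
  iso : ∀ i j, ∃ e : D i ≃ₗ[F] D j, ∀ w : D i, Q ((e w : D j) : V) = Q (w : V)

/-- `y` is orthogonal to the block `D j` (its `j`-th component vanishes). -/
def Perp (B : LinearMap.BilinForm F V) {t : ℕ} (D : Fin t → Submodule F V) (y : V) (j : Fin t) :
    Prop :=
  ∀ d ∈ D j, B y d = 0

open Classical in
/-- The support of `y`: the blocks to which `y` is not orthogonal. -/
noncomputable def supp (B : LinearMap.BilinForm F V) {t : ℕ} (D : Fin t → Submodule F V) (y : V) :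
    Finset (Fin t) :=
  Finset.univ.filter (fun j => ¬ Perp B D y j)

/-- The decomposition stabiliser (as a predicate on a subgroup `S`). -/
def IsDStab {t : ℕ} (D : Fin t → Submodule F V) (S : Subgroup (V ≃ₗ[F] V)) : Prop :=
  ∀ g, g ∈ S ↔ ∃ σ : Equiv.Perm (Fin t), ∀ i, (D i).map (g : V →ₗ[F] V) = D (σ i)

/-- `i ~ j`: the Siegel groups of `M` at the singular vectors of `D i` contain `D j`. -/
def Edge (Q : V → F) (B : LinearMap.BilinForm F V) {t : ℕ} (D : Fin t → Submodule F V)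
    (M : Subgroup (V ≃ₗ[F] V)) (i j : Fin t) : Prop :=
  ∀ x ∈ D i, x ≠ 0 → Q x = 0 → ∀ z ∈ D j, InZ Q B M x z

/-- `y` is a nonzero singular vector of an `M`-image of a block. -/
def SingAdm (Q : V → F) {t : ℕ} (D : Fin t → Submodule F V) (M : Subgroup (V ≃ₗ[F] V)) (y : V) :
    Prop :=
  y ≠ 0 ∧ Q y = 0 ∧ ∃ g ∈ M, ∃ i, y ∈ (D i).map (g : V →ₗ[F] V)

/-- The part of the Siegel group at the singular vector `y` contained in `M` is exactly the
plane `⟨y, n⟩`, with `n` nonsingular and orthogonal to `y`. -/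
structure RootPair (Q : V → F) (B : LinearMap.BilinForm F V) (M : Subgroup (V ≃ₗ[F] V))
    (y n : V) : Prop where
  y0 : y ≠ 0
  Qy : Q y = 0
  Byn : B y n = 0
  Qn : Q n ≠ 0
  inz : ∀ z, InZ Q B M y z ↔ ∃ a b : F, z = a • y + b • n

/-- Case B hypothesis: the Siegel groups of `M` at singular vectors of blocks stay inside the
blocks. -/
def CaseB (Q : V → F) (B : LinearMap.BilinForm F V) {t : ℕ} (D : Fin t → Submodule F V)
    (M : Subgroup (V ≃ₗ[F] V)) : Prop :=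
  ∀ i, ∀ w ∈ D i, w ≠ 0 → Q w = 0 → ∀ z, InZ Q B M w z → z ∈ D i

/-- Orthogonal projections onto the blocks of a decomposition, with their basic properties. -/
structure Projs (Q : V → F) (B : LinearMap.BilinForm F V) {t : ℕ} (D : Fin t → Submodule F V)
    (π : Fin t → (V →ₗ[F] V)) : Prop where
  mem : ∀ j v, π j v ∈ D j
  perp : ∀ j v, Perp B D (v - π j v) j
  id_on : ∀ j, ∀ v ∈ D j, π j v = v
  zero_on : ∀ i j, i ≠ j → ∀ v ∈ D i, π j v = 0
  sum : ∀ v, ∑ j, π j v = v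
  perp_iff : ∀ y j, Perp B D y j ↔ π j y = 0
  B_left : ∀ j y, ∀ d ∈ D j, B y d = B (π j y) d
  Q_sum : ∀ v, Q v = ∑ j, Q (π j v)

/-- Irreducibility of the Siegel elements of a nondegenerate subspace of dimension at least three
(odd characteristic), in the form used for invariant subspaces of the ambient space. -/
def Irr3 (Q : V → F) (B : LinearMap.BilinForm F V) : Prop :=
  ∀ (A X : Submodule F V), (∀ a ∈ A, a ≠ 0 → ∃ x ∈ A, B x a ≠ 0) → 3 ≤ finrank F A →
    (∀ u ∈ A, ∀ v ∈ A, Q u = 0 → B u v = 0 → ∀ x ∈ X, sieg Q B u v x ∈ X) →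
    ∀ a a' : V, a + a' ∈ X → a ∈ A → a ≠ 0 → (∀ y ∈ A, B y a' = 0) → A ≤ X

/-- `Ω = [O, O]` contains elements inducing every 3-cycle on the blocks. -/
def ThreeCycles (Q : V → F) {t : ℕ} (D : Fin t → Submodule F V) : Prop :=
  ∀ a b c : Fin t, a ≠ b → a ≠ c → b ≠ c →
    ∃ g ∈ ⁅oG Q, oG Q⁆, ∃ σ : Equiv.Perm (Fin t),
      (∀ i, (D i).map (g : V →ₗ[F] V) = D (σ i)) ∧ σ a = b ∧ σ b = c

/-- The common hypotheses: `M` is a group of isometries containing the stabiliser `S ⊓ Ω` of the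
decomposition `D` in `Ω = [O, O]`. -/
structure Ctx (Q : V → F) (B : LinearMap.BilinForm F V) {t : ℕ} (k : ℕ)
    (D : Fin t → Submodule F V) (S M : Subgroup (V ≃ₗ[F] V)) : Prop where
  hQs : ∀ (c : F) (v : V), Q (c • v) = c * c * Q v
  hQp : ∀ u v : V, Q (u + v) = Q u + Q v + B u v
  h2 : (2 : F) ≠ 0
  hN : B.Nondegenerate
  hD : ODec Q B k D
  ht : 3 ≤ t
  hk : 3 ≤ k
  hS : IsDStab D S
  hG2 : ∀ u z, Q u = 0 → B u z = 0 → sieg Q B u z ∈ ⁅oG Q, oG Q⁆
  hHM : S ⊓ ⁅oG Q, oG Q⁆ ≤ M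
  hMO : M ≤ oG Q

/-- (∗a): the Siegel group of `M` at a singular vector `y` of an `M`-image `U` of a block is
`U ∩ y^⊥`. -/
def StarA (Q : V → F) (B : LinearMap.BilinForm F V) {t : ℕ} (D : Fin t → Submodule F V)
    (M : Subgroup (V ≃ₗ[F] V)) : Prop :=
  ∀ g ∈ M, ∀ i, ∀ y ∈ (D i).map (g : V →ₗ[F] V), y ≠ 0 → Q y = 0 →
    ∀ z, InZ Q B M y z ↔ (z ∈ (D i).map (g : V →ₗ[F] V) ∧ B y z = 0)

/-- (∗b): the Siegel group of `M` at `y` is supported on the support of `y`. -/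
def StarB (Q : V → F) (B : LinearMap.BilinForm F V) {t : ℕ} (D : Fin t → Submodule F V)
    (M : Subgroup (V ≃ₗ[F] V)) : Prop :=
  ∀ y, SingAdm Q D M y → ∀ j, Perp B D y j → ∀ z, InZ Q B M y z → Perp B D z j

end Cfsg.Agent.Lib.Helper29_ODDefs
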