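import Mathlib
import Cfsg.Agent.Lib.Helper94_Symp
import Cfsg.Agent.Lib.Helper94_OrthSmall
import Cfsg.Agent.Lib.Helper94_OrthSiegel
import Cfsg.Agent.Lib.Helper94_OrthSiegel2
import Cfsg.Agent.Lib.Helper94_OrthPara
import Cfsg.Agent.Lib.Helper94_OrthVec
import Cfsg.Agent.Lib.Helper94_OrthNondeg

set_option autoImplicit false

/-!
Orthogonal groups: irreducibility of the full isometry group of a nondegenerate quadratic space
(reflections together with Siegel elements), with the hyperbolic planes over the fields of order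
two and three as the only exceptions, and maximality of the stabiliser of a nondegenerate subspace
whose complement has small dimension (helper94).
-/

namespace Cfsg.Agent.Lib.Helper94_OrthRefl

open Module Cfsg.Agent.Lib.Helper94_Symp Cfsg.Agent.Lib.Helper94_OrthSmall
  Cfsg.Agent.Lib.Helper94_OrthSiegel Cfsg.Agent.Lib.Helper94_OrthSiegel2
  Cfsg.Agent.Lib.Helper94_OrthPara Cfsg.Agent.Lib.Helper94_OrthVec
  Cfsg.Agent.Lib.Helper94_OrthNondeg
open scoped commutatorElement

variable {F V : Type*} [Field F] [AddCommGroup V] [Module F V]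

section Irr

variable [FiniteDimensional F V] {Q : V → F} {B : LinearMap.BilinForm F V}
  (hQs : ∀ (c : F) (v : V), Q (c • v) = c * c * Q v)
  (hQp : ∀ u v : V, Q (u + v) = Q u + Q v + B u v)

lemma finrank_span_pair_le (x y : V) : finrank F (Submodule.span F ({x, y} : Set V)) ≤ 2 := by
  classical
  have h6 := finrank_span_finset_le_card (R := F) ({x, y} : Finset V)
  have h7 : (({x, y} : Finset V) : Set V) = {x, y} := by simp
  rw [h7, Set.finrank] at h6
  have := Finset.card_le_two (a := x) (b := y)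
  omega

include hQp in
/-- In a nondegenerate subspace, a vector outside the line of `w` is separated from `w`. -/
lemma exists_orth_not_orth (A : Submodule F V) (hAnd : ∀ a ∈ A, a ≠ 0 → ∃ x ∈ A, B x a ≠ 0)
    {w s : V} (hw : w ∈ A) (hs : s ∈ A) (h : ∀ μ : F, s ≠ μ • w) :
    ∃ t ∈ A, B w t = 0 ∧ B s t ≠ 0 := by
  have hsymm := B_symm Q B hQp
  have hs0 : s ≠ 0 := by
    have := h 0
    rwa [zero_smul] at this
  by_cases hw0 : w = 0
  · obtain ⟨x, hx, hxs⟩ := hAnd s hs hs0
    exact ⟨x, hx, by rw [hw0, map_zero, LinearMap.zero_apply], by rw [hsymm]; exact hxs⟩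
  obtain ⟨p, hp, hpw⟩ := hAnd w hw hw0
  have hwp : B w p ≠ 0 := by rw [hsymm]; exact hpw
  by_contra hcon
  push Not at hcon
  obtain ⟨μ, hμ⟩ : ∃ μ : F, μ = B s p / B w p := ⟨_, rfl⟩
  apply h μ
  have hrad : ∀ y ∈ A, B y (s - μ • w) = 0 := by
    intro y hy
    have hy' : y - (B w y / B w p) • p ∈ A := A.sub_mem hy (A.smul_mem _ hp)
    have h1 : B w (y - (B w y / B w p) • p) = 0 := by
      rw [map_sub, map_smul, smul_eq_mul, div_mul_cancel₀ _ hwp, sub_self]
    have h2 := hcon _ hy' h1
    rw [map_sub, map_smul, smul_eq_mul] at h2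
    rw [map_sub, map_smul, smul_eq_mul, hsymm y s, hsymm y w, hμ]
    field_simp
    field_simp at h2
    linear_combination h2
  by_contra hne
  have h3 : s - μ • w ≠ 0 := sub_ne_zero.mpr hne
  obtain ⟨x, hx, hxx⟩ := hAnd _ (A.sub_mem hs (A.smul_mem _ hw)) h3
  exact hxx (hrad x hx)

variable (Q) in
/-- The exceptional configuration: a hyperbolic plane over a field with at most three elements. -/
def Exc (A : Submodule F V) : Prop :=
  (∀ c : F, c = 0 ∨ c = 1 ∨ c = -1) ∧ finrank F A ≤ 2 ∧ ∃ s ∈ A, s ≠ 0 ∧ Q s = 0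

include hQs hQp in
/-- **Irreducibility of the isometry group** of a nondegenerate quadratic space `A`: a nonzero
subspace invariant under the reflections and the Siegel elements of `A` is everything, unless `A`
is a hyperbolic plane over a field with at most three elements. -/
theorem orth_irr (A : Submodule F V) (hAnd : ∀ a ∈ A, a ≠ 0 → ∃ x ∈ A, B x a ≠ 0)
    (hexc : ¬ Exc Q A) (X : Submodule F V) (hXA : X ≤ A) (hX0 : X ≠ ⊥)
    (hR : ∀ a ∈ A, Q a ≠ 0 → ∀ x ∈ X, B x a • a ∈ X)
    (hS : ∀ u ∈ A, ∀ z ∈ A, Q u = 0 → B u z = 0 → ∀ x ∈ X, sieg Q B u z x ∈ X) : A ≤ X := by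
  have hsymm := B_symm Q B hQp
  by_contra hAX
  obtain ⟨a0, ha0A, ha0X⟩ := SetLike.not_le_iff_exists.mp hAX
  obtain ⟨xn, hxnX, hxn0⟩ := Submodule.exists_mem_ne_zero_of_ne_bot hX0
  have hYmem : ∀ a, a ∈ (A ⊓ B.orthogonal X : Submodule F V) ↔ a ∈ A ∧ ∀ x ∈ X, B x a = 0 :=
    fun a => by rw [Submodule.mem_inf, mem_orth]
  obtain ⟨Y, hYdef⟩ : ∃ Y : Submodule F V, Y = A ⊓ B.orthogonal X := ⟨_, rfl⟩
  rw [← hYdef] at hYmem
  have hYA : Y ≤ A := fun a ha => ((hYmem a).mp ha).1
  have hF1 : ∀ a ∈ A, Q a ≠ 0 → a ∈ X ∨ a ∈ Y := by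
    intro a ha hQa
    by_cases h : a ∈ Y
    · exact Or.inr h
    · left
      rw [hYmem] at h
      push Not at h
      obtain ⟨x, hx, hxa⟩ := h ha
      have := X.smul_mem (B x a)⁻¹ (hR a ha hQa x hx)
      rwa [smul_smul, inv_mul_cancel₀ hxa, one_smul] at this
  have hQ0 : ∀ a ∈ A, a ∉ X → a ∉ Y → Q a = 0 := by
    intro a ha h1 h2
    by_contra h
    rcases hF1 a ha h with h' | h'
    · exact h1 h'
    · exact h2 h'
  have hsub : ∀ a b : V, Q (a - b) = Q a + Q b - B a b := by
    intro a b
    have := Q_add_smul Q B hQs hQp a b (-1)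
    rw [neg_one_smul, ← sub_eq_add_neg] at this
    rw [this]
    ring
  have hzero : (∀ a ∈ A, Q a = 0) → False := by
    intro h
    obtain ⟨x, hx, hxx⟩ := hAnd xn (hXA hxnX) hxn0
    apply hxx
    have := hQp x xn
    rw [h x hx, h xn (hXA hxnX), h _ (A.add_mem hx (hXA hxnX))] at this
    linear_combination -this
  have hL1 : ∀ H : Submodule F V, H ≤ A → (∀ a ∈ A, Q a ≠ 0 → a ∈ H) →
      ∀ h ∈ H, ∀ v ∈ A, v ∉ H → Q v = 0 ∧ Q h + B v h = 0 := by
    intro H hHA hN h hh v hv hvH
    have hv0 : Q v = 0 := by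
      by_contra hne
      exact hvH (hN v hv hne)
    refine ⟨hv0, ?_⟩
    have hvh : v + h ∉ H := fun hc => hvH (by
      have := H.sub_mem hc hh
      rwa [add_sub_cancel_right] at this)
    have h1 : Q (v + h) = 0 := by
      by_contra hne
      exact hvh (hN _ (A.add_mem hv (hHA hh)) hne)
    rw [hQp, hv0, zero_add] at h1
    exact h1
  have hfin : ∀ H : Submodule F V, (∀ a ∈ A, Q a ≠ 0 → a ∈ H) → (∀ h ∈ H, Q h = 0) → False := by
    intro H hN key
    apply hzero
    intro a ha
    by_cases haH : a ∈ H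
    · exact key a haH
    · by_contra hne
      exact haH (hN a ha hne)
  have hL2 : ∀ H : Submodule F V, H ≤ A → (∀ a ∈ A, Q a ≠ 0 → a ∈ H) →
      ∀ v ∈ A, ∀ v' ∈ A, v ∉ H → v' ∉ H → v + v' ∉ H → False := by
    intro H hHA hN v hv v' hv' h1 h2 h3
    apply hfin H hN
    intro h hh
    have e1 := (hL1 H hHA hN h hh v hv h1).2
    have e2 := (hL1 H hHA hN h hh v' hv' h2).2
    have e3 := (hL1 H hHA hN h hh (v + v') (A.add_mem hv hv') h3).2
    rw [map_add, LinearMap.add_apply] at e3
    linear_combination e1 + e2 - e3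
  have hL3 : ∀ H : Submodule F V, H ≤ A → (∀ a ∈ A, Q a ≠ 0 → a ∈ H) →
      ∀ v ∈ A, v ∉ H → (∃ t : F, t ≠ 0 ∧ t ≠ 1) → False := by
    intro H hHA hN v hv hvH ⟨t, ht0, ht1⟩
    apply hfin H hN
    intro h hh
    have e1 := (hL1 H hHA hN h hh v hv hvH).2
    have e2 := (hL1 H hHA hN (t • h) (H.smul_mem t hh) v hv hvH).2
    rw [hQs, map_smul, smul_eq_mul] at e2
    have h4 : t * (t - 1) * Q h = 0 := by linear_combination e2 - t * e1
    rcases mul_eq_zero.mp h4 with h' | h'
    · rcases mul_eq_zero.mp h' with h'' | h''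
      · exact absurd h'' ht0
      · exact absurd (sub_eq_zero.mp h'') ht1
    · exact h'
  by_cases hXY : X ≤ Y
  · -- Case A
    have hNY : ∀ a ∈ A, Q a ≠ 0 → a ∈ Y := fun a ha h =>
      (hF1 a ha h).elim (fun h' => hXY h') id
    obtain ⟨v, hvA, hvx⟩ := hAnd xn (hXA hxnX) hxn0
    have hvY : v ∉ Y := fun h => hvx (by rw [hsymm]; exact ((hYmem v).mp h).2 xn hxnX)
    have hq2 : ∀ t : F, t = 0 ∨ t = 1 := by
      intro t
      by_contra hcon
      push Not at hcon
      exact hL3 Y hYA hNY v hvA hvY ⟨t, hcon.1, hcon.2⟩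
    have hii : ∀ h ∈ Y, ∀ v ∈ A, v ∉ Y → Q h + B v h = 0 := fun h hh v hv hvY =>
      (hL1 Y hYA hNY h hh v hv hvY).2
    have hYti : ∀ h ∈ Y, ∀ h' ∈ Y, B h' h = 0 := by
      intro h hh h' hh'
      have e1 := hii h hh v hvA hvY
      have hvh' : v + h' ∉ Y := fun hc => hvY (by
        have := Y.sub_mem hc hh'
        rwa [add_sub_cancel_right] at this)
      have e2 := hii h hh (v + h') (A.add_mem hvA (hYA hh')) hvh'
      rw [map_add, LinearMap.add_apply] at e2
      linear_combination e2 - e1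
    have hYQ : ∀ h ∈ Y, h ≠ 0 → Q h = 1 := by
      intro h hh hh0
      obtain ⟨a', ha', ha'h⟩ := hAnd h (hYA hh) hh0
      have ha'Y : a' ∉ Y := fun hc => ha'h (hYti h hh a' hc)
      have e := hii h hh a' ha' ha'Y
      rcases hq2 (Q h) with h0 | h1
      · exfalso
        rw [h0, zero_add] at e
        exact ha'h e
      · exact h1
    have hxnY : xn ∈ Y := hXY hxnX
    have hYuniq : ∀ h ∈ Y, h = 0 ∨ h = xn := by
      intro h hh
      by_contra hcon
      push Not at hcon
      have hd : h - xn ∈ Y := Y.sub_mem hh hxnY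
      have hd0 : h - xn ≠ 0 := sub_ne_zero.mpr hcon.2
      have e1 := hYQ _ hd hd0
      have e2 := hYQ h hh hcon.1
      have e3 := hYQ xn hxnY hxn0
      rw [hsub, e2, e3, hYti xn hxnY h hh] at e1
      have e5 : (1 : F) = 0 := by linear_combination e1
      exact one_ne_zero e5
    have hA2 : A ≤ Submodule.span F {xn, v} := by
      intro a ha
      by_cases haY : a ∈ Y
      · rcases hYuniq a haY with h | h
        · rw [h]
          exact Submodule.zero_mem _
        · rw [h]
          exact Submodule.subset_span (by simp)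
      · have hav : a - v ∈ Y := by
          by_contra hcon
          have e1 := hii xn hxnY a ha haY
          have e2 := hii xn hxnY v hvA hvY
          have e3 := hii xn hxnY (a - v) (A.sub_mem ha hvA) hcon
          rw [map_sub, LinearMap.sub_apply] at e3
          have e4 := hYQ xn hxnY hxn0
          have e5 : Q xn = 0 := by linear_combination e3 + e2 - e1
          rw [e5] at e4
          exact zero_ne_one e4
        rcases hYuniq _ hav with h | h
        · rw [sub_eq_zero.mp h]
          exact Submodule.subset_span (by simp)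
        · have e : a = xn + v := by rw [← h]; abel
          rw [e]
          exact Submodule.add_mem _ (Submodule.subset_span (by simp))
            (Submodule.subset_span (by simp))
    apply hexc
    refine ⟨fun c => ?_, ?_, v, hvA, ?_, ?_⟩
    · rcases hq2 c with h | h
      · exact Or.inl h
      · exact Or.inr (Or.inl h)
    · exact (Submodule.finrank_mono hA2).trans (finrank_span_pair_le _ _)
    · exact fun h => hvY (h ▸ Y.zero_mem)
    · exact (hL1 Y hYA hNY 0 Y.zero_mem v hvA hvY).1
  by_cases hYX : Y ≤ X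
  · -- Case A'
    exfalso
    have hNX : ∀ a ∈ A, Q a ≠ 0 → a ∈ X := fun a ha h =>
      (hF1 a ha h).elim id (fun h' => hYX h')
    have hii : ∀ h ∈ X, ∀ v ∈ A, v ∉ X → Q h + B v h = 0 := fun h hh v hv hvX =>
      (hL1 X hXA hNX h hh v hv hvX).2
    apply hXY
    intro x hx
    rw [hYmem]
    refine ⟨hXA hx, fun x' hx' => ?_⟩
    have e1 := hii x hx a0 ha0A ha0X
    have h' : a0 + x' ∉ X := fun hc => ha0X (by
      have := X.sub_mem hc hx'
      rwa [add_sub_cancel_right] at this)
    have e2 := hii x hx (a0 + x') (A.add_mem ha0A (hXA hx')) h'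
    rw [map_add, LinearMap.add_apply] at e2
    linear_combination e2 - e1
  -- Case B
  obtain ⟨x0, hx0X, hx0Y⟩ := SetLike.not_le_iff_exists.mp hXY
  obtain ⟨y0, hy0Y, hy0X⟩ := SetLike.not_le_iff_exists.mp hYX
  have hx0A := hXA hx0X
  have hy0A : y0 ∈ A := hYA hy0Y
  have hF4 : ∀ x ∈ X, x ∉ Y → ∀ y ∈ Y, y ∉ X → ∀ t : F, t ≠ 0 → Q x + t * t * Q y = 0 := by
    intro x hx hxY y hy hyX t ht
    have hyA : y ∈ A := hYA hy
    have h1 : x + t • y ∉ X := by
      intro hc
      have h2 := X.sub_mem hc hx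
      rw [add_sub_cancel_left] at h2
      have h3 := X.smul_mem t⁻¹ h2
      rw [smul_smul, inv_mul_cancel₀ ht, one_smul] at h3
      exact hyX h3
    have h2 : x + t • y ∉ Y := by
      intro hc
      have := Y.sub_mem hc (Y.smul_mem t hy)
      rw [add_sub_cancel_right] at this
      exact hxY this
    have h3 := hQ0 _ (A.add_mem (hXA hx) (A.smul_mem t hyA)) h1 h2
    rw [Q_add_smul Q B hQs hQp, ((hYmem y).mp hy).2 x hx, mul_zero, add_zero] at h3
    exact h3
  have hc1 : Q x0 + Q y0 = 0 := by
    have := hF4 x0 hx0X hx0Y y0 hy0Y hy0X 1 one_ne_zero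
    rwa [one_mul, one_mul] at this
  have hxy : B x0 y0 = 0 := ((hYmem y0).mp hy0Y).2 x0 hx0X
  by_cases hc : Q x0 = 0
  · exfalso
    have hy0Q : Q y0 = 0 := by
      rw [hc, zero_add] at hc1
      exact hc1
    have hNH : ∀ a ∈ A, Q a ≠ 0 → a ∈ (X ⊓ Y : Submodule F V) := by
      intro a ha hQa
      have hX' : a ∈ X := by
        by_contra h
        rcases hF1 a ha hQa with h' | h'
        · exact h h'
        · have := hF4 x0 hx0X hx0Y a h' h 1 one_ne_zero
          rw [hc, one_mul, one_mul, zero_add] at this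
          exact hQa this
      have hY' : a ∈ Y := by
        by_contra h
        have := hF4 a hX' h y0 hy0Y hy0X 1 one_ne_zero
        rw [hy0Q, mul_zero, add_zero] at this
        exact hQa this
      exact ⟨hX', hY'⟩
    exact hL2 (X ⊓ Y) (inf_le_left.trans hXA) hNH x0 hx0A y0 hy0A (fun h => hx0Y h.2)
      (fun h => hy0X h.1) (fun h => hy0X (by
        have := X.sub_mem h.1 hx0X
        rwa [add_sub_cancel_left] at this))
  have hy0Q : Q y0 = -Q x0 := by linear_combination hc1
  have hXc : ∀ x ∈ X, x ∉ Y → Q x = Q x0 := by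
    intro x hx hxY
    have := hF4 x hx hxY y0 hy0Y hy0X 1 one_ne_zero
    rw [hy0Q] at this
    linear_combination this
  have hYc : ∀ y ∈ Y, y ∉ X → Q y = -Q x0 := by
    intro y hy hyX
    have := hF4 x0 hx0X hx0Y y hy hyX 1 one_ne_zero
    linear_combination this
  have hQu : Q (x0 + y0) = 0 := by
    rw [hQp, hy0Q, hxy]
    ring
  have hu0 : x0 + y0 ≠ 0 := by
    intro h
    apply hx0Y
    have e : x0 = -y0 := eq_neg_of_add_eq_zero_left h
    rw [e]
    exact Y.neg_mem hy0Y
  by_cases h2 : (2 : F) = 0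
  · -- characteristic two: a Siegel element moves `x0` out of `X`
    exfalso
    have hsn : ∀ μ : F, x0 ≠ μ • (x0 + y0) := by
      intro μ h
      by_cases hμ : μ = 0
      · rw [hμ, zero_smul] at h
        apply hx0Y
        rw [h]
        exact Y.zero_mem
      · apply hy0X
        have e : μ • y0 = x0 - μ • x0 := by
          rw [smul_add] at h
          rw [eq_sub_iff_add_eq, add_comm]
          exact h.symm
        have h3 : μ • y0 ∈ X := by
          rw [e]
          exact X.sub_mem hx0X (X.smul_mem _ hx0X)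
        have h4 := X.smul_mem μ⁻¹ h3
        rwa [smul_smul, inv_mul_cancel₀ hμ, one_smul] at h4
    obtain ⟨z, hzA, huz, hx0z⟩ := exists_orth_not_orth hQp A hAnd (A.add_mem hx0A hy0A) hx0A hsn
    have h3 := hS (x0 + y0) (A.add_mem hx0A hy0A) z hzA hQu huz x0 hx0X
    rw [sieg_apply Q B hQs hQp hQu huz] at h3
    have hx0u : B x0 (x0 + y0) = 0 := by
      rw [map_add, B_self Q B hQs hQp, h2, zero_mul, hxy, add_zero]
    rw [hx0u] at h3
    have h4 : B x0 z • (x0 + y0) ∈ X := by
      have h5 := X.sub_mem hx0X h3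
      have e : x0 - (x0 + (0 : F) • z - B x0 z • (x0 + y0) - (Q z * 0) • (x0 + y0)) =
          B x0 z • (x0 + y0) := by module
      rwa [e] at h5
    have h5 := X.smul_mem (B x0 z)⁻¹ h4
    rw [smul_smul, inv_mul_cancel₀ hx0z, one_smul] at h5
    have h6 := X.sub_mem h5 hx0X
    rw [add_sub_cancel_left] at h6
    exact hy0X h6
  · -- odd characteristic: the field is small and `A` is a plane
    have hsmall : ∀ t : F, t = 0 ∨ t = 1 ∨ t = -1 := by
      intro t
      by_cases ht : t = 0
      · exact Or.inl ht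
      right
      have := hF4 x0 hx0X hx0Y y0 hy0Y hy0X t ht
      rw [hy0Q] at this
      have h3 : (1 - t * t) * Q x0 = 0 := by linear_combination this
      rcases mul_eq_zero.mp h3 with h4 | h4
      · have h5 : (t - 1) * (t + 1) = 0 := by linear_combination -h4
        rcases mul_eq_zero.mp h5 with h6 | h6
        · left
          linear_combination h6
        · right
          linear_combination h6
      · exact absurd h4 hc
    have h2c : 2 * Q x0 ≠ 0 := mul_ne_zero h2 hc
    have hxx : B x0 x0 = 2 * Q x0 := B_self Q B hQs hQp x0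
    have hyy : B y0 y0 = -(2 * Q x0) := by
      rw [B_self Q B hQs hQp, hy0Q]
      ring
    have hA2 : A ≤ Submodule.span F {x0, y0} := by
      intro v hv
      obtain ⟨α, hα⟩ : ∃ α : F, α = B v x0 / (2 * Q x0) := ⟨_, rfl⟩
      obtain ⟨β, hβ⟩ : ∃ β : F, β = -(B v y0 / (2 * Q x0)) := ⟨_, rfl⟩
      obtain ⟨v', hv'⟩ : ∃ v' : V, v' = v - α • x0 - β • y0 := ⟨_, rfl⟩
      have hv'A : v' ∈ A := by
        rw [hv']
        exact A.sub_mem (A.sub_mem hv (A.smul_mem _ hx0A)) (A.smul_mem _ hy0A)
      have hv'x : B v' x0 = 0 := by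
        rw [hv']
        simp only [map_sub, map_smul, LinearMap.sub_apply, LinearMap.smul_apply, smul_eq_mul]
        rw [hxx, hsymm y0 x0, hxy, hα]
        field_simp
        ring
      have hv'y : B v' y0 = 0 := by
        rw [hv']
        simp only [map_sub, map_smul, LinearMap.sub_apply, LinearMap.smul_apply, smul_eq_mul]
        rw [hyy, hxy, hβ]
        field_simp
        ring
      suffices hv'0 : v' = 0 by
        have e : v = α • x0 + β • y0 := by
          rw [hv'0] at hv'
          have h3 := hv'.symm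
          rw [sub_sub, sub_eq_zero] at h3
          exact h3
        rw [e, Submodule.mem_span_pair]
        exact ⟨α, β, rfl⟩
      by_contra hv'0
      by_cases h1 : v' ∈ X
      · by_cases h1' : v' ∈ Y
        · obtain ⟨a, haA, hav'⟩ := hAnd v' hv'A hv'0
          have haX : a ∉ X := fun hcX => hav' (((hYmem v').mp h1').2 a hcX)
          have haY : a ∉ Y := fun hcY => hav' (by
            rw [hsymm]
            exact ((hYmem a).mp hcY).2 v' h1)
          have hQa := hQ0 a haA haX haY
          have hp : a + x0 ∉ X := fun hcX => haX (by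
            have := X.sub_mem hcX hx0X
            rwa [add_sub_cancel_right] at this)
          have hm : a - x0 ∉ X := fun hcX => haX (by
            have := X.add_mem hcX hx0X
            rwa [sub_add_cancel] at this)
          have hpY : a + x0 ∉ Y := by
            intro hcY
            have := ((hYmem _).mp hcY).2 v' h1
            rw [map_add, hv'x, add_zero, hsymm] at this
            exact hav' this
          have hmY : a - x0 ∉ Y := by
            intro hcY
            have := ((hYmem _).mp hcY).2 v' h1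
            rw [map_sub, hv'x, sub_zero, hsymm] at this
            exact hav' this
          have e1 := hQ0 _ (A.add_mem haA hx0A) hp hpY
          have e2 := hQ0 _ (A.sub_mem haA hx0A) hm hmY
          rw [hQp, hQa] at e1
          rw [hsub, hQa] at e2
          apply h2c
          linear_combination e1 + e2
        · have e1 := hXc v' h1 h1'
          have hw : v' + x0 ∈ X := X.add_mem h1 hx0X
          have hwY : v' + x0 ∉ Y := by
            intro hcY
            have := ((hYmem _).mp hcY).2 x0 hx0X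
            rw [map_add, hsymm x0 v', hv'x, zero_add, hxx] at this
            exact h2c this
          have e2 := hXc _ hw hwY
          rw [hQp, e1, hv'x] at e2
          apply hc
          linear_combination e2
      · by_cases h1' : v' ∈ Y
        · have e1 := hYc v' h1' h1
          have hw : v' + y0 ∈ Y := Y.add_mem h1' hy0Y
          have hwX : v' + y0 ∉ X := by
            intro hcX
            have := ((hYmem y0).mp hy0Y).2 _ hcX
            rw [map_add, LinearMap.add_apply, hv'y, zero_add, hyy] at this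
            exact h2c (neg_eq_zero.mp this)
          have e2 := hYc _ hw hwX
          rw [hQp, e1, hy0Q, hv'y] at e2
          apply hc
          linear_combination -e2
        · have hQv' := hQ0 v' hv'A h1 h1'
          have hw1X : v' + x0 ∉ X := fun hcX => h1 (by
            have := X.sub_mem hcX hx0X
            rwa [add_sub_cancel_right] at this)
          by_cases hw1Y : v' + x0 ∈ Y
          · have := ((hYmem _).mp hw1Y).2 x0 hx0X
            rw [map_add, hsymm x0 v', hv'x, zero_add, hxx] at this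
            exact h2c this
          · have e := hQ0 _ (A.add_mem hv'A hx0A) hw1X hw1Y
            rw [hQp, hQv', hv'x] at e
            apply hc
            linear_combination e
    apply hexc
    exact ⟨hsmall, (Submodule.finrank_mono hA2).trans (finrank_span_pair_le _ _), x0 + y0,
      A.add_mem hx0A hy0A, hu0, hQu⟩

end Irr


section Small

variable [Finite F] [FiniteDimensional F V] {Q : V → F} {B : LinearMap.BilinForm F V}
  (hQs : ∀ (c : F) (v : V), Q (c • v) = c * c * Q v)
  (hQp : ∀ u v : V, Q (u + v) = Q u + Q v + B u v)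

include hQs hQp in
/-- In a nondegenerate subspace of dimension at least five, the orthogonal complement of a nonzero
vector represents every value. -/
lemma exists_value (A' : Submodule F V) (hA'nd : ∀ a ∈ A', a ≠ 0 → ∃ x ∈ A', B x a ≠ 0)
    (h5' : 5 ≤ finrank F A') {w : V} (hw : w ∈ A') (hw0 : w ≠ 0) (c : F) :
    ∃ y ∈ A', B w y = 0 ∧ Q y = c := by
  have hsymm := B_symm Q B hQp
  obtain ⟨p, hp, hpw⟩ := hA'nd w hw hw0
  have hwp : B w p ≠ 0 := by rw [hsymm]; exact hpw
  obtain ⟨s, hsA', hs0, hQs', hsw, hsp⟩ := exists_sing_orth2 Q B hQs hQp A' h5' w p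
  have hsn : ∀ μ : F, s ≠ μ • w := by
    intro μ h
    have h1 : B s p = μ * B w p := by rw [h, map_smul, LinearMap.smul_apply, smul_eq_mul]
    rw [hsp] at h1
    rcases mul_eq_zero.mp h1.symm with h' | h'
    · rw [h', zero_smul] at h
      exact hs0 h
    · exact hwp h'
  obtain ⟨t, htA', hwt, hst⟩ := exists_orth_not_orth hQp A' hA'nd hw hsA' hsn
  have hts : B t s ≠ 0 := by rw [hsymm]; exact hst
  refine ⟨t + ((c - Q t) / B t s) • s, A'.add_mem htA' (A'.smul_mem _ hsA'), ?_, ?_⟩
  · rw [map_add, map_smul, hwt, hsymm w s, hsw, smul_zero, add_zero]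
  · rw [Q_add_smul Q B hQs hQp, hQs']
    field_simp
    ring

include hQs hQp in
/-- **Maximality of the stabiliser of a nondegenerate subspace** `A'` whose orthogonal complement
`A` is nonzero of dimension at most `dim A' - 3` (and not an exceptional hyperbolic plane), in a
group `G` of isometries generated by the Siegel elements and containing the products of two
commuting reflections in vectors of equal norm. -/
theorem maximal_stab_small (hN : B.Nondegenerate) (G : Subgroup (V ≃ₗ[F] V)) (hG1 : G ≤ oG Q)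
    (hG2 : ∀ u z, Q u = 0 → B u z = 0 → sieg Q B u z ∈ G)
    (hG3 : ∀ M : Subgroup (V ≃ₗ[F] V),
      (∀ u z, Q u = 0 → B u z = 0 → sieg Q B u z ∈ M) → G ≤ M)
    (hG4 : ∀ a c, Q a ≠ 0 → Q c = Q a → B a c = 0 →
      ∃ g ∈ G, ∀ x, g x = x - ((Q a)⁻¹ * B x a) • a - ((Q a)⁻¹ * B x c) • c)
    (A A' : Submodule F V)
    (hAA' : ∀ a ∈ A, ∀ a' ∈ A', B a a' = 0) (hsup : A ⊔ A' = ⊤) (hA0 : A ≠ ⊥)
    (h7' : 7 ≤ finrank F A') (hdim : finrank F A + 3 ≤ finrank F A')
    (hexc : ¬ Exc Q A) :
    (stab A' ⊓ G < G) ∧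
      ∀ M : Subgroup (V ≃ₗ[F] V), stab A' ⊓ G ≤ M → M ≤ G → M = stab A' ⊓ G ∨ M = G := by
  have hsymm := B_symm Q B hQp
  have h5' : 5 ≤ finrank F A' := by omega
  have hAnd := nondegOn_left hQp hN A A' hAA' hsup
  have hA'nd := nondegOn_right hQp hN A A' hAA' hsup
  have hdec : ∀ x : V, ∃ a ∈ A, ∃ a' ∈ A', a + a' = x := fun x =>
    Submodule.mem_sup.mp (hsup ▸ Submodule.mem_top)
  have hinf : A ⊓ A' = ⊥ := by
    rw [eq_bot_iff]
    rintro x ⟨hx, hx'⟩
    by_contra hx0
    obtain ⟨y, hy, hyx⟩ := hAnd x hx hx0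
    exact hyx (hAA' y hy x hx')
  have hV : finrank F V = finrank F A + finrank F A' := by
    have := Submodule.finrank_sup_add_finrank_inf_eq A A'
    rw [hsup, hinf, finrank_bot, finrank_top] at this
    omega
  constructor
  · refine lt_of_le_of_ne inf_le_right ?_
    intro heq
    obtain ⟨u, huA', hu0, hQu, -, -⟩ := exists_sing_orth2 Q B hQs hQp A' h5' 0 0
    obtain ⟨z, hzA, hz0⟩ := Submodule.exists_mem_ne_zero_of_ne_bot hA0
    obtain ⟨x, hxA', hxu⟩ := hA'nd u huA' hu0
    have huz : B u z = 0 := by rw [hsymm]; exact hAA' z hzA u huA'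
    have hg : sieg Q B u z ∈ stab A' ⊓ G := by
      rw [heq]
      exact hG2 u z hQu huz
    have h1 := (mem_stab.mp hg.1 x).mp hxA'
    rw [sieg_apply Q B hQs hQp hQu huz, hsymm x z, hAA' z hzA x hxA'] at h1
    have h2 : B x u • z ∈ A' := by
      have h3 := A'.add_mem (A'.sub_mem h1 hxA') (A'.smul_mem (Q z * B x u) huA')
      have e : x + B x u • z - (0 : F) • u - (Q z * B x u) • u - x + (Q z * B x u) • u =
          B x u • z := by module
      rwa [e] at h3
    have h4 : z ∈ A' := by
      have := A'.smul_mem (B x u)⁻¹ h2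
      rwa [smul_smul, inv_mul_cancel₀ hxu, one_smul] at this
    have : z ∈ (A ⊓ A' : Submodule F V) := ⟨hzA, h4⟩
    rw [hinf, Submodule.mem_bot] at this
    exact hz0 this
  · intro M hHM hMG
    have hMO : M ≤ oG Q := hMG.trans hG1
    by_cases hZ : ∀ w ∈ A', w ≠ 0 → Q w = 0 → ∀ z, InZ Q B M w z → z ∈ A'
    · left
      apply le_antisymm _ hHM
      intro m hmM
      refine ⟨mem_stab_of_forall_mem ?_, hMG hmM⟩
      have hmO := hMO hmM
      have hXfr : finrank F (A'.map (m : V →ₗ[F] V)) = finrank F A' :=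
        LinearEquiv.finrank_map_eq m A'
      have h1 := Submodule.finrank_sup_add_finrank_inf_eq (A'.map (m : V →ₗ[F] V)) A'
      have h2 : finrank F (A'.map (m : V →ₗ[F] V) ⊔ A' : Submodule F V) ≤ finrank F V :=
        Submodule.finrank_le _
      obtain ⟨w', hw', hw'0, hQw'⟩ := exists_singular_in Q B hQs hQp
        (A'.map (m : V →ₗ[F] V) ⊓ A') (by omega)
      obtain ⟨w, hwA', hmw⟩ := hw'.1
      have hmw' : m w = w' := hmw
      have hw0 : w ≠ 0 := by
        rintro rfl
        apply hw'0
        rw [← hmw', map_zero]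
      have hQw : Q w = 0 := by rw [← hmO w, hmw', hQw']
      exact stab_of_fix hQs hQp A' h5' G M hG2 hHM hZ hmM hmO hwA' hw0 hQw
        (by rw [hmw']; exact hw'.2)
    · right
      push Not at hZ
      obtain ⟨w, hwA', hw0, hw, z, hz, hzA'⟩ := hZ
      apply le_antisymm hMG
      apply hG3
      obtain ⟨x, hxA, y, hyA', hxy⟩ := hdec z
      have hx0 : x ≠ 0 := by
        rintro rfl
        apply hzA'
        rw [← hxy, zero_add]
        exact hyA'
      have hwA : ∀ x ∈ A, B w x = 0 := fun x hx => by rw [hsymm]; exact hAA' x hx w hwA'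
      have hwy : B w y = 0 := by
        have := hz.1
        rw [← hxy, map_add, hwA x hxA, zero_add] at this
        exact this
      have hHA' : ∀ y ∈ A', B w y = 0 → InZ Q B M w y := fun y hy hwy =>
        ⟨hwy, fun t => hHM ⟨sieg_mem_stab_of_mem hQs hQp A' hwA' (A'.smul_mem t hy) hw
          (by rw [map_smul, hwy, smul_zero]), hG2 _ _ hw (by rw [map_smul, hwy, smul_zero])⟩⟩
      have hxZ : InZ Q B M w x := by
        have := InZ_sub hQs hQp hw hz (hHA' y hyA' hwy)
        rwa [← hxy, add_sub_cancel_right] at this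
      let X0 : Submodule F V :=
        { carrier := {z | InZ Q B M w z}
          add_mem' := fun h1 h2 => InZ_add hQs hQp hw h1 h2
          zero_mem' := InZ_zero hQs hQp hw
          smul_mem' := fun c _ h1 => InZ_smul c h1 }
      have hX0mem : ∀ z, z ∈ X0 ↔ InZ Q B M w z := fun z => Iff.rfl
      have hXne : (X0 ⊓ A : Submodule F V) ≠ ⊥ := by
        intro h
        have : x ∈ (X0 ⊓ A : Submodule F V) := ⟨(hX0mem x).mpr hxZ, hxA⟩
        rw [h, Submodule.mem_bot] at this
        exact hx0 this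
      have hXS : ∀ u ∈ A, ∀ v ∈ A, Q u = 0 → B u v = 0 →
          ∀ x ∈ (X0 ⊓ A : Submodule F V), sieg Q B u v x ∈ (X0 ⊓ A : Submodule F V) := by
        intro u hu v hv hQu huv x hx
        have hgM : sieg Q B u v ∈ M :=
          hHM ⟨sieg_mem_stab_of_orth hQs hQp A A' hAA' hu hv hQu huv, hG2 u v hQu huv⟩
        have hgO := sieg_mem_oG Q B hQs hQp hQu huv
        have hfix : sieg Q B u v w = w := by
          rw [sieg_apply Q B hQs hQp hQu huv, hwA u hu, hwA v hv]
          simp
        have h1 : InZ Q B M (sieg Q B u v w) (sieg Q B u v x) :=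
          InZ_map hQs hQp hgM hgO hw ((hX0mem x).mp hx.1)
        rw [hfix] at h1
        refine ⟨(hX0mem _).mpr h1, ?_⟩
        rw [sieg_apply Q B hQs hQp hQu huv]
        exact A.sub_mem (A.sub_mem (A.add_mem hx.2 (A.smul_mem _ hv)) (A.smul_mem _ hu))
          (A.smul_mem _ hu)
      have hXR : ∀ a ∈ A, Q a ≠ 0 → ∀ x ∈ (X0 ⊓ A : Submodule F V),
          B x a • a ∈ (X0 ⊓ A : Submodule F V) := by
        intro a ha hQa x hx
        obtain ⟨c, hcA', hwc, hQc⟩ := exists_value hQs hQp A' hA'nd h5' hwA' hw0 (Q a)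
        obtain ⟨g, hgG, hg⟩ := hG4 a c hQa hQc (hAA' a ha c hcA')
        have hgS : g ∈ stab A' := by
          apply mem_stab_of_forall_mem
          intro y hy
          rw [hg y, hsymm y a, hAA' a ha y hy, mul_zero, zero_smul, sub_zero]
          exact A'.sub_mem hy (A'.smul_mem _ hcA')
        have hgM : g ∈ M := hHM ⟨hgS, hgG⟩
        have hgO := hMO hgM
        have hgw : g w = w := by
          rw [hg w, hwA a ha, hwc, mul_zero, zero_smul, zero_smul, sub_zero, sub_zero]
        have h1 : InZ Q B M (g w) (g x) := InZ_map hQs hQp hgM hgO hw ((hX0mem x).mp hx.1)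
        rw [hgw, hg x, hAA' x hx.2 c hcA', mul_zero, zero_smul, sub_zero] at h1
        have h2 := InZ_sub hQs hQp hw ((hX0mem x).mp hx.1) h1
        rw [sub_sub_cancel] at h2
        have h3 := InZ_smul (Q a) h2
        rw [smul_smul, ← mul_assoc, mul_inv_cancel₀ hQa, one_mul] at h3
        exact ⟨(hX0mem _).mpr h3, A.smul_mem _ ha⟩
      have hAX : A ≤ (X0 ⊓ A : Submodule F V) :=
        orth_irr hQs hQp A hAnd hexc _ inf_le_right hXne hXR hXS
      have hfull : ∀ z, B w z = 0 → sieg Q B w z ∈ M := by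
        intro z' hwz'
        obtain ⟨x', hx'A, y', hy'A', hx'y'⟩ := hdec z'
        have hwy' : B w y' = 0 := by
          have := hwz'
          rw [← hx'y', map_add, hwA x' hx'A, zero_add] at this
          exact this
        have h1 : InZ Q B M w x' := (hX0mem x').mp (hAX hx'A).1
        have h2 := hHA' y' hy'A' hwy'
        have h3 := InZ_add hQs hQp hw h1 h2
        rw [hx'y'] at h3
        have h4 := h3.2 1
        rwa [one_smul] at h4
      exact all_of_full hQs hQp hN A A' hAA' hsup h5' G M hG2 hHM hMO hwA' hw0 hw hfull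

end Small

section Pair

variable [FiniteDimensional F V] {Q : V → F} {B : LinearMap.BilinForm F V}
  (hQs : ∀ (c : F) (v : V), Q (c • v) = c * c * Q v)
  (hQp : ∀ u v : V, Q (u + v) = Q u + Q v + B u v)

include hQs hQp in
/-- The product of the reflections in two orthogonal vectors of the same nonzero norm lies in the
commutator subgroup of the isometry group (given that the Siegel elements do). -/
lemma refl_pair_mem
    (hS : ∀ u z, Q u = 0 → B u z = 0 → sieg Q B u z ∈ ⁅oG Q, oG Q⁆)
    {a c : V} (ha : Q a ≠ 0) (hc : Q c = Q a) (hac : B a c = 0) :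
    ∃ g ∈ ⁅oG Q, oG Q⁆, ∀ x, g x = x - ((Q a)⁻¹ * B x a) • a - ((Q a)⁻¹ * B x c) • c := by
  have hsymm := B_symm Q B hQp
  have haa : B a a = 2 * Q a := B_self Q B hQs hQp a
  by_cases h2 : (2 : F) = 0
  · have hQu : Q (a + c) = 0 := by
      rw [hQp, hc, hac, add_zero, ← two_mul, h2, zero_mul]
    have huz : B (a + c) ((Q a)⁻¹ • a) = 0 := by
      rw [map_smul, map_add, LinearMap.add_apply, haa, h2, zero_mul, hsymm c a, hac, add_zero,
        smul_zero]
    refine ⟨sieg Q B (a + c) ((Q a)⁻¹ • a), hS _ _ hQu huz, fun x => ?_⟩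
    rw [sieg_apply Q B hQs hQp hQu huz, hQs]
    simp only [map_add, map_smul, smul_eq_mul]
    have e1 : (Q a)⁻¹ * (Q a)⁻¹ * Q a = (Q a)⁻¹ := by
      rw [mul_assoc, inv_mul_cancel₀ ha, mul_one]
    rw [e1]
    have e2 : x + (B x a + B x c) • (Q a)⁻¹ • a - ((Q a)⁻¹ * B x a) • (a + c) -
        ((Q a)⁻¹ * (B x a + B x c)) • (a + c) -
        (x - ((Q a)⁻¹ * B x a) • a - ((Q a)⁻¹ * B x c) • c) =
        (2 * (-((Q a)⁻¹ * B x a))) • c := by module
    rw [← sub_eq_zero, e2, h2, zero_mul, zero_smul]
  · have hQb : Q (a - c) = 2 * Q a := by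
      have := Q_add_smul Q B hQs hQp a c (-1)
      rw [neg_one_smul, ← sub_eq_add_neg] at this
      rw [this, hc, hac]
      ring
    have hb : Q (a - c) ≠ 0 := by
      rw [hQb]
      exact mul_ne_zero h2 ha
    have hmem : ⁅refl Q B hQs hQp ha, refl Q B hQs hQp hb⁆ ∈ ⁅oG Q, oG Q⁆ :=
      Subgroup.commutator_mem_commutator (refl_mem Q B hQs hQp ha) (refl_mem Q B hQs hQp hb)
    refine ⟨_, hmem, fun x => ?_⟩
    rw [comm_refl_apply]
    have e1 : a - ((Q (a - c))⁻¹ * B a (a - c)) • (a - c) = c := by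
      have : (Q (a - c))⁻¹ * B a (a - c) = 1 := by
        rw [map_sub, haa, hac, sub_zero, hQb, inv_mul_cancel₀ (mul_ne_zero h2 ha)]
      rw [this, one_smul, sub_sub_cancel]
    rw [e1]
    simp only [map_sub, map_smul, LinearMap.sub_apply, LinearMap.smul_apply, smul_eq_mul,
      hsymm c a, hac, mul_zero, sub_zero]
    module

end Pair


section Any

variable [Finite F] [FiniteDimensional F V] {Q : V → F} {B : LinearMap.BilinForm F V}
  (hQs : ∀ (c : F) (v : V), Q (c • v) = c * c * Q v)
  (hQp : ∀ u v : V, Q (u + v) = Q u + Q v + B u v)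

include hQp in
/-- An isometry stabilising `A` stabilises its orthogonal complement. -/
lemma stab_orth (hN : B.Nondegenerate) (A A' : Submodule F V)
    (hAA' : ∀ a ∈ A, ∀ a' ∈ A', B a a' = 0) (hsup : A ⊔ A' = ⊤) {g : V ≃ₗ[F] V}
    (hg : g ∈ oG Q) (h : g ∈ stab A) : g ∈ stab A' := by
  have hsymm := B_symm Q B hQp
  have hAnd := nondegOn_left hQp hN A A' hAA' hsup
  have hchar : ∀ y, y ∈ A' ↔ ∀ a ∈ A, B a y = 0 := by
    intro y
    constructor
    · intro hy a ha
      exact hAA' a ha y hy
    · intro hy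
      obtain ⟨a, ha, a', ha', rfl⟩ :=
        Submodule.mem_sup.mp (hsup ▸ Submodule.mem_top : y ∈ A ⊔ A')
      have ha0 : a = 0 := by
        by_contra hne
        obtain ⟨x, hx, hxa⟩ := hAnd a ha hne
        apply hxa
        have := hy x hx
        rw [map_add, hAA' x hx a' ha', add_zero] at this
        exact this
      rw [ha0, zero_add]
      exact ha'
  rw [mem_stab] at h ⊢
  intro v
  rw [hchar, hchar]
  constructor
  · intro hv a ha
    have h1 : g⁻¹ a ∈ A := by
      rw [h (g⁻¹ a), apply_inv_apply']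
      exact ha
    have := oG_B Q B hQp hg (g⁻¹ a) v
    rw [apply_inv_apply'] at this
    rw [this]
    exact hv _ h1
  · intro hv a ha
    have := oG_B Q B hQp hg a v
    rw [← this]
    exact hv _ ((h a).mp ha)

include hQs hQp in
/-- **Maximality of the stabiliser of a nondegenerate subspace** `A'` of dimension larger than that
of its (nonzero) orthogonal complement `A`, in dimension at least thirteen. -/
theorem maximal_stab_any (hN : B.Nondegenerate) (G : Subgroup (V ≃ₗ[F] V)) (hG1 : G ≤ oG Q)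
    (hG2 : ∀ u z, Q u = 0 → B u z = 0 → sieg Q B u z ∈ G)
    (hG3 : ∀ M : Subgroup (V ≃ₗ[F] V),
      (∀ u z, Q u = 0 → B u z = 0 → sieg Q B u z ∈ M) → G ≤ M)
    (hG4 : ∀ a c, Q a ≠ 0 → Q c = Q a → B a c = 0 →
      ∃ g ∈ G, ∀ x, g x = x - ((Q a)⁻¹ * B x a) • a - ((Q a)⁻¹ * B x c) • c)
    (A A' : Submodule F V)
    (hAA' : ∀ a ∈ A, ∀ a' ∈ A', B a a' = 0) (hsup : A ⊔ A' = ⊤) (hA0 : A ≠ ⊥)
    (h13 : 13 ≤ finrank F V) (hlt : finrank F A < finrank F A')
    (hexc : ¬ Exc Q A) :
    (stab A' ⊓ G < G) ∧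
      ∀ M : Subgroup (V ≃ₗ[F] V), stab A' ⊓ G ≤ M → M ≤ G → M = stab A' ⊓ G ∨ M = G := by
  have hAnd := nondegOn_left hQp hN A A' hAA' hsup
  have hinf : A ⊓ A' = ⊥ := by
    rw [eq_bot_iff]
    rintro x ⟨hx, hx'⟩
    by_contra hx0
    obtain ⟨y, hy, hyx⟩ := hAnd x hx hx0
    exact hyx (hAA' y hy x hx')
  have hV : finrank F V = finrank F A + finrank F A' := by
    have := Submodule.finrank_sup_add_finrank_inf_eq A A'
    rw [hsup, hinf, finrank_bot, finrank_top] at this
    omega
  by_cases h3 : finrank F A + 3 ≤ finrank F A'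
  · exact maximal_stab_small hQs hQp hN G hG1 hG2 hG3 hG4 A A' hAA' hsup hA0 (by omega) h3 hexc
  · push Not at h3
    apply maximal_stab_nondeg hQs hQp hN G hG1 hG2 hG3 A A' hAA' hsup (by omega) (by omega)
    intro g _ hcon
    have hle : A'.map (g : V →ₗ[F] V) ≤ A := by
      rintro _ ⟨y, hy, rfl⟩
      exact hcon y hy
    have h4 := Submodule.finrank_mono hle
    rw [LinearEquiv.finrank_map_eq g A'] at h4
    omega

end Any

end Cfsg.Agent.Lib.Helper94_OrthRefl
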