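import Mathlib
import Cfsg.Agent.Lib.Helper29_ODDefs
import Cfsg.Agent.Lib.Helper94_OrthRefl

set_option autoImplicit false

/-!
Concrete model for orthogonal decompositions into isometric nondegenerate planes (`k = 2`):
`V = Fin t → E` with `E = QuadraticAlgebra F a b` (`ω² = a + b ω`), `Q x = ∑ norm (x l)`,
planes `P l = E e_l`.  Minus-type planes: `Fact (∀ r, r ^ 2 ≠ a + b * r)` (then `E` is a field).
Vocabulary for the maximality of `(O(P) wr S_t) ∩ Ω` in `Ω` (rows S5692 / S5694).  (helper94)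
-/

namespace Cfsg.Agent.Lib.Helper94_Q2Defs

open Module Cfsg.Agent.Lib.Helper94_Symp Cfsg.Agent.Lib.Helper94_OrthSmall
  Cfsg.Agent.Lib.Helper94_OrthSiegel Cfsg.Agent.Lib.Helper94_OrthNondeg
  Cfsg.Agent.Lib.Helper29_ODDefs

variable {F : Type*} [Field F] (a b : F) (t : ℕ)

/-- The model space `E^t`, as an `F`-vector space. -/
abbrev MV : Type _ := Fin t → QuadraticAlgebra F a b

/-- The quadratic form `Q x = ∑ N(x l)`. -/
def mQ : MV a b t → F := fun x => ∑ l, QuadraticAlgebra.norm (x l)

/-- The polar form `B x y = ∑ Tr(x l * star (y l))`. -/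
def mB : LinearMap.BilinForm F (MV a b t) :=
  LinearMap.mk₂ F (fun x y => ∑ l, QuadraticAlgebra.trace (x l * star (y l)))
    (fun x x' y => by
      simp only [Pi.add_apply, add_mul, map_add, Finset.sum_add_distrib])
    (fun c x y => by
      simp only [Pi.smul_apply, smul_mul_assoc, map_smul, Finset.smul_sum])
    (fun x y y' => by
      simp only [Pi.add_apply, star_add, mul_add, map_add, Finset.sum_add_distrib])
    (fun c x y => by
      have h : ∀ z w : QuadraticAlgebra F a b, z * star (c • w) = c • (z * star w) := by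
        intro z w
        ext <;> simp <;> ring
      simp only [Pi.smul_apply, h, map_smul, Finset.smul_sum])

lemma mQ_apply (x : MV a b t) : mQ a b t x = ∑ l, QuadraticAlgebra.norm (x l) := rfl

lemma mB_apply (x y : MV a b t) :
    mB a b t x y = ∑ l, QuadraticAlgebra.trace (x l * star (y l)) := rfl

lemma norm_smul' (c : F) (z : QuadraticAlgebra F a b) :
    QuadraticAlgebra.norm (c • z) = c * c * QuadraticAlgebra.norm z := by
  simp only [QuadraticAlgebra.norm_def, QuadraticAlgebra.re_smul, QuadraticAlgebra.im_smul,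
    smul_eq_mul]
  ring

lemma norm_add' (z w : QuadraticAlgebra F a b) :
    QuadraticAlgebra.norm (z + w) = QuadraticAlgebra.norm z + QuadraticAlgebra.norm w +
      QuadraticAlgebra.trace (z * star w) := by
  simp only [QuadraticAlgebra.norm_def, QuadraticAlgebra.trace_def, QuadraticAlgebra.re_add,
    QuadraticAlgebra.im_add, QuadraticAlgebra.re_mul, QuadraticAlgebra.im_mul,
    QuadraticAlgebra.re_star, QuadraticAlgebra.im_star]
  ring

lemma mQs (c : F) (x : MV a b t) : mQ a b t (c • x) = c * c * mQ a b t x := by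
  simp only [mQ_apply, Pi.smul_apply, norm_smul', Finset.mul_sum]

lemma mQp (x y : MV a b t) : mQ a b t (x + y) = mQ a b t x + mQ a b t y + mB a b t x y := by
  simp only [mQ_apply, mB_apply, Pi.add_apply, norm_add', Finset.sum_add_distrib]

/-- The `l`-th coordinate plane `E e_l`. -/
def mD (l : Fin t) : Submodule F (MV a b t) where
  carrier := {x | ∀ j, j ≠ l → x j = 0}
  add_mem' := by
    intro x y hx hy j hj
    rw [Pi.add_apply, hx j hj, hy j hj, add_zero]
  zero_mem' := fun j _ => rfl
  smul_mem' := by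
    intro c x hx j hj
    rw [Pi.smul_apply, hx j hj, smul_zero]

lemma mem_mD {l : Fin t} {x : MV a b t} : x ∈ mD a b t l ↔ ∀ j, j ≠ l → x j = 0 := Iff.rfl

/-- `Ω = [O, O]` of the model. -/
abbrev mOm : Subgroup (MV a b t ≃ₗ[F] MV a b t) := ⁅oG (mQ a b t), oG (mQ a b t)⁆

/-- The reflection of the model in a nonsingular vector. -/
abbrev mrefl {x : MV a b t} (hx : mQ a b t x ≠ 0) : MV a b t ≃ₗ[F] MV a b t :=
  refl (mQ a b t) (mB a b t) (mQs a b t) (mQp a b t) hx

variable {a b t}

/-- `K` is a minimal overgroup of `H`. -/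
structure MinOver {G : Type*} [Group G] (H K : Subgroup G) : Prop where
  le : H ≤ K
  ne : K ≠ H
  min : ∀ K' : Subgroup G, H ≤ K' → K' ≤ K → K' = H ∨ K' = K

/-- The reflection in `x` normalises `M`. -/
def Nrm (M : Subgroup (MV a b t ≃ₗ[F] MV a b t)) (x : MV a b t) : Prop :=
  ∀ hx : mQ a b t x ≠ 0, ∀ g ∈ M, mrefl a b t hx * g * mrefl a b t hx ∈ M

/-- `x` is a nonzero vector of one of the coordinate planes. -/
def IsBl (x : MV a b t) : Prop := x ≠ 0 ∧ ∃ l, x ∈ mD a b t l

/-- (C∗) at `x`: the stabiliser in `M` of the point `⟨x⟩` permutes the planes. -/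
def CStar (S M : Subgroup (MV a b t ≃ₗ[F] MV a b t)) (x : MV a b t) : Prop :=
  ∀ g ∈ M, (∃ c : F, g x = c • x) → g ∈ S

lemma finite_E [Finite F] : Finite (QuadraticAlgebra F a b) :=
  Finite.of_equiv _ (QuadraticAlgebra.equivProd a b).symm

lemma finite_MV [Finite F] : Finite (MV a b t) := by
  haveI : Finite (QuadraticAlgebra F a b) := finite_E
  infer_instance

lemma finite_MVEquiv [Finite F] : Finite (MV a b t ≃ₗ[F] MV a b t) := by
  haveI : Finite (MV a b t) := finite_MV
  exact Finite.of_injective (fun g : MV a b t ≃ₗ[F] MV a b t => (g : MV a b t → MV a b t))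
    (fun g h hgh => LinearEquiv.ext (fun x => congrFun hgh x))

open Classical in
/-- The support of `x`: the coordinates which do not vanish. -/
noncomputable def Supp (x : MV a b t) : Finset (Fin t) := Finset.univ.filter (fun l => x l ≠ 0)

/-- The reflection in `w` lies in `L`. -/
def InRc (L : Subgroup (MV a b t ≃ₗ[F] MV a b t)) (w : MV a b t) : Prop :=
  ∃ hw : mQ a b t w ≠ 0, mrefl a b t hw ∈ L

/-- Common hypotheses: `M` is a minimal overgroup of `H = S ⊓ Ω` inside `Ω`. -/
structure Ctx2 (a b : F) (t : ℕ) (S M : Subgroup (MV a b t ≃ₗ[F] MV a b t)) : Prop where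
  ht : 5 ≤ t
  hq : Nat.card F ≠ 3
  hS : IsDStab (mD a b t) S
  hmin : MinOver (S ⊓ mOm a b t) M
  hMO : M ≤ mOm a b t

/-- Hypotheses of Theorem R: `L` is a group of isometries containing `H = S ⊓ Ω` and all
reflections in vectors of the planes, and not permuting the planes. -/
structure CtxR (a b : F) (t : ℕ) (S L : Subgroup (MV a b t ≃ₗ[F] MV a b t)) : Prop where
  ht : 5 ≤ t
  hq : Nat.card F ≠ 3
  hS : IsDStab (mD a b t) S
  hLO : L ≤ oG (mQ a b t)
  hHL : S ⊓ mOm a b t ≤ L
  hR : ∀ x, IsBl x → ∀ hx : mQ a b t x ≠ 0, mrefl a b t hx ∈ L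
  hLS : ¬ L ≤ S

end Cfsg.Agent.Lib.Helper94_Q2Defs
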