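import Mathlib
import Cfsg.Agent.Lib.Helper94_Q2Defs

set_option autoImplicit false
set_option linter.unusedSectionVars false
set_option linter.unusedVariables false

/-!
# Q2 market (architect helper94), package Q2-CASES, hypothesis-parametrised form

`CASES_aux`: statement of `CASES` with the statements of the packages DICH, NRMORB and TRANS as hypotheses.
-/

namespace Cfsg.Agent.Lib.Helper24_Q2_CASESaux

open Module Cfsg.Agent.Lib.Helper94_Symp Cfsg.Agent.Lib.Helper94_OrthSmall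
  Cfsg.Agent.Lib.Helper94_OrthSiegel Cfsg.Agent.Lib.Helper94_OrthNondeg
  Cfsg.Agent.Lib.Helper29_ODDefs Cfsg.Agent.Lib.Helper94_Q2Defs

variable {F : Type*} [Field F] [Finite F] {a b : F} [Fact (∀ r : F, r ^ 2 ≠ a + b * r)] {t : ℕ}
  {S M L : Subgroup (MV a b t ≃ₗ[F] MV a b t)}

/-- a nonzero vector of a coordinate plane is nonsingular -/
theorem mQ_ne_zero_of_isBl {x : MV a b t} (hx : IsBl x) : mQ a b t x ≠ 0 := by
  obtain ⟨hx0, l, hl⟩ := hx
  have hQ : mQ a b t x = QuadraticAlgebra.norm (x l) := by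
    rw [mQ_apply, Finset.sum_eq_single l]
    · intro j _ hj
      rw [hl j hj, QuadraticAlgebra.norm_zero]
    · intro h
      exact absurd (Finset.mem_univ l) h
  rw [hQ]
  intro h
  have hxl : x l = 0 := QuadraticAlgebra.norm_eq_zero_iff_eq_zero.mp h
  apply hx0
  funext j
  by_cases hj : j = l
  · rw [hj, hxl]; rfl
  · rw [hl j hj]; rfl

theorem isBl_smul {x : MV a b t} (hx : IsBl x) {c : F} (hc : c ≠ 0) : IsBl (c • x) := by
  obtain ⟨hx0, l, hl⟩ := hx
  exact ⟨smul_ne_zero hc hx0, l, (mD a b t l).smul_mem c hl⟩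

/-- in a finite field the product of two non-squares is a square -/
theorem isSquare_mul_of_not_isSquare {u v : F} (hu : ¬ IsSquare u) (hv : ¬ IsSquare v) :
    IsSquare (u * v) := by
  classical
  have : Fintype F := Fintype.ofFinite F
  by_cases h2 : ringChar F = 2
  · exact FiniteField.isSquare_of_char_two h2 _
  · have hu0 : u ≠ 0 := by
      rintro rfl
      exact hu (IsSquare.zero)
    have hv0 : v ≠ 0 := by
      rintro rfl
      exact hv (IsSquare.zero)
    have h1 := FiniteField.pow_dichotomy h2 hu0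
    have h1' := FiniteField.pow_dichotomy h2 hv0
    rw [FiniteField.isSquare_iff h2 (mul_ne_zero hu0 hv0), mul_pow]
    rcases h1 with h1 | h1
    · exact absurd ((FiniteField.isSquare_iff h2 hu0).mpr h1) hu
    rcases h1' with h1' | h1'
    · exact absurd ((FiniteField.isSquare_iff h2 hv0).mpr h1') hv
    rw [h1, h1']
    ring

/-- `CASES` from DICH, NRMORB and TRANS. -/
theorem CASES_aux
    (hDI : ∀ {x : MV a b t}, IsBl x → Nrm M x ∨ CStar S M x)
    (hNO : ∀ {x : MV a b t}, IsBl x → Nrm M x →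
      (∀ h ∈ S ⊓ mOm a b t, Nrm M (h x)) ∧ ∀ c : F, c ≠ 0 → Nrm M (c • x))
    (hTR : IsDStab (mD a b t) S → 3 ≤ t → ∀ {x y : MV a b t}, IsBl x → IsBl y →
      mQ a b t x = mQ a b t y → ∃ h ∈ S ⊓ mOm a b t, h x = y)
    (hC : Ctx2 a b t S M) :
    (∀ x, IsBl x → Nrm M x) ∨ (∀ x, IsBl x → CStar S M x) ∨
      ((2 : F) ≠ 0 ∧ ∃ d : F, d ≠ 0 ∧ (∀ x, IsBl x → IsSquare (d * mQ a b t x) → Nrm M x) ∧
        (∀ x, IsBl x → ¬ IsSquare (d * mQ a b t x) → CStar S M x)) := by
  have ht3 : 3 ≤ t := le_trans (by norm_num) hC.ht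
  -- the key transfer lemma
  have key : ∀ {x y : MV a b t}, IsBl x → Nrm M x → IsBl y → ∀ c : F, c ≠ 0 →
      mQ a b t y = c * c * mQ a b t x → Nrm M y := by
    intro x y hx hnx hy c hc hQ
    have hcx : IsBl (c • x) := isBl_smul hx hc
    have hncx : Nrm M (c • x) := (hNO hx hnx).2 c hc
    have hQ' : mQ a b t (c • x) = mQ a b t y := by rw [mQs, hQ]
    obtain ⟨h, hh, hhx⟩ := hTR hC.hS ht3 hcx hy hQ'
    have := (hNO hcx hncx).1 h hh
    rwa [hhx] at this
  by_cases hall : ∀ x, IsBl x → Nrm M x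
  · exact Or.inl hall
  right
  by_cases hnone : ∀ x, IsBl x → ¬ Nrm M x
  · left
    intro x hx
    rcases hDI hx with h | h
    · exact absurd h (hnone x hx)
    · exact h
  right
  push Not at hall hnone
  obtain ⟨x₀, hx₀, hn₀⟩ := hall
  obtain ⟨x₁, hx₁, hn₁⟩ := hnone
  have hq₀ := mQ_ne_zero_of_isBl hx₀
  have hq₁ := mQ_ne_zero_of_isBl hx₁
  set d : F := (mQ a b t x₁)⁻¹ with hd
  have hd0 : d ≠ 0 := inv_ne_zero hq₁
  -- squares (relative to `x₁`) are `Nrm`
  have hsq : ∀ x, IsBl x → IsSquare (d * mQ a b t x) → Nrm M x := by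
    intro x hx hs
    obtain ⟨e, he⟩ := hs
    have hqx := mQ_ne_zero_of_isBl hx
    have he0 : e ≠ 0 := by
      rintro rfl
      rw [mul_zero] at he
      exact (mul_ne_zero hd0 hqx) he
    apply key hx₁ hn₁ hx e he0
    have : mQ a b t x = (d * mQ a b t x) * mQ a b t x₁ := by
      rw [hd]; field_simp
    rw [this, he]
  have hns₀ : ¬ IsSquare (d * mQ a b t x₀) := fun h => hn₀ (hsq x₀ hx₀ h)
  refine ⟨?_, d, hd0, hsq, ?_⟩
  · intro h2
    apply hns₀
    classical
    have : Fintype F := Fintype.ofFinite F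
    have : CharP F 2 := CharTwo.of_one_ne_zero_of_two_eq_zero one_ne_zero h2
    exact FiniteField.isSquare_of_char_two (ringChar.eq F 2) _
  · intro x hx hns
    rcases hDI hx with h | h
    swap
    · exact h
    exfalso
    apply hn₀
    obtain ⟨e, he⟩ := isSquare_mul_of_not_isSquare hns hns₀
    have hqx := mQ_ne_zero_of_isBl hx
    have he0 : e ≠ 0 := by
      rintro rfl
      rw [mul_zero] at he
      exact (mul_ne_zero (mul_ne_zero hd0 hqx) (mul_ne_zero hd0 hq₀)) he
    have hc0 : e / (d * mQ a b t x) ≠ 0 := div_ne_zero he0 (mul_ne_zero hd0 hqx)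
    apply key hx h hx₀ (e / (d * mQ a b t x)) hc0
    have h1 : e * e = d * mQ a b t x * (d * mQ a b t x₀) := he.symm
    field_simp
    rw [pow_two e, h1]
    ring

end Cfsg.Agent.Lib.Helper24_Q2_CASESaux
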