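import Mathlib
import Cfsg.Agent.Lib.Helper29_ODDefs
import Cfsg.Agent.Lib.Helper94_OrthRefl
import Cfsg.Agent.Lib.Helper94_Q2Defs

set_option autoImplicit false
set_option linter.unusedSectionVars false
set_option linter.unusedVariables false

/-!
Concrete model for orthogonal decompositions into isometric HYPERBOLIC planes (`k = 2`, plus-type
planes): `V = Fin t → F × F`, `Q x = ∑ (x l).1 * (x l).2`, planes `P l = {x | x j = 0 for j ≠ l}`
with hyperbolic basis `e_l = single l (1, 0)`, `f_l = single l (0, 1)`.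
Vocabulary for the maximality of `(O_2^+(q) wr S_t) ∩ Ω` in `Ω` (row S5692), parallel to
`Helper94_Q2Defs` (minus-type planes).  (helper83)
-/

namespace Cfsg.Agent.Lib.Helper83_HP2Defs

open Module Cfsg.Agent.Lib.Helper94_Symp Cfsg.Agent.Lib.Helper94_OrthSmall
  Cfsg.Agent.Lib.Helper94_OrthSiegel Cfsg.Agent.Lib.Helper94_OrthNondeg
  Cfsg.Agent.Lib.Helper29_ODDefs Cfsg.Agent.Lib.Helper94_Q2Defs

variable (F : Type*) [Field F] (t : ℕ)

/-- The model space `(F × F)^t`. -/
abbrev PV : Type _ := Fin t → F × F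

/-- The quadratic form `Q x = ∑ (x l).1 * (x l).2`. -/
def pQ : PV F t → F := fun x => ∑ l, (x l).1 * (x l).2

/-- The polar form `B x y = ∑ ((x l).1 * (y l).2 + (x l).2 * (y l).1)`. -/
def pB : LinearMap.BilinForm F (PV F t) :=
  LinearMap.mk₂ F (fun x y => ∑ l, ((x l).1 * (y l).2 + (x l).2 * (y l).1))
    (fun x x' y => by
      simp only [Pi.add_apply, Prod.fst_add, Prod.snd_add, add_mul, ← Finset.sum_add_distrib]
      exact Finset.sum_congr rfl (fun l _ => by ring))
    (fun c x y => by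
      simp only [Pi.smul_apply, Prod.smul_fst, Prod.smul_snd, smul_eq_mul, Finset.mul_sum]
      exact Finset.sum_congr rfl (fun l _ => by ring))
    (fun x y y' => by
      simp only [Pi.add_apply, Prod.fst_add, Prod.snd_add, mul_add, ← Finset.sum_add_distrib]
      exact Finset.sum_congr rfl (fun l _ => by ring))
    (fun c x y => by
      simp only [Pi.smul_apply, Prod.smul_fst, Prod.smul_snd, smul_eq_mul, Finset.mul_sum]
      exact Finset.sum_congr rfl (fun l _ => by ring))

lemma pQ_apply (x : PV F t) : pQ F t x = ∑ l, (x l).1 * (x l).2 := rfl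

lemma pB_apply (x y : PV F t) :
    pB F t x y = ∑ l, ((x l).1 * (y l).2 + (x l).2 * (y l).1) := rfl

lemma pQs (c : F) (x : PV F t) : pQ F t (c • x) = c * c * pQ F t x := by
  simp only [pQ_apply, Pi.smul_apply, Prod.smul_fst, Prod.smul_snd, smul_eq_mul, Finset.mul_sum]
  exact Finset.sum_congr rfl (fun l _ => by ring)

lemma pQp (x y : PV F t) : pQ F t (x + y) = pQ F t x + pQ F t y + pB F t x y := by
  simp only [pQ_apply, pB_apply, Pi.add_apply, Prod.fst_add, Prod.snd_add,
    ← Finset.sum_add_distrib]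
  exact Finset.sum_congr rfl (fun l _ => by ring)

/-- The `l`-th coordinate plane. -/
def pD (l : Fin t) : Submodule F (PV F t) where
  carrier := {x | ∀ j, j ≠ l → x j = 0}
  add_mem' := by
    intro x y hx hy j hj
    rw [Pi.add_apply, hx j hj, hy j hj, add_zero]
  zero_mem' := fun j _ => rfl
  smul_mem' := by
    intro c x hx j hj
    rw [Pi.smul_apply, hx j hj, smul_zero]

lemma mem_pD {l : Fin t} {x : PV F t} : x ∈ pD F t l ↔ ∀ j, j ≠ l → x j = 0 := Iff.rfl

/-- `Ω = [O, O]` of the model. -/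
abbrev pOm : Subgroup (PV F t ≃ₗ[F] PV F t) := ⁅oG (pQ F t), oG (pQ F t)⁆

/-- The reflection of the model in a nonsingular vector. -/
abbrev prefl {x : PV F t} (hx : pQ F t x ≠ 0) : PV F t ≃ₗ[F] PV F t :=
  refl (pQ F t) (pB F t) (pQs F t) (pQp F t) hx

variable {F t}

/-- The reflection in `x` normalises `M`. -/
def PNrm (M : Subgroup (PV F t ≃ₗ[F] PV F t)) (x : PV F t) : Prop :=
  ∀ hx : pQ F t x ≠ 0, ∀ g ∈ M, prefl F t hx * g * prefl F t hx ∈ M

/-- `x` is a NONSINGULAR vector of one of the coordinate planes. -/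
def IsPBl (x : PV F t) : Prop := pQ F t x ≠ 0 ∧ ∃ l, x ∈ pD F t l

/-- (C∗) at `x`: the stabiliser in `M` of the point `⟨x⟩` permutes the planes. -/
def PCStar (S M : Subgroup (PV F t ≃ₗ[F] PV F t)) (x : PV F t) : Prop :=
  ∀ g ∈ M, (∃ c : F, g x = c • x) → g ∈ S

/-- The component `ζ` of a plane is singular. -/
def Sing (ζ : F × F) : Prop := ζ.1 * ζ.2 = 0

/-- The rotation `(α, β) ↦ (c α, c⁻¹ β)` of a hyperbolic plane. -/
def rotAct (c : F) (ζ : F × F) : F × F := (c * ζ.1, c⁻¹ * ζ.2)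

/-- The reflection `(α, β) ↦ (b β, b⁻¹ α)` of a hyperbolic plane. -/
def swpAct (b : F) (ζ : F × F) : F × F := (b * ζ.2, b⁻¹ * ζ.1)

/-- `γ(c) = (1 - c)(1 - c⁻¹) = 2 - c - c⁻¹`: the norm of `(1, 1) - (c, c⁻¹)`. -/
def gam (c : F) : F := (1 - c) * (1 - c⁻¹)

/-- The singular basis vectors `e_l = single l (1, 0)` and `f_l = single l (0, 1)`. -/
def pe (l : Fin t) : PV F t := Pi.single l (1, 0)

def pf (l : Fin t) : PV F t := Pi.single l (0, 1)

lemma finite_PV [Finite F] : Finite (PV F t) := inferInstance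

lemma finite_PVEquiv [Finite F] : Finite (PV F t ≃ₗ[F] PV F t) :=
  Finite.of_injective (fun g : PV F t ≃ₗ[F] PV F t => (g : PV F t → PV F t))
    (fun g h hgh => LinearEquiv.ext (fun x => congrFun hgh x))

open Classical in
/-- The support of `x`: the coordinates which do not vanish. -/
noncomputable def PSupp (x : PV F t) : Finset (Fin t) := Finset.univ.filter (fun l => x l ≠ 0)

/-- The reflection in `w` lies in `L`. -/
def PInRc (L : Subgroup (PV F t ≃ₗ[F] PV F t)) (w : PV F t) : Prop :=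
  ∃ hw : pQ F t w ≠ 0, prefl F t hw ∈ L

/-- Common hypotheses: `M` is a minimal overgroup of `H = S ⊓ Ω` inside `Ω`; `t ≥ 7`, `q ≥ 7`. -/
structure PCtx2 (F : Type*) [Field F] (t : ℕ) (S M : Subgroup (PV F t ≃ₗ[F] PV F t)) : Prop where
  ht : 7 ≤ t
  hq : 7 ≤ Nat.card F
  hS : IsDStab (pD F t) S
  hmin : MinOver (S ⊓ pOm F t) M
  hMO : M ≤ pOm F t

/-- Hypotheses of Theorem R: `L` is a group of isometries containing `H = S ⊓ Ω` and all
reflections in nonsingular vectors of the planes, and not permuting the planes. -/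
structure PCtxR (F : Type*) [Field F] (t : ℕ) (S L : Subgroup (PV F t ≃ₗ[F] PV F t)) : Prop where
  ht : 7 ≤ t
  hq : 7 ≤ Nat.card F
  hS : IsDStab (pD F t) S
  hLO : L ≤ oG (pQ F t)
  hHL : S ⊓ pOm F t ≤ L
  hR : ∀ x, IsPBl x → ∀ hx : pQ F t x ≠ 0, prefl F t hx ∈ L
  hLS : ¬ L ≤ S

end Cfsg.Agent.Lib.Helper83_HP2Defs
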