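import Mathlib
import Cfsg.Agent.Lib.Helper83_HP2Defs

/-!
# HP2 market (architect helper83), package HP2-DICH, auxiliary form

`DICH_of`: the dichotomy `PNrm M x ∨ PCStar S M x` with the statement of `NRMH` as hypothesis.
Also `prefl_smul` (the reflection in `c • x` is the reflection in `x`).
Port of `Helper42_Q2_DICHaux` (minus-type twin).
-/

set_option autoImplicit false
set_option linter.unusedSectionVars false
set_option linter.unusedVariables false

namespace Cfsg.Agent.Lib.Helper41_HP2_DICHaux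

open Module Cfsg.Agent.Lib.Helper94_Symp Cfsg.Agent.Lib.Helper94_OrthSmall
  Cfsg.Agent.Lib.Helper94_OrthSiegel Cfsg.Agent.Lib.Helper94_OrthNondeg
  Cfsg.Agent.Lib.Helper29_ODDefs Cfsg.Agent.Lib.Helper94_Q2Defs Cfsg.Agent.Lib.Helper83_HP2Defs

variable {F : Type*} [Field F] {t : ℕ} {S M L : Subgroup (PV F t ≃ₗ[F] PV F t)}

/-- the reflection in `c • x` is the reflection in `x` -/
theorem prefl_smul {x : PV F t} (hx : pQ F t x ≠ 0) {c : F} (hc : c ≠ 0)
    (hcx : pQ F t (c • x) ≠ 0) : prefl F t hcx = prefl F t hx := by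
  apply LinearEquiv.ext
  intro v
  rw [refl_apply, refl_apply, pQs, map_smul, smul_eq_mul, smul_smul]
  congr 2
  field_simp

/-- the reflection only depends on the vector -/
theorem prefl_congr {x y : PV F t} (hx : pQ F t x ≠ 0) (hy : pQ F t y ≠ 0) (h : y = x) :
    prefl F t hy = prefl F t hx := by
  subst h
  rfl

/-- the reflection is an involution -/
theorem prefl_mul_self {x : PV F t} (hx : pQ F t x ≠ 0) :
    prefl F t hx * prefl F t hx = 1 := by
  have h := refl_inv (pQ F t) (pB F t) (pQs F t) (pQp F t) hx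
  calc prefl F t hx * prefl F t hx = (prefl F t hx)⁻¹ * prefl F t hx := by rw [h]
    _ = 1 := inv_mul_cancel _

/-- The dichotomy, from `NRMH`. -/
theorem DICH_of (hC : PCtx2 F t S M) {x : PV F t} (hx : IsPBl x)
    (hNRMH : ∀ h ∈ S ⊓ pOm F t, prefl F t hx.1 * h * prefl F t hx.1 ∈ S ⊓ pOm F t) :
    PNrm M x ∨ PCStar S M x := by
  have hx' : pQ F t x ≠ 0 := hx.1
  set r := prefl F t hx' with hr
  have hrr : r * r = 1 := prefl_mul_self hx'
  have hrinv : r⁻¹ = r := refl_inv (pQ F t) (pB F t) (pQs F t) (pQp F t) hx'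
  have hMO : M ≤ oG (pQ F t) := hC.hMO.trans (Subgroup.commutator_le_self _)
  set M' : Subgroup (PV F t ≃ₗ[F] PV F t) := M.map (MulAut.conj r).toMonoidHom with hM'
  have hmemM' : ∀ g, g ∈ M' ↔ r * g * r ∈ M := by
    intro g
    constructor
    · rintro ⟨m, hm, rfl⟩
      have h1 : r * ((MulAut.conj r).toMonoidHom m) * r = (r * r) * m * (r⁻¹ * r) := by
        show r * (r * m * r⁻¹) * r = (r * r) * m * (r⁻¹ * r)
        group
      rw [h1, hrr, inv_mul_cancel, one_mul, mul_one]
      exact hm
    · intro h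
      refine ⟨r * g * r, h, ?_⟩
      show r * (r * g * r) * r⁻¹ = g
      have h1 : r * (r * g * r) * r⁻¹ = (r * r) * g * (r * r⁻¹) := by group
      rw [h1, hrr, mul_inv_cancel, one_mul, mul_one]
  have hHM' : S ⊓ pOm F t ≤ M' := by
    intro h hh
    rw [hmemM']
    exact hC.hmin.le (hNRMH h hh)
  rcases hC.hmin.min (M ⊓ M') (le_inf hC.hmin.le hHM') inf_le_left with hK | hK
  · -- `M ⊓ M' = H`: (C∗)
    right
    intro g hg hgx
    obtain ⟨c, hgc⟩ := hgx
    have hx0 : x ≠ 0 := by
      rintro rfl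
      apply hx'
      rw [pQ_apply]
      exact Finset.sum_eq_zero (fun l _ => by simp)
    have hc : c ≠ 0 := by
      rintro rfl
      rw [zero_smul] at hgc
      have : g x = g 0 := by rw [hgc, map_zero]
      exact hx0 (g.injective this)
    have hgO : g ∈ oG (pQ F t) := hMO hg
    have hconj := conj_refl (pQ F t) (pB F t) (pQs F t) (pQp F t) hgO hx'
    have hgx' : pQ F t (g x) ≠ 0 := by rw [hgO x]; exact hx'
    have hcx : pQ F t (c • x) ≠ 0 := by rw [← hgc]; exact hgx'
    have h2 : prefl F t hgx' = r :=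
      (prefl_congr hcx hgx' hgc).trans (prefl_smul hx' hc hcx)
    have h3 : g * r * g⁻¹ = r := hconj.trans h2
    have h4 : r * g * r = g := by
      have : g * r = r * g := by
        calc g * r = g * r * g⁻¹ * g := by group
          _ = r * g := by rw [h3]
      calc r * g * r = r * (g * r) := by group
        _ = r * (r * g) := by rw [this]
        _ = (r * r) * g := by group
        _ = g := by rw [hrr, one_mul]
    have h5 : g ∈ M' := by
      rw [hmemM', h4]
      exact hg
    have h6 : g ∈ M ⊓ M' := ⟨hg, h5⟩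
    rw [hK] at h6
    exact h6.1
  · -- `M ⊓ M' = M`: the reflection normalises `M`
    left
    intro hx'' g hg
    have h1 : g ∈ M ⊓ M' := by rw [hK]; exact hg
    exact (hmemM' g).mp h1.2

end Cfsg.Agent.Lib.Helper41_HP2_DICHaux
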