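/-
HP2 market (architect helper83), package HP2-NRMH: the reflections in the nonsingular vectors of the planes normalise
`H = S ⊓ Ω`.  (port of helper79's Q2-NRMH; a private copy `BLREFL'` of HP2-BLREFL is included so that the file does not
wait for that package)
-/
import Mathlib
import Cfsg.Agent.Lib.Helper83_HP2Defs

set_option autoImplicit false
set_option linter.unusedSectionVars false
set_option linter.unusedVariables false

namespace Cfsg.Agent.Lib.Helper82_HP2_NRMH

open Module Cfsg.Agent.Lib.Helper94_Symp Cfsg.Agent.Lib.Helper94_OrthSmall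
  Cfsg.Agent.Lib.Helper94_OrthSiegel Cfsg.Agent.Lib.Helper94_OrthNondeg
  Cfsg.Agent.Lib.Helper29_ODDefs Cfsg.Agent.Lib.Helper94_Q2Defs Cfsg.Agent.Lib.Helper83_HP2Defs
open scoped commutatorElement

variable {F : Type*} [Field F] [Finite F] {t : ℕ} {S M L : Subgroup (PV F t ≃ₗ[F] PV F t)}

/-- the commutator subgroup of a subgroup `O` is stable under conjugation by the elements of `O` -/
theorem conj_mem_commutator {G : Type*} [Group G] (O : Subgroup G) {g h : G} (hg : g ∈ O)
    (hh : h ∈ ⁅O, O⁆) : g * h * g⁻¹ ∈ ⁅O, O⁆ := by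
  have hle : ⁅O, O⁆ ≤ O := by
    rw [Subgroup.commutator_le]
    intro g₁ h₁ g₂ h₂
    exact O.mul_mem (O.mul_mem (O.mul_mem h₁ h₂) (O.inv_mem h₁)) (O.inv_mem h₂)
  have h1 : ⁅g, h⁆ ∈ ⁅O, O⁆ := Subgroup.commutator_mem_commutator hg (hle hh)
  have e : g * h * g⁻¹ = ⁅g, h⁆ * h := by
    rw [commutatorElement_def]
    group
  rw [e]
  exact Subgroup.mul_mem _ h1 hh

/-- the reflection in `x ∈ pD l` maps every coordinate plane into itself -/
theorem prefl_mem_pD {l : Fin t} {x : PV F t} (hx : x ∈ pD F t l) (hx' : pQ F t x ≠ 0)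
    (i : Fin t) {v : PV F t} (hv : v ∈ pD F t i) : prefl F t hx' v ∈ pD F t i := by
  rw [refl_apply]
  by_cases hil : i = l
  · subst hil
    exact (pD F t i).sub_mem hv ((pD F t i).smul_mem _ hx)
  · have hB : pB F t v x = 0 := by
      rw [pB_apply]
      apply Finset.sum_eq_zero
      intro j _
      by_cases hj : j = i
      · have : x j = 0 := hx j (by rw [hj]; exact hil)
        rw [this, Prod.fst_zero, Prod.snd_zero, mul_zero, mul_zero, add_zero]
      · rw [hv j hj, Prod.fst_zero, Prod.snd_zero, zero_mul, zero_mul, add_zero]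
    rw [hB, mul_zero, zero_smul, sub_zero]
    exact hv

/-- private copy of HP2-BLREFL: the reflection in a nonsingular vector of a plane lies in the decomposition stabiliser -/
theorem BLREFL' (S : Subgroup (PV F t ≃ₗ[F] PV F t)) (hS : IsDStab (pD F t) S)
    {x : PV F t} (hx : IsPBl x) (hx' : pQ F t x ≠ 0) : prefl F t hx' ∈ S := by
  obtain ⟨-, l, hl⟩ := hx
  rw [hS]
  refine ⟨1, fun i => ?_⟩
  rw [Equiv.Perm.one_apply]
  apply le_antisymm
  · rintro _ ⟨v, hv, rfl⟩
    exact prefl_mem_pD hl hx' i hv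
  · intro v hv
    refine ⟨prefl F t hx' v, prefl_mem_pD hl hx' i hv, ?_⟩
    have h := reflLin_invol (pQ F t) (pB F t) (pQs F t) (pQp F t) hx' v
    exact h

/-- **HP2-NRMH** [S] (twin Q2-NRMH) BLREFL (in S) + pOm is normal in oG pQ, refl_inv. -/
theorem NRMH (hS : IsDStab (pD F t) S) {x : PV F t} (hx : IsPBl x) (hx' : pQ F t x ≠ 0)
    {h : PV F t ≃ₗ[F] PV F t} (hh : h ∈ S ⊓ pOm F t) :
    prefl F t hx' * h * prefl F t hx' ∈ S ⊓ pOm F t := by
  have hrS : prefl F t hx' ∈ S := BLREFL' S hS hx hx'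
  have hrO : prefl F t hx' ∈ oG (pQ F t) := refl_mem _ _ _ _ hx'
  refine ⟨S.mul_mem (S.mul_mem hrS hh.1) hrS, ?_⟩
  have h1 := conj_mem_commutator (oG (pQ F t)) hrO hh.2
  rw [refl_inv] at h1
  exact h1

end Cfsg.Agent.Lib.Helper82_HP2_NRMH
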