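import Mathlib
import Cfsg.Agent.Lib.Helper83_HP2Defs
import Cfsg.Agent.Lib.Helper82_HP2_NRMH
import Cfsg.Agent.Lib.Helper41_HP2_DICHaux

/-!
# HP2 market (architect helper83), package HP2-DICH (verbatim)

The dichotomy `PNrm M x ∨ PCStar S M x` for a nonsingular plane vector `x`, from `DICH_of`
(`Helper41_HP2_DICHaux`) and the landed `HP2-NRMH` (helper82).
-/

set_option autoImplicit false
set_option linter.unusedSectionVars false
set_option linter.unusedVariables false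

namespace Cfsg.Agent.Lib.Helper41_HP2_DICH

open Module Cfsg.Agent.Lib.Helper94_Symp Cfsg.Agent.Lib.Helper94_OrthSmall
  Cfsg.Agent.Lib.Helper94_OrthSiegel Cfsg.Agent.Lib.Helper94_OrthNondeg
  Cfsg.Agent.Lib.Helper29_ODDefs Cfsg.Agent.Lib.Helper94_Q2Defs Cfsg.Agent.Lib.Helper83_HP2Defs

variable {F : Type*} [Field F] [Finite F] {t : ℕ} {S M L : Subgroup (PV F t ≃ₗ[F] PV F t)}

/-- **HP2-DICH** [M] (twin Q2-DICH) r := prefl x.  M' := M.map (conj by r) contains H (NRMH), so K' := M ⊓ M' is H or M (hmin.min).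
K' = M: PNrm.  K' = H: g in M with g x = c x: g r g⁻¹ = prefl (g x) = r, so g = r g r in M': g in H <= S. -/
theorem DICH (hC : PCtx2 F t S M) {x : PV F t} (hx : IsPBl x) : PNrm M x ∨ PCStar S M x :=
  Cfsg.Agent.Lib.Helper41_HP2_DICHaux.DICH_of hC hx
    (fun h hh => Cfsg.Agent.Lib.Helper82_HP2_NRMH.NRMH hC.hS hx hx.1 hh)

end Cfsg.Agent.Lib.Helper41_HP2_DICH
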