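import Mathlib
import Cfsg.Agent.Lib.Helper83_HP2Defs

set_option autoImplicit false
set_option linter.unusedSectionVars false
set_option linter.unusedVariables false

/-!
# HP2 market (architect helper83), package HP2-ROT: the diagonal rotations `x ↦ (rotAct (w l) (x l))_l`
(port of `Helper44_Q2_ROT`).
-/

namespace Cfsg.Agent.Lib.Helper61_HP2_ROT

open Module Cfsg.Agent.Lib.Helper94_Symp Cfsg.Agent.Lib.Helper94_OrthSmall
  Cfsg.Agent.Lib.Helper94_OrthSiegel Cfsg.Agent.Lib.Helper94_OrthNondeg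
  Cfsg.Agent.Lib.Helper29_ODDefs Cfsg.Agent.Lib.Helper94_Q2Defs Cfsg.Agent.Lib.Helper83_HP2Defs

section tools

variable {F : Type*} [Field F] {t : ℕ}

theorem rotAct_add (c : F) (ζ ξ : F × F) : rotAct c (ζ + ξ) = rotAct c ζ + rotAct c ξ := by
  unfold rotAct
  ext
  · simp only [Prod.fst_add, mul_add]
  · simp only [Prod.snd_add, mul_add]

theorem rotAct_smul (c d : F) (ζ : F × F) : rotAct c (d • ζ) = d • rotAct c ζ := by
  unfold rotAct
  ext
  · simp only [Prod.smul_fst, smul_eq_mul]; ring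
  · simp only [Prod.smul_snd, smul_eq_mul]; ring

theorem rotAct_zero (c : F) : rotAct c (0 : F × F) = 0 := by
  unfold rotAct
  ext
  · simp
  · simp

theorem rotAct_rotAct {c c' : F} (h : c * c' = 1) (ζ : F × F) : rotAct c' (rotAct c ζ) = ζ := by
  have hc : c ≠ 0 := left_ne_zero_of_mul_eq_one h
  have hc' : c' ≠ 0 := right_ne_zero_of_mul_eq_one h
  have h' : c'⁻¹ * c⁻¹ = 1 := by
    rw [← mul_inv, mul_comm, h, inv_one]
  unfold rotAct
  ext
  · show c' * (c * ζ.1) = ζ.1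
    rw [← mul_assoc, mul_comm c', h, one_mul]
  · show c'⁻¹ * (c⁻¹ * ζ.2) = ζ.2
    rw [← mul_assoc, h', one_mul]

theorem rotAct_fst_mul_snd {c : F} (hc : c ≠ 0) (ζ : F × F) :
    (rotAct c ζ).1 * (rotAct c ζ).2 = ζ.1 * ζ.2 := by
  unfold rotAct
  show c * ζ.1 * (c⁻¹ * ζ.2) = ζ.1 * ζ.2
  field_simp

/-- the diagonal rotation `x ↦ (rotAct (w l) (x l))_l` -/
def drot (w w' : Fin t → F) (h : ∀ l, w l * w' l = 1) : PV F t ≃ₗ[F] PV F t where
  toFun x := fun l => rotAct (w l) (x l)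
  map_add' x y := by
    funext l
    simp only [Pi.add_apply, rotAct_add]
  map_smul' c x := by
    funext l
    simp only [Pi.smul_apply, rotAct_smul, RingHom.id_apply]
  invFun x := fun l => rotAct (w' l) (x l)
  left_inv x := by
    funext l
    exact rotAct_rotAct (h l) (x l)
  right_inv x := by
    funext l
    exact rotAct_rotAct (by rw [mul_comm]; exact h l) (x l)

theorem drot_apply (w w' : Fin t → F) (h : ∀ l, w l * w' l = 1) (x : PV F t) (l : Fin t) :
    drot w w' h x l = rotAct (w l) (x l) := rfl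

theorem drot_symm_apply (w w' : Fin t → F) (h : ∀ l, w l * w' l = 1) (x : PV F t) (l : Fin t) :
    (drot w w' h).symm x l = rotAct (w' l) (x l) := rfl

theorem drot_inv (w w' : Fin t → F) (h : ∀ l, w l * w' l = 1) :
    (drot w w' h)⁻¹ = drot w' w (fun l => by rw [mul_comm, h]) := by
  apply LinearEquiv.ext
  intro x
  rfl

theorem drot_mem_oG (w w' : Fin t → F) (h : ∀ l, w l * w' l = 1) :
    drot w w' h ∈ oG (pQ F t) := by
  intro x
  rw [pQ_apply, pQ_apply]
  apply Finset.sum_congr rfl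
  intro l _
  rw [drot_apply]
  exact rotAct_fst_mul_snd (left_ne_zero_of_mul_eq_one (h l)) (x l)

theorem drot_map_pD (w w' : Fin t → F) (h : ∀ l, w l * w' l = 1) (i : Fin t) :
    (pD F t i).map ((drot w w' h : PV F t ≃ₗ[F] PV F t) : PV F t →ₗ[F] PV F t) = pD F t i := by
  apply le_antisymm
  · rintro _ ⟨x, hx, rfl⟩
    intro j hj
    show rotAct (w j) (x j) = 0
    rw [hx j hj, rotAct_zero]
  · intro y hy
    refine ⟨(drot w w' h).symm y, ?_, ?_⟩
    · intro j hj
      show rotAct (w' j) (y j) = 0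
      rw [hy j hj, rotAct_zero]
    · exact (drot w w' h).apply_symm_apply y

end tools

variable {F : Type*} [Field F] [Finite F] {t : ℕ} {S M L : Subgroup (PV F t ≃ₗ[F] PV F t)}

/-- **HP2-ROT** diagonal rotations. -/
theorem ROT (S : Subgroup (PV F t ≃ₗ[F] PV F t)) (hS : IsDStab (pD F t) S)
    (w : Fin t → F) (hw : ∀ l, w l ≠ 0) :
    ∃ g : PV F t ≃ₗ[F] PV F t, g ∈ oG (pQ F t) ∧ g ∈ S ∧ ∀ x l, g x l = rotAct (w l) (x l) := by
  have h : ∀ l, w l * (w l)⁻¹ = 1 := fun l => mul_inv_cancel₀ (hw l)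
  refine ⟨drot w (fun l => (w l)⁻¹) h, drot_mem_oG _ _ h, ?_, fun x l => rfl⟩
  rw [hS]
  exact ⟨1, fun i => drot_map_pD _ _ h i⟩

end Cfsg.Agent.Lib.Helper61_HP2_ROT
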