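import Mathlib
import Cfsg.Agent.Lib.Helper83_HP2Defs
import Cfsg.Agent.Lib.Helper61_HP2_ROT

set_option autoImplicit false
set_option linter.unusedSectionVars false
set_option linter.unusedVariables false

/-!
# HP2 market (architect helper83), package HP2-ROTA: the pair rotations `(c, c⁻¹)` on two coordinates are commutators of
isometries (port of `Helper44_Q2_ROTA`).
-/

namespace Cfsg.Agent.Lib.Helper61_HP2_ROTA

open scoped commutatorElement

open Module Cfsg.Agent.Lib.Helper94_Symp Cfsg.Agent.Lib.Helper94_OrthSmall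
  Cfsg.Agent.Lib.Helper94_OrthSiegel Cfsg.Agent.Lib.Helper94_OrthNondeg
  Cfsg.Agent.Lib.Helper29_ODDefs Cfsg.Agent.Lib.Helper94_Q2Defs Cfsg.Agent.Lib.Helper83_HP2Defs
  Cfsg.Agent.Lib.Helper61_HP2_ROT

section tools

variable {F : Type*} [Field F] {t : ℕ}

/-- the coordinate permutation `x ↦ x ∘ σ` -/
def pperm (σ : Equiv.Perm (Fin t)) : PV F t ≃ₗ[F] PV F t :=
  LinearEquiv.funCongrLeft F (F × F) σ

theorem pperm_apply (σ : Equiv.Perm (Fin t)) (x : PV F t) (j : Fin t) :
    (pperm σ : PV F t ≃ₗ[F] PV F t) x j = x (σ j) := rfl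

theorem pperm_mem_oG (σ : Equiv.Perm (Fin t)) :
    (pperm σ : PV F t ≃ₗ[F] PV F t) ∈ oG (pQ F t) := by
  intro x
  rw [pQ_apply, pQ_apply]
  exact Equiv.sum_comp σ (fun l => (x l).1 * (x l).2)

theorem pperm_swap_inv (l m : Fin t) :
    (pperm (Equiv.swap l m) : PV F t ≃ₗ[F] PV F t)⁻¹ = pperm (Equiv.swap l m) := by
  apply LinearEquiv.ext
  intro x
  apply (pperm (Equiv.swap l m) : PV F t ≃ₗ[F] PV F t).injective
  rw [← LinearEquiv.mul_apply, mul_inv_cancel]
  funext j
  rw [pperm_apply, pperm_apply, Equiv.swap_apply_self]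
  rfl

theorem rotAct_one (ζ : F × F) : rotAct (1 : F) ζ = ζ := by
  unfold rotAct
  ext
  · simp
  · simp

end tools

variable {F : Type*} [Field F] [Finite F] {t : ℕ} {S M L : Subgroup (PV F t ≃ₗ[F] PV F t)}

/-- **HP2-ROTA** -/
theorem ROTA {l m : Fin t} (hlm : l ≠ m) {c : F} (hc : c ≠ 0) (g : PV F t ≃ₗ[F] PV F t)
    (hg : ∀ x j, g x j = if j = l then rotAct c (x j) else if j = m then rotAct c⁻¹ (x j) else x j) :
    g ∈ pOm F t := by
  classical
  set w : Fin t → F := fun j => if j = l then c else 1 with hw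
  set w' : Fin t → F := fun j => if j = l then c⁻¹ else 1 with hw'
  have h : ∀ j, w j * w' j = 1 := by
    intro j
    simp only [hw, hw']
    split_ifs
    · exact mul_inv_cancel₀ hc
    · exact one_mul 1
  set r : PV F t ≃ₗ[F] PV F t := drot w w' h with hr
  set p : PV F t ≃ₗ[F] PV F t := pperm (Equiv.swap l m) with hp
  have hrO : r ∈ oG (pQ F t) := drot_mem_oG w w' h
  have hpO : p ∈ oG (pQ F t) := pperm_mem_oG _
  have hgeq : g = ⁅r, p⁆ := by
    apply LinearEquiv.ext
    intro x
    funext j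
    rw [hg, commutatorElement_def, hp, pperm_swap_inv, hr, drot_inv]
    simp only [LinearEquiv.mul_apply, drot_apply, pperm_apply]
    rw [Equiv.swap_apply_self]
    simp only [hw, hw']
    by_cases hjl : j = l
    · subst hjl
      rw [if_pos rfl, if_pos rfl, Equiv.swap_apply_left, if_neg (Ne.symm hlm), rotAct_one]
    · by_cases hjm : j = m
      · subst hjm
        rw [if_neg hjl, if_neg hjl, if_pos rfl, Equiv.swap_apply_right, if_pos rfl, rotAct_one]
      · rw [if_neg hjl, if_neg hjl, if_neg hjm, Equiv.swap_apply_of_ne_of_ne hjl hjm, if_neg hjl,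
          rotAct_one, rotAct_one]
  rw [hgeq]
  exact Subgroup.commutator_mem_commutator hrO hpO

end Cfsg.Agent.Lib.Helper61_HP2_ROTA
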