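import Mathlib
import Cfsg.Agent.Lib.Helper83_HP2Defs

set_option autoImplicit false
set_option linter.unusedSectionVars false
set_option linter.unusedVariables false

/-!
HP2 market (helper83 architect), package **HP2-PERM** (twin of Q2-PERM, helper5): coordinate permutations of the model
`PV F t = Fin t → F × F` are isometries of `pQ`, lie in every decomposition stabiliser, and the
even ones lie in `pOm = [O, O]`.
-/

namespace Cfsg.Agent.Lib.Helper93_HP2_PERM

open Module Cfsg.Agent.Lib.Helper94_Symp Cfsg.Agent.Lib.Helper94_OrthSmall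
  Cfsg.Agent.Lib.Helper94_OrthSiegel Cfsg.Agent.Lib.Helper94_OrthNondeg
  Cfsg.Agent.Lib.Helper29_ODDefs Cfsg.Agent.Lib.Helper94_Q2Defs Cfsg.Agent.Lib.Helper83_HP2Defs
open scoped commutatorElement

section basic

variable (F : Type*) [Field F] (t : ℕ)

/-- The coordinate permutation `x ↦ x ∘ π⁻¹`. -/
def gP (π : Equiv.Perm (Fin t)) : PV F t ≃ₗ[F] PV F t :=
  LinearEquiv.funCongrLeft F (F × F) π.symm

variable {F t}

lemma gP_apply (π : Equiv.Perm (Fin t)) (x : PV F t) (l : Fin t) :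
    gP F t π x l = x (π.symm l) := rfl

lemma gP_apply_apply (π : Equiv.Perm (Fin t)) (x : PV F t) (l : Fin t) :
    gP F t π x (π l) = x l := by
  rw [gP_apply, Equiv.symm_apply_apply]

lemma gP_mul (π ρ : Equiv.Perm (Fin t)) : gP F t (π * ρ) = gP F t π * gP F t ρ := by
  refine LinearEquiv.ext fun x => funext fun l => ?_
  rw [LinearEquiv.mul_apply, gP_apply, gP_apply, gP_apply]
  rfl

variable (F t)

/-- `gP` as a monoid homomorphism. -/
def gPhom : Equiv.Perm (Fin t) →* (PV F t ≃ₗ[F] PV F t) :=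
  MonoidHom.mk' (gP F t) gP_mul

variable {F t}

lemma gPhom_apply (π : Equiv.Perm (Fin t)) : gPhom F t π = gP F t π := rfl

lemma gP_mem_oG (π : Equiv.Perm (Fin t)) : gP F t π ∈ oG (pQ F t) := by
  intro x
  rw [pQ_apply, pQ_apply]
  exact Equiv.sum_comp π.symm (fun l => (x l).1 * (x l).2)

lemma gP_map_pD (π : Equiv.Perm (Fin t)) (i : Fin t) :
    (pD F t i).map (gP F t π : PV F t →ₗ[F] PV F t) = pD F t (π i) := by
  ext y
  constructor
  · rintro ⟨x, hx, rfl⟩
    intro j hj
    have hx' : ∀ j, j ≠ i → x j = 0 := hx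
    show gP F t π x j = 0
    rw [gP_apply]
    apply hx'
    intro h
    apply hj
    rw [← h, Equiv.apply_symm_apply]
  · intro hy
    have hy' : ∀ j, j ≠ π i → y j = 0 := hy
    refine ⟨fun l => y (π l), ?_, ?_⟩
    · intro j hj
      show y (π j) = 0
      apply hy'
      intro h
      exact hj (π.injective h)
    · funext l
      show gP F t π (fun l => y (π l)) l = y l
      rw [gP_apply]
      show y (π (π.symm l)) = y l
      rw [Equiv.apply_symm_apply]

lemma gP_threeCycle_mem {σ : Equiv.Perm (Fin t)} (hσ : σ.IsThreeCycle) :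
    gP F t σ ∈ pOm F t := by
  have h3 : σ ^ 3 = 1 := by
    rw [← hσ.orderOf]; exact pow_orderOf_eq_one σ
  have hconj : IsConj σ σ⁻¹ := by
    rw [Equiv.Perm.isConj_iff_cycleType_eq, Equiv.Perm.cycleType_inv]
  obtain ⟨τ, hτ⟩ := isConj_iff.1 hconj
  -- τ σ τ⁻¹ = σ⁻¹
  have hcomm : ⁅τ, σ⁆ = σ := by
    rw [commutatorElement_def, hτ]
    have : σ⁻¹ * σ⁻¹ = σ := by
      have h : σ * (σ⁻¹ * σ⁻¹) = σ * σ := by
        have : σ * σ * σ = 1 := by
          rw [← h3, pow_succ, pow_two]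
        calc σ * (σ⁻¹ * σ⁻¹) = σ⁻¹ := by group
          _ = σ⁻¹ * (σ * σ * σ) := by rw [this, mul_one]
          _ = σ * σ := by group
      exact mul_left_cancel h
    exact this
  have : gP F t σ = ⁅gPhom F t τ, gPhom F t σ⁆ := by
    rw [← map_commutatorElement, hcomm, gPhom_apply]
  rw [this]
  exact Subgroup.commutator_mem_commutator (gP_mem_oG τ) (gP_mem_oG σ)

lemma gP_even_mem {π : Equiv.Perm (Fin t)} (hπ : Equiv.Perm.sign π = 1) :
    gP F t π ∈ pOm F t := by
  have hmem : π ∈ alternatingGroup (Fin t) := Equiv.Perm.mem_alternatingGroup.2 hπ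
  rw [← Equiv.Perm.closure_three_cycles_eq_alternating] at hmem
  have hle : Subgroup.closure {σ : Equiv.Perm (Fin t) | σ.IsThreeCycle} ≤
      (pOm F t).comap (gPhom F t) := by
    rw [Subgroup.closure_le]
    intro σ hσ
    exact gP_threeCycle_mem hσ
  exact hle hmem

end basic

variable {F : Type*} [Field F] [Finite F] {t : ℕ} {S M L : Subgroup (PV F t ≃ₗ[F] PV F t)}

/-- **HP2-PERM** -/
theorem PERM (S : Subgroup (PV F t ≃ₗ[F] PV F t)) (hS : IsDStab (pD F t) S)
    (π : Equiv.Perm (Fin t)) :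
    ∃ g : PV F t ≃ₗ[F] PV F t, g ∈ oG (pQ F t) ∧ g ∈ S ∧ (∀ x l, g x (π l) = x l) ∧
      (Equiv.Perm.sign π = 1 → g ∈ pOm F t) := by
  refine ⟨gP F t π, gP_mem_oG π, ?_, fun x l => gP_apply_apply π x l, fun h => gP_even_mem h⟩
  exact (hS _).2 ⟨π, fun i => gP_map_pD π i⟩

end Cfsg.Agent.Lib.Helper93_HP2_PERM
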