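import Mathlib
import Cfsg.Agent.Lib.Helper83_HP2Defs
import Cfsg.Agent.Lib.Helper93_HP2_PERM
import Cfsg.Agent.Lib.Helper61_HP2_ROT
import Cfsg.Agent.Lib.Helper61_HP2_ROTA

set_option autoImplicit false
set_option linter.unusedSectionVars false
set_option linter.unusedVariables false

/-!
# HP2 package TRANS (architect helper83): `S ⊓ Ω` is transitive on the nonsingular block vectors of a
given norm (hyperbolic planes).  `TRANS_of` takes the statements of HP2-PERM, HP2-ROT, HP2-ROTA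
(specialised to `S`) as hypotheses.  (helper55)
-/

namespace Cfsg.Agent.Lib.Helper55_HP2_TRANS

open Module Cfsg.Agent.Lib.Helper94_Symp Cfsg.Agent.Lib.Helper94_OrthSmall
  Cfsg.Agent.Lib.Helper94_OrthSiegel Cfsg.Agent.Lib.Helper94_OrthNondeg
  Cfsg.Agent.Lib.Helper29_ODDefs Cfsg.Agent.Lib.Helper94_Q2Defs Cfsg.Agent.Lib.Helper83_HP2Defs

variable {F : Type*} [Field F] [Finite F] {t : ℕ} {S M L : Subgroup (PV F t ≃ₗ[F] PV F t)}

/-- the form on a vector of the plane `pD l` -/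
theorem h55_pQ_of_mem {l : Fin t} {x : PV F t} (hx : x ∈ pD F t l) :
    pQ F t x = (x l).1 * (x l).2 := by
  rw [pQ_apply]
  refine Finset.sum_eq_single l (fun j _ hj => ?_) (fun h => absurd (Finset.mem_univ l) h)
  rw [hx j hj]
  simp

/-- two nonsingular vectors of the same plane `pD j` with the same norm are conjugate under
`S ⊓ Ω` -/
theorem trans_same
    (hROT : ∀ w : Fin t → F, (∀ l, w l ≠ 0) →
      ∃ g : PV F t ≃ₗ[F] PV F t, g ∈ oG (pQ F t) ∧ g ∈ S ∧ ∀ x l, g x l = rotAct (w l) (x l))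
    (hROTA : ∀ {l m : Fin t}, l ≠ m → ∀ {c : F}, c ≠ 0 → ∀ g : PV F t ≃ₗ[F] PV F t,
      (∀ x j, g x j = if j = l then rotAct c (x j) else if j = m then rotAct c⁻¹ (x j) else x j) →
      g ∈ pOm F t)
    (ht : 3 ≤ t) {j : Fin t} {x y : PV F t}
    (hx0 : pQ F t x ≠ 0) (hx : x ∈ pD F t j) (hy : y ∈ pD F t j)
    (h : pQ F t x = pQ F t y) : ∃ h ∈ S ⊓ pOm F t, h x = y := by
  have hn : (x j).1 * (x j).2 = (y j).1 * (y j).2 := by
    rw [← h55_pQ_of_mem hx, ← h55_pQ_of_mem hy, h]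
  have hnx : (x j).1 * (x j).2 ≠ 0 := by
    rw [← h55_pQ_of_mem hx]
    exact hx0
  have hx1 : (x j).1 ≠ 0 := left_ne_zero_of_mul hnx
  have hx2 : (x j).2 ≠ 0 := right_ne_zero_of_mul hnx
  have hny : (y j).1 * (y j).2 ≠ 0 := by
    rw [← hn]
    exact hnx
  have hy1 : (y j).1 ≠ 0 := left_ne_zero_of_mul hny
  -- another coordinate
  obtain ⟨m, hm⟩ : ∃ m : Fin t, m ≠ j := by
    by_cases hj0 : j.val = 0
    · refine ⟨⟨1, by omega⟩, fun e => ?_⟩
      have := congrArg Fin.val e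
      simp only at this
      omega
    · refine ⟨⟨0, by omega⟩, fun e => ?_⟩
      have := congrArg Fin.val e
      simp only at this
      omega
  obtain ⟨z, hz⟩ : ∃ z : F, z = (y j).1 / (x j).1 := ⟨_, rfl⟩
  have hz0 : z ≠ 0 := by
    rw [hz]
    exact div_ne_zero hy1 hx1
  have hzx : rotAct z (x j) = y j := by
    unfold rotAct
    refine Prod.ext ?_ ?_
    · show z * (x j).1 = (y j).1
      rw [hz, div_mul_cancel₀ _ hx1]
    · show z⁻¹ * (x j).2 = (y j).2
      rw [hz, inv_div]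
      field_simp
      linear_combination hn
  obtain ⟨w, hw⟩ : ∃ w : Fin t → F, w = fun l => if l = j then z else if l = m then z⁻¹ else 1 :=
    ⟨_, rfl⟩
  have hw0 : ∀ l, w l ≠ 0 := by
    intro l
    rw [hw]
    simp only
    split_ifs
    · exact hz0
    · exact inv_ne_zero hz0
    · exact one_ne_zero
  obtain ⟨g, hgO, hgS, hg⟩ := hROT w hw0
  have hgOm : g ∈ pOm F t := by
    refine hROTA (Ne.symm hm) hz0 g (fun v l => ?_)
    rw [hg v l, hw]
    simp only
    split_ifs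
    · rfl
    · rfl
    · unfold rotAct
      refine Prod.ext ?_ ?_
      · show 1 * (v l).1 = (v l).1
        rw [one_mul]
      · show (1 : F)⁻¹ * (v l).2 = (v l).2
        rw [inv_one, one_mul]
  refine ⟨g, ⟨hgS, hgOm⟩, ?_⟩
  funext l
  rw [hg x l]
  by_cases hl : l = j
  · rw [hw]
    simp only [hl, if_true]
    exact hzx
  · rw [hx l hl, hy l hl]
    unfold rotAct
    simp

/-- **HP2-TRANS**, with the statements of HP2-PERM, HP2-ROT, HP2-ROTA as hypotheses. -/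
theorem TRANS_of
    (hPERM : ∀ π : Equiv.Perm (Fin t),
      ∃ g : PV F t ≃ₗ[F] PV F t, g ∈ oG (pQ F t) ∧ g ∈ S ∧ (∀ x l, g x (π l) = x l) ∧
        (Equiv.Perm.sign π = 1 → g ∈ pOm F t))
    (hROT : ∀ w : Fin t → F, (∀ l, w l ≠ 0) →
      ∃ g : PV F t ≃ₗ[F] PV F t, g ∈ oG (pQ F t) ∧ g ∈ S ∧ ∀ x l, g x l = rotAct (w l) (x l))
    (hROTA : ∀ {l m : Fin t}, l ≠ m → ∀ {c : F}, c ≠ 0 → ∀ g : PV F t ≃ₗ[F] PV F t,
      (∀ x j, g x j = if j = l then rotAct c (x j) else if j = m then rotAct c⁻¹ (x j) else x j) →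
      g ∈ pOm F t)
    (ht : 3 ≤ t) {x y : PV F t} (hx : IsPBl x)
    (hy : IsPBl y) (h : pQ F t x = pQ F t y) : ∃ h ∈ S ⊓ pOm F t, h x = y := by
  obtain ⟨hx0, i, hxi⟩ := hx
  obtain ⟨hy0, j, hyj⟩ := hy
  by_cases hij : i = j
  · subst hij
    exact trans_same hROT hROTA ht hx0 hxi hyj h
  · -- a third coordinate
    obtain ⟨k, hki, hkj⟩ : ∃ k : Fin t, k ≠ i ∧ k ≠ j := by
      by_contra hcon
      push Not at hcon
      have hsub : (Finset.univ : Finset (Fin t)) ⊆ {i, j} := by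
        intro l _
        by_cases hli : l = i
        · simp [hli]
        · simp [hcon l hli]
      have := Finset.card_le_card hsub
      rw [Finset.card_univ, Fintype.card_fin] at this
      have h2 := Finset.card_le_two (a := i) (b := j)
      omega
    obtain ⟨π, hπ⟩ : ∃ π : Equiv.Perm (Fin t), π = Equiv.swap i j * Equiv.swap j k := ⟨_, rfl⟩
    have hπi : π i = j := by
      rw [hπ, Equiv.Perm.mul_apply, Equiv.swap_apply_of_ne_of_ne hij (Ne.symm hki),
        Equiv.swap_apply_left]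
    have hsign : Equiv.Perm.sign π = 1 := by
      rw [hπ, map_mul, Equiv.Perm.sign_swap hij, Equiv.Perm.sign_swap (Ne.symm hkj)]
      rfl
    obtain ⟨p, hpO, hpS, hp, hpOm⟩ := hPERM π
    have hpx : p x ∈ pD F t j := by
      intro l hl
      have hl' : l = π (π⁻¹ l) := by simp
      rw [hl', hp x (π⁻¹ l)]
      apply hxi
      intro e
      apply hl
      rw [hl', e, hπi]
    have hQ : pQ F t (p x) = pQ F t y := by
      rw [← h]
      exact hpO x
    have hpx0 : pQ F t (p x) ≠ 0 := by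
      rw [hQ]
      exact hy0
    obtain ⟨g, hg, hgx⟩ := trans_same hROT hROTA ht hpx0 hpx hyj hQ
    refine ⟨g * p, (S ⊓ pOm F t).mul_mem hg ⟨hpS, hpOm hsign⟩, ?_⟩
    rw [LinearEquiv.mul_apply, hgx]

/-- **HP2-TRANS** [M] (twin Q2-TRANS): `S ⊓ Ω` is transitive on the nonsingular block vectors of a
given norm. -/
theorem TRANS (hS : IsDStab (pD F t) S) (ht : 3 ≤ t) {x y : PV F t} (hx : IsPBl x)
    (hy : IsPBl y) (h : pQ F t x = pQ F t y) : ∃ h ∈ S ⊓ pOm F t, h x = y :=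
  TRANS_of (fun π => Cfsg.Agent.Lib.Helper93_HP2_PERM.PERM S hS π)
    (fun w hw => Cfsg.Agent.Lib.Helper61_HP2_ROT.ROT S hS w hw)
    (fun h1 _ h2 g hg => Cfsg.Agent.Lib.Helper61_HP2_ROTA.ROTA h1 h2 g hg) ht hx hy h

end Cfsg.Agent.Lib.Helper55_HP2_TRANS
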