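import Mathlib
import Cfsg.Agent.Lib.Helper83_HP2Defs
import Cfsg.Agent.Lib.Helper24_Q2_CASESaux
import Cfsg.Agent.Lib.Helper41_HP2_DICH
import Cfsg.Agent.Lib.Helper82_HP2_NRMORB
import Cfsg.Agent.Lib.Helper55_HP2_TRANS

set_option autoImplicit false
set_option linter.unusedSectionVars false
set_option linter.unusedVariables false

/-!
# HP2 market (architect helper83), package HP2-CASES (helper10; port of `Helper24_Q2_CASESaux`)

`CASES_aux`: statement of `CASES` with the statements of the packages DICH, NRMORB and TRANS as hypotheses.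
-/

namespace Cfsg.Agent.Lib.Helper10_HP2_CASES

open Module Cfsg.Agent.Lib.Helper94_Symp Cfsg.Agent.Lib.Helper94_OrthSmall
  Cfsg.Agent.Lib.Helper94_OrthSiegel Cfsg.Agent.Lib.Helper94_OrthNondeg
  Cfsg.Agent.Lib.Helper29_ODDefs Cfsg.Agent.Lib.Helper94_Q2Defs Cfsg.Agent.Lib.Helper83_HP2Defs

variable {F : Type*} [Field F] [Finite F] {t : ℕ} {S M L : Subgroup (PV F t ≃ₗ[F] PV F t)}

theorem isPBl_smul {x : PV F t} (hx : IsPBl x) {c : F} (hc : c ≠ 0) : IsPBl (c • x) := by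
  obtain ⟨hx0, l, hl⟩ := hx
  refine ⟨?_, l, (pD F t l).smul_mem c hl⟩
  rw [pQs]
  exact mul_ne_zero (mul_ne_zero hc hc) hx0

/-- `CASES` from DICH, NRMORB and TRANS. -/
theorem CASES_aux
    (hDI : ∀ {x : PV F t}, IsPBl x → PNrm M x ∨ PCStar S M x)
    (hNO : ∀ {x : PV F t}, IsPBl x → PNrm M x →
      (∀ h ∈ S ⊓ pOm F t, PNrm M (h x)) ∧ ∀ c : F, c ≠ 0 → PNrm M (c • x))
    (hTR : IsDStab (pD F t) S → 3 ≤ t → ∀ {x y : PV F t}, IsPBl x → IsPBl y →
      pQ F t x = pQ F t y → ∃ h ∈ S ⊓ pOm F t, h x = y)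
    (hC : PCtx2 F t S M) :
    (∀ x, IsPBl x → PNrm M x) ∨ (∀ x, IsPBl x → PCStar S M x) ∨
      ((2 : F) ≠ 0 ∧ ∃ d : F, d ≠ 0 ∧ (∀ x, IsPBl x → IsSquare (d * pQ F t x) → PNrm M x) ∧
        (∀ x, IsPBl x → ¬ IsSquare (d * pQ F t x) → PCStar S M x)) := by
  have ht3 : 3 ≤ t := le_trans (by norm_num) hC.ht
  -- the key transfer lemma
  have key : ∀ {x y : PV F t}, IsPBl x → PNrm M x → IsPBl y → ∀ c : F, c ≠ 0 →
      pQ F t y = c * c * pQ F t x → PNrm M y := by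
    intro x y hx hnx hy c hc hQ
    have hcx : IsPBl (c • x) := isPBl_smul hx hc
    have hncx : PNrm M (c • x) := (hNO hx hnx).2 c hc
    have hQ' : pQ F t (c • x) = pQ F t y := by rw [pQs, hQ]
    obtain ⟨h, hh, hhx⟩ := hTR hC.hS ht3 hcx hy hQ'
    have := (hNO hcx hncx).1 h hh
    rwa [hhx] at this
  by_cases hall : ∀ x, IsPBl x → PNrm M x
  · exact Or.inl hall
  right
  by_cases hnone : ∀ x, IsPBl x → ¬ PNrm M x
  · left
    intro x hx
    rcases hDI hx with h | h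
    · exact absurd h (hnone x hx)
    · exact h
  right
  push Not at hall hnone
  obtain ⟨x₀, hx₀, hn₀⟩ := hall
  obtain ⟨x₁, hx₁, hn₁⟩ := hnone
  have hq₀ : pQ F t x₀ ≠ 0 := hx₀.1
  have hq₁ : pQ F t x₁ ≠ 0 := hx₁.1
  set d : F := (pQ F t x₁)⁻¹ with hd
  have hd0 : d ≠ 0 := inv_ne_zero hq₁
  -- squares (relative to `x₁`) are `PNrm`
  have hsq : ∀ x, IsPBl x → IsSquare (d * pQ F t x) → PNrm M x := by
    intro x hx hs
    obtain ⟨e, he⟩ := hs
    have hqx : pQ F t x ≠ 0 := hx.1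
    have he0 : e ≠ 0 := by
      rintro rfl
      rw [mul_zero] at he
      exact (mul_ne_zero hd0 hqx) he
    apply key hx₁ hn₁ hx e he0
    have : pQ F t x = (d * pQ F t x) * pQ F t x₁ := by
      rw [hd]; field_simp
    rw [this, he]
  have hns₀ : ¬ IsSquare (d * pQ F t x₀) := fun h => hn₀ (hsq x₀ hx₀ h)
  refine ⟨?_, d, hd0, hsq, ?_⟩
  · intro h2
    apply hns₀
    classical
    have : Fintype F := Fintype.ofFinite F
    have : CharP F 2 := CharTwo.of_one_ne_zero_of_two_eq_zero one_ne_zero h2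
    exact FiniteField.isSquare_of_char_two (ringChar.eq F 2) _
  · intro x hx hns
    rcases hDI hx with h | h
    swap
    · exact h
    exfalso
    apply hn₀
    obtain ⟨e, he⟩ := Cfsg.Agent.Lib.Helper24_Q2_CASESaux.isSquare_mul_of_not_isSquare hns hns₀
    have hqx : pQ F t x ≠ 0 := hx.1
    have he0 : e ≠ 0 := by
      rintro rfl
      rw [mul_zero] at he
      exact (mul_ne_zero (mul_ne_zero hd0 hqx) (mul_ne_zero hd0 hq₀)) he
    have hc0 : e / (d * pQ F t x) ≠ 0 := div_ne_zero he0 (mul_ne_zero hd0 hqx)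
    apply key hx h hx₀ (e / (d * pQ F t x)) hc0
    have h1 : e * e = d * pQ F t x * (d * pQ F t x₀) := he.symm
    field_simp
    rw [pow_two e, h1]
    ring

/-- **HP2-CASES** [M] (twin Q2-CASES) DICH + NRMORB + TRANS (every nonzero c is pQ (single l (c, 1))). -/
theorem CASES (hC : PCtx2 F t S M) :
    (∀ x, IsPBl x → PNrm M x) ∨ (∀ x, IsPBl x → PCStar S M x) ∨
      ((2 : F) ≠ 0 ∧ ∃ d : F, d ≠ 0 ∧ (∀ x, IsPBl x → IsSquare (d * pQ F t x) → PNrm M x) ∧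
        (∀ x, IsPBl x → ¬ IsSquare (d * pQ F t x) → PCStar S M x)) :=
  CASES_aux
    (fun {_} hx => Cfsg.Agent.Lib.Helper41_HP2_DICH.DICH hC hx)
    (fun {_} hx hn => Cfsg.Agent.Lib.Helper82_HP2_NRMORB.NRMORB hC hx hn)
    (fun hS ht {_ _} hx hy h => Cfsg.Agent.Lib.Helper55_HP2_TRANS.TRANS hS ht hx hy h)
    hC

end Cfsg.Agent.Lib.Helper10_HP2_CASES
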