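import Mathlib
import Cfsg.Agent.Lib.Helper83_HP2Defs

/-!
helper78: HP2 package BLREFL (architect helper83; port of Helper53_Q2_BLREFL), verbatim: the
reflection in a nonsingular vector of a coordinate plane stabilises every coordinate plane, hence
lies in the decomposition stabiliser.
-/

set_option autoImplicit false
set_option linter.unusedSectionVars false
set_option linter.unusedVariables false

namespace Cfsg.Agent.Lib.Helper78_HP2_BLREFL

open Module Cfsg.Agent.Lib.Helper94_Symp Cfsg.Agent.Lib.Helper94_OrthSmall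
  Cfsg.Agent.Lib.Helper94_OrthSiegel Cfsg.Agent.Lib.Helper94_OrthNondeg
  Cfsg.Agent.Lib.Helper29_ODDefs Cfsg.Agent.Lib.Helper94_Q2Defs Cfsg.Agent.Lib.Helper83_HP2Defs

variable {F : Type*} [Field F] [Finite F] {t : ℕ} {S M L : Subgroup (PV F t ≃ₗ[F] PV F t)}

omit [Finite F] in
/-- the reflection in `x ∈ pD l` maps every coordinate plane into itself -/
theorem prefl_mem_pD {l : Fin t} {x : PV F t} (hx : x ∈ pD F t l) (hx' : pQ F t x ≠ 0)
    (i : Fin t) {v : PV F t} (hv : v ∈ pD F t i) : prefl F t hx' v ∈ pD F t i := by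
  rw [refl_apply]
  by_cases hil : i = l
  · subst hil
    exact (pD F t i).sub_mem hv ((pD F t i).smul_mem _ hx)
  · have hB : pB F t v x = 0 := by
      rw [pB_apply]
      apply Finset.sum_eq_zero
      intro j _
      by_cases hj : j = i
      · have : x j = 0 := hx j (by rw [hj]; exact hil)
        rw [this]
        simp
      · rw [hv j hj]
        simp
    rw [hB, mul_zero, zero_smul, sub_zero]
    exact hv

/-- **HP2-BLREFL** [S] (twin Q2-BLREFL) x in pD l: prefl x v = v - c . x changes only coordinate l: maps every pD j onto itself. -/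
theorem BLREFL (S : Subgroup (PV F t ≃ₗ[F] PV F t)) (hS : IsDStab (pD F t) S)
    {x : PV F t} (hx : IsPBl x) (hx' : pQ F t x ≠ 0) : prefl F t hx' ∈ S := by
  obtain ⟨-, l, hl⟩ := hx
  rw [hS]
  refine ⟨1, fun i => ?_⟩
  rw [Equiv.Perm.one_apply]
  apply le_antisymm
  · rintro _ ⟨v, hv, rfl⟩
    exact prefl_mem_pD hl hx' i hv
  · intro v hv
    refine ⟨prefl F t hx' v, prefl_mem_pD hl hx' i hv, ?_⟩
    have h := reflLin_invol (pQ F t) (pB F t) (pQs F t) (pQp F t) hx' v
    exact h

end Cfsg.Agent.Lib.Helper78_HP2_BLREFL
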