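import Mathlib
import Cfsg.Agent.Lib.Helper83_HP2Defs

set_option autoImplicit false
set_option linter.unusedSectionVars false
set_option linter.unusedVariables false

/-!
HP2 market (helper83), package HP2-ND: the polar form `pB` of the model is nondegenerate.  (helper10)

`coord_eq'` is an own copy of the statement `coord_eq` of HP2-BASIC, so that this file has no dependencies.
-/

namespace Cfsg.Agent.Lib.Helper10_HP2_ND

open Module Cfsg.Agent.Lib.Helper94_Symp Cfsg.Agent.Lib.Helper94_OrthSmall
  Cfsg.Agent.Lib.Helper94_OrthSiegel Cfsg.Agent.Lib.Helper94_OrthNondeg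
  Cfsg.Agent.Lib.Helper29_ODDefs Cfsg.Agent.Lib.Helper94_Q2Defs Cfsg.Agent.Lib.Helper83_HP2Defs

variable {F : Type*} [Field F] [Finite F] {t : ℕ} {S M L : Subgroup (PV F t ≃ₗ[F] PV F t)}

theorem pB_pf (x : PV F t) (l : Fin t) : pB F t x (pf l) = (x l).1 := by
  classical
  rw [pB_apply, Finset.sum_eq_single l]
  · unfold pf
    rw [Pi.single_eq_same]
    simp
  · intro j _ hj
    unfold pf
    rw [Pi.single_eq_of_ne hj]
    simp
  · intro h
    exact absurd (Finset.mem_univ l) h

theorem pB_pe (x : PV F t) (l : Fin t) : pB F t x (pe l) = (x l).2 := by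
  classical
  rw [pB_apply, Finset.sum_eq_single l]
  · unfold pe
    rw [Pi.single_eq_same]
    simp
  · intro j _ hj
    unfold pe
    rw [Pi.single_eq_of_ne hj]
    simp
  · intro h
    exact absurd (Finset.mem_univ l) h

/-- the coordinates of a vector are its inner products with the singular basis vectors -/
theorem coord_eq' (x : PV F t) (l : Fin t) : x l = (pB F t x (pf l), pB F t x (pe l)) := by
  rw [pB_pf, pB_pe]

theorem pB_symm (x y : PV F t) : pB F t x y = pB F t y x :=
  B_symm (pQ F t) (pB F t) (pQp F t) x y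

/-- **HP2-ND** [S] by coord_eq: x orthogonal to all pe l, pf l has all coordinates zero. -/
theorem ND : (pB F t).Nondegenerate := by
  have hL : (pB F t).SeparatingLeft := by
    intro x hx
    funext l
    rw [coord_eq' x l, hx (pf l), hx (pe l)]
    rfl
  refine ⟨hL, ?_⟩
  intro y hy
  apply hL y
  intro x
  rw [pB_symm]
  exact hy x

end Cfsg.Agent.Lib.Helper10_HP2_ND
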