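import Mathlib
import Cfsg.Agent.Lib.Helper94_Q2Defs

set_option autoImplicit false
set_option linter.unusedSectionVars false
set_option linter.unusedVariables false

/-! Package Q2-E1CARD of the market q2_packages (architect helper94): `E¹` has at least `q + 1` elements. -/

namespace Cfsg.Agent.Lib.Helper93_Q2_E1CARD

open Module Cfsg.Agent.Lib.Helper94_Symp Cfsg.Agent.Lib.Helper94_OrthSmall
  Cfsg.Agent.Lib.Helper94_OrthSiegel Cfsg.Agent.Lib.Helper94_OrthNondeg
  Cfsg.Agent.Lib.Helper29_ODDefs Cfsg.Agent.Lib.Helper94_Q2Defs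

variable {F : Type*} [Field F] [Finite F] {a b : F} [Fact (∀ r : F, r ^ 2 ≠ a + b * r)] {t : ℕ}
  {S M L : Subgroup (MV a b t ≃ₗ[F] MV a b t)}

theorem card_E : Nat.card (QuadraticAlgebra F a b) = Nat.card F * Nat.card F := by
  rw [Nat.card_congr (QuadraticAlgebra.equivProd a b), Nat.card_prod]

/-- **Q2-E1CARD** [M]  The kernel of the norm `Eˣ → Fˣ` has at least `(q² - 1)/(q - 1) = q + 1` elements. -/
theorem E1CARD :
    Nat.card F + 1 ≤ Nat.card {z : QuadraticAlgebra F a b // QuadraticAlgebra.norm z = 1} := by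
  have : Finite (QuadraticAlgebra F a b) := finite_E
  let f : (QuadraticAlgebra F a b)ˣ →* Fˣ := Units.map (QuadraticAlgebra.norm (R := F) (a := a) (b := b))
  -- the kernel injects into `E¹`
  have hinj : Nat.card f.ker ≤ Nat.card {z : QuadraticAlgebra F a b // QuadraticAlgebra.norm z = 1} := by
    apply Nat.card_le_card_of_injective
      (fun u : f.ker => (⟨((u : (QuadraticAlgebra F a b)ˣ) : QuadraticAlgebra F a b), by
        have h := u.2
        rw [MonoidHom.mem_ker] at h
        have := congrArg Units.val h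
        simpa [f] using this⟩ : {z : QuadraticAlgebra F a b // QuadraticAlgebra.norm z = 1}))
    intro u v huv
    have := congrArg Subtype.val huv
    exact Subtype.ext (Units.ext this)
  -- counting
  have h1 : Nat.card f.ker * Nat.card f.range = Nat.card (QuadraticAlgebra F a b)ˣ := by
    rw [← Subgroup.index_ker, Subgroup.card_mul_index]
  have h2 : Nat.card f.range ≤ Nat.card Fˣ := Subgroup.card_le_card_group _
  have h3 : Nat.card (QuadraticAlgebra F a b)ˣ = Nat.card F * Nat.card F - 1 := by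
    rw [Nat.card_units, card_E]
  have h4 : Nat.card Fˣ = Nat.card F - 1 := Nat.card_units F
  have hq : 2 ≤ Nat.card F := by
    have : 1 < Nat.card F := Finite.one_lt_card
    omega
  have hk : 0 < Nat.card f.ker := Nat.card_pos
  refine le_trans ?_ hinj
  -- `(q² - 1) = k * r ≤ k * (q - 1)`
  have h5 : Nat.card F * Nat.card F - 1 ≤ Nat.card f.ker * (Nat.card F - 1) := by
    rw [← h3, ← h1]
    exact Nat.mul_le_mul_left _ (h4 ▸ h2)
  obtain ⟨q', hq'⟩ : ∃ q', Nat.card F = q' + 2 := ⟨Nat.card F - 2, by omega⟩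
  rw [hq'] at h5 ⊢
  have h6 : (q' + 2) * (q' + 2) - 1 = (q' + 3) * (q' + 1) := by
    have : (q' + 2) * (q' + 2) = (q' + 3) * (q' + 1) + 1 := by ring
    omega
  have h7 : q' + 2 - 1 = q' + 1 := by omega
  rw [h6, h7] at h5
  exact Nat.le_of_mul_le_mul_right h5 (by omega)

end Cfsg.Agent.Lib.Helper93_Q2_E1CARD
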