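import Mathlib
import Cfsg.Agent.Lib.Helper94_Q2Defs
import Cfsg.Agent.Lib.Helper93_Q2_E1CARD

set_option autoImplicit false
set_option linter.unusedSectionVars false
set_option linter.unusedVariables false

/-! Package Q2-Z4 of the market q2_packages (architect helper94): for `q ≠ 3` there is `z ∈ E¹` with `z ^ 4 ≠ 1`. -/

namespace Cfsg.Agent.Lib.Helper71_Q2_Z4

open Module Cfsg.Agent.Lib.Helper94_Symp Cfsg.Agent.Lib.Helper94_OrthSmall
  Cfsg.Agent.Lib.Helper94_OrthSiegel Cfsg.Agent.Lib.Helper94_OrthNondeg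
  Cfsg.Agent.Lib.Helper29_ODDefs Cfsg.Agent.Lib.Helper94_Q2Defs

variable {F : Type*} [Field F] [Finite F] {a b : F} [Fact (∀ r : F, r ^ 2 ≠ a + b * r)] {t : ℕ}
  {S M L : Subgroup (MV a b t ≃ₗ[F] MV a b t)}

/-- in a field, at most `4` elements of a subtype `{z // P z}` all of whose members have `z ^ 4 = 1` -/
theorem card_le_four {E : Type*} [Field E] [Finite E] (P : E → Prop) (h : ∀ z, P z → z ^ 4 = 1) :
    Nat.card {z : E // P z} ≤ 4 := by
  classical
  have hinj : Nat.card {z : E // P z} ≤ Nat.card ↥(Polynomial.nthRoots 4 (1 : E)).toFinset := by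
    apply Nat.card_le_card_of_injective
      (fun z : {z : E // P z} => (⟨z.1, by
        rw [Multiset.mem_toFinset, Polynomial.mem_nthRoots (by norm_num)]
        exact h z.1 z.2⟩ : ↥(Polynomial.nthRoots 4 (1 : E)).toFinset))
    intro u v huv
    have h1 : (u : E) = (v : E) := by
      have := congrArg (fun w : ↥(Polynomial.nthRoots 4 (1 : E)).toFinset => (w : E)) huv
      exact this
    exact Subtype.ext h1
  refine hinj.trans ?_
  rw [Nat.card_eq_fintype_card, Fintype.card_coe]
  exact (Multiset.toFinset_card_le _).trans (Polynomial.card_nthRoots 4 (1 : E))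

/-- in characteristic `2` a fourth root of unity is `1` -/
theorem eq_one_of_pow_four {E : Type*} [Field E] (h2 : (2 : E) = 0) {z : E} (hz : z ^ 4 = 1) :
    z = 1 := by
  have h : (z - 1) ^ 4 = 0 := by
    have e : (z - 1) ^ 4 = z ^ 4 + 1 - 2 * (2 * z ^ 3 - 3 * z ^ 2 + 2 * z) := by ring
    rw [e, hz, h2, zero_mul, sub_zero]
    have : (1 : E) + 1 = 2 := by norm_num
    rw [this, h2]
  exact sub_eq_zero.mp (pow_eq_zero_iff (by norm_num) |>.mp h)

/-- **Q2-Z4** [M] -/
theorem Z4 (hq : Nat.card F ≠ 3) :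
    ∃ z : QuadraticAlgebra F a b, QuadraticAlgebra.norm z = 1 ∧ z ^ 4 ≠ 1 := by
  by_contra hcon
  push Not at hcon
  have hfin : Finite (QuadraticAlgebra F a b) := finite_E
  have hcard := Cfsg.Agent.Lib.Helper93_Q2_E1CARD.E1CARD (F := F) (a := a) (b := b)
  have h4 := card_le_four (fun z : QuadraticAlgebra F a b => QuadraticAlgebra.norm z = 1) hcon
  have hq2 : 2 ≤ Nat.card F := by
    have : 1 < Nat.card F := Finite.one_lt_card
    omega
  have hq' : Nat.card F = 2 := by omega
  -- characteristic 2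
  have hF2 : (2 : F) = 0 := by
    have : Fintype F := Fintype.ofFinite F
    have h := Nat.cast_card_eq_zero F
    rw [← Nat.card_eq_fintype_card, hq'] at h
    exact_mod_cast h
  have hE2 : (2 : QuadraticAlgebra F a b) = 0 := by
    have h := congrArg (algebraMap F (QuadraticAlgebra F a b)) hF2
    rw [map_zero, map_ofNat] at h
    exact h
  -- all elements of `E¹` are `1`
  have hsub : Nat.card {z : QuadraticAlgebra F a b // QuadraticAlgebra.norm z = 1} ≤ 1 := by
    have : Subsingleton {z : QuadraticAlgebra F a b // QuadraticAlgebra.norm z = 1} := by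
      constructor
      intro u v
      apply Subtype.ext
      rw [eq_one_of_pow_four hE2 (hcon u.1 u.2), eq_one_of_pow_four hE2 (hcon v.1 v.2)]
    exact Finite.card_le_one_iff_subsingleton.mpr this
  omega

end Cfsg.Agent.Lib.Helper71_Q2_Z4
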