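import Mathlib
import Cfsg.Agent.Lib.Helper83_HP2Defs
import Cfsg.Agent.Lib.Helper71_Q2_Z4

set_option autoImplicit false
set_option linter.unusedSectionVars false
set_option linter.unusedVariables false

/-! Package HP2-Z4 of the market hp2_packages (architect helper83): for `q ≥ 7` there is `a ≠ 0`
with `a ^ 4 ≠ 1`.  (helper10) -/

namespace Cfsg.Agent.Lib.Helper10_HP2_Z4

open Module Cfsg.Agent.Lib.Helper94_Symp Cfsg.Agent.Lib.Helper94_OrthSmall
  Cfsg.Agent.Lib.Helper94_OrthSiegel Cfsg.Agent.Lib.Helper94_OrthNondeg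
  Cfsg.Agent.Lib.Helper29_ODDefs Cfsg.Agent.Lib.Helper94_Q2Defs Cfsg.Agent.Lib.Helper83_HP2Defs

variable {F : Type*} [Field F] [Finite F] {t : ℕ} {S M L : Subgroup (PV F t ≃ₗ[F] PV F t)}

/-- **HP2-Z4** [S]  X^4 - 1 has at most 4 roots and |F^*| >= 6. -/
theorem Z4 (hq : 7 ≤ Nat.card F) : ∃ a : F, a ≠ 0 ∧ a ^ 4 ≠ 1 := by
  by_contra hcon
  push Not at hcon
  have h4 := Cfsg.Agent.Lib.Helper71_Q2_Z4.card_le_four (fun z : F => z ≠ 0) hcon
  have hu : Nat.card Fˣ ≤ Nat.card {z : F // z ≠ 0} :=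
    Nat.card_le_card_of_injective (fun u : Fˣ => (⟨(u : F), u.ne_zero⟩ : {z : F // z ≠ 0}))
      (fun u v huv => Units.ext (congrArg Subtype.val huv))
  have hc : Nat.card Fˣ = Nat.card F - 1 := Nat.card_units F
  omega

end Cfsg.Agent.Lib.Helper10_HP2_Z4
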