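import Mathlib
import Cfsg.Agent.Lib.Helper75_Clifford
import Cfsg.Agent.Lib.Helper75_IndChar
import Cfsg.Agent.Lib.Helper80_CharInd
import Cfsg.Agent.Lib.Helper3_CharColumn
import Cfsg.Agent.S0857

set_option autoImplicit false

/-!
# Degrees of constituents on normal subgroups; groups with only linear characters (helper59)

* `exists_irr_over`: every irreducible character of a subgroup lies under an irreducible
  character of the group;
* `degree_dvd_of_clifford`: if `θ ∈ Irr(N)`, `N ⊴ G`, lies under `χ ∈ Irr(G)` then `θ(1) ∣ χ(1)`;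
* `commute_of_all_linear`: a finite group all of whose irreducible characters have degree one
  is commutative.
-/

namespace Cfsg.Agent.Lib.Helper59_CliffordDeg

open scoped ComplexConjugate
open Cfsg.Agent.Lib.Helper3_CharBridge Cfsg.Agent.Lib.Helper3_CharOrtho
  Cfsg.Agent.Lib.Helper3_CharComplete Cfsg.Agent.Lib.Helper3_CharColumn
  Cfsg.Agent.Lib.Helper75_Induced Cfsg.Agent.Lib.Helper75_Clifford
  Cfsg.Agent.Lib.Helper75_IndChar Cfsg.Agent.Lib.Helper75_CharArith

section Over

variable {G : Type*} [Group G] [Fintype G]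

/-- Every irreducible character of a subgroup is a constituent of the restriction of an
irreducible character of the group. -/
theorem exists_irr_over (N : Subgroup G) [Fintype N] {θ : N → ℂ}
    (hθ : Cfsg.IsIrrCharacter N θ) :
    ∃ χ : G → ℂ, Cfsg.IsIrrCharacter G χ ∧ Cfsg.classInner (res N χ) θ ≠ 0 := by
  have hθc : Cfsg.IsCharacter N θ := isCharacter_of_isIrrCharacter hθ
  have hind : Cfsg.IsCharacter G (Cfsg.indFun N θ) := isCharacter_indFun N hθc
  obtain ⟨d, hd0, hd⟩ := irr_one_eq_natCast hθ
  have h1 : Cfsg.indFun N θ 1 ≠ 0 := by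
    rw [Cfsg.Agent.Lib.Helper80_CharInd.indFun_one, hd]
    have h2 : (N.index : ℂ) ≠ 0 := by
      rw [Nat.cast_ne_zero]
      exact Subgroup.index_ne_zero_of_finite
    have h3 : (d : ℂ) ≠ 0 := by
      rw [Nat.cast_ne_zero]
      omega
    exact mul_ne_zero h2 h3
  obtain ⟨χ, hχ, hne⟩ := Cfsg.Agent.S0857.exists_constituent hind h1
  refine ⟨χ, hχ, ?_⟩
  rw [frobenius_reciprocity N θ χ (isClassFunction_of_isIrrCharacter hχ)] at hne
  intro h0
  apply hne
  rw [← classInner_conj_symm]
  show conj (Cfsg.classInner (res N χ) θ) = 0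
  rw [h0, map_zero]

/-- Clifford: the degree of a constituent of the restriction to a normal subgroup divides the
degree. -/
theorem degree_dvd_of_clifford (N : Subgroup G) (hN : N.Normal) [Fintype N] {χ : G → ℂ}
    (hχ : Cfsg.IsIrrCharacter G χ) {θ : N → ℂ} (hθ : Cfsg.IsIrrCharacter N θ)
    (h1 : Cfsg.classInner (res N χ) θ ≠ 0) (D d : ℕ) (hD : χ 1 = D) (hd : θ 1 = d) : d ∣ D := by
  classical
  have hcl := clifford N hN hχ hθ h1
  obtain ⟨m, hm⟩ := classInner_isCharacter_nat
    (isCharacter_res N (isCharacter_of_isIrrCharacter hχ)) (isCharacter_of_isIrrCharacter hθ)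
  have hfin : {ψ : N → ℂ | ∃ g : G, ψ = conjFun N hN θ g}.Finite := by
    have hfinIrr : {ψ : N → ℂ | Cfsg.IsIrrCharacter N ψ}.Finite :=
      Set.finite_coe_iff.1 (finite_irr (G := N))
    apply Set.Finite.subset hfinIrr
    rintro ψ ⟨g, rfl⟩
    exact isIrrCharacter_conjFun N hN hθ g
  rw [finsum_mem_eq_finite_toFinset_sum _ hfin, hm] at hcl
  have h2 := congrFun hcl 1
  rw [res_apply, Pi.smul_apply, Finset.sum_apply] at h2
  have h3 : ∀ ψ ∈ hfin.toFinset, ψ 1 = (d : ℂ) := by
    intro ψ hψ
    rw [Set.Finite.mem_toFinset] at hψ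
    obtain ⟨g, rfl⟩ := hψ
    rw [conjFun_apply, ← hd]
    exact congrArg θ (Subtype.ext (by simp))
  rw [Finset.sum_congr rfl h3, Finset.sum_const, smul_eq_mul] at h2
  have h4 : ((1 : N) : G) = 1 := rfl
  rw [h4, hD] at h2
  have h5 : (D : ℂ) = ((m * (hfin.toFinset.card * d) : ℕ) : ℂ) := by
    rw [h2]
    push_cast
    simp
  have h6 : D = m * (hfin.toFinset.card * d) := by exact_mod_cast h5
  rw [h6]
  exact Dvd.dvd.mul_left (Dvd.intro_left _ rfl) _

end Over

section Linear

variable {N : Type*} [Group N] [Finite N]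

/-- A finite group all of whose irreducible characters have degree one is commutative. -/
theorem commute_of_all_linear (h : ∀ θ : Cfsg.IrrCharacter N, (θ : N → ℂ) 1 = 1) :
    ∀ a b : N, a * b = b * a := by
  classical
  have : Fintype N := Fintype.ofFinite N
  have h1 := sum_sq_irr_one (G := N)
  have h2 : ∑ χ : Cfsg.IrrCharacter N, (χ : N → ℂ) 1 ^ 2 =
      (Fintype.card (Cfsg.IrrCharacter N) : ℂ) := by
    rw [Finset.sum_congr rfl (fun χ _ => by rw [h χ, one_pow]), Finset.sum_const,
      Finset.card_univ]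
    simp
  rw [h2] at h1
  have h3 : Fintype.card (Cfsg.IrrCharacter N) = Nat.card N := by exact_mod_cast h1
  have h4 := card_irr_eq_card_conjClasses (G := N)
  rw [Nat.card_eq_fintype_card, h3] at h4
  -- the class map is a bijection
  have hsurj : Function.Surjective (ConjClasses.mk : N → ConjClasses N) :=
    ConjClasses.mk_surjective
  have hinj : Function.Injective (ConjClasses.mk : N → ConjClasses N) :=
    (hsurj.bijective_of_nat_card_le h4.le).1
  intro a b
  have h5 : (ConjClasses.mk (b * a * b⁻¹) : ConjClasses N) = ConjClasses.mk a := by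
    rw [ConjClasses.mk_eq_mk_iff_isConj, isConj_comm, isConj_iff]
    exact ⟨b, rfl⟩
  have h6 := hinj h5
  calc a * b = (b * a * b⁻¹) * b := by rw [h6]
    _ = b * a := by group

end Linear

end Cfsg.Agent.Lib.Helper59_CliffordDeg
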