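import Cfsg.Prelude.Def_Transfer
import Mathlib.GroupTheory.Sylow
import Mathlib.GroupTheory.Abelianization.Defs
import Mathlib.Data.Nat.Factorization.Basic

set_option autoImplicit false
set_option linter.unusedSectionVars false
open Cfsg

namespace Cfsg.Agent.Lib.Helper2_PResidual

open Subgroup
open scoped commutatorElement

section General

variable {G : Type*} [Group G] {p : ℕ}

theorem mem_pResidual_of_coprime {g : G} (hg : Nat.Coprime (orderOf g) p) :
    g ∈ pResidual p G := subset_closure hg

instance pResidual_normal : (pResidual p G).Normal := by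
  constructor
  intro n hn g
  have hle' : pResidual p G ≤ (pResidual p G).comap (MulAut.conj g).toMonoidHom := by
    unfold pResidual
    rw [closure_le]
    intro x hx
    have hx' : Nat.Coprime (orderOf x) p := hx
    rw [SetLike.mem_coe, mem_comap]
    apply subset_closure
    show Nat.Coprime (orderOf ((MulAut.conj g) x)) p
    rwa [MulEquiv.orderOf_eq (MulAut.conj g)]
  have := hle' hn
  rw [mem_comap] at this
  simpa [MulAut.conj_apply] using this

end General

variable {G : Type*} [Group G] [Finite G] {p : ℕ} [Fact p.Prime]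

/-- A suitable `p`-power of any element lies in `O^p(G)`. -/
theorem pow_ordProj_mem_pResidual (g : G) :
    g ^ (ordProj[p] (orderOf g)) ∈ pResidual p G := by
  have hp : p.Prime := Fact.out
  apply mem_pResidual_of_coprime
  have h0 : orderOf g ≠ 0 := (orderOf_pos g).ne'
  have hdvd : ordProj[p] (orderOf g) ∣ orderOf g := Nat.ordProj_dvd _ _
  rw [orderOf_pow, Nat.gcd_eq_right hdvd]
  exact (Nat.coprime_ordCompl hp h0).symm

theorem isPGroup_quotient_pResidual : IsPGroup p (G ⧸ pResidual p G) := by
  intro x
  obtain ⟨g, rfl⟩ := QuotientGroup.mk_surjective x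
  refine ⟨(orderOf g).factorization p, ?_⟩
  rw [← QuotientGroup.mk_pow, QuotientGroup.eq_one_iff]
  exact pow_ordProj_mem_pResidual g

/-- `O^p(G)` is contained in every normal subgroup with `p`-group quotient. -/
theorem pResidual_le_of_isPGroup_quotient (N : Subgroup G) [N.Normal] (hN : IsPGroup p (G ⧸ N)) :
    pResidual p G ≤ N := by
  unfold pResidual
  rw [closure_le]
  intro g hg
  have hg' : Nat.Coprime (orderOf g) p := hg
  obtain ⟨k, hk⟩ := hN (QuotientGroup.mk g)
  have h1 : orderOf (QuotientGroup.mk g : G ⧸ N) ∣ p ^ k := orderOf_dvd_of_pow_eq_one hk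
  have h2 : orderOf (QuotientGroup.mk g : G ⧸ N) ∣ orderOf g :=
    orderOf_map_dvd (QuotientGroup.mk' N) g
  have h3 : orderOf (QuotientGroup.mk g : G ⧸ N) = 1 :=
    Nat.eq_one_of_dvd_coprimes (Nat.Coprime.pow_right k hg') h2 h1
  rw [orderOf_eq_one_iff] at h3
  exact (QuotientGroup.eq_one_iff g).mp h3

theorem sylow_sup_pResidual (P : Sylow p G) : (P : Subgroup G) ⊔ pResidual p G = ⊤ := by
  have hp : p.Prime := Fact.out
  rw [← index_eq_one]
  have h1 : ((P : Subgroup G) ⊔ pResidual p G).index ∣ (P : Subgroup G).index :=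
    index_dvd_of_le le_sup_left
  have h2 : ((P : Subgroup G) ⊔ pResidual p G).index ∣ (pResidual p G).index :=
    index_dvd_of_le le_sup_right
  obtain ⟨k, hk⟩ := (IsPGroup.iff_card.mp (isPGroup_quotient_pResidual (G := G) (p := p)))
  have h3 : (pResidual p G).index = p ^ k := hk
  rw [h3] at h2
  have hcop : Nat.Coprime ((P : Subgroup G).index) (p ^ k) :=
    Nat.Coprime.pow_right k
      (Nat.Coprime.symm ((Nat.Prime.coprime_iff_not_dvd hp).mpr P.not_dvd_index))
  exact Nat.eq_one_of_dvd_coprimes hcop h1 h2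

/-- If the Sylow `p`-subgroups are abelian then `G / O^p(G)` is abelian. -/
theorem commutator_le_pResidual_of_abelian_sylow (P : Sylow p G) [IsMulCommutative P] :
    commutator G ≤ pResidual p G := by
  rw [← Subgroup.Normal.quotient_commutative_iff_commutator_le]
  have hdecomp : ∀ g : G, ∃ t ∈ (P : Subgroup G),
      (QuotientGroup.mk g : G ⧸ pResidual p G) = QuotientGroup.mk t := by
    intro g
    have : g ∈ (P : Subgroup G) ⊔ pResidual p G := by
      rw [sylow_sup_pResidual]; exact mem_top g
    obtain ⟨t, ht, r, hr, rfl⟩ := mem_sup_of_normal_right.mp this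
    refine ⟨t, ht, ?_⟩
    rw [QuotientGroup.mk_mul, (QuotientGroup.eq_one_iff r).mpr hr, mul_one]
  refine ⟨⟨fun a b => ?_⟩⟩
  obtain ⟨a, rfl⟩ := QuotientGroup.mk_surjective a
  obtain ⟨b, rfl⟩ := QuotientGroup.mk_surjective b
  obtain ⟨s, hs, hsa⟩ := hdecomp a
  obtain ⟨t, ht, htb⟩ := hdecomp b
  rw [hsa, htb, ← QuotientGroup.mk_mul, ← QuotientGroup.mk_mul]
  have : s * t = t * s := by
    have := mul_comm' (⟨s, hs⟩ : P) ⟨t, ht⟩
    exact congrArg Subtype.val this
  rw [this]

/-- A `p`-element of `O^p(G)` lies in the commutator subgroup. -/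
theorem mem_commutator_of_mem_pResidual_of_isPGroup {x : G} (hx : x ∈ pResidual p G)
    {k : ℕ} (hxp : x ^ p ^ k = 1) : x ∈ commutator G := by
  -- the `p'`-elements of the abelianization form a subgroup
  let S : Subgroup (G ⧸ commutator G) :=
    { carrier := {b | Nat.Coprime (orderOf b) p}
      one_mem' := by simp
      mul_mem' := by
        intro a b ha hb
        have hab : Commute a b := by
          obtain ⟨a, rfl⟩ := QuotientGroup.mk_surjective a
          obtain ⟨b, rfl⟩ := QuotientGroup.mk_surjective b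
          show (QuotientGroup.mk a * QuotientGroup.mk b : G ⧸ commutator G) = _
          rw [← QuotientGroup.mk_mul, ← QuotientGroup.mk_mul, QuotientGroup.eq]
          have : (a * b)⁻¹ * (b * a) = ⁅b⁻¹, a⁻¹⁆ := by
            rw [commutatorElement_def]; simp [mul_assoc]
          rw [this]
          exact commutator_mem_commutator (mem_top _) (mem_top _)
        have h1 := hab.orderOf_mul_dvd_mul_orderOf
        exact Nat.Coprime.coprime_dvd_left h1 (Nat.Coprime.mul_left ha hb)
      inv_mem' := by
        intro a ha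
        simpa using ha }
  have hle : pResidual p G ≤ S.comap (QuotientGroup.mk' (commutator G)) := by
    unfold pResidual
    rw [closure_le]
    intro g hg
    have hg' : Nat.Coprime (orderOf g) p := hg
    rw [SetLike.mem_coe, mem_comap]
    exact Nat.Coprime.coprime_dvd_left (orderOf_map_dvd _ g) hg'
  have h1 : Nat.Coprime (orderOf (QuotientGroup.mk x : G ⧸ commutator G)) p := hle hx
  have h2 : orderOf (QuotientGroup.mk x : G ⧸ commutator G) ∣ p ^ k := by
    apply orderOf_dvd_of_pow_eq_one
    rw [← QuotientGroup.mk_pow, hxp, QuotientGroup.mk_one]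
  have h3 : orderOf (QuotientGroup.mk x : G ⧸ commutator G) = 1 :=
    Nat.eq_one_of_dvd_coprimes (Nat.Coprime.pow_right k h1) dvd_rfl h2
  rw [orderOf_eq_one_iff] at h3
  exact (QuotientGroup.eq_one_iff x).mp h3

/-- `P ∩ O^p(G) ≤ G'` for a Sylow (indeed any) `p`-subgroup. -/
theorem inf_pResidual_le_commutator (Q : Subgroup G) (hQ : IsPGroup p Q) :
    Q ⊓ pResidual p G ≤ commutator G := by
  intro x hx
  obtain ⟨hxQ, hxR⟩ := mem_inf.mp hx
  obtain ⟨k, hk⟩ := hQ ⟨x, hxQ⟩
  have hk' : x ^ p ^ k = 1 := by
    have := congrArg Subtype.val hk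
    simpa using this
  exact mem_commutator_of_mem_pResidual_of_isPGroup hxR hk'

/-- For an abelian Sylow `p`-subgroup, `P ∩ O^p(G) = P ∩ G'`. -/
theorem inf_pResidual_eq_inf_commutator (P : Sylow p G) [IsMulCommutative P] :
    (P : Subgroup G) ⊓ pResidual p G = (P : Subgroup G) ⊓ commutator G := by
  apply le_antisymm
  · exact le_inf inf_le_left (inf_pResidual_le_commutator _ P.2)
  · exact inf_le_inf_left _ (commutator_le_pResidual_of_abelian_sylow P)

end Cfsg.Agent.Lib.Helper2_PResidual
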