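import Mathlib
import Cfsg.Agent.Lib.Helper2_PResidual
import Cfsg.Agent.Lib.Helper75_ExtendSolvable
import Cfsg.Agent.S0864
import Cfsg.Agent.Lib.Helper3_CharColumn

set_option autoImplicit false

/-!
# Thompson's theorem on character degrees (helper59)

If `p` divides the degree of every nonlinear irreducible character of the finite group `G`, then
`O^p(G)` is a normal `p`-complement (Isaacs, Corollary 12.2).
-/

namespace Cfsg.Agent.Lib.Helper59_Thompson

open MulAction

section Orbit

variable {H X : Type*} [Group H] [MulAction H X]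

/-- Weighted orbit counting: if `k` divides the length of every orbit meeting the invariant
finite set `S` and `f` is constant on orbits, then `k` divides `∑ x ∈ S, f x`. -/
theorem dvd_sum_of_invariant [Finite X] (S : Finset X) (hS : ∀ h : H, ∀ x ∈ S, h • x ∈ S)
    (f : X → ℕ) (hf : ∀ (h : H) (x : X), f (h • x) = f x)
    (k : ℕ) (hk : ∀ x ∈ S, k ∣ (orbit H x).ncard) : k ∣ ∑ x ∈ S, f x := by
  classical
  have : Fintype X := Fintype.ofFinite X
  have : Fintype (orbitRel.Quotient H X) := Fintype.ofFinite _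
  rw [← Finset.sum_fiberwise_of_maps_to (s := S) (t := Finset.univ)
    (g := fun x => (Quotient.mk'' x : orbitRel.Quotient H X)) (fun x _ => Finset.mem_univ _)]
  apply Finset.dvd_sum
  intro q _
  by_cases hq : ∃ x ∈ S, (Quotient.mk'' x : orbitRel.Quotient H X) = q
  · obtain ⟨x, hxS, hxq⟩ := hq
    have hfib : (S.filter (fun a => (Quotient.mk'' a : orbitRel.Quotient H X) = q)) =
        (orbit H x).toFinset := by
      ext y
      simp only [Finset.mem_filter, Set.mem_toFinset]
      constructor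
      · rintro ⟨_, hy⟩
        rw [← hxq] at hy
        exact Quotient.eq''.1 hy
      · intro hy
        obtain ⟨h, rfl⟩ := hy
        refine ⟨hS h x hxS, ?_⟩
        rw [← hxq]
        exact Quotient.eq''.2 ⟨h, rfl⟩
    rw [hfib]
    have hconst : ∀ y ∈ (orbit H x).toFinset, f y = f x := by
      intro y hy
      rw [Set.mem_toFinset] at hy
      obtain ⟨h, rfl⟩ := hy
      exact hf h x
    rw [Finset.sum_congr rfl hconst, Finset.sum_const, ← Set.ncard_eq_toFinset_card', smul_eq_mul]
    exact Dvd.dvd.mul_right (hk x hxS) _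
  · have hfib : (S.filter (fun a => (Quotient.mk'' a : orbitRel.Quotient H X) = q)) = ∅ := by
      ext y
      simp only [Finset.mem_filter, Finset.notMem_empty, iff_false, not_and]
      intro hy hyq
      exact hq ⟨y, hy, hyq⟩
    rw [hfib]
    simp

/-- If every orbit has length `1` or a multiple of `p`, and `f` is constant on orbits, then
`∑ x, f x ≡ ∑ x fixed, f x` modulo `p`. -/
theorem sum_modEq_sum_fixed [Fintype X] [DecidablePred fun x : X => ∀ h : H, h • x = x]
    (f : X → ℕ) (hf : ∀ (h : H) (x : X), f (h • x) = f x) (p : ℕ)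
    (hp : ∀ x : X, (∀ h : H, h • x = x) ∨ p ∣ (orbit H x).ncard) :
    ∑ x, f x ≡ ∑ x ∈ Finset.univ.filter (fun x : X => ∀ h : H, h • x = x), f x [MOD p] := by
  classical
  rw [← Finset.sum_filter_add_sum_filter_not Finset.univ (fun x : X => ∀ h : H, h • x = x) f]
  have hdvd : p ∣ ∑ x ∈ Finset.univ.filter (fun x : X => ¬ ∀ h : H, h • x = x), f x := by
    apply dvd_sum_of_invariant (H := H) _ _ f hf p
    · intro x hx
      rw [Finset.mem_filter] at hx
      exact (hp x).resolve_left hx.2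
    · intro h x hx
      rw [Finset.mem_filter] at hx ⊢
      refine ⟨Finset.mem_univ _, ?_⟩
      intro hfix
      apply hx.2
      intro h'
      have := hfix (h * h' * h⁻¹)
      rw [mul_smul, mul_smul, inv_smul_smul] at this
      exact smul_left_cancel h this
  obtain ⟨c, hc⟩ := hdvd
  rw [hc]
  exact (Nat.modEq_iff_dvd' (by omega)).2 ⟨c, by omega⟩ |>.symm

end Orbit

section Residual

open Cfsg.Agent.Lib.Helper75_LinChar

set_option linter.unusedSectionVars false

variable {G : Type*} [Group G] [Finite G] (p : ℕ) [Fact p.Prime]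

/-- A homomorphism from `O^p(G)` to `ℂˣ` whose `p`-th power is trivial is trivial. -/
theorem hom_eq_one_of_pow (f : ↥(Cfsg.pResidual p G) →* ℂˣ) (hf : ∀ n, f n ^ p = 1) :
    ∀ n, f n = 1 := by
  have key : ∀ (x : G) (hx : x ∈ Cfsg.pResidual p G), f ⟨x, hx⟩ = 1 := by
    intro x hx
    refine Subgroup.closure_induction
      (p := fun x (hx : x ∈ Subgroup.closure {g : G | Nat.Coprime (orderOf g) p}) =>
        f ⟨x, hx⟩ = 1) ?_ ?_ ?_ ?_ hx
    · intro y hy
      have hy' : Nat.Coprime (orderOf y) p := hy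
      have h1 : (f ⟨y, Subgroup.subset_closure hy⟩) ^ orderOf y = 1 := by
        rw [← map_pow]
        have : (⟨y, Subgroup.subset_closure hy⟩ : ↥(Cfsg.pResidual p G)) ^ orderOf y = 1 := by
          apply Subtype.ext
          rw [Subgroup.coe_pow, Subgroup.coe_one]
          exact pow_orderOf_eq_one y
        rw [this, map_one]
      have h2 : (f ⟨y, Subgroup.subset_closure hy⟩) ^ p = 1 := hf _
      have h3 := Nat.dvd_gcd (orderOf_dvd_of_pow_eq_one h1) (orderOf_dvd_of_pow_eq_one h2)
      rw [Nat.Coprime.gcd_eq_one hy', Nat.dvd_one, orderOf_eq_one_iff] at h3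
      exact h3
    · exact map_one f
    · intro y z hy hz hfy hfz
      have : (⟨y * z, Subgroup.mul_mem _ hy hz⟩ : ↥(Cfsg.pResidual p G)) = ⟨y, hy⟩ * ⟨z, hz⟩ := rfl
      rw [this, map_mul, hfy, hfz, one_mul]
    · intro y hy hfy
      have : (⟨y⁻¹, Subgroup.inv_mem _ hy⟩ : ↥(Cfsg.pResidual p G)) = ⟨y, hy⟩⁻¹ := rfl
      rw [this, map_inv, hfy, inv_one]
  intro n
  exact key n.1 n.2

/-- The homomorphism to `ℂˣ` attached to a linear character. -/
noncomputable def linHom {N : Type*} [Group N] {lam : N → ℂ} (h : IsLin N lam) : N →* ℂˣ :=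
  (h.hom).toHomUnits

theorem linHom_apply {N : Type*} [Group N] {lam : N → ℂ} (h : IsLin N lam) (n : N) :
    ((linHom h n : ℂˣ) : ℂ) = lam n := rfl

/-- The order of a linear character of `O^p(G)` is prime to `p`. -/
theorem not_dvd_orderOf_lin {lam : ↥(Cfsg.pResidual p G) → ℂ}
    (h : IsLin ↥(Cfsg.pResidual p G) lam) : ¬ p ∣ orderOf lam := by
  intro hdvd
  have hp : p.Prime := Fact.out
  set o := orderOf lam with ho
  have hfin : lam ^ Nat.card ↥(Cfsg.pResidual p G) = 1 := by
    funext n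
    rw [Pi.pow_apply, Pi.one_apply]
    exact h.pow_card_eq_one n
  have ho0 : 0 < o := by
    rw [ho, orderOf_pos_iff]
    exact isOfFinOrder_iff_pow_eq_one.2 ⟨_, Nat.card_pos, hfin⟩
  obtain ⟨c, hc⟩ := hdvd
  have hc0 : 0 < c := by
    rcases Nat.eq_zero_or_pos c with rfl | h0
    · omega
    · exact h0
  have hlamo : ∀ n, lam n ^ o = 1 := by
    intro n
    have := congrFun (pow_orderOf_eq_one lam) n
    rwa [Pi.pow_apply, Pi.one_apply] at this
  have h' : IsLin ↥(Cfsg.pResidual p G) (lam ^ c) := h.pow c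
  have h2 := hom_eq_one_of_pow p (linHom h') (by
    intro n
    apply Units.ext
    rw [Units.val_pow_eq_pow_val, linHom_apply, Units.val_one, Pi.pow_apply, ← pow_mul, mul_comm,
      ← hc]
    exact hlamo n)
  have h3 : lam ^ c = 1 := by
    funext n
    have h4 := congrArg (fun u : ℂˣ => (u : ℂ)) (h2 n)
    simp only [Units.val_one] at h4
    rw [linHom_apply] at h4
    rw [Pi.one_apply]
    exact h4
  have h5 : o ∣ c := orderOf_dvd_of_pow_eq_one h3
  have h6 : o ≤ c := Nat.le_of_dvd hc0 h5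
  have h7 : 2 ≤ p := hp.two_le
  nlinarith

end Residual

section Extension

open Cfsg.Agent.Lib.Helper75_LinChar Cfsg.Agent.Lib.Helper75_DetChar
  Cfsg.Agent.Lib.Helper75_ExtendSolvable Cfsg.Agent.Lib.Helper2_PResidual
  Cfsg.Agent.Lib.Helper3_CharBridge

universe u

variable {G : Type u} [Group G] [Finite G] (p : ℕ) [Fact p.Prime]

theorem index_pResidual : ∃ k : ℕ, (Cfsg.pResidual p G).index = p ^ k := by
  obtain ⟨k, hk⟩ := IsPGroup.iff_card.mp (isPGroup_quotient_pResidual (G := G) (p := p))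
  exact ⟨k, by rw [Subgroup.index_eq_card, hk]⟩

/-- An invariant irreducible character of `O^p(G)` of degree prime to `p` extends to `G`. -/
theorem exists_extension (θ : ↥(Cfsg.pResidual p G) → ℂ)
    (hθ : Cfsg.IsIrrCharacter ↥(Cfsg.pResidual p G) θ)
    (hinv : ∀ (g : G) (n : ↥(Cfsg.pResidual p G)),
      θ ⟨g * n * g⁻¹, (pResidual_normal (G := G) (p := p)).conj_mem (n : G) n.2 g⟩ = θ n)
    (d : ℕ) (hd : θ 1 = d) (hpd : ¬ p ∣ d) :
    ∃ χ : G → ℂ, Cfsg.IsIrrCharacter G χ ∧ ∀ n : ↥(Cfsg.pResidual p G), χ n = θ n := by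
  have hp : p.Prime := Fact.out
  have hN : (Cfsg.pResidual p G).Normal := pResidual_normal
  obtain ⟨k, hk⟩ := index_pResidual (G := G) p
  have hnil : Group.IsNilpotent (G ⧸ Cfsg.pResidual p G) :=
    (isPGroup_quotient_pResidual (G := G) (p := p)).isNilpotent
  have hsolv : Group.IsSolvable (G ⧸ Cfsg.pResidual p G) := inferInstance
  have hθc : Cfsg.IsCharacter ↥(Cfsg.pResidual p G) θ := isCharacter_of_isIrrCharacter hθ
  have hlam := isCharacter_detChar hθc
  -- invariance of the determinant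
  have hlaminv : ∀ (g : G) (n : ↥(Cfsg.pResidual p G)),
      Cfsg.detChar θ ⟨g * n * g⁻¹, hN.conj_mem (n : G) n.2 g⟩ = Cfsg.detChar θ n := by
    intro g n
    have h1 := detChar_comp_hom (MulAut.conjNormal (H := Cfsg.pResidual p G) g).toMonoidHom hθc
    have h2 : (fun h : ↥(Cfsg.pResidual p G) =>
        θ ((MulAut.conjNormal (H := Cfsg.pResidual p G) g).toMonoidHom h)) = θ := by
      funext h
      exact hinv g h
    rw [h2] at h1
    have h3 := congrFun h1 n
    rw [h3]
    rfl
  -- the determinant extends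
  obtain ⟨μ, hμc, hμ1, hμN⟩ := Cfsg.Agent.S0864.result (Cfsg.pResidual p G) (Cfsg.detChar θ) hlam
    hlaminv (by
      intro q hq hqo
      have hqp : q ≠ p := by
        rintro rfl
        exact not_dvd_orderOf_lin q hlam hqo
      refine ⟨Cfsg.pResidual p G, le_rfl, Cfsg.detChar θ, ?_, ⟨0, ?_⟩, hlam.1, hlam.2, ?_⟩
      · rw [hk]
        exact Nat.Coprime.pow_left k ((Nat.coprime_primes hp hq).2 (Ne.symm hqp))
      · rw [Subgroup.relIndex_self, pow_zero]
      · intro n
        rfl)
  exact exists_extension_of_solvable (Cfsg.pResidual p G) hsolv θ hθ hinv d hd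
    (by rw [hk]; exact Nat.Coprime.pow_left k ((Nat.Prime.coprime_iff_not_dvd hp).2 hpd))
    μ ⟨hμc, hμ1⟩ hμN

end Extension

section Main

open Cfsg.Agent.Lib.Helper75_LinChar Cfsg.Agent.Lib.Helper75_Clifford
  Cfsg.Agent.Lib.Helper2_PResidual Cfsg.Agent.Lib.Helper3_CharBridge
  Cfsg.Agent.Lib.Helper3_CharColumn Cfsg.Agent.Lib.Helper3_CharComplete

universe u

set_option linter.unusedSectionVars false

variable {G : Type u} [Group G] [Finite G] (p : ℕ) [Fact p.Prime]

/-- The conjugation action of `G` on the irreducible characters of `O^p(G)`. -/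
@[reducible] noncomputable def irrAction : MulAction G (Cfsg.IrrCharacter ↥(Cfsg.pResidual p G)) where
  smul g θ := ⟨conjFun (Cfsg.pResidual p G) pResidual_normal θ.1 g⁻¹,
    isIrrCharacter_conjFun (Cfsg.pResidual p G) pResidual_normal θ.2 g⁻¹⟩
  one_smul θ := by
    apply Subtype.ext
    show conjFun (Cfsg.pResidual p G) pResidual_normal θ.1 (1 : G)⁻¹ = θ.1
    rw [inv_one, conjFun_one]
  mul_smul g h θ := by
    apply Subtype.ext
    show conjFun (Cfsg.pResidual p G) pResidual_normal θ.1 (g * h)⁻¹ =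
      conjFun (Cfsg.pResidual p G) pResidual_normal
        (conjFun (Cfsg.pResidual p G) pResidual_normal θ.1 h⁻¹) g⁻¹
    rw [conjFun_conjFun, mul_inv_rev]

theorem irrAction_smul_val (g : G) (θ : Cfsg.IrrCharacter ↥(Cfsg.pResidual p G)) :
    ((irrAction p).smul g θ).1 = conjFun (Cfsg.pResidual p G) pResidual_normal θ.1 g⁻¹ := rfl

theorem charDegree_eq {H : Type*} [Group H] {χ : H → ℂ} {n : ℕ} (h : χ 1 = n) :
    Cfsg.charDegree χ = n := by
  unfold Cfsg.charDegree
  rw [h, Complex.natCast_re, Nat.floor_natCast]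

theorem charDegree_cast {H : Type*} [Group H] [Finite H] {χ : H → ℂ}
    (hχ : Cfsg.IsIrrCharacter H χ) : (Cfsg.charDegree χ : ℂ) = χ 1 := by
  have : Fintype H := Fintype.ofFinite H
  obtain ⟨n, -, hn⟩ := irr_one_eq_natCast hχ
  rw [charDegree_eq hn, hn]

/-- Invariance of a function on `O^p(G)` under conjugation by `G`. -/
def InvFun (θ : ↥(Cfsg.pResidual p G) → ℂ) : Prop :=
  ∀ (g : G) (n : ↥(Cfsg.pResidual p G)),
    θ ⟨g * n * g⁻¹, (pResidual_normal (G := G) (p := p)).conj_mem (n : G) n.2 g⟩ = θ n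

/-- The group of `G`-invariant homomorphisms `O^p(G) → ℂˣ`. -/
def invHoms : Subgroup (↥(Cfsg.pResidual p G) →* ℂˣ) where
  carrier := {f | ∀ (g : G) (n : ↥(Cfsg.pResidual p G)),
    f ⟨g * n * g⁻¹, (pResidual_normal (G := G) (p := p)).conj_mem (n : G) n.2 g⟩ = f n}
  one_mem' := fun _ _ => rfl
  mul_mem' := fun {a b} ha hb g n => by
    rw [MonoidHom.mul_apply, MonoidHom.mul_apply, ha g n, hb g n]
  inv_mem' := fun {a} ha g n => by
    rw [MonoidHom.inv_apply, MonoidHom.inv_apply, ha g n]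

/-- The order of the group of invariant homomorphisms is prime to `p`. -/
theorem not_dvd_card_invHoms : ¬ p ∣ Nat.card ↥(invHoms (G := G) p) := by
  intro hdvd
  obtain ⟨f, hf⟩ := exists_prime_orderOf_dvd_card' (G := ↥(invHoms (G := G) p)) p hdvd
  have h1 : f ^ p = 1 := by
    have := pow_orderOf_eq_one f
    rwa [hf] at this
  have h2 : ∀ n, (f : ↥(Cfsg.pResidual p G) →* ℂˣ) n ^ p = 1 := by
    intro n
    have := congrArg (fun x : ↥(invHoms (G := G) p) =>
      (x : ↥(Cfsg.pResidual p G) →* ℂˣ) n) h1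
    simpa using this
  have h3 := hom_eq_one_of_pow p _ h2
  have h4 : f = 1 := by
    apply Subtype.ext
    ext n
    rw [h3 n]
    rfl
  rw [h4, orderOf_one] at hf
  exact (Fact.out : p.Prime).one_lt.ne hf

/-- Invariant irreducible characters of degree one of `O^p(G)` correspond to invariant
homomorphisms to `ℂˣ`. -/
theorem card_invHoms [Fintype ↥(Cfsg.pResidual p G)]
    [DecidablePred fun θ : Cfsg.IrrCharacter ↥(Cfsg.pResidual p G) =>
      InvFun p θ.1 ∧ Cfsg.charDegree θ.1 = 1] :
    Nat.card ↥(invHoms (G := G) p) =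
      (Finset.univ.filter (fun θ : Cfsg.IrrCharacter ↥(Cfsg.pResidual p G) =>
        InvFun p θ.1 ∧ Cfsg.charDegree θ.1 = 1)).card := by
  rw [← Fintype.card_subtype, ← Nat.card_eq_fintype_card]
  apply Nat.card_congr
  refine Equiv.ofBijective (fun f => ⟨⟨fun n => ((f.1 n : ℂˣ) : ℂ),
    (isLin_of_hom ((Units.coeHom ℂ).comp f.1)).irr⟩, ?_, ?_⟩) ⟨?_, ?_⟩
  · intro g n
    exact congrArg (fun u : ℂˣ => (u : ℂ)) (f.2 g n)
  · apply charDegree_eq
    simp
  · intro f f' hff'
    apply Subtype.ext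
    ext n
    have h1 := congrArg (fun x => x.1.1 n) hff'
    exact h1
  · rintro ⟨θ, hinv, hdeg⟩
    have hθ1 : θ.1 1 = 1 := by
      rw [← charDegree_cast θ.2, hdeg, Nat.cast_one]
    have hlin : IsLin ↥(Cfsg.pResidual p G) θ.1 := ⟨isCharacter_of_isIrrCharacter θ.2, hθ1⟩
    refine ⟨⟨linHom hlin, ?_⟩, ?_⟩
    · intro g n
      apply Units.ext
      rw [linHom_apply, linHom_apply]
      exact hinv g n
    · apply Subtype.ext
      apply Subtype.ext
      funext n
      rfl

/-- **Thompson's theorem**: if `p` divides the degree of every nonlinear irreducible character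
of `G`, then the order of `O^p(G)` is prime to `p`. -/
theorem not_dvd_card_pResidual
    (hdeg : ∀ χ : G → ℂ, Cfsg.IsIrrCharacter G χ → ∀ d : ℕ, χ 1 = d → d ≠ 1 → p ∣ d) :
    ¬ p ∣ Nat.card ↥(Cfsg.pResidual p G) := by
  classical
  have hp : p.Prime := Fact.out
  have : Fintype ↥(Cfsg.pResidual p G) := Fintype.ofFinite _
  let _ : MulAction G (Cfsg.IrrCharacter ↥(Cfsg.pResidual p G)) := irrAction p
  have hN : (Cfsg.pResidual p G).Normal := pResidual_normal
  have hsmul : ∀ (g : G) (θ : Cfsg.IrrCharacter ↥(Cfsg.pResidual p G)),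
      (g • θ).1 = conjFun (Cfsg.pResidual p G) pResidual_normal θ.1 g⁻¹ := fun g θ => rfl
  -- fixed points are the invariant characters
  have hfixed : ∀ θ : Cfsg.IrrCharacter ↥(Cfsg.pResidual p G),
      (∀ g : G, g • θ = θ) ↔ InvFun p θ.1 := by
    intro θ
    constructor
    · intro h g n
      have h1 := congrArg Subtype.val (h g⁻¹)
      rw [hsmul, inv_inv] at h1
      exact congrFun h1 n
    · intro h g
      apply Subtype.ext
      rw [hsmul]
      funext n
      exact h g⁻¹ n
  -- the weight function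
  let f : Cfsg.IrrCharacter ↥(Cfsg.pResidual p G) → ℕ := fun θ => (Cfsg.charDegree θ.1) ^ 2
  have hf : ∀ (g : G) (θ : Cfsg.IrrCharacter ↥(Cfsg.pResidual p G)), f (g • θ) = f θ := by
    intro g θ
    have h1 : (g • θ).1 1 = θ.1 1 := by
      rw [hsmul, conjFun_apply]
      exact congrArg θ.1 (Subtype.ext (by simp))
    show (Cfsg.charDegree (g • θ).1) ^ 2 = (Cfsg.charDegree θ.1) ^ 2
    unfold Cfsg.charDegree
    rw [h1]
  have hsum : ∑ θ : Cfsg.IrrCharacter ↥(Cfsg.pResidual p G), f θ =
      Nat.card ↥(Cfsg.pResidual p G) := by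
    have h := sum_sq_irr_one (G := ↥(Cfsg.pResidual p G))
    have h1 : ((∑ θ : Cfsg.IrrCharacter ↥(Cfsg.pResidual p G), f θ : ℕ) : ℂ) =
        (Nat.card ↥(Cfsg.pResidual p G) : ℂ) := by
      rw [← h]
      push_cast
      apply Finset.sum_congr rfl
      intro θ _
      show ((Cfsg.charDegree θ.1 ^ 2 : ℕ) : ℂ) = _
      push_cast
      rw [charDegree_cast θ.2]
    exact_mod_cast h1
  -- orbits
  have horb : ∀ θ : Cfsg.IrrCharacter ↥(Cfsg.pResidual p G),
      (∀ g : G, g • θ = θ) ∨ p ∣ (orbit G θ).ncard := by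
    intro θ
    have hle : Cfsg.pResidual p G ≤ stabilizer G θ := by
      intro m hm
      rw [mem_stabilizer_iff]
      apply Subtype.ext
      rw [hsmul]
      exact conjFun_of_mem (Cfsg.pResidual p G) pResidual_normal
        (isClassFunction_of_isIrrCharacter θ.2) ⟨m⁻¹, (Cfsg.pResidual p G).inv_mem hm⟩
    have hdvd : (stabilizer G θ).index ∣ (Cfsg.pResidual p G).index :=
      Subgroup.index_dvd_of_le hle
    obtain ⟨k, hk⟩ := index_pResidual (G := G) p
    rw [hk] at hdvd
    obtain ⟨j, -, hj⟩ := (Nat.dvd_prime_pow hp).1 hdvd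
    rw [← index_stabilizer, hj]
    rcases Nat.eq_zero_or_pos j with rfl | hjpos
    · left
      rw [pow_zero, Subgroup.index_eq_one] at hj
      intro g
      have : g ∈ stabilizer G θ := by rw [hj]; trivial
      exact this
    · right
      exact dvd_pow_self p hjpos.ne'
  have hcong := sum_modEq_sum_fixed (H := G) f hf p horb
  rw [hsum] at hcong
  have hfilt : (Finset.univ.filter
      (fun θ : Cfsg.IrrCharacter ↥(Cfsg.pResidual p G) => ∀ g : G, g • θ = θ)) =
      Finset.univ.filter (fun θ : Cfsg.IrrCharacter ↥(Cfsg.pResidual p G) => InvFun p θ.1) := by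
    apply Finset.filter_congr
    intro θ _
    exact hfixed θ
  rw [hfilt] at hcong
  -- split according to the degree
  rw [← Finset.sum_filter_add_sum_filter_not
    (Finset.univ.filter (fun θ : Cfsg.IrrCharacter ↥(Cfsg.pResidual p G) => InvFun p θ.1))
    (fun θ => Cfsg.charDegree θ.1 = 1) f, Finset.filter_filter, Finset.filter_filter] at hcong
  have e1 : ∑ θ ∈ Finset.univ.filter (fun θ : Cfsg.IrrCharacter ↥(Cfsg.pResidual p G) =>
      InvFun p θ.1 ∧ Cfsg.charDegree θ.1 = 1), f θ =
      (Finset.univ.filter (fun θ : Cfsg.IrrCharacter ↥(Cfsg.pResidual p G) =>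
        InvFun p θ.1 ∧ Cfsg.charDegree θ.1 = 1)).card := by
    rw [Finset.card_eq_sum_ones]
    apply Finset.sum_congr rfl
    intro θ hθ
    rw [Finset.mem_filter] at hθ
    show (Cfsg.charDegree θ.1) ^ 2 = 1
    rw [hθ.2.2, one_pow]
  have e2 : p ∣ ∑ θ ∈ Finset.univ.filter (fun θ : Cfsg.IrrCharacter ↥(Cfsg.pResidual p G) =>
      InvFun p θ.1 ∧ ¬ Cfsg.charDegree θ.1 = 1), f θ := by
    apply Finset.dvd_sum
    intro θ hθ
    rw [Finset.mem_filter] at hθ
    have hpd : p ∣ Cfsg.charDegree θ.1 := by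
      by_contra hnd
      obtain ⟨d, -, hd⟩ := irr_one_eq_natCast θ.2
      have hcd := charDegree_eq hd
      rw [hcd] at hnd
      obtain ⟨χ, hχ, hχN⟩ := exists_extension p θ.1 θ.2 hθ.2.1 d hd hnd
      have hχ1 : χ 1 = d := by
        rw [← hd]
        exact hχN 1
      have := hdeg χ hχ d hχ1 (by rw [← hcd]; exact hθ.2.2)
      exact hnd this
    exact Dvd.dvd.pow hpd two_ne_zero
  rw [e1, ← card_invHoms] at hcong
  intro hdvd
  apply not_dvd_card_invHoms (G := G) p
  obtain ⟨c, hc⟩ := e2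
  rw [hc] at hcong
  have h1 : Nat.card ↥(invHoms (G := G) p) + p * c ≡ Nat.card ↥(invHoms (G := G) p) [MOD p] := by
    have := (Nat.modEq_zero_iff_dvd.2 (Dvd.intro c rfl : p ∣ p * c))
    exact Nat.ModEq.add_left (Nat.card ↥(invHoms (G := G) p)) this
  have h2 := hcong.trans h1
  exact (Nat.modEq_zero_iff_dvd.1 (h2.symm.trans (Nat.modEq_zero_iff_dvd.2 hdvd)))

/-- **Thompson's theorem**, subgroup form: `O^p(G)` is a normal `p`-complement. -/
theorem exists_normal_pComplement
    (hdeg : ∀ χ : G → ℂ, Cfsg.IsIrrCharacter G χ → ∀ d : ℕ, χ 1 = d → d ≠ 1 → p ∣ d) :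
    ∃ N : Subgroup G, N.Normal ∧ (Nat.card N).Coprime p ∧ ∃ k : ℕ, N.index = p ^ k := by
  refine ⟨Cfsg.pResidual p G, pResidual_normal, ?_, index_pResidual p⟩
  exact ((Nat.Prime.coprime_iff_not_dvd Fact.out).2 (not_dvd_card_pResidual p hdeg)).symm

end Main

end Cfsg.Agent.Lib.Helper59_Thompson
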