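import Mathlib
import Cfsg.Prelude.Def_Characters
import Cfsg.Prelude.Def_Transfer
import Cfsg.Agent.Lib.Helper59_Thompson
import Cfsg.Agent.Lib.Helper59_CliffordDeg
import Cfsg.Agent.Lib.Helper47_PClosed
import Cfsg.Agent.Lib.Helper80_CharBasic
import Cfsg.Agent.Lib.Helper3_CharDegree

/-!
# Groups with two character degrees are solvable (helper74)

Via Thompson's theorem (Isaacs 12.2, `Helper59_Thompson`): for every prime `p ∣ m` the subgroup
`O^p(G)` is a normal `p`-complement; the intersection of these is abelian with nilpotent quotient.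
-/

set_option autoImplicit false

namespace Cfsg.Agent.Lib.Helper74_TwoDegS

open Cfsg

universe u

variable {G : Type u} [Group G]

/-- the degree of an irreducible character divides the group order -/
theorem degree_dvd_card [Finite G] (χ : IrrCharacter G) (d : ℕ) (hd : (χ : G → ℂ) 1 = d) :
    d ∣ Nat.card G := by
  obtain ⟨n, ρ, hirr, hρ⟩ := χ.2
  have := hirr
  have : Fintype G := Fintype.ofFinite G
  have h1 := Helper3_CharDegree.finrank_dvd_card ρ
  have h2 : Module.finrank ℂ (Fin n → ℂ) = n := by simp
  have h3 : (χ : G → ℂ) 1 = n := by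
    rw [← hρ, Representation.char_one]
    simp
  have h4 : d = n := by
    rw [h3] at hd
    exact_mod_cast hd.symm
  rw [h4]
  rw [h2] at h1
  exact h1

/-- `G/A` is solvable, phrased inside `G` -/
def SolvQuot (A : Subgroup G) : Prop := ∃ n : ℕ, derivedSeries G n ≤ A

theorem solvQuot_top : SolvQuot (⊤ : Subgroup G) := ⟨0, le_top⟩

theorem SolvQuot.inf {A B : Subgroup G} (hA : SolvQuot A) (hB : SolvQuot B) :
    SolvQuot (A ⊓ B) := by
  obtain ⟨n, hn⟩ := hA
  obtain ⟨k, hk⟩ := hB
  refine ⟨max n k, le_inf ?_ ?_⟩
  · exact (derivedSeries_antitone G (le_max_left n k)).trans hn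
  · exact (derivedSeries_antitone G (le_max_right n k)).trans hk

theorem solvQuot_of_isSolvable (A : Subgroup G) [A.Normal] (h : Group.IsSolvable (G ⧸ A)) :
    SolvQuot A := by
  obtain ⟨n, hn⟩ := (Group.isSolvable_def _).mp h
  refine ⟨n, ?_⟩
  have h1 := map_derivedSeries_eq (QuotientGroup.mk'_surjective A) n
  rw [hn] at h1
  have h2 := (Subgroup.map_eq_bot_iff _).mp h1
  rwa [QuotientGroup.ker_mk'] at h2

theorem isSolvable_quotient_of_solvQuot (A : Subgroup G) [A.Normal] (h : SolvQuot A) :
    Group.IsSolvable (G ⧸ A) := by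
  obtain ⟨n, hn⟩ := h
  rw [Group.isSolvable_def]
  refine ⟨n, ?_⟩
  rw [← map_derivedSeries_eq (QuotientGroup.mk'_surjective A) n, Subgroup.map_eq_bot_iff,
    QuotientGroup.ker_mk']
  exact hn

theorem solvQuot_biInf {ι : Type*} (s : Finset ι) (A : ι → Subgroup G)
    (h : ∀ i ∈ s, SolvQuot (A i)) : SolvQuot (⨅ i ∈ s, A i) := by
  classical
  induction s using Finset.induction_on with
  | empty => simpa using solvQuot_top
  | insert a s ha ih =>
    rw [Finset.iInf_insert]
    exact (h a (Finset.mem_insert_self a s)).inf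
      (ih (fun i hi => h i (Finset.mem_insert_of_mem hi)))

theorem isSolvable_of_solvQuot (H : Subgroup G) [H.Normal] (h : SolvQuot H) [Group.IsSolvable H] :
    Group.IsSolvable G := by
  have := isSolvable_quotient_of_solvQuot H h
  apply Group.isSolvable_of_ker_le_range H.subtype (QuotientGroup.mk' H)
  rw [QuotientGroup.ker_mk', Subgroup.range_subtype]

/-- a finite group whose irreducible characters have degree `1` or `m` is solvable -/
theorem isSolvable_of_twoDeg [Finite G] (m : ℕ)
    (hcd : ∀ χ : IrrCharacter G, (χ : G → ℂ) 1 = 1 ∨ (χ : G → ℂ) 1 = m) : Group.IsSolvable G := by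
  classical
  have : Fintype G := Fintype.ofFinite G
  by_cases hm0 : m = 0
  · -- all characters are linear
    apply Group.isSolvable_of_comm
    apply Helper59_CliffordDeg.commute_of_all_linear
    intro θ
    rcases hcd θ with h | h
    · exact h
    · exfalso
      obtain ⟨n, hn, hθ⟩ := Helper80_CharBasic.irr_apply_one θ
      rw [hθ, hm0] at h
      have : n = 0 := by exact_mod_cast h
      omega
  set H : Subgroup G := ⨅ p ∈ m.primeFactors, Cfsg.pResidual p G with hH
  have hHn : H.Normal := by
    rw [hH]
    apply Subgroup.normal_iInf_normal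
    intro p
    apply Subgroup.normal_iInf_normal
    intro _
    exact Helper47_PClosed.pResidual_normal p G
  -- coprimality
  have hcop : (Nat.card H).Coprime m := by
    apply Nat.coprime_of_dvd
    intro p hp hpH hpm
    have : Fact p.Prime := ⟨hp⟩
    have hmem : p ∈ m.primeFactors := Nat.mem_primeFactors.mpr ⟨hp, hpm, hm0⟩
    have hle : H ≤ Cfsg.pResidual p G := by
      rw [hH]
      exact iInf₂_le p hmem
    have h1 : Nat.card H ∣ Nat.card (Cfsg.pResidual p G) := Subgroup.card_dvd_of_le hle
    refine Helper59_Thompson.not_dvd_card_pResidual p ?_ (hpH.trans h1)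
    intro χ hχ d hd hd1
    rcases hcd ⟨χ, hχ⟩ with h | h
    · exfalso
      apply hd1
      have : (d : ℂ) = 1 := by rw [← hd]; exact h
      exact_mod_cast this
    · have : (d : ℂ) = m := by rw [← hd]; exact h
      have hdm : d = m := by exact_mod_cast this
      rw [hdm]
      exact hpm
  -- `H` is abelian
  have hHab : ∀ a b : H, a * b = b * a := by
    apply Helper59_CliffordDeg.commute_of_all_linear
    intro θ
    have : Fintype H := Fintype.ofFinite H
    obtain ⟨d, hdpos, hd⟩ := Helper80_CharBasic.irr_apply_one θ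
    obtain ⟨χ, hχ, hχne⟩ := Helper59_CliffordDeg.exists_irr_over H θ.2
    obtain ⟨D, hDpos, hD⟩ := Helper80_CharBasic.irr_apply_one (⟨χ, hχ⟩ : IrrCharacter G)
    have h1 := Helper59_CliffordDeg.degree_dvd_of_clifford H hHn hχ θ.2 hχne D d hD hd
    have hdm : d ∣ m := by
      rcases hcd ⟨χ, hχ⟩ with h | h
      · have hD1 : D = 1 := by
          have : (D : ℂ) = 1 := by rw [← hD]; exact h
          exact_mod_cast this
        rw [hD1] at h1
        exact h1.trans (one_dvd _)
      · have hD1 : D = m := by
          have : (D : ℂ) = m := by rw [← hD]; exact h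
          exact_mod_cast this
        rw [hD1] at h1
        exact h1
    have hdH : d ∣ Nat.card H := degree_dvd_card θ d hd
    have hd1 : d = 1 := Nat.eq_one_of_dvd_coprimes hcop hdH hdm
    rw [hd, hd1]
    simp
  have hHsolv : Group.IsSolvable H := Group.isSolvable_of_comm hHab
  -- the quotient
  have hquot : SolvQuot H := by
    rw [hH]
    apply solvQuot_biInf
    intro p hp
    have hpp : p.Prime := (Nat.mem_primeFactors.mp hp).1
    have : Fact p.Prime := ⟨hpp⟩
    have hpg : IsPGroup p (G ⧸ Cfsg.pResidual p G) := Helper47_PClosed.isPGroup_quotient_pResidual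
    have hnil : Group.IsNilpotent (G ⧸ Cfsg.pResidual p G) := hpg.isNilpotent
    exact solvQuot_of_isSolvable _ inferInstance
  exact isSolvable_of_solvQuot H hquot

end Cfsg.Agent.Lib.Helper74_TwoDegS
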