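import Mathlib
import Cfsg.Prelude.Def_Characters
import Cfsg.Prelude.Def_Blocks
import Cfsg.Agent.Lib.Helper74_TwoDegS
import Cfsg.Agent.Lib.Helper59_CliffordDeg
import Cfsg.Agent.Lib.Helper80_RelDegree
import Cfsg.Agent.Lib.Helper3_CharColumn

/-!
# S4460 package PA3 (helper10, for helper50)

Degrees over a normal `p`-complement: if `Q ⊴ G` has order prime to `p` and index `p ^ k`, and
`θ ∈ Irr(Q)` has degree `d`, then `p ∤ d` and some `χ ∈ Irr(G)` has degree `d * p ^ j`.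
-/

set_option autoImplicit false

namespace Cfsg.Agent.Lib.Helper10_Isaacs1215_PA3

open Cfsg
open scoped commutatorElement

universe u

/-- PA3 = degrees of a normal `p`-complement -/
theorem PA3 {G : Type u} [Group G] [Finite G] (p : ℕ) (hp : p.Prime) (Q : Subgroup G)
    [Q.Normal] (hcop : (Nat.card Q).Coprime p) (k : ℕ) (hidx : Q.index = p ^ k)
    (θ : IrrCharacter Q) (d : ℕ) (hd : (θ : Q → ℂ) 1 = d) :
    ¬ p ∣ d ∧ ∃ (χ : IrrCharacter G) (j : ℕ), (χ : G → ℂ) 1 = ((d * p ^ j : ℕ) : ℂ) := by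
  have hFG : Fintype G := Fintype.ofFinite G
  have hFQ : Fintype Q := Fintype.ofFinite Q
  constructor
  · intro hpd
    have h1 : d ∣ Nat.card Q := Cfsg.Agent.Lib.Helper74_TwoDegS.degree_dvd_card θ d hd
    have h2 : p ∣ Nat.card Q := hpd.trans h1
    have h3 : p ∣ Nat.gcd (Nat.card Q) p := Nat.dvd_gcd h2 dvd_rfl
    rw [hcop] at h3
    exact hp.one_lt.ne' (Nat.dvd_one.mp h3)
  · obtain ⟨χ, hχ, hcon⟩ := Cfsg.Agent.Lib.Helper59_CliffordDeg.exists_irr_over Q θ.2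
    obtain ⟨c, _, hc⟩ := Cfsg.Agent.Lib.Helper3_CharColumn.irr_one_eq_natCast hχ
    obtain ⟨e, hce, hediv⟩ := Cfsg.Agent.Lib.Helper80_RelDegree.rel_degree_dvd Q χ hχ
      (θ : Q → ℂ) θ.2 hcon c d hc hd
    rw [hidx] at hediv
    obtain ⟨j, _, hj⟩ := (Nat.dvd_prime_pow hp).mp hediv
    refine ⟨⟨χ, hχ⟩, j, ?_⟩
    show χ 1 = _
    rw [hc, hce, hj, mul_comm]

end Cfsg.Agent.Lib.Helper10_Isaacs1215_PA3
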