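import Cfsg.Prelude.Def_Local

/-!
Basic reusable facts on the vocabulary of `Def_Local` / `Def_CaseTheorems`:
quasisimple groups and components are invariant under isomorphisms, the layer, the Fitting subgroup and
the generalized Fitting subgroup are characteristic (hence normal), the centre lies in the Fitting subgroup.
-/

set_option autoImplicit false

namespace Cfsg.Agent.Lib.Helper29_Local

open Cfsg

/-- An isomorphism maps the centre onto the centre. -/
theorem map_center_mulEquiv {G H : Type*} [Group G] [Group H] (e : G ≃* H) :
    (Subgroup.center G).map (e : G →* H) = Subgroup.center H := by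
  ext x
  constructor
  · rintro ⟨y, hy, rfl⟩
    rw [Subgroup.mem_center_iff]
    intro h
    obtain ⟨h', rfl⟩ := e.surjective h
    have := (Subgroup.mem_center_iff.mp hy) h'
    change e h' * e y = e y * e h'
    rw [← map_mul, ← map_mul, this]
  · intro hx
    refine ⟨e.symm x, ?_, by simp⟩
    rw [SetLike.mem_coe, Subgroup.mem_center_iff]
    intro g
    apply e.injective
    rw [map_mul, map_mul, e.apply_symm_apply]
    exact (Subgroup.mem_center_iff.mp hx) (e g)

/-- Quasisimplicity is invariant under isomorphism. -/
theorem isQuasisimple_of_mulEquiv {G H : Type*} [Group G] [Group H] (e : G ≃* H)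
    (hG : IsQuasisimple G) : IsQuasisimple H := by
  obtain ⟨hperf, hsimp⟩ := hG
  refine ⟨Group.IsPerfect.ofSurjective (f := (e : G →* H)) e.surjective, ?_⟩
  exact (QuotientGroup.congr (Subgroup.center G) (Subgroup.center H) e (map_center_mulEquiv e)).symm.isSimpleGroup

theorem isQuasisimple_iff_of_mulEquiv {G H : Type*} [Group G] [Group H] (e : G ≃* H) :
    IsQuasisimple G ↔ IsQuasisimple H :=
  ⟨isQuasisimple_of_mulEquiv e, isQuasisimple_of_mulEquiv e.symm⟩

/-- A quasisimple group is nontrivial. -/
theorem IsQuasisimple.nontrivial {G : Type*} [Group G] (hG : IsQuasisimple G) : Nontrivial G := by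
  have : Nontrivial (G ⧸ Subgroup.center G) := hG.2.toNontrivial
  exact (QuotientGroup.mk'_surjective (Subgroup.center G)).nontrivial

/-- A quasisimple group is not nilpotent. -/
theorem IsQuasisimple.not_isNilpotent {G : Type*} [Group G] (hG : IsQuasisimple G) :
    ¬ Group.IsNilpotent G := by
  have := IsQuasisimple.nontrivial hG
  have := hG.1
  exact Group.IsPerfect.not_isNilpotent G

/-- A quasisimple group is not solvable. -/
theorem IsQuasisimple.not_isSolvable {G : Type*} [Group G] (hG : IsQuasisimple G) :
    ¬ Group.IsSolvable G := by
  have := IsQuasisimple.nontrivial hG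
  have := hG.1
  exact Group.IsPerfect.not_isSolvable G

/-- Commutative groups (in the mixin sense) are nilpotent. -/
theorem isNilpotent_of_isMulCommutative {H : Type*} [Group H] [IsMulCommutative H] :
    Group.IsNilpotent H :=
  ⟨1, by rw [Subgroup.upperCentralSeries_one]; exact Subgroup.center_eq_top⟩

/-- The Fitting subgroup is normal. -/
instance fittingSubgroup_normal (G : Type*) [Group G] : (fittingSubgroup G).Normal :=
  Subgroup.sSup_normal _ (fun _ h => h.1)

/-- A normal nilpotent subgroup lies in the Fitting subgroup. -/
theorem le_fittingSubgroup {G : Type*} [Group G] (N : Subgroup G) [N.Normal] (hN : Group.IsNilpotent N) :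
    N ≤ fittingSubgroup G :=
  le_sSup ⟨inferInstance, hN⟩

/-- The centre lies in the Fitting subgroup. -/
theorem center_le_fittingSubgroup (G : Type*) [Group G] : Subgroup.center G ≤ fittingSubgroup G :=
  le_fittingSubgroup _ isNilpotent_of_isMulCommutative

/-- The Fitting subgroup lies in the generalized Fitting subgroup. -/
theorem fittingSubgroup_le_generalizedFittingSubgroup (G : Type*) [Group G] :
    fittingSubgroup G ≤ generalizedFittingSubgroup G := le_sup_right

/-- The layer lies in the generalized Fitting subgroup. -/
theorem layer_le_generalizedFittingSubgroup (G : Type*) [Group G] :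
    layer G ≤ generalizedFittingSubgroup G := le_sup_left

/-- The image of a component under an isomorphism is a component. -/
theorem isComponent_map_mulEquiv {G H : Type*} [Group G] [Group H] (e : G ≃* H) {K : Subgroup G}
    (hK : IsComponent K) : IsComponent (K.map (e : G →* H)) := by
  refine ⟨Subgroup.IsSubnormal.map (f := (e : G →* H)) e.surjective hK.1, ?_⟩
  exact isQuasisimple_of_mulEquiv (K.equivMapOfInjective (e : G →* H) e.injective) hK.2

/-- The layer is mapped into the layer by an isomorphism. -/
theorem map_layer_le {G H : Type*} [Group G] [Group H] (e : G ≃* H) :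
    (layer G).map (e : G →* H) ≤ layer H := by
  unfold layer
  rw [Subgroup.map_le_iff_le_comap, sSup_le_iff]
  intro K hK
  rw [← Subgroup.map_le_iff_le_comap]
  exact le_sSup (isComponent_map_mulEquiv e hK)

/-- The layer is a characteristic subgroup. -/
instance layer_characteristic (G : Type*) [Group G] : (layer G).Characteristic := by
  rw [Subgroup.characteristic_iff_map_le]
  intro ϕ
  exact map_layer_le ϕ

/-- The layer is a normal subgroup. -/
instance layer_normal (G : Type*) [Group G] : (layer G).Normal := inferInstance

/-- The generalized Fitting subgroup is a normal subgroup. -/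
instance generalizedFittingSubgroup_normal (G : Type*) [Group G] :
    (generalizedFittingSubgroup G).Normal := by
  unfold generalizedFittingSubgroup
  infer_instance

/-- A component lies in the layer. -/
theorem IsComponent.le_layer {G : Type*} [Group G] {K : Subgroup G} (hK : IsComponent K) :
    K ≤ layer G := le_sSup hK

end Cfsg.Agent.Lib.Helper29_Local
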