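import Cfsg.Prelude.Def_Local
import Cfsg.Agent.Lib.Helper29_Local
import Mathlib.GroupTheory.NoncommPiCoprod

set_option autoImplicit false
open Cfsg
open scoped commutatorElement

namespace Cfsg.Agent.Lib.Helper21_Components

/-- If `N ⊔ Z(X) = ⊤` with `N` normal then `N` contains the commutator subgroup. -/
theorem commutator_le_of_sup_center_eq_top {X : Type*} [Group X] (N : Subgroup X) [hN : N.Normal]
    (hsup : N ⊔ Subgroup.center X = ⊤) : commutator X ≤ N := by
  rw [commutator_def, Subgroup.commutator_le]
  intro x _ y _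
  have hx : x ∈ N ⊔ Subgroup.center X := hsup ▸ Subgroup.mem_top x
  rw [← SetLike.mem_coe, Subgroup.normal_mul] at hx
  obtain ⟨n₁, hn₁, z₁, hz₁, rfl⟩ := Set.mem_mul.mp hx
  have hzy : y * z₁ = z₁ * y := Subgroup.mem_center_iff.mp hz₁ y
  have : ⁅n₁ * z₁, y⁆ = n₁ * (y * n₁⁻¹ * y⁻¹) := by
    rw [commutatorElement_def, mul_inv_rev, mul_assoc n₁ z₁ y, ← hzy]; group
  rw [this]
  exact N.mul_mem hn₁ (hN.conj_mem _ (N.inv_mem hn₁) y)

/-- A normal subgroup of a quasisimple group is the whole group or central. -/
theorem IsQuasisimple.normal_eq_top_or_le_center {X : Type*} [Group X] (hX : IsQuasisimple X)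
    (N : Subgroup X) [hN : N.Normal] : N = ⊤ ∨ N ≤ Subgroup.center X := by
  obtain ⟨hperf, hsimp⟩ := hX
  have hmapN : (N.map (QuotientGroup.mk' (Subgroup.center X))).Normal :=
    hN.map _ (QuotientGroup.mk'_surjective _)
  rcases hmapN.eq_bot_or_eq_top with h | h
  · right
    rw [Subgroup.map_eq_bot_iff, QuotientGroup.ker_mk'] at h
    exact h
  · left
    have hsup : N ⊔ Subgroup.center X = ⊤ := by
      have := congrArg (Subgroup.comap (QuotientGroup.mk' (Subgroup.center X))) h
      rw [Subgroup.comap_map_eq, QuotientGroup.ker_mk', Subgroup.comap_top] at this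
      exact this
    have hcomm := commutator_le_of_sup_center_eq_top N hsup
    rw [hperf.commutator_eq_top] at hcomm
    exact top_le_iff.mp hcomm

/-- A subnormal subgroup of a quasisimple group is the whole group or central. -/
theorem IsQuasisimple.subnormal_eq_top_or_le_center {X : Type*} [Group X] (hX : IsQuasisimple X)
    (H : Subgroup X) (hH : H.IsSubnormal) : H = ⊤ ∨ H ≤ Subgroup.center X := by
  by_cases hne : H = ⊤
  · exact Or.inl hne
  · right
    obtain ⟨K, hKn, hHK, hKlt⟩ := hH.exists_normal_and_le_and_lt_top_of_ne hne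
    rcases IsQuasisimple.normal_eq_top_or_le_center hX K with h | h
    · exact absurd h hKlt.ne
    · exact hHK.trans h

theorem commutatorElement_mul_center_left {X : Type*} [Group X] {n z y : X}
    (hz : z ∈ Subgroup.center X) : ⁅n * z, y⁆ = ⁅n, y⁆ := by
  have hzy : y * z = z * y := Subgroup.mem_center_iff.mp hz y
  rw [commutatorElement_def, commutatorElement_def, mul_inv_rev, mul_assoc n z y, ← hzy]; group

theorem commutatorElement_mul_center_right {X : Type*} [Group X] {x n z : X}
    (hz : z ∈ Subgroup.center X) : ⁅x, n * z⁆ = ⁅x, n⁆ := by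
  have hzx : x⁻¹ * z = z * x⁻¹ := Subgroup.mem_center_iff.mp hz x⁻¹
  rw [commutatorElement_def, commutatorElement_def, mul_inv_rev]
  calc x * (n * z) * x⁻¹ * (z⁻¹ * n⁻¹) = x * n * (z * x⁻¹) * z⁻¹ * n⁻¹ := by group
    _ = x * n * (x⁻¹ * z) * z⁻¹ * n⁻¹ := by rw [hzx]
    _ = x * n * x⁻¹ * n⁻¹ := by group

/-- If the commutator subgroup is central, the central quotient is commutative. -/
theorem isMulCommutative_quotient_center_of_commutator_le {X : Type*} [Group X]
    (h : commutator X ≤ Subgroup.center X) : IsMulCommutative (X ⧸ Subgroup.center X) := by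
  refine ⟨⟨fun a b => ?_⟩⟩
  induction a using QuotientGroup.induction_on with
  | H x =>
    induction b using QuotientGroup.induction_on with
    | H y =>
      rw [← QuotientGroup.mk_mul, ← QuotientGroup.mk_mul, QuotientGroup.eq]
      have : (x * y)⁻¹ * (y * x) = ⁅y⁻¹, x⁻¹⁆ := by
        rw [commutatorElement_def]; group
      rw [this]
      exact h (Subgroup.commutator_mem_commutator (Subgroup.mem_top _) (Subgroup.mem_top _))

/-- Aschbacher 31.2, first half. -/
theorem commutator_sup_center_eq_top {X : Type*} [Group X]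
    (hs : IsSimpleGroup (X ⧸ Subgroup.center X))
    (hna : ¬ IsMulCommutative (X ⧸ Subgroup.center X)) :
    commutator X ⊔ Subgroup.center X = ⊤ := by
  have hN : ((commutator X).map (QuotientGroup.mk' (Subgroup.center X))).Normal :=
    Subgroup.Normal.map inferInstance _ (QuotientGroup.mk'_surjective _)
  rcases hN.eq_bot_or_eq_top with h | h
  · exfalso
    rw [Subgroup.map_eq_bot_iff, QuotientGroup.ker_mk'] at h
    exact hna (isMulCommutative_quotient_center_of_commutator_le h)
  · have := congrArg (Subgroup.comap (QuotientGroup.mk' (Subgroup.center X))) h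
    rw [Subgroup.comap_map_eq, QuotientGroup.ker_mk', Subgroup.comap_top] at this
    exact this

/-- If `D ⊔ Z(X) = ⊤` then the commutator subgroup of `X` lies in `⁅D, D⁆`. -/
theorem commutator_le_commutator_of_sup_center_eq_top {X : Type*} [Group X] (D : Subgroup X)
    (hsup : D ⊔ Subgroup.center X = ⊤) : commutator X ≤ ⁅D, D⁆ := by
  rw [commutator_def, Subgroup.commutator_le]
  intro x _ y _
  have hx : x ∈ D ⊔ Subgroup.center X := hsup ▸ Subgroup.mem_top x
  have hy : y ∈ D ⊔ Subgroup.center X := hsup ▸ Subgroup.mem_top y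
  rw [← SetLike.mem_coe, Subgroup.mul_normal] at hx hy
  obtain ⟨d₁, hd₁, z₁, hz₁, rfl⟩ := Set.mem_mul.mp hx
  obtain ⟨d₂, hd₂, z₂, hz₂, rfl⟩ := Set.mem_mul.mp hy
  rw [commutatorElement_mul_center_left hz₁, commutatorElement_mul_center_right hz₂]
  exact Subgroup.commutator_mem_commutator hd₁ hd₂

/-- If `D ⊔ Z(X) = ⊤` then `Z(D) = Z(X) ∩ D`. -/
theorem center_eq_subgroupOf_of_sup_center_eq_top {X : Type*} [Group X] (D : Subgroup X)
    (hsup : D ⊔ Subgroup.center X = ⊤) :
    Subgroup.center ↥D = (Subgroup.center X).subgroupOf D := by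
  ext d
  rw [Subgroup.mem_subgroupOf, Subgroup.mem_center_iff, Subgroup.mem_center_iff]
  constructor
  · intro h x
    have hx : x ∈ D ⊔ Subgroup.center X := hsup ▸ Subgroup.mem_top x
    rw [← SetLike.mem_coe, Subgroup.mul_normal] at hx
    obtain ⟨d₁, hd₁, z₁, hz₁, rfl⟩ := Set.mem_mul.mp hx
    have h1 : d₁ * (d : X) = d * d₁ := congrArg Subtype.val (h ⟨d₁, hd₁⟩)
    have h2 : (d : X) * z₁ = z₁ * d := Subgroup.mem_center_iff.mp hz₁ d
    calc d₁ * z₁ * d = d₁ * (z₁ * d) := by group
      _ = d₁ * (d * z₁) := by rw [h2]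
      _ = (d₁ * d) * z₁ := by group
      _ = d * d₁ * z₁ := by rw [h1]
      _ = d * (d₁ * z₁) := by group
  · intro h x
    exact Subtype.ext (h x)

/-- Aschbacher 31.2: if `X/Z(X)` is nonabelian simple then `X'` is quasisimple. -/
theorem isQuasisimple_commutator {X : Type*} [Group X]
    (hs : IsSimpleGroup (X ⧸ Subgroup.center X))
    (hna : ¬ IsMulCommutative (X ⧸ Subgroup.center X)) :
    IsQuasisimple ↥(commutator X) := by
  have hsup := commutator_sup_center_eq_top hs hna
  refine ⟨?_, ?_⟩
  · rw [Subgroup.isPerfect_iff]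
    refine le_antisymm (Subgroup.commutator_le_left _ _) ?_
    exact commutator_le_commutator_of_sup_center_eq_top _ hsup
  · -- the quotient map restricted to the commutator subgroup
    let φ : ↥(commutator X) →* X ⧸ Subgroup.center X :=
      (QuotientGroup.mk' (Subgroup.center X)).comp (commutator X).subtype
    have hφsurj : Function.Surjective φ := by
      intro q
      induction q using QuotientGroup.induction_on with
      | H x =>
        have hx : x ∈ commutator X ⊔ Subgroup.center X := hsup ▸ Subgroup.mem_top x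
        rw [← SetLike.mem_coe, Subgroup.mul_normal] at hx
        obtain ⟨d, hd, z, hz, rfl⟩ := Set.mem_mul.mp hx
        refine ⟨⟨d, hd⟩, ?_⟩
        change (QuotientGroup.mk d : X ⧸ Subgroup.center X) = QuotientGroup.mk (d * z)
        rw [QuotientGroup.eq]
        simpa using hz
    have hker : φ.ker = Subgroup.center ↥(commutator X) := by
      rw [center_eq_subgroupOf_of_sup_center_eq_top _ hsup]
      ext d
      rw [MonoidHom.mem_ker, Subgroup.mem_subgroupOf]
      change (QuotientGroup.mk (d : X) : X ⧸ Subgroup.center X) = 1 ↔ _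
      rw [QuotientGroup.eq_one_iff]
    have e1 : ↥(commutator X) ⧸ φ.ker ≃* X ⧸ Subgroup.center X :=
      QuotientGroup.quotientKerEquivOfSurjective φ hφsurj
    have e2 : ↥(commutator X) ⧸ Subgroup.center ↥(commutator X) ≃* ↥(commutator X) ⧸ φ.ker :=
      QuotientGroup.quotientMulEquivOfEq hker.symm
    exact (e2.trans e1).isSimpleGroup

universe u

/-- A proper subgroup of a finite group has smaller cardinality. -/
theorem card_lt_of_ne_top {G : Type*} [Group G] [Finite G] {X : Subgroup G} (hX : X ≠ ⊤) :
    Nat.card ↥X < Nat.card G := by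
  by_contra h
  exact hX (Subgroup.eq_top_of_le_card X (not_lt.mp h))

/-- `subgroupOf` reflects inclusions of subgroups of the ambient subgroup. -/
theorem le_of_subgroupOf_le {G : Type*} [Group G] {L K X : Subgroup G} (hLX : L ≤ X)
    (h : L.subgroupOf X ≤ K.subgroupOf X) : L ≤ K := by
  intro l hl
  have : (⟨l, hLX hl⟩ : ↥X) ∈ L.subgroupOf X := by rw [Subgroup.mem_subgroupOf]; exact hl
  have := h this
  rwa [Subgroup.mem_subgroupOf] at this

/-- Commutators computed in a subgroup. -/
theorem commutator_eq_bot_of_subgroupOf {G : Type*} [Group G] {L H X : Subgroup G} (hLX : L ≤ X)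
    (hHX : H ≤ X) (h : ⁅L.subgroupOf X, H.subgroupOf X⁆ = ⊥) : ⁅L, H⁆ = ⊥ := by
  have := congrArg (Subgroup.map X.subtype) h
  rw [Subgroup.map_commutator, Subgroup.map_subgroupOf_eq_of_le hLX,
    Subgroup.map_subgroupOf_eq_of_le hHX, Subgroup.map_bot] at this
  exact this

/-- A component of `G` contained in a subgroup `X` is a component of `X`. -/
theorem IsComponent.subgroupOf {G : Type*} [Group G] {L X : Subgroup G} (hL : IsComponent L)
    (hLX : L ≤ X) : IsComponent (L.subgroupOf X) :=
  ⟨hL.1.subgroupOf, Cfsg.Agent.Lib.Helper29_Local.isQuasisimple_of_mulEquiv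
    (Subgroup.subgroupOfEquivOfLe hLX).symm hL.2⟩

/-- For a perfect subgroup `L`, `[Y, L, L] = 1` implies `[L, Y] = 1`. -/
theorem commutator_eq_bot_of_perfect {G : Type*} [Group G] {L Y : Subgroup G} (hL : ⁅L, L⁆ = L)
    (h : ⁅⁅Y, L⁆, L⁆ = ⊥) : ⁅L, Y⁆ = ⊥ := by
  have h1 : ⁅⁅L, Y⁆, L⁆ = ⊥ := by rw [Subgroup.commutator_comm L Y]; exact h
  have := Subgroup.commutator_commutator_eq_bot_of_rotate (H₁ := L) (H₂ := L) (H₃ := Y) h1 h
  rwa [hL] at this

theorem IsComponent.commutator_self {G : Type*} [Group G] {L : Subgroup G} (hL : IsComponent L) :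
    ⁅L, L⁆ = L := by
  have := hL.2.1
  exact Subgroup.isPerfect_iff.mp this

/-- Aschbacher 31.4, by induction on the order of the group. -/
theorem component_le_or_commutator_eq_bot_aux : ∀ (n : ℕ) (G : Type u) [Group G] [Finite G],
    Nat.card G = n → ∀ L H : Subgroup G, IsComponent L → H.IsSubnormal → L ≤ H ∨ ⁅L, H⁆ = ⊥ := by
  intro n
  induction n using Nat.strong_induction_on with
  | _ n ih =>
    intro G _ _ hn L H hL hH
    by_cases hLtop : L = ⊤
    · -- `G` itself is quasisimple
      subst hLtop
      have hq : IsQuasisimple G :=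
        Cfsg.Agent.Lib.Helper29_Local.isQuasisimple_of_mulEquiv Subgroup.topEquiv hL.2
      rcases IsQuasisimple.subnormal_eq_top_or_le_center hq H hH with h | h
      · left; rw [h]
      · right
        rw [Subgroup.commutator_comm, Subgroup.commutator_eq_bot_iff_le_centralizer]
        intro x hx
        rw [Subgroup.mem_centralizer_iff]
        intro g _
        exact Subgroup.mem_center_iff.mp (h hx) g
    by_cases hHtop : H = ⊤
    · left; rw [hHtop]; exact le_top
    obtain ⟨X, hXn, hLX, hXlt⟩ := hL.1.exists_normal_and_le_and_lt_top_of_ne hLtop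
    obtain ⟨Y, hYn, hHY, hYlt⟩ := hH.exists_normal_and_le_and_lt_top_of_ne hHtop
    have hcX : Nat.card ↥X < n := hn ▸ card_lt_of_ne_top hXlt.ne
    have hcY : Nat.card ↥Y < n := hn ▸ card_lt_of_ne_top hYlt.ne
    have hXYn : (X ⊓ Y).Normal := inferInstance
    have hsn : ((X ⊓ Y).subgroupOf X).IsSubnormal := hXYn.isSubnormal.subgroupOf
    rcases ih _ hcX ↥X rfl (L.subgroupOf X) ((X ⊓ Y).subgroupOf X) (IsComponent.subgroupOf hL hLX) hsn
      with h | h
    · have hLXY : L ≤ X ⊓ Y := le_of_subgroupOf_le hLX h
      have hLY : L ≤ Y := hLXY.trans inf_le_right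
      rcases ih _ hcY ↥Y rfl (L.subgroupOf Y) (H.subgroupOf Y) (IsComponent.subgroupOf hL hLY) hH.subgroupOf
        with h' | h'
      · left; exact le_of_subgroupOf_le hLY h'
      · right; exact commutator_eq_bot_of_subgroupOf hLY hHY h'
    · right
      have h1 : ⁅L, X ⊓ Y⁆ = ⊥ := commutator_eq_bot_of_subgroupOf hLX inf_le_left h
      have h2 : ⁅Y, L⁆ ≤ X ⊓ Y := by
        refine le_inf ?_ (Subgroup.commutator_le_left Y L)
        exact (Subgroup.commutator_mono le_top hLX).trans (Subgroup.commutator_le_right ⊤ X)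
      have h3 : ⁅⁅Y, L⁆, L⁆ = ⊥ := by
        rw [eq_bot_iff, ← h1, Subgroup.commutator_comm L (X ⊓ Y)]
        exact Subgroup.commutator_mono h2 le_rfl
      have h4 : ⁅L, Y⁆ = ⊥ := commutator_eq_bot_of_perfect (IsComponent.commutator_self hL) h3
      rw [eq_bot_iff, ← h4]
      exact Subgroup.commutator_mono le_rfl hHY

/-- Aschbacher 31.4: a component `L` and a subnormal subgroup `H` of a finite group satisfy
`L ≤ H` or `[L, H] = 1`. -/
theorem IsComponent.le_or_commutator_eq_bot {G : Type u} [Group G] [Finite G] {L H : Subgroup G}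
    (hL : IsComponent L) (hH : H.IsSubnormal) : L ≤ H ∨ ⁅L, H⁆ = ⊥ :=
  component_le_or_commutator_eq_bot_aux _ G rfl L H hL hH

/-- A component is not contained in a solvable subgroup. -/
theorem IsComponent.not_le_of_isSolvable {G : Type*} [Group G] {L H : Subgroup G}
    (hL : IsComponent L) (hsolv : Group.IsSolvable ↥H) : ¬ L ≤ H := by
  intro hLH
  have : Group.IsSolvable ↥L :=
    Group.isSolvable_of_isSolvable_injective (Subgroup.inclusion_injective hLH)
  exact Cfsg.Agent.Lib.Helper29_Local.IsQuasisimple.not_isSolvable hL.2 this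

/-- Aschbacher 31.6: a component centralizes every solvable subgroup it normalizes. -/
theorem IsComponent.commutator_eq_bot_of_isSolvable {G : Type u} [Group G] [Finite G]
    {L H : Subgroup G} (hL : IsComponent L) (hsolv : Group.IsSolvable ↥H)
    (hinv : L ≤ Subgroup.normalizer (H : Set G)) : ⁅L, H⁆ = ⊥ := by
  have hLM : L ≤ L ⊔ H := le_sup_left
  have hHM : H ≤ L ⊔ H := le_sup_right
  have hMN : L ⊔ H ≤ Subgroup.normalizer (H : Set G) := sup_le hinv Subgroup.le_normalizer
  have hHn : (H.subgroupOf (L ⊔ H)).Normal :=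
    (Subgroup.normal_subgroupOf_iff_le_normalizer hHM).mpr hMN
  rcases IsComponent.le_or_commutator_eq_bot (IsComponent.subgroupOf hL hLM) hHn.isSubnormal
    with h | h
  · exact absurd (le_of_subgroupOf_le hLM h) (IsComponent.not_le_of_isSolvable hL hsolv)
  · exact commutator_eq_bot_of_subgroupOf hLM hHM h

/-- Aschbacher 31.5: distinct components of a finite group commute. -/
theorem IsComponent.commutator_eq_bot_of_ne {G : Type u} [Group G] [Finite G] {L₁ L₂ : Subgroup G}
    (h₁ : IsComponent L₁) (h₂ : IsComponent L₂) (hne : L₁ ≠ L₂) : ⁅L₁, L₂⁆ = ⊥ := by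
  rcases IsComponent.le_or_commutator_eq_bot h₁ h₂.1 with h | h
  · exfalso
    have hsn : (L₁.subgroupOf L₂).IsSubnormal := h₁.1.subgroupOf
    rcases IsQuasisimple.subnormal_eq_top_or_le_center h₂.2 _ hsn with h' | h'
    · rw [Subgroup.subgroupOf_eq_top] at h'
      exact hne (le_antisymm h h')
    · -- then `L₁` is commutative
      have hcomm : ⁅L₁, L₁⁆ = ⊥ := by
        rw [Subgroup.commutator_eq_bot_iff_le_centralizer]
        intro a ha
        rw [Subgroup.mem_centralizer_iff]
        intro b hb
        have hb' : (⟨b, h hb⟩ : ↥L₂) ∈ L₁.subgroupOf L₂ := by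
          rw [Subgroup.mem_subgroupOf]; exact hb
        have := Subgroup.mem_center_iff.mp (h' hb') ⟨a, h ha⟩
        have := congrArg Subtype.val this
        simpa using this.symm
      rw [IsComponent.commutator_self h₁] at hcomm
      have := Cfsg.Agent.Lib.Helper29_Local.IsQuasisimple.nontrivial h₁.2
      rw [Subgroup.nontrivial_iff_ne_bot] at this
      exact this hcomm
  · exact h

/-- Elementwise version of 31.5. -/
theorem IsComponent.commute_of_ne {G : Type u} [Group G] [Finite G] {L₁ L₂ : Subgroup G}
    (h₁ : IsComponent L₁) (h₂ : IsComponent L₂) (hne : L₁ ≠ L₂) {x y : G} (hx : x ∈ L₁)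
    (hy : y ∈ L₂) : Commute x y := by
  have := IsComponent.commutator_eq_bot_of_ne h₁ h₂ hne
  rw [Subgroup.commutator_eq_bot_iff_le_centralizer] at this
  exact (Subgroup.mem_centralizer_iff.mp (this hx) y hy).symm


theorem layer_eq_iSup (G : Type*) [Group G] :
    layer G = ⨆ L : {K : Subgroup G // IsComponent K}, (L : Subgroup G) := by
  unfold layer
  rw [sSup_eq_iSup']
  rfl

/-- The centre of a component is central in the layer. -/
theorem IsComponent.center_le_center_layer {G : Type u} [Group G] [Finite G] {L : Subgroup G}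
    (hL : IsComponent L) :
    (Subgroup.center ↥L).map L.subtype ≤ (Subgroup.center ↥(layer G)).map (layer G).subtype := by
  rintro _ ⟨x, hx, rfl⟩
  have hxE : (x : G) ∈ layer G := Cfsg.Agent.Lib.Helper29_Local.IsComponent.le_layer hL x.2
  refine ⟨⟨x, hxE⟩, ?_, rfl⟩
  rw [SetLike.mem_coe, Subgroup.mem_center_iff]
  rintro ⟨g, hg⟩
  apply Subtype.ext
  change g * (x : G) = x * g
  -- the centralizer of `x` contains every component
  have hle : layer G ≤ Subgroup.centralizer {(x : G)} := by
    unfold layer
    rw [sSup_le_iff]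
    intro K hK k hk
    rw [Subgroup.mem_centralizer_iff]
    intro y hy
    rw [Set.mem_singleton_iff] at hy
    subst hy
    by_cases hKL : K = L
    · subst hKL
      have := Subgroup.mem_center_iff.mp hx ⟨k, hk⟩
      exact (congrArg Subtype.val this).symm
    · exact (IsComponent.commute_of_ne hK hL hKL hk x.2).eq.symm
  have := Subgroup.mem_centralizer_iff.mp (hle hg) x rfl
  exact this.symm

/-- Let `H i` be a finite family of pairwise commuting subgroups and `z` an element of their join which
commutes with every `H i`. Then `z` lies in the join of the centres of the `H i`. -/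
theorem mem_iSup_center_of_commute {G : Type*} [Group G] {ι : Type*} [Fintype ι] [DecidableEq ι]
    (H : ι → Subgroup G)
    (hcomm : Pairwise fun i j : ι => ∀ x y : G, x ∈ H i → y ∈ H j → Commute x y)
    (z : G) (hz : z ∈ ⨆ i, H i) (hzc : ∀ i, ∀ y ∈ H i, Commute z y) :
    z ∈ ⨆ i, (Subgroup.center ↥(H i)).map (H i).subtype := by
  rw [← Subgroup.noncommPiCoprod_range (hcomm := hcomm)] at hz
  obtain ⟨f, rfl⟩ := hz
  -- each coordinate is central in its factor
  have hcoord : ∀ i, f i ∈ Subgroup.center ↥(H i) := by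
    intro i
    rw [Subgroup.mem_center_iff]
    rintro ⟨y, hy⟩
    apply Subtype.ext
    change y * (f i : G) = (f i : G) * y
    -- decompose `f = mulSingle i (f i) * f'`
    set f' : ∀ j, H j := Function.update f i 1 with hf'
    have hdecomp : f = Pi.mulSingle i (f i) * f' := by
      funext j
      by_cases hji : j = i
      · subst hji
        simp [hf']
      · simp [hf', hji]
    have hw : Commute y (Subgroup.noncommPiCoprod hcomm f') := by
      rw [Subgroup.noncommPiCoprod_apply]
      apply Finset.noncommProd_commute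
      intro j _
      by_cases hji : j = i
      · subst hji
        simp [hf']
      · have : f' j = f j := by simp [hf', hji]
        rw [this]
        exact hcomm (Ne.symm hji) y (f j) hy (f j).2
    have hz1 : Subgroup.noncommPiCoprod hcomm f
        = (f i : G) * Subgroup.noncommPiCoprod hcomm f' := by
      conv_lhs => rw [hdecomp, map_mul, Subgroup.noncommPiCoprod_mulSingle]
    have hzy := hzc i y hy
    rw [hz1] at hzy
    -- `f i * w` commutes with `y` and `w` commutes with `y`
    have h3 : Commute ((f i : G) * Subgroup.noncommPiCoprod hcomm f'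
        * (Subgroup.noncommPiCoprod hcomm f')⁻¹) y := hzy.mul_left hw.symm.inv_left
    rw [mul_inv_cancel_right] at h3
    exact h3.eq.symm
  rw [Subgroup.noncommPiCoprod_apply]
  apply Subgroup.noncommProd_mem
  intro i _
  refine Subgroup.mem_iSup_of_mem i ?_
  exact ⟨f i, hcoord i, rfl⟩

/-- `Z(E(G))` is the join of the centres of the components. -/
theorem center_layer_eq_iSup {G : Type u} [Group G] [Finite G] :
    (Subgroup.center ↥(layer G)).map (layer G).subtype =
      ⨆ L : {K : Subgroup G // IsComponent K},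
        (Subgroup.center ↥(L : Subgroup G)).map (L : Subgroup G).subtype := by
  classical
  apply le_antisymm
  · rintro _ ⟨w, hw, rfl⟩
    have : Fintype {K : Subgroup G // IsComponent K} := Fintype.ofFinite _
    refine mem_iSup_center_of_commute (fun L : {K : Subgroup G // IsComponent K} => (L : Subgroup G))
      ?_ _ ?_ ?_
    · intro i j hij x y hx hy
      exact IsComponent.commute_of_ne i.2 j.2 (fun h => hij (Subtype.ext h)) hx hy
    · rw [← layer_eq_iSup]
      exact w.2
    · intro i y hy
      have hyE : y ∈ layer G := Cfsg.Agent.Lib.Helper29_Local.IsComponent.le_layer i.2 hy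
      have := Subgroup.mem_center_iff.mp hw ⟨y, hyE⟩
      exact (congrArg Subtype.val this).symm
  · exact iSup_le fun L => IsComponent.center_le_center_layer L.2

end Cfsg.Agent.Lib.Helper21_Components
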