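import Cfsg.Agent.Lib.Helper21_Components
import Cfsg.Agent.Lib.Helper71_Fitting

/-!
Fitting subgroup facts used for the generalized Fitting subgroup: the Fitting subgroup is characteristic,
`F(N) ≤ F(G)` for `N` normal, solvable subgroups of `C_G(F(G))` normalized by it are central in `F(G)`.
-/

set_option autoImplicit false
open Cfsg
open scoped commutatorElement

namespace Cfsg.Agent.Lib.Helper21_Fitting

open Cfsg.Agent.Lib.Helper21_Components

universe u

/-- Nilpotency is invariant under isomorphism. -/
theorem isNilpotent_of_mulEquiv {G H : Type*} [Group G] [Group H] (e : G ≃* H)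
    (hG : Group.IsNilpotent G) : Group.IsNilpotent H :=
  Group.nilpotent_of_mulEquiv e

/-- The Fitting subgroup is mapped into the Fitting subgroup by an isomorphism. -/
theorem map_fittingSubgroup_le {G H : Type*} [Group G] [Group H] (e : G ≃* H) :
    (fittingSubgroup G).map (e : G →* H) ≤ fittingSubgroup H := by
  unfold fittingSubgroup
  rw [Subgroup.map_le_iff_le_comap, sSup_le_iff]
  intro K hK
  rw [← Subgroup.map_le_iff_le_comap]
  refine le_sSup ⟨hK.1.map _ e.surjective, ?_⟩
  exact isNilpotent_of_mulEquiv (K.equivMapOfInjective (e : G →* H) e.injective) hK.2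

/-- The Fitting subgroup is characteristic. -/
instance fittingSubgroup_characteristic (G : Type*) [Group G] :
    (fittingSubgroup G).Characteristic := by
  rw [Subgroup.characteristic_iff_map_le]
  intro ϕ
  exact map_fittingSubgroup_le ϕ

/-- The Fitting subgroup of a normal subgroup lies in the Fitting subgroup. -/
theorem map_fittingSubgroup_subtype_le {G : Type*} [Group G] [Finite G] (N : Subgroup G)
    [N.Normal] : (fittingSubgroup ↥N).map N.subtype ≤ fittingSubgroup G := by
  have hnil : Group.IsNilpotent ↥(fittingSubgroup ↥N) :=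
    Cfsg.Agent.Lib.Helper71_Fitting.fittingSubgroup_isNilpotent
  have hnorm : ((fittingSubgroup ↥N).map N.subtype).Normal := inferInstance
  refine le_sSup ⟨hnorm, ?_⟩
  exact isNilpotent_of_mulEquiv
    ((fittingSubgroup ↥N).equivMapOfInjective N.subtype N.subtype_injective) hnil

/-- A nilpotent subgroup `M` of a normal subgroup `C` which is normalized by `C` lies in the
Fitting subgroup. -/
theorem le_fittingSubgroup_of_normal_in_normal {G : Type*} [Group G] [Finite G] (C M : Subgroup G)
    [C.Normal] (hMC : M ≤ C) (hCM : C ≤ Subgroup.normalizer (M : Set G))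
    (hM : Group.IsNilpotent ↥M) : M ≤ fittingSubgroup G := by
  have hn : (M.subgroupOf C).Normal := (Subgroup.normal_subgroupOf_iff_le_normalizer hMC).mpr hCM
  have hnil : Group.IsNilpotent ↥(M.subgroupOf C) :=
    isNilpotent_of_mulEquiv (Subgroup.subgroupOfEquivOfLe hMC).symm hM
  have h1 : M.subgroupOf C ≤ fittingSubgroup ↥C := le_sSup ⟨hn, hnil⟩
  have h2 := Subgroup.map_mono (f := C.subtype) h1
  rw [Subgroup.map_subgroupOf_eq_of_le hMC] at h2
  exact h2.trans (map_fittingSubgroup_subtype_le C)

/-- A subgroup with `[[M, M], M] = 1` is nilpotent. -/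
theorem isNilpotent_of_commutator_commutator_eq_bot {G : Type*} [Group G] (M : Subgroup G)
    (h : ⁅⁅M, M⁆, M⁆ = ⊥) : Group.IsNilpotent ↥M := by
  have hle : commutator ↥M ≤ Subgroup.center ↥M := by
    intro x hx
    rw [Subgroup.mem_center_iff]
    intro m
    apply Subtype.ext
    have hx' : (x : G) ∈ ⁅M, M⁆ := by
      rw [← Subgroup.map_subtype_commutator]
      exact Subgroup.mem_map_of_mem _ hx
    rw [Subgroup.commutator_eq_bot_iff_le_centralizer] at h
    exact Subgroup.mem_centralizer_iff.mp (h hx') m m.2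
  have := isMulCommutative_quotient_center_of_commutator_le hle
  have hq : Group.IsNilpotent (↥M ⧸ Subgroup.center ↥M) :=
    Cfsg.Agent.Lib.Helper29_Local.isNilpotent_of_isMulCommutative
  exact Group.of_quotient_center_nilpotent hq



theorem commutator_self_le {G : Type*} [Group G] (M : Subgroup G) : ⁅M, M⁆ ≤ M :=
  Subgroup.commutator_le.mpr fun _ ha _ hb =>
    M.mul_mem (M.mul_mem (M.mul_mem ha hb) (M.inv_mem ha)) (M.inv_mem hb)

/-- The normalizer of `M` normalizes `[M, M]`. -/
theorem normalizer_le_normalizer_commutator {G : Type*} [Group G] (M : Subgroup G) :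
    Subgroup.normalizer (M : Set G) ≤ Subgroup.normalizer ((⁅M, M⁆ : Subgroup G) : Set G) := by
  intro g hg
  rw [Subgroup.mem_normalizer_iff_map_conj_eq] at hg ⊢
  rw [Subgroup.map_commutator, hg]

/-- The derived series of a subgroup, computed inside the ambient group. -/
def dser {G : Type*} [Group G] (M : Subgroup G) : ℕ → Subgroup G
  | 0 => M
  | k + 1 => ⁅dser M k, dser M k⁆

theorem dser_succ_eq {G : Type*} [Group G] (M : Subgroup G) (k : ℕ) :
    dser M (k + 1) = dser ⁅M, M⁆ k := by
  induction k with
  | zero => rfl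
  | succ k ih =>
    change ⁅dser M (k + 1), dser M (k + 1)⁆ = ⁅dser ⁅M, M⁆ k, dser ⁅M, M⁆ k⁆
    rw [ih]

theorem map_derivedSeries_eq_dser {G : Type*} [Group G] (M : Subgroup G) (k : ℕ) :
    (derivedSeries ↥M k).map M.subtype = dser M k := by
  induction k with
  | zero =>
    change (⊤ : Subgroup ↥M).map M.subtype = M
    rw [← MonoidHom.range_eq_map, Subgroup.range_subtype]
  | succ k ih =>
    rw [derivedSeries_succ, Subgroup.map_commutator, ih]
    rfl

theorem exists_dser_eq_bot {G : Type*} [Group G] (M : Subgroup G) (hM : Group.IsSolvable ↥M) :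
    ∃ k, dser M k = ⊥ := by
  obtain ⟨k, hk⟩ := hM
  refine ⟨k, ?_⟩
  rw [← map_derivedSeries_eq_dser, hk, Subgroup.map_bot]

/-- A solvable subgroup of `C_G(F(G))` normalized by `C_G(F(G))` lies in `F(G)`. -/
theorem le_fittingSubgroup_of_dser_eq_bot {G : Type*} [Group G] [Finite G] :
    ∀ (k : ℕ) (M : Subgroup G), M ≤ Subgroup.centralizer (fittingSubgroup G : Set G) →
      Subgroup.centralizer (fittingSubgroup G : Set G) ≤ Subgroup.normalizer (M : Set G) →
      dser M k = ⊥ → M ≤ fittingSubgroup G := by
  intro k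
  induction k with
  | zero =>
    intro M _ _ h
    change M = ⊥ at h
    rw [h]; exact bot_le
  | succ k ih =>
    intro M hMC hCM h
    rw [dser_succ_eq] at h
    have h1 : ⁅M, M⁆ ≤ fittingSubgroup G :=
      ih ⁅M, M⁆ ((commutator_self_le M).trans hMC)
        (hCM.trans (normalizer_le_normalizer_commutator M)) h
    have h2 : ⁅⁅M, M⁆, M⁆ = ⊥ := by
      rw [Subgroup.commutator_eq_bot_iff_le_centralizer]
      intro x hx
      rw [Subgroup.mem_centralizer_iff]
      intro m hm
      exact (Subgroup.mem_centralizer_iff.mp (hMC hm) x (h1 hx)).symm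
    have : (fittingSubgroup G).Normal := Cfsg.Agent.Lib.Helper29_Local.fittingSubgroup_normal G
    exact le_fittingSubgroup_of_normal_in_normal (Subgroup.centralizer (fittingSubgroup G : Set G)) M hMC hCM
      (isNilpotent_of_commutator_commutator_eq_bot M h2)

/-- S1264. -/
theorem le_center_fittingSubgroup {G : Type*} [Group G] [Finite G] (N : Subgroup G)
    (hN : N ≤ Subgroup.centralizer (fittingSubgroup G : Set G))
    (hnorm : Subgroup.centralizer (fittingSubgroup G : Set G) ≤ Subgroup.normalizer (N : Set G))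
    (hsolv : Group.IsSolvable ↥N) :
    N ≤ (Subgroup.center ↥(fittingSubgroup G)).map (fittingSubgroup G).subtype := by
  obtain ⟨k, hk⟩ := exists_dser_eq_bot N hsolv
  have hNF := le_fittingSubgroup_of_dser_eq_bot k N hN hnorm hk
  intro x hx
  refine ⟨⟨x, hNF hx⟩, ?_, rfl⟩
  rw [SetLike.mem_coe, Subgroup.mem_center_iff]
  rintro ⟨f, hf⟩
  apply Subtype.ext
  exact Subgroup.mem_centralizer_iff.mp (hN hx) f hf

end Cfsg.Agent.Lib.Helper21_Fitting
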