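import Cfsg.Prelude.Def_Local
import Cfsg.Agent.Lib.Helper21_Components
import Cfsg.Agent.Lib.Helper1_Cores

/-!
The layer `E(X)` and the Fitting subgroup (helper22), on top of helper21's component library.
-/

set_option autoImplicit false

universe u

namespace Cfsg.Agent.Lib.Helper22_Layer

open Subgroup Cfsg
open Cfsg.Agent.Lib.Helper21_Components Cfsg.Agent.Lib.Helper29_Local

variable {X : Type u} [Group X]

/-- the layer is contained in any subgroup containing all components -/
theorem layer_le_iff {H : Subgroup X} : layer X ≤ H ↔ ∀ L : Subgroup X, IsComponent L → L ≤ H := by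
  unfold layer
  rw [sSup_le_iff]
  rfl

/-- the layer is perfect -/
theorem layer_perfect : ⁅layer X, layer X⁆ = layer X := by
  apply le_antisymm (Subgroup.commutator_le_self _)
  rw [layer_le_iff]
  intro L hL
  calc L = ⁅L, L⁆ := (IsComponent.commutator_self hL).symm
    _ ≤ ⁅layer X, layer X⁆ := Subgroup.commutator_mono (IsComponent.le_layer hL) (IsComponent.le_layer hL)

/-- if every component centralizes `H` then so does the layer -/
theorem layer_commutator_eq_bot {H : Subgroup X} (h : ∀ L : Subgroup X, IsComponent L → ⁅L, H⁆ = ⊥) :
    ⁅layer X, H⁆ = ⊥ := by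
  rw [Subgroup.commutator_eq_bot_iff_le_centralizer, layer_le_iff]
  intro L hL
  exact Subgroup.commutator_eq_bot_iff_le_centralizer.mp (h L hL)

/-- the layer centralizes every solvable normal subgroup -/
theorem layer_commutator_eq_bot_of_isSolvable [Finite X] {H : Subgroup X} [H.Normal]
    (hs : Group.IsSolvable ↥H) : ⁅layer X, H⁆ = ⊥ :=
  layer_commutator_eq_bot (fun _ hL =>
    IsComponent.commutator_eq_bot_of_isSolvable hL hs (by rw [Subgroup.normalizer_eq_top]; exact le_top))

/-- `[E(X), F(X)] = 1` -/
theorem layer_commutator_fitting [Finite X] : ⁅layer X, fittingSubgroup X⁆ = ⊥ := by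
  have hn : Group.IsNilpotent ↥(fittingSubgroup X) := Cfsg.Agent.Lib.Helper1_Cores.fittingSubgroup_isNilpotent
  exact layer_commutator_eq_bot_of_isSolvable inferInstance

/-- every component is normal in the layer -/
theorem IsComponent.le_normalizer_layer [Finite X] {L : Subgroup X} (hL : IsComponent L) :
    layer X ≤ normalizer (L : Set X) := by
  rw [layer_le_iff]
  intro K hK
  by_cases h : K = L
  · rw [h]; exact le_normalizer
  · have hc := IsComponent.commutator_eq_bot_of_ne hK hL h
    rw [Subgroup.commutator_eq_bot_iff_le_centralizer] at hc
    exact hc.trans (Subgroup.centralizer_le_normalizer (L : Set X))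

/-- a component is contained in, or commutes with, any subnormal subgroup; hence normalizes it -/
theorem IsComponent.le_normalizer_of_isSubnormal [Finite X] {L H : Subgroup X} (hL : IsComponent L)
    (hH : H.IsSubnormal) : L ≤ normalizer (H : Set X) := by
  rcases IsComponent.le_or_commutator_eq_bot hL hH with h | h
  · exact h.trans le_normalizer
  · rw [Subgroup.commutator_eq_bot_iff_le_centralizer] at h
    exact h.trans (Subgroup.centralizer_le_normalizer (H : Set X))

/-- the layer normalizes every subnormal subgroup -/
theorem layer_le_normalizer_of_isSubnormal [Finite X] {H : Subgroup X} (hH : H.IsSubnormal) :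
    layer X ≤ normalizer (H : Set X) := by
  rw [layer_le_iff]
  intro L hL
  exact IsComponent.le_normalizer_of_isSubnormal hL hH

/-- a component of a subnormal subgroup is a component of the group -/
theorem IsComponent.map_subtype {H : Subgroup X} (hH : H.IsSubnormal) {K : Subgroup ↥H} (hK : IsComponent K) :
    IsComponent (K.map H.subtype) :=
  ⟨hK.1.trans' hH, isQuasisimple_of_mulEquiv (K.equivMapOfInjective H.subtype H.subtype_injective) hK.2⟩

/-- a component of the group contained in a subgroup is a component of that subgroup -/
theorem IsComponent.subgroupOf' {H L : Subgroup X} (hL : IsComponent L) (hLH : L ≤ H) :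
    IsComponent (L.subgroupOf H) :=
  IsComponent.subgroupOf hL hLH

/-- the layer of a subnormal subgroup lies in the layer of the group -/
theorem map_layer_subtype_le {H : Subgroup X} (hH : H.IsSubnormal) :
    (layer ↥H).map H.subtype ≤ layer X := by
  unfold layer
  rw [(Subgroup.gc_map_comap H.subtype).l_sSup]
  apply iSup₂_le
  intro K hK
  exact le_sSup (IsComponent.map_subtype hH hK)

end Cfsg.Agent.Lib.Helper22_Layer
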