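import Cfsg.Prelude.Def_Balance
import Cfsg.Agent.Lib.Helper29_Local

/-!
Transport of the `p'`-core, `p`-components, the `p`-layer and `O_{p',p}` along group isomorphisms
(helper23); relative cores of subgroups and their behaviour under conjugation.
-/

set_option autoImplicit false

namespace Cfsg.Agent.Lib.Helper23_Layer

open Cfsg

/-- conjugate of a subgroup -/
abbrev cj {G : Type*} [Group G] (g : G) (A : Subgroup G) : Subgroup G :=
  A.map (MulAut.conj g).toMonoidHom

theorem mem_cj {G : Type*} [Group G] {g x : G} {A : Subgroup G} :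
    x ∈ cj g A ↔ g⁻¹ * x * g ∈ A := by
  constructor
  · rintro ⟨y, hy, rfl⟩
    have : g⁻¹ * ((MulAut.conj g).toMonoidHom y) * g = y := by
      simp [MulAut.conj_apply]; group
    rw [this]; exact hy
  · intro h
    refine ⟨g⁻¹ * x * g, h, ?_⟩
    simp [MulAut.conj_apply]; group

theorem conj_mem_cj {G : Type*} [Group G] {g x : G} {A : Subgroup G} (hx : x ∈ A) :
    g * x * g⁻¹ ∈ cj g A := ⟨x, hx, rfl⟩

theorem cj_eq_of_normal {G : Type*} [Group G] (g : G) (A : Subgroup G) [hA : A.Normal] :
    cj g A = A := by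
  ext x
  rw [mem_cj]
  constructor
  · intro h
    have := hA.conj_mem _ h g
    have h2 : g * (g⁻¹ * x * g) * g⁻¹ = x := by group
    rwa [h2] at this
  · intro h
    have := hA.conj_mem _ h g⁻¹
    rwa [inv_inv] at this

theorem cj_centralizer {G : Type*} [Group G] (g : G) (S : Subgroup G) :
    cj g (Subgroup.centralizer (S : Set G)) = Subgroup.centralizer ((cj g S : Subgroup G) : Set G) := by
  ext x
  rw [mem_cj, Subgroup.mem_centralizer_iff, Subgroup.mem_centralizer_iff]
  constructor
  · intro h y hy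
    have hy' : g⁻¹ * y * g ∈ S := mem_cj.mp hy
    have := h _ hy'
    calc y * x = g * ((g⁻¹ * y * g) * (g⁻¹ * x * g)) * g⁻¹ := by group
      _ = g * ((g⁻¹ * x * g) * (g⁻¹ * y * g)) * g⁻¹ := by rw [this]
      _ = x * y := by group
  · intro h s hs
    have hy : g * s * g⁻¹ ∈ cj g S := conj_mem_cj hs
    have := h _ hy
    calc s * (g⁻¹ * x * g) = g⁻¹ * ((g * s * g⁻¹) * x) * g := by group
      _ = g⁻¹ * (x * (g * s * g⁻¹)) * g := by rw [this]
      _ = g⁻¹ * x * g * s := by group

/-! ### cardinalities of joins -/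

theorem card_sup_eq {G : Type*} [Group G] (K N : Subgroup G) [K.Normal] :
    Nat.card ↥(K ⊔ N) = Nat.card K * K.relIndex N := by
  have h := Subgroup.relIndex_mul_relIndex (⊥ : Subgroup G) K (K ⊔ N) bot_le le_sup_left
  rw [Subgroup.relIndex_bot_left, Subgroup.relIndex_bot_left, Subgroup.relIndex_sup_left] at h
  exact h.symm

theorem card_sup_dvd {G : Type*} [Group G] (K N : Subgroup G) [K.Normal] :
    Nat.card ↥(K ⊔ N) ∣ Nat.card K * Nat.card N := by
  rw [card_sup_eq]
  exact Nat.mul_dvd_mul_left _ (Subgroup.relIndex_dvd_card _ _)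

/-- The join of a family of normal `π`-subgroups of a finite group is a normal `π`-group. -/
theorem piGroup_sSup {G : Type*} [Group G] [Finite G] (π : Set ℕ) (S : Set (Subgroup G))
    (h : ∀ N ∈ S, N.Normal ∧ ∀ p : ℕ, p.Prime → p ∣ Nat.card N → p ∈ π) :
    (sSup S : Subgroup G).Normal ∧
      ∀ p : ℕ, p.Prime → p ∣ Nat.card (sSup S : Subgroup G) → p ∈ π := by
  have hfin : S.Finite := Set.toFinite S
  induction S, hfin using Set.Finite.induction_on with
  | empty =>
    rw [sSup_empty]
    refine ⟨inferInstance, ?_⟩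
    intro p hp hdvd
    rw [Subgroup.card_bot] at hdvd
    exact absurd (Nat.le_of_dvd one_pos hdvd) (not_le.mpr hp.one_lt)
  | @insert a s _ _ ih =>
    have hs := ih (fun N hN => h N (Set.mem_insert_of_mem a hN))
    have ha := h a (Set.mem_insert a s)
    rw [sSup_insert]
    have := ha.1
    have := hs.1
    refine ⟨inferInstance, ?_⟩
    intro p hp hdvd
    rw [card_sup_eq] at hdvd
    rcases (Nat.Prime.dvd_mul hp).mp hdvd with h1 | h1
    · exact ha.2 p hp h1
    · exact hs.2 p hp (dvd_trans h1 (Subgroup.relIndex_dvd_card _ _))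

/-! ### the `p'`-core -/

theorem pPrimeCore_coprime {G : Type*} [Group G] [Finite G] (p : ℕ) [Fact p.Prime] :
    (Nat.card (pPrimeCore p G)).Coprime p := by
  have hp : p.Prime := Fact.out
  have key := piGroup_sSup {q | q ≠ p} {N : Subgroup G | N.Normal ∧ (Nat.card N).Coprime p} (by
    intro N hN
    refine ⟨hN.1, ?_⟩
    intro q hq hdvd hqp
    subst hqp
    exact (Nat.Prime.coprime_iff_not_dvd hq).mp hN.2.symm hdvd)
  rw [Nat.coprime_comm, Nat.Prime.coprime_iff_not_dvd hp]
  intro hdvd
  exact key.2 p hp hdvd rfl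

theorem le_pPrimeCore {G : Type*} [Group G] {p : ℕ} {N : Subgroup G} (hN : N.Normal)
    (h : (Nat.card N).Coprime p) : N ≤ pPrimeCore p G :=
  le_sSup ⟨hN, h⟩

theorem pPrimeCore_map_le {G H : Type*} [Group G] [Group H] [Finite G] (p : ℕ) [Fact p.Prime]
    (e : G ≃* H) : (pPrimeCore p G).map (e : G →* H) ≤ pPrimeCore p H := by
  apply le_pPrimeCore
  · exact (Cfsg.pPrimeCore_normal p G).map _ e.surjective
  · have : Nat.card ((pPrimeCore p G).map (e : G →* H)) = Nat.card (pPrimeCore p G) :=
      Subgroup.card_map_of_injective e.injective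
    rw [this]
    exact pPrimeCore_coprime p

theorem pPrimeCore_map_equiv {G H : Type*} [Group G] [Group H] [Finite G] (p : ℕ) [Fact p.Prime]
    (e : G ≃* H) : (pPrimeCore p G).map (e : G →* H) = pPrimeCore p H := by
  have : Finite H := Finite.of_equiv G e.toEquiv
  apply le_antisymm (pPrimeCore_map_le p e)
  have h := pPrimeCore_map_le p e.symm
  intro x hx
  refine ⟨e.symm x, h ⟨x, hx, rfl⟩, ?_⟩
  simp

/-! ### `p`-components and the `p`-layer under isomorphisms -/

/-- The isomorphism induced on the quotients by the `p'`-cores. -/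
noncomputable def quotEquiv {G H : Type*} [Group G] [Group H] [Finite G] (p : ℕ) [Fact p.Prime]
    (e : G ≃* H) : G ⧸ pPrimeCore p G ≃* H ⧸ pPrimeCore p H :=
  QuotientGroup.congr (pPrimeCore p G) (pPrimeCore p H) e (pPrimeCore_map_equiv p e)

theorem quotEquiv_mk {G H : Type*} [Group G] [Group H] [Finite G] (p : ℕ) [Fact p.Prime]
    (e : G ≃* H) (x : G) :
    quotEquiv p e (QuotientGroup.mk' (pPrimeCore p G) x) = QuotientGroup.mk' (pPrimeCore p H) (e x) :=
  rfl

theorem map_mk_map_equiv {G H : Type*} [Group G] [Group H] [Finite G] (p : ℕ) [Fact p.Prime]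
    (e : G ≃* H) (K : Subgroup G) :
    (K.map (e : G →* H)).map (QuotientGroup.mk' (pPrimeCore p H)) =
      (K.map (QuotientGroup.mk' (pPrimeCore p G))).map (quotEquiv p e : _ →* _) := by
  rw [Subgroup.map_map, Subgroup.map_map]
  congr 1

theorem map_symm_map {G H : Type*} [Group G] [Group H] (e : G ≃* H) (K : Subgroup G) :
    (K.map (e : G →* H)).map (e.symm : H →* G) = K := by
  ext x
  constructor
  · rintro ⟨y, ⟨z, hz, rfl⟩, rfl⟩
    simpa using hz
  · intro hx
    exact ⟨e x, ⟨x, hx, rfl⟩, by simp⟩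

theorem map_map_symm {G H : Type*} [Group G] [Group H] (e : G ≃* H) (K : Subgroup H) :
    (K.map (e.symm : H →* G)).map (e : G →* H) = K := by
  have := map_symm_map e.symm K
  simpa using this

theorem isPComponent_map_equiv {G H : Type*} [Group G] [Group H] [Finite G] (p : ℕ)
    [Fact p.Prime] (e : G ≃* H) {K : Subgroup G} (hK : IsPComponent p K) :
    IsPComponent p (K.map (e : G →* H)) := by
  have : Finite H := Finite.of_equiv G e.toEquiv
  obtain ⟨h1, h2, h3⟩ := hK
  refine ⟨Subgroup.IsSubnormal.map (f := (e : G →* H)) e.surjective h1, ?_, ?_⟩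
  · rw [map_mk_map_equiv]
    exact Cfsg.Agent.Lib.Helper29_Local.isComponent_map_mulEquiv (quotEquiv p e) h2
  · intro L hL hLK hLmap
    have hL' : (L.map (e.symm : H →* G)).IsSubnormal :=
      Subgroup.IsSubnormal.map (f := (e.symm : H →* G)) e.symm.surjective hL
    have hle : L.map (e.symm : H →* G) ≤ K := by
      have := Subgroup.map_mono (f := (e.symm : H →* G)) hLK
      rwa [map_symm_map] at this
    have hmap : (L.map (e.symm : H →* G)).map (QuotientGroup.mk' (pPrimeCore p G)) =
        K.map (QuotientGroup.mk' (pPrimeCore p G)) := by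
      rw [map_mk_map_equiv p e.symm L, hLmap, ← map_mk_map_equiv p e.symm, map_symm_map]
    have := h3 _ hL' hle hmap
    rw [← this, map_map_symm]

theorem pLayer_map_le {G H : Type*} [Group G] [Group H] [Finite G] (p : ℕ) [Fact p.Prime]
    (e : G ≃* H) : (pLayer p G).map (e : G →* H) ≤ pLayer p H := by
  unfold pLayer
  rw [Subgroup.map_le_iff_le_comap, sSup_le_iff]
  intro K hK
  rw [← Subgroup.map_le_iff_le_comap]
  exact le_sSup (isPComponent_map_equiv p e hK)

theorem pLayer_map_equiv {G H : Type*} [Group G] [Group H] [Finite G] (p : ℕ) [Fact p.Prime]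
    (e : G ≃* H) : (pLayer p G).map (e : G →* H) = pLayer p H := by
  have : Finite H := Finite.of_equiv G e.toEquiv
  apply le_antisymm (pLayer_map_le p e)
  have h := pLayer_map_le p e.symm
  intro x hx
  refine ⟨e.symm x, h ⟨x, hx, rfl⟩, ?_⟩
  simp

instance pLayer_characteristic (G : Type*) [Group G] [Finite G] (p : ℕ) [Fact p.Prime] :
    (pLayer p G).Characteristic := by
  rw [Subgroup.characteristic_iff_map_le]
  intro ϕ
  exact pLayer_map_le p ϕ

instance pLayer_normal (G : Type*) [Group G] [Finite G] (p : ℕ) [Fact p.Prime] :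
    (pLayer p G).Normal := inferInstance

/-! ### `O_{p',p}` -/

instance pPrimePCore_normal (G : Type*) [Group G] (p : ℕ) : (pPrimePCore p G).Normal := by
  unfold pPrimePCore
  infer_instance

theorem pPrimeCore_le_pPrimePCore (G : Type*) [Group G] (p : ℕ) :
    pPrimeCore p G ≤ pPrimePCore p G := by
  intro x hx
  unfold pPrimePCore
  rw [Subgroup.mem_comap]
  have : QuotientGroup.mk' (pPrimeCore p G) x = 1 := by
    rw [QuotientGroup.mk'_apply, QuotientGroup.eq_one_iff]
    exact hx
  rw [this]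
  exact one_mem _

/-! ### relative cores -/

/-- `O_{p'}(C)` viewed inside the ambient group. -/
def relCore {X : Type*} [Group X] (p : ℕ) (C : Subgroup X) : Subgroup X :=
  (pPrimeCore p C).map C.subtype

theorem relCore_le {X : Type*} [Group X] (p : ℕ) (C : Subgroup X) : relCore p C ≤ C :=
  Subgroup.map_subtype_le _

theorem card_relCore {X : Type*} [Group X] (p : ℕ) (C : Subgroup X) :
    Nat.card (relCore p C) = Nat.card (pPrimeCore p C) :=
  Subgroup.card_map_of_injective C.subtype_injective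

theorem relCore_cj {X : Type*} [Group X] [Finite X] (p : ℕ) [Fact p.Prime] (g : X)
    (C : Subgroup X) : cj g (relCore p C) = relCore p (cj g C) := by
  have h := pPrimeCore_map_equiv p ((MulAut.conj g).subgroupMap C)
  unfold relCore
  change ((pPrimeCore p C).map C.subtype).map (MulAut.conj g).toMonoidHom =
    (pPrimeCore p (C.map ((MulAut.conj g : X ≃* X) : X →* X))).map (Subgroup.subtype _)
  rw [← h, Subgroup.map_map, Subgroup.map_map]
  congr 1

/-! ### conjugating Sylow subgroups of a normal subgroup -/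

open scoped Pointwise in
theorem sylow_conjNormal_map {X : Type*} [Group X] {p : ℕ} (N : Subgroup X) [N.Normal] (g : X)
    (T : Sylow p N) :
    ((MulAut.conjNormal (H := N) g • T : Sylow p N) : Subgroup N).map N.subtype =
      cj g ((T : Subgroup N).map N.subtype) := by
  ext x
  constructor
  · rintro ⟨n, hn, rfl⟩
    rw [Sylow.pointwise_smul_def] at hn
    obtain ⟨t, ht, rfl⟩ := hn
    change g * (t : X) * g⁻¹ ∈ _
    exact conj_mem_cj ⟨t, ht, rfl⟩
  · rintro ⟨y, ⟨t, ht, rfl⟩, rfl⟩
    refine ⟨MulAut.conjNormal (H := N) g t, ?_, rfl⟩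
    rw [Sylow.pointwise_smul_def]
    exact ⟨t, ht, rfl⟩

theorem sylow_exists_cj {X : Type*} [Group X] [Finite X] {p : ℕ} [Fact p.Prime] (N : Subgroup X)
    (T T' : Sylow p N) :
    ∃ n ∈ N, (T' : Subgroup N).map N.subtype = cj n ((T : Subgroup N).map N.subtype) := by
  obtain ⟨n, hn⟩ := MulAction.exists_smul_eq N T T'
  refine ⟨n, n.2, ?_⟩
  rw [← hn]
  ext x
  constructor
  · rintro ⟨m, hm, rfl⟩
    rw [Sylow.smul_def, Sylow.pointwise_smul_def] at hm
    obtain ⟨t, ht, rfl⟩ := hm
    change (n : X) * (t : X) * (n : X)⁻¹ ∈ _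
    exact conj_mem_cj ⟨t, ht, rfl⟩
  · rintro ⟨y, ⟨t, ht, rfl⟩, rfl⟩
    refine ⟨MulAut.conj n t, ?_, rfl⟩
    rw [Sylow.smul_def, Sylow.pointwise_smul_def]
    exact ⟨t, ht, rfl⟩

/-! ### `O_{p',p}` lies in `O_{p'}` times any Sylow `p`-subgroup of a normal subgroup containing it -/

theorem pCore_isPGroup' (G : Type*) [Group G] (p : ℕ) : IsPGroup p (pCore p G) :=
  Sylow.sSup_of_normal _ (fun _ hH => hH.2) (fun _ hH => hH.1)

theorem pPrimePCore_le_sup_sylow {X : Type*} [Group X] [Finite X] (p : ℕ) [Fact p.Prime]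
    (N : Subgroup X) (hN : pPrimePCore p X ≤ N) (T : Sylow p N) :
    pPrimePCore p X ≤ pPrimeCore p X ⊔ (T : Subgroup N).map N.subtype := by
  have hf : Function.Surjective ((QuotientGroup.mk' (pPrimeCore p X)).subgroupMap N) :=
    MonoidHom.subgroupMap_surjective _ N
  have hQp : IsPGroup p ((pCore p (X ⧸ pPrimeCore p X)).subgroupOf
      (N.map (QuotientGroup.mk' (pPrimeCore p X)))) := (pCore_isPGroup' _ p).comap_subtype
  have hQle := hQp.le_sylow_of_normal (T.mapSurjective hf)
  intro r hr
  have hr1 : QuotientGroup.mk' (pPrimeCore p X) r ∈ pCore p (X ⧸ pPrimeCore p X) := hr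
  have hr2 : QuotientGroup.mk' (pPrimeCore p X) r ∈ N.map (QuotientGroup.mk' (pPrimeCore p X)) :=
    Subgroup.mem_map_of_mem _ (hN hr)
  have hr3 : (⟨QuotientGroup.mk' (pPrimeCore p X) r, hr2⟩ :
      N.map (QuotientGroup.mk' (pPrimeCore p X))) ∈ (T.mapSurjective hf : Subgroup _) := by
    apply hQle
    rw [Subgroup.mem_subgroupOf]
    exact hr1
  rw [Sylow.coe_mapSurjective] at hr3
  obtain ⟨t, ht, htr⟩ := hr3
  have htr' : QuotientGroup.mk' (pPrimeCore p X) (t : X) = QuotientGroup.mk' (pPrimeCore p X) r :=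
    congrArg Subtype.val htr
  have hker : (t : X)⁻¹ * r ∈ pPrimeCore p X := by
    rw [QuotientGroup.mk'_apply, QuotientGroup.mk'_apply, QuotientGroup.eq] at htr'
    exact htr'
  have : r = (t : X) * ((t : X)⁻¹ * r) := by group
  rw [this]
  exact mul_mem (Subgroup.mem_sup_right ⟨t, ht, rfl⟩) (Subgroup.mem_sup_left hker)

theorem cj_eq_of_centralizes {G : Type*} [Group G] {t : G} {D : Subgroup G}
    (h : ∀ d ∈ D, t * d * t⁻¹ = d) : cj t D = D := by
  ext x
  rw [mem_cj]
  constructor
  · intro hx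
    have := h _ hx
    have h2 : t * (t⁻¹ * x * t) * t⁻¹ = x := by group
    rw [h2] at this
    rw [this]; exact hx
  · intro hx
    have := h x hx
    have h2 : t⁻¹ * x * t = x := by
      calc t⁻¹ * x * t = t⁻¹ * (t * x * t⁻¹) * t := by rw [this]
        _ = x := by group
    rw [h2]; exact hx

theorem mem_normalizer_of_cj_eq {G : Type*} [Group G] {g : G} {W : Subgroup G}
    (h : cj g W = W) : g ∈ Subgroup.normalizer (W : Set G) :=
  Subgroup.mem_normalizer_iff_map_conj_eq.mpr h

theorem cj_eq_of_mem_normalizer {G : Type*} [Group G] {g : G} {W : Subgroup G}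
    (h : g ∈ Subgroup.normalizer (W : Set G)) : cj g W = W :=
  Subgroup.mem_normalizer_iff_map_conj_eq.mp h

end Cfsg.Agent.Lib.Helper23_Layer
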