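import Cfsg.Prelude.Def_Balance
import Cfsg.Agent.Lib.Helper29_Local
import Cfsg.Agent.Lib.Helper21_Components
import Cfsg.Agent.Lib.Helper23_Layer
import Mathlib.GroupTheory.Transfer

/-!
Theory of `p`-components (helper23): cores of quotients, subnormal `p'`-subgroups, components of
`X / O_{p'}(X)`, uniqueness of the `p`-component over a component, normalizers of `p`-components.
-/

set_option autoImplicit false

namespace Cfsg.Agent.Lib.Helper23_PComp

open Cfsg
open Cfsg.Agent.Lib.Helper23_Layer

/-! ### general index lemmas -/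

/-- Second isomorphism theorem for indices: `[N : N ⊓ H] = [N ⊔ H : H]` for `N` normal. -/
theorem relIndex_eq_relIndex_sup {G : Type*} [Group G] [Finite G] (H N : Subgroup G) [N.Normal] :
    H.relIndex N = H.relIndex (N ⊔ H) := by
  have h1 : Nat.card ↥(N ⊔ H) = Nat.card N * N.relIndex H := card_sup_eq N H
  have h2 : Nat.card ↥(H ⊓ N) * H.relIndex N = Nat.card N := by
    have := Subgroup.relIndex_mul_relIndex (⊥ : Subgroup G) (H ⊓ N) N bot_le inf_le_right
    rw [Subgroup.relIndex_bot_left, Subgroup.relIndex_bot_left, Subgroup.inf_relIndex_right] at this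
    exact this
  have h3 : Nat.card ↥(H ⊓ N) * N.relIndex H = Nat.card H := by
    have := Subgroup.relIndex_mul_relIndex (⊥ : Subgroup G) (H ⊓ N) H bot_le inf_le_left
    rw [Subgroup.relIndex_bot_left, Subgroup.relIndex_bot_left, Subgroup.inf_relIndex_left] at this
    exact this
  have h4 : Nat.card H * H.relIndex (N ⊔ H) = Nat.card ↥(N ⊔ H) := by
    have := Subgroup.relIndex_mul_relIndex (⊥ : Subgroup G) H (N ⊔ H) bot_le le_sup_right
    rw [Subgroup.relIndex_bot_left, Subgroup.relIndex_bot_left] at this
    exact this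
  have h5 : Nat.card H * H.relIndex N = Nat.card H * H.relIndex (N ⊔ H) := by
    rw [h4, h1, ← h2, ← h3]; ring
  exact Nat.eq_of_mul_eq_mul_left Nat.card_pos h5

/-- `[N : N ⊓ H]` divides `[G : H]` for `N` normal. -/
theorem relIndex_dvd_index_of_normal_right {G : Type*} [Group G] [Finite G] (H N : Subgroup G)
    [N.Normal] : H.relIndex N ∣ H.index := by
  rw [relIndex_eq_relIndex_sup]
  exact Subgroup.relIndex_dvd_index_of_le le_sup_right

/-- If `p ∤ [G : P]` and `S` is subnormal in `G` then `p ∤ [S : S ⊓ P]`. -/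
theorem not_dvd_relIndex_of_subnormal {G : Type*} [Group G] [Finite G] (p : ℕ) (P : Subgroup G)
    (hP : ¬ p ∣ P.index) {S : Subgroup G} (hS : S.IsSubnormal) : ¬ p ∣ P.relIndex S := by
  induction hS with
  | top => rwa [Subgroup.relIndex_top_right]
  | step S S₁ hle _ hN ih =>
    intro hdvd
    apply ih
    have := relIndex_dvd_index_of_normal_right (P.subgroupOf S₁) (S.subgroupOf S₁)
    rw [Subgroup.relIndex_subgroupOf hle] at this
    exact dvd_trans hdvd this

/-! ### perfect groups with a central Sylow subgroup -/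

/-- A finite perfect group whose centre has index prime to `p` has order prime to `p`. -/
theorem not_dvd_card_of_perfect_of_center_index {C : Type*} [Group C] [Finite C] (p : ℕ)
    [Fact p.Prime] (hperf : Group.IsPerfect C) (hZ : ((Subgroup.center C).index).Coprime p) :
    ¬ p ∣ Nat.card C := by
  have hp : p.Prime := Fact.out
  obtain ⟨P⟩ : Nonempty (Sylow p C) := inferInstance
  -- the Sylow subgroup is central
  have hPZ : (P : Subgroup C) ≤ Subgroup.center C := by
    rw [← Subgroup.relIndex_eq_one]
    have h1 : (Subgroup.center C).relIndex P ∣ (Subgroup.center C).index :=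
      Subgroup.relIndex_dvd_index_of_normal _ _
    have h2 : (Subgroup.center C).relIndex P ∣ Nat.card P := Subgroup.relIndex_dvd_card _ _
    obtain ⟨k, hk⟩ := P.isPGroup'.exists_card_eq
    rw [hk] at h2
    obtain ⟨j, _, hj⟩ := (Nat.dvd_prime_pow hp).mp h2
    rw [hj] at h1 ⊢
    rcases Nat.eq_zero_or_pos j with rfl | hjpos
    · simp
    · exfalso
      have : p ∣ (Subgroup.center C).index := dvd_trans (dvd_pow_self p hjpos.ne') h1
      exact (Nat.Prime.coprime_iff_not_dvd hp).mp hZ.symm this
  have hNC : Subgroup.normalizer ((P : Subgroup C) : Set C) ≤ Subgroup.centralizer (P : Set C) := by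
    intro x _
    rw [Subgroup.mem_centralizer_iff]
    intro y hy
    exact (Subgroup.mem_center_iff.mp (hPZ hy) x).symm
  have hker : (MonoidHom.transferSylow P hNC).ker = ⊤ := by
    rw [eq_top_iff, ← hperf.commutator_eq_top, commutator_def, Subgroup.commutator_le]
    intro a _ b _
    rw [MonoidHom.mem_ker, commutatorElement_def, map_mul, map_mul, map_mul, map_inv, map_inv]
    have hc : ∀ u v : P, u * v = v * u := by
      intro u v
      apply Subtype.ext
      have := Subgroup.mem_center_iff.mp (hPZ v.2) (u : C)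
      exact this
    rw [hc (MonoidHom.transferSylow P hNC a) (MonoidHom.transferSylow P hNC b)]
    group
  have := MonoidHom.not_dvd_card_ker_transferSylow P hNC
  rw [hker] at this
  intro hdvd
  apply this
  rw [Subgroup.card_top]
  exact hdvd

/-! ### cores of quotients, subnormal `p'`-subgroups -/

theorem orderOf_dvd_card_subgroup {G : Type*} [Group G] {S : Subgroup G} {x : G} (hx : x ∈ S) :
    orderOf x ∣ Nat.card S := by
  have := orderOf_dvd_natCard (⟨x, hx⟩ : S)
  rwa [Subgroup.orderOf_mk] at this

/-- `O_{p'}(X / O_{p'}(X)) = 1`. -/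
theorem pPrimeCore_quotient_eq_bot (X : Type*) [Group X] [Finite X] (p : ℕ) [Fact p.Prime] :
    pPrimeCore p (X ⧸ pPrimeCore p X) = ⊥ := by
  have hp : p.Prime := Fact.out
  have hM : (Nat.card ((pPrimeCore p (X ⧸ pPrimeCore p X)).comap
      (QuotientGroup.mk' (pPrimeCore p X)))).Coprime p := by
    rw [Nat.coprime_comm, Nat.Prime.coprime_iff_not_dvd hp]
    intro hdvd
    obtain ⟨x, hx⟩ := exists_prime_orderOf_dvd_card' p hdvd
    have hx1 : QuotientGroup.mk' (pPrimeCore p X) (x : X) ∈ pPrimeCore p (X ⧸ pPrimeCore p X) := x.2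
    have hxp : (x : X) ^ p = 1 := by
      have : x ^ p = 1 := by
        have h := pow_orderOf_eq_one x
        rwa [hx] at h
      exact congrArg Subtype.val this
    have h1 : orderOf (QuotientGroup.mk' (pPrimeCore p X) (x : X)) ∣ p := by
      apply orderOf_dvd_of_pow_eq_one
      rw [← map_pow, hxp, map_one]
    have h2 := orderOf_dvd_card_subgroup hx1
    have h3 : orderOf (QuotientGroup.mk' (pPrimeCore p X) (x : X)) = 1 :=
      Nat.eq_one_of_dvd_coprimes (pPrimeCore_coprime p).symm h1 h2
    rw [orderOf_eq_one_iff, QuotientGroup.mk'_apply, QuotientGroup.eq_one_iff] at h3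
    have h4 := orderOf_dvd_card_subgroup h3
    rw [Subgroup.orderOf_coe, hx] at h4
    exact (Nat.Prime.coprime_iff_not_dvd hp).mp (pPrimeCore_coprime (G := X) p).symm h4
  have hle := le_pPrimeCore (inferInstance : ((pPrimeCore p (X ⧸ pPrimeCore p X)).comap
      (QuotientGroup.mk' (pPrimeCore p X))).Normal) hM
  rw [eq_bot_iff]
  intro y hy
  obtain ⟨x, rfl⟩ := QuotientGroup.mk'_surjective (pPrimeCore p X) y
  have : x ∈ pPrimeCore p X := hle hy
  rw [Subgroup.mem_bot, QuotientGroup.mk'_apply, QuotientGroup.eq_one_iff]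
  exact this

/-- A subnormal subgroup of order prime to `p` lies in `O_{p'}`. -/
theorem subnormal_coprime_le_pPrimeCore {G : Type*} [Group G] [Finite G] (p : ℕ) [Fact p.Prime]
    {S : Subgroup G} (hS : S.IsSubnormal) (hc : (Nat.card S).Coprime p) : S ≤ pPrimeCore p G := by
  have key : ∀ S : Subgroup G, S.IsSubnormal → ∀ T : Subgroup G, T ≤ S → (T.subgroupOf S).Normal →
      (Nat.card T).Coprime p → T ≤ pPrimeCore p G := by
    intro S hS
    induction hS with
    | top =>
      intro T hT hTn hTc
      have : T.Normal := by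
        rw [Subgroup.normal_subgroupOf_iff_le_normalizer hT, top_le_iff,
          Subgroup.normalizer_eq_top_iff] at hTn
        exact hTn
      exact le_pPrimeCore this hTc
    | step S S₁ hle _ hN ih =>
      intro T hT hTn hTc
      have hTR : T ≤ relCore p S := by
        have h1 : T.subgroupOf S ≤ pPrimeCore p ↥S := by
          apply le_pPrimeCore hTn
          rw [Nat.card_congr (Subgroup.subgroupOfEquivOfLe hT).toEquiv]
          exact hTc
        intro t ht
        exact ⟨⟨t, hT ht⟩, h1 (Subgroup.mem_subgroupOf.mpr ht), rfl⟩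
      have hRS₁ : relCore p S ≤ S₁ := (relCore_le p S).trans hle
      have hRn : ((relCore p S).subgroupOf S₁).Normal := by
        rw [Subgroup.normal_subgroupOf_iff_le_normalizer hRS₁]
        intro g hg
        apply mem_normalizer_of_cj_eq
        rw [relCore_cj]
        have hgS : cj g S = S := by
          apply cj_eq_of_mem_normalizer
          rw [Subgroup.normal_subgroupOf_iff_le_normalizer hle] at hN
          exact hN hg
        rw [hgS]
      have hRc : (Nat.card (relCore p S)).Coprime p := by
        rw [card_relCore]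
        exact pPrimeCore_coprime p
      exact hTR.trans (ih _ hRS₁ hRn hRc)
  exact key S hS S le_rfl (by rw [Subgroup.subgroupOf_self]; infer_instance) hc

/-! ### components of a group with trivial `p'`-core -/

theorem component_dvd_card {Q : Type*} [Group Q] [Finite Q] (p : ℕ) [Fact p.Prime]
    (hQ : pPrimeCore p Q = ⊥) {C : Subgroup Q} (hC : IsComponent C) : p ∣ Nat.card C := by
  have hp : p.Prime := Fact.out
  by_contra hnd
  have hc : (Nat.card C).Coprime p := by
    rw [Nat.coprime_comm, Nat.Prime.coprime_iff_not_dvd hp]; exact hnd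
  have hle := subnormal_coprime_le_pPrimeCore p hC.1 hc
  rw [hQ, le_bot_iff] at hle
  have hnt := Cfsg.Agent.Lib.Helper29_Local.IsQuasisimple.nontrivial hC.2
  rw [hle] at hnt
  exact not_subsingleton (↥(⊥ : Subgroup Q)) inferInstance

theorem component_no_normal_coprime_index {Q : Type*} [Group Q] [Finite Q] (p : ℕ) [Fact p.Prime]
    (hQ : pPrimeCore p Q = ⊥) {C : Subgroup Q} (hC : IsComponent C) (M : Subgroup C) [M.Normal]
    (hM : (M.index).Coprime p) : M = ⊤ := by
  rcases Cfsg.Agent.Lib.Helper21_Components.IsQuasisimple.normal_eq_top_or_le_center hC.2 M with h | h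
  · exact h
  · exfalso
    have h1 : ((Subgroup.center C).index).Coprime p :=
      Nat.Coprime.coprime_dvd_left (Subgroup.index_dvd_of_le h) hM
    exact not_dvd_card_of_perfect_of_center_index p hC.2.1 h1 (component_dvd_card p hQ hC)

/-! ### basic properties of `p`-components -/

/-- S1273 (core): a normal subgroup of a `p`-component of index prime to `p` is everything. -/
theorem pcomp_eq_of_normal_coprime {X : Type*} [Group X] [Finite X] (p : ℕ) [Fact p.Prime]
    {K : Subgroup X} (hK : IsPComponent p K) {N : Subgroup X} (hNK : N ≤ K)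
    (hNn : (N.subgroupOf K).Normal) (hidx : (N.relIndex K).Coprime p) : N = K := by
  obtain ⟨hsn, hcomp, hmin⟩ := hK
  have hNsn : N.IsSubnormal := Subgroup.IsSubnormal.trans hNK hNn.isSubnormal hsn
  apply hmin N hNsn hNK
  apply le_antisymm (Subgroup.map_mono hNK)
  have hf : Function.Surjective ((QuotientGroup.mk' (pPrimeCore p X)).subgroupMap K) :=
    MonoidHom.subgroupMap_surjective _ K
  have hMn : ((N.subgroupOf K).map ((QuotientGroup.mk' (pPrimeCore p X)).subgroupMap K)).Normal :=
    hNn.map _ hf
  have hMi : (((N.subgroupOf K).map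
      ((QuotientGroup.mk' (pPrimeCore p X)).subgroupMap K)).index).Coprime p :=
    Nat.Coprime.coprime_dvd_left (Subgroup.index_map_dvd _ hf) hidx
  have hMtop := component_no_normal_coprime_index p (pPrimeCore_quotient_eq_bot X p) hcomp _ hMi
  intro c hc
  have : (⟨c, hc⟩ : K.map (QuotientGroup.mk' (pPrimeCore p X))) ∈
      (N.subgroupOf K).map ((QuotientGroup.mk' (pPrimeCore p X)).subgroupMap K) := by
    rw [hMtop]; exact Subgroup.mem_top _
  obtain ⟨n, hn, hnc⟩ := this
  refine ⟨(n : X), Subgroup.mem_subgroupOf.mp hn, ?_⟩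
  exact congrArg Subtype.val hnc

/-- A `p`-component is perfect. -/
theorem pcomp_perfect {X : Type*} [Group X] [Finite X] (p : ℕ) [Fact p.Prime]
    {K : Subgroup X} (hK : IsPComponent p K) : ⁅K, K⁆ = K := by
  obtain ⟨hsn, hcomp, hmin⟩ := hK
  have hle : ⁅K, K⁆ ≤ K := by
    rw [Subgroup.commutator_le]
    intro g₁ h₁ g₂ h₂
    exact mul_mem (mul_mem (mul_mem h₁ h₂) (inv_mem h₁)) (inv_mem h₂)
  have hn : (⁅K, K⁆.subgroupOf K).Normal := by
    rw [Subgroup.normal_subgroupOf_iff_le_normalizer hle]
    intro g hg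
    apply mem_normalizer_of_cj_eq
    have hgK : cj g K = K := cj_eq_of_mem_normalizer (Subgroup.le_normalizer hg)
    rw [cj, Subgroup.map_commutator]
    rw [show Subgroup.map (MulAut.conj g).toMonoidHom K = K from hgK]
  have hsub : ⁅K, K⁆.IsSubnormal := Subgroup.IsSubnormal.trans hle hn.isSubnormal hsn
  apply hmin _ hsub hle
  rw [Subgroup.map_commutator]
  exact Cfsg.Agent.Lib.Helper21_Components.IsComponent.commutator_self hcomp

/-- The order of a `p`-component is divisible by `p`. -/
theorem pcomp_dvd_card {X : Type*} [Group X] [Finite X] (p : ℕ) [Fact p.Prime]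
    {K : Subgroup X} (hK : IsPComponent p K) : p ∣ Nat.card K := by
  have h1 := component_dvd_card p (pPrimeCore_quotient_eq_bot X p) hK.2.1
  exact dvd_trans h1 (Subgroup.card_map_dvd _ _)

/-! ### uniqueness of the `p`-component over a component -/

theorem relIndex_sup_of_le_normalizer {G : Type*} [Group G] (S B : Subgroup G)
    (hB : B ≤ Subgroup.normalizer (S : Set G)) : S.relIndex (B ⊔ S) = S.relIndex B := by
  have : (S.subgroupOf B).Normal := Subgroup.normal_subgroupOf_of_le_normalizer hB
  have : (S.subgroupOf (B ⊔ S)).Normal := Subgroup.normal_subgroupOf_sup_of_le_normalizer hB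
  have e := QuotientGroup.quotientInfEquivProdNormalizerQuotient B S hB
  exact (Nat.card_congr e.toEquiv).symm

theorem relIndex_dvd_card_of_le_sup {G : Type*} [Group G] (S B K : Subgroup G)
    (hB : B ≤ Subgroup.normalizer (S : Set G)) (hK : K ≤ B ⊔ S) : S.relIndex K ∣ Nat.card B := by
  have hn : (S.subgroupOf (B ⊔ S)).Normal := Subgroup.normal_subgroupOf_sup_of_le_normalizer hB
  have h1 := Subgroup.relIndex_dvd_index_of_normal (S.subgroupOf (B ⊔ S)) (K.subgroupOf (B ⊔ S))
  rw [Subgroup.relIndex_subgroupOf hK] at h1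
  have h2 : (S.subgroupOf (B ⊔ S)).index = S.relIndex B := relIndex_sup_of_le_normalizer S B hB
  rw [h2] at h1
  exact dvd_trans h1 (Subgroup.relIndex_dvd_card _ _)

theorem le_sup_pPrimeCore_of_map_le {X : Type*} [Group X] (p : ℕ) {K₁ K₂ : Subgroup X}
    (h : K₂.map (QuotientGroup.mk' (pPrimeCore p X)) ≤ K₁.map (QuotientGroup.mk' (pPrimeCore p X))) :
    K₂ ≤ K₁ ⊔ pPrimeCore p X := by
  have h1 : K₂ ≤ (K₂.map (QuotientGroup.mk' (pPrimeCore p X))).comap
      (QuotientGroup.mk' (pPrimeCore p X)) := Subgroup.le_comap_map _ _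
  have h2 := Subgroup.comap_mono (f := QuotientGroup.mk' (pPrimeCore p X)) h
  have h3 : (K₁.map (QuotientGroup.mk' (pPrimeCore p X))).comap
      (QuotientGroup.mk' (pPrimeCore p X)) = K₁ ⊔ pPrimeCore p X := by
    rw [Subgroup.comap_map_eq, QuotientGroup.ker_mk']
  rw [h3] at h2
  exact h1.trans h2

/-- Two `p`-components with the same image modulo `O_{p'}` are equal. -/
theorem pcomp_unique {X : Type*} [Group X] [Finite X] (p : ℕ) [Fact p.Prime]
    {K₁ K₂ : Subgroup X} (h₁ : IsPComponent p K₁) (h₂ : IsPComponent p K₂)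
    (himg : K₁.map (QuotientGroup.mk' (pPrimeCore p X)) =
      K₂.map (QuotientGroup.mk' (pPrimeCore p X))) : K₁ = K₂ := by
  have hK₂ : K₂ ≤ K₁ ⊔ pPrimeCore p X := le_sup_pPrimeCore_of_map_le p himg.ge
  have claim : ∀ S : Subgroup X, S.IsSubnormal → K₁ ≤ S → K₂ ≤ S := by
    intro S hS
    induction hS with
    | top => intro _; exact le_top
    | step S S₁ hle _ hN ih =>
      intro hK₁S
      have hK₂S₁ : K₂ ≤ S₁ := ih (hK₁S.trans hle)
      have hS₁n : S₁ ≤ Subgroup.normalizer (S : Set X) :=
        (Subgroup.normal_subgroupOf_iff_le_normalizer hle).mp hN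
      have hBn : pPrimeCore p X ⊓ S₁ ≤ Subgroup.normalizer (S : Set X) := inf_le_right.trans hS₁n
      have hK₂le : K₂ ≤ (pPrimeCore p X ⊓ S₁) ⊔ S := by
        intro x hx
        have hx1 : x ∈ S ⊔ pPrimeCore p X := (sup_le_sup_right hK₁S _) (hK₂ hx)
        rw [← SetLike.mem_coe, Subgroup.mul_normal] at hx1
        obtain ⟨s, hs, o, ho, rfl⟩ := Set.mem_mul.mp hx1
        have ho' : o ∈ S₁ := by
          have : o = s⁻¹ * (s * o) := by group
          rw [this]
          exact mul_mem (inv_mem (hle hs)) (hK₂S₁ hx)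
        exact mul_mem (Subgroup.mem_sup_right hs)
          (Subgroup.mem_sup_left (Subgroup.mem_inf.mpr ⟨ho, ho'⟩))
      have hdvd : S.relIndex K₂ ∣ Nat.card (pPrimeCore p X) :=
        dvd_trans (relIndex_dvd_card_of_le_sup S _ K₂ hBn hK₂le)
          (Subgroup.card_dvd_of_le inf_le_left)
      have hcop : ((S ⊓ K₂).relIndex K₂).Coprime p := by
        rw [Subgroup.inf_relIndex_right]
        exact Nat.Coprime.coprime_dvd_left hdvd (pPrimeCore_coprime p)
      have hnorm : ((S ⊓ K₂).subgroupOf K₂).Normal := by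
        rw [Subgroup.inf_subgroupOf_right]
        exact Subgroup.normal_subgroupOf_of_le_normalizer (hK₂S₁.trans hS₁n)
      have := pcomp_eq_of_normal_coprime p h₂ inf_le_right hnorm hcop
      rw [← this]
      exact inf_le_left
  have hle : K₂ ≤ K₁ := claim K₁ h₁.1 le_rfl
  exact (h₁.2.2 K₂ h₂.1 hle himg.symm).symm

/-! ### normalizers of `p`-components -/

theorem cj_eq_of_mem {G : Type*} [Group G] {g : G} {A : Subgroup G} (hg : g ∈ A) : cj g A = A := by
  ext x
  rw [mem_cj]
  constructor
  · intro h
    have : x = g * (g⁻¹ * x * g) * g⁻¹ := by group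
    rw [this]
    exact mul_mem (mul_mem hg h) (inv_mem hg)
  · intro h
    exact mul_mem (mul_mem (inv_mem hg) h) hg

theorem card_cj {G : Type*} [Group G] (g : G) (A : Subgroup G) : Nat.card ↥(cj g A) = Nat.card A :=
  Subgroup.card_map_of_injective (MulAut.conj g).injective

theorem map_cj {G H : Type*} [Group G] [Group H] (f : G →* H) (g : G) (A : Subgroup G) :
    (cj g A).map f = cj (f g) (A.map f) := by
  rw [cj, cj, Subgroup.map_map, Subgroup.map_map]
  congr 1
  ext x
  simp [MulAut.conj_apply]

/-- If the image of `g` normalizes the image of a `p`-component `K`, then `g` normalizes `K`. -/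
theorem pcomp_cj_eq {X : Type*} [Group X] [Finite X] (p : ℕ) [Fact p.Prime] {K : Subgroup X}
    (hK : IsPComponent p K) (g : X)
    (h : cj (QuotientGroup.mk' (pPrimeCore p X) g) (K.map (QuotientGroup.mk' (pPrimeCore p X))) =
      K.map (QuotientGroup.mk' (pPrimeCore p X))) : cj g K = K := by
  have h1 : IsPComponent p (cj g K) := isPComponent_map_equiv p (MulAut.conj g) hK
  apply pcomp_unique p h1 hK
  rw [map_cj, h]

/-- `p`-components normalize each other. -/
theorem pcomp_le_normalizer {X : Type*} [Group X] [Finite X] (p : ℕ) [Fact p.Prime]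
    {J K : Subgroup X} (hJ : IsPComponent p J) (hK : IsPComponent p K) :
    J ≤ Subgroup.normalizer (K : Set X) := by
  intro g hg
  apply mem_normalizer_of_cj_eq
  apply pcomp_cj_eq p hK
  have hgJ : QuotientGroup.mk' (pPrimeCore p X) g ∈ J.map (QuotientGroup.mk' (pPrimeCore p X)) :=
    Subgroup.mem_map_of_mem _ hg
  rcases Cfsg.Agent.Lib.Helper21_Components.IsComponent.le_or_commutator_eq_bot hJ.2.1 hK.2.1.1
    with h | h
  · exact cj_eq_of_mem (h hgJ)
  · rw [Subgroup.commutator_eq_bot_iff_le_centralizer] at h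
    apply cj_eq_of_centralizes
    intro k hk
    have := h hgJ
    rw [Subgroup.mem_centralizer_iff] at this
    rw [← this k hk]; group

/-- The `p`-layer normalizes every `p`-component (S1274). -/
theorem pLayer_le_normalizer {X : Type*} [Group X] [Finite X] (p : ℕ) [Fact p.Prime]
    {K : Subgroup X} (hK : IsPComponent p K) :
    pLayer p X ≤ Subgroup.normalizer (K : Set X) := by
  unfold pLayer
  rw [sSup_le_iff]
  intro J hJ
  exact pcomp_le_normalizer p hJ hK

theorem pPrimeCore_le_normalizer {X : Type*} [Group X] [Finite X] (p : ℕ) [Fact p.Prime]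
    {K : Subgroup X} (hK : IsPComponent p K) :
    pPrimeCore p X ≤ Subgroup.normalizer (K : Set X) := by
  intro g hg
  apply mem_normalizer_of_cj_eq
  apply pcomp_cj_eq p hK
  have : QuotientGroup.mk' (pPrimeCore p X) g = 1 := by
    rw [QuotientGroup.mk'_apply, QuotientGroup.eq_one_iff]; exact hg
  rw [this]
  exact cj_eq_of_mem (one_mem _)

/-- The centralizer of a Sylow `p`-subgroup of a subgroup `N` containing the `p`-component `K`
normalizes `K`. -/
theorem centralizer_sylow_le_normalizer {X : Type*} [Group X] [Finite X] (p : ℕ) [Fact p.Prime]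
    {K : Subgroup X} (hK : IsPComponent p K) (N : Subgroup X) (hKN : K ≤ N) (T : Sylow p N) :
    Subgroup.centralizer (((T : Subgroup N).map N.subtype : Subgroup X) : Set X) ≤
      Subgroup.normalizer (K : Set X) := by
  intro d hd
  apply mem_normalizer_of_cj_eq
  apply pcomp_cj_eq p hK
  have hcomp' : IsComponent (cj (QuotientGroup.mk' (pPrimeCore p X) d)
      (K.map (QuotientGroup.mk' (pPrimeCore p X)))) :=
    Cfsg.Agent.Lib.Helper29_Local.isComponent_map_mulEquiv
      (MulAut.conj (QuotientGroup.mk' (pPrimeCore p X) d)) hK.2.1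
  rcases Cfsg.Agent.Lib.Helper21_Components.IsComponent.le_or_commutator_eq_bot hcomp' hK.2.1.1
    with h | h
  · exact Subgroup.eq_of_le_of_card_ge h (by rw [card_cj])
  · exfalso
    rw [Subgroup.commutator_eq_bot_iff_le_centralizer] at h
    -- index of `T ∩ K` in `K` is prime to `p`
    have h1 : ¬ p ∣ ((T : Subgroup N).map N.subtype).relIndex K := by
      have h2 := not_dvd_relIndex_of_subnormal p (T : Subgroup N) T.not_dvd_index
        (hK.1.subgroupOf (K := N))
      have h3 : (T : Subgroup N) = ((T : Subgroup N).map N.subtype).subgroupOf N := by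
        rw [Subgroup.subgroupOf, Subgroup.comap_map_eq_self_of_injective N.subtype_injective]
      rw [h3, Subgroup.relIndex_subgroupOf hKN] at h2
      exact h2
    have hf : Function.Surjective ((QuotientGroup.mk' (pPrimeCore p X)).subgroupMap K) :=
      MonoidHom.subgroupMap_surjective _ K
    have hMle : ((((T : Subgroup N).map N.subtype) ⊓ K).subgroupOf K).map
        ((QuotientGroup.mk' (pPrimeCore p X)).subgroupMap K) ≤
        Subgroup.center ↥(K.map (QuotientGroup.mk' (pPrimeCore p X))) := by
      rintro m ⟨x, hx, rfl⟩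
      rw [SetLike.mem_coe, Subgroup.mem_subgroupOf] at hx
      obtain ⟨hxT, _⟩ := Subgroup.mem_inf.mp hx
      rw [Subgroup.mem_center_iff]
      intro c
      apply Subtype.ext
      change (c : X ⧸ pPrimeCore p X) * QuotientGroup.mk' (pPrimeCore p X) (x : X) =
        QuotientGroup.mk' (pPrimeCore p X) (x : X) * (c : X ⧸ pPrimeCore p X)
      have hdx : d * (x : X) * d⁻¹ = (x : X) := by
        rw [Subgroup.mem_centralizer_iff] at hd
        rw [← hd _ hxT]; group
      have hx' : QuotientGroup.mk' (pPrimeCore p X) (x : X) ∈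
          cj (QuotientGroup.mk' (pPrimeCore p X) d) (K.map (QuotientGroup.mk' (pPrimeCore p X))) := by
        have : QuotientGroup.mk' (pPrimeCore p X) (x : X) =
            QuotientGroup.mk' (pPrimeCore p X) d * QuotientGroup.mk' (pPrimeCore p X) (x : X) *
              (QuotientGroup.mk' (pPrimeCore p X) d)⁻¹ := by
          rw [← map_inv, ← map_mul, ← map_mul, hdx]
        rw [this]
        exact conj_mem_cj (Subgroup.mem_map_of_mem _ x.2)
      have := h hx'
      rw [Subgroup.mem_centralizer_iff] at this
      exact this _ c.2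
    have hidx : ((Subgroup.center ↥(K.map (QuotientGroup.mk' (pPrimeCore p X)))).index).Coprime p := by
      have hp : p.Prime := Fact.out
      rw [Nat.coprime_comm, Nat.Prime.coprime_iff_not_dvd hp]
      intro hdvd
      apply h1
      have h4 := dvd_trans hdvd (Subgroup.index_dvd_of_le hMle)
      have h5 := dvd_trans h4 (Subgroup.index_map_dvd _ hf)
      have h6 : ((((T : Subgroup N).map N.subtype) ⊓ K).subgroupOf K).index =
          ((T : Subgroup N).map N.subtype).relIndex K := by
        rw [Subgroup.inf_subgroupOf_right]; rfl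
      rw [h6] at h5
      exact h5
    exact not_dvd_card_of_perfect_of_center_index p hK.2.1.2.1 hidx
      (component_dvd_card p (pPrimeCore_quotient_eq_bot X p) hK.2.1)

/-! ### existence of the `p`-component over a component, image of the `p`-layer -/

theorem exists_pcomp_over {X : Type*} [Group X] [Finite X] (p : ℕ) [Fact p.Prime]
    {C : Subgroup (X ⧸ pPrimeCore p X)} (hC : IsComponent C) :
    ∃ K : Subgroup X, IsPComponent p K ∧ K.map (QuotientGroup.mk' (pPrimeCore p X)) = C := by
  have hex : ∃ H : Subgroup X, H.IsSubnormal ∧ H.map (QuotientGroup.mk' (pPrimeCore p X)) = C :=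
    ⟨C.comap (QuotientGroup.mk' (pPrimeCore p X)), hC.1.comap _,
      Subgroup.map_comap_eq_self_of_surjective (QuotientGroup.mk'_surjective _) C⟩
  obtain ⟨K, hK⟩ := exists_minimal_of_wellFoundedLT
    (fun H : Subgroup X => H.IsSubnormal ∧ H.map (QuotientGroup.mk' (pPrimeCore p X)) = C) hex
  rw [minimal_iff] at hK
  obtain ⟨⟨hKsn, hKmap⟩, hKmin⟩ := hK
  refine ⟨K, ⟨hKsn, by rw [hKmap]; exact hC, ?_⟩, hKmap⟩
  intro H hH hHK hHmap
  exact (hKmin ⟨hH, hHmap.trans hKmap⟩ hHK).symm

theorem pLayer_map_eq_layer {X : Type*} [Group X] [Finite X] (p : ℕ) [Fact p.Prime] :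
    (pLayer p X).map (QuotientGroup.mk' (pPrimeCore p X)) = layer (X ⧸ pPrimeCore p X) := by
  apply le_antisymm
  · unfold pLayer
    rw [Subgroup.map_le_iff_le_comap, sSup_le_iff]
    intro K hK
    rw [← Subgroup.map_le_iff_le_comap]
    exact le_sSup hK.2.1
  · unfold layer
    rw [sSup_le_iff]
    intro C hC
    obtain ⟨K, hK, hKC⟩ := exists_pcomp_over p hC
    rw [← hKC]
    exact Subgroup.map_mono (le_sSup hK)

end Cfsg.Agent.Lib.Helper23_PComp
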