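import Cfsg.Agent.Lib.Helper21_Fitting

/-!
The generalized Fitting subgroup: subnormal nilpotent subgroups lie in `F(G)`, and `C_G(F*(G)) ≤ F*(G)`.
-/

set_option autoImplicit false
open Cfsg
open scoped commutatorElement

namespace Cfsg.Agent.Lib.Helper21_FStar

open Cfsg.Agent.Lib.Helper21_Components Cfsg.Agent.Lib.Helper21_Fitting

universe u

/-- A subnormal nilpotent subgroup lies in the Fitting subgroup (induction on the group order). -/
theorem le_fittingSubgroup_of_isSubnormal_aux : ∀ (n : ℕ) (G : Type u) [Group G] [Finite G],
    Nat.card G = n → ∀ S : Subgroup G, S.IsSubnormal → Group.IsNilpotent ↥S →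
      S ≤ fittingSubgroup G := by
  intro n
  induction n using Nat.strong_induction_on with
  | _ n ih =>
    intro G _ _ hn S hS hnil
    by_cases hStop : S = ⊤
    · subst hStop
      exact le_sSup ⟨inferInstance, hnil⟩
    · obtain ⟨N, hNn, hSN, hNlt⟩ := hS.exists_normal_and_le_and_lt_top_of_ne hStop
      have hc : Nat.card ↥N < n := hn ▸ card_lt_of_ne_top hNlt.ne
      have hnil' : Group.IsNilpotent ↥(S.subgroupOf N) :=
        isNilpotent_of_mulEquiv (Subgroup.subgroupOfEquivOfLe hSN).symm hnil
      have h1 := ih _ hc ↥N rfl (S.subgroupOf N) hS.subgroupOf hnil'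
      have h2 := Subgroup.map_mono (f := N.subtype) h1
      rw [Subgroup.map_subgroupOf_eq_of_le hSN] at h2
      exact h2.trans (map_fittingSubgroup_subtype_le N)

/-- A subnormal nilpotent subgroup of a finite group lies in the Fitting subgroup. -/
theorem le_fittingSubgroup_of_isSubnormal {G : Type u} [Group G] [Finite G] {S : Subgroup G}
    (hS : S.IsSubnormal) (hnil : Group.IsNilpotent ↥S) : S ≤ fittingSubgroup G :=
  le_fittingSubgroup_of_isSubnormal_aux _ G rfl S hS hnil


/-- Every subnormal subgroup of `C_G(F*(G))` lies in `F*(G)`. -/
theorem le_generalizedFitting_of_subnormal_aux {G : Type u} [Group G] [Finite G] :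
    ∀ (n : ℕ) (S : Subgroup G), Nat.card ↥S = n → S.IsSubnormal →
      S ≤ Subgroup.centralizer (generalizedFittingSubgroup G : Set G) →
      S ≤ generalizedFittingSubgroup G := by
  intro n
  induction n using Nat.strong_induction_on with
  | _ n ih =>
    intro S hn hS hSH
    -- proper relatively normal subgroups of `S` are central in `S`
    have hP : ∀ T : Subgroup G, T ≤ S → (T.subgroupOf S).Normal → T ≠ S →
        T ≤ Subgroup.centralizer (S : Set G) := by
      intro T hTS hTn hne
      have hTsn : T.IsSubnormal := Subgroup.IsSubnormal.trans hTS hTn.isSubnormal hS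
      have hlt : Nat.card ↥T < n := by
        rw [← hn]
        have hle := Subgroup.card_le_of_le hTS
        rcases hle.lt_or_eq with h | h
        · exact h
        · exfalso
          apply hne
          have : T.subgroupOf S = ⊤ := by
            apply Subgroup.eq_top_of_card_eq
            rw [Nat.card_congr (Subgroup.subgroupOfEquivOfLe hTS).toEquiv]
            exact h
          rw [Subgroup.subgroupOf_eq_top] at this
          exact le_antisymm hTS this
      have hTF := ih _ hlt T rfl hTsn (hTS.trans hSH)
      intro t ht
      rw [Subgroup.mem_centralizer_iff]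
      intro s hs
      exact (Subgroup.mem_centralizer_iff.mp (hSH hs) t (hTF ht)).symm
    by_cases hperf : ⁅S, S⁆ = S
    · -- `S` is perfect; then `S` is quasisimple, hence a component
      by_cases hbot : S = ⊥
      · rw [hbot]; exact bot_le
      have hq : IsQuasisimple ↥S := by
        refine ⟨Subgroup.isPerfect_iff.mpr hperf, ?_⟩
        have hnt : Nontrivial (↥S ⧸ Subgroup.center ↥S) := by
          by_contra hnt
          rw [not_nontrivial_iff_subsingleton] at hnt
          replace hnt := QuotientGroup.subgroup_eq_top_of_subsingleton _ hnt
          -- then `S` is commutative, so `[S,S] = ⊥`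
          apply hbot
          rw [← hperf, Subgroup.commutator_eq_bot_iff_le_centralizer]
          intro a ha
          rw [Subgroup.mem_centralizer_iff]
          intro b hb
          have : (⟨a, ha⟩ : ↥S) ∈ Subgroup.center ↥S := hnt ▸ Subgroup.mem_top _
          exact congrArg Subtype.val (Subgroup.mem_center_iff.mp this ⟨b, hb⟩)
        refine { toNontrivial := hnt, eq_bot_or_eq_top_of_normal := ?_ }
        intro Nb hNb
        set T' : Subgroup ↥S := Nb.comap (QuotientGroup.mk' (Subgroup.center ↥S)) with hT'
        have hT'n : T'.Normal := hNb.comap _
        have hmap : T'.map (QuotientGroup.mk' (Subgroup.center ↥S)) = Nb :=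
          Subgroup.map_comap_eq_self_of_surjective (QuotientGroup.mk'_surjective _) Nb
        by_cases htop : T' = ⊤
        · right
          rw [← hmap, htop]
          exact Subgroup.map_top_of_surjective _ (QuotientGroup.mk'_surjective _)
        · left
          have hTS : T'.map S.subtype ≤ S := Subgroup.map_subtype_le T'
          have hsub : (T'.map S.subtype).subgroupOf S = T' := by
            rw [Subgroup.subgroupOf, Subgroup.comap_map_eq_self_of_injective S.subtype_injective]
          have hne : T'.map S.subtype ≠ S := by
            intro h
            apply htop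
            rw [← hsub, h, Subgroup.subgroupOf_self]
          have hcent := hP (T'.map S.subtype) hTS (hsub.symm ▸ hT'n) hne
          have hle : T' ≤ Subgroup.center ↥S := by
            intro t ht
            rw [Subgroup.mem_center_iff]
            intro s
            apply Subtype.ext
            have := hcent (Subgroup.mem_map_of_mem S.subtype ht)
            exact Subgroup.mem_centralizer_iff.mp this s s.2
          rw [← hmap, eq_bot_iff]
          refine (Subgroup.map_mono hle).trans ?_
          rw [le_bot_iff, Subgroup.map_eq_bot_iff, QuotientGroup.ker_mk']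
      have hcomp : IsComponent S := ⟨hS, hq⟩
      exact (Cfsg.Agent.Lib.Helper29_Local.IsComponent.le_layer hcomp).trans le_sup_left
    · -- `[S,S]` is a proper normal subgroup, so it is central and `S` is nilpotent
      have hle : ⁅S, S⁆ ≤ S := commutator_self_le S
      have hn' : ((⁅S, S⁆ : Subgroup G).subgroupOf S).Normal := by
        rw [Subgroup.normal_subgroupOf_iff_le_normalizer hle]
        exact Subgroup.le_normalizer.trans (normalizer_le_normalizer_commutator S)
      have hcent := hP ⁅S, S⁆ hle hn' hperf
      have h2 : ⁅⁅S, S⁆, S⁆ = ⊥ := by
        rw [Subgroup.commutator_eq_bot_iff_le_centralizer]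
        exact hcent
      have hnil := isNilpotent_of_commutator_commutator_eq_bot S h2
      exact (le_fittingSubgroup_of_isSubnormal hS hnil).trans le_sup_right

/-- Aschbacher 31.13: `C_G(F*(G)) ≤ F*(G)`. -/
theorem centralizer_generalizedFitting_le {G : Type u} [Group G] [Finite G] :
    Subgroup.centralizer (generalizedFittingSubgroup G : Set G) ≤ generalizedFittingSubgroup G := by
  have hn : (generalizedFittingSubgroup G).Normal :=
    Cfsg.Agent.Lib.Helper29_Local.generalizedFittingSubgroup_normal G
  have hcn : (Subgroup.centralizer (generalizedFittingSubgroup G : Set G)).Normal :=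
    Subgroup.normal_centralizer
  exact le_generalizedFitting_of_subnormal_aux _ _ rfl hcn.isSubnormal le_rfl

end Cfsg.Agent.Lib.Helper21_FStar
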