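import Cfsg.Agent.Lib.Helper23_PComp
import Cfsg.Agent.Lib.Helper21_FStar
import Cfsg.Agent.Lib.Helper1_Cores

/-!
# `p`-constraint (helper23)

`IsPConstrained p X` is equivalent to `C_{X̄}(O_p(X̄)) ≤ O_p(X̄)` for `X̄ = X / O_{p'}(X)`, and to the
vanishing of the `p`-layer.
-/

set_option autoImplicit false

namespace Cfsg.Agent.Lib.Helper23_PConstrained

open Cfsg Cfsg.Agent.Lib.Helper23_Layer Cfsg.Agent.Lib.Helper23_PComp

/-- `O_{p',p}(X)` maps onto `O_p(X / O_{p'}(X))`. -/
theorem pPrimePCore_map (X : Type*) [Group X] (p : ℕ) :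
    (pPrimePCore p X).map (QuotientGroup.mk' (pPrimeCore p X)) = pCore p (X ⧸ pPrimeCore p X) := by
  unfold pPrimePCore
  exact Subgroup.map_comap_eq_self_of_surjective (QuotientGroup.mk'_surjective _) _

theorem mem_pPrimePCore_iff {X : Type*} [Group X] (p : ℕ) (x : X) :
    x ∈ pPrimePCore p X ↔ QuotientGroup.mk' (pPrimeCore p X) x ∈ pCore p (X ⧸ pPrimeCore p X) := by
  unfold pPrimePCore
  exact Subgroup.mem_comap

/-- The image of a Sylow `p`-subgroup of `O_{p',p}(X)` in `X / O_{p'}(X)` is `O_p(X / O_{p'}(X))`. -/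
theorem sylow_pPrimePCore_map {X : Type*} [Group X] [Finite X] (p : ℕ) [Fact p.Prime]
    (P : Sylow p ↥(pPrimePCore p X)) :
    ((P : Subgroup ↥(pPrimePCore p X)).map (pPrimePCore p X).subtype).map
      (QuotientGroup.mk' (pPrimeCore p X)) = pCore p (X ⧸ pPrimeCore p X) := by
  apply le_antisymm
  · rw [← pPrimePCore_map]
    exact Subgroup.map_mono (Subgroup.map_subtype_le _)
  · rw [← pPrimePCore_map]
    have h := pPrimePCore_le_sup_sylow p (pPrimePCore p X) le_rfl P
    refine (Subgroup.map_mono h).trans ?_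
    rw [Subgroup.map_sup, QuotientGroup.map_mk'_self, bot_sup_eq]

/-- `O_{p'}(X)` meets every `p`-subgroup trivially. -/
theorem pPrimeCore_inf_eq_bot {X : Type*} [Group X] [Finite X] (p : ℕ) [Fact p.Prime]
    {R : Subgroup X} (hR : IsPGroup p R) : pPrimeCore p X ⊓ R = ⊥ := by
  apply Disjoint.eq_bot
  apply Subgroup.disjoint_of_coprime_natCard
  obtain ⟨n, hn⟩ := IsPGroup.iff_card.mp hR
  rw [hn]
  exact Nat.Coprime.pow_right n (pPrimeCore_coprime p)

/-- Key equivalence: `X` is `p`-constrained iff `O_p(X̄)` is self-centralizing in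
`X̄ = X / O_{p'}(X)`. -/
theorem isPConstrained_iff_centralizer_pCore_le {X : Type*} [Group X] [Finite X] (p : ℕ)
    [Fact p.Prime] :
    IsPConstrained p X ↔
      Subgroup.centralizer (pCore p (X ⧸ pPrimeCore p X) : Set (X ⧸ pPrimeCore p X)) ≤
        pCore p (X ⧸ pPrimeCore p X) := by
  constructor
  · intro hc
    obtain ⟨P⟩ : Nonempty (Sylow p ↥(pPrimePCore p X)) := inferInstance
    have hcP := hc P
    have hPmap := sylow_pPrimePCore_map p P
    set P' : Subgroup X := (P : Subgroup ↥(pPrimePCore p X)).map (pPrimePCore p X).subtype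
      with hP'
    have hP'p : IsPGroup p P' := by
      rw [hP']
      exact P.2.map _
    have hinf := pPrimeCore_inf_eq_bot p hP'p
    intro xbar hxbar
    obtain ⟨x, rfl⟩ := QuotientGroup.mk'_surjective (pPrimeCore p X) xbar
    rw [← mem_pPrimePCore_iff]
    -- Sylow conjugacy in `M = O_{p',p}(X)`
    have h1 := sylow_conjNormal_map (pPrimePCore p X) x P
    obtain ⟨m, hm, h2⟩ := sylow_exists_cj (pPrimePCore p X) P
      (MulAut.conjNormal (H := pPrimePCore p X) x • P)
    rw [h1] at h2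
    -- decompose `m = o * t`
    have hm' : m ∈ pPrimeCore p X ⊔ P' := pPrimePCore_le_sup_sylow p (pPrimePCore p X) le_rfl P hm
    rw [← SetLike.mem_coe, Subgroup.normal_mul, Set.mem_mul] at hm'
    obtain ⟨o, ho, t, ht, rfl⟩ := hm'
    -- `y = o⁻¹ x` normalizes `P'`
    have hnorm : ∀ z ∈ P', o⁻¹ * x * z * (o⁻¹ * x)⁻¹ ∈ P' := by
      intro z hz
      have hz1 : x * z * x⁻¹ ∈ cj x P' := conj_mem_cj hz
      rw [h2, mem_cj] at hz1
      have hz2 := mul_mem (mul_mem ht hz1) (inv_mem ht)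
      have : t * ((o * t)⁻¹ * (x * z * x⁻¹) * (o * t)) * t⁻¹ = o⁻¹ * x * z * (o⁻¹ * x)⁻¹ := by
        group
      rwa [this] at hz2
    -- `y` centralizes `P'`
    have hcent : o⁻¹ * x ∈ Subgroup.centralizer (P' : Set X) := by
      rw [Subgroup.mem_centralizer_iff]
      intro z hz
      have hc1 : o⁻¹ * x * z * (o⁻¹ * x)⁻¹ * z⁻¹ ∈ P' := mul_mem (hnorm z hz) (inv_mem hz)
      have hc2 : o⁻¹ * x * z * (o⁻¹ * x)⁻¹ * z⁻¹ ∈ pPrimeCore p X := by
        rw [← QuotientGroup.eq_one_iff, ← QuotientGroup.mk'_apply]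
        have ho1 : QuotientGroup.mk' (pPrimeCore p X) o = 1 := by
          rw [QuotientGroup.mk'_apply, QuotientGroup.eq_one_iff]; exact ho
        have hzQ : QuotientGroup.mk' (pPrimeCore p X) z ∈ pCore p (X ⧸ pPrimeCore p X) := by
          rw [← hPmap]
          exact Subgroup.mem_map_of_mem _ hz
        have hcomm := Subgroup.mem_centralizer_iff.mp hxbar _ hzQ
        simp only [map_mul, map_inv, ho1, inv_one, one_mul]
        rw [← hcomm]
        group
      have hc3 : o⁻¹ * x * z * (o⁻¹ * x)⁻¹ * z⁻¹ ∈ pPrimeCore p X ⊓ P' :=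
        Subgroup.mem_inf.mpr ⟨hc2, hc1⟩
      rw [hinf, Subgroup.mem_bot] at hc3
      have : o⁻¹ * x * z = (o⁻¹ * x * z * (o⁻¹ * x)⁻¹ * z⁻¹) * (z * (o⁻¹ * x)) := by group
      rw [this, hc3, one_mul]
    have hyM : o⁻¹ * x ∈ pPrimePCore p X := hcP hcent
    have : x = o * (o⁻¹ * x) := by group
    rw [this]
    exact mul_mem (pPrimeCore_le_pPrimePCore X p ho) hyM
  · intro hc P x hx
    rw [mem_pPrimePCore_iff]
    apply hc
    rw [Subgroup.mem_centralizer_iff]
    intro ybar hybar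
    rw [← sylow_pPrimePCore_map p P] at hybar
    obtain ⟨z, hz, rfl⟩ := hybar
    have := Subgroup.mem_centralizer_iff.mp hx z hz
    rw [← map_mul, ← map_mul, this]

/-- In `X̄ = X / O_{p'}(X)` the Fitting subgroup is `O_p(X̄)`. -/
theorem fittingSubgroup_quotient_le_pCore (X : Type*) [Group X] [Finite X] (p : ℕ) [Fact p.Prime] :
    fittingSubgroup (X ⧸ pPrimeCore p X) ≤ pCore p (X ⧸ pPrimeCore p X) := by
  rw [Cfsg.Agent.Lib.Helper1_Cores.fittingSubgroup_eq_iSup_pCore]
  refine iSup_le (fun q => ?_)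
  by_cases hq : (q : ℕ) = p
  · rw [hq]
  · have : Fact (q : ℕ).Prime := ⟨q.2⟩
    have h1 : pCore (q : ℕ) (X ⧸ pPrimeCore p X) ≤ pPrimeCore p (X ⧸ pPrimeCore p X) :=
      le_pPrimeCore inferInstance (Cfsg.Agent.Lib.Helper1_Cores.pCore_card_coprime hq)
    rw [pPrimeCore_quotient_eq_bot] at h1
    exact h1.trans bot_le

/-- `L_{p'}(X) = 1` iff `E(X / O_{p'}(X)) = 1`. -/
theorem pLayer_eq_bot_iff (X : Type*) [Group X] [Finite X] (p : ℕ) [Fact p.Prime] :
    pLayer p X = ⊥ ↔ layer (X ⧸ pPrimeCore p X) = ⊥ := by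
  constructor
  · intro h
    rw [← pLayer_map_eq_layer, h, Subgroup.map_bot]
  · intro h
    unfold pLayer
    rw [sSup_eq_bot]
    intro K hK
    exfalso
    have hK' : IsPComponent p K := hK
    have hle : K.map (QuotientGroup.mk' (pPrimeCore p X)) ≤ layer (X ⧸ pPrimeCore p X) :=
      le_sSup hK'.2.1
    rw [h] at hle
    exact Cfsg.Agent.Lib.Helper21_Components.IsComponent.not_le_of_isSolvable hK'.2.1
      (H := ⊥) inferInstance hle

/-- A finite group is `p`-constrained iff its `p`-layer is trivial. -/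
theorem isPConstrained_iff_pLayer_eq_bot (X : Type*) [Group X] [Finite X] (p : ℕ) [Fact p.Prime] :
    IsPConstrained p X ↔ pLayer p X = ⊥ := by
  rw [isPConstrained_iff_centralizer_pCore_le, pLayer_eq_bot_iff]
  constructor
  · intro hc
    unfold layer
    rw [sSup_eq_bot]
    intro C hC
    exfalso
    have hC' : IsComponent C := hC
    have hsolv : Group.IsSolvable ↥(pCore p (X ⧸ pPrimeCore p X)) := by
      have : Group.IsNilpotent ↥(pCore p (X ⧸ pPrimeCore p X)) :=
        (pCore_isPGroup' (X ⧸ pPrimeCore p X) p).isNilpotent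
      infer_instance
    have hcomm := Cfsg.Agent.Lib.Helper21_Components.IsComponent.commutator_eq_bot_of_isSolvable
      hC' hsolv (by rw [Subgroup.normalizer_eq_top]; exact le_top)
    rw [Subgroup.commutator_eq_bot_iff_le_centralizer] at hcomm
    exact Cfsg.Agent.Lib.Helper21_Components.IsComponent.not_le_of_isSolvable hC' hsolv
      (hcomm.trans hc)
  · intro hl
    have hF : generalizedFittingSubgroup (X ⧸ pPrimeCore p X) ≤ pCore p (X ⧸ pPrimeCore p X) := by
      unfold generalizedFittingSubgroup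
      rw [hl, bot_sup_eq]
      exact fittingSubgroup_quotient_le_pCore X p
    exact (Subgroup.centralizer_le hF).trans
      (Cfsg.Agent.Lib.Helper21_FStar.centralizer_generalizedFitting_le.trans hF)

end Cfsg.Agent.Lib.Helper23_PConstrained
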