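import Mathlib.GroupTheory.Sylow
import Mathlib.GroupTheory.Nilpotent
import Mathlib.GroupTheory.IndexNormal
import Mathlib.GroupTheory.SpecificGroups.Cyclic
import Mathlib.GroupTheory.Commutator.Basic

/-!
# Coprime action on nilpotent groups and `p`-groups (elementwise, inside an ambient group)

Everything is stated for a subgroup `H` of an ambient group `G` and an element `a : G`
normalizing `H`.
-/

set_option autoImplicit false

namespace Cfsg.Agent.Lib.Helper24_Coprime

/-- Iterating a conjugation: if `a * h * a⁻¹ = z * h` and `a` commutes with `z`,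
then `a ^ m * h * (a ^ m)⁻¹ = z ^ m * h`. -/
theorem conj_pow_eq {G : Type*} [Group G] (a h z : G) (hz : a * z = z * a)
    (hah : a * h * a⁻¹ = z * h) (m : ℕ) : a ^ m * h * (a ^ m)⁻¹ = z ^ m * h := by
  induction m with
  | zero => simp
  | succ m ih =>
    have hzm : a * z ^ m = z ^ m * a := by
      have : Commute a z := hz
      exact (this.pow_right m).eq
    calc a ^ (m + 1) * h * (a ^ (m + 1))⁻¹
        = a * (a ^ m * h * (a ^ m)⁻¹) * a⁻¹ := by
          rw [pow_succ', mul_inv_rev]; group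
      _ = a * (z ^ m * h) * a⁻¹ := by rw [ih]
      _ = (a * z ^ m) * h * a⁻¹ := by group
      _ = z ^ m * (a * h * a⁻¹) := by rw [hzm]; group
      _ = z ^ m * (z * h) := by rw [hah]
      _ = z ^ (m + 1) * h := by rw [pow_succ]; group

/-- If `a x a⁻¹ = z x`, `a` commutes with `z`, and `z ^ k = 1` with `k` coprime to the order of `a`,
then `a` commutes with `x`. -/
theorem commute_of_coprime_step {G : Type*} [Group G] (a x z : G) (hz : a * z = z * a)
    (hax : a * x * a⁻¹ = z * x) (k : ℕ) (hzk : z ^ k = 1) (hcop : (orderOf a).Coprime k) :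
    a * x = x * a := by
  have hpow := conj_pow_eq a x z hz hax (orderOf a)
  rw [pow_orderOf_eq_one] at hpow
  simp only [one_mul, inv_one, mul_one] at hpow
  have hzpow : z ^ orderOf a = 1 := by
    have : z ^ orderOf a * x = 1 * x := by rw [← hpow, one_mul]
    exact mul_right_cancel this
  have hord1 : orderOf z ∣ orderOf a := orderOf_dvd_of_pow_eq_one hzpow
  have hord2 : orderOf z ∣ k := orderOf_dvd_of_pow_eq_one hzk
  have : orderOf z = 1 := Nat.eq_one_of_dvd_coprimes hcop hord1 hord2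
  have hz1 : z = 1 := orderOf_eq_one_iff.mp this
  rw [hz1, one_mul] at hax
  calc a * x = a * x * a⁻¹ * a := by group
    _ = x * a := by rw [hax]

/-- Variant: the commutator `z = a x a⁻¹ x⁻¹` is given implicitly. -/
theorem commute_of_coprime_commutator {G : Type*} [Group G] (a x : G)
    (hz : a * (a * x * a⁻¹ * x⁻¹) = (a * x * a⁻¹ * x⁻¹) * a)
    (k : ℕ) (hzk : (a * x * a⁻¹ * x⁻¹) ^ k = 1) (hcop : (orderOf a).Coprime k) :
    a * x = x * a :=
  commute_of_coprime_step a x (a * x * a⁻¹ * x⁻¹) hz (by group) k hzk hcop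

/-- If `a` commutes with `b` and with `x⁻¹ b x`, then `b` commutes with the commutator `[a, x]`. -/
theorem conj_commutator_eq {G : Type*} [Group G] (a b x : G) (h1 : a * b = b * a)
    (h2 : a * (x⁻¹ * b * x) = (x⁻¹ * b * x) * a) :
    b * (a * x * a⁻¹ * x⁻¹) * b⁻¹ = a * x * a⁻¹ * x⁻¹ := by
  have e1 : b * a = a * b := h1.symm
  have e2 : (x⁻¹ * b * x) * a⁻¹ = a⁻¹ * (x⁻¹ * b * x) := by
    have : a⁻¹ * (a * (x⁻¹ * b * x)) * a⁻¹ = a⁻¹ * ((x⁻¹ * b * x) * a) * a⁻¹ := by rw [h2]
    calc (x⁻¹ * b * x) * a⁻¹ = a⁻¹ * (a * (x⁻¹ * b * x)) * a⁻¹ := by group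
      _ = a⁻¹ * ((x⁻¹ * b * x) * a) * a⁻¹ := this
      _ = a⁻¹ * (x⁻¹ * b * x) := by group
  calc b * (a * x * a⁻¹ * x⁻¹) * b⁻¹ = (b * a) * x * a⁻¹ * x⁻¹ * b⁻¹ := by group
    _ = a * b * x * a⁻¹ * x⁻¹ * b⁻¹ := by rw [e1]
    _ = a * x * ((x⁻¹ * b * x) * a⁻¹) * (x⁻¹ * b⁻¹ * x) * x⁻¹ := by group
    _ = a * x * (a⁻¹ * (x⁻¹ * b * x)) * (x⁻¹ * b⁻¹ * x) * x⁻¹ := by rw [e2]
    _ = a * x * a⁻¹ * x⁻¹ := by group

/-- **Thompson-type lemma, elementwise, relative form.** Let `H` be a nilpotent subgroup of `G`,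
`U ≤ H` a finite subgroup normalized by `H`, `a` an element with `a U a⁻¹ ⊆ U` of order coprime to
`|U|`, and `B ⊆ H` a set of elements centralized by `a` such that every element of `U` centralizing
`B` is centralized by `a`. Then `a` centralizes `U`. (With `H = U ⋊ P` this is Thompson's
`P × Q` lemma.) -/
theorem centralizes_of_nilpotent' {G : Type*} [Group G] (H U : Subgroup G) [Finite U]
    (hH : Group.IsNilpotent H) (hUH : U ≤ H) (hHU : ∀ h ∈ H, ∀ u ∈ U, h * u * h⁻¹ ∈ U)
    (a : G) (ha : ∀ x ∈ U, a * x * a⁻¹ ∈ U) (hcop : (orderOf a).Coprime (Nat.card U))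
    (B : Set G) (hBH : B ⊆ H) (haB : ∀ b ∈ B, a * b = b * a)
    (hcen : ∀ x ∈ U, (∀ b ∈ B, x * b = b * x) → a * x = x * a) :
    ∀ x ∈ U, a * x = x * a := by
  have key : ∀ n : ℕ, ∀ x : H, x ∈ Subgroup.upperCentralSeries H n → (x : G) ∈ U →
      a * (x : G) = (x : G) * a := by
    intro n
    induction n with
    | zero =>
      intro x hx _
      rw [Subgroup.upperCentralSeries_zero, Subgroup.mem_bot] at hx
      subst hx; simp
    | succ n ih =>
      intro x hx hxU
      have hxinv : x⁻¹ ∈ Subgroup.upperCentralSeries H (n + 1) := inv_mem hx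
      have hxinv' := Subgroup.mem_upperCentralSeries_succ_iff.mp hxinv
      -- z = a x a⁻¹ x⁻¹ ∈ U
      have haxU : a * (x : G) * a⁻¹ ∈ U := ha (x : G) hxU
      have hzU : a * (x : G) * a⁻¹ * (x : G)⁻¹ ∈ U := U.mul_mem haxU (U.inv_mem hxU)
      -- z commutes with every b ∈ B
      have hzB : ∀ b ∈ B, (a * (x : G) * a⁻¹ * (x : G)⁻¹) * b = b * (a * (x : G) * a⁻¹ * (x : G)⁻¹) := by
        intro b hb
        have hbH : b ∈ H := hBH hb
        have hc := hxinv' ⟨b, hbH⟩
        -- c = x⁻¹ b x b⁻¹ ∈ Z_n ∩ U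
        have hcU : (x : G)⁻¹ * b * x * b⁻¹ ∈ U := by
          have h1 : b * (x : G) * b⁻¹ ∈ U := hHU b hbH x hxU
          have : (x : G)⁻¹ * b * x * b⁻¹ = (x : G)⁻¹ * (b * x * b⁻¹) := by group
          rw [this]; exact U.mul_mem (U.inv_mem hxU) h1
        have hac : a * ((x : G)⁻¹ * b * x * b⁻¹) = ((x : G)⁻¹ * b * x * b⁻¹) * a := by
          have := ih _ hc (by rw [commutatorElement_def]; simpa using hcU)
          rw [commutatorElement_def] at this
          simpa using this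
        have hab := haB b hb
        have h2 : a * ((x : G)⁻¹ * b * x) = ((x : G)⁻¹ * b * x) * a := by
          calc a * ((x : G)⁻¹ * b * x) = (a * ((x : G)⁻¹ * b * x * b⁻¹)) * b := by group
            _ = ((x : G)⁻¹ * b * x * b⁻¹ * a) * b := by rw [hac]
            _ = (x : G)⁻¹ * b * x * b⁻¹ * (a * b) := by group
            _ = (x : G)⁻¹ * b * x * b⁻¹ * (b * a) := by rw [hab]
            _ = ((x : G)⁻¹ * b * x) * a := by group
        have h3 := conj_commutator_eq a b (x : G) hab h2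
        calc (a * (x : G) * a⁻¹ * (x : G)⁻¹) * b
            = (b * (a * (x : G) * a⁻¹ * (x : G)⁻¹) * b⁻¹) * b := by rw [h3]
          _ = b * (a * (x : G) * a⁻¹ * (x : G)⁻¹) := by group
      have hza := hcen _ hzU hzB
      have hzk : (a * (x : G) * a⁻¹ * (x : G)⁻¹) ^ Nat.card U = 1 := by
        have := Subgroup.orderOf_dvd_natCard U hzU
        exact orderOf_dvd_iff_pow_eq_one.mp this
      exact commute_of_coprime_commutator a (x : G) hza (Nat.card U) hzk hcop
  obtain ⟨n, hn⟩ := hH.nilpotent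
  intro x hx
  exact key n ⟨x, hUH hx⟩ (by rw [hn]; exact Subgroup.mem_top _) hx

/-- **Thompson-type lemma, elementwise.** Let `H` be a nilpotent subgroup of `G`, `a` an element
with `a H a⁻¹ ⊆ H` of order coprime to `|H|`, and `B ⊆ H` a set of elements centralized by `a`
such that every element of `H` centralizing `B` is centralized by `a`. Then `a` centralizes `H`. -/
theorem centralizes_of_nilpotent {G : Type*} [Group G] (H : Subgroup G) [Finite H]
    (hH : Group.IsNilpotent H)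
    (a : G) (ha : ∀ x ∈ H, a * x * a⁻¹ ∈ H) (hcop : (orderOf a).Coprime (Nat.card H))
    (B : Set G) (hBH : B ⊆ H) (haB : ∀ b ∈ B, a * b = b * a)
    (hcen : ∀ x ∈ H, (∀ b ∈ B, x * b = b * x) → a * x = x * a) :
    ∀ x ∈ H, a * x = x * a :=
  centralizes_of_nilpotent' H H hH le_rfl
    (fun _ hh _ hu => H.mul_mem (H.mul_mem hh hu) (H.inv_mem hh)) a ha hcop B hBH haB hcen

/-- A nontrivial finite `p`-group has a proper normal subgroup containing all commutators and all
`p`-th powers (for instance any subgroup of index `p`). -/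
theorem exists_proper_normal_comm_pow {P : Type*} [Group P] [Finite P] {p : ℕ} [hp : Fact p.Prime]
    (hP : IsPGroup p P) [Nontrivial P] :
    ∃ N : Subgroup P, N.Normal ∧ N ≠ ⊤ ∧ (∀ x y : P, x * y * x⁻¹ * y⁻¹ ∈ N) ∧ ∀ x : P, x ^ p ∈ N := by
  obtain ⟨n, hn0, hn⟩ := hP.nontrivial_iff_card.mp inferInstance
  obtain ⟨m, rfl⟩ : ∃ m, n = m + 1 := ⟨n - 1, by omega⟩
  have hdvd : p ^ m ∣ Nat.card P := by rw [hn]; exact pow_dvd_pow p (Nat.le_succ m)
  obtain ⟨N, hN⟩ := Sylow.exists_subgroup_card_pow_prime p hdvd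
  have hidx : N.index = p := by
    have h1 := N.card_mul_index
    rw [hN, hn, pow_succ] at h1
    exact Nat.eq_of_mul_eq_mul_left (pow_pos hp.1.pos m) h1
  have hnormal : N.Normal := by
    apply Subgroup.normal_of_index_eq_minFac_card
    rw [hidx, hn, hp.1.pow_minFac (Nat.succ_ne_zero m)]
  refine ⟨N, hnormal, ?_, ?_, ?_⟩
  · intro htop
    rw [htop, Subgroup.index_top] at hidx
    exact hp.1.one_lt.ne hidx
  · intro x y
    have hcard : Nat.card (P ⧸ N) = p := by rw [← Subgroup.index_eq_card]; exact hidx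
    have hcyc : IsCyclic (P ⧸ N) := isCyclic_of_prime_card hcard
    have hcomm : ∀ u v : P ⧸ N, u * v = v * u := by
      intro u v
      obtain ⟨g, hg⟩ := hcyc.exists_generator
      obtain ⟨i, rfl⟩ := Subgroup.mem_zpowers_iff.mp (hg u)
      obtain ⟨j, rfl⟩ := Subgroup.mem_zpowers_iff.mp (hg v)
      rw [← zpow_add, ← zpow_add, add_comm]
    rw [← QuotientGroup.eq_one_iff]
    simp only [QuotientGroup.mk_mul, QuotientGroup.mk_inv]
    rw [hcomm (↑x) (↑y)]
    group
  · intro x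
    have hcard : Nat.card (P ⧸ N) = p := by rw [← Subgroup.index_eq_card]; exact hidx
    rw [← QuotientGroup.eq_one_iff, QuotientGroup.mk_pow, ← hcard]
    exact pow_card_eq_one'

/-- In a group, if `c = v u v⁻¹ u⁻¹` commutes with `u` and `v`, then `v ^ n * u = c ^ n * u * v ^ n`. -/
theorem pow_mul_comm_of_central {G : Type*} [Group G] (u v : G)
    (hcv : (v * u * v⁻¹ * u⁻¹) * v = v * (v * u * v⁻¹ * u⁻¹)) (n : ℕ) :
    v ^ n * u = (v * u * v⁻¹ * u⁻¹) ^ n * u * v ^ n := by
  set c := v * u * v⁻¹ * u⁻¹ with hc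
  have hvu : v * u = c * u * v := by rw [hc]; group
  have hcv' : Commute c v := hcv
  induction n with
  | zero => simp
  | succ n ih =>
    have h1 : Commute (c ^ n) v := hcv'.pow_left n
    calc v ^ (n + 1) * u = v * (v ^ n * u) := by rw [pow_succ']; group
      _ = v * (c ^ n * u * v ^ n) := by rw [ih]
      _ = (v * c ^ n) * u * v ^ n := by group
      _ = (c ^ n * v) * u * v ^ n := by rw [h1.eq]
      _ = c ^ n * (v * u) * v ^ n := by group
      _ = c ^ n * (c * u * v) * v ^ n := by rw [hvu]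
      _ = c ^ (n + 1) * u * v ^ (n + 1) := by rw [pow_succ, pow_succ]; group

/-- Power formula in class two: if `c = v u v⁻¹ u⁻¹` commutes with `u` and `v` then
`(u v) ^ n = u ^ n * v ^ n * c ^ (n choose 2)`. -/
theorem mul_pow_of_central {G : Type*} [Group G] (u v : G)
    (hcu : (v * u * v⁻¹ * u⁻¹) * u = u * (v * u * v⁻¹ * u⁻¹))
    (hcv : (v * u * v⁻¹ * u⁻¹) * v = v * (v * u * v⁻¹ * u⁻¹)) (n : ℕ) :
    (u * v) ^ n = u ^ n * v ^ n * (v * u * v⁻¹ * u⁻¹) ^ (n.choose 2) := by
  have hB1 := pow_mul_comm_of_central u v hcv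
  set c := v * u * v⁻¹ * u⁻¹ with hc
  have hcu' : Commute c u := hcu
  have hcv' : Commute c v := hcv
  induction n with
  | zero => simp
  | succ n ih =>
    have e1 : Commute (c ^ (n.choose 2)) u := hcu'.pow_left _
    have e2 : Commute (c ^ (n.choose 2)) v := hcv'.pow_left _
    have e3 : Commute (c ^ n) u := hcu'.pow_left _
    have e4 : Commute (c ^ n) (u ^ n) := (hcu'.pow_left n).pow_right n
    have hch : (n + 1).choose 2 = n + n.choose 2 := by
      rw [Nat.choose_succ_succ' n 1, Nat.choose_one_right]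
    calc (u * v) ^ (n + 1) = (u * v) ^ n * (u * v) := pow_succ _ _
      _ = u ^ n * v ^ n * c ^ (n.choose 2) * (u * v) := by rw [ih]
      _ = u ^ n * v ^ n * (c ^ (n.choose 2) * u) * v := by group
      _ = u ^ n * v ^ n * (u * c ^ (n.choose 2)) * v := by rw [e1.eq]
      _ = u ^ n * (v ^ n * u) * (c ^ (n.choose 2) * v) := by group
      _ = u ^ n * (c ^ n * u * v ^ n) * (v * c ^ (n.choose 2)) := by rw [hB1 n, e2.eq]
      _ = (u ^ n * c ^ n) * u * v ^ n * v * c ^ (n.choose 2) := by group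
      _ = (c ^ n * u ^ n) * u * v ^ n * v * c ^ (n.choose 2) := by rw [e4.eq]
      _ = c ^ n * (u ^ n * u) * (v ^ n * v) * c ^ (n.choose 2) := by group
      _ = c ^ n * u ^ (n + 1) * v ^ (n + 1) * c ^ (n.choose 2) := by rw [← pow_succ, ← pow_succ]
      _ = u ^ (n + 1) * v ^ (n + 1) * c ^ ((n + 1).choose 2) := by
        have e5 : Commute (c ^ n) (u ^ (n + 1)) := (hcu'.pow_left n).pow_right _
        have e6 : Commute (c ^ n) (v ^ (n + 1)) := (hcv'.pow_left n).pow_right _
        rw [hch]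
        generalize u ^ (n + 1) = U at e5 ⊢
        generalize v ^ (n + 1) = V at e6 ⊢
        calc c ^ n * U * V * c ^ n.choose 2 = (c ^ n * U) * V * c ^ n.choose 2 := by group
          _ = U * (c ^ n * V) * c ^ n.choose 2 := by rw [e5.eq]; group
          _ = U * V * (c ^ n * c ^ n.choose 2) := by rw [e6.eq]; group
          _ = U * V * c ^ (n + n.choose 2) := by rw [← pow_add]

/-- For an odd prime `p`: if `c = v u v⁻¹ u⁻¹` commutes with `u` and `v` and `v ^ p` commutes
with `u`, then `(u v) ^ p = u ^ p * v ^ p`. -/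
theorem mul_pow_prime_of_central {G : Type*} [Group G] (p : ℕ) (hp : p.Prime) (hp2 : p ≠ 2) (u v : G)
    (hcu : (v * u * v⁻¹ * u⁻¹) * u = u * (v * u * v⁻¹ * u⁻¹))
    (hcv : (v * u * v⁻¹ * u⁻¹) * v = v * (v * u * v⁻¹ * u⁻¹))
    (hvp : v ^ p * u = u * v ^ p) :
    (u * v) ^ p = u ^ p * v ^ p := by
  have h1 := pow_mul_comm_of_central u v hcv p
  have hcp : (v * u * v⁻¹ * u⁻¹) ^ p = 1 := by
    rw [hvp] at h1
    have : 1 * (u * v ^ p) = (v * u * v⁻¹ * u⁻¹) ^ p * (u * v ^ p) := by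
      calc 1 * (u * v ^ p) = u * v ^ p := one_mul _
        _ = (v * u * v⁻¹ * u⁻¹) ^ p * u * v ^ p := h1
        _ = (v * u * v⁻¹ * u⁻¹) ^ p * (u * v ^ p) := mul_assoc _ _ _
    exact (mul_right_cancel this).symm
  have h2 := mul_pow_of_central u v hcu hcv p
  have hdvd : p ∣ p.choose 2 := by
    have hodd : Odd p := hp.odd_of_ne_two hp2
    obtain ⟨k, hk⟩ := hodd
    rw [Nat.choose_two_right]
    have : p * (p - 1) / 2 = p * k := by
      have : p - 1 = 2 * k := by omega
      rw [this, ← mul_assoc, mul_comm p 2, mul_assoc, Nat.mul_div_cancel_left _ (by norm_num : 0 < 2)]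
    rw [this]
    exact dvd_mul_right p k
  obtain ⟨k, hk⟩ := hdvd
  rw [h2, hk, pow_mul, hcp, one_pow, mul_one]

/-- **A `p'`-automorphism of a `p`-group (`p` odd) centralizing all elements of order dividing `p`
is trivial** (elementwise form inside an ambient finite group). Here `a` is an element of order
coprime to `p` with `a P a⁻¹ ⊆ P`. -/
theorem centralizes_pgroup_of_centralizes_omega {G : Type*} [Group G] [Finite G] (p : ℕ)
    [hp : Fact p.Prime] (hp2 : p ≠ 2) (a : G) (hap : (orderOf a).Coprime p) :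
    ∀ (P : Subgroup G), IsPGroup p P → (∀ x ∈ P, a * x * a⁻¹ ∈ P) →
      (∀ x ∈ P, x ^ p = 1 → a * x = x * a) → ∀ x ∈ P, a * x = x * a := by
  suffices H : ∀ n : ℕ, ∀ (P : Subgroup G), Nat.card P = n → IsPGroup p P →
      (∀ x ∈ P, a * x * a⁻¹ ∈ P) →
      (∀ x ∈ P, x ^ p = 1 → a * x = x * a) → ∀ x ∈ P, a * x = x * a from
    fun P => H (Nat.card P) P rfl
  intro n
  induction n using Nat.strong_induction_on with
  | _ n ih =>
  intro P hn hP haP hΩ
  subst hn
  -- the induction hypothesis for proper `a`-invariant subgroups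
  have IH : ∀ Q : Subgroup G, Q ≤ P → Q ≠ P → (∀ x ∈ Q, a * x * a⁻¹ ∈ Q) →
      ∀ x ∈ Q, a * x = x * a := by
    intro Q hQP hne hQa
    have hlt : Nat.card Q < Nat.card P := by
      refine lt_of_le_of_ne (Subgroup.card_le_of_le hQP) ?_
      intro heq
      exact hne (Subgroup.eq_of_le_of_card_ge hQP heq.ge)
    exact ih _ hlt Q rfl (hP.to_le hQP) hQa (fun x hx hxp => hΩ x (hQP hx) hxp)
  have hnil : Group.IsNilpotent P := hP.isNilpotent
  have hcopP : (orderOf a).Coprime (Nat.card P) := by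
    obtain ⟨k, hk⟩ := hP.exists_card_eq
    rw [hk]; exact Nat.Coprime.pow_right k hap
  -- the fixed points of `a` and their centralizer in `P`
  set B : Set G := {x | x ∈ P ∧ a * x = x * a} with hB
  set D : Subgroup G := P ⊓ Subgroup.centralizer B with hD
  have hDa : ∀ x ∈ D, a * x * a⁻¹ ∈ D := by
    intro d hd
    refine ⟨haP d hd.1, ?_⟩
    refine Subgroup.mem_centralizer_iff.mpr ?_
    intro b hb
    have hbd : b * d = d * b := Subgroup.mem_centralizer_iff.mp hd.2 b hb
    have hab : a * b = b * a := hb.2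
    have hab' : a⁻¹ * b = b * a⁻¹ := by
      calc a⁻¹ * b = a⁻¹ * (b * a) * a⁻¹ := by group
        _ = a⁻¹ * (a * b) * a⁻¹ := by rw [hab]
        _ = b * a⁻¹ := by group
    calc b * (a * d * a⁻¹) = (b * a) * d * a⁻¹ := by group
      _ = (a * b) * d * a⁻¹ := by rw [hab]
      _ = a * (b * d) * a⁻¹ := by group
      _ = a * (d * b) * a⁻¹ := by rw [hbd]
      _ = a * d * (b * a⁻¹) := by group
      _ = a * d * (a⁻¹ * b) := by rw [hab']
      _ = a * d * a⁻¹ * b := by group
  by_cases hDP : D ≠ P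
  · -- `a` centralizes `D = C_P(C_P(a))`, hence `P`
    have hDc := IH D inf_le_left hDP hDa
    refine centralizes_of_nilpotent P hnil a haP hcopP B (fun x hx => hx.1) (fun b hb => hb.2) ?_
    intro x hx hxB
    refine hDc x ⟨hx, ?_⟩
    refine Subgroup.mem_centralizer_iff.mpr ?_
    intro b hb
    exact (hxB b hb).symm
  · -- every fixed point of `a` in `P` is central in `P`
    rw [not_not] at hDP
    have hcentral : ∀ b ∈ B, ∀ x ∈ P, b * x = x * b := by
      intro b hb x hx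
      have : x ∈ D := by rw [hDP]; exact hx
      exact Subgroup.mem_centralizer_iff.mp this.2 b hb
    by_cases hbot : P = ⊥
    · intro x hx
      rw [hbot, Subgroup.mem_bot] at hx
      subst hx; simp
    have hnt : Nontrivial P := (Subgroup.nontrivial_iff_ne_bot P).mpr hbot
    obtain ⟨N, hNn, hNtop, hNcomm, hNpow⟩ := exists_proper_normal_comm_pow hP
    -- the subgroup generated by commutators and `p`-th powers
    set S : Set G := {g | ∃ x ∈ P, ∃ y ∈ P, g = x * y * x⁻¹ * y⁻¹} ∪ {g | ∃ x ∈ P, g = x ^ p} with hS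
    set Φ : Subgroup G := Subgroup.closure S with hΦ
    have hΦN : Φ ≤ N.map P.subtype := by
      rw [hΦ, Subgroup.closure_le]
      rintro g (⟨x, hx, y, hy, rfl⟩ | ⟨x, hx, rfl⟩)
      · exact ⟨⟨x, hx⟩ * ⟨y, hy⟩ * (⟨x, hx⟩ : P)⁻¹ * (⟨y, hy⟩ : P)⁻¹, hNcomm _ _, by simp⟩
      · exact ⟨(⟨x, hx⟩ : P) ^ p, hNpow _, by simp⟩
    have hΦP : Φ ≤ P := hΦN.trans (Subgroup.map_subtype_le N)
    have hΦne : Φ ≠ P := by
      intro heq
      apply hNtop
      rw [eq_top_iff]
      intro x _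
      have hx : (x : G) ∈ N.map P.subtype := hΦN (by rw [heq]; exact x.2)
      obtain ⟨y, hy, hyx⟩ := hx
      have : y = x := Subtype.ext hyx
      rwa [← this]
    have hSa : ∀ g ∈ S, a * g * a⁻¹ ∈ S := by
      rintro g (⟨x, hx, y, hy, rfl⟩ | ⟨x, hx, rfl⟩)
      · left
        refine ⟨a * x * a⁻¹, haP x hx, a * y * a⁻¹, haP y hy, ?_⟩
        group
      · right
        exact ⟨a * x * a⁻¹, haP x hx, conj_pow.symm⟩
    have hΦa : ∀ g ∈ Φ, a * g * a⁻¹ ∈ Φ := by
      intro g hg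
      induction hg using Subgroup.closure_induction with
      | mem g hg => exact Subgroup.subset_closure (hSa g hg)
      | one => simp
      | mul x y _ _ hx hy =>
        have : a * (x * y) * a⁻¹ = (a * x * a⁻¹) * (a * y * a⁻¹) := by group
        rw [this]; exact Φ.mul_mem hx hy
      | inv x _ hx =>
        have : a * x⁻¹ * a⁻¹ = (a * x * a⁻¹)⁻¹ := by group
        rw [this]; exact Φ.inv_mem hx
    have hΦc := IH Φ hΦP hΦne hΦa
    have hΦB : ∀ g ∈ Φ, g ∈ B := fun g hg => ⟨hΦP hg, hΦc g hg⟩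
    intro x hx
    have huP : a * x * a⁻¹ ∈ P := haP x hx
    have hvP : x⁻¹ ∈ P := P.inv_mem hx
    have hcΦ : x⁻¹ * (a * x * a⁻¹) * x⁻¹⁻¹ * (a * x * a⁻¹)⁻¹ ∈ Φ :=
      Subgroup.subset_closure (Or.inl ⟨x⁻¹, hvP, a * x * a⁻¹, huP, rfl⟩)
    have hvpΦ : x⁻¹ ^ p ∈ Φ := Subgroup.subset_closure (Or.inr ⟨x⁻¹, hvP, rfl⟩)
    have hxpΦ : x ^ p ∈ Φ := Subgroup.subset_closure (Or.inr ⟨x, hx, rfl⟩)
    have hcu := hcentral _ (hΦB _ hcΦ) _ huP
    have hcv := hcentral _ (hΦB _ hcΦ) _ hvP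
    have hvp := hcentral _ (hΦB _ hvpΦ) _ huP
    have hmul := mul_pow_prime_of_central p hp.1 hp2 (a * x * a⁻¹) x⁻¹ hcu hcv hvp
    have hup : (a * x * a⁻¹) ^ p = x ^ p := by
      rw [conj_pow]
      have := hΦc _ hxpΦ
      rw [this]; group
    have hzp : (a * x * a⁻¹ * x⁻¹) ^ p = 1 := by
      rw [hmul, hup, inv_pow, mul_inv_cancel]
    have hzP : a * x * a⁻¹ * x⁻¹ ∈ P := P.mul_mem huP hvP
    have hza := hΩ _ hzP hzp
    exact commute_of_coprime_commutator a x hza p hzp hap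

end Cfsg.Agent.Lib.Helper24_Coprime
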