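import Cfsg.Agent.Lib.Helper49_CharP3
import Cfsg.Agent.Lib.Helper24_Coprime
import Cfsg.Agent.Lib.Helper24_CoprimeAction
import Cfsg.Agent.Lib.Helper23_PConstrained

/-!
# Groups of characteristic `p`: local subgroups (helper23)

* `pxq`: Thompson's `P × Q` lemma, elementwise, for a `p`-group `Q` normalized by a `p`-group `P`;
* `IsCharP.of_local`, `IsCharP.normalizer`: `p`-local subgroups of a group of characteristic `p` have
  characteristic `p`;
* `isCharP_iff_generalizedFitting_eq`: characteristic `p` means `F*(G) = O_p(G)`.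
-/

set_option autoImplicit false

namespace Cfsg.Agent.Lib.Helper23_CharP

open Cfsg Cfsg.Agent.Lib.Helper49_CharP

/-- Thompson's `P × Q` lemma, elementwise: a `p'`-element `x` normalizing the `p`-group `Q`,
centralizing the `p`-group `P` (which normalizes `Q`) and centralizing `C_Q(P)`, centralizes `Q`. -/
theorem pxq {G : Type*} [Group G] [Finite G] {p : ℕ} [Fact p.Prime] (Q P : Subgroup G)
    (hQ : IsPGroup p Q) (hP : IsPGroup p P) (hPQ : P ≤ Subgroup.normalizer (Q : Set G))
    (x : G) (hx : (orderOf x).Coprime p) (hxQ : ∀ q ∈ Q, x * q * x⁻¹ ∈ Q)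
    (hxP : ∀ b ∈ P, x * b = b * x)
    (hcen : ∀ q ∈ Q, (∀ b ∈ P, q * b = b * q) → x * q = q * x) :
    ∀ q ∈ Q, x * q = q * x := by
  have hPQp : IsPGroup p ↥(P ⊔ Q) := IsPGroup.to_sup_of_normal_right' hP hQ hPQ
  have hnil : Group.IsNilpotent ↥(P ⊔ Q) := hPQp.isNilpotent
  have hle : P ⊔ Q ≤ Subgroup.normalizer (Q : Set G) := sup_le hPQ Subgroup.le_normalizer
  obtain ⟨n, hn⟩ := IsPGroup.iff_card.mp hQ
  refine Cfsg.Agent.Lib.Helper24_Coprime.centralizes_of_nilpotent' (P ⊔ Q) Q hnil le_sup_right
    ?_ x hxQ ?_ (P : Set G) ?_ hxP hcen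
  · intro h hh u hu
    exact (Subgroup.mem_normalizer_iff.mp (hle hh) u).mp hu
  · rw [hn]
    exact Nat.Coprime.pow_right n hx
  · intro b hb
    exact (le_sup_left : P ≤ P ⊔ Q) hb

/-- Local subgroups of a group of characteristic `p` have characteristic `p`: if `P` is a
`p`-subgroup, `P ⊴ H` and `C_{O_p(G)}(P) ≤ H`, then `H` has characteristic `p`. -/
theorem IsCharP.of_local {G : Type*} [Group G] [Finite G] {p : ℕ} [Fact p.Prime]
    (hG : IsCharP p G) (P H : Subgroup G) (hP : IsPGroup p P) (hPH : P ≤ H)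
    (hHP : H ≤ Subgroup.normalizer (P : Set G))
    (hCH : pCore p G ⊓ Subgroup.centralizer (P : Set G) ≤ H) : IsCharP p ↥H := by
  have hRn : (pCore p ↥H).Normal := pCoreNormal p ↥H
  have hQn : (pCore p G).Normal := pCoreNormal p G
  have hLn : (Subgroup.centralizer (pCore p ↥H : Set ↥H)).Normal := Subgroup.normal_centralizer
  have hP1 : P.subgroupOf H ≤ pCore p ↥H :=
    le_pCore ((Subgroup.normal_subgroupOf_iff_le_normalizer hPH).mpr hHP) hP.comap_subtype
  have hQ1 : (pCore p G).subgroupOf H ≤ pCore p ↥H :=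
    le_pCore inferInstance (pCore_isPGroup p G).comap_subtype
  have hLp : IsPGroup p ↥(Subgroup.centralizer (pCore p ↥H : Set ↥H)) := by
    apply isPGroup_of_forall_coprime_eq_one
    intro x hx hxo
    have hxo' : (orderOf (x : G)).Coprime p := by rwa [Subgroup.orderOf_coe]
    have hxc : ∀ r : G, ∀ hr : r ∈ H, (⟨r, hr⟩ : ↥H) ∈ pCore p ↥H → (x : G) * r = r * (x : G) := by
      intro r hr hrR
      have := Subgroup.mem_centralizer_iff.mp hx ⟨r, hr⟩ hrR
      exact (congrArg Subtype.val this).symm
    have hcent : ∀ q ∈ pCore p G, (x : G) * q = q * (x : G) := by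
      apply pxq (pCore p G) P (pCore_isPGroup p G) hP
        (by rw [Subgroup.normalizer_eq_top]; exact le_top) (x : G) hxo'
      · intro q hq
        exact hQn.conj_mem q hq _
      · intro b hb
        exact hxc b (hPH hb) (hP1 (by rw [Subgroup.mem_subgroupOf]; exact hb))
      · intro q hq hqP
        have hqC : q ∈ Subgroup.centralizer (P : Set G) := by
          rw [Subgroup.mem_centralizer_iff]
          intro b hb
          exact (hqP b hb).symm
        have hqH : q ∈ H := hCH (Subgroup.mem_inf.mpr ⟨hq, hqC⟩)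
        exact hxc q hqH (hQ1 (by rw [Subgroup.mem_subgroupOf]; exact hq))
    have h1 : (x : G) = 1 := hG.eq_one_of_coprime hxo' (fun q hq => hcent q hq)
    exact Subtype.ext h1
  exact le_pCore hLn hLp

/-- The normalizer of a `p`-subgroup of a group of characteristic `p` has characteristic `p`. -/
theorem IsCharP.normalizer {G : Type*} [Group G] [Finite G] {p : ℕ} [Fact p.Prime]
    (hG : IsCharP p G) (P : Subgroup G) (hP : IsPGroup p P) :
    IsCharP p ↥(Subgroup.normalizer (P : Set G)) :=
  IsCharP.of_local hG P _ hP Subgroup.le_normalizer le_rfl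
    (inf_le_right.trans (Subgroup.centralizer_le_normalizer _))

/-- In a group of characteristic `p` the layer is trivial. -/
theorem IsCharP.layer_eq_bot {G : Type*} [Group G] [Finite G] {p : ℕ} [Fact p.Prime]
    (hG : IsCharP p G) : layer G = ⊥ := by
  unfold layer
  rw [sSup_eq_bot]
  intro C hC
  exfalso
  have hC' : IsComponent C := hC
  have hQn : (pCore p G).Normal := pCoreNormal p G
  have hsolv : Group.IsSolvable ↥(pCore p G) := by
    have : Group.IsNilpotent ↥(pCore p G) := (pCore_isPGroup p G).isNilpotent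
    infer_instance
  have hcomm := Cfsg.Agent.Lib.Helper21_Components.IsComponent.commutator_eq_bot_of_isSolvable
    hC' hsolv (by rw [Subgroup.normalizer_eq_top]; exact le_top)
  rw [Subgroup.commutator_eq_bot_iff_le_centralizer] at hcomm
  exact Cfsg.Agent.Lib.Helper21_Components.IsComponent.not_le_of_isSolvable hC' hsolv
    (hcomm.trans hG)

/-- In a group of characteristic `p` the Fitting subgroup is `O_p(G)`. -/
theorem IsCharP.fittingSubgroup_eq {G : Type*} [Group G] [Finite G] {p : ℕ} [Fact p.Prime]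
    (hG : IsCharP p G) : fittingSubgroup G = pCore p G := by
  apply le_antisymm
  · rw [Cfsg.Agent.Lib.Helper1_Cores.fittingSubgroup_eq_iSup_pCore]
    refine iSup_le (fun q => ?_)
    by_cases hq : (q : ℕ) = p
    · rw [hq]
    · have : Fact (q : ℕ).Prime := ⟨q.2⟩
      have hQn : (pCore p G).Normal := pCoreNormal p G
      have hdisj : Disjoint (pCore (q : ℕ) G) (pCore p G) := by
        apply Subgroup.disjoint_of_coprime_natCard
        obtain ⟨b, hb⟩ := IsPGroup.iff_card.mp (pCore_isPGroup p G)
        rw [hb]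
        exact Nat.Coprime.pow_right b (Cfsg.Agent.Lib.Helper1_Cores.pCore_card_coprime hq)
      have hcomm : ⁅pCore (q : ℕ) G, pCore p G⁆ = ⊥ := by
        have := Subgroup.commutator_le_inf (pCore (q : ℕ) G) (pCore p G)
        rwa [hdisj.eq_bot, le_bot_iff] at this
      rw [Subgroup.commutator_eq_bot_iff_le_centralizer] at hcomm
      have hle : pCore (q : ℕ) G ≤ pCore p G := hcomm.trans hG
      have : pCore (q : ℕ) G ≤ pCore (q : ℕ) G ⊓ pCore p G := le_inf le_rfl hle
      rw [hdisj.eq_bot] at this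
      exact this.trans bot_le
  · exact Cfsg.Agent.Lib.Helper1_Cores.pCore_le_fittingSubgroup p

/-- Characteristic `p` means `F*(G) = O_p(G)`. -/
theorem isCharP_iff_generalizedFitting_eq {G : Type*} [Group G] [Finite G] {p : ℕ} [Fact p.Prime] :
    IsCharP p G ↔ generalizedFittingSubgroup G = pCore p G := by
  constructor
  · intro hG
    unfold generalizedFittingSubgroup
    rw [IsCharP.layer_eq_bot hG, IsCharP.fittingSubgroup_eq hG, bot_sup_eq]
  · intro h
    have := Cfsg.Agent.Lib.Helper21_FStar.centralizer_generalizedFitting_le (G := G)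
    rw [h] at this
    exact this

/-- `L_{p'}(X) = 1` iff `X / O_{p'}(X)` has characteristic `p`. -/
theorem pLayer_eq_bot_iff_isCharP (X : Type*) [Group X] [Finite X] (p : ℕ) [Fact p.Prime] :
    pLayer p X = ⊥ ↔ IsCharP p (X ⧸ pPrimeCore p X) := by
  rw [← Cfsg.Agent.Lib.Helper23_PConstrained.isPConstrained_iff_pLayer_eq_bot,
    Cfsg.Agent.Lib.Helper23_PConstrained.isPConstrained_iff_centralizer_pCore_le]
  rfl

end Cfsg.Agent.Lib.Helper23_CharP
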