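import Mathlib.GroupTheory.Sylow
import Mathlib.GroupTheory.SchurZassenhaus
import Mathlib.GroupTheory.Commutator.Basic
import Mathlib.Algebra.BigOperators.Group.Finset.Basic

set_option autoImplicit false

namespace Cfsg.Agent.Lib.Helper2_Coprime

open Subgroup
open scoped commutatorElement

section Defs

variable {A : Type*} [CommGroup A] {K : Type*} [Group K] (φ : K →* MulAut A)

/-- The commutator subgroup `[A, K]` of the action. -/
def commSub : Subgroup A := closure {x | ∃ (k : K) (b : A), x = φ k b / b}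

/-- The fixed points `C_A(K)` of the action. -/
def fixedSub : Subgroup A where
  carrier := {z | ∀ k, φ k z = z}
  one_mem' := by simp
  mul_mem' := by
    intro a b ha hb k
    simp only [Set.mem_ofPred_eq] at ha hb
    rw [map_mul, ha k, hb k]
  inv_mem' := by
    intro a ha k
    simp only [Set.mem_ofPred_eq] at ha
    rw [map_inv, ha k]

theorem mem_fixedSub {z : A} : z ∈ fixedSub φ ↔ ∀ k, φ k z = z := Iff.rfl

end Defs

section Abstract

variable {A : Type*} [CommGroup A] {K : Type*} [Group K] [Fintype K]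
  (φ : K →* MulAut A)

/-- The averaging (norm) map of an action on an abelian group. -/
noncomputable def avg (a : A) : A := ∏ k : K, φ k a

theorem avg_mul (a b : A) : avg φ (a * b) = avg φ a * avg φ b := by
  simp only [avg, map_mul, Finset.prod_mul_distrib]

theorem avg_one : avg φ (1 : A) = 1 := by
  simp [avg]

theorem avg_inv (a : A) : avg φ a⁻¹ = (avg φ a)⁻¹ := by
  simp only [avg, map_inv, Finset.prod_inv_distrib]

theorem avg_div (a b : A) : avg φ (a / b) = avg φ a / avg φ b := by
  rw [div_eq_mul_inv, avg_mul, avg_inv, div_eq_mul_inv]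

theorem apply_avg (k' : K) (a : A) : φ k' (avg φ a) = avg φ a := by
  simp only [avg, map_prod]
  refine Fintype.prod_equiv (Equiv.mulLeft k') _ _ (fun k => ?_)
  simp [map_mul, MulAut.mul_apply]

theorem avg_apply (k' : K) (a : A) : avg φ (φ k' a) = avg φ a := by
  simp only [avg]
  refine Fintype.prod_equiv (Equiv.mulRight k') _ _ (fun k => ?_)
  simp [map_mul, MulAut.mul_apply]

theorem avg_of_fixed (z : A) (hz : ∀ k, φ k z = z) : avg φ z = z ^ Fintype.card K := by
  simp [avg, hz, Finset.prod_const, Finset.card_univ]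

theorem avg_mem_fixedSub (a : A) : avg φ a ∈ fixedSub φ := fun k => apply_avg φ k a

theorem avg_eq_one_of_mem_commSub {c : A} (hc : c ∈ commSub φ) : avg φ c = 1 := by
  induction hc using closure_induction with
  | mem x hx =>
    obtain ⟨k, b, rfl⟩ := hx
    rw [avg_div, avg_apply, div_self']
  | one => exact avg_one φ
  | mul x y _ _ hx hy => rw [avg_mul, hx, hy, one_mul]
  | inv x _ hx => rw [avg_inv, hx, inv_one]

theorem avg_div_pow_mem_commSub (a : A) : avg φ a / a ^ Fintype.card K ∈ commSub φ := by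
  have : avg φ a / a ^ Fintype.card K = ∏ k : K, (φ k a / a) := by
    rw [Finset.prod_div_distrib, Finset.prod_const, Finset.card_univ]
    rfl
  rw [this]
  exact Subgroup.prod_mem _ (fun k _ => subset_closure ⟨k, a, rfl⟩)

variable (hcop : Nat.Coprime (Fintype.card K) (Nat.card A))
include hcop

theorem commSub_inf_fixedSub : commSub φ ⊓ fixedSub φ = ⊥ := by
  rw [eq_bot_iff]
  rintro z ⟨hzc, hzf⟩
  rw [mem_bot]
  have h1 : z ^ Fintype.card K = 1 := by
    rw [← avg_of_fixed φ z hzf]
    exact avg_eq_one_of_mem_commSub φ hzc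
  have h2 : z ^ Nat.card A = 1 := pow_card_eq_one'
  have h3 : orderOf z ∣ Fintype.card K := orderOf_dvd_of_pow_eq_one h1
  have h4 : orderOf z ∣ Nat.card A := orderOf_dvd_of_pow_eq_one h2
  exact orderOf_eq_one_iff.mp (Nat.eq_one_of_dvd_coprimes hcop h3 h4)

theorem exists_mul_of_coprime (a : A) :
    ∃ c ∈ commSub φ, ∃ z ∈ fixedSub φ, a = c * z := by
  obtain ⟨b, rfl⟩ : ∃ b : A, b ^ Fintype.card K = a :=
    (powCoprime hcop.symm).surjective a
  refine ⟨(avg φ b / b ^ Fintype.card K)⁻¹, inv_mem (avg_div_pow_mem_commSub φ b),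
    avg φ b, avg_mem_fixedSub φ b, ?_⟩
  rw [inv_div, div_mul_cancel]

end Abstract

section Concrete

variable {G : Type*} [Group G]

/-- Conjugation action of a subgroup `K ≤ N_G(A)` on `A`. -/
def conjAut (A K : Subgroup G) (hK : K ≤ normalizer (A : Set G)) : K →* MulAut A where
  toFun k :=
    { toFun := fun a => ⟨k * a * (k : G)⁻¹, (mem_normalizer_iff.mp (hK k.2) a).mp a.2⟩
      invFun := fun a => ⟨(k : G)⁻¹ * a * k, (mem_normalizer_iff''.mp (hK k.2) a).mp a.2⟩
      left_inv := fun a => by ext; simp [mul_assoc]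
      right_inv := fun a => by ext; simp [mul_assoc]
      map_mul' := fun a b => by ext; simp [mul_assoc] }
  map_one' := by ext; simp
  map_mul' := fun k k' => by ext; simp [mul_assoc]

@[simp]
theorem conjAut_apply_coe (A K : Subgroup G) (hK : K ≤ normalizer (A : Set G)) (k : K) (a : A) :
    ((conjAut A K hK k a : A) : G) = k * a * (k : G)⁻¹ := rfl

variable (A K : Subgroup G) [IsMulCommutative A]
  (hK : K ≤ normalizer (A : Set G))
include hK

open scoped IsMulCommutative

theorem coe_mem_commutator_of_mem_commSub {c : A} (hc : c ∈ commSub (conjAut A K hK)) :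
    (c : G) ∈ ⁅A, K⁆ := by
  induction hc using closure_induction with
  | mem x hx =>
    obtain ⟨k, b, rfl⟩ := hx
    rw [commutator_comm]
    have : ((conjAut A K hK k b / b : A) : G) = ⁅(k : G), (b : G)⁆ := by
      rw [div_eq_mul_inv, Subgroup.coe_mul, conjAut_apply_coe, Subgroup.coe_inv,
        commutatorElement_def]
    rw [this]
    exact commutator_mem_commutator k.2 b.2
  | one => exact one_mem _
  | mul x y _ _ hx hy => exact mul_mem hx hy
  | inv x _ hx => exact inv_mem hx

omit [IsMulCommutative A] in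
theorem commutator_le_of_le_normalizer : ⁅A, K⁆ ≤ A := by
  rw [commutator_le]
  intro a ha k hk
  rw [commutatorElement_def]
  have h1 : k * a⁻¹ * k⁻¹ ∈ A := (mem_normalizer_iff.mp (hK hk) a⁻¹).mp (inv_mem ha)
  have := mul_mem ha h1
  simpa [mul_assoc] using this

theorem mem_commSub_of_mem_commutator {x : G} (hx : x ∈ ⁅A, K⁆) :
    ∃ hxA : x ∈ A, (⟨x, hxA⟩ : A) ∈ commSub (conjAut A K hK) := by
  have hle : ⁅A, K⁆ ≤ (commSub (conjAut A K hK)).map A.subtype := by
    rw [commutator_le]
    intro a ha k hk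
    have h1 : (conjAut A K hK ⟨k, hk⟩ ⟨a, ha⟩ / ⟨a, ha⟩ : A) ∈ commSub (conjAut A K hK) :=
      subset_closure ⟨⟨k, hk⟩, ⟨a, ha⟩, rfl⟩
    refine ⟨_, inv_mem h1, ?_⟩
    simp [div_eq_mul_inv, commutatorElement_def, mul_assoc]
  obtain ⟨c, hc, rfl⟩ := hle hx
  exact ⟨c.2, hc⟩

theorem mem_fixedSub_iff (z : A) :
    z ∈ fixedSub (conjAut A K hK) ↔ (z : G) ∈ centralizer (K : Set G) := by
  rw [mem_fixedSub, mem_centralizer_iff]
  constructor
  · intro h k hk
    have := congrArg Subtype.val (h ⟨k, hk⟩)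
    rw [conjAut_apply_coe] at this
    have h2 := congrArg (fun t => t * k) this
    simpa [mul_assoc] using h2
  · intro h k
    ext
    rw [conjAut_apply_coe, h k k.2]
    simp

variable [Finite K] (hcop : Nat.Coprime (Nat.card K) (Nat.card A))
include hcop

/-- Coprime action on an abelian subgroup: `A = [A, K] C_A(K)`. -/
theorem exists_mul_of_coprime_subgroup (a : G) (ha : a ∈ A) :
    ∃ c ∈ ⁅A, K⁆, ∃ z ∈ A ⊓ centralizer (K : Set G), a = c * z := by
  classical
  let _ : Fintype K := Fintype.ofFinite K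
  have hcop' : Nat.Coprime (Fintype.card K) (Nat.card A) := by
    rwa [← Nat.card_eq_fintype_card]
  obtain ⟨c, hc, z, hz, h⟩ := exists_mul_of_coprime (conjAut A K hK) hcop' ⟨a, ha⟩
  refine ⟨c, coe_mem_commutator_of_mem_commSub A K hK hc, z,
    ⟨z.2, (mem_fixedSub_iff A K hK z).mp hz⟩, ?_⟩
  exact congrArg Subtype.val h

/-- Coprime action on an abelian subgroup: `[A, K] ∩ C_A(K) = 1`. -/
theorem commutator_inf_centralizer_eq_bot :
    ⁅A, K⁆ ⊓ (A ⊓ centralizer (K : Set G)) = ⊥ := by
  classical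
  let _ : Fintype K := Fintype.ofFinite K
  have hcop' : Nat.Coprime (Fintype.card K) (Nat.card A) := by
    rwa [← Nat.card_eq_fintype_card]
  rw [eq_bot_iff]
  rintro x ⟨hx1, hx2, hx3⟩
  obtain ⟨hxA, hxc⟩ := mem_commSub_of_mem_commutator A K hK hx1
  have hxf : (⟨x, hxA⟩ : A) ∈ fixedSub (conjAut A K hK) :=
    (mem_fixedSub_iff A K hK _).mpr hx3
  have h := commSub_inf_fixedSub (conjAut A K hK) hcop'
  have h2 : (⟨x, hxA⟩ : A) ∈ commSub (conjAut A K hK) ⊓ fixedSub (conjAut A K hK) :=
    ⟨hxc, hxf⟩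
  rw [h, mem_bot] at h2
  exact congrArg Subtype.val h2

/-- Coprime action on an abelian subgroup: `[A, K] C_A(K) = A`. -/
theorem commutator_sup_centralizer_eq :
    ⁅A, K⁆ ⊔ (A ⊓ centralizer (K : Set G)) = A := by
  apply le_antisymm
  · exact sup_le (commutator_le_of_le_normalizer A K hK) inf_le_left
  · intro a ha
    obtain ⟨c, hc, z, hz, rfl⟩ := exists_mul_of_coprime_subgroup A K hK hcop a ha
    exact mul_mem (mem_sup_left hc) (mem_sup_right hz)

end Concrete

section Relative

variable {G : Type*} [Group G] [Finite G]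

omit [Finite G] in
/-- Schur-Zassenhaus inside a subgroup `M` normalising `A`. -/
theorem exists_complement_of_le_normalizer (A M : Subgroup G) (hAM : A ≤ M)
    (hM : M ≤ normalizer (A : Set G)) (hcop : Nat.Coprime (Nat.card A) (A.relIndex M)) :
    ∃ K : Subgroup G, K ≤ M ∧ A ⊓ K = ⊥ ∧ A ⊔ K = M ∧ Nat.card K = A.relIndex M := by
  have hnorm : (A.subgroupOf M).Normal := (normal_subgroupOf_iff_le_normalizer hAM).mpr hM
  have hcard : Nat.card (A.subgroupOf M) = Nat.card A :=
    Nat.card_congr (subgroupOfEquivOfLe hAM).toEquiv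
  have hcop' : Nat.Coprime (Nat.card (A.subgroupOf M)) (A.subgroupOf M).index := by
    rw [hcard]; exact hcop
  obtain ⟨K', hK'⟩ := exists_right_complement'_of_coprime hcop'
  refine ⟨K'.map M.subtype, map_subtype_le K', ?_, ?_, ?_⟩
  · rw [eq_bot_iff]
    intro x hx
    obtain ⟨hxA, k', hk', rfl⟩ := mem_inf.mp hx
    have h1 : k' ∈ A.subgroupOf M ⊓ K' := mem_inf.mpr ⟨mem_subgroupOf.mpr hxA, hk'⟩
    rw [hK'.disjoint.eq_bot, mem_bot] at h1
    rw [h1]
    exact one_mem _
  · apply le_antisymm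
    · exact sup_le hAM (map_subtype_le K')
    · intro m hm
      have h1 : (⟨m, hm⟩ : M) ∈ A.subgroupOf M ⊔ K' := by
        rw [hK'.sup_eq_top]; exact mem_top _
      obtain ⟨a, ha, k, hk, hak⟩ := mem_sup_of_normal_left.mp h1
      have h2 : m = (a : G) * (k : G) := by
        have := congrArg Subtype.val hak
        simpa using this.symm
      rw [h2]
      exact mul_mem (mem_sup_left (mem_subgroupOf.mp ha)) (mem_sup_right ⟨k, hk, rfl⟩)
  · rw [Nat.card_congr (K'.equivMapOfInjective M.subtype M.subtype_injective).symm.toEquiv]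
    exact hK'.symm.index_eq_card.symm

variable (A M : Subgroup G) [IsMulCommutative A] (hAM : A ≤ M)
  (hM : M ≤ normalizer (A : Set G)) (hcop : Nat.Coprime (Nat.card A) (A.relIndex M))
include hAM hM hcop

omit [Finite G] in
/-- Reduction of the relative situation to a complement `K`. -/
theorem relative_aux :
    ∃ K : Subgroup G, K ≤ normalizer (A : Set G) ∧ Nat.Coprime (Nat.card K) (Nat.card A) ∧
      ⁅A, M⁆ = ⁅A, K⁆ ∧ A ⊓ centralizer (M : Set G) = A ⊓ centralizer (K : Set G) := by
  obtain ⟨K, hKM, hAK, hsup, hcard⟩ := exists_complement_of_le_normalizer A M hAM hM hcop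
  have hK : K ≤ normalizer (A : Set G) := hKM.trans hM
  have hcop' : Nat.Coprime (Nat.card K) (Nat.card A) := by rw [hcard]; exact hcop.symm
  have hcomm : ∀ a ∈ A, ∀ b ∈ A, a * b = b * a := fun a ha b hb => by
    have := mul_comm' (⟨a, ha⟩ : A) ⟨b, hb⟩
    exact congrArg Subtype.val this
  have hdecomp : ∀ g ∈ M, ∃ a ∈ A, ∃ k ∈ K, g = a * k := by
    intro g hg
    rw [← hsup] at hg
    -- use that `K` normalises `A`
    have : ∀ x ∈ A ⊔ K, ∃ a ∈ A, ∃ k ∈ K, x = a * k := by
      intro x hx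
      rw [sup_eq_closure] at hx
      induction hx using closure_induction with
      | mem y hy =>
        rcases hy with hy | hy
        · exact ⟨y, hy, 1, one_mem _, by simp⟩
        · exact ⟨1, one_mem _, y, hy, by simp⟩
      | one => exact ⟨1, one_mem _, 1, one_mem _, by simp⟩
      | mul x y _ _ hx hy =>
        obtain ⟨a, ha, k, hk, rfl⟩ := hx
        obtain ⟨b, hb, l, hl, rfl⟩ := hy
        refine ⟨a * (k * b * k⁻¹), mul_mem ha ((mem_normalizer_iff.mp (hK hk) b).mp hb),
          k * l, mul_mem hk hl, by simp [mul_assoc]⟩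
      | inv x _ hx =>
        obtain ⟨a, ha, k, hk, rfl⟩ := hx
        refine ⟨k⁻¹ * a⁻¹ * k, ?_, k⁻¹, inv_mem hk, by simp [mul_assoc]⟩
        have := (mem_normalizer_iff.mp (hK (inv_mem hk)) a⁻¹).mp (inv_mem ha)
        simpa using this
    exact this g hg
  have hAK_le : ⁅A, K⁆ ≤ A := commutator_le_of_le_normalizer A K hK
  have h1 : ⁅A, M⁆ = ⁅A, K⁆ := by
    apply le_antisymm
    · rw [commutator_le]
      intro a ha g hg
      obtain ⟨a', ha', k, hk, rfl⟩ := hdecomp g hg
      have h2 : ⁅a, k⁆ ∈ ⁅A, K⁆ := commutator_mem_commutator ha hk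
      have h3 : ⁅a, a' * k⁆ = a' * ⁅a, k⁆ * a'⁻¹ := by
        rw [commutatorElement_def, commutatorElement_def]
        calc a * (a' * k) * a⁻¹ * (a' * k)⁻¹ = (a * a') * k * a⁻¹ * k⁻¹ * a'⁻¹ := by
              simp [mul_assoc]
          _ = (a' * a) * k * a⁻¹ * k⁻¹ * a'⁻¹ := by rw [hcomm a ha a' ha']
          _ = a' * (a * k * a⁻¹ * k⁻¹) * a'⁻¹ := by simp [mul_assoc]
      rw [h3, hcomm a' ha' _ (hAK_le h2)]
      simpa using h2
    · exact commutator_mono le_rfl hKM
  have h2 : A ⊓ centralizer (M : Set G) = A ⊓ centralizer (K : Set G) := by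
    apply le_antisymm
    · exact inf_le_inf_left _ (centralizer_le hKM)
    · intro z hz
      obtain ⟨hzA, hzK⟩ := mem_inf.mp hz
      refine mem_inf.mpr ⟨hzA, ?_⟩
      rw [mem_centralizer_iff]
      intro g hg
      obtain ⟨a', ha', k, hk, rfl⟩ := hdecomp g hg
      have hk' : k * z = z * k := mem_centralizer_iff.mp hzK k hk
      calc a' * k * z = a' * (k * z) := by rw [mul_assoc]
        _ = a' * (z * k) := by rw [hk']
        _ = (a' * z) * k := by rw [mul_assoc]
        _ = (z * a') * k := by rw [hcomm a' ha' z hzA]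
        _ = z * (a' * k) := by rw [mul_assoc]
  exact ⟨K, hK, hcop', h1, h2⟩

/-- Relative coprime decomposition of an abelian subgroup `A ⊴ M` of coprime index:
`[A, M] ∩ C_A(M) = 1` and `[A, M] C_A(M) = A`. -/
theorem relative_decomposition :
    ⁅A, M⁆ ⊓ (A ⊓ centralizer (M : Set G)) = ⊥ ∧ ⁅A, M⁆ ⊔ (A ⊓ centralizer (M : Set G)) = A := by
  obtain ⟨K, hK, hcop', h1, h2⟩ := relative_aux A M hAM hM hcop
  rw [h1, h2]
  exact ⟨commutator_inf_centralizer_eq_bot A K hK hcop',
    commutator_sup_centralizer_eq A K hK hcop'⟩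

/-- Element form of the relative coprime decomposition. -/
theorem relative_exists_mul (a : G) (ha : a ∈ A) :
    ∃ c ∈ ⁅A, M⁆, ∃ z ∈ A ⊓ centralizer (M : Set G), a = c * z := by
  obtain ⟨K, hK, hcop', h1, h2⟩ := relative_aux A M hAM hM hcop
  rw [h1, h2]
  exact exists_mul_of_coprime_subgroup A K hK hcop' a ha

end Relative

end Cfsg.Agent.Lib.Helper2_Coprime
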