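import Mathlib
import Cfsg.Prelude.Def_Solvable
import Cfsg.Agent.Lib.Helper1_Cores

/-!
The Fitting subgroup of a finite solvable group contains its centralizer (helper55).
-/

set_option autoImplicit false

namespace Cfsg.Agent.Lib.Helper55_Fitting

open Subgroup
open scoped IsMulCommutative commutatorElement

variable {G : Type*} [Group G]

/-- A group whose commutator subgroup is central is nilpotent. -/
theorem isNilpotent_of_commutator_le_center (h : _root_.commutator G ≤ center G) :
    Group.IsNilpotent G := by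
  apply Group.of_quotient_center_nilpotent
  have : IsMulCommutative (G ⧸ center G) :=
    Subgroup.Normal.quotient_commutative_iff_commutator_le.mpr h
  infer_instance

/-- A subgroup `A` with `⁅A, A⁆ ≤ Z` where `Z` commutes elementwise with `A` is nilpotent. -/
theorem isNilpotent_subgroup_of_commutator_central (A : Subgroup G)
    (h : ∀ a ∈ A, ∀ b ∈ A, ∀ c ∈ A, ⁅a, b⁆ * c = c * ⁅a, b⁆) : Group.IsNilpotent A := by
  apply isNilpotent_of_commutator_le_center
  rw [_root_.commutator_def, Subgroup.commutator_le]
  intro a _ b _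
  rw [Subgroup.mem_center_iff]
  intro c
  apply Subtype.ext
  have := h a a.2 b b.2 c c.2
  simpa [commutatorElement_def] using this.symm

/-- In a finite solvable group, the centralizer of the Fitting subgroup is contained in the
Fitting subgroup. -/
theorem centralizer_fittingSubgroup_le [Finite G] [Group.IsSolvable G] :
    centralizer (Cfsg.fittingSubgroup G : Set G) ≤ Cfsg.fittingSubgroup G := by
  classical
  have hFn : (Cfsg.fittingSubgroup G).Normal := Helper1_Cores.fittingSubgroup_normal
  set F := Cfsg.fittingSubgroup G with hF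
  set C := centralizer (F : Set G) with hC
  have hCn : C.Normal := Subgroup.normal_centralizer
  let D : ℕ → Subgroup G := fun n => (derivedSeries C n).map C.subtype
  have hD0 : D 0 = C := by
    simp only [D, derivedSeries_zero]
    rw [← MonoidHom.range_eq_map, Subgroup.range_subtype]
  have hDsucc : ∀ n, D (n + 1) = ⁅D n, D n⁆ := by
    intro n
    simp only [D, derivedSeries_succ, Subgroup.map_commutator]
  have hDn : ∀ n, (D n).Normal := fun n => ConjAct.normal_of_characteristic_of_normal
  have hDC : ∀ n, D n ≤ C := fun n => Subgroup.map_subtype_le _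
  have hsol : ∃ n, D n ≤ F := by
    obtain ⟨n, hn⟩ := (Group.isSolvable_def C).mp inferInstance
    exact ⟨n, by simp only [D, hn, Subgroup.map_bot]; exact bot_le⟩
  by_contra hne
  have hk0 : Nat.find hsol ≠ 0 := by
    intro h0
    have := Nat.find_spec hsol
    rw [h0, hD0] at this
    exact hne this
  obtain ⟨j, hj⟩ := Nat.exists_eq_succ_of_ne_zero hk0
  have hj1 : D (j + 1) ≤ F := by
    have := Nat.find_spec hsol
    rwa [hj] at this
  have hj0 : ¬ D j ≤ F := Nat.find_min hsol (by omega)
  -- `D j` is nilpotent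
  have hnil : Group.IsNilpotent (D j) := by
    apply isNilpotent_subgroup_of_commutator_central
    intro a ha b hb c hc
    have hab : ⁅a, b⁆ ∈ F := hj1 (by rw [hDsucc]; exact Subgroup.commutator_mem_commutator ha hb)
    have hcC : c ∈ C := hDC j hc
    rw [hC, Subgroup.mem_centralizer_iff] at hcC
    exact hcC _ hab
  exact hj0 (Helper1_Cores.le_fittingSubgroup (hDn j) hnil)


/-- The `p'`-core of `G ⧸ O_{p'}(G)` is trivial. -/
theorem pPrimeCore_quotient_pPrimeCore [Finite G] (p : ℕ) :
    Cfsg.pPrimeCore p (G ⧸ Cfsg.pPrimeCore p G) = ⊥ := by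
  classical
  set K := Cfsg.pPrimeCore p G with hK
  set π := QuotientGroup.mk' K with hπ
  have hπs : Function.Surjective π := QuotientGroup.mk'_surjective K
  set Mbar := Cfsg.pPrimeCore p (G ⧸ K) with hMbar
  have hMbarN : Mbar.Normal := Helper1_Cores.pPrimeCore_normal p
  set M := Mbar.comap π with hM
  have hMN : M.Normal := hMbarN.comap π
  have hidx : M.index = Mbar.index := Mbar.index_comap_of_surjective hπs
  have h1 : Nat.card M * M.index = Nat.card G := M.card_mul_index
  have h2 : Nat.card Mbar * Mbar.index = Nat.card (G ⧸ K) := Mbar.card_mul_index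
  have h3 : Nat.card G = Nat.card (G ⧸ K) * Nat.card K := K.card_eq_card_quotient_mul_card_subgroup
  have hidx0 : Mbar.index ≠ 0 := Subgroup.index_ne_zero_of_finite
  have hcard : Nat.card M = Nat.card K * Nat.card Mbar := by
    have : Nat.card M * Mbar.index = (Nat.card K * Nat.card Mbar) * Mbar.index := by
      rw [← hidx, h1, h3, ← h2, hidx]; ring
    exact Nat.eq_of_mul_eq_mul_right (Nat.pos_of_ne_zero hidx0) this
  have hcop : (Nat.card M).Coprime p := by
    rw [hcard]
    exact Nat.Coprime.mul_left (Helper1_Cores.pPrimeCore_card_coprime p)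
      (Helper1_Cores.pPrimeCore_card_coprime p)
  have hle : M ≤ K := Helper1_Cores.le_pPrimeCore hMN hcop
  have : Mbar = M.map π := (Subgroup.map_comap_eq_self_of_surjective hπs Mbar).symm
  rw [this, eq_bot_iff]
  calc M.map π ≤ K.map π := Subgroup.map_mono hle
    _ = ⊥ := by rw [hπ, QuotientGroup.map_mk'_self]

/-- If `O_{p'}(G) = 1` then `F(G) = O_p(G)`. -/
theorem fittingSubgroup_eq_pCore_of_pPrimeCore_eq_bot [Finite G] (p : ℕ) [hp : Fact p.Prime]
    (h : Cfsg.pPrimeCore p G = ⊥) : Cfsg.fittingSubgroup G = Cfsg.pCore p G := by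
  rw [Helper1_Cores.fittingSubgroup_eq_iSup_pCore]
  apply le_antisymm
  · refine iSup_le (fun q => ?_)
    by_cases hq : (q : ℕ) = p
    · rw [hq]
    · have : Fact (q : ℕ).Prime := ⟨q.2⟩
      have hcop : (Nat.card (Cfsg.pCore (q : ℕ) G)).Coprime p :=
        Helper1_Cores.pCore_card_coprime hq
      have := Helper1_Cores.le_pPrimeCore (Helper1_Cores.pCore_normal (G := G) (q : ℕ)) hcop
      rw [h] at this
      exact this.trans bot_le
  · exact le_iSup (fun q : Nat.Primes => Cfsg.pCore (q : ℕ) G) ⟨p, hp.out⟩

/-- In a finite solvable group with `O_{p'}(G) = 1`, `C_G(O_p(G)) ≤ O_p(G)`. -/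
theorem centralizer_pCore_le [Finite G] [Group.IsSolvable G] (p : ℕ) [Fact p.Prime]
    (h : Cfsg.pPrimeCore p G = ⊥) :
    centralizer (Cfsg.pCore p G : Set G) ≤ Cfsg.pCore p G := by
  have := centralizer_fittingSubgroup_le (G := G)
  rwa [fittingSubgroup_eq_pCore_of_pPrimeCore_eq_bot p h] at this

/-- The kernel of the conjugation action on a normal subgroup is its centralizer. -/
theorem conjNormal_ker (R : Subgroup G) [R.Normal] :
    (MulAut.conjNormal (H := R)).ker = centralizer (R : Set G) := by
  ext g
  rw [MonoidHom.mem_ker, Subgroup.mem_centralizer_iff]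
  constructor
  · intro hg r hr
    have := congrArg (fun f : MulAut R => ((f ⟨r, hr⟩ : R) : G)) hg
    simp only [MulAut.conjNormal_apply, MulAut.one_apply] at this
    calc r * g = (g * r * g⁻¹) * g := by rw [this]
      _ = g * r := by group
  · intro hg
    ext r
    rw [MulAut.conjNormal_apply, MulAut.one_apply]
    have := hg r r.2
    calc g * r * g⁻¹ = (r * g) * g⁻¹ := by rw [this]
      _ = r := by group

/-- A finite group with a normal cyclic `2`-subgroup containing its centralizer is a `2`-group. -/
theorem isPGroup_two_of_cyclic_normal [Finite G] (R : Subgroup G) [R.Normal] [IsCyclic R]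
    (hR : IsPGroup 2 R) (hC : centralizer (R : Set G) ≤ R) : IsPGroup 2 G := by
  classical
  have : Fact (Nat.Prime 2) := ⟨Nat.prime_two⟩
  obtain ⟨k, hk⟩ := IsPGroup.iff_card.mp hR
  set φ : G →* MulAut R := MulAut.conjNormal with hφ
  have hker : φ.ker = centralizer (R : Set G) := conjNormal_ker R
  have h1 : Nat.card φ.ker * Nat.card φ.range = Nat.card G := by
    rw [← Subgroup.index_ker, Subgroup.card_mul_index]
  have h2 : Nat.card φ.ker ∣ 2 ^ k := by
    rw [hker, ← hk]
    exact Subgroup.card_dvd_of_le hC
  have h3 : Nat.card φ.range ∣ 2 ^ k := by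
    have hd : Nat.card φ.range ∣ Nat.card (MulAut R) := Subgroup.card_subgroup_dvd_card _
    rw [IsCyclic.card_mulAut, hk] at hd
    rcases Nat.eq_zero_or_pos k with h0 | h0
    · rw [h0, pow_zero, Nat.totient_one] at hd
      rw [Nat.dvd_one.mp hd]; exact one_dvd _
    · rw [Nat.totient_prime_pow Nat.prime_two h0] at hd
      simp only [Nat.add_one_sub_one, mul_one] at hd
      exact hd.trans (pow_dvd_pow 2 (Nat.sub_le k 1))
  have h4 : Nat.card G ∣ 2 ^ (k + k) := by
    rw [← h1, pow_add]
    exact Nat.mul_dvd_mul h2 h3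
  obtain ⟨m, _, hm⟩ := (Nat.dvd_prime_pow Nat.prime_two).mp h4
  exact IsPGroup.of_card hm

end Cfsg.Agent.Lib.Helper55_Fitting
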