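import Cfsg.Agent.Lib.Helper87_OddOmega

/-!
Automorphisms of order prime to `p` of a finite `p`-group that fix the elements of order `p` (and of order `4` when
`p = 2`) are trivial (helper88). The proof is helper87's proof for odd `p` (`Helper87_OddOmega`), with the case `p = 2`
added through the fourth-power formula in class two.
-/

set_option autoImplicit false

namespace Cfsg.Agent.Lib.Helper88_Omega

open Cfsg Cfsg.FusionSystem Cfsg.Agent.Lib.Helper87_Alperin Cfsg.Agent.Lib.Helper87_Alperin2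
  Cfsg.Agent.Lib.Helper87_AutSystem Cfsg.Agent.Lib.Helper87_OddOmega
open scoped commutatorElement

/-- In class two with central squares, the fourth-power map is multiplicative. -/
theorem mul_pow_four_of_central {G : Type*} [Group G] (x y : G)
    (hc : ⁅y, x⁆ ∈ Subgroup.center G) (hyp : y ^ 2 ∈ Subgroup.center G) :
    (x * y) ^ 4 = x ^ 4 * y ^ 4 := by
  have h1 := pow_mul_eq_of_central x y hc 2
  have h2 : y ^ 2 * x = x * y ^ 2 := (Subgroup.mem_center_iff.1 hyp x).symm
  have hcp : ⁅y, x⁆ ^ 2 = 1 := by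
    rw [h2, mul_assoc] at h1
    exact right_eq_mul.1 h1
  have h6 : Nat.choose 4 2 = 2 * 3 := by decide
  rw [mul_pow_of_central x y hc 4, h6, pow_mul, hcp, one_pow, mul_one]

variable {Ω : Type*} [Group Ω]

/-- An automorphism of order prime to `p` of a finite `p`-group that fixes every element `x` with `x ^ p = 1`, and
also every `x` with `x ^ 4 = 1` when `p = 2`, is trivial. (Stated with the order of the group as a parameter, for the
induction.) -/
theorem aut_eq_one_of_fix_omega_aux {p : ℕ} [Fact p.Prime] :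
    ∀ (n : ℕ) (T : Subgroup Ω) [Finite T], Nat.card T = n → IsPGroup p T → ∀ α : MulAut T,
      (orderOf α).Coprime p → (∀ x : T, (x ^ p = 1 ∨ (p = 2 ∧ x ^ 4 = 1)) → α x = x) → α = 1 := by
  intro n
  induction n using Nat.strong_induction_on with
  | _ n ih =>
  intro T _ hcard hT α hα hfix
  have hp : p.Prime := Fact.out
  -- the induction hypothesis for invariant proper subgroups
  have hsub : ∀ (U : Subgroup Ω) (hUT : U ≤ T), U ≠ T → (∀ x : U, ((α ⟨x, hUT x.2⟩ : T) : Ω) ∈ U) →
      ∀ x : T, (x : Ω) ∈ U → α x = x := by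
    intro U hUT hne hinv x hx
    have hfinU : Finite U :=
      Finite.of_injective (Subgroup.inclusion hUT) (Subgroup.inclusion_injective hUT)
    have hlt : Nat.card U < n := by
      rw [← hcard]
      exact card_lt_of_lt (lt_of_le_of_ne hUT hne)
    have h1 := ih (Nat.card U) hlt U rfl (hT.to_le hUT) (restrictAut hUT α hinv)
      (Nat.Coprime.coprime_dvd_left (orderOf_restrictAut_dvd hUT α hinv) hα) ?_
    · have h2 := restrictAut_apply hUT α hinv ⟨x, hx⟩
      rw [h1] at h2
      apply Subtype.ext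
      exact h2.symm
    · intro y hy
      apply Subtype.ext
      rw [restrictAut_apply]
      have h3 : ((⟨(y : Ω), hUT y.2⟩ : T) ^ p = 1 ∨ (p = 2 ∧ (⟨(y : Ω), hUT y.2⟩ : T) ^ 4 = 1)) := by
        rcases hy with hy | ⟨h2, hy⟩
        · left
          apply Subtype.ext
          have := congrArg Subtype.val hy
          simpa using this
        · right
          refine ⟨h2, ?_⟩
          apply Subtype.ext
          have := congrArg Subtype.val hy
          simpa using this
      rw [hfix _ h3]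
  -- the key fact
  have hkey : ∀ x : T, α (x⁻¹ * α x) = x⁻¹ * α x := by
    intro x₀
    set W' : Subgroup T := Subgroup.closure {y : T | ∃ x : T, y = x⁻¹ * α x} with hW'
    have hW'inv : W'.map α.toMonoidHom ≤ W' := by
      rw [hW', MonoidHom.map_closure]
      apply Subgroup.closure_mono
      rintro _ ⟨_, ⟨x, rfl⟩, rfl⟩
      refine ⟨α x, ?_⟩
      show α (x⁻¹ * α x) = (α x)⁻¹ * α (α x)
      rw [map_mul, map_inv]
    set W : Subgroup Ω := W'.map T.subtype with hW
    have hWT : W ≤ T := by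
      rintro _ ⟨w, -, rfl⟩
      exact w.2
    have hinvW : ∀ x : W, ((α ⟨x, hWT x.2⟩ : T) : Ω) ∈ W := by
      rintro ⟨_, w, hw, rfl⟩
      exact ⟨α w, hW'inv ⟨w, hw, rfl⟩, rfl⟩
    by_cases hWne : W = T
    swap
    · exact hsub W hWT hWne hinvW _ ⟨x₀⁻¹ * α x₀, Subgroup.subset_closure ⟨x₀, rfl⟩, rfl⟩
    have hW'top : W' = ⊤ := by
      rw [eq_top_iff]
      intro t _
      have h1 : (t : Ω) ∈ W := hWne.ge t.2
      obtain ⟨t', ht', htt⟩ := h1
      have h2 : t' = t := Subtype.ext htt
      rwa [h2] at ht'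
    by_cases hnt : Nontrivial T
    swap
    · rw [not_nontrivial_iff_subsingleton] at hnt
      exact Subsingleton.elim _ _
    obtain ⟨M, hMn, hMtop, hMpow, hMcomm⟩ := exists_normal_proper hT
    set K : Subgroup T :=
      Subgroup.closure ({c : T | ∃ x y : T, c = ⁅x, y⁆} ∪ {z : T | ∃ x : T, z = x ^ p}) with hK
    have hKM : K ≤ M := by
      rw [hK]
      apply (Subgroup.closure_le _).2
      rintro _ (⟨x, y, rfl⟩ | ⟨x, rfl⟩)
      · exact hMcomm x y
      · exact hMpow x
    have hKinv : K.map α.toMonoidHom ≤ K := by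
      rw [hK, MonoidHom.map_closure]
      apply Subgroup.closure_mono
      rintro _ ⟨_, (⟨x, y, rfl⟩ | ⟨x, rfl⟩), rfl⟩
      · left
        refine ⟨α x, α y, ?_⟩
        show α ⁅x, y⁆ = ⁅α x, α y⁆
        rw [map_commutatorElement]
      · right
        refine ⟨α x, ?_⟩
        show α (x ^ p) = (α x) ^ p
        rw [map_pow]
    have hKconj : ∀ (t k : T), k ∈ K → t * k * t⁻¹ ∈ K := by
      intro t k hk
      have h1 : t * k * t⁻¹ = ⁅t, k⁆ * k := by
        rw [commutatorElement_def]
        group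
      rw [h1]
      exact K.mul_mem (Subgroup.subset_closure (Or.inl ⟨t, k, rfl⟩)) hk
    set K₀ : Subgroup Ω := K.map T.subtype with hK₀
    have hK₀T : K₀ ≤ T := by
      rintro _ ⟨w, -, rfl⟩
      exact w.2
    have hK₀ne : K₀ ≠ T := by
      intro h
      apply hMtop
      rw [eq_top_iff]
      intro t _
      apply hKM
      have h1 : (t : Ω) ∈ K₀ := h.ge t.2
      obtain ⟨t', ht', htt⟩ := h1
      have h2 : t' = t := Subtype.ext htt
      rwa [h2] at ht'
    have hinvK : ∀ x : K₀, ((α ⟨x, hK₀T x.2⟩ : T) : Ω) ∈ K₀ := by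
      rintro ⟨_, w, hw, rfl⟩
      exact ⟨α w, hKinv ⟨w, hw, rfl⟩, rfl⟩
    have hfixK : ∀ k : T, k ∈ K → α k = k := fun k hk => hsub K₀ hK₀T hK₀ne hinvK k ⟨k, hk, rfl⟩
    -- `K` is central
    have hcent : ∀ k ∈ K, k ∈ Subgroup.center T := by
      intro k hk
      have hgen : ∀ x : T, k * (x⁻¹ * α x) = (x⁻¹ * α x) * k := by
        intro x
        have h1 : α (x * k * x⁻¹) = x * k * x⁻¹ := hfixK _ (hKconj x k hk)
        rw [map_mul, map_mul, map_inv, hfixK k hk] at h1
        calc k * (x⁻¹ * α x) = x⁻¹ * (x * k * x⁻¹) * α x := by group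
          _ = x⁻¹ * (α x * k * (α x)⁻¹) * α x := by rw [h1]
          _ = x⁻¹ * α x * k := by group
      have hle : W' ≤ Subgroup.centralizer {k} := by
        rw [hW']
        apply (Subgroup.closure_le _).2
        rintro _ ⟨x, rfl⟩
        rw [SetLike.mem_coe, Subgroup.mem_centralizer_iff]
        intro h hh
        rw [Set.mem_singleton_iff] at hh
        subst hh
        exact hgen x
      rw [Subgroup.mem_center_iff]
      intro g
      have hg : g ∈ Subgroup.centralizer {k} := hle (by rw [hW'top]; trivial)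
      exact ((Subgroup.mem_centralizer_iff.1 hg) k rfl).symm
    have hc : ⁅α x₀, x₀⁻¹⁆ ∈ Subgroup.center T :=
      hcent _ (Subgroup.subset_closure (Or.inl ⟨_, _, rfl⟩))
    have hyp : (α x₀) ^ p ∈ Subgroup.center T :=
      hcent _ (Subgroup.subset_closure (Or.inr ⟨_, rfl⟩))
    by_cases hp2 : p = 2
    · have hyp2 : (α x₀) ^ 2 ∈ Subgroup.center T := by
        rw [← hp2]
        exact hyp
      have hpow4 : (x₀⁻¹ * α x₀) ^ 4 = 1 := by
        rw [mul_pow_four_of_central x₀⁻¹ (α x₀) hc hyp2]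
        have hx4 : x₀ ^ 4 ∈ K := by
          have : x₀ ^ 4 = (x₀ ^ 2) ^ p := by rw [hp2, ← pow_mul]
          rw [this]
          exact Subgroup.subset_closure (Or.inr ⟨_, rfl⟩)
        have h1 : (α x₀) ^ 4 = x₀ ^ 4 := by
          rw [← map_pow]
          exact hfixK _ hx4
        rw [h1, inv_pow, inv_mul_cancel]
      exact hfix _ (Or.inr ⟨hp2, hpow4⟩)
    · have hpow1 : (x₀⁻¹ * α x₀) ^ p = 1 := by
        rw [mul_pow_prime_of_central hp hp2 x₀⁻¹ (α x₀) hc hyp]
        have h1 : (α x₀) ^ p = x₀ ^ p := by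
          rw [← map_pow]
          exact hfixK _ (Subgroup.subset_closure (Or.inr ⟨_, rfl⟩))
        rw [h1, inv_pow, inv_mul_cancel]
      exact hfix _ (Or.inl hpow1)
  -- conclude by the chain `T ≥ Fix(α) ≥ 1`
  let Fx : Subgroup T := MonoidHom.eqLocus α.toMonoidHom (MonoidHom.id T)
  let C : ℕ → Subgroup Ω := fun i => match i with
    | 0 => T
    | 1 => Fx.map T.subtype
    | _ => ⊥
  refine aut_eq_one_of_chain hT α hα C 2 le_rfl rfl ?_
  intro i hi x hx
  interval_cases i
  · exact ⟨x⁻¹ * α x, hkey x, rfl⟩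
  · obtain ⟨y, hy, hyx⟩ := hx
    have hyx' : y = x := Subtype.ext hyx
    subst hyx'
    have h3 : α y = y := hy
    show (y : Ω)⁻¹ * ((α y : T) : Ω) ∈ (⊥ : Subgroup Ω)
    rw [h3, inv_mul_cancel]
    exact Subgroup.one_mem _

/-- An automorphism of order prime to `p` of a finite `p`-group that fixes every element `x` with `x ^ p = 1`, and
also every `x` with `x ^ 4 = 1` when `p = 2`, is trivial. -/
theorem aut_eq_one_of_fix_omega {p : ℕ} [Fact p.Prime] {T : Subgroup Ω} [Finite T]
    (hT : IsPGroup p T) (α : MulAut T) (hα : (orderOf α).Coprime p)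
    (hfix : ∀ x : T, (x ^ p = 1 ∨ (p = 2 ∧ x ^ 4 = 1)) → α x = x) : α = 1 :=
  aut_eq_one_of_fix_omega_aux (Nat.card T) T rfl hT α hα hfix

end Cfsg.Agent.Lib.Helper88_Omega
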