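import Mathlib
import Cfsg.Prelude.Def_Local
import Cfsg.Agent.Lib.Helper1_Cores
import Cfsg.Agent.Lib.Helper2_Coprime
import Cfsg.Agent.Lib.Helper23_CharP
import Cfsg.Agent.Lib.Helper55_Fitting
import Cfsg.Agent.Lib.Helper88_Omega

/-!
# `p'`-subgroups normalized by a maximal elementary abelian `p`-subgroup (helper23)

* `centralizes_of_fix_omega`: for `p` odd, a `p'`-element normalizing a `p`-group `D` and centralizing
  all its elements of order dividing `p` centralizes `D`;
* `isElementaryAbelian_zpowers_sup`: `⟨x⟩E` is elementary abelian if `E` is, `x ^ p = 1` and `x`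
  centralizes `E`;
* `fittingSubgroup_le_pCore_of_pPrimeCore_eq_bot`;
* `eq_bot_of_normalized_by_max_elementaryAbelian`: in a solvable group `H` with `O_{p'}(H) = 1` and a
  normal Sylow `p`-subgroup (`p` odd), a `p'`-subgroup normalized by a maximal elementary abelian
  `p`-subgroup is trivial.
-/

set_option autoImplicit false
open Cfsg

namespace Cfsg.Agent.Lib.Helper23_PLength

/-- For `p` odd: a `p'`-element `l` normalizing the `p`-group `D` and centralizing every `x ∈ D`
with `x ^ p = 1` centralizes `D`. -/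
theorem centralizes_of_fix_omega {H : Type*} [Group H] [Finite H] {p : ℕ} [Fact p.Prime]
    (hp : p ≠ 2) (D : Subgroup H) (hD : IsPGroup p D) (l : H)
    (hlD : l ∈ Subgroup.normalizer (D : Set H)) (hl : (orderOf l).Coprime p)
    (hfix : ∀ x ∈ D, x ^ p = 1 → l * x = x * l) : ∀ x ∈ D, l * x = x * l := by
  have hK : Subgroup.zpowers l ≤ Subgroup.normalizer (D : Set H) := by
    rw [Subgroup.zpowers_le]; exact hlD
  set φ := Cfsg.Agent.Lib.Helper2_Coprime.conjAut D (Subgroup.zpowers l) hK with hφ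
  set l' : ↥(Subgroup.zpowers l) := ⟨l, Subgroup.mem_zpowers l⟩ with hl'
  have hord : (orderOf (φ l')).Coprime p := by
    have h1 : orderOf (φ l') ∣ orderOf l' := orderOf_map_dvd φ l'
    have h2 : orderOf l' = orderOf l := Subgroup.orderOf_mk l _
    rw [h2] at h1
    exact Nat.Coprime.coprime_dvd_left h1 hl
  have hone : φ l' = 1 := by
    apply Cfsg.Agent.Lib.Helper88_Omega.aut_eq_one_of_fix_omega hD (φ l') hord
    intro x hx
    rcases hx with hx | ⟨h2, _⟩
    · apply Subtype.ext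
      rw [Cfsg.Agent.Lib.Helper2_Coprime.conjAut_apply_coe]
      have hx' : (x : H) ^ p = 1 := by
        have := congrArg Subtype.val hx
        simpa using this
      have := hfix x x.2 hx'
      show l * (x : H) * l⁻¹ = x
      rw [this, mul_inv_cancel_right]
    · exact absurd h2 hp
  intro x hx
  have h1 := congrArg (fun α : MulAut ↥D => ((α ⟨x, hx⟩ : ↥D) : H)) hone
  simp only [MulAut.one_apply] at h1
  rw [Cfsg.Agent.Lib.Helper2_Coprime.conjAut_apply_coe] at h1
  have h2 : l * x * l⁻¹ = x := h1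
  calc l * x = (l * x * l⁻¹) * l := by group
    _ = x * l := by rw [h2]

/-- `⟨x⟩E` is elementary abelian if `E` is, `x ^ p = 1` and `x` centralizes `E`. -/
theorem isElementaryAbelian_zpowers_sup {H : Type*} [Group H] {p : ℕ} (E : Subgroup H)
    (hE : IsElementaryAbelian p E) (x : H) (hx : ∀ e ∈ E, x * e = e * x) (hxp : x ^ p = 1) :
    IsElementaryAbelian p (Subgroup.zpowers x ⊔ E) := by
  have hz : Subgroup.zpowers x ≤ Subgroup.centralizer (E : Set H) := by
    rw [Subgroup.zpowers_le, Subgroup.mem_centralizer_iff]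
    intro e he
    exact (hx e he).symm
  have hzn : Subgroup.zpowers x ≤ Subgroup.normalizer (E : Set H) :=
    hz.trans (Subgroup.centralizer_le_normalizer _)
  have hmem : ∀ c ∈ Subgroup.zpowers x ⊔ E, ∃ y ∈ Subgroup.zpowers x, ∃ e ∈ E, y * e = c := by
    intro c hc
    have h1 : c ∈ ((Subgroup.zpowers x ⊔ E : Subgroup H) : Set H) := hc
    rw [Subgroup.coe_mul_of_left_le_normalizer_right _ _ hzn] at h1
    exact Set.mem_mul.mp h1
  have hEc : ∀ a ∈ E, ∀ b ∈ E, Commute a b := by
    intro a ha b hb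
    have := hE.1
    have h1 := mul_comm' (⟨a, ha⟩ : ↥E) ⟨b, hb⟩
    exact congrArg Subtype.val h1
  have hzc : ∀ y ∈ Subgroup.zpowers x, ∀ y' ∈ Subgroup.zpowers x, Commute y y' := by
    intro y hy y' hy'
    obtain ⟨k, rfl⟩ := Subgroup.mem_zpowers_iff.mp hy
    obtain ⟨k', rfl⟩ := Subgroup.mem_zpowers_iff.mp hy'
    exact (Commute.refl x).zpow_zpow k k'
  have hze : ∀ y ∈ Subgroup.zpowers x, ∀ e ∈ E, Commute y e := by
    intro y hy e he
    exact (Subgroup.mem_centralizer_iff.mp (hz hy) e he).symm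
  refine ⟨⟨⟨fun a b => ?_⟩⟩, ?_⟩
  · obtain ⟨y, hy, e, he, hye⟩ := hmem a a.2
    obtain ⟨y', hy', e', he', hye'⟩ := hmem b b.2
    apply Subtype.ext
    show (a : H) * b = b * a
    rw [← hye, ← hye']
    have c1 : Commute (y * e) y' := (hzc y hy y' hy').mul_left (hze y' hy' e he).symm
    have c2 : Commute (y * e) e' := (hze y hy e' he').mul_left (hEc e he e' he')
    exact c1.mul_right c2
  · intro c hc
    obtain ⟨y, hy, e, he, rfl⟩ := hmem c hc
    rw [(hze y hy e he).mul_pow, hE.2 e he, mul_one]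
    obtain ⟨k, rfl⟩ := Subgroup.mem_zpowers_iff.mp hy
    rw [← zpow_natCast, ← zpow_mul, mul_comm, zpow_mul, zpow_natCast, hxp, one_zpow]

/-- If `O_{p'}(H) = 1` then `F(H) ≤ O_p(H)`. -/
theorem fittingSubgroup_le_pCore_of_pPrimeCore_eq_bot {H : Type*} [Group H] [Finite H] {p : ℕ}
    [Fact p.Prime] (hcore : pPrimeCore p H = ⊥) : fittingSubgroup H ≤ pCore p H := by
  rw [Cfsg.Agent.Lib.Helper1_Cores.fittingSubgroup_eq_iSup_pCore]
  refine iSup_le (fun q => ?_)
  by_cases hq : (q : ℕ) = p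
  · rw [hq]
  · have : Fact (q : ℕ).Prime := ⟨q.2⟩
    have h1 : pCore (q : ℕ) H ≤ pPrimeCore p H :=
      Cfsg.Agent.Lib.Helper1_Cores.le_pPrimeCore (Cfsg.Agent.Lib.Helper1_Cores.pCore_normal _)
        (Cfsg.Agent.Lib.Helper1_Cores.pCore_card_coprime hq)
    rw [hcore] at h1
    exact h1.trans bot_le

/-- In a finite solvable group `H` with `O_{p'}(H) = 1` and a normal Sylow `p`-subgroup `Q`
(`p` odd), a `p'`-subgroup normalized by a maximal elementary abelian `p`-subgroup is trivial. -/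
theorem eq_bot_of_normalized_by_max_elementaryAbelian {H : Type*} [Group H] [Finite H]
    [Group.IsSolvable H] {p : ℕ} [Fact p.Prime] (hp : p ≠ 2) (hcore : pPrimeCore p H = ⊥)
    (Q : Subgroup H) (hQn : Q.Normal) (hQp : IsPGroup p Q)
    (hQall : ∀ B : Subgroup H, IsPGroup p B → B ≤ Q)
    (E L : Subgroup H) (hE : IsElementaryAbelian p E)
    (hEmax : ∀ B : Subgroup H, IsElementaryAbelian p B → E ≤ B → B = E)
    (hL : (Nat.card L).Coprime p) (hEL : E ≤ Subgroup.normalizer (L : Set H)) : L = ⊥ := by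
  have hEp : IsPGroup p E := by
    intro a
    refine ⟨1, ?_⟩
    apply Subtype.ext
    simpa using hE.2 a a.2
  have hEQ : E ≤ Q := hQall E hEp
  have hdisj : Disjoint L Q := by
    apply Subgroup.disjoint_of_coprime_natCard
    obtain ⟨k, hk⟩ := IsPGroup.iff_card.mp hQp
    rw [hk]
    exact Nat.Coprime.pow_right k hL
  -- `L` centralizes `E`
  have hLE : ∀ l ∈ L, ∀ e ∈ E, l * e = e * l := by
    intro l hl e he
    have h1 : l * e * l⁻¹ * e⁻¹ ∈ Q :=
      Q.mul_mem (hQn.conj_mem e (hEQ he) l) (Q.inv_mem (hEQ he))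
    have h2 : l * e * l⁻¹ * e⁻¹ ∈ L := by
      have h3 : e * l⁻¹ * e⁻¹ ∈ L :=
        (Subgroup.mem_normalizer_iff.mp (hEL he) l⁻¹).mp (L.inv_mem hl)
      have : l * e * l⁻¹ * e⁻¹ = l * (e * l⁻¹ * e⁻¹) := by group
      rw [this]
      exact L.mul_mem hl h3
    have h4 : l * e * l⁻¹ * e⁻¹ = 1 := Subgroup.disjoint_def.mp hdisj h2 h1
    calc l * e = (l * e * l⁻¹ * e⁻¹) * (e * l) := by group
      _ = e * l := by rw [h4, one_mul]
  -- elements of order `p` of `C_Q(E)` lie in `E`
  have hΩ : ∀ x ∈ Q, (∀ e ∈ E, x * e = e * x) → x ^ p = 1 → x ∈ E := by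
    intro x _ hxE hxp
    have h1 := isElementaryAbelian_zpowers_sup E hE x hxE hxp
    have h2 := hEmax _ h1 le_sup_right
    rw [← h2]
    exact Subgroup.mem_sup_left (Subgroup.mem_zpowers x)
  set D : Subgroup H := Q ⊓ Subgroup.centralizer (E : Set H) with hD
  have hDp : IsPGroup p D := hQp.to_le inf_le_left
  have hconj : ∀ l ∈ L, ∀ d ∈ D, l * d * l⁻¹ ∈ D := by
    intro l hl d hd
    have hd' := Subgroup.mem_inf.mp hd
    refine Subgroup.mem_inf.mpr ⟨hQn.conj_mem d hd'.1 l, ?_⟩
    rw [Subgroup.mem_centralizer_iff]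
    intro e he
    have h1 : l * e = e * l := hLE l hl e he
    have h2 : e * d = d * e := Subgroup.mem_centralizer_iff.mp hd'.2 e he
    have h3 : l⁻¹ * e = e * l⁻¹ := by
      calc l⁻¹ * e = l⁻¹ * (e * l) * l⁻¹ := by group
        _ = l⁻¹ * (l * e) * l⁻¹ := by rw [h1]
        _ = e * l⁻¹ := by group
    calc e * (l * d * l⁻¹) = (e * l) * d * l⁻¹ := by group
      _ = (l * e) * d * l⁻¹ := by rw [h1]
      _ = l * (e * d) * l⁻¹ := by group
      _ = l * (d * e) * l⁻¹ := by rw [h2]
      _ = l * d * (e * l⁻¹) := by group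
      _ = l * d * (l⁻¹ * e) := by rw [h3]
      _ = l * d * l⁻¹ * e := by group
  have hLD : ∀ l ∈ L, ∀ d ∈ D, l * d = d * l := by
    intro l hl
    have hnorm : l ∈ Subgroup.normalizer (D : Set H) := by
      rw [Subgroup.mem_normalizer_iff]
      intro d
      constructor
      · exact hconj l hl d
      · intro h
        have := hconj l⁻¹ (L.inv_mem hl) _ h
        have e : l⁻¹ * (l * d * l⁻¹) * l⁻¹⁻¹ = d := by group
        rwa [e] at this
    have hord : (orderOf l).Coprime p :=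
      Nat.Coprime.coprime_dvd_left (Subgroup.orderOf_dvd_natCard L hl) hL
    apply centralizes_of_fix_omega hp D hDp l hnorm hord
    intro x hx hxp
    have hx' := Subgroup.mem_inf.mp hx
    have hxE : x ∈ E := hΩ x hx'.1
      (fun e he => (Subgroup.mem_centralizer_iff.mp hx'.2 e he).symm) hxp
    exact hLE l hl x hxE
  -- Thompson's `P × Q` lemma: `L` centralizes `Q`
  have hLQ : ∀ l ∈ L, ∀ q ∈ Q, l * q = q * l := by
    intro l hl
    have hord : (orderOf l).Coprime p :=
      Nat.Coprime.coprime_dvd_left (Subgroup.orderOf_dvd_natCard L hl) hL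
    have hEnQ : E ≤ Subgroup.normalizer (Q : Set H) := by
      rw [Subgroup.normalizer_eq_top_iff.mpr hQn]; exact le_top
    apply Cfsg.Agent.Lib.Helper23_CharP.pxq Q E hQp hEp hEnQ l hord
      (fun q hq => hQn.conj_mem q hq l) (hLE l hl)
    intro q hq hqE
    apply hLD l hl q
    refine Subgroup.mem_inf.mpr ⟨hq, ?_⟩
    rw [Subgroup.mem_centralizer_iff]
    intro e he
    exact (hqE e he).symm
  -- `C_H(Q) ≤ Q`
  have hFQ : fittingSubgroup H ≤ Q :=
    (fittingSubgroup_le_pCore_of_pPrimeCore_eq_bot hcore).trans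
      (hQall _ (Cfsg.Agent.Lib.Helper1_Cores.pCore_isPGroup p))
  have hCQ : Subgroup.centralizer (Q : Set H) ≤ Q :=
    (Subgroup.centralizer_le hFQ).trans
      (Cfsg.Agent.Lib.Helper55_Fitting.centralizer_fittingSubgroup_le.trans hFQ)
  have hLleQ : L ≤ Q := by
    intro l hl
    apply hCQ
    rw [Subgroup.mem_centralizer_iff]
    intro q hq
    exact (hLQ l hl q hq).symm
  rw [eq_bot_iff]
  intro l hl
  rw [Subgroup.mem_bot]
  exact Subgroup.disjoint_def.mp hdisj hl (hLleQ hl)

end Cfsg.Agent.Lib.Helper23_PLength
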