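import Mathlib
import Cfsg.Prelude.Def_Blocks
import Cfsg.Agent.Lib.Helper75_CharArith
import Cfsg.Agent.Lib.Helper77_BlockBasics
import Cfsg.Agent.S4566

set_option autoImplicit false

namespace Cfsg.Agent.Lib.Helper77_VanishSylow

open Cfsg

open scoped ComplexConjugate

/-- A central element multiplies an irreducible character by a root of unity. -/
theorem irr_mul_central {H : Type*} [Group H] [Finite H] (τ : IrrCharacter H) (z : H)
    (hz : z ∈ Submonoid.center H) :
    ∃ c : ℂ, IsIntegral ℤ c ∧ ∀ a : H, (τ : H → ℂ) (a * z) = c * (τ : H → ℂ) a := by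
  obtain ⟨n, ρ, hirr, hρ⟩ := τ.2
  obtain ⟨c, hc⟩ := Cfsg.Agent.S4566.char_mul_central ρ hirr z hz
  rw [hρ] at hc
  refine ⟨c, ?_, hc⟩
  have hpow : ∀ k : ℕ, ∀ a : H, (τ : H → ℂ) (a * z ^ k) = c ^ k * (τ : H → ℂ) a := by
    intro k
    induction k with
    | zero => intro a; simp
    | succ k ih =>
      intro a
      rw [pow_succ, ← mul_assoc, hc, ih, pow_succ]
      ring
  have h1 := hpow (orderOf z) 1
  rw [pow_orderOf_eq_one, mul_one] at h1
  obtain ⟨d, hd, hτ1⟩ := Cfsg.Agent.Lib.Helper80_CharBasic.irr_apply_one τ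
  have hne : (τ : H → ℂ) 1 ≠ 0 := by
    rw [hτ1]; exact_mod_cast hd.ne'
  have hcn : c ^ orderOf z = 1 := by
    have : (c ^ orderOf z - 1) * (τ : H → ℂ) 1 = 0 := by
      rw [sub_mul, one_mul, ← h1, sub_self]
    rcases mul_eq_zero.mp this with h | h
    · exact sub_eq_zero.mp h
    · exact absurd h hne
  refine ⟨Polynomial.X ^ orderOf z - 1,
    Polynomial.monic_X_pow_sub_C 1 (orderOf_pos z).ne', ?_⟩
  simp [hcn]

/-- A character vanishing at the `p`-singular elements takes, at a `p`-regular element `x`, a value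
divisible (in the algebraic integers) by the order of every `p`-subgroup of `C_G(x)`. -/
theorem exists_integral_mul_of_vanish {G : Type*} [Group G] [Finite G] {p : ℕ} (hp : p.Prime)
    (θ : G → ℂ) (hθ : IsCharacter G θ) (hvan : ∀ y : G, p ∣ orderOf y → θ y = 0)
    (x : G) (hx : ¬ p ∣ orderOf x) (Q : Subgroup G) (hQ : IsPGroup p Q)
    (hQx : Q ≤ Subgroup.centralizer ({x} : Set G)) :
    ∃ α : ℂ, IsIntegral ℤ α ∧ θ x = (Nat.card Q : ℂ) * α := by
  classical
  obtain ⟨C, hC⟩ : ∃ C : Subgroup G, C = Subgroup.centralizer ({x} : Set G) := ⟨_, rfl⟩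
  have hmemC : ∀ y : G, y ∈ C ↔ x * y = y * x := by
    intro y
    rw [hC, Subgroup.mem_centralizer_iff]
    constructor
    · intro h; exact h x (Set.mem_singleton x)
    · intro h z hz
      rw [Set.mem_singleton_iff] at hz
      rw [hz]; exact h
  rw [← hC] at hQx
  have hxC : x ∈ C := (hmemC x).mpr rfl
  obtain ⟨xC, hxCdef⟩ : ∃ xC : C, xC = ⟨x, hxC⟩ := ⟨_, rfl⟩
  have hxCval : (xC : G) = x := by rw [hxCdef]
  have hxcen : xC ∈ Submonoid.center C := by
    rw [Submonoid.mem_center_iff]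
    intro c
    apply Subtype.ext
    have h1 := (hmemC c).mp c.2
    simp only [Subgroup.coe_mul, hxCval]
    exact h1.symm
  have := Fintype.ofFinite C
  have hθC : IsCharacter C (fun c : C => θ c) :=
    Cfsg.Agent.Lib.Helper75_CharArith.isCharacter_restrict C hθ
  obtain ⟨m, -, hdec⟩ := Cfsg.Agent.Lib.Helper75_CharArith.exists_multiplicities hθC
  choose c hcint hc using fun τ : IrrCharacter C => irr_mul_central τ xC hxcen
  set Q' : Subgroup C := Q.subgroupOf C with hQ'
  have := Fintype.ofFinite Q'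
  have hQ'card : Nat.card Q' = Nat.card Q :=
    Nat.card_congr (Subgroup.subgroupOfEquivOfLe hQx).toEquiv
  choose d hd using fun τ : IrrCharacter C =>
    Cfsg.Agent.S4665.sum_subgroup_char (τ : C → ℂ) (Cfsg.Agent.S4665.isCharacter_of_irr τ) Q'
  -- the sum over `Q'` of `θ (u x)`
  have hsum1 : ∑ u : Q', θ ((u : C) * xC : C) = θ x := by
    rw [Finset.sum_eq_single (1 : Q')]
    · simp [hxCval]
    · intro u _ hu
      apply hvan
      have hu1 : ((u : C) : G) ≠ 1 := by
        intro h
        apply hu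
        apply Subtype.ext
        apply Subtype.ext
        simpa using h
      have huQ : ((u : C) : G) ∈ Q := Subgroup.mem_subgroupOf.mp u.2
      obtain ⟨j, hj⟩ := hQ ⟨((u : C) : G), huQ⟩
      have hord : orderOf ((u : C) : G) ∣ p ^ j := by
        rw [orderOf_dvd_iff_pow_eq_one]
        simpa using congrArg Subtype.val hj
      obtain ⟨i, _, hi⟩ := (Nat.dvd_prime_pow hp).mp hord
      have hi0 : i ≠ 0 := by
        rintro rfl
        rw [pow_zero, orderOf_eq_one_iff] at hi
        exact hu1 hi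
      have hcomm : Commute ((u : C) : G) x := ((hmemC _).mp (u : C).2).symm
      have hcop : (orderOf ((u : C) : G)).Coprime (orderOf x) := by
        rw [hi]
        exact Nat.Coprime.pow_left _ ((Nat.Prime.coprime_iff_not_dvd hp).mpr hx)
      have hmul := hcomm.orderOf_mul_eq_mul_orderOf_of_coprime hcop
      show p ∣ orderOf (((u : C) * xC : C) : G)
      rw [Subgroup.coe_mul, hxCval, hmul, hi]
      exact dvd_mul_of_dvd_left (dvd_pow_self p hi0) _
    · intro h; exact absurd (Finset.mem_univ _) h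
  have hsum2 : ∑ u : Q', θ ((u : C) * xC : C) =
      (Nat.card Q : ℂ) * ∑ τ : IrrCharacter C, (m τ : ℂ) * c τ * (d τ : ℂ) := by
    have hpt : ∀ y : C, θ (y : G) = ∑ τ : IrrCharacter C, (m τ : ℂ) * (τ : C → ℂ) y := by
      intro y
      have := congrFun hdec y
      simp only [Finset.sum_apply, Pi.smul_apply, smul_eq_mul] at this
      exact this
    simp_rw [hpt, hc]
    rw [Finset.sum_comm, Finset.mul_sum]
    refine Finset.sum_congr rfl fun τ _ => ?_
    have : ∑ u : Q', (m τ : ℂ) * (c τ * (τ : C → ℂ) (u : C)) =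
        (m τ : ℂ) * c τ * ∑ u : Q', (τ : C → ℂ) (u : C) := by
      rw [Finset.mul_sum]
      refine Finset.sum_congr rfl fun u _ => ?_
      ring
    rw [this, hd τ, hQ'card]
    ring
  refine ⟨∑ τ : IrrCharacter C, (m τ : ℂ) * c τ * (d τ : ℂ), ?_, ?_⟩
  · have hnat : ∀ k : ℕ, IsIntegral ℤ (k : ℂ) := fun k => by
      simpa using (isIntegral_algebraMap (R := ℤ) (A := ℂ) (x := (k : ℤ)))
    apply IsIntegral.sum
    intro τ _
    exact ((hnat (m τ)).mul (hcint τ)).mul (hnat (d τ))
  · rw [← hsum1, hsum2]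

end Cfsg.Agent.Lib.Helper77_VanishSylow
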