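import Mathlib
import Cfsg.Prelude.Def_Blocks
import Cfsg.Agent.Lib.Helper77_BlockBasics
import Cfsg.Agent.Lib.Helper77_VanishSylow

set_option autoImplicit false

namespace Cfsg.Agent.Lib.Helper77_DefectOrder

open Cfsg Cfsg.Agent.Lib.Helper78_LocalRing Cfsg.Agent.Lib.Helper77_BlockBasics

open scoped ComplexConjugate

/-- If the central character of `χ` at `g` is a unit modulo `M`, the `p`-part of the class size of
`g` is at most the `p`-part of the degree of `χ`. -/
theorem factorization_index_le_of_centralChar {G : Type*} [Group G] [Finite G] {p : ℕ}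
    {M : Ideal AlgInt} (hM : IsPModular p M) (χ : IrrCharacter G) (g : G)
    (h : ¬ MemLocalIdeal M (centralChar (χ : G → ℂ) g)) :
    ((Subgroup.centralizer ({g} : Set G)).index).factorization p ≤
      (charDegree (χ : G → ℂ)).factorization p := by
  have hp : p.Prime := hM.1
  have hMp : M.IsPrime := hM.2.1.isPrime
  by_contra hlt
  push Not at hlt
  apply h
  obtain ⟨n, hnpos, hχ1, hdeg, -⟩ := exists_degree χ
  rw [hdeg] at hlt
  set I : ℕ := (Subgroup.centralizer ({g} : Set G)).index with hI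
  have hI0 : I ≠ 0 := Subgroup.index_ne_zero_of_finite
  obtain ⟨e, he⟩ := Nat.exists_eq_add_of_lt hlt
  have hIdec : I = p ^ (I.factorization p) * (I / p ^ (I.factorization p)) :=
    (Nat.ordProj_mul_ordCompl_eq_self I p).symm
  have hndec : n = p ^ (n.factorization p) * (n / p ^ (n.factorization p)) :=
    (Nat.ordProj_mul_ordCompl_eq_self n p).symm
  have hn' : ¬ p ∣ n / p ^ (n.factorization p) := Nat.not_dvd_ordCompl hp hnpos.ne'
  set n' : ℕ := n / p ^ (n.factorization p) with hn'def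
  set I' : ℕ := I / p ^ (I.factorization p) with hI'def
  have hn'0 : (n' : ℂ) ≠ 0 := by
    have : n' ≠ 0 := fun h0 => hn' (h0 ▸ dvd_zero p)
    exact_mod_cast this
  have hp0 : (p : ℂ) ≠ 0 := by exact_mod_cast hp.ne_zero
  have hval : centralChar (χ : G → ℂ) g =
      (p : ℂ) * (((p ^ e * I' : ℕ) : ℂ) * (χ : G → ℂ) g * (n' : ℂ)⁻¹) := by
    unfold centralChar
    rw [hχ1]
    have h1 : (I : ℂ) = (p : ℂ) ^ (n.factorization p) * p * (p : ℂ) ^ e * I' := by
      have : I = p ^ (n.factorization p) * p * p ^ e * I' := by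
        conv_lhs => rw [hIdec, he]
        rw [pow_add, pow_add, pow_one]
        ring
      exact_mod_cast this
    have h2 : (n : ℂ) = (p : ℂ) ^ (n.factorization p) * n' := by
      exact_mod_cast hndec
    rw [← hI, h1, h2]
    push_cast
    have hpt : (p : ℂ) ^ (n.factorization p) ≠ 0 := pow_ne_zero _ hp0
    field_simp
  rw [hval]
  apply memLocalIdeal_mul_right hMp
  · exact (memLocalIdeal_natCast_iff hM p).mpr dvd_rfl
  · apply memLocalRing_mul hMp
    · apply memLocalRing_mul hMp (memLocalRing_natCast hMp _)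
      obtain ⟨k, ρ, hirr, hρ⟩ := χ.2
      rw [← hρ]
      exact memLocalRing_algInt hMp ⟨_, Cfsg.Agent.Lib.Helper3_CharEigen.isIntegral_char ρ g⟩
    · exact memLocalRing_inv_natCast hM hn'

/-- If `p ^ h` divides all degrees in the block `B`, then `|G|` times the idempotent coefficient at
a `p`-regular `g` is `p ^ h * |Q|` times an algebraic integer, for every `p`-subgroup `Q` of
`C_G(g)`. -/
theorem card_mul_blockCoeff_eq {G : Type*} [Group G] [Finite G] {p : ℕ}
    {M : Ideal AlgInt} (hM : IsPModular p M) {B : Set (IrrCharacter G)} (hB : IsPBlock M B)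
    (h : ℕ) (hh : ∀ χ ∈ B, h ≤ (charDegree (χ : G → ℂ)).factorization p)
    (g : G) (hg : ¬ p ∣ orderOf g) (Q : Subgroup G) (hQ : IsPGroup p Q)
    (hQg : Q ≤ Subgroup.centralizer ({g} : Set G)) :
    ∃ α : ℂ, IsIntegral ℤ α ∧
      (Nat.card G : ℂ) * blockCoeff B g = (p : ℂ) ^ h * (Nat.card Q : ℂ) * α := by
  classical
  have := Fintype.ofFinite G
  have hp : p.Prime := hM.1
  have hfin : Finite (IrrCharacter G) := Cfsg.Agent.Lib.Helper78_CharFacts.charFacts.finite
  have hGne : (Nat.card G : ℂ) ≠ 0 := by exact_mod_cast (Nat.card_pos (α := G)).ne'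
  set BF : Finset (IrrCharacter G) := (Set.toFinite B).toFinset with hBF
  have hmemBF : ∀ χ, χ ∈ BF ↔ χ ∈ B := fun χ => Set.Finite.mem_toFinset _
  -- the character `ψ'`
  set k : IrrCharacter G → ℕ := fun χ => charDegree (χ : G → ℂ) / p ^ h with hk
  have hkmul : ∀ χ ∈ B, charDegree (χ : G → ℂ) = p ^ h * k χ := by
    intro χ hχ
    have hdvd : p ^ h ∣ charDegree (χ : G → ℂ) :=
      (Nat.Prime.pow_dvd_iff_le_factorization hp (charDegree_pos χ).ne').mpr (hh χ hχ)
    rw [hk]
    exact (Nat.mul_div_cancel' hdvd).symm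
  set ψ' : G → ℂ := ∑ χ ∈ BF, (k χ) • (χ : G → ℂ) with hψ'
  have hψ'char : IsCharacter G ψ' := by
    apply Cfsg.Agent.Lib.Helper75_CharArith.isCharacter_sum
    intro χ _
    exact Cfsg.Agent.Lib.Helper75_CharArith.isCharacter_nsmul _
      (Cfsg.Agent.S4665.isCharacter_of_irr χ)
  have hψ'val : ∀ y : G, (p : ℂ) ^ h * ψ' y = ∑ χ ∈ BF, (χ : G → ℂ) 1 * (χ : G → ℂ) y := by
    intro y
    rw [hψ', Finset.sum_apply, Finset.mul_sum]
    refine Finset.sum_congr rfl fun χ hχ => ?_
    rw [Pi.smul_apply, nsmul_eq_mul, apply_one_eq_charDegree χ, hkmul χ ((hmemBF χ).mp hχ)]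
    push_cast
    ring
  have hp0 : (p : ℂ) ^ h ≠ 0 := pow_ne_zero _ (by exact_mod_cast hp.ne_zero)
  have hvan : ∀ y : G, p ∣ orderOf y → ψ' y = 0 := by
    intro y hy
    have h1 : ¬ p ∣ orderOf (1 : G) := by
      rw [orderOf_one]
      exact hp.one_lt.ne' ∘ Nat.dvd_one.mp
    have hy' : p ∣ orderOf y⁻¹ := by rw [orderOf_inv]; exact hy
    have h2 := Cfsg.Agent.Lib.Helper77_WeakOrth.weak_orthogonality_block hM hB 1 y⁻¹ h1 hy'
    rw [finsum_mem_eq_finite_toFinset_sum _ (Set.toFinite B)] at h2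
    have h3 : (p : ℂ) ^ h * ψ' y = 0 := by
      rw [hψ'val, ← h2]
      refine Finset.sum_congr rfl fun χ _ => ?_
      rw [Cfsg.Agent.Lib.Helper80_CharBasic.irr_inv χ y, Complex.conj_conj]
    rcases mul_eq_zero.mp h3 with h4 | h4
    · exact absurd h4 hp0
    · exact h4
  have hg' : ¬ p ∣ orderOf g⁻¹ := by rw [orderOf_inv]; exact hg
  have hQg' : Q ≤ Subgroup.centralizer ({g⁻¹} : Set G) := by
    intro u hu
    have h1 := Subgroup.mem_centralizer_iff.mp (hQg hu) g (Set.mem_singleton g)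
    rw [Subgroup.mem_centralizer_iff]
    intro z hz
    rw [Set.mem_singleton_iff] at hz
    rw [hz]
    calc g⁻¹ * u = g⁻¹ * (u * g) * g⁻¹ := by group
      _ = g⁻¹ * (g * u) * g⁻¹ := by rw [h1]
      _ = u * g⁻¹ := by group
  obtain ⟨α, hα, hαv⟩ := Cfsg.Agent.Lib.Helper77_VanishSylow.exists_integral_mul_of_vanish hp ψ'
    hψ'char hvan g⁻¹ hg' Q hQ hQg'
  refine ⟨α, hα, ?_⟩
  unfold blockCoeff
  rw [← mul_assoc, mul_inv_cancel₀ hGne, one_mul,
    finsum_mem_eq_finite_toFinset_sum _ (Set.toFinite B), mul_assoc, ← hαv, hψ'val]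
  refine Finset.sum_congr rfl fun χ _ => ?_
  rw [Cfsg.Agent.Lib.Helper80_CharBasic.irr_inv χ g]

/-- **The order of a defect group** is `p ^ d` with `d` the defect of the block. -/
theorem card_defectGroup {G : Type*} [Group G] [Finite G] {p : ℕ}
    {M : Ideal AlgInt} (hM : IsPModular p M) {B : Set (IrrCharacter G)} (hB : IsPBlock M B)
    {g : G} (hg : IsDefectClass M B g) :
    (Nat.card (Subgroup.centralizer ({g} : Set G))).factorization p = blockDefect p B := by
  classical
  have hp : p.Prime := hM.1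
  have : Fact p.Prime := ⟨hp⟩
  have hMp : M.IsPrime := hM.2.1.isPrime
  have hne : B.Nonempty := isPBlock_nonempty hMp hB
  obtain ⟨χ₀, hχ₀, hmin, hdef⟩ := exists_height_zero p B hne
  set C : Subgroup G := Subgroup.centralizer ({g} : Set G) with hC
  set a : ℕ := (Nat.card G).factorization p with ha
  set δ : ℕ := (Nat.card C).factorization p with hδ
  set t : ℕ := (charDegree (χ₀ : G → ℂ)).factorization p with ht
  have hta : t ≤ a := factorization_charDegree_le p χ₀
  have hGpos : 0 < Nat.card G := Nat.card_pos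
  have hCpos : 0 < Nat.card C := Nat.card_pos
  have hIpos : C.index ≠ 0 := Subgroup.index_ne_zero_of_finite
  -- `a = δ + ν(index)`
  have hsplit : a = δ + (C.index).factorization p := by
    rw [ha, hδ, ← Subgroup.card_mul_index C, Nat.factorization_mul hCpos.ne' hIpos]
    rfl
  -- (i) `ν(index) ≤ t`
  have h1 := factorization_index_le_of_centralChar hM χ₀ g (hg.2.2 χ₀ hχ₀)
  -- `g` is `p`-regular
  have hgreg : ¬ p ∣ orderOf g := by
    intro hs
    apply hg.2.1
    rw [Cfsg.Agent.Lib.Helper77_WeakOrth.blockCoeff_block_eq_zero_of_sing hM hB g hs]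
    exact memLocalIdeal_zero hMp
  -- (ii) `δ + t ≤ a`
  have h2 : δ + t ≤ a := by
    by_contra hlt
    push Not at hlt
    obtain ⟨P⟩ : Nonempty (Sylow p C) := inferInstance
    set Q : Subgroup G := (P : Subgroup C).map C.subtype with hQ
    have hQp : IsPGroup p Q := P.isPGroup'.map _
    have hQC : Q ≤ C := by
      rintro _ ⟨u, -, rfl⟩
      exact u.2
    have hQcard : Nat.card Q = p ^ δ := by
      rw [hQ, Subgroup.card_map_of_injective C.subtype_injective, hδ]
      exact P.card_eq_multiplicity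
    obtain ⟨α, hα, hαv⟩ := card_mul_blockCoeff_eq hM hB t (fun χ hχ => hmin χ hχ) g hgreg Q hQp hQC
    apply hg.2.1
    -- `|G| = p ^ a * m`
    have hGdec : Nat.card G = p ^ a * (Nat.card G / p ^ a) :=
      (Nat.ordProj_mul_ordCompl_eq_self (Nat.card G) p).symm
    have hm' : ¬ p ∣ Nat.card G / p ^ a := Nat.not_dvd_ordCompl hp hGpos.ne'
    set m' : ℕ := Nat.card G / p ^ a with hm'def
    obtain ⟨e, he⟩ := Nat.exists_eq_add_of_lt hlt
    have hm0 : (m' : ℂ) ≠ 0 := by
      have : m' ≠ 0 := fun h0 => hm' (h0 ▸ dvd_zero p)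
      exact_mod_cast this
    have hp0 : (p : ℂ) ≠ 0 := by exact_mod_cast hp.ne_zero
    have hval : blockCoeff B g = (p : ℂ) * (((p ^ e : ℕ) : ℂ) * α * (m' : ℂ)⁻¹) := by
      have hG' : (Nat.card G : ℂ) = (p : ℂ) ^ a * m' := by exact_mod_cast hGdec
      rw [hG', hQcard] at hαv
      have hpa : (p : ℂ) ^ a ≠ 0 := pow_ne_zero _ hp0
      have : (p : ℂ) ^ t * ((p ^ δ : ℕ) : ℂ) = (p : ℂ) ^ a * p * (p : ℂ) ^ e := by
        push_cast
        rw [← pow_add, add_comm t δ, he, pow_add, pow_add, pow_one]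
        ring
      rw [this] at hαv
      push_cast
      field_simp
      field_simp at hαv
      linear_combination hαv
    rw [hval]
    apply memLocalIdeal_mul_right hMp
    · exact (memLocalIdeal_natCast_iff hM p).mpr dvd_rfl
    · apply memLocalRing_mul hMp
      · exact memLocalRing_mul hMp (memLocalRing_natCast hMp _) (memLocalRing_algInt hMp ⟨α, hα⟩)
      · exact memLocalRing_inv_natCast hM hm'
  have h1' : C.index.factorization p ≤ t := h1
  rw [hdef]
  omega

end Cfsg.Agent.Lib.Helper77_DefectOrder
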