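import Mathlib
import Cfsg.Prelude.Def_Blocks
import Cfsg.Agent.Lib.Helper77_DefectOrder

set_option autoImplicit false

namespace Cfsg.Agent.Lib.Helper77_RegClasses

open Cfsg Cfsg.Agent.Lib.Helper78_LocalRing Cfsg.Agent.Lib.Helper77_BlockBasics
  Cfsg.Agent.Lib.Helper78_Osima Cfsg.Agent.Lib.Helper78_CharFacts
  Cfsg.Agent.Lib.Helper77_DefectOrder Cfsg.Agent.Lib.Helper78_CentralChar

open scoped ComplexConjugate

/-- Central characters agree modulo the local ideal on a class function `f` as soon as, at every
element, `f g * (ω_χ(g) - ω_ψ(g))` lies in the local ideal. -/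
theorem memLocalIdeal_omega_sub_of {G : Type*} [Group G] [Fintype G] {M : Ideal AlgInt}
    (hM : M.IsPrime) {χ ψ : G → ℂ} (hχ : IsClassFunction G χ) (hψ : IsClassFunction G ψ)
    {f : G → ℂ} (hf : IsClassFunction G f)
    (h : ∀ g : G, MemLocalIdeal M (f g * (centralChar χ g - centralChar ψ g))) :
    MemLocalIdeal M (omega χ f - omega ψ f) := by
  classical
  rw [omega_eq_sum_conjClasses hχ hf, omega_eq_sum_conjClasses hψ hf, ← Finset.sum_sub_distrib]
  refine memLocalIdeal_sum hM _ _ fun c _ => ?_
  rw [← mul_sub]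
  exact h _

/-- **Blocks are determined by the central characters on the `p`-regular classes.** -/
theorem sameBlock_of_forall_reg {G : Type*} [Group G] [Finite G] {p : ℕ} {M : Ideal AlgInt}
    (hM : IsPModular p M) (χ ψ : IrrCharacter G)
    (h : ∀ g : G, ¬ p ∣ orderOf g →
      MemLocalIdeal M (centralChar (χ : G → ℂ) g - centralChar (ψ : G → ℂ) g)) :
    SameBlock M (χ : G → ℂ) (ψ : G → ℂ) := by
  classical
  have := Fintype.ofFinite G
  have hMp : M.IsPrime := hM.2.1.isPrime
  by_contra hns
  have hB : IsPBlock M (blockOf M (χ : G → ℂ)) := ⟨χ, rfl⟩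
  have hχB : χ ∈ blockOf M (χ : G → ℂ) := sameBlock_refl hMp _
  have hψB : ψ ∉ blockOf M (χ : G → ℂ) := hns
  have key := memLocalIdeal_omega_sub_of hMp (isIrrCharacter_isClassFunction χ.2)
    (isIrrCharacter_isClassFunction ψ.2) (blockCoeff_isClassFunction (blockOf M (χ : G → ℂ)))
    (fun g => by
      by_cases hg : p ∣ orderOf g
      · rw [Cfsg.Agent.Lib.Helper77_WeakOrth.blockCoeff_block_eq_zero_of_sing hM hB g hg, zero_mul]
        exact memLocalIdeal_zero hMp
      · exact memLocalIdeal_mul_left hMp (osima_block' hMp hB g) (h g hg))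
  rw [omega_blockCoeff charFacts _ χ, omega_blockCoeff charFacts _ ψ, Set.indicator_of_mem hχB,
    Set.indicator_of_notMem hψB, sub_zero] at key
  exact not_memLocalIdeal_one hMp key

/-- If the central character of a member of `B` at `h` is a unit modulo `M`, then the defect of the
class of `h` is at least the defect of `B`. -/
theorem blockDefect_le_of_centralChar {G : Type*} [Group G] [Finite G] {p : ℕ} {M : Ideal AlgInt}
    (hM : IsPModular p M) {B : Set (IrrCharacter G)} (hB : IsPBlock M B)
    {χ : IrrCharacter G} (hχ : χ ∈ B) (h : G)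
    (hh : ¬ MemLocalIdeal M (centralChar (χ : G → ℂ) h)) :
    blockDefect p B ≤ (Nat.card (Subgroup.centralizer ({h} : Set G))).factorization p := by
  have hMp : M.IsPrime := hM.2.1.isPrime
  have hne : B.Nonempty := ⟨χ, hχ⟩
  obtain ⟨χ₀, hχ₀, -, hdef⟩ := exists_height_zero p B hne
  have h0 : ¬ MemLocalIdeal M (centralChar (χ₀ : G → ℂ) h) := by
    intro hI
    apply hh
    have hsb := isPBlock_sameBlock hMp hB hχ hχ₀
    have := memLocalIdeal_add hMp (hsb h) hI
    rwa [sub_add_cancel] at this
  have h1 := factorization_index_le_of_centralChar hM χ₀ h h0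
  set C : Subgroup G := Subgroup.centralizer ({h} : Set G) with hC
  have hCpos : 0 < Nat.card C := Nat.card_pos
  have hIpos : C.index ≠ 0 := Subgroup.index_ne_zero_of_finite
  have hsplit : (Nat.card G).factorization p =
      (Nat.card C).factorization p + (C.index).factorization p := by
    rw [← Subgroup.card_mul_index C, Nat.factorization_mul hCpos.ne' hIpos]
    rfl
  rw [hdef]
  omega

/-- If the idempotent coefficient of `B` at `h` is a unit modulo `M`, then the defect of the class
of `h` is at most the defect of `B`. -/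
theorem factorization_card_centralizer_le_of_blockCoeff {G : Type*} [Group G] [Finite G] {p : ℕ}
    {M : Ideal AlgInt} (hM : IsPModular p M) {B : Set (IrrCharacter G)} (hB : IsPBlock M B)
    (h : G) (hh : ¬ MemLocalIdeal M (blockCoeff B h)) :
    (Nat.card (Subgroup.centralizer ({h} : Set G))).factorization p ≤ blockDefect p B := by
  classical
  have hp : p.Prime := hM.1
  have : Fact p.Prime := ⟨hp⟩
  have hMp : M.IsPrime := hM.2.1.isPrime
  have hne : B.Nonempty := isPBlock_nonempty hMp hB
  obtain ⟨χ₀, hχ₀, hmin, hdef⟩ := exists_height_zero p B hne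
  set C : Subgroup G := Subgroup.centralizer ({h} : Set G) with hC
  set a : ℕ := (Nat.card G).factorization p with ha
  set δ : ℕ := (Nat.card C).factorization p with hδ
  set t : ℕ := (charDegree (χ₀ : G → ℂ)).factorization p with ht
  have hta : t ≤ a := factorization_charDegree_le p χ₀
  have hGpos : 0 < Nat.card G := Nat.card_pos
  have hreg : ¬ p ∣ orderOf h := by
    intro hs
    apply hh
    rw [Cfsg.Agent.Lib.Helper77_WeakOrth.blockCoeff_block_eq_zero_of_sing hM hB h hs]
    exact memLocalIdeal_zero hMp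
  have h2 : δ + t ≤ a := by
    by_contra hlt
    push Not at hlt
    obtain ⟨P⟩ : Nonempty (Sylow p C) := inferInstance
    set Q : Subgroup G := (P : Subgroup C).map C.subtype with hQ
    have hQp : IsPGroup p Q := P.isPGroup'.map _
    have hQC : Q ≤ C := by
      rintro _ ⟨u, -, rfl⟩
      exact u.2
    have hQcard : Nat.card Q = p ^ δ := by
      rw [hQ, Subgroup.card_map_of_injective C.subtype_injective, hδ]
      exact P.card_eq_multiplicity
    obtain ⟨α, hα, hαv⟩ := card_mul_blockCoeff_eq hM hB t (fun χ hχ => hmin χ hχ) h hreg Q hQp hQC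
    apply hh
    have hGdec : Nat.card G = p ^ a * (Nat.card G / p ^ a) :=
      (Nat.ordProj_mul_ordCompl_eq_self (Nat.card G) p).symm
    have hm' : ¬ p ∣ Nat.card G / p ^ a := Nat.not_dvd_ordCompl hp hGpos.ne'
    set m' : ℕ := Nat.card G / p ^ a with hm'def
    obtain ⟨e, he⟩ := Nat.exists_eq_add_of_lt hlt
    have hm0 : (m' : ℂ) ≠ 0 := by
      have : m' ≠ 0 := fun h0 => hm' (h0 ▸ dvd_zero p)
      exact_mod_cast this
    have hp0 : (p : ℂ) ≠ 0 := by exact_mod_cast hp.ne_zero
    have hval : blockCoeff B h = (p : ℂ) * (((p ^ e : ℕ) : ℂ) * α * (m' : ℂ)⁻¹) := by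
      have hG' : (Nat.card G : ℂ) = (p : ℂ) ^ a * m' := by exact_mod_cast hGdec
      rw [hG', hQcard] at hαv
      have hpa : (p : ℂ) ^ a ≠ 0 := pow_ne_zero _ hp0
      have : (p : ℂ) ^ t * ((p ^ δ : ℕ) : ℂ) = (p : ℂ) ^ a * p * (p : ℂ) ^ e := by
        push_cast
        rw [← pow_add, add_comm t δ, he, pow_add, pow_add, pow_one]
        ring
      rw [this] at hαv
      push_cast
      field_simp
      field_simp at hαv
      linear_combination hαv
    rw [hval]
    apply memLocalIdeal_mul_right hMp
    · exact (memLocalIdeal_natCast_iff hM p).mpr dvd_rfl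
    · apply memLocalRing_mul hMp
      · exact memLocalRing_mul hMp (memLocalRing_natCast hMp _) (memLocalRing_algInt hMp ⟨α, hα⟩)
      · exact memLocalRing_inv_natCast hM hm'
  rw [hdef]
  omega

end Cfsg.Agent.Lib.Helper77_RegClasses
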