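import Mathlib
import Cfsg.Prelude.Def_Characters
import Cfsg.Prelude.Def_Blocks
import Cfsg.Agent.Lib.Helper80_CharComplete
import Cfsg.Agent.Lib.Helper16_Quot
import Cfsg.Agent.Lib.Helper78_CentralChar
import Cfsg.Agent.S4835
import Cfsg.Agent.S0135

set_option autoImplicit false
set_option linter.style.haveILetI false

namespace Cfsg.Agent.Lib.Helper80_Codegree

open scoped ComplexConjugate
open Cfsg.Agent.Lib.Helper80_CharBasic Cfsg.Agent.Lib.Helper80_CharComplete
open Cfsg.Agent.S4835 (irrKer mem_irrKer)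

/-- The codegree of an irreducible character, in the shape used by the statements. -/
noncomputable def cod {G : Type*} [Group G] (χ : Cfsg.IrrCharacter G) : ℕ :=
  Nat.card G / (Nat.card {g : G // (χ : G → ℂ) g = (χ : G → ℂ) 1} * Cfsg.charDegree (χ : G → ℂ))

theorem card_ker_eq {G : Type*} [Group G] [Finite G] (χ : Cfsg.IrrCharacter G) :
    Nat.card {g : G // (χ : G → ℂ) g = (χ : G → ℂ) 1} = Nat.card (irrKer χ) := rfl

theorem charDegree_pos {G : Type*} [Group G] (χ : Cfsg.IrrCharacter G) :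
    0 < Cfsg.charDegree (χ : G → ℂ) := by
  obtain ⟨n, hn, h1⟩ := irr_apply_one χ
  rw [Cfsg.Agent.Lib.Helper78_CentralChar.charDegree_eq_of_one_eq_natCast h1]
  exact hn

theorem apply_one_eq_charDegree {G : Type*} [Group G] (χ : Cfsg.IrrCharacter G) :
    (χ : G → ℂ) 1 = (Cfsg.charDegree (χ : G → ℂ) : ℂ) := by
  obtain ⟨n, hn, h1⟩ := irr_apply_one χ
  rw [Cfsg.Agent.Lib.Helper78_CentralChar.charDegree_eq_of_one_eq_natCast h1]
  exact h1

/-- The degree of an irreducible character divides the index of its kernel. -/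
theorem charDegree_dvd_index_ker {G : Type*} [Group G] [Finite G] (χ : Cfsg.IrrCharacter G) :
    Cfsg.charDegree (χ : G → ℂ) ∣ (irrKer χ).index := by
  obtain ⟨m, σ, hσ, hσχ⟩ := χ.2
  haveI := hσ
  have h1 : (χ : G → ℂ) 1 = (m : ℂ) := by
    rw [← hσχ, Representation.char_one]; simp
  rw [Cfsg.Agent.Lib.Helper78_CentralChar.charDegree_eq_of_one_eq_natCast h1]
  haveI : Representation.IsTrivial (σ.comp (irrKer χ).subtype) := by
    constructor
    intro k
    have hk : (χ : G → ℂ) (k : G) = (χ : G → ℂ) 1 := k.2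
    rw [← hσχ, Representation.char_one] at hk
    exact (Cfsg.Agent.Lib.Helper3_CharEigen.char_eq_finrank_iff σ (k : G)).mp hk
  haveI := Cfsg.Agent.Lib.Helper16_Quot.ofQuotient_irreducible σ (irrKer χ)
  have h := Cfsg.Agent.S0135.result (Representation.ofQuotient σ (irrKer χ))
  simp only [Module.finrank_fin_fun] at h
  rw [Subgroup.index_eq_card]
  exact h

theorem card_ker_mul_charDegree_dvd {G : Type*} [Group G] [Finite G] (χ : Cfsg.IrrCharacter G) :
    Nat.card {g : G // (χ : G → ℂ) g = (χ : G → ℂ) 1} * Cfsg.charDegree (χ : G → ℂ) ∣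
      Nat.card G := by
  rw [card_ker_eq, ← (irrKer χ).card_mul_index]
  exact Nat.mul_dvd_mul_left _ (charDegree_dvd_index_ker χ)

theorem cod_mul {G : Type*} [Group G] [Finite G] (χ : Cfsg.IrrCharacter G) :
    cod χ * (Nat.card {g : G // (χ : G → ℂ) g = (χ : G → ℂ) 1} *
      Cfsg.charDegree (χ : G → ℂ)) = Nat.card G :=
  Nat.div_mul_cancel (card_ker_mul_charDegree_dvd χ)

theorem cod_mul_charDegree {G : Type*} [Group G] [Finite G] (χ : Cfsg.IrrCharacter G) :
    cod χ * Cfsg.charDegree (χ : G → ℂ) = (irrKer χ).index := by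
  have h1 := cod_mul χ
  rw [card_ker_eq, ← (irrKer χ).card_mul_index] at h1
  have hpos : 0 < Nat.card (irrKer χ) := Nat.card_pos
  have : Nat.card (irrKer χ) * (cod χ * Cfsg.charDegree (χ : G → ℂ)) =
      Nat.card (irrKer χ) * (irrKer χ).index := by
    rw [← h1]; ring
  exact Nat.eq_of_mul_eq_mul_left hpos this

theorem cod_dvd_card {G : Type*} [Group G] [Finite G] (χ : Cfsg.IrrCharacter G) :
    cod χ ∣ Nat.card G := Dvd.intro _ (cod_mul χ)

theorem cod_dvd_index_ker {G : Type*} [Group G] [Finite G] (χ : Cfsg.IrrCharacter G) :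
    cod χ ∣ (irrKer χ).index := Dvd.intro _ (cod_mul_charDegree χ)

end Cfsg.Agent.Lib.Helper80_Codegree
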