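import Mathlib
import Cfsg.Prelude.Def_Blocks
import Cfsg.Agent.Lib.Helper77_RegClasses
import Cfsg.Agent.Lib.Helper77_WeakOrth
import Cfsg.Agent.Lib.Helper77_BlockBasics
import Cfsg.Agent.Lib.Helper16_Quot
import Cfsg.Agent.Lib.Helper3_CharEigen
import Cfsg.Agent.S4808

set_option autoImplicit false

namespace Cfsg.Agent.Lib.Helper77_QuotBlocks

open Cfsg Cfsg.Agent.Lib.Helper78_LocalRing Cfsg.Agent.Lib.Helper77_BlockBasics

open scoped ComplexConjugate

/-- An irreducible character with the normal subgroup `P` in its kernel is inflated from an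
irreducible character of `G ⧸ P`. -/
theorem exists_quot_char {G : Type*} [Group G] [Finite G] (P : Subgroup G) [P.Normal]
    (θ : IrrCharacter G) (h : ∀ u ∈ P, (θ : G → ℂ) u = (θ : G → ℂ) 1) :
    ∃ χ : IrrCharacter (G ⧸ P), (θ : G → ℂ) = (χ : G ⧸ P → ℂ) ∘ QuotientGroup.mk := by
  obtain ⟨θ, n, ρ, hirr, rfl⟩ := θ
  have : ρ.IsIrreducible := hirr
  simp only at h ⊢
  have htriv : Representation.IsTrivial (ρ.comp P.subtype) := by
    constructor
    intro u
    have h1 := h u u.2
    rw [Representation.char_one] at h1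
    have := (Cfsg.Agent.Lib.Helper3_CharEigen.char_eq_finrank_iff ρ (u : G)).mp h1
    exact this
  refine ⟨⟨(Representation.ofQuotient ρ P).character, n, Representation.ofQuotient ρ P,
    Cfsg.Agent.Lib.Helper16_Quot.ofQuotient_irreducible ρ P, rfl⟩, ?_⟩
  funext g
  simp only [Function.comp]
  rw [Cfsg.Agent.Lib.Helper16_Quot.ofQuotient_character]

/-- The preimage of the centralizer of `mk g` contains the centralizer of `g`. -/
theorem centralizer_le_comap {G : Type*} [Group G] (P : Subgroup G) [P.Normal] (g : G) :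
    Subgroup.centralizer ({g} : Set G) ≤
      (Subgroup.centralizer ({(QuotientGroup.mk g : G ⧸ P)} : Set (G ⧸ P))).comap
        (QuotientGroup.mk' P) := by
  intro c hc
  rw [Subgroup.mem_comap, Subgroup.mem_centralizer_iff]
  intro h hh
  rw [Set.mem_singleton_iff] at hh
  subst hh
  have := Subgroup.mem_centralizer_iff.mp hc g (Set.mem_singleton g)
  simp only [QuotientGroup.mk'_apply]
  rw [← QuotientGroup.mk_mul, ← QuotientGroup.mk_mul, this]

/-- The central character of an inflated function is a natural multiple of the central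
character of the original function. -/
theorem centralChar_comp_mk {G : Type*} [Group G] [Finite G] (P : Subgroup G) [P.Normal] (g : G) :
    ∃ k : ℕ, ∀ f : G ⧸ P → ℂ, centralChar (f ∘ QuotientGroup.mk) g =
      (k : ℂ) * centralChar f (QuotientGroup.mk g) := by
  set H := (Subgroup.centralizer ({(QuotientGroup.mk g : G ⧸ P)} : Set (G ⧸ P))).comap
    (QuotientGroup.mk' P) with hH
  have hle := centralizer_le_comap P g
  have h1 := Subgroup.relIndex_mul_index hle
  have h2 : H.index =
      (Subgroup.centralizer ({(QuotientGroup.mk g : G ⧸ P)} : Set (G ⧸ P))).index :=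
    Subgroup.index_comap_of_surjective _ (QuotientGroup.mk'_surjective P)
  refine ⟨(Subgroup.centralizer ({g} : Set G)).relIndex H, fun f => ?_⟩
  unfold centralChar
  simp only [Function.comp]
  rw [← h1, h2]
  push_cast
  have : (QuotientGroup.mk (1 : G) : G ⧸ P) = 1 := rfl
  rw [this]
  ring


/-- For a `p`-regular element `y` centralizing the normal `p`-subgroup `P`, the preimage of the
centralizer of `mk y` in `G ⧸ P` is the centralizer of `y`. -/
theorem comap_centralizer_eq {G : Type*} [Group G] {p : ℕ} [Fact p.Prime] (P : Subgroup G)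
    [P.Normal] (hP : IsPGroup p P) (y : G) (hyfin : IsOfFinOrder y) (hy : ¬ p ∣ orderOf y)
    (hyP : ∀ u ∈ P, y * u = u * y) :
    (Subgroup.centralizer ({(QuotientGroup.mk y : G ⧸ P)} : Set (G ⧸ P))).comap
        (QuotientGroup.mk' P) = Subgroup.centralizer ({y} : Set G) := by
  refine le_antisymm ?_ (centralizer_le_comap P y)
  intro c hc
  rw [Subgroup.mem_comap, Subgroup.mem_centralizer_iff] at hc
  have h1 := hc _ (Set.mem_singleton _)
  simp only [QuotientGroup.mk'_apply] at h1
  rw [← QuotientGroup.mk_mul, ← QuotientGroup.mk_mul] at h1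
  -- `u = y⁻¹ (c⁻¹ y c) ∈ P`
  have hu : y⁻¹ * (c⁻¹ * y * c) ∈ P := by
    have h2 := QuotientGroup.eq.mp h1
    have : y⁻¹ * (c⁻¹ * y * c) = ((y * c)⁻¹ * (c * y))⁻¹ := by group
    rw [this]
    exact P.inv_mem h2
  set u := y⁻¹ * (c⁻¹ * y * c) with hudef
  have hz : c⁻¹ * y * c = y * u := by rw [hudef]; group
  have hcomm : Commute y u := hyP u hu
  set r := orderOf y with hr
  have hzr : (c⁻¹ * y * c) ^ r = 1 := by
    have : (c⁻¹ * y * c) ^ r = c⁻¹ * y ^ r * c := by
      have := conj_pow (a := c⁻¹) (b := y) (i := r)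
      simpa using this
    rw [this, hr, pow_orderOf_eq_one]
    group
  have hur : u ^ r = 1 := by
    rw [hz, hcomm.mul_pow, hr, pow_orderOf_eq_one, one_mul] at hzr
    exact hzr
  obtain ⟨k, hk⟩ := hP ⟨u, hu⟩
  have hk' : u ^ (p ^ k) = 1 := by
    have := congrArg Subtype.val hk
    simpa using this
  have hcop : Nat.gcd (p ^ k) r = 1 := by
    apply Nat.Coprime.pow_left
    exact (Nat.Prime.coprime_iff_not_dvd (Fact.out : p.Prime)).mpr hy
  have hu1 : u = 1 := by
    have := (pow_gcd_eq_one (a := u) (m := p ^ k) (n := r)).mpr ⟨hk', hur⟩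
    rwa [hcop, pow_one] at this
  rw [hu1, mul_one] at hz
  rw [Subgroup.mem_centralizer_iff]
  intro h hh
  rw [Set.mem_singleton_iff] at hh
  subst hh
  calc h * c = c * (c⁻¹ * h * c) := by group
    _ = c * h := by rw [hz]

/-- A `p`-regular element of `G ⧸ P`, `P` a `p`-group, lifts to a `p`-regular element. -/
theorem exists_reg_lift {G : Type*} [Group G] [Finite G] {p : ℕ} [Fact p.Prime] (P : Subgroup G)
    [P.Normal] (q : G ⧸ P) (hq : ¬ p ∣ orderOf q) :
    ∃ y : G, ¬ p ∣ orderOf y ∧ (QuotientGroup.mk y : G ⧸ P) = q := by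
  obtain ⟨g, rfl⟩ := QuotientGroup.mk_surjective q
  have hp : p.Prime := Fact.out
  set o := orderOf g with ho
  have hopos : 0 < o := orderOf_pos g
  set a := o.factorization p with ha
  have hcop : (p ^ a).Coprime (orderOf (QuotientGroup.mk g : G ⧸ P)) := by
    apply Nat.Coprime.pow_left
    exact (Nat.Prime.coprime_iff_not_dvd hp).mpr hq
  obtain ⟨m, hm⟩ := exists_pow_eq_self_of_coprime hcop
  refine ⟨(g ^ (p ^ a)) ^ m, ?_, ?_⟩
  · have h1 : ((g ^ (p ^ a)) ^ m) ^ (o / p ^ a) = 1 := by
      have h0 : p ^ a * (m * (o / p ^ a)) = o * m := by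
        rw [mul_left_comm, Nat.mul_div_cancel' (Nat.ordProj_dvd o p), mul_comm]
      rw [← pow_mul, ← pow_mul, h0, pow_mul, ho, pow_orderOf_eq_one, one_pow]
    have h2 := orderOf_dvd_of_pow_eq_one h1
    intro h3
    exact Nat.not_dvd_ordCompl hp hopos.ne' (dvd_trans h3 h2)
  · rw [QuotientGroup.mk_pow, QuotientGroup.mk_pow, hm]


/-- Functions on `G ⧸ P` in the same block inflate to functions in the same block. -/
theorem sameBlock_comp_mk {G : Type*} [Group G] [Finite G] {M : Ideal AlgInt} (hM : M.IsPrime)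
    (P : Subgroup G) [P.Normal] {f₁ f₂ : G ⧸ P → ℂ} (h : SameBlock M f₁ f₂) :
    SameBlock M (f₁ ∘ QuotientGroup.mk) (f₂ ∘ QuotientGroup.mk) := by
  intro g
  obtain ⟨k, hk⟩ := centralChar_comp_mk P g
  rw [hk f₁, hk f₂, ← mul_sub]
  exact memLocalIdeal_mul_left hM (memLocalRing_natCast hM k) (h _)

/-- If `G ⧸ C_G(P)` is a `p`-group, every `p`-regular element centralizes `P`. -/
theorem commute_of_index_centralizer {G : Type*} [Group G] [Finite G] {p : ℕ} [Fact p.Prime]
    (P : Subgroup G) [P.Normal] {k : ℕ}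
    (hC : (Subgroup.centralizer (P : Set G)).index = p ^ k) (y : G) (hy : ¬ p ∣ orderOf y) :
    ∀ u ∈ P, y * u = u * y := by
  have hCn : (Subgroup.centralizer (P : Set G)).Normal := Subgroup.normal_centralizer
  have hp : p.Prime := Fact.out
  have h1 : orderOf (QuotientGroup.mk y : G ⧸ Subgroup.centralizer (P : Set G)) ∣ p ^ k := by
    rw [← hC, Subgroup.index_eq_card]
    exact orderOf_dvd_natCard _
  have h2 : orderOf (QuotientGroup.mk y : G ⧸ Subgroup.centralizer (P : Set G)) ∣ orderOf y :=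
    orderOf_map_dvd (QuotientGroup.mk' (Subgroup.centralizer (P : Set G))) y
  have h3 : orderOf (QuotientGroup.mk y : G ⧸ Subgroup.centralizer (P : Set G)) = 1 := by
    have hcop : (p ^ k).Coprime (orderOf y) :=
      Nat.Coprime.pow_left k ((Nat.Prime.coprime_iff_not_dvd hp).mpr hy)
    exact Nat.eq_one_of_dvd_coprimes hcop h1 h2
  rw [orderOf_eq_one_iff, QuotientGroup.eq_one_iff] at h3
  intro u hu
  exact (Subgroup.mem_centralizer_iff.mp h3 u hu).symm

/-- If every `p`-regular element centralizes the normal `p`-subgroup `P`, irreducible characters of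
`G ⧸ P` whose inflations lie in the same block lie in the same block. -/
theorem sameBlock_of_comp_mk {G : Type*} [Group G] [Finite G] {p : ℕ} [Fact p.Prime]
    {M : Ideal AlgInt} (hM : IsPModular p M) (P : Subgroup G) [P.Normal] (hP : IsPGroup p P)
    (hreg : ∀ y : G, ¬ p ∣ orderOf y → ∀ u ∈ P, y * u = u * y)
    (χ ψ : IrrCharacter (G ⧸ P))
    (h : SameBlock M ((χ : G ⧸ P → ℂ) ∘ QuotientGroup.mk) ((ψ : G ⧸ P → ℂ) ∘ QuotientGroup.mk)) :
    SameBlock M (χ : G ⧸ P → ℂ) (ψ : G ⧸ P → ℂ) := by
  apply Cfsg.Agent.Lib.Helper77_RegClasses.sameBlock_of_forall_reg hM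
  intro q hq
  obtain ⟨y, hy, rfl⟩ := exists_reg_lift P q hq
  have hcen := comap_centralizer_eq P hP y (isOfFinOrder_of_finite y) hy (hreg y hy)
  have hidx : (Subgroup.centralizer ({(QuotientGroup.mk y : G ⧸ P)} : Set (G ⧸ P))).index =
      (Subgroup.centralizer ({y} : Set G)).index := by
    rw [← hcen]
    exact (Subgroup.index_comap_of_surjective _ (QuotientGroup.mk'_surjective P)).symm
  have := h y
  unfold centralChar at this ⊢
  simp only [Function.comp] at this
  rw [hidx]
  exact this

/-- Every block contains a character with the normal `p`-subgroup `P` in its kernel. -/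
theorem exists_mem_ker {G : Type*} [Group G] [Finite G] {p : ℕ} [Fact p.Prime]
    {M : Ideal AlgInt} (hM : IsPModular p M) (P : Subgroup G) [P.Normal] (hP : IsPGroup p P)
    {B : Set (IrrCharacter G)} (hB : IsPBlock M B) :
    ∃ θ ∈ B, ∀ u ∈ P, (θ : G → ℂ) u = (θ : G → ℂ) 1 := by
  classical
  have := Fintype.ofFinite G
  have := Fintype.ofFinite P
  have hp : p.Prime := Fact.out
  have hMp : M.IsPrime := isPrime_of_isPModular hM
  have hfin : Finite (IrrCharacter G) := Cfsg.Agent.Lib.Helper78_CharFacts.charFacts.finite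
  by_contra hcon
  push Not at hcon
  have hGne : (Nat.card G : ℂ) ≠ 0 := by exact_mod_cast (Nat.card_pos (α := G)).ne'
  -- the sum of the block idempotent over `P`
  have hsum0 : ∑ u : P, blockCoeff B (u : G) = 0 := by
    unfold blockCoeff
    rw [← Finset.mul_sum]
    simp_rw [finsum_mem_eq_finite_toFinset_sum _ (Set.toFinite B)]
    rw [Finset.sum_comm, Finset.sum_eq_zero, mul_zero]
    intro θ hθ
    rw [Set.Finite.mem_toFinset] at hθ
    rw [← Finset.mul_sum, ← map_sum, Cfsg.Agent.S4808.sum_over_normal θ P, if_neg, map_zero,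
      mul_zero]
    intro hle
    obtain ⟨u, hu, hne⟩ := hcon θ hθ
    exact hne ((Cfsg.Agent.S4835.mem_irrKer θ u).mp (hle hu))
  have hsum1 : ∑ u : P, blockCoeff B (u : G) = blockCoeff B 1 := by
    rw [Finset.sum_eq_single (1 : P)]
    · rfl
    · intro u _ hu
      apply Cfsg.Agent.Lib.Helper77_WeakOrth.blockCoeff_block_eq_zero_of_sing hM hB
      obtain ⟨k, hk⟩ := (IsPGroup.iff_orderOf.mp hP) u
      rw [Subgroup.orderOf_coe, hk]
      rcases Nat.eq_zero_or_pos k with h0 | h0
      · exfalso
        rw [h0, pow_zero, orderOf_eq_one_iff] at hk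
        exact hu hk
      · exact dvd_pow_self p h0.ne'
    · intro h
      exact absurd (Finset.mem_univ _) h
  rw [hsum1] at hsum0
  -- but the coefficient at `1` is positive
  obtain ⟨χ₀, hχ₀⟩ := isPBlock_nonempty hMp hB
  unfold blockCoeff at hsum0
  rw [mul_eq_zero] at hsum0
  rcases hsum0 with h0 | h0
  · exact (inv_ne_zero hGne) h0
  · rw [finsum_mem_eq_finite_toFinset_sum _ (Set.toFinite B)] at h0
    have h1 : ∀ θ : IrrCharacter G, (θ : G → ℂ) 1 * conj ((θ : G → ℂ) 1) =
        ((charDegree (θ : G → ℂ) ^ 2 : ℕ) : ℂ) := by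
      intro θ
      rw [apply_one_eq_charDegree θ, Complex.conj_natCast]
      push_cast
      ring
    simp_rw [h1] at h0
    rw [← Nat.cast_sum, Nat.cast_eq_zero, Finset.sum_eq_zero_iff] at h0
    have := h0 χ₀ ((Set.Finite.mem_toFinset _).mpr hχ₀)
    have hpos := charDegree_pos χ₀
    have : charDegree (χ₀ : G → ℂ) = 0 := by
      rcases Nat.eq_zero_or_pos (charDegree (χ₀ : G → ℂ)) with h | h
      · exact h
      · exfalso
        have := pow_pos h 2
        omega
    omega

end Cfsg.Agent.Lib.Helper77_QuotBlocks
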