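import Mathlib
import Cfsg.Prelude.Def_Characters
import Cfsg.Agent.Lib.Helper16_Char
import Cfsg.Agent.Lib.Helper80_CharBasic
import Cfsg.Agent.Lib.Helper80_CharComplete

/-!
Shared helper library of seat helper80: multiplicativity of the central character on class sums
(`∑ₕ χ(h⁻¹ a h b) = (|G|/χ(1)) χ(a) χ(b)`), and the basic facts on fully ramified characters
(`χ_Z = e θ`, `e² = |H : Z|`): `χ` vanishes off `Z`, `θ` is invariant.
-/

set_option autoImplicit false

namespace Cfsg.Agent.Lib.Helper80_FullyRamified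

open Cfsg
open scoped ComplexConjugate
open Cfsg.Agent.Lib.Helper80_CharBasic Cfsg.Agent.Lib.Helper80_CharComplete

section rep

variable {G : Type*} [Group G] [Fintype G] {V : Type*} [AddCommGroup V] [Module ℂ V]
  [FiniteDimensional ℂ V]

/-- `∑ₕ χ(h⁻¹ a h b) = (|G| / χ(1)) χ(a) χ(b)` for an irreducible representation. -/
theorem sum_conj_mul_character (ρ : Representation ℂ G V) [ρ.IsIrreducible] (a b : G) :
    ∑ h : G, ρ.character (h⁻¹ * a * h * b) =
      (Nat.card G : ℂ) / ρ.character 1 * ρ.character a * ρ.character b := by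
  classical
  set T : Module.End ℂ V := ∑ h : G, ρ (h⁻¹ * a * h) with hT
  have hcomm : ∀ g : G, T ∘ₗ ρ g = ρ g ∘ₗ T := by
    intro g
    show T * ρ g = ρ g * T
    rw [hT, Finset.sum_mul, Finset.mul_sum]
    have h2 : ∑ h : G, ρ g * ρ (h⁻¹ * a * h) = ∑ h : G, ρ g * ρ ((h * g)⁻¹ * a * (h * g)) :=
      (Equiv.sum_comp (Equiv.mulRight g) (fun h => ρ g * ρ (h⁻¹ * a * h))).symm
    rw [h2]
    refine Finset.sum_congr rfl fun h _ => ?_
    rw [← map_mul, ← map_mul]
    congr 1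
    group
  obtain ⟨c, hc⟩ := Cfsg.Agent.Lib.Helper16_Char.schur_scalar ρ T hcomm
  have hfr : (Module.finrank ℂ V : ℂ) ≠ 0 := by
    rw [Nat.cast_ne_zero]
    exact (Cfsg.Agent.Lib.Helper16_Char.finrank_pos_of_irreducible ρ).ne'
  have htr : LinearMap.trace ℂ V T = (Nat.card G : ℂ) * ρ.character a := by
    rw [hT, map_sum]
    have : ∀ h : G, LinearMap.trace ℂ V (ρ (h⁻¹ * a * h)) = ρ.character a := by
      intro h
      have := Representation.char_conj ρ a h⁻¹
      rw [inv_inv] at this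
      exact this
    simp only [this, Finset.sum_const, Finset.card_univ, nsmul_eq_mul, Nat.card_eq_fintype_card]
  have hc2 : c * (Module.finrank ℂ V : ℂ) = (Nat.card G : ℂ) * ρ.character a := by
    rw [← htr, hc, map_smul, LinearMap.trace_one, smul_eq_mul]
  have hsum : ∑ h : G, ρ.character (h⁻¹ * a * h * b) = LinearMap.trace ℂ V (T * ρ b) := by
    rw [hT, Finset.sum_mul, map_sum]
    refine Finset.sum_congr rfl fun h _ => ?_
    rw [← map_mul]
    rfl
  rw [hsum, hc, smul_mul_assoc, one_mul, map_smul, smul_eq_mul, Representation.char_one]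
  have : c = (Nat.card G : ℂ) * ρ.character a / (Module.finrank ℂ V : ℂ) := by
    rw [eq_div_iff hfr, hc2]
  rw [this]
  show _ * ρ.character b = _
  field_simp

/-- `∑ₕ χ(b (h a h⁻¹)) = (|G| / χ(1)) χ(a) χ(b)` for an irreducible representation. -/
theorem sum_mul_conj_character (ρ : Representation ℂ G V) [ρ.IsIrreducible] (a b : G) :
    ∑ h : G, ρ.character (b * (h * a * h⁻¹)) =
      (Nat.card G : ℂ) / ρ.character 1 * ρ.character a * ρ.character b := by
  rw [← sum_conj_mul_character ρ a b]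
  have h2 : ∑ h : G, ρ.character (b * (h * a * h⁻¹)) =
      ∑ h : G, ρ.character (b * (h⁻¹ * a * h⁻¹⁻¹)) :=
    (Equiv.sum_comp (Equiv.inv G) (fun h => ρ.character (b * (h * a * h⁻¹)))).symm
  rw [h2]
  refine Finset.sum_congr rfl fun h _ => ?_
  rw [inv_inv, Representation.char_mul_comm]

end rep

/-- `∑ₕ χ(h⁻¹ a h b) = (|G| / χ(1)) χ(a) χ(b)` for an irreducible character. -/
theorem sum_conj_mul_irr {G : Type*} [Group G] [Fintype G] (χ : Cfsg.IrrCharacter G) (a b : G) :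
    ∑ h : G, (χ : G → ℂ) (h⁻¹ * a * h * b) =
      (Nat.card G : ℂ) / (χ : G → ℂ) 1 * (χ : G → ℂ) a * (χ : G → ℂ) b := by
  obtain ⟨χ, n, ρ, hirr, rfl⟩ := χ
  haveI := hirr
  exact sum_conj_mul_character ρ a b

/-- `∑ₕ χ(b (h a h⁻¹)) = (|G| / χ(1)) χ(a) χ(b)` for an irreducible character. -/
theorem sum_mul_conj_irr {G : Type*} [Group G] [Fintype G] (χ : Cfsg.IrrCharacter G) (a b : G) :
    ∑ h : G, (χ : G → ℂ) (b * (h * a * h⁻¹)) =
      (Nat.card G : ℂ) / (χ : G → ℂ) 1 * (χ : G → ℂ) a * (χ : G → ℂ) b := by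
  obtain ⟨χ, n, ρ, hirr, rfl⟩ := χ
  haveI := hirr
  exact sum_mul_conj_character ρ a b

/-- A character `χ` with `χ_Z = e θ`, `e² = |H : Z|` vanishes off `Z`. -/
theorem vanish_off {H : Type*} [Group H] [Fintype H] (Z : Subgroup H) [Fintype Z]
    (χ : Cfsg.IrrCharacter H) (θ : Cfsg.IrrCharacter Z) (e : ℕ) (he : e ^ 2 = Z.index)
    (hχZ : ∀ z : Z, (χ : H → ℂ) z = (e : ℂ) * (θ : Z → ℂ) z) {x : H} (hx : x ∉ Z) :
    (χ : H → ℂ) x = 0 := by
  classical
  have h1 := irr_norm_conj χ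
  have h2 := irr_norm_conj θ
  have hsplit : ∑ h : H, (χ : H → ℂ) h * conj ((χ : H → ℂ) h) =
      ∑ h ∈ Finset.univ.filter (fun h : H => h ∈ Z), (χ : H → ℂ) h * conj ((χ : H → ℂ) h) +
      ∑ h ∈ Finset.univ.filter (fun h : H => ¬ h ∈ Z), (χ : H → ℂ) h * conj ((χ : H → ℂ) h) :=
    (Finset.sum_filter_add_sum_filter_not _ _ _).symm
  have hZsum : ∑ h ∈ Finset.univ.filter (fun h : H => h ∈ Z),
      (χ : H → ℂ) h * conj ((χ : H → ℂ) h) = (Nat.card H : ℂ) := by
    rw [Finset.sum_subtype (Finset.univ.filter (fun h : H => h ∈ Z)) (p := fun h => h ∈ Z)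
      (fun h => by simp) (fun h => (χ : H → ℂ) h * conj ((χ : H → ℂ) h))]
    have : ∀ z : Z, (χ : H → ℂ) z * conj ((χ : H → ℂ) z) =
        ((e : ℂ) ^ 2) * ((θ : Z → ℂ) z * conj ((θ : Z → ℂ) z)) := by
      intro z
      rw [hχZ z, map_mul, Complex.conj_natCast]
      ring
    simp only [this]
    rw [← Finset.mul_sum, h2]
    have h3 : Z.index * Nat.card Z = Nat.card H := Subgroup.index_mul_card Z
    rw [← h3, ← he]
    push_cast
    ring
  rw [hsplit, hZsum] at h1
  have h4 : ∑ h ∈ Finset.univ.filter (fun h : H => ¬ h ∈ Z),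
      (χ : H → ℂ) h * conj ((χ : H → ℂ) h) = 0 := by
    have := h1
    linear_combination this
  have h5 : ∑ h ∈ Finset.univ.filter (fun h : H => ¬ h ∈ Z),
      Complex.normSq ((χ : H → ℂ) h) = 0 := by
    have h6 : ∀ h : H, (χ : H → ℂ) h * conj ((χ : H → ℂ) h) =
        ((Complex.normSq ((χ : H → ℂ) h) : ℝ) : ℂ) := fun h => Complex.mul_conj _
    simp only [h6] at h4
    exact_mod_cast h4
  have h7 := (Finset.sum_eq_zero_iff_of_nonneg (fun h _ => Complex.normSq_nonneg _)).mp h5 x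
    (by simp [hx])
  exact Complex.normSq_eq_zero.mp h7

end Cfsg.Agent.Lib.Helper80_FullyRamified
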