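import Mathlib
import Cfsg.Prelude.Def_Characters
import Cfsg.Prelude.Def_Blocks
import Cfsg.Prelude.Def_Solvable
import Cfsg.Agent.Lib.Helper80_CharInd
import Cfsg.Agent.Lib.Helper80_Codegree
import Cfsg.Agent.Lib.Helper80_FullyRamified
import Cfsg.Agent.Lib.Helper75_CharArith
import Cfsg.Agent.Lib.Helper57_FrobNorm
import Cfsg.Agent.Lib.Helper77_QuotBlocks
import Cfsg.Agent.Lib.Helper1_Cores
import Cfsg.Agent.Lib.Helper75_SolvStep
import Cfsg.Agent.S4835

/-!
# The Broline–Garrison theorem (helper80)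

If `χ ∈ Irr(G)` has kernel `K` and `H` is a maximal subgroup with `G = KH`, then either some
irreducible constituent `ψ` of `(χ_H)^G` has larger degree and kernel properly inside `K`, or
`K ∩ H` is normal and `χ` vanishes off `K · core(H)`.
-/

set_option autoImplicit false
set_option linter.style.haveILetI false

namespace Cfsg.Agent.Lib.Helper80_BrolineGarrison

open scoped ComplexConjugate
open Cfsg.Agent.Lib.Helper80_CharBasic Cfsg.Agent.Lib.Helper80_CharComplete
open Cfsg.Agent.S4835 (irrKer mem_irrKer)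

/-- An irreducible character trivial on the normal subgroup `N` is constant on cosets of `N`. -/
theorem irr_ker_mul {G : Type*} [Group G] [Finite G] (N : Subgroup G) [N.Normal]
    (ψ : Cfsg.IrrCharacter G) (hN : ∀ u ∈ N, (ψ : G → ℂ) u = (ψ : G → ℂ) 1) (n g : G)
    (hn : n ∈ N) : (ψ : G → ℂ) (n * g) = (ψ : G → ℂ) g := by
  obtain ⟨ψb, hψb⟩ := Cfsg.Agent.Lib.Helper77_QuotBlocks.exists_quot_char N ψ hN
  rw [hψb]
  simp only [Function.comp_apply]
  have e : (QuotientGroup.mk (n * g) : G ⧸ N) = QuotientGroup.mk g := by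
    rw [QuotientGroup.eq]
    have h1 : g⁻¹ * n⁻¹ * g⁻¹⁻¹ ∈ N := ‹N.Normal›.conj_mem _ (N.inv_mem hn) _
    simpa [mul_assoc] using h1
  rw [e]

/-- Restriction of an irreducible character trivial on `N` to a supplement of `N` is
irreducible. -/
theorem res_irr {G : Type*} [Group G] [Finite G] (N H : Subgroup G) [N.Normal]
    (hNH : N ⊔ H = ⊤) (ψ : Cfsg.IrrCharacter G)
    (hN : ∀ u ∈ N, (ψ : G → ℂ) u = (ψ : G → ℂ) 1) :
    Cfsg.IsIrrCharacter H (fun h : H => (ψ : G → ℂ) h) := by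
  obtain ⟨ψb, hψb⟩ := Cfsg.Agent.Lib.Helper77_QuotBlocks.exists_quot_char N ψ hN
  have hsurj : Function.Surjective ((QuotientGroup.mk' N).comp H.subtype) := by
    intro q
    obtain ⟨g, rfl⟩ := QuotientGroup.mk'_surjective N q
    have hg : g ∈ N ⊔ H := by rw [hNH]; trivial
    rw [← SetLike.mem_coe, Subgroup.normal_mul] at hg
    obtain ⟨n, hn, h, hh, rfl⟩ := hg
    refine ⟨⟨h, hh⟩, ?_⟩
    simp only [MonoidHom.coe_comp, Function.comp_apply, Subgroup.coe_subtype,
      QuotientGroup.mk'_apply]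
    rw [QuotientGroup.eq]
    apply ‹N.Normal›.mem_comm
    simpa using hn
  have := Cfsg.Agent.Lib.Helper57_FrobNorm.isIrrCharacter_comp_surjective _ hsurj ψb.2
  have e : (fun h : H => (ψ : G → ℂ) h) =
      fun x : H => (ψb : G ⧸ N → ℂ) (((QuotientGroup.mk' N).comp H.subtype) x) := by
    funext x
    rw [hψb]
    rfl
  rw [e]
  exact this

/-- `‖χ(g)‖ ≤ χ(1)` for an irreducible character. -/
theorem irr_norm_le {G : Type*} [Group G] [Finite G] (χ : Cfsg.IrrCharacter G) (g : G) :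
    ‖(χ : G → ℂ) g‖ ≤ (Cfsg.charDegree (χ : G → ℂ) : ℝ) := by
  obtain ⟨m, σ, hσ, hσχ⟩ := χ.2
  have h1 : (χ : G → ℂ) 1 = (m : ℂ) := by
    rw [← hσχ, Representation.char_one]; simp
  rw [Cfsg.Agent.Lib.Helper78_CentralChar.charDegree_eq_of_one_eq_natCast h1, ← hσχ]
  have := Cfsg.Agent.Lib.Helper3_CharEigen.norm_char_le σ g
  simpa using this

/-- If `‖z‖ ≤ d` and `re z = d` then `z = d`. -/
theorem eq_of_norm_le_of_re_eq {z : ℂ} {d : ℝ} (h1 : ‖z‖ ≤ d) (h2 : z.re = d) : z = (d : ℂ) := by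
  have hd : 0 ≤ d := (norm_nonneg z).trans h1
  have h3 : ‖z‖ ^ 2 ≤ d ^ 2 := pow_le_pow_left₀ (norm_nonneg z) h1 2
  rw [Complex.sq_norm, Complex.normSq_apply, h2] at h3
  have h4 : z.im * z.im ≤ 0 := by nlinarith
  have h5 : z.im = 0 := by
    have := mul_self_nonneg z.im
    have h6 : z.im * z.im = 0 := le_antisymm h4 this
    exact mul_self_eq_zero.mp h6
  apply Complex.ext
  · simpa using h2
  · simpa using h5

/-- The kernel of a character is contained in the kernel of each irreducible constituent. -/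
theorem ker_constituent {H : Type*} [Group H] [Fintype H] (φ : H → ℂ)
    (hφ : Cfsg.IsCharacter H φ) (θ : Cfsg.IrrCharacter H)
    (hne : Cfsg.classInner φ (θ : H → ℂ) ≠ 0) (x : H) (hx : φ x = φ 1) :
    (θ : H → ℂ) x = (θ : H → ℂ) 1 := by
  classical
  haveI := Fintype.ofFinite (Cfsg.IrrCharacter H)
  obtain ⟨b, hb, hexp⟩ := Cfsg.Agent.Lib.Helper80_CharInd.char_decomp φ hφ
  have hbθ : b θ ≠ 0 := by
    intro h0
    apply hne
    rw [hb θ, h0]
    simp
  have h1 := congrFun hexp 1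
  have hxx := congrFun hexp x
  simp only [Finset.sum_apply, Pi.smul_apply, smul_eq_mul] at h1 hxx
  have hsum : ∑ η : Cfsg.IrrCharacter H,
      (b η : ℝ) * ((Cfsg.charDegree (η : H → ℂ) : ℝ) - ((η : H → ℂ) x).re) = 0 := by
    have h2 : ∑ η : Cfsg.IrrCharacter H, (b η : ℂ) * ((η : H → ℂ) 1 - (η : H → ℂ) x) = 0 := by
      simp only [mul_sub, Finset.sum_sub_distrib]
      rw [← h1, ← hxx, hx, sub_self]
    have h3 := congrArg Complex.re h2
    rw [Complex.re_sum] at h3
    simp only [Complex.zero_re] at h3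
    rw [← h3]
    apply Finset.sum_congr rfl
    intro η _
    rw [Cfsg.Agent.Lib.Helper80_Codegree.apply_one_eq_charDegree η]
    simp [Complex.mul_re]
  have hnonneg : ∀ η ∈ (Finset.univ : Finset (Cfsg.IrrCharacter H)),
      0 ≤ (b η : ℝ) * ((Cfsg.charDegree (η : H → ℂ) : ℝ) - ((η : H → ℂ) x).re) := by
    intro η _
    apply mul_nonneg (Nat.cast_nonneg _)
    have := irr_norm_le η x
    have h2 := Complex.re_le_norm ((η : H → ℂ) x)
    linarith
  have h4 := (Finset.sum_eq_zero_iff_of_nonneg hnonneg).mp hsum θ (Finset.mem_univ _)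
  have hbθ' : (b θ : ℝ) ≠ 0 := by exact_mod_cast hbθ
  have h5 : ((θ : H → ℂ) x).re = (Cfsg.charDegree (θ : H → ℂ) : ℝ) := by
    rcases mul_eq_zero.mp h4 with h | h
    · exact absurd h hbθ'
    · linarith
  rw [Cfsg.Agent.Lib.Helper80_Codegree.apply_one_eq_charDegree θ]
  have := eq_of_norm_le_of_re_eq (irr_norm_le θ x) h5
  rw [this]
  simp

open Classical in
/-- The number of `x ∈ G` with `x⁻¹ g x ∈ H` (that is `|H|` times the permutation character of
`G` on the cosets of `H`). -/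
noncomputable def cnt {G : Type*} [Group G] [Fintype G] (H : Subgroup G) (g : G) : ℕ :=
  (Finset.univ.filter (fun x : G => x⁻¹ * g * x ∈ H)).card

theorem cnt_le {G : Type*} [Group G] [Fintype G] (H : Subgroup G) (g : G) :
    cnt H g ≤ Fintype.card G := by
  classical
  unfold cnt
  exact Finset.card_le_univ _

theorem cnt_eq_card_iff {G : Type*} [Group G] [Fintype G] (H : Subgroup G) (g : G) :
    cnt H g = Fintype.card G ↔ g ∈ H.normalCore := by
  classical
  unfold cnt
  rw [← Finset.card_univ, Finset.card_filter_eq_iff]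
  constructor
  · intro h b
    have := h b⁻¹ (Finset.mem_univ _)
    simpa using this
  · intro h x _
    have := h x⁻¹
    simpa using this

theorem cnt_one {G : Type*} [Group G] [Fintype G] (H : Subgroup G) :
    cnt H 1 = Fintype.card G :=
  (cnt_eq_card_iff H 1).mpr (Subgroup.one_mem _)

/-- Frobenius reciprocity for the permutation character. -/
theorem sum_mul_cnt {G : Type*} [Group G] [Fintype G] (H : Subgroup G) [Fintype H] (f : G → ℂ)
    (hf : ∀ g x : G, f (x * g * x⁻¹) = f g) :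
    ∑ g : G, f g * (cnt H g : ℂ) = (Fintype.card G : ℂ) * ∑ h : H, f h := by
  classical
  have hcnt : ∀ g : G, (cnt H g : ℂ) = ∑ x : G, if x⁻¹ * g * x ∈ H then (1 : ℂ) else 0 := by
    intro g
    unfold cnt
    rw [Finset.card_filter]
    push_cast
    rfl
  simp_rw [hcnt, Finset.mul_sum]
  rw [Finset.sum_comm]
  have hx : ∀ x : G, ∑ g : G, f g * (if x⁻¹ * g * x ∈ H then (1 : ℂ) else 0) = ∑ h : H, f h := by
    intro x
    rw [← Equiv.sum_comp (MulAut.conj x).toEquiv]
    have e1 : ∀ g : G, x⁻¹ * ((MulAut.conj x).toEquiv g) * x = g := by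
      intro g
      simp [MulAut.conj_apply, mul_assoc]
    have e2 : ∀ g : G, f ((MulAut.conj x).toEquiv g) = f g := by
      intro g
      simp only [MulEquiv.toEquiv_eq_coe, MulEquiv.coe_toEquiv, MulAut.conj_apply]
      exact hf g x
    simp_rw [e1, e2]
    simp only [mul_ite, mul_one, mul_zero]
    rw [← Finset.sum_filter]
    exact (Finset.sum_subtype (Finset.univ.filter (fun g : G => g ∈ H))
      (fun g => by simp) f)
  rw [Finset.sum_congr rfl (fun x _ => hx x), Finset.sum_const, Finset.card_univ, nsmul_eq_mul,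
    Finset.mul_sum]

theorem cnt_conj {G : Type*} [Group G] [Fintype G] (H : Subgroup G) (g h : G) :
    cnt H (h * g * h⁻¹) = cnt H g := by
  classical
  unfold cnt
  apply Finset.card_bij (fun x _ => h⁻¹ * x)
  · intro x hx
    simp only [Finset.mem_filter, Finset.mem_univ, true_and] at hx ⊢
    have e : (h⁻¹ * x)⁻¹ * g * (h⁻¹ * x) = x⁻¹ * (h * g * h⁻¹) * x := by group
    rw [e]
    exact hx
  · intro x _ y _ hxy
    exact mul_left_cancel hxy
  · intro y hy
    simp only [Finset.mem_filter, Finset.mem_univ, true_and] at hy ⊢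
    refine ⟨h * y, ?_, by group⟩
    have e : (h * y)⁻¹ * (h * g * h⁻¹) * (h * y) = y⁻¹ * g * y := by group
    rw [e]
    exact hy

/-- **Key lemma.** `χ ∈ Irr(G)` with kernel `K`, `H` a maximal subgroup not containing `K`. -/
theorem key {G : Type*} [Group G] [Finite G] (χ : Cfsg.IrrCharacter G) (K : Subgroup G)
    [K.Normal] (hK : ∀ g : G, g ∈ K ↔ (χ : G → ℂ) g = (χ : G → ℂ) 1)
    (H : Subgroup G) (hH : IsCoatom H) (hKH : ¬ K ≤ H) :
    (∃ ψ : Cfsg.IrrCharacter G,
        Cfsg.charDegree (χ : G → ℂ) < Cfsg.charDegree (ψ : G → ℂ) ∧ irrKer ψ < K) ∨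
    (K ⊓ H ≤ H.normalCore ∧ ∀ g : G, g ∉ K ⊔ H.normalCore → (χ : G → ℂ) g = 0) := by
  classical
  haveI := Fintype.ofFinite G
  haveI := Fintype.ofFinite (Cfsg.IrrCharacter G)
  by_cases hA : ∃ ψ : Cfsg.IrrCharacter G,
      Cfsg.charDegree (χ : G → ℂ) < Cfsg.charDegree (ψ : G → ℂ) ∧ irrKer ψ < K
  · exact Or.inl hA
  right
  push Not at hA
  have hsup : K ⊔ H = ⊤ :=
    hH.2 _ (lt_of_le_of_ne le_sup_right (fun h => hKH (h ▸ le_sup_left)))
  have hχK : ∀ u ∈ K, (χ : G → ℂ) u = (χ : G → ℂ) 1 := fun u hu => (hK u).mp hu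
  have hθ : Cfsg.IsIrrCharacter H (fun h : H => (χ : G → ℂ) h) := res_irr K H hsup χ hχK
  let θ : Cfsg.IrrCharacter H := ⟨fun h : H => (χ : G → ℂ) h, hθ⟩
  have hres : ∀ ψ : Cfsg.IrrCharacter G, Cfsg.IsCharacter H (fun h : H => (ψ : G → ℂ) h) :=
    fun ψ => Cfsg.Agent.Lib.Helper75_CharArith.isCharacter_restrict H
      (Cfsg.Agent.Lib.Helper78_CentralChar.isIrrCharacter_isCharacter ψ.2)
  have hnat := fun ψ : Cfsg.IrrCharacter G =>
    Cfsg.Agent.Lib.Helper75_CharArith.classInner_isCharacter_nat (hres ψ)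
      (Cfsg.Agent.Lib.Helper78_CentralChar.isIrrCharacter_isCharacter hθ)
  choose n hn using hnat
  -- dichotomy
  have hdich : ∀ ψ : Cfsg.IrrCharacter G, n ψ ≠ 0 →
      ∀ h : H, (ψ : G → ℂ) h = (χ : G → ℂ) h := by
    intro ψ hnψ
    have hne : Cfsg.classInner (fun h : H => (ψ : G → ℂ) h) (θ : H → ℂ) ≠ 0 := by
      rw [hn ψ]; exact_mod_cast hnψ
    by_cases hle : Cfsg.charDegree (ψ : G → ℂ) ≤ Cfsg.charDegree (χ : G → ℂ)
    · have h1 : (fun h : H => (ψ : G → ℂ) h) 1 = (Cfsg.charDegree (ψ : G → ℂ) : ℂ) := by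
        simp [Cfsg.Agent.Lib.Helper80_Codegree.apply_one_eq_charDegree ψ]
      have h2 : (θ : H → ℂ) 1 = (Cfsg.charDegree (χ : G → ℂ) : ℂ) := by
        simp [θ, Cfsg.Agent.Lib.Helper80_Codegree.apply_one_eq_charDegree χ]
      have := Cfsg.Agent.Lib.Helper80_CharInd.eq_of_constituent_of_degree_le _ (hres ψ) θ hne
        _ _ h1 h2 hle
      intro h
      exact congrFun this h
    · exfalso
      push Not at hle
      apply hA ψ hle
      have hNH : irrKer ψ ≤ H := by
        by_contra hnot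
        have hsup' : irrKer ψ ⊔ H = ⊤ :=
          hH.2 _ (lt_of_le_of_ne le_sup_right (fun h => hnot (h ▸ le_sup_left)))
        have hirr : Cfsg.IsIrrCharacter H (fun h : H => (ψ : G → ℂ) h) :=
          res_irr (irrKer ψ) H hsup' ψ (fun u hu => hu)
        have heq : (⟨_, hirr⟩ : Cfsg.IrrCharacter H) = θ := by
          by_contra hne'
          apply hne
          have := classInner_irr (⟨_, hirr⟩ : Cfsg.IrrCharacter H) θ
          rw [if_neg hne'] at this
          exact this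
        have h1 := congrArg (fun η : Cfsg.IrrCharacter H => (η : H → ℂ) 1) heq
        simp only [θ, Subgroup.coe_one] at h1
        have h2 : Cfsg.charDegree (ψ : G → ℂ) = Cfsg.charDegree (χ : G → ℂ) := by
          unfold Cfsg.charDegree
          rw [h1]
        omega
      have hNK : irrKer ψ ≤ K := by
        intro x hx
        have hxH := hNH hx
        rw [hK]
        have := ker_constituent (fun h : H => (ψ : G → ℂ) h) (hres ψ) θ hne ⟨x, hxH⟩
          (by simpa using (mem_irrKer ψ x).mp hx)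
        simpa [θ] using this
      exact lt_of_le_of_ne hNK (fun heq => hKH (heq ▸ hNH))
  -- the class function χ · cnt
  have hΦcl : Cfsg.IsClassFunction G (fun g => (χ : G → ℂ) g * (cnt H g : ℂ)) := by
    intro g h
    simp only [irr_conj, cnt_conj]
  have hcardG : (Nat.card G : ℂ) ≠ 0 := by exact_mod_cast Nat.card_pos.ne'
  have hcardH : (Nat.card H : ℂ) ≠ 0 := by exact_mod_cast Nat.card_pos.ne'
  have hinner : ∀ ψ : Cfsg.IrrCharacter G,
      Cfsg.classInner (fun g => (χ : G → ℂ) g * (cnt H g : ℂ)) (ψ : G → ℂ) =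
        (Nat.card H : ℂ) * (n ψ : ℂ) := by
    intro ψ
    unfold Cfsg.classInner
    have h1 := sum_mul_cnt H (fun g => (χ : G → ℂ) g * conj ((ψ : G → ℂ) g))
      (by intro g x; simp only [irr_conj])
    have h2 : ∑ g : G, (χ : G → ℂ) g * (cnt H g : ℂ) * conj ((ψ : G → ℂ) g) =
        ∑ g : G, (χ : G → ℂ) g * conj ((ψ : G → ℂ) g) * (cnt H g : ℂ) :=
      Finset.sum_congr rfl (fun g _ => by ring)
    rw [h2, h1, ← Nat.card_eq_fintype_card, ← mul_assoc, inv_mul_cancel₀ hcardG, one_mul]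
    have h3 := hn ψ
    unfold Cfsg.classInner at h3
    have h4 : ∑ h : H, (ψ : G → ℂ) h * conj ((θ : H → ℂ) h) = (Nat.card H : ℂ) * (n ψ : ℂ) := by
      rw [← h3, ← mul_assoc, mul_inv_cancel₀ hcardH, one_mul]
    have h5 := congrArg (starRingEnd ℂ) h4
    rw [map_sum] at h5
    simp only [map_mul, Complex.conj_conj, Complex.conj_natCast] at h5
    rw [← h5]
    apply Finset.sum_congr rfl
    intro h _
    simp only [θ]
    ring
  have hexp := class_fn_expansion_sum (fun g => (χ : G → ℂ) g * (cnt H g : ℂ)) hΦcl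
  have hpt : ∀ h : H, (χ : G → ℂ) h * (cnt H (h : G) : ℂ) =
      (Nat.card H : ℂ) * (∑ ψ : Cfsg.IrrCharacter G, (n ψ : ℂ)) * (χ : G → ℂ) h := by
    intro h
    have h1 := congrFun hexp (h : G)
    simp only [Finset.sum_apply, Pi.smul_apply, smul_eq_mul, hinner] at h1
    rw [h1, Finset.mul_sum, Finset.sum_mul]
    apply Finset.sum_congr rfl
    intro ψ _
    by_cases h0 : n ψ = 0
    · rw [h0]; simp
    · rw [hdich ψ h0 h]
  have hχ1 : (χ : G → ℂ) 1 ≠ 0 := by
    obtain ⟨d, hd, h1⟩ := irr_apply_one χ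
    rw [h1]
    exact_mod_cast hd.ne'
  have hT : (Nat.card H : ℂ) * (∑ ψ : Cfsg.IrrCharacter G, (n ψ : ℂ)) = (Fintype.card G : ℂ) := by
    have h1 := hpt 1
    simp only [Subgroup.coe_one, cnt_one] at h1
    have h2 : (χ : G → ℂ) 1 * ((Nat.card H : ℂ) * (∑ ψ : Cfsg.IrrCharacter G, (n ψ : ℂ))) =
        (χ : G → ℂ) 1 * (Fintype.card G : ℂ) := by
      rw [h1]; ring
    exact (mul_left_cancel₀ hχ1 h2)
  have hpt' : ∀ h : H, (χ : G → ℂ) h * ((cnt H (h : G) : ℂ) - (Fintype.card G : ℂ)) = 0 := by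
    intro h
    have := hpt h
    rw [hT] at this
    rw [mul_sub, this]
    ring
  have hcore : ∀ h : H, (χ : G → ℂ) h ≠ 0 → (h : G) ∈ H.normalCore := by
    intro h hne
    rcases mul_eq_zero.mp (hpt' h) with h0 | h0
    · exact absurd h0 hne
    · rw [← cnt_eq_card_iff]
      have := sub_eq_zero.mp h0
      exact_mod_cast this
  constructor
  · intro x hx
    have hxK := hx.1
    have hxH := hx.2
    apply hcore ⟨x, hxH⟩
    simp only
    rw [(hK x).mp hxK]
    exact hχ1
  · intro g hg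
    have hgt : g ∈ K ⊔ H := by rw [hsup]; trivial
    rw [← SetLike.mem_coe, Subgroup.normal_mul] at hgt
    obtain ⟨k, hk, h, hh, rfl⟩ := hgt
    rw [irr_ker_mul K χ hχK k h hk]
    by_contra hne
    apply hg
    exact Subgroup.mul_mem_sup hk (hcore ⟨h, hh⟩ hne)

/-- A Frattini-type lemma: if `Q` is a Sylow subgroup of `M`, `N_G(Q) ≤ H` and
`M ∩ H ≤ core(H)`, then `M ≤ H`. -/
theorem le_of_sylow_frattini {G : Type*} [Group G] [Finite G] {q : ℕ} [Fact q.Prime]
    (M H : Subgroup G) (Q : Sylow q M)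
    (hN : Subgroup.normalizer ((((Q : Subgroup M).map M.subtype : Subgroup G)) : Set G) ≤ H)
    (hMH : M ⊓ H ≤ H.normalCore) : M ≤ H := by
  have hQL : (Q : Subgroup M) ≤ (H.normalCore).subgroupOf M := by
    intro x hx
    rw [Subgroup.mem_subgroupOf]
    apply hMH
    refine ⟨x.2, hN (Subgroup.le_normalizer ?_)⟩
    exact Subgroup.mem_map_of_mem M.subtype hx
  have hfr := Sylow.normalizer_sup_eq_top' Q hQL
  have hle : Subgroup.normalizer ((Q : Subgroup M) : Set M) ⊔ (H.normalCore).subgroupOf M ≤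
      H.subgroupOf M := by
    apply sup_le
    · intro y hy
      rw [Subgroup.mem_subgroupOf]
      apply hN
      have h1 := Subgroup.le_normalizer_map (H := (Q : Subgroup M)) M.subtype
      exact h1 (Subgroup.mem_map_of_mem M.subtype hy)
    · intro y hy
      rw [Subgroup.mem_subgroupOf] at hy ⊢
      exact Subgroup.normalCore_le H hy
  intro m hm
  have h1 : (⟨m, hm⟩ : M) ∈ (⊤ : Subgroup M) := Subgroup.mem_top _
  rw [← hfr] at h1
  have h2 := hle h1
  rw [Subgroup.mem_subgroupOf] at h2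
  exact h2

/-- For `M ⊴ G` and `χ ∈ Irr(G)`: `(∑_{m ∈ M} χ(m))² = χ(1) |M| ∑_{m ∈ M} χ(m)`. -/
theorem sum_normal_sq {G : Type*} [Group G] [Fintype G] (χ : Cfsg.IrrCharacter G)
    (M : Subgroup G) [M.Normal] [Fintype M] :
    (∑ m : M, (χ : G → ℂ) m) ^ 2 =
      (χ : G → ℂ) 1 * (Nat.card M : ℂ) * ∑ m : M, (χ : G → ℂ) m := by
  classical
  have hcardG : (Nat.card G : ℂ) ≠ 0 := by exact_mod_cast Nat.card_pos.ne'
  have hχ1 : (χ : G → ℂ) 1 ≠ 0 := by
    obtain ⟨d, hd, h1⟩ := irr_apply_one χ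
    rw [h1]
    exact_mod_cast hd.ne'
  set S : ℂ := ∑ m : M, (χ : G → ℂ) m with hS
  -- double sum
  have h1 : ∑ a : M, ∑ b : M, ∑ h : G, (χ : G → ℂ) (h⁻¹ * (a : G) * h * (b : G)) =
      (Nat.card G : ℂ) / (χ : G → ℂ) 1 * S * S := by
    simp_rw [Cfsg.Agent.Lib.Helper80_FullyRamified.sum_conj_mul_irr]
    rw [hS, mul_assoc, Finset.sum_mul_sum, Finset.mul_sum]
    apply Finset.sum_congr rfl
    intro a _
    rw [Finset.mul_sum]
    apply Finset.sum_congr rfl
    intro b _
    ring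
  have h2 : ∀ a : M, ∑ b : M, ∑ h : G, (χ : G → ℂ) (h⁻¹ * (a : G) * h * (b : G)) =
      (Nat.card G : ℂ) * S := by
    intro a
    rw [Finset.sum_comm]
    have h3 : ∀ h : G, ∑ b : M, (χ : G → ℂ) (h⁻¹ * (a : G) * h * (b : G)) = S := by
      intro h
      have hmem : h⁻¹ * (a : G) * h ∈ M := by
        have := ‹M.Normal›.conj_mem (a : G) a.2 h⁻¹
        simpa using this
      have h5 := Equiv.sum_comp (Equiv.mulLeft (⟨h⁻¹ * (a : G) * h, hmem⟩ : M))
        (fun m : M => (χ : G → ℂ) m)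
      rw [hS, ← h5]
      apply Finset.sum_congr rfl
      intro b _
      simp
    rw [Finset.sum_congr rfl (fun h _ => h3 h), Finset.sum_const, Finset.card_univ,
      nsmul_eq_mul, Nat.card_eq_fintype_card]
  rw [Finset.sum_congr rfl (fun a _ => h2 a), Finset.sum_const, Finset.card_univ,
    nsmul_eq_mul, ← Nat.card_eq_fintype_card] at h1
  have h4 : (Nat.card G : ℂ) * (S ^ 2) =
      (Nat.card G : ℂ) * ((χ : G → ℂ) 1 * (Nat.card M : ℂ) * S) := by
    field_simp at h1 ⊢
    linear_combination (-1 : ℂ) * h1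
  exact mul_left_cancel₀ hcardG h4

/-- A non-nilpotent subgroup has a Sylow subgroup which is not normal in the whole group. -/
theorem exists_sylow_normalizer_ne_top {G : Type*} [Group G] [Finite G] (K : Subgroup G)
    (hK : ¬ Group.IsNilpotent K) :
    ∃ (q : ℕ) (_ : Fact q.Prime) (Q : Sylow q K),
      Subgroup.normalizer ((((Q : Subgroup K).map K.subtype : Subgroup G)) : Set G) ≠ ⊤ := by
  by_contra hcon
  push Not at hcon
  apply hK
  apply ((Group.isNilpotent_of_finite_tfae (G := K)).out 0 3).mpr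
  intro q hq Q
  have h1 := hcon q hq Q
  rw [Subgroup.normalizer_eq_top_iff] at h1
  have h2 : (Q : Subgroup K) = ((Q : Subgroup K).map K.subtype).comap K.subtype :=
    (Subgroup.comap_map_eq_self_of_injective K.subtype_injective _).symm
  rw [h2]
  exact h1.comap _

/-- **Broline–Garrison**, first case: the kernel is not nilpotent. -/
theorem case_not_nilpotent {G : Type*} [Group G] [Finite G] (χ : Cfsg.IrrCharacter G)
    (K : Subgroup G) [K.Normal] (hK : ∀ g : G, g ∈ K ↔ (χ : G → ℂ) g = (χ : G → ℂ) 1)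
    (hnil : ¬ Group.IsNilpotent K) :
    ∃ ψ : Cfsg.IrrCharacter G,
      Cfsg.charDegree (χ : G → ℂ) < Cfsg.charDegree (ψ : G → ℂ) ∧ irrKer ψ < K := by
  obtain ⟨q, hq, Q, hQ⟩ := exists_sylow_normalizer_ne_top K hnil
  obtain ⟨H, hH, hNH⟩ := (eq_top_or_exists_le_coatom _).resolve_left hQ
  have hKH : ¬ K ≤ H := by
    intro hle
    have := Sylow.normalizer_sup_eq_top Q
    apply hH.1
    rw [eq_top_iff, ← this]
    exact sup_le hNH hle
  rcases key χ K hK H hH hKH with hA | ⟨hB1, _⟩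
  · exact hA
  · exact absurd (le_of_sylow_frattini K H Q hNH hB1) hKH

/-- A chief factor `M/K` of `G` above `K` when `G/K` is solvable and nontrivial. -/
theorem exists_chief {G : Type*} [Group G] [Finite G] (K : Subgroup G) [K.Normal]
    (hsolv : Group.IsSolvable (G ⧸ K)) (hK : K ≠ ⊤) :
    ∃ (q : ℕ) (_ : Fact q.Prime) (M : Subgroup G), M.Normal ∧ K < M ∧
      (∀ N : Subgroup G, N.Normal → K ≤ N → N ≤ M → N = K ∨ N = M) ∧
      (∀ m ∈ M, ∃ k : ℕ, m ^ (q ^ k) ∈ K) := by
  haveI : Nontrivial (G ⧸ K) := by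
    rw [← not_subsingleton_iff_nontrivial]
    intro h
    apply hK
    rw [eq_top_iff]
    intro g _
    have := Subsingleton.elim (QuotientGroup.mk g : G ⧸ K) (QuotientGroup.mk 1)
    rw [QuotientGroup.eq] at this
    simpa using this
  obtain ⟨p, hp, R, hRn, hRp, hRne⟩ :=
    Cfsg.Agent.Lib.Helper75_SolvStep.exists_normal_pgroup (G ⧸ K)
  obtain ⟨Mb, hMb⟩ := exists_minimal_of_wellFoundedLT
    (fun X : Subgroup (G ⧸ K) => X.Normal ∧ X ≠ ⊥ ∧ X ≤ R) ⟨R, hRn, hRne, le_rfl⟩
  obtain ⟨⟨hMbn, hMbne, hMbR⟩, hmin⟩ := hMb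
  have hsurj := QuotientGroup.mk'_surjective K
  refine ⟨p, ⟨hp⟩, Mb.comap (QuotientGroup.mk' K), hMbn.comap _, ?_, ?_, ?_⟩
  · have hle : K ≤ Mb.comap (QuotientGroup.mk' K) := by
      intro x hx
      rw [Subgroup.mem_comap]
      have : (QuotientGroup.mk' K) x = 1 := by
        rw [QuotientGroup.mk'_apply, QuotientGroup.eq_one_iff]; exact hx
      rw [this]
      exact Subgroup.one_mem _
    refine lt_of_le_of_ne hle ?_
    intro heq
    apply hMbne
    rw [← Subgroup.map_comap_eq_self_of_surjective hsurj Mb, ← heq, QuotientGroup.map_mk'_self]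
  · intro N hN hKN hNM
    have hYn : (N.map (QuotientGroup.mk' K)).Normal := hN.map _ hsurj
    have hYle : N.map (QuotientGroup.mk' K) ≤ Mb := Subgroup.map_le_iff_le_comap.mpr hNM
    by_cases hbot : N.map (QuotientGroup.mk' K) = ⊥
    · left
      apply le_antisymm _ hKN
      have := (Subgroup.map_eq_bot_iff _).mp hbot
      rwa [QuotientGroup.ker_mk'] at this
    · right
      have h1 := hmin ⟨hYn, hbot, hYle.trans hMbR⟩ hYle
      have h2 : N.map (QuotientGroup.mk' K) = Mb := le_antisymm hYle h1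
      rw [← h2, Subgroup.comap_map_eq, QuotientGroup.ker_mk']
      exact (sup_eq_left.mpr hKN).symm
  · intro m hm
    rw [Subgroup.mem_comap] at hm
    obtain ⟨k, hk⟩ := hRp ⟨_, hMbR hm⟩
    refine ⟨k, ?_⟩
    have h1 := congrArg Subtype.val hk
    simp only [Subgroup.coe_pow, Subgroup.coe_one, QuotientGroup.mk'_apply] at h1
    rw [← QuotientGroup.mk_pow, QuotientGroup.eq_one_iff] at h1
    exact h1

/-- If `M/K` is a `q`-group and `Q` is a Sylow `q`-subgroup of `M` then `M = KQ`. -/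
theorem le_sup_sylow {G : Type*} [Group G] [Finite G] {q : ℕ} [hq : Fact q.Prime]
    (K M : Subgroup G) [K.Normal]
    (hpow : ∀ m ∈ M, ∃ k : ℕ, m ^ (q ^ k) ∈ K) (Q : Sylow q M) :
    M ≤ K ⊔ (Q : Subgroup M).map M.subtype := by
  set X : Subgroup M := (K ⊔ (Q : Subgroup M).map M.subtype).subgroupOf M with hX
  have h1 : X.index ∣ (Q : Subgroup M).index := by
    apply Subgroup.index_dvd_of_le
    intro x hx
    rw [hX, Subgroup.mem_subgroupOf]
    exact Subgroup.mem_sup_right (Subgroup.mem_map_of_mem M.subtype hx)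
  have h2 : X.index ∣ (K.subgroupOf M).index := by
    apply Subgroup.index_dvd_of_le
    intro x hx
    rw [Subgroup.mem_subgroupOf] at hx
    rw [hX, Subgroup.mem_subgroupOf]
    exact Subgroup.mem_sup_left hx
  have h3 : IsPGroup q (M ⧸ K.subgroupOf M) := by
    intro g
    induction g using QuotientGroup.induction_on with
    | H m =>
      obtain ⟨k, hk⟩ := hpow m m.2
      refine ⟨k, ?_⟩
      rw [← QuotientGroup.mk_pow, QuotientGroup.eq_one_iff, Subgroup.mem_subgroupOf]
      simpa using hk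
  obtain ⟨n, hn⟩ := IsPGroup.iff_card.mp h3
  rw [← Subgroup.index_eq_card] at hn
  rw [hn] at h2
  obtain ⟨j, _, hj⟩ := (Nat.dvd_prime_pow hq.out).mp h2
  have hj0 : j = 0 := by
    by_contra hne
    have : q ∣ X.index := by
      rw [hj]
      exact dvd_pow_self q hne
    exact Sylow.not_dvd_index Q (this.trans h1)
  rw [hj0, pow_zero, Subgroup.index_eq_one] at hj
  intro m hm
  have : (⟨m, hm⟩ : M) ∈ X := by rw [hj]; trivial
  rw [hX, Subgroup.mem_subgroupOf] at this
  exact this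

/-- **Broline–Garrison**, second case: `K = F(G) < G` with `G/K` solvable.  Only the facts that
every normal nilpotent subgroup lies in `K` is used. -/
theorem case_fitting {G : Type*} [Group G] [Finite G] (χ : Cfsg.IrrCharacter G)
    (K : Subgroup G) [K.Normal] (hK : ∀ g : G, g ∈ K ↔ (χ : G → ℂ) g = (χ : G → ℂ) 1)
    (hKF : ∀ N : Subgroup G, N.Normal → Group.IsNilpotent N → N ≤ K)
    (hsolv : Group.IsSolvable (G ⧸ K)) (hKtop : K ≠ ⊤) :
    ∃ ψ : Cfsg.IrrCharacter G,
      Cfsg.charDegree (χ : G → ℂ) < Cfsg.charDegree (ψ : G → ℂ) ∧ irrKer ψ < K := by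
  classical
  haveI := Fintype.ofFinite G
  obtain ⟨q, hq, M, hMn, hKM, hchief, hpow⟩ := exists_chief K hsolv hKtop
  haveI := hMn
  obtain ⟨Q⟩ : Nonempty (Sylow q M) := inferInstance
  have hKQ := le_sup_sylow K M hpow Q
  set Q' : Subgroup G := (Q : Subgroup M).map M.subtype with hQ'
  have hQn : Subgroup.normalizer (Q' : Set G) ≠ ⊤ := by
    intro h
    rw [Subgroup.normalizer_eq_top_iff] at h
    have hp : IsPGroup q Q' := Q.2.map M.subtype
    have hle : Q' ≤ K := hKF Q' h hp.isNilpotent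
    have : M ≤ K := hKQ.trans (sup_le le_rfl hle)
    exact absurd (le_antisymm this hKM.le) hKM.ne'
  obtain ⟨H, hH, hNH⟩ := (eq_top_or_exists_le_coatom _).resolve_left hQn
  have hQH : Q' ≤ H := Subgroup.le_normalizer.trans hNH
  have hKH : ¬ K ≤ H := by
    intro hle
    have hMH : M ≤ H := hKQ.trans (sup_le hle hQH)
    have := Sylow.normalizer_sup_eq_top Q
    apply hH.1
    rw [eq_top_iff, ← this]
    exact sup_le hNH hMH
  rcases key χ K hK H hH hKH with hA | ⟨hB1, hB2⟩
  · exact hA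
  exfalso
  have hLn : (H.normalCore).Normal := Subgroup.normalCore_normal H
  have hM1n : (M ⊓ (K ⊔ H.normalCore)).Normal := inferInstance
  rcases hchief (M ⊓ (K ⊔ H.normalCore)) hM1n (le_inf hKM.le le_sup_left) inf_le_left with h1 | h1
  · -- χ vanishes on M \ K
    have hvan : ∀ m : M, (m : G) ∉ K → (χ : G → ℂ) m = 0 := by
      intro m hmK
      apply hB2
      intro hmem
      apply hmK
      rw [← h1]
      exact ⟨m.2, hmem⟩
    have hsq := sum_normal_sq χ M
    have hχ1 : (χ : G → ℂ) 1 ≠ 0 := by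
      obtain ⟨d, hd, h1⟩ := irr_apply_one χ
      rw [h1]
      exact_mod_cast hd.ne'
    have hS : ∑ m : M, (χ : G → ℂ) m = (χ : G → ℂ) 1 * (Nat.card K : ℂ) := by
      have e1 : ∀ m : M, (χ : G → ℂ) m = if (m : G) ∈ K then (χ : G → ℂ) 1 else 0 := by
        intro m
        split_ifs with hm
        · exact (hK _).mp hm
        · exact hvan m hm
      rw [Finset.sum_congr rfl (fun m _ => e1 m), Finset.sum_ite, Finset.sum_const_zero, add_zero,
        Finset.sum_const, nsmul_eq_mul, mul_comm]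
      congr 2
      have e2 : Nat.card K = Nat.card (K.subgroupOf M) :=
        (Nat.card_congr (Subgroup.subgroupOfEquivOfLe hKM.le).toEquiv).symm
      rw [e2, Nat.card_eq_fintype_card, Fintype.card_subtype]
      rfl
    rw [hS] at hsq
    have hcK : (Nat.card K : ℂ) ≠ 0 := by exact_mod_cast Nat.card_pos.ne'
    have h2 : (Nat.card K : ℂ) = (Nat.card M : ℂ) := by
      have h3 : ((χ : G → ℂ) 1 * (χ : G → ℂ) 1 * (Nat.card K : ℂ)) * (Nat.card K : ℂ) =
          ((χ : G → ℂ) 1 * (χ : G → ℂ) 1 * (Nat.card K : ℂ)) * (Nat.card M : ℂ) := by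
        linear_combination hsq
      exact mul_left_cancel₀ (mul_ne_zero (mul_ne_zero hχ1 hχ1) hcK) h3
    have h4 : Nat.card K = Nat.card M := by exact_mod_cast h2
    have h5 : K = M := Subgroup.eq_of_le_of_card_ge hKM.le h4.ge
    exact hKM.ne h5
  · have hMle : M ≤ K ⊔ H.normalCore := by
      rw [← h1]; exact inf_le_right
    have hMH : M ⊓ H ≤ H.normalCore := by
      intro x hx
      have hx1 := hMle hx.1
      rw [← SetLike.mem_coe, Subgroup.normal_mul] at hx1
      obtain ⟨k, hk, l, hl, rfl⟩ := hx1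
      have hlH : l ∈ H := Subgroup.normalCore_le H hl
      have hkH : k ∈ H := by
        have := H.mul_mem hx.2 (H.inv_mem hlH)
        simpa using this
      exact Subgroup.mul_mem _ (hB1 ⟨hk, hkH⟩) hl
    exact hKH (hKM.le.trans (le_of_sylow_frattini M H Q hNH hMH))

/-- **Broline–Garrison theorem** (Isaacs 12.19), with the kernel given as a subgroup. -/
theorem broline_garrison {G : Type*} [Group G] [Finite G] (χ : Cfsg.IrrCharacter G)
    (K : Subgroup G) [K.Normal] (hK : ∀ g : G, g ∈ K ↔ (χ : G → ℂ) g = (χ : G → ℂ) 1)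
    (h : ¬ K ≤ Cfsg.fittingSubgroup G ∨
      (K = Cfsg.fittingSubgroup G ∧ Group.IsSolvable (G ⧸ K) ∧ K ≠ ⊤)) :
    ∃ ψ : Cfsg.IrrCharacter G,
      Cfsg.charDegree (χ : G → ℂ) < Cfsg.charDegree (ψ : G → ℂ) ∧ irrKer ψ < K := by
  rcases h with h | ⟨h1, h2, h3⟩
  · apply case_not_nilpotent χ K hK
    intro hnil
    exact h (Cfsg.Agent.Lib.Helper1_Cores.le_fittingSubgroup inferInstance hnil)
  · apply case_fitting χ K hK _ h2 h3
    intro N hN hnil
    rw [h1]
    exact Cfsg.Agent.Lib.Helper1_Cores.le_fittingSubgroup hN hnil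

end Cfsg.Agent.Lib.Helper80_BrolineGarrison
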