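import Mathlib
import Cfsg.Prelude.Def_Characters
import Cfsg.Prelude.Def_Blocks
import Cfsg.Agent.Lib.Helper80_CharInd
import Cfsg.Agent.Lib.Helper80_Codegree
import Cfsg.Agent.Lib.Helper80_BrolineGarrison
import Cfsg.Agent.Lib.Helper75_CharArith
import Cfsg.Agent.Lib.Helper75_Clifford
import Cfsg.Agent.Lib.Helper75_Induced
import Cfsg.Agent.Lib.Helper3_NilpMono
import Cfsg.Agent.Lib.Helper23_CyclicSylow
import Cfsg.Agent.Lib.Helper77_QuotBlocks
import Cfsg.Agent.S4567

/-!
# Relative M-groups with abelian Sylow subgroups (Isaacs 6.23) (helper80)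

If `N ⊴ H`, `H` is solvable, every `p`-subgroup of `N` is abelian and `ψ ∈ Irr(H)` restricts
irreducibly to `N`, then `ψ` is monomial.
-/

set_option autoImplicit false
set_option linter.style.haveILetI false

namespace Cfsg.Agent.Lib.Helper80_RelM

open scoped ComplexConjugate commutatorElement
open Cfsg.Agent.Lib.Helper80_CharBasic Cfsg.Agent.Lib.Helper80_CharComplete

/-- All subgroups of prime power order of `N` are commutative. -/
def ASyl {H : Type*} [Group H] (N : Subgroup H) : Prop :=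
  ∀ p : ℕ, p.Prime → ∀ Q : Subgroup H, Q ≤ N → IsPGroup p Q → ∀ a ∈ Q, ∀ b ∈ Q, a * b = b * a

/-- In a finite group with abelian Sylow subgroups, `Z(X) ∩ X' = 1`. -/
theorem eq_one_of_mem_center_of_mem_commutator {X : Type*} [Group X] [Finite X]
    (hS : ∀ (p : ℕ) [Fact p.Prime] (P : Sylow p X), ∀ a ∈ P, ∀ b ∈ P, a * b = b * a)
    (z : X) (hz : z ∈ Subgroup.center X) (hzc : z ∈ commutator X) : z = 1 := by
  by_contra hne
  have hord : orderOf z ≠ 1 := fun h => hne (orderOf_eq_one_iff.mp h)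
  set p := (orderOf z).minFac with hp
  have hpp : p.Prime := Nat.minFac_prime hord
  haveI : Fact p.Prime := ⟨hpp⟩
  have hpd : p ∣ orderOf z := Nat.minFac_dvd _
  set w := z ^ (orderOf z / p) with hw
  have hwo : orderOf w = p := orderOf_pow_orderOf_div (orderOf_pos z).ne' hpd
  have hwz : w ∈ Subgroup.center X := Subgroup.pow_mem _ hz _
  have hwc : w ∈ commutator X := Subgroup.pow_mem _ hzc _
  have hpg : IsPGroup p (Subgroup.zpowers w) := by
    apply IsPGroup.of_card (n := 1)
    rw [Nat.card_zpowers, hwo, pow_one]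
  obtain ⟨P, hP⟩ := hpg.exists_le_sylow
  have hwP : w ∈ (P : Subgroup X) := hP (Subgroup.mem_zpowers w)
  have hcomm : IsMulCommutative ↥(P : Subgroup X) :=
    ⟨⟨fun a b => Subtype.ext (hS p P a.1 a.2 b.1 b.2)⟩⟩
  have := Cfsg.Agent.Lib.Helper23_CyclicSylow.eq_one_of_mem_commutator_of_central_normalizer
    P hcomm w hwP hwc (fun n _ => (Subgroup.mem_center_iff.mp hwz n))
  rw [this, orderOf_one] at hwo
  exact hpp.one_lt.ne hwo

/-- Sylow subgroups of `↥N` are abelian when `ASyl N` holds. -/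
theorem ASyl.sylow_comm {H : Type*} [Group H] {N : Subgroup H} (hAS : ASyl N) (p : ℕ)
    [hp : Fact p.Prime] (P : Sylow p N) : ∀ a ∈ P, ∀ b ∈ P, a * b = b * a := by
  intro a ha b hb
  have h1 := hAS p hp.out ((P : Subgroup N).map N.subtype) (Subgroup.map_subtype_le _)
    (P.2.map N.subtype) a (Subgroup.mem_map_of_mem N.subtype ha) b
    (Subgroup.mem_map_of_mem N.subtype hb)
  exact Subtype.ext h1

/-- Quotients of groups with abelian Sylow subgroups have abelian Sylow subgroups. -/
theorem sylow_comm_quotient {X : Type*} [Group X] [Finite X] (K : Subgroup X) [K.Normal]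
    (hS : ∀ (p : ℕ) [Fact p.Prime] (P : Sylow p X), ∀ a ∈ P, ∀ b ∈ P, a * b = b * a)
    (p : ℕ) [Fact p.Prime] (Q : Sylow p (X ⧸ K)) : ∀ a ∈ Q, ∀ b ∈ Q, a * b = b * a := by
  obtain ⟨P, rfl⟩ := Sylow.mapSurjective_surjective (QuotientGroup.mk'_surjective K) p Q
  intro a ha b hb
  have ha2 : a ∈ ((P.mapSurjective (QuotientGroup.mk'_surjective K) : Sylow p (X ⧸ K)) :
      Subgroup (X ⧸ K)) := ha
  have hb2 : b ∈ ((P.mapSurjective (QuotientGroup.mk'_surjective K) : Sylow p (X ⧸ K)) :
      Subgroup (X ⧸ K)) := hb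
  rw [Sylow.coe_mapSurjective] at ha2 hb2
  obtain ⟨a', ha', rfl⟩ := ha2
  obtain ⟨b', hb', rfl⟩ := hb2
  rw [← map_mul, ← map_mul, hS p P a' ha' b' hb']

/-- Relative version of `Z(X) ∩ X' = 1` inside an ambient group. -/
theorem mem_of_commutator_mem {H : Type*} [Group H] [Finite H] (N K : Subgroup H) [K.Normal]
    (hAS : ASyl N) (x : H) (hx : x ∈ ⁅N, N⁆) (hc : ∀ n ∈ N, x * n * x⁻¹ * n⁻¹ ∈ K) : x ∈ K := by
  have hNN : ⁅N, N⁆ = (commutator N).map N.subtype := by
    rw [commutator_def, Subgroup.map_commutator, ← MonoidHom.range_eq_map, Subgroup.range_subtype]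
  rw [hNN] at hx
  obtain ⟨z, hz, rfl⟩ := hx
  have hS := sylow_comm_quotient (K.subgroupOf N) (fun p _ P => hAS.sylow_comm p P)
  have h1 : (QuotientGroup.mk z : N ⧸ K.subgroupOf N) = 1 := by
    apply eq_one_of_mem_center_of_mem_commutator hS
    · rw [Subgroup.mem_center_iff]
      intro q
      induction q using QuotientGroup.induction_on with
      | H n =>
        rw [← QuotientGroup.mk_mul, ← QuotientGroup.mk_mul, QuotientGroup.eq,
          Subgroup.mem_subgroupOf]
        have h2 := hc n n.2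
        have h4 : (n * z)⁻¹ * (z * n) = (n * z)⁻¹ * (z * n * z⁻¹ * n⁻¹) * (n * z) := by group
        rw [h4]
        have h5 := ‹K.Normal›.conj_mem _ h2 ((n * z)⁻¹ : N)
        simpa [mul_assoc] using h5
    · have h2 : (QuotientGroup.mk' (K.subgroupOf N)) z ∈
          (commutator N).map (QuotientGroup.mk' (K.subgroupOf N)) :=
        Subgroup.mem_map_of_mem _ hz
      rw [commutator_def, Subgroup.map_commutator] at h2
      rw [commutator_def]
      exact Subgroup.commutator_mono le_top le_top h2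
  rw [QuotientGroup.eq_one_iff, Subgroup.mem_subgroupOf] at h1
  exact h1


section counting

open Cfsg.Agent.Lib.Helper75_Clifford Cfsg.Agent.Lib.Helper75_Induced
  Cfsg.Agent.Lib.Helper75_CharArith Cfsg.Agent.Lib.Helper75_IndChar
  Cfsg.Agent.Lib.Helper3_CharBridge Cfsg.Agent.Lib.Helper3_CharOrtho

variable {G : Type*} [Group G] [Fintype G]

/-- The swap isomorphism between `N ⊓ U` seen inside `U` and inside `N`. -/
def swapEquiv (N U : Subgroup G) : N.subgroupOf U ≃* U.subgroupOf N where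
  toFun x := ⟨⟨x.1.1, x.2⟩, x.1.2⟩
  invFun y := ⟨⟨y.1.1, y.2⟩, y.1.2⟩
  left_inv _ := rfl
  right_inv _ := rfl
  map_mul' _ _ := rfl

/-- If `ψ = η^G` is irreducible with irreducible restriction to `N`, then `η` restricts
irreducibly to `N ⊓ U`. -/
theorem res_inf_irr (N U : Subgroup G) (η : U → ℂ) (hη : Cfsg.IsIrrCharacter U η)
    (hψ : Cfsg.IsIrrCharacter G (Cfsg.indFun U η))
    (hres : Cfsg.IsIrrCharacter N (res N (Cfsg.indFun U η))) :
    Cfsg.IsIrrCharacter (N.subgroupOf U) (res (N.subgroupOf U) η) := by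
  classical
  set ψ := Cfsg.indFun U η with hψdef
  have : Fintype N := Fintype.ofFinite N
  have : Fintype U := Fintype.ofFinite U
  have : Fintype (U.subgroupOf N) := Fintype.ofFinite _
  have : Fintype (N.subgroupOf U) := Fintype.ofFinite _
  let f : U.subgroupOf N →* U :=
    { toFun := fun x => ⟨x.1.1, Subgroup.mem_subgroupOf.mp x.2⟩
      map_one' := rfl
      map_mul' := fun _ _ => rfl }
  set η' : U.subgroupOf N → ℂ := fun x => η (f x) with hη'
  have hηc : Cfsg.IsCharacter U η := isCharacter_of_isIrrCharacter hη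
  have hη'c : Cfsg.IsCharacter (U.subgroupOf N) η' := isCharacter_comp f hηc
  have hψc : Cfsg.IsClassFunction G ψ := isClassFunction_of_isIrrCharacter hψ
  have hψch : Cfsg.IsCharacter G ψ := isCharacter_of_isIrrCharacter hψ
  have h1 : Cfsg.classInner η (res U ψ) = 1 := by
    have := frobenius_reciprocity U η ψ hψc
    rw [show (fun h : U => ψ h) = res U ψ from rfl] at this
    rw [← this]
    exact classInner_self_of_isIrrCharacter hψ
  set Δ : U → ℂ := res U ψ - η with hΔ
  have hΔc : Cfsg.IsCharacter U Δ := by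
    apply isCharacter_of_classInner_nat
    · intro g h
      simp only [hΔ, Pi.sub_apply]
      rw [isClassFunction_res U hψc g h, isClassFunction_of_isIrrCharacter hη g h]
    · intro ξ
      obtain ⟨n, hn⟩ := classInner_isCharacter_nat (isCharacter_res U hψch)
        (isCharacter_of_isIrrCharacter ξ.2)
      rw [hΔ, classInner_sub_left, hn]
      by_cases hξ : (ξ : U → ℂ) = η
      · rw [hξ, classInner_self_of_isIrrCharacter hη]
        have h2 : (n : ℂ) = 1 := by
          rw [← hn, hξ, ← classInner_conj_symm, h1, map_one]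
        exact ⟨0, by rw [h2]; simp⟩
      · rw [classInner_of_isIrrCharacter_of_ne hη ξ.2 (Ne.symm hξ)]
        exact ⟨n, by simp⟩
  have hΔ'c : Cfsg.IsCharacter (U.subgroupOf N) (fun x => Δ (f x)) := isCharacter_comp f hΔc
  -- Frobenius reciprocity in `N`
  set θ : N → ℂ := res N ψ with hθ
  have hθc : Cfsg.IsClassFunction N θ := isClassFunction_of_isIrrCharacter hres
  have h3 := frobenius_reciprocity (U.subgroupOf N) η' θ hθc
  have h4 : (fun h : U.subgroupOf N => θ h) = η' + fun x => Δ (f x) := by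
    funext x
    simp only [hΔ, Pi.add_apply, Pi.sub_apply, hη']
    rw [add_sub_cancel]
    rfl
  rw [h4, classInner_add_right] at h3
  obtain ⟨c, hc⟩ := classInner_isCharacter_nat hη'c hη'c
  obtain ⟨k, hk⟩ := classInner_isCharacter_nat hη'c hΔ'c
  rw [hc, hk] at h3
  have hη1 : η' 1 = η 1 := rfl
  have hc0 : c ≠ 0 := by
    intro h0
    have h5 : η' 1 ≠ 0 := by rw [hη1]; exact irr_one_ne_zero hη
    apply classInner_self_ne_zero h5
    rw [hc, h0, Nat.cast_zero]
  -- degrees
  obtain ⟨d, hdpos, hd⟩ := irr_apply_one ⟨η, hη⟩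
  simp only at hd
  have hΦc : Cfsg.IsCharacter N (Cfsg.indFun (U.subgroupOf N) η') :=
    isCharacter_indFun _ hη'c
  have hΦ1 : Cfsg.indFun (U.subgroupOf N) η' 1 = (((U.subgroupOf N).index * d : ℕ) : ℂ) := by
    rw [Cfsg.Agent.Lib.Helper80_CharInd.indFun_one, hη1, hd]
    push_cast
    rfl
  have hθ1 : θ 1 = ((U.index * d : ℕ) : ℂ) := by
    have : θ 1 = ψ 1 := rfl
    rw [this, hψdef, Cfsg.Agent.Lib.Helper80_CharInd.indFun_one, hd]
    push_cast
    rfl
  have hle : (U.subgroupOf N).index * d ≤ U.index * d := by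
    apply Nat.mul_le_mul_right
    have h6 : U.relIndex N ≤ U.relIndex ⊤ :=
      Subgroup.relIndex_le_of_le_right le_top (by
        rw [Subgroup.relIndex_top_right]
        exact Subgroup.index_ne_zero_of_finite)
    rw [Subgroup.relIndex_top_right] at h6
    exact h6
  have hne : Cfsg.classInner (Cfsg.indFun (U.subgroupOf N) η') θ ≠ 0 := by
    rw [h3]
    have : ((c : ℂ) + (k : ℂ)) = ((c + k : ℕ) : ℂ) := by push_cast; ring
    rw [this]
    exact_mod_cast (by omega : c + k ≠ 0)
  have heq := Cfsg.Agent.Lib.Helper80_CharInd.eq_of_constituent_of_degree_le _ hΦc ⟨θ, hres⟩ hne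
    _ _ hΦ1 hθ1 hle
  simp only at heq
  rw [heq, classInner_self_of_isIrrCharacter hres] at h3
  have hck : c + k = 1 := by
    have : ((c + k : ℕ) : ℂ) = 1 := by push_cast; exact h3.symm
    exact_mod_cast this
  have hc1 : c = 1 := by omega
  have hirr' : Cfsg.IsIrrCharacter (U.subgroupOf N) η' := by
    apply isIrrCharacter_of_classInner_self hη'c
    rw [hc, hc1, Nat.cast_one]
  exact isIrrCharacter_comp_equiv (swapEquiv N U) hirr'

end counting


section caseB

open Cfsg.Agent.Lib.Helper75_Clifford Cfsg.Agent.Lib.Helper75_Induced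
  Cfsg.Agent.Lib.Helper75_CharArith Cfsg.Agent.Lib.Helper75_IndChar
  Cfsg.Agent.Lib.Helper3_CharBridge Cfsg.Agent.Lib.Helper3_CharOrtho
open Cfsg.Agent.S4835

/-- An irreducible character with all commutators in its kernel is linear. -/
theorem linear_of_commutator {L : Type*} [Group L] [Finite L] (φ : Cfsg.IrrCharacter L)
    (h : ∀ a b : L, (φ : L → ℂ) ⁅a, b⁆ = (φ : L → ℂ) 1) : (φ : L → ℂ) 1 = 1 := by
  have hle : commutator L ≤ irrKer φ := by
    rw [commutator_eq_closure, Subgroup.closure_le]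
    rintro _ ⟨a, b, rfl⟩
    exact h a b
  obtain ⟨χ, hχ⟩ := Cfsg.Agent.Lib.Helper77_QuotBlocks.exists_quot_char (commutator L) φ
    (fun u hu => hle hu)
  have : Fintype (L ⧸ commutator L) := Fintype.ofFinite _
  have hcomm : ∀ a b : Abelianization L, a * b = b * a := fun a b => mul_comm a b
  have h1 := Cfsg.Agent.S4567.irr_one_eq_one_of_comm (G := L ⧸ commutator L) hcomm χ.2
  rw [hχ]
  exact h1

variable {H : Type*} [Group H] [Fintype H]

/-- Constituents of `ψ|_L` are linear when `L' ≤ ker ψ`. -/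
theorem constituent_linear (ψ : Cfsg.IrrCharacter H) (L : Subgroup H) [Fintype L]
    (hLL : ⁅L, L⁆ ≤ irrKer ψ) (φ : Cfsg.IrrCharacter L)
    (hne : Cfsg.classInner (res L (ψ : H → ℂ)) (φ : L → ℂ) ≠ 0) : (φ : L → ℂ) 1 = 1 := by
  apply linear_of_commutator
  intro a b
  apply Cfsg.Agent.Lib.Helper80_BrolineGarrison.ker_constituent (res L (ψ : H → ℂ))
    (isCharacter_res L (isCharacter_of_isIrrCharacter ψ.2)) φ hne
  show (ψ : H → ℂ) ((⁅a, b⁆ : L) : H) = (ψ : H → ℂ) ((1 : L) : H)
  have h1 : ((⁅a, b⁆ : L) : H) = ⁅(a : H), (b : H)⁆ := by simp [commutatorElement_def]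
  rw [h1]
  exact hLL (Subgroup.commutator_mem_commutator a.2 b.2)

/-- Under quasi-primitivity on `L` with `L' ≤ ker ψ`, `L` is central modulo `ker ψ`. -/
theorem comm_mem_ker_of_quasi (ψ : Cfsg.IrrCharacter H) (L : Subgroup H) (hL : L.Normal)
    [Fintype L] (hLL : ⁅L, L⁆ ≤ irrKer ψ)
    (hq : ∀ φ : L → ℂ, Cfsg.IsIrrCharacter L φ →
      Cfsg.classInner (res L (ψ : H → ℂ)) φ ≠ 0 → ∀ g : H, Helper75_Clifford.conjFun L hL φ g = φ)
    (x : H) (hx : x ∈ L) (h : H) : x * h * x⁻¹ * h⁻¹ ∈ irrKer ψ := by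
  classical
  have hψL : Cfsg.IsCharacter L (res L (ψ : H → ℂ)) :=
    isCharacter_res L (isCharacter_of_isIrrCharacter ψ.2)
  obtain ⟨b, hb, hexp⟩ := exists_multiplicities hψL
  have hex : ∃ φ : Cfsg.IrrCharacter L,
      Cfsg.classInner (res L (ψ : H → ℂ)) (φ : L → ℂ) ≠ 0 := by
    by_contra hcon
    push Not at hcon
    have h0 : res L (ψ : H → ℂ) = 0 := by
      rw [hexp]
      apply Finset.sum_eq_zero
      intro φ _
      have h2 := hb φ
      rw [hcon φ] at h2
      have h3 : b φ = 0 := by exact_mod_cast h2.symm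
      rw [h3]; simp
    have h1 := congrFun h0 1
    exact irr_one_ne_zero ψ.2 h1
  obtain ⟨φ, hφ⟩ := hex
  have hlin := constituent_linear ψ L hLL φ hφ
  have hcl := clifford L hL ψ.2 φ.2 hφ
  have hset : {ψ' : L → ℂ | ∃ g : H, ψ' = Helper75_Clifford.conjFun L hL (φ : L → ℂ) g} = {(φ : L → ℂ)} := by
    ext ψ'
    simp only [Set.mem_ofPred_eq, Set.mem_singleton_iff]
    constructor
    · rintro ⟨g, rfl⟩
      exact hq φ φ.2 hφ g
    · intro h
      exact ⟨1, by rw [h, conjFun_one]⟩
  rw [hset, finsum_mem_singleton] at hcl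
  set e := Cfsg.classInner (res L (ψ : H → ℂ)) (φ : L → ℂ) with he
  have hval : ∀ y : L, (ψ : H → ℂ) y = e * (φ : L → ℂ) y := by
    intro y
    have h2 := congrFun hcl y
    rw [Pi.smul_apply, smul_eq_mul] at h2
    exact h2
  have h1 : (ψ : H → ℂ) 1 = e := by
    have h2 := hval 1
    rw [hlin, mul_one] at h2
    exact h2
  have hnorm : ‖(ψ : H → ℂ) x‖ = ‖(ψ : H → ℂ) 1‖ := by
    have h2 := hval ⟨x, hx⟩
    simp only at h2
    rw [h2, ← h1, norm_mul, Cfsg.Agent.Lib.Helper79_Linear.linear_norm ⟨φ, hlin⟩, mul_one]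
  rw [mem_irrKer]
  obtain ⟨m, ρ, hρ, hρψ⟩ := ψ.2
  rw [← hρψ] at hnorm ⊢
  rw [Representation.char_one] at hnorm ⊢
  rw [Complex.norm_natCast] at hnorm
  obtain ⟨ω, hω⟩ := Cfsg.Agent.Lib.Helper3_CharEigen.rho_eq_smul_id_of_norm_char_eq ρ x hnorm
  apply (Cfsg.Agent.Lib.Helper3_CharEigen.char_eq_finrank_iff ρ _).mpr
  have hcomm : ρ (x * h) = ρ (h * x) := by
    rw [map_mul, map_mul, hω]
    ext v
    simp
  have h3 : x * h * x⁻¹ * h⁻¹ = (x * h) * (h * x)⁻¹ := by group
  rw [h3, map_mul, hcomm, ← map_mul, mul_inv_cancel, map_one]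
  rfl

end caseB


section main

open Cfsg.Agent.Lib.Helper75_Clifford Cfsg.Agent.Lib.Helper75_Induced
  Cfsg.Agent.Lib.Helper75_CharArith Cfsg.Agent.Lib.Helper75_IndChar
  Cfsg.Agent.Lib.Helper3_CharBridge Cfsg.Agent.Lib.Helper3_CharOrtho
open Cfsg.Agent.S4835

/-- The iterated commutator subgroups of `N`, inside the ambient group. -/
def dSeries {H : Type*} [Group H] (N : Subgroup H) : ℕ → Subgroup H
  | 0 => N
  | (j + 1) => ⁅dSeries N j, dSeries N j⁆

theorem dSeries_zero {H : Type*} [Group H] (N : Subgroup H) : dSeries N 0 = N := rfl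

theorem dSeries_succ {H : Type*} [Group H] (N : Subgroup H) (j : ℕ) :
    dSeries N (j + 1) = ⁅dSeries N j, dSeries N j⁆ := rfl

theorem dSeries_normal {H : Type*} [Group H] (N : Subgroup H) [hN : N.Normal] (j : ℕ) :
    (dSeries N j).Normal := by
  induction j with
  | zero => exact hN
  | succ j ih =>
    rw [dSeries_succ]
    haveI := ih
    exact Subgroup.commutator_normal _ _

theorem dSeries_le {H : Type*} [Group H] (N : Subgroup H) [hN : N.Normal] (j : ℕ) :
    dSeries N j ≤ N := by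
  induction j with
  | zero => exact le_rfl
  | succ j ih =>
    rw [dSeries_succ]
    haveI := dSeries_normal N j
    exact le_trans (Subgroup.commutator_le_left _ _) ih

theorem dSeries_succ_le {H : Type*} [Group H] (N : Subgroup H) [hN : N.Normal] (j : ℕ) :
    dSeries N (j + 1) ≤ ⁅N, N⁆ := by
  rw [dSeries_succ]
  exact Subgroup.commutator_mono (dSeries_le N j) (dSeries_le N j)

theorem dSeries_le_derived {H : Type*} [Group H] (N : Subgroup H) (j : ℕ) :
    dSeries N j ≤ derivedSeries H j := by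
  induction j with
  | zero => rw [derivedSeries_zero]; exact le_top
  | succ j ih =>
    rw [dSeries_succ, derivedSeries_succ]
    exact Subgroup.commutator_mono ih ih

/-- Case B: a quasi-primitive character restricting irreducibly to `N` is linear. -/
theorem linear_of_quasi {H : Type*} [Group H] [Fintype H] [Group.IsSolvable H] (N : Subgroup H)
    (hN : N.Normal) (hAS : ASyl N) (ψ : Cfsg.IrrCharacter H)
    (hres : Cfsg.IsIrrCharacter N (res N (ψ : H → ℂ)))
    (hq : ∀ (L : Subgroup H) [Fintype L] (hL : L.Normal), L ≤ N → ∀ φ : L → ℂ,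
      Cfsg.IsIrrCharacter L φ → Cfsg.classInner (res L (ψ : H → ℂ)) φ ≠ 0 →
      ∀ g : H, Helper75_Clifford.conjFun L hL φ g = φ) : (ψ : H → ℂ) 1 = 1 := by
  classical
  have : Fintype N := Fintype.ofFinite N
  haveI := hN
  have step : ∀ j, dSeries N (j + 2) ≤ irrKer ψ → dSeries N (j + 1) ≤ irrKer ψ := by
    intro j hj x hx
    have : Fintype (dSeries N (j + 1)) := Fintype.ofFinite _
    have hLn := dSeries_normal N (j + 1)
    apply mem_of_commutator_mem N (irrKer ψ) hAS x (dSeries_succ_le N j hx)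
    intro n _
    exact comm_mem_ker_of_quasi ψ (dSeries N (j + 1)) hLn hj
      (hq _ hLn (dSeries_le N _)) x hx n
  obtain ⟨n, hn⟩ := Group.IsSolvable.solvable (G := H)
  have hbot : dSeries N (n + 1) ≤ irrKer ψ := by
    apply le_trans (dSeries_le_derived N (n + 1))
    rw [derivedSeries_succ, hn, Subgroup.commutator_bot_left]
    exact bot_le
  have hall : ∀ k, dSeries N (k + 1) ≤ irrKer ψ → dSeries N 1 ≤ irrKer ψ := by
    intro k
    induction k with
    | zero => exact id
    | succ k ih => intro h; exact ih (step k h)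
  have h1 : ⁅N, N⁆ ≤ irrKer ψ := hall n hbot
  have h2 := constituent_linear ψ N h1 ⟨res N (ψ : H → ℂ), hres⟩ (by
    rw [classInner_self_of_isIrrCharacter hres]; exact one_ne_zero)
  exact h2

theorem ASyl.subgroupOf {H : Type*} [Group H] {N : Subgroup H} (hAS : ASyl N) (T : Subgroup H) :
    ASyl (N.subgroupOf T) := by
  intro p hp Q hQ hQp a ha b hb
  have hle : Q.map T.subtype ≤ N := by
    rintro _ ⟨y, hy, rfl⟩
    exact hQ hy
  have h1 := hAS p hp (Q.map T.subtype) hle (hQp.map T.subtype) a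
    (Subgroup.mem_map_of_mem _ ha) b (Subgroup.mem_map_of_mem _ hb)
  exact Subtype.ext h1

/-- The inertia group of a function on a normal subgroup. -/
def inertiaGrp {G : Type*} [Group G] (N : Subgroup G) (hN : N.Normal) (ϑ : N → ℂ) :
    Subgroup G where
  carrier := {g | Helper75_Clifford.conjFun N hN ϑ g = ϑ}
  mul_mem' := by
    intro a b ha hb
    show Helper75_Clifford.conjFun N hN ϑ (a * b) = ϑ
    rw [← conjFun_conjFun, show Helper75_Clifford.conjFun N hN ϑ a = ϑ from ha]
    exact hb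
  one_mem' := conjFun_one N hN ϑ
  inv_mem' := by
    intro a ha
    show Helper75_Clifford.conjFun N hN ϑ a⁻¹ = ϑ
    have h1 : Helper75_Clifford.conjFun N hN (Helper75_Clifford.conjFun N hN ϑ a) a⁻¹ =
        Helper75_Clifford.conjFun N hN ϑ (a * a⁻¹) := conjFun_conjFun N hN ϑ a a⁻¹
    rw [show Helper75_Clifford.conjFun N hN ϑ a = ϑ from ha, mul_inv_cancel, conjFun_one] at h1
    exact h1

universe u

/-- Isaacs 6.23, core: by induction on the order of the group. -/
theorem relM_aux : ∀ (n : ℕ) (H : Type u) [Group H] [Fintype H] [Group.IsSolvable H],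
    Fintype.card H = n → ∀ (N : Subgroup H) (hN : N.Normal), ASyl N → ∀ ψ : H → ℂ,
      Cfsg.IsIrrCharacter H ψ → Cfsg.IsIrrCharacter N (res N ψ) →
      ∃ (U : Subgroup H) (lam : U → ℂ), Cfsg.IsCharacter U lam ∧ lam 1 = 1 ∧
        Cfsg.indFun U lam = ψ := by
  intro n
  induction n using Nat.strong_induction_on with
  | _ n ih =>
  intro H _ _ _ hcard N hN hAS ψ hψ hres
  classical
  by_cases hq : ∀ (L : Subgroup H) [Fintype L] (hL : L.Normal), L ≤ N → ∀ φ : L → ℂ,
      Cfsg.IsIrrCharacter L φ → Cfsg.classInner (res L ψ) φ ≠ 0 →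
      ∀ g : H, Helper75_Clifford.conjFun L hL φ g = φ
  · have h1 := linear_of_quasi N hN hAS ⟨ψ, hψ⟩ hres hq
    refine ⟨⊤, fun x => ψ x, isCharacter_restrict ⊤ (isCharacter_of_isIrrCharacter hψ), h1, ?_⟩
    exact Cfsg.Agent.Lib.Helper3_NilpMono.indFun_top ψ (isClassFunction_of_isIrrCharacter hψ)
  · push Not at hq
    obtain ⟨L, instL, hL, hLN, φ, hφ, hne, g, hg⟩ := hq
    set T := inertiaGrp L hL φ with hT
    have hTiff : ∀ g : H, g ∈ T ↔ Helper75_Clifford.conjFun L hL φ g = φ := fun g => Iff.rfl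
    have hLT : L ≤ T := by
      intro h hh
      rw [hTiff]
      exact conjFun_of_mem L hL (isClassFunction_of_isIrrCharacter hφ) ⟨h, hh⟩
    have : Fintype T := Fintype.ofFinite T
    have hTne : T ≠ ⊤ := by
      intro htop
      apply hg
      rw [← hTiff, htop]
      exact Subgroup.mem_top g
    obtain ⟨η, hη, hind, -⟩ := corr_surj L T hL hLT hφ hTiff hψ hne
    have hlt : Fintype.card T < n := by
      rw [← hcard]
      have h1 : Nat.card T ≤ Nat.card H := Subgroup.card_le_card_group T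
      have h2 : Nat.card T ≠ Nat.card H := fun h => hTne (Subgroup.eq_top_of_card_eq T h)
      rw [Nat.card_eq_fintype_card, Nat.card_eq_fintype_card] at h1 h2
      omega
    have hres' : Cfsg.IsIrrCharacter (N.subgroupOf T) (res (N.subgroupOf T) η) := by
      apply res_inf_irr N T η hη
      · rw [hind]; exact hψ
      · rw [hind]; exact hres
    have hN' : (N.subgroupOf T).Normal := by
      haveI := hN
      infer_instance
    obtain ⟨U', lam, hlam, hlam1, hU'⟩ :=
      ih (Fintype.card T) hlt T rfl (N.subgroupOf T) hN' (hAS.subgroupOf T) η hη hres'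
    refine ⟨U'.map T.subtype,
      fun x => lam ((U'.equivMapOfInjective T.subtype T.subtype_injective).symm x), ?_, ?_, ?_⟩
    · exact isCharacter_comp
        (U'.equivMapOfInjective T.subtype T.subtype_injective).symm.toMonoidHom hlam
    · show lam ((U'.equivMapOfInjective T.subtype T.subtype_injective).symm 1) = 1
      rw [map_one, hlam1]
    · rw [← hind, ← hU', Cfsg.Agent.Lib.Helper3_NilpMono.indFun_map_subtype]

/-- Isaacs 6.23, core statement. -/
theorem relM {H : Type u} [Group H] [Fintype H] [Group.IsSolvable H] (N : Subgroup H) (hN : N.Normal)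
    (hAS : ASyl N) (ψ : H → ℂ) (hψ : Cfsg.IsIrrCharacter H ψ)
    (hres : Cfsg.IsIrrCharacter N (res N ψ)) :
    ∃ (U : Subgroup H) (lam : U → ℂ), Cfsg.IsCharacter U lam ∧ lam 1 = 1 ∧
      Cfsg.indFun U lam = ψ :=
  relM_aux _ H rfl N hN hAS ψ hψ hres

end main

end Cfsg.Agent.Lib.Helper80_RelM
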