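import Mathlib
import Cfsg.Prelude.Def_Characters
import Cfsg.Prelude.Def_Blocks
import Cfsg.Agent.Lib.Helper80_RelM
import Cfsg.Agent.S4835

/-!
# S4460 package PA6 (helper10, for helper50)

If the commutator subgroup is contained in every nontrivial normal subgroup, then every nonlinear
irreducible character is faithful.
-/

set_option autoImplicit false

namespace Cfsg.Agent.Lib.Helper10_Isaacs1215_PA6

open Cfsg
open scoped commutatorElement

universe u

/-- PA6 = nonlinear characters are faithful when `G'` is the unique minimal normal subgroup -/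
theorem PA6 {G : Type u} [Group G] [Finite G]
    (hmin : ∀ N : Subgroup G, N.Normal → N ≠ ⊥ → commutator G ≤ N)
    (χ : IrrCharacter G) (hχ : (χ : G → ℂ) 1 ≠ 1) (g : G)
    (hg : (χ : G → ℂ) g = (χ : G → ℂ) 1) : g = 1 := by
  by_contra hne
  have hmem : g ∈ Cfsg.Agent.S4835.irrKer χ := (Cfsg.Agent.S4835.mem_irrKer χ g).mpr hg
  have hnb : Cfsg.Agent.S4835.irrKer χ ≠ ⊥ := by
    intro hbot
    rw [hbot, Subgroup.mem_bot] at hmem
    exact hne hmem
  have hle := hmin (Cfsg.Agent.S4835.irrKer χ) (Cfsg.Agent.S4835.irrKer_normal χ) hnb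
  apply hχ
  apply Cfsg.Agent.Lib.Helper80_RelM.linear_of_commutator χ
  intro a b
  have : ⁅a, b⁆ ∈ commutator G := by
    rw [commutator_eq_closure]
    exact Subgroup.subset_closure ⟨a, b, rfl⟩
  exact (Cfsg.Agent.S4835.mem_irrKer χ _).mp (hle this)

end Cfsg.Agent.Lib.Helper10_Isaacs1215_PA6
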