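import Mathlib

set_option autoImplicit false
set_option linter.unusedSectionVars false
open scoped commutatorElement

namespace Cfsg.Agent.Lib.Helper51_Offender

variable {G : Type*} [Group G]

/-- `C_V(B)`. -/
def CV (V B : Subgroup G) : Subgroup G := V ⊓ Subgroup.centralizer (B : Set G)

theorem mem_CV {V B : Subgroup G} {x : G} :
    x ∈ CV V B ↔ x ∈ V ∧ ∀ b ∈ B, b * x = x * b := by
  unfold CV
  rw [Subgroup.mem_inf, Subgroup.mem_centralizer_iff]
  rfl

theorem CV_le (V B : Subgroup G) : CV V B ≤ V := inf_le_left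

theorem CV_anti (V : Subgroup G) {B D : Subgroup G} (h : B ≤ D) : CV V D ≤ CV V B :=
  inf_le_inf_left V (Subgroup.centralizer_le h)

/-- Standing hypotheses: `V` abelian, normalized by `A`, and `A` acts on `V` as an abelian group. -/
structure Act (V A : Subgroup G) : Prop where
  hVc : ∀ x ∈ V, ∀ y ∈ V, x * y = y * x
  hAV : A ≤ Subgroup.normalizer (V : Set G)
  hAA : ⁅A, A⁆ ≤ Subgroup.centralizer (V : Set G)

namespace Act

variable {V A : Subgroup G} (h : Act V A)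
include h

theorem conj_mem {a x : G} (ha : a ∈ A) (hx : x ∈ V) : a * x * a⁻¹ ∈ V :=
  (Subgroup.mem_normalizer_iff.mp (h.hAV ha) x).mp hx

theorem conj_mem' {a x : G} (ha : a ∈ A) (hx : x ∈ V) : a⁻¹ * x * a ∈ V := by
  have := h.conj_mem (A.inv_mem ha) hx
  simpa using this

theorem comm_mem {v a : G} (hv : v ∈ V) (ha : a ∈ A) : ⁅v, a⁆ ∈ V := by
  have e : ⁅v, a⁆ = v * (a * v⁻¹ * a⁻¹) := by rw [commutatorElement_def]; group
  rw [e]
  exact V.mul_mem hv (h.conj_mem ha (V.inv_mem hv))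

theorem comm_mul {v w a : G} (hv : v ∈ V) (hw : w ∈ V) (ha : a ∈ A) :
    ⁅v * w, a⁆ = ⁅v, a⁆ * ⁅w, a⁆ := by
  have h1 : a * w⁻¹ * a⁻¹ ∈ V := h.conj_mem ha (V.inv_mem hw)
  have h2 : a * v⁻¹ * a⁻¹ ∈ V := h.conj_mem ha (V.inv_mem hv)
  have e1 : ⁅v * w, a⁆ = v * (w * ((a * w⁻¹ * a⁻¹) * (a * v⁻¹ * a⁻¹))) := by
    rw [commutatorElement_def]; group
  have e2 : ⁅v, a⁆ * ⁅w, a⁆ = v * ((a * v⁻¹ * a⁻¹) * (w * (a * w⁻¹ * a⁻¹))) := by
    rw [commutatorElement_def, commutatorElement_def]; group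
  rw [e1, e2]
  congr 1
  rw [h.hVc _ h1 _ h2, ← mul_assoc, h.hVc _ hw _ h2, mul_assoc]

omit h in
theorem comm_one (a : G) : ⁅(1 : G), a⁆ = 1 := by
  rw [commutatorElement_def]; group

theorem comm_inv {v a : G} (hv : v ∈ V) (ha : a ∈ A) : ⁅v⁻¹, a⁆ = ⁅v, a⁆⁻¹ := by
  have := h.comm_mul hv (V.inv_mem hv) ha
  rw [mul_inv_cancel, Act.comm_one] at this
  exact eq_inv_of_mul_eq_one_right this.symm

/-- The action of `A` on `V` is commutative. -/
theorem conj_conj {a b x : G} (ha : a ∈ A) (hb : b ∈ A) (hx : x ∈ V) :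
    a * (b * x * b⁻¹) * a⁻¹ = b * (a * x * a⁻¹) * b⁻¹ := by
  have hc : ⁅a, b⁆ ∈ Subgroup.centralizer (V : Set G) :=
    h.hAA (Subgroup.commutator_mem_commutator ha hb)
  have hy : b * (a * x * a⁻¹) * b⁻¹ ∈ V := h.conj_mem hb (h.conj_mem ha hx)
  have := Subgroup.mem_centralizer_iff.mp hc _ hy
  -- this : y * ⁅a,b⁆ = ⁅a,b⁆ * y
  have e : a * (b * x * b⁻¹) * a⁻¹ = ⁅a, b⁆ * (b * (a * x * a⁻¹) * b⁻¹) * ⁅a, b⁆⁻¹ := by
    rw [commutatorElement_def]; group
  rw [e, ← this]; group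

theorem comm_conj {a b x : G} (ha : a ∈ A) (hb : b ∈ A) (hx : x ∈ V) :
    ⁅a * x * a⁻¹, b⁆ = a * ⁅x, b⁆ * a⁻¹ := by
  have h1 := h.conj_conj hb ha (V.inv_mem hx)
  have e1 : ⁅a * x * a⁻¹, b⁆ = (a * x * a⁻¹) * (b * (a * x⁻¹ * a⁻¹) * b⁻¹) := by
    rw [commutatorElement_def]; group
  have e2 : a * ⁅x, b⁆ * a⁻¹ = (a * x * a⁻¹) * (a * (b * x⁻¹ * b⁻¹) * a⁻¹) := by
    rw [commutatorElement_def]; group
  rw [e1, e2, h1]

/-- `[x, a, b] = [x, b, a]`. -/
theorem comm_comm {a b x : G} (ha : a ∈ A) (hb : b ∈ A) (hx : x ∈ V) :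
    ⁅⁅x, a⁆, b⁆ = ⁅⁅x, b⁆, a⁆ := by
  have e : ⁅x, a⁆ = x * (a * x⁻¹ * a⁻¹) := by rw [commutatorElement_def]; group
  rw [e, h.comm_mul hx (h.conj_mem ha (V.inv_mem hx)) hb, h.comm_conj ha hb (V.inv_mem hx),
    h.comm_inv hx hb]
  rw [commutatorElement_def ⁅x, b⁆ a]; group

theorem mono {V' : Subgroup G} (hV' : V' ≤ V) (hA : A ≤ Subgroup.normalizer (V' : Set G)) :
    Act V' A :=
  ⟨fun x hx y hy => h.hVc x (hV' hx) y (hV' hy), hA,
    h.hAA.trans (Subgroup.centralizer_le hV')⟩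

end Act

/-- `C_A([X, A])`. -/
def T (A X : Subgroup G) : Subgroup G := A ⊓ Subgroup.centralizer ((⁅X, A⁆ : Subgroup G) : Set G)

theorem T_le (A X : Subgroup G) : T A X ≤ A := inf_le_left

namespace Act

variable {V A : Subgroup G} (h : Act V A)
include h

omit h in
/-- `C_V(A)` is centralized by `A`. -/
theorem CV_comm {z a : G} (hz : z ∈ CV V A) (ha : a ∈ A) : a * z = z * a :=
  (mem_CV.mp hz).2 a ha

omit h in
theorem comm_eq_one_of_mem_CV {z a : G} (hz : z ∈ CV V A) (ha : a ∈ A) : ⁅z, a⁆ = 1 := by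
  rw [commutatorElement_eq_one_iff_mul_comm]
  exact (Act.CV_comm hz ha).symm

omit h in
theorem mem_CV_of_comm {z : G} (hz : z ∈ V) (hc : ∀ a ∈ A, ⁅z, a⁆ = 1) : z ∈ CV V A := by
  rw [mem_CV]
  refine ⟨hz, fun a ha => ?_⟩
  exact (commutatorElement_eq_one_iff_mul_comm.mp (hc a ha)).symm

/-- Characterisation of `C_A([X, A])`. -/
theorem mem_T_iff {X : Subgroup G} (hX : X ≤ V) {b : G} (hb : b ∈ A) :
    b ∈ T A X ↔ ∀ x ∈ X, ⁅x, b⁆ ∈ CV V A := by
  unfold T
  rw [Subgroup.mem_inf]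
  constructor
  · rintro ⟨_, hbc⟩ x hx
    apply Act.mem_CV_of_comm (h.comm_mem (hX hx) hb)
    intro a ha
    rw [← h.comm_comm ha hb (hX hx), commutatorElement_eq_one_iff_mul_comm]
    exact Subgroup.mem_centralizer_iff.mp hbc _
      (Subgroup.commutator_mem_commutator hx ha)
  · intro hall
    refine ⟨hb, ?_⟩
    rw [Subgroup.commutator_def, Subgroup.centralizer_closure, Subgroup.mem_centralizer_iff]
    rintro g ⟨x, hx, a, ha, rfl⟩
    have := Act.comm_eq_one_of_mem_CV (hall x hx) ha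
    rw [← h.comm_comm ha hb (hX hx), commutatorElement_eq_one_iff_mul_comm] at this
    exact this

/-- The subgroup of `V` mapped into `D` by `x ↦ [x, b]`. -/
def Kb (_h : Act V A) (b : G) (hb : b ∈ A) (D : Subgroup G) : Subgroup G where
  carrier := {z | z ∈ V ∧ ⁅z, b⁆ ∈ D}
  one_mem' := ⟨V.one_mem, by rw [Act.comm_one]; exact D.one_mem⟩
  mul_mem' := by
    rintro x y ⟨hx, hxD⟩ ⟨hy, hyD⟩
    refine ⟨V.mul_mem hx hy, ?_⟩
    rw [_h.comm_mul hx hy hb]
    exact D.mul_mem hxD hyD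
  inv_mem' := by
    rintro x ⟨hx, hxD⟩
    refine ⟨V.inv_mem hx, ?_⟩
    rw [_h.comm_inv hx hb]
    exact D.inv_mem hxD

theorem mem_Kb {b : G} {hb : b ∈ A} {D : Subgroup G} {z : G} :
    z ∈ h.Kb b hb D ↔ z ∈ V ∧ ⁅z, b⁆ ∈ D := Iff.rfl

theorem T_sup {X Y : Subgroup G} (hX : X ≤ V) (hY : Y ≤ V) :
    T A (X ⊔ Y) = T A X ⊓ T A Y := by
  ext b
  by_cases hb : b ∈ A
  · rw [Subgroup.mem_inf, h.mem_T_iff (sup_le hX hY) hb, h.mem_T_iff hX hb, h.mem_T_iff hY hb]
    constructor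
    · intro hall
      exact ⟨fun x hx => hall x ((le_sup_left : X ≤ X ⊔ Y) hx),
        fun y hy => hall y ((le_sup_right : Y ≤ X ⊔ Y) hy)⟩
    · rintro ⟨h1, h2⟩ z hz
      have hle : X ⊔ Y ≤ h.Kb b hb (CV V A) :=
        sup_le (fun x hx => ⟨hX hx, h1 x hx⟩) (fun y hy => ⟨hY hy, h2 y hy⟩)
      exact (hle hz).2
  · constructor
    · intro hb'; exact absurd (T_le A _ hb') hb
    · intro hb'; exact absurd (T_le A _ hb'.1) hb

theorem commutator_sup {X Y : Subgroup G} (hX : X ≤ V) (hY : Y ≤ V) :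
    ⁅X ⊔ Y, A⁆ = ⁅X, A⁆ ⊔ ⁅Y, A⁆ := by
  apply le_antisymm
  · rw [Subgroup.commutator_le]
    intro z hz a ha
    have hle : X ⊔ Y ≤ h.Kb a ha (⁅X, A⁆ ⊔ ⁅Y, A⁆) :=
      sup_le
        (fun x hx => ⟨hX hx, (le_sup_left : ⁅X, A⁆ ≤ _)
          (Subgroup.commutator_mem_commutator hx ha)⟩)
        (fun y hy => ⟨hY hy, (le_sup_right : ⁅Y, A⁆ ≤ _)
          (Subgroup.commutator_mem_commutator hy ha)⟩)
    exact (hle hz).2
  · exact sup_le (Subgroup.commutator_mono le_sup_left le_rfl)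
      (Subgroup.commutator_mono le_sup_right le_rfl)

theorem commutator_le {X : Subgroup G} (hX : X ≤ V) : ⁅X, A⁆ ≤ V := by
  rw [Subgroup.commutator_le]
  intro x hx a ha
  exact h.comm_mem (hX hx) ha

/-- `[X, A] C_V(A) ≤ C_V(C_A([X, A]))`. -/
theorem sup_le_CV_T {X : Subgroup G} (hX : X ≤ V) : ⁅X, A⁆ ⊔ CV V A ≤ CV V (T A X) := by
  apply sup_le
  · intro w hw
    rw [mem_CV]
    refine ⟨h.commutator_le hX hw, fun b hb => ?_⟩
    exact (Subgroup.mem_centralizer_iff.mp hb.2 w hw).symm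
  · exact CV_anti V (T_le A X)

end Act

section counting

variable [Finite G]

/-- `|H| |K| ≤ |H ⊔ K| |H ⊓ K|`. -/
theorem card_mul_card_le (H K : Subgroup G) :
    Nat.card H * Nat.card K ≤ Nat.card ↥(H ⊔ K) * Nat.card ↥(H ⊓ K) := by
  set L := H ⊔ K with hL
  have hHL : H ≤ L := le_sup_left
  have hKL : K ≤ L := le_sup_right
  have hDL : H ⊓ K ≤ L := inf_le_left.trans hHL
  have cm : ∀ M : Subgroup G, M ≤ L → Nat.card M * M.relIndex L = Nat.card L := by
    intro M hM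
    have := Subgroup.relIndex_mul_relIndex (H := (⊥ : Subgroup G)) (K := M) (L := L) bot_le hM
    simpa [Subgroup.relIndex_bot_left] using this
  have h1 := cm H hHL
  have h2 := cm K hKL
  have h3 := cm (H ⊓ K) hDL
  have h4 : (H ⊓ K).relIndex L ≤ H.relIndex L * K.relIndex L := Subgroup.relIndex_inf_le
  have hpos : 0 < (H ⊓ K).relIndex L := by
    apply Nat.pos_of_ne_zero
    exact Subgroup.index_ne_zero_of_finite
  have : Nat.card H * Nat.card K * (H ⊓ K).relIndex L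
      ≤ Nat.card L * Nat.card ↥(H ⊓ K) * (H ⊓ K).relIndex L := by
    calc Nat.card H * Nat.card K * (H ⊓ K).relIndex L
        ≤ Nat.card H * Nat.card K * (H.relIndex L * K.relIndex L) := by gcongr
      _ = (Nat.card H * H.relIndex L) * (Nat.card K * K.relIndex L) := by ring
      _ = Nat.card L * Nat.card L := by rw [h1, h2]
      _ = Nat.card L * (Nat.card ↥(H ⊓ K) * (H ⊓ K).relIndex L) := by rw [h3]
      _ = Nat.card L * Nat.card ↥(H ⊓ K) * (H ⊓ K).relIndex L := by ring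
  exact Nat.le_of_mul_le_mul_right this hpos

theorem card_mul_relIndex {M N : Subgroup G} (hM : M ≤ N) :
    Nat.card M * M.relIndex N = Nat.card N := by
  have := Subgroup.relIndex_mul_relIndex (H := (⊥ : Subgroup G)) (K := M) (L := N) bot_le hM
  simpa [Subgroup.relIndex_bot_left] using this

/-- An index comparison from a map reflecting the coset relation. -/
theorem index_le_of_map {K₁ K₂ : Type*} [Group K₁] [Group K₂] [Finite K₂]
    (H₁ : Subgroup K₁) (H₂ : Subgroup K₂) (f : K₁ → K₂)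
    (hf : ∀ a c, (f a)⁻¹ * f c ∈ H₂ → a⁻¹ * c ∈ H₁) : H₁.index ≤ H₂.index := by
  unfold Subgroup.index
  apply Nat.card_le_card_of_injective
    (fun q : K₁ ⧸ H₁ => (QuotientGroup.mk (f (Quotient.out q)) : K₂ ⧸ H₂))
  intro q₁ q₂ h
  have h1 : (f (Quotient.out q₁))⁻¹ * f (Quotient.out q₂) ∈ H₂ := QuotientGroup.eq.mp h
  have h2 := hf _ _ h1
  have h3 : (QuotientGroup.mk (Quotient.out q₁) : K₁ ⧸ H₁) = QuotientGroup.mk (Quotient.out q₂) :=
    QuotientGroup.eq.mpr h2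
  simpa using h3

/-- The measure `|B| |C_V(B)|`. -/
noncomputable def m (V B : Subgroup G) : ℕ := Nat.card B * Nat.card (CV V B)

/-- `A` maximizes the measure among its subgroups. -/
def Best (V A : Subgroup G) : Prop := ∀ B : Subgroup G, B ≤ A → m V B ≤ m V A

theorem m_pos (V B : Subgroup G) : 0 < m V B := Nat.mul_pos Nat.card_pos Nat.card_pos

theorem mem_centralizer_iff_le (E : Subgroup G) (x : G) :
    x ∈ Subgroup.centralizer (E : Set G) ↔ E ≤ Subgroup.centralizer ({x} : Set G) := by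
  constructor
  · intro hx e he
    rw [Subgroup.mem_centralizer_singleton_iff]
    exact Subgroup.mem_centralizer_iff.mp hx e he
  · intro hE
    rw [Subgroup.mem_centralizer_iff]
    intro e he
    exact Subgroup.mem_centralizer_singleton_iff.mp (hE he)

theorem CV_inf_le (V B D : Subgroup G) : CV V B ⊓ CV V D ≤ CV V (B ⊔ D) := by
  intro x hx
  refine ⟨hx.1.1, ?_⟩
  show x ∈ Subgroup.centralizer ((B ⊔ D : Subgroup G) : Set G)
  rw [mem_centralizer_iff_le]
  exact sup_le ((mem_centralizer_iff_le B x).mp hx.1.2) ((mem_centralizer_iff_le D x).mp hx.2.2)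

theorem CV_sup_le (V B D : Subgroup G) : CV V B ⊔ CV V D ≤ CV V (B ⊓ D) :=
  sup_le (CV_anti V inf_le_left) (CV_anti V inf_le_right)

/-- The members of maximal measure form a lattice (intersection part). -/
theorem lattice {V A : Subgroup G} (hbest : Best V A) {B D : Subgroup G} (hB : B ≤ A)
    (hD : D ≤ A) (hmB : m V B = m V A) (hmD : m V D = m V A) :
    m V (B ⊓ D) = m V A ∧ CV V (B ⊓ D) = CV V B ⊔ CV V D := by
  have h1 := card_mul_card_le B D
  have h2 := card_mul_card_le (CV V B) (CV V D)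
  have h2' : Nat.card (CV V B) * Nat.card (CV V D) ≤
      Nat.card ↥(CV V B ⊔ CV V D) * Nat.card (CV V (B ⊔ D)) :=
    h2.trans (Nat.mul_le_mul_left _ (Subgroup.card_le_of_le (CV_inf_le V B D)))
  have h3 : Nat.card ↥(CV V B ⊔ CV V D) ≤ Nat.card (CV V (B ⊓ D)) :=
    Subgroup.card_le_of_le (CV_sup_le V B D)
  have h4 : m V (B ⊔ D) ≤ m V A := hbest _ (sup_le hB hD)
  have h5 : m V (B ⊓ D) ≤ m V A := hbest _ (inf_le_left.trans hB)
  unfold m at *
  set M := Nat.card A * Nat.card (CV V A) with hM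
  set x := Nat.card ↥(B ⊔ D)
  set y := Nat.card ↥(B ⊓ D)
  set c1 := Nat.card ↥(CV V B ⊔ CV V D)
  set c2 := Nat.card (CV V (B ⊔ D))
  set c3 := Nat.card (CV V (B ⊓ D))
  have hMpos : 0 < M := Nat.mul_pos Nat.card_pos Nat.card_pos
  have hypos : 0 < y := Nat.card_pos
  have hMM : M * M ≤ (x * c2) * (y * c1) := by
    calc M * M = (Nat.card B * Nat.card (CV V B)) * (Nat.card D * Nat.card (CV V D)) := by
          rw [hmB, hmD]
      _ = (Nat.card B * Nat.card D) * (Nat.card (CV V B) * Nat.card (CV V D)) := by ring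
      _ ≤ (x * y) * (c1 * c2) := Nat.mul_le_mul h1 h2'
      _ = (x * c2) * (y * c1) := by ring
  have hQ1 : M ≤ y * c1 := by
    have : M * M ≤ M * (y * c1) := hMM.trans (Nat.mul_le_mul_right _ h4)
    exact Nat.le_of_mul_le_mul_left this hMpos
  have hQ13 : y * c1 ≤ y * c3 := Nat.mul_le_mul_left _ h3
  have hy3 : y * c3 = M := le_antisymm h5 (hQ1.trans hQ13)
  have hc : c1 = c3 := by
    have : y * c1 = y * c3 := le_antisymm hQ13 (hy3 ▸ hQ1)
    exact Nat.eq_of_mul_eq_mul_left hypos this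
  refine ⟨hy3, ?_⟩
  symm
  exact Subgroup.eq_of_le_of_card_ge (CV_sup_le V B D) hc.ge

end counting

section replacement

variable [Finite G] {V A : Subgroup G} (h : Act V A)
include h

/-- `[g, a c] = [g, a] · a [g, c] a⁻¹`. -/
theorem comm_mul_right (g a c : G) : ⁅g, a * c⁆ = ⁅g, a⁆ * (a * ⁅g, c⁆ * a⁻¹) := by
  simp only [commutatorElement_def]; group

/-- Orbit counting: `|A : C_A([u, A])| ≤ |[u, A] C_V(A) : C_V(A)|`. -/
theorem relIndex_T_zpowers_le {u : G} (hu : u ∈ V) :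
    (T A (Subgroup.zpowers u)).relIndex A ≤
      (CV V A).relIndex (⁅Subgroup.zpowers u, A⁆ ⊔ CV V A) := by
  have hX : Subgroup.zpowers u ≤ V := Subgroup.zpowers_le.mpr hu
  unfold Subgroup.relIndex
  apply index_le_of_map _ _
    (fun a : A => (⟨⁅u, (a : G)⁆, (le_sup_left : ⁅Subgroup.zpowers u, A⁆ ≤ _)
      (Subgroup.commutator_mem_commutator (Subgroup.mem_zpowers u) a.2)⟩ :
        ↥(⁅Subgroup.zpowers u, A⁆ ⊔ CV V A)))
  intro a c hac
  rw [Subgroup.mem_subgroupOf] at hac ⊢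
  have hz : (⁅u, (a : G)⁆)⁻¹ * ⁅u, (c : G)⁆ ∈ CV V A := hac
  have hacA : (a : G)⁻¹ * (c : G) ∈ A := A.mul_mem (A.inv_mem a.2) c.2
  show (a : G)⁻¹ * (c : G) ∈ T A (Subgroup.zpowers u)
  rw [h.mem_T_iff hX hacA]
  have hkey : ⁅u, (a : G)⁻¹ * (c : G)⁆ ∈ CV V A := by
    have e := comm_mul_right h u (a : G) ((a : G)⁻¹ * (c : G))
    rw [mul_inv_cancel_left] at e
    have e2 : (a : G) * ⁅u, (a : G)⁻¹ * (c : G)⁆ * (a : G)⁻¹ = (⁅u, (a : G)⁆)⁻¹ * ⁅u, (c : G)⁆ := by
      rw [e]; group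
    have e3 : ⁅u, (a : G)⁻¹ * (c : G)⁆ =
        (a : G)⁻¹ * ((⁅u, (a : G)⁆)⁻¹ * ⁅u, (c : G)⁆) * (a : G) := by
      rw [← e2]; group
    have hcomm := Act.CV_comm hz a.2
    rw [e3, mul_assoc, ← hcomm, ← mul_assoc, inv_mul_cancel, one_mul]
    exact hz
  intro x hx
  have hle : Subgroup.zpowers u ≤ h.Kb ((a : G)⁻¹ * (c : G)) hacA (CV V A) :=
    Subgroup.zpowers_le.mpr ⟨hu, hkey⟩
  exact (hle hx).2

/-- The good subgroups `X` of `V`. -/
def Good (V A X : Subgroup G) : Prop :=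
  m V (T A X) = m V A ∧ CV V (T A X) = ⁅X, A⁆ ⊔ CV V A

theorem good_zpowers (hbest : Best V A) {u : G} (hu : u ∈ V) :
    Good V A (Subgroup.zpowers u) := by
  have hX : Subgroup.zpowers u ≤ V := Subgroup.zpowers_le.mpr hu
  set X := Subgroup.zpowers u
  set W := ⁅X, A⁆
  set C := CV V A
  set T' := T A X
  have i1 : T'.relIndex A ≤ C.relIndex (W ⊔ C) := relIndex_T_zpowers_le h hu
  have cT : Nat.card T' * T'.relIndex A = Nat.card A := card_mul_relIndex (T_le A X)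
  have cC : Nat.card C * C.relIndex (W ⊔ C) = Nat.card ↥(W ⊔ C) := card_mul_relIndex le_sup_right
  have le1 : W ⊔ C ≤ CV V T' := h.sup_le_CV_T hX
  have hm : m V T' ≤ m V A := hbest _ (T_le A X)
  unfold Good
  unfold m at hm ⊢
  have chain1 : Nat.card A * Nat.card C ≤ Nat.card T' * Nat.card ↥(W ⊔ C) := by
    calc Nat.card A * Nat.card C = Nat.card T' * (Nat.card C * T'.relIndex A) := by
          rw [← cT]; ring
      _ ≤ Nat.card T' * (Nat.card C * C.relIndex (W ⊔ C)) := by gcongr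
      _ = Nat.card T' * Nat.card ↥(W ⊔ C) := by rw [cC]
  have chain2 : Nat.card T' * Nat.card ↥(W ⊔ C) ≤ Nat.card T' * Nat.card (CV V T') :=
    Nat.mul_le_mul_left _ (Subgroup.card_le_of_le le1)
  have heq : Nat.card T' * Nat.card (CV V T') = Nat.card A * Nat.card C :=
    le_antisymm hm (chain1.trans chain2)
  refine ⟨heq, ?_⟩
  have hc : Nat.card T' * Nat.card ↥(W ⊔ C) = Nat.card T' * Nat.card (CV V T') :=
    le_antisymm chain2 (heq ▸ chain1)
  have hc' : Nat.card ↥(W ⊔ C) = Nat.card (CV V T') := Nat.eq_of_mul_eq_mul_left Nat.card_pos hc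
  symm
  exact Subgroup.eq_of_le_of_card_ge le1 hc'.ge

theorem good_sup (hbest : Best V A) {X Y : Subgroup G} (hX : X ≤ V) (hY : Y ≤ V)
    (gX : Good V A X) (gY : Good V A Y) : Good V A (X ⊔ Y) := by
  unfold Good
  rw [h.T_sup hX hY]
  obtain ⟨l1, l2⟩ := lattice hbest (T_le A X) (T_le A Y) gX.1 gY.1
  refine ⟨l1, ?_⟩
  rw [l2, gX.2, gY.2, h.commutator_sup hX hY]
  rw [sup_sup_sup_comm, sup_idem]

/-- **Timmesfeld replacement, strong form.** -/
theorem good_of_le (hbest : Best V A) {U : Subgroup G} (hU : U ≤ V) : Good V A U := by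
  have hne : Nonempty {X : Subgroup G // X ≤ U ∧ Good V A X} := by
    refine ⟨⟨⊥, bot_le, ?_⟩⟩
    rw [← Subgroup.zpowers_one_eq_bot]
    exact good_zpowers h hbest V.one_mem
  obtain ⟨⟨X, hXU, gX⟩, hmax⟩ := Finite.exists_max
    (fun X : {X : Subgroup G // X ≤ U ∧ Good V A X} => Nat.card X.1)
  by_cases hXeq : X = U
  · rw [← hXeq]; exact gX
  · exfalso
    have hlt : X < U := lt_of_le_of_ne hXU hXeq
    obtain ⟨u, huU, huX⟩ := SetLike.exists_of_lt hlt
    have hzu : Subgroup.zpowers u ≤ U := Subgroup.zpowers_le.mpr huU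
    have g' : Good V A (X ⊔ Subgroup.zpowers u) :=
      good_sup h hbest (hXU.trans hU) (hzu.trans hU) gX (good_zpowers h hbest (hU huU))
    have := hmax ⟨X ⊔ Subgroup.zpowers u, sup_le hXU hzu, g'⟩
    have hXlt : X < X ⊔ Subgroup.zpowers u := by
      apply lt_of_le_of_ne le_sup_left
      intro heq
      apply huX
      rw [heq]
      exact (le_sup_right : Subgroup.zpowers u ≤ _) (Subgroup.mem_zpowers u)
    have hcardlt : Nat.card X < Nat.card ↥(X ⊔ Subgroup.zpowers u) := by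
      apply lt_of_le_of_ne (Subgroup.card_le_of_le hXlt.le)
      intro hc
      exact hXlt.ne (Subgroup.eq_of_le_of_card_ge hXlt.le hc.ge)
    exact absurd this (not_le.mpr hcardlt)

end replacement

section nilpotent

variable [Finite G] {p : ℕ} [hp : Fact p.Prime]

/-- An element acting with order dividing `p` on a nontrivial `p`-subgroup has a nontrivial fixed point. -/
theorem exists_fixed_ne_one {V' : Subgroup G} (hVp : IsPGroup p V') (hne : V' ≠ ⊥) {b : G}
    (hb : b ∈ Subgroup.normalizer (V' : Set G))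
    (hbp : b ^ p ∈ Subgroup.centralizer (V' : Set G)) :
    ∃ v ∈ V', v ≠ 1 ∧ b * v * b⁻¹ = v := by
  classical
  have : Fintype ↥V' := Fintype.ofFinite _
  let f : Function.End ↥V' := fun v =>
    ⟨b * (v : G) * b⁻¹, (Subgroup.mem_normalizer_iff.mp hb v).mp v.2⟩
  have hfk : ∀ (k : ℕ) (v : ↥V'), (((f ^ k) v : ↥V') : G) = b ^ k * (v : G) * (b ^ k)⁻¹ := by
    intro k
    induction k with
    | zero => intro v; rw [pow_zero, pow_zero]; show (v : G) = 1 * (v : G) * 1⁻¹; group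
    | succ k ih =>
      intro v
      rw [pow_succ']
      show b * (((f ^ k) v : ↥V') : G) * b⁻¹ = _
      rw [ih v, pow_succ']; group
  have hf : f ^ p ^ 1 = 1 := by
    funext v
    apply Subtype.ext
    rw [pow_one, hfk p v]
    have := Subgroup.mem_centralizer_iff.mp hbp (v : G) v.2
    show b ^ p * (v : G) * (b ^ p)⁻¹ = (v : G)
    rw [← this]; group
  have hmod := Equiv.Perm.card_fixedPoints_modEq (p := p) (n := 1) hf
  have hpV : p ∣ Fintype.card ↥V' := by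
    obtain ⟨n, hn⟩ := IsPGroup.iff_card.mp hVp
    rw [← Nat.card_eq_fintype_card, hn]
    rcases n with _ | n
    · exfalso
      apply hne
      apply Subgroup.eq_bot_of_card_eq
      simpa using hn
    · exact dvd_pow_self p (Nat.succ_ne_zero n)
  have hpF : p ∣ Fintype.card (Function.fixedPoints f) :=
    (Nat.modEq_zero_iff_dvd.mp ((hmod.symm.trans (Nat.modEq_zero_iff_dvd.mpr hpV))))
  have h1 : (1 : ↥V') ∈ Function.fixedPoints f := by
    show f 1 = 1
    apply Subtype.ext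
    show b * ((1 : ↥V') : G) * b⁻¹ = ((1 : ↥V') : G)
    simp
  have hcard : 1 < Fintype.card (Function.fixedPoints f) := by
    have hpos : 0 < Fintype.card (Function.fixedPoints f) := Fintype.card_pos_iff.mpr ⟨⟨1, h1⟩⟩
    exact lt_of_lt_of_le hp.out.one_lt (Nat.le_of_dvd hpos hpF)
  obtain ⟨⟨v, hv⟩, hv1⟩ := Fintype.exists_ne_of_one_lt_card hcard ⟨1, h1⟩
  refine ⟨(v : G), v.2, ?_, ?_⟩
  · intro h
    apply hv1
    apply Subtype.ext
    apply Subtype.ext
    exact h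
  · have : f v = v := hv
    exact congrArg Subtype.val this

end nilpotent

section nilpotent2

variable [Finite G] {p : ℕ} [hp : Fact p.Prime]

/-- The hom `v ↦ [v, b]` on `V`. -/
def theta {V A : Subgroup G} (h : Act V A) (b : G) (hb : b ∈ A) : ↥V →* G where
  toFun v := ⁅(v : G), b⁆
  map_one' := by
    show ⁅((1 : ↥V) : G), b⁆ = 1
    rw [Subgroup.coe_one, Act.comm_one]
  map_mul' x y := by
    show ⁅((x * y : ↥V) : G), b⁆ = ⁅(x : G), b⁆ * ⁅(y : G), b⁆
    rw [Subgroup.coe_mul, h.comm_mul x.2 y.2 hb]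

/-- **Nilpotent action.** If `V' = [V', A] C_{V'}(A)` then `[V', A] = 1`. -/
theorem commutator_eq_bot_of_le_sup {V A : Subgroup G} (h : Act V A) (hVp : IsPGroup p V)
    (hpow : ∀ a ∈ A, a ^ p ∈ Subgroup.centralizer (V : Set G)) :
    ∀ (n : ℕ) (V' : Subgroup G), Nat.card V' = n → V' ≤ V →
      A ≤ Subgroup.normalizer (V' : Set G) → V' ≤ ⁅V', A⁆ ⊔ CV V' A → ⁅V', A⁆ = ⊥ := by
  intro n
  induction n using Nat.strong_induction_on with
  | _ n ih =>
    intro V' hn hV' hA' hle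
    have h' : Act V' A := h.mono hV' hA'
    by_cases hbot : V' = ⊥
    · rw [hbot]; exact Subgroup.commutator_bot_left A
    rw [eq_bot_iff, Subgroup.commutator_le]
    intro v hv b hb
    set θ := theta h' b hb with hθ
    set Y : Subgroup G := θ.range with hY
    have hθv : ∀ x : ↥V', θ x = ⁅(x : G), b⁆ := fun _ => rfl
    have hYV' : Y ≤ V' := by
      rintro _ ⟨x, rfl⟩
      exact h'.comm_mem x.2 hb
    -- Y is A-invariant
    have hconjY : ∀ a ∈ A, ∀ y ∈ Y, a * y * a⁻¹ ∈ Y := by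
      rintro a ha _ ⟨x, rfl⟩
      refine ⟨⟨a * (x : G) * a⁻¹, h'.conj_mem ha x.2⟩, ?_⟩
      rw [hθv, hθv]
      exact h'.comm_conj ha hb x.2
    have hAY : A ≤ Subgroup.normalizer (Y : Set G) := by
      intro a ha
      rw [Subgroup.mem_normalizer_iff]
      intro y
      constructor
      · exact hconjY a ha y
      · intro hy
        have := hconjY a⁻¹ (A.inv_mem ha) _ hy
        have e : a⁻¹ * (a * y * a⁻¹) * a⁻¹⁻¹ = y := by group
        rwa [e] at this
    -- Y is smaller than V'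
    have hVp' : IsPGroup p V' := hVp.to_le hV'
    obtain ⟨w, hwV', hw1, hwfix⟩ := exists_fixed_ne_one hVp' hbot (hA' hb)
      ((hpow b hb) |> fun hc => Subgroup.centralizer_le hV' hc)
    have hker : (⟨w, hwV'⟩ : ↥V') ∈ θ.ker := by
      rw [MonoidHom.mem_ker, hθv]
      show ⁅w, b⁆ = 1
      rw [commutatorElement_def]
      have : w * b * w⁻¹ * b⁻¹ = w * (b * w * b⁻¹)⁻¹ := by group
      rw [this, hwfix, mul_inv_cancel]
    have hker2 : 1 < Nat.card θ.ker := by
      rw [Finite.one_lt_card_iff_nontrivial]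
      refine ⟨⟨⟨⟨w, hwV'⟩, hker⟩, 1, ?_⟩⟩
      intro heq
      apply hw1
      have := congrArg (fun z : θ.ker => ((z : ↥V') : G)) heq
      simpa using this
    have hcardY : Nat.card Y < n := by
      have h1 : Nat.card ↥V' = Nat.card θ.ker * Nat.card θ.range := by
        rw [← Subgroup.index_ker, Subgroup.card_mul_index]
      rw [hn] at h1
      rw [hY, h1]
      have hpos : 0 < Nat.card θ.range := Nat.card_pos
      nlinarith
    -- Y ≤ [Y, A]
    have hYle : Y ≤ ⁅Y, A⁆ ⊔ CV Y A := by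
      have hKb : ⁅V', A⁆ ⊔ CV V' A ≤ h'.Kb b hb ⁅Y, A⁆ := by
        apply sup_le
        · rw [Subgroup.commutator_le]
          intro x hx a ha
          refine ⟨h'.comm_mem hx ha, ?_⟩
          rw [h'.comm_comm ha hb hx]
          exact Subgroup.commutator_mem_commutator ⟨⟨x, hx⟩, rfl⟩ ha
        · intro z hz
          refine ⟨CV_le V' A hz, ?_⟩
          rw [Act.comm_eq_one_of_mem_CV hz hb]
          exact Subgroup.one_mem _
      rintro _ ⟨x, rfl⟩
      exact (le_sup_left : ⁅Y, A⁆ ≤ _) (hKb (hle x.2)).2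
    have hYbot : ⁅Y, A⁆ = ⊥ := ih (Nat.card Y) hcardY Y rfl (hYV'.trans hV') hAY hYle
    -- hence Y = ⊥
    have hYA : Y ≤ ⁅Y, A⁆ := by
      have hKb : ⁅V', A⁆ ⊔ CV V' A ≤ h'.Kb b hb ⁅Y, A⁆ := by
        apply sup_le
        · rw [Subgroup.commutator_le]
          intro x hx a ha
          refine ⟨h'.comm_mem hx ha, ?_⟩
          rw [h'.comm_comm ha hb hx]
          exact Subgroup.commutator_mem_commutator ⟨⟨x, hx⟩, rfl⟩ ha
        · intro z hz
          refine ⟨CV_le V' A hz, ?_⟩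
          rw [Act.comm_eq_one_of_mem_CV hz hb]
          exact Subgroup.one_mem _
      rintro _ ⟨x, rfl⟩
      exact (hKb (hle x.2)).2
    rw [hYbot] at hYA
    exact hYA ⟨⟨v, hv⟩, rfl⟩

end nilpotent2

section final

variable [Finite G] {p : ℕ} [hp : Fact p.Prime]

/-- **Timmesfeld replacement** (measure and fixed points of `C_A([U, A])`). -/
theorem timmesfeld {V A : Subgroup G} (h : Act V A) (hbest : Best V A) {U : Subgroup G}
    (hU : U ≤ V) : m V (T A U) = m V A ∧ CV V (T A U) = ⁅U, A⁆ ⊔ CV V A :=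
  good_of_le h hbest hU

/-- **Timmesfeld replacement**: the replacement still acts nontrivially. -/
theorem timmesfeld_nontrivial {V A : Subgroup G} (h : Act V A) (hbest : Best V A)
    (hVp : IsPGroup p V) (hpow : ∀ a ∈ A, a ^ p ∈ Subgroup.centralizer (V : Set G))
    {U : Subgroup G} (hU : U ≤ V) (hne : ⁅V, A⁆ ≠ ⊥) : ⁅V, T A U⁆ ≠ ⊥ := by
  intro hbot
  apply hne
  have hVc : V ≤ Subgroup.centralizer ((T A U : Subgroup G) : Set G) :=
    Subgroup.commutator_eq_bot_iff_le_centralizer.mp hbot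
  have hCV : CV V (T A U) = V := by
    unfold CV
    exact inf_of_le_left hVc
  have h2 := (timmesfeld h hbest hU).2
  rw [hCV] at h2
  have hle : V ≤ ⁅V, A⁆ ⊔ CV V A := by
    conv_lhs => rw [h2]
    exact sup_le_sup_right (Subgroup.commutator_mono hU le_rfl) _
  exact commutator_eq_bot_of_le_sup h hVp hpow (Nat.card V) V rfl le_rfl h.hAV hle

/-- Product formula when `L` normalizes `K`. -/
theorem card_sup_mul_card_inf (K L : Subgroup G)
    (hL : L ≤ Subgroup.normalizer (K : Set G)) :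
    Nat.card ↥(K ⊔ L) * Nat.card ↥(K ⊓ L) = Nat.card K * Nat.card L := by
  have hn1 : (K.subgroupOf L).Normal := Subgroup.normal_subgroupOf_of_le_normalizer hL
  have hn2 : (K.subgroupOf (L ⊔ K)).Normal := Subgroup.normal_subgroupOf_sup_of_le_normalizer hL
  have e := QuotientGroup.quotientInfEquivProdNormalizerQuotient L K hL
  have h0 : K.relIndex (L ⊔ K) = K.relIndex L := (Nat.card_congr e.toEquiv).symm
  have h1 := card_mul_relIndex (le_sup_right : K ≤ L ⊔ K)
  have h2 := card_mul_relIndex (inf_le_right : K ⊓ L ≤ L)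
  rw [Subgroup.inf_relIndex_right] at h2
  rw [h0] at h1
  rw [sup_comm K L, ← h1, ← h2]
  ring

/-- Elements `g` normalizing `W` with `[V, g] ⊆ W`. -/
def commStab (V W : Subgroup G) : Subgroup G where
  carrier := {g | g ∈ Subgroup.normalizer (W : Set G) ∧ ∀ v ∈ V, ⁅v, g⁆ ∈ W}
  one_mem' := ⟨Subgroup.one_mem _, fun v _ => by
    rw [commutatorElement_def]; simp⟩
  mul_mem' := by
    rintro g k ⟨hg, hgV⟩ ⟨hk, hkV⟩
    refine ⟨Subgroup.mul_mem _ hg hk, fun v hv => ?_⟩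
    have e : ⁅v, g * k⁆ = ⁅v, g⁆ * (g * ⁅v, k⁆ * g⁻¹) := by
      simp only [commutatorElement_def]; group
    rw [e]
    exact W.mul_mem (hgV v hv) ((Subgroup.mem_normalizer_iff.mp hg _).mp (hkV v hv))
  inv_mem' := by
    rintro g ⟨hg, hgV⟩
    refine ⟨Subgroup.inv_mem _ hg, fun v hv => ?_⟩
    have e : ⁅v, g⁻¹⁆ = g⁻¹ * (⁅v, g⁆)⁻¹ * g⁻¹⁻¹ := by
      simp only [commutatorElement_def]; group
    rw [e]
    exact (Subgroup.mem_normalizer_iff.mp (Subgroup.inv_mem _ hg) _).mp (W.inv_mem (hgV v hv))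

theorem commutator_le_of_le_commStab {V W H : Subgroup G} (hH : H ≤ commStab V W) :
    ⁅V, H⁆ ≤ W := by
  rw [Subgroup.commutator_le]
  intro v hv g hg
  exact (hH hg).2 v hv

end final

end Cfsg.Agent.Lib.Helper51_Offender
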