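import Cfsg.Agent.Lib.Helper1_ZJFunctor
import Cfsg.Agent.Lib.Helper51_Offender
import Cfsg.Agent.Lib.Helper50_CL2

/-!
Helper library (helper72): the abelian-version Thompson subgroup `J_A` as a functor, the analogue of
`J(U) = J(G)` for `J(G) ≤ U`, and a quadratic offender extracted (by Timmesfeld replacement) from an
abelian subgroup of largest order that does not centralize a normal abelian `p`-subgroup `V`.
-/

set_option autoImplicit false
universe u
open Cfsg

namespace Cfsg.Agent.Lib.Helper72_AbelianJ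

open scoped commutatorElement
open Cfsg.Agent.Lib.Helper51_Offender

/-- the abelian-version Thompson subgroup as a functor -/
def JA : ∀ (Q : Type u) [Group Q], Subgroup Q := fun Q _ => Cfsg.thompsonSubgroupA Q

theorem isCharPFunctor_JA {p : ℕ} [Fact p.Prime] : Cfsg.IsCharPFunctor.{u} p JA := by
  constructor
  · intro Q _ _ _ hnt
    exact Cfsg.Agent.Lib.Helper1_ZJFunctor.thompsonSubgroupA_ne_bot Q
  · intro Q R _ _ _ _ φ
    exact Cfsg.Agent.Lib.Helper1_ZJFunctor.thompsonSubgroupA_map φ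

theorem inducedFunctor_JA {G : Type u} [Group G] (P : Subgroup G) :
    Cfsg.inducedFunctor JA P = Cfsg.thompsonSubgroupAOf P := rfl

section Sub

variable {G : Type*} [Group G] [Finite G]

/-- The abelian-version Thompson subgroup of any subgroup containing `J_A(G)` is `J_A(G)`. -/
theorem thompsonSubgroupAOf_eq_of_le (U : Subgroup G) (hU : Cfsg.thompsonSubgroupA G ≤ U) :
    Cfsg.thompsonSubgroupAOf U = Cfsg.thompsonSubgroupA G := by
  obtain ⟨A₀, hA₀⟩ := Cfsg.Agent.Lib.Helper50_CL2.exists_maxAbelian (G := G)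
  have hA₀U : A₀ ≤ U := (le_sSup hA₀).trans hU
  apply le_antisymm
  · unfold Cfsg.thompsonSubgroupAOf Cfsg.thompsonSubgroupA
    rw [Subgroup.map_le_iff_le_comap]
    apply sSup_le
    intro B hB
    rw [← Subgroup.map_le_iff_le_comap]
    apply le_sSup
    obtain ⟨hB1, hB2⟩ := hB
    refine ⟨Subgroup.map_isMulCommutative B U.subtype, ?_⟩
    intro D hD
    have h1 : IsMulCommutative (A₀.subgroupOf U) := by
      have := hA₀.1
      infer_instance
    have h2 := hB2 _ h1
    have h3 : Nat.card (A₀.subgroupOf U) = Nat.card A₀ :=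
      Nat.card_congr (Subgroup.subgroupOfEquivOfLe hA₀U).toEquiv
    rw [Subgroup.card_map_of_injective U.subtype_injective]
    exact (hA₀.2 D hD).trans (h3 ▸ h2)
  · unfold Cfsg.thompsonSubgroupA
    apply sSup_le
    intro A hA
    have hAU : A ≤ U := (le_sSup hA).trans hU
    have h1 : A.subgroupOf U ∈ Cfsg.maxAbelianSubgroups U := by
      have hc := hA.1
      refine ⟨inferInstance, ?_⟩
      intro B' hB'
      have h2 : IsMulCommutative (B'.map U.subtype) := Subgroup.map_isMulCommutative B' U.subtype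
      have h3 := hA.2 _ h2
      rw [Subgroup.card_map_of_injective U.subtype_injective] at h3
      have h4 : Nat.card (A.subgroupOf U) = Nat.card A :=
        Nat.card_congr (Subgroup.subgroupOfEquivOfLe hAU).toEquiv
      rw [h4]
      exact h3
    unfold Cfsg.thompsonSubgroupAOf Cfsg.thompsonSubgroupA
    rw [← Subgroup.map_subgroupOf_eq_of_le hAU]
    exact Subgroup.map_mono (le_sSup h1)

end Sub

section Nilpotent

variable {G : Type*} [Group G] [Finite G] {p : ℕ} [hp : Fact p.Prime]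

/-- An element acting with `p`-power order on a nontrivial `p`-subgroup has a nontrivial fixed
point (generalisation of `Helper51_Offender.exists_fixed_ne_one`). -/
theorem exists_fixed_ne_one' {V' : Subgroup G} (hVp : IsPGroup p V') (hne : V' ≠ ⊥) {b : G}
    (hb : b ∈ Subgroup.normalizer (V' : Set G)) {n : ℕ}
    (hbp : b ^ p ^ n ∈ Subgroup.centralizer (V' : Set G)) :
    ∃ v ∈ V', v ≠ 1 ∧ b * v * b⁻¹ = v := by
  classical
  have : Fintype ↥V' := Fintype.ofFinite _
  let f : Function.End ↥V' := fun v =>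
    ⟨b * (v : G) * b⁻¹, (Subgroup.mem_normalizer_iff.mp hb v).mp v.2⟩
  have hfk : ∀ (k : ℕ) (v : ↥V'), (((f ^ k) v : ↥V') : G) = b ^ k * (v : G) * (b ^ k)⁻¹ := by
    intro k
    induction k with
    | zero => intro v; rw [pow_zero, pow_zero]; show (v : G) = 1 * (v : G) * 1⁻¹; group
    | succ k ih =>
      intro v
      rw [pow_succ']
      show b * (((f ^ k) v : ↥V') : G) * b⁻¹ = _
      rw [ih v, pow_succ']; group
  have hf : f ^ p ^ n = 1 := by
    funext v
    apply Subtype.ext
    rw [hfk (p ^ n) v]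
    have := Subgroup.mem_centralizer_iff.mp hbp (v : G) v.2
    show b ^ p ^ n * (v : G) * (b ^ p ^ n)⁻¹ = (v : G)
    rw [← this]; group
  have hmod := Equiv.Perm.card_fixedPoints_modEq (p := p) (n := n) hf
  have hpV : p ∣ Fintype.card ↥V' := by
    obtain ⟨n, hn⟩ := IsPGroup.iff_card.mp hVp
    rw [← Nat.card_eq_fintype_card, hn]
    rcases n with _ | n
    · exfalso
      apply hne
      apply Subgroup.eq_bot_of_card_eq
      simpa using hn
    · exact dvd_pow_self p (Nat.succ_ne_zero n)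
  have hpF : p ∣ Fintype.card (Function.fixedPoints f) :=
    (Nat.modEq_zero_iff_dvd.mp ((hmod.symm.trans (Nat.modEq_zero_iff_dvd.mpr hpV))))
  have h1 : (1 : ↥V') ∈ Function.fixedPoints f := by
    show f 1 = 1
    apply Subtype.ext
    show b * ((1 : ↥V') : G) * b⁻¹ = ((1 : ↥V') : G)
    simp
  have hcard : 1 < Fintype.card (Function.fixedPoints f) := by
    have hpos : 0 < Fintype.card (Function.fixedPoints f) := Fintype.card_pos_iff.mpr ⟨⟨1, h1⟩⟩
    exact lt_of_lt_of_le hp.out.one_lt (Nat.le_of_dvd hpos hpF)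
  obtain ⟨⟨v, hv⟩, hv1⟩ := Fintype.exists_ne_of_one_lt_card hcard ⟨1, h1⟩
  refine ⟨(v : G), v.2, ?_, ?_⟩
  · intro h
    apply hv1
    apply Subtype.ext
    apply Subtype.ext
    exact h
  · have : f v = v := hv
    exact congrArg Subtype.val this

/-- **Nilpotent action** (generalisation of `Helper51_Offender.commutator_eq_bot_of_le_sup` to
elements of arbitrary `p`-power order). If `V' = [V', A] C_{V'}(A)` then `[V', A] = 1`. -/
theorem commutator_eq_bot_of_le_sup' {V A : Subgroup G} (h : Act V A) (hVp : IsPGroup p V)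
    (hpow : ∀ a ∈ A, ∃ n : ℕ, a ^ p ^ n ∈ Subgroup.centralizer (V : Set G)) :
    ∀ (n : ℕ) (V' : Subgroup G), Nat.card V' = n → V' ≤ V →
      A ≤ Subgroup.normalizer (V' : Set G) → V' ≤ ⁅V', A⁆ ⊔ CV V' A → ⁅V', A⁆ = ⊥ := by
  intro n
  induction n using Nat.strong_induction_on with
  | _ n ih =>
    intro V' hn hV' hA' hle
    have h' : Act V' A := h.mono hV' hA'
    by_cases hbot : V' = ⊥
    · rw [hbot]; exact Subgroup.commutator_bot_left A
    rw [eq_bot_iff, Subgroup.commutator_le]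
    intro v hv b hb
    set θ := theta h' b hb with hθ
    set Y : Subgroup G := θ.range with hY
    have hθv : ∀ x : ↥V', θ x = ⁅(x : G), b⁆ := fun _ => rfl
    have hYV' : Y ≤ V' := by
      rintro _ ⟨x, rfl⟩
      exact h'.comm_mem x.2 hb
    have hconjY : ∀ a ∈ A, ∀ y ∈ Y, a * y * a⁻¹ ∈ Y := by
      rintro a ha _ ⟨x, rfl⟩
      refine ⟨⟨a * (x : G) * a⁻¹, h'.conj_mem ha x.2⟩, ?_⟩
      rw [hθv, hθv]
      exact h'.comm_conj ha hb x.2
    have hAY : A ≤ Subgroup.normalizer (Y : Set G) := by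
      intro a ha
      rw [Subgroup.mem_normalizer_iff]
      intro y
      constructor
      · exact hconjY a ha y
      · intro hy
        have := hconjY a⁻¹ (A.inv_mem ha) _ hy
        have e : a⁻¹ * (a * y * a⁻¹) * a⁻¹⁻¹ = y := by group
        rwa [e] at this
    have hVp' : IsPGroup p V' := hVp.to_le hV'
    obtain ⟨nb, hnb⟩ := hpow b hb
    obtain ⟨w, hwV', hw1, hwfix⟩ := exists_fixed_ne_one' hVp' hbot (hA' hb)
      (Subgroup.centralizer_le hV' hnb)
    have hker : (⟨w, hwV'⟩ : ↥V') ∈ θ.ker := by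
      rw [MonoidHom.mem_ker, hθv]
      show ⁅w, b⁆ = 1
      rw [commutatorElement_def]
      have : w * b * w⁻¹ * b⁻¹ = w * (b * w * b⁻¹)⁻¹ := by group
      rw [this, hwfix, mul_inv_cancel]
    have hker2 : 1 < Nat.card θ.ker := by
      rw [Finite.one_lt_card_iff_nontrivial]
      refine ⟨⟨⟨⟨w, hwV'⟩, hker⟩, 1, ?_⟩⟩
      intro heq
      apply hw1
      have := congrArg (fun z : θ.ker => ((z : ↥V') : G)) heq
      simpa using this
    have hcardY : Nat.card Y < n := by
      have h1 : Nat.card ↥V' = Nat.card θ.ker * Nat.card θ.range := by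
        rw [← Subgroup.index_ker, Subgroup.card_mul_index]
      rw [hn] at h1
      rw [hY, h1]
      have hpos : 0 < Nat.card θ.range := Nat.card_pos
      nlinarith
    have hKb : ⁅V', A⁆ ⊔ CV V' A ≤ h'.Kb b hb ⁅Y, A⁆ := by
      apply sup_le
      · rw [Subgroup.commutator_le]
        intro x hx a ha
        refine ⟨h'.comm_mem hx ha, ?_⟩
        rw [h'.comm_comm ha hb hx]
        exact Subgroup.commutator_mem_commutator ⟨⟨x, hx⟩, rfl⟩ ha
      · intro z hz
        refine ⟨CV_le V' A hz, ?_⟩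
        rw [Act.comm_eq_one_of_mem_CV hz hb]
        exact Subgroup.one_mem _
    have hYle : Y ≤ ⁅Y, A⁆ ⊔ CV Y A := by
      rintro _ ⟨x, rfl⟩
      exact (le_sup_left : ⁅Y, A⁆ ≤ _) (hKb (hle x.2)).2
    have hYbot : ⁅Y, A⁆ = ⊥ := ih (Nat.card Y) hcardY Y rfl (hYV'.trans hV') hAY hYle
    have hYA : Y ≤ ⁅Y, A⁆ := by
      rintro _ ⟨x, rfl⟩
      exact (hKb (hle x.2)).2
    rw [hYbot] at hYA
    exact hYA ⟨⟨v, hv⟩, rfl⟩

/-- **Timmesfeld replacement**: the replacement still acts nontrivially (for `p`-elements of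
arbitrary order). -/
theorem timmesfeld_nontrivial' {V A : Subgroup G} (h : Act V A) (hbest : Best V A)
    (hVp : IsPGroup p V)
    (hpow : ∀ a ∈ A, ∃ n : ℕ, a ^ p ^ n ∈ Subgroup.centralizer (V : Set G))
    {U : Subgroup G} (hU : U ≤ V) (hne : ⁅V, A⁆ ≠ ⊥) : ⁅V, T A U⁆ ≠ ⊥ := by
  intro hbot
  apply hne
  have hVc : V ≤ Subgroup.centralizer ((T A U : Subgroup G) : Set G) :=
    Subgroup.commutator_eq_bot_iff_le_centralizer.mp hbot
  have hCV : CV V (T A U) = V := by
    unfold CV
    exact inf_of_le_left hVc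
  have h2 := (timmesfeld h hbest hU).2
  rw [hCV] at h2
  have hle : V ≤ ⁅V, A⁆ ⊔ CV V A := by
    conv_lhs => rw [h2]
    exact sup_le_sup_right (Subgroup.commutator_mono hU le_rfl) _
  exact commutator_eq_bot_of_le_sup' h hVp hpow (Nat.card V) V rfl le_rfl h.hAV hle

end Nilpotent

section Offender

variable {G : Type*} [Group G] [Finite G] {p : ℕ} [hp : Fact p.Prime]

/-- `A` is an abelian subgroup of `Tg` of largest order (everything inside `G`). -/
def IsMaxAbIn (Tg A : Subgroup G) : Prop :=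
  A ≤ Tg ∧ IsMulCommutative A ∧
    ∀ D : Subgroup G, D ≤ Tg → IsMulCommutative D → Nat.card D ≤ Nat.card A

theorem isMaxAbIn_map {Tg : Subgroup G} {A' : Subgroup Tg}
    (hA' : A' ∈ Cfsg.maxAbelianSubgroups Tg) : IsMaxAbIn Tg (A'.map Tg.subtype) := by
  obtain ⟨h1, h2⟩ := hA'
  refine ⟨Subgroup.map_subtype_le _, Subgroup.map_isMulCommutative A' Tg.subtype, ?_⟩
  intro D hD hDc
  have h3 : IsMulCommutative (D.subgroupOf Tg) := inferInstance
  have h4 := h2 _ h3
  have h5 : Nat.card (D.subgroupOf Tg) = Nat.card D :=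
    Nat.card_congr (Subgroup.subgroupOfEquivOfLe hD).toEquiv
  rw [Subgroup.card_map_of_injective Tg.subtype_injective, ← h5]
  exact h4

/-- An abelian subgroup of largest order is a best offender in the weak sense of
`Helper51_Offender.Best` on every normal abelian subgroup `V`. -/
theorem best_of_isMaxAbIn {V Tg A : Subgroup G} (hV : IsMulCommutative V) (hVT : V ≤ Tg)
    (hA : IsMaxAbIn Tg A) : Best V A := by
  intro B hBA
  have hB : IsMulCommutative B := Cfsg.Agent.Lib.Helper50_CL2.isMulCommutative_of_le hA.2.1 hBA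
  have hC : IsMulCommutative (CV V B) :=
    Cfsg.Agent.Lib.Helper50_CL2.isMulCommutative_of_le hV (CV_le V B)
  have hBC : B ≤ Subgroup.centralizer ((CV V B : Subgroup G) : Set G) := by
    intro b hb
    rw [Subgroup.mem_centralizer_iff]
    intro z hz
    exact ((mem_CV.mp hz).2 b hb).symm
  have hD : IsMulCommutative (B ⊔ CV V B : Subgroup G) :=
    Cfsg.Agent.Lib.Helper50_CL2.isMulCommutative_sup hB hC hBC
  have hDT : B ⊔ CV V B ≤ Tg := sup_le (hBA.trans hA.1) ((CV_le V B).trans hVT)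
  have h1 := hA.2.2 _ hDT hD
  have h2 := card_mul_card_le B (CV V B)
  have h3 : B ⊓ CV V B ≤ CV V A := by
    intro x hx
    rw [mem_CV]
    refine ⟨CV_le V B hx.2, ?_⟩
    intro a ha
    have := hA.2.1
    exact Subgroup.mul_comm_of_mem_isMulCommutative A ha (hBA hx.1)
  have h4 : Nat.card ↥(B ⊓ CV V B) ≤ Nat.card (CV V A) := Subgroup.card_le_of_le h3
  unfold m
  calc Nat.card B * Nat.card (CV V B) ≤ Nat.card ↥(B ⊔ CV V B) * Nat.card ↥(B ⊓ CV V B) := h2
    _ ≤ Nat.card A * Nat.card (CV V A) := Nat.mul_le_mul h1 h4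

/-- **Quadratic offender.** If an abelian subgroup `A` of largest order of the `p`-group `Tg` does
not centralize the normal abelian subgroup `V ≤ Tg`, then `Q = C_A([V, A])` acts quadratically and
nontrivially on `V` and `|V| |C_Q(V)| ≤ |Q| |C_V(Q)|`. -/
theorem quad_offender {V Tg A : Subgroup G} [hVn : V.Normal] (hV : IsMulCommutative V)
    (hVT : V ≤ Tg) (hT : IsPGroup p Tg) (hA : IsMaxAbIn Tg A)
    (hne : ¬ A ≤ Subgroup.centralizer (V : Set G)) :
    ∃ Q : Subgroup G, Q ≤ A ∧ (∀ v ∈ V, ∀ x ∈ Q, ∀ y ∈ Q, ⁅⁅v, x⁆, y⁆ = 1) ∧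
      ¬ Q ≤ Subgroup.centralizer (V : Set G) ∧
      Nat.card V * Nat.card ↥(Q ⊓ Subgroup.centralizer (V : Set G)) ≤
        Nat.card Q * Nat.card (CV V Q) := by
  have hVc : ∀ x ∈ V, ∀ y ∈ V, x * y = y * x := fun x hx y hy =>
    Subgroup.mul_comm_of_mem_isMulCommutative V hx hy
  have hAc : ∀ x ∈ A, ∀ y ∈ A, x * y = y * x := fun x hx y hy => by
    have := hA.2.1
    exact Subgroup.mul_comm_of_mem_isMulCommutative A hx hy
  have hAV : A ≤ Subgroup.normalizer (V : Set G) := by
    rw [Subgroup.normalizer_eq_top_iff.mpr hVn]; exact le_top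
  have hAA : ⁅A, A⁆ ≤ Subgroup.centralizer (V : Set G) := by
    have : ⁅A, A⁆ = ⊥ := by
      rw [Subgroup.commutator_eq_bot_iff_le_centralizer]
      intro a ha
      rw [Subgroup.mem_centralizer_iff]
      intro b hb
      exact hAc b hb a ha
    rw [this]; exact bot_le
  have h : Act V A := ⟨hVc, hAV, hAA⟩
  have hbest : Best V A := best_of_isMaxAbIn hV hVT hA
  have hVp : IsPGroup p V := hT.to_le hVT
  have hpow : ∀ a ∈ A, ∃ n : ℕ, a ^ p ^ n ∈ Subgroup.centralizer (V : Set G) := by
    intro a ha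
    obtain ⟨k, hk⟩ := hT ⟨a, hA.1 ha⟩
    refine ⟨k, ?_⟩
    have : a ^ p ^ k = 1 := by
      have := congrArg Subtype.val hk
      simpa using this
    rw [this]; exact Subgroup.one_mem _
  have hne' : ⁅V, A⁆ ≠ ⊥ := by
    intro h0
    apply hne
    rw [Subgroup.commutator_eq_bot_iff_le_centralizer] at h0
    exact Subgroup.le_centralizer_iff.mp h0
  obtain ⟨t1, t2⟩ := timmesfeld h hbest (le_refl V)
  have hnt := timmesfeld_nontrivial' h hbest hVp hpow (le_refl V) hne'
  refine ⟨T A V, T_le A V, ?_, ?_, ?_⟩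
  · intro v hv x hx y hy
    rw [commutatorElement_eq_one_iff_mul_comm]
    have h1 : ⁅v, x⁆ ∈ ⁅V, A⁆ := Subgroup.commutator_mem_commutator hv (T_le A V hx)
    exact Subgroup.mem_centralizer_iff.mp hy.2 _ h1
  · intro hle
    apply hnt
    rw [Subgroup.commutator_eq_bot_iff_le_centralizer]
    exact Subgroup.le_centralizer_iff.mp hle
  · set Q := T A V with hQ
    set B' := Q ⊓ Subgroup.centralizer (V : Set G) with hB'
    have hB'A : B' ≤ A := inf_le_left.trans (T_le A V)
    have h1 : m V B' ≤ m V A := hbest B' hB'A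
    have h2 : CV V B' = V := by
      unfold CV
      apply inf_of_le_left
      apply Subgroup.le_centralizer_iff.mp
      exact inf_le_right
    unfold m at h1 t1
    rw [h2, ← t1] at h1
    rw [mul_comm]
    exact h1

end Offender

end Cfsg.Agent.Lib.Helper72_AbelianJ
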