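import Mathlib

set_option autoImplicit false

namespace Cfsg.Agent.Lib.Helper5_SLCard

open Matrix

/-- `|GL_n(F)| = |SL_n(F)| * (q - 1)` for `n ≥ 1`. -/
theorem card_GL_eq_card_SL_mul {F : Type*} [Field F] [Fintype F] (n : ℕ) (hn : 1 ≤ n) :
    Nat.card (GL (Fin n) F) = Nat.card (Matrix.SpecialLinearGroup (Fin n) F) * (Fintype.card F - 1) := by
  classical
  have : NeZero n := ⟨by omega⟩
  let d : GL (Fin n) F →* Fˣ := Matrix.GeneralLinearGroup.det
  have hsurj : Function.Surjective d := by
    intro u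
    refine ⟨Matrix.GeneralLinearGroup.mkOfDetNeZero (Matrix.diagonal (fun i : Fin n => if i = 0 then (u : F) else 1)) ?_, ?_⟩
    · rw [Matrix.det_diagonal]
      simp [Finset.prod_ite_eq']
    · ext
      simp [d, Matrix.GeneralLinearGroup.mkOfDetNeZero, Matrix.det_diagonal, Finset.prod_ite_eq']
  have hker : Nat.card d.ker = Nat.card (Matrix.SpecialLinearGroup (Fin n) F) := by
    symm
    refine Nat.card_congr (Equiv.ofBijective (fun g => ⟨Matrix.SpecialLinearGroup.toGL g, ?_⟩) ⟨?_, ?_⟩)
    · rw [MonoidHom.mem_ker]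
      ext
      simp [d]
    · intro g h hgh
      simp only [Subtype.mk.injEq] at hgh
      exact Matrix.SpecialLinearGroup.toGL_injective hgh
    · rintro ⟨g, hg⟩
      rw [MonoidHom.mem_ker] at hg
      refine ⟨⟨g.1, ?_⟩, ?_⟩
      · have := congrArg Units.val hg
        simpa [d] using this
      · ext
        rfl
  have h1 := Subgroup.card_mul_index d.ker
  rw [Subgroup.index_ker, MonoidHom.range_eq_top.mpr hsurj, Subgroup.card_top] at h1
  rw [← h1, hker, Nat.card_units, Nat.card_eq_fintype_card (α := F)]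

end Cfsg.Agent.Lib.Helper5_SLCard
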