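import Mathlib
import Cfsg.Agent.Lib.Helper5_SLCard

set_option autoImplicit false

/-!
Cardinalities of `SL_2(q)`, centre of `SL_n(q)`, `PSL_n(q)`; the embedding of `PSL_2(q)` in the
symmetric group on the `q + 1` points of the projective line; recognising `S_n` and `A_n` from an
injective hom and the order.
-/

namespace Cfsg.Agent.Lib.Helper5_PSLCard

open Matrix

variable {F : Type*} [Field F] [Fintype F]

theorem card_rootsOfUnity_finiteField (k : ℕ) :
    Nat.card (rootsOfUnity k F) = Nat.gcd (Fintype.card F - 1) k := by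
  have h : rootsOfUnity k F = (powMonoidHom k : Fˣ →* Fˣ).ker := by
    ext x
    simp [mem_rootsOfUnity, MonoidHom.mem_ker]
  rw [h, IsCyclic.card_powMonoidHom_ker, Nat.card_units, Nat.card_eq_fintype_card]

theorem card_center_SL (n : ℕ) (hn : 1 ≤ n) :
    Nat.card (Subgroup.center (Matrix.SpecialLinearGroup (Fin n) F)) = Nat.gcd (Fintype.card F - 1) n := by
  have : NeZero n := ⟨by omega⟩
  rw [Nat.card_congr (Matrix.SpecialLinearGroup.center_equiv_rootsOfUnity' (0 : Fin n)).toEquiv,
    card_rootsOfUnity_finiteField, Fintype.card_fin]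

theorem card_PSL_mul (n : ℕ) (hn : 1 ≤ n) :
    Nat.card (Matrix.ProjectiveSpecialLinearGroup (Fin n) F) * Nat.gcd (Fintype.card F - 1) n =
      Nat.card (Matrix.SpecialLinearGroup (Fin n) F) := by
  rw [← card_center_SL n hn]
  exact (Subgroup.card_eq_card_quotient_mul_card_subgroup _).symm

theorem card_SL_two : Nat.card (Matrix.SpecialLinearGroup (Fin 2) F) = Fintype.card F * (Fintype.card F ^ 2 - 1) := by
  have h1 := Cfsg.Agent.Lib.Helper5_SLCard.card_GL_eq_card_SL_mul (F := F) 2 (by norm_num)
  rw [Matrix.card_GL_field] at h1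
  have hq : 1 < Fintype.card F := Fintype.one_lt_card
  set q := Fintype.card F with hq_def
  have h2 : ∏ i : Fin 2, (q ^ 2 - q ^ (i : ℕ)) = q * (q ^ 2 - 1) * (q - 1) := by
    rw [Fin.prod_univ_two]
    simp only [Fin.val_zero, Fin.val_one, pow_zero, pow_one]
    have : q ^ 2 - q = q * (q - 1) := by
      rw [Nat.mul_sub, mul_one, sq]
    rw [this]; ring
  rw [h2] at h1
  have hpos : 0 < q - 1 := by omega
  exact (Nat.eq_of_mul_eq_mul_right hpos h1).symm

open scoped LinearAlgebra.Projectivization

/-- `PSL(2, F)` embeds in the symmetric group on `q + 1` letters (action on the projective line). -/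
theorem exists_injective_PSL2_perm {q : ℕ} (hq : Fintype.card F = q) :
    ∃ f : Matrix.ProjectiveSpecialLinearGroup (Fin 2) F →* Equiv.Perm (Fin (q + 1)), Function.Injective f := by
  classical
  have hfin : Finite (ℙ F (Fin 2 → F)) := inferInstance
  have hcard : Nat.card (ℙ F (Fin 2 → F)) = q + 1 := by
    rw [Projectivization.card_of_finrank_two F (Fin 2 → F) (by simp), Nat.card_eq_fintype_card, hq]
  have : Fintype (ℙ F (Fin 2 → F)) := Fintype.ofFinite _
  have e : ℙ F (Fin 2 → F) ≃ Fin (q + 1) := by
    apply Fintype.equivFinOfCardEq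
    rw [← Nat.card_eq_fintype_card, hcard]
  refine ⟨(e.permCongrHom.toMonoidHom).comp Projectivization.PSLAction.toPermHom, ?_⟩
  rw [MonoidHom.coe_comp]
  exact e.permCongrHom.injective.comp Matrix.ProjectiveSpecialLinearGroup.toPermHom_injective

/-- `SL(2, F)` acts on `Fin (q+1)` with kernel the centre. -/
theorem exists_SL2_perm_ker {q : ℕ} (hq : Fintype.card F = q) :
    ∃ f : Matrix.SpecialLinearGroup (Fin 2) F →* Equiv.Perm (Fin (q + 1)),
      f.ker = Subgroup.center (Matrix.SpecialLinearGroup (Fin 2) F) := by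
  obtain ⟨f, hf⟩ := exists_injective_PSL2_perm hq
  refine ⟨f.comp (QuotientGroup.mk' _), ?_⟩
  ext x
  simp only [MonoidHom.mem_ker, MonoidHom.coe_comp, Function.comp_apply]
  rw [← map_one f, hf.eq_iff]
  simp

theorem mulEquiv_alternatingGroup_of_injective {G : Type*} [Group G] {n : ℕ}
    (f : G →* Equiv.Perm (Fin n)) (hf : Function.Injective f) (hcard : 2 * Nat.card G = n.factorial) :
    Nonempty (G ≃* alternatingGroup (Fin n)) := by
  have hfin : Finite G := Finite.of_injective f hf
  have h1 : Nat.card f.range = Nat.card G := (Nat.card_congr (MonoidHom.ofInjective hf).toEquiv).symm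
  have h2 : f.range.index = 2 := by
    have h3 := Subgroup.card_mul_index f.range
    rw [h1, Nat.card_perm, Nat.card_fin, ← hcard] at h3
    have hpos : 0 < Nat.card G := Nat.card_pos
    have : Nat.card G * f.range.index = Nat.card G * 2 := by rw [h3]; ring
    exact Nat.eq_of_mul_eq_mul_left hpos this
  have h4 := Equiv.Perm.eq_alternatingGroup_of_index_eq_two h2
  exact ⟨(MonoidHom.ofInjective hf).trans (MulEquiv.subgroupCongr h4)⟩

theorem mulEquiv_perm_of_injective {G : Type*} [Group G] {n : ℕ}
    (f : G →* Equiv.Perm (Fin n)) (hf : Function.Injective f) (hcard : Nat.card G = n.factorial) :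
    Nonempty (G ≃* Equiv.Perm (Fin n)) := by
  have hfin : Finite G := Finite.of_injective f hf
  have hbij : Function.Bijective f := by
    rw [Nat.bijective_iff_injective_and_card]
    refine ⟨hf, ?_⟩
    rw [hcard, Nat.card_perm, Nat.card_fin]
  exact ⟨MulEquiv.ofBijective f hbij⟩

end Cfsg.Agent.Lib.Helper5_PSLCard
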