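import Cfsg.Agent.Lib.Helper62_StructureThm
import Cfsg.Agent.Lib.Helper10_FFCoprime
import Cfsg.Agent.Lib.Helper72_AbelianJ
import Cfsg.Agent.Lib.Helper10_QuadPair
import Cfsg.Agent.S0250
import Mathlib

set_option autoImplicit false
set_option linter.unusedSectionVars false
set_option linter.unusedVariables false

/-!
# Abelian offenders are generated by transvections (helper10)

Setting: `Γ` acts faithfully on the elementary abelian `p`-group `V`, `H` is the subgroup generated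
by all best offenders of `Γ` on `V` and satisfies helper62's ambient hypotheses `Amb p V H`.
For `p = 2` every abelian `2`-subgroup `B ≤ Γ` with `|V| ≤ |B| |C_V(B)|` is generated by the
transvection elements it contains (`gen_by_tv`).
-/

namespace Cfsg.Agent.Lib.Helper10_OffTv

open Cfsg.Agent.Lib.Helper62_Offender Cfsg.Agent.Lib.Helper62_SL2
open Cfsg.Agent.Lib.Helper62_SL2Closure Cfsg.Agent.Lib.Helper62_Structure
open Cfsg.Agent.Lib.Helper62_StructureThm
open Cfsg.Agent.Lib.Helper10_FFCoprime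
open Cfsg.Agent.Lib.Helper24_CoprimeAction
open scoped commutatorElement

variable {G : Type*} [Group G] [Finite G] {p : ℕ} [Fact p.Prime] {V H Γ : Subgroup G}

/-- conjugation by `g` as a monoid hom -/
abbrev cj (g : G) : G →* G := (MulAut.conj g).toMonoidHom

theorem cj_apply (g x : G) : cj g x = g * x * g⁻¹ := rfl

theorem map_cj_eq_of_mem_normalizer {K : Subgroup G} {g : G}
    (hg : g ∈ Subgroup.normalizer (K : Set G)) : K.map (cj g) = K :=
  Subgroup.mem_normalizer_iff_map_conj_eq.mp hg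

theorem map_cj_fix (B : Subgroup G) {g : G} (hg : g ∈ Subgroup.normalizer (V : Set G)) :
    (V ⊓ Subgroup.centralizer (B : Set G)).map (cj g) =
      V ⊓ Subgroup.centralizer ((B.map (cj g) : Subgroup G) : Set G) := by
  ext x
  constructor
  · intro hx
    obtain ⟨v, hv, rfl⟩ := Subgroup.mem_map.mp hx
    obtain ⟨hvV, hvB⟩ := Subgroup.mem_inf.mp hv
    refine Subgroup.mem_inf.mpr ⟨(Subgroup.mem_normalizer_iff.mp hg v).mp hvV, ?_⟩
    rw [Subgroup.mem_centralizer_iff]
    rintro _ ⟨b, hb, rfl⟩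
    have := Subgroup.mem_centralizer_iff.mp hvB b hb
    simp only [cj_apply]
    calc g * b * g⁻¹ * (g * v * g⁻¹) = g * (b * v) * g⁻¹ := by group
      _ = g * (v * b) * g⁻¹ := by rw [this]
      _ = g * v * g⁻¹ * (g * b * g⁻¹) := by group
  · intro hx
    obtain ⟨hxV, hxB⟩ := Subgroup.mem_inf.mp hx
    refine Subgroup.mem_map.mpr ⟨g⁻¹ * x * g, Subgroup.mem_inf.mpr ⟨?_, ?_⟩,
      by simp only [cj_apply]; group⟩
    · have := (Subgroup.mem_normalizer_iff.mp (Subgroup.inv_mem _ hg) x).mp hxV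
      simpa using this
    · rw [Subgroup.mem_centralizer_iff]
      intro b hb
      have := Subgroup.mem_centralizer_iff.mp hxB (g * b * g⁻¹) ⟨b, hb, rfl⟩
      calc b * (g⁻¹ * x * g) = g⁻¹ * ((g * b * g⁻¹) * x) * g := by group
        _ = g⁻¹ * (x * (g * b * g⁻¹)) * g := by rw [this]
        _ = g⁻¹ * x * g * b := by group

theorem card_map_cj (B : Subgroup G) (g : G) : Nat.card ↥(B.map (cj g)) = Nat.card B :=
  Subgroup.card_map_of_injective (MulAut.conj g).injective

/-- best offenders are invariant under conjugation by elements normalizing `V` -/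
theorem best_conj {A : Subgroup G} (hA : Cfsg.IsBestOffenderOn p V A) {g : G}
    (hg : g ∈ Subgroup.normalizer (V : Set G)) :
    Cfsg.IsBestOffenderOn p V (A.map (cj g)) := by
  obtain ⟨h1, h2, h3⟩ := hA
  have hCV' : ∀ c ∈ Subgroup.centralizer (V : Set G), g * c * g⁻¹ ∈
      Subgroup.centralizer (V : Set G) := by
    intro c hc
    rw [Subgroup.mem_centralizer_iff] at hc ⊢
    intro v hv
    have hv' : g⁻¹ * v * g ∈ V := by
      have := (Subgroup.mem_normalizer_iff.mp (Subgroup.inv_mem _ hg) v).mp hv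
      simpa using this
    have := hc _ hv'
    calc v * (g * c * g⁻¹) = g * ((g⁻¹ * v * g) * c) * g⁻¹ := by group
      _ = g * (c * (g⁻¹ * v * g)) * g⁻¹ := by rw [this]
      _ = g * c * g⁻¹ * v := by group
  refine ⟨?_, ?_, ?_⟩
  · intro B' hB'
    set B := B'.comap (cj g) with hB
    have hBA : B ≤ A := by
      intro b hb
      obtain ⟨a, ha, hab⟩ := hB' hb
      have : a = b := (MulAut.conj g).injective hab
      rwa [← this]
    have hBmap : B.map (cj g) = B' :=
      Subgroup.map_comap_eq_self_of_surjective (MulAut.conj g).surjective B'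
    have := h1 B hBA
    rw [← hBmap, card_map_cj, card_map_cj, ← map_cj_fix B hg, ← map_cj_fix A hg, card_map_cj,
      card_map_cj]
    exact this
  · rw [← Subgroup.map_commutator]
    rintro _ ⟨c, hc, rfl⟩
    exact hCV' c (h2 hc)
  · rintro _ ⟨a, ha, rfl⟩
    have : (cj g a) ^ p = g * a ^ p * g⁻¹ := by
      rw [cj_apply, conj_pow]
    rw [this]
    exact hCV' _ (h3 a ha)

theorem le_normalizer_of_map_le {Γ K : Subgroup G} (key : ∀ g ∈ Γ, K.map (cj g) ≤ K) :
    Γ ≤ Subgroup.normalizer (K : Set G) := by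
  intro g hg
  rw [Subgroup.mem_normalizer_iff]
  intro h
  constructor
  · intro hh
    exact key g hg ⟨h, hh, rfl⟩
  · intro hh
    have := key g⁻¹ (Γ.inv_mem hg) ⟨g * h * g⁻¹, hh, rfl⟩
    simpa [cj_apply, mul_assoc] using this

/-- the subgroup generated by all best offenders of `Γ` is normalized by `Γ` -/
theorem le_normalizer_iSup_best
    (hΓV : Γ ≤ Subgroup.normalizer (V : Set G)) :
    Γ ≤ Subgroup.normalizer ((⨆ A : {A : Subgroup G // A ≤ Γ ∧ Cfsg.IsBestOffenderOn p V A},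
      (A : Subgroup G) : Subgroup G) : Set G) := by
  apply le_normalizer_of_map_le
  intro g hg
  rw [Subgroup.map_iSup]
  refine iSup_le fun A => ?_
  refine le_iSup_of_le (ι := {A : Subgroup G // A ≤ Γ ∧ Cfsg.IsBestOffenderOn p V A})
    (f := fun A => (A : Subgroup G)) ⟨A.1.map (cj g), ?_, best_conj A.2.2 (hΓV hg)⟩ le_rfl
  rintro _ ⟨a, ha, rfl⟩
  exact Γ.mul_mem (Γ.mul_mem hg (A.2.1 ha)) (Γ.inv_mem hg)

/-- the setting: `Γ` faithful on `V`, `H` generated by all best offenders of `Γ` -/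
structure Setting (p : ℕ) (V H Γ : Subgroup G) : Prop where
  amb : Amb p V H
  hΓV : Γ ≤ Subgroup.normalizer (V : Set G)
  hΓf : Γ ⊓ Subgroup.centralizer (V : Set G) = ⊥
  hH : H = ⨆ A : {A : Subgroup G // A ≤ Γ ∧ Cfsg.IsBestOffenderOn p V A}, (A : Subgroup G)

namespace Setting

variable (s : Setting p V H Γ)
include s

theorem le : H ≤ Γ := by
  rw [s.hH]
  exact iSup_le fun A => A.2.1

theorem best_le {A : Subgroup G} (hA : A ≤ Γ) (hb : Cfsg.IsBestOffenderOn p V A) : A ≤ H := by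
  rw [s.hH]
  exact le_iSup_of_le (ι := {A : Subgroup G // A ≤ Γ ∧ Cfsg.IsBestOffenderOn p V A})
    (f := fun A => (A : Subgroup G)) ⟨A, hA, hb⟩ le_rfl

theorem hS3 : H = ⨆ A : {A : Subgroup G // A ≤ H ∧ Cfsg.IsBestOffenderOn p V A},
    (A : Subgroup G) := by
  apply le_antisymm
  · conv_lhs => rw [s.hH]
    refine iSup_le fun A => ?_
    exact le_iSup_of_le (ι := {A : Subgroup G // A ≤ H ∧ Cfsg.IsBestOffenderOn p V A})
      (f := fun A => (A : Subgroup G)) ⟨A.1, s.best_le A.2.1 A.2.2, A.2.2⟩ le_rfl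
  · exact iSup_le fun A => A.2.1

theorem normalizes : Γ ≤ Subgroup.normalizer (H : Set G) := by
  intro g hg
  have key : ∀ g ∈ Γ, H.map (cj g) ≤ H := by
    intro g hg
    conv_lhs => rw [s.hH]
    rw [Subgroup.map_iSup]
    refine iSup_le fun A => ?_
    refine s.best_le ?_ (best_conj A.2.2 (s.hΓV hg))
    rintro _ ⟨a, ha, rfl⟩
    exact Γ.mul_mem (Γ.mul_mem hg (A.2.1 ha)) (Γ.inv_mem hg)
  rw [Subgroup.mem_normalizer_iff]
  intro h
  constructor
  · intro hh
    exact key g hg ⟨h, hh, rfl⟩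
  · intro hh
    have := key g⁻¹ (Γ.inv_mem hg) ⟨g * h * g⁻¹, hh, rfl⟩
    simpa [cj_apply, mul_assoc] using this

theorem comm : ∀ x ∈ V, ∀ y ∈ V, x * y = y * x := s.amb.comm

end Setting

section ExistsTv

open Cfsg.Agent.Lib.Helper51_Offender

/-- a nontrivial abelian offender contains a transvection element -/
theorem Setting.exists_tv (s : Setting p V H Γ) {B : Subgroup G} (hBΓ : B ≤ Γ)
    (hBc : ∀ x ∈ B, ∀ y ∈ B, x * y = y * x) (hBp : IsPGroup p B) (hB1 : B ≠ ⊥)
    (hoff : Nat.card V ≤ Nat.card B * Nat.card ↥(V ⊓ Subgroup.centralizer (B : Set G))) :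
    ∃ a ∈ B, IsTv p V H a := by
  have hVc := s.comm
  have hVp' : ∀ v ∈ V, v ^ p = 1 := fun v hv => s.amb.hV.2 v hv
  have hVp : IsPGroup p V := by
    rintro ⟨v, hv⟩
    exact ⟨1, Subtype.ext (by simpa using hVp' v hv)⟩
  -- a maximizer of the measure among subgroups of `B`
  obtain ⟨D₀, hD₀B, hD₀max⟩ := Set.exists_max_image {D : Subgroup G | D ≤ B} (m V)
    (Set.toFinite _) ⟨⊥, (bot_le : (⊥ : Subgroup G) ≤ B)⟩
  have hmbot : m V (⊥ : Subgroup G) = Nat.card V := by
    have h1 : V ⊓ Subgroup.centralizer (((⊥ : Subgroup G) : Subgroup G) : Set G) = V := by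
      rw [inf_eq_left]
      intro v _
      rw [Subgroup.mem_centralizer_iff]
      intro b hb
      rw [Subgroup.mem_bot.mp hb, one_mul, mul_one]
    unfold m CV
    rw [Subgroup.card_bot, one_mul, h1]
  obtain ⟨B', hB'B, hB'1, hB'max⟩ : ∃ B' : Subgroup G, B' ≤ B ∧ B' ≠ ⊥ ∧
      ∀ D : Subgroup G, D ≤ B → m V D ≤ m V B' := by
    by_cases h0 : D₀ = ⊥
    · refine ⟨B, le_rfl, hB1, fun D hD => (hD₀max D hD).trans ?_⟩
      rw [h0, hmbot]
      exact hoff
    · exact ⟨D₀, hD₀B, h0, hD₀max⟩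
  have hB'Γ : B' ≤ Γ := hB'B.trans hBΓ
  have hbest : Best V B' := fun D hD => hB'max D (hD.trans hB'B)
  have hcomm0 : ∀ K : Subgroup G, K ≤ B → ⁅K, K⁆ = ⊥ := by
    intro K hK
    rw [Subgroup.commutator_eq_bot_iff_le_centralizer]
    intro a ha
    rw [Subgroup.mem_centralizer_iff]
    intro b hb
    exact hBc b (hK hb) a (hK ha)
  have hact : Act V B' := ⟨hVc, hB'Γ.trans s.hΓV, by rw [hcomm0 B' hB'B]; exact bot_le⟩
  have hfaith : ∀ K : Subgroup G, K ≤ Γ → ⁅V, K⁆ = ⊥ → K = ⊥ := by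
    intro K hK h0
    rw [Subgroup.commutator_eq_bot_iff_le_centralizer] at h0
    have h1 : K ≤ Subgroup.centralizer (V : Set G) := Subgroup.le_centralizer_iff.mp h0
    rw [eq_bot_iff, ← s.hΓf]
    exact le_inf hK h1
  have hne : ⁅V, B'⁆ ≠ ⊥ := fun h0 => hB'1 (hfaith B' hB'Γ h0)
  have hpow : ∀ a ∈ B', ∃ n : ℕ, a ^ p ^ n ∈ Subgroup.centralizer (V : Set G) := by
    intro a ha
    obtain ⟨k, hk⟩ := hBp ⟨a, hB'B ha⟩
    refine ⟨k, ?_⟩
    have : a ^ p ^ k = 1 := by
      have := congrArg Subtype.val hk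
      simpa using this
    rw [this]
    exact Subgroup.one_mem _
  set Q := T B' V with hQ
  have hQB' : Q ≤ B' := T_le B' V
  have hQΓ : Q ≤ Γ := hQB'.trans hB'Γ
  obtain ⟨t1, -⟩ := timmesfeld hact hbest (le_refl V)
  have hnt : ⁅V, Q⁆ ≠ ⊥ :=
    Cfsg.Agent.Lib.Helper72_AbelianJ.timmesfeld_nontrivial' hact hbest hVp hpow (le_refl V) hne
  have hQbest : Cfsg.IsBestOffenderOn p V Q := by
    refine ⟨?_, ?_, ?_⟩
    · intro D hD
      have h1 := hB'max D ((hD.trans hQB').trans hB'B)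
      rw [← t1] at h1
      exact h1
    · rw [hcomm0 Q (hQB'.trans hB'B)]
      exact bot_le
    · intro a ha
      have hquad : ⁅⁅V, Subgroup.zpowers a⁆, Subgroup.zpowers a⁆ = ⊥ := by
        rw [Subgroup.commutator_eq_bot_iff_le_centralizer]
        have h1 : ⁅V, Subgroup.zpowers a⁆ ≤ ⁅V, B'⁆ :=
          Subgroup.commutator_mono le_rfl (Subgroup.zpowers_le.mpr (hQB' ha))
        have h2 : Subgroup.zpowers a ≤ Subgroup.centralizer ((⁅V, B'⁆ : Subgroup G) : Set G) :=
          Subgroup.zpowers_le.mpr ha.2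
        have h3 : ⁅V, B'⁆ ≤ Subgroup.centralizer ((Subgroup.zpowers a : Subgroup G) : Set G) :=
          Subgroup.le_centralizer_iff.mp h2
        exact h1.trans h3
      have := Cfsg.Agent.Lib.Helper10_QuadPair.pow_p_eq_one_of_quad V Γ hVp' s.hΓV s.hΓf a
        (hQΓ ha) hquad
      rw [this]
      exact Subgroup.one_mem _
  have hQH : Q ≤ H := s.best_le hQΓ hQbest
  have hH1 : H ≠ ⊥ := by
    intro h0
    apply hnt
    have : Q = ⊥ := by rw [eq_bot_iff, ← h0]; exact hQH
    rw [this]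
    exact Subgroup.commutator_bot_right V
  -- a minimal nontrivially acting best offender inside `Q`
  obtain ⟨A, ⟨hAQ, hAb, hAV⟩, hAmin⟩ := Set.exists_min_image
    {A : Subgroup G | A ≤ Q ∧ Cfsg.IsBestOffenderOn p V A ∧ ⁅V, A⁆ ≠ ⊥}
    (fun A => Nat.card A) (Set.toFinite _) ⟨Q, le_rfl, hQbest, hnt⟩
  have hmin : ∀ D : Subgroup G, D ≤ A → Cfsg.IsBestOffenderOn p V D → ⁅V, D⁆ ≠ ⊥ → D = A := by
    intro D hDA hDb hDV
    exact Subgroup.eq_of_le_of_card_ge hDA (hAmin D ⟨hDA.trans hAQ, hDb, hDV⟩)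
  obtain ⟨a, ha, hAz⟩ := exists_tv_gen s.amb s.hS3 hH1 (hAQ.trans hQH) hAb hAV hmin
  refine ⟨a, ?_, ha⟩
  apply hB'B
  apply hQB'
  apply hAQ
  rw [hAz]
  exact Subgroup.mem_zpowers a

end ExistsTv

section Step

open Cfsg.Agent.Lib.Helper51_Offender

/-- elements of a subgroup of order 2 -/
theorem eq_of_card_two {U : Subgroup G} (hU : Nat.card U = 2) {x y : G} (hx : x ∈ U) (hy : y ∈ U)
    (hx1 : x ≠ 1) (hy1 : y ≠ 1) : x = y := by
  obtain ⟨z, -, hz⟩ := (Nat.card_eq_two_iff' (1 : U)).mp hU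
  have h1 := hz ⟨x, hx⟩ (fun h => hx1 (congrArg Subtype.val h))
  have h2 := hz ⟨y, hy⟩ (fun h => hy1 (congrArg Subtype.val h))
  exact congrArg Subtype.val (h1.trans h2.symm)

theorem card_le_two_of_lt_four {K W : Subgroup G} (hW : Nat.card W = 4) (hKW : K ≤ W)
    (hne : K ≠ W) : Nat.card K ≤ 2 := by
  have hd : Nat.card K ∣ 4 := hW ▸ Subgroup.card_dvd_of_le hKW
  have h4 : Nat.card K ≠ 4 := fun h => hne (Subgroup.eq_of_le_of_card_ge hKW (by rw [hW, h]))
  have hle : Nat.card K ≤ 4 := Nat.le_of_dvd (by norm_num) hd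
  interval_cases h : Nat.card K
  · omega
  · omega
  · omega
  · norm_num at hd
  · exact absurd rfl h4

/-- the reduction step: inside an abelian `B ≤ Γ` containing the transvection `a`, the centralizer
`B₀` of the plane `[V, E a]` has index `2` and twice as many fixed points. -/
theorem Setting.step (s : Setting 2 V H Γ) {B : Subgroup G} (hBΓ : B ≤ Γ)
    (hBc : ∀ x ∈ B, ∀ y ∈ B, x * y = y * x) {a : G} (haB : a ∈ B) (ha : IsTv 2 V H a) :
    a ∉ B ⊓ Subgroup.centralizer ((⁅V, E 2 H a⁆ : Subgroup G) : Set G) ∧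
    (∀ b ∈ B, b ∈ B ⊓ Subgroup.centralizer ((⁅V, E 2 H a⁆ : Subgroup G) : Set G) ∨
      a⁻¹ * b ∈ B ⊓ Subgroup.centralizer ((⁅V, E 2 H a⁆ : Subgroup G) : Set G)) ∧
    2 * Nat.card ↥(V ⊓ Subgroup.centralizer (B : Set G)) ≤
      Nat.card ↥(V ⊓ Subgroup.centralizer
        ((B ⊓ Subgroup.centralizer ((⁅V, E 2 H a⁆ : Subgroup G) : Set G) : Subgroup G) :
          Set G)) := by
  have amb := s.amb
  have hVc := s.comm
  obtain ⟨-, hcardW, hEW, -, -, -, -⟩ := E_facts amb ha
  set W := ⁅V, E 2 H a⁆ with hW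
  set U := ⁅V, Subgroup.zpowers a⁆ with hU
  have hcardU : Nat.card U = 2 := ha.card
  have hcardW4 : Nat.card W = 4 := by rw [hcardW]; norm_num
  have hEH : E 2 H a ≤ H := E_le ha.mem
  have hWV : W ≤ V := commutator_le_of_normalizer V _ (hEH.trans amb.hHV)
  have hUW : U ≤ W := Subgroup.commutator_mono le_rfl (Subgroup.zpowers_le.mpr (self_mem_E a))
  have haU : ∀ y ∈ U, a * y = y * a := ha.centralizes amb
  have hact : Act V B := ⟨hVc, hBΓ.trans s.hΓV, by
    have : ⁅B, B⁆ = ⊥ := by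
      rw [Subgroup.commutator_eq_bot_iff_le_centralizer]
      intro x hx
      rw [Subgroup.mem_centralizer_iff]
      intro y hy
      exact hBc y hy x hx
    rw [this]; exact bot_le⟩
  -- `a` does not centralize `W`
  have haW : a ∉ Subgroup.centralizer (W : Set G) := by
    intro h
    have : a ∈ E 2 H a ⊓ Subgroup.centralizer (W : Set G) := Subgroup.mem_inf.mpr ⟨self_mem_E a, h⟩
    rw [hEW, Subgroup.mem_bot] at this
    exact ha.ne_one this
  obtain ⟨w, hwW, hwa⟩ : ∃ w ∈ W, w * a ≠ a * w := by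
    by_contra hcon
    push Not at hcon
    exact haW (Subgroup.mem_centralizer_iff.mpr hcon)
  have hwV : w ∈ V := hWV hwW
  have hwU : w ∉ U := fun h => hwa (haU w h).symm
  -- `C_W(a) = U`
  have hCWa : W ⊓ Subgroup.centralizer ({a} : Set G) = U := by
    symm
    apply Subgroup.eq_of_le_of_card_ge
    · exact le_inf hUW (fun y hy => Subgroup.mem_centralizer_singleton_iff.mpr (haU y hy).symm)
    · rw [hcardU]
      apply card_le_two_of_lt_four hcardW4 inf_le_left
      intro h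
      have : w ∈ W ⊓ Subgroup.centralizer ({a} : Set G) := by rw [h]; exact hwW
      exact hwa (Subgroup.mem_centralizer_singleton_iff.mp this.2)
  -- `W = U ⊔ ⟨w⟩`
  have hWgen : U ⊔ Subgroup.zpowers w = W := by
    apply Subgroup.eq_of_le_of_card_ge (sup_le hUW (Subgroup.zpowers_le.mpr hwW))
    by_contra hlt
    push Not at hlt
    have hne : U ⊔ Subgroup.zpowers w ≠ W := fun h => by rw [h] at hlt; exact lt_irrefl _ hlt
    have h2 := card_le_two_of_lt_four hcardW4 (sup_le hUW (Subgroup.zpowers_le.mpr hwW)) hne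
    have h3 : U = U ⊔ Subgroup.zpowers w :=
      Subgroup.eq_of_le_of_card_ge le_sup_left (by rw [hcardU]; exact h2)
    apply hwU
    rw [h3]
    exact (le_sup_right : Subgroup.zpowers w ≤ _) (Subgroup.mem_zpowers w)
  have centW : ∀ x : G, (∀ y ∈ U, x * y = y * x) → x * w = w * x →
      x ∈ Subgroup.centralizer (W : Set G) := by
    intro x hxU hxw
    have h1 : U ⊔ Subgroup.zpowers w ≤ Subgroup.centralizer ({x} : Set G) := by
      apply sup_le
      · intro y hy
        exact Subgroup.mem_centralizer_singleton_iff.mpr (hxU y hy).symm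
      · rw [Subgroup.zpowers_le]
        exact Subgroup.mem_centralizer_singleton_iff.mpr hxw.symm
    rw [hWgen] at h1
    rw [Subgroup.mem_centralizer_iff]
    intro y hy
    exact Subgroup.mem_centralizer_singleton_iff.mp (h1 hy)
  -- the element `u = [w, a]`
  have huU : ⁅w, a⁆ ∈ U := Subgroup.commutator_mem_commutator hwV (Subgroup.mem_zpowers a)
  have hu1 : ⁅w, a⁆ ≠ 1 := by
    intro h
    rw [commutatorElement_eq_one_iff_mul_comm] at h
    exact hwa h
  -- elements of `B` normalize `U` and centralize it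
  have hBU : ∀ b ∈ B, ∀ y ∈ U, b * y = y * b := by
    intro b hb y hy
    have hbV : b ∈ Subgroup.normalizer (V : Set G) := s.hΓV (hBΓ hb)
    have hbZ : b ∈ Subgroup.normalizer ((Subgroup.zpowers a : Subgroup G) : Set G) :=
      mem_normalizer_zpowers_of_comm (hBc b hb a haB)
    have hbU : b ∈ Subgroup.normalizer (U : Set G) := mem_normalizer_commutator V _ hbV hbZ
    by_cases hy1 : y = 1
    · rw [hy1, mul_one, one_mul]
    · have h1 : b * y * b⁻¹ ∈ U := (Subgroup.mem_normalizer_iff.mp hbU y).mp hy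
      have h2 : b * y * b⁻¹ ≠ 1 := by
        intro h
        apply hy1
        have : y = b⁻¹ * (b * y * b⁻¹) * b := by group
        rw [this, h]; group
      have h3 := eq_of_card_two hcardU h1 hy h2 hy1
      calc b * y = b * y * b⁻¹ * b := by group
        _ = y * b := by rw [h3]
  refine ⟨fun h => haW h.2, ?_, ?_⟩
  · intro b hb
    have hbV : b ∈ Subgroup.normalizer (V : Set G) := s.hΓV (hBΓ hb)
    have hbH : b ∈ Subgroup.normalizer (H : Set G) := s.normalizes (hBΓ hb)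
    have hbE : b ∈ Subgroup.normalizer ((E 2 H a : Subgroup G) : Set G) := by
      rw [Subgroup.mem_normalizer_iff_map_conj_eq]
      have h1 := E_conj' (p := 2) a hbH
      have h2 : b * a * b⁻¹ = a := by rw [hBc b hb a haB]; group
      rw [h2] at h1
      exact h1.symm
    have hbW : b ∈ Subgroup.normalizer (W : Set G) := mem_normalizer_commutator V _ hbV hbE
    -- `x = [w, b] ∈ W` commutes with `a`
    have hxW : ⁅w, b⁆ ∈ W := by
      have e : ⁅w, b⁆ = w * (b * w⁻¹ * b⁻¹) := by rw [commutatorElement_def]; group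
      rw [e]
      exact W.mul_mem hwW ((Subgroup.mem_normalizer_iff.mp hbW _).mp (W.inv_mem hwW))
    have hxa : ⁅⁅w, b⁆, a⁆ = 1 := by
      rw [hact.comm_comm hb haB hwV, commutatorElement_eq_one_iff_mul_comm]
      exact (hBU b hb _ huU).symm
    have hxU : ⁅w, b⁆ ∈ U := by
      rw [← hCWa]
      refine Subgroup.mem_inf.mpr ⟨hxW, ?_⟩
      rw [Subgroup.mem_centralizer_singleton_iff]
      exact commutatorElement_eq_one_iff_mul_comm.mp hxa
    by_cases hx1 : ⁅w, b⁆ = 1
    · left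
      refine Subgroup.mem_inf.mpr ⟨hb, centW b (hBU b hb) ?_⟩
      exact (commutatorElement_eq_one_iff_mul_comm.mp hx1).symm
    · right
      have hxu : ⁅w, b⁆ = ⁅w, a⁆ := eq_of_card_two hcardU hxU huU hx1 hu1
      have hab : a⁻¹ * b ∈ B := B.mul_mem (B.inv_mem haB) hb
      refine Subgroup.mem_inf.mpr ⟨hab, centW _ (hBU _ hab) ?_⟩
      rw [commutatorElement_def, commutatorElement_def] at hxu
      have h1 : b * w⁻¹ * b⁻¹ = a * w⁻¹ * a⁻¹ := by
        have : w⁻¹ * (w * b * w⁻¹ * b⁻¹) = w⁻¹ * (w * a * w⁻¹ * a⁻¹) := by rw [hxu]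
        calc b * w⁻¹ * b⁻¹ = w⁻¹ * (w * b * w⁻¹ * b⁻¹) := by group
          _ = w⁻¹ * (w * a * w⁻¹ * a⁻¹) := this
          _ = a * w⁻¹ * a⁻¹ := by group
      have h2 : (a⁻¹ * b) * w⁻¹ = w⁻¹ * (a⁻¹ * b) := by
        calc (a⁻¹ * b) * w⁻¹ = a⁻¹ * (b * w⁻¹ * b⁻¹) * b := by group
          _ = a⁻¹ * (a * w⁻¹ * a⁻¹) * b := by rw [h1]
          _ = w⁻¹ * (a⁻¹ * b) := by group
      calc (a⁻¹ * b) * w = w * (w⁻¹ * (a⁻¹ * b)) * w := by group
        _ = w * ((a⁻¹ * b) * w⁻¹) * w := by rw [h2]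
        _ = w * (a⁻¹ * b) := by group
  · set B₀ := B ⊓ Subgroup.centralizer (W : Set G) with hB₀
    have h1 := card_mul_card_le (CV V B) W
    have h2 : CV V B ⊔ W ≤ V ⊓ Subgroup.centralizer (B₀ : Set G) := by
      apply sup_le
      · exact CV_anti V inf_le_left
      · refine le_inf hWV ?_
        apply Subgroup.le_centralizer_iff.mp
        exact inf_le_right
    have h3 : CV V B ⊓ W ≤ U := by
      rw [← hCWa]
      intro y hy
      refine Subgroup.mem_inf.mpr ⟨hy.2, ?_⟩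
      rw [Subgroup.mem_centralizer_singleton_iff]
      exact ((mem_CV.mp hy.1).2 a haB).symm
    have h4 : Nat.card ↥(CV V B ⊔ W) ≤ Nat.card ↥(V ⊓ Subgroup.centralizer (B₀ : Set G)) :=
      Subgroup.card_le_of_le h2
    have h5 : Nat.card ↥(CV V B ⊓ W) ≤ 2 := hcardU ▸ Subgroup.card_le_of_le h3
    rw [hcardW4] at h1
    have h6 : Nat.card ↥(CV V B ⊔ W) * Nat.card ↥(CV V B ⊓ W) ≤
        Nat.card ↥(V ⊓ Subgroup.centralizer (B₀ : Set G)) * 2 := Nat.mul_le_mul h4 h5
    have h7 : Nat.card ↥(CV V B) = Nat.card ↥(V ⊓ Subgroup.centralizer (B : Set G)) := rfl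
    omega

/-- **Abelian offenders are generated by transvections** (`p = 2`). -/
theorem Setting.gen_by_tv_aux (s : Setting 2 V H Γ) :
    ∀ (n : ℕ) (B : Subgroup G), Nat.card B = n → B ≤ Γ →
      (∀ x ∈ B, ∀ y ∈ B, x * y = y * x) → IsPGroup 2 B →
      Nat.card V ≤ Nat.card B * Nat.card ↥(V ⊓ Subgroup.centralizer (B : Set G)) →
      B ≤ Subgroup.closure {a | a ∈ B ∧ IsTv 2 V H a} := by
  intro n
  induction n using Nat.strong_induction_on with
  | _ n ih =>
  intro B hn hBΓ hBc hBp hoff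
  by_cases hB1 : B = ⊥
  · rw [hB1]; exact bot_le
  obtain ⟨a, haB, ha⟩ := s.exists_tv hBΓ hBc hBp hB1 hoff
  obtain ⟨h1, h2, h3⟩ := s.step hBΓ hBc haB ha
  set B₀ := B ⊓ Subgroup.centralizer ((⁅V, E 2 H a⁆ : Subgroup G) : Set G) with hB₀
  have hB₀B : B₀ ≤ B := inf_le_left
  have hidx : B₀.relIndex B ≤ 2 := by
    rw [Subgroup.relIndex, Subgroup.index_eq_card]
    let f : Bool → ↥B ⧸ B₀.subgroupOf B :=
      fun t => if t then QuotientGroup.mk ⟨a, haB⟩ else QuotientGroup.mk 1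
    have hf : Function.Surjective f := by
      intro q
      induction q using QuotientGroup.induction_on with
      | H b =>
        rcases h2 b b.2 with h | h
        · refine ⟨false, ?_⟩
          show (QuotientGroup.mk (1 : ↥B) : ↥B ⧸ B₀.subgroupOf B) = QuotientGroup.mk b
          rw [QuotientGroup.eq]
          exact Subgroup.mem_subgroupOf.mpr (by simpa using h)
        · refine ⟨true, ?_⟩
          show (QuotientGroup.mk ⟨a, haB⟩ : ↥B ⧸ B₀.subgroupOf B) = QuotientGroup.mk b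
          rw [QuotientGroup.eq]
          exact Subgroup.mem_subgroupOf.mpr (by simpa using h)
    have := Nat.card_le_card_of_surjective f hf
    simpa using this
  have hcard : Nat.card B ≤ 2 * Nat.card B₀ := by
    rw [← card_mul_relIndex hB₀B, mul_comm]
    exact Nat.mul_le_mul_right _ hidx
  have hlt : Nat.card B₀ < n := by
    rw [← hn]
    refine lt_of_le_of_ne (Subgroup.card_le_of_le hB₀B) ?_
    intro heq
    have : B₀ = B := Subgroup.eq_of_le_of_card_ge hB₀B heq.ge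
    exact h1 (this ▸ haB)
  have hoff₀ : Nat.card V ≤
      Nat.card B₀ * Nat.card ↥(V ⊓ Subgroup.centralizer (B₀ : Set G)) := by
    calc Nat.card V ≤ Nat.card B * Nat.card ↥(V ⊓ Subgroup.centralizer (B : Set G)) := hoff
      _ ≤ (2 * Nat.card B₀) * Nat.card ↥(V ⊓ Subgroup.centralizer (B : Set G)) :=
          Nat.mul_le_mul_right _ hcard
      _ = Nat.card B₀ * (2 * Nat.card ↥(V ⊓ Subgroup.centralizer (B : Set G))) := by ring
      _ ≤ Nat.card B₀ * Nat.card ↥(V ⊓ Subgroup.centralizer (B₀ : Set G)) :=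
          Nat.mul_le_mul_left _ h3
  have ih₀ := ih _ hlt B₀ rfl (hB₀B.trans hBΓ)
    (fun x hx y hy => hBc x (hB₀B hx) y (hB₀B hy)) (hBp.to_le hB₀B) hoff₀
  have hmono : Subgroup.closure {a | a ∈ B₀ ∧ IsTv 2 V H a} ≤
      Subgroup.closure {a | a ∈ B ∧ IsTv 2 V H a} :=
    Subgroup.closure_mono fun x hx => ⟨hB₀B hx.1, hx.2⟩
  intro b hb
  rcases h2 b hb with h | h
  · exact hmono (ih₀ h)
  · have e : b = a * (a⁻¹ * b) := by group
    rw [e]
    exact Subgroup.mul_mem _ (Subgroup.subset_closure ⟨haB, ha⟩) (hmono (ih₀ h))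

theorem Setting.gen_by_tv (s : Setting 2 V H Γ) {B : Subgroup G} (hBΓ : B ≤ Γ)
    (hBc : ∀ x ∈ B, ∀ y ∈ B, x * y = y * x) (hBp : IsPGroup 2 B)
    (hoff : Nat.card V ≤ Nat.card B * Nat.card ↥(V ⊓ Subgroup.centralizer (B : Set G))) :
    B ≤ Subgroup.closure {a | a ∈ B ∧ IsTv 2 V H a} :=
  s.gen_by_tv_aux _ B rfl hBΓ hBc hBp hoff

end Step

section Product

/-- internal direct product of finitely many copies of `S₃` -/
theorem equiv_pi_of_indep {ι : Type*} [Finite ι] [Nonempty ι] (F : ι → Subgroup G)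
    (hcomm : Pairwise fun i j => ∀ x y : G, x ∈ F i → y ∈ F j → Commute x y)
    (hind : iSupIndep F) (hiso : ∀ i, Nonempty (↥(F i) ≃* Equiv.Perm (Fin 3))) :
    ∃ n : ℕ, 1 ≤ n ∧ Nonempty (↥(⨆ i, F i) ≃* (Fin n → Equiv.Perm (Fin 3))) := by
  classical
  have := Fintype.ofFinite ι
  have hinj := Subgroup.injective_noncommPiCoprod_of_iSupIndep (hcomm := hcomm) hind
  have hrange : (Subgroup.noncommPiCoprod hcomm).range = ⨆ i, F i :=
    Subgroup.noncommPiCoprod_range
  let e1 : (∀ i, F i) ≃* (Subgroup.noncommPiCoprod hcomm).range := MonoidHom.ofInjective hinj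
  let e2 : (Subgroup.noncommPiCoprod hcomm).range ≃* ↥(⨆ i, F i) := MulEquiv.subgroupCongr hrange
  let e3 : (∀ i, F i) ≃* (ι → Equiv.Perm (Fin 3)) :=
    MulEquiv.piCongrRight (fun i => (hiso i).some)
  let e4 : (ι → Equiv.Perm (Fin 3)) ≃* (Fin (Fintype.card ι) → Equiv.Perm (Fin 3)) :=
    MulEquiv.arrowCongr (Fintype.equivFin ι) (MulEquiv.refl _)
  exact ⟨Fintype.card ι, Fintype.card_pos, ⟨(e2.symm.trans e1.symm).trans (e3.trans e4)⟩⟩

/-- A normal subgroup of `Γ` generated by transvection elements is a direct product of copies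
of `S₃`. -/
theorem Setting.product (s : Setting 2 V H Γ) {Y : Subgroup G} (hYΓ : Y ≤ Γ)
    (hYn : Γ ≤ Subgroup.normalizer (Y : Set G))
    (hgen : Y ≤ Subgroup.closure {a | a ∈ Y ∧ IsTv 2 V H a}) (hY1 : Y ≠ ⊥) :
    ∃ n : ℕ, 1 ≤ n ∧ Nonempty (↥Y ≃* (Fin n → Equiv.Perm (Fin 3))) := by
  have amb := s.amb
  have hS3 := s.hS3
  -- there is a transvection in `Y`
  obtain ⟨a₀, ha₀Y, ha₀⟩ : ∃ a, a ∈ Y ∧ IsTv 2 V H a := by
    by_contra hcon
    push Not at hcon
    apply hY1
    rw [eq_bot_iff]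
    refine hgen.trans ?_
    rw [Subgroup.closure_le]
    rintro x ⟨hx, hxt⟩
    exact absurd hxt (hcon x hx)
  have hH1 : H ≠ ⊥ := by
    intro h0
    have := ha₀.mem
    rw [h0, Subgroup.mem_bot] at this
    exact ha₀.ne_one this
  -- `E a ≤ Y` for transvections in `Y`
  have hEY : ∀ a, a ∈ Y → IsTv 2 V H a → E 2 H a ≤ Y := by
    intro a haY ha
    refine sup_le ?_ (Subgroup.zpowers_le.mpr haY)
    rw [Subgroup.commutator_le]
    intro k hk z hz
    have hkΓ : k ∈ Γ := s.le (coreK_le H hk)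
    have hzY : z ∈ Y := (Subgroup.zpowers_le.mpr haY) hz
    have h1 : k * z * k⁻¹ ∈ Y := (Subgroup.mem_normalizer_iff.mp (hYn hkΓ) z).mp hzY
    rw [commutatorElement_def]
    exact Y.mul_mem h1 (Y.inv_mem hzY)
  let I : Type _ := {E' : Subgroup G // ∃ a, a ∈ Y ∧ IsTv 2 V H a ∧ E' = E 2 H a}
  have hI : ∀ i : I, ∃ a, a ∈ Y ∧ IsTv 2 V H a ∧ (i : Subgroup G) = E 2 H a := fun i => i.2
  choose af hafY haf hEf using hI
  have : Nonempty I := ⟨⟨E 2 H a₀, a₀, ha₀Y, ha₀, rfl⟩⟩
  have hne : ∀ i j : I, i ≠ j → E 2 H (af j) ≠ E 2 H (af i) := by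
    intro i j hij h
    apply hij
    apply Subtype.ext
    rw [hEf i, hEf j, h]
  have hsup : (⨆ i : I, (i : Subgroup G)) = Y := by
    apply le_antisymm
    · refine iSup_le fun i => ?_
      rw [hEf i]
      exact hEY _ (hafY i) (haf i)
    · refine hgen.trans ?_
      rw [Subgroup.closure_le]
      rintro x ⟨hxY, hxt⟩
      exact (le_iSup (fun i : I => (i : Subgroup G)) ⟨E 2 H x, x, hxY, hxt, rfl⟩)
        (self_mem_E x)
  have hcent : ∀ i j : I, i ≠ j → (j : Subgroup G) ≤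
      H ⊓ Subgroup.centralizer ((⁅V, (i : Subgroup G)⁆ : Subgroup G) : Set G) := by
    intro i j hij
    rw [hEf i, hEf j]
    exact E_le_centralizer amb (haf i) (haf j) (hne i j hij)
  have hind : iSupIndep (fun i : I => (i : Subgroup G)) := by
    intro i
    rw [disjoint_iff, eq_bot_iff]
    have h1 : (i : Subgroup G) ⊓
        (H ⊓ Subgroup.centralizer ((⁅V, (i : Subgroup G)⁆ : Subgroup G) : Set G)) = ⊥ := by
      rw [hEf i]
      exact (structure_one amb hS3 hH1 (haf i)).2.1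
    rw [← h1]
    exact inf_le_inf_left _ (iSup₂_le fun j hj => hcent i j (Ne.symm hj))
  have hcomm : Pairwise fun i j : I => ∀ x y : G, x ∈ (i : Subgroup G) → y ∈ (j : Subgroup G) →
      Commute x y := by
    intro i j hij x y hx hy
    have h1 := hcent i j hij hy
    have h2 : H ⊓ Subgroup.centralizer ((⁅V, (i : Subgroup G)⁆ : Subgroup G) : Set G) ≤
        Subgroup.centralizer (((i : Subgroup G) : Subgroup G) : Set G) := by
      rw [hEf i]
      exact (structure_one amb hS3 hH1 (haf i)).2.2.2.2.2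
    exact (Subgroup.mem_centralizer_iff.mp (h2 h1) x hx)
  have hiso : ∀ i : I, Nonempty (↥(i : Subgroup G) ≃* Equiv.Perm (Fin 3)) := by
    intro i
    rw [hEf i]
    obtain ⟨e⟩ := (E_facts amb (haf i)).2.2.2.1
    obtain ⟨e'⟩ := Cfsg.Agent.S0250.result (F := ZMod 2) (by simp)
    exact ⟨e.trans e'⟩
  obtain ⟨n, hn, ⟨e⟩⟩ := equiv_pi_of_indep (fun i : I => (i : Subgroup G)) hcomm hind hiso
  exact ⟨n, hn, ⟨(MulEquiv.subgroupCongr hsup.symm).trans e⟩⟩

/-- the subgroup generated by the transvections inside a `Γ`-invariant subgroup is `Γ`-invariant -/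
theorem Setting.le_normalizer_closure_tv (s : Setting p V H Γ) {Y : Subgroup G}
    (hYn : Γ ≤ Subgroup.normalizer (Y : Set G)) :
    Γ ≤ Subgroup.normalizer
      ((Subgroup.closure {a | a ∈ Y ∧ IsTv p V H a} : Subgroup G) : Set G) := by
  apply le_normalizer_of_map_le
  intro g hg
  rw [MonoidHom.map_closure, Subgroup.closure_le]
  rintro _ ⟨a, ⟨haY, ha⟩, rfl⟩
  apply Subgroup.subset_closure
  exact ⟨(Subgroup.mem_normalizer_iff.mp (hYn hg) a).mp haY,
    isTv_conj' ha (s.hΓV hg) (s.normalizes hg)⟩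

end Product

end Cfsg.Agent.Lib.Helper10_OffTv
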