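import Cfsg.Prelude.Def_LocalStructure
import Mathlib.GroupTheory.Frattini

set_option autoImplicit false

namespace Cfsg.Agent.Lib.Helper47_PLocal

open Cfsg
open scoped commutatorElement Pointwise

/-! ### Basic facts on `pCore` -/

theorem pCore_isPGroup (p : ℕ) (G : Type*) [Group G] : IsPGroup p (Cfsg.pCore p G) :=
  Sylow.sSup_of_normal _ (fun _ h => h.2) (fun _ h => h.1)

theorem le_pCore {p : ℕ} {G : Type*} [Group G] {N : Subgroup G} (hN : N.Normal)
    (hp : IsPGroup p N) : N ≤ Cfsg.pCore p G :=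
  le_sSup ⟨hN, hp⟩

theorem pCore_le_sylow {p : ℕ} {G : Type*} [Group G] (P : Sylow p G) :
    Cfsg.pCore p G ≤ (P : Subgroup G) :=
  (pCore_isPGroup p G).le_sylow_of_normal P

/-! ### `p'`-elements stabilizing a chain of `p`-subgroups -/


theorem commute_of_coprime_of_conj_eq_mul {G : Type*} [Group G] {p : ℕ} [Fact p.Prime]
    (x r c : G) (hx : (orderOf x).Coprime p)
    (hc : x * r * x⁻¹ = r * c) (hxc : Commute x c) (hcp : ∃ k, orderOf c = p ^ k) :
    Commute x r := by
  have h : ∀ k : ℕ, x ^ k * r * (x ^ k)⁻¹ = r * c ^ k := by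
    intro k
    induction k with
    | zero => simp
    | succ k ih =>
      have h1 : x ^ (k + 1) * r * (x ^ (k + 1))⁻¹ = x * (x ^ k * r * (x ^ k)⁻¹) * x⁻¹ := by
        rw [pow_succ']; group
      rw [h1, ih]
      have h2 : x * (r * c ^ k) * x⁻¹ = (x * r * x⁻¹) * (x * c ^ k * x⁻¹) := by group
      rw [h2, hc]
      have h3 : x * c ^ k * x⁻¹ = c ^ k := by
        have := (hxc.pow_right k).eq
        rw [this]; group
      rw [h3, pow_succ']; group
  have h4 := h (orderOf x)
  rw [pow_orderOf_eq_one] at h4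
  simp at h4
  obtain ⟨j, hj⟩ := hcp
  have h5 : orderOf c ∣ orderOf x := orderOf_dvd_of_pow_eq_one h4
  have h6 : (orderOf x).Coprime (orderOf c) := by
    rw [hj]; exact Nat.Coprime.pow_right j hx
  have h7 : orderOf c = 1 := Nat.eq_one_of_dvd_coprimes h6 h5 dvd_rfl
  have h8 : c = 1 := orderOf_eq_one_iff.mp h7
  rw [h8, mul_one] at hc
  show x * r = r * x
  calc x * r = x * r * x⁻¹ * x := by group
    _ = r * x := by rw [hc]

/-- Elements of a `p`-subgroup have `p`-power order. -/
theorem orderOf_eq_pow_of_mem {G : Type*} [Group G] {p : ℕ} [Fact p.Prime] {R : Subgroup G}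
    (hR : IsPGroup p R) {c : G} (hc : c ∈ R) : ∃ k, orderOf c = p ^ k := by
  obtain ⟨k, hk⟩ := (IsPGroup.iff_orderOf.mp hR) ⟨c, hc⟩
  exact ⟨k, by rw [← hk, Subgroup.orderOf_mk]⟩

/-- A `p'`-element of a `p`-subgroup is trivial. -/
theorem eq_one_of_coprime_of_mem {G : Type*} [Group G] {p : ℕ} [Fact p.Prime] {R : Subgroup G}
    (hR : IsPGroup p R) {x : G} (hx : x ∈ R) (hc : (orderOf x).Coprime p) : x = 1 := by
  obtain ⟨k, hk⟩ := orderOf_eq_pow_of_mem hR hx
  rw [hk] at hc
  rcases Nat.eq_zero_or_pos k with h0 | hpos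
  · rw [h0, pow_zero] at hk
    exact orderOf_eq_one_iff.mp hk
  · exfalso
    have h1 : p ∣ Nat.gcd (p ^ k) p := Nat.dvd_gcd (dvd_pow_self p hpos.ne') dvd_rfl
    have h2 : Nat.gcd (p ^ k) p = 1 := hc
    rw [h2] at h1
    exact (Fact.out : p.Prime).one_lt.ne' (Nat.dvd_one.mp h1)

/-- A `p'`-element `x` which centralizes `B` and satisfies `[A, x] ≤ B`, where `B` consists of
`p`-elements, centralizes `A`. -/
theorem commute_of_coprime_of_commutator_mem {G : Type*} [Group G] {p : ℕ} [Fact p.Prime]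
    (A B : Subgroup G) (x : G) (hx : (orderOf x).Coprime p)
    (hAB : ∀ r ∈ A, ⁅r, x⁆ ∈ B) (hB : ∀ c ∈ B, Commute x c)
    (hBp : ∀ c ∈ B, ∃ k, orderOf c = p ^ k) : ∀ r ∈ A, Commute x r := by
  intro r hr
  have hc : ⁅r⁻¹, x⁆ ∈ B := hAB _ (A.inv_mem hr)
  refine commute_of_coprime_of_conj_eq_mul x r ⁅r⁻¹, x⁆ hx ?_ (hB _ hc) (hBp _ hc)
  rw [commutatorElement_def]; group

theorem iterCommutator_succ' {G : Type*} [Group G] (N L : Subgroup G) (i : ℕ) :
    Cfsg.iterCommutator N L (i + 1) = Cfsg.iterCommutator ⁅N, L⁆ L i := by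
  induction i with
  | zero => rfl
  | succ i ih =>
    show ⁅Cfsg.iterCommutator N L (i + 1), L⁆ = ⁅Cfsg.iterCommutator ⁅N, L⁆ L i, L⁆
    rw [ih]

/-- A `p'`-element of `L` centralizes a `p`-group `R` on which `L` acts nilpotently. -/
theorem commute_of_coprime_of_iterCommutator {G : Type*} [Group G] {p : ℕ} [Fact p.Prime]
    (R L : Subgroup G) (hR : IsPGroup p R) (hL : L ≤ Subgroup.normalizer (R : Set G))
    (x : G) (hxL : x ∈ L) (hx : (orderOf x).Coprime p) :
    ∀ (n : ℕ) (A : Subgroup G), A ≤ R → Cfsg.iterCommutator A L n = ⊥ → ∀ r ∈ A, Commute x r := by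
  intro n
  induction n with
  | zero =>
    intro A _ hA r hr
    have : A = ⊥ := hA
    rw [this, Subgroup.mem_bot] at hr
    rw [hr]; exact Commute.one_right x
  | succ n ih =>
    intro A hAR hA
    rw [iterCommutator_succ'] at hA
    have hRL : ⁅R, L⁆ ≤ R := Subgroup.le_normalizer_iff_commutator_le_left.mp hL
    have hAL : ⁅A, L⁆ ≤ R := le_trans (Subgroup.commutator_mono hAR le_rfl) hRL
    have h1 := ih ⁅A, L⁆ hAL hA
    exact commute_of_coprime_of_commutator_mem A ⁅A, L⁆ x hx
      (fun r hr => Subgroup.commutator_mem_commutator hr hxL) h1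
      (fun c hc => orderOf_eq_pow_of_mem hR (hAL hc))

/-- A subgroup of a finite group all of whose `p'`-elements are trivial is a `p`-group. -/
theorem isPGroup_of_forall_coprime_eq_one {G : Type*} [Group G] [Finite G] {p : ℕ} [Fact p.Prime]
    (L : Subgroup G) (h : ∀ x ∈ L, (orderOf x).Coprime p → x = 1) : IsPGroup p L := by
  intro g
  have hpos : 0 < orderOf (g : G) := orderOf_pos _
  obtain ⟨k, m, hm, hkm⟩ := Nat.exists_eq_pow_mul_and_not_dvd hpos.ne' p (Fact.out : p.Prime).ne_one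
  refine ⟨k, ?_⟩
  have h1 : orderOf ((g : G) ^ (p ^ k)) = m := by
    rw [orderOf_pow' _ (pow_ne_zero k (Fact.out : p.Prime).ne_zero), hkm]
    rw [Nat.gcd_eq_right (dvd_mul_right _ _)]
    exact Nat.mul_div_cancel_left m (pow_pos (Fact.out : p.Prime).pos k)
  have h2 : (orderOf ((g : G) ^ (p ^ k))).Coprime p := by
    rw [h1]
    exact ((Nat.Prime.coprime_iff_not_dvd (Fact.out : p.Prime)).mpr hm).symm
  have h3 := h _ (L.pow_mem g.2 _) h2
  exact Subtype.ext (by simpa using h3)


/-! ### The kernel of the action on a normal section -/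


/-- The subgroup of elements `g` with `[K, g] ⊆ N`, for normal `N`. -/
def commKer {G : Type*} [Group G] (K N : Subgroup G) [hN : N.Normal] : Subgroup G where
  carrier := {g | ∀ k ∈ K, ⁅k, g⁆ ∈ N}
  one_mem' := by
    intro k _
    simp [commutatorElement_def]
  mul_mem' := by
    intro a b ha hb k hk
    have h1 : ⁅k, a * b⁆ = ⁅k, a⁆ * (a * ⁅k, b⁆ * a⁻¹) := by
      simp only [commutatorElement_def]; group
    rw [h1]
    exact N.mul_mem (ha k hk) (hN.conj_mem _ (hb k hk) a)
  inv_mem' := by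
    intro a ha k hk
    have h1 : ⁅k, a⁻¹⁆ = a⁻¹ * (⁅k, a⁆)⁻¹ * a⁻¹⁻¹ := by
      simp only [commutatorElement_def]; group
    rw [h1]
    exact hN.conj_mem _ (N.inv_mem (ha k hk)) a⁻¹

theorem mem_commKer {G : Type*} [Group G] {K N : Subgroup G} [N.Normal] {g : G} :
    g ∈ commKer K N ↔ ∀ k ∈ K, ⁅k, g⁆ ∈ N := Iff.rfl

theorem le_commKer_iff {G : Type*} [Group G] {K N L : Subgroup G} [N.Normal] :
    L ≤ commKer K N ↔ ⁅K, L⁆ ≤ N := by
  rw [Subgroup.commutator_le]
  constructor
  · intro h k hk l hl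
    exact h hl k hk
  · intro h l hl k hk
    exact h k hk l hl

instance commKer_normal {G : Type*} [Group G] (K N : Subgroup G) [hK : K.Normal] [hN : N.Normal] :
    (commKer K N).Normal := by
  constructor
  intro g hg h k hk
  have h1 : ⁅k, h * g * h⁻¹⁆ = h * ⁅h⁻¹ * k * h⁻¹⁻¹, g⁆ * h⁻¹ := by
    simp only [commutatorElement_def]; group
  rw [h1]
  exact hN.conj_mem _ (hg _ (hK.conj_mem k hk h⁻¹)) h


/-! ### Commutator subgroups, closures of commuting `p`-elements -/


/-- `[K, Y]` is normalized by `K`. -/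
theorem conj_mem_commutator_left {G : Type*} [Group G] {K Y : Subgroup G} {a : G} (ha : a ∈ K)
    {n : G} (hn : n ∈ ⁅K, Y⁆) : a * n * a⁻¹ ∈ ⁅K, Y⁆ := by
  rw [Subgroup.commutator_def] at hn
  induction hn using Subgroup.closure_induction with
  | mem x hx =>
    obtain ⟨k, hk, y, hy, rfl⟩ := hx
    have h1 : a * ⁅k, y⁆ * a⁻¹ = ⁅a * k, y⁆ * (⁅a, y⁆)⁻¹ := by
      simp only [commutatorElement_def]; group
    rw [h1]
    exact Subgroup.mul_mem _ (Subgroup.commutator_mem_commutator (K.mul_mem ha hk) hy)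
      (Subgroup.inv_mem _ (Subgroup.commutator_mem_commutator ha hy))
  | one => simp
  | mul x y _ _ hx hy =>
    have : a * (x * y) * a⁻¹ = (a * x * a⁻¹) * (a * y * a⁻¹) := by group
    rw [this]; exact Subgroup.mul_mem _ hx hy
  | inv x _ hx =>
    have : a * x⁻¹ * a⁻¹ = (a * x * a⁻¹)⁻¹ := by group
    rw [this]; exact Subgroup.inv_mem _ hx

theorem le_normalizer_commutator_left {G : Type*} [Group G] (K Y : Subgroup G) :
    K ≤ Subgroup.normalizer ((⁅K, Y⁆ : Subgroup G) : Set G) := by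
  intro a ha
  rw [Subgroup.mem_normalizer_iff]
  intro n
  constructor
  · exact fun hn => conj_mem_commutator_left ha hn
  · intro hn
    have := conj_mem_commutator_left (K.inv_mem ha) hn
    simpa [mul_assoc] using this

theorem le_normalizer_commutator_right {G : Type*} [Group G] (K Y : Subgroup G) :
    Y ≤ Subgroup.normalizer ((⁅K, Y⁆ : Subgroup G) : Set G) := by
  rw [Subgroup.commutator_comm]
  exact le_normalizer_commutator_left Y K

/-- If the generators commute pairwise and have `p`-power order, the closure is a `p`-group. -/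
theorem isPGroup_closure_of_commute {G : Type*} [Group G] {p : ℕ} (S : Set G)
    (hcomm : ∀ a ∈ S, ∀ b ∈ S, Commute a b) (hp : ∀ a ∈ S, ∃ j : ℕ, a ^ (p ^ j) = 1) :
    IsPGroup p (Subgroup.closure S) := by
  have h1 : Subgroup.closure S ≤ Subgroup.centralizer (Subgroup.closure S : Set G) := by
    have hS : S ⊆ Subgroup.centralizer S := by
      intro a ha
      show a ∈ Subgroup.centralizer S
      rw [Subgroup.mem_centralizer_iff]
      intro b hb
      exact (hcomm b hb a ha).eq
    have h2 : Subgroup.closure S ≤ Subgroup.centralizer S := (Subgroup.closure_le _).mpr hS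
    calc Subgroup.closure S ≤ Subgroup.centralizer (Subgroup.centralizer S : Set G) :=
          Subgroup.closure_le_centralizer_centralizer S
      _ ≤ Subgroup.centralizer (Subgroup.closure S : Set G) := Subgroup.centralizer_le h2
  have key : ∀ x ∈ Subgroup.closure S, ∃ j : ℕ, x ^ (p ^ j) = 1 := by
    intro x hx
    induction hx using Subgroup.closure_induction with
    | mem x hx => exact hp x hx
    | one => exact ⟨0, by simp⟩
    | mul x y hx hy ihx ihy =>
      obtain ⟨i, hi⟩ := ihx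
      obtain ⟨j, hj⟩ := ihy
      have hc : Commute x y := by
        have := (Subgroup.mem_centralizer_iff.mp (h1 hy)) x hx
        exact this
      refine ⟨i + j, ?_⟩
      rw [hc.mul_pow, pow_add, pow_mul, hi, one_pow, mul_comm (p ^ i), pow_mul, hj, one_pow, one_mul]
    | inv x _ ihx =>
      obtain ⟨i, hi⟩ := ihx
      exact ⟨i, by rw [inv_pow, hi, inv_one]⟩
  intro g
  obtain ⟨j, hj⟩ := key g.1 g.2
  exact ⟨j, Subtype.ext (by simpa using hj)⟩

/-- A `p`-subgroup `N ≤ K` normalized by `K` is trivial when `O_p(K) = 1`. -/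
theorem eq_bot_of_isPGroup_of_pCore_eq_bot {G : Type*} [Group G] {p : ℕ} {K N : Subgroup G}
    (hNK : N ≤ K) (hKN : K ≤ Subgroup.normalizer (N : Set G)) (hN : IsPGroup p N)
    (hO : Cfsg.pCore p K = ⊥) : N = ⊥ := by
  have h1 : (N.subgroupOf K).Normal := (Subgroup.normal_subgroupOf_iff_le_normalizer hNK).mpr hKN
  have h2 : IsPGroup p (N.subgroupOf K) := hN.comap_subtype
  have h3 : N.subgroupOf K ≤ Cfsg.pCore p K := le_pCore h1 h2
  rw [hO, le_bot_iff, Subgroup.subgroupOf_eq_bot] at h3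
  exact (disjoint_of_le_iff_left_eq_bot hNK).mp h3


/-! ### Coatoms, `Y`-minimal groups, `p`-group quotients -/


theorem exists_isCoatom_ge {G : Type*} [Group G] [Finite G] {X : Subgroup G} (hX : X ≠ ⊤) :
    ∃ M : Subgroup G, IsCoatom M ∧ X ≤ M :=
  (eq_top_or_exists_le_coatom X).resolve_left hX

theorem isCoatom_comap_mk'_iff {G : Type*} [Group G] (N : Subgroup G) [N.Normal]
    (X : Subgroup (G ⧸ N)) : IsCoatom (X.comap (QuotientGroup.mk' N)) ↔ IsCoatom X := by
  let e : Subgroup (G ⧸ N) ≃o Set.Ici N := QuotientGroup.comapMk'OrderIso N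
  rw [← e.isCoatom_iff X]
  constructor
  · intro h
    exact h.Ici (QuotientGroup.le_comap_mk' N X)
  · intro h
    exact IsCoatom.of_isCoatom_coe_Ici (x := N) h

theorem isCoatom_map_mk'_iff {G : Type*} [Group G] (N : Subgroup G) [N.Normal]
    {M : Subgroup G} (hNM : N ≤ M) : IsCoatom (M.map (QuotientGroup.mk' N)) ↔ IsCoatom M := by
  rw [← isCoatom_comap_mk'_iff N, QuotientGroup.comap_map_mk', sup_eq_right.mpr hNM]

/-- In a `Y`-minimal finite group every proper subgroup containing `Y` lies in the unique maximal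
subgroup containing `Y`. -/
theorem le_coatom_of_isMinimalOver {H : Type*} [Group H] [Finite H] {Y : Subgroup H}
    (hmin : Cfsg.IsMinimalOver Y) {M : Subgroup H} (hM : IsCoatom M) (hYM : Y ≤ M)
    {X : Subgroup H} (hYX : Y ≤ X) (hX : X ≠ ⊤) : X ≤ M := by
  obtain ⟨M', hM', hXM'⟩ := exists_isCoatom_ge hX
  have := hmin.2.unique ⟨hM', hYX.trans hXM'⟩ ⟨hM, hYM⟩
  exact this ▸ hXM'

theorem isMinimalOver_map_equiv {H : Type*} [Group H] {Y : Subgroup H}
    (hmin : Cfsg.IsMinimalOver Y) (φ : H ≃* H) : Cfsg.IsMinimalOver (Y.map φ.toMonoidHom) := by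
  obtain ⟨h1, M, ⟨hM, hYM⟩, huniq⟩ := hmin
  refine ⟨?_, M.map φ.toMonoidHom, ⟨?_, Subgroup.map_mono hYM⟩, ?_⟩
  · have := Subgroup.map_normalClosure (Y : Set H) φ.toMonoidHom φ.surjective
    rw [Subgroup.coe_map, ← this, h1]
    exact Subgroup.map_top_of_surjective _ φ.surjective
  · exact (φ.mapSubgroup.isCoatom_iff M).mpr hM
  · rintro M' ⟨hM', hYM'⟩
    have h2 : IsCoatom (M'.comap φ.toMonoidHom) := by
      have : M'.comap φ.toMonoidHom = φ.mapSubgroup.symm M' := by
        ext x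
        simp only [Subgroup.mem_comap, MulEquiv.coe_toMonoidHom]
        constructor
        · intro hx
          exact (Subgroup.mem_map).mpr ⟨φ x, hx, by simp⟩
        · intro hx
          obtain ⟨y, hy, hyx⟩ := Subgroup.mem_map.mp hx
          have : φ x = y := by rw [← hyx]; simp
          rw [this]; exact hy
      rw [this]
      exact (φ.mapSubgroup.symm.isCoatom_iff M').mpr hM'
    have h3 := huniq _ ⟨h2, Subgroup.map_le_iff_le_comap.mp hYM'⟩
    rw [← h3, Subgroup.map_comap_eq_self_of_surjective φ.surjective]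

theorem isPGroup_quotient_of_sup_eq_top {H : Type*} [Group H] {p : ℕ} {N T : Subgroup H}
    [N.Normal] (hT : IsPGroup p T) (h : N ⊔ T = ⊤) : IsPGroup p (H ⧸ N) := by
  have h1 : T.map (QuotientGroup.mk' N) = ⊤ := by
    have : (N ⊔ T).map (QuotientGroup.mk' N) = T.map (QuotientGroup.mk' N) := by
      rw [Subgroup.map_sup, QuotientGroup.map_mk'_self, bot_sup_eq]
    rw [← this, h]
    exact Subgroup.map_top_of_surjective _ (QuotientGroup.mk'_surjective N)
  have h2 : IsPGroup p (T.map (QuotientGroup.mk' N)) := hT.map _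
  rw [h1] at h2
  exact h2.of_equiv Subgroup.topEquiv

theorem pResidual_le_of_isPGroup_quotient {H : Type*} [Group H] {p : ℕ} [Fact p.Prime]
    {N : Subgroup H} [N.Normal] (h : IsPGroup p (H ⧸ N)) : Cfsg.pResidual p H ≤ N := by
  unfold Cfsg.pResidual
  rw [Subgroup.closure_le]
  intro g hg
  have hg' : (orderOf g).Coprime p := hg
  have h1 : orderOf (QuotientGroup.mk' N g) ∣ orderOf g := orderOf_map_dvd _ g
  have h2 : (orderOf (QuotientGroup.mk' N g)).Coprime p := Nat.Coprime.coprime_dvd_left h1 hg'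
  have h3 : QuotientGroup.mk' N g = 1 := by
    have hq : QuotientGroup.mk' N g ∈ (⊤ : Subgroup (H ⧸ N)) := Subgroup.mem_top _
    exact eq_one_of_coprime_of_mem (h.of_equiv Subgroup.topEquiv.symm) hq h2
  exact (QuotientGroup.eq_one_iff g).mp h3


/-! ### Frattini subgroup and elementary abelian quotients; `omegaOne` -/


/-- If `G / K` is an elementary abelian `p`-group then `Φ(G) ≤ K`. -/
theorem frattini_le_of_commutator_le_of_pow_mem {G : Type*} [Group G] [Finite G] {p : ℕ}
    [Fact p.Prime] (K : Subgroup G) (hK : commutator G ≤ K) (hp : ∀ g : G, g ^ p ∈ K) :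
    frattini G ≤ K := by
  intro x hx
  by_contra hxK
  let s : Set (Subgroup G) := {M | K ≤ M ∧ x ∉ M}
  obtain ⟨M, hM⟩ := (Set.toFinite s).exists_maximal ⟨K, le_rfl, hxK⟩
  have hKM : K ≤ M := hM.prop.1
  have hxM : x ∉ M := hM.prop.2
  have hMn : M.Normal := Subgroup.Normal.of_commutator_le _ (hK.trans hKM)
  have hcoatom : IsCoatom M := by
    refine ⟨fun h => hxM (h ▸ Subgroup.mem_top x), fun M' hMM' => ?_⟩
    have hxM' : x ∈ M' := by
      by_contra h
      exact hMM'.not_ge (hM.le_of_ge ⟨hKM.trans hMM'.le, h⟩ hMM'.le)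
    rw [eq_top_iff]
    intro y _
    by_cases hyM : y ∈ M
    · exact hMM'.le hyM
    · have h1 : x ∈ M ⊔ Subgroup.zpowers y := by
        by_contra h
        have h2 : M ⊔ Subgroup.zpowers y ≤ M :=
          hM.le_of_ge ⟨hKM.trans le_sup_left, h⟩ le_sup_left
        exact hyM (h2 (Subgroup.mem_sup_right (Subgroup.mem_zpowers y)))
      have h3 : x ∈ (M : Set G) * (Subgroup.zpowers y : Set G) := by
        rw [← Subgroup.normal_mul]; exact h1
      obtain ⟨m, hm, z, hz, hmz⟩ := Set.mem_mul.mp h3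
      obtain ⟨k, rfl⟩ := Subgroup.mem_zpowers_iff.mp hz
      have hpk : ¬ ((p : ℤ) ∣ k) := by
        rintro ⟨j, rfl⟩
        apply hxM
        rw [← hmz]
        refine M.mul_mem hm (hKM ?_)
        rw [zpow_mul, zpow_natCast]
        exact K.zpow_mem (hp y) j
      have hcop : IsCoprime (p : ℤ) k :=
        (Nat.prime_iff_prime_int.mp (Fact.out : p.Prime)).irreducible.coprime_iff_not_dvd.mpr hpk
      obtain ⟨a, b, hab⟩ := hcop
      have hyk : y ^ k ∈ M' := by
        have : y ^ k = m⁻¹ * x := by rw [← hmz]; group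
        rw [this]
        exact M'.mul_mem (M'.inv_mem (hMM'.le hm)) hxM'
      have hyp : y ^ (p : ℤ) ∈ M' := by
        rw [zpow_natCast]; exact hMM'.le (hKM (hp y))
      have : y = (y ^ (p : ℤ)) ^ a * (y ^ k) ^ b := by
        rw [← zpow_mul, ← zpow_mul, ← zpow_add, mul_comm (p : ℤ) a, mul_comm k b, hab, zpow_one]
      rw [this]
      exact M'.mul_mem (M'.zpow_mem hyp a) (M'.zpow_mem hyk b)
  exact hxM (frattini_le_coatom hcoatom hx)

theorem omegaOne_le {G : Type*} [Group G] (p : ℕ) (A : Subgroup G) : Cfsg.omegaOne p A ≤ A := by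
  unfold Cfsg.omegaOne
  rw [Subgroup.closure_le]
  intro x hx
  exact hx.1

theorem pow_eq_one_of_mem_omegaOne {G : Type*} [Group G] {p : ℕ} {A : Subgroup G}
    (hA : ∀ a ∈ A, ∀ b ∈ A, Commute a b) {z : G} (hz : z ∈ Cfsg.omegaOne p A) : z ^ p = 1 := by
  unfold Cfsg.omegaOne at hz
  induction hz using Subgroup.closure_induction with
  | mem x hx => exact hx.2
  | one => simp
  | mul x y hx hy ihx ihy =>
    have hxA : x ∈ A := omegaOne_le p A hx
    have hyA : y ∈ A := omegaOne_le p A hy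
    rw [(hA x hxA y hyA).mul_pow, ihx, ihy, one_mul]
  | inv x _ ihx => rw [inv_pow, ihx, inv_one]


end Cfsg.Agent.Lib.Helper47_PLocal
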