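/-
Lead: finite solvable groups are `p`-solvable (in the sense of `Cfsg.IsPSolvable`), plus the
extension lemma it rests on.
-/
import Mathlib
import Cfsg.Prelude.Def_Local

set_option autoImplicit false

namespace Cfsg.Agent.Lib.Lead_PSolvable

open Cfsg
open scoped commutatorElement

section Extension

variable {G : Type*} [Group G]

/-- If `N` is a normal subgroup of `G` whose order is a power of `p` or prime to `p`, and `G ⧸ N`
is `p`-solvable, then so is `G`. -/
theorem isPSolvable_of_quotient {p : ℕ} (N : Subgroup G) [hN : N.Normal]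
    (hcard : (∃ m : ℕ, Nat.card N = p ^ m) ∨ (Nat.card N).Coprime p)
    (hq : Cfsg.IsPSolvable p (G ⧸ N)) : Cfsg.IsPSolvable p G := by
  obtain ⟨n, Hs, h0, hlast, hmono, hnorm, hstep⟩ := hq
  have hπ : Function.Surjective (QuotientGroup.mk' N) := QuotientGroup.mk'_surjective N
  let K : Fin (n + 2) → Subgroup G := Fin.cons ⊥ (fun i => (Hs i).comap (QuotientGroup.mk' N))
  have hK0 : K 0 = ⊥ := rfl
  have hKs : ∀ i : Fin (n + 1), K i.succ = (Hs i).comap (QuotientGroup.mk' N) := fun i => rfl
  refine ⟨n + 1, K, hK0, ?_, ?_, ?_, ?_⟩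
  · have : Fin.last (n + 1) = (Fin.last n).succ := (Fin.succ_last n).symm
    rw [this, hKs, hlast, Subgroup.comap_top]
  · rw [Fin.monotone_iff_le_succ]
    intro i
    refine Fin.cases ?_ (fun j => ?_) i
    · rw [Fin.castSucc_zero, hK0]
      exact bot_le
    · rw [← Fin.succ_castSucc, hKs, hKs]
      exact Subgroup.comap_mono (hmono (Fin.castSucc_le_succ j))
  · intro i
    refine Fin.cases ?_ (fun j => ?_) i
    · rw [hK0]; exact Subgroup.normal_bot
    · rw [hKs]; exact (hnorm j).comap _
  · intro i
    refine Fin.cases ?_ (fun j => ?_) i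
    · have hker : (⊥ : Subgroup (G ⧸ N)).comap (QuotientGroup.mk' N) = N := by
        rw [MonoidHom.comap_bot, QuotientGroup.ker_mk']
      have hrel : (K (Fin.castSucc 0)).relIndex (K (Fin.succ 0)) = Nat.card N := by
        rw [Fin.castSucc_zero, hK0, hKs, h0, Subgroup.relIndex_bot_left, hker]
      rw [hrel]
      exact hcard
    · have hrel : (K j.succ.castSucc).relIndex (K j.succ.succ) =
          (Hs j.castSucc).relIndex (Hs j.succ) := by
        rw [← Fin.succ_castSucc, hKs, hKs, Subgroup.relIndex_comap,
          Subgroup.map_comap_eq_self_of_surjective hπ]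
      rw [hrel]
      exact hstep j

/-- The trivial group is `p`-solvable. -/
theorem isPSolvable_of_subsingleton {p : ℕ} [Subsingleton G] : Cfsg.IsPSolvable p G := by
  refine ⟨0, fun _ => ⊥, rfl, ?_, ?_, ?_, ?_⟩
  · exact (Subsingleton.elim _ _)
  · intro a b _; exact le_rfl
  · intro i; exact Subgroup.normal_bot
  · intro i; exact i.elim0

end Extension

section Solvable

/-- A nontrivial finite solvable group has a nontrivial normal subgroup whose order is a power
of `p` or prime to `p`. -/
theorem exists_normal_pgroup_or_coprime {G : Type*} [Group G] [Finite G] [Nontrivial G]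
    [hs : Group.IsSolvable G] (p : ℕ) [hp : Fact p.Prime] :
    ∃ N : Subgroup G, N.Normal ∧ N ≠ ⊥ ∧
      ((∃ m : ℕ, Nat.card N = p ^ m) ∨ (Nat.card N).Coprime p) := by
  classical
  obtain ⟨n, hn⟩ := hs.solvable
  -- least index where the derived series vanishes
  have hex : ∃ k, derivedSeries G k = ⊥ := ⟨n, hn⟩
  set k := Nat.find hex with hk
  have hkbot : derivedSeries G k = ⊥ := Nat.find_spec hex
  have hk0 : k ≠ 0 := by
    intro h0
    rw [h0, derivedSeries_zero] at hkbot
    exact top_ne_bot hkbot
  obtain ⟨j, hj⟩ := Nat.exists_eq_succ_of_ne_zero hk0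
  set A := derivedSeries G j with hA
  have hAne : A ≠ ⊥ := by
    intro h
    have : k ≤ j := Nat.find_min' hex h
    omega
  have hAn : A.Normal := by rw [hA]; infer_instance
  have hAcomm : ∀ x ∈ A, ∀ y ∈ A, x * y = y * x := by
    intro x hx y hy
    have h1 : ⁅x, y⁆ ∈ derivedSeries G (j + 1) := by
      rw [derivedSeries_succ]
      exact Subgroup.commutator_mem_commutator hx hy
    rw [← Nat.succ_eq_add_one, ← hj, hkbot, Subgroup.mem_bot, commutatorElement_def] at h1
    calc x * y = (x * y * x⁻¹ * y⁻¹) * (y * x) := by group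
      _ = y * x := by rw [h1, one_mul]
  by_cases hdvd : p ∣ Nat.card A
  · -- the `p`-primary part of `A`
    set m := Nat.card A with hm
    let N : Subgroup G :=
      { carrier := {x | x ∈ A ∧ ∃ i : ℕ, x ^ p ^ i = 1}
        one_mem' := ⟨one_mem _, 0, by simp⟩
        mul_mem' := by
          rintro x y ⟨hx, i, hi⟩ ⟨hy, l, hl⟩
          refine ⟨mul_mem hx hy, i + l, ?_⟩
          have hc : Commute x y := hAcomm x hx y hy
          rw [hc.mul_pow]
          have h1 : x ^ p ^ (i + l) = 1 := by
            rw [pow_add, pow_mul, hi, one_pow]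
          have h2 : y ^ p ^ (i + l) = 1 := by
            rw [pow_add, mul_comm, pow_mul, hl, one_pow]
          rw [h1, h2, one_mul]
        inv_mem' := by
          rintro x ⟨hx, i, hi⟩
          exact ⟨inv_mem hx, i, by rw [inv_pow, hi, inv_one]⟩ }
    have hNmem : ∀ x, x ∈ N ↔ x ∈ A ∧ ∃ i : ℕ, x ^ p ^ i = 1 := fun x => Iff.rfl
    have hNn : N.Normal := by
      constructor
      intro x hx g
      rw [hNmem] at hx ⊢
      obtain ⟨hxA, i, hi⟩ := hx
      refine ⟨hAn.conj_mem x hxA g, i, ?_⟩
      rw [conj_pow, hi, mul_one, mul_inv_cancel]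
    refine ⟨N, hNn, ?_, Or.inl ?_⟩
    · -- Cauchy
      have : Fintype A := Fintype.ofFinite A
      have hdvd' : p ∣ Fintype.card A := by rwa [← Nat.card_eq_fintype_card]
      obtain ⟨x, hx⟩ := exists_prime_orderOf_dvd_card p hdvd'
      intro hbot
      have hxN : (x : G) ∈ N := by
        rw [hNmem]
        refine ⟨x.2, 1, ?_⟩
        rw [pow_one]
        have := pow_orderOf_eq_one x
        rw [hx] at this
        have h2 := congrArg Subtype.val this
        simpa using h2
      rw [hbot, Subgroup.mem_bot] at hxN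
      have hx1 : x = 1 := Subtype.ext hxN
      rw [hx1, orderOf_one] at hx
      exact hp.out.one_lt.ne' hx.symm
    · have hNp : IsPGroup p N := by
        rintro ⟨x, hx⟩
        obtain ⟨-, i, hi⟩ := (hNmem x).1 hx
        exact ⟨i, Subtype.ext (by simpa using hi)⟩
      exact IsPGroup.iff_card.mp hNp
  · refine ⟨A, hAn, hAne, Or.inr ?_⟩
    exact (Nat.Prime.coprime_iff_not_dvd hp.out).2 hdvd |>.symm

/-- Finite solvable groups are `p`-solvable. -/
theorem isPSolvable_of_isSolvable_aux (p : ℕ) [hp : Fact p.Prime] :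
    ∀ (n : ℕ) (G : Type*) [Group G] [Finite G], Nat.card G = n → Group.IsSolvable G →
      Cfsg.IsPSolvable p G := by
  intro n
  induction n using Nat.strong_induction_on with
  | _ n ih =>
    intro G _ _ hcard hs
    rcases subsingleton_or_nontrivial G with hsub | hnt
    · exact isPSolvable_of_subsingleton
    · obtain ⟨N, hNn, hNne, hNc⟩ := exists_normal_pgroup_or_coprime (G := G) p
      have hlt : Nat.card (G ⧸ N) < n := by
        rw [← hcard, ← Subgroup.index_eq_card, ← Subgroup.index_mul_card N]
        have h1 : 1 < Nat.card N := by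
          rw [Subgroup.one_lt_card_iff_ne_bot]
          exact hNne
        have h2 : 0 < N.index := Nat.pos_of_ne_zero Subgroup.index_ne_zero_of_finite
        nlinarith
      have hq : Cfsg.IsPSolvable p (G ⧸ N) :=
        ih _ hlt (G ⧸ N) rfl inferInstance
      exact isPSolvable_of_quotient N hNc hq

/-- Finite solvable groups are `p`-solvable. -/
theorem isPSolvable_of_isSolvable {G : Type*} [Group G] [Finite G] [hs : Group.IsSolvable G]
    (p : ℕ) [Fact p.Prime] : Cfsg.IsPSolvable p G :=
  isPSolvable_of_isSolvable_aux p _ G rfl hs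

end Solvable

end Cfsg.Agent.Lib.Lead_PSolvable
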