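import Cfsg.Agent.Lib.Helper72_JAFunctor
import Cfsg.Agent.Lib.Helper10_FFTransport
import Cfsg.Agent.Lib.Helper10_OffTv
import Cfsg.Agent.Lib.Helper1_Cores
import Cfsg.Agent.Lib.Helper24_Coprime
import Cfsg.Agent.Lib.Lead_PSolvable
import Cfsg.Agent.S0552
import Cfsg.Agent.S0608
import Cfsg.Agent.S0622
import Cfsg.Agent.Lib.Helper47_PLocal
import Mathlib

set_option autoImplicit false
set_option linter.unusedSectionVars false
set_option linter.unusedVariables false

/-!
# Thompson factorization in solvable groups with `F(X) = O_2(X)` (helper10)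

Group-side lemmas for S4302: `N(R) ≤ N(J_A(T))` for `J_A(T) ≤ R ≤ T`, the normal closure `V` of
`Z(T)`, its `Ω₁`, the faithful action of `X / C_X(V)`, and the offender inequality for abelian
subgroups of largest order.
-/

universe u

namespace Cfsg.Agent.Lib.Helper10_JASolv

open Cfsg
open Cfsg.Agent.Lib.Helper34_NPC Cfsg.Agent.Lib.Helper72_AbelianJ
open Cfsg.Agent.Lib.Helper51_Offender
open scoped commutatorElement

/-- `N(R) ≤ N(J_A(T))` whenever `J_A(T) ≤ R ≤ T`, `R` a `p`-group -/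
theorem normalizer_le_normalizer_JA {Γ : Type u} [Group Γ] [Finite Γ] {p : ℕ} [Fact p.Prime]
    (T R : Subgroup Γ) (hRp : IsPGroup p R) (hRT : R ≤ T)
    (hle : Cfsg.thompsonSubgroupAOf T ≤ R) :
    Subgroup.normalizer (R : Set Γ) ≤
      Subgroup.normalizer ((Cfsg.thompsonSubgroupAOf T : Subgroup Γ) : Set Γ) := by
  set U : Subgroup T := R.subgroupOf T with hU
  have hUJ : Cfsg.thompsonSubgroupA T ≤ U := by
    intro y hy
    rw [hU, Subgroup.mem_subgroupOf]
    exact hle ⟨y, hy, rfl⟩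
  have h1 := thompsonSubgroupAOf_eq_of_le (G := T) U hUJ
  have hUp : IsPGroup p U := hRp.comap_subtype
  have h2 := inducedFunctor_map (isCharPFunctor_JA (p := p)) T.subtype U hUp
    (fun x _ hx => by simpa using hx)
  have h3 : U.map T.subtype = R := by
    rw [hU, Subgroup.subgroupOf_map_subtype, inf_eq_left.mpr hRT]
  rw [h3, inducedFunctor_JA, inducedFunctor_JA, h1] at h2
  have h4 : Cfsg.thompsonSubgroupAOf T = Cfsg.inducedFunctor JA R := by
    rw [inducedFunctor_JA, h2]; rfl
  have h5 := normalizer_le_normalizer_inducedFunctor (isCharPFunctor_JA (p := p)) R hRp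
  rw [← h4] at h5
  exact h5

/-- Frattini argument for `J_A(T)` -/
theorem frattini_JA {X : Type u} [Group X] [Finite X] {p : ℕ} [Fact p.Prime] (T : Sylow p X)
    (N : Subgroup X) [N.Normal] (hJN : Cfsg.thompsonSubgroupAOf (T : Subgroup X) ≤ N) :
    N ⊔ Subgroup.normalizer ((Cfsg.thompsonSubgroupAOf (T : Subgroup X) : Subgroup X) : Set X)
      = ⊤ := by
  rw [eq_top_iff]
  intro g _
  obtain ⟨c, hc, n, hn, rfl⟩ := Cfsg.Agent.S0608.frattini_inf T N g
  have hR := normalizer_le_normalizer_JA (T : Subgroup X) ((T : Subgroup X) ⊓ N)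
    (T.isPGroup'.to_le inf_le_left) inf_le_left
    (le_inf (Subgroup.map_subtype_le _) hJN)
  exact Subgroup.mul_mem _ ((le_sup_left : N ≤ _) hc) ((le_sup_right : _ ≤ N ⊔ _) (hR hn))

section VSetup

variable {X : Type u} [Group X] [Finite X]

/-- the normal core of the centralizer is the centralizer of the normal closure -/
theorem normalCore_centralizer (Z : Subgroup X) :
    (Subgroup.centralizer (Z : Set X)).normalCore =
      Subgroup.centralizer ((Subgroup.normalClosure (Z : Set X) : Subgroup X) : Set X) := by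
  ext c
  constructor
  · intro hc
    have hc' : ∀ b : X, b * c * b⁻¹ ∈ Subgroup.centralizer (Z : Set X) := hc
    have h1 : Subgroup.normalClosure (Z : Set X) ≤ Subgroup.centralizer ({c} : Set X) := by
      unfold Subgroup.normalClosure
      rw [Subgroup.closure_le]
      intro y hy
      obtain ⟨z, hz, hzy⟩ := Group.mem_conjugatesOfSet_iff.mp hy
      obtain ⟨g, rfl⟩ := isConj_iff.mp hzy
      have h2 := Subgroup.mem_centralizer_iff.mp (hc' g⁻¹) z hz
      show _ ∈ Subgroup.centralizer ({c} : Set X)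
      rw [Subgroup.mem_centralizer_singleton_iff]
      calc g * z * g⁻¹ * c = g * (z * (g⁻¹ * c * g⁻¹⁻¹)) * g⁻¹ := by group
        _ = g * ((g⁻¹ * c * g⁻¹⁻¹) * z) * g⁻¹ := by rw [h2]
        _ = c * (g * z * g⁻¹) := by group
    rw [Subgroup.mem_centralizer_iff]
    intro y hy
    exact Subgroup.mem_centralizer_singleton_iff.mp (h1 hy)
  · intro hc b
    show b * c * b⁻¹ ∈ Subgroup.centralizer (Z : Set X)
    rw [Subgroup.mem_centralizer_iff]
    intro z hz
    have hzV : b⁻¹ * z * b ∈ Subgroup.normalClosure (Z : Set X) := by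
      have := (Subgroup.normalClosure_normal (s := (Z : Set X))).conj_mem z
        (Subgroup.subset_normalClosure hz) b⁻¹
      simpa using this
    have h2 := Subgroup.mem_centralizer_iff.mp hc _ hzV
    calc z * (b * c * b⁻¹) = b * ((b⁻¹ * z * b) * c) * b⁻¹ := by group
      _ = b * (c * (b⁻¹ * z * b)) * b⁻¹ := by rw [h2]
      _ = b * c * b⁻¹ * z := by group

/-- an odd-order element centralizing the involutions of an abelian `2`-group centralizes it -/
theorem centralizes_of_centralizes_omega (V : Subgroup X)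
    (hVc : ∀ x ∈ V, ∀ y ∈ V, x * y = y * x) (hV2 : IsPGroup 2 V) (a : X)
    (haV : ∀ x ∈ V, a * x * a⁻¹ ∈ V) (hodd : (orderOf a).Coprime 2)
    (hΩ : ∀ x ∈ V, x ^ 2 = 1 → a * x = x * a) : ∀ x ∈ V, a * x = x * a := by
  have key : ∀ k : ℕ, ∀ x ∈ V, x ^ 2 ^ k = 1 → a * x = x * a := by
    intro k
    induction k with
    | zero =>
      intro x _ hx
      rw [pow_zero, pow_one] at hx
      rw [hx, mul_one, one_mul]
    | succ k ih =>
      intro x hx hxk
      have hx2 : (x ^ 2) ^ 2 ^ k = 1 := by rw [← pow_mul, ← pow_succ']; exact hxk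
      have h1 : a * x ^ 2 = x ^ 2 * a := ih (x ^ 2) (V.pow_mem hx 2) hx2
      have hax : a * x * a⁻¹ ∈ V := haV x hx
      have hzV : a * x * a⁻¹ * x⁻¹ ∈ V := V.mul_mem hax (V.inv_mem hx)
      have hz2 : (a * x * a⁻¹ * x⁻¹) ^ 2 = 1 := by
        have hc : Commute (a * x * a⁻¹) x⁻¹ := hVc _ hax _ (V.inv_mem hx)
        rw [hc.mul_pow, conj_pow, h1]
        group
      have hz : a * (a * x * a⁻¹ * x⁻¹) = (a * x * a⁻¹ * x⁻¹) * a := hΩ _ hzV hz2
      exact Cfsg.Agent.Lib.Helper24_Coprime.commute_of_coprime_commutator a x hz 2 hz2 hodd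
  intro x hx
  obtain ⟨k, hk⟩ := hV2 ⟨x, hx⟩
  exact key k x hx (by simpa using congrArg Subtype.val hk)

open scoped Pointwise in
/-- a normal subgroup acting as a `2`-group modulo `C = core C_X(Z(T))` lies in `C` -/
theorem le_normalCore_of_pow_mem (T : Sylow 2 X) (D : Subgroup X) [hDn : D.Normal]
    (hD : ∀ d ∈ D, ∃ k : ℕ, d ^ 2 ^ k ∈ (Subgroup.centralizer
      (((T : Subgroup X) ⊓ Subgroup.centralizer ((T : Subgroup X) : Set X) : Subgroup X) :
        Set X)).normalCore) :
    D ≤ (Subgroup.centralizer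
      (((T : Subgroup X) ⊓ Subgroup.centralizer ((T : Subgroup X) : Set X) : Subgroup X) :
        Set X)).normalCore := by
  set Z := (T : Subgroup X) ⊓ Subgroup.centralizer ((T : Subgroup X) : Set X) with hZ
  set C := (Subgroup.centralizer (Z : Set X)).normalCore with hC
  have hCn : C.Normal := Subgroup.normalCore_normal _
  set Q := D ⊔ C with hQ
  have hQn : Q.Normal := inferInstance
  have hCQ : C ≤ Q := le_sup_right
  have hQ2 : ∀ q ∈ Q, ∃ k : ℕ, q ^ 2 ^ k ∈ C := by
    intro q hq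
    have hq' : q ∈ (D : Set X) * (C : Set X) := by
      rw [← Subgroup.mul_normal]; exact hq
    obtain ⟨d, hd, c, hc, rfl⟩ := Set.mem_mul.mp hq'
    obtain ⟨k, hk⟩ := hD d hd
    refine ⟨k, ?_⟩
    have h1 : (QuotientGroup.mk' C) ((d * c) ^ 2 ^ k) = 1 := by
      rw [map_pow, map_mul, QuotientGroup.mk'_apply, QuotientGroup.mk'_apply,
        (QuotientGroup.eq_one_iff c).mpr hc, mul_one, ← QuotientGroup.mk_pow,
        QuotientGroup.eq_one_iff]
      exact hk
    exact (QuotientGroup.eq_one_iff _).mp h1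
  have hpg : IsPGroup 2 (↥Q ⧸ C.subgroupOf Q) := by
    intro x
    induction x using QuotientGroup.induction_on with
    | H q =>
      obtain ⟨k, hk⟩ := hQ2 q q.2
      refine ⟨k, ?_⟩
      rw [← QuotientGroup.mk_pow, QuotientGroup.eq_one_iff]
      exact Subgroup.mem_subgroupOf.mpr (by simpa using hk)
  obtain ⟨a, ha⟩ := IsPGroup.iff_card.mp hpg
  have hrelC : C.relIndex Q = 2 ^ a := by
    rw [Subgroup.relIndex, Subgroup.index_eq_card]; exact ha
  set P := (T : Subgroup X) ⊓ Q with hP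
  have hPodd : ¬ 2 ∣ P.relIndex Q := Cfsg.Agent.S0608.not_dvd_relIndex_inf_normal T Q
  set M := P ⊔ C with hM
  have h1 : M.relIndex Q ∣ P.relIndex Q := Subgroup.relIndex_dvd_of_le_left Q le_sup_left
  have h2 : M.relIndex Q ∣ C.relIndex Q := Subgroup.relIndex_dvd_of_le_left Q le_sup_right
  have h3 : M.relIndex Q = 1 := by
    rw [hrelC] at h2
    obtain ⟨b, -, hb⟩ := (Nat.dvd_prime_pow Nat.prime_two).mp h2
    rcases Nat.eq_zero_or_pos b with h0 | hpos
    · rw [hb, h0, pow_zero]
    · exfalso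
      apply hPodd
      refine dvd_trans ?_ h1
      rw [hb]
      exact dvd_pow_self 2 hpos.ne'
  have hQM : Q ≤ M := Subgroup.relIndex_eq_one.mp h3
  have hcent : ∀ d ∈ D, d ∈ Subgroup.centralizer (Z : Set X) := by
    intro d hd
    have hdM : d ∈ (P : Set X) * (C : Set X) := by
      rw [← Subgroup.mul_normal]; exact hQM ((le_sup_left : D ≤ Q) hd)
    obtain ⟨s, hs, c, hc, rfl⟩ := Set.mem_mul.mp hdM
    have hs' : s ∈ Subgroup.centralizer (Z : Set X) := by
      rw [Subgroup.mem_centralizer_iff]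
      intro z hz
      exact (Subgroup.mem_centralizer_iff.mp hz.2 s hs.1).symm
    exact Subgroup.mul_mem _ hs' (Subgroup.normalCore_le _ hc)
  intro d hd b
  exact hcent _ (hDn.conj_mem d hd b)

section Solv

variable [Group.IsSolvable X] (hF : Cfsg.fittingSubgroup X = Cfsg.pCore 2 X) (T : Sylow 2 X)
include hF

/-- the normal closure of `Z(T)` lies in `Z(O_2(X))` -/
theorem normalClosure_center_le :
    Subgroup.normalClosure ((((T : Subgroup X) ⊓ Subgroup.centralizer ((T : Subgroup X) : Set X) :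
      Subgroup X)) : Set X) ≤
      Cfsg.pCore 2 X ⊓ Subgroup.centralizer ((Cfsg.pCore 2 X : Subgroup X) : Set X) := by
  have hPn : (Cfsg.pCore 2 X).Normal := Cfsg.Agent.Lib.Helper1_Cores.pCore_normal 2
  have hPT : Cfsg.pCore 2 X ≤ (T : Subgroup X) := Cfsg.Agent.Lib.Helper1_Cores.pCore_le_sylow 2 T
  have hCP : Subgroup.centralizer ((Cfsg.pCore 2 X : Subgroup X) : Set X) ≤ Cfsg.pCore 2 X := by
    have := Cfsg.Agent.S0552.centralizer_fitting_le (G := X)
    rwa [hF] at this
  have hCn : (Subgroup.centralizer ((Cfsg.pCore 2 X : Subgroup X) : Set X)).Normal :=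
    Subgroup.normal_centralizer
  have hn : (Cfsg.pCore 2 X ⊓
      Subgroup.centralizer ((Cfsg.pCore 2 X : Subgroup X) : Set X)).Normal := inferInstance
  apply Subgroup.normalClosure_le_normal
  intro z hz
  have hzc : z ∈ Subgroup.centralizer ((Cfsg.pCore 2 X : Subgroup X) : Set X) :=
    Subgroup.centralizer_le (SetLike.coe_subset_coe.mpr hPT) hz.2
  exact Subgroup.mem_inf.mpr ⟨hCP hzc, hzc⟩

end Solv

/-- `Ω₁` of the normal closure of `Z(T)` -/
def V1 (T : Sylow 2 X) : Subgroup X :=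
  Cfsg.omegaOne 2 (Subgroup.normalClosure
    ((((T : Subgroup X) ⊓ Subgroup.centralizer ((T : Subgroup X) : Set X) : Subgroup X)) : Set X))

instance V1_normal (T : Sylow 2 X) : (V1 T).Normal :=
  Cfsg.Agent.S0622.omegaOne_normal 2 _

section Solv2

variable [Group.IsSolvable X] (hF : Cfsg.fittingSubgroup X = Cfsg.pCore 2 X) (T : Sylow 2 X)
include hF

theorem V1_le : V1 T ≤ Cfsg.pCore 2 X ⊓
    Subgroup.centralizer ((Cfsg.pCore 2 X : Subgroup X) : Set X) :=
  (Cfsg.Agent.Lib.Helper47_PLocal.omegaOne_le 2 _).trans (normalClosure_center_le hF T)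

theorem V_comm : ∀ x ∈ Subgroup.normalClosure
    ((((T : Subgroup X) ⊓ Subgroup.centralizer ((T : Subgroup X) : Set X) : Subgroup X)) : Set X),
    ∀ y ∈ Subgroup.normalClosure
    ((((T : Subgroup X) ⊓ Subgroup.centralizer ((T : Subgroup X) : Set X) : Subgroup X)) : Set X),
    x * y = y * x := by
  intro x hx y hy
  have hx' := normalClosure_center_le hF T hx
  have hy' := normalClosure_center_le hF T hy
  exact (Subgroup.mem_centralizer_iff.mp hy'.2 x hx'.1)

theorem V1_elemAb : Cfsg.IsElementaryAbelian 2 (V1 T) := by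
  apply Cfsg.Agent.Lib.Helper10_Thompson.isElementaryAbelian_closure
  · intro x hx y hy
    exact V_comm hF T x hx.1 y hy.1
  · intro x hx
    exact hx.2

theorem centralizer_V1 : Subgroup.centralizer ((V1 T : Subgroup X) : Set X) =
    (Subgroup.centralizer ((((T : Subgroup X) ⊓
      Subgroup.centralizer ((T : Subgroup X) : Set X) : Subgroup X)) : Set X)).normalCore := by
  set Z := (T : Subgroup X) ⊓ Subgroup.centralizer ((T : Subgroup X) : Set X) with hZ
  set V := Subgroup.normalClosure (Z : Set X) with hV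
  have hV1V : V1 T ≤ V := Cfsg.Agent.Lib.Helper47_PLocal.omegaOne_le 2 _
  apply le_antisymm
  · have hDn : (Subgroup.centralizer ((V1 T : Subgroup X) : Set X)).Normal :=
      Subgroup.normal_centralizer
    apply le_normalCore_of_pow_mem T
    intro d hd
    have hn0 : orderOf d ≠ 0 := (orderOf_pos d).ne'
    obtain ⟨k, m, hm, hkm⟩ := Nat.exists_eq_two_pow_mul_odd hn0
    refine ⟨k, ?_⟩
    rw [normalCore_centralizer, ← hV]
    have hodd : (orderOf (d ^ 2 ^ k)).Coprime 2 := by
      have h1 : (d ^ 2 ^ k) ^ m = 1 := by rw [← pow_mul, ← hkm, pow_orderOf_eq_one]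
      exact Nat.Coprime.coprime_dvd_left (orderOf_dvd_of_pow_eq_one h1) hm.coprime_two_right
    have hVn : V.Normal := Subgroup.normalClosure_normal
    have hV2 : IsPGroup 2 V := by
      have h1 : V ≤ (T : Subgroup X) :=
        (normalClosure_center_le hF T).trans (inf_le_left.trans
          (Cfsg.Agent.Lib.Helper1_Cores.pCore_le_sylow 2 T))
      exact T.isPGroup'.to_le h1
    have hdk : d ^ 2 ^ k ∈ Subgroup.centralizer ((V1 T : Subgroup X) : Set X) :=
      Subgroup.pow_mem _ hd _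
    rw [Subgroup.mem_centralizer_iff]
    intro x hx
    refine (centralizes_of_centralizes_omega V (V_comm hF T) hV2 (d ^ 2 ^ k)
      (fun x hx => hVn.conj_mem x hx _) hodd ?_ x hx).symm
    intro y hy hy2
    have hyV1 : y ∈ V1 T := Subgroup.subset_closure ⟨hy, hy2⟩
    exact (Subgroup.mem_centralizer_iff.mp hdk y hyV1).symm
  · rw [normalCore_centralizer]
    exact Subgroup.centralizer_le (SetLike.coe_subset_coe.mpr hV1V)

theorem pCore_quot_V1 :
    Cfsg.pCore 2 (X ⧸ Subgroup.centralizer ((V1 T : Subgroup X) : Set X)) = ⊥ := by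
  set C₁ := Subgroup.centralizer ((V1 T : Subgroup X) : Set X) with hC₁
  set D := (Cfsg.pCore 2 (X ⧸ C₁)).comap (QuotientGroup.mk' C₁) with hD
  have hPn : (Cfsg.pCore 2 (X ⧸ C₁)).Normal := Cfsg.Agent.Lib.Helper1_Cores.pCore_normal 2
  have hDn : D.Normal := hPn.comap _
  have hDle : D ≤ C₁ := by
    rw [hC₁, centralizer_V1 hF T]
    apply le_normalCore_of_pow_mem T
    intro d hd
    obtain ⟨k, hk⟩ := (Cfsg.Agent.Lib.Helper1_Cores.pCore_isPGroup (G := X ⧸ C₁) 2)
      ⟨QuotientGroup.mk' C₁ d, hd⟩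
    refine ⟨k, ?_⟩
    rw [← centralizer_V1 hF T, ← hC₁]
    have h1 : (QuotientGroup.mk' C₁ d) ^ 2 ^ k = 1 := by
      simpa using congrArg Subtype.val hk
    rw [← map_pow, QuotientGroup.mk'_apply, QuotientGroup.eq_one_iff] at h1
    exact h1
  rw [eq_bot_iff]
  intro q hq
  obtain ⟨x, rfl⟩ := QuotientGroup.mk'_surjective C₁ q
  have hx : x ∈ D := hq
  rw [Subgroup.mem_bot, QuotientGroup.mk'_apply, QuotientGroup.eq_one_iff]
  exact hDle hx

/-- the offender inequality for the image of an abelian subgroup of largest order -/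
theorem offender_image {W : Type*} [Group W] (t : Cfsg.Agent.Lib.Helper10_FFTransport.FFT (V1 T) W)
    {A : Subgroup X} (hA : IsMaxAbIn (T : Subgroup X) A) :
    Nat.card ↥t.j.range ≤ Nat.card ↥(A.map t.ι) *
      Nat.card ↥(t.j.range ⊓ Subgroup.centralizer ((A.map t.ι : Subgroup W) : Set W)) := by
  have hV1c : IsMulCommutative (V1 T) := (V1_elemAb hF T).1
  have hV1T : V1 T ≤ (T : Subgroup X) :=
    (V1_le hF T).trans (inf_le_left.trans (Cfsg.Agent.Lib.Helper1_Cores.pCore_le_sylow 2 T))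
  have hbest := best_of_isMaxAbIn hV1c hV1T hA
  set A₀ := A ⊓ Subgroup.centralizer ((V1 T : Subgroup X) : Set X) with hA₀
  have h1 := hbest A₀ inf_le_left
  have hCV : CV (V1 T) A₀ = V1 T := by
    unfold CV
    rw [inf_eq_left]
    apply Subgroup.le_centralizer_iff.mp
    exact inf_le_right
  unfold m at h1
  rw [hCV] at h1
  have e1 := t.card_map A
  have e2 := t.card_fix A
  have e3 := t.card_range
  rw [e3, e2]
  have hpos : 0 < Nat.card A₀ := Nat.card_pos
  refine Nat.le_of_mul_le_mul_left ?_ hpos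
  calc Nat.card A₀ * Nat.card (V1 T) ≤ Nat.card A * Nat.card (CV (V1 T) A) := h1
    _ = Nat.card ↥(A.map t.ι) * Nat.card A₀ * Nat.card (CV (V1 T) A) := by rw [e1]
    _ = Nat.card A₀ * (Nat.card ↥(A.map t.ι) *
          Nat.card ↥(V1 T ⊓ Subgroup.centralizer (A : Set X))) := by
        unfold CV; ring

open Cfsg.Agent.Lib.Helper10_FFTransport Cfsg.Agent.Lib.Helper10_OffTv
  Cfsg.Agent.Lib.Helper62_Structure in
/-- the image of the normal closure `Y` of `J_A(T)` in `X / C` is a product of copies of `S₃` -/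
theorem part2 :
    Subgroup.normalClosure (Cfsg.thompsonSubgroupAOf (T : Subgroup X) : Set X)
        ≤ (Subgroup.centralizer (((T : Subgroup X) ⊓
          Subgroup.centralizer ((T : Subgroup X) : Set X) : Subgroup X) : Set X)).normalCore
      ∨ ∃ n : ℕ, 1 ≤ n ∧
        Nonempty (↥(Subgroup.normalClosure (Cfsg.thompsonSubgroupAOf (T : Subgroup X) : Set X)) ⧸
            ((Subgroup.centralizer (((T : Subgroup X) ⊓
              Subgroup.centralizer ((T : Subgroup X) : Set X) : Subgroup X) : Set X)).normalCore).subgroupOf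
              (Subgroup.normalClosure (Cfsg.thompsonSubgroupAOf (T : Subgroup X) : Set X))
          ≃* (Fin n → Equiv.Perm (Fin 3))) := by
  classical
  set Z := (T : Subgroup X) ⊓ Subgroup.centralizer ((T : Subgroup X) : Set X) with hZ
  set C := (Subgroup.centralizer (Z : Set X)).normalCore with hC
  set J := Cfsg.thompsonSubgroupAOf (T : Subgroup X) with hJ
  set Y := Subgroup.normalClosure (J : Set X) with hY
  have hYn : Y.Normal := Subgroup.normalClosure_normal
  have hC1 : Subgroup.centralizer ((V1 T : Subgroup X) : Set X) = C := centralizer_V1 hF T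
  let t : FFT (V1 T) (Equiv.Perm (V1 T)) := permFFT (V1 T)
  set Γ : Subgroup (Equiv.Perm (V1 T)) := (⊤ : Subgroup X).map t.ι with hΓ
  set S : Subgroup (Equiv.Perm (V1 T)) :=
    ⨆ A : {A : Subgroup (Equiv.Perm (V1 T)) // A ≤ Γ ∧ Cfsg.IsBestOffenderOn 2 t.j.range A},
      (A : Subgroup (Equiv.Perm (V1 T))) with hS
  have hΓV : Γ ≤ Subgroup.normalizer ((t.j.range : Subgroup _) : Set _) := t.le_normalizer ⊤
  have hΓf : Γ ⊓ Subgroup.centralizer ((t.j.range : Subgroup _) : Set _) = ⊥ := t.faithful ⊤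
  have hSΓ : S ≤ Γ := iSup_le fun A => A.2.1
  have hΓS : Γ ≤ Subgroup.normalizer (S : Set _) := le_normalizer_iSup_best hΓV
  have hιΓ : ∀ x : X, t.ι x ∈ Γ := fun x => ⟨x, Subgroup.mem_top x, rfl⟩
  -- preimages of `Γ`-invariant subgroups are normal
  have comap_normal : ∀ K : Subgroup (Equiv.Perm (V1 T)),
      Γ ≤ Subgroup.normalizer (K : Set _) → (K.comap t.ι).Normal := by
    intro K hK
    constructor
    intro n hn x
    show t.ι (x * n * x⁻¹) ∈ K
    rw [map_mul, map_mul, map_inv]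
    exact (Subgroup.mem_normalizer_iff.mp (hK (hιΓ x)) _).mp hn
  set N := S.comap t.ι with hN
  have hNn : N.Normal := comap_normal S hΓS
  have hHS : N.map t.ι = S := by
    apply Subgroup.map_comap_eq_self
    rw [MonoidHom.range_eq_map]
    exact hSΓ
  have hsep : Cfsg.IsPSolvable 2 X := Cfsg.Agent.Lib.Lead_PSolvable.isPSolvable_of_isSolvable 2
  have hO := pCore_quot_V1 hF T
  have sett : Setting 2 t.j.range (N.map t.ι) Γ :=
    { amb := ⟨t.elemAb (V1_elemAb hF T), t.le_normalizer N, t.faithful N, t.hS1 hsep hO N⟩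
      hΓV := hΓV
      hΓf := hΓf
      hH := hHS }
  set Y' := Y.map t.ι with hY'
  have hY'Γ : Y' ≤ Γ := Subgroup.map_mono le_top
  have hY'n : Γ ≤ Subgroup.normalizer (Y' : Set _) := by
    apply le_normalizer_of_map_le
    rintro _ ⟨x, -, rfl⟩ _ ⟨_, ⟨y, hy, rfl⟩, rfl⟩
    refine ⟨x * y * x⁻¹, hYn.conj_mem y hy x, ?_⟩
    simp
  set K := Subgroup.closure {a | a ∈ Y' ∧ IsTv 2 t.j.range (N.map t.ι) a} with hK
  have hΓK : Γ ≤ Subgroup.normalizer (K : Set _) := sett.le_normalizer_closure_tv hY'n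
  have hKn : (K.comap t.ι).Normal := comap_normal K hΓK
  have hJK : J ≤ K.comap t.ι := by
    rw [hJ]
    unfold Cfsg.thompsonSubgroupAOf Cfsg.thompsonSubgroupA
    rw [Subgroup.map_le_iff_le_comap]
    apply sSup_le
    intro A' hA'
    rw [← Subgroup.map_le_iff_le_comap, ← Subgroup.map_le_iff_le_comap]
    set A := A'.map (T : Subgroup X).subtype with hA
    have hAmax : IsMaxAbIn (T : Subgroup X) A := isMaxAbIn_map hA'
    have hAJ : A ≤ J := by
      rw [hJ]
      unfold Cfsg.thompsonSubgroupAOf Cfsg.thompsonSubgroupA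
      exact Subgroup.map_mono (le_sSup hA')
    have hBY' : A.map t.ι ≤ Y' :=
      Subgroup.map_mono (hAJ.trans Subgroup.le_normalClosure)
    have hBc : ∀ x ∈ A.map t.ι, ∀ y ∈ A.map t.ι, x * y = y * x := by
      rintro _ ⟨a, ha, rfl⟩ _ ⟨b, hb, rfl⟩
      have := hAmax.2.1
      rw [← map_mul, ← map_mul, setLike_mul_comm ha hb]
    have hBp : IsPGroup 2 ↥(A.map t.ι) := (T.isPGroup'.to_le hAmax.1).map t.ι
    have hoff := offender_image hF T t hAmax
    have hgen := sett.gen_by_tv (hBY'.trans hY'Γ) hBc hBp hoff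
    refine hgen.trans (Subgroup.closure_mono ?_)
    intro a ha
    exact ⟨hBY' ha.1, ha.2⟩
  have hYK : Y' ≤ K := by
    rw [hY', Subgroup.map_le_iff_le_comap]
    exact Subgroup.normalClosure_le_normal hJK
  -- the quotient isomorphism
  let ψ : ↥Y →* ↥Y' := t.ι.subgroupMap Y
  have hψs : Function.Surjective ψ := t.ι.subgroupMap_surjective Y
  have hψk : C.subgroupOf Y = ψ.ker := by
    ext y
    rw [Subgroup.mem_subgroupOf, MonoidHom.mem_ker, ← hC1, ← t.ker_ι, MonoidHom.mem_ker,
      Subtype.ext_iff]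
    rfl
  by_cases hY1 : Y' = ⊥
  · left
    show Y ≤ C
    rw [← hC1, ← t.ker_ι]
    intro y hy
    rw [MonoidHom.mem_ker]
    have : t.ι y ∈ Y' := ⟨y, hy, rfl⟩
    rw [hY1, Subgroup.mem_bot] at this
    exact this
  · right
    obtain ⟨n, hn, ⟨e⟩⟩ := sett.product hY'Γ hY'n hYK hY1
    exact ⟨n, hn, ⟨((QuotientGroup.quotientMulEquivOfEq hψk).trans
      (QuotientGroup.quotientKerEquivOfSurjective ψ hψs)).trans e⟩⟩

end Solv2

end VSetup

end Cfsg.Agent.Lib.Helper10_JASolv
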