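import Mathlib

/-!
Nilpotent groups (helper32): elements of coprime orders commute.
-/

set_option autoImplicit false

namespace Cfsg.Agent.Lib.Helper32_Nilpotent

/-- In a nilpotent group, two elements killed by coprime exponents commute. -/
theorem commute_of_coprime_pow_eq_one (G : Type*) [Group G] [Group.IsNilpotent G] :
    ∀ a b : G, ∀ r s : ℕ, a ^ r = 1 → b ^ s = 1 → r.Coprime s → Commute a b := by
  apply @Group.nilpotent_center_quotient_ind
    (fun G _ _ => ∀ a b : G, ∀ r s : ℕ, a ^ r = 1 → b ^ s = 1 → r.Coprime s → Commute a b) G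
  · intro G _ _ a b r s _ _ _
    exact Subsingleton.elim _ _
  · intro G _ _ ih a b r s ha hb hrs
    have h1 : Commute (QuotientGroup.mk a : G ⧸ Subgroup.center G) (QuotientGroup.mk b) :=
      ih _ _ r s (by rw [← QuotientGroup.mk_pow, ha]; rfl) (by rw [← QuotientGroup.mk_pow, hb]; rfl) hrs
    -- z = a b a⁻¹ b⁻¹ is central
    set z := a * b * a⁻¹ * b⁻¹ with hz
    have hzc : z ∈ Subgroup.center G := by
      rw [← QuotientGroup.eq_one_iff, hz]
      simp only [QuotientGroup.mk_mul, QuotientGroup.mk_inv]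
      rw [h1.eq]; group
    have hzcomm : ∀ g : G, g * z = z * g := Subgroup.mem_center_iff.mp hzc
    have hab : a * b * a⁻¹ = z * b := by rw [hz]; group
    have hba : b * a * b⁻¹ = z⁻¹ * a := by rw [hz]; group
    -- z ^ s = 1
    have hzs : z ^ s = 1 := by
      have h2 : (z * b) ^ s = z ^ s * b ^ s := (show Commute z b from (hzcomm b).symm).mul_pow s
      have h3 : (a * b * a⁻¹) ^ s = 1 := by rw [conj_pow, hb]; group
      rw [hab, h2, hb, mul_one] at h3
      exact h3
    have hzr : z ^ r = 1 := by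
      have hzi : ∀ g : G, g * z⁻¹ = z⁻¹ * g := fun g => by
        have := hzcomm g
        calc g * z⁻¹ = z⁻¹ * (z * g) * z⁻¹ := by group
          _ = z⁻¹ * (g * z) * z⁻¹ := by rw [this]
          _ = z⁻¹ * g := by group
      have h2 : (z⁻¹ * a) ^ r = (z⁻¹) ^ r * a ^ r := (show Commute z⁻¹ a from (hzi a).symm).mul_pow r
      have h3 : (b * a * b⁻¹) ^ r = 1 := by rw [conj_pow, ha]; group
      rw [hba, h2, ha, mul_one, inv_pow, inv_eq_one] at h3
      exact h3
    have hz1 : z = 1 := by
      have h4 : orderOf z ∣ r := orderOf_dvd_of_pow_eq_one hzr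
      have h5 : orderOf z ∣ s := orderOf_dvd_of_pow_eq_one hzs
      exact orderOf_eq_one_iff.mp (Nat.eq_one_of_dvd_coprimes hrs h4 h5)
    show a * b = b * a
    calc a * b = (a * b * a⁻¹ * b⁻¹) * b * a := by group
      _ = b * a := by rw [← hz, hz1, one_mul]

end Cfsg.Agent.Lib.Helper32_Nilpotent
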