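import Mathlib

/-!
Frattini subgroup facts for finite groups and finite `p`-groups (helper1).
-/

set_option autoImplicit false

namespace Cfsg.Agent.Lib.Helper1_Frattini

open Subgroup
open scoped commutatorElement

variable {G : Type*} [Group G]

/-- The image of a maximal subgroup containing the kernel under a surjective homomorphism is
maximal. -/
theorem isCoatom_map_of_surjective {H : Type*} [Group H] {φ : G →* H}
    (hφ : Function.Surjective φ) {M : Subgroup G} (hM : IsCoatom M) (hker : φ.ker ≤ M) :
    IsCoatom (M.map φ) := by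
  have hcm : (M.map φ).comap φ = M := comap_map_eq_self hker
  constructor
  · intro h
    apply hM.1
    rw [← hcm, h, comap_top]
  · intro K hK
    have h1 : M < K.comap φ := by
      rw [← hcm]
      exact (comap_lt_comap_of_surjective hφ).mpr hK
    have h2 := hM.2 _ h1
    rw [← comap_top φ] at h2
    exact comap_injective hφ h2

/-- Membership in the Frattini subgroup: lying in every maximal subgroup. -/
theorem mem_frattini_iff {x : G} : x ∈ frattini G ↔ ∀ M : Subgroup G, IsCoatom M → x ∈ M := by
  simp only [frattini, Order.radical, mem_iInf]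
  rfl

theorem le_frattini_iff {K : Subgroup G} :
    K ≤ frattini G ↔ ∀ M : Subgroup G, IsCoatom M → K ≤ M := by
  simp only [frattini, Order.radical, le_iInf_iff]
  rfl

/-- If the Frattini quotient of a finite group is nilpotent then the group is nilpotent. -/
theorem isNilpotent_of_frattini_quotient [Finite G]
    (h : Group.IsNilpotent (G ⧸ frattini G)) : Group.IsNilpotent G := by
  refine (Group.isNilpotent_of_finite_tfae (G := G)).out 2 0 |>.mp ?_
  intro M hM
  have hq := (Group.isNilpotent_of_finite_tfae (G := G ⧸ frattini G)).out 0 2 |>.mp h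
  have hsurj : Function.Surjective (QuotientGroup.mk' (frattini G)) := QuotientGroup.mk'_surjective _
  have hker : (QuotientGroup.mk' (frattini G)).ker ≤ M := by
    rw [QuotientGroup.ker_mk']
    exact frattini_le_coatom hM
  have hn := hq _ (isCoatom_map_of_surjective hsurj hM hker)
  have hcm : (M.map (QuotientGroup.mk' (frattini G))).comap (QuotientGroup.mk' (frattini G)) = M :=
    comap_map_eq_self hker
  rw [← hcm]
  exact hn.comap _

/-- A maximal subgroup of a finite `p`-group is normal. -/
theorem normal_of_isCoatom_of_isPGroup [Finite G] {p : ℕ} [Fact p.Prime] (hG : IsPGroup p G)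
    {M : Subgroup G} (hM : IsCoatom M) : M.Normal := by
  have hnil : Group.IsNilpotent G := hG.isNilpotent
  have h := (Group.isNilpotent_of_finite_tfae (G := G)).out 0 2 |>.mp hnil
  exact h M hM

/-- A maximal subgroup of a finite `p`-group has index `p`. -/
theorem index_of_isCoatom_of_isPGroup [Finite G] {p : ℕ} [hp : Fact p.Prime] (hG : IsPGroup p G)
    {M : Subgroup G} (hM : IsCoatom M) : M.index = p := by
  have hn : M.Normal := normal_of_isCoatom_of_isPGroup hG hM
  -- the quotient is a nontrivial `p`-group
  have hq : IsPGroup p (G ⧸ M) := hG.to_quotient M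
  have hne : M.index ≠ 1 := fun h => hM.1 (index_eq_one.mp h)
  have hdvd : p ∣ Nat.card (G ⧸ M) := by
    obtain ⟨k, hk⟩ := IsPGroup.iff_card.mp hq
    rw [hk]
    rw [index_eq_card, hk] at hne
    cases k with
    | zero => simp at hne
    | succ k => exact dvd_pow_self p (Nat.succ_ne_zero k)
  obtain ⟨x, hx⟩ := exists_prime_orderOf_dvd_card' p hdvd
  -- the preimage of `⟨x⟩` is `⊤`
  have hsurj : Function.Surjective (QuotientGroup.mk' M) := QuotientGroup.mk'_surjective _
  have h1 : M ≤ (zpowers x).comap (QuotientGroup.mk' M) := by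
    intro m hm
    rw [mem_comap]
    have : QuotientGroup.mk' M m = 1 := by
      rw [← MonoidHom.mem_ker, QuotientGroup.ker_mk']; exact hm
    rw [this]; exact one_mem _
  have h2 : (zpowers x).comap (QuotientGroup.mk' M) ≠ M := by
    intro h
    have hx1 : x ∈ zpowers x := mem_zpowers x
    obtain ⟨g, rfl⟩ := hsurj x
    have : g ∈ M := by rw [← h]; exact hx1
    have hg1 : QuotientGroup.mk' M g = 1 := by
      rw [← MonoidHom.mem_ker, QuotientGroup.ker_mk']; exact this
    rw [hg1, orderOf_one] at hx
    exact hp.out.one_lt.ne hx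
  have h3 : (zpowers x).comap (QuotientGroup.mk' M) = ⊤ :=
    hM.2 _ (lt_of_le_of_ne h1 (Ne.symm h2))
  have h4 : zpowers x = ⊤ := by
    rw [← comap_top (QuotientGroup.mk' M)] at h3
    exact comap_injective hsurj h3
  rw [index_eq_card, ← hx, ← Nat.card_zpowers, h4]
  exact (Nat.card_congr (Subgroup.topEquiv (G := G ⧸ M)).toEquiv).symm

/-- In a finite `p`-group, the commutator subgroup lies in the Frattini subgroup. -/
theorem commutator_le_frattini_of_isPGroup [Finite G] {p : ℕ} [Fact p.Prime] (hG : IsPGroup p G) :
    commutator G ≤ frattini G := by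
  rw [le_frattini_iff]
  intro M hM
  have hn : M.Normal := normal_of_isCoatom_of_isPGroup hG hM
  have hidx : M.index = p := index_of_isCoatom_of_isPGroup hG hM
  have hcard : Nat.card (G ⧸ M) = p := by rw [← index_eq_card, hidx]
  have hcyc : IsCyclic (G ⧸ M) := isCyclic_of_prime_card hcard
  have hcomm : ∀ a b : G ⧸ M, a * b = b * a := fun a b => IsCyclic.commGroup.mul_comm a b
  rw [commutator_eq_closure, closure_le]
  rintro _ ⟨a, b, rfl⟩
  rw [SetLike.mem_coe, ← QuotientGroup.eq_one_iff]
  simp only [commutatorElement_def, QuotientGroup.mk_mul, QuotientGroup.mk_inv]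
  rw [hcomm (a : G ⧸ M) b]
  group

/-- In a finite `p`-group, every `p`-th power lies in the Frattini subgroup. -/
theorem pow_mem_frattini_of_isPGroup [Finite G] {p : ℕ} [Fact p.Prime] (hG : IsPGroup p G)
    (x : G) : x ^ p ∈ frattini G := by
  rw [mem_frattini_iff]
  intro M hM
  have hn : M.Normal := normal_of_isCoatom_of_isPGroup hG hM
  have hidx : M.index = p := index_of_isCoatom_of_isPGroup hG hM
  have hcard : Nat.card (G ⧸ M) = p := by rw [← index_eq_card, hidx]
  rw [← QuotientGroup.eq_one_iff, QuotientGroup.mk_pow]
  conv_lhs => rw [← hcard]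
  exact pow_card_eq_one'

/-- A subgroup containing the commutator subgroup is normal. -/
theorem normal_of_commutator_le {M : Subgroup G} (h : commutator G ≤ M) : M.Normal := by
  constructor
  intro m hm g
  have h1 : ⁅g, m⁆ ∈ M := h (commutator_mem_commutator (mem_top g) (mem_top m))
  have h2 : g * m * g⁻¹ = ⁅g, m⁆ * m := by
    rw [commutatorElement_def]; group
  rw [h2]
  exact M.mul_mem h1 hm

/-- In a finite group, the Frattini subgroup lies below every normal subgroup with elementary
abelian quotient. -/
theorem frattini_le_of_elementary_quotient [Finite G] {p : ℕ} [hp : Fact p.Prime]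
    (N : Subgroup G) (hcomm : commutator G ≤ N) (hpow : ∀ x : G, x ^ p ∈ N) :
    frattini G ≤ N := by
  intro g hg
  by_contra hgN
  -- a subgroup `M` maximal with `N ≤ M` and `g ∉ M`
  obtain ⟨M, hNM, hMmax⟩ :=
    Finite.exists_le_maximal (p := fun K : Subgroup G => N ≤ K ∧ g ∉ K) (a := N) ⟨le_rfl, hgN⟩
  have hMN : N ≤ M := hMmax.prop.1
  have hgM : g ∉ M := hMmax.prop.2
  have hMnormal : M.Normal := normal_of_commutator_le (hcomm.trans hMN)
  have hcoatom : IsCoatom M := by
    constructor
    · intro h; apply hgM; rw [h]; exact mem_top g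
    · intro L hML
      have hgL : g ∈ L := by
        by_contra hgL
        exact (not_le_of_gt hML) (hMmax.le_of_ge ⟨hMN.trans hML.le, hgL⟩ hML.le)
      rw [eq_top_iff]
      intro x _
      by_cases hxM : x ∈ M
      · exact hML.le hxM
      · -- `g ∈ M ⊔ ⟨x⟩`
        have hlt : M < M ⊔ zpowers x := by
          refine lt_of_le_of_ne le_sup_left ?_
          intro h
          apply hxM
          rw [h]
          exact mem_sup_right (mem_zpowers x)
        have hg' : g ∈ M ⊔ zpowers x := by
          by_contra hg'
          exact (not_le_of_gt hlt) (hMmax.le_of_ge ⟨hMN.trans hlt.le, hg'⟩ hlt.le)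
        rw [mem_sup_of_normal_left] at hg'
        obtain ⟨m, hm, z, hz, hmz⟩ := hg'
        obtain ⟨i, rfl⟩ := mem_zpowers_iff.mp hz
        have hxiL : x ^ i ∈ L := by
          have : x ^ i = m⁻¹ * g := by rw [← hmz]; group
          rw [this]
          exact L.mul_mem (L.inv_mem (hML.le hm)) hgL
        have hxiM : x ^ i ∉ M := by
          intro h
          apply hgM
          rw [← hmz]
          exact M.mul_mem hm h
        have hxpL : x ^ (p : ℤ) ∈ L := by
          rw [zpow_natCast]
          exact hML.le (hMN (hpow x))
        have hcop : IsCoprime i (p : ℤ) := by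
          rw [isCoprime_comm, Int.isCoprime_iff_gcd_eq_one, ← Int.natAbs_natCast p]
          rw [Int.gcd_eq_natAbs_gcd_natAbs, Int.natAbs_natCast, Int.natAbs_natCast]
          rw [← Nat.coprime_iff_gcd_eq_one, Nat.Prime.coprime_iff_not_dvd hp.out]
          intro hdvd
          apply hxiM
          have hdvd' : (p : ℤ) ∣ i := Int.natCast_dvd.mpr hdvd
          obtain ⟨k, rfl⟩ := hdvd'
          rw [zpow_mul, zpow_natCast]
          exact M.zpow_mem (hMN (hpow x)) k
        obtain ⟨a, b, hab⟩ := hcop
        have : x = (x ^ i) ^ a * (x ^ (p : ℤ)) ^ b := by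
          rw [← zpow_mul, ← zpow_mul, ← zpow_add, mul_comm i a, mul_comm (p : ℤ) b, hab, zpow_one]
        rw [this]
        exact L.mul_mem (L.zpow_mem hxiL a) (L.zpow_mem hxpL b)
  exact hgM (frattini_le_coatom hcoatom hg)

/-- A prime divisor of the order of a finite group divides the index of the Frattini subgroup. -/
theorem prime_dvd_index_frattini [Finite G] (p : ℕ) (hp : p.Prime) (hdvd : p ∣ Nat.card G) :
    p ∣ (frattini G).index := by
  have : Fact p.Prime := ⟨hp⟩
  by_contra hnd
  obtain ⟨P⟩ : Nonempty (Sylow p (frattini G)) := inferInstance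
  have hnil : Group.IsNilpotent (frattini G) := frattini_nilpotent
  have hPn : (P : Subgroup (frattini G)).Normal := inferInstance
  have hPc : (P : Subgroup (frattini G)).Characteristic := P.characteristic_of_normal hPn
  set N : Subgroup G := (P : Subgroup (frattini G)).map (frattini G).subtype with hN
  have hNn : N.Normal := inferInstance
  have hNp : IsPGroup p N := P.isPGroup'.map _
  have hNle : N ≤ frattini G := map_subtype_le _
  have hNidx : ¬ p ∣ N.index := by
    have h1 : N.index = (P : Subgroup (frattini G)).index * (frattini G).index := by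
      rw [hN, index_map_subtype]
    rw [h1]
    intro h
    rcases (Nat.Prime.dvd_mul hp).mp h with h | h
    · exact P.not_dvd_index h
    · exact hnd h
  have hcop : (Nat.card N).Coprime N.index := by
    obtain ⟨k, hk⟩ := IsPGroup.iff_card.mp hNp
    rw [hk]
    exact Nat.Coprime.pow_left _ ((Nat.Prime.coprime_iff_not_dvd hp).mpr hNidx)
  obtain ⟨K, hK⟩ := exists_right_complement'_of_coprime hcop
  have hsup : N ⊔ K = ⊤ := hK.sup_eq_top
  have hK' : K ⊔ frattini G = ⊤ := by
    rw [eq_top_iff, ← hsup, sup_comm]
    exact sup_le_sup_left hNle K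
  have hKtop : K = ⊤ := frattini_nongenerating hK'
  rw [hKtop, isComplement'_top_right] at hK
  -- so `N = ⊥` is a Sylow `p`-subgroup of `G`, contradicting `p ∣ |G|`
  let S : Sylow p G := hNp.toSylow hNidx
  exact S.ne_bot_of_dvd_card hdvd hK

end Cfsg.Agent.Lib.Helper1_Frattini
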