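import Mathlib
import Cfsg.Prelude.Def_Local
import Cfsg.Agent.Lib.Helper1_Cores

/-!
Subnormal subgroups and the `p'`-core (helper30):
* `pPrimeCore_quotient_eq_bot`: `O_{p'}(X / O_{p'}(X)) = 1` for finite `X`;
* `subnormal_le_pPrimeCore`: a subnormal subgroup of order prime to `p` lies in `O_{p'}(X)`;
* `center_isPGroup_of_isComponent`: if `O_{p'}(X) = 1` then the centre of a component is a `p`-group.
-/

set_option autoImplicit false

namespace Cfsg.Agent.Lib.Helper30_Subnormal

open Cfsg Subgroup
open Cfsg.Agent.Lib.Helper1_Cores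

variable {X : Type*} [Group X]

/-- Order of the preimage of a subgroup under the quotient map. -/
theorem card_comap_mk' [Finite X] (O : Subgroup X) [O.Normal] (N : Subgroup (X ⧸ O)) :
    Nat.card (N.comap (QuotientGroup.mk' O)) = Nat.card N * Nat.card O := by
  have h1 : (N.comap (QuotientGroup.mk' O)).index = N.index :=
    index_comap_of_surjective N (QuotientGroup.mk'_surjective O)
  have h2 := card_mul_index (N.comap (QuotientGroup.mk' O))
  have h3 := card_mul_index N
  have h4 := card_eq_card_quotient_mul_card_subgroup O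
  have hpos : 0 < N.index := Nat.pos_of_ne_zero (index_ne_zero_of_finite)
  rw [h1] at h2
  have : Nat.card (N.comap (QuotientGroup.mk' O)) * N.index = Nat.card N * Nat.card O * N.index := by
    rw [h2, h4, ← h3]; ring
  exact Nat.eq_of_mul_eq_mul_right hpos this

/-- `O_{p'}(X / O_{p'}(X)) = 1`. -/
theorem pPrimeCore_quotient_eq_bot [Finite X] (p : ℕ) :
    pPrimeCore p (X ⧸ pPrimeCore p X) = ⊥ := by
  set O := pPrimeCore p X with hO
  set Nb := pPrimeCore p (X ⧸ O) with hNb
  have hcop : (Nat.card (Nb.comap (QuotientGroup.mk' O))).Coprime p := by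
    rw [card_comap_mk']
    exact Nat.Coprime.mul_left (pPrimeCore_card_coprime p) (pPrimeCore_card_coprime p)
  have hnorm : (Nb.comap (QuotientGroup.mk' O)).Normal := inferInstance
  have hle : Nb.comap (QuotientGroup.mk' O) ≤ O := le_pPrimeCore hnorm hcop
  rw [eq_bot_iff]
  intro y hy
  obtain ⟨x, rfl⟩ := QuotientGroup.mk'_surjective O y
  have hx : x ∈ Nb.comap (QuotientGroup.mk' O) := hy
  have : x ∈ O := hle hx
  rw [mem_bot]
  exact (QuotientGroup.eq_one_iff x).mpr this

/-- A subgroup `N ≤ H` normal in a subnormal subgroup `H`, of order prime to `p`, lies in the `p'`-core. -/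
theorem le_pPrimeCore_of_normal_in_subnormal [Finite X] (p : ℕ) {H : Subgroup X} (hH : H.IsSubnormal) :
    ∀ N : Subgroup X, N ≤ H → (N.subgroupOf H).Normal → (Nat.card N).Coprime p → N ≤ pPrimeCore p X := by
  induction hH with
  | top =>
    intro N _ hN hcop
    have : N.Normal := by
      have h := (normal_subgroupOf_iff_le_normalizer (le_top : N ≤ ⊤)).mp hN
      exact normalizer_eq_top_iff.mp (top_le_iff.mp h)
    exact le_pPrimeCore this hcop
  | step H K hle hKsub hHK ih =>
    intro N hNH hN hcop
    -- M = O_{p'}(H) viewed in X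
    set M : Subgroup X := (pPrimeCore p ↥H).map H.subtype with hM
    have hNM : N ≤ M := by
      have h1 : N.subgroupOf H ≤ pPrimeCore p ↥H := by
        apply le_pPrimeCore hN
        rw [Nat.card_congr (subgroupOfEquivOfLe hNH).toEquiv]
        exact hcop
      intro x hx
      exact ⟨⟨x, hNH hx⟩, h1 hx, rfl⟩
    have hMH : M ≤ H := map_subtype_le _
    have hMK : M ≤ K := hMH.trans hle
    have hKN : K ≤ normalizer (H : Set X) := (normal_subgroupOf_iff_le_normalizer hle).mp hHK
    have hMnorm : (M.subgroupOf K).Normal := by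
      rw [normal_subgroupOf_iff_le_normalizer hMK]
      intro k hk
      rw [mem_normalizer_iff_map_conj_eq]
      -- conjugation by k is an automorphism of H
      let φ : MulAut ↥H := H.normalizerMonoidHom ⟨k, hKN hk⟩
      have hchar : (pPrimeCore p ↥H).map φ.toMonoidHom = pPrimeCore p ↥H :=
        characteristic_iff_map_eq.mp inferInstance φ
      ext y
      constructor
      · rintro ⟨m, ⟨m', hm', rfl⟩, rfl⟩
        refine ⟨φ m', ?_, rfl⟩
        rw [← hchar]
        exact ⟨m', hm', rfl⟩
      · rintro ⟨m', hm', rfl⟩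
        rw [← hchar] at hm'
        obtain ⟨m'', hm'', rfl⟩ := hm'
        exact ⟨m'', ⟨m'', hm'', rfl⟩, rfl⟩
    have hMcop : (Nat.card M).Coprime p := by
      rw [hM, card_map_of_injective H.subtype_injective]
      exact pPrimeCore_card_coprime p
    exact hNM.trans (ih M hMK hMnorm hMcop)

/-- A subnormal subgroup of order prime to `p` lies in the `p'`-core. -/
theorem subnormal_le_pPrimeCore [Finite X] (p : ℕ) {N : Subgroup X} (hN : N.IsSubnormal)
    (hcop : (Nat.card N).Coprime p) : N ≤ pPrimeCore p X :=
  le_pPrimeCore_of_normal_in_subnormal p hN N le_rfl (by rw [subgroupOf_self]; infer_instance) hcop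

/-- If `O_{p'}(X) = 1`, the centre of a component of `X` is a `p`-group. -/
theorem center_isPGroup_of_isComponent [Finite X] (p : ℕ) [hp : Fact p.Prime]
    (hX : pPrimeCore p X = ⊥) {K : Subgroup X} (hK : IsComponent K) :
    IsPGroup p ↥(center ↥K) := by
  classical
  have hcard : ∀ {r : ℕ}, r.Prime → r ∣ Nat.card ↥(center ↥K) → r = p := by
    intro r hr hdvd
    by_contra hne
    have : Fact r.Prime := ⟨hr⟩
    haveI : Fintype ↥(center ↥K) := Fintype.ofFinite _
    rw [Nat.card_eq_fintype_card] at hdvd
    obtain ⟨w, hw⟩ := exists_prime_orderOf_dvd_card r hdvd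
    -- W = ⟨w⟩ inside X
    set w' : X := ((w : ↥K) : X) with hw'
    have hordw' : orderOf w' = r := by
      rw [hw', orderOf_coe, orderOf_coe, hw]
    set W : Subgroup X := zpowers w' with hW
    have hWK : W ≤ K := by
      rw [hW, zpowers_le]
      exact (w : ↥K).2
    have hWnorm : (W.subgroupOf K).Normal := by
      rw [normal_subgroupOf_iff_le_normalizer hWK]
      intro k hk
      rw [mem_normalizer_iff]
      have hcomm : ∀ n : ℤ, k * w' ^ n * k⁻¹ = w' ^ n := by
        intro n
        have hc : (⟨k, hk⟩ : ↥K) * (w : ↥K) = (w : ↥K) * ⟨k, hk⟩ :=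
          (mem_center_iff.mp w.2 ⟨k, hk⟩)
        have hc' : k * w' = w' * k := congrArg (fun z : ↥K => (z : X)) hc
        have : Commute k (w' ^ n) := (Commute.zpow_right hc' n)
        rw [this.eq]; group
      intro h
      constructor
      · rintro ⟨n, rfl⟩
        exact ⟨n, (hcomm n).symm⟩
      · rintro ⟨n, hn⟩
        refine ⟨n, ?_⟩
        have : h = k⁻¹ * (k * h * k⁻¹) * k := by group
        rw [this, ← hn]
        have := hcomm n
        calc w' ^ n = k⁻¹ * (k * w' ^ n * k⁻¹) * k := by group
          _ = k⁻¹ * w' ^ n * k := by rw [this]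
    have hWsub : W.IsSubnormal := IsSubnormal.step W K hWK hK.1 hWnorm
    have hWcard : Nat.card W = r := by
      rw [hW, Nat.card_zpowers, hordw']
    have hWcop : (Nat.card W).Coprime p := by
      rw [hWcard]
      exact (Nat.coprime_primes hr hp.out).mpr hne
    have := subnormal_le_pPrimeCore p hWsub hWcop
    rw [hX, le_bot_iff] at this
    rw [this, card_bot] at hWcard
    exact hr.one_lt.ne hWcard
  have hne : Nat.card ↥(center ↥K) ≠ 0 := Nat.card_pos.ne'
  exact IsPGroup.of_card (Nat.eq_prime_pow_of_unique_prime_dvd hne hcard)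

end Cfsg.Agent.Lib.Helper30_Subnormal
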