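import Mathlib

/-!
# Quadratic action in odd order: the linear algebra

Over an algebraically closed field `k` of characteristic `p`, let `Y` be a finite group of odd order,
`R` a normal nilpotent subgroup of order prime to `p`, and `ρ` a finite-dimensional representation
of `Y`.  If `(ρ a - 1)^2 = 0` then `ρ a` commutes with `ρ r` for all `r ∈ R`.
-/

namespace Cfsg.Agent.Lib.Helper25_QuadLA

open Module

section TwoByTwo

variable {k : Type*} [Field k]

theorem antidiag_sq (H : Matrix (Fin 2) (Fin 2) k) (h0 : H 0 0 = 0) (h1 : H 1 1 = 0) :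
    H * H = (H 0 1 * H 1 0) • (1 : Matrix (Fin 2) (Fin 2) k) := by
  ext i j
  fin_cases i <;> fin_cases j <;>
    simp [Matrix.mul_apply, Fin.sum_univ_two, h0, h1, mul_comm]

theorem antidiag_pow_odd (H : Matrix (Fin 2) (Fin 2) k) (h0 : H 0 0 = 0) (h1 : H 1 1 = 0) (j : ℕ) :
    H ^ (2 * j + 1) = (H 0 1 * H 1 0) ^ j • H := by
  rw [pow_succ, pow_mul, pow_two, antidiag_sq H h0 h1, smul_pow, one_pow, smul_mul_assoc, one_mul]

/-- an invertible `2 × 2` matrix of odd order whose conjugate of `diag(μ₁, μ₂)` (`μ₁ ≠ μ₂`)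
commutes with `diag(μ₁, μ₂)` is diagonal. -/
theorem diag_of_odd {μ₁ μ₂ : k} (hμ : μ₁ ≠ μ₂) (H H' : Matrix (Fin 2) (Fin 2) k)
    (hH : H * H' = 1) (n : ℕ) (hn : Odd n) (hHn : H ^ n = 1)
    (hc : (H * Matrix.diagonal ![μ₁, μ₂] * H') * Matrix.diagonal ![μ₁, μ₂] =
      Matrix.diagonal ![μ₁, μ₂] * (H * Matrix.diagonal ![μ₁, μ₂] * H')) :
    H 0 1 = 0 ∧ H 1 0 = 0 := by
  have hH' : H' * H = 1 := mul_eq_one_comm.mp hH
  set S : Matrix (Fin 2) (Fin 2) k := Matrix.diagonal ![μ₁, μ₂] with hS
  set T : Matrix (Fin 2) (Fin 2) k := H * S * H' with hT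
  have hTH : T * H = H * S := by
    rw [hT, mul_assoc, hH', mul_one]
  have hd : μ₁ - μ₂ ≠ 0 := sub_ne_zero.mpr hμ
  -- `T` is diagonal
  have hT01 : T 0 1 = 0 := by
    have := congrFun (congrFun hc 0) 1
    simp [hS, Matrix.mul_apply, Matrix.diagonal_apply] at this
    have h2 : T 0 1 * (μ₁ - μ₂) = 0 := by linear_combination -this
    exact (mul_eq_zero.mp h2).resolve_right hd
  have hT10 : T 1 0 = 0 := by
    have := congrFun (congrFun hc 1) 0
    simp [hS, Matrix.mul_apply, Matrix.diagonal_apply] at this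
    have h2 : T 1 0 * (μ₁ - μ₂) = 0 := by linear_combination this
    exact (mul_eq_zero.mp h2).resolve_right hd
  -- entrywise relations
  have e00 : T 0 0 * H 0 0 = H 0 0 * μ₁ := by
    have := congrFun (congrFun hTH 0) 0
    simpa [hS, Matrix.mul_apply, Fin.sum_univ_two, Matrix.diagonal_apply, hT01] using this
  have e01 : T 0 0 * H 0 1 = H 0 1 * μ₂ := by
    have := congrFun (congrFun hTH 0) 1
    simpa [hS, Matrix.mul_apply, Fin.sum_univ_two, Matrix.diagonal_apply, hT01] using this
  have e10 : T 1 1 * H 1 0 = H 1 0 * μ₁ := by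
    have := congrFun (congrFun hTH 1) 0
    simpa [hS, Matrix.mul_apply, Fin.sum_univ_two, Matrix.diagonal_apply, hT10] using this
  have e11 : T 1 1 * H 1 1 = H 1 1 * μ₂ := by
    have := congrFun (congrFun hTH 1) 1
    simpa [hS, Matrix.mul_apply, Fin.sum_univ_two, Matrix.diagonal_apply, hT10] using this
  -- columns of `H` are nonzero
  have c0 : ¬ (H 0 0 = 0 ∧ H 1 0 = 0) := by
    rintro ⟨a, b⟩
    have := congrFun (congrFun hH' 0) 0
    simp [Matrix.mul_apply, Fin.sum_univ_two, a, b] at this
  have c1 : ¬ (H 0 1 = 0 ∧ H 1 1 = 0) := by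
    rintro ⟨a, b⟩
    have := congrFun (congrFun hH' 1) 1
    simp [Matrix.mul_apply, Fin.sum_univ_two, a, b] at this
  -- antidiagonal matrices do not have odd order
  have anti : ¬ (H 0 0 = 0 ∧ H 1 1 = 0) := by
    rintro ⟨a, b⟩
    obtain ⟨j, rfl⟩ := hn
    rw [antidiag_pow_odd H a b j] at hHn
    have := congrFun (congrFun hHn 0) 0
    simp [a] at this
  by_contra hcon
  apply anti
  by_cases h01 : H 0 1 = 0
  · have h10 : H 1 0 ≠ 0 := fun h => hcon ⟨h01, h⟩
    -- `T 1 1 = μ₁`
    have t11 : T 1 1 = μ₁ := by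
      have : (T 1 1 - μ₁) * H 1 0 = 0 := by linear_combination e10
      exact sub_eq_zero.mp ((mul_eq_zero.mp this).resolve_right h10)
    have h11 : H 1 1 = 0 := by
      have : (μ₁ - μ₂) * H 1 1 = 0 := by rw [t11] at e11; linear_combination e11
      exact (mul_eq_zero.mp this).resolve_left hd
    exact absurd ⟨h01, h11⟩ c1
  · have t00 : T 0 0 = μ₂ := by
      have : (T 0 0 - μ₂) * H 0 1 = 0 := by linear_combination e01
      exact sub_eq_zero.mp ((mul_eq_zero.mp this).resolve_right h01)
    have h00 : H 0 0 = 0 := by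
      have : (μ₁ - μ₂) * H 0 0 = 0 := by rw [t00] at e00; linear_combination -e00
      exact (mul_eq_zero.mp this).resolve_left hd
    have h10 : H 1 0 ≠ 0 := fun h => c0 ⟨h00, h⟩
    have t11 : T 1 1 = μ₁ := by
      have : (T 1 1 - μ₁) * H 1 0 = 0 := by linear_combination e10
      exact sub_eq_zero.mp ((mul_eq_zero.mp this).resolve_right h10)
    have h11 : H 1 1 = 0 := by
      have : (μ₁ - μ₂) * H 1 1 = 0 := by rw [t11] at e11; linear_combination e11
      exact (mul_eq_zero.mp this).resolve_left hd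
    exact ⟨h00, h11⟩

end TwoByTwo


section Eigen

variable {k : Type*} [Field k] [IsAlgClosed k] {U : Type*} [AddCommGroup U] [Module k U]
  [FiniteDimensional k U]

/-- the eigenspaces of an endomorphism of finite order prime to the characteristic span -/
theorem iSup_eigenspace_eq_top (s : End k U) (m : ℕ) (hm : (m : k) ≠ 0) (hs : s ^ m = 1) :
    ⨆ μ : k, s.eigenspace μ = ⊤ := by
  have hsq : Squarefree (Polynomial.X ^ m - Polynomial.C (1 : k)) :=
    (Polynomial.separable_X_pow_sub_C (1 : k) hm one_ne_zero).squarefree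
  have hss : s.IsSemisimple := by
    apply Module.End.isSemisimple_of_squarefree_aeval_eq_zero hsq
    simp [hs]
  have hfs : s.IsFinitelySemisimple := hss.isFinitelySemisimple
  have h := Module.End.iSup_maxGenEigenspace_eq_top s
  simpa only [hfs.maxGenEigenspace_eq_eigenspace] using h

/-- in dimension at most two, an endomorphism of finite order prime to the characteristic is
scalar or has an eigenbasis with distinct eigenvalues -/
theorem scalar_or_eigenbasis (h2 : finrank k U ≤ 2) (s : End k U) (m : ℕ) (hm : (m : k) ≠ 0)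
    (hs : s ^ m = 1) :
    (∃ μ : k, s = μ • (1 : End k U)) ∨
      ∃ (b : Basis (Fin 2) k U) (μ₁ μ₂ : k), μ₁ ≠ μ₂ ∧ s (b 0) = μ₁ • b 0 ∧ s (b 1) = μ₂ • b 1 := by
  have htop := iSup_eigenspace_eq_top s m hm hs
  by_cases h : ∃ μ₁ μ₂ : k, μ₁ ≠ μ₂ ∧ s.eigenspace μ₁ ≠ ⊥ ∧ s.eigenspace μ₂ ≠ ⊥
  · right
    obtain ⟨μ₁, μ₂, hμ, h1, h2'⟩ := h
    obtain ⟨e₁, he₁, he₁0⟩ := (Submodule.ne_bot_iff _).mp h1
    obtain ⟨e₂, he₂, he₂0⟩ := (Submodule.ne_bot_iff _).mp h2'
    rw [Module.End.mem_eigenspace_iff] at he₁ he₂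
    have hli : LinearIndependent k ![e₁, e₂] := by
      rw [LinearIndependent.pair_iff]
      intro α β hαβ
      have h3 : s (α • e₁ + β • e₂) = 0 := by rw [hαβ, map_zero]
      rw [map_add, map_smul, map_smul, he₁, he₂] at h3
      have h4 : (α * (μ₁ - μ₂)) • e₁ = 0 := by
        have h5 : α • μ₁ • e₁ + β • μ₂ • e₂ - μ₂ • (α • e₁ + β • e₂) = 0 := by
          rw [h3, hαβ, smul_zero, sub_zero]
        rw [← h5]
        module
      have hα : α = 0 := by
        rcases smul_eq_zero.mp h4 with h6 | h6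
        · exact (mul_eq_zero.mp h6).resolve_right (sub_ne_zero.mpr hμ)
        · exact absurd h6 he₁0
      subst hα
      rw [zero_smul, zero_add] at hαβ
      exact ⟨rfl, (smul_eq_zero.mp hαβ).resolve_right he₂0⟩
    have hcard : Fintype.card (Fin 2) = finrank k U := by
      have := hli.fintype_card_le_finrank
      simp at this ⊢
      omega
    refine ⟨basisOfLinearIndependentOfCardEqFinrank hli hcard, μ₁, μ₂, hμ, ?_, ?_⟩
    · simpa using he₁
    · simpa using he₂
  · left
    push Not at h
    by_cases hU : ∀ μ : k, s.eigenspace μ = ⊥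
    · -- trivial module
      have : (⊤ : Submodule k U) = ⊥ := by rw [← htop]; simp [hU]
      have hsub : Subsingleton U := by
        rw [← Submodule.subsingleton_iff k, ← subsingleton_iff_bot_eq_top]; exact this.symm
      exact ⟨1, Subsingleton.elim _ _⟩
    · push Not at hU
      obtain ⟨μ₀, hμ₀⟩ := hU
      refine ⟨μ₀, ?_⟩
      have hall : s.eigenspace μ₀ = ⊤ := by
        rw [eq_top_iff, ← htop]
        apply iSup_le
        intro μ
        by_cases hμ : μ = μ₀
        · rw [hμ]
        · have := h μ μ₀ hμ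
          by_contra hne
          have hμne : s.eigenspace μ ≠ ⊥ := by
            intro h0; rw [h0] at hne; exact hne bot_le
          exact hμ₀ (this hμne)
      ext u
      have : u ∈ s.eigenspace μ₀ := by rw [hall]; trivial
      rw [Module.End.mem_eigenspace_iff] at this
      simpa using this

end Eigen

section DimTwo

variable {k : Type*} [Field k] [IsAlgClosed k] {U : Type*} [AddCommGroup U] [Module k U]
  [FiniteDimensional k U]

/-- in dimension at most two: if `h` has odd order and the conjugate of the semisimple `s` by `h`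
commutes with `s`, then `h` commutes with `s` -/
theorem commute_of_odd (h2 : finrank k U ≤ 2) (s h h' : End k U) (m : ℕ) (hm : (m : k) ≠ 0)
    (hs : s ^ m = 1) (hh : h * h' = 1) (n : ℕ) (hn : Odd n) (hhn : h ^ n = 1)
    (hc : Commute (h * s * h') s) : Commute h s := by
  rcases scalar_or_eigenbasis h2 s m hm hs with ⟨μ, rfl⟩ | ⟨b, μ₁, μ₂, hμ, hb0, hb1⟩
  · exact (Commute.one_right h).smul_right μ
  · set φ := LinearMap.toMatrixAlgEquiv b with hφ
    have hφs : φ s = Matrix.diagonal ![μ₁, μ₂] := by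
      ext i j
      rw [hφ, LinearMap.toMatrixAlgEquiv_apply]
      fin_cases j
      · fin_cases i <;> simp [hb0]
      · fin_cases i <;> simp [hb1]
    have h1 : φ h * φ h' = 1 := by rw [← map_mul, hh, map_one]
    have h3 : φ h ^ n = 1 := by rw [← map_pow, hhn, map_one]
    have h4 : (φ h * Matrix.diagonal ![μ₁, μ₂] * φ h') * Matrix.diagonal ![μ₁, μ₂] =
        Matrix.diagonal ![μ₁, μ₂] * (φ h * Matrix.diagonal ![μ₁, μ₂] * φ h') := by
      rw [← hφs, ← map_mul, ← map_mul, ← map_mul, ← map_mul, hc.eq]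
    obtain ⟨h01, h10⟩ := diag_of_odd hμ (φ h) (φ h') h1 n hn h3 h4
    have h5 : φ h * φ s = φ s * φ h := by
      rw [hφs]
      ext i j
      fin_cases i <;> fin_cases j <;>
        simp [Matrix.mul_apply, Matrix.diagonal_apply, h01, h10, mul_comm]
    rw [← map_mul, ← map_mul] at h5
    exact φ.injective h5

variable {p : ℕ} [Fact p.Prime] [CharP k p] {Y : Type*} [Group Y] [Finite Y]

omit [IsAlgClosed k] [FiniteDimensional k U] [Finite Y] in
theorem rho_pow_card (ρ : Representation k Y U) (g : Y) : ρ g ^ Nat.card Y = 1 := by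
  rw [← map_pow, pow_card_eq_one', map_one]

omit [IsAlgClosed k] [FiniteDimensional k U] [Finite Y] in
theorem rho_mul_inv (ρ : Representation k Y U) (g : Y) : ρ g * ρ g⁻¹ = 1 := by
  rw [← map_mul, mul_inv_cancel, map_one]

omit [IsAlgClosed k] [FiniteDimensional k U] [Finite Y] in
theorem rho_pow_card_sub (ρ : Representation k Y U) (R : Subgroup Y) {r : Y} (hr : r ∈ R) :
    ρ r ^ Nat.card R = 1 := by
  have h1 : (⟨r, hr⟩ : R) ^ Nat.card R = 1 := pow_card_eq_one'
  have h2 : r ^ Nat.card R = 1 := by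
    have := congrArg Subtype.val h1
    rwa [Subgroup.coe_pow, Subgroup.coe_one] at this
  rw [← map_pow, h2, map_one]

theorem cast_ne_zero_of_coprime (k : Type*) [Field k] {p : ℕ} [hp : Fact p.Prime] [CharP k p]
    {m : ℕ} (hm : m.Coprime p) : (m : k) ≠ 0 := by
  intro h0
  have hd : p ∣ m := (CharP.cast_eq_zero_iff k p m).mp h0
  have : p = 1 := Nat.Coprime.eq_one_of_dvd hm.symm hd
  exact hp.out.one_lt.ne' this

omit [Finite Y] in
/-- in dimension at most two, a normal nilpotent subgroup of order prime to the characteristic of a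
finite group of odd order acts by operators commuting with the whole group -/
theorem commute_of_finrank_le_two (h2 : finrank k U ≤ 2) (hodd : Odd (Nat.card Y))
    (ρ : Representation k Y U) (R : Subgroup Y) [hRnorm : R.Normal] (hRn : Group.IsNilpotent R)
    (hRp : (Nat.card R).Coprime p) (a : Y) {r : Y} (hr : r ∈ R) : Commute (ρ a) (ρ r) := by
  have hm : ((Nat.card R : ℕ) : k) ≠ 0 := cast_ne_zero_of_coprime k hRp
  -- the image of `R` is commutative
  have key : ∀ i : ℕ, ∀ b ∈ Subgroup.upperCentralSeries R i, ∀ h : R, Commute (ρ (b : Y)) (ρ (h : Y)) := by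
    intro i
    induction i with
    | zero =>
      intro b hb h
      rw [Subgroup.upperCentralSeries_zero, Subgroup.mem_bot] at hb
      rw [hb, Subgroup.coe_one, map_one]
      exact Commute.one_left _
    | succ i ih =>
      intro b hb h
      rw [Subgroup.mem_upperCentralSeries_succ_iff] at hb
      have hc := hb h
      have hcinv := Subgroup.inv_mem _ hc
      have h1 := ih _ hcinv b
      have e : ((h * b * h⁻¹ : R) : Y) = (((b * h * b⁻¹ * h⁻¹)⁻¹ : R) : Y) * (b : Y) := by
        rw [← Subgroup.coe_mul]; congr 1; group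
      have h3 : Commute (ρ (h : Y) * ρ (b : Y) * ρ ((h : Y)⁻¹)) (ρ (b : Y)) := by
        have : ρ (h : Y) * ρ (b : Y) * ρ ((h : Y)⁻¹) = ρ ((h * b * h⁻¹ : R) : Y) := by
          rw [← map_mul, ← map_mul]; rfl
        rw [this, e, map_mul]
        exact h1.mul_left (Commute.refl _)
      exact (commute_of_odd h2 (ρ (b : Y)) (ρ (h : Y)) (ρ ((h : Y)⁻¹)) (Nat.card R) hm
        (rho_pow_card_sub ρ R b.2) (rho_mul_inv ρ _) (Nat.card Y) hodd (rho_pow_card ρ _) h3).symm
  obtain ⟨n, hn⟩ := hRn.nilpotent'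
  have hcomm : ∀ r₁ ∈ R, ∀ r₂ ∈ R, Commute (ρ r₁) (ρ r₂) := by
    intro r₁ h₁ r₂ h₂
    exact key n ⟨r₁, h₁⟩ (by rw [hn]; trivial) ⟨r₂, h₂⟩
  have h3 : Commute (ρ a * ρ r * ρ a⁻¹) (ρ r) := by
    rw [← map_mul, ← map_mul]
    exact hcomm _ (hRnorm.conj_mem r hr a) _ hr
  exact commute_of_odd h2 (ρ r) (ρ a) (ρ a⁻¹) (Nat.card R) hm (rho_pow_card_sub ρ R hr)
    (rho_mul_inv ρ _) (Nat.card Y) hodd (rho_pow_card ρ _) h3

end DimTwo

section Invariant

variable {k : Type*} [Field k] [IsAlgClosed k] {U : Type*} [AddCommGroup U] [Module k U]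
  [FiniteDimensional k U]

/-- two endomorphisms of square zero of a space of dimension at least three have a common
invariant subspace of dimension one or two -/
theorem exists_invariant_of_three_le (hdim : 3 ≤ finrank k U) (a b : End k U) (ha : a * a = 0)
    (hb : b * b = 0) :
    ∃ W : Submodule k U, W ≠ ⊥ ∧ finrank k W ≤ 2 ∧ W.map a ≤ W ∧ W.map b ≤ W := by
  set K : Submodule k U := LinearMap.ker a with hK
  have haa : ∀ u : U, a (a u) = 0 := fun u => by
    have := congrArg (fun f : End k U => f u) ha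
    simpa using this
  have hbb : ∀ u : U, b (b u) = 0 := fun u => by
    have := congrArg (fun f : End k U => f u) hb
    simpa using this
  have hKne : K ≠ ⊥ := by
    intro h0
    have hinj : ∀ u : U, a u = 0 → u = 0 := by
      intro u hu
      have : u ∈ K := by rw [hK, LinearMap.mem_ker]; exact hu
      rw [h0, Submodule.mem_bot] at this
      exact this
    have hsub : ∀ u : U, u = 0 := fun u => hinj u (hinj (a u) (haa u))
    have : finrank k U = 0 := by
      have : Subsingleton U := ⟨fun x y => by rw [hsub x, hsub y]⟩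
      exact finrank_zero_of_subsingleton
    omega
  have hmaps : ∀ x ∈ K, (a * b) x ∈ K := by
    intro x _
    rw [hK, LinearMap.mem_ker]
    show a ((a * b) x) = 0
    rw [Module.End.mul_apply]
    exact haa _
  set T : End k K := (a * b).restrict hmaps with hT
  have hnt : Nontrivial K := Submodule.nontrivial_iff_ne_bot.mpr hKne
  obtain ⟨c, hc⟩ := Module.End.exists_eigenvalue T
  obtain ⟨w, hw⟩ := hc.exists_hasEigenvector
  have hw0 : (w : U) ≠ 0 := fun h => hw.2 (Subtype.ext h)
  have hTw : a (b (w : U)) = c • (w : U) := by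
    have := hw.apply_eq_smul
    have h2 := congrArg Subtype.val this
    simpa [hT] using h2
  have haw : a (w : U) = 0 := LinearMap.mem_ker.mp w.2
  refine ⟨Submodule.span k (Set.range ![(w : U), b (w : U)]), ?_, ?_, ?_, ?_⟩
  · intro h0
    have : (w : U) ∈ Submodule.span k (Set.range ![(w : U), b (w : U)]) :=
      Submodule.subset_span ⟨0, rfl⟩
    rw [h0, Submodule.mem_bot] at this
    exact hw0 this
  · have := finrank_range_le_card (R := k) ![(w : U), b (w : U)]
    rw [Fintype.card_fin] at this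
    exact this
  · rw [Submodule.map_span_le]
    rintro _ ⟨i, rfl⟩
    fin_cases i
    · simp [haw]
    · simp only [Fin.mk_one, Matrix.cons_val_one, Matrix.cons_val_fin_one]
      rw [hTw]
      exact Submodule.smul_mem _ _ (Submodule.subset_span ⟨0, rfl⟩)
  · rw [Submodule.map_span_le]
    rintro _ ⟨i, rfl⟩
    fin_cases i
    · exact Submodule.subset_span ⟨1, rfl⟩
    · simp [hbb]

end Invariant

section Stab

variable {k : Type*} [Field k] {U : Type*} [AddCommGroup U] [Module k U]
variable {Y : Type*} [Group Y]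

theorem map_one_le (W : Submodule k U) : W.map (1 : End k U) ≤ W := by
  rw [Module.End.one_eq_id, Submodule.map_id]

/-- the subgroup of elements stabilizing the subspace `W` -/
def stab (ρ : Representation k Y U) (W : Submodule k U) : Subgroup Y where
  carrier := {g | W.map (ρ g) ≤ W ∧ W.map (ρ g⁻¹) ≤ W}
  one_mem' := by
    constructor
    · rw [map_one]; exact map_one_le W
    · rw [inv_one, map_one]; exact map_one_le W
  mul_mem' := by
    rintro g h ⟨hg1, hg2⟩ ⟨hh1, hh2⟩
    constructor
    · rw [map_mul, Module.End.mul_eq_comp, Submodule.map_comp]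
      exact (Submodule.map_mono hh1).trans hg1
    · rw [mul_inv_rev, map_mul, Module.End.mul_eq_comp, Submodule.map_comp]
      exact (Submodule.map_mono hg2).trans hh2
  inv_mem' := by
    rintro g ⟨h1, h2⟩
    exact ⟨h2, by rwa [inv_inv]⟩

theorem map_pow_le (f : End k U) (W : Submodule k U) (h : W.map f ≤ W) (j : ℕ) :
    W.map (f ^ j) ≤ W := by
  induction j with
  | zero => rw [pow_zero]; exact map_one_le W
  | succ j ih =>
    rw [pow_succ, Module.End.mul_eq_comp, Submodule.map_comp]
    exact (Submodule.map_mono h).trans ih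

theorem mem_stab_of_le [Finite Y] (ρ : Representation k Y U) (W : Submodule k U) {g : Y}
    (h : W.map (ρ g) ≤ W) : g ∈ stab ρ W := by
  refine ⟨h, ?_⟩
  have e : g⁻¹ = g ^ (orderOf g - 1) := by
    apply inv_eq_of_mul_eq_one_right
    rw [← pow_succ', Nat.sub_add_cancel (orderOf_pos g), pow_orderOf_eq_one]
  rw [e, map_pow]
  exact map_pow_le _ W h _

/-- the subrepresentation on a subspace, for the stabilizer -/
def subRep (ρ : Representation k Y U) (W : Submodule k U) : Representation k (stab ρ W) W where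
  toFun g := (ρ (g : Y)).restrict (fun x hx => g.2.1 (Submodule.mem_map_of_mem hx))
  map_one' := by
    ext x
    simp
  map_mul' := by
    intro g h
    ext x
    simp

@[simp]
theorem subRep_apply (ρ : Representation k Y U) (W : Submodule k U) (g : stab ρ W) (w : W) :
    ((subRep ρ W g w : W) : U) = ρ (g : Y) (w : U) := rfl

/-- the quotient representation, for the stabilizer -/
def quotRep (ρ : Representation k Y U) (W : Submodule k U) :
    Representation k (stab ρ W) (U ⧸ W) where
  toFun g := W.mapQ W (ρ (g : Y)) (fun x hx => g.2.1 (Submodule.mem_map_of_mem hx))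
  map_one' := by
    ext x
    simp
  map_mul' := by
    intro g h
    ext x
    simp

@[simp]
theorem quotRep_mk (ρ : Representation k Y U) (W : Submodule k U) (g : stab ρ W) (u : U) :
    quotRep ρ W g (Submodule.Quotient.mk u) = Submodule.Quotient.mk (ρ (g : Y) u) := rfl

end Stab

section Unipotent

variable {k : Type*} [Field k] {p : ℕ} [Fact p.Prime] [CharP k p]
  {V : Type*} [AddCommGroup V] [Module k V]

theorem one_add_pow_of_sq_zero (N : End k V) (hN : N * N = 0) (j : ℕ) :
    (1 + N) ^ j = 1 + j • N := by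
  induction j with
  | zero => simp
  | succ j ih =>
    rw [pow_succ, ih, mul_add, mul_one, add_mul, one_mul, smul_mul_assoc, hN, smul_zero, add_zero,
      succ_nsmul]
    abel

omit [Fact p.Prime] in
/-- a square-zero perturbation of the identity has order dividing `p` in characteristic `p` -/
theorem pow_char_eq_one_of_sq_zero (X : End k V) (hX : (X - 1) * (X - 1) = 0) : X ^ p = 1 := by
  have h1 := one_add_pow_of_sq_zero (X - 1) hX p
  rw [add_sub_cancel] at h1
  rw [h1, ← Nat.cast_smul_eq_nsmul k p (X - 1), CharP.cast_eq_zero, zero_smul, add_zero]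

omit [Fact p.Prime] in
/-- `X` and `X Z` unipotent of square zero, commuting, `Z` of order prime to `p`: then `Z = 1` -/
theorem eq_one_of_commute (X Z : End k V) (hX : (X - 1) * (X - 1) = 0)
    (hXZ : (X * Z - 1) * (X * Z - 1) = 0) (hc : Commute X Z) (m : ℕ) (hm : m.Coprime p)
    (hZ : Z ^ m = 1) : Z = 1 := by
  have h1 := pow_char_eq_one_of_sq_zero (p := p) X hX
  have h2 := pow_char_eq_one_of_sq_zero (p := p) (X * Z) hXZ
  rw [hc.mul_pow, h1, one_mul] at h2
  have h3 : Z ^ (Nat.gcd m p) = 1 := pow_gcd_eq_one.mpr ⟨hZ, h2⟩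
  rwa [hm, pow_one] at h3

end Unipotent

section Main

universe u v w

theorem nilpotent_of_injective {H G : Type*} [Group H] [Group G] [hG : Group.IsNilpotent G]
    (f : H →* G) (hf : Function.Injective f) : Group.IsNilpotent H := by
  have : Group.IsNilpotent f.range := inferInstance
  exact Group.nilpotent_of_mulEquiv (MonoidHom.ofInjective hf).symm

variable {k : Type u} [Field k] [IsAlgClosed k] {p : ℕ} [Fact p.Prime] [CharP k p]

theorem commute_of_quadratic_aux :
    ∀ (n : ℕ) (U : Type v) [AddCommGroup U] [Module k U] [FiniteDimensional k U],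
      finrank k U ≤ n → ∀ (Y : Type w) [Group Y] [Finite Y], Odd (Nat.card Y) →
      ∀ (ρ : Representation k Y U) (R : Subgroup Y), R.Normal → Group.IsNilpotent R →
      (Nat.card R).Coprime p → ∀ a : Y, (ρ a - 1) * (ρ a - 1) = 0 →
      ∀ u ∈ R, Commute (ρ a) (ρ u) := by
  intro n
  induction n with
  | zero =>
    intro U _ _ _ hU Y _ _ hodd ρ R hRn hRnil hRp a _ u hu
    exact commute_of_finrank_le_two (by omega) hodd ρ R hRnil hRp a hu
  | succ n ih =>
    intro U _ _ _ hU Y _ _ hodd ρ R hRn hRnil hRp a ha u hu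
    by_cases h2 : finrank k U ≤ 2
    · exact commute_of_finrank_le_two h2 hodd ρ R hRnil hRp a hu
    have h3 : 3 ≤ finrank k U := by omega
    set y : Y := u⁻¹ * a * u with hy
    have huu : ρ u * ρ u⁻¹ = 1 := rho_mul_inv ρ u
    have huu' : ρ u⁻¹ * ρ u = 1 := by rw [← map_mul, inv_mul_cancel, map_one]
    have hyA : ρ y - 1 = ρ u⁻¹ * (ρ a - 1) * ρ u := by
      rw [hy, map_mul, map_mul, mul_sub, sub_mul, mul_one, huu']
    have hyy : (ρ y - 1) * (ρ y - 1) = 0 := by
      rw [hyA]
      calc ρ u⁻¹ * (ρ a - 1) * ρ u * (ρ u⁻¹ * (ρ a - 1) * ρ u)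
          = ρ u⁻¹ * ((ρ a - 1) * (ρ u * ρ u⁻¹) * (ρ a - 1)) * ρ u := by noncomm_ring
        _ = 0 := by rw [huu, mul_one, ha, mul_zero, zero_mul]
    obtain ⟨W, hW0, hW2, hWa, hWy⟩ := exists_invariant_of_three_le h3 (ρ a - 1) (ρ y - 1) ha hyy
    have hinv : ∀ f : End k U, W.map (f - 1) ≤ W → W.map f ≤ W := by
      rintro f hf _ ⟨w, hw, rfl⟩
      have h1 : (f - 1) w ∈ W := hf (Submodule.mem_map_of_mem hw)
      have h2 : f w = (f - 1) w + w := by simp
      rw [h2]
      exact W.add_mem h1 hw
    have haD : a ∈ stab ρ W := mem_stab_of_le ρ W (hinv _ hWa)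
    have hyD : y ∈ stab ρ W := mem_stab_of_le ρ W (hinv _ hWy)
    set D := stab ρ W with hD
    set z : Y := a⁻¹ * y with hz
    have hzD : z ∈ D := D.mul_mem (D.inv_mem haD) hyD
    have hzR : z ∈ R := by
      rw [hz, hy]
      have : a⁻¹ * (u⁻¹ * a * u) = (a⁻¹ * u⁻¹ * a⁻¹⁻¹) * u := by group
      rw [this]
      exact R.mul_mem (hRn.conj_mem _ (R.inv_mem hu) _) hu
    have hDodd : Odd (Nat.card D) := Odd.of_dvd_nat hodd (Subgroup.card_subgroup_dvd_card D)
    set RD : Subgroup D := R.subgroupOf D with hRD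
    have hRDn : RD.Normal := hRn.subgroupOf D
    have hinj : Function.Injective
        ((D.subtype.comp RD.subtype).codRestrict R (fun x => x.2)) := by
      intro x₁ x₂ h
      have := congrArg Subtype.val h
      exact Subtype.ext (Subtype.ext this)
    have hRDnil : Group.IsNilpotent RD := nilpotent_of_injective _ hinj
    have hRDp : (Nat.card RD).Coprime p :=
      Nat.Coprime.coprime_dvd_left (Subgroup.card_dvd_of_injective _ hinj) hRp
    have hW1 : 1 ≤ finrank k W := by
      have : 0 < finrank k W := by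
        rw [finrank_pos_iff]
        exact Submodule.nontrivial_iff_ne_bot.mpr hW0
      omega
    have hdimW : finrank k W ≤ n := by omega
    have hdimQ : finrank k (U ⧸ W) ≤ n := by
      have := Submodule.finrank_quotient_add_finrank W
      omega
    have hzRD : (⟨z, hzD⟩ : D) ∈ RD := by rw [hRD, Subgroup.mem_subgroupOf]; exact hzR
    -- quadratic action on `W` and on `U ⧸ W`
    have haa : ∀ x : U, (ρ a - 1) ((ρ a - 1) x) = 0 := fun x => by
      have := congrArg (fun f : End k U => f x) ha
      simpa using this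
    have hyy' : ∀ x : U, (ρ y - 1) ((ρ y - 1) x) = 0 := fun x => by
      have := congrArg (fun f : End k U => f x) hyy
      simpa using this
    have hq1 : ∀ (g : Y) (hg : g ∈ D), (∀ x : U, (ρ g - 1) ((ρ g - 1) x) = 0) →
        (subRep ρ W ⟨g, hg⟩ - 1) * (subRep ρ W ⟨g, hg⟩ - 1) = 0 := by
      intro g hg hgg
      ext x
      have := hgg (x : U)
      simpa using this
    have hq2 : ∀ (g : Y) (hg : g ∈ D), (∀ x : U, (ρ g - 1) ((ρ g - 1) x) = 0) →
        (quotRep ρ W ⟨g, hg⟩ - 1) * (quotRep ρ W ⟨g, hg⟩ - 1) = 0 := by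
      intro g hg hgg
      ext x
      have := hgg x
      simp only [LinearMap.coe_comp, Function.comp_apply, Submodule.mkQ_apply,
        Module.End.mul_apply, LinearMap.sub_apply, Module.End.one_apply, quotRep_mk,
        LinearMap.zero_apply]
      have e : ρ g (ρ g x - x) - (ρ g x - x) = (ρ g - 1) ((ρ g - 1) x) := by simp
      show Submodule.Quotient.mk (ρ g (ρ g x - x) - (ρ g x - x)) = 0
      rw [e, this, Submodule.Quotient.mk_zero]
    have hazy : (⟨a, haD⟩ : D) * ⟨z, hzD⟩ = ⟨y, hyD⟩ := by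
      apply Subtype.ext
      show a * (a⁻¹ * y) = y
      group
    have hzm : ∀ (V : Type v) [AddCommGroup V] [Module k V] (σ : Representation k D V),
        σ ⟨z, hzD⟩ ^ Nat.card R = 1 := by
      intro V _ _ σ
      have h1 : (⟨z, hzR⟩ : R) ^ Nat.card R = 1 := pow_card_eq_one'
      have h2 : (⟨z, hzD⟩ : D) ^ Nat.card R = 1 := by
        apply Subtype.ext
        have := congrArg Subtype.val h1
        rw [Subgroup.coe_pow] at this ⊢
        exact this
      rw [← map_pow, h2, map_one]
    -- induction hypothesis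
    have ih1 := ih W hdimW D hDodd (subRep ρ W) RD hRDn hRDnil hRDp ⟨a, haD⟩ (hq1 a haD haa)
      ⟨z, hzD⟩ hzRD
    have ih2 := ih (U ⧸ W) hdimQ D hDodd (quotRep ρ W) RD hRDn hRDnil hRDp ⟨a, haD⟩
      (hq2 a haD haa) ⟨z, hzD⟩ hzRD
    have hz1 : subRep ρ W ⟨z, hzD⟩ = 1 := by
      apply eq_one_of_commute (p := p) (subRep ρ W ⟨a, haD⟩) _ (hq1 a haD haa) _ ih1
        (Nat.card R) hRp (hzm _ _)
      rw [← map_mul, hazy]
      exact hq1 y hyD hyy'
    have hz2 : quotRep ρ W ⟨z, hzD⟩ = 1 := by
      apply eq_one_of_commute (p := p) (quotRep ρ W ⟨a, haD⟩) _ (hq2 a haD haa) _ ih2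
        (Nat.card R) hRp (hzm _ _)
      rw [← map_mul, hazy]
      exact hq2 y hyD hyy'
    -- `ρ z` is unipotent, hence trivial
    have hzW : ∀ w ∈ W, ρ z w = w := by
      intro w hw
      have := congrArg (fun f : End k W => ((f ⟨w, hw⟩ : W) : U)) hz1
      simpa using this
    have hzQ : ∀ x : U, ρ z x - x ∈ W := by
      intro x
      have := congrArg (fun f : End k (U ⧸ W) => f (Submodule.Quotient.mk x)) hz2
      simp only [quotRep_mk, Module.End.one_apply] at this
      rw [← sub_eq_zero, ← Submodule.Quotient.mk_sub, Submodule.Quotient.mk_eq_zero] at this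
      exact this
    have hzz : (ρ z - 1) * (ρ z - 1) = 0 := by
      ext x
      have h1 := hzW _ (hzQ x)
      simp only [Module.End.mul_apply, LinearMap.sub_apply, Module.End.one_apply,
        LinearMap.zero_apply]
      rw [h1, sub_self]
    have hzp : ρ z ^ p = 1 := pow_char_eq_one_of_sq_zero (p := p) _ hzz
    have hzc : ρ z ^ Nat.card R = 1 := rho_pow_card_sub ρ R hzR
    have hz0 : ρ z = 1 := by
      have h3 : ρ z ^ (Nat.gcd (Nat.card R) p) = 1 := pow_gcd_eq_one.mpr ⟨hzc, hzp⟩
      rwa [hRp, pow_one] at h3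
    -- conclusion
    have hfin : ρ a = ρ u⁻¹ * ρ a * ρ u := by
      have : ρ y = ρ a * ρ z := by rw [← map_mul, hz]; congr 1; group
      rw [hz0, mul_one] at this
      calc ρ a = ρ y := this.symm
        _ = ρ u⁻¹ * ρ a * ρ u := by rw [hy, map_mul, map_mul]
    show ρ a * ρ u = ρ u * ρ a
    calc ρ a * ρ u = (ρ u * ρ u⁻¹) * (ρ a * ρ u) := by rw [huu, one_mul]
      _ = ρ u * (ρ u⁻¹ * ρ a * ρ u) := by noncomm_ring
      _ = ρ u * ρ a := by rw [← hfin]

/-- **Main theorem.** Over an algebraically closed field of characteristic `p`, let `Y` be a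
finite group of odd order, `R` a normal nilpotent subgroup of order prime to `p`, and `ρ` a
finite-dimensional representation.  If `(ρ a - 1)^2 = 0` then `ρ a` commutes with `ρ u` for
`u ∈ R`. -/
theorem commute_of_quadratic {U : Type v} [AddCommGroup U] [Module k U] [FiniteDimensional k U]
    {Y : Type w} [Group Y] [Finite Y] (hodd : Odd (Nat.card Y)) (ρ : Representation k Y U)
    (R : Subgroup Y) [hRn : R.Normal] (hRnil : Group.IsNilpotent R) (hRp : (Nat.card R).Coprime p)
    (a : Y) (ha : (ρ a - 1) * (ρ a - 1) = 0) {u : Y} (hu : u ∈ R) : Commute (ρ a) (ρ u) :=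
  commute_of_quadratic_aux (finrank k U) U le_rfl Y hodd ρ R hRn hRnil hRp a ha u hu

end Main

end Cfsg.Agent.Lib.Helper25_QuadLA
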