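import Mathlib
import Cfsg.Agent.Lib.Helper32_PGroup
import Cfsg.Prelude.Def_PLocal
import Cfsg.Prelude.Def_LocalEven

/-!
Helper library (helper34): quadratic action and `p`-stability.

* `module_lemma`: an abelian `p'`-group `A` normalized by `x` (`x^p = 1`), both acting on an
  abelian group `M` without `|A|`-torsion on which the norm `∑_{i<p} x^i` vanishes: `[A,x]` acts
  trivially on `M`.
* `PQP p X Q K`: `X` has a normal series `1 ≤ Q ≤ K ≤ X`, `Q` a `p`-group, `K/Q` abelian `p'`,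
  `X/K` a `p`-group; closed under subgroups and quotients.
* `exists_normal_of_quadratic`: for `p` odd such an `X` acts `p`-stably on its normal
  `p`-subgroups (quotient-free form); `isPStableOn`, `isNormalizerPStable` give the Prelude forms.
-/

set_option autoImplicit false
set_option linter.style.haveILetI false
universe u

namespace Cfsg.Agent.Lib.Helper34_PStable

open scoped commutatorElement BigOperators



section ModuleLemma

variable {Y M : Type*} [Group Y] [CommGroup M] [MulDistribMulAction Y M]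

/-- the "commutator map" `a ↦ a y a⁻¹ y⁻¹` -/
def phi (y a : Y) : Y := a * y * a⁻¹ * y⁻¹

theorem phi_mem {A : Subgroup Y} {y : Y} (hy : ∀ a ∈ A, y * a * y⁻¹ ∈ A) {a : Y} (ha : a ∈ A) :
    phi y a ∈ A := by
  have h1 : y * a⁻¹ * y⁻¹ ∈ A := hy _ (A.inv_mem ha)
  have : phi y a = a * (y * a⁻¹ * y⁻¹) := by unfold phi; group
  rw [this]
  exact A.mul_mem ha h1

theorem phi_mul {A : Subgroup Y} (hA : ∀ a ∈ A, ∀ b ∈ A, a * b = b * a) {y : Y}
    (hy : ∀ a ∈ A, y * a * y⁻¹ ∈ A) {a b : Y} (ha : a ∈ A) (hb : b ∈ A) :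
    phi y (a * b) = phi y a * phi y b := by
  have h1 : y * a⁻¹ * y⁻¹ ∈ A := hy _ (A.inv_mem ha)
  have h2 : phi y b ∈ A := phi_mem hy hb
  have h3 := hA _ h2 _ h1
  calc phi y (a * b) = a * (phi y b * (y * a⁻¹ * y⁻¹)) := by unfold phi; group
    _ = a * ((y * a⁻¹ * y⁻¹) * phi y b) := by rw [h3]
    _ = phi y a * phi y b := by unfold phi; group

theorem conj_pow_mem {A : Subgroup Y} {y : Y} (hy : ∀ a ∈ A, y * a * y⁻¹ ∈ A) (j : ℕ) :
    ∀ a ∈ A, y ^ j * a * (y ^ j)⁻¹ ∈ A := by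
  induction j with
  | zero => intro a ha; simpa using ha
  | succ j ih =>
    intro a ha
    have := hy _ (ih a ha)
    have h2 : y ^ (j + 1) * a * (y ^ (j + 1))⁻¹ = y * (y ^ j * a * (y ^ j)⁻¹) * y⁻¹ := by
      rw [pow_succ']; group
    rw [h2]; exact this

theorem phi_pow_succ (y a : Y) (j : ℕ) :
    phi (y ^ (j + 1)) a = phi (y ^ j) a * phi y (y ^ j * a * (y ^ j)⁻¹) := by
  unfold phi
  rw [pow_succ]
  group

/-- if a subgroup `S` contains all `phi y a`, `a ∈ A`, it contains all `phi (y^j) a` -/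
theorem phi_pow_mem {A S : Subgroup Y} {y : Y} (hy : ∀ a ∈ A, y * a * y⁻¹ ∈ A)
    (hS : ∀ a ∈ A, phi y a ∈ S) (j : ℕ) : ∀ a ∈ A, phi (y ^ j) a ∈ S := by
  induction j with
  | zero =>
    intro a _
    have : phi (y ^ 0) a = 1 := by unfold phi; group
    rw [this]; exact S.one_mem
  | succ j ih =>
    intro a ha
    rw [phi_pow_succ]
    exact S.mul_mem (ih a ha) (hS _ (conj_pow_mem hy j a ha))

variable (A : Subgroup Y) [Fintype A]

/-- the averaged element -/
noncomputable def tsum (y : Y) (m : M) : M := ∏ a : A, (phi y (a : Y)) • m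

theorem tsum_one (m : M) : tsum A (1 : Y) m = m ^ Fintype.card A := by
  unfold tsum phi
  simp

theorem phi_smul_tsum (hA : ∀ a ∈ A, ∀ b ∈ A, a * b = b * a) {y : Y}
    (hy : ∀ a ∈ A, y * a * y⁻¹ ∈ A) (m : M) {a₀ : Y} (ha₀ : a₀ ∈ A) :
    phi y a₀ • tsum A y m = tsum A y m := by
  unfold tsum
  rw [Finset.smul_prod']
  simp only [smul_smul]
  have : ∀ a : A, phi y a₀ * phi y (a : Y) = phi y (((⟨a₀, ha₀⟩ : A) * a : A) : Y) := by
    intro a
    rw [Subgroup.coe_mul, phi_mul hA hy ha₀ a.2]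
  simp only [this]
  exact Function.Bijective.prod_comp (Group.mulLeft_bijective (⟨a₀, ha₀⟩ : A))
    (fun a : A => phi y (a : Y) • m)


/-- the key identity: summing `a N a⁻¹` over `a ∈ A` -/
theorem key_identity (x : Y) (p : ℕ) (hN : ∀ m : M, ∏ i ∈ Finset.range p, (x ^ i) • m = 1) (m : M) :
    ∏ i ∈ Finset.range p, tsum A (x ^ i) ((x ^ i) • m) = 1 := by
  have h1 : ∏ a : A, (a : Y) • (∏ i ∈ Finset.range p, (x ^ i) • ((a : Y)⁻¹ • m)) = 1 := by
    apply Finset.prod_eq_one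
    intro a _
    rw [hN, smul_one]
  rw [← h1]
  unfold tsum
  rw [Finset.prod_comm]
  apply Finset.prod_congr rfl
  intro a _
  rw [Finset.smul_prod']
  apply Finset.prod_congr rfl
  intro i _
  rw [smul_smul, smul_smul, smul_smul]
  congr 1
  unfold phi
  group

/-- **Module lemma.** Let the abelian group `A`, normalized by `x` with `x ^ p = 1`, act together
with `x` on the abelian group `M` without `|A|`-torsion. If the norm `∑_{i<p} x^i` vanishes on `M`,
then `[A, x]` acts trivially on `M`. -/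
theorem module_lemma (hA : ∀ a ∈ A, ∀ b ∈ A, a * b = b * a) (x : Y) (p : ℕ) (hp : p.Prime)
    (hxA : ∀ a ∈ A, x * a * x⁻¹ ∈ A) (hxp : x ^ p = 1)
    (hN : ∀ m : M, ∏ i ∈ Finset.range p, (x ^ i) • m = 1)
    (hM : ∀ m : M, m ^ Fintype.card A = 1 → m = 1) :
    ∀ a ∈ A, ∀ m : M, (a * x * a⁻¹ * x⁻¹) • m = m := by
  intro a₀ ha₀ m
  have hb₀' : a₀ * x * a₀⁻¹ * x⁻¹ = phi x a₀ := rfl
  rw [hb₀']
  -- `b₀` fixes every `tsum A (x^i) m'` with `0 < i < p`
  have hfix : ∀ i ∈ Finset.range p, i ≠ 0 → ∀ m' : M,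
      phi x a₀ • tsum A (x ^ i) m' = tsum A (x ^ i) m' := by
    intro i hi hi0 m'
    have hip : i < p := Finset.mem_range.mp hi
    have hcop : Nat.Coprime i p :=
      ((Nat.Prime.coprime_iff_not_dvd hp).mpr
        (Nat.not_dvd_of_pos_of_lt (Nat.pos_of_ne_zero hi0) hip)).symm
    obtain ⟨j, -, hj⟩ := Nat.exists_mul_mod_eq_one_of_coprime hcop hp.one_lt
    have hxj : (x ^ i) ^ j = x := by
      rw [← pow_mul, pow_eq_pow_mod (i * j) hxp, hj, pow_one]
    have hy : ∀ a ∈ A, x ^ i * a * (x ^ i)⁻¹ ∈ A := conj_pow_mem hxA i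
    have hS : ∀ a ∈ A, phi (x ^ i) a ∈ MulAction.stabilizer Y (tsum A (x ^ i) m') := by
      intro a ha
      rw [MulAction.mem_stabilizer_iff]
      exact phi_smul_tsum A hA hy m' ha
    have := phi_pow_mem hy hS j a₀ ha₀
    rw [hxj, MulAction.mem_stabilizer_iff] at this
    exact this
  have hkey := key_identity A x p hN m
  have hsplit : ∏ i ∈ Finset.range p, tsum A (x ^ i) ((x ^ i) • m)
      = m ^ Fintype.card A * ∏ i ∈ (Finset.range p).erase 0, tsum A (x ^ i) ((x ^ i) • m) := by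
    rw [← Finset.mul_prod_erase (Finset.range p) _ (Finset.mem_range.mpr hp.pos)]
    rw [pow_zero, one_smul, tsum_one]
  rw [hsplit] at hkey
  have hkey2 : phi x a₀ • (m ^ Fintype.card A *
      ∏ i ∈ (Finset.range p).erase 0, tsum A (x ^ i) ((x ^ i) • m)) = 1 := by
    rw [hkey, smul_one]
  rw [smul_mul', smul_pow', Finset.smul_prod'] at hkey2
  have hrest : ∏ i ∈ (Finset.range p).erase 0, phi x a₀ • tsum A (x ^ i) ((x ^ i) • m)
      = ∏ i ∈ (Finset.range p).erase 0, tsum A (x ^ i) ((x ^ i) • m) := by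
    apply Finset.prod_congr rfl
    intro i hi
    exact hfix i (Finset.mem_of_mem_erase hi) (Finset.ne_of_mem_erase hi) _
  rw [hrest] at hkey2
  have h3 : (phi x a₀ • m) ^ Fintype.card A = m ^ Fintype.card A := by
    have := hkey2.trans hkey.symm
    exact mul_right_cancel this
  have h4 : ((phi x a₀ • m) * m⁻¹) ^ Fintype.card A = 1 := by
    rw [mul_pow, h3, inv_pow, mul_inv_cancel]
  have h5 := hM _ h4
  exact mul_inv_eq_one.mp h5

end ModuleLemma



section Quadratic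


variable {X : Type*} [Group X]

/-- quadratic action: if `δ = [a, v]` commutes with `a`, then `a^i v a^{-i} = δ^i v` -/
theorem conj_pow_of_commute (a v : X) (h : a * ⁅a, v⁆ = ⁅a, v⁆ * a) (i : ℕ) :
    a ^ i * v * (a ^ i)⁻¹ = ⁅a, v⁆ ^ i * v := by
  induction i with
  | zero => simp
  | succ i ih =>
    have hc : Commute a (⁅a, v⁆ ^ i) := (show Commute a ⁅a, v⁆ from h).pow_right i
    calc a ^ (i + 1) * v * (a ^ (i + 1))⁻¹ = a * (a ^ i * v * (a ^ i)⁻¹) * a⁻¹ := by
          rw [pow_succ']; group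
      _ = a * (⁅a, v⁆ ^ i * v) * a⁻¹ := by rw [ih]
      _ = (a * ⁅a, v⁆ ^ i) * v * a⁻¹ := by group
      _ = (⁅a, v⁆ ^ i * a) * v * a⁻¹ := by rw [hc.eq]
      _ = ⁅a, v⁆ ^ i * (a * v * a⁻¹ * v⁻¹) * v := by group
      _ = ⁅a, v⁆ ^ (i + 1) * v := by rw [pow_succ, commutatorElement_def]

/-- from the subgroup form of quadratic action to the elementwise form, for any power of `a` -/
theorem commute_of_quadratic {V : Subgroup X} {a : X}
    (h : ⁅⁅V, Subgroup.zpowers a⁆, Subgroup.zpowers a⁆ = ⊥) {b : X} (hb : b ∈ Subgroup.zpowers a)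
    {v : X} (hv : v ∈ V) : b * ⁅b, v⁆ = ⁅b, v⁆ * b := by
  have h1 : ⁅v, b⁆ ∈ ⁅V, Subgroup.zpowers a⁆ := Subgroup.commutator_mem_commutator hv hb
  have h2 : ⁅⁅v, b⁆, b⁆ ∈ ⁅⁅V, Subgroup.zpowers a⁆, Subgroup.zpowers a⁆ :=
    Subgroup.commutator_mem_commutator h1 hb
  rw [h, Subgroup.mem_bot] at h2
  -- ⁅⁅v,b⁆,b⁆ = 1 means ⁅v,b⁆ commutes with b; ⁅b,v⁆ = ⁅v,b⁆⁻¹
  have h3 : ⁅v, b⁆ * b = b * ⁅v, b⁆ := by
    rw [commutatorElement_def] at h2
    have := mul_inv_eq_one.mp (by rw [← h2]; group : ⁅v, b⁆ * b * (b * ⁅v, b⁆)⁻¹ = _)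
    exact this
  have h4 : ⁅b, v⁆ = ⁅v, b⁆⁻¹ := (commutatorElement_inv v b).symm
  rw [h4]
  have : Commute b ⁅v, b⁆ := h3.symm
  exact (this.inv_right).eq

/-- a `p'`-element acting quadratically on a `p`-group centralizes it -/
theorem centralizes_of_coprime_quadratic {p : ℕ} [Fact p.Prime] {V : Subgroup X} [V.Normal]
    (hV : IsPGroup p V) {b : X} {n : ℕ} (hn : n.Coprime p) (hbn : b ^ n = 1)
    (hq : ∀ v ∈ V, b * ⁅b, v⁆ = ⁅b, v⁆ * b) : b ∈ Subgroup.centralizer (V : Set X) := by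
  rw [Subgroup.mem_centralizer_iff]
  intro v hv
  have h1 := conj_pow_of_commute b v (hq v hv) n
  rw [hbn] at h1
  have h2 : ⁅b, v⁆ ^ n = 1 := by
    have : v = ⁅b, v⁆ ^ n * v := by simpa using h1
    exact (mul_eq_right.mp this.symm)
  have hmem : ⁅b, v⁆ ∈ V := by
    rw [commutatorElement_def]
    exact V.mul_mem (Subgroup.Normal.conj_mem inferInstance v hv b) (V.inv_mem hv)
  obtain ⟨k, hk⟩ := hV ⟨⁅b, v⁆, hmem⟩
  have hk' : ⁅b, v⁆ ^ (p ^ k) = 1 := by
    have := congrArg Subtype.val hk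
    simpa using this
  have h3 : ⁅b, v⁆ ^ (Nat.gcd n (p ^ k)) = 1 := pow_gcd_eq_one.mpr ⟨h2, hk'⟩
  have h4 : Nat.gcd n (p ^ k) = 1 := Nat.Coprime.pow_right k hn
  rw [h4, pow_one] at h3
  rw [commutatorElement_def] at h3
  have : b * v * b⁻¹ * v⁻¹ * (v * b) = v * b := by rw [h3, one_mul]
  rw [← this]; group

end Quadratic








/-- `X` has a normal series `1 ≤ Q ≤ K ≤ X` with `Q` a `p`-group, `K/Q` an abelian `p'`-group and
`X/K` a `p`-group -/
structure PQP (p : ℕ) (X : Type*) [Group X] (Q K : Subgroup X) : Prop where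
  Qn : Q.Normal
  Kn : K.Normal
  QK : Q ≤ K
  Qp : IsPGroup p Q
  comm : ⁅K, K⁆ ≤ Q
  cop : ∀ k ∈ K, ∃ n : ℕ, n.Coprime p ∧ k ^ n ∈ Q
  top : ∀ g : X, ∃ j : ℕ, g ^ (p ^ j) ∈ K

section Base

variable {X : Type*} [Group X]

theorem conjNormal_eq_one_iff {U : Subgroup X} [U.Normal] (g : X) :
    (MulAut.conjNormal g : MulAut U) = 1 ↔ g ∈ Subgroup.centralizer (U : Set X) := by
  constructor
  · intro h
    rw [Subgroup.mem_centralizer_iff]
    intro u hu
    have := congrArg (fun f : MulAut U => ((f ⟨u, hu⟩ : U) : X)) h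
    simp only [MulAut.conjNormal_apply, MulAut.one_apply] at this
    calc u * g = (g * u * g⁻¹) * g := by rw [this]
      _ = g * u := by group
  · intro h
    rw [Subgroup.mem_centralizer_iff] at h
    ext u
    rw [MulAut.conjNormal_apply, MulAut.one_apply]
    have := h u u.2
    calc g * (u : X) * g⁻¹ = ((u : X) * g) * g⁻¹ := by rw [this]
      _ = u := by group

theorem base_case [Finite X] {p : ℕ} [Fact p.Prime] (hp2 : p ≠ 2)
    {Q K : Subgroup X} (h : PQP p X Q K) (U : Subgroup X) [U.Normal]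
    (hUc : ∀ u ∈ U, ∀ v ∈ U, u * v = v * u) (hUp : ∀ u ∈ U, u ^ p = 1)
    (hQU : Q ≤ Subgroup.centralizer (U : Set X))
    (a : X) (ha : ∀ u ∈ U, a * ⁅a, u⁆ = ⁅a, u⁆ * a) :
    ∀ k ∈ K, ⁅k, a⁆ ∈ Subgroup.centralizer (U : Set X) := by
  have hp : p.Prime := Fact.out
  have hKn := h.Kn
  letI : CommGroup U :=
    { (inferInstance : Group U) with mul_comm := fun x y => Subtype.ext (hUc x x.2 y y.2) }
  let ρ : X →* MulAut U := MulAut.conjNormal
  let A : Subgroup (MulAut U) := K.map ρ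
  letI : Fintype A := Fintype.ofFinite A
  have hδU : ∀ u ∈ U, ⁅a, u⁆ ∈ U := by
    intro u hu
    rw [commutatorElement_def]
    exact U.mul_mem (Subgroup.Normal.conj_mem inferInstance u hu a) (U.inv_mem hu)
  -- `ρ (a^i) u = δ^i u`
  have hpow : ∀ (i : ℕ) (u : U), (((ρ a) ^ i) • u : U) = ⟨⁅a, (u : X)⁆ ^ i * u, 
      U.mul_mem (U.pow_mem (hδU u u.2) i) u.2⟩ := by
    intro i u
    apply Subtype.ext
    rw [← map_pow]
    show ((MulAut.conjNormal (a ^ i) : MulAut U) u : X) = _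
    rw [MulAut.conjNormal_apply]
    exact conj_pow_of_commute a u (ha u u.2) i
  have hA : ∀ α ∈ A, ∀ β ∈ A, α * β = β * α := by
    rintro _ ⟨k1, hk1, rfl⟩ _ ⟨k2, hk2, rfl⟩
    have h1 : ⁅k1, k2⁆ ∈ Subgroup.centralizer (U : Set X) :=
      hQU (h.comm (Subgroup.commutator_mem_commutator hk1 hk2))
    have h2 : ρ ⁅k1, k2⁆ = 1 := (conjNormal_eq_one_iff _).mpr h1
    have h3 : k1 * k2 = ⁅k1, k2⁆ * (k2 * k1) := by rw [commutatorElement_def]; group
    rw [← map_mul, ← map_mul, h3, map_mul, h2, one_mul]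
  have hxA : ∀ α ∈ A, ρ a * α * (ρ a)⁻¹ ∈ A := by
    rintro _ ⟨k, hk, rfl⟩
    refine ⟨a * k * a⁻¹, hKn.conj_mem k hk a, ?_⟩
    rw [map_mul, map_mul, map_inv]
  have hxp : (ρ a) ^ p = 1 := by
    ext u
    have := hpow p u
    rw [MulAut.smul_def] at this
    rw [this]
    simp [hUp _ (hδU u u.2)]
  have hN : ∀ m : U, ∏ i ∈ Finset.range p, ((ρ a) ^ i) • m = 1 := by
    intro m
    let δU : U := ⟨⁅a, (m : X)⁆, hδU m m.2⟩
    have hδp : δU ^ p = 1 := Subtype.ext (by simpa using hUp _ (hδU m m.2))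
    have hmp : m ^ p = 1 := Subtype.ext (by simpa using hUp m m.2)
    have h1 : ∀ i ∈ Finset.range p, ((ρ a) ^ i) • m = δU ^ i * m := by
      intro i _
      rw [hpow]
      rfl
    rw [Finset.prod_congr rfl h1, Finset.prod_mul_distrib, Finset.prod_pow_eq_pow_sum,
      Finset.prod_const, Finset.card_range, hmp, mul_one, Finset.sum_range_id]
    have hodd : Odd p := hp.eq_two_or_odd'.resolve_left hp2
    obtain ⟨t, ht⟩ := hodd
    have h2 : p * (p - 1) / 2 = p * t := by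
      have : p - 1 = 2 * t := by omega
      rw [this, ← mul_assoc, mul_comm p 2, mul_assoc, Nat.mul_div_cancel_left _ (by norm_num)]
    rw [h2, pow_mul, hδp, one_pow]
  have hcop : (Fintype.card A).Coprime p := by
    rw [Nat.coprime_comm, Nat.Prime.coprime_iff_not_dvd hp]
    intro hdvd
    obtain ⟨α, hα⟩ := exists_prime_orderOf_dvd_card p hdvd
    obtain ⟨k, hk, hkα⟩ := α.2
    obtain ⟨n, hn, hkn⟩ := h.cop k hk
    have h1 : ρ (k ^ n) = 1 := (conjNormal_eq_one_iff _).mpr (hQU hkn)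
    have h2 : α ^ n = 1 := by
      apply Subtype.ext
      rw [Subgroup.coe_pow, ← hkα, ← map_pow, h1]
      rfl
    have h3 : p ∣ n := by
      rw [← hα]; exact orderOf_dvd_of_pow_eq_one h2
    have h4 : p ∣ Nat.gcd n p := Nat.dvd_gcd h3 dvd_rfl
    rw [hn] at h4
    exact hp.one_lt.ne' (Nat.dvd_one.mp h4)
  have hM : ∀ m : U, m ^ Fintype.card A = 1 → m = 1 := by
    intro m hm
    have h1 : m ^ p = 1 := Subtype.ext (by simpa using hUp m m.2)
    have h2 : m ^ (Nat.gcd (Fintype.card A) p) = 1 := pow_gcd_eq_one.mpr ⟨hm, h1⟩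
    rwa [hcop, pow_one] at h2
  have hmain := module_lemma A hA (ρ a) p hp hxA hxp hN hM
  intro k hk
  have h1 := hmain (ρ k) ⟨k, hk, rfl⟩
  rw [← conjNormal_eq_one_iff]
  ext u
  have h2 := h1 u
  rw [MulAut.smul_def] at h2
  rw [commutatorElement_def, map_mul, map_mul, map_mul, map_inv, map_inv]
  rw [h2]
  rfl

end Base














section Transport

variable {X : Type*} [Group X] {p : ℕ}

theorem PQP.map {Q K : Subgroup X} (h : PQP p X Q K) {X' : Type*} [Group X'] (f : X →* X')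
    (hf : Function.Surjective f) : PQP p X' (Q.map f) (K.map f) where
  Qn := h.Qn.map f hf
  Kn := h.Kn.map f hf
  QK := Subgroup.map_mono h.QK
  Qp := h.Qp.map f
  comm := by
    rw [← Subgroup.map_commutator]
    exact Subgroup.map_mono h.comm
  cop := by
    rintro _ ⟨k, hk, rfl⟩
    obtain ⟨n, hn, hkn⟩ := h.cop k hk
    exact ⟨n, hn, by rw [← map_pow]; exact Subgroup.mem_map_of_mem f hkn⟩
  top := by
    intro g'
    obtain ⟨g, rfl⟩ := hf g'
    obtain ⟨j, hj⟩ := h.top g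
    exact ⟨j, by rw [← map_pow]; exact Subgroup.mem_map_of_mem f hj⟩

theorem PQP.subgroupOf {Q K : Subgroup X} (h : PQP p X Q K) (H : Subgroup X) :
    PQP p H (Q.subgroupOf H) (K.subgroupOf H) where
  Qn := by have := h.Qn; infer_instance
  Kn := by have := h.Kn; infer_instance
  QK := fun x hx => by rw [Subgroup.mem_subgroupOf] at hx ⊢; exact h.QK hx
  Qp := h.Qp.comap_of_injective H.subtype H.subtype_injective
  comm := by
    rw [Subgroup.commutator_le]
    intro x hx y hy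
    rw [Subgroup.mem_subgroupOf] at hx hy ⊢
    have := h.comm (Subgroup.commutator_mem_commutator hx hy)
    have e : ((⁅x, y⁆ : H) : X) = ⁅(x : X), (y : X)⁆ := by
      simp [commutatorElement_def]
    rw [e]; exact this
  cop := by
    intro k hk
    rw [Subgroup.mem_subgroupOf] at hk
    obtain ⟨n, hn, hkn⟩ := h.cop _ hk
    exact ⟨n, hn, by rw [Subgroup.mem_subgroupOf]; simpa using hkn⟩
  top := by
    intro g
    obtain ⟨j, hj⟩ := h.top g
    exact ⟨j, by rw [Subgroup.mem_subgroupOf]; simpa using hj⟩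

end Transport


section Induction

/-- the elements of `V` of order dividing `p` centralizing `Q ≥ V`: a subgroup -/
def omegaCentral {X : Type*} [Group X] (p : ℕ) (V Q : Subgroup X) (hVQ : V ≤ Q) : Subgroup X where
  carrier := {v | v ∈ V ∧ v ∈ Subgroup.centralizer (Q : Set X) ∧ v ^ p = 1}
  one_mem' := ⟨V.one_mem, Subgroup.one_mem _, one_pow _⟩
  mul_mem' := by
    rintro v w ⟨hv, hvc, hvp⟩ ⟨hw, hwc, hwp⟩
    refine ⟨V.mul_mem hv hw, Subgroup.mul_mem _ hvc hwc, ?_⟩
    have hcomm : Commute v w := (Subgroup.mem_centralizer_iff.mp hwc v (hVQ hv))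
    rw [hcomm.mul_pow, hvp, hwp, one_mul]
  inv_mem' := by
    rintro v ⟨hv, hvc, hvp⟩
    exact ⟨V.inv_mem hv, Subgroup.inv_mem _ hvc, by rw [inv_pow, hvp, inv_one]⟩

theorem mem_omegaCentral {X : Type*} [Group X] {p : ℕ} {V Q : Subgroup X} {hVQ : V ≤ Q} {v : X} :
    v ∈ omegaCentral p V Q hVQ ↔ v ∈ V ∧ v ∈ Subgroup.centralizer (Q : Set X) ∧ v ^ p = 1 :=
  Iff.rfl

theorem omegaCentral_normal {X : Type*} [Group X] {p : ℕ} {V Q : Subgroup X} (hVQ : V ≤ Q)
    [hV : V.Normal] [hQ : Q.Normal] : (omegaCentral p V Q hVQ).Normal := by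
  constructor
  rintro v ⟨hv, hvc, hvp⟩ g
  refine ⟨hV.conj_mem v hv g, ?_, by rw [conj_pow, hvp]; group⟩
  rw [Subgroup.mem_centralizer_iff] at hvc ⊢
  intro q hq
  have h1 := hvc (g⁻¹ * q * g) (by simpa using hQ.conj_mem q hq g⁻¹)
  calc q * (g * v * g⁻¹) = g * ((g⁻¹ * q * g) * v) * g⁻¹ := by group
    _ = g * (v * (g⁻¹ * q * g)) * g⁻¹ := by rw [h1]
    _ = g * v * g⁻¹ * q := by group

theorem omegaCentral_ne_bot {X : Type*} [Group X] [Finite X] {p : ℕ} [Fact p.Prime]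
    {V Q : Subgroup X} (hVQ : V ≤ Q) [hV : V.Normal] (hQ : IsPGroup p Q) (hV1 : V ≠ ⊥) :
    omegaCentral p V Q hVQ ≠ ⊥ := by
  have hN : (V.subgroupOf Q).Normal := inferInstance
  have hN1 : V.subgroupOf Q ≠ ⊥ := by
    intro h
    rw [Subgroup.subgroupOf_eq_bot, disjoint_iff, inf_eq_left.mpr hVQ] at h
    exact hV1 h
  obtain ⟨z, hzN, hzc, hz1⟩ :=
    Cfsg.Agent.Lib.Helper32_PGroup.exists_mem_center_of_normal hQ (V.subgroupOf Q) hN1
  -- the subgroup `W = V ∩ C(Q)` is a nontrivial `p`-group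
  let W : Subgroup X := V ⊓ Subgroup.centralizer (Q : Set X)
  have hzW : (z : X) ∈ W := by
    refine Subgroup.mem_inf.mpr ⟨Subgroup.mem_subgroupOf.mp hzN, ?_⟩
    rw [Subgroup.mem_centralizer_iff]
    intro q hq
    have := Subgroup.mem_center_iff.mp hzc ⟨q, hq⟩
    exact congrArg Subtype.val this
  have hWp : IsPGroup p W := hQ.to_le (inf_le_left.trans hVQ)
  have hWnt : Nontrivial W := ⟨⟨⟨(z : X), hzW⟩, 1, fun h => hz1 (Subtype.ext (by simpa using congrArg Subtype.val h))⟩⟩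
  obtain ⟨n, hn0, hn⟩ := hWp.nontrivial_iff_card.mp hWnt
  have hdvd : p ∣ Nat.card W := hn.symm ▸ dvd_pow_self _ (ne_of_gt hn0)
  obtain ⟨w, hw⟩ := exists_prime_orderOf_dvd_card' p hdvd
  intro hbot
  have hwmem : (w : X) ∈ omegaCentral p V Q hVQ := by
    refine ⟨(Subgroup.mem_inf.mp w.2).1, (Subgroup.mem_inf.mp w.2).2, ?_⟩
    have : w ^ p = 1 := by rw [← hw]; exact pow_orderOf_eq_one w
    exact_mod_cast congrArg Subtype.val this
  rw [hbot, Subgroup.mem_bot] at hwmem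
  have : w = 1 := Subtype.ext hwmem
  rw [this, orderOf_one] at hw
  exact (Fact.out : p.Prime).one_lt.ne hw


/-- Bezout for powers: if `g^n ∈ A`, `g^m ∈ B`, `n, m` coprime, then `g ∈ A ⊔ B` -/
theorem mem_sup_of_pow_mem {X : Type*} [Group X] {A B : Subgroup X} {g : X} {n m : ℕ}
    (hnm : n.Coprime m) (hA : g ^ n ∈ A) (hB : g ^ m ∈ B) : g ∈ A ⊔ B := by
  have h1 : (1 : ℤ) = n * Nat.gcdA n m + m * Nat.gcdB n m := by
    have := Nat.gcd_eq_gcd_ab n m
    rw [hnm] at this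
    exact_mod_cast this
  have h2 : g = (g ^ n) ^ (Nat.gcdA n m) * (g ^ m) ^ (Nat.gcdB n m) := by
    rw [← zpow_natCast, ← zpow_natCast, ← zpow_mul, ← zpow_mul, ← zpow_add, ← h1, zpow_one]
  rw [h2]
  exact Subgroup.mul_mem _ (Subgroup.mem_sup_left (A.zpow_mem hA _))
    (Subgroup.mem_sup_right (B.zpow_mem hB _))

theorem card_map_lt {X X' : Type*} [Group X] [Group X'] [Finite X] (V U : Subgroup X) (f : X →* X')
    (hUV : U ≤ V) (hU : U ≠ ⊥) (hUf : U ≤ f.ker) : Nat.card (V.map f) < Nat.card V := by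
  classical
  have : Finite (V.map f) := by
    have : Finite ((V.map f : Subgroup X') : Set X') := by
      rw [Subgroup.coe_map]; exact Set.Finite.image _ (Set.toFinite _)
    exact this
  letI := Fintype.ofFinite V
  letI := Fintype.ofFinite (V.map f)
  rw [Nat.card_eq_fintype_card, Nat.card_eq_fintype_card]
  let φ : V → V.map f := fun v => ⟨f v, Subgroup.mem_map_of_mem f v.2⟩
  apply Fintype.card_lt_of_surjective_not_injective φ
  · rintro ⟨_, v, hv, rfl⟩
    exact ⟨⟨v, hv⟩, rfl⟩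
  · intro hinj
    obtain ⟨⟨u, hu⟩, hu1⟩ := (Subgroup.ne_bot_iff_exists_ne_one.mp hU)
    have h1 : φ ⟨u, hUV hu⟩ = φ 1 := by
      apply Subtype.ext
      show f u = f 1
      rw [map_one]; exact hUf hu
    have h2 := hinj h1
    exact hu1 (Subtype.ext (by simpa using congrArg Subtype.val h2))

theorem quadratic_induction {p : ℕ} [Fact p.Prime] (hp2 : p ≠ 2) :
    ∀ (n : ℕ) (X : Type u) [Group X] [Finite X] (Q K : Subgroup X), PQP p X Q K →
      ∀ (V : Subgroup X) [V.Normal], V ≤ Q → Nat.card V ≤ n →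
      ∀ a : X, (∀ v ∈ V, a * ⁅a, v⁆ = ⁅a, v⁆ * a) →
      ∀ k ∈ K, ⁅k, a⁆ ∈ Q ⊔ Subgroup.centralizer (V : Set X) := by
  intro n
  induction n with
  | zero =>
    intro X _ _ Q K _ V _ _ hcard
    exfalso
    have : 0 < Nat.card V := Nat.card_pos
    omega
  | succ n ih =>
    intro X _ _ Q K h V hVn hVQ hcard a ha k hk
    by_cases hV1 : V = ⊥
    · subst hV1
      apply Subgroup.mem_sup_right
      rw [Subgroup.mem_centralizer_iff]
      intro v hv
      rw [Subgroup.coe_bot, Set.mem_singleton_iff] at hv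
      rw [hv, one_mul, mul_one]
    have hQn := h.Qn
    have hKn := h.Kn
    set U := omegaCentral p V Q hVQ with hUdef
    have hUn : U.Normal := omegaCentral_normal hVQ
    have hU1 : U ≠ ⊥ := omegaCentral_ne_bot hVQ h.Qp hV1
    have hUV : U ≤ V := fun u hu => hu.1
    have hUQ : Q ≤ Subgroup.centralizer (U : Set X) := by
      intro q hq
      rw [Subgroup.mem_centralizer_iff]
      intro u hu
      exact (Subgroup.mem_centralizer_iff.mp hu.2.1 q hq).symm
    have hUc : ∀ u ∈ U, ∀ v ∈ U, u * v = v * u := fun u hu v hv =>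
      (Subgroup.mem_centralizer_iff.mp hv.2.1 u (hVQ hu.1))
    have hUp : ∀ u ∈ U, u ^ p = 1 := fun u hu => hu.2.2
    -- the base case on `U`
    have hbase := base_case hp2 h U hUc hUp hUQ a (fun u hu => ha u (hUV hu)) k hk
    -- the quotient
    let π := QuotientGroup.mk' U
    have hπ : Function.Surjective π := QuotientGroup.mk'_surjective U
    have h' : PQP p (X ⧸ U) (Q.map π) (K.map π) := h.map π hπ
    have hV' : (V.map π).Normal := hVn.map π hπ
    have hcard' : Nat.card (V.map π) ≤ n := by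
      have := card_map_lt V U π hUV hU1 (by rw [QuotientGroup.ker_mk'])
      omega
    have hq' : ∀ v' ∈ V.map π, π a * ⁅π a, v'⁆ = ⁅π a, v'⁆ * π a := by
      rintro _ ⟨v, hv, rfl⟩
      rw [← map_commutatorElement, ← map_mul, ← map_mul, ha v hv]
    have ih' := ih (X ⧸ U) (Q.map π) (K.map π) h' (V.map π) (Subgroup.map_mono hVQ) hcard'
      (π a) hq' (π k) ⟨k, hk, rfl⟩
    -- pull back
    set Cs : Subgroup X := (Subgroup.centralizer ((V.map π : Subgroup (X ⧸ U)) : Set (X ⧸ U))).comap π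
      with hCs
    have hmem : ⁅k, a⁆ ∈ Q ⊔ Cs := by
      have h1 : ⁅k, a⁆ ∈ (Q.map π ⊔ Subgroup.centralizer ((V.map π : Subgroup (X ⧸ U)) :
          Set (X ⧸ U))).comap π := by
        rw [Subgroup.mem_comap, map_commutatorElement]; exact ih'
      rw [← Subgroup.comap_sup_eq π _ _ hπ, Subgroup.comap_map_eq, QuotientGroup.ker_mk',
        sup_eq_left.mpr (hUV.trans hVQ)] at h1
      exact h1
    have hmem' : ⁅k, a⁆ ∈ ((Q ⊔ Cs : Subgroup X) : Set X) := hmem
    rw [Subgroup.normal_mul] at hmem'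
    obtain ⟨q, hq, c, hc, hqc⟩ := Set.mem_mul.mp hmem'
    -- `c` centralizes `U`
    have hcU : c ∈ Subgroup.centralizer (U : Set X) := by
      have : c = q⁻¹ * ⁅k, a⁆ := by rw [← hqc]; group
      rw [this]
      exact Subgroup.mul_mem _ (Subgroup.inv_mem _ (hUQ hq)) hbase
    -- `[c, v] ∈ U` for `v ∈ V`
    have hcV : ∀ v ∈ V, ⁅c, v⁆ ∈ U := by
      intro v hv
      have h1 := Subgroup.mem_centralizer_iff.mp (Subgroup.mem_comap.mp hc) (π v)
        (Subgroup.mem_map_of_mem π hv)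
      have h2 : π ⁅c, v⁆ = 1 := by
        rw [map_commutatorElement, commutatorElement_def, ← h1]; group
      exact (QuotientGroup.eq_one_iff _).mp h2
    -- `c ^ p` centralizes `V`
    have hcp : c ^ p ∈ Subgroup.centralizer (V : Set X) := by
      rw [Subgroup.mem_centralizer_iff]
      intro v hv
      have hu := hcV v hv
      have hcomm : c * ⁅c, v⁆ = ⁅c, v⁆ * c := (Subgroup.mem_centralizer_iff.mp hcU _ hu).symm
      have h1 := conj_pow_of_commute c v hcomm p
      rw [hUp _ hu, one_mul] at h1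
      calc v * c ^ p = (c ^ p * v * (c ^ p)⁻¹) * c ^ p := by rw [h1]
        _ = c ^ p * v := by group
    -- a `p`-power of `[k,a]` centralizes `V`
    set C : Subgroup X := Subgroup.centralizer (V : Set X) with hC
    have hCn : C.Normal := inferInstance
    let πC := QuotientGroup.mk' C
    have hpg : ∃ j : ℕ, ⁅k, a⁆ ^ (p ^ j) ∈ C := by
      have hH : IsPGroup p (Subgroup.zpowers (πC c)) := by
        rintro ⟨y, hy⟩
        obtain ⟨z, rfl⟩ := Subgroup.mem_zpowers_iff.mp hy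
        refine ⟨1, Subtype.ext ?_⟩
        have h1 : (πC c) ^ p = 1 := by
          rw [← map_pow]; exact (QuotientGroup.eq_one_iff _).mpr hcp
        show ((πC c) ^ z) ^ (p ^ 1) = 1
        rw [pow_one, ← zpow_natCast, ← zpow_mul, mul_comm, zpow_mul, zpow_natCast, h1, one_zpow]
      have hK : IsPGroup p (Q.map πC) := h.Qp.map πC
      have hKn' : (Q.map πC).Normal := hQn.map πC (QuotientGroup.mk'_surjective C)
      have hsup := IsPGroup.to_sup_of_normal_right hH hK
      have hmem2 : πC ⁅k, a⁆ ∈ Subgroup.zpowers (πC c) ⊔ Q.map πC := by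
        rw [← hqc, map_mul]
        exact Subgroup.mul_mem _ (Subgroup.mem_sup_right (Subgroup.mem_map_of_mem πC hq))
          (Subgroup.mem_sup_left (Subgroup.mem_zpowers _))
      obtain ⟨j, hj⟩ := hsup ⟨_, hmem2⟩
      refine ⟨j, ?_⟩
      have := congrArg Subtype.val hj
      simp only [Subgroup.coe_pow, Subgroup.coe_one] at this
      rw [← map_pow] at this
      exact (QuotientGroup.eq_one_iff _).mp this
    obtain ⟨j, hj⟩ := hpg
    have hkK : ⁅k, a⁆ ∈ K := by
      rw [commutatorElement_def]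
      have := hKn.conj_mem k⁻¹ (K.inv_mem hk) a
      have e : k * a * k⁻¹ * a⁻¹ = k * (a * k⁻¹ * a⁻¹) := by group
      rw [e]; exact K.mul_mem hk this
    obtain ⟨m, hm, hkm⟩ := h.cop _ hkK
    exact mem_sup_of_pow_mem (Nat.Coprime.pow_right j hm) hkm hj

end Induction


section Core

variable {X : Type*} [Group X] {p : ℕ}

theorem normal_le_sylow' [Fact p.Prime] (R : Subgroup X) [R.Normal] (hR : IsPGroup p R)
    (P : Sylow p X) : R ≤ (P : Subgroup X) := by
  have h1 : IsPGroup p (R ⊔ (P : Subgroup X) : Subgroup X) :=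
    IsPGroup.to_sup_of_normal_left hR P.2
  have h2 := P.3 h1 le_sup_right
  rw [← h2]
  exact le_sup_left

theorem PQP.sup [Fact p.Prime] {Q K : Subgroup X} (h : PQP p X Q K) (V : Subgroup X) [hVn : V.Normal]
    (hV : IsPGroup p V) : PQP p X (Q ⊔ V) (K ⊔ V) := by
  have hQn := h.Qn
  have hKn := h.Kn
  have hQVn : (Q ⊔ V).Normal := inferInstance
  let π := QuotientGroup.mk' (Q ⊔ V)
  have hker : π.ker = Q ⊔ V := QuotientGroup.ker_mk' _
  have hVπ : V.map π = ⊥ := by
    rw [Subgroup.map_eq_bot_iff, hker]; exact le_sup_right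
  have hQπ : Q.map π = ⊥ := by
    rw [Subgroup.map_eq_bot_iff, hker]; exact le_sup_left
  have hKVπ : (K ⊔ V).map π = K.map π := by rw [Subgroup.map_sup, hVπ, sup_bot_eq]
  refine ⟨hQVn, inferInstance, sup_le_sup_right h.QK V, IsPGroup.to_sup_of_normal_right h.Qp hV, ?_,
    ?_, ?_⟩
  · rw [← hker, ← Subgroup.map_eq_bot_iff, Subgroup.map_commutator, hKVπ, ← Subgroup.map_commutator]
    rw [eq_bot_iff, ← hQπ]
    exact Subgroup.map_mono h.comm
  · intro g hg
    have h1 : π g ∈ K.map π := by rw [← hKVπ]; exact Subgroup.mem_map_of_mem π hg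
    obtain ⟨k, hk, hkg⟩ := h1
    obtain ⟨n, hn, hkn⟩ := h.cop k hk
    refine ⟨n, hn, ?_⟩
    rw [← hker, MonoidHom.mem_ker, map_pow, ← hkg, ← map_pow, ← MonoidHom.mem_ker, hker]
    exact Subgroup.mem_sup_left hkn
  · intro g
    obtain ⟨j, hj⟩ := h.top g
    exact ⟨j, Subgroup.mem_sup_left hj⟩

theorem sup_sylow_eq_top [Finite X] [Fact p.Prime] {Q K : Subgroup X} (h : PQP p X Q K)
    (T : Sylow p X) : K ⊔ (T : Subgroup X) = ⊤ := by
  have hp : p.Prime := Fact.out
  have hKn := h.Kn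
  have hquot : IsPGroup p (X ⧸ K) := by
    intro g
    obtain ⟨g, rfl⟩ := QuotientGroup.mk_surjective g
    obtain ⟨j, hj⟩ := h.top g
    exact ⟨j, by rw [← QuotientGroup.mk_pow]; exact (QuotientGroup.eq_one_iff _).mpr hj⟩
  obtain ⟨m, hm⟩ := IsPGroup.iff_card.mp hquot
  have h1 : (K ⊔ (T : Subgroup X)).index ∣ p ^ m := by
    rw [← hm, ← Subgroup.index_eq_card]
    exact Subgroup.index_dvd_of_le le_sup_left
  have h2 : (K ⊔ (T : Subgroup X)).index ∣ (T : Subgroup X).index :=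
    Subgroup.index_dvd_of_le le_sup_right
  obtain ⟨i, _, hi⟩ := (Nat.dvd_prime_pow hp).mp h1
  rw [← Subgroup.index_eq_one, hi]
  rcases Nat.eq_zero_or_pos i with h0 | hpos
  · rw [h0, pow_zero]
  · exfalso
    have : p ∣ (T : Subgroup X).index := by
      refine dvd_trans ?_ h2
      rw [hi]; exact dvd_pow_self p hpos.ne'
    exact T.not_dvd_index this

end Core


section CoreThm

theorem isPGroup_zpowers_of_pow_eq_one {X : Type*} [Group X] {p : ℕ} {c : X} {e : ℕ}
    (hc : c ^ (p ^ e) = 1) : IsPGroup p (Subgroup.zpowers c) := by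
  rintro ⟨y, hy⟩
  obtain ⟨z, rfl⟩ := Subgroup.mem_zpowers_iff.mp hy
  refine ⟨e, Subtype.ext ?_⟩
  show (c ^ z) ^ (p ^ e) = 1
  rw [← zpow_natCast, ← zpow_mul, mul_comm, zpow_mul, zpow_natCast, hc, one_zpow]

/-- **Core theorem.** `p` odd, `X` with a series `Q ≤ K` as in `PQP`, `V` a normal `p`-subgroup on
which `a` acts quadratically. Then `a` lies in a normal subgroup `D ≥ C_X(V)` with `D/C_X(V)` a
`p`-group. -/
theorem exists_normal_of_quadratic {X : Type u} [Group X] [Finite X] {p : ℕ} [Fact p.Prime]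
    (hp2 : p ≠ 2) {Q₀ K₀ : Subgroup X} (h₀ : PQP p X Q₀ K₀) (V : Subgroup X) [hVn : V.Normal]
    (hV : IsPGroup p V) (a : X)
    (ha : ⁅⁅V, Subgroup.zpowers a⁆, Subgroup.zpowers a⁆ = ⊥) :
    ∃ D : Subgroup X, D.Normal ∧ Subgroup.centralizer (V : Set X) ≤ D ∧ a ∈ D ∧
      ∀ d ∈ D, ∃ j : ℕ, d ^ (p ^ j) ∈ Subgroup.centralizer (V : Set X) := by
  have hp : p.Prime := Fact.out
  -- enlarge the series so that `V ≤ Q`
  have h := h₀.sup V hV
  set Q := Q₀ ⊔ V with hQdef
  set K := K₀ ⊔ V with hKdef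
  have hVQ : V ≤ Q := le_sup_right
  have hQn := h.Qn
  have hKn := h.Kn
  set C : Subgroup X := Subgroup.centralizer (V : Set X) with hC
  have hCn : C.Normal := inferInstance
  set E : Subgroup X := Q ⊔ C with hE
  have hEn : E.Normal := inferInstance
  -- every power of `a` has its commutators with `K` in `E`
  have hD : ∀ b ∈ Subgroup.zpowers a, ∀ k ∈ K, ⁅k, b⁆ ∈ E := by
    intro b hb k hk
    exact quadratic_induction hp2 (Nat.card V) X Q K h V hVQ le_rfl b
      (fun v hv => commute_of_quadratic ha hb hv) k hk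
  -- the subgroup `L`
  let πE := QuotientGroup.mk' E
  set L : Subgroup X :=
    (Subgroup.centralizer ((K.map πE : Subgroup (X ⧸ E)) : Set (X ⧸ E))).comap πE with hL
  have hKEn : (K.map πE).Normal := hKn.map πE (QuotientGroup.mk'_surjective E)
  have hLn : L.Normal := by
    have : (Subgroup.centralizer ((K.map πE : Subgroup (X ⧸ E)) : Set (X ⧸ E))).Normal :=
      inferInstance
    exact this.comap πE
  have hLmem : ∀ g : X, g ∈ L ↔ ∀ k ∈ K, ⁅k, g⁆ ∈ E := by
    intro g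
    rw [hL, Subgroup.mem_comap, Subgroup.mem_centralizer_iff]
    constructor
    · intro hg k hk
      have h1 := hg (πE k) (Subgroup.mem_map_of_mem πE hk)
      have h2 : πE ⁅k, g⁆ = 1 := by
        rw [map_commutatorElement, commutatorElement_def, h1]; group
      exact (QuotientGroup.eq_one_iff _).mp h2
    · rintro hg _ ⟨k, hk, rfl⟩
      have h1 : πE ⁅k, g⁆ = 1 := (QuotientGroup.eq_one_iff _).mpr (hg k hk)
      rw [map_commutatorElement, commutatorElement_def] at h1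
      have h2 : πE k * πE g = (πE k * πE g * (πE k)⁻¹ * (πE g)⁻¹) * (πE g * πE k) := by group
      rw [h2, h1, one_mul]
  -- split `a` into its `p'`-part and `p`-part
  have ho : orderOf a ≠ 0 := (orderOf_pos a).ne'
  obtain ⟨e, n', hn', hoe⟩ := Nat.exists_eq_pow_mul_and_not_dvd ho p hp.ne_one
  have hcop : n'.Coprime p := ((Nat.Prime.coprime_iff_not_dvd hp).mpr hn').symm
  have hb : (a ^ (p ^ e)) ^ n' = 1 := by rw [← pow_mul, ← hoe, pow_orderOf_eq_one]
  have hc : (a ^ n') ^ (p ^ e) = 1 := by rw [← pow_mul, mul_comm, ← hoe, pow_orderOf_eq_one]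
  have hbz : a ^ (p ^ e) ∈ Subgroup.zpowers a := Subgroup.npow_mem_zpowers a _
  have hcz : a ^ n' ∈ Subgroup.zpowers a := Subgroup.npow_mem_zpowers a _
  have hbC : a ^ (p ^ e) ∈ C :=
    centralizes_of_coprime_quadratic hV hcop hb (fun v hv => commute_of_quadratic ha hbz hv)
  obtain ⟨T, hT⟩ := (isPGroup_zpowers_of_pow_eq_one hc).exists_le_sylow
  have hcT : a ^ n' ∈ (T : Subgroup X) := hT (Subgroup.mem_zpowers _)
  have hcL : a ^ n' ∈ L := (hLmem _).mpr (hD _ hcz)
  set D : Subgroup X := ((T : Subgroup X) ⊓ L) ⊔ C with hDdef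
  have hQT : Q ≤ (T : Subgroup X) := normal_le_sylow' Q h.Qp T
  have hQL : Q ≤ L := by
    intro q hq
    rw [hLmem]
    intro k _
    apply Subgroup.mem_sup_left
    rw [commutatorElement_def]
    have := hQn.conj_mem q hq k
    exact Q.mul_mem this (Q.inv_mem hq)
  have haD : a ∈ D := by
    have := mem_sup_of_pow_mem (A := C) (B := (T : Subgroup X) ⊓ L) (g := a)
      (Nat.Coprime.pow_left e hcop.symm) hbC (Subgroup.mem_inf.mpr ⟨hcT, hcL⟩)
    rw [hDdef, sup_comm]; exact this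
  -- elements of `D`
  have hDelt : ∀ x ∈ D, ∃ y ∈ (T : Subgroup X) ⊓ L, ∃ c ∈ C, x = y * c := by
    intro x hx
    have hx' : x ∈ ((((T : Subgroup X) ⊓ L) ⊔ C : Subgroup X) : Set X) := hx
    rw [Subgroup.mul_normal] at hx'
    obtain ⟨y, hy, c, hc, hyc⟩ := Set.mem_mul.mp hx'
    exact ⟨y, hy, c, hc, hyc.symm⟩
  have hconj : ∀ g : X, (∀ y ∈ (T : Subgroup X) ⊓ L, g * y * g⁻¹ ∈ D) →
      ∀ x ∈ D, g * x * g⁻¹ ∈ D := by
    intro g hg x hx
    obtain ⟨y, hy, c, hc, rfl⟩ := hDelt x hx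
    have e1 : g * (y * c) * g⁻¹ = (g * y * g⁻¹) * (g * c * g⁻¹) := by group
    rw [e1]
    exact D.mul_mem (hg y hy) (Subgroup.mem_sup_right (hCn.conj_mem c hc g))
  have hnorm_of : ∀ g : X, (∀ y ∈ (T : Subgroup X) ⊓ L, g * y * g⁻¹ ∈ D) →
      (∀ y ∈ (T : Subgroup X) ⊓ L, g⁻¹ * y * g⁻¹⁻¹ ∈ D) →
      g ∈ Subgroup.normalizer (D : Set X) := by
    intro g h1 h2
    rw [Subgroup.mem_normalizer_iff]
    intro x
    constructor
    · exact hconj g h1 x
    · intro hx
      have := hconj g⁻¹ h2 _ hx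
      have e1 : g⁻¹ * (g * x * g⁻¹) * g⁻¹⁻¹ = x := by group
      rwa [e1] at this
  have hTn : ∀ g ∈ (T : Subgroup X), ∀ y ∈ (T : Subgroup X) ⊓ L, g * y * g⁻¹ ∈ D := by
    intro g hg y hy
    apply Subgroup.mem_sup_left
    rw [Subgroup.mem_inf] at hy ⊢
    exact ⟨(T : Subgroup X).mul_mem ((T : Subgroup X).mul_mem hg hy.1) ((T : Subgroup X).inv_mem hg),
      hLn.conj_mem y hy.2 g⟩
  have hKn' : ∀ g ∈ K, ∀ y ∈ (T : Subgroup X) ⊓ L, g * y * g⁻¹ ∈ D := by
    intro g hg y hy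
    have hyL := (Subgroup.mem_inf.mp hy).2
    have h1 : ⁅g, y⁆ ∈ ((Q ⊔ C : Subgroup X) : Set X) := (hLmem y).mp hyL g hg
    rw [Subgroup.normal_mul] at h1
    obtain ⟨q, hq, c, hc, hqc⟩ := Set.mem_mul.mp h1
    have e1 : g * y * g⁻¹ = (q * y) * (y⁻¹ * c * y⁻¹⁻¹) := by
      have : g * y * g⁻¹ = ⁅g, y⁆ * y := by rw [commutatorElement_def]; group
      rw [this, ← hqc]; group
    rw [e1]
    refine D.mul_mem (Subgroup.mem_sup_left ?_) (Subgroup.mem_sup_right (hCn.conj_mem c hc y⁻¹))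
    exact Subgroup.mul_mem _ (Subgroup.mem_inf.mpr ⟨hQT hq, hQL hq⟩) hy
  have hDn : D.Normal := by
    rw [← Subgroup.normalizer_eq_top_iff]
    have h1 : K ≤ Subgroup.normalizer (D : Set X) := fun g hg =>
      hnorm_of g (hKn' g hg) (hKn' g⁻¹ (K.inv_mem hg))
    have h2 : (T : Subgroup X) ≤ Subgroup.normalizer (D : Set X) := fun g hg =>
      hnorm_of g (hTn g hg) (hTn g⁻¹ ((T : Subgroup X).inv_mem hg))
    have := sup_le h1 h2
    rw [sup_sylow_eq_top h T] at this
    exact top_le_iff.mp this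
  refine ⟨D, hDn, le_sup_right, haD, ?_⟩
  intro d hd
  obtain ⟨y, hy, c, hc, rfl⟩ := hDelt d hd
  have hyT : y ∈ (T : Subgroup X) := (Subgroup.mem_inf.mp hy).1
  obtain ⟨j, hj⟩ := T.2 ⟨y, hyT⟩
  have hj' : y ^ (p ^ j) = 1 := by simpa using congrArg Subtype.val hj
  refine ⟨j, ?_⟩
  let πC := QuotientGroup.mk' C
  have hcc : πC c = 1 := (QuotientGroup.eq_one_iff c).mpr hc
  have : πC ((y * c) ^ (p ^ j)) = 1 := by
    rw [map_pow, map_mul, hcc, mul_one, ← map_pow, hj', map_one]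
  exact (QuotientGroup.eq_one_iff _).mp this

end CoreThm


section Forms

/-- membership in `O_p` of a quotient -/
theorem mk_mem_pCore_of {X : Type*} [Group X] {p : ℕ} (C D : Subgroup X) [hC : C.Normal]
    (hD : D.Normal) (hp : ∀ d ∈ D, ∃ j : ℕ, d ^ (p ^ j) ∈ C) {a : X} (ha : a ∈ D) :
    (QuotientGroup.mk a : X ⧸ C) ∈ Cfsg.pCore p (X ⧸ C) := by
  have hn : (D.map (QuotientGroup.mk' C)).Normal :=
    hD.map _ (QuotientGroup.mk'_surjective C)
  have hpg : IsPGroup p (D.map (QuotientGroup.mk' C)) := by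
    rintro ⟨_, d, hd, rfl⟩
    obtain ⟨j, hj⟩ := hp d hd
    refine ⟨j, Subtype.ext ?_⟩
    show (QuotientGroup.mk' C d) ^ (p ^ j) = 1
    rw [← map_pow]
    exact (QuotientGroup.eq_one_iff _).mpr hj
  have : D.map (QuotientGroup.mk' C) ≤ Cfsg.pCore p (X ⧸ C) := le_sSup ⟨hn, hpg⟩
  exact this ⟨a, ha, rfl⟩

/-- `p` odd: a group with a `PQP`-series acts `p`-stably on every normal `p`-subgroup -/
theorem isPStableOn {X : Type u} [Group X] [Finite X] {p : ℕ} [Fact p.Prime] (hp2 : p ≠ 2)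
    {Q K : Subgroup X} (h : PQP p X Q K) (V : Subgroup X) [V.Normal] (hV : IsPGroup p V) :
    Cfsg.IsPStableOn p V := by
  intro a ha
  obtain ⟨D, hDn, _, haD, hDp⟩ := exists_normal_of_quadratic hp2 h V hV a ha
  exact mk_mem_pCore_of _ D hDn hDp haD

/-- `p` odd: a group with a `PQP`-series is `p`-stable in the normalizer form -/
theorem isNormalizerPStable {Y : Type u} [Group Y] [Finite Y] {p : ℕ} [Fact p.Prime] (hp2 : p ≠ 2)
    {Q K : Subgroup Y} (h : PQP p Y Q K) : Cfsg.IsNormalizerPStable p Y := by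
  intro P hP g hg hquad
  set N : Subgroup Y := Subgroup.normalizer (P : Set Y) with hN
  have hPN : P ≤ N := Subgroup.le_normalizer
  have hNh := h.subgroupOf N
  set V : Subgroup N := P.subgroupOf N with hVdef
  have hVn : V.Normal := inferInstance
  have hVp : IsPGroup p V := hP.comap_of_injective N.subtype N.subtype_injective
  have hquad' : ⁅⁅V, Subgroup.zpowers (⟨g, hg⟩ : N)⁆, Subgroup.zpowers (⟨g, hg⟩ : N)⁆ = ⊥ := by
    rw [← Subgroup.map_eq_bot_iff_of_injective _ N.subtype_injective, Subgroup.map_commutator,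
      Subgroup.map_commutator, eq_bot_iff, ← hquad]
    have h1 : V.map N.subtype ≤ P := by
      rintro _ ⟨x, hx, rfl⟩; exact hx
    have h2 : (Subgroup.zpowers (⟨g, hg⟩ : N)).map N.subtype ≤ Subgroup.zpowers g := by
      rw [MonoidHom.map_zpowers]; exact le_rfl
    exact Subgroup.commutator_mono (Subgroup.commutator_mono h1 h2) h2
  obtain ⟨D, hDn, _, haD, hDp⟩ := exists_normal_of_quadratic hp2 hNh V hVp ⟨g, hg⟩ hquad'
  have hCeq : (Subgroup.centralizer (P : Set Y)).subgroupOf N =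
      Subgroup.centralizer ((V : Subgroup N) : Set N) := by
    ext x
    rw [Subgroup.mem_subgroupOf, Subgroup.mem_centralizer_iff, Subgroup.mem_centralizer_iff]
    constructor
    · intro hx v hv
      exact Subtype.ext (hx v hv)
    · intro hx y hy
      exact congrArg Subtype.val (hx ⟨y, hPN hy⟩ hy)
  refine mk_mem_pCore_of _ D hDn ?_ haD
  intro d hd
  obtain ⟨j, hj⟩ := hDp d hd
  exact ⟨j, by rw [hCeq]; exact hj⟩

end Forms

section ClassC

/-- the class of groups with a `PQP`-series -/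
def HasPQP (p : ℕ) (X : Type*) [Group X] : Prop := ∃ Q K : Subgroup X, PQP p X Q K

theorem HasPQP.subgroup {p : ℕ} {X : Type*} [Group X] (h : HasPQP p X) (H : Subgroup X) : HasPQP p H := by
  obtain ⟨Q, K, hQK⟩ := h
  exact ⟨_, _, hQK.subgroupOf H⟩

theorem HasPQP.of_surjective {p : ℕ} {X X' : Type*} [Group X] [Group X'] (h : HasPQP p X) (f : X →* X')
    (hf : Function.Surjective f) : HasPQP p X' := by
  obtain ⟨Q, K, hQK⟩ := h
  exact ⟨_, _, hQK.map f hf⟩

theorem HasPQP.section {p : ℕ} {X : Type*} [Group X] (h : HasPQP p X) (K R : Subgroup X)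
    [(R.subgroupOf K).Normal] : HasPQP p (↥K ⧸ R.subgroupOf K) :=
  (h.subgroup K).of_surjective (QuotientGroup.mk' _) (QuotientGroup.mk'_surjective _)

end ClassC


end Cfsg.Agent.Lib.Helper34_PStable
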