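import Mathlib
import Cfsg.Agent.Lib.Helper34_PStable

/-!
# The representation afforded by a normal elementary abelian `p`-subgroup

For a normal elementary abelian `p`-subgroup `U` of a finite group `X`, the conjugation action gives
a finite-dimensional representation of `X` over the algebraic closure of `𝔽_p` whose kernel is
`C_X(U)` and on which quadratically acting elements act with `(ρ a - 1)^2 = 0`.
-/

namespace Cfsg.Agent.Lib.Helper25_QuadRep

open Module TensorProduct
open scoped commutatorElement

set_option linter.style.haveILetI false

universe u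

set_option warn.classDefReducibility false in
/-- the `𝔽_p`-module structure on an abelian group of exponent `p`, written additively (kept
irreducible on purpose) -/
def zmodMod (p : ℕ) {V : Type*} [CommGroup V] (hV : ∀ v : V, v ^ p = 1) :
    Module (ZMod p) (Additive V) :=
  AddCommGroup.zmodModule (n := p) (fun x => by
    induction x using Additive.rec with
    | ofMul v => rw [← ofMul_pow, hV v, ofMul_one])

variable {X : Type u} [Group X]

/-- the representation over the algebraic closure of `𝔽_p` afforded by a normal elementary abelian
`p`-subgroup -/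
theorem exists_rep [Finite X] (p : ℕ) [Fact p.Prime] (U : Subgroup X) [hUn : U.Normal]
    (hUc : ∀ u ∈ U, ∀ v ∈ U, u * v = v * u) (hUp : ∀ u ∈ U, u ^ p = 1) :
    ∃ (W : Type u) (_ : AddCommGroup W) (_ : Module (AlgebraicClosure (ZMod p)) W)
      (_ : FiniteDimensional (AlgebraicClosure (ZMod p)) W)
      (ρ : Representation (AlgebraicClosure (ZMod p)) X W),
      (∀ g : X, ρ g = 1 ↔ g ∈ Subgroup.centralizer (U : Set X)) ∧
      (∀ a : X, (∀ u ∈ U, a * ⁅a, u⁆ = ⁅a, u⁆ * a) → (ρ a - 1) * (ρ a - 1) = 0) := by
  classical
  letI : CommGroup U :=
    { (inferInstance : Group U) with mul_comm := fun x y => Subtype.ext (hUc x x.2 y y.2) }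
  letI : Module (ZMod p) (Additive U) := zmodMod p (fun v : U =>
    Subtype.ext (by simpa using hUp v v.2))
  let ρ₀ : X →* Module.End (ZMod p) (Additive U) :=
    { toFun := fun g => AddMonoidHom.toZModLinearMap p
        (MonoidHom.toAdditive (MulAut.conjNormal g : MulAut U).toMonoidHom)
      map_one' := by
        apply LinearMap.ext
        intro x
        induction x using Additive.rec with
        | ofMul v =>
          show Additive.ofMul ((MulAut.conjNormal (1 : X) : MulAut U) v) = Additive.ofMul v
          rw [map_one]; rfl
      map_mul' := by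
        intro g h
        apply LinearMap.ext
        intro x
        induction x using Additive.rec with
        | ofMul v =>
          show Additive.ofMul ((MulAut.conjNormal (g * h) : MulAut U) v) =
            Additive.ofMul ((MulAut.conjNormal g : MulAut U) ((MulAut.conjNormal h : MulAut U) v))
          rw [map_mul]; rfl }
  have hρ₀ : ∀ (g : X) (v : U), ρ₀ g (Additive.ofMul v) =
      Additive.ofMul ((MulAut.conjNormal g : MulAut U) v) := fun g v => rfl
  let K := AlgebraicClosure (ZMod p)
  let ρ : Representation K X (K ⊗[ZMod p] Additive U) :=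
    (Module.End.baseChangeHom (ZMod p) K (Additive U)).toMonoidHom.comp ρ₀
  have hρ : ∀ g : X, ρ g = (ρ₀ g).baseChange K := fun g => rfl
  haveI : Finite (Additive U) := inferInstanceAs (Finite U)
  haveI : Module.Finite (ZMod p) (Additive U) := Module.Finite.of_finite
  refine ⟨K ⊗[ZMod p] Additive U, inferInstance, inferInstance, inferInstance, ρ, ?_, ?_⟩
  · intro g
    rw [← Cfsg.Agent.Lib.Helper34_PStable.conjNormal_eq_one_iff (U := U)]
    constructor
    · intro h
      have h1 : (ρ₀ g).baseChange K = (1 : Module.End (ZMod p) (Additive U)).baseChange K := by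
        rw [← hρ, h, LinearMap.baseChange_one]
      have h2 : ρ₀ g = 1 :=
        LinearMap.baseChangeHom_injective (R := ZMod p) (S := K) (M := Additive U)
          (N := Additive U) h1
      ext v
      have := congrArg (fun f : Module.End (ZMod p) (Additive U) => f (Additive.ofMul v)) h2
      simp only [hρ₀, Module.End.one_apply] at this
      have h3 := congrArg Additive.toMul this
      simpa using congrArg Subtype.val h3
    · intro h
      have h2 : ρ₀ g = 1 := by
        ext x
        induction x using Additive.rec with
        | ofMul v => rw [hρ₀, h]; rfl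
      rw [hρ, h2, LinearMap.baseChange_one]
  · intro a ha
    have h0 : (ρ₀ a - 1) * (ρ₀ a - 1) = 0 := by
      ext x
      induction x using Additive.rec with
      | ofMul v =>
        -- `(ρ₀ a - 1) v = [a, v]`
        have hcomm : ∀ w : U, ⁅a, (w : X)⁆ ∈ U := fun w =>
          U.mul_mem (hUn.conj_mem _ w.2 a) (U.inv_mem w.2)
        have h1 : ∀ w : U, (ρ₀ a - 1) (Additive.ofMul w) =
            Additive.ofMul (⟨⁅a, (w : X)⁆, hcomm w⟩ : U) := by
          intro w
          rw [LinearMap.sub_apply, hρ₀, Module.End.one_apply, ← ofMul_div]
          congr 1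
          apply Subtype.ext
          simp [commutatorElement_def, div_eq_mul_inv]
        rw [Module.End.mul_apply, h1 v, h1 ⟨⁅a, (v : X)⁆, hcomm v⟩, LinearMap.zero_apply]
        have : (⟨⁅a, ⁅a, (v : X)⁆⁆, hcomm ⟨⁅a, (v : X)⁆, hcomm v⟩⟩ : U) = 1 := by
          apply Subtype.ext
          show ⁅a, ⁅a, (v : X)⁆⁆ = 1
          rw [commutatorElement_eq_one_iff_mul_comm]
          exact ha v v.2
        rw [this, ofMul_one]
    rw [hρ]
    have h1 : (ρ₀ a).baseChange K - 1 = (ρ₀ a - 1).baseChange K := by
      rw [LinearMap.baseChange_sub, LinearMap.baseChange_one]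
    rw [h1, ← LinearMap.baseChange_mul, h0, LinearMap.baseChange_zero]

end Cfsg.Agent.Lib.Helper25_QuadRep
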