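import Mathlib.GroupTheory.IsSubnormal
import Mathlib.GroupTheory.Index
import Mathlib.GroupTheory.QuotientGroup.Basic
import Mathlib.Tactic

set_option autoImplicit false
open scoped Pointwise

namespace Cfsg.Agent.Lib.Lead_Subnormal

universe u

/-- `M` is a minimal normal subgroup of `G`. -/
def IsMinNormal {G : Type*} [Group G] (M : Subgroup G) : Prop :=
  M.Normal ∧ M ≠ ⊥ ∧ ∀ L : Subgroup G, L.Normal → L ≤ M → L = ⊥ ∨ L = M

/-- In a finite group every nontrivial normal subgroup contains a minimal normal subgroup. -/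
theorem exists_isMinNormal_le {G : Type*} [Group G] [Finite G] (N : Subgroup G) (hN : N.Normal)
    (hN1 : N ≠ ⊥) : ∃ M : Subgroup G, IsMinNormal M ∧ M ≤ N := by
  classical
  have hfin : (Set.univ : Set (Subgroup G)).Finite := Set.toFinite _
  let S : Set (Subgroup G) := {L | L.Normal ∧ L ≠ ⊥ ∧ L ≤ N}
  have hS : S.Nonempty := ⟨N, hN, hN1, le_rfl⟩
  have hSfin : S.Finite := Set.toFinite _
  obtain ⟨M, hMS, hMmin⟩ := hSfin.exists_minimal hS
  refine ⟨M, ⟨hMS.1, hMS.2.1, ?_⟩, hMS.2.2⟩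
  intro L hL hLM
  by_cases hL1 : L = ⊥
  · exact Or.inl hL1
  · right
    have : L ∈ S := ⟨hL, hL1, hLM.trans hMS.2.2⟩
    exact le_antisymm hLM (hMmin this hLM)

/-- Transport of minimal normality along an isomorphism. -/
theorem IsMinNormal.map_equiv {G G' : Type*} [Group G] [Group G'] (e : G ≃* G') {M : Subgroup G}
    (hM : IsMinNormal M) : IsMinNormal (M.map e.toMonoidHom) := by
  obtain ⟨hn, h1, hmin⟩ := hM
  refine ⟨?_, ?_, ?_⟩
  · exact hn.map _ e.surjective
  · intro h
    apply h1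
    rw [Subgroup.map_eq_bot_iff_of_injective _ e.injective] at h
    exact h
  · intro L hL hLM
    have h2 := hmin (L.comap e.toMonoidHom) (hL.comap _) ?_
    · rcases h2 with h2 | h2
      · left
        have := congrArg (Subgroup.map e.toMonoidHom) h2
        rw [Subgroup.map_comap_eq_self_of_surjective e.surjective, Subgroup.map_bot] at this
        exact this
      · right
        have := congrArg (Subgroup.map e.toMonoidHom) h2
        rw [Subgroup.map_comap_eq_self_of_surjective e.surjective] at this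
        exact this
    · intro x hx
      have hx' : e x ∈ M.map e.toMonoidHom := hLM hx
      obtain ⟨y, hy, hyx⟩ := hx'
      have : y = x := e.injective hyx
      exact this ▸ hy

/-- if `x : N` normalizes `H.subgroupOf N` and `H ≤ N` then `x` normalizes `H`. -/
theorem mem_normalizer_of_subgroupOf {G : Type*} [Group G] {H N : Subgroup G} (hHN : H ≤ N)
    (x : N) (hx : x ∈ Subgroup.normalizer ((H.subgroupOf N : Subgroup N) : Set N)) :
    (x : G) ∈ Subgroup.normalizer (H : Set G) := by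
  rw [Subgroup.mem_normalizer_iff] at hx ⊢
  intro h
  constructor
  · intro hh
    have := (hx ⟨h, hHN hh⟩).mp (by simpa [Subgroup.mem_subgroupOf] using hh)
    simpa [Subgroup.mem_subgroupOf] using this
  · intro hh
    have hhN : h ∈ N := by
      have h1 : (x : G) * h * (x : G)⁻¹ ∈ N := hHN hh
      have h2 : (x : G)⁻¹ * ((x : G) * h * (x : G)⁻¹) * (x : G) ∈ N :=
        N.mul_mem (N.mul_mem (N.inv_mem x.2) h1) x.2
      simpa [mul_assoc] using h2
    have := (hx ⟨h, hhN⟩).mpr (by simpa [Subgroup.mem_subgroupOf] using hh)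
    simpa [Subgroup.mem_subgroupOf] using this

/-- Isaacs FGT 2.6: a minimal normal subgroup of a finite group normalizes every subnormal
subgroup. -/
theorem IsMinNormal.le_normalizer_aux (n : ℕ) : ∀ (G : Type u) [Group G] [Finite G],
    Nat.card G = n → ∀ (H M : Subgroup G), H.IsSubnormal → IsMinNormal M →
    M ≤ Subgroup.normalizer (H : Set G) := by
  induction n using Nat.strong_induction_on with
  | _ n ih =>
  intro G _ _ hcard H M hH hM
  by_cases hHtop : H = ⊤
  · subst hHtop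
    rw [Subgroup.normalizer_eq_top]
    exact le_top
  obtain ⟨N, hNn, hHN, hNtop⟩ := hH.exists_normal_and_le_and_lt_top_of_ne hHtop
  obtain ⟨hMn, hM1, hMmin⟩ := hM
  by_cases hdisj : M ⊓ N = ⊥
  · -- M centralizes N, hence H
    intro m hm
    rw [Subgroup.mem_normalizer_iff]
    intro h
    have hcomm : ∀ h ∈ H, m * h * m⁻¹ = h := by
      intro h hh
      have := Subgroup.commute_of_normal_of_disjoint M N hMn hNn (disjoint_iff.mpr hdisj) m h hm (hHN hh)
      rw [this.eq, mul_inv_cancel_right]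
    constructor
    · intro hh
      rw [hcomm h hh]; exact hh
    · intro hh
      have h2 := hcomm _ hh
      -- m * (m h m⁻¹) * m⁻¹ = m h m⁻¹ so m h m⁻¹ commutes... deduce h ∈ H
      have h3 : m * h * m⁻¹ = h := by
        have : m * (m * h * m⁻¹) = (m * h * m⁻¹) * m := by
          calc m * (m * h * m⁻¹) = (m * (m * h * m⁻¹) * m⁻¹) * m := by group
            _ = (m * h * m⁻¹) * m := by rw [h2]
        have h4 : m * h = h * m := by
          have h5 := congrArg (fun z => m⁻¹ * z * m) this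
          simp only [mul_assoc, inv_mul_cancel_left, inv_mul_cancel, mul_one] at h5
          exact h5
        rw [h4, mul_inv_cancel_right]
      rw [← h3]; exact hh
  · -- M ≤ N
    have hMN : M ≤ N := by
      have hinf : (M ⊓ N).Normal := inferInstance
      rcases hMmin (M ⊓ N) hinf inf_le_left with h | h
      · exact absurd h hdisj
      · rw [← h]; exact inf_le_right
    have := hNn
    -- the subgroup generated by the minimal normal subgroups of N inside M
    let T : Subgroup G := ⨆ (L : Subgroup N) (_ : IsMinNormal L ∧ L ≤ M.subgroupOf N), L.map N.subtype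
    have hcardN : Nat.card N < n := by
      rw [← hcard]
      refine lt_of_le_of_ne (Subgroup.card_le_card_group N) ?_
      intro h
      exact hNtop.ne (Subgroup.eq_top_of_card_eq N h)
    have hTM : T ≤ M := by
      refine iSup_le fun L => iSup_le fun hL => ?_
      rintro _ ⟨x, hx, rfl⟩
      exact hL.2 hx
    have hTnorm : T ≤ Subgroup.normalizer (H : Set G) := by
      refine iSup_le fun L => iSup_le fun hL => ?_
      rintro _ ⟨x, hx, rfl⟩
      have := ih (Nat.card N) hcardN N rfl (H.subgroupOf N) L hH.subgroupOf hL.1 hx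
      exact mem_normalizer_of_subgroupOf hHN x this
    have hT1 : T ≠ ⊥ := by
      have hM' : (M.subgroupOf N) ≠ ⊥ := by
        intro h
        rw [Subgroup.subgroupOf_eq_bot] at h
        apply hM1
        rw [← inf_eq_left.mpr hMN]
        exact disjoint_iff.mp h
      obtain ⟨L, hL, hLM⟩ := exists_isMinNormal_le (M.subgroupOf N) inferInstance hM'
      intro hT
      have hle : L.map N.subtype ≤ T := le_iSup₂_of_le L ⟨hL, hLM⟩ le_rfl
      rw [hT, le_bot_iff, Subgroup.map_eq_bot_iff_of_injective _ N.subtype_injective] at hle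
      exact hL.2.1 hle
    have hTn : T.Normal := by
      constructor
      intro t ht g
      -- conjugation by g maps generators to generators
      have key : ∀ (L : Subgroup N), IsMinNormal L ∧ L ≤ M.subgroupOf N →
          ∀ x ∈ L.map N.subtype, g * x * g⁻¹ ∈ T := by
        intro L hL x hx
        obtain ⟨y, hy, rfl⟩ := hx
        let e : N ≃* N := MulAut.conjNormal g
        have hL' : IsMinNormal (L.map e.toMonoidHom) ∧ L.map e.toMonoidHom ≤ M.subgroupOf N := by
          refine ⟨hL.1.map_equiv e, ?_⟩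
          rintro _ ⟨z, hz, rfl⟩
          rw [Subgroup.mem_subgroupOf]
          have hzM : (z : G) ∈ M := hL.2 hz
          have : ((e z : N) : G) = g * z * g⁻¹ := MulAut.conjNormal_apply g z
          rw [show ((e.toMonoidHom z : N) : G) = g * z * g⁻¹ from this]
          exact hMn.conj_mem _ hzM g
        have hmem : g * (N.subtype y) * g⁻¹ ∈ (L.map e.toMonoidHom).map N.subtype := by
          refine ⟨e y, ⟨y, hy, rfl⟩, ?_⟩
          exact MulAut.conjNormal_apply g y
        exact (le_iSup₂_of_le (L.map e.toMonoidHom) hL' le_rfl : _ ≤ T) hmem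
      -- closure induction
      have hconj : T ≤ T.comap (MulAut.conj g).toMonoidHom := by
        refine iSup_le fun L => iSup_le fun hL => ?_
        intro x hx
        rw [Subgroup.mem_comap]
        exact key L hL x hx
      exact hconj ht
    rcases hMmin T hTn hTM with h | h
    · exact absurd h hT1
    · rw [← h]; exact hTnorm

theorem IsMinNormal.le_normalizer {G : Type*} [Group G] [Finite G] {H M : Subgroup G}
    (hH : H.IsSubnormal) (hM : IsMinNormal M) : M ≤ Subgroup.normalizer (H : Set G) :=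
  IsMinNormal.le_normalizer_aux _ G rfl H M hH hM

/-- Wielandt: the join of two subnormal subgroups of a finite group is subnormal. -/
theorem isSubnormal_sup_aux (n : ℕ) : ∀ (G : Type u) [Group G] [Finite G],
    Nat.card G = n → ∀ (A B : Subgroup G), A.IsSubnormal → B.IsSubnormal → (A ⊔ B).IsSubnormal := by
  induction n using Nat.strong_induction_on with
  | _ n ih =>
  intro G _ _ hcard A B hA hB
  by_cases htriv : (⊤ : Subgroup G) = ⊥
  · have : A ⊔ B = ⊤ := by
      rw [htriv]; exact le_bot_iff.mp (htriv ▸ le_top)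
    rw [this]; exact Subgroup.IsSubnormal.top
  obtain ⟨M, hM, -⟩ := exists_isMinNormal_le (⊤ : Subgroup G) inferInstance htriv
  have hMn : M.Normal := hM.1
  have hcardQ : Nat.card (G ⧸ M) < n := by
    rw [← hcard, ← Subgroup.index_eq_card, ← Subgroup.index_mul_card M]
    have h1 : 1 < Nat.card M := by
      rw [Finite.one_lt_card_iff_nontrivial]
      exact (Subgroup.nontrivial_iff_ne_bot M).mpr hM.2.1
    have h2 : 0 < M.index := Nat.pos_of_ne_zero M.index_ne_zero_of_finite
    nlinarith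
  have hQ := ih _ hcardQ (G ⧸ M) rfl _ _ (hA.quotient (K := M)) (hB.quotient (K := M))
  have hcomap := hQ.comap (QuotientGroup.mk' M)
  rw [← Subgroup.map_sup, Subgroup.comap_map_eq, QuotientGroup.ker_mk'] at hcomap
  -- A ⊔ B is normal in (A ⊔ B) ⊔ M
  have hAM := hM.le_normalizer hA
  have hBM := hM.le_normalizer hB
  refine Subgroup.IsSubnormal.step _ _ le_sup_left hcomap ?_
  rw [Subgroup.normal_subgroupOf_iff_le_normalizer le_sup_left]
  refine sup_le Subgroup.le_normalizer ?_
  intro m hm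
  have h1 := hAM hm
  have h2 := hBM hm
  rw [Subgroup.mem_normalizer_iff''] at h1 h2 ⊢
  -- conjugation by m preserves A and B hence A ⊔ B
  have hmap : ∀ {C : Subgroup G}, (∀ h, h ∈ C ↔ m⁻¹ * h * m ∈ C) →
      C.map (MulAut.conj m⁻¹).toMonoidHom = C := by
    intro C hC
    ext x
    constructor
    · rintro ⟨y, hy, rfl⟩
      have := (hC y).mp hy
      simpa using this
    · intro hx
      refine ⟨m * x * m⁻¹, ?_, by simp [mul_assoc]⟩
      show m * x * m⁻¹ ∈ C
      rw [hC]
      simpa [mul_assoc] using hx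
  have hAB : (A ⊔ B).map (MulAut.conj m⁻¹).toMonoidHom = A ⊔ B := by
    rw [Subgroup.map_sup, hmap h1, hmap h2]
  intro h
  constructor
  · intro hh
    have : (MulAut.conj m⁻¹).toMonoidHom h ∈ (A ⊔ B).map (MulAut.conj m⁻¹).toMonoidHom :=
      Subgroup.mem_map_of_mem _ hh
    rw [hAB] at this
    simpa using this
  · intro hh
    rw [← hAB] at hh
    obtain ⟨y, hy, hyh⟩ := hh
    have : y = h := by
      have h3 : m⁻¹ * y * m = m⁻¹ * h * m := by simpa using hyh
      have := congrArg (fun z => m * z * m⁻¹) h3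
      simpa [mul_assoc] using this
    exact this ▸ hy

theorem isSubnormal_sup {G : Type*} [Group G] [Finite G] {A B : Subgroup G}
    (hA : A.IsSubnormal) (hB : B.IsSubnormal) : (A ⊔ B).IsSubnormal :=
  isSubnormal_sup_aux _ G rfl A B hA hB

theorem isSubnormal_sSup {G : Type*} [Group G] [Finite G] {S : Set (Subgroup G)}
    (h : ∀ U ∈ S, U.IsSubnormal) : (sSup S).IsSubnormal := by
  have hfin : S.Finite := Set.toFinite S
  induction S, hfin using Set.Finite.induction_on with
  | empty => simp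
  | insert ha hs ih =>
    rw [sSup_insert]
    exact isSubnormal_sup (h _ (Set.mem_insert _ _)) (ih fun U hU => h U (Set.mem_insert_of_mem _ hU))

/-! ### Relative subnormality inside an ambient group -/

/-- `SubnIn H K`: `H` is a subnormal subgroup of `K` (both subgroups of the ambient group). -/
inductive SubnIn {G : Type*} [Group G] : Subgroup G → Subgroup G → Prop
  | refl (K : Subgroup G) : SubnIn K K
  | step (H K L : Subgroup G) : H ≤ K → K ≤ Subgroup.normalizer (H : Set G) → SubnIn K L → SubnIn H L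

namespace SubnIn

variable {G : Type*} [Group G] {H K L : Subgroup G}

theorem le (h : SubnIn H K) : H ≤ K := by
  induction h with
  | refl K => exact le_rfl
  | step H K L hHK _ _ ih => exact hHK.trans ih

theorem of_normal (hHK : H ≤ K) (hn : K ≤ Subgroup.normalizer (H : Set G)) : SubnIn H K :=
  .step H K K hHK hn (.refl K)

theorem trans (h1 : SubnIn H K) (h2 : SubnIn K L) : SubnIn H L := by
  induction h1 with
  | refl K => exact h2
  | step H K L' hHK hn _ ih => exact .step H K L hHK hn (ih h2)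

/-- intersecting with a subgroup -/
theorem inf_right (h : SubnIn H K) (L : Subgroup G) : SubnIn (H ⊓ L) (K ⊓ L) := by
  induction h with
  | refl K => exact .refl _
  | step H K L' hHK hn _ ih =>
    refine .step _ (K ⊓ L) _ (inf_le_inf_right L hHK) ?_ ih
    intro x hx
    have hxn := hn hx.1
    rw [Subgroup.mem_normalizer_iff] at hxn ⊢
    intro y
    constructor
    · rintro ⟨hy1, hy2⟩
      exact ⟨(hxn y).mp hy1, L.mul_mem (L.mul_mem hx.2 hy2) (L.inv_mem hx.2)⟩
    · rintro ⟨hy1, hy2⟩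
      refine ⟨(hxn y).mpr hy1, ?_⟩
      have : x⁻¹ * (x * y * x⁻¹) * x ∈ L := L.mul_mem (L.mul_mem (L.inv_mem hx.2) hy2) hx.2
      simpa [mul_assoc] using this

theorem of_le_le (h : SubnIn H K) (hHL : H ≤ L) (hLK : L ≤ K) : SubnIn H L := by
  have := h.inf_right L
  rwa [inf_eq_left.mpr hHL, inf_eq_right.mpr hLK] at this

theorem conj (h : SubnIn H K) (g : G) : SubnIn (MulAut.conj g • H) (MulAut.conj g • K) := by
  induction h with
  | refl K => exact .refl _
  | step H K L hHK hn _ ih =>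
    refine .step _ (MulAut.conj g • K) _ (Subgroup.pointwise_smul_le_pointwise_smul_iff.mpr hHK) ?_ ih
    have hmem : ∀ (C : Subgroup G) (z : G), z ∈ MulAut.conj g • C ↔ g⁻¹ * z * g ∈ C := by
      intro C z
      rw [Subgroup.mem_pointwise_smul_iff_inv_smul_mem]
      simp [MulAut.smul_def]
    intro x hx
    have hk : g⁻¹ * x * g ∈ K := (hmem K x).mp hx
    have hkn := hn hk
    rw [Subgroup.mem_normalizer_iff] at hkn ⊢
    intro y
    rw [hmem, hmem, hkn (g⁻¹ * y * g)]
    have : g⁻¹ * x * g * (g⁻¹ * y * g) * (g⁻¹ * x * g)⁻¹ = g⁻¹ * (x * y * x⁻¹) * g := by group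
    rw [this]

/-- link with Mathlib's notion -/
theorem isSubnormal_subgroupOf (h : SubnIn H K) : (H.subgroupOf K).IsSubnormal := by
  induction h with
  | refl K => rw [Subgroup.subgroupOf_self]; exact Subgroup.IsSubnormal.top
  | step H K L hHK hn hKL ih =>
    have hKL' := hKL.le
    refine Subgroup.IsSubnormal.step (H.subgroupOf L) (K.subgroupOf L)
      (Subgroup.subgroupOf_mono L hHK) ih ?_
    rw [Subgroup.normal_subgroupOf_iff_le_normalizer (Subgroup.subgroupOf_mono L hHK)]
    intro x hx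
    rw [Subgroup.mem_subgroupOf] at hx
    have hxn := hn hx
    rw [Subgroup.mem_normalizer_iff] at hxn ⊢
    intro y
    simp only [Subgroup.mem_subgroupOf]
    simpa using hxn y

theorem of_map_subtype (H' : Subgroup K) (h : H'.IsSubnormal) : SubnIn (H'.map K.subtype) K := by
  induction h with
  | top =>
    have : (⊤ : Subgroup K).map K.subtype = K := by
      rw [← MonoidHom.range_eq_map, Subgroup.range_subtype]
    rw [this]; exact .refl K
  | step A B hAB _ hN ih =>
    refine .step _ (B.map K.subtype) _ (Subgroup.map_mono hAB) ?_ ih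
    rw [Subgroup.normal_subgroupOf_iff_le_normalizer hAB] at hN
    exact (Subgroup.map_mono hN).trans (Subgroup.le_normalizer_map _)

theorem iff_isSubnormal_subgroupOf : SubnIn H K ↔ H ≤ K ∧ (H.subgroupOf K).IsSubnormal := by
  constructor
  · intro h; exact ⟨h.le, h.isSubnormal_subgroupOf⟩
  · rintro ⟨hle, h⟩
    have := of_map_subtype _ h
    rwa [Subgroup.map_subgroupOf_eq_of_le hle] at this

theorem top_iff : SubnIn H ⊤ ↔ H.IsSubnormal := by
  rw [iff_isSubnormal_subgroupOf]
  constructor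
  · rintro ⟨-, h⟩
    have := h.trans' Subgroup.IsSubnormal.top
    rwa [Subgroup.map_subgroupOf_eq_of_le le_top] at this
  · intro h
    exact ⟨le_top, h.subgroupOf⟩

theorem sup [Finite G] {A B : Subgroup G} (hA : SubnIn A K) (hB : SubnIn B K) : SubnIn (A ⊔ B) K := by
  rw [iff_isSubnormal_subgroupOf] at hA hB ⊢
  refine ⟨sup_le hA.1 hB.1, ?_⟩
  rw [Subgroup.subgroupOf_sup hA.1 hB.1]
  exact isSubnormal_sup hA.2 hB.2

theorem sSup [Finite G] {S : Set (Subgroup G)} (h : ∀ U ∈ S, SubnIn U K) : SubnIn (sSup S) K := by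
  have hfin : S.Finite := Set.toFinite S
  induction S, hfin using Set.Finite.induction_on with
  | empty =>
    rw [sSup_empty]
    exact of_normal bot_le (by rw [Subgroup.normalizer_eq_top]; exact le_top)
  | insert ha hs ih =>
    rw [sSup_insert]
    exact (h _ (Set.mem_insert _ _)).sup (ih fun U hU => h U (Set.mem_insert_of_mem _ hU))

end SubnIn

section
variable {G : Type*} [Group G] {H K L : Subgroup G}

theorem SubnIn.exists_chain (h : SubnIn H K) : ∃ (n : ℕ) (f : ℕ → Subgroup G), f 0 = H ∧ f n = K ∧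
    ∀ i, i < n → f i ≤ f (i + 1) ∧ f (i + 1) ≤ Subgroup.normalizer (f i : Set G) := by
  induction h with
  | refl K => exact ⟨0, fun _ => K, rfl, rfl, fun i hi => absurd hi (Nat.not_lt_zero i)⟩
  | step H K L hHK hn _ ih =>
    obtain ⟨n, f, hf0, hfn, hf⟩ := ih
    refine ⟨n + 1, fun i => Nat.casesOn i H (fun j => f j), rfl, hfn, ?_⟩
    intro i hi
    cases i with
    | zero => exact ⟨by simpa [hf0] using hHK, by simpa [hf0] using hn⟩
    | succ j => exact hf j (by omega)

/-- if every member of `S` is conjugated into `S` by `x`, then `x` maps `sSup S` into itself -/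
theorem sSup_le_comap_conj {S : Set (Subgroup G)} (x : G) (h : ∀ Y ∈ S, MulAut.conj x • Y ∈ S) :
    sSup S ≤ (sSup S : Subgroup G).comap (MulAut.conj x).toMonoidHom := by
  refine sSup_le fun Y hY => ?_
  intro y hy
  rw [Subgroup.mem_comap]
  have h1 : MulAut.conj x • Y ≤ sSup S := le_sSup (h Y hY)
  exact h1 (Subgroup.smul_mem_pointwise_smul _ _ _ hy)

theorem mem_normalizer_sSup {S : Set (Subgroup G)} (x : G) (h : ∀ Y ∈ S, MulAut.conj x • Y ∈ S)
    (h' : ∀ Y ∈ S, MulAut.conj x⁻¹ • Y ∈ S) : x ∈ Subgroup.normalizer ((sSup S : Subgroup G) : Set G) := by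
  rw [Subgroup.mem_normalizer_iff]
  intro y
  constructor
  · intro hy
    have := sSup_le_comap_conj x h hy
    simpa using this
  · intro hy
    have := sSup_le_comap_conj x⁻¹ h' hy
    simpa [mul_assoc] using this

/-- Relative form of the lemma: a conjugation-closed family of subnormal subgroups of `V` and a proper
subfamily `S₀`: some member outside `S₀` normalizes the join of `S₀`. -/
theorem exists_le_normalizer_sSup [Finite G] (V : Subgroup G) (S S₀ : Set (Subgroup G))
    (hS : ∀ B ∈ S, SubnIn B V) (hconj : ∀ B ∈ S, ∀ v ∈ V, MulAut.conj v • B ∈ S) (h₀ : S₀ ⊂ S) :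
    ∃ X ∈ S, X ∉ S₀ ∧ X ≤ Subgroup.normalizer ((sSup S₀ : Subgroup G) : Set G) := by
  classical
  have hH : SubnIn (sSup S₀) V := SubnIn.sSup fun U hU => hS U (h₀.subset hU)
  obtain ⟨n, f, hf0, hfn, hf⟩ := hH.exists_chain
  obtain ⟨X₀, hX₀S, hX₀⟩ := Set.exists_of_ssubset h₀
  have hmono : ∀ j, j ≤ n → f 0 ≤ f j := by
    intro j
    induction j with
    | zero => intro _; exact le_rfl
    | succ j ih => intro hj; exact (ih (by omega)).trans (hf j (by omega)).1
  let P : ℕ → Prop := fun i => i ≤ n ∧ ∃ X ∈ S, X ∉ S₀ ∧ X ≤ f i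
  have hex : ∃ i, P i := ⟨n, le_rfl, X₀, hX₀S, hX₀, by rw [hfn]; exact (hS X₀ hX₀S).le⟩
  obtain ⟨hin, X, hXS, hXS₀, hXle⟩ := Nat.find_spec hex
  refine ⟨X, hXS, hXS₀, ?_⟩
  rcases hi : Nat.find hex with _ | j
  · rw [hi, hf0] at hXle
    exact hXle.trans Subgroup.le_normalizer
  · rw [hi] at hXle hin
    have hnotj : ¬ P j := Nat.find_min hex (by omega)
    obtain ⟨-, hnj⟩ := hf j (by omega)
    have hHj : sSup S₀ ≤ f j := hf0 ▸ hmono j (by omega)
    have key : ∀ x ∈ X, ∀ Y ∈ S₀, MulAut.conj x • Y ∈ S₀ := by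
      intro x hx Y hY
      by_contra hcon
      apply hnotj
      refine ⟨by omega, MulAut.conj x • Y, hconj Y (h₀.subset hY) x ((hS X hXS).le hx), hcon, ?_⟩
      rintro _ ⟨y, hy, rfl⟩
      have hyj : y ∈ f j := hHj (le_sSup hY hy)
      have hxn := hnj (hXle hx)
      rw [Subgroup.mem_normalizer_iff] at hxn
      simpa using (hxn y).mp hyj
    intro x hx
    exact mem_normalizer_sSup x (key x hx) (key x⁻¹ (X.inv_mem hx))

/-- Zipper-type uniqueness lemma (Wielandt), relative to a subgroup `Γ` containing all members of `U`. -/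
theorem zipperIn [Finite G] (Γ A : Subgroup G) (U : Set (Subgroup G)) (hU : U.Nonempty)
    (hUΓ : ∀ V ∈ U, V ≤ Γ)
    (S : Subgroup G → Set (Subgroup G))
    (hS : ∀ V B : Subgroup G, B ∈ S V ↔ (∃ g ∈ Γ, B = MulAut.conj g • A) ∧ SubnIn B V)
    (h2 : ∀ V ∈ U, ∀ W ∈ U, ∀ B ∈ S W, B ≤ V → B ∈ S V)
    (h3 : ∀ V ∈ U, ∀ W ∈ U, ∃ X ∈ U,
      Subgroup.normalizer ((sSup (S V ∩ S W) : Subgroup G) : Set G) ⊓ Γ ≤ X) :
    ∃ M ∈ U, ∀ V ∈ U, V ≤ M := by
  classical
  by_contra hno
  have hno : ∀ M ∈ U, ∃ V ∈ U, ¬ V ≤ M := by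
    intro M hM
    by_contra hcon
    exact hno ⟨M, hM, fun V hV => by_contra fun h => hcon ⟨V, hV, h⟩⟩
  have hUfin : U.Finite := Set.toFinite U
  -- V-conjugation preserves S V
  have hSconj : ∀ V ∈ U, ∀ B ∈ S V, ∀ v ∈ V, MulAut.conj v • B ∈ S V := by
    intro V hVU B hB v hv
    rw [hS] at hB ⊢
    obtain ⟨⟨g, hg, rfl⟩, hsn⟩ := hB
    refine ⟨⟨v * g, Γ.mul_mem (hUΓ V hVU hv) hg, by rw [map_mul, mul_smul]⟩, ?_⟩
    have h := hsn.conj v
    rwa [Subgroup.conj_smul_eq_self_of_mem hv] at h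
  -- the key sub-lemma
  have sub : ∀ V X' : Subgroup G, Maximal (· ∈ U) V → Maximal (· ∈ U) X' →
      ∀ S₀ : Set (Subgroup G), S₀ ⊆ S V →
      Subgroup.normalizer ((sSup S₀ : Subgroup G) : Set G) ⊓ Γ ≤ X' →
      (V ≠ X' → (S V ∩ S X').ncard ≤ S₀.ncard) → V = X' := by
    intro V X' hV hX' S₀ hS₀V hN hmax
    by_contra hne
    have hle := hmax hne
    have hS₀X' : S₀ ⊆ S V ∩ S X' := by
      intro B hB
      refine ⟨hS₀V hB, h2 X' hX'.1 V hV.1 B (hS₀V hB) ?_⟩
      have hBV : B ≤ V := ((hS V B).mp (hS₀V hB)).2.le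
      exact (le_inf ((le_sSup hB).trans Subgroup.le_normalizer) (hBV.trans (hUΓ V hV.1))).trans hN
    have heq : S₀ = S V ∩ S X' :=
      Set.eq_of_subset_of_ncard_le hS₀X' hle (Set.toFinite _)
    by_cases hcase : S₀ = S V
    · -- V normalizes sSup (S V)
      have hVN : V ≤ Subgroup.normalizer ((sSup S₀ : Subgroup G) : Set G) := by
        intro v hv
        rw [hcase]
        exact mem_normalizer_sSup v (fun Y hY => hSconj V hV.1 Y hY v hv)
          (fun Y hY => hSconj V hV.1 Y hY v⁻¹ (V.inv_mem hv))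
      have hVX' : V ≤ X' := (le_inf hVN (hUΓ V hV.1)).trans hN
      exact hne (le_antisymm hVX' (hV.2 hX'.1 hVX'))
    · have hss : S₀ ⊂ S V := lt_of_le_of_ne hS₀V hcase
      obtain ⟨B, hBS, hBS₀, hBN⟩ := exists_le_normalizer_sSup V (S V) S₀
        (fun B hB => ((hS V B).mp hB).2) (fun B hB v hv => hSconj V hV.1 B hB v hv) hss
      apply hBS₀
      rw [heq]
      have hBV : B ≤ V := ((hS V B).mp hBS).2.le
      exact ⟨hBS, h2 X' hX'.1 V hV.1 B hBS ((le_inf hBN (hBV.trans (hUΓ V hV.1))).trans hN)⟩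
  -- two distinct maximal members
  obtain ⟨V₀, hV₀⟩ := hU
  obtain ⟨M₁, -, hM₁⟩ := hUfin.exists_le_maximal hV₀
  obtain ⟨V₁, hV₁U, hV₁⟩ := hno M₁ hM₁.1
  obtain ⟨M₂, hV₁M₂, hM₂⟩ := hUfin.exists_le_maximal hV₁U
  have hM₁₂ : M₁ ≠ M₂ := fun h => hV₁ (h ▸ hV₁M₂)
  let Pairs : Set (Subgroup G × Subgroup G) :=
    {q | Maximal (· ∈ U) q.1 ∧ Maximal (· ∈ U) q.2 ∧ q.1 ≠ q.2}
  have hPfin : Pairs.Finite := Set.toFinite _
  have hPne : Pairs.Nonempty := ⟨(M₁, M₂), hM₁, hM₂, hM₁₂⟩
  obtain ⟨⟨V, W⟩, ⟨hV, hW, hVW⟩, hbest⟩ :=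
    Set.exists_max_image Pairs (fun q => (S q.1 ∩ S q.2).ncard) hPfin hPne
  obtain ⟨X, hXU, hNX⟩ := h3 V hV.1 W hW.1
  obtain ⟨X', hXX', hX'⟩ := hUfin.exists_le_maximal hXU
  have e1 : V = X' := sub V X' hV hX' (S V ∩ S W) Set.inter_subset_left (hNX.trans hXX')
    (fun hne => hbest (V, X') ⟨hV, hX', hne⟩)
  have e2 : W = X' := sub W X' hW hX' (S V ∩ S W) Set.inter_subset_right (hNX.trans hXX')
    (fun hne => by
      have := hbest (W, X') ⟨hW, hX', hne⟩
      simpa using this)
  exact hVW (e1.trans e2.symm)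

/-- Zipper-type uniqueness lemma (Wielandt). -/
theorem zipper [Finite G] (A : Subgroup G) (U : Set (Subgroup G)) (hU : U.Nonempty)
    (S : Subgroup G → Set (Subgroup G))
    (hS : ∀ V B : Subgroup G, B ∈ S V ↔ (∃ g : G, B = MulAut.conj g • A) ∧ SubnIn B V)
    (h2 : ∀ V ∈ U, ∀ W ∈ U, ∀ B ∈ S W, B ≤ V → B ∈ S V)
    (h3 : ∀ V ∈ U, ∀ W ∈ U, ∃ X ∈ U,
      Subgroup.normalizer ((sSup (S V ∩ S W) : Subgroup G) : Set G) ≤ X) :
    ∃ M ∈ U, ∀ V ∈ U, V ≤ M := by
  refine zipperIn ⊤ A U hU (fun _ _ => le_top) S ?_ h2 ?_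
  · intro V B
    rw [hS]
    simp
  · intro V hV W hW
    obtain ⟨X, hX, h⟩ := h3 V hV W hW
    exact ⟨X, hX, inf_le_left.trans h⟩

theorem conj_smul_sup (g : G) (A B : Subgroup G) :
    MulAut.conj g • (A ⊔ B) = MulAut.conj g • A ⊔ MulAut.conj g • B := by
  simp only [Subgroup.pointwise_smul_def]
  exact Subgroup.map_sup _ _ _

theorem card_lt_of_lt' [Finite G] {A B : Subgroup G} (h : A < B) : Nat.card A < Nat.card B := by
  refine lt_of_le_of_ne (Subgroup.card_le_of_le h.le) ?_
  intro heq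
  have : A = B := by
    apply SetLike.coe_injective
    apply Set.eq_of_subset_of_ncard_le (show (A : Set G) ⊆ B from h.le) ?_ (Set.toFinite _)
    rw [← Nat.card_coe_set_eq, ← Nat.card_coe_set_eq]
    exact heq.ge
  exact h.ne this

/-- Wielandt's subnormality criterion, relative form. -/
theorem wielandt_criterion_aux [Finite G] (n : ℕ) : ∀ V : Subgroup G, Nat.card V = n →
    ∀ B : Subgroup G, B ≤ V → (∀ v ∈ V, SubnIn B (B ⊔ MulAut.conj v • B)) → SubnIn B V := by
  induction n using Nat.strong_induction_on with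
  | _ n ih =>
  intro V hcard B hBV hW
  by_contra hnot
  have hBne : B ≠ V := fun h => hnot (h ▸ SubnIn.refl B)
  have hBlt : B < V := lt_of_le_of_ne hBV hBne
  -- IH in usable form
  have IH : ∀ W : Subgroup G, W < V → ∀ C : Subgroup G, C ≤ W →
      (∀ w ∈ W, SubnIn C (C ⊔ MulAut.conj w • C)) → SubnIn C W := by
    intro W hWV C hCW hC
    exact ih (Nat.card W) (hcard ▸ card_lt_of_lt' hWV) W rfl C hCW hC
  -- conjugates of B under V satisfy the hypothesis too
  have hconjW : ∀ g ∈ V, ∀ v ∈ V,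
      SubnIn (MulAut.conj g • B) (MulAut.conj g • B ⊔ MulAut.conj v • (MulAut.conj g • B)) := by
    intro g hg v hv
    have h1 := hW (g⁻¹ * v * g) (V.mul_mem (V.mul_mem (V.inv_mem hg) hv) hg)
    have h2 := h1.conj g
    rw [conj_smul_sup, ← mul_smul, ← map_mul] at h2
    rw [← mul_smul, ← map_mul]
    have : g * (g⁻¹ * v * g) = v * g := by group
    rwa [this] at h2
  let U : Set (Subgroup G) := {W | B ≤ W ∧ W < V}
  let S : Subgroup G → Set (Subgroup G) :=
    fun W => {C | (∃ g ∈ V, C = MulAut.conj g • B) ∧ SubnIn C W}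
  have hBU : B ∈ U := ⟨le_rfl, hBlt⟩
  have hmemS : ∀ W ∈ U, ∀ C : Subgroup G, (∃ g ∈ V, C = MulAut.conj g • B) → C ≤ W → C ∈ S W := by
    intro W hWU C hC hCW
    refine ⟨hC, ?_⟩
    obtain ⟨g, hg, rfl⟩ := hC
    exact IH W hWU.2 _ hCW (fun w hw => hconjW g hg w (hWU.2.le hw))
  have hBS : ∀ W ∈ U, B ∈ S W := fun W hWU =>
    hmemS W hWU B ⟨1, V.one_mem, by simp⟩ hWU.1
  obtain ⟨M, hMU, hM⟩ := zipperIn V B U ⟨B, hBU⟩ (fun W hW => hW.2.le) S (fun W C => Iff.rfl)
    (fun W hWU W' _ C hC hCW => hmemS W hWU C hC.1 hCW)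
    (by
      intro W hWU W' hW'U
      set T : Subgroup G := sSup (S W ∩ S W') with hT
      have hBT : B ≤ T := le_sSup ⟨hBS W hWU, hBS W' hW'U⟩
      have hTW : T ≤ W := sSup_le fun C hC => hC.1.2.le
      by_cases hN : Subgroup.normalizer (T : Set G) ⊓ V = V
      · exfalso
        apply hnot
        have h1 : SubnIn B T := (hBS W hWU).2.of_le_le hBT hTW
        have h2 : SubnIn T V := SubnIn.of_normal (hTW.trans hWU.2.le) (by rw [← hN]; exact inf_le_left)
        exact h1.trans h2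
      · exact ⟨_, ⟨hBT.trans (le_inf Subgroup.le_normalizer (hTW.trans hWU.2.le)),
          lt_of_le_of_ne inf_le_right hN⟩, le_rfl⟩)
  -- all V-conjugates of B lie in M
  have hconjM : ∀ v ∈ V, MulAut.conj v • B ≤ M := by
    intro v hv
    have hDV : B ⊔ MulAut.conj v • B ≤ V := by
      refine sup_le hBV ?_
      rintro _ ⟨b, hb, rfl⟩
      exact V.mul_mem (V.mul_mem hv (hBV hb)) (V.inv_mem hv)
    by_cases hD : B ⊔ MulAut.conj v • B = V
    · exact absurd (hD ▸ hW v hv) hnot
    · exact le_sup_right.trans (hM _ ⟨le_sup_left, lt_of_le_of_ne hDV hD⟩)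
  -- normal closure
  let N₀ : Subgroup G := sSup {C | ∃ v ∈ V, C = MulAut.conj v • B}
  have hBN₀ : B ≤ N₀ := le_sSup ⟨1, V.one_mem, by simp⟩
  have hN₀M : N₀ ≤ M := sSup_le (by rintro _ ⟨v, hv, rfl⟩; exact hconjM v hv)
  have hN₀V : N₀ < V := lt_of_le_of_lt hN₀M hMU.2
  have hnorm : V ≤ Subgroup.normalizer (N₀ : Set G) := by
    intro v hv
    apply mem_normalizer_sSup
    · rintro _ ⟨w, hw, rfl⟩
      exact ⟨v * w, V.mul_mem hv hw, by rw [map_mul, mul_smul]⟩
    · rintro _ ⟨w, hw, rfl⟩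
      exact ⟨v⁻¹ * w, V.mul_mem (V.inv_mem hv) hw, by rw [map_mul, mul_smul]⟩
  have h1 : SubnIn B N₀ := IH N₀ hN₀V B hBN₀ (fun w hw => hW w (hN₀V.le hw))
  exact hnot (h1.trans (SubnIn.of_normal hN₀V.le hnorm))

theorem wielandt_criterion [Finite G] (A : Subgroup G)
    (h : ∀ g : G, SubnIn A (A ⊔ MulAut.conj g • A)) : A.IsSubnormal := by
  rw [← SubnIn.top_iff]
  exact wielandt_criterion_aux _ ⊤ rfl A le_top (fun v _ => h v)

theorem mem_conj_smul (g x : G) (C : Subgroup G) : x ∈ MulAut.conj g • C ↔ g⁻¹ * x * g ∈ C := by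
  rw [Subgroup.mem_pointwise_smul_iff_inv_smul_mem]
  simp [MulAut.smul_def]

theorem card_conj_smul (g : G) (C : Subgroup G) :
    Nat.card (MulAut.conj g • C : Subgroup G) = Nat.card C := by
  rw [Subgroup.pointwise_smul_def]
  exact Subgroup.card_map_of_injective (MulAut.conj g).injective

/-- The zipper lemma in the form used for subnormality criteria: for a hypothesis `Hyp B V` that is
inherited by subgroups and by `V`-conjugates, a minimal failure `B ≤ V` (not subnormal in `V`, while the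
criterion holds in all proper subgroups of `V`) lies in a greatest proper subgroup `M` of `V` containing `B`. -/
theorem zipper_max [Finite G] (Hyp : Subgroup G → Subgroup G → Prop)
    (hmono : ∀ B V W : Subgroup G, Hyp B V → W ≤ V → Hyp B W)
    (hconj : ∀ (B V : Subgroup G) (g : G), Hyp B V → g ∈ V → Hyp (MulAut.conj g • B) V)
    (V B : Subgroup G) (hBV : B ≤ V) (hB : Hyp B V) (hnot : ¬ SubnIn B V)
    (IH : ∀ W : Subgroup G, W < V → ∀ C : Subgroup G, C ≤ W → Hyp C W → SubnIn C W) :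
    ∃ M : Subgroup G, B ≤ M ∧ M < V ∧ ∀ W : Subgroup G, B ≤ W → W < V → W ≤ M := by
  have hBne : B ≠ V := fun h => hnot (h ▸ SubnIn.refl B)
  have hBlt : B < V := lt_of_le_of_ne hBV hBne
  let U : Set (Subgroup G) := {W | B ≤ W ∧ W < V}
  let S : Subgroup G → Set (Subgroup G) :=
    fun W => {C | (∃ g ∈ V, C = MulAut.conj g • B) ∧ SubnIn C W}
  have hBU : B ∈ U := ⟨le_rfl, hBlt⟩
  have hmemS : ∀ W ∈ U, ∀ C : Subgroup G, (∃ g ∈ V, C = MulAut.conj g • B) → C ≤ W → C ∈ S W := by
    intro W hWU C hC hCW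
    refine ⟨hC, ?_⟩
    obtain ⟨g, hg, rfl⟩ := hC
    exact IH W hWU.2 _ hCW (hmono _ V W (hconj B V g hB hg) hWU.2.le)
  have hBS : ∀ W ∈ U, B ∈ S W := fun W hWU =>
    hmemS W hWU B ⟨1, V.one_mem, by simp⟩ hWU.1
  obtain ⟨M, hMU, hM⟩ := zipperIn V B U ⟨B, hBU⟩ (fun W hW => hW.2.le) S (fun W C => Iff.rfl)
    (fun W hWU W' _ C hC hCW => hmemS W hWU C hC.1 hCW)
    (by
      intro W hWU W' hW'U
      set T : Subgroup G := sSup (S W ∩ S W') with hT
      have hBT : B ≤ T := le_sSup ⟨hBS W hWU, hBS W' hW'U⟩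
      have hTW : T ≤ W := sSup_le fun C hC => hC.1.2.le
      by_cases hN : Subgroup.normalizer (T : Set G) ⊓ V = V
      · exfalso
        apply hnot
        have h1 : SubnIn B T := (hBS W hWU).2.of_le_le hBT hTW
        have h2 : SubnIn T V := SubnIn.of_normal (hTW.trans hWU.2.le) (by rw [← hN]; exact inf_le_left)
        exact h1.trans h2
      · exact ⟨_, ⟨hBT.trans (le_inf Subgroup.le_normalizer (hTW.trans hWU.2.le)),
          lt_of_le_of_ne inf_le_right hN⟩, le_rfl⟩)
  exact ⟨M, hMU.1, hMU.2, fun W h1 h2 => hM W ⟨h1, h2⟩⟩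

/-- Wielandt's refined criterion (relative form): it suffices that `B` is subnormal in `⟨B, B^x⟩` for the
`V`-conjugates `x = v⁻¹ b v` of elements `b` of `B`. -/
theorem wielandt_criterion_elements_aux [Finite G] (n : ℕ) : ∀ V : Subgroup G, Nat.card V = n →
    ∀ B : Subgroup G, B ≤ V →
    (∀ b ∈ B, ∀ v ∈ V, SubnIn B (B ⊔ MulAut.conj (v⁻¹ * b * v) • B)) → SubnIn B V := by
  induction n using Nat.strong_induction_on with
  | _ n ih =>
  intro V hcard B hBV hW
  by_contra hnot
  let Hyp : Subgroup G → Subgroup G → Prop :=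
    fun B V => ∀ b ∈ B, ∀ v ∈ V, SubnIn B (B ⊔ MulAut.conj (v⁻¹ * b * v) • B)
  have IH : ∀ W : Subgroup G, W < V → ∀ C : Subgroup G, C ≤ W → Hyp C W → SubnIn C W := by
    intro W hWV C hCW hC
    exact ih (Nat.card W) (hcard ▸ card_lt_of_lt' hWV) W rfl C hCW hC
  have hmono : ∀ B V W : Subgroup G, Hyp B V → W ≤ V → Hyp B W :=
    fun B V W h hWV b hb w hw => h b hb w (hWV hw)
  have hconj : ∀ (B V : Subgroup G) (g : G), Hyp B V → g ∈ V → Hyp (MulAut.conj g • B) V := by
    intro B V g h hg c hc v hv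
    rw [mem_conj_smul] at hc
    have h1 := h _ hc (g⁻¹ * v * g) (V.mul_mem (V.mul_mem (V.inv_mem hg) hv) hg)
    have h2 := h1.conj g
    rw [conj_smul_sup, ← mul_smul, ← map_mul] at h2
    rw [← mul_smul, ← map_mul]
    have : g * ((g⁻¹ * v * g)⁻¹ * (g⁻¹ * c * g) * (g⁻¹ * v * g)) = v⁻¹ * c * v * g := by
      group
    rwa [this] at h2
  obtain ⟨M, hBM, hMV, hM⟩ := zipper_max Hyp hmono hconj V B hBV hW hnot IH
  -- every x = v⁻¹ b v normalizes M
  have hxM : ∀ b ∈ B, ∀ v ∈ V, MulAut.conj (v⁻¹ * b * v) • B ≤ M := by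
    intro b hb v hv
    have hxV : v⁻¹ * b * v ∈ V := V.mul_mem (V.mul_mem (V.inv_mem hv) (hBV hb)) hv
    have hDV : B ⊔ MulAut.conj (v⁻¹ * b * v) • B ≤ V := by
      refine sup_le hBV ?_
      rintro _ ⟨c, hc, rfl⟩
      exact V.mul_mem (V.mul_mem hxV (hBV hc)) (V.inv_mem hxV)
    by_cases hD : B ⊔ MulAut.conj (v⁻¹ * b * v) • B = V
    · exact absurd (hD ▸ hW b hb v hv) hnot
    · exact le_sup_right.trans (hM _ le_sup_left (lt_of_le_of_ne hDV hD))
  have hconjM : ∀ b ∈ B, ∀ v ∈ V, ∀ m ∈ M, (v⁻¹ * b * v) * m * (v⁻¹ * b * v)⁻¹ ∈ M := by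
    intro b hb v hv m hm
    -- conj x • M is a proper subgroup of V containing B, where x = v⁻¹ b v; B ≤ conj x • M since conj x⁻¹ • B ≤ M
    have hxV : v⁻¹ * b * v ∈ V := V.mul_mem (V.mul_mem (V.inv_mem hv) (hBV hb)) hv
    have h1 : B ≤ MulAut.conj (v⁻¹ * b * v) • M := by
      intro c hc
      rw [Subgroup.mem_pointwise_smul_iff_inv_smul_mem]
      have h2 := hxM b⁻¹ (B.inv_mem hb) v hv
      have h3 : (MulAut.conj (v⁻¹ * b⁻¹ * v)) • c ∈ MulAut.conj (v⁻¹ * b⁻¹ * v) • B :=
        Subgroup.smul_mem_pointwise_smul _ _ _ hc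
      have h4 : (MulAut.conj (v⁻¹ * b * v))⁻¹ = MulAut.conj (v⁻¹ * b⁻¹ * v) := by
        rw [← map_inv]; congr 1; group
      rw [h4]
      exact h2 h3
    have h2 : MulAut.conj (v⁻¹ * b * v) • M < V := by
      have hle : MulAut.conj (v⁻¹ * b * v) • M ≤ V := by
        rintro _ ⟨m', hm', rfl⟩
        exact V.mul_mem (V.mul_mem hxV (hMV.le hm')) (V.inv_mem hxV)
      refine lt_of_le_of_ne hle ?_
      intro heq
      have hcardeq : Nat.card (MulAut.conj (v⁻¹ * b * v) • M : Subgroup G) = Nat.card M :=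
        card_conj_smul _ _
      have := card_lt_of_lt' hMV
      rw [← hcardeq, heq] at this
      exact lt_irrefl _ this
    have h3 := hM _ h1 h2
    exact h3 (Subgroup.smul_mem_pointwise_smul _ _ _ hm)
  -- the normal closure K of B in V
  let K : Subgroup G := sSup {C | ∃ v ∈ V, C = MulAut.conj v • B}
  have hBK : B ≤ K := le_sSup ⟨1, V.one_mem, by simp⟩
  have hKV : K ≤ V := by
    refine sSup_le ?_
    rintro _ ⟨v, hv, rfl⟩
    rintro _ ⟨c, hc, rfl⟩
    exact V.mul_mem (V.mul_mem hv (hBV hc)) (V.inv_mem hv)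
  have hnormK : V ≤ Subgroup.normalizer (K : Set G) := by
    intro v hv
    apply mem_normalizer_sSup
    · rintro _ ⟨w, hw, rfl⟩
      exact ⟨v * w, V.mul_mem hv hw, by rw [map_mul, mul_smul]⟩
    · rintro _ ⟨w, hw, rfl⟩
      exact ⟨v⁻¹ * w, V.mul_mem (V.inv_mem hv) hw, by rw [map_mul, mul_smul]⟩
  have hKN : K ≤ Subgroup.normalizer (M : Set G) := by
    refine sSup_le ?_
    rintro _ ⟨v, hv, rfl⟩
    intro x hx
    rw [mem_conj_smul] at hx
    have hxe : x = (v⁻¹)⁻¹ * (v⁻¹ * x * v) * v⁻¹ := by group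
    rw [Subgroup.mem_normalizer_iff]
    intro m
    constructor
    · intro hm
      have := hconjM _ hx v⁻¹ (V.inv_mem hv) m hm
      rwa [← hxe] at this
    · intro hm
      have := hconjM _ (B.inv_mem hx) v⁻¹ (V.inv_mem hv) _ hm
      convert this using 1
      group
  by_cases hK : K = V
  · apply hnot
    have h1 : SubnIn B M := IH M hMV B hBM (hmono B V M hW hMV.le)
    exact h1.trans (SubnIn.of_normal hMV.le (hK ▸ hKN))
  · apply hnot
    have hKlt : K < V := lt_of_le_of_ne hKV hK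
    have h1 : SubnIn B K := IH K hKlt B hBK (hmono B V K hW hKV)
    exact h1.trans (SubnIn.of_normal hKV hnormK)

theorem wielandt_criterion_elements [Finite G] (A : Subgroup G)
    (h : ∀ a ∈ A, ∀ g : G, SubnIn A (A ⊔ MulAut.conj (g⁻¹ * a * g) • A)) : A.IsSubnormal := by
  rw [← SubnIn.top_iff]
  exact wielandt_criterion_elements_aux _ ⊤ rfl A le_top (fun a ha v _ => h a ha v)

end

end Cfsg.Agent.Lib.Lead_Subnormal
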