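import Mathlib
import Cfsg.Agent.Lib.Helper25_QuadLA
import Cfsg.Agent.Lib.Helper25_QuadRep
import Cfsg.Agent.Lib.Helper34_PStable
import Cfsg.Agent.Lib.Helper1_Cores
import Cfsg.Agent.Lib.Helper55_Fitting
import Cfsg.Agent.Lib.Helper71_Fitting
import Cfsg.Agent.Lib.Lead_Subnormal

/-!
# `p`-stability of solvable groups of odd order

* `centralizes_minimal`: in a finite solvable group of odd order, an element acting quadratically
  on a minimal normal elementary abelian `p`-subgroup centralizes it.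
-/

set_option autoImplicit false
set_option linter.style.haveILetI false

namespace Cfsg.Agent.Lib.Helper25_OddStable

open Cfsg
open scoped commutatorElement

universe u

variable {X : Type u} [Group X]

/-- a minimal normal subgroup of a finite group: no normal `p`-subgroup acts nontrivially modulo
the centralizer -/
theorem pCore_quotient_centralizer_eq_bot [Finite X] {p : ℕ} [Fact p.Prime]
    (U : Subgroup X) [hUn : U.Normal] (hU1 : U ≠ ⊥) (hUp : ∀ u ∈ U, u ^ p = 1)
    (hmin : ∀ L : Subgroup X, L.Normal → L ≤ U → L = ⊥ ∨ L = U) :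
    pCore p (X ⧸ Subgroup.centralizer (U : Set X)) = ⊥ := by
  classical
  set C := Subgroup.centralizer (U : Set X) with hC
  set L : Subgroup X := (pCore p (X ⧸ C)).comap (QuotientGroup.mk' C) with hL
  have hLn : L.Normal := by
    have : (pCore p (X ⧸ C)).Normal := Cfsg.Agent.Lib.Helper1_Cores.pCore_normal p
    exact Subgroup.Normal.comap this _
  -- the image of `L` in `Aut U` is a `p`-group
  let Φ : X →* MulAut U := MulAut.conjNormal
  have hA : IsPGroup p (L.map Φ) := by
    rintro ⟨_, l, hl, rfl⟩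
    have hlp : IsPGroup p (pCore p (X ⧸ C)) := Cfsg.Agent.Lib.Helper1_Cores.pCore_isPGroup p
    obtain ⟨j, hj⟩ := hlp ⟨QuotientGroup.mk' C l, hl⟩
    refine ⟨j, Subtype.ext ?_⟩
    have h1 : (QuotientGroup.mk' C l) ^ p ^ j = 1 := by
      simpa using congrArg Subtype.val hj
    rw [← map_pow, QuotientGroup.mk'_apply, QuotientGroup.eq_one_iff] at h1
    show Φ l ^ p ^ j = 1
    rw [← map_pow]
    exact (Cfsg.Agent.Lib.Helper34_PStable.conjNormal_eq_one_iff (U := U) _).mpr h1
  have hUpg : IsPGroup p U := by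
    rintro ⟨u, hu⟩
    exact ⟨1, Subtype.ext (by simpa using hUp u hu)⟩
  have hdvd : p ∣ Nat.card U := by
    have hnt : Nontrivial U := (Subgroup.nontrivial_iff_ne_bot U).mpr hU1
    obtain ⟨n, hn0, hn⟩ := hUpg.nontrivial_iff_card.mp hnt
    rw [hn]
    exact dvd_pow_self _ (ne_of_gt hn0)
  have hfix : (1 : U) ∈ MulAction.fixedPoints (L.map Φ) U := by
    rintro ⟨f, hf⟩
    show f 1 = 1
    exact map_one f
  obtain ⟨z, hz, hz1⟩ := hA.exists_fixed_point_of_prime_dvd_card_of_fixed_point U hdvd hfix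
  -- `z` is centralized by `L`
  set U₁ : Subgroup X := U ⊓ Subgroup.centralizer (L : Set X) with hU₁
  have hU₁n : U₁.Normal := by
    have : (Subgroup.centralizer (L : Set X)).Normal := Subgroup.normal_centralizer
    infer_instance
  have hzU₁ : (z : X) ∈ U₁ := by
    refine Subgroup.mem_inf.mpr ⟨z.2, ?_⟩
    rw [Subgroup.mem_centralizer_iff]
    intro l hl
    have h1 := hz ⟨Φ l, Subgroup.mem_map_of_mem Φ hl⟩
    have h2 : l * (z : X) * l⁻¹ = z := by
      have := congrArg Subtype.val h1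
      simpa [Φ] using this
    calc l * (z : X) = (l * z * l⁻¹) * l := by group
      _ = z * l := by rw [h2]
  have hU₁ne : U₁ ≠ ⊥ := by
    intro h0
    rw [h0, Subgroup.mem_bot] at hzU₁
    exact hz1 (Subtype.ext hzU₁.symm)
  have hU₁U : U₁ = U := (hmin U₁ hU₁n inf_le_left).resolve_left hU₁ne
  have hLC : L ≤ C := by
    intro l hl
    rw [hC, Subgroup.mem_centralizer_iff]
    intro u hu
    have : u ∈ U₁ := by rw [hU₁U]; exact hu
    have h3 := Subgroup.mem_centralizer_iff.mp (Subgroup.mem_inf.mp this).2 l hl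
    exact h3.symm
  rw [eq_bot_iff]
  intro x hx
  obtain ⟨g, rfl⟩ := QuotientGroup.mk'_surjective C x
  have : g ∈ L := hx
  rw [Subgroup.mem_bot]
  exact (QuotientGroup.eq_one_iff g).mpr (hLC this)

/-- **Quadratic action on a minimal normal subgroup is trivial** (solvable groups of odd order). -/
theorem centralizes_minimal [Finite X] [Group.IsSolvable X] (hodd : Odd (Nat.card X)) {p : ℕ}
    [Fact p.Prime] (U : Subgroup X) [hUn : U.Normal] (hU1 : U ≠ ⊥)
    (hUc : ∀ u ∈ U, ∀ v ∈ U, u * v = v * u) (hUp : ∀ u ∈ U, u ^ p = 1)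
    (hmin : ∀ L : Subgroup X, L.Normal → L ≤ U → L = ⊥ ∨ L = U)
    (a : X) (ha : ∀ u ∈ U, a * ⁅a, u⁆ = ⁅a, u⁆ * a) :
    a ∈ Subgroup.centralizer (U : Set X) := by
  classical
  obtain ⟨W, _, _, _, ρ, hker, hquad⟩ := Cfsg.Agent.Lib.Helper25_QuadRep.exists_rep p U hUc hUp
  set C := Subgroup.centralizer (U : Set X) with hC
  have hCn : C.Normal := Subgroup.normal_centralizer
  let ρK : Representation (AlgebraicClosure (ZMod p)) (X ⧸ C) W :=
    QuotientGroup.lift C ρ (fun g hg => (hker g).mpr hg)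
  have hρK : ∀ g : X, ρK (QuotientGroup.mk g) = ρ g := fun g => rfl
  have hfaith : ∀ x : X ⧸ C, ρK x = 1 → x = 1 := by
    intro x hx
    obtain ⟨g, rfl⟩ := QuotientGroup.mk_surjective x
    rw [hρK] at hx
    exact (QuotientGroup.eq_one_iff g).mpr ((hker g).mp hx)
  have hinj : Function.Injective ρK := by
    intro x y h
    have : ρK (x * y⁻¹) = 1 := by
      rw [map_mul, h, ← map_mul, mul_inv_cancel, map_one]
    exact mul_inv_eq_one.mp (hfaith _ this)
  have hKodd : Odd (Nat.card (X ⧸ C)) := Odd.of_dvd_nat hodd (Subgroup.card_quotient_dvd_card C)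
  have hO : pCore p (X ⧸ C) = ⊥ := pCore_quotient_centralizer_eq_bot U hU1 hUp hmin
  set F := fittingSubgroup (X ⧸ C) with hF
  have hFn : F.Normal := Cfsg.Agent.Lib.Helper1_Cores.fittingSubgroup_normal
  have hFnil : Group.IsNilpotent F := Cfsg.Agent.Lib.Helper1_Cores.fittingSubgroup_isNilpotent
  have hFp : (Nat.card F).Coprime p := by
    rw [Nat.coprime_comm, Nat.Prime.coprime_iff_not_dvd (Fact.out : p.Prime)]
    intro hd
    obtain ⟨z, hz⟩ := exists_prime_orderOf_dvd_card' p hd
    have hzo : orderOf (z : X ⧸ C) = p ^ 1 := by rw [pow_one, ← hz]; exact (Subgroup.orderOf_coe z)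
    have hzc : (z : X ⧸ C) ∈ pCore p (X ⧸ C) := by
      rw [Cfsg.Agent.Lib.Helper1_Cores.pCore_eq_iInf_sylow, Subgroup.mem_iInf]
      intro P
      exact Cfsg.Agent.Lib.Helper71_Fitting.mem_sylow_of_mem_fitting z.2 hzo P
    rw [hO, Subgroup.mem_bot] at hzc
    rw [hzc, orderOf_one, pow_one] at hzo
    have := (Fact.out : p.Prime).one_lt
    omega
  set ā : X ⧸ C := QuotientGroup.mk a with hā
  have hq : (ρK ā - 1) * (ρK ā - 1) = 0 := by rw [hā, hρK]; exact hquad a ha
  -- `ā` centralizes the Fitting subgroup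
  have hcent : ā ∈ Subgroup.centralizer (F : Set (X ⧸ C)) := by
    rw [Subgroup.mem_centralizer_iff]
    intro r hr
    have hc := Cfsg.Agent.Lib.Helper25_QuadLA.commute_of_quadratic (p := p) hKodd ρK F hFnil hFp ā hq hr
    apply hinj
    rw [map_mul, map_mul]
    exact hc.eq.symm
  have hāF : ā ∈ F := Cfsg.Agent.Lib.Helper55_Fitting.centralizer_fittingSubgroup_le hcent
  -- `ā ^ p = 1`
  have hāp : ā ^ p = 1 := by
    apply hfaith
    rw [map_pow]
    exact Cfsg.Agent.Lib.Helper25_QuadLA.pow_char_eq_one_of_sq_zero (p := p) _ hq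
  have hā1 : ā = 1 := by
    have h1 : orderOf (⟨ā, hāF⟩ : F) ∣ Nat.card F := orderOf_dvd_natCard _
    have h2 : orderOf (⟨ā, hāF⟩ : F) ∣ p := by
      apply orderOf_dvd_of_pow_eq_one
      exact Subtype.ext (by simpa using hāp)
    have h3 : orderOf (⟨ā, hāF⟩ : F) = 1 := Nat.eq_one_of_dvd_coprimes hFp h1 h2
    have h4 := orderOf_eq_one_iff.mp h3
    simpa using congrArg Subtype.val h4
  exact (QuotientGroup.eq_one_iff a).mp hā1

open Cfsg.Agent.Lib.Helper34_PStable in
/-- induction on `|V|`: a quadratically acting element lies in a normal subgroup `D ≥ C_X(V)` with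
`D / C_X(V)` a `p`-group -/
theorem quadratic_induction {p : ℕ} [Fact p.Prime] :
    ∀ (n : ℕ) (X : Type u) [Group X] [Finite X] [Group.IsSolvable X], Odd (Nat.card X) →
      ∀ (V : Subgroup X) [V.Normal], IsPGroup p V → Nat.card V ≤ n →
      ∀ a : X, (∀ v ∈ V, a * ⁅a, v⁆ = ⁅a, v⁆ * a) →
      ∃ D : Subgroup X, D.Normal ∧ Subgroup.centralizer (V : Set X) ≤ D ∧ a ∈ D ∧
        ∀ d ∈ D, ∃ j : ℕ, d ^ (p ^ j) ∈ Subgroup.centralizer (V : Set X) := by
  intro n
  induction n with
  | zero =>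
    intro X _ _ _ _ V _ _ hcard
    exfalso
    have : 0 < Nat.card V := Nat.card_pos
    omega
  | succ n ih =>
    intro X _ _ _ hodd V hVn hV hcard a ha
    by_cases hV1 : V = ⊥
    · subst hV1
      refine ⟨⊤, inferInstance, le_top, Subgroup.mem_top a, fun d _ => ⟨0, ?_⟩⟩
      rw [Subgroup.mem_centralizer_iff]
      intro v hv
      rw [Subgroup.coe_bot, Set.mem_singleton_iff] at hv
      rw [hv, one_mul, mul_one]
    -- a minimal normal subgroup inside `V`
    obtain ⟨U₀, ⟨hU₀n, hU₀1, hU₀min⟩, hU₀V⟩ :=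
      Cfsg.Agent.Lib.Lead_Subnormal.exists_isMinNormal_le V hVn hV1
    have hΩn : (omegaCentral p U₀ V hU₀V).Normal := omegaCentral_normal hU₀V
    have hΩ1 : omegaCentral p U₀ V hU₀V ≠ ⊥ := omegaCentral_ne_bot hU₀V hV hU₀1
    have hΩle : omegaCentral p U₀ V hU₀V ≤ U₀ := fun u hu => hu.1
    have hΩeq : omegaCentral p U₀ V hU₀V = U₀ := (hU₀min _ hΩn hΩle).resolve_left hΩ1
    set U := U₀ with hUdef
    have hUn : U.Normal := hU₀n
    have hUV : U ≤ V := hU₀V
    have hUmem : ∀ u ∈ U, u ∈ Subgroup.centralizer (V : Set X) ∧ u ^ p = 1 := by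
      intro u hu
      have : u ∈ omegaCentral p U₀ V hU₀V := by rw [hΩeq]; exact hu
      exact this.2
    have hUc : ∀ u ∈ U, ∀ v ∈ U, u * v = v * u := fun u hu v hv =>
      (Subgroup.mem_centralizer_iff.mp (hUmem v hv).1 u (hUV hu))
    have hUp : ∀ u ∈ U, u ^ p = 1 := fun u hu => (hUmem u hu).2
    have haU : a ∈ Subgroup.centralizer (U : Set X) :=
      centralizes_minimal hodd U hU₀1 hUc hUp hU₀min a (fun u hu => ha u (hUV hu))
    -- the quotient
    let π := QuotientGroup.mk' U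
    have hπ : Function.Surjective π := QuotientGroup.mk'_surjective U
    have hV' : (V.map π).Normal := hVn.map π hπ
    have hVp' : IsPGroup p (V.map π) := hV.map π
    have hcard' : Nat.card (V.map π) ≤ n := by
      have := card_map_lt V U π hUV hU₀1 (by rw [QuotientGroup.ker_mk'])
      omega
    have hodd' : Odd (Nat.card (X ⧸ U)) :=
      Odd.of_dvd_nat hodd (Subgroup.card_quotient_dvd_card U)
    have hq' : ∀ v' ∈ V.map π, π a * ⁅π a, v'⁆ = ⁅π a, v'⁆ * π a := by
      rintro _ ⟨v, hv, rfl⟩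
      rw [← map_commutatorElement, ← map_mul, ← map_mul, ha v hv]
    obtain ⟨D', hD'n, hCD', haD', hD'p⟩ := ih (X ⧸ U) hodd' (V.map π) hVp' hcard' (π a) hq'
    set CU : Subgroup X := Subgroup.centralizer (U : Set X) with hCU
    have hCUn : CU.Normal := Subgroup.normal_centralizer
    have hcompn : (D'.comap π).Normal := hD'n.comap π
    refine ⟨D'.comap π ⊓ CU, inferInstance, ?_, ⟨haD', haU⟩, ?_⟩
    · intro c hc
      refine ⟨?_, Subgroup.centralizer_le (fun x hx => hUV hx) hc⟩
      apply hCD'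
      rw [Subgroup.mem_centralizer_iff]
      rintro _ ⟨v, hv, rfl⟩
      rw [← map_mul, ← map_mul, Subgroup.mem_centralizer_iff.mp hc v hv]
    · rintro d ⟨hd1, hd2⟩
      obtain ⟨j, hj⟩ := hD'p (π d) hd1
      rw [← map_pow] at hj
      obtain ⟨c, hc⟩ : ∃ c : X, c = d ^ p ^ j := ⟨_, rfl⟩
      rw [← hc] at hj
      have hcU : c ∈ CU := by rw [hc]; exact CU.pow_mem hd2 _
      have hcV : ∀ v ∈ V, ⁅c, v⁆ ∈ U := by
        intro v hv
        have h1 := Subgroup.mem_centralizer_iff.mp hj (π v) (Subgroup.mem_map_of_mem π hv)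
        have h2 : π ⁅c, v⁆ = 1 := by
          rw [map_commutatorElement, commutatorElement_def, ← h1]; group
        exact (QuotientGroup.eq_one_iff _).mp h2
      refine ⟨j + 1, ?_⟩
      rw [pow_succ, pow_mul, ← hc, Subgroup.mem_centralizer_iff]
      intro v hv
      have hu := hcV v hv
      have hcomm : c * ⁅c, v⁆ = ⁅c, v⁆ * c := (Subgroup.mem_centralizer_iff.mp hcU _ hu).symm
      have h1 := conj_pow_of_commute c v hcomm p
      rw [hUp _ hu, one_mul] at h1
      calc v * c ^ p = (c ^ p * v * (c ^ p)⁻¹) * c ^ p := by rw [h1]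
        _ = c ^ p * v := by group

/-- **Core theorem**: in a finite solvable group of odd order, an element acting quadratically on
a normal `p`-subgroup `V` lies in a normal subgroup `D ≥ C_X(V)` with `D / C_X(V)` a `p`-group. -/
theorem exists_normal_of_quadratic [Finite X] [Group.IsSolvable X] (hodd : Odd (Nat.card X))
    {p : ℕ} [Fact p.Prime] (V : Subgroup X) [hVn : V.Normal] (hV : IsPGroup p V) (a : X)
    (ha : ⁅⁅V, Subgroup.zpowers a⁆, Subgroup.zpowers a⁆ = ⊥) :
    ∃ D : Subgroup X, D.Normal ∧ Subgroup.centralizer (V : Set X) ≤ D ∧ a ∈ D ∧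
      ∀ d ∈ D, ∃ j : ℕ, d ^ (p ^ j) ∈ Subgroup.centralizer (V : Set X) :=
  quadratic_induction (Nat.card V) X hodd V hV le_rfl a
    (fun _ hv => Cfsg.Agent.Lib.Helper34_PStable.commute_of_quadratic ha (Subgroup.mem_zpowers a) hv)

/-- a finite solvable group of odd order acts `p`-stably on every normal `p`-subgroup -/
theorem isPStableOn [Finite X] [Group.IsSolvable X] (hodd : Odd (Nat.card X))
    {p : ℕ} [Fact p.Prime] (V : Subgroup X) [V.Normal] (hV : IsPGroup p V) :
    Cfsg.IsPStableOn p V := by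
  intro a ha
  obtain ⟨D, hDn, _, haD, hDp⟩ := exists_normal_of_quadratic hodd V hV a ha
  exact Cfsg.Agent.Lib.Helper34_PStable.mk_mem_pCore_of _ D hDn hDp haD

/-- a finite solvable group of odd order is `p`-stable in the normalizer form -/
theorem isNormalizerPStable {Y : Type u} [Group Y] [Finite Y] [Group.IsSolvable Y]
    (hodd : Odd (Nat.card Y)) {p : ℕ} [Fact p.Prime] : Cfsg.IsNormalizerPStable p Y := by
  intro P hP g hg hquad
  set N : Subgroup Y := Subgroup.normalizer (P : Set Y) with hN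
  have hPN : P ≤ N := Subgroup.le_normalizer
  have hNodd : Odd (Nat.card N) := Odd.of_dvd_nat hodd (Subgroup.card_subgroup_dvd_card N)
  set V : Subgroup N := P.subgroupOf N with hVdef
  have hVn : V.Normal := inferInstance
  have hVp : IsPGroup p V := hP.comap_of_injective N.subtype N.subtype_injective
  have hquad' : ⁅⁅V, Subgroup.zpowers (⟨g, hg⟩ : N)⁆, Subgroup.zpowers (⟨g, hg⟩ : N)⁆ = ⊥ := by
    rw [← Subgroup.map_eq_bot_iff_of_injective _ N.subtype_injective, Subgroup.map_commutator,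
      Subgroup.map_commutator, eq_bot_iff, ← hquad]
    have h1 : V.map N.subtype ≤ P := by
      rintro _ ⟨x, hx, rfl⟩; exact hx
    have h2 : (Subgroup.zpowers (⟨g, hg⟩ : N)).map N.subtype ≤ Subgroup.zpowers g := by
      rw [MonoidHom.map_zpowers]; exact le_rfl
    exact Subgroup.commutator_mono (Subgroup.commutator_mono h1 h2) h2
  obtain ⟨D, hDn, _, haD, hDp⟩ := exists_normal_of_quadratic hNodd V hVp ⟨g, hg⟩ hquad'
  have hCeq : (Subgroup.centralizer (P : Set Y)).subgroupOf N =
      Subgroup.centralizer ((V : Subgroup N) : Set N) := by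
    ext x
    rw [Subgroup.mem_subgroupOf, Subgroup.mem_centralizer_iff, Subgroup.mem_centralizer_iff]
    constructor
    · intro hx v hv
      exact Subtype.ext (hx v hv)
    · intro hx y hy
      exact congrArg Subtype.val (hx ⟨y, hPN hy⟩ hy)
  refine Cfsg.Agent.Lib.Helper34_PStable.mk_mem_pCore_of _ D hDn ?_ haD
  intro d hd
  obtain ⟨j, hj⟩ := hDp d hd
  exact ⟨j, by rw [hCeq]; exact hj⟩

/-- if `C` is a normal `p`-subgroup, the preimage of `O_p(X / C)` lies in `O_p(X)` -/
theorem comap_pCore_le_of_isPGroup {p : ℕ} [Fact p.Prime] (C : Subgroup X) [hCn : C.Normal]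
    (hC : IsPGroup p C) :
    (pCore p (X ⧸ C)).comap (QuotientGroup.mk' C) ≤ pCore p X := by
  have hn : ((pCore p (X ⧸ C)).comap (QuotientGroup.mk' C)).Normal := by
    have : (pCore p (X ⧸ C)).Normal := Cfsg.Agent.Lib.Helper1_Cores.pCore_normal p
    exact Subgroup.Normal.comap this _
  refine Cfsg.Agent.Lib.Helper1_Cores.le_pCore hn ?_
  rintro ⟨l, hl⟩
  have hlp : IsPGroup p (pCore p (X ⧸ C)) := Cfsg.Agent.Lib.Helper1_Cores.pCore_isPGroup p
  obtain ⟨j, hj⟩ := hlp ⟨QuotientGroup.mk' C l, hl⟩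
  have h1 : (QuotientGroup.mk' C l) ^ p ^ j = 1 := by
    simpa using congrArg Subtype.val hj
  rw [← map_pow, QuotientGroup.mk'_apply, QuotientGroup.eq_one_iff] at h1
  obtain ⟨i, hi⟩ := hC ⟨l ^ p ^ j, h1⟩
  refine ⟨j + i, Subtype.ext ?_⟩
  have h2 : (l ^ p ^ j) ^ p ^ i = 1 := by simpa using congrArg Subtype.val hi
  show l ^ p ^ (j + i) = 1
  rw [pow_add, pow_mul, h2]

/-- `p`-stability, element form: a quadratically acting element on a normal `p`-subgroup `V` with
`C_X(V)` a `p`-group lies in `O_p(X)` -/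
theorem mem_pCore_of_quadratic [Finite X] [Group.IsSolvable X] (hodd : Odd (Nat.card X))
    {p : ℕ} [Fact p.Prime] (V : Subgroup X) [hVn : V.Normal] (hV : IsPGroup p V)
    (hC : IsPGroup p (Subgroup.centralizer (V : Set X))) (a : X)
    (ha : ⁅⁅V, Subgroup.zpowers a⁆, Subgroup.zpowers a⁆ = ⊥) : a ∈ pCore p X := by
  have h1 := isPStableOn hodd V hV a ha
  have hCn : (Subgroup.centralizer (V : Set X)).Normal := Subgroup.normal_centralizer
  exact comap_pCore_le_of_isPGroup _ hC h1

end Cfsg.Agent.Lib.Helper25_OddStable
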