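/-
Using p-stability of solvable groups of odd order (statement S1464) — helper52.
`PStab p` is the statement of S1464 for groups in a fixed universe; `le_pCore_of_pstab` turns its
conclusion into membership in `O_p`.
-/
import Mathlib
import Cfsg.Prelude.Def_Solvable
import Cfsg.Agent.Lib.Helper1_Cores
import Cfsg.Agent.S1464

set_option autoImplicit false
set_option linter.unusedSectionVars false
universe u

namespace Cfsg.Agent.Lib.Helper52_PStabUse

open Cfsg
open Cfsg.Agent.Lib.Helper1_Cores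

/-- the statement of S1464 (`p`-stability of solvable groups of odd order), in universe `u` -/
def PStab (p : ℕ) [Fact p.Prime] : Prop :=
  ∀ (G : Type u) [Group G] [Finite G] [Group.IsSolvable G], Odd (Nat.card G) → p ≠ 2 →
    ∀ (P A : Subgroup G), IsPGroup p P → (Cfsg.pPrimeCore p G ⊔ P).Normal → IsPGroup p A →
      A ≤ Subgroup.normalizer (P : Set G) → ⁅⁅P, A⁆, A⁆ = ⊥ →
      (A.subgroupOf (Subgroup.normalizer (P : Set G))).map
        (QuotientGroup.mk' ((Subgroup.centralizer (P : Set G)).subgroupOf (Subgroup.normalizer (P : Set G))))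
      ≤ Cfsg.pCore p _

theorem isPGroup_of_pow_mem {G : Type*} [Group G] (p : ℕ) (L K : Subgroup G) (hK : IsPGroup p K)
    (h : ∀ l ∈ L, ∃ a : ℕ, l ^ p ^ a ∈ K) : IsPGroup p L := by
  intro l
  obtain ⟨a, ha⟩ := h l l.2
  obtain ⟨b, hb⟩ := hK ⟨_, ha⟩
  refine ⟨a + b, ?_⟩
  apply Subtype.ext
  have := congrArg Subtype.val hb
  simp only [Subgroup.coe_pow, Subgroup.coe_one] at this ⊢
  rw [pow_add, pow_mul]
  exact this

/-- If `V ⊴ Z` is a `p`-group whose centralizer is a `p`-group and the `p`-subgroup `A` acts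
quadratically on `V`, then (odd order, solvable, `p` odd, given `p`-stability) `A ≤ O_p(Z)`. -/
theorem le_pCore_of_pstab (p : ℕ) [hp : Fact p.Prime] (hst : PStab.{u} p) (hp2 : p ≠ 2)
    {Z : Type u} [Group Z] [Finite Z] [Group.IsSolvable Z] (hodd : Odd (Nat.card Z))
    (V A : Subgroup Z) [hVn : V.Normal] (hVp : IsPGroup p V) (hAp : IsPGroup p A)
    (hquad : ⁅⁅V, A⁆, A⁆ = ⊥) (hCVp : IsPGroup p (Subgroup.centralizer (V : Set Z))) :
    A ≤ Cfsg.pCore p Z := by
  have hNtop : Subgroup.normalizer (V : Set Z) = ⊤ := Subgroup.normalizer_eq_top_iff.2 hVn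
  have hcon := hst Z hodd hp2 V A hVp inferInstance hAp (by rw [hNtop]; exact le_top) hquad
  set N : Subgroup Z := Subgroup.normalizer (V : Set Z) with hN
  set Cn : Subgroup N := (Subgroup.centralizer (V : Set Z)).subgroupOf N with hCn
  set E := Cfsg.pCore p (N ⧸ Cn) with hE
  have hEn : E.Normal := pCore_normal (G := N ⧸ Cn) p
  have hEp : IsPGroup p E := pCore_isPGroup p
  set L : Subgroup Z := (E.comap (QuotientGroup.mk' Cn)).map N.subtype with hL
  have hmemN : ∀ z : Z, z ∈ N := fun z => by rw [hNtop]; exact Subgroup.mem_top z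
  have hAL : A ≤ L := by
    intro a ha
    refine ⟨⟨a, hmemN a⟩, ?_, rfl⟩
    apply hcon
    exact ⟨⟨a, hmemN a⟩, by rw [SetLike.mem_coe, Subgroup.mem_subgroupOf]; exact ha, rfl⟩
  have hLn : L.Normal := by
    constructor
    rintro _ ⟨l', hl', rfl⟩ g
    refine ⟨⟨g, hmemN g⟩ * l' * ⟨g, hmemN g⟩⁻¹, ?_, by simp⟩
    exact (inferInstance : (E.comap (QuotientGroup.mk' Cn)).Normal).conj_mem l' hl' _
  have hLp : IsPGroup p L := by
    apply isPGroup_of_pow_mem p L _ hCVp
    rintro _ ⟨l', hl', rfl⟩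
    obtain ⟨a, ha⟩ := hEp ⟨_, hl'⟩
    refine ⟨a, ?_⟩
    have h1 : (QuotientGroup.mk' Cn l') ^ p ^ a = 1 := by
      have := congrArg Subtype.val ha
      simpa using this
    rw [← map_pow, QuotientGroup.mk'_apply, QuotientGroup.eq_one_iff, hCn,
      Subgroup.mem_subgroupOf] at h1
    simpa using h1
  exact hAL.trans (le_pCore hLn hLp)

/-- `p`-stability holds (this is S1464). -/
theorem pstab_holds (p : ℕ) [Fact p.Prime] : PStab.{u} p :=
  fun _ _ _ _ hodd hp2 P A hP hPn hA hAN hq =>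
    Cfsg.Agent.S1464.result hodd p hp2 P A hP hPn hA hAN hq

end Cfsg.Agent.Lib.Helper52_PStabUse
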