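import Mathlib

/-!
# Basic p-group lemmas (helper63)
-/

set_option autoImplicit false

namespace Cfsg.Agent.Lib.Helper63_PGroup

open scoped commutatorElement

variable {G : Type*} [Group G]

/-- A subgroup of prime index `p` in a finite `p`-group is normal. -/
theorem normal_of_index_eq_prime [Finite G] {p : ℕ} [hp : Fact p.Prime] (hG : IsPGroup p G)
    (H : Subgroup G) (hH : H.index = p) : H.Normal := by
  apply Subgroup.normal_of_index_eq_minFac_card
  obtain ⟨n, hn⟩ := IsPGroup.iff_card.1 hG
  have hn0 : n ≠ 0 := by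
    rintro rfl
    have h1 : Nat.card G = 1 := by simpa using hn
    have : H.index ∣ Nat.card G := Subgroup.index_dvd_card H
    rw [h1, hH] at this
    exact hp.out.one_lt.ne' (Nat.dvd_one.1 this)
  rw [hn, hH, hp.out.pow_minFac hn0]

/-- if `⁅N, ⊤⁆ = N` then `N` lies in every term of the lower central series -/
theorem le_lowerCentralSeries_of_commutator_eq (N : Subgroup G) (h : ⁅N, (⊤ : Subgroup G)⁆ = N)
    (n : ℕ) : N ≤ (⊤ : Subgroup G).lowerCentralSeries n := by
  induction n with
  | zero => simp
  | succ n ih =>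
    rw [Subgroup.lowerCentralSeries_succ, ← h]
    exact Subgroup.commutator_mono ih le_rfl

/-- A normal subgroup of prime order in a nilpotent group is central. -/
theorem le_center_of_normal_of_card_prime [Group.IsNilpotent G] (N : Subgroup G) [hN : N.Normal]
    (hcard : (Nat.card N).Prime) : N ≤ Subgroup.center G := by
  have hle : ⁅N, (⊤ : Subgroup G)⁆ ≤ N := Subgroup.commutator_le_left N ⊤
  have hbot : ⁅N, (⊤ : Subgroup G)⁆ = ⊥ := by
    by_contra hne
    have hKcard : Nat.card (⁅N, (⊤ : Subgroup G)⁆ : Subgroup G) ∣ Nat.card N := Subgroup.card_dvd_of_le hle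
    have hK1 : Nat.card (⁅N, (⊤ : Subgroup G)⁆ : Subgroup G) ≠ 1 := by
      intro h1
      exact hne (Subgroup.card_eq_one.1 h1)
    have hKeq : Nat.card (⁅N, (⊤ : Subgroup G)⁆ : Subgroup G) = Nat.card N :=
      ((Nat.dvd_prime hcard).1 hKcard).resolve_left hK1
    have : Finite N := Nat.finite_of_card_ne_zero hcard.ne_zero
    have heq : ⁅N, (⊤ : Subgroup G)⁆ = N := by
      apply Subgroup.eq_of_le_of_card_ge hle
      rw [hKeq]
    obtain ⟨n, hn⟩ := (Subgroup.nilpotent_iff_lowerCentralSeries (G := G)).1 inferInstance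
    have := le_lowerCentralSeries_of_commutator_eq N heq n
    rw [hn, le_bot_iff] at this
    rw [this] at hcard
    simp at hcard
    exact Nat.not_prime_one hcard
  intro x hx
  rw [Subgroup.mem_center_iff]
  intro g
  have : ⁅x, g⁆ ∈ (⁅N, (⊤ : Subgroup G)⁆ : Subgroup G) := Subgroup.commutator_mem_commutator hx (Subgroup.mem_top g)
  rw [hbot, Subgroup.mem_bot, commutatorElement_eq_one_iff_mul_comm] at this
  exact this.symm

/-- A normal subgroup of order `p` in a finite `p`-group is central. -/
theorem IsPGroup.le_center_of_normal_of_card_eq [Finite G] {p : ℕ} [hp : Fact p.Prime]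
    (hG : IsPGroup p G) (N : Subgroup G) [N.Normal] (hcard : Nat.card N = p) :
    N ≤ Subgroup.center G := by
  have := hG.isNilpotent
  exact le_center_of_normal_of_card_prime N (hcard ▸ hp.out)

/-- A subgroup of prime index is a coatom. -/
theorem isCoatom_of_index_prime (H : Subgroup G) (hH : H.index.Prime) : IsCoatom H := by
  refine ⟨?_, ?_⟩
  · intro h
    rw [h, Subgroup.index_top] at hH
    exact Nat.not_prime_one hH
  · intro K hK
    have h1 := Subgroup.relIndex_mul_index hK.le
    have h2 : K.index ∣ H.index := ⟨H.relIndex K, by rw [← h1, mul_comm]⟩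
    rcases (Nat.dvd_prime hH).1 h2 with h3 | h3
    · exact Subgroup.index_eq_one.1 h3
    · exfalso
      rw [h3] at h1
      have hpos : 0 < H.index := hH.pos
      have h4 : H.relIndex K = 1 := by
        have : H.relIndex K * H.index = 1 * H.index := by rw [h1, one_mul]
        exact Nat.eq_of_mul_eq_mul_right hpos this
      have := Subgroup.relIndex_eq_one.1 h4
      exact (lt_irrefl _ (lt_of_lt_of_le hK this))

/-- `|H| * |K : H| = |K|` for `H ≤ K`. -/
theorem card_mul_relIndex {H K : Subgroup G} (h : H ≤ K) :
    Nat.card H * H.relIndex K = Nat.card K := by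
  have := Subgroup.relIndex_mul_relIndex (⊥ : Subgroup G) H K bot_le h
  rwa [Subgroup.relIndex_bot_left, Subgroup.relIndex_bot_left] at this

end Cfsg.Agent.Lib.Helper63_PGroup

namespace Cfsg.Agent.Lib.Helper63_PGroup

open scoped commutatorElement

variable {G : Type*} [Group G]

/-- centralizer of a join of subgroups -/
theorem centralizer_sup' (A B : Subgroup G) :
    Subgroup.centralizer ((A ⊔ B : Subgroup G) : Set G) =
      Subgroup.centralizer (A : Set G) ⊓ Subgroup.centralizer (B : Set G) := by
  apply le_antisymm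
  · apply le_inf
    · exact Subgroup.centralizer_le (by exact_mod_cast (le_sup_left : A ≤ A ⊔ B))
    · exact Subgroup.centralizer_le (by exact_mod_cast (le_sup_right : B ≤ A ⊔ B))
  · rintro x ⟨hxA, hxB⟩
    have hxA : x ∈ Subgroup.centralizer (A : Set G) := hxA
    have hxB : x ∈ Subgroup.centralizer (B : Set G) := hxB
    rw [Subgroup.mem_centralizer_iff] at hxA hxB ⊢
    intro y hy
    have hle : A ⊔ B ≤ Subgroup.centralizer ({x} : Set G) := by
      apply sup_le
      · intro a ha
        rw [Subgroup.mem_centralizer_iff]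
        intro z hz
        rw [Set.mem_singleton_iff] at hz
        rw [hz]; exact (hxA a ha).symm
      · intro b hb
        rw [Subgroup.mem_centralizer_iff]
        intro z hz
        rw [Set.mem_singleton_iff] at hz
        rw [hz]; exact (hxB b hb).symm
    have := hle hy
    rw [Subgroup.mem_centralizer_iff] at this
    exact (this x rfl).symm

/-- Adjoining an element commuting with an abelian subgroup gives an abelian subgroup. -/
theorem isMulCommutative_sup_zpowers (D : Subgroup G) [hD : IsMulCommutative D] (x : G)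
    (hx : ∀ d ∈ D, d * x = x * d) : IsMulCommutative ↥(D ⊔ Subgroup.zpowers x) := by
  rw [← Subgroup.le_centralizer_iff_isMulCommutative, centralizer_sup']
  have hxD : x ∈ Subgroup.centralizer (D : Set G) := by
    rw [Subgroup.mem_centralizer_iff]
    exact hx
  have h1 : Subgroup.zpowers x ≤ Subgroup.centralizer (D : Set G) := by
    rw [Subgroup.zpowers_le]; exact hxD
  apply sup_le
  · apply le_inf
    · exact Subgroup.le_centralizer_iff_isMulCommutative.2 hD
    · exact Subgroup.le_centralizer_iff.1 h1
  · apply le_inf h1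
    exact Subgroup.le_centralizer_iff_isMulCommutative.2 inferInstance

/-- Adjoining a new element strictly increases the order. -/
theorem card_lt_card_sup_zpowers [Finite G] (D : Subgroup G) (x : G) (hx : x ∉ D) :
    Nat.card D < Nat.card ↥(D ⊔ Subgroup.zpowers x) := by
  have hle : D ≤ D ⊔ Subgroup.zpowers x := le_sup_left
  have hne : D ≠ D ⊔ Subgroup.zpowers x := by
    intro h
    apply hx
    rw [h]
    exact Subgroup.mem_sup_right (Subgroup.mem_zpowers x)
  have h1 : Nat.card D ≤ Nat.card ↥(D ⊔ Subgroup.zpowers x) := Subgroup.card_le_of_le hle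
  rcases h1.lt_or_eq with h | h
  · exact h
  · exact absurd (Subgroup.eq_of_le_of_card_ge hle h.ge) hne

/-- In a nonabelian finite `p`-group there is a noncentral element all of whose commutators are
central (an element of the second centre outside the centre). -/
theorem exists_not_mem_center_commutator_mem_center [Finite G] {p : ℕ} [Fact p.Prime]
    (hG : IsPGroup p G) (hna : Subgroup.center G ≠ ⊤) :
    ∃ b : G, b ∉ Subgroup.center G ∧ ∀ g : G, ⁅b, g⁆ ∈ Subgroup.center G := by
  have hnt : Nontrivial (G ⧸ Subgroup.center G) := by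
    rw [← not_subsingleton_iff_nontrivial, QuotientGroup.subsingleton_iff]
    exact hna
  have hq : IsPGroup p (G ⧸ Subgroup.center G) := hG.to_quotient _
  have hcn : Nontrivial (Subgroup.center (G ⧸ Subgroup.center G)) := hq.center_nontrivial
  obtain ⟨⟨z, hz⟩, hz1⟩ := exists_ne (1 : Subgroup.center (G ⧸ Subgroup.center G))
  obtain ⟨b, rfl⟩ := QuotientGroup.mk_surjective z
  refine ⟨b, ?_, ?_⟩
  · intro hb
    apply hz1
    apply Subtype.ext
    exact (QuotientGroup.eq_one_iff b).2 hb
  · intro g
    rw [← QuotientGroup.eq_one_iff]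
    have h1 := (Subgroup.mem_center_iff.1 hz) (g : G ⧸ Subgroup.center G)
    have : ((⁅b, g⁆ : G) : G ⧸ Subgroup.center G) =
        ⁅(b : G ⧸ Subgroup.center G), (g : G ⧸ Subgroup.center G)⁆ := by
      simp [commutatorElement_def]
    rw [this, commutatorElement_eq_one_iff_mul_comm]
    exact h1.symm

/-- If all commutators `⁅b, g⁆` are central then `g ↦ ⁅b, g⁆` is a homomorphism to the centre. -/
def commutatorHom (b : G) (hb : ∀ g : G, ⁅b, g⁆ ∈ Subgroup.center G) : G →* Subgroup.center G :=
  MonoidHom.mk' (fun g => ⟨⁅b, g⁆, hb g⟩) (by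
    intro g h
    apply Subtype.ext
    show ⁅b, g * h⁆ = ⁅b, g⁆ * ⁅b, h⁆
    have hc := Subgroup.mem_center_iff.1 (hb h)
    simp only [commutatorElement_def] at hc ⊢
    have e : b * (g * h) * b⁻¹ * (g * h)⁻¹ = b * g * b⁻¹ * (b * h * b⁻¹ * h⁻¹) * g⁻¹ := by group
    rw [e, mul_assoc (b * g * b⁻¹), ← hc g⁻¹]
    group)

theorem commutatorHom_ker (b : G) (hb : ∀ g : G, ⁅b, g⁆ ∈ Subgroup.center G) :
    (commutatorHom b hb).ker = Subgroup.centralizer ({b} : Set G) := by
  ext g
  rw [MonoidHom.mem_ker, Subgroup.mem_centralizer_iff]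
  simp only [commutatorHom, MonoidHom.mk'_apply, Set.mem_singleton_iff, forall_eq]
  rw [← Subtype.coe_inj, Subgroup.coe_one]
  show ⁅b, g⁆ = 1 ↔ _
  rw [commutatorElement_eq_one_iff_mul_comm]

/-- The centralizer of an element of the second centre has index dividing `|Z(G)|`. -/
theorem index_centralizer_dvd_card_center [Finite G] (b : G)
    (hb : ∀ g : G, ⁅b, g⁆ ∈ Subgroup.center G) :
    (Subgroup.centralizer ({b} : Set G)).index ∣ Nat.card (Subgroup.center G) := by
  rw [← commutatorHom_ker b hb, Subgroup.index_ker]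
  exact Subgroup.card_subgroup_dvd_card _

end Cfsg.Agent.Lib.Helper63_PGroup
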