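/-
Helper library (helper10): abstract-action version of `Helper10_QuadPair`. A finite group `Γ`
acting by automorphisms (`c : Γ →* MulAut N`) on a finite commutative group `N` of exponent `p`;
`AQuad c a` says `a` acts quadratically. Conditional on `DicksonHyp p`
(= `Cfsg.Agent.S0274.result`). Main results: `abs_sylow_two_not_comm`, `abs_section`,
`abs_p_eq_three`, `mem_pCore_quotient_of_quad`, `isPStableOn_of`, `isPStableOnSection_of`,
`isActionPStable_of`.
-/
import Mathlib
import Cfsg.Prelude.Def_PLocal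
import Cfsg.Agent.Lib.Helper10_QuadPair
import Cfsg.Agent.Lib.Helper69_PComplement
import Cfsg.Agent.Lib.Helper1_Frattini

set_option autoImplicit false

namespace Cfsg.Agent.Lib.Helper10_QuadAction

section partA


open Cfsg Cfsg.Agent.Lib.Helper10_QuadPair
open scoped commutatorElement

section basic

variable {Γ : Type*} [Group Γ] {N : Type*} [CommGroup N]

/-- `a` acts quadratically on the commutative group `N` through `c`. -/
def AQuad (c : Γ →* MulAut N) (a : Γ) : Prop := ∀ n : N, c a (c a n * n⁻¹) = c a n * n⁻¹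

theorem AQuad.conj {c : Γ →* MulAut N} {a : Γ} (h : AQuad c a) (g : Γ) :
    AQuad c (g * a * g⁻¹) := by
  intro n
  have hc : ∀ m, c (g * a * g⁻¹) m = c g (c a (c g⁻¹ m)) := by
    intro m
    rw [map_mul, map_mul, MulAut.mul_apply, MulAut.mul_apply]
  have hgg : ∀ m, c g⁻¹ (c g m) = m := by
    intro m
    rw [← MulAut.mul_apply, ← map_mul, inv_mul_cancel, map_one, MulAut.one_apply]
  have hgg' : ∀ m, c g (c g⁻¹ m) = m := by
    intro m
    rw [← MulAut.mul_apply, ← map_mul, mul_inv_cancel, map_one, MulAut.one_apply]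
  obtain ⟨m, hm⟩ : ∃ m, m = c g⁻¹ n := ⟨_, rfl⟩
  have hn : n = c g m := by rw [hm, hgg']
  rw [hc n, ← hm]
  have h1 : c g (c a m) * n⁻¹ = c g (c a m * m⁻¹) := by
    rw [hn, map_mul, map_inv]
  rw [h1, hc, hgg, h m]

theorem AQuad.pow_apply {c : Γ →* MulAut N} {a : Γ} (h : AQuad c a) (k : ℕ) (n : N) :
    c (a ^ k) n = (c a n * n⁻¹) ^ k * n := by
  induction k with
  | zero => simp
  | succ k ih =>
    rw [pow_succ', map_mul, MulAut.mul_apply, ih, map_mul, map_pow, h n, pow_succ]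
    have : c a n = (c a n * n⁻¹) * n := by rw [inv_mul_cancel_right]
    rw [mul_assoc, ← this]

theorem AQuad.pow_p {p : ℕ} {c : Γ →* MulAut N} {a : Γ} (h : AQuad c a)
    (hN : ∀ n : N, n ^ p = 1) (hfaith : ∀ γ, (∀ n, c γ n = n) → γ = 1) : a ^ p = 1 := by
  apply hfaith
  intro n
  rw [h.pow_apply, hN, one_mul]

end basic

section core

variable {p : ℕ} [Fact p.Prime] {Γ : Type*} [Group Γ] [Finite Γ] {N : Type*} [CommGroup N]
  [Finite N]

/-- Two quadratic elements generating a non-`p`-group inside a group acting faithfully on a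
commutative group of exponent `p`. -/
theorem abs_core_pair (hD : DicksonHyp p) (c : Γ →* MulAut N) (hN : ∀ n : N, n ^ p = 1)
    (hfaith : ∀ γ, (∀ n, c γ n = n) → γ = 1) (a b : Γ) (ha : AQuad c a) (hb : AQuad c b)
    (hnp : ¬ IsPGroup p (Subgroup.closure {a, b} : Subgroup Γ)) :
    ∃ (m : ℕ) (φ : (Subgroup.closure {a, b} : Subgroup Γ) →*
        Matrix.SpecialLinearGroup (Fin 2) (GaloisField p m))
      (K₀ : Subgroup (Matrix.SpecialLinearGroup (Fin 2) (GaloisField p m))),
      K₀ ≤ φ.range ∧ Nonempty (K₀ ≃* Matrix.SpecialLinearGroup (Fin 2) (ZMod p)) := by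
  letI instM : Module (ZMod p) (Additive N) := AddCommGroup.zmodModule (n := p) (by
    intro w
    have h1 : (Additive.toMul w) ^ p = 1 := hN _
    have h2 : Additive.ofMul ((Additive.toMul w) ^ p) = 0 := by rw [h1]; rfl
    rw [ofMul_pow] at h2
    exact h2)
  have haH : a ∈ Subgroup.closure {a, b} := Subgroup.subset_closure (by simp)
  have hbH : b ∈ Subgroup.closure {a, b} := Subgroup.subset_closure (by simp)
  have hgen := closure_pair_top a b haH hbH
  have hfaith' : ∀ γ : (Subgroup.closure {a, b} : Subgroup Γ),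
      (∀ n, (c.comp (Subgroup.closure {a, b}).subtype) γ n = n) → γ = 1 := by
    intro γ h
    apply Subtype.ext
    exact hfaith γ h
  obtain ⟨m, hm, φ, _, hφ⟩ := comm_version (p := p) (⟨a, haH⟩ : (Subgroup.closure {a, b} : Subgroup Γ))
    ⟨b, hbH⟩ hgen N (c.comp (Subgroup.closure {a, b}).subtype) hfaith' ha hb hnp
  have : Fintype (GaloisField p m) := Fintype.ofFinite _
  obtain ⟨K₀, hK, he⟩ := hD (GaloisField p m) φ.range hφ
  exact ⟨m, φ, K₀, hK, he⟩

/-- Baer–Suzuki consequence, abstract form. -/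
theorem abs_exists_conj_not_pgroup (a : Γ) (hap : a ^ p = 1) (hna : a ∉ Cfsg.pCore p Γ) :
    ∃ g : Γ, ¬ IsPGroup p (Subgroup.closure {a, g * a * g⁻¹} : Subgroup Γ) := by
  by_contra hcon
  simp only [not_exists, not_not] at hcon
  apply hna
  have hX : IsPGroup p (Subgroup.zpowers a) := by
    rintro ⟨w, hw⟩
    obtain ⟨i, rfl⟩ := Subgroup.mem_zpowers_iff.1 hw
    refine ⟨1, ?_⟩
    apply Subtype.ext
    simp only [pow_one, Subgroup.coe_pow, Subgroup.coe_one]
    rw [← zpow_natCast, ← zpow_mul, mul_comm, zpow_mul, zpow_natCast, hap, one_zpow]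
  have h : ∀ g : Γ, IsPGroup p ↥(Subgroup.zpowers a ⊔
      (Subgroup.zpowers a).map (MulAut.conj g).toMonoidHom) := by
    intro g
    refine (hcon g).to_le (sup_le ?_ ?_)
    · rw [Subgroup.zpowers_le]
      exact Subgroup.subset_closure (by simp)
    · rw [MonoidHom.map_zpowers, Subgroup.zpowers_le]
      show g * a * g⁻¹ ∈ Subgroup.closure {a, g * a * g⁻¹}
      exact Subgroup.subset_closure (by simp)
  obtain ⟨M, hM, hMp, hXM⟩ := Cfsg.Agent.S0199.result (Subgroup.zpowers a) hX h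
  have hMle : M ≤ Cfsg.pCore p Γ := le_sSup ⟨hM, hMp⟩
  exact hMle (hXM (Subgroup.mem_zpowers a))

/-- A quadratic element outside `O_p(Γ)`: no Sylow `2`-subgroup of `Γ` is commutative. -/
theorem abs_sylow_two_not_comm (hD : DicksonHyp p) (hp : p ≠ 2) (c : Γ →* MulAut N)
    (hN : ∀ n : N, n ^ p = 1) (hfaith : ∀ γ, (∀ n, c γ n = n) → γ = 1) (a : Γ)
    (ha : AQuad c a) (hna : a ∉ Cfsg.pCore p Γ) (T : Sylow 2 Γ) : ¬ IsMulCommutative T := by
  have hap : a ^ p = 1 := ha.pow_p hN hfaith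
  obtain ⟨g, hnp⟩ := abs_exists_conj_not_pgroup a hap hna
  obtain ⟨m, φ, K₀, hK, ⟨e⟩⟩ := abs_core_pair hD c hN hfaith a (g * a * g⁻¹) ha (ha.conj g) hnp
  obtain ⟨Q, hQ, x, hx, y, hy, hxy⟩ := sl2_nonabelian_two_subgroup p hp
  let Q' : Subgroup (Matrix.SpecialLinearGroup (Fin 2) (GaloisField p m)) :=
    (Q.comap e.toMonoidHom).map K₀.subtype
  have hQ' : IsPGroup 2 Q' := (hQ.comap_of_injective e.toMonoidHom e.injective).map _
  have hQ'le : Q' ≤ φ.range := (Subgroup.map_subtype_le _).trans hK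
  obtain ⟨T₁⟩ : Nonempty (Sylow 2 (Subgroup.closure {a, g * a * g⁻¹} : Subgroup Γ)) :=
    inferInstance
  have h1 : ¬ IsMulCommutative T₁ := by
    refine sylow_not_comm_of_hom φ Q' hQ'le hQ' (e.symm x : _) (e.symm y : _) ?_ ?_ ?_ T₁
    · refine ⟨e.symm x, ?_, rfl⟩
      show e.toMonoidHom (e.symm x) ∈ Q
      simpa using hx
    · refine ⟨e.symm y, ?_, rfl⟩
      show e.toMonoidHom (e.symm y) ∈ Q
      simpa using hy
    · intro h
      have h' : e.symm x * e.symm y = e.symm y * e.symm x := Subtype.ext (by simpa using h)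
      have h2 := congrArg e h'
      simp only [map_mul, MulEquiv.apply_symm_apply] at h2
      exact hxy h2
  exact sylow_not_comm_of_injective (Subgroup.closure {a, g * a * g⁻¹}).subtype
    (Subgroup.subtype_injective _) T₁ h1 T

/-- A quadratic element outside `O_p(Γ)`: `Γ` has a section isomorphic to `SL(2, p)`. -/
theorem abs_section (hD : DicksonHyp p) (c : Γ →* MulAut N)
    (hN : ∀ n : N, n ^ p = 1) (hfaith : ∀ γ, (∀ n, c γ n = n) → γ = 1) (a : Γ)
    (ha : AQuad c a) (hna : a ∉ Cfsg.pCore p Γ) :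
    ∃ (K L : Subgroup Γ) (_hL : (L.subgroupOf K).Normal),
      Nonempty ((K ⧸ L.subgroupOf K) ≃* Matrix.SpecialLinearGroup (Fin 2) (ZMod p)) := by
  have hap : a ^ p = 1 := ha.pow_p hN hfaith
  obtain ⟨g, hnp⟩ := abs_exists_conj_not_pgroup a hap hna
  obtain ⟨m, φ, K₀, hK, ⟨e⟩⟩ := abs_core_pair hD c hN hfaith a (g * a * g⁻¹) ha (ha.conj g) hnp
  obtain ⟨K, L, hL, _, ⟨ε⟩⟩ := exists_section_of_hom (Subgroup.closure {a, g * a * g⁻¹}) φ K₀ hK
  exact ⟨K, L, hL, ⟨ε.trans e⟩⟩

open Cfsg.Agent.Lib.Helper76_PSolvable in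
/-- A quadratic element outside `O_p(Γ)` in a `p`-solvable group forces `p = 3`. -/
theorem abs_p_eq_three (hD : DicksonHyp p) (hp : p ≠ 2) (c : Γ →* MulAut N)
    (hN : ∀ n : N, n ^ p = 1) (hfaith : ∀ γ, (∀ n, c γ n = n) → γ = 1)
    (hsep : Cfsg.IsPSolvable p Γ) (a : Γ) (ha : AQuad c a) (hna : a ∉ Cfsg.pCore p Γ) :
    p = 3 := by
  have hap : a ^ p = 1 := ha.pow_p hN hfaith
  have hPn : (Cfsg.pCore p Γ).Normal := Cfsg.Agent.Lib.Helper76_PSolvable.pCore_normal p
  have hPp : IsPGroup p (Cfsg.pCore p Γ) := pCore_isPGroup p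
  obtain ⟨P, hPdef⟩ : ∃ P : Subgroup Γ, P = Cfsg.pCore p Γ := ⟨_, rfl⟩
  rw [← hPdef] at hPn hPp hna
  have hsol : IsPSolvable p (Γ ⧸ P) := isPSolvable_quotient p P hsep
  have hcore : pCore p (Γ ⧸ P) = ⊥ := by
    subst hPdef
    exact pCore_quotient_pCore' p
  set π : Γ →* Γ ⧸ P := QuotientGroup.mk' P with hπ
  have hπs : Function.Surjective π := QuotientGroup.mk'_surjective P
  set W : Subgroup (Γ ⧸ P) := pPrimeCore p (Γ ⧸ P) with hWdef
  have hWn : W.Normal := Cfsg.Agent.Lib.Helper76_PSolvable.pPrimeCore_normal p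
  have hWc : (Nat.card W).Coprime p := pPrimeCore_card_coprime p
  have hHH : Subgroup.centralizer (W : Set (Γ ⧸ P)) ≤ W := centralizer_pPrimeCore_le p hsol hcore
  have hπa : π a ≠ 1 := by
    intro h
    rw [hπ, QuotientGroup.mk'_apply, QuotientGroup.eq_one_iff] at h
    exact hna h
  have hπap : (π a) ^ (p ^ 1) = 1 := by
    rw [pow_one, ← map_pow, hap, map_one]
  have hnc : π a ∉ Subgroup.centralizer (W : Set (Γ ⧸ P)) := by
    intro h
    exact hπa (eq_one_of_pow_of_mem_coprime W hWc _ (hHH h) 1 hπap)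
  rw [Subgroup.mem_centralizer_iff] at hnc
  simp only [not_forall] at hnc
  obtain ⟨wbar, hwW, hwa⟩ := hnc
  obtain ⟨w, rfl⟩ := hπs wbar
  obtain ⟨a', ha'def⟩ : ∃ a' : Γ, a' = w * a * w⁻¹ := ⟨_, rfl⟩
  have ha' : AQuad c a' := by rw [ha'def]; exact ha.conj w
  have haH₁ : a ∈ Subgroup.closure {a, a'} := Subgroup.subset_closure (by simp)
  have ha'H₁ : a' ∈ Subgroup.closure {a, a'} := Subgroup.subset_closure (by simp)
  -- the element `a⁻¹ a'` maps into `W`
  have hmemW : π (a⁻¹ * a') ∈ W := by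
    have h1 : (π a)⁻¹ * π w * (π a)⁻¹⁻¹ ∈ W := hWn.conj_mem _ hwW _
    have h2 : π (a⁻¹ * a') = ((π a)⁻¹ * π w * (π a)⁻¹⁻¹) * (π w)⁻¹ := by
      rw [ha'def]
      simp only [map_mul, map_inv]
      group
    rw [h2]
    exact W.mul_mem h1 (W.inv_mem hwW)
  have hnp₁ : ¬ IsPGroup p (Subgroup.closure {a, a'} : Subgroup Γ) := by
    intro h
    obtain ⟨k, hk⟩ := h ⟨a⁻¹ * a', mul_mem (inv_mem haH₁) ha'H₁⟩
    have hk' : (a⁻¹ * a') ^ (p ^ k) = 1 := congrArg Subtype.val hk
    have hk'' : (π (a⁻¹ * a')) ^ (p ^ k) = 1 := by rw [← map_pow, hk', map_one]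
    have h3 := eq_one_of_pow_of_mem_coprime W hWc _ hmemW k hk''
    apply hwa
    have h4 : π w * π a * (π w)⁻¹ = π a := by
      have h5 : π (a⁻¹ * a') = (π a)⁻¹ * (π w * π a * (π w)⁻¹) := by
        rw [ha'def]; simp only [map_mul, map_inv]
      rw [h5] at h3
      have := congrArg (π a * ·) h3
      simpa using this
    calc π w * π a = (π w * π a * (π w)⁻¹) * π w := by group
      _ = π a * π w := by rw [h4]
  obtain ⟨m₀, φ, K₀, hK, ⟨e⟩⟩ := abs_core_pair hD c hN hfaith a a' ha ha' hnp₁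
  refine p_eq_three_of_comm p hp φ K₀ hK e (Nat.card W) hWc ?_
  set ι := (Subgroup.closure {a, a'} : Subgroup Γ).subtype with hι
  have hιinj : Function.Injective ι := Subgroup.subtype_injective _
  have hN₁n : ((W.comap π).comap ι).Normal := (hWn.comap π).comap ι
  have hgen := closure_pair_top a a' haH₁ ha'H₁
  have hmem : (⟨a, haH₁⟩ : (Subgroup.closure {a, a'} : Subgroup Γ))⁻¹ * ⟨a', ha'H₁⟩ ∈
      (W.comap π).comap ι := by
    rw [Subgroup.mem_comap, Subgroup.mem_comap]
    exact hmemW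
  intro g h g' h'
  have hc1 := commutator_mem_of_two_gen _ _ hgen ((W.comap π).comap ι) hmem g h
  have hc2 := commutator_mem_of_two_gen _ _ hgen ((W.comap π).comap ι) hmem g' h'
  rw [Subgroup.mem_comap, Subgroup.mem_comap] at hc1 hc2
  have hpow : ∀ z : Γ, π z ∈ W → z ^ Nat.card W ∈ P := by
    intro z hz
    have h1 : (⟨π z, hz⟩ : W) ^ Nat.card W = 1 := pow_card_eq_one'
    have h2 : (π z) ^ Nat.card W = 1 := by
      have := congrArg Subtype.val h1
      rw [Subgroup.coe_pow, Subgroup.coe_one] at this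
      exact this
    rw [← map_pow, hπ, QuotientGroup.mk'_apply, QuotientGroup.eq_one_iff] at h2
    exact h2
  have hprod : (ι ⁅g, h⁆) ^ Nat.card W * (ι ⁅g', h'⁆) ^ Nat.card W ∈ P :=
    P.mul_mem (hpow _ hc1) (hpow _ hc2)
  obtain ⟨k, hk⟩ := hPp ⟨_, hprod⟩
  refine ⟨k, ?_⟩
  apply hιinj
  have hk' := congrArg Subtype.val hk
  simp only [Subgroup.coe_pow, Subgroup.coe_one] at hk'
  rw [map_pow, map_mul, map_pow, map_pow, map_one]
  exact hk'

end core


end partA

section partB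


open Cfsg Cfsg.Agent.Lib.Helper10_QuadPair
open scoped commutatorElement

/-- Commutativity of all Sylow subgroups passes to quotients. -/
theorem sylow_comm_of_surjective {G Q : Type*} [Group G] [Group Q] [Finite G] (f : G →* Q)
    (hf : Function.Surjective f) {q : ℕ} [Fact q.Prime]
    (h : ∀ T : Sylow q G, IsMulCommutative T) (T' : Sylow q Q) : IsMulCommutative T' := by
  obtain ⟨T, rfl⟩ := Sylow.mapSurjective_surjective hf q T'
  refine ⟨⟨?_⟩⟩
  rintro ⟨u, hu⟩ ⟨v, hv⟩
  have hu' : u ∈ (T : Subgroup G).map f := by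
    rw [← Sylow.coe_mapSurjective hf T]; exact hu
  have hv' : v ∈ (T : Subgroup G).map f := by
    rw [← Sylow.coe_mapSurjective hf T]; exact hv
  obtain ⟨s, hs, rfl⟩ := hu'
  obtain ⟨t, ht, rfl⟩ := hv'
  apply Subtype.ext
  have h1 := (h T).is_comm.comm (⟨s, hs⟩ : (T : Subgroup G)) ⟨t, ht⟩
  have h2 : s * t = t * s := congrArg Subtype.val h1
  show f s * f t = f t * f s
  rw [← map_mul, ← map_mul, h2]

section quot

variable {p : ℕ} [Fact p.Prime] {Γ : Type*} [Group Γ] [Finite Γ] {N : Type*} [CommGroup N]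
  [Finite N]

/-- Main abstract `p`-stability statement: if `a` acts quadratically on `N` (commutative of
exponent `p`) and `Γ` has abelian Sylow `2`-subgroups, or is `p`-solvable with `p ≠ 3`, then
the image of `a` modulo the kernel `C` of the action lies in `O_p(Γ / C)`. -/
theorem mem_pCore_quotient_of_quad (hD : DicksonHyp p) (hp : p ≠ 2) (c : Γ →* MulAut N)
    (hN : ∀ n : N, n ^ p = 1) (C : Subgroup Γ) [hCn : C.Normal]
    (hC : ∀ g, g ∈ C ↔ ∀ n, c g n = n) (a : Γ) (ha : AQuad c a)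
    (hyp : (∀ T : Sylow 2 Γ, IsMulCommutative T) ∨ (p ≠ 3 ∧ Cfsg.IsPSolvable p Γ)) :
    (QuotientGroup.mk a : Γ ⧸ C) ∈ Cfsg.pCore p (Γ ⧸ C) := by
  have hle : C ≤ c.ker := by
    intro g hg
    rw [MonoidHom.mem_ker]
    ext n
    exact (hC g).1 hg n
  set cbar : Γ ⧸ C →* MulAut N := QuotientGroup.lift C c hle with hcbar
  have hcb : ∀ g : Γ, cbar (QuotientGroup.mk g) = c g := fun g => QuotientGroup.lift_mk C hle g
  have hfaith : ∀ γ : Γ ⧸ C, (∀ n, cbar γ n = n) → γ = 1 := by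
    intro γ h
    obtain ⟨g, rfl⟩ := QuotientGroup.mk_surjective γ
    rw [QuotientGroup.eq_one_iff, hC]
    intro n
    have := h n
    rw [hcb] at this
    exact this
  have habar : AQuad cbar (QuotientGroup.mk a) := by
    intro n
    rw [hcb]
    exact ha n
  by_contra hna
  rcases hyp with h2 | ⟨hp3, hsol⟩
  · obtain ⟨T'⟩ : Nonempty (Sylow 2 (Γ ⧸ C)) := inferInstance
    exact abs_sylow_two_not_comm hD hp cbar hN hfaith _ habar hna T'
      (sylow_comm_of_surjective (QuotientGroup.mk' C) (QuotientGroup.mk'_surjective C) h2 T')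
  · have hsol' : Cfsg.IsPSolvable p (Γ ⧸ C) :=
      Cfsg.Agent.Lib.Helper76_PSolvable.isPSolvable_quotient p C hsol
    exact hp3 (abs_p_eq_three hD hp cbar hN hfaith hsol' _ habar hna)

end quot

section glue

variable {G : Type*} [Group G] [Finite G] {p : ℕ} [Fact p.Prime]

/-- `p`-stability of the conjugation action on a normal elementary abelian subgroup. -/
theorem isPStableOn_of (hD : DicksonHyp p) (hp : p ≠ 2) (V : Subgroup G) [hVn : V.Normal]
    (hV : Cfsg.IsElementaryAbelian p V)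
    (hyp : (∀ T : Sylow 2 G, IsMulCommutative T) ∨ (p ≠ 3 ∧ Cfsg.IsPSolvable p G)) :
    Cfsg.IsPStableOn p V := by
  intro a hq
  letI instC : CommGroup V :=
    { (inferInstance : Group V) with mul_comm := fun u v => hV.1.is_comm.comm u v }
  refine mem_pCore_quotient_of_quad hD hp (MulAut.conjNormal : G →* MulAut V) ?_
    (Subgroup.centralizer (V : Set G)) ?_ a ?_ hyp
  · intro n
    apply Subtype.ext
    have := hV.2 n n.2
    simpa using this
  · intro g
    rw [Subgroup.mem_centralizer_iff]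
    constructor
    · intro h n
      apply Subtype.ext
      rw [MulAut.conjNormal_apply]
      have := h n n.2
      calc g * (n : G) * g⁻¹ = ((n : G) * g) * g⁻¹ := by rw [this]
        _ = n := by group
    · intro h v hv
      have := congrArg Subtype.val (h ⟨v, hv⟩)
      rw [MulAut.conjNormal_apply] at this
      calc v * g = (g * v * g⁻¹) * g := by rw [this]
        _ = g * v := by group
  · intro n
    apply Subtype.ext
    have := quad_elt V a hq n n.2
    rw [MulAut.conjNormal_apply]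
    simp only [Subgroup.coe_mul, Subgroup.coe_inv, MulAut.conjNormal_apply]
    exact this

/-- `p`-stability of the conjugation action on a normal section `K / N₀` which is elementary
abelian. -/
theorem isPStableOnSection_of (hD : DicksonHyp p) (hp : p ≠ 2) (K N₀ : Subgroup G)
    [hKn : K.Normal] [hNn : N₀.Normal]
    (hcomm : ∀ x ∈ K, ∀ y ∈ K, x * y * x⁻¹ * y⁻¹ ∈ N₀) (hpow : ∀ x ∈ K, x ^ p ∈ N₀)
    (hyp : (∀ T : Sylow 2 G, IsMulCommutative T) ∨ (p ≠ 3 ∧ Cfsg.IsPSolvable p G)) :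
    Cfsg.IsPStableOnSection p K N₀ := by
  intro a hq
  set π : G →* G ⧸ N₀ := QuotientGroup.mk' N₀ with hπ
  have hπs : Function.Surjective π := QuotientGroup.mk'_surjective N₀
  obtain ⟨Kb, hKb⟩ : ∃ Kb : Subgroup (G ⧸ N₀), Kb = K.map π := ⟨_, rfl⟩
  have hKbn : Kb.Normal := by rw [hKb]; exact hKn.map π hπs
  have hone : ∀ z : G, z ∈ N₀ → π z = 1 := by
    intro z hz
    rw [hπ, QuotientGroup.mk'_apply, QuotientGroup.eq_one_iff]
    exact hz
  have hKbc : ∀ u ∈ Kb, ∀ v ∈ Kb, u * v = v * u := by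
    intro u hu v hv
    rw [hKb] at hu hv
    obtain ⟨x, hx, rfl⟩ := hu
    obtain ⟨y, hy, rfl⟩ := hv
    have h1 := hone _ (hcomm x hx y hy)
    simp only [map_mul, map_inv] at h1
    calc π x * π y = (π x * π y * (π x)⁻¹ * (π y)⁻¹) * (π y * π x) := by group
      _ = π y * π x := by rw [h1, one_mul]
  have hKbp : ∀ u ∈ Kb, u ^ p = 1 := by
    intro u hu
    rw [hKb] at hu
    obtain ⟨x, hx, rfl⟩ := hu
    rw [← map_pow]
    exact hone _ (hpow x hx)
  letI instC : CommGroup Kb :=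
    { (inferInstance : Group Kb) with
      mul_comm := fun u v => Subtype.ext (hKbc u u.2 v v.2) }
  have hCn : (Cfsg.sectionKernel K N₀).Normal := by
    unfold Cfsg.sectionKernel
    rw [← hπ, ← hKb]
    exact Subgroup.Normal.comap inferInstance _
  have hquad : ⁅⁅Kb, Subgroup.zpowers (π a)⁆, Subgroup.zpowers (π a)⁆ = ⊥ := by
    have h1 : (⁅⁅K, Subgroup.zpowers a⁆, Subgroup.zpowers a⁆).map π =
        ⁅⁅K.map π, (Subgroup.zpowers a).map π⁆, (Subgroup.zpowers a).map π⁆ := by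
      rw [Subgroup.map_commutator, Subgroup.map_commutator]
    rw [MonoidHom.map_zpowers, ← hKb] at h1
    rw [← h1, eq_bot_iff]
    rintro _ ⟨z, hz, rfl⟩
    rw [Subgroup.mem_bot]
    exact hone z (hq hz)
  have hmem : (QuotientGroup.mk a : G ⧸ Cfsg.sectionKernel K N₀) ∈
      Cfsg.pCore p (G ⧸ Cfsg.sectionKernel K N₀) := by
    refine mem_pCore_quotient_of_quad hD hp
      ((MulAut.conjNormal : (G ⧸ N₀) →* MulAut Kb).comp π) ?_ (Cfsg.sectionKernel K N₀) ?_ a ?_ hyp
    · intro n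
      apply Subtype.ext
      have := hKbp n n.2
      simpa using this
    · intro g
      unfold Cfsg.sectionKernel
      rw [← hπ, ← hKb, Subgroup.mem_comap, Subgroup.mem_centralizer_iff]
      constructor
      · intro h n
        apply Subtype.ext
        rw [MonoidHom.comp_apply, MulAut.conjNormal_apply]
        have := h n n.2
        calc π g * (n : G ⧸ N₀) * (π g)⁻¹ = ((n : G ⧸ N₀) * π g) * (π g)⁻¹ := by rw [this]
          _ = n := by group
      · intro h v hv
        have := congrArg Subtype.val (h ⟨v, hv⟩)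
        rw [MonoidHom.comp_apply, MulAut.conjNormal_apply] at this
        calc v * π g = (π g * v * (π g)⁻¹) * π g := by rw [this]
          _ = π g * v := by group
    · intro n
      apply Subtype.ext
      have := quad_elt Kb (π a) hquad n n.2
      simp only [MonoidHom.comp_apply, MulAut.conjNormal_apply, Subgroup.coe_mul,
        Subgroup.coe_inv]
      exact this
  have hfin : IsPGroup p (Cfsg.pCore p (G ⧸ Cfsg.sectionKernel K N₀)) :=
    Cfsg.Agent.Lib.Helper76_PSolvable.pCore_isPGroup p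
  obtain ⟨k, hk⟩ := IsPGroup.iff_card.mp hfin
  refine ⟨(Cfsg.pCore p (G ⧸ Cfsg.sectionKernel K N₀)).comap
    (QuotientGroup.mk' (Cfsg.sectionKernel K N₀)), ?_, ?_, ⟨k, ?_⟩, hmem⟩
  · exact Subgroup.Normal.comap (Cfsg.Agent.Lib.Helper76_PSolvable.pCore_normal p) _
  · intro g hg
    rw [Subgroup.mem_comap, QuotientGroup.mk'_apply, (QuotientGroup.eq_one_iff g).2 hg]
    exact one_mem _
  · have h := Subgroup.relIndex_ker
      ((Cfsg.pCore p (G ⧸ Cfsg.sectionKernel K N₀)).comap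
        (QuotientGroup.mk' (Cfsg.sectionKernel K N₀)))
      (QuotientGroup.mk' (Cfsg.sectionKernel K N₀))
    rw [QuotientGroup.ker_mk', Subgroup.map_comap_eq_self_of_surjective
      (QuotientGroup.mk'_surjective _)] at h
    rw [h, hk]

/-- Subgroups of `Ω₁(Z(J(S)))` are elementary abelian. -/
theorem isElementaryAbelian_of_le_omegaCenterThompson {G : Type*} [Group G] {p : ℕ}
    (S Nn : Subgroup G) (V : Subgroup Nn)
    (hV : V.map Nn.subtype ≤ (Cfsg.omegaCenterThompson p ↥S).map S.subtype) :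
    Cfsg.IsElementaryAbelian p V := by
  set J : Subgroup S := Cfsg.thompsonSubgroup p ↥S with hJ
  have key : ∀ y ∈ Cfsg.omegaCenterThompson p ↥S,
      y ∈ J ⊓ Subgroup.centralizer (J : Set S) ∧ y ^ p = 1 := by
    intro y hy
    unfold Cfsg.omegaCenterThompson Cfsg.omegaOne at hy
    rw [← hJ] at hy
    refine Subgroup.closure_induction (p := fun y _ =>
      y ∈ J ⊓ Subgroup.centralizer (J : Set S) ∧ y ^ p = 1) ?_ ?_ ?_ ?_ hy
    · intro z hz
      exact hz
    · exact ⟨one_mem _, one_pow _⟩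
    · intro x y _ _ hx hy
      refine ⟨mul_mem hx.1 hy.1, ?_⟩
      have hxy : Commute x y := by
        have h1 := (Subgroup.mem_inf.1 hy.1).2
        rw [Subgroup.mem_centralizer_iff] at h1
        exact h1 x (Subgroup.mem_inf.1 hx.1).1
      rw [hxy.mul_pow, hx.2, hy.2, one_mul]
    · intro x _ hx
      exact ⟨inv_mem hx.1, by rw [inv_pow, hx.2, inv_one]⟩
  have hex : ∀ v : V, ∃ y ∈ Cfsg.omegaCenterThompson p ↥S, ((y : S) : G) = ((v : Nn) : G) := by
    intro v
    have h1 : ((v : Nn) : G) ∈ V.map Nn.subtype := ⟨v, v.2, rfl⟩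
    obtain ⟨y, hy, hyv⟩ := hV h1
    exact ⟨y, hy, hyv⟩
  refine ⟨⟨⟨?_⟩⟩, ?_⟩
  · intro u v
    obtain ⟨y, hy, hyu⟩ := hex u
    obtain ⟨z, hz, hzv⟩ := hex v
    apply Subtype.ext
    apply Subtype.ext
    simp only [Subgroup.coe_mul]
    rw [← hyu, ← hzv]
    have h1 := (Subgroup.mem_inf.1 (key z hz).1).2
    rw [Subgroup.mem_centralizer_iff] at h1
    have h2 := h1 y (Subgroup.mem_inf.1 (key y hy).1).1
    have h3 := congrArg Subtype.val h2
    simpa using h3
  · intro v hv
    obtain ⟨y, hy, hyv⟩ := hex ⟨v, hv⟩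
    apply Subtype.ext
    have h1 := congrArg Subtype.val (key y hy).2
    simp only [Subgroup.coe_pow, Subgroup.coe_one] at h1 ⊢
    rw [← hyv]
    exact h1

/-- `IsActionPStable` from abelian Sylow `2`-subgroups or `p`-solvability with `p ≠ 3`. -/
theorem isActionPStable_of (hD : DicksonHyp p) (hp : p ≠ 2)
    (hyp : (∀ T : Sylow 2 G, IsMulCommutative T) ∨ (p ≠ 3 ∧ Cfsg.IsPSolvable p G)) :
    Cfsg.IsActionPStable p G := by
  refine ⟨fun V _ hV => isPStableOn_of hD hp V hV hyp, ?_, ?_⟩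
  · have hKp : IsPGroup p (Cfsg.pCore p G) := Cfsg.Agent.Lib.Helper76_PSolvable.pCore_isPGroup p
    refine isPStableOnSection_of hD hp (Cfsg.pCore p G)
      ((frattini ↥(Cfsg.pCore p G)).map (Cfsg.pCore p G).subtype) ?_ ?_ hyp
    · intro x hx y hy
      refine ⟨⁅(⟨x, hx⟩ : Cfsg.pCore p G), ⟨y, hy⟩⁆, ?_, rfl⟩
      apply Cfsg.Agent.Lib.Helper1_Frattini.commutator_le_frattini_of_isPGroup hKp
      exact Subgroup.commutator_mem_commutator (Subgroup.mem_top _) (Subgroup.mem_top _)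
    · intro x hx
      exact ⟨(⟨x, hx⟩ : Cfsg.pCore p G) ^ p,
        Cfsg.Agent.Lib.Helper1_Frattini.pow_mem_frattini_of_isPGroup hKp _, rfl⟩
  · intro S V hVn hVle
    have hV := isElementaryAbelian_of_le_omegaCenterThompson (p := p) (S : Subgroup G) _ V hVle
    refine isPStableOn_of hD hp V hV ?_
    rcases hyp with h2 | ⟨hp3, hsol⟩
    · left
      intro T₁
      by_contra hT₁
      obtain ⟨T⟩ : Nonempty (Sylow 2 G) := inferInstance
      exact sylow_not_comm_of_injective (Subgroup.subtype _) (Subgroup.subtype_injective _) T₁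
        hT₁ T (h2 T)
    · right
      exact ⟨hp3, Cfsg.Agent.Lib.Helper69_PComplement.isPSolvable_subgroup p hsol _⟩

end glue


end partB

end Cfsg.Agent.Lib.Helper10_QuadAction
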