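import Cfsg.Agent.Lib.Helper50_SL2Main

/-!
Dickson's theorem for `SL(2, q)`, `q` odd: a subgroup with more than one Sylow `p`-subgroup
contains a copy of `SL(2, p)`.  Reduction to standard position.
-/

set_option autoImplicit false

namespace Cfsg.Agent.Lib.Helper50_SL2Dickson

open Matrix Cfsg.Agent.Lib.Helper50_SL2Mat Cfsg.Agent.Lib.Helper50_CTClass
  Cfsg.Agent.Lib.Helper50_SL2Rep Cfsg.Agent.Lib.Helper50_SL2Std
  Cfsg.Agent.Lib.Helper50_SL2Classes Cfsg.Agent.Lib.Helper50_SL2Main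
open scoped MatrixGroups Pointwise

variable {F : Type*} [Field F]

theorem uT_eq_tU (c : F) : Cfsg.Agent.S0260.uT c = tU c := by
  apply ext4 <;> simp [Cfsg.Agent.S0260.uT, Matrix.SpecialLinearGroup.transvection_coe]

theorem mem_smul_U_iff (g x : SL(2, F)) :
    x ∈ MulAut.conj g • (Cfsg.Agent.S0260.U : Subgroup SL(2, F)) ↔ ∃ b : F, g⁻¹ * x * g = tU b := by
  rw [Subgroup.mem_pointwise_smul_iff_inv_smul_mem]
  simp only [MulAut.smul_def, MulAut.inv_apply, MulAut.conj_symm_apply]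
  rw [Cfsg.Agent.S0260.mem_U_iff]
  constructor
  · rintro ⟨b, hb⟩; exact ⟨b, by rw [hb, uT_eq_tU]⟩
  · rintro ⟨b, hb⟩; exact ⟨b, by rw [hb, uT_eq_tU]⟩

/-- a `p`-subgroup of `SL(2,F)` is conjugate into the upper unitriangular group -/
theorem exists_conj_of_isPGroup [Fintype F] (p : ℕ) [Fact p.Prime] [CharP F p]
    (P : Subgroup SL(2, F)) (hP : IsPGroup p P) :
    ∃ g : SL(2, F), ∀ x ∈ P, ∃ b : F, g⁻¹ * x * g = tU b := by
  obtain ⟨S, hPS⟩ := hP.exists_le_sylow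
  obtain ⟨g, rfl⟩ := MulAction.exists_smul_eq SL(2, F) (Cfsg.Agent.S0260.US p) S
  refine ⟨g, fun x hx => ?_⟩
  have hx' := hPS hx
  rw [Sylow.coe_subgroup_smul, Cfsg.Agent.S0260.coe_US] at hx'
  exact (mem_smul_U_iff g x).1 hx'

/-- conjugating by an element with zero `(0,0)` entry sends `tU` to `tL` -/
theorem conj_tU_of_zero {k : SL(2, F)} (hk : k 0 0 = 0) (b : F) :
    k * tU b * k⁻¹ = tL (-(b * (k 1 0 * k 1 0))) := by
  obtain ⟨c00, c01, c10, c11⟩ := conj_tU k b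
  rw [hk] at c00 c01 c11
  apply ext4
  · rw [c00]; simp
  · rw [c01]; simp
  · rw [c10]; simp
  · rw [c11]; simp

theorem conj_tU_of_upper {k : SL(2, F)} (hk : k 1 0 = 0) (b : F) :
    k * tU b * k⁻¹ = tU (b * (k 0 0 * k 0 0)) := by
  obtain ⟨c00, c01, c10, c11⟩ := conj_tU k b
  rw [hk] at c00 c10 c11
  apply ext4
  · rw [c00]; simp
  · rw [c01]; simp
  · rw [c10]; simp
  · rw [c11]; simp

theorem dickson [Fintype F] (p : ℕ) [Fact p.Prime] [CharP F p] (hp : p ≠ 2)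
    (H : Subgroup SL(2, F)) (hH : 1 < Nat.card (Sylow p H)) :
    ∃ K : Subgroup SL(2, F), K ≤ H ∧ Nonempty (K ≃* SL(2, ZMod p)) := by
  classical
  -- two distinct Sylow subgroups
  have : Nontrivial (Sylow p H) := (Finite.one_lt_card_iff_nontrivial).1 hH
  obtain ⟨S1, S2, hne⟩ := exists_pair_ne (Sylow p H)
  have hnle : ∀ A B : Sylow p H, A ≠ B → ∃ a : H, a ∈ A ∧ a ≠ 1 := by
    intro A B hAB
    by_contra hcon
    push Not at hcon
    apply hAB
    have hle : (A : Subgroup H) ≤ B := by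
      intro a ha
      rw [hcon a ha]; exact (B : Subgroup H).one_mem
    exact Sylow.ext (A.is_maximal' B.isPGroup' hle).symm
  obtain ⟨u, hu1, hu0⟩ := hnle S1 S2 hne
  obtain ⟨v, hv2, hv0⟩ := hnle S2 S1 hne.symm
  obtain ⟨g1, hg1⟩ := exists_conj_of_isPGroup p ((S1 : Subgroup H).map H.subtype)
    (S1.isPGroup'.map _)
  obtain ⟨g2, hg2⟩ := exists_conj_of_isPGroup p ((S2 : Subgroup H).map H.subtype)
    (S2.isPGroup'.map _)
  have hg1' : ∀ a : H, a ∈ S1 → ∃ b : F, g1⁻¹ * (a : SL(2, F)) * g1 = tU b := fun a ha =>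
    hg1 _ (Subgroup.mem_map_of_mem H.subtype ha)
  have hg2' : ∀ a : H, a ∈ S2 → ∃ b : F, g2⁻¹ * (a : SL(2, F)) * g2 = tU b := fun a ha =>
    hg2 _ (Subgroup.mem_map_of_mem H.subtype ha)
  set k := g1⁻¹ * g2 with hk
  have hk10 : k 1 0 ≠ 0 := by
    intro hk10
    -- then both Sylows lie in the same p-subgroup
    apply hne
    let ρ1 : H →* SL(2, F) := (MulAut.conj g1⁻¹).toMonoidHom.comp H.subtype
    have hρ1 : ∀ a : H, ρ1 a = g1⁻¹ * (a : SL(2, F)) * g1 := by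
      intro a
      show g1⁻¹ * (a : SL(2, F)) * g1⁻¹⁻¹ = _
      rw [inv_inv]
    have hρ1inj : Function.Injective ρ1 :=
      (MulAut.conj g1⁻¹).injective.comp H.subtype_injective
    have hQ : IsPGroup p (Qs ρ1) := isPGroup_Qs hρ1inj
    have h1 : (S1 : Subgroup H) ≤ Qs ρ1 := by
      intro a ha
      obtain ⟨b, hb⟩ := hg1' a ha
      exact mem_Qs_iff_exists.2 ⟨b, by rw [hρ1, hb]⟩
    have h2 : (S2 : Subgroup H) ≤ Qs ρ1 := by
      intro a ha
      obtain ⟨b, hb⟩ := hg2' a ha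
      refine mem_Qs_iff_exists.2 ⟨b * (k 0 0 * k 0 0), ?_⟩
      rw [hρ1, ← conj_tU_of_upper hk10, ← hb, hk]
      group
    have e1 := S1.is_maximal' hQ h1
    have e2 := S2.is_maximal' hQ h2
    exact Sylow.ext (e1.symm.trans e2)
  -- the conjugating element
  obtain ⟨x, hx⟩ : ∃ x : F, x = -(k 0 0 / k 1 0) := ⟨_, rfl⟩
  set P := tU x * g1⁻¹ with hP
  let ρ : H →* SL(2, F) := (MulAut.conj P).toMonoidHom.comp H.subtype
  have hρ : ∀ a : H, ρ a = P * (a : SL(2, F)) * P⁻¹ := fun a => rfl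
  have hρinj : Function.Injective ρ := (MulAut.conj P).injective.comp H.subtype_injective
  obtain ⟨b1, hb1⟩ := hg1' u hu1
  obtain ⟨b2, hb2⟩ := hg2' v hv2
  have hk' : (tU x * k) 0 0 = 0 := by
    rw [mul00, tU00, tU01, hx]
    field_simp
    ring
  have hρu : ρ u = tU b1 := by
    rw [hρ, hP]
    have e : tU x * g1⁻¹ * (u : SL(2, F)) * (tU x * g1⁻¹)⁻¹ =
        tU x * (g1⁻¹ * (u : SL(2, F)) * g1) * (tU x)⁻¹ := by group
    rw [e, hb1, tU_inv, ← tU_add, ← tU_add]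
    congr 1; ring
  have hρv : ρ v = tL (-(b2 * ((tU x * k) 1 0 * (tU x * k) 1 0))) := by
    rw [hρ, hP, ← conj_tU_of_zero hk', ← hb2, hk]
    group
  have hb1' : b1 ≠ 0 := by
    intro h0
    apply hu0
    apply hρinj
    rw [hρu, h0, tU_zero, map_one]
  have hb2' : -(b2 * ((tU x * k) 1 0 * (tU x * k) 1 0)) ≠ 0 := by
    intro h0
    apply hv0
    apply hρinj
    rw [hρv, h0, tL_zero, map_one]
  have hstd : Std p ρ u v b1 (-(b2 * ((tU x * k) 1 0 * (tU x * k) 1 0))) :=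
    ⟨hρinj, hp, hb1', hb2', hρu, hρv⟩
  obtain ⟨K0, ⟨e⟩⟩ := std_main hstd
  refine ⟨K0.map H.subtype, Subgroup.map_subtype_le K0, ⟨?_⟩⟩
  exact (Subgroup.equivMapOfInjective K0 H.subtype H.subtype_injective).symm.trans e

end Cfsg.Agent.Lib.Helper50_SL2Dickson
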