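import Mathlib
import Cfsg.Agent.S0625
import Cfsg.Agent.S0521
import Cfsg.Agent.S0092
import Cfsg.Agent.Lib.Helper1_Cores
import Cfsg.Agent.Lib.Helper55_Fitting
import Cfsg.Agent.Lib.Helper71_Fitting
import Cfsg.Agent.Lib.Helper32_Nilpotent
import Cfsg.Agent.Lib.Lead_PSolvable

set_option autoImplicit false
set_option linter.unusedSectionVars false
set_option linter.style.haveILetI false

namespace Cfsg.Agent.Lib.Helper10_QuadFit

open Cfsg
open scoped commutatorElement

section basic

variable {X : Type*} [Group X]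

/-- If `x` commutes with `b = x v x⁻¹ v⁻¹` and the orders of `x` and `b` are coprime, then
`x` commutes with `v`. -/
theorem comm_of_quad_coprime {x v : X} (hb : Commute x (x * v * x⁻¹ * v⁻¹)) (n m : ℕ)
    (hx : x ^ n = 1) (hv : (x * v * x⁻¹ * v⁻¹) ^ m = 1) (hnm : n.Coprime m) :
    x * v = v * x := by
  obtain ⟨b, hbdef⟩ : ∃ b, b = x * v * x⁻¹ * v⁻¹ := ⟨_, rfl⟩
  rw [← hbdef] at hb hv
  have key : ∀ j : ℕ, x ^ j * v * (x ^ j)⁻¹ = b ^ j * v := by
    intro j
    induction j with
    | zero => simp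
    | succ j ih =>
      have h1 : x ^ (j + 1) * v * (x ^ (j + 1))⁻¹ = x * (x ^ j * v * (x ^ j)⁻¹) * x⁻¹ := by
        rw [pow_succ']; group
      rw [h1, ih]
      have h2 : x * (b ^ j * v) * x⁻¹ = (x * b ^ j * x⁻¹) * (x * v * x⁻¹) := by group
      rw [h2]
      have h3 : x * b ^ j * x⁻¹ = b ^ j := by
        have := (hb.pow_right j).eq
        rw [this]; group
      rw [h3]
      have h4 : x * v * x⁻¹ = b * v := by rw [hbdef]; group
      rw [h4, pow_succ, mul_assoc]
  have h5 := key n
  rw [hx] at h5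
  have h6 : b ^ n = 1 := by
    have : v = b ^ n * v := by simpa using h5
    have h7 : b ^ n * v = 1 * v := by rw [one_mul]; exact this.symm
    exact mul_right_cancel h7
  have h8 : orderOf b ∣ n := orderOf_dvd_of_pow_eq_one h6
  have h9 : orderOf b ∣ m := orderOf_dvd_of_pow_eq_one hv
  have h10 : orderOf b = 1 := Nat.eq_one_of_dvd_coprimes hnm h8 h9
  have h11 : b = 1 := orderOf_eq_one_iff.mp h10
  have h12 : x * v * x⁻¹ * v⁻¹ = 1 := by rw [← hbdef]; exact h11
  calc x * v = (x * v * x⁻¹ * v⁻¹) * (v * x) := by group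
    _ = v * x := by rw [h12, one_mul]

/-- Membership in the kernel of the action on a section gives commutators in the bottom. -/
theorem commutator_mem_of_mem_sectionKernel {K N : Subgroup X} [N.Normal] {y : X}
    (hy : y ∈ Cfsg.sectionKernel K N) {v : X} (hv : v ∈ K) : ⁅v, y⁆ ∈ N := by
  unfold Cfsg.sectionKernel at hy
  rw [Subgroup.mem_comap, Subgroup.mem_centralizer_iff] at hy
  have h := hy _ (Subgroup.mem_map_of_mem (QuotientGroup.mk' N) hv)
  rw [← QuotientGroup.eq_one_iff, commutatorElement_def]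
  simp only [QuotientGroup.mk'_apply] at h
  rw [QuotientGroup.mk_mul, QuotientGroup.mk_mul, QuotientGroup.mk_mul, QuotientGroup.mk_inv,
    QuotientGroup.mk_inv, h]
  group

end basic

section main

variable {X : Type*} [Group X] [Finite X]

/-- **Key lemma.** In a finite solvable group `X` and for a prime `r ≥ 5`, an `r`-element acting
quadratically on `O_r(X)` and centralizing `O_q(X)` for all primes `q ≠ r` lies in `O_r(X)`. -/
theorem mem_pCore_of_quad [Group.IsSolvable X] {r : ℕ} [hr : Fact r.Prime] (hr5 : 5 ≤ r)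
    (a : X) (hquad : ⁅⁅pCore r X, Subgroup.zpowers a⁆, Subgroup.zpowers a⁆ = ⊥)
    (hcent : ∀ q : ℕ, q.Prime → q ≠ r → ∀ y ∈ pCore q X, a * y = y * a)
    (k : ℕ) (hpow : a ^ (r ^ k) = 1) : a ∈ pCore r X := by
  classical
  have hsol : IsPSolvable r X := Cfsg.Agent.Lib.Lead_PSolvable.isPSolvable_of_isSolvable r
  have hst := (Cfsg.Agent.S0625.result hr5 hsol).2.1
  obtain ⟨D, hDn, hCD, ⟨j, hj⟩, haD⟩ := hst a (by rw [hquad]; exact bot_le)
  have hVn : (pCore r X).Normal := Cfsg.Agent.Lib.Helper1_Cores.pCore_normal r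
  have hVp : IsPGroup r (pCore r X) := Cfsg.Agent.Lib.Helper1_Cores.pCore_isPGroup r
  obtain ⟨E, hE⟩ : ∃ E : Subgroup X, E = ⨅ q : {q : ℕ // q.Prime ∧ q ≠ r},
      Subgroup.centralizer (pCore (q : ℕ) X : Set X) := ⟨_, rfl⟩
  have hEn : E.Normal := by
    rw [hE]
    refine Subgroup.normal_iInf_normal (fun q => ?_)
    haveI : (pCore (q : ℕ) X).Normal := Cfsg.Agent.Lib.Helper1_Cores.pCore_normal _
    exact Subgroup.normal_centralizer
  have hmemE : ∀ g : X, g ∈ E ↔ ∀ q : ℕ, q.Prime → q ≠ r → ∀ y ∈ pCore q X, y * g = g * y := by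
    intro g
    rw [hE, Subgroup.mem_iInf]
    constructor
    · intro h q hq hqr y hy
      have := h ⟨q, hq, hqr⟩
      rw [Subgroup.mem_centralizer_iff] at this
      exact this y hy
    · rintro h ⟨q, hq, hqr⟩
      rw [Subgroup.mem_centralizer_iff]
      exact h q hq hqr
  have haE : a ∈ E := by
    rw [hmemE]
    intro q hq hqr y hy
    exact (hcent q hq hqr y hy).symm
  obtain ⟨Z, hZ⟩ : ∃ Z : Subgroup X, Z = D ⊓ E := ⟨_, rfl⟩
  have hZn : Z.Normal := by rw [hZ]; exact Subgroup.normal_inf_normal D E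
  have haZ : a ∈ Z := by rw [hZ]; exact Subgroup.mem_inf.mpr ⟨haD, haE⟩
  -- `r'`-elements of `Z` are central in `Z`
  have hcentral : ∀ y ∈ Z, (orderOf y).Coprime r → ∀ z ∈ Z, y * z = z * y := by
    intro y hy hyr z hz
    rw [hZ] at hy hz
    have hyD : y ∈ D := (Subgroup.mem_inf.mp hy).1
    have hyE : y ∈ E := (Subgroup.mem_inf.mp hy).2
    have hzE : z ∈ E := (Subgroup.mem_inf.mp hz).2
    have hyC : y ∈ Cfsg.sectionKernel (pCore r X)
        ((frattini ↥(pCore r X)).map (pCore r X).subtype) := by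
      refine Cfsg.Agent.S0092.mem_of_coprime_relIndex _ D hCD ?_ y hyD ?_
      · have hn : (Cfsg.sectionKernel (pCore r X)
            ((frattini ↥(pCore r X)).map (pCore r X).subtype)).Normal := by
          unfold Cfsg.sectionKernel
          haveI : ((pCore r X).map (QuotientGroup.mk'
              ((frattini ↥(pCore r X)).map (pCore r X).subtype))).Normal :=
            Subgroup.Normal.map hVn _ (QuotientGroup.mk'_surjective _)
          exact Subgroup.Normal.comap Subgroup.normal_centralizer _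
        rw [Subgroup.normalizer_eq_top_iff.mpr hn]
        exact le_top
      · rw [hj]; exact Nat.Coprime.pow_right j hyr
    have hyV : Subgroup.zpowers y ≤ Subgroup.centralizer (pCore r X : Set X) := by
      refine Cfsg.Agent.S0521.le_centralizer_of_commutator_le_phi r (pCore r X) hVp
        (Subgroup.zpowers y) ?_ ?_
      · obtain ⟨m, hm⟩ := IsPGroup.iff_card.mp hVp
        rw [Nat.card_zpowers, hm]; exact Nat.Coprime.pow_right m hyr
      · rw [Subgroup.commutator_le]
        intro v hv w hw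
        exact commutator_mem_of_mem_sectionKernel ((Subgroup.zpowers_le.mpr hyC) hw) hv
    have hyall : ∀ q : ℕ, q.Prime → ∀ v ∈ pCore q X, v * y = y * v := by
      intro q hq v hv
      by_cases hqr : q = r
      · subst hqr
        have := hyV (Subgroup.mem_zpowers y)
        rw [Subgroup.mem_centralizer_iff] at this
        exact this v hv
      · exact (hmemE y).mp hyE q hq hqr v hv
    have hyF : y ∈ Subgroup.centralizer (fittingSubgroup X : Set X) := by
      have h1 : fittingSubgroup X ≤ Subgroup.centralizer ({y} : Set X) := by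
        rw [Cfsg.Agent.Lib.Helper1_Cores.fittingSubgroup_eq_iSup_pCore]
        refine iSup_le (fun q => ?_)
        intro v hv
        rw [Subgroup.mem_centralizer_singleton_iff]
        exact hyall q q.2 v hv
      rw [Subgroup.mem_centralizer_iff]
      intro v hv
      have := h1 hv
      rw [Subgroup.mem_centralizer_singleton_iff] at this
      exact this
    have hyF' : y ∈ fittingSubgroup X :=
      Cfsg.Agent.Lib.Helper55_Fitting.centralizer_fittingSubgroup_le hyF
    have hmem : y ∈ Subgroup.centralizer ({z} : Set X) := by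
      apply Cfsg.Agent.Lib.Helper71_Fitting.mem_of_primePow_mem
      intro y' hy' q m hq hy'o
      haveI : Fact q.Prime := ⟨hq⟩
      have hy'F : y' ∈ fittingSubgroup X := (Subgroup.zpowers_le.mpr hyF') hy'
      have hy'q : y' ∈ pCore q X := by
        rw [Cfsg.Agent.Lib.Helper1_Cores.pCore_eq_iInf_sylow, Subgroup.mem_iInf]
        intro P
        exact Cfsg.Agent.Lib.Helper71_Fitting.mem_sylow_of_mem_fitting hy'F hy'o P
      rw [Subgroup.mem_centralizer_singleton_iff]
      by_cases hqr : q = r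
      · -- then `y' = 1`
        have hdvd : orderOf y' ∣ orderOf y := orderOf_dvd_of_mem_zpowers hy'
        have hc : (orderOf y').Coprime r := Nat.Coprime.coprime_dvd_left hdvd hyr
        rw [hy'o, hqr] at hc
        have hm0 : m = 0 := by
          by_contra hne
          have := (Nat.coprime_pow_left_iff (Nat.pos_of_ne_zero hne) r r).mp hc
          exact hr.out.one_lt.ne' (Nat.coprime_self r |>.mp this)
        rw [hm0, pow_zero, orderOf_eq_one_iff] at hy'o
        rw [hy'o, one_mul, mul_one]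
      · exact ((hmemE z).mp hzE q hq hqr y' hy'q)
    rw [Subgroup.mem_centralizer_singleton_iff] at hmem
    exact hmem
  -- `Z / Z(Z)` is an `r`-group, so `Z` is nilpotent
  have hquot : IsPGroup r (↥Z ⧸ Subgroup.center ↥Z) := by
    intro g
    obtain ⟨z, rfl⟩ := QuotientGroup.mk_surjective g
    have hz0 : orderOf z ≠ 0 := (orderOf_pos z).ne'
    obtain ⟨m, s, hs, hms⟩ := Nat.exists_eq_pow_mul_and_not_dvd hz0 r hr.out.ne_one
    refine ⟨m, ?_⟩
    rw [← QuotientGroup.mk_pow, QuotientGroup.eq_one_iff, Subgroup.mem_center_iff]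
    intro w
    have hord : orderOf (z ^ r ^ m) = s := by
      rw [orderOf_pow' z (pow_ne_zero m hr.out.ne_zero), hms, Nat.gcd_mul_right_left,
        Nat.mul_div_cancel_left s (pow_pos hr.out.pos m)]
    have hcop : (orderOf ((z ^ r ^ m : ↥Z) : X)).Coprime r := by
      rw [Subgroup.orderOf_coe, hord]
      exact ((Nat.Prime.coprime_iff_not_dvd hr.out).mpr hs).symm
    have := hcentral _ (z ^ r ^ m).2 hcop w w.2
    apply Subtype.ext
    simp only [Subgroup.coe_mul]
    exact this.symm
  haveI hqn : Group.IsNilpotent (↥Z ⧸ Subgroup.center ↥Z) := hquot.isNilpotent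
  haveI hZnil : Group.IsNilpotent ↥Z :=
    Subgroup.isNilpotent_of_ker_le_center (QuotientGroup.mk' (Subgroup.center ↥Z))
      (by rw [QuotientGroup.ker_mk'])
  -- the Sylow `r`-subgroup containing `a`
  have hap : IsPGroup r (Subgroup.zpowers (⟨a, haZ⟩ : ↥Z)) := by
    have h1 : orderOf a ∣ r ^ k := orderOf_dvd_of_pow_eq_one hpow
    obtain ⟨i, _, hi⟩ := (Nat.dvd_prime_pow hr.out).mp h1
    apply IsPGroup.of_card (n := i)
    rw [Nat.card_zpowers, Subgroup.orderOf_mk, hi]
  obtain ⟨P, hP⟩ := hap.exists_le_sylow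
  haveI hPn : (P : Subgroup ↥Z).Normal := inferInstance
  haveI hPc : (P : Subgroup ↥Z).Characteristic := Sylow.characteristic_of_normal P hPn
  have hPX : ((P : Subgroup ↥Z).map Z.subtype).Normal :=
    ConjAct.normal_of_characteristic_of_normal
  have hPp : IsPGroup r ((P : Subgroup ↥Z).map Z.subtype) := P.isPGroup'.map _
  have hle := Cfsg.Agent.Lib.Helper1_Cores.le_pCore hPX hPp
  exact hle ⟨⟨a, haZ⟩, hP (Subgroup.mem_zpowers _), rfl⟩

/-- **Self-centralizing normal subgroups of a nilpotent overgroup of `F(X)`.**  Let `X` be a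
finite solvable group with `O_q(X) = 1` for all primes `q ∉ π`, where `2, 3 ∉ π`.  If `F₁` is a
nilpotent subgroup containing `F(X)` and `A ∈ SCN(F₁)`, then `C_X(A) ≤ A`. -/
theorem centralizer_scn_le [Group.IsSolvable X] (π : Set ℕ) (h2 : 2 ∉ π) (h3 : 3 ∉ π)
    (hπ : ∀ q : ℕ, q.Prime → q ∉ π → pCore q X = ⊥)
    (F₁ : Subgroup X) (hF₁ : Group.IsNilpotent F₁) (hFF : fittingSubgroup X ≤ F₁)
    (A : Subgroup X) (hA : Cfsg.IsSCN F₁ A) :
    Subgroup.centralizer (A : Set X) ≤ A := by
  classical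
  obtain ⟨hAF, hFN, hAC⟩ := hA
  have hFn : (fittingSubgroup X).Normal := Cfsg.Agent.Lib.Helper1_Cores.fittingSubgroup_normal
  -- basic facts
  have f0 : A ≤ Subgroup.centralizer (A : Set X) := by
    intro a ha
    rw [← hAC] at ha
    exact (Subgroup.mem_inf.mp ha).2
  have f2 : ∀ f ∈ F₁, ∀ a ∈ A, f * a * f⁻¹ ∈ A := by
    intro f hf a ha
    exact (Subgroup.mem_normalizer_iff.mp (hFN hf) a).mp ha
  have f3 : ∀ f ∈ F₁, f ∈ Subgroup.centralizer (A : Set X) → f ∈ A := by
    intro f hf hfc
    rw [← hAC]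
    exact Subgroup.mem_inf.mpr ⟨hf, hfc⟩
  have hAA : ⁅A, A⁆ = ⊥ := Subgroup.commutator_eq_bot_iff_le_centralizer.mpr f0
  -- the generic claim
  have f4 : ∀ (y : X) (r k : ℕ), r.Prime → orderOf y = r ^ k →
      (∀ q : ℕ, q.Prime → q ≠ r → ∀ v ∈ pCore q X, y * v = v * y) →
      ⁅⁅pCore r X, Subgroup.zpowers y⁆, Subgroup.zpowers y⁆ = ⊥ → y ∈ fittingSubgroup X := by
    intro y r k hr hy hcent hquad
    haveI : Fact r.Prime := ⟨hr⟩
    by_cases hrπ : r ∈ π
    · have hr5 : 5 ≤ r := by
        have h2' : r ≠ 2 := fun h => h2 (h ▸ hrπ)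
        have h3' : r ≠ 3 := fun h => h3 (h ▸ hrπ)
        have h4' : r ≠ 4 := fun h => by rw [h] at hr; exact absurd hr (by decide)
        have := hr.two_le
        omega
      have hyk : y ^ (r ^ k) = 1 := by rw [← hy]; exact pow_orderOf_eq_one y
      exact Cfsg.Agent.Lib.Helper1_Cores.pCore_le_fittingSubgroup r
        (mem_pCore_of_quad hr5 y hquad hcent k hyk)
    · have hbot := hπ r hr hrπ
      apply Cfsg.Agent.Lib.Helper55_Fitting.centralizer_fittingSubgroup_le
      have h1 : fittingSubgroup X ≤ Subgroup.centralizer ({y} : Set X) := by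
        rw [Cfsg.Agent.Lib.Helper1_Cores.fittingSubgroup_eq_iSup_pCore]
        refine iSup_le (fun q => ?_)
        intro v hv
        rw [Subgroup.mem_centralizer_singleton_iff]
        by_cases hqr : (q : ℕ) = r
        · rw [hqr, hbot, Subgroup.mem_bot] at hv
          rw [hv, one_mul, mul_one]
        · exact (hcent q q.2 hqr v hv).symm
      rw [Subgroup.mem_centralizer_iff]
      intro v hv
      have := h1 hv
      rw [Subgroup.mem_centralizer_singleton_iff] at this
      exact this
  -- Step 1: `A ≤ F(X)`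
  have step1 : A ≤ fittingSubgroup X := by
    intro a ha
    apply Cfsg.Agent.Lib.Helper71_Fitting.mem_of_primePow_mem
    intro y hy r k hr hyo
    have hyA : y ∈ A := (Subgroup.zpowers_le.mpr ha) hy
    apply f4 y r k hr hyo
    · intro q hq hqr v hv
      haveI : Fact q.Prime := ⟨hq⟩
      have hvF : v ∈ F₁ := hFF (Cfsg.Agent.Lib.Helper1_Cores.pCore_le_fittingSubgroup q hv)
      obtain ⟨m, hm⟩ := (Cfsg.Agent.Lib.Helper1_Cores.pCore_isPGroup (G := X) q) ⟨v, hv⟩
      have hm' : v ^ (q ^ m) = 1 := by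
        have := congrArg Subtype.val hm
        simpa using this
      have hyk : y ^ (r ^ k) = 1 := by rw [← hyo]; exact pow_orderOf_eq_one y
      have hc := Cfsg.Agent.Lib.Helper32_Nilpotent.commute_of_coprime_pow_eq_one ↥F₁
        ⟨y, hAF hyA⟩ ⟨v, hvF⟩ (r ^ k) (q ^ m) (Subtype.ext (by simpa using hyk))
        (Subtype.ext (by simpa using hm'))
        (Nat.Coprime.pow _ _ ((Nat.coprime_primes hr hq).mpr (Ne.symm hqr)))
      have := congrArg Subtype.val hc.eq
      simpa using this
    · rw [eq_bot_iff, ← hAA]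
      refine Subgroup.commutator_mono ?_ (Subgroup.zpowers_le.mpr hyA)
      rw [Subgroup.commutator_le]
      intro v hv w hw
      haveI : Fact r.Prime := ⟨hr⟩
      have hvF : v ∈ F₁ := hFF (Cfsg.Agent.Lib.Helper1_Cores.pCore_le_fittingSubgroup r hv)
      have hwA : w ∈ A := (Subgroup.zpowers_le.mpr hyA) hw
      rw [commutatorElement_def]
      exact A.mul_mem (f2 v hvF w hwA) (A.inv_mem hwA)
  -- Step 2
  -- commutators of `F(X)` with `C(A)` lie in `A`
  have claim : ∀ w ∈ Subgroup.centralizer (A : Set X), ∀ v ∈ fittingSubgroup X,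
      w * v * w⁻¹ * v⁻¹ ∈ A := by
    intro w hw v hv
    have hvF : v ∈ F₁ := hFF hv
    apply f3
    · apply hFF
      exact (fittingSubgroup X).mul_mem (hFn.conj_mem v hv w) ((fittingSubgroup X).inv_mem hv)
    · rw [Subgroup.mem_centralizer_iff]
      intro a ha
      have ha' : v⁻¹ * a * v ∈ A := by
        have := f2 v⁻¹ (F₁.inv_mem hvF) a ha
        simpa using this
      rw [Subgroup.mem_centralizer_iff] at hw
      have e1 : (v⁻¹ * a * v) * w = w * (v⁻¹ * a * v) := hw _ ha'
      have e2 : a * w = w * a := hw a ha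
      have e3 : w⁻¹ * (v⁻¹ * a * v) = (v⁻¹ * a * v) * w⁻¹ := by
        calc w⁻¹ * (v⁻¹ * a * v) = w⁻¹ * ((v⁻¹ * a * v) * w) * w⁻¹ := by group
          _ = w⁻¹ * (w * (v⁻¹ * a * v)) * w⁻¹ := by rw [e1]
          _ = (v⁻¹ * a * v) * w⁻¹ := by group
      calc a * (w * v * w⁻¹ * v⁻¹) = (a * w) * v * w⁻¹ * v⁻¹ := by group
        _ = (w * a) * v * w⁻¹ * v⁻¹ := by rw [e2]
        _ = w * v * ((v⁻¹ * a * v) * w⁻¹) * v⁻¹ := by group
        _ = w * v * (w⁻¹ * (v⁻¹ * a * v)) * v⁻¹ := by rw [e3]
        _ = w * v * w⁻¹ * v⁻¹ * a := by group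
  intro c hc
  apply Cfsg.Agent.Lib.Helper71_Fitting.mem_of_primePow_mem
  intro y hy r k hr hyo
  have hyC : y ∈ Subgroup.centralizer (A : Set X) := (Subgroup.zpowers_le.mpr hc) hy
  have hyk : y ^ (r ^ k) = 1 := by rw [← hyo]; exact pow_orderOf_eq_one y
  have hyF : y ∈ fittingSubgroup X := by
    apply f4 y r k hr hyo
    · intro q hq hqr v hv
      haveI : Fact q.Prime := ⟨hq⟩
      have hvF : v ∈ fittingSubgroup X :=
        Cfsg.Agent.Lib.Helper1_Cores.pCore_le_fittingSubgroup q hv
      have hbA := claim y hyC v hvF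
      have hqn : (pCore q X).Normal := Cfsg.Agent.Lib.Helper1_Cores.pCore_normal q
      have hbq : y * v * y⁻¹ * v⁻¹ ∈ pCore q X :=
        (pCore q X).mul_mem (hqn.conj_mem v hv y) ((pCore q X).inv_mem hv)
      obtain ⟨m, hm⟩ := (Cfsg.Agent.Lib.Helper1_Cores.pCore_isPGroup (G := X) q) ⟨_, hbq⟩
      have hm' : (y * v * y⁻¹ * v⁻¹) ^ (q ^ m) = 1 := by
        have := congrArg Subtype.val hm
        simpa using this
      have hcomm : Commute y (y * v * y⁻¹ * v⁻¹) := by
        rw [Subgroup.mem_centralizer_iff] at hyC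
        exact (hyC _ hbA).symm
      exact comm_of_quad_coprime hcomm (r ^ k) (q ^ m) hyk hm'
        (Nat.Coprime.pow _ _ ((Nat.coprime_primes hr hq).mpr (Ne.symm hqr)))
    · rw [eq_bot_iff]
      have h1 : ⁅pCore r X, Subgroup.zpowers y⁆ ≤ A := by
        rw [Subgroup.commutator_le]
        intro v hv w hw
        haveI : Fact r.Prime := ⟨hr⟩
        have hvF : v ∈ fittingSubgroup X :=
          Cfsg.Agent.Lib.Helper1_Cores.pCore_le_fittingSubgroup r hv
        have hwC : w ∈ Subgroup.centralizer (A : Set X) := (Subgroup.zpowers_le.mpr hyC) hw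
        have := A.inv_mem (claim w hwC v hvF)
        rw [commutatorElement_def]
        have e : v * w * v⁻¹ * w⁻¹ = (w * v * w⁻¹ * v⁻¹)⁻¹ := by group
        rw [e]; exact this
      have h2 : ⁅A, Subgroup.zpowers y⁆ = ⊥ := by
        rw [Subgroup.commutator_eq_bot_iff_le_centralizer, Subgroup.le_centralizer_iff]
        exact Subgroup.zpowers_le.mpr hyC
      rw [← h2]
      exact Subgroup.commutator_mono h1 le_rfl
  exact f3 y (hFF hyF) hyC

end main

end Cfsg.Agent.Lib.Helper10_QuadFit
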