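import Mathlib

/-!
Radicals and subnormal subgroups (helper22).

For a property `P` of subgroups of a finite group `G` that holds for `⊥`, is invariant under conjugation and is
preserved by joins `M ⊔ N` of mutually normalizing subgroups, every subnormal subgroup `H` of `G`, and more generally
every subgroup `N ≤ H` normalized by a subnormal `H` with `P N`, lies in the `P`-radical
`sSup {N | N.Normal ∧ P N}`.  Instances: `P N := (Nat.card N).Coprime p` (the `p'`-core), `P N := IsPGroup p N`
(the `p`-core), solvable radical, ...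
-/

set_option autoImplicit false

namespace Cfsg.Agent.Lib.Helper22_Radical

open Subgroup

variable {G : Type*} [Group G]

/-- conjugate of a subgroup -/
abbrev cj (k : G) (N : Subgroup G) : Subgroup G := N.map (MulAut.conj k).toMonoidHom

theorem mem_cj {k : G} {N : Subgroup G} {x : G} : x ∈ cj k N ↔ k⁻¹ * x * k ∈ N := by
  constructor
  · rintro ⟨n, hn, rfl⟩
    have : k⁻¹ * ((MulAut.conj k).toMonoidHom n) * k = n := by
      simp [MulAut.conj_apply, mul_assoc]
    rw [this]; exact hn
  · intro h
    refine ⟨k⁻¹ * x * k, h, ?_⟩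
    simp [MulAut.conj_apply, mul_assoc]

theorem cj_mono {k : G} {M N : Subgroup G} (h : M ≤ N) : cj k M ≤ cj k N := Subgroup.map_mono h

theorem cj_eq_of_mem_normalizer {k : G} {H : Subgroup G} (hk : k ∈ normalizer (H : Set G)) : cj k H = H := by
  ext x
  rw [mem_cj]
  have := (mem_normalizer_iff''.mp hk x)
  exact this.symm

theorem normalizer_cj (k : G) (N : Subgroup G) : normalizer ((cj k N : Subgroup G) : Set G) = cj k (normalizer (N : Set G)) := by
  ext x
  rw [mem_cj, mem_normalizer_iff, mem_normalizer_iff]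
  constructor
  · intro h n
    have := h (k * n * k⁻¹)
    rw [mem_cj, mem_cj] at this
    have e1 : k⁻¹ * (k * n * k⁻¹) * k = n := by group
    have e2 : k⁻¹ * (x * (k * n * k⁻¹) * x⁻¹) * k = k⁻¹ * x * k * n * (k⁻¹ * x * k)⁻¹ := by group
    rw [e1, e2] at this
    exact this
  · intro h n
    rw [mem_cj, mem_cj]
    have := h (k⁻¹ * n * k)
    have e2 : k⁻¹ * (x * n * x⁻¹) * k = k⁻¹ * x * k * (k⁻¹ * n * k) * (k⁻¹ * x * k)⁻¹ := by group
    rw [e2]
    exact this

/-- The radical of `H` relative to `P`, as a subgroup of `G`: the join of all `N ≤ H` normalized by `H` with `P N`. -/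
def radicalIn (P : Subgroup G → Prop) (H : Subgroup G) : Subgroup G :=
  sSup {N : Subgroup G | N ≤ H ∧ H ≤ normalizer (N : Set G) ∧ P N}

/-- The `P`-radical of `G`. -/
def radical (P : Subgroup G → Prop) : Subgroup G :=
  sSup {N : Subgroup G | N.Normal ∧ P N}

theorem radicalIn_le (P : Subgroup G → Prop) (H : Subgroup G) : radicalIn P H ≤ H :=
  sSup_le (fun _ hN => hN.1)

theorem radicalIn_top (P : Subgroup G → Prop) : radicalIn P ⊤ = radical P := by
  unfold radicalIn radical
  congr 1
  ext N
  simp only [Set.mem_ofPred_eq, le_top, true_and, top_le_iff, normalizer_eq_top_iff]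

variable (P : Subgroup G → Prop)

theorem cj_radicalIn_le (hconj : ∀ (N : Subgroup G) (k : G), P N → P (cj k N)) (H : Subgroup G) (k : G)
    (hk : k ∈ normalizer (H : Set G)) : cj k (radicalIn P H) ≤ radicalIn P H := by
  unfold radicalIn cj
  rw [(Subgroup.gc_map_comap (MulAut.conj k).toMonoidHom).l_sSup]
  apply iSup₂_le
  rintro N ⟨hNH, hHN, hPN⟩
  apply le_sSup
  refine ⟨?_, ?_, hconj N k hPN⟩
  · have := cj_mono (k := k) hNH
    rwa [cj_eq_of_mem_normalizer hk] at this
  · have h1 : normalizer ((cj k N : Subgroup G) : Set G) = cj k (normalizer (N : Set G)) := normalizer_cj k N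
    show H ≤ normalizer ((cj k N : Subgroup G) : Set G)
    rw [h1]
    have := cj_mono (k := k) hHN
    rwa [cj_eq_of_mem_normalizer hk] at this

theorem normalizer_le_normalizer_radicalIn (hconj : ∀ (N : Subgroup G) (k : G), P N → P (cj k N))
    (H : Subgroup G) : normalizer (H : Set G) ≤ normalizer ((radicalIn P H : Subgroup G) : Set G) := by
  intro k hk
  have hk' : k⁻¹ ∈ normalizer (H : Set G) := inv_mem hk
  rw [mem_normalizer_iff]
  intro n
  constructor
  · intro hn
    apply cj_radicalIn_le P hconj H k hk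
    rw [mem_cj]
    have : k⁻¹ * (k * n * k⁻¹) * k = n := by group
    rw [this]; exact hn
  · intro hn
    have := cj_radicalIn_le P hconj H k⁻¹ hk' (x := n) (by
      rw [mem_cj]
      simpa using hn)
    exact this

theorem radicalIn_mem [Finite G] (hbot : P ⊥)
    (hsup : ∀ M N : Subgroup G, N ≤ normalizer (M : Set G) → M ≤ normalizer (N : Set G) → P M → P N → P (M ⊔ N))
    (H : Subgroup G) :
    H ≤ normalizer ((radicalIn P H : Subgroup G) : Set G) ∧ P (radicalIn P H) := by
  classical
  have key : ∀ s : Finset (Subgroup G), (∀ N ∈ s, N ≤ H ∧ H ≤ normalizer (N : Set G) ∧ P N) →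
      (s.sup id ≤ H ∧ H ≤ normalizer ((s.sup id : Subgroup G) : Set G) ∧ P (s.sup id)) := by
    intro s
    induction s using Finset.induction_on with
    | empty =>
      intro _
      simp only [Finset.sup_empty]
      refine ⟨bot_le, ?_, hbot⟩
      intro x _
      rw [mem_normalizer_iff]
      intro h
      simp [Subgroup.mem_bot]
    | insert a s _ ih =>
      intro h
      obtain ⟨ha1, ha2, ha3⟩ := h a (Finset.mem_insert_self a s)
      obtain ⟨hs1, hs2, hs3⟩ := ih (fun N hN => h N (Finset.mem_insert_of_mem hN))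
      rw [Finset.sup_insert]
      refine ⟨sup_le ha1 hs1, ?_, ?_⟩
      · exact le_trans (le_inf ha2 hs2) (normalizer_inf_normalizer_le_normalizer_sup a (s.sup id))
      · exact hsup a (s.sup id) (hs1.trans ha2) (ha1.trans hs2) ha3 hs3
  have hfin : Set.Finite {N : Subgroup G | N ≤ H ∧ H ≤ normalizer (N : Set G) ∧ P N} := Set.toFinite _
  have h := key hfin.toFinset (fun N hN => by simpa using hN)
  have e : hfin.toFinset.sup id = radicalIn P H := by
    unfold radicalIn
    rw [Finset.sup_id_eq_sSup]
    simp
  rw [e] at h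
  exact ⟨h.2.1, h.2.2⟩

theorem radicalIn_mono_of_normal [Finite G] (hbot : P ⊥)
    (hconj : ∀ (N : Subgroup G) (k : G), P N → P (cj k N))
    (hsup : ∀ M N : Subgroup G, N ≤ normalizer (M : Set G) → M ≤ normalizer (N : Set G) → P M → P N → P (M ⊔ N))
    {H K : Subgroup G} (hHK : H ≤ K) (hKH : K ≤ normalizer (H : Set G)) :
    radicalIn P H ≤ radicalIn P K := by
  apply le_sSup
  refine ⟨(radicalIn_le P H).trans hHK, hKH.trans (normalizer_le_normalizer_radicalIn P hconj H),
    (radicalIn_mem P hbot hsup H).2⟩

/-- The radical of a subnormal subgroup lies in the radical of the group. -/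
theorem radicalIn_le_radical_of_isSubnormal [Finite G] (hbot : P ⊥)
    (hconj : ∀ (N : Subgroup G) (k : G), P N → P (cj k N))
    (hsup : ∀ M N : Subgroup G, N ≤ normalizer (M : Set G) → M ≤ normalizer (N : Set G) → P M → P N → P (M ⊔ N))
    {H : Subgroup G} (hH : H.IsSubnormal) : radicalIn P H ≤ radical P := by
  induction hH with
  | top => rw [radicalIn_top]
  | step H K h_le _ hN ih =>
    rw [normal_subgroupOf_iff_le_normalizer h_le] at hN
    exact (radicalIn_mono_of_normal P hbot hconj hsup h_le hN).trans ih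

/-- A subgroup with `P`, normalized by a subnormal subgroup containing it, lies in the `P`-radical. -/
theorem le_radical_of_isSubnormal [Finite G] (hbot : P ⊥)
    (hconj : ∀ (N : Subgroup G) (k : G), P N → P (cj k N))
    (hsup : ∀ M N : Subgroup G, N ≤ normalizer (M : Set G) → M ≤ normalizer (N : Set G) → P M → P N → P (M ⊔ N))
    {H : Subgroup G} (hH : H.IsSubnormal) {N : Subgroup G} (hNH : N ≤ H) (hHN : H ≤ normalizer (N : Set G))
    (hPN : P N) : N ≤ radical P :=
  (le_sSup (show N ∈ {N : Subgroup G | N ≤ H ∧ H ≤ normalizer (N : Set G) ∧ P N} from ⟨hNH, hHN, hPN⟩)).trans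
    (radicalIn_le_radical_of_isSubnormal P hbot hconj hsup hH)

/-- A subnormal subgroup with `P` lies in the `P`-radical. -/
theorem le_radical_of_isSubnormal_self [Finite G] (hbot : P ⊥)
    (hconj : ∀ (N : Subgroup G) (k : G), P N → P (cj k N))
    (hsup : ∀ M N : Subgroup G, N ≤ normalizer (M : Set G) → M ≤ normalizer (N : Set G) → P M → P N → P (M ⊔ N))
    {H : Subgroup G} (hH : H.IsSubnormal) (hPH : P H) : H ≤ radical P :=
  le_radical_of_isSubnormal P hbot hconj hsup hH le_rfl le_normalizer hPH

end Cfsg.Agent.Lib.Helper22_Radical
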