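import Cfsg.Agent.S0025
import Cfsg.Agent.Lib.Helper32_Cores
import Cfsg.Agent.Lib.Helper22_Radical
import Cfsg.Prelude.Def_OddOrder
import Cfsg.Prelude.Def_OddOrderLocal

/-!
The transitivity theorem for minimal simple groups of odd order (Bender--Glauberman, section 7) (helper22).

`A` satisfies `Cfsg.TransitivityHypothesis`, `π' = primesNotDvd |A|`, `K = O_{π'}(C_G(A))`.
Main results:
* `conj_of_inf_ne_bot`: two maximal `A`-invariant `q`-subgroups with nontrivial intersection are `K`-conjugate;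
* `conj_of_common_overgroup`: the same when a proper subgroup `H ≥ A` meets both nontrivially.
-/

set_option autoImplicit false

namespace Cfsg.Agent.Lib.Helper22_BGTrans

open Subgroup Cfsg Cfsg.Agent.Lib.Helper22_Radical Cfsg.Agent.Lib.Helper24_CoprimeAction
  Cfsg.Agent.Lib.Helper32_Cores

universe u

variable {G : Type u} [Group G]

/-! ### conjugation -/

theorem cj_mul (a b : G) (N : Subgroup G) : cj (a * b) N = cj a (cj b N) := by
  ext x
  rw [mem_cj, mem_cj, mem_cj]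
  have : (a * b)⁻¹ * x * (a * b) = b⁻¹ * (a⁻¹ * x * a) * b := by group
  rw [this]

theorem cj_one' (N : Subgroup G) : cj (1 : G) N = N := by
  ext x
  rw [mem_cj]
  simp

theorem cj_inv_cj (a : G) (N : Subgroup G) : cj a⁻¹ (cj a N) = N := by
  rw [← cj_mul, inv_mul_cancel, cj_one']

theorem cj_cj_inv (a : G) (N : Subgroup G) : cj a (cj a⁻¹ N) = N := by
  rw [← cj_mul, mul_inv_cancel, cj_one']

theorem cj_le_iff (a : G) (M N : Subgroup G) : cj a M ≤ cj a N ↔ M ≤ N := by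
  constructor
  · intro h
    have := cj_mono (k := a⁻¹) h
    rwa [cj_inv_cj, cj_inv_cj] at this
  · exact cj_mono

theorem card_cj (a : G) (N : Subgroup G) : Nat.card (cj a N) = Nat.card N :=
  Subgroup.card_map_of_injective (MulAut.conj a).injective

theorem cj_ne_bot {a : G} {N : Subgroup G} (h : N ≠ ⊥) : cj a N ≠ ⊥ := by
  intro h1
  apply h
  have : cj a⁻¹ (cj a N) = cj a⁻¹ ⊥ := by rw [h1]
  rw [cj_inv_cj] at this
  rw [this]
  exact Subgroup.map_bot _

/-- conjugacy under a subgroup `K` -/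
def KConj (K Q Q' : Subgroup G) : Prop := ∃ k ∈ K, Q' = cj k Q

theorem KConj.refl (K Q : Subgroup G) : KConj K Q Q := ⟨1, K.one_mem, (cj_one' Q).symm⟩

theorem KConj.symm {K Q Q' : Subgroup G} (h : KConj K Q Q') : KConj K Q' Q := by
  obtain ⟨k, hk, rfl⟩ := h
  exact ⟨k⁻¹, K.inv_mem hk, (cj_inv_cj k Q).symm⟩

theorem KConj.trans {K Q Q' Q'' : Subgroup G} (h : KConj K Q Q') (h' : KConj K Q' Q'') : KConj K Q Q'' := by
  obtain ⟨k, hk, rfl⟩ := h
  obtain ⟨k', hk', rfl⟩ := h'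
  exact ⟨k' * k, K.mul_mem hk' hk, (cj_mul k' k Q).symm⟩

/-! ### `q`-subgroups and membership in `invSubgroups` -/

theorem isPGroup_of_primes [Finite G] {q : ℕ} (hq : q.Prime) {Y : Subgroup G}
    (h : ∀ p : ℕ, p.Prime → p ∣ Nat.card Y → p ∈ ({q} : Set ℕ)) : IsPGroup q Y := by
  have : Fact q.Prime := ⟨hq⟩
  by_cases h1 : Nat.card Y = 1
  · have : Nat.card Y = q ^ 0 := by rw [h1, pow_zero]
    exact IsPGroup.of_card this
  · obtain ⟨k, hk⟩ : ∃ k, Nat.card Y = q ^ k := by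
      by_contra hcon
      push Not at hcon
      obtain ⟨p, hp, hpd⟩ := Nat.exists_prime_and_dvd h1
      have hpq : p = q := h p hp hpd
      subst hpq
      -- all prime factors are `p`
      have h2 : ∀ r : ℕ, r.Prime → r ∣ Nat.card Y → r = p := fun r hr hrd => h r hr hrd
      have hne : Nat.card Y ≠ 0 := Nat.card_pos.ne'
      have := Nat.eq_prime_pow_of_unique_prime_dvd hne (fun {d} hd hdd => h2 d hd hdd)
      exact hcon _ this
    exact IsPGroup.of_card hk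

theorem primes_of_isPGroup [Finite G] {q : ℕ} (hq : q.Prime) {Y : Subgroup G} (h : IsPGroup q Y) :
    ∀ p : ℕ, p.Prime → p ∣ Nat.card Y → p ∈ ({q} : Set ℕ) := by
  have : Fact q.Prime := ⟨hq⟩
  intro p hp hpd
  obtain ⟨n, hn⟩ := h.exists_card_eq
  rw [hn] at hpd
  exact (Nat.prime_dvd_prime_iff_eq hp hq).mp (hp.dvd_of_dvd_pow hpd)

theorem mem_invSubgroups_top [Finite G] {q : ℕ} (hq : q.Prime) {A Y : Subgroup G} :
    Y ∈ invSubgroups ⊤ A {q} ↔ IsPGroup q Y ∧ A ≤ normalizer (Y : Set G) := by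
  constructor
  · rintro ⟨-, h2, h3⟩
    exact ⟨isPGroup_of_primes hq h2, h3⟩
  · rintro ⟨h2, h3⟩
    exact ⟨le_top, primes_of_isPGroup hq h2, h3⟩

theorem le_normalizer_inf' {B M N : Subgroup G} (h1 : B ≤ normalizer (M : Set G))
    (h2 : B ≤ normalizer (N : Set G)) : B ≤ normalizer ((M ⊓ N : Subgroup G) : Set G) := by
  intro b hb
  rw [mem_normalizer_iff]
  intro x
  rw [mem_inf, mem_inf, ← mem_normalizer_iff.mp (h1 hb) x, ← mem_normalizer_iff.mp (h2 hb) x]

theorem card_lt_card_of_lt [Finite G] {D E : Subgroup G} (hle : D ≤ E) (hne : ¬ E ≤ D) :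
    Nat.card D < Nat.card E := by
  by_contra h
  push Not at h
  exact hne (Subgroup.eq_of_le_of_card_ge hle h).ge

/-! ### `piCoreOf` -/

theorem piCoreOf_le (π : Set ℕ) (X : Subgroup G) : piCoreOf π X ≤ X := Subgroup.map_subtype_le _

theorem piCoreOf_primes [Finite G] (π : Set ℕ) (X : Subgroup G) :
    ∀ p : ℕ, p.Prime → p ∣ Nat.card (piCoreOf π X) → p ∈ π := by
  intro p hp hpd
  unfold piCoreOf at hpd
  rw [Subgroup.card_map_of_injective X.subtype_injective] at hpd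
  exact card_piCore π p hp hpd

theorem le_normalizer_piCoreOf (π : Set ℕ) (X : Subgroup G) :
    X ≤ normalizer ((piCoreOf π X : Subgroup G) : Set G) := by
  have h1 := Subgroup.le_normalizer_map (H := piCore π X) X.subtype
  rw [Subgroup.normalizer_eq_top, ← MonoidHom.range_eq_map, Subgroup.range_subtype] at h1
  exact h1

theorem le_piCoreOf {π : Set ℕ} {X Y : Subgroup G} (hYX : Y ≤ X) (hXY : X ≤ normalizer (Y : Set G))
    (hY : ∀ p : ℕ, p.Prime → p ∣ Nat.card Y → p ∈ π) : Y ≤ piCoreOf π X := by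
  have hn : (Y.subgroupOf X).Normal := (normal_subgroupOf_iff_le_normalizer hYX).mpr hXY
  have hc : Nat.card (Y.subgroupOf X) = Nat.card Y := card_subgroupOf_of_le hYX
  have h1 : Y.subgroupOf X ≤ piCore π X := le_piCore hn (by rw [hc]; exact hY)
  have h2 := Subgroup.map_mono (f := X.subtype) h1
  rwa [Subgroup.map_subgroupOf_eq_of_le hYX] at h2

theorem coprime_of_primesNotDvd {n m : ℕ} (h : ∀ p : ℕ, p.Prime → p ∣ m → p ∈ primesNotDvd n) :
    n.Coprime m := by
  apply Nat.Coprime.symm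
  apply Nat.coprime_of_dvd
  intro k hk hkm
  exact (h k hk hkm).2

/-! ### consequences of simplicity -/

theorem normalizer_ne_top (hG : IsMinSimpleOddOrder G) {D : Subgroup G} (hD : D ≠ ⊥) (hD' : D ≠ ⊤) :
    normalizer (D : Set G) ≠ ⊤ := by
  intro h
  rw [normalizer_eq_top_iff] at h
  have := hG.2.1
  rcases h.eq_bot_or_eq_top with h | h
  · exact hD h
  · exact hD' h

theorem not_isPGroup (hG : IsMinSimpleOddOrder G) [Finite G] (q : ℕ) [Fact q.Prime] : ¬ IsPGroup q G := by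
  intro h
  have := hG.2.1
  have : Group.IsNilpotent G := h.isNilpotent
  have hs : Group.IsSolvable G := IsNilpotent.to_isSolvable
  have hc := IsSimpleGroup.comm_iff_isSolvable.mpr hs
  exact hG.2.2.1 ⟨⟨hc⟩⟩

theorem ne_top_of_isPGroup (hG : IsMinSimpleOddOrder G) [Finite G] {q : ℕ} (hq : q.Prime) {D : Subgroup G}
    (hD : IsPGroup q D) : D ≠ ⊤ := by
  rintro rfl
  have : Fact q.Prime := ⟨hq⟩
  exact not_isPGroup hG q (hD.of_equiv Subgroup.topEquiv)

/-- normalizers grow in `q`-groups -/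
theorem normalizer_growth [Finite G] {q : ℕ} (hq : q.Prime) {Q D : Subgroup G} (hQ : IsPGroup q Q)
    (hDQ : D ≤ Q) (hne : ¬ Q ≤ D) : ¬ (normalizer (D : Set G) ⊓ Q ≤ D) := by
  intro hle
  have : Fact q.Prime := ⟨hq⟩
  have hnil : Group.IsNilpotent ↥Q := hQ.isNilpotent
  have hlt : D.subgroupOf Q < ⊤ := by
    rw [lt_top_iff_ne_top, Ne, Subgroup.subgroupOf_eq_top]
    exact hne
  have hlt2 := Group.normalizerCondition_of_isNilpotent (D.subgroupOf Q) hlt
  obtain ⟨x, hxN, hxD⟩ := SetLike.exists_of_lt hlt2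
  apply hxD
  rw [Subgroup.mem_subgroupOf]
  apply hle
  refine Subgroup.mem_inf.mpr ⟨?_, x.2⟩
  rw [Subgroup.mem_normalizer_iff] at hxN ⊢
  intro h
  constructor
  · intro hh
    have := (hxN ⟨h, hDQ hh⟩).mp (by rw [Subgroup.mem_subgroupOf]; exact hh)
    rw [Subgroup.mem_subgroupOf] at this
    exact this
  · intro hh
    have hhQ : h ∈ Q := by
      have h1 : (x : G)⁻¹ * ((x : G) * h * (x : G)⁻¹) * (x : G) ∈ Q :=
        mul_mem (mul_mem (inv_mem x.2) (hDQ hh)) x.2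
      have h2 : (x : G)⁻¹ * ((x : G) * h * (x : G)⁻¹) * (x : G) = h := by group
      rwa [h2] at h1
    have := (hxN ⟨h, hhQ⟩).mpr (by rw [Subgroup.mem_subgroupOf]; exact hh)
    rw [Subgroup.mem_subgroupOf] at this
    exact this

/-! ### the transitivity hypothesis -/

section trans

variable {A : Subgroup G}

/-- the subgroup `K = O_{π(A)'}(C_G(A))` -/
abbrev kOf (A : Subgroup G) : Subgroup G := piCoreOf (primesNotDvd (Nat.card A)) (centralizer (A : Set G))

theorem kOf_le_centralizer (A : Subgroup G) : kOf A ≤ centralizer (A : Set G) := piCoreOf_le _ _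

theorem le_piCoreOf_of_mem (hA : TransitivityHypothesis A) {X : Subgroup G} (hX : X ≠ ⊤) (hAX : A ≤ X)
    {Y : Subgroup G} (hY : Y ∈ invSubgroups X A (primesNotDvd (Nat.card A))) :
    Y ≤ piCoreOf (primesNotDvd (Nat.card A)) X := by
  rw [← hA.2.2 X hX hAX]
  exact le_sSup hY

variable [Finite G]

omit [Finite G] in
theorem le_normalizer_centralizer_self (A : Subgroup G) :
    A ≤ normalizer ((centralizer (A : Set G) : Subgroup G) : Set G) := by
  intro a ha
  rw [mem_normalizer_iff]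
  intro x
  have key : ∀ y : G, y ∈ centralizer (A : Set G) → a * y * a⁻¹ = y := by
    intro y hy
    have := (mem_centralizer_iff.mp hy) a ha
    rw [this, mul_assoc, mul_inv_cancel, mul_one]
  constructor
  · intro hx
    rw [key x hx]; exact hx
  · intro hx
    rw [mem_centralizer_iff] at hx ⊢
    intro b hb
    have h1 := hx (a * b * a⁻¹) (A.mul_mem (A.mul_mem ha hb) (A.inv_mem ha))
    have h2 : b * x = a⁻¹ * ((a * b * a⁻¹) * (a * x * a⁻¹)) * a := by group
    have h3 : x * b = a⁻¹ * ((a * x * a⁻¹) * (a * b * a⁻¹)) * a := by group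
    rw [h2, h3, h1]

theorem inf_centralizer_le (hG : IsMinSimpleOddOrder G) (hA : TransitivityHypothesis A) {X : Subgroup G}
    (hAX : A ≤ X) :
    piCoreOf (primesNotDvd (Nat.card A)) X ⊓ centralizer (A : Set G) ≤ kOf A := by
  set π' := primesNotDvd (Nat.card A) with hπ
  set O := piCoreOf π' X with hO
  set C := centralizer (A : Set G) with hC
  set N := normalizer (A : Set G) with hNdef
  have hN : N ≠ ⊤ := normalizer_ne_top hG hA.1 hA.2.1
  have hAN : A ≤ N := le_normalizer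
  have hCN : C ≤ N := centralizer_le_normalizer _
  have hAC : A ≤ normalizer (C : Set G) := le_normalizer_centralizer_self A
  have hAO : A ≤ normalizer (O : Set G) := hAX.trans (le_normalizer_piCoreOf π' X)
  have hZ : O ⊓ C ∈ invSubgroups N A π' := by
    refine ⟨inf_le_right.trans hCN, ?_, le_normalizer_inf' hAO hAC⟩
    intro p hp hpd
    exact piCoreOf_primes π' X p hp (hpd.trans (Subgroup.card_dvd_of_le inf_le_left))
  have h1 : O ⊓ C ≤ piCoreOf π' N := le_piCoreOf_of_mem hA hN hAN hZ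
  have h2 : piCoreOf π' N ⊓ C ≤ piCoreOf π' C := by
    apply le_piCoreOf inf_le_right
    · exact le_normalizer_inf' (hCN.trans (le_normalizer_piCoreOf π' N)) le_normalizer
    · intro p hp hpd
      exact piCoreOf_primes π' N p hp (hpd.trans (Subgroup.card_dvd_of_le inf_le_left))
  exact (le_inf h1 inf_le_right).trans h2

/-- local conjugacy inside a proper subgroup containing `A` -/
theorem local_conj (hG : IsMinSimpleOddOrder G) (hA : TransitivityHypothesis A) {q : ℕ} (hq : q.Prime)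
    (hqA : ¬ q ∣ Nat.card A) {N : Subgroup G} (hN : N ≠ ⊤) (hAN : A ≤ N) {R R' : Subgroup G}
    (hR : IsPGroup q R) (hRN : R ≤ N) (hAR : A ≤ normalizer (R : Set G))
    (hR' : IsPGroup q R') (hRN' : R' ≤ N) (hAR' : A ≤ normalizer (R' : Set G)) :
    ∃ S : Subgroup G, R ≤ S ∧ IsPGroup q S ∧ A ≤ normalizer (S : Set G) ∧ ∃ k ∈ kOf A, R' ≤ cj k S := by
  have : Fact q.Prime := ⟨hq⟩
  set π' := primesNotDvd (Nat.card A) with hπ
  set O := piCoreOf π' N with hO
  have hqπ : q ∈ π' := ⟨hq, hqA⟩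
  have hRO : R ≤ O := le_piCoreOf_of_mem hA hN hAN
    ⟨hRN, fun p hp hpd => by rw [primes_of_isPGroup hq hR p hp hpd]; exact hqπ, hAR⟩
  have hRO' : R' ≤ O := le_piCoreOf_of_mem hA hN hAN
    ⟨hRN', fun p hp hpd => by rw [primes_of_isPGroup hq hR' p hp hpd]; exact hqπ, hAR'⟩
  have hAO : A ≤ normalizer (O : Set G) := hAN.trans (le_normalizer_piCoreOf π' N)
  have hcop : (Nat.card A).Coprime (Nat.card O) := coprime_of_primesNotDvd (piCoreOf_primes π' N)
  have hsolv : Group.IsSolvable A ∨ Group.IsSolvable O :=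
    Or.inr (isSolvable_of_le (piCoreOf_le π' N) (hG.2.2.2 N hN))
  obtain ⟨P, hRP, hAP⟩ := Cfsg.Agent.S0025.result A O hAO hcop hsolv q R hRO hR hAR
  obtain ⟨P', hRP', hAP'⟩ := Cfsg.Agent.S0025.result A O hAO hcop hsolv q R' hRO' hR' hAR'
  obtain ⟨c, hcA, hcP⟩ := invariant_sylow_conj A O hAO hcop hsolv q P P' hAP hAP'
  refine ⟨sylowImage P, hRP, P.isPGroup'.map _, hAP, (c : G), ?_, ?_⟩
  · exact inf_centralizer_le hG hA hAN (mem_inf.mpr ⟨c.2, hcA⟩)
  · have := sylowImage_smul P c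
    rw [hcP] at this
    exact hRP'.trans (le_of_eq this)

theorem exists_max_ge {q : ℕ} (hq : q.Prime) {R : Subgroup G} (hR : IsPGroup q R)
    (hAR : A ≤ normalizer (R : Set G)) : ∃ Q ∈ maxInvSubgroups ⊤ A {q}, R ≤ Q := by
  have hfin : (invSubgroups ⊤ A ({q} : Set ℕ)).Finite := Set.toFinite _
  have hmem : R ∈ invSubgroups ⊤ A ({q} : Set ℕ) := (mem_invSubgroups_top hq).mpr ⟨hR, hAR⟩
  obtain ⟨b, hRb, hb⟩ := hfin.exists_le_maximal hmem
  exact ⟨b, ⟨hb.1, fun R' hR' hle => le_antisymm (hb.2 hR' hle) hle⟩, hRb⟩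

omit [Finite G] in
theorem cj_mem_inv {π : Set ℕ} {Y : Subgroup G} {k : G} (hk : k ∈ centralizer (A : Set G))
    (hY : Y ∈ invSubgroups ⊤ A π) : cj k Y ∈ invSubgroups ⊤ A π := by
  refine ⟨le_top, ?_, ?_⟩
  · rw [card_cj]; exact hY.2.1
  · rw [normalizer_cj]
    have h1 : cj k A = A := cj_eq_of_mem_normalizer (centralizer_le_normalizer _ hk)
    rw [← h1]
    exact cj_mono hY.2.2

omit [Finite G] in
theorem cj_mem_max {π : Set ℕ} {Q : Subgroup G} {k : G} (hk : k ∈ centralizer (A : Set G))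
    (hQ : Q ∈ maxInvSubgroups ⊤ A π) : cj k Q ∈ maxInvSubgroups ⊤ A π := by
  refine ⟨cj_mem_inv hk hQ.1, ?_⟩
  intro R hR hle
  have h1 : cj k⁻¹ R ∈ invSubgroups ⊤ A π := cj_mem_inv (inv_mem hk) hR
  have h2 : Q ≤ cj k⁻¹ R := by
    have := cj_mono (k := k⁻¹) hle
    rwa [cj_inv_cj] at this
  have h3 := hQ.2 _ h1 h2
  rw [← h3, cj_cj_inv]

theorem conj_of_inf_ne_bot_aux (hG : IsMinSimpleOddOrder G) (hA : TransitivityHypothesis A) {q : ℕ}
    (hq : q.Prime) (hqA : ¬ q ∣ Nat.card A) :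
    ∀ n : ℕ, ∀ Q ∈ maxInvSubgroups ⊤ A {q}, ∀ Q' ∈ maxInvSubgroups ⊤ A {q}, Q ⊓ Q' ≠ ⊥ →
      Nat.card G - Nat.card (Q ⊓ Q' : Subgroup G) = n → KConj (kOf A) Q Q' := by
  intro n
  induction n using Nat.strong_induction_on with
  | _ n ih =>
    intro Q hQ Q' hQ' hne hn
    obtain ⟨hQq, hAQ⟩ := (mem_invSubgroups_top hq).mp hQ.1
    obtain ⟨hQq', hAQ'⟩ := (mem_invSubgroups_top hq).mp hQ'.1
    by_cases h1 : Q ≤ Q ⊓ Q'
    · have : Q' = Q := hQ.2 Q' hQ'.1 (h1.trans inf_le_right)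
      rw [this]; exact KConj.refl _ _
    by_cases h2 : Q' ≤ Q ⊓ Q'
    · have : Q = Q' := hQ'.2 Q hQ.1 (h2.trans inf_le_left)
      rw [this]; exact KConj.refl _ _
    set D := Q ⊓ Q' with hD
    have hDq : IsPGroup q D := hQq.to_inf_left
    set N := normalizer (D : Set G) with hNdef
    have hN : N ≠ ⊤ := normalizer_ne_top hG hne (ne_top_of_isPGroup hG hq hDq)
    have hAD : A ≤ N := le_normalizer_inf' hAQ hAQ'
    have hAN : A ≤ normalizer (N : Set G) := hAD.trans le_normalizer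
    have hg : ¬ (N ⊓ Q ≤ D) := normalizer_growth hq hQq inf_le_left h1
    have hg' : ¬ (N ⊓ Q' ≤ D) := normalizer_growth hq hQq' inf_le_right h2
    obtain ⟨S, hRS, hSq, hAS, k, hk, hRS'⟩ := local_conj hG hA hq hqA hN hAD
      (R := N ⊓ Q) (R' := N ⊓ Q') hQq.to_inf_right inf_le_left (le_normalizer_inf' hAN hAQ)
      hQq'.to_inf_right inf_le_left (le_normalizer_inf' hAN hAQ')
    obtain ⟨Q₃, hQ₃, hSQ₃⟩ := exists_max_ge hq hSq hAS
    have hkC : k ∈ centralizer (A : Set G) := kOf_le_centralizer A hk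
    have hQ₃' : cj k Q₃ ∈ maxInvSubgroups ⊤ A {q} := cj_mem_max hkC hQ₃
    have hDN : D ≤ N := le_normalizer
    have hcG : ∀ E : Subgroup G, Nat.card E ≤ Nat.card G := fun E => Subgroup.card_le_card_group E
    -- first link
    have hle1 : N ⊓ Q ≤ Q ⊓ Q₃ := le_inf inf_le_right (hRS.trans hSQ₃)
    have hlt1 : Nat.card D < Nat.card (Q ⊓ Q₃ : Subgroup G) :=
      card_lt_card_of_lt ((le_inf hDN inf_le_left).trans hle1) (fun h => hg (hle1.trans h))
    have hne1 : Q ⊓ Q₃ ≠ ⊥ := by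
      intro h
      rw [h, Subgroup.card_bot] at hlt1
      have : 0 < Nat.card D := Nat.card_pos
      omega
    have c1 : KConj (kOf A) Q Q₃ :=
      ih (Nat.card G - Nat.card (Q ⊓ Q₃ : Subgroup G))
        (by have := hcG (Q ⊓ Q₃); have := hcG D; omega) Q hQ Q₃ hQ₃ hne1 rfl
    -- second link
    have hle2 : N ⊓ Q' ≤ cj k Q₃ ⊓ Q' := le_inf (hRS'.trans (cj_mono hSQ₃)) inf_le_right
    have hlt2 : Nat.card D < Nat.card (cj k Q₃ ⊓ Q' : Subgroup G) :=
      card_lt_card_of_lt ((le_inf hDN inf_le_right).trans hle2) (fun h => hg' (hle2.trans h))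
    have hne2 : cj k Q₃ ⊓ Q' ≠ ⊥ := by
      intro h
      rw [h, Subgroup.card_bot] at hlt2
      have : 0 < Nat.card D := Nat.card_pos
      omega
    have c2 : KConj (kOf A) (cj k Q₃) Q' :=
      ih (Nat.card G - Nat.card (cj k Q₃ ⊓ Q' : Subgroup G))
        (by have := hcG (cj k Q₃ ⊓ Q'); have := hcG D; omega) _ hQ₃' Q' hQ' hne2 rfl
    exact c1.trans (KConj.trans ⟨k, hk, rfl⟩ c2)

/-- Two maximal `A`-invariant `q`-subgroups with nontrivial intersection are `K`-conjugate. -/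
theorem conj_of_inf_ne_bot (hG : IsMinSimpleOddOrder G) (hA : TransitivityHypothesis A) {q : ℕ}
    (hq : q.Prime) (hqA : ¬ q ∣ Nat.card A) {Q Q' : Subgroup G} (hQ : Q ∈ maxInvSubgroups ⊤ A {q})
    (hQ' : Q' ∈ maxInvSubgroups ⊤ A {q}) (hne : Q ⊓ Q' ≠ ⊥) : KConj (kOf A) Q Q' :=
  conj_of_inf_ne_bot_aux hG hA hq hqA _ Q hQ Q' hQ' hne rfl

/-- Two maximal `A`-invariant `q`-subgroups both meeting a proper subgroup `H ≥ A` nontrivially are
`K`-conjugate. -/
theorem conj_of_common_overgroup (hG : IsMinSimpleOddOrder G) (hA : TransitivityHypothesis A) {q : ℕ}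
    (hq : q.Prime) (hqA : ¬ q ∣ Nat.card A) {Q Q' : Subgroup G} (hQ : Q ∈ maxInvSubgroups ⊤ A {q})
    (hQ' : Q' ∈ maxInvSubgroups ⊤ A {q}) {H : Subgroup G} (hH : H ≠ ⊤) (hAH : A ≤ H)
    (hHQ : H ⊓ Q ≠ ⊥) (hHQ' : H ⊓ Q' ≠ ⊥) : KConj (kOf A) Q Q' := by
  obtain ⟨hQq, hAQ⟩ := (mem_invSubgroups_top hq).mp hQ.1
  obtain ⟨hQq', hAQ'⟩ := (mem_invSubgroups_top hq).mp hQ'.1
  have hAN : A ≤ normalizer (H : Set G) := hAH.trans le_normalizer
  obtain ⟨S, hRS, hSq, hAS, k, hk, hRS'⟩ := local_conj hG hA hq hqA hH hAH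
    (R := H ⊓ Q) (R' := H ⊓ Q') hQq.to_inf_right inf_le_left (le_normalizer_inf' hAN hAQ)
    hQq'.to_inf_right inf_le_left (le_normalizer_inf' hAN hAQ')
  obtain ⟨Q₃, hQ₃, hSQ₃⟩ := exists_max_ge hq hSq hAS
  have hkC : k ∈ centralizer (A : Set G) := kOf_le_centralizer A hk
  have hQ₃' : cj k Q₃ ∈ maxInvSubgroups ⊤ A {q} := cj_mem_max hkC hQ₃
  have hne1 : Q ⊓ Q₃ ≠ ⊥ := by
    intro h
    apply hHQ
    rw [eq_bot_iff, ← h]
    exact le_inf inf_le_right (hRS.trans hSQ₃)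
  have hne2 : cj k Q₃ ⊓ Q' ≠ ⊥ := by
    intro h
    apply hHQ'
    rw [eq_bot_iff, ← h]
    exact le_inf (hRS'.trans (cj_mono hSQ₃)) inf_le_right
  have c1 := conj_of_inf_ne_bot hG hA hq hqA hQ hQ₃ hne1
  have c2 := conj_of_inf_ne_bot hG hA hq hqA hQ₃' hQ' hne2
  exact c1.trans (KConj.trans ⟨k, hk, rfl⟩ c2)

end trans

end Cfsg.Agent.Lib.Helper22_BGTrans
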