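import Cfsg.Agent.Lib.Helper22_BGTrans

/-!
The transitivity theorem for minimal simple groups of odd order: passing from `A` to a `π(A)`-subgroup `P`
in which `A` is subnormal (helper22).
-/

set_option autoImplicit false

namespace Cfsg.Agent.Lib.Helper22_BGTransUp

open Subgroup Cfsg Cfsg.Agent.Lib.Helper22_Radical Cfsg.Agent.Lib.Helper22_BGTrans
  Cfsg.Agent.Lib.Helper24_CoprimeAction Cfsg.Agent.Lib.Helper32_Cores

open scoped commutatorElement

universe u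

variable {G : Type u} [Group G]

/-! ### generalities -/

theorem le_normalizer_of_conj_mem {B' B : Subgroup G} (h : ∀ g ∈ B', ∀ x ∈ B, g * x * g⁻¹ ∈ B) :
    B' ≤ normalizer (B : Set G) := by
  intro g hg
  rw [mem_normalizer_iff]
  intro x
  constructor
  · exact h g hg x
  · intro hx
    have := h g⁻¹ (inv_mem hg) _ hx
    have e : g⁻¹ * (g * x * g⁻¹) * g⁻¹⁻¹ = x := by group
    rwa [e] at this

theorem le_normalizer_of_le_centralizer {A X : Subgroup G} (h : X ≤ centralizer (A : Set G)) :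
    A ≤ normalizer (X : Set G) := by
  apply le_normalizer_of_conj_mem
  intro a ha x hx
  have := mem_centralizer_iff.mp (h hx) a ha
  rw [this, mul_assoc, mul_inv_cancel, mul_one]
  exact hx

theorem normalizer_le_normalizer_centralizer (B : Subgroup G) :
    normalizer (B : Set G) ≤ normalizer ((centralizer (B : Set G) : Subgroup G) : Set G) := by
  apply le_normalizer_of_conj_mem
  intro g hg x hx
  rw [mem_centralizer_iff] at hx ⊢
  intro b hb
  have hb' : g⁻¹ * b * g ∈ B := (mem_normalizer_iff''.mp hg b).mp hb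
  have h1 := hx _ hb'
  have h2 : b * (g * x * g⁻¹) = g * ((g⁻¹ * b * g) * x) * g⁻¹ := by group
  have h3 : g * x * g⁻¹ * b = g * (x * (g⁻¹ * b * g)) * g⁻¹ := by group
  rw [h2, h3, h1]

theorem normalizer_le_normalizer_piCoreOf_centralizer [Finite G] (π : Set ℕ) (B : Subgroup G) :
    normalizer (B : Set G) ≤ normalizer ((piCoreOf π (centralizer (B : Set G)) : Subgroup G) : Set G) := by
  refine (normalizer_le_normalizer_centralizer B).trans ?_
  have : (piCore π ↥(centralizer (B : Set G))).Characteristic := piCore_characteristic π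
  exact normalizer_le_normalizer_map_of_characteristic _ _

theorem cj_mem_inv_of_mem_normalizer {A : Subgroup G} {π : Set ℕ} {Y : Subgroup G} {k : G}
    (hk : k ∈ normalizer (A : Set G)) (hY : Y ∈ invSubgroups ⊤ A π) : cj k Y ∈ invSubgroups ⊤ A π := by
  refine ⟨le_top, ?_, ?_⟩
  · rw [card_cj]; exact hY.2.1
  · rw [normalizer_cj]
    have h1 : cj k A = A := cj_eq_of_mem_normalizer hk
    rw [← h1]
    exact cj_mono hY.2.2

theorem cj_mem_max_of_mem_normalizer {A : Subgroup G} {π : Set ℕ} {Q : Subgroup G} {k : G}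
    (hk : k ∈ normalizer (A : Set G)) (hQ : Q ∈ maxInvSubgroups ⊤ A π) :
    cj k Q ∈ maxInvSubgroups ⊤ A π := by
  refine ⟨cj_mem_inv_of_mem_normalizer hk hQ.1, ?_⟩
  intro R hR hle
  have h1 : cj k⁻¹ R ∈ invSubgroups ⊤ A π := cj_mem_inv_of_mem_normalizer (inv_mem hk) hR
  have h2 : Q ≤ cj k⁻¹ R := by
    have := cj_mono (k := k⁻¹) hle
    rwa [cj_inv_cj] at this
  have h3 := hQ.2 _ h1 h2
  rw [← h3, cj_cj_inv]

theorem mem_normalizer_of_cj_eq {Q : Subgroup G} {g : G} (h : cj g Q = Q) : g ∈ normalizer (Q : Set G) :=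
  mem_normalizer_iff_map_conj.mpr h

theorem center_eq_bot (hG : IsMinSimpleOddOrder G) : Subgroup.center G = ⊥ := by
  have := hG.2.1
  rcases (Subgroup.center G).normal_of_characteristic.eq_bot_or_eq_top with h1 | h1
  · exact h1
  · exact absurd (center_eq_top_iff.mp h1) hG.2.2.1

theorem centralizer_ne_top (hG : IsMinSimpleOddOrder G) {A : Subgroup G} (hA : A ≠ ⊥) :
    centralizer (A : Set G) ≠ ⊤ := by
  intro h
  rw [centralizer_eq_top_iff_subset] at h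
  apply hA
  rw [eq_bot_iff, ← center_eq_bot hG]
  exact h

theorem coprime_of_pi_of_pi' {n a k : ℕ} (hn : ∀ r : ℕ, r.Prime → r ∣ n → r ∣ a)
    (hk : ∀ r : ℕ, r.Prime → r ∣ k → r ∈ primesNotDvd a) : n.Coprime k := by
  apply Nat.coprime_of_dvd
  intro r hr hrn hrk
  exact (hk r hr hrk).2 (hn r hr hrn)

/-- `(k * c) ^ m ∈ k ^ m * H` when `k` normalizes `H ∋ c` -/
theorem exists_mul_pow_eq {H : Subgroup G} {k c : G} (hk : k ∈ normalizer (H : Set G)) (hc : c ∈ H) (m : ℕ) :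
    ∃ c' ∈ H, (k * c) ^ m = k ^ m * c' := by
  induction m with
  | zero => exact ⟨1, H.one_mem, by simp⟩
  | succ m ih =>
    obtain ⟨c', hc', h⟩ := ih
    refine ⟨k⁻¹ * c' * k * c, H.mul_mem ((mem_normalizer_iff''.mp hk c').mp hc') hc, ?_⟩
    rw [pow_succ, h, pow_succ]
    group

section trans

variable [Finite G] {A : Subgroup G}

/-- `C_K(P) = O_{π'}(C_G(P))` for every subgroup `P ≥ A` -/
theorem kOf_inf_centralizer (hG : IsMinSimpleOddOrder G) (hA : TransitivityHypothesis A) {P : Subgroup G}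
    (hAP : A ≤ P) :
    kOf A ⊓ centralizer (P : Set G) = piCoreOf (primesNotDvd (Nat.card A)) (centralizer (P : Set G)) := by
  set π' := primesNotDvd (Nat.card A) with hπ
  have hCPA : centralizer (P : Set G) ≤ centralizer (A : Set G) := centralizer_le (by exact_mod_cast hAP)
  apply le_antisymm
  · apply le_piCoreOf inf_le_right
    · exact le_normalizer_inf' (hCPA.trans (le_normalizer_piCoreOf π' _)) le_normalizer
    · intro p hp hpd
      exact piCoreOf_primes π' _ p hp (hpd.trans (Subgroup.card_dvd_of_le inf_le_left))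
  · set X := piCoreOf π' (centralizer (P : Set G)) with hX
    have hXP : X ≤ centralizer (P : Set G) := piCoreOf_le _ _
    have hXA : X ≤ centralizer (A : Set G) := hXP.trans hCPA
    have hN : normalizer (A : Set G) ≠ ⊤ := normalizer_ne_top hG hA.1 hA.2.1
    have hAN : A ≤ normalizer (A : Set G) := le_normalizer
    have hmem : X ∈ invSubgroups (normalizer (A : Set G)) A π' :=
      ⟨hXA.trans (centralizer_le_normalizer _), piCoreOf_primes π' _, le_normalizer_of_le_centralizer hXA⟩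
    have h1 : X ≤ piCoreOf π' (normalizer (A : Set G)) := le_piCoreOf_of_mem hA hN hAN hmem
    exact le_inf ((le_inf h1 hXA).trans (inf_centralizer_le hG hA hAN)) hXP

/-- Glauberman's lemma, existence: a coprime operator group fixes a member of a conjugacy class. -/
theorem exists_fixed {B' KB : Subgroup G} (hB'K : B' ≤ normalizer (KB : Set G))
    (hcop : (Nat.card B').Coprime (Nat.card KB)) (hsolv : Group.IsSolvable B' ∨ Group.IsSolvable KB)
    {Ω : Set (Subgroup G)} (htrans : ∀ Q₁ ∈ Ω, ∀ Q₂ ∈ Ω, KConj KB Q₁ Q₂)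
    (hB'Ω : ∀ b ∈ B', ∀ Q ∈ Ω, cj b Q ∈ Ω) (hKΩ : ∀ k ∈ KB, ∀ Q ∈ Ω, cj k Q ∈ Ω)
    {Q₀ : Subgroup G} (hQ₀ : Q₀ ∈ Ω) : ∃ Q ∈ Ω, B' ≤ normalizer (Q : Set G) := by
  set U : Subgroup G := normalizer (Q₀ : Set G) ⊓ (KB ⊔ B') with hU
  have hU' : U ≤ KB ⊔ B' := inf_le_right
  have hKU : KB ⊔ B' ≤ KB ⊔ U := by
    apply sup_le le_sup_left
    intro b hb
    obtain ⟨k, hk, hkb⟩ := htrans Q₀ hQ₀ _ (hB'Ω b hb Q₀ hQ₀)
    have h1 : cj (k⁻¹ * b) Q₀ = Q₀ := by
      rw [cj_mul, hkb, cj_inv_cj]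
    have h2 : k⁻¹ * b ∈ U :=
      mem_inf.mpr ⟨mem_normalizer_of_cj_eq h1,
        (KB ⊔ B').mul_mem (mem_sup_left (KB.inv_mem hk)) (mem_sup_right hb)⟩
    have e : b = k * (k⁻¹ * b) := by group
    rw [e]
    exact (KB ⊔ U).mul_mem (mem_sup_left hk) (mem_sup_right h2)
  obtain ⟨k, hk, hkU⟩ := exists_conj_le B' KB U hB'K hcop hsolv hU' hKU
  refine ⟨cj k⁻¹ Q₀, hKΩ _ (KB.inv_mem hk) _ hQ₀, ?_⟩
  rw [normalizer_cj]
  have h1 : cj k B' ≤ normalizer (Q₀ : Set G) := hkU.trans inf_le_left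
  have h2 := cj_mono (k := k⁻¹) h1
  rwa [cj_inv_cj] at h2

/-- Glauberman's lemma, conjugacy: the fixed points are conjugate under the centralizer. -/
theorem fixed_conj {B' KB : Subgroup G} (hB'K : B' ≤ normalizer (KB : Set G))
    (hcop : (Nat.card B').Coprime (Nat.card KB)) (hsolv : Group.IsSolvable B' ∨ Group.IsSolvable KB)
    {Q : Subgroup G} (hQ : B' ≤ normalizer (Q : Set G)) {k : G} (hk : k ∈ KB)
    (hQ' : B' ≤ normalizer ((cj k Q : Subgroup G) : Set G)) :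
    ∃ c ∈ KB ⊓ centralizer (B' : Set G), cj k Q = cj c Q := by
  set U : Subgroup G := normalizer (Q : Set G) with hU
  have hAKU : B' ≤ normalizer ((KB ⊓ U : Subgroup G) : Set G) :=
    le_normalizer_inf' hB'K (hQ.trans le_normalizer)
  have hkU : B'.map (MulAut.conj k⁻¹).toMonoidHom ≤ U := by
    rw [normalizer_cj] at hQ'
    have h2 := cj_mono (k := k⁻¹) hQ'
    rwa [cj_inv_cj] at h2
  obtain ⟨c, hc, hck⟩ := exists_centralizer_mul B' KB U hB'K hcop hsolv hQ hAKU k hk hkU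
  refine ⟨c, hc, ?_⟩
  have e : k = c * (c⁻¹ * k) := by group
  have h1 : cj (c⁻¹ * k) Q = Q := cj_eq_of_mem_normalizer hck
  calc cj k Q = cj (c * (c⁻¹ * k)) Q := by rw [← e]
    _ = cj c Q := by rw [cj_mul, h1]

/-- A nontrivial maximal `P`-invariant `q`-subgroup, `P ≥ A` a `π(A)`-group, is a maximal `A`-invariant one. -/
theorem mem_max_of_mem_max_of_ne_bot (hG : IsMinSimpleOddOrder G) (hA : TransitivityHypothesis A) {q : ℕ}
    (hq : q.Prime) (hqA : ¬ q ∣ Nat.card A) {P : Subgroup G} (hAP : A ≤ P)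
    (hPπ : ∀ r : ℕ, r.Prime → r ∣ Nat.card P → r ∣ Nat.card A) {Q' : Subgroup G}
    (hQ' : Q' ∈ maxInvSubgroups ⊤ P {q}) (hne : Q' ≠ ⊥) : Q' ∈ maxInvSubgroups ⊤ A {q} := by
  have : Fact q.Prime := ⟨hq⟩
  set π' := primesNotDvd (Nat.card A) with hπ
  have hqπ : q ∈ π' := ⟨hq, hqA⟩
  obtain ⟨hQq, hPQ⟩ := (mem_invSubgroups_top hq).mp hQ'.1
  have hAQ : A ≤ normalizer (Q' : Set G) := hAP.trans hPQ
  set N := normalizer (Q' : Set G) with hNdef
  have hN : N ≠ ⊤ := normalizer_ne_top hG hne (ne_top_of_isPGroup hG hq hQq)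
  set O := piCoreOf π' N with hO
  have hON : O ≤ N := piCoreOf_le _ _
  have hNO : N ≤ normalizer (O : Set G) := le_normalizer_piCoreOf π' N
  have hcop : (Nat.card P).Coprime (Nat.card O) := coprime_of_pi_of_pi' hPπ (piCoreOf_primes π' N)
  have hsolv : Group.IsSolvable P ∨ Group.IsSolvable O :=
    Or.inr (isSolvable_of_le hON (hG.2.2.2 N hN))
  have hqmem : ∀ R : Subgroup G, IsPGroup q R → R ≤ N → A ≤ normalizer (R : Set G) → R ≤ O := by
    intro R hR hRN hAR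
    exact le_piCoreOf_of_mem hA hN hAQ
      ⟨hRN, fun p hp hpd => by rw [primes_of_isPGroup hq hR p hp hpd]; exact hqπ, hAR⟩
  have hQO : Q' ≤ O := hqmem Q' hQq le_normalizer hAQ
  obtain ⟨R, hQR, hPR⟩ := Cfsg.Agent.S0025.result P O (hPQ.trans hNO) hcop hsolv q Q' hQO hQq hPQ
  have hRq : IsPGroup q (sylowImage R) := R.isPGroup'.map _
  have hRQ : sylowImage R = Q' := hQ'.2 _ ((mem_invSubgroups_top hq).mpr ⟨hRq, hPR⟩) hQR
  -- every `q`-subgroup of `O` lies in `Q'`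
  have hall : ∀ U : Subgroup G, IsPGroup q U → U ≤ O → U ≤ Q' := by
    intro U hUq hUO
    have h1 : IsPGroup q (U.subgroupOf O) := hUq.comap_subtype
    obtain ⟨R', hR'⟩ := h1.exists_le_sylow
    obtain ⟨g, hg⟩ := MulAction.exists_smul_eq O R R'
    have h2 : sylowImage R' = Q' := by
      rw [← hg, sylowImage_smul, hRQ]
      exact cj_eq_of_mem_normalizer (hON g.2)
    rw [← h2, ← Subgroup.map_subgroupOf_eq_of_le hUO]
    exact Subgroup.map_mono hR'
  obtain ⟨Q₁, hQ₁, hQQ₁⟩ := exists_max_ge hq hQq hAQ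
  obtain ⟨hQ₁q, hAQ₁⟩ := (mem_invSubgroups_top hq).mp hQ₁.1
  have hle : Q₁ ≤ Q' := by
    by_contra hcon
    apply normalizer_growth hq hQ₁q hQQ₁ hcon
    apply hall _ hQ₁q.to_inf_right
    exact hqmem _ hQ₁q.to_inf_right inf_le_left (le_normalizer_inf' (hAQ.trans le_normalizer) hAQ₁)
  have : Q₁ = Q' := le_antisymm hle hQQ₁
  rw [← this]; exact hQ₁

/-- the inductive invariant: transitivity for `B` and `И*(B; q) ⊆ И*(A; q)` -/
structure Good (A : Subgroup G) (q : ℕ) (B : Subgroup G) : Prop where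
  trans : ∀ Q₁ ∈ maxInvSubgroups ⊤ B {q}, ∀ Q₂ ∈ maxInvSubgroups ⊤ B {q},
    KConj (piCoreOf (primesNotDvd (Nat.card A)) (centralizer (B : Set G))) Q₁ Q₂
  sub : maxInvSubgroups ⊤ B {q} ⊆ maxInvSubgroups ⊤ A {q}

theorem Good.step (hG : IsMinSimpleOddOrder G) (hA : TransitivityHypothesis A) {q : ℕ}
    (hq : q.Prime) (hqA : ¬ q ∣ Nat.card A) {B B' : Subgroup G} (hB : Good A q B) (hAB : A ≤ B)
    (hBB' : B ≤ B') (hB'B : B' ≤ normalizer (B : Set G))
    (hB'π : ∀ r : ℕ, r.Prime → r ∣ Nat.card B' → r ∣ Nat.card A) : Good A q B' := by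
  set π' := primesNotDvd (Nat.card A) with hπ
  set KB := piCoreOf π' (centralizer (B : Set G)) with hKB
  set Ω := maxInvSubgroups ⊤ B ({q} : Set ℕ) with hΩ
  have hKBC : KB ≤ centralizer (B : Set G) := piCoreOf_le _ _
  have hB'K : B' ≤ normalizer (KB : Set G) :=
    hB'B.trans (normalizer_le_normalizer_piCoreOf_centralizer π' B)
  have hcop : (Nat.card B').Coprime (Nat.card KB) := coprime_of_pi_of_pi' hB'π (piCoreOf_primes π' _)
  have hCBA : centralizer (B : Set G) ≤ centralizer (A : Set G) := centralizer_le (by exact_mod_cast hAB)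
  have hsolv : Group.IsSolvable B' ∨ Group.IsSolvable KB :=
    Or.inr (isSolvable_of_le (hKBC.trans hCBA) (hG.2.2.2 _ (centralizer_ne_top hG hA.1)))
  have hB'Ω : ∀ b ∈ B', ∀ Q ∈ Ω, cj b Q ∈ Ω := fun b hb Q hQ => cj_mem_max_of_mem_normalizer (hB'B hb) hQ
  have hKΩ : ∀ k ∈ KB, ∀ Q ∈ Ω, cj k Q ∈ Ω := fun k hk Q hQ => cj_mem_max (hKBC hk) hQ
  obtain ⟨Q₀, hQ₀, -⟩ := exists_max_ge (A := B) hq (R := ⊥) IsPGroup.of_bot
    (by rw [Subgroup.normalizer_eq_top_iff.mpr (inferInstance : (⊥ : Subgroup G).Normal)]; exact le_top)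
  obtain ⟨Qf, hQf, hB'Qf⟩ := exists_fixed hB'K hcop hsolv hB.trans hB'Ω hKΩ hQ₀
  have hsubA : maxInvSubgroups ⊤ B' ({q} : Set ℕ) ⊆ maxInvSubgroups ⊤ A ({q} : Set ℕ) := by
    intro Q' hQ'
    by_cases hne : Q' = ⊥
    · obtain ⟨hQfq, -⟩ := (mem_invSubgroups_top hq).mp hQf.1
      have h1 : Qf ∈ invSubgroups ⊤ B' ({q} : Set ℕ) := (mem_invSubgroups_top hq).mpr ⟨hQfq, hB'Qf⟩
      have h2 : Qf = ⊥ := (hne ▸ hQ').2 Qf h1 bot_le
      rw [hne, ← h2]
      exact hB.sub hQf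
    · exact mem_max_of_mem_max_of_ne_bot hG hA hq hqA (hAB.trans hBB') hB'π hQ' hne
  have hsubB : maxInvSubgroups ⊤ B' ({q} : Set ℕ) ⊆ Ω := by
    intro Q' hQ'
    obtain ⟨hQq, hB'Q⟩ := (mem_invSubgroups_top hq).mp hQ'.1
    refine ⟨(mem_invSubgroups_top hq).mpr ⟨hQq, hBB'.trans hB'Q⟩, ?_⟩
    intro R hR hle
    obtain ⟨hRq, hBR⟩ := (mem_invSubgroups_top hq).mp hR
    exact (hsubA hQ').2 R ((mem_invSubgroups_top hq).mpr ⟨hRq, hAB.trans hBR⟩) hle
  refine ⟨?_, hsubA⟩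
  intro Q₁ hQ₁ Q₂ hQ₂
  obtain ⟨-, hB'Q₁⟩ := (mem_invSubgroups_top hq).mp hQ₁.1
  obtain ⟨-, hB'Q₂⟩ := (mem_invSubgroups_top hq).mp hQ₂.1
  obtain ⟨k, hk, hkQ⟩ := hB.trans Q₁ (hsubB hQ₁) Q₂ (hsubB hQ₂)
  rw [hkQ] at hB'Q₂
  obtain ⟨c, hc, hcQ⟩ := fixed_conj hB'K hcop hsolv hB'Q₁ hk hB'Q₂
  refine ⟨c, ?_, by rw [hkQ, hcQ]⟩
  have h1 := kOf_inf_centralizer hG hA hAB
  have h2 := kOf_inf_centralizer hG hA (hAB.trans hBB')
  rw [← h2]
  have h3 : c ∈ kOf A ⊓ centralizer (B : Set G) := by rw [h1]; exact (mem_inf.mp hc).1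
  exact mem_inf.mpr ⟨(mem_inf.mp h3).1, (mem_inf.mp hc).2⟩

theorem Good.of_isSubnormal (hG : IsMinSimpleOddOrder G) (hA : TransitivityHypothesis A) {q : ℕ}
    (hq : q.Prime) (hqA : ¬ q ∣ Nat.card A) {P : Subgroup G}
    (hPπ : ∀ r : ℕ, r.Prime → r ∣ Nat.card P → r ∣ Nat.card A) :
    ∀ H : Subgroup ↥P, H.IsSubnormal → ∀ B : Subgroup G, A ≤ B → B ≤ P → B.subgroupOf P = H →
      Good A q B → Good A q P := by
  intro H hH
  induction hH with
  | top =>
    intro B _ hBP hBH hB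
    rw [subgroupOf_eq_top] at hBH
    rw [← le_antisymm hBP hBH]; exact hB
  | step H K hHK hK hn ih =>
    intro B hAB hBP hBH hB
    set B' := K.map P.subtype with hB'
    have hB'P : B' ≤ P := Subgroup.map_subtype_le _
    have hB'K : B'.subgroupOf P = K := Subgroup.comap_map_eq_self_of_injective P.subtype_injective K
    have hBB' : B ≤ B' := by
      rw [← Subgroup.map_subgroupOf_eq_of_le hBP, hBH]
      exact Subgroup.map_mono hHK
    have hKH : K ≤ normalizer (H : Set ↥P) := (normal_subgroupOf_iff_le_normalizer hHK).mp hn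
    have hB'B : B' ≤ normalizer (B : Set G) := by
      apply le_normalizer_of_conj_mem
      rintro _ ⟨k, hk, rfl⟩ x hx
      have hxP : x ∈ P := hBP hx
      have hxH : (⟨x, hxP⟩ : ↥P) ∈ H := by rw [← hBH, mem_subgroupOf]; exact hx
      have h1 := (mem_normalizer_iff.mp (hKH hk) ⟨x, hxP⟩).mp hxH
      rw [← hBH, mem_subgroupOf] at h1
      simpa using h1
    have hB'π : ∀ r : ℕ, r.Prime → r ∣ Nat.card B' → r ∣ Nat.card A :=
      fun r hr hrd => hPπ r hr (hrd.trans (Subgroup.card_dvd_of_le hB'P))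
    exact ih B' (hAB.trans hBB') hB'P hB'K (hB.step hG hA hq hqA hAB hBB' hB'B hB'π)

omit [Finite G] in
theorem normalizer_eq_sup {q : ℕ} {P : Subgroup G} (hgood : Good A q P) {Q : Subgroup G}
    (hQ : Q ∈ maxInvSubgroups ⊤ P {q}) :
    normalizer (P : Set G) = piCoreOf (primesNotDvd (Nat.card A)) (centralizer (P : Set G)) ⊔
      (normalizer (P : Set G) ⊓ normalizer (Q : Set G)) := by
  apply le_antisymm
  · intro g hg
    have h1 := cj_mem_max_of_mem_normalizer hg hQ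
    obtain ⟨k, hk, hkQ⟩ := hgood.trans Q hQ _ h1
    have hkN : k ∈ normalizer (P : Set G) := centralizer_le_normalizer _ (piCoreOf_le _ _ hk)
    have h2 : cj (k⁻¹ * g) Q = Q := by rw [cj_mul, hkQ, cj_inv_cj]
    have e : g = k * (k⁻¹ * g) := by group
    rw [e]
    exact mul_mem (mem_sup_left hk)
      (mem_sup_right (mem_inf.mpr ⟨mul_mem (inv_mem hkN) hg, mem_normalizer_of_cj_eq h2⟩))
  · exact sup_le ((piCoreOf_le _ _).trans (centralizer_le_normalizer _)) inf_le_left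

omit [Finite G] in
theorem commutator_self_le (H : Subgroup G) : ⁅H, H⁆ ≤ H := by
  rw [commutator_le]
  intro g₁ h₁ g₂ h₂
  rw [commutatorElement_def]
  exact H.mul_mem (H.mul_mem (H.mul_mem h₁ h₂) (H.inv_mem h₁)) (H.inv_mem h₂)

omit [Finite G] in
theorem inf_commutator_le {P Q KP : Subgroup G} (hKPN : normalizer (P : Set G) ≤ normalizer (KP : Set G))
    (hN : normalizer (P : Set G) = KP ⊔ (normalizer (P : Set G) ⊓ normalizer (Q : Set G)))
    (hPQ : P ≤ normalizer (Q : Set G)) (hcop : (Nat.card P).Coprime (Nat.card KP)) :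
    P ⊓ ⁅normalizer (P : Set G), normalizer (P : Set G)⁆ ≤
      ⁅normalizer (Q : Set G), normalizer (Q : Set G)⁆ := by
  set N := normalizer (P : Set G) with hNdef
  set N₁ := N ⊓ normalizer (Q : Set G) with hN₁
  set D := ⁅N₁, N₁⁆ with hD
  have hDQ : D ≤ ⁅normalizer (Q : Set G), normalizer (Q : Set G)⁆ := commutator_mono inf_le_right inf_le_right
  have hN₁KP : N₁ ≤ normalizer (KP : Set G) := inf_le_left.trans hKPN
  have hDN₁ : D ≤ N₁ := commutator_self_le N₁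
  have hN₁D : N₁ ≤ normalizer (D : Set G) := fun n hn =>
    mem_normalizer_commutator N₁ N₁ (le_normalizer hn) (le_normalizer hn)
  have conjKP : ∀ n ∈ N₁, ∀ k ∈ KP, n * k * n⁻¹ ∈ KP := fun n hn k hk =>
    (mem_normalizer_iff.mp (hN₁KP hn) k).mp hk
  have step1 : ⁅N, N⁆ ≤ KP ⊔ D := by
    rw [commutator_le]
    intro g₁ hg₁ g₂ hg₂
    rw [hN] at hg₁ hg₂
    obtain ⟨k₁, hk₁, n₁, hn₁, rfl⟩ := exists_mul_of_mem_sup N₁ KP hN₁KP hg₁
    obtain ⟨k₂, hk₂, n₂, hn₂, rfl⟩ := exists_mul_of_mem_sup N₁ KP hN₁KP hg₂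
    have hm : n₁ * n₂ * n₁⁻¹ ∈ N₁ := N₁.mul_mem (N₁.mul_mem hn₁ hn₂) (N₁.inv_mem hn₁)
    have hcD : ⁅n₁, n₂⁆ ∈ D := commutator_mem_commutator hn₁ hn₂
    have hc : ⁅n₁, n₂⁆ ∈ N₁ := hDN₁ hcD
    have e : ⁅k₁ * n₁, k₂ * n₂⁆ =
        (k₁ * (n₁ * k₂ * n₁⁻¹) * ((n₁ * n₂ * n₁⁻¹) * k₁⁻¹ * (n₁ * n₂ * n₁⁻¹)⁻¹) *
          (⁅n₁, n₂⁆ * k₂⁻¹ * ⁅n₁, n₂⁆⁻¹)) * ⁅n₁, n₂⁆ := by
      simp only [commutatorElement_def]
      group
    rw [e]
    refine mul_mem (mem_sup_left ?_) (mem_sup_right hcD)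
    exact KP.mul_mem (KP.mul_mem (KP.mul_mem hk₁ (conjKP _ hn₁ _ hk₂)) (conjKP _ hm _ (KP.inv_mem hk₁)))
      (conjKP _ hc _ (KP.inv_mem hk₂))
  intro x hx
  obtain ⟨hxP, hxN⟩ := mem_inf.mp hx
  apply hDQ
  obtain ⟨k, hk, c, hc, hxkc⟩ := exists_mul_of_mem_sup D KP (hDN₁.trans hN₁KP) (step1 hxN)
  have hxN₁ : x ∈ N₁ := mem_inf.mpr ⟨le_normalizer hxP, hPQ hxP⟩
  have hkN₁ : k ∈ N₁ := by
    have e : k = x * c⁻¹ := by rw [hxkc]; group
    rw [e]; exact N₁.mul_mem hxN₁ (N₁.inv_mem (hDN₁ hc))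
  obtain ⟨c', hc', hpow⟩ := exists_mul_pow_eq (hN₁D hkN₁) hc (Nat.card KP)
  have hk1 : k ^ Nat.card KP = 1 := by
    have h1 : (⟨k, hk⟩ : KP) ^ Nat.card KP = 1 := pow_card_eq_one'
    have h2 : (((⟨k, hk⟩ : KP) ^ Nat.card KP : KP) : G) = ((1 : KP) : G) := by rw [h1]
    rwa [Subgroup.coe_pow, Subgroup.coe_one] at h2
  rw [← hxkc, hk1, one_mul] at hpow
  have hcop' : (Nat.card KP).Coprime (orderOf x) :=
    (hcop.coprime_dvd_left (Subgroup.orderOf_dvd_natCard P hxP)).symm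
  obtain ⟨u, hu⟩ := exists_pow_eq_self_of_coprime hcop'
  rw [← hu, hpow]
  exact D.pow_mem hc' u

/-- **Transitivity for a `π(A)`-subgroup `P` in which `A` is subnormal.** -/
theorem transitivity_up (hG : IsMinSimpleOddOrder G) (hA : TransitivityHypothesis A) {q : ℕ}
    (hq : q.Prime) (hqA : ¬ q ∣ Nat.card A) {P : Subgroup G}
    (hPπ : ∀ r : ℕ, r.Prime → r ∣ Nat.card P → r ∣ Nat.card A) (hAP : A ≤ P)
    (hsn : (A.subgroupOf P).IsSubnormal)
    (htr : ∀ Q₁ ∈ maxInvSubgroups ⊤ A {q}, ∀ Q₂ ∈ maxInvSubgroups ⊤ A {q}, KConj (kOf A) Q₁ Q₂) :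
    kOf A ⊓ centralizer (P : Set G) = piCoreOf (primesNotDvd (Nat.card A)) (centralizer (P : Set G)) ∧
      (∀ Q₁ ∈ maxInvSubgroups ⊤ P {q}, ∀ Q₂ ∈ maxInvSubgroups ⊤ P {q},
        KConj (piCoreOf (primesNotDvd (Nat.card A)) (centralizer (P : Set G))) Q₁ Q₂) ∧
      maxInvSubgroups ⊤ P {q} ⊆ maxInvSubgroups ⊤ A {q} ∧
      ∀ Q ∈ maxInvSubgroups ⊤ P {q},
        P ⊓ ⁅normalizer (P : Set G), normalizer (P : Set G)⁆ ≤
          ⁅normalizer (Q : Set G), normalizer (Q : Set G)⁆ ∧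
        normalizer (P : Set G) = piCoreOf (primesNotDvd (Nat.card A)) (centralizer (P : Set G)) ⊔
          (normalizer (P : Set G) ⊓ normalizer (Q : Set G)) := by
  have hgoodA : Good A q A := ⟨htr, subset_rfl⟩
  have hgood : Good A q P := Good.of_isSubnormal hG hA hq hqA hPπ _ hsn A le_rfl hAP rfl hgoodA
  refine ⟨kOf_inf_centralizer hG hA hAP, hgood.trans, hgood.sub, ?_⟩
  intro Q hQ
  have hN := normalizer_eq_sup hgood hQ
  refine ⟨?_, hN⟩
  obtain ⟨-, hPQ⟩ := (mem_invSubgroups_top hq).mp hQ.1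
  exact inf_commutator_le (normalizer_le_normalizer_piCoreOf_centralizer _ P) hN hPQ
    (coprime_of_pi_of_pi' hPπ (piCoreOf_primes _ _))

end trans

end Cfsg.Agent.Lib.Helper22_BGTransUp
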