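import Cfsg.Agent.Lib.Helper22_FitLocal
import Cfsg.Agent.Lib.Helper22_BGTrans
import Cfsg.Agent.Lib.Helper22_BGTransUp
import Cfsg.Agent.Lib.Helper21_Fitting
import Cfsg.Agent.Lib.Helper24_Coprime

/-!
The Fitting subgroup of a maximal local subgroup (helper22).

Ambient facts on `F = fittingOf H` for a subgroup `H` of a finite group `G`: the `p`-part `zpart p H` of `Z(F)`,
and the triviality of `M`-invariant subgroups of `H ⊓ R` of order coprime to `|F|`
(`M ≤ F` with `C_F(M) ≤ M`, `R` solvable normalized by `C_H(F)`).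
-/

set_option autoImplicit false

namespace Cfsg.Agent.Lib.Helper22_FitLocal

open Subgroup Cfsg Cfsg.Agent.Lib.Helper22_BGTrans Cfsg.Agent.Lib.Helper22_CoreCentralizer

open scoped commutatorElement

/-- A nontrivial normal subgroup of a nilpotent group meets the centre nontrivially. -/
theorem exists_mem_center_of_normal_nilpotent {F : Type*} [Group F] [Group.IsNilpotent F]
    (N : Subgroup F) [hN : N.Normal] (hN1 : N ≠ ⊥) : ∃ z ∈ N, z ∈ center F ∧ z ≠ 1 := by
  by_contra hcon
  push Not at hcon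
  have key : ∀ n : ℕ, ∀ z ∈ N, z ∈ Subgroup.upperCentralSeries F n → z = 1 := by
    intro n
    induction n with
    | zero =>
      intro z _ hz
      rwa [Subgroup.upperCentralSeries_zero, mem_bot] at hz
    | succ n ih =>
      intro z hzN hz
      rw [Subgroup.mem_upperCentralSeries_succ_iff] at hz
      apply hcon z hzN
      rw [mem_center_iff]
      intro y
      have h1 : ⁅z, y⁆ ∈ N := by
        have : ⁅z, y⁆ = z * (y * z⁻¹ * y⁻¹) := by rw [commutatorElement_def]; group
        rw [this]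
        exact N.mul_mem hzN (hN.conj_mem _ (N.inv_mem hzN) y)
      have h2 := ih _ h1 (hz y)
      rw [commutatorElement_eq_one_iff_commute] at h2
      exact h2.eq.symm
  obtain ⟨n, hn⟩ := (Group.isNilpotent_iff (G := F)).mp inferInstance
  apply hN1
  rw [eq_bot_iff]
  intro z hz
  rw [mem_bot]
  exact key n z hz (by rw [hn]; trivial)

variable {G : Type*} [Group G]

theorem fittingOf_le (H : Subgroup G) : fittingOf H ≤ H := Subgroup.map_subtype_le _

theorem le_normalizer_fittingOf (H : Subgroup G) : H ≤ normalizer (fittingOf H : Set G) := by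
  have : (fittingSubgroup ↥H).Normal := Cfsg.Agent.Lib.Helper1_Cores.fittingSubgroup_normal
  exact le_normalizer_map_subtype (fittingSubgroup ↥H)

theorem isNilpotent_fittingOf [Finite G] (H : Subgroup G) : Group.IsNilpotent ↥(fittingOf H) := by
  have hnil : Group.IsNilpotent ↥(fittingSubgroup ↥H) :=
    Cfsg.Agent.Lib.Helper71_Fitting.fittingSubgroup_isNilpotent
  exact Cfsg.Agent.Lib.Helper21_Fitting.isNilpotent_of_mulEquiv
    ((fittingSubgroup ↥H).equivMapOfInjective H.subtype H.subtype_injective) hnil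

theorem mem_fittingOf_iff {H : Subgroup G} {x : G} :
    x ∈ fittingOf H ↔ ∃ h : x ∈ H, (⟨x, h⟩ : ↥H) ∈ fittingSubgroup ↥H := by
  constructor
  · rintro ⟨y, hy, rfl⟩
    exact ⟨y.2, hy⟩
  · rintro ⟨h, hx⟩
    exact ⟨⟨x, h⟩, hx, rfl⟩

/-- A solvable subgroup of `C_H(F(H))` normalized by `C_H(F(H))` lies in `F(H)`; in the form used here. -/
theorem inf_centralizer_inf_le [Finite G] (H R : Subgroup G) (hR : Group.IsSolvable ↥R)
    (hXR : H ⊓ centralizer (fittingOf H : Set G) ≤ normalizer (R : Set G)) :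
    H ⊓ centralizer (fittingOf H : Set G) ⊓ R ≤ fittingOf H := by
  set Xc := H ⊓ centralizer (fittingOf H : Set G) with hXc
  set Y := Xc ⊓ R with hY
  have hYH : Y ≤ H := inf_le_left.trans inf_le_left
  have hsolv : Group.IsSolvable ↥(Y.subgroupOf H) := by
    have hYs : Group.IsSolvable ↥Y :=
      Cfsg.Agent.Lib.Helper24_CoprimeAction.isSolvable_of_le (inf_le_right : Y ≤ R) hR
    exact Group.isSolvable_of_isSolvable_injective (f := (Subgroup.subgroupOfEquivOfLe hYH).toMonoidHom)
      (Subgroup.subgroupOfEquivOfLe hYH).injective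
  obtain ⟨k, hk⟩ := Cfsg.Agent.Lib.Helper21_Fitting.exists_dser_eq_bot (Y.subgroupOf H) hsolv
  have h1 : Y.subgroupOf H ≤ centralizer (fittingSubgroup ↥H : Set ↥H) := by
    intro y hy
    rw [mem_subgroupOf] at hy
    rw [mem_centralizer_iff]
    intro f hf
    apply Subtype.ext
    have hfF : (f : G) ∈ fittingOf H := ⟨f, hf, rfl⟩
    exact mem_centralizer_iff.mp hy.1.2 (f : G) hfF
  have h2 : centralizer (fittingSubgroup ↥H : Set ↥H) ≤ normalizer ((Y.subgroupOf H : Subgroup ↥H) : Set ↥H) := by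
    intro c hc
    have hcX : (c : G) ∈ Xc := by
      refine Subgroup.mem_inf.mpr ⟨c.2, ?_⟩
      rw [mem_centralizer_iff]
      rintro _ ⟨f, hf, rfl⟩
      have := mem_centralizer_iff.mp hc f hf
      exact congrArg Subtype.val this
    apply mem_normalizer_subgroupOf
    exact le_normalizer_inf' (B := Xc) le_normalizer hXR hcX
  have h3 := Cfsg.Agent.Lib.Helper21_Fitting.le_fittingSubgroup_of_dser_eq_bot k (Y.subgroupOf H) h1 h2 hk
  intro y hy
  exact ⟨⟨y, hYH hy⟩, h3 (mem_subgroupOf.mpr hy), rfl⟩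

/-- The `p`-part of `Z(F(H))`, as a subgroup of `G`. -/
def zpart (p : ℕ) (H : Subgroup G) : Subgroup G where
  carrier := {z | z ∈ fittingOf H ∧ z ∈ centralizer (fittingOf H : Set G) ∧ z ^ (p ^ Nat.card G) = 1}
  one_mem' := ⟨one_mem _, one_mem _, one_pow _⟩
  mul_mem' := by
    rintro a b ⟨ha1, ha2, ha3⟩ ⟨hb1, hb2, hb3⟩
    refine ⟨mul_mem ha1 hb1, mul_mem ha2 hb2, ?_⟩
    have hc : Commute a b := (mem_centralizer_iff.mp ha2 b hb1).symm
    rw [hc.mul_pow, ha3, hb3, one_mul]
  inv_mem' := by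
    rintro a ⟨ha1, ha2, ha3⟩
    exact ⟨inv_mem ha1, inv_mem ha2, by rw [inv_pow, ha3, inv_one]⟩

theorem mem_zpart {p : ℕ} {H : Subgroup G} {z : G} :
    z ∈ zpart p H ↔ z ∈ fittingOf H ∧ z ∈ centralizer (fittingOf H : Set G) ∧ z ^ (p ^ Nat.card G) = 1 :=
  Iff.rfl

theorem zpart_le_fittingOf (p : ℕ) (H : Subgroup G) : zpart p H ≤ fittingOf H := fun _ h => h.1

theorem zpart_le_centralizer (p : ℕ) (H : Subgroup G) : zpart p H ≤ centralizer (fittingOf H : Set G) :=
  fun _ h => h.2.1

theorem zpart_isPGroup (p : ℕ) (H : Subgroup G) : IsPGroup p ↥(zpart p H) := by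
  rintro ⟨z, hz⟩
  refine ⟨Nat.card G, ?_⟩
  apply Subtype.ext
  rw [Subgroup.coe_pow]
  exact hz.2.2

theorem le_normalizer_zpart (p : ℕ) (H : Subgroup G) : H ≤ normalizer (zpart p H : Set G) := by
  have key : ∀ h ∈ H, ∀ z ∈ zpart p H, h * z * h⁻¹ ∈ zpart p H := by
    intro h hh z hz
    refine ⟨?_, ?_, ?_⟩
    · exact (mem_normalizer_iff.mp (le_normalizer_fittingOf H hh) z).mp hz.1
    · have hn : h ∈ normalizer ((centralizer (fittingOf H : Set G) : Subgroup G) : Set G) :=
        Cfsg.Agent.Lib.Helper22_BGTransUp.normalizer_le_normalizer_centralizer _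
          (le_normalizer_fittingOf H hh)
      exact (mem_normalizer_iff.mp hn z).mp hz.2.1
    · rw [conj_pow, hz.2.2, mul_one, mul_inv_cancel]
  intro h hh
  rw [mem_normalizer_iff]
  intro z
  constructor
  · exact key h hh z
  · intro hz
    have := key h⁻¹ (inv_mem hh) _ hz
    have e : h⁻¹ * (h * z * h⁻¹) * h⁻¹⁻¹ = z := by group
    rwa [e] at this

theorem zpart_ne_bot [Finite G] {p : ℕ} [hp : Fact p.Prime] (H : Subgroup G)
    (hpd : p ∣ Nat.card (fittingOf H)) : zpart p H ≠ ⊥ := by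
  have hnil : Group.IsNilpotent ↥(fittingSubgroup ↥H) :=
    Cfsg.Agent.Lib.Helper71_Fitting.fittingSubgroup_isNilpotent
  have hcard : Nat.card (fittingOf H) = Nat.card (fittingSubgroup ↥H) :=
    Subgroup.card_map_of_injective H.subtype_injective
  rw [hcard] at hpd
  obtain P : Sylow p ↥(fittingSubgroup ↥H) := default
  have hPn : (P : Subgroup ↥(fittingSubgroup ↥H)).Normal := inferInstance
  have hP1 : (P : Subgroup ↥(fittingSubgroup ↥H)) ≠ ⊥ := by
    intro h
    have h1 : Nat.card (P : Subgroup ↥(fittingSubgroup ↥H)) = 1 := by rw [h]; exact Subgroup.card_bot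
    have h2 := P.card_eq_multiplicity
    rw [h1] at h2
    have h3 : (Nat.card ↥(fittingSubgroup ↥H)).factorization p = 0 := by
      by_contra h0
      have : 1 < p ^ (Nat.card ↥(fittingSubgroup ↥H)).factorization p :=
        Nat.one_lt_pow h0 hp.out.one_lt
      omega
    have h4 := (Nat.factorization_eq_zero_iff _ p).mp h3
    rcases h4 with h4 | h4 | h4
    · exact h4 hp.out
    · exact h4 hpd
    · exact Nat.card_pos.ne' h4
  obtain ⟨z, hzP, hzc, hz1⟩ := exists_mem_center_of_normal_nilpotent (P : Subgroup ↥(fittingSubgroup ↥H)) hP1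
  intro hbot
  have hmem : ((z : ↥H) : G) ∈ zpart p H := by
    refine ⟨⟨(z : ↥H), z.2, rfl⟩, ?_, ?_⟩
    · rw [mem_centralizer_iff]
      rintro _ ⟨f, hf, rfl⟩
      have h1 := mem_center_iff.mp hzc ⟨f, hf⟩
      have h2 := congrArg (fun t : ↥(fittingSubgroup ↥H) => ((t : ↥H) : G)) h1
      exact h2
    · obtain ⟨k, hk⟩ := P.isPGroup' ⟨z, hzP⟩
      have hk' : z ^ (p ^ k) = 1 := by
        have := congrArg Subtype.val hk
        rwa [Subgroup.coe_pow] at this
      have ho : orderOf z ∣ p ^ k := orderOf_dvd_of_pow_eq_one hk'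
      obtain ⟨j, hj, hoj⟩ := (Nat.dvd_prime_pow hp.out).mp ho
      have hle : p ^ j ≤ Nat.card G := by
        rw [← hoj]
        have h1 : orderOf z = orderOf (((z : ↥H) : G)) := by
          rw [← Subgroup.orderOf_coe, ← Subgroup.orderOf_coe]
        rw [h1]
        exact orderOf_le_card
      have hjc : j ≤ Nat.card G := by
        have : j < p ^ j := Nat.lt_pow_self hp.out.one_lt
        omega
      have h3 : z ^ (p ^ Nat.card G) = 1 := by
        apply orderOf_dvd_iff_pow_eq_one.mp
        rw [hoj]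
        exact pow_dvd_pow p hjc
      have h4 := congrArg (fun t : ↥(fittingSubgroup ↥H) => ((t : ↥H) : G)) h3
      simpa using h4
  rw [hbot, mem_bot] at hmem
  apply hz1
  apply Subtype.ext
  apply Subtype.ext
  simpa using hmem

/-- The centralizer of a nontrivial `p`-subgroup normalized by a maximal local subgroup `H` lies in `H`. -/
theorem centralizer_le_of_maxLocal {H : Subgroup G} (hmax : ∀ L : Subgroup G, IsLocalSubgroup L → H ≤ L → L = H)
    {p : ℕ} (hp : p.Prime) {T : Subgroup G} (hT : IsPGroup p T) (hT1 : T ≠ ⊥)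
    (hHT : H ≤ normalizer (T : Set G)) : centralizer (T : Set G) ≤ H := by
  have h1 : normalizer (T : Set G) = H := hmax _ ⟨p, T, hp, hT, hT1, rfl⟩ hHT
  calc centralizer (T : Set G) ≤ normalizer (T : Set G) := centralizer_le_normalizer _
    _ = H := h1

/-- `M`-invariant subgroups of `H ⊓ R` of order coprime to `|F(H)|` are trivial. -/
theorem eq_bot_of_invariant [Finite G] {H M R D : Subgroup G} (hMF : M ≤ fittingOf H)
    (hCM : fittingOf H ⊓ centralizer (M : Set G) ≤ M) (hR : Group.IsSolvable ↥R)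
    (hXR : H ⊓ centralizer (fittingOf H : Set G) ≤ normalizer (R : Set G))
    (hDH : D ≤ H) (hDR : D ≤ R) (hMD : M ≤ normalizer (D : Set G))
    (hcop : (Nat.card D).Coprime (Nat.card (fittingOf H))) : D = ⊥ := by
  set F := fittingOf H with hF
  have hdisj : D ⊓ F = ⊥ := (Subgroup.disjoint_of_coprime_natCard hcop).eq_bot
  -- `D` centralizes `M`
  have hDM : ∀ d ∈ D, ∀ m ∈ M, d * m = m * d := by
    intro d hd m hm
    have h1 : ⁅d, m⁆ ∈ D := by
      have : ⁅d, m⁆ = d * (m * d⁻¹ * m⁻¹) := by rw [commutatorElement_def]; group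
      rw [this]
      exact D.mul_mem hd ((mem_normalizer_iff.mp (hMD hm) d⁻¹).mp (D.inv_mem hd))
    have h2 : ⁅d, m⁆ ∈ F := by
      rw [commutatorElement_def]
      exact F.mul_mem ((mem_normalizer_iff.mp (le_normalizer_fittingOf H (hDH hd)) m).mp (hMF hm))
        (F.inv_mem (hMF hm))
    have h3 : ⁅d, m⁆ ∈ D ⊓ F := ⟨h1, h2⟩
    rw [hdisj, mem_bot, commutatorElement_eq_one_iff_commute] at h3
    exact h3.eq
  -- `D` centralizes `F`
  have hDF : D ≤ centralizer (F : Set G) := by
    intro d hd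
    rw [mem_centralizer_iff]
    intro x hx
    have hfin : Finite ↥F := inferInstance
    refine (Cfsg.Agent.Lib.Helper24_Coprime.centralizes_of_nilpotent' F F (isNilpotent_fittingOf H) le_rfl
      ?_ d ?_ ?_ (M : Set G) hMF ?_ ?_ x hx).symm
    · intro h hh u hu
      exact (mem_normalizer_iff.mp (le_normalizer hh) u).mp hu
    · intro u hu
      exact (mem_normalizer_iff.mp (le_normalizer_fittingOf H (hDH hd)) u).mp hu
    · exact Nat.Coprime.coprime_dvd_left (Subgroup.orderOf_dvd_natCard D hd) hcop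
    · intro b hb
      exact hDM d hd b hb
    · intro u hu hub
      have huM : u ∈ M := hCM (Subgroup.mem_inf.mpr ⟨hu, by
        rw [mem_centralizer_iff]
        intro b hb
        exact (hub b hb).symm⟩)
      exact hDM d hd u huM
  have hDle : D ≤ F := by
    intro d hd
    exact inf_centralizer_inf_le H R hR hXR ⟨⟨hDH hd, hDF hd⟩, hDR hd⟩
  rw [eq_bot_iff]
  intro d hd
  rw [← hdisj]
  exact ⟨hd, hDle hd⟩

end Cfsg.Agent.Lib.Helper22_FitLocal
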