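import Mathlib
import Cfsg.Agent.S5306
import Cfsg.Agent.Lib.Helper10_QuadFit
import Cfsg.Agent.Lib.Helper10_Thompson
import Cfsg.Agent.Lib.Helper22_FitLocal2
import Cfsg.Agent.Lib.Helper24_CoprimeAction

set_option autoImplicit false
set_option linter.unusedSectionVars false
set_option linter.style.haveILetI false
set_option linter.unusedVariables false

namespace Cfsg.Agent.Lib.Helper10_JComp

open Cfsg Subgroup
open Cfsg.Agent.S5306 (EA maxEA JJ)
open scoped commutatorElement

section general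

variable {G : Type*} [Group G]

/-- `J` normalizes `⁅K, J⁆`. -/
theorem le_normalizer_commutator_right (K J : Subgroup G) :
    J ≤ normalizer ((⁅K, J⁆ : Subgroup G) : Set G) := by
  have key : ∀ j ∈ J, (⁅K, J⁆).map (MulAut.conj j).toMonoidHom ≤ ⁅K, J⁆ := by
    intro j hj
    rw [Subgroup.map_le_iff_le_comap, Subgroup.commutator_def, Subgroup.closure_le]
    rintro g ⟨k, hk, j', hj', rfl⟩
    rw [SetLike.mem_coe, Subgroup.mem_comap]
    have e : (MulAut.conj j).toMonoidHom ⁅k, j'⁆ = ⁅k, j⁆⁻¹ * ⁅k, j * j'⁆ := by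
      simp only [MulEquiv.coe_toMonoidHom, MulAut.conj_apply, commutatorElement_def]
      group
    rw [e, ← Subgroup.commutator_def]
    exact Subgroup.mul_mem _ (Subgroup.inv_mem _ (Subgroup.commutator_mem_commutator hk hj))
      (Subgroup.commutator_mem_commutator hk (J.mul_mem hj hj'))
  intro j hj
  rw [Subgroup.mem_normalizer_iff_map_conj_eq]
  apply le_antisymm (key j hj)
  have h3 := Subgroup.map_mono (f := (MulAut.conj j).toMonoidHom) (key j⁻¹ (J.inv_mem hj))
  rw [Subgroup.map_map] at h3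
  have h4 : (MulAut.conj j).toMonoidHom.comp (MulAut.conj j⁻¹).toMonoidHom = MonoidHom.id G := by
    ext x
    simp only [MonoidHom.coe_comp, MulEquiv.coe_toMonoidHom, Function.comp_apply,
      MulAut.conj_apply, MonoidHom.id_apply]
    group
  rw [h4, Subgroup.map_id] at h3
  exact h3

theorem conj_mem_of_mem_normalizer {H : Subgroup G} {g x : G} (hg : g ∈ normalizer (H : Set G))
    (hx : x ∈ H) : g * x * g⁻¹ ∈ H := (Subgroup.mem_normalizer_iff.mp hg x).mp hx

theorem conj_mem_of_mem_normalizer' {H : Subgroup G} {g x : G} (hg : g ∈ normalizer (H : Set G))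
    (hx : x ∈ H) : g⁻¹ * x * g ∈ H := by
  have := conj_mem_of_mem_normalizer ((normalizer (H : Set G)).inv_mem hg) hx
  simpa using this

/-- The normalizer of `W` normalizes the centralizer of `W`. -/
theorem conj_mem_centralizer {W : Subgroup G} {g x : G} (hg : g ∈ normalizer (W : Set G))
    (hx : x ∈ centralizer (W : Set G)) : g * x * g⁻¹ ∈ centralizer (W : Set G) := by
  rw [Subgroup.mem_centralizer_iff] at hx ⊢
  intro w hw
  have hw' : g⁻¹ * w * g ∈ W := conj_mem_of_mem_normalizer' hg hw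
  have := hx _ hw'
  calc w * (g * x * g⁻¹) = g * ((g⁻¹ * w * g) * x) * g⁻¹ := by group
    _ = g * (x * (g⁻¹ * w * g)) * g⁻¹ := by rw [this]
    _ = g * x * g⁻¹ * w := by group

theorem relIndex_sup_of_le_normalizer (S B : Subgroup G)
    (hB : B ≤ normalizer (S : Set G)) : S.relIndex (B ⊔ S) = S.relIndex B := by
  have : (S.subgroupOf B).Normal := Subgroup.normal_subgroupOf_of_le_normalizer hB
  have : (S.subgroupOf (B ⊔ S)).Normal := Subgroup.normal_subgroupOf_sup_of_le_normalizer hB
  have e := QuotientGroup.quotientInfEquivProdNormalizerQuotient B S hB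
  exact (Nat.card_congr e.toEquiv).symm

/-- Two-coset lemma. -/
theorem two_cosets [Finite G] {D Y : Subgroup G} (hDY : D ≤ Y)
    (hcard : Nat.card Y ≤ 2 * Nat.card D) {w₀ : G} (hw : w₀ ∈ Y) (hwD : w₀ ∉ D) :
    ∀ y ∈ Y, y ∈ D ∨ w₀⁻¹ * y ∈ D := by
  have h1 : D.relIndex Y * Nat.card D = Nat.card Y :=
    (Cfsg.Agent.Lib.Helper10_Thompson.card_eq_relIndex_mul_card hDY).symm
  have hDpos : 0 < Nat.card D := Nat.card_pos
  have h2 : D.relIndex Y ≤ 2 := by
    by_contra hcon
    push Not at hcon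
    have : 3 * Nat.card D ≤ D.relIndex Y * Nat.card D := Nat.mul_le_mul_right _ hcon
    omega
  have h3 : D.relIndex Y ≠ 1 := by
    intro h
    exact hwD (Subgroup.relIndex_eq_one.mp h hw)
  have h4 : D.relIndex Y ≠ 0 := by
    intro h
    rw [h, zero_mul] at h1
    have : 0 < Nat.card Y := Nat.card_pos
    omega
  have h5 : (D.subgroupOf Y).index = 2 := by
    have : D.relIndex Y = 2 := by omega
    exact this
  intro y hy
  by_cases hyD : y ∈ D
  · exact Or.inl hyD
  · right
    have := Subgroup.mul_mem_iff_of_index_two h5 (a := (⟨w₀⁻¹, Y.inv_mem hw⟩ : Y)) (b := ⟨y, hy⟩)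
    simp only [Subgroup.mem_subgroupOf, Subgroup.coe_mul] at this
    rw [this]
    constructor
    · intro h; exact absurd ((D.inv_mem_iff).mp h) hwD
    · intro h; exact absurd h hyD

/-- An odd-order element normalizing a four-group `W` and fixing a non-identity element of `W`
centralizes `W`. -/
theorem four_fixed [Finite G] {W : Subgroup G} (hW4 : Nat.card W = 4) (hW2 : ∀ w ∈ W, w * w = 1)
    {g : G} (hg : g ∈ normalizer (W : Set G)) {n : ℕ} (hn : Odd n) (hgn : g ^ n = 1)
    {w₀ : G} (hw₀ : w₀ ∈ W) (hw₀1 : w₀ ≠ 1) (hfix : g * w₀ * g⁻¹ = w₀) :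
    g ∈ centralizer (W : Set G) := by
  have hw₀2 : w₀ * w₀ = 1 := hW2 w₀ hw₀
  have hord : orderOf w₀ = 2 := by
    apply orderOf_eq_prime
    · rw [pow_two]; exact hw₀2
    · exact hw₀1
  have hDW : zpowers w₀ ≤ W := Subgroup.zpowers_le.mpr hw₀
  have hDcard : Nat.card (zpowers w₀) = 2 := by rw [Nat.card_zpowers, hord]
  have hDfix : ∀ x ∈ zpowers w₀, g * x = x * g := by
    intro x hx
    obtain ⟨i, rfl⟩ := Subgroup.mem_zpowers_iff.mp hx
    have hc : Commute g w₀ := by
      have : g * w₀ = w₀ * g := by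
        calc g * w₀ = (g * w₀ * g⁻¹) * g := by group
          _ = w₀ * g := by rw [hfix]
      exact this
    exact (hc.zpow_right i).eq
  rw [Subgroup.mem_centralizer_iff]
  intro u hu
  -- `b = g u g⁻¹ u⁻¹` lies in `D`
  have hb : g * u * g⁻¹ * u⁻¹ ∈ zpowers w₀ := by
    by_cases huD : u ∈ zpowers w₀
    · have := hDfix u huD
      have e : g * u * g⁻¹ * u⁻¹ = 1 := by rw [this]; group
      rw [e]; exact Subgroup.one_mem _
    · have hgu : g * u * g⁻¹ ∈ W := conj_mem_of_mem_normalizer hg hu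
      have hguD : g * u * g⁻¹ ∉ zpowers w₀ := by
        intro h
        apply huD
        have h1 := hDfix _ h
        -- `g u g⁻¹` commutes with g, so `u = g u g⁻¹`
        have e : u = g * u * g⁻¹ := by
          calc u = g⁻¹ * ((g * u * g⁻¹) * g) := by group
            _ = g⁻¹ * (g * (g * u * g⁻¹)) := by rw [h1]
            _ = g * u * g⁻¹ := by group
        rw [e]; exact h
      have hcard : Nat.card W ≤ 2 * Nat.card (zpowers w₀) := by rw [hW4, hDcard]
      rcases two_cosets hDW hcard hu huD _ hgu with h | h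
      · exact absurd h hguD
      · -- `u⁻¹ * (g u g⁻¹) ∈ D`; `W` is abelian so this equals `b`
        have hcomm : u⁻¹ * (g * u * g⁻¹) = g * u * g⁻¹ * u⁻¹ := by
          -- elements of `W` commute
          have hWc : ∀ x ∈ W, ∀ y ∈ W, x * y = y * x := by
            intro x hx y hy
            have h1 := hW2 x hx
            have h2 := hW2 y hy
            have h3 := hW2 (x * y) (W.mul_mem hx hy)
            calc x * y = x * (x * y * (x * y)) * y := by rw [h3, mul_one]
              _ = (x * x) * (y * x) * (y * y) := by group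
              _ = y * x := by rw [h1, h2, one_mul, mul_one]
          exact hWc _ (W.inv_mem hu) _ hgu
        rw [← hcomm]; exact h
  have hbcomm : Commute g (g * u * g⁻¹ * u⁻¹) := hDfix _ hb
  have hb2 : (g * u * g⁻¹ * u⁻¹) ^ 2 = 1 := by
    rw [pow_two]
    exact hW2 _ (hDW hb)
  have := Cfsg.Agent.Lib.Helper10_QuadFit.comm_of_quad_coprime hbcomm n 2 hgn hb2
    (Nat.Coprime.symm (Nat.coprime_two_left.mpr hn))
  exact this.symm

end general

section core

variable {G : Type*} [Group G] [Finite G]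

/-- Elements of a group of exponent two commute. -/
theorem comm_of_sq {W : Subgroup G} (hW2 : ∀ w ∈ W, w * w = 1) :
    ∀ x ∈ W, ∀ y ∈ W, x * y = y * x := by
  intro x hx y hy
  have h1 := hW2 x hx
  have h2 := hW2 y hy
  have h3 := hW2 (x * y) (W.mul_mem hx hy)
  calc x * y = x * (x * y * (x * y)) * y := by rw [h3, mul_one]
    _ = (x * x) * (y * x) * (y * y) := by group
    _ = y * x := by rw [h1, h2, one_mul, mul_one]

/-- The ambient data of a `J`-component `K`: `P = O₂(K)`, `V = Ω₁Z(P)`, `W = [V, K]`. -/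
structure Core (K J P V W : Subgroup G) : Prop where
  hodd : Subgroup.closure {g : G | g ∈ K ∧ Odd (orderOf g)} = K
  hKJ : ⁅K, J⁆ = K
  hJ2 : IsPGroup 2 J
  hPK : P ≤ K
  hKP : K ≤ normalizer (P : Set G)
  hJP : J ≤ normalizer (P : Set G)
  hP2 : IsPGroup 2 P
  hidx : P.relIndex K = 3
  hVP : V ≤ centralizer (P : Set G)
  hVleP : V ≤ P
  hKV : K ≤ normalizer (V : Set G)
  hJV : J ≤ normalizer (V : Set G)
  hW : W = ⁅V, K⁆
  hW4 : Nat.card W = 4
  hW2 : ∀ w ∈ W, w * w = 1
  hJS : ∀ S : Subgroup G, S ≤ K ⊔ J → IsPGroup 2 S → Odd (S.relIndex (K ⊔ J)) → J ≤ S →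
    JJ 2 S = J

namespace Core

variable {K J P V W : Subgroup G} (h : Core K J P V W)
include h

theorem hJK : J ≤ normalizer (K : Set G) := by
  have := le_normalizer_commutator_right K J
  rwa [h.hKJ] at this

theorem hKW : K ≤ normalizer (W : Set G) := by
  intro k hk
  rw [h.hW]
  exact Cfsg.Agent.Lib.Helper24_CoprimeAction.mem_normalizer_commutator V K (h.hKV hk)
    (Subgroup.le_normalizer hk)

theorem hJW : J ≤ normalizer (W : Set G) := by
  intro j hj
  rw [h.hW]
  exact Cfsg.Agent.Lib.Helper24_CoprimeAction.mem_normalizer_commutator V K (h.hJV hj)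
    (h.hJK hj)

theorem hWV : W ≤ V := by
  rw [h.hW]
  exact Cfsg.Agent.Lib.Helper24_CoprimeAction.commutator_le_of_le_normalizer V K h.hKV

theorem hWP : W ≤ P := h.hWV.trans h.hVleP

theorem hPW : P ≤ centralizer (W : Set G) := by
  rw [Subgroup.le_centralizer_iff]
  exact h.hWV.trans h.hVP

theorem hWcomm : ∀ x ∈ W, ∀ y ∈ W, x * y = y * x := comm_of_sq h.hW2

theorem hWW : W ≤ centralizer (W : Set G) := by
  intro x hx
  rw [Subgroup.mem_centralizer_iff]
  intro y hy
  exact h.hWcomm y hy x hx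

theorem not_K_le : ¬ K ≤ centralizer (W : Set G) := by
  intro hKC
  have hKV : K ≤ centralizer (V : Set G) := by
    rw [← h.hodd, Subgroup.closure_le]
    rintro g ⟨hgK, hgodd⟩
    rw [SetLike.mem_coe, Subgroup.mem_centralizer_iff]
    intro v hv
    have hb : g * v * g⁻¹ * v⁻¹ ∈ W := by
      rw [h.hW]
      have h1 : ⁅v, g⁆ ∈ ⁅V, K⁆ := Subgroup.commutator_mem_commutator hv hgK
      have h2 : g * v * g⁻¹ * v⁻¹ = ⁅v, g⁆⁻¹ := by rw [commutatorElement_def]; group
      rw [h2]; exact Subgroup.inv_mem _ h1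
    have hcomm : Commute g (g * v * g⁻¹ * v⁻¹) := by
      have := hKC hgK
      rw [Subgroup.mem_centralizer_iff] at this
      exact (this _ hb).symm
    have hb2 : (g * v * g⁻¹ * v⁻¹) ^ 2 = 1 := by rw [pow_two]; exact h.hW2 _ hb
    have := Cfsg.Agent.Lib.Helper10_QuadFit.comm_of_quad_coprime hcomm (orderOf g) 2
      (pow_orderOf_eq_one g) hb2 (Nat.Coprime.symm (Nat.coprime_two_left.mpr hgodd))
    exact this.symm
  have hbot : W = ⊥ := by
    rw [h.hW, Subgroup.commutator_eq_bot_iff_le_centralizer, Subgroup.le_centralizer_iff]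
    exact hKV
  have := h.hW4
  rw [hbot, Subgroup.card_bot] at this
  omega

theorem K_inf : K ⊓ centralizer (W : Set G) = P := by
  have hle : P ≤ K ⊓ centralizer (W : Set G) := le_inf h.hPK h.hPW
  have h1 := Subgroup.relIndex_mul_relIndex P (K ⊓ centralizer (W : Set G)) K hle inf_le_left
  rw [h.hidx] at h1
  have h3 : Nat.Prime 3 := by norm_num
  have h2 : (K ⊓ centralizer (W : Set G)).relIndex K ≠ 1 := by
    intro hone
    apply h.not_K_le
    have := Subgroup.relIndex_eq_one.mp hone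
    exact fun x hx => (this hx).2
  have h4 : (K ⊓ centralizer (W : Set G)).relIndex K ∣ 3 := ⟨_, by rw [mul_comm]; exact h1.symm⟩
  have h5 : (K ⊓ centralizer (W : Set G)).relIndex K = 3 :=
    ((Nat.dvd_prime h3).mp h4).resolve_left h2
  rw [h5] at h1
  have h6 : P.relIndex (K ⊓ centralizer (W : Set G)) = 1 := by omega
  exact le_antisymm (Subgroup.relIndex_eq_one.mp h6) hle

theorem exists_k₀ : ∃ k₀ ∈ K, Odd (orderOf k₀) ∧ k₀ ∉ P := by
  by_contra hcon
  push Not at hcon
  have hKP : K ≤ P := by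
    rw [← h.hodd, Subgroup.closure_le]
    rintro g ⟨hgK, hgodd⟩
    exact hcon g hgK hgodd
  have : P.relIndex K = 1 := Subgroup.relIndex_eq_one.mpr hKP
  rw [h.hidx] at this
  omega

theorem k₀_moves {k₀ : G} (hk : k₀ ∈ K) (hodd : Odd (orderOf k₀)) (hkP : k₀ ∉ P) :
    ∀ w ∈ W, w ≠ 1 → k₀ * w * k₀⁻¹ ≠ w := by
  intro w hw hw1 hfix
  apply hkP
  rw [← h.K_inf]
  exact Subgroup.mem_inf.mpr ⟨hk, four_fixed h.hW4 h.hW2 (h.hKW hk) hodd (pow_orderOf_eq_one k₀)
    hw hw1 hfix⟩

end Core

end core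

end Cfsg.Agent.Lib.Helper10_JComp
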