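import Mathlib
import Cfsg.Agent.Lib.Helper10_JComp
import Cfsg.Agent.Lib.Helper51_Offender

set_option autoImplicit false
set_option linter.unusedSectionVars false
set_option linter.style.haveILetI false
set_option linter.unusedVariables false

namespace Cfsg.Agent.Lib.Helper10_JCompB

open Cfsg Subgroup
open Cfsg.Agent.S5306 (EA maxEA JJ)
open Cfsg.Agent.Lib.Helper10_JComp
open scoped commutatorElement

section general

variable {G : Type*} [Group G]

theorem le_normalizer_of_conj_mem {A H : Subgroup G}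
    (hc : ∀ a ∈ A, ∀ x ∈ H, a * x * a⁻¹ ∈ H) : A ≤ normalizer (H : Set G) := by
  intro a ha
  rw [Subgroup.mem_normalizer_iff]
  intro x
  constructor
  · exact hc a ha x
  · intro hx
    have := hc a⁻¹ (A.inv_mem ha) _ hx
    simpa [mul_assoc] using this

/-- Elements of the cyclic group generated by an involution. -/
theorem mem_zpowers_invol {c x : G} (hc : c * c = 1) (hx : x ∈ zpowers c) : x = 1 ∨ x = c := by
  obtain ⟨i, rfl⟩ := Subgroup.mem_zpowers_iff.mp hx
  have h2 : c ^ (2 : ℤ) = 1 := by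
    rw [zpow_ofNat, pow_two]; exact hc
  rcases Int.even_or_odd' i with ⟨k, hk | hk⟩
  · left
    rw [hk, zpow_mul, h2, one_zpow]
  · right
    rw [hk, zpow_add, zpow_mul, h2, one_zpow, one_mul, zpow_one]

theorem card_zpowers_invol {c : G} (hc : c * c = 1) (hc1 : c ≠ 1) :
    Nat.card (zpowers c) = 2 := by
  rw [Nat.card_zpowers]
  apply orderOf_eq_prime
  · rw [pow_two]; exact hc
  · exact hc1

theorem EA_sup {A B : Subgroup G} (hA : EA 2 A) (hB : EA 2 B)
    (hAB : ∀ a ∈ A, ∀ b ∈ B, a * b = b * a) : EA 2 (A ⊔ B) := by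
  have hBA : B ≤ normalizer (A : Set G) := by
    apply le_normalizer_of_conj_mem
    intro b hb a ha
    have := hAB a ha b hb
    have e : b * a * b⁻¹ = a := by rw [← this]; group
    rw [e]; exact ha
  have hdec : ∀ t ∈ A ⊔ B, ∃ a ∈ A, ∃ b ∈ B, t = a * b := fun t ht =>
    Cfsg.Agent.Lib.Helper24_CoprimeAction.exists_mul_of_mem_sup B A hBA ht
  constructor
  · intro x hx y hy
    obtain ⟨a, ha, b, hb, rfl⟩ := hdec x hx
    obtain ⟨a', ha', b', hb', rfl⟩ := hdec y hy
    have h1 := hA.1 a ha a' ha'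
    have h2 := hB.1 b hb b' hb'
    have h3 := hAB a' ha' b hb
    have h4 := hAB a ha b' hb'
    calc a * b * (a' * b') = a * (b * a') * b' := by group
      _ = a * (a' * b) * b' := by rw [h3]
      _ = (a * a') * (b * b') := by group
      _ = (a' * a) * (b' * b) := by rw [h1, h2]
      _ = a' * (a * b') * b := by group
      _ = a' * (b' * a) * b := by rw [h4]
      _ = a' * b' * (a * b) := by group
  · intro x hx
    obtain ⟨a, ha, b, hb, rfl⟩ := hdec x hx
    have h1 := hA.2 a ha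
    have h2 := hB.2 b hb
    have h3 := hAB a ha b hb
    rw [pow_two] at h1 h2 ⊢
    calc a * b * (a * b) = a * (b * a) * b := by group
      _ = a * (a * b) * b := by rw [h3]
      _ = (a * a) * (b * b) := by group
      _ = 1 := by rw [h1, h2, one_mul]

theorem EA_mono {A B : Subgroup G} (hB : EA 2 B) (hAB : A ≤ B) : EA 2 A :=
  ⟨fun a ha b hb => hB.1 a (hAB ha) b (hAB hb), fun a ha => hB.2 a (hAB ha)⟩

theorem EA_of_sq {W : Subgroup G} (hW2 : ∀ w ∈ W, w * w = 1) : EA 2 W :=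
  ⟨comm_of_sq' hW2, fun a ha => by rw [pow_two]; exact hW2 a ha⟩
where
  comm_of_sq' {W : Subgroup G} (hW2 : ∀ w ∈ W, w * w = 1) :
      ∀ x ∈ W, ∀ y ∈ W, x * y = y * x := by
    intro x hx y hy
    have h1 := hW2 x hx
    have h2 := hW2 y hy
    have h3 := hW2 (x * y) (W.mul_mem hx hy)
    calc x * y = x * (x * y * (x * y)) * y := by rw [h3, mul_one]
      _ = (x * x) * (y * x) * (y * y) := by group
      _ = y * x := by rw [h1, h2, one_mul, mul_one]

/-- A maximal elementary abelian subgroup contains every elementary abelian subgroup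
commuting with it. -/
theorem le_of_maxEA [Finite G] {Q A B : Subgroup G} (hA : A ∈ maxEA 2 Q) (hB : EA 2 B)
    (hBQ : B ≤ Q) (hAB : ∀ a ∈ A, ∀ b ∈ B, a * b = b * a) : B ≤ A := by
  have h1 : EA 2 (A ⊔ B) := EA_sup hA.2.1 hB hAB
  have h2 : A ⊔ B ≤ Q := sup_le hA.1 hBQ
  have h3 := hA.2.2 _ h2 h1
  have h4 : A = A ⊔ B := Subgroup.eq_of_le_of_card_ge le_sup_left h3
  rw [h4]; exact le_sup_right

theorem maxEA_of_le [Finite G] {Q S A : Subgroup G} (hQS : Q ≤ S) (hA : A ∈ maxEA 2 S)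
    (hAQ : A ≤ Q) : A ∈ maxEA 2 Q :=
  ⟨hAQ, hA.2.1, fun C hC hCE => hA.2.2 C (hC.trans hQS) hCE⟩

theorem maxEA_subset [Finite G] {Q S A : Subgroup G} (hQS : Q ≤ S) (hA : A ∈ maxEA 2 S)
    (hAQ : A ≤ Q) {B : Subgroup G} (hB : B ∈ maxEA 2 Q) : B ∈ maxEA 2 S :=
  ⟨hB.1.trans hQS, hB.2.1, fun C hC hCE => (hA.2.2 C hC hCE).trans (hB.2.2 A hAQ hA.2.1)⟩

theorem normalizer_le_normalizer_JJ (Q : Subgroup G) :
    normalizer (Q : Set G) ≤ normalizer ((JJ 2 Q : Subgroup G) : Set G) := by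
  intro g hg
  rw [Subgroup.mem_normalizer_iff_map_conj_eq] at hg ⊢
  have hg' : Q.map (MulAut.conj g).toMonoidHom = Q := hg
  have := Cfsg.Agent.S5306.JJ_map 2 (MulAut.conj g) Q
  rw [hg'] at this
  exact this.symm

/-- Counting with two cosets. -/
theorem card_le_two_mul [Finite G] {A A₀ : Subgroup G} {a₁ : G}
    (hyp : ∀ a ∈ A, a ∈ A₀ ∨ a₁⁻¹ * a ∈ A₀) : Nat.card A ≤ 2 * Nat.card A₀ := by
  classical
  let f : A → A₀ × Bool := fun a =>
    if h : a.1 ∈ A₀ then (⟨a.1, h⟩, true)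
    else (⟨a₁⁻¹ * a.1, (hyp a.1 a.2).resolve_left h⟩, false)
  have hf : Function.Injective f := by
    intro a b hab
    simp only [f] at hab
    by_cases ha : a.1 ∈ A₀ <;> by_cases hb : b.1 ∈ A₀
    · rw [dif_pos ha, dif_pos hb] at hab
      have := congrArg (fun p => (p.1 : G)) hab
      exact Subtype.ext this
    · rw [dif_pos ha, dif_neg hb] at hab
      have := congrArg Prod.snd hab
      simp at this
    · rw [dif_neg ha, dif_pos hb] at hab
      have := congrArg Prod.snd hab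
      simp at this
    · rw [dif_neg ha, dif_neg hb] at hab
      have := congrArg (fun p => (p.1 : G)) hab
      simp only at this
      exact Subtype.ext (mul_left_cancel this)
  have := Nat.card_le_card_of_injective f hf
  rw [Nat.card_prod, Nat.card_eq_fintype_card (α := Bool), Fintype.card_bool, mul_comm] at this
  exact this

/-- A `2`-subgroup normalized by a `2`-subgroup of odd index lies in it. -/
theorem le_of_odd_relIndex [Finite G] {S R X : Subgroup G} (hS : IsPGroup 2 S)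
    (hR : IsPGroup 2 R) (hSX : S ≤ X) (hRX : R ≤ X) (hodd : Odd (S.relIndex X))
    (hSR : S ≤ normalizer (R : Set G)) : R ≤ S := by
  haveI : Fact (Nat.Prime 2) := ⟨Nat.prime_two⟩
  have h1 : IsPGroup 2 ↥(S ⊔ R) := IsPGroup.to_sup_of_normal_right' hS hR hSR
  have h2 := Subgroup.relIndex_mul_relIndex S (S ⊔ R) X le_sup_left (sup_le hSX hRX)
  have h3 : Odd (S.relIndex (S ⊔ R)) := by
    rw [← h2] at hodd
    exact (Nat.odd_mul.mp hodd).1
  obtain ⟨n, hn⟩ := (IsPGroup.iff_card).mp h1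
  have h4 : S.relIndex (S ⊔ R) ∣ 2 ^ n := by
    rw [← hn]
    exact ⟨Nat.card S, Cfsg.Agent.Lib.Helper10_Thompson.card_eq_relIndex_mul_card le_sup_left⟩
  obtain ⟨m, _, hm⟩ := (Nat.dvd_prime_pow Nat.prime_two).mp h4
  have h5 : m = 0 := by
    by_contra hm0
    rw [hm] at h3
    have : Even (2 ^ m) := (Nat.even_pow).mpr ⟨even_two, hm0⟩
    exact (Nat.not_odd_iff_even.mpr this) h3
  rw [h5, pow_zero] at hm
  have := Subgroup.relIndex_eq_one.mp hm
  exact le_sup_right.trans this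

end general

section four

variable {G : Type*} [Group G] [Finite G] {W : Subgroup G}

theorem four_exists_u (hW4 : Nat.card W = 4) {c : G} (hc : c ∈ W) (hc2 : c * c = 1)
    (hc1 : c ≠ 1) : ∃ u ∈ W, u ≠ 1 ∧ u ≠ c := by
  by_contra hcon
  push Not at hcon
  have hle : W ≤ zpowers c := by
    intro w hw
    by_cases hw1 : w = 1
    · rw [hw1]; exact Subgroup.one_mem _
    · rw [hcon w hw hw1]; exact Subgroup.mem_zpowers c
  have := Subgroup.card_le_of_le hle
  rw [hW4, card_zpowers_invol hc2 hc1] at this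
  omega

theorem four_basis (hW4 : Nat.card W = 4) (hW2 : ∀ w ∈ W, w * w = 1) {c u : G} (hc : c ∈ W)
    (hc1 : c ≠ 1) (hu : u ∈ W) (hu1 : u ≠ 1) (huc : u ≠ c) :
    ∀ w ∈ W, w = 1 ∨ w = c ∨ w = u ∨ w = u * c := by
  have hc2 := hW2 c hc
  have hDW : zpowers c ≤ W := Subgroup.zpowers_le.mpr hc
  have hcard : Nat.card W ≤ 2 * Nat.card (zpowers c) := by
    rw [hW4, card_zpowers_invol hc2 hc1]
  have huD : u ∉ zpowers c := by
    intro h
    rcases mem_zpowers_invol hc2 h with h | h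
    · exact hu1 h
    · exact huc h
  intro w hw
  rcases two_cosets hDW hcard hu huD w hw with h | h
  · rcases mem_zpowers_invol hc2 h with h | h
    · exact Or.inl h
    · exact Or.inr (Or.inl h)
  · rcases mem_zpowers_invol hc2 h with h | h
    · right; right; left
      calc w = u * (u⁻¹ * w) := by group
        _ = u := by rw [h, mul_one]
    · right; right; right
      calc w = u * (u⁻¹ * w) := by group
        _ = u * c := by rw [h]

theorem mem_centralizer_of_basis (hW4 : Nat.card W = 4) (hW2 : ∀ w ∈ W, w * w = 1) {c u : G}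
    (hc : c ∈ W) (hc1 : c ≠ 1) (hu : u ∈ W) (hu1 : u ≠ 1) (huc : u ≠ c) {g : G}
    (hgc : g * c = c * g) (hgu : g * u = u * g) : g ∈ centralizer (W : Set G) := by
  rw [Subgroup.mem_centralizer_iff]
  intro w hw
  rcases four_basis hW4 hW2 hc hc1 hu hu1 huc w hw with h | h | h | h
  · rw [h, one_mul, mul_one]
  · rw [h]; exact hgc.symm
  · rw [h]; exact hgu.symm
  · rw [h]
    calc u * c * g = u * (c * g) := by group
      _ = u * (g * c) := by rw [hgc]
      _ = (u * g) * c := by group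
      _ = (g * u) * c := by rw [hgu]
      _ = g * (u * c) := by group

end four

section core2

variable {G : Type*} [Group G] [Finite G] {K J P V W : Subgroup G} (h : Core K J P V W)
include h

theorem S_pgroup : IsPGroup 2 ↥(P ⊔ J) := by
  have := IsPGroup.to_sup_of_normal_right' h.hJ2 h.hP2 h.hJP
  rwa [sup_comm] at this

theorem S_le_X : P ⊔ J ≤ K ⊔ J := sup_le (h.hPK.trans le_sup_left) le_sup_right

theorem S_le_normalizer_K : P ⊔ J ≤ normalizer (K : Set G) :=
  sup_le (h.hPK.trans Subgroup.le_normalizer) h.hJK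

theorem X_le_normalizer_K : K ⊔ J ≤ normalizer (K : Set G) :=
  sup_le Subgroup.le_normalizer h.hJK

theorem S_odd : Odd ((P ⊔ J).relIndex (K ⊔ J)) := by
  have h1 := Cfsg.Agent.Lib.Helper51_Offender.card_sup_mul_card_inf K (P ⊔ J) (S_le_normalizer_K h)
  have hX : K ⊔ (P ⊔ J) = K ⊔ J := by
    apply le_antisymm
    · exact sup_le le_sup_left (S_le_X h)
    · exact sup_le le_sup_left (le_sup_right.trans le_sup_right)
  rw [hX] at h1
  have h2 := Cfsg.Agent.Lib.Helper10_Thompson.card_eq_relIndex_mul_card (S_le_X h)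
  have h3 := Cfsg.Agent.Lib.Helper10_Thompson.card_eq_relIndex_mul_card
    (inf_le_left : K ⊓ (P ⊔ J) ≤ K)
  have hpos1 : 0 < Nat.card ↥(P ⊔ J) := Nat.card_pos
  have hpos2 : 0 < Nat.card ↥(K ⊓ (P ⊔ J)) := Nat.card_pos
  have h4 : (P ⊔ J).relIndex (K ⊔ J) = (K ⊓ (P ⊔ J)).relIndex K := by
    rw [h2, h3] at h1
    have : (P ⊔ J).relIndex (K ⊔ J) * (Nat.card ↥(P ⊔ J) * Nat.card ↥(K ⊓ (P ⊔ J))) =
        (K ⊓ (P ⊔ J)).relIndex K * (Nat.card ↥(P ⊔ J) * Nat.card ↥(K ⊓ (P ⊔ J))) := by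
      nlinarith [h1]
    exact Nat.eq_of_mul_eq_mul_right (Nat.mul_pos hpos1 hpos2) this
  have h5 : (K ⊓ (P ⊔ J)).relIndex K ∣ P.relIndex K :=
    Subgroup.relIndex_dvd_of_le_left K (le_inf h.hPK le_sup_left)
  rw [h.hidx] at h5
  rw [h4]
  have h3p : Nat.Prime 3 := by norm_num
  rcases (Nat.dvd_prime h3p).mp h5 with h6 | h6 <;> rw [h6] <;> decide

theorem JJ_S : JJ 2 (P ⊔ J) = J :=
  h.hJS _ (S_le_X h) (S_pgroup h) (S_odd h) le_sup_right

theorem S_le_normalizer_J : P ⊔ J ≤ normalizer (J : Set G) := by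
  have := normalizer_le_normalizer_JJ (P ⊔ J)
  rw [JJ_S h] at this
  exact Subgroup.le_normalizer.trans this

theorem X_le_normalizer_W : K ⊔ J ≤ normalizer (W : Set G) := sup_le h.hKW h.hJW

theorem S_le_normalizer_W : P ⊔ J ≤ normalizer (W : Set G) := (S_le_X h).trans (X_le_normalizer_W h)

theorem X_le_normalizer_Q :
    K ⊔ J ≤ normalizer (((K ⊔ J) ⊓ centralizer (W : Set G) : Subgroup G) : Set G) := by
  apply le_normalizer_of_conj_mem
  intro x hx q hq
  rw [Subgroup.mem_inf] at hq ⊢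
  exact ⟨(K ⊔ J).mul_mem ((K ⊔ J).mul_mem hx hq.1) ((K ⊔ J).inv_mem hx),
    conj_mem_centralizer (X_le_normalizer_W h hx) hq.2⟩

theorem K_inf_Q : K ⊓ ((K ⊔ J) ⊓ centralizer (W : Set G)) = P := by
  rw [← inf_assoc, inf_eq_left.mpr (le_sup_left : K ≤ K ⊔ J)]
  exact h.K_inf

theorem Q_pgroup : IsPGroup 2 ↥((K ⊔ J) ⊓ centralizer (W : Set G) : Subgroup G) := by
  haveI : Fact (Nat.Prime 2) := ⟨Nat.prime_two⟩
  obtain ⟨Q, hQ⟩ : ∃ Q : Subgroup G, Q = (K ⊔ J) ⊓ centralizer (W : Set G) := ⟨_, rfl⟩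
  rw [← hQ]
  have hQX : Q ≤ K ⊔ J := by rw [hQ]; exact inf_le_left
  have hKQ : K ⊓ Q = P := by rw [hQ]; exact K_inf_Q h
  have h1 := Cfsg.Agent.Lib.Helper10_Thompson.card_eq_relIndex_mul_card (inf_le_right : K ⊓ Q ≤ Q)
  rw [Subgroup.inf_relIndex_right, hKQ] at h1
  have h2 : K.relIndex Q = K.relIndex (Q ⊔ K) :=
    (relIndex_sup_of_le_normalizer K Q (hQX.trans (X_le_normalizer_K h))).symm
  have h3 := Subgroup.relIndex_mul_relIndex K (Q ⊔ K) (K ⊔ J) le_sup_right
    (sup_le hQX le_sup_left)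
  have h4 : K.relIndex (K ⊔ J) = K.relIndex J := by
    have := relIndex_sup_of_le_normalizer K J h.hJK
    rwa [sup_comm] at this
  have h5 : K.relIndex J ∣ Nat.card J := Subgroup.relIndex_dvd_card K J
  obtain ⟨n, hn⟩ := (IsPGroup.iff_card).mp h.hJ2
  obtain ⟨l, hl⟩ := (IsPGroup.iff_card).mp h.hP2
  have h6 : K.relIndex Q ∣ 2 ^ n := by
    rw [h2, ← hn]
    refine Dvd.dvd.trans ?_ h5
    rw [← h4, ← h3]
    exact Dvd.intro _ rfl
  obtain ⟨m, _, hm⟩ := (Nat.dvd_prime_pow Nat.prime_two).mp h6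
  apply IsPGroup.of_card (n := m + l)
  rw [h1, hm, hl, pow_add]

theorem Q_le_S : (K ⊔ J) ⊓ centralizer (W : Set G) ≤ P ⊔ J :=
  le_of_odd_relIndex (S_pgroup h) (Q_pgroup h) (S_le_X h) inf_le_left (S_odd h)
    ((S_le_X h).trans (X_le_normalizer_Q h))

theorem P_le_Q : P ≤ (K ⊔ J) ⊓ centralizer (W : Set G) :=
  le_inf (h.hPK.trans le_sup_left) h.hPW

theorem W_le_Q : W ≤ (K ⊔ J) ⊓ centralizer (W : Set G) := h.hWP.trans (P_le_Q h)

theorem not_J_le : ¬ J ≤ centralizer (W : Set G) := by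
  intro hJC
  apply h.not_K_le
  rw [← h.hKJ, Subgroup.commutator_le]
  intro k hk j hj
  have h1 : k * j * k⁻¹ ∈ centralizer (W : Set G) := conj_mem_centralizer (h.hKW hk) (hJC hj)
  have h2 : ⁅k, j⁆ = (k * j * k⁻¹) * j⁻¹ := by rw [commutatorElement_def]
  rw [h2]
  exact Subgroup.mul_mem _ h1 (Subgroup.inv_mem _ (hJC hj))

/-- A nonidentity element of `W` centralized by `S = P J`. -/
theorem exists_c : ∃ c ∈ W, c ≠ 1 ∧ c ∈ centralizer ((P ⊔ J : Subgroup G) : Set G) := by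
  haveI : Fact (Nat.Prime 2) := ⟨Nat.prime_two⟩
  have hnil : Group.IsNilpotent ↥(P ⊔ J) := (S_pgroup h).isNilpotent
  have hn : (W.subgroupOf (P ⊔ J)).Normal :=
    Subgroup.normal_subgroupOf_of_le_normalizer (S_le_normalizer_W h)
  have hW1 : W.subgroupOf (P ⊔ J) ≠ ⊥ := by
    intro hbot
    rw [Subgroup.subgroupOf_eq_bot, disjoint_iff, inf_eq_left.mpr (h.hWP.trans le_sup_left)] at hbot
    have := h.hW4
    rw [hbot, Subgroup.card_bot] at this
    omega
  obtain ⟨z, hzW, hzc, hz1⟩ :=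
    Cfsg.Agent.Lib.Helper22_FitLocal.exists_mem_center_of_normal_nilpotent
      (W.subgroupOf (P ⊔ J)) hW1
  refine ⟨z.1, Subgroup.mem_subgroupOf.mp hzW, ?_, ?_⟩
  · intro h1
    apply hz1
    exact Subtype.ext h1
  · rw [Subgroup.mem_centralizer_iff]
    intro s hs
    rw [Subgroup.mem_center_iff] at hzc
    have := hzc ⟨s, hs⟩
    exact congrArg Subtype.val this

end core2

end Cfsg.Agent.Lib.Helper10_JCompB
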