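import Mathlib
import Cfsg.Agent.Lib.Helper10_JCompB

set_option autoImplicit false
set_option linter.unusedSectionVars false
set_option linter.style.haveILetI false
set_option linter.unusedVariables false

namespace Cfsg.Agent.Lib.Helper10_JCompC

open Cfsg Subgroup
open Cfsg.Agent.S5306 (EA maxEA JJ)
open Cfsg.Agent.Lib.Helper10_JComp
open Cfsg.Agent.Lib.Helper10_JCompB
open scoped commutatorElement

section core3

variable {G : Type*} [Group G] [Finite G] {K J P V W : Subgroup G} (h : Core K J P V W)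
  {c : G} (hc : c ∈ W) (hc1 : c ≠ 1) (hcS : c ∈ centralizer ((P ⊔ J : Subgroup G) : Set G))
include h hc hc1 hcS

theorem comm_c {s : G} (hs : s ∈ P ⊔ J) : s * c = c * s := by
  rw [Subgroup.mem_centralizer_iff] at hcS
  exact hcS s hs

/-- `C_W(J) = {1, c}`. -/
theorem C1_eq : ∀ w ∈ W, w ∈ centralizer (J : Set G) → w = 1 ∨ w = c := by
  intro w hw hwJ
  by_contra hcon
  push Not at hcon
  apply not_J_le h
  intro j hj
  rw [Subgroup.mem_centralizer_iff] at hwJ
  exact mem_centralizer_of_basis h.hW4 h.hW2 hc hc1 hw hcon.1 hcon.2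
    (comm_c h hc hc1 hcS (le_sup_right (a := P) hj)) (hwJ j hj)

theorem act {s : G} (hs : s ∈ P ⊔ J) (hsC : s ∉ centralizer (W : Set G)) {u : G} (hu : u ∈ W)
    (hu1 : u ≠ 1) (huc : u ≠ c) : s * u * s⁻¹ = u * c := by
  have hsu : s * u * s⁻¹ ∈ W := conj_mem_of_mem_normalizer (S_le_normalizer_W h hs) hu
  have hsc := comm_c h hc hc1 hcS hs
  rcases four_basis h.hW4 h.hW2 hc hc1 hu hu1 huc _ hsu with h1 | h1 | h1 | h1
  · exfalso
    apply hu1
    calc u = s⁻¹ * (s * u * s⁻¹) * s := by group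
      _ = 1 := by rw [h1]; group
  · exfalso
    apply huc
    calc u = s⁻¹ * (s * u * s⁻¹) * s := by group
      _ = s⁻¹ * (c * s) := by rw [h1]; group
      _ = s⁻¹ * (s * c) := by rw [hsc]
      _ = c := by group
  · exfalso
    apply hsC
    apply mem_centralizer_of_basis h.hW4 h.hW2 hc hc1 hu hu1 huc hsc
    calc s * u = (s * u * s⁻¹) * s := by group
      _ = u * s := by rw [h1]
  · exact h1

theorem idx2 {a₀ : G} (ha₀ : a₀ ∈ P ⊔ J) (ha₀C : a₀ ∉ centralizer (W : Set G)) {a : G}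
    (ha : a ∈ P ⊔ J) : a ∈ centralizer (W : Set G) ∨ a₀⁻¹ * a ∈ centralizer (W : Set G) := by
  by_cases haC : a ∈ centralizer (W : Set G)
  · exact Or.inl haC
  · right
    obtain ⟨u, hu, hu1, huc⟩ := four_exists_u h.hW4 hc (h.hW2 c hc) hc1
    have h1 := act h hc hc1 hcS ha₀ ha₀C hu hu1 huc
    have h2 := act h hc hc1 hcS ha haC hu hu1 huc
    have h3 := comm_c h hc hc1 hcS ha₀
    have h4 := comm_c h hc hc1 hcS ha
    apply mem_centralizer_of_basis h.hW4 h.hW2 hc hc1 hu hu1 huc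
    · calc a₀⁻¹ * a * c = a₀⁻¹ * (a * c) := by group
        _ = a₀⁻¹ * (c * a) := by rw [h4]
        _ = a₀⁻¹ * (c * a₀) * (a₀⁻¹ * a) := by group
        _ = a₀⁻¹ * (a₀ * c) * (a₀⁻¹ * a) := by rw [h3]
        _ = c * (a₀⁻¹ * a) := by group
    · calc a₀⁻¹ * a * u = a₀⁻¹ * (a * u * a⁻¹) * a := by group
        _ = a₀⁻¹ * (a₀ * u * a₀⁻¹) * a := by rw [h2, h1]
        _ = u * (a₀⁻¹ * a) := by group

/-- Replacement: `(A ∩ C(W)) W` is again a largest elementary abelian subgroup of `S`. -/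
theorem star {A : Subgroup G} (hA : A ∈ maxEA 2 (P ⊔ J)) :
    (A ⊓ centralizer (W : Set G)) ⊔ W ∈ maxEA 2 (P ⊔ J) := by
  obtain ⟨hAS, hAE, hAmax⟩ := hA
  have hE : EA 2 ((A ⊓ centralizer (W : Set G)) ⊔ W : Subgroup G) := by
    apply EA_sup (EA_mono hAE inf_le_left) (EA_of_sq h.hW2)
    intro a ha w hw
    have := (Subgroup.mem_inf.mp ha).2
    rw [Subgroup.mem_centralizer_iff] at this
    exact (this w hw).symm
  have hle : (A ⊓ centralizer (W : Set G)) ⊔ W ≤ P ⊔ J :=
    sup_le (inf_le_left.trans hAS) (h.hWP.trans le_sup_left)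
  have hcard : Nat.card A ≤ Nat.card ((A ⊓ centralizer (W : Set G)) ⊔ W : Subgroup G) := by
    by_cases hAC : A ≤ centralizer (W : Set G)
    · exact Subgroup.card_le_of_le ((le_inf le_rfl hAC).trans le_sup_left)
    · obtain ⟨a₁, ha₁, ha₁C⟩ := SetLike.not_le_iff_exists.mp hAC
      have h1 : Nat.card A ≤ 2 * Nat.card (A ⊓ centralizer (W : Set G) : Subgroup G) := by
        apply card_le_two_mul (a₁ := a₁)
        intro a ha
        rcases idx2 h hc hc1 hcS (hAS ha₁) ha₁C (hAS ha) with h' | h'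
        · exact Or.inl (Subgroup.mem_inf.mpr ⟨ha, h'⟩)
        · exact Or.inr (Subgroup.mem_inf.mpr ⟨A.mul_mem (A.inv_mem ha₁) ha, h'⟩)
      have h2 : W ⊓ (A ⊓ centralizer (W : Set G)) ≤ zpowers c := by
        intro w hw
        have hwW : w ∈ W := (Subgroup.mem_inf.mp hw).1
        have hwA : w ∈ A := (Subgroup.mem_inf.mp (Subgroup.mem_inf.mp hw).2).1
        by_contra hwc
        have hw1 : w ≠ 1 := by
          intro h'; apply hwc; rw [h']; exact Subgroup.one_mem _
        have hwc' : w ≠ c := by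
          intro h'; apply hwc; rw [h']; exact Subgroup.mem_zpowers c
        have h3 := act h hc hc1 hcS (hAS ha₁) ha₁C hwW hw1 hwc'
        have h4 := hAE.1 a₁ ha₁ w hwA
        apply hc1
        have : w = w * c := by
          calc w = (w * a₁) * a₁⁻¹ := by group
            _ = a₁ * w * a₁⁻¹ := by rw [h4]
            _ = w * c := h3
        calc c = w⁻¹ * (w * c) := by group
          _ = 1 := by rw [← this]; group
      have h3 : Nat.card (W ⊓ (A ⊓ centralizer (W : Set G)) : Subgroup G) ≤ 2 := by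
        have := Subgroup.card_le_of_le h2
        rwa [card_zpowers_invol (h.hW2 c hc) hc1] at this
      have h4 := Cfsg.Agent.Lib.Helper10_Thompson.card_mul_card_le_card_sup_mul_card_inf
        (A ⊓ centralizer (W : Set G)) W
      rw [h.hW4] at h4
      have h5 : Nat.card ((A ⊓ centralizer (W : Set G)) ⊔ W : Subgroup G) *
          Nat.card (W ⊓ (A ⊓ centralizer (W : Set G)) : Subgroup G) ≤
          Nat.card ((A ⊓ centralizer (W : Set G)) ⊔ W : Subgroup G) * 2 :=
        Nat.mul_le_mul_left _ h3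
      omega
  exact ⟨hle, hE, fun C hC hCE => (hAmax C hC hCE).trans hcard⟩

theorem star_le_Q {A : Subgroup G} (hA : A ∈ maxEA 2 (P ⊔ J)) :
    (A ⊓ centralizer (W : Set G)) ⊔ W ≤ (K ⊔ J) ⊓ centralizer (W : Set G) :=
  sup_le (le_inf (inf_le_left.trans (hA.1.trans (S_le_X h))) inf_le_right) (W_le_Q h)

theorem W_le_J : W ≤ J := by
  obtain ⟨A, hA⟩ := Cfsg.Agent.S5306.exists_maxEA 2 (P ⊔ J)
  have h1 := star h hc hc1 hcS hA
  have h2 : (A ⊓ centralizer (W : Set G)) ⊔ W ≤ JJ 2 (P ⊔ J) := le_sSup h1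
  rw [JJ_S h] at h2
  exact le_sup_right.trans h2

end core3

end Cfsg.Agent.Lib.Helper10_JCompC
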