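import Mathlib
import Cfsg.Agent.Lib.Helper10_JCompC

set_option autoImplicit false
set_option linter.unusedSectionVars false
set_option linter.style.haveILetI false
set_option linter.unusedVariables false

namespace Cfsg.Agent.Lib.Helper10_JCompD

open Cfsg Subgroup
open Cfsg.Agent.S5306 (EA maxEA JJ)
open Cfsg.Agent.Lib.Helper10_JComp
open Cfsg.Agent.Lib.Helper10_JCompB
open Cfsg.Agent.Lib.Helper10_JCompC
open scoped commutatorElement

section actker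

variable {G : Type*} [Group G]

/-- The subgroup of elements normalizing `W` and acting trivially on `Y` modulo `W`. -/
def actKer (Y W : Subgroup G) : Subgroup G where
  carrier := {g | g ∈ normalizer (W : Set G) ∧ ∀ y ∈ Y, g * y * g⁻¹ * y⁻¹ ∈ W}
  one_mem' := ⟨Subgroup.one_mem _, fun y hy => by
    have e : (1 : G) * y * 1⁻¹ * y⁻¹ = 1 := by group
    rw [e]; exact W.one_mem⟩
  mul_mem' := by
    rintro a b ⟨ha1, ha2⟩ ⟨hb1, hb2⟩
    refine ⟨Subgroup.mul_mem _ ha1 hb1, fun y hy => ?_⟩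
    have e : a * b * y * (a * b)⁻¹ * y⁻¹ =
        a * (b * y * b⁻¹ * y⁻¹) * a⁻¹ * (a * y * a⁻¹ * y⁻¹) := by group
    rw [e]
    exact W.mul_mem (conj_mem_of_mem_normalizer ha1 (hb2 y hy)) (ha2 y hy)
  inv_mem' := by
    rintro a ⟨ha1, ha2⟩
    refine ⟨Subgroup.inv_mem _ ha1, fun y hy => ?_⟩
    have e : a⁻¹ * y * a⁻¹⁻¹ * y⁻¹ = a⁻¹ * (a * y * a⁻¹ * y⁻¹)⁻¹ * a := by group
    rw [e]
    exact conj_mem_of_mem_normalizer' ha1 (W.inv_mem (ha2 y hy))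

theorem mem_actKer {Y W : Subgroup G} {g : G} :
    g ∈ actKer Y W ↔ g ∈ normalizer (W : Set G) ∧ ∀ y ∈ Y, g * y * g⁻¹ * y⁻¹ ∈ W := Iff.rfl

end actker

section data

variable {G : Type*} [Group G] [Finite G]

/-- All the data of the `J`-component configuration. -/
structure Data (K J P V W Z Q Y : Subgroup G) (c : G) : Prop where
  core : Core K J P V W
  hc : c ∈ W
  hc1 : c ≠ 1
  hcS : c ∈ centralizer ((P ⊔ J : Subgroup G) : Set G)
  hQ : Q = (K ⊔ J) ⊓ centralizer (W : Set G)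
  hY : Y = sInf (maxEA 2 Q)
  hZJ : Z ≤ J
  hZC : Z ≤ centralizer (J : Set G)
  hZ2 : ∀ z ∈ Z, z * z = 1
  hZmem : ∀ x ∈ J, x ∈ centralizer (J : Set G) → x * x = 1 → x ∈ Z
  hZN : normalizer (J : Set G) ≤ normalizer (Z : Set G)

variable {K J P V W Z Q Y : Subgroup G} {c : G} (d : Data K J P V W Z Q Y c)
include d

theorem Q_le_S' : Q ≤ P ⊔ J := by rw [d.hQ]; exact Q_le_S d.core

theorem Q_le_C : Q ≤ centralizer (W : Set G) := by rw [d.hQ]; exact inf_le_right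

theorem Q_le_X : Q ≤ K ⊔ J := by rw [d.hQ]; exact inf_le_left

theorem X_le_NQ : K ⊔ J ≤ normalizer (Q : Set G) := by rw [d.hQ]; exact X_le_normalizer_Q d.core

theorem W_le_Q' : W ≤ Q := by rw [d.hQ]; exact W_le_Q d.core

theorem P_le_Q' : P ≤ Q := by rw [d.hQ]; exact P_le_Q d.core

theorem exists_star : ∃ A ∈ maxEA 2 (P ⊔ J), A ≤ Q := by
  obtain ⟨A, hA⟩ := Cfsg.Agent.S5306.exists_maxEA 2 (P ⊔ J)
  refine ⟨_, star d.core d.hc d.hc1 d.hcS hA, ?_⟩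
  rw [d.hQ]
  exact star_le_Q d.core d.hc d.hc1 d.hcS hA

theorem maxEA_Q_sub {B : Subgroup G} (hB : B ∈ maxEA 2 Q) : B ∈ maxEA 2 (P ⊔ J) := by
  obtain ⟨A, hA, hAQ⟩ := exists_star d
  exact maxEA_subset (Q_le_S' d) hA hAQ hB

theorem maxEA_le_J {A : Subgroup G} (hA : A ∈ maxEA 2 (P ⊔ J)) : A ≤ J := by
  have : A ≤ JJ 2 (P ⊔ J) := le_sSup hA
  rwa [JJ_S d.core] at this

theorem Z_le_of_maxEA {A : Subgroup G} (hA : A ∈ maxEA 2 (P ⊔ J)) : Z ≤ A := by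
  apply le_of_maxEA hA (EA_of_sq d.hZ2) (d.hZJ.trans le_sup_right)
  intro a ha z hz
  have := d.hZC hz
  rw [Subgroup.mem_centralizer_iff] at this
  exact this a (maxEA_le_J d hA ha)

theorem W_le_of_maxEA {B : Subgroup G} (hB : B ∈ maxEA 2 Q) : W ≤ B := by
  apply le_of_maxEA hB (EA_of_sq d.core.hW2) (W_le_Q' d)
  intro b hb w hw
  have := Q_le_C d (hB.1 hb)
  rw [Subgroup.mem_centralizer_iff] at this
  exact (this w hw).symm

theorem Y_le {B : Subgroup G} (hB : B ∈ maxEA 2 Q) : Y ≤ B := by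
  rw [d.hY]; exact sInf_le hB

theorem W_le_Y : W ≤ Y := by
  rw [d.hY]; exact le_sInf fun B hB => W_le_of_maxEA d hB

theorem Z_le_Y : Z ≤ Y := by
  rw [d.hY]; exact le_sInf fun B hB => Z_le_of_maxEA d (maxEA_Q_sub d hB)

theorem Y_EA : EA 2 Y := by
  obtain ⟨B, hB⟩ := Cfsg.Agent.S5306.exists_maxEA 2 Q
  exact EA_mono hB.2.1 (Y_le d hB)

theorem Y_le_Q : Y ≤ Q := by
  obtain ⟨B, hB⟩ := Cfsg.Agent.S5306.exists_maxEA 2 Q
  exact (Y_le d hB).trans hB.1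

theorem X_le_NY : K ⊔ J ≤ normalizer (Y : Set G) := by
  apply le_normalizer_of_conj_mem
  intro x hx y hy
  rw [d.hY, Subgroup.mem_sInf]
  intro B hB
  have hx' : x⁻¹ ∈ normalizer (Q : Set G) := X_le_NQ d ((K ⊔ J).inv_mem hx)
  rw [Subgroup.mem_normalizer_iff_map_conj_eq] at hx'
  have hx'' : Q.map (MulAut.conj x⁻¹).toMonoidHom = Q := hx'
  have h1 := Cfsg.Agent.S5306.maxEA_map 2 (MulAut.conj x⁻¹) Q B hB
  rw [hx''] at h1
  have h2 := Y_le d h1 hy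
  rw [Cfsg.Agent.S5306.conj_map_mem_iff] at h2
  simpa using h2

theorem comm_mem_W {A : Subgroup G} (hA : A ∈ maxEA 2 (P ⊔ J)) {a : G} (ha : a ∈ A) {y : G}
    (hy : y ∈ Y) : a * y * a⁻¹ * y⁻¹ ∈ W := by
  have h1 := star d.core d.hc d.hc1 d.hcS hA
  have h2 : (A ⊓ centralizer (W : Set G)) ⊔ W ≤ Q := by
    rw [d.hQ]; exact star_le_Q d.core d.hc d.hc1 d.hcS hA
  have h3 := maxEA_of_le (Q_le_S' d) h1 h2
  have h4 := Y_le d h3 hy
  have hWN : W ≤ normalizer ((A ⊓ centralizer (W : Set G) : Subgroup G) : Set G) := by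
    apply le_normalizer_of_conj_mem
    intro w hw a₀ ha₀
    have := (Subgroup.mem_inf.mp ha₀).2
    rw [Subgroup.mem_centralizer_iff] at this
    have e : w * a₀ * w⁻¹ = a₀ := by rw [this w hw]; group
    rw [e]; exact ha₀
  obtain ⟨a₀, ha₀, w, hw, rfl⟩ :=
    Cfsg.Agent.Lib.Helper24_CoprimeAction.exists_mul_of_mem_sup W _ hWN h4
  have hcomm := hA.2.1.1 a ha a₀ (Subgroup.mem_inf.mp ha₀).1
  have e : a * (a₀ * w) * a⁻¹ * (a₀ * w)⁻¹ = a₀ * (a * w * a⁻¹ * w⁻¹) * a₀⁻¹ := by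
    calc a * (a₀ * w) * a⁻¹ * (a₀ * w)⁻¹ = (a * a₀) * w * a⁻¹ * w⁻¹ * a₀⁻¹ := by group
      _ = (a₀ * a) * w * a⁻¹ * w⁻¹ * a₀⁻¹ := by rw [hcomm]
      _ = a₀ * (a * w * a⁻¹ * w⁻¹) * a₀⁻¹ := by group
  rw [e]
  have haN : a ∈ normalizer (W : Set G) := S_le_normalizer_W d.core (hA.1 ha)
  have h5 : a * w * a⁻¹ * w⁻¹ ∈ W :=
    W.mul_mem (conj_mem_of_mem_normalizer haN hw) (W.inv_mem hw)
  have ha₀N : a₀ ∈ normalizer (W : Set G) :=
    S_le_normalizer_W d.core (hA.1 (Subgroup.mem_inf.mp ha₀).1)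
  exact conj_mem_of_mem_normalizer ha₀N h5

theorem J_le_M : J ≤ actKer Y W := by
  rw [← JJ_S d.core]
  apply sSup_le
  intro A hA a ha
  exact ⟨S_le_normalizer_W d.core (hA.1 ha), fun y hy => comm_mem_W d hA ha hy⟩

theorem M_invariant {x : G} (hx : x ∈ K ⊔ J) {g : G} (hg : g ∈ actKer Y W) :
    x * g * x⁻¹ ∈ actKer Y W := by
  have hxW := X_le_normalizer_W d.core hx
  refine ⟨Subgroup.mul_mem _ (Subgroup.mul_mem _ hxW hg.1) (Subgroup.inv_mem _ hxW), ?_⟩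
  intro y hy
  have hy' : x⁻¹ * y * x ∈ Y := conj_mem_of_mem_normalizer' (X_le_NY d hx) hy
  have h1 := hg.2 _ hy'
  have e : x * g * x⁻¹ * y * (x * g * x⁻¹)⁻¹ * y⁻¹ =
      x * (g * (x⁻¹ * y * x) * g⁻¹ * (x⁻¹ * y * x)⁻¹) * x⁻¹ := by group
  rw [e]
  exact conj_mem_of_mem_normalizer hxW h1

theorem K_le_M : K ≤ actKer Y W := by
  rw [← d.core.hKJ, Subgroup.commutator_le]
  intro k hk j hj
  have h1 : k * j * k⁻¹ ∈ actKer Y W := M_invariant d (le_sup_left (b := J) hk) (J_le_M d hj)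
  have h2 : ⁅k, j⁆ = (k * j * k⁻¹) * j⁻¹ := by rw [commutatorElement_def]
  rw [h2]
  exact Subgroup.mul_mem _ h1 (Subgroup.inv_mem _ (J_le_M d hj))

theorem X_le_M : K ⊔ J ≤ actKer Y W := sup_le (K_le_M d) (J_le_M d)

end data

end Cfsg.Agent.Lib.Helper10_JCompD
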