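import Mathlib
import Cfsg.Agent.Lib.Helper10_JCompD

set_option autoImplicit false
set_option linter.unusedSectionVars false
set_option linter.style.haveILetI false
set_option linter.unusedVariables false

namespace Cfsg.Agent.Lib.Helper10_JCompE

open Cfsg Subgroup
open Cfsg.Agent.S5306 (EA maxEA JJ)
open Cfsg.Agent.Lib.Helper10_JComp
open Cfsg.Agent.Lib.Helper10_JCompB
open Cfsg.Agent.Lib.Helper10_JCompC
open Cfsg.Agent.Lib.Helper10_JCompD
open scoped commutatorElement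

section data

variable {G : Type*} [Group G] [Finite G]

theorem K_eq {K J P V W : Subgroup G} (h : Core K J P V W) {k₀ : G} (hk : k₀ ∈ K)
    (hkP : k₀ ∉ P) : K = P ⊔ zpowers k₀ := by
  have hle : P ⊔ zpowers k₀ ≤ K := sup_le h.hPK (Subgroup.zpowers_le.mpr hk)
  have h1 := Subgroup.relIndex_mul_relIndex P (P ⊔ zpowers k₀) K le_sup_left hle
  rw [h.hidx] at h1
  have h3 : Nat.Prime 3 := by norm_num
  have h2 : P.relIndex (P ⊔ zpowers k₀) ≠ 1 := by
    intro hone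
    apply hkP
    exact Subgroup.relIndex_eq_one.mp hone (le_sup_right (a := P) (Subgroup.mem_zpowers k₀))
  have h4 : P.relIndex (P ⊔ zpowers k₀) ∣ 3 := ⟨_, h1.symm⟩
  have h5 : P.relIndex (P ⊔ zpowers k₀) = 3 := ((Nat.dvd_prime h3).mp h4).resolve_left h2
  rw [h5] at h1
  have h6 : (P ⊔ zpowers k₀).relIndex K = 1 := by omega
  exact le_antisymm (Subgroup.relIndex_eq_one.mp h6) hle

variable {K J P V W Z Q Y : Subgroup G} {c : G} (d : Data K J P V W Z Q Y c)
include d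

theorem Y'_le_Y : Z ⊔ W ≤ Y := sup_le (Z_le_Y d) (W_le_Y d)

theorem comm_ZW {z w : G} (hz : z ∈ Z) (hw : w ∈ W) : z * w = w * z :=
  (Y_EA d).1 z (Z_le_Y d hz) w (W_le_Y d hw)

theorem X_le_NY' : K ⊔ J ≤ normalizer ((Z ⊔ W : Subgroup G) : Set G) := by
  apply le_normalizer_of_conj_mem
  intro x hx y hy
  have hle : Z ⊔ W ≤ (Z ⊔ W).comap (MulAut.conj x).toMonoidHom := by
    apply sup_le
    · intro z hz
      rw [Subgroup.mem_comap]
      have h1 := (X_le_M d hx).2 z (Z_le_Y d hz)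
      have e : (MulAut.conj x).toMonoidHom z = (x * z * x⁻¹ * z⁻¹) * z := by
        simp only [MulEquiv.coe_toMonoidHom, MulAut.conj_apply]
        group
      rw [e]
      exact Subgroup.mul_mem _ (le_sup_right (a := Z) h1) (le_sup_left (b := W) hz)
    · intro w hw
      rw [Subgroup.mem_comap]
      have h1 := conj_mem_of_mem_normalizer (X_le_normalizer_W d.core hx) hw
      have e : (MulAut.conj x).toMonoidHom w = x * w * x⁻¹ := by
        simp only [MulEquiv.coe_toMonoidHom, MulAut.conj_apply]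
      rw [e]
      exact le_sup_right (a := Z) h1
  have := hle hy
  rw [Subgroup.mem_comap] at this
  simpa only [MulEquiv.coe_toMonoidHom, MulAut.conj_apply] using this

theorem exists_dec {y : G} (hy : y ∈ Z ⊔ W) : ∃ z ∈ Z, ∃ w ∈ W, y = z * w := by
  have hWN : W ≤ normalizer (Z : Set G) := by
    apply le_normalizer_of_conj_mem
    intro w hw z hz
    have := comm_ZW d hz hw
    have e : w * z * w⁻¹ = z := by rw [← this]; group
    rw [e]; exact hz
  exact Cfsg.Agent.Lib.Helper24_CoprimeAction.exists_mul_of_mem_sup W Z hWN hy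

theorem comm_Q_Y' {u : G} (hu : u ∈ Q) {y : G} (hy : y ∈ Z ⊔ W) :
    u * y * u⁻¹ * y⁻¹ = 1 ∨ u * y * u⁻¹ * y⁻¹ = c := by
  obtain ⟨z, hz, w, hw, rfl⟩ := exists_dec d hy
  have huW := Q_le_C d hu
  rw [Subgroup.mem_centralizer_iff] at huW
  have h1 := huW w hw
  have e : u * (z * w) * u⁻¹ * (z * w)⁻¹ = u * z * u⁻¹ * z⁻¹ := by
    calc u * (z * w) * u⁻¹ * (z * w)⁻¹ = u * z * (u⁻¹ * (u * w) * u⁻¹) * w⁻¹ * z⁻¹ := by group
      _ = u * z * (u⁻¹ * (w * u) * u⁻¹) * w⁻¹ * z⁻¹ := by rw [h1]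
      _ = u * z * u⁻¹ * z⁻¹ := by group
  rw [e]
  have h2 : u * z * u⁻¹ * z⁻¹ ∈ W := (X_le_M d (Q_le_X d hu)).2 z (Z_le_Y d hz)
  have huN : u ∈ normalizer (Z : Set G) := d.hZN (S_le_normalizer_J d.core (Q_le_S' d hu))
  have h3 : u * z * u⁻¹ * z⁻¹ ∈ Z :=
    Z.mul_mem (conj_mem_of_mem_normalizer huN hz) (Z.inv_mem hz)
  exact C1_eq d.core d.hc d.hc1 d.hcS _ h2 (d.hZC h3)

theorem Q_centralizes {u : G} (hu : u ∈ Q) {y : G} (hy : y ∈ Z ⊔ W) : u * y = y * u := by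
  obtain ⟨k₀, hk, hodd, hkP⟩ := d.core.exists_k₀
  have hkX : k₀ ∈ K ⊔ J := le_sup_left (b := J) hk
  have hu' : k₀ * u * k₀⁻¹ ∈ Q := conj_mem_of_mem_normalizer (X_le_NQ d hkX) hu
  have hy' : k₀ * y * k₀⁻¹ ∈ Z ⊔ W := conj_mem_of_mem_normalizer (X_le_NY' d hkX) hy
  have h1 := comm_Q_Y' d hu hy
  have h2 := comm_Q_Y' d hu' hy'
  have e : k₀ * u * k₀⁻¹ * (k₀ * y * k₀⁻¹) * (k₀ * u * k₀⁻¹)⁻¹ * (k₀ * y * k₀⁻¹)⁻¹ =
      k₀ * (u * y * u⁻¹ * y⁻¹) * k₀⁻¹ := by group
  rw [e] at h2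
  have h3 : u * y * u⁻¹ * y⁻¹ = 1 := by
    rcases h1 with h1 | h1
    · exact h1
    · exfalso
      rw [h1] at h2
      rcases h2 with h2 | h2
      · apply d.hc1
        calc c = k₀⁻¹ * (k₀ * c * k₀⁻¹) * k₀ := by group
          _ = 1 := by rw [h2]; group
      · exact d.core.k₀_moves hk hodd hkP c d.hc d.hc1 h2
  calc u * y = (u * y * u⁻¹ * y⁻¹) * y * u := by group
    _ = y * u := by rw [h3, one_mul]

/-- The decomposition `Z₀ = C_{Z₀}(⟨K, J⟩) (Z₀ ∩ W)`, elementwise. -/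
theorem exists_split {z : G} (hz : z ∈ Z) :
    ∃ e ∈ Z ⊓ W, ∃ y ∈ Z ⊓ ((K ⊔ J) ⊓ centralizer ((K ⊔ J : Subgroup G) : Set G)),
      z = e * y := by
  haveI : Fact (Nat.Prime 2) := ⟨Nat.prime_two⟩
  obtain ⟨k₀, hk, hodd, hkP⟩ := d.core.exists_k₀
  have hkX : zpowers k₀ ≤ K ⊔ J := (Subgroup.zpowers_le.mpr hk).trans le_sup_left
  have hAK : zpowers k₀ ≤ normalizer ((Z ⊔ W : Subgroup G) : Set G) := hkX.trans (X_le_NY' d)
  have hY'2 : IsPGroup 2 ↥(Z ⊔ W) := by
    have hQ2 : IsPGroup 2 ↥Q := by rw [d.hQ]; exact Q_pgroup d.core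
    exact hQ2.to_le ((Y'_le_Y d).trans (Y_le_Q d))
  obtain ⟨n, hn⟩ := (IsPGroup.iff_card).mp hY'2
  have hcop : (Nat.card (zpowers k₀)).Coprime (Nat.card ↥(Z ⊔ W)) := by
    rw [Nat.card_zpowers, hn]
    exact Nat.Coprime.pow_right n (Nat.coprime_two_right.mpr hodd)
  have hsolv : Group.IsSolvable (zpowers k₀) ∨ Group.IsSolvable ↥(Z ⊔ W) := by
    left
    apply Group.isSolvable_of_comm
    intro a b
    obtain ⟨i, hi⟩ := Subgroup.mem_zpowers_iff.mp a.2
    obtain ⟨j, hj⟩ := Subgroup.mem_zpowers_iff.mp b.2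
    apply Subtype.ext
    rw [Subgroup.coe_mul, Subgroup.coe_mul, ← hi, ← hj, ← zpow_add, ← zpow_add, add_comm]
  obtain ⟨e, he, y, hy, hzey⟩ := Cfsg.Agent.Lib.Helper24_CoprimeAction.coprime_decomp
    (zpowers k₀) (Z ⊔ W) hAK hcop hsolv (le_sup_left (b := W) hz)
  -- `e ∈ W`
  have heW : e ∈ W := by
    have hle : ⁅(Z ⊔ W : Subgroup G), zpowers k₀⁆ ≤ W := by
      rw [Subgroup.commutator_le]
      intro y' hy' g hg
      have h1 := (X_le_M d (hkX hg)).2 y' (Y'_le_Y d hy')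
      have e1 : ⁅y', g⁆ = (g * y' * g⁻¹ * y'⁻¹)⁻¹ := by
        rw [commutatorElement_def]; group
      rw [e1]
      exact W.inv_mem h1
    exact hle he
  have hyY' : y ∈ Z ⊔ W := (Subgroup.mem_inf.mp hy).1
  have hyk : y ∈ centralizer ((zpowers k₀ : Subgroup G) : Set G) := (Subgroup.mem_inf.mp hy).2
  -- `y` centralizes `K`
  have hKy : K ≤ centralizer ({y} : Set G) := by
    rw [K_eq d.core hk hkP]
    apply sup_le
    · intro p hp
      rw [Subgroup.mem_centralizer_singleton_iff]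
      exact Q_centralizes d (P_le_Q' d hp) hyY'
    · intro g hg
      rw [Subgroup.mem_centralizer_singleton_iff]
      rw [Subgroup.mem_centralizer_iff] at hyk
      exact hyk g hg
  have hyK : y ∈ centralizer (K : Set G) := by
    rw [Subgroup.mem_centralizer_iff]
    intro k hk'
    have := hKy hk'
    rw [Subgroup.mem_centralizer_singleton_iff] at this
    exact this
  -- `y` centralizes `J`
  have hJy : J ≤ centralizer ({y} : Set G) := by
    intro j hj
    rw [Subgroup.mem_centralizer_singleton_iff]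
    have h1 : j * y * j⁻¹ * y⁻¹ ∈ W := (J_le_M d hj).2 y (Y'_le_Y d hyY')
    have h2 : j * y * j⁻¹ ∈ centralizer (K : Set G) := conj_mem_centralizer (d.core.hJK hj) hyK
    have h3 : j * y * j⁻¹ * y⁻¹ ∈ centralizer (K : Set G) :=
      Subgroup.mul_mem _ h2 (Subgroup.inv_mem _ hyK)
    have h4 : j * y * j⁻¹ * y⁻¹ = 1 := by
      by_contra hne
      apply d.core.k₀_moves hk hodd hkP _ h1 hne
      rw [Subgroup.mem_centralizer_iff] at h3
      have := h3 k₀ hk
      rw [this]; group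
    calc j * y = (j * y * j⁻¹ * y⁻¹) * (y * j) := by group
      _ = y * j := by rw [h4, one_mul]
  have hXy : K ⊔ J ≤ centralizer ({y} : Set G) := sup_le hKy hJy
  have hyX : y ∈ centralizer ((K ⊔ J : Subgroup G) : Set G) := by
    rw [Subgroup.mem_centralizer_iff]
    intro x hx
    have := hXy hx
    rw [Subgroup.mem_centralizer_singleton_iff] at this
    exact this
  have hyJ : y ∈ centralizer (J : Set G) := by
    rw [Subgroup.mem_centralizer_iff]
    intro j hj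
    have := hJy hj
    rw [Subgroup.mem_centralizer_singleton_iff] at this
    exact this
  -- `e` centralizes `J`, hence lies in `{1, c} ⊆ Z`
  have hee : e = z * y⁻¹ := by rw [hzey]; group
  have heJ : e ∈ centralizer (J : Set G) := by
    rw [hee]
    exact Subgroup.mul_mem _ (d.hZC hz) (Subgroup.inv_mem _ hyJ)
  have hcZ : c ∈ Z := by
    apply d.hZmem c (W_le_J d.core d.hc d.hc1 d.hcS d.hc)
    · have := d.hcS
      rw [Subgroup.mem_centralizer_iff] at this ⊢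
      intro j hj
      exact this j (le_sup_right (a := P) hj)
    · exact d.core.hW2 c d.hc
  have heZ : e ∈ Z := by
    rcases C1_eq d.core d.hc d.hc1 d.hcS e heW heJ with h1 | h1
    · rw [h1]; exact Z.one_mem
    · rw [h1]; exact hcZ
  have hyZ : y ∈ Z := by
    have : y = e⁻¹ * z := by rw [hzey]; group
    rw [this]
    exact Z.mul_mem (Z.inv_mem heZ) hz
  have hyXmem : y ∈ K ⊔ J := le_sup_right (a := K) (d.hZJ hyZ)
  exact ⟨e, Subgroup.mem_inf.mpr ⟨heZ, heW⟩, y,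
    Subgroup.mem_inf.mpr ⟨hyZ, Subgroup.mem_inf.mpr ⟨hyXmem, hyX⟩⟩, hzey⟩

theorem c_mem_Z : c ∈ Z := by
  apply d.hZmem c (W_le_J d.core d.hc d.hc1 d.hcS d.hc)
  · have := d.hcS
    rw [Subgroup.mem_centralizer_iff] at this ⊢
    intro j hj
    exact this j (le_sup_right (a := P) hj)
  · exact d.core.hW2 c d.hc

theorem main : Nat.card ↥(Z ⊓ W) = 2 ∧
    (Z ⊓ ((K ⊔ J) ⊓ centralizer ((K ⊔ J : Subgroup G) : Set G))) ⊔ (Z ⊓ W) = Z := by
  constructor
  · have hc2 := d.core.hW2 c d.hc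
    have : Z ⊓ W = zpowers c := by
      apply le_antisymm
      · intro x hx
        obtain ⟨hxZ, hxW⟩ := Subgroup.mem_inf.mp hx
        rcases C1_eq d.core d.hc d.hc1 d.hcS x hxW (d.hZC hxZ) with h1 | h1
        · rw [h1]; exact Subgroup.one_mem _
        · rw [h1]; exact Subgroup.mem_zpowers c
      · rw [Subgroup.zpowers_le]
        exact Subgroup.mem_inf.mpr ⟨c_mem_Z d, d.hc⟩
    rw [this]
    exact card_zpowers_invol hc2 d.hc1
  · apply le_antisymm
    · exact sup_le inf_le_left inf_le_left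
    · intro z hz
      obtain ⟨e, he, y, hy, rfl⟩ := exists_split d hz
      exact Subgroup.mul_mem _ (le_sup_right (a := Z ⊓ ((K ⊔ J) ⊓ centralizer _)) he)
        (le_sup_left (b := Z ⊓ W) hy)

end data

section wrap

variable {G : Type*} [Group G] [Finite G]

/-- The `J`-component lemma in abstract form. -/
theorem main_of_core {K J P V W Z : Subgroup G} (h : Core K J P V W)
    (hZJ : Z ≤ J) (hZC : Z ≤ centralizer (J : Set G)) (hZ2 : ∀ z ∈ Z, z * z = 1)
    (hZmem : ∀ x ∈ J, x ∈ centralizer (J : Set G) → x * x = 1 → x ∈ Z)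
    (hZN : normalizer (J : Set G) ≤ normalizer (Z : Set G)) :
    Nat.card ↥(Z ⊓ W) = 2 ∧
      (Z ⊓ ((K ⊔ J) ⊓ centralizer ((K ⊔ J : Subgroup G) : Set G))) ⊔ (Z ⊓ W) = Z := by
  obtain ⟨c, hc, hc1, hcS⟩ := exists_c h
  exact main (⟨h, hc, hc1, hcS, rfl, rfl, hZJ, hZC, hZ2, hZmem, hZN⟩ :
    Data K J P V W Z _ _ c)

end wrap

end Cfsg.Agent.Lib.Helper10_JCompE
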