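import Mathlib
import Cfsg.Prelude.Def_JComponents
import Cfsg.Agent.Lib.Helper10_JCompE
import Cfsg.Agent.Lib.Helper47_PClosed

set_option autoImplicit false
set_option linter.unusedSectionVars false
set_option linter.style.haveILetI false
set_option linter.unusedVariables false

namespace Cfsg.Agent.Lib.Helper10_JCompF

open Cfsg Subgroup
open Cfsg.Agent.S5306 (EA maxEA JJ)
open Cfsg.Agent.Lib.Helper10_JComp
open Cfsg.Agent.Lib.Helper10_JCompB
open scoped commutatorElement

section omega

variable {G : Type*} [Group G]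

theorem omegaCenterOf_le (X : Subgroup G) :
    omegaCenterOf X ≤ X ⊓ centralizer (X : Set G) := by
  unfold omegaCenterOf omegaOne
  rw [Subgroup.closure_le]
  rintro x ⟨hx, _⟩
  exact hx

theorem mem_omegaCenterOf {X : Subgroup G} {x : G} (hx : x ∈ X)
    (hxC : x ∈ centralizer (X : Set G)) (hx2 : x * x = 1) : x ∈ omegaCenterOf X := by
  unfold omegaCenterOf omegaOne
  apply Subgroup.subset_closure
  exact ⟨Subgroup.mem_inf.mpr ⟨hx, hxC⟩, by rw [pow_two]; exact hx2⟩

theorem omegaCenterOf_sq (X : Subgroup G) : ∀ z ∈ omegaCenterOf X, z * z = 1 := by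
  have key : ∀ z ∈ omegaCenterOf X, z ∈ X ⊓ centralizer (X : Set G) ∧ z * z = 1 := by
    intro z hz
    unfold omegaCenterOf omegaOne at hz
    induction hz using Subgroup.closure_induction with
    | mem x hx => exact ⟨hx.1, by rw [← pow_two]; exact hx.2⟩
    | one => exact ⟨Subgroup.one_mem _, by rw [one_mul]⟩
    | mul x y _ _ hx hy =>
      refine ⟨Subgroup.mul_mem _ hx.1 hy.1, ?_⟩
      have hxC := (Subgroup.mem_inf.mp hx.1).2
      rw [Subgroup.mem_centralizer_iff] at hxC
      have hc := hxC y (Subgroup.mem_inf.mp hy.1).1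
      calc x * y * (x * y) = x * (y * x) * y := by group
        _ = x * (x * y) * y := by rw [hc]
        _ = (x * x) * (y * y) := by group
        _ = 1 := by rw [hx.2, hy.2, one_mul]
    | inv x _ hx =>
      refine ⟨Subgroup.inv_mem _ hx.1, ?_⟩
      calc x⁻¹ * x⁻¹ = (x * x)⁻¹ := by group
        _ = 1 := by rw [hx.2, inv_one]
  exact fun z hz => (key z hz).2

theorem normalizer_le_normalizer_omegaCenterOf (X : Subgroup G) :
    normalizer (X : Set G) ≤ normalizer ((omegaCenterOf X : Subgroup G) : Set G) := by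
  apply le_normalizer_of_conj_mem
  intro g hg x hx
  have hle : omegaCenterOf X ≤ (omegaCenterOf X).comap (MulAut.conj g).toMonoidHom := by
    unfold omegaCenterOf omegaOne
    rw [Subgroup.closure_le]
    rintro y ⟨hy, hy2⟩
    rw [SetLike.mem_coe, Subgroup.mem_comap]
    apply Subgroup.subset_closure
    simp only [MulEquiv.coe_toMonoidHom, MulAut.conj_apply]
    refine ⟨Subgroup.mem_inf.mpr ⟨conj_mem_of_mem_normalizer hg (Subgroup.mem_inf.mp hy).1,
      conj_mem_centralizer hg (Subgroup.mem_inf.mp hy).2⟩, ?_⟩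
    rw [conj_pow, hy2]
    group
  have := hle hx
  rw [Subgroup.mem_comap] at this
  simpa only [MulEquiv.coe_toMonoidHom, MulAut.conj_apply] using this

end omega

section bridge

variable {G : Type*} [Group G] [Finite G]

theorem thompsonSubgroupOf_le (p : ℕ) (T : Subgroup G) : thompsonSubgroupOf p T ≤ T := by
  rw [Cfsg.Agent.S5306.thompson_eq_JJ]
  exact Cfsg.Agent.S5306.JJ_le p T

/-- The abstract data of a `J(T)`-component. -/
theorem core_of_isJComponent {T K : Subgroup G} (hT : IsPGroup 2 ↥T) (hK : IsJComponent T K) :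
    Core K (thompsonSubgroupOf 2 T) (pCoreOf 2 K) (omegaCenterOf (pCoreOf 2 K)) (wOf K) := by
  obtain ⟨h1, h2, h3, h4, h5, h6⟩ := hK
  have hJK : thompsonSubgroupOf 2 T ≤ normalizer (K : Set G) := by
    have := le_normalizer_commutator_right K (thompsonSubgroupOf 2 T)
    rwa [h2] at this
  have hKP := Cfsg.Agent.Lib.Helper47_SubAPI.le_normalizer_pCoreOf (p := 2) K
  have hJP := Cfsg.Agent.Lib.Helper47_PClosed.le_normalizer_pCoreOf_of_le_normalizer (p := 2) hJK
  have hV := omegaCenterOf_le (pCoreOf 2 K)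
  have hNV := normalizer_le_normalizer_omegaCenterOf (pCoreOf 2 K)
  refine ⟨h1, h2, hT.to_le (thompsonSubgroupOf_le 2 T),
    Cfsg.Agent.Lib.Helper47_SubAPI.pCoreOf_le K, hKP, hJP,
    Cfsg.Agent.Lib.Helper47_SubAPI.isPGroup_pCoreOf K, h3, hV.trans inf_le_right,
    hV.trans inf_le_left, hKP.trans hNV, hJP.trans hNV, rfl, h5, h6, ?_⟩
  intro S hSX hS2 hodd hJS
  have := h4 S ⟨hSX, hS2, hodd⟩ hJS
  rw [← this, Cfsg.Agent.S5306.thompson_eq_JJ]

/-- **`J(T)`-components: `Z₀ = Ω₁Z(J(T))` splits as `C_{Z₀}(⟨K, J(T)⟩) × (Z₀ ∩ W_K)`.** -/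
theorem jComponent_split {T K : Subgroup G} (hT : IsPGroup 2 ↥T) (hK : IsJComponent T K) :
    Nat.card ↥(omegaCenterOf (thompsonSubgroupOf 2 T) ⊓ wOf K) = 2 ∧
      (omegaCenterOf (thompsonSubgroupOf 2 T) ⊓ ((K ⊔ thompsonSubgroupOf 2 T) ⊓
        centralizer ((K ⊔ thompsonSubgroupOf 2 T : Subgroup G) : Set G))) ⊔
        (omegaCenterOf (thompsonSubgroupOf 2 T) ⊓ wOf K) =
      omegaCenterOf (thompsonSubgroupOf 2 T) := by
  have hZ := omegaCenterOf_le (thompsonSubgroupOf 2 T)
  exact Cfsg.Agent.Lib.Helper10_JCompE.main_of_core (core_of_isJComponent hT hK)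
    (hZ.trans inf_le_left) (hZ.trans inf_le_right) (omegaCenterOf_sq _)
    (fun x hx hxC hx2 => mem_omegaCenterOf hx hxC hx2)
    (normalizer_le_normalizer_omegaCenterOf _)

end bridge

section union

variable {G : Type*} [Group G]

/-- The centralizer of the set-theoretic union of two subgroups is the centralizer of their
join. -/
theorem centralizer_union_eq (K J : Subgroup G) :
    centralizer ((K : Set G) ⊔ (J : Set G)) = centralizer ((K ⊔ J : Subgroup G) : Set G) := by
  apply le_antisymm
  · intro g hg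
    rw [Subgroup.mem_centralizer_iff] at hg
    have hK : K ≤ centralizer ({g} : Set G) := by
      intro k hk
      rw [Subgroup.mem_centralizer_singleton_iff]
      exact hg k (Or.inl hk)
    have hJ : J ≤ centralizer ({g} : Set G) := by
      intro j hj
      rw [Subgroup.mem_centralizer_singleton_iff]
      exact hg j (Or.inr hj)
    rw [Subgroup.mem_centralizer_iff]
    intro x hx
    have := sup_le hK hJ hx
    rw [Subgroup.mem_centralizer_singleton_iff] at this
    exact this
  · apply Subgroup.centralizer_le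
    intro x hx
    rcases hx with hx | hx
    · exact le_sup_left (b := J) hx
    · exact le_sup_right (a := K) hx

end union

end Cfsg.Agent.Lib.Helper10_JCompF
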