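import Cfsg.Agent.Lib.Helper10_JASolv
import Mathlib

set_option autoImplicit false
set_option linter.unusedSectionVars false
set_option linter.unusedVariables false
set_option linter.style.haveILetI false

/-!
# Failure of factorization in a solvable group: the normal `3`-subgroup of `X / C_X(V)` (helper10)
-/

universe u

namespace Cfsg.Agent.Lib.Helper10_JCompFF

open Cfsg
open scoped commutatorElement Pointwise

section quot

variable {X : Type u} [Group X] [Finite X]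

/-- A normal subgroup `D` acting as a `2`-group modulo the normal subgroup `C`:
`D C = (T ∩ D C) C` for a Sylow `2`-subgroup `T`. -/
theorem exists_mul_of_pow_mem (T : Sylow 2 X) (C D : Subgroup X) [hCn : C.Normal] [hDn : D.Normal]
    (hD : ∀ d ∈ D, ∃ k : ℕ, d ^ 2 ^ k ∈ C) :
    ∀ d ∈ D ⊔ C, ∃ s ∈ (T : Subgroup X) ⊓ (D ⊔ C), ∃ c ∈ C, d = s * c := by
  haveI : Fact (Nat.Prime 2) := ⟨Nat.prime_two⟩
  set Q := D ⊔ C with hQ
  have hQn : Q.Normal := inferInstance
  have hCQ : C ≤ Q := le_sup_right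
  have hQ2 : ∀ q ∈ Q, ∃ k : ℕ, q ^ 2 ^ k ∈ C := by
    intro q hq
    have hq' : q ∈ (D : Set X) * (C : Set X) := by
      rw [← Subgroup.mul_normal]; exact hq
    obtain ⟨d, hd, c, hc, rfl⟩ := Set.mem_mul.mp hq'
    obtain ⟨k, hk⟩ := hD d hd
    refine ⟨k, ?_⟩
    have h1 : (QuotientGroup.mk' C) ((d * c) ^ 2 ^ k) = 1 := by
      rw [map_pow, map_mul, QuotientGroup.mk'_apply, QuotientGroup.mk'_apply,
        (QuotientGroup.eq_one_iff c).mpr hc, mul_one, ← QuotientGroup.mk_pow,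
        QuotientGroup.eq_one_iff]
      exact hk
    exact (QuotientGroup.eq_one_iff _).mp h1
  have hpg : IsPGroup 2 (↥Q ⧸ C.subgroupOf Q) := by
    intro x
    induction x using QuotientGroup.induction_on with
    | H q =>
      obtain ⟨k, hk⟩ := hQ2 q q.2
      refine ⟨k, ?_⟩
      rw [← QuotientGroup.mk_pow, QuotientGroup.eq_one_iff]
      exact Subgroup.mem_subgroupOf.mpr (by simpa using hk)
  obtain ⟨a, ha⟩ := IsPGroup.iff_card.mp hpg
  have hrelC : C.relIndex Q = 2 ^ a := by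
    rw [Subgroup.relIndex, Subgroup.index_eq_card]; exact ha
  set P := (T : Subgroup X) ⊓ Q with hP
  have hPodd : ¬ 2 ∣ P.relIndex Q := Cfsg.Agent.S0608.not_dvd_relIndex_inf_normal T Q
  set M := P ⊔ C with hM
  have h1 : M.relIndex Q ∣ P.relIndex Q := Subgroup.relIndex_dvd_of_le_left Q le_sup_left
  have h2 : M.relIndex Q ∣ C.relIndex Q := Subgroup.relIndex_dvd_of_le_left Q le_sup_right
  have h3 : M.relIndex Q = 1 := by
    rw [hrelC] at h2
    obtain ⟨b, -, hb⟩ := (Nat.dvd_prime_pow Nat.prime_two).mp h2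
    rcases Nat.eq_zero_or_pos b with h0 | hpos
    · rw [hb, h0, pow_zero]
    · exfalso
      apply hPodd
      refine dvd_trans ?_ h1
      rw [hb]
      exact dvd_pow_self 2 hpos.ne'
  have hQM : Q ≤ M := Subgroup.relIndex_eq_one.mp h3
  intro d hd
  have hdM : d ∈ (P : Set X) * (C : Set X) := by
    rw [← Subgroup.mul_normal]; exact hQM hd
  obtain ⟨s, hs, c, hc, rfl⟩ := Set.mem_mul.mp hdM
  exact ⟨s, hs, c, hc, rfl⟩

/-- `O_2(X / C) = 1` when `O_2(X) ≤ C`, the `2`-elements of `X` centralize `C / O_2(X)` and the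
`2`-elements of `C` lie in `O_2(X)`. -/
theorem pCore_quot_eq_bot (C : Subgroup X) [hCn : C.Normal]
    (hQC : pCore 2 X ≤ C)
    (h1 : ∀ c ∈ C, ∀ t : X, (∃ k : ℕ, t ^ 2 ^ k = 1) → c * t * c⁻¹ * t⁻¹ ∈ pCore 2 X)
    (h2 : ∀ c ∈ C, (∃ k : ℕ, c ^ 2 ^ k = 1) → c ∈ pCore 2 X) :
    pCore 2 (X ⧸ C) = ⊥ := by
  haveI : Fact (Nat.Prime 2) := ⟨Nat.prime_two⟩
  obtain ⟨T⟩ : Nonempty (Sylow 2 X) := inferInstance
  have hQT : pCore 2 X ≤ (T : Subgroup X) := Cfsg.Agent.Lib.Helper1_Cores.pCore_le_sylow 2 T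
  have hQ2 : IsPGroup 2 (pCore 2 X) := Cfsg.Agent.Lib.Helper1_Cores.pCore_isPGroup 2
  set D := (pCore 2 (X ⧸ C)).comap (QuotientGroup.mk' C) with hD
  have hPn : (pCore 2 (X ⧸ C)).Normal := Cfsg.Agent.Lib.Helper1_Cores.pCore_normal 2
  have hDn : D.Normal := hPn.comap _
  have hDpow : ∀ d ∈ D, ∃ k : ℕ, d ^ 2 ^ k ∈ C := by
    intro d hd
    obtain ⟨k, hk⟩ := (Cfsg.Agent.Lib.Helper1_Cores.pCore_isPGroup (G := X ⧸ C) 2)
      ⟨QuotientGroup.mk' C d, hd⟩
    refine ⟨k, ?_⟩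
    have h1 : (QuotientGroup.mk' C d) ^ 2 ^ k = 1 := by
      simpa using congrArg Subtype.val hk
    rw [← map_pow, QuotientGroup.mk'_apply, QuotientGroup.eq_one_iff] at h1
    exact h1
  have hdec := exists_mul_of_pow_mem T C D hDpow
  -- every `2`-element of `D C` lies in `T ∩ D C`
  have hDCn : (D ⊔ C).Normal := inferInstance
  have key : ∀ σ ∈ D ⊔ C, (∃ k : ℕ, σ ^ 2 ^ k = 1) → σ ∈ (T : Subgroup X) ⊓ (D ⊔ C) := by
    intro σ hσ ⟨k, hk⟩
    obtain ⟨s, hs, c, hc, rfl⟩ := hdec σ hσ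
    obtain ⟨m, hm⟩ := T.isPGroup' ⟨s, hs.1⟩
    have hsm : s ^ 2 ^ m = 1 := by simpa using congrArg Subtype.val hm
    -- in `X / O_2(X)` the images of `s` and `c` commute
    set π := QuotientGroup.mk' (pCore 2 X) with hπ
    have hcomm : Commute (π s) (π c) := by
      have := h1 c hc s ⟨m, hsm⟩
      have h3 : π (c * s * c⁻¹ * s⁻¹) = 1 := by
        rw [hπ, QuotientGroup.mk'_apply, QuotientGroup.eq_one_iff]; exact this
      rw [map_mul, map_mul, map_mul, map_inv, map_inv] at h3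
      have h4 : π c * π s = π s * π c := by
        calc π c * π s = (π c * π s * (π c)⁻¹ * (π s)⁻¹) * (π s * π c) := by group
          _ = π s * π c := by rw [h3, one_mul]
      exact h4.symm
    -- `(π c) ^ 2 ^ (k + m) = 1`
    have h5 : (π c) ^ 2 ^ (k + m) = 1 := by
      have h6 : (π (s * c)) ^ 2 ^ (k + m) = 1 := by
        rw [← map_pow, pow_add, pow_mul, hk, one_pow, map_one]
      rw [map_mul, hcomm.mul_pow] at h6
      have h7 : (π s) ^ 2 ^ (k + m) = 1 := by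
        rw [← map_pow, pow_add, mul_comm, pow_mul, hsm, one_pow, map_one]
      rw [h7, one_mul] at h6
      exact h6
    have h8 : c ^ 2 ^ (k + m) ∈ pCore 2 X := by
      rw [← map_pow, hπ, QuotientGroup.mk'_apply, QuotientGroup.eq_one_iff] at h5
      exact h5
    obtain ⟨n, hn⟩ := hQ2 ⟨c ^ 2 ^ (k + m), h8⟩
    have h9 : c ^ 2 ^ (k + m + n) = 1 := by
      have := congrArg Subtype.val hn
      simp only [Subgroup.coe_pow, Subgroup.coe_one] at this
      rw [pow_add, pow_mul]; exact this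
    have hcQ : c ∈ pCore 2 X := h2 c hc ⟨_, h9⟩
    exact Subgroup.mul_mem _ hs (Subgroup.mem_inf.mpr ⟨hQT hcQ, le_sup_right (a := D) hc⟩)
  -- hence `T ∩ D C` is normal
  have hTDn : ((T : Subgroup X) ⊓ (D ⊔ C)).Normal := by
    constructor
    intro t ht x
    apply key
    · exact hDCn.conj_mem t ht.2 x
    · obtain ⟨m, hm⟩ := T.isPGroup' ⟨t, ht.1⟩
      have htm : t ^ 2 ^ m = 1 := by simpa using congrArg Subtype.val hm
      exact ⟨m, by rw [conj_pow, htm]; group⟩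
  have hTD2 : IsPGroup 2 ↥((T : Subgroup X) ⊓ (D ⊔ C)) := T.isPGroup'.to_le inf_le_left
  have hTDQ : (T : Subgroup X) ⊓ (D ⊔ C) ≤ pCore 2 X :=
    Cfsg.Agent.Lib.Helper1_Cores.le_pCore hTDn hTD2
  have hDC : D ≤ C := by
    intro d hd
    obtain ⟨s, hs, c, hc, rfl⟩ := hdec d (le_sup_left (b := C) hd)
    exact C.mul_mem (hQC (hTDQ hs)) hc
  rw [eq_bot_iff]
  intro q hq
  obtain ⟨x, rfl⟩ := QuotientGroup.mk'_surjective C q
  have hx : x ∈ D := hq
  rw [Subgroup.mem_bot, QuotientGroup.mk'_apply, QuotientGroup.eq_one_iff]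
  exact hDC hx

end quot

section main

open Cfsg.Agent.Lib.Helper10_FFTransport Cfsg.Agent.Lib.Helper10_OffTv
  Cfsg.Agent.Lib.Helper62_Structure

theorem perm3_even : ∀ σ τ : Equiv.Perm (Fin 3), Equiv.Perm.sign σ = 1 → Equiv.Perm.sign τ = 1 →
    σ * τ = τ * σ ∧ σ ^ 3 = 1 := by decide

/-- the coordinatewise sign on a product of copies of `S₃` -/
def signPi (n : ℕ) : (Fin n → Equiv.Perm (Fin 3)) →* (Fin n → ℤˣ) :=
  MonoidHom.pi fun i => Equiv.Perm.sign.comp (Pi.evalMonoidHom (fun _ => Equiv.Perm (Fin 3)) i)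

theorem signPi_apply (n : ℕ) (f : Fin n → Equiv.Perm (Fin 3)) (i : Fin n) :
    signPi n f i = Equiv.Perm.sign (f i) := rfl

theorem signPi_sq (n : ℕ) (f : Fin n → Equiv.Perm (Fin 3)) : signPi n f * signPi n f = 1 := by
  funext i
  simp only [Pi.mul_apply, Pi.one_apply]
  exact Int.units_mul_self _

theorem eq_one_of_pow_odd {M : Type*} [Monoid M] {x : M} (h2 : x * x = 1) {m : ℕ} (hm : Odd m)
    (hxm : x ^ m = 1) : x = 1 := by
  obtain ⟨j, rfl⟩ := hm
  rw [pow_succ, pow_mul, pow_two, h2, one_pow, one_mul] at hxm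
  exact hxm

variable {X : Type u} [Group X] [Finite X] [Group.IsSolvable X]

/-- **Failure of factorization in solvable groups.** If `V` is an elementary abelian normal
`2`-subgroup with `O_2(X / C_X(V)) = 1` and `𝒜` is a family of abelian `2`-subgroups that are
offenders on `V`, then there is a normal subgroup `F₁ ≥ C_X(V)` with `F₁ / C_X(V)` abelian of
exponent `3` containing every subgroup `K'` generated by elements of odd order with
`K' = [K', ⟨𝒜⟩]`. -/
theorem exists_three_layer (V : Subgroup X) [hVn : V.Normal] (hV : IsElementaryAbelian 2 V)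
    (hO : pCore 2 (X ⧸ Subgroup.centralizer (V : Set X)) = ⊥)
    (𝒜 : Set (Subgroup X))
    (h𝒜c : ∀ A ∈ 𝒜, ∀ x ∈ A, ∀ y ∈ A, x * y = y * x)
    (h𝒜2 : ∀ A ∈ 𝒜, IsPGroup 2 A)
    (h𝒜off : ∀ A ∈ 𝒜, Nat.card V * Nat.card ↥(A ⊓ Subgroup.centralizer (V : Set X)) ≤
        Nat.card A * Nat.card ↥(V ⊓ Subgroup.centralizer (A : Set X))) :
    ∃ F₁ : Subgroup X, F₁.Normal ∧ Subgroup.centralizer (V : Set X) ≤ F₁ ∧
      (∀ x ∈ F₁, ∀ y ∈ F₁, ⁅x, y⁆ ∈ Subgroup.centralizer (V : Set X)) ∧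
      (∀ x ∈ F₁, x ^ 3 ∈ Subgroup.centralizer (V : Set X)) ∧
      ∀ K' : Subgroup X, Subgroup.closure {g : X | g ∈ K' ∧ Odd (orderOf g)} = K' →
        ⁅K', sSup 𝒜⁆ = K' → K' ≤ F₁ := by
  classical
  haveI : Fact (Nat.Prime 2) := ⟨Nat.prime_two⟩
  let t : FFT V (Equiv.Perm V) := permFFT V
  have hker : t.ι.ker = Subgroup.centralizer (V : Set X) := t.ker_ι
  set Γ : Subgroup (Equiv.Perm V) := (⊤ : Subgroup X).map t.ι with hΓ
  set S : Subgroup (Equiv.Perm V) :=
    ⨆ A : {A : Subgroup (Equiv.Perm V) // A ≤ Γ ∧ Cfsg.IsBestOffenderOn 2 t.j.range A},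
      (A : Subgroup (Equiv.Perm V)) with hS
  have hΓV : Γ ≤ Subgroup.normalizer ((t.j.range : Subgroup _) : Set _) := t.le_normalizer ⊤
  have hΓf : Γ ⊓ Subgroup.centralizer ((t.j.range : Subgroup _) : Set _) = ⊥ := t.faithful ⊤
  have hSΓ : S ≤ Γ := iSup_le fun A => A.2.1
  have hΓS : Γ ≤ Subgroup.normalizer (S : Set _) := le_normalizer_iSup_best hΓV
  have hιΓ : ∀ x : X, t.ι x ∈ Γ := fun x => ⟨x, Subgroup.mem_top x, rfl⟩
  have comap_normal : ∀ K : Subgroup (Equiv.Perm V),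
      Γ ≤ Subgroup.normalizer (K : Set _) → (K.comap t.ι).Normal := by
    intro K hK
    constructor
    intro n hn x
    show t.ι (x * n * x⁻¹) ∈ K
    rw [map_mul, map_mul, map_inv]
    exact (Subgroup.mem_normalizer_iff.mp (hK (hιΓ x)) _).mp hn
  set N := S.comap t.ι with hN
  have hNn : N.Normal := comap_normal S hΓS
  have hHS : N.map t.ι = S := by
    apply Subgroup.map_comap_eq_self
    rw [MonoidHom.range_eq_map]
    exact hSΓ
  have hsep : Cfsg.IsPSolvable 2 X := Cfsg.Agent.Lib.Lead_PSolvable.isPSolvable_of_isSolvable 2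
  have sett : Setting 2 t.j.range (N.map t.ι) Γ :=
    { amb := ⟨t.elemAb hV, t.le_normalizer N, t.faithful N, t.hS1 hsep hO N⟩
      hΓV := hΓV
      hΓf := hΓf
      hH := hHS }
  set Y₀ := Subgroup.closure {a | a ∈ Γ ∧ IsTv 2 t.j.range (N.map t.ι) a} with hY₀
  have hΓY₀ : Γ ≤ Subgroup.normalizer (Y₀ : Set _) :=
    sett.le_normalizer_closure_tv (Y := Γ) Subgroup.le_normalizer
  have hY₀Γ : Y₀ ≤ Γ := (Subgroup.closure_le _).mpr fun a ha => ha.1
  have hgen : Y₀ ≤ Subgroup.closure {a | a ∈ Y₀ ∧ IsTv 2 t.j.range (N.map t.ι) a} := by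
    apply Subgroup.closure_mono
    intro a ha
    exact ⟨Subgroup.subset_closure ha, ha.2⟩
  -- the images of the members of `𝒜` lie in `Y₀`
  have h𝒜Y : ∀ A ∈ 𝒜, A.map t.ι ≤ Y₀ := by
    intro A hA
    have hBΓ : A.map t.ι ≤ Γ := Subgroup.map_mono le_top
    have hBc : ∀ x ∈ A.map t.ι, ∀ y ∈ A.map t.ι, x * y = y * x := by
      rintro _ ⟨a, ha, rfl⟩ _ ⟨b, hb, rfl⟩
      rw [← map_mul, ← map_mul, h𝒜c A hA a ha b hb]
    have hBp : IsPGroup 2 ↥(A.map t.ι) := (h𝒜2 A hA).map t.ι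
    have hoff : Nat.card ↥t.j.range ≤ Nat.card ↥(A.map t.ι) *
        Nat.card ↥(t.j.range ⊓ Subgroup.centralizer ((A.map t.ι : Subgroup _) : Set _)) := by
      have e1 := t.card_map A
      have e2 := t.card_fix A
      have e3 := t.card_range
      rw [e3, e2]
      have hpos : 0 < Nat.card ↥(A ⊓ Subgroup.centralizer (V : Set X)) := Nat.card_pos
      refine Nat.le_of_mul_le_mul_right ?_ hpos
      calc Nat.card V * Nat.card ↥(A ⊓ Subgroup.centralizer (V : Set X))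
          ≤ Nat.card A * Nat.card ↥(V ⊓ Subgroup.centralizer (A : Set X)) := h𝒜off A hA
        _ = Nat.card ↥(A.map t.ι) * Nat.card ↥(V ⊓ Subgroup.centralizer (A : Set X)) *
            Nat.card ↥(A ⊓ Subgroup.centralizer (V : Set X)) := by rw [← e1]; ring
    have hgenB := sett.gen_by_tv hBΓ hBc hBp hoff
    refine hgenB.trans (Subgroup.closure_mono ?_)
    intro a ha
    exact ⟨hBΓ ha.1, ha.2⟩
  have hJY : (sSup 𝒜).map t.ι ≤ Y₀ := by
    rw [Subgroup.map_le_iff_le_comap]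
    apply sSup_le
    intro A hA
    rw [← Subgroup.map_le_iff_le_comap]
    exact h𝒜Y A hA
  -- `K'` maps into `Y₀`
  have hK'Y : ∀ K' : Subgroup X, ⁅K', sSup 𝒜⁆ = K' → K'.map t.ι ≤ Y₀ := by
    intro K' hK'
    rw [← hK', Subgroup.map_commutator, Subgroup.commutator_le]
    rintro _ ⟨k, hk, rfl⟩ b hb
    have hbY := hJY hb
    have hkΓ : t.ι k ∈ Γ := hιΓ k
    have h1 : t.ι k * b * (t.ι k)⁻¹ ∈ Y₀ :=
      (Subgroup.mem_normalizer_iff.mp (hΓY₀ hkΓ) b).mp hbY
    rw [commutatorElement_def]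
    exact Y₀.mul_mem h1 (Y₀.inv_mem hbY)
  by_cases hY1 : Y₀ = ⊥
  · -- trivial case
    have hCn : (Subgroup.centralizer (V : Set X)).Normal := by
      rw [← hker]; exact MonoidHom.normal_ker _
    refine ⟨Subgroup.centralizer (V : Set X), hCn, le_rfl,
      fun x hx y hy => Subgroup.commutator_mem_commutator hx hy |> fun h => ?_,
      fun x hx => Subgroup.pow_mem _ hx 3, ?_⟩
    · have : ⁅x, y⁆ = x * y * x⁻¹ * y⁻¹ := commutatorElement_def x y
      rw [this]
      exact Subgroup.mul_mem _ (Subgroup.mul_mem _ (Subgroup.mul_mem _ hx hy)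
        (Subgroup.inv_mem _ hx)) (Subgroup.inv_mem _ hy)
    · intro K' _ hK'
      have := hK'Y K' hK'
      rw [hY1, le_bot_iff, Subgroup.map_eq_bot_iff, hker] at this
      exact this
  · obtain ⟨n, hn, ⟨e⟩⟩ := sett.product hY₀Γ hΓY₀ hgen hY1
    -- the sign homomorphism on `Y₀`
    let sg : ↥Y₀ →* (Fin n → ℤˣ) := (signPi n).comp e.toMonoidHom
    set N₃ := Subgroup.closure {y : Equiv.Perm V | y ∈ Y₀ ∧ Odd (orderOf y)} with hN₃
    have hN₃Y : N₃ ≤ Y₀ := (Subgroup.closure_le _).mpr fun y hy => hy.1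
    have hN₃E : N₃ ≤ sg.ker.map Y₀.subtype := by
      rw [hN₃, Subgroup.closure_le]
      rintro y ⟨hyY, hyodd⟩
      refine ⟨⟨y, hyY⟩, ?_, rfl⟩
      rw [SetLike.mem_coe, MonoidHom.mem_ker]
      have h0 : (⟨y, hyY⟩ : ↥Y₀) ^ orderOf y = 1 := by
        apply Subtype.ext
        rw [Subgroup.coe_pow, Subgroup.coe_one]
        exact pow_orderOf_eq_one y
      have h1 : sg (⟨y, hyY⟩ ^ orderOf y) = 1 := by rw [h0, map_one]
      rw [map_pow] at h1
      have h2 : sg ⟨y, hyY⟩ * sg ⟨y, hyY⟩ = 1 := signPi_sq n _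
      exact eq_one_of_pow_odd h2 hyodd h1
    have heven : ∀ y : ↥Y₀, y ∈ sg.ker → ∀ i, Equiv.Perm.sign (e y i) = 1 := by
      intro y hy i
      rw [MonoidHom.mem_ker] at hy
      have := congrFun hy i
      exact this
    have hcomm : ∀ x ∈ N₃, ∀ y ∈ N₃, x * y = y * x := by
      intro x hx y hy
      obtain ⟨x', hx', rfl⟩ := hN₃E hx
      obtain ⟨y', hy', rfl⟩ := hN₃E hy
      have : x' * y' = y' * x' := by
        apply e.injective
        rw [map_mul, map_mul]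
        funext i
        exact (perm3_even _ _ (heven x' hx' i) (heven y' hy' i)).1
      have h2 := congrArg Y₀.subtype this
      rwa [map_mul, map_mul] at h2
    have hcube : ∀ x ∈ N₃, x ^ 3 = 1 := by
      intro x hx
      obtain ⟨x', hx', rfl⟩ := hN₃E hx
      have : x' ^ 3 = 1 := by
        apply e.injective
        rw [map_pow, map_one]
        funext i
        exact (perm3_even _ _ (heven x' hx' i) (heven x' hx' i)).2
      have h2 := congrArg Y₀.subtype this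
      rwa [map_pow, map_one] at h2
    have hΓN₃ : Γ ≤ Subgroup.normalizer (N₃ : Set _) := by
      apply le_normalizer_of_map_le
      intro g hg
      rw [hN₃, MonoidHom.map_closure, Subgroup.closure_le]
      rintro _ ⟨y, ⟨hyY, hyodd⟩, rfl⟩
      apply Subgroup.subset_closure
      refine ⟨(Subgroup.mem_normalizer_iff.mp (hΓY₀ hg) y).mp hyY, ?_⟩
      have : orderOf (cj g y) = orderOf y := MulEquiv.orderOf_eq (MulAut.conj g) y
      rw [this]; exact hyodd
    refine ⟨N₃.comap t.ι, comap_normal N₃ hΓN₃, ?_, ?_, ?_, ?_⟩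
    · intro x hx
      rw [← hker, MonoidHom.mem_ker] at hx
      rw [Subgroup.mem_comap, hx]
      exact N₃.one_mem
    · intro x hx y hy
      rw [← hker, MonoidHom.mem_ker, map_commutatorElement, commutatorElement_def,
        hcomm _ hx _ hy]
      group
    · intro x hx
      rw [← hker, MonoidHom.mem_ker, map_pow]
      exact hcube _ hx
    · intro K' hodd hK'
      have hKY := hK'Y K' hK'
      rw [← hodd, Subgroup.closure_le]
      rintro g ⟨hgK, hgodd⟩
      rw [SetLike.mem_coe, Subgroup.mem_comap]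
      apply Subgroup.subset_closure
      refine ⟨hKY ⟨g, hgK, rfl⟩, ?_⟩
      exact Odd.of_dvd_nat hgodd (orderOf_map_dvd t.ι g)

end main

end Cfsg.Agent.Lib.Helper10_JCompFF
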