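import Mathlib
import Cfsg.Agent.Lib.Helper10_JCompF
import Cfsg.Agent.Lib.Helper10_JCompFF
import Cfsg.Agent.Lib.Lead_Subnormal

set_option autoImplicit false
set_option linter.unusedSectionVars false
set_option linter.style.haveILetI false
set_option linter.unusedVariables false

/-!
# `J(T)`-components of members of `ℒ(T)` are subnormal (helper10)
-/

namespace Cfsg.Agent.Lib.Helper10_JCompSub

open Cfsg Subgroup
open Cfsg.Agent.S5306 (EA maxEA JJ)
open Cfsg.Agent.Lib.Helper10_JComp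
open Cfsg.Agent.Lib.Helper10_JCompB
open Cfsg.Agent.Lib.Helper10_JCompD (actKer mem_actKer)
open Cfsg.Agent.Lib.Helper10_JCompF
open scoped commutatorElement

section general

variable {G : Type*} [Group G]

theorem mem_of_pow_mem_of_coprime {H : Subgroup G} {g : G} {a b : ℕ} (hab : a.Coprime b)
    (ha : g ^ a ∈ H) (hb : g ^ b ∈ H) : g ∈ H := by
  obtain ⟨u, v, huv⟩ := (Nat.isCoprime_iff_coprime.mpr hab)
  have : g = (g ^ a) ^ u * (g ^ b) ^ v := by
    rw [← zpow_natCast g a, ← zpow_natCast g b, ← zpow_mul, ← zpow_mul, ← zpow_add,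
      mul_comm (a : ℤ) u, mul_comm (b : ℤ) v, huv, zpow_one]
  rw [this]
  exact H.mul_mem (H.zpow_mem ha u) (H.zpow_mem hb v)

theorem normalizer_inf_le (A B : Subgroup G) :
    normalizer (A : Set G) ⊓ normalizer (B : Set G) ≤ normalizer ((A ⊓ B : Subgroup G) : Set G) := by
  intro g hg
  rw [Subgroup.mem_inf, Subgroup.mem_normalizer_iff, Subgroup.mem_normalizer_iff] at hg
  rw [Subgroup.mem_normalizer_iff]
  intro x
  rw [Subgroup.mem_inf, Subgroup.mem_inf, hg.1 x, hg.2 x]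

theorem mem_centralizer_subgroupOf_iff {L V : Subgroup G} (hVL : V ≤ L) (x : L) :
    x ∈ centralizer ((V.subgroupOf L : Subgroup L) : Set L) ↔
      (x : G) ∈ centralizer (V : Set G) := by
  rw [Subgroup.mem_centralizer_iff, Subgroup.mem_centralizer_iff]
  constructor
  · intro h v hv
    have := h ⟨v, hVL hv⟩ (Subgroup.mem_subgroupOf.mpr hv)
    exact congrArg Subtype.val this
  · intro h v hv
    apply Subtype.ext
    exact h v (Subgroup.mem_subgroupOf.mp hv)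

theorem mem_pCore_iff (L : Subgroup G) (x : L) :
    x ∈ pCore 2 L ↔ (x : G) ∈ pCoreOf 2 L := by
  unfold pCoreOf
  constructor
  · intro h
    exact ⟨x, h, rfl⟩
  · rintro ⟨y, hy, hyx⟩
    have : y = x := Subtype.ext hyx
    rw [← this]; exact hy

theorem normalizer_le_normalizer_wOf (K : Subgroup G) :
    normalizer (K : Set G) ≤ normalizer ((wOf K : Subgroup G) : Set G) := by
  intro g hg
  have h1 : g ∈ normalizer ((pCoreOf 2 K : Subgroup G) : Set G) :=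
    Cfsg.Agent.Lib.Helper47_PClosed.le_normalizer_pCoreOf_of_le_normalizer (p := 2)
      (M := normalizer (K : Set G)) (N := K) le_rfl hg
  have h2 := normalizer_le_normalizer_omegaCenterOf (pCoreOf 2 K) h1
  exact Cfsg.Agent.Lib.Helper24_CoprimeAction.mem_normalizer_commutator _ K h2 hg

end general

section B1

variable {G : Type*} [Group G] [Finite G]

/-- A `2`-group `Q` normalizing the `J`-component `K` and normalized by it centralizes `W_K`;
if moreover `C_G(Q) ≤ Q` then `W_K ≤ Ω₁Z(Q)`. -/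
theorem W_le_omegaCenterOf {K J P Vk W : Subgroup G} (h : Core K J P Vk W) {Q : Subgroup G}
    (hQ2 : IsPGroup 2 Q) (hQW : Q ≤ normalizer (W : Set G)) (hKQ : K ≤ normalizer (Q : Set G))
    (hCQ : centralizer (Q : Set G) ≤ Q) : W ≤ omegaCenterOf Q := by
  haveI : Fact (Nat.Prime 2) := ⟨Nat.prime_two⟩
  have hW2g : IsPGroup 2 W := IsPGroup.of_card (n := 2) (by rw [h.hW4]; norm_num)
  have hQW2 : IsPGroup 2 ↥(Q ⊔ W) := IsPGroup.to_sup_of_normal_right' hQ2 hW2g hQW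
  have hnil : Group.IsNilpotent ↥(Q ⊔ W) := hQW2.isNilpotent
  have hQWN : Q ⊔ W ≤ normalizer (W : Set G) := sup_le hQW Subgroup.le_normalizer
  have hn : (W.subgroupOf (Q ⊔ W)).Normal := Subgroup.normal_subgroupOf_of_le_normalizer hQWN
  have hW1 : W.subgroupOf (Q ⊔ W) ≠ ⊥ := by
    intro hbot
    rw [Subgroup.subgroupOf_eq_bot, disjoint_iff, inf_eq_left.mpr (le_sup_right : W ≤ Q ⊔ W)] at hbot
    have := h.hW4
    rw [hbot, Subgroup.card_bot] at this
    omega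
  obtain ⟨z, hzW, hzc, hz1⟩ :=
    Cfsg.Agent.Lib.Helper22_FitLocal.exists_mem_center_of_normal_nilpotent
      (W.subgroupOf (Q ⊔ W)) hW1
  have hzW' : (z : G) ∈ W := Subgroup.mem_subgroupOf.mp hzW
  have hz1' : (z : G) ≠ 1 := fun h1 => hz1 (Subtype.ext h1)
  have hzQ : (z : G) ∈ centralizer (Q : Set G) := by
    rw [Subgroup.mem_centralizer_iff]
    intro q hq
    rw [Subgroup.mem_center_iff] at hzc
    have := hzc ⟨q, le_sup_left (b := W) hq⟩
    exact congrArg Subtype.val this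
  obtain ⟨k₀, hk, hodd, hkP⟩ := h.exists_k₀
  have hu : k₀ * (z : G) * k₀⁻¹ ∈ W := conj_mem_of_mem_normalizer (h.hKW hk) hzW'
  have huQ : k₀ * (z : G) * k₀⁻¹ ∈ centralizer (Q : Set G) := conj_mem_centralizer (hKQ hk) hzQ
  have hu1 : k₀ * (z : G) * k₀⁻¹ ≠ 1 := by
    intro h1
    apply hz1'
    calc (z : G) = k₀⁻¹ * (k₀ * (z : G) * k₀⁻¹) * k₀ := by group
      _ = 1 := by rw [h1]; group
  have huz : k₀ * (z : G) * k₀⁻¹ ≠ (z : G) := h.k₀_moves hk hodd hkP _ hzW' hz1'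
  have hQCW : Q ≤ centralizer (W : Set G) := by
    intro q hq
    rw [Subgroup.mem_centralizer_iff] at hzQ huQ
    exact mem_centralizer_of_basis h.hW4 h.hW2 hzW' hz1' hu hu1 huz (hzQ q hq) (huQ q hq)
  have hWCQ : W ≤ centralizer (Q : Set G) := Subgroup.le_centralizer_iff.mp hQCW
  intro w hw
  exact mem_omegaCenterOf (hCQ (hWCQ hw)) (hWCQ hw) (h.hW2 w hw)

end B1

section B2

variable {G : Type*} [Group G] [Finite G]

/-- A `2`-element normalizing a Sylow `2`-subgroup lies in it. -/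
theorem mem_sylow_of_mem_normalizer (S : Sylow 2 G) {x : G}
    (hx : x ∈ normalizer ((S : Subgroup G) : Set G)) {k : ℕ} (hxk : x ^ 2 ^ k = 1) :
    x ∈ (S : Subgroup G) := by
  have h1 : IsPGroup 2 (zpowers x) :=
    Cfsg.Agent.Lib.Helper47_PClosed.zpowers_isPGroup_of_pow_eq_one hxk
  have h2 : zpowers x ≤ normalizer ((S : Subgroup G) : Set G) := Subgroup.zpowers_le.mpr hx
  have h3 : IsPGroup 2 ↥(zpowers x ⊔ (S : Subgroup G)) :=
    IsPGroup.to_sup_of_normal_right' h1 S.isPGroup' h2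
  have h4 := S.is_maximal' h3 le_sup_right
  have h5 : zpowers x ≤ (S : Subgroup G) := by
    rw [← h4]; exact le_sup_left
  exact h5 (Subgroup.mem_zpowers x)

variable {L T C : Subgroup G} (hTL : T ≤ L) (hT2 : IsPGroup 2 T) (hTodd : Odd (T.relIndex L))
  (S : Sylow 2 G) (hTS : T ≤ (S : Subgroup G)) (hCL : C ≤ L)
  (hLC : L ≤ normalizer (C : Set G)) (hCS : C ≤ normalizer ((S : Subgroup G) : Set G))
include hTL hT2 hTodd hTS hCL hLC hCS

theorem inf_sylow_le_pCoreOf : C ⊓ (S : Subgroup G) ≤ pCoreOf 2 L := by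
  apply Cfsg.Agent.Lib.Helper47_SubAPI.le_pCoreOf (inf_le_left.trans hCL)
  · apply le_normalizer_of_conj_mem
    intro l hl r hr
    obtain ⟨hrC, hrS⟩ := Subgroup.mem_inf.mp hr
    have h1 : l * r * l⁻¹ ∈ C := conj_mem_of_mem_normalizer (hLC hl) hrC
    obtain ⟨k, hk⟩ := S.isPGroup' ⟨r, hrS⟩
    have hrk : r ^ 2 ^ k = 1 := by simpa using congrArg Subtype.val hk
    have h2 : (l * r * l⁻¹) ^ 2 ^ k = 1 := by rw [conj_pow, hrk]; group
    exact Subgroup.mem_inf.mpr ⟨h1, mem_sylow_of_mem_normalizer S (hCS h1) h2⟩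
  · exact S.isPGroup'.to_le inf_le_right

/-- `2`-elements of `C` lie in `O_2(L)`. -/
theorem two_element_mem_pCoreOf {x : G} (hx : x ∈ C) {k : ℕ} (hxk : x ^ 2 ^ k = 1) :
    x ∈ pCoreOf 2 L :=
  inf_sylow_le_pCoreOf hTL hT2 hTodd S hTS hCL hLC hCS
    (Subgroup.mem_inf.mpr ⟨hx, mem_sylow_of_mem_normalizer S (hCS hx) hxk⟩)

/-- `2`-elements of `L` centralize `C / O_2(L)`. -/
theorem comm_two_element_mem_pCoreOf {c : G} (hc : c ∈ C) {t : G} (ht : t ∈ L) {k : ℕ}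
    (htk : t ^ 2 ^ k = 1) : c * t * c⁻¹ * t⁻¹ ∈ pCoreOf 2 L := by
  haveI : Fact (Nat.Prime 2) := ⟨Nat.prime_two⟩
  have hTi : ¬ 2 ∣ T.relIndex L := by
    intro h2
    exact (Nat.not_even_iff_odd.mpr hTodd) (even_iff_two_dvd.mpr h2)
  obtain ⟨l, hl, hlt⟩ := Cfsg.Agent.Lib.Helper10_FFCoprime.exists_conj_mem_of_relIndex
    (p := 2) T hTL hT2 hTi ht htk
  have hc' : l * c * l⁻¹ ∈ C := conj_mem_of_mem_normalizer (hLC hl) hc
  have htS : l * t * l⁻¹ ∈ (S : Subgroup G) := hTS hlt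
  have htL : l * t * l⁻¹ ∈ L := hTL hlt
  have h1 : (l * c * l⁻¹) * (l * t * l⁻¹) * (l * c * l⁻¹)⁻¹ ∈ (S : Subgroup G) :=
    conj_mem_of_mem_normalizer (hCS hc') htS
  have h2 : (l * c * l⁻¹) * (l * t * l⁻¹) * (l * c * l⁻¹)⁻¹ * (l * t * l⁻¹)⁻¹ ∈
      (S : Subgroup G) := Subgroup.mul_mem _ h1 (Subgroup.inv_mem _ htS)
  have h3 : (l * t * l⁻¹) * (l * c * l⁻¹)⁻¹ * (l * t * l⁻¹)⁻¹ ∈ C :=
    conj_mem_of_mem_normalizer (hLC htL) (C.inv_mem hc')
  have h4 : (l * c * l⁻¹) * (l * t * l⁻¹) * (l * c * l⁻¹)⁻¹ * (l * t * l⁻¹)⁻¹ ∈ C := by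
    have e : (l * c * l⁻¹) * (l * t * l⁻¹) * (l * c * l⁻¹)⁻¹ * (l * t * l⁻¹)⁻¹ =
        (l * c * l⁻¹) * ((l * t * l⁻¹) * (l * c * l⁻¹)⁻¹ * (l * t * l⁻¹)⁻¹) := by group
    rw [e]; exact C.mul_mem hc' h3
  have h5 := inf_sylow_le_pCoreOf hTL hT2 hTodd S hTS hCL hLC hCS (Subgroup.mem_inf.mpr ⟨h4, h2⟩)
  have hLQ := Cfsg.Agent.Lib.Helper47_SubAPI.le_normalizer_pCoreOf (p := 2) L
  have h6 := conj_mem_of_mem_normalizer' (hLQ hl) h5
  have e : c * t * c⁻¹ * t⁻¹ =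
      l⁻¹ * ((l * c * l⁻¹) * (l * t * l⁻¹) * (l * c * l⁻¹)⁻¹ * (l * t * l⁻¹)⁻¹) * l := by group
  rw [e]; exact h6

end B2

section B3

variable {G : Type*} [Group G] [Finite G]

theorem subgroupOf_inf_centralizer {L A V : Subgroup G} (hVL : V ≤ L) :
    (A ⊓ centralizer (V : Set G)).subgroupOf L =
      A.subgroupOf L ⊓ centralizer ((V.subgroupOf L : Subgroup L) : Set L) := by
  ext x
  rw [Subgroup.mem_subgroupOf, Subgroup.mem_inf, Subgroup.mem_inf, Subgroup.mem_subgroupOf,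
    mem_centralizer_subgroupOf_iff hVL]

/-- **Failure of factorization, subgroup form.** -/
theorem exists_three_layer_sub {L V : Subgroup G} (hsolv : Group.IsSolvable ↥L)
    (hVL : V ≤ L) (hLV : L ≤ normalizer (V : Set G)) (hV2 : ∀ v ∈ V, v * v = 1)
    (hQV : pCoreOf 2 L ≤ centralizer (V : Set G))
    (h1 : ∀ c ∈ L ⊓ centralizer (V : Set G), ∀ t ∈ L, ∀ k : ℕ, t ^ 2 ^ k = 1 →
      c * t * c⁻¹ * t⁻¹ ∈ pCoreOf 2 L)
    (h2 : ∀ c ∈ L ⊓ centralizer (V : Set G), ∀ k : ℕ, c ^ 2 ^ k = 1 → c ∈ pCoreOf 2 L)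
    (𝒜 : Set (Subgroup G)) (h𝒜L : ∀ A ∈ 𝒜, A ≤ L)
    (h𝒜c : ∀ A ∈ 𝒜, ∀ x ∈ A, ∀ y ∈ A, x * y = y * x)
    (h𝒜2 : ∀ A ∈ 𝒜, IsPGroup 2 A)
    (h𝒜off : ∀ A ∈ 𝒜, Nat.card V * Nat.card ↥(A ⊓ centralizer (V : Set G)) ≤
        Nat.card A * Nat.card ↥(V ⊓ centralizer (A : Set G))) :
    ∃ F₁ : Subgroup G, F₁ ≤ L ∧ L ≤ normalizer (F₁ : Set G) ∧
      L ⊓ centralizer (V : Set G) ≤ F₁ ∧
      (∀ x ∈ F₁, ∀ y ∈ F₁, ⁅x, y⁆ ∈ centralizer (V : Set G)) ∧
      (∀ x ∈ F₁, x ^ 3 ∈ centralizer (V : Set G)) ∧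
      ∀ K : Subgroup G, K ≤ L →
        Subgroup.closure {g : G | g ∈ K ∧ Odd (orderOf g)} = K → ⁅K, sSup 𝒜⁆ = K → K ≤ F₁ := by
  haveI := hsolv
  have hVn : (V.subgroupOf L).Normal := Subgroup.normal_subgroupOf_of_le_normalizer hLV
  have hVEA : IsElementaryAbelian 2 (V.subgroupOf L) := by
    rw [Cfsg.Agent.S5306.isEA_iff]
    refine ⟨fun a ha b hb => ?_, fun a ha => ?_⟩
    · apply Subtype.ext
      exact comm_of_sq hV2 _ (Subgroup.mem_subgroupOf.mp ha) _ (Subgroup.mem_subgroupOf.mp hb)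
    · apply Subtype.ext
      rw [Subgroup.coe_pow, pow_two]
      exact hV2 _ (Subgroup.mem_subgroupOf.mp ha)
  have hO : pCore 2 (↥L ⧸ centralizer ((V.subgroupOf L : Subgroup L) : Set L)) = ⊥ := by
    apply Cfsg.Agent.Lib.Helper10_JCompFF.pCore_quot_eq_bot
    · intro x hx
      rw [mem_centralizer_subgroupOf_iff hVL]
      exact hQV ((mem_pCore_iff L x).mp hx)
    · rintro c hc t ⟨k, hk⟩
      rw [mem_pCore_iff]
      rw [mem_centralizer_subgroupOf_iff hVL] at hc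
      have hk' : (t : G) ^ 2 ^ k = 1 := by
        have := congrArg Subtype.val hk
        simpa using this
      have := h1 c (Subgroup.mem_inf.mpr ⟨c.2, hc⟩) t t.2 k hk'
      simpa using this
    · rintro c hc ⟨k, hk⟩
      rw [mem_pCore_iff]
      rw [mem_centralizer_subgroupOf_iff hVL] at hc
      have hk' : (c : G) ^ 2 ^ k = 1 := by
        have := congrArg Subtype.val hk
        simpa using this
      exact h2 c (Subgroup.mem_inf.mpr ⟨c.2, hc⟩) k hk'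
  obtain ⟨F, hFn, hCF, hFc, hF3, hFK⟩ :=
    Cfsg.Agent.Lib.Helper10_JCompFF.exists_three_layer (V.subgroupOf L) hVEA hO
      ((fun A : Subgroup G => A.subgroupOf L) '' 𝒜)
      (by
        rintro _ ⟨A, hA, rfl⟩ x hx y hy
        apply Subtype.ext
        exact h𝒜c A hA _ (Subgroup.mem_subgroupOf.mp hx) _ (Subgroup.mem_subgroupOf.mp hy))
      (by
        rintro _ ⟨A, hA, rfl⟩
        exact (h𝒜2 A hA).comap_subtype)
      (by
        rintro _ ⟨A, hA, rfl⟩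
        have hAL := h𝒜L A hA
        have e1 : Nat.card ↥(V.subgroupOf L) = Nat.card V :=
          Cfsg.Agent.Lib.Helper10_Thompson.card_subgroupOf_of_le hVL
        have e2 : Nat.card ↥(A.subgroupOf L) = Nat.card A :=
          Cfsg.Agent.Lib.Helper10_Thompson.card_subgroupOf_of_le hAL
        have e3 : Nat.card ↥(A.subgroupOf L ⊓
            centralizer ((V.subgroupOf L : Subgroup L) : Set L)) =
            Nat.card ↥(A ⊓ centralizer (V : Set G)) := by
          rw [← subgroupOf_inf_centralizer hVL]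
          exact Cfsg.Agent.Lib.Helper10_Thompson.card_subgroupOf_of_le (inf_le_left.trans hAL)
        have e4 : Nat.card ↥(V.subgroupOf L ⊓
            centralizer ((A.subgroupOf L : Subgroup L) : Set L)) =
            Nat.card ↥(V ⊓ centralizer (A : Set G)) := by
          rw [← subgroupOf_inf_centralizer hAL]
          exact Cfsg.Agent.Lib.Helper10_Thompson.card_subgroupOf_of_le (inf_le_left.trans hVL)
        rw [e1, e2, e3, e4]
        exact h𝒜off A hA)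
  refine ⟨F.map L.subtype, Subgroup.map_subtype_le F,
    (Cfsg.Agent.Lib.Helper47_SubAPI.normal_iff_le_normalizer_map L F).mp hFn, ?_, ?_, ?_, ?_⟩
  · intro x hx
    obtain ⟨hxL, hxC⟩ := Subgroup.mem_inf.mp hx
    refine ⟨⟨x, hxL⟩, hCF ?_, rfl⟩
    rw [mem_centralizer_subgroupOf_iff hVL]
    exact hxC
  · rintro _ ⟨x, hx, rfl⟩ _ ⟨y, hy, rfl⟩
    have := hFc x hx y hy
    rw [mem_centralizer_subgroupOf_iff hVL] at this
    simpa [commutatorElement_def] using this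
  · rintro _ ⟨x, hx, rfl⟩
    have := hF3 x hx
    rw [mem_centralizer_subgroupOf_iff hVL] at this
    simpa using this
  · -- `K ≤ F₁`
    intro K hKL hodd hKJ
    have hinj : Function.Injective (Subgroup.map L.subtype) :=
      Subgroup.map_injective L.subtype_injective
    have hK1 : Subgroup.closure {g : L | g ∈ K.subgroupOf L ∧ Odd (orderOf g)} =
        K.subgroupOf L := by
      apply hinj
      rw [MonoidHom.map_closure, Subgroup.map_subgroupOf_eq_of_le hKL]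
      conv_rhs => rw [← hodd]
      congr 1
      ext g
      constructor
      · rintro ⟨x, ⟨hxK, hxodd⟩, rfl⟩
        refine ⟨Subgroup.mem_subgroupOf.mp hxK, ?_⟩
        rw [Subgroup.coe_subtype, Subgroup.orderOf_coe]
        exact hxodd
      · rintro ⟨hgK, hgodd⟩
        refine ⟨⟨g, hKL hgK⟩, ⟨Subgroup.mem_subgroupOf.mpr hgK, ?_⟩, rfl⟩
        rw [← Subgroup.orderOf_coe]
        exact hgodd
    have hJmap : (sSup ((fun A : Subgroup G => A.subgroupOf L) '' 𝒜)).map L.subtype =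
        sSup 𝒜 := by
      rw [(Subgroup.gc_map_comap L.subtype).l_sSup]
      apply le_antisymm
      · refine iSup₂_le fun B hB => ?_
        obtain ⟨A, hA, rfl⟩ := hB
        rw [Subgroup.map_subgroupOf_eq_of_le (h𝒜L A hA)]
        exact le_sSup hA
      · refine sSup_le fun A hA => ?_
        have : A = (A.subgroupOf L).map L.subtype :=
          (Subgroup.map_subgroupOf_eq_of_le (h𝒜L A hA)).symm
        rw [this]
        exact le_iSup₂_of_le (A.subgroupOf L) ⟨A, hA, rfl⟩ le_rfl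
    have hK2 : ⁅K.subgroupOf L, sSup ((fun A : Subgroup G => A.subgroupOf L) '' 𝒜)⁆ =
        K.subgroupOf L := by
      apply hinj
      rw [Subgroup.map_commutator, hJmap, Subgroup.map_subgroupOf_eq_of_le hKL, hKJ]
    have := hFK (K.subgroupOf L) hK1 hK2
    have h3 := Subgroup.map_mono (f := L.subtype) this
    rwa [Subgroup.map_subgroupOf_eq_of_le hKL] at h3

end B3

section B4

open Cfsg.Agent.Lib.Lead_Subnormal (SubnIn)

variable {G : Type*} [Group G] [Finite G]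

/-- the offender inequality for a largest elementary abelian subgroup of `T` acting on an
elementary abelian subgroup `V ≤ T` normalized by it -/
theorem offender_of_maxEA {T V A : Subgroup G} (hVT : V ≤ T) (hV2 : ∀ v ∈ V, v * v = 1)
    (hA : A ∈ maxEA 2 T) :
    Nat.card V * Nat.card ↥(A ⊓ centralizer (V : Set G)) ≤
      Nat.card A * Nat.card ↥(V ⊓ centralizer (A : Set G)) := by
  have hBE : EA 2 ((A ⊓ centralizer (V : Set G)) ⊔ V : Subgroup G) := by
    apply EA_sup (EA_mono hA.2.1 inf_le_left) (EA_of_sq hV2)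
    intro a ha v hv
    have := (Subgroup.mem_inf.mp ha).2
    rw [Subgroup.mem_centralizer_iff] at this
    exact (this v hv).symm
  have hBT : (A ⊓ centralizer (V : Set G)) ⊔ V ≤ T := sup_le (inf_le_left.trans hA.1) hVT
  have h1 := hA.2.2 _ hBT hBE
  have h2 := Cfsg.Agent.Lib.Helper10_Thompson.card_mul_card_le_card_sup_mul_card_inf
    (A ⊓ centralizer (V : Set G)) V
  have h3 : V ⊓ (A ⊓ centralizer (V : Set G)) ≤ V ⊓ centralizer (A : Set G) := by
    intro x hx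
    obtain ⟨hxV, hxA⟩ := Subgroup.mem_inf.mp hx
    refine Subgroup.mem_inf.mpr ⟨hxV, ?_⟩
    rw [Subgroup.mem_centralizer_iff]
    intro a ha
    exact hA.2.1.1 a ha x (Subgroup.mem_inf.mp hxA).1
  have h4 := Subgroup.card_le_of_le h3
  calc Nat.card V * Nat.card ↥(A ⊓ centralizer (V : Set G))
      = Nat.card ↥(A ⊓ centralizer (V : Set G)) * Nat.card V := mul_comm _ _
    _ ≤ Nat.card ↥((A ⊓ centralizer (V : Set G)) ⊔ V : Subgroup G) *
        Nat.card ↥(V ⊓ (A ⊓ centralizer (V : Set G)) : Subgroup G) := h2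
    _ ≤ Nat.card A * Nat.card ↥(V ⊓ centralizer (A : Set G)) := Nat.mul_le_mul h1 h4

/-- The local data attached to a member `L` of `ℒ(T)`: `Q = O_2(L)`, `V = Ω₁Z(Q)`,
`C = C_L(V)`, `F₁ / C` the abelian `3`-layer, `M' = C_L(C / Q)`. -/
structure Ctx (T L J Q V C F₁ M' : Subgroup G) : Prop where
  hTL : T ≤ L
  hT2 : IsPGroup 2 T
  hJT : J ≤ T
  hTJ : T ≤ normalizer (J : Set G)
  hQL : Q ≤ L
  hQ2 : IsPGroup 2 Q
  hLQ : L ≤ normalizer (Q : Set G)
  hQT : Q ≤ T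
  hCQ : centralizer (Q : Set G) ≤ Q
  hVdef : V = omegaCenterOf Q
  hLV : L ≤ normalizer (V : Set G)
  hCdef : C = L ⊓ centralizer (V : Set G)
  hLC : L ≤ normalizer (C : Set G)
  h2 : ∀ c ∈ C, ∀ k : ℕ, c ^ 2 ^ k = 1 → c ∈ Q
  hF₁L : F₁ ≤ L
  hLF : L ≤ normalizer (F₁ : Set G)
  hCF : C ≤ F₁
  hFc : ∀ x ∈ F₁, ∀ y ∈ F₁, ⁅x, y⁆ ∈ centralizer (V : Set G)
  hF3 : ∀ x ∈ F₁, x ^ 3 ∈ centralizer (V : Set G)
  hFK : ∀ K : Subgroup G, K ≤ L →
    Subgroup.closure {g : G | g ∈ K ∧ Odd (orderOf g)} = K → ⁅K, J⁆ = K → K ≤ F₁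
  hM'L : M' ≤ L
  hLM : L ≤ normalizer (M' : Set G)
  hM'mem : ∀ x ∈ M', ∀ c ∈ C, x * c * x⁻¹ * c⁻¹ ∈ Q
  hTM : T ≤ M'
  hQM : Q ≤ M'
  hsolv : Group.IsSolvable ↥L
  hTodd : Odd (T.relIndex L)
  h1 : ∀ c ∈ C, ∀ t ∈ L, ∀ k : ℕ, t ^ 2 ^ k = 1 → c * t * c⁻¹ * t⁻¹ ∈ Q

theorem exists_ctx
    (hN : ∀ N : Subgroup G, IsTwoLocal N → Group.IsSolvable ↥N)
    (hZ : ∀ S : Sylow 2 G, centralizer (omegaCenterOf (S : Subgroup G) : Set G) ≤
      normalizer ((S : Subgroup G) : Set G))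
    {T L : Subgroup G} (hT : IsPGroup 2 ↥T) (hT1 : T ≠ ⊥) (hLT : L ∈ jOvergroups T) :
    ∃ V C F₁ M' : Subgroup G,
      Ctx T L (thompsonSubgroupOf 2 T) (pCoreOf 2 L) V C F₁ M' := by
  haveI : Fact (Nat.Prime 2) := ⟨Nat.prime_two⟩
  obtain ⟨⟨hTL, -, hTodd⟩, hJQ, hCQ⟩ := hLT
  obtain ⟨Q, hQdef⟩ : ∃ Q : Subgroup G, Q = pCoreOf 2 L := ⟨_, rfl⟩
  rw [← hQdef] at hCQ ⊢
  have hQL : Q ≤ L := by rw [hQdef]; exact Cfsg.Agent.Lib.Helper47_SubAPI.pCoreOf_le L
  have hQ2 : IsPGroup 2 Q := by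
    rw [hQdef]; exact Cfsg.Agent.Lib.Helper47_SubAPI.isPGroup_pCoreOf L
  have hLQ : L ≤ normalizer (Q : Set G) := by
    rw [hQdef]; exact Cfsg.Agent.Lib.Helper47_SubAPI.le_normalizer_pCoreOf L
  have hQT : Q ≤ T := le_of_odd_relIndex hT hQ2 hTL hQL hTodd (hTL.trans hLQ)
  have hQ1 : Q ≠ ⊥ := by
    intro hbot
    apply hT1
    rw [eq_bot_iff]
    intro x hx
    have : x ∈ centralizer ((Q : Subgroup G) : Set G) := by
      rw [Subgroup.mem_centralizer_iff]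
      intro q hq
      rw [hbot] at hq
      have hq1 : q = 1 := Subgroup.mem_bot.mp hq
      rw [hq1, one_mul, mul_one]
    have := hCQ this
    rwa [hbot] at this
  have hsolv : Group.IsSolvable ↥L := by
    have h1 : Group.IsSolvable ↥(normalizer (Q : Set G)) := hN _ ⟨Q, hQ2, hQ1, rfl⟩
    exact Group.isSolvable_of_isSolvable_injective (Subgroup.inclusion_injective hLQ)
  obtain ⟨J, hJdef⟩ : ∃ J : Subgroup G, J = thompsonSubgroupOf 2 T := ⟨_, rfl⟩
  rw [← hJdef]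
  have hJT : J ≤ T := by rw [hJdef]; exact thompsonSubgroupOf_le 2 T
  have hTJ : T ≤ normalizer (J : Set G) := by
    rw [hJdef, Cfsg.Agent.S5306.thompson_eq_JJ]
    exact Subgroup.le_normalizer.trans (normalizer_le_normalizer_JJ T)
  obtain ⟨V, hVdef⟩ : ∃ V : Subgroup G, V = omegaCenterOf Q := ⟨_, rfl⟩
  have hVle : V ≤ Q ⊓ centralizer (Q : Set G) := by rw [hVdef]; exact omegaCenterOf_le Q
  have hVQ : V ≤ Q := hVle.trans inf_le_left
  have hVL : V ≤ L := hVQ.trans hQL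
  have hLV : L ≤ normalizer (V : Set G) := by
    rw [hVdef]; exact hLQ.trans (normalizer_le_normalizer_omegaCenterOf Q)
  have hV2 : ∀ v ∈ V, v * v = 1 := by rw [hVdef]; exact omegaCenterOf_sq Q
  have hQV : Q ≤ centralizer (V : Set G) :=
    Subgroup.le_centralizer_iff.mp (hVle.trans inf_le_right)
  obtain ⟨S, hTS⟩ := hT.exists_le_sylow
  have hZSV : omegaCenterOf (S : Subgroup G) ≤ V := by
    unfold omegaCenterOf omegaOne
    rw [Subgroup.closure_le]
    rintro x ⟨hx, hx2⟩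
    rw [SetLike.mem_coe, hVdef]
    have hxC : x ∈ centralizer ((Q : Subgroup G) : Set G) :=
      Subgroup.centralizer_le (SetLike.coe_subset_coe.mpr (hQT.trans hTS))
        (Subgroup.mem_inf.mp hx).2
    exact mem_omegaCenterOf (hCQ hxC) hxC (by rw [← pow_two]; exact hx2)
  obtain ⟨C, hCdef⟩ : ∃ C : Subgroup G, C = L ⊓ centralizer (V : Set G) := ⟨_, rfl⟩
  have hCL : C ≤ L := by rw [hCdef]; exact inf_le_left
  have hCV : C ≤ centralizer (V : Set G) := by rw [hCdef]; exact inf_le_right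
  have hLC : L ≤ normalizer (C : Set G) := by
    apply le_normalizer_of_conj_mem
    intro l hl c hc
    rw [hCdef] at hc ⊢
    obtain ⟨hcL, hcV⟩ := Subgroup.mem_inf.mp hc
    exact Subgroup.mem_inf.mpr ⟨L.mul_mem (L.mul_mem hl hcL) (L.inv_mem hl),
      conj_mem_centralizer (hLV hl) hcV⟩
  have hCS : C ≤ normalizer ((S : Subgroup G) : Set G) :=
    (hCV.trans (Subgroup.centralizer_le (SetLike.coe_subset_coe.mpr hZSV))).trans (hZ S)
  have h1 : ∀ c ∈ C, ∀ t ∈ L, ∀ k : ℕ, t ^ 2 ^ k = 1 → c * t * c⁻¹ * t⁻¹ ∈ Q := by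
    intro c hc t ht k hk
    rw [hQdef]
    exact comm_two_element_mem_pCoreOf hTL hT hTodd S hTS hCL hLC hCS hc ht hk
  have h2 : ∀ c ∈ C, ∀ k : ℕ, c ^ 2 ^ k = 1 → c ∈ Q := by
    intro c hc k hk
    rw [hQdef]
    exact two_element_mem_pCoreOf hTL hT hTodd S hTS hCL hLC hCS hc hk
  have hJsup : sSup (maxEA 2 T) = J := by
    rw [hJdef, Cfsg.Agent.S5306.thompson_eq_JJ]; rfl
  obtain ⟨F₁, hF₁L, hLF, hCF, hFc, hF3, hFK⟩ :=
    exists_three_layer_sub hsolv hVL hLV hV2 (by rw [← hQdef]; exact hQV)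
      (by rw [← hQdef, ← hCdef]; exact h1) (by rw [← hQdef, ← hCdef]; exact h2)
      (maxEA 2 T) (fun A hA => hA.1.trans hTL) (fun A hA => hA.2.1.1)
      (fun A hA => hT.to_le hA.1) (fun A hA => offender_of_maxEA (hVQ.trans hQT) hV2 hA)
  rw [← hCdef] at hCF
  rw [hJsup] at hFK
  -- `M' = C_L(C / Q)`
  obtain ⟨M', hMdef⟩ : ∃ M' : Subgroup G, M' = L ⊓ actKer C Q := ⟨_, rfl⟩
  have hM'L : M' ≤ L := by rw [hMdef]; exact inf_le_left
  have hM'mem : ∀ x ∈ M', ∀ c ∈ C, x * c * x⁻¹ * c⁻¹ ∈ Q := by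
    intro x hx c hc
    rw [hMdef] at hx
    exact (Subgroup.mem_inf.mp hx).2.2 c hc
  have hmemM' : ∀ x ∈ L, (∀ c ∈ C, x * c * x⁻¹ * c⁻¹ ∈ Q) → x ∈ M' := by
    intro x hx h
    rw [hMdef]
    exact Subgroup.mem_inf.mpr ⟨hx, hLQ hx, h⟩
  have hTM : T ≤ M' := by
    intro t ht
    apply hmemM' t (hTL ht)
    intro c hc
    obtain ⟨k, hk⟩ := hT ⟨t, ht⟩
    have htk : t ^ 2 ^ k = 1 := by simpa using congrArg Subtype.val hk
    have htk' : t⁻¹ ^ 2 ^ k = 1 := by rw [inv_pow, htk, inv_one]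
    have h3 := h1 c hc t⁻¹ (L.inv_mem (hTL ht)) k htk'
    have e : t * c * t⁻¹ * c⁻¹ = t * (c * t⁻¹ * c⁻¹ * t⁻¹⁻¹) * t⁻¹ := by group
    rw [e]
    exact conj_mem_of_mem_normalizer (hLQ (hTL ht)) h3
  have hLM : L ≤ normalizer (M' : Set G) := by
    apply le_normalizer_of_conj_mem
    intro l hl x hx
    apply hmemM' _ (L.mul_mem (L.mul_mem hl (hM'L hx)) (L.inv_mem hl))
    intro c hc
    have hc' : l⁻¹ * c * l ∈ C := conj_mem_of_mem_normalizer' (hLC hl) hc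
    have h3 := hM'mem x hx _ hc'
    have e : l * x * l⁻¹ * c * (l * x * l⁻¹)⁻¹ * c⁻¹ =
        l * (x * (l⁻¹ * c * l) * x⁻¹ * (l⁻¹ * c * l)⁻¹) * l⁻¹ := by group
    rw [e]
    exact conj_mem_of_mem_normalizer (hLQ hl) h3
  have hQM : Q ≤ M' := by
    intro q hq
    apply hmemM' q (hQL hq)
    intro c hc
    have h3 : c * q⁻¹ * c⁻¹ ∈ Q := conj_mem_of_mem_normalizer (hLQ (hCL hc)) (Q.inv_mem hq)
    have e : q * c * q⁻¹ * c⁻¹ = q * (c * q⁻¹ * c⁻¹) := by group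
    rw [e]
    exact Q.mul_mem hq h3
  exact ⟨V, C, F₁, M', ⟨hTL, hT, hJT, hTJ, hQL, hQ2, hLQ, hQT, hCQ, hVdef, hLV, hCdef, hLC, h2,
    hF₁L, hLF, hCF, hFc, hF3, hFK, hM'L, hLM, hM'mem, hTM, hQM, hsolv, hTodd, h1⟩⟩

namespace Ctx

variable {T L J Q V C F₁ M' : Subgroup G} (ctx : Ctx T L J Q V C F₁ M')
include ctx

theorem hCL : C ≤ L := by rw [ctx.hCdef]; exact inf_le_left

theorem hCV : C ≤ centralizer (V : Set G) := by rw [ctx.hCdef]; exact inf_le_right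

theorem hVQ : V ≤ Q := by
  rw [ctx.hVdef]; exact (omegaCenterOf_le Q).trans inf_le_left

theorem hVZ : V ≤ centralizer (Q : Set G) := by
  rw [ctx.hVdef]; exact (omegaCenterOf_le Q).trans inf_le_right

theorem hQV : Q ≤ centralizer (V : Set G) := Subgroup.le_centralizer_iff.mp ctx.hVZ

theorem hQC : Q ≤ C := by rw [ctx.hCdef]; exact le_inf ctx.hQL ctx.hQV

theorem hV2 : ∀ v ∈ V, v * v = 1 := by rw [ctx.hVdef]; exact omegaCenterOf_sq Q

/-- subgroups `K = [K, J]` of `L` centralize `C / Q` -/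
theorem le_M' {K : Subgroup G} (hKL : K ≤ L) (hKJ : ⁅K, J⁆ = K) : K ≤ M' := by
  rw [← hKJ, Subgroup.commutator_le]
  intro k hk j hj
  have hjM : j ∈ M' := ctx.hTM (ctx.hJT hj)
  have h3 : k * j * k⁻¹ ∈ M' := conj_mem_of_mem_normalizer (ctx.hLM (hKL hk)) hjM
  have e : ⁅k, j⁆ = (k * j * k⁻¹) * j⁻¹ := by rw [commutatorElement_def]
  rw [e]
  exact M'.mul_mem h3 (M'.inv_mem hjM)

/-- the subnormal chain `K ⊴ KQ ⊴ K(E ∩ C) ⊴ E ⊴ L` -/
theorem subnIn {K : Subgroup G} (hKL : K ≤ L)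
    (hodd : Subgroup.closure {g : G | g ∈ K ∧ Odd (orderOf g)} = K) (hKJ : ⁅K, J⁆ = K)
    (hQK : Q ≤ normalizer (K : Set G)) : SubnIn K L := by
  have hKF : K ≤ F₁ := ctx.hFK K hKL hodd hKJ
  have hKM : K ≤ M' := ctx.le_M' hKL hKJ
  have hCL := ctx.hCL
  have hLQ := ctx.hLQ
  have hLC := ctx.hLC
  have hM'mem := ctx.hM'mem
  have hFc := ctx.hFc
  obtain ⟨E, hEdef⟩ : ∃ E : Subgroup G, E = F₁ ⊓ M' := ⟨_, rfl⟩
  obtain ⟨D, hDdef⟩ : ∃ D : Subgroup G, D = E ⊓ C := ⟨_, rfl⟩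
  have hEF : E ≤ F₁ := by rw [hEdef]; exact inf_le_left
  have hEM : E ≤ M' := by rw [hEdef]; exact inf_le_right
  have hEL : E ≤ L := hEF.trans ctx.hF₁L
  have hDE : D ≤ E := by rw [hDdef]; exact inf_le_left
  have hDC : D ≤ C := by rw [hDdef]; exact inf_le_right
  have hKE : K ≤ E := by rw [hEdef]; exact le_inf hKF hKM
  have hQE : Q ≤ E := by rw [hEdef]; exact le_inf (ctx.hQC.trans ctx.hCF) ctx.hQM
  have hQD : Q ≤ D := by rw [hDdef]; exact le_inf hQE ctx.hQC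
  have s1 : SubnIn K (K ⊔ Q) :=
    SubnIn.of_normal le_sup_left (sup_le Subgroup.le_normalizer hQK)
  have hDN : D ≤ normalizer ((K ⊔ Q : Subgroup G) : Set G) := by
    apply le_normalizer_of_conj_mem
    intro d hd x hx
    have hdL : d ∈ L := hCL (hDC hd)
    have hle : K ⊔ Q ≤ (K ⊔ Q).comap (MulAut.conj d).toMonoidHom := by
      apply sup_le
      · intro k hk
        rw [Subgroup.mem_comap]
        have h3 := hM'mem k (hKM hk) d⁻¹ (C.inv_mem (hDC hd))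
        have h4 : d * (k * d⁻¹ * k⁻¹ * d⁻¹⁻¹) * d⁻¹ ∈ Q :=
          conj_mem_of_mem_normalizer (hLQ hdL) h3
        have e : (MulAut.conj d).toMonoidHom k = (d * (k * d⁻¹ * k⁻¹ * d⁻¹⁻¹) * d⁻¹) * k := by
          simp only [MulEquiv.coe_toMonoidHom, MulAut.conj_apply]
          group
        rw [e]
        exact Subgroup.mul_mem _ (le_sup_right (a := K) h4) (le_sup_left (b := Q) hk)
      · intro q hq
        rw [Subgroup.mem_comap]
        have e : (MulAut.conj d).toMonoidHom q = d * q * d⁻¹ := by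
          simp only [MulEquiv.coe_toMonoidHom, MulAut.conj_apply]
        rw [e]
        exact le_sup_right (a := K) (conj_mem_of_mem_normalizer (hLQ hdL) hq)
    have := hle hx
    rw [Subgroup.mem_comap] at this
    simpa only [MulEquiv.coe_toMonoidHom, MulAut.conj_apply] using this
  have s2 : SubnIn (K ⊔ Q) (K ⊔ D) :=
    SubnIn.of_normal (sup_le_sup_left hQD K)
      (sup_le (le_sup_left.trans Subgroup.le_normalizer) hDN)
  have hEN : E ≤ normalizer ((K ⊔ D : Subgroup G) : Set G) := by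
    apply le_normalizer_of_conj_mem
    intro x hx y hy
    have hxL : x ∈ L := hEL hx
    have hle : K ⊔ D ≤ (K ⊔ D).comap (MulAut.conj x).toMonoidHom := by
      apply sup_le
      · intro k hk
        rw [Subgroup.mem_comap]
        have h3 : ⁅x, k⁆ ∈ centralizer (V : Set G) := hFc x (hEF hx) k (hKF hk)
        have h4 : ⁅x, k⁆ ∈ E := by
          rw [commutatorElement_def]
          exact E.mul_mem (E.mul_mem (E.mul_mem hx (hKE hk)) (E.inv_mem hx)) (E.inv_mem (hKE hk))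
        have h5 : ⁅x, k⁆ ∈ D := by
          rw [hDdef, ctx.hCdef]
          exact Subgroup.mem_inf.mpr ⟨h4, Subgroup.mem_inf.mpr ⟨hEL h4, h3⟩⟩
        have e : (MulAut.conj x).toMonoidHom k = ⁅x, k⁆ * k := by
          simp only [MulEquiv.coe_toMonoidHom, MulAut.conj_apply, commutatorElement_def]
          group
        rw [e]
        exact Subgroup.mul_mem _ (le_sup_right (a := K) h5) (le_sup_left (b := D) hk)
      · intro d hd
        rw [Subgroup.mem_comap]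
        have e : (MulAut.conj x).toMonoidHom d = x * d * x⁻¹ := by
          simp only [MulEquiv.coe_toMonoidHom, MulAut.conj_apply]
        rw [e]
        apply le_sup_right (a := K)
        rw [hDdef]
        exact Subgroup.mem_inf.mpr ⟨E.mul_mem (E.mul_mem hx (hDE hd)) (E.inv_mem hx),
          conj_mem_of_mem_normalizer (hLC hxL) (hDC hd)⟩
    have := hle hy
    rw [Subgroup.mem_comap] at this
    simpa only [MulEquiv.coe_toMonoidHom, MulAut.conj_apply] using this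
  have s3 : SubnIn (K ⊔ D) E := SubnIn.of_normal (sup_le hKE hDE) hEN
  have s4 : SubnIn E L := by
    apply SubnIn.of_normal hEL
    rw [hEdef]
    exact (le_inf ctx.hLF ctx.hLM).trans (normalizer_inf_le F₁ M')
  exact s1.trans (s2.trans (s3.trans s4))

end Ctx

/-- **`J(T)`-components of members of `ℒ(T)` are subnormal.** -/
theorem jComponent_subnIn
    (hN : ∀ N : Subgroup G, IsTwoLocal N → Group.IsSolvable ↥N)
    (hZ : ∀ S : Sylow 2 G, centralizer (omegaCenterOf (S : Subgroup G) : Set G) ≤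
      normalizer ((S : Subgroup G) : Set G))
    {T L K : Subgroup G} (hT : IsPGroup 2 ↥T) (hT1 : T ≠ ⊥) (hLT : L ∈ jOvergroups T)
    (hK : IsJComponent T K) (hKL : K ≤ L)
    (hQK : pCoreOf 2 L ≤ normalizer (K : Set G)) : SubnIn K L := by
  obtain ⟨V, C, F₁, M', ctx⟩ := exists_ctx hN hZ hT hT1 hLT
  exact ctx.subnIn hKL hK.1 hK.2.1 hQK

end B4

end Cfsg.Agent.Lib.Helper10_JCompSub
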