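import Cfsg.Agent.Lib.Helper10_JCompFF
import Cfsg.Agent.Lib.Helper10_JCompSub
import Mathlib

set_option autoImplicit false
set_option linter.unusedSectionVars false
set_option linter.unusedVariables false
set_option linter.style.haveILetI false

/-!
# Offenders contain transvections on `V` with prescribed centre (helper10)

In a solvable group `X` acting on an elementary abelian normal `2`-subgroup `V` with
`O_2(X / C_X(V)) = 1`, an abelian offender `A` on `V` which does not centralize a subgroup `W ≤ V`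
that it normalizes contains an element `a` not centralizing `W` with `[V, a] ≤ W`.
-/

universe u

namespace Cfsg.Agent.Lib.Helper10_JCompTv

open Cfsg
open scoped commutatorElement Pointwise

section xform

open Cfsg.Agent.Lib.Helper10_FFTransport Cfsg.Agent.Lib.Helper10_OffTv
  Cfsg.Agent.Lib.Helper62_Structure

variable {X : Type u} [Group X] [Finite X] [Group.IsSolvable X]

theorem exists_tv_elt (V : Subgroup X) [hVn : V.Normal] (hV : IsElementaryAbelian 2 V)
    (hO : pCore 2 (X ⧸ Subgroup.centralizer (V : Set X)) = ⊥)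
    (A : Subgroup X)
    (hAc : ∀ x ∈ A, ∀ y ∈ A, x * y = y * x)
    (hA2 : IsPGroup 2 A)
    (hAoff : Nat.card V * Nat.card ↥(A ⊓ Subgroup.centralizer (V : Set X)) ≤
        Nat.card A * Nat.card ↥(V ⊓ Subgroup.centralizer (A : Set X)))
    (W : Subgroup X) (hWV : W ≤ V) (hAN : A ≤ Subgroup.normalizer (W : Set X))
    (hAW : ¬ A ≤ Subgroup.centralizer (W : Set X)) :
    ∃ a ∈ A, a ∉ Subgroup.centralizer (W : Set X) ∧ ∀ v ∈ V, v * a * v⁻¹ * a⁻¹ ∈ W := by
  classical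
  haveI : Fact (Nat.Prime 2) := ⟨Nat.prime_two⟩
  let t : FFT V (Equiv.Perm V) := permFFT V
  have hker : t.ι.ker = Subgroup.centralizer (V : Set X) := t.ker_ι
  set Γ : Subgroup (Equiv.Perm V) := (⊤ : Subgroup X).map t.ι with hΓ
  set S : Subgroup (Equiv.Perm V) :=
    ⨆ A : {A : Subgroup (Equiv.Perm V) // A ≤ Γ ∧ Cfsg.IsBestOffenderOn 2 t.j.range A},
      (A : Subgroup (Equiv.Perm V)) with hS
  have hΓV : Γ ≤ Subgroup.normalizer ((t.j.range : Subgroup _) : Set _) := t.le_normalizer ⊤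
  have hΓf : Γ ⊓ Subgroup.centralizer ((t.j.range : Subgroup _) : Set _) = ⊥ := t.faithful ⊤
  have hSΓ : S ≤ Γ := iSup_le fun A => A.2.1
  have hΓS : Γ ≤ Subgroup.normalizer (S : Set _) := le_normalizer_iSup_best hΓV
  have hιΓ : ∀ x : X, t.ι x ∈ Γ := fun x => ⟨x, Subgroup.mem_top x, rfl⟩
  have comap_normal : ∀ K : Subgroup (Equiv.Perm V),
      Γ ≤ Subgroup.normalizer (K : Set _) → (K.comap t.ι).Normal := by
    intro K hK
    constructor
    intro n hn x
    show t.ι (x * n * x⁻¹) ∈ K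
    rw [map_mul, map_mul, map_inv]
    exact (Subgroup.mem_normalizer_iff.mp (hK (hιΓ x)) _).mp hn
  set N := S.comap t.ι with hN
  have hNn : N.Normal := comap_normal S hΓS
  have hHS : N.map t.ι = S := by
    apply Subgroup.map_comap_eq_self
    rw [MonoidHom.range_eq_map]
    exact hSΓ
  have hsep : Cfsg.IsPSolvable 2 X := Cfsg.Agent.Lib.Lead_PSolvable.isPSolvable_of_isSolvable 2
  have sett : Setting 2 t.j.range (N.map t.ι) Γ :=
    { amb := ⟨t.elemAb hV, t.le_normalizer N, t.faithful N, t.hS1 hsep hO N⟩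
      hΓV := hΓV
      hΓf := hΓf
      hH := hHS }
  -- the image of `A` is generated by transvections
  have hBΓ : A.map t.ι ≤ Γ := Subgroup.map_mono le_top
  have hBc : ∀ x ∈ A.map t.ι, ∀ y ∈ A.map t.ι, x * y = y * x := by
    rintro _ ⟨a, ha, rfl⟩ _ ⟨b, hb, rfl⟩
    rw [← map_mul, ← map_mul, hAc a ha b hb]
  have hBp : IsPGroup 2 ↥(A.map t.ι) := hA2.map t.ι
  have hoff : Nat.card ↥t.j.range ≤ Nat.card ↥(A.map t.ι) *
      Nat.card ↥(t.j.range ⊓ Subgroup.centralizer ((A.map t.ι : Subgroup _) : Set _)) := by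
    have e1 := t.card_map A
    have e2 := t.card_fix A
    have e3 := t.card_range
    rw [e3, e2]
    have hpos : 0 < Nat.card ↥(A ⊓ Subgroup.centralizer (V : Set X)) := Nat.card_pos
    refine Nat.le_of_mul_le_mul_right ?_ hpos
    calc Nat.card V * Nat.card ↥(A ⊓ Subgroup.centralizer (V : Set X))
        ≤ Nat.card A * Nat.card ↥(V ⊓ Subgroup.centralizer (A : Set X)) := hAoff
      _ = Nat.card ↥(A.map t.ι) * Nat.card ↥(V ⊓ Subgroup.centralizer (A : Set X)) *
          Nat.card ↥(A ⊓ Subgroup.centralizer (V : Set X)) := by rw [← e1]; ring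
  have hgenB := sett.gen_by_tv hBΓ hBc hBp hoff
  -- some transvection in the image comes from an element not centralizing `W`
  have hCVW : Subgroup.centralizer (V : Set X) ≤ Subgroup.centralizer (W : Set X) :=
    Subgroup.centralizer_le (SetLike.coe_subset_coe.mpr hWV)
  obtain ⟨a, haA, haTv, haW⟩ : ∃ a ∈ A, IsTv 2 t.j.range (N.map t.ι) (t.ι a) ∧
      a ∉ Subgroup.centralizer (W : Set X) := by
    by_contra hcon
    push Not at hcon
    apply hAW
    have hle : A.map t.ι ≤ (Subgroup.centralizer (W : Set X)).map t.ι := by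
      refine hgenB.trans ?_
      rw [Subgroup.closure_le]
      rintro b ⟨⟨a, haA, rfl⟩, hb⟩
      exact ⟨a, hcon a haA hb, rfl⟩
    intro a haA
    obtain ⟨c, hc, hca⟩ := hle ⟨a, haA, rfl⟩
    have h1 : c⁻¹ * a ∈ t.ι.ker := by
      rw [MonoidHom.mem_ker, map_mul, map_inv, hca]
      group
    rw [hker] at h1
    have h2 : a = c * (c⁻¹ * a) := by group
    rw [h2]
    exact Subgroup.mul_mem _ hc (hCVW h1)
  refine ⟨a, haA, haW, ?_⟩
  -- a witness `w ∈ W` moved by `a`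
  obtain ⟨w, hw, hwa⟩ : ∃ w ∈ W, w * a ≠ a * w := by
    by_contra hcon
    push Not at hcon
    apply haW
    rw [Subgroup.mem_centralizer_iff]
    exact hcon
  have hcomm : ∀ v : V, ⁅t.j v, t.ι a⁆ =
      t.j ⟨(v : X) * a * (v : X)⁻¹ * a⁻¹, by
        have h1 : a * (v : X)⁻¹ * a⁻¹ ∈ V := hVn.conj_mem _ (V.inv_mem v.2) a
        have h2 : (v : X) * a * (v : X)⁻¹ * a⁻¹ = (v : X) * (a * (v : X)⁻¹ * a⁻¹) := by group
        rw [h2]
        exact V.mul_mem v.2 h1⟩ := by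
    intro v
    have h1 := t.conj' a v⁻¹
    rw [commutatorElement_def]
    have h2 : t.j v * t.ι a * (t.j v)⁻¹ * (t.ι a)⁻¹ =
        t.j v * (t.ι a * t.j v⁻¹ * (t.ι a)⁻¹) := by
      rw [map_inv]; group
    rw [h2, h1, ← map_mul]
    congr 1
    apply Subtype.ext
    simp only [Subgroup.coe_mul, Subgroup.coe_inv]
    group
  have hmemR : ∀ v : V, ⁅t.j v, t.ι a⁆ ∈ ⁅t.j.range, Subgroup.zpowers (t.ι a)⁆ :=
    fun v => Subgroup.commutator_mem_commutator ⟨v, rfl⟩ (Subgroup.mem_zpowers _)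
  have hcard := haTv.card
  -- the group `R = [V, a]` (in the model) has order two
  have htwo : ∀ r₁ ∈ ⁅t.j.range, Subgroup.zpowers (t.ι a)⁆,
      ∀ r₂ ∈ ⁅t.j.range, Subgroup.zpowers (t.ι a)⁆, r₁ ≠ 1 → r₂ ≠ 1 → r₁ = r₂ := by
    intro r₁ h₁ r₂ h₂ hr₁ hr₂
    obtain ⟨y, -, hy⟩ := (Nat.card_eq_two_iff'
      (1 : ↥⁅t.j.range, Subgroup.zpowers (t.ι a)⁆)).mp hcard
    have e1 := hy ⟨r₁, h₁⟩ (fun h => hr₁ (congrArg Subtype.val h))
    have e2 := hy ⟨r₂, h₂⟩ (fun h => hr₂ (congrArg Subtype.val h))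
    exact congrArg Subtype.val (e1.trans e2.symm)
  intro v hv
  have hwV : w ∈ V := hWV hw
  have hw1 : ⁅t.j ⟨w, hwV⟩, t.ι a⁆ ≠ 1 := by
    rw [hcomm ⟨w, hwV⟩]
    intro h
    have h3 := t.j_inj (h.trans (map_one t.j).symm)
    have h4 : w * a * w⁻¹ * a⁻¹ = 1 := congrArg Subtype.val h3
    apply hwa
    calc w * a = (w * a * w⁻¹ * a⁻¹) * a * w := by group
      _ = a * w := by rw [h4, one_mul]
  have hwW : w * a * w⁻¹ * a⁻¹ ∈ W := by
    have h1 : a * w⁻¹ * a⁻¹ ∈ W :=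
      (Subgroup.mem_normalizer_iff.mp (hAN haA) w⁻¹).mp (W.inv_mem hw)
    have h2 : w * a * w⁻¹ * a⁻¹ = w * (a * w⁻¹ * a⁻¹) := by group
    rw [h2]
    exact W.mul_mem hw h1
  by_cases hv1 : ⁅t.j ⟨v, hv⟩, t.ι a⁆ = 1
  · rw [hcomm ⟨v, hv⟩] at hv1
    have h3 := t.j_inj (hv1.trans (map_one t.j).symm)
    have h4 : v * a * v⁻¹ * a⁻¹ = 1 := congrArg Subtype.val h3
    rw [h4]
    exact W.one_mem
  · have := htwo _ (hmemR ⟨v, hv⟩) _ (hmemR ⟨w, hwV⟩) hv1 hw1
    rw [hcomm ⟨v, hv⟩, hcomm ⟨w, hwV⟩] at this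
    have h3 := t.j_inj this
    have h4 : v * a * v⁻¹ * a⁻¹ = w * a * w⁻¹ * a⁻¹ := congrArg Subtype.val h3
    rw [h4]
    exact hwW

end xform

section sub

open Subgroup
open Cfsg.Agent.S5306 (EA maxEA JJ)
open Cfsg.Agent.Lib.Helper10_JComp
open Cfsg.Agent.Lib.Helper10_JCompB
open Cfsg.Agent.Lib.Helper10_JCompF
open Cfsg.Agent.Lib.Helper10_JCompSub

variable {G : Type*} [Group G] [Finite G]

/-- subgroup form of `exists_tv_elt` -/
theorem exists_tv_sub {L V : Subgroup G} (hsolv : Group.IsSolvable ↥L)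
    (hVL : V ≤ L) (hLV : L ≤ normalizer (V : Set G)) (hV2 : ∀ v ∈ V, v * v = 1)
    (hQV : pCoreOf 2 L ≤ centralizer (V : Set G))
    (h1 : ∀ c ∈ L ⊓ centralizer (V : Set G), ∀ t ∈ L, ∀ k : ℕ, t ^ 2 ^ k = 1 →
      c * t * c⁻¹ * t⁻¹ ∈ pCoreOf 2 L)
    (h2 : ∀ c ∈ L ⊓ centralizer (V : Set G), ∀ k : ℕ, c ^ 2 ^ k = 1 → c ∈ pCoreOf 2 L)
    {A : Subgroup G} (hAL : A ≤ L)
    (hAc : ∀ x ∈ A, ∀ y ∈ A, x * y = y * x)
    (hA2 : IsPGroup 2 A)
    (hAoff : Nat.card V * Nat.card ↥(A ⊓ centralizer (V : Set G)) ≤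
        Nat.card A * Nat.card ↥(V ⊓ centralizer (A : Set G)))
    {W : Subgroup G} (hWV : W ≤ V) (hAN : A ≤ normalizer (W : Set G))
    (hAW : ¬ A ≤ centralizer (W : Set G)) :
    ∃ a ∈ A, a ∉ centralizer (W : Set G) ∧ ∀ v ∈ V, v * a * v⁻¹ * a⁻¹ ∈ W := by
  haveI := hsolv
  have hWL : W ≤ L := hWV.trans hVL
  have hVn : (V.subgroupOf L).Normal := Subgroup.normal_subgroupOf_of_le_normalizer hLV
  have hVEA : IsElementaryAbelian 2 (V.subgroupOf L) := by
    rw [Cfsg.Agent.S5306.isEA_iff]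
    refine ⟨fun a ha b hb => ?_, fun a ha => ?_⟩
    · apply Subtype.ext
      exact comm_of_sq hV2 _ (Subgroup.mem_subgroupOf.mp ha) _ (Subgroup.mem_subgroupOf.mp hb)
    · apply Subtype.ext
      rw [Subgroup.coe_pow, pow_two]
      exact hV2 _ (Subgroup.mem_subgroupOf.mp ha)
  have hO : pCore 2 (↥L ⧸ centralizer ((V.subgroupOf L : Subgroup L) : Set L)) = ⊥ := by
    apply Cfsg.Agent.Lib.Helper10_JCompFF.pCore_quot_eq_bot
    · intro x hx
      rw [mem_centralizer_subgroupOf_iff hVL]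
      exact hQV ((mem_pCore_iff L x).mp hx)
    · rintro c hc t ⟨k, hk⟩
      rw [mem_pCore_iff]
      rw [mem_centralizer_subgroupOf_iff hVL] at hc
      have hk' : (t : G) ^ 2 ^ k = 1 := by
        have := congrArg Subtype.val hk
        simpa using this
      have := h1 c (Subgroup.mem_inf.mpr ⟨c.2, hc⟩) t t.2 k hk'
      simpa using this
    · rintro c hc ⟨k, hk⟩
      rw [mem_pCore_iff]
      rw [mem_centralizer_subgroupOf_iff hVL] at hc
      have hk' : (c : G) ^ 2 ^ k = 1 := by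
        have := congrArg Subtype.val hk
        simpa using this
      exact h2 c (Subgroup.mem_inf.mpr ⟨c.2, hc⟩) k hk'
  have e1 : Nat.card ↥(V.subgroupOf L) = Nat.card V :=
    Cfsg.Agent.Lib.Helper10_Thompson.card_subgroupOf_of_le hVL
  have e2 : Nat.card ↥(A.subgroupOf L) = Nat.card A :=
    Cfsg.Agent.Lib.Helper10_Thompson.card_subgroupOf_of_le hAL
  have e3 : Nat.card ↥(A.subgroupOf L ⊓
      centralizer ((V.subgroupOf L : Subgroup L) : Set L)) =
      Nat.card ↥(A ⊓ centralizer (V : Set G)) := by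
    rw [← subgroupOf_inf_centralizer hVL]
    exact Cfsg.Agent.Lib.Helper10_Thompson.card_subgroupOf_of_le (inf_le_left.trans hAL)
  have e4 : Nat.card ↥(V.subgroupOf L ⊓
      centralizer ((A.subgroupOf L : Subgroup L) : Set L)) =
      Nat.card ↥(V ⊓ centralizer (A : Set G)) := by
    rw [← subgroupOf_inf_centralizer hAL]
    exact Cfsg.Agent.Lib.Helper10_Thompson.card_subgroupOf_of_le (inf_le_left.trans hVL)
  obtain ⟨a, haA, haW, hav⟩ := exists_tv_elt (V.subgroupOf L) hVEA hO (A.subgroupOf L)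
    (by
      intro x hx y hy
      apply Subtype.ext
      exact hAc _ (Subgroup.mem_subgroupOf.mp hx) _ (Subgroup.mem_subgroupOf.mp hy))
    hA2.comap_subtype
    (by rw [e1, e2, e3, e4]; exact hAoff)
    (W.subgroupOf L)
    (by
      intro x hx
      exact Subgroup.mem_subgroupOf.mpr (hWV (Subgroup.mem_subgroupOf.mp hx)))
    (by
      intro x hx
      rw [Subgroup.mem_normalizer_iff]
      intro y
      rw [Subgroup.mem_subgroupOf, Subgroup.mem_subgroupOf]
      exact Subgroup.mem_normalizer_iff.mp (hAN (Subgroup.mem_subgroupOf.mp hx)) y)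
    (by
      intro hle
      apply hAW
      intro x hx
      have := hle (Subgroup.mem_subgroupOf.mpr (show ((⟨x, hAL hx⟩ : L) : G) ∈ A from hx))
      rwa [mem_centralizer_subgroupOf_iff hWL] at this)
  refine ⟨a, Subgroup.mem_subgroupOf.mp haA, ?_, ?_⟩
  · intro h
    apply haW
    rw [mem_centralizer_subgroupOf_iff hWL]
    exact h
  · intro v hv
    have := hav ⟨v, hVL hv⟩ (Subgroup.mem_subgroupOf.mpr hv)
    rw [Subgroup.mem_subgroupOf] at this
    simpa using this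

/-- `Ctx` form: a largest elementary abelian subgroup of `T` not centralizing `W ≤ V` contains a
transvection on `V` with centre in `W` -/
theorem ctx_exists_tv
    {T L J Q V C F₁ M' : Subgroup G} (ctx : Ctx T L J Q V C F₁ M') (hQdef : Q = pCoreOf 2 L)
    {A : Subgroup G} (hA : A ∈ maxEA 2 T)
    {W : Subgroup G} (hWV : W ≤ V) (hAN : A ≤ normalizer (W : Set G))
    (hAW : ¬ A ≤ centralizer (W : Set G)) :
    ∃ a ∈ A, a * a = 1 ∧ a ∉ centralizer (W : Set G) ∧ ∀ v ∈ V, v * a * v⁻¹ * a⁻¹ ∈ W := by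
  have hVL : V ≤ L := ctx.hVQ.trans ctx.hQL
  obtain ⟨a, haA, haW, hav⟩ := exists_tv_sub ctx.hsolv hVL ctx.hLV ctx.hV2
    (by rw [← hQdef]; exact ctx.hQV)
    (by rw [← hQdef, ← ctx.hCdef]; exact ctx.h1)
    (by rw [← hQdef, ← ctx.hCdef]; exact ctx.h2)
    (hA.1.trans ctx.hTL) hA.2.1.1 (ctx.hT2.to_le hA.1)
    (offender_of_maxEA (ctx.hVQ.trans ctx.hQT) ctx.hV2 hA) hWV hAN hAW
  refine ⟨a, haA, ?_, haW, hav⟩
  have := hA.2.1.2 a haA
  rwa [pow_two] at this

end sub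

end Cfsg.Agent.Lib.Helper10_JCompTv
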