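import Mathlib
import Cfsg.Agent.Lib.Helper10_JCompSub
import Cfsg.Agent.S2941

set_option autoImplicit false
set_option linter.unusedSectionVars false
set_option linter.style.haveILetI false
set_option linter.unusedVariables false

/-!
# Uniqueness of the `J(T)`-component with a given `W_K` inside a member of `ℒ(T)` (helper10)
-/

namespace Cfsg.Agent.Lib.Helper10_JCompUniq

open Cfsg Subgroup
open Cfsg.Agent.S5306 (EA maxEA JJ)
open Cfsg.Agent.Lib.Helper10_JComp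
open Cfsg.Agent.Lib.Helper10_JCompB
open Cfsg.Agent.Lib.Helper10_JCompF
open Cfsg.Agent.Lib.Helper10_JCompSub
open scoped commutatorElement

variable {G : Type*} [Group G] [Finite G]

/-- a component-like subgroup `K` of `L` with module `W`, relative to `J`, `Q`, `V` -/
structure LComp (L J Q V K W : Subgroup G) : Prop where
  hKL : K ≤ L
  hodd : Subgroup.closure {g : G | g ∈ K ∧ Odd (orderOf g)} = K
  hKJ : ⁅K, J⁆ = K
  hQK : Q ≤ normalizer (K : Set G)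
  hWV : W ≤ V
  hW : W = ⁅V, K⁆
  hW4 : Nat.card W = 4
  hW2 : ∀ w ∈ W, w * w = 1
  hirr : ∃ k₀ ∈ K, Odd (orderOf k₀) ∧ ∀ w ∈ W, w ≠ 1 → k₀ * w * k₀⁻¹ ≠ w
  hker : K ⊓ centralizer (W : Set G) ≤ centralizer (V : Set G)
  hPQ : K ⊓ centralizer (W : Set G) ≤ Q

namespace LComp

variable {L J Q V K W : Subgroup G}

theorem hJK (h : LComp L J Q V K W) : J ≤ normalizer (K : Set G) := by
  have := le_normalizer_commutator_right K J
  rwa [h.hKJ] at this

theorem hVK (h : LComp L J Q V K W) {v k : G} (hv : v ∈ V) (hk : k ∈ K) :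
    v * k * v⁻¹ * k⁻¹ ∈ W := by
  rw [h.hW, ← commutatorElement_def]
  exact Subgroup.commutator_mem_commutator hv hk

theorem hKW (h : LComp L J Q V K W) (hLV : L ≤ normalizer (V : Set G)) :
    K ≤ normalizer (W : Set G) := by
  intro k hk
  rw [h.hW]
  exact Cfsg.Agent.Lib.Helper24_CoprimeAction.mem_normalizer_commutator V K (hLV (h.hKL hk))
    (Subgroup.le_normalizer hk)

end LComp

section map

variable {L J Q V K W : Subgroup G}

/-- transport of `LComp` along an automorphism stabilizing `L`, `J`, `Q`, `V` -/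
theorem LComp.map (h : LComp L J Q V K W) (φ : G ≃* G)
    (hL : L.map φ.toMonoidHom = L) (hJ : J.map φ.toMonoidHom = J)
    (hQ : Q.map φ.toMonoidHom = Q) (hV : V.map φ.toMonoidHom = V) :
    LComp L J Q V (K.map φ.toMonoidHom) (W.map φ.toMonoidHom) where
  hKL := by rw [← hL]; exact Subgroup.map_mono h.hKL
  hodd := by
    conv_rhs => rw [← h.hodd]
    rw [MonoidHom.map_closure]
    congr 1
    ext g
    constructor
    · rintro ⟨⟨k, hk, rfl⟩, hodd⟩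
      refine ⟨k, ⟨hk, ?_⟩, rfl⟩
      rwa [MulEquiv.coe_toMonoidHom, MulEquiv.orderOf_eq] at hodd
    · rintro ⟨k, ⟨hk, hodd⟩, rfl⟩
      refine ⟨Subgroup.mem_map_of_mem _ hk, ?_⟩
      rwa [MulEquiv.coe_toMonoidHom, MulEquiv.orderOf_eq]
  hKJ := by
    conv_lhs => rw [← hJ]
    rw [← Subgroup.map_commutator, h.hKJ]
  hQK := by
    conv_lhs => rw [← hQ]
    exact (Subgroup.map_mono h.hQK).trans (Subgroup.le_normalizer_map _)
  hWV := by
    conv_rhs => rw [← hV]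
    exact Subgroup.map_mono h.hWV
  hW := by
    conv_rhs => rw [← hV]
    rw [← Subgroup.map_commutator, ← h.hW]
  hW4 := by
    rw [Subgroup.card_map_of_injective (by exact φ.injective)]
    exact h.hW4
  hW2 := by
    rintro _ ⟨w, hw, rfl⟩
    rw [← map_mul, h.hW2 w hw, map_one]
  hirr := by
    obtain ⟨k₀, hk₀, hodd, hmove⟩ := h.hirr
    refine ⟨φ.toMonoidHom k₀, Subgroup.mem_map_of_mem _ hk₀, ?_, ?_⟩
    · rwa [MulEquiv.coe_toMonoidHom, MulEquiv.orderOf_eq]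
    · rintro _ ⟨w, hw, rfl⟩ hw1
      have hw1' : w ≠ 1 := by
        intro h1
        apply hw1
        rw [h1, map_one]
      intro heq
      apply hmove w hw hw1'
      apply φ.injective
      simpa only [MulEquiv.coe_toMonoidHom, map_mul, map_inv] using heq
  hker := by
    rintro _ ⟨⟨k, hk, rfl⟩, hc⟩
    have hkW : k ∈ centralizer (W : Set G) := by
      rw [Subgroup.mem_centralizer_iff]
      intro w hw
      apply φ.injective
      have hc' : φ.toMonoidHom k ∈ centralizer ((W.map φ.toMonoidHom : Subgroup G) : Set G) := hc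
      rw [Subgroup.mem_centralizer_iff] at hc'
      have := hc' _ (Subgroup.mem_map_of_mem _ hw)
      simpa only [MulEquiv.coe_toMonoidHom, map_mul] using this
    have hkV := h.hker (Subgroup.mem_inf.mpr ⟨hk, hkW⟩)
    show φ.toMonoidHom k ∈ centralizer (V : Set G)
    rw [Subgroup.mem_centralizer_iff] at hkV ⊢
    intro v hv
    rw [← hV] at hv
    obtain ⟨v', hv', rfl⟩ := hv
    rw [← map_mul, ← map_mul, hkV v' hv']
  hPQ := by
    rintro _ ⟨⟨k, hk, rfl⟩, hc⟩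
    have hkW : k ∈ centralizer (W : Set G) := by
      rw [Subgroup.mem_centralizer_iff]
      intro w hw
      apply φ.injective
      have hc' : φ.toMonoidHom k ∈ centralizer ((W.map φ.toMonoidHom : Subgroup G) : Set G) := hc
      rw [Subgroup.mem_centralizer_iff] at hc'
      have := hc' _ (Subgroup.mem_map_of_mem _ hw)
      simpa only [MulEquiv.coe_toMonoidHom, map_mul] using this
    have hkQ := h.hPQ (Subgroup.mem_inf.mpr ⟨hk, hkW⟩)
    rw [← hQ]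
    exact Subgroup.mem_map_of_mem _ hkQ

theorem map_conj_eq {H : Subgroup G} {t : G} (ht : t ∈ normalizer (H : Set G)) :
    H.map (MulAut.conj t).toMonoidHom = H :=
  Subgroup.mem_normalizer_iff_map_conj_eq.mp ht

end map

section ofJ

/-- coprime action: for `g` of odd order normalizing the `2`-group `V`, `[v, g] = [d, g]` with
`d ∈ [V, ⟨g⟩]` -/
theorem commutator_eq_of_odd {V : Subgroup G} (hV2 : IsPGroup 2 V) {g : G}
    (hg : g ∈ normalizer (V : Set G)) (hodd : Odd (orderOf g)) {v : G} (hv : v ∈ V) :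
    ∃ d ∈ ⁅V, zpowers g⁆, v * g * v⁻¹ * g⁻¹ = d * g * d⁻¹ * g⁻¹ := by
  haveI : Fact (Nat.Prime 2) := ⟨Nat.prime_two⟩
  have hAK : zpowers g ≤ normalizer (V : Set G) := Subgroup.zpowers_le.mpr hg
  have hcop : (Nat.card (zpowers g)).Coprime (Nat.card V) := by
    rw [Nat.card_zpowers]
    obtain ⟨n, hn⟩ := IsPGroup.iff_card.mp hV2
    rw [hn]
    exact Nat.Coprime.pow_right n (Nat.coprime_two_right.mpr hodd)
  have hsolv : Group.IsSolvable (zpowers g) := by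
    apply Group.isSolvable_of_comm
    intro a b
    exact mul_comm' a b
  obtain ⟨d, hd, c, hc, rfl⟩ := Cfsg.Agent.Lib.Helper24_CoprimeAction.coprime_decomp
    (zpowers g) V hAK hcop (Or.inl hsolv) hv
  refine ⟨d, hd, ?_⟩
  have hcg : g * c = c * g := by
    have := (Subgroup.mem_inf.mp hc).2
    rw [Subgroup.mem_centralizer_iff] at this
    exact this g (Subgroup.mem_zpowers g)
  calc d * c * g * (d * c)⁻¹ * g⁻¹ = d * (c * g) * c⁻¹ * d⁻¹ * g⁻¹ := by group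
    _ = d * (g * c) * c⁻¹ * d⁻¹ * g⁻¹ := by rw [hcg]
    _ = d * g * d⁻¹ * g⁻¹ := by group

variable {T L Q V C F₁ M' K : Subgroup G}

theorem LComp.of_isJComponent (ctx : Ctx T L (thompsonSubgroupOf 2 T) Q V C F₁ M')
    (hK : IsJComponent T K) (hKL : K ≤ L) (hQK : Q ≤ normalizer (K : Set G)) :
    LComp L (thompsonSubgroupOf 2 T) Q V K (wOf K) := by
  have core := core_of_isJComponent ctx.hT2 hK
  have hKF : K ≤ F₁ := ctx.hFK K hKL core.hodd core.hKJ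
  have hKV : K ≤ normalizer (V : Set G) := hKL.trans ctx.hLV
  have hKW := core.hKW
  -- `O_2(K) ≤ Q`
  have hPQ : pCoreOf 2 K ≤ Q := by
    intro p hp
    obtain ⟨m, hm⟩ := core.hP2 ⟨p, hp⟩
    have hpm : p ^ 2 ^ m = 1 := by simpa using congrArg Subtype.val hm
    have hpK := core.hPK hp
    have h3 : p ^ 3 ∈ C := by
      rw [ctx.hCdef]
      exact Subgroup.mem_inf.mpr ⟨L.pow_mem (hKL hpK) 3, ctx.hF3 p (hKF hpK)⟩
    have h3Q : p ^ 3 ∈ Q := by
      apply ctx.h2 _ h3 m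
      rw [← pow_mul, mul_comm, pow_mul, hpm, one_pow]
    apply mem_of_pow_mem_of_coprime (a := 3) (b := 2 ^ m) _ h3Q (by rw [hpm]; exact Q.one_mem)
    exact Nat.Coprime.pow_right m (by norm_num)
  have hWV : wOf K ≤ V := by
    rw [ctx.hVdef]
    exact W_le_omegaCenterOf core ctx.hQ2 (hQK.trans (normalizer_le_normalizer_wOf K))
      (hKL.trans ctx.hLQ) ctx.hCQ
  -- `[V, K] ≤ Ω₁ Z(O_2(K))`
  have hVKle : ⁅V, K⁆ ≤ omegaCenterOf (pCoreOf 2 K) := by
    have h1 : ⁅V, K⁆ ≤ V :=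
      Cfsg.Agent.Lib.Helper24_CoprimeAction.commutator_le_of_le_normalizer V K hKV
    have h2 : ⁅V, K⁆ ≤ K := by
      rw [Subgroup.commutator_comm]
      exact Cfsg.Agent.Lib.Helper24_CoprimeAction.commutator_le_of_le_normalizer K V
        (ctx.hVQ.trans hQK)
    have h3 : K ⊓ Q ≤ pCoreOf 2 K := by
      apply Cfsg.Agent.Lib.Helper47_SubAPI.le_pCoreOf inf_le_left
      · exact (le_inf Subgroup.le_normalizer (hKL.trans ctx.hLQ)).trans (normalizer_inf_le K Q)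
      · exact ctx.hQ2.to_le inf_le_right
    intro x hx
    have hxV := h1 hx
    have hxP : x ∈ pCoreOf 2 K := h3 (Subgroup.mem_inf.mpr ⟨h2 hx, ctx.hVQ hxV⟩)
    apply mem_omegaCenterOf hxP _ (ctx.hV2 x hxV)
    have := ctx.hVZ hxV
    rw [Subgroup.mem_centralizer_iff] at this ⊢
    intro q hq
    exact this q (hPQ hq)
  have hVKW : ∀ k ∈ K, ∀ v ∈ V, v * k * v⁻¹ * k⁻¹ ∈ wOf K := by
    have hV2g : IsPGroup 2 V := ctx.hQ2.to_le ctx.hVQ
    intro k hk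
    have hk' : k ∈ Subgroup.closure {g : G | g ∈ K ∧ Odd (orderOf g)} := by
      rw [core.hodd]; exact hk
    induction hk' using Subgroup.closure_induction with
    | mem g hg =>
      intro v hv
      obtain ⟨d, hd, e⟩ := commutator_eq_of_odd hV2g (hKV hg.1) hg.2 hv
      rw [e, ← commutatorElement_def]
      have hdV : d ∈ omegaCenterOf (pCoreOf 2 K) :=
        hVKle (Subgroup.commutator_mono le_rfl (Subgroup.zpowers_le.mpr hg.1) hd)
      exact Subgroup.commutator_mem_commutator hdV hg.1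
    | one =>
      intro v hv
      have : v * 1 * v⁻¹ * (1 : G)⁻¹ = 1 := by group
      rw [this]; exact Subgroup.one_mem _
    | mul x y hx hy ihx ihy =>
      intro v hv
      rw [core.hodd] at hx hy
      have e : v * (x * y) * v⁻¹ * (x * y)⁻¹ =
          (v * x * v⁻¹ * x⁻¹) * (x * (v * y * v⁻¹ * y⁻¹) * x⁻¹) := by group
      rw [e]
      exact Subgroup.mul_mem _ (ihx hx v hv)
        (conj_mem_of_mem_normalizer (hKW hx) (ihy hy v hv))
    | inv x hx ihx =>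
      intro v hv
      rw [core.hodd] at hx
      have e : v * x⁻¹ * v⁻¹ * x⁻¹⁻¹ = x⁻¹ * (v * x * v⁻¹ * x⁻¹)⁻¹ * x⁻¹⁻¹ := by group
      rw [e]
      exact conj_mem_of_mem_normalizer (hKW (K.inv_mem hx)) (Subgroup.inv_mem _ (ihx hx v hv))
  obtain ⟨k₀, hk₀, hodd₀, hk₀P⟩ := core.exists_k₀
  have hmove := core.k₀_moves hk₀ hodd₀ hk₀P
  have hWeq : wOf K = ⁅V, K⁆ := by
    apply le_antisymm
    · -- a nonidentity element of `W`
      obtain ⟨w, hw, hw1⟩ : ∃ w ∈ wOf K, w ≠ 1 := by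
        by_contra hcon
        push Not at hcon
        have hbot : wOf K = ⊥ := by
          rw [eq_bot_iff]
          intro x hx
          exact Subgroup.mem_bot.mpr (hcon x hx)
        have := core.hW4
        rw [hbot, Subgroup.card_bot] at this
        omega
      have hkw : k₀ * w * k₀⁻¹ ∈ wOf K := conj_mem_of_mem_normalizer (hKW hk₀) hw
      have hu₁U : w * k₀ * w⁻¹ * k₀⁻¹ ∈ ⁅V, K⁆ := by
        rw [← commutatorElement_def]
        exact Subgroup.commutator_mem_commutator (hWV hw) hk₀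
      have hu₁W : w * k₀ * w⁻¹ * k₀⁻¹ ∈ wOf K := by
        have e : w * k₀ * w⁻¹ * k₀⁻¹ = w * (k₀ * w * k₀⁻¹)⁻¹ := by group
        rw [e]
        exact Subgroup.mul_mem _ hw (Subgroup.inv_mem _ hkw)
      have hu₁1 : w * k₀ * w⁻¹ * k₀⁻¹ ≠ 1 := by
        intro h
        apply hmove w hw hw1
        calc k₀ * w * k₀⁻¹ = (w * k₀ * w⁻¹ * k₀⁻¹)⁻¹ * w := by group
          _ = w := by rw [h, inv_one, one_mul]
      have hk₀U : k₀ ∈ normalizer ((⁅V, K⁆ : Subgroup G) : Set G) :=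
        Cfsg.Agent.Lib.Helper24_CoprimeAction.mem_normalizer_commutator V K (hKV hk₀)
          (Subgroup.le_normalizer hk₀)
      have hu₂U : k₀ * (w * k₀ * w⁻¹ * k₀⁻¹) * k₀⁻¹ ∈ ⁅V, K⁆ :=
        conj_mem_of_mem_normalizer hk₀U hu₁U
      have hu₂W : k₀ * (w * k₀ * w⁻¹ * k₀⁻¹) * k₀⁻¹ ∈ wOf K :=
        conj_mem_of_mem_normalizer (hKW hk₀) hu₁W
      have hu₂1 : k₀ * (w * k₀ * w⁻¹ * k₀⁻¹) * k₀⁻¹ ≠ 1 := by
        intro h
        apply hu₁1
        calc w * k₀ * w⁻¹ * k₀⁻¹ = k₀⁻¹ * (k₀ * (w * k₀ * w⁻¹ * k₀⁻¹) * k₀⁻¹) * k₀ := by group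
          _ = 1 := by rw [h]; group
      have hu₂u₁ : k₀ * (w * k₀ * w⁻¹ * k₀⁻¹) * k₀⁻¹ ≠ w * k₀ * w⁻¹ * k₀⁻¹ :=
        hmove _ hu₁W hu₁1
      intro x hx
      rcases four_basis core.hW4 core.hW2 hu₁W hu₁1 hu₂W hu₂1 hu₂u₁ x hx with h | h | h | h
      · rw [h]; exact Subgroup.one_mem _
      · rw [h]; exact hu₁U
      · rw [h]; exact hu₂U
      · rw [h]; exact Subgroup.mul_mem _ hu₂U hu₁U
    · rw [Subgroup.commutator_le]
      intro v hv k hk
      rw [commutatorElement_def]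
      exact hVKW k hk v hv
  exact
    { hKL := hKL
      hodd := core.hodd
      hKJ := core.hKJ
      hQK := hQK
      hWV := hWV
      hW := hWeq
      hW4 := core.hW4
      hW2 := core.hW2
      hirr := ⟨k₀, hk₀, hodd₀, hmove⟩
      hker := by
        rw [core.K_inf]
        exact hPQ.trans ctx.hQV
      hPQ := by
        rw [core.K_inf]
        exact hPQ }

end ofJ

section uniq

theorem comm_of_sq_comm {k a : G} (hodd : Odd (orderOf k)) (h : k ^ 2 * a = a * k ^ 2) :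
    k * a = a * k := by
  obtain ⟨j, hj⟩ := hodd
  have e : k = (k ^ 2) ^ (j + 1) := by
    rw [← pow_mul, mul_add, mul_one, show 2 * j + 2 = (2 * j + 1) + 1 from rfl, ← hj, pow_succ,
      pow_orderOf_eq_one, one_mul]
  have hc : Commute (k ^ 2) a := h
  have := (hc.pow_left (j + 1)).eq
  rw [← e] at this
  exact this

/-- an odd-order element moving all nonidentity elements of a four-group is transitive on them -/
theorem exists_conj_eq {W : Subgroup G} (hW4 : Nat.card W = 4) (hW2 : ∀ w ∈ W, w * w = 1)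
    {k₀ : G} (hk₀ : k₀ ∈ normalizer (W : Set G)) (hodd : Odd (orderOf k₀))
    (hmove : ∀ w ∈ W, w ≠ 1 → k₀ * w * k₀⁻¹ ≠ w) {w a : G} (hw : w ∈ W) (hw1 : w ≠ 1)
    (ha : a ∈ W) (ha1 : a ≠ 1) : ∃ g ∈ zpowers k₀, g * w * g⁻¹ = a := by
  have hb : k₀ * w * k₀⁻¹ ∈ W := conj_mem_of_mem_normalizer hk₀ hw
  have hbw : k₀ * w * k₀⁻¹ ≠ w := hmove w hw hw1
  have hb1 : k₀ * w * k₀⁻¹ ≠ 1 := by
    intro h
    apply hw1
    calc w = k₀⁻¹ * (k₀ * w * k₀⁻¹) * k₀ := by group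
      _ = 1 := by rw [h]; group
  have hc : k₀ * (k₀ * w * k₀⁻¹) * k₀⁻¹ ∈ W := conj_mem_of_mem_normalizer hk₀ hb
  have hcb : k₀ * (k₀ * w * k₀⁻¹) * k₀⁻¹ ≠ k₀ * w * k₀⁻¹ := hmove _ hb hb1
  have hc1 : k₀ * (k₀ * w * k₀⁻¹) * k₀⁻¹ ≠ 1 := by
    intro h
    apply hb1
    calc k₀ * w * k₀⁻¹ = k₀⁻¹ * (k₀ * (k₀ * w * k₀⁻¹) * k₀⁻¹) * k₀ := by group
      _ = 1 := by rw [h]; group
  have hcw : k₀ * (k₀ * w * k₀⁻¹) * k₀⁻¹ ≠ w := by
    intro h
    apply hbw
    have h2 : k₀ ^ 2 * w = w * k₀ ^ 2 := by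
      rw [pow_two]
      calc k₀ * k₀ * w = (k₀ * (k₀ * w * k₀⁻¹) * k₀⁻¹) * (k₀ * k₀) := by group
        _ = w * (k₀ * k₀) := by rw [h]
    have h3 := comm_of_sq_comm hodd h2
    calc k₀ * w * k₀⁻¹ = (w * k₀) * k₀⁻¹ := by rw [h3]
      _ = w := by group
  have hk₀z : k₀ ∈ zpowers k₀ := Subgroup.mem_zpowers k₀
  rcases four_basis hW4 hW2 hw hw1 hb hb1 hbw a ha with h | h | h | h
  · exact absurd h ha1
  · exact ⟨1, Subgroup.one_mem _, by rw [h]; group⟩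
  · exact ⟨k₀, hk₀z, h.symm⟩
  · refine ⟨k₀ * k₀, Subgroup.mul_mem _ hk₀z hk₀z, ?_⟩
    rcases four_basis hW4 hW2 hw hw1 hb hb1 hbw _ hc with h' | h' | h' | h'
    · exact absurd h' hc1
    · exact absurd h' hcw
    · exact absurd h' hcb
    · rw [h, ← h']; group

/-- an element centralizing `W` and acting trivially on `V / W` has its square centralizing `V`
(`W` of exponent `2`) -/
theorem sq_mem_centralizer_of_triv {V W : Subgroup G} (hW2 : ∀ w ∈ W, w * w = 1) {y : G}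
    (hyCW : y ∈ centralizer (W : Set G))
    (htriv : ∀ v ∈ V, v * y * v⁻¹ * y⁻¹ ∈ W) : y * y ∈ centralizer (V : Set G) := by
  rw [Subgroup.mem_centralizer_iff]
  intro v hv
  obtain ⟨u, hudef⟩ : ∃ u : G, u = v⁻¹ * y * v * y⁻¹ := ⟨_, rfl⟩
  have hu : u ∈ W := by
    have := htriv v⁻¹ (V.inv_mem hv)
    rw [inv_inv] at this
    rw [hudef]; exact this
  rw [Subgroup.mem_centralizer_iff] at hyCW
  have hcu := hyCW u hu
  have huu := hW2 u hu
  have e1 : y * v * y⁻¹ = v * u := by rw [hudef]; group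
  have e2 : y * u * y⁻¹ = u := by
    calc y * u * y⁻¹ = (u * y) * y⁻¹ := by rw [hcu]
      _ = u := by group
  have e3 : y * (y * v * y⁻¹) * y⁻¹ = v := by
    rw [e1]
    calc y * (v * u) * y⁻¹ = (y * v * y⁻¹) * (y * u * y⁻¹) := by group
      _ = v * u * u := by rw [e1, e2]
      _ = v := by rw [mul_assoc, huu, mul_one]
  calc v * (y * y) = (y * (y * v * y⁻¹) * y⁻¹) * (y * y) := by rw [e3]
    _ = (y * y) * v := by group

variable {T L J Q V C F₁ M' : Subgroup G} (ctx : Ctx T L J Q V C F₁ M')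
include ctx

theorem LComp.le_F₁ {K W : Subgroup G} (h : LComp L J Q V K W) : K ≤ F₁ :=
  ctx.hFK K h.hKL h.hodd h.hKJ

/-- `F₁` normalizes `W = [V, K]`. -/
theorem LComp.F₁_le_normalizer {K W : Subgroup G} (h : LComp L J Q V K W) :
    F₁ ≤ normalizer (W : Set G) := by
  have hKF := h.le_F₁ ctx
  apply le_normalizer_of_conj_mem
  intro x hx w hw
  have hle : W ≤ W.comap (MulAut.conj x).toMonoidHom := by
    conv_lhs => rw [h.hW]
    rw [Subgroup.commutator_le]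
    intro v hv k hk
    rw [Subgroup.mem_comap]
    have hv' : x * v * x⁻¹ ∈ V := conj_mem_of_mem_normalizer (ctx.hLV (ctx.hF₁L hx)) hv
    have hc : x * k * x⁻¹ * k⁻¹ ∈ centralizer (V : Set G) := by
      have := ctx.hFc x hx k (hKF hk)
      rwa [commutatorElement_def] at this
    have hu : (x * v * x⁻¹) * k * (x * v * x⁻¹)⁻¹ * k⁻¹ ∈ W := h.hVK hv' hk
    rw [Subgroup.mem_centralizer_iff] at hc
    have hcv := hc _ hv'
    have hcu := hc _ (h.hWV hu)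
    have e : (MulAut.conj x).toMonoidHom ⁅v, k⁆ =
        (x * v * x⁻¹) * k * (x * v * x⁻¹)⁻¹ * k⁻¹ := by
      simp only [MulEquiv.coe_toMonoidHom, MulAut.conj_apply, commutatorElement_def]
      calc x * (v * k * v⁻¹ * k⁻¹) * x⁻¹
          = ((x * v * x⁻¹) * (x * k * x⁻¹ * k⁻¹)) * k * (x * v * x⁻¹)⁻¹ * k⁻¹ *
            (x * k * x⁻¹ * k⁻¹)⁻¹ := by group
        _ = ((x * k * x⁻¹ * k⁻¹) * (x * v * x⁻¹)) * k * (x * v * x⁻¹)⁻¹ * k⁻¹ *
            (x * k * x⁻¹ * k⁻¹)⁻¹ := by rw [hcv]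
        _ = (x * k * x⁻¹ * k⁻¹) * ((x * v * x⁻¹) * k * (x * v * x⁻¹)⁻¹ * k⁻¹) *
            (x * k * x⁻¹ * k⁻¹)⁻¹ := by group
        _ = ((x * v * x⁻¹) * k * (x * v * x⁻¹)⁻¹ * k⁻¹) * (x * k * x⁻¹ * k⁻¹) *
            (x * k * x⁻¹ * k⁻¹)⁻¹ := by rw [← hcu]
        _ = (x * v * x⁻¹) * k * (x * v * x⁻¹)⁻¹ * k⁻¹ := by group
    rw [e]
    exact hu
  have := hle hw
  rw [Subgroup.mem_comap] at this
  simpa only [MulEquiv.coe_toMonoidHom, MulAut.conj_apply] using this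

theorem LComp.W_eq {K₁ W₁ K₂ W₂ : Subgroup G} (h₁ : LComp L J Q V K₁ W₁)
    (h₂ : LComp L J Q V K₂ W₂) (hne : W₁ ⊓ W₂ ≠ ⊥) : W₁ = W₂ := by
  obtain ⟨⟨x, hx⟩, hx1⟩ := (Subgroup.ne_bot_iff_exists_ne_one).mp hne
  have hx1' : x ≠ 1 := fun h => hx1 (Subtype.ext h)
  obtain ⟨hxW₁, hxW₂⟩ := Subgroup.mem_inf.mp hx
  obtain ⟨k₀, hk₀, hodd, hmove⟩ := h₁.hirr
  have hy₁ : k₀ * x * k₀⁻¹ ∈ W₁ := conj_mem_of_mem_normalizer (h₁.hKW ctx.hLV hk₀) hxW₁
  have hy₂ : k₀ * x * k₀⁻¹ ∈ W₂ :=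
    conj_mem_of_mem_normalizer (h₂.F₁_le_normalizer ctx (h₁.le_F₁ ctx hk₀)) hxW₂
  have hyx : k₀ * x * k₀⁻¹ ≠ x := hmove x hxW₁ hx1'
  have hy1 : k₀ * x * k₀⁻¹ ≠ 1 := by
    intro h
    apply hx1'
    calc x = k₀⁻¹ * (k₀ * x * k₀⁻¹) * k₀ := by group
      _ = 1 := by rw [h]; group
  have hle : W₁ ≤ W₂ := by
    intro w hw
    rcases four_basis h₁.hW4 h₁.hW2 hxW₁ hx1' hy₁ hy1 hyx w hw with h | h | h | h
    · rw [h]; exact W₂.one_mem
    · rw [h]; exact hxW₂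
    · rw [h]; exact hy₂
    · rw [h]; exact W₂.mul_mem hy₂ hxW₂
  exact Subgroup.eq_of_le_of_card_ge hle (by rw [h₁.hW4, h₂.hW4])

/-- an element of `F₁` normalizing `W`, fixing a nonidentity element of `W` and acting trivially
on `V / W` centralizes `V` -/
theorem mem_centralizer_V {W : Subgroup G} (hWV : W ≤ V) (hW4 : Nat.card W = 4)
    (hW2 : ∀ w ∈ W, w * w = 1) {y : G} (hyF : y ∈ F₁) (hyW : y ∈ normalizer (W : Set G))
    {w : G} (hw : w ∈ W) (hw1 : w ≠ 1) (hfix : y * w * y⁻¹ = w)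
    (htriv : ∀ v ∈ V, v * y * v⁻¹ * y⁻¹ ∈ W) : y ∈ centralizer (V : Set G) := by
  have hy3 : y * y * y ∈ centralizer (V : Set G) := by
    have := ctx.hF3 y hyF
    rwa [pow_succ, pow_succ, pow_one] at this
  -- `y` centralizes `W`
  have hyCW : y ∈ centralizer (W : Set G) := by
    obtain ⟨w', hw', hw'1, hw'w⟩ := four_exists_u hW4 hw (hW2 w hw) hw1
    have hyw : y * w = w * y := by
      calc y * w = (y * w * y⁻¹) * y := by group
        _ = w * y := by rw [hfix]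
    have hyw' : y * w' * y⁻¹ ∈ W := conj_mem_of_mem_normalizer hyW hw'
    apply mem_centralizer_of_basis hW4 hW2 hw hw1 hw' hw'1 hw'w hyw
    rcases four_basis hW4 hW2 hw hw1 hw' hw'1 hw'w _ hyw' with h | h | h | h
    · exfalso
      apply hw'1
      calc w' = y⁻¹ * (y * w' * y⁻¹) * y := by group
        _ = 1 := by rw [h]; group
    · exfalso
      apply hw'w
      calc w' = y⁻¹ * (y * w' * y⁻¹) * y := by group
        _ = y⁻¹ * (w * y) := by rw [h]; group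
        _ = y⁻¹ * (y * w) := by rw [hyw]
        _ = w := by group
    · calc y * w' = (y * w' * y⁻¹) * y := by group
        _ = w' * y := by rw [h]
    · exfalso
      -- then `y ^ 3` would move `w'`
      have h2 : y * (y * w' * y⁻¹) * y⁻¹ = w' := by
        calc y * (y * w' * y⁻¹) * y⁻¹ = y * (w' * w) * y⁻¹ := by rw [h]
          _ = (y * w' * y⁻¹) * (y * w * y⁻¹) := by group
          _ = w' * w * w := by rw [h, hfix]
          _ = w' * (w * w) := by group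
          _ = w' := by rw [hW2 w hw, mul_one]
      have h3 : y * (y * (y * w' * y⁻¹) * y⁻¹) * y⁻¹ = w' * w := by rw [h2, h]
      rw [Subgroup.mem_centralizer_iff] at hy3
      have h4 := hy3 w' (hWV hw')
      have h5 : y * (y * (y * w' * y⁻¹) * y⁻¹) * y⁻¹ = w' := by
        calc y * (y * (y * w' * y⁻¹) * y⁻¹) * y⁻¹ = (y * y * y * w') * (y * y * y)⁻¹ := by group
          _ = (w' * (y * y * y)) * (y * y * y)⁻¹ := by rw [← h4]
          _ = w' := by group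
      rw [h5] at h3
      apply hw1
      calc w = w'⁻¹ * (w' * w) := by group
        _ = 1 := by rw [← h3]; group
  -- `y * y` centralizes `V`
  have hy2 : y * y ∈ centralizer (V : Set G) := by
    rw [Subgroup.mem_centralizer_iff]
    intro v hv
    obtain ⟨u, hudef⟩ : ∃ u : G, u = v⁻¹ * y * v * y⁻¹ := ⟨_, rfl⟩
    have hu : u ∈ W := by
      have := htriv v⁻¹ (V.inv_mem hv)
      rw [inv_inv] at this
      rw [hudef]; exact this
    rw [Subgroup.mem_centralizer_iff] at hyCW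
    have hcu := hyCW u hu
    have huu := hW2 u hu
    have e1 : y * v * y⁻¹ = v * u := by rw [hudef]; group
    have e2 : y * u * y⁻¹ = u := by
      calc y * u * y⁻¹ = (u * y) * y⁻¹ := by rw [hcu]
        _ = u := by group
    have e3 : y * (y * v * y⁻¹) * y⁻¹ = v := by
      rw [e1]
      calc y * (v * u) * y⁻¹ = (y * v * y⁻¹) * (y * u * y⁻¹) := by group
        _ = v * u * u := by rw [e1, e2]
        _ = v := by rw [mul_assoc, huu, mul_one]
    calc v * (y * y) = (y * (y * v * y⁻¹) * y⁻¹) * (y * y) := by rw [e3]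
      _ = (y * y) * v := by group
  have e : y = (y * y * y) * (y * y)⁻¹ := by group
  rw [e]
  exact Subgroup.mul_mem _ hy3 (Subgroup.inv_mem _ hy2)

/-- an element of `F₁` normalizing `W` and acting trivially on `V / W` agrees with a power of
`k₀` modulo `C = C_L(V)` -/
theorem LComp.exists_mul_aux {K₁ W : Subgroup G} (h₁ : LComp L J Q V K₁ W) {k₀ : G}
    (hk₀ : k₀ ∈ K₁) (hodd : Odd (orderOf k₀)) (hmove : ∀ w ∈ W, w ≠ 1 → k₀ * w * k₀⁻¹ ≠ w)
    {k : G} (hkF : k ∈ F₁) (hkW : k ∈ normalizer (W : Set G))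
    (hkV : ∀ v ∈ V, v * k * v⁻¹ * k⁻¹ ∈ W) : ∃ g ∈ zpowers k₀, ∃ c ∈ C, k = g * c := by
  have hK₁W := h₁.hKW ctx.hLV
  -- a nonidentity element of `W`
  obtain ⟨w, hw, hw1⟩ : ∃ w ∈ W, w ≠ 1 := by
    by_contra hcon
    push Not at hcon
    have hbot : W = ⊥ := by
      rw [eq_bot_iff]
      intro x hx
      exact Subgroup.mem_bot.mpr (hcon x hx)
    have := h₁.hW4
    rw [hbot, Subgroup.card_bot] at this
    omega
  have ha : k * w * k⁻¹ ∈ W := conj_mem_of_mem_normalizer hkW hw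
  have ha1 : k * w * k⁻¹ ≠ 1 := by
    intro h
    apply hw1
    calc w = k⁻¹ * (k * w * k⁻¹) * k := by group
      _ = 1 := by rw [h]; group
  obtain ⟨g, hgz, hg⟩ := exists_conj_eq h₁.hW4 h₁.hW2 (hK₁W hk₀) hodd hmove hw hw1 ha ha1
  have hgK : g ∈ K₁ := (Subgroup.zpowers_le.mpr hk₀) hgz
  have hgiK : g⁻¹ ∈ K₁ := K₁.inv_mem hgK
  have hyF : g⁻¹ * k ∈ F₁ := F₁.mul_mem (h₁.le_F₁ ctx hgiK) hkF
  have hyW : g⁻¹ * k ∈ normalizer (W : Set G) :=
    Subgroup.mul_mem _ (hK₁W hgiK) hkW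
  have hfix : (g⁻¹ * k) * w * (g⁻¹ * k)⁻¹ = w := by
    calc (g⁻¹ * k) * w * (g⁻¹ * k)⁻¹ = g⁻¹ * (k * w * k⁻¹) * g := by group
      _ = g⁻¹ * (g * w * g⁻¹) * g := by rw [hg]
      _ = w := by group
  have htriv : ∀ v ∈ V, v * (g⁻¹ * k) * v⁻¹ * (g⁻¹ * k)⁻¹ ∈ W := by
    intro v hv
    have e1 : v * g⁻¹ * v⁻¹ * (g⁻¹)⁻¹ ∈ W := h₁.hVK hv hgiK
    have e2 : v * k * v⁻¹ * k⁻¹ ∈ W := hkV v hv
    have e3 : g⁻¹ * (v * k * v⁻¹ * k⁻¹) * (g⁻¹)⁻¹ ∈ W :=
      conj_mem_of_mem_normalizer (hK₁W hgiK) e2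
    have e : v * (g⁻¹ * k) * v⁻¹ * (g⁻¹ * k)⁻¹ =
        (v * g⁻¹ * v⁻¹ * (g⁻¹)⁻¹) * (g⁻¹ * (v * k * v⁻¹ * k⁻¹) * (g⁻¹)⁻¹) := by group
    rw [e]
    exact W.mul_mem e1 e3
  have hyV := mem_centralizer_V ctx h₁.hWV h₁.hW4 h₁.hW2 hyF hyW hw hw1 hfix htriv
  refine ⟨g, hgz, g⁻¹ * k, ?_, by group⟩
  rw [ctx.hCdef]
  exact Subgroup.mem_inf.mpr ⟨ctx.hF₁L hyF, hyV⟩

/-- two component-like subgroups with the same module agree modulo `C = C_L(V)` -/
theorem LComp.exists_mul {K₁ K₂ W : Subgroup G} (h₁ : LComp L J Q V K₁ W)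
    (h₂ : LComp L J Q V K₂ W) {k : G} (hk : k ∈ K₂) : ∃ g ∈ K₁, ∃ c ∈ C, k = g * c := by
  obtain ⟨k₀, hk₀, hodd, hmove⟩ := h₁.hirr
  obtain ⟨g, hg, c, hc, e⟩ := h₁.exists_mul_aux ctx hk₀ hodd hmove (h₂.le_F₁ ctx hk)
    (h₂.hKW ctx.hLV hk) (fun v hv => h₂.hVK hv hk)
  exact ⟨g, (Subgroup.zpowers_le.mpr hk₀) hg, c, hc, e⟩

theorem LComp.le_sup_Q {K₁ K₂ W : Subgroup G} (h₁ : LComp L J Q V K₁ W)
    (h₂ : LComp L J Q V K₂ W) : K₂ ≤ K₁ ⊔ Q := by
  conv_lhs => rw [← h₂.hKJ]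
  rw [Subgroup.commutator_le]
  intro x hx j hj
  obtain ⟨g, hg, c, hc, rfl⟩ := h₁.exists_mul ctx h₂ hx
  have hq : j * c * j⁻¹ * c⁻¹ ∈ Q := ctx.hM'mem j (ctx.hTM (ctx.hJT hj)) c hc
  have hq' : g * (j * c * j⁻¹ * c⁻¹)⁻¹ * g⁻¹ ∈ Q :=
    conj_mem_of_mem_normalizer (ctx.hLQ (h₁.hKL hg)) (Q.inv_mem hq)
  have hk : g * j * g⁻¹ * j⁻¹ ∈ K₁ := by
    have : ⁅g, j⁆ ∈ ⁅K₁, J⁆ := Subgroup.commutator_mem_commutator hg hj
    rw [h₁.hKJ, commutatorElement_def] at this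
    exact this
  have e : ⁅g * c, j⁆ = (g * (j * c * j⁻¹ * c⁻¹)⁻¹ * g⁻¹) * (g * j * g⁻¹ * j⁻¹) := by
    rw [commutatorElement_def]; group
  rw [e]
  exact Subgroup.mul_mem _ (Subgroup.mem_sup_right hq') (Subgroup.mem_sup_left hk)

theorem LComp.le_of_W_eq {K₁ K₂ W : Subgroup G} (h₁ : LComp L J Q V K₁ W)
    (h₂ : LComp L J Q V K₂ W) : K₂ ≤ K₁ := by
  conv_lhs => rw [← h₂.hodd]
  rw [Subgroup.closure_le]
  rintro g ⟨hg, hodd⟩
  exact Cfsg.Agent.S2941.odd_mem_of_sup K₁ Q ctx.hQ2 h₁.hQK g (h₁.le_sup_Q ctx h₂ hg) hodd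

theorem LComp.eq_of_inf_ne_bot {K₁ W₁ K₂ W₂ : Subgroup G} (h₁ : LComp L J Q V K₁ W₁)
    (h₂ : LComp L J Q V K₂ W₂) (hne : W₁ ⊓ W₂ ≠ ⊥) : K₁ = K₂ := by
  have hW := h₁.W_eq ctx h₂ hne
  subst hW
  exact le_antisymm (h₂.le_of_W_eq ctx h₁) (h₁.le_of_W_eq ctx h₂)

end uniq

end Cfsg.Agent.Lib.Helper10_JCompUniq
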