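import Mathlib
import Cfsg.Agent.Lib.Helper10_JCompUniq
import Cfsg.Agent.Lib.Helper10_JCompTv

set_option autoImplicit false
set_option linter.unusedSectionVars false
set_option linter.style.haveILetI false
set_option linter.unusedVariables false

/-!
# Normality of a `J`-component in the normalizer of its module (helper10)
-/

namespace Cfsg.Agent.Lib.Helper10_JCompNorm

open Cfsg Subgroup
open Cfsg.Agent.S5306 (EA maxEA JJ)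
open Cfsg.Agent.Lib.Helper10_JComp
open Cfsg.Agent.Lib.Helper10_JCompB
open Cfsg.Agent.Lib.Helper10_JCompD
open Cfsg.Agent.Lib.Helper10_JCompF
open Cfsg.Agent.Lib.Helper10_JCompSub
open Cfsg.Agent.Lib.Helper10_JCompUniq
open scoped commutatorElement

section abstract

variable {H : Type*} [Group H]

theorem conj_pow_aux {y g d : H} (hyg : y * g * y⁻¹ = g * d) (hyd : y * d = d * y) :
    ∀ n : ℕ, y ^ n * g * (y ^ n)⁻¹ = g * d ^ n := by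
  intro n
  induction n with
  | zero => simp
  | succ n ih =>
    have hc : Commute (y ^ n) d := (show Commute y d from hyd).pow_left n
    have e1 : y ^ n * d * (y ^ n)⁻¹ = d := by
      rw [hc.eq]; group
    calc y ^ (n + 1) * g * (y ^ (n + 1))⁻¹
        = y ^ n * (y * g * y⁻¹) * (y ^ n)⁻¹ := by rw [pow_succ]; group
      _ = y ^ n * (g * d) * (y ^ n)⁻¹ := by rw [hyg]
      _ = (y ^ n * g * (y ^ n)⁻¹) * (y ^ n * d * (y ^ n)⁻¹) := by group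
      _ = (g * d ^ n) * d := by rw [ih, e1]
      _ = g * d ^ (n + 1) := by rw [pow_succ, mul_assoc]

/-- the computation modulo `Q` -/
theorem calc_key {j j' g₁ c₁ g : H}
    (hjc : j * c₁ = c₁ * j) (hj'c : j' * c₁ = c₁ * j') (hg₁c : g₁ * c₁ = c₁ * g₁)
    (hgc : g * c₁ = c₁ * g) (hgg₁ : g * g₁ = g₁ * g)
    (hjg₁ : j * g₁ * j⁻¹ = g₁⁻¹)
    (hj'k' : j' * (g₁ * c₁) * j'⁻¹ = (g₁ * c₁)⁻¹)
    (hy4 : (g⁻¹ * (j * j')) ^ 4 * g₁ = g₁ * (g⁻¹ * (j * j')) ^ 4) :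
    c₁ ^ 8 = 1 := by
  obtain ⟨d, hd⟩ : ∃ d : H, d = c₁⁻¹ * c₁⁻¹ := ⟨_, rfl⟩
  have hcj : Commute j c₁ := hjc
  have hcj' : Commute j' c₁ := hj'c
  have hcg₁ : Commute g₁ c₁ := hg₁c
  have hcg : Commute g c₁ := hgc
  have e1 : j' * c₁⁻¹ * j'⁻¹ = c₁⁻¹ := by
    rw [(hcj'.inv_right).eq]; group
  have e2 : j' * g₁ * j'⁻¹ = g₁⁻¹ * d := by
    calc j' * g₁ * j'⁻¹ = (j' * (g₁ * c₁) * j'⁻¹) * (j' * c₁⁻¹ * j'⁻¹) := by group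
      _ = (g₁ * c₁)⁻¹ * c₁⁻¹ := by rw [hj'k', e1]
      _ = c₁⁻¹ * g₁⁻¹ * c₁⁻¹ := by group
      _ = g₁⁻¹ * c₁⁻¹ * c₁⁻¹ := by rw [(hcg₁.inv_left.inv_right).eq.symm]
      _ = g₁⁻¹ * d := by rw [hd, mul_assoc]
  have hjd : j * d * j⁻¹ = d := by
    have : Commute j d := by rw [hd]; exact hcj.inv_right.mul_right hcj.inv_right
    rw [this.eq]; group
  have e3 : j * (g₁⁻¹ * d) * j⁻¹ = g₁ * d := by
    calc j * (g₁⁻¹ * d) * j⁻¹ = (j * g₁ * j⁻¹)⁻¹ * (j * d * j⁻¹) := by group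
      _ = g₁ * d := by rw [hjg₁, hjd, inv_inv]
  have hgd : Commute g d := by rw [hd]; exact hcg.inv_right.mul_right hcg.inv_right
  have hg₁d : Commute g₁ d := by rw [hd]; exact hcg₁.inv_right.mul_right hcg₁.inv_right
  have hj'd : Commute j' d := by rw [hd]; exact hcj'.inv_right.mul_right hcj'.inv_right
  have hjd' : Commute j d := by rw [hd]; exact hcj.inv_right.mul_right hcj.inv_right
  have e4 : (g⁻¹ * (j * j')) * g₁ * (g⁻¹ * (j * j'))⁻¹ = g₁ * d := by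
    calc (g⁻¹ * (j * j')) * g₁ * (g⁻¹ * (j * j'))⁻¹
        = g⁻¹ * (j * (j' * g₁ * j'⁻¹) * j⁻¹) * g := by group
      _ = g⁻¹ * (g₁ * d) * g := by rw [e2, e3]
      _ = g⁻¹ * g₁ * (d * g) := by group
      _ = g⁻¹ * g₁ * (g * d) := by rw [hgd.eq]
      _ = g⁻¹ * (g₁ * g) * d := by group
      _ = g⁻¹ * (g * g₁) * d := by rw [hgg₁]
      _ = g₁ * d := by group
  have e5 : (g⁻¹ * (j * j')) * d = d * (g⁻¹ * (j * j')) :=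
    ((hgd.inv_left).mul_left (hjd'.mul_left hj'd)).eq
  have e6 := conj_pow_aux e4 e5 4
  have e7 : (g⁻¹ * (j * j')) ^ 4 * g₁ * ((g⁻¹ * (j * j')) ^ 4)⁻¹ = g₁ := by
    rw [hy4]; group
  rw [e7] at e6
  have e8 : d ^ 4 = 1 := by
    have := congrArg (fun z => g₁⁻¹ * z) e6
    simp only [inv_mul_cancel, inv_mul_cancel_left] at this
    exact this.symm
  have e9 : d = (c₁ ^ 2)⁻¹ := by rw [hd, pow_two, mul_inv_rev]
  rw [e9, inv_pow, inv_eq_one, ← pow_mul] at e8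
  exact e8

end abstract

section wstruct

variable {G : Type*} [Group G] [Finite G]

/-- the action of an involution `j` and an odd-order element `k₀` on a four-group `W` -/
theorem W_struct {W : Subgroup G} (hW4 : Nat.card W = 4) (hW2 : ∀ w ∈ W, w * w = 1)
    {k₀ : G} (hk₀ : k₀ ∈ normalizer (W : Set G)) (hodd : Odd (orderOf k₀))
    (hmove : ∀ w ∈ W, w ≠ 1 → k₀ * w * k₀⁻¹ ≠ w)
    {j : G} (hj : j ∈ normalizer (W : Set G)) (hj2 : j * j = 1)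
    (hjW : j ∉ centralizer (W : Set G)) :
    ∃ w₁ ∈ W, ∃ w₂ ∈ W, w₁ ≠ 1 ∧ w₂ ≠ 1 ∧ w₂ ≠ w₁ ∧ j * w₁ * j⁻¹ = w₁ ∧
      k₀ * w₁ * k₀⁻¹ = w₂ ∧ k₀ * w₂ * k₀⁻¹ = w₂ * w₁ ∧ j * w₂ * j⁻¹ = w₂ * w₁ := by
  have hcomm := comm_of_sq hW2
  have hjinv : j⁻¹ = j := inv_eq_of_mul_eq_one_left hj2
  -- an element moved by `j`
  obtain ⟨w, hw, hwj⟩ : ∃ w ∈ W, w * j ≠ j * w := by
    by_contra hcon
    push Not at hcon
    apply hjW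
    rw [Subgroup.mem_centralizer_iff]
    exact hcon
  have hjw : j * w * j⁻¹ ∈ W := conj_mem_of_mem_normalizer hj hw
  have hjw_ne : j * w * j⁻¹ ≠ w := by
    intro h
    apply hwj
    calc w * j = (j * w * j⁻¹) * j := by rw [h]
      _ = j * w := by group
  obtain ⟨w₁, hw₁def⟩ : ∃ w₁ : G, w₁ = w * (j * w * j⁻¹) := ⟨_, rfl⟩
  have hw₁ : w₁ ∈ W := by rw [hw₁def]; exact W.mul_mem hw hjw
  have hw₁1 : w₁ ≠ 1 := by
    intro h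
    apply hjw_ne
    rw [hw₁def] at h
    calc j * w * j⁻¹ = w⁻¹ * (w * (j * w * j⁻¹)) := by group
      _ = w⁻¹ := by rw [h, mul_one]
      _ = w := by
        have := hW2 w hw
        exact inv_eq_of_mul_eq_one_left this
  have hjw₁ : j * w₁ * j⁻¹ = w₁ := by
    rw [hw₁def]
    calc j * (w * (j * w * j⁻¹)) * j⁻¹ = (j * w * j⁻¹) * ((j * j) * w * (j * j)⁻¹) := by group
      _ = (j * w * j⁻¹) * w := by rw [hj2]; group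
      _ = w * (j * w * j⁻¹) := hcomm _ hjw _ hw
  obtain ⟨w₂, hw₂def⟩ : ∃ w₂ : G, w₂ = k₀ * w₁ * k₀⁻¹ := ⟨_, rfl⟩
  have hw₂ : w₂ ∈ W := by rw [hw₂def]; exact conj_mem_of_mem_normalizer hk₀ hw₁
  have hw₂w₁ : w₂ ≠ w₁ := by rw [hw₂def]; exact hmove w₁ hw₁ hw₁1
  have hw₂1 : w₂ ≠ 1 := by
    intro h
    apply hw₁1
    rw [hw₂def] at h
    calc w₁ = k₀⁻¹ * (k₀ * w₁ * k₀⁻¹) * k₀ := by group
      _ = 1 := by rw [h]; group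
  have hw₁w₁ := hW2 w₁ hw₁
  have hw₂w₂ := hW2 w₂ hw₂
  -- `k₀ w₂ k₀⁻¹ = w₂ w₁`
  have hk₀w₂ : k₀ * w₂ * k₀⁻¹ = w₂ * w₁ := by
    have h3 : k₀ * w₂ * k₀⁻¹ ∈ W := conj_mem_of_mem_normalizer hk₀ hw₂
    rcases four_basis hW4 hW2 hw₁ hw₁1 hw₂ hw₂1 hw₂w₁ _ h3 with h | h | h | h
    · exfalso
      apply hw₂1
      calc w₂ = k₀⁻¹ * (k₀ * w₂ * k₀⁻¹) * k₀ := by group
        _ = 1 := by rw [h]; group
    · exfalso
      apply hw₂w₁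
      have h2 : k₀ ^ 2 * w₁ = w₁ * k₀ ^ 2 := by
        rw [pow_two]
        calc k₀ * k₀ * w₁ = (k₀ * (k₀ * w₁ * k₀⁻¹) * k₀⁻¹) * (k₀ * k₀) := by group
          _ = w₁ * (k₀ * k₀) := by rw [← hw₂def, h]
      have h4 := comm_of_sq_comm hodd h2
      rw [hw₂def]
      calc k₀ * w₁ * k₀⁻¹ = (w₁ * k₀) * k₀⁻¹ := by rw [h4]
        _ = w₁ := by group
    · exact absurd h (hmove w₂ hw₂ hw₂1)
    · exact h
  -- `j w₂ j⁻¹ = w₂ w₁`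
  have hjw₂ : j * w₂ * j⁻¹ = w₂ * w₁ := by
    have h3 : j * w₂ * j⁻¹ ∈ W := conj_mem_of_mem_normalizer hj hw₂
    rcases four_basis hW4 hW2 hw₁ hw₁1 hw₂ hw₂1 hw₂w₁ _ h3 with h | h | h | h
    · exfalso
      apply hw₂1
      calc w₂ = j⁻¹ * (j * w₂ * j⁻¹) * j := by group
        _ = 1 := by rw [h]; group
    · exfalso
      apply hw₂w₁
      calc w₂ = j⁻¹ * (j * w₂ * j⁻¹) * j := by group
        _ = j⁻¹ * (j * w₁ * j⁻¹) * j := by rw [h, hjw₁]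
        _ = w₁ := by group
    · exfalso
      apply hjW
      apply mem_centralizer_of_basis hW4 hW2 hw₁ hw₁1 hw₂ hw₂1 hw₂w₁
      · calc j * w₁ = (j * w₁ * j⁻¹) * j := by group
          _ = w₁ * j := by rw [hjw₁]
      · calc j * w₂ = (j * w₂ * j⁻¹) * j := by group
          _ = w₂ * j := by rw [h]
    · exact h
  exact ⟨w₁, hw₁, w₂, hw₂, hw₁1, hw₂1, hw₂w₁, hjw₁, hw₂def.symm, hk₀w₂, hjw₂⟩

/-- `j k₀ j⁻¹ k₀` centralizes `W` -/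
theorem inv_mem_centralizer {W : Subgroup G} (hW4 : Nat.card W = 4) (hW2 : ∀ w ∈ W, w * w = 1)
    {k₀ : G} (hk₀ : k₀ ∈ normalizer (W : Set G)) (hodd : Odd (orderOf k₀))
    (hmove : ∀ w ∈ W, w ≠ 1 → k₀ * w * k₀⁻¹ ≠ w)
    {j : G} (hj : j ∈ normalizer (W : Set G)) (hj2 : j * j = 1)
    (hjW : j ∉ centralizer (W : Set G)) :
    j * k₀ * j⁻¹ * k₀ ∈ centralizer (W : Set G) := by
  obtain ⟨w₁, hw₁, w₂, hw₂, hw₁1, hw₂1, hw₂w₁, hjw₁, hk₀w₁, hk₀w₂, hjw₂⟩ :=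
    W_struct hW4 hW2 hk₀ hodd hmove hj hj2 hjW
  have hcomm := comm_of_sq hW2
  have hjinv : j⁻¹ = j := inv_eq_of_mul_eq_one_left hj2
  have hw₁w₁ := hW2 w₁ hw₁
  have hw₂w₂ := hW2 w₂ hw₂
  have hw₁w₂ : w₁ * w₂ = w₂ * w₁ := hcomm _ hw₁ _ hw₂
  -- further values of the action
  have hk₀w₂₁ : k₀ * (w₂ * w₁) * k₀⁻¹ = w₁ := by
    calc k₀ * (w₂ * w₁) * k₀⁻¹ = (k₀ * w₂ * k₀⁻¹) * (k₀ * w₁ * k₀⁻¹) := by group
      _ = w₂ * w₁ * w₂ := by rw [hk₀w₂, hk₀w₁]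
      _ = w₂ * (w₁ * w₂) := by group
      _ = w₂ * (w₂ * w₁) := by rw [hw₁w₂]
      _ = (w₂ * w₂) * w₁ := by group
      _ = w₁ := by rw [hw₂w₂, one_mul]
  have hjw₂₁ : j * (w₂ * w₁) * j⁻¹ = w₂ := by
    calc j * (w₂ * w₁) * j⁻¹ = (j * w₂ * j⁻¹) * (j * w₁ * j⁻¹) := by group
      _ = w₂ * w₁ * w₁ := by rw [hjw₂, hjw₁]
      _ = w₂ * (w₁ * w₁) := by group
      _ = w₂ := by rw [hw₁w₁, mul_one]
  have hjw₂' : j⁻¹ * w₂ * j = w₂ * w₁ := by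
    have : j⁻¹ * w₂ * j = j * w₂ * j⁻¹ := by rw [hjinv]
    rw [this, hjw₂]
  have hjw₂₁' : j⁻¹ * (w₂ * w₁) * j = w₂ := by
    have : j⁻¹ * (w₂ * w₁) * j = j * (w₂ * w₁) * j⁻¹ := by rw [hjinv]
    rw [this, hjw₂₁]
  apply mem_centralizer_of_basis hW4 hW2 hw₁ hw₁1 hw₂ hw₂1 hw₂w₁
  · -- fixes `w₁`
    have e : (j * k₀ * j⁻¹ * k₀) * w₁ * (j * k₀ * j⁻¹ * k₀)⁻¹ = w₁ := by
      calc (j * k₀ * j⁻¹ * k₀) * w₁ * (j * k₀ * j⁻¹ * k₀)⁻¹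
          = j * (k₀ * (j⁻¹ * (k₀ * w₁ * k₀⁻¹) * j) * k₀⁻¹) * j⁻¹ := by group
        _ = w₁ := by rw [hk₀w₁, hjw₂', hk₀w₂₁, hjw₁]
    calc (j * k₀ * j⁻¹ * k₀) * w₁
        = ((j * k₀ * j⁻¹ * k₀) * w₁ * (j * k₀ * j⁻¹ * k₀)⁻¹) * (j * k₀ * j⁻¹ * k₀) := by group
      _ = w₁ * (j * k₀ * j⁻¹ * k₀) := by rw [e]
  · have e : (j * k₀ * j⁻¹ * k₀) * w₂ * (j * k₀ * j⁻¹ * k₀)⁻¹ = w₂ := by
      calc (j * k₀ * j⁻¹ * k₀) * w₂ * (j * k₀ * j⁻¹ * k₀)⁻¹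
          = j * (k₀ * (j⁻¹ * (k₀ * w₂ * k₀⁻¹) * j) * k₀⁻¹) * j⁻¹ := by group
        _ = w₂ := by rw [hk₀w₂, hjw₂₁', hk₀w₂, hjw₂₁]
    calc (j * k₀ * j⁻¹ * k₀) * w₂
        = ((j * k₀ * j⁻¹ * k₀) * w₂ * (j * k₀ * j⁻¹ * k₀)⁻¹) * (j * k₀ * j⁻¹ * k₀) := by group
      _ = w₂ * (j * k₀ * j⁻¹ * k₀) := by rw [e]

end wstruct

section fourth

variable {G : Type*} [Group G] [Finite G]

/-- an element normalizing the four-group `W`, fixing a nonidentity element of it and acting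
trivially on `V / W` has its fourth power centralizing `V` -/
theorem sq_sq_mem_centralizer {V W : Subgroup G} (hW4 : Nat.card W = 4)
    (hW2 : ∀ w ∈ W, w * w = 1) {y : G} (hyW : y ∈ normalizer (W : Set G))
    {w : G} (hw : w ∈ W) (hw1 : w ≠ 1) (hfix : y * w * y⁻¹ = w)
    (htriv : ∀ v ∈ V, v * y * v⁻¹ * y⁻¹ ∈ W) :
    (y * y) * (y * y) ∈ centralizer (V : Set G) := by
  obtain ⟨u, hu, hu1, huw⟩ := four_exists_u hW4 hw (hW2 w hw) hw1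
  have hyu : y * u * y⁻¹ ∈ W := conj_mem_of_mem_normalizer hyW hu
  have hww := hW2 w hw
  have e1 : (y * y) * w * (y * y)⁻¹ = w := by
    calc (y * y) * w * (y * y)⁻¹ = y * (y * w * y⁻¹) * y⁻¹ := by group
      _ = w := by rw [hfix, hfix]
  have e2 : (y * y) * u * (y * y)⁻¹ = u := by
    rcases four_basis hW4 hW2 hw hw1 hu hu1 huw _ hyu with h | h | h | h
    · exfalso
      apply hu1
      calc u = y⁻¹ * (y * u * y⁻¹) * y := by group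
        _ = 1 := by rw [h]; group
    · exfalso
      apply huw
      calc u = y⁻¹ * (y * u * y⁻¹) * y := by group
        _ = y⁻¹ * (y * w * y⁻¹) * y := by rw [h, hfix]
        _ = w := by group
    · calc (y * y) * u * (y * y)⁻¹ = y * (y * u * y⁻¹) * y⁻¹ := by group
        _ = u := by rw [h, h]
    · calc (y * y) * u * (y * y)⁻¹ = y * (y * u * y⁻¹) * y⁻¹ := by group
        _ = y * (u * w) * y⁻¹ := by rw [h]
        _ = (y * u * y⁻¹) * (y * w * y⁻¹) := by group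
        _ = u * w * w := by rw [h, hfix]
        _ = u * (w * w) := by group
        _ = u := by rw [hww, mul_one]
  have hyy : y * y ∈ centralizer (W : Set G) := by
    apply mem_centralizer_of_basis hW4 hW2 hw hw1 hu hu1 huw
    · calc (y * y) * w = ((y * y) * w * (y * y)⁻¹) * (y * y) := by group
        _ = w * (y * y) := by rw [e1]
    · calc (y * y) * u = ((y * y) * u * (y * y)⁻¹) * (y * y) := by group
        _ = u * (y * y) := by rw [e2]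
  have htriv2 : ∀ v ∈ V, v * (y * y) * v⁻¹ * (y * y)⁻¹ ∈ W := by
    intro v hv
    have h1 := htriv v hv
    have e : v * (y * y) * v⁻¹ * (y * y)⁻¹ =
        (v * y * v⁻¹ * y⁻¹) * (y * (v * y * v⁻¹ * y⁻¹) * y⁻¹) := by group
    rw [e]
    exact W.mul_mem h1 (conj_mem_of_mem_normalizer hyW h1)
  exact sq_mem_centralizer_of_triv hW2 hyy htriv2

end fourth

section quot

variable {G : Type*} [Group G] {L Q : Subgroup G} [hn : (Q.subgroupOf L).Normal]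

theorem mk_eq_one_iff (a : L) :
    QuotientGroup.mk' (Q.subgroupOf L) a = 1 ↔ (a : G) ∈ Q := by
  rw [QuotientGroup.mk'_apply, QuotientGroup.eq_one_iff, Subgroup.mem_subgroupOf]

theorem mk_comm {a b : L} (h : (a : G) * b * (a : G)⁻¹ * (b : G)⁻¹ ∈ Q) :
    QuotientGroup.mk' (Q.subgroupOf L) a * QuotientGroup.mk' (Q.subgroupOf L) b =
      QuotientGroup.mk' (Q.subgroupOf L) b * QuotientGroup.mk' (Q.subgroupOf L) a := by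
  have h1 : QuotientGroup.mk' (Q.subgroupOf L) (a * b * a⁻¹ * b⁻¹) = 1 :=
    (mk_eq_one_iff _).mpr h
  rw [map_mul, map_mul, map_mul, map_inv, map_inv] at h1
  obtain ⟨α, hα⟩ : ∃ α, α = QuotientGroup.mk' (Q.subgroupOf L) a := ⟨_, rfl⟩
  obtain ⟨β, hβ⟩ : ∃ β, β = QuotientGroup.mk' (Q.subgroupOf L) b := ⟨_, rfl⟩
  rw [← hα, ← hβ] at h1 ⊢
  calc α * β = (α * β * α⁻¹ * β⁻¹) * (β * α) := by group
    _ = β * α := by rw [h1, one_mul]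

theorem mk_conj_inv {a b : L} (h : (a : G) * b * (a : G)⁻¹ * (b : G) ∈ Q) :
    QuotientGroup.mk' (Q.subgroupOf L) a * QuotientGroup.mk' (Q.subgroupOf L) b *
      (QuotientGroup.mk' (Q.subgroupOf L) a)⁻¹ =
      (QuotientGroup.mk' (Q.subgroupOf L) b)⁻¹ := by
  have h1 : QuotientGroup.mk' (Q.subgroupOf L) (a * b * a⁻¹ * b) = 1 :=
    (mk_eq_one_iff _).mpr h
  rw [map_mul, map_mul, map_mul, map_inv] at h1
  exact eq_inv_of_mul_eq_one_left h1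

end quot

section main

variable {G : Type*} [Group G] [Finite G]

theorem mem_actKer_of {V W : Subgroup G} {n : G} (hn : n ∈ normalizer (W : Set G))
    (h : ∀ v ∈ V, v * n * v⁻¹ * n⁻¹ ∈ W) : n ∈ actKer V W := by
  rw [mem_actKer]
  refine ⟨hn, fun v hv => ?_⟩
  have e : n * v * n⁻¹ * v⁻¹ = (v * n * v⁻¹ * n⁻¹)⁻¹ := by group
  rw [e]
  exact W.inv_mem (h v hv)

theorem triv_of_mem_actKer {V W : Subgroup G} {n : G} (hn : n ∈ actKer V W) :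
    ∀ v ∈ V, v * n * v⁻¹ * n⁻¹ ∈ W := by
  intro v hv
  have e : v * n * v⁻¹ * n⁻¹ = (n * v * n⁻¹ * v⁻¹)⁻¹ := by group
  rw [e]
  exact W.inv_mem ((mem_actKer.mp hn).2 v hv)

variable {T L J Q V C F₁ M' : Subgroup G} (ctx : Ctx T L J Q V C F₁ M')
include ctx

/-- **Key step.** Conjugates of `K` under the normalizer of `W` in `L` stay in `K Q`. -/
theorem conj_mem_sup {K W : Subgroup G} (h : LComp L J Q V K W) {k₀ : G} (hk₀ : k₀ ∈ K)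
    (hodd : Odd (orderOf k₀)) (hmove : ∀ w ∈ W, w ≠ 1 → k₀ * w * k₀⁻¹ ≠ w)
    (hdec : ∀ k ∈ K, ∃ g ∈ zpowers k₀, ∃ p ∈ Q, k = g * p)
    {j : G} (hjJ : j ∈ J) (hj2 : j * j = 1) (hjW : j ∉ centralizer (W : Set G))
    (hjV : ∀ v ∈ V, v * j * v⁻¹ * j⁻¹ ∈ W)
    {x : G} (hxL : x ∈ L) (hxW : x ∈ normalizer (W : Set G)) {k : G} (hk : k ∈ K) :
    x * k * x⁻¹ ∈ K ⊔ Q := by
  haveI : (Q.subgroupOf L).Normal := Subgroup.normal_subgroupOf_of_le_normalizer ctx.hLQ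
  have hKW := h.hKW ctx.hLV
  have hKF := h.le_F₁ ctx
  have hKM := ctx.le_M' h.hKL h.hKJ
  have hKL := h.hKL
  have hjT : j ∈ T := ctx.hJT hjJ
  have hjL : j ∈ L := ctx.hTL hjT
  have hjM : j ∈ M' := ctx.hTM hjT
  have hjK : j ∈ normalizer (K : Set G) := h.hJK hjJ
  have hjNW : j ∈ normalizer (W : Set G) := by
    rw [h.hW]
    exact Cfsg.Agent.Lib.Helper24_CoprimeAction.mem_normalizer_commutator V K (ctx.hLV hjL) hjK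
  have hxV : x ∈ normalizer (V : Set G) := ctx.hLV hxL
  have hxiL : x⁻¹ ∈ L := L.inv_mem hxL
  -- conjugates
  obtain ⟨j', hj'def⟩ : ∃ j' : G, j' = x * j * x⁻¹ := ⟨_, rfl⟩
  obtain ⟨k', hk'def⟩ : ∃ k' : G, k' = x * k * x⁻¹ := ⟨_, rfl⟩
  have hj'L : j' ∈ L := by rw [hj'def]; exact L.mul_mem (L.mul_mem hxL hjL) hxiL
  have hj'M : j' ∈ M' := by rw [hj'def]; exact conj_mem_of_mem_normalizer (ctx.hLM hxL) hjM
  have hj'NW : j' ∈ normalizer (W : Set G) := by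
    rw [hj'def]; exact Subgroup.mul_mem _ (Subgroup.mul_mem _ hxW hjNW) (Subgroup.inv_mem _ hxW)
  have conjV : ∀ n : G, (∀ v ∈ V, v * n * v⁻¹ * n⁻¹ ∈ W) →
      ∀ v ∈ V, v * (x * n * x⁻¹) * v⁻¹ * (x * n * x⁻¹)⁻¹ ∈ W := by
    intro n hn v hv
    have hv' : x⁻¹ * v * x ∈ V := conj_mem_of_mem_normalizer' hxV hv
    have h1 := hn _ hv'
    have e : v * (x * n * x⁻¹) * v⁻¹ * (x * n * x⁻¹)⁻¹ =
        x * ((x⁻¹ * v * x) * n * (x⁻¹ * v * x)⁻¹ * n⁻¹) * x⁻¹ := by group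
    rw [e]
    exact conj_mem_of_mem_normalizer hxW h1
  have hj'V : ∀ v ∈ V, v * j' * v⁻¹ * j'⁻¹ ∈ W := by rw [hj'def]; exact conjV j hjV
  have hk'L : k' ∈ L := by rw [hk'def]; exact L.mul_mem (L.mul_mem hxL (hKL hk)) hxiL
  have hk'F : k' ∈ F₁ := by
    rw [hk'def]; exact conj_mem_of_mem_normalizer (ctx.hLF hxL) (hKF hk)
  have hk'M : k' ∈ M' := by
    rw [hk'def]; exact conj_mem_of_mem_normalizer (ctx.hLM hxL) (hKM hk)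
  have hk'NW : k' ∈ normalizer (W : Set G) := by
    rw [hk'def]
    exact Subgroup.mul_mem _ (Subgroup.mul_mem _ hxW (hKW hk)) (Subgroup.inv_mem _ hxW)
  have hk'V : ∀ v ∈ V, v * k' * v⁻¹ * k'⁻¹ ∈ W := by
    rw [hk'def]; exact conjV k (fun v hv => h.hVK hv hk)
  obtain ⟨g₁, hg₁z, c₁, hc₁, hk'eq⟩ := h.exists_mul_aux ctx hk₀ hodd hmove hk'F hk'NW hk'V
  have hzK : zpowers k₀ ≤ K := Subgroup.zpowers_le.mpr hk₀
  have hg₁K : g₁ ∈ K := hzK hg₁z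
  -- a nonidentity element of `W`
  obtain ⟨w₁, hw₁, w₂, hw₂, hw₁1, -, -, -, -, -, -⟩ :=
    W_struct h.hW4 h.hW2 (hKW hk₀) hodd hmove hjNW hj2 hjW
  have htNW : j * j' ∈ normalizer (W : Set G) := Subgroup.mul_mem _ hjNW hj'NW
  have ha : (j * j') * w₁ * (j * j')⁻¹ ∈ W := conj_mem_of_mem_normalizer htNW hw₁
  have ha1 : (j * j') * w₁ * (j * j')⁻¹ ≠ 1 := by
    intro h1
    apply hw₁1
    calc w₁ = (j * j')⁻¹ * ((j * j') * w₁ * (j * j')⁻¹) * (j * j') := by group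
      _ = 1 := by rw [h1]; group
  obtain ⟨g, hgz, hg⟩ := exists_conj_eq h.hW4 h.hW2 (hKW hk₀) hodd hmove hw₁ hw₁1 ha ha1
  have hgK : g ∈ K := hzK hgz
  obtain ⟨y, hydef⟩ : ∃ y : G, y = g⁻¹ * (j * j') := ⟨_, rfl⟩
  have hyL : y ∈ L := by
    rw [hydef]; exact L.mul_mem (L.inv_mem (hKL hgK)) (L.mul_mem hjL hj'L)
  have hyW : y ∈ normalizer (W : Set G) := by
    rw [hydef]; exact Subgroup.mul_mem _ (Subgroup.inv_mem _ (hKW hgK)) htNW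
  have hfix : y * w₁ * y⁻¹ = w₁ := by
    rw [hydef]
    calc g⁻¹ * (j * j') * w₁ * (g⁻¹ * (j * j'))⁻¹
        = g⁻¹ * ((j * j') * w₁ * (j * j')⁻¹) * g := by group
      _ = g⁻¹ * (g * w₁ * g⁻¹) * g := by rw [hg]
      _ = w₁ := by group
  have hyA : y ∈ actKer V W := by
    rw [hydef]
    refine Subgroup.mul_mem _ (Subgroup.inv_mem _ ?_) (Subgroup.mul_mem _ ?_ ?_)
    · exact mem_actKer_of (hKW hgK) (fun v hv => h.hVK hv hgK)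
    · exact mem_actKer_of hjNW hjV
    · exact mem_actKer_of hj'NW hj'V
  have hy4 : (y * y) * (y * y) ∈ C := by
    rw [ctx.hCdef]
    refine Subgroup.mem_inf.mpr ⟨L.mul_mem (L.mul_mem hyL hyL) (L.mul_mem hyL hyL), ?_⟩
    exact sq_sq_mem_centralizer h.hW4 h.hW2 hyW hw₁ hw₁1 hfix (triv_of_mem_actKer hyA)
  -- `j` inverts `k₀` modulo `Q`
  have hz : j * k₀ * j⁻¹ * k₀ ∈ Q := by
    apply h.hPQ
    refine Subgroup.mem_inf.mpr ⟨K.mul_mem (conj_mem_of_mem_normalizer hjK hk₀) hk₀, ?_⟩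
    exact inv_mem_centralizer h.hW4 h.hW2 (hKW hk₀) hodd hmove hjNW hj2 hjW
  -- the quotient `L / Q`
  obtain ⟨π, hπ⟩ : ∃ π : ↥L →* ↥L ⧸ Q.subgroupOf L, π = QuotientGroup.mk' (Q.subgroupOf L) :=
    ⟨_, rfl⟩
  have hπ1 : ∀ a : L, π a = 1 ↔ (a : G) ∈ Q := by rw [hπ]; exact mk_eq_one_iff
  have hπc : ∀ a b : L, (a : G) * b * (a : G)⁻¹ * (b : G)⁻¹ ∈ Q → π a * π b = π b * π a := by
    rw [hπ]; exact fun a b => mk_comm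
  have hπi : ∀ a b : L, (a : G) * b * (a : G)⁻¹ * (b : G) ∈ Q → π a * π b * (π a)⁻¹ = (π b)⁻¹ := by
    rw [hπ]; exact fun a b => mk_conj_inv
  have hk₀L : k₀ ∈ L := hKL hk₀
  have hinv₀ : π ⟨j, hjL⟩ * π ⟨k₀, hk₀L⟩ * (π ⟨j, hjL⟩)⁻¹ = (π ⟨k₀, hk₀L⟩)⁻¹ :=
    hπi ⟨j, hjL⟩ ⟨k₀, hk₀L⟩ hz
  have inv_all : ∀ (κ : G) (hκ : κ ∈ K),
      π ⟨j, hjL⟩ * π ⟨κ, hKL hκ⟩ * (π ⟨j, hjL⟩)⁻¹ = (π ⟨κ, hKL hκ⟩)⁻¹ := by
    intro κ hκ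
    obtain ⟨g₀, hg₀, p, hp, hκeq⟩ := hdec κ hκ
    obtain ⟨n, hn⟩ := Subgroup.mem_zpowers_iff.mp hg₀
    have hpL : p ∈ L := ctx.hQL hp
    have e1 : (⟨κ, hKL hκ⟩ : L) = (⟨k₀, hk₀L⟩ : L) ^ n * ⟨p, hpL⟩ := by
      apply Subtype.ext
      rw [Subgroup.coe_mul, Subgroup.coe_zpow]
      show κ = k₀ ^ n * p
      rw [hn]; exact hκeq
    have e2 : π ⟨p, hpL⟩ = 1 := (hπ1 _).mpr hp
    rw [e1, map_mul, map_zpow, e2, mul_one, ← conj_zpow, hinv₀, inv_zpow]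
  -- the elements of the computation
  have hg₁L : g₁ ∈ L := hKL hg₁K
  have hgL : g ∈ L := hKL hgK
  have hc₁L : c₁ ∈ L := ctx.hCL hc₁
  have hjc : π ⟨j, hjL⟩ * π ⟨c₁, hc₁L⟩ = π ⟨c₁, hc₁L⟩ * π ⟨j, hjL⟩ :=
    hπc _ _ (ctx.hM'mem j hjM c₁ hc₁)
  have hj'c : π ⟨j', hj'L⟩ * π ⟨c₁, hc₁L⟩ = π ⟨c₁, hc₁L⟩ * π ⟨j', hj'L⟩ :=
    hπc _ _ (ctx.hM'mem j' hj'M c₁ hc₁)
  have hg₁c : π ⟨g₁, hg₁L⟩ * π ⟨c₁, hc₁L⟩ = π ⟨c₁, hc₁L⟩ * π ⟨g₁, hg₁L⟩ :=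
    hπc _ _ (ctx.hM'mem g₁ (hKM hg₁K) c₁ hc₁)
  have hgc : π ⟨g, hgL⟩ * π ⟨c₁, hc₁L⟩ = π ⟨c₁, hc₁L⟩ * π ⟨g, hgL⟩ :=
    hπc _ _ (ctx.hM'mem g (hKM hgK) c₁ hc₁)
  have hgg₁ : π ⟨g, hgL⟩ * π ⟨g₁, hg₁L⟩ = π ⟨g₁, hg₁L⟩ * π ⟨g, hgL⟩ := by
    rw [← map_mul, ← map_mul]
    congr 1
    apply Subtype.ext
    show g * g₁ = g₁ * g
    obtain ⟨m, rfl⟩ := Subgroup.mem_zpowers_iff.mp hgz
    obtain ⟨n, rfl⟩ := Subgroup.mem_zpowers_iff.mp hg₁z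
    exact zpow_mul_comm k₀ m n
  have hjg₁ : π ⟨j, hjL⟩ * π ⟨g₁, hg₁L⟩ * (π ⟨j, hjL⟩)⁻¹ = (π ⟨g₁, hg₁L⟩)⁻¹ :=
    inv_all g₁ hg₁K
  have hk'π : π ⟨k', hk'L⟩ = π ⟨g₁, hg₁L⟩ * π ⟨c₁, hc₁L⟩ := by
    rw [← map_mul]
    congr 1
    apply Subtype.ext
    exact hk'eq
  have hk'π2 : π ⟨k', hk'L⟩ = π ⟨x, hxL⟩ * π ⟨k, hKL hk⟩ * (π ⟨x, hxL⟩)⁻¹ := by
    rw [← map_inv, ← map_mul, ← map_mul]
    congr 1
    apply Subtype.ext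
    exact hk'def
  have hj'π : π ⟨j', hj'L⟩ = π ⟨x, hxL⟩ * π ⟨j, hjL⟩ * (π ⟨x, hxL⟩)⁻¹ := by
    rw [← map_inv, ← map_mul, ← map_mul]
    congr 1
    apply Subtype.ext
    exact hj'def
  have hj'k' : π ⟨j', hj'L⟩ * (π ⟨g₁, hg₁L⟩ * π ⟨c₁, hc₁L⟩) * (π ⟨j', hj'L⟩)⁻¹ =
      (π ⟨g₁, hg₁L⟩ * π ⟨c₁, hc₁L⟩)⁻¹ := by
    rw [← hk'π, hk'π2, hj'π]
    have := inv_all k hk
    calc π ⟨x, hxL⟩ * π ⟨j, hjL⟩ * (π ⟨x, hxL⟩)⁻¹ *
          (π ⟨x, hxL⟩ * π ⟨k, hKL hk⟩ * (π ⟨x, hxL⟩)⁻¹) *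
          (π ⟨x, hxL⟩ * π ⟨j, hjL⟩ * (π ⟨x, hxL⟩)⁻¹)⁻¹
        = π ⟨x, hxL⟩ * (π ⟨j, hjL⟩ * π ⟨k, hKL hk⟩ * (π ⟨j, hjL⟩)⁻¹) * (π ⟨x, hxL⟩)⁻¹ := by
          group
      _ = π ⟨x, hxL⟩ * (π ⟨k, hKL hk⟩)⁻¹ * (π ⟨x, hxL⟩)⁻¹ := by rw [this]
      _ = (π ⟨x, hxL⟩ * π ⟨k, hKL hk⟩ * (π ⟨x, hxL⟩)⁻¹)⁻¹ := by group
  have hy4L : (y * y) * (y * y) ∈ L := ctx.hCL hy4
  have hy4π : π ⟨(y * y) * (y * y), hy4L⟩ =
      ((π ⟨g, hgL⟩)⁻¹ * (π ⟨j, hjL⟩ * π ⟨j', hj'L⟩)) ^ 4 := by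
    rw [← map_inv, ← map_mul, ← map_mul, ← map_pow]
    congr 1
    apply Subtype.ext
    rw [Subgroup.coe_pow]
    show (y * y) * (y * y) = (g⁻¹ * (j * j')) ^ 4
    rw [← hydef, show (4 : ℕ) = 2 + 2 from rfl, pow_add, pow_two]
  have hy4q : ((π ⟨g, hgL⟩)⁻¹ * (π ⟨j, hjL⟩ * π ⟨j', hj'L⟩)) ^ 4 * π ⟨g₁, hg₁L⟩ =
      π ⟨g₁, hg₁L⟩ * ((π ⟨g, hgL⟩)⁻¹ * (π ⟨j, hjL⟩ * π ⟨j', hj'L⟩)) ^ 4 := by
    rw [← hy4π]
    exact (hπc ⟨g₁, hg₁L⟩ ⟨(y * y) * (y * y), hy4L⟩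
      (ctx.hM'mem g₁ (hKM hg₁K) _ hy4)).symm
  have h8 := calc_key hjc hj'c hg₁c hgc hgg₁ hjg₁ hj'k' hy4q
  -- hence `c₁ ^ 8 ∈ Q` and `c₁ ∈ Q`
  have h8Q : c₁ ^ 8 ∈ Q := by
    have : π (⟨c₁, hc₁L⟩ ^ 8) = 1 := by rw [map_pow]; exact h8
    have := (hπ1 _).mp this
    rwa [Subgroup.coe_pow] at this
  have hc₁Q : c₁ ∈ Q := by
    obtain ⟨m, hm⟩ := ctx.hQ2 ⟨c₁ ^ 8, h8Q⟩
    have hm' : (c₁ ^ 8) ^ 2 ^ m = 1 := by simpa using congrArg Subtype.val hm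
    apply ctx.h2 c₁ hc₁ (3 + m)
    rw [pow_add, pow_mul]
    exact hm'
  rw [← hk'def, hk'eq]
  exact Subgroup.mul_mem _ (Subgroup.mem_sup_left hg₁K) (Subgroup.mem_sup_right hc₁Q)

/-- **`K` is normal in `N_L(W)`.** -/
theorem inf_normalizer_le {K W : Subgroup G} (h : LComp L J Q V K W) {k₀ : G} (hk₀ : k₀ ∈ K)
    (hodd : Odd (orderOf k₀)) (hmove : ∀ w ∈ W, w ≠ 1 → k₀ * w * k₀⁻¹ ≠ w)
    (hdec : ∀ k ∈ K, ∃ g ∈ zpowers k₀, ∃ p ∈ Q, k = g * p)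
    {j : G} (hjJ : j ∈ J) (hj2 : j * j = 1) (hjW : j ∉ centralizer (W : Set G))
    (hjV : ∀ v ∈ V, v * j * v⁻¹ * j⁻¹ ∈ W) :
    L ⊓ normalizer (W : Set G) ≤ normalizer (K : Set G) := by
  apply le_normalizer_of_conj_mem
  intro x hx k hk
  obtain ⟨hxL, hxW⟩ := Subgroup.mem_inf.mp hx
  have hle : K ≤ K.comap (MulAut.conj x).toMonoidHom := by
    conv_lhs => rw [← h.hodd]
    rw [Subgroup.closure_le]
    rintro g ⟨hg, hgodd⟩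
    rw [SetLike.mem_coe, Subgroup.mem_comap]
    have h1 : x * g * x⁻¹ ∈ K ⊔ Q :=
      conj_mem_sup ctx h hk₀ hodd hmove hdec hjJ hj2 hjW hjV hxL hxW hg
    have h2 : orderOf (x * g * x⁻¹) = orderOf g := by
      have := MulEquiv.orderOf_eq (MulAut.conj x) g
      simpa only [MulAut.conj_apply] using this
    apply Cfsg.Agent.S2941.odd_mem_of_sup K Q ctx.hQ2 h.hQK _ h1
    rw [h2]; exact hgodd
  have := hle hk
  rw [Subgroup.mem_comap] at this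
  simpa only [MulEquiv.coe_toMonoidHom, MulAut.conj_apply] using this

end main

end Cfsg.Agent.Lib.Helper10_JCompNorm
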