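import Cfsg.Agent.Lib.Helper10_JCompTv
import Mathlib

set_option autoImplicit false
set_option linter.unusedSectionVars false
set_option linter.unusedVariables false
set_option linter.style.haveILetI false

/-!
# An `S₃`-section inverted by a transvection of an offender (helper10)

In a solvable group `X` acting on an elementary abelian normal `2`-subgroup `V` with
`O_2(X / C_X(V)) = 1`, and a family `𝒜` of abelian offenders on `V`: a member `A₀` of `𝒜` not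
centralizing `V` contains a transvection `a` inverting modulo `C_X(V)` an element `d` of order three
modulo `C_X(V)`, and every member of `𝒜` normalizes `⟨d⟩ C_X(V)`.
-/

universe u

namespace Cfsg.Agent.Lib.Helper10_JCompS3

open Cfsg
open scoped commutatorElement Pointwise

section perm3

theorem perm3_inv : ∀ σ τ : Equiv.Perm (Fin 3), σ ≠ 1 → σ * σ = 1 → τ ^ 3 = 1 →
    σ * τ * σ⁻¹ = τ⁻¹ := by decide

theorem perm3_cube : ∀ τ ρ : Equiv.Perm (Fin 3), τ ≠ 1 → τ ^ 3 = 1 → ρ ^ 3 = 1 →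
    ρ = 1 ∨ ρ = τ ∨ ρ = τ⁻¹ := by decide

theorem perm3_exists : ∃ τ : Equiv.Perm (Fin 3), τ ≠ 1 ∧ τ ^ 3 = 1 := by decide

/-- a subgroup isomorphic to `S₃`: an involution inverts an element of order three, and the
elements of order three are that element and its inverse -/
theorem exists_three {Y : Type*} [Group Y] {E : Subgroup Y} (e : E ≃* Equiv.Perm (Fin 3))
    {a : Y} (haE : a ∈ E) (ha1 : a ≠ 1) (ha2 : a * a = 1) :
    ∃ d ∈ E, d ≠ 1 ∧ d ^ 3 = 1 ∧ a * d * a⁻¹ = d⁻¹ ∧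
      ∀ x ∈ E, x ^ 3 = 1 → x = 1 ∨ x = d ∨ x = d⁻¹ := by
  obtain ⟨τ, hτ1, hτ3⟩ := perm3_exists
  have hσ1 : e ⟨a, haE⟩ ≠ 1 := by
    intro h
    apply ha1
    have := e.injective (h.trans (map_one e).symm)
    exact congrArg Subtype.val this
  have hσ2 : e ⟨a, haE⟩ * e ⟨a, haE⟩ = 1 := by
    rw [← map_mul]
    have : (⟨a, haE⟩ : E) * ⟨a, haE⟩ = 1 := Subtype.ext ha2
    rw [this, map_one]
  refine ⟨(e.symm τ : E), (e.symm τ).2, ?_, ?_, ?_, ?_⟩
  · intro h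
    apply hτ1
    have h' : e.symm τ = 1 := Subtype.ext h
    have := congrArg e h'
    rwa [MulEquiv.apply_symm_apply, map_one] at this
  · have : (e.symm τ) ^ 3 = 1 := by rw [← map_pow, hτ3, map_one]
    have := congrArg Subtype.val this
    simpa using this
  · have h1 := perm3_inv (e ⟨a, haE⟩) τ hσ1 hσ2 hτ3
    have h2 : (⟨a, haE⟩ : E) * e.symm τ * (⟨a, haE⟩ : E)⁻¹ = (e.symm τ)⁻¹ := by
      apply e.injective
      rw [map_mul, map_mul, map_inv, map_inv, MulEquiv.apply_symm_apply]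
      exact h1
    have := congrArg Subtype.val h2
    simpa using this
  · intro x hx hx3
    have h3 : (e ⟨x, hx⟩) ^ 3 = 1 := by
      rw [← map_pow]
      have : (⟨x, hx⟩ : E) ^ 3 = 1 := Subtype.ext (by simpa using hx3)
      rw [this, map_one]
    rcases perm3_cube τ (e ⟨x, hx⟩) hτ1 hτ3 h3 with h | h | h
    · left
      have := e.injective (h.trans (map_one e).symm)
      exact congrArg Subtype.val this
    · right; left
      have : (⟨x, hx⟩ : E) = e.symm τ := by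
        apply e.injective
        rw [MulEquiv.apply_symm_apply]; exact h
      exact congrArg Subtype.val this
    · right; right
      have : (⟨x, hx⟩ : E) = (e.symm τ)⁻¹ := by
        apply e.injective
        rw [map_inv, MulEquiv.apply_symm_apply]; exact h
      have := congrArg Subtype.val this
      simpa using this

end perm3

section xform

open Cfsg.Agent.Lib.Helper10_FFTransport Cfsg.Agent.Lib.Helper10_OffTv
  Cfsg.Agent.Lib.Helper62_Structure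

variable {X : Type u} [Group X] [Finite X] [Group.IsSolvable X]

theorem exists_S3_elt (V : Subgroup X) [hVn : V.Normal] (hV : IsElementaryAbelian 2 V)
    (hO : pCore 2 (X ⧸ Subgroup.centralizer (V : Set X)) = ⊥)
    (𝒜 : Set (Subgroup X))
    (h𝒜c : ∀ A ∈ 𝒜, ∀ x ∈ A, ∀ y ∈ A, x * y = y * x)
    (h𝒜2 : ∀ A ∈ 𝒜, IsPGroup 2 A)
    (h𝒜off : ∀ A ∈ 𝒜, Nat.card V * Nat.card ↥(A ⊓ Subgroup.centralizer (V : Set X)) ≤
        Nat.card A * Nat.card ↥(V ⊓ Subgroup.centralizer (A : Set X)))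
    (A₀ : Subgroup X) (hA₀ : A₀ ∈ 𝒜) (hA₀V : ¬ A₀ ≤ Subgroup.centralizer (V : Set X))
    (hA₀sq : ∀ x ∈ A₀, x * x = 1) :
    ∃ a ∈ A₀, ∃ d : X, ∃ z ∈ V, z ≠ 1 ∧
      (∀ v ∈ V, v * a * v⁻¹ * a⁻¹ = 1 ∨ v * a * v⁻¹ * a⁻¹ = z) ∧
      a ∉ Subgroup.centralizer (V : Set X) ∧ d ∉ Subgroup.centralizer (V : Set X) ∧
      d ^ 3 ∈ Subgroup.centralizer (V : Set X) ∧
      a * d * a⁻¹ = d⁻¹ ∧ Odd (orderOf d) ∧
      ∀ B ∈ 𝒜, ∀ b ∈ B, b * d * b⁻¹ * d⁻¹ ∈ Subgroup.centralizer (V : Set X) ∨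
        b * d * b⁻¹ * d ∈ Subgroup.centralizer (V : Set X) := by
  classical
  haveI : Fact (Nat.Prime 2) := ⟨Nat.prime_two⟩
  let t : FFT V (Equiv.Perm V) := permFFT V
  have hker : t.ι.ker = Subgroup.centralizer (V : Set X) := t.ker_ι
  set Γ : Subgroup (Equiv.Perm V) := (⊤ : Subgroup X).map t.ι with hΓ
  set S : Subgroup (Equiv.Perm V) :=
    ⨆ A : {A : Subgroup (Equiv.Perm V) // A ≤ Γ ∧ Cfsg.IsBestOffenderOn 2 t.j.range A},
      (A : Subgroup (Equiv.Perm V)) with hS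
  have hΓV : Γ ≤ Subgroup.normalizer ((t.j.range : Subgroup _) : Set _) := t.le_normalizer ⊤
  have hΓf : Γ ⊓ Subgroup.centralizer ((t.j.range : Subgroup _) : Set _) = ⊥ := t.faithful ⊤
  have hSΓ : S ≤ Γ := iSup_le fun A => A.2.1
  have hΓS : Γ ≤ Subgroup.normalizer (S : Set _) := le_normalizer_iSup_best hΓV
  have hιΓ : ∀ x : X, t.ι x ∈ Γ := fun x => ⟨x, Subgroup.mem_top x, rfl⟩
  have comap_normal : ∀ K : Subgroup (Equiv.Perm V),
      Γ ≤ Subgroup.normalizer (K : Set _) → (K.comap t.ι).Normal := by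
    intro K hK
    constructor
    intro n hn x
    show t.ι (x * n * x⁻¹) ∈ K
    rw [map_mul, map_mul, map_inv]
    exact (Subgroup.mem_normalizer_iff.mp (hK (hιΓ x)) _).mp hn
  set N := S.comap t.ι with hN
  have hNn : N.Normal := comap_normal S hΓS
  have hHS : N.map t.ι = S := by
    apply Subgroup.map_comap_eq_self
    rw [MonoidHom.range_eq_map]
    exact hSΓ
  have hsep : Cfsg.IsPSolvable 2 X := Cfsg.Agent.Lib.Lead_PSolvable.isPSolvable_of_isSolvable 2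
  have sett : Setting 2 t.j.range (N.map t.ι) Γ :=
    { amb := ⟨t.elemAb hV, t.le_normalizer N, t.faithful N, t.hS1 hsep hO N⟩
      hΓV := hΓV
      hΓf := hΓf
      hH := hHS }
  have amb := sett.amb
  have hS3 := sett.hS3
  -- the image of a member of `𝒜` is generated by transvections
  have hgen : ∀ A ∈ 𝒜, A.map t.ι ≤
      Subgroup.closure {a | a ∈ A.map t.ι ∧ IsTv 2 t.j.range (N.map t.ι) a} := by
    intro A hA
    have hBΓ : A.map t.ι ≤ Γ := Subgroup.map_mono le_top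
    have hBc : ∀ x ∈ A.map t.ι, ∀ y ∈ A.map t.ι, x * y = y * x := by
      rintro _ ⟨a, ha, rfl⟩ _ ⟨b, hb, rfl⟩
      rw [← map_mul, ← map_mul, h𝒜c A hA a ha b hb]
    have hBp : IsPGroup 2 ↥(A.map t.ι) := (h𝒜2 A hA).map t.ι
    have hoff : Nat.card ↥t.j.range ≤ Nat.card ↥(A.map t.ι) *
        Nat.card ↥(t.j.range ⊓ Subgroup.centralizer ((A.map t.ι : Subgroup _) : Set _)) := by
      have e1 := t.card_map A
      have e2 := t.card_fix A
      have e3 := t.card_range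
      rw [e3, e2]
      have hpos : 0 < Nat.card ↥(A ⊓ Subgroup.centralizer (V : Set X)) := Nat.card_pos
      refine Nat.le_of_mul_le_mul_right ?_ hpos
      calc Nat.card V * Nat.card ↥(A ⊓ Subgroup.centralizer (V : Set X))
          ≤ Nat.card A * Nat.card ↥(V ⊓ Subgroup.centralizer (A : Set X)) := h𝒜off A hA
        _ = Nat.card ↥(A.map t.ι) * Nat.card ↥(V ⊓ Subgroup.centralizer (A : Set X)) *
            Nat.card ↥(A ⊓ Subgroup.centralizer (V : Set X)) := by rw [← e1]; ring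
    exact sett.gen_by_tv hBΓ hBc hBp hoff
  have hleH : ∀ A ∈ 𝒜, A.map t.ι ≤ N.map t.ι := by
    intro A hA
    refine (hgen A hA).trans ?_
    rw [Subgroup.closure_le]
    rintro x ⟨-, hx⟩
    exact hx.mem
  -- a transvection in the image of `A₀`
  obtain ⟨a, haA, haTv⟩ : ∃ a ∈ A₀, IsTv 2 t.j.range (N.map t.ι) (t.ι a) := by
    by_contra hcon
    push Not at hcon
    apply hA₀V
    have hle : A₀.map t.ι ≤ ⊥ := by
      refine (hgen A₀ hA₀).trans ?_
      rw [Subgroup.closure_le]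
      rintro b ⟨⟨a, haA, rfl⟩, hb⟩
      exact absurd hb (hcon a haA)
    intro a haA
    have h1 : t.ι a ∈ (⊥ : Subgroup (Equiv.Perm V)) := hle ⟨a, haA, rfl⟩
    rw [Subgroup.mem_bot] at h1
    rw [← hker]
    exact h1
  have hH1 : N.map t.ι ≠ ⊥ := by
    intro h0
    have := haTv.mem
    rw [h0, Subgroup.mem_bot] at this
    exact haTv.ne_one this
  -- the subgroup `E` and the element of order three
  obtain ⟨e₁⟩ := (E_facts amb haTv).2.2.2.1
  obtain ⟨e₂⟩ := Cfsg.Agent.S0250.result (F := ZMod 2) (by simp)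
  have hnormE := (structure_one amb hS3 hH1 haTv).2.2.2.2.1
  have ha2 : t.ι a * t.ι a = 1 := by
    have := haTv.pow
    rwa [pow_two] at this
  obtain ⟨d', hd'E, hd'1, hd'3, hd'a, hd'u⟩ :=
    exists_three (e₁.trans e₂) (self_mem_E (t.ι a)) haTv.ne_one ha2
  have hd'H : d' ∈ N.map t.ι := E_le haTv.mem hd'E
  obtain ⟨d₀, -, hd₀⟩ := hd'H
  have haa : a * a = 1 := hA₀sq a haA
  have hainv : a⁻¹ = a := inv_eq_of_mul_eq_one_left haa
  obtain ⟨y, hy⟩ : ∃ y : X, y = a * (d₀ * a * d₀⁻¹) := ⟨_, rfl⟩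
  have hay : a * y * a⁻¹ = y⁻¹ := by
    calc a * y * a⁻¹ = (a * a) * (d₀ * a * d₀⁻¹) * a⁻¹ := by rw [hy]; group
      _ = (d₀ * a * d₀⁻¹) * a⁻¹ := by rw [haa, one_mul]
      _ = (d₀ * a⁻¹ * d₀⁻¹) * a⁻¹ := by rw [hainv]
      _ = y⁻¹ := by rw [hy]; group
  have hd'ddd : d' * d' * d' = 1 := by rw [← hd'3, pow_succ, pow_two]
  have hιy : t.ι y = d' := by
    have h1 : t.ι a * d' * t.ι a = d'⁻¹ := by
      have h2 : (t.ι a)⁻¹ = t.ι a := inv_eq_of_mul_eq_one_left ha2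
      rw [← hd'a, h2]
    rw [hy, map_mul, map_mul, map_mul, map_inv, hd₀]
    calc t.ι a * (d' * t.ι a * d'⁻¹) = (t.ι a * d' * t.ι a) * d'⁻¹ := by group
      _ = d'⁻¹ * d'⁻¹ := by rw [h1]
      _ = d'⁻¹ * d'⁻¹ * (d' * d' * d') := by rw [hd'ddd, mul_one]
      _ = d' := by group
  have hy0 : orderOf y ≠ 0 := (orderOf_pos y).ne'
  obtain ⟨k, m, hmodd, hkm⟩ := Nat.exists_eq_two_pow_mul_odd hy0
  obtain ⟨d, hd_def⟩ : ∃ d : X, d = y ^ 2 ^ k := ⟨_, rfl⟩
  have hdodd : Odd (orderOf d) := by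
    have h1 : d ^ m = 1 := by
      rw [hd_def, ← pow_mul, ← hkm, pow_orderOf_eq_one]
    exact Odd.of_dvd_nat hmodd (orderOf_dvd_of_pow_eq_one h1)
  have hadd : a * d * a⁻¹ = d⁻¹ := by
    rw [hd_def, ← conj_pow, hay, inv_pow]
  have h2k : ∀ k : ℕ, 2 ^ k % 3 = 1 ∨ 2 ^ k % 3 = 2 := by
    intro k
    induction k with
    | zero => left; rfl
    | succ n ih =>
      rw [pow_succ]
      generalize 2 ^ n = t at ih ⊢
      omega
  have hd : t.ι d = d' ∨ t.ι d = d'⁻¹ := by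
    have h1 : t.ι d = d' ^ 2 ^ k := by rw [hd_def, map_pow, hιy]
    rw [h1, pow_eq_pow_mod (2 ^ k) hd'3]
    rcases h2k k with h | h
    · left; rw [h, pow_one]
    · right
      rw [h, pow_two]
      calc d' * d' = d' * d' * d' * d'⁻¹ := by group
        _ = d'⁻¹ := by rw [hd'ddd, one_mul]
  have hC : ∀ x : X, x ∈ Subgroup.centralizer (V : Set X) ↔ t.ι x = 1 := by
    intro x
    rw [← hker, MonoidHom.mem_ker]
  -- the commutator computation in the model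
  have hcomm : ∀ v : V, ⁅t.j v, t.ι a⁆ =
      t.j ⟨(v : X) * a * (v : X)⁻¹ * a⁻¹, by
        have h1 : a * (v : X)⁻¹ * a⁻¹ ∈ V := hVn.conj_mem _ (V.inv_mem v.2) a
        have h2 : (v : X) * a * (v : X)⁻¹ * a⁻¹ = (v : X) * (a * (v : X)⁻¹ * a⁻¹) := by group
        rw [h2]
        exact V.mul_mem v.2 h1⟩ := by
    intro v
    have h1 := t.conj' a v⁻¹
    rw [commutatorElement_def]
    have h2 : t.j v * t.ι a * (t.j v)⁻¹ * (t.ι a)⁻¹ =
        t.j v * (t.ι a * t.j v⁻¹ * (t.ι a)⁻¹) := by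
      rw [map_inv]; group
    rw [h2, h1, ← map_mul]
    congr 1
    apply Subtype.ext
    simp only [Subgroup.coe_mul, Subgroup.coe_inv]
    group
  have hmemR : ∀ v : V, ⁅t.j v, t.ι a⁆ ∈ ⁅t.j.range, Subgroup.zpowers (t.ι a)⁆ :=
    fun v => Subgroup.commutator_mem_commutator ⟨v, rfl⟩ (Subgroup.mem_zpowers _)
  have hcard := haTv.card
  have htwo : ∀ r₁ ∈ ⁅t.j.range, Subgroup.zpowers (t.ι a)⁆,
      ∀ r₂ ∈ ⁅t.j.range, Subgroup.zpowers (t.ι a)⁆, r₁ ≠ 1 → r₂ ≠ 1 → r₁ = r₂ := by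
    intro r₁ h₁ r₂ h₂ hr₁ hr₂
    obtain ⟨y, -, hy⟩ := (Nat.card_eq_two_iff'
      (1 : ↥⁅t.j.range, Subgroup.zpowers (t.ι a)⁆)).mp hcard
    have e1 := hy ⟨r₁, h₁⟩ (fun h => hr₁ (congrArg Subtype.val h))
    have e2 := hy ⟨r₂, h₂⟩ (fun h => hr₂ (congrArg Subtype.val h))
    exact congrArg Subtype.val (e1.trans e2.symm)
  have haC : a ∉ Subgroup.centralizer (V : Set X) := by
    rw [hC]; exact haTv.ne_one
  -- a vector moved by `a`
  obtain ⟨w, hw, hwa⟩ : ∃ w ∈ V, w * a ≠ a * w := by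
    by_contra hcon
    push Not at hcon
    apply haC
    rw [Subgroup.mem_centralizer_iff]
    exact hcon
  have hw1 : ⁅t.j ⟨w, hw⟩, t.ι a⁆ ≠ 1 := by
    rw [hcomm ⟨w, hw⟩]
    intro h
    have h3 := t.j_inj (h.trans (map_one t.j).symm)
    have h4 : w * a * w⁻¹ * a⁻¹ = 1 := congrArg Subtype.val h3
    apply hwa
    calc w * a = (w * a * w⁻¹ * a⁻¹) * a * w := by group
      _ = a * w := by rw [h4, one_mul]
  have hzV : w * a * w⁻¹ * a⁻¹ ∈ V := by
    have h1 : a * w⁻¹ * a⁻¹ ∈ V := hVn.conj_mem _ (V.inv_mem hw) a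
    have h2 : w * a * w⁻¹ * a⁻¹ = w * (a * w⁻¹ * a⁻¹) := by group
    rw [h2]
    exact V.mul_mem hw h1
  refine ⟨a, haA, d, w * a * w⁻¹ * a⁻¹, hzV, ?_, ?_, haC, ?_, ?_, ?_, ?_, ?_⟩
  · intro h
    apply hwa
    calc w * a = (w * a * w⁻¹ * a⁻¹) * a * w := by group
      _ = a * w := by rw [h, one_mul]
  · intro v hv
    by_cases hv1 : ⁅t.j ⟨v, hv⟩, t.ι a⁆ = 1
    · left
      rw [hcomm ⟨v, hv⟩] at hv1
      have h3 := t.j_inj (hv1.trans (map_one t.j).symm)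
      exact congrArg Subtype.val h3
    · right
      have := htwo _ (hmemR ⟨v, hv⟩) _ (hmemR ⟨w, hw⟩) hv1 hw1
      rw [hcomm ⟨v, hv⟩, hcomm ⟨w, hw⟩] at this
      have h3 := t.j_inj this
      exact congrArg Subtype.val h3
  · rw [hC]
    rcases hd with hd | hd
    · rw [hd]; exact hd'1
    · rw [hd]; exact inv_ne_one.mpr hd'1
  · rw [hC, map_pow]
    rcases hd with hd | hd
    · rw [hd]; exact hd'3
    · rw [hd, inv_pow, hd'3, inv_one]
  · exact hadd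
  · exact hdodd
  · intro B hB b hb
    have hbH : t.ι b ∈ N.map t.ι := hleH B hB ⟨b, hb, rfl⟩
    have hbE := hnormE hbH
    have h1 : t.ι b * d' * (t.ι b)⁻¹ ∈ E 2 (N.map t.ι) (t.ι a) :=
      (Subgroup.mem_normalizer_iff.mp hbE d').mp hd'E
    have h2 : (t.ι b * d' * (t.ι b)⁻¹) ^ 3 = 1 := by
      rw [conj_pow, hd'3]; group
    have h3 : t.ι b * d'⁻¹ * (t.ι b)⁻¹ = (t.ι b * d' * (t.ι b)⁻¹)⁻¹ := by group
    rcases hd'u _ h1 h2 with h | h | h
    · exfalso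
      apply hd'1
      calc d' = (t.ι b)⁻¹ * (t.ι b * d' * (t.ι b)⁻¹) * t.ι b := by group
        _ = 1 := by rw [h]; group
    · left
      rw [hC, map_mul, map_mul, map_mul, map_inv, map_inv]
      rcases hd with hd | hd
      · rw [hd, h, mul_inv_cancel]
      · rw [hd, h3, h, mul_inv_cancel]
    · right
      rw [hC, map_mul, map_mul, map_mul, map_inv]
      rcases hd with hd | hd
      · rw [hd, h, inv_mul_cancel]
      · rw [hd, h3, h, inv_inv, mul_inv_cancel]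

end xform

section sub

open Subgroup
open Cfsg.Agent.S5306 (EA maxEA JJ)
open Cfsg.Agent.Lib.Helper10_JComp
open Cfsg.Agent.Lib.Helper10_JCompB
open Cfsg.Agent.Lib.Helper10_JCompF
open Cfsg.Agent.Lib.Helper10_JCompSub

variable {G : Type*} [Group G] [Finite G]

/-- subgroup form of `exists_S3_elt` -/
theorem exists_S3_sub {L V : Subgroup G} (hsolv : Group.IsSolvable ↥L)
    (hVL : V ≤ L) (hLV : L ≤ normalizer (V : Set G)) (hV2 : ∀ v ∈ V, v * v = 1)
    (hQV : pCoreOf 2 L ≤ centralizer (V : Set G))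
    (h1 : ∀ c ∈ L ⊓ centralizer (V : Set G), ∀ t ∈ L, ∀ k : ℕ, t ^ 2 ^ k = 1 →
      c * t * c⁻¹ * t⁻¹ ∈ pCoreOf 2 L)
    (h2 : ∀ c ∈ L ⊓ centralizer (V : Set G), ∀ k : ℕ, c ^ 2 ^ k = 1 → c ∈ pCoreOf 2 L)
    (𝒜 : Set (Subgroup G)) (h𝒜L : ∀ A ∈ 𝒜, A ≤ L)
    (h𝒜c : ∀ A ∈ 𝒜, ∀ x ∈ A, ∀ y ∈ A, x * y = y * x)
    (h𝒜2 : ∀ A ∈ 𝒜, IsPGroup 2 A)
    (h𝒜off : ∀ A ∈ 𝒜, Nat.card V * Nat.card ↥(A ⊓ centralizer (V : Set G)) ≤
        Nat.card A * Nat.card ↥(V ⊓ centralizer (A : Set G)))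
    {A₀ : Subgroup G} (hA₀ : A₀ ∈ 𝒜) (hA₀V : ¬ A₀ ≤ centralizer (V : Set G))
    (hA₀sq : ∀ x ∈ A₀, x * x = 1) :
    ∃ a ∈ A₀, ∃ d ∈ L, ∃ z ∈ V, z ≠ 1 ∧
      (∀ v ∈ V, v * a * v⁻¹ * a⁻¹ = 1 ∨ v * a * v⁻¹ * a⁻¹ = z) ∧
      a ∉ centralizer (V : Set G) ∧ d ∉ centralizer (V : Set G) ∧
      d ^ 3 ∈ centralizer (V : Set G) ∧
      a * d * a⁻¹ = d⁻¹ ∧ Odd (orderOf d) ∧
      ∀ B ∈ 𝒜, ∀ b ∈ B, b * d * b⁻¹ * d⁻¹ ∈ centralizer (V : Set G) ∨
        b * d * b⁻¹ * d ∈ centralizer (V : Set G) := by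
  haveI := hsolv
  have hVn : (V.subgroupOf L).Normal := Subgroup.normal_subgroupOf_of_le_normalizer hLV
  have hVEA : IsElementaryAbelian 2 (V.subgroupOf L) := by
    rw [Cfsg.Agent.S5306.isEA_iff]
    refine ⟨fun a ha b hb => ?_, fun a ha => ?_⟩
    · apply Subtype.ext
      exact comm_of_sq hV2 _ (Subgroup.mem_subgroupOf.mp ha) _ (Subgroup.mem_subgroupOf.mp hb)
    · apply Subtype.ext
      rw [Subgroup.coe_pow, pow_two]
      exact hV2 _ (Subgroup.mem_subgroupOf.mp ha)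
  have hO : pCore 2 (↥L ⧸ centralizer ((V.subgroupOf L : Subgroup L) : Set L)) = ⊥ := by
    apply Cfsg.Agent.Lib.Helper10_JCompFF.pCore_quot_eq_bot
    · intro x hx
      rw [mem_centralizer_subgroupOf_iff hVL]
      exact hQV ((mem_pCore_iff L x).mp hx)
    · rintro c hc t ⟨k, hk⟩
      rw [mem_pCore_iff]
      rw [mem_centralizer_subgroupOf_iff hVL] at hc
      have hk' : (t : G) ^ 2 ^ k = 1 := by
        have := congrArg Subtype.val hk
        simpa using this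
      have := h1 c (Subgroup.mem_inf.mpr ⟨c.2, hc⟩) t t.2 k hk'
      simpa using this
    · rintro c hc ⟨k, hk⟩
      rw [mem_pCore_iff]
      rw [mem_centralizer_subgroupOf_iff hVL] at hc
      have hk' : (c : G) ^ 2 ^ k = 1 := by
        have := congrArg Subtype.val hk
        simpa using this
      exact h2 c (Subgroup.mem_inf.mpr ⟨c.2, hc⟩) k hk'
  have e1 : Nat.card ↥(V.subgroupOf L) = Nat.card V :=
    Cfsg.Agent.Lib.Helper10_Thompson.card_subgroupOf_of_le hVL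
  have e2 : ∀ A ∈ 𝒜, Nat.card ↥(A.subgroupOf L) = Nat.card A := fun A hA =>
    Cfsg.Agent.Lib.Helper10_Thompson.card_subgroupOf_of_le (h𝒜L A hA)
  have e3 : ∀ A ∈ 𝒜, Nat.card ↥(A.subgroupOf L ⊓
      centralizer ((V.subgroupOf L : Subgroup L) : Set L)) =
      Nat.card ↥(A ⊓ centralizer (V : Set G)) := by
    intro A hA
    rw [← subgroupOf_inf_centralizer hVL]
    exact Cfsg.Agent.Lib.Helper10_Thompson.card_subgroupOf_of_le (inf_le_left.trans (h𝒜L A hA))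
  have e4 : ∀ A ∈ 𝒜, Nat.card ↥(V.subgroupOf L ⊓
      centralizer ((A.subgroupOf L : Subgroup L) : Set L)) =
      Nat.card ↥(V ⊓ centralizer (A : Set G)) := by
    intro A hA
    rw [← subgroupOf_inf_centralizer (h𝒜L A hA)]
    exact Cfsg.Agent.Lib.Helper10_Thompson.card_subgroupOf_of_le (inf_le_left.trans hVL)
  obtain ⟨a, haA, d, z, hzV, hz1, hav, haC, hdC, hd3, had, hdodd, hB⟩ :=
    exists_S3_elt (V.subgroupOf L) hVEA hO ((fun A : Subgroup G => A.subgroupOf L) '' 𝒜)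
    (by
      rintro _ ⟨A, hA, rfl⟩ x hx y hy
      apply Subtype.ext
      exact h𝒜c A hA _ (Subgroup.mem_subgroupOf.mp hx) _ (Subgroup.mem_subgroupOf.mp hy))
    (by
      rintro _ ⟨A, hA, rfl⟩
      exact (h𝒜2 A hA).comap_subtype)
    (by
      rintro _ ⟨A, hA, rfl⟩
      rw [e1, e2 A hA, e3 A hA, e4 A hA]; exact h𝒜off A hA)
    (A₀.subgroupOf L) ⟨A₀, hA₀, rfl⟩
    (by
      intro hle
      apply hA₀V
      intro x hx
      have := hle (Subgroup.mem_subgroupOf.mpr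
        (show ((⟨x, h𝒜L A₀ hA₀ hx⟩ : L) : G) ∈ A₀ from hx))
      rwa [mem_centralizer_subgroupOf_iff hVL] at this)
    (by
      intro x hx
      apply Subtype.ext
      exact hA₀sq _ (Subgroup.mem_subgroupOf.mp hx))
  refine ⟨a, Subgroup.mem_subgroupOf.mp haA, d, d.2, z, Subgroup.mem_subgroupOf.mp hzV, ?_, ?_,
    ?_, ?_, ?_, ?_, ?_, ?_⟩
  · intro h
    apply hz1
    exact Subtype.ext h
  · intro v hv
    rcases hav ⟨v, hVL hv⟩ (Subgroup.mem_subgroupOf.mpr hv) with h | h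
    · left
      have := congrArg Subtype.val h
      simpa using this
    · right
      have := congrArg Subtype.val h
      simpa using this
  · intro h
    apply haC
    rw [mem_centralizer_subgroupOf_iff hVL]
    exact h
  · intro h
    apply hdC
    rw [mem_centralizer_subgroupOf_iff hVL]
    exact h
  · have := hd3
    rw [mem_centralizer_subgroupOf_iff hVL] at this
    simpa using this
  · have := congrArg Subtype.val had
    simpa using this
  · rwa [Subgroup.orderOf_coe] at *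
  · intro B hB' b hb
    rcases hB _ ⟨B, hB', rfl⟩ ⟨b, h𝒜L B hB' hb⟩ (Subgroup.mem_subgroupOf.mpr hb) with h | h
    · left
      rw [mem_centralizer_subgroupOf_iff hVL] at h
      simpa using h
    · right
      rw [mem_centralizer_subgroupOf_iff hVL] at h
      simpa using h

/-- `Ctx` form -/
theorem ctx_exists_S3
    {T L J Q V C F₁ M' : Subgroup G} (ctx : Ctx T L J Q V C F₁ M') (hQdef : Q = pCoreOf 2 L)
    {A₀ : Subgroup G} (hA₀ : A₀ ∈ maxEA 2 T) (hA₀V : ¬ A₀ ≤ centralizer (V : Set G)) :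
    ∃ a ∈ A₀, ∃ d ∈ L, ∃ z ∈ V, z ≠ 1 ∧
      (∀ v ∈ V, v * a * v⁻¹ * a⁻¹ = 1 ∨ v * a * v⁻¹ * a⁻¹ = z) ∧
      a ∉ C ∧ d ∉ C ∧ d ^ 3 ∈ C ∧ a * d * a⁻¹ = d⁻¹ ∧ Odd (orderOf d) ∧
      ∀ B ∈ maxEA 2 T, ∀ b ∈ B, b * d * b⁻¹ * d⁻¹ ∈ C ∨ b * d * b⁻¹ * d ∈ C := by
  have hVL : V ≤ L := ctx.hVQ.trans ctx.hQL
  have hAL : ∀ A ∈ maxEA 2 T, A ≤ L := fun A hA => hA.1.trans ctx.hTL
  obtain ⟨a, haA, d, hdL, z, hzV, hz1, hav, haC, hdC, hd3, had, hdodd, hB⟩ :=
    exists_S3_sub ctx.hsolv hVL ctx.hLV ctx.hV2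
    (by rw [← hQdef]; exact ctx.hQV)
    (by rw [← hQdef, ← ctx.hCdef]; exact ctx.h1)
    (by rw [← hQdef, ← ctx.hCdef]; exact ctx.h2)
    (maxEA 2 T) hAL (fun A hA => hA.2.1.1) (fun A hA => ctx.hT2.to_le hA.1)
    (fun A hA => offender_of_maxEA (ctx.hVQ.trans ctx.hQT) ctx.hV2 hA) hA₀ hA₀V
    (fun x hx => by have := hA₀.2.1.2 x hx; rwa [pow_two] at this)
  have haL : a ∈ L := hAL A₀ hA₀ haA
  have memC : ∀ x ∈ L, x ∈ centralizer (V : Set G) → x ∈ C := by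
    intro x hx hxV
    rw [ctx.hCdef]
    exact Subgroup.mem_inf.mpr ⟨hx, hxV⟩
  refine ⟨a, haA, d, hdL, z, hzV, hz1, hav, fun h => haC (ctx.hCV h), fun h => hdC (ctx.hCV h),
    memC _ (L.pow_mem hdL 3) hd3, had, hdodd, ?_⟩
  intro B hB' b hb
  have hbL : b ∈ L := hAL B hB' hb
  rcases hB B hB' b hb with h | h
  · left
    exact memC _ (L.mul_mem (L.mul_mem (L.mul_mem hbL hdL) (L.inv_mem hbL)) (L.inv_mem hdL)) h
  · right
    exact memC _ (L.mul_mem (L.mul_mem (L.mul_mem hbL hdL) (L.inv_mem hbL)) hdL) h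

end sub

end Cfsg.Agent.Lib.Helper10_JCompS3
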