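import Mathlib

set_option autoImplicit false

namespace Cfsg.Agent.Lib.Helper67_Basic

open scoped Pointwise commutatorElement

variable {G : Type*} [Group G]

/-- The size of a conjugacy class is the index of the centralizer. -/
theorem ncard_isConj_eq_index (x : G) :
    {y : G | IsConj x y}.ncard = (Subgroup.centralizer ({x} : Set G)).index := by
  have horb : {h : G | IsConj x h} = MulAction.orbit (ConjAct G) x := by
    ext h
    rw [ConjAct.mem_orbit_conjAct, isConj_comm]
    rfl
  rw [horb, ← MulAction.index_stabilizer, Subgroup.centralizer_eq_comap_stabilizer]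
  exact (Subgroup.index_comap_of_surjective _ (ConjAct.toConjAct (G := G)).surjective).symm

theorem carrier_eq_setOf_isConj (x : G) :
    (ConjClasses.mk x).carrier = {y : G | IsConj x y} := by
  ext y
  rw [ConjClasses.mem_carrier_iff_mk_eq, ConjClasses.mk_eq_mk_iff_isConj, isConj_comm]
  rfl

theorem ncard_carrier_eq_index (x : G) :
    (ConjClasses.mk x).carrier.ncard = (Subgroup.centralizer ({x} : Set G)).index := by
  rw [carrier_eq_setOf_isConj, ncard_isConj_eq_index]

theorem orderOf_conj_eq (g x : G) : orderOf (g * x * g⁻¹) = orderOf x := by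
  rw [← MulAut.conj_apply]
  exact MulEquiv.orderOf_eq _ _

theorem isConj_inv_inv {x y : G} (h : IsConj x y) : IsConj x⁻¹ y⁻¹ := by
  obtain ⟨c, hc⟩ := isConj_iff.1 h
  refine isConj_iff.2 ⟨c, ?_⟩
  rw [← hc]; group

/-- A real element whose centralizer has odd index is an involution or trivial. -/
theorem sq_eq_one_of_isConj_inv_of_odd_index [Finite G] {x : G} (hx : IsConj x x⁻¹)
    (hodd : ¬ 2 ∣ (Subgroup.centralizer ({x} : Set G)).index) : x ^ 2 = 1 := by
  classical
  let α := {y : G // IsConj x y}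
  have : Fintype α := Fintype.ofFinite α
  have hinv : ∀ y : G, IsConj x y → IsConj x y⁻¹ := fun y hy => hx.trans (isConj_inv_inv hy)
  let σ : Equiv.Perm α :=
    { toFun := fun y => ⟨(y : G)⁻¹, hinv y y.2⟩
      invFun := fun y => ⟨(y : G)⁻¹, hinv y y.2⟩
      left_inv := fun y => Subtype.ext (inv_inv _)
      right_inv := fun y => Subtype.ext (inv_inv _) }
  have hσ : σ ^ 2 ^ 1 = 1 := by
    ext y
    simp [pow_two, σ]
  have hcard : ¬ 2 ∣ Fintype.card α := by
    rw [← Nat.card_eq_fintype_card]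
    change ¬ 2 ∣ Nat.card ({y : G | IsConj x y} : Set G)
    rw [Nat.card_coe_set_eq, ncard_isConj_eq_index]
    exact hodd
  have : Fact (Nat.Prime 2) := ⟨Nat.prime_two⟩
  obtain ⟨y, hy⟩ := Equiv.Perm.exists_fixed_point_of_prime hcard hσ
  have hy' : (y : G)⁻¹ = y := congrArg Subtype.val hy
  have hy2 : (y : G) ^ 2 = 1 := by
    rw [pow_two]
    nth_rewrite 1 [← hy']
    exact inv_mul_cancel _
  obtain ⟨c, hc⟩ := isConj_iff.1 y.2
  have : (c * x * c⁻¹) ^ 2 = 1 := by rw [hc]; exact hy2
  rw [conj_pow] at this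
  have h2 : x ^ 2 = c⁻¹ * (c * x ^ 2 * c⁻¹) * c := by group
  rw [h2, this]; group

/-- A real element centralizing a Sylow 2-subgroup is an involution or trivial. -/
theorem sq_eq_one_of_isConj_inv_of_mem_centralizer_sylow [Finite G] {x : G} (hx : IsConj x x⁻¹)
    (S : Sylow 2 G) (hS : x ∈ Subgroup.centralizer ((S : Subgroup G) : Set G)) : x ^ 2 = 1 := by
  have : Fact (Nat.Prime 2) := ⟨Nat.prime_two⟩
  apply sq_eq_one_of_isConj_inv_of_odd_index hx
  have hle : (S : Subgroup G) ≤ Subgroup.centralizer ({x} : Set G) := by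
    intro s hs
    rw [Subgroup.mem_centralizer_iff]
    intro y hy
    rw [Set.mem_singleton_iff] at hy
    subst hy
    exact (hS s hs).symm
  intro h2
  exact S.not_dvd_index (h2.trans (Subgroup.index_dvd_of_le hle))

/-- An element of odd order whose square is trivial is trivial. -/
theorem eq_one_of_sq_eq_one_of_odd_orderOf {x : G}
    (hodd : Odd (orderOf x)) (h2 : x ^ 2 = 1) : x = 1 := by
  have h1 : orderOf x ∣ 2 := orderOf_dvd_of_pow_eq_one h2
  have h3 : orderOf x = 1 := by
    rcases (Nat.dvd_prime Nat.prime_two).1 h1 with h | h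
    · exact h
    · rw [h] at hodd; exact absurd hodd (by decide)
  exact orderOf_eq_one_iff.1 h3

/-- If `g` inverts `x` then odd powers of `g` invert `x`. -/
theorem pow_conj_inv_of_odd {g x : G} (h : g * x * g⁻¹ = x⁻¹) {n : ℕ} (hn : Odd n) :
    g ^ n * x * (g ^ n)⁻¹ = x⁻¹ := by
  have hinv : g * x⁻¹ * g⁻¹ = x := by
    calc g * x⁻¹ * g⁻¹ = (g * x * g⁻¹)⁻¹ := by group
      _ = (x⁻¹)⁻¹ := by rw [h]
      _ = x := inv_inv x
  have key : ∀ k : ℕ, g ^ (2 * k) * x * (g ^ (2 * k))⁻¹ = x := by
    intro k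
    induction k with
    | zero => simp
    | succ k ih =>
      have e : g ^ (2 * (k + 1)) = g * g * g ^ (2 * k) := by
        rw [show 2 * (k + 1) = 2 * k + 1 + 1 by ring, pow_succ', pow_succ', mul_assoc]
      rw [e]
      calc g * g * g ^ (2 * k) * x * (g * g * g ^ (2 * k))⁻¹
          = g * (g * (g ^ (2 * k) * x * (g ^ (2 * k))⁻¹) * g⁻¹) * g⁻¹ := by group
        _ = g * (g * x * g⁻¹) * g⁻¹ := by rw [ih]
        _ = g * x⁻¹ * g⁻¹ := by rw [h]
        _ = x := hinv
  obtain ⟨k, rfl⟩ := hn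
  calc g ^ (2 * k + 1) * x * (g ^ (2 * k + 1))⁻¹
      = g * (g ^ (2 * k) * x * (g ^ (2 * k))⁻¹) * g⁻¹ := by rw [pow_succ']; group
    _ = g * x * g⁻¹ := by rw [key]
    _ = x⁻¹ := h

/-- A real element is inverted by an element of 2-power order. -/
theorem exists_two_pow_conj_inv [Finite G] {x : G} (hx : IsConj x x⁻¹) :
    ∃ (g : G) (k : ℕ), orderOf g = 2 ^ k ∧ g * x * g⁻¹ = x⁻¹ := by
  obtain ⟨g, hg⟩ := isConj_iff.1 hx
  have hpos : orderOf g ≠ 0 := (orderOf_pos g).ne'
  obtain ⟨k, m, hm, hkm⟩ := Nat.exists_eq_two_pow_mul_odd hpos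
  refine ⟨g ^ m, k, ?_, pow_conj_inv_of_odd hg hm⟩
  rw [orderOf_pow, hkm, Nat.gcd_eq_right (Dvd.intro_left _ rfl), Nat.mul_div_cancel _ hm.pos]

/-- Bezout decomposition of an element along coprime exponents. -/
theorem eq_zpow_mul_zpow_of_coprime (g : G) {a b : ℕ} (h : Nat.Coprime a b) :
    g = (g ^ a) ^ (Nat.gcdA a b) * (g ^ b) ^ (Nat.gcdB a b) := by
  have hbez := Nat.gcd_eq_gcd_ab a b
  rw [h] at hbez
  rw [← zpow_natCast g a, ← zpow_natCast g b, ← zpow_mul, ← zpow_mul, ← zpow_add, ← hbez]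
  simp

/-- In a finite group, `g` normalizes `⟨x⟩` as soon as it conjugates `x` into `⟨x⟩`. -/
theorem mem_normalizer_zpowers_iff [Finite G] {g x : G} :
    g ∈ Subgroup.normalizer ((Subgroup.zpowers x : Subgroup G) : Set G) ↔
      g * x * g⁻¹ ∈ Subgroup.zpowers x := by
  constructor
  · intro hg
    exact (Subgroup.mem_normalizer_iff.1 hg x).1 (Subgroup.mem_zpowers x)
  · intro hg
    set H := Subgroup.zpowers x with hH
    have hmap : H.map (MulAut.conj g).toMonoidHom ≤ H := by
      rintro _ ⟨h, hh, rfl⟩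
      obtain ⟨k, rfl⟩ := Subgroup.mem_zpowers_iff.1 hh
      change MulAut.conj g (x ^ k) ∈ H
      rw [map_zpow, MulAut.conj_apply]
      exact H.zpow_mem hg k
    have hcard : Nat.card H ≤ Nat.card (H.map (MulAut.conj g).toMonoidHom) := by
      rw [Subgroup.card_map_of_injective (MulAut.conj g).injective]
    have heq : H.map (MulAut.conj g).toMonoidHom = H := Subgroup.eq_of_le_of_card_ge hmap hcard
    rw [Subgroup.mem_normalizer_iff]
    intro h
    constructor
    · intro hh
      rw [← heq]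
      exact ⟨h, hh, rfl⟩
    · intro hh
      rw [← heq] at hh
      obtain ⟨h', hh', he⟩ := hh
      have : h' = h := by
        have he' : g * h' * g⁻¹ = g * h * g⁻¹ := he
        have := congrArg (fun z => g⁻¹ * z * g) he'
        simpa [mul_assoc] using this
      rw [← this]; exact hh'

/-- Every `p`-subgroup can be conjugated into a given Sylow `p`-subgroup. -/
theorem exists_conj_mem_sylow [Finite G] {p : ℕ} [Fact p.Prime] (P : Sylow p G) {K : Subgroup G}
    (hK : IsPGroup p K) : ∃ c : G, ∀ k ∈ K, c * k * c⁻¹ ∈ (P : Subgroup G) := by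
  obtain ⟨Q, hQ⟩ := hK.exists_le_sylow
  obtain ⟨c, hc⟩ := MulAction.exists_smul_eq G Q P
  refine ⟨c, fun k hk => ?_⟩
  have h1 : MulAut.conj c • k ∈ MulAut.conj c • (Q : Subgroup G) :=
    Subgroup.smul_mem_pointwise_smul k (MulAut.conj c) (Q : Subgroup G) (hQ hk)
  have h2 : (MulAut.conj c • (Q : Subgroup G)) = (P : Subgroup G) := by
    rw [← Sylow.coe_subgroup_smul, hc]
  rw [h2] at h1
  simpa [MulAut.smul_def] using h1

/-- An element of odd order normalizing a cyclic `2`-subgroup centralizes it. -/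
theorem mem_centralizer_of_odd_of_mem_normalizer [Finite G] {H : Subgroup G} (hc : IsCyclic H)
    {k : ℕ} (hcard : Nat.card H = 2 ^ k) {h : G} (hh : h ∈ Subgroup.normalizer (H : Set G))
    (hodd : Odd (orderOf h)) : h ∈ Subgroup.centralizer (H : Set G) := by
  let h' : Subgroup.normalizer (H : Set G) := ⟨h, hh⟩
  have h1 : orderOf (H.normalizerMonoidHom h') ∣ orderOf h := by
    have := orderOf_map_dvd H.normalizerMonoidHom h'
    rwa [Subgroup.orderOf_mk] at this
  have h2 : orderOf (H.normalizerMonoidHom h') ∣ Nat.card (MulAut H) := orderOf_dvd_natCard _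
  have h3 : Nat.card (MulAut H) ∣ 2 ^ k := by
    rw [IsCyclic.card_mulAut, hcard]
    rcases Nat.eq_zero_or_pos k with h0 | h0
    · rw [h0, pow_zero, Nat.totient_one]
    · rw [Nat.totient_prime_pow Nat.prime_two h0]
      have : 2 ^ (k - 1) * (2 - 1) = 2 ^ (k - 1) := by norm_num
      rw [this]
      exact pow_dvd_pow 2 (Nat.sub_le k 1)
  have hcop : Nat.Coprime (orderOf h) (2 ^ k) := Nat.Coprime.pow_right _ hodd.coprime_two_right
  have h4 : orderOf (H.normalizerMonoidHom h') = 1 :=
    Nat.eq_one_of_dvd_coprimes hcop h1 (h2.trans h3)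
  have h5 : h' ∈ H.normalizerMonoidHom.ker := orderOf_eq_one_iff.1 h4
  rw [Subgroup.normalizerMonoidHom_ker, Subgroup.mem_subgroupOf] at h5
  exact h5

/-- (Copied from helper71's `Helper71_Fitting.mem_of_primePow_mem`, to keep this file independent.)
Prime-power induction inside a cyclic subgroup: if every element of prime power order of
`Subgroup.zpowers x` lies in the subgroup `K`, then so does `x`. -/
theorem mem_of_primePow_mem [Finite G] (K : Subgroup G) (x : G)
    (h : ∀ y ∈ Subgroup.zpowers x, ∀ p k : ℕ, p.Prime → orderOf y = p ^ k → y ∈ K) : x ∈ K := by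
  suffices H : ∀ N : ℕ, ∀ y ∈ Subgroup.zpowers x, orderOf y = N → y ∈ K from
    H _ x (Subgroup.mem_zpowers x) rfl
  intro N
  induction N using Nat.strong_induction_on with
  | _ N ih =>
    intro y hy hN
    have hNpos : 0 < N := hN ▸ orderOf_pos y
    by_cases hN1 : N = 1
    · have : y = 1 := orderOf_eq_one_iff.mp (hN.trans hN1)
      rw [this]; exact one_mem K
    -- pick a prime divisor
    set p := N.minFac with hp_def
    have hp : p.Prime := Nat.minFac_prime hN1
    set a := N.factorization p with ha_def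
    have hpa_dvd : p ^ a ∣ N := Nat.ordProj_dvd N p
    set m := N / p ^ a with hm_def
    have hNm : p ^ a * m = N := Nat.mul_div_cancel' hpa_dvd
    have hcop : Nat.Coprime (p ^ a) m := by
      have : Nat.Coprime p m := Nat.coprime_ordCompl hp hNpos.ne'
      exact Nat.Coprime.pow_left a this
    have ha_pos : 0 < a := hp.factorization_pos_of_dvd hNpos.ne' (Nat.minFac_dvd N)
    have hm_lt : m < N := by
      have h2 : 2 ≤ p ^ a := by
        calc 2 ≤ p := hp.two_le
          _ = p ^ 1 := (pow_one p).symm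
          _ ≤ p ^ a := Nat.pow_le_pow_right hp.pos ha_pos
      have hmpos : 0 < m := Nat.pos_of_ne_zero (by
        intro h0; rw [h0, mul_zero] at hNm; omega)
      nlinarith
    -- orders of the two components
    have ho1 : orderOf (y ^ (p ^ a)) = m := by
      rw [orderOf_pow' y (pow_pos hp.pos a).ne', hN]
      rw [Nat.gcd_eq_right hpa_dvd]
    have ho2 : orderOf (y ^ m) = p ^ a := by
      have hm0 : m ≠ 0 := by
        intro h0; rw [h0, mul_zero] at hNm; omega
      rw [orderOf_pow' y hm0, hN]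
      have : m ∣ N := ⟨p ^ a, by rw [mul_comm]; exact hNm.symm⟩
      rw [Nat.gcd_eq_right this]
      exact Nat.div_eq_of_eq_mul_left (Nat.pos_of_ne_zero hm0) hNm.symm
    have hy1 : y ^ (p ^ a) ∈ K := ih m hm_lt _ (pow_mem hy _) ho1
    have hy2 : y ^ m ∈ K := h _ (pow_mem hy _) p a hp ho2
    -- Bezout
    have hcop' : IsCoprime ((p ^ a : ℕ) : ℤ) (m : ℤ) := Nat.isCoprime_iff_coprime.mpr hcop
    obtain ⟨u, v, huv⟩ := hcop'
    have : y = (y ^ (p ^ a)) ^ u * (y ^ m) ^ v := by
      rw [← zpow_natCast y (p ^ a), ← zpow_natCast y m, ← zpow_mul, ← zpow_mul, ← zpow_add]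
      have : ((p ^ a : ℕ) : ℤ) * u + (m : ℤ) * v = 1 := by linarith
      rw [this, zpow_one]
    rw [this]
    exact K.mul_mem (K.zpow_mem hy1 _) (K.zpow_mem hy2 _)

/-- Order of the preimage of a subgroup of a quotient. -/
theorem card_comap_mk' [Finite G] (N : Subgroup G) [N.Normal] (K : Subgroup (G ⧸ N)) :
    Nat.card (K.comap (QuotientGroup.mk' N)) = Nat.card N * Nat.card K := by
  have h1 := Subgroup.card_mul_index (K.comap (QuotientGroup.mk' N))
  have h2 : (K.comap (QuotientGroup.mk' N)).index = K.index :=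
    Subgroup.index_comap_of_surjective K (QuotientGroup.mk'_surjective N)
  have h3 := Subgroup.card_mul_index K
  have h4 := Subgroup.card_mul_index N
  have h5 : N.index = Nat.card (G ⧸ N) := Subgroup.index_eq_card N
  have hpos : 0 < K.index := Nat.pos_of_ne_zero (Subgroup.index_ne_zero_of_finite)
  rw [h2] at h1
  have : Nat.card (K.comap (QuotientGroup.mk' N)) * K.index = Nat.card N * Nat.card K * K.index := by
    rw [h1, mul_assoc, h3, ← h5, h4]
  exact Nat.eq_of_mul_eq_mul_right hpos this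

/-- Sylow lifting: if `N` is a normal `r'`-subgroup, `x` an `r`-element and the image of `g`
normalizes `⟨xN⟩` in `G ⧸ N`, then `l * g` normalizes `⟨x⟩` for some `l` whose image lies in `⟨xN⟩`. -/
theorem exists_mul_mem_normalizer_zpowers [Finite G] (N : Subgroup G) [N.Normal] {r : ℕ}
    [Fact r.Prime] (hrN : ¬ r ∣ Nat.card N) {x g : G} {c : ℕ} (hx : orderOf x = r ^ c)
    (hg : QuotientGroup.mk' N g ∈ Subgroup.normalizer
      ((Subgroup.zpowers (QuotientGroup.mk' N x) : Subgroup (G ⧸ N)) : Set (G ⧸ N))) :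
    ∃ l : G, QuotientGroup.mk' N l ∈ Subgroup.zpowers (QuotientGroup.mk' N x) ∧
      l * g ∈ Subgroup.normalizer ((Subgroup.zpowers x : Subgroup G) : Set G) := by
  have hr : r.Prime := Fact.out
  set y := QuotientGroup.mk' N x with hy
  set Y := Subgroup.zpowers y with hY
  set L := Y.comap (QuotientGroup.mk' N) with hL
  have hxL : x ∈ L := by
    rw [hL, Subgroup.mem_comap]; exact Subgroup.mem_zpowers y
  have hwL : g * x * g⁻¹ ∈ L := by
    rw [hL, Subgroup.mem_comap, map_mul, map_mul, map_inv]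
    exact mem_normalizer_zpowers_iff.1 hg
  let x' : L := ⟨x, hxL⟩
  let w' : L := ⟨g * x * g⁻¹, hwL⟩
  have hx'ord : orderOf x' = r ^ c := by rw [← hx]; exact Subgroup.orderOf_mk x hxL
  have hw'ord : orderOf w' = r ^ c := by
    rw [← hx, ← orderOf_conj_eq g x]; exact Subgroup.orderOf_mk _ hwL
  have hXp : IsPGroup r (Subgroup.zpowers x') :=
    IsPGroup.of_card (n := c) (by rw [Nat.card_zpowers, hx'ord])
  have hWp : IsPGroup r (Subgroup.zpowers w') :=
    IsPGroup.of_card (n := c) (by rw [Nat.card_zpowers, hw'ord])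
  obtain ⟨Q, hQ⟩ := hXp.exists_le_sylow
  -- the order of `Q`
  have hLcard : Nat.card L = Nat.card N * orderOf y := by
    rw [hL, card_comap_mk', Nat.card_zpowers]
  have hyx : orderOf y ∣ r ^ c := by rw [← hx]; exact orderOf_map_dvd _ x
  obtain ⟨b, hb⟩ := Q.2.exists_card_eq
  have hQdvd : Nat.card (Q : Subgroup L) ∣ Nat.card N * orderOf y := by
    rw [← hLcard]; exact Subgroup.card_subgroup_dvd_card _
  have hcop : Nat.Coprime (Nat.card (Q : Subgroup L)) (Nat.card N) := by
    rw [hb]
    exact Nat.Coprime.pow_left _ ((Nat.Prime.coprime_iff_not_dvd hr).2 hrN)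
  have hQle : Nat.card (Q : Subgroup L) ≤ Nat.card (Subgroup.zpowers x') := by
    have h1 : Nat.card (Q : Subgroup L) ∣ orderOf y := hcop.dvd_of_dvd_mul_left hQdvd
    have h2 : Nat.card (Q : Subgroup L) ∣ r ^ c := h1.trans hyx
    rw [Nat.card_zpowers, hx'ord]
    exact Nat.le_of_dvd (pow_pos hr.pos c) h2
  have hQeq : Subgroup.zpowers x' = (Q : Subgroup L) := Subgroup.eq_of_le_of_card_ge hQ hQle
  obtain ⟨l, hl⟩ := exists_conj_mem_sylow Q hWp
  have hmem : l * w' * l⁻¹ ∈ Subgroup.zpowers x' := by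
    rw [hQeq]; exact hl w' (Subgroup.mem_zpowers w')
  obtain ⟨i, hi⟩ := Subgroup.mem_zpowers_iff.1 hmem
  refine ⟨(l : G), ?_, ?_⟩
  · exact Subgroup.mem_comap.1 l.2
  · rw [mem_normalizer_zpowers_iff]
    refine Subgroup.mem_zpowers_iff.2 ⟨i, ?_⟩
    have := congrArg (fun z : L => (z : G)) hi
    simp only [Subgroup.coe_zpow, Subgroup.coe_mul, Subgroup.coe_inv, x', w'] at this
    rw [this]; group

/-- A nontrivial solvable group has a nontrivial abelian normal subgroup
(the last nontrivial term of the derived series). -/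
theorem exists_normal_abelian_ne_bot [Group.IsSolvable G] [Nontrivial G] :
    ∃ A : Subgroup G, A.Normal ∧ A ≠ ⊥ ∧ ∀ a ∈ A, ∀ b ∈ A, a * b = b * a := by
  classical
  have hsol : ∃ n, derivedSeries G n = ⊥ := Group.IsSolvable.solvable
  have hfind := Nat.find_spec hsol
  rcases hk : Nat.find hsol with _ | j
  · exfalso
    rw [hk, derivedSeries_zero] at hfind
    exact top_ne_bot hfind
  · refine ⟨derivedSeries G j, derivedSeries_normal G j, ?_, ?_⟩
    · exact Nat.find_min hsol (by rw [hk]; exact Nat.lt_succ_self j)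
    · intro a ha b hb
      rw [hk, derivedSeries_succ] at hfind
      have h1 : ⁅a, b⁆ ∈ ⁅derivedSeries G j, derivedSeries G j⁆ :=
        Subgroup.commutator_mem_commutator ha hb
      rw [hfind, Subgroup.mem_bot] at h1
      exact commutatorElement_eq_one_iff_mul_comm.1 h1

/-- A `p`-subgroup `S` normalizing a nontrivial finite `p`-subgroup `D` centralizes some
nontrivial element of `D`. -/
theorem exists_ne_one_fixed_of_pgroup {p : ℕ} [Fact p.Prime] {D S : Subgroup G} [Finite D]
    (hD : IsPGroup p D) (hS : IsPGroup p S) (hne : D ≠ ⊥)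
    (hnorm : ∀ s ∈ S, ∀ d ∈ D, s * d * s⁻¹ ∈ D) :
    ∃ d ∈ D, d ≠ 1 ∧ ∀ s ∈ S, s * d * s⁻¹ = d := by
  letI : MulAction S D :=
    { smul := fun s d => ⟨(s : G) * d * (s : G)⁻¹, hnorm s s.2 d d.2⟩
      one_smul := fun d => Subtype.ext (by
        change ((1 : S) : G) * d * ((1 : S) : G)⁻¹ = d
        simp)
      mul_smul := fun s t d => Subtype.ext (by
        change ((s * t : S) : G) * d * ((s * t : S) : G)⁻¹ = (s : G) * ((t : G) * d * (t : G)⁻¹) * (s : G)⁻¹
        simp [mul_assoc]) }
  have hsmul : ∀ (s : S) (d : D), ((s • d : D) : G) = (s : G) * d * (s : G)⁻¹ := fun _ _ => rfl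
  have hdvd : p ∣ Nat.card D := by
    have hnt : Nontrivial D := (Subgroup.nontrivial_iff_ne_bot D).2 hne
    obtain ⟨k, hk0, hk⟩ := (hD.nontrivial_iff_card).1 hnt
    rw [hk]
    exact dvd_pow_self p hk0.ne'
  have hfix : (1 : D) ∈ MulAction.fixedPoints S D := by
    intro s
    apply Subtype.ext
    rw [hsmul]
    simp
  obtain ⟨b, hb, hb1⟩ := hS.exists_fixed_point_of_prime_dvd_card_of_fixed_point D hdvd hfix
  refine ⟨(b : G), b.2, ?_, ?_⟩
  · intro h
    apply hb1
    exact (Subtype.ext h).symm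
  · intro s hs
    have := hb ⟨s, hs⟩
    have h2 := congrArg (fun d : D => (d : G)) this
    simpa [hsmul] using h2

end Cfsg.Agent.Lib.Helper67_Basic
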