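import Mathlib
import Cfsg.Agent.Lib.Helper10_JCompSub
import Cfsg.Agent.Lib.Helper2_Coprime
import Cfsg.Agent.Lib.Helper67_Basic

set_option autoImplicit false
set_option linter.unusedSectionVars false
set_option linter.unusedVariables false
set_option linter.style.haveILetI false

/-!
# The module of a `J`-component has order at most four (helper10)

Intrinsic bound: if `A` is a largest elementary abelian subgroup of the `2`-group `T`, `P ≤ T` is
normalized by `A` and by an element `d` of order three inverted by some `a ∈ A`, every element of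
`A` centralizes or inverts `d` modulo `P`, and `U ≤ Z(P)` is elementary abelian, normalized by `A`
and `d`, then `[U, d]` has order at most `4`.
-/

namespace Cfsg.Agent.Lib.Helper10_JCompX

open Cfsg Subgroup
open scoped IsMulCommutative
open Cfsg.Agent.S5306 (EA maxEA)
open Cfsg.Agent.Lib.Helper10_JCompF
open Cfsg.Agent.Lib.Helper10_JCompSub (offender_of_maxEA)
open Cfsg.Agent.Lib.Helper10_JComp (comm_of_sq)

variable {G : Type*} [Group G] [Finite G]

theorem isPGroup_of_sq {W : Subgroup G} (hW2 : ∀ w ∈ W, w * w = 1) : IsPGroup 2 W := by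
  intro w
  refine ⟨1, ?_⟩
  apply Subtype.ext
  rw [pow_one, pow_two]
  exact hW2 w w.2

/-- an involution acting on an elementary abelian `2`-group `W`: `|W| ≤ |C_W(a)|²` -/
theorem card_le_sq_fix {W : Subgroup G} (hW2 : ∀ w ∈ W, w * w = 1) {a : G} (ha2 : a * a = 1)
    (haW : a ∈ normalizer (W : Set G)) :
    Nat.card W ≤ Nat.card ↥(W ⊓ centralizer ({a} : Set G)) ^ 2 := by
  have hcomm := comm_of_sq hW2
  have hainv : a⁻¹ = a := inv_eq_of_mul_eq_one_left ha2
  have hconj : ∀ w ∈ W, a * w * a⁻¹ ∈ W := fun w hw => (mem_normalizer_iff.mp haW w).mp hw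
  let φ : W →* W :=
    { toFun := fun w => ⟨(w : G) * (a * w * a⁻¹), W.mul_mem w.2 (hconj w w.2)⟩
      map_one' := by
        apply Subtype.ext
        simp
      map_mul' := by
        intro x y
        apply Subtype.ext
        simp only [Subgroup.coe_mul]
        have h1 := hcomm (a * x * a⁻¹) (hconj x x.2) y y.2
        calc (x : G) * y * (a * (x * y) * a⁻¹)
            = x * (y * (a * x * a⁻¹)) * (a * y * a⁻¹) := by group
          _ = x * ((a * x * a⁻¹) * y) * (a * y * a⁻¹) := by rw [h1]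
          _ = x * (a * x * a⁻¹) * (y * (a * y * a⁻¹)) := by group }
  have hφ : ∀ w : W, ((φ w : W) : G) = (w : G) * (a * w * a⁻¹) := fun w => rfl
  set F : Subgroup W := (W ⊓ centralizer ({a} : Set G)).subgroupOf W with hF
  have hFcard : Nat.card F = Nat.card ↥(W ⊓ centralizer ({a} : Set G)) :=
    Cfsg.Agent.Lib.Helper24_CoprimeAction.card_subgroupOf_of_le inf_le_left
  have hker : φ.ker ≤ F := by
    intro w hw
    rw [MonoidHom.mem_ker] at hw
    have h1 : (w : G) * (a * w * a⁻¹) = 1 := by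
      rw [← hφ, hw]; rfl
    rw [hF, mem_subgroupOf]
    refine mem_inf.mpr ⟨w.2, ?_⟩
    rw [mem_centralizer_singleton_iff]
    have h2 : a * w * a⁻¹ = (w : G)⁻¹ := eq_inv_of_mul_eq_one_right h1
    have h3 : (w : G)⁻¹ = w := inv_eq_of_mul_eq_one_left (hW2 w w.2)
    rw [h3] at h2
    calc (w : G) * a = (a * w * a⁻¹) * a := by rw [h2]
      _ = a * w := by group
  have hrange : φ.range ≤ F := by
    rintro _ ⟨w, rfl⟩
    rw [hF, mem_subgroupOf]
    refine mem_inf.mpr ⟨(φ w).2, ?_⟩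
    rw [mem_centralizer_singleton_iff, hφ]
    have h1 := hcomm w w.2 (a * w * a⁻¹) (hconj w w.2)
    symm
    calc a * ((w : G) * (a * w * a⁻¹))
        = (a * w * a⁻¹) * ((a * a) * w * (a * a)⁻¹) * a := by group
      _ = (a * w * a⁻¹) * w * a := by rw [ha2]; group
      _ = (w : G) * (a * w * a⁻¹) * a := by rw [h1]
  have h1 : Nat.card W = Nat.card φ.ker * Nat.card φ.range := by
    rw [← Subgroup.index_ker, mul_comm]
    exact (Subgroup.index_mul_card φ.ker).symm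
  have h2 := Subgroup.card_le_of_le hker
  have h3 := Subgroup.card_le_of_le hrange
  calc Nat.card W = Nat.card φ.ker * Nat.card φ.range := h1
    _ ≤ Nat.card F * Nat.card F := Nat.mul_le_mul h2 h3
    _ = Nat.card ↥(W ⊓ centralizer ({a} : Set G)) ^ 2 := by rw [hFcard, pow_two]

/-- **Dual orbit bound.** An abelian `2`-group `B` acting on a nontrivial elementary abelian
`2`-group `W₀` with at most two fixed points satisfies `2 |B : C_B(W₀)| ≤ |W₀|`. -/
theorem two_mul_card_le {B W₀ : Subgroup G} (hBc : ∀ x ∈ B, ∀ y ∈ B, x * y = y * x)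
    (hB2 : IsPGroup 2 B) (hW2 : ∀ w ∈ W₀, w * w = 1) (hBW : B ≤ normalizer (W₀ : Set G))
    (hW1 : W₀ ≠ ⊥) (hfix : Nat.card ↥(W₀ ⊓ centralizer (B : Set G)) ≤ 2) :
    2 * Nat.card B ≤ Nat.card W₀ * Nat.card ↥(B ⊓ centralizer (W₀ : Set G)) := by
  classical
  haveI : Fact (Nat.Prime 2) := ⟨Nat.prime_two⟩
  have hW₀p : IsPGroup 2 W₀ := isPGroup_of_sq hW2
  have hcomm := comm_of_sq hW2
  have hWc : IsMulCommutative W₀ := ⟨⟨fun x y => Subtype.ext (hcomm x x.2 y y.2)⟩⟩
  have hne : Monoid.exponent W₀ ≠ 0 := Monoid.exponent_ne_zero_of_finite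
  have hNZ : NeZero (Monoid.exponent W₀ : ℂ) := ⟨by exact_mod_cast hne⟩
  have hcardD : Nat.card (W₀ →* ℂˣ) = Nat.card W₀ :=
    CommGroup.card_monoidHom_of_hasEnoughRootsOfUnity W₀ ℂ
  have hconj : ∀ s ∈ B, ∀ w ∈ W₀, s * w * s⁻¹ ∈ W₀ :=
    fun s hs w hw => (mem_normalizer_iff.mp (hBW hs) w).mp hw
  -- the fixed vector
  obtain ⟨e, heW, he1, hefix⟩ :=
    Cfsg.Agent.Lib.Helper67_Basic.exists_ne_one_fixed_of_pgroup hW₀p hB2 hW1 hconj
  have fix_mem : ∀ y ∈ W₀, (∀ s ∈ B, s * y * s⁻¹ = y) → y ∈ W₀ ⊓ centralizer (B : Set G) := by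
    intro y hy hfy
    refine mem_inf.mpr ⟨hy, ?_⟩
    rw [mem_centralizer_iff]
    intro s hs
    have := hfy s hs
    calc s * y = (s * y * s⁻¹) * s := by group
      _ = y * s := by rw [this]
  have heC : e ∈ W₀ ⊓ centralizer (B : Set G) := fix_mem e heW hefix
  have hfix2 : ∀ y ∈ W₀ ⊓ centralizer (B : Set G), y = 1 ∨ y = e := by
    intro y hy
    have hnt : Nontrivial ↥(W₀ ⊓ centralizer (B : Set G)) :=
      ⟨⟨⟨e, heC⟩, 1, fun h => he1 (congrArg Subtype.val h)⟩⟩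
    have h2 : Nat.card ↥(W₀ ⊓ centralizer (B : Set G)) = 2 := by
      have := Finite.one_lt_card_iff_nontrivial.mpr hnt
      omega
    obtain ⟨z, -, hz⟩ := (Nat.card_eq_two_iff' (1 : ↥(W₀ ⊓ centralizer (B : Set G)))).mp h2
    by_cases hy1 : y = 1
    · exact Or.inl hy1
    · right
      have e1 := hz ⟨y, hy⟩ (fun h => hy1 (congrArg Subtype.val h))
      have e2 := hz ⟨e, heC⟩ (fun h => he1 (congrArg Subtype.val h))
      exact congrArg Subtype.val (e1.trans e2.symm)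
  -- a character not killing `e`
  obtain ⟨χ₀, hχ₀⟩ := CommGroup.exists_apply_ne_one_of_hasEnoughRootsOfUnity W₀ ℂ
    (a := ⟨e, heW⟩) (fun h => he1 (congrArg Subtype.val h))
  let cj := Cfsg.Agent.Lib.Helper2_Coprime.conjAut W₀ B hBW
  let Φ : B → (W₀ →* ℂˣ) := fun b => χ₀.comp (cj b).toMonoidHom
  have hΦ : ∀ (b : B) (w : W₀), Φ b w = χ₀ ⟨(b : G) * w * (b : G)⁻¹, hconj b b.2 w w.2⟩ :=
    fun b w => rfl
  -- the key separation property
  have key : ∀ (c : G) (hc : c ∈ B), (∀ u : W₀, χ₀ ⟨c * u * c⁻¹, hconj c hc u u.2⟩ = χ₀ u) →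
      c ∈ centralizer (W₀ : Set G) := by
    intro c hc hχ
    set Y : Subgroup G := closure {y | ∃ u ∈ W₀, y = u⁻¹ * (c * u * c⁻¹)} with hY
    have hYW : Y ≤ W₀ := by
      rw [hY, closure_le]
      rintro y ⟨u, hu, rfl⟩
      exact W₀.mul_mem (W₀.inv_mem hu) (hconj c hc u hu)
    have hYχ : ∀ y (hy : y ∈ Y), χ₀ ⟨y, hYW hy⟩ = 1 := by
      intro y hy
      have : ∃ hyW : y ∈ W₀, χ₀ ⟨y, hyW⟩ = 1 := by
        rw [hY] at hy
        induction hy using closure_induction with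
        | mem x hx =>
          obtain ⟨u, hu, rfl⟩ := hx
          refine ⟨W₀.mul_mem (W₀.inv_mem hu) (hconj c hc u hu), ?_⟩
          have h1 : (⟨u⁻¹ * (c * u * c⁻¹), W₀.mul_mem (W₀.inv_mem hu) (hconj c hc u hu)⟩ : W₀) =
              (⟨u, hu⟩ : W₀)⁻¹ * ⟨c * u * c⁻¹, hconj c hc u hu⟩ := rfl
          rw [h1, map_mul, map_inv, hχ ⟨u, hu⟩, inv_mul_cancel]
        | one => exact ⟨W₀.one_mem, map_one χ₀⟩
        | mul x y _ _ hx hy =>
          obtain ⟨hxW, hx1⟩ := hx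
          obtain ⟨hyW, hy1⟩ := hy
          refine ⟨W₀.mul_mem hxW hyW, ?_⟩
          have h1 : (⟨x * y, W₀.mul_mem hxW hyW⟩ : W₀) = ⟨x, hxW⟩ * ⟨y, hyW⟩ := rfl
          rw [h1, map_mul, hx1, hy1, one_mul]
        | inv x _ hx =>
          obtain ⟨hxW, hx1⟩ := hx
          refine ⟨W₀.inv_mem hxW, ?_⟩
          have h1 : (⟨x⁻¹, W₀.inv_mem hxW⟩ : W₀) = (⟨x, hxW⟩ : W₀)⁻¹ := rfl
          rw [h1, map_inv, hx1, inv_one]
      obtain ⟨_, h⟩ := this
      exact h
    have hYB : ∀ s ∈ B, ∀ y ∈ Y, s * y * s⁻¹ ∈ Y := by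
      intro s hs y hy
      rw [hY] at hy ⊢
      induction hy using closure_induction with
      | mem x hx =>
        obtain ⟨u, hu, rfl⟩ := hx
        apply Subgroup.subset_closure
        refine ⟨s * u * s⁻¹, hconj s hs u hu, ?_⟩
        have hsc : s * c = c * s := hBc s hs c hc
        calc s * (u⁻¹ * (c * u * c⁻¹)) * s⁻¹
            = (s * u * s⁻¹)⁻¹ * ((s * c) * u * (s * c)⁻¹) := by group
          _ = (s * u * s⁻¹)⁻¹ * ((c * s) * u * (c * s)⁻¹) := by rw [hsc]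
          _ = (s * u * s⁻¹)⁻¹ * (c * (s * u * s⁻¹) * c⁻¹) := by group
      | one => simp
      | mul x y _ _ hx hy =>
        have : s * (x * y) * s⁻¹ = (s * x * s⁻¹) * (s * y * s⁻¹) := by group
        rw [this]
        exact mul_mem hx hy
      | inv x _ hx =>
        have : s * x⁻¹ * s⁻¹ = (s * x * s⁻¹)⁻¹ := by group
        rw [this]
        exact inv_mem hx
    have hYbot : Y = ⊥ := by
      by_contra hYne
      obtain ⟨f, hfY, hf1, hffix⟩ :=
        Cfsg.Agent.Lib.Helper67_Basic.exists_ne_one_fixed_of_pgroup (hW₀p.to_le hYW) hB2 hYne hYB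
      have hfC := fix_mem f (hYW hfY) hffix
      rcases hfix2 f hfC with h | h
      · exact hf1 h
      · apply hχ₀
        have := hYχ f hfY
        have h2 : (⟨f, hYW hfY⟩ : W₀) = ⟨e, heW⟩ := Subtype.ext h
        rwa [h2] at this
    rw [mem_centralizer_iff]
    intro u hu
    have h1 : u⁻¹ * (c * u * c⁻¹) ∈ Y := by
      rw [hY]; exact Subgroup.subset_closure ⟨u, hu, rfl⟩
    rw [hYbot, mem_bot] at h1
    have h2 : c * u * c⁻¹ = u := by
      calc c * u * c⁻¹ = u * (u⁻¹ * (c * u * c⁻¹)) := by group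
        _ = u := by rw [h1, mul_one]
    calc u * c = (c * u * c⁻¹) * c := by rw [h2]
      _ = c * u := by group
  -- the quotient of `B` by the kernel of the action embeds in the nontrivial characters
  set K : Subgroup B := (B ⊓ centralizer (W₀ : Set G)).subgroupOf B with hK
  have hKcard : Nat.card K = Nat.card ↥(B ⊓ centralizer (W₀ : Set G)) :=
    Cfsg.Agent.Lib.Helper24_CoprimeAction.card_subgroupOf_of_le inf_le_left
  have hwd : ∀ b b' : B, b⁻¹ * b' ∈ K → Φ b = Φ b' := by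
    intro b b' h
    rw [hK, mem_subgroupOf] at h
    have hk := (mem_inf.mp h).2
    rw [mem_centralizer_iff] at hk
    ext w
    rw [hΦ, hΦ]
    have h3 := hk w w.2
    simp only [Subgroup.coe_mul, Subgroup.coe_inv] at h3
    refine congrArg (fun z : W₀ => ((χ₀ z : ℂˣ) : ℂ)) (Subtype.ext ?_)
    show (b : G) * w * (b : G)⁻¹ = (b' : G) * w * (b' : G)⁻¹
    calc (b : G) * w * (b : G)⁻¹
        = b * (w * ((b : G)⁻¹ * b')) * ((b : G)⁻¹ * b')⁻¹ * (b : G)⁻¹ := by group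
      _ = b * (((b : G)⁻¹ * b') * w) * ((b : G)⁻¹ * b')⁻¹ * (b : G)⁻¹ := by rw [h3]
      _ = (b' : G) * w * (b' : G)⁻¹ := by group
  let ψ : B ⧸ K → (W₀ →* ℂˣ) := fun q => Quotient.liftOn' q Φ (by
    intro b b' h
    exact hwd b b' (QuotientGroup.leftRel_apply.mp h))
  have hψ : ∀ b : B, ψ (QuotientGroup.mk b) = Φ b := fun b => rfl
  have hinj : Function.Injective ψ := by
    intro q q' h
    induction q using QuotientGroup.induction_on with
    | H b =>
      induction q' using QuotientGroup.induction_on with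
      | H b' =>
        rw [hψ, hψ] at h
        rw [QuotientGroup.eq, hK, mem_subgroupOf]
        have hcB : ((b : G)⁻¹ * b') ∈ B := B.mul_mem (B.inv_mem b.2) b'.2
        refine mem_inf.mpr ⟨hcB, ?_⟩
        -- `χ₀ ∘ conj (b' b⁻¹) = χ₀`
        have hcB' : ((b' : G) * (b : G)⁻¹) ∈ B := B.mul_mem b'.2 (B.inv_mem b.2)
        have hcc : (b : G)⁻¹ * b' = (b' : G) * (b : G)⁻¹ := hBc _ (B.inv_mem b.2) _ b'.2
        simp only [Subgroup.coe_mul, Subgroup.coe_inv]
        rw [hcc]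
        apply key _ hcB'
        intro u
        have hu' : (b : G)⁻¹ * u * (b : G) ∈ W₀ := by
          have := hconj _ (B.inv_mem b.2) u u.2
          simpa using this
        have e1 := DFunLike.congr_fun h ⟨(b : G)⁻¹ * u * (b : G), hu'⟩
        rw [hΦ, hΦ] at e1
        have e2 : (⟨(b : G) * ((b : G)⁻¹ * u * (b : G)) * (b : G)⁻¹,
            hconj b b.2 _ hu'⟩ : W₀) = u := by
          apply Subtype.ext
          simp only
          group
        have e3 : (⟨(b' : G) * ((b : G)⁻¹ * u * (b : G)) * (b' : G)⁻¹,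
            hconj b' b'.2 _ hu'⟩ : W₀) =
            ⟨(b' : G) * (b : G)⁻¹ * u * ((b' : G) * (b : G)⁻¹)⁻¹, hconj _ hcB' u u.2⟩ := by
          apply Subtype.ext
          simp only
          group
        rw [e2, e3] at e1
        exact e1.symm
  have hnot1 : (1 : W₀ →* ℂˣ) ∉ Set.range ψ := by
    rintro ⟨q, hq⟩
    induction q using QuotientGroup.induction_on with
    | H b =>
      rw [hψ] at hq
      apply hχ₀
      have e1 := DFunLike.congr_fun hq ⟨e, heW⟩
      rw [hΦ] at e1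
      have e2 : (⟨(b : G) * e * (b : G)⁻¹, hconj b b.2 e heW⟩ : W₀) = ⟨e, heW⟩ :=
        Subtype.ext (hefix b b.2)
      rw [e2] at e1
      exact e1
  have hlt : Nat.card (B ⧸ K) < Nat.card W₀ := by
    rw [← hcardD]
    have : Fintype (B ⧸ K) := Fintype.ofFinite _
    have : Finite (W₀ →* ℂˣ) := Nat.finite_of_card_ne_zero (by
      rw [hcardD]; exact Nat.card_pos.ne')
    have : Fintype (W₀ →* ℂˣ) := Fintype.ofFinite _
    rw [Nat.card_eq_fintype_card, Nat.card_eq_fintype_card]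
    exact Fintype.card_lt_of_injective_of_notMem ψ hinj hnot1
  obtain ⟨j, hj⟩ := hB2.index K
  obtain ⟨m, hm⟩ := (IsPGroup.iff_card (p := 2)).mp hW₀p
  have hidx : Nat.card (B ⧸ K) = K.index := (Subgroup.index_eq_card K).symm
  rw [hidx, hj, hm] at hlt
  have hjm : j < m := (Nat.pow_lt_pow_iff_right (by norm_num)).mp hlt
  have h2 : 2 * K.index ≤ Nat.card W₀ := by
    rw [hj, hm, ← pow_succ']
    exact Nat.pow_le_pow_right (by norm_num) hjm
  have hcardB : Nat.card B = K.index * Nat.card K := (Subgroup.index_mul_card K).symm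
  calc 2 * Nat.card B = 2 * K.index * Nat.card K := by rw [hcardB]; ring
    _ ≤ Nat.card W₀ * Nat.card K := Nat.mul_le_mul_right _ h2
    _ = Nat.card W₀ * Nat.card ↥(B ⊓ centralizer (W₀ : Set G)) := by rw [hKcard]

theorem mem_cs {a x : G} : x ∈ centralizer ({a} : Set G) ↔ a * x = x * a := by
  rw [mem_centralizer_iff]
  constructor
  · intro h; exact h a rfl
  · intro h y hy
    rw [Set.mem_singleton_iff.mp hy]; exact h

theorem mem_cz {d x : G} (h : d * x = x * d) : x ∈ centralizer ((zpowers d : Subgroup G) : Set G) := by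
  rw [mem_centralizer_iff]
  intro y hy
  obtain ⟨k, rfl⟩ := mem_zpowers_iff.mp hy
  have hc : Commute d x := h
  exact (hc.zpow_left k)

/-- the subgroup of `A` centralizing `d` modulo `P` -/
theorem exists_B {A P : Subgroup G} (hAP : A ≤ normalizer (P : Set G)) (d : G) :
    ∃ B : Subgroup G, ∀ x, x ∈ B ↔ x ∈ A ∧ x * d * x⁻¹ * d⁻¹ ∈ P := by
  refine ⟨{ carrier := {x | x ∈ A ∧ x * d * x⁻¹ * d⁻¹ ∈ P}
            one_mem' := ⟨A.one_mem, by simp⟩
            mul_mem' := ?_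
            inv_mem' := ?_ }, fun x => Iff.rfl⟩
  · rintro x y ⟨hxA, hx⟩ ⟨hyA, hy⟩
    refine ⟨A.mul_mem hxA hyA, ?_⟩
    have h1 : x * (y * d * y⁻¹ * d⁻¹) * x⁻¹ ∈ P := (mem_normalizer_iff.mp (hAP hxA) _).mp hy
    have h2 : x * y * d * (x * y)⁻¹ * d⁻¹ =
        (x * (y * d * y⁻¹ * d⁻¹) * x⁻¹) * (x * d * x⁻¹ * d⁻¹) := by group
    show x * y * d * (x * y)⁻¹ * d⁻¹ ∈ P
    rw [h2]
    exact P.mul_mem h1 hx
  · rintro x ⟨hxA, hx⟩
    refine ⟨A.inv_mem hxA, ?_⟩
    have h1 : x⁻¹ * (x * d * x⁻¹ * d⁻¹)⁻¹ * x⁻¹⁻¹ ∈ P :=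
      (mem_normalizer_iff.mp (hAP (A.inv_mem hxA)) _).mp (P.inv_mem hx)
    have h2 : x⁻¹ * d * x⁻¹⁻¹ * d⁻¹ = x⁻¹ * (x * d * x⁻¹ * d⁻¹)⁻¹ * x⁻¹⁻¹ := by group
    show x⁻¹ * d * x⁻¹⁻¹ * d⁻¹ ∈ P
    rw [h2]
    exact h1

/-- **Lemma X.** -/
theorem card_commutator_le_four {T A P U : Subgroup G} (hT : IsPGroup 2 T) (hA : A ∈ maxEA 2 T)
    (hPT : P ≤ T) (hUP : U ≤ P) (hUC : U ≤ centralizer (P : Set G)) (hU2 : ∀ u ∈ U, u * u = 1)
    {d a : G} (hd3 : d ^ 3 = 1) (hdP : d ∈ normalizer (P : Set G))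
    (hdU : d ∈ normalizer (U : Set G))
    (hAP : A ≤ normalizer (P : Set G))
    (hAW : A ≤ normalizer ((⁅U, zpowers d⁆ : Subgroup G) : Set G))
    (haA : a ∈ A) (had : a * d * a⁻¹ = d⁻¹)
    (hAd : ∀ b ∈ A, b * d * b⁻¹ * d⁻¹ ∈ P ∨ b * d * b⁻¹ * d ∈ P) :
    Nat.card ↥⁅U, zpowers d⁆ ≤ 4 := by
  classical
  haveI : Fact (Nat.Prime 2) := ⟨Nat.prime_two⟩
  have hAEA : EA 2 A := hA.2.1
  have hAT : A ≤ T := hA.1
  have hAc := hAEA.1
  have ha2 : a * a = 1 := by
    have := hAEA.2 a haA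
    rwa [pow_two] at this
  have hainv : a⁻¹ = a := inv_eq_of_mul_eq_one_left ha2
  have hddd : d * d * d = 1 := by
    rw [← hd3, pow_succ, pow_two]
  have hdinv : d⁻¹ = d * d := inv_eq_of_mul_eq_one_left hddd
  have hdaa : d = a * (d * a * d⁻¹) := by
    have h1 : a * d * a = d⁻¹ := by rw [← had, hainv]
    have h2 : d⁻¹ * d⁻¹ = d := by
      calc d⁻¹ * d⁻¹ = d⁻¹ * d⁻¹ * (d * d * d) := by rw [hddd, mul_one]
        _ = d := by group
    calc d = d⁻¹ * d⁻¹ := h2.symm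
      _ = (a * d * a) * d⁻¹ := by rw [h1]
      _ = a * (d * a * d⁻¹) := by group
  set D : Subgroup G := zpowers d with hD
  set W' : Subgroup G := ⁅U, D⁆ with hW'
  have hDU : D ≤ normalizer (U : Set G) := zpowers_le.mpr hdU
  have hUcomm := comm_of_sq hU2
  have hUc : IsMulCommutative U := ⟨⟨fun x y => Subtype.ext (hUcomm x x.2 y y.2)⟩⟩
  have hW'U : W' ≤ U := Cfsg.Agent.Lib.Helper24_CoprimeAction.commutator_le_of_le_normalizer U D hDU
  have hUT : U ≤ T := hUP.trans hPT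
  have hW'2 : ∀ w ∈ W', w * w = 1 := fun w hw => hU2 w (hW'U hw)
  have hdD : d ∈ normalizer (D : Set G) := le_normalizer (mem_zpowers d)
  have hdW' : d ∈ normalizer (W' : Set G) :=
    Cfsg.Agent.Lib.Helper24_CoprimeAction.mem_normalizer_commutator U D hdU hdD
  -- coprime action
  have hcop : Nat.Coprime (Nat.card D) (Nat.card U) := by
    have h1 : Nat.card D ∣ 3 := by
      rw [hD, Nat.card_zpowers]; exact orderOf_dvd_of_pow_eq_one hd3
    obtain ⟨k, hk⟩ := (IsPGroup.iff_card (p := 2)).mp (isPGroup_of_sq hU2)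
    rw [hk]
    exact Nat.Coprime.coprime_dvd_left h1 (Nat.Coprime.pow_right k (by norm_num))
  have hbot : W' ⊓ (U ⊓ centralizer (D : Set G)) = ⊥ :=
    Cfsg.Agent.Lib.Helper2_Coprime.commutator_inf_centralizer_eq_bot U D hDU hcop
  -- elements of `W'` commuting with `d` are trivial
  have triv : ∀ w ∈ W', d * w = w * d → w = 1 := by
    intro w hw hdw
    have : w ∈ W' ⊓ (U ⊓ centralizer (D : Set G)) :=
      mem_inf.mpr ⟨hw, mem_inf.mpr ⟨hW'U hw, mem_cz hdw⟩⟩
    rwa [hbot, mem_bot] at this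
  -- elements commuting with `a` and `d a d⁻¹` commute with `d`
  have comm_d : ∀ x : G, a * x = x * a → (d * a * d⁻¹) * x = x * (d * a * d⁻¹) → d * x = x * d := by
    intro x h1 h2
    calc d * x = a * (d * a * d⁻¹) * x := by rw [← hdaa]
      _ = a * ((d * a * d⁻¹) * x) := by group
      _ = a * (x * (d * a * d⁻¹)) := by rw [h2]
      _ = (a * x) * (d * a * d⁻¹) := by group
      _ = (x * a) * (d * a * d⁻¹) := by rw [h1]
      _ = x * (a * (d * a * d⁻¹)) := by group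
      _ = x * d := by rw [← hdaa]
  -- `P` centralizes `U`
  have hPU : ∀ p ∈ P, ∀ u ∈ U, p * u = u * p := by
    intro p hp u hu
    have := hUC hu
    rw [mem_centralizer_iff] at this
    exact this p hp
  -- the subgroup `B`
  obtain ⟨B, hB⟩ := exists_B hAP d
  have hBA : B ≤ A := fun x hx => ((hB x).mp hx).1
  have hBT : B ≤ T := hBA.trans hAT
  have hBc : ∀ x ∈ B, ∀ y ∈ B, x * y = y * x := fun x hx y hy => hAc x (hBA hx) y (hBA hy)
  have hB2 : IsPGroup 2 B := hT.to_le hBT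
  have hAB : ∀ x ∈ A, x ∈ B ∨ a⁻¹ * x ∈ B := by
    intro x hx
    rcases hAd x hx with h | h
    · exact Or.inl ((hB x).mpr ⟨hx, h⟩)
    · right
      rw [hB]
      refine ⟨A.mul_mem (A.inv_mem haA) hx, ?_⟩
      have h1 : a⁻¹ * (x * d * x⁻¹ * d) * a⁻¹⁻¹ ∈ P :=
        (mem_normalizer_iff.mp (hAP (A.inv_mem haA)) _).mp h
      have h2 : a⁻¹ * x * d * (a⁻¹ * x)⁻¹ * d⁻¹ =
          a⁻¹ * (x * d * x⁻¹ * d) * a⁻¹⁻¹ * (a⁻¹ * d⁻¹ * a * d⁻¹) := by group
      have h3 : a⁻¹ * d⁻¹ * a * d⁻¹ = 1 := by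
        have : a⁻¹ * d⁻¹ * a = d := by
          calc a⁻¹ * d⁻¹ * a = a⁻¹ * (a * d * a⁻¹) * a := by rw [had]
            _ = d := by group
        rw [this, mul_inv_cancel]
      rw [h2, h3, mul_one]
      exact h1
  have hcardAB : Nat.card A ≤ 2 * Nat.card B :=
    Cfsg.Agent.Lib.Helper10_JCompB.card_le_two_mul hAB
  -- conjugation of `d` by elements of `B`
  have hBd : ∀ b ∈ B, ∃ p ∈ P, b * d * b⁻¹ = p * d := by
    intro b hb
    refine ⟨b * d * b⁻¹ * d⁻¹, ((hB b).mp hb).2, by group⟩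
  -- `b ∈ B` centralizing `w ∈ U` centralizes `d w d⁻¹`
  have hBconj : ∀ b ∈ B, ∀ w ∈ U, b * w = w * b → b * (d * w * d⁻¹) = (d * w * d⁻¹) * b := by
    intro b hb w hw hbw
    obtain ⟨p, hp, hpd⟩ := hBd b hb
    have hdw : d * w * d⁻¹ ∈ U := (mem_normalizer_iff.mp hdU w).mp hw
    have h1 := hPU p hp _ hdw
    have h2 : b * w * b⁻¹ = w := by
      calc b * w * b⁻¹ = (w * b) * b⁻¹ := by rw [hbw]
        _ = w := by group
    calc b * (d * w * d⁻¹) = (b * d * b⁻¹) * (b * w * b⁻¹) * (b * d * b⁻¹)⁻¹ * b := by group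
      _ = (p * d) * w * (p * d)⁻¹ * b := by rw [hpd, h2]
      _ = (p * (d * w * d⁻¹)) * p⁻¹ * b := by group
      _ = ((d * w * d⁻¹) * p) * p⁻¹ * b := by rw [h1]
      _ = (d * w * d⁻¹) * b := by group
  -- the group `R = P B`
  set R : Subgroup G := P ⊔ B with hR
  have hRT : R ≤ T := sup_le hPT hBT
  have hdR : d ∈ normalizer (R : Set G) := by
    have fwd : ∀ g : G, g ∈ normalizer (P : Set G) → (∀ b ∈ B, g * b * g⁻¹ ∈ R) →
        ∀ h ∈ R, g * h * g⁻¹ ∈ R := by
      intro g hgP hgB h hh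
      have hmap : R.map (Cfsg.Agent.Lib.Helper10_OffTv.cj g) ≤ R := by
        rw [hR, Subgroup.map_sup]
        apply sup_le
        · rintro _ ⟨x, hx, rfl⟩
          exact (le_sup_left : P ≤ P ⊔ B) ((mem_normalizer_iff.mp hgP x).mp hx)
        · rintro _ ⟨x, hx, rfl⟩
          exact hgB x hx
      exact hmap ⟨h, hh, rfl⟩
    have hdB : ∀ b ∈ B, d * b * d⁻¹ ∈ R := by
      intro b hb
      have h1 : d * b * d⁻¹ * b⁻¹ ∈ P := by
        have := P.inv_mem ((hB b).mp hb).2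
        have e : (b * d * b⁻¹ * d⁻¹)⁻¹ = d * b * d⁻¹ * b⁻¹ := by group
        rwa [e] at this
      have h2 : d * b * d⁻¹ = (d * b * d⁻¹ * b⁻¹) * b := by group
      rw [h2]
      exact R.mul_mem ((le_sup_left : P ≤ P ⊔ B) h1) ((le_sup_right : B ≤ P ⊔ B) hb)
    have f1 := fwd d hdP hdB
    rw [mem_normalizer_iff]
    intro h
    constructor
    · exact f1 h
    · intro hh
      have h1 := f1 _ (f1 _ hh)
      have e : d * (d * (d * h * d⁻¹) * d⁻¹) * d⁻¹ = h := by
        have h3 : d * d * d = 1 := hddd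
        calc d * (d * (d * h * d⁻¹) * d⁻¹) * d⁻¹ = (d * d * d) * h * (d * d * d)⁻¹ := by group
          _ = h := by rw [h3]; group
      rwa [e] at h1
  set VR : Subgroup G := omegaCenterOf R with hVR
  have hVRle := omegaCenterOf_le R
  have hVRR : VR ≤ R := hVRle.trans inf_le_left
  have hVRC : VR ≤ centralizer (R : Set G) := hVRle.trans inf_le_right
  have hVR2 : ∀ v ∈ VR, v * v = 1 := omegaCenterOf_sq R
  have hdVR : d ∈ normalizer (VR : Set G) := normalizer_le_normalizer_omegaCenterOf R hdR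
  have hVRT : VR ≤ T := hVRR.trans hRT
  -- `|V_R| ≤ 2 |C_{V_R}(a)|`
  have hoffR := offender_of_maxEA hVRT hVR2 hA
  have hBVR : B ≤ A ⊓ centralizer (VR : Set G) := by
    intro b hb
    refine mem_inf.mpr ⟨hBA hb, ?_⟩
    rw [mem_centralizer_iff]
    intro v hv
    have := hVRC hv
    rw [mem_centralizer_iff] at this
    exact (this b ((le_sup_right : B ≤ P ⊔ B) hb)).symm
  set C₁ : Subgroup G := VR ⊓ centralizer ({a} : Set G) with hC₁
  have hCA1 : VR ⊓ centralizer (A : Set G) ≤ C₁ := by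
    intro x hx
    refine mem_inf.mpr ⟨(mem_inf.mp hx).1, mem_cs.mpr ?_⟩
    have := (mem_inf.mp hx).2
    rw [mem_centralizer_iff] at this
    exact this a haA
  have hVR1 : Nat.card VR ≤ 2 * Nat.card C₁ := by
    have h1 := Subgroup.card_le_of_le hBVR
    have h2 := Subgroup.card_le_of_le hCA1
    have hBpos : 0 < Nat.card B := Nat.card_pos
    have h3 : Nat.card VR * Nat.card B ≤ (2 * Nat.card C₁) * Nat.card B := by
      calc Nat.card VR * Nat.card B ≤ Nat.card VR * Nat.card ↥(A ⊓ centralizer (VR : Set G)) :=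
            Nat.mul_le_mul_left _ h1
        _ ≤ Nat.card A * Nat.card ↥(VR ⊓ centralizer (A : Set G)) := hoffR
        _ ≤ (2 * Nat.card B) * Nat.card C₁ := Nat.mul_le_mul hcardAB h2
        _ = (2 * Nat.card C₁) * Nat.card B := by ring
    exact Nat.le_of_mul_le_mul_right h3 hBpos
  -- the conjugate `C₂`
  set C₂ : Subgroup G := C₁.map (Cfsg.Agent.Lib.Helper10_OffTv.cj d) with hC₂
  have hC₂card : Nat.card C₂ = Nat.card C₁ := Cfsg.Agent.Lib.Helper10_OffTv.card_map_cj C₁ d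
  have hC₂VR : C₂ ≤ VR := by
    rintro _ ⟨x, hx, rfl⟩
    exact (mem_normalizer_iff.mp hdVR x).mp (mem_inf.mp hx).1
  have hC₂c : ∀ y ∈ C₂, (d * a * d⁻¹) * y = y * (d * a * d⁻¹) := by
    rintro _ ⟨x, hx, rfl⟩
    have h1 : a * x = x * a := mem_cs.mp (mem_inf.mp hx).2
    show (d * a * d⁻¹) * (d * x * d⁻¹) = (d * x * d⁻¹) * (d * a * d⁻¹)
    calc (d * a * d⁻¹) * (d * x * d⁻¹) = d * (a * x) * d⁻¹ := by group
      _ = d * (x * a) * d⁻¹ := by rw [h1]
      _ = (d * x * d⁻¹) * (d * a * d⁻¹) := by group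
  set Cd : Subgroup G := VR ⊓ centralizer ({d} : Set G) with hCd
  have hC12 : C₂ ⊓ C₁ ≤ Cd := by
    intro x hx
    obtain ⟨hx2, hx1⟩ := mem_inf.mp hx
    refine mem_inf.mpr ⟨(mem_inf.mp hx1).1, mem_cs.mpr ?_⟩
    exact comm_d x (mem_cs.mp (mem_inf.mp hx1).2) (hC₂c x hx2)
  have hVRd : Nat.card VR ≤ 4 * Nat.card Cd := by
    have h1 := Cfsg.Agent.Lib.Helper10_Thompson.card_mul_card_le_card_sup_mul_card_inf C₁ C₂
    have h2 : Nat.card ↥(C₁ ⊔ C₂) ≤ Nat.card VR :=
      Subgroup.card_le_of_le (sup_le inf_le_left hC₂VR)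
    have h3 := Subgroup.card_le_of_le hC12
    have hpos : 0 < Nat.card VR := Nat.card_pos
    have h4 : Nat.card VR * Nat.card VR ≤ (4 * Nat.card Cd) * Nat.card VR := by
      calc Nat.card VR * Nat.card VR ≤ (2 * Nat.card C₁) * (2 * Nat.card C₁) :=
            Nat.mul_le_mul hVR1 hVR1
        _ = 4 * (Nat.card C₁ * Nat.card C₂) := by rw [hC₂card]; ring
        _ ≤ 4 * (Nat.card ↥(C₁ ⊔ C₂) * Nat.card ↥(C₂ ⊓ C₁)) := Nat.mul_le_mul_left _ h1
        _ ≤ 4 * (Nat.card VR * Nat.card Cd) := Nat.mul_le_mul_left _ (Nat.mul_le_mul h2 h3)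
        _ = (4 * Nat.card Cd) * Nat.card VR := by ring
    exact Nat.le_of_mul_le_mul_right h4 hpos
  -- the subgroup `Y = C_{W'}(B)`
  set Y : Subgroup G := W' ⊓ centralizer (B : Set G) with hY
  have hYVR : Y ≤ VR := by
    intro y hy
    obtain ⟨hyW, hyB⟩ := mem_inf.mp hy
    have hyU := hW'U hyW
    refine mem_omegaCenterOf ((le_sup_left : P ≤ P ⊔ B) (hUP hyU)) ?_ (hU2 y hyU)
    have hle : R ≤ centralizer ({y} : Set G) := by
      rw [hR]
      apply sup_le
      · intro p hp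
        exact mem_cs.mpr (hPU p hp y hyU).symm
      · intro b hb
        rw [mem_centralizer_iff] at hyB
        exact mem_cs.mpr (hyB b hb).symm
    rw [mem_centralizer_iff]
    intro r hr
    exact (mem_cs.mp (hle hr)).symm
  have hYcard : Nat.card Y ≤ 4 := by
    have h1 := Cfsg.Agent.Lib.Helper10_Thompson.card_mul_card_le_card_sup_mul_card_inf Y Cd
    have h2 : Nat.card ↥(Y ⊔ Cd) ≤ Nat.card VR :=
      Subgroup.card_le_of_le (sup_le hYVR inf_le_left)
    have h3 : Cd ⊓ Y = ⊥ := by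
      rw [eq_bot_iff]
      intro x hx
      obtain ⟨hxd, hxY⟩ := mem_inf.mp hx
      rw [mem_bot]
      exact triv x (mem_inf.mp hxY).1 (mem_cs.mp (mem_inf.mp hxd).2)
    rw [h3, Subgroup.card_bot, mul_one] at h1
    have hpos : 0 < Nat.card Cd := Nat.card_pos
    have h4 : Nat.card Y * Nat.card Cd ≤ 4 * Nat.card Cd := (h1.trans h2).trans hVRd
    exact Nat.le_of_mul_le_mul_right h4 hpos
  -- `Y` is `d`-invariant
  have hYd : ∀ y ∈ Y, d * y * d⁻¹ ∈ Y := by
    intro y hy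
    obtain ⟨hyW, hyB⟩ := mem_inf.mp hy
    refine mem_inf.mpr ⟨(mem_normalizer_iff.mp hdW' y).mp hyW, ?_⟩
    rw [mem_centralizer_iff] at hyB ⊢
    intro b hb
    exact hBconj b hb y (hW'U hyW) (hyB b hb)
  -- `Z = C_{W'}(A)` has order at most two
  set Z : Subgroup G := W' ⊓ centralizer (A : Set G) with hZ
  have hZY : Z ≤ Y := inf_le_inf_left _ (centralizer_le (SetLike.coe_subset_coe.mpr hBA))
  have hZcard : Nat.card Z ≤ 2 := by
    set Z' : Subgroup G := Z.map (Cfsg.Agent.Lib.Helper10_OffTv.cj d) with hZ'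
    have hZ'card : Nat.card Z' = Nat.card Z := Cfsg.Agent.Lib.Helper10_OffTv.card_map_cj Z d
    have hZ'Y : Z' ≤ Y := by
      rintro _ ⟨x, hx, rfl⟩
      exact hYd x (hZY hx)
    have hinf : Z' ⊓ Z = ⊥ := by
      rw [eq_bot_iff]
      intro x hx
      obtain ⟨hx', hxZ⟩ := mem_inf.mp hx
      rw [mem_bot]
      obtain ⟨z, hz, hzx⟩ := hx'
      apply triv x (mem_inf.mp hxZ).1
      apply comm_d
      · have := (mem_inf.mp hxZ).2
        rw [mem_centralizer_iff] at this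
        exact this a haA
      · have hza : a * z = z * a := by
          have := (mem_inf.mp hz).2
          rw [mem_centralizer_iff] at this
          exact this a haA
        rw [← hzx]
        show (d * a * d⁻¹) * (d * z * d⁻¹) = (d * z * d⁻¹) * (d * a * d⁻¹)
        calc (d * a * d⁻¹) * (d * z * d⁻¹) = d * (a * z) * d⁻¹ := by group
          _ = d * (z * a) * d⁻¹ := by rw [hza]
          _ = (d * z * d⁻¹) * (d * a * d⁻¹) := by group
    have h1 := Cfsg.Agent.Lib.Helper10_Thompson.card_mul_card_le_card_sup_mul_card_inf Z Z'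
    rw [hinf, Subgroup.card_bot, mul_one, hZ'card] at h1
    have h2 : Nat.card ↥(Z ⊔ Z') ≤ Nat.card Y := Subgroup.card_le_of_le (sup_le hZY hZ'Y)
    have h3 : Nat.card Z * Nat.card Z ≤ 4 := (h1.trans h2).trans hYcard
    by_contra hcon
    push Not at hcon
    have : 3 * 3 ≤ Nat.card Z * Nat.card Z := Nat.mul_le_mul hcon hcon
    omega
  -- the case `W' = ⊥`
  by_cases hW'1 : W' = ⊥
  · rw [hW'1, Subgroup.card_bot]; norm_num
  -- elements of `A` centralizing `W'` lie in `B`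
  have hACW : ∀ x ∈ A, x ∈ centralizer (W' : Set G) → x ∈ B := by
    intro x hxA hxW
    by_contra hxB
    have hx2 : x * d * x⁻¹ * d ∈ P := by
      rcases hAd x hxA with h | h
      · exact absurd ((hB x).mpr ⟨hxA, h⟩) hxB
      · exact h
    apply hW'1
    rw [eq_bot_iff]
    intro w hw
    rw [mem_bot]
    apply triv w hw
    rw [mem_centralizer_iff] at hxW
    have hdw : d * w * d⁻¹ ∈ W' := (mem_normalizer_iff.mp hdW' w).mp hw
    have h1 := hxW _ hdw
    have h2 := hxW w hw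
    have hxw : x * w * x⁻¹ = w := by
      calc x * w * x⁻¹ = (w * x) * x⁻¹ := by rw [h2]
        _ = w := by group
    have hdw' : d⁻¹ * w * d ∈ U := by
      have := (mem_normalizer_iff.mp (inv_mem hdU) w).mp (hW'U hw)
      simpa using this
    have h3 := hPU _ hx2 _ hdw'
    -- `x (d w d⁻¹) x⁻¹ = d⁻¹ w d`
    have h4 : x * (d * w * d⁻¹) * x⁻¹ = d⁻¹ * w * d := by
      calc x * (d * w * d⁻¹) * x⁻¹
          = (x * d * x⁻¹ * d) * (d⁻¹ * (x * w * x⁻¹) * d) * (x * d * x⁻¹ * d)⁻¹ := by group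
        _ = (x * d * x⁻¹ * d) * (d⁻¹ * w * d) * (x * d * x⁻¹ * d)⁻¹ := by rw [hxw]
        _ = ((d⁻¹ * w * d) * (x * d * x⁻¹ * d)) * (x * d * x⁻¹ * d)⁻¹ := by rw [h3]
        _ = d⁻¹ * w * d := by group
    have h5 : x * (d * w * d⁻¹) * x⁻¹ = d * w * d⁻¹ := by
      calc x * (d * w * d⁻¹) * x⁻¹ = ((d * w * d⁻¹) * x) * x⁻¹ := by rw [h1]
        _ = d * w * d⁻¹ := by group
    have h6 : d⁻¹ * w * d = d * w * d⁻¹ := h4.symm.trans h5
    -- hence `d` commutes with `w`
    have h7 : d * d * d = 1 := hddd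
    have h8 : (d * d) * w = w * (d * d) := by
      calc (d * d) * w = d * (d * w * d⁻¹) * d := by group
        _ = d * (d⁻¹ * w * d) * d := by rw [h6]
        _ = w * (d * d) := by group
    calc d * w = (d * d) * ((d * d) * w) := by
          calc d * w = (d * d * d) * d * w := by rw [h7, one_mul]
            _ = (d * d) * ((d * d) * w) := by group
      _ = (d * d) * (w * (d * d)) := by rw [h8]
      _ = ((d * d) * w) * (d * d) := by group
      _ = (w * (d * d)) * (d * d) := by rw [h8]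
      _ = w * ((d * d * d) * d) := by group
      _ = w * d := by rw [h7, one_mul]
  -- the `𝔽₂`-form `W₀ = C_{W'}(a)`
  set W₀ : Subgroup G := W' ⊓ centralizer ({a} : Set G) with hW₀
  have haW' : a ∈ normalizer (W' : Set G) := hAW haA
  have hW'sq : Nat.card W' ≤ Nat.card W₀ ^ 2 := card_le_sq_fix hW'2 ha2 haW'
  set W₀' : Subgroup G := W₀.map (Cfsg.Agent.Lib.Helper10_OffTv.cj d) with hW₀'
  have hW₀'card : Nat.card W₀' = Nat.card W₀ := Cfsg.Agent.Lib.Helper10_OffTv.card_map_cj W₀ d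
  have hW₀'W : W₀' ≤ W' := by
    rintro _ ⟨x, hx, rfl⟩
    exact (mem_normalizer_iff.mp hdW' x).mp (mem_inf.mp hx).1
  have hW₀inf : W₀' ⊓ W₀ = ⊥ := by
    rw [eq_bot_iff]
    intro x hx
    obtain ⟨hx', hx0⟩ := mem_inf.mp hx
    rw [mem_bot]
    obtain ⟨z, hz, hzx⟩ := hx'
    apply triv x (mem_inf.mp hx0).1
    apply comm_d
    · exact mem_cs.mp (mem_inf.mp hx0).2
    · have hza : a * z = z * a := mem_cs.mp (mem_inf.mp hz).2
      rw [← hzx]
      show (d * a * d⁻¹) * (d * z * d⁻¹) = (d * z * d⁻¹) * (d * a * d⁻¹)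
      calc (d * a * d⁻¹) * (d * z * d⁻¹) = d * (a * z) * d⁻¹ := by group
        _ = d * (z * a) * d⁻¹ := by rw [hza]
        _ = (d * z * d⁻¹) * (d * a * d⁻¹) := by group
  set W₁ : Subgroup G := W₀ ⊔ W₀' with hW₁
  have hW₁W : W₁ ≤ W' := sup_le inf_le_left hW₀'W
  have hW₁card : Nat.card W₀ * Nat.card W₀ ≤ Nat.card W₁ := by
    have h1 := Cfsg.Agent.Lib.Helper10_Thompson.card_mul_card_le_card_sup_mul_card_inf W₀ W₀'
    rwa [hW₀inf, Subgroup.card_bot, mul_one, hW₀'card] at h1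
  -- offender inequality on `W₁`
  have hoff1 := offender_of_maxEA (hW₁W.trans (hW'U.trans hUT))
    (fun w hw => hW'2 w (hW₁W hw)) hA
  have hBW₁ : B ⊓ centralizer (W₀ : Set G) ≤ A ⊓ centralizer (W₁ : Set G) := by
    intro b hb
    obtain ⟨hbB, hbW⟩ := mem_inf.mp hb
    refine mem_inf.mpr ⟨hBA hbB, ?_⟩
    have hle : W₁ ≤ centralizer ({b} : Set G) := by
      rw [hW₁]
      apply sup_le
      · intro w hw
        rw [mem_centralizer_iff] at hbW
        exact mem_cs.mpr (hbW w hw).symm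
      · rintro _ ⟨w, hw, rfl⟩
        rw [mem_centralizer_iff] at hbW
        exact mem_cs.mpr (hBconj b hbB w (hW'U (mem_inf.mp hw).1) (hbW w hw).symm)
    rw [mem_centralizer_iff]
    intro w hw
    exact (mem_cs.mp (hle hw)).symm
  have hW₁Z : W₁ ⊓ centralizer (A : Set G) ≤ Z := inf_le_inf_right _ hW₁W
  have hineq1 : Nat.card W₀ * Nat.card W₀ * Nat.card ↥(B ⊓ centralizer (W₀ : Set G)) ≤
      4 * Nat.card B := by
    calc Nat.card W₀ * Nat.card W₀ * Nat.card ↥(B ⊓ centralizer (W₀ : Set G))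
        ≤ Nat.card W₁ * Nat.card ↥(A ⊓ centralizer (W₁ : Set G)) :=
          Nat.mul_le_mul hW₁card (Subgroup.card_le_of_le hBW₁)
      _ ≤ Nat.card A * Nat.card ↥(W₁ ⊓ centralizer (A : Set G)) := hoff1
      _ ≤ (2 * Nat.card B) * 2 :=
          Nat.mul_le_mul hcardAB ((Subgroup.card_le_of_le hW₁Z).trans hZcard)
      _ = 4 * Nat.card B := by ring
  -- the counting lemma
  have hW₀1 : W₀ ≠ ⊥ := by
    intro h0
    rw [h0, Subgroup.card_bot] at hW'sq
    apply hW'1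
    have : Nat.card W' = 1 := le_antisymm (by simpa using hW'sq) Nat.card_pos
    exact Subgroup.card_eq_one.mp this
  have hBW₀ : B ≤ normalizer (W₀ : Set G) := by
    intro b hb
    have hbW' := hAW (hBA hb)
    rw [mem_normalizer_iff] at hbW' ⊢
    have hba : b * a = a * b := hAc b (hBA hb) a haA
    have hba' : b⁻¹ * a = a * b⁻¹ := hAc _ (A.inv_mem (hBA hb)) a haA
    intro w
    constructor
    · intro hw
      obtain ⟨hw1, hw2⟩ := mem_inf.mp hw
      refine mem_inf.mpr ⟨(hbW' w).mp hw1, mem_cs.mpr ?_⟩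
      have hwa := mem_cs.mp hw2
      calc a * (b * w * b⁻¹) = (a * b) * w * b⁻¹ := by group
        _ = (b * a) * w * b⁻¹ := by rw [hba]
        _ = b * (a * w) * b⁻¹ := by group
        _ = b * (w * a) * b⁻¹ := by rw [hwa]
        _ = b * w * (a * b⁻¹) := by group
        _ = b * w * (b⁻¹ * a) := by rw [hba']
        _ = (b * w * b⁻¹) * a := by group
    · intro hw
      obtain ⟨hw1, hw2⟩ := mem_inf.mp hw
      refine mem_inf.mpr ⟨(hbW' w).mpr hw1, mem_cs.mpr ?_⟩
      have hwa := mem_cs.mp hw2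
      calc a * w = b⁻¹ * ((b * a) * w * b⁻¹) * b := by group
        _ = b⁻¹ * ((a * b) * w * b⁻¹) * b := by rw [hba]
        _ = b⁻¹ * (a * (b * w * b⁻¹)) * b := by group
        _ = b⁻¹ * ((b * w * b⁻¹) * a) * b := by rw [hwa]
        _ = w * (b⁻¹ * a) * b := by group
        _ = w * (a * b⁻¹) * b := by rw [hba']
        _ = w * a := by group
  have hfixW₀ : Nat.card ↥(W₀ ⊓ centralizer (B : Set G)) ≤ 2 := by
    refine (Subgroup.card_le_of_le ?_).trans hZcard
    intro x hx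
    obtain ⟨hx0, hxB⟩ := mem_inf.mp hx
    obtain ⟨hxW, hxa⟩ := mem_inf.mp hx0
    refine mem_inf.mpr ⟨hxW, ?_⟩
    rw [mem_centralizer_iff] at hxB ⊢
    have hxa' := mem_cs.mp hxa
    intro y hy
    rcases hAB y hy with h | h
    · exact hxB y h
    · have h1 := hxB _ h
      have e : y = a * (a⁻¹ * y) := by group
      rw [e]
      calc a * (a⁻¹ * y) * x = a * ((a⁻¹ * y) * x) := by group
        _ = a * (x * (a⁻¹ * y)) := by rw [h1]
        _ = (a * x) * (a⁻¹ * y) := by group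
        _ = (x * a) * (a⁻¹ * y) := by rw [hxa']
        _ = x * (a * (a⁻¹ * y)) := by group
  have hineq2 := two_mul_card_le hBc hB2 (fun w hw => hW'2 w (mem_inf.mp hw).1) hBW₀ hW₀1 hfixW₀
  -- conclusion
  have hκ : 0 < Nat.card ↥(B ⊓ centralizer (W₀ : Set G)) := Nat.card_pos
  have hw : 0 < Nat.card W₀ := Nat.card_pos
  have hw2 : Nat.card W₀ ≤ 2 := by
    have h1 : Nat.card W₀ * (Nat.card W₀ * Nat.card ↥(B ⊓ centralizer (W₀ : Set G))) ≤
        2 * (Nat.card W₀ * Nat.card ↥(B ⊓ centralizer (W₀ : Set G))) := by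
      calc Nat.card W₀ * (Nat.card W₀ * Nat.card ↥(B ⊓ centralizer (W₀ : Set G)))
          = Nat.card W₀ * Nat.card W₀ * Nat.card ↥(B ⊓ centralizer (W₀ : Set G)) := by ring
        _ ≤ 4 * Nat.card B := hineq1
        _ = 2 * (2 * Nat.card B) := by ring
        _ ≤ 2 * (Nat.card W₀ * Nat.card ↥(B ⊓ centralizer (W₀ : Set G))) :=
            Nat.mul_le_mul_left _ hineq2
    exact Nat.le_of_mul_le_mul_right h1 (Nat.mul_pos hw hκ)
  calc Nat.card W' ≤ Nat.card W₀ ^ 2 := hW'sq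
    _ ≤ 2 ^ 2 := Nat.pow_le_pow_left hw2 2
    _ = 4 := by norm_num

end Cfsg.Agent.Lib.Helper10_JCompX
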