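import Mathlib
import Cfsg.Agent.Lib.Helper10_JCompX
import Cfsg.Agent.Lib.Helper10_JCompS3
import Cfsg.Agent.Lib.Helper10_JCompNorm

set_option autoImplicit false
set_option linter.unusedSectionVars false
set_option linter.unusedVariables false
set_option linter.style.haveILetI false

/-!
# Existence of `J(T)`-components (helper10)

An element `d` of order three of `L`, inverted by an involution `a` of a largest elementary abelian
subgroup of `T`, such that every largest elementary abelian subgroup of `T` normalizes `⟨d⟩ Q`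
(`Q = O_2(L)`), generates under `J(T)` a `J(T)`-component of `L`.
-/

namespace Cfsg.Agent.Lib.Helper10_JCompEx

open Cfsg Subgroup
open scoped commutatorElement
open Cfsg.Agent.S5306 (EA maxEA JJ)
open Cfsg.Agent.Lib.Helper10_JComp
open Cfsg.Agent.Lib.Helper10_JCompB
open Cfsg.Agent.Lib.Helper10_JCompF
open Cfsg.Agent.Lib.Helper10_JCompSub
open Cfsg.Agent.Lib.Helper10_JCompX
open Cfsg.Agent.Lib.Helper47_SubAPI (pCoreOf_le isPGroup_pCoreOf le_normalizer_pCoreOf le_pCoreOf)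

section general

variable {G : Type*} [Group G] [Finite G]

theorem thompson_eq_of_le {S T : Subgroup G} (h1 : thompsonSubgroupOf 2 T ≤ S) (h2 : S ≤ T) :
    thompsonSubgroupOf 2 S = thompsonSubgroupOf 2 T := by
  rw [Cfsg.Agent.S5306.thompson_eq_JJ, Cfsg.Agent.S5306.thompson_eq_JJ] at *
  refine Cfsg.Agent.S5306.JJ_eq_of_le 2 T S (MulEquiv.refl G) h1 ?_
  intro x hx
  exact ⟨x, h2 hx, rfl⟩

/-- A `2`-subgroup normalizing a `2`-subgroup of odd index lies in it. -/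
theorem le_of_odd_relIndex' {S R X : Subgroup G} (hS : IsPGroup 2 S)
    (hR : IsPGroup 2 R) (hSX : S ≤ X) (hRX : R ≤ X) (hodd : Odd (S.relIndex X))
    (hRS : R ≤ normalizer (S : Set G)) : R ≤ S := by
  haveI : Fact (Nat.Prime 2) := ⟨Nat.prime_two⟩
  have h1 : IsPGroup 2 ↥(S ⊔ R) := IsPGroup.to_sup_of_normal_left' hS hR hRS
  have h2 := Subgroup.relIndex_mul_relIndex S (S ⊔ R) X le_sup_left (sup_le hSX hRX)
  have h3 : Odd (S.relIndex (S ⊔ R)) := by
    rw [← h2] at hodd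
    exact (Nat.odd_mul.mp hodd).1
  obtain ⟨n, hn⟩ := (IsPGroup.iff_card).mp h1
  have h4 : S.relIndex (S ⊔ R) ∣ 2 ^ n := by
    rw [← hn]
    exact ⟨Nat.card S, Cfsg.Agent.Lib.Helper10_Thompson.card_eq_relIndex_mul_card le_sup_left⟩
  obtain ⟨m, _, hm⟩ := (Nat.dvd_prime_pow Nat.prime_two).mp h4
  have h5 : m = 0 := by
    by_contra hm0
    rw [hm] at h3
    have : Even (2 ^ m) := (Nat.even_pow).mpr ⟨even_two, hm0⟩
    exact (Nat.not_odd_iff_even.mpr this) h3
  rw [h5, pow_zero] at hm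
  have := Subgroup.relIndex_eq_one.mp hm
  exact le_sup_right.trans this

/-- the subgroup generated by the `J`-conjugates of `d` -/
def jcl (J : Subgroup G) (d : G) : Subgroup G :=
  Subgroup.closure {x | ∃ j ∈ J, x = j * d * j⁻¹}

theorem self_mem_jcl (J : Subgroup G) (d : G) : d ∈ jcl J d :=
  Subgroup.subset_closure ⟨1, J.one_mem, by simp⟩

theorem conj_mem_jcl {J : Subgroup G} {d j : G} (hj : j ∈ J) : j * d * j⁻¹ ∈ jcl J d :=
  Subgroup.subset_closure ⟨j, hj, rfl⟩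

theorem jcl_le {J H : Subgroup G} {d : G} (h : ∀ j ∈ J, j * d * j⁻¹ ∈ H) : jcl J d ≤ H := by
  rw [jcl, Subgroup.closure_le]
  rintro x ⟨j, hj, rfl⟩
  exact h j hj

theorem le_normalizer_jcl (J : Subgroup G) (d : G) : J ≤ normalizer (jcl J d : Set G) := by
  apply le_normalizer_of_conj_mem
  intro j hj x hx
  unfold jcl at hx
  induction hx using Subgroup.closure_induction with
  | mem x hx =>
    obtain ⟨j', hj', rfl⟩ := hx
    have e : j * (j' * d * j'⁻¹) * j⁻¹ = (j * j') * d * (j * j')⁻¹ := by group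
    rw [e]
    exact conj_mem_jcl (J.mul_mem hj hj')
  | one => simp
  | mul x y _ _ hx hy =>
    have e : j * (x * y) * j⁻¹ = (j * x * j⁻¹) * (j * y * j⁻¹) := by group
    rw [e]
    exact Subgroup.mul_mem _ hx hy
  | inv x _ hx =>
    have e : j * x⁻¹ * j⁻¹ = (j * x * j⁻¹)⁻¹ := by group
    rw [e]
    exact Subgroup.inv_mem _ hx

/-- an element of order three acts fixed-point-freely on `[U, d]`, `U` elementary abelian -/
theorem commutator_fix_trivial {U : Subgroup G} (hU2 : ∀ u ∈ U, u * u = 1) {d : G}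
    (hd3 : d ^ 3 = 1) (hdU : d ∈ normalizer (U : Set G)) :
    ∀ w ∈ ⁅U, zpowers d⁆, d * w = w * d → w = 1 := by
  set D : Subgroup G := zpowers d with hD
  have hDU : D ≤ normalizer (U : Set G) := zpowers_le.mpr hdU
  have hW'U : ⁅U, D⁆ ≤ U :=
    Cfsg.Agent.Lib.Helper24_CoprimeAction.commutator_le_of_le_normalizer U D hDU
  have hcop : Nat.Coprime (Nat.card D) (Nat.card U) := by
    have h1 : Nat.card D ∣ 3 := by
      rw [hD, Nat.card_zpowers]; exact orderOf_dvd_of_pow_eq_one hd3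
    obtain ⟨k, hk⟩ := (IsPGroup.iff_card (p := 2)).mp (isPGroup_of_sq hU2)
    rw [hk]
    exact Nat.Coprime.coprime_dvd_left h1 (Nat.Coprime.pow_right k (by norm_num))
  have hUcomm := comm_of_sq hU2
  have hUc : IsMulCommutative U := ⟨⟨fun x y => Subtype.ext (hUcomm x x.2 y y.2)⟩⟩
  have hbot : ⁅U, D⁆ ⊓ (U ⊓ centralizer (D : Set G)) = ⊥ :=
    Cfsg.Agent.Lib.Helper2_Coprime.commutator_inf_centralizer_eq_bot U D hDU hcop
  intro w hw hdw
  have : w ∈ ⁅U, D⁆ ⊓ (U ⊓ centralizer (D : Set G)) :=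
    mem_inf.mpr ⟨hw, mem_inf.mpr ⟨hW'U hw, mem_cz hdw⟩⟩
  rwa [hbot, mem_bot] at this

/-- **The abstract existence criterion.** -/
theorem isJComponent_jcl {T L Q J A₀ : Subgroup G} (hT2 : IsPGroup 2 T)
    (hJ : J = thompsonSubgroupOf 2 T) (hQT : Q ≤ T) (hTL : T ≤ L)
    (hLQ : L ≤ normalizer (Q : Set G)) (hA₀ : A₀ ∈ maxEA 2 T)
    {a d : G} (haA : a ∈ A₀) (hdL : d ∈ L) (hd3 : d ^ 3 = 1) (hdQ : d ∉ Q)
    (had : a * d * a⁻¹ = d⁻¹)
    (hB : ∀ B ∈ maxEA 2 T, ∀ b ∈ B, b * d * b⁻¹ * d⁻¹ ∈ Q ∨ b * d * b⁻¹ * d ∈ Q)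
    {w : G} (hwK : w ∈ jcl J d) (hwQ : w ∈ Q) (hw2 : w * w = 1)
    (hwZ : w ∈ centralizer (Q : Set G)) (hwd : d * w ≠ w * d) :
    IsJComponent T (jcl J d) ∧ jcl J d ≤ L := by
  classical
  haveI : Fact (Nat.Prime 2) := ⟨Nat.prime_two⟩
  have hJJ : J = JJ 2 T := by rw [hJ, Cfsg.Agent.S5306.thompson_eq_JJ]
  have hJT : J ≤ T := by rw [hJJ]; exact Cfsg.Agent.S5306.JJ_le 2 T
  have hBJ : ∀ B ∈ maxEA 2 T, B ≤ J := fun B hB => by rw [hJJ]; exact le_sSup hB
  have haJ : a ∈ J := hBJ A₀ hA₀ haA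
  have hQ2 : IsPGroup 2 Q := hT2.to_le hQT
  have hJL : J ≤ L := hJT.trans hTL
  obtain ⟨K, hK⟩ : ∃ K : Subgroup G, K = jcl J d := ⟨_, rfl⟩
  rw [← hK] at hwK ⊢
  have hdK : d ∈ K := by rw [hK]; exact self_mem_jcl J d
  have hJK : J ≤ normalizer (K : Set G) := by rw [hK]; exact le_normalizer_jcl J d
  have hKL : K ≤ L := by
    rw [hK]
    exact jcl_le (fun j hj => L.mul_mem (L.mul_mem (hJL hj) hdL) (L.inv_mem (hJL hj)))
  have hKQ : K ≤ normalizer (Q : Set G) := hKL.trans hLQ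
  have hddd : d * d * d = 1 := by rw [← hd3, pow_succ, pow_two]
  have hdinv : d⁻¹ = d * d := inv_eq_of_mul_eq_one_left hddd
  -- the subgroup `D₁ = Q ⟨d⟩`
  obtain ⟨D₁, hD₁⟩ : ∃ D₁ : Subgroup G, D₁ = Q ⊔ zpowers d := ⟨_, rfl⟩
  have hQD : Q ≤ D₁ := by rw [hD₁]; exact le_sup_left
  have hdD : d ∈ D₁ := by rw [hD₁]; exact le_sup_right (α := Subgroup G) (mem_zpowers d)
  have hdNQ : d ∈ normalizer (Q : Set G) := hLQ hdL
  have hzQ : zpowers d ≤ normalizer (Q : Set G) := zpowers_le.mpr hdNQ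
  have hD₁Q : D₁ ≤ normalizer (Q : Set G) := by
    rw [hD₁]; exact sup_le le_normalizer hzQ
  have hBD : ∀ B ∈ maxEA 2 T, B ≤ normalizer (D₁ : Set G) := by
    intro B hBm
    apply le_normalizer_of_conj_mem
    intro b hb x hx
    have hbNQ : b ∈ normalizer (Q : Set G) := hLQ (hTL (hBm.1 hb))
    have hbd : b * d * b⁻¹ ∈ D₁ := by
      rcases hB B hBm b hb with h | h
      · have e : b * d * b⁻¹ = (b * d * b⁻¹ * d⁻¹) * d := by group
        rw [e]; exact D₁.mul_mem (hQD h) hdD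
      · have e : b * d * b⁻¹ = (b * d * b⁻¹ * d) * d⁻¹ := by group
        rw [e]; exact D₁.mul_mem (hQD h) (D₁.inv_mem hdD)
    have hle : D₁ ≤ D₁.comap (MulAut.conj b).toMonoidHom := by
      conv_lhs => rw [hD₁]
      apply sup_le
      · intro q hq
        rw [mem_comap]
        simp only [MulEquiv.coe_toMonoidHom, MulAut.conj_apply]
        exact hQD (conj_mem_of_mem_normalizer hbNQ hq)
      · rw [zpowers_le, mem_comap]
        simp only [MulEquiv.coe_toMonoidHom, MulAut.conj_apply]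
        exact hbd
    have := hle hx
    rw [mem_comap] at this
    simpa only [MulEquiv.coe_toMonoidHom, MulAut.conj_apply] using this
  have hJD : J ≤ normalizer (D₁ : Set G) := by
    rw [hJJ]
    show sSup (maxEA 2 T) ≤ _
    exact sSup_le hBD
  have hKD : K ≤ D₁ := by
    rw [hK]
    exact jcl_le (fun j hj => conj_mem_of_mem_normalizer (hJD hj) hdD)
  -- index computations
  have hcardd : Nat.card (zpowers d) = 3 := by
    rw [Nat.card_zpowers]
    have h1 : orderOf d ∣ 3 := orderOf_dvd_of_pow_eq_one hd3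
    rcases (Nat.dvd_prime Nat.prime_three).mp h1 with h | h
    · exfalso; apply hdQ; rw [orderOf_eq_one_iff] at h; rw [h]; exact Q.one_mem
    · exact h
  have hQd : Q ⊓ zpowers d = ⊥ := by
    apply disjoint_iff.mp
    apply Subgroup.disjoint_of_coprime_natCard
    obtain ⟨n, hn⟩ := (IsPGroup.iff_card (p := 2)).mp hQ2
    rw [hn, hcardd]
    exact Nat.Coprime.pow_left n (by norm_num)
  have hidxD : Q.relIndex D₁ = 3 := by
    have h1 := relIndex_sup_of_le_normalizer Q (zpowers d) hzQ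
    rw [hD₁, sup_comm, h1, ← Subgroup.inf_relIndex_right, hQd, Subgroup.relIndex_bot_left, hcardd]
  -- `2`-elements of `D₁` lie in `Q`
  have h2elt : ∀ k ∈ D₁, ∀ n : ℕ, k ^ 2 ^ n = 1 → k ∈ Q := by
    intro k hk n hkn
    have hR : IsPGroup 2 (zpowers k) := by
      have h1 : orderOf k ∣ 2 ^ n := orderOf_dvd_of_pow_eq_one hkn
      obtain ⟨m, -, hm⟩ := (Nat.dvd_prime_pow Nat.prime_two).mp h1
      apply IsPGroup.of_card (n := m)
      rw [Nat.card_zpowers, hm]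
    have := le_of_odd_relIndex' hQ2 hR hQD (zpowers_le.mpr hk) (by rw [hidxD]; decide)
      (zpowers_le.mpr (hD₁Q hk))
    exact this (mem_zpowers k)
  -- the `2`-core of `K`
  have hPdef : pCoreOf 2 K = K ⊓ Q := by
    apply le_antisymm
    · apply le_inf (pCoreOf_le K)
      intro k hk
      obtain ⟨n, hn⟩ := (isPGroup_pCoreOf (p := 2) K) ⟨k, hk⟩
      have hn' : k ^ 2 ^ n = 1 := by
        have := congrArg Subtype.val hn
        simpa using this
      exact h2elt k (hKD (pCoreOf_le K hk)) n hn'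
    · apply le_pCoreOf inf_le_left _ (hQ2.to_le inf_le_right)
      exact (le_inf le_normalizer hKQ).trans (normalizer_inf_le K Q)
  obtain ⟨P, hP⟩ : ∃ P : Subgroup G, P = K ⊓ Q := ⟨_, rfl⟩
  rw [← hP] at hPdef
  have hPK : P ≤ K := by rw [hP]; exact inf_le_left
  have hPQ : P ≤ Q := by rw [hP]; exact inf_le_right
  have hKsupQ : K ⊔ Q = D₁ := by
    apply le_antisymm (sup_le hKD hQD)
    rw [hD₁]
    exact sup_le le_sup_right ((zpowers_le.mpr hdK).trans le_sup_left)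
  have hidxK : P.relIndex K = 3 := by
    rw [hP, inf_comm, Subgroup.inf_relIndex_right, ← relIndex_sup_of_le_normalizer Q K hKQ,
      hKsupQ, hidxD]
  -- decomposition of the elements of `K`
  have hdec : ∀ k ∈ K, ∃ q ∈ P, ∃ i : ℤ, k = q * d ^ i := by
    intro k hk
    have hk' : k ∈ Q ⊔ zpowers d := by rw [← hD₁]; exact hKD hk
    obtain ⟨q, hq, y, hy, rfl⟩ :=
      Cfsg.Agent.Lib.Helper24_CoprimeAction.exists_mul_of_mem_sup (zpowers d) Q hzQ hk'
    obtain ⟨i, rfl⟩ := mem_zpowers_iff.mp hy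
    refine ⟨q, ?_, i, rfl⟩
    rw [hP]
    refine mem_inf.mpr ⟨?_, hq⟩
    have e : q = (q * d ^ i) * (d ^ i)⁻¹ := by group
    rw [e]
    exact K.mul_mem hk (K.inv_mem (K.zpow_mem hdK i))
  refine ⟨?_, hKL⟩
  unfold IsJComponent
  rw [← hJ]
  refine ⟨?_, ?_, ?_, ?_, ?_⟩
  · -- generation by elements of odd order
    apply le_antisymm
    · rw [closure_le]; exact fun g hg => hg.1
    · conv_lhs => rw [hK]
      unfold jcl
      apply Subgroup.closure_mono
      rintro x ⟨j, hj, rfl⟩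
      refine ⟨conj_mem_of_mem_normalizer (hJK hj) hdK, ?_⟩
      have h1 : (j * d * j⁻¹) ^ 3 = 1 := by rw [conj_pow, hd3]; group
      exact Odd.of_dvd_nat (by decide) (orderOf_dvd_of_pow_eq_one h1)
  · -- `[K, J] = K`
    apply le_antisymm
    · exact Cfsg.Agent.Lib.Helper24_CoprimeAction.commutator_le_of_le_normalizer K J hJK
    · have h1 : ⁅d, a⁆ ∈ ⁅K, J⁆ := Subgroup.commutator_mem_commutator hdK haJ
      have h2 : ⁅d, a⁆ = d⁻¹ := by
        rw [commutatorElement_def]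
        calc d * a * d⁻¹ * a⁻¹ = d * (a * d * a⁻¹)⁻¹ := by group
          _ = d * d := by rw [had, inv_inv]
          _ = d⁻¹ := hdinv.symm
      rw [h2] at h1
      have h3 : d ∈ ⁅K, J⁆ := by
        have := Subgroup.inv_mem _ h1
        rwa [inv_inv] at this
      conv_lhs => rw [hK]
      exact jcl_le (fun j hj =>
        conj_mem_of_mem_normalizer (le_normalizer_commutator_right K J hj) h3)
  · rw [hPdef]; exact hidxK
  · -- the Sylow condition
    rintro S ⟨hSX, hS2, -⟩ hJS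
    have hST : S ≤ T := by
      intro s hs
      obtain ⟨k, hk, j, hj, rfl⟩ :=
        Cfsg.Agent.Lib.Helper24_CoprimeAction.exists_mul_of_mem_sup J K hJK (hSX hs)
      have hkS : k ∈ S := by
        have e : k = (k * j) * j⁻¹ := by group
        rw [e]
        exact S.mul_mem hs (S.inv_mem (hJS hj))
      obtain ⟨n, hn⟩ := hS2 ⟨k, hkS⟩
      have hn' : k ^ 2 ^ n = 1 := by
        have := congrArg Subtype.val hn
        simpa using this
      exact T.mul_mem (hQT (h2elt k (hKD hk) n hn')) (hJT hj)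
    rw [hJ]
    apply thompson_eq_of_le _ hST
    rw [← hJ]; exact hJS
  · -- the four-group
    obtain ⟨U, hU⟩ : ∃ U : Subgroup G, U = omegaCenterOf P := ⟨_, rfl⟩
    have hwOf : wOf K = ⁅U, K⁆ := by rw [hU, ← hPdef]; rfl
    have hUP : U ≤ P := by rw [hU]; exact (omegaCenterOf_le P).trans inf_le_left
    have hUC : U ≤ centralizer (P : Set G) := by
      rw [hU]; exact (omegaCenterOf_le P).trans inf_le_right
    have hU2 : ∀ u ∈ U, u * u = 1 := by rw [hU]; exact omegaCenterOf_sq P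
    have hKP : K ≤ normalizer (P : Set G) := by
      rw [← hPdef]; exact le_normalizer_pCoreOf K
    have hKU : K ≤ normalizer (U : Set G) := by
      rw [hU]; exact hKP.trans (normalizer_le_normalizer_omegaCenterOf P)
    have hdU : d ∈ normalizer (U : Set G) := hKU hdK
    have hzU : zpowers d ≤ normalizer (U : Set G) := zpowers_le.mpr hdU
    obtain ⟨W', hW'⟩ : ∃ W' : Subgroup G, W' = ⁅U, zpowers d⁆ := ⟨_, rfl⟩
    have hW'U : W' ≤ U := by
      rw [hW']
      exact Cfsg.Agent.Lib.Helper24_CoprimeAction.commutator_le_of_le_normalizer U _ hzU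
    have hWeq : ⁅U, K⁆ = W' := by
      apply le_antisymm
      · rw [Subgroup.commutator_le]
        intro u hu k hk
        obtain ⟨q, hq, i, rfl⟩ := hdec k hk
        have h1 : ⁅u, d ^ i⁆ ∈ W' := by
          rw [hW']
          exact Subgroup.commutator_mem_commutator hu (zpow_mem (mem_zpowers d) i)
        have hqu : q * u = u * q := by
          have := hUC hu
          rw [mem_centralizer_iff] at this
          exact this q hq
        have hqc : q * ⁅u, d ^ i⁆ = ⁅u, d ^ i⁆ * q := by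
          have := hUC (hW'U h1)
          rw [mem_centralizer_iff] at this
          exact this q hq
        have e : ⁅u, q * d ^ i⁆ = ⁅u, d ^ i⁆ := by
          have e1 : ⁅u, q * d ^ i⁆ = (u * q) * (d ^ i * u⁻¹ * (d ^ i)⁻¹) * q⁻¹ := by
            rw [commutatorElement_def]; group
          have e2 : (q * u) * (d ^ i * u⁻¹ * (d ^ i)⁻¹) * q⁻¹ = q * ⁅u, d ^ i⁆ * q⁻¹ := by
            rw [commutatorElement_def]; group
          rw [e1, ← hqu, e2, hqc]
          group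
        rw [e]
        exact h1
      · rw [hW']
        exact Subgroup.commutator_mono le_rfl (zpowers_le.mpr hdK)
    rw [hwOf, hWeq]
    have hW'2 : ∀ x ∈ W', x * x = 1 := fun x hx => hU2 x (hW'U hx)
    refine ⟨?_, hW'2⟩
    -- the bound
    have hA₀J : A₀ ≤ J := hBJ A₀ hA₀
    have hle4 : Nat.card W' ≤ 4 := by
      rw [hW']
      refine card_commutator_le_four hT2 hA₀ (hPQ.trans hQT) hUP hUC hU2 hd3 (hKP hdK) hdU
        (hA₀J.trans (hJK.trans ?_)) ?_ haA had ?_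
      · rw [← hPdef]
        exact Cfsg.Agent.Lib.Helper47_PClosed.le_normalizer_pCoreOf_of_le_normalizer (p := 2) le_rfl
      · rw [← hW', ← hWeq, ← hwOf]
        exact hA₀J.trans (hJK.trans (normalizer_le_normalizer_wOf K))
      · intro b hb
        have hbK : b * d * b⁻¹ ∈ K := conj_mem_of_mem_normalizer (hJK (hA₀J hb)) hdK
        rcases hB A₀ hA₀ b hb with h | h
        · left
          rw [hP]
          exact mem_inf.mpr ⟨K.mul_mem hbK (K.inv_mem hdK), h⟩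
        · right
          rw [hP]
          exact mem_inf.mpr ⟨K.mul_mem hbK hdK, h⟩
    -- nontriviality
    have hwU : w ∈ U := by
      rw [hU]
      apply mem_omegaCenterOf _ _ hw2
      · rw [hP]; exact mem_inf.mpr ⟨hwK, hwQ⟩
      · exact Subgroup.centralizer_le (show (P : Set G) ⊆ Q from hPQ) hwZ
    have hcw : ⁅w, d⁆ ∈ W' := by
      rw [hW']
      exact Subgroup.commutator_mem_commutator hwU (mem_zpowers d)
    have hcw1 : ⁅w, d⁆ ≠ 1 := by
      intro h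
      apply hwd
      rw [commutatorElement_def] at h
      calc d * w = (w * d * w⁻¹ * d⁻¹)⁻¹ * (w * d) := by group
        _ = w * d := by rw [h, inv_one, one_mul]
    have hfix := commutator_fix_trivial hU2 hd3 hdU
    rw [← hW'] at hfix
    have hdW' : d ∈ normalizer (W' : Set G) := by
      rw [hW']
      exact Cfsg.Agent.Lib.Helper24_CoprimeAction.mem_normalizer_commutator U _ hdU
        (le_normalizer (mem_zpowers d))
    obtain ⟨n, hn⟩ := (IsPGroup.iff_card (p := 2)).mp (isPGroup_of_sq hW'2)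
    have hn2 : n ≤ 2 := by
      by_contra hcon
      push Not at hcon
      have : 2 ^ 3 ≤ 2 ^ n := Nat.pow_le_pow_right (by norm_num) hcon
      omega
    have hn0 : n ≠ 0 := by
      intro h0
      rw [h0, pow_zero] at hn
      have hsub : Subsingleton W' := (Nat.card_eq_one_iff_unique.mp hn).1
      apply hcw1
      have := Subsingleton.elim (⟨⁅w, d⁆, hcw⟩ : W') 1
      exact congrArg Subtype.val this
    have hn1 : n ≠ 1 := by
      intro h1
      rw [h1, pow_one] at hn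
      obtain ⟨y, -, hy⟩ := (Nat.card_eq_two_iff' (1 : W')).mp hn
      set c : G := ⁅w, d⁆ with hc
      have hdc : d * c * d⁻¹ ∈ W' := conj_mem_of_mem_normalizer hdW' hcw
      have hdc1 : d * c * d⁻¹ ≠ 1 := by
        intro h
        apply hcw1
        calc c = d⁻¹ * (d * c * d⁻¹) * d := by group
          _ = 1 := by rw [h]; group
      have e1 := hy ⟨c, hcw⟩ (fun h => hcw1 (congrArg Subtype.val h))
      have e2 := hy ⟨d * c * d⁻¹, hdc⟩ (fun h => hdc1 (congrArg Subtype.val h))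
      have e3 : d * c * d⁻¹ = c := congrArg Subtype.val (e2.trans e1.symm)
      apply hcw1
      apply hfix c hcw
      calc d * c = (d * c * d⁻¹) * d := by group
        _ = c * d := by rw [e3]
    have : n = 2 := by omega
    rw [hn, this]; norm_num

end general

section stab

variable {G : Type*} [Group G] [Finite G]

open Cfsg.Agent.Lib.Helper10_JCompNorm (conj_pow_aux mk_eq_one_iff mk_comm)

/-- stability: a commutator `[t, d]` of a `2`-element `t` lying in `C` lies in `Q` -/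
theorem comm_mem_of_two_elt {L Q C : Subgroup G} (hLQ : L ≤ normalizer (Q : Set G))
    (hQ2 : IsPGroup 2 Q) (hCL : C ≤ L)
    (h1 : ∀ c ∈ C, ∀ t ∈ L, ∀ k : ℕ, t ^ 2 ^ k = 1 → c * t * c⁻¹ * t⁻¹ ∈ Q)
    (h2 : ∀ c ∈ C, ∀ k : ℕ, c ^ 2 ^ k = 1 → c ∈ Q)
    {t d : G} (htL : t ∈ L) (hdL : d ∈ L) {k : ℕ} (htk : t ^ 2 ^ k = 1)
    (hc : t * d * t⁻¹ * d⁻¹ ∈ C) : t * d * t⁻¹ * d⁻¹ ∈ Q := by
  haveI hn : (Q.subgroupOf L).Normal := Subgroup.normal_subgroupOf_of_le_normalizer hLQ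
  obtain ⟨c, hcdef⟩ : ∃ c : G, c = t * d * t⁻¹ * d⁻¹ := ⟨_, rfl⟩
  rw [← hcdef] at hc ⊢
  obtain ⟨tL, htL'⟩ : ∃ tL : L, (tL : G) = t := ⟨⟨t, htL⟩, rfl⟩
  obtain ⟨dL, hdL'⟩ : ∃ dL : L, (dL : G) = d := ⟨⟨d, hdL⟩, rfl⟩
  obtain ⟨cL, hcL'⟩ : ∃ cL : L, (cL : G) = c := ⟨⟨c, hCL hc⟩, rfl⟩
  obtain ⟨π, hπ⟩ : ∃ π : L →* L ⧸ Q.subgroupOf L, π = QuotientGroup.mk' (Q.subgroupOf L) :=
    ⟨_, rfl⟩
  have e0 : tL * dL⁻¹ * tL⁻¹ = dL⁻¹ * cL⁻¹ := by
    apply Subtype.ext
    simp only [Subgroup.coe_mul, Subgroup.coe_inv, htL', hdL', hcL', hcdef]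
    group
  have e1 : π tL * (π dL)⁻¹ * (π tL)⁻¹ = (π dL)⁻¹ * (π cL)⁻¹ := by
    rw [← map_inv, ← map_inv, ← map_inv, ← map_mul, ← map_mul, ← map_mul, e0]
  have e2' : π cL * π tL = π tL * π cL := by
    rw [hπ]
    apply mk_comm
    rw [hcL', htL']
    exact h1 c hc t htL k htk
  have e2 : π tL * (π cL)⁻¹ = (π cL)⁻¹ * π tL := by
    calc π tL * (π cL)⁻¹ = (π cL)⁻¹ * (π cL * π tL) * (π cL)⁻¹ := by group
      _ = (π cL)⁻¹ * (π tL * π cL) * (π cL)⁻¹ := by rw [e2']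
      _ = (π cL)⁻¹ * π tL := by group
  have e3 := conj_pow_aux e1 e2 (2 ^ k)
  have e4 : π tL ^ 2 ^ k = 1 := by
    rw [← map_pow]
    have : tL ^ 2 ^ k = 1 := by
      apply Subtype.ext
      rw [Subgroup.coe_pow, htL', htk]; rfl
    rw [this, map_one]
  rw [e4, one_mul, inv_one, mul_one] at e3
  have e5 : ((π cL)⁻¹) ^ 2 ^ k = 1 := by
    have := mul_left_cancel (a := (π dL)⁻¹) (b := 1) (c := ((π cL)⁻¹) ^ 2 ^ k)
      (by rw [mul_one]; exact e3)
    exact this.symm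
  rw [inv_pow, inv_eq_one, ← map_pow, hπ, mk_eq_one_iff, Subgroup.coe_pow, hcL'] at e5
  obtain ⟨k', hk'⟩ := hQ2 ⟨c ^ 2 ^ k, e5⟩
  have hk'' : c ^ 2 ^ (k + k') = 1 := by
    have := congrArg Subtype.val hk'
    rw [Subgroup.coe_pow] at this
    rw [pow_add, pow_mul]
    exact this
  exact h2 c hc (k + k') hk''

end stab

section ctx

variable {G : Type*} [Group G] [Finite G]

/-- the "transvection with centre `z`" predicate is closed under products of elements fixing `z` -/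
theorem tz_mul {V : Subgroup G} {z g h : G}
    (hg : ∀ v ∈ V, g * v * g⁻¹ = v ∨ g * v * g⁻¹ = v * z)
    (hh : ∀ v ∈ V, h * v * h⁻¹ = v ∨ h * v * h⁻¹ = v * z)
    (hgz : g * z * g⁻¹ = z) (hz2 : z * z = 1) :
    ∀ v ∈ V, (g * h) * v * (g * h)⁻¹ = v ∨ (g * h) * v * (g * h)⁻¹ = v * z := by
  intro v hv
  have e : (g * h) * v * (g * h)⁻¹ = g * (h * v * h⁻¹) * g⁻¹ := by group
  rw [e]
  rcases hh v hv with h1 | h1
  · rw [h1]; exact hg v hv
  · rw [h1]
    have e2 : g * (v * z) * g⁻¹ = (g * v * g⁻¹) * (g * z * g⁻¹) := by group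
    rw [e2, hgz]
    rcases hg v hv with h2 | h2
    · right; rw [h2]
    · left; rw [h2, mul_assoc, hz2, mul_one]

/-- the `J(T)`-component generated by the `S₃`-data `(a, d)` -/
theorem jComponent_of_data {T L J Q V C F₁ M' : Subgroup G}
    (ctx : Ctx T L J Q V C F₁ M') (hQdef : Q = pCoreOf 2 L) (hJ : J = thompsonSubgroupOf 2 T)
    {A₀ : Subgroup G} (hA₀ : A₀ ∈ maxEA 2 T) {a d z : G} (haA : a ∈ A₀) (hdL : d ∈ L)
    (hzV : z ∈ V) (hz1 : z ≠ 1)
    (hav : ∀ v ∈ V, v * a * v⁻¹ * a⁻¹ = 1 ∨ v * a * v⁻¹ * a⁻¹ = z)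
    (haC : a ∉ C) (hdC : d ∉ C) (hd3C : d ^ 3 ∈ C) (had : a * d * a⁻¹ = d⁻¹)
    (hdodd : Odd (orderOf d))
    (hBC : ∀ B ∈ maxEA 2 T, ∀ b ∈ B, b * d * b⁻¹ * d⁻¹ ∈ C ∨ b * d * b⁻¹ * d ∈ C) :
    IsJComponent T (jcl J d) ∧ jcl J d ≤ L := by
  classical
  have hJJ : J = JJ 2 T := by rw [hJ, Cfsg.Agent.S5306.thompson_eq_JJ]
  have hVcomm := comm_of_sq ctx.hV2
  have hCL : C ≤ L := ctx.hCL
  have memC : ∀ x ∈ L, x ∈ centralizer (V : Set G) → x ∈ C := by
    intro x hx hxV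
    rw [ctx.hCdef]
    exact Subgroup.mem_inf.mpr ⟨hx, hxV⟩
  have hA₀T : A₀ ≤ T := hA₀.1
  have hA₀L : A₀ ≤ L := hA₀T.trans ctx.hTL
  have hA₀sq : ∀ x ∈ A₀, x * x = 1 := fun x hx => by
    have := hA₀.2.1.2 x hx; rwa [pow_two] at this
  have haa : a * a = 1 := hA₀sq a haA
  have hainv : a⁻¹ = a := inv_eq_of_mul_eq_one_left haa
  have haT : a ∈ T := hA₀T haA
  have haL : a ∈ L := hA₀L haA
  have hzz : z * z = 1 := ctx.hV2 z hzV
  have hzinv : z⁻¹ = z := inv_eq_of_mul_eq_one_left hzz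
  -- `d ^ 3 = 1`
  have hd3 : d ^ 3 = 1 := by
    have h1 := ctx.h1 (d ^ 3) hd3C a haL 1 (by rw [pow_one, pow_two]; exact haa)
    have h2 : a * (d ^ 3)⁻¹ * a⁻¹ = d ^ 3 := by
      rw [← inv_pow, ← conj_pow]
      have : a * d⁻¹ * a⁻¹ = d := by
        calc a * d⁻¹ * a⁻¹ = (a * d * a⁻¹)⁻¹ := by group
          _ = d := by rw [had, inv_inv]
      rw [this]
    have h3 : d ^ 3 * a * (d ^ 3)⁻¹ * a⁻¹ = d ^ 6 := by
      calc d ^ 3 * a * (d ^ 3)⁻¹ * a⁻¹ = d ^ 3 * (a * (d ^ 3)⁻¹ * a⁻¹) := by group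
        _ = d ^ 3 * d ^ 3 := by rw [h2]
        _ = d ^ 6 := by rw [← pow_add]
    rw [h3] at h1
    obtain ⟨k, hk⟩ := ctx.hQ2 ⟨d ^ 6, h1⟩
    have hk' : d ^ (3 * 2 ^ (k + 1)) = 1 := by
      have := congrArg Subtype.val hk
      rw [Subgroup.coe_pow] at this
      have e : 3 * 2 ^ (k + 1) = 6 * 2 ^ k := by rw [pow_succ]; ring
      rw [e, pow_mul]
      exact this
    have h4 : orderOf d ∣ 3 * 2 ^ (k + 1) := orderOf_dvd_of_pow_eq_one hk'
    have h5 : Nat.Coprime (orderOf d) (2 ^ (k + 1)) :=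
      Nat.Coprime.pow_right _ (Nat.coprime_two_right.mpr hdodd)
    have h6 : orderOf d ∣ 3 := h5.dvd_of_dvd_mul_right h4
    exact orderOf_dvd_iff_pow_eq_one.mp h6
  have hddd : d * d * d = 1 := by rw [← hd3, pow_succ, pow_two]
  have hdinv : d⁻¹ = d * d := inv_eq_of_mul_eq_one_left hddd
  have hdQ : d ∉ Q := fun h => hdC (ctx.hQC h)
  have hdNC : d ∈ normalizer (C : Set G) := ctx.hLC hdL
  have hdNQ : d ∈ normalizer (Q : Set G) := ctx.hLQ hdL
  have hdNV : d ∈ normalizer (V : Set G) := ctx.hLV hdL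
  -- stability
  have hB1 : ∀ t ∈ T, t * d * t⁻¹ * d⁻¹ ∈ C → t * d * t⁻¹ * d⁻¹ ∈ Q := by
    intro t ht hc
    obtain ⟨k, hk⟩ := ctx.hT2 ⟨t, ht⟩
    have hk' : t ^ 2 ^ k = 1 := by
      have := congrArg Subtype.val hk
      simpa using this
    exact comm_mem_of_two_elt ctx.hLQ ctx.hQ2 hCL ctx.h1 ctx.h2 (ctx.hTL ht) hdL hk' hc
  have hB2 : ∀ t ∈ T, t * d * t⁻¹ * d ∈ C → t * d * t⁻¹ * d ∈ Q := by
    intro t ht hc
    have e1 : (t * a) * d * (t * a)⁻¹ * d⁻¹ = (d * (t * d * t⁻¹ * d) * d⁻¹)⁻¹ := by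
      calc (t * a) * d * (t * a)⁻¹ * d⁻¹ = t * (a * d * a⁻¹) * t⁻¹ * d⁻¹ := by group
        _ = t * d⁻¹ * t⁻¹ * d⁻¹ := by rw [had]
        _ = (d * (t * d * t⁻¹ * d) * d⁻¹)⁻¹ := by group
    have h1 : (t * a) * d * (t * a)⁻¹ * d⁻¹ ∈ C := by
      rw [e1]
      exact C.inv_mem (conj_mem_of_mem_normalizer hdNC hc)
    have h2 := hB1 (t * a) (T.mul_mem ht haT) h1
    rw [e1] at h2
    have h3 := conj_mem_of_mem_normalizer' hdNQ (Q.inv_mem h2)
    have e2 : d⁻¹ * (d * (t * d * t⁻¹ * d) * d⁻¹)⁻¹⁻¹ * d = t * d * t⁻¹ * d := by group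
    rwa [e2] at h3
  have hB : ∀ B ∈ maxEA 2 T, ∀ b ∈ B, b * d * b⁻¹ * d⁻¹ ∈ Q ∨ b * d * b⁻¹ * d ∈ Q := by
    intro B hBm b hb
    rcases hBC B hBm b hb with h | h
    · left; exact hB1 b (hBm.1 hb) h
    · right; exact hB2 b (hBm.1 hb) h
  -- the centre `z` of the transvection `a`
  have haCV : a ∉ centralizer (V : Set G) := fun h => haC (memC a haL h)
  obtain ⟨v₀, hv₀, hv₀a⟩ : ∃ v₀ ∈ V, v₀ * a * v₀⁻¹ * a⁻¹ = z := by
    by_contra hcon
    push Not at hcon
    apply haCV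
    rw [mem_centralizer_iff]
    intro v hv
    rcases hav v hv with h | h
    · calc v * a = (v * a * v⁻¹ * a⁻¹) * (a * v) := by group
        _ = a * v := by rw [h, one_mul]
    · exact absurd h (hcon v hv)
  have hzA₀c : ∀ b ∈ A₀, b * z * b⁻¹ = z := by
    intro b hb
    have hba : b * a = a * b := hA₀.2.1.1 b hb a haA
    have hbV : b * v₀ * b⁻¹ ∈ V := conj_mem_of_mem_normalizer (ctx.hLV (hA₀L hb)) hv₀
    have e : b * z * b⁻¹ = (b * v₀ * b⁻¹) * a * (b * v₀ * b⁻¹)⁻¹ * a⁻¹ := by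
      have hbab : b * a * b⁻¹ = a := by rw [hba]; group
      have hbab' : b * a⁻¹ * b⁻¹ = a⁻¹ := by
        calc b * a⁻¹ * b⁻¹ = (b * a * b⁻¹)⁻¹ := by group
          _ = a⁻¹ := by rw [hbab]
      calc b * z * b⁻¹ = b * (v₀ * a * v₀⁻¹ * a⁻¹) * b⁻¹ := by rw [hv₀a]
        _ = (b * v₀ * b⁻¹) * (b * a * b⁻¹) * (b * v₀ * b⁻¹)⁻¹ * (b * a⁻¹ * b⁻¹) := by group
        _ = (b * v₀ * b⁻¹) * a * (b * v₀ * b⁻¹)⁻¹ * a⁻¹ := by rw [hbab, hbab']
    rcases hav _ hbV with h | h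
    · exfalso
      apply hz1
      rw [← e] at h
      calc z = b⁻¹ * (b * z * b⁻¹) * b := by group
        _ = 1 := by rw [h]; group
    · rw [e, h]
  have hzA₀ : z ∈ A₀ := by
    have hEA : EA 2 (V ⊓ centralizer (A₀ : Set G)) := EA_of_sq (fun w hw => ctx.hV2 w hw.1)
    have hle : V ⊓ centralizer (A₀ : Set G) ≤ A₀ := by
      apply le_of_maxEA hA₀ hEA (inf_le_left.trans (ctx.hVQ.trans ctx.hQT))
      intro x hx b hb
      have := (mem_inf.mp hb).2
      rw [mem_centralizer_iff] at this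
      exact this x hx
    apply hle
    refine mem_inf.mpr ⟨hzV, ?_⟩
    rw [mem_centralizer_iff]
    intro b hb
    have := hzA₀c b hb
    calc b * z = (b * z * b⁻¹) * b := by group
      _ = z * b := by rw [this]
  have haz : a * z * a⁻¹ = z := hzA₀c a haA
  -- `d` does not centralize `z`
  have hav' : ∀ v ∈ V, a * v * a⁻¹ = v ∨ a * v * a⁻¹ = v * z := by
    intro v hv
    have hvinv : v⁻¹ = v := inv_eq_of_mul_eq_one_left (ctx.hV2 v hv)
    rcases hav v hv with h | h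
    · left
      calc a * v * a⁻¹ = (v * a * v⁻¹ * a⁻¹)⁻¹ * v := by group
        _ = v := by rw [h, inv_one, one_mul]
    · right
      calc a * v * a⁻¹ = (v * a * v⁻¹ * a⁻¹)⁻¹ * v := by group
        _ = z⁻¹ * v := by rw [h]
        _ = z * v := by rw [hzinv]
        _ = v * z := hVcomm z hzV v hv
  have hdaa : d = a * (d * a * d⁻¹) := by
    have h1 : a * d * a = d⁻¹ := by rw [← had, hainv]
    have h2 : d⁻¹ * d⁻¹ = d := by
      calc d⁻¹ * d⁻¹ = d⁻¹ * d⁻¹ * (d * d * d) := by rw [hddd, mul_one]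
        _ = d := by group
    calc d = d⁻¹ * d⁻¹ := h2.symm
      _ = (a * d * a) * d⁻¹ := by rw [h1]
      _ = a * (d * a * d⁻¹) := by group
  have hdz : d * z ≠ z * d := by
    intro hcomm
    have hdzd : d * z * d⁻¹ = z := by rw [hcomm]; group
    have hdzd' : d⁻¹ * z * d = z := by
      calc d⁻¹ * z * d = d⁻¹ * (z * d) := by group
        _ = d⁻¹ * (d * z) := by rw [hcomm]
        _ = z := by group
    have ha' : ∀ v ∈ V, (d * a * d⁻¹) * v * (d * a * d⁻¹)⁻¹ = v ∨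
        (d * a * d⁻¹) * v * (d * a * d⁻¹)⁻¹ = v * z := by
      intro v hv
      have hv' : d⁻¹ * v * d ∈ V := conj_mem_of_mem_normalizer' hdNV hv
      have e : (d * a * d⁻¹) * v * (d * a * d⁻¹)⁻¹ = d * (a * (d⁻¹ * v * d) * a⁻¹) * d⁻¹ := by
        group
      rw [e]
      rcases hav' _ hv' with h | h
      · left; rw [h]; group
      · right
        rw [h]
        calc d * (d⁻¹ * v * d * z) * d⁻¹ = v * (d * z * d⁻¹) := by group
          _ = v * z := by rw [hdzd]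
    have hd' := tz_mul hav' ha' haz hzz
    rw [← hdaa] at hd'
    have hd2 := tz_mul hd' hd' hdzd hzz
    apply hdC
    apply memC d hdL
    have hdd : d * d ∈ centralizer (V : Set G) := by
      rw [mem_centralizer_iff]
      intro v hv
      have key : (d * d) * v * (d * d)⁻¹ = v := by
        have e : (d * d) * v * (d * d)⁻¹ = d * (d * v * d⁻¹) * d⁻¹ := by group
        rw [e]
        rcases hd' v hv with h | h
        · rw [h]; rcases hd' v hv with h' | h'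
          · exact h'
          · rw [h] at h'
            exact h
        · rw [h]
          calc d * (v * z) * d⁻¹ = (d * v * d⁻¹) * (d * z * d⁻¹) := by group
            _ = v * z * z := by rw [h, hdzd]
            _ = v := by rw [mul_assoc, hzz, mul_one]
      calc v * (d * d) = ((d * d) * v * (d * d)⁻¹) * (d * d) := by rw [key]
        _ = (d * d) * v := by group
    rw [← hdinv] at hdd
    have := (centralizer (V : Set G)).inv_mem hdd
    rwa [inv_inv] at this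
  -- the central element `w = [z, d]`
  obtain ⟨w, hw⟩ : ∃ w : G, w = z * d * z⁻¹ * d⁻¹ := ⟨_, rfl⟩
  have hzJ : z ∈ J := by
    rw [hJJ]
    exact (le_sSup hA₀ : A₀ ≤ sSup (maxEA 2 T)) hzA₀
  have hz₁V : d * z * d⁻¹ ∈ V := conj_mem_of_mem_normalizer hdNV hzV
  have hw' : w = z * (d * z * d⁻¹) := by
    rw [hw]
    calc z * d * z⁻¹ * d⁻¹ = z * (d * z⁻¹ * d⁻¹) := by group
      _ = z * (d * z * d⁻¹) := by rw [hzinv]
  have hwV : w ∈ V := by rw [hw']; exact V.mul_mem hzV hz₁V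
  have hwK : w ∈ jcl J d := by
    rw [hw]
    exact (jcl J d).mul_mem (conj_mem_jcl hzJ) ((jcl J d).inv_mem (self_mem_jcl J d))
  have hwd : d * w ≠ w * d := by
    intro hcomm
    apply hdz
    have h1 : d * w * d⁻¹ = w := by rw [hcomm]; group
    have h2 : d * w * d⁻¹ = (d * z * d⁻¹) * (d * (d * z * d⁻¹) * d⁻¹) := by
      rw [hw']; group
    have h3 : w = (d * z * d⁻¹) * z := by
      rw [hw']; exact hVcomm z hzV _ hz₁V
    have h4 : d * (d * z * d⁻¹) * d⁻¹ = z := by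
      have := h2.symm.trans (h1.trans h3)
      exact mul_left_cancel this
    have h5 : d⁻¹ * z * d = z := by
      calc d⁻¹ * z * d = d⁻¹ * z * d⁻¹⁻¹ := by rw [inv_inv]
        _ = (d * d) * z * (d * d)⁻¹ := by rw [hdinv]
        _ = d * (d * z * d⁻¹) * d⁻¹ := by group
        _ = z := h4
    calc d * z = d * (d⁻¹ * z * d) := by rw [h5]
      _ = z * d := by group
  exact isJComponent_jcl ctx.hT2 hJ ctx.hQT ctx.hTL ctx.hLQ hA₀ haA hdL hd3 hdQ had hB
    hwK (ctx.hVQ hwV) (ctx.hV2 w hwV) (ctx.hVZ hwV) hwd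

/-- **Existence of a `J(T)`-component in a member of `ℒ(T)`.** -/
theorem exists_jComponent_of_ctx {T L V C F₁ M' : Subgroup G}
    (ctx : Ctx T L (thompsonSubgroupOf 2 T) (pCoreOf 2 L) V C F₁ M')
    (hJQ : ¬ thompsonSubgroupOf 2 T ≤ pCoreOf 2 L) :
    ∃ K : Subgroup G, IsJComponent T K ∧ K ≤ L := by
  classical
  obtain ⟨Q, hQdef⟩ : ∃ Q : Subgroup G, Q = pCoreOf 2 L := ⟨_, rfl⟩
  obtain ⟨J, hJ⟩ : ∃ J : Subgroup G, J = thompsonSubgroupOf 2 T := ⟨_, rfl⟩
  rw [← hQdef, ← hJ] at ctx hJQ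
  have hJJ : J = JJ 2 T := by rw [hJ, Cfsg.Agent.S5306.thompson_eq_JJ]
  have memC : ∀ x ∈ L, x ∈ centralizer (V : Set G) → x ∈ C := by
    intro x hx hxV
    rw [ctx.hCdef]
    exact Subgroup.mem_inf.mpr ⟨hx, hxV⟩
  -- a largest elementary abelian subgroup outside `Q`
  obtain ⟨A₀, hA₀, hA₀Q⟩ : ∃ A₀ ∈ maxEA 2 T, ¬ A₀ ≤ Q := by
    by_contra hcon
    push Not at hcon
    apply hJQ
    rw [hJJ]
    show sSup (maxEA 2 T) ≤ Q
    exact sSup_le hcon
  have hA₀T : A₀ ≤ T := hA₀.1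
  have hA₀L : A₀ ≤ L := hA₀T.trans ctx.hTL
  have hA₀sq : ∀ x ∈ A₀, x * x = 1 := fun x hx => by
    have := hA₀.2.1.2 x hx; rwa [pow_two] at this
  have hA₀V : ¬ A₀ ≤ centralizer (V : Set G) := by
    intro hle
    apply hA₀Q
    intro x hx
    apply ctx.h2 x (memC x (hA₀L hx) (hle hx)) 1
    rw [pow_one, pow_two]
    exact hA₀sq x hx
  obtain ⟨a, haA, d, hdL, z, hzV, hz1, hav, haC, hdC, hd3C, had, hdodd, hBC⟩ :=
    Cfsg.Agent.Lib.Helper10_JCompS3.ctx_exists_S3 ctx hQdef hA₀ hA₀V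
  obtain ⟨hK, hKL⟩ := jComponent_of_data ctx hQdef hJ hA₀ haA hdL hzV hz1 hav haC hdC hd3C had
    hdodd hBC
  exact ⟨_, hK, hKL⟩

end ctx

end Cfsg.Agent.Lib.Helper10_JCompEx
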