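import Mathlib

set_option autoImplicit false

/-!
# Sylow subgroups of a subgroup, seen inside the ambient group

`H : Subgroup G`, `S : Sylow p H`, `P = S.map H.subtype : Subgroup G`.
* `sylowSub_le`, `sylowSub_isPGroup`, `sylowSub_max` : `P ≤ H` is a maximal `p`-subgroup of `H`;
* `sylowSub_exists_conj_le` : every `p`-subgroup `Q ≤ H` is `H`-conjugate into `P`;
* `sylowSub_exists_conj_eq` : if moreover `|Q| = |P|` then `Q` is `H`-conjugate to `P`;
* `sylowSub_of_max` : a maximal `p`-subgroup of `H` is the image of a Sylow subgroup of `H`.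
-/

namespace Cfsg.Agent.Lib.Helper16_SylowSub

variable {G : Type*} [Group G] {p : ℕ}

theorem sylowSub_le {H : Subgroup G} (S : Sylow p H) {P : Subgroup G}
    (hS : (S : Subgroup H).map H.subtype = P) : P ≤ H := by
  rw [← hS]; exact Subgroup.map_subtype_le _

theorem sylowSub_isPGroup {H : Subgroup G} (S : Sylow p H) {P : Subgroup G}
    (hS : (S : Subgroup H).map H.subtype = P) : IsPGroup p P := by
  rw [← hS]; exact S.2.map _

theorem sylowSub_mem {H : Subgroup G} (S : Sylow p H) {P : Subgroup G}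
    (hS : (S : Subgroup H).map H.subtype = P) (y : H) : y ∈ S ↔ (y : G) ∈ P := by
  rw [← hS]
  constructor
  · intro hy; exact ⟨y, hy, rfl⟩
  · rintro ⟨z, hz, hzy⟩
    have : z = y := Subtype.ext hzy
    rwa [← this]

/-- maximality, at the level of the ambient group -/
theorem sylowSub_max {H : Subgroup G} (S : Sylow p H) {P Q : Subgroup G}
    (hS : (S : Subgroup H).map H.subtype = P) (hQ : IsPGroup p Q) (hPQ : P ≤ Q) (hQH : Q ≤ H) :
    Q = P := by
  have h1 : IsPGroup p (Q.subgroupOf H) := hQ.comap_subtype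
  have h2 : (S : Subgroup H) ≤ Q.subgroupOf H := by
    intro y hy
    rw [Subgroup.mem_subgroupOf]
    exact hPQ ((sylowSub_mem S hS y).mp hy)
  have h3 := S.is_maximal' h1 h2
  rw [← Subgroup.map_subgroupOf_eq_of_le hQH, h3, hS]

/-- a maximal `p`-subgroup of `H` comes from a Sylow subgroup of `H` -/
theorem sylowSub_of_max {H : Subgroup G} {P : Subgroup G} (hPH : P ≤ H) (hP : IsPGroup p P)
    (hmax : ∀ Q : Subgroup G, IsPGroup p Q → P ≤ Q → Q ≤ H → Q = P) :
    ∃ S : Sylow p H, (S : Subgroup H).map H.subtype = P := by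
  have h1 : IsPGroup p (P.subgroupOf H) := hP.comap_subtype
  obtain ⟨T, hT⟩ := h1.exists_le_sylow
  refine ⟨T, ?_⟩
  apply hmax _ (T.2.map _) _ (Subgroup.map_subtype_le _)
  intro x hx
  exact ⟨⟨x, hPH hx⟩, hT (Subgroup.mem_subgroupOf.mpr hx), rfl⟩

/-- Sylow's theorem inside `H`: a `p`-subgroup of `H` is `H`-conjugate into `P` -/
theorem sylowSub_exists_conj_le [Finite G] [Fact p.Prime] {H : Subgroup G} (S : Sylow p H)
    {P Q : Subgroup G} (hS : (S : Subgroup H).map H.subtype = P) (hQ : IsPGroup p Q)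
    (hQH : Q ≤ H) : ∃ k ∈ H, Q.map (MulAut.conj k).toMonoidHom ≤ P := by
  have h1 : IsPGroup p (Q.subgroupOf H) := hQ.comap_subtype
  obtain ⟨T, hT⟩ := h1.exists_le_sylow
  obtain ⟨k, hk⟩ := MulAction.exists_smul_eq H T S
  refine ⟨k, k.2, ?_⟩
  rintro x ⟨q, hq, rfl⟩
  have hqT : (⟨q, hQH hq⟩ : H) ∈ (T : Subgroup H) := hT (Subgroup.mem_subgroupOf.mpr hq)
  have h2 := Subgroup.smul_mem_pointwise_smul _ (MulAut.conj k) _ hqT
  rw [← Sylow.coe_subgroup_smul, hk, MulAut.smul_def, MulAut.conj_apply] at h2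
  have h3 := (sylowSub_mem S hS _).mp h2
  simpa using h3

theorem sylowSub_exists_conj_eq [Finite G] [Fact p.Prime] {H : Subgroup G} (S : Sylow p H)
    {P Q : Subgroup G} (hS : (S : Subgroup H).map H.subtype = P) (hQ : IsPGroup p Q)
    (hQH : Q ≤ H) (hcard : Nat.card Q = Nat.card P) :
    ∃ k ∈ H, Q.map (MulAut.conj k).toMonoidHom = P := by
  obtain ⟨k, hk, hle⟩ := sylowSub_exists_conj_le S hS hQ hQH
  refine ⟨k, hk, Subgroup.eq_of_le_of_card_ge hle ?_⟩
  rw [Subgroup.card_map_of_injective (MulAut.conj k).injective, hcard]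

end Cfsg.Agent.Lib.Helper16_SylowSub
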