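import Mathlib
import Cfsg.Agent.Lib.Helper10_JCompNorm
import Cfsg.Agent.Lib.Helper16_SylowSub
import Cfsg.Agent.S2941

set_option autoImplicit false
set_option linter.unusedSectionVars false
set_option linter.style.haveILetI false
set_option linter.unusedVariables false

/-!
# `J`-components `K` with `J(T)` weakly closed in `N_G(W_K)`: `N_G(K) = N_G(W_K)` (helper10)
-/

namespace Cfsg.Agent.Lib.Helper10_JCompZero

open Cfsg Subgroup
open Cfsg.Agent.S5306 (EA maxEA JJ)
open Cfsg.Agent.Lib.Helper10_JComp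
open Cfsg.Agent.Lib.Helper10_JCompB
open Cfsg.Agent.Lib.Helper10_JCompE
open Cfsg.Agent.Lib.Helper10_JCompF
open Cfsg.Agent.Lib.Helper10_JCompSub
open Cfsg.Agent.Lib.Helper10_JCompUniq
open Cfsg.Agent.Lib.Helper10_JCompTv
open Cfsg.Agent.Lib.Helper10_JCompNorm
open scoped commutatorElement

variable {G : Type*} [Group G] [Finite G]

/-- a `2`-subgroup of `N` lies in a Sylow `2`-subgroup of `N` -/
theorem exists_sylow_in {J N : Subgroup G} (hJN : J ≤ N) (hJ2 : IsPGroup 2 J) :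
    ∃ S : Subgroup G, J ≤ S ∧ IsSylowTwoIn S N ∧
      ∃ S₀ : Sylow 2 N, (S₀ : Subgroup N).map N.subtype = S := by
  haveI : Fact (Nat.Prime 2) := ⟨Nat.prime_two⟩
  have h1 : IsPGroup 2 (J.subgroupOf N) := hJ2.comap_subtype
  obtain ⟨S₀, hS₀⟩ := h1.exists_le_sylow
  refine ⟨(S₀ : Subgroup N).map N.subtype, ?_, ⟨Subgroup.map_subtype_le _, S₀.2.map _, ?_⟩,
    S₀, rfl⟩
  · intro x hx
    exact ⟨⟨x, hJN hx⟩, hS₀ (Subgroup.mem_subgroupOf.mpr hx), rfl⟩
  · have e : ((S₀ : Subgroup N).map N.subtype).subgroupOf N = (S₀ : Subgroup N) :=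
      Subgroup.comap_map_eq_self_of_injective N.subtype_injective _
    rw [Subgroup.relIndex, e]
    have := S₀.not_dvd_index
    exact Nat.odd_iff.mpr (Nat.two_dvd_ne_zero.mp this)

/-- `IsJComponent T K` depends on `T` only through `J(T)` -/
theorem isJComponent_congr {T S K : Subgroup G}
    (h : thompsonSubgroupOf 2 S = thompsonSubgroupOf 2 T) (hK : IsJComponent T K) :
    IsJComponent S K := by
  unfold IsJComponent at hK ⊢
  rw [h]
  exact hK

/-- `K` stays a `J`-component when `J(T)` is replaced by a conjugate under `N_G(K)` -/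
theorem isJComponent_of_map_eq {T T' K : Subgroup G} (hK : IsJComponent T K) {m : G}
    (hm : m ∈ normalizer (K : Set G))
    (h : thompsonSubgroupOf 2 T' = (thompsonSubgroupOf 2 T).map (MulAut.conj m).toMonoidHom) :
    IsJComponent T' K := by
  obtain ⟨J, hJdef⟩ : ∃ J : Subgroup G, J = thompsonSubgroupOf 2 T := ⟨_, rfl⟩
  have hKm : K.map (MulAut.conj m).toMonoidHom = K := map_conj_eq hm
  unfold IsJComponent at hK ⊢
  rw [h, ← hJdef]
  rw [← hJdef] at hK
  obtain ⟨h1, h2, h3, h4, h5, h6⟩ := hK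
  refine ⟨h1, ?_, h3, ?_, h5, h6⟩
  · conv_lhs => rw [← hKm]
    rw [← Subgroup.map_commutator, h2, hKm]
  · intro S' hS' hJS'
    obtain ⟨hS'le, hS'2, hS'odd⟩ := hS'
    have hsup : (K ⊔ J).map (MulAut.conj m).toMonoidHom =
        K ⊔ J.map (MulAut.conj m).toMonoidHom := by
      rw [Subgroup.map_sup, hKm]
    have e1 : (S'.map (MulAut.conj m).symm.toMonoidHom).map (MulAut.conj m).toMonoidHom = S' :=
      Cfsg.Agent.S5306.map_symm_map _ _
    have hS'' : IsSylowTwoIn (S'.map (MulAut.conj m).symm.toMonoidHom) (K ⊔ J) := by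
      refine ⟨?_, hS'2.map _, ?_⟩
      · have := Subgroup.map_mono (f := (MulAut.conj m).symm.toMonoidHom) hS'le
        rwa [← hsup, Cfsg.Agent.S5306.map_map_symm] at this
      · have := Subgroup.relIndex_map_map_of_injective
          (S'.map (MulAut.conj m).symm.toMonoidHom) (K ⊔ J)
          (f := (MulAut.conj m).toMonoidHom) (MulAut.conj m).injective
        rw [e1, hsup] at this
        rw [← this]
        exact hS'odd
    have hJS'' : J ≤ S'.map (MulAut.conj m).symm.toMonoidHom := by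
      have := Subgroup.map_mono (f := (MulAut.conj m).symm.toMonoidHom) hJS'
      rwa [Cfsg.Agent.S5306.map_map_symm] at this
    have h7 := h4 _ hS'' hJS''
    have h8 : thompsonSubgroupOf 2 S' =
        (thompsonSubgroupOf 2 (S'.map (MulAut.conj m).symm.toMonoidHom)).map
          (MulAut.conj m).toMonoidHom := by
      conv_lhs => rw [← e1]
      rw [Cfsg.Agent.S5306.thompson_eq_JJ, Cfsg.Agent.S5306.thompson_eq_JJ,
        Cfsg.Agent.S5306.JJ_map]
    rw [h8, h7]

section zero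

variable (hL : Cfsg.IsCharacteristicTwoType G)
  (hN : ∀ N : Subgroup G, Cfsg.IsTwoLocal N → Group.IsSolvable ↥N)
  (hZ : ∀ S : Sylow 2 G, centralizer (Cfsg.omegaCenterOf (S : Subgroup G) : Set G) ≤
    normalizer ((S : Subgroup G) : Set G))
include hL hN hZ

/-- for `K ∈ 𝒦₀(T)` the normalizer of `W_K` belongs to `ℒ(S)` for a Sylow `2`-subgroup `S` of it
with `J(S) = J(T)` -/
theorem exists_overgroup {T K : Subgroup G} (hT : IsPGroup 2 ↥T)
    (hK : K ∈ jComponentsZero T) :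
    ∃ S : Subgroup G, thompsonSubgroupOf 2 S = thompsonSubgroupOf 2 T ∧
      IsPGroup 2 S ∧ S ≠ ⊥ ∧ normalizer (wOf K : Set G) ∈ jOvergroups S ∧
      ∃ S₀ : Sylow 2 (normalizer (wOf K : Set G)),
        (S₀ : Subgroup _).map (normalizer (wOf K : Set G)).subtype = S := by
  haveI : Fact (Nat.Prime 2) := ⟨Nat.prime_two⟩
  obtain ⟨hK1, hK2⟩ := hK
  have core := core_of_isJComponent hT hK1
  obtain ⟨N, hNdef⟩ : ∃ N : Subgroup G, N = normalizer (wOf K : Set G) := ⟨_, rfl⟩
  rw [← hNdef] at hK2 ⊢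
  have hJN : thompsonSubgroupOf 2 T ≤ N := by rw [hNdef]; exact core.hJW
  have hKN : K ≤ N := by rw [hNdef]; exact core.hKW
  obtain ⟨S, hJS, hSyl, S₀, hS₀⟩ := exists_sylow_in hJN core.hJ2
  have hJeq : thompsonSubgroupOf 2 S = thompsonSubgroupOf 2 T := hK2 S hJS hSyl
  have hW2g : IsPGroup 2 (wOf K) := IsPGroup.of_card (n := 2) (by rw [core.hW4]; norm_num)
  have hW1 : wOf K ≠ ⊥ := by
    intro hbot
    have := core.hW4
    rw [hbot, Subgroup.card_bot] at this
    omega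
  have hWN : wOf K ≤ N := by rw [hNdef]; exact Subgroup.le_normalizer
  have hNW : N ≤ normalizer (wOf K : Set G) := by rw [hNdef]
  have hWR : wOf K ≤ pCoreOf 2 N := Cfsg.Agent.Lib.Helper47_SubAPI.le_pCoreOf hWN hNW hW2g
  -- `C_G(O_2(N)) ≤ O_2(N)`
  have hchar : IsOfCharacteristicTwo ↥N := by rw [hNdef]; exact hL.2 (wOf K) hW2g hW1
  have hCR : centralizer (pCoreOf 2 N : Set G) ≤ pCoreOf 2 N := by
    intro g hg
    have hgW : g ∈ centralizer (wOf K : Set G) :=
      Subgroup.centralizer_le (SetLike.coe_subset_coe.mpr hWR) hg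
    have hgN : g ∈ N := by
      rw [hNdef]
      exact Subgroup.centralizer_le_normalizer _ hgW
    have h1 : (⟨g, hgN⟩ : N) ∈ centralizer (pCore 2 ↥N : Set ↥N) := by
      rw [Subgroup.mem_centralizer_iff]
      intro q hq
      apply Subtype.ext
      rw [Subgroup.mem_centralizer_iff] at hg
      exact hg q ((mem_pCore_iff N q).mp hq)
    exact (mem_pCore_iff N ⟨g, hgN⟩).mp (hchar h1)
  -- `O_2(N)` centralizes `W`
  have hRW : pCoreOf 2 N ≤ centralizer (wOf K : Set G) := by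
    have h1 := W_le_omegaCenterOf core (Cfsg.Agent.Lib.Helper47_SubAPI.isPGroup_pCoreOf N)
      ((Cfsg.Agent.Lib.Helper47_SubAPI.pCoreOf_le N).trans hNW)
      (hKN.trans (Cfsg.Agent.Lib.Helper47_SubAPI.le_normalizer_pCoreOf N)) hCR
    have h2 : wOf K ≤ centralizer (pCoreOf 2 N : Set G) :=
      h1.trans ((omegaCenterOf_le _).trans inf_le_right)
    exact Subgroup.le_centralizer_iff.mp h2
  have hJR : ¬ thompsonSubgroupOf 2 S ≤ pCoreOf 2 N := by
    rw [hJeq]
    intro hle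
    exact not_J_le core (hle.trans hRW)
  have hS1 : S ≠ ⊥ := by
    intro hbot
    apply hJR
    have := thompsonSubgroupOf_le 2 S
    rw [hbot, le_bot_iff] at this
    rw [hbot, this]
    exact bot_le
  exact ⟨S, hJeq, hSyl.2.1, hS1, ⟨hSyl, hJR, hCR⟩, S₀, hS₀⟩

/-- **`N_G(K) = N_G(W_K)` for `K ∈ 𝒦₀(T)`.** -/
theorem normalizer_eq {T K : Subgroup G} (hT : IsPGroup 2 ↥T)
    (hK : K ∈ jComponentsZero T) :
    normalizer (K : Set G) = normalizer (wOf K : Set G) := by
  obtain ⟨S, hJeq, hS2, hS1, hNS, S₀, hS₀⟩ := exists_overgroup hL hN hZ hT hK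
  have hKS : IsJComponent S K := isJComponent_congr hJeq hK.1
  have core := core_of_isJComponent hS2 hKS
  obtain ⟨V, C, F₁, M', ctx⟩ := exists_ctx hN hZ hS2 hS1 hNS
  have hKN : K ≤ normalizer (wOf K : Set G) := core.hKW
  have hLQ := Cfsg.Agent.Lib.Helper47_SubAPI.le_normalizer_pCoreOf (p := 2)
    (normalizer (wOf K : Set G))
  have hQK : pCoreOf 2 (normalizer (wOf K : Set G)) ≤ normalizer (K : Set G) := by
    apply Cfsg.Agent.S2941.result hL hN hZ S hS2 hS1 K hKS
    · exact sup_le (hKN.trans hLQ) ((thompsonSubgroupOf_le 2 S).trans (ctx.hTL.trans hLQ))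
    · exact ctx.hQT.trans ctx.hTJ
  have hcomp := LComp.of_isJComponent ctx hKS hKN hQK
  -- a member of `𝒜(S)` acting nontrivially on `W`
  obtain ⟨A, hA, hAW⟩ : ∃ A ∈ maxEA 2 S, ¬ A ≤ centralizer (wOf K : Set G) := by
    by_contra hcon
    push Not at hcon
    apply not_J_le core
    rw [Cfsg.Agent.S5306.thompson_eq_JJ]
    exact sSup_le hcon
  have hAJ : A ≤ thompsonSubgroupOf 2 S := by
    rw [Cfsg.Agent.S5306.thompson_eq_JJ]
    exact le_sSup hA
  obtain ⟨a, haA, ha2, haW, haV⟩ := ctx_exists_tv ctx rfl hA hcomp.hWV (hAJ.trans core.hJW) hAW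
  obtain ⟨k₀, hk₀, hodd, hk₀P⟩ := core.exists_k₀
  have hmove := core.k₀_moves hk₀ hodd hk₀P
  have hPQ : pCoreOf 2 K ≤ pCoreOf 2 (normalizer (wOf K : Set G)) := by
    have := hcomp.hPQ
    rwa [core.K_inf] at this
  have hdec : ∀ k ∈ K, ∃ g ∈ zpowers k₀, ∃ p ∈ pCoreOf 2 (normalizer (wOf K : Set G)),
      k = g * p := by
    intro k hk
    rw [K_eq core hk₀ hk₀P] at hk
    obtain ⟨p, hp, g, hg, rfl⟩ := Cfsg.Agent.Lib.Helper24_CoprimeAction.exists_mul_of_mem_sup
      (zpowers k₀) (pCoreOf 2 K) (Subgroup.zpowers_le.mpr (core.hKP hk₀)) hk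
    have hgK : g ∈ K := (Subgroup.zpowers_le.mpr hk₀) hg
    refine ⟨g, hg, g⁻¹ * p * g, hPQ (conj_mem_of_mem_normalizer' (core.hKP hgK) hp), by group⟩
  have hle := inf_normalizer_le ctx hcomp hk₀ hodd hmove hdec (hAJ haA) ha2 haW haV
  apply le_antisymm (normalizer_le_normalizer_wOf K)
  intro x hx
  exact hle (Subgroup.mem_inf.mpr ⟨hx, hx⟩)

/-- **`K ∈ 𝒦₀(T)` is a `J(Tᵍ)`-component whenever `J(Tᵍ) ≤ N_G(W_K)`.** -/
theorem isJComponent_conj {T K : Subgroup G} (hT : IsPGroup 2 ↥T)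
    (hK : K ∈ jComponentsZero T) (g : G)
    (hg : thompsonSubgroupOf 2 (T.map (MulAut.conj g).toMonoidHom) ≤
      normalizer (wOf K : Set G)) :
    IsJComponent (T.map (MulAut.conj g).toMonoidHom) K := by
  haveI : Fact (Nat.Prime 2) := ⟨Nat.prime_two⟩
  have hnorm := normalizer_eq hL hN hZ hT hK
  obtain ⟨S, hJeq, hS2, hS1, hNS, S₀, hS₀⟩ := exists_overgroup hL hN hZ hT hK
  obtain ⟨J, hJdef⟩ : ∃ J : Subgroup G, J = thompsonSubgroupOf 2 T := ⟨_, rfl⟩
  have hJT : J ≤ T := by rw [hJdef]; exact thompsonSubgroupOf_le 2 T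
  have hJ2 : IsPGroup 2 J := hT.to_le hJT
  have hJ' : thompsonSubgroupOf 2 (T.map (MulAut.conj g).toMonoidHom) =
      J.map (MulAut.conj g).toMonoidHom := by
    rw [hJdef, Cfsg.Agent.S5306.thompson_eq_JJ, Cfsg.Agent.S5306.thompson_eq_JJ,
      Cfsg.Agent.S5306.JJ_map]
  rw [hJ'] at hg
  obtain ⟨n, hn, hle⟩ := Cfsg.Agent.Lib.Helper16_SylowSub.sylowSub_exists_conj_le S₀ hS₀
    (hJ2.map (MulAut.conj g).toMonoidHom) hg
  -- `J.map (conj (n * g)) = J`
  have hmapmap : (J.map (MulAut.conj g).toMonoidHom).map (MulAut.conj n).toMonoidHom =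
      J.map (MulAut.conj (n * g)).toMonoidHom := by
    rw [Subgroup.map_map]
    congr 1
    ext x
    simp only [MonoidHom.coe_comp, MulEquiv.coe_toMonoidHom, Function.comp_apply,
      MulAut.conj_apply]
    group
  rw [hmapmap] at hle
  have hJS : JJ 2 S = J := by
    rw [← Cfsg.Agent.S5306.thompson_eq_JJ, hJeq, hJdef]
  have hJJT : JJ 2 T = J := by rw [hJdef, Cfsg.Agent.S5306.thompson_eq_JJ]
  have hJ''le : J.map (MulAut.conj (n * g)).toMonoidHom ≤ J := by
    have e1 : J.map (MulAut.conj (n * g)).toMonoidHom =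
        JJ 2 (T.map (MulAut.conj (n * g)).toMonoidHom) := by
      rw [Cfsg.Agent.S5306.JJ_map, hJJT]
    rw [e1]
    conv_rhs => rw [← hJS]
    apply sSup_le
    intro B hB
    apply le_sSup
    -- `B` is a largest elementary abelian subgroup of `S`
    have hBJ : B ≤ JJ 2 (T.map (MulAut.conj (n * g)).toMonoidHom) := le_sSup hB
    have hBS : B ≤ S := by
      rw [← e1] at hBJ
      exact hBJ.trans hle
    refine ⟨hBS, hB.2.1, ?_⟩
    intro C hC hCE
    obtain ⟨A₀, hA₀⟩ := Cfsg.Agent.S5306.exists_maxEA 2 S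
    have hA₀J : A₀ ≤ J := by rw [← hJS]; exact le_sSup hA₀
    have h1 : Nat.card C ≤ Nat.card A₀ := hA₀.2.2 C hC hCE
    have hB' := Cfsg.Agent.S5306.maxEA_map 2 (MulAut.conj (n * g)).symm _ B hB
    rw [Cfsg.Agent.S5306.map_map_symm] at hB'
    have h2 : Nat.card A₀ ≤ Nat.card (B.map (MulAut.conj (n * g)).symm.toMonoidHom) :=
      hB'.2.2 A₀ (hA₀J.trans hJT) hA₀.2.1
    rw [Cfsg.Agent.S5306.card_map_equiv] at h2
    exact h1.trans h2
  have hJ''eq : J.map (MulAut.conj (n * g)).toMonoidHom = J := by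
    apply Subgroup.eq_of_le_of_card_ge hJ''le
    rw [Cfsg.Agent.S5306.card_map_equiv]
  -- hence `J.map (conj g) = J.map (conj n⁻¹)`
  have hfinal : J.map (MulAut.conj g).toMonoidHom = J.map (MulAut.conj n⁻¹).toMonoidHom := by
    conv_rhs => rw [← hJ''eq]
    rw [Subgroup.map_map]
    congr 1
    ext x
    simp only [MonoidHom.coe_comp, MulEquiv.coe_toMonoidHom, Function.comp_apply,
      MulAut.conj_apply]
    group
  apply isJComponent_of_map_eq hK.1 (m := n⁻¹)
  · rw [hnorm]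
    exact Subgroup.inv_mem _ hn
  · rw [hJ', hfinal, hJdef]

end zero

end Cfsg.Agent.Lib.Helper10_JCompZero
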