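import Cfsg.Agent.Lib.Helper47_PClosed
import Mathlib.GroupTheory.Nilpotent

set_option autoImplicit false

namespace Cfsg.Agent.Lib.Helper47_Conj

open Cfsg
open Cfsg.Agent.Lib.Helper47_PLocal Cfsg.Agent.Lib.Helper47_PClosed
open scoped commutatorElement Pointwise

variable {G : Type*} [Group G] {p : ℕ}

/-! ### Conjugates of subgroups, written as `K.map (MulAut.conj g).toMonoidHom` -/

theorem map_conj_map_conj (a b : G) (K : Subgroup G) :
    (K.map (MulAut.conj b).toMonoidHom).map (MulAut.conj a).toMonoidHom =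
      K.map (MulAut.conj (a * b)).toMonoidHom := by
  rw [Subgroup.map_map]
  congr 1
  ext x
  simp [mul_assoc]

theorem map_conj_one (K : Subgroup G) : K.map (MulAut.conj (1 : G)).toMonoidHom = K := by
  ext x
  simp

theorem map_conj_inv_map_conj (a : G) (K : Subgroup G) :
    (K.map (MulAut.conj a).toMonoidHom).map (MulAut.conj a⁻¹).toMonoidHom = K := by
  rw [map_conj_map_conj, inv_mul_cancel, map_conj_one]

theorem map_conj_map_conj_inv (a : G) (K : Subgroup G) :
    (K.map (MulAut.conj a⁻¹).toMonoidHom).map (MulAut.conj a).toMonoidHom = K := by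
  rw [map_conj_map_conj, mul_inv_cancel, map_conj_one]

theorem map_conj_le_iff (a : G) (K L : Subgroup G) :
    K.map (MulAut.conj a).toMonoidHom ≤ L ↔ K ≤ L.map (MulAut.conj a⁻¹).toMonoidHom := by
  constructor
  · intro h
    have := Subgroup.map_mono (f := (MulAut.conj a⁻¹).toMonoidHom) h
    rwa [map_conj_inv_map_conj] at this
  · intro h
    have := Subgroup.map_mono (f := (MulAut.conj a).toMonoidHom) h
    rwa [map_conj_map_conj_inv] at this

theorem map_conj_eq_iff (a : G) (K L : Subgroup G) :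
    K.map (MulAut.conj a).toMonoidHom = L ↔ K = L.map (MulAut.conj a⁻¹).toMonoidHom := by
  constructor
  · rintro rfl; rw [map_conj_inv_map_conj]
  · rintro rfl; rw [map_conj_map_conj_inv]

theorem map_conj_eq_self_of_mem {K : Subgroup G} {a : G} (ha : a ∈ K) :
    K.map (MulAut.conj a).toMonoidHom = K :=
  Subgroup.mem_normalizer_iff_map_conj_eq.mp (Subgroup.le_normalizer ha)

theorem mem_normalizer_iff_map_conj_eq' {K : Subgroup G} {a : G} :
    a ∈ Subgroup.normalizer (K : Set G) ↔ K.map (MulAut.conj a).toMonoidHom = K :=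
  Subgroup.mem_normalizer_iff_map_conj_eq

theorem sylow_smul_eq_map_conj (a : G) (T : Sylow p G) :
    ((a • T : Sylow p G) : Subgroup G) = (T : Subgroup G).map (MulAut.conj a).toMonoidHom := by
  rw [Sylow.coe_subgroup_smul]; rfl

/-- normalizer of a conjugate -/
theorem normalizer_map_conj (a : G) (K : Subgroup G) :
    Subgroup.normalizer ((K.map (MulAut.conj a).toMonoidHom : Subgroup G) : Set G) =
      (Subgroup.normalizer (K : Set G)).map (MulAut.conj a).toMonoidHom := by
  apply le_antisymm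
  · intro x hx
    rw [mem_normalizer_iff_map_conj_eq'] at hx
    refine ⟨a⁻¹ * x * a, ?_, by simp [mul_assoc]⟩
    show a⁻¹ * x * a ∈ Subgroup.normalizer (K : Set G)
    rw [mem_normalizer_iff_map_conj_eq']
    have h1 : K.map (MulAut.conj (a⁻¹ * x * a)).toMonoidHom =
        ((K.map (MulAut.conj a).toMonoidHom).map (MulAut.conj x).toMonoidHom).map
          (MulAut.conj a⁻¹).toMonoidHom := by
      rw [map_conj_map_conj, map_conj_map_conj, mul_assoc]
    rw [h1, hx, map_conj_inv_map_conj]
  · exact Subgroup.le_normalizer_map _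

/-! ### Sylow's theorem inside a subgroup -/

theorem exists_mem_map_conj_eq_of_sylow_le [Finite G] [Fact p.Prime] {K : Subgroup G}
    (T₁ T₂ : Sylow p G) (h₁ : (T₁ : Subgroup G) ≤ K) (h₂ : (T₂ : Subgroup G) ≤ K) :
    ∃ n ∈ K, (T₁ : Subgroup G).map (MulAut.conj n).toMonoidHom = T₂ := by
  obtain ⟨k, hk⟩ := MulAction.exists_smul_eq K (T₁.subtype h₁) (T₂.subtype h₂)
  rw [Sylow.smul_subtype] at hk
  have h3 : ((k : G) • T₁ : Sylow p G) = T₂ := Sylow.subtype_injective hk
  refine ⟨k, k.2, ?_⟩
  rw [← sylow_smul_eq_map_conj, h3]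

/-! ### Normalizers grow in `p`-groups -/

theorem exists_mem_normalizer_not_mem [Finite G] [Fact p.Prime] {R K : Subgroup G}
    (hR : IsPGroup p R) (hKR : K < R) :
    ∃ t ∈ R, t ∉ K ∧ t ∈ Subgroup.normalizer (K : Set G) := by
  have : Group.IsNilpotent R := hR.isNilpotent
  have hnc : NormalizerCondition R := Group.normalizerCondition_of_isNilpotent
  have h1 : K.subgroupOf R < ⊤ := by
    rw [lt_top_iff_ne_top, Ne, Subgroup.subgroupOf_eq_top]
    exact hKR.not_ge
  obtain ⟨t, htn, htK⟩ := SetLike.exists_of_lt (hnc _ h1)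
  refine ⟨t, t.2, fun h => htK (Subgroup.mem_subgroupOf.mpr h), ?_⟩
  rw [Subgroup.mem_normalizer_iff] at htn ⊢
  intro h
  constructor
  · intro hh
    have := (htn ⟨h, hKR.le hh⟩).mp (Subgroup.mem_subgroupOf.mpr hh)
    exact Subgroup.mem_subgroupOf.mp this
  · intro hh
    have hhR : h ∈ R := by
      have h2 : (t : G)⁻¹ * ((t : G) * h * (t : G)⁻¹) * (t : G) ∈ R :=
        R.mul_mem (R.mul_mem (R.inv_mem t.2) (hKR.le hh)) t.2
      have h3 : (t : G)⁻¹ * ((t : G) * h * (t : G)⁻¹) * (t : G) = h := by group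
      rwa [h3] at h2
    have := (htn ⟨h, hhR⟩).mpr (Subgroup.mem_subgroupOf.mpr hh)
    exact Subgroup.mem_subgroupOf.mp this

end Cfsg.Agent.Lib.Helper47_Conj
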