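import Mathlib
import Cfsg.Agent.Lib.Helper10_JCompEx
import Cfsg.Agent.Lib.Helper10_JCompZero
import Cfsg.Agent.Lib.Helper47_Conj

set_option autoImplicit false
set_option linter.unusedSectionVars false
set_option linter.unusedVariables false
set_option linter.style.haveILetI false

/-!
# Maximal straddling `2`-subgroups (helper10)

For `T ∈ 𝒯*(M)`: `N_G(J(T)) ≤ M`, and a `2`-local subgroup `L ⊄ M` with a Sylow `2`-subgroup `T₀`
containing `J(T)` belongs to `ℒ(T₀)`, with `J(T₀) = J(T)` and `T₀ ∈ 𝒯(M)`.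
-/

namespace Cfsg.Agent.Lib.Helper10_JCompMax

open Cfsg Subgroup
open Cfsg.Agent.S5306 (EA maxEA JJ)
open Cfsg.Agent.Lib.Helper10_JComp
open Cfsg.Agent.Lib.Helper10_JCompB
open Cfsg.Agent.Lib.Helper10_JCompF
open Cfsg.Agent.Lib.Helper10_JCompSub
open Cfsg.Agent.Lib.Helper10_JCompEx
open Cfsg.Agent.Lib.Helper10_JCompZero (exists_sylow_in)
open Cfsg.Agent.Lib.Helper47_SubAPI (pCoreOf_le isPGroup_pCoreOf le_normalizer_pCoreOf le_pCoreOf)

variable {G : Type*} [Group G] [Finite G]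

theorem maxElemAbelianOrder_eq {T A : Subgroup G} (hA : A ∈ maxEA 2 T) :
    maxElemAbelianOrder T = Nat.card A := by
  unfold maxElemAbelianOrder
  have hAmem : A.subgroupOf T ∈ maxElementaryAbelianSubgroups 2 ↥T := by
    refine ⟨?_, ?_⟩
    · rw [Cfsg.Agent.S5306.isEA_iff, ← Cfsg.Agent.S5306.EA_map_subtype,
        Subgroup.map_subgroupOf_eq_of_le hA.1]
      exact hA.2.1
    · intro B hB
      rw [← Cfsg.Agent.S5306.card_map_subtype T B,
        ← Cfsg.Agent.S5306.card_map_subtype T (A.subgroupOf T),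
        Subgroup.map_subgroupOf_eq_of_le hA.1]
      apply hA.2.2 _ (Subgroup.map_subtype_le B)
      exact (Cfsg.Agent.S5306.EA_map_subtype 2 T B).2 ((Cfsg.Agent.S5306.isEA_iff 2 B).1 hB)
  have hcard : Nat.card ↥(A.subgroupOf T) = Nat.card A :=
    Cfsg.Agent.Lib.Helper10_Thompson.card_subgroupOf_of_le hA.1
  have hset : (fun A : Subgroup ↥T => Nat.card ↥A) '' maxElementaryAbelianSubgroups 2 ↥T =
      {Nat.card A} := by
    ext n
    constructor
    · rintro ⟨A', hA', rfl⟩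
      rw [Set.mem_singleton_iff]
      have h1 := hA'.2 _ hAmem.1
      have h2 := hAmem.2 _ hA'.1
      rw [← hcard]
      exact le_antisymm h2 h1
    · intro hn
      rw [Set.mem_singleton_iff] at hn
      exact ⟨A.subgroupOf T, hAmem, by rw [hn]; exact hcard⟩
  rw [hset, csSup_singleton]

/-- a nontrivial `2`-group has a nontrivial Thompson subgroup -/
theorem thompson_ne_bot {T : Subgroup G} (hT2 : IsPGroup 2 T) (hT1 : T ≠ ⊥) :
    thompsonSubgroupOf 2 T ≠ ⊥ := by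
  haveI : Fact (Nat.Prime 2) := ⟨Nat.prime_two⟩
  intro hbot
  obtain ⟨A, hA⟩ := Cfsg.Agent.S5306.exists_maxEA 2 T
  have hAJ : A ≤ thompsonSubgroupOf 2 T := by
    rw [Cfsg.Agent.S5306.thompson_eq_JJ]; exact le_sSup hA
  rw [hbot, le_bot_iff] at hAJ
  obtain ⟨n, hn⟩ := (IsPGroup.iff_card (p := 2)).mp hT2
  have hn0 : n ≠ 0 := by
    intro h0
    rw [h0, pow_zero] at hn
    apply hT1
    exact (Subgroup.card_eq_one).mp hn
  have h2 : 2 ∣ Nat.card T := by rw [hn]; exact dvd_pow_self 2 hn0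
  obtain ⟨t, ht⟩ := exists_prime_orderOf_dvd_card' 2 h2
  have ht2 : (t : G) * t = 1 := by
    have := pow_orderOf_eq_one t
    rw [ht, pow_two] at this
    exact congrArg Subtype.val this
  have ht1 : (t : G) ≠ 1 := by
    intro h
    have : t = 1 := Subtype.ext h
    rw [this, orderOf_one] at ht
    omega
  have hEA : EA 2 (zpowers (t : G)) := by
    apply EA_of_sq
    intro w hw
    rcases mem_zpowers_invol ht2 hw with h | h
    · rw [h, one_mul]
    · rw [h]; exact ht2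
  have hle := hA.2.2 (zpowers (t : G)) (zpowers_le.mpr t.2) hEA
  rw [card_zpowers_invol ht2 ht1, hAJ, Subgroup.card_bot] at hle
  omega

theorem isPGroup_thompson {T : Subgroup G} (hT2 : IsPGroup 2 T) :
    IsPGroup 2 (thompsonSubgroupOf 2 T) := hT2.to_le (thompsonSubgroupOf_le 2 T)

theorem normalizer_le_normalizer_thompson (T : Subgroup G) :
    normalizer (T : Set G) ≤ normalizer ((thompsonSubgroupOf 2 T : Subgroup G) : Set G) := by
  rw [Cfsg.Agent.S5306.thompson_eq_JJ]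
  exact normalizer_le_normalizer_JJ T

section straddle

variable {M T : Subgroup G}

/-- **maximality**: a member `T₁` of `𝒯(M)` containing `J(T)`, `T ∈ 𝒯*(M)` -/
theorem max_of_J_le (hT : T ∈ maxStraddlingTwoSubgroups M) {T₁ : Subgroup G}
    (hT₁ : T₁ ∈ straddlingTwoSubgroups M) (hJ : thompsonSubgroupOf 2 T ≤ T₁) :
    thompsonSubgroupOf 2 T₁ = thompsonSubgroupOf 2 T ∧ Nat.card T₁ ≤ Nat.card T := by
  obtain ⟨A, hA⟩ := Cfsg.Agent.S5306.exists_maxEA 2 T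
  obtain ⟨A₁, hA₁⟩ := Cfsg.Agent.S5306.exists_maxEA 2 T₁
  have hJJ : thompsonSubgroupOf 2 T = JJ 2 T := Cfsg.Agent.S5306.thompson_eq_JJ 2 T
  have hJJ₁ : thompsonSubgroupOf 2 T₁ = JJ 2 T₁ := Cfsg.Agent.S5306.thompson_eq_JJ 2 T₁
  have hBT₁ : ∀ B ∈ maxEA 2 T, B ≤ T₁ := fun B hB =>
    (by rw [hJJ]; exact le_sSup hB : B ≤ thompsonSubgroupOf 2 T).trans hJ
  have hmax := hT.2 T₁ hT₁
  have ha : maxElemAbelianOrder T₁ = maxElemAbelianOrder T := by
    apply le_antisymm hmax.1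
    rw [maxElemAbelianOrder_eq hA, maxElemAbelianOrder_eq hA₁]
    exact hA₁.2.2 A (hBT₁ A hA) hA.2.1
  have hsub : maxEA 2 T ⊆ maxEA 2 T₁ := by
    intro B hB
    refine ⟨hBT₁ B hB, hB.2.1, ?_⟩
    intro C hC hCE
    have h1 := hA₁.2.2 C hC hCE
    rw [← maxElemAbelianOrder_eq hA₁, ha, maxElemAbelianOrder_eq hB] at h1
    exact h1
  have hle : thompsonSubgroupOf 2 T ≤ thompsonSubgroupOf 2 T₁ := by
    rw [hJJ, hJJ₁]
    exact sSup_le_sSup hsub
  obtain ⟨hc1, hc2⟩ := hmax.2 ha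
  have heq : thompsonSubgroupOf 2 T = thompsonSubgroupOf 2 T₁ :=
    Subgroup.eq_of_le_of_card_ge hle hc1
  exact ⟨heq.symm, hc2 (by rw [heq])⟩

/-- a member of `𝒯(M)` containing `T ∈ 𝒯*(M)` is `T` -/
theorem eq_of_le (hT : T ∈ maxStraddlingTwoSubgroups M) {T₁ : Subgroup G}
    (hT₁ : T₁ ∈ straddlingTwoSubgroups M) (hle : T ≤ T₁) : T₁ = T :=
  (Subgroup.eq_of_le_of_card_ge hle
    (max_of_J_le hT hT₁ ((thompsonSubgroupOf_le 2 T).trans hle)).2).symm

variable (S : Sylow 2 G)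
  (hMJ : normalizer (thompsonSubgroupOf 2 (S : Subgroup G) : Set G) ≤ M)
include hMJ

theorem sylow_le : (S : Subgroup G) ≤ M :=
  (le_normalizer.trans (normalizer_le_normalizer_thompson (S : Subgroup G))).trans hMJ

/-- **`N_G(J(T)) ≤ M` for `T ∈ 𝒯*(M)`.** -/
theorem normalizer_thompson_le (hT : T ∈ maxStraddlingTwoSubgroups M) :
    normalizer (thompsonSubgroupOf 2 T : Set G) ≤ M := by
  haveI : Fact (Nat.Prime 2) := ⟨Nat.prime_two⟩
  obtain ⟨hT2, hT1, hTM, -⟩ := hT.1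
  by_contra hNM
  obtain ⟨N, hNdef⟩ : ∃ N : Subgroup G, N = normalizer (thompsonSubgroupOf 2 T : Set G) :=
    ⟨_, rfl⟩
  rw [← hNdef] at hNM
  have hN2 : IsTwoLocal N :=
    ⟨thompsonSubgroupOf 2 T, isPGroup_thompson hT2, thompson_ne_bot hT2 hT1, hNdef⟩
  have hTN : T ≤ N := by
    rw [hNdef]
    exact le_normalizer.trans (normalizer_le_normalizer_thompson T)
  obtain ⟨S₁, hTS₁, hSyl₁, P₁, hP₁⟩ := exists_sylow_in hTM hT2
  -- `S₁ ∩ N = T`
  have hT₁mem : S₁ ⊓ N ∈ straddlingTwoSubgroups M := by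
    refine ⟨hSyl₁.2.1.to_le inf_le_left, ?_, inf_le_left.trans hSyl₁.1, N, hN2, inf_le_right, hNM⟩
    intro hbot
    apply hT1
    have : T ≤ S₁ ⊓ N := le_inf hTS₁ hTN
    rw [hbot, le_bot_iff] at this
    exact this
  have hT₁eq : S₁ ⊓ N = T := eq_of_le hT hT₁mem (le_inf hTS₁ hTN)
  -- hence `T = S₁`
  have hTS : T = S₁ := by
    by_contra hne
    have hlt : T < S₁ := lt_of_le_of_ne hTS₁ hne
    obtain ⟨t, htS, htT, htN⟩ :=
      Cfsg.Agent.Lib.Helper47_Conj.exists_mem_normalizer_not_mem hSyl₁.2.1 hlt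
    apply htT
    rw [← hT₁eq]
    refine mem_inf.mpr ⟨htS, ?_⟩
    rw [hNdef]
    exact normalizer_le_normalizer_thompson T htN
  -- `S₁` is an `M`-conjugate of `S`
  have hSM := sylow_le S hMJ
  obtain ⟨k, hkM, hk⟩ :=
    Cfsg.Agent.Lib.Helper16_SylowSub.sylowSub_exists_conj_le P₁ hP₁ S.2 hSM
  have hcomap : S₁.comap (MulAut.conj k).toMonoidHom = (S : Subgroup G) := by
    apply S.is_maximal'
    · exact hSyl₁.2.1.comap_of_injective _ (MulAut.conj k).injective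
    · intro s hs
      rw [mem_comap]
      exact hk ⟨s, hs, rfl⟩
  have hS₁eq : S₁ = (S : Subgroup G).map (MulAut.conj k).toMonoidHom := by
    rw [← hcomap]
    rw [Subgroup.map_comap_eq_self_of_surjective (MulAut.conj k).surjective]
  apply hNM
  rw [hNdef, hTS, hS₁eq, Cfsg.Agent.S5306.thompson_eq_JJ, Cfsg.Agent.S5306.JJ_map,
    ← Cfsg.Agent.S5306.thompson_eq_JJ]
  have h1 := Subgroup.map_equiv_normalizer_eq (thompsonSubgroupOf 2 (S : Subgroup G))
    (MulAut.conj k)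
  rw [← h1]
  have h2 : M.map (MulAut.conj k).toMonoidHom = M :=
    Cfsg.Agent.Lib.Helper10_JCompUniq.map_conj_eq (le_normalizer hkM)
  rw [← h2]
  exact Subgroup.map_mono hMJ

end straddle

section main

/-- `C_G(O_2(L)) ≤ O_2(L)` for a `2`-local subgroup `L` of a group of characteristic `2` type -/
theorem centralizer_pCoreOf_le (hL : IsCharacteristicTwoType G) {L : Subgroup G}
    (hL2 : IsTwoLocal L) : centralizer (pCoreOf 2 L : Set G) ≤ pCoreOf 2 L := by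
  obtain ⟨R, hR2, hR1, hLdef⟩ := hL2
  have hRL : R ≤ L := by rw [hLdef]; exact le_normalizer
  have hLR : L ≤ normalizer (R : Set G) := by rw [hLdef]
  have hRQ : R ≤ pCoreOf 2 L := le_pCoreOf hRL hLR hR2
  have hchar : IsOfCharacteristicTwo ↥L := by rw [hLdef]; exact hL.2 R hR2 hR1
  intro g hg
  have hgR : g ∈ centralizer (R : Set G) :=
    Subgroup.centralizer_le (SetLike.coe_subset_coe.mpr hRQ) hg
  have hgL : g ∈ L := by
    rw [hLdef]
    exact Subgroup.centralizer_le_normalizer _ hgR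
  have h1 : (⟨g, hgL⟩ : L) ∈ centralizer (pCore 2 ↥L : Set ↥L) := by
    rw [Subgroup.mem_centralizer_iff]
    intro q hq
    apply Subtype.ext
    rw [Subgroup.mem_centralizer_iff] at hg
    exact hg q ((mem_pCore_iff L q).mp hq)
  exact (mem_pCore_iff L ⟨g, hgL⟩).mp (hchar h1)

variable {M T : Subgroup G} (hL : IsCharacteristicTwoType G) (S : Sylow 2 G)
  (hMJ : normalizer (thompsonSubgroupOf 2 (S : Subgroup G) : Set G) ≤ M)
  (hT : T ∈ maxStraddlingTwoSubgroups M)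
include hL hMJ hT

theorem main_aux {L T₀ : Subgroup G} (hL2 : IsTwoLocal L) (hLM : ¬ L ≤ M)
    (hT₀ : IsSylowTwoIn T₀ L) (hJT₀ : thompsonSubgroupOf 2 T ≤ T₀) :
    thompsonSubgroupOf 2 T = thompsonSubgroupOf 2 T₀ ∧ T₀ ∈ straddlingTwoSubgroups M ∧
      L ∈ jOvergroups T₀ := by
  haveI : Fact (Nat.Prime 2) := ⟨Nat.prime_two⟩
  obtain ⟨hT2, hT1, hTM, -⟩ := hT.1
  obtain ⟨hT₀L, hT₀2, hT₀odd⟩ := hT₀
  have hJM : thompsonSubgroupOf 2 T ≤ M := (thompsonSubgroupOf_le 2 T).trans hTM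
  have hNJ := normalizer_thompson_le S hMJ hT
  have hT'mem : T₀ ⊓ M ∈ straddlingTwoSubgroups M := by
    refine ⟨hT₀2.to_le inf_le_left, ?_, inf_le_right, L, hL2, inf_le_left.trans hT₀L, hLM⟩
    intro hbot
    apply thompson_ne_bot hT2 hT1
    have : thompsonSubgroupOf 2 T ≤ T₀ ⊓ M := le_inf hJT₀ hJM
    rw [hbot, le_bot_iff] at this
    exact this
  obtain ⟨hJ', hcard'⟩ := max_of_J_le hT hT'mem (le_inf hJT₀ hJM)
  have hT₀M : T₀ ≤ M := by
    by_contra hcon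
    have hlt : T₀ ⊓ M < T₀ := by
      refine lt_of_le_of_ne inf_le_left ?_
      intro h
      apply hcon
      rw [← h]
      exact inf_le_right
    obtain ⟨t, htT₀, htT', htN⟩ :=
      Cfsg.Agent.Lib.Helper47_Conj.exists_mem_normalizer_not_mem hT₀2 hlt
    apply htT'
    refine mem_inf.mpr ⟨htT₀, hNJ ?_⟩
    rw [← hJ']
    exact normalizer_le_normalizer_thompson _ htN
  have hT'eq : T₀ ⊓ M = T₀ := inf_eq_left.mpr hT₀M
  rw [hT'eq] at hT'mem hJ'
  refine ⟨hJ'.symm, hT'mem, ⟨hT₀L, hT₀2, hT₀odd⟩, ?_, centralizer_pCoreOf_le hL hL2⟩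
  intro hle
  apply hLM
  have hQT₀ : pCoreOf 2 L ≤ T₀ :=
    le_of_odd_relIndex hT₀2 (isPGroup_pCoreOf L) hT₀L (pCoreOf_le L) hT₀odd
      (hT₀L.trans (le_normalizer_pCoreOf L))
  have hJQ : thompsonSubgroupOf 2 (pCoreOf 2 L) = thompsonSubgroupOf 2 T₀ :=
    thompson_eq_of_le hle hQT₀
  calc L ≤ normalizer (pCoreOf 2 L : Set G) := le_normalizer_pCoreOf L
    _ ≤ normalizer (thompsonSubgroupOf 2 (pCoreOf 2 L) : Set G) :=
        normalizer_le_normalizer_thompson _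
    _ = normalizer (thompsonSubgroupOf 2 T : Set G) := by rw [hJQ, hJ']
    _ ≤ M := hNJ

variable (hN : ∀ N : Subgroup G, IsTwoLocal N → Group.IsSolvable ↥N)
  (hZ : ∀ S : Sylow 2 G, centralizer (omegaCenterOf (S : Subgroup G) : Set G) ≤
    normalizer ((S : Subgroup G) : Set G))
include hN hZ

/-- **the statement of S2948** -/
theorem main {L T₀ : Subgroup G} (hL2 : IsTwoLocal L) (hLM : ¬ L ≤ M)
    (hT₀ : IsSylowTwoIn T₀ L) (hJT₀ : thompsonSubgroupOf 2 T ≤ T₀) :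
    thompsonSubgroupOf 2 T = thompsonSubgroupOf 2 T₀ ∧ T₀ ∈ straddlingTwoSubgroups M ∧
      L ∈ jOvergroups T₀ ∧
      (T ≤ L → L ∈ jOvergroups T ∧ ∃ K : Subgroup G, IsJComponent T K ∧ K ≤ L) := by
  obtain ⟨h1, h2, h3⟩ := main_aux hL S hMJ hT hL2 hLM hT₀ hJT₀
  refine ⟨h1, h2, h3, fun hTL => ?_⟩
  obtain ⟨hT2, hT1, hTM, -⟩ := hT.1
  obtain ⟨T₁, hTT₁, hSyl₁, -⟩ := exists_sylow_in hTL hT2
  obtain ⟨-, h2', -⟩ :=
    main_aux hL S hMJ hT hL2 hLM hSyl₁ ((thompsonSubgroupOf_le 2 T).trans hTT₁)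
  have heq : T₁ = T := eq_of_le hT h2' hTT₁
  rw [heq] at hSyl₁
  obtain ⟨-, -, h3'⟩ := main_aux hL S hMJ hT hL2 hLM hSyl₁ (thompsonSubgroupOf_le 2 T)
  refine ⟨h3', ?_⟩
  obtain ⟨V, C, F₁, M', ctx⟩ := exists_ctx hN hZ hT2 hT1 h3'
  exact exists_jComponent_of_ctx ctx h3'.2.1

end main

end Cfsg.Agent.Lib.Helper10_JCompMax
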