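import Cfsg.Agent.Lib.Helper10_JCompS3
import Cfsg.Agent.Lib.Helper10_FFCoprime
import Mathlib

set_option autoImplicit false
set_option linter.unusedSectionVars false
set_option linter.unusedVariables false
set_option linter.style.haveILetI false

/-!
# An `S₃`-section outside a given subgroup (helper10)

In the situation of `Helper10_JCompS3.exists_S3_elt`, with a "Frattini subgroup" `P` (normalizing the
family `𝒜` and supplementing every normal subgroup containing the members of `𝒜`): if a proper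
subgroup `M₀` contains `P`, `C_X(V)` and the members of `𝒜`, then the `S₃`-data `(a, d)` can be
chosen with `d ∉ M₀`.
-/

universe u

namespace Cfsg.Agent.Lib.Helper10_JCompOut

open Cfsg
open scoped commutatorElement Pointwise
open Cfsg.Agent.Lib.Helper10_JCompS3

section perm3

theorem perm3_list : ∀ σ τ x : Equiv.Perm (Fin 3), σ ≠ 1 → σ * σ = 1 → τ ≠ 1 → τ ^ 3 = 1 →
    x = 1 ∨ x = τ ∨ x = τ⁻¹ ∨ x = σ ∨ x = σ * τ ∨ x = σ * τ⁻¹ := by decide

/-- the six elements of a subgroup isomorphic to `S₃` -/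
theorem three_list {Y : Type*} [Group Y] {E : Subgroup Y} (e : E ≃* Equiv.Perm (Fin 3))
    {a d : Y} (haE : a ∈ E) (ha1 : a ≠ 1) (ha2 : a * a = 1) (hdE : d ∈ E) (hd1 : d ≠ 1)
    (hd3 : d ^ 3 = 1) :
    ∀ x ∈ E, x = 1 ∨ x = d ∨ x = d⁻¹ ∨ x = a ∨ x = a * d ∨ x = a * d⁻¹ := by
  have hσ1 : e ⟨a, haE⟩ ≠ 1 := by
    intro h
    apply ha1
    have := e.injective (h.trans (map_one e).symm)
    exact congrArg Subtype.val this
  have hσ2 : e ⟨a, haE⟩ * e ⟨a, haE⟩ = 1 := by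
    rw [← map_mul]
    have : (⟨a, haE⟩ : E) * ⟨a, haE⟩ = 1 := Subtype.ext ha2
    rw [this, map_one]
  have hτ1 : e ⟨d, hdE⟩ ≠ 1 := by
    intro h
    apply hd1
    have := e.injective (h.trans (map_one e).symm)
    exact congrArg Subtype.val this
  have hτ3 : e ⟨d, hdE⟩ ^ 3 = 1 := by
    rw [← map_pow]
    have : (⟨d, hdE⟩ : E) ^ 3 = 1 := Subtype.ext (by simpa using hd3)
    rw [this, map_one]
  intro x hx
  rcases perm3_list (e ⟨a, haE⟩) (e ⟨d, hdE⟩) (e ⟨x, hx⟩) hσ1 hσ2 hτ1 hτ3 with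
    h | h | h | h | h | h
  · left
    have := e.injective (h.trans (map_one e).symm)
    exact congrArg Subtype.val this
  · right; left
    exact congrArg Subtype.val (e.injective h)
  · right; right; left
    rw [← map_inv] at h
    have := congrArg Subtype.val (e.injective h)
    simpa using this
  · right; right; right; left
    exact congrArg Subtype.val (e.injective h)
  · right; right; right; right; left
    rw [← map_mul] at h
    have := congrArg Subtype.val (e.injective h)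
    simpa using this
  · right; right; right; right; right
    rw [← map_inv, ← map_mul] at h
    have := congrArg Subtype.val (e.injective h)
    simpa using this

end perm3

section xform

open Cfsg.Agent.Lib.Helper10_FFTransport Cfsg.Agent.Lib.Helper10_OffTv
  Cfsg.Agent.Lib.Helper62_Structure Cfsg.Agent.Lib.Helper10_FFCoprime

variable {X : Type u} [Group X] [Finite X] [Group.IsSolvable X]

theorem exists_S3_outside (V : Subgroup X) [hVn : V.Normal] (hV : IsElementaryAbelian 2 V)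
    (hO : pCore 2 (X ⧸ Subgroup.centralizer (V : Set X)) = ⊥)
    (𝒜 : Set (Subgroup X))
    (h𝒜c : ∀ A ∈ 𝒜, ∀ x ∈ A, ∀ y ∈ A, x * y = y * x)
    (h𝒜2 : ∀ A ∈ 𝒜, IsPGroup 2 A)
    (h𝒜off : ∀ A ∈ 𝒜, Nat.card V * Nat.card ↥(A ⊓ Subgroup.centralizer (V : Set X)) ≤
        Nat.card A * Nat.card ↥(V ⊓ Subgroup.centralizer (A : Set X)))
    (h𝒜sq : ∀ A ∈ 𝒜, ∀ x ∈ A, x * x = 1)
    (P M₀ : Subgroup X)
    (hP𝒜 : ∀ n ∈ P, ∀ A ∈ 𝒜, ∃ A' ∈ 𝒜, ∀ a ∈ A, n * a * n⁻¹ ∈ A')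
    (hFr : ∀ Y : Subgroup X, Y.Normal → (∀ A ∈ 𝒜, A ≤ Y) → ∀ g : X, ∃ y ∈ Y, y⁻¹ * g ∈ P)
    (hCM : Subgroup.centralizer (V : Set X) ≤ M₀) (hPM : P ≤ M₀) (h𝒜M : ∀ A ∈ 𝒜, A ≤ M₀)
    (hM₀ : ∃ g : X, g ∉ M₀) :
    ∃ A₀ ∈ 𝒜, ∃ a ∈ A₀, ∃ d : X, ∃ z ∈ V, z ≠ 1 ∧
      (∀ v ∈ V, v * a * v⁻¹ * a⁻¹ = 1 ∨ v * a * v⁻¹ * a⁻¹ = z) ∧
      a ∉ Subgroup.centralizer (V : Set X) ∧ d ∉ Subgroup.centralizer (V : Set X) ∧
      d ^ 3 ∈ Subgroup.centralizer (V : Set X) ∧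
      a * d * a⁻¹ = d⁻¹ ∧ Odd (orderOf d) ∧
      (∀ B ∈ 𝒜, ∀ b ∈ B, b * d * b⁻¹ * d⁻¹ ∈ Subgroup.centralizer (V : Set X) ∨
        b * d * b⁻¹ * d ∈ Subgroup.centralizer (V : Set X)) ∧ d ∉ M₀ := by
  classical
  haveI : Fact (Nat.Prime 2) := ⟨Nat.prime_two⟩
  let t : FFT V (Equiv.Perm V) := permFFT V
  have hker : t.ι.ker = Subgroup.centralizer (V : Set X) := t.ker_ι
  set Γ : Subgroup (Equiv.Perm V) := (⊤ : Subgroup X).map t.ι with hΓ
  set S : Subgroup (Equiv.Perm V) :=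
    ⨆ A : {A : Subgroup (Equiv.Perm V) // A ≤ Γ ∧ Cfsg.IsBestOffenderOn 2 t.j.range A},
      (A : Subgroup (Equiv.Perm V)) with hS
  have hΓV : Γ ≤ Subgroup.normalizer ((t.j.range : Subgroup _) : Set _) := t.le_normalizer ⊤
  have hΓf : Γ ⊓ Subgroup.centralizer ((t.j.range : Subgroup _) : Set _) = ⊥ := t.faithful ⊤
  have hSΓ : S ≤ Γ := iSup_le fun A => A.2.1
  have hΓS : Γ ≤ Subgroup.normalizer (S : Set _) := le_normalizer_iSup_best hΓV
  have hιΓ : ∀ x : X, t.ι x ∈ Γ := fun x => ⟨x, Subgroup.mem_top x, rfl⟩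
  have comap_normal : ∀ K : Subgroup (Equiv.Perm V),
      Γ ≤ Subgroup.normalizer (K : Set _) → (K.comap t.ι).Normal := by
    intro K hK
    constructor
    intro n hn x
    show t.ι (x * n * x⁻¹) ∈ K
    rw [map_mul, map_mul, map_inv]
    exact (Subgroup.mem_normalizer_iff.mp (hK (hιΓ x)) _).mp hn
  set N := S.comap t.ι with hN
  have hNn : N.Normal := comap_normal S hΓS
  have hHS : N.map t.ι = S := by
    apply Subgroup.map_comap_eq_self
    rw [MonoidHom.range_eq_map]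
    exact hSΓ
  have hsep : Cfsg.IsPSolvable 2 X := Cfsg.Agent.Lib.Lead_PSolvable.isPSolvable_of_isSolvable 2
  have sett : Setting 2 t.j.range (N.map t.ι) Γ :=
    { amb := ⟨t.elemAb hV, t.le_normalizer N, t.faithful N, t.hS1 hsep hO N⟩
      hΓV := hΓV
      hΓf := hΓf
      hH := hHS }
  have amb := sett.amb
  have hS3 := sett.hS3
  have hΓH : Γ ≤ Subgroup.normalizer ((N.map t.ι : Subgroup _) : Set _) := by
    rw [hHS]; exact hΓS
  -- the image of a member of `𝒜` is generated by transvections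
  have hgen : ∀ A ∈ 𝒜, A.map t.ι ≤
      Subgroup.closure {a | a ∈ A.map t.ι ∧ IsTv 2 t.j.range (N.map t.ι) a} := by
    intro A hA
    have hBΓ : A.map t.ι ≤ Γ := Subgroup.map_mono le_top
    have hBc : ∀ x ∈ A.map t.ι, ∀ y ∈ A.map t.ι, x * y = y * x := by
      rintro _ ⟨a, ha, rfl⟩ _ ⟨b, hb, rfl⟩
      rw [← map_mul, ← map_mul, h𝒜c A hA a ha b hb]
    have hBp : IsPGroup 2 ↥(A.map t.ι) := (h𝒜2 A hA).map t.ι
    have hoff : Nat.card ↥t.j.range ≤ Nat.card ↥(A.map t.ι) *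
        Nat.card ↥(t.j.range ⊓ Subgroup.centralizer ((A.map t.ι : Subgroup _) : Set _)) := by
      have e1 := t.card_map A
      have e2 := t.card_fix A
      have e3 := t.card_range
      rw [e3, e2]
      have hpos : 0 < Nat.card ↥(A ⊓ Subgroup.centralizer (V : Set X)) := Nat.card_pos
      refine Nat.le_of_mul_le_mul_right ?_ hpos
      calc Nat.card V * Nat.card ↥(A ⊓ Subgroup.centralizer (V : Set X))
          ≤ Nat.card A * Nat.card ↥(V ⊓ Subgroup.centralizer (A : Set X)) := h𝒜off A hA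
        _ = Nat.card ↥(A.map t.ι) * Nat.card ↥(V ⊓ Subgroup.centralizer (A : Set X)) *
            Nat.card ↥(A ⊓ Subgroup.centralizer (V : Set X)) := by rw [← e1]; ring
    exact sett.gen_by_tv hBΓ hBc hBp hoff
  have hleH : ∀ A ∈ 𝒜, A.map t.ι ≤ N.map t.ι := by
    intro A hA
    refine (hgen A hA).trans ?_
    rw [Subgroup.closure_le]
    rintro x ⟨-, hx⟩
    exact hx.mem
  have hC : ∀ x : X, x ∈ Subgroup.centralizer (V : Set X) ↔ t.ι x = 1 := by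
    intro x
    rw [← hker, MonoidHom.mem_ker]
  have h2k : ∀ k : ℕ, 2 ^ k % 3 = 1 ∨ 2 ^ k % 3 = 2 := by
    intro k
    induction k with
    | zero => left; rfl
    | succ n ih =>
      rw [pow_succ]
      generalize 2 ^ n = t at ih ⊢
      omega
  -- the `S₃`-data attached to a transvection element of a member of `𝒜`
  have hdata : ∀ A₀ ∈ 𝒜, ∀ a ∈ A₀, IsTv 2 t.j.range (N.map t.ι) (t.ι a) →
      ∃ d : X, t.ι d ∈ E 2 (N.map t.ι) (t.ι a) ∧ t.ι d ≠ 1 ∧ t.ι d ^ 3 = 1 ∧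
      ∃ z ∈ V, z ≠ 1 ∧
      (∀ v ∈ V, v * a * v⁻¹ * a⁻¹ = 1 ∨ v * a * v⁻¹ * a⁻¹ = z) ∧
      a ∉ Subgroup.centralizer (V : Set X) ∧ d ∉ Subgroup.centralizer (V : Set X) ∧
      d ^ 3 ∈ Subgroup.centralizer (V : Set X) ∧
      a * d * a⁻¹ = d⁻¹ ∧ Odd (orderOf d) ∧
      (∀ B ∈ 𝒜, ∀ b ∈ B, b * d * b⁻¹ * d⁻¹ ∈ Subgroup.centralizer (V : Set X) ∨
        b * d * b⁻¹ * d ∈ Subgroup.centralizer (V : Set X)) := by
    intro A₀ hA₀ a haA haTv
    have hH1 : N.map t.ι ≠ ⊥ := by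
      intro h0
      have := haTv.mem
      rw [h0, Subgroup.mem_bot] at this
      exact haTv.ne_one this
    obtain ⟨e₁⟩ := (E_facts amb haTv).2.2.2.1
    obtain ⟨e₂⟩ := Cfsg.Agent.S0250.result (F := ZMod 2) (by simp)
    have hnormE := (structure_one amb hS3 hH1 haTv).2.2.2.2.1
    have ha2 : t.ι a * t.ι a = 1 := by
      have := haTv.pow
      rwa [pow_two] at this
    obtain ⟨d', hd'E, hd'1, hd'3, hd'a, hd'u⟩ :=
      exists_three (e₁.trans e₂) (self_mem_E (t.ι a)) haTv.ne_one ha2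
    have hd'H : d' ∈ N.map t.ι := E_le haTv.mem hd'E
    obtain ⟨d₀, -, hd₀⟩ := hd'H
    have haa : a * a = 1 := h𝒜sq A₀ hA₀ a haA
    have hainv : a⁻¹ = a := inv_eq_of_mul_eq_one_left haa
    obtain ⟨y, hy⟩ : ∃ y : X, y = a * (d₀ * a * d₀⁻¹) := ⟨_, rfl⟩
    have hay : a * y * a⁻¹ = y⁻¹ := by
      calc a * y * a⁻¹ = (a * a) * (d₀ * a * d₀⁻¹) * a⁻¹ := by rw [hy]; group
        _ = (d₀ * a * d₀⁻¹) * a⁻¹ := by rw [haa, one_mul]
        _ = (d₀ * a⁻¹ * d₀⁻¹) * a⁻¹ := by rw [hainv]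
        _ = y⁻¹ := by rw [hy]; group
    have hd'ddd : d' * d' * d' = 1 := by rw [← hd'3, pow_succ, pow_two]
    have hιy : t.ι y = d' := by
      have h1 : t.ι a * d' * t.ι a = d'⁻¹ := by
        have h2 : (t.ι a)⁻¹ = t.ι a := inv_eq_of_mul_eq_one_left ha2
        rw [← hd'a, h2]
      rw [hy, map_mul, map_mul, map_mul, map_inv, hd₀]
      calc t.ι a * (d' * t.ι a * d'⁻¹) = (t.ι a * d' * t.ι a) * d'⁻¹ := by group
        _ = d'⁻¹ * d'⁻¹ := by rw [h1]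
        _ = d'⁻¹ * d'⁻¹ * (d' * d' * d') := by rw [hd'ddd, mul_one]
        _ = d' := by group
    have hy0 : orderOf y ≠ 0 := (orderOf_pos y).ne'
    obtain ⟨k, m, hmodd, hkm⟩ := Nat.exists_eq_two_pow_mul_odd hy0
    obtain ⟨d, hd_def⟩ : ∃ d : X, d = y ^ 2 ^ k := ⟨_, rfl⟩
    have hdodd : Odd (orderOf d) := by
      have h1 : d ^ m = 1 := by
        rw [hd_def, ← pow_mul, ← hkm, pow_orderOf_eq_one]
      exact Odd.of_dvd_nat hmodd (orderOf_dvd_of_pow_eq_one h1)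
    have hadd : a * d * a⁻¹ = d⁻¹ := by
      rw [hd_def, ← conj_pow, hay, inv_pow]
    have hd : t.ι d = d' ∨ t.ι d = d'⁻¹ := by
      have h1 : t.ι d = d' ^ 2 ^ k := by rw [hd_def, map_pow, hιy]
      rw [h1, pow_eq_pow_mod (2 ^ k) hd'3]
      rcases h2k k with h | h
      · left; rw [h, pow_one]
      · right
        rw [h, pow_two]
        calc d' * d' = d' * d' * d' * d'⁻¹ := by group
          _ = d'⁻¹ := by rw [hd'ddd, one_mul]
    have hcomm : ∀ v : V, ⁅t.j v, t.ι a⁆ =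
        t.j ⟨(v : X) * a * (v : X)⁻¹ * a⁻¹, by
          have h1 : a * (v : X)⁻¹ * a⁻¹ ∈ V := hVn.conj_mem _ (V.inv_mem v.2) a
          have h2 : (v : X) * a * (v : X)⁻¹ * a⁻¹ = (v : X) * (a * (v : X)⁻¹ * a⁻¹) := by group
          rw [h2]
          exact V.mul_mem v.2 h1⟩ := by
      intro v
      have h1 := t.conj' a v⁻¹
      rw [commutatorElement_def]
      have h2 : t.j v * t.ι a * (t.j v)⁻¹ * (t.ι a)⁻¹ =
          t.j v * (t.ι a * t.j v⁻¹ * (t.ι a)⁻¹) := by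
        rw [map_inv]; group
      rw [h2, h1, ← map_mul]
      congr 1
      apply Subtype.ext
      simp only [Subgroup.coe_mul, Subgroup.coe_inv]
      group
    have hmemR : ∀ v : V, ⁅t.j v, t.ι a⁆ ∈ ⁅t.j.range, Subgroup.zpowers (t.ι a)⁆ :=
      fun v => Subgroup.commutator_mem_commutator ⟨v, rfl⟩ (Subgroup.mem_zpowers _)
    have hcard := haTv.card
    have htwo : ∀ r₁ ∈ ⁅t.j.range, Subgroup.zpowers (t.ι a)⁆,
        ∀ r₂ ∈ ⁅t.j.range, Subgroup.zpowers (t.ι a)⁆, r₁ ≠ 1 → r₂ ≠ 1 → r₁ = r₂ := by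
      intro r₁ h₁ r₂ h₂ hr₁ hr₂
      obtain ⟨y, -, hy⟩ := (Nat.card_eq_two_iff'
        (1 : ↥⁅t.j.range, Subgroup.zpowers (t.ι a)⁆)).mp hcard
      have e1 := hy ⟨r₁, h₁⟩ (fun h => hr₁ (congrArg Subtype.val h))
      have e2 := hy ⟨r₂, h₂⟩ (fun h => hr₂ (congrArg Subtype.val h))
      exact congrArg Subtype.val (e1.trans e2.symm)
    have haC : a ∉ Subgroup.centralizer (V : Set X) := by
      rw [hC]; exact haTv.ne_one
    obtain ⟨w, hw, hwa⟩ : ∃ w ∈ V, w * a ≠ a * w := by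
      by_contra hcon
      push Not at hcon
      apply haC
      rw [Subgroup.mem_centralizer_iff]
      exact hcon
    have hw1 : ⁅t.j ⟨w, hw⟩, t.ι a⁆ ≠ 1 := by
      rw [hcomm ⟨w, hw⟩]
      intro h
      have h3 := t.j_inj (h.trans (map_one t.j).symm)
      have h4 : w * a * w⁻¹ * a⁻¹ = 1 := congrArg Subtype.val h3
      apply hwa
      calc w * a = (w * a * w⁻¹ * a⁻¹) * a * w := by group
        _ = a * w := by rw [h4, one_mul]
    have hzV : w * a * w⁻¹ * a⁻¹ ∈ V := by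
      have h1 : a * w⁻¹ * a⁻¹ ∈ V := hVn.conj_mem _ (V.inv_mem hw) a
      have h2 : w * a * w⁻¹ * a⁻¹ = w * (a * w⁻¹ * a⁻¹) := by group
      rw [h2]
      exact V.mul_mem hw h1
    have hdE : t.ι d ∈ E 2 (N.map t.ι) (t.ι a) := by
      rcases hd with hd | hd
      · rw [hd]; exact hd'E
      · rw [hd]; exact Subgroup.inv_mem _ hd'E
    have hd1 : t.ι d ≠ 1 := by
      rcases hd with hd | hd
      · rw [hd]; exact hd'1
      · rw [hd]; exact inv_ne_one.mpr hd'1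
    have hd3 : t.ι d ^ 3 = 1 := by
      rcases hd with hd | hd
      · rw [hd]; exact hd'3
      · rw [hd, inv_pow, hd'3, inv_one]
    refine ⟨d, hdE, hd1, hd3, w * a * w⁻¹ * a⁻¹, hzV, ?_, ?_, haC, ?_, ?_, hadd, hdodd, ?_⟩
    · intro h
      apply hwa
      calc w * a = (w * a * w⁻¹ * a⁻¹) * a * w := by group
        _ = a * w := by rw [h, one_mul]
    · intro v hv
      by_cases hv1 : ⁅t.j ⟨v, hv⟩, t.ι a⁆ = 1
      · left
        rw [hcomm ⟨v, hv⟩] at hv1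
        have h3 := t.j_inj (hv1.trans (map_one t.j).symm)
        exact congrArg Subtype.val h3
      · right
        have := htwo _ (hmemR ⟨v, hv⟩) _ (hmemR ⟨w, hw⟩) hv1 hw1
        rw [hcomm ⟨v, hv⟩, hcomm ⟨w, hw⟩] at this
        have h3 := t.j_inj this
        exact congrArg Subtype.val h3
    · rw [hC]; exact hd1
    · rw [hC, map_pow]; exact hd3
    · intro B hB b hb
      have hbH : t.ι b ∈ N.map t.ι := hleH B hB ⟨b, hb, rfl⟩
      have hbE := hnormE hbH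
      have h1 : t.ι b * d' * (t.ι b)⁻¹ ∈ E 2 (N.map t.ι) (t.ι a) :=
        (Subgroup.mem_normalizer_iff.mp hbE d').mp hd'E
      have h2 : (t.ι b * d' * (t.ι b)⁻¹) ^ 3 = 1 := by
        rw [conj_pow, hd'3]; group
      have h3 : t.ι b * d'⁻¹ * (t.ι b)⁻¹ = (t.ι b * d' * (t.ι b)⁻¹)⁻¹ := by group
      rcases hd'u _ h1 h2 with h | h | h
      · exfalso
        apply hd'1
        calc d' = (t.ι b)⁻¹ * (t.ι b * d' * (t.ι b)⁻¹) * t.ι b := by group
          _ = 1 := by rw [h]; group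
      · left
        rw [hC, map_mul, map_mul, map_mul, map_inv, map_inv]
        rcases hd with hd | hd
        · rw [hd, h, mul_inv_cancel]
        · rw [hd, h3, h, mul_inv_cancel]
      · right
        rw [hC, map_mul, map_mul, map_mul, map_inv]
        rcases hd with hd | hd
        · rw [hd, h, inv_mul_cancel]
        · rw [hd, h3, h, inv_inv, mul_inv_cancel]
  -- now argue by contradiction
  by_contra hcon
  push Not at hcon
  have hdM : ∀ A₀ ∈ 𝒜, ∀ a ∈ A₀, IsTv 2 t.j.range (N.map t.ι) (t.ι a) →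
      E 2 (N.map t.ι) (t.ι a) ≤ M₀.map t.ι := by
    intro A₀ hA₀ a haA haTv
    obtain ⟨d, hdE, hd1, hd3, z, hzV, hz1, hav, haC, hdC, hd3C, had, hdodd, hB⟩ :=
      hdata A₀ hA₀ a haA haTv
    have hdM₀ : d ∈ M₀ :=
      hcon A₀ hA₀ a haA d z hzV hz1 hav haC hdC hd3C had hdodd hB
    have haM₀ : a ∈ M₀ := h𝒜M A₀ hA₀ haA
    obtain ⟨e₁⟩ := (E_facts amb haTv).2.2.2.1
    obtain ⟨e₂⟩ := Cfsg.Agent.S0250.result (F := ZMod 2) (by simp)
    have ha2 : t.ι a * t.ι a = 1 := by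
      have := haTv.pow
      rwa [pow_two] at this
    have hlist := three_list (e₁.trans e₂) (self_mem_E (t.ι a)) haTv.ne_one ha2 hdE hd1 hd3
    intro x hx
    rcases hlist x hx with h | h | h | h | h | h
    · rw [h]; exact Subgroup.one_mem _
    · rw [h]; exact ⟨d, hdM₀, rfl⟩
    · rw [h]; exact Subgroup.inv_mem _ ⟨d, hdM₀, rfl⟩
    · rw [h]; exact ⟨a, haM₀, rfl⟩
    · rw [h]; exact Subgroup.mul_mem _ ⟨a, haM₀, rfl⟩ ⟨d, hdM₀, rfl⟩
    · rw [h]; exact Subgroup.mul_mem _ ⟨a, haM₀, rfl⟩ (Subgroup.inv_mem _ ⟨d, hdM₀, rfl⟩)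
  -- the subgroup `R` generated by the `E`'s
  set R : Subgroup (Equiv.Perm V) :=
    ⨆ ā : {ā : Equiv.Perm V // ∃ A ∈ 𝒜, ∃ a ∈ A, t.ι a = ā ∧ IsTv 2 t.j.range (N.map t.ι) ā},
      E 2 (N.map t.ι) (ā : Equiv.Perm V) with hR
  have hE_le_R : ∀ A ∈ 𝒜, ∀ a ∈ A, IsTv 2 t.j.range (N.map t.ι) (t.ι a) →
      E 2 (N.map t.ι) (t.ι a) ≤ R := by
    intro A hA a ha hTv
    exact le_iSup_of_le
      (ι := {ā : Equiv.Perm V // ∃ A ∈ 𝒜, ∃ a ∈ A, t.ι a = ā ∧ IsTv 2 t.j.range (N.map t.ι) ā})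
      (f := fun ā => E 2 (N.map t.ι) (ā : Equiv.Perm V)) ⟨t.ι a, A, hA, a, ha, rfl, hTv⟩ le_rfl
  have hRM : R ≤ M₀.map t.ι := by
    refine iSup_le ?_
    rintro ⟨ā, A, hA, a, ha, rfl, hTv⟩
    exact hdM A hA a ha hTv
  have h𝒜R : ∀ A ∈ 𝒜, A.map t.ι ≤ R := by
    intro A hA
    refine (hgen A hA).trans ?_
    rw [Subgroup.closure_le]
    rintro x ⟨⟨a, ha, rfl⟩, hx⟩
    exact hE_le_R A hA a ha hx (self_mem_E (t.ι a))
  -- `R` is normalized by `H` and by the image of `P`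
  have hHR : N.map t.ι ≤ Subgroup.normalizer (R : Set _) := by
    apply le_normalizer_of_map_le
    intro g hg
    rw [hR, Subgroup.map_iSup]
    refine iSup_le ?_
    rintro ⟨ā, A, hA, a, ha, rfl, hTv⟩
    have hH1 : N.map t.ι ≠ ⊥ := by
      intro h0
      have := hTv.mem
      rw [h0, Subgroup.mem_bot] at this
      exact hTv.ne_one this
    have hnormE := (structure_one amb hS3 hH1 hTv).2.2.2.2.1
    have h1 : (E 2 (N.map t.ι) (t.ι a)).map (cj g) = E 2 (N.map t.ι) (t.ι a) :=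
      Subgroup.mem_normalizer_iff_map_conj_eq.mp (hnormE hg)
    show (E 2 (N.map t.ι) (t.ι a)).map (cj g) ≤ _
    rw [h1]
    exact hE_le_R A hA a ha hTv
  have hPR : P.map t.ι ≤ Subgroup.normalizer (R : Set _) := by
    apply le_normalizer_of_map_le
    rintro _ ⟨n, hn, rfl⟩
    rw [hR, Subgroup.map_iSup]
    refine iSup_le ?_
    rintro ⟨ā, A, hA, a, ha, rfl, hTv⟩
    obtain ⟨A', hA', hA'a⟩ := hP𝒜 n hn A hA
    have hnΓ : t.ι n ∈ Γ := hιΓ n
    have hTv' : IsTv 2 t.j.range (N.map t.ι) (t.ι (n * a * n⁻¹)) := by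
      rw [map_mul, map_mul, map_inv]
      exact isTv_conj' hTv (hΓV hnΓ) (hΓH hnΓ)
    have h1 : (E 2 (N.map t.ι) (t.ι a)).map (cj (t.ι n)) =
        E 2 (N.map t.ι) (t.ι (n * a * n⁻¹)) := by
      rw [map_mul, map_mul, map_inv]
      exact (E_conj' (t.ι a) (hΓH hnΓ)).symm
    show (E 2 (N.map t.ι) (t.ι a)).map (cj (t.ι n)) ≤ _
    rw [h1]
    exact hE_le_R A' hA' _ (hA'a a ha) hTv'
  -- Frattini with `N`
  have h𝒜N : ∀ A ∈ 𝒜, A ≤ N := by
    intro A hA a ha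
    rw [hN, Subgroup.mem_comap, ← hHS]
    exact hleH A hA ⟨a, ha, rfl⟩
  have hΓR : Γ ≤ Subgroup.normalizer (R : Set _) := by
    rintro _ ⟨g, -, rfl⟩
    obtain ⟨y, hy, hyg⟩ := hFr N hNn h𝒜N g
    have e : t.ι g = t.ι y * t.ι (y⁻¹ * g) := by rw [← map_mul]; congr 1; group
    rw [e]
    exact Subgroup.mul_mem _ (hHR ⟨y, hy, rfl⟩) (hPR ⟨_, hyg, rfl⟩)
  have hYn : (R.comap t.ι).Normal := comap_normal R hΓR
  have h𝒜Y : ∀ A ∈ 𝒜, A ≤ R.comap t.ι := by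
    intro A hA a ha
    rw [Subgroup.mem_comap]
    exact h𝒜R A hA ⟨a, ha, rfl⟩
  have hYM : R.comap t.ι ≤ M₀ := by
    intro y hy
    rw [Subgroup.mem_comap] at hy
    obtain ⟨m, hm, hmy⟩ := hRM hy
    have h1 : y * m⁻¹ ∈ Subgroup.centralizer (V : Set X) := by
      rw [hC, map_mul, map_inv, hmy, mul_inv_cancel]
    have e : y = (y * m⁻¹) * m := by group
    rw [e]
    exact M₀.mul_mem (hCM h1) hm
  obtain ⟨g, hg⟩ := hM₀
  apply hg
  obtain ⟨y, hy, hyg⟩ := hFr _ hYn h𝒜Y g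
  have e : g = y * (y⁻¹ * g) := by group
  rw [e]
  exact M₀.mul_mem (hYM hy) (hPM hyg)

end xform

section sub

open Subgroup
open Cfsg.Agent.S5306 (EA maxEA JJ)
open Cfsg.Agent.Lib.Helper10_JComp
open Cfsg.Agent.Lib.Helper10_JCompB
open Cfsg.Agent.Lib.Helper10_JCompF
open Cfsg.Agent.Lib.Helper10_JCompSub

variable {G : Type*} [Group G] [Finite G]

/-- subgroup form of `exists_S3_outside` -/
theorem exists_S3_outside_sub {L V : Subgroup G} (hsolv : Group.IsSolvable ↥L)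
    (hVL : V ≤ L) (hLV : L ≤ normalizer (V : Set G)) (hV2 : ∀ v ∈ V, v * v = 1)
    (hQV : pCoreOf 2 L ≤ centralizer (V : Set G))
    (h1 : ∀ c ∈ L ⊓ centralizer (V : Set G), ∀ t ∈ L, ∀ k : ℕ, t ^ 2 ^ k = 1 →
      c * t * c⁻¹ * t⁻¹ ∈ pCoreOf 2 L)
    (h2 : ∀ c ∈ L ⊓ centralizer (V : Set G), ∀ k : ℕ, c ^ 2 ^ k = 1 → c ∈ pCoreOf 2 L)
    (𝒜 : Set (Subgroup G)) (h𝒜L : ∀ A ∈ 𝒜, A ≤ L)
    (h𝒜c : ∀ A ∈ 𝒜, ∀ x ∈ A, ∀ y ∈ A, x * y = y * x)
    (h𝒜2 : ∀ A ∈ 𝒜, IsPGroup 2 A)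
    (h𝒜off : ∀ A ∈ 𝒜, Nat.card V * Nat.card ↥(A ⊓ centralizer (V : Set G)) ≤
        Nat.card A * Nat.card ↥(V ⊓ centralizer (A : Set G)))
    (h𝒜sq : ∀ A ∈ 𝒜, ∀ x ∈ A, x * x = 1)
    (P M₀ : Subgroup G)
    (hP𝒜 : ∀ n ∈ P, n ∈ L → ∀ A ∈ 𝒜, ∃ A' ∈ 𝒜, ∀ a ∈ A, n * a * n⁻¹ ∈ A')
    (hFr : ∀ Y : Subgroup G, Y ≤ L → L ≤ normalizer (Y : Set G) → (∀ A ∈ 𝒜, A ≤ Y) →
      ∀ g ∈ L, ∃ y ∈ Y, y⁻¹ * g ∈ P)
    (hCM : L ⊓ centralizer (V : Set G) ≤ M₀) (hPM : L ⊓ P ≤ M₀) (h𝒜M : ∀ A ∈ 𝒜, A ≤ M₀)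
    (hM₀ : ¬ L ≤ M₀) :
    ∃ A₀ ∈ 𝒜, ∃ a ∈ A₀, ∃ d ∈ L, ∃ z ∈ V, z ≠ 1 ∧
      (∀ v ∈ V, v * a * v⁻¹ * a⁻¹ = 1 ∨ v * a * v⁻¹ * a⁻¹ = z) ∧
      a ∉ centralizer (V : Set G) ∧ d ∉ centralizer (V : Set G) ∧
      d ^ 3 ∈ centralizer (V : Set G) ∧
      a * d * a⁻¹ = d⁻¹ ∧ Odd (orderOf d) ∧
      (∀ B ∈ 𝒜, ∀ b ∈ B, b * d * b⁻¹ * d⁻¹ ∈ centralizer (V : Set G) ∨
        b * d * b⁻¹ * d ∈ centralizer (V : Set G)) ∧ d ∉ M₀ := by
  haveI := hsolv
  have hVn : (V.subgroupOf L).Normal := Subgroup.normal_subgroupOf_of_le_normalizer hLV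
  have hVEA : IsElementaryAbelian 2 (V.subgroupOf L) := by
    rw [Cfsg.Agent.S5306.isEA_iff]
    refine ⟨fun a ha b hb => ?_, fun a ha => ?_⟩
    · apply Subtype.ext
      exact comm_of_sq hV2 _ (Subgroup.mem_subgroupOf.mp ha) _ (Subgroup.mem_subgroupOf.mp hb)
    · apply Subtype.ext
      rw [Subgroup.coe_pow, pow_two]
      exact hV2 _ (Subgroup.mem_subgroupOf.mp ha)
  have hO : pCore 2 (↥L ⧸ centralizer ((V.subgroupOf L : Subgroup L) : Set L)) = ⊥ := by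
    apply Cfsg.Agent.Lib.Helper10_JCompFF.pCore_quot_eq_bot
    · intro x hx
      rw [mem_centralizer_subgroupOf_iff hVL]
      exact hQV ((mem_pCore_iff L x).mp hx)
    · rintro c hc t ⟨k, hk⟩
      rw [mem_pCore_iff]
      rw [mem_centralizer_subgroupOf_iff hVL] at hc
      have hk' : (t : G) ^ 2 ^ k = 1 := by
        have := congrArg Subtype.val hk
        simpa using this
      have := h1 c (Subgroup.mem_inf.mpr ⟨c.2, hc⟩) t t.2 k hk'
      simpa using this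
    · rintro c hc ⟨k, hk⟩
      rw [mem_pCore_iff]
      rw [mem_centralizer_subgroupOf_iff hVL] at hc
      have hk' : (c : G) ^ 2 ^ k = 1 := by
        have := congrArg Subtype.val hk
        simpa using this
      exact h2 c (Subgroup.mem_inf.mpr ⟨c.2, hc⟩) k hk'
  have e1 : Nat.card ↥(V.subgroupOf L) = Nat.card V :=
    Cfsg.Agent.Lib.Helper10_Thompson.card_subgroupOf_of_le hVL
  have e2 : ∀ A ∈ 𝒜, Nat.card ↥(A.subgroupOf L) = Nat.card A := fun A hA =>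
    Cfsg.Agent.Lib.Helper10_Thompson.card_subgroupOf_of_le (h𝒜L A hA)
  have e3 : ∀ A ∈ 𝒜, Nat.card ↥(A.subgroupOf L ⊓
      centralizer ((V.subgroupOf L : Subgroup L) : Set L)) =
      Nat.card ↥(A ⊓ centralizer (V : Set G)) := by
    intro A hA
    rw [← subgroupOf_inf_centralizer hVL]
    exact Cfsg.Agent.Lib.Helper10_Thompson.card_subgroupOf_of_le (inf_le_left.trans (h𝒜L A hA))
  have e4 : ∀ A ∈ 𝒜, Nat.card ↥(V.subgroupOf L ⊓
      centralizer ((A.subgroupOf L : Subgroup L) : Set L)) =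
      Nat.card ↥(V ⊓ centralizer (A : Set G)) := by
    intro A hA
    rw [← subgroupOf_inf_centralizer (h𝒜L A hA)]
    exact Cfsg.Agent.Lib.Helper10_Thompson.card_subgroupOf_of_le (inf_le_left.trans hVL)
  obtain ⟨A₀', ⟨A₀, hA₀, rfl⟩, a, haA, d, z, hzV, hz1, hav, haC, hdC, hd3, had, hdodd, hB, hdM⟩ :=
    exists_S3_outside (V.subgroupOf L) hVEA hO ((fun A : Subgroup G => A.subgroupOf L) '' 𝒜)
    (by
      rintro _ ⟨A, hA, rfl⟩ x hx y hy
      apply Subtype.ext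
      exact h𝒜c A hA _ (Subgroup.mem_subgroupOf.mp hx) _ (Subgroup.mem_subgroupOf.mp hy))
    (by
      rintro _ ⟨A, hA, rfl⟩
      exact (h𝒜2 A hA).comap_subtype)
    (by
      rintro _ ⟨A, hA, rfl⟩
      rw [e1, e2 A hA, e3 A hA, e4 A hA]; exact h𝒜off A hA)
    (by
      rintro _ ⟨A, hA, rfl⟩ x hx
      apply Subtype.ext
      exact h𝒜sq A hA _ (Subgroup.mem_subgroupOf.mp hx))
    (P.subgroupOf L) (M₀.subgroupOf L)
    (by
      rintro n hn _ ⟨A, hA, rfl⟩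
      obtain ⟨A', hA', hA'a⟩ := hP𝒜 n (Subgroup.mem_subgroupOf.mp hn) n.2 A hA
      refine ⟨A'.subgroupOf L, ⟨A', hA', rfl⟩, ?_⟩
      intro a ha
      rw [Subgroup.mem_subgroupOf]
      have := hA'a a (Subgroup.mem_subgroupOf.mp ha)
      simpa using this)
    (by
      intro Y hYn h𝒜Y g
      have hYL : Y.map L.subtype ≤ L := Subgroup.map_subtype_le Y
      have hLY : L ≤ normalizer ((Y.map L.subtype : Subgroup G) : Set G) :=
        (Cfsg.Agent.Lib.Helper47_SubAPI.normal_iff_le_normalizer_map L Y).mp hYn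
      obtain ⟨y₀, ⟨y, hy, rfl⟩, hyg⟩ := hFr (Y.map L.subtype) hYL hLY
        (by
          intro A hA a ha
          exact ⟨⟨a, h𝒜L A hA ha⟩, h𝒜Y _ ⟨A, hA, rfl⟩ (Subgroup.mem_subgroupOf.mpr ha), rfl⟩)
        g g.2
      refine ⟨y, hy, ?_⟩
      rw [Subgroup.mem_subgroupOf]
      simpa using hyg)
    (by
      intro x hx
      rw [mem_centralizer_subgroupOf_iff hVL] at hx
      exact Subgroup.mem_subgroupOf.mpr (hCM (Subgroup.mem_inf.mpr ⟨x.2, hx⟩)))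
    (by
      intro x hx
      exact Subgroup.mem_subgroupOf.mpr
        (hPM (Subgroup.mem_inf.mpr ⟨x.2, Subgroup.mem_subgroupOf.mp hx⟩)))
    (by
      rintro _ ⟨A, hA, rfl⟩ x hx
      exact Subgroup.mem_subgroupOf.mpr (h𝒜M A hA (Subgroup.mem_subgroupOf.mp hx)))
    (by
      by_contra hcon
      push Not at hcon
      apply hM₀
      intro g hg
      exact Subgroup.mem_subgroupOf.mp (hcon ⟨g, hg⟩))
  refine ⟨A₀, hA₀, a, Subgroup.mem_subgroupOf.mp haA, d, d.2, z, Subgroup.mem_subgroupOf.mp hzV,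
    ?_, ?_, ?_, ?_, ?_, ?_, ?_, ?_, ?_⟩
  · intro h
    apply hz1
    exact Subtype.ext h
  · intro v hv
    rcases hav ⟨v, hVL hv⟩ (Subgroup.mem_subgroupOf.mpr hv) with h | h
    · left
      have := congrArg Subtype.val h
      simpa using this
    · right
      have := congrArg Subtype.val h
      simpa using this
  · intro h
    apply haC
    rw [mem_centralizer_subgroupOf_iff hVL]
    exact h
  · intro h
    apply hdC
    rw [mem_centralizer_subgroupOf_iff hVL]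
    exact h
  · have := hd3
    rw [mem_centralizer_subgroupOf_iff hVL] at this
    simpa using this
  · have := congrArg Subtype.val had
    simpa using this
  · rwa [Subgroup.orderOf_coe] at *
  · intro B hB' b hb
    rcases hB _ ⟨B, hB', rfl⟩ ⟨b, h𝒜L B hB' hb⟩ (Subgroup.mem_subgroupOf.mpr hb) with h | h
    · left
      rw [mem_centralizer_subgroupOf_iff hVL] at h
      simpa using h
    · right
      rw [mem_centralizer_subgroupOf_iff hVL] at h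
      simpa using h
  · intro h
    apply hdM
    exact Subgroup.mem_subgroupOf.mpr h

end sub

end Cfsg.Agent.Lib.Helper10_JCompOut
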