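import Mathlib
import Cfsg.Agent.Lib.Helper10_JCompOut
import Cfsg.Agent.Lib.Helper10_JCompMax

set_option autoImplicit false
set_option linter.unusedSectionVars false
set_option linter.unusedVariables false
set_option linter.style.haveILetI false

/-!
# `J(T)`-components outside `M` (helper10)

A member `L` of `ℒ(T)` not contained in `M`, with `C_L(V)`, `N_L(J(T))` and `T` inside `M`, contains
a `J(T)`-component not contained in `M`; consequence: `𝒦₀(T)` has a member outside `M` for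
`T ∈ 𝒯*(M)`.
-/

namespace Cfsg.Agent.Lib.Helper10_JCompFin

open Cfsg Subgroup
open Cfsg.Agent.S5306 (EA maxEA JJ)
open Cfsg.Agent.Lib.Helper10_JComp
open Cfsg.Agent.Lib.Helper10_JCompB
open Cfsg.Agent.Lib.Helper10_JCompF
open Cfsg.Agent.Lib.Helper10_JCompSub
open Cfsg.Agent.Lib.Helper10_JCompEx
open Cfsg.Agent.Lib.Helper10_JCompMax
open Cfsg.Agent.Lib.Helper10_JCompZero (exists_sylow_in)
open Cfsg.Agent.Lib.Helper47_SubAPI (pCoreOf_le isPGroup_pCoreOf le_normalizer_pCoreOf le_pCoreOf)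

variable {G : Type*} [Group G] [Finite G]

/-- a `2`-subgroup containing a `2`-subgroup of odd index equals it -/
theorem le_of_odd_relIndex_of_le {S R X : Subgroup G} (hR : IsPGroup 2 R) (hSR : S ≤ R)
    (hRX : R ≤ X) (hodd : Odd (S.relIndex X)) : R ≤ S := by
  haveI : Fact (Nat.Prime 2) := ⟨Nat.prime_two⟩
  have h2 := Subgroup.relIndex_mul_relIndex S R X hSR hRX
  have h3 : Odd (S.relIndex R) := by
    rw [← h2] at hodd
    exact (Nat.odd_mul.mp hodd).1
  obtain ⟨n, hn⟩ := (IsPGroup.iff_card).mp hR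
  have h4 : S.relIndex R ∣ 2 ^ n := by
    rw [← hn]
    exact ⟨Nat.card S, Cfsg.Agent.Lib.Helper10_Thompson.card_eq_relIndex_mul_card hSR⟩
  obtain ⟨m, _, hm⟩ := (Nat.dvd_prime_pow Nat.prime_two).mp h4
  have h5 : m = 0 := by
    by_contra hm0
    rw [hm] at h3
    have : Even (2 ^ m) := (Nat.even_pow).mpr ⟨even_two, hm0⟩
    exact (Nat.not_odd_iff_even.mpr this) h3
  rw [h5, pow_zero] at hm
  exact Subgroup.relIndex_eq_one.mp hm

/-- the intersection of a Sylow `2`-subgroup with a normal subgroup has odd index in it -/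
theorem odd_relIndex_inf {T L Y : Subgroup G} (hTL : T ≤ L) (hodd : Odd (T.relIndex L))
    (hYL : Y ≤ L) (hLY : L ≤ normalizer (Y : Set G)) : Odd ((Y ⊓ T).relIndex Y) := by
  have hTY : T ≤ normalizer (Y : Set G) := hTL.trans hLY
  have h1 : Nat.card (T ⊔ Y : Subgroup G) = Y.relIndex (T ⊔ Y) * Nat.card Y :=
    Cfsg.Agent.Lib.Helper10_Thompson.card_eq_relIndex_mul_card le_sup_right
  have h2 : Y.relIndex (T ⊔ Y) = Y.relIndex T := relIndex_sup_of_le_normalizer Y T hTY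
  have h3 : (Y ⊓ T).relIndex T = Y.relIndex T := Subgroup.inf_relIndex_right Y T
  have h4 : Nat.card T = (Y ⊓ T).relIndex T * Nat.card (Y ⊓ T : Subgroup G) :=
    Cfsg.Agent.Lib.Helper10_Thompson.card_eq_relIndex_mul_card inf_le_right
  have h5 : Nat.card Y = (Y ⊓ T).relIndex Y * Nat.card (Y ⊓ T : Subgroup G) :=
    Cfsg.Agent.Lib.Helper10_Thompson.card_eq_relIndex_mul_card inf_le_left
  have h6 : Nat.card (T ⊔ Y : Subgroup G) = T.relIndex (T ⊔ Y) * Nat.card T :=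
    Cfsg.Agent.Lib.Helper10_Thompson.card_eq_relIndex_mul_card le_sup_left
  have hc : 0 < Nat.card (Y ⊓ T : Subgroup G) := Nat.card_pos
  have hT0 : 0 < Nat.card T := Nat.card_pos
  have hr : 0 < (Y ⊓ T).relIndex T := by
    rcases Nat.eq_zero_or_pos ((Y ⊓ T).relIndex T) with h | h
    · rw [h, zero_mul] at h4; omega
    · exact h
  have heq : T.relIndex (T ⊔ Y) = (Y ⊓ T).relIndex Y := by
    have e : T.relIndex (T ⊔ Y) * ((Y ⊓ T).relIndex T * Nat.card (Y ⊓ T : Subgroup G)) =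
        (Y ⊓ T).relIndex Y * ((Y ⊓ T).relIndex T * Nat.card (Y ⊓ T : Subgroup G)) := by
      calc T.relIndex (T ⊔ Y) * ((Y ⊓ T).relIndex T * Nat.card (Y ⊓ T : Subgroup G))
          = Nat.card (T ⊔ Y : Subgroup G) := by rw [← h4, ← h6]
        _ = (Y ⊓ T).relIndex T * ((Y ⊓ T).relIndex Y * Nat.card (Y ⊓ T : Subgroup G)) := by
            rw [h1, h2, ← h3, ← h5]
        _ = _ := by ring
    exact Nat.eq_of_mul_eq_mul_right (Nat.mul_pos hr hc) e
  have h7 := Subgroup.relIndex_mul_relIndex T (T ⊔ Y) L le_sup_left (sup_le hTL hYL)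
  rw [← heq]
  rw [← h7] at hodd
  exact (Nat.odd_mul.mp hodd).1

/-- **Frattini argument** with the Thompson subgroup -/
theorem frattini_J {T L Y : Subgroup G} (hTL : T ≤ L) (hT2 : IsPGroup 2 T)
    (hodd : Odd (T.relIndex L)) (hYL : Y ≤ L) (hLY : L ≤ normalizer (Y : Set G))
    (hJY : thompsonSubgroupOf 2 T ≤ Y) {g : G} (hg : g ∈ L) :
    ∃ y ∈ Y, y⁻¹ * g ∈ normalizer (thompsonSubgroupOf 2 T : Set G) := by
  haveI : Fact (Nat.Prime 2) := ⟨Nat.prime_two⟩
  have hI2 : IsPGroup 2 (Y ⊓ T : Subgroup G) := hT2.to_le inf_le_right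
  have hIodd := odd_relIndex_inf hTL hodd hYL hLY
  have hmax : ∀ Q : Subgroup G, IsPGroup 2 Q → Y ⊓ T ≤ Q → Q ≤ Y → Q = Y ⊓ T :=
    fun Q hQ h1 h2 => le_antisymm (le_of_odd_relIndex_of_le hQ h1 h2 hIodd) h1
  obtain ⟨S_Y, hS_Y⟩ := Cfsg.Agent.Lib.Helper16_SylowSub.sylowSub_of_max inf_le_left hI2 hmax
  have hgY : g ∈ normalizer (Y : Set G) := hLY hg
  have hQY : (Y ⊓ T).map (MulAut.conj g).toMonoidHom ≤ Y := by
    rintro _ ⟨x, hx, rfl⟩
    exact conj_mem_of_mem_normalizer hgY hx.1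
  obtain ⟨k, hkY, hk⟩ := Cfsg.Agent.Lib.Helper16_SylowSub.sylowSub_exists_conj_eq S_Y hS_Y
    (hI2.map _) hQY (Subgroup.card_map_of_injective (MulAut.conj g).injective)
  have hkg : k * g ∈ normalizer ((Y ⊓ T : Subgroup G) : Set G) := by
    rw [Subgroup.mem_normalizer_iff_map_conj_eq]
    rw [Subgroup.map_map] at hk
    have e : (MulAut.conj k).toMonoidHom.comp (MulAut.conj g).toMonoidHom =
        (MulAut.conj (k * g)).toMonoidHom := by
      ext x
      simp [MulAut.conj_apply, mul_assoc]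
    rw [e] at hk
    exact hk
  have hJeq : thompsonSubgroupOf 2 (Y ⊓ T) = thompsonSubgroupOf 2 T :=
    thompson_eq_of_le (le_inf hJY (thompsonSubgroupOf_le 2 T)) inf_le_right
  refine ⟨k⁻¹, Y.inv_mem hkY, ?_⟩
  rw [inv_inv, ← hJeq]
  exact normalizer_le_normalizer_thompson _ hkg

/-- the normalizer of `J(T)` permutes the largest elementary abelian subgroups of `T` -/
theorem map_conj_mem_maxEA {T A : Subgroup G} (hA : A ∈ maxEA 2 T) {n : G}
    (hn : n ∈ normalizer (thompsonSubgroupOf 2 T : Set G)) :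
    A.map (MulAut.conj n).toMonoidHom ∈ maxEA 2 T := by
  have hJJ : thompsonSubgroupOf 2 T = JJ 2 T := Cfsg.Agent.S5306.thompson_eq_JJ 2 T
  have hAJ : A ≤ thompsonSubgroupOf 2 T := by rw [hJJ]; exact le_sSup hA
  refine ⟨?_, (Cfsg.Agent.S5306.EA_map_equiv 2 (MulAut.conj n) A).2 hA.2.1, ?_⟩
  · rintro _ ⟨a, ha, rfl⟩
    exact thompsonSubgroupOf_le 2 T (conj_mem_of_mem_normalizer hn (hAJ ha))
  · intro C hC hCE
    rw [Cfsg.Agent.S5306.card_map_equiv]
    exact hA.2.2 C hC hCE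

/-- a member of `ℒ(T)` not inside `M` contains a `J(T)`-component not inside `M` -/
theorem ctx_exists_outside {T L V C F₁ M' : Subgroup G}
    (ctx : Ctx T L (thompsonSubgroupOf 2 T) (pCoreOf 2 L) V C F₁ M') {M : Subgroup G}
    (hCM : C ≤ M) (hNM : L ⊓ normalizer (thompsonSubgroupOf 2 T : Set G) ≤ M) (hTM : T ≤ M)
    (hLM : ¬ L ≤ M) :
    ∃ K : Subgroup G, IsJComponent T K ∧ K ≤ L ∧ ¬ K ≤ M := by
  classical
  obtain ⟨Q, hQdef⟩ : ∃ Q : Subgroup G, Q = pCoreOf 2 L := ⟨_, rfl⟩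
  obtain ⟨J, hJ⟩ : ∃ J : Subgroup G, J = thompsonSubgroupOf 2 T := ⟨_, rfl⟩
  rw [← hQdef, ← hJ] at ctx
  rw [← hJ] at hNM
  have hJJ : J = JJ 2 T := by rw [hJ, Cfsg.Agent.S5306.thompson_eq_JJ]
  have hVL : V ≤ L := ctx.hVQ.trans ctx.hQL
  have hAL : ∀ A ∈ maxEA 2 T, A ≤ L := fun A hA => hA.1.trans ctx.hTL
  have memC : ∀ x ∈ L, x ∈ centralizer (V : Set G) → x ∈ C := by
    intro x hx hxV
    rw [ctx.hCdef]
    exact Subgroup.mem_inf.mpr ⟨hx, hxV⟩
  obtain ⟨A₀, hA₀, a, haA, d, hdL, z, hzV, hz1, hav, haC, hdC, hd3, had, hdodd, hB, hdM⟩ :=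
    Cfsg.Agent.Lib.Helper10_JCompOut.exists_S3_outside_sub ctx.hsolv hVL ctx.hLV ctx.hV2
    (by rw [← hQdef]; exact ctx.hQV)
    (by rw [← hQdef, ← ctx.hCdef]; exact ctx.h1)
    (by rw [← hQdef, ← ctx.hCdef]; exact ctx.h2)
    (maxEA 2 T) hAL (fun A hA => hA.2.1.1) (fun A hA => ctx.hT2.to_le hA.1)
    (fun A hA => offender_of_maxEA (ctx.hVQ.trans ctx.hQT) ctx.hV2 hA)
    (fun A hA x hx => by have := hA.2.1.2 x hx; rwa [pow_two] at this)
    (normalizer (J : Set G)) M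
    (by
      intro n hn _ A hA
      refine ⟨A.map (MulAut.conj n).toMonoidHom, map_conj_mem_maxEA hA (by rw [← hJ]; exact hn), ?_⟩
      intro a ha
      exact ⟨a, ha, rfl⟩)
    (by
      intro Y hYL hLY h𝒜Y g hg
      have hJY : thompsonSubgroupOf 2 T ≤ Y := by
        rw [← hJ, hJJ]
        show sSup (maxEA 2 T) ≤ Y
        exact sSup_le h𝒜Y
      have := frattini_J ctx.hTL ctx.hT2 ctx.hTodd hYL hLY hJY hg
      rwa [← hJ] at this)
    (by rw [← ctx.hCdef]; exact hCM)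
    hNM (fun A hA => hA.1.trans hTM) hLM
  have haL : a ∈ L := hAL A₀ hA₀ haA
  obtain ⟨hK, hKL⟩ := jComponent_of_data ctx hQdef hJ hA₀ haA hdL hzV hz1 hav
    (fun h => haC (ctx.hCV h)) (fun h => hdC (ctx.hCV h)) (memC _ (L.pow_mem hdL 3) hd3) had hdodd
    (by
      intro B hB' b hb
      have hbL : b ∈ L := hAL B hB' hb
      rcases hB B hB' b hb with h | h
      · left
        exact memC _ (L.mul_mem (L.mul_mem (L.mul_mem hbL hdL) (L.inv_mem hbL)) (L.inv_mem hdL)) h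
      · right
        exact memC _ (L.mul_mem (L.mul_mem (L.mul_mem hbL hdL) (L.inv_mem hbL)) hdL) h)
  exact ⟨_, hK, hKL, fun hle => hdM (hle (self_mem_jcl J d))⟩

section final

variable {M T : Subgroup G} (hL : IsCharacteristicTwoType G)
  (hN : ∀ N : Subgroup G, IsTwoLocal N → Group.IsSolvable ↥N)
  (hZ : ∀ S : Sylow 2 G, centralizer (omegaCenterOf (S : Subgroup G) : Set G) ≤
    normalizer ((S : Subgroup G) : Set G))
  (S : Sylow 2 G)
  (hMJ : normalizer (thompsonSubgroupOf 2 (S : Subgroup G) : Set G) ≤ M)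
  (hT : T ∈ maxStraddlingTwoSubgroups M)
include hL hN hZ hMJ hT

/-- **the statement of S2949** -/
theorem outside_nonempty : (jComponentsOutside M T).Nonempty := by
  haveI : Fact (Nat.Prime 2) := ⟨Nat.prime_two⟩
  obtain ⟨hT2, hT1, hTM, L₀, hL₀2, hTL₀, hL₀M⟩ := hT.1
  obtain ⟨T₁, hTT₁, hSyl₁, -⟩ := exists_sylow_in hTL₀ hT2
  have hmain := Cfsg.Agent.Lib.Helper10_JCompMax.main hL S hMJ hT hN hZ hL₀2 hL₀M hSyl₁
    ((thompsonSubgroupOf_le 2 T).trans hTT₁)
  obtain ⟨hL₀T, -⟩ := hmain.2.2.2 hTL₀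
  obtain ⟨V, C, F₁, M', ctx⟩ := exists_ctx hN hZ hT2 hT1 hL₀T
  have hNJ := normalizer_thompson_le S hMJ hT
  have hCM : C ≤ M := by
    have hCT : C ≤ normalizer (T : Set G) := by
      apply le_normalizer_of_conj_mem
      intro c hc t ht
      obtain ⟨k, hk⟩ := hT2 ⟨t, ht⟩
      have hk' : t ^ 2 ^ k = 1 := by
        have := congrArg Subtype.val hk
        simpa using this
      have h1 := ctx.h1 c hc t (hTL₀ ht) k hk'
      have e : c * t * c⁻¹ = (c * t * c⁻¹ * t⁻¹) * t := by group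
      rw [e]
      exact T.mul_mem (ctx.hQT h1) ht
    exact (hCT.trans (normalizer_le_normalizer_thompson T)).trans hNJ
  obtain ⟨K, hK, hKL, hKM⟩ := ctx_exists_outside ctx hCM (inf_le_right.trans hNJ) hTM hL₀M
  refine ⟨K, ⟨hK, ?_⟩, hKM, ?_⟩
  · intro S' hJS' hS'
    have hW4 := hK.2.2.2.2.1
    have hW2g : IsPGroup 2 (wOf K) := IsPGroup.of_card (n := 2) (by rw [hW4]; norm_num)
    have hW1 : wOf K ≠ ⊥ := by
      intro hbot
      rw [hbot, Subgroup.card_bot] at hW4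
      omega
    have hL'2 : IsTwoLocal (normalizer (wOf K : Set G)) := ⟨wOf K, hW2g, hW1, rfl⟩
    have hKN : K ≤ normalizer (wOf K : Set G) :=
      le_normalizer.trans (normalizer_le_normalizer_wOf K)
    have hL'M : ¬ normalizer (wOf K : Set G) ≤ M := fun h => hKM (hKN.trans h)
    exact (main_aux hL S hMJ hT hL'2 hL'M hS' hJS').1.symm
  · have hQ1 : pCoreOf 2 L₀ ≠ ⊥ := by
      intro hbot
      apply hT1
      rw [eq_bot_iff]
      intro x hx
      have : x ∈ centralizer ((pCoreOf 2 L₀ : Subgroup G) : Set G) := by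
        rw [Subgroup.mem_centralizer_iff]
        intro q hq
        rw [hbot] at hq
        have hq1 : q = 1 := Subgroup.mem_bot.mp hq
        rw [hq1, one_mul, mul_one]
      have := ctx.hCQ this
      rwa [hbot] at this
    have hKT : K ⊔ T ≤ L₀ := sup_le hKL hTL₀
    have hle : pCoreOf 2 L₀ ≤ pCoreOf 2 (K ⊔ T) :=
      le_pCoreOf (ctx.hQT.trans le_sup_right) (hKT.trans ctx.hLQ) ctx.hQ2
    intro hbot
    apply hQ1
    rw [hbot, le_bot_iff] at hle
    exact hle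

end final

end Cfsg.Agent.Lib.Helper10_JCompFin
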