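import Cfsg.Agent.Lib.Helper10_JCompTv
import Cfsg.Agent.Lib.Helper10_JCompUniq
import Cfsg.Agent.Lib.Helper47_Conj
import Mathlib

set_option autoImplicit false
set_option linter.unusedSectionVars false
set_option linter.unusedVariables false
set_option linter.style.haveILetI false

/-!
# Offenders are generated by transvection-like elements (helper10)

In a solvable group `X` acting on an elementary abelian normal `2`-subgroup `V` with
`O_2(X / C_X(V)) = 1`, an abelian offender `A` on `V` is generated by elements `x` such that the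
commutators `[v, x]`, `v ∈ V`, take at most one nontrivial value.  Such elements of a member `L` of
`ℒ(T)` normalize the module `W` of every component-like subgroup of `L`.
-/

universe u

namespace Cfsg.Agent.Lib.Helper10_JCompGen

open Cfsg
open scoped commutatorElement Pointwise

/-- `x` acts on `V` like a transvection: the commutators `[v, x]` take at most one nontrivial
value -/
def TvLike {G : Type*} [Group G] (V : Subgroup G) (x : G) : Prop :=
  ∀ v₁ ∈ V, ∀ v₂ ∈ V, v₁ * x * v₁⁻¹ * x⁻¹ ≠ 1 → v₂ * x * v₂⁻¹ * x⁻¹ ≠ 1 →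
    v₁ * x * v₁⁻¹ * x⁻¹ = v₂ * x * v₂⁻¹ * x⁻¹

section xform

open Cfsg.Agent.Lib.Helper10_FFTransport Cfsg.Agent.Lib.Helper10_OffTv
  Cfsg.Agent.Lib.Helper62_Structure

variable {X : Type u} [Group X] [Finite X] [Group.IsSolvable X]

theorem gen_tv_elt (V : Subgroup X) [hVn : V.Normal] (hV : IsElementaryAbelian 2 V)
    (hO : pCore 2 (X ⧸ Subgroup.centralizer (V : Set X)) = ⊥)
    (A : Subgroup X)
    (hAc : ∀ x ∈ A, ∀ y ∈ A, x * y = y * x)
    (hA2 : IsPGroup 2 A)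
    (hAoff : Nat.card V * Nat.card ↥(A ⊓ Subgroup.centralizer (V : Set X)) ≤
        Nat.card A * Nat.card ↥(V ⊓ Subgroup.centralizer (A : Set X))) :
    A ≤ Subgroup.closure {x : X | TvLike V x} := by
  classical
  haveI : Fact (Nat.Prime 2) := ⟨Nat.prime_two⟩
  let t : FFT V (Equiv.Perm V) := permFFT V
  have hker : t.ι.ker = Subgroup.centralizer (V : Set X) := t.ker_ι
  set Γ : Subgroup (Equiv.Perm V) := (⊤ : Subgroup X).map t.ι with hΓ
  set S : Subgroup (Equiv.Perm V) :=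
    ⨆ A : {A : Subgroup (Equiv.Perm V) // A ≤ Γ ∧ Cfsg.IsBestOffenderOn 2 t.j.range A},
      (A : Subgroup (Equiv.Perm V)) with hS
  have hΓV : Γ ≤ Subgroup.normalizer ((t.j.range : Subgroup _) : Set _) := t.le_normalizer ⊤
  have hΓf : Γ ⊓ Subgroup.centralizer ((t.j.range : Subgroup _) : Set _) = ⊥ := t.faithful ⊤
  have hSΓ : S ≤ Γ := iSup_le fun A => A.2.1
  have hΓS : Γ ≤ Subgroup.normalizer (S : Set _) := le_normalizer_iSup_best hΓV
  have hιΓ : ∀ x : X, t.ι x ∈ Γ := fun x => ⟨x, Subgroup.mem_top x, rfl⟩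
  have comap_normal : ∀ K : Subgroup (Equiv.Perm V),
      Γ ≤ Subgroup.normalizer (K : Set _) → (K.comap t.ι).Normal := by
    intro K hK
    constructor
    intro n hn x
    show t.ι (x * n * x⁻¹) ∈ K
    rw [map_mul, map_mul, map_inv]
    exact (Subgroup.mem_normalizer_iff.mp (hK (hιΓ x)) _).mp hn
  set N := S.comap t.ι with hN
  have hNn : N.Normal := comap_normal S hΓS
  have hHS : N.map t.ι = S := by
    apply Subgroup.map_comap_eq_self
    rw [MonoidHom.range_eq_map]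
    exact hSΓ
  have hsep : Cfsg.IsPSolvable 2 X := Cfsg.Agent.Lib.Lead_PSolvable.isPSolvable_of_isSolvable 2
  have sett : Setting 2 t.j.range (N.map t.ι) Γ :=
    { amb := ⟨t.elemAb hV, t.le_normalizer N, t.faithful N, t.hS1 hsep hO N⟩
      hΓV := hΓV
      hΓf := hΓf
      hH := hHS }
  -- the image of `A` is generated by transvections
  have hBΓ : A.map t.ι ≤ Γ := Subgroup.map_mono le_top
  have hBc : ∀ x ∈ A.map t.ι, ∀ y ∈ A.map t.ι, x * y = y * x := by
    rintro _ ⟨a, ha, rfl⟩ _ ⟨b, hb, rfl⟩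
    rw [← map_mul, ← map_mul, hAc a ha b hb]
  have hBp : IsPGroup 2 ↥(A.map t.ι) := hA2.map t.ι
  have hoff : Nat.card ↥t.j.range ≤ Nat.card ↥(A.map t.ι) *
      Nat.card ↥(t.j.range ⊓ Subgroup.centralizer ((A.map t.ι : Subgroup _) : Set _)) := by
    have e1 := t.card_map A
    have e2 := t.card_fix A
    have e3 := t.card_range
    rw [e3, e2]
    have hpos : 0 < Nat.card ↥(A ⊓ Subgroup.centralizer (V : Set X)) := Nat.card_pos
    refine Nat.le_of_mul_le_mul_right ?_ hpos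
    calc Nat.card V * Nat.card ↥(A ⊓ Subgroup.centralizer (V : Set X))
        ≤ Nat.card A * Nat.card ↥(V ⊓ Subgroup.centralizer (A : Set X)) := hAoff
      _ = Nat.card ↥(A.map t.ι) * Nat.card ↥(V ⊓ Subgroup.centralizer (A : Set X)) *
          Nat.card ↥(A ⊓ Subgroup.centralizer (V : Set X)) := by rw [← e1]; ring
  have hgenB := sett.gen_by_tv hBΓ hBc hBp hoff
  -- commutators in the model
  have hcomm : ∀ (x : X) (v : V), ⁅t.j v, t.ι x⁆ =
      t.j ⟨(v : X) * x * (v : X)⁻¹ * x⁻¹, by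
        have h1 : x * (v : X)⁻¹ * x⁻¹ ∈ V := hVn.conj_mem _ (V.inv_mem v.2) x
        have h2 : (v : X) * x * (v : X)⁻¹ * x⁻¹ = (v : X) * (x * (v : X)⁻¹ * x⁻¹) := by group
        rw [h2]
        exact V.mul_mem v.2 h1⟩ := by
    intro x v
    have h1 := t.conj' x v⁻¹
    rw [commutatorElement_def]
    have h2 : t.j v * t.ι x * (t.j v)⁻¹ * (t.ι x)⁻¹ =
        t.j v * (t.ι x * t.j v⁻¹ * (t.ι x)⁻¹) := by
      rw [map_inv]; group
    rw [h2, h1, ← map_mul]
    congr 1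
    apply Subtype.ext
    simp only [Subgroup.coe_mul, Subgroup.coe_inv]
    group
  have hmemR : ∀ (x : X) (v : V), ⁅t.j v, t.ι x⁆ ∈ ⁅t.j.range, Subgroup.zpowers (t.ι x)⁆ :=
    fun x v => Subgroup.commutator_mem_commutator ⟨v, rfl⟩ (Subgroup.mem_zpowers _)
  -- a preimage of a transvection is transvection-like
  have htv : ∀ x : X, IsTv 2 t.j.range (N.map t.ι) (t.ι x) → TvLike V x := by
    intro x hx
    have hcard := hx.card
    have htwo : ∀ r₁ ∈ ⁅t.j.range, Subgroup.zpowers (t.ι x)⁆,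
        ∀ r₂ ∈ ⁅t.j.range, Subgroup.zpowers (t.ι x)⁆, r₁ ≠ 1 → r₂ ≠ 1 → r₁ = r₂ := by
      intro r₁ h₁ r₂ h₂ hr₁ hr₂
      obtain ⟨y, -, hy⟩ := (Nat.card_eq_two_iff'
        (1 : ↥⁅t.j.range, Subgroup.zpowers (t.ι x)⁆)).mp hcard
      have e1 := hy ⟨r₁, h₁⟩ (fun h => hr₁ (congrArg Subtype.val h))
      have e2 := hy ⟨r₂, h₂⟩ (fun h => hr₂ (congrArg Subtype.val h))
      exact congrArg Subtype.val (e1.trans e2.symm)
    intro v₁ hv₁ v₂ hv₂ h1 h2
    have hne : ∀ (v : X) (hv : v ∈ V), v * x * v⁻¹ * x⁻¹ ≠ 1 → ⁅t.j ⟨v, hv⟩, t.ι x⁆ ≠ 1 := by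
      intro v hv hne h
      rw [hcomm x ⟨v, hv⟩] at h
      have h3 := t.j_inj (h.trans (map_one t.j).symm)
      exact hne (congrArg Subtype.val h3)
    have := htwo _ (hmemR x ⟨v₁, hv₁⟩) _ (hmemR x ⟨v₂, hv₂⟩) (hne v₁ hv₁ h1) (hne v₂ hv₂ h2)
    rw [hcomm x ⟨v₁, hv₁⟩, hcomm x ⟨v₂, hv₂⟩] at this
    exact congrArg Subtype.val (t.j_inj this)
  -- elements of the kernel are transvection-like
  have hkerTv : ∀ x : X, t.ι x = 1 → TvLike V x := by
    intro x hx v₁ hv₁ v₂ hv₂ h1 h2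
    exfalso
    apply h1
    have hxC : x ∈ Subgroup.centralizer (V : Set X) := by
      rw [← hker]; exact hx
    have := (Subgroup.mem_centralizer_iff.mp hxC) v₁ hv₁
    calc v₁ * x * v₁⁻¹ * x⁻¹ = (v₁ * x) * v₁⁻¹ * x⁻¹ := by group
      _ = (x * v₁) * v₁⁻¹ * x⁻¹ := by rw [this]
      _ = 1 := by group
  -- pull back the closure
  have key : ∀ b ∈ Subgroup.closure {a | a ∈ A.map t.ι ∧ IsTv 2 t.j.range (N.map t.ι) a},
      ∀ x : X, t.ι x = b → x ∈ Subgroup.closure {x : X | TvLike V x} := by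
    intro b hb
    induction hb using Subgroup.closure_induction with
    | mem b hb =>
      intro x hx
      apply Subgroup.subset_closure
      apply htv
      rw [hx]; exact hb.2
    | one =>
      intro x hx
      exact Subgroup.subset_closure (hkerTv x hx)
    | mul b₁ b₂ hb₁ hb₂ ih₁ ih₂ =>
      intro x hx
      have hb₁Γ : b₁ ∈ Γ := by
        have hle : Subgroup.closure {a | a ∈ A.map t.ι ∧ IsTv 2 t.j.range (N.map t.ι) a} ≤ Γ := by
          rw [Subgroup.closure_le]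
          rintro a ⟨ha, -⟩
          exact hBΓ ha
        exact hle hb₁
      obtain ⟨x₁, -, hx₁⟩ := hb₁Γ
      have e : x = x₁ * (x₁⁻¹ * x) := by group
      rw [e]
      refine Subgroup.mul_mem _ (ih₁ x₁ hx₁) (ih₂ _ ?_)
      rw [map_mul, map_inv, hx, hx₁]
      group
    | inv b hb ih =>
      intro x hx
      have := ih x⁻¹ (by rw [map_inv, hx, inv_inv])
      simpa using Subgroup.inv_mem _ this
  intro a ha
  exact key _ (hgenB ⟨a, ha, rfl⟩) a rfl

end xform

section sub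

open Subgroup
open Cfsg.Agent.S5306 (EA maxEA JJ)
open Cfsg.Agent.Lib.Helper10_JComp
open Cfsg.Agent.Lib.Helper10_JCompB
open Cfsg.Agent.Lib.Helper10_JCompF
open Cfsg.Agent.Lib.Helper10_JCompSub
open Cfsg.Agent.Lib.Helper10_JCompUniq

variable {G : Type*} [Group G] [Finite G]

/-- subgroup form of `gen_tv_elt` -/
theorem gen_tv_sub {L V : Subgroup G} (hsolv : Group.IsSolvable ↥L)
    (hVL : V ≤ L) (hLV : L ≤ normalizer (V : Set G)) (hV2 : ∀ v ∈ V, v * v = 1)
    (hQV : pCoreOf 2 L ≤ centralizer (V : Set G))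
    (h1 : ∀ c ∈ L ⊓ centralizer (V : Set G), ∀ t ∈ L, ∀ k : ℕ, t ^ 2 ^ k = 1 →
      c * t * c⁻¹ * t⁻¹ ∈ pCoreOf 2 L)
    (h2 : ∀ c ∈ L ⊓ centralizer (V : Set G), ∀ k : ℕ, c ^ 2 ^ k = 1 → c ∈ pCoreOf 2 L)
    {A : Subgroup G} (hAL : A ≤ L)
    (hAc : ∀ x ∈ A, ∀ y ∈ A, x * y = y * x)
    (hA2 : IsPGroup 2 A)
    (hAoff : Nat.card V * Nat.card ↥(A ⊓ centralizer (V : Set G)) ≤
        Nat.card A * Nat.card ↥(V ⊓ centralizer (A : Set G))) :
    A ≤ Subgroup.closure {x : G | x ∈ L ∧ TvLike V x} := by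
  haveI := hsolv
  have hVn : (V.subgroupOf L).Normal := Subgroup.normal_subgroupOf_of_le_normalizer hLV
  have hVEA : IsElementaryAbelian 2 (V.subgroupOf L) := by
    rw [Cfsg.Agent.S5306.isEA_iff]
    refine ⟨fun a ha b hb => ?_, fun a ha => ?_⟩
    · apply Subtype.ext
      exact comm_of_sq hV2 _ (Subgroup.mem_subgroupOf.mp ha) _ (Subgroup.mem_subgroupOf.mp hb)
    · apply Subtype.ext
      rw [Subgroup.coe_pow, pow_two]
      exact hV2 _ (Subgroup.mem_subgroupOf.mp ha)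
  have hO : pCore 2 (↥L ⧸ centralizer ((V.subgroupOf L : Subgroup L) : Set L)) = ⊥ := by
    apply Cfsg.Agent.Lib.Helper10_JCompFF.pCore_quot_eq_bot
    · intro x hx
      rw [mem_centralizer_subgroupOf_iff hVL]
      exact hQV ((mem_pCore_iff L x).mp hx)
    · rintro c hc t ⟨k, hk⟩
      rw [mem_pCore_iff]
      rw [mem_centralizer_subgroupOf_iff hVL] at hc
      have hk' : (t : G) ^ 2 ^ k = 1 := by
        have := congrArg Subtype.val hk
        simpa using this
      have := h1 c (Subgroup.mem_inf.mpr ⟨c.2, hc⟩) t t.2 k hk'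
      simpa using this
    · rintro c hc ⟨k, hk⟩
      rw [mem_pCore_iff]
      rw [mem_centralizer_subgroupOf_iff hVL] at hc
      have hk' : (c : G) ^ 2 ^ k = 1 := by
        have := congrArg Subtype.val hk
        simpa using this
      exact h2 c (Subgroup.mem_inf.mpr ⟨c.2, hc⟩) k hk'
  have e1 : Nat.card ↥(V.subgroupOf L) = Nat.card V :=
    Cfsg.Agent.Lib.Helper10_Thompson.card_subgroupOf_of_le hVL
  have e2 : Nat.card ↥(A.subgroupOf L) = Nat.card A :=
    Cfsg.Agent.Lib.Helper10_Thompson.card_subgroupOf_of_le hAL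
  have e3 : Nat.card ↥(A.subgroupOf L ⊓
      centralizer ((V.subgroupOf L : Subgroup L) : Set L)) =
      Nat.card ↥(A ⊓ centralizer (V : Set G)) := by
    rw [← subgroupOf_inf_centralizer hVL]
    exact Cfsg.Agent.Lib.Helper10_Thompson.card_subgroupOf_of_le (inf_le_left.trans hAL)
  have e4 : Nat.card ↥(V.subgroupOf L ⊓
      centralizer ((A.subgroupOf L : Subgroup L) : Set L)) =
      Nat.card ↥(V ⊓ centralizer (A : Set G)) := by
    rw [← subgroupOf_inf_centralizer hAL]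
    exact Cfsg.Agent.Lib.Helper10_Thompson.card_subgroupOf_of_le (inf_le_left.trans hVL)
  have hgen := gen_tv_elt (V.subgroupOf L) hVEA hO (A.subgroupOf L)
    (by
      intro x hx y hy
      apply Subtype.ext
      exact hAc _ (Subgroup.mem_subgroupOf.mp hx) _ (Subgroup.mem_subgroupOf.mp hy))
    hA2.comap_subtype
    (by rw [e1, e2, e3, e4]; exact hAoff)
  have hmap := Subgroup.map_mono (f := L.subtype) hgen
  rw [Subgroup.map_subgroupOf_eq_of_le hAL, MonoidHom.map_closure] at hmap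
  refine hmap.trans ?_
  rw [Subgroup.closure_le]
  rintro _ ⟨x, hx, rfl⟩
  apply Subgroup.subset_closure
  refine ⟨x.2, ?_⟩
  intro v₁ hv₁ v₂ hv₂ h1' h2'
  have hx' := hx ⟨v₁, hVL hv₁⟩ (Subgroup.mem_subgroupOf.mpr hv₁) ⟨v₂, hVL hv₂⟩
    (Subgroup.mem_subgroupOf.mpr hv₂)
    (by
      intro h
      apply h1'
      have := congrArg Subtype.val h
      simpa using this)
    (by
      intro h
      apply h2'
      have := congrArg Subtype.val h
      simpa using this)
  have := congrArg Subtype.val hx'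
  simpa using this

/-- `Ctx` form: the largest elementary abelian subgroups of `T` are generated by
transvection-like elements of `L` -/
theorem ctx_gen_tv
    {T L J Q V C F₁ M' : Subgroup G} (ctx : Ctx T L J Q V C F₁ M') (hQdef : Q = pCoreOf 2 L)
    {A : Subgroup G} (hA : A ∈ maxEA 2 T) :
    A ≤ Subgroup.closure {x : G | x ∈ L ∧ TvLike V x} := by
  have hVL : V ≤ L := ctx.hVQ.trans ctx.hQL
  exact gen_tv_sub ctx.hsolv hVL ctx.hLV ctx.hV2
    (by rw [← hQdef]; exact ctx.hQV)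
    (by rw [← hQdef, ← ctx.hCdef]; exact ctx.h1)
    (by rw [← hQdef, ← ctx.hCdef]; exact ctx.h2)
    (hA.1.trans ctx.hTL) hA.2.1.1 (ctx.hT2.to_le hA.1)
    (offender_of_maxEA (ctx.hVQ.trans ctx.hQT) ctx.hV2 hA)

/-- the subgroup generated by the transvection-like elements of `L` -/
def tvClosure (L V : Subgroup G) : Subgroup G :=
  Subgroup.closure {x : G | x ∈ L ∧ TvLike V x}

theorem tvClosure_le (L V : Subgroup G) : tvClosure L V ≤ L := by
  unfold tvClosure
  rw [Subgroup.closure_le]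
  rintro x ⟨hx, -⟩
  exact hx

theorem tvLike_conj {V : Subgroup G} {x g : G} (hg : g ∈ normalizer (V : Set G))
    (hx : TvLike V x) : TvLike V (g * x * g⁻¹) := by
  intro v₁ hv₁ v₂ hv₂ h1 h2
  have hu : ∀ v ∈ V, g⁻¹ * v * g ∈ V := fun v hv => conj_mem_of_mem_normalizer' hg hv
  have e : ∀ v : G, v * (g * x * g⁻¹) * v⁻¹ * (g * x * g⁻¹)⁻¹ =
      g * ((g⁻¹ * v * g) * x * (g⁻¹ * v * g)⁻¹ * x⁻¹) * g⁻¹ := by
    intro v; group
  rw [e v₁] at h1 ⊢
  rw [e v₂] at h2 ⊢
  have hne : ∀ y : G, g * y * g⁻¹ ≠ 1 → y ≠ 1 := by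
    rintro y hy rfl
    apply hy; group
  rw [hx _ (hu v₁ hv₁) _ (hu v₂ hv₂) (hne _ h1) (hne _ h2)]

theorem le_normalizer_tvClosure {L V : Subgroup G} (hLV : L ≤ normalizer (V : Set G)) :
    L ≤ normalizer ((tvClosure L V : Subgroup G) : Set G) := by
  apply le_normalizer_of_conj_mem
  intro g hg x hx
  have hle : tvClosure L V ≤ (tvClosure L V).comap (MulAut.conj g).toMonoidHom := by
    conv_lhs => unfold tvClosure
    rw [Subgroup.closure_le]
    rintro y ⟨hyL, hy⟩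
    rw [SetLike.mem_coe, Subgroup.mem_comap]
    apply Subgroup.subset_closure
    simp only [MulEquiv.coe_toMonoidHom, MulAut.conj_apply]
    exact ⟨L.mul_mem (L.mul_mem hg hyL) (L.inv_mem hg), tvLike_conj (hLV hg) hy⟩
  have := hle hx
  rw [Subgroup.mem_comap] at this
  simpa only [MulEquiv.coe_toMonoidHom, MulAut.conj_apply] using this

/-- `J(T) ≤ tvClosure L V` -/
theorem thompson_le_tvClosure
    {T L J Q V C F₁ M' : Subgroup G} (ctx : Ctx T L J Q V C F₁ M') (hQdef : Q = pCoreOf 2 L) :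
    thompsonSubgroupOf 2 T ≤ tvClosure L V := by
  rw [Cfsg.Agent.S5306.thompson_eq_JJ]
  exact sSup_le fun A hA => ctx_gen_tv ctx hQdef hA

section norm

variable {T L J Q V C F₁ M' : Subgroup G} (ctx : Ctx T L J Q V C F₁ M')
include ctx

/-- a conjugate (under `L`) of the module `W` of a component-like subgroup either equals `W` or
meets it trivially -/
theorem lcomp_map_conj_eq_of_inf_ne_bot {K W : Subgroup G} (h : LComp L J Q V K W) {x : G}
    (hxL : x ∈ L) (hne : W ⊓ W.map (MulAut.conj x).toMonoidHom ≠ ⊥) :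
    W.map (MulAut.conj x).toMonoidHom = W := by
  obtain ⟨⟨u, hu⟩, hu1⟩ := (Subgroup.ne_bot_iff_exists_ne_one).mp hne
  have hu1' : u ≠ 1 := fun h => hu1 (Subtype.ext h)
  obtain ⟨huW, huW'⟩ := Subgroup.mem_inf.mp hu
  obtain ⟨k₀, hk₀, hodd, hmove⟩ := h.hirr
  have hk₀F : k₀ ∈ F₁ := h.le_F₁ ctx hk₀
  -- `k₀` normalizes `x W x⁻¹`
  have hk₀W' : k₀ ∈ normalizer ((W.map (MulAut.conj x).toMonoidHom : Subgroup G) : Set G) := by
    have h1 : x⁻¹ * k₀ * x ∈ F₁ := conj_mem_of_mem_normalizer' (ctx.hLF hxL) hk₀F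
    have h2 : x⁻¹ * k₀ * x ∈ normalizer (W : Set G) := h.F₁_le_normalizer ctx h1
    have h3 := Subgroup.mem_map_of_mem (MulAut.conj x).toMonoidHom h2
    rw [← Cfsg.Agent.Lib.Helper47_Conj.normalizer_map_conj] at h3
    have e : (MulAut.conj x).toMonoidHom (x⁻¹ * k₀ * x) = k₀ := by
      simp only [MulEquiv.coe_toMonoidHom, MulAut.conj_apply]; group
    rwa [e] at h3
  have hy₁ : k₀ * u * k₀⁻¹ ∈ W := conj_mem_of_mem_normalizer (h.hKW ctx.hLV hk₀) huW
  have hy₂ : k₀ * u * k₀⁻¹ ∈ W.map (MulAut.conj x).toMonoidHom :=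
    conj_mem_of_mem_normalizer hk₀W' huW'
  have hyx : k₀ * u * k₀⁻¹ ≠ u := hmove u huW hu1'
  have hy1 : k₀ * u * k₀⁻¹ ≠ 1 := by
    intro h'
    apply hu1'
    calc u = k₀⁻¹ * (k₀ * u * k₀⁻¹) * k₀ := by group
      _ = 1 := by rw [h']; group
  have hle : W ≤ W.map (MulAut.conj x).toMonoidHom := by
    intro w hw
    rcases four_basis h.hW4 h.hW2 huW hu1' hy₁ hy1 hyx w hw with h' | h' | h' | h'
    · rw [h']; exact Subgroup.one_mem _
    · rw [h']; exact huW'
    · rw [h']; exact hy₂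
    · rw [h']; exact Subgroup.mul_mem _ hy₂ huW'
  exact (Subgroup.eq_of_le_of_card_ge hle
    (by rw [Subgroup.card_map_of_injective (MulAut.conj x).injective])).symm

/-- **transvection-like elements of `L` normalize the module of a component-like subgroup** -/
theorem lcomp_tvLike_mem_normalizer {K W : Subgroup G} (h : LComp L J Q V K W) {x : G}
    (hxL : x ∈ L) (hx : TvLike V x) : x ∈ normalizer (W : Set G) := by
  rw [Cfsg.Agent.Lib.Helper24_CoprimeAction.mem_normalizer_iff_map_conj]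
  apply lcomp_map_conj_eq_of_inf_ne_bot ctx h hxL
  intro hbot
  obtain ⟨k₀, hk₀, hodd, hmove⟩ := h.hirr
  -- two distinct nonidentity elements of `W`
  obtain ⟨w₁, hw₁, hw₁1⟩ : ∃ w ∈ W, w ≠ 1 := by
    by_contra hcon
    push Not at hcon
    have : W = ⊥ := by
      rw [eq_bot_iff]
      intro w hw
      exact Subgroup.mem_bot.mpr (hcon w hw)
    have h4 := h.hW4
    rw [this, Subgroup.card_bot] at h4
    omega
  have hw₂ : k₀ * w₁ * k₀⁻¹ ∈ W := conj_mem_of_mem_normalizer (h.hKW ctx.hLV hk₀) hw₁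
  have hw₂ne : k₀ * w₁ * k₀⁻¹ ≠ w₁ := hmove w₁ hw₁ hw₁1
  -- the commutator map is injective on `W`
  have hinj : ∀ a ∈ W, ∀ b ∈ W, a * x * a⁻¹ * x⁻¹ = b * x * b⁻¹ * x⁻¹ → a = b := by
    intro a ha b hb hab
    have e : x * (b⁻¹ * a) * x⁻¹ = b⁻¹ * a := by
      calc x * (b⁻¹ * a) * x⁻¹
          = b⁻¹ * (b * x * b⁻¹ * x⁻¹) * (a * x * a⁻¹ * x⁻¹)⁻¹ * a := by group
        _ = b⁻¹ * (b * x * b⁻¹ * x⁻¹) * (b * x * b⁻¹ * x⁻¹)⁻¹ * a := by rw [hab]
        _ = b⁻¹ * a := by group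
    have hmem : b⁻¹ * a ∈ W ⊓ W.map (MulAut.conj x).toMonoidHom := by
      refine Subgroup.mem_inf.mpr ⟨W.mul_mem (W.inv_mem hb) ha, ⟨b⁻¹ * a, W.mul_mem (W.inv_mem hb) ha, ?_⟩⟩
      simp only [MulEquiv.coe_toMonoidHom, MulAut.conj_apply]
      exact e
    rw [hbot, Subgroup.mem_bot] at hmem
    calc a = b * (b⁻¹ * a) := by group
      _ = b := by rw [hmem, mul_one]
  have hne1 : ∀ a ∈ W, a ≠ 1 → a * x * a⁻¹ * x⁻¹ ≠ 1 := by
    intro a ha ha1 hc
    apply ha1
    apply hinj a ha 1 W.one_mem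
    rw [hc]; group
  have hw₂1 : k₀ * w₁ * k₀⁻¹ ≠ 1 := by
    intro h'
    apply hw₁1
    calc w₁ = k₀⁻¹ * (k₀ * w₁ * k₀⁻¹) * k₀ := by group
      _ = 1 := by rw [h']; group
  have := hx _ (h.hWV hw₁) _ (h.hWV hw₂) (hne1 _ hw₁ hw₁1) (hne1 _ hw₂ hw₂1)
  exact hw₂ne (hinj _ hw₁ _ hw₂ this).symm

/-- `tvClosure L V` normalizes the module of every component-like subgroup -/
theorem lcomp_tvClosure_le_normalizer {K W : Subgroup G} (h : LComp L J Q V K W) :
    tvClosure L V ≤ normalizer (W : Set G) := by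
  unfold tvClosure
  rw [Subgroup.closure_le]
  rintro x ⟨hxL, hx⟩
  exact lcomp_tvLike_mem_normalizer ctx h hxL hx

end norm

end sub

end Cfsg.Agent.Lib.Helper10_JCompGen
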