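import Cfsg.Agent.Lib.Helper47_WeaklyClosed

set_option autoImplicit false

namespace Cfsg.Agent.Lib.Helper47_Large

open Cfsg
open Cfsg.Agent.Lib.Helper47_PLocal Cfsg.Agent.Lib.Helper47_PClosed Cfsg.Agent.Lib.Helper47_Conj
open Cfsg.Agent.Lib.Helper47_SubAPI Cfsg.Agent.Lib.Helper47_WeaklyClosed
open scoped commutatorElement Pointwise

variable {G : Type*} [Group G] {p : ℕ}

/-- centralizer of a conjugate -/
theorem centralizer_map_conj (a : G) (K : Subgroup G) :
    Subgroup.centralizer ((K.map (MulAut.conj a).toMonoidHom : Subgroup G) : Set G) =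
      (Subgroup.centralizer (K : Set G)).map (MulAut.conj a).toMonoidHom := by
  ext x
  constructor
  · intro hx
    refine ⟨a⁻¹ * x * a, ?_, by simp [mul_assoc]⟩
    show a⁻¹ * x * a ∈ Subgroup.centralizer (K : Set G)
    rw [Subgroup.mem_centralizer_iff] at hx ⊢
    intro k hk
    have h1 := hx (a * k * a⁻¹) ⟨k, hk, by simp⟩
    calc k * (a⁻¹ * x * a) = a⁻¹ * ((a * k * a⁻¹) * x) * a := by group
      _ = a⁻¹ * (x * (a * k * a⁻¹)) * a := by rw [h1]
      _ = a⁻¹ * x * a * k := by group
  · rintro ⟨y, hy, rfl⟩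
    have hy' : y ∈ Subgroup.centralizer (K : Set G) := hy
    rw [Subgroup.mem_centralizer_iff] at hy' ⊢
    rintro _ ⟨k, hk, rfl⟩
    have h1 := hy' k hk
    simp only [MulEquiv.coe_toMonoidHom, MulAut.conj_apply]
    calc a * k * a⁻¹ * (a * y * a⁻¹) = a * (k * y) * a⁻¹ := by group
      _ = a * (y * k) * a⁻¹ := by rw [h1]
      _ = a * y * a⁻¹ * (a * k * a⁻¹) := by group

/-- The centre of a nontrivial finite `p`-subgroup is nontrivial. -/
theorem inf_centralizer_ne_bot [Finite G] [Fact p.Prime] {T : Subgroup G} (hT : IsPGroup p T)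
    (hT1 : T ≠ ⊥) : T ⊓ Subgroup.centralizer (T : Set G) ≠ ⊥ := by
  have : Nontrivial T := (Subgroup.nontrivial_iff_ne_bot T).mpr hT1
  have h1 := hT.center_nontrivial
  obtain ⟨z, hz1⟩ := exists_ne (1 : Subgroup.center T)
  intro hbot
  apply hz1
  have h2 : ((z : T) : G) ∈ T ⊓ Subgroup.centralizer (T : Set G) := by
    refine ⟨(z : T).2, ?_⟩
    show ((z : T) : G) ∈ Subgroup.centralizer (T : Set G)
    rw [Subgroup.mem_centralizer_iff]
    intro t ht
    have := Subgroup.mem_center_iff.mp z.2 ⟨t, ht⟩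
    exact congrArg Subtype.val this
  rw [hbot, Subgroup.mem_bot] at h2
  exact Subtype.ext (Subtype.ext h2)

theorem normalizer_le_normalizer_inf_centralizer (T : Subgroup G) :
    Subgroup.normalizer (T : Set G) ≤
      Subgroup.normalizer ((T ⊓ Subgroup.centralizer (T : Set G) : Subgroup G) : Set G) :=
  (le_inf le_rfl (normalizer_le_normalizer_centralizer T)).trans
    (normalizer_inf_le_normalizer_inf _ _)

/-- A large subgroup is normal in `N(R)` for every `p`-subgroup `R` containing it. -/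
theorem IsLarge.normalizer_le [Finite G] [Fact p.Prime] {Q : Subgroup G} (hQ1 : Q ≠ ⊥)
    (hL : Cfsg.IsLarge Q) {R : Subgroup G} (hR : IsPGroup p R) (hQR : Q ≤ R) :
    Subgroup.normalizer (R : Set G) ≤ Subgroup.normalizer (Q : Set G) := by
  have hR1 : R ≠ ⊥ := fun h => hQ1 (le_bot_iff.mp (h ▸ hQR))
  have h1 := inf_centralizer_ne_bot hR hR1
  have h2 : R ⊓ Subgroup.centralizer (R : Set G) ≤ Subgroup.centralizer (Q : Set G) :=
    inf_le_right.trans (Subgroup.centralizer_le hQR)
  exact (normalizer_le_normalizer_inf_centralizer R).trans (hL.2 _ h2 h1)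

theorem IsLarge.isWeaklyClosedSubgroup [Finite G] [Fact p.Prime] {Q : Subgroup G}
    (hQp : IsPGroup p Q) (hQ1 : Q ≠ ⊥) (hL : Cfsg.IsLarge Q) : Cfsg.IsWeaklyClosedSubgroup p Q :=
  norm_imp_wc hQp (fun _ hR hQR => IsLarge.normalizer_le hQ1 hL hR hQR)

theorem IsLarge.map_conj {Q : Subgroup G} (hL : Cfsg.IsLarge Q) (g : G) :
    Cfsg.IsLarge (Q.map (MulAut.conj g).toMonoidHom) := by
  refine ⟨?_, ?_⟩
  · rw [centralizer_map_conj]; exact Subgroup.map_mono hL.1
  · intro U hU hU1
    rw [centralizer_map_conj, le_map_conj_iff] at hU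
    have hU1' : U.map (MulAut.conj g⁻¹).toMonoidHom ≠ ⊥ := by
      intro h
      apply hU1
      have := (map_conj_eq_iff g⁻¹ U ⊥).mp h
      rw [this, Subgroup.map_bot]
    have h1 := hL.2 _ hU hU1'
    rw [normalizer_map_conj] at h1
    have h2 := Subgroup.map_mono (f := (MulAut.conj g).toMonoidHom) h1
    rw [map_conj_map_conj_inv] at h2
    rw [normalizer_map_conj]
    exact h2

/-- Distinct conjugates of a large subgroup have disjoint centralizers. -/
theorem IsLarge.centralizer_inf_eq_bot [Finite G] [Fact p.Prime] {Q : Subgroup G}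
    (hQp : IsPGroup p Q) (hQ1 : Q ≠ ⊥) (hL : Cfsg.IsLarge Q) {g : G}
    (hg : g ∉ Subgroup.normalizer (Q : Set G)) :
    Subgroup.centralizer (Q : Set G) ⊓
      Subgroup.centralizer ((Q.map (MulAut.conj g).toMonoidHom : Subgroup G) : Set G) = ⊥ := by
  by_contra hU
  apply hg
  rw [mem_normalizer_iff_map_conj_eq']
  apply wc_imp_comm hQp (IsLarge.isWeaklyClosedSubgroup hQp hQ1 hL)
  have h1 := hL.2 _ inf_le_left hU
  have h2 := (IsLarge.map_conj hL g).2 _ inf_le_right hU
  have h3 : Q ≤ Subgroup.centralizer ((Subgroup.centralizer (Q : Set G) ⊓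
      Subgroup.centralizer ((Q.map (MulAut.conj g).toMonoidHom : Subgroup G) : Set G) : Subgroup G) : Set G) :=
    Subgroup.le_centralizer_iff.mp inf_le_left
  have h4 : Q.map (MulAut.conj g).toMonoidHom ≤ Subgroup.centralizer ((Subgroup.centralizer (Q : Set G) ⊓
      Subgroup.centralizer ((Q.map (MulAut.conj g).toMonoidHom : Subgroup G) : Set G) : Subgroup G) : Set G) :=
    Subgroup.le_centralizer_iff.mp inf_le_right
  exact commutator_le_inf_of_le_normalizer
    (h3.trans ((Subgroup.centralizer_le_normalizer _).trans h2))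
    (h4.trans ((Subgroup.centralizer_le_normalizer _).trans h1))

end Cfsg.Agent.Lib.Helper47_Large
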