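import Cfsg.Agent.Lib.Helper47_YL
import Cfsg.Agent.Lib.Helper47_PClosed
import Cfsg.Agent.Lib.Helper47_Large

set_option autoImplicit false

namespace Cfsg.Agent.Lib.Helper47_TL

open Cfsg
open Cfsg.Agent.Lib.Helper47_PLocal Cfsg.Agent.Lib.Helper47_PReduced Cfsg.Agent.Lib.Helper47_SubAPI
  Cfsg.Agent.Lib.Helper47_YL
open scoped commutatorElement Pointwise

variable {G : Type*} [Group G] {p : ℕ}

/-! ### Small facts -/

theorem normalizer_le_normalizer_omegaOne (A : Subgroup G) :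
    Subgroup.normalizer (A : Set G) ≤ Subgroup.normalizer ((Cfsg.omegaOne p A : Subgroup G) : Set G) := by
  intro g hg
  have key : ∀ g : G, g ∈ Subgroup.normalizer (A : Set G) →
      ∀ x ∈ Cfsg.omegaOne p A, g * x * g⁻¹ ∈ Cfsg.omegaOne p A := by
    intro g hg x hx
    unfold Cfsg.omegaOne at hx ⊢
    induction hx using Subgroup.closure_induction with
    | mem x hx =>
      apply Subgroup.subset_closure
      refine ⟨(Subgroup.mem_normalizer_iff.mp hg x).mp hx.1, ?_⟩
      rw [conj_pow, hx.2]; simp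
    | one => simp
    | mul x y _ _ ihx ihy =>
      have : g * (x * y) * g⁻¹ = (g * x * g⁻¹) * (g * y * g⁻¹) := by group
      rw [this]; exact Subgroup.mul_mem _ ihx ihy
    | inv x _ ihx =>
      have : g * x⁻¹ * g⁻¹ = (g * x * g⁻¹)⁻¹ := by group
      rw [this]; exact Subgroup.inv_mem _ ihx
  rw [Subgroup.mem_normalizer_iff]
  intro x
  refine ⟨key g hg x, fun hx => ?_⟩
  have := key g⁻¹ (Subgroup.inv_mem _ hg) _ hx
  simpa [mul_assoc] using this

/-- `N(A) ≤ N(Ω₁(Z(A)))`. -/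
theorem normalizer_le_normalizer_omegaOne_center (A : Subgroup G) :
    Subgroup.normalizer (A : Set G) ≤ Subgroup.normalizer
      ((Cfsg.omegaOne p (A ⊓ Subgroup.centralizer (A : Set G)) : Subgroup G) : Set G) :=
  (Cfsg.Agent.Lib.Helper47_Large.normalizer_le_normalizer_inf_centralizer A).trans
    (normalizer_le_normalizer_omegaOne _)

/-- A `p`-subgroup `Q` of `C` containing `T ∩ C` equals `T ∩ C` when the Sylow `p`-subgroup
`T` normalizes `C`. -/
theorem le_sylow_inf_of_isPGroup [Finite G] [Fact p.Prime] (T : Sylow p G)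
    (C : Subgroup G) (hTC : (T : Subgroup G) ≤ Subgroup.normalizer (C : Set G))
    {Q : Subgroup G} (hQ : IsPGroup p Q) (hQC : Q ≤ C) (hTQ : (T : Subgroup G) ⊓ C ≤ Q) :
    Q ≤ (T : Subgroup G) ⊓ C := by
  obtain ⟨P, hP⟩ := exists_sylow_eq_inf_subgroupOf T C hTC
  have h1 : IsPGroup p (Q.subgroupOf C) := hQ.comap_subtype
  have h2 : (P : Subgroup ↥C) ≤ Q.subgroupOf C := by
    rw [hP]
    intro x hx
    exact hTQ (Subgroup.mem_subgroupOf.mp hx)
  have h3 := P.is_maximal' h1 h2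
  intro x hx
  have hx' : (⟨x, hQC hx⟩ : ↥C) ∈ Q.subgroupOf C := Subgroup.mem_subgroupOf.mpr hx
  rw [h3, hP] at hx'
  exact Subgroup.mem_subgroupOf.mp hx'

/-- A `p`-element of `C` normalizing `T ∩ C` lies in `T ∩ C`. -/
theorem mem_sylow_inf_of_mem_normalizer [Finite G] [Fact p.Prime] (T : Sylow p G)
    (C : Subgroup G) (hTC : (T : Subgroup G) ≤ Subgroup.normalizer (C : Set G))
    {u : G} (huC : u ∈ C) (huN : u ∈ Subgroup.normalizer ((((T : Subgroup G) ⊓ C : Subgroup G)) : Set G))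
    {k : ℕ} (hu : u ^ (p ^ k) = 1) : u ∈ (T : Subgroup G) ⊓ C := by
  have h1 : IsPGroup p (Subgroup.zpowers u) :=
    Cfsg.Agent.Lib.Helper47_PClosed.zpowers_isPGroup_of_pow_eq_one hu
  have h2 : IsPGroup p ((T : Subgroup G) ⊓ C : Subgroup G) := T.isPGroup'.to_le inf_le_left
  have h3 : Subgroup.zpowers u ≤ Subgroup.normalizer ((((T : Subgroup G) ⊓ C : Subgroup G)) : Set G) :=
    (Subgroup.zpowers_le).mpr huN
  have h4 : IsPGroup p (Subgroup.zpowers u ⊔ ((T : Subgroup G) ⊓ C) : Subgroup G) :=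
    IsPGroup.to_sup_of_normal_right' h1 h2 h3
  have h5 : Subgroup.zpowers u ⊔ ((T : Subgroup G) ⊓ C) ≤ C :=
    sup_le ((Subgroup.zpowers_le).mpr huC) inf_le_right
  exact le_sylow_inf_of_isPGroup T C hTC h4 h5 le_sup_right
    (Subgroup.mem_sup_left (Subgroup.mem_zpowers u))

/-- Ambient form of S2802: the normal closure of a `p`-reduced normal subgroup of a parabolic
subgroup of a group of characteristic `p` is `p`-reduced. -/
theorem isPReducedNormal_normalClosure_of_pRedIn [Finite G] [Fact p.Prime]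
    (hchar : Subgroup.centralizer (Cfsg.pCore p G : Set G) ≤ Cfsg.pCore p G) (T : Sylow p G)
    {R X : Subgroup G} (hTR : (T : Subgroup G) ≤ R) (hX : PRedIn p R X) :
    Cfsg.IsPReducedNormal p (Subgroup.normalClosure (X : Set G)) := by
  have h1 : Cfsg.IsPReducedNormal p (X.subgroupOf R) := by
    rw [isPReducedNormal_iff_pRedIn, Subgroup.map_subgroupOf_eq_of_le hX.1]
    exact hX
  have h2 := Cfsg.Agent.S2802.result hchar T R hTR _ h1
  rwa [Subgroup.map_subgroupOf_eq_of_le hX.1] at h2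

end Cfsg.Agent.Lib.Helper47_TL
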