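import Cfsg.Agent.Lib.Helper47_TL
import Cfsg.Agent.S2803

set_option autoImplicit false

namespace Cfsg.Agent.Lib.Helper47_TL2

open Cfsg
open Cfsg.Agent.Lib.Helper47_PLocal Cfsg.Agent.Lib.Helper47_PReduced Cfsg.Agent.Lib.Helper47_SubAPI
  Cfsg.Agent.Lib.Helper47_YL Cfsg.Agent.Lib.Helper47_TL
open scoped commutatorElement Pointwise

variable {G : Type*} [Group G] {p : ℕ}

/-! ### Transport of `Ω₁`, `Z` from `↥L` to the ambient group -/

theorem map_omegaOne (L : Subgroup G) (A : Subgroup ↥L) :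
    (Cfsg.omegaOne p A).map L.subtype = Cfsg.omegaOne p (A.map L.subtype) := by
  unfold Cfsg.omegaOne
  rw [MonoidHom.map_closure]
  congr 1
  ext x
  constructor
  · rintro ⟨y, ⟨hy, hyp⟩, rfl⟩
    refine ⟨Subgroup.mem_map_of_mem _ hy, ?_⟩
    have := congrArg Subtype.val hyp
    simpa using this
  · rintro ⟨⟨y, hy, rfl⟩, hxp⟩
    refine ⟨y, ⟨hy, Subtype.ext ?_⟩, rfl⟩
    simpa using hxp

theorem map_inf_subgroupOf (L : Subgroup G) (A : Subgroup ↥L) (B : Subgroup G) :
    (A ⊓ B.subgroupOf L).map L.subtype = A.map L.subtype ⊓ B := by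
  ext x
  constructor
  · rintro ⟨y, ⟨hyA, hyB⟩, rfl⟩
    exact ⟨Subgroup.mem_map_of_mem _ hyA, Subgroup.mem_subgroupOf.mp hyB⟩
  · rintro ⟨⟨y, hy, rfl⟩, hxB⟩
    exact ⟨y, ⟨hy, Subgroup.mem_subgroupOf.mpr hxB⟩, rfl⟩

theorem map_inf_centralizer (L : Subgroup G) (A : Subgroup ↥L) :
    (A ⊓ Subgroup.centralizer (A : Set ↥L)).map L.subtype =
      A.map L.subtype ⊓ Subgroup.centralizer ((A.map L.subtype : Subgroup G) : Set G) := by
  rw [centralizer_eq_subgroupOf, map_inf_subgroupOf]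

/-- Ambient form of the third part of S2803: `Y_L = Ω₁(Z(C_T(Y_L)))`. -/
theorem largestPReducedOf_eq_omegaOne_center [Finite G] [Fact p.Prime] (T : Sylow p G)
    (L : Subgroup G) (hTL : (T : Subgroup G) ≤ L)
    (hL : Subgroup.centralizer (Cfsg.pCore p ↥L : Set ↥L) ≤ Cfsg.pCore p ↥L) :
    Cfsg.largestPReducedOf p L =
      Cfsg.omegaOne p
        (((T : Subgroup G) ⊓ Subgroup.centralizer ((Cfsg.largestPReducedOf p L : Subgroup G) : Set G)) ⊓
          Subgroup.centralizer ((((T : Subgroup G) ⊓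
            Subgroup.centralizer ((Cfsg.largestPReducedOf p L : Subgroup G) : Set G) : Subgroup G)) : Set G)) := by
  have h := (Cfsg.Agent.S2803.result hL (T.subtype hTL) (Cfsg.largestPReduced p ↥L)
    ⟨isPReducedNormal_largestPReduced p ↥L, fun V hV => le_largestPReduced hV⟩ _ rfl).2.2
  have h2 := congrArg (Subgroup.map L.subtype) h
  rw [map_omegaOne, map_inf_centralizer, Sylow.coe_subtype, centralizer_eq_subgroupOf,
    map_inf_subgroupOf, Subgroup.map_subgroupOf_eq_of_le hTL] at h2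
  exact h2

/-- Frattini argument in ambient form: if `T ≤ M` is a Sylow `p`-subgroup and `M` normalizes `C`,
then every element of `M` is a product of an element of `C ∩ M` and an element of `N_M(T ∩ C)`. -/
theorem exists_mul_of_mem_of_le_normalizer [Finite G] [Fact p.Prime] (T : Sylow p G)
    (M C : Subgroup G) (hTM : (T : Subgroup G) ≤ M) (hMC : M ≤ Subgroup.normalizer (C : Set G))
    {m : G} (hm : m ∈ M) :
    ∃ c ∈ C ⊓ M, ∃ n ∈ M ⊓ Subgroup.normalizer ((((T : Subgroup G) ⊓ C : Subgroup G)) : Set G),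
      m = c * n := by
  have hCn : (C.subgroupOf M).Normal := Subgroup.normal_subgroupOf_of_le_normalizer hMC
  obtain ⟨c, hc, n, hn, hmn⟩ :=
    Cfsg.Agent.Lib.Helper32_Sylow.frattini_inf (T.subtype hTM) (C.subgroupOf M) ⟨m, hm⟩
  rw [Sylow.coe_subtype] at hn
  have h2 : (T : Subgroup G).subgroupOf M ⊓ C.subgroupOf M = ((T : Subgroup G) ⊓ C).subgroupOf M := by
    ext x; simp [Subgroup.mem_subgroupOf]
  rw [h2, ← Subgroup.subgroupOf_normalizer_eq (inf_le_left.trans hTM)] at hn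
  refine ⟨c, ⟨Subgroup.mem_subgroupOf.mp hc, c.2⟩, n, ⟨n.2, Subgroup.mem_subgroupOf.mp hn⟩, ?_⟩
  have := congrArg Subtype.val hmn
  simpa using this

theorem le_inf_normalizer_sup_of_le_normalizer [Finite G] [Fact p.Prime] (T : Sylow p G)
    (M C : Subgroup G) (hTM : (T : Subgroup G) ≤ M) (hMC : M ≤ Subgroup.normalizer (C : Set G)) :
    M ≤ (M ⊓ Subgroup.normalizer ((((T : Subgroup G) ⊓ C : Subgroup G)) : Set G)) ⊔ C := by
  intro m hm
  obtain ⟨c, hc, n, hn, rfl⟩ := exists_mul_of_mem_of_le_normalizer T M C hTM hMC hm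
  exact Subgroup.mul_mem _ (Subgroup.mem_sup_right hc.1) (Subgroup.mem_sup_left hn)

end Cfsg.Agent.Lib.Helper47_TL2
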