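import Cfsg.Agent.Lib.Helper47_Conj

set_option autoImplicit false

namespace Cfsg.Agent.Lib.Helper47_WeaklyClosed

open Cfsg
open Cfsg.Agent.Lib.Helper47_PLocal Cfsg.Agent.Lib.Helper47_PClosed Cfsg.Agent.Lib.Helper47_Conj
open Cfsg.Agent.Lib.Helper47_SubAPI
open scoped commutatorElement Pointwise

variable {G : Type*} [Group G] {p : ℕ}

/-- If `A` and `B` normalize each other then `[A, B] ≤ A ⊓ B`. -/
theorem commutator_le_inf_of_le_normalizer {A B : Subgroup G}
    (hAB : A ≤ Subgroup.normalizer (B : Set G)) (hBA : B ≤ Subgroup.normalizer (A : Set G)) :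
    ⁅A, B⁆ ≤ A ⊓ B :=
  le_inf (Subgroup.le_normalizer_iff_commutator_le_left.mp hBA)
    (Subgroup.le_normalizer_iff_commutator_le_right.mp hAB)

/-- A weakly closed subgroup satisfies the commutator criterion. -/
theorem wc_imp_comm [Finite G] [Fact p.Prime] {Q : Subgroup G} (hQp : IsPGroup p Q)
    (hwc : Cfsg.IsWeaklyClosedSubgroup p Q) :
    ∀ g : G, ⁅Q, Q.map (MulAut.conj g).toMonoidHom⁆ ≤ Q ⊓ Q.map (MulAut.conj g).toMonoidHom →
      Q.map (MulAut.conj g).toMonoidHom = Q := by
  obtain ⟨T, hQT, hT⟩ := hwc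
  intro g hg
  have h1 : Q ≤ Subgroup.normalizer ((Q.map (MulAut.conj g).toMonoidHom : Subgroup G) : Set G) :=
    Subgroup.le_normalizer_iff_commutator_le_right.mpr (hg.trans inf_le_right)
  have h2 : IsPGroup p (Q ⊔ Q.map (MulAut.conj g).toMonoidHom : Subgroup G) :=
    hQp.to_sup_of_normal_right' (hQp.map _) h1
  obtain ⟨S, hS⟩ := h2.exists_le_sylow
  obtain ⟨h, rfl⟩ := MulAction.exists_smul_eq G T S
  rw [sylow_smul_eq_map_conj] at hS
  have h3 : Q.map (MulAut.conj h⁻¹).toMonoidHom ≤ T := by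
    rw [map_conj_le_iff, inv_inv]; exact le_sup_left.trans hS
  have h4 : (Q.map (MulAut.conj g).toMonoidHom).map (MulAut.conj h⁻¹).toMonoidHom ≤ T := by
    rw [map_conj_le_iff, inv_inv]; exact le_sup_right.trans hS
  have h5 := hT _ h3
  rw [map_conj_map_conj] at h4
  have h6 := hT _ h4
  rw [← map_conj_map_conj, map_conj_eq_iff, inv_inv] at h6
  rw [map_conj_eq_iff, inv_inv] at h5
  rw [h6, ← h5]

/-- The commutator criterion implies that `Q` is normal in `N(R)` for every `p`-subgroup `R ≥ Q`. -/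
theorem comm_imp_norm [Finite G] [Fact p.Prime] {Q : Subgroup G}
    (hc : ∀ g : G, ⁅Q, Q.map (MulAut.conj g).toMonoidHom⁆ ≤ Q ⊓ Q.map (MulAut.conj g).toMonoidHom →
      Q.map (MulAut.conj g).toMonoidHom = Q) :
    ∀ R : Subgroup G, IsPGroup p R → Q ≤ R →
      Subgroup.normalizer (R : Set G) ≤ Subgroup.normalizer (Q : Set G) := by
  intro R hR hQR
  -- first `Q ⊴ R`
  have hRQ : R ≤ Subgroup.normalizer (Q : Set G) := by
    by_contra hne
    have hlt : R ⊓ Subgroup.normalizer (Q : Set G) < R :=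
      lt_of_le_of_ne inf_le_left (fun h => hne (h ▸ inf_le_right))
    obtain ⟨t, htR, htN, htn⟩ := exists_mem_normalizer_not_mem hR hlt
    rw [mem_normalizer_iff_map_conj_eq'] at htn
    have hQN : Q ≤ R ⊓ Subgroup.normalizer (Q : Set G) := le_inf hQR Subgroup.le_normalizer
    have hQtN : Q.map (MulAut.conj t).toMonoidHom ≤ R ⊓ Subgroup.normalizer (Q : Set G) := by
      rw [← htn]; exact Subgroup.map_mono hQN
    have hNQ : R ⊓ Subgroup.normalizer (Q : Set G) ≤ Subgroup.normalizer (Q : Set G) := inf_le_right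
    have hNQt : R ⊓ Subgroup.normalizer (Q : Set G) ≤
        Subgroup.normalizer ((Q.map (MulAut.conj t).toMonoidHom : Subgroup G) : Set G) := by
      rw [normalizer_map_conj, ← htn]
      exact Subgroup.map_mono hNQ
    have h1 := hc t (commutator_le_inf_of_le_normalizer (hQN.trans hNQt) (hQtN.trans hNQ))
    exact htN ⟨htR, mem_normalizer_iff_map_conj_eq'.mpr h1⟩
  intro n hn
  rw [mem_normalizer_iff_map_conj_eq'] at hn ⊢
  apply hc
  have h1 : Q.map (MulAut.conj n).toMonoidHom ≤ R := by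
    rw [← hn]; exact Subgroup.map_mono hQR
  have h2 : R ≤ Subgroup.normalizer ((Q.map (MulAut.conj n).toMonoidHom : Subgroup G) : Set G) := by
    rw [normalizer_map_conj]
    conv_lhs => rw [← hn]
    exact Subgroup.map_mono hRQ
  exact commutator_le_inf_of_le_normalizer (hQR.trans h2) (h1.trans hRQ)

/-- If `Q` is normal in `N(R)` for every `p`-subgroup `R ≥ Q`, then `Q` is weakly closed in every
Sylow `p`-subgroup containing it. -/
theorem norm_imp_wc_in [Finite G] [Fact p.Prime] {Q : Subgroup G}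
    (hn : ∀ R : Subgroup G, IsPGroup p R → Q ≤ R →
      Subgroup.normalizer (R : Set G) ≤ Subgroup.normalizer (Q : Set G))
    (T : Sylow p G) (hQT : Q ≤ (T : Subgroup G)) : Cfsg.IsWeaklyClosed Q (T : Subgroup G) := by
  refine ⟨hQT, ?_⟩
  intro g hg
  -- `T ≤ N(Q)`, `T ≤ N(Q^g)`, `T^g ≤ N(Q^g)`
  have hTQ : (T : Subgroup G) ≤ Subgroup.normalizer (Q : Set G) :=
    Subgroup.le_normalizer.trans (hn T T.isPGroup' hQT)
  have hTgP : (T : Subgroup G).map (MulAut.conj g).toMonoidHom ≤
      Subgroup.normalizer ((Q.map (MulAut.conj g).toMonoidHom : Subgroup G) : Set G) := by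
    rw [normalizer_map_conj]; exact Subgroup.map_mono hTQ
  have hTP : (T : Subgroup G) ≤
      Subgroup.normalizer ((Q.map (MulAut.conj g).toMonoidHom : Subgroup G) : Set G) := by
    -- the condition for the conjugate `Q^g`, applied to `R = T`
    have h1 : Q ≤ (T : Subgroup G).map (MulAut.conj g⁻¹).toMonoidHom :=
      (map_conj_le_iff g Q T).mp hg
    have h2 := hn _ (T.isPGroup'.map _) h1
    rw [normalizer_map_conj] at h2
    have h3 := Subgroup.map_mono (f := (MulAut.conj g).toMonoidHom) h2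
    rw [map_conj_map_conj_inv, ← normalizer_map_conj] at h3
    exact Subgroup.le_normalizer.trans h3
  obtain ⟨n, hnP, hnT⟩ := exists_mem_map_conj_eq_of_sylow_le (g • T) T
    (by rw [sylow_smul_eq_map_conj]; exact hTgP) hTP
  rw [sylow_smul_eq_map_conj, map_conj_map_conj] at hnT
  have h4 : n * g ∈ Subgroup.normalizer (Q : Set G) :=
    hn T T.isPGroup' hQT (mem_normalizer_iff_map_conj_eq'.mpr hnT)
  rw [mem_normalizer_iff_map_conj_eq', ← map_conj_map_conj] at h4
  rw [mem_normalizer_iff_map_conj_eq'] at hnP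
  rw [← hnP, h4]

theorem norm_imp_wc [Finite G] [Fact p.Prime] {Q : Subgroup G} (hQp : IsPGroup p Q)
    (hn : ∀ R : Subgroup G, IsPGroup p R → Q ≤ R →
      Subgroup.normalizer (R : Set G) ≤ Subgroup.normalizer (Q : Set G)) :
    Cfsg.IsWeaklyClosedSubgroup p Q := by
  obtain ⟨T, hQT⟩ := hQp.exists_le_sylow
  exact ⟨T, norm_imp_wc_in hn T hQT⟩

/-- A weakly closed subgroup is weakly closed in every Sylow `p`-subgroup containing it. -/
theorem wc_in_of_wc [Finite G] [Fact p.Prime] {Q : Subgroup G} (hQp : IsPGroup p Q)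
    (hwc : Cfsg.IsWeaklyClosedSubgroup p Q) (T : Sylow p G) (hQT : Q ≤ (T : Subgroup G)) :
    Cfsg.IsWeaklyClosed Q (T : Subgroup G) :=
  norm_imp_wc_in (comm_imp_norm (wc_imp_comm hQp hwc)) T hQT

theorem wc_normalizer_le [Finite G] [Fact p.Prime] {Q : Subgroup G} (hQp : IsPGroup p Q)
    (hwc : Cfsg.IsWeaklyClosedSubgroup p Q) {R : Subgroup G} (hR : IsPGroup p R) (hQR : Q ≤ R) :
    Subgroup.normalizer (R : Set G) ≤ Subgroup.normalizer (Q : Set G) :=
  comm_imp_norm (wc_imp_comm hQp hwc) R hR hQR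

/-! ### Weakly closed subgroups in overgroups; `O^p` of a subgroup in the ambient group -/


theorem map_conj_map_subtype (K : Subgroup G) (A : Subgroup K) (k : K) :
    (A.map (MulAut.conj k).toMonoidHom).map K.subtype =
      (A.map K.subtype).map (MulAut.conj (k : G)).toMonoidHom := by
  rw [Subgroup.map_map, Subgroup.map_map]
  congr 1

theorem le_map_conj_iff (a : G) (K L : Subgroup G) :
    K ≤ L.map (MulAut.conj a).toMonoidHom ↔ K.map (MulAut.conj a⁻¹).toMonoidHom ≤ L := by
  rw [map_conj_le_iff, inv_inv]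

/-- A weakly closed subgroup `Q ≤ K` is a weakly closed subgroup of `K`. -/
theorem wc_subgroupOf [Finite G] [Fact p.Prime] {Q : Subgroup G} (hQp : IsPGroup p Q)
    (hwc : Cfsg.IsWeaklyClosedSubgroup p Q) {K : Subgroup G} (hQK : Q ≤ K) :
    Cfsg.IsWeaklyClosedSubgroup p (Q.subgroupOf K) := by
  have hQ'p : IsPGroup p (Q.subgroupOf K) := hQp.comap_subtype
  apply norm_imp_wc (Q := Q.subgroupOf K) hQ'p
  intro R' hR' hQR'
  have hQR : Q ≤ R'.map K.subtype := by
    have := Subgroup.map_mono (f := K.subtype) hQR'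
    rwa [Subgroup.map_subgroupOf_eq_of_le hQK] at this
  have h1 := wc_normalizer_le hQp hwc (hR'.map K.subtype) hQR
  have h2 : R' = (R'.map K.subtype).subgroupOf K := (map_subtype_subgroupOf_map K R').symm
  rw [h2, ← Subgroup.subgroupOf_normalizer_eq (Subgroup.map_subtype_le R'),
    ← Subgroup.subgroupOf_normalizer_eq hQK]
  exact Subgroup.comap_mono h1

/-- Conjugates of a weakly closed subgroup inside `K` are conjugate in `K`. -/
theorem wc_conj_in_subgroup [Finite G] [Fact p.Prime] {Q : Subgroup G} (hQp : IsPGroup p Q)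
    (hwc : Cfsg.IsWeaklyClosedSubgroup p Q) {K : Subgroup G} (hQK : Q ≤ K) (g : G)
    (hg : Q.map (MulAut.conj g).toMonoidHom ≤ K) :
    ∃ k ∈ K, Q.map (MulAut.conj g).toMonoidHom = Q.map (MulAut.conj k).toMonoidHom := by
  have hQ'p : IsPGroup p (Q.subgroupOf K) := hQp.comap_subtype
  have hQg'p : IsPGroup p ((Q.map (MulAut.conj g).toMonoidHom).subgroupOf K) :=
    (hQp.map (MulAut.conj g).toMonoidHom).comap_subtype
  obtain ⟨S₁, hS₁⟩ := hQ'p.exists_le_sylow
  obtain ⟨S₂, hS₂⟩ := hQg'p.exists_le_sylow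
  obtain ⟨k, hk⟩ := MulAction.exists_smul_eq K S₁ S₂
  obtain ⟨T, hT⟩ := (S₁.isPGroup'.map K.subtype).exists_le_sylow
  have hQS₁ : Q ≤ (S₁ : Subgroup K).map K.subtype := by
    have := Subgroup.map_mono (f := K.subtype) hS₁
    rwa [Subgroup.map_subgroupOf_eq_of_le hQK] at this
  have hQT : Q ≤ (T : Subgroup G) := hQS₁.trans hT
  have hwcT := wc_in_of_wc hQp hwc T hQT
  have h1 : Q.map (MulAut.conj g).toMonoidHom ≤
      ((S₁ : Subgroup K).map K.subtype).map (MulAut.conj (k : G)).toMonoidHom := by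
    have := Subgroup.map_mono (f := K.subtype) hS₂
    rw [Subgroup.map_subgroupOf_eq_of_le hg, ← hk, sylow_smul_eq_map_conj,
      map_conj_map_subtype] at this
    exact this
  rw [le_map_conj_iff, map_conj_map_conj] at h1
  have h2 := hwcT.2 _ (h1.trans hT)
  refine ⟨k, k.2, ?_⟩
  rw [← map_conj_map_conj, map_conj_eq_iff, inv_inv] at h2
  exact h2



theorem map_subtype_pResidual (N : Subgroup G) :
    (Cfsg.pResidual p N).map N.subtype =
      Subgroup.closure {x : G | x ∈ N ∧ (orderOf x).Coprime p} := by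
  have h0 : Cfsg.pResidual p N = Subgroup.closure {g : N | Nat.Coprime (orderOf g) p} := rfl
  rw [h0, MonoidHom.map_closure]
  congr 1
  ext x
  constructor
  · rintro ⟨y, hy, rfl⟩
    refine ⟨y.2, ?_⟩
    have : orderOf (y : G) = orderOf y := Subgroup.orderOf_coe y
    show (orderOf (y : G)).Coprime p
    rw [this]; exact hy
  · rintro ⟨hxN, hx⟩
    refine ⟨⟨x, hxN⟩, ?_, rfl⟩
    show (orderOf (⟨x, hxN⟩ : N)).Coprime p
    rw [Subgroup.orderOf_mk]; exact hx

theorem map_subtype_pResidual_normal (N : Subgroup G) [hN : N.Normal] :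
    ((Cfsg.pResidual p N).map N.subtype).Normal := by
  rw [map_subtype_pResidual]
  apply normal_closure_of_conj_mem
  rintro s ⟨hsN, hs⟩ g
  refine ⟨hN.conj_mem s hsN g, ?_⟩
  have : g * s * g⁻¹ = MulAut.conj g s := by simp
  rw [this, MulEquiv.orderOf_eq]
  exact hs

/-- `N = O^p(N) S` for a Sylow `p`-subgroup `S` of the subgroup `N`, in the ambient group. -/
theorem map_pResidual_sup_map_sylow [Finite G] [Fact p.Prime] (N : Subgroup G) (S : Sylow p N) :
    (Cfsg.pResidual p N).map N.subtype ⊔ (S : Subgroup N).map N.subtype = N := by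
  rw [← Subgroup.map_sup, pResidual_sup_sylow_eq_top S, ← MonoidHom.range_eq_map, Subgroup.range_subtype]


/-! ### Weak closure and subnormal closure -/


theorem normalClosure_eq_iSup_map_conj (A : Subgroup G) :
    Subgroup.normalClosure (A : Set G) = ⨆ g : G, A.map (MulAut.conj g).toMonoidHom := by
  apply le_antisymm
  · unfold Subgroup.normalClosure
    rw [Subgroup.closure_le]
    intro x hx
    obtain ⟨a, ha, hax⟩ := Group.mem_conjugatesOfSet_iff.mp hx
    obtain ⟨c, rfl⟩ := isConj_iff.mp hax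
    have : A.map (MulAut.conj c).toMonoidHom ≤ ⨆ g : G, A.map (MulAut.conj g).toMonoidHom :=
      le_iSup (fun g : G => A.map (MulAut.conj g).toMonoidHom) c
    exact this ⟨a, ha, by simp⟩
  · apply iSup_le
    intro g
    rintro _ ⟨a, ha, rfl⟩
    have : (MulAut.conj g).toMonoidHom a = g * a * g⁻¹ := by simp
    rw [this]
    exact Subgroup.normalClosure_normal.conj_mem a (Subgroup.le_normalClosure ha) g

/-- All conjugates of a weakly closed subgroup `Q` lie in every subnormal subgroup containing `Q`. -/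
theorem wc_conj_le_of_isSubnormal [Finite G] [Fact p.Prime] {Q : Subgroup G} (hQp : IsPGroup p Q)
    (hwc : Cfsg.IsWeaklyClosedSubgroup p Q) {X : Subgroup G} (hX : X.IsSubnormal) :
    Q ≤ X → ∀ g : G, Q.map (MulAut.conj g).toMonoidHom ≤ X := by
  induction hX with
  | top => intro _ g; exact le_top
  | step A B hAB hB hN ih =>
    intro hQA g
    have h1 := ih (hQA.trans hAB) g
    obtain ⟨x, hx, hgx⟩ := wc_conj_in_subgroup hQp hwc (hQA.trans hAB) g h1
    rw [hgx]
    have h2 : B ≤ Subgroup.normalizer (A : Set G) :=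
      (Subgroup.normal_subgroupOf_iff_le_normalizer hAB).mp hN
    have h3 := mem_normalizer_iff_map_conj_eq'.mp (h2 hx)
    rw [← h3]
    exact Subgroup.map_mono hQA

theorem wc_subnormalClosure_eq [Finite G] [Fact p.Prime] {Q : Subgroup G} (hQp : IsPGroup p Q)
    (hwc : Cfsg.IsWeaklyClosedSubgroup p Q) :
    Cfsg.subnormalClosure Q = Subgroup.normalClosure (Q : Set G) := by
  unfold Cfsg.subnormalClosure
  apply le_antisymm
  · exact sInf_le ⟨Subgroup.le_normalClosure, Subgroup.normalClosure_normal.isSubnormal⟩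
  · apply le_sInf
    rintro X ⟨hQX, hX⟩
    rw [normalClosure_eq_iSup_map_conj]
    exact iSup_le (wc_conj_le_of_isSubnormal hQp hwc hX hQX)


end Cfsg.Agent.Lib.Helper47_WeaklyClosed
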