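import Cfsg.Agent.Lib.Helper47_PClosed
import Cfsg.Agent.Lib.Helper47_TL2
import Cfsg.Agent.Lib.Helper47_Conj
import Cfsg.Agent.Lib.Helper47_WeaklyClosed

set_option autoImplicit false

namespace Cfsg.Agent.Lib.Helper47_Avg

open Cfsg
open Cfsg.Agent.Lib.Helper47_PLocal Cfsg.Agent.Lib.Helper47_PReduced Cfsg.Agent.Lib.Helper47_SubAPI
  Cfsg.Agent.Lib.Helper47_YL Cfsg.Agent.Lib.Helper47_TL Cfsg.Agent.Lib.Helper47_TL2
  Cfsg.Agent.Lib.Helper47_Conj
open scoped commutatorElement Pointwise IsMulCommutative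

variable {G : Type*} [Group G] {p : ℕ}

/-- Averaging over the cosets of `T`: if `z ∈ V` (abelian normal) is centralized by `T` then
`z ^ |G : T| ∈ C_V(G) [V, G]`. -/
theorem pow_index_mem_center_sup_commutator [Finite G] (V : Subgroup G) [hVn : V.Normal]
    [hV : IsMulCommutative V] (T : Subgroup G) {z : G} (hz : z ∈ V)
    (hzT : ∀ t ∈ T, t * z = z * t) :
    z ^ T.index ∈ (V ⊓ Subgroup.center G) ⊔ ⁅V, (⊤ : Subgroup G)⁆ := by
  classical
  let _ : Fintype (G ⧸ T) := Fintype.ofFinite _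
  let f : G ⧸ T → V := Quotient.lift (fun g : G => (⟨g * z * g⁻¹, hVn.conj_mem z hz g⟩ : V)) (by
    intro a b hab
    have hab' : a⁻¹ * b ∈ T := QuotientGroup.leftRel_apply.mp hab
    apply Subtype.ext
    show a * z * a⁻¹ = b * z * b⁻¹
    have h1 := hzT _ hab'
    have h2 : b = a * (a⁻¹ * b) := by group
    rw [h2, mul_assoc a (a⁻¹ * b) z, h1]
    group)
  have hf : ∀ g : G, f (QuotientGroup.mk g) = ⟨g * z * g⁻¹, hVn.conj_mem z hz g⟩ := fun g => rfl
  let c : V := ∏ q, f q
  let z' : V := ⟨z, hz⟩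
  -- `c` is central
  have hc : (c : G) ∈ Subgroup.center G := by
    rw [Subgroup.mem_center_iff]
    intro h
    have h1 : (MulAut.conjNormal h : V ≃* V) c = ∏ q, (MulAut.conjNormal h : V ≃* V) (f q) :=
      map_prod (MulAut.conjNormal h : V ≃* V) f Finset.univ
    have h2 : ∀ q, (MulAut.conjNormal h : V ≃* V) (f q) = f (h • q) := by
      intro q
      induction q using QuotientGroup.induction_on with
      | H g =>
        apply Subtype.ext
        rw [MulAut.conjNormal_apply]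
        show h * (f (QuotientGroup.mk g) : G) * h⁻¹ = (f (QuotientGroup.mk (h * g)) : G)
        rw [hf, hf]
        simp only [mul_inv_rev, mul_assoc]
    have h3 : ∏ q, f (h • q) = ∏ q, f q :=
      Fintype.prod_equiv (MulAction.toPerm h) _ _ (fun q => rfl)
    have h4 : (MulAut.conjNormal h : V ≃* V) c = c := by
      rw [h1]; simp_rw [h2]; exact h3
    have h5 := congrArg Subtype.val h4
    rw [MulAut.conjNormal_apply] at h5
    calc h * (c : G) = (h * c * h⁻¹) * h := by group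
      _ = c * h := by rw [h5]
  -- `c ≡ z ^ n` modulo `[V, G]`
  have hw : ∀ q, ((f q * z'⁻¹ : V) : G) ∈ ⁅V, (⊤ : Subgroup G)⁆ := by
    intro q
    induction q using QuotientGroup.induction_on with
    | H g =>
      rw [hf]
      show g * z * g⁻¹ * z⁻¹ ∈ ⁅V, (⊤ : Subgroup G)⁆
      rw [Subgroup.commutator_comm]
      exact Subgroup.commutator_mem_commutator (Subgroup.mem_top g) hz
  have hP : (∏ q, (f q * z'⁻¹)) ∈ (⁅V, (⊤ : Subgroup G)⁆).subgroupOf V :=
    Subgroup.prod_mem _ (fun q _ => Subgroup.mem_subgroupOf.mpr (hw q))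
  have hP2 : ∏ q, (f q * z'⁻¹) = c * (z'⁻¹) ^ T.index := by
    rw [Finset.prod_mul_distrib, Finset.prod_const, Finset.card_univ, Subgroup.index_eq_card,
      Nat.card_eq_fintype_card]
  have hz' : z' ^ T.index = (∏ q, (f q * z'⁻¹))⁻¹ * c := by
    rw [hP2, inv_pow]; group
  have hz'' : z ^ T.index = ((∏ q, (f q * z'⁻¹))⁻¹ : V) * (c : G) := by
    have := congrArg Subtype.val hz'
    simpa using this
  rw [hz'']
  exact Subgroup.mul_mem _
    (Subgroup.mem_sup_right (Subgroup.inv_mem _ (Subgroup.mem_subgroupOf.mp hP)))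
    (Subgroup.mem_sup_left ⟨c.2, hc⟩)

/-- If `z ∈ V` has order dividing `p` and is centralized by a Sylow `p`-subgroup, then
`z ∈ C_V(G) [V, G]`. -/
theorem mem_center_sup_commutator_of_sylow [Finite G] [Fact p.Prime] (T : Sylow p G)
    (V : Subgroup G) [V.Normal] [IsMulCommutative V] {z : G} (hz : z ∈ V) (hzp : z ^ p = 1)
    (hzT : z ∈ Subgroup.centralizer ((T : Subgroup G) : Set G)) :
    z ∈ (V ⊓ Subgroup.center G) ⊔ ⁅V, (⊤ : Subgroup G)⁆ := by
  have h1 := pow_index_mem_center_sup_commutator V (T : Subgroup G) hz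
    (fun t ht => (Subgroup.mem_centralizer_iff.mp hzT) t ht)
  have h2 : z ^ p ∈ (V ⊓ Subgroup.center G) ⊔ ⁅V, (⊤ : Subgroup G)⁆ := by
    rw [hzp]; exact Subgroup.one_mem _
  have hcop : ((T : Subgroup G).index).Coprime p := by
    have := T.not_dvd_index
    exact ((Nat.Prime.coprime_iff_not_dvd Fact.out).mpr this).symm
  exact Cfsg.Agent.Lib.Helper47_PClosed.mem_of_pow_mem_of_pow_mem_of_coprime hcop h1 h2

/-- Let `Z` be a normal elementary abelian `p`-subgroup of `L` generated by the conjugates of a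
subgroup `Z₀` centralized by a Sylow `p`-subgroup. Then `Z = C_Z(L) [Z, O^p(L)]` and
`[Z, L] = [Z, O^p(L)]`. -/
theorem normalClosure_decomp [Finite G] [Fact p.Prime] (T : Sylow p G) (Z : Subgroup G)
    [hZn : Z.Normal] (hZ : Cfsg.IsElementaryAbelian p Z) (Z₀ : Subgroup G) (hZ₀Z : Z₀ ≤ Z)
    (hZ₀T : Z₀ ≤ Subgroup.centralizer ((T : Subgroup G) : Set G))
    (hgen : Z ≤ Subgroup.normalClosure (Z₀ : Set G)) :
    Z = (Z ⊓ Subgroup.center G) ⊔ ⁅Z, Cfsg.pResidual p G⁆ ∧
      ⁅Z, (⊤ : Subgroup G)⁆ = ⁅Z, Cfsg.pResidual p G⁆ := by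
  have := hZ.1
  have hKn : (Cfsg.pResidual p G).Normal := Cfsg.Agent.Lib.Helper47_PClosed.pResidual_normal p G
  set K := Cfsg.pResidual p G with hK
  set W : Subgroup G := ⁅Z, K⁆ with hW
  have hWn : W.Normal := Subgroup.commutator_normal Z K
  have hWZ : W ≤ Z := Subgroup.commutator_le_left Z K
  have hKT : K ⊔ (T : Subgroup G) = ⊤ :=
    Cfsg.Agent.Lib.Helper47_PClosed.pResidual_sup_sylow_eq_top T
  -- `[T, Z] ≤ W`
  have h1 : Z ≤ commKer (T : Subgroup G) W := by
    refine hgen.trans ?_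
    unfold Subgroup.normalClosure
    rw [Subgroup.closure_le]
    intro x hx
    obtain ⟨z₀, hz₀, hconj⟩ := Group.mem_conjugatesOfSet_iff.mp hx
    obtain ⟨g, rfl⟩ := isConj_iff.mp hconj
    have hg : g ∈ K ⊔ (T : Subgroup G) := hKT ▸ Subgroup.mem_top g
    obtain ⟨k, hk, t, ht, rfl⟩ := Subgroup.mem_sup_of_normal_left.mp hg
    have htz : t * z₀ * t⁻¹ = z₀ := by
      have := (Subgroup.mem_centralizer_iff.mp (hZ₀T hz₀)) t ht
      rw [this]; group
    have h2 : k * t * z₀ * (k * t)⁻¹ = ⁅k, z₀⁆ * z₀ := by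
      have : k * t * z₀ * (k * t)⁻¹ = k * (t * z₀ * t⁻¹) * k⁻¹ := by group
      rw [this, htz, commutatorElement_def]; group
    show k * t * z₀ * (k * t)⁻¹ ∈ commKer (T : Subgroup G) W
    rw [h2]
    refine Subgroup.mul_mem _ ?_ ?_
    · -- `W ≤ commKer T W`
      have hkz : ⁅k, z₀⁆ ∈ W := by
        rw [hW, Subgroup.commutator_comm]
        exact Subgroup.commutator_mem_commutator hk (hZ₀Z hz₀)
      intro s _
      rw [commutatorElement_def]
      exact W.mul_mem (hWn.conj_mem _ hkz s) (W.inv_mem hkz)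
    · intro s hs
      have := (Subgroup.mem_centralizer_iff.mp (hZ₀T hz₀)) s hs
      rw [commutatorElement_def, this]
      simp
  have h2 : ⁅Z, (T : Subgroup G)⁆ ≤ W := by
    rw [Subgroup.commutator_comm]; exact le_commKer_iff.mp h1
  have h3 : ⁅Z, (⊤ : Subgroup G)⁆ = W := by
    apply le_antisymm
    · rw [← le_commKer_iff, ← hKT]
      exact sup_le (le_commKer_iff.mpr le_rfl) (le_commKer_iff.mpr h2)
    · exact Subgroup.commutator_mono le_rfl le_top
  refine ⟨le_antisymm ?_ (sup_le inf_le_left hWZ), h3⟩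
  have hcn : (Z ⊓ Subgroup.center G).Normal := inferInstance
  have hBn : ((Z ⊓ Subgroup.center G) ⊔ W).Normal := inferInstance
  refine hgen.trans (Subgroup.normalClosure_le_normal ?_)
  intro z₀ hz₀
  have := mem_center_sup_commutator_of_sylow T Z (hZ₀Z hz₀) (hZ.2 _ (hZ₀Z hz₀)) (hZ₀T hz₀)
  rwa [h3] at this

/-! ### `Z_L` as a normal closure -/

theorem map_omegaOne_of_injective {G' : Type*} [Group G'] (f : G →* G')
    (hf : Function.Injective f) (A : Subgroup G) :
    (Cfsg.omegaOne p A).map f = Cfsg.omegaOne p (A.map f) := by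
  unfold Cfsg.omegaOne
  rw [MonoidHom.map_closure]
  congr 1
  ext x
  constructor
  · rintro ⟨y, ⟨hy, hyp⟩, rfl⟩
    refine ⟨Subgroup.mem_map_of_mem _ hy, ?_⟩
    rw [← map_pow, hyp, map_one]
  · rintro ⟨⟨y, hy, rfl⟩, hxp⟩
    refine ⟨y, ⟨hy, hf ?_⟩, rfl⟩
    rw [map_pow, hxp, map_one]

theorem omegaOne_center_map_conj (g : G) (A : Subgroup G) :
    (Cfsg.omegaOne p (A ⊓ Subgroup.centralizer (A : Set G))).map (MulAut.conj g).toMonoidHom =
      Cfsg.omegaOne p (A.map (MulAut.conj g).toMonoidHom ⊓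
        Subgroup.centralizer ((A.map (MulAut.conj g).toMonoidHom : Subgroup G) : Set G)) := by
  rw [map_omegaOne_of_injective _ (MulAut.conj g).injective,
    Subgroup.map_inf _ _ _ (MulAut.conj g).injective,
    Cfsg.Agent.Lib.Helper47_Large.centralizer_map_conj]

/-- Type-level `Z_G`: the join of the `Ω₁(Z(S))` over the Sylow `p`-subgroups. -/
def sylowCenterJoin (p : ℕ) (G : Type*) [Group G] : Subgroup G :=
  ⨆ S : Sylow p G, Cfsg.omegaOne p ((S : Subgroup G) ⊓ Subgroup.centralizer ((S : Subgroup G) : Set G))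

theorem sylowCenterJoin_eq_normalClosure [Finite G] [Fact p.Prime] (T : Sylow p G) :
    sylowCenterJoin p G = Subgroup.normalClosure
      ((Cfsg.omegaOne p ((T : Subgroup G) ⊓ Subgroup.centralizer ((T : Subgroup G) : Set G)) :
        Subgroup G) : Set G) := by
  rw [Cfsg.Agent.Lib.Helper47_WeaklyClosed.normalClosure_eq_iSup_map_conj]
  unfold sylowCenterJoin
  apply le_antisymm
  · refine iSup_le fun S => ?_
    obtain ⟨g, rfl⟩ := MulAction.exists_smul_eq G T S
    rw [sylow_smul_eq_map_conj, ← omegaOne_center_map_conj]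
    exact le_iSup (fun g : G => (Cfsg.omegaOne p ((T : Subgroup G) ⊓
      Subgroup.centralizer ((T : Subgroup G) : Set G))).map (MulAut.conj g).toMonoidHom) g
  · refine iSup_le fun g => ?_
    rw [omegaOne_center_map_conj, ← sylow_smul_eq_map_conj]
    exact le_iSup (fun S : Sylow p G => Cfsg.omegaOne p ((S : Subgroup G) ⊓
      Subgroup.centralizer ((S : Subgroup G) : Set G))) (g • T)

theorem sylowCenterClosure_eq_map (L : Subgroup G) :
    Cfsg.sylowCenterClosure p L = (sylowCenterJoin p ↥L).map L.subtype := by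
  unfold Cfsg.sylowCenterClosure sylowCenterJoin
  rw [Subgroup.map_iSup]
  congr 1
  funext S
  rw [map_omegaOne, map_inf_centralizer]

theorem isElementaryAbelian_of_le {A B : Subgroup G} (hB : Cfsg.IsElementaryAbelian p B)
    (hAB : A ≤ B) : Cfsg.IsElementaryAbelian p A := by
  refine ⟨⟨⟨fun a b => Subtype.ext ?_⟩⟩, fun a ha => hB.2 a (hAB ha)⟩
  have := hB.1
  have h := congrArg Subtype.val (mul_comm' (⟨a.1, hAB a.2⟩ : B) ⟨b.1, hAB b.2⟩)
  exact h

/-- The type-level `Z_L` of a group of characteristic `p` is elementary abelian. -/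
theorem isElementaryAbelian_sylowCenterJoin [Finite G] [Fact p.Prime] (L : Subgroup G)
    (hL : Subgroup.centralizer (Cfsg.pCore p ↥L : Set ↥L) ≤ Cfsg.pCore p ↥L) :
    Cfsg.IsElementaryAbelian p (sylowCenterJoin p ↥L) := by
  rw [← isElementaryAbelian_map_subtype_iff, ← sylowCenterClosure_eq_map]
  exact isElementaryAbelian_of_le (pRedIn_largestPReducedOf p L).2.2.1
    (sylowCenterClosure_le_largestPReducedOf L hL)

end Cfsg.Agent.Lib.Helper47_Avg
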