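import Mathlib.GroupTheory.Sylow
import Mathlib.GroupTheory.Nilpotent
import Mathlib.GroupTheory.IsSubnormal
import Cfsg.Prelude.Def_Solvable

/-!
helper49: groups of characteristic `p` (`C_G(O_p(G)) ≤ O_p(G)`), elementary lemmas.

* basic API of `Cfsg.pCore`
* the stability lemma for `p'`-elements
* subgroups normalized by `O_p(G)`, subnormal subgroups, self-centralizing normal subgroups of a
  Sylow subgroup and their overgroups.
-/

set_option autoImplicit false

namespace Cfsg.Agent.Lib.Helper49_CharP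

open Cfsg

/-! ### The `p`-core -/

theorem pCoreNormal (p : ℕ) (G : Type*) [Group G] : (pCore p G).Normal :=
  Subgroup.sSup_normal _ (fun _ h => h.1)

theorem pCore_isPGroup (p : ℕ) (G : Type*) [Group G] : IsPGroup p (pCore p G) :=
  Sylow.sSup_of_normal _ (fun _ h => h.2) (fun _ h => h.1)

theorem le_pCore {p : ℕ} {G : Type*} [Group G] {N : Subgroup G} (hN : N.Normal)
    (hp : IsPGroup p N) : N ≤ pCore p G :=
  le_sSup ⟨hN, hp⟩

theorem pCore_le_sylow {p : ℕ} {G : Type*} [Group G] (P : Sylow p G) :
    pCore p G ≤ (P : Subgroup G) :=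
  haveI := pCoreNormal p G
  (pCore_isPGroup p G).le_sylow_of_normal P

theorem map_pCore_mulEquiv_le {p : ℕ} {A B : Type*} [Group A] [Group B] (e : A ≃* B) :
    (pCore p A).map (e : A →* B) ≤ pCore p B := by
  apply le_pCore
  · exact (pCoreNormal p A).map _ e.surjective
  · exact (pCore_isPGroup p A).map _

/-- The image of the `p`-core under an isomorphism is the `p`-core. -/
theorem map_pCore_mulEquiv {p : ℕ} {A B : Type*} [Group A] [Group B] (e : A ≃* B) :
    (pCore p A).map (e : A →* B) = pCore p B := by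
  apply le_antisymm (map_pCore_mulEquiv_le e)
  intro x hx
  have := map_pCore_mulEquiv_le e.symm ⟨x, hx, rfl⟩
  exact ⟨e.symm x, this, by simp⟩

theorem pCore_characteristic (p : ℕ) (G : Type*) [Group G] : (pCore p G).Characteristic :=
  Subgroup.characteristic_iff_map_le.mpr (fun φ => (map_pCore_mulEquiv φ).le)

/-! ### Elements of `p`-power order and of order prime to `p` -/

/-- Elements of a `p`-subgroup have `p`-power order. -/
theorem orderOf_eq_pow_of_mem {G : Type*} [Group G] {p : ℕ} [Fact p.Prime] {R : Subgroup G}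
    (hR : IsPGroup p R) {c : G} (hc : c ∈ R) : ∃ k, orderOf c = p ^ k := by
  obtain ⟨k, hk⟩ := (IsPGroup.iff_orderOf.mp hR) ⟨c, hc⟩
  exact ⟨k, by rw [← hk, Subgroup.orderOf_mk]⟩

/-- An element of `p`-power order which has order prime to `p` is trivial. -/
theorem eq_one_of_coprime_of_pow {G : Type*} [Group G] {p : ℕ} [Fact p.Prime] {x : G}
    (hk : ∃ k, orderOf x = p ^ k) (hc : (orderOf x).Coprime p) : x = 1 := by
  obtain ⟨k, hk⟩ := hk
  rw [hk] at hc
  rcases Nat.eq_zero_or_pos k with h0 | hpos
  · rw [h0, pow_zero] at hk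
    exact orderOf_eq_one_iff.mp hk
  · exfalso
    have h1 : p ∣ Nat.gcd (p ^ k) p := Nat.dvd_gcd (dvd_pow_self p hpos.ne') dvd_rfl
    have h2 : Nat.gcd (p ^ k) p = 1 := hc
    rw [h2] at h1
    exact (Fact.out : p.Prime).one_lt.ne' (Nat.dvd_one.mp h1)

/-- A `p'`-element of a `p`-subgroup is trivial. -/
theorem eq_one_of_coprime_of_mem {G : Type*} [Group G] {p : ℕ} [Fact p.Prime] {R : Subgroup G}
    (hR : IsPGroup p R) {x : G} (hx : x ∈ R) (hc : (orderOf x).Coprime p) : x = 1 :=
  eq_one_of_coprime_of_pow (orderOf_eq_pow_of_mem hR hx) hc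

/-- The stability lemma: if the `p'`-element `x` satisfies `x r x⁻¹ = r c` with `c` a `p`-element
commuting with `x`, then `x` commutes with `r`. -/
theorem commute_of_coprime_of_conj_eq_mul {G : Type*} [Group G] {p : ℕ} [Fact p.Prime]
    (x r c : G) (hx : (orderOf x).Coprime p)
    (hc : x * r * x⁻¹ = r * c) (hxc : Commute x c) (hcp : ∃ k, orderOf c = p ^ k) :
    Commute x r := by
  have h : ∀ k : ℕ, x ^ k * r * (x ^ k)⁻¹ = r * c ^ k := by
    intro k
    induction k with
    | zero => simp
    | succ k ih =>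
      have h1 : x ^ (k + 1) * r * (x ^ (k + 1))⁻¹ = x * (x ^ k * r * (x ^ k)⁻¹) * x⁻¹ := by
        rw [pow_succ']; group
      rw [h1, ih]
      have h2 : x * (r * c ^ k) * x⁻¹ = (x * r * x⁻¹) * (x * c ^ k * x⁻¹) := by group
      rw [h2, hc]
      have h3 : x * c ^ k * x⁻¹ = c ^ k := by
        have := (hxc.pow_right k).eq
        rw [this]; group
      rw [h3, pow_succ']; group
  have h4 := h (orderOf x)
  rw [pow_orderOf_eq_one] at h4
  simp only [one_mul, inv_one, mul_one] at h4
  have h4' : c ^ orderOf x = 1 := by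
    have := mul_left_cancel (a := r) (b := 1) (c := c ^ orderOf x) (by rw [mul_one]; exact h4)
    exact this.symm
  obtain ⟨j, hj⟩ := hcp
  have h5 : orderOf c ∣ orderOf x := orderOf_dvd_of_pow_eq_one h4'
  have h6 : (orderOf x).Coprime (orderOf c) := by
    rw [hj]; exact Nat.Coprime.pow_right j hx
  have h7 : orderOf c = 1 := Nat.eq_one_of_dvd_coprimes h6 h5 dvd_rfl
  have h8 : c = 1 := orderOf_eq_one_iff.mp h7
  rw [h8, mul_one] at hc
  show x * r = r * x
  calc x * r = x * r * x⁻¹ * x := by group
    _ = r * x := by rw [hc]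

/-- A subgroup of a finite group all of whose `p'`-elements are trivial is a `p`-group. -/
theorem isPGroup_of_forall_coprime_eq_one {G : Type*} [Group G] [Finite G] {p : ℕ} [Fact p.Prime]
    (L : Subgroup G) (h : ∀ x ∈ L, (orderOf x).Coprime p → x = 1) : IsPGroup p L := by
  intro g
  have hpos : 0 < orderOf (g : G) := orderOf_pos _
  obtain ⟨k, m, hm, hkm⟩ := Nat.exists_eq_pow_mul_and_not_dvd hpos.ne' p (Fact.out : p.Prime).ne_one
  refine ⟨k, ?_⟩
  have h1 : orderOf ((g : G) ^ (p ^ k)) = m := by
    rw [orderOf_pow' _ (pow_ne_zero k (Fact.out : p.Prime).ne_zero), hkm]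
    rw [Nat.gcd_eq_right (dvd_mul_right _ _)]
    exact Nat.mul_div_cancel_left m (pow_pos (Fact.out : p.Prime).pos k)
  have h2 : (orderOf ((g : G) ^ (p ^ k))).Coprime p := by
    rw [h1]
    exact ((Nat.Prime.coprime_iff_not_dvd (Fact.out : p.Prime)).mpr hm).symm
  have h3 := h _ (L.pow_mem g.2 _) h2
  exact Subtype.ext (by simpa using h3)

/-! ### Characteristic `p` -/

/-- `A` has characteristic `p`: `C_A(O_p(A)) ≤ O_p(A)`. -/
def IsCharP (p : ℕ) (A : Type*) [Group A] : Prop :=
  Subgroup.centralizer (pCore p A : Set A) ≤ pCore p A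

theorem isCharP_iff (p : ℕ) (A : Type*) [Group A] :
    IsCharP p A ↔ Subgroup.centralizer (pCore p A : Set A) ≤ pCore p A := Iff.rfl

/-- Characteristic `p` is invariant under isomorphism. -/
theorem IsCharP.of_mulEquiv {p : ℕ} {A B : Type*} [Group A] [Group B] (e : A ≃* B)
    (h : IsCharP p A) : IsCharP p B := by
  intro x hx
  rw [← map_pCore_mulEquiv e]
  refine ⟨e.symm x, h ?_, by simp⟩
  rw [Subgroup.mem_centralizer_iff]
  intro a ha
  apply e.injective
  have hea : e a ∈ pCore p B := by
    rw [← map_pCore_mulEquiv e]; exact ⟨a, ha, rfl⟩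
  have := (Subgroup.mem_centralizer_iff.mp hx) (e a) hea
  simpa using this

/-- The elements of a group of characteristic `p` of order prime to `p` which centralize `O_p`
are trivial. -/
theorem IsCharP.eq_one_of_coprime {p : ℕ} [Fact p.Prime] {G : Type*} [Group G]
    (hG : IsCharP p G) {x : G} (hx : (orderOf x).Coprime p)
    (hcomm : ∀ q ∈ pCore p G, Commute x q) : x = 1 := by
  have h1 : x ∈ Subgroup.centralizer (pCore p G : Set G) := by
    rw [Subgroup.mem_centralizer_iff]
    intro q hq
    exact ((hcomm q hq).eq).symm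
  exact eq_one_of_coprime_of_mem (pCore_isPGroup p G) (hG h1) hx

/-- A subgroup of a group of characteristic `p` which is normalized by `O_p(G)` has
characteristic `p`. -/
theorem IsCharP.of_normalizedBy {p : ℕ} [Fact p.Prime] {G : Type*} [Group G] [Finite G]
    (hG : IsCharP p G) (L : Subgroup G) (hL : pCore p G ≤ Subgroup.normalizer (L : Set G)) :
    IsCharP p L := by
  classical
  have hQn : (pCore p G).Normal := pCoreNormal p G
  have hRn : (pCore p L).Normal := pCoreNormal p L
  -- `O_p(G) ∩ L ≤ O_p(L)`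
  have hQL : ((pCore p G) ⊓ L).subgroupOf L ≤ pCore p L := by
    apply le_pCore
    · have : ((pCore p G) ⊓ L).subgroupOf L = (pCore p G).subgroupOf L := by
        ext x; simp [Subgroup.mem_subgroupOf]
      rw [this]
      infer_instance
    · have h1 : IsPGroup p ↥((pCore p G) ⊓ L) := (pCore_isPGroup p G).to_le inf_le_left
      exact h1.comap_subtype
  -- the centralizer is a `p`-group
  have hCp : IsPGroup p (Subgroup.centralizer (pCore p L : Set L)) := by
    apply isPGroup_of_forall_coprime_eq_one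
    intro x hx hxo
    have hxo' : (orderOf (x : G)).Coprime p := by rwa [Subgroup.orderOf_coe]
    have hx1 : (x : G) = 1 := by
      apply hG.eq_one_of_coprime hxo'
      intro q hq
      -- c = q⁻¹ x q x⁻¹
      have hcQ : q⁻¹ * (x : G) * q * (x : G)⁻¹ ∈ pCore p G := by
        have h1 : (x : G) * q * (x : G)⁻¹ ∈ pCore p G := hQn.conj_mem q hq x
        have : q⁻¹ * (x : G) * q * (x : G)⁻¹ = q⁻¹ * ((x : G) * q * (x : G)⁻¹) := by group
        rw [this]
        exact mul_mem (inv_mem hq) h1
      have hcL : q⁻¹ * (x : G) * q * (x : G)⁻¹ ∈ L := by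
        have h1 : q⁻¹ * (x : G) * q ∈ L :=
          (Subgroup.mem_normalizer_iff''.mp (hL hq) (x : G)).mp x.2
        exact mul_mem h1 (inv_mem x.2)
      have hcR : (⟨q⁻¹ * (x : G) * q * (x : G)⁻¹, hcL⟩ : L) ∈ pCore p L :=
        hQL (by simp only [Subgroup.mem_subgroupOf]; exact ⟨hcQ, hcL⟩)
      have hcomm : Commute (x : G) (q⁻¹ * (x : G) * q * (x : G)⁻¹) := by
        have := (Subgroup.mem_centralizer_iff.mp hx) _ hcR
        have h2 := congrArg Subtype.val this
        simp only [Subgroup.coe_mul] at h2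
        exact h2.symm
      refine commute_of_coprime_of_conj_eq_mul (p := p) (x : G) q
        (q⁻¹ * (x : G) * q * (x : G)⁻¹) hxo' (by group) hcomm
        (orderOf_eq_pow_of_mem (pCore_isPGroup p G) hcQ)
    exact Subtype.ext (by simpa using hx1)
  exact le_pCore inferInstance hCp

/-- A normal subgroup of a group of characteristic `p` has characteristic `p`. -/
theorem IsCharP.of_normal {p : ℕ} [Fact p.Prime] {G : Type*} [Group G] [Finite G]
    (hG : IsCharP p G) (L : Subgroup G) [hL : L.Normal] : IsCharP p L := by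
  apply hG.of_normalizedBy
  rw [Subgroup.normalizer_eq_top_iff.mpr hL]
  exact le_top

/-- A subnormal subgroup of a group of characteristic `p` has characteristic `p`. -/
theorem IsCharP.of_isSubnormal {p : ℕ} [Fact p.Prime] {G : Type*} [Group G] [Finite G]
    (hG : IsCharP p G) (L : Subgroup G) (hL : L.IsSubnormal) : IsCharP p L := by
  induction hL with
  | top => exact hG.of_mulEquiv Subgroup.topEquiv.symm
  | step H K h_le _ hN ih =>
    have h1 : IsCharP p (H.subgroupOf K) := ih.of_normal (H.subgroupOf K)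
    exact h1.of_mulEquiv (Subgroup.subgroupOfEquivOfLe h_le)

end Cfsg.Agent.Lib.Helper49_CharP
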