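import Cfsg.Agent.Lib.Helper47_SubAPI
import Cfsg.Agent.Lib.Helper47_Conj
import Cfsg.Agent.Lib.Helper24_CoprimeAction
import Cfsg.Agent.Lib.Helper49_CharP

/-!
Thompson–Wielandt (Knapp's form), part 1: relative cores, the primitive set-up and "Lemma T":
if the second core `A₂` of `M` is not a `p`-group then `O_p(M) = 1`.
-/

set_option autoImplicit false

namespace Cfsg.Agent.Lib.Helper47_TW

open Cfsg
open Cfsg.Agent.Lib.Helper47_PLocal Cfsg.Agent.Lib.Helper47_SubAPI
  Cfsg.Agent.Lib.Helper47_PClosed Cfsg.Agent.Lib.Helper47_Conj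

variable {G : Type*} [Group G]

/-! ### Relative cores -/

/-- the core of `H` in `M`, as a subgroup of the ambient group -/
def relCore (M H : Subgroup G) : Subgroup G := (H.subgroupOf M).normalCore.map M.subtype

theorem mem_relCore {M H : Subgroup G} {x : G} :
    x ∈ relCore M H ↔ x ∈ M ∧ ∀ m ∈ M, m * x * m⁻¹ ∈ H := by
  unfold relCore
  constructor
  · rintro ⟨y, hy, rfl⟩
    refine ⟨y.2, fun m hm => ?_⟩
    have h1 : (⟨m, hm⟩ : ↥M) * y * (⟨m, hm⟩ : ↥M)⁻¹ ∈ H.subgroupOf M := hy ⟨m, hm⟩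
    rw [Subgroup.mem_subgroupOf] at h1
    simpa using h1
  · rintro ⟨hx, h⟩
    refine ⟨⟨x, hx⟩, ?_, rfl⟩
    intro b
    rw [Subgroup.mem_subgroupOf]
    simpa using h b b.2

theorem relCore_le_left (M H : Subgroup G) : relCore M H ≤ M := fun _ hx => (mem_relCore.mp hx).1

theorem relCore_le_right (M H : Subgroup G) : relCore M H ≤ H := by
  intro x hx
  have := (mem_relCore.mp hx).2 1 M.one_mem
  simpa using this

theorem le_normalizer_relCore (M H : Subgroup G) :
    M ≤ Subgroup.normalizer ((relCore M H : Subgroup G) : Set G) := by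
  unfold relCore
  exact (normal_iff_le_normalizer_map M _).mp inferInstance

theorem le_relCore {M H K : Subgroup G} (hKM : K ≤ M) (hKH : K ≤ H)
    (hn : M ≤ Subgroup.normalizer (K : Set G)) : K ≤ relCore M H := by
  intro x hx
  rw [mem_relCore]
  refine ⟨hKM hx, fun m hm => hKH ?_⟩
  exact (Subgroup.mem_normalizer_iff.mp (hn hm) x).mp hx

/-- first core -/
def c1 (M N : Subgroup G) : Subgroup G := relCore M (M ⊓ N)

/-- second core -/
def c2 (M N : Subgroup G) : Subgroup G := relCore M (c1 M N ⊓ c1 N M)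

theorem c1_le_left (M N : Subgroup G) : c1 M N ≤ M := relCore_le_left _ _
theorem c1_le_right (M N : Subgroup G) : c1 M N ≤ N := (relCore_le_right _ _).trans inf_le_right
theorem c2_le_c1 (M N : Subgroup G) : c2 M N ≤ c1 M N := (relCore_le_right _ _).trans inf_le_left
theorem c2_le_c1' (M N : Subgroup G) : c2 M N ≤ c1 N M := (relCore_le_right _ _).trans inf_le_right
theorem c2_le_left (M N : Subgroup G) : c2 M N ≤ M := relCore_le_left _ _
theorem c2_le_right (M N : Subgroup G) : c2 M N ≤ N := (c2_le_c1 M N).trans (c1_le_right M N)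

/-! ### The set-up -/

/-- two distinct conjugate core-free maximal subgroups -/
structure Setup (M N : Subgroup G) : Prop where
  coM : IsCoatom M
  coN : IsCoatom N
  coreM : M.normalCore = ⊥
  coreN : N.normalCore = ⊥
  ne : M ≠ N
  conj : ∃ g : G, N = M.map (MulAut.conj g).toMonoidHom

theorem Setup.symm {M N : Subgroup G} (h : Setup M N) : Setup N M := by
  obtain ⟨g, hg⟩ := h.conj
  refine ⟨h.coN, h.coM, h.coreN, h.coreM, h.ne.symm, g⁻¹, ?_⟩
  rw [hg, map_conj_inv_map_conj]

theorem Setup.sup_eq_top {M N : Subgroup G} (h : Setup M N) : M ⊔ N = ⊤ := by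
  by_contra hne
  have h1 : M ⊔ N = M := by
    rcases (h.coM.le_iff).mp (le_sup_left : M ≤ M ⊔ N) with h2 | h2
    · exact absurd h2 hne
    · exact h2
  have h2 : N ≤ M := by rw [← h1]; exact le_sup_right
  rcases (h.coN.le_iff).mp h2 with h3 | h3
  · exact h.coM.1 h3
  · exact h.ne h3

theorem Setup.normalizer_eq {M N : Subgroup G} (h : Setup M N) {U : Subgroup G} (hU : U ≠ ⊥)
    (hUM : U ≤ M) (hn : M ≤ Subgroup.normalizer (U : Set G)) :
    Subgroup.normalizer (U : Set G) = M := by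
  rcases (h.coM.le_iff).mp hn with h2 | h2
  · exfalso
    have hUn : U.Normal := Subgroup.normalizer_eq_top_iff.mp h2
    have h3 : U ≤ M.normalCore := (Subgroup.normal_le_normalCore).mpr hUM
    rw [h.coreM] at h3
    exact hU (eq_bot_iff.mpr h3)
  · exact h2

theorem Setup.centralizer_le {M N : Subgroup G} (h : Setup M N) {U : Subgroup G} (hU : U ≠ ⊥)
    (hUM : U ≤ M) (hn : M ≤ Subgroup.normalizer (U : Set G)) :
    Subgroup.centralizer (U : Set G) ≤ M := by
  rw [← h.normalizer_eq hU hUM hn]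
  exact Subgroup.centralizer_le_normalizer _

/-- a subgroup normalized by both `M` and `N` and contained in `M` is trivial -/
theorem Setup.eq_bot_of_normalized {M N : Subgroup G} (h : Setup M N) {U : Subgroup G}
    (hUM : U ≤ M) (hM : M ≤ Subgroup.normalizer (U : Set G))
    (hN : N ≤ Subgroup.normalizer (U : Set G)) : U = ⊥ := by
  have h1 : Subgroup.normalizer (U : Set G) = ⊤ := by
    rw [eq_top_iff, ← h.sup_eq_top]
    exact sup_le hM hN
  have hUn : U.Normal := Subgroup.normalizer_eq_top_iff.mp h1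
  have h3 : U ≤ M.normalCore := (Subgroup.normal_le_normalCore).mpr hUM
  rw [h.coreM] at h3
  exact eq_bot_iff.mpr h3


/-! ### Small general lemmas -/

theorem mem_normalizer_inf {A B : Subgroup G} {b : G}
    (ha : b ∈ Subgroup.normalizer (A : Set G)) (hb : b ∈ Subgroup.normalizer (B : Set G)) :
    b ∈ Subgroup.normalizer ((A ⊓ B : Subgroup G) : Set G) := by
  rw [Subgroup.mem_normalizer_iff] at ha hb ⊢
  intro x
  rw [Subgroup.mem_inf, Subgroup.mem_inf, ha x, hb x]

theorem normalizer_le_normalizer_pCoreOf' (p : ℕ) (X : Subgroup G) :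
    Subgroup.normalizer (X : Set G) ≤
      Subgroup.normalizer ((pCoreOf p X : Subgroup G) : Set G) := by
  have : (pCore p ↥X).Characteristic := Cfsg.Agent.Lib.Helper49_CharP.pCore_characteristic p ↥X
  exact Cfsg.Agent.Lib.Helper24_CoprimeAction.normalizer_le_normalizer_map_of_characteristic X
    (pCore p ↥X)

theorem orderOf_conj' (z x : G) : orderOf (z * x * z⁻¹) = orderOf x := by
  have := orderOf_injective (MulAut.conj z).toMonoidHom (MulAut.conj z).injective x
  simpa using this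

/-! ### `O^p` of a subgroup: generated by the `p'`-elements -/

/-- the `p'`-elements of a subgroup -/
def pPrimeElts (p : ℕ) (A : Subgroup G) : Set G := {x | x ∈ A ∧ (orderOf x).Coprime p}

/-- `O^p(A)`, the subgroup generated by the `p'`-elements of `A` -/
def opUp (p : ℕ) (A : Subgroup G) : Subgroup G := Subgroup.closure (pPrimeElts p A)

theorem opUp_le (p : ℕ) (A : Subgroup G) : opUp p A ≤ A := by
  unfold opUp
  rw [Subgroup.closure_le]
  exact fun x hx => hx.1

/-- a subgroup moving the generators into `O^p(A)` normalizes it -/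
theorem le_normalizer_opUp_of {p : ℕ} {A Y : Subgroup G}
    (h : ∀ y ∈ Y, ∀ x ∈ pPrimeElts p A, y * x * y⁻¹ ∈ opUp p A) :
    Y ≤ Subgroup.normalizer ((opUp p A : Subgroup G) : Set G) := by
  apply le_normalizer_of_forall_map_conj_le
  intro y hy
  unfold opUp
  rw [MonoidHom.map_closure, Subgroup.closure_le]
  rintro _ ⟨x, hx, rfl⟩
  exact h y hy x hx

theorem normalizer_le_normalizer_opUp (p : ℕ) (A : Subgroup G) :
    Subgroup.normalizer (A : Set G) ≤ Subgroup.normalizer ((opUp p A : Subgroup G) : Set G) := by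
  apply le_normalizer_opUp_of
  intro y hy x hx
  refine Subgroup.subset_closure ⟨?_, ?_⟩
  · exact (Subgroup.mem_normalizer_iff.mp hy x).mp hx.1
  · rw [orderOf_conj']; exact hx.2

/-- a subgroup whose `O^p` is trivial is a `p`-group -/
theorem isPGroup_of_opUp_eq_bot [Finite G] {p : ℕ} [Fact p.Prime] {A : Subgroup G}
    (h : opUp p A = ⊥) : IsPGroup p A := by
  apply isPGroup_of_forall_coprime_eq_one
  intro x hx hc
  have : x ∈ opUp p A := Subgroup.subset_closure ⟨hx, hc⟩
  rw [h, Subgroup.mem_bot] at this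
  exact this

/-- the key step: `a ∈ L`, `c` a `p`-element normalizing `L`, `a * c` a `p'`-element: then
`a * c ∈ L` -/
theorem mul_mem_of_coprime {p : ℕ} [Fact p.Prime] {L R : Subgroup G} (hR : IsPGroup p R)
    (hRL : R ≤ Subgroup.normalizer (L : Set G)) {a c : G} (ha : a ∈ L) (hc : c ∈ R)
    (hcop : (orderOf (a * c)).Coprime p) : a * c ∈ L := by
  have h1 : ∀ k : ℕ, (a * c) ^ k * (c ^ k)⁻¹ ∈ L := by
    intro k
    induction k with
    | zero => simp
    | succ k ih =>
      have hck : c ^ k ∈ Subgroup.normalizer (L : Set G) := hRL (R.pow_mem hc k)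
      have h2 : c ^ k * a * (c ^ k)⁻¹ ∈ L := (Subgroup.mem_normalizer_iff.mp hck a).mp ha
      have h3 : (a * c) ^ (k + 1) * (c ^ (k + 1))⁻¹ =
          ((a * c) ^ k * (c ^ k)⁻¹) * (c ^ k * a * (c ^ k)⁻¹) := by
        rw [pow_succ, pow_succ]; group
      rw [h3]
      exact L.mul_mem ih h2
  obtain ⟨e, he⟩ := exists_pow_eq_one_of_mem hR hc
  have h4 : (a * c) ^ (p ^ e) ∈ L := by
    have := h1 (p ^ e)
    rwa [he, inv_one, mul_one] at this
  have h5 : (a * c) ^ (orderOf (a * c)) ∈ L := by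
    rw [pow_orderOf_eq_one]; exact L.one_mem
  exact mem_of_pow_mem_of_pow_mem_of_coprime (Nat.Coprime.pow_right e hcop) h5 h4


/-! ### Conjugate subgroups have conjugate `p`-cores -/

theorem map_conj_pCoreOf_le {p : ℕ} (M : Subgroup G) (g : G) :
    (pCoreOf p M).map (MulAut.conj g).toMonoidHom ≤
      pCoreOf p (M.map (MulAut.conj g).toMonoidHom) := by
  apply le_pCoreOf (Subgroup.map_mono (pCoreOf_le M))
  · rw [normalizer_map_conj]
    exact Subgroup.map_mono (le_normalizer_pCoreOf M)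
  · exact (isPGroup_pCoreOf M).map _

theorem card_pCoreOf_eq_of_conj [Finite G] {p : ℕ} {M N : Subgroup G} {g : G}
    (hg : N = M.map (MulAut.conj g).toMonoidHom) :
    Nat.card (pCoreOf p M) = Nat.card (pCoreOf p N) := by
  apply le_antisymm
  · have h1 := map_conj_pCoreOf_le (p := p) M g
    rw [← hg] at h1
    have h2 := Subgroup.card_le_of_le h1
    rwa [Subgroup.card_map_of_injective (MulAut.conj g).injective] at h2
  · have hg' : M = N.map (MulAut.conj g⁻¹).toMonoidHom := by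
      rw [hg, map_conj_inv_map_conj]
    have h1 := map_conj_pCoreOf_le (p := p) N g⁻¹
    rw [← hg'] at h1
    have h2 := Subgroup.card_le_of_le h1
    rwa [Subgroup.card_map_of_injective (MulAut.conj g⁻¹).injective] at h2

/-! ### Lemma T -/

/-- **Lemma T.** If the second core `A₂ = c2 M N` contains a nontrivial `p'`-element then
`O_p(M) = 1`. -/
theorem lemmaT [Finite G] {p : ℕ} [Fact p.Prime] {M N : Subgroup G} (h : Setup M N)
    (hex : ∃ ℓ ∈ c2 M N, ℓ ≠ 1 ∧ (orderOf ℓ).Coprime p) : pCoreOf p M = ⊥ := by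
  have hs := h.symm
  -- notation
  have hA2M : c2 M N ≤ M := c2_le_left M N
  have hA2B1 : c2 M N ≤ c1 N M := c2_le_c1' M N
  have hB1N : c1 N M ≤ N := c1_le_left N M
  have hB1M : c1 N M ≤ M := c1_le_right N M
  have hMA2 : M ≤ Subgroup.normalizer ((c2 M N : Subgroup G) : Set G) := le_normalizer_relCore _ _
  have hNB1 : N ≤ Subgroup.normalizer ((c1 N M : Subgroup G) : Set G) := le_normalizer_relCore _ _
  have hLA2 : opUp p (c2 M N) ≤ c2 M N := opUp_le p _
  have hLne : opUp p (c2 M N) ≠ ⊥ := by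
    obtain ⟨ℓ, hℓ, hne, hcop⟩ := hex
    intro h0
    have : ℓ ∈ opUp p (c2 M N) := Subgroup.subset_closure ⟨hℓ, hcop⟩
    rw [h0, Subgroup.mem_bot] at this
    exact hne this
  have hML : M ≤ Subgroup.normalizer ((opUp p (c2 M N) : Subgroup G) : Set G) :=
    hMA2.trans (normalizer_le_normalizer_opUp p _)
  have hNL : Subgroup.normalizer ((opUp p (c2 M N) : Subgroup G) : Set G) = M :=
    h.normalizer_eq hLne (hLA2.trans hA2M) hML
  have hRp : IsPGroup p (pCoreOf p (c1 N M)) := isPGroup_pCoreOf _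
  have hRB1 : pCoreOf p (c1 N M) ≤ c1 N M := pCoreOf_le _
  have hRL : pCoreOf p (c1 N M) ≤ Subgroup.normalizer ((opUp p (c2 M N) : Subgroup G) : Set G) :=
    hRB1.trans (hB1M.trans hML)
  -- key
  have key : ∀ Y : Subgroup G,
      (∀ y ∈ Y, ∀ x ∈ pPrimeElts p (c2 M N), x⁻¹ * (y * x * y⁻¹) ∈ pCoreOf p (c1 N M)) →
        Y ≤ M := by
    intro Y hY
    rw [← hNL]
    apply le_normalizer_opUp_of
    intro y hy x hx
    have h1 := hY y hy x hx
    have h2 : y * x * y⁻¹ = x * (x⁻¹ * (y * x * y⁻¹)) := by group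
    rw [h2]
    refine mul_mem_of_coprime hRp hRL (Subgroup.subset_closure hx) h1 ?_
    rw [← h2, orderOf_conj']
    exact hx.2
  -- small normal p-subgroups of B1 lie in R
  have hsmall : ∀ P : Subgroup G, IsPGroup p P →
      c1 N M ≤ Subgroup.normalizer (P : Set G) → c1 N M ⊓ P ≤ pCoreOf p (c1 N M) := by
    intro P hP hn
    apply le_pCoreOf inf_le_left _ (hP.to_le inf_le_right)
    intro b hb
    exact mem_normalizer_inf (Subgroup.le_normalizer hb) (hn hb)
  -- the commutator-type element lies in `B1 ⊓ P` when `y ∈ N ⊓ P` and `B1` normalizes `P`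
  have hcomm : ∀ P : Subgroup G, c1 N M ≤ Subgroup.normalizer (P : Set G) →
      ∀ y ∈ P, y ∈ N → ∀ x ∈ pPrimeElts p (c2 M N), x⁻¹ * (y * x * y⁻¹) ∈ c1 N M ⊓ P := by
    intro P hn y hyP hyN x hx
    have hxB : x ∈ c1 N M := hA2B1 hx.1
    constructor
    · have hyn : y ∈ Subgroup.normalizer ((c1 N M : Subgroup G) : Set G) := hNB1 hyN
      exact (c1 N M).mul_mem ((c1 N M).inv_mem hxB) ((Subgroup.mem_normalizer_iff.mp hyn x).mp hxB)
    · have hxn : x⁻¹ ∈ Subgroup.normalizer (P : Set G) := hn ((c1 N M).inv_mem hxB)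
      have h3 : x⁻¹ * (y * x * y⁻¹) = (x⁻¹ * y * x⁻¹⁻¹) * y⁻¹ := by group
      rw [h3]
      exact P.mul_mem ((Subgroup.mem_normalizer_iff.mp hxn y).mp hyP) (P.inv_mem hyP)
  -- T1
  have hQ2N : pCoreOf p N ≤ N := pCoreOf_le N
  have hNQ2 : N ≤ Subgroup.normalizer ((pCoreOf p N : Subgroup G) : Set G) := le_normalizer_pCoreOf N
  have hQ2p : IsPGroup p (pCoreOf p N) := isPGroup_pCoreOf N
  have hQ2M : pCoreOf p N ≤ M := by
    apply key
    intro y hy x hx
    exact hsmall _ hQ2p (hB1N.trans hNQ2) (hcomm _ (hB1N.trans hNQ2) y hy (hQ2N hy) x hx)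
  -- T2
  have hQ1p : IsPGroup p (pCoreOf p M) := isPGroup_pCoreOf M
  have hMQ1 : M ≤ Subgroup.normalizer ((pCoreOf p M : Subgroup G) : Set G) := le_normalizer_pCoreOf M
  have hT2 : ∀ n ∈ N, (pCoreOf p M).map (MulAut.conj n).toMonoidHom ⊓ N ≤ M := by
    intro n hn
    have hB1n : c1 N M ≤ Subgroup.normalizer
        (((pCoreOf p M).map (MulAut.conj n).toMonoidHom : Subgroup G) : Set G) := by
      rw [normalizer_map_conj]
      intro b hb
      have h1 := (mem_relCore.mp hb).2 n⁻¹ (N.inv_mem hn)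
      refine ⟨n⁻¹ * b * n, hMQ1 ?_, by simp [mul_assoc]⟩
      have := h1.2
      simpa using this
    apply key
    intro y hy x hx
    exact hsmall _ (hQ1p.map _) hB1n (hcomm _ hB1n y hy.1 hy.2 x hx)
  -- T3
  have hT3 : pCoreOf p M ⊓ N ≤ c1 N M := by
    intro x hx
    unfold c1
    rw [mem_relCore]
    refine ⟨hx.2, fun n hn => ?_⟩
    have hnx : n * x * n⁻¹ ∈ N := N.mul_mem (N.mul_mem hn hx.2) (N.inv_mem hn)
    refine ⟨hnx, hT2 n hn ⟨⟨x, hx.1, ?_⟩, hnx⟩⟩
    simp
  have hT3' : pCoreOf p M ⊓ N ≤ pCoreOf p (c1 N M) := by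
    apply le_pCoreOf hT3 _ (hQ1p.to_le inf_le_left)
    intro b hb
    exact mem_normalizer_inf (hMQ1 (hB1M hb)) (Subgroup.le_normalizer (hB1N hb))
  have hRQ2 : pCoreOf p (c1 N M) ≤ pCoreOf p N :=
    le_pCoreOf (hRB1.trans hB1N) (hNB1.trans (normalizer_le_normalizer_pCoreOf' p _)) hRp
  have hQ1N : pCoreOf p M ⊓ N ≤ pCoreOf p N := hT3'.trans hRQ2
  -- conjugacy
  obtain ⟨g, hg⟩ := h.conj
  have hcard : Nat.card (pCoreOf p M) = Nat.card (pCoreOf p N) := card_pCoreOf_eq_of_conj hg
  by_cases hQ2 : pCoreOf p N = ⊥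
  · rw [hQ2, Subgroup.card_bot] at hcard
    exact Subgroup.card_eq_one.mp hcard
  -- T4
  have hNQ2' : Subgroup.normalizer ((pCoreOf p N : Subgroup G) : Set G) = N :=
    hs.normalizer_eq hQ2 hQ2N hNQ2
  have hQ2nQ1 : pCoreOf p N ≤ Subgroup.normalizer ((pCoreOf p M : Subgroup G) : Set G) :=
    hQ2M.trans hMQ1
  have hPp : IsPGroup p (pCoreOf p M ⊔ pCoreOf p N : Subgroup G) :=
    IsPGroup.to_sup_of_normal_left' hQ1p hQ2p hQ2nQ1
  have hnil : Group.IsNilpotent ↥(pCoreOf p M ⊔ pCoreOf p N : Subgroup G) := hPp.isNilpotent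
  have hNC := Group.normalizerCondition_of_isNilpotent (G := ↥(pCoreOf p M ⊔ pCoreOf p N : Subgroup G))
  have hself : Subgroup.normalizer
      (((pCoreOf p N).subgroupOf (pCoreOf p M ⊔ pCoreOf p N) : Subgroup _) : Set _) ≤
        (pCoreOf p N).subgroupOf (pCoreOf p M ⊔ pCoreOf p N) := by
    intro x hx
    rw [Subgroup.mem_subgroupOf]
    have hxN : (x : G) ∈ N := by
      refine hNQ2'.le ?_
      rw [Subgroup.mem_normalizer_iff]
      intro t
      rw [Subgroup.mem_normalizer_iff] at hx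
      constructor
      · intro ht
        have htP : t ∈ pCoreOf p M ⊔ pCoreOf p N := (le_sup_right : pCoreOf p N ≤ _) ht
        have := (hx ⟨t, htP⟩).mp (by rw [Subgroup.mem_subgroupOf]; exact ht)
        rw [Subgroup.mem_subgroupOf] at this
        simpa using this
      · intro ht
        have htP' : (x : G) * t * (x : G)⁻¹ ∈ pCoreOf p M ⊔ pCoreOf p N :=
          (le_sup_right : pCoreOf p N ≤ _) ht
        have htP : t ∈ pCoreOf p M ⊔ pCoreOf p N := by
          have h5 : t = (x : G)⁻¹ * ((x : G) * t * (x : G)⁻¹) * (x : G) := by group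
          rw [h5]
          exact Subgroup.mul_mem _ (Subgroup.mul_mem _ (Subgroup.inv_mem _ x.2) htP') x.2
        have := (hx ⟨t, htP⟩).mpr (by rw [Subgroup.mem_subgroupOf]; simpa using ht)
        rwa [Subgroup.mem_subgroupOf] at this
    obtain ⟨k, hk, a, ha, hka⟩ :=
      Cfsg.Agent.Lib.Helper24_CoprimeAction.exists_mul_of_mem_sup (pCoreOf p N) (pCoreOf p M)
        hQ2nQ1 x.2
    have hkN : k ∈ N := by
      have h6 : k = (x : G) * a⁻¹ := by rw [hka]; group
      rw [h6]
      exact N.mul_mem hxN (N.inv_mem (hQ2N ha))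
    rw [hka]
    exact Subgroup.mul_mem _ (hQ1N ⟨hk, hkN⟩) ha
  have htop : (pCoreOf p N).subgroupOf (pCoreOf p M ⊔ pCoreOf p N) = ⊤ := by
    by_contra hne
    have h7 := hNC _ (lt_top_iff_ne_top.mpr hne)
    exact absurd (lt_of_lt_of_le h7 hself) (lt_irrefl _)
  have hQ1Q2 : pCoreOf p M ≤ pCoreOf p N :=
    le_sup_left.trans (Subgroup.subgroupOf_eq_top.mp htop)
  have heq : pCoreOf p M = pCoreOf p N :=
    Subgroup.eq_of_le_of_card_ge hQ1Q2 hcard.symm.le
  refine h.eq_bot_of_normalized (pCoreOf_le M) hMQ1 ?_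
  rw [heq]
  exact hNQ2

end Cfsg.Agent.Lib.Helper47_TW
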