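import Mathlib
import Cfsg.Agent.Lib.Helper10_JCompGen
import Cfsg.Agent.Lib.Helper10_JCompFin
import Cfsg.Agent.Lib.Helper47_TW
import Cfsg.Agent.Lib.Helper47_Avg

set_option autoImplicit false
set_option linter.unusedSectionVars false
set_option linter.unusedVariables false
set_option linter.style.haveILetI false

/-!
# Uniqueness of the maximal `2`-local over `⟨K, J(T)⟩` (helper10)

Conjugation transport for `J(T)`-components; the members of `ℒ(T)` permute their `J(T)`-components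
in `𝒦₀(T)` like `N_L(J(T))` does; all maximal `2`-locals over `⟨K, J(T)⟩`, `K ∈ 𝒦(T)` outside `M`,
`T ∈ 𝒯*(M)`, coincide with the normalizer of the product of the `W_{K'}` over the members `K'` of
`𝒦₀(T)` inside `N_G(W_K)`.
-/

namespace Cfsg.Agent.Lib.Helper10_JCompUq

open Cfsg Subgroup
open Cfsg.Agent.S5306 (EA maxEA JJ)
open Cfsg.Agent.Lib.Helper10_JComp
open Cfsg.Agent.Lib.Helper10_JCompB
open Cfsg.Agent.Lib.Helper10_JCompF
open Cfsg.Agent.Lib.Helper10_JCompSub
open Cfsg.Agent.Lib.Helper10_JCompUniq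
open Cfsg.Agent.Lib.Helper10_JCompGen
open Cfsg.Agent.Lib.Helper10_JCompMax
open Cfsg.Agent.Lib.Helper10_JCompZero
open Cfsg.Agent.Lib.Helper47_Conj (map_conj_map_conj map_conj_inv_map_conj map_conj_map_conj_inv
  normalizer_map_conj map_conj_one)
open scoped commutatorElement

variable {G : Type*} [Group G] [Finite G]

section transport

theorem pCoreOf_map_conj (K : Subgroup G) (g : G) :
    pCoreOf 2 (K.map (MulAut.conj g).toMonoidHom) =
      (pCoreOf 2 K).map (MulAut.conj g).toMonoidHom := by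
  apply le_antisymm
  · have h := Cfsg.Agent.Lib.Helper47_TW.map_conj_pCoreOf_le (p := 2)
      (K.map (MulAut.conj g).toMonoidHom) g⁻¹
    rw [map_conj_inv_map_conj] at h
    have := Subgroup.map_mono (f := (MulAut.conj g).toMonoidHom) h
    rwa [map_conj_map_conj_inv] at this
  · exact Cfsg.Agent.Lib.Helper47_TW.map_conj_pCoreOf_le K g

theorem omegaCenterOf_map_conj (K : Subgroup G) (g : G) :
    omegaCenterOf (K.map (MulAut.conj g).toMonoidHom) =
      (omegaCenterOf K).map (MulAut.conj g).toMonoidHom := by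
  unfold omegaCenterOf
  rw [Cfsg.Agent.Lib.Helper47_Avg.omegaOne_center_map_conj]

theorem wOf_map_conj (K : Subgroup G) (g : G) :
    wOf (K.map (MulAut.conj g).toMonoidHom) = (wOf K).map (MulAut.conj g).toMonoidHom := by
  unfold wOf
  rw [pCoreOf_map_conj, omegaCenterOf_map_conj, Subgroup.map_commutator]

theorem thompson_map_conj (T : Subgroup G) (g : G) :
    thompsonSubgroupOf 2 (T.map (MulAut.conj g).toMonoidHom) =
      (thompsonSubgroupOf 2 T).map (MulAut.conj g).toMonoidHom := by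
  rw [Cfsg.Agent.S5306.thompson_eq_JJ, Cfsg.Agent.S5306.thompson_eq_JJ,
    Cfsg.Agent.S5306.JJ_map]

theorem isSylowTwoIn_map_conj {S N : Subgroup G} (h : IsSylowTwoIn S N) (g : G) :
    IsSylowTwoIn (S.map (MulAut.conj g).toMonoidHom) (N.map (MulAut.conj g).toMonoidHom) := by
  obtain ⟨h1, h2, h3⟩ := h
  refine ⟨Subgroup.map_mono h1, h2.map _, ?_⟩
  rw [Subgroup.relIndex_map_map_of_injective _ _ (MulAut.conj g).injective]
  exact h3

/-- conjugation transport of `J(T)`-components -/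
theorem isJComponent_map_conj {T K : Subgroup G} (hK : IsJComponent T K) (g : G) :
    IsJComponent (T.map (MulAut.conj g).toMonoidHom) (K.map (MulAut.conj g).toMonoidHom) := by
  unfold IsJComponent at hK ⊢
  obtain ⟨h1, h2, h3, h4, h5, h6⟩ := hK
  rw [thompson_map_conj]
  refine ⟨?_, ?_, ?_, ?_, ?_, ?_⟩
  · conv_rhs => rw [← h1]
    rw [MonoidHom.map_closure]
    congr 1
    ext x
    constructor
    · rintro ⟨⟨y, hy, rfl⟩, hodd⟩
      refine ⟨y, ⟨hy, ?_⟩, rfl⟩
      have := MulEquiv.orderOf_eq (MulAut.conj g) y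
      rw [MulEquiv.coe_toMonoidHom, this] at hodd
      exact hodd
    · rintro ⟨y, ⟨hy, hodd⟩, rfl⟩
      refine ⟨⟨y, hy, rfl⟩, ?_⟩
      have := MulEquiv.orderOf_eq (MulAut.conj g) y
      rw [MulEquiv.coe_toMonoidHom, this]
      exact hodd
  · rw [← Subgroup.map_commutator, h2]
  · rw [pCoreOf_map_conj, Subgroup.relIndex_map_map_of_injective _ _ (MulAut.conj g).injective]
    exact h3
  · intro S' hS' hJS'
    rw [← Subgroup.map_sup] at hS'
    have hS'' := isSylowTwoIn_map_conj hS' g⁻¹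
    rw [map_conj_inv_map_conj] at hS''
    have hJS'' : thompsonSubgroupOf 2 T ≤ S'.map (MulAut.conj g⁻¹).toMonoidHom := by
      have := Subgroup.map_mono (f := (MulAut.conj g⁻¹).toMonoidHom) hJS'
      rwa [map_conj_inv_map_conj] at this
    have h7 := h4 _ hS'' hJS''
    have h8 : thompsonSubgroupOf 2 S' =
        (thompsonSubgroupOf 2 (S'.map (MulAut.conj g⁻¹).toMonoidHom)).map
          (MulAut.conj g).toMonoidHom := by
      rw [← thompson_map_conj, map_conj_map_conj_inv]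
    rw [h8, h7]
  · rw [wOf_map_conj, Subgroup.card_map_of_injective (MulAut.conj g).injective]
    exact h5
  · rw [wOf_map_conj]
    rintro _ ⟨w, hw, rfl⟩
    rw [← map_mul, h6 w hw, map_one]

/-- conjugation transport of `𝒦₀(T)` -/
theorem mem_jComponentsZero_map_conj {T K : Subgroup G} (hK : K ∈ jComponentsZero T) (g : G) :
    K.map (MulAut.conj g).toMonoidHom ∈ jComponentsZero (T.map (MulAut.conj g).toMonoidHom) := by
  refine ⟨isJComponent_map_conj hK.1 g, ?_⟩
  intro S' hJS' hS'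
  rw [wOf_map_conj, normalizer_map_conj] at hS'
  rw [thompson_map_conj] at hJS' ⊢
  have hS'' := isSylowTwoIn_map_conj hS' g⁻¹
  rw [map_conj_inv_map_conj] at hS''
  have hJS'' : thompsonSubgroupOf 2 T ≤ S'.map (MulAut.conj g⁻¹).toMonoidHom := by
    have := Subgroup.map_mono (f := (MulAut.conj g⁻¹).toMonoidHom) hJS'
    rwa [map_conj_inv_map_conj] at this
  have h7 := hK.2 _ hJS'' hS''
  have h8 : thompsonSubgroupOf 2 S' =
      (thompsonSubgroupOf 2 (S'.map (MulAut.conj g⁻¹).toMonoidHom)).map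
        (MulAut.conj g).toMonoidHom := by
    rw [← thompson_map_conj, map_conj_map_conj_inv]
  rw [h8, h7]

/-- `𝒦₀(T)` depends on `T` only through `J(T)` -/
theorem mem_jComponentsZero_congr {T T' K : Subgroup G}
    (h : thompsonSubgroupOf 2 T' = thompsonSubgroupOf 2 T) (hK : K ∈ jComponentsZero T) :
    K ∈ jComponentsZero T' := by
  refine ⟨isJComponent_congr h hK.1, ?_⟩
  rw [h]
  exact hK.2

/-- `𝒦₀(T)` is invariant under `N_G(J(T))` -/
theorem mem_jComponentsZero_conj {T K : Subgroup G} (hK : K ∈ jComponentsZero T) {h : G}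
    (hh : h ∈ normalizer (thompsonSubgroupOf 2 T : Set G)) :
    K.map (MulAut.conj h).toMonoidHom ∈ jComponentsZero T := by
  apply mem_jComponentsZero_congr (T := T.map (MulAut.conj h).toMonoidHom) _
    (mem_jComponentsZero_map_conj hK h)
  rw [thompson_map_conj]
  exact (map_conj_eq hh).symm

end transport

section locl

variable (hL : Cfsg.IsCharacteristicTwoType G)
  (hN : ∀ N : Subgroup G, Cfsg.IsTwoLocal N → Group.IsSolvable ↥N)
  (hZ : ∀ S : Sylow 2 G, centralizer (Cfsg.omegaCenterOf (S : Subgroup G) : Set G) ≤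
    normalizer ((S : Subgroup G) : Set G))
include hL hN hZ

/-- the component-like structure of a `J(T)`-component inside a member of `ℒ(T)` -/
theorem lcomp_of_mem {T L V C F₁ M' : Subgroup G} (hT2 : IsPGroup 2 T) (hT1 : T ≠ ⊥)
    (ctx : Ctx T L (thompsonSubgroupOf 2 T) (pCoreOf 2 L) V C F₁ M')
    {K : Subgroup G} (hK : IsJComponent T K) (hKL : K ≤ L) :
    LComp L (thompsonSubgroupOf 2 T) (pCoreOf 2 L) V K (wOf K) := by
  have hLQ := Cfsg.Agent.Lib.Helper47_SubAPI.le_normalizer_pCoreOf (p := 2) L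
  have hQK : pCoreOf 2 L ≤ normalizer (K : Set G) := by
    apply Cfsg.Agent.S2941.result hL hN hZ T hT2 hT1 K hK (pCoreOf 2 L)
    · exact sup_le (hKL.trans hLQ) ((thompsonSubgroupOf_le 2 T).trans (ctx.hTL.trans hLQ))
    · exact ctx.hQT.trans ctx.hTJ
  exact LComp.of_isJComponent ctx hK hKL hQK

/-- two `J(T)`-components of a member of `ℒ(T)`: each normalizes the module of the other -/
theorem le_normalizer_wOf {T L : Subgroup G} (hT2 : IsPGroup 2 T) (hT1 : T ≠ ⊥)
    (hLT : L ∈ jOvergroups T) {K₁ K₂ : Subgroup G} (h₁ : IsJComponent T K₁)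
    (h₂ : IsJComponent T K₂) (h₁L : K₁ ≤ L) (h₂L : K₂ ≤ L) :
    K₁ ≤ normalizer (wOf K₂ : Set G) := by
  obtain ⟨V, C, F₁, M', ctx⟩ := exists_ctx hN hZ hT2 hT1 hLT
  have c₁ := lcomp_of_mem hL hN hZ hT2 hT1 ctx h₁ h₁L
  have c₂ := lcomp_of_mem hL hN hZ hT2 hT1 ctx h₂ h₂L
  exact (c₁.le_F₁ ctx).trans (c₂.F₁_le_normalizer ctx)

/-- the module of a `J(T)`-component of a member `L` of `ℒ(T)` lies in `O_2(L)` -/
theorem wOf_le_pCoreOf {T L : Subgroup G} (hT2 : IsPGroup 2 T) (hT1 : T ≠ ⊥)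
    (hLT : L ∈ jOvergroups T) {K : Subgroup G} (hK : IsJComponent T K) (hKL : K ≤ L) :
    wOf K ≤ pCoreOf 2 L := by
  obtain ⟨V, C, F₁, M', ctx⟩ := exists_ctx hN hZ hT2 hT1 hLT
  have c := lcomp_of_mem hL hN hZ hT2 hT1 ctx hK hKL
  exact c.hWV.trans ctx.hVQ

/-- **`L ∈ ℒ(T)` permutes its components in `𝒦₀(T)` like `N_L(J(T))` does.** -/
theorem conj_component_eq {T L : Subgroup G} (hT2 : IsPGroup 2 T) (hT1 : T ≠ ⊥)
    (hLT : L ∈ jOvergroups T) {K : Subgroup G} (hK : K ∈ jComponentsZero T) (hKL : K ≤ L)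
    {y : G} (hy : y ∈ L) :
    ∃ h ∈ L, h ∈ normalizer (thompsonSubgroupOf 2 T : Set G) ∧
      K.map (MulAut.conj y).toMonoidHom = K.map (MulAut.conj h).toMonoidHom := by
  obtain ⟨V, C, F₁, M', ctx⟩ := exists_ctx hN hZ hT2 hT1 hLT
  obtain ⟨u, hu, huy⟩ := Cfsg.Agent.Lib.Helper10_JCompFin.frattini_J ctx.hTL hT2 ctx.hTodd
    (tvClosure_le L V) (le_normalizer_tvClosure ctx.hLV) (thompson_le_tvClosure ctx rfl) hy
  have huL : u ∈ L := tvClosure_le L V hu
  have hhL : u⁻¹ * y ∈ L := L.mul_mem (L.inv_mem huL) hy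
  refine ⟨u⁻¹ * y, hhL, huy, ?_⟩
  have hKh : K.map (MulAut.conj (u⁻¹ * y)).toMonoidHom ∈ jComponentsZero T :=
    mem_jComponentsZero_conj hK huy
  have hKhL : K.map (MulAut.conj (u⁻¹ * y)).toMonoidHom ≤ L := by
    rintro _ ⟨k, hk, rfl⟩
    simp only [MulEquiv.coe_toMonoidHom, MulAut.conj_apply]
    exact L.mul_mem (L.mul_mem hhL (hKL hk)) (L.inv_mem hhL)
  have c := lcomp_of_mem hL hN hZ hT2 hT1 ctx hKh.1 hKhL
  have hun : u ∈ normalizer ((K.map (MulAut.conj (u⁻¹ * y)).toMonoidHom : Subgroup G) : Set G) := by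
    rw [normalizer_eq hL hN hZ hT2 hKh]
    exact lcomp_tvClosure_le_normalizer ctx c hu
  have e : K.map (MulAut.conj y).toMonoidHom =
      (K.map (MulAut.conj (u⁻¹ * y)).toMonoidHom).map (MulAut.conj u).toMonoidHom := by
    rw [map_conj_map_conj]
    congr 3
    group
  rw [e]
  exact map_conj_eq hun

end locl

section main

theorem le_normalizer_iSup' {ι : Sort*} (W : ι → Subgroup G) {X : Subgroup G}
    (h : ∀ i, X ≤ normalizer (W i : Set G)) : X ≤ normalizer ((⨆ i, W i : Subgroup G) : Set G) := by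
  intro x hx
  rw [Cfsg.Agent.Lib.Helper24_CoprimeAction.mem_normalizer_iff_map_conj, Subgroup.map_iSup]
  congr 1
  funext i
  exact map_conj_eq (h i hx)

theorem mem_normalizer_of_map_le {W : Subgroup G} {y : G}
    (h : W.map (MulAut.conj y).toMonoidHom ≤ W) : y ∈ normalizer (W : Set G) := by
  rw [Cfsg.Agent.Lib.Helper24_CoprimeAction.mem_normalizer_iff_map_conj]
  exact Subgroup.eq_of_le_of_card_ge h
    (by rw [Subgroup.card_map_of_injective (MulAut.conj y).injective])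

/-- the members of `𝒦₀(T)` inside `N_G(W_K)` -/
def sigmaSet (T K : Subgroup G) : Set (Subgroup G) :=
  {K' | K' ∈ jComponentsZero T ∧ K' ≤ normalizer (wOf K : Set G)}

/-- the product of the modules `W_{K'}` over `sigmaSet T K` -/
def wSigma (T K : Subgroup G) : Subgroup G :=
  ⨆ K' : sigmaSet T K, wOf (K' : Subgroup G)

variable (hL : Cfsg.IsCharacteristicTwoType G)
  (hN : ∀ N : Subgroup G, Cfsg.IsTwoLocal N → Group.IsSolvable ↥N)
  (hZ : ∀ S : Sylow 2 G, centralizer (Cfsg.omegaCenterOf (S : Subgroup G) : Set G) ≤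
    normalizer ((S : Subgroup G) : Set G))
  {M T : Subgroup G} (S : Sylow 2 G)
  (hMJ : normalizer (thompsonSubgroupOf 2 (S : Subgroup G) : Set G) ≤ M)
  (hT : T ∈ maxStraddlingTwoSubgroups M)
include hL hN hZ hMJ hT

/-- **every maximal `2`-local over `⟨K, J(T)⟩` is `N_G(W_Σ)`** -/
theorem eq_normalizer_wSigma {K : Subgroup G} (hK : K ∈ jComponentsOutside M T)
    {L' : Subgroup G} (hL'max : IsMaximalTwoLocal L')
    (hKL' : K ⊔ thompsonSubgroupOf 2 T ≤ L') :
    L' = normalizer (wSigma T K : Set G) := by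
  haveI : Fact (Nat.Prime 2) := ⟨Nat.prime_two⟩
  obtain ⟨hT2, hT1, hTM, -⟩ := hT.1
  obtain ⟨hK0, hKM, hO2⟩ := hK
  have hKle : K ≤ L' := le_sup_left.trans hKL'
  have hJle : thompsonSubgroupOf 2 T ≤ L' := le_sup_right.trans hKL'
  have hL'M : ¬ L' ≤ M := fun h => hKM (hKle.trans h)
  obtain ⟨T', hJT', hSyl', -⟩ := exists_sylow_in hJle (isPGroup_thompson hT2)
  obtain ⟨hJeq, hT'mem, hL'T'⟩ := main_aux hL S hMJ hT hL'max.1 hL'M hSyl' hJT'
  obtain ⟨hT'2, hT'1, -, -⟩ := hT'mem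
  have hK0' : K ∈ jComponentsZero T' := mem_jComponentsZero_congr hJeq.symm hK0
  obtain ⟨S_N, hJS_N, hS_N2, hS_N1, hN_S, -⟩ := exists_overgroup hL hN hZ hT2 hK0
  have core := core_of_isJComponent hT2 hK0.1
  have hKN : K ≤ normalizer (wOf K : Set G) := core.hKW
  have hKσ : K ∈ sigmaSet T K := ⟨hK0, hKN⟩
  have hL'Q := Cfsg.Agent.Lib.Helper47_SubAPI.le_normalizer_pCoreOf (p := 2) L'
  -- (F1) members of `Σ` normalize each other's modules
  have F1 : ∀ K₁ ∈ sigmaSet T K, ∀ K₂ ∈ sigmaSet T K, K₁ ≤ normalizer (wOf K₂ : Set G) := by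
    intro K₁ h₁ K₂ h₂
    exact le_normalizer_wOf hL hN hZ hS_N2 hS_N1 hN_S (isJComponent_congr hJS_N h₁.1.1)
      (isJComponent_congr hJS_N h₂.1.1) h₁.2 h₂.2
  -- (F2) `L'` maps its members of `𝒦₀(T)` into `Σ`
  have F2 : ∀ K₁ ∈ jComponentsZero T, K₁ ≤ L' → ∀ y ∈ L',
      K₁.map (MulAut.conj y).toMonoidHom ∈ sigmaSet T K := by
    intro K₁ h₁ h₁L y hy
    have h₁' : K₁ ∈ jComponentsZero T' := mem_jComponentsZero_congr hJeq.symm h₁
    obtain ⟨h, hhL, hhN, e⟩ := conj_component_eq hL hN hZ hT'2 hT'1 hL'T' h₁' h₁L hy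
    rw [← hJeq] at hhN
    have hmem : K₁.map (MulAut.conj y).toMonoidHom ∈ jComponentsZero T := by
      rw [e]; exact mem_jComponentsZero_conj h₁ hhN
    have hle : K₁.map (MulAut.conj y).toMonoidHom ≤ L' := by
      rintro _ ⟨k, hk, rfl⟩
      simp only [MulEquiv.coe_toMonoidHom, MulAut.conj_apply]
      exact L'.mul_mem (L'.mul_mem hy (h₁L hk)) (L'.inv_mem hy)
    refine ⟨hmem, ?_⟩
    exact le_normalizer_wOf hL hN hZ hT'2 hT'1 hL'T'
      (isJComponent_congr hJeq.symm hmem.1) hK0'.1 hle hKle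
  -- (F3) `L'` is the normalizer of the product of the conjugates of `W_K`
  have hWK1 : wOf K ≠ ⊥ := by
    intro hbot
    have h4 := core.hW4
    rw [hbot, Subgroup.card_bot] at h4
    omega
  have hWQ : wOf K ≤ pCoreOf 2 L' := wOf_le_pCoreOf hL hN hZ hT'2 hT'1 hL'T' hK0'.1 hKle
  obtain ⟨W', hW'def⟩ : ∃ W' : Subgroup G,
      W' = ⨆ y : L', (wOf K).map (MulAut.conj (y : G)).toMonoidHom := ⟨_, rfl⟩
  have hW'Q : W' ≤ pCoreOf 2 L' := by
    rw [hW'def]
    refine iSup_le fun y => ?_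
    have := Subgroup.map_mono (f := (MulAut.conj (y : G)).toMonoidHom) hWQ
    rwa [map_conj_eq (hL'Q y.2)] at this
  have hWW' : wOf K ≤ W' := by
    rw [hW'def]
    refine le_iSup_of_le (1 : L') ?_
    rw [OneMemClass.coe_one, map_conj_one]
  have hW'1 : W' ≠ ⊥ := by
    intro hbot
    apply hWK1
    rw [eq_bot_iff, ← hbot]
    exact hWW'
  have hL'W' : L' ≤ normalizer (W' : Set G) := by
    intro g hg
    apply mem_normalizer_of_map_le
    rw [hW'def, Subgroup.map_iSup]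
    refine iSup_le fun y => ?_
    rw [map_conj_map_conj]
    exact le_iSup (fun y : L' => (wOf K).map (MulAut.conj (y : G)).toMonoidHom)
      ⟨g * y, L'.mul_mem hg y.2⟩
  have hNW' : normalizer (W' : Set G) = L' :=
    hL'max.2 _ ⟨W', (Cfsg.Agent.Lib.Helper47_SubAPI.isPGroup_pCoreOf L').to_le hW'Q, hW'1, rfl⟩
      hL'W'
  -- (F4) the members of `Σ` lie in `L'`
  have F4 : ∀ K₁ ∈ sigmaSet T K, K₁ ≤ L' := by
    intro K₁ h₁
    rw [← hNW', hW'def]
    apply le_normalizer_iSup'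
    intro y
    rw [← wOf_map_conj]
    exact F1 K₁ h₁ _ (F2 K hK0 hKle y y.2)
  -- (F5) `L'` normalizes `W_Σ`
  have F5 : L' ≤ normalizer (wSigma T K : Set G) := by
    intro y hy
    apply mem_normalizer_of_map_le
    unfold wSigma
    rw [Subgroup.map_iSup]
    refine iSup_le fun K₁ => ?_
    rw [← wOf_map_conj]
    exact le_iSup (fun K₂ : sigmaSet T K => wOf (K₂ : Subgroup G))
      ⟨_, F2 K₁.1 K₁.2.1 (F4 K₁.1 K₁.2) y hy⟩
  -- (F6) `W_Σ` is a nontrivial `2`-group
  have hσQ : wSigma T K ≤ pCoreOf 2 (normalizer (wOf K : Set G)) := by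
    unfold wSigma
    refine iSup_le fun K₁ => ?_
    exact wOf_le_pCoreOf hL hN hZ hS_N2 hS_N1 hN_S (isJComponent_congr hJS_N K₁.2.1.1) K₁.2.2
  have hσ1 : wSigma T K ≠ ⊥ := by
    intro hbot
    apply hWK1
    rw [eq_bot_iff, ← hbot]
    exact le_iSup (fun K₂ : sigmaSet T K => wOf (K₂ : Subgroup G)) ⟨K, hKσ⟩
  exact (hL'max.2 _ ⟨wSigma T K,
    (Cfsg.Agent.Lib.Helper47_SubAPI.isPGroup_pCoreOf _).to_le hσQ, hσ1, rfl⟩ F5).symm

end main

end Cfsg.Agent.Lib.Helper10_JCompUq
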