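import Cfsg.Agent.Lib.Helper47_TW

/-!
# Definitions for the S3687 market (helper49)

Point stabilizers of primitive groups inducing `Alt` or `Sym` on a suborbit, unfaithfully.
Everything is phrased with subgroups of one ambient finite group `G`.

* `cj g H`        : the conjugate `g H g⁻¹`.
* `AS d M T`      : `T ≤ M`, `|M : T| = d`, and `d! ≤ 2 |M : core_M(T)|`, that is, `M` acts on the
                    `d` cosets of `T` as the alternating or the symmetric group of degree `d`.
* `altPart M T`   : `[M, M] · core_M(T)`: for `AS d M T`, `5 ≤ d`, the preimage of the alternating group.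
* `Cfg d M N g`   : the running configuration of the proof.
* `Sym d M N g`   : the symmetric configuration reached after Step 4.
-/

namespace Cfsg.Agent.Lib.Helper49_KnDefs

open Cfsg.Agent.Lib.Helper47_TW

variable {G : Type*} [Group G]

/-- the conjugate `g H g⁻¹` -/
abbrev cj (g : G) (H : Subgroup G) : Subgroup G := H.map (MulAut.conj g).toMonoidHom

/-- `M` acts on the `d` cosets of `T` as `Alt` or `Sym` (numerical form). -/
def AS (d : ℕ) (M T : Subgroup G) : Prop :=
  T ≤ M ∧ Nat.card M = d * Nat.card T ∧
    d.factorial * Nat.card (relCore M T) ≤ 2 * Nat.card M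

/-- preimage of the alternating group (for `AS d M T`, `5 ≤ d`) -/
def altPart (M T : Subgroup G) : Subgroup G := ⁅M, M⁆ ⊔ relCore M T

/-- the running configuration: `M`, `N = g M g⁻¹` distinct conjugate core-free maximal subgroups,
`M` acts on the `d ≥ 6` cosets of `M ⊓ N` as `Alt` or `Sym`, with nontrivial kernel `c1 M N`. -/
structure Cfg (d : ℕ) (M N : Subgroup G) (g : G) : Prop where
  setup : Setup M N
  conj : N = cj g M
  hd : 6 ≤ d
  as : AS d M (M ⊓ N)
  ne : c1 M N ≠ ⊥

/-- the symmetric configuration (after Step 4). -/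
structure Sym (d : ℕ) (M N : Subgroup G) (g : G) : Prop where
  setup : Setup M N
  conj : N = cj g M
  hd : 6 ≤ d
  asM : AS d M (M ⊓ N)
  asN : AS d N (M ⊓ N)
  ne : c1 M N ≠ ⊥
  hK : c1 N M = cj g (c1 M N)

end Cfsg.Agent.Lib.Helper49_KnDefs
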