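import Cfsg.Agent.Lib.Helper65_S3688
import Cfsg.Agent.Lib.Helper1_Cores

/-!
# S3693 (Knapp): primitive `G`, suborbit `Δ ∋ b` of `G_a` of length `d ≥ 2`; if `G_ab` induces on `Δ`
a group with trivial Fitting subgroup then `F(G_ab) = 1` and `|G_a|` divides `d! ((d-1)!)^d`.

Proof. `T = G_ab`, `A = c1 G_a G_b` (the kernel of `G_a` on `Δ`). `F(T/A) = 1` gives `O_p(T) ≤ A`, so
`X := O_p(T) = O_p(A)` is normal in `G_a`. With `g a = b` and `X' = gXg⁻¹ ⊴ G_b`: the `p`-group
`Z = X X'` lies in `G_b`, `Z ∩ T` is a normal `p`-subgroup of `T`, so `N_Z(X) = Z ∩ G_a = Z ∩ T = X`,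
whence `Z = X`, `X' = X` is normal in `G_a` and `G_b`, so `X = 1`. Then `F(A) = 1` and
Thompson–Wielandt (helper47) forces one of the second cores to be trivial; count as in S3688.
-/

set_option autoImplicit false

namespace Cfsg.Agent.Lib.Helper65_S3693

open MulAction Cfsg Cfsg.Agent.Lib.Helper47_TW Cfsg.Agent.Lib.Helper47_SubAPI
  Cfsg.Agent.Lib.Helper47_Conj Cfsg.Agent.Lib.Helper47_PClosed Cfsg.Agent.Lib.Helper65_S3688

universe u v

section Generic
variable {G : Type u} [Group G]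

/-- a subgroup of a finite `p`-group which is self-normalising is everything. -/
theorem le_of_self_normalizing [Finite G] {p : ℕ} [Fact p.Prime] {Z X : Subgroup G}
    (hZ : IsPGroup p Z) (hXZ : X ≤ Z)
    (h : ∀ z ∈ Z, z ∈ Subgroup.normalizer (X : Set G) → z ∈ X) : Z ≤ X := by
  by_contra hne
  have hnil : Group.IsNilpotent ↥Z := hZ.isNilpotent
  have hlt : X.subgroupOf Z < ⊤ := by
    rw [lt_top_iff_ne_top, Ne, Subgroup.subgroupOf_eq_top]
    exact hne
  have hlt2 := Group.normalizerCondition_of_isNilpotent (X.subgroupOf Z) hlt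
  obtain ⟨x, hxN, hxD⟩ := SetLike.exists_of_lt hlt2
  apply hxD
  rw [Subgroup.mem_subgroupOf]
  apply h _ x.2
  rw [Subgroup.mem_normalizer_iff] at hxN ⊢
  intro k
  constructor
  · intro hk
    have := (hxN ⟨k, hXZ hk⟩).mp (by rw [Subgroup.mem_subgroupOf]; exact hk)
    rw [Subgroup.mem_subgroupOf] at this
    exact this
  · intro hk
    have hkZ : k ∈ Z := by
      have h1 : k = (x : G)⁻¹ * ((x : G) * k * (x : G)⁻¹) * (x : G) := by group
      rw [h1]
      exact Z.mul_mem (Z.mul_mem (Z.inv_mem x.2) (hXZ hk)) x.2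
    have := (hxN ⟨k, hkZ⟩).mpr (by rw [Subgroup.mem_subgroupOf]; exact hk)
    rw [Subgroup.mem_subgroupOf] at this
    exact this

theorem mem_normalizer_sup {A B : Subgroup G} {g : G}
    (ha : g ∈ Subgroup.normalizer (A : Set G)) (hb : g ∈ Subgroup.normalizer (B : Set G)) :
    g ∈ Subgroup.normalizer ((A ⊔ B : Subgroup G) : Set G) := by
  rw [Subgroup.mem_normalizer_iff_map_conj_eq] at ha hb ⊢
  rw [Subgroup.map_sup, ha, hb]

/-- the group-theoretic core of S3693. -/
theorem pCoreOf_inf_eq_bot [Finite G] {M N : Subgroup G} (h : Setup M N) (p : ℕ) [Fact p.Prime]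
    (hA : pCoreOf p (M ⊓ N) ≤ c1 M N) :
    pCoreOf p (M ⊓ N) = ⊥ ∧ pCoreOf p (c1 M N) = ⊥ := by
  set T := M ⊓ N with hT
  set X := pCoreOf p T with hX
  set A := c1 M N with hAdef
  have hXT : X ≤ T := pCoreOf_le T
  have hAT : A ≤ T := le_inf (c1_le_left M N) (c1_le_right M N)
  have hMA : M ≤ Subgroup.normalizer (A : Set G) := le_normalizer_relCore M (M ⊓ N)
  have hXeq : X = pCoreOf p A := by
    apply le_antisymm
    · exact le_pCoreOf hA (hAT.trans (le_normalizer_pCoreOf T)) (isPGroup_pCoreOf T)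
    · exact le_pCoreOf ((pCoreOf_le A).trans hAT)
        ((inf_le_left : T ≤ M).trans (le_normalizer_pCoreOf_of_le_normalizer hMA))
        (isPGroup_pCoreOf A)
  have hMX : M ≤ Subgroup.normalizer (X : Set G) := by
    rw [hXeq]; exact le_normalizer_pCoreOf_of_le_normalizer hMA
  suffices hbot : X = ⊥ by
    exact ⟨hbot, by rw [← hXeq]; exact hbot⟩
  by_contra hXne
  have hnorm : Subgroup.normalizer (X : Set G) = M :=
    h.normalizer_eq hXne (hXT.trans inf_le_left) hMX
  obtain ⟨g, hg⟩ := h.conj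
  set X' := X.map (MulAut.conj g).toMonoidHom with hX'
  have hNX' : N ≤ Subgroup.normalizer (X' : Set G) := by
    rw [hX', normalizer_map_conj, hg]
    exact Subgroup.map_mono hMX
  have hX'N : X' ≤ N := by
    rw [hg]; exact Subgroup.map_mono (hXT.trans inf_le_left)
  have hXp : IsPGroup p X := isPGroup_pCoreOf T
  have hX'p : IsPGroup p X' := hXp.map _
  have hcard : Nat.card X' = Nat.card X :=
    Subgroup.card_map_of_injective (MulAut.conj g).injective
  have hXN : X ≤ N := hXT.trans inf_le_right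
  have hZp : IsPGroup p (X ⊔ X' : Subgroup G) :=
    IsPGroup.to_sup_of_normal_right' hXp hX'p (hXN.trans hNX')
  have hZN : X ⊔ X' ≤ N := sup_le hXN hX'N
  have hTZ : T ≤ Subgroup.normalizer (((X ⊔ X') ⊓ T : Subgroup G) : Set G) := by
    intro t ht
    apply mem_normalizer_inf
    · exact mem_normalizer_sup (le_normalizer_pCoreOf T ht) (hNX' (inf_le_right (a := M) ht))
    · exact Subgroup.le_normalizer ht
  have hZT : (X ⊔ X') ⊓ T ≤ X := le_pCoreOf inf_le_right hTZ (hZp.to_le inf_le_left)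
  have hself : ∀ z ∈ X ⊔ X', z ∈ Subgroup.normalizer (X : Set G) → z ∈ X := by
    intro z hz hzn
    rw [hnorm] at hzn
    exact hZT ⟨hz, ⟨hzn, hZN hz⟩⟩
  have hZX : X ⊔ X' ≤ X := le_of_self_normalizing hZp le_sup_left hself
  have hX'X : X' ≤ X := le_sup_right.trans hZX
  have heq : X' = X := Subgroup.eq_of_le_of_card_ge hX'X hcard.ge
  have hNX : N ≤ Subgroup.normalizer (X : Set G) := by rw [← heq]; exact hNX'
  exact hXne (h.eq_bot_of_normalized (hXT.trans inf_le_left) hMX hNX)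

end Generic

variable {G : Type u} {Ω : Type v} [Group G] [MulAction G Ω]

theorem mem_c1_of_toPermHom_eq_one (a b : Ω) (m : ↥(stabilizer G a))
    (hm : MulAction.toPermHom ↥(stabilizer G a) (orbit ↥(stabilizer G a) b) m = 1) :
    (m : G) ∈ c1 (stabilizer G a) (stabilizer G b) := by
  rw [mem_c1_iff]
  refine ⟨mem_stabilizer_iff.1 m.2, fun k hk => ?_⟩
  have h2 := congrArg (fun σ : Equiv.Perm (orbit ↥(stabilizer G a) b) =>
    ((σ ⟨(⟨k, mem_stabilizer_iff.2 hk⟩ : ↥(stabilizer G a)) • b, mem_orbit _ _⟩ :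
      orbit ↥(stabilizer G a) b) : Ω)) hm
  simp only [Equiv.Perm.coe_one, id_eq] at h2
  rw [toPermHom_orbit_coe] at h2
  exact h2

section Main
variable [Finite G] [Finite Ω]

/-- Step A: `F(G_ab^Δ) = 1` forces `O_p(G_ab)` into the kernel `c1` of `G_a` on `Δ`. -/
theorem pCoreOf_le_c1 (a b : Ω) (p : ℕ) [Fact p.Prime]
    (hF : fittingSubgroup ↥(((stabilizer G b).subgroupOf (stabilizer G a)).map
      (MulAction.toPermHom (stabilizer G a) (orbit (stabilizer G a) b))) = ⊥) :
    pCoreOf p (stabilizer G a ⊓ stabilizer G b) ≤ c1 (stabilizer G a) (stabilizer G b) := by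
  set M := stabilizer G a with hM
  set N := stabilizer G b with hN
  set φ := MulAction.toPermHom ↥M (orbit ↥M b) with hφ
  set I := (N.subgroupOf M).map φ with hI
  let ψ : ↥(M ⊓ N) →* ↥I :=
    (φ.comp (Subgroup.inclusion (inf_le_left : M ⊓ N ≤ M))).codRestrict I
      (fun t => Subgroup.mem_map.2
        ⟨Subgroup.inclusion inf_le_left t, Subgroup.mem_subgroupOf.2 t.2.2, rfl⟩)
  have hsurj : Function.Surjective ψ := by
    rintro ⟨i, hi⟩
    obtain ⟨m, hm, rfl⟩ := Subgroup.mem_map.1 hi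
    refine ⟨⟨(m : G), ⟨m.2, Subgroup.mem_subgroupOf.1 hm⟩⟩, ?_⟩
    apply Subtype.ext
    rfl
  have hnorm : ((pCore p ↥(M ⊓ N)).map ψ).Normal :=
    Subgroup.Normal.map (Cfsg.Agent.Lib.Helper1_Cores.pCore_normal p) ψ hsurj
  have hpg : IsPGroup p ((pCore p ↥(M ⊓ N)).map ψ) :=
    (Cfsg.Agent.Lib.Helper1_Cores.pCore_isPGroup p).map ψ
  have hle : (pCore p ↥(M ⊓ N)).map ψ ≤ ⊥ := by
    rw [← hF]
    exact (Cfsg.Agent.Lib.Helper1_Cores.le_pCore hnorm hpg).trans
      (Cfsg.Agent.Lib.Helper1_Cores.pCore_le_fittingSubgroup p)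
  rintro x ⟨t, ht, rfl⟩
  have h1 : ψ t = 1 := by
    have := hle (Subgroup.mem_map_of_mem ψ ht)
    rwa [Subgroup.mem_bot] at this
  have h2 : φ (Subgroup.inclusion (inf_le_left : M ⊓ N ≤ M) t) = 1 :=
    congrArg Subtype.val h1
  exact mem_c1_of_toPermHom_eq_one a b _ h2

theorem setup_of [FaithfulSMul G Ω] (hprim : IsPreprimitive G Ω) (a b : Ω)
    (hne : stabilizer G a ≠ stabilizer G b) : Setup (stabilizer G a) (stabilizer G b) := by
  have hpt : IsPretransitive G Ω := hprim.toIsPretransitive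
  have hab : a ≠ b := fun h => hne (h ▸ rfl)
  have hnt : Nontrivial Ω := ⟨⟨a, b, hab⟩⟩
  have hcore : ∀ x : Ω, (stabilizer G x).normalCore = ⊥ := by
    intro x
    rw [eq_bot_iff]
    intro g hg
    rw [Subgroup.mem_bot]
    apply FaithfulSMul.eq_of_smul_eq_smul (α := Ω)
    intro z
    rw [one_smul]
    obtain ⟨k, rfl⟩ := exists_smul_eq G x z
    have h1 : k⁻¹ * g * k⁻¹⁻¹ ∈ stabilizer G x := hg k⁻¹
    rw [inv_inv, mem_stabilizer_iff, mul_smul, mul_smul, inv_smul_eq_iff] at h1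
    exact h1
  obtain ⟨g, hg⟩ := exists_smul_eq G a b
  refine ⟨IsPreprimitive.isCoatom_stabilizer_of_isPreprimitive (G := G) (X := Ω) a,
    IsPreprimitive.isCoatom_stabilizer_of_isPreprimitive (G := G) (X := Ω) b,
    hcore a, hcore b, hne, g, ?_⟩
  rw [← hg, stabilizer_smul_eq_stabilizer_map_conj]

theorem stab_ne_of_card (a b : Ω) (h2 : 2 ≤ Nat.card (orbit (stabilizer G a) b)) :
    stabilizer G a ≠ stabilizer G b := by
  intro h
  have h1 : orbit (stabilizer G a) b = {b} := by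
    ext z
    constructor
    · rintro ⟨m, rfl⟩
      have : (m : G) ∈ stabilizer G b := h ▸ m.2
      exact mem_stabilizer_iff.1 this
    · rintro rfl
      exact mem_orbit_self _
  rw [h1] at h2
  have : Nat.card ({b} : Set Ω) = 1 := by simp
  omega

/-- S3693. -/
theorem main [FaithfulSMul G Ω] (hprim : IsPreprimitive G Ω) (a b : Ω) (d : ℕ)
    (hd : Nat.card (orbit (stabilizer G a) b) = d) (h2 : 2 ≤ d)
    (hF : fittingSubgroup ↥(((stabilizer G b).subgroupOf (stabilizer G a)).map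
      (MulAction.toPermHom (stabilizer G a) (orbit (stabilizer G a) b))) = ⊥) :
    fittingSubgroup ↥(stabilizer G a ⊓ stabilizer G b) = ⊥ ∧
      Nat.card (stabilizer G a) ∣ d.factorial * ((d - 1).factorial) ^ d := by
  have hpt : IsPretransitive G Ω := hprim.toIsPretransitive
  have hne : stabilizer G a ≠ stabilizer G b := stab_ne_of_card a b (by omega)
  have hset := setup_of hprim a b hne
  have hcores : ∀ p : ℕ, p.Prime →
      pCoreOf p (stabilizer G a ⊓ stabilizer G b) = ⊥ ∧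
        pCoreOf p (c1 (stabilizer G a) (stabilizer G b)) = ⊥ := by
    intro p hp
    have : Fact p.Prime := ⟨hp⟩
    exact pCoreOf_inf_eq_bot hset p (pCoreOf_le_c1 a b p hF)
  constructor
  · rw [Cfsg.Agent.Lib.Helper1_Cores.fittingSubgroup_eq_iSup_pCore, eq_bot_iff]
    refine iSup_le (fun p => ?_)
    rw [pCore_eq_bot_of_pCoreOf (hcores p p.2).1]
  · by_cases hA : c2 (stabilizer G a) (stabilizer G b) = ⊥
    · have := card_dvd_of_c2 a b hA
      rwa [hd] at this
    · by_cases hB : c2 (stabilizer G b) (stabilizer G a) = ⊥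
      · have := card_dvd_of_c2 b a hB
        rwa [← card_orbit_symm a b, hd, card_stab_eq_of_trans a b] at this
      · exfalso
        obtain ⟨p, hp, -, -, hF1, -⟩ := Cfsg.Agent.Lib.Helper47_TW.main hset hA hB
        have hAne : c1 (stabilizer G a) (stabilizer G b) ≠ ⊥ := by
          intro h0
          apply hA
          rw [eq_bot_iff, ← h0]
          exact c2_le_c1 _ _
        apply fstar_ne_bot hAne
        rw [hF1, pCore_eq_bot_of_pCoreOf (hcores p hp).2]

end Main

end Cfsg.Agent.Lib.Helper65_S3693
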