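import Mathlib
import Cfsg.Agent.Lib.Helper49_KnDefs
import Cfsg.Agent.Lib.Helper65_S3693

/-!
# S3687 package ALTTRANS (helper10 for helper49): if `M` acts on the `d ≥ 5` cosets of `T` as
`Alt` or `Sym` and `H` contains the alternating part, then `M = H T`.
-/

namespace Cfsg.Agent.Lib.Helper10_Kn_ALTTRANS

open Cfsg Cfsg.Agent.Lib.Helper47_TW Cfsg.Agent.Lib.Helper49_KnDefs

universe u v

/-- type level: the image of the coset action contains the alternating group -/
theorem alt_le_range {M : Type*} [Group M] [Finite M] (T : Subgroup M) (d : ℕ)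
    (hidx : Nat.card M = d * Nat.card T)
    (has : d.factorial * Nat.card T.normalCore ≤ 2 * Nat.card M)
    [Fintype (M ⧸ T)] [DecidableEq (M ⧸ T)] :
    Nat.card (M ⧸ T) = d ∧
      alternatingGroup (M ⧸ T) ≤ (MulAction.toPermHom M (M ⧸ T)).range := by
  set φ : M →* Equiv.Perm (M ⧸ T) := MulAction.toPermHom M (M ⧸ T) with hφ
  have hker : φ.ker = T.normalCore := (Subgroup.normalCore_eq_ker T).symm
  have hQ : Nat.card (M ⧸ T) = d := by
    have h1 := T.card_mul_index
    have hT : 0 < Nat.card T := Nat.card_pos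
    have : Nat.card T * T.index = Nat.card T * d := by rw [h1, hidx, mul_comm]
    exact Nat.eq_of_mul_eq_mul_left hT this
  refine ⟨hQ, ?_⟩
  have hrk : Nat.card φ.range * Nat.card φ.ker = Nat.card M := by
    have := Subgroup.card_mul_index φ.ker
    rw [Subgroup.index_ker] at this
    rw [mul_comm]; exact this
  have hperm : Nat.card (Equiv.Perm (M ⧸ T)) = d.factorial := by rw [Nat.card_perm, hQ]
  have hidx2 : φ.range.index ≤ 2 := by
    have h1 := φ.range.card_mul_index
    rw [hperm] at h1
    rw [← hker, ← hrk] at has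
    have hK : 0 < Nat.card φ.ker := Nat.card_pos
    have hR : 0 < Nat.card φ.range := Nat.card_pos
    have h2 : d.factorial ≤ 2 * Nat.card φ.range := by
      have : d.factorial * Nat.card φ.ker ≤ (2 * Nat.card φ.range) * Nat.card φ.ker := by
        rw [mul_assoc]; exact has
      exact Nat.le_of_mul_le_mul_right this hK
    rw [← h1] at h2
    have : Nat.card φ.range * φ.range.index ≤ Nat.card φ.range * 2 := by
      rw [mul_comm _ 2]; exact h2
    exact Nat.le_of_mul_le_mul_left this hR
  exact Equiv.Perm.alternatingGroup_le_of_index_le_two hidx2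

/-- type level: every coset of `T` contains an element of the commutator subgroup -/
theorem trans_type {M : Type*} [Group M] [Finite M] (T : Subgroup M) (d : ℕ) (hd : 5 ≤ d)
    (hidx : Nat.card M = d * Nat.card T)
    (has : d.factorial * Nat.card T.normalCore ≤ 2 * Nat.card M) (m : M) :
    ∃ x ∈ commutator M, x⁻¹ * m ∈ T := by
  classical
  have : Fintype (M ⧸ T) := Fintype.ofFinite (M ⧸ T)
  obtain ⟨hQ, hAlt⟩ := alt_le_range T d hidx has
  set φ : M →* Equiv.Perm (M ⧸ T) := MulAction.toPermHom M (M ⧸ T) with hφ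
  have h5 : 5 ≤ Nat.card (M ⧸ T) := by rw [hQ]; exact hd
  have hcomm : alternatingGroup (M ⧸ T) ≤ (commutator M).map φ := by
    rw [commutator_def M, Subgroup.map_commutator, ← MonoidHom.range_eq_map,
      ← commutator_alternatingGroup_eq_self h5]
    exact Subgroup.commutator_mono hAlt hAlt
  have := alternatingGroup.isPretransitive_of_three_le_card (M ⧸ T) (by omega)
  obtain ⟨σ, hσ⟩ := MulAction.exists_smul_eq (alternatingGroup (M ⧸ T))
    (((1 : M) : M ⧸ T)) ((m : M ⧸ T))
  obtain ⟨x, hx, hxσ⟩ := hcomm σ.2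
  refine ⟨x, hx, ?_⟩
  have h1 : φ x (((1 : M) : M ⧸ T)) = ((m : M ⧸ T)) := by rw [hxσ]; exact hσ
  have h2 : ((x : M ⧸ T)) = ((m : M ⧸ T)) := by
    have : φ x (((1 : M) : M ⧸ T)) = ((x * 1 : M) : M ⧸ T) := rfl
    rw [this, mul_one] at h1
    exact h1
  exact QuotientGroup.eq.mp h2

section Abstract

variable {G : Type u} [Group G] [Finite G]

/-- PACKAGE ALTTRANS -/
theorem as_trans {d : ℕ} {M T H : Subgroup G} (h : AS d M T) (hd : 5 ≤ d)
    (hAH : altPart M T ≤ H) :
    ∀ m ∈ M, ∃ x ∈ H, ∃ t ∈ T, m = x * t := by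
  obtain ⟨hTM, hcard, has⟩ := h
  intro m hm
  have hT' : Nat.card (T.subgroupOf M) = Nat.card T :=
    Nat.card_congr (Subgroup.subgroupOfEquivOfLe hTM).toEquiv
  have hK' : Nat.card (T.subgroupOf M).normalCore = Nat.card (relCore M T) := by
    unfold relCore
    exact (Subgroup.card_map_of_injective M.subtype_injective).symm
  obtain ⟨x', hx', hxm⟩ := trans_type (T.subgroupOf M) d hd (by rw [hT']; exact hcard)
    (by rw [hK']; exact has) ⟨m, hm⟩
  refine ⟨(x' : G), hAH ?_, (x' : G)⁻¹ * m, ?_, by group⟩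
  · have h1 : ⁅M, M⁆ ≤ altPart M T := le_sup_left
    apply h1
    rw [← Subgroup.map_subtype_commutator]
    exact ⟨x', hx', rfl⟩
  · exact Subgroup.mem_subgroupOf.mp hxm

end Abstract

end Cfsg.Agent.Lib.Helper10_Kn_ALTTRANS
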