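import Mathlib

/-!
# S3687 package FINSUB (helper10 for helper49): the subgroups of `Sym × Sym` containing
`Alt × Alt` and projecting onto both or none of the two factors modulo `Alt` (Mathlib only).
-/

universe u v

namespace Cfsg.Agent.Lib.Helper10_Kn_FINSUB

open Equiv Equiv.Perm

section

variable {α : Type u} {β : Type v} [Fintype α] [DecidableEq α] [Fintype β] [DecidableEq β]

/-- the sign of a permutation outside the alternating group -/
theorem sign_of_not_mem {γ : Type*} [Fintype γ] [DecidableEq γ] {s : Perm γ}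
    (h : s ∉ alternatingGroup γ) : sign s = -1 := by
  rcases Int.units_eq_one_or (sign s) with h1 | h1
  · exact absurd (mem_alternatingGroup.mpr h1) h
  · exact h1

/-- two permutations outside the alternating group differ by an even one -/
theorem mul_inv_mem_alt {γ : Type*} [Fintype γ] [DecidableEq γ] {s a : Perm γ}
    (hs : s ∉ alternatingGroup γ) (ha : a ∉ alternatingGroup γ) :
    s * a⁻¹ ∈ alternatingGroup γ := by
  rw [mem_alternatingGroup, map_mul, map_inv, sign_of_not_mem hs, sign_of_not_mem ha]
  decide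

theorem left_mem_of_alt (J : Subgroup (Perm α × Perm β))
    (hJ : (alternatingGroup α).prod (alternatingGroup β) ≤ J) {s : Perm α}
    (hs : s ∈ alternatingGroup α) : ((s, 1) : Perm α × Perm β) ∈ J :=
  hJ (Subgroup.mem_prod.mpr ⟨hs, Subgroup.one_mem _⟩)

theorem right_mem_of_alt (J : Subgroup (Perm α × Perm β))
    (hJ : (alternatingGroup α).prod (alternatingGroup β) ≤ J) {t : Perm β}
    (ht : t ∈ alternatingGroup β) : ((1, t) : Perm α × Perm β) ∈ J :=
  hJ (Subgroup.mem_prod.mpr ⟨Subgroup.one_mem _, ht⟩)

/-- an odd `(a, 1) ∈ J` gives all `(s, 1) ∈ J` -/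
theorem left_top (J : Subgroup (Perm α × Perm β))
    (hJ : (alternatingGroup α).prod (alternatingGroup β) ≤ J) {a : Perm α}
    (ha : a ∉ alternatingGroup α) (haJ : ((a, 1) : Perm α × Perm β) ∈ J) (s : Perm α) :
    ((s, 1) : Perm α × Perm β) ∈ J := by
  by_cases hs : s ∈ alternatingGroup α
  · exact left_mem_of_alt J hJ hs
  · have h1 := left_mem_of_alt J hJ (mul_inv_mem_alt hs ha)
    have h2 := J.mul_mem h1 haJ
    simpa using h2

/-- an odd `(1, b) ∈ J` gives all `(1, t) ∈ J` -/
theorem right_top (J : Subgroup (Perm α × Perm β))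
    (hJ : (alternatingGroup α).prod (alternatingGroup β) ≤ J) {b : Perm β}
    (hb : b ∉ alternatingGroup β) (hbJ : ((1, b) : Perm α × Perm β) ∈ J) (t : Perm β) :
    ((1, t) : Perm α × Perm β) ∈ J := by
  by_cases ht : t ∈ alternatingGroup β
  · exact right_mem_of_alt J hJ ht
  · have h1 := right_mem_of_alt J hJ (mul_inv_mem_alt ht hb)
    have h2 := J.mul_mem h1 hbJ
    simpa using h2

omit [Fintype α] [DecidableEq α] [Fintype β] [DecidableEq β] in
theorem eq_top_of_left_right (J : Subgroup (Perm α × Perm β))
    (hl : ∀ s : Perm α, ((s, 1) : Perm α × Perm β) ∈ J)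
    (hr : ∀ t : Perm β, ((1, t) : Perm α × Perm β) ∈ J) : J = ⊤ := by
  rw [eq_top_iff]
  rintro ⟨s, t⟩ -
  have := J.mul_mem (hl s) (hr t)
  simpa using this

/-- membership in the even-pairs subgroup -/
theorem mem_evenKer (x : Perm α × Perm β) :
    x ∈ ((Equiv.Perm.sign.comp (MonoidHom.fst (Equiv.Perm α) (Equiv.Perm β))) *
          (Equiv.Perm.sign.comp (MonoidHom.snd (Equiv.Perm α) (Equiv.Perm β)))).ker ↔
      sign x.1 * sign x.2 = 1 := by
  rw [MonoidHom.mem_ker, MonoidHom.mul_apply, MonoidHom.comp_apply, MonoidHom.comp_apply,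
    MonoidHom.coe_fst, MonoidHom.coe_snd]

end

/-- PACKAGE FINSUB -/
theorem fin_sub {α : Type u} {β : Type v} [Fintype α] [DecidableEq α] [Fintype β] [DecidableEq β]
    (J : Subgroup (Equiv.Perm α × Equiv.Perm β))
    (hJ : (alternatingGroup α).prod (alternatingGroup β) ≤ J) :
    ((∀ x ∈ J, x.1 ∈ alternatingGroup α) → (∀ x ∈ J, x.2 ∈ alternatingGroup β) →
        J = (alternatingGroup α).prod (alternatingGroup β)) ∧
      ((∃ x ∈ J, x.1 ∉ alternatingGroup α) → (∃ x ∈ J, x.2 ∉ alternatingGroup β) →
        J = ⊤ ∨ J = ((Equiv.Perm.sign.comp (MonoidHom.fst (Equiv.Perm α) (Equiv.Perm β))) *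
          (Equiv.Perm.sign.comp (MonoidHom.snd (Equiv.Perm α) (Equiv.Perm β)))).ker) := by
  constructor
  · intro h1 h2
    exact le_antisymm (fun x hx => Subgroup.mem_prod.mpr ⟨h1 x hx, h2 x hx⟩) hJ
  · rintro ⟨⟨x1, x2⟩, hxJ, hx⟩ ⟨⟨y1, y2⟩, hyJ, hy⟩
    simp only at hx hy
    by_cases hE : J ≤ ((Equiv.Perm.sign.comp (MonoidHom.fst (Equiv.Perm α) (Equiv.Perm β))) *
          (Equiv.Perm.sign.comp (MonoidHom.snd (Equiv.Perm α) (Equiv.Perm β)))).ker
    · right
      refine le_antisymm hE ?_
      rintro ⟨s, t⟩ hst
      rw [mem_evenKer] at hst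
      by_cases hs : s ∈ alternatingGroup α
      · have ht : t ∈ alternatingGroup β := by
          rw [mem_alternatingGroup] at hs ⊢
          simpa [hs] using hst
        exact hJ (Subgroup.mem_prod.mpr ⟨hs, ht⟩)
      · have ht : t ∉ alternatingGroup β := by
          intro ht
          rw [mem_alternatingGroup] at ht
          rw [sign_of_not_mem hs, ht] at hst
          exact absurd hst (by decide)
        have hx2 : x2 ∉ alternatingGroup β := by
          intro hx2
          have := (mem_evenKer (x1, x2)).mp (hE hxJ)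
          rw [mem_alternatingGroup] at hx2
          simp only [] at this
          rw [sign_of_not_mem hx, hx2] at this
          exact absurd this (by decide)
        have h1 : ((s * x1⁻¹, t * x2⁻¹) : Perm α × Perm β) ∈ J :=
          hJ (Subgroup.mem_prod.mpr ⟨mul_inv_mem_alt hs hx, mul_inv_mem_alt ht hx2⟩)
        have h2 := J.mul_mem h1 hxJ
        simpa using h2
    · left
      obtain ⟨⟨z1, z2⟩, hzJ, hz⟩ := SetLike.not_le_iff_exists.mp hE
      rw [mem_evenKer] at hz
      simp only [] at hz
      -- either `z.1` is odd and `z.2` even, or the other way round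
      by_cases hz1 : z1 ∈ alternatingGroup α
      · have hz2 : z2 ∉ alternatingGroup β := by
          intro hz2
          rw [mem_alternatingGroup] at hz1 hz2
          rw [hz1, hz2] at hz
          exact hz (by decide)
        -- `(1, z.2) ∈ J`
        have h1 : ((1, z2) : Perm α × Perm β) ∈ J := by
          have := J.mul_mem (J.inv_mem (left_mem_of_alt J hJ hz1)) hzJ
          simpa using this
        have hr := right_top J hJ hz2 h1
        -- `(x.1, 1) ∈ J`
        have h2 : ((x1, 1) : Perm α × Perm β) ∈ J := by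
          have := J.mul_mem hxJ (J.inv_mem (hr x2))
          simpa using this
        exact eq_top_of_left_right J (left_top J hJ hx h2) hr
      · have hz2 : z2 ∈ alternatingGroup β := by
          by_contra hz2
          rw [sign_of_not_mem hz1, sign_of_not_mem hz2] at hz
          exact hz (by decide)
        have h1 : ((z1, 1) : Perm α × Perm β) ∈ J := by
          have := J.mul_mem hzJ (J.inv_mem (right_mem_of_alt J hJ hz2))
          simpa using this
        have hl := left_top J hJ hz1 h1
        have h2 : ((1, y2) : Perm α × Perm β) ∈ J := by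
          have := J.mul_mem (J.inv_mem (hl y1)) hyJ
          simpa using this
        exact eq_top_of_left_right J hl (right_top J hJ hy h2)

end Cfsg.Agent.Lib.Helper10_Kn_FINSUB
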