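import Mathlib

/-!
Definitions for the S2522 project (helper13): every non-scalar `g` of determinant one is a product of two
regular unipotents.  Abstract setting: a finite-dimensional vector space `V` over a field `K`.

* `RU u`      : `u` is a regular unipotent endomorphism (`u - 1` nilpotent of rank `dim V - 1`).
* `SP g c0 b0`: `g = u₁ * u₂` with `u₁ u₂` regular unipotent, `c0 ∉ range (u₁ - 1)`, `b0 ≠ 0` on `ker (u₂ - 1)`.
* `Good g`    : `g` is not scalar and `g - 1` has rank at least two.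
* `IsSchur g e ε C` : `ε e = 1`, `ε (g e) = 1` and `C` is the Schur complement of `g` on `ker ε`:
                      `C v = g v - ε (g v) • g e`.
* `bRow g ε`  : the functional `v ↦ ε ((g - 1) v)` on `ker ε`.
* `KeyConcl g c0 b0` : conclusion of the Key Lemma.
-/

set_option autoImplicit false

namespace Cfsg.Agent.Lib.Helper13_LevDefs

open Module

variable {K : Type*} [Field K] {V : Type*} [AddCommGroup V] [Module K V]

/-- regular unipotent endomorphism -/
def RU (u : V →ₗ[K] V) : Prop :=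
  IsNilpotent (u - 1) ∧ finrank K (LinearMap.range (u - 1)) + 1 = finrank K V

/-- the strengthened factorization property -/
def SP (g : V →ₗ[K] V) (c0 : V) (b0 : Module.Dual K V) : Prop :=
  ∃ u₁ u₂ : V →ₗ[K] V, RU u₁ ∧ RU u₂ ∧ g = u₁ * u₂ ∧ c0 ∉ LinearMap.range (u₁ - 1) ∧
    ∃ x ∈ LinearMap.ker (u₂ - 1), b0 x ≠ 0

/-- not scalar and `g - 1` of rank at least two -/
def Good (g : V →ₗ[K] V) : Prop :=
  (¬ ∃ a : K, g = a • (1 : V →ₗ[K] V)) ∧ 2 ≤ finrank K (LinearMap.range (g - 1))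

/-- `C` is the Schur complement of `g` with respect to `(e, ε)` -/
structure IsSchur (g : V →ₗ[K] V) (e : V) (ε : Module.Dual K V)
    (C : LinearMap.ker ε →ₗ[K] LinearMap.ker ε) : Prop where
  he : ε e = 1
  hge : ε (g e) = 1
  hC : ∀ v : LinearMap.ker ε, (C v : V) = g (v : V) - ε (g (v : V)) • g e

/-- the functional `v ↦ ε ((g - 1) v)` on `ker ε` -/
def bRow (g : V →ₗ[K] V) (ε : Module.Dual K V) : Module.Dual K (LinearMap.ker ε) :=
  (ε ∘ₗ (g - 1)) ∘ₗ (LinearMap.ker ε).subtype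

/-- conclusion of the Key Lemma -/
def KeyConcl (g : V →ₗ[K] V) (c0 : V) (b0 : Module.Dual K V) : Prop :=
  ∃ (e : V) (ε : Module.Dual K V), ε e = 1 ∧ ε (g e) = 1 ∧ b0 e ≠ 0 ∧ ε c0 ≠ 0 ∧ g e - e ≠ 0 ∧
    bRow g ε ≠ 0 ∧
    ∀ C : LinearMap.ker ε →ₗ[K] LinearMap.ker ε, IsSchur g e ε C → 3 ≤ finrank K V → Good C

theorem bRow_apply (g : V →ₗ[K] V) (ε : Module.Dual K V) (v : LinearMap.ker ε) :
    bRow g ε v = ε (g (v : V)) := by
  have hv : ε (v : V) = 0 := v.2
  simp [bRow, hv]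

theorem exists_isSchur (g : V →ₗ[K] V) (e : V) (ε : Module.Dual K V) (he : ε e = 1)
    (hge : ε (g e) = 1) : ∃ C : LinearMap.ker ε →ₗ[K] LinearMap.ker ε, IsSchur g e ε C := by
  let P : V →ₗ[K] V := g - (ε ∘ₗ g).smulRight (g e)
  have hP : ∀ v : V, P v ∈ LinearMap.ker ε := by
    intro v
    simp [P, LinearMap.mem_ker, hge]
  refine ⟨(P.codRestrict (LinearMap.ker ε) hP) ∘ₗ (LinearMap.ker ε).subtype, he, hge, ?_⟩
  intro v
  simp [P]

theorem IsSchur.sub_one_apply {g : V →ₗ[K] V} {e : V} {ε : Module.Dual K V}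
    {C : LinearMap.ker ε →ₗ[K] LinearMap.ker ε} (h : IsSchur g e ε C) (v : LinearMap.ker ε) :
    (((C - 1) v : LinearMap.ker ε) : V) = (g - 1) (v : V) - ε ((g - 1) (v : V)) • g e := by
  have hv : ε (v : V) = 0 := v.2
  simp [h.hC v, hv]
  abel

end Cfsg.Agent.Lib.Helper13_LevDefs
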