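import Mathlib
import Cfsg.Agent.Lib.Helper13_LevDefs

/-!
# LEV-BORDER (architect helper13, S2522): the core bordering construction `g = U₁ * U₂`.
-/

set_option autoImplicit false

namespace Cfsg.Agent.Lib.Helper10_Lev_BORDER

open Module Cfsg.Agent.Lib.Helper13_LevDefs

variable {K : Type*} [Field K] {V : Type*} [AddCommGroup V] [Module K V]

/-- The projection onto `ker ε` along `e` (where `ε e = 1`). -/
noncomputable def proj (e : V) (ε : Module.Dual K V) (he : ε e = 1) : V →ₗ[K] LinearMap.ker ε :=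
  (LinearMap.id - ε.smulRight e).codRestrict (LinearMap.ker ε) (by
    intro x
    simp [LinearMap.mem_ker, he])

theorem proj_coe (e : V) (ε : Module.Dual K V) (he : ε e = 1) (x : V) :
    ((proj e ε he x : LinearMap.ker ε) : V) = x - ε x • e := by
  show ((LinearMap.id : V →ₗ[K] V) - ε.smulRight e) x = x - ε x • e
  simp

theorem decomp (e : V) (ε : Module.Dual K V) (he : ε e = 1) (x : V) :
    x = ε x • e + ((proj e ε he x : LinearMap.ker ε) : V) := by
  rw [proj_coe]; abel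

theorem proj_e (e : V) (ε : Module.Dual K V) (he : ε e = 1) : proj e ε he e = 0 := by
  apply Subtype.ext
  rw [proj_coe, he, one_smul, sub_self]
  rfl

theorem proj_subtype (e : V) (ε : Module.Dual K V) (he : ε e = 1) (h : LinearMap.ker ε) :
    proj e ε he (h : V) = h := by
  apply Subtype.ext
  have : ε (h : V) = 0 := h.2
  rw [proj_coe, this, zero_smul, sub_zero]

theorem eps_coe (ε : Module.Dual K V) (h : LinearMap.ker ε) : ε (h : V) = 0 := h.2

/-- the first factor -/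
noncomputable def U₁ (g : V →ₗ[K] V) (e : V) (ε : Module.Dual K V) (he : ε e = 1)
    (w₁ : LinearMap.ker ε →ₗ[K] LinearMap.ker ε) : V →ₗ[K] V :=
  ε.smulRight (g e) + (LinearMap.ker ε).subtype ∘ₗ w₁ ∘ₗ proj e ε he

/-- the second factor -/
noncomputable def U₂ (g : V →ₗ[K] V) (e : V) (ε : Module.Dual K V) (he : ε e = 1)
    (w₂ : LinearMap.ker ε →ₗ[K] LinearMap.ker ε) : V →ₗ[K] V :=
  (ε + bRow g ε ∘ₗ proj e ε he).smulRight e + (LinearMap.ker ε).subtype ∘ₗ w₂ ∘ₗ proj e ε he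

theorem U₁_apply (g : V →ₗ[K] V) (e : V) (ε : Module.Dual K V) (he : ε e = 1)
    (w₁ : LinearMap.ker ε →ₗ[K] LinearMap.ker ε) (x : V) :
    U₁ g e ε he w₁ x = ε x • g e + ((w₁ (proj e ε he x) : LinearMap.ker ε) : V) := by
  simp [U₁]

theorem U₂_apply (g : V →ₗ[K] V) (e : V) (ε : Module.Dual K V) (he : ε e = 1)
    (w₂ : LinearMap.ker ε →ₗ[K] LinearMap.ker ε) (x : V) :
    U₂ g e ε he w₂ x = (ε x + bRow g ε (proj e ε he x)) • e
      + ((w₂ (proj e ε he x) : LinearMap.ker ε) : V) := by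
  simp [U₂]

/-- `g = U₁ * U₂`. -/
theorem mul_eq (g : V →ₗ[K] V) (e : V) (ε : Module.Dual K V)
    (C : LinearMap.ker ε →ₗ[K] LinearMap.ker ε) (hS : IsSchur g e ε C)
    (w₁ w₂ : LinearMap.ker ε →ₗ[K] LinearMap.ker ε) (hC : C = w₁ * w₂) :
    g = U₁ g e ε hS.he w₁ * U₂ g e ε hS.he w₂ := by
  have he := hS.he
  apply LinearMap.ext
  intro x
  rw [Module.End.mul_apply, U₁_apply, U₂_apply]
  set h := proj e ε he x with hh
  have h1 : ε ((ε x + bRow g ε h) • e + ((w₂ h : LinearMap.ker ε) : V)) = ε x + bRow g ε h := by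
    rw [map_add, map_smul, he, eps_coe, smul_eq_mul, mul_one, add_zero]
  have h2 : proj e ε he ((ε x + bRow g ε h) • e + ((w₂ h : LinearMap.ker ε) : V)) = w₂ h := by
    rw [map_add, map_smul, proj_e, smul_zero, zero_add, proj_subtype]
  rw [h1, h2]
  have h3 : ((w₁ (w₂ h) : LinearMap.ker ε) : V) = g (h : V) - ε (g (h : V)) • g e := by
    rw [← hS.hC h, hC, Module.End.mul_apply]
  rw [h3, bRow_apply]
  have h4 : g x = ε x • g e + g (h : V) := by
    conv_lhs => rw [decomp e ε he x]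
    rw [map_add, map_smul]
  rw [h4, add_smul]
  abel

/-- `A₁ x = ε x • c + (w₁ - 1) (π x)`. -/
noncomputable def A₁ (e : V) (ε : Module.Dual K V) (he : ε e = 1) (c : LinearMap.ker ε)
    (w₁ : LinearMap.ker ε →ₗ[K] LinearMap.ker ε) : V →ₗ[K] LinearMap.ker ε :=
  ε.smulRight c + (w₁ - 1) ∘ₗ proj e ε he

theorem A₁_apply (e : V) (ε : Module.Dual K V) (he : ε e = 1) (c : LinearMap.ker ε)
    (w₁ : LinearMap.ker ε →ₗ[K] LinearMap.ker ε) (x : V) :
    A₁ e ε he c w₁ x = ε x • c + (w₁ - 1) (proj e ε he x) := by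
  simp [A₁]

theorem U₁_sub_one (g : V →ₗ[K] V) (e : V) (ε : Module.Dual K V) (he : ε e = 1)
    (c : LinearMap.ker ε) (hc : (c : V) = g e - e)
    (w₁ : LinearMap.ker ε →ₗ[K] LinearMap.ker ε) (x : V) :
    (U₁ g e ε he w₁ - 1) x = ((A₁ e ε he c w₁ x : LinearMap.ker ε) : V) := by
  rw [LinearMap.sub_apply, U₁_apply, A₁_apply, Module.End.one_apply]
  have hge : g e = e + (c : V) := by rw [hc]; abel
  conv_lhs => rw [hge]
  conv_lhs => arg 2; rw [decomp e ε he x]
  simp only [Submodule.coe_add, Submodule.coe_smul, LinearMap.sub_apply, Module.End.one_apply,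
    Submodule.coe_sub, smul_add]
  abel

theorem A₁_subtype (e : V) (ε : Module.Dual K V) (he : ε e = 1) (c : LinearMap.ker ε)
    (w₁ : LinearMap.ker ε →ₗ[K] LinearMap.ker ε) (h : LinearMap.ker ε) :
    A₁ e ε he c w₁ (h : V) = (w₁ - 1) h := by
  rw [A₁_apply, eps_coe, zero_smul, zero_add, proj_subtype]

theorem A₁_pow (g : V →ₗ[K] V) (e : V) (ε : Module.Dual K V) (he : ε e = 1)
    (c : LinearMap.ker ε) (hc : (c : V) = g e - e)
    (w₁ : LinearMap.ker ε →ₗ[K] LinearMap.ker ε) (k : ℕ) (x : V) :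
    A₁ e ε he c w₁ (((U₁ g e ε he w₁ - 1) ^ k) x) = ((w₁ - 1) ^ k) (A₁ e ε he c w₁ x) := by
  induction k with
  | zero => simp
  | succ k ih =>
    rw [pow_succ', Module.End.mul_apply, U₁_sub_one g e ε he c hc, A₁_subtype, ih, pow_succ',
      Module.End.mul_apply]

theorem U₁_nilpotent (g : V →ₗ[K] V) (e : V) (ε : Module.Dual K V) (he : ε e = 1)
    (c : LinearMap.ker ε) (hc : (c : V) = g e - e)
    (w₁ : LinearMap.ker ε →ₗ[K] LinearMap.ker ε) (hw : IsNilpotent (w₁ - 1)) :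
    IsNilpotent (U₁ g e ε he w₁ - 1) := by
  obtain ⟨k, hk⟩ := hw
  refine ⟨k + 1, ?_⟩
  apply LinearMap.ext
  intro x
  rw [pow_succ', Module.End.mul_apply, U₁_sub_one g e ε he c hc, A₁_pow g e ε he c hc, hk]
  simp

theorem finrank_ker_add_one [FiniteDimensional K V] (e : V) (ε : Module.Dual K V)
    (he : ε e = 1) : finrank K (LinearMap.ker ε) + 1 = finrank K V := by
  apply Module.Dual.finrank_ker_add_one_of_ne_zero
  intro h
  rw [h] at he
  simp at he

theorem A₁_surjective [FiniteDimensional K V] (e : V) (ε : Module.Dual K V) (he : ε e = 1)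
    (c : LinearMap.ker ε) (w₁ : LinearMap.ker ε →ₗ[K] LinearMap.ker ε)
    (hrk : finrank K (LinearMap.range (w₁ - 1)) + 1 = finrank K (LinearMap.ker ε))
    (hcw : c ∉ LinearMap.range (w₁ - 1)) : Function.Surjective (A₁ e ε he c w₁) := by
  have hlt : LinearMap.range (w₁ - 1) < LinearMap.range (w₁ - 1) ⊔ K ∙ c := by
    refine lt_of_le_of_ne le_sup_left ?_
    intro h
    apply hcw
    rw [h]
    exact Submodule.mem_sup_right (Submodule.mem_span_singleton_self c)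
  have h1 := Submodule.finrank_lt_finrank_of_lt hlt
  have h2 : finrank K ↥(LinearMap.range (w₁ - 1) ⊔ K ∙ c) ≤ finrank K (LinearMap.ker ε) :=
    Submodule.finrank_le _
  have htop : LinearMap.range (w₁ - 1) ⊔ K ∙ c = ⊤ :=
    Submodule.eq_top_of_finrank_eq (by omega)
  intro h
  have hmem : h ∈ LinearMap.range (w₁ - 1) ⊔ K ∙ c := by rw [htop]; trivial
  obtain ⟨r, ⟨h', rfl⟩, s, hs, rfl⟩ := Submodule.mem_sup.mp hmem
  obtain ⟨t, rfl⟩ := Submodule.mem_span_singleton.mp hs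
  refine ⟨t • e + (h' : V), ?_⟩
  rw [A₁_apply, map_add, map_smul, he, eps_coe, map_add, map_smul, proj_e, proj_subtype]
  simp [add_comm]

theorem U₁_range [FiniteDimensional K V] (g : V →ₗ[K] V) (e : V) (ε : Module.Dual K V)
    (he : ε e = 1) (c : LinearMap.ker ε) (hc : (c : V) = g e - e)
    (w₁ : LinearMap.ker ε →ₗ[K] LinearMap.ker ε)
    (hrk : finrank K (LinearMap.range (w₁ - 1)) + 1 = finrank K (LinearMap.ker ε))
    (hcw : c ∉ LinearMap.range (w₁ - 1)) :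
    LinearMap.range (U₁ g e ε he w₁ - 1) = LinearMap.ker ε := by
  apply le_antisymm
  · rintro _ ⟨x, rfl⟩
    rw [U₁_sub_one g e ε he c hc]
    exact (A₁ e ε he c w₁ x).2
  · intro h hh
    obtain ⟨x, hx⟩ := A₁_surjective e ε he c w₁ hrk hcw ⟨h, hh⟩
    refine ⟨x, ?_⟩
    rw [U₁_sub_one g e ε he c hc, hx]

theorem U₁_RU [FiniteDimensional K V] (g : V →ₗ[K] V) (e : V) (ε : Module.Dual K V)
    (he : ε e = 1) (c : LinearMap.ker ε) (hc : (c : V) = g e - e)
    (w₁ : LinearMap.ker ε →ₗ[K] LinearMap.ker ε) (hw : RU w₁)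
    (hcw : c ∉ LinearMap.range (w₁ - 1)) : RU (U₁ g e ε he w₁) := by
  refine ⟨U₁_nilpotent g e ε he c hc w₁ hw.1, ?_⟩
  rw [U₁_range g e ε he c hc w₁ hw.2 hcw]
  exact finrank_ker_add_one e ε he

theorem U₂_sub_one (g : V →ₗ[K] V) (e : V) (ε : Module.Dual K V) (he : ε e = 1)
    (w₂ : LinearMap.ker ε →ₗ[K] LinearMap.ker ε) (x : V) :
    (U₂ g e ε he w₂ - 1) x = bRow g ε (proj e ε he x) • e
      + (((w₂ - 1) (proj e ε he x) : LinearMap.ker ε) : V) := by
  rw [LinearMap.sub_apply, U₂_apply, Module.End.one_apply]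
  conv_lhs => arg 2; rw [decomp e ε he x]
  simp only [LinearMap.sub_apply, Module.End.one_apply, Submodule.coe_sub, add_smul]
  abel

theorem proj_U₂_sub_one (g : V →ₗ[K] V) (e : V) (ε : Module.Dual K V) (he : ε e = 1)
    (w₂ : LinearMap.ker ε →ₗ[K] LinearMap.ker ε) (x : V) :
    proj e ε he ((U₂ g e ε he w₂ - 1) x) = (w₂ - 1) (proj e ε he x) := by
  rw [U₂_sub_one, map_add, map_smul, proj_e, smul_zero, zero_add, proj_subtype]

theorem proj_U₂_pow (g : V →ₗ[K] V) (e : V) (ε : Module.Dual K V) (he : ε e = 1)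
    (w₂ : LinearMap.ker ε →ₗ[K] LinearMap.ker ε) (k : ℕ) (x : V) :
    proj e ε he (((U₂ g e ε he w₂ - 1) ^ k) x) = ((w₂ - 1) ^ k) (proj e ε he x) := by
  induction k with
  | zero => simp
  | succ k ih =>
    rw [pow_succ', Module.End.mul_apply, proj_U₂_sub_one, ih, pow_succ', Module.End.mul_apply]

theorem U₂_nilpotent (g : V →ₗ[K] V) (e : V) (ε : Module.Dual K V) (he : ε e = 1)
    (w₂ : LinearMap.ker ε →ₗ[K] LinearMap.ker ε) (hw : IsNilpotent (w₂ - 1)) :
    IsNilpotent (U₂ g e ε he w₂ - 1) := by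
  obtain ⟨k, hk⟩ := hw
  refine ⟨k + 1, ?_⟩
  apply LinearMap.ext
  intro x
  rw [pow_succ', Module.End.mul_apply, U₂_sub_one, proj_U₂_pow, hk]
  simp

theorem U₂_ker [FiniteDimensional K V] (g : V →ₗ[K] V) (e : V) (ε : Module.Dual K V)
    (he : ε e = 1) (w₂ : LinearMap.ker ε →ₗ[K] LinearMap.ker ε)
    (hrk : finrank K (LinearMap.range (w₂ - 1)) + 1 = finrank K (LinearMap.ker ε))
    (x₀ : LinearMap.ker ε) (hx₀ : x₀ ∈ LinearMap.ker (w₂ - 1)) (hb : bRow g ε x₀ ≠ 0) :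
    LinearMap.ker (U₂ g e ε he w₂ - 1) = K ∙ e := by
  have hker1 : finrank K (LinearMap.ker (w₂ - 1)) = 1 := by
    have := LinearMap.finrank_range_add_finrank_ker (w₂ - 1)
    omega
  have hx₀ne : (⟨x₀, hx₀⟩ : LinearMap.ker (w₂ - 1)) ≠ 0 := by
    intro h
    apply hb
    have : x₀ = 0 := congrArg Subtype.val h
    rw [this, map_zero]
  have hspan := (finrank_eq_one_iff_of_nonzero' (⟨x₀, hx₀⟩ : LinearMap.ker (w₂ - 1)) hx₀ne).mp hker1
  apply le_antisymm
  · intro x hx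
    rw [LinearMap.mem_ker, U₂_sub_one] at hx
    -- apply ε
    have h1 : bRow g ε (proj e ε he x) = 0 := by
      have := congrArg ε hx
      rw [map_add, map_smul, he, eps_coe, map_zero, smul_eq_mul, mul_one, add_zero] at this
      exact this
    rw [h1, zero_smul, zero_add] at hx
    have h2 : (w₂ - 1) (proj e ε he x) = 0 := Subtype.ext hx
    obtain ⟨t, ht⟩ := hspan ⟨proj e ε he x, LinearMap.mem_ker.mpr h2⟩
    have ht' : t • x₀ = proj e ε he x := congrArg Subtype.val ht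
    rw [← ht', map_smul, smul_eq_mul] at h1
    have ht0 : t = 0 := by
      rcases mul_eq_zero.mp h1 with h | h
      · exact h
      · exact absurd h hb
    rw [ht0, zero_smul] at ht'
    rw [Submodule.mem_span_singleton]
    refine ⟨ε x, ?_⟩
    conv_rhs => rw [decomp e ε he x]
    rw [← ht']
    simp
  · rw [Submodule.span_singleton_le_iff_mem, LinearMap.mem_ker, U₂_sub_one, proj_e]
    simp

theorem U₂_RU [FiniteDimensional K V] (g : V →ₗ[K] V) (e : V) (ε : Module.Dual K V)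
    (he : ε e = 1) (w₂ : LinearMap.ker ε →ₗ[K] LinearMap.ker ε) (hw : RU w₂)
    (x₀ : LinearMap.ker ε) (hx₀ : x₀ ∈ LinearMap.ker (w₂ - 1)) (hb : bRow g ε x₀ ≠ 0) :
    RU (U₂ g e ε he w₂) := by
  refine ⟨U₂_nilpotent g e ε he w₂ hw.1, ?_⟩
  have h1 := LinearMap.finrank_range_add_finrank_ker (U₂ g e ε he w₂ - 1)
  rw [U₂_ker g e ε he w₂ hw.2 x₀ hx₀ hb] at h1
  have hene : e ≠ 0 := by
    intro h
    rw [h, map_zero] at he
    exact zero_ne_one he
  rw [finrank_span_singleton hene] at h1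
  exact h1

/-- BORDER -/
theorem border [FiniteDimensional K V] (g : V →ₗ[K] V) (e : V) (ε : Module.Dual K V)
    (C : LinearMap.ker ε →ₗ[K] LinearMap.ker ε) (hS : IsSchur g e ε C)
    (c : LinearMap.ker ε) (hc : (c : V) = g e - e) (c0 : V) (b0 : Module.Dual K V)
    (hb0 : b0 e ≠ 0) (hc0 : ε c0 ≠ 0) (h : SP C c (bRow g ε)) : SP g c0 b0 := by
  obtain ⟨w₁, w₂, hw₁, hw₂, hCw, hcw, x₀, hx₀, hbx₀⟩ := h
  have he := hS.he
  refine ⟨U₁ g e ε he w₁, U₂ g e ε he w₂, U₁_RU g e ε he c hc w₁ hw₁ hcw,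
    U₂_RU g e ε he w₂ hw₂ x₀ hx₀ hbx₀, mul_eq g e ε C hS w₁ w₂ hCw, ?_, e, ?_, hb0⟩
  · rw [U₁_range g e ε he c hc w₁ hw₁.2 hcw, LinearMap.mem_ker]
    exact hc0
  · rw [U₂_ker g e ε he w₂ hw₂.2 x₀ hx₀ hbx₀]
    exact Submodule.mem_span_singleton_self e

end Cfsg.Agent.Lib.Helper10_Lev_BORDER
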