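import Mathlib
import Cfsg.Agent.Lib.Helper13_LevDefs

/-!
# LEV-G1 (architect helper13, S2522): four rank lemmas for the Schur complement `C - 1`.
-/

set_option autoImplicit false

namespace Cfsg.Agent.Lib.Helper10_Lev_G1

open Module Cfsg.Agent.Lib.Helper13_LevDefs

variable {K : Type*} [Field K] {V : Type*} [AddCommGroup V] [Module K V]

/-- `N` restricted to `H = ker ε`. -/
noncomputable def NH (g : V →ₗ[K] V) (ε : Module.Dual K V) : LinearMap.ker ε →ₗ[K] V :=
  (g - 1) ∘ₗ (LinearMap.ker ε).subtype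

theorem NH_apply (g : V →ₗ[K] V) (ε : Module.Dual K V) (v : LinearMap.ker ε) :
    NH g ε v = (g - 1) (v : V) := rfl

/-- `range N ≤ range N|_H ⊔ K ∙ N e`. -/
theorem range_le_sup (g : V →ₗ[K] V) (e : V) (ε : Module.Dual K V) (he : ε e = 1) :
    LinearMap.range (g - 1) ≤ LinearMap.range (NH g ε) ⊔ K ∙ ((g - 1) e) := by
  rintro _ ⟨x, rfl⟩
  have hx : x - ε x • e ∈ LinearMap.ker ε := by
    rw [LinearMap.mem_ker, map_sub, map_smul, he, smul_eq_mul, mul_one, sub_self]
  have h1 : (g - 1) x = NH g ε ⟨x - ε x • e, hx⟩ + ε x • (g - 1) e := by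
    rw [NH_apply]
    simp only [map_sub, map_smul]
    abel
  rw [h1]
  exact Submodule.add_mem_sup ⟨_, rfl⟩ (Submodule.smul_mem _ _ (Submodule.mem_span_singleton_self _))

/-- `range N|_H ≤ (range Ñ) ⊔ K ∙ g e`. -/
theorem rangeNH_le_sup (g : V →ₗ[K] V) (e : V) (ε : Module.Dual K V)
    (C : LinearMap.ker ε →ₗ[K] LinearMap.ker ε) (hS : IsSchur g e ε C) :
    LinearMap.range (NH g ε) ≤
      (LinearMap.range (C - 1)).map (LinearMap.ker ε).subtype ⊔ K ∙ (g e) := by
  rintro _ ⟨v, rfl⟩
  have h1 : NH g ε v = (((C - 1) v : LinearMap.ker ε) : V) + ε ((g - 1) (v : V)) • g e := by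
    rw [hS.sub_one_apply, NH_apply]
    abel
  rw [h1]
  refine Submodule.add_mem_sup ?_ (Submodule.smul_mem _ _ (Submodule.mem_span_singleton_self _))
  exact ⟨(C - 1) v, ⟨v, rfl⟩, rfl⟩

theorem finrank_span_singleton_le_one (x : V) : finrank K (K ∙ x) ≤ 1 := by
  classical
  have := finrank_span_le_card (R := K) ({x} : Set V)
  simpa using this

theorem rank_le_rankNH_add_one [FiniteDimensional K V] (g : V →ₗ[K] V) (e : V)
    (ε : Module.Dual K V) (he : ε e = 1) :
    finrank K (LinearMap.range (g - 1)) ≤ finrank K (LinearMap.range (NH g ε)) + 1 := by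
  calc finrank K (LinearMap.range (g - 1))
      ≤ finrank K ↥(LinearMap.range (NH g ε) ⊔ K ∙ ((g - 1) e)) :=
        Submodule.finrank_mono (range_le_sup g e ε he)
    _ ≤ finrank K (LinearMap.range (NH g ε)) + finrank K (K ∙ ((g - 1) e)) :=
        Submodule.finrank_add_le_finrank_add_finrank _ _
    _ ≤ finrank K (LinearMap.range (NH g ε)) + 1 :=
        Nat.add_le_add_left (finrank_span_singleton_le_one _) _

theorem rankNH_le_rank_add_one [FiniteDimensional K V] (g : V →ₗ[K] V) (e : V)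
    (ε : Module.Dual K V) (C : LinearMap.ker ε →ₗ[K] LinearMap.ker ε) (hS : IsSchur g e ε C) :
    finrank K (LinearMap.range (NH g ε)) ≤ finrank K (LinearMap.range (C - 1)) + 1 := by
  calc finrank K (LinearMap.range (NH g ε))
      ≤ finrank K ↥((LinearMap.range (C - 1)).map (LinearMap.ker ε).subtype ⊔ K ∙ (g e)) :=
        Submodule.finrank_mono (rangeNH_le_sup g e ε C hS)
    _ ≤ finrank K ↥((LinearMap.range (C - 1)).map (LinearMap.ker ε).subtype)
          + finrank K (K ∙ (g e)) := Submodule.finrank_add_le_finrank_add_finrank _ _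
    _ ≤ finrank K (LinearMap.range (C - 1)) + 1 := by
        rw [Submodule.finrank_map_subtype_eq]
        exact Nat.add_le_add_left (finrank_span_singleton_le_one _) _

/-- If `e ∉ range N` then `Ñ` and `N|_H` have the same kernel. -/
theorem ker_eq_of_notMem (g : V →ₗ[K] V) (e : V) (ε : Module.Dual K V)
    (C : LinearMap.ker ε →ₗ[K] LinearMap.ker ε) (hS : IsSchur g e ε C)
    (he : e ∉ LinearMap.range (g - 1)) :
    LinearMap.ker (C - 1) = LinearMap.ker (NH g ε) := by
  ext v
  rw [LinearMap.mem_ker, LinearMap.mem_ker, NH_apply]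
  constructor
  · intro h
    have h1 := hS.sub_one_apply v
    rw [h] at h1
    have h2 : (g - 1) (v : V) = ε ((g - 1) (v : V)) • g e := by
      have : (0 : V) = (g - 1) (v : V) - ε ((g - 1) (v : V)) • g e := by
        simpa using h1
      exact (sub_eq_zero.mp this.symm)
    obtain ⟨t, htdef⟩ : ∃ t : K, t = ε ((g - 1) (v : V)) := ⟨_, rfl⟩
    rw [← htdef] at h2
    by_cases ht : t = 0
    · rw [h2, ht, zero_smul]
    · exfalso
      apply he
      -- g e = N (t⁻¹ v), so e = g e - N e ∈ range N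
      refine ⟨t⁻¹ • (v : V) - e, ?_⟩
      rw [map_sub, map_smul, h2, smul_smul, inv_mul_cancel₀ ht, one_smul]
      simp
  · intro h
    apply Subtype.ext
    rw [hS.sub_one_apply, h]
    simp

theorem rank_eq_rankNH_of_notMem [FiniteDimensional K V] (g : V →ₗ[K] V) (e : V)
    (ε : Module.Dual K V) (C : LinearMap.ker ε →ₗ[K] LinearMap.ker ε) (hS : IsSchur g e ε C)
    (he : e ∉ LinearMap.range (g - 1)) :
    finrank K (LinearMap.range (C - 1)) = finrank K (LinearMap.range (NH g ε)) := by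
  have h1 := LinearMap.finrank_range_add_finrank_ker (C - 1)
  have h2 := LinearMap.finrank_range_add_finrank_ker (NH g ε)
  rw [ker_eq_of_notMem g e ε C hS he] at h1
  omega

/-- G1 (R1) -/
theorem rank_schur_of_notMem_range [FiniteDimensional K V] (g : V →ₗ[K] V) (e : V)
    (ε : Module.Dual K V) (C : LinearMap.ker ε →ₗ[K] LinearMap.ker ε) (hS : IsSchur g e ε C)
    (he : e ∉ LinearMap.range (g - 1)) :
    finrank K (LinearMap.range (g - 1)) ≤ finrank K (LinearMap.range (C - 1)) + 1 := by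
  rw [rank_eq_rankNH_of_notMem g e ε C hS he]
  exact rank_le_rankNH_add_one g e ε hS.he

/-- G1 (R2) -/
theorem rank_schur_eq [FiniteDimensional K V] (g : V →ₗ[K] V) (e : V)
    (ε : Module.Dual K V) (C : LinearMap.ker ε →ₗ[K] LinearMap.ker ε) (hS : IsSchur g e ε C)
    (he : e ∉ LinearMap.range (g - 1)) (f : V) (hf : (g - 1) f = 0) (hεf : ε f ≠ 0) :
    finrank K (LinearMap.range (C - 1)) = finrank K (LinearMap.range (g - 1)) := by
  rw [rank_eq_rankNH_of_notMem g e ε C hS he]
  have hrange : LinearMap.range (NH g ε) = LinearMap.range (g - 1) := by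
    apply le_antisymm
    · rintro _ ⟨v, rfl⟩
      exact ⟨(v : V), rfl⟩
    · rintro _ ⟨x, rfl⟩
      have hx : x - (ε x * (ε f)⁻¹) • f ∈ LinearMap.ker ε := by
        rw [LinearMap.mem_ker, map_sub, map_smul, smul_eq_mul, mul_assoc, inv_mul_cancel₀ hεf,
          mul_one, sub_self]
      refine ⟨⟨_, hx⟩, ?_⟩
      rw [NH_apply]
      simp only [map_sub, map_smul, hf, smul_zero, sub_zero]
  rw [hrange]

/-- G1 (R3) -/
theorem rank_schur_ge [FiniteDimensional K V] (g : V →ₗ[K] V) (e : V)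
    (ε : Module.Dual K V) (C : LinearMap.ker ε →ₗ[K] LinearMap.ker ε) (hS : IsSchur g e ε C) :
    finrank K (LinearMap.range (g - 1)) ≤ finrank K (LinearMap.range (C - 1)) + 2 := by
  have h1 := rank_le_rankNH_add_one g e ε hS.he
  have h2 := rankNH_le_rank_add_one g e ε C hS
  omega

/-- G1 (R4) -/
theorem ker_schur_sub_one [FiniteDimensional K V] (g : V →ₗ[K] V) (e : V)
    (ε : Module.Dual K V) (C : LinearMap.ker ε →ₗ[K] LinearMap.ker ε) (hS : IsSchur g e ε C)
    (hinj : LinearMap.ker (g - 1) = ⊥) (w : V) (hw : (g - 1) w = g e) (hεw : ε w ≠ 0) :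
    LinearMap.ker (C - 1) = ⊥ := by
  rw [LinearMap.ker_eq_bot']
  intro v hv
  have h1 := hS.sub_one_apply v
  rw [hv] at h1
  have h2 : (g - 1) (v : V) = ε ((g - 1) (v : V)) • g e := by
    have : (0 : V) = (g - 1) (v : V) - ε ((g - 1) (v : V)) • g e := by
      simpa using h1
    exact (sub_eq_zero.mp this.symm)
  set t := ε ((g - 1) (v : V)) with ht
  have h3 : (g - 1) ((v : V) - t • w) = 0 := by
    rw [map_sub, map_smul, hw, h2, sub_self]
  have h4 : (v : V) - t • w = 0 := by
    have := LinearMap.mem_ker.mpr h3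
    rw [hinj] at this
    exact (Submodule.mem_bot K).mp this
  have h5 : (v : V) = t • w := sub_eq_zero.mp h4
  have h6 : ε (v : V) = 0 := v.2
  rw [h5, map_smul, smul_eq_mul] at h6
  have ht0 : t = 0 := by
    rcases mul_eq_zero.mp h6 with h | h
    · exact h
    · exact absurd h hεw
  apply Subtype.ext
  rw [h5, ht0, zero_smul]
  rfl

end Cfsg.Agent.Lib.Helper10_Lev_G1
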