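import Mathlib

namespace Cfsg.Agent.Lib.Helper5_SteinbergA

variable {K : Type*} [Field K] {G : Type*} [Group G]

/-- the rank one Steinberg relations -/
structure Rel (X : Bool → K → G) : Prop where
  add : ∀ b t u, X b t * X b u = X b (t + u)
  conj : ∀ b t u, t ≠ 0 →
    (X b t * X (!b) (-t⁻¹) * X b t) * X b u * (X b t * X (!b) (-t⁻¹) * X b t)⁻¹
      = X (!b) (-(t⁻¹ ^ 2 * u))

/-- the Weyl-type element -/
def W (X : Bool → K → G) (b : Bool) (t : K) : G := X b t * X (!b) (-t⁻¹) * X b t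

variable {X : Bool → K → G}

namespace Rel

theorem X_zero (h : Rel X) (b : Bool) : X b 0 = 1 := by
  have := h.add b 0 0
  rw [add_zero] at this
  exact mul_eq_left.mp this

theorem X_inv (h : Rel X) (b : Bool) (t : K) : (X b t)⁻¹ = X b (-t) := by
  rw [inv_eq_iff_mul_eq_one, h.add, add_neg_cancel, h.X_zero]

theorem W_inv (h : Rel X) (b : Bool) (t : K) : (W X b t)⁻¹ = W X b (-t) := by
  unfold W
  rw [mul_inv_rev, mul_inv_rev, h.X_inv, h.X_inv, mul_assoc, neg_neg, inv_neg, neg_neg]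

theorem conjW (h : Rel X) (b : Bool) {t : K} (ht : t ≠ 0) (u : K) :
    W X b t * X b u * (W X b t)⁻¹ = X (!b) (-(t⁻¹ ^ 2 * u)) := h.conj b t u ht

theorem conjW' (h : Rel X) (b : Bool) {t : K} (ht : t ≠ 0) (u : K) :
    W X b t * X (!b) u * (W X b t)⁻¹ = X b (-(t ^ 2 * u)) := by
  have h1 := h.conjW b (neg_ne_zero.mpr ht) (-(t ^ 2 * u))
  rw [← h.W_inv b, inv_inv] at h1
  have h2 : -((-t)⁻¹ ^ 2 * -(t ^ 2 * u)) = u := by
    field_simp
  rw [h2] at h1
  rw [← h1]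
  group

theorem W_not (h : Rel X) (b : Bool) {t : K} (ht : t ≠ 0) : W X (!b) (-t⁻¹) = W X b t := by
  have h1 : W X b t = W X b t * W X b t * (W X b t)⁻¹ := by group
  have h2 : W X b t * W X b t * (W X b t)⁻¹ =
      (W X b t * X b t * (W X b t)⁻¹) * (W X b t * X (!b) (-t⁻¹) * (W X b t)⁻¹) *
        (W X b t * X b t * (W X b t)⁻¹) := by
    conv_lhs => rw [mul_assoc]; arg 2; arg 1; unfold W
    group
  rw [h.conjW b ht, h.conjW' b ht] at h2
  rw [h1, h2]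
  unfold W
  have e1 : -(t⁻¹ ^ 2 * t) = -t⁻¹ := by field_simp
  have e2 : -(t ^ 2 * -t⁻¹) = -(-t⁻¹)⁻¹ := by field_simp
  rw [e1, e2, Bool.not_not]

theorem W_conj_W (h : Rel X) (b : Bool) {t u : K} (ht : t ≠ 0) (hu : u ≠ 0) :
    W X b t * W X b u * (W X b t)⁻¹ = W X b (t ^ 2 * u⁻¹) := by
  have h2 : W X b t * W X b u * (W X b t)⁻¹ =
      (W X b t * X b u * (W X b t)⁻¹) * (W X b t * X (!b) (-u⁻¹) * (W X b t)⁻¹) *
        (W X b t * X b u * (W X b t)⁻¹) := by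
    conv_lhs => arg 1; arg 2; unfold W
    group
  rw [h.conjW b ht, h.conjW' b ht] at h2
  rw [h2]
  have h3 := h.W_not b (t := t ^ 2 * u⁻¹) (by positivity)
  rw [← h3]
  unfold W
  have e1 : -(t⁻¹ ^ 2 * u) = -(t ^ 2 * u⁻¹)⁻¹ := by field_simp
  have e2 : -(t ^ 2 * -u⁻¹) = -(-(t ^ 2 * u⁻¹)⁻¹)⁻¹ := by field_simp
  rw [e1, e2, Bool.not_not]

theorem conjW_t (h : Rel X) {t : K} (ht : t ≠ 0) (u : K) :
    W X true t * X true u * (W X true t)⁻¹ = X false (-(t⁻¹ ^ 2 * u)) := h.conjW true ht u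

theorem conjW_f (h : Rel X) {t : K} (ht : t ≠ 0) (u : K) :
    W X true t * X false u * (W X true t)⁻¹ = X true (-(t ^ 2 * u)) := h.conjW' true ht u

theorem W_true_eq (t : K) : W X true t = X true t * X false (-t⁻¹) * X true t := rfl

theorem W_false_eq (t : K) : W X false t = X false t * X true (-t⁻¹) * X false t := rfl

end Rel

end Cfsg.Agent.Lib.Helper5_SteinbergA
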