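import Mathlib
import Cfsg.Agent.Lib.Helper5_SteinbergA

set_option autoImplicit false

/-!
Steinberg relations of type `C` (helper66, for the Schur multiplier of `PSp_{2m}(q)`).

Index set `ι ⊕ ι` with the opposition `ng = Sum.swap` and the sign `om` (`-1` on `inl`, `1` on
`inr`, so that `om a = sympForm b_a b_{ng a}`).  A family `X a c t` of root elements: the root of
`X a c` is `ε_a + ε_c` (with `ε_{ng a} = -ε_a`), long if `a = c`, and `X a (ng a) t = 1`.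
In the model `X a c t = T(b_a, t b_c) : x ↦ x + t (B(x, b_a) b_c + B(x, b_c) b_a)` for `a ≠ c` and
`X a a t = stv b_a t : x ↦ x + t B(x, b_a) b_a`.
-/

namespace Cfsg.Agent.Lib.Helper66_S92

open Cfsg.Agent.Lib.Helper5_SteinbergA

variable {ι : Type*} {K : Type*} [Field K] {G : Type*} [Group G]

/-- the opposite index -/
def ng (a : ι ⊕ ι) : ι ⊕ ι := a.swap

@[simp] theorem ng_ng (a : ι ⊕ ι) : ng (ng a) = a := Sum.swap_swap a

@[simp] theorem ng_inl (i : ι) : ng (Sum.inl i : ι ⊕ ι) = Sum.inr i := rfl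

@[simp] theorem ng_inr (i : ι) : ng (Sum.inr i : ι ⊕ ι) = Sum.inl i := rfl

theorem ng_ne (a : ι ⊕ ι) : ng a ≠ a := by
  cases a <;> simp

theorem ne_ng (a : ι ⊕ ι) : a ≠ ng a := fun h => ng_ne a h.symm

theorem ng_injective : Function.Injective (ng : ι ⊕ ι → ι ⊕ ι) := fun a b h => by
  have := congrArg ng h
  simpa using this

theorem ng_eq_iff (a b : ι ⊕ ι) : ng a = b ↔ a = ng b := by
  constructor
  · rintro rfl; simp
  · rintro rfl; simp

/-- the sign of an index: `-1` on `inl`, `1` on `inr` -/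
def om (K : Type*) [Field K] (a : ι ⊕ ι) : K := Sum.elim (fun _ => -1) (fun _ => 1) a

@[simp] theorem om_inl (i : ι) : om K (Sum.inl i : ι ⊕ ι) = -1 := rfl

@[simp] theorem om_inr (i : ι) : om K (Sum.inr i : ι ⊕ ι) = 1 := rfl

theorem om_ng (a : ι ⊕ ι) : om K (ng a) = -om K a := by
  cases a <;> simp

theorem om_mul_self (a : ι ⊕ ι) : om K a * om K a = 1 := by
  cases a <;> simp

theorem om_ne_zero (a : ι ⊕ ι) : om K a ≠ 0 := by
  cases a <;> simp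

theorem om_inv (a : ι ⊕ ι) : (om K a)⁻¹ = om K a := by
  cases a <;> simp [inv_neg]

/-- Steinberg relations of type `C` without the rank one relations; commutators are
`g h g⁻¹ h⁻¹` -/
structure CStAB (X : ι ⊕ ι → ι ⊕ ι → K → G) : Prop where
  symm : ∀ a c t, X a c t = X c a t
  opp : ∀ a t, X a (ng a) t = 1
  add : ∀ a c t u, X a c t * X a c u = X a c (t + u)
  comm : ∀ a c d e t u, d ≠ ng a → d ≠ ng c → e ≠ ng a → e ≠ ng c →
    X a c t * X d e u = X d e u * X a c t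
  a2 : ∀ a c e t u, a ≠ c → a ≠ ng c → a ≠ e → a ≠ ng e → c ≠ e → c ≠ ng e →
    X a c t * X (ng c) e u * (X a c t)⁻¹ * (X (ng c) e u)⁻¹ = X a e (-(om K c * t * u))
  ssl : ∀ a c t u, a ≠ c → a ≠ ng c →
    X a c t * X (ng c) a u * (X a c t)⁻¹ * (X (ng c) a u)⁻¹ = X a a (-(2 * om K c * t * u))
  ls : ∀ a e t u, e ≠ a → e ≠ ng a →
    X a a t * X (ng a) e u * (X a a t)⁻¹ * (X (ng a) e u)⁻¹ =
      X a e (-(om K a * t * u)) * X e e (-(t * u ^ 2))

/-- the pair of opposite root subgroups attached to the root of `X a c`, normalised so that it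
satisfies the rank one relations -/
def pairC (X : ι ⊕ ι → ι ⊕ ι → K → G) (a c : ι ⊕ ι) : Bool → K → G :=
  fun b t => if b then X a c (-(om K a * t)) else X (ng a) (ng c) (om K c * t)

omit [Group G] in
theorem pairC_true (X : ι ⊕ ι → ι ⊕ ι → K → G) (a c : ι ⊕ ι) (t : K) :
    pairC X a c true t = X a c (-(om K a * t)) := rfl

omit [Group G] in
theorem pairC_false (X : ι ⊕ ι → ι ⊕ ι → K → G) (a c : ι ⊕ ι) (t : K) :
    pairC X a c false t = X (ng a) (ng c) (om K c * t) := rfl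

/-- Steinberg relations of type `C` -/
structure CSt (X : ι ⊕ ι → ι ⊕ ι → K → G) : Prop extends CStAB X where
  rank1 : ∀ a c, c ≠ ng a → Rel (pairC X a c)

/-- the Weyl element of the root of `X a c`; in the model it maps
`b_{ng a} ↦ s b_c`, `b_c ↦ -s⁻¹ b_{ng a}`, `b_{ng c} ↦ s om a om c b_a`,
`b_a ↦ -s⁻¹ om a om c b_{ng c}` and fixes the other basis vectors -/
def WC (X : ι ⊕ ι → ι ⊕ ι → K → G) (a c : ι ⊕ ι) (s : K) : G := W (pairC X a c) true s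

theorem WC_eq (X : ι ⊕ ι → ι ⊕ ι → K → G) (a c : ι ⊕ ι) (s : K) :
    WC X a c s = X a c (-(om K a * s)) * X (ng a) (ng c) (om K c * -s⁻¹) * X a c (-(om K a * s)) :=
  rfl

/-- the torus element of the root of `X a c`; in the model it scales `b_a`, `b_c` by `s` and
`b_{ng a}`, `b_{ng c}` by `s⁻¹` -/
def HC (X : ι ⊕ ι → ι ⊕ ι → K → G) (a c : ι ⊕ ι) (s : K) : G := WC X a c s * (WC X a c 1)⁻¹

section perm

variable [DecidableEq ι]

/-- the permutation of the indices induced by `WC X a c s` -/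
def sgC (a c d : ι ⊕ ι) : ι ⊕ ι :=
  if d = ng a then c else if d = c then ng a else if d = ng c then a else if d = a then ng c else d

/-- the coefficients of the monomial matrix of `WC X a c s`: it maps `b_d` to
`muC a c s d • b_{sgC a c d}` -/
def muC (a c : ι ⊕ ι) (s : K) (d : ι ⊕ ι) : K :=
  if d = ng a then s else if d = c then -s⁻¹ else if d = ng c then s * om K a * om K c
  else if d = a then -s⁻¹ * om K a * om K c else 1

/-- the characters of the torus element `HC X a c s` -/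
def chC (a c : ι ⊕ ι) (s : K) (d : ι ⊕ ι) : K :=
  if d = a ∨ d = c then s else if d = ng a ∨ d = ng c then s⁻¹ else 1

/-- the action of the root elements on vectors in the model -/
def xact (a c : ι ⊕ ι) (t : K) (v : ι ⊕ ι → K) : ι ⊕ ι → K :=
  if c = ng a then v
  else if a = c then v - Pi.single a (t * om K a * v (ng a))
  else v - Pi.single c (t * om K a * v (ng a)) - Pi.single a (t * om K c * v (ng c))

/-- the matrix of a root element in the model -/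
def XMat (a c : ι ⊕ ι) (t : K) : Matrix (ι ⊕ ι) (ι ⊕ ι) K :=
  if c = ng a then 1
  else if a = c then 1 - Matrix.single a (ng a) (t * om K a)
  else 1 - Matrix.single c (ng a) (t * om K a) - Matrix.single a (ng c) (t * om K c)

end perm

/-! ### the subgroups of the vector stabiliser argument -/

/-- the abstract unipotent radical of the stabiliser of the line of `b_j` -/
def Qs (X : ι ⊕ ι → ι ⊕ ι → K → G) (j : ι ⊕ ι) : Subgroup G :=
  Subgroup.closure {g | ∃ c t, c ≠ ng j ∧ g = X j c t}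

/-- the abstract stabiliser of the vector `b_o` -/
def Gs (X : ι ⊕ ι → ι ⊕ ι → K → G) (o : ι ⊕ ι) : Subgroup G :=
  Subgroup.closure {g | ∃ a c t, a ≠ ng o ∧ c ≠ ng o ∧ g = X a c t}

/-- the abstract stabiliser of the vectors `b_o` and `b_{ng o}` -/
def Ls (X : ι ⊕ ι → ι ⊕ ι → K → G) (o : ι ⊕ ι) : Subgroup G :=
  Subgroup.closure {g | ∃ a c t, a ≠ o ∧ a ≠ ng o ∧ c ≠ o ∧ c ≠ ng o ∧ g = X a c t}

section coset

variable [DecidableEq ι]

/-- the monomial representative mapping `b_o` to `s b_k` -/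
def dC (X : ι ⊕ ι → ι ⊕ ι → K → G) (o k : ι ⊕ ι) (s : K) : G :=
  if k = o then HC X o o s else WC X (ng o) k s

/-- the coset relation with pivot `k`: `g ∈ Q_{ng k} d_k(s) Γ_o` -/
def Rk (X : ι ⊕ ι → ι ⊕ ι → K → G) (o k : ι ⊕ ι) (g : G) : Prop :=
  ∃ q ∈ Qs X (ng k), ∃ s : K, s ≠ 0 ∧ ∃ γ ∈ Gs X o, g = q * dC X o k s * γ

/-- the coset relation -/
def RR (X : ι ⊕ ι → ι ⊕ ι → K → G) (o : ι ⊕ ι) (g : G) : Prop := ∃ k, Rk X o k g

/-- the action of a group with a family of root elements on vectors is the one of the model -/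
def IsAct (X : ι ⊕ ι → ι ⊕ ι → K → G) (ρ : G →* Module.End K (ι ⊕ ι → K)) : Prop :=
  ∀ a c t v, ρ (X a c t) v = xact a c t v

/-- the calculus of the Weyl and torus elements -/
structure WCalc (X : ι ⊕ ι → ι ⊕ ι → K → G) : Prop where
  wc_conj : ∀ a c : ι ⊕ ι, c ≠ ng a → ∀ s : K, s ≠ 0 → ∀ (d e : ι ⊕ ι) (u : K),
    WC X a c s * X d e u * (WC X a c s)⁻¹ =
      X (sgC a c d) (sgC a c e) (muC a c s d * muC a c s e * u)
  hc_conj : ∀ a c : ι ⊕ ι, c ≠ ng a → ∀ s : K, s ≠ 0 → ∀ (d e : ι ⊕ ι) (u : K),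
    HC X a c s * X d e u * (HC X a c s)⁻¹ = X d e (chC a c s d * chC a c s e * u)
  wc_inv : ∀ a c : ι ⊕ ι, c ≠ ng a → ∀ s : K, (WC X a c s)⁻¹ = WC X a c (-s)
  wc_mul_inv : ∀ a c : ι ⊕ ι, c ≠ ng a → ∀ s t : K, s ≠ 0 → t ≠ 0 →
    WC X a c s * (WC X a c t)⁻¹ = HC X a c (s * t⁻¹)
  wc_mul_hc : ∀ a c : ι ⊕ ι, c ≠ ng a → ∀ s t : K, s ≠ 0 → t ≠ 0 →
    WC X a c s * HC X a c t = WC X a c (s * t⁻¹)
  hc_mul_wc : ∀ a c : ι ⊕ ι, c ≠ ng a → ∀ s t : K, s ≠ 0 → t ≠ 0 →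
    HC X a c t * WC X a c s = WC X a c (t * s)
  hc_mul : ∀ a c : ι ⊕ ι, c ≠ ng a → ∀ s t : K, s ≠ 0 → t ≠ 0 →
    HC X a c s * HC X a c t = HC X a c (s * t)
  wc_ng : ∀ a c : ι ⊕ ι, c ≠ ng a → ∀ s : K, s ≠ 0 →
    WC X (ng a) (ng c) s = WC X a c (-(om K a * om K c * s⁻¹))
  wc_symm : ∀ a c : ι ⊕ ι, c ≠ ng a → ∀ s : K, s ≠ 0 →
    WC X c a s = WC X a c (om K a * om K c * s)
  hc_ng : ∀ a c : ι ⊕ ι, c ≠ ng a → ∀ s : K, s ≠ 0 → HC X (ng a) (ng c) s = HC X a c s⁻¹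
  hc_symm : ∀ a c : ι ⊕ ι, c ≠ ng a → ∀ s : K, s ≠ 0 → HC X c a s = HC X a c s
  t1 : ∀ a c : ι ⊕ ι, c ≠ a → c ≠ ng a → ∀ s : K, s ≠ 0 →
    HC X a c s = HC X a a s * HC X c c s
  rc2 : ∀ a c : ι ⊕ ι, c ≠ a → c ≠ ng a → ∀ t u : K, t ≠ 0 → u ≠ 0 →
    WC X a c t * WC X a (ng c) u =
      WC X a a (om K a * om K c * u * t) * WC X (ng c) (ng c) (u * t⁻¹)

/-- the parts of the conjugation formula for the Weyl elements -/
structure WCJParts (X : ι ⊕ ι → ι ⊕ ι → K → G) : Prop where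
  disj : ∀ (a c d e : ι ⊕ ι) (s u : K), d ≠ a → d ≠ ng a → d ≠ c → d ≠ ng c →
    e ≠ a → e ≠ ng a → e ≠ c → e ≠ ng c → WC X a c s * X d e u * (WC X a c s)⁻¹ = X d e u
  A1 : ∀ (a c e : ι ⊕ ι) (s u : K), s ≠ 0 → a ≠ c → a ≠ ng c →
    e ≠ a → e ≠ ng a → e ≠ c → e ≠ ng c →
    WC X a c s * X (ng a) e u * (WC X a c s)⁻¹ = X c e (s * u)
  A2 : ∀ (a c e : ι ⊕ ι) (s u : K), s ≠ 0 → a ≠ c → a ≠ ng c →
    e ≠ a → e ≠ ng a → e ≠ c → e ≠ ng c →
    WC X a c s * X c e u * (WC X a c s)⁻¹ = X (ng a) e (-(s⁻¹ * u))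
  A3 : ∀ (a c e : ι ⊕ ι) (s u : K), s ≠ 0 → a ≠ c → a ≠ ng c →
    e ≠ a → e ≠ ng a → e ≠ c → e ≠ ng c →
    WC X a c s * X (ng c) e u * (WC X a c s)⁻¹ = X a e (s * om K a * om K c * u)
  A4 : ∀ (a c e : ι ⊕ ι) (s u : K), s ≠ 0 → a ≠ c → a ≠ ng c →
    e ≠ a → e ≠ ng a → e ≠ c → e ≠ ng c →
    WC X a c s * X a e u * (WC X a c s)⁻¹ = X (ng c) e (-(s⁻¹ * om K a * om K c * u))
  B1 : ∀ (a c : ι ⊕ ι) (s u : K), s ≠ 0 → a ≠ c → a ≠ ng c →
    WC X a c s * X a (ng c) u * (WC X a c s)⁻¹ = X a (ng c) (-u)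
  B2 : ∀ (a c : ι ⊕ ι) (s u : K), s ≠ 0 → a ≠ c → a ≠ ng c →
    WC X a c s * X (ng a) c u * (WC X a c s)⁻¹ = X (ng a) c (-u)
  C1 : ∀ (a c : ι ⊕ ι) (s u : K), s ≠ 0 → a ≠ c → a ≠ ng c →
    WC X a c s * X a a u * (WC X a c s)⁻¹ = X (ng c) (ng c) (s⁻¹ ^ 2 * u)
  C2 : ∀ (a c : ι ⊕ ι) (s u : K), s ≠ 0 → a ≠ c → a ≠ ng c →
    WC X a c s * X c c u * (WC X a c s)⁻¹ = X (ng a) (ng a) (s⁻¹ ^ 2 * u)
  C3 : ∀ (a c : ι ⊕ ι) (s u : K), s ≠ 0 → a ≠ c → a ≠ ng c →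
    WC X a c s * X (ng a) (ng a) u * (WC X a c s)⁻¹ = X c c (s ^ 2 * u)
  C4 : ∀ (a c : ι ⊕ ι) (s u : K), s ≠ 0 → a ≠ c → a ≠ ng c →
    WC X a c s * X (ng c) (ng c) u * (WC X a c s)⁻¹ = X a a (s ^ 2 * u)
  D1 : ∀ (a e : ι ⊕ ι) (s u : K), s ≠ 0 → e ≠ a → e ≠ ng a →
    WC X a a s * X a e u * (WC X a a s)⁻¹ = X (ng a) e (-(s⁻¹ * u))
  D2 : ∀ (a e : ι ⊕ ι) (s u : K), s ≠ 0 → e ≠ a → e ≠ ng a →
    WC X a a s * X (ng a) e u * (WC X a a s)⁻¹ = X a e (s * u)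

end coset

section model

variable (ι K)
variable [Fintype ι] [DecidableEq ι]

open Classical in
/-- the model: the root elements in the symplectic group (`XMat a c t` is symplectic) -/
noncomputable def XM (a c : ι ⊕ ι) (t : K) : Matrix.symplecticGroup ι K :=
  if h : XMat a c t ∈ Matrix.symplecticGroup ι K then ⟨XMat a c t, h⟩ else 1

/-- the action of the symplectic group on vectors -/
noncomputable def actM : Matrix.symplecticGroup ι K →* Module.End K (ι ⊕ ι → K) where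
  toFun A := Matrix.toLin' (A : Matrix (ι ⊕ ι) (ι ⊕ ι) K)
  map_one' := by
    show Matrix.toLin' ((1 : Matrix.symplecticGroup ι K) : Matrix (ι ⊕ ι) (ι ⊕ ι) K) = 1
    rw [Submonoid.coe_one, Matrix.toLin'_one]
    rfl
  map_mul' A B := by
    show Matrix.toLin' ((A * B : Matrix.symplecticGroup ι K) : Matrix (ι ⊕ ι) (ι ⊕ ι) K) = _
    rw [Submonoid.coe_mul, Matrix.toLin'_mul]
    rfl

end model

end Cfsg.Agent.Lib.Helper66_S92
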