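import Mathlib
import Cfsg.Agent.Lib.Helper66_S92Defs

set_option autoImplicit false

/-!
Steinberg relations of type `D` (helper66, for the Schur multipliers of the orthogonal groups
`PΩ⁺_{2l}(q)`, S2096 / S2097).

Index set `ι ⊕ ι` with the opposition `ng = Sum.swap` (from `Helper66_S92Defs`).  The quadratic form is
`qD v = ∑ i, v (inl i) * v (inr i)`, with polar form `B(x, y) = ∑ a, x a * y (ng a)`, so
`B(b_a, b_c) = 1` iff `c = ng a`.  A family `X a c t` of root elements: the root of `X a c` is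
`ε_a + ε_c` (with `ε_{ng a} = -ε_a`); `X a a t = 1`, `X a (ng a) t = 1`, `X c a t = X a c (-t)`.
In the model `X a c t` is the Siegel element `E(b_a, t b_c) : x ↦ x + t x_{ng c} b_a - t x_{ng a} b_c`.
All structure constants are `+1`:  `[X a c t, X (ng c) e u] = X a e (t u)`.
The subgroups `Qs X j`, `Gs X o`, `Ls X o` of `Helper66_S92Defs` are reused verbatim.
-/

namespace Cfsg.Agent.Lib.Helper66_S96

open Cfsg.Agent.Lib.Helper5_SteinbergA Cfsg.Agent.Lib.Helper66_S92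

variable {ι : Type*} {K : Type*} [Field K] {G : Type*} [Group G]

/-- Steinberg relations of type `D` without the rank one relations; commutators are
`g h g⁻¹ h⁻¹` -/
structure DStAB (X : ι ⊕ ι → ι ⊕ ι → K → G) : Prop where
  anti : ∀ a c t, X c a t = X a c (-t)
  opp : ∀ a t, X a (ng a) t = 1
  diag : ∀ a t, X a a t = 1
  add : ∀ a c t u, X a c t * X a c u = X a c (t + u)
  comm : ∀ a c d e t u, d ≠ ng a → d ≠ ng c → e ≠ ng a → e ≠ ng c →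
    X a c t * X d e u = X d e u * X a c t
  comm2 : ∀ a c t u, X a c t * X (ng a) c u = X (ng a) c u * X a c t
  a2 : ∀ a c e t u, a ≠ c → a ≠ ng c → a ≠ e → a ≠ ng e → c ≠ e → c ≠ ng e →
    X a c t * X (ng c) e u * (X a c t)⁻¹ * (X (ng c) e u)⁻¹ = X a e (t * u)

/-- the pair of opposite root subgroups attached to the root of `X a c`, normalised so that it
satisfies the rank one relations `Helper5_SteinbergA.Rel` -/
def pairD (X : ι ⊕ ι → ι ⊕ ι → K → G) (a c : ι ⊕ ι) : Bool → K → G :=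
  fun b t => if b then X a c t else X (ng a) (ng c) (-t)

omit [Group G] in
theorem pairD_true (X : ι ⊕ ι → ι ⊕ ι → K → G) (a c : ι ⊕ ι) (t : K) :
    pairD X a c true t = X a c t := rfl

omit [Group G] in
theorem pairD_false (X : ι ⊕ ι → ι ⊕ ι → K → G) (a c : ι ⊕ ι) (t : K) :
    pairD X a c false t = X (ng a) (ng c) (-t) := rfl

/-- Steinberg relations of type `D` (with the rank one relations) -/
structure DSt (X : ι ⊕ ι → ι ⊕ ι → K → G) : Prop extends DStAB X where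
  rank1 : ∀ a c, c ≠ a → c ≠ ng a → Rel (pairD X a c)

/-- the Weyl element of the root of `X a c`; in the model it maps
`b_a ↦ -s⁻¹ b_{ng c}`, `b_{ng c} ↦ s b_a`, `b_c ↦ s⁻¹ b_{ng a}`, `b_{ng a} ↦ -s b_c`
and fixes the other basis vectors -/
def WD (X : ι ⊕ ι → ι ⊕ ι → K → G) (a c : ι ⊕ ι) (s : K) : G := W (pairD X a c) true s

theorem WD_eq (X : ι ⊕ ι → ι ⊕ ι → K → G) (a c : ι ⊕ ι) (s : K) :
    WD X a c s = X a c s * X (ng a) (ng c) (- -s⁻¹) * X a c s := rfl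

/-- the torus element of the root of `X a c`; in the model it scales `b_a`, `b_c` by `s` and
`b_{ng a}`, `b_{ng c}` by `s⁻¹` -/
def HD (X : ι ⊕ ι → ι ⊕ ι → K → G) (a c : ι ⊕ ι) (s : K) : G := WD X a c s * (WD X a c 1)⁻¹

/-- the candidate for the nontrivial element of the kernel: it is the identity in the model -/
def zD (X : ι ⊕ ι → ι ⊕ ι → K → G) (a c : ι ⊕ ι) : G := HD X a c (-1) * HD X a (ng c) (-1)

section perm

variable [DecidableEq ι]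

/-- the permutation of the indices induced by `WD X a c s` -/
def sgD (a c d : ι ⊕ ι) : ι ⊕ ι :=
  if d = a then ng c else if d = ng c then a else if d = c then ng a else if d = ng a then c else d

/-- the coefficients of the monomial matrix of `WD X a c s`: it maps `b_d` to
`muD a c s d • b_{sgD a c d}` -/
def muD (a c : ι ⊕ ι) (s : K) (d : ι ⊕ ι) : K :=
  if d = a then -s⁻¹ else if d = ng c then s else if d = c then s⁻¹ else if d = ng a then -s else 1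

/-- the characters of the torus element `HD X a c s` -/
def chD (a c : ι ⊕ ι) (s : K) (d : ι ⊕ ι) : K :=
  if d = a ∨ d = c then s else if d = ng a ∨ d = ng c then s⁻¹ else 1

/-- the action of the root elements on vectors in the model -/
def xactD (a c : ι ⊕ ι) (t : K) (v : ι ⊕ ι → K) : ι ⊕ ι → K :=
  if c = ng a then v
  else v + Pi.single a (t * v (ng c)) - Pi.single c (t * v (ng a))

/-- the matrix of a root element in the model -/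
def XMatD (a c : ι ⊕ ι) (t : K) : Matrix (ι ⊕ ι) (ι ⊕ ι) K :=
  if c = ng a then 1
  else 1 + Matrix.single a (ng c) t - Matrix.single c (ng a) t

end perm

/-- the quadratic form `∑ i, v (inl i) * v (inr i)` -/
def qD [Fintype ι] (v : ι ⊕ ι → K) : K := ∑ i, v (Sum.inl i) * v (Sum.inr i)

/-- the action of a group with a family of root elements on vectors is the one of the model -/
def IsActD [DecidableEq ι] (X : ι ⊕ ι → ι ⊕ ι → K → G) (ρ : G →* Module.End K (ι ⊕ ι → K)) : Prop :=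
  ∀ a c t v, ρ (X a c t) v = xactD a c t v

/-! ### the subgroups of the vector stabiliser argument (besides `Qs`, `Gs`, `Ls`) -/

/-- the abstract torus -/
def Ts (X : ι ⊕ ι → ι ⊕ ι → K → G) : Subgroup G :=
  Subgroup.closure {g | ∃ a c s, c ≠ a ∧ c ≠ ng a ∧ s ≠ 0 ∧ g = HD X a c s}

/-- the abstract stabiliser of the line of `b_o` -/
def Ps (X : ι ⊕ ι → ι ⊕ ι → K → G) (o : ι ⊕ ι) : Subgroup G := Gs X o ⊔ Ts X

/-- the abstract torus of the Levi factor `Ls X o` -/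
def Tso (X : ι ⊕ ι → ι ⊕ ι → K → G) (o : ι ⊕ ι) : Subgroup G :=
  Subgroup.closure {g | ∃ a c s, c ≠ a ∧ c ≠ ng a ∧ a ≠ o ∧ a ≠ ng o ∧ c ≠ o ∧ c ≠ ng o ∧ s ≠ 0 ∧
    g = HD X a c s}

/-- the monomial representatives: `d` maps the line of `b_o` to the line of `b_k` -/
def IsRepD (X : ι ⊕ ι → ι ⊕ ι → K → G) (o k : ι ⊕ ι) (d : G) : Prop :=
  (k = o ∧ d = 1) ∨ (k ≠ o ∧ k ≠ ng o ∧ d = WD X (ng o) k 1) ∨
    (k = ng o ∧ ∃ j, j ≠ o ∧ j ≠ ng o ∧ d = WD X (ng j) (ng o) 1 * WD X (ng o) j 1)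

/-- the coset relation with pivot `k`: `g ∈ Q_{ng k} d_k P_o` -/
def RkD (X : ι ⊕ ι → ι ⊕ ι → K → G) (o k : ι ⊕ ι) (g : G) : Prop :=
  ∃ q ∈ Qs X (ng k), ∃ d, IsRepD X o k d ∧ ∃ p ∈ Ps X o, g = q * d * p

/-- the coset relation -/
def RRD (X : ι ⊕ ι → ι ⊕ ι → K → G) (o : ι ⊕ ι) (g : G) : Prop := ∃ k, RkD X o k g

section calculus

variable [DecidableEq ι]

/-- the parts of the conjugation formula for the Weyl elements which follow from `DStAB` alone -/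
structure WCJPartsD (X : ι ⊕ ι → ι ⊕ ι → K → G) : Prop where
  disj : ∀ (a c d e : ι ⊕ ι) (s u : K), d ≠ a → d ≠ ng a → d ≠ c → d ≠ ng c →
    e ≠ a → e ≠ ng a → e ≠ c → e ≠ ng c → WD X a c s * X d e u * (WD X a c s)⁻¹ = X d e u
  A1 : ∀ (a c e : ι ⊕ ι) (s u : K), s ≠ 0 → a ≠ c → a ≠ ng c →
    e ≠ a → e ≠ ng a → e ≠ c → e ≠ ng c →
    WD X a c s * X (ng a) e u * (WD X a c s)⁻¹ = X c e (-(s * u))
  A2 : ∀ (a c e : ι ⊕ ι) (s u : K), s ≠ 0 → a ≠ c → a ≠ ng c →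
    e ≠ a → e ≠ ng a → e ≠ c → e ≠ ng c →
    WD X a c s * X c e u * (WD X a c s)⁻¹ = X (ng a) e (s⁻¹ * u)
  A3 : ∀ (a c e : ι ⊕ ι) (s u : K), s ≠ 0 → a ≠ c → a ≠ ng c →
    e ≠ a → e ≠ ng a → e ≠ c → e ≠ ng c →
    WD X a c s * X (ng c) e u * (WD X a c s)⁻¹ = X a e (s * u)
  A4 : ∀ (a c e : ι ⊕ ι) (s u : K), s ≠ 0 → a ≠ c → a ≠ ng c →
    e ≠ a → e ≠ ng a → e ≠ c → e ≠ ng c →
    WD X a c s * X a e u * (WD X a c s)⁻¹ = X (ng c) e (-(s⁻¹ * u))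
  B1 : ∀ (a c : ι ⊕ ι) (s u : K), s ≠ 0 → a ≠ c → a ≠ ng c →
    WD X a c s * X a (ng c) u * (WD X a c s)⁻¹ = X a (ng c) u
  B2 : ∀ (a c : ι ⊕ ι) (s u : K), s ≠ 0 → a ≠ c → a ≠ ng c →
    WD X a c s * X (ng a) c u * (WD X a c s)⁻¹ = X (ng a) c u

/-- the calculus of the Weyl and torus elements (all hypotheses `c ≠ a`, `c ≠ ng a` say that
`X a c` is a root element) -/
structure WCalcD (X : ι ⊕ ι → ι ⊕ ι → K → G) : Prop where
  wd_conj : ∀ a c : ι ⊕ ι, c ≠ a → c ≠ ng a → ∀ s : K, s ≠ 0 → ∀ (d e : ι ⊕ ι) (u : K),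
    WD X a c s * X d e u * (WD X a c s)⁻¹ =
      X (sgD a c d) (sgD a c e) (muD a c s d * muD a c s e * u)
  hd_conj : ∀ a c : ι ⊕ ι, c ≠ a → c ≠ ng a → ∀ s : K, s ≠ 0 → ∀ (d e : ι ⊕ ι) (u : K),
    HD X a c s * X d e u * (HD X a c s)⁻¹ = X d e (chD a c s d * chD a c s e * u)
  wd_inv : ∀ a c : ι ⊕ ι, c ≠ a → c ≠ ng a → ∀ s : K, (WD X a c s)⁻¹ = WD X a c (-s)
  wd_mul_inv : ∀ a c : ι ⊕ ι, c ≠ a → c ≠ ng a → ∀ s t : K, s ≠ 0 → t ≠ 0 →
    WD X a c s * (WD X a c t)⁻¹ = HD X a c (s * t⁻¹)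
  wd_mul_hd : ∀ a c : ι ⊕ ι, c ≠ a → c ≠ ng a → ∀ s t : K, s ≠ 0 → t ≠ 0 →
    WD X a c s * HD X a c t = WD X a c (s * t⁻¹)
  hd_mul_wd : ∀ a c : ι ⊕ ι, c ≠ a → c ≠ ng a → ∀ s t : K, s ≠ 0 → t ≠ 0 →
    HD X a c t * WD X a c s = WD X a c (t * s)
  hd_mul : ∀ a c : ι ⊕ ι, c ≠ a → c ≠ ng a → ∀ s t : K, s ≠ 0 → t ≠ 0 →
    HD X a c s * HD X a c t = HD X a c (s * t)
  wd_ng : ∀ a c : ι ⊕ ι, c ≠ a → c ≠ ng a → ∀ s : K, s ≠ 0 →
    WD X (ng a) (ng c) s = WD X a c s⁻¹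
  wd_anti : ∀ a c : ι ⊕ ι, c ≠ a → c ≠ ng a → ∀ s : K, s ≠ 0 → WD X c a s = WD X a c (-s)
  hd_ng : ∀ a c : ι ⊕ ι, c ≠ a → c ≠ ng a → ∀ s : K, s ≠ 0 → HD X (ng a) (ng c) s = HD X a c s⁻¹
  hd_symm : ∀ a c : ι ⊕ ι, c ≠ a → c ≠ ng a → ∀ s : K, s ≠ 0 → HD X c a s = HD X a c s
  ww_conj : ∀ a c : ι ⊕ ι, c ≠ a → c ≠ ng a → ∀ s : K, s ≠ 0 → ∀ (d e : ι ⊕ ι), e ≠ d → e ≠ ng d →
    ∀ u : K, u ≠ 0 → WD X a c s * WD X d e u * (WD X a c s)⁻¹ =
      WD X (sgD a c d) (sgD a c e) (muD a c s d * muD a c s e * u)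
  wh_conj : ∀ a c : ι ⊕ ι, c ≠ a → c ≠ ng a → ∀ s : K, s ≠ 0 → ∀ (d e : ι ⊕ ι), e ≠ d → e ≠ ng d →
    ∀ u : K, u ≠ 0 → WD X a c s * HD X d e u * (WD X a c s)⁻¹ = HD X (sgD a c d) (sgD a c e) u
  hw_conj : ∀ a c : ι ⊕ ι, c ≠ a → c ≠ ng a → ∀ s : K, s ≠ 0 → ∀ (d e : ι ⊕ ι), e ≠ d → e ≠ ng d →
    ∀ u : K, u ≠ 0 → HD X a c s * WD X d e u * (HD X a c s)⁻¹ =
      WD X d e (chD a c s d * chD a c s e * u)
  hh_comm : ∀ a c : ι ⊕ ι, c ≠ a → c ≠ ng a → ∀ s : K, s ≠ 0 → ∀ (d e : ι ⊕ ι), e ≠ d → e ≠ ng d →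
    ∀ u : K, u ≠ 0 → HD X a c s * HD X d e u = HD X d e u * HD X a c s
  t1 : ∀ a c e : ι ⊕ ι, c ≠ a → c ≠ ng a → e ≠ a → e ≠ ng a → e ≠ c → e ≠ ng c → ∀ s : K, s ≠ 0 →
    HD X a c s * HD X (ng a) e s = HD X c e s

end calculus


end Cfsg.Agent.Lib.Helper66_S96
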