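import Mathlib

/-!
# Central extensions: commutators of lifts, and some field elements

For a surjective homomorphism `ψ : E →* Γ` with central kernel, the commutator `⁅a, b⁆` and the conjugate
`a * e * a⁻¹` depend on `a`, `b` only through `ψ a`, `ψ b`.  A map `d : F → E` on a field that is additive and
invariant under a scalar `≠ 1` is trivial.  Over a field with more than four elements there are `v ≠ 0` with
`v ^ n ≠ 1` (`n ≤ 3`) and `ρ ≠ 0, -1` with `ρ² + ρ + 1 ≠ 0`.
-/

namespace Cfsg.Agent.Lib.Helper81_UceA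

variable {E Γ : Type*} [Group E] [Group Γ]

/-- A central extension: a surjective homomorphism with central kernel. -/
structure CExt (ψ : E →* Γ) : Prop where
  surj : Function.Surjective ψ
  central : ψ.ker ≤ Subgroup.center E

namespace CExt

variable {ψ : E →* Γ}

theorem comm_of_ker (h : CExt ψ) {z : E} (hz : ψ z = 1) (e : E) : z * e = e * z := by
  have := h.central (MonoidHom.mem_ker.mpr hz)
  rw [Subgroup.mem_center_iff] at this
  exact (this e).symm

theorem exists_mul_of_eq (_h : CExt ψ) {a a' : E} (ha : ψ a = ψ a') : ∃ z : E, ψ z = 1 ∧ a' = a * z := by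
  refine ⟨a⁻¹ * a', ?_, by group⟩
  rw [map_mul, map_inv, ha, inv_mul_cancel]

/-- The conjugate by a lift depends only on the element lifted. -/
theorem conj_eq (h : CExt ψ) {a a' : E} (ha : ψ a = ψ a') (e : E) : a * e * a⁻¹ = a' * e * a'⁻¹ := by
  obtain ⟨z, hz, rfl⟩ := h.exists_mul_of_eq ha
  have := h.comm_of_ker hz e
  calc a * e * a⁻¹ = a * (e * z) * z⁻¹ * a⁻¹ := by group
    _ = a * (z * e) * z⁻¹ * a⁻¹ := by rw [this]
    _ = a * z * e * (a * z)⁻¹ := by group

/-- The commutator of two lifts depends only on the elements lifted. -/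
theorem commutator_eq (h : CExt ψ) {a a' b b' : E} (ha : ψ a = ψ a') (hb : ψ b = ψ b') :
    a * b * a⁻¹ * b⁻¹ = a' * b' * a'⁻¹ * b'⁻¹ := by
  obtain ⟨z, hz, rfl⟩ := h.exists_mul_of_eq ha
  obtain ⟨w, hw, rfl⟩ := h.exists_mul_of_eq hb
  have h1 : ∀ e, z * e = e * z := h.comm_of_ker hz
  have h2 : ∀ e, w * e = e * w := h.comm_of_ker hw
  calc a * b * a⁻¹ * b⁻¹ = a * b * a⁻¹ * b⁻¹ * (z * z⁻¹) * (w * w⁻¹) := by group
    _ = a * z * (b * w) * (a * z)⁻¹ * (b * w)⁻¹ := by
      rw [mul_inv_rev, mul_inv_rev]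
      have e1 : a * z * (b * w) * (z⁻¹ * a⁻¹) * (w⁻¹ * b⁻¹) = a * (z * (b * w * z⁻¹)) * a⁻¹ * w⁻¹ * b⁻¹ := by group
      rw [e1, h1 (b * w * z⁻¹)]
      have e2 : a * (b * w * z⁻¹ * z) * a⁻¹ * w⁻¹ * b⁻¹ = a * b * (w * (a⁻¹ * w⁻¹)) * b⁻¹ := by group
      rw [e2, h2 (a⁻¹ * w⁻¹)]
      group

/-- The kernel commutes with everything. -/
theorem commute_of_ker (h : CExt ψ) {z : E} (hz : ψ z = 1) (e : E) : Commute z e := h.comm_of_ker hz e

end CExt

/-- An additive map to a group which is invariant under multiplication by a scalar `≠ 1` is trivial. -/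
theorem eq_one_of_add_of_scale {F : Type*} [Field F] (d : F → E) (hadd : ∀ s s', d (s + s') = d s * d s')
    {l : F} (hl : l ≠ 1) (hinv : ∀ s, d (l * s) = d s) (s : F) : d s = 1 := by
  have h0 : d 0 = 1 := by
    have := hadd 0 0
    rw [add_zero] at this
    exact (mul_eq_left.mp this.symm)
  have hneg : ∀ s, d (-s) = (d s)⁻¹ := by
    intro s
    rw [eq_inv_iff_mul_eq_one, ← hadd, neg_add_cancel, h0]
  have hl1 : l - 1 ≠ 0 := sub_ne_zero.mpr hl
  have key : ∀ s, d ((l - 1) * s) = 1 := by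
    intro s
    have : (l - 1) * s = l * s + -s := by ring
    rw [this, hadd, hinv, hneg, mul_inv_cancel]
  have := key ((l - 1)⁻¹ * s)
  rwa [← mul_assoc, mul_inv_cancel₀ hl1, one_mul] at this

section Field

variable {F : Type*} [Field F]

omit [Field F] in
theorem exists_notMem_of_card (hK : ∃ s : Finset F, 4 < s.card) (B : Finset F) (hB : B.card ≤ 4) :
    ∃ v : F, v ∉ B := by
  obtain ⟨s, hs⟩ := hK
  by_contra h
  push Not at h
  have : s ⊆ B := fun x _ => h x
  have := Finset.card_le_card this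
  omega

/-- An element `v ≠ 0` with `v ^ n ≠ 1`, for `1 ≤ n ≤ 3`. -/
theorem exists_pow_ne_one (hK : ∃ s : Finset F, 4 < s.card) (n : ℕ) (hn : 0 < n) (hn3 : n ≤ 3) :
    ∃ v : F, v ≠ 0 ∧ v ^ n ≠ 1 := by
  classical
  have hcard : (insert (0 : F) (Polynomial.nthRoots n (1 : F)).toFinset).card ≤ 4 := by
    have h1 := Polynomial.card_nthRoots n (1 : F)
    have h2 := Multiset.toFinset_card_le (Polynomial.nthRoots n (1 : F))
    have h3 := Finset.card_insert_le (0 : F) (Polynomial.nthRoots n (1 : F)).toFinset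
    omega
  obtain ⟨v, hv⟩ := exists_notMem_of_card hK _ hcard
  rw [Finset.mem_insert, Multiset.mem_toFinset, Polynomial.mem_nthRoots hn] at hv
  push Not at hv
  exact ⟨v, hv.1, hv.2⟩

/-- An element `ρ ≠ 0, -1` with `ρ² + ρ + 1 ≠ 0`. -/
theorem exists_rho (hK : ∃ s : Finset F, 4 < s.card) :
    ∃ ρ : F, ρ ≠ 0 ∧ 1 + ρ ≠ 0 ∧ ρ ^ 2 + ρ + 1 ≠ 0 := by
  classical
  by_cases h : ∃ ω : F, ω ^ 2 + ω + 1 = 0
  · obtain ⟨ω, hω⟩ := h
    have hcard : ({0, -1, ω, -1 - ω} : Finset F).card ≤ 4 := Finset.card_le_four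
    obtain ⟨v, hv⟩ := exists_notMem_of_card hK _ hcard
    simp only [Finset.mem_insert, Finset.mem_singleton, not_or] at hv
    obtain ⟨h0, h1, h2, h3⟩ := hv
    refine ⟨v, h0, ?_, ?_⟩
    · intro h4
      apply h1
      linear_combination h4
    · intro h4
      have : (v - ω) * (v - (-1 - ω)) = 0 := by linear_combination h4 - hω
      rcases mul_eq_zero.mp this with h5 | h5
      · exact h2 (sub_eq_zero.mp h5)
      · exact h3 (sub_eq_zero.mp h5)
  · push Not at h
    have hcard : ({0, -1} : Finset F).card ≤ 4 := by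
      have := Finset.card_le_two (a := (0 : F)) (b := -1)
      omega
    obtain ⟨v, hv⟩ := exists_notMem_of_card hK _ hcard
    simp only [Finset.mem_insert, Finset.mem_singleton, not_or] at hv
    refine ⟨v, hv.1, ?_, h v⟩
    intro h4
    apply hv.2
    linear_combination h4

/-- A biadditive map invariant under all simultaneous scalings is trivial (more than four elements). -/
theorem eq_one_of_biadd_of_scale (hK : ∃ s : Finset F, 4 < s.card) (f : F → F → E)
    (hl : ∀ t t' u, f (t + t') u = f t u * f t' u) (hr : ∀ t u u', f t (u + u') = f t u * f t u')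
    (hinv : ∀ ρ : F, ρ ≠ 0 → ∀ t u, f (ρ * t) (ρ * u) = f t u) (t u : F) : f t u = 1 := by
  obtain ⟨ρ, h0, h1, h2⟩ := exists_rho hK
  have key : ∀ t u, f t (ρ * u) * f t (ρ⁻¹ * u) * f t u = 1 := by
    intro t u
    have e1 := hinv (1 + ρ) h1 t u
    have e2 : f ((1 + ρ) * t) ((1 + ρ) * u) = f t u * f t (ρ * u) * (f (ρ * t) u * f (ρ * t) (ρ * u)) := by
      have a1 : (1 + ρ) * t = t + ρ * t := by ring
      have a2 : (1 + ρ) * u = u + ρ * u := by ring
      rw [a1, a2, hl, hr, hr]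
    rw [e2, hinv ρ h0] at e1
    have e3 : f (ρ * t) u = f t (ρ⁻¹ * u) := by
      have := hinv ρ h0 t (ρ⁻¹ * u)
      rwa [← mul_assoc, mul_inv_cancel₀ h0, one_mul] at this
    rw [e3] at e1
    -- `f t u * A * (B * f t u) = f t u` with everything central
    have e4 : f t u * f t (ρ * u) * (f t (ρ⁻¹ * u) * f t u) = f t u * (f t (ρ * u) * f t (ρ⁻¹ * u) * f t u) := by
      group
    rw [e4] at e1
    exact mul_eq_left.mp e1
  have hk : ρ + ρ⁻¹ + 1 ≠ 0 := by
    intro h
    apply h2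
    have : ρ ^ 2 + ρ + 1 = ρ * (ρ + ρ⁻¹ + 1) := by
      field_simp
      ring
    rw [this, h, mul_zero]
  have key2 : ∀ t u, f t ((ρ + ρ⁻¹ + 1) * u) = 1 := by
    intro t u
    have : (ρ + ρ⁻¹ + 1) * u = ρ * u + ρ⁻¹ * u + u := by ring
    rw [this, hr, hr]
    exact key t u
  have := key2 t ((ρ + ρ⁻¹ + 1)⁻¹ * u)
  rwa [← mul_assoc, mul_inv_cancel₀ hk, one_mul] at this

end Field

end Cfsg.Agent.Lib.Helper81_UceA
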