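import Mathlib
import Cfsg.Prelude.Def_KGroupFacts
import Cfsg.Prelude.Def_Spor_Fi23
import Cfsg.Agent.Lib.Helper66_S96Defs
import Cfsg.Agent.Lib.Helper81_UceA

/-!
# S2054 (the Schur multiplier of Fi23 is trivial): shared definitions (helper19, architect)

Paper proof: pending/helper19/S2054_proof.md; package statements: pending/helper19/S2054_packages.lean.txt.
-/

set_option autoImplicit false

namespace Cfsg.Agent.Lib.helper19_M23

open Cfsg Cfsg.Spor Cfsg.Agent.Lib.Helper66_S96 Cfsg.Agent.Lib.Helper66_S92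

/-- the index set of the D4 root elements -/
abbrev I8 : Type := Fin 4 ⊕ Fin 4

/-- the subgroup generated by a family of root elements -/
def rootClosure {G : Type*} [Group G] (X : I8 → I8 → ZMod 3 → G) : Subgroup G :=
  Subgroup.closure {g | ∃ a c t, g = X a c t}

/-- relations of the root elements with scalar 1 (what the computation on the 31671 points delivers) -/
structure UnitRel {G : Type*} [Group G] (R : I8 → I8 → G) : Prop where
  anti : ∀ a c, R c a = (R a c)⁻¹
  opp : ∀ a, R a (ng a) = 1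
  diag : ∀ a, R a a = 1
  cube : ∀ a c, R a c ^ 3 = 1
  comm : ∀ a c d e, d ≠ ng a → d ≠ ng c → e ≠ ng a → e ≠ ng c → R a c * R d e = R d e * R a c
  comm2 : ∀ a c, R a c * R (ng a) c = R (ng a) c * R a c
  a2 : ∀ a c e, a ≠ c → a ≠ ng c → a ≠ e → a ≠ ng e → c ≠ e → c ≠ ng e →
    R a c * R (ng c) e * (R a c)⁻¹ * (R (ng c) e)⁻¹ = R a e

/-- the generator `x` of the presented group `Fi23` -/
noncomputable abbrev gen (x : Fi23.Gen) : Spor.Fi23 := PresentedGroup.of x

/-- the Coxeter matrix of affine E6, numbering `0 b, 1 h, 2 c, 3 d, 4 e, 5 f` (Mathlib's `CoxeterMatrix.E₆` numbering of the E6 part)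
and `6 i` -/
def m7 (i j : Fin 7) : ℕ :=
  if i = j then 1
  else if (i.val, j.val) ∈ [(0, 2), (2, 0), (2, 3), (3, 2), (3, 4), (4, 3), (4, 5), (5, 4), (1, 3), (3, 1), (1, 6), (6, 1)] then 3
  else 2

/-- the reflection in the highest root of E6: `h d e c d h f e b c · d · (h d e c d h f e b c)⁻¹` -/
def uword {Γ : Type*} [Group Γ] (y : Fin 7 → Γ) : Γ :=
  (y 1 * y 3 * y 4 * y 2 * y 3 * y 1 * y 5 * y 4 * y 0 * y 2) * y 3 *
    (y 1 * y 3 * y 4 * y 2 * y 3 * y 1 * y 5 * y 4 * y 0 * y 2)⁻¹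

end Cfsg.Agent.Lib.helper19_M23
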