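import Mathlib
import Cfsg.Prelude.Def_KGroupFacts
import Cfsg.Prelude.Def_Spor_Fi23
import Cfsg.Agent.Lib.helper19_M23Defs

/-!
# S2054 market `s2054_packages` (architect helper19), package GOOD (helper10)
`exists_good_lifts_of`: from the statements of LIFT, COMM, COX (as hypotheses): rescale the lifts by the central
element `w = t * z ^ (-31)` (`w ^ 2 = z`, `w ^ 63 = t`): the new lifts satisfy all the Coxeter relations and
`cox ^ 9 = 1` exactly.
-/

set_option autoImplicit false

namespace Cfsg.Agent.Lib.Helper10_M23_GOOD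

open Cfsg Cfsg.Spor Cfsg.Agent.Lib.Helper66_S96 Cfsg.Agent.Lib.Helper66_S92
  Cfsg.Agent.Lib.Helper81_UceA Cfsg.Agent.Lib.helper19_M23

/-- the labels of the graph are `1` (on the diagonal), `2` or `3` -/
theorem label_cases (x y : Fi23.Gen) :
    (x = y ∧ coxLabel Fi23.edges x y = 1) ∨ coxLabel Fi23.edges x y = 2 ∨
      coxLabel Fi23.edges x y = 3 := by
  cases x <;> cases y <;> decide

/-- the ninth power of the Coxeter element of the `E₇` subdiagram is trivial in `Fi23` -/
theorem cox9_eq_one :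
    (gen .a * gen .b * gen .c * gen .d * gen .e * gen .f * gen .h : Spor.Fi23) ^ 9 = 1 := by
  have hmem : (Fi23.a * Fi23.b * Fi23.c * Fi23.d * Fi23.e * Fi23.f * Fi23.h) ^ 9 ∈
      coxRelators Fi23.edges ∪ {r | r ∈ Fi23.extra} := by
    right
    simp [Fi23.extra]
  have := PresentedGroup.one_of_mem hmem
  simpa [PresentedGroup.of] using this

section alg
variable {Γ : Type*} [Group Γ]

/-- collecting a central factor -/
theorem collect {wi : Γ} (hwi : ∀ g : Γ, wi * g = g * wi) (p q : Γ) (k : ℕ) :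
    (p * wi ^ k) * (q * wi) = (p * q) * wi ^ (k + 1) := by
  have h1 : ∀ g : Γ, wi ^ k * g = g * wi ^ k := by
    intro g
    have : Commute wi g := hwi g
    exact (this.pow_left k).eq
  calc (p * wi ^ k) * (q * wi) = p * (wi ^ k * q) * wi := by group
    _ = p * (q * wi ^ k) * wi := by rw [h1 q]
    _ = (p * q) * wi ^ (k + 1) := by rw [pow_succ]; group

/-- the rescaling argument, abstractly -/
theorem rescale (z t : Γ) (hz : z ∈ Subgroup.center Γ)
    (ht : t ∈ Subgroup.center Γ) (htt : t ^ 2 = z ^ 63) :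
    ∃ w : Γ, w ∈ Subgroup.center Γ ∧ w = t * (z ^ 31)⁻¹ ∧ w ^ 2 = z ∧ w ^ 63 = t := by
  have hz31 : z ^ 31 ∈ Subgroup.center Γ := Subgroup.pow_mem _ hz 31
  have hu : (z ^ 31)⁻¹ ∈ Subgroup.center Γ := Subgroup.inv_mem _ hz31
  have hcomm : Commute t (z ^ 31)⁻¹ := by
    rw [Subgroup.mem_center_iff] at ht
    exact (ht _).symm
  have hw2 : (t * (z ^ 31)⁻¹) ^ 2 = z := by
    rw [hcomm.mul_pow, htt, inv_pow, ← pow_mul, pow_succ' z 62, mul_inv_cancel_right]
  refine ⟨t * (z ^ 31)⁻¹, Subgroup.mul_mem _ ht hu, rfl, hw2, ?_⟩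
  have h63 : (63 : ℕ) = 2 * 31 + 1 := by norm_num
  rw [h63, pow_succ, pow_mul, hw2]
  rw [Subgroup.mem_center_iff] at hz31
  rw [← mul_assoc, ← hz31 t, mul_inv_cancel_right]

end alg

/-- **PKG GOOD**, from the statements of LIFT, COMM, COX as hypotheses. -/
theorem exists_good_lifts_of {Γ : Type} [Group Γ] (σ : Γ →* Spor.Fi23) (hσ : CExt σ)
    (hLIFT : ∃ (l : Fi23.Gen → Γ) (z : Γ), (∀ x, σ (l x) = gen x) ∧ σ z = 1 ∧
      (∀ x, l x * l x = z) ∧
      ∀ x y, coxLabel Fi23.edges x y = 3 → l x * l y * l x = l y * l x * l y)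
    (hCOMM : ∀ (l : Fi23.Gen → Γ) (z : Γ), (∀ x, σ (l x) = gen x) → σ z = 1 →
      (∀ x, l x * l x = z) →
      (∀ x y, coxLabel Fi23.edges x y = 3 → l x * l y * l x = l y * l x * l y) →
      ∀ x y, coxLabel Fi23.edges x y = 2 → l x * l y = l y * l x)
    (hCOX : ∀ (l : Fi23.Gen → Γ) (z : Γ), z ∈ Subgroup.center Γ → (∀ x, l x * l x = z) →
      (∀ x y, coxLabel Fi23.edges x y = 3 → l x * l y * l x = l y * l x * l y) →
      (∀ x y, coxLabel Fi23.edges x y = 2 → l x * l y = l y * l x) →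
      (l .a * l .b * l .c * l .d * l .e * l .f * l .h) ^ 9 ∈ Subgroup.center Γ →
      ((l .a * l .b * l .c * l .d * l .e * l .f * l .h) ^ 9) ^ 2 = z ^ 63) :
    ∃ b : Fi23.Gen → Γ, (∀ x, σ (b x) = gen x) ∧
      (∀ x y, (b x * b y) ^ coxLabel Fi23.edges x y = 1) ∧
      (b .a * b .b * b .c * b .d * b .e * b .f * b .h) ^ 9 = 1 := by
  obtain ⟨l, z, hl, hz, hsq, hbr⟩ := hLIFT
  have hcm := hCOMM l z hl hz hsq hbr
  have hzc : z ∈ Subgroup.center Γ := hσ.central (MonoidHom.mem_ker.mpr hz)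
  set P : Γ := l .a * l .b * l .c * l .d * l .e * l .f * l .h with hP
  have hσt : σ (P ^ 9) = 1 := by
    rw [map_pow, hP]
    simp only [map_mul, hl]
    exact cox9_eq_one
  have htc : P ^ 9 ∈ Subgroup.center Γ := hσ.central (MonoidHom.mem_ker.mpr hσt)
  have htt := hCOX l z hzc hsq hbr hcm htc
  obtain ⟨w, hwc, hwdef, hw2, hw63⟩ := rescale z (P ^ 9) hzc htc htt
  have hσw : σ w = 1 := by
    rw [hwdef, map_mul, hσt, map_inv, map_pow, hz, one_pow, inv_one, one_mul]
  have hwi : ∀ g : Γ, w⁻¹ * g = g * w⁻¹ := by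
    intro g
    have := Subgroup.inv_mem _ hwc
    rw [Subgroup.mem_center_iff] at this
    exact (this g).symm
  have hwi2 : (w⁻¹) ^ 2 = z⁻¹ := by rw [inv_pow, hw2]
  refine ⟨fun x => l x * w⁻¹, ?_, ?_, ?_⟩
  · intro x
    show σ (l x * w⁻¹) = gen x
    rw [map_mul, map_inv, hσw, inv_one, mul_one, hl]
  · intro x y
    show (l x * w⁻¹ * (l y * w⁻¹)) ^ coxLabel Fi23.edges x y = 1
    have e1 : l x * w⁻¹ * (l y * w⁻¹) = (l x * l y) * z⁻¹ := by
      have := collect hwi (l x) (l y) 1
      rw [pow_one] at this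
      rw [this, hwi2]
    have hc : Commute (l x * l y) z⁻¹ := by
      have := Subgroup.inv_mem _ hzc
      rw [Subgroup.mem_center_iff] at this
      exact this _
    rw [e1, hc.mul_pow]
    have hzcomm : ∀ g : Γ, z * g = g * z := by
      rw [Subgroup.mem_center_iff] at hzc
      exact fun g => (hzc g).symm
    rcases label_cases x y with ⟨rfl, h1⟩ | h2 | h3
    · rw [h1, pow_one, pow_one, hsq, mul_inv_cancel]
    · rw [h2]
      have : (l x * l y) ^ 2 = z ^ 2 := by
        rw [pow_two, pow_two]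
        calc l x * l y * (l x * l y) = l x * (l y * l x) * l y := by group
          _ = l x * (l x * l y) * l y := by rw [hcm x y h2]
          _ = (l x * l x) * (l y * l y) := by group
          _ = z * z := by rw [hsq, hsq]
      rw [this, inv_pow, mul_inv_cancel]
    · rw [h3]
      have : (l x * l y) ^ 3 = z ^ 3 := by
        calc (l x * l y) ^ 3 = (l x * l y * l x) * (l y * l x * l y) := by
              rw [pow_succ, pow_two]; group
          _ = (l x * l y * l x) * (l x * l y * l x) := by rw [hbr x y h3]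
          _ = l x * (l y * (l x * l x) * l y) * l x := by group
          _ = l x * (l y * z * l y) * l x := by rw [hsq]
          _ = l x * (z * (l y * l y)) * l x := by rw [← hzcomm (l y)]; group
          _ = l x * (z * z) * l x := by rw [hsq]
          _ = (z * z) * (l x * l x) := by
              have hcz : Commute z (l x) := hzcomm (l x)
              rw [← (hcz.mul_left hcz).eq, mul_assoc]
          _ = z ^ 3 := by rw [hsq, pow_succ, pow_two]
      rw [this, inv_pow, mul_inv_cancel]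
  · show (l .a * w⁻¹ * (l .b * w⁻¹) * (l .c * w⁻¹) * (l .d * w⁻¹) * (l .e * w⁻¹) * (l .f * w⁻¹) *
      (l .h * w⁻¹)) ^ 9 = 1
    have e0 : l .a * w⁻¹ = l .a * w⁻¹ ^ 1 := by rw [pow_one]
    rw [e0, collect hwi, collect hwi, collect hwi, collect hwi, collect hwi, collect hwi]
    have hc : Commute P (w⁻¹ ^ (1 + 1 + 1 + 1 + 1 + 1 + 1)) := by
      have : Commute w⁻¹ P := hwi P
      exact (this.pow_left _).symm
    rw [← hP, hc.mul_pow, ← pow_mul, inv_pow]
    norm_num
    rw [hw63, mul_inv_cancel]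

end Cfsg.Agent.Lib.Helper10_M23_GOOD
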