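import Mathlib
import Cfsg.Agent.Lib.helper19_M23Defs

/-!
# S2054 package COMM (helper42, for helper19): in a central extension of `Fi23`, lifts of the ten
generators with a common (central) square and exact braid relations satisfy the commutation
relations of the diagram `Y342` exactly.
-/

set_option autoImplicit false

namespace Cfsg.Agent.Lib.Helper42_M23_COMM

open Cfsg Cfsg.Spor Cfsg.Agent.Lib.Helper66_S96 Cfsg.Agent.Lib.Helper66_S92
  Cfsg.Agent.Lib.Helper81_UceA Cfsg.Agent.Lib.helper19_M23

/-- every generator is a node of the graph -/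
theorem mem_nodes (x : Fi23.Gen) : x ∈ coxNodes Fi23.edges := by
  cases x <;> decide

/-- the Coxeter relations of the generators of `Fi23` -/
theorem gen_rel (x y : Fi23.Gen) : (gen x * gen y) ^ coxLabel Fi23.edges x y = 1 := by
  have hmem : (FreeGroup.of x * FreeGroup.of y) ^ coxLabel Fi23.edges x y ∈
      coxRelators Fi23.edges ∪ {r | r ∈ Fi23.extra} :=
    Or.inl ⟨x, mem_nodes x, y, mem_nodes y, rfl⟩
  have h := PresentedGroup.one_of_mem hmem
  rw [map_pow, map_mul] at h
  exact h

theorem gen_sq (x : Fi23.Gen) : gen x * gen x = 1 := by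
  have h := gen_rel x x
  have h1 : coxLabel Fi23.edges x x = 1 := by simp [coxLabel]
  rwa [h1, pow_one] at h

theorem gen_inv (x : Fi23.Gen) : (gen x)⁻¹ = gen x := inv_eq_of_mul_eq_one_left (gen_sq x)

/-- non-adjacent generators commute -/
theorem gen_comm {x y : Fi23.Gen} (h : coxLabel Fi23.edges x y = 2) :
    gen x * gen y = gen y * gen x := by
  have h1 := gen_rel x y
  rw [h, pow_two] at h1
  calc gen x * gen y = (gen y)⁻¹ * (gen x)⁻¹ * (gen x * gen y * (gen x * gen y)) := by group
    _ = gen y * gen x := by rw [h1, mul_one, gen_inv, gen_inv]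

/-- the `E7` relator -/
theorem gen_cox9 : (gen .a * gen .b * gen .c * gen .d * gen .e * gen .f * gen .h) ^ 9 = 1 := by
  have hmem : (Fi23.a * Fi23.b * Fi23.c * Fi23.d * Fi23.e * Fi23.f * Fi23.h) ^ 9 ∈
      coxRelators Fi23.edges ∪ {r | r ∈ Fi23.extra} :=
    Or.inr (List.mem_cons_of_mem _ (List.mem_cons_self ..))
  have h := PresentedGroup.one_of_mem hmem
  rw [map_pow] at h
  simp only [map_mul] at h
  exact h

/-- the commutator of two of the lifts -/
def cc {Γ : Type*} [Group Γ] (l : Fi23.Gen → Γ) (x y : Fi23.Gen) : Γ :=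
  l x * l y * (l x)⁻¹ * (l y)⁻¹

theorem cc_symm {Γ : Type*} [Group Γ] (l : Fi23.Gen → Γ) {x y : Fi23.Gen} (h : cc l x y = 1) :
    cc l y x = 1 := by
  have h1 : cc l y x = (cc l x y)⁻¹ := by
    unfold cc
    group
  rw [h1, h, inv_one]

theorem comm_of_cc {Γ : Type*} [Group Γ] (l : Fi23.Gen → Γ) {x y : Fi23.Gen} (h : cc l x y = 1) :
    l x * l y = l y * l x := by
  unfold cc at h
  calc l x * l y = (l x * l y * (l x)⁻¹ * (l y)⁻¹) * (l y * l x) := by group
    _ = l y * l x := by rw [h, one_mul]

/-- moving the powers of a central element to the left -/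
theorem central_mul_step {Γ : Type*} [Group Γ] {c : Γ} (hc : ∀ e : Γ, c * e = e * c) (n : ℕ)
    (A b : Γ) : (c ^ n * A) * (c * b) = c ^ (n + 1) * (A * b) := by
  calc (c ^ n * A) * (c * b) = c ^ n * ((A * c) * b) := by group
    _ = c ^ n * ((c * A) * b) := by rw [hc A]
    _ = c ^ (n + 1) * (A * b) := by rw [pow_succ]; group

/-- **PKG COMM** (M).  Non-adjacent lifts commute.  `c x y := l x * l y * (l x)⁻¹ * (l y)⁻¹` is in the kernel for non-adjacent
`x ≠ y`, `c x y ^ 2 = 1`, `c x y = c y x`, and `c x y = c x y'` if `y, y'` are adjacent and both not adjacent (and not equal) to `x`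
(conjugate by `l y * l y'`, which maps `l y` to `l y'` and `l x` into `l x * ker`).  `t := (l a * l b * l c * l d * l e * l f * l h) ^ 9`
is in the kernel (relator), hence central; `j` is adjacent to none of `a,b,c,d,e,f,h`, these 7 nodes form a connected diagram, so
`c j x = c` for all 7 and `l j * t * (l j)⁻¹ = t * c ^ 63`: `c = 1`.  Then spread over the 36 non-edges (finite diagram chase). -/
theorem lifts_commute {Γ : Type} [Group Γ] (σ : Γ →* Spor.Fi23) (hσ : CExt σ)
    (l : Fi23.Gen → Γ) (z : Γ) (hl : ∀ x, σ (l x) = gen x) (hz : σ z = 1) (hsq : ∀ x, l x * l x = z)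
    (hbr : ∀ x y, coxLabel Fi23.edges x y = 3 → l x * l y * l x = l y * l x * l y) :
    ∀ x y, coxLabel Fi23.edges x y = 2 → l x * l y = l y * l x := by
  -- the commutators of non-adjacent lifts are in the kernel
  have hker : ∀ x y, coxLabel Fi23.edges x y = 2 → σ (cc l x y) = 1 := by
    intro x y h
    unfold cc
    rw [map_mul, map_mul, map_mul, map_inv, map_inv, hl, hl, gen_comm h]
    group
  have hcen : ∀ x y, coxLabel Fi23.edges x y = 2 → ∀ e : Γ, cc l x y * e = e * cc l x y :=
    fun x y h => hσ.comm_of_ker (hker x y h)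
  have hzc : ∀ e : Γ, z * e = e * z := hσ.comm_of_ker hz
  -- they are involutions
  have hccsq : ∀ x y, coxLabel Fi23.edges x y = 2 → cc l x y * cc l x y = 1 := by
    intro x y h
    have h1 : l x * l y * (l x)⁻¹ = cc l x y * l y := by
      unfold cc
      group
    have h2 : (l x * l y * (l x)⁻¹) * (l x * l y * (l x)⁻¹) = z := by
      calc (l x * l y * (l x)⁻¹) * (l x * l y * (l x)⁻¹) = l x * (l y * l y) * (l x)⁻¹ := by group
        _ = l x * z * (l x)⁻¹ := by rw [hsq]
        _ = z * l x * (l x)⁻¹ := by rw [hzc]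
        _ = z := by group
    have h3 : (cc l x y * l y) * (cc l x y * l y) = (cc l x y * cc l x y) * z := by
      calc (cc l x y * l y) * (cc l x y * l y) = cc l x y * (l y * cc l x y) * l y := by group
        _ = cc l x y * (cc l x y * l y) * l y := by rw [← hcen x y h (l y)]
        _ = (cc l x y * cc l x y) * (l y * l y) := by group
        _ = (cc l x y * cc l x y) * z := by rw [hsq]
    rw [h1, h3] at h2
    exact mul_eq_right.mp h2
  -- moving along an edge
  have hmove : ∀ x y y', coxLabel Fi23.edges x y = 2 → coxLabel Fi23.edges x y' = 2 →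
      coxLabel Fi23.edges y y' = 3 → cc l x y = cc l x y' := by
    intro x y y' h1 h2 h3
    have hb := hbr y y' h3
    have e1 : (l y * l y') * l y * (l y * l y')⁻¹ = l y' := by
      calc (l y * l y') * l y * (l y * l y')⁻¹ = (l y * l y' * l y) * (l y')⁻¹ * (l y)⁻¹ := by group
        _ = (l y' * l y * l y') * (l y')⁻¹ * (l y)⁻¹ := by rw [hb]
        _ = l y' := by group
    have e2 : σ ((l y * l y') * l x * (l y * l y')⁻¹) = σ (l x) := by
      rw [map_mul, map_mul, map_inv, map_mul, hl, hl, hl]
      have c1 : gen x * gen y = gen y * gen x := gen_comm h1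
      have c2 : gen x * gen y' = gen y' * gen x := gen_comm h2
      calc gen y * gen y' * gen x * (gen y * gen y')⁻¹
          = gen y * (gen y' * gen x) * (gen y')⁻¹ * (gen y)⁻¹ := by group
        _ = gen y * (gen x * gen y') * (gen y')⁻¹ * (gen y)⁻¹ := by rw [c2]
        _ = (gen y * gen x) * (gen y)⁻¹ := by group
        _ = (gen x * gen y) * (gen y)⁻¹ := by rw [c1]
        _ = gen x := by group
    have e3 : cc l x y = (l y * l y') * cc l x y * (l y * l y')⁻¹ := by
      rw [← hcen x y h1]
      group
    have e4 : (l y * l y') * cc l x y * (l y * l y')⁻¹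
        = ((l y * l y') * l x * (l y * l y')⁻¹) * ((l y * l y') * l y * (l y * l y')⁻¹) *
          ((l y * l y') * l x * (l y * l y')⁻¹)⁻¹ * ((l y * l y') * l y * (l y * l y')⁻¹)⁻¹ := by
      unfold cc
      group
    rw [e3, e4, e1]
    exact hσ.commutator_eq e2 rfl
  -- the seven commutators with `l j`
  have hjb : cc l .j .b = cc l .j .a := (hmove .j .a .b (by decide) (by decide) (by decide)).symm
  have hjc : cc l .j .c = cc l .j .a := by
    rw [← hjb]; exact (hmove .j .b .c (by decide) (by decide) (by decide)).symm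
  have hjd : cc l .j .d = cc l .j .a := by
    rw [← hjc]; exact (hmove .j .c .d (by decide) (by decide) (by decide)).symm
  have hje : cc l .j .e = cc l .j .a := by
    rw [← hjd]; exact (hmove .j .d .e (by decide) (by decide) (by decide)).symm
  have hjf : cc l .j .f = cc l .j .a := by
    rw [← hje]; exact (hmove .j .e .f (by decide) (by decide) (by decide)).symm
  have hjh : cc l .j .h = cc l .j .a := by
    rw [← hjd]; exact (hmove .j .d .h (by decide) (by decide) (by decide)).symm
  -- the Coxeter element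
  have hconj : ∀ x, l .j * l x * (l .j)⁻¹ = cc l .j x * l x := by
    intro x
    unfold cc
    group
  have hc0 : ∀ e : Γ, cc l .j .a * e = e * cc l .j .a := hcen .j .a (by decide)
  have hc0sq : cc l .j .a * cc l .j .a = 1 := hccsq .j .a (by decide)
  have hcox : l .j * (l .a * l .b * l .c * l .d * l .e * l .f * l .h) * (l .j)⁻¹
      = cc l .j .a ^ 7 * (l .a * l .b * l .c * l .d * l .e * l .f * l .h) := by
    calc l .j * (l .a * l .b * l .c * l .d * l .e * l .f * l .h) * (l .j)⁻¹
        = (l .j * l .a * (l .j)⁻¹) * (l .j * l .b * (l .j)⁻¹) * (l .j * l .c * (l .j)⁻¹) *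
          (l .j * l .d * (l .j)⁻¹) * (l .j * l .e * (l .j)⁻¹) * (l .j * l .f * (l .j)⁻¹) *
          (l .j * l .h * (l .j)⁻¹) := by group
      _ = (cc l .j .a ^ 1 * l .a) * (cc l .j .a * l .b) * (cc l .j .a * l .c) *
          (cc l .j .a * l .d) * (cc l .j .a * l .e) * (cc l .j .a * l .f) *
          (cc l .j .a * l .h) := by
        rw [hconj, hconj, hconj, hconj, hconj, hconj, hconj, hjb, hjc, hjd, hje, hjf, hjh, pow_one]
      _ = cc l .j .a ^ 7 * (l .a * l .b * l .c * l .d * l .e * l .f * l .h) := by
        rw [central_mul_step hc0, central_mul_step hc0, central_mul_step hc0,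
          central_mul_step hc0, central_mul_step hc0, central_mul_step hc0]
  have ht : σ ((l .a * l .b * l .c * l .d * l .e * l .f * l .h) ^ 9) = 1 := by
    rw [map_pow]
    simp only [map_mul, hl]
    exact gen_cox9
  have htc : ∀ e : Γ, (l .a * l .b * l .c * l .d * l .e * l .f * l .h) ^ 9 * e
      = e * (l .a * l .b * l .c * l .d * l .e * l .f * l .h) ^ 9 := hσ.comm_of_ker ht
  have h63 : cc l .j .a ^ 63 = cc l .j .a := by
    have : cc l .j .a ^ 63 = (cc l .j .a * cc l .j .a) ^ 31 * cc l .j .a := by
      rw [← pow_two, ← pow_mul, ← pow_succ]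
    rw [this, hc0sq, one_pow, one_mul]
  have h_j_a : cc l .j .a = 1 := by
    have h1 : l .j * (l .a * l .b * l .c * l .d * l .e * l .f * l .h) ^ 9 * (l .j)⁻¹
        = (l .a * l .b * l .c * l .d * l .e * l .f * l .h) ^ 9 := by
      rw [← htc]
      group
    have h2 : l .j * (l .a * l .b * l .c * l .d * l .e * l .f * l .h) ^ 9 * (l .j)⁻¹
        = cc l .j .a * (l .a * l .b * l .c * l .d * l .e * l .f * l .h) ^ 9 := by
      rw [← conj_pow, hcox, Commute.mul_pow (Commute.pow_left (hc0 _) 7), ← pow_mul]
      rw [show 7 * 9 = 63 from rfl, h63]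
    rw [h1] at h2
    exact (mul_eq_right.mp h2.symm)
  have h_j_b : cc l .j .b = 1 := hjb.trans h_j_a
  have h_j_c : cc l .j .c = 1 := hjc.trans h_j_a
  have h_j_d : cc l .j .d = 1 := hjd.trans h_j_a
  have h_j_e : cc l .j .e = 1 := hje.trans h_j_a
  have h_j_f : cc l .j .f = 1 := hjf.trans h_j_a
  have h_j_h : cc l .j .h = 1 := hjh.trans h_j_a
  -- the diagram chase over the 36 non-edges
  have h_a_j : cc l .a .j = 1 := cc_symm l h_j_a
  have h_b_j : cc l .b .j = 1 := cc_symm l h_j_b
  have h_c_j : cc l .c .j = 1 := cc_symm l h_j_c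
  have h_d_j : cc l .d .j = 1 := cc_symm l h_j_d
  have h_e_j : cc l .e .j = 1 := cc_symm l h_j_e
  have h_f_j : cc l .f .j = 1 := cc_symm l h_j_f
  have h_h_j : cc l .h .j = 1 := cc_symm l h_j_h
  have h_j_i : cc l .j .i = 1 := by
    rw [← hmove .j .h .i (by decide) (by decide) (by decide)]; exact h_j_h
  have h_a_g : cc l .a .g = 1 := by
    rw [← hmove .a .j .g (by decide) (by decide) (by decide)]; exact h_a_j
  have h_b_g : cc l .b .g = 1 := by
    rw [← hmove .b .j .g (by decide) (by decide) (by decide)]; exact h_b_j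
  have h_c_g : cc l .c .g = 1 := by
    rw [← hmove .c .j .g (by decide) (by decide) (by decide)]; exact h_c_j
  have h_d_g : cc l .d .g = 1 := by
    rw [← hmove .d .j .g (by decide) (by decide) (by decide)]; exact h_d_j
  have h_e_g : cc l .e .g = 1 := by
    rw [← hmove .e .j .g (by decide) (by decide) (by decide)]; exact h_e_j
  have h_h_g : cc l .h .g = 1 := by
    rw [← hmove .h .j .g (by decide) (by decide) (by decide)]; exact h_h_j
  have h_i_j : cc l .i .j = 1 := cc_symm l h_j_i
  have h_g_a : cc l .g .a = 1 := cc_symm l h_a_g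
  have h_a_f : cc l .a .f = 1 := by
    rw [← hmove .a .g .f (by decide) (by decide) (by decide)]; exact h_a_g
  have h_g_b : cc l .g .b = 1 := cc_symm l h_b_g
  have h_b_f : cc l .b .f = 1 := by
    rw [← hmove .b .g .f (by decide) (by decide) (by decide)]; exact h_b_g
  have h_g_c : cc l .g .c = 1 := cc_symm l h_c_g
  have h_c_f : cc l .c .f = 1 := by
    rw [← hmove .c .g .f (by decide) (by decide) (by decide)]; exact h_c_g
  have h_g_d : cc l .g .d = 1 := cc_symm l h_d_g
  have h_d_f : cc l .d .f = 1 := by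
    rw [← hmove .d .g .f (by decide) (by decide) (by decide)]; exact h_d_g
  have h_g_e : cc l .g .e = 1 := cc_symm l h_e_g
  have h_g_h : cc l .g .h = 1 := cc_symm l h_h_g
  have h_h_f : cc l .h .f = 1 := by
    rw [← hmove .h .g .f (by decide) (by decide) (by decide)]; exact h_h_g
  have h_i_g : cc l .i .g = 1 := by
    rw [← hmove .i .j .g (by decide) (by decide) (by decide)]; exact h_i_j
  have h_f_a : cc l .f .a = 1 := cc_symm l h_a_f
  have h_a_e : cc l .a .e = 1 := by
    rw [← hmove .a .f .e (by decide) (by decide) (by decide)]; exact h_a_f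
  have h_f_b : cc l .f .b = 1 := cc_symm l h_b_f
  have h_b_e : cc l .b .e = 1 := by
    rw [← hmove .b .f .e (by decide) (by decide) (by decide)]; exact h_b_f
  have h_f_c : cc l .f .c = 1 := cc_symm l h_c_f
  have h_c_e : cc l .c .e = 1 := by
    rw [← hmove .c .f .e (by decide) (by decide) (by decide)]; exact h_c_f
  have h_f_d : cc l .f .d = 1 := cc_symm l h_d_f
  have h_g_i : cc l .g .i = 1 := by
    rw [← hmove .g .h .i (by decide) (by decide) (by decide)]; exact h_g_h
  have h_f_h : cc l .f .h = 1 := cc_symm l h_h_f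
  have h_h_e : cc l .h .e = 1 := by
    rw [← hmove .h .f .e (by decide) (by decide) (by decide)]; exact h_h_f
  have h_i_f : cc l .i .f = 1 := by
    rw [← hmove .i .g .f (by decide) (by decide) (by decide)]; exact h_i_g
  have h_e_a : cc l .e .a = 1 := cc_symm l h_a_e
  have h_a_d : cc l .a .d = 1 := by
    rw [← hmove .a .e .d (by decide) (by decide) (by decide)]; exact h_a_e
  have h_e_b : cc l .e .b = 1 := cc_symm l h_b_e
  have h_b_d : cc l .b .d = 1 := by
    rw [← hmove .b .e .d (by decide) (by decide) (by decide)]; exact h_b_e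
  have h_e_c : cc l .e .c = 1 := cc_symm l h_c_e
  have h_f_i : cc l .f .i = 1 := by
    rw [← hmove .f .h .i (by decide) (by decide) (by decide)]; exact h_f_h
  have h_e_h : cc l .e .h = 1 := cc_symm l h_h_e
  have h_i_e : cc l .i .e = 1 := by
    rw [← hmove .i .f .e (by decide) (by decide) (by decide)]; exact h_i_f
  have h_d_a : cc l .d .a = 1 := cc_symm l h_a_d
  have h_a_c : cc l .a .c = 1 := by
    rw [← hmove .a .d .c (by decide) (by decide) (by decide)]; exact h_a_d
  have h_a_h : cc l .a .h = 1 := by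
    rw [← hmove .a .d .h (by decide) (by decide) (by decide)]; exact h_a_d
  have h_d_b : cc l .d .b = 1 := cc_symm l h_b_d
  have h_b_h : cc l .b .h = 1 := by
    rw [← hmove .b .d .h (by decide) (by decide) (by decide)]; exact h_b_d
  have h_e_i : cc l .e .i = 1 := by
    rw [← hmove .e .h .i (by decide) (by decide) (by decide)]; exact h_e_h
  have h_i_d : cc l .i .d = 1 := by
    rw [← hmove .i .e .d (by decide) (by decide) (by decide)]; exact h_i_e
  have h_c_a : cc l .c .a = 1 := cc_symm l h_a_c
  have h_h_a : cc l .h .a = 1 := cc_symm l h_a_h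
  have h_a_i : cc l .a .i = 1 := by
    rw [← hmove .a .h .i (by decide) (by decide) (by decide)]; exact h_a_h
  have h_h_b : cc l .h .b = 1 := cc_symm l h_b_h
  have h_b_i : cc l .b .i = 1 := by
    rw [← hmove .b .h .i (by decide) (by decide) (by decide)]; exact h_b_h
  have h_d_i : cc l .d .i = 1 := cc_symm l h_i_d
  have h_i_c : cc l .i .c = 1 := by
    rw [← hmove .i .d .c (by decide) (by decide) (by decide)]; exact h_i_d
  have h_i_a : cc l .i .a = 1 := cc_symm l h_a_i
  have h_h_c : cc l .h .c = 1 := by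
    rw [← hmove .h .b .c (by decide) (by decide) (by decide)]; exact h_h_b
  have h_i_b : cc l .i .b = 1 := cc_symm l h_b_i
  have h_c_i : cc l .c .i = 1 := cc_symm l h_i_c
  have h_c_h : cc l .c .h = 1 := cc_symm l h_h_c
  intro x y h
  cases x <;> cases y <;> first
    | exact absurd h (by decide)
    | exact comm_of_cc l (by assumption)

end Cfsg.Agent.Lib.Helper42_M23_COMM
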