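import Mathlib
import Cfsg.Agent.Lib.helper19_M23Defs

/-!
# S2054 package LIFT (helper42, for helper19): lifts of the ten generators of `Fi23` to a central
extension, conjugate along the tree `Y342`: a common square `z` and exact braid relations.
-/

set_option autoImplicit false

namespace Cfsg.Agent.Lib.Helper42_M23_LIFT

open Cfsg Cfsg.Spor Cfsg.Agent.Lib.Helper66_S96 Cfsg.Agent.Lib.Helper66_S92
  Cfsg.Agent.Lib.Helper81_UceA Cfsg.Agent.Lib.helper19_M23

/-- every generator is a node of the graph -/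
theorem mem_nodes (x : Fi23.Gen) : x ∈ coxNodes Fi23.edges := by
  cases x <;> decide

/-- the Coxeter relations of the generators of `Fi23` -/
theorem gen_rel (x y : Fi23.Gen) : (gen x * gen y) ^ coxLabel Fi23.edges x y = 1 := by
  have hmem : (FreeGroup.of x * FreeGroup.of y) ^ coxLabel Fi23.edges x y ∈
      coxRelators Fi23.edges ∪ {r | r ∈ Fi23.extra} :=
    Or.inl ⟨x, mem_nodes x, y, mem_nodes y, rfl⟩
  have h := PresentedGroup.one_of_mem hmem
  rw [map_pow, map_mul] at h
  exact h

theorem gen_sq (x : Fi23.Gen) : gen x * gen x = 1 := by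
  have h := gen_rel x x
  have h1 : coxLabel Fi23.edges x x = 1 := by simp [coxLabel]
  rwa [h1, pow_one] at h

/-- one step along an edge: from a lift of `x` to a conjugate lift of `y` -/
theorem step {Γ G : Type*} [Group Γ] [Group G] (σ : Γ →* G) (hσ : CExt σ) {x y : G}
    (hx : x * x = 1) (hy : y * y = 1) (hxy : (x * y) ^ 3 = 1) (lx : Γ) (hlx : σ lx = x) :
    ∃ ly : Γ, σ ly = y ∧ ly * ly = lx * lx ∧ lx * ly * lx = ly * lx * ly ∧
      ly * lx * ly = lx * ly * lx := by
  obtain ⟨y', hy'⟩ := hσ.surj y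
  have hxi : x⁻¹ = x := inv_eq_of_mul_eq_one_left hx
  have hyi : y⁻¹ = y := inv_eq_of_mul_eq_one_left hy
  have hσly : σ ((lx * y') * lx * (lx * y')⁻¹) = y := by
    rw [map_mul, map_mul, map_inv, map_mul, hlx, hy', mul_inv_rev, hxi, hyi]
    have h3 : x * y * (x * y) * (x * y) = 1 := by
      rw [← hxy, pow_succ, pow_succ, pow_one]
    calc x * y * x * (y * x) = x * y * (x * y) * (x * y) * y⁻¹ := by group
      _ = y := by rw [h3, one_mul, hyi]
  refine ⟨(lx * y') * lx * (lx * y')⁻¹, hσly, ?_, ?_⟩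
  · have hc : ∀ e : Γ, (lx * lx) * e = e * (lx * lx) :=
      hσ.comm_of_ker (by rw [map_mul, hlx, hx])
    calc (lx * y') * lx * (lx * y')⁻¹ * ((lx * y') * lx * (lx * y')⁻¹)
        = (lx * y') * (lx * lx) * (lx * y')⁻¹ := by group
      _ = (lx * lx) * (lx * y') * (lx * y')⁻¹ := by rw [← hc]
      _ = lx * lx := by group
  · have key := hσ.conj_eq (a := lx * y') (a' := lx * ((lx * y') * lx * (lx * y')⁻¹))
      (by rw [map_mul, map_mul, hσly, hy']) lx
    set ly := (lx * y') * lx * (lx * y')⁻¹ with hly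
    -- key : ly = lx * ly * lx * (lx * ly)⁻¹
    have h1 : lx * ly * lx = ly * lx * ly := by
      calc lx * ly * lx = (lx * ly * lx * (lx * ly)⁻¹) * (lx * ly) := by group
        _ = ly * (lx * ly) := by rw [← key]
        _ = ly * lx * ly := by group
    exact ⟨h1, h1.symm⟩

/-- **PKG LIFT** (M).  Lifts of the ten generators, conjugate along the tree: one square `z`, exact braid relations.
For an edge `x - y` and a lift `lx` of `x`, `ly := (lx * y') * lx * (lx * y')⁻¹` (`y'` any lift of `y`) is a lift of `y`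
(because `x y x y x = y` in `G`), and `lx * ly * lx = ly * lx * ly`, `ly * ly = lx * lx` (conjugate, `lx * lx` central).  Nine steps from `d`. -/
theorem exists_lifts {Γ : Type} [Group Γ] (σ : Γ →* Spor.Fi23) (hσ : CExt σ) :
    ∃ (l : Fi23.Gen → Γ) (z : Γ), (∀ x, σ (l x) = gen x) ∧ σ z = 1 ∧ (∀ x, l x * l x = z) ∧
      ∀ x y, coxLabel Fi23.edges x y = 3 → l x * l y * l x = l y * l x * l y := by
  have hedge : ∀ x y : Fi23.Gen, coxLabel Fi23.edges x y = 3 → (gen x * gen y) ^ 3 = 1 := by
    intro x y h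
    have := gen_rel x y
    rwa [h] at this
  obtain ⟨ld, hld⟩ := hσ.surj (gen .d)
  obtain ⟨lc, hlc, sc, bc, bc'⟩ := step σ hσ (gen_sq .d) (gen_sq .c) (hedge .d .c (by decide)) ld hld
  obtain ⟨lb, hlb, sb, bb, bb'⟩ := step σ hσ (gen_sq .c) (gen_sq .b) (hedge .c .b (by decide)) lc hlc
  obtain ⟨la, hla, sa, ba, ba'⟩ := step σ hσ (gen_sq .b) (gen_sq .a) (hedge .b .a (by decide)) lb hlb
  obtain ⟨le, hle, se, be, be'⟩ := step σ hσ (gen_sq .d) (gen_sq .e) (hedge .d .e (by decide)) ld hld
  obtain ⟨lf, hlf, sf, bf, bf'⟩ := step σ hσ (gen_sq .e) (gen_sq .f) (hedge .e .f (by decide)) le hle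
  obtain ⟨lg, hlg, sg, bg, bg'⟩ := step σ hσ (gen_sq .f) (gen_sq .g) (hedge .f .g (by decide)) lf hlf
  obtain ⟨lj, hlj, sj, bj, bj'⟩ := step σ hσ (gen_sq .g) (gen_sq .j) (hedge .g .j (by decide)) lg hlg
  obtain ⟨lh, hlh, sh, bh, bh'⟩ := step σ hσ (gen_sq .d) (gen_sq .h) (hedge .d .h (by decide)) ld hld
  obtain ⟨li, hli, si, bi, bi'⟩ := step σ hσ (gen_sq .h) (gen_sq .i) (hedge .h .i (by decide)) lh hlh
  refine ⟨fun x => match x with
    | .a => la | .b => lb | .c => lc | .d => ld | .e => le | .f => lf | .g => lg | .j => lj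
    | .h => lh | .i => li, ld * ld, ?_, ?_, ?_, ?_⟩
  · intro x
    cases x <;> assumption
  · rw [map_mul, hld, gen_sq]
  · intro x
    cases x
    · show la * la = ld * ld
      rw [sa, sb, sc]
    · show lb * lb = ld * ld
      rw [sb, sc]
    · exact sc
    · rfl
    · exact se
    · show lf * lf = ld * ld
      rw [sf, se]
    · show lg * lg = ld * ld
      rw [sg, sf, se]
    · show lj * lj = ld * ld
      rw [sj, sg, sf, se]
    · exact sh
    · show li * li = ld * ld
      rw [si, sh]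
  · intro x y h
    cases x <;> cases y <;> first
      | exact absurd h (by decide)
      | assumption
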