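import Mathlib
import Cfsg.Prelude.Def_Spor_Fi23
import Cfsg.Agent.Lib.helper19_M23Defs

/-!
# S2054 market `s2054_packages` (architect helper19), package COX

For lifts `l` of the seven `E₇` nodes `a b c d e f h` of the `Y₃₄₂` diagram with common central square `z`, exact braid
and commutation relations and central `t = (a b c d e f h) ^ 9`, one has `t ^ 2 = z ^ 63`: the Coxeter word is conjugate
to its reverse `h f e d c b a` (39 rotation / commutation moves, found by breadth-first search), which equals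
`z ^ 7 * (a b c d e f h)⁻¹`.
-/

set_option autoImplicit false
set_option maxHeartbeats 1000000
set_option linter.unusedVariables false

namespace Cfsg.Agent.Lib.Helper88_M23_COX

open Cfsg Cfsg.Spor Cfsg.Agent.Lib.helper19_M23

section General

variable {Γ : Type*} [Group Γ]

/-- rotation of a word is a conjugation -/
theorem rotL (x w : Γ) : IsConj (x * w) (w * x) :=
  isConj_iff.mpr ⟨x⁻¹, by group⟩

/-- one step of `reverse word * word = z ^ k` -/
theorem rev_step {z x m n : Γ} {k : ℕ} (hz : ∀ g : Γ, g * z = z * g) (hx : x * x = z)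
    (hmn : m * n = z ^ k) : (m * x) * (x * n) = z ^ (k + 1) := by
  calc (m * x) * (x * n) = m * (x * x) * n := by group
    _ = m * z * n := by rw [hx]
    _ = z * (m * n) := by rw [hz m, mul_assoc]
    _ = z ^ (k + 1) := by rw [hmn, pow_succ']

end General

/-- the Coxeter word of the `E₇` nodes is conjugate to its reverse (right-associated forms) -/
theorem isConj_reverse {Γ : Type} [Group Γ] (l : Fi23.Gen → Γ)
    (hcm : ∀ x y, coxLabel Fi23.edges x y = 2 → l x * l y = l y * l x) :
    IsConj (l .a * (l .b * (l .c * (l .d * (l .e * (l .f * l .h))))))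
      (l .h * (l .f * (l .e * (l .d * (l .c * (l .b * l .a)))))) := by
  have hC : ∀ x y, coxLabel Fi23.edges x y = 2 → Commute (l x) (l y) := fun x y h => hcm x y h
  have c0 : IsConj (l .a * (l .b * (l .c * (l .d * (l .e * (l .f * (l .h))))))) (l .a * (l .b * (l .c * (l .d * (l .e * (l .f * (l .h))))))) := IsConj.refl _
  have r1 : IsConj (l .a * (l .b * (l .c * (l .d * (l .e * (l .f * (l .h))))))) (l .b * (l .c * (l .d * (l .e * (l .f * (l .h * (l .a))))))) := by
    have := rotL (l .a) (l .b * (l .c * (l .d * (l .e * (l .f * (l .h))))))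
    simpa only [mul_assoc] using this
  have c1 : IsConj (l .a * (l .b * (l .c * (l .d * (l .e * (l .f * (l .h))))))) (l .b * (l .c * (l .d * (l .e * (l .f * (l .h * (l .a))))))) := c0.trans r1
  have r2 : IsConj (l .b * (l .c * (l .d * (l .e * (l .f * (l .h * (l .a))))))) (l .c * (l .d * (l .e * (l .f * (l .h * (l .a * (l .b))))))) := by
    have := rotL (l .b) (l .c * (l .d * (l .e * (l .f * (l .h * (l .a))))))
    simpa only [mul_assoc] using this
  have c2 : IsConj (l .a * (l .b * (l .c * (l .d * (l .e * (l .f * (l .h))))))) (l .c * (l .d * (l .e * (l .f * (l .h * (l .a * (l .b))))))) := c1.trans r2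
  have r3 : IsConj (l .c * (l .d * (l .e * (l .f * (l .h * (l .a * (l .b))))))) (l .d * (l .e * (l .f * (l .h * (l .a * (l .b * (l .c))))))) := by
    have := rotL (l .c) (l .d * (l .e * (l .f * (l .h * (l .a * (l .b))))))
    simpa only [mul_assoc] using this
  have c3 : IsConj (l .a * (l .b * (l .c * (l .d * (l .e * (l .f * (l .h))))))) (l .d * (l .e * (l .f * (l .h * (l .a * (l .b * (l .c))))))) := c2.trans r3
  have e4 : l .d * (l .e * (l .f * (l .h * (l .a * (l .b * (l .c)))))) = l .a * (l .d * (l .h * (l .e * (l .f * (l .b * (l .c)))))) := by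
    rw [(hC .f .h (by decide)).left_comm, (hC .e .h (by decide)).left_comm, (hC .f .a (by decide)).left_comm, (hC .e .a (by decide)).left_comm, (hC .h .a (by decide)).left_comm, (hC .d .a (by decide)).left_comm]
  have c4 : IsConj (l .a * (l .b * (l .c * (l .d * (l .e * (l .f * (l .h))))))) (l .a * (l .d * (l .h * (l .e * (l .f * (l .b * (l .c))))))) := e4 ▸ c3
  have r5 : IsConj (l .a * (l .d * (l .h * (l .e * (l .f * (l .b * (l .c))))))) (l .d * (l .h * (l .e * (l .f * (l .b * (l .c * (l .a))))))) := by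
    have := rotL (l .a) (l .d * (l .h * (l .e * (l .f * (l .b * (l .c))))))
    simpa only [mul_assoc] using this
  have c5 : IsConj (l .a * (l .b * (l .c * (l .d * (l .e * (l .f * (l .h))))))) (l .d * (l .h * (l .e * (l .f * (l .b * (l .c * (l .a))))))) := c4.trans r5
  have e6 : l .d * (l .h * (l .e * (l .f * (l .b * (l .c * (l .a)))))) = l .b * (l .d * (l .h * (l .e * (l .f * (l .c * (l .a)))))) := by
    rw [(hC .f .b (by decide)).left_comm, (hC .e .b (by decide)).left_comm, (hC .h .b (by decide)).left_comm, (hC .d .b (by decide)).left_comm]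
  have c6 : IsConj (l .a * (l .b * (l .c * (l .d * (l .e * (l .f * (l .h))))))) (l .b * (l .d * (l .h * (l .e * (l .f * (l .c * (l .a))))))) := e6 ▸ c5
  have r7 : IsConj (l .b * (l .d * (l .h * (l .e * (l .f * (l .c * (l .a))))))) (l .d * (l .h * (l .e * (l .f * (l .c * (l .a * (l .b))))))) := by
    have := rotL (l .b) (l .d * (l .h * (l .e * (l .f * (l .c * (l .a))))))
    simpa only [mul_assoc] using this
  have c7 : IsConj (l .a * (l .b * (l .c * (l .d * (l .e * (l .f * (l .h))))))) (l .d * (l .h * (l .e * (l .f * (l .c * (l .a * (l .b))))))) := c6.trans r7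
  have e8 : l .d * (l .h * (l .e * (l .f * (l .c * (l .a * (l .b)))))) = l .a * (l .d * (l .c * (l .h * (l .e * (l .f * (l .b)))))) := by
    rw [(hC .f .c (by decide)).left_comm, (hC .e .c (by decide)).left_comm, (hC .h .c (by decide)).left_comm, (hC .f .a (by decide)).left_comm, (hC .e .a (by decide)).left_comm, (hC .h .a (by decide)).left_comm, (hC .c .a (by decide)).left_comm, (hC .d .a (by decide)).left_comm]
  have c8 : IsConj (l .a * (l .b * (l .c * (l .d * (l .e * (l .f * (l .h))))))) (l .a * (l .d * (l .c * (l .h * (l .e * (l .f * (l .b))))))) := e8 ▸ c7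
  have r9 : IsConj (l .a * (l .d * (l .c * (l .h * (l .e * (l .f * (l .b))))))) (l .d * (l .c * (l .h * (l .e * (l .f * (l .b * (l .a))))))) := by
    have := rotL (l .a) (l .d * (l .c * (l .h * (l .e * (l .f * (l .b))))))
    simpa only [mul_assoc] using this
  have c9 : IsConj (l .a * (l .b * (l .c * (l .d * (l .e * (l .f * (l .h))))))) (l .d * (l .c * (l .h * (l .e * (l .f * (l .b * (l .a))))))) := c8.trans r9
  have e10 : l .d * (l .c * (l .h * (l .e * (l .f * (l .b * (l .a)))))) = l .d * (l .c * (l .b * (l .h * (l .e * (l .a * (l .f)))))) := by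
    rw [(hC .f .b (by decide)).left_comm, (hC .e .b (by decide)).left_comm, (hC .h .b (by decide)).left_comm, (hC .f .a (by decide)).eq]
  have c10 : IsConj (l .a * (l .b * (l .c * (l .d * (l .e * (l .f * (l .h))))))) (l .d * (l .c * (l .b * (l .h * (l .e * (l .a * (l .f))))))) := e10 ▸ c9
  have r11 : IsConj (l .d * (l .c * (l .b * (l .h * (l .e * (l .a * (l .f))))))) (l .f * (l .d * (l .c * (l .b * (l .h * (l .e * (l .a))))))) := by
    have := (rotL (l .f) (l .d * (l .c * (l .b * (l .h * (l .e * (l .a))))))).symm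
    simpa only [mul_assoc] using this
  have c11 : IsConj (l .a * (l .b * (l .c * (l .d * (l .e * (l .f * (l .h))))))) (l .f * (l .d * (l .c * (l .b * (l .h * (l .e * (l .a))))))) := c10.trans r11
  have e12 : l .f * (l .d * (l .c * (l .b * (l .h * (l .e * (l .a)))))) = l .d * (l .c * (l .b * (l .h * (l .f * (l .a * (l .e)))))) := by
    rw [(hC .f .d (by decide)).left_comm, (hC .f .c (by decide)).left_comm, (hC .f .b (by decide)).left_comm, (hC .f .h (by decide)).left_comm, (hC .e .a (by decide)).eq]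
  have c12 : IsConj (l .a * (l .b * (l .c * (l .d * (l .e * (l .f * (l .h))))))) (l .d * (l .c * (l .b * (l .h * (l .f * (l .a * (l .e))))))) := e12 ▸ c11
  have r13 : IsConj (l .d * (l .c * (l .b * (l .h * (l .f * (l .a * (l .e))))))) (l .e * (l .d * (l .c * (l .b * (l .h * (l .f * (l .a))))))) := by
    have := (rotL (l .e) (l .d * (l .c * (l .b * (l .h * (l .f * (l .a))))))).symm
    simpa only [mul_assoc] using this
  have c13 : IsConj (l .a * (l .b * (l .c * (l .d * (l .e * (l .f * (l .h))))))) (l .e * (l .d * (l .c * (l .b * (l .h * (l .f * (l .a))))))) := c12.trans r13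
  have e14 : l .e * (l .d * (l .c * (l .b * (l .h * (l .f * (l .a)))))) = l .e * (l .d * (l .c * (l .b * (l .h * (l .a * (l .f)))))) := by
    rw [(hC .f .a (by decide)).eq]
  have c14 : IsConj (l .a * (l .b * (l .c * (l .d * (l .e * (l .f * (l .h))))))) (l .e * (l .d * (l .c * (l .b * (l .h * (l .a * (l .f))))))) := e14 ▸ c13
  have r15 : IsConj (l .e * (l .d * (l .c * (l .b * (l .h * (l .a * (l .f))))))) (l .f * (l .e * (l .d * (l .c * (l .b * (l .h * (l .a))))))) := by
    have := (rotL (l .f) (l .e * (l .d * (l .c * (l .b * (l .h * (l .a))))))).symm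
    simpa only [mul_assoc] using this
  have c15 : IsConj (l .a * (l .b * (l .c * (l .d * (l .e * (l .f * (l .h))))))) (l .f * (l .e * (l .d * (l .c * (l .b * (l .h * (l .a))))))) := c14.trans r15
  have e16 : l .f * (l .e * (l .d * (l .c * (l .b * (l .h * (l .a)))))) = l .f * (l .e * (l .d * (l .c * (l .b * (l .a * (l .h)))))) := by
    rw [(hC .h .a (by decide)).eq]
  have c16 : IsConj (l .a * (l .b * (l .c * (l .d * (l .e * (l .f * (l .h))))))) (l .f * (l .e * (l .d * (l .c * (l .b * (l .a * (l .h))))))) := e16 ▸ c15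
  have r17 : IsConj (l .f * (l .e * (l .d * (l .c * (l .b * (l .a * (l .h))))))) (l .h * (l .f * (l .e * (l .d * (l .c * (l .b * (l .a))))))) := by
    have := (rotL (l .h) (l .f * (l .e * (l .d * (l .c * (l .b * (l .a))))))).symm
    simpa only [mul_assoc] using this
  have c17 : IsConj (l .a * (l .b * (l .c * (l .d * (l .e * (l .f * (l .h))))))) (l .h * (l .f * (l .e * (l .d * (l .c * (l .b * (l .a))))))) := c16.trans r17
  exact c17

theorem cox_sq {Γ : Type} [Group Γ] (l : Fi23.Gen → Γ) (z : Γ) (hzc : z ∈ Subgroup.center Γ)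
    (hsq : ∀ x, l x * l x = z)
    (hbr : ∀ x y, coxLabel Fi23.edges x y = 3 → l x * l y * l x = l y * l x * l y)
    (hcm : ∀ x y, coxLabel Fi23.edges x y = 2 → l x * l y = l y * l x)
    (ht : (l .a * l .b * l .c * l .d * l .e * l .f * l .h) ^ 9 ∈ Subgroup.center Γ) :
    ((l .a * l .b * l .c * l .d * l .e * l .f * l .h) ^ 9) ^ 2 = z ^ 63 := by
  have hz : ∀ g : Γ, g * z = z * g := fun g => Subgroup.mem_center_iff.mp hzc g
  set c : Γ := l .a * l .b * l .c * l .d * l .e * l .f * l .h with hc
  have hcra : c = l .a * (l .b * (l .c * (l .d * (l .e * (l .f * l .h))))) := by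
    rw [hc]; simp only [mul_assoc]
  -- the reverse word, left-associated
  set r : Γ := l .h * l .f * l .e * l .d * l .c * l .b * l .a with hr
  have hrra : r = l .h * (l .f * (l .e * (l .d * (l .c * (l .b * l .a))))) := by
    rw [hr]; simp only [mul_assoc]
  have hconj : IsConj c r := by
    rw [hcra, hrra]
    exact isConj_reverse l hcm
  -- `r * c = z ^ 7`
  have h1 : l .h * l .h = z ^ 1 := by rw [pow_one]; exact hsq _
  have h2 := rev_step hz (hsq .f) h1
  have h3 := rev_step hz (hsq .e) h2
  have h4 := rev_step hz (hsq .d) h3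
  have h5 := rev_step hz (hsq .c) h4
  have h6 := rev_step hz (hsq .b) h5
  have h7 := rev_step hz (hsq .a) h6
  have hrc : r * c = z ^ 7 := by
    rw [hcra, hr]
    exact h7
  have hr' : r = z ^ 7 * c⁻¹ := by
    rw [← hrc, mul_assoc, mul_inv_cancel, mul_one]
  obtain ⟨γ, hγ⟩ := isConj_iff.mp hconj
  -- ninth powers
  have hz7 : Commute (z ^ 7) c⁻¹ := by
    have : Commute z c⁻¹ := (hz c⁻¹).symm
    exact this.pow_left 7
  have e1 : (γ * c * γ⁻¹) ^ 9 = c ^ 9 := by
    rw [conj_pow]
    have := Subgroup.mem_center_iff.mp ht γ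
    rw [this, mul_assoc, mul_inv_cancel, mul_one]
  have e2 : (γ * c * γ⁻¹) ^ 9 = z ^ 63 * (c ^ 9)⁻¹ := by
    rw [hγ, hr', hz7.mul_pow, ← pow_mul, inv_pow]
  have e3 : c ^ 9 = z ^ 63 * (c ^ 9)⁻¹ := e1.symm.trans e2
  calc (c ^ 9) ^ 2 = c ^ 9 * c ^ 9 := pow_two _
    _ = z ^ 63 * (c ^ 9)⁻¹ * c ^ 9 := by rw [← e3]
    _ = z ^ 63 := by rw [mul_assoc, inv_mul_cancel, mul_one]

end Cfsg.Agent.Lib.Helper88_M23_COX
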