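import Mathlib
import Cfsg.Prelude.Def_KGroupFacts
import Cfsg.Prelude.Def_Spor_Fi23
import Cfsg.Agent.Lib.helper19_M23Defs
import Cfsg.Agent.Lib.Helper10_M23_GOOD
import Cfsg.Agent.Lib.Helper42_M23_LIFT
import Cfsg.Agent.Lib.Helper42_M23_COMM
import Cfsg.Agent.Lib.Helper88_M23_COX

/-!
# S2054 market `s2054_packages` (architect helper19), package GOOD (helper10): verbatim statement
`exists_good_lifts`, from `exists_good_lifts_of` and the landed LIFT, COMM, COX.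
-/

set_option autoImplicit false

namespace Cfsg.Agent.Lib.Helper10_M23_GOODv

open Cfsg Cfsg.Spor Cfsg.Agent.Lib.Helper66_S96 Cfsg.Agent.Lib.Helper66_S92
  Cfsg.Agent.Lib.Helper81_UceA Cfsg.Agent.Lib.helper19_M23

/-- **PKG GOOD** (S, uses LIFT, COMM, COX).  Rescale: `w := t * z ^ (-31)`, `b x := l x * w⁻¹`. -/
theorem exists_good_lifts {Γ : Type} [Group Γ] (σ : Γ →* Spor.Fi23) (hσ : CExt σ) :
    ∃ b : Fi23.Gen → Γ, (∀ x, σ (b x) = gen x) ∧
      (∀ x y, (b x * b y) ^ coxLabel Fi23.edges x y = 1) ∧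
      (b .a * b .b * b .c * b .d * b .e * b .f * b .h) ^ 9 = 1 :=
  Cfsg.Agent.Lib.Helper10_M23_GOOD.exists_good_lifts_of σ hσ
    (Cfsg.Agent.Lib.Helper42_M23_LIFT.exists_lifts σ hσ)
    (fun l z => Cfsg.Agent.Lib.Helper42_M23_COMM.lifts_commute σ hσ l z)
    (fun l z => Cfsg.Agent.Lib.Helper88_M23_COX.cox_sq l z)

end Cfsg.Agent.Lib.Helper10_M23_GOODv
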