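import Mathlib
import Cfsg.Prelude.Def_KGroupFacts
import Cfsg.Prelude.Def_Spor_Fi23
import Cfsg.Agent.Lib.helper19_M23Defs

/-!
# S2054 market `s2054_packages` (architect helper19), package SECTION (helper10)
`ker_eq_bot_of_good_lifts`: if lifts `b x` of the generators of `Fi23` to a stem extension satisfy all the relators
of the presentation, then `x ↦ b x` defines a section, and the kernel of the stem extension is trivial.
-/

set_option autoImplicit false

namespace Cfsg.Agent.Lib.Helper10_M23_SECTION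

open Cfsg Cfsg.Spor Cfsg.Agent.Lib.Helper66_S96 Cfsg.Agent.Lib.Helper66_S92
  Cfsg.Agent.Lib.Helper81_UceA Cfsg.Agent.Lib.helper19_M23

/-- a surjection with central kernel and a section has its commutator subgroup inside the range of the section,
so a stem extension with a section has trivial kernel -/
theorem ker_eq_bot_of_section {Γ G : Type*} [Group Γ] [Group G] (σ : Γ →* G)
    (hσ : IsStemExtension σ) (φ : G →* Γ) (hφ : ∀ g, σ (φ g) = g) : σ.ker = ⊥ := by
  obtain ⟨-, hcen, hcomm⟩ := hσ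
  have hdec : ∀ γ : Γ, ∃ k ∈ Subgroup.center Γ, γ = φ (σ γ) * k := by
    intro γ
    refine ⟨(φ (σ γ))⁻¹ * γ, hcen ?_, by group⟩
    rw [MonoidHom.mem_ker, map_mul, map_inv, hφ, inv_mul_cancel]
  have hle : commutator Γ ≤ φ.range := by
    rw [commutator_eq_closure, Subgroup.closure_le]
    rintro _ ⟨x, y, rfl⟩
    obtain ⟨k1, hk1, hx⟩ := hdec x
    obtain ⟨k2, hk2, hy⟩ := hdec y
    rw [Subgroup.mem_center_iff] at hk1 hk2
    refine ⟨σ x * σ y * (σ x)⁻¹ * (σ y)⁻¹, ?_⟩
    rw [map_mul, map_mul, map_mul, map_inv, map_inv, commutatorElement_def]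
    set p := φ (σ x)
    set q := φ (σ y)
    have hx' : x = p * k1 := hx
    have hy' : y = q * k2 := hy
    rw [hx', hy']
    have e1 : p * k1 * (q * k2) * (p * k1)⁻¹ * (q * k2)⁻¹
        = p * (k1 * (q * k2 * k1⁻¹)) * p⁻¹ * k2⁻¹ * q⁻¹ := by group
    rw [e1, ← hk1 (q * k2 * k1⁻¹)]
    have e2 : p * (q * k2 * k1⁻¹ * k1) * p⁻¹ * k2⁻¹ * q⁻¹ = p * q * (k2 * (p⁻¹ * k2⁻¹)) * q⁻¹ := by
      group
    rw [e2, ← hk2 (p⁻¹ * k2⁻¹)]
    group
  rw [eq_bot_iff]
  intro z hz
  obtain ⟨g, hg⟩ := hle (hcomm hz)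
  rw [MonoidHom.mem_ker] at hz
  rw [Subgroup.mem_bot]
  have : g = 1 := by rw [← hφ g, hg, hz]
  rw [← hg, this, map_one]

/-- **PKG SECTION** (S/M).  If moreover the spider relator holds for the lifts, `x ↦ b x` defines `φ : Fi23 →* Γ` with `σ ∘ φ = id`
(`PresentedGroup.toGroup`; the relators are `coxRelators Fi23.edges ∪ {r | r ∈ Fi23.extra}`), `Γ = φ(G) * ker σ`, `commutator Γ ≤ range φ`,
`ker σ ≤ commutator Γ ⊓ ker σ ≤ range φ ⊓ ker σ = ⊥`. -/
theorem ker_eq_bot_of_good_lifts {Γ : Type} [Group Γ] (σ : Γ →* Spor.Fi23) (hσ : IsStemExtension σ)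
    (b : Fi23.Gen → Γ) (hb : ∀ x, σ (b x) = gen x)
    (hcox : ∀ x y, (b x * b y) ^ coxLabel Fi23.edges x y = 1)
    (h9 : (b .a * b .b * b .c * b .d * b .e * b .f * b .h) ^ 9 = 1)
    (h10 : (b .d * b .c * b .b * b .d * b .e * b .f * b .d * b .h * b .i) ^ 10 = 1) : σ.ker = ⊥ := by
  have hrel : ∀ r ∈ coxRelators Fi23.edges ∪ {r | r ∈ Fi23.extra}, FreeGroup.lift b r = 1 := by
    rintro r (⟨x, -, y, -, rfl⟩ | hr)
    · rw [map_pow, map_mul, FreeGroup.lift_apply_of, FreeGroup.lift_apply_of]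
      exact hcox x y
    · have hr' : r = (Fi23.d * Fi23.c * Fi23.b * Fi23.d * Fi23.e * Fi23.f * Fi23.d * Fi23.h * Fi23.i) ^ 10
          ∨ r = (Fi23.a * Fi23.b * Fi23.c * Fi23.d * Fi23.e * Fi23.f * Fi23.h) ^ 9 := by
        simpa [Fi23.extra] using hr
      rcases hr' with rfl | rfl
      · simpa [FreeGroup.lift_apply_of] using h10
      · simpa [FreeGroup.lift_apply_of] using h9
  let φ : Spor.Fi23 →* Γ := PresentedGroup.toGroup hrel
  have hφ : ∀ g, σ (φ g) = g := by
    have : σ.comp φ = MonoidHom.id _ := by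
      apply PresentedGroup.ext
      intro x
      show σ (PresentedGroup.toGroup hrel (PresentedGroup.of x)) = PresentedGroup.of x
      rw [PresentedGroup.toGroup.of]
      exact hb x
    intro g
    exact DFunLike.congr_fun this g
  exact ker_eq_bot_of_section σ hσ φ hφ

end Cfsg.Agent.Lib.Helper10_M23_SECTION
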