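import Mathlib
import Cfsg.Agent.Lib.Helper14_OmegaSimple

set_option autoImplicit false

/-!
Shared definitions for S2146 (minimal index of a proper subgroup of `Ω⁺_{2m}(2)`, `m ≥ 4`, is
`2^(m-1) (2^m - 1)`), architect helper22.  Abstract setting of `Helper14_OmegaSimple`:
`Q : QuadraticForm F V`, `E Q u z` the Eichler-Siegel transformation, `T Q` the group generated by
the long root elements (`≅ Ω(Q)` in dimension at least five).
-/

namespace Cfsg.Agent.Lib.Helper22_MI2Defs

open Module Cfsg.Agent.Lib.Helper14_OmegaSimple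

variable {F V : Type*} [Field F] [AddCommGroup V] [Module F V]

/-- `Nmin k = 2^(k-1) (2^k - 1)`: the number of nonsingular vectors of a plus-type quadratic space of
dimension `2k` over the field with two elements. -/
def Nmin (k : ℕ) : ℕ := 2 ^ (k - 1) * (2 ^ k - 1)

/-- A plus-type quadratic space of dimension `2k` over the field with two elements
(the plus type is encoded by the number of nonsingular vectors). -/
structure PlusSetting (Q : QuadraticForm F V) (k : ℕ) : Prop where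
  f2 : ∀ c : F, c = 0 ∨ c = 1
  nondeg : (QuadraticMap.polarBilin Q).Nondegenerate
  dim : finrank F V = 2 * k
  ns : Nat.card {x : V // Q x ≠ 0} = Nmin k

/-- The orbit of a subspace under `T Q`. -/
def subOrbit (Q : QuadraticForm F V) (C : Submodule F V) : Set (Submodule F V) :=
  {C' | ∃ g ∈ T Q, C' = C.map (g : V →ₗ[F] V)}

/-- The restriction of `Q` to a subspace. -/
abbrev resQ (Q : QuadraticForm F V) (X : Submodule F V) : QuadraticForm F ↥X :=
  Q.comp X.subtype

/-- The orthogonal complement of `v`, `v'` for the polar form (`Helper44_QuadClass.perp`, with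
`mem_perp`, `finrank_perp`, `nondegenerate_perp` there). -/
abbrev perp2 (Q : QuadraticForm F V) (v v' : V) : Submodule F V :=
  Cfsg.Agent.Lib.Helper44_QuadClass.perp Q v v'

/-- `ext` extends linear automorphisms of the subspace `X` to `V` by the identity on `X^⟂`,
compatibly with Siegel elements. -/
structure IsExt (Q : QuadraticForm F V) (X : Submodule F V)
    (ext : (↥X ≃ₗ[F] ↥X) →* (V ≃ₗ[F] V)) : Prop where
  on_mem : ∀ (g : ↥X ≃ₗ[F] ↥X) (x : ↥X), ext g (x : V) = ((g x : ↥X) : V)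
  on_orth : ∀ (g : ↥X ≃ₗ[F] ↥X),
    ∀ y ∈ LinearMap.BilinForm.orthogonal (QuadraticMap.polarBilin Q) X, ext g y = y
  map_E : ∀ a b : ↥X, resQ Q X a = 0 → QuadraticMap.polar (⇑(resQ Q X)) a b = 0 →
    ext (E (resQ Q X) a b) = E Q (a : V) (b : V)
  map_T : ∀ g ∈ T (resQ Q X), ext g ∈ T Q

/-- The group generated by the Siegel elements `E(a,b)` with `a`, `b` orthogonal to `lam`
(a subgroup of the stabiliser of `lam` in `T Q`). -/
def Kstab (Q : QuadraticForm F V) (lam : V) : Subgroup (V ≃ₗ[F] V) :=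
  Subgroup.closure {g | ∃ a b : V, Q a = 0 ∧ QuadraticMap.polar (⇑Q) a b = 0 ∧
    QuadraticMap.polar (⇑Q) lam a = 0 ∧ QuadraticMap.polar (⇑Q) lam b = 0 ∧ g = E Q a b}

section action

variable {X : Type*} [MulAction (V ≃ₗ[F] V) X]

/-- Alternative (A): for every nonzero singular `v` and every point `ω ∈ Ω`, the parameters `w ⟂ v`
with `E(v,w) ω = ω` contain the intersection of `v^⟂` with a hyperplane `lam^⟂` (or everything). -/
def AllSmall (Q : QuadraticForm F V) (Ω : Set X) : Prop :=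
  ∀ v : V, v ≠ 0 → Q v = 0 → ∀ ω ∈ Ω, ∃ lam : V, ∀ w : V,
    QuadraticMap.polar (⇑Q) v w = 0 → QuadraticMap.polar (⇑Q) lam w = 0 → E Q v w • ω = ω

/-- Alternative (B): for every nonzero singular `v` and every point `ω ∈ Ω`, either all `E(v,w)` fix
`ω`, or only the trivial ones (`w = 0` or `w = v`) do. -/
def FixOrReg (Q : QuadraticForm F V) (Ω : Set X) : Prop :=
  ∀ v : V, v ≠ 0 → Q v = 0 → ∀ ω ∈ Ω,
    (∀ w : V, QuadraticMap.polar (⇑Q) v w = 0 → E Q v w • ω = ω) ∨
    (∀ w : V, QuadraticMap.polar (⇑Q) v w = 0 → E Q v w • ω = ω → w = 0 ∨ w = v)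

/-- `Ω` is a nontrivial orbit of `T Q`. -/
structure IsOrbit (Q : QuadraticForm F V) (Ω : Set X) : Prop where
  fin : Ω.Finite
  inv : ∀ g ∈ T Q, ∀ ω ∈ Ω, g • ω ∈ Ω
  trans : ∀ ω ∈ Ω, ∀ ω' ∈ Ω, ∃ g ∈ T Q, g • ω = ω'
  nontriv : ∃ ω ∈ Ω, ∃ g ∈ T Q, g • ω ≠ ω

end action

end Cfsg.Agent.Lib.Helper22_MI2Defs
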