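import Mathlib
import Cfsg.Agent.Lib.Helper22_MI2Defs
import Cfsg.Agent.Lib.Helper14_POmegaSimple

/-!
# MI2-BRSET, count-free part (S2146, architect helper22; author helper10)

The standard form `qfPlus m F` over the field with two elements is a plus setting, given the count
of its nonsingular vectors (package MI2-BRCNT).
-/

set_option autoImplicit false

namespace Cfsg.Agent.Lib.Helper10_MI2_BRSET0

open Module Cfsg.Agent.Lib.Helper14_OmegaSimple Cfsg.Agent.Lib.Helper22_MI2Defs
  Cfsg.Agent.Lib.Helper44_StdForms

variable {F : Type*} [Field F] [Fintype F]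

theorem f2_cases (hF : Fintype.card F = 2) (c : F) : c = 0 ∨ c = 1 := by
  classical
  by_contra hcon
  push Not at hcon
  have h3 : ({0, 1, c} : Finset F).card = 3 := by
    rw [Finset.card_insert_of_notMem, Finset.card_insert_of_notMem, Finset.card_singleton]
    · simp only [Finset.mem_singleton]
      exact fun h => hcon.2 h.symm
    · simp only [Finset.mem_insert, Finset.mem_singleton, not_or]
      exact ⟨zero_ne_one, fun h => hcon.1 h.symm⟩
  have := Finset.card_le_univ ({0, 1, c} : Finset F)
  omega

theorem plusSetting_of_count (hF : Fintype.card F = 2) (m : ℕ)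
    (hcnt : Nat.card {x : Fin m ⊕ Fin m → F // Cfsg.quadFormPlus m F x ≠ 0} = Nmin m) :
    PlusSetting (qfPlus m F) m where
  f2 := f2_cases hF
  nondeg := Cfsg.Agent.Lib.Helper14_POmegaSimple.nondegenerate_qfPlus m
  dim := by
    rw [Module.finrank_fintype_fun_eq_card, Fintype.card_sum, Fintype.card_fin, two_mul]
  ns := by
    rw [← hcnt, coe_qfPlus]

end Cfsg.Agent.Lib.Helper10_MI2_BRSET0
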