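import Mathlib

set_option autoImplicit false

/-!
Counting solutions of `x ⬝ᵥ y = c` over a finite field; used for the numbers of zeros of the
standard quadratic forms.
-/

namespace Cfsg.Agent.Lib.Helper5_QuadCount

open Matrix

variable {F : Type*} [Field F] [Fintype F]

/-- For `x ≠ 0`, every fibre of `y ↦ x ⬝ᵥ y` has `q^(m-1)` elements. -/
theorem card_dotProduct_eq {m : ℕ} (x : Fin m → F) (hx : x ≠ 0) (c : F) :
    Nat.card {y : Fin m → F // x ⬝ᵥ y = c} = Fintype.card F ^ (m - 1) := by
  classical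
  -- surjectivity
  obtain ⟨i, hi⟩ : ∃ i, x i ≠ 0 := by
    by_contra h
    push Not at h
    exact hx (funext h)
  have hsurj : ∀ d : F, ∃ y : Fin m → F, x ⬝ᵥ y = d := by
    intro d
    refine ⟨Pi.single i (d / x i), ?_⟩
    rw [dotProduct_single, mul_div_cancel₀ d hi]
  -- all fibres have the same cardinality
  have hfib : ∀ d : F, Nat.card {y : Fin m → F // x ⬝ᵥ y = d} = Nat.card {y : Fin m → F // x ⬝ᵥ y = c} := by
    intro d
    obtain ⟨y₀, hy₀⟩ := hsurj (c - d)
    refine Nat.card_congr (Equiv.subtypeEquiv (Equiv.addRight y₀) ?_)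
    intro y
    simp only [Equiv.coe_addRight, dotProduct_add, hy₀]
    constructor
    · intro h; rw [h]; ring
    · intro h; linear_combination h
  have hsum : Fintype.card (Fin m → F) = ∑ d : F, Fintype.card {y : Fin m → F // x ⬝ᵥ y = d} := by
    rw [← Fintype.card_sigma]
    exact Fintype.card_congr (Equiv.sigmaFiberEquiv (fun y : Fin m → F => x ⬝ᵥ y)).symm
  simp only [← Nat.card_eq_fintype_card (α := {y : Fin m → F // x ⬝ᵥ y = _})] at hsum
  simp only [hfib] at hsum
  rw [Finset.sum_const, Finset.card_univ, smul_eq_mul, Fintype.card_fun, Fintype.card_fin] at hsum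
  have hm : 1 ≤ m := Nat.one_le_iff_ne_zero.mpr (fun h => by subst h; exact Fin.elim0 i)
  have hq : 0 < Fintype.card F := Fintype.card_pos
  have : Fintype.card F ^ m = Fintype.card F * Fintype.card F ^ (m - 1) := by
    rw [← pow_succ', Nat.sub_add_cancel hm]
  rw [this] at hsum
  exact (Nat.eq_of_mul_eq_mul_left hq hsum).symm

/-- Number of pairs `(x, y)` in `F^m × F^m` with `x ⬝ᵥ y = c`. -/
theorem card_pairs [DecidableEq F] (m : ℕ) (c : F) :
    Nat.card {p : (Fin m → F) × (Fin m → F) // p.1 ⬝ᵥ p.2 = c} =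
      (if c = 0 then Fintype.card F ^ m else 0) + (Fintype.card F ^ m - 1) * Fintype.card F ^ (m - 1) := by
  classical
  have e : {p : (Fin m → F) × (Fin m → F) // p.1 ⬝ᵥ p.2 = c} ≃ Σ x : Fin m → F, {y : Fin m → F // x ⬝ᵥ y = c} :=
    { toFun := fun p => ⟨p.1.1, p.1.2, p.2⟩
      invFun := fun s => ⟨(s.1, s.2.1), s.2.2⟩
      left_inv := fun p => rfl
      right_inv := fun s => rfl }
  rw [Nat.card_congr e, Nat.card_eq_fintype_card, Fintype.card_sigma]
  simp only [← Nat.card_eq_fintype_card (α := {y : Fin m → F // _ ⬝ᵥ y = c})]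
  rw [← Finset.add_sum_erase Finset.univ _ (Finset.mem_univ (0 : Fin m → F))]
  congr 1
  · by_cases hc : c = 0
    · subst hc
      simp only [zero_dotProduct, if_true]
      rw [Nat.card_eq_fintype_card, Fintype.card_subtype_true, Fintype.card_fun, Fintype.card_fin]
    · simp only [zero_dotProduct, hc, if_false]
      have : IsEmpty {y : Fin m → F // (0 : F) = c} := ⟨fun y => hc y.2.symm⟩
      exact Nat.card_of_isEmpty
  · rw [Finset.sum_congr rfl (fun x hx => card_dotProduct_eq x (Finset.ne_of_mem_erase hx) c),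
      Finset.sum_const, Finset.card_erase_of_mem (Finset.mem_univ _), Finset.card_univ, smul_eq_mul,
      Fintype.card_fun, Fintype.card_fin]

theorem card_sigma_pairs {A : Type*} [Fintype A] (f : A → F) (m : ℕ) (a₀ : A) (hf : ∀ a, f a = 0 ↔ a = a₀) :
    Nat.card (Σ a : A, {p : (Fin m → F) × (Fin m → F) // p.1 ⬝ᵥ p.2 = - f a}) =
      Fintype.card F ^ m + Fintype.card A * ((Fintype.card F ^ m - 1) * Fintype.card F ^ (m - 1)) := by
  classical
  rw [Nat.card_sigma]
  simp only [card_pairs, neg_eq_zero, hf]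
  rw [Finset.sum_add_distrib, Finset.sum_ite_eq' Finset.univ a₀, if_pos (Finset.mem_univ _),
    Finset.sum_const, Finset.card_univ, smul_eq_mul]

end Cfsg.Agent.Lib.Helper5_QuadCount
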