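import Mathlib
import Cfsg.Agent.Lib.Helper22_MI2Defs
import Cfsg.Agent.Lib.Helper14_POmegaSimple
import Cfsg.Agent.Lib.Helper5_QuadCount

/-!
# S2146 package MI2-BRCNT (architect helper22): the number of nonsingular vectors of `Σ xᵢ yᵢ`
over the field with two elements.
-/

set_option autoImplicit false

namespace Cfsg.Agent.Lib.Helper43_MI2_BRCNT

open Module Cfsg.Agent.Lib.Helper14_OmegaSimple Cfsg.Agent.Lib.Helper22_MI2Defs
  Cfsg.Agent.Lib.Helper44_StdForms

variable {F : Type*} [Field F] [Fintype F]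

/-- In a field with two elements every element is `0` or `1`. -/
theorem eq_zero_or_one_of_card (hF : Fintype.card F = 2) (c : F) : c = 0 ∨ c = 1 := by
  classical
  have h : ({0, 1} : Finset F) = Finset.univ := by
    apply Finset.eq_univ_of_card
    rw [Finset.card_pair zero_ne_one, hF]
  have hc : c ∈ ({0, 1} : Finset F) := h ▸ Finset.mem_univ c
  simpa using hc

/-- **MI2-BRCNT**. -/
theorem card_nonsing_quadFormPlus (hF : Fintype.card F = 2) (m : ℕ) (hm : 1 ≤ m) :
    Nat.card {x : Fin m ⊕ Fin m → F // Cfsg.quadFormPlus m F x ≠ 0} = Nmin m := by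
  classical
  have h01 : ∀ c : F, c ≠ 0 ↔ c = 1 := by
    intro c
    rcases eq_zero_or_one_of_card hF c with h | h
    · subst h; simp
    · subst h; simp
  have h := Cfsg.Agent.Lib.Helper5_QuadCount.card_pairs (F := F) m 1
  rw [if_neg one_ne_zero, zero_add, hF] at h
  unfold Nmin
  rw [mul_comm, ← h]
  refine Nat.card_congr (Equiv.subtypeEquiv (Equiv.sumArrowEquivProdArrow (Fin m) (Fin m) F) ?_)
  intro w
  rw [h01]
  rfl

end Cfsg.Agent.Lib.Helper43_MI2_BRCNT
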