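import Mathlib
import Cfsg.Agent.Lib.Helper22_MI2Defs
import Cfsg.Agent.Lib.Helper14_POmegaSimple
import Cfsg.Agent.Lib.Helper43_MI2_BRCNT
import Cfsg.Agent.Lib.Helper10_MI2_BRSET0

/-!
# MI2-BRSET (S2146, architect helper22; author helper10)

The standard form `qfPlus m F` over the field with two elements is a plus setting.
-/

set_option autoImplicit false

namespace Cfsg.Agent.Lib.Helper10_MI2_BRSET

open Module Cfsg.Agent.Lib.Helper14_OmegaSimple Cfsg.Agent.Lib.Helper22_MI2Defs
  Cfsg.Agent.Lib.Helper44_StdForms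

variable {F : Type*} [Field F] [Fintype F]

theorem plusSetting_qfPlus (hF : Fintype.card F = 2) (m : ℕ) (hm : 1 ≤ m) :
    PlusSetting (qfPlus m F) m :=
  Cfsg.Agent.Lib.Helper10_MI2_BRSET0.plusSetting_of_count hF m
    (Cfsg.Agent.Lib.Helper43_MI2_BRCNT.card_nonsing_quadFormPlus hF m hm)

end Cfsg.Agent.Lib.Helper10_MI2_BRSET
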