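import Mathlib
import Cfsg.Agent.Lib.Helper14_OmegaSimple
import Cfsg.Agent.Lib.Helper22_MI2Defs

set_option autoImplicit false

/-!
Shared definitions for S2144 (minimal index of a proper subgroup of `Ω_{2m+1}(3)`, `m ≥ 3`, is
`3^m (3^m - 1) / 2`), architect helper44.  Abstract setting of `Helper14_OmegaSimple`
(`Q : QuadraticForm F V`, `E Q u z` the Eichler-Siegel transformation, `T Q` the group generated by the
long root elements), reusing helper22's `subOrbit`, `resQ`, `perp2`, `IsExt`, `Kstab`, `AllSmall`,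
`IsOrbit` from `Helper22_MI2Defs`.
-/

namespace Cfsg.Agent.Lib.Helper44_MI3Defs

open Module Cfsg.Agent.Lib.Helper14_OmegaSimple Cfsg.Agent.Lib.Helper22_MI2Defs

variable {F V : Type*} [Field F] [AddCommGroup V] [Module F V]

/-- `Nmin3 k = 3^k (3^k - 1) / 2`: the number of minus points (`Q = -1` up to sign) of the quadratic
space `x₀² + Σ xᵢ yᵢ` of dimension `2k + 1` over the field with three elements. -/
def Nmin3 (k : ℕ) : ℕ := 3 ^ k * (3 ^ k - 1) / 2

/-- A quadratic space of dimension `2k + 1` over the field with three elements, with non-degenerate polar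
form, normalised (by the number of vectors with `Q = -1`) so that `Q = -1` is the small class. -/
structure OddSetting (Q : QuadraticForm F V) (k : ℕ) : Prop where
  f3 : ∀ c : F, c = 0 ∨ c = 1 ∨ c = -1
  two_ne : (2 : F) ≠ 0
  nondeg : (QuadraticMap.polarBilin Q).Nondegenerate
  dim : finrank F V = 2 * k + 1
  nsing : Nat.card {x : V // Q x = 0} = 3 ^ (2 * k)
  nminus : Nat.card {x : V // Q x = -1} = 3 ^ k * (3 ^ k - 1)

section action

variable {X : Type*} [MulAction (V ≃ₗ[F] V) X]

/-- Alternative (B): for every nonzero singular `v` and every point `ω ∈ Ω`, either all `E(v,w)` fix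
`ω`, or only the trivial ones (`w ∈ span v`) do. -/
def FixOrReg3 (Q : QuadraticForm F V) (Ω : Set X) : Prop :=
  ∀ v : V, v ≠ 0 → Q v = 0 → ∀ ω ∈ Ω,
    (∀ w : V, QuadraticMap.polar (⇑Q) v w = 0 → E Q v w • ω = ω) ∨
    (∀ w : V, QuadraticMap.polar (⇑Q) v w = 0 → E Q v w • ω = ω → w ∈ Submodule.span F {v})

end action

end Cfsg.Agent.Lib.Helper44_MI3Defs
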