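import Mathlib
import Cfsg.Agent.Lib.Helper44_MI3Defs

set_option autoImplicit false
set_option linter.unusedVariables false
set_option linter.unusedSectionVars false
set_option linter.unusedSimpArgs false

/-!
# S2144 (MI3, architect helper44), package MI3-TS:
images of a totally singular subspace `C ∋ lam` of dimension `≥ 2` under the stabiliser of `lam`
(quadratic space of dimension `2k + 1` over the field with three elements): `finrank C ≤ k`, at least
four members of the `T Q`-orbit of `C` pass through `lam`, and at least five when `k ≥ 3`.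
In fact at least `|F|^(k-1) + 1` members pass through `lam` (`through_lower_bound`).
-/

namespace Cfsg.Agent.Lib.Helper71_MI3_TS

open Module Cfsg.Agent.Lib.Helper14_OmegaSimple Cfsg.Agent.Lib.Helper22_MI2Defs
  Cfsg.Agent.Lib.Helper44_MI3Defs Cfsg.Agent.Lib.Helper44_QuadClass Cfsg.Agent.Lib.Helper14_Siegel

variable {F V : Type*} [Field F] [AddCommGroup V] [Module F V]

/-- a totally singular subspace is totally isotropic. -/
theorem polar_zero_of_ts (Q : QuadraticForm F V) (C : Submodule F V) (hts : ∀ x ∈ C, Q x = 0)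
    {x y : V} (hx : x ∈ C) (hy : y ∈ C) : QuadraticMap.polar (⇑Q) x y = 0 := by
  rw [QuadraticMap.polar, hts _ (C.add_mem hx hy), hts x hx, hts y hy]
  simp

theorem two_mul_finrank_le_of_ts [FiniteDimensional F V] (Q : QuadraticForm F V)
    (hnd : (QuadraticMap.polarBilin Q).Nondegenerate) (C : Submodule F V)
    (hts : ∀ x ∈ C, Q x = 0) : 2 * finrank F C ≤ finrank F V := by
  have hle : C ≤ LinearMap.BilinForm.orthogonal (QuadraticMap.polarBilin Q) C := by
    intro x hx
    rw [LinearMap.BilinForm.mem_orthogonal_iff]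
    intro n hn
    show QuadraticMap.polarBilin Q n x = 0
    rw [QuadraticMap.polarBilin_apply_apply]
    exact polar_zero_of_ts Q C hts hn hx
  have h1 := Submodule.finrank_mono hle
  rw [LinearMap.BilinForm.finrank_orthogonal hnd] at h1
  have h2 := Submodule.finrank_le C
  omega

theorem polar_self_zero (Q : QuadraticForm F V) {x : V} (hx : Q x = 0) :
    QuadraticMap.polar (⇑Q) x x = 0 := by
  rw [polar_self', hx, mul_zero]

/-- The common orthogonal complement of three vectors (as a kernel). -/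
def perp3 (Q : QuadraticForm F V) (a l c : V) : Submodule F V :=
  LinearMap.ker (((QuadraticMap.polarBilin Q a).prod (QuadraticMap.polarBilin Q l)).prod
    (QuadraticMap.polarBilin Q c))

theorem mem_perp3 (Q : QuadraticForm F V) (a l c : V) {w : V} :
    w ∈ perp3 Q a l c ↔ QuadraticMap.polar (⇑Q) a w = 0 ∧ QuadraticMap.polar (⇑Q) l w = 0 ∧
      QuadraticMap.polar (⇑Q) c w = 0 := by
  simp [perp3, LinearMap.mem_ker, and_assoc]

theorem finrank_le_perp3 [FiniteDimensional F V] (Q : QuadraticForm F V) (a l c : V) :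
    finrank F V ≤ finrank F (perp3 Q a l c) + 3 := by
  set φ := ((QuadraticMap.polarBilin Q a).prod (QuadraticMap.polarBilin Q l)).prod
    (QuadraticMap.polarBilin Q c) with hφ
  have h1 := LinearMap.finrank_range_add_finrank_ker φ
  have h2 : finrank F (LinearMap.range φ) ≤ 3 := by
    have := Submodule.finrank_le (LinearMap.range φ)
    rw [Module.finrank_prod, Module.finrank_prod, Module.finrank_self] at this
    exact this
  have : perp3 Q a l c = LinearMap.ker φ := rfl
  rw [this]
  omega

theorem three_le_card [Finite F] (h2 : (2 : F) ≠ 0) : 3 ≤ Nat.card F := by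
  have : Fintype F := Fintype.ofFinite F
  rw [Nat.card_eq_fintype_card]
  have h1 : 1 < Fintype.card F := Fintype.one_lt_card
  by_contra hcon
  have h2' : Fintype.card F = 2 := by omega
  have h3 := Nat.cast_card_eq_zero F
  rw [h2'] at h3
  exact h2 (by exact_mod_cast h3)

instance finite_submodule' [Finite F] [FiniteDimensional F V] : Finite (Submodule F V) := by
  have : Finite V := Module.finite_of_finite F
  exact Finite.of_injective (fun S : Submodule F V => (S : Set V)) SetLike.coe_injective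

section config

variable (Q : QuadraticForm F V) (C : Submodule F V) (hts : ∀ x ∈ C, Q x = 0)
  {lam a c : V} (ha : Q a = 0) (hcC : c ∈ C) (hac : QuadraticMap.polar (⇑Q) a c = 1)

include hts ha hcC hac

theorem E_fix_left {b : V} (hab : QuadraticMap.polar (⇑Q) a b = 0) : E Q a b a = a := by
  rw [E_apply Q ha hab, polar_self_zero Q ha, hab]
  simp

theorem E_apply_c {b : V} (hab : QuadraticMap.polar (⇑Q) a b = 0)
    (hcb : QuadraticMap.polar (⇑Q) c b = 0) : E Q a b c = c + b - Q b • a := by
  have hca : QuadraticMap.polar (⇑Q) c a = 1 := by rw [QuadraticMap.polar_comm, hac]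
  rw [E_apply Q ha hab, hca, hcb]
  simp

theorem a_notMem : a ∉ C := by
  intro h
  have := polar_zero_of_ts Q C hts h hcC
  rw [hac] at this
  exact one_ne_zero this

theorem a_notMem_map {b : V} (hab : QuadraticMap.polar (⇑Q) a b = 0) :
    a ∉ C.map ((E Q a b : V ≃ₗ[F] V) : V →ₗ[F] V) := by
  intro h
  obtain ⟨x, hxC, hx⟩ := Submodule.mem_map.mp h
  have h1 : E Q a b a = a := E_fix_left Q C hts ha hcC hac hab
  have hx' : E Q a b x = E Q a b a := by
    rw [h1]
    simpa using hx
  have hxa : x = a := (E Q a b).injective hx'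
  rw [hxa] at hxC
  exact a_notMem Q C hts ha hcC hac hxC

/-- KEY: equal images force the difference of the parameters into `C`. -/
theorem sub_mem_of_map_eq {b b' : V} (hab : QuadraticMap.polar (⇑Q) a b = 0)
    (hab' : QuadraticMap.polar (⇑Q) a b' = 0) (hcb : QuadraticMap.polar (⇑Q) c b = 0)
    (hcb' : QuadraticMap.polar (⇑Q) c b' = 0)
    (h : C.map ((E Q a b : V ≃ₗ[F] V) : V →ₗ[F] V) = C.map ((E Q a b' : V ≃ₗ[F] V) : V →ₗ[F] V)) :
    b - b' ∈ C := by
  have h1 : E Q a b c ∈ C.map ((E Q a b' : V ≃ₗ[F] V) : V →ₗ[F] V) := by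
    rw [← h]
    exact Submodule.mem_map_of_mem hcC
  obtain ⟨x, hxC, hx⟩ := Submodule.mem_map.mp h1
  have hx' : E Q a b' x = E Q a b c := by simpa using hx
  have habn : QuadraticMap.polar (⇑Q) a (-b') = 0 := by
    rw [QuadraticMap.polar_neg_right, hab', neg_zero]
  have hae : QuadraticMap.polar (⇑Q) a (b - b') = 0 := by
    rw [QuadraticMap.polar_sub_right, hab, hab', sub_zero]
  have hce : QuadraticMap.polar (⇑Q) c (b - b') = 0 := by
    rw [QuadraticMap.polar_sub_right, hcb, hcb', sub_zero]
  have e1 : E Q a (b - b') = (E Q a b')⁻¹ * E Q a b := by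
    rw [E_inv Q ha hab', E_mul Q ha habn hab]
    congr 1
    abel
  have hx2 : x = E Q a (b - b') c := by
    have e2 : (E Q a b')⁻¹ (E Q a b' x) = x := by
      rw [← LinearEquiv.mul_apply, inv_mul_cancel]
      rfl
    rw [e1, LinearEquiv.mul_apply, ← hx', e2]
  rw [E_apply_c Q C hts ha hcC hac hae hce] at hx2
  -- pairing with `c`
  have hxc : QuadraticMap.polar (⇑Q) x c = 0 := polar_zero_of_ts Q C hts hxC hcC
  have hQe : Q (b - b') = 0 := by
    rw [hx2, QuadraticMap.polar_sub_left, QuadraticMap.polar_add_left,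
      QuadraticMap.polar_smul_left, polar_self_zero Q (hts c hcC),
      QuadraticMap.polar_comm (⇑Q) (b - b') c, hce, hac] at hxc
    simpa using hxc
  rw [hQe, zero_smul, sub_zero] at hx2
  have : b - b' = x - c := by rw [hx2]; abel
  rw [this]
  exact C.sub_mem hxC hcC

end config

/-- Main count: at least `|F|^(k-1) + 1` members of the orbit of `C` pass through `lam`. -/
theorem through_lower_bound [Finite F] [FiniteDimensional F V] (Q : QuadraticForm F V) {k : ℕ}
    (hS : OddSetting Q k) (hk : 2 ≤ k) {lam : V} (hlam : lam ≠ 0) (C : Submodule F V)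
    (hlC : lam ∈ C) (hts : ∀ x ∈ C, Q x = 0) (hd : 2 ≤ finrank F C) :
    Nat.card F ^ (k - 1) + 1 ≤ {C' | C' ∈ subOrbit Q C ∧ lam ∈ C'}.ncard := by
  classical
  have hnd := hS.nondeg
  have hdimV := hS.dim
  have hdim5 : 5 ≤ finrank F V := by omega
  have hCk : finrank F C ≤ k := by
    have := two_mul_finrank_le_of_ts Q hnd C hts
    omega
  have hQlam : Q lam = 0 := hts lam hlC
  -- the vector `c`
  obtain ⟨c, hcC, hcl⟩ : ∃ c ∈ C, c ∉ Submodule.span F {lam} := by
    by_contra hcon
    push Not at hcon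
    have hle : C ≤ Submodule.span F {lam} := fun x hx => hcon x hx
    have := Submodule.finrank_mono hle
    rw [finrank_span_singleton hlam] at this
    omega
  have hQc : Q c = 0 := hts c hcC
  have hlc : QuadraticMap.polar (⇑Q) lam c = 0 := polar_zero_of_ts Q C hts hlC hcC
  obtain ⟨a, ha, hla, hac⟩ := exists_singular_orth_polar Q hnd hdim5 hlam hQlam hlc hcl 1
  have hca : QuadraticMap.polar (⇑Q) c a = 1 := by rw [QuadraticMap.polar_comm, hac]
  obtain ⟨X, hX⟩ : ∃ X : Submodule F V, X = perp3 Q a lam c := ⟨_, rfl⟩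
  have hmemX : ∀ {w : V}, w ∈ X ↔ QuadraticMap.polar (⇑Q) a w = 0 ∧
      QuadraticMap.polar (⇑Q) lam w = 0 ∧ QuadraticMap.polar (⇑Q) c w = 0 := by
    intro w
    rw [hX]
    exact mem_perp3 Q a lam c
  have hXdim : 2 * k ≤ finrank F X + 2 := by
    have := finrank_le_perp3 Q a lam c
    rw [← hX] at this
    omega
  have hcX : c ∉ X := by
    intro h
    have := (hmemX.mp h).1
    rw [hac] at this
    exact one_ne_zero this
  -- a nonsingular vector in `X`
  obtain ⟨b, hbX, hQb⟩ : ∃ b ∈ X, Q b ≠ 0 := by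
    by_contra hcon
    push Not at hcon
    set U : Submodule F V := X ⊔ Submodule.span F {c} with hU
    have hUts : ∀ x ∈ U, Q x = 0 := by
      intro x hx
      obtain ⟨y, hy, z, hz, rfl⟩ := Submodule.mem_sup.mp hx
      obtain ⟨t, rfl⟩ := Submodule.mem_span_singleton.mp hz
      have hcy := (hmemX.mp hy).2.2
      have : Q (y + t • c) = Q y + Q (t • c) + QuadraticMap.polar (⇑Q) y (t • c) := by
        rw [QuadraticMap.polar]; ring
      rw [this, hcon y hy, QuadraticMap.map_smul, hQc, QuadraticMap.polar_smul_right,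
        QuadraticMap.polar_comm, hcy]
      simp
    have hlt : X < U := by
      refine lt_of_le_of_ne le_sup_left ?_
      intro h
      apply hcX
      rw [h]
      exact Submodule.mem_sup_right (Submodule.mem_span_singleton_self c)
    have h1 := Submodule.finrank_lt_finrank_of_lt hlt
    have h2 := two_mul_finrank_le_of_ts Q hnd U hUts
    omega
  have hab : QuadraticMap.polar (⇑Q) a b = 0 := (hmemX.mp hbX).1
  have hlb : QuadraticMap.polar (⇑Q) lam b = 0 := (hmemX.mp hbX).2.1
  have hcb : QuadraticMap.polar (⇑Q) c b = 0 := (hmemX.mp hbX).2.2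
  have hqq : Q b * Q b = 1 := by
    rcases hS.f3 (Q b) with h | h | h
    · exact absurd h hQb
    · rw [h]; ring
    · rw [h]; ring
  -- the set `Y`
  set Y : Set (Submodule F V) := {C' | C' ∈ subOrbit Q C ∧ lam ∈ C'} with hY
  -- members `C.map (E a x)`, `x ∈ X`
  have hmemY : ∀ x ∈ X, C.map ((E Q a x : V ≃ₗ[F] V) : V →ₗ[F] V) ∈ Y := by
    intro x hx
    obtain ⟨hax, hlx, hcx⟩ := hmemX.mp hx
    refine ⟨⟨E Q a x, E_mem_T Q hnd hdim5 ha hax, rfl⟩, ?_⟩
    rw [Submodule.mem_map]
    refine ⟨lam, hlC, ?_⟩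
    show E Q a x lam = lam
    rw [E_apply Q ha hax, hla, hlx]
    simp
  -- the fourth kind of member: contains `a`
  set z : V := Q b • b with hz
  have hcz : QuadraticMap.polar (⇑Q) c z = 0 := by
    rw [hz, QuadraticMap.polar_smul_right, hcb, smul_zero]
  have hlz : QuadraticMap.polar (⇑Q) lam z = 0 := by
    rw [hz, QuadraticMap.polar_smul_right, hlb, smul_zero]
  have hQz : Q z = Q b := by
    rw [hz, QuadraticMap.map_smul, smul_eq_mul, hqq, one_mul]
  set g : V ≃ₗ[F] V := E Q c z * E Q a b with hg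
  have hgT : g ∈ T Q :=
    Subgroup.mul_mem _ (E_mem_T Q hnd hdim5 hQc hcz) (E_mem_T Q hnd hdim5 ha hab)
  have hglam : g lam = lam := by
    rw [hg, LinearEquiv.mul_apply, E_apply Q ha hab, hla, hlb]
    simp only [zero_smul, add_zero, sub_zero, mul_zero]
    rw [E_apply Q hQc hcz, hlc, hlz]
    simp
  have hgc : g c = -(Q b) • a := by
    rw [hg, LinearEquiv.mul_apply, E_apply_c Q C hts ha hcC hac hab hcb, E_apply Q hQc hcz]
    have hbb : QuadraticMap.polar (⇑Q) b b = 2 * Q b := polar_self' Q b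
    have hbc : QuadraticMap.polar (⇑Q) b c = 0 := by rw [QuadraticMap.polar_comm, hcb]
    have hba : QuadraticMap.polar (⇑Q) a b = 0 := hab
    have p1 : QuadraticMap.polar (⇑Q) (c + b - Q b • a) c = -(Q b) := by
      rw [QuadraticMap.polar_sub_left, QuadraticMap.polar_add_left, QuadraticMap.polar_smul_left,
        polar_self_zero Q hQc, hbc, hac]
      simp
    have p2 : QuadraticMap.polar (⇑Q) (c + b - Q b • a) z = 2 := by
      rw [hz, QuadraticMap.polar_smul_right, QuadraticMap.polar_sub_left,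
        QuadraticMap.polar_add_left, QuadraticMap.polar_smul_left, hcb, hbb, hba]
      simp only [smul_eq_mul, zero_add, mul_zero, sub_zero]
      linear_combination 2 * hqq
    rw [p1, p2, hQz, hz]
    linear_combination (norm := module) (hqq • c) - (hqq • b)
  have hWY : C.map ((g : V ≃ₗ[F] V) : V →ₗ[F] V) ∈ Y := by
    refine ⟨⟨g, hgT, rfl⟩, ?_⟩
    rw [Submodule.mem_map]
    exact ⟨lam, hlC, hglam⟩
  have haW : a ∈ C.map ((g : V ≃ₗ[F] V) : V →ₗ[F] V) := by
    rw [Submodule.mem_map]
    refine ⟨(-(Q b)) • c, C.smul_mem _ hcC, ?_⟩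
    show g ((-(Q b)) • c) = a
    rw [map_smul, hgc, smul_smul]
    have : -(Q b) * -(Q b) = 1 := by rw [neg_mul_neg, hqq]
    rw [this, one_smul]
  -- the quotient count
  set S' : Submodule F ↥X := Submodule.comap X.subtype C with hS'
  let φ : (↥X ⧸ S') → Submodule F V := fun q =>
    C.map ((E Q a ((Quotient.out q : ↥X) : V) : V ≃ₗ[F] V) : V →ₗ[F] V)
  have hφinj : Function.Injective φ := by
    intro q q' hqq'
    have hx := (Quotient.out q : ↥X).2
    have hx' := (Quotient.out q' : ↥X).2
    obtain ⟨hax, hlx, hcx⟩ := hmemX.mp hx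
    obtain ⟨hax', hlx', hcx'⟩ := hmemX.mp hx'
    have hmem := sub_mem_of_map_eq Q C hts ha hcC hac hax hax' hcx hcx' hqq'
    have h1 : Quotient.out q - Quotient.out q' ∈ S' := by
      show X.subtype (Quotient.out q - Quotient.out q') ∈ C
      simpa using hmem
    have h2 := (Submodule.Quotient.eq S').mpr h1
    rw [Submodule.Quotient.mk_out, Submodule.Quotient.mk_out] at h2
    exact h2
  have hZsub : insert (C.map ((g : V ≃ₗ[F] V) : V →ₗ[F] V)) (Set.range φ) ⊆ Y := by
    intro y hy
    rcases hy with rfl | ⟨q, rfl⟩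
    · exact hWY
    · exact hmemY _ (Quotient.out q : ↥X).2
  have hWZ : C.map ((g : V ≃ₗ[F] V) : V →ₗ[F] V) ∉ Set.range φ := by
    rintro ⟨q, hq⟩
    have hx := (Quotient.out q : ↥X).2
    obtain ⟨hax, hlx, hcx⟩ := hmemX.mp hx
    have := a_notMem_map Q C hts ha hcC hac hax
    apply this
    show a ∈ φ q
    rw [hq]
    exact haW
  have hcardZ : (insert (C.map ((g : V ≃ₗ[F] V) : V →ₗ[F] V)) (Set.range φ)).ncard =
      Nat.card (↥X ⧸ S') + 1 := by
    rw [Set.ncard_insert_of_notMem hWZ (Set.toFinite _), Set.ncard_range_of_injective hφinj]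
  have hle := Set.ncard_le_ncard hZsub (Set.toFinite _)
  rw [hcardZ] at hle
  -- the size of the quotient
  have hq1 := Submodule.finrank_quotient_add_finrank S'
  have hq2 : finrank F ↥S' = finrank F ↥(X ⊓ C) := by
    rw [← Submodule.finrank_map_subtype_eq X S', hS', Submodule.map_comap_subtype]
  have hq3 : finrank F ↥(X ⊓ C) < finrank F ↥C := by
    apply Submodule.finrank_lt_finrank_of_lt
    refine lt_of_le_of_ne inf_le_right ?_
    intro h
    apply hcX
    have : c ∈ X ⊓ C := by rw [h]; exact hcC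
    exact this.1
  have hq4 : k - 1 ≤ finrank F (↥X ⧸ S') := by omega
  have hcardq : Nat.card (↥X ⧸ S') = Nat.card F ^ finrank F (↥X ⧸ S') :=
    Module.natCard_eq_pow_finrank
  have hFpos : 0 < Nat.card F := Nat.card_pos
  have := Nat.pow_le_pow_right hFpos hq4
  omega

theorem ts_images [Finite F] [FiniteDimensional F V] (Q : QuadraticForm F V) {k : ℕ}
    (hS : OddSetting Q k) (hk : 2 ≤ k) {lam : V} (hlam : lam ≠ 0) (C : Submodule F V)
    (hlC : lam ∈ C) (hts : ∀ x ∈ C, Q x = 0) (hd : 2 ≤ finrank F C) :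
    finrank F C ≤ k ∧ 4 ≤ {C' | C' ∈ subOrbit Q C ∧ lam ∈ C'}.ncard ∧
      (3 ≤ k → 5 ≤ {C' | C' ∈ subOrbit Q C ∧ lam ∈ C'}.ncard) := by
  have hmain := through_lower_bound Q hS hk hlam C hlC hts hd
  have hF3 := three_le_card (F := F) hS.two_ne
  have hCk : finrank F C ≤ k := by
    have := two_mul_finrank_le_of_ts Q hS.nondeg C hts
    have := hS.dim
    omega
  refine ⟨hCk, ?_, ?_⟩
  · have h1 : 3 ^ (k - 1) ≤ Nat.card F ^ (k - 1) := Nat.pow_le_pow_left hF3 _
    have h2 : 3 ^ 1 ≤ 3 ^ (k - 1) := Nat.pow_le_pow_right (by norm_num) (by omega)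
    omega
  · intro hk3
    have h1 : 3 ^ (k - 1) ≤ Nat.card F ^ (k - 1) := Nat.pow_le_pow_left hF3 _
    have h2 : 3 ^ 2 ≤ 3 ^ (k - 1) := Nat.pow_le_pow_right (by norm_num) (by omega)
    omega

end Cfsg.Agent.Lib.Helper71_MI3_TS
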