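import Mathlib
import Cfsg.Agent.Lib.Helper44_QuadClass

set_option autoImplicit false

/-!
Similarities of quadratic forms built from bases; binary anisotropic forms over finite fields are universal
(helper44).
-/

namespace Cfsg.Agent.Lib.Helper44_Simil

open Module Cfsg.Agent.Lib.Helper44_QuadClass

variable {F : Type*} [Field F] {V : Type*} [AddCommGroup V] [Module F V]

/-- Two quadratic forms agreeing on a basis, with polar forms agreeing on pairs of basis vectors, are equal. -/
theorem quadraticForm_ext_basis {κ : Type*} [Fintype κ] (b : Basis κ F V) (Q₁ Q₂ : QuadraticForm F V)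
    (h1 : ∀ k, Q₁ (b k) = Q₂ (b k))
    (h2 : ∀ k l, QuadraticMap.polar (⇑Q₁) (b k) (b l) = QuadraticMap.polar (⇑Q₂) (b k) (b l)) :
    Q₁ = Q₂ := by
  have hpol : QuadraticMap.polarBilin Q₁ = QuadraticMap.polarBilin Q₂ := by
    apply LinearMap.BilinForm.ext_basis b
    intro k l
    simp only [QuadraticMap.polarBilin_apply_apply]
    exact h2 k l
  have hadd : ∀ x y, Q₁ (x + y) - Q₂ (x + y) = (Q₁ x - Q₂ x) + (Q₁ y - Q₂ y) := by
    intro x y
    have h3 : QuadraticMap.polar (⇑Q₁) x y = QuadraticMap.polar (⇑Q₂) x y := by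
      rw [← QuadraticMap.polarBilin_apply_apply, ← QuadraticMap.polarBilin_apply_apply, hpol]
    simp only [QuadraticMap.polar] at h3
    linear_combination h3
  let d : V →+ F := AddMonoidHom.mk' (fun x => Q₁ x - Q₂ x) hadd
  have hd : ∀ x, d x = Q₁ x - Q₂ x := fun _ => rfl
  apply QuadraticMap.ext
  intro v
  have hv : d v = 0 := by
    rw [← b.sum_repr v, map_sum]
    apply Finset.sum_eq_zero
    intro k _
    rw [hd, QuadraticMap.map_smul, QuadraticMap.map_smul, h1]
    simp
  rw [hd] at hv
  exact sub_eq_zero.mp hv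

/-- A similarity with multiplier `c ≠ 0` from prescribed images of a basis. -/
theorem similarity_of_basis [FiniteDimensional F V] {κ : Type*} [Fintype κ] (b : Basis κ F V)
    (Q : QuadraticForm F V) (hQ : (QuadraticMap.polarBilin Q).Nondegenerate) {c : F} (hc : c ≠ 0)
    (img : κ → V) (h1 : ∀ k, Q (img k) = c * Q (b k))
    (h2 : ∀ k l, QuadraticMap.polar (⇑Q) (img k) (img l) = c * QuadraticMap.polar (⇑Q) (b k) (b l)) :
    ∃ g : V ≃ₗ[F] V, ∀ v, Q (g v) = c * Q v := by
  set g₀ : V →ₗ[F] V := b.constr F img with hg₀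
  have hgb : ∀ k, g₀ (b k) = img k := fun k => by rw [hg₀, Basis.constr_basis]
  have heq : Q.comp g₀ = c • Q := by
    apply quadraticForm_ext_basis b
    · intro k
      simp only [QuadraticMap.comp_apply, smul_apply, smul_eq_mul, hgb]
      exact h1 k
    · intro k l
      have e1 : QuadraticMap.polar (⇑(Q.comp g₀)) (b k) (b l)
          = QuadraticMap.polar (⇑Q) (g₀ (b k)) (g₀ (b l)) := by
        simp [QuadraticMap.polar]
      have e2 : QuadraticMap.polar (⇑(c • Q)) (b k) (b l) = c * QuadraticMap.polar (⇑Q) (b k) (b l) := by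
        simp [QuadraticMap.polar]; ring
      rw [e1, e2, hgb, hgb]
      exact h2 k l
  have hval : ∀ v, Q (g₀ v) = c * Q v := by
    intro v
    have := congrArg (fun q : QuadraticForm F V => q v) heq
    simpa using this
  have hpolar : ∀ v w, QuadraticMap.polar (⇑Q) (g₀ v) (g₀ w) = c * QuadraticMap.polar (⇑Q) v w := by
    intro v w
    simp only [QuadraticMap.polar]
    rw [← map_add, hval, hval, hval]; ring
  have hinj : Function.Injective g₀ := by
    rw [injective_iff_map_eq_zero]
    intro v hv
    apply hQ.1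
    intro w
    rw [QuadraticMap.polarBilin_apply_apply]
    have := hpolar v w
    rw [hv, QuadraticMap.polar_zero_left] at this
    rcases mul_eq_zero.mp this.symm with h | h
    · exact absurd h hc
    · exact h
  exact ⟨LinearEquiv.ofInjectiveEndo g₀ hinj, fun v => by
    rw [LinearEquiv.coe_ofInjectiveEndo]; exact hval v⟩

/-- Over a finite field, if `t² + t + ζ` has no root then `a² + a b + ζ b²` represents every `c ≠ 0`. -/
theorem binary_universal [Finite F] {ζ : F} (hirr : ∀ t : F, t ^ 2 + t + ζ ≠ 0) (c : F) (hc : c ≠ 0) :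
    ∃ a b : F, a ^ 2 + a * b + ζ * b ^ 2 = c := by
  let Q₃ : QuadraticForm F (Fin 3 → F) :=
    QuadraticMap.proj 0 0 + QuadraticMap.proj 0 1 + ζ • QuadraticMap.proj 1 1
      - c • QuadraticMap.proj 2 2
  have hQ₃ : ∀ v : Fin 3 → F, Q₃ v = v 0 * v 0 + v 0 * v 1 + ζ * (v 1 * v 1) - c * (v 2 * v 2) := by
    intro v
    simp [Q₃]
  obtain ⟨v, hv, hQv⟩ := exists_singular Q₃ (by simp)
  rw [hQ₃] at hQv
  by_cases hu : v 2 = 0
  · exfalso
    rw [hu] at hQv
    by_cases h1 : v 1 = 0
    · rw [h1] at hQv
      have h0 : v 0 = 0 := by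
        have : v 0 * v 0 = 0 := by linear_combination hQv
        exact mul_self_eq_zero.mp this
      apply hv
      funext i
      fin_cases i
      · exact h0
      · exact h1
      · exact hu
    · apply hirr (v 0 / v 1)
      field_simp
      linear_combination hQv
  · refine ⟨v 0 / v 2, v 1 / v 2, ?_⟩
    field_simp
    linear_combination hQv

end Cfsg.Agent.Lib.Helper44_Simil
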