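import Mathlib
import Cfsg.Agent.S0750
import Cfsg.Agent.Lib.Helper44_Simil

set_option autoImplicit false

/-!
Isometry of quadratic spaces: isometries from bases, Witt cancellation, totally singular subspaces
of half the dimension (helper40).
-/

namespace Cfsg.Agent.Lib.Helper40_QuadIso

open Module Cfsg.Agent.Lib.Helper44_Simil

variable {F : Type*} [Field F]

section iso

variable {V V' V'' : Type*} [AddCommGroup V] [Module F V] [AddCommGroup V'] [Module F V']
  [AddCommGroup V''] [Module F V'']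

/-- isometric quadratic spaces -/
def Iso (Q : QuadraticForm F V) (Q' : QuadraticForm F V') : Prop :=
  ∃ φ : V ≃ₗ[F] V', ∀ v, Q' (φ v) = Q v

theorem Iso.refl (Q : QuadraticForm F V) : Iso Q Q := ⟨LinearEquiv.refl F V, fun _ => rfl⟩

theorem Iso.symm {Q : QuadraticForm F V} {Q' : QuadraticForm F V'} (h : Iso Q Q') : Iso Q' Q := by
  obtain ⟨φ, hφ⟩ := h
  refine ⟨φ.symm, fun v => ?_⟩
  rw [← hφ, φ.apply_symm_apply]

theorem Iso.trans {Q : QuadraticForm F V} {Q' : QuadraticForm F V'} {Q'' : QuadraticForm F V''}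
    (h : Iso Q Q') (h' : Iso Q' Q'') : Iso Q Q'' := by
  obtain ⟨φ, hφ⟩ := h
  obtain ⟨ψ, hψ⟩ := h'
  refine ⟨φ.trans ψ, fun v => ?_⟩
  rw [LinearEquiv.trans_apply, hψ, hφ]

theorem Iso.finrank_eq {Q : QuadraticForm F V} {Q' : QuadraticForm F V'} (h : Iso Q Q') :
    finrank F V = finrank F V' := by
  obtain ⟨φ, _⟩ := h
  exact φ.finrank_eq

theorem polar_of_iso {Q : QuadraticForm F V} {Q' : QuadraticForm F V'} (φ : V →ₗ[F] V')
    (hφ : ∀ v, Q' (φ v) = Q v) (x y : V) :
    QuadraticMap.polar (⇑Q') (φ x) (φ y) = QuadraticMap.polar (⇑Q) x y := by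
  simp only [QuadraticMap.polar]
  rw [← map_add, hφ, hφ, hφ]

/-- an isometry from prescribed images of a basis -/
theorem iso_of_basis [FiniteDimensional F V] [FiniteDimensional F V'] {κ : Type*} [Fintype κ]
    (b : Basis κ F V) (Q : QuadraticForm F V) (Q' : QuadraticForm F V')
    (hQ : (QuadraticMap.polarBilin Q).Nondegenerate) (hdim : finrank F V = finrank F V')
    (img : κ → V') (h1 : ∀ k, Q' (img k) = Q (b k))
    (h2 : ∀ k l, QuadraticMap.polar (⇑Q') (img k) (img l) = QuadraticMap.polar (⇑Q) (b k) (b l)) :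
    Iso Q Q' := by
  set g₀ : V →ₗ[F] V' := b.constr F img with hg₀
  have hgb : ∀ k, g₀ (b k) = img k := fun k => by rw [hg₀, Basis.constr_basis]
  have heq : Q'.comp g₀ = Q := by
    apply quadraticForm_ext_basis b
    · intro k
      rw [QuadraticMap.comp_apply, hgb]
      exact h1 k
    · intro k l
      have e1 : QuadraticMap.polar (⇑(Q'.comp g₀)) (b k) (b l)
          = QuadraticMap.polar (⇑Q') (g₀ (b k)) (g₀ (b l)) := by
        simp [QuadraticMap.polar]
      rw [e1, hgb, hgb]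
      exact h2 k l
  have hval : ∀ v, Q' (g₀ v) = Q v := by
    intro v
    have := congrArg (fun q : QuadraticForm F V => q v) heq
    simpa using this
  have hinj : Function.Injective g₀ := by
    rw [injective_iff_map_eq_zero]
    intro v hv
    apply hQ.1
    intro w
    rw [QuadraticMap.polarBilin_apply_apply, ← polar_of_iso g₀ hval, hv,
      QuadraticMap.polar_zero_left]
  exact ⟨LinearMap.linearEquivOfInjective g₀ hinj hdim, fun v => by
    rw [LinearMap.linearEquivOfInjective_apply]; exact hval v⟩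

end iso

section cancel

variable {W U₁ U₂ : Type*} [AddCommGroup W] [Module F W] [AddCommGroup U₁] [Module F U₁]
  [AddCommGroup U₂] [Module F U₂]

/-- **Witt cancellation** -/
theorem cancel [FiniteDimensional F W] [FiniteDimensional F U₁] [FiniteDimensional F U₂]
    (QW : QuadraticForm F W) (Q₁ : QuadraticForm F U₁) (Q₂ : QuadraticForm F U₂)
    (hW : (QuadraticMap.polarBilin QW).Nondegenerate)
    (h₂ : (QuadraticMap.polarBilin (QW.prod Q₂)).Nondegenerate)
    (h : Iso (QW.prod Q₁) (QW.prod Q₂)) : Iso Q₁ Q₂ := by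
  obtain ⟨ψ, hψ⟩ := h
  -- the two embeddings of `W`
  let ι₁ : W →ₗ[F] W × U₂ := (ψ : W × U₁ →ₗ[F] W × U₂).comp (LinearMap.inl F W U₁)
  have hι₁ : ∀ w, ι₁ w = ψ (w, 0) := fun w => rfl
  have hinj₁ : Function.Injective ι₁ := ψ.injective.comp LinearMap.inl_injective
  let e₁ : W ≃ₗ[F] LinearMap.range ι₁ := LinearEquiv.ofInjective ι₁ hinj₁
  have he₁ : ∀ w, ((e₁ w : LinearMap.range ι₁) : W × U₂) = ψ (w, 0) := fun w => rfl
  let σ : LinearMap.range ι₁ →ₗ[F] W × U₂ :=
    (LinearMap.inl F W U₂).comp (e₁.symm : LinearMap.range ι₁ →ₗ[F] W)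
  have hσinj : Function.Injective σ := LinearMap.inl_injective.comp e₁.symm.injective
  have hσ : ∀ w, σ (e₁ w) = (w, 0) := by
    intro w
    show (LinearMap.inl F W U₂) (e₁.symm (e₁ w)) = (w, 0)
    rw [e₁.symm_apply_apply]
    rfl
  have hσQ : ∀ x : LinearMap.range ι₁, (QW.prod Q₂) (σ x) = (QW.prod Q₂) (x : W × U₂) := by
    intro x
    obtain ⟨w, rfl⟩ := e₁.surjective x
    rw [hσ, he₁, hψ, QuadraticMap.prod_apply, QuadraticMap.prod_apply]
    simp
  obtain ⟨θ, hθ1, hθ2⟩ := Cfsg.Agent.S0750.witt_quad (QW.prod Q₂) h₂ _ (LinearMap.range ι₁) rfl σ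
    hσinj hσQ
  let Ψ : (W × U₁) ≃ₗ[F] (W × U₂) := ψ.trans θ
  have hΨQ : ∀ v, (QW.prod Q₂) (Ψ v) = (QW.prod Q₁) v := by
    intro v
    show (QW.prod Q₂) (θ (ψ v)) = _
    rw [hθ1, hψ]
  have hΨW : ∀ w : W, Ψ (w, 0) = (w, 0) := by
    intro w
    show θ (ψ (w, 0)) = (w, 0)
    rw [← he₁, hθ2, hσ]
  have hΨfst : ∀ u : U₁, (Ψ (0, u)).1 = 0 := by
    intro u
    apply hW.1
    intro w
    rw [QuadraticMap.polarBilin_apply_apply]
    have h3 := polar_of_iso (Ψ : W × U₁ →ₗ[F] W × U₂) hΨQ (0, u) (w, 0)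
    rw [LinearEquiv.coe_coe, hΨW, QuadraticMap.polar_prod, QuadraticMap.polar_prod] at h3
    simpa using h3
  let τ : U₁ →ₗ[F] U₂ := (LinearMap.snd F W U₂).comp
    ((Ψ : W × U₁ →ₗ[F] W × U₂).comp (LinearMap.inr F W U₁))
  have hτ : ∀ u, Ψ (0, u) = (0, τ u) := by
    intro u
    apply Prod.ext
    · exact hΨfst u
    · rfl
  have hτQ : ∀ u, Q₂ (τ u) = Q₁ u := by
    intro u
    have h3 := hΨQ (0, u)
    rw [hτ, QuadraticMap.prod_apply, QuadraticMap.prod_apply] at h3
    simpa using h3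
  have hτinj : Function.Injective τ := by
    rw [injective_iff_map_eq_zero]
    intro u hu
    have h3 : Ψ (0, u) = 0 := by rw [hτ, hu]; rfl
    have h4 := Ψ.injective (h3.trans (map_zero Ψ).symm)
    exact (Prod.ext_iff.1 h4).2
  have hdim : finrank F U₁ = finrank F U₂ := by
    have h3 := ψ.finrank_eq
    rw [Module.finrank_prod, Module.finrank_prod] at h3
    omega
  exact ⟨LinearMap.linearEquivOfInjective τ hτinj hdim, fun u => by
    rw [LinearMap.linearEquivOfInjective_apply]; exact hτQ u⟩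

end cancel

section hyp

variable {V V' : Type*} [AddCommGroup V] [Module F V] [AddCommGroup V'] [Module F V']

/-- there is a totally singular subspace of (at least) half the dimension -/
def IsHyp (Q : QuadraticForm F V) : Prop :=
  ∃ U : Submodule F V, (∀ u ∈ U, Q u = 0) ∧ finrank F V ≤ 2 * finrank F U

theorem IsHyp.of_iso {Q : QuadraticForm F V} {Q' : QuadraticForm F V'} (h : Iso Q Q')
    (hh : IsHyp Q) : IsHyp Q' := by
  obtain ⟨φ, hφ⟩ := h
  obtain ⟨U, hU, hdim⟩ := hh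
  refine ⟨U.map (φ : V →ₗ[F] V'), ?_, ?_⟩
  · rintro _ ⟨u, hu, rfl⟩
    rw [LinearEquiv.coe_coe, hφ]
    exact hU u hu
  · rw [LinearEquiv.finrank_map_eq, ← φ.finrank_eq]
    exact hdim

end hyp

end Cfsg.Agent.Lib.Helper40_QuadIso
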