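import Mathlib
import Cfsg.Agent.Lib.Helper44_MI3Defs
import Cfsg.Agent.Lib.Helper40_QuadIso

set_option autoImplicit false

/-!
Shared definitions for the `q = 3` slice of S2147 (minimal index of a proper subgroup of `Ω⁻_{2m}(3)`,
`m ≥ 4`, is `(3^m + 1) (3^(m-1) - 1) / 2` = number of singular points), architect helper75.
Abstract setting of `Helper14_OmegaSimple` (`Q : QuadraticForm F V`, `E Q u z`, `T Q`), reusing
`subOrbit`, `resQ`, `perp2`, `IsExt`, `Kstab`, `AllSmall`, `IsOrbit` (`Helper22_MI2Defs`), `FixOrReg3`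
(`Helper44_MI3Defs`) and `IsHyp` (`Helper40_QuadIso`: there is a totally singular subspace of at least half
the dimension).
-/

namespace Cfsg.Agent.Lib.Helper75_MI3MDefs

open Module Cfsg.Agent.Lib.Helper14_OmegaSimple Cfsg.Agent.Lib.Helper22_MI2Defs

variable {F V : Type*} [Field F] [AddCommGroup V] [Module F V]

/-- `Nsing3 k = (3^k + 1) (3^(k-1) - 1) / 2`: the number of singular points of a minus-type quadratic space
of dimension `2k` over the field with three elements. -/
def Nsing3 (k : ℕ) : ℕ := (3 ^ k + 1) * (3 ^ (k - 1) - 1) / 2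

/-- A minus-type (= non-hyperbolic) quadratic space of dimension `2k` over the field with three elements,
with non-degenerate polar form. -/
structure MinusSetting3 (Q : QuadraticForm F V) (k : ℕ) : Prop where
  f3 : ∀ c : F, c = 0 ∨ c = 1 ∨ c = -1
  two_ne : (2 : F) ≠ 0
  nondeg : (QuadraticMap.polarBilin Q).Nondegenerate
  dim : finrank F V = 2 * k
  nothyp : ¬ Cfsg.Agent.Lib.Helper40_QuadIso.IsHyp Q

section action

variable {X : Type*} [MulAction (V ≃ₗ[F] V) X]

/-- `U_v = {E(v,w) : w ⟂ v}` acts freely at `ω`: only the trivial elements (`w ∈ span v`) fix `ω`. -/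
def FreeAt (Q : QuadraticForm F V) (v : V) (ω : X) : Prop :=
  ∀ w : V, QuadraticMap.polar (⇑Q) v w = 0 → E Q v w • ω = ω → w ∈ Submodule.span F {v}

end action

end Cfsg.Agent.Lib.Helper75_MI3MDefs
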