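import Mathlib
import Cfsg.Agent.Lib.Helper75_MI3MDefs
import Cfsg.Agent.Lib.Helper71_MI3_TS

set_option autoImplicit false
set_option linter.unusedVariables false
set_option linter.unusedSectionVars false

/-!
# MI3M-TS (architect helper75): at least five members of the `T Q`-orbit of a totally singular
`C ∋ lam` of dimension `≥ 2` pass through `lam` (minus setting, `k ≥ 3`).
Adaptation of `Helper71_MI3_TS.through_lower_bound`.
-/

namespace Cfsg.Agent.Lib.Helper10_MI3M_TS

open Module Cfsg.Agent.Lib.Helper14_OmegaSimple Cfsg.Agent.Lib.Helper22_MI2Defs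
  Cfsg.Agent.Lib.Helper44_MI3Defs Cfsg.Agent.Lib.Helper75_MI3MDefs
  Cfsg.Agent.Lib.Helper44_QuadClass Cfsg.Agent.Lib.Helper14_Siegel Cfsg.Agent.Lib.Helper71_MI3_TS

universe u

variable {F V : Type*} [Field F] [AddCommGroup V] [Module F V]

/-- Witt bound in a minus setting -/
theorem finrank_lt_of_ts [FiniteDimensional F V] (Q : QuadraticForm F V) {k : ℕ}
    (hS : MinusSetting3 Q k) (C : Submodule F V) (hts : ∀ x ∈ C, Q x = 0) : finrank F C < k := by
  by_contra hcon
  push Not at hcon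
  apply hS.nothyp
  refine ⟨C, hts, ?_⟩
  rw [hS.dim]
  omega

/-- Main count: at least `|F|^(k-1)` members of the orbit of `C` pass through `lam`. -/
theorem through_lower_bound_minus [Finite F] [FiniteDimensional F V] (Q : QuadraticForm F V) {k : ℕ}
    (hS : MinusSetting3 Q k) (hk : 3 ≤ k) {lam : V} (hlam : lam ≠ 0) (C : Submodule F V)
    (hlC : lam ∈ C) (hts : ∀ x ∈ C, Q x = 0) (hd : 2 ≤ finrank F C) :
    Nat.card F ^ (k - 1) ≤ {C' | C' ∈ subOrbit Q C ∧ lam ∈ C'}.ncard := by
  classical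
  have hnd := hS.nondeg
  have hdimV := hS.dim
  have hdim5 : 5 ≤ finrank F V := by omega
  have hCk : finrank F C < k := finrank_lt_of_ts Q hS C hts
  have hQlam : Q lam = 0 := hts lam hlC
  -- the vector `c`
  obtain ⟨c, hcC, hcl⟩ : ∃ c ∈ C, c ∉ Submodule.span F {lam} := by
    by_contra hcon
    push Not at hcon
    have hle : C ≤ Submodule.span F {lam} := fun x hx => hcon x hx
    have := Submodule.finrank_mono hle
    rw [finrank_span_singleton hlam] at this
    omega
  have hQc : Q c = 0 := hts c hcC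
  have hlc : QuadraticMap.polar (⇑Q) lam c = 0 := polar_zero_of_ts Q C hts hlC hcC
  obtain ⟨a, ha, hla, hac⟩ := exists_singular_orth_polar Q hnd hdim5 hlam hQlam hlc hcl 1
  obtain ⟨X, hX⟩ : ∃ X : Submodule F V, X = perp3 Q a lam c := ⟨_, rfl⟩
  have hmemX : ∀ {w : V}, w ∈ X ↔ QuadraticMap.polar (⇑Q) a w = 0 ∧
      QuadraticMap.polar (⇑Q) lam w = 0 ∧ QuadraticMap.polar (⇑Q) c w = 0 := by
    intro w
    rw [hX]
    exact mem_perp3 Q a lam c
  have hXdim : 2 * k ≤ finrank F X + 3 := by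
    have := finrank_le_perp3 Q a lam c
    rw [← hX] at this
    omega
  have hcX : c ∉ X := by
    intro h
    have := (hmemX.mp h).1
    rw [hac] at this
    exact one_ne_zero this
  -- the set `Y`
  set Y : Set (Submodule F V) := {C' | C' ∈ subOrbit Q C ∧ lam ∈ C'} with hY
  -- members `C.map (E a x)`, `x ∈ X`
  have hmemY : ∀ x ∈ X, C.map ((E Q a x : V ≃ₗ[F] V) : V →ₗ[F] V) ∈ Y := by
    intro x hx
    obtain ⟨hax, hlx, hcx⟩ := hmemX.mp hx
    refine ⟨⟨E Q a x, E_mem_T Q hnd hdim5 ha hax, rfl⟩, ?_⟩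
    rw [Submodule.mem_map]
    refine ⟨lam, hlC, ?_⟩
    show E Q a x lam = lam
    rw [E_apply Q ha hax, hla, hlx]
    simp
  -- the quotient count
  set S' : Submodule F ↥X := Submodule.comap X.subtype C with hS'
  let φ : (↥X ⧸ S') → Submodule F V := fun q =>
    C.map ((E Q a ((Quotient.out q : ↥X) : V) : V ≃ₗ[F] V) : V →ₗ[F] V)
  have hφinj : Function.Injective φ := by
    intro q q' hqq'
    have hx := (Quotient.out q : ↥X).2
    have hx' := (Quotient.out q' : ↥X).2
    obtain ⟨hax, hlx, hcx⟩ := hmemX.mp hx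
    obtain ⟨hax', hlx', hcx'⟩ := hmemX.mp hx'
    have hmem := sub_mem_of_map_eq Q C hts ha hcC hac hax hax' hcx hcx' hqq'
    have h1 : Quotient.out q - Quotient.out q' ∈ S' := by
      show X.subtype (Quotient.out q - Quotient.out q') ∈ C
      simpa using hmem
    have h2 := (Submodule.Quotient.eq S').mpr h1
    rw [Submodule.Quotient.mk_out, Submodule.Quotient.mk_out] at h2
    exact h2
  have hZsub : Set.range φ ⊆ Y := by
    rintro y ⟨q, rfl⟩
    exact hmemY _ (Quotient.out q : ↥X).2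
  have hle := Set.ncard_le_ncard hZsub (Set.toFinite _)
  rw [Set.ncard_range_of_injective hφinj] at hle
  -- the size of the quotient
  have hq1 := Submodule.finrank_quotient_add_finrank S'
  have hq2 : finrank F ↥S' = finrank F ↥(X ⊓ C) := by
    rw [← Submodule.finrank_map_subtype_eq X S', hS', Submodule.map_comap_subtype]
  have hq3 : finrank F ↥(X ⊓ C) < finrank F ↥C := by
    apply Submodule.finrank_lt_finrank_of_lt
    refine lt_of_le_of_ne inf_le_right ?_
    intro h
    apply hcX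
    have : c ∈ X ⊓ C := by rw [h]; exact hcC
    exact this.1
  have hq4 : k - 1 ≤ finrank F (↥X ⧸ S') := by omega
  have hcardq : Nat.card (↥X ⧸ S') = Nat.card F ^ finrank F (↥X ⧸ S') :=
    Module.natCard_eq_pow_finrank
  have hFpos : 0 < Nat.card F := Nat.card_pos
  have := Nat.pow_le_pow_right hFpos hq4
  omega

theorem ts_images_minus [Finite F] [FiniteDimensional F V] (Q : QuadraticForm F V) {k : ℕ}
    (hS : MinusSetting3 Q k) (hk : 3 ≤ k) {lam : V} (hlam : lam ≠ 0) (C : Submodule F V)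
    (hlC : lam ∈ C) (hts : ∀ x ∈ C, Q x = 0) (hd : 2 ≤ finrank F C) :
    5 ≤ {C' | C' ∈ subOrbit Q C ∧ lam ∈ C'}.ncard := by
  have hmain := through_lower_bound_minus Q hS hk hlam C hlC hts hd
  have hF3 := three_le_card (F := F) hS.two_ne
  have h1 : 3 ^ (k - 1) ≤ Nat.card F ^ (k - 1) := Nat.pow_le_pow_left hF3 _
  have h2 : 3 ^ 2 ≤ 3 ^ (k - 1) := Nat.pow_le_pow_right (by norm_num) (by omega)
  omega

end Cfsg.Agent.Lib.Helper10_MI3M_TS
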