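import Mathlib
import Cfsg.Agent.Lib.Helper14_OmegaSimple

set_option autoImplicit false

/-!
Definitions for the orthogonal minimal-index rows S2143 / S2145 / S2147 (helper38, architect).

`G = T Q` (group generated by the Siegel elements), `v, v'` a hyperbolic pair, `W' = perp Q v v'`,
`A = {E Q v w : w ∈ W'}`.  For a `G`-set `X` the `A`-orbits `O` carry the additive subgroup
`C O = ann (stabiliser of O in W')` of `W'`, with `|C O| = |O|`, so `|X| = ∑ O, |C O|`.
The combinatorial core works with an abstract family `C : 𝒪 → AddSubgroup W` that is symmetric under the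
Siegel elements of `W` (`SiegSym`) and under the square-multiplier torus (`TorSym`).
-/

namespace Cfsg.Agent.Lib.Helper38_MIODefs

open Module Cfsg.Agent.Lib.Helper94_OrthSmall Cfsg.Agent.Lib.Helper44_QuadClass
  Cfsg.Agent.Lib.Helper14_OmegaSimple

/-- The numerical inequalities used by the combinatorial core (`q = |F|`, `p` the characteristic, `d = dim W`,
`s` = number of non-zero singular vectors of `W`, `ℓ` a lower bound for the level sets, `κ` the size of a square
class, `NW = s / (q - 1)`, `N` the target bound). -/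
structure Num (q p d s ℓ κ NW N : ℕ) : Prop where
  e1 : NW * (q - 1) = s
  e2 : N = 1 + s + NW + q ^ d
  n0 : N ≤ 2 * q ^ d
  n1 : 1 + s + NW ≤ κ * ℓ
  n2 : 1 + NW ≤ s
  n3 : N ≤ p * (κ * ℓ)
  n4 : 2 * N ≤ ℓ * q ^ (d - 1)
  n5 : N ≤ (q + 2) * s

section family

variable {F W : Type*} [Field F] [AddCommGroup W] [Module F W]

/-- The multiplicity of `x` in a family of additive subgroups: the number of members containing `x`. -/
noncomputable def mult {𝒪 : Type*} (C : 𝒪 → AddSubgroup W) (x : W) : ℕ :=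
  Nat.card {O : 𝒪 // x ∈ C O}

/-- The family is symmetric under every Siegel element `E Q u z` of `W`, through a permutation of the index
set of order dividing `p`. -/
def SiegSym (Q : QuadraticForm F W) (p : ℕ) {𝒪 : Type*} (C : 𝒪 → AddSubgroup W) : Prop :=
  ∀ u z : W, Q u = 0 → QuadraticMap.polar (⇑Q) u z = 0 →
    ∃ π : Equiv.Perm 𝒪, π ^ p = 1 ∧ ∀ O x, x ∈ C O ↔ E Q u z x ∈ C (π O)

/-- The family is symmetric under a similitude `x ↦ t • ψ x` (`ψ` an isometry) for every `t ≠ 0`. -/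
def TorSym (Q : QuadraticForm F W) {𝒪 : Type*} (C : 𝒪 → AddSubgroup W) : Prop :=
  ∀ t : F, t ≠ 0 → ∃ (ψ : W ≃ₗ[F] W) (ρ : Equiv.Perm 𝒪), (∀ x, Q (ψ x) = Q x) ∧
    ∀ O x, x ∈ C O ↔ t • ψ x ∈ C (ρ O)

/-- Outcome 1: one regular orbit, all others fixed points. -/
def Out1 {𝒪 : Type*} (C : 𝒪 → AddSubgroup W) : Prop :=
  ∃ O₀, C O₀ = ⊤ ∧ ∀ O, O ≠ O₀ → C O = ⊥

/-- Outcome 2: exactly one regular orbit and total size `N - 1`. -/
def Out2 {𝒪 : Type*} [Fintype 𝒪] (C : 𝒪 → AddSubgroup W) (N : ℕ) : Prop :=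
  (∃ O₀, C O₀ = ⊤ ∧ ∀ O, O ≠ O₀ → C O ≠ ⊤) ∧ (∑ O, Nat.card (C O)) + 1 = N

/-- Outcome 3: every member lies in an `F`-line. -/
def Out3 (F : Type*) {W : Type*} [Field F] [AddCommGroup W] [Module F W] {𝒪 : Type*}
    (C : 𝒪 → AddSubgroup W) : Prop :=
  ∀ O, ∃ x : W, ∀ y ∈ C O, ∃ a : F, y = a • x

/-- Complements of two orthogonal hyperbolic pairs contain an anisotropic plane. -/
def HasAniso (Q : QuadraticForm F W) : Prop :=
  ∀ a b c e : W, Q a = 0 → Q b = 0 → QuadraticMap.polar (⇑Q) a b = 1 → Q c = 0 → Q e = 0 →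
    QuadraticMap.polar (⇑Q) c e = 1 → QuadraticMap.polar (⇑Q) a c = 0 →
    QuadraticMap.polar (⇑Q) a e = 0 → QuadraticMap.polar (⇑Q) b c = 0 →
    QuadraticMap.polar (⇑Q) b e = 0 →
    ∃ w₁ w₂ : W,
      (QuadraticMap.polar (⇑Q) a w₁ = 0 ∧ QuadraticMap.polar (⇑Q) b w₁ = 0 ∧
        QuadraticMap.polar (⇑Q) c w₁ = 0 ∧ QuadraticMap.polar (⇑Q) e w₁ = 0) ∧
      (QuadraticMap.polar (⇑Q) a w₂ = 0 ∧ QuadraticMap.polar (⇑Q) b w₂ = 0 ∧
        QuadraticMap.polar (⇑Q) c w₂ = 0 ∧ QuadraticMap.polar (⇑Q) e w₂ = 0) ∧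
      ∀ s t : F, Q (s • w₁ + t • w₂) = 0 → s = 0 ∧ t = 0

/-- A totally singular subspace of dimension `j`. -/
def IsTS (Q : QuadraticForm F W) (j : ℕ) (T : Submodule F W) : Prop :=
  finrank F T = j ∧ ∀ x ∈ T, Q x = 0

/-- Outcome 4 (tight, `dim W = 5`): the non-trivial members are exactly the totally singular lines, each
once; `r` = deficiency (`r = q + 1`). -/
def Out4 {𝒪 : Type*} [Fintype 𝒪] (Q : QuadraticForm F W) (C : 𝒪 → AddSubgroup W) (j r N : ℕ) : Prop :=
  (∀ O, C O = ⊥ ∨ ∃ T : Submodule F W, IsTS Q j T ∧ C O = T.toAddSubgroup) ∧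
  (∀ T : Submodule F W, IsTS Q j T → ∃! O, C O = T.toAddSubgroup) ∧
  (∑ O, Nat.card (C O)) + r = N + Nat.card {O : 𝒪 // C O = ⊥}

end family

section dual

variable {F W : Type*} [Field F] [AddCommGroup W] [Module F W]

/-- The absolute trace `F →+ ZMod (ringChar F)`. -/
noncomputable def tr : F →+ ZMod (ringChar F) :=
  letI := ZMod.algebra F (ringChar F)
  (Algebra.trace (ZMod (ringChar F)) F).toAddMonoidHom

/-- The annihilator of an additive subgroup with respect to the pairing `tr ∘ B`. -/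
noncomputable def ann (B : LinearMap.BilinForm F W) (S : AddSubgroup W) : AddSubgroup W where
  carrier := {x | ∀ y ∈ S, tr (B x y) = 0}
  zero_mem' := by
    intro y _
    simp
  add_mem' := by
    intro a b ha hb y hy
    rw [map_add, LinearMap.add_apply, map_add, ha y hy, hb y hy, add_zero]
  neg_mem' := by
    intro a ha y hy
    rw [map_neg, LinearMap.neg_apply, map_neg, ha y hy, neg_zero]

lemma mem_ann {B : LinearMap.BilinForm F W} {S : AddSubgroup W} {x : W} :
    x ∈ ann B S ↔ ∀ y ∈ S, tr (B x y) = 0 := Iff.rfl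

end dual

section action

variable {F V : Type*} [Field F] [AddCommGroup V] [Module F V] (Q : QuadraticForm F V)

/-- The action of an element of `T Q` (given as a linear equivalence) on a `T Q`-set; elements outside
`T Q` act trivially. -/
noncomputable def act {X : Type*} [MulAction ↥(T Q) X] (g : V ≃ₗ[F] V) (x : X) : X :=
  open Classical in if h : g ∈ T Q then (⟨g, h⟩ : ↥(T Q)) • x else x

lemma act_of_mem {X : Type*} [MulAction ↥(T Q) X] {g : V ≃ₗ[F] V} (h : g ∈ T Q) (x : X) :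
    act Q g x = (⟨g, h⟩ : ↥(T Q)) • x := by
  unfold act
  rw [dif_pos h]

lemma act_one {X : Type*} [MulAction ↥(T Q) X] (x : X) : act Q (1 : V ≃ₗ[F] V) x = x := by
  rw [act_of_mem Q (Subgroup.one_mem _)]
  exact one_smul _ x

lemma act_mul {X : Type*} [MulAction ↥(T Q) X] {g h : V ≃ₗ[F] V} (hg : g ∈ T Q) (hh : h ∈ T Q)
    (x : X) : act Q (g * h) x = act Q g (act Q h x) := by
  rw [act_of_mem Q (Subgroup.mul_mem _ hg hh), act_of_mem Q hg, act_of_mem Q hh, ← mul_smul]
  rfl

/-- The quadratic form of the complement `perp Q v v'` of a hyperbolic pair. -/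
abbrev Qp (v v' : V) : QuadraticForm F ↥(perp Q v v') := Q.comp (perp Q v v').subtype

/-- The polar form of the complement. -/
noncomputable abbrev Bp (v v' : V) : LinearMap.BilinForm F ↥(perp Q v v') :=
  QuadraticMap.polarBilin (Qp Q v v')

/-- The orbit family of `A = {E Q v w : w ∈ perp Q v v'}` on a `T Q`-set `X`: index set `𝒪`, orbit map
`orb`, and `C O = ann (stabiliser)`. -/
structure FamData (v v' : V) (X : Type*) [MulAction ↥(T Q) X] (𝒪 : Type*) where
  C : 𝒪 → AddSubgroup ↥(perp Q v v')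
  orb : X → 𝒪
  orb_surj : Function.Surjective orb
  orb_eq : ∀ x y, orb x = orb y ↔ ∃ w : ↥(perp Q v v'), act Q (E Q v (w : V)) x = y
  stab : ∀ x (w : ↥(perp Q v v')),
    act Q (E Q v (w : V)) x = x ↔ w ∈ ann (Bp Q v v') (C (orb x))
  card : ∀ O, Nat.card (C O) = Nat.card {x : X // orb x = O}

end action

end Cfsg.Agent.Lib.Helper38_MIODefs
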