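import Mathlib
import Cfsg.Agent.Lib.Helper38_MIODefs

set_option autoImplicit false

/-!
# MIO-ANISO (architect helper38): the complement of two orthogonal hyperbolic planes in a
non-degenerate quadratic space of dimension `≥ 7` over a finite field of odd order contains an
anisotropic plane.
-/

namespace Cfsg.Agent.Lib.Helper10_MIO_ANISO

open Module Cfsg.Agent.Lib.Helper94_OrthSmall Cfsg.Agent.Lib.Helper44_QuadClass
  Cfsg.Agent.Lib.Helper14_OmegaSimple Cfsg.Agent.Lib.Helper38_MIODefs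

/-- a non-degenerate quadratic space of dimension `≥ 3` over a finite field of odd order contains an
anisotropic plane -/
theorem exists_aniso_plane {F U : Type*} [Field F] [Fintype F] [AddCommGroup U] [Module F U]
    [FiniteDimensional F U] (Q : QuadraticForm F U)
    (hQ : (QuadraticMap.polarBilin Q).Nondegenerate) (h2 : (2 : F) ≠ 0)
    (hdim : 3 ≤ finrank F U) :
    ∃ w₁ w₂ : U, ∀ s t : F, Q (s • w₁ + t • w₂) = 0 → s = 0 ∧ t = 0 := by
  have hinv : Invertible (2 : F) := invertibleOfNonzero h2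
  have hsymm : LinearMap.BilinForm.IsSymm (QuadraticMap.polarBilin Q) := by
    rw [LinearMap.BilinForm.isSymm_def]
    intro x y
    simp only [QuadraticMap.polarBilin_apply_apply]
    exact QuadraticMap.polar_comm _ _ _
  obtain ⟨v, hv⟩ := LinearMap.BilinForm.exists_orthogonal_basis
    (LinearMap.BilinForm.isSymm_iff.1 hsymm)
  have hne : ∀ i, Q (v i) ≠ 0 := by
    intro i h0
    have := hv.not_isOrtho_basis_self_of_separatingLeft hQ.1 i
    rw [QuadraticMap.polarBilin_apply_apply, polar_self', h0, mul_zero] at this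
    exact this rfl
  have hort : ∀ i j, i ≠ j → QuadraticMap.polar (⇑Q) (v i) (v j) = 0 := by
    intro i j hij
    have := hv hij
    simpa [QuadraticMap.polarBilin_apply_apply] using this
  obtain ⟨i0, i1, i2, h01, h02, h12⟩ :
      ∃ i0 i1 i2 : Fin (finrank F U), i0 ≠ i1 ∧ i0 ≠ i2 ∧ i1 ≠ i2 := by
    refine ⟨⟨0, by omega⟩, ⟨1, by omega⟩, ⟨2, by omega⟩, ?_, ?_, ?_⟩ <;>
    · intro h
      have := congrArg Fin.val h
      simp at this
  -- a non-square
  have hchar : ringChar F ≠ 2 := by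
    intro h
    apply h2
    have : ((2 : ℕ) : F) = 0 := by rw [← h]; exact ringChar.Nat.cast_ringChar
    exact_mod_cast this
  obtain ⟨n, hn⟩ := FiniteField.exists_nonsquare hchar
  obtain ⟨α, β, hαβ⟩ := exists_sq_sum h2 (hne i1) (hne i2) (n * Q (v i0))
  refine ⟨v i0, α • v i1 + β • v i2, ?_⟩
  intro s t hst
  -- compute the value
  have hQw2 : Q (α • v i1 + β • v i2) = -(n * Q (v i0)) := by
    rw [map_smul_add, QuadraticMap.map_smul, QuadraticMap.polar_smul_right, hort i1 i2 h12]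
    simp only [smul_eq_mul, mul_zero, add_zero]
    linear_combination hαβ
  have hpol : QuadraticMap.polar (⇑Q) (v i0) (α • v i1 + β • v i2) = 0 := by
    rw [QuadraticMap.polar_add_right, QuadraticMap.polar_smul_right, QuadraticMap.polar_smul_right,
      hort i0 i1 h01, hort i0 i2 h02]
    simp
  have hval : Q (s • v i0 + t • (α • v i1 + β • v i2)) = Q (v i0) * (s * s - n * (t * t)) := by
    rw [map_smul_add, QuadraticMap.map_smul, QuadraticMap.polar_smul_right, hQw2, hpol]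
    simp only [smul_eq_mul, mul_zero, add_zero]
    ring
  rw [hval] at hst
  have h3 : s * s - n * (t * t) = 0 := by
    rcases mul_eq_zero.1 hst with h | h
    · exact absurd h (hne i0)
    · exact h
  have ht : t = 0 := by
    by_contra ht
    apply hn
    refine ⟨s / t, ?_⟩
    field_simp
    linear_combination -h3
  subst ht
  refine ⟨?_, rfl⟩
  have : s * s = 0 := by linear_combination h3
  exact mul_self_eq_zero.1 this

variable {F W : Type*} [Field F] [Fintype F] [AddCommGroup W] [Module F W] [FiniteDimensional F W]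

theorem aniso_odd (Q : QuadraticForm F W) (hQ : (QuadraticMap.polarBilin Q).Nondegenerate)
    (h2 : (2 : F) ≠ 0) (hdim : 7 ≤ finrank F W) : HasAniso Q := by
  intro a b c e ha hb hab hc he hce hac hae hbc hbe
  -- first complement
  have hcm : c ∈ perp Q a b := (mem_perp Q a b).2 ⟨hac, hbc⟩
  have hem : e ∈ perp Q a b := (mem_perp Q a b).2 ⟨hae, hbe⟩
  obtain ⟨Q1, hQ1⟩ : ∃ Q1 : QuadraticForm F ↥(perp Q a b), Q1 = Q.comp (perp Q a b).subtype :=
    ⟨_, rfl⟩
  have hQ1nd : (QuadraticMap.polarBilin Q1).Nondegenerate := by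
    rw [hQ1]; exact nondegenerate_perp hQ ha hb hab
  have hdim1 : finrank F ↥(perp Q a b) + 2 = finrank F W := finrank_perp ha hb hab
  have hpol1 : ∀ x y : ↥(perp Q a b),
      QuadraticMap.polar (⇑Q1) x y = QuadraticMap.polar (⇑Q) (x : W) (y : W) := by
    intro x y; rw [hQ1]; exact polar_comp_subtype Q _ x y
  have hval1 : ∀ x : ↥(perp Q a b), Q1 x = Q (x : W) := by
    intro x; rw [hQ1]; rfl
  obtain ⟨c1, hc1⟩ : ∃ c1 : ↥(perp Q a b), c1 = ⟨c, hcm⟩ := ⟨_, rfl⟩
  obtain ⟨e1, he1⟩ : ∃ e1 : ↥(perp Q a b), e1 = ⟨e, hem⟩ := ⟨_, rfl⟩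
  have hc1v : (c1 : W) = c := by rw [hc1]
  have he1v : (e1 : W) = e := by rw [he1]
  have hQc1 : Q1 c1 = 0 := by rw [hval1, hc1v, hc]
  have hQe1 : Q1 e1 = 0 := by rw [hval1, he1v, he]
  have hce1 : QuadraticMap.polar (⇑Q1) c1 e1 = 1 := by rw [hpol1, hc1v, he1v, hce]
  -- second complement
  have hQ2nd : (QuadraticMap.polarBilin (Q1.comp (perp Q1 c1 e1).subtype)).Nondegenerate :=
    nondegenerate_perp hQ1nd hQc1 hQe1 hce1
  have hdim2 : finrank F ↥(perp Q1 c1 e1) + 2 = finrank F ↥(perp Q a b) :=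
    finrank_perp hQc1 hQe1 hce1
  obtain ⟨w₁, w₂, hw⟩ := exists_aniso_plane (Q1.comp (perp Q1 c1 e1).subtype) hQ2nd h2 (by omega)
  have hmem : ∀ w : ↥(perp Q1 c1 e1),
      QuadraticMap.polar (⇑Q) a ((w : ↥(perp Q a b)) : W) = 0 ∧
      QuadraticMap.polar (⇑Q) b ((w : ↥(perp Q a b)) : W) = 0 ∧
      QuadraticMap.polar (⇑Q) c ((w : ↥(perp Q a b)) : W) = 0 ∧
      QuadraticMap.polar (⇑Q) e ((w : ↥(perp Q a b)) : W) = 0 := by
    intro w
    obtain ⟨k1, k2⟩ := (mem_perp Q a b).1 (w : ↥(perp Q a b)).2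
    obtain ⟨k3, k4⟩ := (mem_perp Q1 c1 e1).1 w.2
    rw [hpol1, hc1v] at k3
    rw [hpol1, he1v] at k4
    exact ⟨k1, k2, k3, k4⟩
  refine ⟨((w₁ : ↥(perp Q a b)) : W), ((w₂ : ↥(perp Q a b)) : W), hmem w₁, hmem w₂, ?_⟩
  intro s t hst
  apply hw s t
  show Q1 ((s • w₁ + t • w₂ : ↥(perp Q1 c1 e1)) : ↥(perp Q a b)) = 0
  rw [hval1]
  simpa using hst

end Cfsg.Agent.Lib.Helper10_MIO_ANISO
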