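import Mathlib
import Cfsg.Agent.Lib.Helper38_MIODefs

set_option autoImplicit false

/-!
# MIO-CNTD (architect helper38): level-set count descent through a hyperbolic plane
-/

namespace Cfsg.Agent.Lib.Helper10_MIO_CNTD

open Module Cfsg.Agent.Lib.Helper94_OrthSmall Cfsg.Agent.Lib.Helper44_QuadClass
  Cfsg.Agent.Lib.Helper14_OmegaSimple Cfsg.Agent.Lib.Helper38_MIODefs

variable {F V : Type*} [Field F] [Fintype F] [AddCommGroup V] [Module F V] [FiniteDimensional F V]

omit [Fintype F] [FiniteDimensional F V] in
/-- the value of `Q` on `a v + b v' + w` -/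
theorem Q_decomp (Q : QuadraticForm F V) {v v' : V} (hv : Q v = 0) (hv' : Q v' = 0)
    (hvv' : QuadraticMap.polar (⇑Q) v v' = 1) (a b : F) {w : V} (hw : w ∈ perp Q v v') :
    Q (a • v + (b • v' + w)) = a * b + Q w := by
  obtain ⟨h1, h2⟩ := (mem_perp Q v v').1 hw
  rw [map_smul_add, map_smul_add, hv, hv', QuadraticMap.polar_add_right,
    QuadraticMap.polar_smul_right, hvv', h1, h2]
  simp only [smul_eq_mul, mul_zero, zero_add, add_zero, mul_one]
  ring

/-- the decomposition `V ≃ F × F × W'` -/
noncomputable def decompEquiv (Q : QuadraticForm F V) {v v' : V} (hv : Q v = 0) (hv' : Q v' = 0)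
    (hvv' : QuadraticMap.polar (⇑Q) v v' = 1) : F × F × ↥(perp Q v v') ≃ V where
  toFun p := p.1 • v + (p.2.1 • v' + (p.2.2 : V))
  invFun x := (QuadraticMap.polar (⇑Q) v' x, QuadraticMap.polar (⇑Q) v x,
    ⟨x - QuadraticMap.polar (⇑Q) v' x • v - QuadraticMap.polar (⇑Q) v x • v', by
      have hfe : QuadraticMap.polar (⇑Q) v' v = 1 := by rw [QuadraticMap.polar_comm, hvv']
      rw [mem_perp]
      constructor
      · rw [QuadraticMap.polar_sub_right, QuadraticMap.polar_sub_right,
          QuadraticMap.polar_smul_right, QuadraticMap.polar_smul_right, polar_self', hv, hvv']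
        simp
      · rw [QuadraticMap.polar_sub_right, QuadraticMap.polar_sub_right,
          QuadraticMap.polar_smul_right, QuadraticMap.polar_smul_right, polar_self', hv', hfe]
        simp⟩)
  left_inv := by
    rintro ⟨a, b, w, hw⟩
    obtain ⟨h1, h2⟩ := (mem_perp Q v v').1 hw
    have hfe : QuadraticMap.polar (⇑Q) v' v = 1 := by rw [QuadraticMap.polar_comm, hvv']
    have e1 : QuadraticMap.polar (⇑Q) v' (a • v + (b • v' + w)) = a := by
      rw [QuadraticMap.polar_add_right, QuadraticMap.polar_add_right,
        QuadraticMap.polar_smul_right, QuadraticMap.polar_smul_right, polar_self', hv', hfe, h2]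
      simp
    have e2 : QuadraticMap.polar (⇑Q) v (a • v + (b • v' + w)) = b := by
      rw [QuadraticMap.polar_add_right, QuadraticMap.polar_add_right,
        QuadraticMap.polar_smul_right, QuadraticMap.polar_smul_right, polar_self', hv, hvv', h1]
      simp
    refine Prod.ext ?_ (Prod.ext ?_ (Subtype.ext ?_))
    · exact e1
    · exact e2
    · show a • v + (b • v' + w) - QuadraticMap.polar (⇑Q) v' (a • v + (b • v' + w)) • v
        - QuadraticMap.polar (⇑Q) v (a • v + (b • v' + w)) • v' = w
      rw [e1, e2]; abel
  right_inv := by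
    intro x
    show QuadraticMap.polar (⇑Q) v' x • v + (QuadraticMap.polar (⇑Q) v x • v' +
      (x - QuadraticMap.polar (⇑Q) v' x • v - QuadraticMap.polar (⇑Q) v x • v')) = x
    abel

/-- for `a ≠ 0` the equation `a b + d = c` has exactly one solution `b` -/
theorem card_sol_ne [DecidableEq F] (a d c : F) (ha : a ≠ 0) :
    (Finset.univ.filter (fun b : F => a * b + d = c)).card = 1 := by
  have : Finset.univ.filter (fun b : F => a * b + d = c) = {a⁻¹ * (c - d)} := by
    ext b
    simp only [Finset.mem_filter, Finset.mem_univ, true_and, Finset.mem_singleton]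
    constructor
    · intro h
      rw [← h]; field_simp; ring
    · intro h
      rw [h]; field_simp; ring
  rw [this, Finset.card_singleton]

theorem card_level_perp (Q : QuadraticForm F V) {v v' : V} (hv : Q v = 0) (hv' : Q v' = 0)
    (hvv' : QuadraticMap.polar (⇑Q) v v' = 1) (c : F) :
    Nat.card {x : V // Q x = c} =
      Fintype.card F * Nat.card {w : ↥(perp Q v v') // Q (w : V) = c} +
        (Fintype.card F - 1) * Fintype.card F ^ finrank F ↥(perp Q v v') := by
  classical
  have hfinV : Finite V := Module.finite_of_finite F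
  have hftW : Fintype ↥(perp Q v v') := Fintype.ofFinite _
  have hcardW : Fintype.card ↥(perp Q v v') = Fintype.card F ^ finrank F ↥(perp Q v v') :=
    Module.card_eq_pow_finrank
  -- transfer along the decomposition
  have h1 : Nat.card {x : V // Q x = c} =
      Nat.card {p : F × F × ↥(perp Q v v') // p.1 * p.2.1 + Q (p.2.2 : V) = c} := by
    refine (Nat.card_congr ((decompEquiv Q hv hv' hvv').subtypeEquiv ?_)).symm
    rintro ⟨a, b, w, hw⟩
    show a * b + Q w = c ↔ Q (a • v + (b • v' + w)) = c
    rw [Q_decomp Q hv hv' hvv' a b hw]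
  rw [h1, Nat.card_eq_fintype_card, Nat.card_eq_fintype_card, Fintype.card_subtype,
    Fintype.card_subtype, ← hcardW]
  -- count
  rw [Finset.card_filter, Fintype.sum_prod_type]
  have hterm : ∀ a : F, (∑ y : F × ↥(perp Q v v'),
      if a * y.1 + Q (y.2 : V) = c then 1 else 0) =
      if a = 0 then Fintype.card F *
        (Finset.univ.filter (fun w : ↥(perp Q v v') => Q (w : V) = c)).card
      else Fintype.card ↥(perp Q v v') := by
    intro a
    split_ifs with ha
    · subst ha
      rw [Fintype.sum_prod_type]
      simp only [zero_mul, zero_add]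
      rw [Finset.sum_const, Finset.card_univ, smul_eq_mul, ← Finset.card_filter]
    · rw [Fintype.sum_prod_type, Finset.sum_comm]
      have : ∀ w : ↥(perp Q v v'), (∑ b : F, if a * b + Q (w : V) = c then 1 else 0) = 1 := by
        intro w
        rw [← Finset.card_filter]
        exact card_sol_ne a _ c ha
      rw [Finset.sum_congr rfl (fun w _ => this w), Finset.sum_const, Finset.card_univ,
        smul_eq_mul, mul_one]
  rw [Finset.sum_congr rfl (fun a _ => hterm a)]
  rw [← Finset.add_sum_erase Finset.univ _ (Finset.mem_univ (0 : F))]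
  rw [if_pos rfl]
  have hrest : ∀ a ∈ Finset.univ.erase (0 : F),
      (if a = 0 then Fintype.card F *
        (Finset.univ.filter (fun w : ↥(perp Q v v') => Q (w : V) = c)).card
      else Fintype.card ↥(perp Q v v')) = Fintype.card ↥(perp Q v v') := by
    intro a ha
    rw [if_neg (Finset.ne_of_mem_erase ha)]
  rw [Finset.sum_congr rfl hrest, Finset.sum_const, Finset.card_erase_of_mem (Finset.mem_univ _),
    Finset.card_univ, smul_eq_mul]

end Cfsg.Agent.Lib.Helper10_MIO_CNTD
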