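import Mathlib
import Cfsg.Agent.Lib.Helper94_Symp

set_option autoImplicit false

/-!
The isometry group of a nondegenerate alternating form is perfect (outside the three small
exceptions): every symplectic transvection lies in the commutator subgroup.
-/

namespace Cfsg.Agent.Lib.Helper94_SympPerfect

open Module Cfsg.Agent.Lib.Helper94_Symp
open scoped commutatorElement

variable {F V : Type*} [Field F] [AddCommGroup V] [Module F V]

section

variable (B : LinearMap.BilinForm F V) (hB : B.IsAlt)

lemma stv_mul (v : V) (c d : F) : stv B hB v c * stv B hB v d = stv B hB v (c + d) := by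
  ext x
  simp only [LinearEquiv.mul_apply, stv_apply, map_add, map_smul, LinearMap.add_apply,
    LinearMap.smul_apply, hB v, smul_eq_mul, mul_zero, add_zero]
  module

lemma stv_inv (v : V) (c : F) : (stv B hB v c)⁻¹ = stv B hB v (-c) := by
  apply inv_eq_of_mul_eq_one_right
  rw [stv_mul, add_neg_cancel]
  ext x
  simp

lemma comm_stv {g : V ≃ₗ[F] V} (hg : g ∈ isoGroup B) (v : V) (c : F) :
    ⁅g, stv B hB v c⁆ = stv B hB (g v) c * stv B hB v (-c) := by
  rw [commutatorElement_def, conj_stv B hB hg, stv_inv]

include hB in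
lemma exists_iso_move (hN : B.Nondegenerate) {v v' : V} (h0 : v ≠ 0) (h0' : v' ≠ 0) :
    ∃ g ∈ isoGroup B, g v = v' := by
  have htop : NondegOn B ⊤ := fun y _ hy0 => by
    have : ∃ x, B x y ≠ 0 := by
      by_contra hcon
      push Not at hcon
      exact hy0 (hN.2 y hcon)
    obtain ⟨x, hx⟩ := this
    exact ⟨x, trivial, hx⟩
  obtain ⟨a, -, c, a', -, c', h⟩ := exists_move B hB htop (Submodule.mem_top : v ∈ ⊤)
    (Submodule.mem_top : v' ∈ ⊤) h0 h0'
  exact ⟨_, (isoGroup B).mul_mem (stv_mem_isoGroup B hB a' c') (stv_mem_isoGroup B hB a c), h⟩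

/-- Fields with an element `a ≠ 0`, `a² ≠ 1`. -/
theorem stv_mem_comm_A (hN : B.Nondegenerate) {a : F} (ha0 : a ≠ 0) (ha1 : a * a ≠ 1) (v : V)
    (c : F) : stv B hB v c ∈ ⁅isoGroup B, isoGroup B⁆ := by
  by_cases hv : v = 0
  · subst hv
    rw [stv_zero]
    exact Subgroup.one_mem _
  obtain ⟨g, hg, hgv⟩ := exists_iso_move B hB hN hv (smul_ne_zero ha0 hv)
  have hne : a * a - 1 ≠ 0 := sub_ne_zero.mpr ha1
  have key := Subgroup.commutator_mem_commutator hg
    (stv_mem_isoGroup B hB v (c / (a * a - 1)))
  rw [comm_stv B hB hg, hgv, stv_smul, stv_mul] at key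
  have e : a * a * (c / (a * a - 1)) + -(c / (a * a - 1)) = c := by
    have h1 : a * a * (c / (a * a - 1)) + -(c / (a * a - 1)) = (a * a - 1) * (c / (a * a - 1)) := by
      ring
    rw [h1, mul_div_cancel₀ _ hne]
  rwa [e] at key

/-- Characteristic different from two, dimension at least four. -/
theorem stv_mem_comm_B [FiniteDimensional F V] (hN : B.Nondegenerate) (h2 : (2 : F) ≠ 0)
    (hdim : 4 ≤ finrank F V) (w : V) (c : F) :
    stv B hB w c ∈ ⁅isoGroup B, isoGroup B⁆ := by
  by_cases hw : w = 0
  · subst hw
    rw [stv_zero]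
    exact Subgroup.one_mem _
  obtain ⟨v, hvw, hvnot⟩ : ∃ v, B w v = 0 ∧ v ∉ Submodule.span F {w} := by
    have hfr : finrank F (B.orthogonal (Submodule.span F {w})) = finrank F V - 1 := by
      rw [LinearMap.BilinForm.finrank_orthogonal hN, finrank_span_singleton hw]
    have hnot : ¬ (B.orthogonal (Submodule.span F {w}) ≤ Submodule.span F {w}) := by
      intro hle
      have := Submodule.finrank_mono hle
      rw [hfr, finrank_span_singleton hw] at this
      omega
    obtain ⟨v, hv, hvn⟩ := SetLike.not_le_iff_exists.mp hnot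
    exact ⟨v, (mem_orth B).mp hv w (Submodule.mem_span_singleton_self w), hvn⟩
  have hv0 : v ≠ 0 := by
    rintro rfl
    exact hvnot (Submodule.zero_mem _)
  have hp : v + w ≠ 0 := by
    intro h
    apply hvnot
    have : v = (-1 : F) • w := by rw [neg_one_smul]; exact eq_neg_of_add_eq_zero_left h
    rw [this]
    exact Submodule.smul_mem _ _ (Submodule.mem_span_singleton_self w)
  have hm : v - w ≠ 0 := by
    intro h
    apply hvnot
    rw [sub_eq_zero.mp h]
    exact Submodule.mem_span_singleton_self w
  obtain ⟨g1, hg1, e1⟩ := exists_iso_move B hB hN hv0 hp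
  obtain ⟨g2, hg2, e2⟩ := exists_iso_move B hB hN hv0 hm
  have k1 := Subgroup.commutator_mem_commutator hg1 (stv_mem_isoGroup B hB v (c / 2))
  have k2 := Subgroup.commutator_mem_commutator hg2 (stv_mem_isoGroup B hB v (c / 2))
  rw [comm_stv B hB hg1, e1] at k1
  rw [comm_stv B hB hg2, e2] at k2
  have key := Subgroup.mul_mem _ k1 k2
  have hvw' : B v w = 0 := by rw [alt_swap B hB, hvw, neg_zero]
  have hc : c = 2 * (c / 2) := by field_simp
  have e : stv B hB w c = stv B hB (v + w) (c / 2) * stv B hB v (-(c / 2)) *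
      (stv B hB (v - w) (c / 2) * stv B hB v (-(c / 2))) := by
    ext x
    simp only [LinearEquiv.mul_apply, stv_apply, map_add, map_sub, map_smul, map_neg,
      LinearMap.add_apply, LinearMap.sub_apply, LinearMap.smul_apply, LinearMap.neg_apply,
      smul_eq_mul, hB v, hB w, hvw, hvw', mul_zero, add_zero, sub_zero, zero_add, neg_zero,
      mul_neg, zero_sub]
    conv_lhs => rw [hc]
    module
  rw [e]
  exact key

/-- The field with two elements, dimension at least six. -/
theorem stv_mem_comm_C [FiniteDimensional F V] (hN : B.Nondegenerate)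
    (hF : ∀ c : F, c = 0 ∨ c = 1) (hdim : 6 ≤ finrank F V) (w : V) (c : F) :
    stv B hB w c ∈ ⁅isoGroup B, isoGroup B⁆ := by
  by_cases hw : w = 0
  · subst hw
    rw [stv_zero]
    exact Subgroup.one_mem _
  rcases hF c with rfl | rfl
  · have : stv B hB w 0 = 1 := by ext x; simp
    rw [this]
    exact Subgroup.one_mem _
  have h2 : (2 : F) = 0 := by
    rcases hF 2 with h | h
    · exact h
    · exfalso
      have : (1 : F) = 0 := by linear_combination h
      exact one_ne_zero this
  have hneg : (-1 : F) = 1 := by linear_combination -h2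
  -- pairs of transvections lie in the commutator subgroup
  have hpair : ∀ a b : V, a ≠ 0 → b ≠ 0 →
      stv B hB a 1 * stv B hB b 1 ∈ ⁅isoGroup B, isoGroup B⁆ := by
    intro a b ha hb
    obtain ⟨g, hg, hgb⟩ := exists_iso_move B hB hN hb ha
    have key := Subgroup.commutator_mem_commutator hg (stv_mem_isoGroup B hB b 1)
    rwa [comm_stv B hB hg, hgb, hneg] at key
  -- a totally isotropic 3-space through w
  obtain ⟨u2, hu2w, hu2not⟩ : ∃ v, B w v = 0 ∧ v ∉ Submodule.span F {w} := by
    have hfr : finrank F (B.orthogonal (Submodule.span F {w})) = finrank F V - 1 := by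
      rw [LinearMap.BilinForm.finrank_orthogonal hN, finrank_span_singleton hw]
    have hnot : ¬ (B.orthogonal (Submodule.span F {w}) ≤ Submodule.span F {w}) := by
      intro hle
      have := Submodule.finrank_mono hle
      rw [hfr, finrank_span_singleton hw] at this
      omega
    obtain ⟨v, hv, hvn⟩ := SetLike.not_le_iff_exists.mp hnot
    exact ⟨v, (mem_orth B).mp hv w (Submodule.mem_span_singleton_self w), hvn⟩
  obtain ⟨u3, hu3w, hu3u2, hu3not⟩ : ∃ v, B w v = 0 ∧ B u2 v = 0 ∧
      v ∉ Submodule.span F {w} ⊔ Submodule.span F {u2} := by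
    have hu20 : u2 ≠ 0 := by
      rintro rfl
      exact hu2not (Submodule.zero_mem _)
    have hSle : finrank F (Submodule.span F {w} ⊔ Submodule.span F {u2} : Submodule F V) ≤ 2 := by
      have h1 := Submodule.finrank_add_le_finrank_add_finrank (Submodule.span F {w})
        (Submodule.span F {u2})
      have h3 := finrank_span_singleton hw (K := F)
      have h4 := finrank_span_singleton hu20 (K := F)
      omega
    have hfr : finrank F (B.orthogonal (Submodule.span F {w} ⊔ Submodule.span F {u2})) =
        finrank F V - finrank F (Submodule.span F {w} ⊔ Submodule.span F {u2} : Submodule F V) :=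
      LinearMap.BilinForm.finrank_orthogonal hN _
    have hnot : ¬ (B.orthogonal (Submodule.span F {w} ⊔ Submodule.span F {u2}) ≤
        Submodule.span F {w} ⊔ Submodule.span F {u2}) := by
      intro hle
      have := Submodule.finrank_mono hle
      omega
    obtain ⟨v, hv, hvn⟩ := SetLike.not_le_iff_exists.mp hnot
    refine ⟨v, ?_, ?_, hvn⟩
    · exact (mem_orth B).mp hv w
        (Submodule.mem_sup_left (Submodule.mem_span_singleton_self w))
    · exact (mem_orth B).mp hv u2
        (Submodule.mem_sup_right (Submodule.mem_span_singleton_self u2))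
  have hmemS : ∀ a b : F, a • w + b • u2 ∈ Submodule.span F {w} ⊔ Submodule.span F {u2} :=
    fun a b => Submodule.add_mem _
      (Submodule.mem_sup_left (Submodule.smul_mem _ _ (Submodule.mem_span_singleton_self w)))
      (Submodule.mem_sup_right (Submodule.smul_mem _ _ (Submodule.mem_span_singleton_self u2)))
  have n1 : u2 ≠ 0 := by
    rintro rfl
    exact hu2not (Submodule.zero_mem _)
  have n2 : u3 ≠ 0 := by
    rintro rfl
    exact hu3not (Submodule.zero_mem _)
  have n3 : w + u2 ≠ 0 := by
    intro h
    apply hu2not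
    have : u2 = (-1 : F) • w := by rw [neg_one_smul]; exact eq_neg_of_add_eq_zero_right h
    rw [this]
    exact Submodule.smul_mem _ _ (Submodule.mem_span_singleton_self w)
  have n4 : w + u3 ≠ 0 := by
    intro h
    apply hu3not
    have : u3 = (-1 : F) • w + (0 : F) • u2 := by
      rw [neg_one_smul, zero_smul, add_zero]; exact eq_neg_of_add_eq_zero_right h
    rw [this]
    exact hmemS _ _
  have n5 : u2 + u3 ≠ 0 := by
    intro h
    apply hu3not
    have : u3 = (0 : F) • w + (-1 : F) • u2 := by
      rw [neg_one_smul, zero_smul, zero_add]; exact eq_neg_of_add_eq_zero_right h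
    rw [this]
    exact hmemS _ _
  have n6 : w + u2 + u3 ≠ 0 := by
    intro h
    apply hu3not
    have : u3 = (-1 : F) • w + (-1 : F) • u2 := by
      rw [neg_one_smul, neg_one_smul, ← neg_add]; exact eq_neg_of_add_eq_zero_right h
    rw [this]
    exact hmemS _ _
  have key := Subgroup.mul_mem _ (Subgroup.mul_mem _ (hpair u2 u3 n1 n2)
    (hpair (w + u2) (w + u3) n3 n4)) (hpair (u2 + u3) (w + u2 + u3) n5 n6)
  have hu2w' : B u2 w = 0 := by rw [alt_swap B hB, hu2w, neg_zero]
  have hu3w' : B u3 w = 0 := by rw [alt_swap B hB, hu3w, neg_zero]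
  have hu3u2' : B u3 u2 = 0 := by rw [alt_swap B hB, hu3u2, neg_zero]
  have e : stv B hB w 1 = stv B hB u2 1 * stv B hB u3 1 *
      (stv B hB (w + u2) 1 * stv B hB (w + u3) 1) *
      (stv B hB (u2 + u3) 1 * stv B hB (w + u2 + u3) 1) := by
    ext x
    simp only [LinearEquiv.mul_apply, stv_apply, map_add, map_smul,
      LinearMap.add_apply, LinearMap.smul_apply, smul_eq_mul, hB w, hB u2, hB u3, hu2w, hu3w,
      hu3u2, hu2w', hu3w', hu3u2', mul_zero, add_zero, zero_add, one_mul]
    match_scalars
    all_goals first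
      | linear_combination (-(B x w + B x u2 + B x u3)) * h2
      | linear_combination (-(B x w + 2 * B x u2 + B x u3)) * h2
      | linear_combination (-(B x w + B x u2 + 2 * B x u3)) * h2
      | ring
  rw [e]
  exact key

end

end Cfsg.Agent.Lib.Helper94_SympPerfect
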