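import Mathlib
import Cfsg.Agent.Lib.Helper94_Symp

set_option autoImplicit false

/-!
The stabiliser of a pair of complementary totally isotropic subspaces `U, U'` in a symplectic group
over a field of odd characteristic is maximal (helper94).  Short root elements `ee a y c`.
-/

namespace Cfsg.Agent.Lib.Helper94_SympTI

open Module Cfsg.Agent.Lib.Helper94_Symp

variable {F : Type*} [Field F] {V : Type*} [AddCommGroup V] [Module F V]

section EE

variable (B : LinearMap.BilinForm F V) (hB : B.IsAlt)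

/-- The element `x ↦ x + B x y • a + B x a • y + c * B x a • a` (for `B a y = 0`). -/
def ee (a y : V) (c : F) : V ≃ₗ[F] V :=
  stv B hB (a + y) 1 * stv B hB a (c - 1) * stv B hB y (-1)

lemma ee_apply {a y : V} (h : B a y = 0) (c : F) (x : V) :
    ee B hB a y c x = x + B x y • a + B x a • y + (c * B x a) • a := by
  have h' : B y a = 0 := by rw [alt_swap B hB, h, neg_zero]
  simp only [ee, LinearEquiv.mul_apply, stv_apply, map_add, map_smul, LinearMap.add_apply,
    LinearMap.smul_apply, smul_eq_mul, hB a, hB y, h, h', mul_zero, add_zero, zero_add]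
  module

lemma ee_mem_isoGroup (a y : V) (c : F) : ee B hB a y c ∈ isoGroup B :=
  (isoGroup B).mul_mem ((isoGroup B).mul_mem (stv_mem_isoGroup B hB _ _)
    (stv_mem_isoGroup B hB _ _)) (stv_mem_isoGroup B hB _ _)

lemma conj_ee {g : V ≃ₗ[F] V} (hg : g ∈ isoGroup B) (a y : V) (c : F) :
    g * ee B hB a y c * g⁻¹ = ee B hB (g a) (g y) c := by
  have : g * (stv B hB (a + y) 1 * stv B hB a (c - 1) * stv B hB y (-1)) * g⁻¹ =
      (g * stv B hB (a + y) 1 * g⁻¹) * (g * stv B hB a (c - 1) * g⁻¹) *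
        (g * stv B hB y (-1) * g⁻¹) := by group
  rw [ee, this, conj_stv B hB hg, conj_stv B hB hg, conj_stv B hB hg, map_add]
  rfl

lemma ee_symm {a y : V} (h : B a y = 0) : ee B hB a y 0 = ee B hB y a 0 := by
  have h' : B y a = 0 := by rw [alt_swap B hB, h, neg_zero]
  ext x
  rw [ee_apply B hB h, ee_apply B hB h']
  module

lemma ee_comm {a z z' : V} (hz : B a z = 0) (hz' : B a z' = 0) :
    ee B hB a z 0 * ee B hB a z' 0 =
      stv B hB a (2 * B z' z) * (ee B hB a z' 0 * ee B hB a z 0) := by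
  have h1 : B z a = 0 := by rw [alt_swap B hB, hz, neg_zero]
  have h2 : B z' a = 0 := by rw [alt_swap B hB, hz', neg_zero]
  have h3 : B z z' = - B z' z := alt_swap B hB z z'
  ext x
  simp only [LinearEquiv.mul_apply, ee_apply B hB hz, ee_apply B hB hz', stv_apply, map_add,
    map_smul, LinearMap.add_apply, LinearMap.smul_apply, smul_eq_mul, hB a, hB z, hB z', hz, hz',
    h1, h2, h3, mul_zero, add_zero, zero_add, zero_mul, zero_smul]
  module

lemma ee_add_smul {a y : V} (h : B a y = 0) (l : F) :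
    ee B hB a (y + l • a) 0 = ee B hB a y 0 * stv B hB a (2 * l) := by
  have h' : B a (y + l • a) = 0 := by rw [map_add, map_smul, h, hB a, smul_zero, add_zero]
  ext x
  simp only [LinearEquiv.mul_apply, ee_apply B hB h, ee_apply B hB h', stv_apply, map_add,
    map_smul, LinearMap.add_apply, LinearMap.smul_apply, smul_eq_mul, hB a, h, mul_zero, add_zero,
    zero_add, zero_mul, zero_smul]
  module

include hB in
lemma swap_zero {x y : V} (h : B x y = 0) : B y x = 0 := by
  rw [alt_swap B hB, h, neg_zero]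

/-- Key step. -/
lemma key_step (h2 : (2 : F) ≠ 0) (M : Subgroup (V ≃ₗ[F] V)) (A A' N' : Submodule F V)
    (hA : ∀ u ∈ A, ∀ v ∈ A, B u v = 0) (hA' : ∀ u ∈ A', ∀ v ∈ A', B u v = 0)
    (hsup : A ⊔ A' = ⊤)
    (hpair : ∀ u ∈ A, (∀ y ∈ A', B y u = 0) → u = 0)
    {a : V} (ha : a ∈ A) (ha0 : a ≠ 0)
    (hE : ∀ y ∈ A', B a y = 0 → ee B hB a y 0 ∈ M)
    (hE' : ∀ z ∈ N', B a z = 0 → ee B hB a z 0 ∈ M)
    (hTV : a ∉ TV B hB M) :
    ∀ z ∈ N', B a z = 0 → z ∈ A' := by
  intro z' hz'N haz'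
  have hz'M := hE' z' hz'N haz'
  -- Step 1
  have h1 : ∀ z ∈ A', B a z = 0 → B z' z = 0 := by
    intro z hz haz
    by_contra hne
    apply hTV
    intro c
    have hasz : B a ((c * (2 * B z' z)⁻¹) • z) = 0 := by rw [map_smul, haz, smul_zero]
    have hsz : ee B hB a ((c * (2 * B z' z)⁻¹) • z) 0 ∈ M := hE _ (A'.smul_mem _ hz) hasz
    have hcomm := ee_comm B hB hasz haz'
    have hc : 2 * B z' ((c * (2 * B z' z)⁻¹) • z) = c := by
      rw [map_smul, smul_eq_mul]
      field_simp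
    rw [hc] at hcomm
    have : stv B hB a c = (ee B hB a ((c * (2 * B z' z)⁻¹) • z) 0 * ee B hB a z' 0) *
        (ee B hB a z' 0 * ee B hB a ((c * (2 * B z' z)⁻¹) • z) 0)⁻¹ := by
      rw [hcomm, mul_inv_cancel_right]
    rw [this]
    exact M.mul_mem (M.mul_mem hsz hz'M) (M.inv_mem (M.mul_mem hz'M hsz))
  -- Step 2
  obtain ⟨u, hu, u', hu', huz⟩ := Submodule.mem_sup.mp (hsup ▸ Submodule.mem_top : z' ∈ A ⊔ A')
  have hau : B a u = 0 := hA a ha u hu
  have hau' : B a u' = 0 := by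
    have := haz'
    rw [← huz, map_add, hau, zero_add] at this
    exact this
  obtain ⟨b, hb, hab⟩ : ∃ b ∈ A', B a b = 1 := by
    by_contra hcon
    push Not at hcon
    apply ha0
    apply hpair a ha
    intro y hy
    by_contra hne
    have hne' : B a y ≠ 0 := fun h => hne (swap_zero B hB h)
    exact hcon ((B a y)⁻¹ • y) (A'.smul_mem _ hy)
      (by rw [map_smul, smul_eq_mul, inv_mul_cancel₀ hne'])
  have hyu : ∀ y ∈ A', B y u = B a y * B b u := by
    intro y hy
    have hmem : y - B a y • b ∈ A' := A'.sub_mem hy (A'.smul_mem _ hb)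
    have h0 : B a (y - B a y • b) = 0 := by
      rw [map_sub, map_smul, smul_eq_mul, hab, mul_one, sub_self]
    have h3 := h1 _ hmem h0
    rw [← huz] at h3
    simp only [map_add, map_sub, map_smul, LinearMap.add_apply, smul_eq_mul] at h3
    rw [hA' u' hu' y hy, hA' u' hu' b hb] at h3
    rw [alt_swap B hB y u, alt_swap B hB b u]
    linear_combination (-1 : F) * h3
  obtain ⟨l, hul⟩ : ∃ l : F, u = l • a := by
    refine ⟨B u b, ?_⟩
    have : u - B u b • a = 0 := hpair _ (A.sub_mem hu (A.smul_mem _ ha)) (fun y hy => by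
      rw [map_sub, map_smul, smul_eq_mul, hyu y hy, alt_swap B hB b u, alt_swap B hB y a]
      ring)
    exact sub_eq_zero.mp this
  -- Step 3
  by_cases hl : l = 0
  · rw [← huz, hul, hl, zero_smul, zero_add]
    exact hu'
  · exfalso
    apply hTV
    intro c
    have hsz' : (c * (2 * l)⁻¹) • z' =
        (c * (2 * l)⁻¹) • u' + ((c * (2 * l)⁻¹) * l) • a := by
      rw [← huz, hul, smul_add, smul_smul, add_comm]
    have h3 := hE' ((c * (2 * l)⁻¹) • z') (N'.smul_mem _ hz'N)
      (by rw [map_smul, haz', smul_zero])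
    have hau's : B a ((c * (2 * l)⁻¹) • u') = 0 := by rw [map_smul, hau', smul_zero]
    rw [hsz', ee_add_smul B hB hau's] at h3
    have h4 := hE _ (A'.smul_mem (c * (2 * l)⁻¹) hu') hau's
    have hc : 2 * ((c * (2 * l)⁻¹) * l) = c := by field_simp
    rw [hc] at h3
    have : stv B hB a c = (ee B hB a ((c * (2 * l)⁻¹) • u') 0)⁻¹ *
        (ee B hB a ((c * (2 * l)⁻¹) • u') 0 * stv B hB a c) := by
      rw [inv_mul_cancel_left]
    rw [this]
    exact M.mul_mem (M.inv_mem h4) h3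

end EE


section Pair

variable (B : LinearMap.BilinForm F V) (hB : B.IsAlt)

/-- A pair of totally isotropic subspaces spanning the space, in perfect duality. -/
structure TIPair (U U' : Submodule F V) : Prop where
  tiU : ∀ u ∈ U, ∀ v ∈ U, B u v = 0
  tiU' : ∀ u ∈ U', ∀ v ∈ U', B u v = 0
  sup : U ⊔ U' = ⊤
  pairU : ∀ u ∈ U, (∀ y ∈ U', B y u = 0) → u = 0
  pairU' : ∀ u ∈ U', (∀ y ∈ U, B y u = 0) → u = 0

variable {B}

lemma TIPair.symm {U U' : Submodule F V} (P : TIPair B U U') : TIPair B U' U :=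
  ⟨P.tiU', P.tiU, by rw [sup_comm]; exact P.sup, P.pairU', P.pairU⟩

lemma TIPair.inf_eq_bot {U U' : Submodule F V} (P : TIPair B U U') : U ⊓ U' = ⊥ := by
  rw [eq_bot_iff]
  rintro x ⟨hx, hx'⟩
  exact P.pairU x hx (fun y hy => P.tiU' y hy x hx')

variable (B)

/-- The short root elements of the pair lie in `M`. -/
def EEin (M : Subgroup (V ≃ₗ[F] V)) (U U' : Submodule F V) : Prop :=
  ∀ a ∈ U, ∀ y ∈ U', B a y = 0 → ee B hB a y 0 ∈ M

variable {B hB}

lemma EEin.symm {M : Subgroup (V ≃ₗ[F] V)} {U U' : Submodule F V} (h : EEin B hB M U U') :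
    EEin B hB M U' U := by
  intro a ha y hy hay
  rw [ee_symm B hB hay]
  exact h y hy a ha (swap_zero B hB hay)

variable (B)

lemma exists_ne_zero_orth2 [FiniteDimensional F V] (W : Submodule F V) (h : 3 ≤ finrank F W)
    (p q : V) : ∃ w ∈ W, w ≠ 0 ∧ B w p = 0 ∧ B w q = 0 := by
  let f : W →ₗ[F] F × F := ((B.flip p).comp W.subtype).prod ((B.flip q).comp W.subtype)
  have hlt : finrank F (F × F) < finrank F W := by
    rw [Module.finrank_prod, Module.finrank_self]
    omega
  have hker := LinearMap.ker_ne_bot_of_finrank_lt (f := f) hlt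
  obtain ⟨w, hw, hw0⟩ := Submodule.exists_mem_ne_zero_of_ne_bot hker
  have hw' : f w = 0 := LinearMap.mem_ker.mp hw
  refine ⟨w, w.2, fun h => hw0 (Subtype.ext h), ?_, ?_⟩
  · have := congrArg Prod.fst hw'
    simpa [f] using this
  · have := congrArg Prod.snd hw'
    simpa [f] using this

variable {B}

/-- First step: if `g ∈ M` sends a nonzero `a ∈ U` into `U`, it sends `U' ∩ a^⊥` into `U'`. -/
lemma step1 (h2 : (2 : F) ≠ 0) {U U' : Submodule F V} (P : TIPair B U U')
    {M : Subgroup (V ≃ₗ[F] V)} (hMI : M ≤ isoGroup B) (hE : EEin B hB M U U')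
    (hTVU : ∀ a ∈ U, a ∈ TV B hB M → a = 0)
    {g : V ≃ₗ[F] V} (hg : g ∈ M) {a : V} (ha : a ∈ U) (ha0 : a ≠ 0) (hga : g a ∈ U)
    {y : V} (hy : y ∈ U') (hay : B a y = 0) : g y ∈ U' := by
  have hgI := hMI hg
  have hga0 : g a ≠ 0 := fun h => ha0 (by
    have := g.injective (h.trans (map_zero g).symm)
    exact this)
  apply key_step B hB h2 M U U' (U'.map (g : V →ₗ[F] V)) P.tiU P.tiU' P.sup P.pairU hga hga0
    (fun y hy hy0 => hE _ hga y hy hy0) ?_ (fun h => hga0 (hTVU _ hga h)) (g y)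
    ⟨y, hy, rfl⟩ (by rw [hgI]; exact hay)
  rintro _ ⟨y0, hy0, rfl⟩ h0
  have h0' : B a y0 = 0 := by
    have := hgI a y0
    rw [← this]
    exact h0
  have := conj_ee B hB hgI a y0 0
  change ee B hB (g a) (g y0) 0 ∈ M
  rw [← this]
  exact M.mul_mem (M.mul_mem hg (hE a ha y0 hy0 h0')) (M.inv_mem hg)

/-- If `g ∈ M` sends a nonzero vector of `U` into `U`, then `g` stabilises both `U` and `U'`
(assuming `M` contains no transvection with centre in `U ∪ U'`). -/
lemma stab_of_fix [FiniteDimensional F V] (h2 : (2 : F) ≠ 0) {U U' : Submodule F V}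
    (P : TIPair B U U')
    (hk : 3 ≤ finrank F U) (hk' : 3 ≤ finrank F U')
    {M : Subgroup (V ≃ₗ[F] V)} (hMI : M ≤ isoGroup B) (hE : EEin B hB M U U')
    (hTVU : ∀ a ∈ U, a ∈ TV B hB M → a = 0) (hTVU' : ∀ a ∈ U', a ∈ TV B hB M → a = 0)
    {g : V ≃ₗ[F] V} (hg : g ∈ M) {a : V} (ha : a ∈ U) (ha0 : a ≠ 0) (hga : g a ∈ U) :
    (∀ u ∈ U, g u ∈ U) ∧ (∀ y ∈ U', g y ∈ U') := by
  have h1 : ∀ u ∈ U, g u ∈ U := by
    intro u hu
    obtain ⟨b, hbU', hb0, hba, hbu⟩ := exists_ne_zero_orth2 B U' hk' a u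
    have hgb : g b ∈ U' := step1 h2 P hMI hE hTVU hg ha ha0 hga hbU' (swap_zero B hB hba)
    exact step1 h2 P.symm hMI hE.symm hTVU' hg hbU' hb0 hgb hu hbu
  refine ⟨h1, ?_⟩
  intro y hy
  obtain ⟨a1, ha1, ha10, ha1y, -⟩ := exists_ne_zero_orth2 B U hk y y
  exact step1 h2 P hMI hE hTVU hg ha1 ha10 (h1 a1 ha1) hy ha1y

end Pair


section General

variable {B : LinearMap.BilinForm F V} (hB : B.IsAlt)

include hB in
lemma ti_orth_self [FiniteDimensional F V] (hN : B.Nondegenerate) (X : Submodule F V)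
    (hX : ∀ u ∈ X, ∀ v ∈ X, B u v = 0) (hdim : 2 * finrank F X = finrank F V) {v : V}
    (hv : ∀ x ∈ X, B x v = 0) : v ∈ X := by
  have hle : X ≤ B.orthogonal X := fun x hx => (mem_orth B).mpr (fun n hn => hX n hn x hx)
  have hfr := LinearMap.BilinForm.finrank_orthogonal hN X
  have heq : X = B.orthogonal X := Submodule.eq_of_le_of_finrank_eq hle (by omega)
  rw [heq]
  exact (mem_orth B).mpr hv

lemma general_position [FiniteDimensional F V] (h2 : (2 : F) ≠ 0) (hN : B.Nondegenerate)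
    {U U' : Submodule F V} (P : TIPair B U U')
    (hk : 3 ≤ finrank F U) (hk' : 3 ≤ finrank F U') (hkk : finrank F U = finrank F U')
    {M : Subgroup (V ≃ₗ[F] V)} (hMI : M ≤ isoGroup B) (hE : EEin B hB M U U')
    (hTVU : ∀ a ∈ U, a ∈ TV B hB M → a = 0) (hTVU' : ∀ a ∈ U', a ∈ TV B hB M → a = 0)
    {m : V ≃ₗ[F] V} (hm : m ∈ M) (h1 : ∀ a ∈ U, a ≠ 0 → m a ∉ U)
    (h1' : ∀ a ∈ U, a ≠ 0 → m a ∉ U') : False := by
  have hmI := hMI hm
  have hV : finrank F V = 2 * finrank F U := by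
    have := Submodule.finrank_sup_add_finrank_inf_eq U U'
    rw [P.sup, P.inf_eq_bot, finrank_bot, finrank_top] at this
    omega
  have hXti : ∀ u ∈ U.map (m : V →ₗ[F] V), ∀ v ∈ U.map (m : V →ₗ[F] V), B u v = 0 := by
    rintro _ ⟨u, hu, rfl⟩ _ ⟨v, hv, rfl⟩
    change B (m u) (m v) = 0
    rw [hmI]
    exact P.tiU u hu v hv
  have hXfr : finrank F (U.map (m : V →ₗ[F] V)) = finrank F U := LinearEquiv.finrank_map_eq m U
  have hdec : ∀ x : V, ∃ a ∈ U, ∃ a' ∈ U', a + a' = x := fun x =>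
    Submodule.mem_sup.mp (P.sup ▸ Submodule.mem_top)
  have hpol : ∃ u0 ∈ U, ∃ a ∈ U, ∃ a' ∈ U', m u0 = a + a' ∧ B a a' ≠ 0 := by
    by_contra hcon
    push Not at hcon
    obtain ⟨u1, hu1, hu10⟩ : ∃ u1 ∈ U, u1 ≠ 0 := by
      obtain ⟨w, hw, hw0, -, -⟩ := exists_ne_zero_orth2 B U hk 0 0
      exact ⟨w, hw, hw0⟩
    obtain ⟨a1, ha1, a1', ha1', h11⟩ := hdec (m u1)
    have ha1X : a1 ∈ U.map (m : V →ₗ[F] V) := by
      apply ti_orth_self hB hN _ hXti (by omega)
      rintro _ ⟨u2, hu2, rfl⟩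
      change B (m u2) a1 = 0
      obtain ⟨a2, ha2, a2', ha2', h22⟩ := hdec (m u2)
      have e1 := hcon u1 hu1 a1 ha1 a1' ha1' h11.symm
      have e2 := hcon u2 hu2 a2 ha2 a2' ha2' h22.symm
      have e3 := hcon (u1 + u2) (U.add_mem hu1 hu2) (a1 + a2) (U.add_mem ha1 ha2) (a1' + a2')
        (U'.add_mem ha1' ha2') (by rw [map_add, ← h11, ← h22]; abel)
      have e4 : B (m u1) (m u2) = 0 := by
        rw [hmI]
        exact P.tiU u1 hu1 u2 hu2
      rw [← h11, ← h22] at e4
      simp only [map_add, LinearMap.add_apply] at e3 e4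
      have e5 : B a1' a2 = - B a2 a1' := alt_swap B hB _ _
      have e7 := P.tiU a1 ha1 a2 ha2
      have e8 := P.tiU' a1' ha1' a2' ha2'
      have e6 : B a1 a2' = 0 := by
        have : (2 : F) * B a1 a2' = 0 := by
          linear_combination e3 + e4 - e5 - e1 - e2 - e7 - e8
        rcases mul_eq_zero.mp this with h | h
        · exact absurd h h2
        · exact h
      rw [← h22, map_add, LinearMap.add_apply, P.tiU a2 ha2 a1 ha1, zero_add]
      exact swap_zero B hB e6
    obtain ⟨w, hw, hwa⟩ := ha1X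
    change m w = a1 at hwa
    have hw0 : w = 0 := by
      by_contra hne
      exact h1 w hw hne (hwa ▸ ha1)
    have ha10 : a1 = 0 := by rw [← hwa, hw0, map_zero]
    apply h1' u1 hu1 hu10
    rw [← h11, ha10, zero_add]
    exact ha1'
  obtain ⟨u0, hu0, a, ha, a', ha', hma, hne⟩ := hpol
  have ha0 : a ≠ 0 := fun h => hne (by rw [h, map_zero, LinearMap.zero_apply])
  obtain ⟨b, hb, hb0, hba, -⟩ := exists_ne_zero_orth2 B U' hk' a a
  have hab : B a b = 0 := swap_zero B hB hba
  have hh : ee B hB a b 0 ∈ M := hE a ha b hb hab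
  obtain ⟨y0, hy0, hy00, hy0a, hy0b⟩ := exists_ne_zero_orth2 B U hk (m⁻¹ a) (m⁻¹ b)
  have hmy0a : B (m y0) a = 0 := by
    have := hmI y0 (m⁻¹ a)
    rw [apply_inv_apply'] at this
    rw [this]
    exact hy0a
  have hmy0b : B (m y0) b = 0 := by
    have := hmI y0 (m⁻¹ b)
    rw [apply_inv_apply'] at this
    rw [this]
    exact hy0b
  have hfix : ee B hB a b 0 (m y0) = m y0 := by
    rw [ee_apply B hB hab, hmy0a, hmy0b]
    simp
  have hm'M : m⁻¹ * ee B hB a b 0 * m ∈ M := M.mul_mem (M.mul_mem (M.inv_mem hm) hh) hm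
  have hm'y0 : (m⁻¹ * ee B hB a b 0 * m) y0 = y0 := by
    simp only [LinearEquiv.mul_apply]
    rw [hfix, inv_apply_apply']
  obtain ⟨hst, -⟩ := stab_of_fix h2 P hk hk' hMI hE hTVU hTVU' hm'M hy0 hy00
    (by rw [hm'y0]; exact hy0)
  have hm'u0 := hst u0 hu0
  have hcomp : m ((m⁻¹ * ee B hB a b 0 * m) u0 - u0) = B a' a • b := by
    rw [map_sub]
    simp only [LinearEquiv.mul_apply]
    rw [apply_inv_apply', hma, ee_apply B hB hab]
    rw [map_add, LinearMap.add_apply, LinearMap.add_apply, hab, P.tiU' a' ha' b hb, hB a]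
    simp
  have hw : (m⁻¹ * ee B hB a b 0 * m) u0 - u0 ∈ U := U.sub_mem hm'u0 hu0
  have hw0 : (m⁻¹ * ee B hB a b 0 * m) u0 - u0 = 0 := by
    by_contra hne'
    apply h1' _ hw hne'
    rw [hcomp]
    exact U'.smul_mem _ hb
  rw [hw0, map_zero] at hcomp
  rcases smul_eq_zero.mp hcomp.symm with h | h
  · exact hne (swap_zero B hB h)
  · exact hb0 h

lemma spread {U U' : Submodule F V} (P : TIPair B U U') {M : Subgroup (V ≃ₗ[F] V)}
    (hE : EEin B hB M U U') {a : V} (ha : a ∈ U) (ha0 : a ≠ 0) (haTV : a ∈ TV B hB M) :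
    ∀ a1 ∈ U, a1 ∈ TV B hB M := by
  intro a1 ha1
  by_cases ha10 : a1 = 0
  · rw [ha10]
    exact TV_zero
  have hx : ∀ v ∈ U, v ≠ 0 → ∃ x ∈ U', B x v ≠ 0 := by
    intro v hv hv0
    by_contra hcon
    push Not at hcon
    exact hv0 (P.pairU v hv hcon)
  obtain ⟨b, hb, hba, hba1⟩ := exists_both_ne_zero B U' (hx a ha ha0) (hx a1 ha1 ha10)
  have hab : B a b ≠ 0 := alt_ne_zero_comm B hB hba
  have ha1b : B a1 b ≠ 0 := alt_ne_zero_comm B hB hba1
  obtain ⟨μ, hμdef⟩ : ∃ μ : F, μ = B a b / B a1 b := ⟨_, rfl⟩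
  have hμ : μ ≠ 0 := by rw [hμdef]; exact div_ne_zero hab ha1b
  have hcy : B (μ • a1 - a) ((B a b)⁻¹ • b) = 0 := by
    simp only [map_sub, map_smul, LinearMap.sub_apply, LinearMap.smul_apply, smul_eq_mul]
    rw [hμdef]
    field_simp
    ring
  have hcU : μ • a1 - a ∈ U := U.sub_mem (U.smul_mem _ ha1) ha
  have hh := hE _ hcU _ (U'.smul_mem _ hb) hcy
  have hmove : ee B hB (μ • a1 - a) ((B a b)⁻¹ • b) 0 a = μ • a1 := by
    rw [ee_apply B hB hcy]
    have e1 : B a ((B a b)⁻¹ • b) = 1 := by rw [map_smul, smul_eq_mul, inv_mul_cancel₀ hab]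
    have e2 : B a (μ • a1 - a) = 0 := P.tiU a ha _ hcU
    rw [e1, e2]
    simp
  have h3 := TV_map hh (ee_mem_isoGroup B hB _ _ _) haTV
  rw [hmove] at h3
  have h4 := TV_smul μ⁻¹ h3
  rwa [smul_smul, inv_mul_cancel₀ hμ, one_smul] at h4

lemma all_TV {U U' : Submodule F V} (P : TIPair B U U') {M : Subgroup (V ≃ₗ[F] V)}
    (hU : ∀ u ∈ U, u ∈ TV B hB M) (hU' : ∀ u ∈ U', u ∈ TV B hB M) :
    ∀ v, v ∈ TV B hB M := by
  have key : ∀ u ∈ U, ∀ u' ∈ U', B u' u ≠ 0 → u + u' ∈ TV B hB M := by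
    intro u hu u' hu' h
    have := TV_add_smul (hU u hu) (hU' u' hu') h 1
    rwa [one_smul, add_comm] at this
  intro v
  obtain ⟨u, hu, u', hu', rfl⟩ := Submodule.mem_sup.mp (P.sup ▸ Submodule.mem_top : v ∈ U ⊔ U')
  by_cases h : B u' u = 0
  · by_cases hu0 : u = 0
    · rw [hu0, zero_add]
      exact hU' u' hu'
    · obtain ⟨u'', hu'', hne⟩ : ∃ x ∈ U', B x u ≠ 0 := by
        by_contra hcon
        push Not at hcon
        exact hu0 (P.pairU u hu hcon)
      have h1 := key u hu u'' hu'' hne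
      have h2 := hU' (u' - u'') (U'.sub_mem hu' hu'')
      have h3 : B (u' - u'') (u + u'') ≠ 0 := by
        rw [map_sub, LinearMap.sub_apply, map_add, map_add, h, P.tiU' u' hu' u'' hu'',
          P.tiU' u'' hu'' u'' hu'']
        simpa using hne
      have h4 := TV_add_smul h1 h2 h3 1
      have e : (u' - u'') + (1 : F) • (u + u'') = u + u' := by
        rw [one_smul]
        abel
      rwa [e] at h4
  · exact key u hu u' hu' h

end General


section Swap

variable {B : LinearMap.BilinForm F V} (hB : B.IsAlt)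

lemma mem_ker_flip {x f : V} : x ∈ LinearMap.ker (B.flip f) ↔ B x f = 0 := by
  rw [LinearMap.mem_ker]
  rfl

include hB in
lemma swap_base {U U' : Submodule F V} (hU0 : U = ⊥)
    (hp' : ∀ u ∈ U', (∀ y ∈ U, B y u = 0) → u = 0) :
    ∃ g ∈ isoGroup B, (∀ u ∈ U, g u ∈ U') ∧ (∀ u ∈ U', g u ∈ U) ∧
      ∀ x, (∀ y ∈ U, B y x = 0) → (∀ y ∈ U', B y x = 0) → g x = x := by
  have hU'0 : ∀ u ∈ U', u = 0 := fun u hu => hp' u hu (fun y hy => by
    rw [hU0, Submodule.mem_bot] at hy
    rw [hy, map_zero, LinearMap.zero_apply])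
  refine ⟨1, one_mem _, ?_, ?_, fun x _ _ => rfl⟩
  · intro u hu
    rw [hU0, Submodule.mem_bot] at hu
    rw [hu, map_zero]
    exact U'.zero_mem
  · intro u hu
    rw [hU'0 u hu, map_zero]
    exact U.zero_mem

include hB in
theorem exists_swap_aux [FiniteDimensional F V] : ∀ (n : ℕ) (U U' : Submodule F V),
    finrank F U ≤ n →
    (∀ u ∈ U, ∀ v ∈ U, B u v = 0) → (∀ u ∈ U', ∀ v ∈ U', B u v = 0) →
    (∀ u ∈ U, (∀ y ∈ U', B y u = 0) → u = 0) → (∀ u ∈ U', (∀ y ∈ U, B y u = 0) → u = 0) →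
    ∃ g ∈ isoGroup B, (∀ u ∈ U, g u ∈ U') ∧ (∀ u ∈ U', g u ∈ U) ∧
      ∀ x, (∀ y ∈ U, B y x = 0) → (∀ y ∈ U', B y x = 0) → g x = x := by
  intro n
  induction n with
  | zero =>
    intro U U' hfr hU hU' hp hp'
    exact swap_base hB (Submodule.finrank_eq_zero.mp (by omega)) hp'
  | succ n ih =>
    intro U U' hfr hU hU' hp hp'
    by_cases hU0 : U = ⊥
    · exact swap_base hB hU0 hp'
    obtain ⟨e, heU, he0⟩ := Submodule.exists_mem_ne_zero_of_ne_bot hU0
    obtain ⟨f, hfU', hef⟩ : ∃ f ∈ U', B e f = 1 := by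
      by_contra hcon
      push Not at hcon
      apply he0
      apply hp e heU
      intro y hy
      by_contra hne
      have hne' : B e y ≠ 0 := fun h => hne (swap_zero B hB h)
      exact hcon ((B e y)⁻¹ • y) (U'.smul_mem _ hy)
        (by rw [map_smul, smul_eq_mul, inv_mul_cancel₀ hne'])
    have hfe : B f e = -1 := by rw [alt_swap B hB, hef]
    have hU1lt : finrank F (U ⊓ LinearMap.ker (B.flip f) : Submodule F V) < finrank F U := by
      apply Submodule.finrank_lt_finrank_of_lt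
      refine lt_of_le_of_ne inf_le_left ?_
      intro h
      have : e ∈ (U ⊓ LinearMap.ker (B.flip f) : Submodule F V) := by rw [h]; exact heU
      have h0 := mem_ker_flip.mp this.2
      rw [hef] at h0
      exact one_ne_zero h0
    obtain ⟨g1, hg1I, hg1U, hg1U', hg1fix⟩ := ih (U ⊓ LinearMap.ker (B.flip f))
      (U' ⊓ LinearMap.ker (B.flip e)) (by omega)
      (fun u hu v hv => hU u hu.1 v hv.1) (fun u hu v hv => hU' u hu.1 v hv.1)
      (by
        intro u hu hyp
        apply hp u hu.1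
        intro y hy
        have hmem : y - B e y • f ∈ (U' ⊓ LinearMap.ker (B.flip e) : Submodule F V) := by
          refine ⟨U'.sub_mem hy (U'.smul_mem _ hfU'), mem_ker_flip.mpr ?_⟩
          rw [map_sub, map_smul, LinearMap.sub_apply, LinearMap.smul_apply, smul_eq_mul, hfe,
            alt_swap B hB y e]
          ring
        have h0 := hyp _ hmem
        have huf : B f u = 0 := swap_zero B hB (mem_ker_flip.mp hu.2)
        rw [map_sub, map_smul, LinearMap.sub_apply, LinearMap.smul_apply, smul_eq_mul, huf,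
          mul_zero, sub_zero] at h0
        exact h0)
      (by
        intro u hu hyp
        apply hp' u hu.1
        intro y hy
        have hmem : y - B y f • e ∈ (U ⊓ LinearMap.ker (B.flip f) : Submodule F V) := by
          refine ⟨U.sub_mem hy (U.smul_mem _ heU), mem_ker_flip.mpr ?_⟩
          rw [map_sub, map_smul, LinearMap.sub_apply, LinearMap.smul_apply, smul_eq_mul, hef]
          ring
        have h0 := hyp _ hmem
        have hue : B e u = 0 := swap_zero B hB (mem_ker_flip.mp hu.2)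
        rw [map_sub, map_smul, LinearMap.sub_apply, LinearMap.smul_apply, smul_eq_mul, hue,
          mul_zero, sub_zero] at h0
        exact h0)
    have hg1e : g1 e = e := hg1fix e (fun y hy => hU y hy.1 e heU)
      (fun y hy => mem_ker_flip.mp hy.2)
    have hg1f : g1 f = f := hg1fix f (fun y hy => mem_ker_flip.mp hy.2)
      (fun y hy => hU' y hy.1 f hfU')
    have hwI : stv B hB e 1 * stv B hB f 1 * stv B hB e 1 ∈ isoGroup B :=
      (isoGroup B).mul_mem ((isoGroup B).mul_mem (stv_mem_isoGroup B hB _ _)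
        (stv_mem_isoGroup B hB _ _)) (stv_mem_isoGroup B hB _ _)
    have hwe : (stv B hB e 1 * stv B hB f 1 * stv B hB e 1) e = f := by
      simp only [LinearEquiv.mul_apply, stv_apply, map_add, map_smul, LinearMap.add_apply,
        LinearMap.smul_apply, smul_eq_mul, hB e, hB f, hef, hfe]
      module
    have hwf : (stv B hB e 1 * stv B hB f 1 * stv B hB e 1) f = -e := by
      simp only [LinearEquiv.mul_apply, stv_apply, map_add, map_smul, LinearMap.add_apply,
        LinearMap.smul_apply, smul_eq_mul, hB e, hB f, hef, hfe]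
      module
    have hwfix : ∀ x, B x e = 0 → B x f = 0 →
        (stv B hB e 1 * stv B hB f 1 * stv B hB e 1) x = x := by
      intro x hxe hxf
      simp only [LinearEquiv.mul_apply]
      rw [stv_fix B hB 1 hxe, stv_fix B hB 1 hxf, stv_fix B hB 1 hxe]
    refine ⟨g1 * (stv B hB e 1 * stv B hB f 1 * stv B hB e 1), (isoGroup B).mul_mem hg1I hwI,
      ?_, ?_, ?_⟩
    · intro u hu
      have hu1 : u - B u f • e ∈ (U ⊓ LinearMap.ker (B.flip f) : Submodule F V) := by
        refine ⟨U.sub_mem hu (U.smul_mem _ heU), mem_ker_flip.mpr ?_⟩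
        rw [map_sub, map_smul, LinearMap.sub_apply, LinearMap.smul_apply, smul_eq_mul, hef]
        ring
      have hw1 := hwfix (u - B u f • e) (hU _ hu1.1 e heU) (mem_ker_flip.mp hu1.2)
      have hdec : u = B u f • e + (u - B u f • e) := by abel
      have : (g1 * (stv B hB e 1 * stv B hB f 1 * stv B hB e 1)) u =
          B u f • f + g1 (u - B u f • e) := by
        conv_lhs => rw [hdec]
        rw [LinearEquiv.mul_apply, map_add, map_smul, hwe, hw1, map_add, map_smul, hg1f]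
      rw [this]
      exact U'.add_mem (U'.smul_mem _ hfU') (hg1U _ hu1).1
    · intro u hu
      have hu1 : u - B e u • f ∈ (U' ⊓ LinearMap.ker (B.flip e) : Submodule F V) := by
        refine ⟨U'.sub_mem hu (U'.smul_mem _ hfU'), mem_ker_flip.mpr ?_⟩
        rw [map_sub, map_smul, LinearMap.sub_apply, LinearMap.smul_apply, smul_eq_mul, hfe,
          alt_swap B hB u e]
        ring
      have hw1 := hwfix (u - B e u • f) (mem_ker_flip.mp hu1.2) (hU' _ hu1.1 f hfU')
      have hdec : u = B e u • f + (u - B e u • f) := by abel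
      have : (g1 * (stv B hB e 1 * stv B hB f 1 * stv B hB e 1)) u =
          B e u • (-e) + g1 (u - B e u • f) := by
        conv_lhs => rw [hdec]
        rw [LinearEquiv.mul_apply, map_add, map_smul, hwf, hw1, map_add, map_smul, map_neg, hg1e]
      rw [this]
      exact U.add_mem (U.smul_mem _ (U.neg_mem heU)) (hg1U' _ hu1).1
    · intro x hxU hxU'
      rw [LinearEquiv.mul_apply, hwfix x (swap_zero B hB (hxU e heU))
        (swap_zero B hB (hxU' f hfU'))]
      exact hg1fix x (fun y hy => hxU y hy.1) (fun y hy => hxU' y hy.1)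

end Swap


section Final

variable {B : LinearMap.BilinForm F V} (hB : B.IsAlt)

include hB in
/-- The stabiliser of a pair of complementary totally isotropic subspaces of dimension at least
three is a maximal subgroup of the symplectic group, in characteristic not two. -/
theorem maximal_tipair [FiniteDimensional F V] (hN : B.Nondegenerate) (h2 : (2 : F) ≠ 0) (k : ℕ)
    (hk : 3 ≤ k) (D : Fin 2 → Submodule F V) (hfr : ∀ i, finrank F (D i) = k)
    (hsup : iSup D = ⊤) (hts : ∀ i, ∀ u ∈ D i, ∀ v ∈ D i, B u v = 0)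
    (S : Subgroup (V ≃ₗ[F] V))
    (hS : ∀ g, g ∈ S ↔ ∃ σ : Equiv.Perm (Fin 2), ∀ i, (D i).map (g : V →ₗ[F] V) = D (σ i)) :
    (S ⊓ isoGroup B < isoGroup B) ∧
      ∀ M : Subgroup (V ≃ₗ[F] V), S ⊓ isoGroup B ≤ M → M ≤ isoGroup B →
        M = S ⊓ isoGroup B ∨ M = isoGroup B := by
  classical
  have hsup' : D 0 ⊔ D 1 = ⊤ := by
    rw [eq_top_iff, ← hsup]
    apply iSup_le
    intro i
    fin_cases i
    · exact le_sup_left
    · exact le_sup_right
  have hdec : ∀ x : V, ∃ a ∈ D 0, ∃ a' ∈ D 1, a + a' = x := fun x =>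
    Submodule.mem_sup.mp (hsup' ▸ Submodule.mem_top)
  have P : TIPair B (D 0) (D 1) := by
    refine ⟨hts 0, hts 1, hsup', ?_, ?_⟩
    · intro u hu hyp
      apply hN.2 u
      intro x
      obtain ⟨a, ha, a', ha', rfl⟩ := hdec x
      rw [map_add, LinearMap.add_apply, hts 0 a ha u hu, hyp a' ha', add_zero]
    · intro u hu hyp
      apply hN.2 u
      intro x
      obtain ⟨a, ha, a', ha', rfl⟩ := hdec x
      rw [map_add, LinearMap.add_apply, hts 1 a' ha' u hu, hyp a ha, add_zero]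
  have hkU : 3 ≤ finrank F (D 0) := by rw [hfr]; exact hk
  have hkU' : 3 ≤ finrank F (D 1) := by rw [hfr]; exact hk
  have hmapeq : ∀ (g : V ≃ₗ[F] V) (W W' : Submodule F V), finrank F W = finrank F W' →
      (∀ v ∈ W, g v ∈ W') → W.map (g : V →ₗ[F] V) = W' := by
    intro g W W' hf h
    apply Submodule.eq_of_le_of_finrank_eq
    · rintro _ ⟨v, hv, rfl⟩
      exact h v hv
    · rw [LinearEquiv.finrank_map_eq g W]
      exact hf
  have hS0 : ∀ g : V ≃ₗ[F] V, (∀ u ∈ D 0, g u ∈ D 0) → (∀ y ∈ D 1, g y ∈ D 1) → g ∈ S := by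
    intro g h h'
    rw [hS]
    refine ⟨1, ?_⟩
    intro i
    fin_cases i
    · exact hmapeq g _ _ rfl h
    · exact hmapeq g _ _ rfl h'
  have hS1 : ∀ g : V ≃ₗ[F] V, (∀ u ∈ D 0, g u ∈ D 1) → (∀ y ∈ D 1, g y ∈ D 0) → g ∈ S := by
    intro g h h'
    rw [hS]
    refine ⟨Equiv.swap 0 1, ?_⟩
    intro i
    fin_cases i
    · simp only [Fin.zero_eta, Equiv.swap_apply_left]
      exact hmapeq g _ _ (by rw [hfr, hfr]) h
    · simp only [Fin.mk_one, Equiv.swap_apply_right]
      exact hmapeq g _ _ (by rw [hfr, hfr]) h'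
  obtain ⟨s, hsI, hsU, hsU', -⟩ := exists_swap_aux hB (finrank F (D 0)) (D 0) (D 1) le_rfl
    P.tiU P.tiU' P.pairU P.pairU'
  have hsS : s ∈ S := hS1 s hsU hsU'
  have hEE : ∀ M : Subgroup (V ≃ₗ[F] V), S ⊓ isoGroup B ≤ M → EEin B hB M (D 0) (D 1) := by
    intro M hM a ha y hy hay
    apply hM
    refine ⟨hS0 _ ?_ ?_, ee_mem_isoGroup B hB _ _ _⟩
    · intro u hu
      rw [ee_apply B hB hay, P.tiU u hu a ha]
      simp only [zero_smul, add_zero, mul_zero]
      exact (D 0).add_mem hu ((D 0).smul_mem _ ha)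
    · intro u hu
      rw [ee_apply B hB hay, P.tiU' u hu y hy]
      simp only [zero_smul, add_zero, zero_mul]
      exact (D 1).add_mem hu ((D 1).smul_mem _ hy)
  constructor
  · refine lt_of_le_of_ne inf_le_right ?_
    intro heq
    obtain ⟨u', hu', hu'0, -, -⟩ := exists_ne_zero_orth2 B (D 1) hkU' 0 0
    obtain ⟨x, hx, hxu'⟩ : ∃ x ∈ D 0, B x u' ≠ 0 := by
      by_contra hcon
      push Not at hcon
      exact hu'0 (P.pairU' u' hu' hcon)
    have hg : stv B hB u' 1 ∈ S := by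
      have : stv B hB u' 1 ∈ S ⊓ isoGroup B := by
        rw [heq]
        exact stv_mem_isoGroup B hB _ _
      exact this.1
    rw [hS] at hg
    obtain ⟨σ, hσ⟩ := hg
    have hmem : stv B hB u' 1 x ∈ D (σ 0) := by
      rw [← hσ 0]
      exact ⟨x, hx, rfl⟩
    rw [stv_apply, one_mul] at hmem
    have h01 : ∀ j : Fin 2, j = 0 ∨ j = 1 := by decide
    have hbot := P.inf_eq_bot
    rcases h01 (σ 0) with h | h
    · rw [h] at hmem
      have h1 : B x u' • u' ∈ D 0 := by
        have := (D 0).sub_mem hmem hx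
        rwa [add_sub_cancel_left] at this
      have h3 : u' ∈ D 0 := by
        have := (D 0).smul_mem (B x u')⁻¹ h1
        rwa [smul_smul, inv_mul_cancel₀ hxu', one_smul] at this
      have : u' ∈ (D 0 ⊓ D 1 : Submodule F V) := ⟨h3, hu'⟩
      rw [hbot, Submodule.mem_bot] at this
      exact hu'0 this
    · rw [h] at hmem
      have h1 : x ∈ D 1 := by
        have := (D 1).sub_mem hmem ((D 1).smul_mem (B x u') hu')
        rwa [add_sub_cancel_right] at this
      have : x ∈ (D 0 ⊓ D 1 : Submodule F V) := ⟨hx, h1⟩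
      rw [hbot, Submodule.mem_bot] at this
      apply hxu'
      rw [this, map_zero, LinearMap.zero_apply]
  · intro M hSM hMI
    by_cases hMS : M ≤ S
    · left
      exact le_antisymm (le_inf hMS hMI) hSM
    · right
      obtain ⟨m, hmM, hmS⟩ := SetLike.not_le_iff_exists.mp hMS
      apply le_antisymm hMI
      apply isoGroup_le_of_stv_mem B hB hN M
      have hE := hEE M hSM
      have hsM : s ∈ M := hSM ⟨hsS, hsI⟩
      have hex : ∃ a, (a ∈ D 0 ∨ a ∈ D 1) ∧ a ≠ 0 ∧ a ∈ TV B hB M := by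
        by_contra hcon
        push Not at hcon
        have hTVU : ∀ a ∈ D 0, a ∈ TV B hB M → a = 0 := fun a ha h => by
          by_contra h0
          exact hcon a (Or.inl ha) h0 h
        have hTVU' : ∀ a ∈ D 1, a ∈ TV B hB M → a = 0 := fun a ha h => by
          by_contra h0
          exact hcon a (Or.inr ha) h0 h
        apply hmS
        by_cases c1 : ∃ a ∈ D 0, a ≠ 0 ∧ m a ∈ D 0
        · obtain ⟨a, ha, ha0, hma⟩ := c1
          obtain ⟨h1, h1'⟩ := stab_of_fix h2 P hkU hkU' hMI hE hTVU hTVU' hmM ha ha0 hma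
          exact hS0 m h1 h1'
        by_cases c3 : ∃ a ∈ D 0, a ≠ 0 ∧ m a ∈ D 1
        · obtain ⟨a, ha, ha0, hma⟩ := c3
          have hsm : s * m ∈ M := M.mul_mem hsM hmM
          obtain ⟨h1, h1'⟩ := stab_of_fix h2 P hkU hkU' hMI hE hTVU hTVU' hsm ha ha0
            (hsU' _ hma)
          have h3 := hS0 (s * m) h1 h1'
          have h4 : m = s⁻¹ * (s * m) := by group
          rw [h4]
          exact S.mul_mem (S.inv_mem hsS) h3
        · exfalso
          push Not at c1 c3
          exact general_position hB h2 hN P hkU hkU' (by rw [hfr, hfr]) hMI hE hTVU hTVU' hmM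
            (fun a ha ha0 => c1 a ha ha0) (fun a ha ha0 => c3 a ha ha0)
      obtain ⟨a, haU, ha0, haTV⟩ := hex
      have hall : (∀ u ∈ D 0, u ∈ TV B hB M) ∧ (∀ u ∈ D 1, u ∈ TV B hB M) := by
        rcases haU with ha | ha
        · have h1 := spread hB P hE ha ha0 haTV
          refine ⟨h1, ?_⟩
          intro u hu
          have := TV_map (M.inv_mem hsM) ((isoGroup B).inv_mem hsI) (h1 _ (hsU' u hu))
          rwa [inv_apply_apply'] at this
        · have h1 := spread hB P.symm hE.symm ha ha0 haTV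
          refine ⟨?_, h1⟩
          intro u hu
          have := TV_map (M.inv_mem hsM) ((isoGroup B).inv_mem hsI) (h1 _ (hsU u hu))
          rwa [inv_apply_apply'] at this
      intro v c
      exact all_TV hB P hall.1 hall.2 v c

end Final

end Cfsg.Agent.Lib.Helper94_SympTI
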