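import Mathlib
import Cfsg.Agent.Lib.Helper94_Symp
import Cfsg.Agent.Lib.Helper94_SympPerfect
import Cfsg.Agent.Lib.Helper94_SympTI

set_option autoImplicit false

/-!
# S2141 (min index of `PSp_{2m}(q)`, `q ≥ 3`): definitions (architect helper66)

Abstract model: `(V, B)` a vector space with an alternating form over a field `F`,
`G = isoGroup B ≤ V ≃ₗ[F] V` (from `Helper94_Symp`).  For a hyperbolic pair `(v, v')`,
`B v v' = 1`, `W = ⟨v, v'⟩^⊥`:

* `gv v w t = ee B hB v w t : x ↦ x + B x w • v + B x v • w + (t * B x v) • v`   (for `B v w = 0`),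
* `Xv v` root group, `Qv v` unipotent radical of `Pv v = Stab ⟨v⟩`,
  `Lv v v' = Tv v v' × Kv v v'` Levi complement, `Kv v v' ≅ Sp(W)`,
* the local data of a subgroup `H` at `(v, v')`: `Zv`, `Bbar`, `Dbar`, `KH`, `T1`.

See `pending/helper66/S2141_proof.md` (finding 176) for the mathematics.
-/

namespace Cfsg.Agent.Lib.Helper66_MI_SpDefs

open Cfsg.Agent.Lib.Helper94_Symp Cfsg.Agent.Lib.Helper94_SympTI
  Cfsg.Agent.Lib.Helper94_SympPerfect

/-- the number of points of a `2m`-dimensional space over `F_q` -/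
def Npts (m q : ℕ) : ℕ := (q ^ (2 * m) - 1) / (q - 1)

/-- the claimed minimal index of `Sp_{2m}(q)`, `q ≥ 3` (`27` for `Sp_4(3)`) -/
def Nmin (m q : ℕ) : ℕ := if m = 2 ∧ q = 3 then 27 else Npts m q

variable {F V : Type*} [Field F] [AddCommGroup V] [Module F V]
variable (B : LinearMap.BilinForm F V) (hB : B.IsAlt)

/-- `W = ⟨v, v'⟩^⊥` -/
def Wsub (v v' : V) : Submodule F V where
  carrier := {x | B x v = 0 ∧ B x v' = 0}
  add_mem' := by
    intro a b ha hb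
    refine ⟨?_, ?_⟩
    · show B (a + b) v = 0
      rw [map_add, LinearMap.add_apply, ha.1, hb.1, add_zero]
    · show B (a + b) v' = 0
      rw [map_add, LinearMap.add_apply, ha.2, hb.2, add_zero]
  zero_mem' := by
    refine ⟨?_, ?_⟩
    · show B 0 v = 0
      simp
    · show B 0 v' = 0
      simp
  smul_mem' := by
    intro c x hx
    refine ⟨?_, ?_⟩
    · show B (c • x) v = 0
      rw [map_smul, LinearMap.smul_apply, hx.1, smul_zero]
    · show B (c • x) v' = 0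
      rw [map_smul, LinearMap.smul_apply, hx.2, smul_zero]

theorem mem_Wsub {v v' x : V} : x ∈ Wsub B v v' ↔ B x v = 0 ∧ B x v' = 0 := Iff.rfl

/-- the stabiliser of the point `⟨v⟩` in `Sp` -/
def Pv (v : V) : Subgroup (V ≃ₗ[F] V) where
  carrier := {g | g ∈ isoGroup B ∧ ∃ c : F, c ≠ 0 ∧ g v = c • v}
  mul_mem' := by
    rintro a b ⟨ha, c, hc, hav⟩ ⟨hb, d, hd, hbv⟩
    refine ⟨(isoGroup B).mul_mem ha hb, d * c, mul_ne_zero hd hc, ?_⟩
    rw [LinearEquiv.mul_apply, hbv, map_smul, hav, smul_smul]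
  one_mem' := ⟨(isoGroup B).one_mem, 1, one_ne_zero, by simp⟩
  inv_mem' := by
    rintro a ⟨ha, c, hc, hav⟩
    refine ⟨(isoGroup B).inv_mem ha, c⁻¹, inv_ne_zero hc, ?_⟩
    have h1 : a⁻¹ (a v) = v := inv_apply_apply' a v
    rw [hav, map_smul] at h1
    calc a⁻¹ v = c⁻¹ • (c • a⁻¹ v) := by rw [smul_smul, inv_mul_cancel₀ hc, one_smul]
      _ = c⁻¹ • v := by rw [h1]

theorem mem_Pv {v : V} {g : V ≃ₗ[F] V} :
    g ∈ Pv B v ↔ g ∈ isoGroup B ∧ ∃ c : F, c ≠ 0 ∧ g v = c • v := Iff.rfl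

/-- the unipotent radical of `Pv`: isometries fixing `v` and acting trivially on `v^⊥ / ⟨v⟩` -/
def Qv (v : V) : Subgroup (V ≃ₗ[F] V) where
  carrier := {g | g ∈ isoGroup B ∧ g v = v ∧ ∀ x, B x v = 0 → ∃ c : F, g x = x + c • v}
  mul_mem' := by
    rintro a b ⟨ha, hav, ha2⟩ ⟨hb, hbv, hb2⟩
    refine ⟨(isoGroup B).mul_mem ha hb, ?_, ?_⟩
    · rw [LinearEquiv.mul_apply, hbv, hav]
    · intro x hx
      obtain ⟨d, hd⟩ := hb2 x hx
      obtain ⟨c, hc⟩ := ha2 x hx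
      refine ⟨c + d, ?_⟩
      rw [LinearEquiv.mul_apply, hd, map_add, map_smul, hav, hc, add_smul, add_assoc]
  one_mem' := ⟨(isoGroup B).one_mem, rfl, fun x _ => ⟨0, by simp⟩⟩
  inv_mem' := by
    rintro a ⟨ha, hav, ha2⟩
    have hv : a⁻¹ v = v := by
      calc a⁻¹ v = a⁻¹ (a v) := by rw [hav]
        _ = v := inv_apply_apply' a v
    refine ⟨(isoGroup B).inv_mem ha, hv, ?_⟩
    intro x hx
    obtain ⟨c, hc⟩ := ha2 x hx
    refine ⟨-c, ?_⟩
    have h1 : a⁻¹ (a x) = x := inv_apply_apply' a x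
    rw [hc, map_add, map_smul, hv] at h1
    rw [neg_smul, ← sub_eq_add_neg, eq_sub_iff_add_eq, h1]

theorem mem_Qv {v : V} {g : V ≃ₗ[F] V} :
    g ∈ Qv B v ↔ g ∈ isoGroup B ∧ g v = v ∧ ∀ x, B x v = 0 → ∃ c : F, g x = x + c • v := Iff.rfl

theorem Qv_le_Pv (v : V) : Qv B v ≤ Pv B v := fun _ hg => ⟨hg.1, 1, one_ne_zero, by rw [hg.2.1, one_smul]⟩

theorem Pv_le (v : V) : Pv B v ≤ isoGroup B := fun _ hg => hg.1

theorem Qv_le (v : V) : Qv B v ≤ isoGroup B := fun _ hg => hg.1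

/-- the root group `X_v = {stv v t}` -/
def Xv (v : V) : Subgroup (V ≃ₗ[F] V) where
  carrier := {g | ∃ t : F, g = stv B hB v t}
  mul_mem' := by
    rintro a b ⟨s, rfl⟩ ⟨t, rfl⟩
    exact ⟨s + t, stv_mul B hB v s t⟩
  one_mem' := ⟨0, by ext x; simp⟩
  inv_mem' := by
    rintro a ⟨s, rfl⟩
    exact ⟨-s, stv_inv B hB v s⟩

theorem mem_Xv {v : V} {g : V ≃ₗ[F] V} : g ∈ Xv B hB v ↔ ∃ t : F, g = stv B hB v t := Iff.rfl

theorem stv_mem_Xv (v : V) (t : F) : stv B hB v t ∈ Xv B hB v := ⟨t, rfl⟩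

theorem Xv_le (v : V) : Xv B hB v ≤ isoGroup B := by
  rintro _ ⟨t, rfl⟩
  exact stv_mem_isoGroup B hB v t

/-- the Levi complement `L = Stab ⟨v⟩ ∩ Stab ⟨v'⟩` -/
def Lv (v v' : V) : Subgroup (V ≃ₗ[F] V) := Pv B v ⊓ Pv B v'

theorem mem_Lv {v v' : V} {g : V ≃ₗ[F] V} :
    g ∈ Lv B v v' ↔ g ∈ isoGroup B ∧ (∃ c : F, c ≠ 0 ∧ g v = c • v) ∧
      ∃ c : F, c ≠ 0 ∧ g v' = c • v' := by
  constructor
  · rintro ⟨⟨h1, h2⟩, -, h3⟩
    exact ⟨h1, h2, h3⟩
  · rintro ⟨h1, h2, h3⟩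
    exact ⟨⟨h1, h2⟩, h1, h3⟩

/-- `K = {g ∈ Sp : g v = v, g v' = v'} ≅ Sp(W)` -/
def Kv (v v' : V) : Subgroup (V ≃ₗ[F] V) where
  carrier := {g | g ∈ isoGroup B ∧ g v = v ∧ g v' = v'}
  mul_mem' := by
    rintro a b ⟨ha, ha1, ha2⟩ ⟨hb, hb1, hb2⟩
    refine ⟨(isoGroup B).mul_mem ha hb, ?_, ?_⟩
    · rw [LinearEquiv.mul_apply, hb1, ha1]
    · rw [LinearEquiv.mul_apply, hb2, ha2]
  one_mem' := ⟨(isoGroup B).one_mem, rfl, rfl⟩
  inv_mem' := by
    rintro a ⟨ha, ha1, ha2⟩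
    refine ⟨(isoGroup B).inv_mem ha, ?_, ?_⟩
    · calc a⁻¹ v = a⁻¹ (a v) := by rw [ha1]
        _ = v := inv_apply_apply' a v
    · calc a⁻¹ v' = a⁻¹ (a v') := by rw [ha2]
        _ = v' := inv_apply_apply' a v'

theorem mem_Kv {v v' : V} {g : V ≃ₗ[F] V} :
    g ∈ Kv B v v' ↔ g ∈ isoGroup B ∧ g v = v ∧ g v' = v' := Iff.rfl

theorem Kv_le_Lv (v v' : V) : Kv B v v' ≤ Lv B v v' := by
  rintro g ⟨h1, h2, h3⟩
  exact (mem_Lv B).2 ⟨h1, ⟨1, one_ne_zero, by rw [h2, one_smul]⟩, ⟨1, one_ne_zero, by rw [h3, one_smul]⟩⟩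

theorem Kv_le (v v' : V) : Kv B v v' ≤ isoGroup B := fun _ hg => hg.1

/-- the torus `T = {h(λ)} = {g ∈ L : g = id on W}` -/
def Tv (v v' : V) : Subgroup (V ≃ₗ[F] V) where
  carrier := {g | g ∈ Lv B v v' ∧ ∀ w ∈ Wsub B v v', g w = w}
  mul_mem' := by
    rintro a b ⟨ha, ha2⟩ ⟨hb, hb2⟩
    refine ⟨(Lv B v v').mul_mem ha hb, ?_⟩
    intro w hw
    rw [LinearEquiv.mul_apply, hb2 w hw, ha2 w hw]
  one_mem' := ⟨(Lv B v v').one_mem, fun _ _ => rfl⟩
  inv_mem' := by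
    rintro a ⟨ha, ha2⟩
    refine ⟨(Lv B v v').inv_mem ha, ?_⟩
    intro w hw
    calc a⁻¹ w = a⁻¹ (a w) := by rw [ha2 w hw]
      _ = w := inv_apply_apply' a w

theorem mem_Tv {v v' : V} {g : V ≃ₗ[F] V} :
    g ∈ Tv B v v' ↔ g ∈ Lv B v v' ∧ ∀ w ∈ Wsub B v v', g w = w := Iff.rfl

theorem Tv_le_Lv (v v' : V) : Tv B v v' ≤ Lv B v v' := fun _ hg => hg.1

/-- `gv v w t = g_v(w,t) : x ↦ x + B x w • v + B x v • w + (t * B x v) • v` (for `B v w = 0`);
this is `Helper94_SympTI.ee`. -/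
def gv (v w : V) (t : F) : V ≃ₗ[F] V := ee B hB v w t

theorem gv_apply {v w : V} (h : B v w = 0) (t : F) (x : V) :
    gv B hB v w t x = x + B x w • v + B x v • w + (t * B x v) • v := ee_apply B hB h t x

theorem gv_mem_isoGroup (v w : V) (t : F) : gv B hB v w t ∈ isoGroup B := ee_mem_isoGroup B hB v w t

theorem conj_gv {g : V ≃ₗ[F] V} (hg : g ∈ isoGroup B) (v w : V) (t : F) :
    g * gv B hB v w t * g⁻¹ = gv B hB (g v) (g w) t := conj_ee B hB hg v w t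

/-- product rule: `g_v(w,t) g_v(w',t') = g_v(w+w', t+t'+B(w',w))` -/
theorem gv_mul {v w w' : V} (h : B v w = 0) (h' : B v w' = 0) (t t' : F) :
    gv B hB v w t * gv B hB v w' t' = gv B hB v (w + w') (t + t' + B w' w) := by
  have h'' : B v (w + w') = 0 := by rw [map_add, h, h', add_zero]
  have hwv : B w v = 0 := by rw [alt_swap B hB, h, neg_zero]
  have hwv' : B w' v = 0 := by rw [alt_swap B hB, h', neg_zero]
  ext x
  simp only [LinearEquiv.mul_apply, gv_apply B hB h, gv_apply B hB h', gv_apply B hB h'', map_add,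
    map_smul, LinearMap.add_apply, LinearMap.smul_apply, smul_eq_mul, hB v, hwv, hwv', h, h',
    mul_zero, add_zero, zero_add]
  module

theorem gv_zero_zero (v : V) : gv B hB v 0 0 = 1 := by
  ext x
  rw [gv_apply B hB (by simp : B v 0 = 0)]
  simp

theorem gv_zero (v : V) (t : F) : gv B hB v 0 t = stv B hB v t := by
  ext x
  rw [gv_apply B hB (by simp : B v 0 = 0)]
  simp

theorem gv_inv {v w : V} (h : B v w = 0) (t : F) :
    (gv B hB v w t)⁻¹ = gv B hB v (-w) (-t) := by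
  have h' : B v (-w) = 0 := by rw [map_neg, h, neg_zero]
  apply inv_eq_of_mul_eq_one_right
  rw [gv_mul B hB h h']
  have e1 : w + -w = 0 := add_neg_cancel w
  have e2 : t + -t + B (-w) w = 0 := by
    rw [map_neg, LinearMap.neg_apply, hB w]; ring
  rw [e1, e2, gv_zero_zero]

theorem gv_mem_Qv {v w : V} (h : B v w = 0) (t : F) : gv B hB v w t ∈ Qv B v := by
  have hwv : B w v = 0 := by rw [alt_swap B hB, h, neg_zero]
  refine ⟨gv_mem_isoGroup B hB v w t, ?_, ?_⟩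
  · rw [gv_apply B hB h]
    simp [hB v, alt_swap B hB v w, hwv]
  · intro x hx
    refine ⟨B x w, ?_⟩
    rw [gv_apply B hB h, hx]
    simp

/-- `Z = {t : stv v t ∈ H}`, an additive subgroup of `F` -/
def Zv (H : Subgroup (V ≃ₗ[F] V)) (v : V) : AddSubgroup F where
  carrier := {t | stv B hB v t ∈ H}
  add_mem' := by
    intro a b ha hb
    show stv B hB v (a + b) ∈ H
    rw [← stv_mul]
    exact H.mul_mem ha hb
  zero_mem' := by
    show stv B hB v 0 ∈ H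
    have : stv B hB v 0 = 1 := by ext x; simp
    rw [this]
    exact H.one_mem
  neg_mem' := by
    intro a ha
    show stv B hB v (-a) ∈ H
    rw [← stv_inv]
    exact H.inv_mem ha

theorem mem_Zv {H : Subgroup (V ≃ₗ[F] V)} {v : V} {t : F} :
    t ∈ Zv B hB H v ↔ stv B hB v t ∈ H := Iff.rfl

/-- `Bbar = {w ∈ W : g_v(w,t) ∈ H for some t}`, an additive subgroup of `V` (contained in `W`) -/
def Bbar (H : Subgroup (V ≃ₗ[F] V)) (v v' : V) : AddSubgroup V where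
  carrier := {w | w ∈ Wsub B v v' ∧ ∃ t : F, gv B hB v w t ∈ H}
  add_mem' := by
    rintro a b ⟨ha, s, hs⟩ ⟨hb, t, ht⟩
    refine ⟨(Wsub B v v').add_mem ha hb, s + t + B b a, ?_⟩
    have h1 : B v a = 0 := by rw [alt_swap B hB, ha.1, neg_zero]
    have h2 : B v b = 0 := by rw [alt_swap B hB, hb.1, neg_zero]
    rw [← gv_mul B hB h1 h2]
    exact H.mul_mem hs ht
  zero_mem' := ⟨(Wsub B v v').zero_mem, 0, by rw [gv_zero_zero]; exact H.one_mem⟩
  neg_mem' := by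
    rintro a ⟨ha, s, hs⟩
    refine ⟨(Wsub B v v').neg_mem ha, -s, ?_⟩
    have h1 : B v a = 0 := by rw [alt_swap B hB, ha.1, neg_zero]
    rw [← gv_inv B hB h1]
    exact H.inv_mem hs

theorem mem_Bbar {H : Subgroup (V ≃ₗ[F] V)} {v v' w : V} :
    w ∈ Bbar B hB H v v' ↔ w ∈ Wsub B v v' ∧ ∃ t : F, gv B hB v w t ∈ H := Iff.rfl

/-- `Pv v` normalises `Qv v` -/
theorem conj_mem_Qv {v : V} {l g : V ≃ₗ[F] V} (hl : l ∈ Pv B v) (hg : g ∈ Qv B v) :
    l * g * l⁻¹ ∈ Qv B v := by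
  obtain ⟨hl1, c, hc, hlv⟩ := hl
  obtain ⟨hg1, hgv, hg2⟩ := hg
  have hlinv : l⁻¹ v = c⁻¹ • v := by
    have h1 : l⁻¹ (l v) = v := inv_apply_apply' l v
    rw [hlv, map_smul] at h1
    calc l⁻¹ v = c⁻¹ • (c • l⁻¹ v) := by rw [smul_smul, inv_mul_cancel₀ hc, one_smul]
      _ = c⁻¹ • v := by rw [h1]
  refine ⟨(isoGroup B).mul_mem ((isoGroup B).mul_mem hl1 hg1) ((isoGroup B).inv_mem hl1), ?_, ?_⟩
  · rw [LinearEquiv.mul_apply, LinearEquiv.mul_apply, hlinv, map_smul, hgv, map_smul, hlv,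
      smul_smul, inv_mul_cancel₀ hc, one_smul]
  · intro x hx
    have hx' : B (l⁻¹ x) v = 0 := by
      rw [isoGroup_inv_apply hl1, hlv, map_smul, hx, smul_zero]
    obtain ⟨d, hd⟩ := hg2 (l⁻¹ x) hx'
    refine ⟨d * c, ?_⟩
    rw [LinearEquiv.mul_apply, LinearEquiv.mul_apply, hd, map_add, map_smul, hlv,
      apply_inv_apply', smul_smul]

/-- `Dbar = {l ∈ L : Q_v l ∩ H ≠ ∅}`, the image of `H ∩ P_v` in `P_v / Q_v ≅ L` -/
def Dbar (H : Subgroup (V ≃ₗ[F] V)) (v v' : V) : Subgroup (V ≃ₗ[F] V) where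
  carrier := {l | l ∈ Lv B v v' ∧ ∃ g ∈ Qv B v, g * l ∈ H}
  mul_mem' := by
    rintro a b ⟨ha, g, hg, hga⟩ ⟨hb, g', hg', hgb⟩
    refine ⟨(Lv B v v').mul_mem ha hb, g * (a * g' * a⁻¹), ?_, ?_⟩
    · exact (Qv B v).mul_mem hg (conj_mem_Qv B ha.1 hg')
    · have : g * (a * g' * a⁻¹) * (a * b) = (g * a) * (g' * b) := by group
      rw [this]
      exact H.mul_mem hga hgb
  one_mem' := ⟨(Lv B v v').one_mem, 1, (Qv B v).one_mem, by rw [mul_one]; exact H.one_mem⟩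
  inv_mem' := by
    rintro a ⟨ha, g, hg, hga⟩
    refine ⟨(Lv B v v').inv_mem ha, a⁻¹ * g⁻¹ * a⁻¹⁻¹, ?_, ?_⟩
    · exact conj_mem_Qv B ((Lv B v v').inv_mem ha).1 ((Qv B v).inv_mem hg)
    · have : a⁻¹ * g⁻¹ * a⁻¹⁻¹ * a⁻¹ = (g * a)⁻¹ := by group
      rw [this]
      exact H.inv_mem hga

theorem mem_Dbar {H : Subgroup (V ≃ₗ[F] V)} {v v' : V} {l : V ≃ₗ[F] V} :
    l ∈ Dbar B H v v' ↔ l ∈ Lv B v v' ∧ ∃ g ∈ Qv B v, g * l ∈ H := Iff.rfl

theorem Dbar_le_Lv (H : Subgroup (V ≃ₗ[F] V)) (v v' : V) : Dbar B H v v' ≤ Lv B v v' :=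
  fun _ hl => hl.1

/-- `K_H = Dbar ∩ K` (called `K_v` in the paper proof) -/
def KH (H : Subgroup (V ≃ₗ[F] V)) (v v' : V) : Subgroup (V ≃ₗ[F] V) := Dbar B H v v' ⊓ Kv B v v'

theorem KH_le_Kv (H : Subgroup (V ≃ₗ[F] V)) (v v' : V) : KH B H v v' ≤ Kv B v v' := inf_le_right

/-- `T_1 = {λ : some l ∈ Dbar has l v = λ v}`, a subgroup of `Fˣ` -/
def T1 (H : Subgroup (V ≃ₗ[F] V)) (v v' : V) : Subgroup Fˣ where
  carrier := {c | ∃ l ∈ Dbar B H v v', l v = (c : F) • v}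
  mul_mem' := by
    rintro a b ⟨l, hl, hlv⟩ ⟨l', hl', hlv'⟩
    refine ⟨l * l', (Dbar B H v v').mul_mem hl hl', ?_⟩
    rw [LinearEquiv.mul_apply, hlv', map_smul, hlv, smul_smul, Units.val_mul, mul_comm]
  one_mem' := ⟨1, (Dbar B H v v').one_mem, by simp⟩
  inv_mem' := by
    rintro a ⟨l, hl, hlv⟩
    refine ⟨l⁻¹, (Dbar B H v v').inv_mem hl, ?_⟩
    have h1 : l⁻¹ (l v) = v := inv_apply_apply' l v
    rw [hlv, map_smul] at h1
    calc l⁻¹ v = ((a⁻¹ : Fˣ) : F) • ((a : F) • l⁻¹ v) := by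
          rw [smul_smul, ← Units.val_mul, inv_mul_cancel, Units.val_one, one_smul]
      _ = ((a⁻¹ : Fˣ) : F) • v := by rw [h1]

theorem mem_T1 {H : Subgroup (V ≃ₗ[F] V)} {v v' : V} {c : Fˣ} :
    c ∈ T1 B H v v' ↔ ∃ l ∈ Dbar B H v v', l v = (c : F) • v := Iff.rfl

/-- `H` is in *Case II*: it contains no root group -/
def NoRoot (H : Subgroup (V ≃ₗ[F] V)) : Prop := ∀ u : V, u ≠ 0 → ¬ Xv B hB u ≤ H

/-- conjugate subgroup `x H x⁻¹` -/
def conjSub (x : V ≃ₗ[F] V) (H : Subgroup (V ≃ₗ[F] V)) : Subgroup (V ≃ₗ[F] V) :=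
  H.map (MulAut.conj x).toMonoidHom

theorem mem_conjSub {x g : V ≃ₗ[F] V} {H : Subgroup (V ≃ₗ[F] V)} :
    g ∈ conjSub x H ↔ x⁻¹ * g * x ∈ H := by
  constructor
  · rintro ⟨h, hh, rfl⟩
    have : x⁻¹ * ((MulAut.conj x).toMonoidHom h) * x = h := by
      simp [MulAut.conj_apply]; group
    rw [this]; exact hh
  · intro h
    refine ⟨x⁻¹ * g * x, h, ?_⟩
    simp [MulAut.conj_apply]; group


/-- standing assumptions: `(V, B)` is a nondegenerate alternating space of dimension `2m` over a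
field with `q` elements -/
structure Setting (B : LinearMap.BilinForm F V) (m q : ℕ) : Prop where
  alt : B.IsAlt
  nondeg : B.Nondegenerate
  card : Nat.card F = q
  dim : Module.finrank F V = 2 * m

/-- a potential counterexample in Case II: a subgroup of `Sp` of index `< N` containing no root
group -/
structure Small (N : ℕ) (H : Subgroup (V ≃ₗ[F] V)) : Prop where
  le : H ≤ isoGroup B
  noRoot : NoRoot B hB H
  idx : H.relIndex (isoGroup B) < N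

/-- every proper subgroup of `K = Kv v v'` has index at least `N` in `K` -/
def KMin (v v' : V) (N : ℕ) : Prop :=
  ∀ K' : Subgroup (V ≃ₗ[F] V), K' ≤ Kv B v v' → K' ≠ Kv B v v' → N ≤ K'.relIndex (Kv B v v')

/-- `K = Kv v v'` is perfect -/
def KPerfect (v v' : V) : Prop := Kv B v v' ≤ ⁅Kv B v v', Kv B v v'⁆

/-- a lower bound for the index of a proper subgroup of `SL_2(q)`, `q ≥ 4` -/
def sl2min (q : ℕ) : ℕ := if q = 5 ∨ q = 7 ∨ q = 9 ∨ q = 11 then 5 else q + 1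


/-- the annihilator of an additive subgroup `X` for the pairing `V × V → F / Z'`
(used with `Z'` of index 2 in characteristic 2) -/
def ann (Z' : AddSubgroup F) (X : AddSubgroup V) : AddSubgroup V where
  carrier := {a | ∀ x ∈ X, B a x ∈ Z'}
  add_mem' := by
    intro a b ha hb x hx
    rw [map_add, LinearMap.add_apply]
    exact Z'.add_mem (ha x hx) (hb x hx)
  zero_mem' := by
    intro x _
    simp
  neg_mem' := by
    intro a ha x hx
    rw [map_neg, LinearMap.neg_apply]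
    exact Z'.neg_mem (ha x hx)

theorem mem_ann {Z' : AddSubgroup F} {X : AddSubgroup V} {a : V} :
    a ∈ ann B Z' X ↔ ∀ x ∈ X, B a x ∈ Z' := Iff.rfl

end Cfsg.Agent.Lib.Helper66_MI_SpDefs
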