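import Mathlib
import Cfsg.Agent.Lib.Helper66_MI_SpDefs

set_option autoImplicit false

/-!
# S2141 package GV (architect helper66): algebra of the elements `gv v w t = g_v(w,t)`
-/

namespace Cfsg.Agent.Lib.Helper10_MISp_GV

open Cfsg.Agent.Lib.Helper94_Symp Cfsg.Agent.Lib.Helper94_SympTI
  Cfsg.Agent.Lib.Helper94_SympPerfect Cfsg.Agent.Lib.Helper66_MI_SpDefs

variable {F V : Type*} [Field F] [AddCommGroup V] [Module F V]
variable (B : LinearMap.BilinForm F V) (hB : B.IsAlt)

theorem gv_add_smul_self {v w : V} (hw : B v w = 0) (c t : F) :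
    gv B hB v (w + c • v) t = gv B hB v w (t + 2 * c) := by
  have h' : B v (w + c • v) = 0 := by
    rw [map_add, map_smul, hw, hB v, smul_zero, add_zero]
  ext x
  simp only [gv_apply B hB hw, gv_apply B hB h', map_add, map_smul, smul_eq_mul]
  module

theorem gv_conj_gv {v a w : V} (ha : B v a = 0) (hw : B v w = 0) (s t : F) :
    gv B hB v a s * gv B hB v w t * (gv B hB v a s)⁻¹ = gv B hB v w (t + 2 * B w a) := by
  have hna : B v (-a) = 0 := by rw [map_neg, ha, neg_zero]
  have haw : B v (a + w) = 0 := by rw [map_add, ha, hw, add_zero]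
  rw [gv_inv B hB ha, gv_mul B hB ha hw, gv_mul B hB haw hna]
  have e1 : a + w + -a = w := by abel
  have e2 : s + t + B w a + -s + B (-a) (a + w) = t + 2 * B w a := by
    rw [map_neg, LinearMap.neg_apply, map_add, hB a, alt_swap B hB a w]
    ring
  rw [e1, e2]

/-- an isometry with `l v = c • v` acts on `Q_v` by `g_v(w,t) ↦ g_v(c • l w, c² t)` -/
theorem gv_conj_of_eigen {v w : V} {l : V ≃ₗ[F] V} (hl : l ∈ isoGroup B) {c : F}
    (hlv : l v = c • v) (hw : B v w = 0) (t : F) :
    l * gv B hB v w t * l⁻¹ = gv B hB v (c • l w) (c * c * t) := by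
  rw [conj_gv B hB hl, hlv]
  have h0 : c * B v (l w) = 0 := by
    have := hl v w
    rw [hlv, map_smul, LinearMap.smul_apply, smul_eq_mul, hw] at this
    exact this
  have h1 : B (c • v) (l w) = 0 := by
    rw [map_smul, LinearMap.smul_apply, smul_eq_mul, h0]
  have h2 : B v (c • l w) = 0 := by
    rw [map_smul, smul_eq_mul, h0]
  ext x
  simp only [gv_apply B hB h1, gv_apply B hB h2, map_smul, smul_eq_mul]
  module

theorem gv_apply_snd {v v' w : V} (hvv : B v v' = 1) (hw : w ∈ Wsub B v v') (t : F) :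
    gv B hB v w t v' = v' - w - t • v := by
  have h1 : B v w = 0 := by rw [alt_swap B hB, hw.1, neg_zero]
  have h2 : B v' w = 0 := by rw [alt_swap B hB, hw.2, neg_zero]
  have h3 : B v' v = -1 := by rw [alt_swap B hB, hvv]
  rw [gv_apply B hB h1, h2, h3]
  module

theorem gv_apply_W {v v' w x : V} (hw : w ∈ Wsub B v v') (hx : x ∈ Wsub B v v') (t : F) :
    gv B hB v w t x = x + B x w • v := by
  have h1 : B v w = 0 := by rw [alt_swap B hB, hw.1, neg_zero]
  rw [gv_apply B hB h1, hx.1]
  module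

/-- commutator of two elements of `Q_v` -/
theorem gv_comm {v w w' : V} (hw : B v w = 0) (hw' : B v w' = 0) (t t' : F) :
    gv B hB v w t * gv B hB v w' t' * (gv B hB v w t)⁻¹ * (gv B hB v w' t')⁻¹ =
      stv B hB v (2 * B w' w) := by
  rw [gv_conj_gv B hB hw hw', gv_inv B hB hw']
  have hn : B v (-w') = 0 := by rw [map_neg, hw', neg_zero]
  rw [gv_mul B hB hw' hn, ← gv_zero]
  have e1 : w' + -w' = 0 := add_neg_cancel w'
  have e2 : t' + 2 * B w' w + -t' + B (-w') w' = 2 * B w' w := by
    rw [map_neg, LinearMap.neg_apply, hB w']; ring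
  rw [e1, e2]

end Cfsg.Agent.Lib.Helper10_MISp_GV
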