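import Mathlib
import Cfsg.Agent.Lib.Helper66_MI_SpDefs

set_option autoImplicit false

/-!
# S2141 foundation: `K_v ≅ Sp(W)` for `W = ⟨v, v'⟩^⊥` (package KISO of helper66)
-/

namespace Cfsg.Agent.Lib.Helper94_MI_SpKiso

open Module Cfsg.Agent.Lib.Helper94_Symp Cfsg.Agent.Lib.Helper94_SympTI
  Cfsg.Agent.Lib.Helper94_SympPerfect Cfsg.Agent.Lib.Helper66_MI_SpDefs

variable {F V : Type*} [Field F] [AddCommGroup V] [Module F V]
variable (B : LinearMap.BilinForm F V) (hB : B.IsAlt)

/-- the projection onto `W = ⟨v, v'⟩^⊥` along `⟨v, v'⟩` (as an endomorphism of `V`) -/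
def piV (v v' : V) : V →ₗ[F] V :=
  LinearMap.id - (B.flip v').smulRight v + (B.flip v).smulRight v'

lemma piV_apply (v v' x : V) : piV B v v' x = x - B x v' • v + B x v • v' := by
  simp [piV]

include hB in
lemma swap_one {v v' : V} (hvv : B v v' = 1) : B v' v = -1 := by
  rw [alt_swap B hB, hvv]

include hB in
lemma piV_mem {v v' : V} (hvv : B v v' = 1) (x : V) : piV B v v' x ∈ Wsub B v v' := by
  have h1 := swap_one B hB hvv
  rw [mem_Wsub, piV_apply]
  constructor
  · simp only [map_add, map_sub, map_smul, LinearMap.add_apply, LinearMap.sub_apply,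
      LinearMap.smul_apply, smul_eq_mul, hB v, h1]
    ring
  · simp only [map_add, map_sub, map_smul, LinearMap.add_apply, LinearMap.sub_apply,
      LinearMap.smul_apply, smul_eq_mul, hB v', hvv]
    ring

lemma piV_of_mem {v v' x : V} (hx : x ∈ Wsub B v v') : piV B v v' x = x := by
  rw [piV_apply, hx.1, hx.2]
  simp

/-- decomposition `x = B x v' • v - B x v • v' + π x` -/
lemma decomp (v v' x : V) : x = B x v' • v - B x v • v' + piV B v v' x := by
  rw [piV_apply]; abel

include hB in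
/-- the form in terms of the decomposition -/
lemma form_decomp {v v' : V} (hvv : B v v' = 1) (x y : V) :
    B x y = B x v * B y v' - B x v' * B y v + B (piV B v v' x) (piV B v v' y) := by
  have h1 := swap_one B hB hvv
  rw [piV_apply, piV_apply]
  simp only [map_add, map_sub, map_smul, LinearMap.add_apply, LinearMap.sub_apply,
    LinearMap.smul_apply, smul_eq_mul, hB v, hB v', hvv, h1, alt_swap B hB v y,
    alt_swap B hB v' y]
  ring

/-- the projection as a map to `W` -/
def piW {v v' : V} (hvv : B v v' = 1) : V →ₗ[F] ↥(Wsub B v v') :=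
  (piV B v v').codRestrict (Wsub B v v') (piV_mem B hB hvv)

lemma piW_coe {v v' : V} (hvv : B v v' = 1) (x : V) :
    ((piW B hB hvv x : ↥(Wsub B v v')) : V) = piV B v v' x := rfl

/-- extension of an endomorphism of `W` by the identity on `⟨v, v'⟩` -/
def extL {v v' : V} (hvv : B v v' = 1) (h : ↥(Wsub B v v') →ₗ[F] ↥(Wsub B v v')) : V →ₗ[F] V :=
  (B.flip v').smulRight v - (B.flip v).smulRight v' +
    (Wsub B v v').subtype ∘ₗ h ∘ₗ piW B hB hvv

lemma extL_apply {v v' : V} (hvv : B v v' = 1) (h : ↥(Wsub B v v') →ₗ[F] ↥(Wsub B v v'))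
    (x : V) :
    extL B hB hvv h x = B x v' • v - B x v • v' + ((h (piW B hB hvv x) : ↥(Wsub B v v')) : V) := by
  simp [extL]

lemma extL_form_v {v v' : V} (hvv : B v v' = 1) (h : ↥(Wsub B v v') →ₗ[F] ↥(Wsub B v v'))
    (x : V) : B (extL B hB hvv h x) v = B x v := by
  have h1 := swap_one B hB hvv
  have hw := (h (piW B hB hvv x)).2
  rw [extL_apply]
  simp only [map_add, map_sub, map_smul, LinearMap.add_apply, LinearMap.sub_apply,
    LinearMap.smul_apply, smul_eq_mul, hB v, h1, hw.1]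
  ring

lemma extL_form_v' {v v' : V} (hvv : B v v' = 1) (h : ↥(Wsub B v v') →ₗ[F] ↥(Wsub B v v'))
    (x : V) : B (extL B hB hvv h x) v' = B x v' := by
  have hw := (h (piW B hB hvv x)).2
  rw [extL_apply]
  simp only [map_add, map_sub, map_smul, LinearMap.add_apply, LinearMap.sub_apply,
    LinearMap.smul_apply, smul_eq_mul, hB v', hvv, hw.2]
  ring

lemma extL_piW {v v' : V} (hvv : B v v' = 1) (h : ↥(Wsub B v v') →ₗ[F] ↥(Wsub B v v'))
    (x : V) : piW B hB hvv (extL B hB hvv h x) = h (piW B hB hvv x) := by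
  apply Subtype.ext
  rw [piW_coe, piV_apply, extL_form_v, extL_form_v', extL_apply]
  abel

lemma extL_comp {v v' : V} (hvv : B v v' = 1) (h h' : ↥(Wsub B v v') →ₗ[F] ↥(Wsub B v v')) :
    extL B hB hvv h ∘ₗ extL B hB hvv h' = extL B hB hvv (h ∘ₗ h') := by
  ext x
  rw [LinearMap.comp_apply, extL_apply B hB hvv h, extL_form_v, extL_form_v', extL_piW,
    extL_apply B hB hvv (h ∘ₗ h'), LinearMap.comp_apply]

lemma extL_id {v v' : V} (hvv : B v v' = 1) : extL B hB hvv LinearMap.id = LinearMap.id := by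
  ext x
  rw [extL_apply, LinearMap.id_apply, LinearMap.id_apply, piW_coe]
  exact (decomp B v v' x).symm

/-- extension of an automorphism of `W` by the identity on `⟨v, v'⟩` -/
def extE {v v' : V} (hvv : B v v' = 1) (h : ↥(Wsub B v v') ≃ₗ[F] ↥(Wsub B v v')) : V ≃ₗ[F] V :=
  LinearEquiv.ofLinear (extL B hB hvv h.toLinearMap) (extL B hB hvv h.symm.toLinearMap)
    (by rw [extL_comp, LinearEquiv.comp_symm, extL_id])
    (by rw [extL_comp, LinearEquiv.symm_comp, extL_id])

lemma extE_apply {v v' : V} (hvv : B v v' = 1) (h : ↥(Wsub B v v') ≃ₗ[F] ↥(Wsub B v v'))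
    (x : V) :
    extE B hB hvv h x = B x v' • v - B x v • v' + ((h (piW B hB hvv x) : ↥(Wsub B v v')) : V) := by
  show extL B hB hvv h.toLinearMap x = _
  rw [extL_apply]; rfl

lemma extE_of_mem {v v' : V} (hvv : B v v' = 1) (h : ↥(Wsub B v v') ≃ₗ[F] ↥(Wsub B v v'))
    (w : ↥(Wsub B v v')) : extE B hB hvv h (w : V) = ((h w : ↥(Wsub B v v')) : V) := by
  have e : piW B hB hvv (w : V) = w := Subtype.ext (piV_of_mem B w.2)
  rw [extE_apply, e, w.2.1, w.2.2]
  simp

lemma extE_v {v v' : V} (hvv : B v v' = 1) (h : ↥(Wsub B v v') ≃ₗ[F] ↥(Wsub B v v')) :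
    extE B hB hvv h v = v := by
  have e : piW B hB hvv v = 0 := by
    apply Subtype.ext
    rw [piW_coe, piV_apply, hvv, hB v]; simp
  rw [extE_apply, e, map_zero, hvv, hB v]
  simp

lemma extE_v' {v v' : V} (hvv : B v v' = 1) (h : ↥(Wsub B v v') ≃ₗ[F] ↥(Wsub B v v')) :
    extE B hB hvv h v' = v' := by
  have h1 := swap_one B hB hvv
  have e : piW B hB hvv v' = 0 := by
    apply Subtype.ext
    rw [piW_coe, piV_apply, h1, hB v']; simp
  rw [extE_apply, e, map_zero, h1, hB v']
  simp

lemma extE_mem_isoGroup {v v' : V} (hvv : B v v' = 1) {h : ↥(Wsub B v v') ≃ₗ[F] ↥(Wsub B v v')}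
    (hh : h ∈ isoGroup (B.restrict (Wsub B v v'))) : extE B hB hvv h ∈ isoGroup B := by
  intro x y
  have hx1 : B (extE B hB hvv h x) v = B x v := extL_form_v B hB hvv h.toLinearMap x
  have hx2 : B (extE B hB hvv h x) v' = B x v' := extL_form_v' B hB hvv h.toLinearMap x
  have hy1 : B (extE B hB hvv h y) v = B y v := extL_form_v B hB hvv h.toLinearMap y
  have hy2 : B (extE B hB hvv h y) v' = B y v' := extL_form_v' B hB hvv h.toLinearMap y
  have hpx : piW B hB hvv (extE B hB hvv h x) = h (piW B hB hvv x) :=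
    extL_piW B hB hvv h.toLinearMap x
  have hpy : piW B hB hvv (extE B hB hvv h y) = h (piW B hB hvv y) :=
    extL_piW B hB hvv h.toLinearMap y
  rw [form_decomp B hB hvv (extE B hB hvv h x) (extE B hB hvv h y), form_decomp B hB hvv x y,
    hx1, hx2, hy1, hy2, ← piW_coe B hB hvv, ← piW_coe B hB hvv, hpx, hpy]
  have this : B ((h (piW B hB hvv x) : ↥(Wsub B v v')) : V)
      ((h (piW B hB hvv y) : ↥(Wsub B v v')) : V) =
      B ((piW B hB hvv x : ↥(Wsub B v v')) : V) ((piW B hB hvv y : ↥(Wsub B v v')) : V) :=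
    hh (piW B hB hvv x) (piW B hB hvv y)
  rw [this]
  rfl

lemma extE_mem_Kv {v v' : V} (hvv : B v v' = 1) {h : ↥(Wsub B v v') ≃ₗ[F] ↥(Wsub B v v')}
    (hh : h ∈ isoGroup (B.restrict (Wsub B v v'))) : extE B hB hvv h ∈ Kv B v v' :=
  ⟨extE_mem_isoGroup B hB hvv hh, extE_v B hB hvv h, extE_v' B hB hvv h⟩

/-- elements of `K_v` preserve `W` -/
lemma Kv_map_mem {v v' : V} {g : V ≃ₗ[F] V} (hg : g ∈ Kv B v v') {x : V}
    (hx : x ∈ Wsub B v v') : g x ∈ Wsub B v v' := by
  obtain ⟨h1, h2, h3⟩ := hg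
  constructor
  · have := h1 x v
    rw [h2] at this
    rw [this]; exact hx.1
  · have := h1 x v'
    rw [h3] at this
    rw [this]; exact hx.2

/-- restriction of an element of `K_v` to `W` -/
def resE {v v' : V} (g : V ≃ₗ[F] V) (hg : g ∈ Kv B v v') :
    ↥(Wsub B v v') ≃ₗ[F] ↥(Wsub B v v') :=
  LinearEquiv.ofLinear
    ((g : V →ₗ[F] V).restrict (p := Wsub B v v') (q := Wsub B v v')
      (fun x hx => Kv_map_mem B hg hx))
    (((g⁻¹ : V ≃ₗ[F] V) : V →ₗ[F] V).restrict (p := Wsub B v v') (q := Wsub B v v')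
      (fun x hx => Kv_map_mem B ((Kv B v v').inv_mem hg) hx))
    (by
      ext x
      simp only [LinearMap.comp_apply, LinearMap.restrict_coe_apply, LinearEquiv.coe_coe,
        LinearMap.id_apply]
      exact apply_inv_apply' g x)
    (by
      ext x
      simp only [LinearMap.comp_apply, LinearMap.restrict_coe_apply, LinearEquiv.coe_coe,
        LinearMap.id_apply]
      exact inv_apply_apply' g x)

lemma resE_coe {v v' : V} (g : V ≃ₗ[F] V) (hg : g ∈ Kv B v v') (w : ↥(Wsub B v v')) :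
    ((resE B g hg w : ↥(Wsub B v v')) : V) = g (w : V) := rfl

lemma resE_mem {v v' : V} (g : V ≃ₗ[F] V) (hg : g ∈ Kv B v v') :
    resE B g hg ∈ isoGroup (B.restrict (Wsub B v v')) := by
  intro x y
  show B (g (x : V)) (g (y : V)) = B (x : V) (y : V)
  exact hg.1 _ _

include hB in
/-- an element of `K_v` is determined by its restriction to `W` -/
lemma Kv_apply {v v' : V} (hvv : B v v' = 1) {g : V ≃ₗ[F] V} (hg : g ∈ Kv B v v') (x : V) :
    g x = B x v' • v - B x v • v' + g (piV B v v' x) := by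
  conv_lhs => rw [decomp B v v' x]
  rw [map_add, map_sub, map_smul, map_smul, hg.2.1, hg.2.2]

include hB in
/-- **KISO**: `K_v ≅ Sp(W)`, compatibly with the action on `W`. -/
theorem Kiso {v v' : V} (hvv : B v v' = 1) :
    ∃ e : ↥(Kv B v v') ≃* ↥(isoGroup (B.restrict (Wsub B v v'))),
      ∀ (g : ↥(Kv B v v')) (w : ↥(Wsub B v v')),
        (((e g : ↥(isoGroup (B.restrict (Wsub B v v'))) ) :
          ↥(Wsub B v v') ≃ₗ[F] ↥(Wsub B v v')) w : V) = (g : V ≃ₗ[F] V) (w : V) := by
  refine ⟨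
    { toFun := fun g => ⟨resE B g.1 g.2, resE_mem B g.1 g.2⟩
      invFun := fun h => ⟨extE B hB hvv h.1, extE_mem_Kv B hB hvv h.2⟩
      left_inv := ?_
      right_inv := ?_
      map_mul' := ?_ }, ?_⟩
  · intro g
    apply Subtype.ext
    ext x
    show extE B hB hvv (resE B g.1 g.2) x = g.1 x
    rw [extE_apply, resE_coe, piW_coe, ← Kv_apply B hB hvv g.2]
  · intro h
    apply Subtype.ext
    ext w
    show extE B hB hvv h.1 (w : V) = ((h.1 w : ↥(Wsub B v v')) : V)
    exact extE_of_mem B hB hvv h.1 w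
  · intro g g'
    apply Subtype.ext
    ext w
    rfl
  · intro g w
    rfl

include hB in
theorem restrict_isAlt (v v' : V) : (B.restrict (Wsub B v v')).IsAlt := by
  intro x
  show B (x : V) (x : V) = 0
  exact hB _

include hB in
theorem Wsub_restrict_nondeg {v v' : V} (hvv : B v v' = 1) (hN : B.Nondegenerate) :
    (B.restrict (Wsub B v v')).Nondegenerate := by
  have hsep : ∀ w : ↥(Wsub B v v'), (∀ y : ↥(Wsub B v v'), B (w : V) (y : V) = 0) → w = 0 := by
    intro w hw
    apply Subtype.ext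
    have : ∀ y : V, B (w : V) y = 0 := by
      intro y
      rw [form_decomp B hB hvv (w : V) y, w.2.1, w.2.2, piV_of_mem B w.2]
      have := hw (piW B hB hvv y)
      rw [piW_coe] at this
      rw [this]; ring
    exact hN.1 _ this
  constructor
  · intro w hw
    apply hsep w
    intro y
    exact hw y
  · intro w hw
    apply hsep w
    intro y
    have this : B (y : V) (w : V) = 0 := hw y
    rw [alt_swap B hB, this, neg_zero]

include hB in
theorem finrank_Wsub_add_two [FiniteDimensional F V] {v v' : V} (hvv : B v v' = 1) :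
    finrank F ↥(Wsub B v v') + 2 = finrank F V := by
  have h1 := swap_one B hB hvv
  set f : V →ₗ[F] F × F := (B.flip v).prod (B.flip v') with hf
  have hker : LinearMap.ker f = Wsub B v v' := by
    ext x
    rw [LinearMap.mem_ker, mem_Wsub]
    show (B x v, B x v') = 0 ↔ _
    rw [Prod.mk_eq_zero]
  have hrange : LinearMap.range f = ⊤ := by
    rw [eq_top_iff]
    rintro ⟨a, b⟩ -
    refine ⟨-a • v' + b • v, ?_⟩
    show (B (-a • v' + b • v) v, B (-a • v' + b • v) v') = (a, b)
    simp only [map_add, map_smul, LinearMap.add_apply, LinearMap.smul_apply, smul_eq_mul, hB v,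
      hB v', h1, hvv]
    ext <;> simp
  have h := LinearMap.finrank_range_add_finrank_ker f
  rw [hker, hrange, finrank_top, Module.finrank_prod, Module.finrank_self] at h
  omega

end Cfsg.Agent.Lib.Helper94_MI_SpKiso
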