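import Mathlib
import Cfsg.Agent.Lib.Helper66_MI_SpDefs
import Cfsg.Agent.Lib.Helper94_MI_SpKiso

set_option autoImplicit false

/-!
# S2141 package IH (architect helper66): transfer of the induction hypothesis from `Sp(W)` to `K`
-/

namespace Cfsg.Agent.Lib.Helper10_MISp_IH

open Cfsg.Agent.Lib.Helper94_Symp Cfsg.Agent.Lib.Helper94_SympTI
  Cfsg.Agent.Lib.Helper94_SympPerfect Cfsg.Agent.Lib.Helper66_MI_SpDefs

universe u

/-- transport of "every proper subgroup has relative index `≥ N`" along a group isomorphism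
`K ≃* S` between subgroups of two different ambient groups -/
theorem relIndex_transfer {G G' : Type*} [Group G] [Group G'] (K : Subgroup G) (S : Subgroup G')
    (e : ↥K ≃* ↥S) (N : ℕ)
    (hIH : ∀ K'' : Subgroup G', K'' ≤ S → K'' ≠ S → N ≤ K''.relIndex S)
    (K' : Subgroup G) (hle : K' ≤ K) (hne : K' ≠ K) : N ≤ K'.relIndex K := by
  obtain ⟨K1, hK1⟩ : ∃ K1 : Subgroup ↥S, K1 = (K'.subgroupOf K).map (e : ↥K →* ↥S) := ⟨_, rfl⟩
  have hidx : K1.index = K'.relIndex K := by
    rw [hK1, Subgroup.index_map_equiv]; rfl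
  have hsub : (K1.map S.subtype).subgroupOf S = K1 :=
    Subgroup.comap_map_eq_self_of_injective S.subtype_injective K1
  have h1 : K1.map S.subtype ≤ S := Subgroup.map_subtype_le K1
  have h2 : K1.map S.subtype ≠ S := by
    intro h
    apply hne
    have htop : K1 = ⊤ := by
      rw [← hsub, h]
      exact Subgroup.subgroupOf_self S
    have h0 : K'.subgroupOf K = ⊤ := by
      rw [hK1] at htop
      have hc := congrArg (Subgroup.comap (e : ↥K →* ↥S)) htop
      rw [Subgroup.comap_map_eq_self_of_injective e.injective, Subgroup.comap_top] at hc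
      exact hc
    exact le_antisymm hle (Subgroup.subgroupOf_eq_top.1 h0)
  have h3 := hIH _ h1 h2
  have h4 : (K1.map S.subtype).relIndex S = K1.index := by
    unfold Subgroup.relIndex
    rw [hsub]
  rw [h4, hidx] at h3
  exact h3

theorem KMin_of_IH {F : Type*} [Field F] [Finite F] {V : Type u} [AddCommGroup V] [Module F V]
    [FiniteDimensional F V] (B : LinearMap.BilinForm F V) (hB : B.IsAlt) {v v' : V}
    (hvv : B v v' = 1) (N : ℕ)
    (hIH : ∀ K'' : Subgroup (↥(Wsub B v v') ≃ₗ[F] ↥(Wsub B v v')),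
      K'' ≤ isoGroup (B.restrict (Wsub B v v')) → K'' ≠ isoGroup (B.restrict (Wsub B v v')) →
        N ≤ K''.relIndex (isoGroup (B.restrict (Wsub B v v')))) :
    KMin B v v' N := by
  obtain ⟨e, -⟩ := Cfsg.Agent.Lib.Helper94_MI_SpKiso.Kiso B hB hvv
  intro K' hle hne
  exact relIndex_transfer (Kv B v v') (isoGroup (B.restrict (Wsub B v v'))) e N hIH K' hle hne

end Cfsg.Agent.Lib.Helper10_MISp_IH
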