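import Mathlib
import Cfsg.Agent.Lib.Helper66_MI_SpDefs

set_option autoImplicit false

/-!
# S2141 package KTRANS (architect helper66): `K` is transitive on `W ∖ 0`; consequences
-/

namespace Cfsg.Agent.Lib.Helper10_MISp_KTRANS

open Cfsg.Agent.Lib.Helper94_Symp Cfsg.Agent.Lib.Helper94_SympTI
  Cfsg.Agent.Lib.Helper94_SympPerfect Cfsg.Agent.Lib.Helper66_MI_SpDefs

variable {F V : Type*} [Field F] [AddCommGroup V] [Module F V]
variable (B : LinearMap.BilinForm F V) (hB : B.IsAlt)

theorem stv_mem_Kv {v v' w : V} (hw : w ∈ Wsub B v v') (c : F) : stv B hB w c ∈ Kv B v v' := by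
  have h1 : B v w = 0 := by rw [alt_swap B hB, hw.1, neg_zero]
  have h2 : B v' w = 0 := by rw [alt_swap B hB, hw.2, neg_zero]
  exact ⟨stv_mem_isoGroup B hB w c, stv_fix B hB c h1, stv_fix B hB c h2⟩

include hB in
/-- decomposition `V = ⟨v, v'⟩ ⊕ W` (local copy of the DECOMP/KISO statement) -/
theorem decomp_vec' {v v' : V} (hvv : B v v' = 1) (x : V) :
    x - B x v' • v + B x v • v' ∈ Wsub B v v' := by
  have h3 : B v' v = -1 := by rw [alt_swap B hB, hvv]
  refine ⟨?_, ?_⟩
  · show B (x - B x v' • v + B x v • v') v = 0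
    simp only [map_add, map_sub, map_smul, LinearMap.add_apply, LinearMap.sub_apply,
      LinearMap.smul_apply, smul_eq_mul, hB v, h3]
    ring
  · show B (x - B x v' • v + B x v • v') v' = 0
    simp only [map_add, map_sub, map_smul, LinearMap.add_apply, LinearMap.sub_apply,
      LinearMap.smul_apply, smul_eq_mul, hB v', hvv]
    ring

include hB in
theorem Wsub_nondegOn (hN : B.Nondegenerate) {v v' : V} (hvv : B v v' = 1) :
    NondegOn B (Wsub B v v') := by
  intro w hw hw0
  have h1 : B v w = 0 := by rw [alt_swap B hB, hw.1, neg_zero]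
  have h2 : B v' w = 0 := by rw [alt_swap B hB, hw.2, neg_zero]
  by_contra hcon
  push Not at hcon
  apply hw0
  apply hN.2 w
  intro y
  have h := hcon _ (decomp_vec' B hB hvv y)
  simp only [map_add, map_sub, map_smul, LinearMap.add_apply, LinearMap.sub_apply,
    LinearMap.smul_apply, smul_eq_mul, h1, h2, mul_zero, sub_zero, add_zero] at h
  exact h

include hB in
theorem Kv_trans (hN : B.Nondegenerate) {v v' : V} (hvv : B v v' = 1) {w w' : V}
    (hw : w ∈ Wsub B v v') (hw' : w' ∈ Wsub B v v') (h0 : w ≠ 0) (h0' : w' ≠ 0) :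
    ∃ k ∈ Kv B v v', k w = w' := by
  obtain ⟨a, ha, c, a', ha', c', h⟩ :=
    exists_move B hB (Wsub_nondegOn B hB hN hvv) hw hw' h0 h0'
  exact ⟨stv B hB a' c' * stv B hB a c,
    (Kv B v v').mul_mem (stv_mem_Kv B hB ha' c') (stv_mem_Kv B hB ha c), h⟩

include hB in
/-- a `K`-invariant additive subgroup of `W` is `0` or `W` -/
theorem Kv_invariant_addSubgroup (hN : B.Nondegenerate) {v v' : V} (hvv : B v v' = 1)
    (A : AddSubgroup V) (hinv : ∀ k ∈ Kv B v v', ∀ a ∈ A, k a ∈ A) :
    (∀ a ∈ A, a ∈ Wsub B v v' → a = 0) ∨ ∀ w ∈ Wsub B v v', w ∈ A := by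
  by_cases h : ∀ a ∈ A, a ∈ Wsub B v v' → a = 0
  · exact Or.inl h
  · right
    push Not at h
    obtain ⟨a, haA, haW, ha0⟩ := h
    intro w hw
    by_cases hw0 : w = 0
    · rw [hw0]; exact A.zero_mem
    · obtain ⟨k, hk, hkw⟩ := Kv_trans B hB hN hvv haW hw ha0 hw0
      rw [← hkw]
      exact hinv k hk a haA

include hB in
theorem exists_hyp (hN : B.Nondegenerate) {v : V} (hv : v ≠ 0) : ∃ v' : V, B v v' = 1 := by
  have : ∃ y, B v y ≠ 0 := by
    by_contra hcon
    push Not at hcon
    exact hv (hN.1 v hcon)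
  obtain ⟨y, hy⟩ := this
  refine ⟨(B v y)⁻¹ • y, ?_⟩
  rw [map_smul, smul_eq_mul, inv_mul_cancel₀ hy]

include hB in
theorem exists_Wsub_pair [FiniteDimensional F V] (hN : B.Nondegenerate) {v v' : V}
    (hvv : B v v' = 1) (hdim : 4 ≤ Module.finrank F V) :
    ∃ b ∈ Wsub B v v', ∃ b' ∈ Wsub B v v', B b b' = 1 := by
  classical
  -- a vector outside `⟨v, v'⟩`
  have hne : Submodule.span F ({v, v'} : Set V) ≠ ⊤ := by
    intro htop
    have h1 : Module.finrank F (Submodule.span F ({v, v'} : Set V)) ≤ 2 := by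
      have h := finrank_span_finset_le_card (R := F) ({v, v'} : Finset V)
      have hc : ({v, v'} : Finset V).card ≤ 2 := Finset.card_le_two
      have he : ((({v, v'} : Finset V) : Set V)) = ({v, v'} : Set V) := by
        simp
      rw [he] at h
      exact le_trans h hc
    rw [htop, finrank_top] at h1
    omega
  obtain ⟨x, hx⟩ : ∃ x : V, x ∉ Submodule.span F ({v, v'} : Set V) := by
    by_contra hcon
    push Not at hcon
    exact hne (eq_top_iff.2 fun x _ => hcon x)
  obtain ⟨b, hb⟩ : ∃ b, b = x - B x v' • v + B x v • v' := ⟨_, rfl⟩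
  have hbW : b ∈ Wsub B v v' := by rw [hb]; exact decomp_vec' B hB hvv x
  have hb0 : b ≠ 0 := by
    intro h0
    apply hx
    have hxe : x = B x v' • v + (-(B x v)) • v' := by
      have : x = b + (B x v' • v + (-(B x v)) • v') := by rw [hb]; module
      rw [h0, zero_add] at this
      exact this
    rw [hxe]
    exact Submodule.add_mem _
      (Submodule.smul_mem _ _ (Submodule.subset_span (by simp)))
      (Submodule.smul_mem _ _ (Submodule.subset_span (by simp)))
  obtain ⟨y, hyW, hy⟩ := Wsub_nondegOn B hB hN hvv b hbW hb0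
  have hby : B b y ≠ 0 := alt_ne_zero_comm B hB hy
  refine ⟨b, hbW, (B b y)⁻¹ • y, (Wsub B v v').smul_mem _ hyW, ?_⟩
  rw [map_smul, smul_eq_mul, inv_mul_cancel₀ hby]

end Cfsg.Agent.Lib.Helper10_MISp_KTRANS
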