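import Mathlib
import Cfsg.Agent.Lib.Helper66_MI_SpDefs
import Cfsg.Agent.Lib.Helper94_MI_SpKiso

set_option autoImplicit false

/-!
# S2141 foundation: `P_v = Q_v : L`, `L = T × K`, parametrisation of `Q_v`, cardinalities
(package DECOMP of helper66)
-/

namespace Cfsg.Agent.Lib.Helper94_MI_SpDecomp

open Module Cfsg.Agent.Lib.Helper94_Symp Cfsg.Agent.Lib.Helper94_SympTI
  Cfsg.Agent.Lib.Helper94_SympPerfect Cfsg.Agent.Lib.Helper66_MI_SpDefs
  Cfsg.Agent.Lib.Helper94_MI_SpKiso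

variable {F V : Type*} [Field F] [AddCommGroup V] [Module F V]
variable (B : LinearMap.BilinForm F V) (hB : B.IsAlt)

include hB in
/-- two linear automorphisms agreeing on `v`, `v'` and `W` are equal -/
lemma eq_of_agree {v v' : V} (hvv : B v v' = 1) {g g' : V ≃ₗ[F] V} (h1 : g v = g' v)
    (h2 : g v' = g' v') (h3 : ∀ w ∈ Wsub B v v', g w = g' w) : g = g' := by
  ext x
  have hx := decomp B v v' x
  rw [hx, map_add, map_sub, map_smul, map_smul, map_add, map_sub, map_smul, map_smul, h1, h2,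
    h3 _ (piV_mem B hB hvv _)]

include hB in
lemma W_swap {v v' w : V} (hw : w ∈ Wsub B v v') : B v w = 0 ∧ B v' w = 0 := by
  constructor
  · rw [alt_swap B hB, hw.1, neg_zero]
  · rw [alt_swap B hB, hw.2, neg_zero]

lemma gv_v {v w : V} (h : B v w = 0) (t : F) : gv B hB v w t v = v := by
  rw [gv_apply B hB h, h, hB v]
  simp

lemma gv_v' {v v' w : V} (hvv : B v v' = 1) (hw : w ∈ Wsub B v v') (t : F) :
    gv B hB v w t v' = v' - w - t • v := by
  have h := W_swap B hB hw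
  rw [gv_apply B hB h.1, h.2, swap_one B hB hvv]
  module

lemma gv_of_mem {v v' w x : V} (hw : w ∈ Wsub B v v') (hx : x ∈ Wsub B v v') (t : F) :
    gv B hB v w t x = x + B x w • v := by
  have h := W_swap B hB hw
  rw [gv_apply B hB h.1, hx.1]
  simp

/-- `Q_v` is transitive on `{u : B v u = 1}` -/
lemma exists_gv_map {v v' : V} (hvv : B v v' = 1) {u : V} (hu : B v u = 1) :
    ∃ w ∈ Wsub B v v', ∃ t : F, gv B hB v w t v' = u := by
  have h1 := swap_one B hB hvv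
  have hy : B (u - v') v = 0 := by
    rw [map_sub, LinearMap.sub_apply, alt_swap B hB u v, hu, h1]; ring
  refine ⟨-piV B v v' (u - v'), (Wsub B v v').neg_mem (piV_mem B hB hvv _), -B (u - v') v', ?_⟩
  rw [gv_v' B hB hvv ((Wsub B v v').neg_mem (piV_mem B hB hvv _)), piV_apply, hy]
  module

/-- **parametrisation of `Q_v`** -/
theorem Qv_param {v v' : V} (hvv : B v v' = 1) {g : V ≃ₗ[F] V} (hg : g ∈ Qv B v) :
    ∃ w ∈ Wsub B v v', ∃ t : F, g = gv B hB v w t := by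
  obtain ⟨hg1, hgv, hg2⟩ := hg
  have hu : B v (g v') = 1 := by
    have := hg1 v v'
    rw [hgv] at this
    rw [this, hvv]
  obtain ⟨w, hw, t, hwt⟩ := exists_gv_map B hB hvv hu
  refine ⟨w, hw, t, ?_⟩
  have hsw := W_swap B hB hw
  apply eq_of_agree B hB hvv
  · rw [hgv, gv_v B hB hsw.1]
  · exact hwt.symm
  · intro x hx
    obtain ⟨c, hc⟩ := hg2 x hx.1
    rw [gv_of_mem B hB hw hx, hc]
    have h1 := hg1 x v'
    rw [hc, ← hwt, gv_v' B hB hvv hw, hx.2] at h1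
    simp only [map_add, map_sub, map_smul, LinearMap.add_apply, LinearMap.sub_apply,
      LinearMap.smul_apply, smul_eq_mul, hx.1, hx.2, hvv, hB v, hsw.1, mul_zero, sub_zero,
      zero_sub, mul_one] at h1
    have : c = B x w := by linear_combination h1
    rw [this]

lemma gv_inj {v v' w w' : V} (hvv : B v v' = 1) (hw : w ∈ Wsub B v v') (hw' : w' ∈ Wsub B v v')
    {t t' : F} (h : gv B hB v w t = gv B hB v w' t') : w = w' ∧ t = t' := by
  have h1 : gv B hB v w t v' = gv B hB v w' t' v' := by rw [h]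
  rw [gv_v' B hB hvv hw, gv_v' B hB hvv hw'] at h1
  have h2 : w - w' = (t' - t) • v := by
    have : (w - w') - (t' - t) • v = (v' - w' - t' • v) - (v' - w - t • v) := by module
    rw [← sub_eq_zero, this, h1, sub_self]
  have h3 : B (w - w') v' = 0 := by
    rw [map_sub, LinearMap.sub_apply, hw.2, hw'.2, sub_zero]
  rw [h2, map_smul, LinearMap.smul_apply, hvv, smul_eq_mul, mul_one] at h3
  have ht : t = t' := by linear_combination -h3
  refine ⟨?_, ht⟩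
  rw [h3, zero_smul, sub_eq_zero] at h2
  exact h2

/-- `gv v w t = gv v w' t' ↔ w = w' ∧ t = t'` for `w, w' ∈ W` -/
theorem gv_eq_iff {v v' w w' : V} (hvv : B v v' = 1) (hw : w ∈ Wsub B v v')
    (hw' : w' ∈ Wsub B v v') {t t' : F} :
    gv B hB v w t = gv B hB v w' t' ↔ w = w' ∧ t = t' := by
  constructor
  · exact gv_inj B hB hvv hw hw'
  · rintro ⟨rfl, rfl⟩
    rfl

lemma inv_fix {g : V ≃ₗ[F] V} {x : V} (h : g x = x) : g⁻¹ x = x := by
  calc g⁻¹ x = g⁻¹ (g x) := by rw [h]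
    _ = x := inv_apply_apply' g x

include hB in
/-- **`P_v = Q_v L`** -/
theorem Pv_decomp {v v' : V} (hvv : B v v' = 1) {g : V ≃ₗ[F] V} (hg : g ∈ Pv B v) :
    ∃ a ∈ Qv B v, ∃ l ∈ Lv B v v', g = a * l := by
  obtain ⟨hg1, c, hc, hgv⟩ := hg
  have hu : B v (c • g v') = 1 := by
    have := hg1 v v'
    rw [hgv, map_smul, LinearMap.smul_apply, smul_eq_mul] at this
    rw [map_smul, smul_eq_mul, this, hvv]
  obtain ⟨w, hw, t, hwt⟩ := exists_gv_map B hB hvv hu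
  have hsw := W_swap B hB hw
  have ha : gv B hB v w t ∈ Qv B v := gv_mem_Qv B hB hsw.1 t
  refine ⟨gv B hB v w t, ha, (gv B hB v w t)⁻¹ * g, ?_, (mul_inv_cancel_left _ _).symm⟩
  rw [mem_Lv]
  refine ⟨(isoGroup B).mul_mem ((isoGroup B).inv_mem ha.1) hg1, ⟨c, hc, ?_⟩, ⟨c⁻¹, inv_ne_zero hc, ?_⟩⟩
  · rw [LinearEquiv.mul_apply, hgv, map_smul, inv_fix (gv_v B hB hsw.1 t)]
  · rw [LinearEquiv.mul_apply]
    have : g v' = c⁻¹ • gv B hB v w t v' := by
      rw [hwt, smul_smul, inv_mul_cancel₀ hc, one_smul]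
    rw [this, map_smul, inv_apply_apply']

include hB in
/-- **`Q_v ∩ L = 1`** -/
theorem Qv_inf_Lv {v v' : V} (hvv : B v v' = 1) : Qv B v ⊓ Lv B v v' = ⊥ := by
  rw [eq_bot_iff]
  rintro g ⟨hgQ, hgL⟩
  rw [Subgroup.mem_bot]
  obtain ⟨w, hw, t, rfl⟩ := Qv_param B hB hvv hgQ
  obtain ⟨-, -, d, hd, hd'⟩ := (mem_Lv B).1 hgL
  rw [gv_v' B hB hvv hw] at hd'
  have hsw := W_swap B hB hw
  have h1 : B v (v' - w - t • v) = B v (d • v') := by rw [hd']
  simp only [map_sub, map_smul, hvv, hsw.1, hB v, smul_eq_mul, mul_zero, sub_zero, mul_one] at h1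
  rw [← h1, one_smul] at hd'
  have h2 : w + t • v = 0 := by
    have : w + t • v = v' - (v' - w - t • v) := by module
    rw [this, hd', sub_self]
  have h3 : B (w + t • v) v' = 0 := by rw [h2]; simp
  rw [map_add, LinearMap.add_apply, hw.2, map_smul, LinearMap.smul_apply, hvv, smul_eq_mul,
    mul_one, zero_add] at h3
  rw [h3, zero_smul, add_zero] at h2
  rw [h2, h3, gv_zero_zero]

/-- the torus element `h(c)` as a linear map -/
def torL (v v' : V) (c d : F) : V →ₗ[F] V :=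
  c • (B.flip v').smulRight v - d • (B.flip v).smulRight v' + piV B v v'

lemma torL_apply (v v' : V) (c d : F) (x : V) :
    torL B v v' c d x = (c * B x v') • v - (d * B x v) • v' + piV B v v' x := by
  simp [torL, smul_smul]

include hB in
lemma piV_v {v v' : V} (hvv : B v v' = 1) : piV B v v' v = 0 := by
  rw [piV_apply, hvv, hB v]; simp

include hB in
lemma piV_v' {v v' : V} (hvv : B v v' = 1) : piV B v v' v' = 0 := by
  rw [piV_apply, swap_one B hB hvv, hB v']; simp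

include hB in
lemma torL_form_v {v v' : V} (hvv : B v v' = 1) (c d : F) (x : V) :
    B (torL B v v' c d x) v = d * B x v := by
  have h1 := swap_one B hB hvv
  rw [torL_apply]
  simp only [map_add, map_sub, map_smul, LinearMap.add_apply, LinearMap.sub_apply,
    LinearMap.smul_apply, smul_eq_mul, hB v, h1, (piV_mem B hB hvv x).1]
  ring

include hB in
lemma torL_form_v' {v v' : V} (hvv : B v v' = 1) (c d : F) (x : V) :
    B (torL B v v' c d x) v' = c * B x v' := by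
  rw [torL_apply]
  simp only [map_add, map_sub, map_smul, LinearMap.add_apply, LinearMap.sub_apply,
    LinearMap.smul_apply, smul_eq_mul, hB v', hvv, (piV_mem B hB hvv x).2]
  ring

include hB in
lemma torL_piV {v v' : V} (hvv : B v v' = 1) (c d : F) (x : V) :
    piV B v v' (torL B v v' c d x) = piV B v v' x := by
  rw [piV_apply, torL_form_v B hB hvv, torL_form_v' B hB hvv, torL_apply]
  module

include hB in
lemma torL_comp {v v' : V} (hvv : B v v' = 1) (c d c' d' : F) :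
    torL B v v' c d ∘ₗ torL B v v' c' d' = torL B v v' (c * c') (d * d') := by
  ext x
  rw [LinearMap.comp_apply, torL_apply B v v' c d, torL_form_v B hB hvv, torL_form_v' B hB hvv,
    torL_piV B hB hvv, torL_apply]
  module

lemma torL_one (v v' : V) : torL B v v' 1 1 = LinearMap.id := by
  ext x
  rw [torL_apply, one_mul, one_mul, LinearMap.id_apply]
  exact (decomp B v v' x).symm

/-- the torus element `h(c)`: `v ↦ c v`, `v' ↦ c⁻¹ v'`, identity on `W` -/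
def torE {v v' : V} (hvv : B v v' = 1) {c : F} (hc : c ≠ 0) : V ≃ₗ[F] V :=
  LinearEquiv.ofLinear (torL B v v' c c⁻¹) (torL B v v' c⁻¹ c)
    (by rw [torL_comp B hB hvv, mul_inv_cancel₀ hc, inv_mul_cancel₀ hc, torL_one])
    (by rw [torL_comp B hB hvv, mul_inv_cancel₀ hc, inv_mul_cancel₀ hc, torL_one])

lemma torE_apply {v v' : V} (hvv : B v v' = 1) {c : F} (hc : c ≠ 0) (x : V) :
    torE B hB hvv hc x = (c * B x v') • v - (c⁻¹ * B x v) • v' + piV B v v' x :=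
  torL_apply B v v' c c⁻¹ x

lemma torE_v {v v' : V} (hvv : B v v' = 1) {c : F} (hc : c ≠ 0) :
    torE B hB hvv hc v = c • v := by
  rw [torE_apply, hvv, hB v, piV_v B hB hvv]; simp

lemma torE_v' {v v' : V} (hvv : B v v' = 1) {c : F} (hc : c ≠ 0) :
    torE B hB hvv hc v' = c⁻¹ • v' := by
  rw [torE_apply, swap_one B hB hvv, hB v', piV_v' B hB hvv]; simp

lemma torE_of_mem {v v' : V} (hvv : B v v' = 1) {c : F} (hc : c ≠ 0) {w : V}
    (hw : w ∈ Wsub B v v') : torE B hB hvv hc w = w := by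
  rw [torE_apply, hw.1, hw.2, piV_of_mem B hw]; simp

lemma torE_mem_isoGroup {v v' : V} (hvv : B v v' = 1) {c : F} (hc : c ≠ 0) :
    torE B hB hvv hc ∈ isoGroup B := by
  intro x y
  have e1 : ∀ z, B (torE B hB hvv hc z) v = c⁻¹ * B z v := torL_form_v B hB hvv c c⁻¹
  have e2 : ∀ z, B (torE B hB hvv hc z) v' = c * B z v' := torL_form_v' B hB hvv c c⁻¹
  have e3 : ∀ z, piV B v v' (torE B hB hvv hc z) = piV B v v' z := torL_piV B hB hvv c c⁻¹
  rw [form_decomp B hB hvv (torE B hB hvv hc x) (torE B hB hvv hc y), form_decomp B hB hvv x y,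
    e1, e2, e1, e2, e3, e3]
  field_simp

lemma torE_mem_Tv {v v' : V} (hvv : B v v' = 1) {c : F} (hc : c ≠ 0) :
    torE B hB hvv hc ∈ Tv B v v' := by
  refine ⟨(mem_Lv B).2 ⟨torE_mem_isoGroup B hB hvv hc, ⟨c, hc, torE_v B hB hvv hc⟩,
    ⟨c⁻¹, inv_ne_zero hc, torE_v' B hB hvv hc⟩⟩, ?_⟩
  intro w hw
  exact torE_of_mem B hB hvv hc hw

include hB in
/-- **torus elements exist** -/
theorem exists_Tv {v v' : V} (hvv : B v v' = 1) {c : F} (hc : c ≠ 0) :
    ∃ h ∈ Tv B v v', h v = c • v ∧ h v' = c⁻¹ • v' :=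
  ⟨torE B hB hvv hc, torE_mem_Tv B hB hvv hc, torE_v B hB hvv hc, torE_v' B hB hvv hc⟩

include hB in
/-- **`L = T K`** -/
theorem Lv_decomp {v v' : V} (hvv : B v v' = 1) {l : V ≃ₗ[F] V} (hl : l ∈ Lv B v v') :
    ∃ h ∈ Tv B v v', ∃ k ∈ Kv B v v', l = h * k := by
  obtain ⟨hl1, ⟨c, hc, hlv⟩, ⟨d, hd, hlv'⟩⟩ := (mem_Lv B).1 hl
  have hcd : c * d = 1 := by
    have := hl1 v v'
    rw [hlv, hlv', map_smul, map_smul, LinearMap.smul_apply, hvv, smul_eq_mul, smul_eq_mul,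
      mul_one] at this
    rw [mul_comm]; exact this
  have hd' : d = c⁻¹ := eq_inv_of_mul_eq_one_right hcd
  have hT := torE_mem_Tv B hB hvv hc
  refine ⟨torE B hB hvv hc, hT, (torE B hB hvv hc)⁻¹ * l, ?_, (mul_inv_cancel_left _ _).symm⟩
  refine ⟨(isoGroup B).mul_mem ((isoGroup B).inv_mem ((mem_Lv B).1 hT.1).1) hl1, ?_, ?_⟩
  · rw [LinearEquiv.mul_apply, hlv, ← torE_v B hB hvv hc, inv_apply_apply']
  · rw [LinearEquiv.mul_apply, hlv', hd', ← torE_v' B hB hvv hc, inv_apply_apply']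

include hB in
/-- **`T ∩ K = 1`** -/
theorem Tv_inf_Kv {v v' : V} (hvv : B v v' = 1) : Tv B v v' ⊓ Kv B v v' = ⊥ := by
  rw [eq_bot_iff]
  rintro g ⟨hgT, hgK⟩
  rw [Subgroup.mem_bot]
  apply eq_of_agree B hB hvv
  · rw [hgK.2.1]; rfl
  · rw [hgK.2.2]; rfl
  · intro w hw
    rw [hgT.2 w hw]; rfl

include hB in
/-- **`T` and `K` commute** -/
theorem Tv_Kv_commute {v v' : V} (hvv : B v v' = 1) {h k : V ≃ₗ[F] V} (hh : h ∈ Tv B v v')
    (hk : k ∈ Kv B v v') : h * k = k * h := by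
  obtain ⟨-, ⟨c, -, hc⟩, ⟨d, -, hd⟩⟩ := (mem_Lv B).1 hh.1
  apply eq_of_agree B hB hvv
  · rw [LinearEquiv.mul_apply, LinearEquiv.mul_apply, hk.2.1, hc, map_smul, hk.2.1]
  · rw [LinearEquiv.mul_apply, LinearEquiv.mul_apply, hk.2.2, hd, map_smul, hk.2.2]
  · intro w hw
    rw [LinearEquiv.mul_apply, LinearEquiv.mul_apply, hh.2 w hw,
      hh.2 (k w) (Kv_map_mem B hk hw)]

include hB in
/-- **`|Q_v| = |W| |F|`** -/
theorem card_Qv {v v' : V} (hvv : B v v' = 1) :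
    Nat.card ↥(Qv B v) = Nat.card ↥(Wsub B v v') * Nat.card F := by
  rw [← Nat.card_prod]
  symm
  apply Nat.card_congr
  refine Equiv.ofBijective
    (fun p : ↥(Wsub B v v') × F =>
      (⟨gv B hB v (p.1 : V) p.2, gv_mem_Qv B hB (W_swap B hB p.1.2).1 p.2⟩ : ↥(Qv B v))) ⟨?_, ?_⟩
  · rintro ⟨w, t⟩ ⟨w', t'⟩ h
    have h' : gv B hB v (w : V) t = gv B hB v (w' : V) t' := congrArg Subtype.val h
    obtain ⟨e1, e2⟩ := gv_inj B hB hvv w.2 w'.2 h'
    exact Prod.ext (Subtype.ext e1) e2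
  · rintro ⟨g, hg⟩
    obtain ⟨w, hw, t, rfl⟩ := Qv_param B hB hvv hg
    exact ⟨(⟨w, hw⟩, t), rfl⟩

theorem Lv_le_Pv (v v' : V) : Lv B v v' ≤ Pv B v := inf_le_left

include hB in
/-- **`|P_v| = |Q_v| |L|`** -/
theorem card_Pv {v v' : V} (hvv : B v v' = 1) :
    Nat.card ↥(Pv B v) = Nat.card ↥(Qv B v) * Nat.card ↥(Lv B v v') := by
  rw [← Nat.card_prod]
  symm
  apply Nat.card_congr
  refine Equiv.ofBijective
    (fun p : ↥(Qv B v) × ↥(Lv B v v') =>
      (⟨(p.1 : V ≃ₗ[F] V) * (p.2 : V ≃ₗ[F] V),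
        (Pv B v).mul_mem (Qv_le_Pv B v p.1.2) (Lv_le_Pv B v v' p.2.2)⟩ : ↥(Pv B v))) ⟨?_, ?_⟩
  · rintro ⟨a, l⟩ ⟨a', l'⟩ h
    have h' : (a : V ≃ₗ[F] V) * (l : V ≃ₗ[F] V) = (a' : V ≃ₗ[F] V) * (l' : V ≃ₗ[F] V) :=
      congrArg Subtype.val h
    have h2 : (a' : V ≃ₗ[F] V)⁻¹ * (a : V ≃ₗ[F] V) = (l' : V ≃ₗ[F] V) * (l : V ≃ₗ[F] V)⁻¹ := by
      rw [inv_mul_eq_iff_eq_mul, ← mul_assoc, ← h', mul_assoc, mul_inv_cancel, mul_one]
    have h3 : (a' : V ≃ₗ[F] V)⁻¹ * (a : V ≃ₗ[F] V) ∈ Qv B v ⊓ Lv B v v' := by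
      refine ⟨(Qv B v).mul_mem ((Qv B v).inv_mem a'.2) a.2, ?_⟩
      rw [h2]
      exact (Lv B v v').mul_mem l'.2 ((Lv B v v').inv_mem l.2)
    rw [Qv_inf_Lv B hB hvv, Subgroup.mem_bot] at h3
    have e1 : (a : V ≃ₗ[F] V) = (a' : V ≃ₗ[F] V) := by
      rw [inv_mul_eq_one] at h3
      exact h3.symm
    have e2 : (l : V ≃ₗ[F] V) = (l' : V ≃ₗ[F] V) := by
      rw [e1] at h'
      exact mul_left_cancel h'
    exact Prod.ext (Subtype.ext e1) (Subtype.ext e2)
  · rintro ⟨g, hg⟩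
    obtain ⟨a, ha, l, hl, rfl⟩ := Pv_decomp B hB hvv hg
    exact ⟨(⟨a, ha⟩, ⟨l, hl⟩), rfl⟩

include hB in
/-- **`|L| = (|F| - 1) |K|`** -/
theorem card_Lv {v v' : V} (hvv : B v v' = 1) :
    Nat.card ↥(Lv B v v') = (Nat.card F - 1) * Nat.card ↥(Kv B v v') := by
  rw [← Nat.card_units, ← Nat.card_prod]
  symm
  apply Nat.card_congr
  refine Equiv.ofBijective
    (fun p : Fˣ × ↥(Kv B v v') =>
      (⟨torE B hB hvv p.1.ne_zero * (p.2 : V ≃ₗ[F] V),
        (Lv B v v').mul_mem (Tv_le_Lv B v v' (torE_mem_Tv B hB hvv p.1.ne_zero))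
          (Kv_le_Lv B v v' p.2.2)⟩ : ↥(Lv B v v'))) ⟨?_, ?_⟩
  · rintro ⟨c, k⟩ ⟨c', k'⟩ h
    have h' : torE B hB hvv c.ne_zero * (k : V ≃ₗ[F] V) =
        torE B hB hvv c'.ne_zero * (k' : V ≃ₗ[F] V) := congrArg Subtype.val h
    have h1 : (torE B hB hvv c.ne_zero * (k : V ≃ₗ[F] V)) v =
        (torE B hB hvv c'.ne_zero * (k' : V ≃ₗ[F] V)) v := by rw [h']
    rw [LinearEquiv.mul_apply, LinearEquiv.mul_apply, k.2.2.1, k'.2.2.1, torE_v, torE_v] at h1
    have hv0 : v ≠ 0 := by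
      rintro rfl
      simp at hvv
    have hc : (c : F) = (c' : F) := by
      have : ((c : F) - (c' : F)) • v = 0 := by rw [sub_smul, h1, sub_self]
      rcases smul_eq_zero.1 this with h0 | h0
      · exact sub_eq_zero.1 h0
      · exact absurd h0 hv0
    have hc' : c = c' := Units.ext hc
    subst hc'
    have e2 : (k : V ≃ₗ[F] V) = (k' : V ≃ₗ[F] V) := mul_left_cancel h'
    exact Prod.ext rfl (Subtype.ext e2)
  · rintro ⟨l, hl⟩
    obtain ⟨hl1, ⟨c, hc, hlv⟩, ⟨d, hd, hlv'⟩⟩ := (mem_Lv B).1 hl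
    have hcd : c * d = 1 := by
      have := hl1 v v'
      rw [hlv, hlv', map_smul, map_smul, LinearMap.smul_apply, hvv, smul_eq_mul, smul_eq_mul,
        mul_one] at this
      rw [mul_comm]; exact this
    have hd' : d = c⁻¹ := eq_inv_of_mul_eq_one_right hcd
    have hT := torE_mem_Tv B hB hvv hc
    have hk : (torE B hB hvv hc)⁻¹ * l ∈ Kv B v v' := by
      refine ⟨(isoGroup B).mul_mem ((isoGroup B).inv_mem ((mem_Lv B).1 hT.1).1) hl1, ?_, ?_⟩
      · rw [LinearEquiv.mul_apply, hlv, ← torE_v B hB hvv hc, inv_apply_apply']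
      · rw [LinearEquiv.mul_apply, hlv', hd', ← torE_v' B hB hvv hc, inv_apply_apply']
    refine ⟨(Units.mk0 c hc, ⟨_, hk⟩), ?_⟩
    apply Subtype.ext
    show torE B hB hvv (Units.mk0 c hc).ne_zero * ((torE B hB hvv hc)⁻¹ * l) = l
    exact mul_inv_cancel_left _ _

end Cfsg.Agent.Lib.Helper94_MI_SpDecomp
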