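import Mathlib
import Cfsg.Agent.Lib.Helper66_MI_SpDefs
import Cfsg.Agent.Lib.Helper94_MI_SpDecomp
import Cfsg.Agent.Lib.Helper94_MI_SpKiso

set_option autoImplicit false

/-!
# S2141 package LOCAL (helper66): `|H ∩ P_v| = |Bbar| |Z| |T_1| |K_H|` and the key inequality (L0)
-/

namespace Cfsg.Agent.Lib.Helper66_MISp_LOCAL

open Cfsg.Agent.Lib.Helper94_Symp Cfsg.Agent.Lib.Helper94_SympTI
  Cfsg.Agent.Lib.Helper94_SympPerfect Cfsg.Agent.Lib.Helper66_MI_SpDefs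
  Cfsg.Agent.Lib.Helper94_MI_SpDecomp Cfsg.Agent.Lib.Helper94_MI_SpKiso

variable {F V : Type*} [Field F] [AddCommGroup V] [Module F V]
variable (B : LinearMap.BilinForm F V) (hB : B.IsAlt)

theorem ne_zero_of_hyp {v v' : V} (hvv : B v v' = 1) : v ≠ 0 := by
  rintro rfl
  simp at hvv

/-- `g_v(w,t) = g_v(w,t0) t_v(t - t0)` -/
theorem gv_mul_stv {v w : V} (hw : B v w = 0) (t z : F) :
    gv B hB v w t * stv B hB v z = gv B hB v w (t + z) := by
  rw [← gv_zero B hB v z, gv_mul B hB hw (by simp : B v 0 = 0)]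
  simp

theorem card_H_inf_Qv {v v' : V} (hvv : B v v' = 1)
    (H : Subgroup (V ≃ₗ[F] V)) :
    Nat.card ↥(H ⊓ Qv B v) = Nat.card (Bbar B hB H v v') * Nat.card (Zv B hB H v) := by
  classical
  rw [← Nat.card_prod]
  symm
  apply Nat.card_congr
  -- a chosen `t0(w)` for every `w ∈ Bbar`
  have hex : ∀ w : ↥(Bbar B hB H v v'), ∃ t : F, gv B hB v (w : V) t ∈ H := fun w => w.2.2
  choose t0 ht0 using hex
  have hWv : ∀ w : ↥(Bbar B hB H v v'), B v (w : V) = 0 := fun w => (W_swap B hB w.2.1).1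
  refine Equiv.ofBijective
    (fun p : ↥(Bbar B hB H v v') × ↥(Zv B hB H v) =>
      (⟨gv B hB v (p.1 : V) (t0 p.1 + (p.2 : F)), ?_, gv_mem_Qv B hB (hWv p.1) _⟩ :
        ↥(H ⊓ Qv B v))) ⟨?_, ?_⟩
  · rw [← gv_mul_stv B hB (hWv p.1)]
    exact H.mul_mem (ht0 p.1) p.2.2
  · rintro ⟨w, z⟩ ⟨w', z'⟩ h
    have h' : gv B hB v (w : V) (t0 w + (z : F)) = gv B hB v (w' : V) (t0 w' + (z' : F)) :=
      congrArg Subtype.val h
    obtain ⟨e1, e2⟩ := gv_inj B hB hvv w.2.1 w'.2.1 h'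
    have e1' : w = w' := Subtype.ext e1
    subst e1'
    have e3 : (z : F) = (z' : F) := add_left_cancel e2
    exact Prod.ext rfl (Subtype.ext e3)
  · rintro ⟨g, hgH, hgQ⟩
    obtain ⟨w, hw, t, rfl⟩ := Qv_param B hB hvv hgQ
    have hwB : w ∈ Bbar B hB H v v' := ⟨hw, t, hgH⟩
    have hvw : B v w = 0 := (W_swap B hB hw).1
    have hz : t - t0 ⟨w, hwB⟩ ∈ Zv B hB H v := by
      show stv B hB v (t - t0 ⟨w, hwB⟩) ∈ H
      have h1 : gv B hB v w (t0 ⟨w, hwB⟩) * stv B hB v (t - t0 ⟨w, hwB⟩) = gv B hB v w t := by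
        rw [gv_mul_stv B hB hvw]
        congr 1
        ring
      have h2 : stv B hB v (t - t0 ⟨w, hwB⟩) =
          (gv B hB v w (t0 ⟨w, hwB⟩))⁻¹ * gv B hB v w t := by
        rw [← h1]; group
      rw [h2]
      exact H.mul_mem (H.inv_mem (ht0 ⟨w, hwB⟩)) hgH
    refine ⟨(⟨w, hwB⟩, ⟨_, hz⟩), ?_⟩
    apply Subtype.ext
    show gv B hB v w (t0 ⟨w, hwB⟩ + (t - t0 ⟨w, hwB⟩)) = gv B hB v w t
    congr 1
    ring

include hB in
/-- an element of `L` with eigenvalue `1` on `v` lies in `K` -/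
theorem mem_Kv_of_Lv {v v' : V} (hvv : B v v' = 1) {l : V ≃ₗ[F] V} (hl : l ∈ Lv B v v')
    (h1 : l v = v) : l ∈ Kv B v v' := by
  obtain ⟨hl1, -, ⟨d, hd, hlv'⟩⟩ := (mem_Lv B).1 hl
  refine ⟨hl1, h1, ?_⟩
  have h2 := hl1 v v'
  rw [h1, hlv', map_smul, hvv, smul_eq_mul, mul_one] at h2
  rw [hlv', h2, one_smul]

include hB in
theorem card_Dbar {v v' : V} (hvv : B v v' = 1)
    (H : Subgroup (V ≃ₗ[F] V)) :
    Nat.card (Dbar B H v v') = Nat.card (T1 B H v v') * Nat.card (KH B H v v') := by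
  classical
  have hv0 : v ≠ 0 := ne_zero_of_hyp B hvv
  rw [← Nat.card_prod]
  symm
  apply Nat.card_congr
  have hex : ∀ c : ↥(T1 B H v v'), ∃ l ∈ Dbar B H v v', l v = ((c : Fˣ) : F) • v := fun c => c.2
  choose l0 hl0 hl0v using hex
  refine Equiv.ofBijective
    (fun p : ↥(T1 B H v v') × ↥(KH B H v v') =>
      (⟨l0 p.1 * (p.2 : V ≃ₗ[F] V), (Dbar B H v v').mul_mem (hl0 p.1) p.2.2.1⟩ :
        ↥(Dbar B H v v'))) ⟨?_, ?_⟩
  · rintro ⟨c, k⟩ ⟨c', k'⟩ h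
    have h' : l0 c * (k : V ≃ₗ[F] V) = l0 c' * (k' : V ≃ₗ[F] V) := congrArg Subtype.val h
    have h1 : (l0 c * (k : V ≃ₗ[F] V)) v = (l0 c' * (k' : V ≃ₗ[F] V)) v := by rw [h']
    rw [LinearEquiv.mul_apply, LinearEquiv.mul_apply, k.2.2.2.1, k'.2.2.2.1, hl0v, hl0v] at h1
    have hc : (((c : Fˣ) : F)) = (((c' : Fˣ) : F)) := by
      have : ((((c : Fˣ) : F)) - (((c' : Fˣ) : F))) • v = 0 := by rw [sub_smul, h1, sub_self]
      rcases smul_eq_zero.1 this with h0 | h0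
      · exact sub_eq_zero.1 h0
      · exact absurd h0 hv0
    have hc' : c = c' := Subtype.ext (Units.ext hc)
    subst hc'
    have e2 : (k : V ≃ₗ[F] V) = (k' : V ≃ₗ[F] V) := mul_left_cancel h'
    exact Prod.ext rfl (Subtype.ext e2)
  · rintro ⟨l, hl⟩
    obtain ⟨hl1, ⟨c, hc, hlv⟩, -⟩ := (mem_Lv B).1 hl.1
    have hcT : Units.mk0 c hc ∈ T1 B H v v' := ⟨l, hl, by simpa using hlv⟩
    set cc : ↥(T1 B H v v') := ⟨Units.mk0 c hc, hcT⟩ with hcc
    have hkD : (l0 cc)⁻¹ * l ∈ Dbar B H v v' :=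
      (Dbar B H v v').mul_mem ((Dbar B H v v').inv_mem (hl0 cc)) hl
    have hkv : ((l0 cc)⁻¹ * l) v = v := by
      rw [LinearEquiv.mul_apply, hlv]
      have h2 : l0 cc v = c • v := by
        rw [hl0v cc]
        rfl
      rw [← h2, inv_apply_apply']
    have hkK : (l0 cc)⁻¹ * l ∈ Kv B v v' := mem_Kv_of_Lv B hB hvv hkD.1 hkv
    refine ⟨(cc, ⟨(l0 cc)⁻¹ * l, hkD, hkK⟩), ?_⟩
    apply Subtype.ext
    show l0 cc * ((l0 cc)⁻¹ * l) = l
    group

include hB in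
theorem card_H_inf_Pv {v v' : V} (hvv : B v v' = 1)
    (H : Subgroup (V ≃ₗ[F] V)) :
    Nat.card ↥(H ⊓ Pv B v) = Nat.card ↥(H ⊓ Qv B v) * Nat.card (Dbar B H v v') := by
  classical
  rw [← Nat.card_prod]
  symm
  apply Nat.card_congr
  have hex : ∀ l : ↥(Dbar B H v v'), ∃ g ∈ Qv B v, g * (l : V ≃ₗ[F] V) ∈ H := fun l => l.2.2
  choose a0 ha0 ha0H using hex
  have huniq : ∀ a a' l l' : V ≃ₗ[F] V, a ∈ Qv B v → a' ∈ Qv B v → l ∈ Lv B v v' →
      l' ∈ Lv B v v' → a * l = a' * l' → a = a' ∧ l = l' := by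
    intro a a' l l' ha ha' hl hl' h'
    have h2 : a'⁻¹ * a = l' * l⁻¹ := by
      rw [inv_mul_eq_iff_eq_mul, ← mul_assoc, ← h', mul_assoc, mul_inv_cancel, mul_one]
    have h3 : a'⁻¹ * a ∈ Qv B v ⊓ Lv B v v' := by
      refine ⟨(Qv B v).mul_mem ((Qv B v).inv_mem ha') ha, ?_⟩
      rw [h2]
      exact (Lv B v v').mul_mem hl' ((Lv B v v').inv_mem hl)
    rw [Qv_inf_Lv B hB hvv, Subgroup.mem_bot] at h3
    have e1 : a = a' := by
      rw [inv_mul_eq_one] at h3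
      exact h3.symm
    refine ⟨e1, ?_⟩
    rw [e1] at h'
    exact mul_left_cancel h'
  refine Equiv.ofBijective
    (fun p : ↥(H ⊓ Qv B v) × ↥(Dbar B H v v') =>
      (⟨(p.1 : V ≃ₗ[F] V) * a0 p.2 * (p.2 : V ≃ₗ[F] V), ?_, ?_⟩ : ↥(H ⊓ Pv B v))) ⟨?_, ?_⟩
  · rw [mul_assoc]
    exact H.mul_mem p.1.2.1 (ha0H p.2)
  · exact (Pv B v).mul_mem ((Pv B v).mul_mem (Qv_le_Pv B v p.1.2.2) (Qv_le_Pv B v (ha0 p.2)))
      (Lv_le_Pv B v v' p.2.2.1)
  · rintro ⟨b, l⟩ ⟨b', l'⟩ h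
    have h' : (b : V ≃ₗ[F] V) * a0 l * (l : V ≃ₗ[F] V) =
        (b' : V ≃ₗ[F] V) * a0 l' * (l' : V ≃ₗ[F] V) := congrArg Subtype.val h
    obtain ⟨e1, e2⟩ := huniq _ _ _ _ ((Qv B v).mul_mem b.2.2 (ha0 l))
      ((Qv B v).mul_mem b'.2.2 (ha0 l')) l.2.1 l'.2.1 h'
    have e2' : l = l' := Subtype.ext e2
    subst e2'
    have e3 : (b : V ≃ₗ[F] V) = (b' : V ≃ₗ[F] V) := mul_right_cancel e1
    exact Prod.ext (Subtype.ext e3) rfl
  · rintro ⟨g, hgH, hgP⟩
    obtain ⟨a, ha, l, hl, rfl⟩ := Pv_decomp B hB hvv hgP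
    have hlD : l ∈ Dbar B H v v' := ⟨hl, a, ha, hgH⟩
    set ll : ↥(Dbar B H v v') := ⟨l, hlD⟩ with hll
    have hbQ : a * (a0 ll)⁻¹ ∈ Qv B v := (Qv B v).mul_mem ha ((Qv B v).inv_mem (ha0 ll))
    have hbH : a * (a0 ll)⁻¹ ∈ H := by
      have : a * (a0 ll)⁻¹ = (a * l) * (a0 ll * l)⁻¹ := by group
      rw [this]
      exact H.mul_mem hgH (H.inv_mem (ha0H ll))
    refine ⟨(⟨a * (a0 ll)⁻¹, hbH, hbQ⟩, ll), ?_⟩
    apply Subtype.ext
    show a * (a0 ll)⁻¹ * a0 ll * l = a * l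
    group

/-- (L0) the key inequality: `[P_v : H ∩ P_v] ≤ [G : H]` -/
theorem L0 [Finite F] [FiniteDimensional F V] {v v' : V} (hvv : B v v' = 1)
    {H : Subgroup (V ≃ₗ[F] V)} (hH : H ≤ isoGroup B) :
    Nat.card (Wsub B v v') * Nat.card F * ((Nat.card F - 1) * Nat.card (Kv B v v')) ≤
      H.relIndex (isoGroup B) *
        (Nat.card (Bbar B hB H v v') * Nat.card (Zv B hB H v) * Nat.card (T1 B H v v') *
          Nat.card (KH B H v v')) := by
  haveI : Finite V := Module.finite_of_finite F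
  haveI : Finite (V ≃ₗ[F] V) := Finite.of_injective (fun g : V ≃ₗ[F] V => (g : V → V))
    (fun g g' h => LinearEquiv.ext (congrFun h))
  have hcardP : Nat.card (Pv B v) =
      Nat.card (Wsub B v v') * Nat.card F * ((Nat.card F - 1) * Nat.card (Kv B v v')) := by
    rw [card_Pv B hB hvv, card_Qv B hB hvv, card_Lv B hB hvv]
  have hcardH : Nat.card ↥(H ⊓ Pv B v) =
      Nat.card (Bbar B hB H v v') * Nat.card (Zv B hB H v) * Nat.card (T1 B H v v') *
          Nat.card (KH B H v v') := by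
    rw [card_H_inf_Pv B hB hvv, card_H_inf_Qv B hB hvv, card_Dbar B hB hvv]
    ring
  -- `|P_v| = [P_v : H ∩ P_v] |H ∩ P_v|`
  have h1 : (H ⊓ Pv B v).relIndex (Pv B v) * Nat.card ↥(H ⊓ Pv B v) = Nat.card (Pv B v) := by
    have h := Subgroup.card_mul_index ((H ⊓ Pv B v).subgroupOf (Pv B v))
    have e : Nat.card ↥((H ⊓ Pv B v).subgroupOf (Pv B v)) = Nat.card ↥(H ⊓ Pv B v) :=
      Nat.card_congr (Subgroup.subgroupOfEquivOfLe inf_le_right).toEquiv
    rw [e] at h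
    rw [Subgroup.relIndex, mul_comm]
    exact h
  have h2 : (H ⊓ Pv B v).relIndex (Pv B v) ≤ H.relIndex (isoGroup B) := by
    rw [Subgroup.inf_relIndex_right]
    apply Subgroup.relIndex_le_of_le_right (Pv_le B v)
    rw [Subgroup.relIndex]
    exact Subgroup.index_ne_zero_of_finite
  rw [← hcardP, ← hcardH, ← h1]
  exact Nat.mul_le_mul_right _ h2

/-- (L0') the same divided by `|K_H|` -/
theorem L0' [Finite F] [FiniteDimensional F V] {v v' : V} (hvv : B v v' = 1)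
    {H : Subgroup (V ≃ₗ[F] V)} (hH : H ≤ isoGroup B) :
    Nat.card (Wsub B v v') * Nat.card F *
        ((Nat.card F - 1) * (KH B H v v').relIndex (Kv B v v')) ≤
      H.relIndex (isoGroup B) *
        (Nat.card (Bbar B hB H v v') * Nat.card (Zv B hB H v) * Nat.card (T1 B H v v')) := by
  haveI : Finite V := Module.finite_of_finite F
  haveI : Finite (V ≃ₗ[F] V) := Finite.of_injective (fun g : V ≃ₗ[F] V => (g : V → V))
    (fun g g' h => LinearEquiv.ext (congrFun h))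
  have h0 := L0 B hB hvv hH
  have hK : (KH B H v v').relIndex (Kv B v v') * Nat.card (KH B H v v') =
      Nat.card (Kv B v v') := by
    have h := Subgroup.card_mul_index ((KH B H v v').subgroupOf (Kv B v v'))
    have e : Nat.card ↥((KH B H v v').subgroupOf (Kv B v v')) = Nat.card ↥(KH B H v v') :=
      Nat.card_congr (Subgroup.subgroupOfEquivOfLe (KH_le_Kv B H v v')).toEquiv
    rw [e] at h
    rw [Subgroup.relIndex, mul_comm]
    exact h
  have hpos : 0 < Nat.card (KH B H v v') := Nat.card_pos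
  rw [← hK] at h0
  have h3 : (Nat.card (Wsub B v v') * Nat.card F *
        ((Nat.card F - 1) * (KH B H v v').relIndex (Kv B v v'))) * Nat.card (KH B H v v') ≤
      (H.relIndex (isoGroup B) *
        (Nat.card (Bbar B hB H v v') * Nat.card (Zv B hB H v) * Nat.card (T1 B H v v'))) *
          Nat.card (KH B H v v') := by
    calc _ = Nat.card (Wsub B v v') * Nat.card F * ((Nat.card F - 1) *
          ((KH B H v v').relIndex (Kv B v v') * Nat.card (KH B H v v'))) := by ring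
      _ ≤ _ := h0
      _ = _ := by ring
  exact Nat.le_of_mul_le_mul_right h3 hpos

/-- `T_1` has at most `q - 1` elements -/
theorem card_T1_le [Finite F] (H : Subgroup (V ≃ₗ[F] V)) (v v' : V) :
    Nat.card (T1 B H v v') ≤ Nat.card F - 1 := by
  rw [← Nat.card_units]
  exact Nat.card_le_card_of_injective _ Subtype.val_injective

include hB in
/-- `|W| = q^(2m-2)` -/
theorem card_Wsub [Finite F] [FiniteDimensional F V] {m q : ℕ} (S : Setting B m q) {v v' : V}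
    (hvv : B v v' = 1) : Nat.card (Wsub B v v') = q ^ (2 * m - 2) := by
  have h1 := finrank_Wsub_add_two B hB hvv
  rw [S.dim] at h1
  have h2 : Module.finrank F ↥(Wsub B v v') = 2 * m - 2 := by omega
  rw [Module.natCard_eq_pow_finrank (K := F), h2, S.card]

end Cfsg.Agent.Lib.Helper66_MISp_LOCAL
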