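import Mathlib
import Cfsg.Agent.Lib.Helper66_MI_SpDefs

set_option autoImplicit false
set_option linter.style.haveILetI false
set_option linter.deprecated false

/-!
# S2141 package ISO (architect helper66): isotropic additive subgroups are small

Instead of a character sum we compose `β` with an `𝔽_p`-linear functional `F → 𝔽_p` that kills `Z`: the
result is a nondegenerate `𝔽_p`-bilinear form on `W` for which `A` is totally isotropic, so
`2 dim A ≤ dim W` over `𝔽_p`.
-/

namespace Cfsg.Agent.Lib.Helper70_MISp_ISO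

open Cfsg.Agent.Lib.Helper94_Symp Cfsg.Agent.Lib.Helper94_SympTI
  Cfsg.Agent.Lib.Helper94_SympPerfect Cfsg.Agent.Lib.Helper66_MI_SpDefs

variable {F V : Type*} [Field F] [AddCommGroup V] [Module F V]
variable (B : LinearMap.BilinForm F V) (hB : B.IsAlt)

/-- a totally isotropic subspace of a nondegenerate bilinear space has at most half the dimension -/
theorem two_mul_finrank_le_of_isotropic {K W : Type*} [Field K] [AddCommGroup W] [Module K W]
    [FiniteDimensional K W] (b : LinearMap.BilinForm K W) (hb : b.Nondegenerate)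
    (A : Submodule K W) (hA : ∀ a ∈ A, ∀ a' ∈ A, b a a' = 0) :
    2 * Module.finrank K A ≤ Module.finrank K W := by
  have h1 : A ≤ b.orthogonal A := by
    intro a ha
    rw [LinearMap.BilinForm.mem_orthogonal_iff]
    intro n hn
    exact hA n hn a ha
  have h2 := LinearMap.BilinForm.finrank_orthogonal hb A
  have h3 := Submodule.finrank_mono h1
  have h4 := Submodule.finrank_le A
  omega

/-- an additive subgroup `A` of a finite nondegenerate bilinear space with `β(A, A) ⊆ Z ≠ F`
has `|A|² ≤ |W|` -/
theorem card_sq_le_of_isotropic {W : Type*} [AddCommGroup W] [Module F W] [Finite F]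
    [FiniteDimensional F W] (β : LinearMap.BilinForm F W) (hβ : β.Nondegenerate)
    (Z : AddSubgroup F) (hZ : Z ≠ ⊤) (A : AddSubgroup W)
    (hA : ∀ a ∈ A, ∀ a' ∈ A, β a a' ∈ Z) : Nat.card A ^ 2 ≤ Nat.card W := by
  classical
  haveI : Finite W := Module.finite_of_finite F
  obtain ⟨p, hp⟩ := CharP.exists F
  haveI : Fact p.Prime := ⟨CharP.char_is_prime F p⟩
  letI algF : Algebra (ZMod p) F := ZMod.algebra F p
  letI modW : Module (ZMod p) W := Module.compHom W (algebraMap (ZMod p) F)
  have hsmul : ∀ (c : ZMod p) (w : W), c • w = (algebraMap (ZMod p) F c) • w := fun _ _ => rfl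
  -- a functional killing `Z`
  have hZlt : AddSubgroup.toZModSubmodule p Z < ⊤ := by
    rw [lt_top_iff_ne_top]
    intro h
    apply hZ
    rw [eq_top_iff]
    intro x _
    have : x ∈ AddSubgroup.toZModSubmodule p Z := by rw [h]; trivial
    exact this
  obtain ⟨lam, hlam0, hlamZ⟩ := Submodule.exists_le_ker_of_lt_top _ hZlt
  have hlamZ' : ∀ z ∈ Z, lam z = 0 := fun z hz => LinearMap.mem_ker.mp (hlamZ hz)
  obtain ⟨f0, hf0⟩ : ∃ f0 : F, lam f0 ≠ 0 := by
    by_contra hcon
    push_neg at hcon
    exact hlam0 (LinearMap.ext hcon)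
  -- the new form
  let β' : LinearMap.BilinForm (ZMod p) W := LinearMap.mk₂ (ZMod p) (fun w a => lam (β w a))
    (fun w₁ w₂ a => by simp only [map_add, LinearMap.add_apply])
    (fun c w a => by
      simp only [hsmul, map_smul, LinearMap.smul_apply, smul_eq_mul]
      rw [← Algebra.smul_def, map_smul, smul_eq_mul])
    (fun w a₁ a₂ => by simp only [map_add])
    (fun c w a => by
      simp only [hsmul, map_smul, smul_eq_mul]
      rw [← Algebra.smul_def, map_smul, smul_eq_mul])
  have hβ'_apply : ∀ w a, β' w a = lam (β w a) := fun _ _ => rfl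
  have hβ' : β'.Nondegenerate := by
    refine ⟨fun x hx => ?_, fun y hy => ?_⟩
    · by_contra hx0
      obtain ⟨y0, hy0⟩ : ∃ y0, β x y0 ≠ 0 := by
        by_contra hcon
        push_neg at hcon
        exact hx0 (hβ.1 x hcon)
      apply hf0
      have := hx ((f0 / β x y0) • y0)
      rw [hβ'_apply, map_smul, smul_eq_mul, div_mul_cancel₀ _ hy0] at this
      exact this
    · by_contra hy0
      obtain ⟨x0, hx0⟩ : ∃ x0, β x0 y ≠ 0 := by
        by_contra hcon
        push_neg at hcon
        exact hy0 (hβ.2 y hcon)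
      apply hf0
      have := hy ((f0 / β x0 y) • x0)
      rw [hβ'_apply, map_smul, LinearMap.smul_apply, smul_eq_mul, div_mul_cancel₀ _ hx0] at this
      exact this
  -- the subspace
  have hiso : ∀ a ∈ AddSubgroup.toZModSubmodule p A, ∀ a' ∈ AddSubgroup.toZModSubmodule p A,
      β' a a' = 0 := by
    intro a ha a' ha'
    rw [hβ'_apply]
    exact hlamZ' _ (hA a ha a' ha')
  have hdim := two_mul_finrank_le_of_isotropic β' hβ' (AddSubgroup.toZModSubmodule p A) hiso
  have hcW : Nat.card W = p ^ Module.finrank (ZMod p) W := by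
    haveI := Fintype.ofFinite W
    rw [Nat.card_eq_fintype_card, Module.card_eq_pow_finrank (K := ZMod p) (V := W), ZMod.card]
  have hcA : Nat.card A = p ^ Module.finrank (ZMod p) (AddSubgroup.toZModSubmodule p A) := by
    have h1 : Nat.card A = Nat.card (AddSubgroup.toZModSubmodule p A) := rfl
    haveI := Fintype.ofFinite (AddSubgroup.toZModSubmodule p A)
    rw [h1, Nat.card_eq_fintype_card,
      Module.card_eq_pow_finrank (K := ZMod p) (V := AddSubgroup.toZModSubmodule p A), ZMod.card]
  rw [hcW, hcA, ← pow_mul, mul_comm]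
  exact Nat.pow_le_pow_right (Fact.out : p.Prime).pos hdim

end Cfsg.Agent.Lib.Helper70_MISp_ISO
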