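import Mathlib
import Cfsg.Agent.Lib.Helper66_MI_SpDefs
import Cfsg.Agent.Lib.Helper70_MISp_ISO

set_option autoImplicit false
set_option linter.style.haveILetI false
set_option linter.deprecated false
set_option linter.unusedSimpArgs false
set_option linter.unusedVariables false

/-!
# S2141 package O1 (architect helper66)

`q` odd, `Z = Zv ≠ F`: `2 B(w, w') ∈ Z` for `w, w' ∈ Bbar` (commutator of two elements of `Q_v`),
`|Bbar|² ≤ |W|` (package ISO with `β = 2 B` on `W`), `3 |Z| ≤ q`.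
-/

namespace Cfsg.Agent.Lib.Helper70_MISp_O1

open Cfsg.Agent.Lib.Helper94_Symp Cfsg.Agent.Lib.Helper94_SympTI
  Cfsg.Agent.Lib.Helper94_SympPerfect Cfsg.Agent.Lib.Helper66_MI_SpDefs

variable {F V : Type*} [Field F] [AddCommGroup V] [Module F V]
variable (B : LinearMap.BilinForm F V) (hB : B.IsAlt)

/-- commutator of two elements of `Q_v` (own copy of package GV's `gv_comm`) -/
theorem gv_comm' {v w w' : V} (hw : B v w = 0) (hw' : B v w' = 0) (t t' : F) :
    gv B hB v w t * gv B hB v w' t' * (gv B hB v w t)⁻¹ * (gv B hB v w' t')⁻¹ =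
      stv B hB v (2 * B w' w) := by
  have hnw : B v (-w) = 0 := by rw [map_neg, hw, neg_zero]
  have hnw' : B v (-w') = 0 := by rw [map_neg, hw', neg_zero]
  have hs : B v (w + w') = 0 := by rw [map_add, hw, hw', add_zero]
  have hs2 : B v (w + w' + -w) = 0 := by rw [map_add, hs, hnw, add_zero]
  rw [gv_inv B hB hw, gv_inv B hB hw', gv_mul B hB hw hw', gv_mul B hB hs hnw,
    gv_mul B hB hs2 hnw', ← gv_zero]
  have e1 : w + w' + -w + -w' = 0 := by abel
  have e2 : t + t' + B w' w + -t + B (-w) (w + w') + -t' + B (-w') (w + w' + -w) =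
      2 * B w' w := by
    simp only [map_neg, map_add, LinearMap.neg_apply, LinearMap.add_apply, hB w, hB w']
    rw [alt_swap B hB w w']
    ring
  rw [e1, e2]

include hB in
/-- `B` is nondegenerate on `W = ⟨v, v'⟩^⊥` (own copy of package KTRANS's `Wsub_nondegOn`, in the
form needed here) -/
theorem exists_ne_zero_in_Wsub (hN : B.Nondegenerate) {v v' : V} (hvv : B v v' = 1)
    {w : V} (hw : w ∈ Wsub B v v') (h0 : w ≠ 0) : ∃ x ∈ Wsub B v v', B x w ≠ 0 := by
  obtain ⟨x, hx⟩ : ∃ x, B x w ≠ 0 := by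
    by_contra hcon
    push Not at hcon
    exact h0 (hN.2 w hcon)
  have hvw : B v w = 0 := by rw [alt_swap B hB, hw.1, neg_zero]
  have hvw' : B v' w = 0 := by rw [alt_swap B hB, hw.2, neg_zero]
  have hv'v : B v' v = -1 := by rw [alt_swap B hB, hvv]
  refine ⟨x - B x v' • v + B x v • v', ⟨?_, ?_⟩, ?_⟩
  · simp only [map_add, map_sub, map_smul, LinearMap.add_apply, LinearMap.sub_apply,
      LinearMap.smul_apply, smul_eq_mul, hB v, hv'v]
    ring
  · simp only [map_add, map_sub, map_smul, LinearMap.add_apply, LinearMap.sub_apply,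
      LinearMap.smul_apply, smul_eq_mul, hB v', hvv]
    ring
  · simp only [map_add, map_sub, map_smul, LinearMap.add_apply, LinearMap.sub_apply,
      LinearMap.smul_apply, smul_eq_mul, hvw, hvw']
    simpa using hx

/-- a proper additive subgroup of a finite field of odd characteristic has at most `q / 3`
elements -/
theorem three_mul_card_le [Finite F] (h2 : (2 : F) ≠ 0) (Z : AddSubgroup F) (hZ : Z ≠ ⊤) :
    3 * Nat.card Z ≤ Nat.card F := by
  classical
  obtain ⟨p, hp⟩ := CharP.exists F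
  haveI : Fact p.Prime := ⟨CharP.char_is_prime F p⟩
  have hpp : p.Prime := Fact.out
  haveI := Fintype.ofFinite F
  obtain ⟨n, -, hn⟩ := FiniteField.card F p
  have hcard : Nat.card F = p ^ (n : ℕ) := by rw [Nat.card_eq_fintype_card, hn]
  have hidx := AddSubgroup.card_mul_index Z
  have hne1 : Z.index ≠ 1 := fun h => hZ (AddSubgroup.index_eq_one.mp h)
  have hdvd : Z.index ∣ p ^ (n : ℕ) := by
    rw [← hcard, ← hidx]
    exact Dvd.intro_left _ rfl
  obtain ⟨j, -, hj⟩ := (Nat.dvd_prime_pow hpp).mp hdvd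
  have hj0 : j ≠ 0 := by
    rintro rfl
    exact hne1 (by rw [hj, pow_zero])
  have hp2 : p ≠ 2 := by
    rintro rfl
    apply h2
    have := CharP.cast_eq_zero F 2
    exact_mod_cast this
  have hp3 : 3 ≤ p := by
    have := hpp.two_le
    omega
  have hle : 3 ≤ Z.index := by
    rw [hj]
    calc 3 ≤ p := hp3
      _ = p ^ 1 := (pow_one p).symm
      _ ≤ p ^ j := Nat.pow_le_pow_right hpp.pos (Nat.one_le_iff_ne_zero.mpr hj0)
  rw [← hidx, mul_comm]
  exact Nat.mul_le_mul_left _ hle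

theorem O1 [Finite F] [FiniteDimensional F V] {m q : ℕ} (S : Setting B m q) (h2 : (2 : F) ≠ 0)
    {v v' : V} (hvv : B v v' = 1) {H : Subgroup (V ≃ₗ[F] V)}
    (hZ : Zv B S.alt H v ≠ ⊤) :
    (∀ w ∈ Bbar B S.alt H v v', ∀ w' ∈ Bbar B S.alt H v v', 2 * B w w' ∈ Zv B S.alt H v) ∧
      Nat.card (Bbar B S.alt H v v') ^ 2 ≤ Nat.card (Wsub B v v') ∧
      3 * Nat.card (Zv B S.alt H v) ≤ q := by
  have hB := S.alt
  have part1 : ∀ w ∈ Bbar B S.alt H v v', ∀ w' ∈ Bbar B S.alt H v v',
      2 * B w w' ∈ Zv B S.alt H v := by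
    rintro w ⟨hwW, t, ht⟩ w' ⟨hw'W, t', ht'⟩
    have hw : B v w = 0 := by rw [alt_swap B hB, hwW.1, neg_zero]
    have hw' : B v w' = 0 := by rw [alt_swap B hB, hw'W.1, neg_zero]
    rw [mem_Zv, ← gv_comm' B S.alt hw' hw t' t]
    exact H.mul_mem (H.mul_mem (H.mul_mem ht' ht) (H.inv_mem ht')) (H.inv_mem ht)
  refine ⟨part1, ?_, ?_⟩
  · -- ISO on `W` with `β = 2 B`
    let β : LinearMap.BilinForm F (Wsub B v v') := (2 : F) • B.restrict (Wsub B v v')
    have hβ_apply : ∀ a b : Wsub B v v', β a b = 2 * B (a : V) (b : V) := fun a b => rfl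
    have hβ : β.Nondegenerate := by
      refine ⟨fun x hx => ?_, fun y hy => ?_⟩
      · by_contra hx0
        have hx0' : (x : V) ≠ 0 := fun h => hx0 (Subtype.ext h)
        obtain ⟨y, hyW, hy⟩ := exists_ne_zero_in_Wsub B hB S.nondeg hvv x.2 hx0'
        have := hx ⟨y, hyW⟩
        rw [hβ_apply] at this
        rcases mul_eq_zero.mp this with h | h
        · exact h2 h
        · exact hy (by rw [alt_swap B hB]; simpa using h)
      · by_contra hy0
        have hy0' : (y : V) ≠ 0 := fun h => hy0 (Subtype.ext h)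
        obtain ⟨x, hxW, hx⟩ := exists_ne_zero_in_Wsub B hB S.nondeg hvv y.2 hy0'
        have := hy ⟨x, hxW⟩
        rw [hβ_apply] at this
        rcases mul_eq_zero.mp this with h | h
        · exact h2 h
        · exact hx h
    let A : AddSubgroup (Wsub B v v') :=
      (Bbar B S.alt H v v').comap (Wsub B v v').subtype.toAddMonoidHom
    have hA : ∀ a ∈ A, ∀ a' ∈ A, β a a' ∈ Zv B S.alt H v := by
      intro a ha a' ha'
      rw [hβ_apply]
      exact part1 _ ha _ ha'
    have hcard : Nat.card A = Nat.card (Bbar B S.alt H v v') := by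
      refine Nat.card_congr ⟨fun a => ⟨a.1.1, a.2⟩, fun b => ⟨⟨b.1, b.2.1⟩, b.2⟩, ?_, ?_⟩
      · intro a; rfl
      · intro b; rfl
    rw [← hcard]
    exact Cfsg.Agent.Lib.Helper70_MISp_ISO.card_sq_le_of_isotropic β hβ _ hZ A hA
  · have h3 := three_mul_card_le h2 _ hZ
    have h4 : Nat.card F = q := S.card
    omega

/-- `Z ≠ F` in Case II -/
theorem Zv_ne_top {hB : B.IsAlt} {H : Subgroup (V ≃ₗ[F] V)} (hNR : NoRoot B hB H) {v : V}
    (hv : v ≠ 0) : Zv B hB H v ≠ ⊤ := by
  intro htop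
  apply hNR v hv
  rintro g ⟨t, rfl⟩
  have : t ∈ Zv B hB H v := by rw [htop]; trivial
  exact this

end Cfsg.Agent.Lib.Helper70_MISp_O1
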