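import Mathlib
import Cfsg.Agent.Lib.Helper66_MI_SpDefs
import Cfsg.Agent.Lib.Helper66_MISp_LOCAL
import Cfsg.Agent.Lib.Helper70_MISp_O1

set_option autoImplicit false

/-!
# S2141 package O4b (architect helper66): `Sp_4(q)`, `q ≥ 5` odd, `K_H ≠ K` forces `Bbar ≠ 0`
-/

namespace Cfsg.Agent.Lib.Helper10_MISp_O4b

open Cfsg.Agent.Lib.Helper94_Symp Cfsg.Agent.Lib.Helper94_SympTI
  Cfsg.Agent.Lib.Helper94_SympPerfect Cfsg.Agent.Lib.Helper66_MI_SpDefs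

variable {F V : Type*} [Field F] [AddCommGroup V] [Module F V]
variable (B : LinearMap.BilinForm F V) (hB : B.IsAlt)


theorem Npts_two (q : ℕ) (hq : 2 ≤ q) : Npts 2 q = (q + 1) * (q ^ 2 + 1) := by
  obtain ⟨r, rfl⟩ : ∃ r, q = r + 1 := ⟨q - 1, by omega⟩
  unfold Npts
  have h1 : (r + 1) ^ (2 * 2) = r * ((r + 1 + 1) * ((r + 1) ^ 2 + 1)) + 1 := by ring
  rw [h1, Nat.add_sub_cancel, Nat.add_sub_cancel, Nat.mul_div_cancel_left _ (by omega : 0 < r)]

theorem arith (q n s z t : ℕ) (hq : 5 ≤ q) (hs : sl2min q ≤ s) (hz : 3 * z ≤ q) (ht : t ≤ q - 1)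
    (hn : n < Npts 2 q) (hL : q ^ 2 * q * ((q - 1) * s) ≤ n * (1 * z * t)) : False := by
  rw [Npts_two q (by omega)] at hn
  obtain ⟨r, rfl⟩ : ∃ r, q = r + 1 := ⟨q - 1, by omega⟩
  rw [Nat.add_sub_cancel] at ht hL
  have hr : 0 < r := by omega
  -- 3 q^2 s ≤ n
  have h1 : ((r + 1) * r) * (3 * (r + 1) ^ 2 * s) ≤ ((r + 1) * r) * n := by
    calc ((r + 1) * r) * (3 * (r + 1) ^ 2 * s) = 3 * ((r + 1) ^ 2 * (r + 1) * (r * s)) := by ring
      _ ≤ 3 * (n * (1 * z * t)) := Nat.mul_le_mul_left _ hL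
      _ = n * ((3 * z) * t) := by ring
      _ ≤ n * ((r + 1) * r) := Nat.mul_le_mul_left _ (Nat.mul_le_mul hz ht)
      _ = ((r + 1) * r) * n := by ring
  have h2 : 3 * (r + 1) ^ 2 * s ≤ n := Nat.le_of_mul_le_mul_left h1 (by positivity)
  have h3 : 3 * (r + 1) ^ 2 * s < (r + 1 + 1) * ((r + 1) ^ 2 + 1) := lt_of_le_of_lt h2 hn
  unfold sl2min at hs
  split_ifs at hs with hc
  · rcases hc with hc | hc | hc | hc
    · have : r = 4 := by omega
      subst this; omega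
    · have : r = 6 := by omega
      subst this; omega
    · have : r = 8 := by omega
      subst this; omega
    · have : r = 10 := by omega
      subst this; omega
  · have h4 : 3 * (r + 1) ^ 2 * (r + 1 + 1) ≤ 3 * (r + 1) ^ 2 * s := Nat.mul_le_mul_left _ hs
    nlinarith

/-- `O4b` with the inputs from packages LOCAL (`L0'`, `card_T1_le`, `card_Wsub`) and O1
(`3 |Z| ≤ q`) as explicit hypotheses -/
theorem O4b_of [Finite F] [FiniteDimensional F V] {q : ℕ} (S : Setting B 2 q)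
    (hq : 5 ≤ q) {v v' : V} {H : Subgroup (V ≃ₗ[F] V)}
    (hH : Small B S.alt (Npts 2 q) H) (hK : KMin B v v' (sl2min q))
    (hKH : KH B H v v' ≠ Kv B v v')
    (hz : 3 * Nat.card (Zv B S.alt H v) ≤ q)
    (hL : Nat.card (Wsub B v v') * Nat.card F *
        ((Nat.card F - 1) * (KH B H v v').relIndex (Kv B v v')) ≤
      H.relIndex (isoGroup B) *
        (Nat.card (Bbar B S.alt H v v') * Nat.card (Zv B S.alt H v) * Nat.card (T1 B H v v')))
    (ht : Nat.card (T1 B H v v') ≤ Nat.card F - 1)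
    (hW : Nat.card (Wsub B v v') = q ^ (2 * 2 - 2)) : Bbar B S.alt H v v' ≠ ⊥ := by
  intro hBb
  have hs := hK (KH B H v v') (KH_le_Kv B H v v') hKH
  have hb : Nat.card (Bbar B S.alt H v v') = 1 := by
    rw [hBb]; exact Nat.card_unique
  rw [hW, S.card, hb] at hL
  rw [S.card] at ht
  exact arith q _ _ _ _ hq hs hz ht hH.idx hL

theorem O4b [Finite F] [FiniteDimensional F V] {q : ℕ} (S : Setting B 2 q) (h2 : (2 : F) ≠ 0)
    (hq : 5 ≤ q) {v v' : V} (hvv : B v v' = 1) {H : Subgroup (V ≃ₗ[F] V)}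
    (hH : Small B S.alt (Npts 2 q) H) (hK : KMin B v v' (sl2min q))
    (hKH : KH B H v v' ≠ Kv B v v') : Bbar B S.alt H v v' ≠ ⊥ := by
  have hv : v ≠ 0 := Cfsg.Agent.Lib.Helper66_MISp_LOCAL.ne_zero_of_hyp B hvv
  have hZ : Zv B S.alt H v ≠ ⊤ := Cfsg.Agent.Lib.Helper70_MISp_O1.Zv_ne_top B hH.noRoot hv
  exact O4b_of B S hq hH hK hKH
    (Cfsg.Agent.Lib.Helper70_MISp_O1.O1 B S h2 hvv hZ).2.2
    (Cfsg.Agent.Lib.Helper66_MISp_LOCAL.L0' B S.alt hvv hH.le)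
    (Cfsg.Agent.Lib.Helper66_MISp_LOCAL.card_T1_le B H v v')
    (Cfsg.Agent.Lib.Helper66_MISp_LOCAL.card_Wsub B S.alt S hvv)

end Cfsg.Agent.Lib.Helper10_MISp_O4b
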