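import Mathlib
import Cfsg.Agent.Lib.Helper94_OrthRefl

set_option autoImplicit false
set_option linter.unusedSimpArgs false
set_option linter.unusedVariables false
set_option linter.unusedSectionVars false

/-!
Orthogonal groups, odd characteristic: the stabiliser of a nondegenerate subspace `A'` of dimension
FOUR whose orthogonal complement `A` is nonzero of smaller dimension (splits `4|3`, `4|2`, `4|1`;
needed for `Ω₇(q)`, row S5813) - vocabulary of the market ND4 (helper32).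

`NCtx` bundles the hypotheses of `Helper80_OrthNdFive.maximal_stab_five` (without the bound on the
dimension of `A'`) together with an intermediate group `stab A' ⊓ G ≤ M ≤ G`.
-/

namespace Cfsg.Agent.Lib.Helper32_ND4Defs

open Module Cfsg.Agent.Lib.Helper94_Symp Cfsg.Agent.Lib.Helper94_OrthSmall
  Cfsg.Agent.Lib.Helper94_OrthSiegel Cfsg.Agent.Lib.Helper94_OrthSiegel2
  Cfsg.Agent.Lib.Helper94_OrthPara Cfsg.Agent.Lib.Helper94_OrthVec
  Cfsg.Agent.Lib.Helper94_OrthNondeg Cfsg.Agent.Lib.Helper94_OrthRefl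

variable {F V : Type*} [Field F] [AddCommGroup V] [Module F V]

/-- the standing hypotheses: `V = A ⊥ A'`, `G` a group of isometries containing the Siegel elements
and the products of two commuting reflections in vectors of equal norm, `stab A' ⊓ G ≤ M ≤ G`. -/
structure NCtx (Q : V → F) (B : LinearMap.BilinForm F V) (G M : Subgroup (V ≃ₗ[F] V))
    (A A' : Submodule F V) : Prop where
  hQs : ∀ (c : F) (v : V), Q (c • v) = c * c * Q v
  hQp : ∀ u v : V, Q (u + v) = Q u + Q v + B u v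
  h2 : (2 : F) ≠ 0
  hN : B.Nondegenerate
  hG1 : G ≤ oG Q
  hG2 : ∀ u z, Q u = 0 → B u z = 0 → sieg Q B u z ∈ G
  hG4 : ∀ a c, Q a ≠ 0 → Q c = Q a → B a c = 0 →
    ∃ g ∈ G, ∀ x, g x = x - ((Q a)⁻¹ * B x a) • a - ((Q a)⁻¹ * B x c) • c
  hAA' : ∀ a ∈ A, ∀ a' ∈ A', B a a' = 0
  hsup : A ⊔ A' = ⊤
  hA0 : A ≠ ⊥
  hHM : stab A' ⊓ G ≤ M
  hMG : M ≤ G

variable [Finite F] [FiniteDimensional F V] {Q : V → F} {B : LinearMap.BilinForm F V}
  {G M : Subgroup (V ≃ₗ[F] V)} {A A' : Submodule F V}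

namespace NCtx

lemma hMO (hC : NCtx Q B G M A A') : M ≤ oG Q := hC.hMG.trans hC.hG1

lemma hsymm (hC : NCtx Q B G M A A') (u v : V) : B u v = B v u := B_symm Q B hC.hQp u v

lemma hAnd (hC : NCtx Q B G M A A') : ∀ a ∈ A, a ≠ 0 → ∃ x ∈ A, B x a ≠ 0 :=
  nondegOn_left hC.hQp hC.hN A A' hC.hAA' hC.hsup

lemma hA'nd (hC : NCtx Q B G M A A') : ∀ a ∈ A', a ≠ 0 → ∃ x ∈ A', B x a ≠ 0 :=
  nondegOn_right hC.hQp hC.hN A A' hC.hAA' hC.hsup

lemma hdec (hC : NCtx Q B G M A A') (x : V) : ∃ a ∈ A, ∃ a' ∈ A', a + a' = x :=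
  Submodule.mem_sup.mp (hC.hsup ▸ Submodule.mem_top)

lemma hinf (hC : NCtx Q B G M A A') : A ⊓ A' = ⊥ := by
  rw [eq_bot_iff]
  rintro x ⟨hx, hx'⟩
  by_contra hx0
  obtain ⟨y, hy, hyx⟩ := hC.hAnd x hx hx0
  exact hyx (hC.hAA' y hy x hx')

lemma eq_zero_of_mem (hC : NCtx Q B G M A A') {x : V} (hx : x ∈ A) (hx' : x ∈ A') : x = 0 := by
  have : x ∈ (A ⊓ A' : Submodule F V) := ⟨hx, hx'⟩
  rwa [hC.hinf, Submodule.mem_bot] at this

lemma finrank_add (hC : NCtx Q B G M A A') : finrank F V = finrank F A + finrank F A' := by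
  have := Submodule.finrank_sup_add_finrank_inf_eq A A'
  rw [hC.hsup, hC.hinf, finrank_bot, finrank_top] at this
  omega

/-- the Siegel elements of `A'` lie in `M` -/
lemma sieg_mem (hC : NCtx Q B G M A A') {u v : V} (hu : u ∈ A') (hv : v ∈ A') (hQu : Q u = 0)
    (huv : B u v = 0) : sieg Q B u v ∈ M :=
  hC.hHM ⟨sieg_mem_stab_of_mem hC.hQs hC.hQp A' hu hv hQu huv, hC.hG2 u v hQu huv⟩

/-- the Siegel elements of `A` lie in `M` -/
lemma sieg_mem' (hC : NCtx Q B G M A A') {u v : V} (hu : u ∈ A) (hv : v ∈ A) (hQu : Q u = 0)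
    (huv : B u v = 0) : sieg Q B u v ∈ M :=
  hC.hHM ⟨sieg_mem_stab_of_orth hC.hQs hC.hQp A A' hC.hAA' hu hv hQu huv, hC.hG2 u v hQu huv⟩

/-- the part of the Siegel group at a singular `w ∈ A'` that lies in `stab A'` -/
lemma inZ_of_mem (hC : NCtx Q B G M A A') {w y : V} (hw : w ∈ A') (hQw : Q w = 0) (hy : y ∈ A')
    (hwy : B w y = 0) : InZ Q B M w y :=
  ⟨hwy, fun t => hC.sieg_mem hw (A'.smul_mem t hy) hQw (by rw [map_smul, hwy, smul_zero])⟩

end NCtx

end Cfsg.Agent.Lib.Helper32_ND4Defs
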