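import Mathlib
import Cfsg.Agent.Lib.Helper29_ODDefs
import Cfsg.Agent.Lib.Helper94_OrthRefl

/-!
Package OD-PLANE (architect helper29, row S5677): three lemmas on nondegenerate planes (helper35).
-/

set_option autoImplicit false

namespace Cfsg.Agent.Lib.Helper35_OD_PLANE

open Module Cfsg.Agent.Lib.Helper94_Symp Cfsg.Agent.Lib.Helper94_OrthSmall
  Cfsg.Agent.Lib.Helper94_OrthSiegel Cfsg.Agent.Lib.Helper94_OrthSiegel2
  Cfsg.Agent.Lib.Helper94_OrthPara Cfsg.Agent.Lib.Helper94_OrthVec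
  Cfsg.Agent.Lib.Helper94_OrthNondeg Cfsg.Agent.Lib.Helper94_OrthRefl
  Cfsg.Agent.Lib.Helper29_ODDefs

variable {F V : Type*} [Field F] [AddCommGroup V] [Module F V] [Finite F] [FiniteDimensional F V]
  {Q : V → F} {B : LinearMap.BilinForm F V}

/-- the orthogonal complement, inside a nondegenerate plane, of a nonsingular vector: a nonsingular
vector `f` orthogonal to `e`, such that every vector of `P` orthogonal to `e` is a multiple of `f`. -/
theorem exists_orth_nonsing (hQs : ∀ (c : F) (v : V), Q (c • v) = c * c * Q v)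
    (hQp : ∀ u v : V, Q (u + v) = Q u + Q v + B u v) (h2 : (2 : F) ≠ 0)
    (P : Submodule F V) (hP : ∀ a ∈ P, a ≠ 0 → ∃ x ∈ P, B x a ≠ 0) (hP2 : finrank F P = 2)
    {e : V} (he : e ∈ P) (hQe : Q e ≠ 0) :
    ∃ f ∈ P, B f e = 0 ∧ Q f ≠ 0 := by
  have hsymm := B_symm Q B hQp
  have hee : B e e ≠ 0 := by
    rw [B_self Q B hQs hQp]
    exact mul_ne_zero h2 hQe
  -- the complement is a line
  have h1 := finrank_le_inf_ker_add_one P (B.flip e)
  have hlt : finrank F (P ⊓ LinearMap.ker (B.flip e) : Submodule F V) < finrank F P := by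
    apply Submodule.finrank_lt_finrank_of_lt
    refine lt_of_le_of_ne inf_le_left ?_
    intro h
    have : e ∈ (P ⊓ LinearMap.ker (B.flip e) : Submodule F V) := by rw [h]; exact he
    exact hee (mem_ker_flip.mp this.2)
  have hL1 : finrank F (P ⊓ LinearMap.ker (B.flip e) : Submodule F V) = 1 := by omega
  obtain ⟨⟨f, hfL⟩, hf0⟩ : ∃ f : (P ⊓ LinearMap.ker (B.flip e) : Submodule F V), f ≠ 0 := by
    have : 0 < finrank F (P ⊓ LinearMap.ker (B.flip e) : Submodule F V) := by omega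
    exact Module.finrank_pos_iff_exists_ne_zero.mp this
  have hf0' : f ≠ 0 := fun h => hf0 (Subtype.ext h)
  have hfe : B f e = 0 := mem_ker_flip.mp hfL.2
  refine ⟨f, hfL.1, hfe, ?_⟩
  intro hQf
  obtain ⟨x, hx, hxf⟩ := hP f hfL.1 hf0'
  -- the component of `x` orthogonal to `e`
  have hx' : x - (B x e / B e e) • e ∈ (P ⊓ LinearMap.ker (B.flip e) : Submodule F V) := by
    refine ⟨P.sub_mem hx (P.smul_mem _ he), mem_ker_flip.mpr ?_⟩
    rw [map_sub, map_smul, LinearMap.sub_apply, LinearMap.smul_apply, smul_eq_mul,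
      div_mul_cancel₀ _ hee, sub_self]
  obtain ⟨c, hc⟩ := (finrank_eq_one_iff_of_nonzero' (⟨f, hfL⟩ :
    (P ⊓ LinearMap.ker (B.flip e) : Submodule F V)) hf0).mp hL1 ⟨_, hx'⟩
  have hc' : c • f = x - (B x e / B e e) • e := congrArg Subtype.val hc
  have h3 : B (x - (B x e / B e e) • e) f = B x f := by
    rw [map_sub, map_smul, LinearMap.sub_apply, LinearMap.smul_apply, hsymm e f, hfe, smul_zero,
      sub_zero]
  rw [← hc', map_smul, LinearMap.smul_apply, B_self Q B hQs hQp, hQf, mul_zero, smul_zero] at h3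
  exact hxf h3.symm

/-- OD-PLANE (a) -/
theorem plane_univ (hQs : ∀ (c : F) (v : V), Q (c • v) = c * c * Q v)
    (hQp : ∀ u v : V, Q (u + v) = Q u + Q v + B u v) (h2 : (2 : F) ≠ 0)
    (P : Submodule F V) (hP : ∀ a ∈ P, a ≠ 0 → ∃ x ∈ P, B x a ≠ 0) (hP2 : finrank F P = 2)
    (c : F) : ∃ y ∈ P, Q y = c := by
  classical
  have hsymm := B_symm Q B hQp
  -- a nonsingular vector
  obtain ⟨e, he, hQe⟩ : ∃ e ∈ P, Q e ≠ 0 := by
    by_contra hcon
    push Not at hcon
    obtain ⟨⟨a, ha⟩, ha0⟩ : ∃ a : P, a ≠ 0 := by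
      have : 0 < finrank F P := by omega
      exact Module.finrank_pos_iff_exists_ne_zero.mp this
    have ha0' : a ≠ 0 := fun h => ha0 (Subtype.ext h)
    obtain ⟨x, hx, hxa⟩ := hP a ha ha0'
    apply hxa
    rw [B_eq Q B hQp, hcon _ (P.add_mem hx ha), hcon x hx, hcon a ha]
    ring
  obtain ⟨f, hf, hfe, hQf⟩ := exists_orth_nonsing hQs hQp h2 P hP hP2 he hQe
  -- a solution of `x² Q e + y² Q f = c`
  let _ : Fintype F := Fintype.ofFinite F
  have hchar : ringChar F ≠ 2 := by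
    intro h
    have : CharP F 2 := ringChar.of_eq h
    apply h2
    have := CharP.cast_eq_zero F 2
    exact_mod_cast this
  have hodd := FiniteField.odd_card_of_char_ne_two hchar
  have hdeg1 : (Polynomial.C (Q e) * Polynomial.X ^ 2 : Polynomial F).degree = 2 := by
    rw [Polynomial.degree_C_mul_X_pow 2 hQe]
    rfl
  have hdeg2 : (Polynomial.C (Q f) * Polynomial.X ^ 2 - Polynomial.C c : Polynomial F).degree
      = 2 := by
    rw [Polynomial.degree_sub_eq_left_of_degree_lt]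
    · rw [Polynomial.degree_C_mul_X_pow 2 hQf]
      rfl
    · rw [Polynomial.degree_C_mul_X_pow 2 hQf]
      exact lt_of_le_of_lt Polynomial.degree_C_le (by norm_num)
  obtain ⟨x, y, hxy⟩ := FiniteField.exists_root_sum_quadratic hdeg1 hdeg2 hodd
  simp only [Polynomial.eval_mul, Polynomial.eval_C, Polynomial.eval_pow, Polynomial.eval_X,
    Polynomial.eval_sub] at hxy
  refine ⟨x • e + y • f, P.add_mem (P.smul_mem _ he) (P.smul_mem _ hf), ?_⟩
  rw [Q_add_smul Q B hQs hQp, hQs, map_smul, LinearMap.smul_apply, hsymm e f, hfe, smul_zero,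
    mul_zero, add_zero]
  linear_combination hxy

/-- OD-PLANE (b) -/
theorem plane_generic (hQs : ∀ (c : F) (v : V), Q (c • v) = c * c * Q v)
    (hQp : ∀ u v : V, Q (u + v) = Q u + Q v + B u v) (h2 : (2 : F) ≠ 0) (hq : 4 ≤ Nat.card F)
    (P : Submodule F V) (hP : ∀ a ∈ P, a ≠ 0 → ∃ x ∈ P, B x a ≠ 0) (hP2 : finrank F P = 2)
    {n : V} (hn : n ∈ P) (hQn : Q n ≠ 0) :
    ∃ u ∈ P, Q u ≠ 0 ∧ B u n ≠ 0 ∧ ∀ c : F, u ≠ c • n := by
  classical
  have hsymm := B_symm Q B hQp
  obtain ⟨f, hf, hfn, hQf⟩ := exists_orth_nonsing hQs hQp h2 P hP hP2 hn hQn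
  have hnn : B n n ≠ 0 := by
    rw [B_self Q B hQs hQp]
    exact mul_ne_zero h2 hQn
  have hff : B f f ≠ 0 := by
    rw [B_self Q B hQs hQp]
    exact mul_ne_zero h2 hQf
  -- a good value of `τ`
  set g : Polynomial F := Polynomial.X * (Polynomial.C (Q f) * Polynomial.X ^ 2 + Polynomial.C (Q n))
    with hg
  have hdeg0 : (Polynomial.C (Q f) * Polynomial.X ^ 2 + Polynomial.C (Q n) : Polynomial F).degree
      = 2 := by
    rw [Polynomial.degree_add_eq_left_of_degree_lt]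
    · rw [Polynomial.degree_C_mul_X_pow 2 hQf]
      rfl
    · rw [Polynomial.degree_C_mul_X_pow 2 hQf]
      exact lt_of_le_of_lt Polynomial.degree_C_le (by norm_num)
  have hg0 : g ≠ 0 := by
    rw [hg]
    apply mul_ne_zero Polynomial.X_ne_zero
    intro h
    rw [h, Polynomial.degree_zero] at hdeg0
    exact absurd hdeg0 (by simp)
  have hgdeg : g.natDegree < Cardinal.mk F := by
    have h1 : g.natDegree = 3 := by
      rw [hg, Polynomial.natDegree_mul Polynomial.X_ne_zero (by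
        intro h
        rw [h, Polynomial.degree_zero] at hdeg0
        exact absurd hdeg0 (by simp)), Polynomial.natDegree_X,
        Polynomial.natDegree_eq_of_degree_eq_some hdeg0]
    rw [h1]
    have : (4 : Cardinal) ≤ Cardinal.mk F := by
      have h4 : ((4 : ℕ) : Cardinal) ≤ ((Nat.card F : ℕ) : Cardinal) := by exact_mod_cast hq
      rw [Nat.cast_card] at h4
      exact_mod_cast h4
    exact lt_of_lt_of_le (by norm_num) this
  obtain ⟨τ, hτ⟩ := Polynomial.exists_eval_ne_zero_of_natDegree_lt_card g hg0 hgdeg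
  rw [hg] at hτ
  simp only [Polynomial.eval_mul, Polynomial.eval_X, Polynomial.eval_add, Polynomial.eval_C,
    Polynomial.eval_pow] at hτ
  have hτ0 : τ ≠ 0 := left_ne_zero_of_mul hτ
  have hτ1 : Q f * τ ^ 2 + Q n ≠ 0 := right_ne_zero_of_mul hτ
  refine ⟨n + τ • f, P.add_mem hn (P.smul_mem _ hf), ?_, ?_, ?_⟩
  · rw [Q_add_smul Q B hQs hQp, hsymm n f, hfn, mul_zero, add_zero]
    intro h
    apply hτ1
    linear_combination h
  · rw [map_add, map_smul, LinearMap.add_apply, LinearMap.smul_apply, hfn, smul_zero, add_zero]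
    exact hnn
  · intro c h
    have h1 : B (n + τ • f) f = B (c • n) f := by rw [h]
    rw [map_add, map_smul, map_smul, LinearMap.add_apply, LinearMap.smul_apply,
      LinearMap.smul_apply, hsymm n f, hfn, smul_zero, zero_add, smul_eq_mul] at h1
    exact (mul_ne_zero hτ0 hff) h1

/-- OD-PLANE (c) -/
theorem plane_of_nonsing (hQs : ∀ (c : F) (v : V), Q (c • v) = c * c * Q v)
    (hQp : ∀ u v : V, Q (u + v) = Q u + Q v + B u v) (h2 : (2 : F) ≠ 0)
    (A : Submodule F V) (hA : ∀ a ∈ A, a ≠ 0 → ∃ x ∈ A, B x a ≠ 0) (h3 : finrank F A = 3)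
    {v : V} (hv : v ∈ A) (hQv : Q v ≠ 0) :
    ∃ P : Submodule F V, P ≤ A ∧ (∀ x, x ∈ P ↔ x ∈ A ∧ B v x = 0) ∧ finrank F P = 2 ∧
      (∀ a ∈ P, a ≠ 0 → ∃ x ∈ P, B x a ≠ 0) ∧ ∀ x ∈ A, ∃ c : F, ∃ p ∈ P, x = c • v + p := by
  have hsymm := B_symm Q B hQp
  have hvv : B v v ≠ 0 := by
    rw [B_self Q B hQs hQp]
    exact mul_ne_zero h2 hQv
  have hmem : ∀ x, x ∈ (A ⊓ LinearMap.ker (B.flip v) : Submodule F V) ↔ x ∈ A ∧ B v x = 0 := by
    intro x
    rw [Submodule.mem_inf, mem_ker_flip, hsymm x v]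
  have hdec : ∀ x ∈ A, ∃ c : F, ∃ p ∈ (A ⊓ LinearMap.ker (B.flip v) : Submodule F V),
      x = c • v + p := by
    intro x hx
    refine ⟨B v x / B v v, x - (B v x / B v v) • v, (hmem _).2 ⟨A.sub_mem hx (A.smul_mem _ hv), ?_⟩,
      by abel⟩
    rw [map_sub, map_smul, smul_eq_mul, div_mul_cancel₀ _ hvv, sub_self]
  refine ⟨A ⊓ LinearMap.ker (B.flip v), inf_le_left, hmem, ?_, ?_, hdec⟩
  · have h1 := finrank_le_inf_ker_add_one A (B.flip v)
    have hlt : finrank F (A ⊓ LinearMap.ker (B.flip v) : Submodule F V) < finrank F A := by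
      apply Submodule.finrank_lt_finrank_of_lt
      refine lt_of_le_of_ne inf_le_left ?_
      intro h
      have : v ∈ (A ⊓ LinearMap.ker (B.flip v) : Submodule F V) := by rw [h]; exact hv
      exact hvv ((hmem v).1 this).2
    omega
  · intro a ha ha0
    obtain ⟨x, hx, hxa⟩ := hA a ((hmem a).1 ha).1 ha0
    obtain ⟨c, p, hp, hxp⟩ := hdec x hx
    refine ⟨p, hp, ?_⟩
    rw [hxp, map_add, map_smul, LinearMap.add_apply, LinearMap.smul_apply, ((hmem a).1 ha).2,
      smul_zero, zero_add] at hxa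
    exact hxa

end Cfsg.Agent.Lib.Helper35_OD_PLANE
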