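import Mathlib
import Cfsg.Agent.Lib.Helper32_ND4Defs

set_option autoImplicit false
set_option linter.unusedSimpArgs false
set_option linter.unusedVariables false
set_option linter.unusedSectionVars false

/-!
# ND4 market (architect helper32), package PARTNER (+ NONSING)
-/

namespace Cfsg.Agent.Lib.Helper82_ND4_PARTNER

open Module Cfsg.Agent.Lib.Helper94_Symp Cfsg.Agent.Lib.Helper94_OrthSmall
  Cfsg.Agent.Lib.Helper94_OrthSiegel Cfsg.Agent.Lib.Helper94_OrthSiegel2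
  Cfsg.Agent.Lib.Helper94_OrthPara Cfsg.Agent.Lib.Helper94_OrthVec
  Cfsg.Agent.Lib.Helper94_OrthNondeg Cfsg.Agent.Lib.Helper94_OrthRefl
  Cfsg.Agent.Lib.Helper32_ND4Defs

variable {F V : Type*} [Field F] [AddCommGroup V] [Module F V]
variable [Finite F] [FiniteDimensional F V] {Q : V → F} {B : LinearMap.BilinForm F V}
  {G M : Subgroup (V ≃ₗ[F] V)} {A A' : Submodule F V}

/-- the polar form is symmetric -/
theorem B_symm (hQp : ∀ u v : V, Q (u + v) = Q u + Q v + B u v) (u v : V) : B u v = B v u := by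
  have h1 := hQp u v
  have h2 := hQp v u
  rw [add_comm v u] at h2
  rw [h1] at h2
  linear_combination h2

/-- `B w w = 2 Q w` -/
theorem B_self (hQs : ∀ (c : F) (v : V), Q (c • v) = c * c * Q v)
    (hQp : ∀ u v : V, Q (u + v) = Q u + Q v + B u v) (w : V) : B w w = 2 * Q w := by
  have h1 := hQp w w
  have h2 := hQs 2 w
  rw [two_smul] at h2
  rw [h2] at h1
  linear_combination -h1

/-- [S] PARTNER: a singular vector of a nondegenerate subspace has a hyperbolic partner. -/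
theorem PARTNER (hQs : ∀ (c : F) (v : V), Q (c • v) = c * c * Q v)
    (hQp : ∀ u v : V, Q (u + v) = Q u + Q v + B u v)
    (S : Submodule F V) (hS : ∀ a ∈ S, a ≠ 0 → ∃ x ∈ S, B x a ≠ 0)
    {w : V} (hw : w ∈ S) (hw0 : w ≠ 0) (hQw : Q w = 0) :
    ∃ w' ∈ S, Q w' = 0 ∧ B w w' = 1 := by
  obtain ⟨x, hxS, hxw⟩ := hS w hw hw0
  have hww : B w w = 0 := by rw [B_self hQs hQp, hQw, mul_zero]
  have hwx : B w x = B x w := B_symm hQp w x
  obtain ⟨c, hc⟩ : ∃ c : F, c = -(Q x / B x w) := ⟨_, rfl⟩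
  have hx' : Q (x + c • w) = 0 := by
    rw [hQp, hQs, hQw, map_smul, smul_eq_mul, hc]
    field_simp
    ring
  have hBx' : B w (x + c • w) = B x w := by
    rw [map_add, map_smul, hww, smul_zero, add_zero, hwx]
  refine ⟨(B x w)⁻¹ • (x + c • w), S.smul_mem _ (S.add_mem hxS (S.smul_mem _ hw)), ?_, ?_⟩
  · rw [hQs, hx', mul_zero]
  · rw [map_smul, hBx', smul_eq_mul, inv_mul_cancel₀ hxw]

/-- [S] NONSING: a nonzero nondegenerate subspace contains a nonsingular vector. -/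
theorem NONSING (hQs : ∀ (c : F) (v : V), Q (c • v) = c * c * Q v)
    (hQp : ∀ u v : V, Q (u + v) = Q u + Q v + B u v)
    (S : Submodule F V) (hS : ∀ a ∈ S, a ≠ 0 → ∃ x ∈ S, B x a ≠ 0) (hS0 : S ≠ ⊥) :
    ∃ a ∈ S, Q a ≠ 0 := by
  obtain ⟨a, haS, ha0⟩ := S.exists_mem_ne_zero_of_ne_bot hS0
  obtain ⟨x, hxS, hxa⟩ := hS a haS ha0
  by_cases h1 : Q a = 0
  · by_cases h2 : Q x = 0
    · refine ⟨x + a, S.add_mem hxS haS, ?_⟩
      rw [hQp, h1, h2, zero_add, zero_add]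
      exact hxa
    · exact ⟨x, hxS, h2⟩
  · exact ⟨a, haS, h1⟩

end Cfsg.Agent.Lib.Helper82_ND4_PARTNER
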