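import Mathlib
import Cfsg.Agent.Lib.Helper32_ND4Defs
import Cfsg.Agent.Lib.Helper35_OD_PLANE
import Cfsg.Agent.Lib.Helper82_ND4_PARTNER

set_option autoImplicit false
set_option linter.unusedSimpArgs false
set_option linter.unusedVariables false
set_option linter.unusedSectionVars false

/-!
MARKET ND4 (helper32), package EV4 (helper10): in a nondegenerate subspace of dimension four, the
orthogonal of a nonzero singular vector represents every value.
-/

namespace Cfsg.Agent.Lib.Helper10_ND4_EV4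

open Module Cfsg.Agent.Lib.Helper94_Symp Cfsg.Agent.Lib.Helper94_OrthSmall
  Cfsg.Agent.Lib.Helper94_OrthSiegel Cfsg.Agent.Lib.Helper94_OrthSiegel2
  Cfsg.Agent.Lib.Helper94_OrthPara Cfsg.Agent.Lib.Helper94_OrthVec
  Cfsg.Agent.Lib.Helper94_OrthNondeg Cfsg.Agent.Lib.Helper94_OrthRefl
  Cfsg.Agent.Lib.Helper32_ND4Defs

variable {F V : Type*} [Field F] [AddCommGroup V] [Module F V]
variable [Finite F] [FiniteDimensional F V] {Q : V → F} {B : LinearMap.BilinForm F V}
  {G M : Subgroup (V ≃ₗ[F] V)} {A A' : Submodule F V}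

/-- [M] EV4: in a nondegenerate subspace of dimension four, the orthogonal of a nonzero singular
vector represents every value (`2 ≠ 0`).
Proof: partner `w'`; `P = S ∩ w^⊥ ∩ w'^⊥` is a nondegenerate plane; `Helper35_OD_PLANE.plane_univ`. -/
theorem EV4 (hQs : ∀ (c : F) (v : V), Q (c • v) = c * c * Q v)
    (hQp : ∀ u v : V, Q (u + v) = Q u + Q v + B u v) (h2 : (2 : F) ≠ 0)
    (S : Submodule F V) (hS : ∀ a ∈ S, a ≠ 0 → ∃ x ∈ S, B x a ≠ 0) (h4 : finrank F S = 4)
    {w : V} (hw : w ∈ S) (hw0 : w ≠ 0) (hQw : Q w = 0) (c : F) :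
    ∃ y ∈ S, B w y = 0 ∧ Q y = c := by
  have hsymm := B_symm Q B hQp
  obtain ⟨w', hw', hQw', hww'⟩ :=
    Cfsg.Agent.Lib.Helper82_ND4_PARTNER.PARTNER hQs hQp S hS hw hw0 hQw
  have hw'w : B w' w = 1 := by rw [hsymm]; exact hww'
  have hwwz : B w w = 0 := by rw [B_self Q B hQs hQp, hQw, mul_zero]
  have hw'w'z : B w' w' = 0 := by rw [B_self Q B hQs hQp, hQw', mul_zero]
  set S₁ : Submodule F V := S ⊓ LinearMap.ker (B.flip w) with hS₁
  set P : Submodule F V := S₁ ⊓ LinearMap.ker (B.flip w') with hP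
  -- dimensions
  have h1 : finrank F S ≤ finrank F S₁ + 1 := finrank_le_inf_ker_add_one S (B.flip w)
  have h1' : finrank F S₁ ≤ finrank F P + 1 := finrank_le_inf_ker_add_one S₁ (B.flip w')
  have hlt1 : finrank F S₁ < finrank F S := by
    apply Submodule.finrank_lt_finrank_of_lt
    refine lt_of_le_of_ne inf_le_left ?_
    intro h
    have : w' ∈ S₁ := by rw [h]; exact hw'
    have := mem_ker_flip.mp this.2
    rw [hw'w] at this
    exact one_ne_zero this
  have hlt2 : finrank F P < finrank F S₁ := by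
    apply Submodule.finrank_lt_finrank_of_lt
    refine lt_of_le_of_ne inf_le_left ?_
    intro h
    have hwS₁ : w ∈ S₁ := ⟨hw, mem_ker_flip.mpr hwwz⟩
    have : w ∈ P := by rw [h]; exact hwS₁
    have := mem_ker_flip.mp this.2
    rw [hww'] at this
    exact one_ne_zero this
  have hP2 : finrank F P = 2 := by omega
  -- nondegeneracy of `P`
  have hPnd : ∀ a ∈ P, a ≠ 0 → ∃ x ∈ P, B x a ≠ 0 := by
    intro a ha ha0
    have haS : a ∈ S := ha.1.1
    have haw : B a w = 0 := mem_ker_flip.mp ha.1.2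
    have haw' : B a w' = 0 := mem_ker_flip.mp ha.2
    obtain ⟨x, hx, hxa⟩ := hS a haS ha0
    refine ⟨x - B x w' • w - B x w • w', ⟨⟨?_, mem_ker_flip.mpr ?_⟩, mem_ker_flip.mpr ?_⟩, ?_⟩
    · exact S.sub_mem (S.sub_mem hx (S.smul_mem _ hw)) (S.smul_mem _ hw')
    · simp only [map_sub, map_smul, LinearMap.sub_apply, LinearMap.smul_apply, smul_eq_mul, hwwz,
        hw'w]
      ring
    · simp only [map_sub, map_smul, LinearMap.sub_apply, LinearMap.smul_apply, smul_eq_mul, hww',
        hw'w'z]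
      ring
    · simp only [map_sub, map_smul, LinearMap.sub_apply, LinearMap.smul_apply, smul_eq_mul,
        hsymm w a, hsymm w' a, haw, haw']
      rw [mul_zero, mul_zero, sub_zero, sub_zero]
      exact hxa
  obtain ⟨y, hy, hQy⟩ := Cfsg.Agent.Lib.Helper35_OD_PLANE.plane_univ hQs hQp h2 P hPnd hP2 c
  refine ⟨y, hy.1.1, ?_, hQy⟩
  rw [hsymm]
  exact mem_ker_flip.mp hy.1.2

end Cfsg.Agent.Lib.Helper10_ND4_EV4
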