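import Mathlib
import Cfsg.Agent.Lib.Helper32_ND4Defs
import Cfsg.Agent.Lib.Helper82_ND4_PARTNER

set_option autoImplicit false
set_option linter.unusedSimpArgs false
set_option linter.unusedVariables false
set_option linter.unusedSectionVars false

/-!
MARKET ND4 (helper32), package FULL (helper10): the full Siegel group at one singular vector of `A'`
gives all Siegel elements.
-/

namespace Cfsg.Agent.Lib.Helper10_ND4_FULL

open Module Cfsg.Agent.Lib.Helper94_Symp Cfsg.Agent.Lib.Helper94_OrthSmall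
  Cfsg.Agent.Lib.Helper94_OrthSiegel Cfsg.Agent.Lib.Helper94_OrthSiegel2
  Cfsg.Agent.Lib.Helper94_OrthPara Cfsg.Agent.Lib.Helper94_OrthVec
  Cfsg.Agent.Lib.Helper94_OrthNondeg Cfsg.Agent.Lib.Helper94_OrthRefl
  Cfsg.Agent.Lib.Helper32_ND4Defs

variable {F V : Type*} [Field F] [AddCommGroup V] [Module F V]
variable [Finite F] [FiniteDimensional F V] {Q : V → F} {B : LinearMap.BilinForm F V}
  {G M : Subgroup (V ≃ₗ[F] V)} {A A' : Submodule F V}

/-- [M] FULL: the full Siegel group at one singular vector of `A'` gives everything. -/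
theorem FULL (hC : NCtx Q B G M A A') {w : V} (hwA' : w ∈ A') (hw0 : w ≠ 0) (hQw : Q w = 0)
    (hfull : ∀ z, B w z = 0 → sieg Q B w z ∈ M) :
    ∀ u z, Q u = 0 → B u z = 0 → sieg Q B u z ∈ M := by
  have hQs := hC.hQs
  have hQp := hC.hQp
  have hsymm := B_symm Q B hQp
  obtain ⟨w', hw'A', hQw', hww'⟩ :=
    Cfsg.Agent.Lib.Helper82_ND4_PARTNER.PARTNER hQs hQp A' hC.hA'nd hwA' hw0 hQw
  obtain ⟨a₀, ha₀, hγ⟩ :=
    Cfsg.Agent.Lib.Helper82_ND4_PARTNER.NONSING hQs hQp A hC.hAnd hC.hA0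
  have hwwz : B w w = 0 := by rw [B_self Q B hQs hQp, hQw, mul_zero]
  set γ : F := Q a₀ with hγdef
  set c : V := w + γ • w' with hc
  have hcA' : c ∈ A' := A'.add_mem hwA' (A'.smul_mem _ hw'A')
  have hQc : Q c = Q a₀ := by
    rw [hc, Q_add_smul Q B hQs hQp, hQw, hQw', hww']
    ring
  have ha₀c : B a₀ c = 0 := hC.hAA' a₀ ha₀ c hcA'
  obtain ⟨g, hgG, hg⟩ := hC.hG4 a₀ c hγ hQc ha₀c
  have hgO : g ∈ oG Q := hC.hG1 hgG
  have hgstab : g ∈ stab A' := by
    apply mem_stab_of_forall_mem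
    intro y hy
    rw [hg]
    have hya₀ : B y a₀ = 0 := by rw [hsymm]; exact hC.hAA' a₀ ha₀ y hy
    rw [hya₀, mul_zero, zero_smul, sub_zero]
    exact A'.sub_mem hy (A'.smul_mem _ hcA')
  have hgM : g ∈ M := hC.hHM ⟨hgstab, hgG⟩
  have hwa₀ : B w a₀ = 0 := by rw [hsymm]; exact hC.hAA' a₀ ha₀ w hwA'
  have hwc : B w c = γ := by
    rw [hc, map_add, map_smul, hwwz, hww', smul_eq_mul, mul_one, zero_add]
  apply all_of_pair Q B hQs hQp hC.hN M hC.hMO (w1 := w) (w2 := g w) ⟨hQw, hfull⟩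
  · refine ⟨by rw [hgO, hQw], ?_⟩
    intro z hz
    have h1 : B w (g⁻¹ z) = 0 := by
      have := oG_B Q B hQp hgO w (g⁻¹ z)
      rw [apply_inv_apply'] at this
      rw [← this]
      exact hz
    have h2 := conj_sieg Q B hQs hQp hgO hQw h1
    rw [apply_inv_apply'] at h2
    rw [← h2]
    exact M.mul_mem (M.mul_mem hgM (hfull _ h1)) (M.inv_mem hgM)
  · rw [hg w, hwa₀, mul_zero, zero_smul, sub_zero, hwc, map_sub, map_smul, hwwz, hwc, smul_eq_mul,
      zero_sub]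
    have : (Q a₀)⁻¹ * γ * γ = γ := by
      rw [hγdef]
      field_simp
    rw [this]
    exact neg_ne_zero.mpr hγ

end Cfsg.Agent.Lib.Helper10_ND4_FULL
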