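import Cfsg.Agent.Lib.Helper50_SL2Rep

/-!
Two unipotent elements `tU α`, `v'` (with `v'` of trace `2` and lower-left entry `γ`) such that
`α γ` lies in the prime field and is non-zero generate a copy of `SL(2, p)`.
-/

set_option autoImplicit false

namespace Cfsg.Agent.Lib.Helper50_SL2Gen

open Matrix Cfsg.Agent.Lib.Helper50_SL2Mat Cfsg.Agent.Lib.Helper50_SL2Rep
open scoped MatrixGroups

variable {F : Type*} [Field F]

theorem transvection_eq (i j : Fin 2) (h : i ≠ j) (c : F) :
    Matrix.SpecialLinearGroup.transvection h c = tU c ∨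
      Matrix.SpecialLinearGroup.transvection h c = tL c := by
  fin_cases i <;> fin_cases j
  · exact absurd rfl h
  · left
    apply ext4 <;> simp [Matrix.SpecialLinearGroup.transvection_coe]
  · right
    apply ext4 <;> simp [Matrix.SpecialLinearGroup.transvection_coe]
  · exact absurd rfl h

theorem closure_eq_top_of_forall (H : Subgroup SL(2, F)) (hU : ∀ c : F, tU c ∈ H)
    (hL : ∀ c : F, tL c ∈ H) : H = ⊤ := by
  refine le_antisymm le_top (fun A _ => ?_)
  refine Matrix.SL2.transvection_induction (fun A => A ∈ H) ?_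
    (fun _ _ => mul_mem) A
  intro i j h c
  rcases transvection_eq i j h c with e | e
  · rw [e]; exact hU c
  · rw [e]; exact hL c

theorem closure_pair_eq_top (p : ℕ) [Fact p.Prime] (j : ZMod p) (hj : j ≠ 0) :
    Subgroup.closure ({tU (1 : ZMod p), tL j} : Set SL(2, ZMod p)) = ⊤ := by
  apply closure_eq_top_of_forall
  · intro c
    have h1 : tU (1 : ZMod p) ∈ Subgroup.closure ({tU (1 : ZMod p), tL j} : Set SL(2, ZMod p)) :=
      Subgroup.subset_closure (by simp)
    have := Subgroup.pow_mem _ h1 c.val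
    rwa [tU_pow, mul_one, ZMod.natCast_zmod_val] at this
  · intro c
    have h1 : tL j ∈ Subgroup.closure ({tU (1 : ZMod p), tL j} : Set SL(2, ZMod p)) :=
      Subgroup.subset_closure (by simp)
    have := Subgroup.pow_mem _ h1 (c / j).val
    rwa [tL_pow, ZMod.natCast_zmod_val, div_mul_cancel₀ _ hj] at this

variable (p : ℕ) [Fact p.Prime] [CharP F p]

/-- the embedding `SL(2, p) → SL(2, F)`, conjugated by `diag(α, 1)` -/
noncomputable def dmap (α : F) (hα : α ≠ 0) : SL(2, ZMod p) →* SL(2, F) where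
  toFun M := mk (ZMod.castHom (dvd_refl p) F (M 0 0)) (α * ZMod.castHom (dvd_refl p) F (M 0 1))
    (ZMod.castHom (dvd_refl p) F (M 1 0) / α) (ZMod.castHom (dvd_refl p) F (M 1 1)) (by
      have := congrArg (ZMod.castHom (dvd_refl p) F) (det1 M)
      simp only [map_sub, map_mul, map_one] at this
      field_simp
      linear_combination this)
  map_one' := by
    apply ext4 <;> simp
  map_mul' := by
    intro M N
    apply ext4 <;> simp only [mul00, mul01, mul10, mul11, mk00, mk01, mk10, mk11, map_add, map_mul]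
    · field_simp
    · ring
    · field_simp
    · field_simp

theorem dmap_injective (α : F) (hα : α ≠ 0) : Function.Injective (dmap p α hα) := by
  intro M N h
  have hinj : Function.Injective (ZMod.castHom (dvd_refl p) F) := RingHom.injective _
  have h00 := congrArg (fun g : SL(2, F) => g 0 0) h
  have h01 := congrArg (fun g : SL(2, F) => g 0 1) h
  have h10 := congrArg (fun g : SL(2, F) => g 1 0) h
  have h11 := congrArg (fun g : SL(2, F) => g 1 1) h
  simp only [dmap, MonoidHom.coe_mk, OneHom.coe_mk, mk00, mk01, mk10, mk11] at h00 h01 h10 h11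
  apply ext4
  · exact hinj h00
  · exact hinj (mul_left_cancel₀ hα h01)
  · apply hinj
    have := congrArg (fun t => t * α) h10
    simpa [div_mul_cancel₀ _ hα] using this
  · exact hinj h11

theorem dmap_tU (α : F) (hα : α ≠ 0) : dmap p α hα (tU 1) = tU α := by
  apply ext4 <;> simp [dmap]

theorem dmap_tL (α : F) (hα : α ≠ 0) (j : ZMod p) :
    dmap p α hα (tL j) = tL (ZMod.castHom (dvd_refl p) F j / α) := by
  apply ext4 <;> simp [dmap]

/-- normalising a unipotent element with non-zero lower-left entry -/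
theorem conj_eq_tL {g : SL(2, F)} (ht : tr g = 2) (hγ : g 1 0 ≠ 0) :
    tU ((1 - g 0 0) / g 1 0) * g * (tU ((1 - g 0 0) / g 1 0))⁻¹ = tL (g 1 0) := by
  have hd := det1 g
  have ht' : g 0 0 + g 1 1 = 2 := ht
  obtain ⟨x, hx⟩ : ∃ x : F, x = (1 - g 0 0) / g 1 0 := ⟨_, rfl⟩
  rw [← hx]
  have hxg : x * g 1 0 = 1 - g 0 0 := by rw [hx, div_mul_cancel₀ _ hγ]
  rw [tU_inv]
  apply ext4 <;> simp only [mul00, mul01, mul10, mul11, tU00, tU01, tU10, tU11, tL00, tL01, tL10,
    tL11]
  · linear_combination hxg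
  · apply mul_left_cancel₀ hγ
    linear_combination (g 1 1 - x * g 1 0 - 1) * hxg + ht' - hd
  · ring
  · linear_combination (-1 : F) * hxg + ht'


/-- The final generation lemma. -/
theorem exists_SL2p {Γ : Type*} [Group Γ] {ρ : Γ →* SL(2, F)} (hρ : Function.Injective ρ)
    {u' v' : Γ} {α : F} (hu : ρ u' = tU α) (htr : tr (ρ v') = 2) (j : ZMod p) (hj : j ≠ 0)
    (hγ : α * (ρ v') 1 0 = ZMod.castHom (dvd_refl p) F j) :
    ∃ K : Subgroup Γ, Nonempty (K ≃* SL(2, ZMod p)) := by
  have hιj : ZMod.castHom (dvd_refl p) F j ≠ 0 := by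
    intro h0
    apply hj
    exact (RingHom.injective (ZMod.castHom (dvd_refl p) F)) (h0.trans (map_zero _).symm)
  have hα : α ≠ 0 := left_ne_zero_of_mul (hγ ▸ hιj)
  have hγ0 : (ρ v') 1 0 ≠ 0 := right_ne_zero_of_mul (hγ ▸ hιj)
  obtain ⟨P, hP⟩ : ∃ P : SL(2, F), P = tU ((1 - (ρ v') 0 0) / (ρ v') 1 0) := ⟨_, rfl⟩
  let φ : SL(2, ZMod p) →* SL(2, F) := (MulAut.conj P⁻¹).toMonoidHom.comp (dmap p α hα)
  have hφ : ∀ M, φ M = P⁻¹ * dmap p α hα M * P := by
    intro M
    show P⁻¹ * dmap p α hα M * P⁻¹⁻¹ = _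
    rw [inv_inv]
  have hφinj : Function.Injective φ :=
    (MulAut.conj P⁻¹).injective.comp (dmap_injective p α hα)
  have hφU : φ (tU 1) = ρ u' := by
    rw [hφ, dmap_tU, hu, hP, tU_inv, ← tU_add, ← tU_add]
    congr 1; ring
  have hφL : φ (tL j) = ρ v' := by
    rw [hφ, dmap_tL]
    have e : ZMod.castHom (dvd_refl p) F j / α = (ρ v') 1 0 := by
      rw [← hγ]; field_simp
    rw [e, ← conj_eq_tL htr hγ0, ← hP]
    group
  have hrange : φ.range ≤ ρ.range := by
    rw [MonoidHom.range_eq_map, ← closure_pair_eq_top p j hj, MonoidHom.map_closure,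
      Subgroup.closure_le]
    rintro _ ⟨M, hM, rfl⟩
    rcases hM with rfl | hM
    · rw [hφU]; exact ⟨u', rfl⟩
    · rw [Set.mem_singleton_iff] at hM
      rw [hM, hφL]; exact ⟨v', rfl⟩
  refine ⟨φ.range.comap ρ, ⟨?_⟩⟩
  have e1 : (φ.range.comap ρ) ≃* φ.range := by
    refine MulEquiv.ofBijective (ρ.subgroupComap φ.range) ⟨?_, ?_⟩
    · intro a b hab
      apply Subtype.ext
      apply hρ
      exact congrArg Subtype.val hab
    · rintro ⟨y, hy⟩
      obtain ⟨g, rfl⟩ := hrange hy
      exact ⟨⟨g, hy⟩, rfl⟩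
  exact e1.trans (MonoidHom.ofInjective hφinj).symm

end Cfsg.Agent.Lib.Helper50_SL2Gen
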