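import Mathlib

/-!
Entry-level facts about `SL(2,F)` used for the Dickson-type theorem (S0274):
entries of products and inverses, transvections `tU`, `tL`, the "vector" criterion for commuting,
commuting transitivity on non-scalar elements, invariance of the type (`tr² = 4` or not) along
commuting non-scalar elements, and the normaliser computation for semisimple elements.
-/

set_option autoImplicit false

namespace Cfsg.Agent.Lib.Helper50_SL2Mat

open Matrix
open scoped MatrixGroups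

variable {F : Type*} [Field F]

theorem mul00 (g h : SL(2, F)) : (g * h) 0 0 = g 0 0 * h 0 0 + g 0 1 * h 1 0 := by
  simp [Matrix.mul_apply, Fin.sum_univ_two]
theorem mul01 (g h : SL(2, F)) : (g * h) 0 1 = g 0 0 * h 0 1 + g 0 1 * h 1 1 := by
  simp [Matrix.mul_apply, Fin.sum_univ_two]
theorem mul10 (g h : SL(2, F)) : (g * h) 1 0 = g 1 0 * h 0 0 + g 1 1 * h 1 0 := by
  simp [Matrix.mul_apply, Fin.sum_univ_two]
theorem mul11 (g h : SL(2, F)) : (g * h) 1 1 = g 1 0 * h 0 1 + g 1 1 * h 1 1 := by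
  simp [Matrix.mul_apply, Fin.sum_univ_two]

theorem inv00 (g : SL(2, F)) : (g⁻¹) 0 0 = g 1 1 := by
  rw [Matrix.SpecialLinearGroup.SL2_inv_expl]; rfl
theorem inv01 (g : SL(2, F)) : (g⁻¹) 0 1 = -g 0 1 := by
  rw [Matrix.SpecialLinearGroup.SL2_inv_expl]; rfl
theorem inv10 (g : SL(2, F)) : (g⁻¹) 1 0 = -g 1 0 := by
  rw [Matrix.SpecialLinearGroup.SL2_inv_expl]; rfl
theorem inv11 (g : SL(2, F)) : (g⁻¹) 1 1 = g 0 0 := by
  rw [Matrix.SpecialLinearGroup.SL2_inv_expl]; rfl

theorem one00 : (1 : SL(2, F)) 0 0 = 1 := by simp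
theorem one01 : (1 : SL(2, F)) 0 1 = 0 := by simp
theorem one10 : (1 : SL(2, F)) 1 0 = 0 := by simp
theorem one11 : (1 : SL(2, F)) 1 1 = 1 := by simp

theorem det1 (g : SL(2, F)) : g 0 0 * g 1 1 - g 0 1 * g 1 0 = 1 := by
  have := g.det_coe
  rwa [Matrix.det_fin_two] at this

theorem ext4 {g h : SL(2, F)} (h00 : g 0 0 = h 0 0) (h01 : g 0 1 = h 0 1)
    (h10 : g 1 0 = h 1 0) (h11 : g 1 1 = h 1 1) : g = h := by
  apply Matrix.SpecialLinearGroup.ext
  intro i j
  fin_cases i <;> fin_cases j <;> assumption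

theorem ext4_iff {g h : SL(2, F)} : g = h ↔ g 0 0 = h 0 0 ∧ g 0 1 = h 0 1 ∧
    g 1 0 = h 1 0 ∧ g 1 1 = h 1 1 :=
  ⟨fun e => by subst e; exact ⟨rfl, rfl, rfl, rfl⟩, fun ⟨a, b, c, d⟩ => ext4 a b c d⟩

/-- explicit element -/
def mk (a b c d : F) (h : a * d - b * c = 1) : SL(2, F) :=
  ⟨!![a, b; c, d], by rw [Matrix.det_fin_two_of]; exact h⟩

@[simp] theorem mk00 (a b c d : F) (h) : (mk a b c d h) 0 0 = a := rfl
@[simp] theorem mk01 (a b c d : F) (h) : (mk a b c d h) 0 1 = b := rfl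
@[simp] theorem mk10 (a b c d : F) (h) : (mk a b c d h) 1 0 = c := rfl
@[simp] theorem mk11 (a b c d : F) (h) : (mk a b c d h) 1 1 = d := rfl

/-- upper transvection -/
def tU (x : F) : SL(2, F) := mk 1 x 0 1 (by ring)
/-- lower transvection -/
def tL (x : F) : SL(2, F) := mk 1 0 x 1 (by ring)

@[simp] theorem tU00 (x : F) : (tU x) 0 0 = 1 := rfl
@[simp] theorem tU01 (x : F) : (tU x) 0 1 = x := rfl
@[simp] theorem tU10 (x : F) : (tU x) 1 0 = 0 := rfl
@[simp] theorem tU11 (x : F) : (tU x) 1 1 = 1 := rfl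
@[simp] theorem tL00 (x : F) : (tL x) 0 0 = 1 := rfl
@[simp] theorem tL01 (x : F) : (tL x) 0 1 = 0 := rfl
@[simp] theorem tL10 (x : F) : (tL x) 1 0 = x := rfl
@[simp] theorem tL11 (x : F) : (tL x) 1 1 = 1 := rfl

theorem tU_zero : tU (0 : F) = 1 := ext4 (by simp) (by simp) (by simp) (by simp)
theorem tL_zero : tL (0 : F) = 1 := ext4 (by simp) (by simp) (by simp) (by simp)

theorem tU_add (x y : F) : tU (x + y) = tU x * tU y := by
  apply ext4 <;> simp [mul00, mul01, mul10, mul11, add_comm]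
theorem tL_add (x y : F) : tL (x + y) = tL x * tL y := by
  apply ext4 <;> simp [mul00, mul01, mul10, mul11]

theorem tU_inv (x : F) : (tU x)⁻¹ = tU (-x) := by
  apply ext4 <;> simp [inv00, inv01, inv10, inv11]
theorem tL_inv (x : F) : (tL x)⁻¹ = tL (-x) := by
  apply ext4 <;> simp [inv00, inv01, inv10, inv11]

theorem tU_injective : Function.Injective (tU : F → SL(2, F)) := by
  intro x y h
  have := congrArg (fun g : SL(2, F) => g 0 1) h
  simpa using this
theorem tL_injective : Function.Injective (tL : F → SL(2, F)) := by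
  intro x y h
  have := congrArg (fun g : SL(2, F) => g 1 0) h
  simpa using this

theorem tU_pow (x : F) (n : ℕ) : (tU x) ^ n = tU (n * x) := by
  induction n with
  | zero => simp [tU_zero]
  | succ n ih => rw [pow_succ, ih, ← tU_add]; congr 1; push_cast; ring
theorem tL_pow (x : F) (n : ℕ) : (tL x) ^ n = tL (n * x) := by
  induction n with
  | zero => simp [tL_zero]
  | succ n ih => rw [pow_succ, ih, ← tL_add]; congr 1; push_cast; ring

/-- an element with lower-left entry `0` and `(0,0)`-entry `1` is `tU` -/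
theorem eq_tU_of {g : SL(2, F)} (h10 : g 1 0 = 0) (h00 : g 0 0 = 1) : g = tU (g 0 1) := by
  have hd := det1 g
  rw [h10, h00] at hd
  apply ext4 <;> simp [h10, h00]
  linear_combination hd

theorem eq_tL_of {g : SL(2, F)} (h01 : g 0 1 = 0) (h00 : g 0 0 = 1) : g = tL (g 1 0) := by
  have hd := det1 g
  rw [h01, h00] at hd
  apply ext4 <;> simp [h01, h00]
  linear_combination hd

/-- trace -/
def tr (g : SL(2, F)) : F := g 0 0 + g 1 1

theorem tr_conj (g h : SL(2, F)) : tr (g * h * g⁻¹) = tr h := by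
  have hd := det1 g
  simp only [tr, mul00, mul01, mul10, mul11, inv00, inv01, inv10, inv11]
  linear_combination (h 0 0 + h 1 1) * hd

theorem tr_inv (g : SL(2, F)) : tr g⁻¹ = tr g := by
  simp only [tr, inv00, inv11]; ring

theorem tr_one : tr (1 : SL(2, F)) = 2 := by
  simp only [tr, one00, one11]; norm_num

/-- scalar elements -/
def IsScalar (g : SL(2, F)) : Prop := g 0 1 = 0 ∧ g 1 0 = 0 ∧ g 0 0 = g 1 1

theorem IsScalar.commute {g : SL(2, F)} (hg : IsScalar g) (h : SL(2, F)) : Commute g h := by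
  obtain ⟨h1, h2, h3⟩ := hg
  apply ext4 <;> simp only [mul00, mul01, mul10, mul11, h1, h2, h3] <;> ring

theorem isScalar_one : IsScalar (1 : SL(2, F)) := ⟨one01, one10, by rw [one00, one11]⟩

theorem IsScalar.mul {g h : SL(2, F)} (hg : IsScalar g) (hh : IsScalar h) : IsScalar (g * h) := by
  obtain ⟨g1, g2, g3⟩ := hg
  obtain ⟨h1, h2, h3⟩ := hh
  refine ⟨?_, ?_, ?_⟩ <;> simp only [mul00, mul01, mul10, mul11, g1, g2, g3, h1, h2, h3] <;> ring

theorem IsScalar.inv {g : SL(2, F)} (hg : IsScalar g) : IsScalar g⁻¹ := by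
  obtain ⟨g1, g2, g3⟩ := hg
  refine ⟨?_, ?_, ?_⟩ <;> simp only [inv00, inv01, inv10, inv11, g1, g2, g3] <;> ring

theorem IsScalar.conj {g : SL(2, F)} (hg : IsScalar g) (h : SL(2, F)) :
    IsScalar (h * g * h⁻¹) := by
  have : h * g * h⁻¹ = g := by
    rw [← (hg.commute h).eq, mul_assoc, mul_inv_cancel, mul_one]
  rwa [this]

theorem isScalar_conj_iff (g h : SL(2, F)) : IsScalar (h * g * h⁻¹) ↔ IsScalar g := by
  refine ⟨fun hs => ?_, fun hs => hs.conj h⟩
  have := hs.conj h⁻¹
  have e : h⁻¹ * (h * g * h⁻¹) * h⁻¹⁻¹ = g := by group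
  rwa [e] at this

/-- a scalar element has square `1` entries: `g 0 0 ^ 2 = 1` -/
theorem IsScalar.sq {g : SL(2, F)} (hg : IsScalar g) : g 0 0 * g 0 0 = 1 := by
  obtain ⟨g1, g2, g3⟩ := hg
  have hd := det1 g
  rw [g1, ← g3] at hd
  linear_combination hd

theorem IsScalar.eq_one_of_tr {g : SL(2, F)} (h2 : (2 : F) ≠ 0) (hg : IsScalar g)
    (ht : tr g = 2) : g = 1 := by
  obtain ⟨g1, g2, g3⟩ := hg
  have h00 : g 0 0 = 1 := by
    have : 2 * g 0 0 = 2 := by rw [tr, ← g3] at ht; linear_combination ht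
    have := mul_left_cancel₀ h2 (this.trans (mul_one 2).symm)
    exact this
  apply ext4 <;> simp only [one00, one01, one10, one11, g1, g2, ← g3, h00]

/-- the commutation criterion in entries -/
theorem commute_iff (g h : SL(2, F)) : Commute g h ↔
    (g 0 1 * h 1 0 = h 0 1 * g 1 0 ∧ g 0 1 * (h 0 0 - h 1 1) = h 0 1 * (g 0 0 - g 1 1) ∧
      g 1 0 * (h 0 0 - h 1 1) = h 1 0 * (g 0 0 - g 1 1)) := by
  unfold Commute SemiconjBy
  rw [ext4_iff]
  simp only [mul00, mul01, mul10, mul11]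
  constructor
  · rintro ⟨e1, e2, e3, e4⟩
    refine ⟨?_, ?_, ?_⟩
    · linear_combination e1
    · linear_combination -e2
    · linear_combination e3
  · rintro ⟨e1, e2, e3⟩
    refine ⟨?_, ?_, ?_, ?_⟩
    · linear_combination e1
    · linear_combination -e2
    · linear_combination e3
    · linear_combination -e1

/-- Commuting is transitive through a non-scalar element. -/
theorem commute_trans {x y w : SL(2, F)} (hy : ¬ IsScalar y) (h1 : Commute x y)
    (h2 : Commute y w) : Commute x w := by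
  rw [commute_iff] at h1 h2 ⊢
  obtain ⟨a1, a2, a3⟩ := h1
  obtain ⟨b1, b2, b3⟩ := h2
  unfold IsScalar at hy
  by_cases c1 : y 0 1 = 0
  · by_cases c2 : y 1 0 = 0
    · have c3 : y 0 0 - y 1 1 ≠ 0 := fun h => hy ⟨c1, c2, sub_eq_zero.1 h⟩
      rw [c1] at a2 b2
      rw [c2] at a3 b3
      have x1 : x 0 1 = 0 := by
        have : x 0 1 * (y 0 0 - y 1 1) = 0 := by linear_combination a2
        exact (mul_eq_zero.1 this).resolve_right c3
      have x2 : x 1 0 = 0 := by
        have : x 1 0 * (y 0 0 - y 1 1) = 0 := by linear_combination a3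
        exact (mul_eq_zero.1 this).resolve_right c3
      have w1 : w 0 1 = 0 := by
        have : w 0 1 * (y 0 0 - y 1 1) = 0 := by linear_combination -b2
        exact (mul_eq_zero.1 this).resolve_right c3
      have w2 : w 1 0 = 0 := by
        have : w 1 0 * (y 0 0 - y 1 1) = 0 := by linear_combination -b3
        exact (mul_eq_zero.1 this).resolve_right c3
      simp [x1, x2, w1, w2]
    · have g3 : x 1 0 * (w 0 0 - w 1 1) = w 1 0 * (x 0 0 - x 1 1) := by
        apply mul_left_cancel₀ c2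
        linear_combination (x 1 0) * b3 + (w 1 0) * a3
      refine ⟨?_, ?_, g3⟩
      · apply mul_left_cancel₀ c2
        linear_combination (w 1 0) * a1 + (x 1 0) * b1
      · apply mul_left_cancel₀ c2
        linear_combination (w 0 0 - w 1 1) * a1 + (x 0 0 - x 1 1) * b1 + (y 0 1) * g3
  · refine ⟨?_, ?_, ?_⟩
    · apply mul_left_cancel₀ c1
      linear_combination (x 0 1) * b1 + (w 0 1) * a1
    · apply mul_left_cancel₀ c1
      linear_combination (x 0 1) * b2 + (w 0 1) * a2
    · apply mul_left_cancel₀ c1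
      linear_combination (-(w 0 0 - w 1 1)) * a1 + (x 0 1) * b3 + (w 1 0) * a2


/-- `tr² - 4` in terms of the "vector" of `g` -/
theorem tr_sq_sub (g : SL(2, F)) :
    tr g * tr g - 4 = (g 0 0 - g 1 1) * (g 0 0 - g 1 1) + 4 * (g 0 1 * g 1 0) := by
  have hd := det1 g
  unfold tr
  linear_combination 4 * hd

/-- The type (`tr² = 4`) is constant along commuting non-scalar elements. -/
theorem tr_sq_of_commute {x y : SL(2, F)} (hy : ¬ IsScalar y) (h : Commute x y)
    (hty : tr y * tr y = 4) : tr x * tr x = 4 := by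
  have hqy : (y 0 0 - y 1 1) * (y 0 0 - y 1 1) + 4 * (y 0 1 * y 1 0) = 0 := by
    rw [← tr_sq_sub, hty, sub_self]
  have key : (x 0 0 - x 1 1) * (x 0 0 - x 1 1) + 4 * (x 0 1 * x 1 0) = 0 := by
    rw [commute_iff] at h
    obtain ⟨a1, a2, a3⟩ := h
    unfold IsScalar at hy
    by_cases c1 : y 0 1 = 0
    · by_cases c2 : y 1 0 = 0
      · have c3 : y 0 0 - y 1 1 ≠ 0 := fun h => hy ⟨c1, c2, sub_eq_zero.1 h⟩
        have : (y 0 0 - y 1 1) * (y 0 0 - y 1 1) *
            ((x 0 0 - x 1 1) * (x 0 0 - x 1 1) + 4 * (x 0 1 * x 1 0)) = 0 := by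
          linear_combination (x 0 0 - x 1 1) * (x 0 0 - x 1 1) * hqy
            + 4 * (x 1 0 * (y 0 0 - y 1 1)) * a2 + 4 * (y 0 1 * (x 0 0 - x 1 1)) * a3
        exact (mul_eq_zero.1 this).resolve_left (mul_ne_zero c3 c3)
      · have : (y 1 0) * (y 1 0) *
            ((x 0 0 - x 1 1) * (x 0 0 - x 1 1) + 4 * (x 0 1 * x 1 0)) = 0 := by
          linear_combination (x 1 0) * (x 1 0) * hqy
            + (-(y 1 0 * (x 0 0 - x 1 1) + x 1 0 * (y 0 0 - y 1 1))) * a3
            + 4 * (x 1 0 * y 1 0) * a1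
        exact (mul_eq_zero.1 this).resolve_left (mul_ne_zero c2 c2)
    · have : (y 0 1) * (y 0 1) *
          ((x 0 0 - x 1 1) * (x 0 0 - x 1 1) + 4 * (x 0 1 * x 1 0)) = 0 := by
        linear_combination (x 0 1) * (x 0 1) * hqy
          + (-(y 0 1 * (x 0 0 - x 1 1) + x 0 1 * (y 0 0 - y 1 1))) * a2
          + (-4 * (x 0 1 * y 0 1)) * a1
      exact (mul_eq_zero.1 this).resolve_left (mul_ne_zero c1 c1)
  have := tr_sq_sub x
  rw [key] at this
  linear_combination this

/-- Commuting elements with the same trace `τ`, `τ² ≠ 4`: equal or inverse. -/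
theorem eq_or_eq_inv_of_commute (h2 : (2 : F) ≠ 0) {x y : SL(2, F)} (h : Commute x y)
    (ht : tr y = tr x) (hx : tr x * tr x ≠ 4) : y = x ∨ y = x⁻¹ := by
  have hqx := tr_sq_sub x
  have hqy := tr_sq_sub y
  rw [ht] at hqy
  set q := tr x * tr x - 4 with hq
  have hq0 : q ≠ 0 := fun h0 => hx (by linear_combination h0)
  rw [commute_iff] at h
  obtain ⟨a1, a2, a3⟩ := h
  set b := ((x 0 0 - x 1 1) * (y 0 0 - y 1 1) + 2 * (x 0 1 * y 1 0) + 2 * (x 1 0 * y 0 1)) / q
    with hb
  have e1 : y 0 1 = b * x 0 1 := by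
    rw [hb, div_mul_eq_mul_div, eq_div_iff hq0, hqx]
    linear_combination (-(x 0 0 - x 1 1)) * a2 - 2 * (x 0 1) * a1
  have e2 : y 1 0 = b * x 1 0 := by
    rw [hb, div_mul_eq_mul_div, eq_div_iff hq0, hqx]
    linear_combination (-(x 0 0 - x 1 1)) * a3 + 2 * (x 1 0) * a1
  have e3 : y 0 0 - y 1 1 = b * (x 0 0 - x 1 1) := by
    rw [hb, div_mul_eq_mul_div, eq_div_iff hq0, hqx]
    linear_combination 2 * (x 0 1) * a3 + 2 * (x 1 0) * a2
  have hbb : (b - 1) * (b + 1) = 0 := by
    have : (b * b - 1) * q = 0 := by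
      rw [e1, e2, e3] at hqy
      linear_combination (-1 : F) * hqy + (b * b) * hqx
    rcases mul_eq_zero.1 this with h | h
    · linear_combination h
    · exact absurd h hq0
  have ht' : y 0 0 + y 1 1 = x 0 0 + x 1 1 := ht
  rcases mul_eq_zero.1 hbb with hb1 | hb1
  · left
    have hb1 : b = 1 := by linear_combination hb1
    rw [hb1, one_mul] at e1 e2 e3
    have e00 : y 0 0 = x 0 0 := by
      apply mul_left_cancel₀ h2
      linear_combination e3 + ht'
    have e11 : y 1 1 = x 1 1 := by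
      apply mul_left_cancel₀ h2
      linear_combination ht' - e3
    exact ext4 e00 e1 e2 e11
  · right
    have hb1 : b = -1 := by linear_combination hb1
    rw [hb1] at e1 e2 e3
    have e00 : y 0 0 = x 1 1 := by
      apply mul_left_cancel₀ h2
      linear_combination e3 + ht'
    have e11 : y 1 1 = x 0 0 := by
      apply mul_left_cancel₀ h2
      linear_combination ht' - e3
    apply ext4
    · rw [inv00, e00]
    · rw [inv01, e1]; ring
    · rw [inv10, e2]; ring
    · rw [inv11, e11]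

/-- powers of an element of trace `2` -/
theorem pow_of_tr_two {g : SL(2, F)} (ht : tr g = 2) (n : ℕ) :
    (g ^ n) 0 0 = 1 + n * (g 0 0 - 1) ∧ (g ^ n) 0 1 = n * g 0 1 ∧ (g ^ n) 1 0 = n * g 1 0 ∧
      (g ^ n) 1 1 = 1 + n * (g 1 1 - 1) := by
  have hd := det1 g
  have ht' : g 0 0 + g 1 1 = 2 := ht
  induction n with
  | zero => simp
  | succ n ih =>
    obtain ⟨i1, i2, i3, i4⟩ := ih
    rw [pow_succ]
    refine ⟨?_, ?_, ?_, ?_⟩
    · rw [mul00, i1, i2]; push_cast
      linear_combination (-(n : F)) * hd + (n : F) * g 0 0 * ht'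
    · rw [mul01, i1, i2]; push_cast
      linear_combination (n : F) * g 0 1 * ht'
    · rw [mul10, i3, i4]; push_cast
      linear_combination (n : F) * g 1 0 * ht'
    · rw [mul11, i3, i4]; push_cast
      linear_combination (-(n : F)) * hd + (n : F) * g 1 1 * ht'

theorem pow_char_of_tr_two (p : ℕ) [CharP F p] {g : SL(2, F)} (ht : tr g = 2) : g ^ p = 1 := by
  obtain ⟨i1, i2, i3, i4⟩ := pow_of_tr_two ht p
  have hp : (p : F) = 0 := CharP.cast_eq_zero F p
  rw [hp] at i1 i2 i3 i4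
  apply ext4
  · rw [i1, one00]; ring
  · rw [i2, one01]; ring
  · rw [i3, one10]; ring
  · rw [i4, one11]; ring

/-- a `p`-element has trace `2` -/
theorem tr_of_pow_char_pow (p : ℕ) [Fact p.Prime] [CharP F p] {g : SL(2, F)} (n : ℕ)
    (hg : g ^ p ^ n = 1) : tr g = 2 := by
  have hM : (g : Matrix (Fin 2) (Fin 2) F) ^ p ^ n = 1 := by
    rw [← Matrix.SpecialLinearGroup.coe_pow, hg, Matrix.SpecialLinearGroup.coe_one]
  have hN : ((g : Matrix (Fin 2) (Fin 2) F) - 1) ^ p ^ n = 0 := by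
    rw [sub_pow_char_pow_of_commute p n (Commute.one_right _), hM, one_pow, sub_self]
  have hnil : IsNilpotent ((g : Matrix (Fin 2) (Fin 2) F) - 1) := ⟨_, hN⟩
  have := (Matrix.isNilpotent_trace_of_isNilpotent hnil).eq_zero
  rw [Matrix.trace_sub, Matrix.trace_fin_two, Matrix.trace_one] at this
  simp only [Fintype.card_fin, Nat.cast_ofNat] at this
  unfold tr
  linear_combination this

/-- the non-identity scalar -/
def negOne : SL(2, F) := mk (-1) 0 0 (-1) (by ring)

theorem IsScalar.eq_one_or {g : SL(2, F)} (hg : IsScalar g) : g = 1 ∨ g = negOne := by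
  have hs := hg.sq
  obtain ⟨g1, g2, g3⟩ := hg
  have : (g 0 0 - 1) * (g 0 0 + 1) = 0 := by linear_combination hs
  rcases mul_eq_zero.1 this with h | h
  · left
    have h00 : g 0 0 = 1 := by linear_combination h
    apply ext4 <;> simp only [one00, one01, one10, one11, g1, g2, ← g3, h00]
  · right
    have h00 : g 0 0 = -1 := by linear_combination h
    apply ext4 <;> simp only [negOne, mk00, mk01, mk10, mk11, g1, g2, ← g3, h00]

/-- `tr (g³) = tr(g)³ - 3 tr(g)` -/
theorem tr_pow_three (g : SL(2, F)) : tr (g ^ 3) = tr g ^ 3 - 3 * tr g := by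
  have hd := det1 g
  have e : g ^ 3 = g * g * g := by rw [pow_succ, pow_two]
  rw [e]
  simp only [tr, mul00, mul01, mul10, mul11]
  linear_combination (-3 * (g 0 0 + g 1 1)) * hd


/-- entries of a conjugate of an upper transvection -/
theorem conj_tU (g : SL(2, F)) (x : F) :
    (g * tU x * g⁻¹) 0 0 = 1 - x * (g 0 0 * g 1 0) ∧ (g * tU x * g⁻¹) 0 1 = x * (g 0 0 * g 0 0) ∧
      (g * tU x * g⁻¹) 1 0 = -(x * (g 1 0 * g 1 0)) ∧
      (g * tU x * g⁻¹) 1 1 = 1 + x * (g 0 0 * g 1 0) := by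
  have hd := det1 g
  refine ⟨?_, ?_, ?_, ?_⟩ <;>
    simp only [mul00, mul01, mul10, mul11, inv00, inv01, inv10, inv11, tU00, tU01, tU10, tU11]
  · linear_combination hd
  · ring
  · ring
  · linear_combination hd

theorem tr_tU (x : F) : tr (tU x) = 2 := by
  simp only [tr, tU00, tU11]; norm_num

theorem tr_tL (x : F) : tr (tL x) = 2 := by
  simp only [tr, tL00, tL11]; norm_num

theorem commute_tU (x y : F) : Commute (tU x) (tU y) := by
  unfold Commute SemiconjBy
  rw [← tU_add, ← tU_add, add_comm]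

theorem tr_sq (g : SL(2, F)) : tr (g * g) = tr g * tr g - 2 := by
  have hd := det1 g
  simp only [tr, mul00, mul11]
  linear_combination (-2 : F) * hd

end Cfsg.Agent.Lib.Helper50_SL2Mat
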