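import Mathlib
import Cfsg.Agent.Lib.Helper50_SL2Mat
import Cfsg.Agent.Lib.Helper50_SL2Gen

/-!
# S3009 (architect helper50): shared definitions.

Abstract setting: a field `F`, an additive commutative group `M`, and a monoid homomorphism
`ρ : SL(2, F) →* AddMonoid.End M` (an action of `SL(2, F)` on `M` by additive endomorphisms).

* `A ρ s = ρ (tU s) - 1`, `C ρ s = ρ (tL s) - 1` with `tU s = [[1, s], [0, 1]]`,
  `tL s = [[1, 0], [s, 1]]` (from `Helper50_SL2Mat`).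
* `V0 ρ`  : the fixed points of all `tU s` (upper unitriangular group `U`);
  `V0' ρ` : the fixed points of all `tL s` (lower unitriangular group `U⁻`).
* `Quad ρ` : `U` acts quadratically, `A s ∘ A t = 0`.
* `Irr ρ`, `NonTriv ρ` : no invariant additive subgroups other than `⊥`, `⊤`; the action is not
  trivial.
* `nW = [[0, 1], [-1, 0]]`, `nT t = [[0, t], [-t⁻¹, 0]] = tU t * tL (-t⁻¹) * tU t`,
  `hT t = diag (t, t⁻¹) = nT t * nT (-1)`.
-/

set_option autoImplicit false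
set_option linter.unusedSimpArgs false

namespace Cfsg.Agent.Lib.Helper50_NatDefs

open Matrix Cfsg.Agent.Lib.Helper50_SL2Mat
open scoped MatrixGroups

variable {F : Type*} [Field F] {M : Type*} [AddCommGroup M]

/-- `ρ (tU s) - 1` -/
def A (ρ : SL(2, F) →* AddMonoid.End M) (s : F) : AddMonoid.End M := ρ (tU s) - 1

/-- `ρ (tL s) - 1` -/
def C (ρ : SL(2, F) →* AddMonoid.End M) (s : F) : AddMonoid.End M := ρ (tL s) - 1

variable (ρ : SL(2, F) →* AddMonoid.End M)

theorem A_apply (s : F) (m : M) : A ρ s m = ρ (tU s) m - m := rfl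
theorem C_apply (s : F) (m : M) : C ρ s m = ρ (tL s) m - m := rfl
theorem tU_apply (s : F) (m : M) : ρ (tU s) m = m + A ρ s m := by rw [A_apply]; abel
theorem tL_apply (s : F) (m : M) : ρ (tL s) m = m + C ρ s m := by rw [C_apply]; abel

theorem mul_apply' (g h : SL(2, F)) (m : M) : ρ (g * h) m = ρ g (ρ h m) := by
  rw [map_mul]; rfl

theorem one_apply' (m : M) : ρ 1 m = m := by
  rw [map_one]; rfl

theorem inv_apply_apply (g : SL(2, F)) (m : M) : ρ g⁻¹ (ρ g m) = m := by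
  rw [← mul_apply', inv_mul_cancel, one_apply']

theorem apply_inv_apply (g : SL(2, F)) (m : M) : ρ g (ρ g⁻¹ m) = m := by
  rw [← mul_apply', mul_inv_cancel, one_apply']

/-- the fixed points of the upper unitriangular group -/
def V0 : AddSubgroup M where
  carrier := {m | ∀ s : F, ρ (tU s) m = m}
  zero_mem' := fun s => map_zero _
  add_mem' := fun {a b} ha hb s => by rw [map_add, ha s, hb s]
  neg_mem' := fun {a} ha s => by rw [map_neg, ha s]

/-- the fixed points of the lower unitriangular group -/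
def V0' : AddSubgroup M where
  carrier := {m | ∀ s : F, ρ (tL s) m = m}
  zero_mem' := fun s => map_zero _
  add_mem' := fun {a b} ha hb s => by rw [map_add, ha s, hb s]
  neg_mem' := fun {a} ha s => by rw [map_neg, ha s]

theorem mem_V0 {m : M} : m ∈ V0 ρ ↔ ∀ s : F, ρ (tU s) m = m := Iff.rfl
theorem mem_V0' {m : M} : m ∈ V0' ρ ↔ ∀ s : F, ρ (tL s) m = m := Iff.rfl

theorem mem_V0_iff_A {m : M} : m ∈ V0 ρ ↔ ∀ s : F, A ρ s m = 0 := by
  simp only [mem_V0, A_apply, sub_eq_zero]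

theorem mem_V0'_iff_C {m : M} : m ∈ V0' ρ ↔ ∀ s : F, C ρ s m = 0 := by
  simp only [mem_V0', C_apply, sub_eq_zero]

theorem A_of_mem_V0 {m : M} (h : m ∈ V0 ρ) (s : F) : A ρ s m = 0 := (mem_V0_iff_A ρ).1 h s
theorem C_of_mem_V0' {m : M} (h : m ∈ V0' ρ) (s : F) : C ρ s m = 0 := (mem_V0'_iff_C ρ).1 h s

/-- `U` acts quadratically -/
def Quad : Prop := ∀ (s t : F) (m : M), A ρ s (A ρ t m) = 0

/-- no invariant additive subgroups except `⊥` and `⊤` -/
def Irr : Prop := ∀ N : AddSubgroup M, (∀ g : SL(2, F), ∀ m ∈ N, ρ g m ∈ N) → N = ⊥ ∨ N = ⊤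

/-- the action is not trivial -/
def NonTriv : Prop := ∃ (g : SL(2, F)) (m : M), ρ g m ≠ m

/-- the Weyl element `[[0, 1], [-1, 0]]` -/
def nW : SL(2, F) := mk 0 1 (-1) 0 (by ring)

/-- `[[0, t], [-t⁻¹, 0]]` -/
def nT (t : F) (ht : t ≠ 0) : SL(2, F) :=
  mk 0 t (-t⁻¹) 0 (by rw [zero_mul, zero_sub, mul_neg, neg_neg, mul_inv_cancel₀ ht])

/-- `diag (t, t⁻¹)` -/
def hT (t : F) (ht : t ≠ 0) : SL(2, F) :=
  mk t 0 0 t⁻¹ (by rw [mul_inv_cancel₀ ht, mul_zero, sub_zero])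

theorem nT_eq (t : F) (ht : t ≠ 0) : nT t ht = tU t * tL (-t⁻¹) * tU t := by
  apply ext4
  · simp [nT, mul00, mul01, mul10, mul11, ht]
  · simp [nT, mul00, mul01, mul10, mul11, ht]
  · simp [nT, mul00, mul01, mul10, mul11, ht]
  · simp [nT, mul00, mul01, mul10, mul11, ht]

theorem hT_eq (t : F) (ht : t ≠ 0) : hT t ht = nT t ht * nT (-1) (by simp) := by
  apply ext4 <;> simp [nT, hT, mul00, mul01, mul10, mul11]

theorem hT_mul (s t : F) (hs : s ≠ 0) (ht : t ≠ 0) :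
    hT (s * t) (mul_ne_zero hs ht) = hT s hs * hT t ht := by
  apply ext4 <;> simp [hT, mul00, mul01, mul10, mul11, mul_comm]

/-- `nT t` conjugates `tU s` to `tL (-s t⁻²)` -/
theorem nT_conj_tU (t : F) (ht : t ≠ 0) (s : F) :
    nT t ht * tU s * (nT t ht)⁻¹ = tL (-(s * (t⁻¹ * t⁻¹))) := by
  apply ext4 <;> simp [nT, mul00, mul01, mul10, mul11, inv00, inv01, inv10, inv11] <;>
    field_simp

/-- `nT t` conjugates `tL s` to `tU (-s t²)` -/
theorem nT_conj_tL (t : F) (ht : t ≠ 0) (s : F) :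
    nT t ht * tL s * (nT t ht)⁻¹ = tU (-(s * (t * t))) := by
  apply ext4 <;> simp [nT, mul00, mul01, mul10, mul11, inv00, inv01, inv10, inv11] <;>
    field_simp

/-- `nW` conjugates `tU s` to `tL (-s)` -/
theorem nW_conj_tU (s : F) : (nW : SL(2, F)) * tU s * nW⁻¹ = tL (-s) := by
  apply ext4 <;> simp [nW, mul00, mul01, mul10, mul11, inv00, inv01, inv10, inv11]

/-- `nW` conjugates `tL s` to `tU (-s)` -/
theorem nW_conj_tL (s : F) : (nW : SL(2, F)) * tL s * nW⁻¹ = tU (-s) := by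
  apply ext4 <;> simp [nW, mul00, mul01, mul10, mul11, inv00, inv01, inv10, inv11]

/-- `hT t` conjugates `tU s` to `tU (t² s)` -/
theorem hT_conj_tU (t : F) (ht : t ≠ 0) (s : F) :
    hT t ht * tU s * (hT t ht)⁻¹ = tU (t * t * s) := by
  apply ext4 <;> simp [hT, mul00, mul01, mul10, mul11, inv00, inv01, inv10, inv11] <;>
    field_simp

/-- `hT t` conjugates `tL s` to `tL (t⁻² s)` -/
theorem hT_conj_tL (t : F) (ht : t ≠ 0) (s : F) :
    hT t ht * tL s * (hT t ht)⁻¹ = tL (t⁻¹ * t⁻¹ * s) := by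
  apply ext4 <;> simp [hT, mul00, mul01, mul10, mul11, inv00, inv01, inv10, inv11] <;>
    field_simp

/-- the subgroup generated by all `tU s`, `tL s` is everything: induction principle -/
theorem sl2_induction {P : SL(2, F) → Prop} (h1 : P 1) (hU : ∀ s g, P g → P (tU s * g))
    (hL : ∀ s g, P g → P (tL s * g)) : ∀ g, P g := by
  intro g
  have hmem : g ∈ Subgroup.closure (Set.range (tU : F → SL(2, F)) ∪ Set.range (tL : F → SL(2, F))) := by
    have htop : Subgroup.closure (Set.range (tU : F → SL(2, F)) ∪ Set.range (tL : F → SL(2, F))) = ⊤ :=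
      Cfsg.Agent.Lib.Helper50_SL2Gen.closure_eq_top_of_forall _
        (fun c => Subgroup.subset_closure (Or.inl ⟨c, rfl⟩))
        (fun c => Subgroup.subset_closure (Or.inr ⟨c, rfl⟩))
    rw [htop]; exact Subgroup.mem_top g
  refine Subgroup.closure_induction_left (p := fun g _ => P g) h1 ?_ ?_ hmem
  · rintro x hx y _ hy
    rcases hx with ⟨s, rfl⟩ | ⟨s, rfl⟩
    · exact hU s y hy
    · exact hL s y hy
  · rintro x hx y _ hy
    rcases hx with ⟨s, rfl⟩ | ⟨s, rfl⟩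
    · rw [tU_inv]; exact hU (-s) y hy
    · rw [tL_inv]; exact hL (-s) y hy

/-- invariance under the generators suffices -/
theorem invariant_of_generators (N : AddSubgroup M)
    (hU : ∀ s : F, ∀ m ∈ N, ρ (tU s) m ∈ N) (hL : ∀ s : F, ∀ m ∈ N, ρ (tL s) m ∈ N) :
    ∀ g : SL(2, F), ∀ m ∈ N, ρ g m ∈ N := by
  intro g
  refine sl2_induction (P := fun g => ∀ m ∈ N, ρ g m ∈ N) ?_ ?_ ?_ g
  · intro m hm; rw [one_apply']; exact hm
  · intro s g hg m hm; rw [mul_apply']; exact hU s _ (hg m hm)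
  · intro s g hg m hm; rw [mul_apply']; exact hL s _ (hg m hm)

/-- a vector fixed by the generators is fixed by everything -/
theorem fixed_of_generators {m : M} (hU : m ∈ V0 ρ) (hL : m ∈ V0' ρ) (g : SL(2, F)) :
    ρ g m = m := by
  refine sl2_induction (P := fun g => ρ g m = m) ?_ ?_ ?_ g
  · exact one_apply' ρ m
  · intro s g hg; rw [mul_apply', hg]; exact hU s
  · intro s g hg; rw [mul_apply', hg]; exact hL s

/-- the image of `V0` under `g` is the set of fixed points of `g U g⁻¹` -/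
theorem conj_fixed {g u : SL(2, F)} {m : M} (h : ρ u m = m) : ρ (g * u * g⁻¹) (ρ g m) = ρ g m := by
  rw [mul_apply', mul_apply', inv_apply_apply, h]

theorem nT_V0 (t : F) (ht : t ≠ 0) {m : M} (h : m ∈ V0 ρ) : ρ (nT t ht) m ∈ V0' ρ := by
  intro s
  have h1 := conj_fixed ρ (g := nT t ht) (h (-(s * (t * t))))
  rw [nT_conj_tU] at h1
  have e : -(-(s * (t * t)) * (t⁻¹ * t⁻¹)) = s := by field_simp
  rwa [e] at h1

theorem nT_V0' (t : F) (ht : t ≠ 0) {m : M} (h : m ∈ V0' ρ) : ρ (nT t ht) m ∈ V0 ρ := by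
  intro s
  have h1 := conj_fixed ρ (g := nT t ht) (h (-(s * (t⁻¹ * t⁻¹))))
  rw [nT_conj_tL] at h1
  have e : -(-(s * (t⁻¹ * t⁻¹)) * (t * t)) = s := by field_simp
  rwa [e] at h1

theorem nW_V0 {m : M} (h : m ∈ V0 ρ) : ρ nW m ∈ V0' ρ := by
  intro s
  have h1 := conj_fixed ρ (g := nW) (h (-s))
  rwa [nW_conj_tU, neg_neg] at h1

theorem nW_V0' {m : M} (h : m ∈ V0' ρ) : ρ nW m ∈ V0 ρ := by
  intro s
  have h1 := conj_fixed ρ (g := nW) (h (-s))
  rwa [nW_conj_tL, neg_neg] at h1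

theorem hT_V0 (t : F) (ht : t ≠ 0) {m : M} (h : m ∈ V0 ρ) : ρ (hT t ht) m ∈ V0 ρ := by
  intro s
  have h1 := conj_fixed ρ (g := hT t ht) (h (t⁻¹ * t⁻¹ * s))
  rw [hT_conj_tU] at h1
  have e : t * t * (t⁻¹ * t⁻¹ * s) = s := by field_simp
  rwa [e] at h1

theorem hT_V0' (t : F) (ht : t ≠ 0) {m : M} (h : m ∈ V0' ρ) : ρ (hT t ht) m ∈ V0' ρ := by
  intro s
  have h1 := conj_fixed ρ (g := hT t ht) (h (t * t * s))
  rw [hT_conj_tL] at h1
  have e : t⁻¹ * t⁻¹ * (t * t * s) = s := by field_simp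
  rwa [e] at h1

/-! ### Basic calculus of `A`, `C` -/

theorem A_zero (m : M) : A ρ 0 m = 0 := by
  rw [A_apply, tU_zero, one_apply', sub_self]

theorem C_zero (m : M) : C ρ 0 m = 0 := by
  rw [C_apply, tL_zero, one_apply', sub_self]

/-- `C s = ρ nW ∘ A (-s) ∘ ρ nW⁻¹` -/
theorem C_eq_conj (s : F) (m : M) : C ρ s m = ρ nW (A ρ (-s) (ρ nW⁻¹ m)) := by
  have h : tL s = (nW : SL(2, F)) * tU (-s) * nW⁻¹ := by rw [nW_conj_tU, neg_neg]
  rw [C_apply, A_apply, h, mul_apply', mul_apply', map_sub, apply_inv_apply]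

/-- `A s = ρ nW ∘ C (-s) ∘ ρ nW⁻¹` -/
theorem A_eq_conj (s : F) (m : M) : A ρ s m = ρ nW (C ρ (-s) (ρ nW⁻¹ m)) := by
  have h : tU s = (nW : SL(2, F)) * tL (-s) * nW⁻¹ := by rw [nW_conj_tL, neg_neg]
  rw [A_apply, C_apply, h, mul_apply', mul_apply', map_sub, apply_inv_apply]

theorem A_add_gen (s t : F) (m : M) :
    A ρ (s + t) m = A ρ s m + A ρ t m + A ρ s (A ρ t m) := by
  simp only [A_apply, tU_add, mul_apply', map_sub]
  abel

theorem C_add_gen (s t : F) (m : M) :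
    C ρ (s + t) m = C ρ s m + C ρ t m + C ρ s (C ρ t m) := by
  simp only [C_apply, tL_add, mul_apply', map_sub]
  abel

variable {ρ}

theorem A_add (hq : Quad ρ) (s t : F) (m : M) : A ρ (s + t) m = A ρ s m + A ρ t m := by
  rw [A_add_gen, hq, add_zero]

theorem C_quad (hq : Quad ρ) (s t : F) (m : M) : C ρ s (C ρ t m) = 0 := by
  rw [C_eq_conj ρ s, C_eq_conj ρ t, inv_apply_apply, hq, map_zero]

theorem C_add (hq : Quad ρ) (s t : F) (m : M) : C ρ (s + t) m = C ρ s m + C ρ t m := by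
  rw [C_add_gen, C_quad hq, add_zero]

theorem A_neg (hq : Quad ρ) (s : F) (m : M) : A ρ (-s) m = -A ρ s m := by
  have h := A_add hq s (-s) m
  rw [add_neg_cancel, A_zero] at h
  exact (neg_eq_of_add_eq_zero_right h.symm).symm

theorem C_neg (hq : Quad ρ) (s : F) (m : M) : C ρ (-s) m = -C ρ s m := by
  have h := C_add hq s (-s) m
  rw [add_neg_cancel, C_zero] at h
  exact (neg_eq_of_add_eq_zero_right h.symm).symm

theorem A_mem_V0 (hq : Quad ρ) (s : F) (m : M) : A ρ s m ∈ V0 ρ :=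
  (mem_V0_iff_A ρ).2 fun t => hq t s m

theorem C_mem_V0' (hq : Quad ρ) (s : F) (m : M) : C ρ s m ∈ V0' ρ :=
  (mem_V0'_iff_C ρ).2 fun t => C_quad hq t s m

/-- quadratic action of the lower group gives quadratic action of the upper group -/
theorem quad_of_C (h : ∀ (s t : F) (m : M), C ρ s (C ρ t m) = 0) : Quad ρ := by
  intro s t m
  rw [A_eq_conj ρ s, A_eq_conj ρ t, inv_apply_apply, h, map_zero]

end Cfsg.Agent.Lib.Helper50_NatDefs
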