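import Mathlib
import Cfsg.Agent.Lib.Helper50_NatDefs

/-!
# S3009-BQ1 (architect helper50; author helper10)

`|M| ≤ |V0|²` gives `M = V0 + V0'` and a non-zero vector of `V0'` moved into `V0` by `U`.
-/

set_option autoImplicit false

open Matrix Cfsg.Agent.Lib.Helper50_SL2Mat Cfsg.Agent.Lib.Helper50_NatDefs
open scoped MatrixGroups

namespace Cfsg.Agent.Lib.Helper10_Nat_BQ1

variable {F : Type*} [Field F] {M : Type*} [AddCommGroup M] {ρ : SL(2, F) →* AddMonoid.End M}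

/-- `ρ (tU s)` maps `V0` into itself. -/
theorem V0_le_comap (ρ : SL(2, F) →* AddMonoid.End M) (s : F) :
    V0 ρ ≤ (V0 ρ).comap (ρ (tU s) : M →+ M) := by
  intro m hm
  show (ρ (tU s)) m ∈ V0 ρ
  have : (ρ (tU s)) m = m := hm s
  rw [this]
  exact hm

/-- the action of `U ≅ (F, +)` on `M ⧸ V0` -/
noncomputable def actQ (ρ : SL(2, F) →* AddMonoid.End M) (s : F) : (M ⧸ V0 ρ) →+ (M ⧸ V0 ρ) :=
  QuotientAddGroup.map (V0 ρ) (V0 ρ) (ρ (tU s) : M →+ M) (V0_le_comap ρ s)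

theorem actQ_mk (ρ : SL(2, F) →* AddMonoid.End M) (s : F) (m : M) :
    actQ ρ s (m : M ⧸ V0 ρ) = ((ρ (tU s) m : M) : M ⧸ V0 ρ) := rfl

/-- the action of `Multiplicative F` on `M ⧸ V0` -/
@[reducible] noncomputable def mulActQ (ρ : SL(2, F) →* AddMonoid.End M) :
    MulAction (Multiplicative F) (M ⧸ V0 ρ) where
  smul s x := actQ ρ (Multiplicative.toAdd s) x
  one_smul x := by
    induction x using QuotientAddGroup.induction_on with
    | H m =>
      show actQ ρ (Multiplicative.toAdd (1 : Multiplicative F)) (m : M ⧸ V0 ρ) = _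
      rw [actQ_mk, toAdd_one, tU_zero, one_apply']
  mul_smul s t x := by
    induction x using QuotientAddGroup.induction_on with
    | H m =>
      show actQ ρ (Multiplicative.toAdd (s * t)) (m : M ⧸ V0 ρ) =
        actQ ρ (Multiplicative.toAdd s) (actQ ρ (Multiplicative.toAdd t) (m : M ⧸ V0 ρ))
      rw [actQ_mk, actQ_mk, actQ_mk, toAdd_mul, tU_add, Cfsg.Agent.Lib.Helper50_NatDefs.mul_apply']

theorem isPGroup_mulF [Finite F] {p : ℕ} [Fact p.Prime] [CharP F p] :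
    IsPGroup p (Multiplicative F) := by
  intro g
  refine ⟨1, ?_⟩
  rw [pow_one]
  apply Multiplicative.toAdd.injective
  rw [toAdd_pow, toAdd_one, nsmul_eq_mul, CharP.cast_eq_zero, zero_mul]

theorem decomp_of_card [Finite F] [Finite M] {p : ℕ} [Fact p.Prime] [CharP F p]
    (hM : ∃ k : ℕ, Nat.card M = p ^ k) (hnt : NonTriv ρ)
    (hcap : ∀ m, m ∈ V0 ρ → m ∈ V0' ρ → m = 0)
    (hcard : Nat.card M ≤ Nat.card (V0 ρ) ^ 2) :
    (∀ m : M, ∃ v ∈ V0 ρ, ∃ v' ∈ V0' ρ, m = v + v') ∧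
      ∃ v₁ ∈ V0' ρ, v₁ ≠ 0 ∧ ∀ s : F, A ρ s v₁ ∈ V0 ρ := by
  classical
  have hp : p.Prime := Fact.out
  -- `|V0| ≤ |V0'|` via `ρ nW`
  have hinjW : Function.Injective (ρ nW : M → M) := by
    intro a b hab
    have := congrArg (ρ (nW : SL(2, F))⁻¹) hab
    rwa [inv_apply_apply, inv_apply_apply] at this
  have hle : Nat.card (V0 ρ) ≤ Nat.card (V0' ρ) := by
    let f : V0 ρ → V0' ρ := fun v => ⟨ρ nW v, nW_V0 ρ v.2⟩
    apply Nat.card_le_card_of_injective f
    intro a b hab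
    have : ρ nW (a : M) = ρ nW (b : M) := congrArg Subtype.val hab
    exact Subtype.ext (hinjW this)
  -- the sum map `V0 × V0' → M` is injective
  let φ : (V0 ρ) × (V0' ρ) → M := fun x => (x.1 : M) + (x.2 : M)
  have hφ : Function.Injective φ := by
    rintro ⟨a, a'⟩ ⟨b, b'⟩ hab
    have hab' : (a : M) + (a' : M) = (b : M) + (b' : M) := hab
    have h1 : (a : M) - (b : M) = (b' : M) - (a' : M) := by
      rw [sub_eq_sub_iff_add_eq_add, hab']; abel
    have h2 : (a : M) - (b : M) = 0 := by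
      apply hcap
      · exact (V0 ρ).sub_mem a.2 b.2
      · rw [h1]; exact (V0' ρ).sub_mem b'.2 a'.2
    have h3 : (b' : M) - (a' : M) = 0 := by rw [← h1, h2]
    have e1 : a = b := Subtype.ext (sub_eq_zero.mp h2)
    have e2 : a' = b' := Subtype.ext (sub_eq_zero.mp h3).symm
    rw [e1, e2]
  have hφb : Function.Bijective φ := by
    apply hφ.bijective_of_nat_card_le
    rw [Nat.card_prod]
    calc Nat.card M ≤ Nat.card (V0 ρ) ^ 2 := hcard
      _ = Nat.card (V0 ρ) * Nat.card (V0 ρ) := sq _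
      _ ≤ Nat.card (V0 ρ) * Nat.card (V0' ρ) := Nat.mul_le_mul_left _ hle
  have hdec : ∀ m : M, ∃ v ∈ V0 ρ, ∃ v' ∈ V0' ρ, m = v + v' := by
    intro m
    obtain ⟨⟨v, v'⟩, hv⟩ := hφb.2 m
    exact ⟨v, v.2, v', v'.2, hv.symm⟩
  refine ⟨hdec, ?_⟩
  -- `V0 ≠ ⊤`
  have hV0top : V0 ρ ≠ ⊤ := by
    intro htop
    obtain ⟨g, m, hgm⟩ := hnt
    -- `V0' = ⊤` as well
    have hcardV0 : Nat.card (V0 ρ) = Nat.card M := by
      rw [htop]; exact Nat.card_congr (AddSubgroup.topEquiv (G := M)).toEquiv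
    have hV0'top : V0' ρ = ⊤ := by
      apply AddSubgroup.eq_top_of_card_eq
      apply le_antisymm
      · exact Nat.card_le_card_of_injective _ Subtype.val_injective
      · rw [← hcardV0]; exact hle
    have hm0 : ∀ x : M, x = 0 := fun x =>
      hcap x (by rw [htop]; trivial) (by rw [hV0'top]; trivial)
    apply hgm
    rw [hm0 m, map_zero]
  -- the fixed point on `M ⧸ V0`
  obtain ⟨k, hk⟩ := hM
  have hcardQ : Nat.card (M ⧸ V0 ρ) * Nat.card (V0 ρ) = p ^ k := by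
    rw [← hk]; exact (AddSubgroup.card_eq_card_quotient_mul_card_addSubgroup (V0 ρ)).symm
  have hpQ : p ∣ Nat.card (M ⧸ V0 ρ) := by
    have hdvd : Nat.card (M ⧸ V0 ρ) ∣ p ^ k := ⟨_, hcardQ.symm⟩
    obtain ⟨j, -, hj⟩ := (Nat.dvd_prime_pow hp).mp hdvd
    rcases Nat.eq_zero_or_pos j with hj0 | hj0
    · exfalso
      apply hV0top
      rw [← AddSubgroup.index_eq_one]
      rw [hj0, pow_zero] at hj
      exact hj
    · rw [hj]
      exact dvd_pow_self p hj0.ne'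
  let _inst : MulAction (Multiplicative F) (M ⧸ V0 ρ) := mulActQ ρ
  have hfix0 : (0 : M ⧸ V0 ρ) ∈ MulAction.fixedPoints (Multiplicative F) (M ⧸ V0 ρ) := by
    intro s
    show actQ ρ (Multiplicative.toAdd s) (0 : M ⧸ V0 ρ) = 0
    exact map_zero _
  obtain ⟨b, hb, hb0⟩ := (isPGroup_mulF (F := F) (p := p)).exists_fixed_point_of_prime_dvd_card_of_fixed_point
    (M ⧸ V0 ρ) hpQ hfix0
  obtain ⟨m, rfl⟩ := QuotientAddGroup.mk_surjective b
  have hmV0 : m ∉ V0 ρ := by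
    intro hm
    apply hb0
    exact ((QuotientAddGroup.eq_zero_iff m).mpr hm).symm
  have hAm : ∀ s : F, A ρ s m ∈ V0 ρ := by
    intro s
    have h1 : actQ ρ s (m : M ⧸ V0 ρ) = (m : M ⧸ V0 ρ) := hb (Multiplicative.ofAdd s)
    rw [actQ_mk, QuotientAddGroup.eq] at h1
    have h2 := (V0 ρ).neg_mem h1
    rw [A_apply]
    convert h2 using 1
    abel
  obtain ⟨v, hv, v₁, hv₁, hmv⟩ := hdec m
  refine ⟨v₁, hv₁, ?_, ?_⟩
  · rintro rfl
    apply hmV0
    rw [hmv, add_zero]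
    exact hv
  · intro s
    have h1 : A ρ s v₁ = A ρ s m - A ρ s v := by
      rw [hmv, map_add]; abel
    rw [h1, A_of_mem_V0 ρ hv, sub_zero]
    exact hAm s

end Cfsg.Agent.Lib.Helper10_Nat_BQ1
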