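import Mathlib
import Cfsg.Agent.Lib.Helper29_ODDefs
import Cfsg.Agent.Lib.Helper94_OrthRefl

set_option autoImplicit false

/-!
OD-BASIC (helper29's package market for row S5677): orthogonal projections onto the blocks of an
orthogonal decomposition, the two "perp" lemmas, membership in the decomposition stabiliser, and
Siegel elements of a block lie in `S ⊓ Ω`.
-/

namespace Cfsg.Agent.Lib.Helper74_OD_BASIC

open Module Cfsg.Agent.Lib.Helper94_Symp Cfsg.Agent.Lib.Helper94_OrthSmall
  Cfsg.Agent.Lib.Helper94_OrthSiegel Cfsg.Agent.Lib.Helper94_OrthSiegel2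
  Cfsg.Agent.Lib.Helper94_OrthPara Cfsg.Agent.Lib.Helper94_OrthVec
  Cfsg.Agent.Lib.Helper94_OrthNondeg Cfsg.Agent.Lib.Helper94_OrthRefl
  Cfsg.Agent.Lib.Helper29_ODDefs

variable {F V : Type*} [Field F] [AddCommGroup V] [Module F V] [Finite F] [FiniteDimensional F V]
  {Q : V → F} {B : LinearMap.BilinForm F V}

omit [Finite F] [FiniteDimensional F V] in
/-- A vector orthogonal to every block is orthogonal to everything. -/
theorem forall_B_eq_zero {t : ℕ} {D : Fin t → Submodule F V} (hsup : iSup D = ⊤) {y : V}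
    (h : ∀ j, Perp B D y j) (x : V) : B y x = 0 := by
  have hle : iSup D ≤ LinearMap.ker (B y) := by
    apply iSup_le
    intro j d hd
    rw [LinearMap.mem_ker]
    exact h j d hd
  have hx : x ∈ iSup D := by rw [hsup]; trivial
  exact LinearMap.mem_ker.mp (hle hx)

omit [Finite F] [FiniteDimensional F V] in
/-- `Q` is additive on finite families of pairwise orthogonal vectors. -/
theorem Q_sum_of_orth (hQs : ∀ (c : F) (v : V), Q (c • v) = c * c * Q v)
    (hQp : ∀ u v : V, Q (u + v) = Q u + Q v + B u v) {ι : Type*} [DecidableEq ι]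
    (s : Finset ι) (x : ι → V) (h : ∀ i ∈ s, ∀ j ∈ s, i ≠ j → B (x i) (x j) = 0) :
    Q (∑ i ∈ s, x i) = ∑ i ∈ s, Q (x i) := by
  induction s using Finset.induction_on with
  | empty => simpa using Q_zero Q hQs
  | insert a s ha ih =>
    have h1 : ∑ i ∈ s, B (x a) (x i) = 0 := by
      apply Finset.sum_eq_zero
      intro i hi
      exact h a (Finset.mem_insert_self a s) i (Finset.mem_insert_of_mem hi)
        (fun hai => ha (hai ▸ hi))
    have h2 := ih (fun i hi j hj hij =>
      h i (Finset.mem_insert_of_mem hi) j (Finset.mem_insert_of_mem hj) hij)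
    rw [Finset.sum_insert ha, Finset.sum_insert ha, hQp, h2, map_sum, h1, add_zero]

/-- OD-BASIC (a).  Orthogonal projections onto the blocks. -/
theorem exists_projs (hQs : ∀ (c : F) (v : V), Q (c • v) = c * c * Q v)
    (hQp : ∀ u v : V, Q (u + v) = Q u + Q v + B u v) (hN : B.Nondegenerate)
    {t k : ℕ} {D : Fin t → Submodule F V} (hD : ODec Q B k D) :
    ∃ π : Fin t → (V →ₗ[F] V), Projs Q B D π := by
  classical
  have hsymm := B_symm Q B hQp
  have hR : B.IsRefl := fun x y hxy => by rw [hsymm, hxy]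
  have hcompl : ∀ j, IsCompl (D j) (B.orthogonal (D j)) := by
    intro j
    refine (LinearMap.BilinForm.isCompl_orthogonal_iff_disjoint hR).mpr ?_
    rw [disjoint_iff, eq_bot_iff]
    intro z hz
    obtain ⟨hz1, hz2⟩ := Submodule.mem_inf.mp hz
    by_contra hz0
    obtain ⟨y, hy, hyz⟩ := hD.nd j z hz1 hz0
    exact hyz ((mem_orth B).mp hz2 y hy)
  let π : Fin t → (V →ₗ[F] V) := fun j =>
    (D j).subtype ∘ₗ Submodule.projectionOnto (D j) (B.orthogonal (D j)) (hcompl j)
  have hπ : ∀ j v, π j v =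
      ((Submodule.projectionOnto (D j) (B.orthogonal (D j)) (hcompl j) v : D j) : V) :=
    fun j v => rfl
  have hmem : ∀ j v, π j v ∈ D j := fun j v => by rw [hπ]; exact Submodule.coe_mem _
  have hzero_iff : ∀ j v, π j v = 0 ↔ v ∈ B.orthogonal (D j) := by
    intro j v
    rw [hπ, ← Submodule.projectionOnto_apply_eq_zero_iff (hcompl j)]
    exact ⟨fun h => Subtype.ext h, fun h => by rw [h]; rfl⟩
  have hid : ∀ j, ∀ v ∈ D j, π j v = v := by
    intro j v hv
    rw [hπ]
    have := Submodule.projectionOnto_apply_left (hcompl j) ⟨v, hv⟩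
    exact congrArg Subtype.val this
  have hperp_iff : ∀ y j, Perp B D y j ↔ π j y = 0 := by
    intro y j
    rw [hzero_iff, mem_orth]
    constructor
    · intro h n hn
      rw [hsymm]; exact h n hn
    · intro h d hd
      rw [hsymm]; exact h d hd
  have hperp : ∀ j v, Perp B D (v - π j v) j := by
    intro j v
    rw [hperp_iff, map_sub, hid j _ (hmem j v), sub_self]
  have hzero_on : ∀ i j, i ≠ j → ∀ v ∈ D i, π j v = 0 := by
    intro i j hij v hv
    rw [← hperp_iff]
    intro d hd
    exact hD.orth i j hij v hv d hd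
  have hB_left : ∀ j y, ∀ d ∈ D j, B y d = B (π j y) d := by
    intro j y d hd
    have := hperp j y d hd
    rw [map_sub, LinearMap.sub_apply, sub_eq_zero] at this
    exact this
  have hsum : ∀ v, ∑ j, π j v = v := by
    intro v
    have h0 : v - ∑ j, π j v = 0 := by
      apply hN.1
      apply forall_B_eq_zero hD.sup
      intro j d hd
      rw [map_sub, LinearMap.sub_apply, map_sum, LinearMap.sum_apply,
        Finset.sum_eq_single j, hB_left j v d hd, sub_self]
      · intro i _ hij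
        exact hD.orth i j hij _ (hmem i v) d hd
      · intro h; exact absurd (Finset.mem_univ j) h
    exact (sub_eq_zero.mp h0).symm
  have hQsum : ∀ v, Q v = ∑ j, Q (π j v) := by
    intro v
    conv_lhs => rw [← hsum v]
    apply Q_sum_of_orth hQs hQp
    intro i _ j _ hij
    exact hD.orth i j hij _ (hmem i v) _ (hmem j v)
  exact ⟨π, ⟨hmem, hperp, hid, hzero_on, hsum, hperp_iff, hB_left, hQsum⟩⟩

/-- OD-BASIC (b). -/
theorem eq_zero_of_perp (hQp : ∀ u v : V, Q (u + v) = Q u + Q v + B u v) (hN : B.Nondegenerate)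
    {t k : ℕ} {D : Fin t → Submodule F V} (hD : ODec Q B k D) {y : V}
    (h : ∀ j, Perp B D y j) : y = 0 :=
  hN.1 y (forall_B_eq_zero hD.sup h)

/-- OD-BASIC (c). -/
theorem mem_of_perp (hQs : ∀ (c : F) (v : V), Q (c • v) = c * c * Q v)
    (hQp : ∀ u v : V, Q (u + v) = Q u + Q v + B u v) (hN : B.Nondegenerate)
    {t k : ℕ} {D : Fin t → Submodule F V} (hD : ODec Q B k D) {y : V} {a : Fin t}
    (h : ∀ j, j ≠ a → Perp B D y j) : y ∈ D a := by
  obtain ⟨π, hπ⟩ := exists_projs hQs hQp hN hD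
  have h1 : ∑ j, π j y = π a y := by
    apply Finset.sum_eq_single a
    · intro j _ hja
      exact (hπ.perp_iff y j).mp (h j hja)
    · intro h; exact absurd (Finset.mem_univ a) h
  rw [← hπ.sum y, h1]
  exact hπ.mem a y

/-- OD-BASIC (d): an invertible map sending every block into itself lies in the decomposition
stabiliser. -/
theorem mem_dstab_of_forall {t k : ℕ} {D : Fin t → Submodule F V}
    (hfr : ∀ i, finrank F (D i) = k) {S : Subgroup (V ≃ₗ[F] V)} (hS : IsDStab D S)
    (g : V ≃ₗ[F] V) (hg : ∀ i, ∀ v ∈ D i, g v ∈ D i) : g ∈ S := by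
  rw [hS g]
  refine ⟨1, fun i => ?_⟩
  rw [Equiv.Perm.coe_one, id]
  apply Submodule.eq_of_le_of_finrank_eq
  · rintro _ ⟨v, hv, rfl⟩
    exact hg i v hv
  · exact LinearEquiv.finrank_map_eq g (D i)

/-- OD-BASIC (e): Siegel elements of a block lie in `S ⊓ Ω`. -/
theorem sieg_mem_H {t k : ℕ} {D : Fin t → Submodule F V} {S M : Subgroup (V ≃ₗ[F] V)}
    (hC : Ctx Q B k D S M) {j : Fin t} {u v : V} (hu : u ∈ D j) (hv : v ∈ D j) (hQu : Q u = 0)
    (huv : B u v = 0) : sieg Q B u v ∈ S ⊓ ⁅oG Q, oG Q⁆ := by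
  refine Subgroup.mem_inf.mpr ⟨?_, hC.hG2 u v hQu huv⟩
  apply mem_dstab_of_forall hC.hD.fr hC.hS
  intro i x hx
  rw [sieg_apply Q B hC.hQs hC.hQp hQu huv]
  by_cases hij : i = j
  · subst hij
    exact (D i).sub_mem ((D i).sub_mem ((D i).add_mem hx ((D i).smul_mem _ hv))
      ((D i).smul_mem _ hu)) ((D i).smul_mem _ hu)
  · rw [hC.hD.orth i j hij x hx u hu, hC.hD.orth i j hij x hx v hv]
    simpa using hx

end Cfsg.Agent.Lib.Helper74_OD_BASIC
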