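import Mathlib
import Cfsg.Agent.Lib.Helper29_ODDefs

set_option autoImplicit false

/-!
OD2 (helper38, rows S5692 / S5694): characteristic-free versions of the vocabulary of
`Helper29_ODDefs` for the maximality of the stabiliser of an orthogonal decomposition into isometric
nondegenerate blocks inside `Ω = [O, O]`: the context `Ctx2` (no hypothesis on the characteristic,
`2 ≤ t`), and the irreducibility statement `IrrK` with a dimension parameter.
-/

namespace Cfsg.Agent.Lib.Helper38_OD2Defs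

open Module Cfsg.Agent.Lib.Helper94_Symp Cfsg.Agent.Lib.Helper94_OrthSmall
  Cfsg.Agent.Lib.Helper94_OrthSiegel Cfsg.Agent.Lib.Helper94_OrthNondeg
  Cfsg.Agent.Lib.Helper29_ODDefs

variable {F V : Type*} [Field F] [AddCommGroup V] [Module F V]

/-- Irreducibility of the Siegel elements of a nondegenerate subspace of dimension at least `k₀`,
in the form used for invariant subspaces of the ambient space (`Irr3` is `IrrK 3`). -/
def IrrK (Q : V → F) (B : LinearMap.BilinForm F V) (k₀ : ℕ) : Prop :=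
  ∀ (A X : Submodule F V), (∀ a ∈ A, a ≠ 0 → ∃ x ∈ A, B x a ≠ 0) → k₀ ≤ finrank F A →
    (∀ u ∈ A, ∀ v ∈ A, Q u = 0 → B u v = 0 → ∀ x ∈ X, sieg Q B u v x ∈ X) →
    ∀ a a' : V, a + a' ∈ X → a ∈ A → a ≠ 0 → (∀ y ∈ A, B y a' = 0) → A ≤ X

theorem irrK_of_irr3 {Q : V → F} {B : LinearMap.BilinForm F V} (h : Irr3 Q B) : IrrK Q B 3 := h

theorem IrrK.mono {Q : V → F} {B : LinearMap.BilinForm F V} {k₀ k₁ : ℕ} (h : IrrK Q B k₀)
    (hk : k₀ ≤ k₁) : IrrK Q B k₁ :=
  fun A X hA hfr hinv a a' hx ha ha0 ha' => h A X hA (hk.trans hfr) hinv a a' hx ha ha0 ha'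

/-- The common hypotheses, without any assumption on the characteristic: `M` is a group of
isometries containing the stabiliser `S ⊓ Ω` of the decomposition `D` in `Ω = [O, O]`. -/
structure Ctx2 (Q : V → F) (B : LinearMap.BilinForm F V) {t : ℕ} (k : ℕ)
    (D : Fin t → Submodule F V) (S M : Subgroup (V ≃ₗ[F] V)) : Prop where
  hQs : ∀ (c : F) (v : V), Q (c • v) = c * c * Q v
  hQp : ∀ u v : V, Q (u + v) = Q u + Q v + B u v
  hN : B.Nondegenerate
  hD : ODec Q B k D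
  ht : 2 ≤ t
  hk : 3 ≤ k
  hS : IsDStab D S
  hG2 : ∀ u z, Q u = 0 → B u z = 0 → sieg Q B u z ∈ ⁅oG Q, oG Q⁆
  hHM : S ⊓ ⁅oG Q, oG Q⁆ ≤ M
  hMO : M ≤ oG Q

theorem Ctx2.of_ctx {Q : V → F} {B : LinearMap.BilinForm F V} {t k : ℕ}
    {D : Fin t → Submodule F V} {S M : Subgroup (V ≃ₗ[F] V)} (h : Ctx Q B k D S M) :
    Ctx2 Q B k D S M :=
  ⟨h.hQs, h.hQp, h.hN, h.hD, by have := h.ht; omega, h.hk, h.hS, h.hG2, h.hHM, h.hMO⟩

end Cfsg.Agent.Lib.Helper38_OD2Defs
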