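import Mathlib
import Cfsg.Agent.Lib.Helper29_ODDefs
import Cfsg.Agent.Lib.Helper94_OrthRefl
import Cfsg.Agent.Lib.Helper94_Q2Defs
import Cfsg.Agent.Lib.Helper38_OD2Defs

set_option autoImplicit false

/-!
Vocabulary for the "dichotomy" proof of the maximality of the stabiliser of an orthogonal
decomposition into `t ≥ 3` isometric nondegenerate blocks of dimension `k ≥ 4` inside
`Ω = [O, O]`, in every characteristic (rows S5692 / S5694), in the abstract setting of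
`Helper29_ODDefs`.  (helper94)
-/

namespace Cfsg.Agent.Lib.Helper94_OD3Defs

open Module Cfsg.Agent.Lib.Helper94_Symp Cfsg.Agent.Lib.Helper94_OrthSmall
  Cfsg.Agent.Lib.Helper94_OrthSiegel Cfsg.Agent.Lib.Helper94_OrthNondeg
  Cfsg.Agent.Lib.Helper29_ODDefs Cfsg.Agent.Lib.Helper94_Q2Defs Cfsg.Agent.Lib.Helper38_OD2Defs

variable {F V : Type*} [Field F] [AddCommGroup V] [Module F V]

/-- `x` is a nonsingular vector of one of the blocks. -/
def IsBlN (Q : V → F) {t : ℕ} (D : Fin t → Submodule F V) (x : V) : Prop :=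
  Q x ≠ 0 ∧ ∃ l, x ∈ D l

/-- The reflection in `x` normalises `M`. -/
def NrmA (Q : V → F) (B : LinearMap.BilinForm F V)
    (hQs : ∀ (c : F) (v : V), Q (c • v) = c * c * Q v)
    (hQp : ∀ u v : V, Q (u + v) = Q u + Q v + B u v)
    (M : Subgroup (V ≃ₗ[F] V)) (x : V) : Prop :=
  ∀ hx : Q x ≠ 0, ∀ g ∈ M, refl Q B hQs hQp hx * g * refl Q B hQs hQp hx ∈ M

/-- (C∗) at `x`: the stabiliser in `M` of the point `⟨x⟩` lies in `S`. -/
def CStarA (S M : Subgroup (V ≃ₗ[F] V)) (x : V) : Prop :=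
  ∀ g ∈ M, (∃ c : F, g x = c • x) → g ∈ S

/-- Irreducibility of the Siegel elements of each block, in the form used for invariant subspaces
of the ambient space. -/
def IrrBlocks (Q : V → F) (B : LinearMap.BilinForm F V) {t : ℕ} (D : Fin t → Submodule F V) :
    Prop :=
  ∀ i, ∀ X : Submodule F V,
    (∀ u ∈ D i, ∀ v ∈ D i, Q u = 0 → B u v = 0 → ∀ x ∈ X, sieg Q B u v x ∈ X) →
    ∀ a a' : V, a + a' ∈ X → a ∈ D i → a ≠ 0 → (∀ y ∈ D i, B y a' = 0) → D i ≤ X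

/-- `IrrBlocks` from the irreducibility statement `IrrK` of helper38. -/
theorem IrrBlocks.of_irrK {Q : V → F} {B : LinearMap.BilinForm F V} {t k k₀ : ℕ}
    {D : Fin t → Submodule F V} (hD : ODec Q B k D) (h : IrrK Q B k₀) (hk : k₀ ≤ k) :
    IrrBlocks Q B D :=
  fun i X hX a a' hx ha ha0 ha' =>
    h (D i) X (hD.nd i) (by rw [hD.fr i]; exact hk) hX a a' hx ha ha0 ha'

/-- Case A of the OD scheme, as a hypothesis: an overgroup of `S ⊓ Ω` in `O` whose Siegel groups at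
singular block vectors leave the blocks contains `Ω`. -/
def CaseAHyp (Q : V → F) (B : LinearMap.BilinForm F V) {t : ℕ} (D : Fin t → Submodule F V)
    (S : Subgroup (V ≃ₗ[F] V)) : Prop :=
  ∀ L : Subgroup (V ≃ₗ[F] V), S ⊓ ⁅oG Q, oG Q⁆ ≤ L → L ≤ oG Q → ¬ CaseB Q B D L →
    ⁅oG Q, oG Q⁆ ≤ L

/-- No block is an `O_4^+(2)`: over the field with two elements, a block of dimension four has no
totally singular plane. -/
def NotO4p2 (Q : V → F) (B : LinearMap.BilinForm F V) {t : ℕ} (k : ℕ)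
    (D : Fin t → Submodule F V) : Prop :=
  Nat.card F = 2 → k = 4 → ∀ i, ∀ u ∈ D i, ∀ v ∈ D i, Q u = 0 → Q v = 0 → B u v = 0 →
    u = 0 ∨ v = 0 ∨ u = v

/-- The common hypotheses: `M` is a minimal overgroup of `H = S ⊓ Ω` inside `Ω`. -/
structure Ctx3 (Q : V → F) (B : LinearMap.BilinForm F V) {t : ℕ} (k : ℕ)
    (D : Fin t → Submodule F V) (S M : Subgroup (V ≃ₗ[F] V)) : Prop where
  hQs : ∀ (c : F) (v : V), Q (c • v) = c * c * Q v
  hQp : ∀ u v : V, Q (u + v) = Q u + Q v + B u v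
  hN : B.Nondegenerate
  hD : ODec Q B k D
  hk : 4 ≤ k
  ht : 3 ≤ t
  hS : IsDStab D S
  hG2 : ∀ u z, Q u = 0 → B u z = 0 → sieg Q B u z ∈ ⁅oG Q, oG Q⁆
  hex : NotO4p2 Q B k D
  hmin : MinOver (S ⊓ ⁅oG Q, oG Q⁆) M
  hMO : M ≤ ⁅oG Q, oG Q⁆

end Cfsg.Agent.Lib.Helper94_OD3Defs
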