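import Mathlib
import Cfsg.Agent.Lib.Helper94_OD3Defs
import Cfsg.Agent.Lib.Helper74_OD_BASIC

set_option autoImplicit false
set_option linter.unusedSectionVars false
set_option linter.unusedVariables false

/-!
# OD3-NRMH (helper31, for helper94 / S5692 + S5694)

The reflections in the nonsingular vectors of the blocks normalise `H = S ⊓ Ω`.
-/

namespace Cfsg.Agent.Lib.Helper31_OD3_NRMH

open Module Cfsg.Agent.Lib.Helper94_Symp Cfsg.Agent.Lib.Helper94_OrthSmall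
  Cfsg.Agent.Lib.Helper94_OrthSiegel Cfsg.Agent.Lib.Helper94_OrthNondeg
  Cfsg.Agent.Lib.Helper29_ODDefs Cfsg.Agent.Lib.Helper94_Q2Defs Cfsg.Agent.Lib.Helper94_OD3Defs
open scoped commutatorElement

variable {F V : Type*} [Field F] [AddCommGroup V] [Module F V] [Finite F] [FiniteDimensional F V]
  {Q : V → F} {B : LinearMap.BilinForm F V} {t k : ℕ} {D : Fin t → Submodule F V}
  {S M L : Subgroup (V ≃ₗ[F] V)}

/-- the commutator subgroup of a subgroup `O` is stable under conjugation by the elements of `O` -/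
theorem conj_mem_commutator {G : Type*} [Group G] (O : Subgroup G) {g h : G} (hg : g ∈ O)
    (hh : h ∈ ⁅O, O⁆) : g * h * g⁻¹ ∈ ⁅O, O⁆ := by
  have hle : ⁅O, O⁆ ≤ O := by
    rw [Subgroup.commutator_le]
    intro g₁ h₁ g₂ h₂
    exact O.mul_mem (O.mul_mem (O.mul_mem h₁ h₂) (O.inv_mem h₁)) (O.inv_mem h₂)
  have h1 : ⁅g, h⁆ ∈ ⁅O, O⁆ := Subgroup.commutator_mem_commutator hg (hle hh)
  have e : g * h * g⁻¹ = ⁅g, h⁆ * h := by
    rw [commutatorElement_def]
    group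
  rw [e]
  exact Subgroup.mul_mem _ h1 hh

/-- a reflection in a nonsingular vector of a block lies in the decomposition stabiliser
(local copy of OD3-BLREFL) -/
theorem blrefl (hQs : ∀ (c : F) (v : V), Q (c • v) = c * c * Q v)
    (hQp : ∀ u v : V, Q (u + v) = Q u + Q v + B u v) (hD : ODec Q B k D) (hS : IsDStab D S)
    {x : V} (hx : IsBlN Q D x) : refl Q B hQs hQp hx.1 ∈ S := by
  obtain ⟨l, hl⟩ := hx.2
  apply Cfsg.Agent.Lib.Helper74_OD_BASIC.mem_dstab_of_forall hD.fr hS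
  intro i v hv
  rw [refl_apply]
  by_cases hil : i = l
  · subst hil
    exact (D i).sub_mem hv ((D i).smul_mem _ hl)
  · rw [hD.orth i l hil v hv x hl, mul_zero, zero_smul, sub_zero]
    exact hv

/-- **OD3-NRMH** -/
theorem NRMH (hQs : ∀ (c : F) (v : V), Q (c • v) = c * c * Q v)
    (hQp : ∀ u v : V, Q (u + v) = Q u + Q v + B u v) (hD : ODec Q B k D) (hS : IsDStab D S)
    {x : V} (hx : IsBlN Q D x) {h : V ≃ₗ[F] V} (hh : h ∈ S ⊓ ⁅oG Q, oG Q⁆) :
    refl Q B hQs hQp hx.1 * h * refl Q B hQs hQp hx.1 ∈ S ⊓ ⁅oG Q, oG Q⁆ := by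
  have hrS : refl Q B hQs hQp hx.1 ∈ S := blrefl hQs hQp hD hS hx
  have hrO : refl Q B hQs hQp hx.1 ∈ oG Q := refl_mem Q B hQs hQp hx.1
  refine ⟨S.mul_mem (S.mul_mem hrS hh.1) hrS, ?_⟩
  have h1 := conj_mem_commutator (oG Q) hrO hh.2
  rw [refl_inv] at h1
  exact h1

end Cfsg.Agent.Lib.Helper31_OD3_NRMH
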