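import Mathlib
import Cfsg.Agent.Lib.Helper94_OD3Defs
import Cfsg.Agent.Lib.Helper31_OD3_NRMH

set_option autoImplicit false
set_option linter.unusedSectionVars false
set_option linter.unusedVariables false

/-!
# OD3 market (architect helper94), package OD3-DICH (helper10; twin of `Helper42_Q2_DICH`)

`DICH_of`: the dichotomy with the statement of NRMH as a hypothesis; `DICH`: verbatim.
-/

namespace Cfsg.Agent.Lib.Helper10_OD3_DICH

open Module Cfsg.Agent.Lib.Helper94_Symp Cfsg.Agent.Lib.Helper94_OrthSmall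
  Cfsg.Agent.Lib.Helper94_OrthSiegel Cfsg.Agent.Lib.Helper94_OrthNondeg
  Cfsg.Agent.Lib.Helper29_ODDefs Cfsg.Agent.Lib.Helper94_Q2Defs Cfsg.Agent.Lib.Helper94_OD3Defs

variable {F V : Type*} [Field F] [AddCommGroup V] [Module F V] [Finite F] [FiniteDimensional F V]
  {Q : V → F} {B : LinearMap.BilinForm F V} {t k : ℕ} {D : Fin t → Submodule F V}
  {S M L : Subgroup (V ≃ₗ[F] V)}

/-- the reflection in `c • x` is the reflection in `x` -/
theorem refl_smul (hQs : ∀ (c : F) (v : V), Q (c • v) = c * c * Q v)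
    (hQp : ∀ u v : V, Q (u + v) = Q u + Q v + B u v) {x : V} (hx : Q x ≠ 0) {c : F} (hc : c ≠ 0)
    (hcx : Q (c • x) ≠ 0) : refl Q B hQs hQp hcx = refl Q B hQs hQp hx := by
  apply LinearEquiv.ext
  intro v
  rw [refl_apply, refl_apply, hQs, map_smul, smul_eq_mul, smul_smul]
  congr 2
  field_simp

/-- the reflection only depends on the vector -/
theorem refl_congr (hQs : ∀ (c : F) (v : V), Q (c • v) = c * c * Q v)
    (hQp : ∀ u v : V, Q (u + v) = Q u + Q v + B u v) {x y : V} (hx : Q x ≠ 0) (hy : Q y ≠ 0)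
    (h : y = x) : refl Q B hQs hQp hy = refl Q B hQs hQp hx := by
  subst h
  rfl

/-- the reflection is an involution -/
theorem refl_mul_self (hQs : ∀ (c : F) (v : V), Q (c • v) = c * c * Q v)
    (hQp : ∀ u v : V, Q (u + v) = Q u + Q v + B u v) {x : V} (hx : Q x ≠ 0) :
    refl Q B hQs hQp hx * refl Q B hQs hQp hx = 1 := by
  have h := refl_inv Q B hQs hQp hx
  calc refl Q B hQs hQp hx * refl Q B hQs hQp hx
      = (refl Q B hQs hQp hx)⁻¹ * refl Q B hQs hQp hx := by rw [h]
    _ = 1 := inv_mul_cancel _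

/-- The dichotomy, from the statement of NRMH. -/
theorem DICH_of (hC : Ctx3 Q B k D S M) {x : V} (hx : IsBlN Q D x)
    (hNRMH : ∀ h ∈ S ⊓ ⁅oG Q, oG Q⁆,
      refl Q B hC.hQs hC.hQp hx.1 * h * refl Q B hC.hQs hC.hQp hx.1 ∈ S ⊓ ⁅oG Q, oG Q⁆) :
    NrmA Q B hC.hQs hC.hQp M x ∨ CStarA S M x := by
  have hQs := hC.hQs
  have hQp := hC.hQp
  have hx' : Q x ≠ 0 := hx.1
  set r := refl Q B hQs hQp hx' with hr
  have hrr : r * r = 1 := refl_mul_self hQs hQp hx'
  have hrinv : r⁻¹ = r := refl_inv Q B hQs hQp hx'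
  have hMO : M ≤ oG Q := hC.hMO.trans (Subgroup.commutator_le_self _)
  set M' : Subgroup (V ≃ₗ[F] V) := M.map (MulAut.conj r).toMonoidHom with hM'
  have hmemM' : ∀ g, g ∈ M' ↔ r * g * r ∈ M := by
    intro g
    constructor
    · rintro ⟨m, hm, rfl⟩
      have h1 : r * ((MulAut.conj r).toMonoidHom m) * r = (r * r) * m * (r⁻¹ * r) := by
        show r * (r * m * r⁻¹) * r = (r * r) * m * (r⁻¹ * r)
        group
      rw [h1, hrr, inv_mul_cancel, one_mul, mul_one]
      exact hm
    · intro h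
      refine ⟨r * g * r, h, ?_⟩
      show r * (r * g * r) * r⁻¹ = g
      have h1 : r * (r * g * r) * r⁻¹ = (r * r) * g * (r * r⁻¹) := by group
      rw [h1, hrr, mul_inv_cancel, one_mul, mul_one]
  have hHM' : S ⊓ ⁅oG Q, oG Q⁆ ≤ M' := by
    intro h hh
    rw [hmemM']
    exact hC.hmin.le (hNRMH h hh)
  rcases hC.hmin.min (M ⊓ M') (le_inf hC.hmin.le hHM') inf_le_left with hK | hK
  · -- `M ⊓ M' = H`: (C∗)
    right
    intro g hg hgx
    obtain ⟨c, hgc⟩ := hgx
    have hx0 : x ≠ 0 := by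
      rintro rfl
      apply hx'
      have := hQs 0 0
      rw [zero_smul, zero_mul, zero_mul] at this
      exact this
    have hc : c ≠ 0 := by
      rintro rfl
      rw [zero_smul] at hgc
      have : g x = g 0 := by rw [hgc, map_zero]
      exact hx0 (g.injective this)
    have hgO : g ∈ oG Q := hMO hg
    have hconj := conj_refl Q B hQs hQp hgO hx'
    have hgx' : Q (g x) ≠ 0 := by rw [hgO x]; exact hx'
    have hcx : Q (c • x) ≠ 0 := by rw [← hgc]; exact hgx'
    have h2 : refl Q B hQs hQp hgx' = r :=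
      (refl_congr hQs hQp hcx hgx' hgc).trans (refl_smul hQs hQp hx' hc hcx)
    have h3 : g * r * g⁻¹ = r := hconj.trans h2
    have h4 : r * g * r = g := by
      have : g * r = r * g := by
        calc g * r = g * r * g⁻¹ * g := by group
          _ = r * g := by rw [h3]
      calc r * g * r = r * (g * r) := by group
        _ = r * (r * g) := by rw [this]
        _ = (r * r) * g := by group
        _ = g := by rw [hrr, one_mul]
    have h5 : g ∈ M' := by
      rw [hmemM', h4]
      exact hg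
    have h6 : g ∈ M ⊓ M' := ⟨hg, h5⟩
    rw [hK] at h6
    exact h6.1
  · -- `M ⊓ M' = M`: the reflection normalises `M`
    left
    intro hx'' g hg
    have h1 : g ∈ M ⊓ M' := by rw [hK]; exact hg
    exact (hmemM' g).mp h1.2

/-- **OD3-DICH** [M] twin: Helper42_Q2_DICH (M ∩ r M r is H or M; finiteness of V ≃ₗ V from Finite F + FiniteDimensional). -/
theorem DICH (hC : Ctx3 Q B k D S M) {x : V} (hx : IsBlN Q D x) :
    NrmA Q B hC.hQs hC.hQp M x ∨ CStarA S M x :=
  DICH_of hC hx (fun _ hh =>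
    Cfsg.Agent.Lib.Helper31_OD3_NRMH.NRMH hC.hQs hC.hQp hC.hD hC.hS hx hh)

end Cfsg.Agent.Lib.Helper10_OD3_DICH
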