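import Mathlib
import Cfsg.Agent.Lib.Helper94_OD3Defs

set_option autoImplicit false
set_option linter.unusedSectionVars false
set_option linter.unusedVariables false

/-! OD3-NOTS (helper94's OD3 market): a minimal overgroup of `H = S ⊓ Ω` inside `Ω` is not
contained in `S`.  (helper10; twin of `Helper94_Q2_NOTS`) -/

namespace Cfsg.Agent.Lib.Helper10_OD3_NOTS

open Module Cfsg.Agent.Lib.Helper94_Symp Cfsg.Agent.Lib.Helper94_OrthSmall
  Cfsg.Agent.Lib.Helper94_OrthSiegel Cfsg.Agent.Lib.Helper94_OrthNondeg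
  Cfsg.Agent.Lib.Helper29_ODDefs Cfsg.Agent.Lib.Helper94_Q2Defs Cfsg.Agent.Lib.Helper94_OD3Defs

variable {F V : Type*} [Field F] [AddCommGroup V] [Module F V] [Finite F] [FiniteDimensional F V]
  {Q : V → F} {B : LinearMap.BilinForm F V} {t k : ℕ} {D : Fin t → Submodule F V}
  {S M L : Subgroup (V ≃ₗ[F] V)}

/-- **OD3-NOTS** [S] twin: Helper94_Q2_NOTS. -/
theorem NOTS (hC : Ctx3 Q B k D S M) : ∃ g ∈ M, g ∉ S := by
  by_contra h
  push Not at h
  apply hC.hmin.ne
  exact le_antisymm (fun g hg => ⟨h g hg, hC.hMO hg⟩) hC.hmin.le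

end Cfsg.Agent.Lib.Helper10_OD3_NOTS
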