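import Mathlib
import Cfsg.Agent.Lib.Helper29_ODDefs
import Cfsg.Agent.Lib.Helper94_OrthRefl

/-!
# OD-IRR3 (helper10, for helper29 / S5677)

The Siegel elements of a nondegenerate subspace of dimension at least three (odd characteristic)
act irreducibly on it, in the form `Irr3` of `Helper29_ODDefs`.
-/

set_option autoImplicit false

namespace Cfsg.Agent.Lib.Helper10_OD_IRR3

open Module Cfsg.Agent.Lib.Helper94_Symp Cfsg.Agent.Lib.Helper94_OrthSmall
  Cfsg.Agent.Lib.Helper94_OrthSiegel Cfsg.Agent.Lib.Helper94_OrthSiegel2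
  Cfsg.Agent.Lib.Helper94_OrthPara Cfsg.Agent.Lib.Helper94_OrthVec
  Cfsg.Agent.Lib.Helper94_OrthNondeg Cfsg.Agent.Lib.Helper94_OrthRefl
  Cfsg.Agent.Lib.Helper29_ODDefs

variable {F V : Type*} [Field F] [AddCommGroup V] [Module F V] [Finite F] [FiniteDimensional F V]
  {Q : V → F} {B : LinearMap.BilinForm F V}

omit [Finite F] in
/-- In a nondegenerate subspace of dimension at least three, the orthogonal of a nonzero vector
contains a nonsingular vector (there is no totally singular plane `u^⊥`). -/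
theorem exists_nonsing_orth_in (hQp : ∀ u v : V, Q (u + v) = Q u + Q v + B u v)
    (A : Submodule F V) (hA : ∀ a ∈ A, a ≠ 0 → ∃ x ∈ A, B x a ≠ 0) (h3 : 3 ≤ finrank F A)
    {u : V} (hu : u ∈ A) (hu0 : u ≠ 0) : ∃ v ∈ A, B u v = 0 ∧ Q v ≠ 0 := by
  have hsymm := B_symm Q B hQp
  by_contra hcon
  push Not at hcon
  obtain ⟨x, hxA, hxu⟩ := hA u hu hu0
  have hux : B u x ≠ 0 := by rw [hsymm]; exact hxu
  have h1 := finrank_le_inf_ker_add_one A (B.flip u)
  have h2 := finrank_le_inf_ker_add_one (A ⊓ LinearMap.ker (B.flip u)) (B.flip x)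
  have hpos : 0 < finrank F
      ↥(A ⊓ LinearMap.ker (B.flip u) ⊓ LinearMap.ker (B.flip x) : Submodule F V) := by omega
  obtain ⟨⟨w, hw⟩, hw0⟩ := finrank_pos_iff_exists_ne_zero.mp hpos
  have hw0' : w ≠ 0 := fun h => hw0 (Subtype.ext h)
  have hwA : w ∈ A := hw.1.1
  have hwu : B w u = 0 := mem_ker_flip.mp hw.1.2
  have hwx : B w x = 0 := mem_ker_flip.mp hw.2
  have hK : ∀ p ∈ A, B u p = 0 → B p w = 0 := by
    intro p hp hup
    have e1 := hcon p hp hup
    have e2 := hcon w hwA (by rw [hsymm, hwu])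
    have e3 := hcon (p + w) (A.add_mem hp hwA) (by rw [map_add, hup, hsymm u w, hwu, add_zero])
    rw [B_eq Q B hQp, e1, e2, e3]; ring
  obtain ⟨y, hyA, hyw⟩ := hA w hwA hw0'
  apply hyw
  have hy' : y - (B u y / B u x) • x ∈ A := A.sub_mem hyA (A.smul_mem _ hxA)
  have h4 := hK _ hy' (by rw [map_sub, map_smul, smul_eq_mul, div_mul_cancel₀ _ hux, sub_self])
  rw [map_sub, LinearMap.sub_apply, map_smul, LinearMap.smul_apply, hsymm x w, hwx, smul_zero,
    sub_zero] at h4
  exact h4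

/-- OD-IRR3. -/
theorem irr3 (hQs : ∀ (c : F) (v : V), Q (c • v) = c * c * Q v)
    (hQp : ∀ u v : V, Q (u + v) = Q u + Q v + B u v) (h2 : (2 : F) ≠ 0) : Irr3 Q B := by
  intro A X hA h3 hX a a' hx ha ha0 ha'
  have hsymm := B_symm Q B hQp
  have hsapp := @sieg_apply F V _ _ _ Q B hQs hQp
  have hQneg : ∀ v : V, Q (-v) = Q v := by
    intro v
    have := hQs (-1) v
    rwa [neg_one_smul, neg_one_mul, neg_neg, one_mul] at this
  -- Step 2: a singular vector of `A` not orthogonal to a vector of `X ⊓ A` lies in `X`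
  have key : ∀ b ∈ X, b ∈ A → ∀ u ∈ A, Q u = 0 → B b u ≠ 0 → u ∈ X := by
    intro b hbX hbA u huA hQu hbu
    have hu0 : u ≠ 0 := by
      rintro rfl
      exact hbu (by rw [map_zero])
    obtain ⟨v, hvA, huv, hQv⟩ := exists_nonsing_orth_in hQp A hA h3 huA hu0
    have huv' : B u (-v) = 0 := by rw [map_neg, huv, neg_zero]
    have h1 := hX u huA v hvA hQu huv b hbX
    have h1' := hX u huA (-v) (A.neg_mem hvA) hQu huv' b hbX
    rw [hsapp hQu huv] at h1
    rw [hsapp hQu huv', hQneg, map_neg] at h1'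
    have h4 := X.sub_mem (X.add_mem h1 h1') (X.smul_mem (2 : F) hbX)
    have e : b + B b u • v - B b v • u - (Q v * B b u) • u +
        (b + B b u • -v - -(B b v) • u - (Q v * B b u) • u) - (2 : F) • b =
        (-(2 * (Q v * B b u))) • u := by module
    rw [e] at h4
    have hne : -(2 * (Q v * B b u)) ≠ 0 := neg_ne_zero.mpr (mul_ne_zero h2 (mul_ne_zero hQv hbu))
    have h5 := X.smul_mem (-(2 * (Q v * B b u)))⁻¹ h4
    rwa [smul_smul, inv_mul_cancel₀ hne, one_smul] at h5
  -- Step 1: `X ⊓ A` contains a nonzero vector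
  obtain ⟨b, hbX, hbA, hb0⟩ : ∃ b ∈ X, b ∈ A ∧ b ≠ 0 := by
    obtain ⟨u, huA, hQu, hua⟩ := exists_sing_not_orth Q B hQs hQp A hA h3 (hA a ha ha0)
    have hu0 : u ≠ 0 := by
      rintro rfl
      exact hua (by rw [map_zero, LinearMap.zero_apply])
    obtain ⟨v, hvA, huv, hQv⟩ := exists_nonsing_orth_in hQp A hA h3 huA hu0
    have h1 := hX u huA v hvA hQu huv _ hx
    rw [hsapp hQu huv] at h1
    have e1 : B (a + a') u = B u a := by
      rw [map_add, LinearMap.add_apply, hsymm a' u, ha' u huA, add_zero, hsymm]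
    have e2 : B (a + a') v = B a v := by
      rw [map_add, LinearMap.add_apply, hsymm a' v, ha' v hvA, add_zero]
    rw [e1, e2] at h1
    have h4 := X.sub_mem h1 hx
    have e3 : a + a' + B u a • v - B a v • u - (Q v * B u a) • u - (a + a') =
        B u a • v + (-(B a v + Q v * B u a)) • u := by module
    rw [e3] at h4
    refine ⟨_, h4, A.add_mem (A.smul_mem _ hvA) (A.smul_mem _ huA), ?_⟩
    intro h0
    have hQ0 := congrArg Q h0
    rw [Q_add_smul Q B hQs hQp, hQu, hQs, map_smul, LinearMap.smul_apply, hsymm v u, huv,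
      Q_zero Q hQs] at hQ0
    simp only [mul_zero, smul_zero, add_zero] at hQ0
    exact mul_ne_zero (mul_ne_zero hua hua) hQv hQ0
  -- Step 3: `X ⊓ A` contains a nonzero singular vector
  obtain ⟨s, hsA, hQs', hsb⟩ := exists_sing_not_orth Q B hQs hQp A hA h3 (hA b hbA hb0)
  have hs0 : s ≠ 0 := by
    rintro rfl
    exact hsb (by rw [map_zero, LinearMap.zero_apply])
  have hsX : s ∈ X := key b hbX hbA s hsA hQs' (by rw [hsymm]; exact hsb)
  obtain ⟨s', hs'A, hQs'', hs's⟩ := exists_sing_not_orth Q B hQs hQp A hA h3 (hA s hsA hs0)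
  have hs'X : s' ∈ X := key s hsX hsA s' hs'A hQs'' (by rw [hsymm]; exact hs's)
  -- Step 4: all singular vectors of `A` lie in `X`
  have hall : ∀ t ∈ A, Q t = 0 → t ∈ X := by
    intro t htA hQt
    by_cases h1 : B s t = 0
    · by_cases h1' : B s' t = 0
      · have hst : Q (s + t) = 0 := by rw [hQp, hQs', hQt, h1]; ring
        have h4 : s + t ∈ X := by
          apply key s' hs'X hs'A (s + t) (A.add_mem hsA htA) hst
          rw [map_add, h1', add_zero]
          exact hs's
        have := X.sub_mem h4 hsX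
        rwa [add_sub_cancel_left] at this
      · exact key s' hs'X hs'A t htA hQt h1'
    · exact key s hsX hsA t htA hQt h1
  -- Step c
  intro a1 ha1
  by_cases ha10 : a1 = 0
  · rw [ha10]
    exact X.zero_mem
  obtain ⟨s1, hs1A, hQs1, hs1a⟩ := exists_sing_not_orth Q B hQs hQp A hA h3 (hA a1 ha1 ha10)
  have ha1s : B a1 s1 ≠ 0 := by rw [hsymm]; exact hs1a
  have h1 := sing_adjust Q B hQs hQp hQs1 ha1s
  have h4 := hall _ (A.add_mem ha1 (A.smul_mem _ hs1A)) h1
  have h5 := hall s1 hs1A hQs1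
  have h6 := X.sub_mem h4 (X.smul_mem (-(Q a1 / B a1 s1)) h5)
  rwa [add_sub_cancel_right] at h6

end Cfsg.Agent.Lib.Helper10_OD_IRR3
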