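import Mathlib
import Cfsg.Agent.Lib.Helper29_ODDefs
import Cfsg.Agent.Lib.Helper94_OrthRefl
import Cfsg.Agent.Lib.Helper10_OD_IRR3

/-!
# OD-PAIR (helper10, for helper29 / S5677)

Root pairs `(y, n)` for `k = 3`: existence from `StarA`, and the change `n ↦ n - c • y`.
-/

set_option autoImplicit false

namespace Cfsg.Agent.Lib.Helper10_OD_PAIR

open Module Cfsg.Agent.Lib.Helper94_Symp Cfsg.Agent.Lib.Helper94_OrthSmall
  Cfsg.Agent.Lib.Helper94_OrthSiegel Cfsg.Agent.Lib.Helper94_OrthSiegel2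
  Cfsg.Agent.Lib.Helper94_OrthPara Cfsg.Agent.Lib.Helper94_OrthVec
  Cfsg.Agent.Lib.Helper94_OrthNondeg Cfsg.Agent.Lib.Helper94_OrthRefl
  Cfsg.Agent.Lib.Helper29_ODDefs

variable {F V : Type*} [Field F] [AddCommGroup V] [Module F V] [Finite F] [FiniteDimensional F V]
  {Q : V → F} {B : LinearMap.BilinForm F V}

omit [Finite F] in
/-- In a nondegenerate 3-space `U`, the orthogonal in `U` of a nonzero singular `y` is spanned by `y`
and any nonsingular `n ∈ U ⊓ y^⊥`. -/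
theorem mem_span_pair_of_orth (hQs : ∀ (c : F) (v : V), Q (c • v) = c * c * Q v)
    (hQp : ∀ u v : V, Q (u + v) = Q u + Q v + B u v)
    (U : Submodule F V) (hU : ∀ a ∈ U, a ≠ 0 → ∃ x ∈ U, B x a ≠ 0) (h3 : finrank F U = 3)
    {y n : V} (hy : y ∈ U) (hy0 : y ≠ 0) (hQy : Q y = 0) (hn : n ∈ U) (hyn : B y n = 0)
    (hQn : Q n ≠ 0) {z : V} (hz : z ∈ U) (hyz : B y z = 0) : ∃ a b : F, z = a • y + b • n := by
  have hsymm := B_symm Q B hQp
  have hyy : B y y = 0 := by rw [B_self Q B hQs hQp, hQy, mul_zero]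
  -- `U' = U ⊓ y^⊥` has dimension two
  obtain ⟨x, hxU, hxy⟩ := hU y hy hy0
  set U' : Submodule F V := U ⊓ LinearMap.ker (B.flip y) with hU'
  have hlt : U' < U := by
    refine lt_of_le_of_ne inf_le_left ?_
    intro h
    have : x ∈ U' := by rw [h]; exact hxU
    exact hxy (mem_ker_flip.mp this.2)
  have hfr : finrank F U' ≤ 2 := by
    have := Submodule.finrank_lt_finrank_of_lt hlt
    omega
  -- `y, n` independent in `U'`
  have hn_notin : n ∉ Submodule.span F {y} := by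
    intro h
    obtain ⟨c, rfl⟩ := Submodule.mem_span_singleton.mp h
    rw [hQs, hQy, mul_zero] at hQn
    exact hQn rfl
  have hyU' : y ∈ U' := ⟨hy, mem_ker_flip.mpr hyy⟩
  have hnU' : n ∈ U' := ⟨hn, mem_ker_flip.mpr (by rw [hsymm, hyn])⟩
  have hzU' : z ∈ U' := ⟨hz, mem_ker_flip.mpr (by rw [hsymm, hyz])⟩
  have hle : Submodule.span F ({y, n} : Set V) ≤ U' := by
    rw [Submodule.span_le]
    rintro w (rfl | rfl)
    · exact hyU'
    · exact hnU'
  have hlt2 : Submodule.span F ({y} : Set V) < Submodule.span F ({y, n} : Set V) := by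
    refine lt_of_le_of_ne (Submodule.span_mono (by simp)) ?_
    intro h
    apply hn_notin
    rw [h]
    exact Submodule.subset_span (by simp)
  have hfr2 : 2 ≤ finrank F (Submodule.span F ({y, n} : Set V)) := by
    have := Submodule.finrank_lt_finrank_of_lt hlt2
    rw [finrank_span_singleton hy0] at this
    omega
  have heq : Submodule.span F ({y, n} : Set V) = U' :=
    Submodule.eq_of_le_of_finrank_le hle (by omega)
  rw [← heq] at hzU'
  obtain ⟨a, b, hab⟩ := Submodule.mem_span_pair.mp hzU'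
  exact ⟨a, b, hab.symm⟩

omit [Finite F] in
/-- OD-PAIR (`k = 3`). -/
theorem exists_rootPair {t k : ℕ} {D : Fin t → Submodule F V} {S M : Subgroup (V ≃ₗ[F] V)}
    (hC : Ctx Q B k D S M) (hk3 : k = 3) (hsa : StarA Q B D M) {y : V}
    (hy : SingAdm Q D M y) : ∃ n, RootPair Q B M y n := by
  obtain ⟨hy0, hQy, g, hgM, i, hyU⟩ := hy
  have hQs := hC.hQs
  have hQp := hC.hQp
  have hsymm := B_symm Q B hQp
  have hgO : g ∈ oG Q := hC.hMO hgM
  set U : Submodule F V := (D i).map (g : V →ₗ[F] V) with hUdef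
  have hfrU : finrank F U = 3 := by
    rw [hUdef, LinearEquiv.finrank_map_eq, hC.hD.fr, hk3]
  have hU : ∀ a ∈ U, a ≠ 0 → ∃ x ∈ U, B x a ≠ 0 := by
    rintro a ⟨a₀, ha₀, rfl⟩ ha
    have ha₀0 : a₀ ≠ 0 := by
      rintro rfl
      exact ha (map_zero _)
    obtain ⟨x₀, hx₀, hx⟩ := hC.hD.nd i a₀ ha₀ ha₀0
    refine ⟨g x₀, ⟨x₀, hx₀, rfl⟩, ?_⟩
    show B (g x₀) (g a₀) ≠ 0
    rw [oG_B Q B hQp hgO]
    exact hx
  obtain ⟨n, hnU, hyn, hQn⟩ :=
    Cfsg.Agent.Lib.Helper10_OD_IRR3.exists_nonsing_orth_in hQp U hU (by omega) hyU hy0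
  refine ⟨n, ⟨hy0, hQy, hyn, hQn, fun z => ?_⟩⟩
  rw [hsa g hgM i y hyU hy0 hQy z]
  constructor
  · rintro ⟨hzU, hyz⟩
    exact mem_span_pair_of_orth hQs hQp U hU hfrU hyU hy0 hQy hnU hyn hQn hzU hyz
  · rintro ⟨a, b, rfl⟩
    refine ⟨U.add_mem (U.smul_mem _ hyU) (U.smul_mem _ hnU), ?_⟩
    rw [map_add, map_smul, map_smul, hyn, B_self Q B hQs hQp, hQy]
    simp

omit [Finite F] [FiniteDimensional F V] in
/-- OD-PAIR (b). -/
theorem rootPair_sub {M : Subgroup (V ≃ₗ[F] V)}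
    (hQs : ∀ (c : F) (v : V), Q (c • v) = c * c * Q v)
    (hQp : ∀ u v : V, Q (u + v) = Q u + Q v + B u v) {y n : V} (hp : RootPair Q B M y n) (c : F) :
    RootPair Q B M y (n - c • y) := by
  have hsymm := B_symm Q B hQp
  have hyy : B y y = 0 := by rw [B_self Q B hQs hQp, hp.Qy, mul_zero]
  refine ⟨hp.y0, hp.Qy, ?_, ?_, fun z => ?_⟩
  · rw [map_sub, map_smul, hp.Byn, hyy, smul_zero, sub_zero]
  · have : n - c • y = n + (-c) • y := by rw [neg_smul, sub_eq_add_neg]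
    rw [this, Q_add_smul Q B hQs hQp, hp.Qy, hsymm n y, hp.Byn, mul_zero, mul_zero, add_zero,
      add_zero]
    exact hp.Qn
  · rw [hp.inz z]
    constructor
    · rintro ⟨a, b, rfl⟩
      exact ⟨a + b * c, b, by module⟩
    · rintro ⟨a, b, rfl⟩
      exact ⟨a - b * c, b, by module⟩

end Cfsg.Agent.Lib.Helper10_OD_PAIR
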