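import Mathlib

set_option autoImplicit false
set_option linter.unusedSectionVars false

/-!
# S2346 (architect helper30), package OMB-AVG: components of an internal direct sum; a vector outside `S i₀` has a
non-zero component at some `a ≠ i₀`; averaging over operators permuting the blocks and fixing `S a` pointwise keeps
the `a`-component non-zero.
-/

namespace Cfsg.Agent.Lib.Helper10_OM_AVG

open Module

section comp

variable {X : Type*} [AddCommGroup X] [Module ℂ X]
  {ι : Type*} [Fintype ι] [DecidableEq ι] (S : ι → Submodule ℂ X) (hint : DirectSum.IsInternal S)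

/-- the decomposition isomorphism of an internal direct sum -/
noncomputable def decE : (DirectSum ι fun i => ↥(S i)) ≃ₗ[ℂ] X :=
  LinearEquiv.ofBijective (DirectSum.coeLinearMap S) hint

/-- the `i`-th component, as an endomorphism -/
noncomputable def compL (i : ι) : X →ₗ[ℂ] X :=
  (S i).subtype ∘ₗ DirectSum.component ℂ ι (fun i => ↥(S i)) i ∘ₗ (decE S hint).symm.toLinearMap

theorem compL_apply (i : ι) (x : X) : compL S hint i x = (((decE S hint).symm x) i : X) := rfl

theorem compL_mem (i : ι) (x : X) : compL S hint i x ∈ S i := by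
  rw [compL_apply]
  exact Subtype.property _

theorem sum_compL (x : X) : x = ∑ i, compL S hint i x := by
  have h1 : (decE S hint) ((decE S hint).symm x) = x := LinearEquiv.apply_symm_apply _ _
  have h2 : (decE S hint).symm x =
      ∑ i, DirectSum.of (fun i => ↥(S i)) i (((decE S hint).symm x) i) :=
    (DirectSum.sum_univ_of _).symm
  conv_lhs => rw [← h1, h2]
  rw [map_sum]
  apply Finset.sum_congr rfl
  intro i _
  show DirectSum.coeLinearMap S (DirectSum.of (fun i => ↥(S i)) i (((decE S hint).symm x) i)) = _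
  rw [DirectSum.coeLinearMap_of]
  rfl

theorem symm_of_mem {j : ι} {x : X} (hx : x ∈ S j) :
    (decE S hint).symm x = DirectSum.of (fun i => ↥(S i)) j ⟨x, hx⟩ := by
  rw [LinearEquiv.symm_apply_eq]
  show x = DirectSum.coeLinearMap S (DirectSum.of (fun i => ↥(S i)) j ⟨x, hx⟩)
  rw [DirectSum.coeLinearMap_of]

theorem compL_of_mem_same {j : ι} {x : X} (hx : x ∈ S j) : compL S hint j x = x := by
  rw [compL_apply, symm_of_mem S hint hx, DirectSum.of_eq_same]

theorem compL_of_mem_ne {i j : ι} (hij : j ≠ i) {x : X} (hx : x ∈ S j) : compL S hint i x = 0 := by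
  rw [compL_apply, symm_of_mem S hint hx, DirectSum.of_eq_of_ne j i _ hij.symm]
  rfl

theorem mem_iSup_ne_iff (a : ι) (x : X) :
    x ∈ (⨆ i ∈ {i : ι | i ≠ a}, S i) ↔ compL S hint a x = 0 := by
  constructor
  · intro hx
    have hle : (⨆ i ∈ {i : ι | i ≠ a}, S i) ≤ LinearMap.ker (compL S hint a) := by
      apply iSup₂_le
      intro i hi y hy
      rw [LinearMap.mem_ker]
      exact compL_of_mem_ne S hint hi hy
    exact LinearMap.mem_ker.1 (hle hx)
  · intro h
    rw [sum_compL S hint x]
    apply Submodule.sum_mem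
    intro i _
    by_cases hia : i = a
    · rw [hia, h]
      exact Submodule.zero_mem _
    · exact (le_biSup S (show i ∈ {i : ι | i ≠ a} from hia)) (compL_mem S hint i x)

end comp

theorem exists_ne_not_mem_iSup {X : Type*} [AddCommGroup X] [Module ℂ X]
    {ι : Type*} [Fintype ι] [DecidableEq ι] (S : ι → Submodule ℂ X) (hint : DirectSum.IsInternal S)
    (i₀ : ι) (x : X) (hx : x ∉ S i₀) : ∃ a : ι, a ≠ i₀ ∧ x ∉ ⨆ i ∈ {i : ι | i ≠ a}, S i := by
  by_contra hcon
  push Not at hcon
  apply hx
  rw [sum_compL S hint x, Finset.sum_eq_single i₀]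
  · exact compL_mem S hint i₀ x
  · intro a _ ha
    exact (mem_iSup_ne_iff S hint a x).1 (hcon a ha)
  · intro h
    exact absurd (Finset.mem_univ _) h

theorem sum_not_mem_iSup {X : Type*} [AddCommGroup X] [Module ℂ X]
    {ι : Type*} [Fintype ι] [DecidableEq ι] (S : ι → Submodule ℂ X) (hint : DirectSum.IsInternal S)
    {K : Type*} [Fintype K] [Nonempty K] (τ : K → Module.End ℂ X) (π : K → ι → ι)
    (hτ : ∀ k i, ∀ x ∈ S i, τ k x ∈ S (π k i)) (a : ι) (hπ : ∀ k i, π k i = a → i = a)
    (hfix : ∀ k, ∀ x ∈ S a, τ k x = x) (x : X) (hx : x ∉ ⨆ i ∈ {i : ι | i ≠ a}, S i) :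
    (∑ k, τ k x) ∉ ⨆ i ∈ {i : ι | i ≠ a}, S i := by
  rw [mem_iSup_ne_iff S hint] at hx ⊢
  have hkey : ∀ k (y : X), compL S hint a (τ k y) = compL S hint a y := by
    intro k y
    conv_lhs => rw [sum_compL S hint y]
    rw [map_sum, map_sum, Finset.sum_eq_single a]
    · rw [hfix k _ (compL_mem S hint a y), compL_of_mem_same S hint (compL_mem S hint a y)]
    · intro i _ hia
      have hne : π k i ≠ a := fun h => hia (hπ k i h)
      exact compL_of_mem_ne S hint hne (hτ k i _ (compL_mem S hint i y))
    · intro h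
      exact absurd (Finset.mem_univ _) h
  rw [map_sum, Finset.sum_congr rfl (fun k _ => hkey k x), Finset.sum_const, Finset.card_univ]
  intro h
  rw [← Nat.cast_smul_eq_nsmul ℂ] at h
  rcases smul_eq_zero.1 h with h' | h'
  · have : Fintype.card K ≠ 0 := Fintype.card_ne_zero
    exact this (by exact_mod_cast h')
  · exact hx h'

end Cfsg.Agent.Lib.Helper10_OM_AVG
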