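import Mathlib
import Cfsg.Agent.Lib.Helper38_MIODefs
import Cfsg.Agent.Lib.Helper10_MIO_CNTD

/-!
# MIO wave 3b package MIO-CNTMINUS (architect helper38, proof helper91)

Level-set counts of the complement of a hyperbolic plane, even dimension, minus type: ℕ-arithmetic on
top of the landed `Helper10_MIO_CNTD.card_level_perp`.  The shared lemmas (`solve_level`,
`card_nonzero_add_one`, exponent bookkeeping) are reused by `Helper91_MIO_CNTPLUS`.
-/

set_option autoImplicit false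

namespace Cfsg.Agent.Lib.Helper91_MIO_CNTMINUS

open Module Cfsg.Agent.Lib.Helper94_OrthSmall Cfsg.Agent.Lib.Helper44_QuadClass
  Cfsg.Agent.Lib.Helper14_OmegaSimple Cfsg.Agent.Lib.Helper38_MIODefs

/-- solving `N = q * W + (q - 1) * (q^2 * x^2)` for `W` over the integers -/
theorem solve_level (q x N W : ℕ) (hq : 2 ≤ q) (R : ℤ)
    (hN : (N : ℤ) = (q : ℤ) * R + ((q : ℤ) - 1) * ((q : ℤ) ^ 2 * (x : ℤ) ^ 2))
    (hc : N = q * W + (q - 1) * (q ^ 2 * x ^ 2)) : (W : ℤ) = R := by
  have hq1 : 1 ≤ q := by omega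
  have hq0 : (q : ℤ) ≠ 0 := by
    have : (0 : ℤ) < q := by exact_mod_cast (by omega : 0 < q)
    exact ne_of_gt this
  have hc' : (N : ℤ) = (q : ℤ) * W + ((q : ℤ) - 1) * ((q : ℤ) ^ 2 * (x : ℤ) ^ 2) := by
    have := congrArg (fun n : ℕ => (n : ℤ)) hc
    simp only [Nat.cast_add, Nat.cast_mul, Nat.cast_pow, Nat.cast_sub hq1, Nat.cast_one] at this
    exact this
  have key : (q : ℤ) * W = (q : ℤ) * R := by linear_combination hN - hc'
  exact mul_left_cancel₀ hq0 key

section

variable {F V : Type*} [Field F] [Fintype F] [AddCommGroup V] [Module F V] [FiniteDimensional F V]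

/-- nonzero singular vectors of the complement, plus one -/
theorem card_nonzero_add_one (Q : QuadraticForm F V) (v v' : V) :
    Nat.card {x : ↥(perp Q v v') // x ≠ 0 ∧ Qp Q v v' x = 0} + 1 =
      Nat.card {x : ↥(perp Q v v') // Qp Q v v' x = 0} := by
  classical
  have hfin : Finite ↥(perp Q v v') := Module.finite_of_finite F
  have : Nat.card {w : ↥(perp Q v v') // Qp Q v v' w = 0} =
      Nat.card (Option {x : ↥(perp Q v v') // x ≠ 0 ∧ Qp Q v v' x = 0}) := by
    apply Nat.card_congr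
    refine ⟨fun w => if h : w.1 = 0 then none else some ⟨w.1, h, w.2⟩,
      fun o => match o with
        | none => ⟨0, by simp⟩
        | some x => ⟨x.1, x.2.2⟩, ?_, ?_⟩
    · intro w
      by_cases h : w.1 = 0
      · simp only [h, dite_true]
        apply Subtype.ext
        exact h.symm
      · simp only [h, dite_false]
    · intro o
      cases o with
      | none => simp
      | some x => simp only [x.2.1, dite_false]
  rw [this, Finite.card_option]

/-- the count of `card_level_perp` with the exponents of the even-dimensional case, `m = j + 2` -/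
theorem level_eq (Q : QuadraticForm F V) {v v' : V} (hv : Q v = 0) (hv' : Q v' = 0)
    (hvv' : QuadraticMap.polar (⇑Q) v v' = 1) (j : ℕ)
    (hdW : finrank F ↥(perp Q v v') = 2 * (j + 2 - 1)) (c : F) :
    Nat.card {x : V // Q x = c} =
      Fintype.card F * Nat.card {x : ↥(perp Q v v') // Qp Q v v' x = c} +
        (Fintype.card F - 1) * (Fintype.card F ^ 2 * (Fintype.card F ^ j) ^ 2) := by
  have h := Cfsg.Agent.Lib.Helper10_MIO_CNTD.card_level_perp Q hv hv' hvv' c
  rw [hdW] at h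
  have e : Fintype.card F ^ (2 * (j + 2 - 1)) = Fintype.card F ^ 2 * (Fintype.card F ^ j) ^ 2 := by
    have : 2 * (j + 2 - 1) = 2 + j * 2 := by omega
    rw [this, pow_add, pow_mul]
  rw [e] at h
  exact h

end

section

variable {F V : Type*} [Field F] [Fintype F] [AddCommGroup V] [Module F V] [FiniteDimensional F V]

/-! ## MIO-CNTMINUS (M) -/
theorem counts_perp_minus (Q : QuadraticForm F V) {v v' : V} (hv : Q v = 0) (hv' : Q v' = 0)
    (hvv' : QuadraticMap.polar (⇑Q) v v' = 1) (m : ℕ) (hm : 2 ≤ m)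
    (hdW : finrank F ↥(perp Q v v') = 2 * (m - 1))
    (hZ : Nat.card {x : V // Q x = 0} =
      Fintype.card F ^ (2 * m - 1) - Fintype.card F ^ m + Fintype.card F ^ (m - 1))
    (hL : ∀ c : F, c ≠ 0 →
      Nat.card {x : V // Q x = c} = Fintype.card F ^ (2 * m - 1) + Fintype.card F ^ (m - 1)) :
    Nat.card {x : ↥(perp Q v v') // Qp Q v v' x = 0} =
      Fintype.card F ^ (2 * (m - 1) - 1) - Fintype.card F ^ (m - 1) + Fintype.card F ^ (m - 1 - 1) ∧
    Nat.card {x : ↥(perp Q v v') // x ≠ 0 ∧ Qp Q v v' x = 0} =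
      Fintype.card F ^ (2 * (m - 1) - 1) - Fintype.card F ^ (m - 1) + Fintype.card F ^ (m - 1 - 1) - 1 ∧
    ∀ c : F, c ≠ 0 → Nat.card {x : ↥(perp Q v v') // Qp Q v v' x = c} =
      Fintype.card F ^ (2 * (m - 1) - 1) + Fintype.card F ^ (m - 1 - 1) := by
  obtain ⟨j, rfl⟩ : ∃ j, m = j + 2 := ⟨m - 2, by omega⟩
  obtain ⟨q, hqdef⟩ : ∃ q, q = Fintype.card F := ⟨_, rfl⟩
  have hq2 : 2 ≤ q := by rw [hqdef]; exact Fintype.one_lt_card
  have hcnt := level_eq Q hv hv' hvv' j hdW
  rw [← hqdef] at hZ hL hcnt ⊢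
  have e1 : 2 * (j + 2) - 1 = 3 + j * 2 := by omega
  have e2 : j + 2 - 1 = 1 + j := by omega
  have e3 : 2 * (j + 2 - 1) - 1 = 1 + j * 2 := by omega
  have e4 : 1 + j - 1 = j := by omega
  have e5 : j + 2 = 2 + j := by omega
  rw [e1, e2, e5] at hZ
  rw [e3, e2, e4]
  have hx1 : 1 ≤ q ^ j := Nat.one_le_pow _ _ (by omega)
  have p1 : q ^ (3 + j * 2) = q ^ 3 * (q ^ j) ^ 2 := by rw [pow_add, pow_mul]
  have p2 : q ^ (2 + j) = q ^ 2 * q ^ j := by rw [pow_add]
  have p3 : q ^ (1 + j) = q * q ^ j := by rw [pow_add, pow_one]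
  have p4 : q ^ (1 + j * 2) = q * (q ^ j) ^ 2 := by rw [pow_add, pow_mul, pow_one]
  rw [p1, p2, p3] at hZ
  rw [p4, p3]
  have hL' : ∀ c : F, c ≠ 0 → Nat.card {x : V // Q x = c} = q ^ 3 * (q ^ j) ^ 2 + q * q ^ j := by
    intro c hc
    rw [hL c hc, e1, e2, p1, p3]
  generalize q ^ j = x at *
  have hle1 : q ^ 2 * x ≤ q ^ 3 * x ^ 2 := by
    calc q ^ 2 * x = q ^ 2 * x * 1 := (mul_one _).symm
      _ ≤ q ^ 2 * x * (q * x) := Nat.mul_le_mul_left _ (Nat.mul_pos (by omega) hx1)
      _ = q ^ 3 * x ^ 2 := by ring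
  have hle2 : q * x ≤ q * x ^ 2 := by
    calc q * x = q * x * 1 := (mul_one _).symm
      _ ≤ q * x * x := Nat.mul_le_mul_left _ hx1
      _ = q * x ^ 2 := by ring
  have hW0 : Nat.card {x : ↥(perp Q v v') // Qp Q v v' x = 0} = q * x ^ 2 - q * x + x := by
    have hc0 := hcnt 0
    have hcast := solve_level q x _ _ hq2
      ((q : ℤ) * (x : ℤ) ^ 2 - (q : ℤ) * x + x) ?_ hc0
    · have : ((q * x ^ 2 - q * x + x : ℕ) : ℤ) = (q : ℤ) * (x : ℤ) ^ 2 - (q : ℤ) * x + x := by
        push_cast [Nat.cast_sub hle2]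
        ring
      rw [← this] at hcast
      exact_mod_cast hcast
    · rw [hZ]
      push_cast [Nat.cast_sub hle1]
      ring
  refine ⟨hW0, ?_, ?_⟩
  · have := card_nonzero_add_one Q v v'
    omega
  · intro c hc
    have hcc := hcnt c
    have hcast := solve_level q x _ _ hq2 ((q : ℤ) * (x : ℤ) ^ 2 + x) ?_ hcc
    · exact_mod_cast hcast
    · rw [hL' c hc]
      push_cast
      ring

end

end Cfsg.Agent.Lib.Helper91_MIO_CNTMINUS
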