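import Mathlib
import Cfsg.Agent.Lib.Helper38_MIODefs
import Cfsg.Agent.Lib.Helper91_MIO_CNTMINUS

set_option autoImplicit false
set_option linter.unusedSectionVars false
set_option linter.unusedVariables false

/-!
# S2346 (architect helper30), package OMB-TR4: in a 4-dimensional quadratic space of minus type a function
invariant under all Siegel elements is constant on the non-zero vectors of each norm.
-/

namespace Cfsg.Agent.Lib.Helper10_OM_TR4

open Module Cfsg.Agent.Lib.Helper94_OrthSmall Cfsg.Agent.Lib.Helper44_QuadClass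
  Cfsg.Agent.Lib.Helper14_OmegaSimple Cfsg.Agent.Lib.Helper38_MIODefs

variable {F W : Type*} [Field F] [AddCommGroup W] [Module F W]

/-- the vector `α c + β c' + y` -/
def vec (c c' : W) (α β : F) (y : W) : W := α • c + β • c' + y

/-- the action of `E(c', y)` in hyperbolic coordinates -/
theorem E_vec (Q : QuadraticForm F W) {c c' : W} (hc' : Q c' = 0)
    (hcc' : QuadraticMap.polar (⇑Q) c c' = 1) {y₀ y : W}
    (hy₀ : QuadraticMap.polar (⇑Q) y₀ c' = 0) (hcy : QuadraticMap.polar (⇑Q) c y = 0)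
    (hc'y : QuadraticMap.polar (⇑Q) c' y = 0) (α β : F) :
    E Q c' y (vec c c' α β y₀) =
      vec c c' α (β - QuadraticMap.polar (⇑Q) y₀ y - α * Q y) (y₀ + α • y) := by
  rw [E_apply Q hc' hc'y]
  have h1 : QuadraticMap.polar (⇑Q) (vec c c' α β y₀) c' = α := by
    unfold vec
    rw [QuadraticMap.polar_add_left, QuadraticMap.polar_add_left, QuadraticMap.polar_smul_left,
      QuadraticMap.polar_smul_left, hcc', polar_self', hc', hy₀]
    simp
  have h2 : QuadraticMap.polar (⇑Q) (vec c c' α β y₀) y = QuadraticMap.polar (⇑Q) y₀ y := by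
    unfold vec
    rw [QuadraticMap.polar_add_left, QuadraticMap.polar_add_left, QuadraticMap.polar_smul_left,
      QuadraticMap.polar_smul_left, hcy, hc'y]
    simp
  rw [h1, h2]
  unfold vec
  module

theorem vec_swap (c c' : W) (α β : F) (y : W) : vec c c' α β y = vec c' c β α y := by
  unfold vec
  module

/-- the action of `E(c, y)` in hyperbolic coordinates -/
theorem E_vec' (Q : QuadraticForm F W) {c c' : W} (hc : Q c = 0)
    (hcc' : QuadraticMap.polar (⇑Q) c c' = 1) {y₀ y : W}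
    (hy₀ : QuadraticMap.polar (⇑Q) y₀ c = 0) (hcy : QuadraticMap.polar (⇑Q) c y = 0)
    (hc'y : QuadraticMap.polar (⇑Q) c' y = 0) (α β : F) :
    E Q c y (vec c c' α β y₀) =
      vec c c' (α - QuadraticMap.polar (⇑Q) y₀ y - β * Q y) β (y₀ + β • y) := by
  have hc'c : QuadraticMap.polar (⇑Q) c' c = 1 := by rw [QuadraticMap.polar_comm]; exact hcc'
  rw [vec_swap, E_vec Q hc hc'c hy₀ hc'y hcy β α, vec_swap]

/-- orthogonality to the hyperbolic pair -/
def InY (Q : QuadraticForm F W) (c c' y : W) : Prop :=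
  QuadraticMap.polar (⇑Q) c y = 0 ∧ QuadraticMap.polar (⇑Q) c' y = 0

theorem InY.zero (Q : QuadraticForm F W) (c c' : W) : InY Q c c' 0 := by
  constructor <;> simp [QuadraticMap.polar]

theorem InY.smul {Q : QuadraticForm F W} {c c' y : W} (h : InY Q c c' y) (a : F) :
    InY Q c c' (a • y) := by
  constructor
  · rw [QuadraticMap.polar_smul_right, h.1, smul_zero]
  · rw [QuadraticMap.polar_smul_right, h.2, smul_zero]

theorem InY.add {Q : QuadraticForm F W} {c c' y y' : W} (h : InY Q c c' y) (h' : InY Q c c' y') :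
    InY Q c c' (y + y') := by
  constructor
  · rw [QuadraticMap.polar_add_right, h.1, h'.1, add_zero]
  · rw [QuadraticMap.polar_add_right, h.2, h'.2, add_zero]

section inv

variable (Q : QuadraticForm F W) {c c' : W} (hc : Q c = 0) (hc' : Q c' = 0)
  (hcc' : QuadraticMap.polar (⇑Q) c c' = 1) {α' : Type*} (f : W → α')
  (hf : ∀ u z : W, Q u = 0 → QuadraticMap.polar (⇑Q) u z = 0 → ∀ x, f (E Q u z x) = f x)

include hc' hcc' hf in
theorem inv1 {y₀ y : W} (hy₀ : InY Q c c' y₀) (hy : InY Q c c' y) (α β : F) :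
    f (vec c c' α β y₀) =
      f (vec c c' α (β - QuadraticMap.polar (⇑Q) y₀ y - α * Q y) (y₀ + α • y)) := by
  have h := E_vec Q hc' hcc' (by rw [QuadraticMap.polar_comm]; exact hy₀.2) hy.1 hy.2 α β
  rw [← h, hf c' y hc' hy.2]

include hc hcc' hf in
theorem inv2 {y₀ y : W} (hy₀ : InY Q c c' y₀) (hy : InY Q c c' y) (α β : F) :
    f (vec c c' α β y₀) =
      f (vec c c' (α - QuadraticMap.polar (⇑Q) y₀ y - β * Q y) β (y₀ + β • y)) := by
  have h := E_vec' Q hc hcc' (by rw [QuadraticMap.polar_comm]; exact hy₀.1) hy.1 hy.2 α β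
  rw [← h, hf c y hc hy.1]

include hc hc' hcc' hf in
/-- the torus: `a c + b c' ~ -(b/N) c - N a c'` for `N = Q y ≠ 0`, `y ⊥ c, c'` -/
theorem torus {y : W} (hy : InY Q c c' y) (hN : Q y ≠ 0) (a b : F) :
    f (vec c c' a b 0) = f (vec c c' (-(b / Q y)) (-(Q y * a)) 0) := by
  have hyy : QuadraticMap.polar (⇑Q) y y = 2 * Q y := polar_self' Q y
  -- first step
  have s1 := inv1 Q hc' hcc' f hf (InY.zero Q c c') hy a b
  have e1 : vec c c' a (b - QuadraticMap.polar (⇑Q) 0 y - a * Q y) (0 + a • y)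
      = vec c c' a (b - a * Q y) (a • y) := by
    have : QuadraticMap.polar (⇑Q) 0 y = 0 := by simp [QuadraticMap.polar]
    rw [this, sub_zero, zero_add]
  rw [e1] at s1
  -- second step
  have s2 := inv2 Q hc hcc' f hf (hy.smul a) (hy.smul (Q y)⁻¹) a (b - a * Q y)
  have e2 : vec c c' (a - QuadraticMap.polar (⇑Q) (a • y) ((Q y)⁻¹ • y)
        - (b - a * Q y) * Q ((Q y)⁻¹ • y)) (b - a * Q y) (a • y + (b - a * Q y) • (Q y)⁻¹ • y)
      = vec c c' (-(b / Q y)) (b - a * Q y) ((b / Q y) • y) := by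
    rw [QuadraticMap.polar_smul_left, QuadraticMap.polar_smul_right, hyy, QuadraticMap.map_smul]
    simp only [smul_eq_mul]
    unfold vec
    match_scalars <;> field_simp <;> ring
  rw [e2] at s2
  -- third step
  have s3 := inv1 Q hc' hcc' f hf (hy.smul (b / Q y)) hy (-(b / Q y)) (b - a * Q y)
  have e3 : vec c c' (-(b / Q y)) (b - a * Q y - QuadraticMap.polar (⇑Q) ((b / Q y) • y) y
        - -(b / Q y) * Q y) ((b / Q y) • y + -(b / Q y) • y)
      = vec c c' (-(b / Q y)) (-(Q y * a)) 0 := by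
    rw [QuadraticMap.polar_smul_left, hyy]
    simp only [smul_eq_mul]
    unfold vec
    match_scalars <;> field_simp <;> ring
  rw [e3] at s3
  rw [s1, s2, s3]

include hc hc' hcc' hf in
/-- Step 1: a vector with `α ≠ 0` is equivalent to `c + κ c'` -/
theorem reduce1 {y₀ y₁ y₂ : W} (hy₀ : InY Q c c' y₀) {α : F} (hα : α ≠ 0) (β : F)
    (hy₁ : InY Q c c' y₁) (hQ₁ : Q y₁ = 1) (hy₂ : InY Q c c' y₂) (hQ₂ : Q y₂ = α) :
    f (vec c c' α β y₀) = f (vec c c' 1 (α * β + Q y₀) 0) := by
  have hyy : QuadraticMap.polar (⇑Q) y₀ y₀ = 2 * Q y₀ := polar_self' Q y₀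
  have s1 := inv1 Q hc' hcc' f hf hy₀ (hy₀.smul (-α⁻¹)) α β
  have e1 : vec c c' α (β - QuadraticMap.polar (⇑Q) y₀ (-α⁻¹ • y₀) - α * Q (-α⁻¹ • y₀))
        (y₀ + α • -α⁻¹ • y₀)
      = vec c c' α (β + Q y₀ / α) 0 := by
    rw [QuadraticMap.polar_smul_right, hyy, QuadraticMap.map_smul]
    simp only [smul_eq_mul]
    unfold vec
    match_scalars <;> field_simp <;> ring
  rw [e1] at s1
  have t1 := torus Q hc hc' hcc' f hf hy₁ (by rw [hQ₁]; exact one_ne_zero) α (β + Q y₀ / α)
  have t2 := torus Q hc hc' hcc' f hf hy₂ (by rw [hQ₂]; exact hα) (-((β + Q y₀ / α) / Q y₁))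
    (-(Q y₁ * α))
  have e2 : vec c c' (-(-(Q y₁ * α) / Q y₂)) (-(Q y₂ * -((β + Q y₀ / α) / Q y₁))) 0
      = vec c c' 1 (α * β + Q y₀) 0 := by
    rw [hQ₁, hQ₂]
    unfold vec
    match_scalars <;> field_simp
  rw [e2] at t2
  rw [s1, t1, t2]

end inv

section main

variable [Fintype F] [FiniteDimensional F W]

theorem tr_const_minus4 (Q : QuadraticForm F W) (hQ : (QuadraticMap.polarBilin Q).Nondegenerate)
    (hdim : finrank F W = 4)
    (hZ : Nat.card {x : W // Q x = 0} = Fintype.card F ^ 3 - Fintype.card F ^ 2 + Fintype.card F)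
    (hL : ∀ c : F, c ≠ 0 → Nat.card {x : W // Q x = c} = Fintype.card F ^ 3 + Fintype.card F)
    {α : Type*} (f : W → α)
    (hf : ∀ u z : W, Q u = 0 → QuadraticMap.polar (⇑Q) u z = 0 → ∀ x, f (E Q u z x) = f x)
    {x y : W} (hx : x ≠ 0) (hy : y ≠ 0) (hxy : Q x = Q y) : f x = f y := by
  -- the hyperbolic pair
  obtain ⟨c, hc0, hc⟩ := exists_singular Q (by omega : 3 ≤ finrank F W)
  obtain ⟨c', hc', hcc'⟩ := exists_hyperbolic_partner Q hQ hc0 hc
  have hc'c : QuadraticMap.polar (⇑Q) c' c = 1 := by rw [QuadraticMap.polar_comm]; exact hcc'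
  have hcc : QuadraticMap.polar (⇑Q) c c = 0 := by rw [polar_self', hc, mul_zero]
  have hc'c' : QuadraticMap.polar (⇑Q) c' c' = 0 := by rw [polar_self', hc', mul_zero]
  -- counts in the complement
  have hdW : finrank F ↥(perp Q c c') = 2 * (2 - 1) := by
    have := finrank_perp hc hc' hcc'
    omega
  have hcnt := Cfsg.Agent.Lib.Helper91_MIO_CNTMINUS.counts_perp_minus Q hc hc' hcc' 2 le_rfl hdW
    (by rw [hZ]; norm_num) (by intro k hk; rw [hL k hk]; norm_num)
  obtain ⟨r1, -, r3⟩ := hcnt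
  have r1' : Nat.card {x : ↥(perp Q c c') // Qp Q c c' x = 0} = 1 := by
    rw [r1]
    norm_num
  -- anisotropy
  have hA : ∀ y : W, InY Q c c' y → Q y = 0 → y = 0 := by
    intro y hy hQy
    obtain ⟨hss, -⟩ := Nat.card_eq_one_iff_unique.1 r1'
    have h0 : Qp Q c c' (0 : ↥(perp Q c c')) = 0 := map_zero _
    have hyp : y ∈ perp Q c c' := (mem_perp Q c c').2 hy
    have h1 : Qp Q c c' (⟨y, hyp⟩ : ↥(perp Q c c')) = 0 := hQy
    have := @Subsingleton.elim _ hss (⟨⟨y, hyp⟩, h1⟩ : {x : ↥(perp Q c c') // Qp Q c c' x = 0})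
      ⟨0, h0⟩
    have h2 := congrArg (fun t : {x : ↥(perp Q c c') // Qp Q c c' x = 0} => ((t : ↥(perp Q c c')) : W)) this
    exact h2
  -- universality
  have hU : ∀ κ : F, κ ≠ 0 → ∃ y : W, InY Q c c' y ∧ Q y = κ := by
    intro κ hκ
    have h := r3 κ hκ
    have hne : Nat.card {x : ↥(perp Q c c') // Qp Q c c' x = κ} ≠ 0 := by
      rw [h]
      positivity
    obtain ⟨⟨⟨y, hyp⟩, hQy⟩⟩ := (Nat.card_ne_zero.1 hne).1
    exact ⟨y, (mem_perp Q c c').1 hyp, hQy⟩
  obtain ⟨y₁, hy₁, hQ₁⟩ := hU 1 one_ne_zero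
  -- the main reduction
  have main : ∀ x : W, x ≠ 0 → f x = f (vec c c' 1 (Q x) 0) := by
    intro x hx
    obtain ⟨a, ha⟩ : ∃ a, a = QuadraticMap.polar (⇑Q) x c' := ⟨_, rfl⟩
    obtain ⟨b, hb⟩ : ∃ b, b = QuadraticMap.polar (⇑Q) x c := ⟨_, rfl⟩
    obtain ⟨y₀, hy₀def⟩ : ∃ y₀, y₀ = x - a • c - b • c' := ⟨_, rfl⟩
    have hxv : x = vec c c' a b y₀ := by
      unfold vec
      rw [hy₀def]
      abel
    have hy₀ : InY Q c c' y₀ := by
      constructor
      · rw [hy₀def, QuadraticMap.polar_sub_right, QuadraticMap.polar_sub_right,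
          QuadraticMap.polar_smul_right, QuadraticMap.polar_smul_right, hcc, hcc',
          QuadraticMap.polar_comm, ← hb]
        simp
      · rw [hy₀def, QuadraticMap.polar_sub_right, QuadraticMap.polar_sub_right,
          QuadraticMap.polar_smul_right, QuadraticMap.polar_smul_right, hc'c, hc'c',
          QuadraticMap.polar_comm, ← ha]
        simp
    have hQvec : ∀ (a b : F) (y₀ : W), InY Q c c' y₀ → Q (vec c c' a b y₀) = a * b + Q y₀ := by
      intro a b y₀ hy₀
      unfold vec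
      rw [QuadraticMap.map_add (⇑Q), QuadraticMap.map_add (⇑Q), QuadraticMap.map_smul, QuadraticMap.map_smul,
        hc, hc', QuadraticMap.polar_add_left, QuadraticMap.polar_smul_left,
        QuadraticMap.polar_smul_left, QuadraticMap.polar_smul_left, QuadraticMap.polar_smul_right,
        hcc', hy₀.1, hy₀.2]
      simp only [smul_eq_mul]
      ring
    have hQx : Q x = a * b + Q y₀ := by
      rw [hxv]
      exact hQvec a b y₀ hy₀
    by_cases ha0 : a = 0
    · -- Step 2
      have hex : ∃ y : W, InY Q c c' y ∧ QuadraticMap.polar (⇑Q) y₀ y + b * Q y ≠ 0 := by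
        by_cases hb0 : b = 0
        · have hy₀ne : y₀ ≠ 0 := by
            intro h
            apply hx
            rw [hxv, ha0, hb0, h]
            unfold vec
            simp
          have hexw : ∃ w, QuadraticMap.polarBilin Q y₀ w ≠ 0 := by
            by_contra hcon
            push Not at hcon
            exact hy₀ne (hQ.1 y₀ hcon)
          obtain ⟨w, hw⟩ := hexw
          rw [QuadraticMap.polarBilin_apply_apply] at hw
          refine ⟨w - QuadraticMap.polar (⇑Q) w c' • c - QuadraticMap.polar (⇑Q) w c • c', ⟨?_, ?_⟩, ?_⟩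
          · rw [QuadraticMap.polar_sub_right, QuadraticMap.polar_sub_right,
              QuadraticMap.polar_smul_right, QuadraticMap.polar_smul_right, hcc, hcc',
              QuadraticMap.polar_comm (⇑Q) c w]
            simp
          · rw [QuadraticMap.polar_sub_right, QuadraticMap.polar_sub_right,
              QuadraticMap.polar_smul_right, QuadraticMap.polar_smul_right, hc'c, hc'c',
              QuadraticMap.polar_comm (⇑Q) c' w]
            simp
          · rw [hb0, zero_mul, add_zero, QuadraticMap.polar_sub_right, QuadraticMap.polar_sub_right,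
              QuadraticMap.polar_smul_right, QuadraticMap.polar_smul_right,
              QuadraticMap.polar_comm (⇑Q) y₀ c, QuadraticMap.polar_comm (⇑Q) y₀ c', hy₀.1, hy₀.2]
            simpa using hw
        · by_cases hy₀0 : y₀ = 0
          · refine ⟨y₁, hy₁, ?_⟩
            rw [hy₀0, hQ₁]
            simpa [QuadraticMap.polar] using hb0
          · refine ⟨-b⁻¹ • y₀, hy₀.smul _, ?_⟩
            have hQy₀ : Q y₀ ≠ 0 := fun h => hy₀0 (hA y₀ hy₀ h)
            rw [QuadraticMap.polar_smul_right, polar_self', QuadraticMap.map_smul]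
            simp only [smul_eq_mul]
            have : -b⁻¹ * (2 * Q y₀) + b * (-b⁻¹ * -b⁻¹ * Q y₀) = -(b⁻¹ * Q y₀) := by
              field_simp
              ring
            rw [this]
            exact neg_ne_zero.2 (mul_ne_zero (inv_ne_zero hb0) hQy₀)
      obtain ⟨y, hy, hne⟩ := hex
      have s := inv2 Q hc hcc' f hf hy₀ hy a b
      rw [ha0] at s
      have ha' : (0 : F) - QuadraticMap.polar (⇑Q) y₀ y - b * Q y ≠ 0 := by
        intro h
        apply hne
        linear_combination -h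
      obtain ⟨y₂, hy₂, hQ₂⟩ := hU _ ha'
      have r := reduce1 Q hc hc' hcc' f hf (hy₀.add (hy.smul b)) ha' b hy₁ hQ₁ hy₂ hQ₂
      rw [hxv, ha0, s, r]
      congr 2
      rw [hQvec 0 b y₀ hy₀, QuadraticMap.map_add (⇑Q), QuadraticMap.map_smul,
        QuadraticMap.polar_smul_right]
      simp only [smul_eq_mul]
      ring
    · -- Step 1
      obtain ⟨y₂, hy₂, hQ₂⟩ := hU a ha0
      have r := reduce1 Q hc hc' hcc' f hf hy₀ ha0 b hy₁ hQ₁ hy₂ hQ₂
      rw [hQx]
      conv_lhs => rw [hxv]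
      exact r
  rw [main x hx, main y hy, hxy]

end main

end Cfsg.Agent.Lib.Helper10_OM_TR4
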