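import Mathlib
import Cfsg.Agent.Lib.Helper38_MIODefs

/-!
# MIO package DUAL (architect helper38, proof helper69)

The pairing `tr ∘ B` (absolute trace) on a finite-dimensional space `W` over a finite field `F` is a perfect
pairing of additive groups.  Route: `W` is a `ZMod p`-space (`p = ringChar F`), `(y, x) ↦ tr (B x y)` is a
nondegenerate `ZMod p`-bilinear form `gam`, `ann` is its orthogonal complement, and Mathlib's
`finrank_orthogonal`, `orthogonal_orthogonal` apply.
-/

set_option autoImplicit false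

namespace Cfsg.Agent.Lib.Helper69_MIO_DUAL

open Module Cfsg.Agent.Lib.Helper38_MIODefs

section general

variable {F W : Type*} [Field F] [AddCommGroup W] [Module F W]

/-- the absolute trace is nondegenerate -/
theorem tr_nondeg [Finite F] {a : F} (ha : a ≠ 0) : ∃ b : F, tr (a * b) ≠ 0 := by
  letI := ZMod.algebra F (ringChar F)
  exact FiniteField.trace_to_zmod_nondegenerate F ha

variable {p : ℕ} [Module (ZMod p) W]

/-- the `ZMod p`-bilinear form `(y, x) ↦ ψ (B x y)` -/
noncomputable def gam (B : LinearMap.BilinForm F W) (ψ : F →+ ZMod p) :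
    LinearMap.BilinForm (ZMod p) W :=
  AddMonoidHom.toZModLinearMap p
    (AddMonoidHom.mk' (fun y : W => AddMonoidHom.toZModLinearMap p
      (AddMonoidHom.mk' (fun x : W => ψ (B x y)) (by
        intro a b
        rw [map_add, LinearMap.add_apply, map_add]))) (by
      intro y y'
      apply LinearMap.ext
      intro x
      show ψ (B x (y + y')) = ψ (B x y) + ψ (B x y')
      rw [map_add, map_add]))

theorem gam_apply (B : LinearMap.BilinForm F W) (ψ : F →+ ZMod p) (y x : W) :
    gam B ψ y x = ψ (B x y) := rfl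

theorem gam_nondegenerate (B : LinearMap.BilinForm F W) (hN : B.Nondegenerate)
    (ψ : F →+ ZMod p) (hψ : ∀ a : F, a ≠ 0 → ∃ b : F, ψ (a * b) ≠ 0) :
    (gam B ψ).Nondegenerate := by
  constructor
  · intro y hy
    apply hN.2 y
    intro x
    by_contra hc
    obtain ⟨b, hb⟩ := hψ _ hc
    apply hb
    have h1 := hy (b • x)
    rw [gam_apply, map_smul, LinearMap.smul_apply, smul_eq_mul, mul_comm] at h1
    exact h1
  · intro x hx
    apply hN.1 x
    intro y
    by_contra hc
    obtain ⟨b, hb⟩ := hψ _ hc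
    apply hb
    have h1 := hx (b • y)
    rw [gam_apply, map_smul, smul_eq_mul, mul_comm] at h1
    exact h1

/-- the annihilator for a general additive character -/
theorem key [Fact p.Prime] [Finite F] [FiniteDimensional F W] (B : LinearMap.BilinForm F W)
    (hN : B.Nondegenerate) (ψ : F →+ ZMod p) (hψ : ∀ a : F, a ≠ 0 → ∃ b : F, ψ (a * b) ≠ 0)
    (S A : AddSubgroup W) (hA : ∀ x, x ∈ A ↔ ∀ y ∈ S, ψ (B x y) = 0) :
    Nat.card S * Nat.card A = Nat.card W ∧
      ((∀ x y, B x y = B y x) → ∀ x, (∀ y ∈ A, ψ (B x y) = 0) ↔ x ∈ S) := by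
  haveI : Finite W := Module.finite_of_finite F
  haveI : Module.Finite (ZMod p) W := Module.Finite.of_finite
  have hγ := gam_nondegenerate B hN ψ hψ
  obtain ⟨γ, hγdef⟩ : ∃ γ, γ = gam B ψ := ⟨_, rfl⟩
  obtain ⟨S', hS'⟩ : ∃ S', S' = AddSubgroup.toZModSubmodule p S := ⟨_, rfl⟩
  have hmem : ∀ a, a ∈ A ↔ a ∈ γ.orthogonal S' := by
    intro a
    rw [hA, LinearMap.BilinForm.mem_orthogonal_iff, hγdef, hS']
    rfl
  rw [← hγdef] at hγ
  constructor
  · have h1 : Nat.card A = Nat.card (γ.orthogonal S') :=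
      Nat.card_congr (Equiv.subtypeEquivRight hmem)
    have h2 : Nat.card S = Nat.card S' := by
      rw [hS']
      rfl
    rw [h1, h2, Module.natCard_eq_pow_finrank (K := ZMod p) (V := γ.orthogonal S'),
      Module.natCard_eq_pow_finrank (K := ZMod p) (V := S'),
      Module.natCard_eq_pow_finrank (K := ZMod p) (V := W),
      LinearMap.BilinForm.finrank_orthogonal hγ S', ← pow_add,
      Nat.add_sub_cancel' (Submodule.finrank_le S')]
  · intro hsymm
    have hrefl : γ.IsRefl := by
      intro x y hxy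
      rw [hγdef, gam_apply] at hxy ⊢
      rwa [hsymm x y]
    have h1 := LinearMap.BilinForm.orthogonal_orthogonal hγ hrefl S'
    intro x
    have h2 : x ∈ γ.orthogonal (γ.orthogonal S') ↔ x ∈ S := by
      rw [h1, hS']
      rfl
    rw [← h2, LinearMap.BilinForm.mem_orthogonal_iff]
    constructor
    · intro h b hb
      rw [hγdef, gam_apply]
      exact h b ((hmem b).mpr hb)
    · intro h b hb
      have h3 := h b ((hmem b).mp hb)
      rwa [hγdef, gam_apply] at h3

end general

section part1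

variable {F W : Type*} [Field F] [Fintype F] [AddCommGroup W] [Module F W] [FiniteDimensional F W]

theorem card_mul_card_ann (B : LinearMap.BilinForm F W) (hB : B.Nondegenerate)
    (hs : ∀ x y, B x y = B y x) (S : AddSubgroup W) :
    Nat.card S * Nat.card (ann B S) = Nat.card W := by
  haveI : Fact (ringChar F).Prime := ⟨CharP.char_is_prime F _⟩
  letI : Module (ZMod (ringChar F)) W := AddCommGroup.zmodModule (n := ringChar F) (by
    intro x
    rw [← Nat.cast_smul_eq_nsmul F, CharP.cast_eq_zero F (ringChar F), zero_smul])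
  exact (key B hB tr (fun a ha => tr_nondeg ha) S (ann B S) (fun x => mem_ann)).1

theorem ann_ann (B : LinearMap.BilinForm F W) (hB : B.Nondegenerate) (hs : ∀ x y, B x y = B y x)
    (S : AddSubgroup W) : ann B (ann B S) = S := by
  haveI : Fact (ringChar F).Prime := ⟨CharP.char_is_prime F _⟩
  letI : Module (ZMod (ringChar F)) W := AddCommGroup.zmodModule (n := ringChar F) (by
    intro x
    rw [← Nat.cast_smul_eq_nsmul F, CharP.cast_eq_zero F (ringChar F), zero_smul])
  ext x
  rw [mem_ann]
  exact (key B hB tr (fun a ha => tr_nondeg ha) S (ann B S) (fun x => mem_ann)).2 hs x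

theorem mem_ann_submodule (B : LinearMap.BilinForm F W) (S : Submodule F W) (x : W) :
    x ∈ ann B S.toAddSubgroup ↔ ∀ y ∈ S, B x y = 0 := by
  rw [mem_ann]
  constructor
  · intro h y hy
    by_contra hc
    obtain ⟨b, hb⟩ := tr_nondeg hc
    apply hb
    have h1 := h (b • y) (S.smul_mem b hy)
    rwa [map_smul, smul_eq_mul, mul_comm] at h1
  · intro h y hy
    rw [h y hy, map_zero]

theorem ann_top (B : LinearMap.BilinForm F W) (hB : B.Nondegenerate) :
    ann B (⊤ : AddSubgroup W) = ⊥ := by
  rw [eq_bot_iff]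
  intro x hx
  rw [AddSubgroup.mem_bot]
  apply hB.1 x
  intro y
  have h1 : x ∈ ann B (⊤ : Submodule F W).toAddSubgroup := hx
  rw [mem_ann_submodule] at h1
  exact h1 y Submodule.mem_top

theorem ann_bot (B : LinearMap.BilinForm F W) : ann B (⊥ : AddSubgroup W) = ⊤ := by
  rw [eq_top_iff]
  intro x _
  rw [mem_ann]
  intro y hy
  rw [AddSubgroup.mem_bot] at hy
  rw [hy, map_zero, map_zero]

theorem ann_anti (B : LinearMap.BilinForm F W) {S S' : AddSubgroup W} (h : S ≤ S') :
    ann B S' ≤ ann B S := by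
  intro x hx y hy
  exact hx y (h hy)

/-- similitudes: `ann (t ψ S) = t⁻¹ ψ (ann S)`. -/
theorem mem_ann_map (B : LinearMap.BilinForm F W) (S : AddSubgroup W) (ψ : W ≃ₗ[F] W)
    (hψ : ∀ x y, B (ψ x) (ψ y) = B x y) (t : F) (ht : t ≠ 0) (x : W) :
    x ∈ ann B S ↔ t⁻¹ • ψ x ∈ ann B (S.map ((t • (ψ : W →ₗ[F] W)).toAddMonoidHom)) := by
  have hcomp : ∀ y : W, B (t⁻¹ • ψ x) (t • ψ y) = B x y := by
    intro y
    simp only [map_smul, LinearMap.smul_apply, smul_eq_mul, hψ]
    field_simp
  rw [mem_ann, mem_ann]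
  constructor
  · intro h y' hy'
    obtain ⟨y, hy, rfl⟩ := AddSubgroup.mem_map.mp hy'
    have h1 : ((t • (ψ : W →ₗ[F] W)).toAddMonoidHom) y = t • ψ y := rfl
    rw [h1, hcomp]
    exact h y hy
  · intro h y hy
    have h1 := h (t • ψ y) (AddSubgroup.mem_map.mpr ⟨y, hy, rfl⟩)
    rwa [hcomp] at h1

end part1

end Cfsg.Agent.Lib.Helper69_MIO_DUAL
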