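import Mathlib
import Cfsg.Agent.Lib.Helper38_MIODefs
import Cfsg.Agent.Lib.Helper69_MIO_DUAL

/-!
# MIO-NORM (S2143, architect helper38): an element of `T Q` scaling `v` and preserving `perp Q v v'`
normalises the root group `A`, hence permutes the `A`-orbits, and transports the family `C`.
-/

set_option autoImplicit false

namespace Cfsg.Agent.Lib.Helper20_MIO_NORM

open Module Cfsg.Agent.Lib.Helper94_OrthSmall Cfsg.Agent.Lib.Helper44_QuadClass
  Cfsg.Agent.Lib.Helper14_OmegaSimple Cfsg.Agent.Lib.Helper38_MIODefs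

variable {F V : Type*} [Field F] [Fintype F] [AddCommGroup V] [Module F V] [FiniteDimensional F V]

theorem polar_v_perp (Q : QuadraticForm F V) {v v' : V} (w : ↥(perp Q v v')) :
    QuadraticMap.polar (⇑Q) v (w : V) = 0 := ((mem_perp Q v v').1 w.2).1

/-- the intertwining relation `g E(v,w) = E(v, t ψ w) g` on `X` -/
theorem act_conj (Q : QuadraticForm F V) (hQ : (QuadraticMap.polarBilin Q).Nondegenerate)
    (hdim : 5 ≤ finrank F V) {v v' : V} (hv : Q v = 0) {X : Type*} [MulAction ↥(T Q) X]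
    (g : V ≃ₗ[F] V) (hg : g ∈ T Q) (t : F)
    (hgv : g v = t • v) (ψ : ↥(perp Q v v') ≃ₗ[F] ↥(perp Q v v'))
    (hψ : ∀ w : ↥(perp Q v v'), ((ψ w : ↥(perp Q v v')) : V) = g (w : V))
    (w : ↥(perp Q v v')) (x : X) :
    act Q g (act Q (E Q v (w : V)) x) =
      act Q (E Q v ((t • ψ w : ↥(perp Q v v')) : V)) (act Q g x) := by
  have hgO : g ∈ oG (⇑Q) := T_le_oG Q hg
  have haT : ∀ w : ↥(perp Q v v'), E Q v (w : V) ∈ T Q :=
    fun w => E_mem_T Q hQ hdim hv (polar_v_perp Q w)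
  have hconj : g * E Q v (w : V) = E Q v ((t • ψ w : ↥(perp Q v v')) : V) * g := by
    have h1 := conj_E Q hgO hv (polar_v_perp Q w)
    rw [hgv, ← hψ w, E_smul_left Q hv (polar_v_perp Q (ψ w)) t, mul_inv_eq_iff_eq_mul] at h1
    rw [h1]
    rfl
  rw [← act_mul Q hg (haT w), hconj, act_mul Q (haT _) hg]

/-- the induced map on orbits -/
theorem exists_fun (Q : QuadraticForm F V) (hQ : (QuadraticMap.polarBilin Q).Nondegenerate)
    (hdim : 5 ≤ finrank F V) {v v' : V} (hv : Q v = 0) {X : Type*} [MulAction ↥(T Q) X]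
    {𝒪 : Type*} (D : FamData Q v v' X 𝒪) (g : V ≃ₗ[F] V) (hg : g ∈ T Q) (t : F)
    (hgv : g v = t • v) (ψ : ↥(perp Q v v') ≃ₗ[F] ↥(perp Q v v'))
    (hψ : ∀ w : ↥(perp Q v v'), ((ψ w : ↥(perp Q v v')) : V) = g (w : V)) :
    ∃ ρ : 𝒪 → 𝒪, ∀ x : X, ρ (D.orb x) = D.orb (act Q g x) := by
  classical
  refine ⟨fun O => D.orb (act Q g (Classical.choose (D.orb_surj O))), ?_⟩
  intro x
  have hy := Classical.choose_spec (D.orb_surj (D.orb x))
  set y := Classical.choose (D.orb_surj (D.orb x)) with hy_def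
  obtain ⟨w, hw⟩ := (D.orb_eq y x).1 hy
  show D.orb (act Q g y) = D.orb (act Q g x)
  rw [D.orb_eq]
  refine ⟨t • ψ w, ?_⟩
  rw [← act_conj Q hQ hdim hv g hg t hgv ψ hψ w y, hw]

theorem norm_perm (Q : QuadraticForm F V) (hQ : (QuadraticMap.polarBilin Q).Nondegenerate)
    (hdim : 5 ≤ finrank F V) {v v' : V} (hv : Q v = 0) (hv' : Q v' = 0)
    (hvv' : QuadraticMap.polar (⇑Q) v v' = 1) {X : Type*} [MulAction ↥(T Q) X] [Finite X]
    {𝒪 : Type*} (D : FamData Q v v' X 𝒪) (g : V ≃ₗ[F] V) (hg : g ∈ T Q) (t : F) (ht : t ≠ 0)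
    (hgv : g v = t • v) (ψ : ↥(perp Q v v') ≃ₗ[F] ↥(perp Q v v'))
    (hψ : ∀ w : ↥(perp Q v v'), ((ψ w : ↥(perp Q v v')) : V) = g (w : V)) :
    ∃ ρ : Equiv.Perm 𝒪, (∀ x : X, ρ (D.orb x) = D.orb (act Q g x)) ∧
      ∀ O w, w ∈ D.C O ↔ t⁻¹ • ψ w ∈ D.C (ρ O) := by
  classical
  have hgO : g ∈ oG (⇑Q) := T_le_oG Q hg
  have hg' : g⁻¹ ∈ T Q := Subgroup.inv_mem _ hg
  have hBnd : (Bp Q v v').Nondegenerate := nondegenerate_perp hQ hv hv' hvv'
  have hBs : ∀ x y, Bp Q v v' x y = Bp Q v v' y x := by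
    intro x y
    show QuadraticMap.polarBilin (Qp Q v v') x y = QuadraticMap.polarBilin (Qp Q v v') y x
    rw [QuadraticMap.polarBilin_apply_apply, QuadraticMap.polarBilin_apply_apply,
      QuadraticMap.polar_comm]
  -- data for the inverse
  have hgv' : g⁻¹ v = t⁻¹ • v := by
    have : g (t⁻¹ • v) = v := by rw [map_smul, hgv, smul_smul, inv_mul_cancel₀ ht, one_smul]
    calc g⁻¹ v = g⁻¹ (g (t⁻¹ • v)) := by rw [this]
      _ = t⁻¹ • v := by
        rw [← LinearEquiv.mul_apply, inv_mul_cancel]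
        rfl
  have hψ' : ∀ w : ↥(perp Q v v'), ((ψ.symm w : ↥(perp Q v v')) : V) = g⁻¹ (w : V) := by
    intro w
    have : g ((ψ.symm w : ↥(perp Q v v')) : V) = (w : V) := by
      rw [← hψ, LinearEquiv.apply_symm_apply]
    calc ((ψ.symm w : ↥(perp Q v v')) : V)
        = g⁻¹ (g ((ψ.symm w : ↥(perp Q v v')) : V)) := by
          rw [← LinearEquiv.mul_apply, inv_mul_cancel]
          rfl
      _ = g⁻¹ (w : V) := by rw [this]
  obtain ⟨ρ, hρ⟩ := exists_fun Q hQ hdim hv D g hg t hgv ψ hψ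
  obtain ⟨ρ', hρ'⟩ := exists_fun Q hQ hdim hv D g⁻¹ hg' t⁻¹ hgv' ψ.symm hψ'
  have hginv : ∀ x : X, act Q g⁻¹ (act Q g x) = x := by
    intro x
    rw [← act_mul Q hg' hg, inv_mul_cancel, act_one]
  have hginv' : ∀ x : X, act Q g (act Q g⁻¹ x) = x := by
    intro x
    rw [← act_mul Q hg hg', mul_inv_cancel, act_one]
  let ρe : Equiv.Perm 𝒪 :=
    { toFun := ρ
      invFun := ρ'
      left_inv := by
        intro O
        obtain ⟨x, rfl⟩ := D.orb_surj O
        rw [hρ, hρ', hginv]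
      right_inv := by
        intro O
        obtain ⟨x, rfl⟩ := D.orb_surj O
        rw [hρ', hρ, hginv'] }
  refine ⟨ρe, hρ, ?_⟩
  intro O w
  obtain ⟨x, rfl⟩ := D.orb_surj O
  show w ∈ D.C (D.orb x) ↔ t⁻¹ • ψ w ∈ D.C (ρ (D.orb x))
  rw [hρ]
  -- `ψ` is an isometry of the polar form of the complement
  have hiso : ∀ a b, Bp Q v v' (ψ a) (ψ b) = Bp Q v v' a b := by
    intro a b
    show QuadraticMap.polarBilin (Qp Q v v') (ψ a) (ψ b) = QuadraticMap.polarBilin (Qp Q v v') a b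
    rw [QuadraticMap.polarBilin_apply_apply, QuadraticMap.polarBilin_apply_apply,
      polar_comp_subtype, polar_comp_subtype, hψ, hψ, oG_polar Q hgO]
  -- stabilisers
  have hmap : (ann (Bp Q v v') (D.C (D.orb x))).map
      ((t • (ψ : ↥(perp Q v v') →ₗ[F] ↥(perp Q v v'))).toAddMonoidHom) =
      ann (Bp Q v v') (D.C (D.orb (act Q g x))) := by
    ext w'
    rw [AddSubgroup.mem_map, ← D.stab (act Q g x) w']
    constructor
    · rintro ⟨w₀, hw₀, rfl⟩
      rw [← D.stab x w₀] at hw₀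
      show act Q (E Q v ((t • ψ w₀ : ↥(perp Q v v')) : V)) (act Q g x) = act Q g x
      rw [← act_conj Q hQ hdim hv g hg t hgv ψ hψ w₀ x, hw₀]
    · intro hw'
      refine ⟨t⁻¹ • ψ.symm w', ?_, ?_⟩
      · rw [← D.stab x]
        have e1 : t • ψ (t⁻¹ • ψ.symm w') = w' := by
          rw [map_smul, LinearEquiv.apply_symm_apply, smul_smul, mul_inv_cancel₀ ht, one_smul]
        have h1 := act_conj Q hQ hdim hv g hg t hgv ψ hψ (t⁻¹ • ψ.symm w') x
        rw [e1, hw'] at h1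
        have h2 := congrArg (act Q g⁻¹) h1
        rw [hginv, hginv] at h2
        exact h2
      · show t • ψ (t⁻¹ • ψ.symm w') = w'
        rw [map_smul, LinearEquiv.apply_symm_apply, smul_smul, mul_inv_cancel₀ ht, one_smul]
  have h1 := Cfsg.Agent.Lib.Helper69_MIO_DUAL.mem_ann_map (Bp Q v v')
    (ann (Bp Q v v') (D.C (D.orb x))) ψ hiso t ht w
  rw [hmap, Cfsg.Agent.Lib.Helper69_MIO_DUAL.ann_ann (Bp Q v v') hBnd hBs,
    Cfsg.Agent.Lib.Helper69_MIO_DUAL.ann_ann (Bp Q v v') hBnd hBs] at h1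
  exact h1

end Cfsg.Agent.Lib.Helper20_MIO_NORM
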