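import Mathlib
import Cfsg.Agent.Lib.Helper38_MIODefs
import Cfsg.Agent.Lib.Helper10_MIO_CNTD
import Cfsg.Agent.Lib.Helper91_MIO_CNTMINUS

/-!
# MIO wave 3b package MIO-CNTPLUS (architect helper38, proof helper91)

Level-set counts of the complement of a hyperbolic plane, even dimension, plus type.
-/

set_option autoImplicit false

namespace Cfsg.Agent.Lib.Helper91_MIO_CNTPLUS

open Module Cfsg.Agent.Lib.Helper94_OrthSmall Cfsg.Agent.Lib.Helper44_QuadClass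
  Cfsg.Agent.Lib.Helper14_OmegaSimple Cfsg.Agent.Lib.Helper38_MIODefs
  Cfsg.Agent.Lib.Helper91_MIO_CNTMINUS

variable {F V : Type*} [Field F] [Fintype F] [AddCommGroup V] [Module F V] [FiniteDimensional F V]

/-! ## MIO-CNTPLUS (M) -/
theorem counts_perp_plus (Q : QuadraticForm F V) {v v' : V} (hv : Q v = 0) (hv' : Q v' = 0)
    (hvv' : QuadraticMap.polar (⇑Q) v v' = 1) (m : ℕ) (hm : 2 ≤ m)
    (hdW : finrank F ↥(perp Q v v') = 2 * (m - 1))
    (hZ : Nat.card {x : V // Q x = 0} =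
      Fintype.card F ^ (2 * m - 1) + Fintype.card F ^ m - Fintype.card F ^ (m - 1))
    (hL : ∀ c : F, c ≠ 0 →
      Nat.card {x : V // Q x = c} = Fintype.card F ^ (2 * m - 1) - Fintype.card F ^ (m - 1)) :
    Nat.card {x : ↥(perp Q v v') // Qp Q v v' x = 0} =
      Fintype.card F ^ (2 * (m - 1) - 1) + Fintype.card F ^ (m - 1) - Fintype.card F ^ (m - 1 - 1) ∧
    Nat.card {x : ↥(perp Q v v') // x ≠ 0 ∧ Qp Q v v' x = 0} =
      Fintype.card F ^ (2 * (m - 1) - 1) + Fintype.card F ^ (m - 1) - Fintype.card F ^ (m - 1 - 1) - 1 ∧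
    ∀ c : F, c ≠ 0 → Nat.card {x : ↥(perp Q v v') // Qp Q v v' x = c} =
      Fintype.card F ^ (2 * (m - 1) - 1) - Fintype.card F ^ (m - 1 - 1) := by
  obtain ⟨j, rfl⟩ : ∃ j, m = j + 2 := ⟨m - 2, by omega⟩
  obtain ⟨q, hqdef⟩ : ∃ q, q = Fintype.card F := ⟨_, rfl⟩
  have hq2 : 2 ≤ q := by rw [hqdef]; exact Fintype.one_lt_card
  have hcnt := level_eq Q hv hv' hvv' j hdW
  rw [← hqdef] at hZ hL hcnt ⊢
  have e1 : 2 * (j + 2) - 1 = 3 + j * 2 := by omega
  have e2 : j + 2 - 1 = 1 + j := by omega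
  have e3 : 2 * (j + 2 - 1) - 1 = 1 + j * 2 := by omega
  have e4 : 1 + j - 1 = j := by omega
  have e5 : j + 2 = 2 + j := by omega
  rw [e1, e2, e5] at hZ
  rw [e3, e2, e4]
  have hx1 : 1 ≤ q ^ j := Nat.one_le_pow _ _ (by omega)
  have p1 : q ^ (3 + j * 2) = q ^ 3 * (q ^ j) ^ 2 := by rw [pow_add, pow_mul]
  have p2 : q ^ (2 + j) = q ^ 2 * q ^ j := by rw [pow_add]
  have p3 : q ^ (1 + j) = q * q ^ j := by rw [pow_add, pow_one]
  have p4 : q ^ (1 + j * 2) = q * (q ^ j) ^ 2 := by rw [pow_add, pow_mul, pow_one]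
  rw [p1, p2, p3] at hZ
  rw [p4, p3]
  have hL' : ∀ c : F, c ≠ 0 → Nat.card {x : V // Q x = c} = q ^ 3 * (q ^ j) ^ 2 - q * q ^ j := by
    intro c hc
    rw [hL c hc, e1, e2, p1, p3]
  generalize q ^ j = x at *
  have hle1 : q * x ≤ q ^ 3 * x ^ 2 + q ^ 2 * x := by
    calc q * x = q * x * 1 := (mul_one _).symm
      _ ≤ q * x * q := Nat.mul_le_mul_left _ (by omega)
      _ = q ^ 2 * x := by ring
      _ ≤ q ^ 3 * x ^ 2 + q ^ 2 * x := Nat.le_add_left _ _
  have hle2 : x ≤ q * x ^ 2 + q * x := by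
    calc x = 1 * x := (one_mul _).symm
      _ ≤ q * x := Nat.mul_le_mul_right _ (by omega)
      _ ≤ q * x ^ 2 + q * x := Nat.le_add_left _ _
  have hle3 : q * x ≤ q ^ 3 * x ^ 2 := by
    calc q * x = q * x * 1 := (mul_one _).symm
      _ ≤ q * x * (q ^ 2 * x) := Nat.mul_le_mul_left _ (Nat.mul_pos (by positivity) hx1)
      _ = q ^ 3 * x ^ 2 := by ring
  have hle4 : x ≤ q * x ^ 2 := by
    calc x = 1 * x := (one_mul _).symm
      _ ≤ q * x * x := Nat.mul_le_mul_right _ (Nat.mul_pos (by omega) hx1)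
      _ = q * x ^ 2 := by ring
  have hW0 : Nat.card {x : ↥(perp Q v v') // Qp Q v v' x = 0} = q * x ^ 2 + q * x - x := by
    have hc0 := hcnt 0
    have hcast := solve_level q x _ _ hq2
      ((q : ℤ) * (x : ℤ) ^ 2 + (q : ℤ) * x - x) ?_ hc0
    · have : ((q * x ^ 2 + q * x - x : ℕ) : ℤ) = (q : ℤ) * (x : ℤ) ^ 2 + (q : ℤ) * x - x := by
        push_cast [Nat.cast_sub hle2]
        ring
      rw [← this] at hcast
      exact_mod_cast hcast
    · rw [hZ]
      push_cast [Nat.cast_sub hle1]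
      ring
  refine ⟨hW0, ?_, ?_⟩
  · have := card_nonzero_add_one Q v v'
    omega
  · intro c hc
    have hcc := hcnt c
    have hcast := solve_level q x _ _ hq2 ((q : ℤ) * (x : ℤ) ^ 2 - x) ?_ hcc
    · have : ((q * x ^ 2 - x : ℕ) : ℤ) = (q : ℤ) * (x : ℤ) ^ 2 - x := by
        push_cast [Nat.cast_sub hle4]
        ring
      rw [← this] at hcast
      exact_mod_cast hcast
    · rw [hL' c hc]
      push_cast [Nat.cast_sub hle3]
      ring

end Cfsg.Agent.Lib.Helper91_MIO_CNTPLUS
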