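import Mathlib
import Cfsg.Agent.Lib.Helper38_MIODefs

set_option autoImplicit false

/-!
Definitions for S2345 (helper95, architect): minimal degree of a non-trivial irreducible complex
representation of `Ω⁺_{2n}(q)`, `q > 3`, `n ≥ 4`.

Setting (as in helper38's `MIODefs`): `G = T Q` (generated by the Siegel elements `E Q u z`), `v, v'` a
hyperbolic pair, `W = perp Q v v'`, `R = {E Q v w : w ∈ W}` (abelian, `≅ (W,+)`).  A complex representation
`ρ` of `T Q` restricted to `R` splits into the weight spaces `wsp Q ρ ψ v v' u`, `u ∈ W`, on which `E Q v w`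
acts by the scalar `ψ (B(u,w))` (`ψ` a non-trivial additive character of `F`).
-/

namespace Cfsg.Agent.Lib.Helper95_OPDefs

open Module Cfsg.Agent.Lib.Helper94_OrthSmall Cfsg.Agent.Lib.Helper44_QuadClass
  Cfsg.Agent.Lib.Helper14_OmegaSimple Cfsg.Agent.Lib.Helper38_MIODefs

/-- The target degree `d⁺_n = (q^n - 1)(q^(n-1) + q)/(q^2 - 1)`. -/
def dplus (q n : ℕ) : ℕ := (q ^ n - 1) * (q ^ (n - 1) + q) / (q ^ 2 - 1)

/-- The number of non-zero singular vectors of a plus-type space of dimension `2m`. -/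
def sing (q m : ℕ) : ℕ := q ^ (2 * m - 1) + q ^ m - q ^ (m - 1) - 1

section defs

variable {F V : Type*} [Field F] [AddCommGroup V] [Module F V]

/-- Plus type of rank `m` (dimension `2m`), recognised by the level-set counts (the shape used by
`Helper91_MIO_CNTPLUS.counts_perp_plus`). -/
structure IsPlus [Fintype F] (Q : QuadraticForm F V) (m : ℕ) : Prop where
  nondeg : (QuadraticMap.polarBilin Q).Nondegenerate
  dim : finrank F V = 2 * m
  zeros : Nat.card {x : V // Q x = 0} =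
    Fintype.card F ^ (2 * m - 1) + Fintype.card F ^ m - Fintype.card F ^ (m - 1)
  level : ∀ c : F, c ≠ 0 →
    Nat.card {x : V // Q x = c} = Fintype.card F ^ (2 * m - 1) - Fintype.card F ^ (m - 1)

variable (Q : QuadraticForm F V)

/-- A representation of `T Q` evaluated at a linear equivalence; elements outside `T Q` act trivially. -/
noncomputable def repE {X : Type*} [AddCommGroup X] [Module ℂ X] (ρ : Representation ℂ ↥(T Q) X)
    (g : V ≃ₗ[F] V) : Module.End ℂ X :=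
  open Classical in if h : g ∈ T Q then ρ ⟨g, h⟩ else 1

theorem repE_of_mem {X : Type*} [AddCommGroup X] [Module ℂ X] (ρ : Representation ℂ ↥(T Q) X)
    {g : V ≃ₗ[F] V} (h : g ∈ T Q) : repE Q ρ g = ρ ⟨g, h⟩ := by
  unfold repE
  rw [dif_pos h]

theorem repE_one {X : Type*} [AddCommGroup X] [Module ℂ X] (ρ : Representation ℂ ↥(T Q) X) :
    repE Q ρ (1 : V ≃ₗ[F] V) = 1 := by
  rw [repE_of_mem Q ρ (Subgroup.one_mem _)]
  exact map_one ρ

theorem repE_mul {X : Type*} [AddCommGroup X] [Module ℂ X] (ρ : Representation ℂ ↥(T Q) X)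
    {g h : V ≃ₗ[F] V} (hg : g ∈ T Q) (hh : h ∈ T Q) :
    repE Q ρ (g * h) = repE Q ρ g * repE Q ρ h := by
  rw [repE_of_mem Q ρ (Subgroup.mul_mem _ hg hh), repE_of_mem Q ρ hg, repE_of_mem Q ρ hh, ← map_mul]
  rfl

theorem repE_coe {X : Type*} [AddCommGroup X] [Module ℂ X] (ρ : Representation ℂ ↥(T Q) X)
    (g : ↥(T Q)) : repE Q ρ (g : V ≃ₗ[F] V) = ρ g := by
  rw [repE_of_mem Q ρ g.2]

/-- The weight space of label `u ∈ W = perp Q v v'`: `E Q v w` acts by the scalar `ψ (B(u,w))`. -/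
def wsp {X : Type*} [AddCommGroup X] [Module ℂ X] (ρ : Representation ℂ ↥(T Q) X) (ψ : AddChar F ℂ)
    (v v' : V) (u : ↥(perp Q v v')) : Submodule ℂ X where
  carrier := {x | ∀ w : ↥(perp Q v v'),
    repE Q ρ (E Q v (w : V)) x = ψ (QuadraticMap.polar (⇑Q) (u : V) (w : V)) • x}
  add_mem' := by
    intro a b ha hb w
    rw [map_add, ha w, hb w, smul_add]
  zero_mem' := by
    intro w
    simp
  smul_mem' := by
    intro c a ha w
    rw [map_smul, ha w, smul_comm]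

theorem mem_wsp {X : Type*} [AddCommGroup X] [Module ℂ X] (ρ : Representation ℂ ↥(T Q) X)
    (ψ : AddChar F ℂ) (v v' : V) (u : ↥(perp Q v v')) (x : X) :
    x ∈ wsp Q ρ ψ v v' u ↔ ∀ w : ↥(perp Q v v'),
      repE Q ρ (E Q v (w : V)) x = ψ (QuadraticMap.polar (⇑Q) (u : V) (w : V)) • x := Iff.rfl

/-- Every irreducible complex representation of `T Q` of degree at least two has degree at least `d`. -/
def MinDegT (d : ℕ) : Prop :=
  ∀ (X : Type) [AddCommGroup X] [Module ℂ X] [FiniteDimensional ℂ X]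
    (ρ : Representation ℂ ↥(T Q) X), ρ.IsIrreducible → 2 ≤ finrank ℂ X → d ≤ finrank ℂ X

/-- The numerical weight data: the non-zero singular labels have common multiplicity `e`, the
non-singular labels do not occur, the label `0` has multiplicity `f`. -/
structure WData {X : Type*} [AddCommGroup X] [Module ℂ X] (ρ : Representation ℂ ↥(T Q) X)
    (ψ : AddChar F ℂ) (v v' : V) (e f : ℕ) : Prop where
  he : ∀ u : ↥(perp Q v v'), u ≠ 0 → Qp Q v v' u = 0 → finrank ℂ (wsp Q ρ ψ v v' u) = e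
  hns : ∀ u : ↥(perp Q v v'), Qp Q v v' u ≠ 0 → wsp Q ρ ψ v v' u = ⊥
  hf : finrank ℂ (wsp Q ρ ψ v v' 0) = f
  hD : finrank ℂ X = f + e * Nat.card {u : ↥(perp Q v v') // u ≠ 0 ∧ Qp Q v v' u = 0}

/-- A Levi embedding `T (Q|W) →* T Q`: extension by the identity on `⟨v, v'⟩`. -/
structure LeviHom (v v' : V) where
  ι : ↥(T (Qp Q v v')) →* ↥(T Q)
  apply_coe : ∀ (g : ↥(T (Qp Q v v'))) (w : ↥(perp Q v v')),
    ((ι g : ↥(T Q)) : V ≃ₗ[F] V) (w : V) =
      (((g : ↥(perp Q v v') ≃ₗ[F] ↥(perp Q v v')) w : ↥(perp Q v v')) : V)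
  apply_v : ∀ g : ↥(T (Qp Q v v')), ((ι g : ↥(T Q)) : V ≃ₗ[F] V) v = v
  apply_v' : ∀ g : ↥(T (Qp Q v v')), ((ι g : ↥(T Q)) : V ≃ₗ[F] V) v' = v'

/-- The representation of the Levi factor `T (Q|W)` on the fixed space `wsp 0`, given its invariance. -/
def sigmaRep {X : Type*} [AddCommGroup X] [Module ℂ X] (ρ : Representation ℂ ↥(T Q) X)
    (ψ : AddChar F ℂ) (v v' : V) (L : LeviHom Q v v')
    (hinv : ∀ (g : ↥(T (Qp Q v v'))) (x : X), x ∈ wsp Q ρ ψ v v' 0 → ρ (L.ι g) x ∈ wsp Q ρ ψ v v' 0) :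
    Representation ℂ ↥(T (Qp Q v v')) ↥(wsp Q ρ ψ v v' 0) where
  toFun g := (ρ (L.ι g)).restrict (p := wsp Q ρ ψ v v' 0) (q := wsp Q ρ ψ v v' 0) (hinv g)
  map_one' := by
    ext x
    simp
  map_mul' g h := by
    ext x
    simp

theorem sigmaRep_apply {X : Type*} [AddCommGroup X] [Module ℂ X] (ρ : Representation ℂ ↥(T Q) X)
    (ψ : AddChar F ℂ) (v v' : V) (L : LeviHom Q v v')
    (hinv : ∀ (g : ↥(T (Qp Q v v'))) (x : X), x ∈ wsp Q ρ ψ v v' 0 → ρ (L.ι g) x ∈ wsp Q ρ ψ v v' 0)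
    (g : ↥(T (Qp Q v v'))) (x : ↥(wsp Q ρ ψ v v' 0)) :
    ((sigmaRep Q ρ ψ v v' L hinv g x : ↥(wsp Q ρ ψ v v' 0)) : X) = ρ (L.ι g) (x : X) := rfl

end defs

end Cfsg.Agent.Lib.Helper95_OPDefs
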