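import Mathlib
import Cfsg.Agent.Lib.Helper95_OPDefs
import Cfsg.Agent.Lib.Helper20_MIO_NORM
import Cfsg.Agent.Lib.Helper91_MIO_CNTPLUS

set_option autoImplicit false

/-!
Basic lemmas for S2345 (helper95): the normaliser of the radical `R = {E Q v w}` permutes the weight
spaces; the complement of a hyperbolic pair in a plus-type space is of plus type.
-/

namespace Cfsg.Agent.Lib.Helper95_OPBasic

open Module Cfsg.Agent.Lib.Helper94_OrthSmall Cfsg.Agent.Lib.Helper44_QuadClass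
  Cfsg.Agent.Lib.Helper14_OmegaSimple Cfsg.Agent.Lib.Helper38_MIODefs
  Cfsg.Agent.Lib.Helper95_OPDefs Cfsg.Agent.Lib.Helper20_MIO_NORM

variable {F V : Type*} [Field F] [Fintype F] [AddCommGroup V] [Module F V] [FiniteDimensional F V]
  {X : Type*} [AddCommGroup X] [Module ℂ X]

/-- `g E(v,w) = E(v, t φ w) g` for `g ∈ T Q` with `g v = t v` restricting to `φ` on `W`. -/
theorem conj_rad (Q : QuadraticForm F V) {v v' : V} (hv : Q v = 0)
    (g : V ≃ₗ[F] V) (hg : g ∈ T Q) (t : F)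
    (hgv : g v = t • v) (φ : ↥(perp Q v v') ≃ₗ[F] ↥(perp Q v v'))
    (hφ : ∀ w : ↥(perp Q v v'), ((φ w : ↥(perp Q v v')) : V) = g (w : V))
    (w : ↥(perp Q v v')) :
    g * E Q v (w : V) = E Q v ((t • φ w : ↥(perp Q v v')) : V) * g := by
  have hgO : g ∈ oG (⇑Q) := T_le_oG Q hg
  have h1 := conj_E Q hgO hv (polar_v_perp Q w)
  rw [hgv, ← hφ w, E_smul_left Q hv (polar_v_perp Q (φ w)) t, mul_inv_eq_iff_eq_mul] at h1
  rw [h1]
  rfl

/-- The radical elements lie in `T Q`. -/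
theorem rad_mem (Q : QuadraticForm F V) (hQ : (QuadraticMap.polarBilin Q).Nondegenerate)
    (hdim : 5 ≤ finrank F V) {v v' : V} (hv : Q v = 0) (w : ↥(perp Q v v')) :
    E Q v (w : V) ∈ T Q :=
  E_mem_T Q hQ hdim hv (polar_v_perp Q w)

/-- An element of `T Q` scaling `v` by `t` and restricting to `φ` on `W` maps the weight space of `u` into
the weight space of `t⁻¹ • φ u`. -/
theorem wsp_map (Q : QuadraticForm F V) (hQ : (QuadraticMap.polarBilin Q).Nondegenerate)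
    (hdim : 5 ≤ finrank F V) {v v' : V} (hv : Q v = 0)
    (ρ : Representation ℂ ↥(T Q) X) (ψ : AddChar F ℂ)
    (g : V ≃ₗ[F] V) (hg : g ∈ T Q) (t : F) (ht : t ≠ 0)
    (hgv : g v = t • v) (φ : ↥(perp Q v v') ≃ₗ[F] ↥(perp Q v v'))
    (hφ : ∀ w : ↥(perp Q v v'), ((φ w : ↥(perp Q v v')) : V) = g (w : V))
    (u : ↥(perp Q v v')) (x : X) (hx : x ∈ wsp Q ρ ψ v v' u) :
    repE Q ρ g x ∈ wsp Q ρ ψ v v' (t⁻¹ • φ u) := by
  have hgO : g ∈ oG (⇑Q) := T_le_oG Q hg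
  intro w₂
  -- `w₂ = t • φ w`
  obtain ⟨w, hw⟩ : ∃ w : ↥(perp Q v v'), t • φ w = w₂ := by
    refine ⟨φ.symm (t⁻¹ • w₂), ?_⟩
    rw [LinearEquiv.apply_symm_apply, smul_smul, mul_inv_cancel₀ ht, one_smul]
  have hconj := conj_rad Q hv g hg t hgv φ hφ w
  rw [hw] at hconj
  have h1 : repE Q ρ (E Q v (w₂ : V)) (repE Q ρ g x) = repE Q ρ g (repE Q ρ (E Q v (w : V)) x) := by
    rw [← Module.End.mul_apply, ← repE_mul Q ρ (rad_mem Q hQ hdim hv w₂) hg, ← hconj,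
      repE_mul Q ρ hg (rad_mem Q hQ hdim hv w), Module.End.mul_apply]
  rw [h1, hx w, map_smul]
  congr 2
  -- `B(u, w) = B(t⁻¹ φ u, w₂)`
  have h2 : QuadraticMap.polar (⇑Q) ((φ u : ↥(perp Q v v')) : V) ((φ w : ↥(perp Q v v')) : V) =
      QuadraticMap.polar (⇑Q) (u : V) (w : V) := by
    rw [hφ, hφ, oG_polar Q hgO]
  rw [← hw]
  simp only [Submodule.coe_smul, QuadraticMap.polar_smul_left, QuadraticMap.polar_smul_right,
    smul_eq_mul]
  rw [h2, ← mul_assoc, mul_inv_cancel₀ ht, one_mul]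

/-- The inverse of an element scaling `v` and preserving `W`. -/
theorem inv_data (Q : QuadraticForm F V) {v v' : V}
    (g : V ≃ₗ[F] V) (t : F) (ht : t ≠ 0)
    (hgv : g v = t • v) (φ : ↥(perp Q v v') ≃ₗ[F] ↥(perp Q v v'))
    (hφ : ∀ w : ↥(perp Q v v'), ((φ w : ↥(perp Q v v')) : V) = g (w : V)) :
    g⁻¹ v = t⁻¹ • v ∧
      ∀ w : ↥(perp Q v v'), ((φ.symm w : ↥(perp Q v v')) : V) = g⁻¹ (w : V) := by
  constructor
  · have : g (t⁻¹ • v) = v := by rw [map_smul, hgv, smul_smul, inv_mul_cancel₀ ht, one_smul]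
    calc g⁻¹ v = g⁻¹ (g (t⁻¹ • v)) := by rw [this]
      _ = t⁻¹ • v := g.symm_apply_apply _
  · intro w
    have : g ((φ.symm w : ↥(perp Q v v')) : V) = (w : V) := by
      rw [← hφ, LinearEquiv.apply_symm_apply]
    calc ((φ.symm w : ↥(perp Q v v')) : V) = g⁻¹ (g ((φ.symm w : ↥(perp Q v v')) : V)) :=
          (g.symm_apply_apply _).symm
      _ = g⁻¹ (w : V) := by rw [this]

/-- `wsp_map` is a bijection: the two weight spaces have the same dimension. -/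
theorem finrank_wsp_map [FiniteDimensional ℂ X] (Q : QuadraticForm F V)
    (hQ : (QuadraticMap.polarBilin Q).Nondegenerate)
    (hdim : 5 ≤ finrank F V) {v v' : V} (hv : Q v = 0)
    (ρ : Representation ℂ ↥(T Q) X) (ψ : AddChar F ℂ)
    (g : V ≃ₗ[F] V) (hg : g ∈ T Q) (t : F) (ht : t ≠ 0)
    (hgv : g v = t • v) (φ : ↥(perp Q v v') ≃ₗ[F] ↥(perp Q v v'))
    (hφ : ∀ w : ↥(perp Q v v'), ((φ w : ↥(perp Q v v')) : V) = g (w : V))
    (u : ↥(perp Q v v')) :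
    finrank ℂ (wsp Q ρ ψ v v' u) = finrank ℂ (wsp Q ρ ψ v v' (t⁻¹ • φ u)) := by
  have hgi : g⁻¹ ∈ T Q := Subgroup.inv_mem _ hg
  have h1 : repE Q ρ g * repE Q ρ g⁻¹ = 1 := by
    rw [← repE_mul Q ρ hg hgi, mul_inv_cancel, repE_one]
  have h2 : repE Q ρ g⁻¹ * repE Q ρ g = 1 := by
    rw [← repE_mul Q ρ hgi hg, inv_mul_cancel, repE_one]
  let e : X ≃ₗ[ℂ] X := LinearEquiv.ofLinear (repE Q ρ g) (repE Q ρ g⁻¹) h1 h2
  have hmap : (wsp Q ρ ψ v v' u).map (e : X →ₗ[ℂ] X) = wsp Q ρ ψ v v' (t⁻¹ • φ u) := by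
    apply le_antisymm
    · rintro _ ⟨x, hx, rfl⟩
      exact wsp_map Q hQ hdim hv ρ ψ g hg t ht hgv φ hφ u x hx
    · intro y hy
      obtain ⟨hgv', hφ'⟩ := inv_data Q g t ht hgv φ hφ
      have hy' := wsp_map Q hQ hdim hv ρ ψ g⁻¹ hgi t⁻¹ (inv_ne_zero ht) hgv' φ.symm hφ'
        (t⁻¹ • φ u) y hy
      have hu : (t⁻¹)⁻¹ • φ.symm (t⁻¹ • φ u) = u := by
        rw [map_smul, LinearEquiv.symm_apply_apply, smul_smul, inv_inv, mul_inv_cancel₀ ht,
          one_smul]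
      rw [hu] at hy'
      refine ⟨repE Q ρ g⁻¹ y, hy', ?_⟩
      show repE Q ρ g (repE Q ρ g⁻¹ y) = y
      rw [← Module.End.mul_apply, h1]
      rfl
  rw [← hmap]
  exact (LinearEquiv.finrank_map_eq e _).symm

/-- The complement of a hyperbolic pair in a plus-type space of rank `m` is of plus type of rank `m - 1`. -/
theorem isPlus_perp (Q : QuadraticForm F V) (m : ℕ) (hm : 2 ≤ m) (hP : IsPlus Q m) {v v' : V}
    (hv : Q v = 0) (hv' : Q v' = 0) (hvv' : QuadraticMap.polar (⇑Q) v v' = 1) :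
    IsPlus (Qp Q v v') (m - 1) := by
  have hdW : finrank F ↥(perp Q v v') = 2 * (m - 1) := by
    have h1 := finrank_perp hv hv' hvv'
    have h2 := hP.dim
    omega
  obtain ⟨hZ, _, hL⟩ := Cfsg.Agent.Lib.Helper91_MIO_CNTPLUS.counts_perp_plus Q hv hv' hvv' m hm hdW
    hP.zeros hP.level
  exact ⟨nondegenerate_perp hP.nondeg hv hv' hvv', hdW, hZ, hL⟩

end Cfsg.Agent.Lib.Helper95_OPBasic
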