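import Mathlib
import Cfsg.Agent.Lib.Helper95_OPDefs
import Cfsg.Agent.Lib.Helper95_OPBasic
import Cfsg.Agent.Lib.Helper10_MIO_CNTD

set_option autoImplicit false

/-!
Definitions for S2344 (team helper12 / helper85 / helper68 / helper48): minimal degree of a non-trivial
irreducible complex representation of `Ω_{2n+1}(q)`, `q` odd, `q > 3`, `n ≥ 3`.
Vocabulary of helper95's `Helper95_OPDefs` (`repE`, `wsp`, `WData`, `LeviHom`, `sigmaRep`, `MinDegT`).
New here: the target degree `bodd q n = (q^(2n) - 1)/(q^2 - 1)` and the count-recognised odd type `IsOddT`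
(dimension `2m + 1`, `q^(2m)` singular vectors, every non-zero level set has at least `q^(2m) - q^m`
elements), which is closed under passing to the complement of a hyperbolic pair.
-/

namespace Cfsg.Agent.Lib.Helper48_OODefs

open Module Cfsg.Agent.Lib.Helper94_OrthSmall Cfsg.Agent.Lib.Helper44_QuadClass
  Cfsg.Agent.Lib.Helper14_OmegaSimple Cfsg.Agent.Lib.Helper38_MIODefs
  Cfsg.Agent.Lib.Helper95_OPDefs Cfsg.Agent.Lib.Helper95_OPBasic

/-- The target degree `B_n = (q^(2n) - 1)/(q^2 - 1) = 1 + q^2 + ⋯ + q^(2n-2)`. -/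
def bodd (q n : ℕ) : ℕ := (q ^ (2 * n) - 1) / (q ^ 2 - 1)

section defs

variable {F V : Type*} [Field F] [AddCommGroup V] [Module F V]

/-- Odd type of rank `m` (dimension `2m + 1`, Witt index `m`), recognised by the level-set counts. -/
structure IsOddT [Fintype F] (Q : QuadraticForm F V) (m : ℕ) : Prop where
  nondeg : (QuadraticMap.polarBilin Q).Nondegenerate
  dim : finrank F V = 2 * m + 1
  zeros : Nat.card {x : V // Q x = 0} = Fintype.card F ^ (2 * m)
  level : ∀ c : F, c ≠ 0 →
    Fintype.card F ^ (2 * m) - Fintype.card F ^ m ≤ Nat.card {x : V // Q x = c}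

end defs

section perp

variable {F V : Type*} [Field F] [Fintype F] [AddCommGroup V] [Module F V] [FiniteDimensional F V]

/-- The complement of a hyperbolic pair in an odd-type space of rank `m` is of odd type of rank `m - 1`. -/
theorem isOddT_perp (Q : QuadraticForm F V) (m : ℕ) (hm : 1 ≤ m) (hP : IsOddT Q m) {v v' : V}
    (hv : Q v = 0) (hv' : Q v' = 0) (hvv' : QuadraticMap.polar (⇑Q) v v' = 1) :
    IsOddT (Qp Q v v') (m - 1) := by
  have hdW : finrank F ↥(perp Q v v') = 2 * (m - 1) + 1 := by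
    have h1 := finrank_perp hv hv' hvv'
    have h2 := hP.dim
    omega
  obtain ⟨k, rfl⟩ : ∃ k, m = k + 1 := ⟨m - 1, by omega⟩
  rw [Nat.add_sub_cancel] at hdW ⊢
  have hq1 : 1 ≤ Fintype.card F := Fintype.card_pos
  have hcnt := fun c => Cfsg.Agent.Lib.Helper10_MIO_CNTD.card_level_perp Q hv hv' hvv' c
  simp only [hdW] at hcnt
  have hz0 := hcnt 0
  rw [hP.zeros] at hz0
  have hlev : ∀ c : F, c ≠ 0 → Fintype.card F ^ (2 * (k + 1)) - Fintype.card F ^ (k + 1) ≤
      Fintype.card F * Nat.card {w : ↥(perp Q v v') // Q (w : V) = c} +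
        (Fintype.card F - 1) * Fintype.card F ^ (2 * k + 1) := by
    intro c hc
    rw [← hcnt c]
    exact hP.level c hc
  refine ⟨nondegenerate_perp hP.nondeg hv hv' hvv', hdW, ?_, ?_⟩
  · show Nat.card {w : ↥(perp Q v v') // Q (w : V) = 0} = Fintype.card F ^ (2 * k)
    generalize Nat.card {w : ↥(perp Q v v') // Q (w : V) = 0} = N at hz0
    generalize Fintype.card F = q at hz0 hq1
    have e1 : q ^ (2 * (k + 1)) = q * q ^ (2 * k + 1) := by
      rw [← pow_succ']; congr 1
    have e2 : q ^ (2 * k + 1) = q * q ^ (2 * k) := by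
      rw [← pow_succ']
    have h4 : (q - 1) * q ^ (2 * k + 1) + q ^ (2 * k + 1) = q * q ^ (2 * k + 1) := by
      rw [← Nat.succ_mul]; congr 1; omega
    have h5 : q * N = q * q ^ (2 * k) := by rw [← e2]; omega
    exact Nat.eq_of_mul_eq_mul_left (by omega) h5
  · intro c hc
    have h1 := hlev c hc
    show Fintype.card F ^ (2 * k) - Fintype.card F ^ k ≤
      Nat.card {w : ↥(perp Q v v') // Q (w : V) = c}
    generalize Nat.card {w : ↥(perp Q v v') // Q (w : V) = c} = N at h1
    generalize Fintype.card F = q at h1 hq1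
    have e1 : q ^ (2 * (k + 1)) = q * q ^ (2 * k + 1) := by
      rw [← pow_succ']; congr 1
    have e2 : q ^ (2 * k + 1) = q * q ^ (2 * k) := by
      rw [← pow_succ']
    have e3 : q ^ (k + 1) = q * q ^ k := by
      rw [← pow_succ']
    have h4 : (q - 1) * q ^ (2 * k + 1) + q ^ (2 * k + 1) = q * q ^ (2 * k + 1) := by
      rw [← Nat.succ_mul]; congr 1; omega
    have h5 : q * q ^ (2 * k) - q * q ^ k ≤ q * N := by rw [← e2]; omega
    rw [← Nat.mul_sub] at h5
    exact Nat.le_of_mul_le_mul_left h5 (by omega)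

/-- The number of non-zero singular vectors of the complement. -/
theorem card_sing_perp (Q : QuadraticForm F V) (m : ℕ) (hm : 1 ≤ m) (hP : IsOddT Q m) {v v' : V}
    (hv : Q v = 0) (hv' : Q v' = 0) (hvv' : QuadraticMap.polar (⇑Q) v v' = 1) :
    Nat.card {x : ↥(perp Q v v') // x ≠ 0 ∧ Qp Q v v' x = 0} = Fintype.card F ^ (2 * (m - 1)) - 1 := by
  classical
  have hfinW : Finite ↥(perp Q v v') := Module.finite_of_finite F
  have hZ := (isOddT_perp Q m hm hP hv hv' hvv').zeros
  rw [← hZ]
  have h0 : (⟨0, map_zero _⟩ : {x : ↥(perp Q v v') // Qp Q v v' x = 0}) ∈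
      (Set.univ : Set {x : ↥(perp Q v v') // Qp Q v v' x = 0}) := Set.mem_univ _
  have e : {x : ↥(perp Q v v') // x ≠ 0 ∧ Qp Q v v' x = 0} ≃
      {y : {x : ↥(perp Q v v') // Qp Q v v' x = 0} // y ≠ ⟨0, map_zero _⟩} :=
    { toFun := fun x => ⟨⟨x.1, x.2.2⟩, fun h => x.2.1 (congrArg Subtype.val h)⟩
      invFun := fun y => ⟨y.1.1, fun h => y.2 (Subtype.ext h), y.1.2⟩
      left_inv := fun x => rfl
      right_inv := fun y => rfl }
  rw [Nat.card_congr e]
  have hfin : Finite {x : ↥(perp Q v v') // Qp Q v v' x = 0} := inferInstance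
  have := Fintype.ofFinite {x : ↥(perp Q v v') // Qp Q v v' x = 0}
  rw [Nat.card_eq_fintype_card, Nat.card_eq_fintype_card, Fintype.card_subtype_compl,
    Fintype.card_subtype_eq]

end perp

end Cfsg.Agent.Lib.Helper48_OODefs
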