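import Mathlib
import Cfsg.Agent.Lib.Helper95_OPDefs
import Cfsg.Agent.Lib.Helper95_OPBasic
import Cfsg.Agent.Lib.Helper48_OODefs

set_option autoImplicit false

/-!
Definitions for the STRUCTURAL INDUCTION proof of S2344 (helper87, cutter; text: pending/helper87/S2344_proof.md):
minimal degree of `Ω_{2n+1}(q)`, `q` odd, `q > 3`, `n ≥ 3`.

* `HPair`, `HQuad`: hyperbolic pairs and pairs of orthogonal hyperbolic pairs;
* `xr Q a b' s = E Q a (s • b')` (root element `x_{ab}(s)`), `nw Q a a' b b' t` (Weyl-type element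
  `x_{ab}(t) x_{ba}(-1/t) x_{ab}(t)`), `hh Q a a' b b' t = nw t * (nw 1)⁻¹` (torus element `h_{ab}(t)`:
  `a ↦ t a`, `b ↦ b/t`, `a' ↦ a'/t`, `b' ↦ t b'`) - all products of long root elements, hence in `T Q`;
* `fixE`, `fixL`: common fixed vectors of families of Siegel elements in a representation;
* `W1`, `Ysp`, `F2sp`, `Y2sp`, `Jop`: the spaces `Y = X^{R L'}`, `F_2 = (X^R)^{R_1}`, `Y_2 = F_2^{L''}` and the
  operator `J = ∑_s x(s) n` of the text;
* `thetaC`: the quadratic character with values in `ℂ`;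
* `Claim F n`: the statement `CLAIM(n)` proved by induction on `n`.
-/

namespace Cfsg.Agent.Lib.Helper87_OO2Defs

open Module Cfsg.Agent.Lib.Helper94_OrthSmall Cfsg.Agent.Lib.Helper44_QuadClass
  Cfsg.Agent.Lib.Helper14_OmegaSimple Cfsg.Agent.Lib.Helper38_MIODefs
  Cfsg.Agent.Lib.Helper95_OPDefs Cfsg.Agent.Lib.Helper95_OPBasic Cfsg.Agent.Lib.Helper48_OODefs

section frame

variable {F V : Type*} [Field F] [AddCommGroup V] [Module F V] (Q : QuadraticForm F V)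

/-- A hyperbolic pair. -/
structure HPair (a a' : V) : Prop where
  qa : Q a = 0
  qa' : Q a' = 0
  aa' : QuadraticMap.polar (⇑Q) a a' = 1

/-- Two orthogonal hyperbolic pairs. -/
structure HQuad (a a' b b' : V) : Prop where
  pa : HPair Q a a'
  pb : HPair Q b b'
  ab : QuadraticMap.polar (⇑Q) a b = 0
  ab' : QuadraticMap.polar (⇑Q) a b' = 0
  a'b : QuadraticMap.polar (⇑Q) a' b = 0
  a'b' : QuadraticMap.polar (⇑Q) a' b' = 0

theorem HQuad.of_mem_perp {a a' b b' : V} (ha : HPair Q a a') (hb : HPair Q b b')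
    (h1 : b ∈ perp Q a a') (h2 : b' ∈ perp Q a a') : HQuad Q a a' b b' :=
  ⟨ha, hb, ((mem_perp Q a a').1 h1).1, ((mem_perp Q a a').1 h2).1, ((mem_perp Q a a').1 h1).2,
    ((mem_perp Q a a').1 h2).2⟩

theorem HQuad.mem_perp {a a' b b' : V} (h : HQuad Q a a' b b') :
    b ∈ perp Q a a' ∧ b' ∈ perp Q a a' :=
  ⟨(Cfsg.Agent.Lib.Helper44_QuadClass.mem_perp Q a a').2 ⟨h.ab, h.a'b⟩,
    (Cfsg.Agent.Lib.Helper44_QuadClass.mem_perp Q a a').2 ⟨h.ab', h.a'b'⟩⟩

theorem HQuad.symm {a a' b b' : V} (h : HQuad Q a a' b b') : HQuad Q b b' a a' :=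
  ⟨h.pb, h.pa, by rw [QuadraticMap.polar_comm]; exact h.ab,
    by rw [QuadraticMap.polar_comm]; exact h.a'b,
    by rw [QuadraticMap.polar_comm]; exact h.ab',
    by rw [QuadraticMap.polar_comm]; exact h.a'b'⟩

/-- The root element `x_{ab}(s) = E(a, s b')`: `b ↦ b - s a`, `a' ↦ a' + s b'`, identity on `a`, `b'`
and on the vectors orthogonal to `a, a', b, b'`. -/
noncomputable def xr (a b' : V) (s : F) : V ≃ₗ[F] V := E Q a (s • b')

/-- The Weyl-type element `n_{ab}(t) = x_{ab}(t) x_{ba}(-1/t) x_{ab}(t)`: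
`a ↦ b/t`, `b ↦ -t a`, `a' ↦ t b'`, `b' ↦ -a'/t`. -/
noncomputable def nw (a a' b b' : V) (t : F) : V ≃ₗ[F] V :=
  xr Q a b' t * xr Q b a' (-t⁻¹) * xr Q a b' t

/-- The torus element `h_{ab}(t) = n_{ab}(t) n_{ab}(1)⁻¹`: `a ↦ t a`, `b ↦ b/t`, `a' ↦ a'/t`, `b' ↦ t b'`. -/
noncomputable def hh (a a' b b' : V) (t : F) : V ≃ₗ[F] V :=
  nw Q a a' b b' t * (nw Q a a' b b' 1)⁻¹

variable {Q}

theorem xr_mem_T {a b' : V} (ha : Q a = 0) (hb' : Q b' = 0)
    (hab' : QuadraticMap.polar (⇑Q) a b' = 0) (s : F) : xr Q a b' s ∈ T Q := by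
  unfold xr
  apply root_mem_T Q ha
  · rw [hQs, hb', mul_zero]
  · rw [QuadraticMap.polar_smul_right, hab', smul_zero]

theorem nw_mem_T {a a' b b' : V} (h : HQuad Q a a' b b') (t : F) : nw Q a a' b b' t ∈ T Q := by
  unfold nw
  have h1 := xr_mem_T h.pa.qa h.pb.qa' h.ab' t
  have h2 : xr Q b a' (-t⁻¹) ∈ T Q :=
    xr_mem_T h.pb.qa h.pa.qa' (by rw [QuadraticMap.polar_comm]; exact h.a'b) _
  exact Subgroup.mul_mem _ (Subgroup.mul_mem _ h1 h2) h1

theorem hh_mem_T {a a' b b' : V} (h : HQuad Q a a' b b') (t : F) : hh Q a a' b b' t ∈ T Q := by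
  unfold hh
  exact Subgroup.mul_mem _ (nw_mem_T h t) (Subgroup.inv_mem _ (nw_mem_T h 1))

end frame

section rep

variable {F V : Type*} [Field F] [AddCommGroup V] [Module F V] (Q : QuadraticForm F V)
  {X : Type*} [AddCommGroup X] [Module ℂ X] (ρ : Representation ℂ ↥(T Q) X)

/-- The vectors fixed by all `E Q u w`, `w ∈ S`. -/
def fixE (u : V) (S : Submodule F V) : Submodule ℂ X where
  carrier := {x | ∀ w ∈ S, repE Q ρ (E Q u w) x = x}
  add_mem' := by
    intro a b ha hb w hw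
    rw [map_add, ha w hw, hb w hw]
  zero_mem' := by
    intro w _
    simp
  smul_mem' := by
    intro c a ha w hw
    rw [map_smul, ha w hw]

theorem mem_fixE (u : V) (S : Submodule F V) (x : X) :
    x ∈ fixE Q ρ u S ↔ ∀ w ∈ S, repE Q ρ (E Q u w) x = x := Iff.rfl

/-- The vectors fixed by all long root elements `E Q a b`, `a, b ∈ S` singular and orthogonal. -/
def fixL (S : Submodule F V) : Submodule ℂ X where
  carrier := {x | ∀ a ∈ S, ∀ b ∈ S, Q a = 0 → Q b = 0 → QuadraticMap.polar (⇑Q) a b = 0 →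
    repE Q ρ (E Q a b) x = x}
  add_mem' := by
    intro x y hx hy a ha b hb h1 h2 h3
    rw [map_add, hx a ha b hb h1 h2 h3, hy a ha b hb h1 h2 h3]
  zero_mem' := by
    intro a _ b _ _ _ _
    simp
  smul_mem' := by
    intro c x hx a ha b hb h1 h2 h3
    rw [map_smul, hx a ha b hb h1 h2 h3]

theorem mem_fixL (S : Submodule F V) (x : X) :
    x ∈ fixL Q ρ S ↔ ∀ a ∈ S, ∀ b ∈ S, Q a = 0 → Q b = 0 → QuadraticMap.polar (⇑Q) a b = 0 →
      repE Q ρ (E Q a b) x = x := Iff.rfl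

/-- `W_1`: the complement of the two hyperbolic pairs `(v,v')`, `(w0,w0')`. -/
def W1 (v v' w0 w0' : V) : Submodule F V := perp Q v v' ⊓ perp Q w0 w0'

/-- `Y = X^{R L'}`: the vectors fixed by the radical `R = {E(v,w) : w ∈ W}` and by the Levi factor
`L' = ⟨E(a,b) : a, b ∈ W⟩`, `W = perp Q v v'`. -/
def Ysp (v v' : V) : Submodule ℂ X := fixE Q ρ v (perp Q v v') ⊓ fixL Q ρ (perp Q v v')

/-- `F_2 = (X^R)^{R_1}`, `R_1 = {E(w0,w) : w ∈ W_1}`. -/
def F2sp (v v' w0 w0' : V) : Submodule ℂ X :=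
  fixE Q ρ v (perp Q v v') ⊓ fixE Q ρ w0 (W1 Q v v' w0 w0')

/-- `Y_2 = F_2^{L''}`, `L'' = ⟨E(a,b) : a, b ∈ W_1⟩`. -/
def Y2sp (v v' w0 w0' : V) : Submodule ℂ X :=
  F2sp Q ρ v v' w0 w0' ⊓ fixL Q ρ (W1 Q v v' w0 w0')

/-- `M_0 = (X^{U_Π})^{L''}`, `U_Π = ⟨E(v,w), E(w0,w') : w ∈ W_1 + F w0, w' ∈ W_1⟩` (the unipotent radical of the
stabiliser of the plane `⟨v, w0⟩`). -/
def M0sp (v v' w0 w0' : V) : Submodule ℂ X :=
  (fixE Q ρ v (W1 Q v v' w0 w0' ⊔ Submodule.span F {w0}) ⊓ fixE Q ρ w0 (W1 Q v v' w0 w0')) ⊓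
    fixL Q ρ (W1 Q v v' w0 w0')

variable [Fintype F]

/-- The operator `J = ∑_s x_{ab}(s) n_{ab}` of the rank-one lemma. -/
noncomputable def Jop (a a' b b' : V) : Module.End ℂ X :=
  ∑ s : F, repE Q ρ (xr Q a b' s) * repE Q ρ (nw Q a a' b b' 1)

theorem Jop_apply (a a' b b' : V) (x : X) :
    Jop Q ρ a a' b b' x = ∑ s : F, repE Q ρ (xr Q a b' s) (repE Q ρ (nw Q a a' b b' 1) x) := by
  unfold Jop
  rw [LinearMap.sum_apply]
  rfl

end rep

section claim

/-- The quadratic character with values in `ℂ` (`1` on squares, `-1` on non-squares). -/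
noncomputable def thetaC {F : Type*} [Field F] (a : F) : ℂ :=
  open Classical in if IsSquare a then 1 else -1

universe u

/-- `CLAIM(n)`: an irreducible representation of `T Q` (`Q` of odd type of rank `n`) with only singular weights,
each with multiplicity one, has degree `bodd q n`, its space `Y = X^{R L'}` is a line, and the torus elements
`h_{v w0}(a)` act on it by the quadratic character. -/
def Claim (F : Type*) [Field F] [Fintype F] (n : ℕ) : Prop :=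
  ∀ (V : Type u) [AddCommGroup V] [Module F V] [FiniteDimensional F V] (Q : QuadraticForm F V)
    (_ : IsOddT Q n) (X : Type) [AddCommGroup X] [Module ℂ X] [FiniteDimensional ℂ X]
    (ρ : Representation ℂ ↥(T Q) X) (_ : ρ.IsIrreducible) (ψ : AddChar F ℂ) (_ : ψ ≠ 1)
    (v v' : V) (_ : HPair Q v v') [DecidableEq ↥(perp Q v v')]
    (_ : DirectSum.IsInternal (fun u : ↥(perp Q v v') => wsp Q ρ ψ v v' u))
    (f : ℕ) (_ : WData Q ρ ψ v v' 1 f),
    finrank ℂ X = bodd (Fintype.card F) n ∧ finrank ℂ ↥(Ysp Q ρ v v') = 1 ∧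
    ∀ (w0 w0' : V), HQuad Q v v' w0 w0' → ∀ a : F, a ≠ 0 → ∀ y ∈ Ysp Q ρ v v',
      repE Q ρ (hh Q v v' w0 w0' a) y = thetaC a • y

end claim

end Cfsg.Agent.Lib.Helper87_OO2Defs
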