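import Mathlib
import Cfsg.Agent.Lib.Helper95_OPDefs
import Cfsg.Agent.Lib.Helper95_OPBasic
import Cfsg.Agent.Lib.Helper48_OODefs
import Cfsg.Agent.Lib.Helper87_OO2Defs

set_option autoImplicit false

/-!
Second layer of definitions for S2344 (helper87, cutter): level-2 weight spaces at the `ρ`-level, augmentation
submodules (`[L, M] = span {g m - m}`), the spaces `Y' = Y_2 ∩ [L', X^R]` and `Ψ_2 = F_2 ∩ [L'', F_2]`.
-/

namespace Cfsg.Agent.Lib.Helper87_OO2Defs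

open Module Cfsg.Agent.Lib.Helper94_OrthSmall Cfsg.Agent.Lib.Helper44_QuadClass
  Cfsg.Agent.Lib.Helper14_OmegaSimple Cfsg.Agent.Lib.Helper38_MIODefs
  Cfsg.Agent.Lib.Helper95_OPDefs Cfsg.Agent.Lib.Helper95_OPBasic Cfsg.Agent.Lib.Helper48_OODefs

section aug

/-- The augmentation submodule `[G, M] = span {σ g m - m}` of a representation. -/
def aug {G M : Type*} [Group G] [AddCommGroup M] [Module ℂ M] (σ : Representation ℂ G M) :
    Submodule ℂ M :=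
  Submodule.span ℂ {y | ∃ (g : G) (m : M), y = σ g m - m}

theorem sub_mem_aug {G M : Type*} [Group G] [AddCommGroup M] [Module ℂ M]
    (σ : Representation ℂ G M) (g : G) (m : M) : σ g m - m ∈ aug σ :=
  Submodule.subset_span ⟨g, m, rfl⟩

end aug

section rep

variable {F V : Type*} [Field F] [AddCommGroup V] [Module F V] (Q : QuadraticForm F V)
  {X : Type*} [AddCommGroup X] [Module ℂ X] (ρ : Representation ℂ ↥(T Q) X)

/-- `X^R`, `R = {E(v,w) : w ∈ perp Q v v'}`. -/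
def X0sp (v v' : V) : Submodule ℂ X := fixE Q ρ v (perp Q v v')

/-- The vectors on which `E Q u w`, `w ∈ S`, acts by the scalar `ψ (B(z,w))`. -/
def eigE (ψ : AddChar F ℂ) (u : V) (S : Submodule F V) (z : V) : Submodule ℂ X where
  carrier := {x | ∀ w ∈ S, repE Q ρ (E Q u w) x = ψ (QuadraticMap.polar (⇑Q) z w) • x}
  add_mem' := by
    intro a b ha hb w hw
    rw [map_add, ha w hw, hb w hw, smul_add]
  zero_mem' := by
    intro w _
    simp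
  smul_mem' := by
    intro c a ha w hw
    rw [map_smul, ha w hw, smul_comm]

theorem mem_eigE (ψ : AddChar F ℂ) (u : V) (S : Submodule F V) (z : V) (x : X) :
    x ∈ eigE Q ρ ψ u S z ↔
      ∀ w ∈ S, repE Q ρ (E Q u w) x = ψ (QuadraticMap.polar (⇑Q) z w) • x := Iff.rfl

/-- The level-2 weight space `(X^R)_z`, `z ∈ W_1`: the vectors of `X^R` on which `E(w0,w)`, `w ∈ W_1`,
acts by `ψ (B(z,w))`. -/
def wsp2 (ψ : AddChar F ℂ) (v v' w0 w0' z : V) : Submodule ℂ X :=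
  X0sp Q ρ v v' ⊓ eigE Q ρ ψ w0 (W1 Q v v' w0 w0') z

/-- `A_z = X_{(z,0)}`: `E(v,w)` acts by `ψ (B(z,w))` for `w ∈ W_1 + F w0`, and `E(w0,w)`, `w ∈ W_1`, acts
trivially. -/
def Asp (ψ : AddChar F ℂ) (v v' w0 w0' z : V) : Submodule ℂ X :=
  eigE Q ρ ψ v (W1 Q v v' w0 w0' ⊔ Submodule.span F {w0}) z ⊓ fixE Q ρ w0 (W1 Q v v' w0 w0')

/-- `B_z = X_{(0,z)}`: `E(v,w)` acts trivially for `w ∈ W_1 + F w0`, and `E(w0,w)`, `w ∈ W_1`, acts by
`ψ (B(z,w))`. -/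
def Bsp (ψ : AddChar F ℂ) (v v' w0 w0' z : V) : Submodule ℂ X :=
  fixE Q ρ v (W1 Q v v' w0 w0' ⊔ Submodule.span F {w0}) ⊓ eigE Q ρ ψ w0 (W1 Q v v' w0 w0') z

/-- The augmentation `[L_S, M] = span {E(a,b) m - m : a, b ∈ S singular orthogonal, m ∈ M}`. -/
def augL (S : Submodule F V) (M : Submodule ℂ X) : Submodule ℂ X :=
  Submodule.span ℂ {y | ∃ a ∈ S, ∃ b ∈ S, Q a = 0 ∧ Q b = 0 ∧ QuadraticMap.polar (⇑Q) a b = 0 ∧
    ∃ m ∈ M, y = repE Q ρ (E Q a b) m - m}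

/-- `Y' = Y_2 ∩ [L', X^R]`. -/
def Ypsp (v v' w0 w0' : V) : Submodule ℂ X :=
  Y2sp Q ρ v v' w0 w0' ⊓ augL Q ρ (perp Q v v') (X0sp Q ρ v v')

/-- `Ψ_2 = F_2 ∩ [L'', F_2]`. -/
def Psisp (v v' w0 w0' : V) : Submodule ℂ X :=
  F2sp Q ρ v v' w0 w0' ⊓ augL Q ρ (W1 Q v v' w0 w0') (F2sp Q ρ v v' w0 w0')

/-- `P = X^{U_Π}` (no condition on `L''`). -/
def Psp (v v' w0 w0' : V) : Submodule ℂ X :=
  fixE Q ρ v (W1 Q v v' w0 w0' ⊔ Submodule.span F {w0}) ⊓ fixE Q ρ w0 (W1 Q v v' w0 w0')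

end rep

end Cfsg.Agent.Lib.Helper87_OO2Defs
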