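import Mathlib
import Cfsg.Agent.Lib.Helper95_OPDefs
import Cfsg.Agent.Lib.Helper95_OPBasic
import Cfsg.Agent.Lib.Helper48_OODefs
import Cfsg.Agent.Lib.Helper87_OO2Defs
import Cfsg.Agent.Lib.Helper87_OO2Defs2

set_option autoImplicit false

/-!
Definitions for the BASE `n = 3` of S2344 (helper16, co-cutter; text: `pending/helper87/S2344_base3.md`):

* `Frame3 Q v v' w0 w0' w1 w1' x0`: three mutually orthogonal hyperbolic pairs and a non-singular vector `x0`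
  orthogonal to all of them (for `Q` of odd type of rank 3 these seven vectors form a basis);
* `M2sp = (X^R)^{Z'}`, `Z' = {E(w0, s w1)}` (the centre of the Heisenberg group of the line stabiliser);
* `zt Q a a' b b' t = hh Q a a' b b' t * hh Q a a' b' b t`: the torus element `a ↦ t² a`, `a' ↦ t⁻² a'`,
  identity on `b`, `b'` and on the vectors orthogonal to the two pairs.
-/

namespace Cfsg.Agent.Lib.Helper16_OO2B3Defs

open Module Cfsg.Agent.Lib.Helper94_OrthSmall Cfsg.Agent.Lib.Helper44_QuadClass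
  Cfsg.Agent.Lib.Helper14_OmegaSimple Cfsg.Agent.Lib.Helper38_MIODefs
  Cfsg.Agent.Lib.Helper95_OPDefs Cfsg.Agent.Lib.Helper95_OPBasic Cfsg.Agent.Lib.Helper48_OODefs
  Cfsg.Agent.Lib.Helper87_OO2Defs

section frame

variable {F V : Type*} [Field F] [AddCommGroup V] [Module F V] (Q : QuadraticForm F V)

theorem HPair.flip {a a' : V} (h : HPair Q a a') : HPair Q a' a :=
  ⟨h.qa', h.qa, by rw [QuadraticMap.polar_comm]; exact h.aa'⟩

/-- Interchange the two vectors of the second hyperbolic pair. -/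
theorem HQuad.flip {a a' b b' : V} (h : HQuad Q a a' b b') : HQuad Q a a' b' b :=
  ⟨h.pa, HPair.flip Q h.pb, h.ab', h.ab, h.a'b', h.a'b⟩

/-- Interchange the two vectors of the first hyperbolic pair. -/
theorem HQuad.flip_left {a a' b b' : V} (h : HQuad Q a a' b b') : HQuad Q a' a b b' :=
  ⟨HPair.flip Q h.pa, h.pb, h.a'b, h.a'b', h.ab, h.ab'⟩

/-- Three mutually orthogonal hyperbolic pairs `(v,v')`, `(w0,w0')`, `(w1,w1')` and a non-singular vector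
`x0` orthogonal to all six vectors. -/
structure Frame3 (v v' w0 w0' w1 w1' x0 : V) : Prop where
  h01 : HQuad Q v v' w0 w0'
  h02 : HQuad Q v v' w1 w1'
  h12 : HQuad Q w0 w0' w1 w1'
  xv : QuadraticMap.polar (⇑Q) x0 v = 0
  xv' : QuadraticMap.polar (⇑Q) x0 v' = 0
  xw0 : QuadraticMap.polar (⇑Q) x0 w0 = 0
  xw0' : QuadraticMap.polar (⇑Q) x0 w0' = 0
  xw1 : QuadraticMap.polar (⇑Q) x0 w1 = 0
  xw1' : QuadraticMap.polar (⇑Q) x0 w1' = 0
  qx : Q x0 ≠ 0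

/-- The frame with `w1` and `w1'` interchanged. -/
theorem Frame3.swap {v v' w0 w0' w1 w1' x0 : V} (fr : Frame3 Q v v' w0 w0' w1 w1' x0) :
    Frame3 Q v v' w0 w0' w1' w1 x0 :=
  ⟨fr.h01, HQuad.flip Q fr.h02, HQuad.flip Q fr.h12, fr.xv, fr.xv', fr.xw0, fr.xw0', fr.xw1', fr.xw1,
    fr.qx⟩

theorem Frame3.w1_mem {v v' w0 w0' w1 w1' x0 : V} (fr : Frame3 Q v v' w0 w0' w1 w1' x0) :
    w1 ∈ W1 Q v v' w0 w0' :=
  ⟨(HQuad.mem_perp Q fr.h02).1, (HQuad.mem_perp Q fr.h12).1⟩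

theorem Frame3.w1'_mem {v v' w0 w0' w1 w1' x0 : V} (fr : Frame3 Q v v' w0 w0' w1 w1' x0) :
    w1' ∈ W1 Q v v' w0 w0' :=
  ⟨(HQuad.mem_perp Q fr.h02).2, (HQuad.mem_perp Q fr.h12).2⟩

theorem Frame3.x0_mem {v v' w0 w0' w1 w1' x0 : V} (fr : Frame3 Q v v' w0 w0' w1 w1' x0) :
    x0 ∈ W1 Q v v' w0 w0' := by
  refine ⟨(Cfsg.Agent.Lib.Helper44_QuadClass.mem_perp Q v v').2 ⟨?_, ?_⟩,
    (Cfsg.Agent.Lib.Helper44_QuadClass.mem_perp Q w0 w0').2 ⟨?_, ?_⟩⟩
  · rw [QuadraticMap.polar_comm]; exact fr.xv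
  · rw [QuadraticMap.polar_comm]; exact fr.xv'
  · rw [QuadraticMap.polar_comm]; exact fr.xw0
  · rw [QuadraticMap.polar_comm]; exact fr.xw0'

/-- The torus element `a ↦ t² a`, `a' ↦ t⁻² a'`, identity on `b`, `b'` and on `⟨a,a',b,b'⟩^⊥`. -/
noncomputable def zt (a a' b b' : V) (t : F) : V ≃ₗ[F] V :=
  hh Q a a' b b' t * hh Q a a' b' b t

variable {Q}

theorem zt_mem_T {a a' b b' : V} (h : HQuad Q a a' b b') (t : F) : zt Q a a' b b' t ∈ T Q := by
  unfold zt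
  exact Subgroup.mul_mem _ (hh_mem_T h t) (hh_mem_T (HQuad.flip Q h) t)

end frame

section rep

variable {F V : Type*} [Field F] [AddCommGroup V] [Module F V] (Q : QuadraticForm F V)
  {X : Type*} [AddCommGroup X] [Module ℂ X] (ρ : Representation ℂ ↥(T Q) X)

/-- `M_2 = (X^R)^{Z'}`, `Z' = {E(w0, s w1)}`. -/
def M2sp (v v' w0 w1 : V) : Submodule ℂ X :=
  X0sp Q ρ v v' ⊓ fixE Q ρ w0 (Submodule.span F {w1})

theorem mem_M2sp (v v' w0 w1 : V) (x : X) :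
    x ∈ M2sp Q ρ v v' w0 w1 ↔
      x ∈ X0sp Q ρ v v' ∧ ∀ s : F, repE Q ρ (E Q w0 (s • w1)) x = x := by
  unfold M2sp
  rw [Submodule.mem_inf, mem_fixE]
  constructor
  · rintro ⟨h1, h2⟩
    exact ⟨h1, fun s => h2 _ (Submodule.smul_mem _ s (Submodule.mem_span_singleton_self w1))⟩
  · rintro ⟨h1, h2⟩
    refine ⟨h1, fun w hw => ?_⟩
    obtain ⟨s, rfl⟩ := Submodule.mem_span_singleton.mp hw
    exact h2 s

end rep

end Cfsg.Agent.Lib.Helper16_OO2B3Defs
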