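import Mathlib

set_option autoImplicit false

/-!
Abstract rank-one (`SL₂`) lemmas for S2344 (helper85; block 2.1 of `pending/helper87/S2344_proof.md`).
`M` is a complex vector space with operators `x s` (`s : F`, additive), `n`, `h t` satisfying the
`SL₂` relations; `J = (∑ s, x s) ∘ n`.
-/

namespace Cfsg.Agent.Lib.Helper85_OO2_RankOne

open Module

set_option linter.unusedSectionVars false

variable {F : Type*} [Field F] [Fintype F] {M : Type*} [AddCommGroup M] [Module ℂ M]

/-- The `SL₂` relations for operators `x s`, `n`, `h t` on `M`. -/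
structure SL2Rel (x : F → Module.End ℂ M) (n : Module.End ℂ M) (h : F → Module.End ℂ M) : Prop where
  x_zero : x 0 = 1
  x_add : ∀ s t, x (s + t) = x s * x t
  h_one : h 1 = 1
  h_mul : ∀ s t, s ≠ 0 → t ≠ 0 → h (s * t) = h s * h t
  hx : ∀ t s, t ≠ 0 → h t * x s = x (t ^ 2 * s) * h t
  nh : ∀ t, t ≠ 0 → n * h t = h t⁻¹ * n
  nn : n * n = h (-1)
  rel : ∀ s, s ≠ 0 → n * x s * n = x (-s⁻¹) * n * h (-s) * x (-s⁻¹)

/-- The common fixed space of the `x s`. -/
def fixX (x : F → Module.End ℂ M) : Submodule ℂ M where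
  carrier := {y | ∀ s, x s y = y}
  add_mem' := by
    intro a b ha hb s
    rw [map_add, ha s, hb s]
  zero_mem' := by
    intro s
    simp
  smul_mem' := by
    intro c a ha s
    rw [map_smul, ha s]

theorem mem_fixX {x : F → Module.End ℂ M} {y : M} : y ∈ fixX x ↔ ∀ s, x s y = y := Iff.rfl

/-- `P = ∑ s, x s`. -/
def Pop (x : F → Module.End ℂ M) : Module.End ℂ M := ∑ s, x s

/-- `J = (∑ s, x s) ∘ n`. -/
def Jop (x : F → Module.End ℂ M) (n : Module.End ℂ M) : Module.End ℂ M := Pop x * n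

theorem Pop_apply (x : F → Module.End ℂ M) (y : M) : Pop x y = ∑ s, x s y := by
  simp [Pop, LinearMap.sum_apply]

theorem Jop_apply (x : F → Module.End ℂ M) (n : Module.End ℂ M) (y : M) :
    Jop x n y = ∑ s, x s (n y) := by
  simp [Jop, Pop_apply]

theorem x_mul_Pop {x : F → Module.End ℂ M} (hadd : ∀ s t, x (s + t) = x s * x t) (t : F) :
    x t * Pop x = Pop x := by
  unfold Pop
  rw [Finset.mul_sum]
  simp_rw [← hadd]
  exact Fintype.sum_equiv (Equiv.addLeft t) _ _ (fun s => rfl)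

theorem Pop_mul_x {x : F → Module.End ℂ M} (hadd : ∀ s t, x (s + t) = x s * x t) (t : F) :
    Pop x * x t = Pop x := by
  unfold Pop
  rw [Finset.sum_mul]
  simp_rw [← hadd]
  exact Fintype.sum_equiv (Equiv.addRight t) _ _ (fun s => rfl)

theorem Pop_mem_fixX {x : F → Module.End ℂ M} (hadd : ∀ s t, x (s + t) = x s * x t) (y : M) :
    Pop x y ∈ fixX x := by
  intro t
  have := congrArg (fun f => f y) (x_mul_Pop hadd t)
  simpa using this

theorem Jop_mem_fixX {x : F → Module.End ℂ M} (hadd : ∀ s t, x (s + t) = x s * x t)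
    (n : Module.End ℂ M) (y : M) : Jop x n y ∈ fixX x := by
  unfold Jop
  rw [Module.End.mul_apply]
  exact Pop_mem_fixX hadd _

theorem Pop_of_mem_fixX {x : F → Module.End ℂ M} {y : M} (hy : y ∈ fixX x) :
    Pop x y = (Fintype.card F : ℂ) • y := by
  rw [Pop_apply]
  simp_rw [hy _]
  rw [Finset.sum_const, Finset.card_univ, Nat.cast_smul_eq_nsmul]

/-- (a) A "torus" operator `τ` scaling `x` by `c ≠ 0` and with `τ n = n τ'` satisfies `τ J = J τ'`. -/
theorem tau_J {x : F → Module.End ℂ M} {n τ τ' : Module.End ℂ M} {c : F} (hc : c ≠ 0)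
    (hτx : ∀ s, τ * x s = x (c * s) * τ) (hτn : τ * n = n * τ') :
    τ * Jop x n = Jop x n * τ' := by
  have h1 : τ * Pop x = Pop x * τ := by
    unfold Pop
    rw [Finset.mul_sum, Finset.sum_mul]
    simp_rw [hτx]
    exact Fintype.sum_equiv (Equiv.mulLeft₀ c hc) (fun s => x (c * s) * τ) (fun s => x s * τ)
      (fun s => rfl)
  unfold Jop
  rw [← mul_assoc, h1, mul_assoc, hτn, ← mul_assoc]


theorem h_mem_fixX {x : F → Module.End ℂ M} {n : Module.End ℂ M} {h : F → Module.End ℂ M}
    (R : SL2Rel x n h) {t : F} (ht : t ≠ 0) {y : M} (hy : y ∈ fixX x) : h t y ∈ fixX x := by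
  intro s
  have h1 := congrArg (fun f => f y) (R.hx t ((t ^ 2)⁻¹ * s) ht)
  simp only [Module.End.mul_apply] at h1
  rw [hy _] at h1
  have h2 : t ^ 2 * ((t ^ 2)⁻¹ * s) = s := by
    field_simp
  rw [h2] at h1
  exact h1.symm

theorem J_h {x : F → Module.End ℂ M} {n : Module.End ℂ M} {h : F → Module.End ℂ M}
    (R : SL2Rel x n h) {t : F} (ht : t ≠ 0) : h t⁻¹ * Jop x n = Jop x n * h t := by
  have ht' : t⁻¹ ≠ 0 := inv_ne_zero ht
  refine tau_J (c := t⁻¹ ^ 2) (pow_ne_zero 2 ht') (fun s => R.hx t⁻¹ s ht') ?_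
  rw [R.nh t ht]

theorem h_neg_one_sq {x : F → Module.End ℂ M} {n : Module.End ℂ M} {h : F → Module.End ℂ M}
    (R : SL2Rel x n h) : h (-1) * h (-1) = 1 := by
  rw [← R.h_mul (-1) (-1) (by simp) (by simp)]
  simp [R.h_one]

/-- (b') `J` is injective on the `X`-fixed vectors. -/
theorem J_inj {x : F → Module.End ℂ M} {n : Module.End ℂ M} {h : F → Module.End ℂ M}
    (R : SL2Rel x n h) (hq : (Fintype.card F : ℂ) ≠ 0) {y : M} (hy : y ∈ fixX x)
    (hJ : Jop x n y = 0) : y = 0 := by
  classical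
  -- J (h t y) = 0
  have hJh : ∀ t : F, t ≠ 0 → Jop x n (h t y) = 0 := by
    intro t ht
    have := congrArg (fun f => f y) (J_h R ht)
    simp only [Module.End.mul_apply] at this
    rw [← this, hJ, map_zero]
  -- compute Pop (n (J y))
  have hterm : ∀ s : F, Pop x ((n * x s * n) y) =
      if s = 0 then (Fintype.card F : ℂ) • h (-1) y else 0 := by
    intro s
    by_cases hs : s = 0
    · subst hs
      rw [if_pos rfl, R.x_zero, mul_one, R.nn]
      exact Pop_of_mem_fixX (h_mem_fixX R (by simp) hy)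
    · rw [if_neg hs, R.rel s hs]
      simp only [Module.End.mul_apply]
      rw [hy _]
      have h1 := congrArg (fun f => f (n (h (-s) y))) (Pop_mul_x R.x_add (-s⁻¹))
      simp only [Module.End.mul_apply] at h1
      rw [h1]
      have h2 := hJh (-s) (neg_ne_zero.mpr hs)
      rw [Jop, Module.End.mul_apply] at h2
      exact h2
  have hsum : Pop x (n (Jop x n y)) = (Fintype.card F : ℂ) • h (-1) y := by
    rw [Jop_apply, map_sum, map_sum]
    have : ∀ s : F, Pop x (n (x s (n y))) = Pop x ((n * x s * n) y) := fun s => rfl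
    simp_rw [this, hterm]
    rw [Finset.sum_ite_eq' Finset.univ (0 : F)]
    simp
  rw [hJ, map_zero, map_zero] at hsum
  have h0 : h (-1) y = 0 := by
    rcases smul_eq_zero.mp hsum.symm with h | h
    · exact absurd h hq
    · exact h
  have := congrArg (fun f => f y) (h_neg_one_sq R)
  simp only [Module.End.mul_apply, Module.End.one_apply] at this
  rw [h0, map_zero] at this
  exact this.symm


/-- (c) If `E ≤ fixX`, `h (-1) = 1` on `E`, `n E ≤ fixX` and `J E ≤ E`, then `n E ≤ E`, `n` is an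
involution on `E`, `J = q n` on `E`, and the "opposite root elements" `n x(s) n` fix `E` pointwise. -/
theorem n_stable {x : F → Module.End ℂ M} {n : Module.End ℂ M} {h : F → Module.End ℂ M}
    (R : SL2Rel x n h) (hq : (Fintype.card F : ℂ) ≠ 0) (E : Submodule ℂ M)
    (h1 : ∀ y ∈ E, h (-1) y = y) (hn : ∀ y ∈ E, n y ∈ fixX x) (hJ : ∀ y ∈ E, Jop x n y ∈ E)
    {y : M} (hy : y ∈ E) :
    n y ∈ E ∧ Jop x n y = (Fintype.card F : ℂ) • n y ∧ n (n y) = y ∧ ∀ s, n (x s (n y)) = y := by
  have hJy : Jop x n y = (Fintype.card F : ℂ) • n y := by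
    rw [Jop, Module.End.mul_apply]
    exact Pop_of_mem_fixX (hn y hy)
  have hny : n y ∈ E := by
    have : n y = (Fintype.card F : ℂ)⁻¹ • Jop x n y := by
      rw [hJy, smul_smul, inv_mul_cancel₀ hq, one_smul]
    rw [this]
    exact E.smul_mem _ (hJ y hy)
  have hnn : n (n y) = y := by
    have := congrArg (fun f => f y) R.nn
    simp only [Module.End.mul_apply] at this
    rw [this, h1 y hy]
  refine ⟨hny, hJy, hnn, fun s => ?_⟩
  rw [hn y hy s, hnn]

end Cfsg.Agent.Lib.Helper85_OO2_RankOne
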