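import Mathlib
import Cfsg.Agent.Lib.Helper85_OO2_RankOne

set_option autoImplicit false

/-!
Abstract Lemma K for S2344 (helper85; block 2.1(d) of `pending/helper87/S2344_proof.md`).
-/

namespace Cfsg.Agent.Lib.Helper85_OO2_RankOne

open Module

set_option linter.unusedSectionVars false

variable {F : Type*} [Field F] [Fintype F] {M : Type*} [AddCommGroup M] [Module ℂ M]

/-- The projection onto the `ψ(c ·)`-isotypic part of the `x`-action. -/
noncomputable def eop (ψ : AddChar F ℂ) (x : F → Module.End ℂ M) (c : F) : Module.End ℂ M :=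
  (Fintype.card F : ℂ)⁻¹ • ∑ s, ψ (-(c * s)) • x s

theorem eop_apply (ψ : AddChar F ℂ) (x : F → Module.End ℂ M) (c : F) (y : M) :
    eop ψ x c y = (Fintype.card F : ℂ)⁻¹ • ∑ s, ψ (-(c * s)) • x s y := by
  simp [eop, LinearMap.sum_apply]

theorem x_mul_eop (ψ : AddChar F ℂ) {x : F → Module.End ℂ M}
    (hadd : ∀ s t, x (s + t) = x s * x t) (c t : F) :
    x t * eop ψ x c = ψ (c * t) • eop ψ x c := by
  have hS : x t * ∑ s, ψ (-(c * s)) • x s = ψ (c * t) • ∑ s, ψ (-(c * s)) • x s := by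
    rw [Finset.mul_sum, Finset.smul_sum]
    have h1 : ∀ s, x t * ψ (-(c * s)) • x s = ψ (-(c * s)) • x (t + s) := by
      intro s
      rw [mul_smul_comm, hadd]
    have h2 : ∀ s, ψ (c * t) • ψ (-(c * s)) • x s = ψ (-(c * (s - t))) • x s := by
      intro s
      rw [smul_smul, ← AddChar.map_add_eq_mul]
      congr 2
      ring
    rw [Finset.sum_congr rfl (fun s _ => h1 s), Finset.sum_congr rfl (fun s _ => h2 s)]
    exact Fintype.sum_equiv (Equiv.addLeft t) (fun s => ψ (-(c * s)) • x (t + s))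
      (fun s => ψ (-(c * (s - t))) • x s) (fun s => by
        show _ = ψ (-(c * (t + s - t))) • x (t + s)
        rw [add_sub_cancel_left])
  unfold eop
  rw [mul_smul_comm, hS, smul_comm]

theorem x_eop_apply (ψ : AddChar F ℂ) {x : F → Module.End ℂ M}
    (hadd : ∀ s t, x (s + t) = x s * x t) (c t : F) (y : M) :
    x t (eop ψ x c y) = ψ (c * t) • eop ψ x c y := by
  have := congrArg (fun f => f y) (x_mul_eop ψ hadd c t)
  simpa using this

theorem sum_eop {ψ : AddChar F ℂ} (hψ : ψ.IsPrimitive) {x : F → Module.End ℂ M}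
    (h0 : x 0 = 1) (hq : (Fintype.card F : ℂ) ≠ 0) : ∑ c, eop ψ x c = 1 := by
  classical
  unfold eop
  rw [← Finset.smul_sum, Finset.sum_comm]
  simp_rw [← Finset.sum_smul]
  have h1 : ∀ s : F, ∑ c, ψ (-(c * s)) = if s = 0 then (Fintype.card F : ℂ) else 0 := by
    intro s
    have := AddChar.sum_mulShift (-s) hψ
    simp only [neg_eq_zero, Nat.cast_ite, Nat.cast_zero] at this
    rw [← this]
    refine Finset.sum_congr rfl fun c _ => ?_
    congr 1
    ring
  simp_rw [h1]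
  rw [Finset.sum_eq_single (0 : F)]
  · rw [if_pos rfl, h0, smul_smul, inv_mul_cancel₀ hq, one_smul]
  · intro s _ hs
    rw [if_neg hs, zero_smul]
  · intro h
    exact absurd (Finset.mem_univ _) h

theorem eop_zero (ψ : AddChar F ℂ) (x : F → Module.End ℂ M) :
    eop ψ x 0 = (Fintype.card F : ℂ)⁻¹ • Pop x := by
  unfold eop Pop
  simp

theorem eop_zero_mem_fixX (ψ : AddChar F ℂ) {x : F → Module.End ℂ M}
    (hadd : ∀ s t, x (s + t) = x s * x t) (y : M) : eop ψ x 0 y ∈ fixX x := by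
  rw [eop_zero, LinearMap.smul_apply]
  exact (fixX x).smul_mem _ (Pop_mem_fixX hadd y)

theorem eop_zero_of_mem_fixX (ψ : AddChar F ℂ) {x : F → Module.End ℂ M}
    (hq : (Fintype.card F : ℂ) ≠ 0) {y : M} (hy : y ∈ fixX x) : eop ψ x 0 y = y := by
  rw [eop_zero, LinearMap.smul_apply, Pop_of_mem_fixX hy, smul_smul, inv_mul_cancel₀ hq, one_smul]

/-- A vector of weight `c'` is fixed by `eop c'`. -/
theorem eop_of_weight_self {ψ : AddChar F ℂ} {x : F → Module.End ℂ M}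
    (hq : (Fintype.card F : ℂ) ≠ 0) {c' : F} {z : M} (hz : ∀ s, x s z = ψ (c' * s) • z) :
    eop ψ x c' z = z := by
  rw [eop_apply]
  simp_rw [hz, smul_smul, ← AddChar.map_add_eq_mul, neg_add_cancel, AddChar.map_zero_eq_one]
  rw [Finset.sum_const, Finset.card_univ, ← Nat.cast_smul_eq_nsmul ℂ, smul_smul,
    inv_mul_cancel₀ hq]
  simp

/-- A vector of weight `c'` is killed by `eop c` for `c ≠ c'`. -/
theorem eop_of_weight_ne {ψ : AddChar F ℂ} (hψ : ψ.IsPrimitive) {x : F → Module.End ℂ M}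
    {c c' : F} (hc : c ≠ c') {z : M} (hz : ∀ s, x s z = ψ (c' * s) • z) :
    eop ψ x c z = 0 := by
  classical
  rw [eop_apply]
  simp_rw [hz, smul_smul, ← AddChar.map_add_eq_mul, ← Finset.sum_smul]
  have h1 : ∑ s, ψ (-(c * s) + c' * s) = 0 := by
    have := AddChar.sum_mulShift (c' - c) hψ
    rw [if_neg (fun h' => hc (sub_eq_zero.mp h').symm)] at this
    simp only [Nat.cast_zero] at this
    rw [← this]
    refine Finset.sum_congr rfl fun s _ => ?_
    congr 1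
    ring
  rw [h1, zero_smul, smul_zero]

/-- Decomposition `x s y - y = ∑ c, (ψ (c s) - 1) e_c y`. -/
theorem x_sub_self {ψ : AddChar F ℂ} (hψ : ψ.IsPrimitive) {x : F → Module.End ℂ M}
    (h0 : x 0 = 1) (hadd : ∀ s t, x (s + t) = x s * x t) (hq : (Fintype.card F : ℂ) ≠ 0)
    (s : F) (y : M) : x s y - y = ∑ c, (ψ (c * s) - 1) • eop ψ x c y := by
  have h1 : y = ∑ c, eop ψ x c y := by
    have := congrArg (fun f => f y) (sum_eop hψ h0 hq)
    simpa [LinearMap.sum_apply] using this.symm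
  have h2 : x s y = ∑ c, ψ (c * s) • eop ψ x c y := by
    conv_lhs => rw [h1]
    rw [map_sum]
    exact Finset.sum_congr rfl fun c _ => x_eop_apply ψ hadd c s y
  have h3 : x s y - y = (∑ c, ψ (c * s) • eop ψ x c y) - ∑ c, eop ψ x c y := by
    rw [← h2, ← h1]
  rw [h3, ← Finset.sum_sub_distrib]
  exact Finset.sum_congr rfl fun c _ => by rw [sub_smul, one_smul]

/-- A torus operator scaling `x` by `d` conjugates `eop c` to `eop (c / d)`. -/
theorem tau_eop (ψ : AddChar F ℂ) {x : F → Module.End ℂ M} {τ : Module.End ℂ M} {d : F}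
    (hd : d ≠ 0) (hτx : ∀ s, τ * x s = x (d * s) * τ) (c : F) :
    τ * eop ψ x c = eop ψ x (c / d) * τ := by
  unfold eop
  rw [mul_smul_comm, smul_mul_assoc, Finset.mul_sum, Finset.sum_mul]
  congr 1
  have h1 : ∀ s, τ * ψ (-(c * s)) • x s = ψ (-(c / d * (d * s))) • x (d * s) * τ := by
    intro s
    rw [mul_smul_comm, hτx, smul_mul_assoc]
    congr 3
    field_simp
  simp_rw [h1]
  exact Fintype.sum_equiv (Equiv.mulLeft₀ d hd) (fun s => ψ (-(c / d * (d * s))) • x (d * s) * τ)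
    (fun s => ψ (-(c / d * s)) • x s * τ) (fun s => rfl)

/-! ### Lemma K -/

/-- `Z₀ = span ({y₀} ∪ {x s (n y₀) : s})`. -/
def Z0 (x : F → Module.End ℂ M) (n : Module.End ℂ M) (y₀ : M) : Submodule ℂ M :=
  Submodule.span ℂ (insert y₀ (Set.range fun s => x s (n y₀)))

theorem y0_mem_Z0 (x : F → Module.End ℂ M) (n : Module.End ℂ M) (y₀ : M) : y₀ ∈ Z0 x n y₀ :=
  Submodule.subset_span (Set.mem_insert _ _)

theorem xn_mem_Z0 (x : F → Module.End ℂ M) (n : Module.End ℂ M) (y₀ : M) (s : F) :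
    x s (n y₀) ∈ Z0 x n y₀ :=
  Submodule.subset_span (Set.mem_insert_of_mem _ ⟨s, rfl⟩)

theorem ny0_mem_Z0 {x : F → Module.End ℂ M} (h0 : x 0 = 1) (n : Module.End ℂ M) (y₀ : M) :
    n y₀ ∈ Z0 x n y₀ := by
  have := xn_mem_Z0 x n y₀ 0
  rwa [h0] at this

theorem x_Z0 {x : F → Module.End ℂ M} (hadd : ∀ s t, x (s + t) = x s * x t)
    (n : Module.End ℂ M) {y₀ : M} (hy₀ : y₀ ∈ fixX x) (t : F) {z : M} (hz : z ∈ Z0 x n y₀) :
    x t z ∈ Z0 x n y₀ := by
  unfold Z0 at hz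
  induction hz using Submodule.span_induction with
  | mem z hz =>
    rcases hz with rfl | ⟨s, rfl⟩
    · rw [hy₀ t]; exact y0_mem_Z0 x n _
    · have : x t (x s (n y₀)) = x (t + s) (n y₀) := by rw [hadd]; rfl
      rw [this]; exact xn_mem_Z0 x n y₀ _
  | zero => rw [map_zero]; exact Submodule.zero_mem _
  | add a b _ _ ha hb => rw [map_add]; exact Submodule.add_mem _ ha hb
  | smul c a _ ha => rw [map_smul]; exact Submodule.smul_mem _ _ ha

theorem n_Z0 {x : F → Module.End ℂ M} {n : Module.End ℂ M} {h : F → Module.End ℂ M}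
    (R : SL2Rel x n h) {y₀ : M} (hy₀ : y₀ ∈ fixX x)
    (hh : ∀ t, t ≠ 0 → ∃ a : ℂ, h t y₀ = a • y₀) {z : M} (hz : z ∈ Z0 x n y₀) :
    n z ∈ Z0 x n y₀ := by
  unfold Z0 at hz
  induction hz using Submodule.span_induction with
  | mem z hz =>
    rcases hz with rfl | ⟨s, rfl⟩
    · exact ny0_mem_Z0 R.x_zero n _
    · by_cases hs : s = 0
      · subst hs
        show n (x 0 (n y₀)) ∈ Z0 x n y₀
        rw [R.x_zero]
        have h1 : n ((1 : Module.End ℂ M) (n y₀)) = h (-1) y₀ := by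
          have := congrArg (fun f => f y₀) R.nn
          simpa using this
        obtain ⟨a, ha⟩ := hh (-1) (by simp)
        rw [h1, ha]
        exact Submodule.smul_mem _ _ (y0_mem_Z0 x n y₀)
      · have h1 : n (x s (n y₀)) = x (-s⁻¹) (n (h (-s) (x (-s⁻¹) y₀))) := by
          have := congrArg (fun f => f y₀) (R.rel s hs)
          simpa using this
        obtain ⟨a, ha⟩ := hh (-s) (neg_ne_zero.mpr hs)
        show n (x s (n y₀)) ∈ Z0 x n y₀
        rw [h1, hy₀ _, ha, map_smul, map_smul]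
        exact Submodule.smul_mem _ _ (xn_mem_Z0 x n y₀ _)
  | zero => rw [map_zero]; exact Submodule.zero_mem _
  | add a b _ _ ha hb => rw [map_add]; exact Submodule.add_mem _ ha hb
  | smul c a _ ha => rw [map_smul]; exact Submodule.smul_mem _ _ ha

theorem eop_mem_Z0 (ψ : AddChar F ℂ) (x : F → Module.End ℂ M) (n : Module.End ℂ M) (y₀ : M)
    (c : F) : eop ψ x c (n y₀) ∈ Z0 x n y₀ := by
  rw [eop_apply]
  refine Submodule.smul_mem _ _ (Submodule.sum_mem _ fun s _ => Submodule.smul_mem _ _ ?_)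
  exact xn_mem_Z0 x n y₀ s

/-- `X` acts trivially on `N / Z₀`. -/
theorem x_sub_mem_Z0 {ψ : AddChar F ℂ} (hψ : ψ.IsPrimitive) {x : F → Module.End ℂ M}
    (h0 : x 0 = 1) (hadd : ∀ s t, x (s + t) = x s * x t) (hq : (Fintype.card F : ℂ) ≠ 0)
    (n : Module.End ℂ M) (y₀ : M) (N : Submodule ℂ M)
    (hline : ∀ c, c ≠ 0 → ∀ y ∈ N, ∃ a : ℂ, eop ψ x c y = a • eop ψ x c (n y₀))
    {y : M} (hy : y ∈ N) (s : F) : x s y - y ∈ Z0 x n y₀ := by
  rw [x_sub_self hψ h0 hadd hq s y]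
  refine Submodule.sum_mem _ fun c _ => ?_
  by_cases hc : c = 0
  · subst hc
    rw [zero_mul, AddChar.map_zero_eq_one, sub_self, zero_smul]
    exact Submodule.zero_mem _
  · obtain ⟨a, ha⟩ := hline c hc y hy
    rw [ha]
    exact Submodule.smul_mem _ _ (Submodule.smul_mem _ _ (eop_mem_Z0 ψ x n y₀ c))

/-- `Z₀ ∩ fixX ≤ span {y₀, J y₀}`. -/
theorem Z0_fix {x : F → Module.End ℂ M} (hadd : ∀ s t, x (s + t) = x s * x t)
    (hq : (Fintype.card F : ℂ) ≠ 0) (n : Module.End ℂ M) {y₀ : M} (hy₀ : y₀ ∈ fixX x) {z : M}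
    (hz : z ∈ Z0 x n y₀) (hzf : z ∈ fixX x) : z ∈ Submodule.span ℂ {y₀, Jop x n y₀} := by
  have key : ∀ w ∈ Z0 x n y₀, Pop x w ∈ Submodule.span ℂ {y₀, Jop x n y₀} := by
    intro w hw
    unfold Z0 at hw
    induction hw using Submodule.span_induction with
    | mem w hw =>
      rcases hw with rfl | ⟨s, rfl⟩
      · rw [Pop_of_mem_fixX hy₀]
        exact Submodule.smul_mem _ _ (Submodule.subset_span (by simp))
      · have : Pop x (x s (n y₀)) = Jop x n y₀ := by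
          have := congrArg (fun f => f (n y₀)) (Pop_mul_x hadd s)
          simpa [Jop] using this
        rw [this]
        exact Submodule.subset_span (by simp)
    | zero => rw [map_zero]; exact Submodule.zero_mem _
    | add a b _ _ ha hb => rw [map_add]; exact Submodule.add_mem _ ha hb
    | smul c a _ ha => rw [map_smul]; exact Submodule.smul_mem _ _ ha
  have h1 := key z hz
  rw [Pop_of_mem_fixX hzf] at h1
  have h2 : z = (Fintype.card F : ℂ)⁻¹ • ((Fintype.card F : ℂ) • z) := by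
    rw [smul_smul, inv_mul_cancel₀ hq, one_smul]
  rw [h2]
  exact Submodule.smul_mem _ _ h1

/-- The operators stabilising `N` and `Z` and acting trivially on `N / Z`. -/
def Triv (N Z : Submodule ℂ M) : Submonoid (Module.End ℂ M) where
  carrier := {k | (∀ y ∈ N, k y ∈ N) ∧ (∀ z ∈ Z, k z ∈ Z) ∧ ∀ y ∈ N, k y - y ∈ Z}
  one_mem' := ⟨fun y hy => hy, fun z hz => hz, fun y _ => by simp⟩
  mul_mem' := by
    rintro a b ⟨ha1, ha2, ha3⟩ ⟨hb1, hb2, hb3⟩
    refine ⟨fun y hy => ha1 _ (hb1 y hy), fun z hz => ha2 _ (hb2 z hz), fun y hy => ?_⟩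
    have : (a * b) y - y = a (b y - y) + (a y - y) := by
      rw [Module.End.mul_apply, map_sub]; abel
    rw [this]
    exact Z.add_mem (ha2 _ (hb3 y hy)) (ha3 y hy)

theorem mem_Triv {N Z : Submodule ℂ M} {k : Module.End ℂ M} :
    k ∈ Triv N Z ↔ (∀ y ∈ N, k y ∈ N) ∧ (∀ z ∈ Z, k z ∈ Z) ∧ ∀ y ∈ N, k y - y ∈ Z := Iff.rfl

/-- A two-sided inverse of an element of `Triv N Z` is in `Triv N Z`, provided it stabilises `N`, `Z`. -/
theorem inv_mem_Triv {N Z : Submodule ℂ M} {k k' : Module.End ℂ M} (hk : k ∈ Triv N Z)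
    (h1 : k' * k = 1) (hN : ∀ y ∈ N, k' y ∈ N) (hZ : ∀ z ∈ Z, k' z ∈ Z) : k' ∈ Triv N Z := by
  refine ⟨hN, hZ, fun y hy => ?_⟩
  have h2 : k' y - y = -(k' (k y - y)) := by
    have := congrArg (fun f => f y) h1
    simp only [Module.End.mul_apply, Module.End.one_apply] at this
    rw [map_sub, this]; abel
  rw [h2]
  exact Z.neg_mem (hZ _ (hk.2.2 y hy))

/-- The hypotheses of Lemma K. -/
structure KData (ψ : AddChar F ℂ) (x : F → Module.End ℂ M) (n : Module.End ℂ M)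
    (h : F → Module.End ℂ M) (N : Submodule ℂ M) (y₀ : M) : Prop where
  R : SL2Rel x n h
  hψ : ψ.IsPrimitive
  hq : (Fintype.card F : ℂ) ≠ 0
  Nx : ∀ s, ∀ y ∈ N, x s y ∈ N
  Nn : ∀ y ∈ N, n y ∈ N
  Nh : ∀ y ∈ N, h (-1) y ∈ N
  y₀N : y₀ ∈ N
  y₀fix : y₀ ∈ fixX x
  y₀h : ∀ t, t ≠ 0 → ∃ a : ℂ, h t y₀ = a • y₀
  line : ∀ c, c ≠ 0 → ∀ y ∈ N, ∃ a : ℂ, eop ψ x c y = a • eop ψ x c (n y₀)

theorem KData.x_mem_Triv {ψ : AddChar F ℂ} {x : F → Module.End ℂ M} {n : Module.End ℂ M}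
    {h : F → Module.End ℂ M} {N : Submodule ℂ M} {y₀ : M} (D : KData ψ x n h N y₀) (s : F) :
    x s ∈ Triv N (Z0 x n y₀) :=
  ⟨D.Nx s, fun _ hz => x_Z0 D.R.x_add n D.y₀fix s hz,
    fun _ hy => x_sub_mem_Z0 D.hψ D.R.x_zero D.R.x_add D.hq n y₀ N D.line hy s⟩

theorem KData.n_mul_ninv {ψ : AddChar F ℂ} {x : F → Module.End ℂ M} {n : Module.End ℂ M}
    {h : F → Module.End ℂ M} {N : Submodule ℂ M} {y₀ : M} (D : KData ψ x n h N y₀) :
    n * (n * h (-1)) = 1 ∧ (n * h (-1)) * n = 1 := by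
  have hc : n * h (-1) = h (-1) * n := by
    have := D.R.nh (-1) (by simp)
    rwa [inv_neg_one] at this
  constructor
  · rw [← mul_assoc, D.R.nn, h_neg_one_sq D.R]
  · rw [hc, mul_assoc, D.R.nn, h_neg_one_sq D.R]

/-- The opposite root elements `n x(s) n⁻¹`, `n⁻¹ = n h(-1)`, act trivially on `N / Z₀`. -/
theorem KData.opp_mem_Triv {ψ : AddChar F ℂ} {x : F → Module.End ℂ M} {n : Module.End ℂ M}
    {h : F → Module.End ℂ M} {N : Submodule ℂ M} {y₀ : M} (D : KData ψ x n h N y₀) (s : F) :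
    n * x s * (n * h (-1)) ∈ Triv N (Z0 x n y₀) := by
  have hc : n * h (-1) = h (-1) * n := by
    have := D.R.nh (-1) (by simp)
    rwa [inv_neg_one] at this
  have hnZ : ∀ z ∈ Z0 x n y₀, n z ∈ Z0 x n y₀ := fun z hz => n_Z0 D.R D.y₀fix D.y₀h hz
  -- `n' = n h(-1) = h(-1) n` stabilises `N` and `Z₀`
  have hn'N : ∀ y ∈ N, (n * h (-1)) y ∈ N := fun y hy => D.Nn _ (D.Nh y hy)
  have hhZ : ∀ z ∈ Z0 x n y₀, h (-1) z ∈ Z0 x n y₀ := by
    intro z hz
    have h1 : h (-1) z = n (n z) := by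
      have := congrArg (fun f => f z) D.R.nn
      simpa using this.symm
    rw [h1]
    exact hnZ _ (hnZ _ hz)
  have hn'Z : ∀ z ∈ Z0 x n y₀, (n * h (-1)) z ∈ Z0 x n y₀ := fun z hz => hnZ _ (hhZ z hz)
  refine ⟨fun y hy => D.Nn _ (D.Nx s _ (hn'N y hy)), fun z hz => hnZ _ (x_Z0 D.R.x_add n D.y₀fix s (hn'Z z hz)),
    fun y hy => ?_⟩
  have h2 : (n * x s * (n * h (-1))) y - y = n (x s ((n * h (-1)) y) - (n * h (-1)) y) := by
    have := congrArg (fun f => f y) D.n_mul_ninv.1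
    simp only [Module.End.mul_apply, Module.End.one_apply] at this
    simp only [Module.End.mul_apply, map_sub]
    rw [this]
  rw [h2]
  exact hnZ _ ((D.x_mem_Triv s).2.2 _ (hn'N y hy))

/-- (d1) For `k` acting trivially on `N / Z₀` and `y ∈ N` with `y`, `k y` both `X`-fixed:
`k y - y ∈ span {y₀, J y₀}`. -/
theorem KData.d1 {ψ : AddChar F ℂ} {x : F → Module.End ℂ M} {n : Module.End ℂ M}
    {h : F → Module.End ℂ M} {N : Submodule ℂ M} {y₀ : M} (D : KData ψ x n h N y₀)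
    {k : Module.End ℂ M} (hk : k ∈ Triv N (Z0 x n y₀)) {y : M} (hy : y ∈ N) (hyf : y ∈ fixX x)
    (hkf : k y ∈ fixX x) : k y - y ∈ Submodule.span ℂ {y₀, Jop x n y₀} :=
  Z0_fix D.R.x_add D.hq n D.y₀fix (hk.2.2 y hy) ((fixX x).sub_mem hkf hyf)

/-- (d2) Averaging over a finite family of operators in `Triv` that is permuted by left
multiplication with `x s` and `n`: the average `y₁` of `y ∈ N` is fixed by `x s` and `n`, and
`y - y₁ ∈ Z₀`; if `y` is `X`-fixed then `y - y₁ ∈ span {y₀, J y₀}`. -/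
theorem KData.d2 {ψ : AddChar F ℂ} {x : F → Module.End ℂ M} {n : Module.End ℂ M}
    {h : F → Module.End ℂ M} {N : Submodule ℂ M} {y₀ : M} (D : KData ψ x n h N y₀)
    {ι : Type*} [Fintype ι] [Nonempty ι] (k : ι → Module.End ℂ M)
    (hk : ∀ i, k i ∈ Triv N (Z0 x n y₀))
    (hkx : ∀ s, ∃ σ : Equiv.Perm ι, ∀ i, x s * k i = k (σ i))
    (hkn : ∃ σ : Equiv.Perm ι, ∀ i, n * k i = k (σ i)) {y : M} (hy : y ∈ N) :
    ∃ y₁ : M, y₁ ∈ N ∧ (∀ s, x s y₁ = y₁) ∧ n y₁ = y₁ ∧ y - y₁ ∈ Z0 x n y₀ ∧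
      (y ∈ fixX x → y - y₁ ∈ Submodule.span ℂ {y₀, Jop x n y₀}) := by
  have hι : (Fintype.card ι : ℂ) ≠ 0 := by
    exact_mod_cast Fintype.card_ne_zero
  set S : M := ∑ i, k i y with hS
  have hfix : ∀ g : Module.End ℂ M, (∃ σ : Equiv.Perm ι, ∀ i, g * k i = k (σ i)) → g S = S := by
    rintro g ⟨σ, hσ⟩
    rw [hS, map_sum]
    have : ∀ i, g (k i y) = k (σ i) y := fun i => by
      have := congrArg (fun f => f y) (hσ i)
      simpa using this
    simp_rw [this]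
    exact Fintype.sum_equiv σ (fun i => k (σ i) y) (fun i => k i y) (fun i => rfl)
  refine ⟨(Fintype.card ι : ℂ)⁻¹ • S, ?_, ?_, ?_, ?_⟩
  · exact N.smul_mem _ (N.sum_mem fun i _ => (hk i).1 y hy)
  · intro s
    rw [map_smul, hfix _ (hkx s)]
  · rw [map_smul, hfix _ hkn]
  · have hZ : y - (Fintype.card ι : ℂ)⁻¹ • S ∈ Z0 x n y₀ := by
      have h1 : y - (Fintype.card ι : ℂ)⁻¹ • S = (Fintype.card ι : ℂ)⁻¹ • ∑ i, (y - k i y) := by
        rw [Finset.sum_sub_distrib, Finset.sum_const, Finset.card_univ, smul_sub,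
          ← Nat.cast_smul_eq_nsmul ℂ, smul_smul, inv_mul_cancel₀ hι, one_smul]
      rw [h1]
      refine Submodule.smul_mem _ _ (Submodule.sum_mem _ fun i _ => ?_)
      have := (hk i).2.2 y hy
      rw [← neg_sub]
      exact Submodule.neg_mem _ this
    refine ⟨hZ, fun hyf => ?_⟩
    refine Z0_fix D.R.x_add D.hq n D.y₀fix hZ ((fixX x).sub_mem hyf ?_)
    intro s
    rw [map_smul, hfix _ (hkx s)]

/-- If `n y₀` is not `X`-fixed, some non-trivial isotypic component of `n y₀` is non-zero. -/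
theorem exists_eop_ne_zero {ψ : AddChar F ℂ} (hψ : ψ.IsPrimitive) {x : F → Module.End ℂ M}
    (h0 : x 0 = 1) (hadd : ∀ s t, x (s + t) = x s * x t) (hq : (Fintype.card F : ℂ) ≠ 0)
    {z : M} (hz : z ∉ fixX x) : ∃ c, c ≠ 0 ∧ eop ψ x c z ≠ 0 := by
  classical
  by_contra hcon
  push Not at hcon
  apply hz
  have h1 : z = ∑ c, eop ψ x c z := by
    have := congrArg (fun f => f z) (sum_eop hψ h0 hq)
    simpa [LinearMap.sum_apply] using this.symm
  have h2 : ∑ c, eop ψ x c z = eop ψ x 0 z := by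
    rw [Finset.sum_eq_single (0 : F)]
    · intro c _ hc
      exact hcon c hc
    · intro h
      exact absurd (Finset.mem_univ _) h
  rw [h1, h2]
  exact eop_zero_mem_fixX ψ hadd z

/-- Transport of `e_c (n y₀) ≠ 0` along a torus operator. -/
theorem eop_n_ne_zero_of_tau (ψ : AddChar F ℂ) {x : F → Module.End ℂ M} {n τ τ' : Module.End ℂ M}
    {d : F} (hd : d ≠ 0) (hτx : ∀ s, τ * x s = x (d * s) * τ) (hτn : τ * n = n * τ')
    (hτinj : ∀ z, τ z = 0 → z = 0) {y₀ : M} {a : ℂ} (ha : τ' y₀ = a • y₀) {c : F}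
    (hc : eop ψ x c (n y₀) ≠ 0) : eop ψ x (c / d) (n y₀) ≠ 0 := by
  intro h0
  apply hc
  apply hτinj
  have h1 := congrArg (fun f => f (n y₀)) (tau_eop ψ hd hτx c)
  simp only [Module.End.mul_apply] at h1
  have h2 : τ (n y₀) = a • n y₀ := by
    have := congrArg (fun f => f y₀) hτn
    simp only [Module.End.mul_apply] at this
    rw [this, ha, map_smul]
  rw [h1, h2, map_smul, h0, smul_zero]

end Cfsg.Agent.Lib.Helper85_OO2_RankOne
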