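import Mathlib
import Cfsg.Agent.Lib.Helper95_OPDefs
import Cfsg.Agent.Lib.Helper95_OPBasic
import Cfsg.Agent.Lib.Helper48_OODefs
import Cfsg.Agent.Lib.Helper87_OO2Defs
import Cfsg.Agent.Lib.Helper87_OO2Defs2
import Cfsg.Agent.Lib.Helper85_OO2_RankOne
import Cfsg.Agent.Lib.Helper85_OO2_LemK
import Cfsg.Agent.Lib.Helper16_OO2B3Defs

set_option autoImplicit false

/-!
# OO2-B3-FRAME (helper10 for helper16): a quadratic form of odd type of rank 3 has a `Frame3`: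
three mutually orthogonal hyperbolic pairs and a non-singular vector orthogonal to them.
-/

namespace Cfsg.Agent.Lib.Helper10_OO2_B3_FRAME

open Module Cfsg.Agent.Lib.Helper94_OrthSmall Cfsg.Agent.Lib.Helper44_QuadClass
  Cfsg.Agent.Lib.Helper14_OmegaSimple Cfsg.Agent.Lib.Helper38_MIODefs
  Cfsg.Agent.Lib.Helper95_OPDefs Cfsg.Agent.Lib.Helper95_OPBasic Cfsg.Agent.Lib.Helper48_OODefs
  Cfsg.Agent.Lib.Helper87_OO2Defs Cfsg.Agent.Lib.Helper16_OO2B3Defs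

variable {F V : Type*} [Field F] [Fintype F] [AddCommGroup V] [Module F V] [FiniteDimensional F V]

omit [FiniteDimensional F V] in
/-- a form of odd type of rank `0` (a line) is non-zero on every non-zero vector -/
theorem ne_zero_of_isOddT_zero (Q : QuadraticForm F V) (hP : IsOddT Q 0) {x : V} (hx : x ≠ 0) :
    Q x ≠ 0 := by
  intro h
  have hz := hP.zeros
  rw [Nat.mul_zero, pow_zero] at hz
  have hs : Subsingleton {x : V // Q x = 0} := (Nat.card_eq_one_iff_unique.mp hz).1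
  exact hx (congrArg Subtype.val
    (Subsingleton.elim (⟨x, h⟩ : {x : V // Q x = 0}) ⟨0, map_zero _⟩))

/-- a hyperbolic pair in a form of odd type of rank `m ≥ 1` -/
theorem exists_hpair (Q : QuadraticForm F V) (m : ℕ) (hm : 1 ≤ m) (hP : IsOddT Q m) :
    ∃ a a' : V, Q a = 0 ∧ Q a' = 0 ∧ QuadraticMap.polar (⇑Q) a a' = 1 := by
  obtain ⟨a, ha0, ha⟩ := exists_singular Q (by rw [hP.dim]; omega)
  obtain ⟨a', ha', haa'⟩ := exists_hyperbolic_partner Q hP.nondeg ha0 ha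
  exact ⟨a, a', ha, ha', haa'⟩

/-! ## OO2-B3-FRAME (M) -/
theorem exists_frame3 (Q : QuadraticForm F V) (hP : IsOddT Q 3) :
    ∃ v v' w0 w0' w1 w1' x0 : V, Frame3 Q v v' w0 w0' w1 w1' x0 := by
  obtain ⟨v, v', hv, hv', hvv'⟩ := exists_hpair Q 3 (by norm_num) hP
  have hP1 : IsOddT (Qp Q v v') 2 := isOddT_perp Q 3 (by norm_num) hP hv hv' hvv'
  obtain ⟨w0, w0', hw0, hw0', hw0w0'⟩ := exists_hpair (Qp Q v v') 2 (by norm_num) hP1
  have hP2 : IsOddT (Qp (Qp Q v v') w0 w0') 1 :=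
    isOddT_perp (Qp Q v v') 2 (by norm_num) hP1 hw0 hw0' hw0w0'
  obtain ⟨w1, w1', hw1, hw1', hw1w1'⟩ := exists_hpair (Qp (Qp Q v v') w0 w0') 1 le_rfl hP2
  have hP3 := isOddT_perp (Qp (Qp Q v v') w0 w0') 1 le_rfl hP2 hw1 hw1' hw1w1'
  rw [Nat.sub_self] at hP3
  obtain ⟨x0, hx0⟩ : ∃ x0 : ↥(perp (Qp (Qp Q v v') w0 w0') w1 w1'), x0 ≠ 0 := by
    have h1 : 0 < finrank F ↥(perp (Qp (Qp Q v v') w0 w0') w1 w1') := by
      rw [hP3.dim]; norm_num
    have := Module.nontrivial_of_finrank_pos (R := F) h1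
    exact exists_ne 0
  have hqx := ne_zero_of_isOddT_zero _ hP3 hx0
  -- the membership facts
  have m0 := (mem_perp Q v v').1 w0.2
  have m0' := (mem_perp Q v v').1 w0'.2
  have m1 := (mem_perp Q v v').1 w1.1.2
  have m1' := (mem_perp Q v v').1 w1'.1.2
  have mx := (mem_perp Q v v').1 x0.1.1.2
  have n1 := (mem_perp (Qp Q v v') w0 w0').1 w1.2
  have n1' := (mem_perp (Qp Q v v') w0 w0').1 w1'.2
  have nx := (mem_perp (Qp Q v v') w0 w0').1 x0.1.2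
  have ox := (mem_perp (Qp (Qp Q v v') w0 w0') w1 w1').1 x0.2
  rw [polar_comp_subtype] at hw0w0'
  rw [polar_comp_subtype, polar_comp_subtype] at hw1w1'
  rw [polar_comp_subtype, polar_comp_subtype] at n1 n1' nx
  rw [polar_comp_subtype, polar_comp_subtype, polar_comp_subtype, polar_comp_subtype] at ox
  have pv : HPair Q v v' := ⟨hv, hv', hvv'⟩
  have pw0 : HPair Q (w0 : V) (w0' : V) := ⟨hw0, hw0', hw0w0'⟩
  have pw1 : HPair Q ((w1 : ↥(perp Q v v')) : V) ((w1' : ↥(perp Q v v')) : V) :=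
    ⟨hw1, hw1', hw1w1'⟩
  refine ⟨v, v', w0, w0', w1.1.1, w1'.1.1, x0.1.1.1, ?_⟩
  refine ⟨⟨pv, pw0, m0.1, m0'.1, m0.2, m0'.2⟩, ⟨pv, pw1, m1.1, m1'.1, m1.2, m1'.2⟩,
    ⟨pw0, pw1, n1.1, n1'.1, n1.2, n1'.2⟩, ?_, ?_, ?_, ?_, ?_, ?_, hqx⟩
  · rw [QuadraticMap.polar_comm]; exact mx.1
  · rw [QuadraticMap.polar_comm]; exact mx.2
  · rw [QuadraticMap.polar_comm]; exact nx.1
  · rw [QuadraticMap.polar_comm]; exact nx.2
  · rw [QuadraticMap.polar_comm]; exact ox.1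
  · rw [QuadraticMap.polar_comm]; exact ox.2

end Cfsg.Agent.Lib.Helper10_OO2_B3_FRAME
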