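import Mathlib
import Cfsg.Agent.Lib.Helper95_OPDefs
import Cfsg.Agent.Lib.Helper95_OPBasic
import Cfsg.Agent.Lib.Helper48_OODefs
import Cfsg.Agent.Lib.Helper87_OO2Defs

/-!
# S2344 package OO2-EXT4 (helper42, for cutter helper87 / assembler helper48)

Two linear equivalences agreeing on two (three) mutually orthogonal hyperbolic pairs and on their common
orthogonal complement are equal.
-/

set_option autoImplicit false

namespace Cfsg.Agent.Lib.Helper42_OO2_EXT4

open Module Cfsg.Agent.Lib.Helper94_OrthSmall Cfsg.Agent.Lib.Helper44_QuadClass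
  Cfsg.Agent.Lib.Helper14_OmegaSimple Cfsg.Agent.Lib.Helper38_MIODefs
  Cfsg.Agent.Lib.Helper95_OPDefs Cfsg.Agent.Lib.Helper95_OPBasic Cfsg.Agent.Lib.Helper48_OODefs
  Cfsg.Agent.Lib.Helper87_OO2Defs

section partA

variable {F V : Type*} [Field F] [AddCommGroup V] [Module F V] {Q : QuadraticForm F V}

theorem polar_self_of_zero {a : V} (ha : Q a = 0) : QuadraticMap.polar (⇑Q) a a = 0 := by
  rw [QuadraticMap.polar_self, ha, smul_zero]

/-- the component of `x` orthogonal to a hyperbolic pair `(a, a')`, and its polars -/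
theorem polar_sub_pair_left {a a' : V} (h : HPair Q a a') (x y : V) :
    QuadraticMap.polar (⇑Q) (x - QuadraticMap.polar (⇑Q) y a' • a - QuadraticMap.polar (⇑Q) y a • a') a =
      QuadraticMap.polar (⇑Q) x a - QuadraticMap.polar (⇑Q) y a := by
  rw [QuadraticMap.polar_sub_left, QuadraticMap.polar_sub_left, QuadraticMap.polar_smul_left,
    QuadraticMap.polar_smul_left, polar_self_of_zero h.qa, QuadraticMap.polar_comm (⇑Q) a' a, h.aa']
  simp

theorem polar_sub_pair_right {a a' : V} (h : HPair Q a a') (x y : V) :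
    QuadraticMap.polar (⇑Q) (x - QuadraticMap.polar (⇑Q) y a' • a - QuadraticMap.polar (⇑Q) y a • a') a' =
      QuadraticMap.polar (⇑Q) x a' - QuadraticMap.polar (⇑Q) y a' := by
  rw [QuadraticMap.polar_sub_left, QuadraticMap.polar_sub_left, QuadraticMap.polar_smul_left,
    QuadraticMap.polar_smul_left, polar_self_of_zero h.qa', h.aa']
  simp

/-- subtracting a combination of a pair orthogonal to `c` does not change the polar with `c` -/
theorem polar_sub_pair_orth {a a' c : V} (h1 : QuadraticMap.polar (⇑Q) a c = 0)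
    (h2 : QuadraticMap.polar (⇑Q) a' c = 0) (x : V) (s t : F) :
    QuadraticMap.polar (⇑Q) (x - s • a - t • a') c = QuadraticMap.polar (⇑Q) x c := by
  rw [QuadraticMap.polar_sub_left, QuadraticMap.polar_sub_left, QuadraticMap.polar_smul_left,
    QuadraticMap.polar_smul_left, h1, h2]
  simp

theorem ext4 {a a' b b' : V} (h : HQuad Q a a' b b') (g g' : V ≃ₗ[F] V)
    (h1 : g a = g' a) (h2 : g a' = g' a') (h3 : g b = g' b) (h4 : g b' = g' b')
    (h5 : ∀ w : V, QuadraticMap.polar (⇑Q) w a = 0 → QuadraticMap.polar (⇑Q) w a' = 0 →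
      QuadraticMap.polar (⇑Q) w b = 0 → QuadraticMap.polar (⇑Q) w b' = 0 → g w = g' w) :
    g = g' := by
  apply LinearEquiv.ext
  intro x
  have hba : QuadraticMap.polar (⇑Q) b a = 0 := by rw [QuadraticMap.polar_comm]; exact h.ab
  have hb'a : QuadraticMap.polar (⇑Q) b' a = 0 := by rw [QuadraticMap.polar_comm]; exact h.ab'
  have hba' : QuadraticMap.polar (⇑Q) b a' = 0 := by rw [QuadraticMap.polar_comm]; exact h.a'b
  have hb'a' : QuadraticMap.polar (⇑Q) b' a' = 0 := by rw [QuadraticMap.polar_comm]; exact h.a'b'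
  obtain ⟨w, hw⟩ : ∃ w : V, w = x - QuadraticMap.polar (⇑Q) x a' • a - QuadraticMap.polar (⇑Q) x a • a' -
      QuadraticMap.polar (⇑Q) x b' • b - QuadraticMap.polar (⇑Q) x b • b' := ⟨_, rfl⟩
  have hwa : QuadraticMap.polar (⇑Q) w a = 0 := by
    rw [hw, polar_sub_pair_orth hba hb'a, polar_sub_pair_left h.pa, sub_self]
  have hwa' : QuadraticMap.polar (⇑Q) w a' = 0 := by
    rw [hw, polar_sub_pair_orth hba' hb'a', polar_sub_pair_right h.pa, sub_self]
  have hwb : QuadraticMap.polar (⇑Q) w b = 0 := by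
    rw [hw, polar_sub_pair_left h.pb, polar_sub_pair_orth h.ab h.a'b, sub_self]
  have hwb' : QuadraticMap.polar (⇑Q) w b' = 0 := by
    rw [hw, polar_sub_pair_right h.pb, polar_sub_pair_orth h.ab' h.a'b', sub_self]
  have hx : x = w + QuadraticMap.polar (⇑Q) x a' • a + QuadraticMap.polar (⇑Q) x a • a' +
      QuadraticMap.polar (⇑Q) x b' • b + QuadraticMap.polar (⇑Q) x b • b' := by
    rw [hw]; abel
  rw [hx]
  simp only [map_add, map_smul]
  rw [h1, h2, h3, h4, h5 w hwa hwa' hwb hwb']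

theorem ext6 {a a' b b' c c' : V} (hab : HQuad Q a a' b b') (hac : HQuad Q a a' c c')
    (hbc : HQuad Q b b' c c') (g g' : V ≃ₗ[F] V)
    (h1 : g a = g' a) (h2 : g a' = g' a') (h3 : g b = g' b) (h4 : g b' = g' b')
    (h5 : g c = g' c) (h6 : g c' = g' c')
    (h7 : ∀ w : V, QuadraticMap.polar (⇑Q) w a = 0 → QuadraticMap.polar (⇑Q) w a' = 0 →
      QuadraticMap.polar (⇑Q) w b = 0 → QuadraticMap.polar (⇑Q) w b' = 0 →
      QuadraticMap.polar (⇑Q) w c = 0 → QuadraticMap.polar (⇑Q) w c' = 0 → g w = g' w) :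
    g = g' := by
  apply LinearEquiv.ext
  intro x
  have hba : QuadraticMap.polar (⇑Q) b a = 0 := by rw [QuadraticMap.polar_comm]; exact hab.ab
  have hb'a : QuadraticMap.polar (⇑Q) b' a = 0 := by rw [QuadraticMap.polar_comm]; exact hab.ab'
  have hba' : QuadraticMap.polar (⇑Q) b a' = 0 := by rw [QuadraticMap.polar_comm]; exact hab.a'b
  have hb'a' : QuadraticMap.polar (⇑Q) b' a' = 0 := by rw [QuadraticMap.polar_comm]; exact hab.a'b'
  have hca : QuadraticMap.polar (⇑Q) c a = 0 := by rw [QuadraticMap.polar_comm]; exact hac.ab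
  have hc'a : QuadraticMap.polar (⇑Q) c' a = 0 := by rw [QuadraticMap.polar_comm]; exact hac.ab'
  have hca' : QuadraticMap.polar (⇑Q) c a' = 0 := by rw [QuadraticMap.polar_comm]; exact hac.a'b
  have hc'a' : QuadraticMap.polar (⇑Q) c' a' = 0 := by rw [QuadraticMap.polar_comm]; exact hac.a'b'
  have hcb : QuadraticMap.polar (⇑Q) c b = 0 := by rw [QuadraticMap.polar_comm]; exact hbc.ab
  have hc'b : QuadraticMap.polar (⇑Q) c' b = 0 := by rw [QuadraticMap.polar_comm]; exact hbc.ab'
  have hcb' : QuadraticMap.polar (⇑Q) c b' = 0 := by rw [QuadraticMap.polar_comm]; exact hbc.a'b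
  have hc'b' : QuadraticMap.polar (⇑Q) c' b' = 0 := by rw [QuadraticMap.polar_comm]; exact hbc.a'b'
  obtain ⟨w, hw⟩ : ∃ w : V, w = x - QuadraticMap.polar (⇑Q) x a' • a - QuadraticMap.polar (⇑Q) x a • a' -
      QuadraticMap.polar (⇑Q) x b' • b - QuadraticMap.polar (⇑Q) x b • b' -
      QuadraticMap.polar (⇑Q) x c' • c - QuadraticMap.polar (⇑Q) x c • c' := ⟨_, rfl⟩
  have hwa : QuadraticMap.polar (⇑Q) w a = 0 := by
    rw [hw, polar_sub_pair_orth hca hc'a, polar_sub_pair_orth hba hb'a, polar_sub_pair_left hab.pa,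
      sub_self]
  have hwa' : QuadraticMap.polar (⇑Q) w a' = 0 := by
    rw [hw, polar_sub_pair_orth hca' hc'a', polar_sub_pair_orth hba' hb'a',
      polar_sub_pair_right hab.pa, sub_self]
  have hwb : QuadraticMap.polar (⇑Q) w b = 0 := by
    rw [hw, polar_sub_pair_orth hcb hc'b, polar_sub_pair_left hab.pb,
      polar_sub_pair_orth hab.ab hab.a'b, sub_self]
  have hwb' : QuadraticMap.polar (⇑Q) w b' = 0 := by
    rw [hw, polar_sub_pair_orth hcb' hc'b', polar_sub_pair_right hab.pb,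
      polar_sub_pair_orth hab.ab' hab.a'b', sub_self]
  have hwc : QuadraticMap.polar (⇑Q) w c = 0 := by
    rw [hw, polar_sub_pair_left hac.pb, polar_sub_pair_orth hbc.ab hbc.a'b,
      polar_sub_pair_orth hac.ab hac.a'b, sub_self]
  have hwc' : QuadraticMap.polar (⇑Q) w c' = 0 := by
    rw [hw, polar_sub_pair_right hac.pb, polar_sub_pair_orth hbc.ab' hbc.a'b',
      polar_sub_pair_orth hac.ab' hac.a'b', sub_self]
  have hx : x = w + QuadraticMap.polar (⇑Q) x a' • a + QuadraticMap.polar (⇑Q) x a • a' +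
      QuadraticMap.polar (⇑Q) x b' • b + QuadraticMap.polar (⇑Q) x b • b' +
      QuadraticMap.polar (⇑Q) x c' • c + QuadraticMap.polar (⇑Q) x c • c' := by
    rw [hw]; abel
  rw [hx]
  simp only [map_add, map_smul]
  rw [h1, h2, h3, h4, h5, h6, h7 w hwa hwa' hwb hwb' hwc hwc']

end partA

end Cfsg.Agent.Lib.Helper42_OO2_EXT4
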