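import Mathlib
import Cfsg.Agent.Lib.Helper95_OPDefs
import Cfsg.Agent.Lib.Helper95_OPBasic
import Cfsg.Agent.Lib.Helper48_OODefs
import Cfsg.Agent.Lib.Helper87_OO2Defs
import Cfsg.Agent.Lib.Helper87_OO2Defs2
import Cfsg.Agent.Lib.Helper85_OO2_RankOne
import Cfsg.Agent.Lib.Helper85_OO2_LemK
import Cfsg.Agent.Lib.Helper16_OO2B3Defs
import Cfsg.Agent.Lib.Helper42_OO2_EXT4

set_option autoImplicit false
set_option linter.unusedVariables false

/-!
# OO2-B3-W1SPAN (helper10 for helper16): for a `Frame3` of a form of odd type of rank 3,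
`W1 = span {w1, w1', x0}`.
-/

namespace Cfsg.Agent.Lib.Helper10_OO2_B3_W1SPAN

open Module Cfsg.Agent.Lib.Helper94_OrthSmall Cfsg.Agent.Lib.Helper44_QuadClass
  Cfsg.Agent.Lib.Helper14_OmegaSimple Cfsg.Agent.Lib.Helper38_MIODefs
  Cfsg.Agent.Lib.Helper95_OPDefs Cfsg.Agent.Lib.Helper95_OPBasic Cfsg.Agent.Lib.Helper48_OODefs
  Cfsg.Agent.Lib.Helper87_OO2Defs Cfsg.Agent.Lib.Helper16_OO2B3Defs

section general

variable {F V : Type*} [Field F] [AddCommGroup V] [Module F V] [FiniteDimensional F V]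

/-- splitting a hyperbolic pair off a subspace containing it lowers the dimension by two -/
theorem finrank_inf_perp (Q : QuadraticForm F V) (S : Submodule F V) {a a' : V} (ha : a ∈ S)
    (ha' : a' ∈ S) (h : HPair Q a a') : finrank F ↥(S ⊓ perp Q a a') + 2 = finrank F ↥S := by
  have h1 := finrank_perp (Q := Q.comp S.subtype) (e := ⟨a, ha⟩) (f := ⟨a', ha'⟩)
    (by simpa using h.qa) (by simpa using h.qa') (by rw [polar_comp_subtype]; exact h.aa')
  have h2 : (perp (Q.comp S.subtype) ⟨a, ha⟩ ⟨a', ha'⟩).map S.subtype = S ⊓ perp Q a a' := by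
    ext x
    simp only [Submodule.mem_map, Submodule.mem_inf, mem_perp, polar_comp_subtype,
      Submodule.subtype_apply]
    constructor
    · rintro ⟨y, hy, rfl⟩
      exact ⟨y.2, hy⟩
    · rintro ⟨hx, hy⟩
      exact ⟨⟨x, hx⟩, hy, rfl⟩
  rw [← h2, Submodule.finrank_map_subtype_eq]
  exact h1

end general

variable {F V : Type*} [Field F] [Fintype F] [AddCommGroup V] [Module F V] [FiniteDimensional F V]

/-- the dimension of `W1` for a form of odd type of rank `m` -/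
theorem finrank_W1 (Q : QuadraticForm F V) (m : ℕ) (hP : IsOddT Q m) {v v' w0 w0' : V}
    (h : HQuad Q v v' w0 w0') : finrank F ↥(W1 Q v v' w0 w0') + 4 = 2 * m + 1 := by
  have h1 := finrank_perp h.pa.qa h.pa.qa' h.pa.aa'
  have h2 := finrank_inf_perp Q (perp Q v v') (HQuad.mem_perp Q h).1 (HQuad.mem_perp Q h).2 h.pb
  have h3 := hP.dim
  unfold W1
  omega

/-! ## OO2-B3-W1SPAN (M) -/
theorem mem_W1_iff (Q : QuadraticForm F V) (hP : IsOddT Q 3) (hF : ringChar F ≠ 2)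
    {v v' w0 w0' w1 w1' x0 : V} (fr : Frame3 Q v v' w0 w0' w1 w1' x0) (w : V) :
    w ∈ W1 Q v v' w0 w0' ↔ ∃ α β γ : F, w = α • w1 + β • w1' + γ • x0 := by
  constructor
  · intro hw
    have hd := finrank_W1 Q 3 hP fr.h01
    have h3 := finrank_inf_perp Q (W1 Q v v' w0 w0') (Frame3.w1_mem Q fr) (Frame3.w1'_mem Q fr)
      fr.h02.pb
    have h1 : finrank F ↥(W1 Q v v' w0 w0' ⊓ perp Q w1 w1') = 1 := by omega
    have hx0 : x0 ∈ W1 Q v v' w0 w0' ⊓ perp Q w1 w1' := by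
      refine ⟨Frame3.x0_mem Q fr, (mem_perp Q w1 w1').2 ⟨?_, ?_⟩⟩
      · rw [QuadraticMap.polar_comm]; exact fr.xw1
      · rw [QuadraticMap.polar_comm]; exact fr.xw1'
    have hx00 : (⟨x0, hx0⟩ : ↥(W1 Q v v' w0 w0' ⊓ perp Q w1 w1')) ≠ 0 := by
      intro h0
      have : x0 = 0 := congrArg Subtype.val h0
      exact fr.qx (by rw [this, map_zero])
    have hu : w - QuadraticMap.polar (⇑Q) w w1' • w1 - QuadraticMap.polar (⇑Q) w w1 • w1' ∈
        W1 Q v v' w0 w0' ⊓ perp Q w1 w1' := by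
      refine ⟨?_, (mem_perp Q w1 w1').2 ⟨?_, ?_⟩⟩
      · exact Submodule.sub_mem _ (Submodule.sub_mem _ hw
          (Submodule.smul_mem _ _ (Frame3.w1_mem Q fr)))
          (Submodule.smul_mem _ _ (Frame3.w1'_mem Q fr))
      · rw [QuadraticMap.polar_comm,
          Cfsg.Agent.Lib.Helper42_OO2_EXT4.polar_sub_pair_left fr.h02.pb, sub_self]
      · rw [QuadraticMap.polar_comm,
          Cfsg.Agent.Lib.Helper42_OO2_EXT4.polar_sub_pair_right fr.h02.pb, sub_self]
    obtain ⟨γ, hγ⟩ := (finrank_eq_one_iff_of_nonzero' _ hx00).mp h1 ⟨_, hu⟩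
    have hγ' : γ • x0 =
        w - QuadraticMap.polar (⇑Q) w w1' • w1 - QuadraticMap.polar (⇑Q) w w1 • w1' :=
      congrArg Subtype.val hγ
    refine ⟨QuadraticMap.polar (⇑Q) w w1', QuadraticMap.polar (⇑Q) w w1, γ, ?_⟩
    rw [hγ']
    abel
  · rintro ⟨α, β, γ, rfl⟩
    exact Submodule.add_mem _ (Submodule.add_mem _
      (Submodule.smul_mem _ _ (Frame3.w1_mem Q fr)) (Submodule.smul_mem _ _ (Frame3.w1'_mem Q fr)))
      (Submodule.smul_mem _ _ (Frame3.x0_mem Q fr))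

end Cfsg.Agent.Lib.Helper10_OO2_B3_W1SPAN
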