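import Mathlib
import Cfsg.Agent.Lib.Helper95_OPDefs
import Cfsg.Agent.Lib.Helper95_OPBasic

/-!
# S2345 market (architect helper95), package OP-CNTA

The number of non-zero singular vectors orthogonal to a given non-zero singular vector `w` of a
plus-type quadratic space of rank `m`: `q^(2m-2) + q^m - q^(m-1) - 1`.

Tools (reused by OP-CNTB): `card_fiber` (decomposition `u = α v + u₂` along a hyperbolic pair),
`card_ne_zero_and` (removing the zero vector), `card_sing_perp_one_zero` (the count including `0`).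
-/

set_option autoImplicit false

namespace Cfsg.Agent.Lib.Helper78_OP_CNTA

open Module Cfsg.Agent.Lib.Helper94_OrthSmall Cfsg.Agent.Lib.Helper44_QuadClass
  Cfsg.Agent.Lib.Helper14_OmegaSimple Cfsg.Agent.Lib.Helper38_MIODefs
  Cfsg.Agent.Lib.Helper95_OPDefs Cfsg.Agent.Lib.Helper95_OPBasic

section general

variable {F W : Type*} [Field F] [AddCommGroup W] [Module F W]

/-- Decomposition along a hyperbolic pair `v, v'`: the vectors `u ⊥ v` are `α v + u₂` with
`u₂ ∈ perp Q v v'`, uniquely.  For a predicate `P` invariant under `u₂ ↦ α v + u₂` this gives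
`#{u ⊥ v : P u} = |F| * #{u₂ ∈ perp : P u₂}`. -/
theorem card_fiber (Q : QuadraticForm F W) {v v' : W} (hv : Q v = 0)
    (hvv' : QuadraticMap.polar (⇑Q) v v' = 1) (P : W → Prop)
    (hP : ∀ (α : F) (u : W), u ∈ perp Q v v' → (P (α • v + u) ↔ P u)) :
    Nat.card {u : W // QuadraticMap.polar (⇑Q) u v = 0 ∧ P u} =
      Nat.card F * Nat.card {u₂ : ↥(perp Q v v') // P (u₂ : W)} := by
  have hvv : QuadraticMap.polar (⇑Q) v v = 0 := by rw [polar_self', hv, mul_zero]
  have hv'v : QuadraticMap.polar (⇑Q) v' v = 1 := by rw [QuadraticMap.polar_comm, hvv']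
  have hmem : ∀ u : W, QuadraticMap.polar (⇑Q) u v = 0 →
      u - QuadraticMap.polar (⇑Q) u v' • v ∈ perp Q v v' := by
    intro u hu
    rw [mem_perp]
    constructor
    · rw [QuadraticMap.polar_sub_right, QuadraticMap.polar_smul_right, hvv,
        QuadraticMap.polar_comm, hu]
      simp
    · rw [QuadraticMap.polar_sub_right, QuadraticMap.polar_smul_right, hv'v,
        QuadraticMap.polar_comm (⇑Q) v' u]
      simp
  rw [← Nat.card_prod]
  apply Nat.card_congr
  refine
    { toFun := fun u => (QuadraticMap.polar (⇑Q) u.1 v',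
        ⟨⟨u.1 - QuadraticMap.polar (⇑Q) u.1 v' • v, hmem u.1 u.2.1⟩, ?_⟩)
      invFun := fun p => ⟨p.1 • v + (p.2.1 : W), ?_, ?_⟩
      left_inv := ?_
      right_inv := ?_ }
  · -- `P u₂`
    have h := hP (QuadraticMap.polar (⇑Q) u.1 v') _ (hmem u.1 u.2.1)
    have e : QuadraticMap.polar (⇑Q) u.1 v' • v + (u.1 - QuadraticMap.polar (⇑Q) u.1 v' • v)
        = u.1 := by abel
    rw [e] at h
    exact h.mp u.2.2
  · -- orthogonal to `v`
    have h2 := (mem_perp Q v v').mp p.2.1.2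
    rw [QuadraticMap.polar_add_left, QuadraticMap.polar_smul_left, hvv,
      QuadraticMap.polar_comm (⇑Q) (p.2.1 : W) v, h2.1]
    simp
  · -- `P`
    exact (hP p.1 _ p.2.1.2).mpr p.2.2
  · intro u
    apply Subtype.ext
    show QuadraticMap.polar (⇑Q) u.1 v' • v + (u.1 - QuadraticMap.polar (⇑Q) u.1 v' • v) = u.1
    abel
  · intro p
    have h2 := (mem_perp Q v v').mp p.2.1.2
    have hα : QuadraticMap.polar (⇑Q) (p.1 • v + (p.2.1 : W)) v' = p.1 := by
      rw [QuadraticMap.polar_add_left, QuadraticMap.polar_smul_left, hvv',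
        QuadraticMap.polar_comm (⇑Q) (p.2.1 : W) v', h2.2]
      simp
    apply Prod.ext
    · exact hα
    · apply Subtype.ext
      apply Subtype.ext
      show p.1 • v + (p.2.1 : W) - QuadraticMap.polar (⇑Q) (p.1 • v + (p.2.1 : W)) v' • v
        = (p.2.1 : W)
      rw [hα]
      abel

/-- Removing the zero vector from a counted set containing it. -/
theorem card_ne_zero_and {W : Type*} [Zero W] [Finite W] (P : W → Prop) (h0 : P 0) :
    Nat.card {u : W // u ≠ 0 ∧ P u} = Nat.card {u : W // P u} - 1 := by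
  have h1 : {u : W | u ≠ 0 ∧ P u} = {u : W | P u} \ {0} := by
    ext u
    simp [and_comm]
  have h0' : (0 : W) ∈ {u : W | P u} := h0
  show Nat.card ↥{u : W | u ≠ 0 ∧ P u} = Nat.card ↥{u : W | P u} - 1
  rw [Nat.card_coe_set_eq, Nat.card_coe_set_eq, h1, Set.ncard_sdiff_singleton_of_mem h0']

end general

section partC

variable {F W : Type*} [Field F] [Fintype F] [AddCommGroup W] [Module F W] [FiniteDimensional F W]

/-- The arithmetic of the count. -/
theorem arith_cnta (q m : ℕ) (hm : 2 ≤ m) :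
    q * (q ^ (2 * (m - 1) - 1) + q ^ (m - 1) - q ^ (m - 1 - 1)) =
      q ^ (2 * m - 2) + q ^ m - q ^ (m - 1) := by
  obtain ⟨j, rfl⟩ : ∃ j, m = j + 2 := ⟨m - 2, by omega⟩
  have e1 : 2 * (j + 2 - 1) - 1 = 2 * j + 1 := by omega
  have e2 : j + 2 - 1 = j + 1 := by omega
  have e3 : j + 1 - 1 = j := by omega
  have e4 : 2 * (j + 2) - 2 = 2 * j + 2 := by omega
  rw [e1, e2, e3, e4]
  rcases Nat.eq_zero_or_pos q with h0 | hq
  · subst h0
    simp
  have h1 : q ^ j ≤ q ^ (j + 1) := Nat.pow_le_pow_right hq (by omega)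
  have h2 : q ^ (j + 1) ≤ q ^ (j + 2) := Nat.pow_le_pow_right hq (by omega)
  have h3 : q ^ j ≤ q ^ (2 * j + 1) + q ^ (j + 1) := le_trans h1 (Nat.le_add_left _ _)
  have h4 : q ^ (j + 1) ≤ q ^ (2 * j + 2) + q ^ (j + 2) := le_trans h2 (Nat.le_add_left _ _)
  zify [h3, h4]
  ring

/-- OP-CNTA with the zero vector included. -/
theorem card_sing_perp_one_zero (Qw : QuadraticForm F W) (m : ℕ) (hm : 2 ≤ m) (hP : IsPlus Qw m)
    (w : W) (hw0 : w ≠ 0) (hw : Qw w = 0) :
    Nat.card {u : W // Qw u = 0 ∧ QuadraticMap.polar (⇑Qw) u w = 0} =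
      Fintype.card F ^ (2 * m - 2) + Fintype.card F ^ m - Fintype.card F ^ (m - 1) := by
  obtain ⟨w', hw', hww'⟩ := exists_hyperbolic_partner Qw hP.nondeg hw0 hw
  have hP' := isPlus_perp Qw m hm hP hw hw' hww'
  have hfib := card_fiber Qw hw hww' (fun u => Qw u = 0) (by
    intro α u hu
    have h2 := (mem_perp Qw w w').mp hu
    rw [map_smul_add, hw, h2.1]
    simp)
  have hZ := hP'.zeros
  have e : {u : W // Qw u = 0 ∧ QuadraticMap.polar (⇑Qw) u w = 0} ≃
      {u : W // QuadraticMap.polar (⇑Qw) u w = 0 ∧ Qw u = 0} :=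
    Equiv.subtypeEquivRight (fun u => and_comm)
  rw [Nat.card_congr e, hfib, Nat.card_eq_fintype_card (α := F)]
  have hZ' : Nat.card {u₂ : ↥(perp Qw w w') // Qw (u₂ : W) = 0} =
      Fintype.card F ^ (2 * (m - 1) - 1) + Fintype.card F ^ (m - 1)
        - Fintype.card F ^ (m - 1 - 1) := hZ
  rw [hZ']
  exact arith_cnta _ m hm

/-! ## OP-CNTA (M/L) -/
theorem card_sing_perp_one (Qw : QuadraticForm F W) (m : ℕ) (hm : 2 ≤ m) (hP : IsPlus Qw m)
    (w : W) (hw0 : w ≠ 0) (hw : Qw w = 0) :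
    Nat.card {u : W // u ≠ 0 ∧ Qw u = 0 ∧ QuadraticMap.polar (⇑Qw) u w = 0} =
      Fintype.card F ^ (2 * m - 2) + Fintype.card F ^ m - Fintype.card F ^ (m - 1) - 1 := by
  have hfin : Finite W := Module.finite_of_finite F
  rw [card_ne_zero_and (fun u : W => Qw u = 0 ∧ QuadraticMap.polar (⇑Qw) u w = 0)
    ⟨map_zero _, by simp⟩, card_sing_perp_one_zero Qw m hm hP w hw0 hw]

end partC

end Cfsg.Agent.Lib.Helper78_OP_CNTA
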