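import Mathlib
import Cfsg.Agent.Lib.Helper95_OPDefs
import Cfsg.Agent.Lib.Helper95_OPBasic
import Cfsg.Agent.Lib.Helper48_OODefs
import Cfsg.Agent.Lib.Helper78_OP_CNTA

/-!
# S2344 market (package cutter helper48), package OO-CNTA

The number of non-zero singular vectors orthogonal to a given non-zero singular vector `w` of an
odd-type quadratic space of rank `m`: `q^(2m-1) - 1`.  (Copy of `Helper78_OP_CNTA` with `IsPlus` replaced by
`IsOddT`; the general tools `card_fiber`, `card_ne_zero_and` are reused from there.)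
-/

set_option autoImplicit false

namespace Cfsg.Agent.Lib.Helper78_OO_CNTA

open Module Cfsg.Agent.Lib.Helper94_OrthSmall Cfsg.Agent.Lib.Helper44_QuadClass
  Cfsg.Agent.Lib.Helper14_OmegaSimple Cfsg.Agent.Lib.Helper38_MIODefs
  Cfsg.Agent.Lib.Helper95_OPDefs Cfsg.Agent.Lib.Helper95_OPBasic Cfsg.Agent.Lib.Helper48_OODefs
  Cfsg.Agent.Lib.Helper78_OP_CNTA

section partC

variable {F W : Type*} [Field F] [Fintype F] [AddCommGroup W] [Module F W] [FiniteDimensional F W]

/-- The arithmetic of the count. -/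
theorem arith_cnta_odd (q m : ℕ) (hm : 1 ≤ m) : q * q ^ (2 * (m - 1)) = q ^ (2 * m - 1) := by
  obtain ⟨j, rfl⟩ : ∃ j, m = j + 1 := ⟨m - 1, by omega⟩
  have e1 : 2 * (j + 1 - 1) = 2 * j := by omega
  have e2 : 2 * (j + 1) - 1 = 2 * j + 1 := by omega
  rw [e1, e2, pow_succ']

/-- OO-CNTA with the zero vector included. -/
theorem card_sing_perp_one_zero (Qw : QuadraticForm F W) (m : ℕ) (hm : 1 ≤ m) (hP : IsOddT Qw m)
    (w : W) (hw0 : w ≠ 0) (hw : Qw w = 0) :
    Nat.card {u : W // Qw u = 0 ∧ QuadraticMap.polar (⇑Qw) u w = 0} = Fintype.card F ^ (2 * m - 1) := by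
  obtain ⟨w', hw', hww'⟩ := exists_hyperbolic_partner Qw hP.nondeg hw0 hw
  have hP' := isOddT_perp Qw m hm hP hw hw' hww'
  have hfib := card_fiber Qw hw hww' (fun u => Qw u = 0) (by
    intro α u hu
    have h2 := (mem_perp Qw w w').mp hu
    rw [map_smul_add, hw, h2.1]
    simp)
  have hZ := hP'.zeros
  have e : {u : W // Qw u = 0 ∧ QuadraticMap.polar (⇑Qw) u w = 0} ≃
      {u : W // QuadraticMap.polar (⇑Qw) u w = 0 ∧ Qw u = 0} :=
    Equiv.subtypeEquivRight (fun u => and_comm)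
  rw [Nat.card_congr e, hfib, Nat.card_eq_fintype_card (α := F)]
  have hZ' : Nat.card {u₂ : ↥(perp Qw w w') // Qw (u₂ : W) = 0} = Fintype.card F ^ (2 * (m - 1)) := hZ
  rw [hZ']
  exact arith_cnta_odd _ m hm

/-! ## OO-CNTA (M/L) -/
theorem card_sing_perp_one (Qw : QuadraticForm F W) (m : ℕ) (hm : 1 ≤ m) (hP : IsOddT Qw m)
    (w : W) (hw0 : w ≠ 0) (hw : Qw w = 0) :
    Nat.card {u : W // u ≠ 0 ∧ Qw u = 0 ∧ QuadraticMap.polar (⇑Qw) u w = 0} =
      Fintype.card F ^ (2 * m - 1) - 1 := by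
  have hfin : Finite W := Module.finite_of_finite F
  rw [card_ne_zero_and (fun u : W => Qw u = 0 ∧ QuadraticMap.polar (⇑Qw) u w = 0)
    ⟨map_zero _, by simp⟩, card_sing_perp_one_zero Qw m hm hP w hw0 hw]

end partC

end Cfsg.Agent.Lib.Helper78_OO_CNTA
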