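import Mathlib
import Cfsg.Agent.Lib.Helper95_OPDefs
import Cfsg.Agent.Lib.Helper95_OPBasic
import Cfsg.Agent.Lib.Helper48_OODefs
import Cfsg.Agent.Lib.Helper78_OO_CNTA

/-!
# S2344 (cutter helper87, assembler helper48), package OO2-SNC

The character sum `S(u) = ∑_{Q w = 0} ψ(B(u,w))` over the singular vectors of an odd-type space is not constant
on the non-singular vectors `u` (Parseval).
-/

set_option autoImplicit false
set_option linter.unusedSectionVars false

namespace Cfsg.Agent.Lib.Helper10_OO2_SNC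

open Module Cfsg.Agent.Lib.Helper94_OrthSmall Cfsg.Agent.Lib.Helper44_QuadClass
  Cfsg.Agent.Lib.Helper14_OmegaSimple Cfsg.Agent.Lib.Helper38_MIODefs
  Cfsg.Agent.Lib.Helper95_OPDefs Cfsg.Agent.Lib.Helper95_OPBasic Cfsg.Agent.Lib.Helper48_OODefs

open scoped ComplexConjugate

variable {F W : Type*} [Field F] [Fintype F] [AddCommGroup W] [Module F W]

/-- `∑_c ψ(c a) = 0` for `a ≠ 0` -/
theorem sum_psi_mul (ψ : AddChar F ℂ) (hψ : ψ ≠ 1) {a : F} (ha : a ≠ 0) :
    ∑ c : F, ψ (c * a) = 0 := by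
  have h := AddChar.sum_eq_zero_of_ne_one hψ
  rw [← h]
  exact Fintype.sum_bijective (fun c => c * a) (mulRight_bijective₀ a ha) _ _ (fun c => rfl)

/-- `∑_c ψ(c a) = q [a = 0]` -/
theorem sum_psi_mul_eq (ψ : AddChar F ℂ) (hψ : ψ ≠ 1) (a : F) [Decidable (a = 0)] :
    ∑ c : F, ψ (c * a) = if a = 0 then (Fintype.card F : ℂ) else 0 := by
  by_cases ha : a = 0
  · rw [if_pos ha, ha]
    simp
  · rw [if_neg ha]
    exact sum_psi_mul ψ hψ ha

variable [Fintype W]

/-- orthogonality: `∑_u ψ(B(u,x)) = 0` for `x ≠ 0` -/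
theorem sum_psi_polar (Qw : QuadraticForm F W) (hnd : (QuadraticMap.polarBilin Qw).Nondegenerate)
    (ψ : AddChar F ℂ) (hψ : ψ ≠ 1) {x : W} (hx : x ≠ 0) :
    ∑ u : W, ψ (QuadraticMap.polar (⇑Qw) u x) = 0 := by
  have hex : ∃ y, QuadraticMap.polarBilin Qw x y ≠ 0 := by
    by_contra hcon
    push Not at hcon
    exact hx (hnd.1 x hcon)
  obtain ⟨y, hy⟩ := hex
  rw [QuadraticMap.polarBilin_apply_apply, QuadraticMap.polar_comm] at hy
  obtain ⟨z, hz⟩ := AddChar.ne_one_iff.1 hψ
  -- translate by `c • y`, `c = z / B(y,x)`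
  set c : F := z / QuadraticMap.polar (⇑Qw) y x with hc
  have hcz : c * QuadraticMap.polar (⇑Qw) y x = z := by
    rw [hc]
    field_simp
  have h1 : ∑ u : W, ψ (QuadraticMap.polar (⇑Qw) (c • y + u) x) =
      ∑ u : W, ψ (QuadraticMap.polar (⇑Qw) u x) :=
    Fintype.sum_bijective (fun u => c • y + u) (AddGroup.addLeft_bijective _) _ _ (fun u => rfl)
  have h2 : ∑ u : W, ψ (QuadraticMap.polar (⇑Qw) (c • y + u) x) =
      ψ z * ∑ u : W, ψ (QuadraticMap.polar (⇑Qw) u x) := by
    rw [Finset.mul_sum]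
    refine Finset.sum_congr rfl (fun u _ => ?_)
    rw [QuadraticMap.polar_add_left, QuadraticMap.polar_smul_left, smul_eq_mul, hcz,
      AddChar.map_add_eq_mul]
  rw [h2] at h1
  have h3 : (ψ z - 1) * ∑ u : W, ψ (QuadraticMap.polar (⇑Qw) u x) = 0 := by
    rw [sub_mul, h1, one_mul, sub_self]
  rcases mul_eq_zero.1 h3 with h4 | h4
  · exact absurd (sub_eq_zero.1 h4) hz
  · exact h4

/-- the character sum over the singular vectors -/
noncomputable def Ssum (Qw : QuadraticForm F W) (ψ : AddChar F ℂ) (u : W) : ℂ :=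
  ∑ w : W, open Classical in if Qw w = 0 then ψ (QuadraticMap.polar (⇑Qw) u w) else 0

/-- the number of singular vectors -/
noncomputable def Zc (Qw : QuadraticForm F W) : ℕ :=
  open Classical in (Finset.univ.filter (fun w : W => Qw w = 0)).card

theorem Ssum_zero (Qw : QuadraticForm F W) (ψ : AddChar F ℂ) : Ssum Qw ψ 0 = (Zc Qw : ℂ) := by
  classical
  unfold Ssum Zc
  rw [Finset.card_filter, Nat.cast_sum]
  refine Finset.sum_congr rfl (fun w _ => ?_)
  by_cases h : Qw w = 0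
  · rw [if_pos h, if_pos h, QuadraticMap.polar_zero_left, AddChar.map_zero_eq_one, Nat.cast_one]
  · rw [if_neg h, if_neg h, Nat.cast_zero]

/-- scaling invariance -/
theorem Ssum_smul (Qw : QuadraticForm F W) (ψ : AddChar F ℂ) {c : F} (hc : c ≠ 0) (u : W) :
    Ssum Qw ψ (c • u) = Ssum Qw ψ u := by
  classical
  unfold Ssum
  have hbij : Function.Bijective (fun w : W => c • w) :=
    ⟨fun x y h => smul_right_injective W hc h, fun y => ⟨c⁻¹ • y, by simp [smul_smul, hc]⟩⟩
  refine Fintype.sum_bijective (fun w : W => c • w) hbij _ _ (fun w => ?_)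
  have h1 : Qw (c • w) = 0 ↔ Qw w = 0 := by
    rw [QuadraticMap.map_smul, smul_eq_mul]
    constructor
    · intro h
      rcases mul_eq_zero.1 h with h' | h'
      · exact absurd (mul_self_eq_zero.1 h') hc
      · exact h'
    · intro h
      rw [h, mul_zero]
  by_cases h : Qw w = 0
  · rw [if_pos h, if_pos (h1.2 h), QuadraticMap.polar_smul_left, QuadraticMap.polar_smul_right]
  · rw [if_neg h, if_neg (fun h' => h (h1.1 h'))]

/-- `∑_c S(c u) = q · #{w singular, w ⊥ u}` -/
theorem sum_Ssum_smul (Qw : QuadraticForm F W) (ψ : AddChar F ℂ) (hψ : ψ ≠ 1) (u : W) :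
    ∑ c : F, Ssum Qw ψ (c • u) = (Fintype.card F : ℂ) *
      ((open Classical in (Finset.univ.filter
        (fun w : W => Qw w = 0 ∧ QuadraticMap.polar (⇑Qw) u w = 0)).card : ℕ) : ℂ) := by
  classical
  unfold Ssum
  rw [Finset.sum_comm, Finset.card_filter, Nat.cast_sum, Finset.mul_sum]
  refine Finset.sum_congr rfl (fun w _ => ?_)
  by_cases h : Qw w = 0
  · simp only [if_pos h, QuadraticMap.polar_smul_left, smul_eq_mul]
    rw [sum_psi_mul_eq ψ hψ]
    by_cases h' : QuadraticMap.polar (⇑Qw) u w = 0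
    · rw [if_pos h', if_pos ⟨h, h'⟩, Nat.cast_one, mul_one]
    · rw [if_neg h', if_neg (fun hh => h' hh.2), Nat.cast_zero, mul_zero]
  · simp only [if_neg h, Finset.sum_const_zero]
    rw [if_neg (fun hh => h hh.1), Nat.cast_zero, mul_zero]

theorem sum_psi_polar_eq (Qw : QuadraticForm F W)
    (hnd : (QuadraticMap.polarBilin Qw).Nondegenerate) (ψ : AddChar F ℂ) (hψ : ψ ≠ 1) (x : W)
    [Decidable (x = 0)] :
    ∑ u : W, ψ (QuadraticMap.polar (⇑Qw) u x) = if x = 0 then (Fintype.card W : ℂ) else 0 := by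
  by_cases hx : x = 0
  · rw [if_pos hx, hx]
    simp
  · rw [if_neg hx]
    exact sum_psi_polar Qw hnd ψ hψ hx

/-- first moment -/
theorem sum_Ssum (Qw : QuadraticForm F W) (hnd : (QuadraticMap.polarBilin Qw).Nondegenerate)
    (ψ : AddChar F ℂ) (hψ : ψ ≠ 1) : ∑ u : W, Ssum Qw ψ u = (Fintype.card W : ℂ) := by
  classical
  unfold Ssum
  rw [Finset.sum_comm]
  have h1 : ∀ w : W, (∑ u : W, if Qw w = 0 then ψ (QuadraticMap.polar (⇑Qw) u w) else 0) =
      if w = 0 then (Fintype.card W : ℂ) else 0 := by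
    intro w
    by_cases h : Qw w = 0
    · simp only [if_pos h]
      exact sum_psi_polar_eq Qw hnd ψ hψ w
    · simp only [if_neg h, Finset.sum_const_zero]
      rw [if_neg]
      rintro rfl
      exact h (map_zero _)
  simp_rw [h1]
  rw [Finset.sum_ite_eq' Finset.univ (0 : W), if_pos (Finset.mem_univ _)]

/-- second moment -/
theorem sum_Ssum_conj (Qw : QuadraticForm F W) (hnd : (QuadraticMap.polarBilin Qw).Nondegenerate)
    (ψ : AddChar F ℂ) (hψ : ψ ≠ 1) :
    ∑ u : W, Ssum Qw ψ u * conj (Ssum Qw ψ u) = (Fintype.card W : ℂ) * (Zc Qw : ℂ) := by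
  classical
  have : Finite F := Finite.of_fintype F
  have hconj : ∀ u, conj (Ssum Qw ψ u) =
      ∑ w' : W, if Qw w' = 0 then ψ (-(QuadraticMap.polar (⇑Qw) u w')) else 0 := by
    intro u
    unfold Ssum
    rw [map_sum]
    refine Finset.sum_congr rfl (fun w _ => ?_)
    by_cases h : Qw w = 0
    · rw [if_pos h, if_pos h, AddChar.map_neg_eq_conj]
    · rw [if_neg h, if_neg h, map_zero]
  have h1 : ∀ u, Ssum Qw ψ u * conj (Ssum Qw ψ u) =
      ∑ w : W, ∑ w' : W, if Qw w = 0 ∧ Qw w' = 0 then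
        ψ (QuadraticMap.polar (⇑Qw) u (w - w')) else 0 := by
    intro u
    rw [hconj]
    unfold Ssum
    rw [Finset.sum_mul_sum]
    refine Finset.sum_congr rfl (fun w _ => Finset.sum_congr rfl (fun w' _ => ?_))
    by_cases h : Qw w = 0
    · by_cases h' : Qw w' = 0
      · rw [if_pos h, if_pos h', if_pos ⟨h, h'⟩, ← AddChar.map_add_eq_mul,
          QuadraticMap.polar_sub_right, sub_eq_add_neg]
      · rw [if_neg h', mul_zero, if_neg (fun hh => h' hh.2)]
    · rw [if_neg h, zero_mul, if_neg (fun hh => h hh.1)]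
  simp_rw [h1]
  rw [Finset.sum_comm]
  have h2 : ∀ w : W, (∑ u : W, ∑ w' : W, if Qw w = 0 ∧ Qw w' = 0 then
        ψ (QuadraticMap.polar (⇑Qw) u (w - w')) else 0) =
      if Qw w = 0 then (Fintype.card W : ℂ) else 0 := by
    intro w
    rw [Finset.sum_comm]
    have h3 : ∀ w' : W, (∑ u : W, if Qw w = 0 ∧ Qw w' = 0 then
        ψ (QuadraticMap.polar (⇑Qw) u (w - w')) else 0) =
        if w = w' then (if Qw w = 0 then (Fintype.card W : ℂ) else 0) else 0 := by
      intro w'
      by_cases h : Qw w = 0 ∧ Qw w' = 0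
      · simp only [if_pos h]
        rw [sum_psi_polar_eq Qw hnd ψ hψ (w - w')]
        by_cases hww : w = w'
        · rw [if_pos hww, if_pos (sub_eq_zero.2 hww), if_pos h.1]
        · rw [if_neg hww, if_neg (fun hh => hww (sub_eq_zero.1 hh))]
      · simp only [if_neg h, Finset.sum_const_zero]
        by_cases hww : w = w'
        · rw [if_pos hww, if_neg]
          intro hq
          exact h ⟨hq, hww ▸ hq⟩
        · rw [if_neg hww]
    simp_rw [h3]
    rw [Finset.sum_ite_eq Finset.univ w, if_pos (Finset.mem_univ _)]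
  simp_rw [h2]
  unfold Zc
  rw [← Finset.sum_filter, Finset.sum_const, nsmul_eq_mul, mul_comm]

theorem Zc_eq [FiniteDimensional F W] (Qw : QuadraticForm F W) (m : ℕ) (hP : IsOddT Qw m) :
    Zc Qw = Fintype.card F ^ (2 * m) := by
  classical
  unfold Zc
  rw [← hP.zeros, Nat.card_eq_fintype_card, Fintype.card_subtype]

/-- `S(u) = 0` for a non-zero singular `u` -/
theorem Ssum_sing [FiniteDimensional F W] (Qw : QuadraticForm F W) (m : ℕ) (hm : 1 ≤ m)
    (hP : IsOddT Qw m) (ψ : AddChar F ℂ) (hψ : ψ ≠ 1) {u : W} (hu0 : u ≠ 0) (hu : Qw u = 0) :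
    Ssum Qw ψ u = 0 := by
  classical
  have hq : 1 < Fintype.card F := Fintype.one_lt_card
  have hn : (Finset.univ.filter
      (fun w : W => Qw w = 0 ∧ QuadraticMap.polar (⇑Qw) u w = 0)).card =
      Fintype.card F ^ (2 * m - 1) := by
    rw [← Cfsg.Agent.Lib.Helper78_OO_CNTA.card_sing_perp_one_zero Qw m hm hP u hu0 hu,
      Nat.card_eq_fintype_card, Fintype.card_subtype]
    congr 1
    ext w
    simp only [Finset.mem_filter, Finset.mem_univ, true_and]
    rw [QuadraticMap.polar_comm]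
  have h1 := sum_Ssum_smul Qw ψ hψ u
  have h2 : ∑ c : F, Ssum Qw ψ (c • u) =
      (Zc Qw : ℂ) + ((Fintype.card F : ℂ) - 1) * Ssum Qw ψ u := by
    rw [← Finset.add_sum_erase Finset.univ _ (Finset.mem_univ (0 : F)), zero_smul, Ssum_zero]
    congr 1
    rw [Finset.sum_congr rfl (fun c hc => Ssum_smul Qw ψ (Finset.ne_of_mem_erase hc) u),
      Finset.sum_const, Finset.card_erase_of_mem (Finset.mem_univ _), Finset.card_univ,
      nsmul_eq_mul, Nat.cast_sub hq.le, Nat.cast_one]
  have h3 : (Fintype.card F : ℂ) * ((Fintype.card F ^ (2 * m - 1) : ℕ) : ℂ) =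
      ((Fintype.card F ^ (2 * m) : ℕ) : ℂ) := by
    rw [← Nat.cast_mul, ← pow_succ']
    congr 2
    omega
  have h1' : (Zc Qw : ℂ) + ((Fintype.card F : ℂ) - 1) * Ssum Qw ψ u =
      ((Fintype.card F ^ (2 * m) : ℕ) : ℂ) := by
    rw [← h2, ← h3, ← hn]
    convert h1 using 3
  rw [Zc_eq Qw m hP] at h1'
  have h4 : ((Fintype.card F : ℂ) - 1) * Ssum Qw ψ u = 0 := by linear_combination h1'
  rcases mul_eq_zero.1 h4 with h5 | h5
  · exfalso
    have h6 : (Fintype.card F : ℂ) = ((1 : ℕ) : ℂ) := by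
      rw [Nat.cast_one]
      exact sub_eq_zero.1 h5
    have := Nat.cast_injective (R := ℂ) h6
    omega
  · exact h5

/-- the hypothesis form: if `S` is constant `= k` on the non-singular vectors we get a contradiction -/
theorem not_const [FiniteDimensional F W] (Qw : QuadraticForm F W) (m : ℕ) (hm : 1 ≤ m)
    (hP : IsOddT Qw m) (ψ : AddChar F ℂ) (hψ : ψ ≠ 1) (k : ℂ) (u₀ : W) (hu₀ : Qw u₀ ≠ 0)
    (hk : ∀ u : W, Qw u ≠ 0 → Ssum Qw ψ u = k) : False := by
  classical
  have hq : 1 < Fintype.card F := Fintype.one_lt_card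
  have hZ := Zc_eq Qw m hP
  set A : ℂ := (Zc Qw : ℂ) with hA
  set N : ℕ := (Finset.univ.filter (fun u : W => ¬ Qw u = 0)).card with hN
  have hN0 : (N : ℂ) ≠ 0 := by
    rw [Nat.cast_ne_zero, hN]
    exact Finset.card_ne_zero.2 ⟨u₀, by simp [hu₀]⟩
  have hW : (Fintype.card W : ℂ) = A + N := by
    rw [hA, hN, ← Nat.cast_add, Zc]
    congr 1
    rw [← Finset.card_univ]
    exact (Finset.card_filter_add_card_filter_not (s := Finset.univ) (fun u : W => Qw u = 0)).symm
  -- pointwise shape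
  have hpt : ∀ u : W, Ssum Qw ψ u = (if u = 0 then A else 0) + (if Qw u = 0 then 0 else k) := by
    intro u
    by_cases hu0 : u = 0
    · rw [if_pos hu0, if_pos (by rw [hu0]; exact map_zero _), hu0, Ssum_zero, add_zero]
    · by_cases hu : Qw u = 0
      · rw [if_neg hu0, if_pos hu, Ssum_sing Qw m hm hP ψ hψ hu0 hu, add_zero]
      · rw [if_neg hu0, if_neg hu, hk u hu, zero_add]
  have hsumk : ∀ c : ℂ, (∑ u : W, if Qw u = 0 then (0 : ℂ) else c) = N * c := by
    intro c
    rw [Finset.sum_ite, Finset.sum_const_zero, zero_add, Finset.sum_const, nsmul_eq_mul]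
  -- first moment
  have h1 := sum_Ssum Qw hP.nondeg ψ hψ
  rw [Finset.sum_congr rfl (fun u _ => hpt u), Finset.sum_add_distrib,
    Finset.sum_ite_eq' Finset.univ (0 : W), if_pos (Finset.mem_univ _), hsumk, hW] at h1
  have hk1 : k = 1 := by
    have : (N : ℂ) * k = N * 1 := by linear_combination h1
    exact mul_left_cancel₀ hN0 this
  -- second moment
  have h2 := sum_Ssum_conj Qw hP.nondeg ψ hψ
  have hpt2 : ∀ u : W, Ssum Qw ψ u * conj (Ssum Qw ψ u) =
      (if u = 0 then A * A else 0) + (if Qw u = 0 then 0 else 1) := by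
    intro u
    rw [hpt u, hk1]
    by_cases hu0 : u = 0
    · rw [if_pos hu0, if_pos (by rw [hu0]; exact map_zero _), add_zero, if_pos hu0, hA,
        Complex.conj_natCast, add_zero]
    · by_cases hu : Qw u = 0
      · rw [if_neg hu0, if_pos hu, if_neg hu0]
        simp
      · rw [if_neg hu0, if_neg hu, if_neg hu0]
        simp
  rw [Finset.sum_congr rfl (fun u _ => hpt2 u), Finset.sum_add_distrib,
    Finset.sum_ite_eq' Finset.univ (0 : W), if_pos (Finset.mem_univ _), hsumk, hW] at h2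
  have hA1 : A = 1 := by
    have : (N : ℂ) * A = N * 1 := by linear_combination -h2
    exact mul_left_cancel₀ hN0 this
  rw [hA, hZ] at hA1
  have h3 : Fintype.card F ^ (2 * m) = 1 := by
    have : ((Fintype.card F ^ (2 * m) : ℕ) : ℂ) = ((1 : ℕ) : ℂ) := by
      rw [Nat.cast_one]
      exact hA1
    exact Nat.cast_injective (R := ℂ) this
  have h4 : 1 < Fintype.card F ^ (2 * m) := Nat.one_lt_pow (by omega) hq
  omega

end Cfsg.Agent.Lib.Helper10_OO2_SNC

namespace Cfsg.Agent.Lib.Helper10_OO2_SNC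

open Module Cfsg.Agent.Lib.Helper94_OrthSmall Cfsg.Agent.Lib.Helper44_QuadClass
  Cfsg.Agent.Lib.Helper14_OmegaSimple Cfsg.Agent.Lib.Helper38_MIODefs
  Cfsg.Agent.Lib.Helper95_OPDefs Cfsg.Agent.Lib.Helper95_OPBasic Cfsg.Agent.Lib.Helper48_OODefs

section partB

variable {F W : Type*} [Field F] [Fintype F] [AddCommGroup W] [Module F W] [FiniteDimensional F W]

/-! ## OO2-SNC (L): the character sum over the singular vectors is not constant on the non-singular vectors -/
theorem exists_S_ne (Qw : QuadraticForm F W) (m : ℕ) (hm : 1 ≤ m) (hP : IsOddT Qw m) [Fintype W]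
    (ψ : AddChar F ℂ) (hψ : ψ ≠ 1) :
    ∃ u₁ u₂ : W, Qw u₁ ≠ 0 ∧ Qw u₂ ≠ 0 ∧
      (∑ w : W, open Classical in if Qw w = 0 then ψ (QuadraticMap.polar (⇑Qw) u₁ w) else 0) ≠
      (∑ w : W, open Classical in if Qw w = 0 then ψ (QuadraticMap.polar (⇑Qw) u₂ w) else 0) := by
  by_contra hcon
  push Not at hcon
  -- a non-singular vector
  have hq : 1 < Fintype.card F := Fintype.one_lt_card
  have hlev := hP.level 1 one_ne_zero
  have hpos : 0 < Fintype.card F ^ (2 * m) - Fintype.card F ^ m :=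
    Nat.sub_pos_of_lt (Nat.pow_lt_pow_right hq (by omega))
  have hne : Nat.card {x : W // Qw x = 1} ≠ 0 := by omega
  have hnonempty : Nonempty {x : W // Qw x = 1} := by
    by_contra h
    rw [not_nonempty_iff] at h
    exact hne Nat.card_of_isEmpty
  obtain ⟨⟨u₀, hu₀⟩⟩ := hnonempty
  have hu₀' : Qw u₀ ≠ 0 := by
    rw [hu₀]
    exact one_ne_zero
  exact not_const Qw m hm hP ψ hψ (Ssum Qw ψ u₀) u₀ hu₀' (fun u hu => hcon u u₀ hu hu₀')

end partB

end Cfsg.Agent.Lib.Helper10_OO2_SNC
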