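import Mathlib
import Cfsg.Agent.Lib.Helper16_Char
import Cfsg.Agent.Lib.Helper77_CentralInt

/-!
# Class sums: a character constant on a conjugation-invariant set

For an irreducible complex representation `ρ` of a finite group `G` of degree `D`, and a
conjugation-invariant finite set `T` on which the character takes the constant integer value `c`,
the degree `D` divides `|T| * c`.  (The sum of `ρ t` over `t ∈ T` is a central algebraic
integer.)  This is step T5 of the proof of S2332.
-/

set_option autoImplicit false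

namespace Cfsg.Agent.Lib.Helper30_S2332ClassSum

open Cfsg.Agent.Lib.Helper16_Char Cfsg.Agent.Lib.Helper77_CentralInt

section Generic

variable {G : Type*} [Group G] [Fintype G] [DecidableEq G] {V : Type*} [AddCommGroup V]
  [Module ℂ V] [FiniteDimensional ℂ V] (ρ : Representation ℂ G V)

/-- The sum of `χ(t)/χ(1)` over a conjugation-invariant set is an algebraic integer. -/
theorem isIntegral_sum_char_div [ρ.IsIrreducible] :
    ∀ (m : ℕ) (T : Finset G), T.card = m → (∀ t ∈ T, ∀ g : G, g * t * g⁻¹ ∈ T) →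
      IsIntegral ℤ (∑ t ∈ T, ρ.character t / (Module.finrank ℂ V : ℂ)) := by
  intro m
  induction m using Nat.strong_induction_on with
  | _ m ih =>
    intro T hcard hT
    rcases T.eq_empty_or_nonempty with rfl | ⟨t0, ht0⟩
    · simpa using isIntegral_zero
    · set C : Finset G := Finset.univ.filter (fun k => IsConj t0 k) with hC
      have hCT : C ⊆ T := by
        intro k hk
        rw [hC, Finset.mem_filter] at hk
        obtain ⟨c, rfl⟩ := isConj_iff.mp hk.2
        exact hT t0 ht0 c
      have ht0C : t0 ∈ C := by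
        rw [hC, Finset.mem_filter]; exact ⟨Finset.mem_univ _, IsConj.refl _⟩
      have hsplit := Finset.sum_sdiff (f := fun t => ρ.character t / (Module.finrank ℂ V : ℂ)) hCT
      rw [← hsplit]
      refine IsIntegral.add ?_ ?_
      · refine ih (T \ C).card ?_ (T \ C) rfl ?_
        · rw [← hcard]
          exact Finset.card_lt_card (Finset.sdiff_ssubset hCT ⟨t0, ht0C⟩)
        · intro t ht g
          rw [Finset.mem_sdiff] at ht ⊢
          refine ⟨hT t ht.1 g, fun h => ht.2 ?_⟩
          rw [hC, Finset.mem_filter] at h ⊢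
          refine ⟨Finset.mem_univ _, h.2.trans ?_⟩
          exact (isConj_iff.mpr ⟨g, rfl⟩ : IsConj t (g * t * g⁻¹)).symm
      · have h1 : ∑ t ∈ C, ρ.character t / (Module.finrank ℂ V : ℂ) =
            ∑ k : G, (if IsConj t0 k then ρ.character k / (Module.finrank ℂ V : ℂ) else 0) := by
          rw [hC, Finset.sum_filter]
        rw [h1, sum_isConj_const t0 (fun k => ρ.character k / (Module.finrank ℂ V : ℂ))
          (fun x c => by simp only [Representation.char_conj])]
        have := isIntegral_centralValue ρ t0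
        rwa [mul_div_assoc] at this

/-- If the character of an irreducible representation takes the constant integer value `c` on a
conjugation-invariant set `T`, then the degree divides `|T| * c`. -/
theorem finrank_dvd_card_mul [ρ.IsIrreducible] (T : Finset G)
    (hT : ∀ t ∈ T, ∀ g : G, g * t * g⁻¹ ∈ T) (c : ℤ) (hc : ∀ t ∈ T, ρ.character t = (c : ℂ)) :
    (Module.finrank ℂ V : ℤ) ∣ (T.card : ℤ) * c := by
  have hd : (Module.finrank ℂ V : ℂ) ≠ 0 := (by have := finrank_pos_of_irreducible ρ; exact_mod_cast this.ne')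
  have hdz : (Module.finrank ℂ V : ℤ) ≠ 0 := by
    intro h; apply hd; exact_mod_cast h
  have h1 := isIntegral_sum_char_div ρ T.card T rfl hT
  have h2 : ∑ t ∈ T, ρ.character t / (Module.finrank ℂ V : ℂ) =
      (((T.card : ℤ) * c : ℤ) : ℂ) / ((Module.finrank ℂ V : ℤ) : ℂ) := by
    rw [Finset.sum_congr rfl (fun t ht => by rw [hc t ht]), Finset.sum_const, nsmul_eq_mul]
    push_cast
    ring
  rw [h2] at h1
  -- a rational algebraic integer is an integer
  have h3 : IsIntegral ℤ ((((T.card : ℤ) * c : ℤ) : ℚ) / ((Module.finrank ℂ V : ℤ) : ℚ)) := by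
    have h4 : ((((T.card : ℤ) * c : ℤ) : ℚ) / ((Module.finrank ℂ V : ℤ) : ℚ) : ℂ) =
        (((T.card : ℤ) * c : ℤ) : ℂ) / ((Module.finrank ℂ V : ℤ) : ℂ) := by
      push_cast; rfl
    have h5 : IsIntegral ℤ (algebraMap ℚ ℂ
        ((((T.card : ℤ) * c : ℤ) : ℚ) / ((Module.finrank ℂ V : ℤ) : ℚ))) := by
      rw [show algebraMap ℚ ℂ ((((T.card : ℤ) * c : ℤ) : ℚ) / ((Module.finrank ℂ V : ℤ) : ℚ)) =
        (((T.card : ℤ) * c : ℤ) : ℂ) / ((Module.finrank ℂ V : ℤ) : ℂ) from by
          rw [map_div₀]; simp]
      exact h1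
    exact (isIntegral_algebraMap_iff (algebraMap ℚ ℂ).injective).mp h5
  obtain ⟨z, hz⟩ := IsIntegrallyClosed.isIntegral_iff.mp h3
  refine ⟨z, ?_⟩
  have hq : ((Module.finrank ℂ V : ℤ) : ℚ) ≠ 0 := by exact_mod_cast hdz
  have h6 : (((T.card : ℤ) * c : ℤ) : ℚ) = ((Module.finrank ℂ V : ℤ) : ℚ) * (z : ℚ) := by
    have : (algebraMap ℤ ℚ) z = (z : ℚ) := rfl
    rw [this] at hz
    rw [hz]; field_simp
  exact_mod_cast h6

end Generic

end Cfsg.Agent.Lib.Helper30_S2332ClassSum
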