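import Mathlib
import Cfsg.Agent.Lib.Helper30_S2332ClassSum

set_option autoImplicit false

/-!
# S2345 (architect helper95), package OP-CLSUM: weighted class-sum divisibility for a conjugation-stable
family of group elements on which the character of an irreducible representation is a constant `c`:
the degree divides `#I * c`.
-/

namespace Cfsg.Agent.Lib.Helper10_S2345_CLSUM

open Module

/-- The weighted sum `∑ g, m g * χ(g)/χ(1)` with a class function `m : G → ℕ` is an algebraic integer. -/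
theorem isIntegral_weighted_sum {G : Type*} [Group G] [Fintype G] [DecidableEq G] {X : Type*}
    [AddCommGroup X] [Module ℂ X] [FiniteDimensional ℂ X] (ρ : Representation ℂ G X)
    [ρ.IsIrreducible] (m : G → ℕ) (hm : ∀ g h, m (h * g * h⁻¹) = m g) (N : ℕ) (hN : ∀ g, m g ≤ N) :
    IsIntegral ℤ (∑ g, (m g : ℂ) * (ρ.character g / (finrank ℂ X : ℂ))) := by
  have hsum2 : ∑ g, (m g : ℂ) * (ρ.character g / (finrank ℂ X : ℂ)) =
      ∑ k ∈ Finset.range (N + 1), (k : ℂ) *
        ∑ g ∈ Finset.univ.filter (fun g => m g = k), ρ.character g / (finrank ℂ X : ℂ) := by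
    symm
    calc ∑ k ∈ Finset.range (N + 1), (k : ℂ) *
          ∑ g ∈ Finset.univ.filter (fun g => m g = k), ρ.character g / (finrank ℂ X : ℂ)
        = ∑ k ∈ Finset.range (N + 1), ∑ g,
            (if m g = k then (k : ℂ) * (ρ.character g / (finrank ℂ X : ℂ)) else 0) := by
          apply Finset.sum_congr rfl
          intro k _
          rw [Finset.mul_sum, Finset.sum_filter]
      _ = ∑ g, ∑ k ∈ Finset.range (N + 1),
            (if m g = k then (k : ℂ) * (ρ.character g / (finrank ℂ X : ℂ)) else 0) :=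
          Finset.sum_comm
      _ = ∑ g, (m g : ℂ) * (ρ.character g / (finrank ℂ X : ℂ)) := by
          apply Finset.sum_congr rfl
          intro g _
          rw [Finset.sum_ite_eq (Finset.range (N + 1)) (m g)
            (fun k => (k : ℂ) * (ρ.character g / (finrank ℂ X : ℂ)))]
          rw [if_pos (Finset.mem_range.2 (Nat.lt_succ_of_le (hN g)))]
  rw [hsum2]
  apply IsIntegral.sum
  intro k _
  rw [← nsmul_eq_mul]
  apply IsIntegral.nsmul
  refine Cfsg.Agent.Lib.Helper30_S2332ClassSum.isIntegral_sum_char_div ρ _ _ rfl ?_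
  intro t ht g
  rw [Finset.mem_filter] at ht ⊢
  exact ⟨Finset.mem_univ _, (hm t g).trans ht.2⟩

theorem finrank_dvd_card_mul_family {G : Type*} [Group G] [Finite G] {X : Type*} [AddCommGroup X]
    [Module ℂ X] [FiniteDimensional ℂ X] (ρ : Representation ℂ G X) (hirr : ρ.IsIrreducible)
    {I : Type*} [Finite I] (t : I → G) (σ : G → Equiv.Perm I)
    (ht : ∀ g i, t (σ g i) = g * t i * g⁻¹) (c : ℕ)
    (hc : ∀ i, LinearMap.trace ℂ X (ρ (t i)) = (c : ℂ)) :
    finrank ℂ X ∣ Nat.card I * c := by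
  classical
  have := hirr
  have : Fintype G := Fintype.ofFinite G
  have : Fintype I := Fintype.ofFinite I
  have hd : (finrank ℂ X : ℂ) ≠ 0 := by
    have := Cfsg.Agent.Lib.Helper16_Char.finrank_pos_of_irreducible ρ
    exact_mod_cast this.ne'
  have hdq : (finrank ℂ X : ℚ) ≠ 0 := by
    intro h
    apply hd
    exact_mod_cast h
  -- the multiplicity function
  let m : G → ℕ := fun g => (Finset.univ.filter (fun i => t i = g)).card
  have hm_le : ∀ g h, m g ≤ m (h * g * h⁻¹) := by
    intro g h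
    apply Finset.card_le_card_of_injOn (σ h)
    · intro i hi
      rw [Finset.mem_coe, Finset.mem_filter] at hi ⊢
      exact ⟨Finset.mem_univ _, by rw [ht, hi.2]⟩
    · exact (σ h).injective.injOn
  have hm : ∀ g h, m (h * g * h⁻¹) = m g := by
    intro g h
    apply le_antisymm _ (hm_le g h)
    have h1 := hm_le (h * g * h⁻¹) h⁻¹
    have h2 : h⁻¹ * (h * g * h⁻¹) * h⁻¹⁻¹ = g := by group
    rw [h2] at h1
    exact h1
  have hmN : ∀ g, m g ≤ Fintype.card I := fun g => Finset.card_le_univ _
  have hint := isIntegral_weighted_sum ρ m hm (Fintype.card I) hmN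
  -- the weighted sum is `#I * c / D`
  have hsum1 : ∑ g, (m g : ℂ) * (ρ.character g / (finrank ℂ X : ℂ)) =
      ∑ i, ρ.character (t i) / (finrank ℂ X : ℂ) := by
    rw [← Finset.sum_fiberwise (s := Finset.univ) (g := t)
      (f := fun i => ρ.character (t i) / (finrank ℂ X : ℂ))]
    apply Finset.sum_congr rfl
    intro g _
    rw [Finset.sum_congr rfl (fun i hi => by rw [(Finset.mem_filter.1 hi).2] :
      ∀ i ∈ Finset.univ.filter (fun i => t i = g),
        ρ.character (t i) / (finrank ℂ X : ℂ) = ρ.character g / (finrank ℂ X : ℂ)),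
      Finset.sum_const, nsmul_eq_mul]
  have hsum3 : ∑ i, ρ.character (t i) / (finrank ℂ X : ℂ) =
      ((Nat.card I * c : ℕ) : ℂ) / (finrank ℂ X : ℂ) := by
    rw [Finset.sum_congr rfl (fun i _ => by rw [Representation.character, hc i] :
      ∀ i ∈ (Finset.univ : Finset I), ρ.character (t i) / (finrank ℂ X : ℂ) = (c : ℂ) / (finrank ℂ X : ℂ)),
      Finset.sum_const, Finset.card_univ, nsmul_eq_mul, Nat.card_eq_fintype_card]
    push_cast
    ring
  rw [hsum1, hsum3] at hint
  -- a rational algebraic integer is an integer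
  have h3 : IsIntegral ℤ (((Nat.card I * c : ℕ) : ℚ) / (finrank ℂ X : ℚ)) := by
    have h5 : IsIntegral ℤ (algebraMap ℚ ℂ (((Nat.card I * c : ℕ) : ℚ) / (finrank ℂ X : ℚ))) := by
      rw [show algebraMap ℚ ℂ (((Nat.card I * c : ℕ) : ℚ) / (finrank ℂ X : ℚ)) =
        ((Nat.card I * c : ℕ) : ℂ) / (finrank ℂ X : ℂ) from by
          rw [map_div₀]; simp]
      exact hint
    exact (isIntegral_algebraMap_iff (algebraMap ℚ ℂ).injective).mp h5
  obtain ⟨z, hz⟩ := IsIntegrallyClosed.isIntegral_iff.mp h3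
  have h6 : ((Nat.card I * c : ℕ) : ℚ) = (finrank ℂ X : ℚ) * (z : ℚ) := by
    have : (algebraMap ℤ ℚ) z = (z : ℚ) := rfl
    rw [this] at hz
    rw [hz]
    field_simp
  have h7 : ((finrank ℂ X : ℕ) : ℤ) ∣ ((Nat.card I * c : ℕ) : ℤ) := by
    refine ⟨z, ?_⟩
    exact_mod_cast h6
  exact Int.natCast_dvd_natCast.1 h7

end Cfsg.Agent.Lib.Helper10_S2345_CLSUM
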