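import Mathlib
import Cfsg.Agent.Lib.Helper10_S2345_CLSUM

set_option autoImplicit false

/-!
# S2345 (architect helper95), package OP-CLSUM, under the file name of the market's convention
(`Helper<k>_OP_<TAG>`): restatement of `Helper10_S2345_CLSUM.finrank_dvd_card_mul_family`.
-/

namespace Cfsg.Agent.Lib.Helper10_OP_CLSUM

open Module

theorem finrank_dvd_card_mul_family {G : Type*} [Group G] [Finite G] {X : Type*} [AddCommGroup X]
    [Module ℂ X] [FiniteDimensional ℂ X] (ρ : Representation ℂ G X) (hirr : ρ.IsIrreducible)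
    {I : Type*} [Finite I] (t : I → G) (σ : G → Equiv.Perm I)
    (ht : ∀ g i, t (σ g i) = g * t i * g⁻¹) (c : ℕ)
    (hc : ∀ i, LinearMap.trace ℂ X (ρ (t i)) = (c : ℂ)) :
    finrank ℂ X ∣ Nat.card I * c :=
  Cfsg.Agent.Lib.Helper10_S2345_CLSUM.finrank_dvd_card_mul_family ρ hirr t σ ht c hc

end Cfsg.Agent.Lib.Helper10_OP_CLSUM
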