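import Mathlib

set_option autoImplicit false

/-!
# S2345 (architect helper95), package OP-TRPERM: the trace of an operator permuting the blocks of an
internal direct sum, acting as the identity on the fixed blocks other than a distinguished block `i₀`.
(Generic form of Helper65_S2332_TRACEB.trace_emb_split.)
-/

namespace Cfsg.Agent.Lib.Helper10_OP_TRPERM

open Module

theorem trace_eq_of_perm {X : Type*} [AddCommGroup X] [Module ℂ X] [FiniteDimensional ℂ X]
    {ι : Type*} [Fintype ι] [DecidableEq ι] (S : ι → Submodule ℂ X) (hint : DirectSum.IsInternal S)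
    (A : Module.End ℂ X) (π : ι → ι) (hA : ∀ i, ∀ x ∈ S i, A x ∈ S (π i)) (i₀ : ι)
    (h0 : ∀ x ∈ S i₀, A x ∈ S i₀)
    (hfix : ∀ i, i ≠ i₀ → π i = i → ∀ x ∈ S i, A x = x) :
    LinearMap.trace ℂ X A = LinearMap.trace ℂ ↥(S i₀) (A.restrict h0) +
      ∑ i ∈ Finset.univ.filter (fun i => i ≠ i₀ ∧ π i = i), (finrank ℂ (S i) : ℂ) := by
  classical
  let b : (i : ι) → Module.Basis (Module.Free.ChooseBasisIndex ℂ (S i)) ℂ (S i) :=
    fun i => Module.Free.chooseBasis ℂ (S i)
  -- the contribution of each label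
  have key : ∀ i : ι,
      ∑ k, ((hint.collectedBasis b).repr (A (hint.collectedBasis b ⟨i, k⟩))) ⟨i, k⟩ =
        if i = i₀ then LinearMap.trace ℂ ↥(S i₀) (A.restrict h0)
        else if π i = i then (Module.finrank ℂ (S i) : ℂ) else 0 := by
    intro i
    have hbv : ∀ k, hint.collectedBasis b ⟨i, k⟩ = ((b i k : S i) : X) := by
      intro k
      rw [hint.collectedBasis_coe]
    by_cases hi0 : i = i₀
    · subst hi0
      rw [if_pos rfl, LinearMap.trace_eq_matrix_trace ℂ (b i), Matrix.trace]
      apply Finset.sum_congr rfl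
      intro k _
      rw [Matrix.diag, LinearMap.toMatrix_apply, hbv]
      have hmem : A ((b i k : S i) : X) ∈ S i := h0 _ (b i k).2
      rw [hint.collectedBasis_repr_of_mem b hmem]
      rfl
    · rw [if_neg hi0]
      by_cases hπ : π i = i
      · rw [if_pos hπ]
        have h1 : ∀ k, ((hint.collectedBasis b).repr (A (hint.collectedBasis b ⟨i, k⟩)))
            ⟨i, k⟩ = 1 := by
          intro k
          rw [hbv, hfix i hi0 hπ _ (b i k).2, ← hbv, Module.Basis.repr_self,
            Finsupp.single_eq_same]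
        rw [Finset.sum_congr rfl (fun k _ => h1 k), Finset.sum_const, Finset.card_univ,
          nsmul_eq_mul, mul_one, Module.finrank_eq_card_chooseBasisIndex]
      · rw [if_neg hπ]
        apply Finset.sum_eq_zero
        intro k _
        rw [hbv]
        exact hint.collectedBasis_repr_of_mem_ne b hπ (hA i _ (b i k).2)
  rw [LinearMap.trace_eq_matrix_trace ℂ (hint.collectedBasis b), Matrix.trace]
  simp only [Matrix.diag, LinearMap.toMatrix_apply]
  rw [Fintype.sum_sigma, Finset.sum_congr rfl (fun i _ => key i)]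
  rw [← Finset.add_sum_erase Finset.univ _ (Finset.mem_univ i₀), if_pos rfl]
  congr 1
  rw [Finset.sum_filter, ← Finset.add_sum_erase Finset.univ _ (Finset.mem_univ i₀),
    if_neg (fun h : i₀ ≠ i₀ ∧ π i₀ = i₀ => h.1 rfl), zero_add]
  apply Finset.sum_congr rfl
  intro x hx
  have hx0 : x ≠ i₀ := Finset.ne_of_mem_erase hx
  rw [if_neg hx0]
  by_cases hπx : π x = x
  · rw [if_pos hπx, if_pos ⟨hx0, hπx⟩]
  · rw [if_neg hπx, if_neg (fun h : x ≠ i₀ ∧ π x = x => hπx h.2)]

end Cfsg.Agent.Lib.Helper10_OP_TRPERM
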