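import Mathlib
import Cfsg.Agent.Lib.Helper94_Symp

set_option autoImplicit false

/-!
# `Sp_2(q) ⊗ O_b(q)` in `Sp_{2b}(q)`, `q` odd: shared definitions (helper67)

Abstract setting: `B` a finite-dimensional space over a field `F` (`2 ≠ 0`) with a nondegenerate
symmetric bilinear form `β`; `V = B × B` (the space `F² ⊗ B`; the pure tensor `(a, c) ⊗ u` is
`(a • u, c • u)`) with the alternating form `tf β ((u,u'),(v,v')) = β u v' - β u' v`.
Subgroups of `Sp(V)` are subgroups of `(B × B) ≃ₗ[F] (B × B)` inside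
`Helper94_Symp.isoGroup (tf β)`.

* `ux S`, `lx S` : the unipotent elements `(u,u') ↦ (u + S u', u')`, `(u,u') ↦ (u, u' + S u)`.
* `hE a`, `jE` : the elements `diag(a, a⁻¹) ⊗ 1`, `[[0,1],[-1,0]] ⊗ 1`.
* `oE Q` : the element `1 ⊗ Q`.
* `reflE β y` : the reflection in `y` (the identity when `β y y = 0`).
* `siegel β ε z` : the Siegel element `ρ_{ε,z}` (for `β ε ε = 0`, `β ε z = 0`).
* `rk1 β ε` : the rank one map `v ↦ β v ε • ε`.
* `G0` : the Lagrangian `B × 0`; `Lg g = g G0`; `DI g = {u | (u,0) ∈ g G0}`.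
* `IsKron2 g` : `g` acts as `p ⊗ Q`.
* `HypM β M` : `M ≤ Sp(V)` contains `SL_2 ⊗ 1` (generators) and `1 ⊗ O(β)`.
* `RadStd β M` : every `ux S ∈ M` has `S` scalar.
-/

namespace Cfsg.Agent.Lib.Helper67_Tens2Defs

open Module
open Cfsg.Agent.Lib.Helper94_Symp

variable {F B : Type*} [Field F] [AddCommGroup B] [Module F B]

/-- the alternating form on `B × B` -/
def tf (β : LinearMap.BilinForm F B) : LinearMap.BilinForm F (B × B) :=
  LinearMap.mk₂ F (fun x y => β x.1 y.2 - β x.2 y.1)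
    (by intro x x' y; simp only [Prod.fst_add, Prod.snd_add, map_add, LinearMap.add_apply]; ring)
    (by intro c x y; simp only [Prod.smul_fst, Prod.smul_snd, map_smul, LinearMap.smul_apply,
          smul_eq_mul]; ring)
    (by intro x y y'; simp only [Prod.fst_add, Prod.snd_add, map_add]; ring)
    (by intro c x y; simp only [Prod.smul_fst, Prod.smul_snd, map_smul, smul_eq_mul]; ring)

@[simp] theorem tf_apply (β : LinearMap.BilinForm F B) (x y : B × B) :
    tf β x y = β x.1 y.2 - β x.2 y.1 := rfl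

theorem tf_isAlt (β : LinearMap.BilinForm F B) (hs : ∀ u v, β u v = β v u) : (tf β).IsAlt := by
  intro x
  rw [tf_apply, hs x.1 x.2, sub_self]

theorem tf_nondegenerate (β : LinearMap.BilinForm F B) 
    (hn : β.Nondegenerate) : (tf β).Nondegenerate := by
  refine ⟨?_, ?_⟩
  · intro x hx
    have h1 : x.1 = 0 := hn.1 x.1 (fun v => by simpa using hx (0, v))
    have h2 : x.2 = 0 := hn.1 x.2 (fun v => by simpa using hx (v, 0))
    exact Prod.ext h1 h2
  · intro y hy
    have h1 : y.1 = 0 := hn.2 y.1 (fun v => by simpa using hy (0, v))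
    have h2 : y.2 = 0 := hn.2 y.2 (fun v => by simpa using hy (v, 0))
    exact Prod.ext h1 h2

/-- `(u,u') ↦ (u + S u', u')` -/
def ux (S : B →ₗ[F] B) : (B × B) ≃ₗ[F] (B × B) where
  toFun x := (x.1 + S x.2, x.2)
  map_add' x y := by
    ext <;> simp only [Prod.fst_add, Prod.snd_add, map_add] <;> abel
  map_smul' c x := by
    ext <;> simp
  invFun x := (x.1 - S x.2, x.2)
  left_inv x := by ext <;> simp
  right_inv x := by ext <;> simp

@[simp] theorem ux_apply (S : B →ₗ[F] B) (x : B × B) : ux S x = (x.1 + S x.2, x.2) := rfl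

/-- `(u,u') ↦ (u, u' + S u)` -/
def lx (S : B →ₗ[F] B) : (B × B) ≃ₗ[F] (B × B) where
  toFun x := (x.1, x.2 + S x.1)
  map_add' x y := by
    ext <;> simp only [Prod.fst_add, Prod.snd_add, map_add] <;> abel
  map_smul' c x := by
    ext <;> simp
  invFun x := (x.1, x.2 - S x.1)
  left_inv x := by ext <;> simp
  right_inv x := by ext <;> simp

@[simp] theorem lx_apply (S : B →ₗ[F] B) (x : B × B) : lx S x = (x.1, x.2 + S x.1) := rfl

/-- `(u,u') ↦ (a u, a⁻¹ u')` -/
def hE (a : Fˣ) : (B × B) ≃ₗ[F] (B × B) where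
  toFun x := ((a : F) • x.1, ((a⁻¹ : Fˣ) : F) • x.2)
  map_add' x y := by ext <;> simp
  map_smul' c x := by
    ext <;> simp only [Prod.smul_fst, Prod.smul_snd, RingHom.id_apply, smul_smul, mul_comm]
  invFun x := (((a⁻¹ : Fˣ) : F) • x.1, (a : F) • x.2)
  left_inv x := by ext <;> simp [smul_smul]
  right_inv x := by ext <;> simp [smul_smul]

@[simp] theorem hE_apply (a : Fˣ) (x : B × B) :
    hE a x = ((a : F) • x.1, ((a⁻¹ : Fˣ) : F) • x.2) := rfl

/-- `(u,u') ↦ (u', -u)` -/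
def jE : (B × B) ≃ₗ[F] (B × B) where
  toFun x := (x.2, -x.1)
  map_add' x y := by ext <;> simp [add_comm]
  map_smul' c x := by ext <;> simp
  invFun x := (-x.2, x.1)
  left_inv x := by ext <;> simp
  right_inv x := by ext <;> simp

@[simp] theorem jE_apply (x : B × B) : (jE : (B × B) ≃ₗ[F] (B × B)) x = (x.2, -x.1) := rfl

/-- `(u,u') ↦ (Q u, Q u')` -/
def oE (Q : B ≃ₗ[F] B) : (B × B) ≃ₗ[F] (B × B) := LinearEquiv.prodCongr Q Q

@[simp] theorem oE_apply (Q : B ≃ₗ[F] B) (x : B × B) : oE Q x = (Q x.1, Q x.2) := rfl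

/-- the rank one map `v ↦ β v ε • ε` -/
def rk1 (β : LinearMap.BilinForm F B) (ε : B) : B →ₗ[F] B := (β.flip ε).smulRight ε

@[simp] theorem rk1_apply (β : LinearMap.BilinForm F B) (ε v : B) : rk1 β ε v = β v ε • ε := by
  simp [rk1]

/-- the map `v ↦ β v y • w + β v w • y` -/
def tw (β : LinearMap.BilinForm F B) (w y : B) : B →ₗ[F] B :=
  (β.flip y).smulRight w + (β.flip w).smulRight y

@[simp] theorem tw_apply (β : LinearMap.BilinForm F B) (w y v : B) :
    tw β w y v = β v y • w + β v w • y := by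
  simp [tw]

/-- the reflection `v ↦ v - (2 β v y / β y y) • y` (the identity when `β y y = 0`) -/
def reflE (β : LinearMap.BilinForm F B) (y : B) : B ≃ₗ[F] B where
  toFun v := v - (2 * β v y * (β y y)⁻¹) • y
  map_add' v w := by
    simp only [map_add, LinearMap.add_apply, mul_add, add_mul, add_smul]; abel
  map_smul' c v := by
    simp only [map_smul, LinearMap.smul_apply, smul_eq_mul, RingHom.id_apply, smul_sub, smul_smul]
    congr 2; ring
  invFun v := v - (2 * β v y * (β y y)⁻¹) • y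
  left_inv v := by
    by_cases h : β y y = 0
    · simp [h]
    · simp only [map_sub, map_smul, LinearMap.sub_apply, LinearMap.smul_apply, smul_eq_mul]
      rw [sub_sub, ← add_smul]
      have : 2 * β v y * (β y y)⁻¹ +
          2 * (β v y - 2 * β v y * (β y y)⁻¹ * β y y) * (β y y)⁻¹ = 0 := by
        field_simp; ring
      rw [this, zero_smul, sub_zero]
  right_inv v := by
    by_cases h : β y y = 0
    · simp [h]
    · simp only [map_sub, map_smul, LinearMap.sub_apply, LinearMap.smul_apply, smul_eq_mul]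
      rw [sub_sub, ← add_smul]
      have : 2 * β v y * (β y y)⁻¹ +
          2 * (β v y - 2 * β v y * (β y y)⁻¹ * β y y) * (β y y)⁻¹ = 0 := by
        field_simp; ring
      rw [this, zero_smul, sub_zero]

@[simp] theorem reflE_apply (β : LinearMap.BilinForm F B) (y v : B) :
    reflE β y v = v - (2 * β v y * (β y y)⁻¹) • y := rfl

/-- the Siegel map `v ↦ v + β v z • ε - β v ε • z - (2⁻¹ * β z z * β v ε) • ε` -/
def siegelL (β : LinearMap.BilinForm F B) (ε z : B) : B →ₗ[F] B :=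
  LinearMap.id + (β.flip z).smulRight ε - (β.flip ε).smulRight z
    - ((2 : F)⁻¹ * β z z) • (β.flip ε).smulRight ε

theorem siegelL_apply (β : LinearMap.BilinForm F B) (ε z v : B) :
    siegelL β ε z v = v + β v z • ε - β v ε • z - (2⁻¹ * β z z * β v ε) • ε := by
  simp [siegelL, smul_smul]

theorem siegelL_inv (β : LinearMap.BilinForm F B) (hs : ∀ u v, β u v = β v u) (h2 : (2 : F) ≠ 0)
    (ε z : B) (hε : β ε ε = 0) (hz : β ε z = 0) (v : B) :
    siegelL β ε (-z) (siegelL β ε z v) = v := by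
  have hz' : β z ε = 0 := by rw [hs]; exact hz
  simp only [siegelL_apply, map_add, map_sub, map_smul, map_neg, LinearMap.add_apply,
    LinearMap.sub_apply, LinearMap.smul_apply, LinearMap.neg_apply, smul_eq_mul, hε, hz, hz',
    mul_zero, sub_zero, add_zero, neg_neg, neg_smul, smul_neg]
  have e : (2 : F)⁻¹ * β z z * β v ε * 2 = β z z * β v ε := by
    field_simp
  match_scalars <;> first | linear_combination (-1 : F) * e | ring

/-- the Siegel element `ρ_{ε,z}` of `O(β)` (`ε` singular, `z ⊥ ε`) -/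
def siegel (β : LinearMap.BilinForm F B) (hs : ∀ u v, β u v = β v u) (h2 : (2 : F) ≠ 0)
    (ε z : B) (hε : β ε ε = 0) (hz : β ε z = 0) : B ≃ₗ[F] B where
  toLinearMap := siegelL β ε z
  invFun := siegelL β ε (-z)
  left_inv v := siegelL_inv β hs h2 ε z hε hz v
  right_inv v := by
    have h := siegelL_inv β hs h2 ε (-z) hε (by rw [map_neg, hz, neg_zero]) v
    rwa [neg_neg] at h

theorem siegel_apply (β : LinearMap.BilinForm F B) (hs : ∀ u v, β u v = β v u) (h2 : (2 : F) ≠ 0)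
    (ε z : B) (hε : β ε ε = 0) (hz : β ε z = 0) (v : B) :
    siegel β hs h2 ε z hε hz v = v + β v z • ε - β v ε • z - (2⁻¹ * β z z * β v ε) • ε :=
  siegelL_apply β ε z v

/-- the Lagrangian `B × 0` -/
def G0 : Submodule F (B × B) where
  carrier := {x | x.2 = 0}
  add_mem' := by
    intro x y hx hy
    simp only [Set.mem_ofPred_eq] at hx hy ⊢
    rw [Prod.snd_add, hx, hy, add_zero]
  zero_mem' := rfl
  smul_mem' := by
    intro c x hx
    simp only [Set.mem_ofPred_eq] at hx ⊢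
    rw [Prod.smul_snd, hx, smul_zero]

theorem mem_G0 {x : B × B} : x ∈ (G0 : Submodule F (B × B)) ↔ x.2 = 0 := Iff.rfl

/-- the Lagrangian `g G0` -/
def Lg (g : (B × B) ≃ₗ[F] (B × B)) : Submodule F (B × B) := (G0 : Submodule F (B × B)).map g.toLinearMap

theorem mem_Lg {g : (B × B) ≃ₗ[F] (B × B)} {x : B × B} : x ∈ Lg g ↔ ∃ u : B, g (u, 0) = x := by
  constructor
  · rintro ⟨y, hy, rfl⟩
    refine ⟨y.1, ?_⟩
    have : y = (y.1, 0) := Prod.ext rfl (mem_G0.mp hy)
    rw [← this]; rfl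
  · rintro ⟨u, rfl⟩
    exact ⟨(u, 0), rfl, rfl⟩

theorem mem_Lg' {g : (B × B) ≃ₗ[F] (B × B)} {x : B × B} : x ∈ Lg g ↔ (g⁻¹ x).2 = 0 := by
  rw [mem_Lg]
  constructor
  · rintro ⟨u, rfl⟩
    rw [inv_apply_apply']
  · intro h
    refine ⟨(g⁻¹ x).1, ?_⟩
    have : ((g⁻¹ x).1, (0 : B)) = g⁻¹ x := Prod.ext rfl h.symm
    rw [this, apply_inv_apply']

/-- `{u | (u, 0) ∈ g G0}` -/
def DI (g : (B × B) ≃ₗ[F] (B × B)) : Submodule F B := (Lg g).comap (LinearMap.inl F B B)

theorem mem_DI {g : (B × B) ≃ₗ[F] (B × B)} {u : B} : u ∈ DI g ↔ (u, (0 : B)) ∈ Lg g := Iff.rfl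

/-- `g` acts as `p ⊗ Q` -/
def IsKron2 (g : (B × B) ≃ₗ[F] (B × B)) : Prop :=
  ∃ (p : Matrix (Fin 2) (Fin 2) F) (Q : B →ₗ[F] B), ∀ u u' : B,
    g (u, u') = (p 0 0 • Q u + p 0 1 • Q u', p 1 0 • Q u + p 1 1 • Q u')

/-- `M` is a subgroup of `Sp(B × B)` containing `SL_2 ⊗ 1` (its generators) and `1 ⊗ O(β)` -/
structure HypM (β : LinearMap.BilinForm F B) (M : Subgroup ((B × B) ≃ₗ[F] (B × B))) : Prop where
  le : M ≤ isoGroup (tf β)
  ux_mem : ∀ c : F, ux (c • (LinearMap.id : B →ₗ[F] B)) ∈ M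
  lx_mem : ∀ c : F, lx (c • (LinearMap.id : B →ₗ[F] B)) ∈ M
  hE_mem : ∀ a : Fˣ, hE a ∈ M
  jE_mem : (jE : (B × B) ≃ₗ[F] (B × B)) ∈ M
  oE_mem : ∀ Q : B ≃ₗ[F] B, Q ∈ isoGroup β → oE Q ∈ M

/-- every `ux S ∈ M` (`S` self-adjoint) has `S` scalar -/
def RadStd (β : LinearMap.BilinForm F B) (M : Subgroup ((B × B) ≃ₗ[F] (B × B))) : Prop :=
  ∀ S : B →ₗ[F] B, (∀ u v, β (S u) v = β u (S v)) → ux S ∈ M →
    ∃ c : F, S = c • (LinearMap.id : B →ₗ[F] B)

/-! ### basic facts -/

theorem ux_mul (S S' : B →ₗ[F] B) : ux S * ux S' = ux (S + S') := by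
  apply LinearEquiv.ext
  intro x
  simp only [LinearEquiv.mul_apply, ux_apply, LinearMap.add_apply]
  ext
  · simp only []; abel
  · rfl

theorem ux_zero : ux (0 : B →ₗ[F] B) = 1 := by
  apply LinearEquiv.ext
  intro x
  simp

theorem ux_inv (S : B →ₗ[F] B) : (ux S)⁻¹ = ux (-S) := by
  rw [inv_eq_iff_mul_eq_one, ux_mul, add_neg_cancel, ux_zero]

theorem ux_mem_isoGroup (β : LinearMap.BilinForm F B) (hs : ∀ u v, β u v = β v u)
    (S : B →ₗ[F] B) (hS : ∀ u v, β (S u) v = β u (S v)) : ux S ∈ isoGroup (tf β) := by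
  intro x y
  simp only [ux_apply, tf_apply, map_add, LinearMap.add_apply]
  rw [hS x.2 y.2, hs x.2 (S y.2)]
  ring

theorem self_adjoint_of_ux_mem (β : LinearMap.BilinForm F B)
    (S : B →ₗ[F] B) (h : ux S ∈ isoGroup (tf β)) : ∀ u v, β (S u) v = β u (S v) := by
  intro u v
  have := h (0, u) (0, v)
  simp only [ux_apply, tf_apply, map_zero, zero_add, LinearMap.zero_apply, sub_zero,
    sub_self] at this
  exact sub_eq_zero.mp this

theorem lx_mem_isoGroup (β : LinearMap.BilinForm F B) (hs : ∀ u v, β u v = β v u)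
    (S : B →ₗ[F] B) (hS : ∀ u v, β (S u) v = β u (S v)) : lx S ∈ isoGroup (tf β) := by
  intro x y
  simp only [lx_apply, tf_apply, map_add, LinearMap.add_apply]
  rw [hS x.1 y.1, hs x.1 (S y.1)]
  ring

theorem hE_mem_isoGroup (β : LinearMap.BilinForm F B) (a : Fˣ) : hE a ∈ isoGroup (tf β) := by
  intro x y
  simp only [hE_apply, tf_apply, map_smul, LinearMap.smul_apply, smul_eq_mul]
  have : (a : F) * ((a⁻¹ : Fˣ) : F) = 1 := by rw [← Units.val_mul, mul_inv_cancel, Units.val_one]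
  linear_combination (β x.1 y.2 - β x.2 y.1) * this

theorem jE_mem_isoGroup (β : LinearMap.BilinForm F B) :
    (jE : (B × B) ≃ₗ[F] (B × B)) ∈ isoGroup (tf β) := by
  intro x y
  simp only [jE_apply, tf_apply, map_neg, LinearMap.neg_apply]
  ring

theorem oE_mem_isoGroup (β : LinearMap.BilinForm F B) (Q : B ≃ₗ[F] B) (hQ : Q ∈ isoGroup β) :
    oE Q ∈ isoGroup (tf β) := by
  intro x y
  simp only [oE_apply, tf_apply]
  rw [hQ, hQ]

theorem reflE_mem_isoGroup (β : LinearMap.BilinForm F B) (hs : ∀ u v, β u v = β v u) (y : B) :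
    reflE β y ∈ isoGroup β := by
  intro u v
  by_cases h : β y y = 0
  · simp [h]
  · simp only [reflE_apply, map_sub, map_smul, LinearMap.sub_apply, LinearMap.smul_apply,
      smul_eq_mul]
    rw [hs y v]
    field_simp
    ring

theorem siegel_mem_isoGroup (β : LinearMap.BilinForm F B) (hs : ∀ u v, β u v = β v u)
    (h2 : (2 : F) ≠ 0) (ε z : B) (hε : β ε ε = 0) (hz : β ε z = 0) :
    siegel β hs h2 ε z hε hz ∈ isoGroup β := by
  intro u v
  have hz' : β z ε = 0 := by rw [hs]; exact hz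
  simp only [siegel_apply, map_add, map_sub, map_smul, LinearMap.add_apply, LinearMap.sub_apply,
    LinearMap.smul_apply, smul_eq_mul, hε, hz, hz', mul_zero, sub_zero, add_zero]
  rw [hs ε v, hs z v]
  field_simp
  ring

/-- `ux (c • rk1 β ε)` is the symplectic transvection with centre `(ε, 0)` -/
theorem ux_rk1 (β : LinearMap.BilinForm F B) (hs : ∀ u v, β u v = β v u) (ε : B) (c : F) :
    ux (c • rk1 β ε) = stv (tf β) (tf_isAlt β hs) (ε, 0) (-c) := by
  apply LinearEquiv.ext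
  intro x
  simp only [ux_apply, stv_apply, tf_apply, LinearMap.smul_apply, rk1_apply, map_zero, zero_sub,
    Prod.smul_mk, smul_zero]
  ext
  · simp only [Prod.fst_add, smul_smul]
    congr 2
    ring
  · simp

theorem rk1_self_adjoint (β : LinearMap.BilinForm F B) (hs : ∀ u v, β u v = β v u) (ε : B)
    (u v : B) : β (rk1 β ε u) v = β u (rk1 β ε v) := by
  simp only [rk1_apply, map_smul, LinearMap.smul_apply, smul_eq_mul]
  rw [hs ε v]
  ring

/-- conjugation of `ux S` by `hE a` -/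
theorem hE_conj_ux (a : Fˣ) (S : B →ₗ[F] B) :
    hE a * ux S * (hE a)⁻¹ = ux (((a : F) * (a : F)) • S) := by
  rw [mul_inv_eq_iff_eq_mul]
  apply LinearEquiv.ext
  intro x
  simp only [LinearEquiv.mul_apply, hE_apply, ux_apply, LinearMap.smul_apply, map_smul, smul_add,
    smul_smul]
  have : ((a⁻¹ : Fˣ) : F) * ((a : F) * (a : F)) = a := by
    rw [← mul_assoc, ← Units.val_mul, inv_mul_cancel, Units.val_one, one_mul]
  rw [this]

/-- conjugation of `ux S` by `oE Q` -/
theorem oE_conj_ux (Q : B ≃ₗ[F] B) (S : B →ₗ[F] B) :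
    oE Q * ux S * (oE Q)⁻¹ =
      ux ((Q : B →ₗ[F] B) ∘ₗ S ∘ₗ (Q.symm : B →ₗ[F] B)) := by
  rw [mul_inv_eq_iff_eq_mul]
  apply LinearEquiv.ext
  intro x
  simp [LinearEquiv.mul_apply]

end Cfsg.Agent.Lib.Helper67_Tens2Defs
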