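import Mathlib
import Cfsg.Agent.Lib.Helper27_UQDefs
import Cfsg.Agent.Lib.Helper94_HermWitt
import Cfsg.Agent.Lib.Helper94_HermIrr

set_option autoImplicit false
set_option linter.unusedSectionVars false
set_option linter.unusedVariables false
set_option linter.unusedSimpArgs false

open Module Cfsg.Agent.Lib.Helper94_Symp Cfsg.Agent.Lib.Helper94_Herm
  Cfsg.Agent.Lib.Helper94_HermEich Cfsg.Agent.Lib.Helper94_HermPara
  Cfsg.Agent.Lib.Helper94_HermTrans
  Cfsg.Agent.Lib.Helper13_SUGen Cfsg.Agent.Lib.Helper13_PSUSimple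
  Cfsg.Agent.Lib.Helper46_U3TI Cfsg.Agent.Lib.Helper14_PSULocal1
  Cfsg.Agent.Lib.Helper27_UQDefs

/-!
# UQ-KISO (helper27): `Kv B v v' ≃* SUg (B restricted to W)`, `W = Wsub B v v'`

Package KISO of the unitary `Q_v` foundation layer (spec: pending/helper27/UQ_packages.lean.txt).
Main statements (verbatim from the spec): `Bw`, `Bw_apply`, `isHerm_Bw`, `nondeg_Bw`, `Kv_map_mem`,
`exists_KvEquiv`, `conj_eich_Kv`, `Kv_comm_utv`, `tvGroup_le_Kv`.
Tools: `splitEquiv h : V ≃ₗ[F] (F × F) × W`, `extW h k` (extension of `k : W ≃ₗ W` by the identity on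
`⟨v, v'⟩`, with `extW_apply/_v/_v'/_W`, `det_extW`, `extW_mem_uG`), `resW hk` (restriction of `k ∈ Kv` to `W`),
`extW_resW`, `B_decomp`.
-/

namespace Cfsg.Agent.Lib.Helper27_UQ_KISO

variable {F V : Type*} [Field F] [AddCommGroup V] [Module F V] {σ : F →+* F}
variable {B : V →ₗ[F] V →ₛₗ[σ] F}

/-- The restriction of the form to a subspace. -/
noncomputable def Bw (B : V →ₗ[F] V →ₛₗ[σ] F) (W : Submodule F V) : ↥W →ₗ[F] ↥W →ₛₗ[σ] F :=
  B.domRestrict₁₂ W W

theorem Bw_apply (W : Submodule F V) (x y : ↥W) : Bw B W x y = B (x : V) (y : V) := rfl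

theorem isHerm_Bw (hB : IsHerm B) (W : Submodule F V) : IsHerm (Bw B W) := fun x y => hB x y

theorem nondeg_Bw {W : Submodule F V} (hW : NondegOn B W) : NondegOn (Bw B W) ⊤ := by
  intro x _ hx0
  have hx0' : (x : V) ≠ 0 := fun h => hx0 (Subtype.ext h)
  obtain ⟨y, hyW, hy⟩ := hW x x.2 hx0'
  exact ⟨⟨y, hyW⟩, trivial, hy⟩

theorem Kv_map_mem {v v' : V} {k : V ≃ₗ[F] V} (hk : k ∈ Kv B v v') {w : V}
    (hw : w ∈ Wsub B v v') : k w ∈ Wsub B v v' := by
  obtain ⟨hk1, hkv, hkv'⟩ := hk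
  have hU := (mem_SUg.mp hk1).1
  refine ⟨?_, ?_⟩
  · have := hU w v
    rw [hkv] at this
    rw [this]; exact hw.1
  · have := hU w v'
    rw [hkv'] at this
    rw [this]; exact hw.2

theorem conj_eich_Kv {v v' : V} {k : V ≃ₗ[F] V} (hk : k ∈ Kv B v v') (w : V) (c : F) :
    k * eich B v w c * k⁻¹ = eich B v (k w) c := by
  obtain ⟨hk1, hkv, hkv'⟩ := hk
  rw [conj_eich (mem_SUg.mp hk1).1, hkv]

theorem Kv_comm_utv {v v' : V} {k : V ≃ₗ[F] V} (hk : k ∈ Kv B v v') (c : F) :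
    k * utv B v c = utv B v c * k := by
  obtain ⟨hk1, hkv, hkv'⟩ := hk
  have h := conj_utv (mem_SUg.mp hk1).1 v c
  rw [hkv] at h
  calc k * utv B v c = k * utv B v c * k⁻¹ * k := by group
    _ = utv B v c * k := by rw [h]

theorem tvGroup_le_Kv (hB : IsHerm B) {v v' : V} (h : HypPair B v v') :
    tvGroup B (Wsub B v v') ≤ Kv B v v' := by
  intro t ht
  refine ⟨tvGroup_le_SUg hB _ ht, ?_, ?_⟩
  · exact tvGroup_fix (U := Wsub B v v') (x := v)
      (fun a ha => herm_eq_zero hB ((mem_Wsub B).mp ha).1) ht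
  · exact tvGroup_fix (U := Wsub B v v') (x := v')
      (fun a ha => herm_eq_zero hB ((mem_Wsub B).mp ha).2) ht


theorem perpPart_add' (e f x y : V) :
    perpPart B e f (x + y) = perpPart B e f x + perpPart B e f y := by
  simp only [perpPart, map_add, LinearMap.add_apply, add_smul]
  abel

theorem perpPart_smul' (e f : V) (a : F) (x : V) :
    perpPart B e f (a • x) = a • perpPart B e f x := by
  simp only [perpPart, map_smul, LinearMap.smul_apply, smul_eq_mul, smul_sub, smul_smul]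

/-- `V ≃ (F × F) × W`, `x ↦ ((B x v', B x v), perpPart x)`, inverse `((a,b),w) ↦ a v + b v' + w`. -/
noncomputable def splitEquiv {v v' : V} (h : HypPair B v v') :
    V ≃ₗ[F] (F × F) × ↥(Wsub B v v') where
  toFun x := ((B x v', B x v), ⟨perpPart B v v' x, perpPart_e h x, perpPart_f h x⟩)
  invFun p := p.1.1 • v + p.1.2 • v' + (p.2 : V)
  map_add' x y := by
    apply Prod.ext
    · apply Prod.ext
      · simp
      · simp
    · apply Subtype.ext
      exact perpPart_add' v v' x y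
  map_smul' a x := by
    apply Prod.ext
    · apply Prod.ext
      · simp
      · simp
    · apply Subtype.ext
      exact perpPart_smul' v v' a x
  left_inv x := by
    show B x v' • v + B x v • v' + perpPart B v v' x = x
    exact (eq_add_perpPart v v' x).symm
  right_inv := by
    rintro ⟨⟨a, b⟩, ⟨w, hw⟩⟩
    have hw1 : B w v = 0 := hw.1
    have hw2 : B w v' = 0 := hw.2
    apply Prod.ext
    · apply Prod.ext
      · show B (a • v + b • v' + w) v' = a
        simp [h.ee, h.ff, h.ef, h.fe, hw1, hw2]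
      · show B (a • v + b • v' + w) v = b
        simp [h.ee, h.ff, h.ef, h.fe, hw1, hw2]
    · apply Subtype.ext
      show perpPart B v v' (a • v + b • v' + w) = w
      simp only [perpPart, map_add, map_smul, LinearMap.add_apply, LinearMap.smul_apply,
        smul_eq_mul, h.ee, h.ff, h.ef, h.fe, hw1, hw2, mul_zero, mul_one, add_zero, zero_add]
      abel

theorem splitEquiv_apply {v v' : V} (h : HypPair B v v') (x : V) :
    splitEquiv h x = ((B x v', B x v), ⟨perpPart B v v' x, perpPart_e h x, perpPart_f h x⟩) := rfl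

theorem splitEquiv_symm_apply {v v' : V} (h : HypPair B v v') (p : (F × F) × ↥(Wsub B v v')) :
    (splitEquiv h).symm p = p.1.1 • v + p.1.2 • v' + (p.2 : V) := rfl

/-- extension of a linear automorphism of `W` by the identity on `⟨v, v'⟩` -/
noncomputable def extW {v v' : V} (h : HypPair B v v')
    (k : ↥(Wsub B v v') ≃ₗ[F] ↥(Wsub B v v')) : V ≃ₗ[F] V :=
  ((splitEquiv h).trans ((LinearEquiv.refl F (F × F)).prodCongr k)).trans (splitEquiv h).symm

theorem extW_apply {v v' : V} (h : HypPair B v v')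
    (k : ↥(Wsub B v v') ≃ₗ[F] ↥(Wsub B v v')) (x : V) :
    extW h k x = B x v' • v + B x v • v' +
      ((k ⟨perpPart B v v' x, perpPart_e h x, perpPart_f h x⟩ : ↥(Wsub B v v')) : V) := rfl

theorem extW_v {v v' : V} (h : HypPair B v v')
    (k : ↥(Wsub B v v') ≃ₗ[F] ↥(Wsub B v v')) : extW h k v = v := by
  rw [extW_apply]
  have : (⟨perpPart B v v' v, perpPart_e h v, perpPart_f h v⟩ : ↥(Wsub B v v')) = 0 := by
    apply Subtype.ext
    simp [perpPart, h.ee, h.ef]
  rw [this, map_zero, h.ee, h.ef]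
  simp

theorem extW_v' {v v' : V} (h : HypPair B v v')
    (k : ↥(Wsub B v v') ≃ₗ[F] ↥(Wsub B v v')) : extW h k v' = v' := by
  rw [extW_apply]
  have : (⟨perpPart B v v' v', perpPart_e h v', perpPart_f h v'⟩ : ↥(Wsub B v v')) = 0 := by
    apply Subtype.ext
    simp [perpPart, h.ff, h.fe]
  rw [this, map_zero, h.ff, h.fe]
  simp

theorem extW_W {v v' : V} (h : HypPair B v v')
    (k : ↥(Wsub B v v') ≃ₗ[F] ↥(Wsub B v v')) (w : ↥(Wsub B v v')) :
    extW h k (w : V) = ((k w : ↥(Wsub B v v')) : V) := by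
  rw [extW_apply]
  have hw1 : B (w : V) v = 0 := w.2.1
  have hw2 : B (w : V) v' = 0 := w.2.2
  have : (⟨perpPart B v v' (w : V), perpPart_e h _, perpPart_f h _⟩ : ↥(Wsub B v v')) = w := by
    apply Subtype.ext
    simp [perpPart, hw1, hw2]
  rw [this, hw1, hw2]
  simp

theorem det_extW [FiniteDimensional F V] {v v' : V} (h : HypPair B v v')
    (k : ↥(Wsub B v v') ≃ₗ[F] ↥(Wsub B v v')) :
    LinearEquiv.det (extW h k) = LinearEquiv.det k := by
  apply Units.ext
  rw [LinearEquiv.coe_det, LinearEquiv.coe_det]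
  have h1 : ((extW h k : V ≃ₗ[F] V) : V →ₗ[F] V) =
      ((splitEquiv h).symm : ((F × F) × ↥(Wsub B v v')) →ₗ[F] V) ∘ₗ
        ((LinearMap.id : (F × F) →ₗ[F] (F × F)).prodMap (k : ↥(Wsub B v v') →ₗ[F] ↥(Wsub B v v')))
          ∘ₗ ((splitEquiv h : V ≃ₗ[F] (F × F) × ↥(Wsub B v v')) : V →ₗ[F] _) := by
    apply LinearMap.ext
    intro x
    rfl
  rw [h1]
  have h2 := LinearMap.det_conj
    ((LinearMap.id : (F × F) →ₗ[F] (F × F)).prodMap (k : ↥(Wsub B v v') →ₗ[F] ↥(Wsub B v v')))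
    (splitEquiv h).symm
  rw [LinearEquiv.symm_symm] at h2
  rw [h2, LinearMap.det_prodMap, LinearMap.det_id, one_mul]


theorem B_decomp (hB : IsHerm B) {v v' : V} (h : HypPair B v v') (a b a' b' : F) {p p' : V}
    (hp : p ∈ Wsub B v v') (hp' : p' ∈ Wsub B v v') :
    B (a • v + b • v' + p) (a' • v + b' • v' + p') = a * σ b' + b * σ a' + B p p' := by
  have h1 : B p v = 0 := hp.1
  have h2 : B p v' = 0 := hp.2
  have h3 : B v p' = 0 := herm_eq_zero hB hp'.1
  have h4 : B v' p' = 0 := herm_eq_zero hB hp'.2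
  simp only [map_add, map_smul, map_smulₛₗ, LinearMap.add_apply, LinearMap.smul_apply,
    smul_eq_mul, h.ee, h.ff, h.ef, h.fe, h1, h2, h3, h4, mul_zero, mul_one, add_zero, zero_add]
  ring

/-- restriction of an element of `Kv` to `W` -/
noncomputable def resW {v v' : V} {k : V ≃ₗ[F] V} (hk : k ∈ Kv B v v') :
    ↥(Wsub B v v') ≃ₗ[F] ↥(Wsub B v v') where
  toFun w := ⟨k w, Kv_map_mem hk w.2⟩
  invFun w := ⟨k⁻¹ w, Kv_map_mem ((Kv B v v').inv_mem hk) w.2⟩
  map_add' x y := by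
    apply Subtype.ext
    simp
  map_smul' a x := by
    apply Subtype.ext
    simp
  left_inv w := by
    apply Subtype.ext
    exact inv_apply_apply' k w
  right_inv w := by
    apply Subtype.ext
    exact apply_inv_apply' k w

theorem resW_apply {v v' : V} {k : V ≃ₗ[F] V} (hk : k ∈ Kv B v v') (w : ↥(Wsub B v v')) :
    ((resW hk w : ↥(Wsub B v v')) : V) = k (w : V) := rfl

theorem extW_resW {v v' : V} (h : HypPair B v v') {k : V ≃ₗ[F] V} (hk : k ∈ Kv B v v') :
    extW h (resW hk) = k := by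
  apply ext_pair h
  · rw [extW_v, hk.2.1]
  · rw [extW_v', hk.2.2]
  · intro m hm1 hm2
    have := extW_W h (resW hk) ⟨m, hm1, hm2⟩
    rw [this, resW_apply]

theorem extW_mem_uG (hB : IsHerm B) {v v' : V} (h : HypPair B v v')
    {k : ↥(Wsub B v v') ≃ₗ[F] ↥(Wsub B v v')} (hk : k ∈ uG (Bw B (Wsub B v v'))) :
    extW h k ∈ uG B := by
  intro x y
  rw [extW_apply, extW_apply]
  set wx : ↥(Wsub B v v') := ⟨perpPart B v v' x, perpPart_e h x, perpPart_f h x⟩ with hwx
  set wy : ↥(Wsub B v v') := ⟨perpPart B v v' y, perpPart_e h y, perpPart_f h y⟩ with hwy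
  rw [B_decomp hB h _ _ _ _ (k wx).2 (k wy).2]
  have h1 : B ((k wx : ↥(Wsub B v v')) : V) ((k wy : ↥(Wsub B v v')) : V) = B (wx : V) (wy : V) :=
    hk wx wy
  rw [h1]
  conv_rhs => rw [eq_add_perpPart (B := B) v v' x, eq_add_perpPart (B := B) v v' y]
  rw [B_decomp hB h _ _ _ _ wx.2 wy.2]

theorem exists_KvEquiv [FiniteDimensional F V] (hB : IsHerm B) {v v' : V} (h : HypPair B v v') :
    ∃ e : ↥(Kv B v v') ≃* ↥(SUg (Bw B (Wsub B v v'))),
      ∀ (k : ↥(Kv B v v')) (w : ↥(Wsub B v v')),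
        (((e k : ↥(SUg (Bw B (Wsub B v v')))) : ↥(Wsub B v v') ≃ₗ[F] ↥(Wsub B v v')) w : V) =
          (k : V ≃ₗ[F] V) (w : V) := by
  have hfwd : ∀ k : ↥(Kv B v v'), resW k.2 ∈ SUg (Bw B (Wsub B v v')) := by
    intro k
    refine mem_SUg.mpr ⟨?_, ?_⟩
    · intro x y
      exact (mem_SUg.mp k.2.1).1 x y
    · rw [← det_extW h, extW_resW h k.2]
      exact (mem_SUg.mp k.2.1).2
  have hbwd : ∀ k₀ : ↥(SUg (Bw B (Wsub B v v'))),
      extW h (k₀ : ↥(Wsub B v v') ≃ₗ[F] ↥(Wsub B v v')) ∈ Kv B v v' := by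
    intro k₀
    refine ⟨mem_SUg.mpr ⟨extW_mem_uG hB h (mem_SUg.mp k₀.2).1, ?_⟩, extW_v h _, extW_v' h _⟩
    rw [det_extW h]
    exact (mem_SUg.mp k₀.2).2
  refine ⟨{ toFun := fun k => ⟨resW k.2, hfwd k⟩
            invFun := fun k₀ => ⟨extW h k₀, hbwd k₀⟩
            left_inv := ?_
            right_inv := ?_
            map_mul' := ?_ }, ?_⟩
  · intro k
    apply Subtype.ext
    exact extW_resW h k.2
  · intro k₀
    apply Subtype.ext
    apply LinearEquiv.ext
    intro w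
    apply Subtype.ext
    show (extW h (k₀ : ↥(Wsub B v v') ≃ₗ[F] ↥(Wsub B v v'))) (w : V) = _
    rw [extW_W]
  · intro k k'
    apply Subtype.ext
    apply LinearEquiv.ext
    intro w
    apply Subtype.ext
    rfl
  · intro k w
    rfl

end Cfsg.Agent.Lib.Helper27_UQ_KISO
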