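import Mathlib
import Cfsg.Agent.Lib.Helper27_UQDefs
import Cfsg.Agent.Lib.Helper27_UQ_KISO

set_option autoImplicit false
set_option linter.unusedSectionVars false
set_option linter.unusedVariables false
set_option linter.unusedSimpArgs false

open Module Cfsg.Agent.Lib.Helper94_Symp Cfsg.Agent.Lib.Helper94_Herm
  Cfsg.Agent.Lib.Helper94_HermEich Cfsg.Agent.Lib.Helper94_HermPara
  Cfsg.Agent.Lib.Helper94_HermTrans
  Cfsg.Agent.Lib.Helper13_SUGen Cfsg.Agent.Lib.Helper13_PSUSimple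
  Cfsg.Agent.Lib.Helper46_U3TI Cfsg.Agent.Lib.Helper14_PSULocal1
  Cfsg.Agent.Lib.Helper27_UQDefs

/-!
# UQ-GEN (helper27): generation of `SUg` by root groups, transitivity, `Kv`-orbits and irreducibility on `W`
Spec: pending/helper27/UQ_packages.lean.txt.  Verbatim: `SUg_eq_closure`, `eq_top_of_Xv_le`, `SUg_trans_iso`,
`SUg_trans_pair`, `exists_hypPair`, `conj_Xv`, `conj_Qv`, `Kv_trans_W`, `Kv_irred`.  Extra: `conj_mem_Qv_of_uG`.
-/

namespace Cfsg.Agent.Lib.Helper27_UQ_GEN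

variable {F V : Type*} [Field F] [AddCommGroup V] [Module F V] {σ : F →+* F}
variable {B : V →ₗ[F] V →ₛₗ[σ] F}

theorem SUg_eq_closure [Finite F] [FiniteDimensional F V] (hσ : Invol σ) (hB : IsHerm B)
    (hN : NondegOn B ⊤) (h4 : 4 ≤ finrank F V) :
    SUg B = Subgroup.closure {g | ∃ u : V, B u u = 0 ∧ g ∈ Xv B u} := by
  apply le_antisymm
  · intro g hg
    obtain ⟨hg1, hg2⟩ := mem_SUg.mp hg
    have h1 := mem_tvGroup_of_four_le hσ hB hN h4 hg1 hg2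
    refine (Subgroup.closure_mono ?_) h1
    rintro t ⟨a, -, c, ha, hc, rfl⟩
    exact ⟨a, ha, utv_mem_Xv B a hc⟩
  · rw [Subgroup.closure_le]
    rintro g ⟨u, -, hg⟩
    exact Xv_le_SUg hB u hg

theorem eq_top_of_Xv_le [Finite F] [FiniteDimensional F V] (hσ : Invol σ) (hB : IsHerm B)
    (hN : NondegOn B ⊤) (h4 : 4 ≤ finrank F V) {H : Subgroup (V ≃ₗ[F] V)}
    (hH : ∀ u : V, B u u = 0 → Xv B u ≤ H) : SUg B ≤ H := by
  rw [SUg_eq_closure hσ hB hN h4, Subgroup.closure_le]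
  rintro g ⟨u, hu, hg⟩
  exact hH u hu hg

theorem SUg_trans_iso [Finite F] [FiniteDimensional F V] (hσ : Invol σ) (hB : IsHerm B)
    (hN : NondegOn B ⊤) (h3 : 3 ≤ finrank F V) {b b' : V} (hb0 : b ≠ 0) (hb'0 : b' ≠ 0)
    (hb : B b b = 0) (hb' : B b' b' = 0) : ∃ g ∈ SUg B, g b = b' := by
  have htop : finrank F (⊤ : Submodule F V) = finrank F V := finrank_top F V
  obtain ⟨t, ht, htb⟩ := Cfsg.Agent.Lib.Helper94_HermWitt.exists_tv_iso hσ hB hN (by omega)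
    (Submodule.mem_top : b ∈ (⊤ : Submodule F V)) (Submodule.mem_top : b' ∈ (⊤ : Submodule F V))
    hb0 hb'0 hb hb'
  exact ⟨t, tvGroup_le_SUg hB _ ht, htb⟩

theorem SUg_trans_pair [Finite F] [FiniteDimensional F V] (hσ : Invol σ) (hB : IsHerm B)
    (hN : NondegOn B ⊤) (h4 : 4 ≤ finrank F V) {e f e' f' : V} (h : HypPair B e f)
    (h' : HypPair B e' f') : ∃ g ∈ SUg B, g e = e' ∧ g f = f' := by
  have htop : finrank F (⊤ : Submodule F V) = finrank F V := finrank_top F V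
  obtain ⟨t, ht, hte, htf⟩ := Cfsg.Agent.Lib.Helper94_HermWitt.pair_trans hσ hB hN (by omega)
    (Submodule.mem_top : e ∈ (⊤ : Submodule F V)) (Submodule.mem_top : f ∈ (⊤ : Submodule F V))
    (Submodule.mem_top : e' ∈ (⊤ : Submodule F V)) (Submodule.mem_top : f' ∈ (⊤ : Submodule F V))
    h.ee h.ff h.ef h'.ee h'.ff h'.ef
  exact ⟨t, tvGroup_le_SUg hB _ ht, hte, htf⟩

theorem exists_hypPair (hσ : Invol σ) (hB : IsHerm B) (hN : NondegOn B ⊤) {v : V} (hv0 : v ≠ 0)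
    (hv : B v v = 0) : ∃ v' : V, HypPair B v v' := by
  obtain ⟨f, -, hf, hvf⟩ := exists_partner hσ hB hN (Submodule.mem_top : v ∈ (⊤ : Submodule F V))
    hv0 hv
  exact ⟨f, hypPair_mk hB hv hf hvf⟩

theorem conj_Xv {g : V ≃ₗ[F] V} (hg : g ∈ uG B) (v : V) :
    (Xv B v).map (MulAut.conj g).toMonoidHom = Xv B (g v) := by
  ext x
  rw [Subgroup.mem_map]
  constructor
  · rintro ⟨y, ⟨c, hc, rfl⟩, rfl⟩
    refine ⟨c, hc, ?_⟩
    show g * utv B v c * g⁻¹ = _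
    exact conj_utv hg v c
  · rintro ⟨c, hc, rfl⟩
    refine ⟨utv B v c, utv_mem_Xv B v hc, ?_⟩
    show g * utv B v c * g⁻¹ = _
    exact conj_utv hg v c

theorem conj_mem_Qv_of_uG {g y : V ≃ₗ[F] V} (hg : g ∈ uG B) {v : V} (hy : y ∈ Qv B v) :
    g * y * g⁻¹ ∈ Qv B (g v) := by
  obtain ⟨hy1, hyv, hy2⟩ := hy
  refine ⟨(uG B).mul_mem ((uG B).mul_mem hg hy1) ((uG B).inv_mem hg), ?_, ?_⟩
  · rw [LinearEquiv.mul_apply, LinearEquiv.mul_apply, inv_apply_apply', hyv]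
  · intro x hx
    have h1 : B (g⁻¹ x) v = 0 := by
      have := hg (g⁻¹ x) v
      rw [apply_inv_apply'] at this
      rw [← this]; exact hx
    obtain ⟨c, hc⟩ := hy2 (g⁻¹ x) h1
    refine ⟨c, ?_⟩
    rw [LinearEquiv.mul_apply, LinearEquiv.mul_apply, hc, map_add, map_smul, apply_inv_apply']

theorem conj_Qv {g : V ≃ₗ[F] V} (hg : g ∈ uG B) (v : V) :
    (Qv B v).map (MulAut.conj g).toMonoidHom = Qv B (g v) := by
  ext x
  rw [Subgroup.mem_map]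
  constructor
  · rintro ⟨y, hy, rfl⟩
    exact conj_mem_Qv_of_uG hg hy
  · intro hx
    refine ⟨g⁻¹ * x * g, ?_, ?_⟩
    · have := conj_mem_Qv_of_uG ((uG B).inv_mem hg) hx
      rw [inv_apply_apply', inv_inv] at this
      exact this
    · show g * (g⁻¹ * x * g) * g⁻¹ = x
      group

theorem Kv_trans_W [Finite F] [FiniteDimensional F V] (hσ : Invol σ) (hB : IsHerm B)
    (hN : NondegOn B ⊤) {v v' : V} (h : HypPair B v v') (h4 : 4 ≤ finrank F ↥(Wsub B v v'))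
    {w w' : V} (hw : w ∈ Wsub B v v') (hw' : w' ∈ Wsub B v v') (hw0 : w ≠ 0) (hw'0 : w' ≠ 0)
    (hnorm : B w w = B w' w') : ∃ k ∈ Kv B v v', k w = w' := by
  have hWN : NondegOn B (Wsub B v v') := by
    rw [Wsub_eq_Wp]; exact nondegOn_Wp hB hN h
  by_cases hww : B w w = 0
  · obtain ⟨t, ht, htw⟩ := Cfsg.Agent.Lib.Helper94_HermWitt.exists_tv_iso hσ hB hWN (by omega)
      hw hw' hw0 hw'0 hww (by rw [← hnorm]; exact hww)
    exact ⟨t, Cfsg.Agent.Lib.Helper27_UQ_KISO.tvGroup_le_Kv hB h ht, htw⟩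
  · obtain ⟨t, ht, htw⟩ := Cfsg.Agent.Lib.Helper94_HermWitt.exists_tv_aniso hσ hB hWN h4
      hw hw' hww hnorm.symm
    exact ⟨t, Cfsg.Agent.Lib.Helper27_UQ_KISO.tvGroup_le_Kv hB h ht, htw⟩

theorem Kv_irred [Finite F] [FiniteDimensional F V] (hσ : Invol σ) (hB : IsHerm B)
    (hN : NondegOn B ⊤) {v v' : V} (h : HypPair B v v') (h3 : 3 ≤ finrank F ↥(Wsub B v v'))
    (A : AddSubgroup V) (hA : ∀ x ∈ A, x ∈ Wsub B v v')
    (hinv : ∀ k ∈ Kv B v v', ∀ x ∈ A, k x ∈ A) (hne : ∃ x ∈ A, x ≠ 0) :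
    ∀ x ∈ Wsub B v v', x ∈ A := by
  have hWN : NondegOn B (Wsub B v v') := by
    rw [Wsub_eq_Wp]; exact nondegOn_Wp hB hN h
  obtain ⟨x0, hx0A, hx0⟩ := hne
  refine Cfsg.Agent.Lib.Helper94_HermIrr.mem_of_utv_invariant hσ hB hWN
    (fun x y => Cfsg.Agent.Lib.Helper94_HermWitt.exists_notMem_span2 h3 x y) A ?_
    ⟨x0, hx0A, hA x0 hx0A, hx0⟩
  intro a haW ha c hc x hx
  exact hinv _ (Cfsg.Agent.Lib.Helper27_UQ_KISO.tvGroup_le_Kv hB h
    (utv_mem_tvGroup haW ha hc)) x hx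

end Cfsg.Agent.Lib.Helper27_UQ_GEN
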