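import Mathlib
import Cfsg.Agent.Lib.Helper94_FrmDefs
import Cfsg.Agent.Lib.Helper94_HermWitt
import Cfsg.Agent.Lib.Helper27_UQ_GEN

set_option autoImplicit false
set_option linter.unusedSimpArgs false
set_option linter.unusedVariables false
set_option linter.unusedSectionVars false

/-!
Definitions for the maximality of the stabiliser of a decomposition into pairwise orthogonal
nondegenerate subspaces of dimension at least two in the special unitary group (S5655, blocks of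
dimension `k ≥ 2`): the context structure, the set `UU B M` of isotropic vectors whose full root
group lies in `M` (from `Helper94_FrmDefs`) and its basic closure properties.
-/

namespace Cfsg.Agent.Lib.Helper94_UDDefs

open Module Cfsg.Agent.Lib.Helper94_Symp Cfsg.Agent.Lib.Helper94_Herm
  Cfsg.Agent.Lib.Helper13_PSUSimple Cfsg.Agent.Lib.Helper27_UQDefs
  Cfsg.Agent.Lib.Helper94_FrmDefs

variable {F V : Type*} [Field F] [AddCommGroup V] [Module F V]
variable {σ : F →+* F} {B : V →ₗ[F] V →ₛₗ[σ] F}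

/-- the standing hypotheses: `D` is a decomposition into `t ≥ 2` pairwise orthogonal nondegenerate
subspaces of dimension `k ≥ 2`, `S` is its stabiliser in the general linear group, and
`S ⊓ SUg B ≤ M ≤ SUg B`; the pair `k = 2`, `|F| = 4` is excluded -/
structure Ctx (B : V →ₗ[F] V →ₛₗ[σ] F) {t : ℕ} (k : ℕ) (D : Fin t → Submodule F V)
    (S M : Subgroup (V ≃ₗ[F] V)) : Prop where
  hσ : Invol σ
  hB : IsHerm B
  hN : NondegOn B ⊤
  ht : 2 ≤ t
  hk : 2 ≤ k
  hfr : ∀ i, finrank F (D i) = k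
  hsup : iSup D = ⊤
  hnd : ∀ i, NondegOn B (D i)
  horth : ∀ i j, i ≠ j → ∀ u ∈ D i, ∀ v ∈ D j, B u v = 0
  hex : k = 2 → 4 < Nat.card F
  hS : ∀ g, g ∈ S ↔ ∃ π : Equiv.Perm (Fin t), ∀ i, (D i).map (g : V →ₗ[F] V) = D (π i)
  hHM : S ⊓ SUg B ≤ M
  hMK : M ≤ SUg B

/-- all isotropic sums `a + b`, `a ∈ D p`, `b ∈ D q`, have their root group in `M` -/
def RR (B : V →ₗ[F] V →ₛₗ[σ] F) {t : ℕ} (D : Fin t → Submodule F V)
    (M : Subgroup (V ≃ₗ[F] V)) (p q : Fin t) : Prop :=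
  ∀ a ∈ D p, ∀ b ∈ D q, B (a + b) (a + b) = 0 → a + b ∈ UU B M

lemma mem_UU {M : Subgroup (V ≃ₗ[F] V)} {u : V} :
    u ∈ UU B M ↔ B u u = 0 ∧ ∀ c : F, σ c = -c → utv B u c ∈ M := Iff.rfl

lemma utv_zero_left (c : F) : utv B (0 : V) c = 1 := by
  ext x
  rw [utv_apply B (by simp)]
  simp

lemma UU_zero (M : Subgroup (V ≃ₗ[F] V)) : (0 : V) ∈ UU B M :=
  ⟨by simp, fun c _ => by rw [utv_zero_left]; exact M.one_mem⟩

lemma UU_smul (hσ : Invol σ) {M : Subgroup (V ≃ₗ[F] V)} {u : V} (hu : u ∈ UU B M) (l : F) :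
    l • u ∈ UU B M := by
  refine ⟨by rw [self_smul, hu.1, mul_zero], fun c hc => ?_⟩
  rw [utv_smul]
  apply hu.2
  rw [map_mul, map_mul, hσ.invol, hc]
  ring

lemma UU_map {M : Subgroup (V ≃ₗ[F] V)} (hM : M ≤ uG B) {g : V ≃ₗ[F] V} (hg : g ∈ M) {u : V}
    (hu : u ∈ UU B M) : g u ∈ UU B M := by
  refine ⟨by rw [hM hg, hu.1], fun c hc => ?_⟩
  rw [← conj_utv (hM hg)]
  exact M.mul_mem (M.mul_mem hg (hu.2 c hc)) (M.inv_mem hg)

/-- closure under hyperbolic lines -/
lemma UU_hyp (hσ : Invol σ) (hB : IsHerm B) {M : Subgroup (V ≃ₗ[F] V)} (hM : M ≤ uG B) {u u' : V}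
    (hu : u ∈ UU B M) (hu' : u' ∈ UU B M) (hne : B u u' ≠ 0) (a b : F)
    (hw : B (a • u + b • u') (a • u + b • u') = 0) : a • u + b • u' ∈ UU B M := by
  by_cases ha : a = 0
  · rw [ha, zero_smul, zero_add]
    exact UU_smul hσ hu' b
  have hne' : B u' u ≠ 0 := herm_ne_zero hσ hB hne
  -- the isotropy condition
  have hcond : a * σ b * B u u' + b * σ a * B u' u = 0 := by
    have := hw
    simp only [map_add, map_smul, map_smulₛₗ, LinearMap.add_apply, LinearMap.smul_apply,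
      smul_eq_mul, hu.1, hu'.1, mul_zero, add_zero, zero_add] at this
    linear_combination this
  set c : F := b / (a * B u u') with hc
  have hσa : σ a ≠ 0 := (map_ne_zero σ).2 ha
  have hcs : σ c = -c := by
    rw [hc, map_div₀, map_mul, ← hB u u']
    have h1 : a * B u u' ≠ 0 := mul_ne_zero ha hne
    have h2 : σ a * B u' u ≠ 0 := mul_ne_zero hσa hne'
    rw [div_eq_iff h2, neg_mul, eq_neg_iff_add_eq_zero, div_mul_eq_mul_div, ← eq_neg_iff_add_eq_zero,
      eq_comm, neg_eq_iff_eq_neg, div_eq_iff h1]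
    linear_combination hcond
  have hmove : utv B u' c u = a⁻¹ • (a • u + b • u') := by
    rw [utv_apply B hu'.1, hc, smul_add, smul_smul, smul_smul, inv_mul_cancel₀ ha, one_smul]
    congr 2
    field_simp
  have h1 : a⁻¹ • (a • u + b • u') ∈ UU B M := by
    rw [← hmove]
    exact UU_map hM (hu'.2 c hcs) hu
  have h2 := UU_smul hσ h1 a
  rwa [smul_smul, mul_inv_cancel₀ ha, one_smul] at h2

lemma UU_add (hσ : Invol σ) (hB : IsHerm B) {M : Subgroup (V ≃ₗ[F] V)} (hM : M ≤ uG B) {u u' : V}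
    (hu : u ∈ UU B M) (hu' : u' ∈ UU B M) (hne : B u u' ≠ 0)
    (hw : B (u + u') (u + u') = 0) : u + u' ∈ UU B M := by
  have := UU_hyp hσ hB hM hu hu' hne 1 1 (by simpa using hw)
  simpa using this

lemma SUg_le_uG : SUg B ≤ uG B := fun _ h => (mem_SUg.mp h).1

/-- if all isotropic vectors have their root group in `M` then `M` contains `SUg B` -/
lemma SUg_le_of_UU [Finite F] [FiniteDimensional F V] (hσ : Invol σ) (hB : IsHerm B)
    (hN : NondegOn B ⊤) (h4 : 4 ≤ finrank F V) {M : Subgroup (V ≃ₗ[F] V)}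
    (h : ∀ u : V, B u u = 0 → u ∈ UU B M) : SUg B ≤ M := by
  apply Cfsg.Agent.Lib.Helper27_UQ_GEN.eq_top_of_Xv_le hσ hB hN h4
  rintro u hu g ⟨c, hc, rfl⟩
  exact (h u hu).2 c hc

end Cfsg.Agent.Lib.Helper94_UDDefs
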