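import Mathlib
import Cfsg.Agent.Lib.Helper67_Tens2Defs
import Cfsg.Agent.Lib.Helper94_UDDefs

set_option autoImplicit false

/-!
# `GU_2(q) ⊗ GU_b(q)` in `SU_{2b}(q)`: shared definitions (helper67, project UTENS2)

Abstract setting: `F` a field with an involution `σ` (`Helper94_Herm.Invol σ`), `W` a
finite-dimensional space over `F` with a nondegenerate hermitian form
`β : W →ₗ[F] W →ₛₗ[σ] F` (`Helper94_Herm.IsHerm β`, `NondegOn β ⊤`); `V = W × W` (the space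
`F² ⊗ W`; the pure tensor `(a, c) ⊗ u` is `(a • u, c • u)`) with the hermitian form
`uf β ((u,u'),(v,v')) = β u v' + β u' v` (`F²` is a hyperbolic unitary line with isotropic basis).
Subgroups of `SU(V)` are subgroups of `(W × W) ≃ₗ[F] (W × W)` inside
`Helper13_PSUSimple.SUg (uf β)`.

Reused from `Helper67_Tens2Defs` (form independent): `ux S`, `lx S`, `hE a`, `oE Q`, `G0`, `Lg g`,
`DI g`, `IsKron2 g` and their basic lemmas.  New here:

* `uf β` : the hermitian form on `W × W`.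
* `jU s` : the element `(u,u') ↦ (s u', -s⁻¹ u)` (unitary of determinant one when `σ s = -s`).
* `rk1h β ε` : the rank one map `v ↦ β v ε • ε`;  `twh β y w : v ↦ β v w • y + β v y • w`.
* `HypU β M` : `M ≤ SU(V)` contains the generators of `SU_2 ⊗ 1` and `1 ⊗ SU(β)`.
* `RadStdU M` : every `ux S ∈ M` has `S` scalar.
-/

namespace Cfsg.Agent.Lib.Helper67_UT2Defs

open Module
open Cfsg.Agent.Lib.Helper94_Symp Cfsg.Agent.Lib.Helper94_Herm Cfsg.Agent.Lib.Helper13_PSUSimple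
  Cfsg.Agent.Lib.Helper67_Tens2Defs

variable {F W : Type*} [Field F] [AddCommGroup W] [Module F W] {σ : F →+* F}

/-- the hermitian form on `W × W` -/
def uf (β : W →ₗ[F] W →ₛₗ[σ] F) : (W × W) →ₗ[F] (W × W) →ₛₗ[σ] F :=
  LinearMap.mk₂'ₛₗ (RingHom.id F) σ (fun x y => β x.1 y.2 + β x.2 y.1)
    (by intro x x' y; simp only [Prod.fst_add, Prod.snd_add, map_add, LinearMap.add_apply]; ring)
    (by intro c x y; simp only [Prod.smul_fst, Prod.smul_snd, map_smul, LinearMap.smul_apply,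
          smul_eq_mul, RingHom.id_apply]; ring)
    (by intro x y y'; simp only [Prod.fst_add, Prod.snd_add, map_add]; ring)
    (by intro c x y; simp only [Prod.smul_fst, Prod.smul_snd, map_smulₛₗ, smul_eq_mul]; ring)

@[simp] theorem uf_apply (β : W →ₗ[F] W →ₛₗ[σ] F) (x y : W × W) :
    uf β x y = β x.1 y.2 + β x.2 y.1 := rfl

theorem uf_isHerm {β : W →ₗ[F] W →ₛₗ[σ] F} (hβ : IsHerm β) : IsHerm (uf β) := by
  intro x y
  rw [uf_apply, uf_apply, map_add, ← hβ, ← hβ, add_comm]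

theorem uf_nondeg {β : W →ₗ[F] W →ₛₗ[σ] F} (hN : NondegOn β ⊤) : NondegOn (uf β) ⊤ := by
  intro x _ hx
  by_cases h1 : x.1 = 0
  · have h2 : x.2 ≠ 0 := fun h => hx (Prod.ext h1 h)
    obtain ⟨y, -, hy⟩ := hN x.2 trivial h2
    refine ⟨(y, 0), trivial, ?_⟩
    simpa [h1] using hy
  · obtain ⟨y, -, hy⟩ := hN x.1 trivial h1
    refine ⟨(0, y), trivial, ?_⟩
    simpa using hy

/-- `(u,u') ↦ (s u', -s⁻¹ u)` -/
def jU (s : Fˣ) : (W × W) ≃ₗ[F] (W × W) where
  toFun x := ((s : F) • x.2, -(((s⁻¹ : Fˣ) : F) • x.1))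
  map_add' x y := by
    ext <;> simp only [Prod.fst_add, Prod.snd_add, smul_add, neg_add]
  map_smul' c x := by
    ext <;> simp only [Prod.smul_fst, Prod.smul_snd, RingHom.id_apply, smul_neg, smul_comm c]
  invFun x := (-((s : F) • x.2), ((s⁻¹ : Fˣ) : F) • x.1)
  left_inv x := by
    ext <;> simp [smul_smul]
  right_inv x := by
    ext <;> simp [smul_smul]

@[simp] theorem jU_apply (s : Fˣ) (x : W × W) :
    jU s x = ((s : F) • x.2, -(((s⁻¹ : Fˣ) : F) • x.1)) := rfl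

/-- the rank one map `v ↦ β v ε • ε` -/
def rk1h (β : W →ₗ[F] W →ₛₗ[σ] F) (ε : W) : W →ₗ[F] W := (β.flip ε).smulRight ε

@[simp] theorem rk1h_apply (β : W →ₗ[F] W →ₛₗ[σ] F) (ε v : W) : rk1h β ε v = β v ε • ε := by
  simp [rk1h]

/-- the map `v ↦ β v w • y + β v y • w` -/
def twh (β : W →ₗ[F] W →ₛₗ[σ] F) (y w : W) : W →ₗ[F] W :=
  (β.flip w).smulRight y + (β.flip y).smulRight w

@[simp] theorem twh_apply (β : W →ₗ[F] W →ₛₗ[σ] F) (y w v : W) :
    twh β y w v = β v w • y + β v y • w := by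
  simp [twh]

/-- `M` is a subgroup of `SU(W × W)` containing the generators of `SU_2 ⊗ 1` and `1 ⊗ SU(β)` -/
structure HypU (β : W →ₗ[F] W →ₛₗ[σ] F) (M : Subgroup ((W × W) ≃ₗ[F] (W × W))) : Prop where
  le : M ≤ SUg (uf β)
  ux_mem : ∀ c : F, σ c = -c → ux (c • (LinearMap.id : W →ₗ[F] W)) ∈ M
  lx_mem : ∀ c : F, σ c = -c → lx (c • (LinearMap.id : W →ₗ[F] W)) ∈ M
  hE_mem : ∀ a : Fˣ, σ (a : F) = a → hE a ∈ M
  jU_mem : ∀ s : Fˣ, σ (s : F) = -s → jU s ∈ M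
  oE_mem : ∀ Q : W ≃ₗ[F] W, Q ∈ SUg β → oE Q ∈ M

/-- every `ux S ∈ M` has `S` scalar -/
def RadStdU (M : Subgroup ((W × W) ≃ₗ[F] (W × W))) : Prop :=
  ∀ S : W →ₗ[F] W, ux S ∈ M → ∃ c : F, S = c • (LinearMap.id : W →ₗ[F] W)

/-! ### basic facts -/

theorem ux_mem_uG {β : W →ₗ[F] W →ₛₗ[σ] F} (S : W →ₗ[F] W)
    (hS : ∀ u v, β (S u) v + β u (S v) = 0) : ux S ∈ uG (uf β) := by
  intro x y
  simp only [ux_apply, uf_apply, map_add, LinearMap.add_apply]
  linear_combination hS x.2 y.2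

theorem skew_of_ux_mem {β : W →ₗ[F] W →ₛₗ[σ] F} (S : W →ₗ[F] W) (h : ux S ∈ uG (uf β)) :
    ∀ u v, β (S u) v + β u (S v) = 0 := by
  intro u v
  have := h (0, u) (0, v)
  simpa using this

theorem lx_mem_uG {β : W →ₗ[F] W →ₛₗ[σ] F} (S : W →ₗ[F] W)
    (hS : ∀ u v, β (S u) v + β u (S v) = 0) : lx S ∈ uG (uf β) := by
  intro x y
  simp only [lx_apply, uf_apply, map_add, LinearMap.add_apply]
  linear_combination hS x.1 y.1

theorem oE_mem_uG {β : W →ₗ[F] W →ₛₗ[σ] F} (Q : W ≃ₗ[F] W) (hQ : Q ∈ uG β) :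
    oE Q ∈ uG (uf β) := by
  intro x y
  simp only [oE_apply, uf_apply]
  rw [hQ, hQ]

/-- `ux (c • rk1h β ε)` is the unitary transvection with centre `(ε, 0)` -/
theorem ux_rk1h (β : W →ₗ[F] W →ₛₗ[σ] F) (ε : W) (c : F) :
    ux (c • rk1h β ε) = utv (uf β) (ε, 0) c := by
  apply LinearEquiv.ext
  intro x
  rw [utv_apply (uf β) (by simp)]
  simp only [ux_apply, uf_apply, LinearMap.smul_apply, rk1h_apply, map_zero, zero_add,
    Prod.smul_mk, smul_zero, smul_smul]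
  ext <;> simp

/-- `lx (c • rk1h β ε)` is the unitary transvection with centre `(0, ε)` -/
theorem lx_rk1h (β : W →ₗ[F] W →ₛₗ[σ] F) (ε : W) (c : F) :
    lx (c • rk1h β ε) = utv (uf β) (0, ε) c := by
  apply LinearEquiv.ext
  intro x
  rw [utv_apply (uf β) (by simp)]
  simp only [lx_apply, uf_apply, LinearMap.smul_apply, rk1h_apply, map_zero, add_zero,
    Prod.smul_mk, smul_zero, smul_smul]
  ext <;> simp

end Cfsg.Agent.Lib.Helper67_UT2Defs
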