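import Mathlib

set_option autoImplicit false

/-!
# S5886 (maximality of the normaliser of an extension field of prime degree): shared definitions

Abstract setting: `F ⊆ K` finite fields, `V` a `K`-vector space regarded as an `F`-space,
`M` a subgroup of `GL_F(V) = (V ≃ₗ[F] V)`.

* `HasMap M φ` : some element of `M` acts as the function `φ`.
* `IsSemilin F K V g` : the `F`-linear automorphism `g` is `K`-semilinear.
* `kline F K v` : the `K`-line `K v` as an `F`-subspace.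
* `KtvHyp`, `KdilHyp` : `M` contains all `K`-transvections / all `K`-dilations of norm one.
* `Config` : the configuration produced by the maximal-intersection argument.
* `cSet`, `bSet` : square-zero elements of `M` with image in and kernel containing `t'`,
  and their ring of left multipliers.
-/

namespace Cfsg.Agent.Lib.Helper98_ExtDefs

variable (F : Type*) (K : Type*) (V : Type*) [Field F] [Field K] [Algebra F K]
  [AddCommGroup V] [Module F V] [Module K V] [IsScalarTower F K V]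

/-- some element of `M` acts on `V` as the function `φ` -/
def HasMap {F : Type*} {V : Type*} [Field F] [AddCommGroup V] [Module F V]
    (M : Subgroup (V ≃ₗ[F] V)) (φ : V → V) : Prop := ∃ g ∈ M, ∀ x, g x = φ x

/-- the `F`-linear automorphism `g` of `V` is `K`-semilinear -/
def IsSemilin (g : V ≃ₗ[F] V) : Prop := ∃ σ : K ≃+* K, ∀ (k : K) (v : V), g (k • v) = σ k • g v

/-- the `K`-line through `v`, as an `F`-subspace of `V` -/
def kline (v : V) : Submodule F V := (Submodule.span K {v}).restrictScalars F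

/-- `M` contains all `K`-transvections `x ↦ x + χ(x) w`, `χ(w) = 0` -/
def KtvHyp (M : Subgroup (V ≃ₗ[F] V)) : Prop :=
  ∀ (χ : V →ₗ[K] K) (w : V), χ w = 0 → HasMap M (fun x => x + χ x • w)

/-- `M` contains all `K`-dilations `x ↦ x + (κ - 1) χ(x) w`, `χ(w) = 1`, with `N_{K/F}(κ) = 1` -/
def KdilHyp (M : Subgroup (V ≃ₗ[F] V)) : Prop :=
  ∀ (χ : V →ₗ[K] K) (w : V) (κ : K), χ w = 1 → Algebra.norm F κ = 1 →
    HasMap M (fun x => x + ((κ - 1) * χ x) • w)

/-- `M` contains all `K`-semilinear automorphisms -/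
def SemiHyp (M : Subgroup (V ≃ₗ[F] V)) : Prop :=
  ∀ g : V ≃ₗ[F] V, IsSemilin F K V g → g ∈ M

/-- `M` contains a nontrivial `F`-transvection -/
def HasTv {F : Type*} {V : Type*} [Field F] [AddCommGroup V] [Module F V]
    (M : Subgroup (V ≃ₗ[F] V)) : Prop :=
  ∃ (f : V →ₗ[F] F) (v : V), f ≠ 0 ∧ v ≠ 0 ∧ f v = 0 ∧ HasMap M (fun x => x + f x • v)

/-- `M` contains all `F`-transvections -/
def AllTv {F : Type*} {V : Type*} [Field F] [AddCommGroup V] [Module F V]
    (M : Subgroup (V ≃ₗ[F] V)) : Prop :=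
  ∀ (f : V →ₗ[F] F) (v : V), f v = 0 → HasMap M (fun x => x + f x • v)

/-- the image `t' = y (K v₁)` -/
def tsp (y : V ≃ₗ[F] V) (v₁ : V) : Submodule F V := (kline F K V v₁).map y.toLinearMap

/-- The configuration produced by the maximal-intersection argument: `t' = y (K v₁)` with `y ∈ M`
contains `δ ≠ 0` and `u₀ ∉ K δ`, and `t' ⊆ K δ + F u₀`. -/
structure Config (M : Subgroup (V ≃ₗ[F] V)) (y : V ≃ₗ[F] V) (v₁ δ u₀ : V) : Prop where
  hy : y ∈ M
  hv₁ : v₁ ≠ 0
  hδ : δ ≠ 0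
  hδt : δ ∈ tsp F K V y v₁
  hu₀t : u₀ ∈ tsp F K V y v₁
  hu₀ : u₀ ∉ kline F K V δ
  hle : tsp F K V y v₁ ≤ kline F K V δ ⊔ Submodule.span F {u₀}

/-- the `F`-endomorphisms `c` of `V` with image in `t'`, vanishing on `t'`, such that `1 + c ∈ M` -/
def cSet {F : Type*} {V : Type*} [Field F] [AddCommGroup V] [Module F V]
    (M : Subgroup (V ≃ₗ[F] V)) (t : Submodule F V) : Set (V →ₗ[F] V) :=
  {c | (∀ x, c x ∈ t) ∧ (∀ x ∈ t, c x = 0) ∧ HasMap M (fun x => x + c x)}

/-- the `F`-endomorphisms `b` of `V` preserving `t'` with `b ∘ c ∈ cSet` for all `c ∈ cSet` -/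
def bSet {F : Type*} {V : Type*} [Field F] [AddCommGroup V] [Module F V]
    (M : Subgroup (V ≃ₗ[F] V)) (t : Submodule F V) : Set (V →ₗ[F] V) :=
  {b | (∀ x ∈ t, b x ∈ t) ∧ ∀ c ∈ cSet M t, b ∘ₗ c ∈ cSet M t}

/-- the `F`-endomorphism `y ∘ (k • ·) ∘ y⁻¹`: the action of `k ∈ K` for the conjugate `K`-structure -/
def kconj (y : V ≃ₗ[F] V) (k : K) : V →ₗ[F] V :=
  y.toLinearMap ∘ₗ (((LinearMap.lsmul K V k).restrictScalars F) ∘ₗ y.symm.toLinearMap)

/-- the `F`-endomorphism `x ↦ y (χ (y⁻¹ x) • v₁)`: a conjugate of a `K`-transvection direction -/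
def cmap (y : V ≃ₗ[F] V) (χ : V →ₗ[K] K) (v₁ : V) : V →ₗ[F] V :=
  y.toLinearMap ∘ₗ (((LinearMap.toSpanSingleton K V v₁ ∘ₗ χ).restrictScalars F) ∘ₗ y.symm.toLinearMap)

variable {F K V}

theorem kconj_apply (y : V ≃ₗ[F] V) (k : K) (x : V) : kconj F K V y k x = y (k • y.symm x) := rfl

theorem cmap_apply (y : V ≃ₗ[F] V) (χ : V →ₗ[K] K) (v₁ : V) (x : V) :
    cmap F K V y χ v₁ x = y (χ (y.symm x) • v₁) := rfl

theorem mem_kline {v x : V} : x ∈ kline F K V v ↔ ∃ k : K, k • v = x := by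
  unfold kline
  rw [Submodule.restrictScalars_mem, Submodule.mem_span_singleton]

theorem mem_tsp {y : V ≃ₗ[F] V} {v₁ x : V} : x ∈ tsp F K V y v₁ ↔ ∃ k : K, y (k • v₁) = x := by
  unfold tsp
  rw [Submodule.mem_map]
  constructor
  · rintro ⟨z, hz, rfl⟩
    obtain ⟨k, rfl⟩ := mem_kline.mp hz
    exact ⟨k, rfl⟩
  · rintro ⟨k, rfl⟩
    exact ⟨k • v₁, mem_kline.mpr ⟨k, rfl⟩, rfl⟩

end Cfsg.Agent.Lib.Helper98_ExtDefs
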