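import Mathlib
import Cfsg.Agent.Lib.Helper98_ExtDefs

set_option autoImplicit false
set_option linter.unusedSectionVars false

/-!
# S5637 (maximality of the stabiliser of a tensor decomposition in `SL_n(F)`): shared definitions

Abstract setting: `V = Matrix ι κ F` (the space `A ⊗ B`, `A = F^ι`, `B = F^κ`; the pure tensor
`x ⊗ y` is `vecMulVec x y`), `M` a subgroup of `GL_F(V) = (V ≃ₗ[F] V)`.

* `HasMap`, `HasTv`, `AllTv` are those of `Helper98_ExtDefs`.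
* `IsKron g` : `g` acts as `X ↦ P * X * Qᵀ` (an element of `GL(A) ⊗ GL(B)`).
* `KronHyp M` : `M` contains all `X ↦ P * X * Qᵀ` of determinant one.
* `fiber y` : the `A`-fibre `A ⊗ y = {vecMulVec x y}`.
* `nB y β` : the nilpotent map `X ↦ vecMulVec (X *ᵥ β) y` (root element `1 ⊗ (1 + y βᵀ)`, minus one).
* `nT T y γ` : the map `X ↦ vecMulVec (T *ᵥ (X *ᵥ γ)) y` (element `T ⊗ (y γᵀ)` of the radical of the
  stabiliser of `fiber y`).
* `FibOrb M` : the `M`-orbit of the fibres.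
-/

namespace Cfsg.Agent.Lib.Helper97_TensDefs

open Matrix
open Cfsg.Agent.Lib.Helper98_ExtDefs

variable {F : Type*} [Field F] {ι κ : Type*} [Fintype ι] [Fintype κ]

/-- `g` acts as a Kronecker product `X ↦ P * X * Qᵀ` -/
def IsKron (g : Matrix ι κ F ≃ₗ[F] Matrix ι κ F) : Prop :=
  ∃ (P : Matrix ι ι F) (Q : Matrix κ κ F), ∀ X, g X = P * X * Qᵀ

/-- `M` contains every Kronecker map `X ↦ P * X * Qᵀ` of determinant one -/
def KronHyp [DecidableEq ι] [DecidableEq κ] (M : Subgroup (Matrix ι κ F ≃ₗ[F] Matrix ι κ F)) : Prop :=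
  ∀ (P : Matrix ι ι F) (Q : Matrix κ κ F),
    P.det ^ Fintype.card κ * Q.det ^ Fintype.card ι = 1 → HasMap M (fun X => P * X * Qᵀ)

/-- the `A`-fibre `A ⊗ y` -/
def fiber (y : κ → F) : Submodule F (Matrix ι κ F) where
  carrier := {X | ∃ x : ι → F, X = vecMulVec x y}
  add_mem' := by
    rintro _ _ ⟨x, rfl⟩ ⟨x', rfl⟩
    exact ⟨x + x', (add_vecMulVec x x' y).symm⟩
  zero_mem' := ⟨0, (zero_vecMulVec y).symm⟩
  smul_mem' := by
    rintro c _ ⟨x, rfl⟩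
    exact ⟨c • x, (smul_vecMulVec c x y).symm⟩

theorem mem_fiber {y : κ → F} {X : Matrix ι κ F} :
    X ∈ fiber (ι := ι) y ↔ ∃ x : ι → F, X = vecMulVec x y := Iff.rfl

/-- `t` is a fibre `A ⊗ y`, `y ≠ 0` -/
def IsFiber (t : Submodule F (Matrix ι κ F)) : Prop := ∃ y : κ → F, y ≠ 0 ∧ t = fiber y

/-- the `M`-orbit of the fibres -/
def FibOrb (M : Subgroup (Matrix ι κ F ≃ₗ[F] Matrix ι κ F)) : Set (Submodule F (Matrix ι κ F)) :=
  {t | ∃ g ∈ M, ∃ y : κ → F, y ≠ 0 ∧ t = (fiber y).map g.toLinearMap}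

/-- `X ↦ vecMulVec (X *ᵥ β) y` -/
def nB (y β : κ → F) : Matrix ι κ F →ₗ[F] Matrix ι κ F where
  toFun X := vecMulVec (X *ᵥ β) y
  map_add' X Y := by rw [add_mulVec, add_vecMulVec]
  map_smul' c X := by rw [smul_mulVec, smul_vecMulVec, RingHom.id_apply]

theorem nB_apply (y β : κ → F) (X : Matrix ι κ F) : nB y β X = vecMulVec (X *ᵥ β) y := rfl

/-- `X ↦ vecMulVec (T *ᵥ (X *ᵥ γ)) y` -/
def nT (T : Matrix ι ι F) (y γ : κ → F) : Matrix ι κ F →ₗ[F] Matrix ι κ F where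
  toFun X := vecMulVec (T *ᵥ (X *ᵥ γ)) y
  map_add' X Y := by rw [add_mulVec, mulVec_add, add_vecMulVec]
  map_smul' c X := by rw [smul_mulVec, mulVec_smul, smul_vecMulVec, RingHom.id_apply]

theorem nT_apply (T : Matrix ι ι F) (y γ : κ → F) (X : Matrix ι κ F) :
    nT T y γ X = vecMulVec (T *ᵥ (X *ᵥ γ)) y := rfl

/-- `N` has image in `fiber y` and kills `fiber y` -/
def InRad (y : κ → F) (N : Matrix ι κ F →ₗ[F] Matrix ι κ F) : Prop :=
  (∀ X, N X ∈ fiber y) ∧ ∀ X ∈ fiber (ι := ι) y, N X = 0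

/-- every element `1 + N` of `M` in the radical of the stabiliser of `fiber y` is a standard root
element `1 ⊗ (1 + y βᵀ)` -/
def RadStd (M : Subgroup (Matrix ι κ F ≃ₗ[F] Matrix ι κ F)) (y : κ → F) : Prop :=
  ∀ N : Matrix ι κ F →ₗ[F] Matrix ι κ F, InRad y N → HasMap M (fun X => X + N X) →
    ∃ β : κ → F, β ⬝ᵥ y = 0 ∧ N = nB y β

end Cfsg.Agent.Lib.Helper97_TensDefs
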