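import Mathlib
import Cfsg.Agent.Lib.Helper97_TensDefs
import Cfsg.Agent.Lib.Helper94_Herm
import Cfsg.Agent.Lib.Helper94_HermEich
import Cfsg.Agent.Lib.Helper13_PSUSimple
import Cfsg.Agent.Lib.Helper67_UT2Defs

set_option autoImplicit false
set_option linter.unusedSectionVars false
set_option linter.unusedVariables false

/-!
# UTENS (`GU_a ⊗ GU_b` maximal in `SU_{ab}`, `3 ≤ a < b`, all `q`): shared definitions (helper37)

Model: `A = ι → F`, `B = κ → F` with hermitian forms `α`, `β`; `V = Matrix ι κ F`, pure tensor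
`x ⊗ y = vecMulVec x y` (as in S5637, `Helper97_TensDefs`: `IsKron`, `fiber y = A ⊗ y`).

* `tf α β` : the tensor product form on `V` (`tf_pure`).
* `tm P Q` : the Kronecker map `P ⊗ Q` (`tm_pure`), `tmE P Q` the same for linear equivalences.
* `ctrB β y : V → A` (`a ⊗ b ↦ β b y • a`), `ctrA α x : V → B` (`a ⊗ b ↦ α a x • b`).
* `fibB x = x ⊗ B`; `nII α x = P_x ⊗ 1`, `nI β y = 1 ⊗ P_y` (`rk1h` of `Helper67_UT2Defs`).
* `UTCtx α β M` : the standing hypotheses (`N ≤ M ≤ SU(V)`).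
* `RadStdII`, `RadStdI` : the centres of the radicals of the stabilisers of the totally isotropic
  fibres meet `M` in the standard root groups only.
-/

namespace Cfsg.Agent.Lib.Helper37_UTDefs

open Matrix Module
open Cfsg.Agent.Lib.Helper98_ExtDefs Cfsg.Agent.Lib.Helper97_TensDefs
open Cfsg.Agent.Lib.Helper94_Herm Cfsg.Agent.Lib.Helper13_PSUSimple
open Cfsg.Agent.Lib.Helper67_UT2Defs

variable {F : Type*} [Field F] {ι κ : Type*} [Fintype ι] [Fintype κ] [DecidableEq ι]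
  [DecidableEq κ] {σ : F →+* F}

/-- column `j` of `X`, a vector of `A` -/
def colv (X : Matrix ι κ F) (j : κ) : ι → F := fun i => X i j

theorem colv_add (X Y : Matrix ι κ F) (j : κ) : colv (X + Y) j = colv X j + colv Y j := rfl

theorem colv_smul (c : F) (X : Matrix ι κ F) (j : κ) : colv (c • X) j = c • colv X j := rfl

theorem colv_vecMulVec (x : ι → F) (y : κ → F) (j : κ) : colv (vecMulVec x y) j = y j • x := by
  ext i
  simp [colv, vecMulVec_apply, mul_comm]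

/-- the tensor product `α ⊗ β` of two sesquilinear forms, a sesquilinear form on `A ⊗ B` -/
noncomputable def tf (α : (ι → F) →ₗ[F] (ι → F) →ₛₗ[σ] F) (β : (κ → F) →ₗ[F] (κ → F) →ₛₗ[σ] F) :
    Matrix ι κ F →ₗ[F] Matrix ι κ F →ₛₗ[σ] F :=
  LinearMap.mk₂'ₛₗ (RingHom.id F) σ
    (fun X Y => ∑ j, ∑ l, α (colv X j) (colv Y l) * β (Pi.single j 1) (Pi.single l 1))
    (by
      intro X X' Y
      simp only [colv_add, map_add, LinearMap.add_apply, add_mul, Finset.sum_add_distrib])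
    (by
      intro c X Y
      simp only [colv_smul, map_smul, LinearMap.smul_apply, smul_eq_mul, RingHom.id_apply,
        Finset.mul_sum, mul_assoc])
    (by
      intro X Y Y'
      simp only [colv_add, map_add, add_mul, Finset.sum_add_distrib])
    (by
      intro c X Y
      simp only [colv_smul, map_smulₛₗ, smul_eq_mul, Finset.mul_sum, mul_assoc])

theorem tf_apply (α : (ι → F) →ₗ[F] (ι → F) →ₛₗ[σ] F) (β : (κ → F) →ₗ[F] (κ → F) →ₛₗ[σ] F)
    (X Y : Matrix ι κ F) :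
    tf α β X Y = ∑ j, ∑ l, α (colv X j) (colv Y l) * β (Pi.single j 1) (Pi.single l 1) := rfl

/-- the Kronecker map `P ⊗ Q : X ↦ [P] X [Q]ᵀ` -/
noncomputable def tm (P : (ι → F) →ₗ[F] (ι → F)) (Q : (κ → F) →ₗ[F] (κ → F)) :
    Matrix ι κ F →ₗ[F] Matrix ι κ F where
  toFun X := LinearMap.toMatrix' P * X * (LinearMap.toMatrix' Q)ᵀ
  map_add' X Y := by rw [Matrix.mul_add, Matrix.add_mul]
  map_smul' c X := by rw [Matrix.mul_smul, Matrix.smul_mul, RingHom.id_apply]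

theorem tm_apply (P : (ι → F) →ₗ[F] (ι → F)) (Q : (κ → F) →ₗ[F] (κ → F)) (X : Matrix ι κ F) :
    tm P Q X = LinearMap.toMatrix' P * X * (LinearMap.toMatrix' Q)ᵀ := rfl

theorem tm_pure (P : (ι → F) →ₗ[F] (ι → F)) (Q : (κ → F) →ₗ[F] (κ → F)) (x : ι → F)
    (y : κ → F) : tm P Q (vecMulVec x y) = vecMulVec (P x) (Q y) := by
  rw [tm_apply, Matrix.mul_vecMulVec, Matrix.vecMulVec_mul, Matrix.vecMul_transpose,
    LinearMap.toMatrix'_mulVec, LinearMap.toMatrix'_mulVec]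

theorem tm_comp (P P' : (ι → F) →ₗ[F] (ι → F)) (Q Q' : (κ → F) →ₗ[F] (κ → F)) :
    tm P Q ∘ₗ tm P' Q' = tm (P ∘ₗ P') (Q ∘ₗ Q') := by
  ext1 X
  simp only [LinearMap.comp_apply, tm_apply, LinearMap.toMatrix'_comp, Matrix.transpose_mul,
    Matrix.mul_assoc]

theorem tm_id : tm (LinearMap.id : (ι → F) →ₗ[F] (ι → F)) (LinearMap.id : (κ → F) →ₗ[F] (κ → F))
    = LinearMap.id := by
  ext1 X
  simp [tm_apply]

/-- the Kronecker map `P ⊗ Q` of two linear equivalences, as a linear equivalence -/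
noncomputable def tmE (P : (ι → F) ≃ₗ[F] (ι → F)) (Q : (κ → F) ≃ₗ[F] (κ → F)) :
    Matrix ι κ F ≃ₗ[F] Matrix ι κ F :=
  LinearEquiv.ofLinearMap (tm P.toLinearMap Q.toLinearMap)
    (tm P.symm.toLinearMap Q.symm.toLinearMap)
    (by rw [tm_comp]; simp [tm_id])
    (by rw [tm_comp]; simp [tm_id])

theorem tmE_apply (P : (ι → F) ≃ₗ[F] (ι → F)) (Q : (κ → F) ≃ₗ[F] (κ → F)) (X : Matrix ι κ F) :
    tmE P Q X = tm P.toLinearMap Q.toLinearMap X := rfl

theorem tmE_pure (P : (ι → F) ≃ₗ[F] (ι → F)) (Q : (κ → F) ≃ₗ[F] (κ → F)) (x : ι → F)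
    (y : κ → F) : tmE P Q (vecMulVec x y) = vecMulVec (P x) (Q y) := by
  rw [tmE_apply, tm_pure]; rfl

theorem isKron_tmE (P : (ι → F) ≃ₗ[F] (ι → F)) (Q : (κ → F) ≃ₗ[F] (κ → F)) :
    IsKron (tmE P Q) :=
  ⟨LinearMap.toMatrix' P.toLinearMap, LinearMap.toMatrix' Q.toLinearMap, fun _ => rfl⟩

/-- the contraction `A ⊗ B → A`, `a ⊗ b ↦ β b y • a` -/
noncomputable def ctrB (β : (κ → F) →ₗ[F] (κ → F) →ₛₗ[σ] F) (y : κ → F) :
    Matrix ι κ F →ₗ[F] (ι → F) where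
  toFun X := fun i => β (X i) y
  map_add' X Y := by
    ext i
    have : (X + Y) i = X i + Y i := rfl
    simp [this]
  map_smul' c X := by
    ext i
    have : (c • X) i = c • X i := rfl
    simp [this]

theorem ctrB_apply (β : (κ → F) →ₗ[F] (κ → F) →ₛₗ[σ] F) (y : κ → F) (X : Matrix ι κ F) (i : ι) :
    ctrB β y X i = β (X i) y := rfl

/-- the contraction `A ⊗ B → B`, `a ⊗ b ↦ α a x • b` -/
noncomputable def ctrA (α : (ι → F) →ₗ[F] (ι → F) →ₛₗ[σ] F) (x : ι → F) :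
    Matrix ι κ F →ₗ[F] (κ → F) where
  toFun X := fun j => α (colv X j) x
  map_add' X Y := by
    ext j
    simp [colv_add]
  map_smul' c X := by
    ext j
    simp [colv_smul]

theorem ctrA_apply (α : (ι → F) →ₗ[F] (ι → F) →ₛₗ[σ] F) (x : ι → F) (X : Matrix ι κ F) (j : κ) :
    ctrA α x X j = α (colv X j) x := rfl

/-- the fibre `x ⊗ B` -/
def fibB (x : ι → F) : Submodule F (Matrix ι κ F) where
  carrier := {X | ∃ w : κ → F, X = vecMulVec x w}
  add_mem' := by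
    rintro _ _ ⟨w, rfl⟩ ⟨w', rfl⟩
    exact ⟨w + w', (vecMulVec_add x w w').symm⟩
  zero_mem' := ⟨0, by ext i j; simp [vecMulVec_apply]⟩
  smul_mem' := by
    rintro c _ ⟨w, rfl⟩
    exact ⟨c • w, by ext i j; simp [vecMulVec_apply, mul_left_comm]⟩

theorem mem_fibB {x : ι → F} {X : Matrix ι κ F} :
    X ∈ fibB (κ := κ) x ↔ ∃ w : κ → F, X = vecMulVec x w := Iff.rfl

/-- `P_x ⊗ 1` (type II root operator) -/
noncomputable def nII (α : (ι → F) →ₗ[F] (ι → F) →ₛₗ[σ] F) (x : ι → F) :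
    Matrix ι κ F →ₗ[F] Matrix ι κ F := tm (rk1h α x) LinearMap.id

/-- `1 ⊗ P_y` (type I root operator) -/
noncomputable def nI (β : (κ → F) →ₗ[F] (κ → F) →ₛₗ[σ] F) (y : κ → F) :
    Matrix ι κ F →ₗ[F] Matrix ι κ F := tm LinearMap.id (rk1h β y)

/-- the standing hypotheses: `α`, `β` hermitian nondegenerate, `3 ≤ a < b`, and
`N ≤ M ≤ SU(V)` where `N` is the set of Kronecker elements of `SU(V)` -/
structure UTCtx (α : (ι → F) →ₗ[F] (ι → F) →ₛₗ[σ] F) (β : (κ → F) →ₗ[F] (κ → F) →ₛₗ[σ] F)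
    (M : Subgroup (Matrix ι κ F ≃ₗ[F] Matrix ι κ F)) : Prop where
  hσ : Invol σ
  hα : IsHerm α
  hαN : NondegOn α ⊤
  hβ : IsHerm β
  hβN : NondegOn β ⊤
  ha : 3 ≤ Fintype.card ι
  hab : Fintype.card ι < Fintype.card κ
  hM : M ≤ SUg (tf α β)
  hN : ∀ g ∈ SUg (tf α β), IsKron g → g ∈ M

/-- `M ∩ Z(x ⊗ B)` is the standard root group, for every isotropic `x` -/
def RadStdII (α : (ι → F) →ₗ[F] (ι → F) →ₛₗ[σ] F)
    (M : Subgroup (Matrix ι κ F ≃ₗ[F] Matrix ι κ F)) : Prop :=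
  ∀ x : ι → F, x ≠ 0 → α x x = 0 → ∀ S : (κ → F) →ₗ[F] (κ → F),
    HasMap M (fun X => X + tm (rk1h α x) S X) → ∃ s : F, S = s • LinearMap.id

/-- `M ∩ Z(A ⊗ y)` is the standard root group, for every isotropic `y` -/
def RadStdI (β : (κ → F) →ₗ[F] (κ → F) →ₛₗ[σ] F)
    (M : Subgroup (Matrix ι κ F ≃ₗ[F] Matrix ι κ F)) : Prop :=
  ∀ y : κ → F, y ≠ 0 → β y y = 0 → ∀ T : (ι → F) →ₗ[F] (ι → F),
    HasMap M (fun X => X + tm T (rk1h β y) X) → ∃ s : F, T = s • LinearMap.id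

end Cfsg.Agent.Lib.Helper37_UTDefs
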