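import Mathlib
import Cfsg.Agent.Lib.Helper37_UTDefs

set_option autoImplicit false
set_option linter.unusedSectionVars false
set_option linter.unusedVariables false

/-!
# UTENS (`3 ≤ a < b`), PART II (both `RadStd` hold ⇒ every element of `M` is Kronecker):
# shared definitions (helper37)

Paper proof: `pending/helper37/UTENS_proof.md` §3–§6 (and `pending/helper37/UTENS_part2.md`).

Abstract part (`V` any space with a hermitian form `f`):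
* `orthS f ℓ` : the orthogonal complement `{v | ∀ w ∈ ℓ, f v w = 0}`.
* `IsRootOp f ℓ N` : `N` is self-adjoint with image `ℓ` and kernel `ℓ^⊥`, `ℓ` totally isotropic.
* `RootLine f M ℓ N` : moreover `M ∩ Z(ℓ) = {1 + s N | σ s = -s}`.
* `PairGeo`, `PairGeoU` : the structure of a maximal pair (`§4 G4` of the paper proof).
* `Gam σ N N'` : the group generated by the two root groups.

Matrix model (`V = Matrix ι κ F`, base isotropic vector `x`):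
* `UTBase α β M` : the standing hypotheses without the dimension hypotheses.
* `Lg x g = g (x ⊗ B)`, `Ng α x g = g N_x g⁻¹`, `rtE α x g s = g (t_x(s) ⊗ 1) g⁻¹`.
* `InQ α x h` : `h` is trivial on `x ⊗ B` and on `(x ⊗ B)^⊥ / (x ⊗ B)`.
* `StabII α M`, `StabI β M` : the elements of `M` mapping a totally isotropic fibre onto a fibre
  are Kronecker.
* `MaxD x M d` : `d` bounds the dimension of the intersection of two distinct lines `Lg x g`.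
* `subB x t = {w | x ⊗ w ∈ t}`.
-/

namespace Cfsg.Agent.Lib.Helper37_UTPairDefs

open Matrix Module
open Cfsg.Agent.Lib.Helper98_ExtDefs Cfsg.Agent.Lib.Helper97_TensDefs
open Cfsg.Agent.Lib.Helper94_Herm Cfsg.Agent.Lib.Helper13_PSUSimple
open Cfsg.Agent.Lib.Helper67_UT2Defs Cfsg.Agent.Lib.Helper37_UTDefs

section Abstract

variable {F : Type*} [Field F] {V : Type*} [AddCommGroup V] [Module F V] {σ : F →+* F}

/-- the orthogonal complement `{v | ∀ w ∈ ℓ, f v w = 0}` -/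
def orthS (f : V →ₗ[F] V →ₛₗ[σ] F) (ℓ : Submodule F V) : Submodule F V where
  carrier := {v | ∀ w ∈ ℓ, f v w = 0}
  add_mem' := by
    intro u v hu hv w hw
    rw [map_add, LinearMap.add_apply, hu w hw, hv w hw, add_zero]
  zero_mem' := by
    intro w _
    rw [map_zero, LinearMap.zero_apply]
  smul_mem' := by
    intro c v hv w hw
    rw [map_smul, LinearMap.smul_apply, hv w hw, smul_zero]

theorem mem_orthS {f : V →ₗ[F] V →ₛₗ[σ] F} {ℓ : Submodule F V} {v : V} :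
    v ∈ orthS f ℓ ↔ ∀ w ∈ ℓ, f v w = 0 := Iff.rfl

/-- `N` is a root operator of the totally isotropic subspace `ℓ` -/
structure IsRootOp (f : V →ₗ[F] V →ₛₗ[σ] F) (ℓ : Submodule F V) (N : V →ₗ[F] V) : Prop where
  range_eq : LinearMap.range N = ℓ
  ker_eq : LinearMap.ker N = orthS f ℓ
  sa : ∀ u v, f (N u) v = f u (N v)
  ti : ℓ ≤ orthS f ℓ

/-- `ℓ` is a root line of `M` with root operator `N` : `M ∩ Z(ℓ) = {1 + s N | σ s = -s}` -/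
structure RootLine (f : V →ₗ[F] V →ₛₗ[σ] F) (M : Subgroup (V ≃ₗ[F] V)) (ℓ : Submodule F V)
    (N : V →ₗ[F] V) : Prop extends IsRootOp f ℓ N where
  mem : ∀ s : F, σ s = -s → ∃ g ∈ M, ∀ v, g v = v + s • N v
  std : ∀ g ∈ M, (∀ v, g v - v ∈ ℓ) → ∃ s : F, σ s = -s ∧ ∀ v, g v = v + s • N v

/-- the structure of a maximal pair, part A.  `I = ℓ ⊓ ℓ'`, `J0 = N ℓ'`, `J0' = N' ℓ`,
`W = J0 ⊔ J0'`. -/
structure PairGeo (f : V →ₗ[F] V →ₛₗ[σ] F) (ℓ ℓ' : Submodule F V) (N N' : V →ₗ[F] V) :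
    Prop where
  meet_orth : ℓ' ⊓ orthS f ℓ = ℓ ⊓ ℓ'
  meet_orth' : ℓ ⊓ orthS f ℓ' = ℓ ⊓ ℓ'
  J_disj : ℓ'.map N ⊓ (ℓ ⊓ ℓ') = ⊥
  J_sup : ℓ'.map N ⊔ (ℓ ⊓ ℓ') = ℓ
  J'_disj : ℓ.map N' ⊓ (ℓ ⊓ ℓ') = ⊥
  J'_sup : ℓ.map N' ⊔ (ℓ ⊓ ℓ') = ℓ'
  JJ_disj : ℓ'.map N ⊓ ℓ.map N' = ⊥
  N_inj : ∀ v ∈ ℓ.map N', N v = 0 → v = 0
  N'_inj : ∀ v ∈ ℓ'.map N, N' v = 0 → v = 0
  N_J' : (ℓ.map N').map N = ℓ'.map N
  N'_J : (ℓ'.map N).map N' = ℓ.map N'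
  N_J : ∀ v ∈ ℓ'.map N, N v = 0
  N'_J' : ∀ v ∈ ℓ.map N', N' v = 0
  N_I : ∀ v ∈ ℓ ⊓ ℓ', N v = 0
  N'_I : ∀ v ∈ ℓ ⊓ ℓ', N' v = 0
  nondegW : NondegOn f (ℓ'.map N ⊔ ℓ.map N')
  J_orth : orthS f (ℓ'.map N) ⊓ (ℓ'.map N ⊔ ℓ.map N') = ℓ'.map N
  J'_orth : orthS f (ℓ.map N') ⊓ (ℓ'.map N ⊔ ℓ.map N') = ℓ.map N'

/-- the structure of a maximal pair, part B.  `U0 = W^⊥ ⊓ I^⊥`. -/
structure PairGeoU (f : V →ₗ[F] V →ₛₗ[σ] F) (ℓ ℓ' : Submodule F V) (N N' : V →ₗ[F] V) :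
    Prop where
  I_le_Worth : ℓ ⊓ ℓ' ≤ orthS f (ℓ'.map N ⊔ ℓ.map N')
  N_Worth : ∀ v ∈ orthS f (ℓ'.map N ⊔ ℓ.map N'), N v ∈ ℓ ⊓ ℓ'
  N'_Worth : ∀ v ∈ orthS f (ℓ'.map N ⊔ ℓ.map N'), N' v ∈ ℓ ⊓ ℓ'
  N_U0 : ∀ v ∈ orthS f (ℓ'.map N ⊔ ℓ.map N') ⊓ orthS f (ℓ ⊓ ℓ'), N v = 0
  N'_U0 : ∀ v ∈ orthS f (ℓ'.map N ⊔ ℓ.map N') ⊓ orthS f (ℓ ⊓ ℓ'), N' v = 0
  orth_eq : orthS f ℓ = ℓ'.map N ⊔ (orthS f (ℓ'.map N ⊔ ℓ.map N') ⊓ orthS f (ℓ ⊓ ℓ'))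
  orth_eq' : orthS f ℓ' = ℓ.map N' ⊔ (orthS f (ℓ'.map N ⊔ ℓ.map N') ⊓ orthS f (ℓ ⊓ ℓ'))
  I_le_U0 : ℓ ⊓ ℓ' ≤ orthS f (ℓ'.map N ⊔ ℓ.map N') ⊓ orthS f (ℓ ⊓ ℓ')
  W_sup_Worth : (ℓ'.map N ⊔ ℓ.map N') ⊔ orthS f (ℓ'.map N ⊔ ℓ.map N') = ⊤
  W_disj_Worth : (ℓ'.map N ⊔ ℓ.map N') ⊓ orthS f (ℓ'.map N ⊔ ℓ.map N') = ⊥

/-- the group generated by the root groups `{1 + s N}`, `{1 + s N'}` (`σ s = -s`) -/
def Gam (σ : F →+* F) (N N' : V →ₗ[F] V) : Subgroup (V ≃ₗ[F] V) :=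
  Subgroup.closure {g | ∃ s : F, σ s = -s ∧
    ((∀ v, g v = v + s • N v) ∨ (∀ v, g v = v + s • N' v))}

theorem Gam_comm (σ : F →+* F) (N N' : V →ₗ[F] V) : Gam σ N N' = Gam σ N' N := by
  unfold Gam
  congr 1
  ext g
  constructor
  · rintro ⟨s, hs, h | h⟩
    · exact ⟨s, hs, Or.inr h⟩
    · exact ⟨s, hs, Or.inl h⟩
  · rintro ⟨s, hs, h | h⟩
    · exact ⟨s, hs, Or.inr h⟩
    · exact ⟨s, hs, Or.inl h⟩

end Abstract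

section Model

variable {F : Type*} [Field F] {ι κ : Type*} [Fintype ι] [Fintype κ] [DecidableEq ι]
  [DecidableEq κ] {σ : F →+* F}

/-- the standing hypotheses, without the hypotheses on the dimensions -/
structure UTBase (α : (ι → F) →ₗ[F] (ι → F) →ₛₗ[σ] F) (β : (κ → F) →ₗ[F] (κ → F) →ₛₗ[σ] F)
    (M : Subgroup (Matrix ι κ F ≃ₗ[F] Matrix ι κ F)) : Prop where
  hσ : Invol σ
  hα : IsHerm α
  hαN : NondegOn α ⊤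
  hβ : IsHerm β
  hβN : NondegOn β ⊤
  hM : M ≤ SUg (tf α β)
  hN : ∀ g ∈ SUg (tf α β), IsKron g → g ∈ M

theorem UTCtx.base {α : (ι → F) →ₗ[F] (ι → F) →ₛₗ[σ] F} {β : (κ → F) →ₗ[F] (κ → F) →ₛₗ[σ] F}
    {M : Subgroup (Matrix ι κ F ≃ₗ[F] Matrix ι κ F)} (hC : UTCtx α β M) : UTBase α β M :=
  ⟨hC.hσ, hC.hα, hC.hαN, hC.hβ, hC.hβN, hC.hM, hC.hN⟩

/-- the line `g (x ⊗ B)` -/
def Lg (x : ι → F) (g : Matrix ι κ F ≃ₗ[F] Matrix ι κ F) : Submodule F (Matrix ι κ F) :=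
  (fibB x).map g.toLinearMap

theorem mem_Lg {x : ι → F} {g : Matrix ι κ F ≃ₗ[F] Matrix ι κ F} {X : Matrix ι κ F} :
    X ∈ Lg x g ↔ ∃ w : κ → F, X = g (vecMulVec x w) := by
  unfold Lg
  rw [Submodule.mem_map]
  constructor
  · rintro ⟨Y, ⟨w, rfl⟩, rfl⟩
    exact ⟨w, rfl⟩
  · rintro ⟨w, rfl⟩
    exact ⟨vecMulVec x w, ⟨w, rfl⟩, rfl⟩

/-- the root operator `g N_x g⁻¹` of the line `Lg x g` -/
noncomputable def Ng (α : (ι → F) →ₗ[F] (ι → F) →ₛₗ[σ] F) (x : ι → F)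
    (g : Matrix ι κ F ≃ₗ[F] Matrix ι κ F) : Matrix ι κ F →ₗ[F] Matrix ι κ F :=
  g.toLinearMap ∘ₗ nII α x ∘ₗ g.symm.toLinearMap

theorem Ng_apply (α : (ι → F) →ₗ[F] (ι → F) →ₛₗ[σ] F) (x : ι → F)
    (g : Matrix ι κ F ≃ₗ[F] Matrix ι κ F) (X : Matrix ι κ F) :
    Ng α x g X = g (nII α x (g.symm X)) := rfl

theorem Lg_one (x : ι → F) : Lg (κ := κ) x 1 = fibB x := by
  unfold Lg
  exact Submodule.map_id _

theorem Ng_one (α : (ι → F) →ₗ[F] (ι → F) →ₛₗ[σ] F) (x : ι → F) :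
    Ng (κ := κ) α x 1 = nII α x := rfl

theorem Lg_mul (x : ι → F) (g h : Matrix ι κ F ≃ₗ[F] Matrix ι κ F) :
    Lg x (g * h) = (Lg x h).map g.toLinearMap := by
  unfold Lg
  rw [← Submodule.map_comp]
  rfl

/-- the root element `g (t_x(s) ⊗ 1) g⁻¹ = 1 + s N_g` -/
noncomputable def rtE (α : (ι → F) →ₗ[F] (ι → F) →ₛₗ[σ] F) (x : ι → F)
    (g : Matrix ι κ F ≃ₗ[F] Matrix ι κ F) (s : F) : Matrix ι κ F ≃ₗ[F] Matrix ι κ F :=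
  g * tmE (utv α x s) (1 : (κ → F) ≃ₗ[F] (κ → F)) * g⁻¹

/-- `h` is trivial on `x ⊗ B` and on `(x ⊗ B)^⊥ / (x ⊗ B)` -/
def InQ (α : (ι → F) →ₗ[F] (ι → F) →ₛₗ[σ] F) (x : ι → F)
    (h : Matrix ι κ F ≃ₗ[F] Matrix ι κ F) : Prop :=
  (∀ w : κ → F, h (vecMulVec x w) = vecMulVec x w) ∧
    ∀ X : Matrix ι κ F, ctrA α x X = 0 → h X - X ∈ fibB (κ := κ) x

/-- the elements of `M` mapping a totally isotropic fibre `x ⊗ B` into a fibre `x' ⊗ B`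
are Kronecker -/
def StabII (α : (ι → F) →ₗ[F] (ι → F) →ₛₗ[σ] F)
    (M : Subgroup (Matrix ι κ F ≃ₗ[F] Matrix ι κ F)) : Prop :=
  ∀ h ∈ M, ∀ x x' : ι → F, x ≠ 0 → x' ≠ 0 → α x x = 0 →
    (∀ w : κ → F, ∃ w' : κ → F, h (vecMulVec x w) = vecMulVec x' w') → IsKron h

/-- the elements of `M` mapping a totally isotropic fibre `A ⊗ y` into a fibre `A ⊗ y'`
are Kronecker -/
def StabI (β : (κ → F) →ₗ[F] (κ → F) →ₛₗ[σ] F)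
    (M : Subgroup (Matrix ι κ F ≃ₗ[F] Matrix ι κ F)) : Prop :=
  ∀ h ∈ M, ∀ y y' : κ → F, y ≠ 0 → y' ≠ 0 → β y y = 0 →
    (∀ a : ι → F, ∃ a' : ι → F, h (vecMulVec a y) = vecMulVec a' y') → IsKron h

/-- `d` bounds the dimension of the intersection of two distinct lines of the orbit -/
def MaxD (x : ι → F) (M : Subgroup (Matrix ι κ F ≃ₗ[F] Matrix ι κ F)) (d : ℕ) : Prop :=
  ∀ g₁ ∈ M, ∀ g₂ ∈ M, Lg x g₁ ≠ Lg x g₂ → finrank F ↥(Lg x g₁ ⊓ Lg x g₂) ≤ d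

/-- `g₁ ℓ_x ≠ g₂ ℓ_x` meet in dimension `d` -/
structure IsPair (x : ι → F) (M : Subgroup (Matrix ι κ F ≃ₗ[F] Matrix ι κ F)) (d : ℕ)
    (g₁ g₂ : Matrix ι κ F ≃ₗ[F] Matrix ι κ F) : Prop where
  mem₁ : g₁ ∈ M
  mem₂ : g₂ ∈ M
  ne : Lg x g₁ ≠ Lg x g₂
  dim : finrank F ↥(Lg x g₁ ⊓ Lg x g₂) = d

/-- the linear map `w ↦ x ⊗ w` -/
def vmR (x : ι → F) : (κ → F) →ₗ[F] Matrix ι κ F where
  toFun w := vecMulVec x w
  map_add' w w' := vecMulVec_add x w w'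
  map_smul' c w := vecMulVec_smul c x w

@[simp] theorem vmR_apply (x : ι → F) (w : κ → F) : vmR x w = vecMulVec x w := rfl

/-- `{w | x ⊗ w ∈ t}` -/
def subB (x : ι → F) (t : Submodule F (Matrix ι κ F)) : Submodule F (κ → F) := t.comap (vmR x)

theorem mem_subB {x : ι → F} {t : Submodule F (Matrix ι κ F)} {w : κ → F} :
    w ∈ subB x t ↔ vecMulVec x w ∈ t := Iff.rfl

end Model

end Cfsg.Agent.Lib.Helper37_UTPairDefs
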