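import Mathlib
import Cfsg.Agent.Lib.Helper67_Tens2Defs
import Cfsg.Agent.Lib.Helper94_OrthSiegel

set_option autoImplicit false

/-!
# `Sp_2(q) ⊗ Sp_b(q)` in `Ω^+_{2b}(q)`, all `q ≥ 3`: shared definitions (helper67, project TENS2O)

Abstract setting: `W` a finite-dimensional space over a field `F` with a nondegenerate alternating
bilinear form `ω`; `V = W × W` (the space `F² ⊗ W`; the pure tensor `(a, c) ⊗ u` is
`(a • u, c • u)`) with the quadratic map `qf ω (u, u') = ω u u'`, whose polar form is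
`tf ω ((u,u'),(v,v')) = ω u v' - ω u' v` (`Helper67_Tens2Defs.tf`).  Subgroups of `Ω(V)` are
subgroups of `(W × W) ≃ₗ[F] (W × W)` inside `Om ω = ⁅oG (qf ω), oG (qf ω)⁆`
(`oG` = `Helper94_OrthSmall.oG`).  The elements `ux`, `lx`, `hE`, `jE`, `oE`, the Lagrangian `G0`,
`Lg`, `DI`, `IsKron2` are those of `Helper67_Tens2Defs`.

* `IsAltMap ω S` : `ω (S u) u = 0` for all `u` (then `ux S`, `lx S` are isometries of `qf ω`).
* `aw ω y w` : the alternating map `v ↦ ω v w • y - ω v y • w`;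
  `ux (aw ω y w) = sieg (qf ω) (tf ω) (y, 0) (w, 0)`.
* `HypO ω M` : `M ≤ Ω(V)` contains `SL_2 ⊗ 1` (generators) and `1 ⊗ Sp(ω)`.
* `RadStdO ω M` : every `ux S ∈ M` (`S` alternating) has `S` scalar.
* `InX ω M e d x11 x12 x21 x22` : `M` contains the element `1 + X ⊗ P + adj X ⊗ P'`, where
  `P v = ω v d • e`, `P' v = ω v e • d`.
-/

namespace Cfsg.Agent.Lib.Helper67_T2ODefs

open Module
open Cfsg.Agent.Lib.Helper94_Symp Cfsg.Agent.Lib.Helper94_OrthSmall
  Cfsg.Agent.Lib.Helper94_OrthSiegel Cfsg.Agent.Lib.Helper67_Tens2Defs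

variable {F W : Type*} [Field F] [AddCommGroup W] [Module F W]

/-- the quadratic map `(u, u') ↦ ω u u'` on `W × W` -/
def qf (ω : LinearMap.BilinForm F W) (x : W × W) : F := ω x.1 x.2

@[simp] theorem qf_apply (ω : LinearMap.BilinForm F W) (x : W × W) : qf ω x = ω x.1 x.2 := rfl

theorem qf_smul (ω : LinearMap.BilinForm F W) (c : F) (x : W × W) :
    qf ω (c • x) = c * c * qf ω x := by
  simp only [qf_apply, Prod.smul_fst, Prod.smul_snd, map_smul, LinearMap.smul_apply, smul_eq_mul]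
  ring

theorem qf_add (ω : LinearMap.BilinForm F W) (halt : ω.IsAlt) (x y : W × W) :
    qf ω (x + y) = qf ω x + qf ω y + tf ω x y := by
  simp only [qf_apply, tf_apply, Prod.fst_add, Prod.snd_add, map_add, LinearMap.add_apply]
  rw [alt_swap ω halt x.2 y.1]
  ring

/-- `ω (S u) u = 0` for all `u` -/
def IsAltMap (ω : LinearMap.BilinForm F W) (S : W →ₗ[F] W) : Prop := ∀ u, ω (S u) u = 0

/-- an alternating map is self-adjoint -/
theorem IsAltMap.adj {ω : LinearMap.BilinForm F W} (halt : ω.IsAlt) {S : W →ₗ[F] W}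
    (hS : IsAltMap ω S) (u v : W) : ω (S u) v = ω u (S v) := by
  have h := hS (u + v)
  simp only [map_add, LinearMap.add_apply, hS u, hS v, zero_add, add_zero] at h
  rw [alt_swap ω halt u (S v)]
  linear_combination h

theorem isAltMap_smul_id (ω : LinearMap.BilinForm F W) (halt : ω.IsAlt) (c : F) :
    IsAltMap ω (c • (LinearMap.id : W →ₗ[F] W)) := by
  intro u
  simp [halt u]

theorem IsAltMap.add {ω : LinearMap.BilinForm F W} {S S' : W →ₗ[F] W} (hS : IsAltMap ω S)
    (hS' : IsAltMap ω S') : IsAltMap ω (S + S') := by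
  intro u
  simp [hS u, hS' u]

theorem IsAltMap.smul {ω : LinearMap.BilinForm F W} {S : W →ₗ[F] W} (hS : IsAltMap ω S) (c : F) :
    IsAltMap ω (c • S) := by
  intro u
  simp [hS u]

theorem IsAltMap.neg {ω : LinearMap.BilinForm F W} {S : W →ₗ[F] W} (hS : IsAltMap ω S) :
    IsAltMap ω (-S) := by
  intro u
  simp [hS u]

/-- the alternating map `v ↦ ω v w • y - ω v y • w` -/
def aw (ω : LinearMap.BilinForm F W) (y w : W) : W →ₗ[F] W :=
  (ω.flip w).smulRight y - (ω.flip y).smulRight w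

@[simp] theorem aw_apply (ω : LinearMap.BilinForm F W) (y w v : W) :
    aw ω y w v = ω v w • y - ω v y • w := by
  simp [aw]

theorem aw_isAltMap (ω : LinearMap.BilinForm F W) (halt : ω.IsAlt) (y w : W) :
    IsAltMap ω (aw ω y w) := by
  intro u
  simp only [aw_apply, map_sub, map_smul, LinearMap.sub_apply, LinearMap.smul_apply, smul_eq_mul]
  rw [alt_swap ω halt y u, alt_swap ω halt w u]
  ring

/-- `Ω(V)`: the derived subgroup of the isometry group of `qf ω` -/
def Om (ω : LinearMap.BilinForm F W) : Subgroup ((W × W) ≃ₗ[F] (W × W)) :=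
  ⁅oG (qf ω), oG (qf ω)⁆

theorem Om_le_oG (ω : LinearMap.BilinForm F W) : Om ω ≤ oG (qf ω) :=
  Subgroup.commutator_le_self _

/-- `M` is a subgroup of `Ω(W × W)` containing `SL_2 ⊗ 1` (its generators) and `1 ⊗ Sp(ω)` -/
structure HypO (ω : LinearMap.BilinForm F W) (M : Subgroup ((W × W) ≃ₗ[F] (W × W))) : Prop where
  le : M ≤ Om ω
  ux_mem : ∀ c : F, ux (c • (LinearMap.id : W →ₗ[F] W)) ∈ M
  lx_mem : ∀ c : F, lx (c • (LinearMap.id : W →ₗ[F] W)) ∈ M
  hE_mem : ∀ a : Fˣ, hE a ∈ M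
  jE_mem : (jE : (W × W) ≃ₗ[F] (W × W)) ∈ M
  oE_mem : ∀ T : W ≃ₗ[F] W, T ∈ isoGroup ω → oE T ∈ M

theorem HypO.le_oG {ω : LinearMap.BilinForm F W} {M : Subgroup ((W × W) ≃ₗ[F] (W × W))}
    (hM : HypO ω M) : M ≤ oG (qf ω) := hM.le.trans (Om_le_oG ω)

/-- every `ux S ∈ M` (`S` alternating) has `S` scalar -/
def RadStdO (ω : LinearMap.BilinForm F W) (M : Subgroup ((W × W) ≃ₗ[F] (W × W))) : Prop :=
  ∀ S : W →ₗ[F] W, IsAltMap ω S → ux S ∈ M → ∃ c : F, S = c • (LinearMap.id : W →ₗ[F] W)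

/-- `M` contains the element `1 + X ⊗ P + adj X ⊗ P'`, `P v = ω v d • e`, `P' v = ω v e • d`,
`X = !![x11, x12; x21, x22]` -/
def InX (ω : LinearMap.BilinForm F W) (M : Subgroup ((W × W) ≃ₗ[F] (W × W))) (e d : W)
    (x11 x12 x21 x22 : F) : Prop :=
  ∃ m ∈ M, ∀ u u' : W, m (u, u') =
    (u + (x11 * ω u d + x12 * ω u' d) • e + (x22 * ω u e - x12 * ω u' e) • d,
     u' + (x21 * ω u d + x22 * ω u' d) • e + (-x21 * ω u e + x11 * ω u' e) • d)

/-! ### basic facts -/

theorem ux_mem_oG (ω : LinearMap.BilinForm F W) (S : W →ₗ[F] W) (hS : IsAltMap ω S) :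
    ux S ∈ oG (qf ω) := by
  intro x
  simp only [qf_apply, ux_apply, map_add, LinearMap.add_apply, hS x.2, add_zero]

theorem isAltMap_of_ux_mem (ω : LinearMap.BilinForm F W) (S : W →ₗ[F] W)
    (h : ux S ∈ oG (qf ω)) : IsAltMap ω S := by
  intro u
  have := h (0, u)
  simpa using this

theorem lx_mem_oG (ω : LinearMap.BilinForm F W) (halt : ω.IsAlt) (S : W →ₗ[F] W)
    (hS : IsAltMap ω S) : lx S ∈ oG (qf ω) := by
  intro x
  simp only [qf_apply, lx_apply, map_add, LinearMap.add_apply]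
  rw [alt_swap ω halt x.1 (S x.1), hS x.1, neg_zero, add_zero]

theorem hE_mem_oG (ω : LinearMap.BilinForm F W) (a : Fˣ) : hE a ∈ oG (qf ω) := by
  intro x
  simp only [qf_apply, hE_apply, map_smul, LinearMap.smul_apply, smul_eq_mul]
  have : (a : F) * ((a⁻¹ : Fˣ) : F) = 1 := by rw [← Units.val_mul, mul_inv_cancel, Units.val_one]
  linear_combination (ω x.1 x.2) * this

theorem jE_mem_oG (ω : LinearMap.BilinForm F W) (halt : ω.IsAlt) :
    (jE : (W × W) ≃ₗ[F] (W × W)) ∈ oG (qf ω) := by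
  intro x
  simp only [qf_apply, jE_apply, map_neg]
  rw [alt_swap ω halt x.2 x.1, neg_neg]

theorem oE_mem_oG (ω : LinearMap.BilinForm F W) (T : W ≃ₗ[F] W) (hT : T ∈ isoGroup ω) :
    oE T ∈ oG (qf ω) := by
  intro x
  simp only [qf_apply, oE_apply]
  exact hT x.1 x.2

/-- `ux (aw ω y w)` is the Siegel element at `(y, 0)` with parameter `(w, 0)` -/
theorem ux_aw (ω : LinearMap.BilinForm F W) (halt : ω.IsAlt) (y w : W) :
    ux (aw ω y w) = sieg (qf ω) (tf ω) (y, 0) (w, 0) := by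
  apply LinearEquiv.ext
  intro x
  rw [sieg_apply (qf ω) (tf ω) (qf_smul ω) (qf_add ω halt) (by simp) (by simp)]
  simp only [ux_apply, aw_apply, tf_apply, qf_apply, map_zero, LinearMap.zero_apply, zero_sub,
    zero_mul, zero_smul, sub_zero, Prod.smul_mk, smul_zero, neg_smul]
  ext
  · simp only [Prod.fst_add, Prod.fst_sub, Prod.fst_neg]
    abel
  · simp

/-- `1 ⊗ (symplectic transvection)` is the Siegel element at `(y, 0)` with parameter
`(0, -s • y)` -/
theorem oE_stv (ω : LinearMap.BilinForm F W) (halt : ω.IsAlt) (y : W) (s : F) :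
    oE (stv ω halt y s) = sieg (qf ω) (tf ω) (y, 0) (0, -s • y) := by
  apply LinearEquiv.ext
  intro x
  rw [sieg_apply (qf ω) (tf ω) (qf_smul ω) (qf_add ω halt) (by simp)
    (by simp [halt y])]
  simp only [oE_apply, stv_apply, tf_apply, qf_apply, map_zero, LinearMap.zero_apply, zero_sub,
    sub_zero, map_smul, map_neg, smul_eq_mul, Prod.smul_mk, smul_zero, halt y, mul_zero, neg_zero,
    zero_mul, zero_smul]
  ext
  · simp only [Prod.fst_add, Prod.fst_sub, smul_smul]
    module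
  · simp only [Prod.snd_add, Prod.snd_sub, smul_smul]
    module

/-- conjugation of `aw ω y w` by a symplectic map -/
theorem conj_aw (ω : LinearMap.BilinForm F W) (T : W ≃ₗ[F] W) (hT : T ∈ isoGroup ω) (y w : W) :
    (T : W →ₗ[F] W) ∘ₗ aw ω y w ∘ₗ (T.symm : W →ₗ[F] W) = aw ω (T y) (T w) := by
  apply LinearMap.ext
  intro v
  have h1 : ∀ z, ω (T.symm v) z = ω v (T z) := by
    intro z
    rw [← hT (T.symm v) z, LinearEquiv.apply_symm_apply]
  simp only [LinearMap.comp_apply, LinearEquiv.coe_coe, aw_apply, map_sub, map_smul, h1]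

theorem aw_swap (ω : LinearMap.BilinForm F W) (y w : W) : aw ω w y = - aw ω y w := by
  apply LinearMap.ext
  intro v
  simp

theorem aw_smul_left (ω : LinearMap.BilinForm F W) (c : F) (y w : W) :
    aw ω (c • y) w = c • aw ω y w := by
  apply LinearMap.ext
  intro v
  simp only [aw_apply, map_smul, LinearMap.smul_apply, smul_eq_mul, smul_sub, smul_smul]
  module

theorem aw_smul_right (ω : LinearMap.BilinForm F W) (c : F) (y w : W) :
    aw ω y (c • w) = c • aw ω y w := by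
  apply LinearMap.ext
  intro v
  simp only [aw_apply, map_smul, LinearMap.smul_apply, smul_eq_mul, smul_sub, smul_smul]
  module

theorem aw_add_right (ω : LinearMap.BilinForm F W) (y w w' : W) :
    aw ω y (w + w') = aw ω y w + aw ω y w' := by
  apply LinearMap.ext
  intro v
  simp only [aw_apply, map_add, LinearMap.add_apply, add_smul, smul_add]
  abel

end Cfsg.Agent.Lib.Helper67_T2ODefs
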