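import Mathlib
import Cfsg.Agent.Lib.Helper37_UTDefs
import Cfsg.Agent.Lib.Helper37_UTPairDefs
import Cfsg.Agent.Lib.Helper67_T2ODefs
import Cfsg.Agent.Lib.Helper94_OrthSiegel
import Cfsg.Agent.Lib.Helper94_OrthNondeg

set_option autoImplicit false
set_option linter.unusedSectionVars false
set_option linter.unusedVariables false

/-!
# OTENS4 (`Sp_a ⊗ Sp_b` maximal in `Ω^+_{ab}`, `4 ≤ a`, `a + 2 ≤ b`, ALL `q`): shared definitions
(helper38; target S5704, the part `n₁ ≥ 4`)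

Paper proof: `pending/helper38/OTENS4_proof.md`.  The project is the orthogonal twin of helper37's
UTENS (`Helper37_UTDefs`, `Helper37_UTPairDefs`); everything of those two files is reused with
`σ := RingHom.id F` (`tf`, `tm`, `tmE`, `ctrA`, `ctrB`, `fibB`, `nII`, `nI`, `Lg`, `Ng`, `rtE`, `InQ`,
`StabII`, `MaxD`, `IsPair`, `orthS`, `PairGeo`, `PairGeoU`, `RadStdII`).

Model: `A = ι → F`, `B = κ → F` with nondegenerate ALTERNATING forms `α`, `β`;
`V = Matrix ι κ F`, `x ⊗ y = vecMulVec x y`, `f = tf α β` (symmetric), `Q : V → F` a quadratic map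
with polar form `f` vanishing on the pure tensors; `Ω = ⁅oG Q, oG Q⁆`.

New here:
* `IsRootOpO`, `RootLineO`, `GamO` : the orthogonal versions of `IsRootOp`, `RootLine`, `Gam`
  (the root operator `N` is SKEW-adjoint, the root group is `{1 + s N | s ∈ F}`).
* `OTBase α β Q M`, `OTCtx α β Q M` : the standing hypotheses.
* `EA α x c` : the element `v ↦ v + α v x • c + α v c • x` of `Q_x ≤ Sp(A)` (`c ⊥ x`).
* `InT α M x c T` : `M ∩ Q_ℓ` (`ℓ = x ⊗ B`) contains an element with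
  `e ⊗ b ↦ e ⊗ b + α e c • x ⊗ T b` on `x^⊥ ⊗ B`.
* `IsAdjO β T T'` : `β (T u) v = β u (T' v)`.
-/

namespace Cfsg.Agent.Lib.Helper38_OTDefs

open Matrix Module
open Cfsg.Agent.Lib.Helper98_ExtDefs Cfsg.Agent.Lib.Helper97_TensDefs
open Cfsg.Agent.Lib.Helper94_Herm
open Cfsg.Agent.Lib.Helper67_UT2Defs Cfsg.Agent.Lib.Helper37_UTDefs
open Cfsg.Agent.Lib.Helper37_UTPairDefs
open Cfsg.Agent.Lib.Helper94_OrthSmall Cfsg.Agent.Lib.Helper94_OrthSiegel

section Abstract

variable {F : Type*} [Field F] {V : Type*} [AddCommGroup V] [Module F V]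

/-- `N` is a (skew-adjoint) root operator of the totally isotropic subspace `ℓ` -/
structure IsRootOpO (f : LinearMap.BilinForm F V) (ℓ : Submodule F V) (N : V →ₗ[F] V) :
    Prop where
  range_eq : LinearMap.range N = ℓ
  ker_eq : LinearMap.ker N = orthS f ℓ
  skew : ∀ u v, f (N u) v = - f u (N v)
  ti : ℓ ≤ orthS f ℓ

/-- `ℓ` is a root line of `M` with root operator `N` : `M ∩ Z(ℓ) = {1 + s N | s ∈ F}` -/
structure RootLineO (f : LinearMap.BilinForm F V) (M : Subgroup (V ≃ₗ[F] V))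
    (ℓ : Submodule F V) (N : V →ₗ[F] V) : Prop extends IsRootOpO f ℓ N where
  mem : ∀ s : F, ∃ g ∈ M, ∀ v, g v = v + s • N v
  std : ∀ g ∈ M, (∀ v, g v - v ∈ ℓ) → ∃ s : F, ∀ v, g v = v + s • N v

/-- the group generated by the root groups `{1 + s N}`, `{1 + s N'}` (`s ∈ F`) -/
def GamO (N N' : V →ₗ[F] V) : Subgroup (V ≃ₗ[F] V) :=
  Subgroup.closure {g | ∃ s : F, (∀ v, g v = v + s • N v) ∨ (∀ v, g v = v + s • N' v)}

theorem GamO_comm (N N' : V →ₗ[F] V) : GamO N N' = GamO N' N := by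
  unfold GamO
  congr 1
  ext g
  constructor
  · rintro ⟨s, h | h⟩
    · exact ⟨s, Or.inr h⟩
    · exact ⟨s, Or.inl h⟩
  · rintro ⟨s, h | h⟩
    · exact ⟨s, Or.inr h⟩
    · exact ⟨s, Or.inl h⟩

/-- in characteristic two `GamO` is helper37's `Gam` for `σ = id` -/
theorem Gam_id_eq_GamO (h2 : (2 : F) = 0) (N N' : V →ₗ[F] V) :
    Gam (RingHom.id F) N N' = GamO N N' := by
  have hneg : ∀ s : F, (RingHom.id F) s = -s := by
    intro s
    rw [RingHom.id_apply]
    linear_combination s * h2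
  unfold Gam GamO
  congr 1
  ext g
  constructor
  · rintro ⟨s, _, h⟩
    exact ⟨s, h⟩
  · rintro ⟨s, h⟩
    exact ⟨s, hneg s, h⟩

/-- `T'` is the adjoint of `T` : `β (T u) v = β u (T' v)` -/
def IsAdjO {W : Type*} [AddCommGroup W] [Module F W] (β : LinearMap.BilinForm F W)
    (T T' : W →ₗ[F] W) : Prop := ∀ u v, β (T u) v = β u (T' v)

end Abstract

section Model

variable {F : Type*} [Field F] {ι κ : Type*} [Fintype ι] [Fintype κ] [DecidableEq ι]
  [DecidableEq κ]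

/-- the standing hypotheses, without the hypotheses on the dimensions -/
structure OTBase (α : LinearMap.BilinForm F (ι → F)) (β : LinearMap.BilinForm F (κ → F))
    (Q : Matrix ι κ F → F) (M : Subgroup (Matrix ι κ F ≃ₗ[F] Matrix ι κ F)) : Prop where
  hα : ∀ x, α x x = 0
  hαN : NondegOn α ⊤
  hβ : ∀ y, β y y = 0
  hβN : NondegOn β ⊤
  hQs : ∀ (c : F) (X : Matrix ι κ F), Q (c • X) = c * c * Q X
  hQp : ∀ X Y : Matrix ι κ F, Q (X + Y) = Q X + Q Y + tf α β X Y
  hpure : ∀ (x : ι → F) (y : κ → F), Q (vecMulVec x y) = 0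
  hM : M ≤ ⁅oG Q, oG Q⁆
  hN : ∀ g ∈ ⁅oG Q, oG Q⁆, IsKron g → g ∈ M

/-- the standing hypotheses: `4 ≤ a`, `a + 2 ≤ b` (so `6 ≤ b`) -/
structure OTCtx (α : LinearMap.BilinForm F (ι → F)) (β : LinearMap.BilinForm F (κ → F))
    (Q : Matrix ι κ F → F) (M : Subgroup (Matrix ι κ F ≃ₗ[F] Matrix ι κ F)) : Prop
    extends OTBase α β Q M where
  ha : 4 ≤ Fintype.card ι
  hab : Fintype.card ι + 2 ≤ Fintype.card κ

theorem OTCtx.base {α : LinearMap.BilinForm F (ι → F)} {β : LinearMap.BilinForm F (κ → F)}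
    {Q : Matrix ι κ F → F} {M : Subgroup (Matrix ι κ F ≃ₗ[F] Matrix ι κ F)}
    (hC : OTCtx α β Q M) : OTBase α β Q M := hC.toOTBase

/-- `Ω` is generated by the Siegel elements (supplied by the bridge) -/
def HG3 (α : LinearMap.BilinForm F (ι → F)) (β : LinearMap.BilinForm F (κ → F))
    (Q : Matrix ι κ F → F) : Prop :=
  ∀ M' : Subgroup (Matrix ι κ F ≃ₗ[F] Matrix ι κ F),
    (∀ u z, Q u = 0 → tf α β u z = 0 → sieg Q (tf α β) u z ∈ M') → ⁅oG Q, oG Q⁆ ≤ M'

/-- the element `v ↦ v + α v x • c + α v c • x` of the unipotent radical `Q_x` of the stabiliser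
of `x` in `Sp(A)` (`c ⊥ x`), as a linear map -/
def EAl (α : LinearMap.BilinForm F (ι → F)) (x c : ι → F) : (ι → F) →ₗ[F] (ι → F) :=
  LinearMap.id + (α.flip x).smulRight c + (α.flip c).smulRight x

@[simp] theorem EAl_apply (α : LinearMap.BilinForm F (ι → F)) (x c v : ι → F) :
    EAl α x c v = v + α v x • c + α v c • x := by
  simp [EAl]

/-- `M ∩ Q_ℓ` contains an element with `e ⊗ b ↦ e ⊗ b + α e c • x ⊗ T b` on `x^⊥ ⊗ B` -/
def InT (α : LinearMap.BilinForm F (ι → F)) (M : Subgroup (Matrix ι κ F ≃ₗ[F] Matrix ι κ F))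
    (x c : ι → F) (T : (κ → F) →ₗ[F] (κ → F)) : Prop :=
  ∃ h ∈ M, ∀ (e : ι → F) (b : κ → F), α e x = 0 →
    h (vecMulVec e b) = vecMulVec e b + α e c • vecMulVec x (T b)

end Model

end Cfsg.Agent.Lib.Helper38_OTDefs
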