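import Mathlib
import Cfsg.Agent.Lib.Helper37_UTDefs
import Cfsg.Agent.Lib.Helper37_UTPairDefs

set_option autoImplicit false
set_option linter.unusedSectionVars false
set_option linter.unusedVariables false

/-!
UTENS package PGEOB (helper37's market, wave 2b): the structure of a maximal pair, part B
(`W^⊥`, `U0 = W^⊥ ⊓ I^⊥`).  Abstract linear algebra.
-/

namespace Cfsg.Agent.Lib.Helper92_UT_PGEOB

open Module
open Cfsg.Agent.Lib.Helper94_Herm Cfsg.Agent.Lib.Helper13_PSUSimple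
open Cfsg.Agent.Lib.Helper37_UTPairDefs

variable {F : Type*} [Field F] {V : Type*} [AddCommGroup V] [Module F V] {σ : F →+* F}
variable {f : V →ₗ[F] V →ₛₗ[σ] F} {ℓ ℓ' : Submodule F V} {N N' : V →ₗ[F] V}

/-- a subspace on which the form is (left) nondegenerate meets its orthogonal trivially -/
theorem inf_orthS_eq_bot {W : Submodule F V} (hW : NondegOn f W) : W ⊓ orthS f W = ⊥ := by
  rw [eq_bot_iff]
  rintro x ⟨hx1, hx2⟩
  rw [Submodule.mem_bot]
  by_contra hx0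
  obtain ⟨y, hy, hxy⟩ := hW x hx1 hx0
  exact hxy (hx2 y hy)

/-- a finite dimensional subspace on which the form is (left) nondegenerate is complemented by its
orthogonal -/
theorem sup_orthS_eq_top [FiniteDimensional F V] {W : Submodule F V} (hW : NondegOn f W) :
    W ⊔ orthS f W = ⊤ := by
  rw [eq_top_iff]
  intro v _
  set n := finrank F ↥W with hn
  let b : Basis (Fin n) F ↥W := Module.finBasis F ↥W
  -- the Gram map
  let T : (Fin n → F) →ₗ[F] (Fin n → F) :=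
    LinearMap.pi fun j =>
      (f.flip ((b j : ↥W) : V)) ∘ₗ W.subtype ∘ₗ (b.equivFun.symm : (Fin n → F) ≃ₗ[F] ↥W).toLinearMap
  have hT : ∀ c j, T c j = f ((b.equivFun.symm c : ↥W) : V) ((b j : ↥W) : V) := by
    intro c j
    rfl
  -- a vector orthogonal to all basis vectors is orthogonal to `W`
  have hspan : ∀ z : V, (∀ j, f z ((b j : ↥W) : V) = 0) → z ∈ orthS f W := by
    intro z hz w hw
    have h1 : W ≤ LinearMap.ker (f z) := by
      have h2 : W = Submodule.span F (Set.range fun j => ((b j : ↥W) : V)) := by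
        have h3 := b.span_eq
        have h4 : Submodule.map W.subtype (Submodule.span F (Set.range b)) = W := by
          rw [h3, Submodule.map_subtype_top]
        rw [Submodule.map_span] at h4
        conv_lhs => rw [← h4]
        congr 1
        ext u
        constructor
        · rintro ⟨_, ⟨j, rfl⟩, rfl⟩
          exact ⟨j, rfl⟩
        · rintro ⟨j, rfl⟩
          exact ⟨b j, ⟨j, rfl⟩, rfl⟩
      rw [h2, Submodule.span_le]
      rintro _ ⟨j, rfl⟩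
      exact hz j
    exact h1 hw
  have hinj : Function.Injective T := by
    rw [← LinearMap.ker_eq_bot, eq_bot_iff]
    intro c hc
    rw [LinearMap.mem_ker] at hc
    rw [Submodule.mem_bot]
    have h1 : ((b.equivFun.symm c : ↥W) : V) ∈ orthS f W := by
      apply hspan
      intro j
      rw [← hT, hc]
      rfl
    have h2 : ((b.equivFun.symm c : ↥W) : V) = 0 := by
      by_contra h0
      obtain ⟨y, hy, hxy⟩ := hW _ (b.equivFun.symm c).2 h0
      exact hxy (h1 y hy)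
    have h3 : b.equivFun.symm c = 0 := Subtype.ext h2
    have h4 := congrArg b.equivFun h3
    rw [LinearEquiv.apply_symm_apply, map_zero] at h4
    exact h4
  have hsurj : Function.Surjective T := LinearMap.injective_iff_surjective.mp hinj
  obtain ⟨c, hc⟩ := hsurj fun j => f v ((b j : ↥W) : V)
  have hw0 : ((b.equivFun.symm c : ↥W) : V) ∈ W := (b.equivFun.symm c).2
  have hv : v - ((b.equivFun.symm c : ↥W) : V) ∈ orthS f W := by
    apply hspan
    intro j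
    rw [map_sub, LinearMap.sub_apply, ← hT, hc, sub_self]
  have : v = ((b.equivFun.symm c : ↥W) : V) + (v - ((b.equivFun.symm c : ↥W) : V)) := by abel
  rw [this]
  exact Submodule.add_mem_sup hw0 hv

/-! ## PGEOB (M-L): part B -/

theorem pairGeoU [FiniteDimensional F V] (hσ : Invol σ) (hf : IsHerm f) (hfN : NondegOn f ⊤)
    (hℓ : IsRootOp f ℓ N) (hℓ' : IsRootOp f ℓ' N') (hG : PairGeo f ℓ ℓ' N N') :
    PairGeoU f ℓ ℓ' N N' := by
  have hNmem : ∀ v, N v ∈ ℓ := fun v => by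
    rw [← hℓ.range_eq]; exact LinearMap.mem_range_self N v
  have hN'mem : ∀ v, N' v ∈ ℓ' := fun v => by
    rw [← hℓ'.range_eq]; exact LinearMap.mem_range_self N' v
  have hJℓ : ℓ'.map N ≤ ℓ := by
    rintro _ ⟨v, -, rfl⟩; exact hNmem v
  have hJ'ℓ' : ℓ.map N' ≤ ℓ' := by
    rintro _ ⟨v, -, rfl⟩; exact hN'mem v
  have hJW : ℓ'.map N ≤ ℓ'.map N ⊔ ℓ.map N' := le_sup_left
  have hJ'W : ℓ.map N' ≤ ℓ'.map N ⊔ ℓ.map N' := le_sup_right
  -- `I ≤ W^⊥`
  have hIW : ℓ ⊓ ℓ' ≤ orthS f (ℓ'.map N ⊔ ℓ.map N') := by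
    rintro v ⟨hv1, hv2⟩ w hw
    obtain ⟨u, hu, u', hu', rfl⟩ := Submodule.mem_sup.mp hw
    rw [map_add, hℓ.ti hv1 u (hJℓ hu), hℓ'.ti hv2 u' (hJ'ℓ' hu'), add_zero]
  -- `I ≤ I^⊥`
  have hII : ℓ ⊓ ℓ' ≤ orthS f (ℓ ⊓ ℓ') := by
    rintro v ⟨hv1, -⟩ w ⟨hw1, -⟩
    exact hℓ.ti hv1 w hw1
  -- `N W ≤ W`, `N' W ≤ W`
  have hNW : ∀ w ∈ ℓ'.map N ⊔ ℓ.map N', N w ∈ ℓ'.map N ⊔ ℓ.map N' := by
    intro w hw
    obtain ⟨u, hu, u', hu', rfl⟩ := Submodule.mem_sup.mp hw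
    rw [map_add, hG.N_J u hu, zero_add]
    apply hJW
    rw [← hG.N_J']
    exact ⟨u', hu', rfl⟩
  have hN'W : ∀ w ∈ ℓ'.map N ⊔ ℓ.map N', N' w ∈ ℓ'.map N ⊔ ℓ.map N' := by
    intro w hw
    obtain ⟨u, hu, u', hu', rfl⟩ := Submodule.mem_sup.mp hw
    rw [map_add, hG.N'_J' u' hu', add_zero]
    apply hJ'W
    rw [← hG.N'_J]
    exact ⟨u, hu, rfl⟩
  -- `ℓ ⊓ W^⊥ ≤ I`, `ℓ' ⊓ W^⊥ ≤ I`
  have hℓW : ∀ z ∈ ℓ, z ∈ orthS f (ℓ'.map N ⊔ ℓ.map N') → z ∈ ℓ ⊓ ℓ' := by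
    intro z hz hzW
    rw [← hG.meet_orth']
    refine ⟨hz, ?_⟩
    intro y hy
    rw [← hG.J'_sup] at hy
    obtain ⟨u', hu', i, hi, rfl⟩ := Submodule.mem_sup.mp hy
    rw [map_add, hzW u' (hJ'W hu'), hℓ.ti hz i hi.1, add_zero]
  have hℓ'W : ∀ z ∈ ℓ', z ∈ orthS f (ℓ'.map N ⊔ ℓ.map N') → z ∈ ℓ ⊓ ℓ' := by
    intro z hz hzW
    rw [← hG.meet_orth]
    refine ⟨hz, ?_⟩
    intro y hy
    rw [← hG.J_sup] at hy
    obtain ⟨u, hu, i, hi, rfl⟩ := Submodule.mem_sup.mp hy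
    rw [map_add, hzW u (hJW hu), hℓ'.ti hz i hi.2, add_zero]
  -- `U0 ≤ ℓ^⊥`, `U0 ≤ ℓ'^⊥`
  have hU0ℓ : orthS f (ℓ'.map N ⊔ ℓ.map N') ⊓ orthS f (ℓ ⊓ ℓ') ≤ orthS f ℓ := by
    rintro v ⟨hv1, hv2⟩ z hz
    rw [← hG.J_sup] at hz
    obtain ⟨u, hu, i, hi, rfl⟩ := Submodule.mem_sup.mp hz
    rw [map_add, hv1 u (hJW hu), hv2 i hi, add_zero]
  have hU0ℓ' : orthS f (ℓ'.map N ⊔ ℓ.map N') ⊓ orthS f (ℓ ⊓ ℓ') ≤ orthS f ℓ' := by
    rintro v ⟨hv1, hv2⟩ z hz
    rw [← hG.J'_sup] at hz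
    obtain ⟨u', hu', i, hi, rfl⟩ := Submodule.mem_sup.mp hz
    rw [map_add, hv1 u' (hJ'W hu'), hv2 i hi, add_zero]
  have htop : (ℓ'.map N ⊔ ℓ.map N') ⊔ orthS f (ℓ'.map N ⊔ ℓ.map N') = ⊤ :=
    sup_orthS_eq_top hG.nondegW
  refine
    { I_le_Worth := hIW
      N_Worth := ?_
      N'_Worth := ?_
      N_U0 := ?_
      N'_U0 := ?_
      orth_eq := ?_
      orth_eq' := ?_
      I_le_U0 := le_inf hIW hII
      W_sup_Worth := htop
      W_disj_Worth := inf_orthS_eq_bot hG.nondegW }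
  · intro v hv
    apply hℓW _ (hNmem v)
    intro w hw
    rw [hℓ.sa]
    exact hv _ (hNW w hw)
  · intro v hv
    apply hℓ'W _ (hN'mem v)
    intro w hw
    rw [hℓ'.sa]
    exact hv _ (hN'W w hw)
  · intro v hv
    have : v ∈ LinearMap.ker N := by rw [hℓ.ker_eq]; exact hU0ℓ hv
    exact this
  · intro v hv
    have : v ∈ LinearMap.ker N' := by rw [hℓ'.ker_eq]; exact hU0ℓ' hv
    exact this
  · apply le_antisymm
    · intro v hv
      have hvt : v ∈ (ℓ'.map N ⊔ ℓ.map N') ⊔ orthS f (ℓ'.map N ⊔ ℓ.map N') := by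
        rw [htop]; trivial
      obtain ⟨w, hw, v', hv', rfl⟩ := Submodule.mem_sup.mp hvt
      have hwJ : w ∈ ℓ'.map N := by
        rw [← hG.J_orth]
        refine ⟨?_, hw⟩
        intro j hj
        have h1 := hv j (hJℓ hj)
        rw [map_add, LinearMap.add_apply, hv' j (hJW hj), add_zero] at h1
        exact h1
      refine Submodule.add_mem_sup hwJ ⟨hv', ?_⟩
      intro i hi
      have h1 := hv i hi.1
      rw [map_add, LinearMap.add_apply, hℓ.ti (hJℓ hwJ) i hi.1, zero_add] at h1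
      exact h1
    · exact sup_le (hJℓ.trans hℓ.ti) hU0ℓ
  · apply le_antisymm
    · intro v hv
      have hvt : v ∈ (ℓ'.map N ⊔ ℓ.map N') ⊔ orthS f (ℓ'.map N ⊔ ℓ.map N') := by
        rw [htop]; trivial
      obtain ⟨w, hw, v', hv', rfl⟩ := Submodule.mem_sup.mp hvt
      have hwJ : w ∈ ℓ.map N' := by
        rw [← hG.J'_orth]
        refine ⟨?_, hw⟩
        intro j hj
        have h1 := hv j (hJ'ℓ' hj)
        rw [map_add, LinearMap.add_apply, hv' j (hJ'W hj), add_zero] at h1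
        exact h1
      refine Submodule.add_mem_sup hwJ ⟨hv', ?_⟩
      intro i hi
      have h1 := hv i hi.2
      rw [map_add, LinearMap.add_apply, hℓ'.ti (hJ'ℓ' hwJ) i hi.2, zero_add] at h1
      exact h1
    · exact sup_le (hJ'ℓ'.trans hℓ'.ti) hU0ℓ'

end Cfsg.Agent.Lib.Helper92_UT_PGEOB
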