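import Mathlib
import Cfsg.Agent.Lib.Helper38_OTDefs
import Cfsg.Agent.Lib.Helper92_UT_PGEOB

set_option autoImplicit false
set_option linter.unusedSectionVars false
set_option linter.unusedVariables false

/-!
OTENS4 package OT-PGEOB (helper38's market `otens4_packages`; helper10): the structure of a maximal pair,
part B (`W^⊥`, `U0 = W^⊥ ⊓ I^⊥`), for a reflexive form and SKEW-adjoint root operators.
Port of helper92's `Helper92_UT_PGEOB.pairGeoU` (only `N_Worth`, `N'_Worth` use the adjointness).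
-/

namespace Cfsg.Agent.Lib.Helper10_OT_PGEOB

open Module
open Cfsg.Agent.Lib.Helper94_Herm
open Cfsg.Agent.Lib.Helper37_UTPairDefs Cfsg.Agent.Lib.Helper38_OTDefs

variable {F : Type*} [Field F] {V : Type*} [AddCommGroup V] [Module F V]
variable {f : LinearMap.BilinForm F V} {ℓ ℓ' : Submodule F V} {N N' : V →ₗ[F] V}

/-! ## PGEOB (M-L): part B (twin of UT-PGEOB) -/

theorem pairGeoUO [FiniteDimensional F V] (hf : ∀ u v, f u v = 0 → f v u = 0) (hfN : NondegOn f ⊤)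
    (hℓ : IsRootOpO f ℓ N) (hℓ' : IsRootOpO f ℓ' N') (hG : PairGeo f ℓ ℓ' N N') :
    PairGeoU f ℓ ℓ' N N' := by
  have hNmem : ∀ v, N v ∈ ℓ := fun v => by
    rw [← hℓ.range_eq]; exact LinearMap.mem_range_self N v
  have hN'mem : ∀ v, N' v ∈ ℓ' := fun v => by
    rw [← hℓ'.range_eq]; exact LinearMap.mem_range_self N' v
  have hJℓ : ℓ'.map N ≤ ℓ := by
    rintro _ ⟨v, -, rfl⟩; exact hNmem v
  have hJ'ℓ' : ℓ.map N' ≤ ℓ' := by
    rintro _ ⟨v, -, rfl⟩; exact hN'mem v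
  have hJW : ℓ'.map N ≤ ℓ'.map N ⊔ ℓ.map N' := le_sup_left
  have hJ'W : ℓ.map N' ≤ ℓ'.map N ⊔ ℓ.map N' := le_sup_right
  -- `I ≤ W^⊥`
  have hIW : ℓ ⊓ ℓ' ≤ orthS f (ℓ'.map N ⊔ ℓ.map N') := by
    rintro v ⟨hv1, hv2⟩ w hw
    obtain ⟨u, hu, u', hu', rfl⟩ := Submodule.mem_sup.mp hw
    rw [map_add, hℓ.ti hv1 u (hJℓ hu), hℓ'.ti hv2 u' (hJ'ℓ' hu'), add_zero]
  -- `I ≤ I^⊥`
  have hII : ℓ ⊓ ℓ' ≤ orthS f (ℓ ⊓ ℓ') := by
    rintro v ⟨hv1, -⟩ w ⟨hw1, -⟩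
    exact hℓ.ti hv1 w hw1
  -- `N W ≤ W`, `N' W ≤ W`
  have hNW : ∀ w ∈ ℓ'.map N ⊔ ℓ.map N', N w ∈ ℓ'.map N ⊔ ℓ.map N' := by
    intro w hw
    obtain ⟨u, hu, u', hu', rfl⟩ := Submodule.mem_sup.mp hw
    rw [map_add, hG.N_J u hu, zero_add]
    apply hJW
    rw [← hG.N_J']
    exact ⟨u', hu', rfl⟩
  have hN'W : ∀ w ∈ ℓ'.map N ⊔ ℓ.map N', N' w ∈ ℓ'.map N ⊔ ℓ.map N' := by
    intro w hw
    obtain ⟨u, hu, u', hu', rfl⟩ := Submodule.mem_sup.mp hw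
    rw [map_add, hG.N'_J' u' hu', add_zero]
    apply hJ'W
    rw [← hG.N'_J]
    exact ⟨u, hu, rfl⟩
  -- `ℓ ⊓ W^⊥ ≤ I`, `ℓ' ⊓ W^⊥ ≤ I`
  have hℓW : ∀ z ∈ ℓ, z ∈ orthS f (ℓ'.map N ⊔ ℓ.map N') → z ∈ ℓ ⊓ ℓ' := by
    intro z hz hzW
    rw [← hG.meet_orth']
    refine ⟨hz, ?_⟩
    intro y hy
    rw [← hG.J'_sup] at hy
    obtain ⟨u', hu', i, hi, rfl⟩ := Submodule.mem_sup.mp hy
    rw [map_add, hzW u' (hJ'W hu'), hℓ.ti hz i hi.1, add_zero]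
  have hℓ'W : ∀ z ∈ ℓ', z ∈ orthS f (ℓ'.map N ⊔ ℓ.map N') → z ∈ ℓ ⊓ ℓ' := by
    intro z hz hzW
    rw [← hG.meet_orth]
    refine ⟨hz, ?_⟩
    intro y hy
    rw [← hG.J_sup] at hy
    obtain ⟨u, hu, i, hi, rfl⟩ := Submodule.mem_sup.mp hy
    rw [map_add, hzW u (hJW hu), hℓ'.ti hz i hi.2, add_zero]
  -- `U0 ≤ ℓ^⊥`, `U0 ≤ ℓ'^⊥`
  have hU0ℓ : orthS f (ℓ'.map N ⊔ ℓ.map N') ⊓ orthS f (ℓ ⊓ ℓ') ≤ orthS f ℓ := by
    rintro v ⟨hv1, hv2⟩ z hz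
    rw [← hG.J_sup] at hz
    obtain ⟨u, hu, i, hi, rfl⟩ := Submodule.mem_sup.mp hz
    rw [map_add, hv1 u (hJW hu), hv2 i hi, add_zero]
  have hU0ℓ' : orthS f (ℓ'.map N ⊔ ℓ.map N') ⊓ orthS f (ℓ ⊓ ℓ') ≤ orthS f ℓ' := by
    rintro v ⟨hv1, hv2⟩ z hz
    rw [← hG.J'_sup] at hz
    obtain ⟨u', hu', i, hi, rfl⟩ := Submodule.mem_sup.mp hz
    rw [map_add, hv1 u' (hJ'W hu'), hv2 i hi, add_zero]
  have htop : (ℓ'.map N ⊔ ℓ.map N') ⊔ orthS f (ℓ'.map N ⊔ ℓ.map N') = ⊤ :=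
    Cfsg.Agent.Lib.Helper92_UT_PGEOB.sup_orthS_eq_top hG.nondegW
  refine
    { I_le_Worth := hIW
      N_Worth := ?_
      N'_Worth := ?_
      N_U0 := ?_
      N'_U0 := ?_
      orth_eq := ?_
      orth_eq' := ?_
      I_le_U0 := le_inf hIW hII
      W_sup_Worth := htop
      W_disj_Worth := Cfsg.Agent.Lib.Helper92_UT_PGEOB.inf_orthS_eq_bot hG.nondegW }
  · intro v hv
    apply hℓW _ (hNmem v)
    intro w hw
    rw [hℓ.skew, hv _ (hNW w hw), neg_zero]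
  · intro v hv
    apply hℓ'W _ (hN'mem v)
    intro w hw
    rw [hℓ'.skew, hv _ (hN'W w hw), neg_zero]
  · intro v hv
    have : v ∈ LinearMap.ker N := by rw [hℓ.ker_eq]; exact hU0ℓ hv
    exact this
  · intro v hv
    have : v ∈ LinearMap.ker N' := by rw [hℓ'.ker_eq]; exact hU0ℓ' hv
    exact this
  · apply le_antisymm
    · intro v hv
      have hvt : v ∈ (ℓ'.map N ⊔ ℓ.map N') ⊔ orthS f (ℓ'.map N ⊔ ℓ.map N') := by
        rw [htop]; trivial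
      obtain ⟨w, hw, v', hv', rfl⟩ := Submodule.mem_sup.mp hvt
      have hwJ : w ∈ ℓ'.map N := by
        rw [← hG.J_orth]
        refine ⟨?_, hw⟩
        intro j hj
        have h1 := hv j (hJℓ hj)
        rw [map_add, LinearMap.add_apply, hv' j (hJW hj), add_zero] at h1
        exact h1
      refine Submodule.add_mem_sup hwJ ⟨hv', ?_⟩
      intro i hi
      have h1 := hv i hi.1
      rw [map_add, LinearMap.add_apply, hℓ.ti (hJℓ hwJ) i hi.1, zero_add] at h1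
      exact h1
    · exact sup_le (hJℓ.trans hℓ.ti) hU0ℓ
  · apply le_antisymm
    · intro v hv
      have hvt : v ∈ (ℓ'.map N ⊔ ℓ.map N') ⊔ orthS f (ℓ'.map N ⊔ ℓ.map N') := by
        rw [htop]; trivial
      obtain ⟨w, hw, v', hv', rfl⟩ := Submodule.mem_sup.mp hvt
      have hwJ : w ∈ ℓ.map N' := by
        rw [← hG.J'_orth]
        refine ⟨?_, hw⟩
        intro j hj
        have h1 := hv j (hJ'ℓ' hj)
        rw [map_add, LinearMap.add_apply, hv' j (hJ'W hj), add_zero] at h1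
        exact h1
      refine Submodule.add_mem_sup hwJ ⟨hv', ?_⟩
      intro i hi
      have h1 := hv i hi.2
      rw [map_add, LinearMap.add_apply, hℓ'.ti (hJ'ℓ' hwJ) i hi.2, zero_add] at h1
      exact h1
    · exact sup_le (hJ'ℓ'.trans hℓ'.ti) hU0ℓ'

end Cfsg.Agent.Lib.Helper10_OT_PGEOB
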