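import Mathlib
import Cfsg.Agent.Lib.Helper94_OrthSmall
import Cfsg.Agent.Lib.Helper94_OrthSiegel
import Cfsg.Agent.Lib.Helper98_ExtDefs

set_option autoImplicit false
set_option linter.unusedSectionVars false

/-!
# The normaliser of a quadratic extension field in an orthogonal group, `q` odd, `dim_K V ≥ 5`:
shared definitions (helper97, project OEXT2)

Abstract setting: `F` a finite field with `2 ≠ 0`, `K = F(θ)`, `θ * θ = ε ∈ F`, `θ ∉ F`;
`τ : K →ₗ[F] F` the `F`-linear functional with `τ 1 = 1`, `τ θ = 0`; `V` a `K`-space of dimension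
at least five carrying a nondegenerate `K`-quadratic form `QK` with polar form `BK` (in the style
of `Helper94_OrthSmall`); `trQ τ QK = τ ∘ QK` and `trB τ BK = τ ∘ BK` are the induced `F`-forms.

* `Ctx θ ε τ QK BK` : the standing hypotheses.
* `ksieg F QK BK u w` : the `K`-Siegel element `sieg QK BK u w`, as an `F`-linear automorphism.
* `HypO τ QK BK M` : `M` consists of isometries of `trQ τ QK`, contains the `K`-Siegel elements and
  the `K`-reflections in vectors `u₀` with `trQ τ QK u₀ ≠ 0` and `QK u₀` a nonsquare of `K`.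
* `IsKinv K t` : the `F`-subspace `t` is `K`-invariant.
* `AllSieg Q B M` : `M` contains all Siegel elements of `(Q, B)`.
-/

namespace Cfsg.Agent.Lib.Helper97_OX2Defs

open Module Cfsg.Agent.Lib.Helper94_OrthSmall Cfsg.Agent.Lib.Helper94_OrthSiegel
  Cfsg.Agent.Lib.Helper98_ExtDefs

variable {F K V : Type*} [Field F] [Field K] [Algebra F K] [AddCommGroup V] [Module F V]
  [Module K V] [IsScalarTower F K V]

/-- `τ ∘ QK` -/
def trQ (τ : K →ₗ[F] F) (QK : V → K) : V → F := fun v => τ (QK v)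

@[simp] theorem trQ_apply (τ : K →ₗ[F] F) (QK : V → K) (v : V) : trQ τ QK v = τ (QK v) := rfl

/-- `τ ∘ BK` -/
def trB (τ : K →ₗ[F] F) (BK : LinearMap.BilinForm K V) : LinearMap.BilinForm F V :=
  LinearMap.mk₂ F (fun u v => τ (BK u v))
    (by intro u u' v; simp only [map_add, LinearMap.add_apply])
    (by
      intro c u v
      rw [← algebraMap_smul K c u, map_smul, LinearMap.smul_apply, smul_eq_mul, ← Algebra.smul_def,
        map_smul])
    (by intro u v v'; simp only [map_add])
    (by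
      intro c u v
      rw [← algebraMap_smul K c v, map_smul, smul_eq_mul, ← Algebra.smul_def, map_smul])

@[simp] theorem trB_apply (τ : K →ₗ[F] F) (BK : LinearMap.BilinForm K V) (u v : V) :
    trB τ BK u v = τ (BK u v) := rfl

/-- the standing hypotheses of project OEXT2 -/
structure Ctx (θ : K) (ε : F) (τ : K →ₗ[F] F) (QK : V → K) (BK : LinearMap.BilinForm K V) :
    Prop where
  h2 : (2 : F) ≠ 0
  hθ : θ * θ = algebraMap F K ε
  hθF : ∀ x : F, algebraMap F K x ≠ θ
  hdec : ∀ k : K, ∃ x y : F, k = algebraMap F K x + y • θ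
  hτ1 : τ 1 = 1
  hτθ : τ θ = 0
  hQs : ∀ (c : K) (v : V), QK (c • v) = c * c * QK v
  hQp : ∀ u v : V, QK (u + v) = QK u + QK v + BK u v
  hN : BK.Nondegenerate
  hm : 5 ≤ finrank K V

/-- the `K`-Siegel element `sieg QK BK u w`, as an `F`-linear automorphism of `V` -/
noncomputable def ksieg (F : Type*) {K V : Type*} [Field F] [Field K] [Algebra F K]
    [AddCommGroup V] [Module F V] [Module K V] [IsScalarTower F K V]
    (QK : V → K) (BK : LinearMap.BilinForm K V) (u w : V) : V ≃ₗ[F] V :=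
  (sieg QK BK u w).restrictScalars F

theorem ksieg_apply' (QK : V → K) (BK : LinearMap.BilinForm K V) (u w x : V) :
    ksieg F QK BK u w x = sieg QK BK u w x := rfl

/-- the `K`-Siegel elements are `K`-linear -/
theorem ksieg_smul (QK : V → K) (BK : LinearMap.BilinForm K V) (u w : V) (k : K) (x : V) :
    ksieg F QK BK u w (k • x) = k • ksieg F QK BK u w x := by
  rw [ksieg_apply', ksieg_apply', map_smul]

/-- the `F`-subspace `t` of `V` is `K`-invariant -/
def IsKinv (K : Type*) {F V : Type*} [Field F] [Field K] [AddCommGroup V] [Module F V]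
    [Module K V] (t : Submodule F V) : Prop := ∀ (k : K) (x : V), x ∈ t → k • x ∈ t

/-- `M` contains all Siegel elements of `(Q, B)` -/
def AllSieg (Q : V → F) (B : LinearMap.BilinForm F V) (M : Subgroup (V ≃ₗ[F] V)) : Prop :=
  ∀ u z : V, Q u = 0 → B u z = 0 → sieg Q B u z ∈ M

/-- `M` consists of isometries of `τ ∘ QK`, contains all `K`-Siegel elements, and all
`K`-reflections in vectors `u₀` with `τ (QK u₀) ≠ 0` and `QK u₀` a nonsquare of `K` -/
structure HypO (τ : K →ₗ[F] F) (QK : V → K) (BK : LinearMap.BilinForm K V)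
    (M : Subgroup (V ≃ₗ[F] V)) : Prop where
  le : M ≤ oG (trQ τ QK)
  sieg_mem : ∀ u w : V, QK u = 0 → BK u w = 0 → ksieg F QK BK u w ∈ M
  refl_mem : ∀ u₀ : V, τ (QK u₀) ≠ 0 → ¬ IsSquare (QK u₀) →
    HasMap M (fun x => x - ((QK u₀)⁻¹ * BK x u₀) • u₀)


/-- the `F`-linear map `x ↦ κ • (BK x u • w - BK x w • u)` -/
def nmap (F : Type*) {K V : Type*} [Field F] [Field K] [Algebra F K]
    [AddCommGroup V] [Module F V] [Module K V] [IsScalarTower F K V]
    (BK : LinearMap.BilinForm K V) (κ : K) (u w : V) : V →ₗ[F] V :=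
  (κ • ((BK.flip u).smulRight w - (BK.flip w).smulRight u)).restrictScalars F

theorem nmap_apply (BK : LinearMap.BilinForm K V) (κ : K) (u w x : V) :
    nmap F BK κ u w x = κ • (BK x u • w - BK x w • u) := by
  simp [nmap]

/-- the subgroup generated by the `K`-Siegel elements -/
def KS (F : Type*) {K V : Type*} [Field F] [Field K] [Algebra F K]
    [AddCommGroup V] [Module F V] [Module K V] [IsScalarTower F K V]
    (QK : V → K) (BK : LinearMap.BilinForm K V) : Subgroup (V ≃ₗ[F] V) :=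
  Subgroup.closure {g | ∃ u w : V, QK u = 0 ∧ BK u w = 0 ∧ g = ksieg F QK BK u w}

theorem ksieg_mem_KS {QK : V → K} {BK : LinearMap.BilinForm K V} {u w : V} (hu : QK u = 0)
    (huw : BK u w = 0) : ksieg F QK BK u w ∈ KS F QK BK :=
  Subgroup.subset_closure ⟨u, w, hu, huw, rfl⟩

theorem HypO.KS_le {τ : K →ₗ[F] F} {QK : V → K} {BK : LinearMap.BilinForm K V}
    {M : Subgroup (V ≃ₗ[F] V)} (hM : HypO τ QK BK M) : KS F QK BK ≤ M := by
  unfold KS
  rw [Subgroup.closure_le]
  rintro g ⟨u, w, hu, huw, rfl⟩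
  exact hM.sieg_mem u w hu huw

/-- the elements of `KS` are `K`-linear -/
theorem KS_smul {QK : V → K} {BK : LinearMap.BilinForm K V} {h : V ≃ₗ[F] V}
    (hh : h ∈ KS F QK BK) (k : K) (x : V) : h (k • x) = k • h x := by
  have key : h ∈ ({ carrier := {g | ∀ (k : K) (x : V), g (k • x) = k • g x}
                    mul_mem' := by
                      intro a b ha hb k x
                      rw [LinearEquiv.mul_apply, hb, ha, LinearEquiv.mul_apply]
                    one_mem' := by intro k x; rfl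
                    inv_mem' := by
                      intro a ha k x
                      apply a.injective
                      rw [Cfsg.Agent.Lib.Helper94_Symp.apply_inv_apply', ha, Cfsg.Agent.Lib.Helper94_Symp.apply_inv_apply'] } :
                  Subgroup (V ≃ₗ[F] V)) := by
    refine (Subgroup.closure_le _).mpr ?_ hh
    rintro g ⟨u, w, _, _, rfl⟩
    exact fun k x => ksieg_smul QK BK u w k x
  exact key k x

section CtxLemmas

variable {θ : K} {ε : F} {τ : K →ₗ[F] F} {QK : V → K} {BK : LinearMap.BilinForm K V}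

theorem Ctx.tau_algebraMap (C : Ctx θ ε τ QK BK) (x : F) : τ (algebraMap F K x) = x := by
  rw [Algebra.algebraMap_eq_smul_one, map_smul, C.hτ1, smul_eq_mul, mul_one]

theorem Ctx.tau_dec (C : Ctx θ ε τ QK BK) (x y : F) : τ (algebraMap F K x + y • θ) = x := by
  rw [map_add, C.tau_algebraMap, map_smul, C.hτθ, smul_zero, add_zero]

theorem Ctx.theta_mul_dec (C : Ctx θ ε τ QK BK) (x y : F) :
    θ * (algebraMap F K x + y • θ) = algebraMap F K (ε * y) + x • θ := by
  rw [mul_add, mul_smul_comm, C.hθ, map_mul, Algebra.smul_def, Algebra.smul_def]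
  ring

theorem Ctx.tau_theta_mul (C : Ctx θ ε τ QK BK) (x y : F) :
    τ (θ * (algebraMap F K x + y • θ)) = ε * y := by
  rw [C.theta_mul_dec, C.tau_dec]

theorem Ctx.eps_ne_zero (C : Ctx θ ε τ QK BK) : ε ≠ 0 := by
  intro h
  have h1 : θ * θ = 0 := by rw [C.hθ, h, map_zero]
  have h2 : θ = 0 := mul_self_eq_zero.mp h1
  exact C.hθF 0 (by rw [map_zero, h2])

theorem Ctx.theta_ne_zero (C : Ctx θ ε τ QK BK) : θ ≠ 0 := by
  intro h
  exact C.hθF 0 (by rw [map_zero, h])

/-- `ε` is not a square in `F` -/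
theorem Ctx.eps_not_sq (C : Ctx θ ε τ QK BK) (x : F) : x * x ≠ ε := by
  intro h
  have h1 : (θ - algebraMap F K x) * (θ + algebraMap F K x) = 0 := by
    have : (θ - algebraMap F K x) * (θ + algebraMap F K x)
        = θ * θ - algebraMap F K x * algebraMap F K x := by ring
    rw [this, C.hθ, ← h, map_mul, sub_self]
  rcases mul_eq_zero.mp h1 with h2 | h2
  · exact C.hθF x (sub_eq_zero.mp h2).symm
  · exact C.hθF (-x) (by rw [map_neg]; exact (eq_neg_of_add_eq_zero_left h2).symm)

/-- `1, θ` are `F`-independent -/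
theorem Ctx.dec_zero (C : Ctx θ ε τ QK BK) {x y : F} (h : algebraMap F K x + y • θ = 0) :
    x = 0 ∧ y = 0 := by
  have hx : x = 0 := by
    have := C.tau_dec x y
    rw [h, map_zero] at this
    exact this.symm
  refine ⟨hx, ?_⟩
  have h1 := C.tau_theta_mul x y
  rw [h, mul_zero, map_zero] at h1
  rcases mul_eq_zero.mp h1.symm with h2 | h2
  · exact absurd h2 C.eps_ne_zero
  · exact h2

theorem Ctx.dec_inj (C : Ctx θ ε τ QK BK) {x y x' y' : F}
    (h : algebraMap F K x + y • θ = algebraMap F K x' + y' • θ) : x = x' ∧ y = y' := by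
  have h1 : algebraMap F K (x - x') + (y - y') • θ = 0 := by
    rw [map_sub, sub_smul]
    linear_combination h
  obtain ⟨h2, h3⟩ := C.dec_zero h1
  exact ⟨sub_eq_zero.mp h2, sub_eq_zero.mp h3⟩

/-- every `k : K` is `τ k + ε⁻¹ τ (θ k) θ` -/
theorem Ctx.recon (C : Ctx θ ε τ QK BK) (k : K) :
    k = algebraMap F K (τ k) + (ε⁻¹ * τ (θ * k)) • θ := by
  obtain ⟨x, y, rfl⟩ := C.hdec k
  rw [C.tau_dec, C.tau_theta_mul, ← mul_assoc, inv_mul_cancel₀ C.eps_ne_zero, one_mul]

/-- an element of `K` killed by `τ` and by `τ (θ * ·)` vanishes -/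
theorem Ctx.eq_zero_of_tau (C : Ctx θ ε τ QK BK) {k : K} (h1 : τ k = 0) (h2 : τ (θ * k) = 0) :
    k = 0 := by
  rw [C.recon k, h1, h2, mul_zero, zero_smul, map_zero, add_zero]

/-- `τ (k * k') = 0` for all `k'` forces `k = 0` -/
theorem Ctx.eq_zero_of_tau_mul (C : Ctx θ ε τ QK BK) {k : K} (h : ∀ k' : K, τ (k' * k) = 0) :
    k = 0 :=
  C.eq_zero_of_tau (by simpa using h 1) (h θ)

theorem Ctx.two_ne_zero_K (C : Ctx θ ε τ QK BK) : (2 : K) ≠ 0 := by
  intro h
  have : algebraMap F K 2 = 0 := by rw [map_ofNat]; exact h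
  exact C.h2 ((map_eq_zero (algebraMap F K)).mp this)

/-- scalar rule of `trQ τ QK` -/
theorem Ctx.trQ_smul (C : Ctx θ ε τ QK BK) (c : F) (v : V) :
    trQ τ QK (c • v) = c * c * trQ τ QK v := by
  rw [trQ_apply, ← algebraMap_smul K c v, C.hQs, ← map_mul, ← Algebra.smul_def, map_smul,
    smul_eq_mul, trQ_apply]

/-- polar rule of `trQ τ QK`, `trB τ BK` -/
theorem Ctx.trQ_add (C : Ctx θ ε τ QK BK) (u v : V) :
    trQ τ QK (u + v) = trQ τ QK u + trQ τ QK v + trB τ BK u v := by
  simp only [trQ_apply, trB_apply, C.hQp, map_add]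

theorem Ctx.BK_symm (C : Ctx θ ε τ QK BK) (u v : V) : BK u v = BK v u :=
  B_symm QK BK C.hQp u v

/-- `trB τ BK` is nondegenerate -/
theorem Ctx.trB_nondeg (C : Ctx θ ε τ QK BK) : (trB τ BK).Nondegenerate := by
  have key : ∀ v : V, (∀ w, trB τ BK v w = 0) → v = 0 := by
    intro v hv
    apply C.hN.1 v
    intro w
    apply C.eq_zero_of_tau_mul
    intro k'
    have := hv (k' • w)
    rwa [trB_apply, map_smul, smul_eq_mul] at this
  refine ⟨key, ?_⟩
  intro v hv
  apply key v
  intro w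
  have := hv w
  rw [trB_apply] at this ⊢
  rwa [C.BK_symm]

/-- a `K`-singular vector is `F`-singular -/
theorem trQ_eq_zero {τ : K →ₗ[F] F} {QK : V → K} {v : V} (h : QK v = 0) : trQ τ QK v = 0 := by
  rw [trQ_apply, h, map_zero]

/-- `K`-orthogonal vectors are `F`-orthogonal -/
theorem trB_eq_zero {τ : K →ₗ[F] F} {BK : LinearMap.BilinForm K V} {u v : V} (h : BK u v = 0) :
    trB τ BK u v = 0 := by
  rw [trB_apply, h, map_zero]

/-- `BK u v = 0` as soon as `trB τ BK (k • u) v = 0` for all `k` -/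
theorem Ctx.BK_eq_zero (C : Ctx θ ε τ QK BK) {u v : V} (h : ∀ k : K, trB τ BK (k • u) v = 0) :
    BK u v = 0 := by
  apply C.eq_zero_of_tau_mul
  intro k'
  have := h k'
  rwa [trB_apply, map_smul, LinearMap.smul_apply, smul_eq_mul] at this

/-- explicit formula for the `K`-Siegel elements -/
theorem Ctx.ksieg_apply (C : Ctx θ ε τ QK BK) {u w : V} (hu : QK u = 0) (huw : BK u w = 0)
    (x : V) :
    ksieg F QK BK u w x = x + BK x u • w - BK x w • u - (QK w * BK x u) • u := by
  rw [ksieg_apply', sieg_apply QK BK C.hQs C.hQp hu huw]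

/-- the `K`-Siegel elements are isometries of `trQ τ QK` -/
theorem Ctx.ksieg_mem_oG (C : Ctx θ ε τ QK BK) {u w : V} (hu : QK u = 0) (huw : BK u w = 0) :
    ksieg F QK BK u w ∈ oG (trQ τ QK) := by
  intro x
  rw [trQ_apply, trQ_apply, ksieg_apply', sieg_mem_oG QK BK C.hQs C.hQp hu huw x]

/-- an isometry of `QK` which is `K`-linear -/
theorem Ctx.hypO_oG_B (C : Ctx θ ε τ QK BK) {M : Subgroup (V ≃ₗ[F] V)} (hM : HypO τ QK BK M)
    {g : V ≃ₗ[F] V} (hg : g ∈ M) (u v : V) : trB τ BK (g u) (g v) = trB τ BK u v :=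
  oG_B (trQ τ QK) (trB τ BK) C.trQ_add (hM.le hg) u v


/-- the elements of `KS` are isometries of `QK` -/
theorem Ctx.KS_QK (C : Ctx θ ε τ QK BK) {h : V ≃ₗ[F] V} (hh : h ∈ KS F QK BK) (x : V) :
    QK (h x) = QK x := by
  have key : h ∈ ({ carrier := {g | ∀ x : V, QK (g x) = QK x}
                    mul_mem' := by
                      intro a b ha hb x
                      rw [LinearEquiv.mul_apply, ha, hb]
                    one_mem' := by intro x; rfl
                    inv_mem' := by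
                      intro a ha x
                      have := ha (a⁻¹ x)
                      rw [Cfsg.Agent.Lib.Helper94_Symp.apply_inv_apply'] at this
                      exact this.symm } :
                  Subgroup (V ≃ₗ[F] V)) := by
    refine (Subgroup.closure_le _).mpr ?_ hh
    rintro g ⟨u, w, hu, huw, rfl⟩
    intro x
    rw [ksieg_apply']
    exact sieg_mem_oG QK BK C.hQs C.hQp hu huw x
  exact key x

/-- the elements of `KS` preserve `BK` -/
theorem Ctx.KS_BK (C : Ctx θ ε τ QK BK) {h : V ≃ₗ[F] V} (hh : h ∈ KS F QK BK) (x y : V) :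
    BK (h x) (h y) = BK x y := by
  rw [B_eq QK BK C.hQp, B_eq QK BK C.hQp x y, ← map_add, C.KS_QK hh, C.KS_QK hh, C.KS_QK hh]

/-- `K` has degree two over `F` -/
theorem Ctx.finrank_FK (C : Ctx θ ε τ QK BK) : finrank F K = 2 := by
  have hli : LinearIndependent F ![(1 : K), θ] := by
    rw [LinearIndependent.pair_iff]
    intro s t h
    have h' : algebraMap F K s + t • θ = 0 := by
      rw [Algebra.algebraMap_eq_smul_one]; exact h
    exact C.dec_zero h'
  have hsp : ⊤ ≤ Submodule.span F (Set.range ![(1 : K), θ]) := by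
    intro k _
    obtain ⟨x, y, rfl⟩ := C.hdec k
    apply Submodule.add_mem
    · rw [Algebra.algebraMap_eq_smul_one]
      exact Submodule.smul_mem _ _ (Submodule.subset_span ⟨0, rfl⟩)
    · exact Submodule.smul_mem _ _ (Submodule.subset_span ⟨1, rfl⟩)
  have := finrank_eq_card_basis (Basis.mk hli hsp)
  simpa using this

/-- `dim_F V = 2 dim_K V` -/
theorem Ctx.finrank_FV (C : Ctx θ ε τ QK BK) : finrank F V = 2 * finrank K V := by
  rw [← C.finrank_FK, Module.finrank_mul_finrank]

/-- `θ`-invariance implies `K`-invariance -/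
theorem Ctx.isKinv_of_theta (C : Ctx θ ε τ QK BK) {t : Submodule F V}
    (h : ∀ x ∈ t, θ • x ∈ t) : IsKinv K t := by
  intro k x hx
  obtain ⟨a, b, rfl⟩ := C.hdec k
  rw [add_smul, algebraMap_smul, smul_assoc]
  exact t.add_mem (t.smul_mem a hx) (t.smul_mem b (h x hx))

end CtxLemmas

/-- the conclusion of Part E: `u₀ ∈ t^⊥` with `τ (QK u₀) ≠ 0`, `QK u₀` a nonsquare, and
`BK b' u₀ ≠ 0` for some `b' ∈ t` -/
def GoodU (τ : K →ₗ[F] F) (QK : V → K) (BK : LinearMap.BilinForm K V) (t : Submodule F V)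
    (u₀ : V) : Prop :=
  (∀ z ∈ t, trB τ BK z u₀ = 0) ∧ τ (QK u₀) ≠ 0 ∧ ¬ IsSquare (QK u₀) ∧ ∃ b' ∈ t, BK b' u₀ ≠ 0

/-- the root subgroup property at the singular vector `p` -/
def Root (τ : K →ₗ[F] F) (QK : V → K) (BK : LinearMap.BilinForm K V) (M : Subgroup (V ≃ₗ[F] V))
    (p : V) : Prop :=
  ∀ κ l : K, sieg (trQ τ QK) (trB τ BK) (κ • p) (l • p) ∈ M

end Cfsg.Agent.Lib.Helper97_OX2Defs
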