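import Mathlib
import Cfsg.Agent.Lib.Helper94_OrthSmall
import Cfsg.Agent.Lib.Helper94_OrthSiegel
import Cfsg.Agent.Lib.Helper98_ExtDefs
import Cfsg.Agent.Lib.Helper97_OX2Defs

set_option autoImplicit false
set_option linter.unusedSectionVars false

/-!
# The normaliser of a cubic extension field in `Ω₁₂⁺(q)`, `q` odd: shared definitions
(helper97, project OEXT3 = conjunct (15) of S5870)

Abstract setting: `F` a finite field with `2 ≠ 0`, `K ⊇ F` a field of degree three,
`τ = Tr_{K/F} : K →ₗ[F] F`; `V` a `K`-space of dimension four carrying a nondegenerate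
`K`-quadratic form `QK` with polar form `BK` (in the style of `Helper94_OrthSmall`);
`trQ τ QK = τ ∘ QK`, `trB τ BK = τ ∘ BK` (of `Helper97_OX2Defs`) are the induced `F`-forms.
We reuse `trQ`, `trB`, `ksieg`, `nmap`, `KS`, `IsKinv`, `AllSieg`, `Root` of `Helper97_OX2Defs`.

* `Ctx3 τ QK BK` : the standing hypotheses (no splitness assumption).
* `TSPair QK BK u w` : `u, w` are `K`-independent, singular and orthogonal (they span a totally
  singular `K`-line); `Split3 QK BK` : such a pair exists.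
* `Frame QK BK p p' a b` : two orthogonal hyperbolic pairs `(p, p')`, `(a, b)`.
* `kln F u w` : the `F`-subspace `K u + K w`.
* `HypO3 τ QK BK M` : `M` consists of isometries of `τ ∘ QK` and contains the `K`-Siegel elements.
* `Klin K h` : `h` is `K`-linear;  `InU Q t h` : `h` is an isometry of `Q`, `h - 1` maps `V` into
  `t`, and `h` fixes `t` pointwise.
* `Key τ QK BK M` : some `h ∈ M` lies in `U_L` for a totally singular `K`-line `L` and is not
  `K`-linear.
-/

namespace Cfsg.Agent.Lib.Helper97_OX3Defs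

open Module Cfsg.Agent.Lib.Helper94_OrthSmall Cfsg.Agent.Lib.Helper94_OrthSiegel
  Cfsg.Agent.Lib.Helper98_ExtDefs Cfsg.Agent.Lib.Helper97_OX2Defs

variable {F K V : Type*} [Field F] [Field K] [Algebra F K] [AddCommGroup V] [Module F V]
  [Module K V] [IsScalarTower F K V]

/-- the standing hypotheses of project OEXT3 (no splitness assumption) -/
structure Ctx3 (τ : K →ₗ[F] F) (QK : V → K) (BK : LinearMap.BilinForm K V) : Prop where
  h2 : (2 : F) ≠ 0
  hτ : ∀ k : K, τ k = Algebra.trace F K k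
  hdim : finrank F K = 3
  hQs : ∀ (c : K) (v : V), QK (c • v) = c * c * QK v
  hQp : ∀ u v : V, QK (u + v) = QK u + QK v + BK u v
  hN : BK.Nondegenerate
  hm : finrank K V = 4

/-- `u, w` are `K`-independent, singular and orthogonal -/
def TSPair (QK : V → K) (BK : LinearMap.BilinForm K V) (u w : V) : Prop :=
  QK u = 0 ∧ QK w = 0 ∧ BK u w = 0 ∧ ∀ a b : K, a • u + b • w = 0 → a = 0 ∧ b = 0

/-- `QK` has Witt index two -/
def Split3 (QK : V → K) (BK : LinearMap.BilinForm K V) : Prop := ∃ u w : V, TSPair QK BK u w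

/-- two orthogonal hyperbolic pairs `(p, p')`, `(a, b)` -/
structure Frame (QK : V → K) (BK : LinearMap.BilinForm K V) (p p' a b : V) : Prop where
  hp : QK p = 0
  hp' : QK p' = 0
  ha : QK a = 0
  hb : QK b = 0
  hpp' : BK p p' = 1
  hab : BK a b = 1
  hpa : BK p a = 0
  hpb : BK p b = 0
  hp'a : BK p' a = 0
  hp'b : BK p' b = 0

/-- the `F`-subspace `K u + K w` -/
def kln (F : Type*) {K V : Type*} [Field F] [Field K] [Algebra F K] [AddCommGroup V] [Module F V]
    [Module K V] [IsScalarTower F K V] (u w : V) : Submodule F V :=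
  (Submodule.span K {u, w}).restrictScalars F

theorem mem_kln {u w x : V} : x ∈ kln F (K := K) u w ↔ ∃ a b : K, x = a • u + b • w := by
  unfold kln
  rw [Submodule.restrictScalars_mem, Submodule.mem_span_pair]
  constructor
  · rintro ⟨a, b, h⟩; exact ⟨a, b, h.symm⟩
  · rintro ⟨a, b, h⟩; exact ⟨a, b, h.symm⟩

/-- the `F`-subspace `K p` -/
def kpt (F : Type*) {K V : Type*} [Field F] [Field K] [Algebra F K] [AddCommGroup V] [Module F V]
    [Module K V] [IsScalarTower F K V] (p : V) : Submodule F V :=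
  (Submodule.span K {p}).restrictScalars F

theorem mem_kpt {p x : V} : x ∈ kpt F (K := K) p ↔ ∃ a : K, x = a • p := by
  unfold kpt
  rw [Submodule.restrictScalars_mem, Submodule.mem_span_singleton]
  constructor
  · rintro ⟨a, h⟩; exact ⟨a, h.symm⟩
  · rintro ⟨a, h⟩; exact ⟨a, h.symm⟩

/-- the `F`-subspace `p^{⊥_K} = {x | BK x p = 0}` -/
def kperp (F : Type*) {K V : Type*} [Field F] [Field K] [Algebra F K] [AddCommGroup V]
    [Module F V] [Module K V] [IsScalarTower F K V] (BK : LinearMap.BilinForm K V) (p : V) :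
    Submodule F V :=
  (LinearMap.ker (BK.flip p)).restrictScalars F

theorem mem_kperp {BK : LinearMap.BilinForm K V} {p x : V} :
    x ∈ kperp F BK p ↔ BK x p = 0 := by
  unfold kperp
  rw [Submodule.restrictScalars_mem, LinearMap.mem_ker, LinearMap.BilinForm.flip_apply]

/-- the projection `x ↦ x - BK x p' • p - BK x p • p'` onto `{p, p'}^{⊥_K}` (for a hyperbolic
pair `p, p'`), as an `F`-linear map -/
def projL (F : Type*) {K V : Type*} [Field F] [Field K] [Algebra F K] [AddCommGroup V]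
    [Module F V] [Module K V] [IsScalarTower F K V] (BK : LinearMap.BilinForm K V) (p p' : V) :
    V →ₗ[F] V :=
  (LinearMap.id - (BK.flip p').smulRight p - (BK.flip p).smulRight p').restrictScalars F

theorem projL_apply {BK : LinearMap.BilinForm K V} {p p' x : V} :
    projL F BK p p' x = x - BK x p' • p - BK x p • p' := by
  simp [projL]

/-- `M` consists of isometries of `τ ∘ QK` and contains all `K`-Siegel elements -/
structure HypO3 (τ : K →ₗ[F] F) (QK : V → K) (BK : LinearMap.BilinForm K V)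
    (M : Subgroup (V ≃ₗ[F] V)) : Prop where
  le : M ≤ oG (trQ τ QK)
  sieg_mem : ∀ u w : V, QK u = 0 → BK u w = 0 → ksieg F QK BK u w ∈ M

/-- `h` is `K`-linear -/
def Klin (K : Type*) {F V : Type*} [Field F] [Field K] [AddCommGroup V] [Module F V]
    [Module K V] (h : V ≃ₗ[F] V) : Prop := ∀ (k : K) (x : V), h (k • x) = k • h x

/-- `h` is an isometry of `Q`, `h - 1` maps `V` into `t`, and `h` fixes `t` pointwise -/
def InU (Q : V → F) (t : Submodule F V) (h : V ≃ₗ[F] V) : Prop :=
  h ∈ oG Q ∧ (∀ x : V, h x - x ∈ t) ∧ ∀ x ∈ t, h x = x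

/-- some `h ∈ M` lies in `U_L` for a totally singular `K`-line `L` and is not `K`-linear -/
def Key (τ : K →ₗ[F] F) (QK : V → K) (BK : LinearMap.BilinForm K V)
    (M : Subgroup (V ≃ₗ[F] V)) : Prop :=
  ∃ u w : V, TSPair QK BK u w ∧ ∃ h ∈ M, InU (trQ τ QK) (kln F (K := K) u w) h ∧ ¬ Klin K h

theorem HypO3.KS_le {τ : K →ₗ[F] F} {QK : V → K} {BK : LinearMap.BilinForm K V}
    {M : Subgroup (V ≃ₗ[F] V)} (hM : HypO3 τ QK BK M) : KS F QK BK ≤ M := by
  unfold KS
  rw [Subgroup.closure_le]
  rintro g ⟨u, w, hu, huw, rfl⟩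
  exact hM.sieg_mem u w hu huw

section CtxLemmas

variable {τ : K →ₗ[F] F} {QK : V → K} {BK : LinearMap.BilinForm K V}

theorem Ctx3.finiteDimensional (C : Ctx3 τ QK BK) : Module.Finite F K :=
  Module.finite_of_finrank_pos (by rw [C.hdim]; norm_num)

/-- `τ (k' * k) = 0` for all `k'` forces `k = 0` (the trace form is nondegenerate) -/
theorem Ctx3.eq_zero_of_tau_mul [Finite F] (C : Ctx3 τ QK BK) {k : K}
    (h : ∀ k' : K, τ (k' * k) = 0) : k = 0 := by
  haveI := C.finiteDimensional
  haveI : Algebra.IsSeparable F K := Algebra.IsAlgebraic.isSeparable_of_perfectField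
  have hnd := traceForm_nondegenerate F K
  apply hnd.2 k
  intro k'
  have := h k'
  rwa [C.hτ] at this

theorem Ctx3.two_ne_zero_K (C : Ctx3 τ QK BK) : (2 : K) ≠ 0 := by
  intro h
  have : algebraMap F K 2 = 0 := by rw [map_ofNat]; exact h
  exact C.h2 ((map_eq_zero (algebraMap F K)).mp this)

/-- `τ` is onto -/
theorem Ctx3.exists_tau_eq_one [Finite F] (C : Ctx3 τ QK BK) : ∃ k : K, τ k = 1 := by
  by_contra hcon
  have h0 : ∀ k : K, τ k = 0 := by
    intro k
    by_contra hk
    apply hcon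
    refine ⟨(τ k)⁻¹ • k, ?_⟩
    rw [map_smul, smul_eq_mul, inv_mul_cancel₀ hk]
  have : (1 : K) = 0 := C.eq_zero_of_tau_mul (fun k' => by rw [mul_one]; exact h0 k')
  exact one_ne_zero this

/-- scalar rule of `trQ τ QK` -/
theorem Ctx3.trQ_smul (C : Ctx3 τ QK BK) (c : F) (v : V) :
    trQ τ QK (c • v) = c * c * trQ τ QK v := by
  rw [trQ_apply, ← algebraMap_smul K c v, C.hQs, ← map_mul, ← Algebra.smul_def, map_smul,
    smul_eq_mul, trQ_apply]

/-- polar rule of `trQ τ QK`, `trB τ BK` -/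
theorem Ctx3.trQ_add (C : Ctx3 τ QK BK) (u v : V) :
    trQ τ QK (u + v) = trQ τ QK u + trQ τ QK v + trB τ BK u v := by
  simp only [trQ_apply, trB_apply, C.hQp, map_add]

theorem Ctx3.BK_symm (C : Ctx3 τ QK BK) (u v : V) : BK u v = BK v u :=
  B_symm QK BK C.hQp u v

theorem Ctx3.BK_self (C : Ctx3 τ QK BK) (u : V) : BK u u = 2 * QK u :=
  B_self QK BK C.hQs C.hQp u

theorem Ctx3.trB_symm (C : Ctx3 τ QK BK) (u v : V) : trB τ BK u v = trB τ BK v u := by
  rw [trB_apply, trB_apply, C.BK_symm]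

/-- `trB τ BK` is nondegenerate -/
theorem Ctx3.trB_nondeg [Finite F] (C : Ctx3 τ QK BK) : (trB τ BK).Nondegenerate := by
  have key : ∀ v : V, (∀ w, trB τ BK v w = 0) → v = 0 := by
    intro v hv
    apply C.hN.1 v
    intro w
    apply C.eq_zero_of_tau_mul
    intro k'
    have := hv (k' • w)
    rwa [trB_apply, map_smul, smul_eq_mul] at this
  refine ⟨key, ?_⟩
  intro v hv
  apply key v
  intro w
  have := hv w
  rw [trB_apply] at this ⊢
  rwa [C.BK_symm]

/-- `BK u v = 0` as soon as `trB τ BK (k • u) v = 0` for all `k` -/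
theorem Ctx3.BK_eq_zero [Finite F] (C : Ctx3 τ QK BK) {u v : V}
    (h : ∀ k : K, trB τ BK (k • u) v = 0) : BK u v = 0 := by
  apply C.eq_zero_of_tau_mul
  intro k'
  have := h k'
  rwa [trB_apply, map_smul, LinearMap.smul_apply, smul_eq_mul] at this

/-- explicit formula for the `K`-Siegel elements -/
theorem Ctx3.ksieg_apply (C : Ctx3 τ QK BK) {u w : V} (hu : QK u = 0) (huw : BK u w = 0)
    (x : V) :
    ksieg F QK BK u w x = x + BK x u • w - BK x w • u - (QK w * BK x u) • u := by
  rw [ksieg_apply', sieg_apply QK BK C.hQs C.hQp hu huw]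

/-- the `K`-Siegel element of a totally singular pair is `1 + nmap` -/
theorem Ctx3.ksieg_eq_nmap (C : Ctx3 τ QK BK) {u w : V} (hu : QK u = 0) (hw : QK w = 0)
    (huw : BK u w = 0) (κ : K) (x : V) :
    ksieg F QK BK (κ • u) w x = x + nmap F BK κ u w x := by
  have hu' : QK (κ • u) = 0 := by rw [C.hQs, hu, mul_zero]
  have huw' : BK (κ • u) w = 0 := by rw [map_smul, LinearMap.smul_apply, huw, smul_zero]
  rw [C.ksieg_apply hu' huw', nmap_apply, hw, zero_mul, zero_smul, sub_zero, map_smul,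
    smul_eq_mul, smul_sub, smul_smul, smul_smul, smul_smul, mul_comm (BK x w) κ, sub_eq_add_neg,
    sub_eq_add_neg, add_assoc]

/-- the `K`-Siegel elements are isometries of `trQ τ QK` -/
theorem Ctx3.ksieg_mem_oG (C : Ctx3 τ QK BK) {u w : V} (hu : QK u = 0) (huw : BK u w = 0) :
    ksieg F QK BK u w ∈ oG (trQ τ QK) := by
  intro x
  rw [trQ_apply, trQ_apply, ksieg_apply', sieg_mem_oG QK BK C.hQs C.hQp hu huw x]

theorem Ctx3.hypO_oG_B (C : Ctx3 τ QK BK) {M : Subgroup (V ≃ₗ[F] V)} (hM : HypO3 τ QK BK M)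
    {g : V ≃ₗ[F] V} (hg : g ∈ M) (u v : V) : trB τ BK (g u) (g v) = trB τ BK u v :=
  oG_B (trQ τ QK) (trB τ BK) C.trQ_add (hM.le hg) u v

/-- the elements of `KS` are isometries of `QK` -/
theorem Ctx3.KS_QK (C : Ctx3 τ QK BK) {h : V ≃ₗ[F] V} (hh : h ∈ KS F QK BK) (x : V) :
    QK (h x) = QK x := by
  have key : h ∈ ({ carrier := {g | ∀ x : V, QK (g x) = QK x}
                    mul_mem' := by
                      intro a b ha hb x
                      rw [LinearEquiv.mul_apply, ha, hb]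
                    one_mem' := by intro x; rfl
                    inv_mem' := by
                      intro a ha x
                      have := ha (a⁻¹ x)
                      rw [Cfsg.Agent.Lib.Helper94_Symp.apply_inv_apply'] at this
                      exact this.symm } :
                  Subgroup (V ≃ₗ[F] V)) := by
    refine (Subgroup.closure_le _).mpr ?_ hh
    rintro g ⟨u, w, hu, huw, rfl⟩
    intro x
    rw [ksieg_apply']
    exact sieg_mem_oG QK BK C.hQs C.hQp hu huw x
  exact key x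

/-- the elements of `KS` preserve `BK` -/
theorem Ctx3.KS_BK (C : Ctx3 τ QK BK) {h : V ≃ₗ[F] V} (hh : h ∈ KS F QK BK) (x y : V) :
    BK (h x) (h y) = BK x y := by
  rw [B_eq QK BK C.hQp, B_eq QK BK C.hQp x y, ← map_add, C.KS_QK hh, C.KS_QK hh, C.KS_QK hh]

/-- `dim_F V = 12` -/
theorem Ctx3.finrank_FV (C : Ctx3 τ QK BK) : finrank F V = 12 := by
  have := Module.finrank_mul_finrank F K V
  rw [C.hdim, C.hm] at this
  omega

theorem Ctx3.isKinv_kln (u w : V) : IsKinv K (kln F (K := K) u w) := by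
  intro k x hx
  obtain ⟨a, b, rfl⟩ := mem_kln.mp hx
  exact mem_kln.mpr ⟨k * a, k * b, by rw [smul_add, smul_smul, smul_smul]⟩

end CtxLemmas

end Cfsg.Agent.Lib.Helper97_OX3Defs
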