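import Mathlib
import Cfsg.Agent.Lib.Helper97_OX3Defs
import Cfsg.Agent.Lib.Helper94_OrthVec

/-!
# OEXT3 market `oext3_packages` (architect helper97), package K1 (helper10)
`exists_ksing` (Chevalley–Warning): a totally singular `F`-subspace of dimension at least five contains a
nonzero `K`-singular vector.
-/

set_option autoImplicit false
set_option linter.unusedSectionVars false
set_option linter.unusedVariables false

namespace Cfsg.Agent.Lib.Helper10_OX3_K1

open Module Cfsg.Agent.Lib.Helper94_OrthSmall Cfsg.Agent.Lib.Helper94_OrthSiegel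
  Cfsg.Agent.Lib.Helper98_ExtDefs Cfsg.Agent.Lib.Helper97_OX2Defs
  Cfsg.Agent.Lib.Helper97_OX3Defs
open scoped commutatorElement

/-- Chevalley–Warning for a family of quadratic forms `x ↦ b i x x` on a subspace `t` -/
theorem cw_family {F V : Type*} [Field F] [Finite F] [AddCommGroup V] [Module F V]
    (t : Submodule F V) [FiniteDimensional F t] {ι : Type*} (s : Finset ι)
    (b : ι → LinearMap.BilinForm F V) (hn : 2 * s.card < finrank F t) :
    ∃ x ∈ t, x ≠ 0 ∧ ∀ i ∈ s, b i x x = 0 := by
  classical
  have hFin : Fintype F := Fintype.ofFinite F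
  obtain ⟨n, hnn⟩ : ∃ n : ℕ, n = finrank F t := ⟨_, rfl⟩
  have e : Basis (Fin n) F t := by
    rw [hnn]
    exact Module.finBasis F t
  let q : ι → MvPolynomial (Fin n) F := fun i =>
    ∑ j, ∑ l, MvPolynomial.C (b i (e j : V) (e l : V)) * (MvPolynomial.X j * MvPolynomial.X l)
  have hqdeg : ∀ i, (q i).totalDegree ≤ 2 := by
    intro i
    refine (MvPolynomial.totalDegree_finsetSum _ _).trans ?_
    apply Finset.sup_le
    intro j _
    refine (MvPolynomial.totalDegree_finsetSum _ _).trans ?_
    apply Finset.sup_le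
    intro l _
    refine (MvPolynomial.totalDegree_mul _ _).trans ?_
    rw [MvPolynomial.totalDegree_C, zero_add]
    refine (MvPolynomial.totalDegree_mul _ _).trans ?_
    rw [MvPolynomial.totalDegree_X, MvPolynomial.totalDegree_X]
  have hqeval : ∀ (i : ι) (x : Fin n → F),
      MvPolynomial.eval x (q i) =
        b i ((e.equivFun.symm x : t) : V) ((e.equivFun.symm x : t) : V) := by
    intro i x
    rw [Basis.equivFun_symm_apply]
    have e1 : ∀ w : V, b i (∑ j, x j • (e j : V)) w = ∑ j, x j * b i (e j : V) w := by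
      intro w
      simp only [map_sum, LinearMap.sum_apply, map_smul, LinearMap.smul_apply, smul_eq_mul]
    have e2 : ∀ u : V, b i u (∑ l, x l • (e l : V)) = ∑ l, x l * b i u (e l : V) := by
      intro u
      simp only [map_sum, map_smul, smul_eq_mul]
    have hL : MvPolynomial.eval x (q i) =
        ∑ j, ∑ l, b i (e j : V) (e l : V) * (x j * x l) := by
      simp only [q, map_sum, map_mul, MvPolynomial.eval_C, MvPolynomial.eval_X]
    have hv : ((∑ j, x j • e j : t) : V) = ∑ j, x j • (e j : V) := by
      simp only [Submodule.coe_sum, Submodule.coe_smul]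
    rw [hL, hv, e1]
    refine Finset.sum_congr rfl fun j _ => ?_
    rw [e2, Finset.mul_sum]
    refine Finset.sum_congr rfl fun l _ => ?_
    ring
  have hsum : (∑ i ∈ s, (q i).totalDegree) < Fintype.card (Fin n) := by
    rw [Fintype.card_fin]
    calc (∑ i ∈ s, (q i).totalDegree) ≤ ∑ i ∈ s, 2 := Finset.sum_le_sum fun i _ => hqdeg i
      _ = 2 * s.card := by rw [Finset.sum_const, smul_eq_mul, mul_comm]
      _ < finrank F t := hn
      _ = n := hnn.symm
  have hp := char_dvd_card_solutions_of_sum_lt (ringChar F) hsum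
  have hprime : (ringChar F).Prime := CharP.char_is_prime F (ringChar F)
  have h0 : ∀ i ∈ s, MvPolynomial.eval (0 : Fin n → F) (q i) = 0 := by
    intro i _
    rw [hqeval, map_zero]
    simp
  by_contra hcon
  push Not at hcon
  have hcard : Fintype.card { x : Fin n → F // ∀ i ∈ s, MvPolynomial.eval x (q i) = 0 } = 1 := by
    rw [Fintype.card_eq_one_iff]
    refine ⟨⟨0, h0⟩, fun ⟨x, hx⟩ => ?_⟩
    by_contra hne
    have hx0 : ((e.equivFun.symm x : t) : V) ≠ 0 := by
      intro h
      apply hne
      apply Subtype.ext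
      have h1 : (e.equivFun.symm x : t) = 0 := Subtype.ext h
      have h2 : x = 0 := by
        have := congrArg e.equivFun h1
        rwa [LinearEquiv.apply_symm_apply, map_zero] at this
      exact h2
    obtain ⟨i, hi, hbi⟩ := hcon _ (e.equivFun.symm x).2 hx0
    apply hbi
    rw [← hqeval]
    exact hx i hi
  rw [hcard] at hp
  exact hprime.one_lt.ne' (Nat.dvd_one.mp hp)


variable {F K V : Type*} [Field F] [Field K] [Algebra F K] [AddCommGroup V] [Module F V]
  [Module K V] [IsScalarTower F K V]
variable {τ : K →ₗ[F] F} {QK : V → K} {BK : LinearMap.BilinForm K V}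
variable [Finite F] [Finite K] [Module.Finite F V] [Module.Finite K V]

/-- K1 (Chevalley–Warning): a totally singular `F`-subspace of dimension at least five contains a
nonzero `K`-singular vector -/
theorem exists_ksing (C : Ctx3 τ QK BK) (t : Submodule F V) (ht : 5 ≤ finrank F t)
    (hts : ∀ x ∈ t, trQ τ QK x = 0) : ∃ p ∈ t, p ≠ 0 ∧ QK p = 0 := by
  classical
  have h2K : (2 : K) ≠ 0 := C.two_ne_zero_K
  -- a basis of `K` over `F`
  let bK : Basis (Fin 3) F K := Module.finBasisOfFinrankEq F K C.hdim
  obtain ⟨i0, hi0⟩ : ∃ i0, bK.repr 1 i0 ≠ 0 := by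
    by_contra hcon
    push Not at hcon
    have : bK.repr (1 : K) = 0 := by
      ext i
      exact hcon i
    have h1 : (1 : K) = 0 := by
      have := congrArg bK.repr.symm this
      rwa [LinearEquiv.symm_apply_apply, map_zero] at this
    exact one_ne_zero h1
  let b : Fin 3 → LinearMap.BilinForm F V := fun i => trB τ ((bK i / 2) • BK)
  have hb : ∀ i x, b i x x = τ (bK i * QK x) := by
    intro i x
    show τ (((bK i / 2) • BK) x x) = τ (bK i * QK x)
    rw [LinearMap.smul_apply, LinearMap.smul_apply, smul_eq_mul, C.BK_self]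
    congr 1
    field_simp
  have hcard : 2 * (Finset.univ.erase i0 : Finset (Fin 3)).card < finrank F t := by
    rw [Finset.card_erase_of_mem (Finset.mem_univ _), Finset.card_univ, Fintype.card_fin]
    omega
  obtain ⟨p, hpt, hp0, hp⟩ := cw_family t (Finset.univ.erase i0) b hcard
  refine ⟨p, hpt, hp0, ?_⟩
  have hall : ∀ i, τ (bK i * QK p) = 0 := by
    have hne : ∀ i, i ≠ i0 → τ (bK i * QK p) = 0 := by
      intro i hi
      rw [← hb]
      exact hp i (Finset.mem_erase.mpr ⟨hi, Finset.mem_univ _⟩)
    have h1 : τ (QK p) = 0 := hts p hpt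
    have h1' : (1 : K) = ∑ i, bK.repr 1 i • bK i := (bK.sum_repr 1).symm
    have h2 : τ (QK p) = ∑ i, bK.repr 1 i * τ (bK i * QK p) := by
      conv_lhs => rw [← one_mul (QK p), h1', Finset.sum_mul, map_sum]
      refine Finset.sum_congr rfl fun i _ => ?_
      rw [smul_mul_assoc, map_smul, smul_eq_mul]
    rw [h1, Finset.sum_eq_single i0 (fun i _ hi => by rw [hne i hi, mul_zero])
      (fun h => absurd (Finset.mem_univ _) h)] at h2
    intro i
    by_cases hi : i = i0
    · rw [hi]
      rcases mul_eq_zero.mp h2.symm with h | h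
      · exact absurd h hi0
      · exact h
    · exact hne i hi
  apply C.eq_zero_of_tau_mul
  intro k
  have hk : k = ∑ i, bK.repr k i • bK i := (bK.sum_repr k).symm
  rw [hk, Finset.sum_mul, map_sum]
  apply Finset.sum_eq_zero
  intro i _
  rw [smul_mul_assoc, map_smul, hall i, smul_zero]

end Cfsg.Agent.Lib.Helper10_OX3_K1
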