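import Mathlib
import Cfsg.Agent.Lib.Helper97_OX3Defs
import Cfsg.Agent.Lib.Helper94_OrthVec

/-!
# OEXT3 market `oext3_packages` (architect helper97), package PAR_T (helper10)
`finrank_inf_kperp`: `dim (t ∩ p^{⊥_K}) = 3 + dim (t ∩ K p)` for a totally singular `F`-subspace `t` of dimension
six which is its own orthogonal (trace duality on the cubic extension `K`).
-/

set_option autoImplicit false
set_option linter.unusedSectionVars false
set_option linter.unusedVariables false

namespace Cfsg.Agent.Lib.Helper10_OX3_PAR_T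

open Module Cfsg.Agent.Lib.Helper94_OrthSmall Cfsg.Agent.Lib.Helper94_OrthSiegel
  Cfsg.Agent.Lib.Helper98_ExtDefs Cfsg.Agent.Lib.Helper97_OX2Defs
  Cfsg.Agent.Lib.Helper97_OX3Defs
open scoped commutatorElement

/-- rank–nullity for the restriction of a linear map to a subspace -/
theorem finrank_map_add_inf_ker {F V W : Type*} [Field F] [AddCommGroup V] [Module F V]
    [AddCommGroup W] [Module F W] (N : V →ₗ[F] W) (t : Submodule F V) [FiniteDimensional F t] :
    finrank F ↥(t.map N) + finrank F ↥(t ⊓ LinearMap.ker N) = finrank F ↥t := by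
  have h1 := LinearMap.finrank_range_add_finrank_ker (N.domRestrict t)
  rw [LinearMap.range_domRestrict, LinearMap.ker_domRestrict] at h1
  have h2 : finrank F ↥((LinearMap.ker N).comap t.subtype) = finrank F ↥(t ⊓ LinearMap.ker N) := by
    rw [← Submodule.finrank_map_subtype_eq t ((LinearMap.ker N).comap t.subtype),
      Submodule.map_comap_subtype]
  rw [h2] at h1
  exact h1

variable {F K V : Type*} [Field F] [Field K] [Algebra F K] [AddCommGroup V] [Module F V]
  [Module K V] [IsScalarTower F K V]
variable {τ : K →ₗ[F] F} {QK : V → K} {BK : LinearMap.BilinForm K V}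
variable [Finite F] [Finite K] [Module.Finite F V] [Module.Finite K V]

/-- PAR_T: `dim (t ∩ p^{⊥_K}) = 3 + dim (t ∩ K p)` -/
theorem finrank_inf_kperp (C : Ctx3 τ QK BK) (t : Submodule F V) (ht6 : finrank F t = 6)
    (hts : ∀ x ∈ t, trQ τ QK x = 0)
    (hperp : ∀ x : V, (∀ z ∈ t, trB τ BK x z = 0) → x ∈ t) {p : V} (hp0 : p ≠ 0) :
    finrank F ↥(t ⊓ kperp F BK p) = 3 + finrank F ↥(t ⊓ kpt F (K := K) p) := by
  have := C.finiteDimensional
  have : Algebra.IsSeparable F K := Algebra.IsAlgebraic.isSeparable_of_perfectField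
  have hnd := traceForm_nondegenerate F K
  -- `t` is totally isotropic for `trB`
  have hti : ∀ x ∈ t, ∀ y ∈ t, trB τ BK x y = 0 := by
    intro x hx y hy
    have h := C.trQ_add x y
    rw [hts x hx, hts y hy, hts (x + y) (t.add_mem hx hy)] at h
    rw [zero_add, zero_add] at h
    exact h.symm
  -- the maps
  let N : V →ₗ[F] K := (BK.flip p).restrictScalars F
  have hN : ∀ x, N x = BK x p := fun x => rfl
  let mp : K →ₗ[F] V := (LinearMap.toSpanSingleton K V p).restrictScalars F
  have hmp : ∀ k, mp k = k • p := fun k => rfl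
  have hmp_inj : Function.Injective mp := by
    intro k k' h
    rw [hmp, hmp] at h
    exact smul_left_injective K hp0 h
  have hker : LinearMap.ker N = kperp F BK p := by
    ext x
    rw [LinearMap.mem_ker, hN, mem_kperp]
  -- rank–nullity
  have h1 := finrank_map_add_inf_ker N t
  rw [hker, ht6] at h1
  -- duality
  have h2 : (Algebra.traceForm F K).orthogonal (t.map N) = t.comap mp := by
    ext k
    rw [LinearMap.BilinForm.mem_orthogonal_iff, Submodule.mem_comap, hmp]
    constructor
    · intro h
      apply hperp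
      intro z hz
      rw [C.trB_symm, trB_apply, map_smul, smul_eq_mul, C.hτ, mul_comm]
      have := h (N z) (Submodule.mem_map_of_mem hz)
      rwa [Algebra.traceForm_apply, hN] at this
    · rintro h _ ⟨z, hz, rfl⟩
      rw [Algebra.traceForm_apply, hN]
      have := hti z hz (k • p) h
      rwa [trB_apply, map_smul, smul_eq_mul, C.hτ, mul_comm] at this
  have h3 := LinearMap.BilinForm.finrank_orthogonal hnd (t.map N)
  rw [h2, C.hdim] at h3
  -- `{k | k p ∈ t} ≅ t ∩ K p`
  have h4 : (t.comap mp).map mp = t ⊓ kpt F (K := K) p := by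
    rw [Submodule.map_comap_eq, inf_comm]
    congr 1
    ext x
    rw [LinearMap.mem_range, mem_kpt]
    constructor
    · rintro ⟨k, rfl⟩
      exact ⟨k, rfl⟩
    · rintro ⟨k, rfl⟩
      exact ⟨k, rfl⟩
  have h5 : finrank F ↥(t.comap mp) = finrank F ↥(t ⊓ kpt F (K := K) p) := by
    rw [← h4]
    exact LinearEquiv.finrank_eq (Submodule.equivMapOfInjective mp hmp_inj (t.comap mp))
  have h6 : finrank F ↥(t.map N) ≤ 3 := by
    have := Submodule.finrank_le (t.map N)
    rwa [C.hdim] at this
  omega

end Cfsg.Agent.Lib.Helper10_OX3_PAR_T
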