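import Mathlib
import Cfsg.Prelude.Def_GeometricClasses
import Cfsg.Agent.Lib.Helper94_Bridge
import Cfsg.Agent.Lib.Helper94_OrthSmall
import Cfsg.Agent.Lib.Helper94_OrthBridge
import Cfsg.Agent.Lib.Helper94_OrthSiegel
import Cfsg.Agent.Lib.Helper14_Siegel
import Cfsg.Agent.Lib.Helper14_SiegelOmega

set_option autoImplicit false

/-!
Bridge from helper14's matrix-level statement `[O, O] ≤ ⟨Siegel transformations⟩` (odd
characteristic, dimension at least five) to the abstract setting of `Helper94_OrthSiegel`.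
-/

namespace Cfsg.Agent.Lib.Helper94_OrthSiegelBridge

open Matrix Module Cfsg.Agent.Lib.Helper94_Symp Cfsg.Agent.Lib.Helper94_Bridge
  Cfsg.Agent.Lib.Helper94_OrthSmall Cfsg.Agent.Lib.Helper94_OrthBridge
  Cfsg.Agent.Lib.Helper94_OrthSiegel Cfsg.Agent.Lib.Helper14_Siegel
  Cfsg.Agent.Lib.Helper14_SiegelOmega

variable {ι : Type} [Fintype ι] [DecidableEq ι] {F : Type*} [Field F]

lemma hQs_of (Q : QuadraticForm F (ι → F)) (c : F) (v : ι → F) : Q (c • v) = c * c * Q v := by
  rw [QuadraticMap.map_smul, smul_eq_mul]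

lemma hQp_of (Q : QuadraticForm F (ι → F)) (u v : ι → F) :
    Q (u + v) = Q u + Q v + QuadraticMap.polarBilin Q u v := by
  rw [QuadraticMap.polarBilin_apply_apply, QuadraticMap.polar]
  ring

/-- The derived subgroup of the abstract isometry group is the image of the derived subgroup of
the prelude isometry group. -/
lemma commutator_eq_map (Q : (ι → F) → F) :
    ⁅oG Q, oG Q⁆ = (commutator ↥(Cfsg.isometryGroup F Q)).map
      ((glEquiv ι F).toMonoidHom.comp (Cfsg.isometryGroup F Q).subtype) := by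
  have hsurj : Function.Surjective (glEquiv ι F).toMonoidHom := (glEquiv ι F).surjective
  rw [← Subgroup.map_map, Subgroup.map_subtype_commutator, Subgroup.map_commutator,
    isometryGroup_eq, Subgroup.map_comap_eq_self_of_surjective hsurj]

theorem commutator_le_closure_sieg [Fintype F] (h2 : (2 : F) ≠ 0) (Q : QuadraticForm F (ι → F))
    (hQ : (QuadraticMap.polarBilin Q).Nondegenerate) (hn : 5 ≤ Fintype.card ι)
    (M : Subgroup ((ι → F) ≃ₗ[F] (ι → F)))
    (hM : ∀ u z, Q u = 0 → QuadraticMap.polarBilin Q u z = 0 →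
      sieg (⇑Q) (QuadraticMap.polarBilin Q) u z ∈ M) :
    ⁅oG (⇑Q), oG (⇑Q)⁆ ≤ M := by
  rw [commutator_eq_map]
  refine le_trans (Subgroup.map_mono (commutator_le_siegelGroup h2 Q hQ hn)) ?_
  rw [siegelGroup, MonoidHom.map_closure, Subgroup.closure_le]
  rintro _ ⟨g, ⟨u, v, c, hu, hv, huv, hg⟩, rfl⟩
  have huv' : QuadraticMap.polarBilin Q u (c • v) = 0 := by
    rw [map_smul, QuadraticMap.polarBilin_apply_apply, huv, smul_zero]
  have : ((glEquiv ι F).toMonoidHom.comp (Cfsg.isometryGroup F (⇑Q)).subtype) g =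
      sieg (⇑Q) (QuadraticMap.polarBilin Q) u (c • v) := by
    ext x : 1
    rw [sieg_apply (⇑Q) (QuadraticMap.polarBilin Q) (hQs_of Q) (hQp_of Q) hu huv']
    simp only [MonoidHom.coe_comp, Function.comp_apply, Subgroup.coe_subtype,
      MulEquiv.coe_toMonoidHom]
    rw [glEquiv_apply, hg, siegelMatrix_mulVec, hQs_of, hv]
    simp only [map_smul, QuadraticMap.polarBilin_apply_apply, smul_eq_mul]
    rw [QuadraticMap.polar_comm (⇑Q) x u, QuadraticMap.polar_comm (⇑Q) x v]
    module
  rw [SetLike.mem_coe, this]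
  exact hM u (c • v) hu huv'

end Cfsg.Agent.Lib.Helper94_OrthSiegelBridge
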