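import Mathlib
import Cfsg.Prelude.Def_GeometricClasses
import Cfsg.Agent.Lib.Helper94_Bridge
import Cfsg.Agent.Lib.Helper94_OrthSmall
import Cfsg.Agent.Lib.Helper94_OrthBridge
import Cfsg.Agent.Lib.Helper94_OrthSiegel
import Cfsg.Agent.Lib.Helper94_OrthSiegel2
import Cfsg.Agent.Lib.Helper94_OrthPara
import Cfsg.Agent.Lib.Helper94_OrthSiegelBridge
import Cfsg.Agent.Lib.Helper14_Siegel
import Cfsg.Agent.Lib.Helper14_SiegelOmega

set_option autoImplicit false

/-!
Bridge from a prelude quadratic form `Q : (ι → F) → F` with `IsNondegenerateQuadraticForm Q` to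
the abstract setting (`polarForm Q hQ`), and to `QuadraticForm` structures (`qfOf`).
-/

namespace Cfsg.Agent.Lib.Helper94_OrthGenBridge

open Matrix Module Cfsg.Agent.Lib.Helper94_Symp Cfsg.Agent.Lib.Helper94_Bridge
  Cfsg.Agent.Lib.Helper94_OrthSmall Cfsg.Agent.Lib.Helper94_OrthBridge
  Cfsg.Agent.Lib.Helper94_OrthSiegel Cfsg.Agent.Lib.Helper94_OrthSiegel2
  Cfsg.Agent.Lib.Helper94_OrthPara Cfsg.Agent.Lib.Helper94_OrthSiegelBridge
  Cfsg.Agent.Lib.Helper14_Siegel Cfsg.Agent.Lib.Helper14_SiegelOmega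

variable {ι : Type} [Fintype ι] [DecidableEq ι] {F : Type*} [Field F]

section

variable (Q : (ι → F) → F) (hQ : Cfsg.Geo.IsNondegenerateQuadraticForm Q)

include hQ in
lemma gen_hQs (c : F) (v : ι → F) : Q (c • v) = c * c * Q v := by
  rw [hQ.smul, sq]

lemma gen_hQp (u v : ι → F) : Q (u + v) = Q u + Q v + polarForm Q hQ u v := by
  rw [polarForm_apply, QuadraticMap.polar]
  ring

lemma gen_hN : (polarForm Q hQ).Nondegenerate := by
  constructor
  · intro x hx
    by_contra hx0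
    obtain ⟨y, hy⟩ := (hQ.nondegenerate x hx0).2
    exact hy (hx y)
  · intro y hy
    by_contra hy0
    obtain ⟨x, hx⟩ := (hQ.nondegenerate y hy0).1
    exact hx (hy x)

/-- The prelude form as a `QuadraticForm`. -/
noncomputable def qfOf : QuadraticForm F (ι → F) :=
  qmOf Q (polarForm Q hQ) (gen_hQs Q hQ) (gen_hQp Q hQ)

lemma coe_qfOf : ⇑(qfOf Q hQ) = Q := rfl

lemma polarBilin_qfOf : QuadraticMap.polarBilin (qfOf Q hQ) = polarForm Q hQ := by
  ext x y
  rfl

lemma polarBilin_qfOf_nondeg : (QuadraticMap.polarBilin (qfOf Q hQ)).Nondegenerate := by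
  rw [polarBilin_qfOf]
  exact gen_hN Q hQ

/-- If `[O, O]` lies in helper14's Siegel group, then it lies in any subgroup containing the
abstract Siegel elements. -/
theorem commutator_le_of_siegelGroup
    (hcomm : commutator ↥(Cfsg.isometryGroup F (⇑(qfOf Q hQ))) ≤ siegelGroup (qfOf Q hQ))
    (M : Subgroup ((ι → F) ≃ₗ[F] (ι → F)))
    (hM : ∀ u z, Q u = 0 → polarForm Q hQ u z = 0 → sieg Q (polarForm Q hQ) u z ∈ M) :
    ⁅oG Q, oG Q⁆ ≤ M := by
  have h0 : ⁅oG Q, oG Q⁆ = ⁅oG (⇑(qfOf Q hQ)), oG (⇑(qfOf Q hQ))⁆ := rfl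
  rw [h0, commutator_eq_map]
  refine le_trans (Subgroup.map_mono hcomm) ?_
  rw [siegelGroup, MonoidHom.map_closure, Subgroup.closure_le]
  rintro _ ⟨g, ⟨u, v, c, hu, hv, huv, hg⟩, rfl⟩
  have huv' : polarForm Q hQ u (c • v) = 0 := by
    rw [map_smul, polarForm_apply]
    have : QuadraticMap.polar Q u v = 0 := huv
    rw [this, smul_zero]
  have hu' : Q u = 0 := hu
  have hv' : Q v = 0 := hv
  have : ((glEquiv ι F).toMonoidHom.comp (Cfsg.isometryGroup F (⇑(qfOf Q hQ))).subtype) g =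
      sieg Q (polarForm Q hQ) u (c • v) := by
    ext x : 1
    rw [sieg_apply Q (polarForm Q hQ) (gen_hQs Q hQ) (gen_hQp Q hQ) hu' huv']
    simp only [MonoidHom.coe_comp, Function.comp_apply, Subgroup.coe_subtype,
      MulEquiv.coe_toMonoidHom]
    rw [glEquiv_apply, hg, siegelMatrix_mulVec, gen_hQs Q hQ, hv']
    simp only [map_smul, polarForm_apply, smul_eq_mul, coe_qfOf]
    rw [QuadraticMap.polar_comm Q x u, QuadraticMap.polar_comm Q x v]
    module
  rw [SetLike.mem_coe, this]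
  exact hM u (c • v) hu' huv'

end

end Cfsg.Agent.Lib.Helper94_OrthGenBridge
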