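import Mathlib

set_option autoImplicit false
set_option linter.unusedSectionVars false

/-!
Direct-sum decompositions `D : κ → Submodule F V` (independent family with supremum `⊤`):
component projections, equivariance for a linear map permuting the summands, dimension of
partial sums, and tools to build decompositions (bases with a colouring, flags).
-/

namespace Cfsg.Agent.Lib.Helper99_DecompBasic

open Module

variable {F V : Type*} [Field F] [AddCommGroup V] [Module F V]
variable {κ : Type*} [Fintype κ] [DecidableEq κ]

section proj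

variable {D : κ → Submodule F V} (hind : iSupIndep D) (htop : iSup D = ⊤)

omit [Fintype κ] [DecidableEq κ] in
include hind htop in
theorem isCompl_compl (m : κ) : IsCompl (D m) (⨆ (k) (_ : k ≠ m), D k) := by
  refine ⟨hind m, codisjoint_iff.2 ?_⟩
  rw [← iSup_split_single]
  exact htop

/-- the component of a vector in the summand `D m`. -/
noncomputable def proj (m : κ) : V →ₗ[F] V :=
  (D m).subtype ∘ₗ Submodule.projectionOnto (D m) (⨆ (k) (_ : k ≠ m), D k)
    (isCompl_compl hind htop m)

theorem proj_mem (m : κ) (v : V) : proj hind htop m v ∈ D m := by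
  unfold proj
  exact Submodule.coe_mem _

theorem proj_of_mem {m : κ} {v : V} (hv : v ∈ D m) : proj hind htop m v = v := by
  unfold proj
  rw [LinearMap.comp_apply, Submodule.subtype_apply]
  rw [Submodule.projectionOnto_apply_of_mem_left (isCompl_compl hind htop m) hv]

theorem proj_of_mem_ne {m m' : κ} {v : V} (hv : v ∈ D m') (hne : m' ≠ m) :
    proj hind htop m v = 0 := by
  unfold proj
  rw [LinearMap.comp_apply, Submodule.subtype_apply]
  have hv' : v ∈ ⨆ (k) (_ : k ≠ m), D k :=
    (le_iSup₂ (f := fun k (_ : k ≠ m) => D k) m' hne) hv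
  rw [(Submodule.projectionOnto_apply_eq_zero_iff (isCompl_compl hind htop m)).2 hv']
  rfl

theorem sum_proj (v : V) : ∑ m, proj hind htop m v = v := by
  have hv : v ∈ iSup D := by rw [htop]; trivial
  induction hv using Submodule.iSup_induction' with
  | mem m' x hx =>
    rw [Finset.sum_eq_single m']
    · exact proj_of_mem hind htop hx
    · intro m _ hm
      exact proj_of_mem_ne hind htop hx (Ne.symm hm)
    · intro h; exact absurd (Finset.mem_univ _) h
  | zero => simp
  | add x y _ _ hx hy =>
    simp only [map_add, Finset.sum_add_distrib, hx, hy]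

theorem eq_zero_of_proj {v : V} (h : ∀ m, proj hind htop m v = 0) : v = 0 := by
  rw [← sum_proj hind htop v]
  exact Finset.sum_eq_zero (fun m _ => h m)

/-- components of a vector lying in a partial sum vanish outside the index set. -/
theorem proj_of_mem_biSup {S : Finset κ} {v : V} (hv : v ∈ ⨆ m ∈ S, D m) {m : κ} (hm : m ∉ S) :
    proj hind htop m v = 0 := by
  induction hv using Submodule.iSup_induction' with
  | mem m' x hx =>
    by_cases hm' : m' ∈ S
    · rw [iSup_pos hm'] at hx
      exact proj_of_mem_ne hind htop hx (fun h => hm (h ▸ hm'))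
    · rw [iSup_neg hm'] at hx
      rw [(Submodule.mem_bot F).1 hx, map_zero]
  | zero => simp
  | add x y _ _ hx hy => rw [map_add, hx, hy, add_zero]

end proj

section stab

variable {D : κ → Submodule F V} (hind : iSupIndep D) (htop : iSup D = ⊤)
variable {T : Module.End F V} {σ : Equiv.Perm κ} (hσ : ∀ j, (D j).map T = D (σ j))

include hσ in
theorem map_pow_eq (i : ℕ) (j : κ) : (D j).map (T ^ i) = D ((σ ^ i) j) := by
  induction i generalizing j with
  | zero => rw [pow_zero, pow_zero, Module.End.one_eq_id, Submodule.map_id, Equiv.Perm.one_apply]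
  | succ i ih =>
    rw [pow_succ', Module.End.mul_eq_comp, Submodule.map_comp, ih, hσ, pow_succ',
      Equiv.Perm.mul_apply]

include hσ in
theorem apply_mem {j : κ} {v : V} (hv : v ∈ D j) : T v ∈ D (σ j) := by
  rw [← hσ]; exact Submodule.mem_map_of_mem hv

include hσ in
theorem pow_apply_mem (i : ℕ) {j : κ} {v : V} (hv : v ∈ D j) : (T ^ i) v ∈ D ((σ ^ i) j) := by
  rw [← map_pow_eq hσ]; exact Submodule.mem_map_of_mem hv

include hσ in
/-- equivariance of the component projections. -/
theorem proj_apply (m : κ) (v : V) :
    proj hind htop (σ m) (T v) = T (proj hind htop m v) := by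
  conv_lhs => rw [← sum_proj hind htop v, map_sum, map_sum]
  rw [Finset.sum_eq_single m]
  · exact proj_of_mem hind htop (apply_mem hσ (proj_mem hind htop m v))
  · intro m' _ hm'
    exact proj_of_mem_ne hind htop (apply_mem hσ (proj_mem hind htop m' v))
      (fun h => hm' (σ.injective h))
  · intro h; exact absurd (Finset.mem_univ _) h

include hind in
theorem injective_of_ne_bot (hne : ∀ j, D j ≠ ⊥) : Function.Injective D := by
  intro i j hij
  by_contra h
  have h1 := hind i
  have h2 : D i ≤ ⨆ (k) (_ : k ≠ i), D k := by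
    rw [hij]
    exact le_iSup₂ (f := fun k (_ : k ≠ i) => D k) j (Ne.symm h)
  exact hne i (eq_bot_iff.2 (h1 le_rfl h2))

include hind hσ in
theorem perm_pow_eq_one (hne : ∀ j, D j ≠ ⊥) {r : ℕ} {z : F} (hz : z ≠ 0)
    (hT : T ^ r = z • (1 : Module.End F V)) : σ ^ r = 1 := by
  ext j
  rw [Equiv.Perm.one_apply]
  apply injective_of_ne_bot hind hne
  rw [← map_pow_eq hσ, hT, Submodule.map_smul _ _ z hz]
  exact Submodule.map_id _

/-- for a permutation with `σ ^ r = 1`, `r` prime, a non-fixed point has an orbit of size `r`. -/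
theorem pow_apply_ne {r : ℕ} (hr : r.Prime) (hσr : σ ^ r = 1) {j : κ} (hj : σ j ≠ j)
    {i : ℕ} (hi0 : 0 < i) (hir : i < r) : (σ ^ i) j ≠ j := by
  intro hij
  have hcop : Nat.Coprime i r :=
    ((Nat.Prime.coprime_iff_not_dvd hr).2 (Nat.not_dvd_of_pos_of_lt hi0 hir)).symm
  obtain ⟨m, -, hm⟩ := Nat.exists_mul_mod_eq_one_of_coprime hcop hr.one_lt
  have h1 : ∀ k : ℕ, ((σ ^ i) ^ k) j = j := by
    intro k
    induction k with
    | zero => rw [pow_zero, Equiv.Perm.one_apply]
    | succ k ih => rw [pow_succ, Equiv.Perm.mul_apply, hij, ih]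
  have h3 : σ ^ (i * m) = σ := by
    have h4 : i * m = r * (i * m / r) + 1 := by
      have := Nat.div_add_mod (i * m) r
      omega
    rw [h4, pow_succ, pow_mul, hσr, one_pow, one_mul]
  have h5 := h1 m
  rw [← pow_mul, h3] at h5
  exact hj h5

theorem pow_apply_injOn {r : ℕ} (hr : r.Prime) (hσr : σ ^ r = 1) {j : κ} (hj : σ j ≠ j)
    {i i' : ℕ} (hir : i < r) (hir' : i' < r) (h : (σ ^ i) j = (σ ^ i') j) : i = i' := by
  wlog hle : i ≤ i' generalizing i i'
  · exact (this hir' hir h.symm (by omega)).symm
  by_contra hne
  have h1 : (σ ^ (i' - i)) j = j := by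
    have : σ ^ i' = σ ^ i * σ ^ (i' - i) := by rw [← pow_add]; congr 1; omega
    rw [this, Equiv.Perm.mul_apply] at h
    exact ((σ ^ i).injective h).symm
  exact pow_apply_ne hr hσr hj (by omega) (by omega) h1

end stab

section finrank

variable [FiniteDimensional F V] {D : κ → Submodule F V} (hind : iSupIndep D)

include hind in
/-- dimension of a partial sum of an independent family. -/
theorem finrank_biSup (S : Finset κ) :
    finrank F ↥(⨆ m ∈ S, D m) = ∑ m ∈ S, finrank F (D m) := by
  induction S using Finset.induction_on with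
  | empty => simp
  | insert m S hm ih =>
    rw [Finset.sum_insert hm, Finset.iSup_insert, ← ih]
    have hdisj : Disjoint (D m) (⨆ i ∈ S, D i) := by
      have := hind.disjoint_biSup (x := m) (y := (↑S : Set κ)) (by simpa using hm)
      simpa using this
    have := Submodule.finrank_sup_add_finrank_inf_eq (D m) (⨆ i ∈ S, D i)
    rw [hdisj.eq_bot, finrank_bot, add_zero] at this
    exact this

include hind in
theorem finrank_iSup_eq : finrank F ↥(iSup D) = ∑ m, finrank F (D m) := by
  have h : iSup D = ⨆ m ∈ Finset.univ, D m := by simp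
  rw [h]
  exact finrank_biSup hind Finset.univ

end finrank

end Cfsg.Agent.Lib.Helper99_DecompBasic
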