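import Mathlib
import Cfsg.Prelude.Def_GeometricClasses
import Cfsg.Agent.Lib.Helper94_OrthGenBridge
import Cfsg.Agent.Lib.Helper94_OrthSiegel2
import Cfsg.Agent.Lib.Helper99_DecompBasic

/-!
# EVEN-orthogonal package EV16 (helper10, for helper22)

`Ω(Q)` (dimension at least `7`, finite field) stabilises no direct sum decomposition into `t ≥ 2`
blocks of equal dimension.  The abelian unipotent group of Siegel elements `sieg u z`
(`z ∈ u^⊥`) has fixed space `span {u}`, hence is transitive on the blocks; so one of its elements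
moves every block, and `range (g - 1)` of dimension at most `2` forces `n ≤ 6`.
-/

set_option autoImplicit false

namespace Cfsg.Agent.Lib.Helper10_OrthEven_EV16

open Cfsg Cfsg.Geo Matrix Module
open Cfsg.Agent.Lib.Helper94_Bridge Cfsg.Agent.Lib.Helper94_OrthSmall
  Cfsg.Agent.Lib.Helper94_OrthBridge Cfsg.Agent.Lib.Helper94_OrthSiegel
  Cfsg.Agent.Lib.Helper94_OrthSiegel2 Cfsg.Agent.Lib.Helper94_OrthGenBridge
open scoped MatrixGroups

section common

variable {F V : Type*} [Field F] [AddCommGroup V] [Module F V]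

/-- a nilpotent endomorphism has a nonzero kernel vector in every nonzero invariant subspace -/
theorem exists_ker_of_nilpotent (a : Module.End F V) (ha : IsNilpotent a) (S : Submodule F V)
    (hS : S ≠ ⊥) (hinv : ∀ v ∈ S, a v ∈ S) : ∃ w ∈ S, w ≠ 0 ∧ a w = 0 := by
  classical
  obtain ⟨v, hv, hv0⟩ := Submodule.exists_mem_ne_zero_of_ne_bot hS
  obtain ⟨m, hm⟩ := ha
  have hex : ∃ j, (a ^ j) v = 0 := ⟨m, by rw [hm]; rfl⟩
  have hj : (a ^ (Nat.find hex)) v = 0 := Nat.find_spec hex
  have hj0 : Nat.find hex ≠ 0 := by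
    intro h
    rw [h, pow_zero] at hj
    exact hv0 hj
  obtain ⟨i, hi⟩ := Nat.exists_eq_succ_of_ne_zero hj0
  have hpow : ∀ l : ℕ, (a ^ l) v ∈ S := by
    intro l
    induction l with
    | zero => simpa using hv
    | succ l ih =>
      rw [pow_succ', Module.End.mul_apply]
      exact hinv _ ih
  refine ⟨(a ^ i) v, hpow i, ?_, ?_⟩
  · intro h
    have : Nat.find hex ≤ i := Nat.find_min' hex h
    omega
  · rw [← Module.End.mul_apply, ← pow_succ', ← Nat.succ_eq_add_one, ← hi]
    exact hj

/-- a finite commuting family of nilpotent endomorphisms has a common nonzero kernel vector in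
every nonzero invariant subspace -/
theorem exists_common_ker {α : Type*} (N : α → Module.End F V) (s : Finset α) :
    (∀ a ∈ s, ∀ b ∈ s, N a * N b = N b * N a) → (∀ a ∈ s, IsNilpotent (N a)) →
    ∀ S : Submodule F V, S ≠ ⊥ → (∀ a ∈ s, ∀ v ∈ S, N a v ∈ S) →
      ∃ v ∈ S, v ≠ 0 ∧ ∀ a ∈ s, N a v = 0 := by
  classical
  induction s using Finset.induction_on with
  | empty =>
    intro _ _ S hS _
    obtain ⟨v, hv, hv0⟩ := Submodule.exists_mem_ne_zero_of_ne_bot hS
    exact ⟨v, hv, hv0, by simp⟩
  | insert a s ha ih =>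
    intro hcomm hnil S hS hinv
    have hcomm' : ∀ b ∈ s, ∀ c ∈ s, N b * N c = N c * N b := fun b hb c hc =>
      hcomm b (Finset.mem_insert_of_mem hb) c (Finset.mem_insert_of_mem hc)
    have hnil' : ∀ b ∈ s, IsNilpotent (N b) := fun b hb => hnil b (Finset.mem_insert_of_mem hb)
    obtain ⟨w, hw, hw0, hwa⟩ := exists_ker_of_nilpotent (N a)
      (hnil a (Finset.mem_insert_self a s)) S hS (hinv a (Finset.mem_insert_self a s))
    have hS' : S ⊓ LinearMap.ker (N a) ≠ ⊥ := by
      intro h
      have hmem : w ∈ S ⊓ LinearMap.ker (N a) := ⟨hw, hwa⟩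
      rw [h, Submodule.mem_bot] at hmem
      exact hw0 hmem
    obtain ⟨v, hv, hv0, hvs⟩ := ih hcomm' hnil' (S ⊓ LinearMap.ker (N a)) hS' (by
      intro b hb v hv
      refine ⟨hinv b (Finset.mem_insert_of_mem hb) v hv.1, ?_⟩
      show N b v ∈ LinearMap.ker (N a)
      rw [LinearMap.mem_ker]
      have h := hcomm a (Finset.mem_insert_self a s) b (Finset.mem_insert_of_mem hb)
      have h' : N a (N b v) = N b (N a v) := by
        rw [← Module.End.mul_apply, h, Module.End.mul_apply]
      rw [h', LinearMap.mem_ker.1 hv.2, map_zero])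
    refine ⟨v, hv.1, hv0, ?_⟩
    intro b hb
    rcases Finset.mem_insert.1 hb with rfl | hb
    · exact LinearMap.mem_ker.1 hv.2
    · exact hvs b hb

/-- a fixed-point-free permutation of `Fin t` has a set `T` disjoint from its image with
`t ≤ 3 |T|` -/
theorem exists_T {t : ℕ} (σ : Equiv.Perm (Fin t)) (hσ : ∀ i, σ i ≠ i) :
    ∃ T : Finset (Fin t), Disjoint T (T.image σ) ∧ t ≤ 3 * T.card := by
  classical
  obtain ⟨T, hT, hmax⟩ := Finset.exists_max_image
    (Finset.univ.filter (fun T : Finset (Fin t) => Disjoint T (T.image σ))) Finset.card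
    ⟨∅, by simp⟩
  rw [Finset.mem_filter] at hT
  have hP := hT.2
  have hcover : ∀ i, i ∈ T ∨ i ∈ T.image σ ∨ σ i ∈ T := by
    intro i
    by_contra hcon
    push Not at hcon
    obtain ⟨h1, h2, h3⟩ := hcon
    have hP' : Disjoint (insert i T) ((insert i T).image σ) := by
      rw [Finset.image_insert, Finset.disjoint_left]
      intro a ha ha'
      rcases Finset.mem_insert.1 ha with rfl | haT
      · rcases Finset.mem_insert.1 ha' with h | h
        · exact hσ a h.symm
        · exact h2 h
      · rcases Finset.mem_insert.1 ha' with h | h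
        · exact h3 (h ▸ haT)
        · exact (Finset.disjoint_left.1 hP) haT h
    have hle := hmax (insert i T) (by rw [Finset.mem_filter]; exact ⟨Finset.mem_univ _, hP'⟩)
    rw [Finset.card_insert_of_notMem h1] at hle
    omega
  refine ⟨T, hP, ?_⟩
  have hsub : (Finset.univ : Finset (Fin t)) ⊆ T ∪ T.image σ ∪ T.image σ.symm := by
    intro i _
    rcases hcover i with h | h | h
    · exact Finset.mem_union_left _ (Finset.mem_union_left _ h)
    · exact Finset.mem_union_left _ (Finset.mem_union_right _ h)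
    · refine Finset.mem_union_right _ ?_
      rw [Finset.mem_image]
      exact ⟨σ i, h, by simp⟩
  have h1 := Finset.card_le_card hsub
  rw [Finset.card_univ, Fintype.card_fin] at h1
  have h2 := Finset.card_union_le (T ∪ T.image σ) (T.image σ.symm)
  have h3 := Finset.card_union_le T (T.image σ)
  have h4 := Finset.card_image_le (s := T) (f := σ)
  have h5 := Finset.card_image_le (s := T) (f := σ.symm)
  omega

end common

section siegel

variable {F V : Type*} [Field F] [AddCommGroup V] [Module F V]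
variable (Q : V → F) (B : LinearMap.BilinForm F V)
  (hQs : ∀ (c : F) (v : V), Q (c • v) = c * c * Q v)
  (hQp : ∀ u v : V, Q (u + v) = Q u + Q v + B u v)

/-- `sieg u z - 1` as an endomorphism -/
noncomputable def nil (u z : V) : Module.End F V := (sieg Q B u z : V →ₗ[F] V) - 1

include hQs hQp in
theorem nil_apply {u z : V} (hu : Q u = 0) (huz : B u z = 0) (x : V) :
    nil Q B u z x = B x u • z - B x z • u - (Q z * B x u) • u := by
  rw [nil, LinearMap.sub_apply, LinearEquiv.coe_coe, sieg_apply Q B hQs hQp hu huz,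
    Module.End.one_apply]
  abel

theorem sieg_eq_add_nil (u z x : V) : sieg Q B u z x = x + nil Q B u z x := by
  rw [nil, LinearMap.sub_apply, LinearEquiv.coe_coe, Module.End.one_apply]
  abel

include hQs hQp in
theorem nil_nil {u z z' : V} (hu : Q u = 0) (huz : B u z = 0) (huz' : B u z' = 0) (x : V) :
    nil Q B u z (nil Q B u z' x) = -(B x u * B z' z) • u := by
  have huu : B u u = 0 := by rw [B_self Q B hQs hQp, hu, mul_zero]
  have hzu : B z u = 0 := by rw [B_symm Q B hQp, huz]
  have hz'u : B z' u = 0 := by rw [B_symm Q B hQp, huz']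
  rw [nil_apply Q B hQs hQp hu huz, nil_apply Q B hQs hQp hu huz']
  simp only [map_sub, map_smul, LinearMap.sub_apply, LinearMap.smul_apply, smul_eq_mul, huu,
    hz'u, huz, mul_zero, sub_zero, zero_smul]
  module

include hQs hQp in
theorem nil_self {u z : V} (hu : Q u = 0) (huz : B u z = 0) : nil Q B u z u = 0 := by
  have huu : B u u = 0 := by rw [B_self Q B hQs hQp, hu, mul_zero]
  rw [nil_apply Q B hQs hQp hu huz, huu, huz]
  simp

include hQs hQp in
theorem nil_comm {u z z' : V} (hu : Q u = 0) (huz : B u z = 0) (huz' : B u z' = 0) :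
    nil Q B u z * nil Q B u z' = nil Q B u z' * nil Q B u z := by
  apply LinearMap.ext
  intro x
  rw [Module.End.mul_apply, Module.End.mul_apply, nil_nil Q B hQs hQp hu huz huz',
    nil_nil Q B hQs hQp hu huz' huz, B_symm Q B hQp z' z]

include hQs hQp in
theorem nil_nilpotent {u z : V} (hu : Q u = 0) (huz : B u z = 0) : IsNilpotent (nil Q B u z) := by
  refine ⟨3, ?_⟩
  apply LinearMap.ext
  intro x
  have h1 := nil_nil Q B hQs hQp hu huz huz x
  rw [pow_succ', pow_two, Module.End.mul_apply, Module.End.mul_apply, h1, map_smul,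
    nil_self Q B hQs hQp hu huz, smul_zero]
  rfl

include hQs hQp in
/-- the range of `sieg u z - 1` lies in `span {z, u}` -/
theorem range_nil_le {u z : V} (hu : Q u = 0) (huz : B u z = 0) :
    LinearMap.range (nil Q B u z) ≤ Submodule.span F {z, u} := by
  rintro _ ⟨x, rfl⟩
  rw [nil_apply Q B hQs hQp hu huz, Submodule.mem_span_pair]
  refine ⟨B x u, -(B x z) - Q z * B x u, ?_⟩
  module

include hQs hQp in
/-- the common fixed space of the Siegel elements `sieg u z`, `z ∈ u^⊥`, is `span {u}` -/
theorem fixed_mem_span [FiniteDimensional F V] (hN : B.Nondegenerate) (h3 : 3 ≤ finrank F V)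
    {u : V} (hu : Q u = 0) (hu0 : u ≠ 0) (v : V)
    (hv : ∀ z, B u z = 0 → nil Q B u z v = 0) : v ∈ Submodule.span F {u} := by
  have hsymm := B_symm Q B hQp
  by_cases hvu : B v u = 0
  · -- `v` is orthogonal to `u^⊥`
    have hvz : ∀ z, B u z = 0 → B v z = 0 := by
      intro z hz
      have h := hv z hz
      rw [nil_apply Q B hQs hQp hu hz, hvu] at h
      simp only [zero_smul, mul_zero, sub_zero, zero_sub, neg_eq_zero] at h
      rcases smul_eq_zero.1 h with h | h
      · exact h
      · exact absurd h hu0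
    obtain ⟨w, hw⟩ : ∃ w, B u w ≠ 0 := by
      by_contra hcon
      push Not at hcon
      exact hu0 (hN.1 u hcon)
    rw [Submodule.mem_span_singleton]
    refine ⟨B v w / B u w, ?_⟩
    symm
    rw [← sub_eq_zero]
    apply hN.1
    intro y
    have hy : B u (y - (B u y / B u w) • w) = 0 := by
      rw [map_sub, map_smul, smul_eq_mul, div_mul_cancel₀ _ hw, sub_self]
    have h := hvz _ hy
    rw [map_sub, map_smul, smul_eq_mul] at h
    rw [map_sub, LinearMap.sub_apply, map_smul, LinearMap.smul_apply, smul_eq_mul]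
    field_simp
    field_simp at h
    linear_combination h
  · -- every `z ∈ u^⊥` is a multiple of `u`: impossible
    exfalso
    have hle : LinearMap.ker (B u) ≤ Submodule.span F {u} := by
      intro z hz
      rw [LinearMap.mem_ker] at hz
      have h := hv z hz
      rw [nil_apply Q B hQs hQp hu hz] at h
      rw [Submodule.mem_span_singleton]
      refine ⟨(B v u)⁻¹ * (B v z + Q z * B v u), ?_⟩
      have h' : B v u • z = (B v z + Q z * B v u) • u := by
        rw [← sub_eq_zero, ← h]
        module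
      rw [mul_smul, ← h', smul_smul, inv_mul_cancel₀ hvu, one_smul]
    have h1 := LinearMap.finrank_range_add_finrank_ker (B u)
    have h2 : finrank F (LinearMap.range (B u)) ≤ 1 := by
      have := Submodule.finrank_le (LinearMap.range (B u))
      rwa [Module.finrank_self] at this
    have h4 := Submodule.finrank_mono hle
    have h5 : finrank F (Submodule.span F {u}) ≤ 1 := by
      rw [finrank_span_singleton hu0]
    omega

/-- images under a product of linear equivalences -/
theorem map_mul (a b : V ≃ₗ[F] V) (S : Submodule F V) :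
    S.map ((a * b : V ≃ₗ[F] V) : V →ₗ[F] V) = (S.map (b : V →ₗ[F] V)).map (a : V →ₗ[F] V) := by
  rw [← Submodule.map_comp]
  rfl

include hQs hQp in
/-- the abstract core of `EV16` -/
theorem core [Fintype F] [FiniteDimensional F V] (hN : B.Nondegenerate) (h7 : 7 ≤ finrank F V)
    {t k : ℕ} (D : Fin t → Submodule F V) (ht : 2 ≤ t) (hk : 0 < k)
    (hfr : ∀ i, finrank F (D i) = k) (hind : iSupIndep D) (htop : iSup D = ⊤)
    (hperm : ∀ u z, Q u = 0 → B u z = 0 → ∃ σ : Equiv.Perm (Fin t),
      ∀ i, (D i).map (sieg Q B u z : V →ₗ[F] V) = D (σ i)) : False := by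
  classical
  have hfin : Finite V := Module.finite_of_finite F
  have hfinV : Fintype V := Fintype.ofFinite V
  obtain ⟨u, -, hu0, hu⟩ := exists_singular_in Q B hQs hQp (⊤ : Submodule F V)
    (by rw [finrank_top]; omega)
  have hDne : ∀ i, D i ≠ ⊥ := by
    intro i h
    have := hfr i
    rw [h, finrank_bot] at this
    omega
  have hs0 : sieg Q B u 0 = 1 := sieg_zero_right Q B hQs hQp hu
  have hsmul : ∀ z z', B u z = 0 → B u z' = 0 →
      sieg Q B u z * sieg Q B u z' = sieg Q B u (z + z') := fun z z' hz hz' =>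
    sieg_mul Q B hQs hQp hu hz hz'
  -- the orbit relation
  obtain ⟨R, hRdef⟩ : ∃ R : Fin t → Fin t → Prop, ∀ i j, R i j ↔
      ∃ z, B u z = 0 ∧ (D i).map (sieg Q B u z : V →ₗ[F] V) = D j := ⟨_, fun _ _ => Iff.rfl⟩
  have hRrefl : ∀ i, R i i := by
    intro i
    rw [hRdef]
    refine ⟨0, by simp, ?_⟩
    rw [hs0]
    exact Submodule.map_id _
  have hRsymm : ∀ i j, R i j → R j i := by
    intro i j hij
    rw [hRdef] at hij ⊢
    obtain ⟨z, hz, hzD⟩ := hij
    have hz' : B u (-z) = 0 := by rw [map_neg, hz, neg_zero]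
    refine ⟨-z, hz', ?_⟩
    rw [← hzD, ← map_mul, hsmul _ _ hz' hz, neg_add_cancel, hs0]
    exact Submodule.map_id _
  have hRtrans : ∀ i j l, R i j → R j l → R i l := by
    intro i j l hij hjl
    rw [hRdef] at hij hjl ⊢
    obtain ⟨z, hz, hzD⟩ := hij
    obtain ⟨z', hz', hzD'⟩ := hjl
    refine ⟨z' + z, by rw [map_add, hz, hz', add_zero], ?_⟩
    rw [← hsmul _ _ hz' hz, map_mul, hzD, hzD']
  have hRstep : ∀ z, B u z = 0 → ∀ (σ : Equiv.Perm (Fin t)),
      (∀ i, (D i).map (sieg Q B u z : V →ₗ[F] V) = D (σ i)) → ∀ i, R i (σ i) := by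
    intro z hz σ hσ i
    rw [hRdef]
    exact ⟨z, hz, hσ i⟩
  -- the family of nilpotent endomorphisms
  obtain ⟨Zs, hZs⟩ : ∃ Zs : Finset V, ∀ z, z ∈ Zs ↔ B u z = 0 :=
    ⟨Finset.univ.filter (fun z => B u z = 0), fun z => by simp⟩
  have hZcomm : ∀ a ∈ Zs, ∀ b ∈ Zs, nil Q B u a * nil Q B u b = nil Q B u b * nil Q B u a :=
    fun a ha b hb => nil_comm Q B hQs hQp hu ((hZs a).1 ha) ((hZs b).1 hb)
  have hZnil : ∀ a ∈ Zs, IsNilpotent (nil Q B u a) := fun a ha =>
    nil_nilpotent Q B hQs hQp hu ((hZs a).1 ha)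
  -- (i) transitivity
  have hRall : ∀ i j, R i j := by
    intro i j
    by_contra hnot
    -- the sum of the blocks of an orbit contains `u`
    have horb : ∀ i₀ : Fin t, u ∈ ⨆ l ∈ Finset.univ.filter (fun l => R i₀ l), D l := by
      intro i₀
      obtain ⟨S, hS⟩ : ∃ S : Submodule F V,
          S = ⨆ l ∈ Finset.univ.filter (fun l => R i₀ l), D l := ⟨_, rfl⟩
      rw [← hS]
      have hSne : S ≠ ⊥ := by
        intro h
        apply hDne i₀
        rw [eq_bot_iff, ← h, hS]
        exact le_biSup D (Finset.mem_filter.2 ⟨Finset.mem_univ _, hRrefl i₀⟩)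
      have hSinv : ∀ z, B u z = 0 → ∀ v ∈ S, sieg Q B u z v ∈ S := by
        intro z hz v hv
        obtain ⟨σ, hσ⟩ := hperm u z hu hz
        have hmap : S.map (sieg Q B u z : V →ₗ[F] V) ≤ S := by
          rw [hS, Submodule.map_iSup]
          apply iSup_le
          intro l
          rw [Submodule.map_iSup]
          apply iSup_le
          intro hl
          rw [hσ l]
          have hl' := (Finset.mem_filter.1 hl).2
          exact le_biSup D (Finset.mem_filter.2 ⟨Finset.mem_univ _,
            hRtrans _ _ _ hl' (hRstep z hz σ hσ l)⟩)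
        exact hmap (Submodule.mem_map_of_mem hv)
      have hSinv' : ∀ a ∈ Zs, ∀ v ∈ S, nil Q B u a v ∈ S := by
        intro a ha v hv
        have h1 := hSinv a ((hZs a).1 ha) v hv
        rw [sieg_eq_add_nil] at h1
        have : nil Q B u a v = (v + nil Q B u a v) - v := by abel
        rw [this]
        exact S.sub_mem h1 hv
      obtain ⟨v, hvS, hv0, hvfix⟩ := exists_common_ker (fun z => nil Q B u z) Zs hZcomm hZnil S
        hSne hSinv'
      have hvspan := fixed_mem_span Q B hQs hQp hN (by omega) hu hu0 v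
        (fun z hz => hvfix z ((hZs z).2 hz))
      obtain ⟨c, rfl⟩ := Submodule.mem_span_singleton.1 hvspan
      have hc : c ≠ 0 := by
        rintro rfl
        exact hv0 (zero_smul _ _)
      have : u = c⁻¹ • (c • u) := by rw [smul_smul, inv_mul_cancel₀ hc, one_smul]
      rw [this]
      exact S.smul_mem _ hvS
    have hdisj : Disjoint ((Finset.univ.filter (fun l => R i l) : Finset (Fin t)) : Set (Fin t))
        ((Finset.univ.filter (fun l => R j l) : Finset (Fin t)) : Set (Fin t)) := by
      rw [Set.disjoint_left]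
      intro l hl hl'
      have h1 : R i l := (Finset.mem_filter.1 (Finset.mem_coe.1 hl)).2
      have h2 : R j l := (Finset.mem_filter.1 (Finset.mem_coe.1 hl')).2
      exact hnot (hRtrans _ _ _ h1 (hRsymm _ _ h2))
    have hd := hind.disjoint_biSup_biSup' hdisj (Finset.finite_toSet _)
    simp only [Finset.mem_coe] at hd
    have hmem : u ∈ (⨆ l ∈ Finset.univ.filter (fun l => R i l), D l) ⊓
        (⨆ l ∈ Finset.univ.filter (fun l => R j l), D l) := ⟨horb i, horb j⟩
    rw [hd.eq_bot, Submodule.mem_bot] at hmem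
    exact hu0 hmem
  -- (ii) an element moving every block
  have hmove : ∃ z, B u z = 0 ∧ ∀ i, (D i).map (sieg Q B u z : V →ₗ[F] V) ≠ D i := by
    by_contra hcon
    push Not at hcon
    have hall : ∀ z, B u z = 0 → ∀ j, (D j).map (sieg Q B u z : V →ₗ[F] V) = D j := by
      intro z hz j
      obtain ⟨i, hi⟩ := hcon z hz
      obtain ⟨z', hz', hij⟩ := (hRdef i j).1 (hRall i j)
      rw [← hij, ← map_mul, hsmul _ _ hz hz', add_comm, ← hsmul _ _ hz' hz, map_mul, hi]
    have h01 : D ⟨0, by omega⟩ = D ⟨1, by omega⟩ := by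
      obtain ⟨z, hz, h⟩ := (hRdef ⟨0, by omega⟩ ⟨1, by omega⟩).1 (hRall _ _)
      rw [← h, hall z hz]
    have := hind.injective hDne h01
    rw [Fin.mk.injEq] at this
    omega
  -- (iii) the dimension count
  obtain ⟨z, hz, hzmove⟩ := hmove
  obtain ⟨σ, hσ⟩ := hperm u z hu hz
  have hσne : ∀ i, σ i ≠ i := by
    intro i h
    apply hzmove i
    rw [hσ i, h]
  obtain ⟨T, hTdisj, hTcard⟩ := exists_T σ hσne
  obtain ⟨ST, hST⟩ : ∃ ST : Submodule F V, ST = ⨆ i ∈ T, D i := ⟨_, rfl⟩
  have hSTfr : finrank F ST = T.card * k := by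
    rw [hST, Cfsg.Agent.Lib.Helper99_DecompBasic.finrank_biSup hind T, Finset.sum_congr rfl
      (fun i _ => hfr i), Finset.sum_const, smul_eq_mul]
  have hVfr : finrank F V = t * k := by
    rw [← finrank_top F V, ← htop, Cfsg.Agent.Lib.Helper99_DecompBasic.finrank_iSup_eq hind,
      Finset.sum_congr rfl (fun i _ => hfr i), Finset.sum_const, smul_eq_mul, Finset.card_univ,
      Fintype.card_fin]
  have hinf : ST ⊓ LinearMap.ker (nil Q B u z) = ⊥ := by
    rw [eq_bot_iff]
    rintro v ⟨hvS, hvk⟩
    rw [SetLike.mem_coe, LinearMap.mem_ker] at hvk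
    have hgv : sieg Q B u z v = v := by rw [sieg_eq_add_nil, hvk, add_zero]
    have hmem : v ∈ ST.map (sieg Q B u z : V →ₗ[F] V) := by
      rw [Submodule.mem_map]
      exact ⟨v, hvS, hgv⟩
    have hle : ST.map (sieg Q B u z : V →ₗ[F] V) ≤ ⨆ j ∈ T.image σ, D j := by
      rw [hST, Submodule.map_iSup]
      apply iSup_le
      intro l
      rw [Submodule.map_iSup]
      apply iSup_le
      intro hl
      rw [hσ l]
      exact le_biSup D (Finset.mem_image_of_mem σ hl)
    have hd := hind.disjoint_biSup_biSup' (s := (T : Set (Fin t)))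
      (t := ((T.image σ : Finset (Fin t)) : Set (Fin t))) (by exact_mod_cast hTdisj)
      (Finset.finite_toSet _)
    simp only [Finset.mem_coe] at hd
    have hboth : v ∈ (⨆ i ∈ T, D i) ⊓ (⨆ j ∈ T.image σ, D j) := by
      refine ⟨?_, hle hmem⟩
      rw [← hST]
      exact hvS
    rw [hd.eq_bot] at hboth
    exact hboth
  have hrange : finrank F (LinearMap.range (nil Q B u z)) ≤ 2 := by
    refine le_trans (Submodule.finrank_mono (range_nil_le Q B hQs hQp hu hz)) ?_
    have h6 := finrank_span_finset_le_card (R := F) ({z, u} : Finset V)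
    have h7' : (({z, u} : Finset V) : Set V) = {z, u} := by simp
    rw [h7', Set.finrank] at h6
    have := Finset.card_le_two (a := z) (b := u)
    omega
  have hrk := LinearMap.finrank_range_add_finrank_ker (nil Q B u z)
  have hsup := Submodule.finrank_sup_add_finrank_inf_eq ST (LinearMap.ker (nil Q B u z))
  rw [hinf, finrank_bot, add_zero] at hsup
  have hle := Submodule.finrank_le (ST ⊔ LinearMap.ker (nil Q B u z))
  have h1 : T.card * k ≤ 2 := by omega
  have h2 : t * k ≤ 3 * (T.card * k) := by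
    calc t * k ≤ (3 * T.card) * k := Nat.mul_le_mul_right k hTcard
      _ = 3 * (T.card * k) := by ring
  omega

end siegel

variable {ι : Type} [Fintype ι] [DecidableEq ι] {F : Type*} [Field F]

/-- EV16: `Ω` stabilises no direct sum decomposition into `t ≥ 2` blocks of equal dimension -/
theorem EV16 [Fintype F] (Q : (ι → F) → F) (hQ : IsNondegenerateQuadraticForm Q) (hn : 7 ≤ Fintype.card ι)
    (t k : ℕ) (D : Fin t → Submodule F (ι → F)) (hD : IsMDecomposition k D) :
    ¬ omegaGL Q ≤ decompositionStabilizer D := by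
  intro hle
  have hQs := gen_hQs Q hQ
  have hQp := gen_hQp Q hQ
  have hN := gen_hN Q hQ
  have hfr : Module.finrank F (ι → F) = Fintype.card ι := Module.finrank_fintype_fun_eq_card F
  refine core Q (polarForm Q hQ) hQs hQp hN (by rw [hfr]; exact hn) D hD.two_le hD.pos hD.finrank_eq
    hD.indep hD.iSup_eq_top ?_
  intro u z hu huz
  have hg : sieg Q (polarForm Q hQ) u z ∈ ⁅oG Q, oG Q⁆ :=
    sieg_mem_commutator' Q (polarForm Q hQ) hQs hQp hN (by rw [hfr]; exact hn) hu huz
  have hA : (glEquiv ι F).symm (sieg Q (polarForm Q hQ) u z) ∈ omegaGL Q := by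
    rw [omegaGL_eq, Subgroup.mem_comap]
    simpa using hg
  obtain ⟨σ, hσ⟩ := hle hA
  refine ⟨σ, fun i => ?_⟩
  rw [← hσ i]
  congr 1
  apply LinearMap.ext
  intro x
  rw [Matrix.toLin'_apply, ← glEquiv_apply]
  simp

end Cfsg.Agent.Lib.Helper10_OrthEven_EV16
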