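import Mathlib

/-!
# EV30B (helper10, for helper99 / helper22, S5850)

The isometries of an anisotropic binary quadratic form `a x² + b x y + c y²`: each lies in the field
`E + E Z`, `Z = !![b, c; -a, 0]`, or is an involution.
-/

set_option autoImplicit false

open Matrix

namespace Cfsg.Agent.Lib.Helper10_OrthEven_EV30B

/-- A matrix `!![p, s; r, -p]` with `a s = b p + c r` and `a p² + b p r + c r² = a ≠ 0` is an involution. -/
theorem refl_sq {E : Type*} [Field E] {a b c : E} (ha : a ≠ 0) (S : Matrix (Fin 2) (Fin 2) E)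
    (h1 : a * S 0 0 ^ 2 + b * S 0 0 * S 1 0 + c * S 1 0 ^ 2 = a)
    (hw : S 1 1 = -S 0 0) (hs : a * S 0 1 = b * S 0 0 + c * S 1 0) : S * S = 1 := by
  have key : S 0 0 * S 0 0 + S 0 1 * S 1 0 = 1 := by
    apply mul_left_cancel₀ ha
    linear_combination h1 + S 1 0 * hs
  ext i j
  fin_cases i <;> fin_cases j
  · simp only [Fin.zero_eta, Matrix.mul_apply, Fin.sum_univ_two, Matrix.one_apply_eq]
    exact key
  · simp only [Fin.zero_eta, Fin.mk_one, Matrix.mul_apply, Fin.sum_univ_two, hw]
    rw [Matrix.one_apply_ne (by decide)]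
    ring
  · simp only [Fin.zero_eta, Fin.mk_one, Matrix.mul_apply, Fin.sum_univ_two, hw]
    rw [Matrix.one_apply_ne (by decide)]
    ring
  · simp only [Fin.mk_one, Matrix.mul_apply, Fin.sum_univ_two, Matrix.one_apply_eq, hw]
    linear_combination key

/-- **EV30B**. -/
theorem EV30B {E : Type*} [Field E] (a b c : E)
    (haniso : ∀ x y : E, a * x ^ 2 + b * x * y + c * y ^ 2 = 0 → x = 0 ∧ y = 0)
    (hb : (2 : E) = 0 → b ≠ 0) (S : Matrix (Fin 2) (Fin 2) E)
    (hS : ∀ u : Fin 2 → E, a * (S *ᵥ u) 0 ^ 2 + b * (S *ᵥ u) 0 * (S *ᵥ u) 1 + c * (S *ᵥ u) 1 ^ 2 =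
      a * u 0 ^ 2 + b * u 0 * u 1 + c * u 1 ^ 2) :
    (∃ k₁ k₂ : E, S = k₁ • (1 : Matrix (Fin 2) (Fin 2) E) + k₂ • !![b, c; -a, 0]) ∨ S * S = 1 := by
  have ha : a ≠ 0 := by
    intro h
    have := (haniso 1 0 (by rw [h]; ring)).1
    exact one_ne_zero this
  have hmv : ∀ (u : Fin 2 → E) (i : Fin 2), (S *ᵥ u) i = S i 0 * u 0 + S i 1 * u 1 := by
    intro u i
    simp [Matrix.mulVec, dotProduct, Fin.sum_univ_two]
  simp only [hmv] at hS
  obtain ⟨p, hp⟩ : ∃ p, p = S 0 0 := ⟨_, rfl⟩
  obtain ⟨s, hs⟩ : ∃ s, s = S 0 1 := ⟨_, rfl⟩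
  obtain ⟨r, hr⟩ : ∃ r, r = S 1 0 := ⟨_, rfl⟩
  obtain ⟨w, hw⟩ : ∃ w, w = S 1 1 := ⟨_, rfl⟩
  rw [← hp, ← hs, ← hr, ← hw] at hS
  have h1 : a * p ^ 2 + b * p * r + c * r ^ 2 = a := by
    have := hS ![1, 0]
    simp only [Matrix.cons_val_zero, Matrix.cons_val_one] at this
    linear_combination this
  have h2 : a * s ^ 2 + b * s * w + c * w ^ 2 = c := by
    have := hS ![0, 1]
    simp only [Matrix.cons_val_zero, Matrix.cons_val_one] at this
    linear_combination this
  have h3 : 2 * a * p * s + b * (p * w + r * s) + 2 * c * r * w = b := by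
    have := hS ![1, 1]
    simp only [Matrix.cons_val_zero, Matrix.cons_val_one] at this
    linear_combination this - h1 - h2
  -- the discriminant is non-zero
  have hD : b ^ 2 - 4 * a * c ≠ 0 := by
    intro hD
    by_cases h2z : (2 : E) = 0
    · have hb2 : b ^ 2 = 0 := by linear_combination hD + 2 * a * c * h2z
      exact hb h2z (pow_eq_zero_iff (by norm_num) |>.mp hb2)
    · have := (haniso (-b) (2 * a) (by linear_combination (-a) * hD)).2
      rcases mul_eq_zero.mp this with h | h
      · exact h2z h
      · exact ha h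
  obtain ⟨y, hy⟩ : ∃ y, y = p * w - r * s := ⟨_, rfl⟩
  obtain ⟨x, hx⟩ : ∃ x, x = (a * p + b * r) * s + r * c * w := ⟨_, rfl⟩
  have hdet : (1 - y) * (1 + y) * (b ^ 2 - 4 * a * c) = 0 := by
    rw [hy]
    linear_combination (-(2 * a * p * s + b * (p * w + r * s) + 2 * c * r * w + b)) * h3 +
      4 * (a * s ^ 2 + b * s * w + c * w ^ 2) * h1 + 4 * a * h2
  have hx1 : 2 * x = b * (1 - y) := by
    rw [hx, hy]
    linear_combination h3
  have hx2 : x ^ 2 + b * x * y + a * c * y ^ 2 = a * c := by
    rw [hx, hy]
    linear_combination (a * s ^ 2 + b * s * w + c * w ^ 2) * h1 + a * h2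
  have has : a * s = p * x - c * r * y := by
    rw [hx, hy]
    linear_combination (-s) * h1
  have haw : a * w = r * x + (a * p + b * r) * y := by
    rw [hx, hy]
    linear_combination (-w) * h1
  -- the two shapes
  have hrot : x = 0 → y = 1 →
      ∃ k₁ k₂ : E, S = k₁ • (1 : Matrix (Fin 2) (Fin 2) E) + k₂ • !![b, c; -a, 0] := by
    intro hx0 hy1
    rw [hx0, hy1] at has haw
    refine ⟨w, -r / a, ?_⟩
    ext i j
    fin_cases i <;> fin_cases j
    · simp only [Fin.zero_eta, Matrix.add_apply, Matrix.smul_apply, Matrix.one_apply_eq,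
        Matrix.of_apply, Matrix.cons_val', Matrix.cons_val_zero, Matrix.cons_val_fin_one, smul_eq_mul]
      rw [← hp]
      field_simp
      linear_combination -haw
    · simp only [Fin.zero_eta, Fin.mk_one, Matrix.add_apply, Matrix.smul_apply,
        Matrix.of_apply, Matrix.cons_val', Matrix.cons_val_zero, Matrix.cons_val_one,
        Matrix.cons_val_fin_one, smul_eq_mul]
      rw [Matrix.one_apply_ne (by decide), ← hs]
      field_simp
      linear_combination has
    · simp only [Fin.zero_eta, Fin.mk_one, Matrix.add_apply, Matrix.smul_apply,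
        Matrix.of_apply, Matrix.cons_val', Matrix.cons_val_zero, Matrix.cons_val_one,
        Matrix.cons_val_fin_one, smul_eq_mul]
      rw [Matrix.one_apply_ne (by decide), ← hr]
      have e : -r / a * -a = r := by field_simp
      rw [e]
      ring
    · simp only [Fin.mk_one, Matrix.add_apply, Matrix.smul_apply, Matrix.one_apply_eq,
        Matrix.of_apply, Matrix.cons_val', Matrix.cons_val_one,
        Matrix.cons_val_fin_one, smul_eq_mul]
      rw [← hw]
      ring
  have hrefl : w = -p → a * s = b * p + c * r → S * S = 1 := by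
    intro hw' hs'
    apply refl_sq ha S
    · rw [← hp, ← hr]; exact h1
    · rw [← hp, ← hw]; exact hw'
    · rw [← hp, ← hs, ← hr]; exact hs'
  rcases mul_eq_zero.mp hdet with h | h
  swap
  · exact absurd h hD
  rcases mul_eq_zero.mp h with h | h
  · -- y = 1
    have hy1 : y = 1 := by linear_combination -h
    rw [hy1] at hx1 hx2
    by_cases hx0 : x = 0
    · exact Or.inl (hrot hx0 hy1)
    · right
      have hxb : x = -b := by
        have : x * (x + b) = 0 := by linear_combination hx2
        rcases mul_eq_zero.mp this with h' | h'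
        · exact absurd h' hx0
        · linear_combination h'
      have h2z : (2 : E) = 0 := by
        have : 2 * x = 0 := by linear_combination hx1
        rcases mul_eq_zero.mp this with h' | h'
        · exact h'
        · exact absurd h' hx0
      rw [hxb, hy1] at has haw
      apply hrefl
      · apply mul_left_cancel₀ ha
        linear_combination haw + a * p * h2z
      · linear_combination has - (b * p + c * r) * h2z
  · -- y = -1
    have hy1 : y = -1 := by linear_combination h
    by_cases h2z : (2 : E) = 0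
    · -- then `y = 1` as well
      have hy1' : y = 1 := by linear_combination hy1 - h2z
      rw [hy1'] at hx1 hx2
      by_cases hx0 : x = 0
      · exact Or.inl (hrot hx0 hy1')
      · right
        have hxb : x = -b := by
          have : x * (x + b) = 0 := by linear_combination hx2
          rcases mul_eq_zero.mp this with h' | h'
          · exact absurd h' hx0
          · linear_combination h'
        rw [hxb, hy1'] at has haw
        apply hrefl
        · apply mul_left_cancel₀ ha
          linear_combination haw + a * p * h2z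
        · linear_combination has - (b * p + c * r) * h2z
    · right
      rw [hy1] at hx1
      have hxb : x = b := by
        apply mul_left_cancel₀ h2z
        linear_combination hx1
      rw [hxb, hy1] at has haw
      apply hrefl
      · apply mul_left_cancel₀ ha
        linear_combination haw
      · linear_combination has

end Cfsg.Agent.Lib.Helper10_OrthEven_EV30B
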