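import Mathlib

/-!
# EV30D (helper10, for helper99 / helper22, S5850)

Trace descent on an `E`-plane: a quadratic form `Q` over `F` on an `E`-vector space whose polar form is
`E`-self-adjoint is, on the `E`-plane spanned by `v₀, w₀`, of the shape
`lam (a x² + b x y + c y²)` for any non-zero functional `lam : E → F`.
-/

set_option autoImplicit false

open Module

namespace Cfsg.Agent.Lib.Helper10_OrthEven_EV30D

/-- Every `F`-linear functional on a finite field extension `E` is `k ↦ lam (e * k)`. -/
theorem exists_repr {F E : Type*} [Field F] [Field E] [Algebra F E] [Finite E]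
    (lam : E →ₗ[F] F) (hlam : lam ≠ 0) (φ : E →ₗ[F] F) : ∃ e : E, ∀ k : E, φ k = lam (e * k) := by
  have : Module.Finite F E := Module.Finite.of_finite
  obtain ⟨Φ, hΦ⟩ : ∃ Φ : E →ₗ[F] (E →ₗ[F] F), Φ = (LinearMap.mul F E).compr₂ lam := ⟨_, rfl⟩
  have hΦa : ∀ e k, Φ e k = lam (e * k) := by
    intro e k
    rw [hΦ, LinearMap.compr₂_apply, LinearMap.mul_apply']
  have hinj : Function.Injective Φ := by
    rw [injective_iff_map_eq_zero]
    intro e he
    by_contra hne
    apply hlam
    ext k
    have := LinearMap.congr_fun he (e⁻¹ * k)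
    rw [hΦa, ← mul_assoc, mul_inv_cancel₀ hne, one_mul] at this
    exact this
  have hsurj : Function.Surjective Φ := by
    have hfr : finrank F E = finrank F (E →ₗ[F] F) := (Subspace.dual_finrank_eq).symm
    exact (LinearMap.injective_iff_surjective_of_finrank_eq_finrank hfr).mp hinj
  obtain ⟨e, he⟩ := hsurj φ
  exact ⟨e, fun k => by rw [← he, hΦa]⟩

/-- Squaring is injective in characteristic two. -/
theorem sq_injective {K : Type*} [Field K] (h2 : (2 : K) = 0) :
    Function.Injective (fun x : K => x ^ 2) := by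
  intro x y hxy
  have hxy' : x ^ 2 = y ^ 2 := hxy
  have : (x - y) ^ 2 = 0 := by linear_combination hxy' + (y ^ 2 - x * y) * h2
  exact sub_eq_zero.mp (pow_eq_zero_iff (by norm_num) |>.mp this)

/-- Squaring is surjective on a finite field of characteristic two. -/
theorem sq_surjective {K : Type*} [Field K] [Finite K] (h2 : (2 : K) = 0) :
    Function.Surjective (fun x : K => x ^ 2) :=
  Finite.injective_iff_surjective.mp (sq_injective h2)

/-- **EV30D**. -/
theorem EV30D {F E V : Type*} [Field F] [Fintype F] [Field E] [Fintype E] [Algebra F E]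
    [AddCommGroup V] [Module F V] [Module E V] [IsScalarTower F E V]
    (Q : V → F) (hQsmul : ∀ (c : F) (v : V), Q (c • v) = c ^ 2 * Q v)
    (hadd : ∀ u u' v : V, QuadraticMap.polar Q (u + u') v = QuadraticMap.polar Q u v + QuadraticMap.polar Q u' v)
    (hsmul : ∀ (c : F) (u v : V), QuadraticMap.polar Q (c • u) v = c * QuadraticMap.polar Q u v)
    (hsa : ∀ (k : E) (u v : V), QuadraticMap.polar Q (k • u) v = QuadraticMap.polar Q u (k • v))
    (lam : E →ₗ[F] F) (hlam : lam ≠ 0) (v₀ w₀ : V) :
    ∃ a b c : E, ∀ x y : E, Q (x • v₀ + y • w₀) = lam (a * x ^ 2 + b * x * y + c * y ^ 2) := by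
  classical
  have hpolar : ∀ u v, Q (u + v) = Q u + Q v + QuadraticMap.polar Q u v := by
    intro u v
    simp only [QuadraticMap.polar]
    ring
  -- the functional `k ↦ polar Q (k • v) w`
  obtain ⟨φ, hφ⟩ : ∃ φ : V → V → (E →ₗ[F] F), ∀ v w k, φ v w k = QuadraticMap.polar Q (k • v) w :=
    ⟨fun v w =>
      { toFun := fun k => QuadraticMap.polar Q (k • v) w
        map_add' := fun k k' => by rw [add_smul, hadd]
        map_smul' := fun c k => by
          rw [smul_assoc, hsmul]
          rfl }, fun v w k => rfl⟩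
  have hself : ∀ u : V, QuadraticMap.polar Q u u = 2 * Q u := by
    intro u
    have := hQsmul 2 u
    rw [two_smul] at this
    simp only [QuadraticMap.polar]
    rw [this]
    ring
  have hquad : ∀ v : V, ∃ a : E, ∀ x : E, Q (x • v) = lam (a * x ^ 2) := by
    intro v
    by_cases h2 : (2 : F) = 0
    · -- characteristic two
      have h2E : (2 : E) = 0 := by
        have := congrArg (algebraMap F E) h2
        rw [map_ofNat, map_zero] at this
        exact this
      have hφ0 : ∀ k : E, QuadraticMap.polar Q (k • v) v = 0 := by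
        intro k
        obtain ⟨s, rfl⟩ := sq_surjective h2E k
        show QuadraticMap.polar Q ((s ^ 2) • v) v = 0
        rw [pow_two, mul_smul, hsa, hself, h2, zero_mul]
      have hNadd : ∀ x y : E, Q ((x + y) • v) = Q (x • v) + Q (y • v) := by
        intro x y
        rw [add_smul, hpolar, ← hsa, smul_smul, hφ0, add_zero]
      obtain ⟨sqrtE, hsqrt⟩ : ∃ f : E → E, ∀ k, f k ^ 2 = k :=
        ⟨fun k => Classical.choose (sq_surjective h2E k),
          fun k => Classical.choose_spec (sq_surjective h2E k)⟩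
      have hsqrt_add : ∀ k k', sqrtE (k + k') = sqrtE k + sqrtE k' := by
        intro k k'
        apply sq_injective h2E
        show sqrtE (k + k') ^ 2 = (sqrtE k + sqrtE k') ^ 2
        rw [hsqrt]
        linear_combination -(hsqrt k) - hsqrt k' - sqrtE k * sqrtE k' * h2E
      obtain ⟨ψ, hψ⟩ : ∃ ψ : E →ₗ[F] F, ∀ k, ψ k = Q (sqrtE k • v) :=
        ⟨{ toFun := fun k => Q (sqrtE k • v)
           map_add' := fun k k' => by rw [hsqrt_add, hNadd]
           map_smul' := fun c k => by
            obtain ⟨d, rfl⟩ := sq_surjective h2 c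
            have e1 : sqrtE ((d ^ 2) • k) = d • sqrtE k := by
              apply sq_injective h2E
              show sqrtE ((d ^ 2) • k) ^ 2 = (d • sqrtE k) ^ 2
              rw [hsqrt, smul_pow, hsqrt]
            show Q (sqrtE ((d ^ 2) • k) • v) = (RingHom.id F) (d ^ 2) • Q (sqrtE k • v)
            rw [e1, smul_assoc, hQsmul, RingHom.id_apply, smul_eq_mul] }, fun k => rfl⟩
      obtain ⟨a, ha⟩ := exists_repr lam hlam ψ
      refine ⟨a, fun x => ?_⟩
      rw [← ha, hψ]
      have : sqrtE (x ^ 2) = x := by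
        apply sq_injective h2E
        show sqrtE (x ^ 2) ^ 2 = x ^ 2
        rw [hsqrt]
      rw [this]
    · obtain ⟨a', ha'⟩ := exists_repr lam hlam (φ v v)
      refine ⟨algebraMap F E (2⁻¹) * a', fun x => ?_⟩
      have e1 : QuadraticMap.polar Q (x • v) (x • v) = lam (a' * (x * x)) := by
        rw [← hsa, smul_smul, ← ha', hφ]
      have e2 := hself (x • v)
      rw [mul_assoc, ← Algebra.smul_def, map_smul, smul_eq_mul, pow_two, ← e1, e2, ← mul_assoc,
        inv_mul_cancel₀ h2, one_mul]
  obtain ⟨a, ha⟩ := hquad v₀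
  obtain ⟨c, hc⟩ := hquad w₀
  obtain ⟨b, hb⟩ := exists_repr lam hlam (φ v₀ w₀)
  refine ⟨a, b, c, fun x y => ?_⟩
  have e3 : QuadraticMap.polar Q (x • v₀) (y • w₀) = lam (b * x * y) := by
    rw [← hsa, smul_smul, ← hφ, hb]
    congr 1
    ring
  rw [hpolar, ha, hc, e3, ← map_add, ← map_add]
  congr 1
  ring

end Cfsg.Agent.Lib.Helper10_OrthEven_EV30D
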