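/-
Vocabulary for S5673 (Aschbacher's theorem for the odd-dimensional orthogonal groups; helper29).
-/
import Mathlib
import Cfsg.Prelude.Def_GeometricClasses
import Cfsg.Agent.Lib.Helper98_AschDefs

set_option autoImplicit false

namespace Cfsg.Agent.Lib.Helper29_OrthOddDefs

open Cfsg Cfsg.Geo Matrix Cfsg.Agent.Lib.Helper98_AschDefs
open scoped MatrixGroups

/-- the index type of the standard odd-dimensional quadratic space -/
abbrev OI (m : ℕ) : Type := Unit ⊕ (Fin m ⊕ Fin m)

variable {F : Type*} [Field F]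

/-- `H` lies in a member of one of the geometric classes of the odd-dimensional orthogonal group -/
def InOClass [Fintype F] (m : ℕ) (H : Subgroup (GL (OI m) F)) : Prop :=
  ∃ M : Subgroup (GL (OI m) F), InOrthogonalOddClass m F M ∧ H ≤ M

theorem mem_isometryGroup_iff {ι : Type} [Fintype ι] [DecidableEq ι] (Q : (ι → F) → F) (g : GL ι F) :
    g ∈ isometryGroup F Q ↔ ∀ v, Q ((g : Matrix ι ι F) *ᵥ v) = Q v := by
  constructor
  · intro h v
    exact h v v
  · intro h u _
    exact h u

theorem polar_mulVec_of_mem {ι : Type} [Fintype ι] [DecidableEq ι] (Q : (ι → F) → F) {g : GL ι F}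
    (hg : g ∈ isometryGroup F Q) (u v : ι → F) :
    QuadraticMap.polar Q ((g : Matrix ι ι F) *ᵥ u) ((g : Matrix ι ι F) *ᵥ v) = QuadraticMap.polar Q u v := by
  rw [mem_isometryGroup_iff] at hg
  unfold QuadraticMap.polar
  rw [← Matrix.mulVec_add, hg, hg, hg]

end Cfsg.Agent.Lib.Helper29_OrthOddDefs
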