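import Mathlib
import Cfsg.Agent.Lib.Helper98_AschDefs

set_option autoImplicit false

namespace Cfsg.Agent.Lib.Helper52_Asch_SN

open Cfsg Cfsg.Geo Matrix Cfsg.Agent.Lib.Helper98_AschDefs

variable {ι : Type} [Fintype ι] [DecidableEq ι] {F : Type*} [Field F]

/-- Skolem-Noether for the full matrix algebra: every algebra automorphism is inner. -/
theorem skolem_noether_matrix (f : Matrix ι ι F ≃ₐ[F] Matrix ι ι F) :
    ∃ B : GL ι F, ∀ M : Matrix ι ι F, f M = (B : Matrix ι ι F) * M * ((B⁻¹ : GL ι F) : Matrix ι ι F) := by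
  let e : Matrix ι ι F ≃ₐ[F] Module.End F (ι → F) := Matrix.toLinAlgEquiv'
  let f' : Module.End F (ι → F) ≃ₐ[F] Module.End F (ι → F) := e.symm.trans (f.trans e)
  obtain ⟨T, hT⟩ := f'.eq_linearEquivConjAlgEquiv
  have hTT : e.symm (T : (ι → F) →ₗ[F] (ι → F)) * e.symm (T.symm : (ι → F) →ₗ[F] (ι → F)) = 1 := by
    rw [← map_mul]
    have : (T : Module.End F (ι → F)) * (T.symm : Module.End F (ι → F)) = 1 := by
      ext v; simp
    rw [this, map_one]
  have hTT' : e.symm (T.symm : (ι → F) →ₗ[F] (ι → F)) * e.symm (T : (ι → F) →ₗ[F] (ι → F)) = 1 := by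
    rw [← map_mul]
    have : (T.symm : Module.End F (ι → F)) * (T : Module.End F (ι → F)) = 1 := by
      ext v; simp
    rw [this, map_one]
  refine ⟨⟨e.symm (T : (ι → F) →ₗ[F] (ι → F)), e.symm (T.symm : (ι → F) →ₗ[F] (ι → F)), hTT, hTT'⟩, ?_⟩
  intro M
  apply e.injective
  have h1 : e (f M) = f' (e M) := by simp [f']
  rw [h1, hT]
  rw [LinearEquiv.conjAlgEquiv_apply]
  change _ = e (e.symm (T : (ι → F) →ₗ[F] (ι → F)) * M * e.symm (T.symm : (ι → F) →ₗ[F] (ι → F)))
  rw [map_mul, map_mul, AlgEquiv.apply_symm_apply, AlgEquiv.apply_symm_apply]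
  rfl

/-- an algebra endomorphism of a full matrix algebra over a field is bijective -/
theorem algHom_bijective [Nonempty ι] (f : Matrix ι ι F →ₐ[F] Matrix ι ι F) : Function.Bijective f := by
  have hinj : Function.Injective f := (f : Matrix ι ι F →+* Matrix ι ι F).injective
  have hinj' : Function.Injective f.toLinearMap := hinj
  exact ⟨hinj, LinearMap.surjective_of_injective hinj'⟩

/-- Skolem-Noether for algebra endomorphisms of the full matrix algebra -/
theorem skolem_noether_algHom [Nonempty ι] (f : Matrix ι ι F →ₐ[F] Matrix ι ι F) :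
    ∃ B : GL ι F, ∀ M : Matrix ι ι F, f M = (B : Matrix ι ι F) * M * ((B⁻¹ : GL ι F) : Matrix ι ι F) :=
  skolem_noether_matrix (AlgEquiv.ofBijective f (algHom_bijective f))

/-- Skolem-Noether for a multiplicative linear self-map of the full matrix algebra fixing `1` -/
theorem skolem_noether_linear [Nonempty ι] (Φ : Matrix ι ι F →ₗ[F] Matrix ι ι F) (h1 : Φ 1 = 1)
    (hmul : ∀ M N, Φ (M * N) = Φ M * Φ N) :
    ∃ B : GL ι F, ∀ M : Matrix ι ι F, Φ M = (B : Matrix ι ι F) * M * ((B⁻¹ : GL ι F) : Matrix ι ι F) :=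
  skolem_noether_algHom (AlgHom.ofLinearMap Φ h1 hmul)

end Cfsg.Agent.Lib.Helper52_Asch_SN
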