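import Mathlib
import Cfsg.Agent.Lib.Helper52_Asch_SN

set_option autoImplicit false

namespace Cfsg.Agent.Lib.Helper52_Asch_SNAnti

open Matrix Cfsg.Agent.Lib.Helper52_Asch_SN

variable {ι : Type} [Fintype ι] [DecidableEq ι] {F : Type*} [Field F]

/-- Skolem-Noether for linear anti-automorphisms of the full matrix algebra:
`τ M = B * Mᵀ * B⁻¹`. -/
theorem skolem_noether_anti [Nonempty ι] (τ : Matrix ι ι F →ₗ[F] Matrix ι ι F) (h1 : τ 1 = 1)
    (hmul : ∀ M N, τ (M * N) = τ N * τ M) :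
    ∃ B : GL ι F, ∀ M : Matrix ι ι F, τ M = (B : Matrix ι ι F) * Mᵀ * ((B⁻¹ : GL ι F) : Matrix ι ι F) := by
  let Φ : Matrix ι ι F →ₗ[F] Matrix ι ι F := τ.comp (Matrix.transposeLinearEquiv ι ι F F).toLinearMap
  have hΦ : ∀ M, Φ M = τ Mᵀ := fun M => rfl
  obtain ⟨B, hB⟩ := skolem_noether_linear Φ (by rw [hΦ, Matrix.transpose_one, h1])
    (by intro M N; rw [hΦ, hΦ, hΦ, Matrix.transpose_mul, hmul])
  refine ⟨B, fun M => ?_⟩
  have := hB Mᵀ
  rw [hΦ, Matrix.transpose_transpose] at this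
  exact this

/-- Skolem-Noether for `σ`-semilinear anti-automorphisms of the full matrix algebra:
`τ M = B * (M.map σ)ᵀ * B⁻¹`. -/
theorem skolem_noether_anti_semilinear [Nonempty ι] (σ : F ≃+* F) (τ : Matrix ι ι F → Matrix ι ι F)
    (hadd : ∀ M N, τ (M + N) = τ M + τ N) (hsmul : ∀ (c : F) M, τ (c • M) = σ c • τ M) (h1 : τ 1 = 1)
    (hmul : ∀ M N, τ (M * N) = τ N * τ M) :
    ∃ B : GL ι F, ∀ M : Matrix ι ι F,
      τ M = (B : Matrix ι ι F) * (M.map σ)ᵀ * ((B⁻¹ : GL ι F) : Matrix ι ι F) := by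
  let Φ : Matrix ι ι F →ₗ[F] Matrix ι ι F :=
    { toFun := fun M => τ (M.map σ.symm)ᵀ
      map_add' := by
        intro M N
        have : ((M + N).map σ.symm)ᵀ = (M.map σ.symm)ᵀ + (N.map σ.symm)ᵀ := by
          ext i j; simp
        rw [this, hadd]
      map_smul' := by
        intro c M
        have : ((c • M).map σ.symm)ᵀ = σ.symm c • (M.map σ.symm)ᵀ := by
          ext i j; simp
        rw [this, hsmul, RingEquiv.apply_symm_apply]
        rfl }
  have hΦ : ∀ M, Φ M = τ (M.map σ.symm)ᵀ := fun M => rfl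
  have hone : ((1 : Matrix ι ι F).map σ.symm)ᵀ = 1 := by
    ext i j
    by_cases hij : i = j
    · subst hij; simp
    · simp [hij, Ne.symm hij]
  have hmm : ∀ M N : Matrix ι ι F, ((M * N).map σ.symm)ᵀ = (N.map σ.symm)ᵀ * (M.map σ.symm)ᵀ := by
    intro M N
    rw [← Matrix.transpose_mul]
    congr 1
    ext i j
    simp [Matrix.mul_apply, map_sum]
  obtain ⟨B, hB⟩ := skolem_noether_linear Φ (by rw [hΦ, hone, h1])
    (by intro M N; rw [hΦ, hΦ, hΦ, hmm, hmul])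
  refine ⟨B, fun M => ?_⟩
  have := hB (M.map σ)ᵀ
  rw [hΦ] at this
  have h2 : (((M.map σ)ᵀ).map σ.symm)ᵀ = M := by
    ext i j; simp
  rw [h2] at this
  exact this

end Cfsg.Agent.Lib.Helper52_Asch_SNAnti
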