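/-
PK1 of the S5630 packages of helper98 (normalizer of `M_d(F) ⊗ 1` consists of Kronecker products).
Also exposes `exists_conj_of_algHom_matrix` (Skolem-Noether for matrix algebras),
`kron_one_injective`, `eq_one_kron_of_comm`.
-/
import Mathlib
import Cfsg.Agent.Lib.Helper98_AschDefs

set_option autoImplicit false

namespace Cfsg.Agent.Lib.Helper60_Asch_PK1

open Matrix
open scoped Kronecker

variable {F : Type*} [Field F]

/-- Skolem-Noether for matrix algebras: every algebra endomorphism of `M_n(F)` is inner. -/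
theorem exists_conj_of_algHom_matrix {n : Type*} [Fintype n] [DecidableEq n]
    (φ : Matrix n n F →ₐ[F] Matrix n n F) :
    ∃ a : GL n F, ∀ M, φ M = (a : Matrix n n F) * M * ((a⁻¹ : GL n F) : Matrix n n F) := by
  rcases isEmpty_or_nonempty n with hn | hn
  · exact ⟨1, fun M => Subsingleton.elim _ _⟩
  · have hinj : Function.Injective φ := (φ : Matrix n n F →+* Matrix n n F).injective
    have hbij : Function.Bijective φ :=
      ⟨hinj, (LinearMap.injective_iff_surjective (f := φ.toLinearMap)).1 hinj⟩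
    let ψ : Matrix n n F ≃ₐ[F] Matrix n n F := AlgEquiv.ofBijective φ hbij
    let e := Matrix.toLinAlgEquiv' (R := F) (n := n)
    obtain ⟨T, hT⟩ := (e.symm.trans (ψ.trans e)).eq_linearEquivConjAlgEquiv
    let A : Matrix n n F := LinearMap.toMatrix' (T : (n → F) →ₗ[F] (n → F))
    let B : Matrix n n F := LinearMap.toMatrix' (T.symm : (n → F) →ₗ[F] (n → F))
    have hAB : A * B = 1 := by
      rw [← LinearMap.toMatrix'_comp]
      simp
    have hBA : B * A = 1 := by
      rw [← LinearMap.toMatrix'_comp]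
      simp
    refine ⟨⟨A, B, hAB, hBA⟩, fun M => ?_⟩
    have h1 := congrArg (fun f => f (e M)) hT
    simp only [AlgEquiv.trans_apply, AlgEquiv.symm_apply_apply] at h1
    have h2 : φ M = e.symm ((T.conjAlgEquiv F) (e M)) := by
      rw [← h1]; simp [ψ]
    rw [h2]
    show _ = A * M * B
    simp only [e, A, B, Matrix.toLinAlgEquiv'_symm, LinearEquiv.conjAlgEquiv_apply]
    rw [LinearMap.toMatrixAlgEquiv'_comp, LinearMap.toMatrixAlgEquiv'_comp]
    simp [LinearMap.toMatrixAlgEquiv', Matrix.toLinAlgEquiv', Matrix.mul_assoc]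

/-- `M ↦ M ⊗ₖ 1` is injective when the second index type is inhabited. -/
theorem kron_one_injective {m n : Type*} [DecidableEq n] (k : n)
    {M N : Matrix m m F} (h : M ⊗ₖ (1 : Matrix n n F) = N ⊗ₖ (1 : Matrix n n F)) : M = N := by
  ext i j
  have := congrFun (congrFun h (i, k)) (j, k)
  simpa [Matrix.kroneckerMap_apply] using this

/-- a matrix commuting with all `M ⊗ₖ 1` is of the form `1 ⊗ₖ c` -/
theorem eq_one_kron_of_comm {m n : Type*} [Fintype m] [DecidableEq m] [Fintype n] [DecidableEq n]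
    (i0 : m) (X : Matrix (m × n) (m × n) F)
    (h : ∀ M : Matrix m m F, X * (M ⊗ₖ (1 : Matrix n n F)) = (M ⊗ₖ (1 : Matrix n n F)) * X) :
    X = (1 : Matrix m m F) ⊗ₖ (Matrix.of fun k l => X (i0, k) (i0, l)) := by
  have key : ∀ i j p q k l, X (p, k) (i, l) * (if j = q then 1 else 0) =
      (if p = i then 1 else 0) * X (j, k) (q, l) := by
    intro i j p q k l
    have := congrFun (congrFun (h (Matrix.single i j 1)) (p, k)) (q, l)
    simp only [Matrix.mul_apply, Matrix.kroneckerMap_apply, Fintype.sum_prod_type,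
      Matrix.single_apply, Matrix.one_apply] at this
    simp only [mul_ite, mul_one, mul_zero, ite_mul, one_mul, zero_mul, ite_and] at this
    simpa [Finset.sum_ite_eq, Finset.sum_ite_eq', eq_comm] using this
  ext ⟨p, k⟩ ⟨i, l⟩
  simp only [Matrix.kroneckerMap_apply, Matrix.one_apply, Matrix.of_apply]
  have h1 := key i i0 p i0 k l
  simp only [if_true, mul_one] at h1
  rw [h1]

/-- PK1: the normalizer of `M_d(F) ⊗ 1` consists of Kronecker products -/
theorem PK1 (d s : ℕ) (hd : 0 < d) (hs : 0 < s) (g : GL (Fin d × Fin s) F)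
    (hg : ∀ M : Matrix (Fin d) (Fin d) F, ∃ M' : Matrix (Fin d) (Fin d) F,
      (g : Matrix (Fin d × Fin s) (Fin d × Fin s) F) * (M ⊗ₖ (1 : Matrix (Fin s) (Fin s) F)) *
        ((g⁻¹ : GL (Fin d × Fin s) F) : Matrix (Fin d × Fin s) (Fin d × Fin s) F) = M' ⊗ₖ (1 : Matrix (Fin s) (Fin s) F)) :
    ∃ (a : GL (Fin d) F) (c : GL (Fin s) F),
      (g : Matrix (Fin d × Fin s) (Fin d × Fin s) F) = (a : Matrix (Fin d) (Fin d) F) ⊗ₖ (c : Matrix (Fin s) (Fin s) F) := by
  classical
  choose f hf using hg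
  have k0 : Fin s := ⟨0, hs⟩
  have i0 : Fin d := ⟨0, hd⟩
  set G : Matrix (Fin d × Fin s) (Fin d × Fin s) F := (g : Matrix (Fin d × Fin s) (Fin d × Fin s) F) with hG
  set Gi : Matrix (Fin d × Fin s) (Fin d × Fin s) F := ((g⁻¹ : GL (Fin d × Fin s) F) : Matrix (Fin d × Fin s) (Fin d × Fin s) F) with hGi
  have hGGi : G * Gi = 1 := by simp [hG, hGi]
  have hGiG : Gi * G = 1 := by simp [hG, hGi]
  have inj : ∀ {M N : Matrix (Fin d) (Fin d) F},
      M ⊗ₖ (1 : Matrix (Fin s) (Fin s) F) = N ⊗ₖ (1 : Matrix (Fin s) (Fin s) F) → M = N :=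
    fun h => kron_one_injective k0 h
  have f_one : f 1 = 1 := by
    apply inj
    rw [← hf 1]
    simp [hGGi]
  have kmul : ∀ M N : Matrix (Fin d) (Fin d) F, (M * N) ⊗ₖ (1 : Matrix (Fin s) (Fin s) F) =
      (M ⊗ₖ (1 : Matrix (Fin s) (Fin s) F)) * (N ⊗ₖ (1 : Matrix (Fin s) (Fin s) F)) := by
    intro M N
    have := Matrix.mul_kronecker_mul M N (1 : Matrix (Fin s) (Fin s) F) (1 : Matrix (Fin s) (Fin s) F)
    rwa [Matrix.one_mul] at this
  have f_mul : ∀ M N, f (M * N) = f M * f N := by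
    intro M N
    apply inj
    rw [← hf (M * N), kmul, kmul, ← hf M, ← hf N]
    calc G * (M ⊗ₖ (1 : Matrix (Fin s) (Fin s) F) * N ⊗ₖ (1 : Matrix (Fin s) (Fin s) F)) * Gi
        = G * M ⊗ₖ (1 : Matrix (Fin s) (Fin s) F) * (1 : Matrix _ _ F) * N ⊗ₖ (1 : Matrix (Fin s) (Fin s) F) * Gi := by
          simp only [Matrix.mul_one, Matrix.mul_assoc]
      _ = _ := by rw [← hGiG]; simp only [Matrix.mul_assoc]
  have f_add : ∀ M N, f (M + N) = f M + f N := by
    intro M N
    apply inj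
    rw [← hf (M + N), Matrix.add_kronecker, Matrix.add_kronecker, ← hf M, ← hf N,
      Matrix.mul_add, Matrix.add_mul]
  have f_smul : ∀ (c : F) M, f (c • M) = c • f M := by
    intro c M
    apply inj
    rw [← hf (c • M), Matrix.smul_kronecker, Matrix.smul_kronecker, ← hf M]
    simp
  have f_zero : f 0 = 0 := by
    have := f_smul 0 0
    simpa using this
  let φ : Matrix (Fin d) (Fin d) F →ₐ[F] Matrix (Fin d) (Fin d) F :=
    { toFun := f
      map_one' := f_one
      map_mul' := f_mul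
      map_zero' := f_zero
      map_add' := f_add
      commutes' := fun c => by
        show f (algebraMap F _ c) = algebraMap F _ c
        rw [Algebra.algebraMap_eq_smul_one, f_smul, f_one] }
  obtain ⟨a, ha⟩ := exists_conj_of_algHom_matrix φ
  have ha' : ∀ M, f M = (a : Matrix (Fin d) (Fin d) F) * M * ((a⁻¹ : GL (Fin d) F) : Matrix (Fin d) (Fin d) F) := ha
  set A : Matrix (Fin d) (Fin d) F := (a : Matrix (Fin d) (Fin d) F) with hA
  set Ai : Matrix (Fin d) (Fin d) F := ((a⁻¹ : GL (Fin d) F) : Matrix (Fin d) (Fin d) F) with hAi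
  have hAAi : A * Ai = 1 := by simp [hA, hAi]
  have hAiA : Ai * A = 1 := by simp [hA, hAi]
  -- X := (a⁻¹ ⊗ 1) * g
  set X : Matrix (Fin d × Fin s) (Fin d × Fin s) F := (Ai ⊗ₖ (1 : Matrix (Fin s) (Fin s) F)) * G with hX
  have hGM : ∀ M, G * (M ⊗ₖ (1 : Matrix (Fin s) (Fin s) F)) = (f M ⊗ₖ (1 : Matrix (Fin s) (Fin s) F)) * G := by
    intro M
    rw [← hf M, Matrix.mul_assoc, hGiG, Matrix.mul_one]
  have hXcomm : ∀ M : Matrix (Fin d) (Fin d) F,
      X * (M ⊗ₖ (1 : Matrix (Fin s) (Fin s) F)) = (M ⊗ₖ (1 : Matrix (Fin s) (Fin s) F)) * X := by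
    intro M
    rw [hX, Matrix.mul_assoc, hGM, ← Matrix.mul_assoc, ← Matrix.mul_assoc,
      ← Matrix.mul_kronecker_mul, ← Matrix.mul_kronecker_mul, ha' M]
    congr 2
    rw [← Matrix.mul_assoc, ← Matrix.mul_assoc, hAiA, Matrix.one_mul]
  have hX1 := eq_one_kron_of_comm i0 X hXcomm
  set c : Matrix (Fin s) (Fin s) F := Matrix.of fun k l => X (i0, k) (i0, l) with hc
  have hgeq : G = A ⊗ₖ c := by
    have : G = (A ⊗ₖ (1 : Matrix (Fin s) (Fin s) F)) * X := by
      rw [hX, ← Matrix.mul_assoc, ← Matrix.mul_kronecker_mul, hAAi, Matrix.mul_one]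
      simp
    rw [this, hX1, ← Matrix.mul_kronecker_mul, Matrix.mul_one, Matrix.one_mul]
  have hdetG : IsUnit G.det := by
    rw [← Matrix.isUnit_iff_isUnit_det]
    exact ⟨g, rfl⟩
  have hdetc : IsUnit c.det := by
    rw [hgeq, Matrix.det_kronecker] at hdetG
    have h2 := (IsUnit.mul_iff.1 hdetG).2
    simp only [Fintype.card_fin] at h2
    exact (isUnit_pow_iff hd.ne').1 h2
  exact ⟨a, Matrix.GeneralLinearGroup.mk'' c hdetc, hgeq⟩

end Cfsg.Agent.Lib.Helper60_Asch_PK1
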