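import Mathlib
import Cfsg.Agent.Lib.Helper60_Asch_PK1
import Cfsg.Agent.Lib.Helper52_Asch_SNAnti

set_option autoImplicit false

namespace Cfsg.Agent.Lib.Helper34_OrthOdd_OP4a

open Matrix
open scoped Kronecker

variable {F : Type*} [Field F]

/-- A symmetric invertible Gram matrix on `F^d ⊗ F^s` (with `d` odd) for which `M_d ⊗ 1` is
closed under adjoints splits as a Kronecker product of symmetric invertible matrices. -/
theorem gram_split {d s : ℕ} (hd : 0 < d) (hs : 0 < s) (hdodd : Odd d) (h2 : (2 : F) ≠ 0)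
    (T : Matrix (Fin d × Fin s) (Fin d × Fin s) F) (hTsymm : Tᵀ = T) (hTdet : IsUnit T.det)
    (hadj : ∀ M : Matrix (Fin d) (Fin d) F, ∃ M' : Matrix (Fin d) (Fin d) F,
        (M ⊗ₖ (1 : Matrix (Fin s) (Fin s) F))ᵀ * T = T * (M' ⊗ₖ (1 : Matrix (Fin s) (Fin s) F))) :
    ∃ (G₁ : Matrix (Fin d) (Fin d) F) (G₂ : Matrix (Fin s) (Fin s) F),
      G₁ᵀ = G₁ ∧ G₂ᵀ = G₂ ∧ IsUnit G₁.det ∧ IsUnit G₂.det ∧ T = G₁ ⊗ₖ G₂ := by
  classical
  have : Nonempty (Fin d) := ⟨⟨0, hd⟩⟩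
  have : Nonempty (Fin s) := ⟨⟨0, hs⟩⟩
  have k0 : Fin s := ⟨0, hs⟩
  have i0 : Fin d := ⟨0, hd⟩
  have hTinv : T⁻¹ * T = 1 := Matrix.nonsing_inv_mul T hTdet
  have hTinv' : T * T⁻¹ = 1 := Matrix.mul_nonsing_inv T hTdet
  let τ : Matrix (Fin d) (Fin d) F →ₗ[F] Matrix (Fin d) (Fin d) F :=
    { toFun := fun M => Matrix.of fun a b =>
        (T⁻¹ * (M ⊗ₖ (1 : Matrix (Fin s) (Fin s) F))ᵀ * T) (a, k0) (b, k0)
      map_add' := by
        intro M N
        ext a b
        simp only [Matrix.add_kronecker, Matrix.transpose_add, Matrix.mul_add, Matrix.add_mul,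
          Matrix.of_apply, Matrix.add_apply]
      map_smul' := by
        intro c M
        ext a b
        simp only [Matrix.smul_kronecker, Matrix.transpose_smul, Matrix.mul_smul, Matrix.smul_mul,
          Matrix.of_apply, Matrix.smul_apply, RingHom.id_apply] }
  have hτdef : ∀ M a b, τ M a b =
      (T⁻¹ * (M ⊗ₖ (1 : Matrix (Fin s) (Fin s) F))ᵀ * T) (a, k0) (b, k0) := fun M a b => rfl
  have hτ : ∀ M, T⁻¹ * (M ⊗ₖ (1 : Matrix (Fin s) (Fin s) F))ᵀ * T
      = (τ M) ⊗ₖ (1 : Matrix (Fin s) (Fin s) F) := by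
    intro M
    obtain ⟨M', hM'⟩ := hadj M
    have h1 : T⁻¹ * (M ⊗ₖ (1 : Matrix (Fin s) (Fin s) F))ᵀ * T
        = M' ⊗ₖ (1 : Matrix (Fin s) (Fin s) F) := by
      rw [mul_assoc, hM', ← mul_assoc, hTinv, one_mul]
    have h2 : τ M = M' := by
      ext a b
      rw [hτdef, h1]
      simp [Matrix.kroneckerMap_apply]
    rw [h2, h1]
  have inj : ∀ {M N : Matrix (Fin d) (Fin d) F},
      M ⊗ₖ (1 : Matrix (Fin s) (Fin s) F) = N ⊗ₖ (1 : Matrix (Fin s) (Fin s) F) → M = N :=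
    fun h => Cfsg.Agent.Lib.Helper60_Asch_PK1.kron_one_injective k0 h
  have kmul : ∀ M N : Matrix (Fin d) (Fin d) F, (M * N) ⊗ₖ (1 : Matrix (Fin s) (Fin s) F) =
      (M ⊗ₖ (1 : Matrix (Fin s) (Fin s) F)) * (N ⊗ₖ (1 : Matrix (Fin s) (Fin s) F)) := by
    intro M N
    have := Matrix.mul_kronecker_mul M N (1 : Matrix (Fin s) (Fin s) F) (1 : Matrix (Fin s) (Fin s) F)
    rw [mul_one] at this
    exact this
  have hτ1 : τ 1 = 1 := by
    apply inj
    rw [← hτ 1, Matrix.one_kronecker_one, Matrix.transpose_one, mul_one, hTinv]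
  have hτmul : ∀ M N, τ (M * N) = τ N * τ M := by
    intro M N
    apply inj
    rw [kmul, ← hτ, ← hτ, ← hτ, kmul, Matrix.transpose_mul]
    calc T⁻¹ * ((N ⊗ₖ (1 : Matrix (Fin s) (Fin s) F))ᵀ * (M ⊗ₖ (1 : Matrix (Fin s) (Fin s) F))ᵀ) * T
        = T⁻¹ * (N ⊗ₖ (1 : Matrix (Fin s) (Fin s) F))ᵀ * (T * T⁻¹) *
            (M ⊗ₖ (1 : Matrix (Fin s) (Fin s) F))ᵀ * T := by
          rw [hTinv', mul_one]; simp only [mul_assoc]
      _ = T⁻¹ * (N ⊗ₖ (1 : Matrix (Fin s) (Fin s) F))ᵀ * T *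
            (T⁻¹ * (M ⊗ₖ (1 : Matrix (Fin s) (Fin s) F))ᵀ * T) := by
          simp only [mul_assoc]
  obtain ⟨B, hB⟩ := Cfsg.Agent.Lib.Helper52_Asch_SNAnti.skolem_noether_anti τ hτ1 hτmul
  set Bm : Matrix (Fin d) (Fin d) F := (B : Matrix (Fin d) (Fin d) F) with hBm
  set Bi : Matrix (Fin d) (Fin d) F := ((B⁻¹ : GL (Fin d) F) : Matrix (Fin d) (Fin d) F) with hBi
  have hBBi : Bm * Bi = 1 := by simp [hBm, hBi]
  have hBiB : Bi * Bm = 1 := by simp [hBm, hBi]
  -- (N ⊗ 1) T = T ((B N B⁻¹) ⊗ 1)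
  have hNT : ∀ N : Matrix (Fin d) (Fin d) F,
      (N ⊗ₖ (1 : Matrix (Fin s) (Fin s) F)) * T = T * ((Bm * N * Bi) ⊗ₖ (1 : Matrix (Fin s) (Fin s) F)) := by
    intro N
    have h1 := hτ Nᵀ
    rw [hB Nᵀ, Matrix.transpose_transpose] at h1
    have h3 : (Nᵀ ⊗ₖ (1 : Matrix (Fin s) (Fin s) F))ᵀ = N ⊗ₖ (1 : Matrix (Fin s) (Fin s) F) := by
      rw [← Matrix.kroneckerMap_transpose, Matrix.transpose_transpose, Matrix.transpose_one]
    rw [h3] at h1
    rw [← h1, ← mul_assoc, ← mul_assoc, hTinv', one_mul]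
  set Y : Matrix (Fin d × Fin s) (Fin d × Fin s) F := T * (Bm ⊗ₖ (1 : Matrix (Fin s) (Fin s) F)) with hY
  have hYcomm : ∀ M : Matrix (Fin d) (Fin d) F,
      Y * (M ⊗ₖ (1 : Matrix (Fin s) (Fin s) F)) = (M ⊗ₖ (1 : Matrix (Fin s) (Fin s) F)) * Y := by
    intro M
    rw [hY, ← mul_assoc, hNT M, mul_assoc, mul_assoc, ← kmul, ← kmul]
    congr 2
    rw [mul_assoc, mul_assoc, hBiB, mul_one]
  have hYeq := Cfsg.Agent.Lib.Helper60_Asch_PK1.eq_one_kron_of_comm i0 Y hYcomm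
  set G₂ : Matrix (Fin s) (Fin s) F := Matrix.of fun k l => Y (i0, k) (i0, l) with hG₂
  have hT : T = Bi ⊗ₖ G₂ := by
    have h1 : T = Y * (Bi ⊗ₖ (1 : Matrix (Fin s) (Fin s) F)) := by
      rw [hY, mul_assoc, ← kmul, hBBi, Matrix.one_kronecker_one, mul_one]
    rw [h1, hYeq, ← Matrix.mul_kronecker_mul, one_mul, mul_one]
  have hBidet : IsUnit Bi.det := by
    have : Bi.det * Bm.det = 1 := by rw [← Matrix.det_mul, hBiB, Matrix.det_one]
    exact IsUnit.of_mul_eq_one _ this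
  have hdetT : T.det = Bi.det ^ s * G₂.det ^ d := by
    rw [hT, Matrix.det_kronecker]
    simp
  have hG₂det : IsUnit G₂.det := by
    rw [hdetT] at hTdet
    have := (IsUnit.mul_iff.1 hTdet).2
    exact (isUnit_pow_iff (by omega)).1 this
  -- entrywise symmetry
  have hent : ∀ a b i j, Bi b a * G₂ j i = Bi a b * G₂ i j := by
    intro a b i j
    have := congrFun (congrFun hTsymm (a, i)) (b, j)
    rw [Matrix.transpose_apply, hT] at this
    simpa [Matrix.kroneckerMap_apply] using this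
  have hBine : Bi ≠ 0 := by
    intro h
    rw [h, Matrix.det_zero] at hBidet
    exact not_isUnit_zero hBidet
  have hG₂ne : G₂ ≠ 0 := by
    intro h
    rw [h, Matrix.det_zero] at hG₂det
    exact not_isUnit_zero hG₂det
  obtain ⟨i1, j1, hij⟩ : ∃ i j, G₂ i j ≠ 0 := by
    by_contra hcon
    push Not at hcon
    exact hG₂ne (by ext i j; simpa using hcon i j)
  obtain ⟨a1, b1, hab⟩ : ∃ a b, Bi a b ≠ 0 := by
    by_contra hcon
    push Not at hcon
    exact hBine (by ext i j; simpa using hcon i j)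
  have hji : G₂ j1 i1 ≠ 0 := by
    intro h0
    have := hent a1 b1 i1 j1
    rw [h0, mul_zero] at this
    exact (mul_ne_zero hab hij) this.symm
  set lam : F := G₂ j1 i1 / G₂ i1 j1 with hlam
  have hlam0 : lam ≠ 0 := div_ne_zero hji hij
  have hB1 : ∀ a b, Bi a b = lam * Bi b a := by
    intro a b
    have := hent a b i1 j1
    rw [hlam]
    field_simp
    linear_combination -this
  have hlamsq : lam * lam = 1 := by
    have h1 := hB1 a1 b1
    rw [hB1 b1 a1, ← mul_assoc] at h1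
    have : (lam * lam - 1) * Bi a1 b1 = 0 := by rw [sub_mul, one_mul, ← h1, sub_self]
    rcases mul_eq_zero.1 this with h | h
    · exact sub_eq_zero.1 h
    · exact absurd h hab
  have hlam1 : lam = 1 := by
    have : (lam - 1) * (lam + 1) = 0 := by ring_nf; rw [sq, hlamsq]; ring
    rcases mul_eq_zero.1 this with h | h
    · exact sub_eq_zero.1 h
    · exfalso
      have hl : lam = -1 := eq_neg_of_add_eq_zero_left h
      have hskew : Biᵀ = -Bi := by
        ext a b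
        rw [Matrix.transpose_apply, Matrix.neg_apply, hB1 a b, hl]; ring
      have hdet : Bi.det = -Bi.det := by
        conv_lhs => rw [← Matrix.det_transpose, hskew, Matrix.det_neg, Fintype.card_fin,
          hdodd.neg_one_pow, neg_one_mul]
      have : (2 : F) * Bi.det = 0 := by
        rw [two_mul]; nth_rewrite 1 [hdet]; ring
      rcases mul_eq_zero.1 this with h | h
      · exact h2 h
      · rw [h] at hBidet; exact not_isUnit_zero hBidet
  have hBisymm : Biᵀ = Bi := by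
    ext a b
    rw [Matrix.transpose_apply, hB1 a b, hlam1, one_mul]
  have hG₂symm : G₂ᵀ = G₂ := by
    ext i j
    rw [Matrix.transpose_apply]
    have := hent a1 b1 i j
    have hba : Bi b1 a1 = Bi a1 b1 := by
      have := congrFun (congrFun hBisymm a1) b1
      rwa [Matrix.transpose_apply] at this
    rw [hba] at this
    exact mul_left_cancel₀ hab this
  exact ⟨Bi, G₂, hBisymm, hG₂symm, hBidet, hG₂det, hT⟩

end Cfsg.Agent.Lib.Helper34_OrthOdd_OP4a
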