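import Mathlib
import Cfsg.Agent.Lib.Helper40_SpConj
import Cfsg.Agent.S0750

set_option autoImplicit false

/-!
Isometries of odd order (prime to the characteristic) of a quadratic form with nondegenerate polar
form over a finite field that are conjugate under a linear map are conjugate under an isometry.

Method: on `[V, a] = range (a - 1)` the polar form twisted by `a - a⁻¹` is alternating and
nondegenerate, so the symplectic result `Helper40_SpConj.exists_isometry_conj` gives an
intertwining isometry `[V, a] ≃ [V, b]`; it preserves the quadratic form since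
`Q ((a - 1) u) = - β ((a - 1) u) u`; Witt's theorem (`S0750`) extends it to an isometry of `V`.
-/

namespace Cfsg.Agent.Lib.Helper40_OConj

open Polynomial Module Cfsg.Agent.Lib.Helper40_Semisimple Cfsg.Agent.Lib.Helper40_SpBasic

universe v

variable {F : Type v} [Field F] {V : Type v} [AddCommGroup V] [Module F V]

/-- An isometry `a` of the quadratic form `Q` with `a ^ N = 1`, `N` odd and invertible. -/
structure OData (Q : QuadraticForm F V) (a : Module.End F V) (N : ℕ) : Prop where
  iso : ∀ x, Q (a x) = Q x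
  pow : a ^ N = 1
  odd : Odd N
  ne : (N : F) ≠ 0

/-- the polar form -/
noncomputable abbrev pol (Q : QuadraticForm F V) : LinearMap.BilinForm F V :=
  QuadraticMap.polarBilin Q

theorem pol_apply (Q : QuadraticForm F V) (x y : V) : pol Q x y = Q (x + y) - Q x - Q y := rfl

theorem pol_comm (Q : QuadraticForm F V) (x y : V) : pol Q x y = pol Q y x := by
  rw [pol_apply, pol_apply, add_comm]
  ring

theorem pol_self (Q : QuadraticForm F V) (x : V) : pol Q x x = 2 * Q x := by
  have := QuadraticMap.polar_self Q x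
  rw [two_smul] at this
  rw [two_mul]
  exact this

namespace OData

variable {Q : QuadraticForm F V} {a : Module.End F V} {N : ℕ}

theorem pos (h : OData Q a N) : 0 < N := h.odd.pos

theorem pol_iso (h : OData Q a N) (x y : V) : pol Q (a x) (a y) = pol Q x y := by
  rw [pol_apply, pol_apply, ← map_add, h.iso, h.iso, h.iso]

theorem apply_ad (h : OData Q a N) (x : V) : a ((a ^ (N - 1)) x) = x := by
  rw [← Module.End.mul_apply, ← pow_succ', Nat.sub_add_cancel h.pos, h.pow, Module.End.one_apply]

theorem ad_apply (h : OData Q a N) (x : V) : (a ^ (N - 1)) (a x) = x := by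
  rw [← Module.End.mul_apply, ← pow_succ, Nat.sub_add_cancel h.pos, h.pow, Module.End.one_apply]

theorem adj (h : OData Q a N) (x y : V) : pol Q (a x) y = pol Q x ((a ^ (N - 1)) y) := by
  rw [← h.pol_iso x ((a ^ (N - 1)) y), h.apply_ad]

theorem adj' (h : OData Q a N) (x y : V) : pol Q x (a y) = pol Q ((a ^ (N - 1)) x) y := by
  rw [← h.pol_iso ((a ^ (N - 1)) x) y, h.apply_ad]

/-- the twisting operator `a - a⁻¹` -/
noncomputable abbrev del (a : Module.End F V) (N : ℕ) : Module.End F V := a - a ^ (N - 1)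

theorem del_comm (a : Module.End F V) (N : ℕ) (x : V) : del a N (a x) = a (del a N x) := by
  show (a - a ^ (N - 1)) (a x) = a ((a - a ^ (N - 1)) x)
  have h1 : (a ^ (N - 1)) (a x) = a ((a ^ (N - 1)) x) := by
    rw [← Module.End.mul_apply, ← Module.End.mul_apply, ← pow_succ, ← pow_succ']
  rw [LinearMap.sub_apply, LinearMap.sub_apply, map_sub, h1]

/-- the twisted form -/
noncomputable abbrev tw (Q : QuadraticForm F V) (a : Module.End F V) (N : ℕ) :
    LinearMap.BilinForm F V := (pol Q).compLeft (del a N)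

theorem tw_apply (Q : QuadraticForm F V) (a : Module.End F V) (N : ℕ) (x y : V) :
    tw Q a N x y = pol Q (a x) y - pol Q ((a ^ (N - 1)) x) y := by
  show pol Q ((a - a ^ (N - 1)) x) y = _
  rw [LinearMap.sub_apply, map_sub, LinearMap.sub_apply]

theorem isoData (h : OData Q a N) : IsoData (tw Q a N) a N where
  alt := by
    intro x
    rw [tw_apply, ← h.adj', pol_comm Q x (a x), sub_self]
  iso := by
    intro x y
    show pol Q (del a N (a x)) (a y) = pol Q (del a N x) y
    rw [del_comm, h.pol_iso]
  pow := h.pow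
  pos := h.pos

/-- the commutator space `[V, a]` -/
abbrev comm (a : Module.End F V) : Submodule F V := LinearMap.range (a - 1)

theorem inv_comm (a : Module.End F V) : Inv a (comm a) := by
  rintro _ ⟨u, rfl⟩
  refine ⟨a u, ?_⟩
  rw [LinearMap.sub_apply, LinearMap.sub_apply, Module.End.one_apply, Module.End.one_apply, map_sub]

/-- a fixed vector in `[V, a]` vanishes -/
theorem eq_zero_of_fixed (h : OData Q a N) (x : V) (hx : x ∈ comm a) (hax : a x = x) : x = 0 := by
  obtain ⟨u, rfl⟩ := hx
  have h1 : ∀ i : ℕ, (a ^ i) ((a - 1) u) = (a - 1) u := by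
    intro i
    induction i with
    | zero => simp
    | succ i ih => rw [pow_succ, Module.End.mul_apply, hax, ih]
  have h2 : (∑ i ∈ Finset.range N, a ^ i) ((a - 1) u) = (N : F) • (a - 1) u := by
    rw [LinearMap.sum_apply, Finset.sum_congr rfl (fun i _ => h1 i), Finset.sum_const,
      Finset.card_range, Nat.cast_smul_eq_nsmul]
  have h3 : (∑ i ∈ Finset.range N, a ^ i) ((a - 1) u) = 0 := by
    rw [← Module.End.mul_apply, geom_sum_mul, h.pow, sub_self, LinearMap.zero_apply]
  rw [h2] at h3
  exact (smul_eq_zero.1 h3).resolve_left h.ne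

theorem pow_fixed (a : Module.End F V) (x : V) (hax : a x = x) (k : ℕ) : (a ^ k) x = x := by
  induction k with
  | zero => simp
  | succ i ih => rw [pow_succ, Module.End.mul_apply, hax, ih]

/-- `a - a⁻¹` is injective on `[V, a]` -/
theorem del_injOn (h : OData Q a N) (x : V) (hx : x ∈ comm a) (hd : del a N x = 0) : x = 0 := by
  have h1 : a x = (a ^ (N - 1)) x := by
    have : (a - a ^ (N - 1)) x = 0 := hd
    rw [LinearMap.sub_apply] at this
    exact sub_eq_zero.1 this
  have h2 : (a ^ 2) x = x := by
    rw [sq, Module.End.mul_apply, h1, h.apply_ad]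
  obtain ⟨k, hk⟩ := h.odd
  have h3 : (a ^ N) x = a x := by
    rw [hk, pow_succ, pow_mul, Module.End.mul_apply, pow_fixed (a ^ 2) (a x)]
    rw [sq, Module.End.mul_apply, ← Module.End.mul_apply a a x, ← sq, h2]
  rw [h.pow, Module.End.one_apply] at h3
  exact h.eq_zero_of_fixed x hx h3.symm

theorem del_mem (a : Module.End F V) (N : ℕ) (x : V) (hx : x ∈ comm a) : del a N x ∈ comm a := by
  show (a - a ^ (N - 1)) x ∈ comm a
  rw [LinearMap.sub_apply]
  exact (comm a).sub_mem (inv_comm a x hx) ((inv_comm a).pow_mem (N - 1) hx)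

/-- a vector orthogonal to `[V, a]` is fixed by `a` -/
theorem fixed_of_orth (h : OData Q a N) (hQ : (pol Q).Nondegenerate) (z : V)
    (hz : ∀ y ∈ comm a, pol Q z y = 0) : a z = z := by
  have h1 : ∀ u, pol Q ((a ^ (N - 1)) z - z) u = 0 := by
    intro u
    have := hz ((a - 1) u) ⟨u, rfl⟩
    rw [LinearMap.sub_apply, Module.End.one_apply, map_sub, h.adj'] at this
    rw [map_sub, LinearMap.sub_apply]
    exact this
  have h2 : (a ^ (N - 1)) z - z = 0 := hQ.1 _ h1
  have h3 : (a ^ (N - 1)) z = z := sub_eq_zero.1 h2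
  have h4 := h.apply_ad z
  rw [h3] at h4
  exact h4

/-- a fixed vector is orthogonal to `[V, a]` -/
theorem orth_of_fixed (h : OData Q a N) (z : V) (hz : a z = z) (y : V) (hy : y ∈ comm a) :
    pol Q z y = 0 := by
  obtain ⟨u, rfl⟩ := hy
  rw [LinearMap.sub_apply, Module.End.one_apply, map_sub, h.adj', pow_fixed a z hz, sub_self]

theorem ndOn_tw (h : OData Q a N) (hQ : (pol Q).Nondegenerate) : NDOn (tw Q a N) (comm a) := by
  intro x hx hxy
  have h1 : a (del a N x) = del a N x := h.fixed_of_orth hQ _ hxy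
  have h2 : del a N x = 0 := h.eq_zero_of_fixed _ (del_mem a N x hx) h1
  exact h.del_injOn x hx h2

/-- the value of `Q` on `[V, a]` -/
theorem Q_comm (h : OData Q a N) (u : V) : Q ((a - 1) u) = - pol Q ((a - 1) u) u := by
  have h1 : (a - 1) u + u = a u := by
    rw [LinearMap.sub_apply, Module.End.one_apply, sub_add_cancel]
  rw [pol_apply, h1, h.iso]
  ring

theorem isSemisimple (h : OData Q a N) : a.IsSemisimple := by
  apply Module.End.isSemisimple_of_squarefree_aeval_eq_zero
    ((X_pow_sub_one_separable_iff.2 h.ne).squarefree)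
  rw [map_sub, map_pow, aeval_X, map_one, h.pow, sub_self]

end OData

open OData

/-- an intertwining map `[V, a] → [V, b]` intertwines powers -/
theorem intertwine_pow {a b : Module.End F V} (e : comm a ≃ₗ[F] comm b)
    (he : ∀ w : comm a, (e ⟨a w, inv_comm a w w.2⟩ : V) = b (e w : V)) (k : ℕ) (w : comm a) :
    (e ⟨(a ^ k) w, (inv_comm a).pow_mem k w.2⟩ : V) = (b ^ k) (e w : V) := by
  induction k with
  | zero => simp
  | succ k ih =>
    have h1 : (⟨(a ^ (k + 1)) w, (inv_comm a).pow_mem (k + 1) w.2⟩ : comm a) =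
        ⟨a ((a ^ k) (w : V)), inv_comm a _ ((inv_comm a).pow_mem k w.2)⟩ := by
      apply Subtype.ext
      show (a ^ (k + 1)) (w : V) = a ((a ^ k) (w : V))
      rw [pow_succ', Module.End.mul_apply]
    rw [h1, he ⟨(a ^ k) w, (inv_comm a).pow_mem k w.2⟩, ih, pow_succ', Module.End.mul_apply]

theorem exists_isometry_conj [Finite F] [FiniteDimensional F V] (Q : QuadraticForm F V)
    (hQ : (pol Q).Nondegenerate) (a b : Module.End F V) (N : ℕ) (ha : OData Q a N)
    (hb : OData Q b N) (C : V ≃ₗ[F] V) (hC : ∀ v, C (a v) = b (C v)) :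
    ∃ g : V ≃ₗ[F] V, (∀ v, Q (g v) = Q v) ∧ ∀ v, g (a v) = b (g v) := by
  classical
  set W := comm a with hWdef
  set W' := comm b with hW'def
  have hW : Inv a W := inv_comm a
  have hW' : Inv b W' := inv_comm b
  -- the linear conjugacy restricts
  have hCsymm : ∀ v, C.symm (b v) = a (C.symm v) := by
    intro v
    apply C.injective
    rw [hC, LinearEquiv.apply_symm_apply, LinearEquiv.apply_symm_apply]
  have hmap : W.map (C : V →ₗ[F] V) = W' := by
    apply le_antisymm
    · rintro _ ⟨_, ⟨u, rfl⟩, rfl⟩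
      refine ⟨C u, ?_⟩
      simp only [LinearMap.sub_apply, Module.End.one_apply, LinearEquiv.coe_coe, map_sub, hC]
    · rintro _ ⟨u, rfl⟩
      refine ⟨(a - 1) (C.symm u), ⟨C.symm u, rfl⟩, ?_⟩
      simp only [LinearMap.sub_apply, Module.End.one_apply, LinearEquiv.coe_coe, map_sub, hC,
        LinearEquiv.apply_symm_apply]
  let CW : W ≃ₗ[F] W' := (C.submoduleMap W).trans (LinearEquiv.ofEq _ _ hmap)
  have hCW : ∀ w : W, (CW w : V) = C (w : V) := fun w => rfl
  have hchar : (a.restrict hW).charpoly = (b.restrict hW').charpoly := by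
    have : b.restrict hW' = CW.conj (a.restrict hW) := by
      apply LinearMap.ext
      intro z
      apply Subtype.ext
      rw [LinearEquiv.conj_apply, LinearMap.comp_apply, LinearMap.comp_apply]
      simp only [LinearEquiv.coe_coe]
      rw [hCW, LinearMap.coe_restrict_apply, LinearMap.coe_restrict_apply, hC, ← hCW,
        LinearEquiv.apply_symm_apply]
    rw [this, LinearEquiv.charpoly_conj]
  -- the symplectic conjugacy on the commutator spaces
  obtain ⟨e, he1, he2⟩ := Helper40_SpConj.exists_isometry_conj (finrank F W)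
    ((tw Q a N).restrict W) ((tw Q b N).restrict W') (a.restrict hW) (b.restrict hW') N rfl
    (ha.isoData.restrict hW) (hb.isoData.restrict hW')
    (nondegenerate_restrict ha.isoData (ha.ndOn_tw hQ))
    (nondegenerate_restrict hb.isoData (hb.ndOn_tw hQ))
    (ha.isSemisimple.restrict (by rw [Module.End.mem_invtSubmodule]; exact hW))
    (hb.isSemisimple.restrict (by rw [Module.End.mem_invtSubmodule]; exact hW')) hchar
  have he1' : ∀ w : W, (e ⟨a w, hW w w.2⟩ : V) = b (e w : V) := by
    intro w
    have := congrArg Subtype.val (he1 w)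
    exact this
  have he2' : ∀ x y : W, tw Q b N (e x : V) (e y : V) = tw Q a N (x : V) (y : V) :=
    fun x y => he2 x y
  have hepow := intertwine_pow e he1'
  -- `e` intertwines the twisting operators
  have hedel : ∀ w : W, (e ⟨del a N w, del_mem a N w w.2⟩ : V) = del b N (e w : V) := by
    intro w
    have h1 : (⟨del a N w, del_mem a N w w.2⟩ : W) =
        ⟨a w, hW w w.2⟩ - ⟨(a ^ (N - 1)) w, hW.pow_mem (N - 1) w.2⟩ := by
      apply Subtype.ext
      show (a - a ^ (N - 1)) (w : V) = a w - (a ^ (N - 1)) w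
      rw [LinearMap.sub_apply]
    rw [h1, map_sub, Submodule.coe_sub, he1', hepow]
    show _ = (b - b ^ (N - 1)) (e w : V)
    rw [LinearMap.sub_apply]
  -- surjectivity of `a - a⁻¹` and `a - 1` on `W`
  have hdsurj : ∀ x : W, ∃ x' : W, del a N (x' : V) = x := by
    let dW : W →ₗ[F] W := (del a N).restrict (del_mem a N)
    have hinj : Function.Injective dW := by
      rw [← LinearMap.ker_eq_bot, LinearMap.ker_eq_bot']
      intro x hx
      apply Subtype.ext
      exact ha.del_injOn x x.2 (congrArg Subtype.val hx)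
    intro x
    obtain ⟨x', hx'⟩ := LinearMap.surjective_of_injective hinj x
    exact ⟨x', congrArg Subtype.val hx'⟩
  have hmsurj : ∀ x : W, ∃ u : W, (a - 1) (u : V) = x := by
    let mW : W →ₗ[F] W := (a - 1).restrict (fun x hx => by
      rw [LinearMap.sub_apply, Module.End.one_apply]
      exact W.sub_mem (hW x hx) hx)
    have hinj : Function.Injective mW := by
      rw [← LinearMap.ker_eq_bot, LinearMap.ker_eq_bot']
      intro x hx
      apply Subtype.ext
      have h1 : (a - 1) (x : V) = 0 := congrArg Subtype.val hx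
      rw [LinearMap.sub_apply, Module.End.one_apply] at h1
      exact ha.eq_zero_of_fixed x x.2 (sub_eq_zero.1 h1)
    intro x
    obtain ⟨u, hu⟩ := LinearMap.surjective_of_injective hinj x
    exact ⟨u, congrArg Subtype.val hu⟩
  -- `e` preserves the polar form
  have hepol : ∀ x y : W, pol Q (e x : V) (e y : V) = pol Q (x : V) (y : V) := by
    intro x y
    obtain ⟨x', hx'⟩ := hdsurj x
    have h1 : x = ⟨del a N x', del_mem a N x' x'.2⟩ := Subtype.ext hx'.symm
    rw [h1, hedel]
    exact he2' x' y
  -- `e` preserves the quadratic form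
  have heQ : ∀ x : W, Q (e x : V) = Q (x : V) := by
    intro x
    obtain ⟨u, hu⟩ := hmsurj x
    have h1 : x = ⟨a u, hW u u.2⟩ - u := by
      apply Subtype.ext
      rw [← hu, LinearMap.sub_apply, Module.End.one_apply]
      rfl
    have h2 : (e x : V) = (b - 1) (e u : V) := by
      rw [h1, map_sub, Submodule.coe_sub, he1', LinearMap.sub_apply, Module.End.one_apply]
    have h3 : Q (e x : V) = - pol Q (e x : V) (e u : V) := by
      rw [h2]
      exact hb.Q_comm _
    rw [h3, hepol, ← hu]
    exact (ha.Q_comm _).symm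
  -- Witt
  obtain ⟨g, hg1, hg2⟩ := Cfsg.Agent.S0750.result Q hQ W W' e heQ
  have hgpol : ∀ x y, pol Q (g x) (g y) = pol Q x y := by
    intro x y
    rw [pol_apply, pol_apply, ← map_add, hg1, hg1, hg1]
  refine ⟨g, hg1, ?_⟩
  have hsup : LinearMap.ker (a - 1) ⊔ W = ⊤ := by
    apply Submodule.eq_top_of_disjoint
    · rw [add_comm, LinearMap.finrank_range_add_finrank_ker]
    · rw [Submodule.disjoint_def]
      intro x hx hxW
      rw [LinearMap.mem_ker, LinearMap.sub_apply, Module.End.one_apply] at hx
      exact ha.eq_zero_of_fixed x hxW (sub_eq_zero.1 hx)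
  intro v
  have hv : v ∈ LinearMap.ker (a - 1) ⊔ W := by
    rw [hsup]
    trivial
  obtain ⟨v₁, hv₁, w, hw, rfl⟩ := Submodule.mem_sup.1 hv
  rw [LinearMap.mem_ker, LinearMap.sub_apply, Module.End.one_apply] at hv₁
  have hav₁ : a v₁ = v₁ := sub_eq_zero.1 hv₁
  have hbgv₁ : b (g v₁) = g v₁ := by
    apply hb.fixed_of_orth hQ
    intro y hy
    have h1 : y = g ((e.symm ⟨y, hy⟩ : W) : V) := by
      rw [hg2, LinearEquiv.apply_symm_apply]
    rw [h1, hgpol]
    exact ha.orth_of_fixed v₁ hav₁ _ (e.symm ⟨y, hy⟩).2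
  have hgw : g (a w) = b (g w) := by
    have h1 := hg2 ⟨a w, hW w hw⟩
    have h2 := hg2 ⟨w, hw⟩
    have h3 : g (a w) = (e ⟨a w, hW w hw⟩ : V) := h1
    have h4 : g w = (e ⟨w, hw⟩ : V) := h2
    rw [h3, h4]
    exact he1' ⟨w, hw⟩
  rw [map_add, map_add, map_add, map_add, hav₁, hbgv₁, hgw]

end Cfsg.Agent.Lib.Helper40_OConj
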