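import Mathlib
import Cfsg.Agent.Lib.Helper40_OConj
import Cfsg.Agent.Lib.Helper40_SpExist

set_option autoImplicit false

/-!
Quadratic spaces with an isometry of prescribed characteristic polynomial, from the symplectic
models: if `B` is alternating and `a` is an isometry of `B` then `z ↦ B z (a z)` is an
`a`-invariant quadratic form with polar form `B x ((a - a⁻¹) y)`.
-/

namespace Cfsg.Agent.Lib.Helper40_OModel

open Polynomial Module Cfsg.Agent.Lib.Helper40_Semisimple Cfsg.Agent.Lib.Helper40_SpBasic
  Cfsg.Agent.Lib.Helper40_SpExist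

universe v

variable {F : Type v} [Field F]

section general

variable {V : Type v} [AddCommGroup V] [Module F V]

/-- a fixed vector in `range (a - 1)` vanishes when `a ^ N = 1` with `N` invertible -/
theorem eq_zero_of_fixed' (a : Module.End F V) (N : ℕ) (hpow : a ^ N = 1) (hne : (N : F) ≠ 0)
    (x : V) (hx : x ∈ LinearMap.range (a - 1)) (hax : a x = x) : x = 0 := by
  obtain ⟨u, rfl⟩ := hx
  have h1 : ∀ i : ℕ, (a ^ i) ((a - 1) u) = (a - 1) u := by
    intro i
    induction i with
    | zero => simp
    | succ i ih => rw [pow_succ, Module.End.mul_apply, hax, ih]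
  have h2 : (∑ i ∈ Finset.range N, a ^ i) ((a - 1) u) = (N : F) • (a - 1) u := by
    rw [LinearMap.sum_apply, Finset.sum_congr rfl (fun i _ => h1 i), Finset.sum_const,
      Finset.card_range, Nat.cast_smul_eq_nsmul]
  have h3 : (∑ i ∈ Finset.range N, a ^ i) ((a - 1) u) = 0 := by
    rw [← Module.End.mul_apply, geom_sum_mul, hpow, sub_self, LinearMap.zero_apply]
  rw [h2] at h3
  exact (smul_eq_zero.1 h3).resolve_left hne

theorem apply_pow_pred (a : Module.End F V) (N : ℕ) (hpos : 0 < N) (hpow : a ^ N = 1) (x : V) :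
    a ((a ^ (N - 1)) x) = x := by
  rw [← Module.End.mul_apply, ← pow_succ', Nat.sub_add_cancel hpos, hpow, Module.End.one_apply]

/-- `a - a⁻¹` is injective on `range (a - 1)` when `a` has odd invertible order -/
theorem del_injOn' (a : Module.End F V) (N : ℕ) (hpow : a ^ N = 1) (hodd : Odd N)
    (hne : (N : F) ≠ 0) (x : V) (hx : x ∈ LinearMap.range (a - 1))
    (hd : (a - a ^ (N - 1)) x = 0) : x = 0 := by
  have h1 : a x = (a ^ (N - 1)) x := by
    rw [LinearMap.sub_apply] at hd
    exact sub_eq_zero.1 hd
  have h2 : (a ^ 2) x = x := by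
    rw [sq, Module.End.mul_apply, h1, apply_pow_pred a N hodd.pos hpow]
  obtain ⟨k, hk⟩ := hodd
  have h3 : (a ^ N) x = a x := by
    rw [hk, pow_succ, pow_mul, Module.End.mul_apply, Helper40_OConj.OData.pow_fixed (a ^ 2) (a x)]
    rw [sq, Module.End.mul_apply, ← Module.End.mul_apply a a x, ← sq, h2]
  rw [hpow, Module.End.one_apply] at h3
  exact eq_zero_of_fixed' a N hpow hne x hx h3.symm

end general

open Helper40_OConj.OData in
/-- the orthogonal model on the commutator space of a symplectic model: for a monic palindromic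
`c` of even degree whose irreducible factors divide `X ^ r - 1` (`r` odd, invertible) there is a
quadratic space `W` with nondegenerate polar form and an isometry `a` with `a ^ r = 1` and
`c = (X - 1) ^ j * charpoly a`. -/
theorem exists_o_model (r : ℕ) (hodd : Odd r) (hne : (r : F) ≠ 0) (k : ℕ) (c : F[X])
    (hc : c.Monic) (hk : c.natDegree = 2 * k) (hrev : c.reverse = c)
    (hcf : ∀ f, Irreducible f → f ∣ c → f ∣ X ^ r - 1) :
    ∃ (W : Type v) (_ : AddCommGroup W) (_ : Module F W) (_ : Module.Finite F W)
      (Q : QuadraticForm F W) (a : Module.End F W) (j : ℕ),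
      (QuadraticMap.polarBilin Q).Nondegenerate ∧ (∀ x, Q (a x) = Q x) ∧ a ^ r = 1 ∧
      c = (X - 1) ^ j * a.charpoly ∧ finrank F W + j = 2 * k := by
  classical
  obtain ⟨V, _, _, _, B, a, hB, halt, hiso, hch, hkill⟩ := exists_sp_model k c hc hk hrev
  have hpow : a ^ r = 1 := by
    have := hkill (X ^ r - 1) hcf
    rw [map_sub, map_pow, aeval_X, map_one] at this
    exact sub_eq_zero.1 this
  have hd : IsoData B a r := ⟨halt, hiso, hpow, hodd.pos⟩
  set W : Submodule F V := LinearMap.range (a - 1) with hWdef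
  set V₁ : Submodule F V := LinearMap.ker (a - 1) with hV₁def
  have hW : Inv a W := inv_comm a
  have hV₁ : Inv a V₁ := by
    intro x hx
    rw [LinearMap.mem_ker, LinearMap.sub_apply, Module.End.one_apply] at hx
    rw [sub_eq_zero.1 hx, LinearMap.mem_ker, LinearMap.sub_apply, Module.End.one_apply]
    exact hx
  have hfix : ∀ x ∈ V₁, a x = x := by
    intro x hx
    rw [LinearMap.mem_ker, LinearMap.sub_apply, Module.End.one_apply] at hx
    exact sub_eq_zero.1 hx
  have hdisj : Disjoint V₁ W := by
    rw [Submodule.disjoint_def]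
    intro x hx hxW
    exact eq_zero_of_fixed' a r hpow hne x hxW (hfix x hx)
  have hsup : V₁ ⊔ W = ⊤ := by
    apply Submodule.eq_top_of_disjoint _ _ _ hdisj
    rw [add_comm, LinearMap.finrank_range_add_finrank_ker]
  have hcompl : IsCompl V₁ W := ⟨hdisj, codisjoint_iff.2 hsup⟩
  -- the twisting operator is surjective on `W`
  have hdel_mem : ∀ x ∈ W, (a - a ^ (r - 1)) x ∈ W := by
    intro x hx
    rw [LinearMap.sub_apply]
    exact W.sub_mem (hW x hx) (hW.pow_mem (r - 1) hx)
  have hdsurj : ∀ x : W, ∃ x' : W, (a - a ^ (r - 1)) (x' : V) = x := by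
    let dW : W →ₗ[F] W := (a - a ^ (r - 1)).restrict hdel_mem
    have hinj : Function.Injective dW := by
      rw [← LinearMap.ker_eq_bot, LinearMap.ker_eq_bot']
      intro x hx
      apply Subtype.ext
      exact del_injOn' a r hpow hodd hne x x.2 (congrArg Subtype.val hx)
    intro x
    obtain ⟨x', hx'⟩ := LinearMap.surjective_of_injective hinj x
    exact ⟨x', congrArg Subtype.val hx'⟩
  -- the quadratic form
  let QV : QuadraticForm F V := LinearMap.BilinMap.toQuadraticMap (B.compRight a)
  let Q : QuadraticForm F W := QV.comp W.subtype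
  have hQapp : ∀ x : W, Q x = B (x : V) (a x) := fun x => rfl
  have hpolar : ∀ x y : W, QuadraticMap.polarBilin Q x y =
      B (x : V) ((a - a ^ (r - 1)) (y : V)) := by
    intro x y
    have h1 : QuadraticMap.polarBilin Q x y = B (x : V) (a y) + B (y : V) (a x) := by
      rw [QuadraticMap.polarBilin_apply_apply]
      show QuadraticMap.polar (fun z : W => QV (z : V)) x y = _
      have h2 : QuadraticMap.polar (fun z : W => QV (z : V)) x y =
          QuadraticMap.polar (⇑QV) (x : V) (y : V) := rfl
      rw [h2, LinearMap.BilinMap.polar_toQuadraticMap]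
      rfl
    rw [h1, LinearMap.sub_apply, map_sub, hd.skew (y : V) (a x), hd.adj1]
    ring
  have hWV₁ : ∀ x ∈ W, ∀ z ∈ V₁, B x z = 0 := by
    rintro _ ⟨u, rfl⟩ z hz
    rw [LinearMap.sub_apply, Module.End.one_apply, map_sub, LinearMap.sub_apply, hd.adj1,
      Helper40_OConj.OData.pow_fixed a z (hfix z hz), sub_self]
  have hleft : ∀ x : W, (∀ y : W, QuadraticMap.polarBilin Q x y = 0) → x = 0 := by
    intro x hx
    apply Subtype.ext
    apply hB.1
    intro v
    have hv : v ∈ V₁ ⊔ W := by
      rw [hsup]
      trivial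
    obtain ⟨z, hz, w, hw, rfl⟩ := Submodule.mem_sup.1 hv
    obtain ⟨w', hw'⟩ := hdsurj ⟨w, hw⟩
    have h1 := hx w'
    rw [hpolar, hw'] at h1
    rw [map_add, hWV₁ x x.2 z hz, zero_add]
    exact h1
  have hQnd : (QuadraticMap.polarBilin Q).Nondegenerate := by
    refine ⟨hleft, ?_⟩
    intro y hy
    apply hleft
    intro x
    have := hy x
    rw [QuadraticMap.polarBilin_apply_apply, QuadraticMap.polar_comm] at this
    rw [QuadraticMap.polarBilin_apply_apply]
    exact this
  refine ⟨W, inferInstance, inferInstance, inferInstance, Q, a.restrict hW, finrank F V₁, hQnd,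
    ?_, (hd.restrict hW).pow, ?_, ?_⟩
  · intro x
    rw [hQapp, hQapp]
    exact hiso _ _
  · have hcha := charpoly_eq_mul_of_isCompl a V₁ W hV₁ hW hcompl
    have h1 : a.restrict hV₁ = 1 := by
      apply LinearMap.ext
      intro x
      apply Subtype.ext
      exact hfix x x.2
    rw [h1, LinearMap.charpoly_one, hch] at hcha
    exact hcha
  · rw [add_comm, Submodule.finrank_add_eq_of_isCompl hcompl, ← LinearMap.charpoly_natDegree a,
      hch, hk]

end Cfsg.Agent.Lib.Helper40_OModel
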