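import Mathlib

set_option autoImplicit false

/-!
Counting conjugacy classes with a class function that separates them.
-/

namespace Cfsg.Agent.Lib.Helper40_ClassCount

/-- If a class function `χ` separates the classes of the elements satisfying `P`, then the
classes meeting `P` are counted by the values of `χ` on `P`. -/
theorem card_classes_eq {G X : Type*} [Group G] (P : G → Prop) (χ : G → X) (T : Set X)
    (hχ : ∀ g h, IsConj g h → χ g = χ h)
    (hinj : ∀ g h, P g → P h → χ g = χ h → IsConj g h)
    (hT : ∀ x, x ∈ T ↔ ∃ g, P g ∧ χ g = x) :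
    Nat.card {c : ConjClasses G // ∃ g, ConjClasses.mk g = c ∧ P g} = Nat.card T := by
  classical
  let f : {c : ConjClasses G // ∃ g, ConjClasses.mk g = c ∧ P g} → T := fun c =>
    ⟨χ (Classical.choose c.2), (hT _).2
      ⟨Classical.choose c.2, (Classical.choose_spec c.2).2, rfl⟩⟩
  apply Nat.card_congr (Equiv.ofBijective f ⟨?_, ?_⟩)
  · intro c c' h
    have h1 : χ (Classical.choose c.2) = χ (Classical.choose c'.2) := congrArg Subtype.val h
    have h2 := hinj _ _ (Classical.choose_spec c.2).2 (Classical.choose_spec c'.2).2 h1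
    apply Subtype.ext
    rw [← (Classical.choose_spec c.2).1, ← (Classical.choose_spec c'.2).1]
    exact ConjClasses.mk_eq_mk_iff_isConj.2 h2
  · rintro ⟨x, hx⟩
    obtain ⟨g, hg, rfl⟩ := (hT x).1 hx
    refine ⟨⟨ConjClasses.mk g, g, rfl, hg⟩, ?_⟩
    apply Subtype.ext
    have hc : ∃ g', ConjClasses.mk g' = ConjClasses.mk g ∧ P g' := ⟨g, rfl, hg⟩
    show χ (Classical.choose hc) = χ g
    exact hχ _ _ (ConjClasses.mk_eq_mk_iff_isConj.1 (Classical.choose_spec hc).1)

end Cfsg.Agent.Lib.Helper40_ClassCount
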