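import Mathlib
import Cfsg.Agent.S0750
import Cfsg.Agent.Lib.Helper44_Orth

set_option autoImplicit false

/-!
Witt's extension theorem (helper13's `Cfsg.Agent.S0750.witt_quad`) transported to the matrix isometry
group `Cfsg.isometryGroup F ⇑Q` of a quadratic form on `ι → F` (helper44).
-/

namespace Cfsg.Agent.Lib.Helper44_WittMat

open Cfsg Matrix Module Cfsg.Agent.Lib.Helper44_Orth

variable {ι : Type} [Fintype ι] [DecidableEq ι] {F : Type*} [Field F]

/-- A `Q`-preserving linear automorphism of `ι → F` as an element of the isometry group. -/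
noncomputable def isomOfEquiv (Q : QuadraticForm F (ι → F)) (g : (ι → F) ≃ₗ[F] (ι → F))
    (hg : ∀ v, Q (g v) = Q v) : ↥(Cfsg.isometryGroup F (⇑Q)) :=
  ⟨⟨LinearMap.toMatrix' (g : (ι → F) →ₗ[F] (ι → F)),
      LinearMap.toMatrix' (g.symm : (ι → F) →ₗ[F] (ι → F)),
      by rw [← LinearMap.toMatrix'_comp]; simp,
      by rw [← LinearMap.toMatrix'_comp]; simp⟩,
    by
      rw [mem_isometryGroup_iff]
      intro u
      show Q (LinearMap.toMatrix' (g : (ι → F) →ₗ[F] (ι → F)) *ᵥ u) = Q u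
      rw [LinearMap.toMatrix'_mulVec]
      exact hg u⟩

theorem isomOfEquiv_mulVec (Q : QuadraticForm F (ι → F)) (g : (ι → F) ≃ₗ[F] (ι → F))
    (hg : ∀ v, Q (g v) = Q v) (v : ι → F) :
    ((isomOfEquiv Q g hg : Matrix.GeneralLinearGroup ι F) : Matrix ι ι F) *ᵥ v = g v := by
  show LinearMap.toMatrix' (g : (ι → F) →ₗ[F] (ι → F)) *ᵥ v = g v
  rw [LinearMap.toMatrix'_mulVec]
  rfl

/-- **Witt's theorem**, matrix form: a `Q`-preserving linear equivalence between subspaces is induced by an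
element of the isometry group. -/
theorem witt_matrix (Q : QuadraticForm F (ι → F)) (hQ : (QuadraticMap.polarBilin Q).Nondegenerate)
    (X Y : Submodule F (ι → F)) (φ : X ≃ₗ[F] Y) (hφ : ∀ x : X, Q (φ x : ι → F) = Q (x : ι → F)) :
    ∃ g : ↥(Cfsg.isometryGroup F (⇑Q)),
      (∀ x : X, ((g : Matrix.GeneralLinearGroup ι F) : Matrix ι ι F) *ᵥ (x : ι → F) = (φ x : ι → F)) ∧
      X.map (Matrix.mulVecLin ((g : Matrix.GeneralLinearGroup ι F) : Matrix ι ι F)) = Y := by
  obtain ⟨g, hg1, hg2⟩ := Cfsg.Agent.S0750.witt_quad Q hQ _ X rfl (Y.subtype.comp (φ : X →ₗ[F] Y))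
    (Y.subtype_injective.comp φ.injective) (fun x => hφ x)
  refine ⟨isomOfEquiv Q g hg1, ?_, ?_⟩
  · intro x
    rw [isomOfEquiv_mulVec]
    exact hg2 x
  · apply le_antisymm
    · rintro _ ⟨x, hx, rfl⟩
      rw [Matrix.mulVecLin_apply, isomOfEquiv_mulVec]
      have := hg2 ⟨x, hx⟩
      rw [show g ((⟨x, hx⟩ : X) : ι → F) = g x from rfl] at this
      rw [this]
      exact (φ ⟨x, hx⟩).2
    · intro y hy
      refine ⟨(φ.symm ⟨y, hy⟩ : ι → F), (φ.symm ⟨y, hy⟩).2, ?_⟩
      rw [Matrix.mulVecLin_apply, isomOfEquiv_mulVec, hg2]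
      simp

/-- Two totally singular subspaces of the same dimension are conjugate under the isometry group. -/
theorem exists_map_eq_of_ts (Q : QuadraticForm F (ι → F))
    (hQ : (QuadraticMap.polarBilin Q).Nondegenerate) (U W : Submodule F (ι → F))
    (hUW : finrank F U = finrank F W) (hU0 : ∀ u ∈ U, Q u = 0) (hW0 : ∀ w ∈ W, Q w = 0) :
    ∃ g : ↥(Cfsg.isometryGroup F (⇑Q)),
      U.map (Matrix.mulVecLin ((g : Matrix.GeneralLinearGroup ι F) : Matrix ι ι F)) = W := by
  obtain ⟨g, -, hg⟩ := witt_matrix Q hQ U W (LinearEquiv.ofFinrankEq U W hUW)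
    (fun x => by rw [hU0 _ x.2, hW0 _ (LinearEquiv.ofFinrankEq U W hUW x).2])
  exact ⟨g, hg⟩

/-- The subspace-image under a product is the iterated image. -/
theorem submodule_map_mul (Q : (ι → F) → F) (a b : ↥(Cfsg.isometryGroup F Q)) (U : Submodule F (ι → F)) :
    U.map (Matrix.mulVecLin (((a * b : ↥(Cfsg.isometryGroup F Q)) : Matrix.GeneralLinearGroup ι F) :
      Matrix ι ι F))
    = (U.map (Matrix.mulVecLin ((b : Matrix.GeneralLinearGroup ι F) : Matrix ι ι F))).map
        (Matrix.mulVecLin ((a : Matrix.GeneralLinearGroup ι F) : Matrix ι ι F)) := by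
  have : (((a * b : ↥(Cfsg.isometryGroup F Q)) : Matrix.GeneralLinearGroup ι F) : Matrix ι ι F)
      = ((a : Matrix.GeneralLinearGroup ι F) : Matrix ι ι F)
        * ((b : Matrix.GeneralLinearGroup ι F) : Matrix ι ι F) := rfl
  rw [this, Matrix.mulVecLin_mul, Submodule.map_comp]

/-- An invertible matrix mapping a subspace into itself maps it onto itself. -/
theorem map_eq_of_le (g : Matrix.GeneralLinearGroup ι F) (W : Submodule F (ι → F))
    (h : ∀ x ∈ W, (g : Matrix ι ι F) *ᵥ x ∈ W) :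
    W.map (Matrix.mulVecLin (g : Matrix ι ι F)) = W := by
  have hle : W.map (Matrix.mulVecLin (g : Matrix ι ι F)) ≤ W := by
    rintro _ ⟨x, hx, rfl⟩
    exact h x hx
  apply Submodule.eq_of_le_of_finrank_eq hle
  have hinj : Function.Injective (Matrix.mulVecLin (g : Matrix ι ι F)) := by
    intro x y hxy
    have h1 := congrArg (fun z => ((g⁻¹ : Matrix.GeneralLinearGroup ι F) : Matrix ι ι F) *ᵥ z) hxy
    simp only [Matrix.mulVecLin_apply, Matrix.mulVec_mulVec] at h1
    rw [← Matrix.GeneralLinearGroup.coe_mul, inv_mul_cancel] at h1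
    simpa using h1
  exact (Submodule.equivMapOfInjective _ hinj W).finrank_eq.symm

end Cfsg.Agent.Lib.Helper44_WittMat
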