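import Mathlib
import Cfsg.Agent.Lib.Helper40_OConj
import Cfsg.Agent.Lib.Helper44_WittMat
import Cfsg.Agent.Lib.Helper40_ClassCount
import Cfsg.Agent.Lib.Helper40_Palindromic

set_option autoImplicit false

/-!
Conjugacy classes of elements of odd prime order `r ≠ p` in the isometry group of a quadratic form
with nondegenerate polar form over a finite field: they are classified by the characteristic
polynomial; basic properties of these characteristic polynomials.
-/

namespace Cfsg.Agent.Lib.Helper40_OClasses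

open Polynomial Module Matrix Cfsg.Agent.Lib.Helper40_OConj Cfsg.Agent.Lib.Helper44_WittMat
  Cfsg.Agent.Lib.Helper44_Orth Cfsg.Agent.Lib.Helper40_Palindromic

universe v

variable {ι : Type} [Fintype ι] [DecidableEq ι] {F : Type v} [Field F]

/-- the matrix of an element of the isometry group -/
abbrev mat (Q : QuadraticForm F (ι → F)) (g : ↥(Cfsg.isometryGroup F ⇑Q)) : Matrix ι ι F :=
  ((g : Matrix.GeneralLinearGroup ι F) : Matrix ι ι F)

theorem mat_pow (Q : QuadraticForm F (ι → F)) (g : ↥(Cfsg.isometryGroup F ⇑Q)) (k : ℕ) :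
    mat Q (g ^ k) = mat Q g ^ k := by
  show (((g ^ k : ↥(Cfsg.isometryGroup F ⇑Q)) : Matrix.GeneralLinearGroup ι F) : Matrix ι ι F) = _
  rw [SubgroupClass.coe_pow, Units.val_pow_eq_pow_val]

theorem mat_one (Q : QuadraticForm F (ι → F)) : mat Q 1 = 1 := rfl

theorem mat_injective (Q : QuadraticForm F (ι → F)) : Function.Injective (mat Q) := by
  intro g h hgh
  apply Subtype.ext
  apply Units.ext
  exact hgh

theorem mat_pow_eq_one_iff (Q : QuadraticForm F (ι → F)) (g : ↥(Cfsg.isometryGroup F ⇑Q)) (k : ℕ) :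
    mat Q g ^ k = 1 ↔ g ^ k = 1 := by
  rw [← mat_pow, ← mat_one Q]
  exact ⟨fun h => mat_injective Q h, fun h => by rw [h]⟩

theorem oData_of_mem (Q : QuadraticForm F (ι → F)) (g : ↥(Cfsg.isometryGroup F ⇑Q)) (N : ℕ)
    (hN : g ^ N = 1) (hodd : Odd N) (hne : (N : F) ≠ 0) :
    OData Q (Matrix.toLin' (mat Q g)) N where
  iso := by
    intro u
    rw [Matrix.toLin'_apply]
    exact (mem_isometryGroup_iff (⇑Q) (g : Matrix.GeneralLinearGroup ι F)).1 g.2 u
  pow := by
    rw [← Matrix.toLin'_pow, (mat_pow_eq_one_iff Q g N).2 hN, Matrix.toLin'_one]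
    rfl
  odd := hodd
  ne := hne

/-- elements of odd order prime to the characteristic with the same characteristic polynomial are
conjugate in the isometry group -/
theorem isConj_of_charpoly_eq [Finite F] (Q : QuadraticForm F (ι → F))
    (hQ : (QuadraticMap.polarBilin Q).Nondegenerate) (g h : ↥(Cfsg.isometryGroup F ⇑Q)) (N : ℕ)
    (hg : g ^ N = 1) (hh : h ^ N = 1) (hodd : Odd N) (hne : (N : F) ≠ 0)
    (hc : (mat Q g).charpoly = (mat Q h).charpoly) : IsConj g h := by
  classical
  have hdg := oData_of_mem Q g N hg hodd hne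
  have hdh := oData_of_mem Q h N hh hodd hne
  obtain ⟨C, hC⟩ := Helper40_Semisimple.exists_conj_of_charpoly_eq (F := F)
    (finrank F (ι → F)) (Matrix.toLin' (mat Q g)) (Matrix.toLin' (mat Q h)) rfl
    hdg.isSemisimple hdh.isSemisimple
    (by rw [Matrix.charpoly_toLin', Matrix.charpoly_toLin', hc])
  obtain ⟨e, he1, he2⟩ := exists_isometry_conj Q hQ _ _ N hdg hdh C hC
  rw [isConj_iff]
  refine ⟨isomOfEquiv Q e he1, ?_⟩
  rw [mul_inv_eq_iff_eq_mul]
  apply mat_injective Q
  apply Matrix.toLin'.injective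
  apply LinearMap.ext
  intro v
  have h5 : ∀ w, Matrix.toLin' (mat Q (isomOfEquiv Q e he1)) w = e w := by
    intro w
    rw [Matrix.toLin'_apply]
    exact isomOfEquiv_mulVec Q e he1 w
  show Matrix.toLin' (mat Q (isomOfEquiv Q e he1) * mat Q g) v =
    Matrix.toLin' (mat Q h * mat Q (isomOfEquiv Q e he1)) v
  rw [Matrix.toLin'_mul_apply, Matrix.toLin'_mul_apply, h5, h5]
  exact he2 v

theorem charpoly_eq_of_isConj (Q : QuadraticForm F (ι → F)) {g h : ↥(Cfsg.isometryGroup F ⇑Q)}
    (hgh : IsConj g h) : (mat Q g).charpoly = (mat Q h).charpoly := by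
  obtain ⟨c, hc⟩ := isConj_iff.1 hgh
  have h1 : mat Q h = mat Q c * (mat Q g * mat Q c⁻¹) := by
    rw [← hc, mul_assoc]
    rfl
  have h2 : mat Q c⁻¹ * mat Q c = 1 := by
    have := congrArg (mat Q) (inv_mul_cancel c)
    exact this
  rw [h1, Matrix.charpoly_mul_comm, Matrix.mul_assoc, h2, Matrix.mul_one]

/-- classes of elements of odd prime order `r ≠ p` are counted by characteristic polynomials -/
theorem card_classes [Fintype F] (p : ℕ) [Fact p.Prime] [CharP F p] (Q : QuadraticForm F (ι → F))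
    (hQ : (QuadraticMap.polarBilin Q).Nondegenerate) (r : ℕ) (hr : r.Prime) (hr2 : r ≠ 2)
    (hrp : r ≠ p) :
    Nat.card {C : ConjClasses ↥(Cfsg.isometryGroup F ⇑Q) //
      ∃ g : ↥(Cfsg.isometryGroup F ⇑Q), ConjClasses.mk g = C ∧ orderOf g = r} =
    Nat.card {c : F[X] | ∃ g : ↥(Cfsg.isometryGroup F ⇑Q),
      orderOf g = r ∧ (mat Q g).charpoly = c} := by
  have hp : p.Prime := Fact.out
  have hrF : (r : F) ≠ 0 := by
    rw [Ne, CharP.cast_eq_zero_iff F p]
    intro hdvd
    exact hrp ((Nat.prime_dvd_prime_iff_eq hp hr).1 hdvd).symm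
  apply Helper40_ClassCount.card_classes_eq _ (fun g => (mat Q g).charpoly)
  · intro g h hgh
    exact charpoly_eq_of_isConj Q hgh
  · intro g h hg hh hc
    apply isConj_of_charpoly_eq Q hQ g h r _ _ (hr.odd_of_ne_two hr2) hrF hc
    · rw [← hg]
      exact pow_orderOf_eq_one g
    · rw [← hh]
      exact pow_orderOf_eq_one h
  · intro c
    exact Iff.rfl

/-- the characteristic polynomial of the inverse of an isometry -/
theorem charpoly_inv (Q : QuadraticForm F (ι → F))
    (hQ : (QuadraticMap.polarBilin Q).Nondegenerate) (g : ↥(Cfsg.isometryGroup F ⇑Q)) :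
    (mat Q g⁻¹).charpoly = (mat Q g).charpoly := by
  set B : LinearMap.BilinForm F (ι → F) := QuadraticMap.polarBilin Q with hB
  set G := LinearMap.BilinForm.toMatrix' B with hG
  set M := mat Q g with hM
  have hiso : ∀ u, Q (Matrix.toLin' M u) = Q u := by
    intro u
    rw [Matrix.toLin'_apply]
    exact (mem_isometryGroup_iff (⇑Q) (g : Matrix.GeneralLinearGroup ι F)).1 g.2 u
  have hcomp : B.comp (Matrix.toLin' M) (Matrix.toLin' M) = B := by
    apply LinearMap.ext
    intro x
    apply LinearMap.ext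
    intro y
    show B (Matrix.toLin' M x) (Matrix.toLin' M y) = B x y
    rw [hB, QuadraticMap.polarBilin_apply_apply, QuadraticMap.polarBilin_apply_apply,
      QuadraticMap.polar, QuadraticMap.polar, ← map_add, hiso, hiso, hiso]
  have h1 : Mᵀ * G * M = G := by
    have := LinearMap.BilinForm.toMatrix'_comp B (Matrix.toLin' M) (Matrix.toLin' M)
    rw [hcomp, LinearMap.toMatrix'_toLin'] at this
    exact this.symm
  have hdet : G.det ≠ 0 :=
    Matrix.nondegenerate_iff_det_ne_zero.1 (LinearMap.BilinForm.nondegenerate_toMatrix'_iff.2 hQ)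
  have hGinv : G * G⁻¹ = 1 := Matrix.mul_nonsing_inv G (Ne.isUnit hdet)
  have hGinv' : G⁻¹ * G = 1 := Matrix.nonsing_inv_mul G (Ne.isUnit hdet)
  have hMM : M * mat Q g⁻¹ = 1 := by
    have := congrArg (mat Q) (mul_inv_cancel g)
    exact this
  have h2 : mat Q g⁻¹ = G⁻¹ * (Mᵀ * G) := by
    calc mat Q g⁻¹ = (G⁻¹ * G) * mat Q g⁻¹ := by rw [hGinv', Matrix.one_mul]
      _ = G⁻¹ * ((Mᵀ * G * M) * mat Q g⁻¹) := by rw [h1, Matrix.mul_assoc]
      _ = G⁻¹ * (Mᵀ * G) := by rw [Matrix.mul_assoc (Mᵀ * G), hMM, Matrix.mul_one]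
  rw [h2, Matrix.charpoly_mul_comm, Matrix.mul_assoc, hGinv, Matrix.mul_one,
    Matrix.charpoly_transpose]

/-- the characteristic polynomial of an isometry of odd order is `±`-palindromic -/
theorem charpoly_reverse (Q : QuadraticForm F (ι → F))
    (hQ : (QuadraticMap.polarBilin Q).Nondegenerate) (g : ↥(Cfsg.isometryGroup F ⇑Q)) (N : ℕ)
    (hN : g ^ N = 1) (hodd : Odd N) :
    (mat Q g).charpoly.reverse = (-1) ^ Fintype.card ι * (mat Q g).charpoly := by
  have hMM : mat Q g * mat Q g⁻¹ = 1 := by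
    have := congrArg (mat Q) (mul_inv_cancel g)
    exact this
  have h1 := reverse_charpoly_of_mul_eq_one (mat Q g) (mat Q g⁻¹) hMM
  rw [charpoly_inv Q hQ] at h1
  -- the determinant is one
  have hdet2 : (mat Q g).det * (mat Q g).det = 1 := by
    have h2 : (mat Q g⁻¹).det = (mat Q g).det := by
      rw [Matrix.det_eq_sign_charpoly_coeff, Matrix.det_eq_sign_charpoly_coeff (mat Q g),
        charpoly_inv Q hQ]
    have h3 := congrArg Matrix.det hMM
    rw [Matrix.det_mul, Matrix.det_one, h2] at h3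
    exact h3
  have hdetN : (mat Q g).det ^ N = 1 := by
    rw [← Matrix.det_pow, (mat_pow_eq_one_iff Q g N).2 hN, Matrix.det_one]
  have hdet : (mat Q g).det = 1 := by
    obtain ⟨k, hk⟩ := hodd
    rw [hk, pow_succ, pow_mul, sq, hdet2, one_pow, one_mul] at hdetN
    exact hdetN
  rw [h1, hdet, C_1, one_mul]

end Cfsg.Agent.Lib.Helper40_OClasses
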