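import Mathlib
import Cfsg.Agent.Lib.Helper40_OClasses
import Cfsg.Agent.Lib.Helper44_Simil
import Cfsg.Agent.Lib.Helper44_StdForms

set_option autoImplicit false

/-!
Transporting an isometry of an abstract quadratic space to an element of the matrix isometry
group of a standard form along a similarity; sums of squares; products of quadratic spaces.
-/

namespace Cfsg.Agent.Lib.Helper40_OTransport

open Polynomial Module Matrix Cfsg.Agent.Lib.Helper44_WittMat Cfsg.Agent.Lib.Helper40_OClasses

universe v

variable {F : Type v} [Field F]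

section transport

variable {ι : Type} [Fintype ι] [DecidableEq ι]

/-- an isometry of finite order of a quadratic space similar to a standard one gives an element of
the matrix isometry group with the same characteristic polynomial -/
theorem exists_of_simil {V : Type v} [AddCommGroup V] [Module F V] [Module.Finite F V]
    (Q₀ : QuadraticForm F (ι → F)) (Q : QuadraticForm F V) (φ : V ≃ₗ[F] (ι → F)) (μ : F)
    (hμ : μ ≠ 0) (hφ : ∀ v, Q v = μ * Q₀ (φ v)) (a : Module.End F V)
    (hiso : ∀ x, Q (a x) = Q x) (r : ℕ) (hr : 0 < r) (hpow : a ^ r = 1) :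
    ∃ g : ↥(Cfsg.isometryGroup F ⇑Q₀), g ^ r = 1 ∧ (mat Q₀ g).charpoly = a.charpoly := by
  set a' : Module.End F (ι → F) := φ.conj a with ha'
  have ha'app : ∀ v, a' v = φ (a (φ.symm v)) := fun v => rfl
  have hpow' : a' ^ r = 1 := by
    have h0 : a' = φ.conjRingEquiv a := rfl
    rw [h0, ← map_pow, hpow, map_one]
  have h1 : a' * a' ^ (r - 1) = 1 := by rw [← pow_succ', Nat.sub_add_cancel hr, hpow']
  have h2 : a' ^ (r - 1) * a' = 1 := by rw [← pow_succ, Nat.sub_add_cancel hr, hpow']
  let e : (ι → F) ≃ₗ[F] (ι → F) := LinearEquiv.ofLinearMap a' (a' ^ (r - 1)) h1 h2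
  have he : ∀ v, Q₀ (e v) = Q₀ v := by
    intro v
    show Q₀ (a' v) = Q₀ v
    rw [ha'app]
    have h3 := hφ (a (φ.symm v))
    rw [hiso, hφ, φ.apply_symm_apply] at h3
    exact (mul_left_cancel₀ hμ h3).symm
  have hmat : mat Q₀ (isomOfEquiv Q₀ e he) = LinearMap.toMatrix' a' := rfl
  refine ⟨isomOfEquiv Q₀ e he, ?_, ?_⟩
  · rw [← mat_pow_eq_one_iff, hmat]
    apply Matrix.toLin'.injective
    rw [Matrix.toLin'_pow, Matrix.toLin'_toMatrix', hpow', Matrix.toLin'_one]
    rfl
  · rw [hmat, ← Matrix.charpoly_toLin', Matrix.toLin'_toMatrix', ha']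
    exact LinearEquiv.charpoly_conj φ a

end transport

section sumsq

/-- the sum of squares -/
noncomputable def sumSq (n : ℕ) : QuadraticForm F (Fin n → F) :=
  ∑ i : Fin n, QuadraticMap.proj i i

theorem sumSq_apply (n : ℕ) (v : Fin n → F) : sumSq n v = ∑ i, v i * v i := by
  simp [sumSq]

theorem polar_sumSq (n : ℕ) (x y : Fin n → F) :
    QuadraticMap.polar (⇑(sumSq (F := F) n)) x y = ∑ i, 2 * (x i * y i) := by
  simp only [QuadraticMap.polar, sumSq_apply, Pi.add_apply]
  rw [← Finset.sum_sub_distrib, ← Finset.sum_sub_distrib]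
  apply Finset.sum_congr rfl
  intro i _
  ring

theorem nondegenerate_sumSq (h2 : (2 : F) ≠ 0) (n : ℕ) :
    (QuadraticMap.polarBilin (sumSq (F := F) n)).Nondegenerate := by
  have hleft : ∀ x : Fin n → F,
      (∀ y, QuadraticMap.polarBilin (sumSq (F := F) n) x y = 0) → x = 0 := by
    intro x hx
    funext i
    have h1 := hx (Pi.single i 1)
    rw [QuadraticMap.polarBilin_apply_apply, polar_sumSq] at h1
    simp only [Pi.single_apply, mul_ite, mul_one, mul_zero, Finset.sum_ite_eq',
      Finset.mem_univ, if_true] at h1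
    exact (mul_eq_zero.1 h1).resolve_left h2
  refine ⟨hleft, ?_⟩
  intro y hy
  apply hleft
  intro x
  have := hy x
  rw [QuadraticMap.polarBilin_apply_apply, QuadraticMap.polar_comm] at this
  rw [QuadraticMap.polarBilin_apply_apply]
  exact this

end sumsq

section prod

variable {V₁ V₂ : Type v} [AddCommGroup V₁] [Module F V₁] [AddCommGroup V₂] [Module F V₂]

theorem nondegenerate_prod (Q₁ : QuadraticForm F V₁) (Q₂ : QuadraticForm F V₂)
    (h₁ : (QuadraticMap.polarBilin Q₁).Nondegenerate)
    (h₂ : (QuadraticMap.polarBilin Q₂).Nondegenerate) :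
    (QuadraticMap.polarBilin (Q₁.prod Q₂)).Nondegenerate := by
  have hpol : ∀ x y : V₁ × V₂, QuadraticMap.polarBilin (Q₁.prod Q₂) x y =
      QuadraticMap.polarBilin Q₁ x.1 y.1 + QuadraticMap.polarBilin Q₂ x.2 y.2 := by
    intro x y
    simp only [QuadraticMap.polarBilin_apply_apply, QuadraticMap.polar, QuadraticMap.prod_apply,
      Prod.fst_add, Prod.snd_add]
    ring
  have hleft : ∀ x : V₁ × V₂,
      (∀ y, QuadraticMap.polarBilin (Q₁.prod Q₂) x y = 0) → x = 0 := by
    intro x hx
    apply Prod.ext
    · apply h₁.1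
      intro y
      have := hx (y, 0)
      rw [hpol] at this
      simpa using this
    · apply h₂.1
      intro y
      have := hx (0, y)
      rw [hpol] at this
      simpa using this
  refine ⟨hleft, ?_⟩
  intro y hy
  apply hleft
  intro x
  have := hy x
  rw [QuadraticMap.polarBilin_apply_apply, QuadraticMap.polar_comm] at this
  rw [QuadraticMap.polarBilin_apply_apply]
  exact this

theorem prodMap_pow (a₁ : Module.End F V₁) (a₂ : Module.End F V₂) (k : ℕ) :
    (LinearMap.prodMap a₁ a₂ : Module.End F (V₁ × V₂)) ^ k = LinearMap.prodMap (a₁ ^ k) (a₂ ^ k) := by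
  induction k with
  | zero =>
    rw [pow_zero, pow_zero, pow_zero]
    exact LinearMap.prodMap_one.symm
  | succ k ih =>
    rw [pow_succ, pow_succ, pow_succ, ih]
    exact (LinearMap.prodMap_mul _ _ _ _).symm

end prod

end Cfsg.Agent.Lib.Helper40_OTransport
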