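import Mathlib

set_option autoImplicit false

/-!
Counting monic polynomials of a given degree with a condition on the constant coefficient.
-/

namespace Cfsg.Agent.Lib.Helper40_MonicPoly

open Polynomial

variable {F : Type*} [Field F]

/-- the monic polynomial of degree `n` with the given lower coefficients -/
noncomputable def toPoly (n : ℕ) (v : Fin n → F) : F[X] :=
  X ^ n + ∑ i : Fin n, C (v i) * X ^ (i : ℕ)

theorem toPoly_monic (n : ℕ) (v : Fin n → F) : (toPoly n v).Monic :=
  monic_X_pow_add (degree_sum_fin_lt v)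

theorem toPoly_natDegree (n : ℕ) (v : Fin n → F) : (toPoly n v).natDegree = n := by
  unfold toPoly
  rw [natDegree_add_eq_left_of_degree_lt (by rw [degree_X_pow]; exact degree_sum_fin_lt v),
    natDegree_X_pow]

theorem toPoly_coeff (n : ℕ) (v : Fin n → F) (i : Fin n) : (toPoly n v).coeff i = v i := by
  classical
  unfold toPoly
  rw [coeff_add, coeff_X_pow, if_neg (by have := i.2; omega), zero_add, finsetSum_coeff]
  simp only [coeff_C_mul_X_pow, Fin.val_inj]
  rw [Finset.sum_ite_eq]
  simp

theorem toPoly_coeffs (n : ℕ) (c : F[X]) (hc : c.Monic) (hn : c.natDegree = n) :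
    toPoly n (fun i => c.coeff i) = c := by
  subst hn
  conv_rhs => rw [hc.as_sum]
  unfold toPoly
  rw [Finset.sum_range]

/-- Monic polynomials of degree `m + 1` with a condition on the constant coefficient. -/
noncomputable def monicEquiv (m : ℕ) (R : F → Prop) :
    {c : F[X] // c.Monic ∧ c.natDegree = m + 1 ∧ R (c.coeff 0)} ≃
      {v : Fin (m + 1) → F // R (v 0)} where
  toFun c := ⟨fun i => c.1.coeff i, c.2.2.2⟩
  invFun v := ⟨toPoly (m + 1) v.1, toPoly_monic _ _, toPoly_natDegree _ _, by
    have := toPoly_coeff (m + 1) v.1 0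
    rw [Fin.val_zero] at this
    rw [this]
    exact v.2⟩
  left_inv c := by
    apply Subtype.ext
    exact toPoly_coeffs (m + 1) c.1 c.2.1 c.2.2.1
  right_inv v := by
    apply Subtype.ext
    funext i
    exact toPoly_coeff (m + 1) v.1 i

theorem card_monic (n : ℕ) (hn : 1 ≤ n) (R : F → Prop) [Finite F] :
    Nat.card {c : F[X] // c.Monic ∧ c.natDegree = n ∧ R (c.coeff 0)} =
      Nat.card {x : F // R x} * Nat.card F ^ (n - 1) := by
  obtain ⟨m, rfl⟩ : ∃ m, n = m + 1 := ⟨n - 1, by omega⟩
  rw [Nat.add_sub_cancel]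
  let e1 : {v : Fin (m + 1) → F // R (v 0)} ≃ {s : F × (Fin m → F) // R s.1} :=
    (Fin.consEquiv (fun _ : Fin (m + 1) => F)).symm.subtypeEquiv (fun v => by simp)
  let e2 : {s : F × (Fin m → F) // R s.1} ≃ {x : F // R x} × (Fin m → F) :=
    Equiv.prodSubtypeFstEquivSubtypeProd
  rw [Nat.card_congr (((monicEquiv m R).trans e1).trans e2), Nat.card_prod, Nat.card_fun,
    Nat.card_fin]

end Cfsg.Agent.Lib.Helper40_MonicPoly
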