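import Mathlib
import Cfsg.Agent.Lib.Helper40_MonicPoly
import Cfsg.Agent.Lib.Helper40_Palindromic

set_option autoImplicit false

/-!
Counting monic palindromic polynomials of degree `2 n` over a finite field: there are `q ^ n`.
-/

namespace Cfsg.Agent.Lib.Helper40_PalindromicCount

open Polynomial Cfsg.Agent.Lib.Helper40_MonicPoly Cfsg.Agent.Lib.Helper40_Palindromic

variable {F : Type*} [Field F]

/-- extension by zero -/
noncomputable def ext0 (n : ℕ) (v : Fin n → F) (k : ℕ) : F :=
  if h : k < n then v ⟨k, h⟩ else 0

theorem ext0_lt (n : ℕ) (v : Fin n → F) (k : ℕ) (h : k < n) : ext0 n v k = v ⟨k, h⟩ := by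
  unfold ext0
  rw [dif_pos h]

/-- the lower coefficients of the palindromic polynomial with middle coefficients `v` -/
noncomputable def palCoeff (n : ℕ) (v : Fin n → F) (j : ℕ) : F :=
  if j = 0 then 1 else if j ≤ n then ext0 n v (j - 1) else ext0 n v (2 * n - j - 1)

/-- the palindromic polynomial with prescribed coefficients of `X, ..., X ^ n` -/
noncomputable def palPoly (n : ℕ) (v : Fin n → F) : F[X] :=
  toPoly (2 * n) (fun j => palCoeff n v j)

theorem palPoly_monic (n : ℕ) (v : Fin n → F) : (palPoly n v).Monic := toPoly_monic _ _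

theorem palPoly_natDegree (n : ℕ) (v : Fin n → F) : (palPoly n v).natDegree = 2 * n :=
  toPoly_natDegree _ _

theorem palPoly_coeff_lt (n : ℕ) (v : Fin n → F) (j : ℕ) (hj : j < 2 * n) :
    (palPoly n v).coeff j = palCoeff n v j :=
  toPoly_coeff (2 * n) (fun j => palCoeff n v j) ⟨j, hj⟩

theorem palPoly_coeff_top (n : ℕ) (v : Fin n → F) : (palPoly n v).coeff (2 * n) = 1 := by
  have h := (palPoly_monic n v).coeff_natDegree
  rwa [palPoly_natDegree] at h

theorem palPoly_reverse (n : ℕ) (v : Fin n → F) : (palPoly n v).reverse = palPoly n v := by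
  ext j
  rw [coeff_reverse, palPoly_natDegree]
  rcases Nat.lt_or_ge (2 * n) j with hj | hj
  · -- both sides vanish
    have : revAt (2 * n) j = j := by
      show (if j ≤ 2 * n then 2 * n - j else j) = j
      rw [if_neg (by omega)]
    rw [this]
  · rw [revAt_le hj]
    rcases Nat.eq_zero_or_pos j with rfl | hj0
    · rw [Nat.sub_zero, palPoly_coeff_top]
      rcases Nat.eq_zero_or_pos n with rfl | hn
      · exact (palPoly_coeff_top 0 v).symm
      · rw [palPoly_coeff_lt n v 0 (by omega), palCoeff, if_pos rfl]
    · rcases Nat.lt_or_ge j (2 * n) with hj2 | hj2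
      · rw [palPoly_coeff_lt n v j hj2, palPoly_coeff_lt n v (2 * n - j) (by omega)]
        unfold palCoeff
        have e1 : ¬ (2 * n - j = 0) := by omega
        have e2 : ¬ (j = 0) := by omega
        rw [if_neg e1, if_neg e2]
        by_cases h1 : j ≤ n
        · rw [if_pos h1]
          by_cases h2 : 2 * n - j ≤ n
          · rw [if_pos h2]
            congr 1
            omega
          · rw [if_neg h2]
            congr 1
            omega
        · have e3 : 2 * n - j ≤ n := by omega
          rw [if_neg h1, if_pos e3]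
      · have : j = 2 * n := by omega
        subst this
        rw [Nat.sub_self, palPoly_coeff_top]
        rcases Nat.eq_zero_or_pos n with rfl | hn
        · exact palPoly_coeff_top 0 v
        · rw [palPoly_coeff_lt n v 0 (by omega), palCoeff, if_pos rfl]

/-- monic palindromic polynomials of degree `2 n` correspond to their coefficients of
`X, ..., X ^ n` -/
noncomputable def palEquiv (n : ℕ) :
    {c : F[X] // c.Monic ∧ c.natDegree = 2 * n ∧ c.reverse = c} ≃ (Fin n → F) where
  toFun c := fun i => c.1.coeff ((i : ℕ) + 1)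
  invFun v := ⟨palPoly n v, palPoly_monic n v, palPoly_natDegree n v, palPoly_reverse n v⟩
  left_inv c := by
    apply Subtype.ext
    obtain ⟨c, hm, hd, hr⟩ := c
    show palPoly n (fun i : Fin n => c.coeff ((i : ℕ) + 1)) = c
    unfold palPoly
    rw [← toPoly_coeffs (2 * n) c hm hd]
    congr 1
    funext j
    rw [toPoly_coeffs (2 * n) c hm hd]
    unfold palCoeff
    by_cases h0 : (j : ℕ) = 0
    · rw [if_pos h0, h0, coeff_zero_of_reverse_eq c hm hr]
    · rw [if_neg h0]
      by_cases h1 : (j : ℕ) ≤ n
      · rw [if_pos h1, ext0_lt n _ _ (by omega)]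
        show c.coeff ((j : ℕ) - 1 + 1) = _
        rw [Nat.sub_add_cancel (by omega)]
      · rw [if_neg h1, ext0_lt n _ _ (by have := j.2; omega)]
        show c.coeff (2 * n - (j : ℕ) - 1 + 1) = _
        have hj := j.2
        rw [Nat.sub_add_cancel (by omega)]
        have h2 := congrArg (fun p => coeff p (j : ℕ)) hr
        simp only [coeff_reverse, hd, revAt_le (le_of_lt hj)] at h2
        exact h2
  right_inv v := by
    funext i
    show (palPoly n v).coeff ((i : ℕ) + 1) = v i
    have hi := i.2
    rw [palPoly_coeff_lt n v _ (by omega), palCoeff, if_neg (by omega), if_pos (by omega),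
      ext0_lt n v _ (by omega)]
    rfl

theorem card_palindromic [Finite F] (n : ℕ) :
    Nat.card {c : F[X] // c.Monic ∧ c.natDegree = 2 * n ∧ c.reverse = c} = Nat.card F ^ n := by
  rw [Nat.card_congr (palEquiv n), Nat.card_fun, Nat.card_fin]

end Cfsg.Agent.Lib.Helper40_PalindromicCount
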