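import Mathlib

set_option autoImplicit false

/-!
Monic polynomials all of whose irreducible factors lie in a given finite set, parametrised by
exponent vectors.
-/

namespace Cfsg.Agent.Lib.Helper40_PolyFactors

open Polynomial

variable {F : Type*} [Field F]

theorem isCoprime_of_monic_irreducible_ne {f g : F[X]} (hf : Irreducible f) (hfm : f.Monic)
    (hg : Irreducible g) (hgm : g.Monic) (hne : f ≠ g) : IsCoprime f g :=
  (Irreducible.coprime_iff_not_dvd hf).2
    (fun hdvd => hne (eq_of_monic_of_associated hfm hgm (hf.associated_of_dvd hg hdvd)))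

/-- the polynomial attached to an exponent vector -/
noncomputable def psi (W : Finset F[X]) (l : F[X]) (a : ℕ) (b : ↥W → ℕ) : F[X] :=
  l ^ a * ∏ w : ↥W, (w : F[X]) ^ b w

section

variable (W : Finset F[X]) (l : F[X]) (hl : l.Monic ∧ Irreducible l)
  (hW : ∀ w ∈ W, w.Monic ∧ Irreducible w ∧ w ≠ l)

include hl hW

theorem psi_monic (a : ℕ) (b : ↥W → ℕ) : (psi W l a b).Monic := by
  unfold psi
  apply Monic.mul (hl.1.pow a)
  apply monic_prod_of_monic
  intro w _
  exact (hW w w.2).1.pow _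

theorem psi_natDegree (a : ℕ) (b : ↥W → ℕ) :
    (psi W l a b).natDegree = a * l.natDegree + ∑ w : ↥W, b w * (w : F[X]).natDegree := by
  unfold psi
  have hm : (∏ w : ↥W, (w : F[X]) ^ b w).Monic := by
    apply monic_prod_of_monic
    intro w _
    exact (hW w w.2).1.pow _
  rw [Monic.natDegree_mul (hl.1.pow a) hm, hl.1.natDegree_pow, natDegree_prod_of_monic]
  · congr 1
    apply Finset.sum_congr rfl
    intro w _
    exact (hW w w.2).1.natDegree_pow _
  · intro w _
    exact (hW w w.2).1.pow _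

omit hl hW in
theorem psi_factor (a : ℕ) (b : ↥W → ℕ) (f : F[X]) (hf : Irreducible f)
    (hdvd : f ∣ psi W l a b) : f ∣ l ∨ ∃ w ∈ W, f ∣ w := by
  have hp : Prime f := hf.prime
  unfold psi at hdvd
  rcases hp.dvd_or_dvd hdvd with h | h
  · exact Or.inl (hp.dvd_of_dvd_pow h)
  · obtain ⟨w, _, hw⟩ := hp.exists_mem_finset_dvd h
    exact Or.inr ⟨w, w.2, hp.dvd_of_dvd_pow hw⟩

theorem psi_le (a a' : ℕ) (b b' : ↥W → ℕ) (h : psi W l a b = psi W l a' b') (w0 : ↥W) :
    b w0 ≤ b' w0 := by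
  classical
  obtain ⟨hw0m, hw0i, hw0l⟩ := hW w0 w0.2
  have h1 : (w0 : F[X]) ^ b w0 ∣ psi W l a b := by
    unfold psi
    apply dvd_mul_of_dvd_right
    exact Finset.dvd_prod_of_mem (fun w : ↥W => (w : F[X]) ^ b w) (Finset.mem_univ w0)
  rw [h] at h1
  unfold psi at h1
  rw [Fintype.prod_eq_mul_prod_compl w0, mul_left_comm] at h1
  have hcop : IsCoprime ((w0 : F[X]) ^ b w0)
      (l ^ a' * ∏ w ∈ ({w0}ᶜ : Finset ↥W), (w : F[X]) ^ b' w) := by
    apply IsCoprime.pow_left
    apply IsCoprime.mul_right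
    · exact (isCoprime_of_monic_irreducible_ne hw0i hw0m hl.2 hl.1 hw0l).pow_right
    · apply IsCoprime.prod_right
      intro w hw
      apply IsCoprime.pow_right
      obtain ⟨hwm, hwi, _⟩ := hW w w.2
      apply isCoprime_of_monic_irreducible_ne hw0i hw0m hwi hwm
      intro heq
      rw [Finset.mem_compl, Finset.mem_singleton] at hw
      exact hw (Subtype.ext heq.symm)
  have h2 := hcop.dvd_of_dvd_mul_right h1
  exact (pow_dvd_pow_iff hw0i.ne_zero hw0i.not_isUnit).1 h2

theorem psi_inj (a a' : ℕ) (b b' : ↥W → ℕ) (h : psi W l a b = psi W l a' b') : b = b' := by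
  funext w0
  exact le_antisymm (psi_le W l hl hW a a' b b' h w0) (psi_le W l hl hW a' a b' b h.symm w0)

theorem psi_surj (k : ℕ) : ∀ c : F[X], c.Monic → c.natDegree = k →
    (∀ f : F[X], f.Monic → Irreducible f → f ∣ c → f = l ∨ f ∈ W) →
    ∃ (a : ℕ) (b : ↥W → ℕ), c = psi W l a b := by
  classical
  induction k using Nat.strong_induction_on with
  | _ k ih =>
  intro c hc hk hfac
  rcases Nat.eq_zero_or_pos k with hk0 | hkpos
  · subst hk0
    refine ⟨0, fun _ => 0, ?_⟩
    rw [eq_one_of_monic_natDegree_zero hc hk]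
    simp [psi]
  · have hnu : ¬ IsUnit c := by
      intro hu
      have := natDegree_eq_zero_of_isUnit hu
      omega
    obtain ⟨f, hfm, hfi, c', rfl⟩ := exists_monic_irreducible_factor c hnu
    have hc'm : c'.Monic := hfm.of_mul_monic_left hc
    have hdeg : (f * c').natDegree = f.natDegree + c'.natDegree := hfm.natDegree_mul hc'm
    have hfpos : 0 < f.natDegree := hfi.natDegree_pos
    obtain ⟨a, b, hab⟩ := ih c'.natDegree (by omega) c' hc'm rfl
      (fun g hgm hgi hg => hfac g hgm hgi (dvd_mul_of_dvd_right hg f))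
    rcases hfac f hfm hfi (dvd_mul_right f c') with rfl | hfW
    · refine ⟨a + 1, b, ?_⟩
      rw [hab]
      unfold psi
      rw [pow_succ]
      ring
    · refine ⟨a, Function.update b ⟨f, hfW⟩ (b ⟨f, hfW⟩ + 1), ?_⟩
      rw [hab]
      unfold psi
      rw [Fintype.prod_eq_mul_prod_compl (⟨f, hfW⟩ : ↥W),
        Fintype.prod_eq_mul_prod_compl (⟨f, hfW⟩ : ↥W)
          (fun w => (w : F[X]) ^ Function.update b ⟨f, hfW⟩ (b ⟨f, hfW⟩ + 1) w)]
      have h1 : ∏ w ∈ ({⟨f, hfW⟩}ᶜ : Finset ↥W),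
          (w : F[X]) ^ Function.update b ⟨f, hfW⟩ (b ⟨f, hfW⟩ + 1) w =
          ∏ w ∈ ({⟨f, hfW⟩}ᶜ : Finset ↥W), (w : F[X]) ^ b w := by
        apply Finset.prod_congr rfl
        intro w hw
        rw [Finset.mem_compl, Finset.mem_singleton] at hw
        rw [Function.update_of_ne hw]
      rw [h1, Function.update_self, pow_succ]
      ring

end

end Cfsg.Agent.Lib.Helper40_PolyFactors
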