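import Mathlib

set_option autoImplicit false

/-!
The number of tuples of natural numbers with bounded sum.
-/

namespace Cfsg.Agent.Lib.Helper40_TupleCount

/-- tuples with sum at most `m` correspond to finitely supported functions on `Option ι` with
sum `m` -/
noncomputable def sumLeEquiv (ι : Type*) [Fintype ι] [DecidableEq ι] (m : ℕ) :
    {b : ι → ℕ // ∑ x, b x ≤ m} ≃ ↥((Finset.univ : Finset (Option ι)).finsuppAntidiag m) where
  toFun b := ⟨Finsupp.equivFunOnFinite.symm (fun o : Option ι => o.elim (m - ∑ x, b.1 x) b.1), by
    rw [Finset.mem_finsuppAntidiag]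
    refine ⟨?_, Finset.subset_univ _⟩
    rw [Fintype.sum_option]
    have := b.2
    simp only [Finsupp.equivFunOnFinite_symm_apply_apply, Option.elim_none, Option.elim_some]
    omega⟩
  invFun f := ⟨fun x => f.1 (some x), by
    have h := (Finset.mem_finsuppAntidiag.1 f.2).1
    rw [Fintype.sum_option] at h
    show ∑ x, f.1 (some x) ≤ m
    omega⟩
  left_inv b := by
    apply Subtype.ext
    funext x
    simp
  right_inv f := by
    apply Subtype.ext
    ext o
    have h := (Finset.mem_finsuppAntidiag.1 f.2).1
    rw [Fintype.sum_option] at h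
    cases o with
    | none =>
      simp only [Finsupp.equivFunOnFinite_symm_apply_apply, Option.elim_none]
      omega
    | some x => simp

theorem card_sum_le (ι : Type*) [Fintype ι] (m : ℕ) :
    Nat.card {b : ι → ℕ // ∑ x, b x ≤ m} = (m + Fintype.card ι).choose (Fintype.card ι) := by
  classical
  rw [Nat.card_congr (sumLeEquiv ι m), Nat.card_eq_fintype_card, Fintype.card_coe,
    Finset.card_finsuppAntidiag_nat_eq_choose, Finset.card_univ, Fintype.card_option]
  have : Fintype.card ι + 1 + m - 1 = m + Fintype.card ι := by omega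
  rw [this, Nat.choose_symm_add]

theorem card_mul_sum_le (ι : Type*) [Fintype ι] (i n : ℕ) (hi : 0 < i) :
    Nat.card {b : ι → ℕ // i * ∑ x, b x ≤ n} =
      (n / i + Fintype.card ι).choose (Fintype.card ι) := by
  rw [← card_sum_le ι (n / i)]
  apply Nat.card_congr
  apply Equiv.subtypeEquivRight
  intro b
  rw [Nat.le_div_iff_mul_le hi, mul_comm]

end Cfsg.Agent.Lib.Helper40_TupleCount
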