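import Mathlib
import Cfsg.Agent.Lib.Helper40_SemisimpleExist
import Cfsg.Agent.Lib.Helper40_PolyFactors
import Cfsg.Agent.Lib.Helper40_TupleCount
import Cfsg.Agent.Lib.Helper40_ClassCount

set_option autoImplicit false

/-!
Conjugacy classes of elements of prime order `r` (different from the characteristic) in
`GL_n(q)`.
-/

namespace Cfsg.Agent.Lib.Helper40_PrimeOrderClasses

open Polynomial Module Cfsg.Agent.Lib.Helper40_SemisimpleGL
  Cfsg.Agent.Lib.Helper40_SemisimpleExist Cfsg.Agent.Lib.Helper40_PolyFactors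

universe v

variable {F : Type v} [Field F]

/-- Every monic polynomial of degree `n` is the characteristic polynomial of a semisimple
`n × n` matrix killed by every polynomial divisible by all its irreducible factors. -/
theorem exists_matrix_of_monic' (n : ℕ) (c : F[X]) (hc : c.Monic) (hn : c.natDegree = n) :
    ∃ A : Matrix (Fin n) (Fin n) F, A.charpoly = c ∧ IsSS A ∧
      ∀ r : F[X], (∀ g, Irreducible g → g ∣ c → g ∣ r) → aeval A r = 0 := by
  classical
  obtain ⟨V, _, _, _, a, hac, har⟩ := exists_module_of_monic n c hc hn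
  have hfin : finrank F V = n := by rw [← LinearMap.charpoly_natDegree a, hac, hn]
  let b := Module.finBasisOfFinrankEq F V hfin
  have h1 : ∀ r : F[X], aeval (LinearMap.toMatrix b b a) r =
      LinearMap.toMatrixAlgEquiv b (aeval a r) :=
    fun r => aeval_algHom_apply (LinearMap.toMatrixAlgEquiv b).toAlgHom a r
  refine ⟨LinearMap.toMatrix b b a, by rw [LinearMap.charpoly_toMatrix, hac], ?_, ?_⟩
  · apply isSS_of_squarefree_aeval_eq_zero _ (UniqueFactorizationMonoid.radical c)
      UniqueFactorizationMonoid.squarefree_radical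
    rw [h1, har _ (fun g hg hgc =>
      (UniqueFactorizationMonoid.dvd_radical_iff_of_irreducible hg hc.ne_zero).2 hgc), map_zero]
  · intro r hr
    rw [h1, har r hr, map_zero]

/-- A semisimple matrix with characteristic polynomial `(X - 1) ^ n` is the identity. -/
theorem eq_one_of_isSS_of_charpoly {n : ℕ} (A : Matrix (Fin n) (Fin n) F) (hA : IsSS A)
    (h : A.charpoly = (X - 1) ^ n) : A = 1 := by
  unfold IsSS at hA
  set u : Module.End F (Fin n → F) := Matrix.toLin' A with hu
  have h1 : (u - 1) ^ n = 0 := by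
    have h2 : aeval u (((X : F[X]) - 1) ^ n) = (u - 1) ^ n := by
      rw [map_pow, map_sub, aeval_X, map_one]
    rw [← h2, ← h, aeval_toLin', Matrix.aeval_self_charpoly, map_zero]
  have hnil : IsNilpotent (u - 1) := ⟨n, h1⟩
  have hss : (u - 1).IsSemisimple := by
    have := (Module.End.isSemisimple_sub_algebraMap_iff (f := u) (μ := (1 : F))).2 hA
    rwa [map_one] at this
  have h0 : u - 1 = 0 := Module.End.eq_zero_of_isNilpotent_isSemisimple hnil hss
  have h4 : Matrix.toLin' A = Matrix.toLin' (1 : Matrix (Fin n) (Fin n) F) := by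
    rw [Matrix.toLin'_one]
    exact sub_eq_zero.1 h0
  exact Matrix.toLin'.injective h4

/-- An irreducible factor of the characteristic polynomial of a matrix killed by `P`
divides `P`. -/
theorem dvd_of_irreducible_of_dvd_charpoly {n : ℕ} (A : Matrix (Fin n) (Fin n) F) (P : F[X])
    (hP : aeval A P = 0) (f : F[X]) (hf : Irreducible f) (hdvd : f ∣ A.charpoly) : f ∣ P := by
  by_contra hnd
  obtain ⟨u, w, huw⟩ := (Irreducible.coprime_iff_not_dvd hf).2 hnd
  rw [← Matrix.charpoly_toLin'] at hdvd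
  obtain ⟨v, hv0, hv⟩ := Helper40_Semisimple.exists_ne_zero_aeval_eq_zero (Matrix.toLin' A) f hf hdvd
  have hP' : aeval (Matrix.toLin' A) P = 0 := by rw [aeval_toLin', hP, map_zero]
  have h1 : aeval (Matrix.toLin' A) (u * f + w * P) v = v := by
    rw [huw, map_one, Module.End.one_apply]
  rw [map_add, map_mul, map_mul, hP', mul_zero, add_zero, Module.End.mul_apply, hv,
    map_zero] at h1
  exact hv0 h1.symm

theorem X_sub_one_dvd (r : ℕ) (hr : r.Prime) : ((X : F[X]) - 1) ∣ X ^ r - 1 := by
  have : Fact r.Prime := ⟨hr⟩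
  exact ⟨cyclotomic r F, by rw [mul_comm, cyclotomic_prime_mul_X_sub_one]⟩

theorem X_sub_one_props : ((X : F[X]) - 1).Monic ∧ Irreducible ((X : F[X]) - 1) := by
  have h : ((X : F[X]) - 1) = X - C 1 := by rw [map_one]
  rw [h]
  exact ⟨monic_X_sub_C 1, irreducible_X_sub_C 1⟩

/-- The monic irreducible factors of `X ^ r - 1` other than `X - 1`. -/
theorem exists_cyclotomic_factors [Fintype F] (p : ℕ) [Fact p.Prime] [CharP F p] (r : ℕ)
    (hr : r.Prime) (hrp : r ≠ p) :
    0 < orderOf ((Fintype.card F : ℕ) : ZMod r) ∧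
    ∃ W : Finset F[X], W.card = (r - 1) / orderOf ((Fintype.card F : ℕ) : ZMod r) ∧
      (∀ w ∈ W, w.Monic ∧ Irreducible w ∧ w ≠ X - 1 ∧ w ∣ X ^ r - 1 ∧
        w.natDegree = orderOf ((Fintype.card F : ℕ) : ZMod r)) ∧
      (∀ f : F[X], f.Monic → Irreducible f → f ∣ X ^ r - 1 → f = X - 1 ∨ f ∈ W) := by
  classical
  have hp : p.Prime := Fact.out
  have : Fact r.Prime := ⟨hr⟩
  obtain ⟨f, _, hK⟩ := FiniteField.card F p
  have hcop : p.Coprime r := (Nat.coprime_primes hp hr).2 (Ne.symm hrp)
  have hord : orderOf (ZMod.unitOfCoprime (p ^ (f : ℕ)) (hcop.pow_left f)) =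
      orderOf ((Fintype.card F : ℕ) : ZMod r) := by
    rw [← orderOf_units, ZMod.coe_unitOfCoprime, hK]
  have hcyc0 : cyclotomic r F ≠ 0 := cyclotomic_ne_zero r F
  have hfac : cyclotomic r F * (X - 1) = X ^ r - 1 := cyclotomic_prime_mul_X_sub_one F r
  refine ⟨by rw [← hord]; exact orderOf_pos _, ?_⟩
  refine ⟨(UniqueFactorizationMonoid.normalizedFactors (cyclotomic r F)).toFinset, ?_, ?_, ?_⟩
  · rw [normalizedFactors_cyclotomic_card hK hcop, Nat.totient_prime hr, hord]
  · intro w hw
    rw [Multiset.mem_toFinset] at hw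
    have hdeg := natDegree_of_mem_normalizedFactors_cyclotomic hK hcop hw
    rw [UniqueFactorizationMonoid.mem_normalizedFactors_iff' hcyc0] at hw
    obtain ⟨hwi, hwn, hwd⟩ := hw
    refine ⟨?_, hwi, ?_, ?_, ?_⟩
    · rw [← hwn]
      exact monic_normalize hwi.ne_zero
    · rintro rfl
      have h1 : eval 1 (cyclotomic r F) = 0 := by
        obtain ⟨k, hk⟩ := hwd
        rw [hk, eval_mul, eval_sub, eval_X, eval_one, sub_self, zero_mul]
      rw [eval_one_cyclotomic_prime] at h1
      have h2 : p ∣ r := (CharP.cast_eq_zero_iff F p r).1 h1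
      exact hrp ((Nat.prime_dvd_prime_iff_eq hp hr).1 h2).symm
    · exact hwd.trans ⟨X - 1, hfac.symm⟩
    · rw [hdeg, hord]
  · intro g hgm hgi hgd
    rw [← hfac] at hgd
    rcases hgi.prime.dvd_or_dvd hgd with h | h
    · right
      rw [Multiset.mem_toFinset, UniqueFactorizationMonoid.mem_normalizedFactors_iff' hcyc0]
      exact ⟨hgi, hgm.normalize_eq_self, h⟩
    · left
      exact eq_of_monic_of_associated hgm X_sub_one_props.1
        (hgi.associated_of_dvd X_sub_one_props.2 h)

theorem natDegree_X_sub_one : ((X : F[X]) - 1).natDegree = 1 := by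
  have h : ((X : F[X]) - 1) = X - C 1 := by rw [map_one]
  rw [h, natDegree_X_sub_C]

/-- The number of monic polynomials of degree `n` all of whose irreducible factors divide
`X ^ r - 1`. -/
theorem card_polys [Fintype F] (p : ℕ) [Fact p.Prime] [CharP F p] (n r i t : ℕ)
    (hr : r.Prime) (hrp : r ≠ p) (hi : i = orderOf ((Fintype.card F : ℕ) : ZMod r))
    (ht : t * i = r - 1) :
    Nat.card {c : F[X] // c.Monic ∧ c.natDegree = n ∧
      ∀ f, Irreducible f → f ∣ c → f ∣ X ^ r - 1} = (n / i + t).choose t := by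
  classical
  obtain ⟨hipos, W, hWcard, hW, hWall⟩ := exists_cyclotomic_factors (F := F) p r hr hrp
  rw [← hi] at hipos hWcard hW
  have hWt : W.card = t := by
    rw [hWcard, ← ht]
    exact Nat.mul_div_cancel t hipos
  have hl := X_sub_one_props (F := F)
  have hW' : ∀ w ∈ W, w.Monic ∧ Irreducible w ∧ w ≠ X - 1 :=
    fun w hw => ⟨(hW w hw).1, (hW w hw).2.1, (hW w hw).2.2.1⟩
  have hdeg : ∀ (a : ℕ) (b : ↥W → ℕ), (psi W (X - 1) a b).natDegree = a + i * ∑ x, b x := by
    intro a b
    rw [psi_natDegree W (X - 1) hl hW', natDegree_X_sub_one, mul_one, Finset.mul_sum]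
    congr 1
    apply Finset.sum_congr rfl
    intro w _
    rw [(hW w w.2).2.2.2.2, mul_comm]
  let Φ : {b : ↥W → ℕ // i * ∑ x, b x ≤ n} → {c : F[X] // c.Monic ∧ c.natDegree = n ∧
      ∀ f, Irreducible f → f ∣ c → f ∣ X ^ r - 1} := fun b =>
    ⟨psi W (X - 1) (n - i * ∑ x, b.1 x) b.1, psi_monic W (X - 1) hl hW' _ _, by
      rw [hdeg]
      have := b.2
      omega, by
      intro f hf hfd
      rcases psi_factor W (X - 1) _ _ f hf hfd with h | ⟨w, hw, h⟩
      · exact h.trans (X_sub_one_dvd r hr)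
      · exact h.trans (hW w hw).2.2.2.1⟩
  have hΦ : Function.Bijective Φ := by
    constructor
    · intro b b' h
      apply Subtype.ext
      exact psi_inj W (X - 1) hl hW' _ _ _ _ (congrArg Subtype.val h)
    · rintro ⟨c, hcm, hcn, hcf⟩
      obtain ⟨a, b, hab⟩ := psi_surj W (X - 1) hl hW' n c hcm hcn
        (fun f hfm hfi hfd => hWall f hfm hfi (hcf f hfi hfd))
      have h1 : a + i * ∑ x, b x = n := by rw [← hdeg, ← hab, hcn]
      refine ⟨⟨b, by omega⟩, ?_⟩
      apply Subtype.ext
      show psi W (X - 1) (n - i * ∑ x, b x) b = c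
      rw [hab]
      congr 1
      omega
  rw [← Nat.card_congr (Equiv.ofBijective Φ hΦ), Helper40_TupleCount.card_mul_sum_le _ i n hipos,
    Fintype.card_coe, hWt]

/-- The number of classes of elements of prime order `r` in `GL_n(q)`, `r` prime to `q`. -/
theorem card_prime_order_classes [Fintype F] (p : ℕ) [Fact p.Prime] [CharP F p] (n r i t : ℕ)
    (hr : r.Prime) (hrp : r ≠ p) (hi : i = orderOf ((Fintype.card F : ℕ) : ZMod r))
    (ht : t * i = r - 1) :
    Nat.card {C : ConjClasses (GL (Fin n) F) //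
      ∃ g : GL (Fin n) F, ConjClasses.mk g = C ∧ orderOf g = r} = (n / i + t).choose t - 1 := by
  classical
  have hp : p.Prime := Fact.out
  have hcop : r.Coprime p := (Nat.coprime_primes hr hp).2 hrp
  have hrF : (r : F) ≠ 0 := by
    rw [Ne, CharP.cast_eq_zero_iff F p]
    intro hdvd
    exact hrp ((Nat.prime_dvd_prime_iff_eq hp hr).1 hdvd).symm
  set T' : Set F[X] := {c | c.Monic ∧ c.natDegree = n ∧
    ∀ f, Irreducible f → f ∣ c → f ∣ X ^ r - 1} with hT'
  have hcardT' : Nat.card T' = (n / i + t).choose t := card_polys p n r i t hr hrp hi ht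
  have hmem : ((X : F[X]) - 1) ^ n ∈ T' := by
    refine ⟨X_sub_one_props.1.pow n, ?_, ?_⟩
    · rw [X_sub_one_props.1.natDegree_pow, natDegree_X_sub_one, mul_one]
    · intro f hf hfd
      exact (hf.prime.dvd_of_dvd_pow hfd).trans (X_sub_one_dvd r hr)
  have hss : ∀ g : GL (Fin n) F, orderOf g = r → IsSS (g : Matrix (Fin n) (Fin n) F) := by
    intro g hg
    apply isSS_of_coprime_GL p g
    rw [hg]
    exact hcop
  have h := Helper40_ClassCount.card_classes_eq (G := GL (Fin n) F) (fun g => orderOf g = r)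
    (fun g => (g : Matrix (Fin n) (Fin n) F).charpoly) (T' \ {(X - 1) ^ n}) ?_ ?_ ?_
  · rw [h, _root_.Nat.card_coe_set_eq, Set.ncard_sdiff_singleton_of_mem hmem,
      ← _root_.Nat.card_coe_set_eq, hcardT']
  · -- class function
    intro g h hgh
    obtain ⟨c, hc⟩ := isConj_iff.1 hgh
    show (g : Matrix (Fin n) (Fin n) F).charpoly = (h : Matrix (Fin n) (Fin n) F).charpoly
    rw [← hc, Units.val_mul, Units.val_mul, Matrix.coe_units_inv]
    exact (Matrix.charpoly_units_conj c _).symm
  · -- separation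
    intro g h hg hh hc
    obtain ⟨P, hP⟩ := exists_GL_conj (g : Matrix (Fin n) (Fin n) F) h (hss g hg) (hss h hh) hc
    rw [isConj_iff]
    refine ⟨P, ?_⟩
    rw [mul_inv_eq_iff_eq_mul]
    apply Units.ext
    exact hP
  · -- image
    intro c
    constructor
    · rintro ⟨⟨hcm, hcn, hcf⟩, hc1⟩
      rw [Set.mem_singleton_iff] at hc1
      obtain ⟨A, hAc, hA, hAr⟩ := exists_matrix_of_monic' n c hcm hcn
      have hAr1 : A ^ r = 1 := by
        have := hAr (X ^ r - 1) hcf
        rw [map_sub, map_pow, aeval_X, map_one] at this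
        exact sub_eq_zero.1 this
      have hrpos : 0 < r := hr.pos
      have hAA : A * A ^ (r - 1) = 1 := by
        rw [← pow_succ', Nat.sub_add_cancel hrpos, hAr1]
      have hAA' : A ^ (r - 1) * A = 1 := by
        rw [← pow_succ, Nat.sub_add_cancel hrpos, hAr1]
      let g : GL (Fin n) F := ⟨A, A ^ (r - 1), hAA, hAA'⟩
      have hgA : (g : Matrix (Fin n) (Fin n) F) = A := rfl
      refine ⟨g, ?_, by rw [hgA, hAc]⟩
      have hgr : g ^ r = 1 := by
        apply Units.ext
        rw [Units.val_pow_eq_pow_val, hgA, hAr1]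
        rfl
      rcases (Nat.dvd_prime hr).1 (orderOf_dvd_of_pow_eq_one hgr) with h1 | h1
      · exfalso
        apply hc1
        have hg1 : g = 1 := orderOf_eq_one_iff.1 h1
        have : A = 1 := by rw [← hgA, hg1]; rfl
        rw [← hAc, this, Matrix.charpoly_one, Fintype.card_fin]
      · exact h1
    · rintro ⟨g, hg, rfl⟩
      have hgr : (g : Matrix (Fin n) (Fin n) F) ^ r = 1 := by
        rw [← Units.val_pow_eq_pow_val, ← hg, pow_orderOf_eq_one]
        rfl
      have hP : aeval (g : Matrix (Fin n) (Fin n) F) (X ^ r - 1 : F[X]) = 0 := by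
        rw [map_sub, map_pow, aeval_X, map_one, hgr, sub_self]
      refine ⟨⟨Matrix.charpoly_monic _, ?_, ?_⟩, ?_⟩
      · rw [Matrix.charpoly_natDegree_eq_dim, Fintype.card_fin]
      · intro f hf hfd
        exact dvd_of_irreducible_of_dvd_charpoly _ _ hP f hf hfd
      · rw [Set.mem_singleton_iff]
        intro hc1
        have hA1 := eq_one_of_isSS_of_charpoly _ (hss g hg) hc1
        have hg1 : g = 1 := Units.ext hA1
        rw [hg1, orderOf_one] at hg
        exact hr.one_lt.ne hg

end Cfsg.Agent.Lib.Helper40_PrimeOrderClasses
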