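import Mathlib
import Cfsg.Agent.Lib.Helper40_SpExist
import Cfsg.Agent.Lib.Helper40_SpMatrix

set_option autoImplicit false

/-!
Every monic palindromic polynomial of degree `2 n` over a finite field is the characteristic
polynomial of a semisimple element of `Sp_{2n}(q)`; semisimple elements have order prime to `p`.
-/

namespace Cfsg.Agent.Lib.Helper40_SpExistMatrix

open Polynomial Module Matrix Cfsg.Agent.Lib.Helper40_SpBasic Cfsg.Agent.Lib.Helper40_SpMatrix
  Cfsg.Agent.Lib.Helper40_SpExist

universe v

variable {F : Type v} [Field F] {n : ℕ}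

theorem aeval_toLin'' {m : Type*} [Fintype m] [DecidableEq m] (A : Matrix m m F) (r : F[X]) :
    aeval (Matrix.toLin' A) r = Matrix.toLin' (aeval A r) :=
  aeval_algHom_apply (Matrix.toLinAlgEquiv' : Matrix m m F ≃ₐ[F] _).toAlgHom A r

theorem isoData_one {V : Type*} [AddCommGroup V] [Module F V] (B : LinearMap.BilinForm F V)
    (halt : ∀ x, B x x = 0) : IsoData B (1 : Module.End F V) 1 where
  alt := halt
  iso := fun _ _ => rfl
  pow := pow_one 1
  pos := one_pos

/-- existence of a symplectic matrix with prescribed palindromic characteristic polynomial,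
killed by every polynomial divisible by all irreducible factors -/
theorem exists_sp_matrix [Finite F] (n : ℕ) (c : F[X]) (hc : c.Monic) (hdeg : c.natDegree = 2 * n)
    (hrev : c.reverse = c) :
    ∃ A : Matrix (Fin n ⊕ Fin n) (Fin n ⊕ Fin n) F, A ∈ symplecticGroup (Fin n) F ∧
      A.charpoly = c ∧ ∀ r : F[X], (∀ g, Irreducible g → g ∣ c → g ∣ r) → aeval A r = 0 := by
  obtain ⟨V, _, _, _, B, a, hB, halt, hiso, hch, hk⟩ := exists_sp_model n c hc hdeg hrev
  have hfin : finrank F V = 2 * n := by
    rw [← LinearMap.charpoly_natDegree a, hch, hdeg]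
  have hfinW : finrank F (Fin n ⊕ Fin n → F) = 2 * n := by
    rw [Module.finrank_pi, Fintype.card_sum, Fintype.card_fin, two_mul]
  have hss : ∀ (W : Type v) [AddCommGroup W] [Module F W],
      (1 : Module.End F W).IsSemisimple := fun W _ _ => Module.End.isSemisimple_id
  obtain ⟨e, _, he⟩ := Helper40_SpConj.exists_isometry_conj (F := F) (2 * n) B (Jform n F)
    (1 : Module.End F V) (1 : Module.End F (Fin n ⊕ Fin n → F)) 1 hfin
    (isoData_one B halt) (isoData_one _ Jform_alt) hB Jform_nondeg (hss V) (hss _)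
    (by rw [LinearMap.charpoly_one, LinearMap.charpoly_one, hfin, hfinW])
  set b : Module.End F (Fin n ⊕ Fin n → F) := e.conjAlgEquiv F a with hb
  have hbapp : ∀ x, b x = e (a (e.symm x)) := fun x => rfl
  set A : Matrix (Fin n ⊕ Fin n) (Fin n ⊕ Fin n) F := LinearMap.toMatrix' b with hA
  have hAb : Matrix.toLin' A = b := Matrix.toLin'_toMatrix' b
  refine ⟨A, ?_, ?_, ?_⟩
  · rw [SymplecticGroup.mem_iff']
    apply Matrix.toBilin'.injective
    apply LinearMap.ext
    intro x
    apply LinearMap.ext
    intro y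
    rw [← Jform_comp, hAb, hbapp, hbapp, he, hiso, ← he, LinearEquiv.apply_symm_apply,
      LinearEquiv.apply_symm_apply]
    rfl
  · rw [← Matrix.charpoly_toLin', hAb, hb]
    have : (e.conjAlgEquiv F a) = e.conj a := rfl
    rw [this, LinearEquiv.charpoly_conj, hch]
  · intro r hr
    apply Matrix.toLin'.injective
    rw [← aeval_toLin'', hAb, hb, map_zero]
    have h1 := aeval_algHom_apply (e.conjAlgEquiv F).toAlgHom a r
    have h2 : (e.conjAlgEquiv F).toAlgHom a = e.conjAlgEquiv F a := rfl
    rw [h2] at h1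
    rw [h1, hk r hr, map_zero]

section order

variable {m : Type*} [Fintype m] [DecidableEq m]

/-- In characteristic `p`, a semisimple matrix with `U ^ p = 1` is the identity. -/
theorem eq_one_of_isSemisimple_of_pow_eq_one (p : ℕ) [Fact p.Prime] [CharP F p]
    (U : Matrix m m F)
    (hU : Module.End.IsSemisimple (Matrix.toLin' U : Module.End F (m → F)))
    (h : U ^ p = 1) : U = 1 := by
  set u : Module.End F (m → F) := Matrix.toLin' U with hu
  have hpoly : ((X : F[X]) - 1) ^ p = X ^ p - 1 := by
    rw [sub_pow_char, one_pow]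
  have h1 : (u - 1) ^ p = 0 := by
    have h2 : aeval u (((X : F[X]) - 1) ^ p) = (u - 1) ^ p := by
      rw [map_pow, map_sub, aeval_X, map_one]
    have h3 : aeval u ((X : F[X]) ^ p - 1) = 0 := by
      rw [aeval_toLin'', map_sub, map_pow, aeval_X, map_one, h, sub_self, map_zero]
    rw [← h2, hpoly, h3]
  have hnil : IsNilpotent (u - 1) := ⟨p, h1⟩
  have hss : (u - 1).IsSemisimple := by
    have := (Module.End.isSemisimple_sub_algebraMap_iff (f := u) (μ := (1 : F))).2 hU
    rwa [map_one] at this
  have h0 : u - 1 = 0 := Module.End.eq_zero_of_isNilpotent_isSemisimple hnil hss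
  have h4 : Matrix.toLin' U = Matrix.toLin' (1 : Matrix m m F) := by
    rw [Matrix.toLin'_one]
    exact sub_eq_zero.1 h0
  exact Matrix.toLin'.injective h4

/-- semisimple elements of a finite matrix group have order prime to the characteristic -/
theorem coprime_of_isSemisimple {G : Type*} [Group G] (φ : G →* Matrix m m F)
    (hφ : Function.Injective φ) (p : ℕ) [Fact p.Prime] [CharP F p] (g : G)
    (hfin : 0 < orderOf g)
    (hg : Module.End.IsSemisimple (Matrix.toLin' (φ g) : Module.End F (m → F))) :
    (orderOf g).Coprime p := by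
  have hp : p.Prime := Fact.out
  rw [Nat.coprime_comm, hp.coprime_iff_not_dvd]
  intro hdvd
  obtain ⟨k, hk⟩ := hdvd
  have hk0 : k ≠ 0 := by
    rintro rfl
    rw [mul_zero] at hk
    omega
  have hord : orderOf (g ^ k) = p := by
    rw [orderOf_pow_of_dvd hk0 ⟨p, by rw [hk, mul_comm]⟩, hk]
    exact Nat.mul_div_cancel _ (Nat.pos_of_ne_zero hk0)
  have h1 : (φ (g ^ k)) ^ p = 1 := by
    rw [← map_pow, ← hord, pow_orderOf_eq_one, map_one]
  have h2 : φ (g ^ k) = 1 := by
    apply eq_one_of_isSemisimple_of_pow_eq_one p _ _ h1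
    rw [map_pow, Matrix.toLin'_pow]
    exact hg.pow k
  have h3 : g ^ k = 1 := hφ (by rw [h2, map_one])
  rw [h3, orderOf_one] at hord
  exact hp.one_lt.ne hord

end order

end Cfsg.Agent.Lib.Helper40_SpExistMatrix
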