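import Mathlib
import Cfsg.Agent.Lib.Helper40_SpExistMatrix
import Cfsg.Agent.Lib.Helper40_PalindromicCount
import Cfsg.Agent.Lib.Helper40_PrimeOrderClasses
import Cfsg.Agent.Lib.Helper40_ClassCount

set_option autoImplicit false

/-!
Classes of elements of odd prime order `r ≠ p` in `Sp_{2m}(q)`: the reciprocal map on the
irreducible factors of `X ^ r - 1`, and the count of palindromic polynomials with such factors.
-/

namespace Cfsg.Agent.Lib.Helper40_SpPrimeOrder

open Polynomial Module Cfsg.Agent.Lib.Helper40_Palindromic Cfsg.Agent.Lib.Helper40_SpExist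
  Cfsg.Agent.Lib.Helper40_PolyFactors Cfsg.Agent.Lib.Helper40_PrimeOrderClasses
  Cfsg.Agent.Lib.Helper40_SpExistMatrix

universe v

/-- the index set splits into a transversal and its image -/
theorem exists_splitEquiv {α : Type*} [DecidableEq α] (σ : α → α) (W W₀ : Finset α)
    (hsub : W₀ ⊆ W) (hdisj : Disjoint W₀ (W₀.image σ)) (hunion : W₀ ∪ W₀.image σ = W)
    (hinv : ∀ w ∈ W, σ (σ w) = w) (hmem : ∀ w ∈ W, σ w ∈ W) :
    ∃ ε : ↥W ≃ ↥W₀ ⊕ ↥W₀,
      (∀ w : ↥W₀, ((ε.symm (Sum.inl w) : ↥W) : α) = w) ∧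
      (∀ w : ↥W₀, ((ε.symm (Sum.inr w) : ↥W) : α) = σ w) := by
  have hback : ∀ w : ↥W, (w : α) ∉ W₀ → σ w ∈ W₀ := by
    intro w hw
    have h1 : (w : α) ∈ W₀ ∪ W₀.image σ := by rw [hunion]; exact w.2
    rcases Finset.mem_union.1 h1 with h | h
    · exact absurd h hw
    · obtain ⟨v, hv, hvw⟩ := Finset.mem_image.1 h
      rw [← hvw, hinv v (hsub hv)]
      exact hv
  have hnot : ∀ w : ↥W₀, σ w ∉ W₀ := by
    intro w hw
    exact (Finset.disjoint_left.1 hdisj) hw (Finset.mem_image_of_mem σ w.2)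
  let f : ↥W → ↥W₀ ⊕ ↥W₀ :=
    fun w => if h : (w : α) ∈ W₀ then Sum.inl ⟨w, h⟩ else Sum.inr ⟨σ w, hback w h⟩
  have hf_pos : ∀ (w : ↥W) (h : (w : α) ∈ W₀), f w = Sum.inl ⟨w, h⟩ := fun w h => dif_pos h
  have hf_neg : ∀ (w : ↥W) (h : (w : α) ∉ W₀), f w = Sum.inr ⟨σ w, hback w h⟩ :=
    fun w h => dif_neg h
  let g : ↥W₀ ⊕ ↥W₀ → ↥W :=
    Sum.elim (fun w => ⟨w, hsub w.2⟩) (fun w => ⟨σ w, hmem _ (hsub w.2)⟩)
  have hgl : ∀ w : ↥W₀, g (Sum.inl w) = ⟨w, hsub w.2⟩ := fun w => rfl
  have hgr : ∀ w : ↥W₀, g (Sum.inr w) = ⟨σ w, hmem _ (hsub w.2)⟩ := fun w => rfl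
  let ε : ↥W ≃ ↥W₀ ⊕ ↥W₀ :=
    { toFun := f
      invFun := g
      left_inv := by
        intro w
        by_cases h : (w : α) ∈ W₀
        · rw [hf_pos w h, hgl]
        · rw [hf_neg w h, hgr]
          apply Subtype.ext
          exact hinv w w.2
      right_inv := by
        intro x
        cases x with
        | inl w =>
          rw [hgl, hf_pos _ w.2]
        | inr w =>
          rw [hgr, hf_neg _ (hnot w)]
          congr 1
          apply Subtype.ext
          exact hinv w (hsub w.2) }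
  exact ⟨ε, fun w => rfl, fun w => rfl⟩

variable {F : Type v} [Field F]

theorem reverse_pow' (f : F[X]) (n : ℕ) : (f ^ n).reverse = f.reverse ^ n := by
  induction n with
  | zero => rw [pow_zero, pow_zero, ← C_1, reverse_C]
  | succ n ih => rw [pow_succ, pow_succ, reverse_mul_of_domain, ih]

theorem reverse_prod' {ι : Type*} (s : Finset ι) (g : ι → F[X]) :
    (∏ x ∈ s, g x).reverse = ∏ x ∈ s, (g x).reverse := by
  classical
  induction s using Finset.induction_on with
  | empty => rw [Finset.prod_empty, Finset.prod_empty, ← C_1, reverse_C]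
  | insert a s ha ih =>
    rw [Finset.prod_insert ha, Finset.prod_insert ha, reverse_mul_of_domain, ih]

/-- a transversal of a fixed-point-free involution on a finite set -/
theorem exists_transversal {α : Type*} [DecidableEq α] (σ : α → α) :
    ∀ (k : ℕ) (W : Finset α), W.card = k → (∀ w ∈ W, σ w ∈ W) → (∀ w ∈ W, σ (σ w) = w) →
      (∀ w ∈ W, σ w ≠ w) →
      ∃ W₀ : Finset α, W₀ ⊆ W ∧ Disjoint W₀ (W₀.image σ) ∧ W₀ ∪ W₀.image σ = W := by
  intro k
  induction k using Nat.strong_induction_on with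
  | _ k ih =>
  intro W hk hmem hinv hfix
  rcases Finset.eq_empty_or_nonempty W with rfl | ⟨w, hw⟩
  · exact ⟨∅, Finset.empty_subset _, by simp, by simp⟩
  · set W' := (W.erase w).erase (σ w) with hW'
    have hσw : σ w ∈ W := hmem w hw
    have hσw_ne : σ w ≠ w := hfix w hw
    have hmemW' : ∀ v, v ∈ W' ↔ v ∈ W ∧ v ≠ w ∧ v ≠ σ w := by
      intro v
      rw [hW', Finset.mem_erase, Finset.mem_erase]
      tauto
    have hcard : W'.card < k := by
      have h1 : (W.erase w).card = k - 1 := by rw [Finset.card_erase_of_mem hw, hk]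
      have h2 : σ w ∈ W.erase w := Finset.mem_erase.2 ⟨hσw_ne, hσw⟩
      have h3 : W'.card = k - 1 - 1 := by rw [hW', Finset.card_erase_of_mem h2, h1]
      have h4 : 0 < k := by rw [← hk]; exact Finset.card_pos.2 ⟨w, hw⟩
      omega
    obtain ⟨W₀, hsub, hdisj, hunion⟩ := ih W'.card hcard W' rfl
      (by
        intro v hv
        rw [hmemW'] at hv ⊢
        obtain ⟨hvW, hv1, hv2⟩ := hv
        refine ⟨hmem v hvW, ?_, ?_⟩
        · intro h
          apply hv2
          rw [← h, hinv v hvW]
        · intro h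
          apply hv1
          rw [← hinv v hvW, h, hinv w hw])
      (fun v hv => hinv v ((hmemW' v).1 hv).1)
      (fun v hv => hfix v ((hmemW' v).1 hv).1)
    refine ⟨insert w W₀, ?_, ?_, ?_⟩
    · intro v hv
      rcases Finset.mem_insert.1 hv with rfl | hv
      · exact hw
      · exact ((hmemW' v).1 (hsub hv)).1
    · rw [Finset.image_insert, Finset.disjoint_left]
      intro v hv hv'
      rcases Finset.mem_insert.1 hv with rfl | hv
      · rcases Finset.mem_insert.1 hv' with h | h
        · exact hσw_ne h.symm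
        · have : v ∈ W' := by
            rw [← hunion]
            exact Finset.mem_union_right _ h
          exact ((hmemW' v).1 this).2.1 rfl
      · rcases Finset.mem_insert.1 hv' with h | h
        · exact ((hmemW' v).1 (hsub hv)).2.2 h
        · exact (Finset.disjoint_left.1 hdisj) hv h
    · rw [Finset.image_insert]
      ext v
      simp only [Finset.mem_union, Finset.mem_insert]
      constructor
      · rintro ((rfl | h) | (rfl | h))
        · exact hw
        · exact ((hmemW' v).1 (hsub h)).1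
        · exact hσw
        · have : v ∈ W' := by
            rw [← hunion]
            exact Finset.mem_union_right _ h
          exact ((hmemW' v).1 this).1
      · intro hv
        by_cases h1 : v = w
        · exact Or.inl (Or.inl h1)
        · by_cases h2 : v = σ w
          · exact Or.inr (Or.inl h2)
          · have : v ∈ W' := (hmemW' v).2 ⟨hv, h1, h2⟩
            rw [← hunion, Finset.mem_union] at this
            rcases this with h | h
            · exact Or.inl (Or.inr h)
            · exact Or.inr (Or.inr h)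

theorem recip_one : recip (1 : F[X]) = 1 := by
  unfold recip
  rw [coeff_one_zero, inv_one, C_1, one_mul, ← C_1, reverse_C]

theorem recip_pow' (f : F[X]) (n : ℕ) : recip (f ^ n) = recip f ^ n := by
  induction n with
  | zero => rw [pow_zero, pow_zero, recip_one]
  | succ n ih => rw [pow_succ, pow_succ, recip_mul, ih]

theorem recip_prod' {ι : Type*} (s : Finset ι) (g : ι → F[X]) :
    recip (∏ x ∈ s, g x) = ∏ x ∈ s, recip (g x) := by
  classical
  induction s using Finset.induction_on with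
  | empty => rw [Finset.prod_empty, Finset.prod_empty, recip_one]
  | insert a s ha ih =>
    rw [Finset.prod_insert ha, Finset.prod_insert ha, recip_mul, ih]

theorem reverse_X_pow_sub_one (r : ℕ) :
    ((X : F[X]) ^ r - 1).reverse = C (-1) * (X ^ r - 1) := by
  have h1 : ((X : F[X]) ^ r - 1) = X ^ r + C (-1) := by rw [C_neg, C_1, sub_eq_add_neg]
  have h2 : ((X : F[X]) ^ r).reverse = 1 := by
    have := reverse_mul_X_pow (1 : F[X]) r
    rwa [one_mul, ← C_1, reverse_C] at this
  rw [h1, reverse_add_C, h2, natDegree_X_pow, C_neg, C_1]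
  ring

theorem recip_X_pow_sub_one (r : ℕ) (hr : 0 < r) : recip ((X : F[X]) ^ r - 1) = X ^ r - 1 := by
  unfold recip
  have h0 : ((X : F[X]) ^ r - 1).coeff 0 = -1 := by
    rw [coeff_sub, coeff_X_pow, if_neg hr.ne, coeff_one_zero, zero_sub]
  rw [h0, reverse_X_pow_sub_one r, ← mul_assoc, ← C_mul, inv_neg, inv_one, neg_mul_neg,
    one_mul, C_1, one_mul]

theorem recip_X_sub_one : recip ((X : F[X]) - 1) = X - 1 := by
  have := recip_X_pow_sub_one (F := F) 1 one_pos
  rwa [pow_one] at this

theorem reverse_X_sub_one : ((X : F[X]) - 1).reverse = C (-1) * (X - 1) := by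
  have := reverse_X_pow_sub_one (F := F) 1
  rwa [pow_one] at this

/-- the reverse of an even power of `X - 1` -/
theorem reverse_X_sub_one_pow (a : ℕ) (ha : Even a) :
    (((X : F[X]) - 1) ^ a).reverse = (X - 1) ^ a := by
  rw [reverse_pow', reverse_X_sub_one, mul_pow, ← C_pow, ha.neg_one_pow, C_1, one_mul]

/-- an irreducible factor `≠ X - 1` of `X ^ r - 1`, `r` odd, of odd degree is not
self-reciprocal -/
theorem recip_ne_of_odd (r : ℕ) (hr : Odd r) (w : F[X]) (hwm : w.Monic) (hwi : Irreducible w)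
    (hw0 : w.coeff 0 ≠ 0) (hw1 : w ≠ X - 1) (hwd : w ∣ X ^ r - 1) (hodd : Odd w.natDegree) :
    recip w ≠ w := by
  intro hrw
  have hX1 : ((X : F[X]) - 1) = X - C 1 := by rw [map_one]
  have h1 : w.eval 1 ≠ 0 := by
    intro h
    apply hw1
    have h2 : (X - C 1) ∣ w := dvd_iff_isRoot.2 h
    have h3 : Associated (X - C (1 : F)) w := (irreducible_X_sub_C 1).associated_of_dvd hwi h2
    rw [hX1]
    exact eq_X_sub_C_of_dvd w hwm hwi 1 h3.symm.dvd
  have hc0 : w.coeff 0 = 1 := coeff_zero_eq_one_of_recip_eq w hw0 hrw h1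
  have hrev : w.reverse = w := reverse_eq_of_recip_eq w hc0 hrw
  have h2 : w.eval (-1) = 0 := eval_neg_one_of_reverse_eq w hrev hodd
  have h3 : (X - C (-1)) ∣ w := dvd_iff_isRoot.2 h2
  have h4 : (X - C (-1 : F)) ∣ X ^ r - 1 := h3.trans hwd
  have h5 : ((X : F[X]) ^ r - 1).eval (-1) = 0 := dvd_iff_isRoot.1 h4
  rw [eval_sub, eval_pow, eval_X, eval_one, hr.neg_one_pow] at h5
  -- so `-1 = 1`
  have h6 : (-1 : F) = 1 := sub_eq_zero.1 h5
  rw [h6] at h2
  exact h1 h2

/-- an irreducible factor `w ≠ X - 1` of `X ^ r - 1` of even degree `i = ord_r(q)` is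
self-reciprocal -/
theorem recip_eq_of_even [Fintype F] (p : ℕ) [Fact p.Prime] [CharP F p] (r i : ℕ)
    (hr : r.Prime) (hi : i = orderOf ((Fintype.card F : ℕ) : ZMod r)) (hipos : 0 < i)
    (hie : Even i)
    (w : F[X]) (hwm : w.Monic) (hwi : Irreducible w) (hw1 : w ≠ X - 1) (hwd : w ∣ X ^ r - 1) :
    recip w = w := by
  have hp : p.Prime := Fact.out
  have : Fact r.Prime := ⟨hr⟩
  have : Fact (Irreducible w) := ⟨hwi⟩
  obtain ⟨j, hj⟩ := hie
  obtain ⟨f, _, hq⟩ := FiniteField.card F p
  -- the constant coefficient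
  have hw0 : w.coeff 0 ≠ 0 := by
    intro h0
    have h1 : (X : F[X]) ∣ w := X_dvd_iff.2 h0
    have h2 : (X : F[X]) ∣ X ^ r - 1 := h1.trans hwd
    have h3 : (X : F[X]) ∣ 1 := by
      have h4 : (X : F[X]) ∣ X ^ r := dvd_pow_self X hr.pos.ne'
      have := dvd_sub h4 h2
      rwa [sub_sub_cancel] at this
    exact not_isUnit_X (isUnit_of_dvd_one h3)
  set ρ := AdjoinRoot.root w with hρdef
  have hρ0 : ρ ≠ 0 := root_ne_zero w hw0
  have hρr : ρ ^ r = 1 := by
    obtain ⟨k, hk⟩ := hwd
    have h1 : aeval ρ (X ^ r - 1 : F[X]) = 0 := by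
      rw [hk, map_mul, AdjoinRoot.aeval_eq, AdjoinRoot.mk_self, zero_mul]
    rw [map_sub, map_pow, aeval_X, map_one] at h1
    exact sub_eq_zero.1 h1
  have hρ1 : ρ ≠ 1 := by
    intro h
    apply hw1
    have h1 : aeval ρ (X - 1 : F[X]) = 0 := by
      rw [map_sub, aeval_X, map_one, h, sub_self]
    rw [AdjoinRoot.aeval_eq, AdjoinRoot.mk_eq_zero] at h1
    have h2 : ((X : F[X]) - 1) = X - C 1 := by rw [map_one]
    rw [h2] at h1 ⊢
    exact eq_X_sub_C_of_dvd w hwm hwi 1 h1
  have hord : orderOf ρ = r := orderOf_eq_prime hρr hρ1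
  -- the exponent
  set e := (Fintype.card F) ^ j with he
  have hz : ((Fintype.card F : ℕ) : ZMod r) ^ j = -1 := by
    set z := ((Fintype.card F : ℕ) : ZMod r) ^ j with hzdef
    have hz2 : z * z = 1 := by
      rw [hzdef, ← pow_add, ← hj, hi, pow_orderOf_eq_one]
    have hz1 : z ≠ 1 := by
      intro h
      have := orderOf_dvd_of_pow_eq_one h
      rw [← hi] at this
      have := Nat.le_of_dvd (by omega) this
      omega
    have h3 : (z - 1) * (z + 1) = 0 := by ring_nf; rw [sq, hz2]; ring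
    rcases mul_eq_zero.1 h3 with h | h
    · exact absurd (sub_eq_zero.1 h) hz1
    · exact eq_neg_of_add_eq_zero_left h
  have hre : r ∣ e + 1 := by
    rw [← ZMod.natCast_eq_zero_iff]
    push_cast
    rw [he]
    push_cast
    rw [hz, neg_add_cancel]
  have hρe : ρ ^ e = ρ⁻¹ := by
    have h1 : ρ ^ (e + 1) = 1 := by
      obtain ⟨k, hk⟩ := hre
      rw [hk, pow_mul, hρr, one_pow]
    rw [pow_succ] at h1
    exact eq_inv_of_mul_eq_one_left h1
  -- the Frobenius power fixes the coefficients
  have : CharP (AdjoinRoot w) p :=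
    charP_of_injective_algebraMap (algebraMap F (AdjoinRoot w)).injective p
  have hee : e = p ^ ((f : ℕ) * j) := by rw [he, hq, pow_mul]
  let φ : AdjoinRoot w →+* AdjoinRoot w := iterateFrobenius (AdjoinRoot w) p ((f : ℕ) * j)
  have hφ : ∀ x, φ x = x ^ e := by
    intro x
    rw [hee]
    rfl
  have hφalg : φ.comp (algebraMap F (AdjoinRoot w)) = algebraMap F (AdjoinRoot w) := by
    apply RingHom.ext
    intro a
    rw [RingHom.comp_apply, hφ, ← map_pow, he, FiniteField.pow_card_pow]
  have hroot : aeval ρ⁻¹ w = 0 := by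
    have h1 : aeval ρ w = 0 := by rw [AdjoinRoot.aeval_eq, AdjoinRoot.mk_self]
    have h2 := congrArg φ h1
    rw [aeval_def, hom_eval₂, hφalg, hφ, hρe, map_zero] at h2
    exact h2
  have hroot' : aeval ρ⁻¹ (recip w) = 0 := aeval_inv_root_recip w hw0
  exact (minpoly.eq_of_irreducible_of_monic (irreducible_recip w hwi hw0) hroot'
    (recip_monic w hw0)).trans (minpoly.eq_of_irreducible_of_monic hwi hroot hwm).symm

theorem eval_one_ne_zero (w : F[X]) (hwm : w.Monic) (hwi : Irreducible w) (hw1 : w ≠ X - 1) :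
    w.eval 1 ≠ 0 := by
  intro h
  apply hw1
  have hX1 : ((X : F[X]) - 1) = X - C 1 := by rw [map_one]
  have h2 : (X - C 1) ∣ w := dvd_iff_isRoot.2 h
  have h3 : Associated (X - C (1 : F)) w := (irreducible_X_sub_C 1).associated_of_dvd hwi h2
  rw [hX1]
  exact eq_X_sub_C_of_dvd w hwm hwi 1 h3.symm.dvd

theorem coeff_zero_ne_zero_of_dvd (r : ℕ) (hr : 0 < r) (w : F[X]) (hwd : w ∣ X ^ r - 1) :
    w.coeff 0 ≠ 0 := by
  intro h0
  have h1 : (X : F[X]) ∣ w := X_dvd_iff.2 h0
  have h2 : (X : F[X]) ∣ X ^ r - 1 := h1.trans hwd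
  have h3 : (X : F[X]) ∣ 1 := by
    have h4 : (X : F[X]) ∣ X ^ r := dvd_pow_self X hr.ne'
    have := dvd_sub h4 h2
    rwa [sub_sub_cancel] at this
  exact not_isUnit_X (isUnit_of_dvd_one h3)

/-- the number of monic palindromic polynomials of degree `2 m` all of whose irreducible factors
divide `X ^ r - 1` -/
theorem card_pal_polys [Fintype F] (p : ℕ) [Fact p.Prime] [CharP F p] (m r i t : ℕ)
    (hr : r.Prime) (hr2 : r ≠ 2) (hrp : r ≠ p)
    (hi : i = orderOf ((Fintype.card F : ℕ) : ZMod r)) (ht : t * i = r - 1) :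
    Nat.card {c : F[X] // c.Monic ∧ c.natDegree = 2 * m ∧ c.reverse = c ∧
      ∀ f, Irreducible f → f ∣ c → f ∣ X ^ r - 1} =
      if Odd i then (m / i + t / 2).choose (t / 2) else (2 * m / i + t).choose t := by
  classical
  obtain ⟨hipos, W, hWcard, hW, hWall⟩ := exists_cyclotomic_factors (F := F) p r hr hrp
  rw [← hi] at hipos hWcard hW
  have hWt : W.card = t := by
    rw [hWcard, ← ht]
    exact Nat.mul_div_cancel t hipos
  have hl := X_sub_one_props (F := F)
  have hW' : ∀ w ∈ W, w.Monic ∧ Irreducible w ∧ w ≠ X - 1 :=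
    fun w hw => ⟨(hW w hw).1, (hW w hw).2.1, (hW w hw).2.2.1⟩
  have hrodd : Odd r := hr.odd_of_ne_two hr2
  have hw0 : ∀ w ∈ W, w.coeff 0 ≠ 0 :=
    fun w hw => coeff_zero_ne_zero_of_dvd r hr.pos w (hW w hw).2.2.2.1
  have hdeg : ∀ (a : ℕ) (b : ↥W → ℕ), (psi W (X - 1) a b).natDegree = a + i * ∑ x, b x := by
    intro a b
    rw [psi_natDegree W (X - 1) hl hW', natDegree_X_sub_one, mul_one, Finset.mul_sum]
    congr 1
    apply Finset.sum_congr rfl
    intro w _
    rw [(hW w w.2).2.2.2.2, mul_comm]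
  split_ifs with hio
  · -- odd order: the reciprocal map is a fixed-point-free involution on `W`
    have hmemσ : ∀ w ∈ W, recip w ∈ W := by
      intro w hw
      obtain ⟨hwm, hwi, hw1, hwd, _⟩ := hW w hw
      have h0 := hw0 w hw
      have hd : recip w ∣ X ^ r - 1 := by
        have := recip_dvd hwd
        rwa [recip_X_pow_sub_one r hr.pos] at this
      rcases hWall (recip w) (recip_monic w h0) (irreducible_recip w hwi h0) hd with h | h
      · exfalso
        apply hw1
        rw [← recip_recip w hwm h0, h, recip_X_sub_one]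
      · exact h
    have hinvσ : ∀ w ∈ W, recip (recip w) = w :=
      fun w hw => recip_recip w (hW w hw).1 (hw0 w hw)
    have hfixσ : ∀ w ∈ W, recip w ≠ w := fun w hw =>
      recip_ne_of_odd r hrodd w (hW w hw).1 (hW w hw).2.1 (hw0 w hw) (hW w hw).2.2.1
        (hW w hw).2.2.2.1 (by rw [(hW w hw).2.2.2.2]; exact hio)
    obtain ⟨W₀, hsub, hdisj, hunion⟩ := exists_transversal recip W.card W rfl hmemσ hinvσ hfixσ
    obtain ⟨ε, hεl, hεr⟩ := exists_splitEquiv recip W W₀ hsub hdisj hunion hinvσ hmemσ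
    have hW₀card : W₀.card = t / 2 := by
      have h1 : (W₀.image recip).card = W₀.card := by
        apply Finset.card_image_of_injOn
        intro x hx y hy hxy
        have := congrArg recip hxy
        rwa [hinvσ x (hsub hx), hinvσ y (hsub hy)] at this
      have h2 := Finset.card_union_of_disjoint hdisj
      rw [hunion, h1, hWt] at h2
      omega
    have hsplit_prod : ∀ G : ↥W → F[X], ∏ w : ↥W, G w =
        (∏ w : ↥W₀, G (ε.symm (Sum.inl w))) * ∏ w : ↥W₀, G (ε.symm (Sum.inr w)) := by
      intro G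
      rw [← Equiv.prod_comp ε.symm G, Fintype.prod_sum_type]
    have hsplit_sum : ∀ b : ↥W → ℕ, ∑ w : ↥W, b w =
        (∑ w : ↥W₀, b (ε.symm (Sum.inl w))) + ∑ w : ↥W₀, b (ε.symm (Sum.inr w)) := by
      intro b
      rw [← Equiv.sum_comp ε.symm b, Fintype.sum_sum_type]
    -- extension of exponent vectors
    let ext : (↥W₀ → ℕ) → (↥W → ℕ) := fun b v => Sum.elim b b (ε v)
    have hext : ∀ (b : ↥W₀ → ℕ) (x : ↥W₀ ⊕ ↥W₀), ext b (ε.symm x) = Sum.elim b b x := by
      intro b x
      show Sum.elim b b (ε (ε.symm x)) = _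
      rw [Equiv.apply_symm_apply]
    have hsum_ext : ∀ b : ↥W₀ → ℕ, ∑ w : ↥W, ext b w = 2 * ∑ w : ↥W₀, b w := by
      intro b
      rw [hsplit_sum]
      simp only [hext, Sum.elim_inl, Sum.elim_inr]
      ring
    have hpsi_ext : ∀ (a : ℕ) (b : ↥W₀ → ℕ), psi W (X - 1) a (ext b) =
        (X - 1) ^ a * ∏ w : ↥W₀, ((w : F[X]) * recip (w : F[X])) ^ b w := by
      intro a b
      unfold psi
      rw [hsplit_prod]
      simp only [hext, Sum.elim_inl, Sum.elim_inr, hεl, hεr]
      rw [← Finset.prod_mul_distrib]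
      congr 1
      apply Finset.prod_congr rfl
      intro w _
      rw [mul_pow]
    let Φ : {b : ↥W₀ → ℕ // i * ∑ x, b x ≤ m} → {c : F[X] // c.Monic ∧ c.natDegree = 2 * m ∧
        c.reverse = c ∧ ∀ f, Irreducible f → f ∣ c → f ∣ X ^ r - 1} := fun b =>
      ⟨psi W (X - 1) (2 * m - 2 * (i * ∑ x, b.1 x)) (ext b.1), psi_monic W (X - 1) hl hW' _ _, by
        rw [hdeg, hsum_ext]
        have := b.2
        have h2 : i * (2 * ∑ x, b.1 x) = 2 * (i * ∑ x, b.1 x) := by ring
        omega, by
        rw [hpsi_ext, reverse_mul_of_domain,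
          reverse_X_sub_one_pow _ ⟨m - i * ∑ x, b.1 x, by omega⟩, reverse_prod']
        congr 1
        apply Finset.prod_congr rfl
        intro w _
        rw [reverse_pow', reverse_mul_recip _ (hW w (hsub w.2)).1 (hw0 w (hsub w.2))], by
        intro f hf hfd
        rcases psi_factor W (X - 1) _ _ f hf hfd with h | ⟨w, hw, h⟩
        · exact h.trans (X_sub_one_dvd r hr)
        · exact h.trans (hW w hw).2.2.2.1⟩
    have hΦ : Function.Bijective Φ := by
      constructor
      · intro b b' h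
        apply Subtype.ext
        have h1 := psi_inj W (X - 1) hl hW' _ _ _ _ (congrArg Subtype.val h)
        funext w
        have h2 := congrFun h1 (ε.symm (Sum.inl w))
        rwa [hext, hext] at h2
      · rintro ⟨c, hcm, hcn, hrev, hcf⟩
        obtain ⟨a, b, hab⟩ := psi_surj W (X - 1) hl hW' (2 * m) c hcm hcn
          (fun f hfm hfi hfd => hWall f hfm hfi (hcf f hfi hfd))
        -- invariance of the exponents under the reciprocal map
        let σ' : Equiv.Perm ↥W :=
          { toFun := fun w => ⟨recip w, hmemσ w w.2⟩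
            invFun := fun w => ⟨recip w, hmemσ w w.2⟩
            left_inv := fun w => Subtype.ext (hinvσ w w.2)
            right_inv := fun w => Subtype.ext (hinvσ w w.2) }
        have hσσ : ∀ w, σ' (σ' w) = w := fun w => Subtype.ext (hinvσ w w.2)
        have hrc : recip c = c := recip_of_reverse_eq c hcm hrev
        have hrpsi : recip (psi W (X - 1) a b) = psi W (X - 1) a (b ∘ σ') := by
          unfold psi
          rw [recip_mul, recip_pow', recip_X_sub_one, recip_prod']
          congr 1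
          rw [← Equiv.prod_comp σ' (fun w : ↥W => (w : F[X]) ^ (b ∘ σ') w)]
          apply Finset.prod_congr rfl
          intro w _
          rw [recip_pow', Function.comp_apply, hσσ]
          rfl
        have hbσ : ∀ w, b (σ' w) = b w := by
          have h1 : psi W (X - 1) a b = psi W (X - 1) a (b ∘ σ') := by
            rw [← hrpsi, ← hab, hrc]
          have h2 := psi_inj W (X - 1) hl hW' _ _ _ _ h1
          intro w
          exact (congrFun h2 w).symm
        have hbext : ext (fun w => b (ε.symm (Sum.inl w))) = b := by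
          funext v
          obtain ⟨x, rfl⟩ := ε.symm.surjective v
          rw [hext]
          cases x with
          | inl w => rfl
          | inr w =>
            have h3 : ε.symm (Sum.inr w) = σ' (ε.symm (Sum.inl w)) := by
              apply Subtype.ext
              show _ = recip ((ε.symm (Sum.inl w) : ↥W) : F[X])
              rw [hεr, hεl]
            rw [Sum.elim_inr, h3, hbσ]
        have hd := hdeg a b
        rw [← hab, hcn, ← hbext, hsum_ext] at hd
        have h2 : i * (2 * ∑ w : ↥W₀, b (ε.symm (Sum.inl w))) =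
            2 * (i * ∑ w : ↥W₀, b (ε.symm (Sum.inl w))) := by ring
        have h3 : i * ∑ w : ↥W₀, b (ε.symm (Sum.inl w)) ≤ m := by omega
        refine ⟨⟨fun w => b (ε.symm (Sum.inl w)), h3⟩, ?_⟩
        apply Subtype.ext
        show psi W (X - 1) (2 * m - 2 * (i * ∑ w : ↥W₀, b (ε.symm (Sum.inl w))))
          (ext fun w => b (ε.symm (Sum.inl w))) = c
        rw [hab, hbext]
        congr 1
        omega
    rw [← Nat.card_congr (Equiv.ofBijective Φ hΦ),
      Helper40_TupleCount.card_mul_sum_le _ i m hipos, Fintype.card_coe, hW₀card]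
  · -- even order: every factor is self-reciprocal
    rw [Nat.not_odd_iff_even] at hio
    rw [← card_polys p (2 * m) r i t hr hrp hi ht]
    apply Nat.card_congr
    apply Equiv.subtypeEquivRight
    intro c
    constructor
    · rintro ⟨h1, h2, _, h4⟩
      exact ⟨h1, h2, h4⟩
    · rintro ⟨hcm, hcn, hcf⟩
      refine ⟨hcm, hcn, ?_, hcf⟩
      obtain ⟨a, b, hab⟩ := psi_surj W (X - 1) hl hW' (2 * m) c hcm hcn
        (fun f hfm hfi hfd => hWall f hfm hfi (hcf f hfi hfd))
      have ha : Even a := by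
        have hd := hdeg a b
        rw [← hab, hcn] at hd
        obtain ⟨j, hj⟩ := hio
        refine ⟨m - j * ∑ x, b x, ?_⟩
        have h2 : i * ∑ x, b x = j * ∑ x, b x + j * ∑ x, b x := by rw [hj]; ring
        omega
      rw [hab]
      unfold psi
      rw [reverse_mul_of_domain, reverse_X_sub_one_pow a ha, reverse_prod']
      congr 1
      apply Finset.prod_congr rfl
      intro w _
      rw [reverse_pow']
      congr 1
      obtain ⟨hwm, hwi, hw1, hwd, _⟩ := hW w w.2
      have hrw := recip_eq_of_even p r i hr hi hipos hio w hwm hwi hw1 hwd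
      exact reverse_eq_of_recip_eq _
        (coeff_zero_eq_one_of_recip_eq _ (hw0 w w.2) hrw (eval_one_ne_zero _ hwm hwi hw1)) hrw

/-- An irreducible factor of the characteristic polynomial of a matrix killed by `P`
divides `P` (any index type). -/
theorem dvd_of_irreducible_of_dvd_charpoly' {ι : Type*} [Fintype ι] [DecidableEq ι]
    (A : Matrix ι ι F) (P : F[X])
    (hP : aeval A P = 0) (f : F[X]) (hf : Irreducible f) (hdvd : f ∣ A.charpoly) : f ∣ P := by
  by_contra hnd
  obtain ⟨u, w, huw⟩ := (Irreducible.coprime_iff_not_dvd hf).2 hnd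
  rw [← Matrix.charpoly_toLin'] at hdvd
  obtain ⟨v, hv0, hv⟩ := Helper40_Semisimple.exists_ne_zero_aeval_eq_zero (Matrix.toLin' A) f hf hdvd
  have hP' : aeval (Matrix.toLin' A) P = 0 := by rw [aeval_toLin'', hP, map_zero]
  have h1 : aeval (Matrix.toLin' A) (u * f + w * P) v = v := by
    rw [huw, map_one, Module.End.one_apply]
  rw [map_add, map_mul, map_mul, hP', mul_zero, add_zero, Module.End.mul_apply, hv,
    map_zero] at h1
  exact hv0 h1.symm

open Matrix in
/-- The number of classes of elements of odd prime order `r ≠ p` in `Sp_{2m}(q)`. -/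
theorem card_sp_prime_order_classes [Fintype F] (p : ℕ) [Fact p.Prime] [CharP F p]
    (m r i t : ℕ) (hr : r.Prime) (hr2 : r ≠ 2) (hrp : r ≠ p)
    (hi : i = orderOf ((Fintype.card F : ℕ) : ZMod r)) (ht : t * i = r - 1) :
    Nat.card {C : ConjClasses ↥(symplecticGroup (Fin m) F) //
      ∃ g : ↥(symplecticGroup (Fin m) F), ConjClasses.mk g = C ∧ orderOf g = r} =
      (if Odd i then (m / i + t / 2).choose (t / 2) else (2 * m / i + t).choose t) - 1 := by
  classical
  have hp : p.Prime := Fact.out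
  have hcop : r.Coprime p := (Nat.coprime_primes hr hp).2 hrp
  set T' : Set F[X] := {c | c.Monic ∧ c.natDegree = 2 * m ∧ c.reverse = c ∧
    ∀ f, Irreducible f → f ∣ c → f ∣ X ^ r - 1} with hT'
  have hcardT' : Nat.card T' = _ := card_pal_polys p m r i t hr hr2 hrp hi ht
  have hcard2m : Fintype.card (Fin m ⊕ Fin m) = 2 * m := by
    rw [Fintype.card_sum, Fintype.card_fin, two_mul]
  have hmem : ((X : F[X]) - 1) ^ (2 * m) ∈ T' := by
    refine ⟨X_sub_one_props.1.pow _, ?_, reverse_X_sub_one_pow _ ⟨m, two_mul m⟩, ?_⟩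
    · rw [X_sub_one_props.1.natDegree_pow, natDegree_X_sub_one, mul_one]
    · intro f hf hfd
      exact (hf.prime.dvd_of_dvd_pow hfd).trans (X_sub_one_dvd r hr)
  have hone : ((1 : ↥(symplecticGroup (Fin m) F)) : Matrix (Fin m ⊕ Fin m) (Fin m ⊕ Fin m) F).charpoly
      = ((X : F[X]) - 1) ^ (2 * m) := by
    show (1 : Matrix (Fin m ⊕ Fin m) (Fin m ⊕ Fin m) F).charpoly = _
    rw [Matrix.charpoly_one, hcard2m]
  have h := Helper40_ClassCount.card_classes_eq (G := ↥(symplecticGroup (Fin m) F))
    (fun g => orderOf g = r)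
    (fun g => (g : Matrix (Fin m ⊕ Fin m) (Fin m ⊕ Fin m) F).charpoly)
    (T' \ {(X - 1) ^ (2 * m)}) ?_ ?_ ?_
  · rw [h, _root_.Nat.card_coe_set_eq, Set.ncard_sdiff_singleton_of_mem hmem,
      ← _root_.Nat.card_coe_set_eq, hcardT']
  · -- class function
    intro g k hgk
    obtain ⟨c, hc⟩ := isConj_iff.1 hgk
    show (g : Matrix (Fin m ⊕ Fin m) (Fin m ⊕ Fin m) F).charpoly =
      (k : Matrix (Fin m ⊕ Fin m) (Fin m ⊕ Fin m) F).charpoly
    have h1 : (k : Matrix (Fin m ⊕ Fin m) (Fin m ⊕ Fin m) F) =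
        (c : Matrix (Fin m ⊕ Fin m) (Fin m ⊕ Fin m) F) *
          ((g : Matrix (Fin m ⊕ Fin m) (Fin m ⊕ Fin m) F) *
            ((c⁻¹ : ↥(symplecticGroup (Fin m) F)) :
              Matrix (Fin m ⊕ Fin m) (Fin m ⊕ Fin m) F)) := by
      rw [← hc, mul_assoc]
      rfl
    have h2 : ((c⁻¹ : ↥(symplecticGroup (Fin m) F)) :
        Matrix (Fin m ⊕ Fin m) (Fin m ⊕ Fin m) F) *
        (c : Matrix (Fin m ⊕ Fin m) (Fin m ⊕ Fin m) F) = 1 :=
      congrArg Subtype.val (inv_mul_cancel c)
    rw [h1, Matrix.charpoly_mul_comm, Matrix.mul_assoc, h2, Matrix.mul_one]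
  · -- separation
    intro g k hg hk hc
    exact Helper40_SpMatrix.sp_isConj_of_charpoly_eq p g k (by rw [hg]; exact hcop)
      (by rw [hk]; exact hcop) hc
  · -- image
    intro c
    constructor
    · rintro ⟨⟨hcm, hcn, hrev, hcf⟩, hc1⟩
      rw [Set.mem_singleton_iff] at hc1
      obtain ⟨A, hAmem, hAc, hAk⟩ := exists_sp_matrix m c hcm hcn hrev
      have hAr1 : A ^ r = 1 := by
        have := hAk (X ^ r - 1) hcf
        rw [map_sub, map_pow, aeval_X, map_one] at this
        exact sub_eq_zero.1 this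
      refine ⟨⟨A, hAmem⟩, ?_, hAc⟩
      have hgr : (⟨A, hAmem⟩ : ↥(symplecticGroup (Fin m) F)) ^ r = 1 := by
        apply Subtype.ext
        rw [SubmonoidClass.coe_pow]
        exact hAr1
      rcases (Nat.dvd_prime hr).1 (orderOf_dvd_of_pow_eq_one hgr) with h1 | h1
      · exfalso
        apply hc1
        have hg1 : (⟨A, hAmem⟩ : ↥(symplecticGroup (Fin m) F)) = 1 := orderOf_eq_one_iff.1 h1
        have : A = 1 := congrArg Subtype.val hg1
        rw [← hAc, this, Matrix.charpoly_one, hcard2m]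
      · exact h1
    · rintro ⟨g, hg, rfl⟩
      have hgr : (g : Matrix (Fin m ⊕ Fin m) (Fin m ⊕ Fin m) F) ^ r = 1 := by
        have := congrArg Subtype.val (pow_orderOf_eq_one g)
        rwa [SubmonoidClass.coe_pow, hg] at this
      refine ⟨⟨Matrix.charpoly_monic _, ?_, charpoly_reverse_of_mem_symplectic _ g.2, ?_⟩, ?_⟩
      · rw [Matrix.charpoly_natDegree_eq_dim, hcard2m]
      · intro f hf hfd
        apply dvd_of_irreducible_of_dvd_charpoly' _ (X ^ r - 1) _ f hf hfd
        rw [map_sub, map_pow, aeval_X, map_one, hgr, sub_self]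
      · rw [Set.mem_singleton_iff]
        intro hc1
        have hconj := Helper40_SpMatrix.sp_isConj_of_charpoly_eq p g 1 (by rw [hg]; exact hcop)
          (by rw [orderOf_one]; exact Nat.coprime_one_left p) (by rw [hc1, hone])
        have hg1 : g = 1 := by
          obtain ⟨c, hc⟩ := isConj_iff.1 hconj.symm
          rw [← hc, mul_one, mul_inv_cancel]
        rw [hg1, orderOf_one] at hg
        exact hr.one_lt.ne hg

end Cfsg.Agent.Lib.Helper40_SpPrimeOrder
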