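import Mathlib
import Cfsg.Agent.Lib.Helper40_OTransport
import Cfsg.Agent.Lib.Helper40_OModel
import Cfsg.Agent.Lib.Helper40_SpPrimeOrder
import Cfsg.Agent.Lib.Helper14_POmegaSimple
import Cfsg.Agent.S2618

set_option autoImplicit false

/-!
Classes of elements of odd prime order in the odd-dimensional orthogonal groups (helper40).
-/

namespace Cfsg.Agent.Lib.Helper40_OOdd

open Polynomial Module Matrix Cfsg.Agent.Lib.Helper44_WittMat Cfsg.Agent.Lib.Helper40_OClasses
  Cfsg.Agent.Lib.Helper44_StdForms Cfsg.Agent.Lib.Helper44_Simil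
  Cfsg.Agent.Lib.Helper40_OTransport Cfsg.Agent.Lib.Helper40_OModel
  Cfsg.Agent.Lib.Helper40_SpPrimeOrder Cfsg.Agent.Lib.Helper40_PrimeOrderClasses

universe v

variable {F : Type v} [Field F]

theorem qfOdd_single (m : ℕ) (k : Unit ⊕ (Fin m ⊕ Fin m)) :
    qfOdd m F (Pi.single k 1) = if k = Sum.inl () then 1 else 0 := by
  have h := congrFun (coe_qfOdd m F) (Pi.single k 1)
  rw [h, Cfsg.quadFormOdd]
  rcases k with ⟨⟩ | i | i <;> simp [Pi.single_apply]

theorem polar_qfOdd_single (m : ℕ) (k l : Unit ⊕ (Fin m ⊕ Fin m)) :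
    QuadraticMap.polar (⇑(qfOdd m F)) (Pi.single k 1) (Pi.single l 1) =
      match k, l with
      | Sum.inl _, Sum.inl _ => 2
      | Sum.inr (Sum.inl i), Sum.inr (Sum.inr j) => if i = j then 1 else 0
      | Sum.inr (Sum.inr i), Sum.inr (Sum.inl j) => if i = j then 1 else 0
      | _, _ => 0 := by
  rw [coe_qfOdd, polar_quadFormOdd]
  rcases k with ⟨⟩ | i | i <;> rcases l with ⟨⟩ | j | j <;> simp [Pi.single_apply]
  split_ifs with h1 h2 h2
  · rfl
  · exact absurd h1.symm h2
  · exact absurd h2.symm h1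
  · rfl

/-- a nondegenerate quadratic space of dimension `2 m + 1` over a finite field is similar to the
standard one -/
theorem exists_simil_qfOdd [Finite F] {V : Type v} [AddCommGroup V] [Module F V]
    [FiniteDimensional F V] (m : ℕ) (hV : finrank F V = 2 * m + 1) (Q : QuadraticForm F V)
    (hQ : (QuadraticMap.polarBilin Q).Nondegenerate) :
    ∃ (φ : V ≃ₗ[F] (Unit ⊕ (Fin m ⊕ Fin m) → F)) (μ : F), μ ≠ 0 ∧
      ∀ v, Q v = μ * qfOdd m F (φ v) := by
  classical
  obtain ⟨b, hμ, hx, hQ0, hef, hee⟩ := Cfsg.Agent.S2618.result hV Q hQ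
  set μ := Q (b (Sum.inl ())) with hμdef
  let w : Unit ⊕ (Fin m ⊕ Fin m) → Fˣ := fun k => match k with
    | Sum.inl _ => 1
    | Sum.inr (Sum.inl _) => 1
    | Sum.inr (Sum.inr _) => Units.mk0 μ hμ
  let b' : Basis (Unit ⊕ (Fin m ⊕ Fin m)) F V := b.unitsSMul w
  have hb' : ∀ k, b' k = (w k : F) • b k := fun k => by
    show b.unitsSMul w k = _
    rw [Basis.unitsSMul_apply]
    rfl
  let φ : V ≃ₗ[F] (Unit ⊕ (Fin m ⊕ Fin m) → F) :=
    b'.equiv (Pi.basisFun F (Unit ⊕ (Fin m ⊕ Fin m))) (Equiv.refl _)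
  have hφ : ∀ k, φ (b' k) = Pi.single k 1 := by
    intro k
    show b'.equiv (Pi.basisFun F (Unit ⊕ (Fin m ⊕ Fin m))) (Equiv.refl _) (b' k) = _
    rw [Basis.equiv_apply, Pi.basisFun_apply]
    rfl
  refine ⟨φ, μ, hμ, ?_⟩
  have heq : Q = μ • (qfOdd m F).comp (φ : V →ₗ[F] (Unit ⊕ (Fin m ⊕ Fin m) → F)) := by
    apply quadraticForm_ext_basis b'
    · intro k
      rw [_root_.smul_apply, QuadraticMap.comp_apply, LinearEquiv.coe_coe, hφ,
        qfOdd_single, hb', QuadraticMap.map_smul]
      rcases k with ⟨⟩ | i | i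
      · simp [w, hμdef]
      · simp [w, (hQ0 i).1]
      · simp [w, (hQ0 i).2]
    · intro k l
      have e1 : QuadraticMap.polar
          (⇑(μ • (qfOdd m F).comp (φ : V →ₗ[F] (Unit ⊕ (Fin m ⊕ Fin m) → F)))) (b' k) (b' l)
          = μ * QuadraticMap.polar (⇑(qfOdd m F)) (φ (b' k)) (φ (b' l)) := by
        simp only [QuadraticMap.polar, _root_.smul_apply, QuadraticMap.comp_apply,
          LinearEquiv.coe_coe, map_add, smul_eq_mul]
        ring
      rw [e1, hφ, hφ, polar_qfOdd_single, hb', hb', QuadraticMap.polar_smul_left,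
        QuadraticMap.polar_smul_right]
      rcases k with ⟨⟩ | i | i <;> rcases l with ⟨⟩ | j | j
      · simp [w, hμdef, QuadraticMap.polar_self]
        ring
      · simp [w, (hx j).1]
      · simp [w, (hx j).2]
      · rw [QuadraticMap.polar_comm]
        simp [w, (hx i).1]
      · simp [w, (hee i j).1]
      · simp [w, hef i j]
      · rw [QuadraticMap.polar_comm]
        simp [w, (hx i).2]
      · rw [QuadraticMap.polar_comm]
        simp [w, hef j i]
        split_ifs with h1 h2 h2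
        · rfl
        · exact absurd h1.symm h2
        · exact absurd h2.symm h1
        · rfl
      · simp [w, (hee i j).2]
  intro v
  have := congrArg (fun q : QuadraticForm F V => q v) heq
  simpa using this

/-- realizing `(X - 1) * c` in the odd-dimensional orthogonal group -/
theorem exists_element [Fintype F] (h2 : (2 : F) ≠ 0) (m r : ℕ) (hodd : Odd r)
    (hne : (r : F) ≠ 0) (c : F[X]) (hc : c.Monic) (hk : c.natDegree = 2 * m)
    (hrev : c.reverse = c) (hcf : ∀ f, Irreducible f → f ∣ c → f ∣ X ^ r - 1) :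
    ∃ g : ↥(Cfsg.isometryGroup F ⇑(qfOdd m F)),
      g ^ r = 1 ∧ (mat (qfOdd m F) g).charpoly = (X - 1) * c := by
  obtain ⟨W, _, _, _, Q, a, j, hQ, hiso, hpow, hch, hdim⟩ :=
    exists_o_model r hodd hne m c hc hk hrev hcf
  let Q' : QuadraticForm F (W × (Fin (j + 1) → F)) := Q.prod (sumSq (j + 1))
  have hQ' : (QuadraticMap.polarBilin Q').Nondegenerate :=
    nondegenerate_prod Q (sumSq (j + 1)) hQ (nondegenerate_sumSq h2 (j + 1))
  let a' : Module.End F (W × (Fin (j + 1) → F)) := LinearMap.prodMap a 1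
  have hiso' : ∀ x, Q' (a' x) = Q' x := by
    intro x
    show Q.prod (sumSq (j + 1)) (a x.1, x.2) = Q.prod (sumSq (j + 1)) x
    rw [QuadraticMap.prod_apply, QuadraticMap.prod_apply, hiso]
  have hpow' : a' ^ r = 1 := by
    show (LinearMap.prodMap a 1 : Module.End F (W × (Fin (j + 1) → F))) ^ r = 1
    rw [prodMap_pow, hpow, one_pow]
    exact LinearMap.prodMap_one
  have hdim' : finrank F (W × (Fin (j + 1) → F)) = 2 * m + 1 := by
    rw [Module.finrank_prod, Module.finrank_fin_fun]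
    omega
  have hch' : a'.charpoly = (X - 1) * c := by
    show (LinearMap.prodMap a (1 : Module.End F (Fin (j + 1) → F))).charpoly = _
    rw [LinearMap.charpoly_prodMap, LinearMap.charpoly_one, Module.finrank_fin_fun, hch]
    ring
  obtain ⟨φ, μ, hμ, hφ⟩ := exists_simil_qfOdd m hdim' Q' hQ'
  obtain ⟨g, hg1, hg2⟩ := exists_of_simil (qfOdd m F) Q' φ μ hμ hφ a' hiso' r hodd.pos hpow'
  exact ⟨g, hg1, by rw [hg2, hch']⟩

theorem eval_one_reverse (f : F[X]) : f.reverse.eval 1 = f.eval 1 := by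
  have _hinv : Invertible (1 : F) := invertibleOne
  have := eval₂_reverse_mul_pow (RingHom.id F) (1 : F) f
  rw [invOf_one, one_pow, mul_one] at this
  exact this

/-- The number of classes of elements of odd prime order `r ≠ p` in `O_{2m+1}(q)`, `q` odd. -/
theorem card_odd_classes [Fintype F] (p : ℕ) [Fact p.Prime] [CharP F p] (h2 : (2 : F) ≠ 0)
    (m r i t : ℕ) (hr : r.Prime) (hr2 : r ≠ 2) (hrp : r ≠ p)
    (hi : i = orderOf ((Fintype.card F : ℕ) : ZMod r)) (ht : t * i = r - 1) :
    Nat.card {C : ConjClasses ↥(Cfsg.isometryGroup F ⇑(qfOdd m F)) //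
      ∃ g : ↥(Cfsg.isometryGroup F ⇑(qfOdd m F)), ConjClasses.mk g = C ∧ orderOf g = r} =
      (if Odd i then (m / i + t / 2).choose (t / 2) else (2 * m / i + t).choose t) - 1 := by
  classical
  have hp : p.Prime := Fact.out
  have hrodd : Odd r := hr.odd_of_ne_two hr2
  have hrF : (r : F) ≠ 0 := by
    rw [Ne, CharP.cast_eq_zero_iff F p]
    intro hdvd
    exact hrp ((Nat.prime_dvd_prime_iff_eq hp hr).1 hdvd).symm
  set Q₀ := qfOdd m F with hQ₀def
  have hQ₀ : (QuadraticMap.polarBilin Q₀).Nondegenerate :=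
    Cfsg.Agent.Lib.Helper14_POmegaSimple.nondegenerate_qfOdd h2 m
  set T' : Set F[X] := {c | c.Monic ∧ c.natDegree = 2 * m ∧ c.reverse = c ∧
    ∀ f, Irreducible f → f ∣ c → f ∣ X ^ r - 1} with hT'
  have hcardT' : Nat.card T' = _ := card_pal_polys p m r i t hr hr2 hrp hi ht
  have hmem : ((X : F[X]) - 1) ^ (2 * m) ∈ T' := by
    refine ⟨X_sub_one_props.1.pow _, ?_, reverse_X_sub_one_pow _ ⟨m, two_mul m⟩, ?_⟩
    · rw [X_sub_one_props.1.natDegree_pow, natDegree_X_sub_one, mul_one]
    · intro f hf hfd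
      exact (hf.prime.dvd_of_dvd_pow hfd).trans (X_sub_one_dvd r hr)
  have hcardι : Fintype.card (Unit ⊕ (Fin m ⊕ Fin m)) = 2 * m + 1 := by
    rw [Fintype.card_sum, Fintype.card_sum, Fintype.card_fin, Fintype.card_unit]
    omega
  have hone : (mat Q₀ 1).charpoly = ((X : F[X]) - 1) ^ (2 * m + 1) := by
    rw [mat_one, Matrix.charpoly_one, hcardι]
  have hX1 : ((X : F[X]) - 1) ≠ 0 := X_sub_one_props.1.ne_zero
  rw [card_classes p Q₀ hQ₀ r hr hr2 hrp]
  have hset : {c : F[X] | ∃ g : ↥(Cfsg.isometryGroup F ⇑Q₀),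
      orderOf g = r ∧ (mat Q₀ g).charpoly = c} =
      (fun c' : F[X] => (X - 1) * c') '' (T' \ {(X - 1) ^ (2 * m)}) := by
    ext c
    constructor
    · rintro ⟨g, hg, rfl⟩
      have hgr : g ^ r = 1 := by
        rw [← hg]
        exact pow_orderOf_eq_one g
      have hMr : mat Q₀ g ^ r = 1 := (mat_pow_eq_one_iff Q₀ g r).2 hgr
      have hrev := charpoly_reverse Q₀ hQ₀ g r hgr hrodd
      rw [hcardι, Odd.neg_one_pow ⟨m, rfl⟩, neg_one_mul] at hrev
      have hmonic : (mat Q₀ g).charpoly.Monic := Matrix.charpoly_monic _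
      have hdeg : (mat Q₀ g).charpoly.natDegree = 2 * m + 1 := by
        rw [Matrix.charpoly_natDegree_eq_dim, hcardι]
      have hev : (mat Q₀ g).charpoly.eval 1 = 0 := by
        have h3 := eval_one_reverse (mat Q₀ g).charpoly
        rw [hrev, eval_neg] at h3
        have h4 : (2 : F) * (mat Q₀ g).charpoly.eval 1 = 0 := by
          linear_combination -h3
        exact (mul_eq_zero.1 h4).resolve_left h2
      have hdvd : ((X : F[X]) - 1) ∣ (mat Q₀ g).charpoly := by
        have := (dvd_iff_isRoot (p := (mat Q₀ g).charpoly) (a := 1)).2 hev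
        rwa [C_1] at this
      obtain ⟨c', hc'⟩ := hdvd
      have hc'm : c'.Monic := by
        rw [hc'] at hmonic
        exact X_sub_one_props.1.of_mul_monic_left hmonic
      have hc'deg : c'.natDegree = 2 * m := by
        rw [hc', X_sub_one_props.1.natDegree_mul hc'm, natDegree_X_sub_one] at hdeg
        omega
      have hc'rev : c'.reverse = c' := by
        rw [hc', reverse_mul_of_domain, reverse_X_sub_one] at hrev
        apply mul_left_cancel₀ hX1
        have h5 : C (-1 : F) = -1 := by rw [C_neg, C_1]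
        rw [h5] at hrev
        linear_combination -hrev
      refine ⟨c', ⟨⟨hc'm, hc'deg, hc'rev, ?_⟩, ?_⟩, hc'.symm⟩
      · intro f hf hfd
        apply dvd_of_irreducible_of_dvd_charpoly' (mat Q₀ g) (X ^ r - 1) _ f hf
          (hfd.trans ⟨X - 1, by rw [hc', mul_comm]⟩)
        rw [map_sub, map_pow, aeval_X, map_one, hMr, sub_self]
      · rw [Set.mem_singleton_iff]
        intro hc1
        have hconj : IsConj g 1 := by
          apply isConj_of_charpoly_eq Q₀ hQ₀ g 1 r hgr (one_pow r) hrodd hrF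
          rw [hone, hc', hc1, pow_succ']
        have hg1 : g = 1 := by
          obtain ⟨d, hd⟩ := isConj_iff.1 hconj.symm
          rw [← hd, mul_one, mul_inv_cancel]
        rw [hg1, orderOf_one] at hg
        exact hr.one_lt.ne hg
    · rintro ⟨c', ⟨⟨hcm, hcn, hrev, hcf⟩, hc1⟩, rfl⟩
      rw [Set.mem_singleton_iff] at hc1
      obtain ⟨g, hgr, hgc⟩ := exists_element h2 m r hrodd hrF c' hcm hcn hrev hcf
      refine ⟨g, ?_, hgc⟩
      rcases (Nat.dvd_prime hr).1 (orderOf_dvd_of_pow_eq_one hgr) with h1 | h1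
      · exfalso
        apply hc1
        have hg1 : g = 1 := orderOf_eq_one_iff.1 h1
        rw [hg1, hone, pow_succ'] at hgc
        exact (mul_left_cancel₀ hX1 hgc).symm
      · exact h1
  rw [hset, _root_.Nat.card_coe_set_eq,
    Set.ncard_image_of_injective _ (mul_right_injective₀ hX1),
    Set.ncard_sdiff_singleton_of_mem hmem, ← _root_.Nat.card_coe_set_eq, hcardT']

end Cfsg.Agent.Lib.Helper40_OOdd
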