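import Mathlib
import Cfsg.Agent.Lib.Helper98_AschDefs

set_option autoImplicit false

/-!
Package PK6 of S5630 (for helper98): a tensor wreath subgroup with `t` factors of dimension 2 lies
in a member of class 8 (the similarity group of the `t`-fold tensor power of the 2x2 alternating
form: symplectic if `t` is odd or the characteristic is 2, quadratic otherwise).
-/

namespace Cfsg.Agent.Lib.Helper55_Asch_PK6

open Cfsg Cfsg.Geo Matrix Cfsg.Agent.Lib.Helper98_AschDefs
open scoped Kronecker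

variable {F : Type*} [Field F]

section tens

variable {m t : ℕ}

/-- the tensor product of a family of square matrices -/
def tens (Ms : Fin t → Matrix (Fin m) (Fin m) F) : Matrix (Fin t → Fin m) (Fin t → Fin m) F :=
  fun x y => ∏ i, Ms i (x i) (y i)

theorem tens_apply (Ms : Fin t → Matrix (Fin m) (Fin m) F) (x y : Fin t → Fin m) :
    tens Ms x y = ∏ i, Ms i (x i) (y i) := rfl

theorem tens_mul (Ms Ns : Fin t → Matrix (Fin m) (Fin m) F) :
    tens Ms * tens Ns = tens (fun i => Ms i * Ns i) := by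
  ext x y
  rw [Matrix.mul_apply, tens_apply]
  simp only [tens_apply, Matrix.mul_apply]
  rw [Finset.prod_univ_sum, Fintype.piFinset_univ]
  apply Finset.sum_congr rfl
  intro z _
  rw [Finset.prod_mul_distrib]

theorem tens_transpose (Ms : Fin t → Matrix (Fin m) (Fin m) F) :
    (tens Ms)ᵀ = tens (fun i => (Ms i)ᵀ) := by
  ext x y
  rfl

theorem tens_smul (c : Fin t → F) (Ms : Fin t → Matrix (Fin m) (Fin m) F) :
    tens (fun i => c i • Ms i) = (∏ i, c i) • tens Ms := by
  ext x y
  rw [Matrix.smul_apply, tens_apply, tens_apply, smul_eq_mul, ← Finset.prod_mul_distrib]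
  rfl

theorem tens_one : tens (fun _ : Fin t => (1 : Matrix (Fin m) (Fin m) F)) = 1 := by
  ext x y
  rw [tens_apply]
  by_cases hxy : x = y
  · subst hxy
    simp
  · rw [Matrix.one_apply_ne hxy]
    obtain ⟨i, hi⟩ : ∃ i, x i ≠ y i := by
      by_contra hcon
      push Not at hcon
      exact hxy (funext hcon)
    exact Finset.prod_eq_zero (Finset.mem_univ i) (Matrix.one_apply_ne hi)

end tens

section eps

/-- the 2x2 alternating matrix -/
def eps : Matrix (Fin 2) (Fin 2) F := !![0, 1; -1, 0]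

theorem eps_conj (g : Matrix (Fin 2) (Fin 2) F) : gᵀ * eps * g = g.det • (eps : Matrix (Fin 2) (Fin 2) F) := by
  rw [Matrix.det_fin_two]
  ext i j
  fin_cases i <;> fin_cases j <;>
    simp [eps, Matrix.mul_apply, Fin.sum_univ_two] <;> ring

theorem eps_transpose : (eps : Matrix (Fin 2) (Fin 2) F)ᵀ = (-1 : F) • eps := by
  ext i j
  fin_cases i <;> fin_cases j <;> simp [eps]

theorem eps_mul_transpose : (eps : Matrix (Fin 2) (Fin 2) F) * epsᵀ = 1 := by
  ext i j
  fin_cases i <;> fin_cases j <;> simp [eps, Matrix.mul_apply, Fin.sum_univ_two]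

theorem eps_diag (k : Fin 2) : (eps : Matrix (Fin 2) (Fin 2) F) k k = 0 := by
  fin_cases k <;> simp [eps]

end eps

section G0

variable (F) (t : ℕ)

/-- the Gram matrix of the tensor power of the alternating form -/
def G0 : Matrix (Fin t → Fin 2) (Fin t → Fin 2) F := tens (fun _ => eps)

theorem G0_transpose : (G0 F t)ᵀ = ((-1 : F) ^ t) • G0 F t := by
  unfold G0
  rw [tens_transpose]
  have h1 : (fun _ : Fin t => (eps : Matrix (Fin 2) (Fin 2) F)ᵀ) =
      fun i : Fin t => (fun _ : Fin t => (-1 : F)) i • (fun _ : Fin t => (eps : Matrix (Fin 2) (Fin 2) F)) i := by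
    funext i
    exact eps_transpose
  rw [h1, tens_smul, Finset.prod_const, Finset.card_univ, Fintype.card_fin]

theorem G0_mul_transpose : G0 F t * (G0 F t)ᵀ = 1 := by
  unfold G0
  rw [tens_transpose, tens_mul]
  have h1 : (fun _ : Fin t => (eps : Matrix (Fin 2) (Fin 2) F) * epsᵀ) = fun _ => 1 := by
    funext i
    exact eps_mul_transpose
  rw [h1, tens_one]

theorem G0_transpose_mul : (G0 F t)ᵀ * G0 F t = 1 :=
  mul_eq_one_comm.1 (G0_mul_transpose F t)

theorem G0_diag (ht : 0 < t) (x : Fin t → Fin 2) : G0 F t x x = 0 := by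
  unfold G0
  rw [tens_apply]
  exact Finset.prod_eq_zero (Finset.mem_univ (⟨0, ht⟩ : Fin t)) (eps_diag _)

end G0


section forms

variable {κ : Type} [Fintype κ]

/-- the form with Gram matrix `A` -/
def bf (A : Matrix κ κ F) (u v : κ → F) : F := u ⬝ᵥ A *ᵥ v

theorem bf_isBilinear (A : Matrix κ κ F) : IsBilinearForm (bf A) where
  add_left := fun x y v => by unfold bf; rw [add_dotProduct]
  smul_left := fun c x v => by unfold bf; rw [smul_dotProduct, smul_eq_mul]
  add_right := fun v x y => by unfold bf; rw [Matrix.mulVec_add, dotProduct_add]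
  smul_right := fun c v x => by unfold bf; rw [Matrix.mulVec_smul, dotProduct_smul, smul_eq_mul]

theorem bf_swap (A : Matrix κ κ F) (u v : κ → F) : bf A u v = bf Aᵀ v u := by
  unfold bf
  rw [Matrix.mulVec_transpose, Matrix.dotProduct_mulVec, dotProduct_comm]

theorem bf_smul_matrix (c : F) (A : Matrix κ κ F) (u v : κ → F) : bf (c • A) u v = c * bf A u v := by
  unfold bf
  rw [Matrix.smul_mulVec, dotProduct_smul, smul_eq_mul]

theorem bf_mulVec (A g : Matrix κ κ F) (u v : κ → F) :
    bf A (g *ᵥ u) (g *ᵥ v) = bf (gᵀ * A * g) u v := by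
  unfold bf
  rw [← Matrix.mulVec_mulVec, ← Matrix.mulVec_mulVec, Matrix.dotProduct_mulVec u gᵀ,
    Matrix.vecMul_transpose]


theorem bf_nondeg [DecidableEq κ] (A B : Matrix κ κ F) (hBA : B * A = 1) : IsNondegenerateForm (bf A) := by
  have hAB : A * B = 1 := mul_eq_one_comm.1 hBA
  have key : ∀ (A' B' : Matrix κ κ F), B' * A' = 1 → ∀ v : κ → F, v ≠ 0 → ∃ x, bf A' x v ≠ 0 := by
    intro A' B' h v hv
    have h1 : A' *ᵥ v ≠ 0 := by
      intro h0
      apply hv
      have : B' *ᵥ (A' *ᵥ v) = v := by rw [Matrix.mulVec_mulVec, h, Matrix.one_mulVec]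
      rw [← this, h0, Matrix.mulVec_zero]
    obtain ⟨i, hi⟩ : ∃ i, (A' *ᵥ v) i ≠ 0 := by
      by_contra hcon
      push Not at hcon
      exact h1 (funext hcon)
    refine ⟨Pi.single i 1, ?_⟩
    unfold bf
    rw [single_one_dotProduct]
    exact hi
  intro v hv
  refine ⟨key A B hBA v hv, ?_⟩
  have hT : Bᵀ * Aᵀ = 1 := by rw [← Matrix.transpose_mul, hAB, Matrix.transpose_one]
  obtain ⟨x, hx⟩ := key Aᵀ Bᵀ hT v hv
  exact ⟨x, by rw [bf_swap]; exact hx⟩

theorem bf_alt (A : Matrix κ κ F) (hA : Aᵀ = -A) (hd : ∀ x, A x x = 0) (w : κ → F) : bf A w w = 0 := by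
  classical
  unfold bf
  have h1 : w ⬝ᵥ A *ᵥ w = ∑ p ∈ (Finset.univ : Finset κ) ×ˢ (Finset.univ : Finset κ),
      w p.1 * A p.1 p.2 * w p.2 := by
    rw [Finset.sum_product]
    unfold dotProduct Matrix.mulVec dotProduct
    apply Finset.sum_congr rfl
    intro x _
    rw [Finset.mul_sum]
    apply Finset.sum_congr rfl
    intro y _
    ring
  rw [h1]
  apply Finset.sum_involution (fun p _ => (p.2, p.1))
  · intro p _
    have h2 : A p.2 p.1 = - A p.1 p.2 := by
      have := congrFun (congrFun hA p.1) p.2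
      rw [Matrix.transpose_apply, Matrix.neg_apply] at this
      exact this
    simp only
    rw [h2]
    ring
  · intro p _ hp hpp
    apply hp
    have h3 : p.2 = p.1 := congrArg Prod.fst hpp
    rw [h3, hd, mul_zero, zero_mul]
  · intro p _
    exact Finset.mem_product.2 ⟨Finset.mem_univ _, Finset.mem_univ _⟩
  · intro p _
    rfl

end forms


section gens

variable (F) {t : ℕ}

theorem pure_conj (g : GL (Fin t → Fin 2) F) (hg : IsPureTensor 2 t g) :
    ∃ c : Fˣ, (g : Matrix (Fin t → Fin 2) (Fin t → Fin 2) F)ᵀ * G0 F t *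
      (g : Matrix (Fin t → Fin 2) (Fin t → Fin 2) F) = (c : F) • G0 F t := by
  obtain ⟨gs, hgs⟩ := hg
  have h1 : (g : Matrix (Fin t → Fin 2) (Fin t → Fin 2) F) =
      tens (fun i => (gs i : Matrix (Fin 2) (Fin 2) F)) := by
    ext x y
    rw [hgs, tens_apply]
  refine ⟨∏ i, Matrix.GeneralLinearGroup.det (gs i), ?_⟩
  rw [h1, tens_transpose]
  unfold G0
  rw [tens_mul, tens_mul]
  have h2 : (fun i => ((gs i : Matrix (Fin 2) (Fin 2) F))ᵀ * eps * (gs i : Matrix (Fin 2) (Fin 2) F)) =
      fun i => (fun i => (gs i : Matrix (Fin 2) (Fin 2) F).det) i •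
        (fun _ : Fin t => (eps : Matrix (Fin 2) (Fin 2) F)) i := by
    funext i
    exact eps_conj _
  rw [h2, tens_smul]
  congr 1
  rw [Units.coe_prod]
  rfl

theorem perm_conj (g : GL (Fin t → Fin 2) F) (hg : IsFactorPermutation 2 t g) :
    (g : Matrix (Fin t → Fin 2) (Fin t → Fin 2) F)ᵀ * G0 F t *
      (g : Matrix (Fin t → Fin 2) (Fin t → Fin 2) F) = G0 F t := by
  obtain ⟨σ, hσ⟩ := hg
  ext x y
  rw [Matrix.mul_apply, Finset.sum_eq_single (y ∘ σ.symm)]
  · rw [Matrix.mul_apply, Finset.sum_eq_single (x ∘ σ.symm)]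
    · rw [Matrix.transpose_apply, hσ, hσ, if_pos, if_pos, one_mul, mul_one]
      · unfold G0
        rw [tens_apply, tens_apply]
        exact Equiv.prod_comp σ.symm (fun i => (eps : Matrix (Fin 2) (Fin 2) F) (x i) (y i))
      · funext i
        simp
      · funext i
        simp
    · intro b _ hb
      rw [Matrix.transpose_apply, hσ, if_neg, zero_mul]
      intro hx
      apply hb
      rw [hx]
      funext i
      simp
    · intro h
      exact absurd (Finset.mem_univ _) h
  · intro b _ hb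
    rw [hσ, if_neg, mul_zero]
    intro hy
    apply hb
    rw [hy]
    funext i
    simp
  · intro h
    exact absurd (Finset.mem_univ _) h

/-- every element of the standard tensor wreath subgroup is a similarity of `G0` -/
theorem standard_conj (g : GL (Fin t → Fin 2) F) (hg : g ∈ tensorWreathStandard 2 t F) :
    ∃ c : Fˣ, (g : Matrix (Fin t → Fin 2) (Fin t → Fin 2) F)ᵀ * G0 F t *
      (g : Matrix (Fin t → Fin 2) (Fin t → Fin 2) F) = (c : F) • G0 F t := by
  unfold tensorWreathStandard at hg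
  induction hg using Subgroup.closure_induction with
  | mem x hx =>
    rcases hx with hx | hx
    · exact pure_conj F x hx
    · exact ⟨1, by rw [perm_conj F x hx, Units.val_one, one_smul]⟩
  | one => exact ⟨1, by simp⟩
  | mul x y _ _ hx hy =>
    obtain ⟨c, hc⟩ := hx
    obtain ⟨d, hd⟩ := hy
    refine ⟨c * d, ?_⟩
    rw [Units.val_mul, Matrix.transpose_mul]
    have : (y : Matrix (Fin t → Fin 2) (Fin t → Fin 2) F)ᵀ * (x : Matrix (Fin t → Fin 2) (Fin t → Fin 2) F)ᵀ * G0 F t *
        ((x : Matrix (Fin t → Fin 2) (Fin t → Fin 2) F) * (y : Matrix (Fin t → Fin 2) (Fin t → Fin 2) F)) =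
        (y : Matrix (Fin t → Fin 2) (Fin t → Fin 2) F)ᵀ * ((x : Matrix (Fin t → Fin 2) (Fin t → Fin 2) F)ᵀ * G0 F t *
        (x : Matrix (Fin t → Fin 2) (Fin t → Fin 2) F)) * (y : Matrix (Fin t → Fin 2) (Fin t → Fin 2) F) := by
      simp only [Matrix.mul_assoc]
    rw [this, hc, Matrix.mul_smul, Matrix.smul_mul, hd, smul_smul, Units.val_mul]
  | inv x _ hx =>
    obtain ⟨c, hc⟩ := hx
    refine ⟨c⁻¹, ?_⟩
    have h1 : ((x⁻¹ : GL (Fin t → Fin 2) F) : Matrix (Fin t → Fin 2) (Fin t → Fin 2) F)ᵀ *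
        ((x : Matrix (Fin t → Fin 2) (Fin t → Fin 2) F)ᵀ * G0 F t * (x : Matrix (Fin t → Fin 2) (Fin t → Fin 2) F)) *
        ((x⁻¹ : GL (Fin t → Fin 2) F) : Matrix (Fin t → Fin 2) (Fin t → Fin 2) F) = G0 F t := by
      have h2 : ((x⁻¹ : GL (Fin t → Fin 2) F) : Matrix (Fin t → Fin 2) (Fin t → Fin 2) F)ᵀ *
          (x : Matrix (Fin t → Fin 2) (Fin t → Fin 2) F)ᵀ = 1 := by
        rw [← Matrix.transpose_mul, ← Units.val_mul, mul_inv_cancel, Units.val_one, Matrix.transpose_one]
      have h3 : (x : Matrix (Fin t → Fin 2) (Fin t → Fin 2) F) *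
          ((x⁻¹ : GL (Fin t → Fin 2) F) : Matrix (Fin t → Fin 2) (Fin t → Fin 2) F) = 1 := by
        rw [← Units.val_mul, mul_inv_cancel, Units.val_one]
      calc _ = (((x⁻¹ : GL (Fin t → Fin 2) F) : Matrix (Fin t → Fin 2) (Fin t → Fin 2) F)ᵀ *
          (x : Matrix (Fin t → Fin 2) (Fin t → Fin 2) F)ᵀ) * G0 F t * ((x : Matrix (Fin t → Fin 2) (Fin t → Fin 2) F) *
          ((x⁻¹ : GL (Fin t → Fin 2) F) : Matrix (Fin t → Fin 2) (Fin t → Fin 2) F)) := by
            simp only [Matrix.mul_assoc]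
        _ = G0 F t := by rw [h2, h3, Matrix.one_mul, Matrix.mul_one]
    rw [hc, Matrix.mul_smul, Matrix.smul_mul] at h1
    conv_rhs => rw [← h1]
    rw [Units.val_inv_eq_inv_val, smul_smul, inv_mul_cancel₀ c.ne_zero, one_smul]

end gens


section pullback

variable {κ κ' : Type}

/-- a linear bijection, unbundled -/
structure IsLinBij (T : (κ' → F) → (κ → F)) : Prop where
  add : ∀ u v, T (u + v) = T u + T v
  smul : ∀ (c : F) u, T (c • u) = c • T u
  inj : ∀ u, T u = 0 → u = 0
  surj : Function.Surjective T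

/-- pull-back of a form -/
def pb (T : (κ' → F) → (κ → F)) (f₀ : (κ → F) → (κ → F) → F) : (κ' → F) → (κ' → F) → F :=
  fun u v => f₀ (T u) (T v)

theorem pb_bilinear {T : (κ' → F) → (κ → F)} (hT : IsLinBij T) {f₀ : (κ → F) → (κ → F) → F}
    (h : IsBilinearForm f₀) : IsBilinearForm (pb T f₀) where
  add_left := fun x y v => by unfold pb; rw [hT.add, h.add_left]
  smul_left := fun c x v => by unfold pb; rw [hT.smul, h.smul_left]
  add_right := fun v x y => by unfold pb; rw [hT.add, h.add_right]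
  smul_right := fun c v x => by unfold pb; rw [hT.smul, h.smul_right]

theorem pb_nondeg {T : (κ' → F) → (κ → F)} (hT : IsLinBij T) {f₀ : (κ → F) → (κ → F) → F}
    (h : IsNondegenerateForm f₀) : IsNondegenerateForm (pb T f₀) := by
  intro v hv
  have hTv : T v ≠ 0 := fun h0 => hv (hT.inj v h0)
  obtain ⟨⟨x, hx⟩, ⟨y, hy⟩⟩ := h (T v) hTv
  obtain ⟨x', rfl⟩ := hT.surj x
  obtain ⟨y', rfl⟩ := hT.surj y
  exact ⟨⟨x', hx⟩, ⟨y', hy⟩⟩

/-- a nondegenerate quadratic form from a nondegenerate symmetric bilinear form, `2 ≠ 0` -/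
theorem quad_of_symm (f : (κ → F) → (κ → F) → F) (hf : IsBilinearForm f)
    (hs : ∀ u v, f u v = f v u) (hnd : IsNondegenerateForm f) (h2 : (2 : F) ≠ 0) :
    IsNondegenerateQuadraticForm (fun v => f v v) := by
  have hpolar : QuadraticMap.polar (fun v => f v v) = fun u v => 2 * f u v := by
    funext u v
    unfold QuadraticMap.polar
    show f (u + v) (u + v) - f u u - f v v = 2 * f u v
    rw [hf.add_left, hf.add_right, hf.add_right, hs v u]
    ring
  refine ⟨?_, ?_, ?_⟩
  · intro c v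
    show f (c • v) (c • v) = c ^ 2 * f v v
    rw [hf.smul_left, hf.smul_right]
    ring
  · rw [hpolar]
    exact ⟨fun x y v => by rw [hf.add_left]; ring,
      fun c x v => by rw [hf.smul_left]; ring,
      fun v x y => by rw [hf.add_right]; ring,
      fun c v x => by rw [hf.smul_right]; ring⟩
  · rw [hpolar]
    intro v hv
    obtain ⟨⟨x, hx⟩, ⟨y, hy⟩⟩ := hnd v hv
    exact ⟨⟨x, mul_ne_zero h2 hx⟩, ⟨y, mul_ne_zero h2 hy⟩⟩

end pullback


section main

variable [Fintype F]

/-- PK6: a tensor wreath subgroup with factors of dimension 2 lies in a member of class 8 -/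
theorem PK6 (n t : ℕ) (hn : 3 ≤ n) (e : Fin n ≃ (Fin t → Fin 2)) (P : GL (Fin n) F) :
    InClass n (tensorWreathSubgroup 2 t e P) := by
  classical
  have hcard : n = 2 ^ t := by
    have := Fintype.card_congr e
    simpa using this
  have ht2 : 2 ≤ t := by
    by_contra hlt
    push Not at hlt
    interval_cases t <;> omega
  have h4n : 4 ∣ n := by
    rw [hcard]
    exact (show (4 : ℕ) = 2 ^ 2 by norm_num) ▸ pow_dvd_pow 2 ht2
  have heven : Even n := by
    obtain ⟨k, hk⟩ := h4n
    exact ⟨2 * k, by omega⟩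
  have h4 : 4 ≤ n := Nat.le_of_dvd (by omega) h4n
  obtain ⟨Pinv, hPinv⟩ : ∃ Pinv : Matrix (Fin n) (Fin n) F,
      Pinv = ((P⁻¹ : GL (Fin n) F) : Matrix (Fin n) (Fin n) F) := ⟨_, rfl⟩
  have hPP : Pinv * (P : Matrix (Fin n) (Fin n) F) = 1 := by
    rw [hPinv, ← Units.val_mul, inv_mul_cancel, Units.val_one]
  have hPP' : (P : Matrix (Fin n) (Fin n) F) * Pinv = 1 := by
    rw [hPinv, ← Units.val_mul, mul_inv_cancel, Units.val_one]
  obtain ⟨T, hTdef⟩ : ∃ T : (Fin n → F) → ((Fin t → Fin 2) → F),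
      T = fun u => (Pinv *ᵥ u) ∘ e.symm := ⟨_, rfl⟩
  have hT : IsLinBij T := by
    refine ⟨?_, ?_, ?_, ?_⟩
    · intro u v
      rw [hTdef]
      simp only
      rw [Matrix.mulVec_add]
      rfl
    · intro c u
      rw [hTdef]
      simp only
      rw [Matrix.mulVec_smul]
      rfl
    · intro u hu
      rw [hTdef] at hu
      have h1 : Pinv *ᵥ u = 0 := by
        funext i
        have := congrFun hu (e i)
        simpa using this
      have h2 : (P : Matrix (Fin n) (Fin n) F) *ᵥ (Pinv *ᵥ u) = u := by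
        rw [Matrix.mulVec_mulVec, hPP', Matrix.one_mulVec]
      rw [← h2, h1, Matrix.mulVec_zero]
    · intro w
      refine ⟨(P : Matrix (Fin n) (Fin n) F) *ᵥ (w ∘ e), ?_⟩
      rw [hTdef]
      simp only
      rw [Matrix.mulVec_mulVec, hPP, Matrix.one_mulVec]
      funext x
      simp
  have hsim : ∀ g ∈ tensorWreathSubgroup 2 t e P, ∃ c : Fˣ, ∀ u v,
      pb T (bf (G0 F t)) ((g : Matrix (Fin n) (Fin n) F) *ᵥ u) ((g : Matrix (Fin n) (Fin n) F) *ᵥ v) =
        (c : F) * pb T (bf (G0 F t)) u v := by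
    intro g hg
    unfold tensorWreathSubgroup at hg
    obtain ⟨g1, hg1, rfl⟩ := Subgroup.mem_map.1 hg
    obtain ⟨g0, hg0, rfl⟩ := Subgroup.mem_map.1 hg1
    obtain ⟨c, hc⟩ := standard_conj F g0 hg0
    refine ⟨c, fun u v => ?_⟩
    have hmat : (((MulAut.conj P).toMonoidHom ((glReindex e.symm).toMonoidHom g0) : GL (Fin n) F) :
        Matrix (Fin n) (Fin n) F) = (P : Matrix (Fin n) (Fin n) F) *
          (g0 : Matrix (Fin t → Fin 2) (Fin t → Fin 2) F).submatrix e e * Pinv := by
      rw [hPinv]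
      simp [glReindex, MulAut.conj_apply, Matrix.reindex_apply]
    have hTg : ∀ w, T ((((MulAut.conj P).toMonoidHom ((glReindex e.symm).toMonoidHom g0) : GL (Fin n) F) :
        Matrix (Fin n) (Fin n) F) *ᵥ w) = (g0 : Matrix (Fin t → Fin 2) (Fin t → Fin 2) F) *ᵥ T w := by
      intro w
      rw [hmat, hTdef]
      simp only
      rw [Matrix.mulVec_mulVec, ← Matrix.mul_assoc, ← Matrix.mul_assoc, hPP, Matrix.one_mul,
        ← Matrix.mulVec_mulVec, Matrix.submatrix_mulVec_equiv]
      funext x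
      simp
    unfold pb
    rw [hTg, hTg, bf_mulVec, hc, bf_smul_matrix]
  by_cases hcase : Odd t ∨ (2 : F) = 0
  · -- the symplectic case
    have hGT : (G0 F t)ᵀ = - G0 F t := by
      rw [G0_transpose]
      rcases hcase with ho | h2
      · rw [ho.neg_one_pow, neg_one_smul]
      · have h1 : (-1 : F) = 1 := by
          have : (1 : F) + 1 = 0 := by rw [one_add_one_eq_two]; exact h2
          exact neg_eq_of_add_eq_zero_left this
        rw [h1, one_pow, one_smul]
        nth_rewrite 1 [← one_smul F (G0 F t)]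
        rw [← h1, neg_one_smul]
    have hskew0 : ∀ v w, bf (G0 F t) v w = - bf (G0 F t) w v := by
      intro v w
      rw [bf_swap, hGT]
      have : (-G0 F t) = (-1 : F) • G0 F t := by rw [neg_one_smul]
      rw [this, bf_smul_matrix]
      ring
    refine ⟨similarityGroup (pb T (bf (G0 F t))), ?_, ?_⟩
    · refine Or.inr (Or.inr (Or.inr (Or.inr (Or.inr (Or.inr (Or.inr (Or.inr (Or.inr (Or.inl ?_)))))))))
      refine ⟨pb T (bf (G0 F t)), ⟨pb_bilinear hT (bf_isBilinear _), ?_, ?_, ?_⟩, heven, h4, rfl⟩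
      · intro v w
        exact hskew0 (T v) (T w)
      · intro v
        exact bf_alt (G0 F t) hGT (G0_diag F t (by omega)) (T v)
      · exact pb_nondeg hT (bf_nondeg (G0 F t) (G0 F t)ᵀ (G0_transpose_mul F t))
    · intro g hg
      exact hsim g hg
  · -- the quadratic case
    push Not at hcase
    obtain ⟨hto, h2⟩ := hcase
    have hte : Even t := Nat.not_odd_iff_even.1 hto
    have hGT : (G0 F t)ᵀ = G0 F t := by
      rw [G0_transpose, hte.neg_one_pow, one_smul]
    have hsymm0 : ∀ v w, bf (G0 F t) v w = bf (G0 F t) w v := by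
      intro v w
      rw [bf_swap, hGT]
    have hQ : IsNondegenerateQuadraticForm (fun v => pb T (bf (G0 F t)) v v) :=
      quad_of_symm (pb T (bf (G0 F t))) (pb_bilinear hT (bf_isBilinear _))
        (fun u v => hsymm0 (T u) (T v))
        (pb_nondeg hT (bf_nondeg (G0 F t) (G0 F t)ᵀ (G0_transpose_mul F t))) h2
    have hodd : Odd (Fintype.card F) := by
      have hchar : ringChar F ≠ 2 := by
        intro h
        apply h2
        have := ringChar.Nat.cast_ringChar (R := F)
        rw [h] at this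
        exact_mod_cast this
      exact Nat.odd_iff.2 (FiniteField.odd_card_of_char_ne_two hchar)
    refine ⟨quadSimilarityGroup (fun v => pb T (bf (G0 F t)) v v), ?_, ?_⟩
    · refine Or.inr (Or.inr (Or.inr (Or.inr (Or.inr (Or.inr (Or.inr (Or.inr (Or.inr (Or.inr (Or.inr ?_))))))))))
      exact ⟨_, hQ, hodd, hn, rfl⟩
    · intro g hg
      obtain ⟨c, hc⟩ := hsim g hg
      exact ⟨c, fun v => hc v v⟩

end main

end Cfsg.Agent.Lib.Helper55_Asch_PK6
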