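import Mathlib
import Cfsg.Agent.Lib.Helper98_AschDefs
import Cfsg.Agent.Lib.Helper60_Asch_PK1
import Cfsg.Agent.Lib.Helper55_Asch_PK6

set_option autoImplicit false

namespace Cfsg.Agent.Lib.Helper52_Asch_PK2

open Cfsg Cfsg.Geo Matrix Cfsg.Agent.Lib.Helper98_AschDefs
open scoped Kronecker

variable {F : Type*} [Field F]

lemma glReindex_val {κ ι' : Type} [Fintype κ] [DecidableEq κ] [Fintype ι'] [DecidableEq ι']
    (e : κ ≃ ι') (g : GL κ F) (x y : ι') :
    ((glReindex e g : GL ι' F) : Matrix ι' ι' F) x y = (g : Matrix κ κ F) (e.symm x) (e.symm y) := by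
  simp [glReindex, Matrix.reindex_apply]

lemma glReindex_trans {ι' κ κ' : Type} [Fintype ι'] [DecidableEq ι'] [Fintype κ] [DecidableEq κ]
    [Fintype κ'] [DecidableEq κ'] (e₁ : ι' ≃ κ) (f : κ ≃ κ') (g : GL κ F) :
    (glReindex (e₁.trans f).symm (glReindex f g) : GL ι' F) = glReindex e₁.symm g := by
  apply Units.ext
  ext x y
  rw [glReindex_val, glReindex_val, glReindex_val]
  simp

/-- membership in a conjugated reindexed subgroup -/
lemma mem_conj_reindex {n : ℕ} {κ : Type} [Fintype κ] [DecidableEq κ] (K : Subgroup (GL κ F))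
    (e : Fin n ≃ κ) (P : GL (Fin n) F) (h : GL (Fin n) F) (g : GL κ F) (hg : g ∈ K)
    (hh : h = P * glReindex e.symm g * P⁻¹) :
    h ∈ (K.map (glReindex e.symm).toMonoidHom).map (MulAut.conj P).toMonoidHom := by
  refine ⟨glReindex e.symm g, ⟨g, hg, rfl⟩, ?_⟩
  rw [hh]
  simp [MulAut.conj_apply]

lemma glReindex_coe {κ ι' : Type} [Fintype κ] [DecidableEq κ] [Fintype ι'] [DecidableEq ι']
    (e : κ ≃ ι') (g : GL κ F) :
    ((glReindex e g : GL ι' F) : Matrix ι' ι' F) = Matrix.reindexAlgEquiv F F e (g : Matrix κ κ F) := rfl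

/-- the key step: every element of `H` is `P * reindex (a ⊗ c) * P⁻¹` -/
lemma exists_kron {n : ℕ} (H : Subgroup (GL (Fin n) F))
    (A : Subalgebra F (Matrix (Fin n) (Fin n) F)) (hA : NormalizesAlg H A) (d s : ℕ)
    (e : Fin n ≃ Fin d × Fin s) (P : GL (Fin n) F) (hT : IsTensorAlg A d s e P) (hd : 0 < d) (hs : 0 < s)
    (h : GL (Fin n) F) (hh : h ∈ H) :
    ∃ g : GL (Fin d × Fin s) F, h = P * glReindex e.symm g * P⁻¹ ∧
      ∃ (a : GL (Fin d) F) (c : GL (Fin s) F),
        (g : Matrix (Fin d × Fin s) (Fin d × Fin s) F) = (a : Matrix (Fin d) (Fin d) F) ⊗ₖ (c : Matrix (Fin s) (Fin s) F) := by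
  set g : GL (Fin d × Fin s) F := (glReindex e.symm).symm (P⁻¹ * h * P) with hgdef
  have hRg : glReindex e.symm g = P⁻¹ * h * P := by
    rw [hgdef, MulEquiv.apply_symm_apply]
  have hhg : h = P * glReindex e.symm g * P⁻¹ := by
    rw [hRg]; group
  refine ⟨g, hhg, ?_⟩
  apply Cfsg.Agent.Lib.Helper60_Asch_PK1.PK1 d s hd hs g
  intro M
  set Rm := Matrix.reindexAlgEquiv F F e.symm with hRm
  have hPP : ((P⁻¹ : GL (Fin n) F) : Matrix (Fin n) (Fin n) F) * (P : Matrix (Fin n) (Fin n) F) = 1 := by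
    rw [← Units.val_mul, inv_mul_cancel, Units.val_one]
  have hPP' : (P : Matrix (Fin n) (Fin n) F) * ((P⁻¹ : GL (Fin n) F) : Matrix (Fin n) (Fin n) F) = 1 := by
    rw [← Units.val_mul, mul_inv_cancel, Units.val_one]
  have hmem : (P : Matrix (Fin n) (Fin n) F) * Matrix.reindex e.symm e.symm (M ⊗ₖ (1 : Matrix (Fin s) (Fin s) F)) *
      ((P⁻¹ : GL (Fin n) F) : Matrix (Fin n) (Fin n) F) ∈ A := (hT _).2 ⟨M, rfl⟩
  obtain ⟨M', hM'⟩ := (hT _).1 (hA h hh _ hmem)
  refine ⟨M', ?_⟩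
  have hval : (h : Matrix (Fin n) (Fin n) F) = (P : Matrix (Fin n) (Fin n) F) * Rm (g : Matrix _ _ F) *
      ((P⁻¹ : GL (Fin n) F) : Matrix (Fin n) (Fin n) F) := by
    conv_lhs => rw [hhg]
    rw [Units.val_mul, Units.val_mul, glReindex_coe]
  have hvali : ((h⁻¹ : GL (Fin n) F) : Matrix (Fin n) (Fin n) F) = (P : Matrix (Fin n) (Fin n) F) *
      Rm ((g⁻¹ : GL _ F) : Matrix _ _ F) * ((P⁻¹ : GL (Fin n) F) : Matrix (Fin n) (Fin n) F) := by
    have : h⁻¹ = P * glReindex e.symm g⁻¹ * P⁻¹ := by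
      rw [map_inv, hRg]; group
    conv_lhs => rw [this]
    rw [Units.val_mul, Units.val_mul, glReindex_coe]
  have hRr : ∀ X : Matrix (Fin d × Fin s) (Fin d × Fin s) F, Matrix.reindex e.symm e.symm X = Rm X := fun X => rfl
  rw [hRr, hRr, hval, hvali] at hM'
  have h1 : (P : Matrix (Fin n) (Fin n) F) * Rm ((g : Matrix _ _ F) * (M ⊗ₖ (1 : Matrix (Fin s) (Fin s) F)) *
      ((g⁻¹ : GL _ F) : Matrix _ _ F)) * ((P⁻¹ : GL (Fin n) F) : Matrix (Fin n) (Fin n) F) =
      (P : Matrix (Fin n) (Fin n) F) * Rm (M' ⊗ₖ (1 : Matrix (Fin s) (Fin s) F)) *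
        ((P⁻¹ : GL (Fin n) F) : Matrix (Fin n) (Fin n) F) := by
    rw [← hM', map_mul, map_mul]
    simp only [mul_assoc]
    rw [← mul_assoc ((P⁻¹ : GL (Fin n) F) : Matrix (Fin n) (Fin n) F) (P : Matrix (Fin n) (Fin n) F), hPP, one_mul]
    rw [← mul_assoc ((P⁻¹ : GL (Fin n) F) : Matrix (Fin n) (Fin n) F) (P : Matrix (Fin n) (Fin n) F), hPP, one_mul]
  have h2 := congrArg (fun X => ((P⁻¹ : GL (Fin n) F) : Matrix (Fin n) (Fin n) F) * X * (P : Matrix (Fin n) (Fin n) F)) h1
  simp only [mul_assoc, hPP, mul_one] at h2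
  simp only [← mul_assoc, hPP, one_mul] at h2
  exact Rm.injective h2

/-- PK2: a normalized tensor algebra `M_d ⊗ 1` with `1 < d`, `1 < s` puts `H` into class 4, 7 or 8 -/
theorem PK2 [Fintype F] (n : ℕ) (hn : 3 ≤ n) (H : Subgroup (GL (Fin n) F))
    (A : Subalgebra F (Matrix (Fin n) (Fin n) F)) (hA : NormalizesAlg H A) (d s : ℕ)
    (e : Fin n ≃ Fin d × Fin s) (P : GL (Fin n) F) (hT : IsTensorAlg A d s e P) (hd : 1 < d) (hs : 1 < s) :
    InClass n H := by
  classical
  have key := exists_kron H A hA d s e P hT (by omega) (by omega)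
  rcases lt_trichotomy d s with hlt | heq | hgt
  · -- class 4 with (d, s)
    refine ⟨tensorProductSubgroup d s e P, ?_, ?_⟩
    · right; right; right; right; right; left
      exact ⟨d, s, e, P, hd, hlt, rfl⟩
    · intro h hh
      obtain ⟨g, hhg, a, c, hac⟩ := key h hh
      exact mem_conj_reindex (kroneckerSubgroup d s F) e P h g ⟨a, c, hac⟩ hhg
  · -- d = s: tensor wreath with two factors
    subst heq
    set e'' : Fin n ≃ (Fin 2 → Fin d) := e.trans (finTwoArrowEquiv (Fin d)).symm with he''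
    have hH : H ≤ tensorWreathSubgroup d 2 e'' P := by
      intro h hh
      obtain ⟨g, hhg, a, c, hac⟩ := key h hh
      set g'' : GL (Fin 2 → Fin d) F := glReindex (finTwoArrowEquiv (Fin d)).symm g with hg''
      have hpure : IsPureTensor d 2 g'' := by
        refine ⟨![a, c], fun x y => ?_⟩
        rw [hg'', glReindex_val, hac, Fin.prod_univ_two]
        simp [Matrix.kroneckerMap_apply]
      have hmem : g'' ∈ tensorWreathStandard d 2 F := Subgroup.subset_closure (Or.inl hpure)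
      apply mem_conj_reindex (tensorWreathStandard d 2 F) e'' P h g'' hmem
      rw [hhg, he'', hg'', glReindex_trans]
    by_cases h3 : 3 ≤ d
    · refine ⟨tensorWreathSubgroup d 2 e'' P, ?_, hH⟩
      right; right; right; right; right; right; right; right; left
      exact ⟨d, 2, e'', P, h3, le_refl 2, rfl⟩
    · have hd2 : d = 2 := by omega
      subst hd2
      obtain ⟨M, hM, hle⟩ := Cfsg.Agent.Lib.Helper55_Asch_PK6.PK6 n 2 hn e'' P
      exact ⟨M, hM, hH.trans hle⟩
  · -- class 4 with (s, d)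
    set e' : Fin n ≃ Fin s × Fin d := e.trans (Equiv.prodComm (Fin d) (Fin s)) with he'
    refine ⟨tensorProductSubgroup s d e' P, ?_, ?_⟩
    · right; right; right; right; right; left
      exact ⟨s, d, e', P, hs, hgt, rfl⟩
    · intro h hh
      obtain ⟨g, hhg, a, c, hac⟩ := key h hh
      set g' : GL (Fin s × Fin d) F := glReindex (Equiv.prodComm (Fin d) (Fin s)) g with hg'
      have hk : g' ∈ kroneckerSubgroup s d F := by
        refine ⟨c, a, ?_⟩
        ext x y
        rw [hg', glReindex_val, hac]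
        simp [Matrix.kroneckerMap_apply, mul_comm]
      apply mem_conj_reindex (kroneckerSubgroup s d F) e' P h g' hk
      rw [hhg, he', hg', glReindex_trans]

end Cfsg.Agent.Lib.Helper52_Asch_PK2
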