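import Mathlib
import Cfsg.Agent.Lib.Helper98_AschDefs
import Cfsg.Agent.Lib.Helper29_OrthOddDefs
import Cfsg.Agent.Lib.Helper60_Asch_PK1
import Cfsg.Agent.Lib.Helper52_Asch_PK2
import Cfsg.Agent.Lib.Helper44_StdForms
import Cfsg.Agent.Lib.Helper40_OOdd
import Cfsg.Agent.Lib.Helper34_OrthOdd_OP4a

set_option autoImplicit false
set_option linter.unusedSectionVars false

namespace Cfsg.Agent.Lib.Helper34_OrthOdd_OP4b

open Cfsg Cfsg.Geo Matrix Cfsg.Agent.Lib.Helper98_AschDefs Cfsg.Agent.Lib.Helper29_OrthOddDefs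
open scoped Kronecker MatrixGroups

variable {F : Type*} [Field F]

section forms

variable {κ : Type} [Fintype κ] [DecidableEq κ]

/-- the bilinear form with Gram matrix `G` -/
def formOf (G : Matrix κ κ F) : (κ → F) → (κ → F) → F := fun u v => u ⬝ᵥ G *ᵥ v

theorem formOf_apply (G : Matrix κ κ F) (u v : κ → F) : formOf G u v = u ⬝ᵥ G *ᵥ v := rfl

theorem formOf_bilinear (G : Matrix κ κ F) : IsBilinearForm (formOf G) where
  add_left x y v := by simp only [formOf_apply, add_dotProduct]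
  smul_left c x v := by simp only [formOf_apply, smul_dotProduct, smul_eq_mul]
  add_right v x y := by simp only [formOf_apply, Matrix.mulVec_add, dotProduct_add]
  smul_right c v x := by simp only [formOf_apply, Matrix.mulVec_smul, dotProduct_smul, smul_eq_mul]

theorem gramMatrix_formOf (G : Matrix κ κ F) : gramMatrix (formOf G) = G := by
  ext a b
  simp [gramMatrix, formOf_apply]

theorem formOf_symm (G : Matrix κ κ F) (hG : Gᵀ = G) (u v : κ → F) : formOf G u v = formOf G v u := by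
  rw [formOf_apply, formOf_apply, Matrix.dotProduct_mulVec, ← Matrix.mulVec_transpose, hG, dotProduct_comm]

theorem formOf_nondeg (G : Matrix κ κ F) (hG : Gᵀ = G) (hdet : IsUnit G.det) :
    IsNondegenerateForm (formOf G) := by
  intro v hv
  have hinj : Function.Injective G.mulVec :=
    Matrix.mulVec_injective_iff_isUnit.2 ((Matrix.isUnit_iff_isUnit_det G).2 hdet)
  have hne : G *ᵥ v ≠ 0 := by
    intro h
    apply hv
    apply hinj
    rw [h, Matrix.mulVec_zero]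
  obtain ⟨i, hi⟩ := Function.ne_iff.1 hne
  have h1 : formOf G (Pi.single i 1) v ≠ 0 := by
    rw [formOf_apply, single_one_dotProduct]
    exact hi
  exact ⟨⟨_, h1⟩, ⟨_, by rw [formOf_symm G hG]; exact h1⟩⟩

theorem isSymmetricForm_formOf (G : Matrix κ κ F) (hG : Gᵀ = G) (hdet : IsUnit G.det) :
    IsSymmetricForm (formOf G) where
  bilinear := formOf_bilinear G
  symm := formOf_symm G hG
  nondegenerate := formOf_nondeg G hG hdet

theorem formOfGram_id (G : Matrix κ κ F) (x y : κ → F) : formOfGram id G x y = x ⬝ᵥ G *ᵥ y := by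
  simp only [formOfGram, dotProduct, Matrix.mulVec, id, Finset.mul_sum, mul_assoc]

/-- a bilinear form is given by its Gram matrix -/
theorem form_eq_gram (f : (κ → F) → (κ → F) → F) (hf : IsBilinearForm f) (u v : κ → F) :
    f u v = u ⬝ᵥ gramMatrix f *ᵥ v := by
  let B : LinearMap.BilinForm F (κ → F) :=
    LinearMap.mk₂ F f hf.add_left hf.smul_left hf.add_right hf.smul_right
  have hB : ∀ x y, B x y = f x y := fun x y => rfl
  have hM : LinearMap.BilinForm.toMatrix' B = gramMatrix f := by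
    ext i j
    rw [LinearMap.BilinForm.toMatrix'_apply, hB]
    rfl
  rw [← hB, ← Matrix.toBilin'_toMatrix' B, Matrix.toBilin'_apply', hM]

theorem mulVec_dot_mulVec {ι : Type} [Fintype ι] (K : Matrix κ ι F) (M : Matrix κ κ F)
    (x y : ι → F) : (K *ᵥ x) ⬝ᵥ M *ᵥ (K *ᵥ y) = x ⬝ᵥ (Kᵀ * M * K) *ᵥ y := by
  rw [← Matrix.mulVec_mulVec, ← Matrix.mulVec_mulVec, Matrix.dotProduct_mulVec x,
    Matrix.vecMul_transpose]

theorem eq_of_dot_eq (X Y : Matrix κ κ F) (h : ∀ u v : κ → F, u ⬝ᵥ X *ᵥ v = u ⬝ᵥ Y *ᵥ v) : X = Y := by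
  ext i j
  have := h (Pi.single i 1) (Pi.single j 1)
  simpa using this

/-- two symmetric matrices with the same quadratic form agree (characteristic not 2) -/
theorem eq_of_quad_eq (h2 : (2 : F) ≠ 0) (X Y : Matrix κ κ F) (hX : Xᵀ = X) (hY : Yᵀ = Y)
    (h : ∀ v : κ → F, v ⬝ᵥ X *ᵥ v = v ⬝ᵥ Y *ᵥ v) : X = Y := by
  have hq : ∀ (Z : Matrix κ κ F) (i j : κ),
      (Pi.single i 1 + Pi.single j 1) ⬝ᵥ Z *ᵥ (Pi.single i 1 + Pi.single j (1 : F))
        = Z i i + Z i j + (Z j i + Z j j) := by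
    intro Z i j
    simp [Matrix.mulVec_add, add_dotProduct, dotProduct_add]
    ring
  have hd : ∀ (Z : Matrix κ κ F) (i : κ), (Pi.single i 1) ⬝ᵥ Z *ᵥ (Pi.single i (1 : F)) = Z i i := by
    intro Z i
    simp
  ext i j
  have h1 := h (Pi.single i 1 + Pi.single j 1)
  rw [hq, hq] at h1
  have hii := h (Pi.single i 1)
  have hjj := h (Pi.single j 1)
  rw [hd, hd] at hii hjj
  have hXs : X j i = X i j := by
    have := congrFun (congrFun hX i) j
    rwa [Matrix.transpose_apply] at this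
  have hYs : Y j i = Y i j := by
    have := congrFun (congrFun hY i) j
    rwa [Matrix.transpose_apply] at this
  rw [hii, hjj, hXs, hYs] at h1
  have : (2 : F) * (X i j - Y i j) = 0 := by linear_combination h1
  rcases mul_eq_zero.1 this with h' | h'
  · exact absurd h' h2
  · exact sub_eq_zero.1 h'

end forms

section kron

variable {d s : ℕ}

/-- Kronecker product of invertible matrices, as an invertible matrix -/
def kronGL (a : GL (Fin d) F) (c : GL (Fin s) F) : GL (Fin d × Fin s) F :=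
  ⟨(a : Matrix (Fin d) (Fin d) F) ⊗ₖ (c : Matrix (Fin s) (Fin s) F),
    ((a⁻¹ : GL (Fin d) F) : Matrix (Fin d) (Fin d) F) ⊗ₖ ((c⁻¹ : GL (Fin s) F) : Matrix (Fin s) (Fin s) F),
    by rw [← Matrix.mul_kronecker_mul]; simp,
    by rw [← Matrix.mul_kronecker_mul]; simp⟩

theorem kronGL_val (a : GL (Fin d) F) (c : GL (Fin s) F) :
    ((kronGL a c : GL (Fin d × Fin s) F) : Matrix (Fin d × Fin s) (Fin d × Fin s) F)
      = (a : Matrix (Fin d) (Fin d) F) ⊗ₖ (c : Matrix (Fin s) (Fin s) F) := rfl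

theorem kronGL_mul (a a' : GL (Fin d) F) (c c' : GL (Fin s) F) :
    kronGL (a * a') (c * c') = kronGL a c * kronGL a' c' := by
  apply Units.ext
  rw [Units.val_mul, kronGL_val, kronGL_val, kronGL_val, Units.val_mul, Units.val_mul,
    Matrix.mul_kronecker_mul]

theorem kronGL_inv (a : GL (Fin d) F) (c : GL (Fin s) F) :
    (kronGL a c)⁻¹ = kronGL a⁻¹ c⁻¹ := by
  apply Units.ext
  rfl

theorem kronGL_mem (a : GL (Fin d) F) (c : GL (Fin s) F) : kronGL a c ∈ kroneckerSubgroup d s F :=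
  ⟨a, c, rfl⟩

theorem kronGL_swap (a : GL (Fin d) F) (c : GL (Fin s) F) :
    glReindex (Equiv.prodComm (Fin d) (Fin s)) (kronGL a c) = kronGL c a := by
  apply Units.ext
  ext x y
  rw [Cfsg.Agent.Lib.Helper52_Asch_PK2.glReindex_val, kronGL_val, kronGL_val]
  simp [Matrix.kroneckerMap_apply, mul_comm]

end kron

section reindex

variable {ι κ : Type} [Fintype ι] [DecidableEq ι] [Fintype κ] [DecidableEq κ]

theorem reindex_mulVec (e : ι ≃ κ) (U : Matrix κ κ F) (x : κ → F) :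
    (Matrix.reindex e.symm e.symm U) *ᵥ (x ∘ e) = (U *ᵥ x) ∘ e := by
  ext i
  simp only [Matrix.mulVec, dotProduct, Matrix.reindex_apply, Matrix.submatrix_apply,
    Equiv.symm_symm, Function.comp_apply]
  exact Equiv.sum_comp e (fun q => U (e i) q * x q)

theorem glReindex_symm_val (e : ι ≃ κ) (g : GL κ F) :
    ((glReindex e.symm g : GL ι F) : Matrix ι ι F) = Matrix.reindex e.symm e.symm (g : Matrix κ κ F) :=
  rfl

theorem comp_dot_comp (e : ι ≃ κ) (x y : κ → F) : (x ∘ e) ⬝ᵥ (y ∘ e) = x ⬝ᵥ y := by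
  simp only [dotProduct, Function.comp_apply]
  exact Equiv.sum_comp e (fun q => x q * y q)

/-- membership in a conjugated reindexed subgroup -/
theorem mem_conj_reindex' (K : Subgroup (GL κ F)) (e : ι ≃ κ) (P : GL ι F) (h : GL ι F) (g : GL κ F)
    (hg : g ∈ K) (hh : h = P * glReindex e.symm g * P⁻¹) :
    h ∈ (K.map (glReindex e.symm).toMonoidHom).map (MulAut.conj P).toMonoidHom := by
  refine ⟨glReindex e.symm g, ⟨g, hg, rfl⟩, ?_⟩
  rw [hh]
  simp [MulAut.conj_apply]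

end reindex

section tdata

variable {ι : Type} [Fintype ι] [DecidableEq ι]

/-- normal form: in the basis `P` (indexed through `e`) the form is `G₁ ⊗ G₂` and every element of
`H` is a Kronecker product -/
structure TData (H : Subgroup (GL ι F)) (f : (ι → F) → (ι → F) → F)
    (d s : ℕ) (e : ι ≃ Fin d × Fin s) (P : GL ι F)
    (G₁ : Matrix (Fin d) (Fin d) F) (G₂ : Matrix (Fin s) (Fin s) F) : Prop where
  form : ∀ x y : Fin d × Fin s → F,
    f ((P : Matrix ι ι F) *ᵥ (x ∘ e)) ((P : Matrix ι ι F) *ᵥ (y ∘ e)) = x ⬝ᵥ (G₁ ⊗ₖ G₂) *ᵥ y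
  grp : ∀ h ∈ H, ∃ (α : GL (Fin d) F) (γ : GL (Fin s) F),
    h = P * glReindex e.symm (kronGL α γ) * P⁻¹

variable {H : Subgroup (GL ι F)} {f : (ι → F) → (ι → F) → F} {d s : ℕ} {e : ι ≃ Fin d × Fin s}
  {P : GL ι F} {G₁ : Matrix (Fin d) (Fin d) F} {G₂ : Matrix (Fin s) (Fin s) F}

/-- change of basis inside the two tensor factors -/
theorem TData.change (hD : TData H f d s e P G₁ G₂) (a : GL (Fin d) F) (c : GL (Fin s) F) :
    TData H f d s e (P * glReindex e.symm (kronGL a c))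
      ((a : Matrix (Fin d) (Fin d) F)ᵀ * G₁ * (a : Matrix (Fin d) (Fin d) F))
      ((c : Matrix (Fin s) (Fin s) F)ᵀ * G₂ * (c : Matrix (Fin s) (Fin s) F)) := by
  constructor
  · intro x y
    have hP : ∀ z : Fin d × Fin s → F,
        ((P * glReindex e.symm (kronGL a c) : GL ι F) : Matrix ι ι F) *ᵥ (z ∘ e)
          = (P : Matrix ι ι F) *ᵥ
            ((((kronGL a c : GL (Fin d × Fin s) F) : Matrix (Fin d × Fin s) (Fin d × Fin s) F) *ᵥ z) ∘ e) := by
      intro z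
      rw [Units.val_mul, ← Matrix.mulVec_mulVec, glReindex_symm_val, reindex_mulVec]
    rw [hP, hP, hD.form, mulVec_dot_mulVec, kronGL_val, ← Matrix.kroneckerMap_transpose,
      ← Matrix.mul_kronecker_mul, ← Matrix.mul_kronecker_mul]
  · intro h hh
    obtain ⟨α, γ, hαγ⟩ := hD.grp h hh
    refine ⟨a⁻¹ * α * a, c⁻¹ * γ * c, ?_⟩
    rw [kronGL_mul, kronGL_mul, map_mul, map_mul, ← kronGL_inv, map_inv, hαγ]
    group

/-- swapping the two tensor factors -/
theorem TData.swap (hD : TData H f d s e P G₁ G₂) :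
    TData H f s d (e.trans (Equiv.prodComm (Fin d) (Fin s))) P G₂ G₁ := by
  constructor
  · intro x y
    have hx : ∀ z : Fin s × Fin d → F, z ∘ (e.trans (Equiv.prodComm (Fin d) (Fin s)))
        = (z ∘ (Equiv.prodComm (Fin d) (Fin s))) ∘ e := fun z => rfl
    rw [hx, hx, hD.form]
    have hG : G₁ ⊗ₖ G₂ = Matrix.reindex (Equiv.prodComm (Fin d) (Fin s)).symm
        (Equiv.prodComm (Fin d) (Fin s)).symm (G₂ ⊗ₖ G₁) := by
      ext p q
      simp [Matrix.kroneckerMap_apply, mul_comm]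
    rw [hG, reindex_mulVec, comp_dot_comp]
  · intro h hh
    obtain ⟨α, γ, hαγ⟩ := hD.grp h hh
    refine ⟨γ, α, ?_⟩
    rw [hαγ, ← kronGL_swap α γ, Cfsg.Agent.Lib.Helper52_Asch_PK2.glReindex_trans]

end tdata

section simil

open Cfsg.Agent.Lib.Helper44_StdForms

/-- a symmetric invertible matrix of odd size gives a quadratic space similar to the standard one -/
theorem exists_simil_std [Finite F] (h2 : (2 : F) ≠ 0) {d m' : ℕ} (hd : d = 2 * m' + 1)
    (G : Matrix (Fin d) (Fin d) F) (hG : Gᵀ = G) (hdet : IsUnit G.det) :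
    ∃ (φ : (Fin d → F) ≃ₗ[F] (Unit ⊕ (Fin m' ⊕ Fin m') → F)) (μ : F), μ ≠ 0 ∧
      ∀ v : Fin d → F, v ⬝ᵥ G *ᵥ v = μ * qfOdd m' F (φ v) := by
  classical
  let B : LinearMap.BilinForm F (Fin d → F) := Matrix.toBilin' G
  let Q : QuadraticForm F (Fin d → F) := LinearMap.BilinMap.toQuadraticMap B
  have hQ : ∀ v, Q v = v ⬝ᵥ G *ᵥ v := by
    intro v
    show LinearMap.BilinMap.toQuadraticMap B v = _
    rw [LinearMap.BilinMap.toQuadraticMap_apply, Matrix.toBilin'_apply']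
  have hfin : Module.finrank F (Fin d → F) = 2 * m' + 1 := by
    rw [Module.finrank_fin_fun, hd]
  have hpol : QuadraticMap.polarBilin Q = Matrix.toBilin' ((2 : F) • G) := by
    apply LinearMap.ext₂
    intro u v
    rw [QuadraticMap.polarBilin_apply_apply, QuadraticMap.polar, hQ, hQ, hQ, Matrix.toBilin'_apply']
    have hs := formOf_symm G hG u v
    simp only [formOf_apply] at hs
    simp only [Matrix.mulVec_add, add_dotProduct, dotProduct_add, Matrix.smul_mulVec, dotProduct_smul,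
      smul_eq_mul]
    rw [← hs]
    ring
  have hnd : (QuadraticMap.polarBilin Q).Nondegenerate := by
    rw [hpol]
    apply LinearMap.BilinForm.nondegenerate_toBilin'_of_det_ne_zero'
    rw [Matrix.det_smul]
    exact mul_ne_zero (pow_ne_zero _ h2) hdet.ne_zero
  obtain ⟨φ, μ, hμ, hφ⟩ := Cfsg.Agent.Lib.Helper40_OOdd.exists_simil_qfOdd m' hfin Q hnd
  exact ⟨φ, μ, hμ, fun v => by rw [← hQ, hφ]⟩

/-- any two symmetric invertible matrices of the same odd size over a finite field of odd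
characteristic are similar -/
theorem simil_of_odd [Finite F] (h2 : (2 : F) ≠ 0) {d : ℕ} (hdodd : Odd d)
    (G₁ G₂ : Matrix (Fin d) (Fin d) F) (hG₁ : G₁ᵀ = G₁) (hG₂ : G₂ᵀ = G₂)
    (hdet₁ : IsUnit G₁.det) (hdet₂ : IsUnit G₂.det) :
    ∃ (lam : F) (g : GL (Fin d) F), lam ≠ 0 ∧
      G₂ = lam • ((g : Matrix (Fin d) (Fin d) F)ᵀ * G₁ * (g : Matrix (Fin d) (Fin d) F)) := by
  classical
  obtain ⟨m', hm'⟩ := hdodd
  obtain ⟨φ₁, μ₁, hμ₁, hφ₁⟩ := exists_simil_std h2 hm' G₁ hG₁ hdet₁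
  obtain ⟨φ₂, μ₂, hμ₂, hφ₂⟩ := exists_simil_std h2 hm' G₂ hG₂ hdet₂
  let ψ : (Fin d → F) ≃ₗ[F] (Fin d → F) := φ₂.trans φ₁.symm
  let A : Matrix (Fin d) (Fin d) F := LinearMap.toMatrix' (ψ : (Fin d → F) →ₗ[F] (Fin d → F))
  let A' : Matrix (Fin d) (Fin d) F := LinearMap.toMatrix' (ψ.symm : (Fin d → F) →ₗ[F] (Fin d → F))
  have hAA' : A * A' = 1 := by
    rw [← LinearMap.toMatrix'_comp]
    simp
  have hA'A : A' * A = 1 := by
    rw [← LinearMap.toMatrix'_comp]
    simp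
  have hAv : ∀ v, A *ᵥ v = ψ v := fun v => LinearMap.toMatrix'_mulVec _ v
  refine ⟨μ₂ / μ₁, ⟨A, A', hAA', hA'A⟩, div_ne_zero hμ₂ hμ₁, ?_⟩
  show G₂ = (μ₂ / μ₁) • (Aᵀ * G₁ * A)
  apply eq_of_quad_eq h2 _ _ hG₂
  · rw [Matrix.transpose_smul, Matrix.transpose_mul, Matrix.transpose_mul, Matrix.transpose_transpose,
      hG₁, mul_assoc]
  · intro v
    rw [Matrix.smul_mulVec, dotProduct_smul, ← mulVec_dot_mulVec, hAv, hφ₁, hφ₂]
    have : φ₁ (ψ v) = φ₂ v := by simp [ψ]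
    rw [this, smul_eq_mul]
    field_simp

end simil

section hyp

variable {ι : Type} [Fintype ι] [DecidableEq ι]

/-- the key step: every element of `H` is `P * reindex (a ⊗ c) * P⁻¹` (generic index type) -/
theorem exists_kron' (H : Subgroup (GL ι F))
    (A : Subalgebra F (Matrix ι ι F)) (hA : NormalizesAlg H A) (d s : ℕ)
    (e : ι ≃ Fin d × Fin s) (P : GL ι F) (hT : IsTensorAlg A d s e P) (hd : 0 < d) (hs : 0 < s)
    (h : GL ι F) (hh : h ∈ H) :
    ∃ (α : GL (Fin d) F) (γ : GL (Fin s) F), h = P * glReindex e.symm (kronGL α γ) * P⁻¹ := by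
  set g : GL (Fin d × Fin s) F := (glReindex e.symm).symm (P⁻¹ * h * P) with hgdef
  have hRg : glReindex e.symm g = P⁻¹ * h * P := by
    rw [hgdef, MulEquiv.apply_symm_apply]
  have hhg : h = P * glReindex e.symm g * P⁻¹ := by
    rw [hRg]; group
  suffices hk : ∃ (a : GL (Fin d) F) (c : GL (Fin s) F),
      (g : Matrix (Fin d × Fin s) (Fin d × Fin s) F)
        = (a : Matrix (Fin d) (Fin d) F) ⊗ₖ (c : Matrix (Fin s) (Fin s) F) by
    obtain ⟨a, c, hac⟩ := hk
    refine ⟨a, c, ?_⟩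
    have : g = kronGL a c := Units.ext hac
    rw [← this]
    exact hhg
  apply Cfsg.Agent.Lib.Helper60_Asch_PK1.PK1 d s hd hs g
  intro M
  set Rm := Matrix.reindexAlgEquiv F F e.symm with hRm
  have hPP : ((P⁻¹ : GL ι F) : Matrix ι ι F) * (P : Matrix ι ι F) = 1 := by
    rw [← Units.val_mul, inv_mul_cancel, Units.val_one]
  have hPP' : (P : Matrix ι ι F) * ((P⁻¹ : GL ι F) : Matrix ι ι F) = 1 := by
    rw [← Units.val_mul, mul_inv_cancel, Units.val_one]
  have hmem : (P : Matrix ι ι F) * Matrix.reindex e.symm e.symm (M ⊗ₖ (1 : Matrix (Fin s) (Fin s) F)) *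
      ((P⁻¹ : GL ι F) : Matrix ι ι F) ∈ A := (hT _).2 ⟨M, rfl⟩
  obtain ⟨M', hM'⟩ := (hT _).1 (hA h hh _ hmem)
  refine ⟨M', ?_⟩
  have hval : (h : Matrix ι ι F) = (P : Matrix ι ι F) * Rm (g : Matrix _ _ F) *
      ((P⁻¹ : GL ι F) : Matrix ι ι F) := by
    conv_lhs => rw [hhg]
    rw [Units.val_mul, Units.val_mul, Cfsg.Agent.Lib.Helper52_Asch_PK2.glReindex_coe]
  have hvali : ((h⁻¹ : GL ι F) : Matrix ι ι F) = (P : Matrix ι ι F) *
      Rm ((g⁻¹ : GL _ F) : Matrix _ _ F) * ((P⁻¹ : GL ι F) : Matrix ι ι F) := by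
    have : h⁻¹ = P * glReindex e.symm g⁻¹ * P⁻¹ := by
      rw [map_inv, hRg]; group
    conv_lhs => rw [this]
    rw [Units.val_mul, Units.val_mul, Cfsg.Agent.Lib.Helper52_Asch_PK2.glReindex_coe]
  have hRr : ∀ X : Matrix (Fin d × Fin s) (Fin d × Fin s) F, Matrix.reindex e.symm e.symm X = Rm X := fun X => rfl
  rw [hRr, hRr, hval, hvali] at hM'
  have h1 : (P : Matrix ι ι F) * Rm ((g : Matrix _ _ F) * (M ⊗ₖ (1 : Matrix (Fin s) (Fin s) F)) *
      ((g⁻¹ : GL _ F) : Matrix _ _ F)) * ((P⁻¹ : GL ι F) : Matrix ι ι F) =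
      (P : Matrix ι ι F) * Rm (M' ⊗ₖ (1 : Matrix (Fin s) (Fin s) F)) *
        ((P⁻¹ : GL ι F) : Matrix ι ι F) := by
    rw [← hM', map_mul, map_mul]
    simp only [mul_assoc]
    rw [← mul_assoc ((P⁻¹ : GL ι F) : Matrix ι ι F) (P : Matrix ι ι F), hPP, one_mul]
    rw [← mul_assoc ((P⁻¹ : GL ι F) : Matrix ι ι F) (P : Matrix ι ι F), hPP, one_mul]
  have h2 := congrArg (fun X => ((P⁻¹ : GL ι F) : Matrix ι ι F) * X * (P : Matrix ι ι F)) h1
  simp only [mul_assoc, hPP, mul_one] at h2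
  simp only [← mul_assoc, hPP, one_mul] at h2
  exact Rm.injective h2

/-- from the hypotheses of OP4 to the normal form -/
theorem tdata_of_hyp (h2 : (2 : F) ≠ 0) (f : (ι → F) → (ι → F) → F) (hf : IsBilinearForm f)
    (hfsymm : ∀ u v, f u v = f v u) (hGdet : IsUnit (gramMatrix f).det)
    (H : Subgroup (GL ι F)) (A : Subalgebra F (Matrix ι ι F)) (hA : NormalizesAlg H A)
    (hAadj : IsAdjointClosedFor f A)
    (d s : ℕ) (e : ι ≃ Fin d × Fin s) (P : GL ι F) (hT : IsTensorAlg A d s e P)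
    (hd : 0 < d) (hs : 0 < s) (hdodd : Odd d) :
    ∃ (G₁ : Matrix (Fin d) (Fin d) F) (G₂ : Matrix (Fin s) (Fin s) F),
      G₁ᵀ = G₁ ∧ G₂ᵀ = G₂ ∧ IsUnit G₁.det ∧ IsUnit G₂.det ∧ TData H f d s e P G₁ G₂ := by
  classical
  set G : Matrix ι ι F := gramMatrix f with hGdef
  have hfG : ∀ u v, f u v = u ⬝ᵥ G *ᵥ v := form_eq_gram f hf
  have hGsymm : Gᵀ = G := by
    ext i j
    rw [Matrix.transpose_apply]
    exact hfsymm _ _
  set Pm : Matrix ι ι F := (P : Matrix ι ι F) with hPm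
  set Pi : Matrix ι ι F := ((P⁻¹ : GL ι F) : Matrix ι ι F) with hPi
  have hPiP : Pi * Pm = 1 := by rw [hPi, hPm, ← Units.val_mul, inv_mul_cancel, Units.val_one]
  have hPPi : Pm * Pi = 1 := by rw [hPi, hPm, ← Units.val_mul, mul_inv_cancel, Units.val_one]
  set N : Matrix ι ι F := Pmᵀ * G * Pm with hN
  set T : Matrix (Fin d × Fin s) (Fin d × Fin s) F := Matrix.reindex e e N with hTdef
  set Rm := Matrix.reindexAlgEquiv F F e.symm with hRm
  have hRr : ∀ X : Matrix (Fin d × Fin s) (Fin d × Fin s) F, Matrix.reindex e.symm e.symm X = Rm X :=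
    fun X => rfl
  have hRT : Rm T = N := by
    rw [← hRr, hTdef]
    ext i j
    simp
  have hNsymm : Nᵀ = N := by
    rw [hN, Matrix.transpose_mul, Matrix.transpose_mul, Matrix.transpose_transpose, hGsymm, mul_assoc]
  have hTsymm : Tᵀ = T := by
    rw [hTdef, Matrix.transpose_reindex, hNsymm]
  have hPdet : IsUnit Pm.det := by
    have : Pm.det * Pi.det = 1 := by rw [← Matrix.det_mul, hPPi, Matrix.det_one]
    exact IsUnit.of_mul_eq_one _ this
  have hTdet : IsUnit T.det := by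
    rw [hTdef, Matrix.det_reindex_self, hN, Matrix.det_mul, Matrix.det_mul, Matrix.det_transpose]
    exact (hPdet.mul hGdet).mul hPdet
  have hRtr : ∀ X : Matrix (Fin d × Fin s) (Fin d × Fin s) F, (Rm X)ᵀ = Rm Xᵀ := by
    intro X
    rw [← hRr, ← hRr, Matrix.transpose_reindex]
  have hadj : ∀ M : Matrix (Fin d) (Fin d) F, ∃ M' : Matrix (Fin d) (Fin d) F,
      (M ⊗ₖ (1 : Matrix (Fin s) (Fin s) F))ᵀ * T = T * (M' ⊗ₖ (1 : Matrix (Fin s) (Fin s) F)) := by
    intro M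
    set X : Matrix ι ι F := Rm (M ⊗ₖ (1 : Matrix (Fin s) (Fin s) F)) with hX
    have hmem : Pm * X * Pi ∈ A := (hT _).2 ⟨M, rfl⟩
    obtain ⟨a', ha'A, ha'⟩ := hAadj _ hmem
    obtain ⟨M', hM'⟩ := (hT _).1 ha'A
    refine ⟨M', ?_⟩
    set X' : Matrix ι ι F := Rm (M' ⊗ₖ (1 : Matrix (Fin s) (Fin s) F)) with hX'
    have hM'' : a' = Pm * X' * Pi := hM'
    have hmat : (Pm * X * Pi)ᵀ * G = G * a' := by
      apply eq_of_dot_eq
      intro u v
      have := ha' u v
      rw [hfG, hfG] at this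
      rw [← Matrix.mulVec_mulVec, ← Matrix.mulVec_mulVec, Matrix.dotProduct_mulVec u,
        Matrix.vecMul_transpose]
      exact this
    have h3 : Xᵀ * N = N * X' := by
      have h4 : Pmᵀ * ((Pm * X * Pi)ᵀ * G) * Pm = Pmᵀ * (G * a') * Pm := by rw [hmat]
      rw [hM'', Matrix.transpose_mul, Matrix.transpose_mul] at h4
      have e1 : Pmᵀ * (Piᵀ * (Xᵀ * Pmᵀ) * G) * Pm = (Pi * Pm)ᵀ * Xᵀ * (Pmᵀ * G * Pm) := by
        rw [Matrix.transpose_mul]; simp only [mul_assoc]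
      have e2 : Pmᵀ * (G * (Pm * X' * Pi)) * Pm = (Pmᵀ * G * Pm) * X' * (Pi * Pm) := by
        simp only [mul_assoc]
      rw [e1, e2, hPiP, Matrix.transpose_one, one_mul, mul_one] at h4
      exact h4
    apply Rm.injective
    rw [map_mul, map_mul, hRT, ← hRtr]
    exact h3
  obtain ⟨G₁, G₂, hG₁, hG₂, hd₁, hd₂, hTG⟩ :=
    Cfsg.Agent.Lib.Helper34_OrthOdd_OP4a.gram_split hd hs hdodd h2 T hTsymm hTdet hadj
  refine ⟨G₁, G₂, hG₁, hG₂, hd₁, hd₂, ⟨?_, ?_⟩⟩
  · intro x y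
    rw [hfG, mulVec_dot_mulVec, ← hTG]
    show (x ∘ e) ⬝ᵥ N *ᵥ (y ∘ e) = _
    rw [← hRT, ← hRr, reindex_mulVec, comp_dot_comp]
  · intro h hh
    exact exists_kron' H A hA d s e P hT hd hs h hh

end hyp

end Cfsg.Agent.Lib.Helper34_OrthOdd_OP4b
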