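import Mathlib

/-!
# Twisting isotypic components by a semilinear automorphism (helper71)

For a representation `ρ` of `Q` on `V` and a linear automorphism `x` of `V` normalising `ρ(Q)`,
`x` permutes the isotypic components of `V`.  Interface on the level of `K`-subspaces.
-/

set_option autoImplicit false

namespace Cfsg.Agent.Lib.Helper71_HHBTwist
open scoped MonoidAlgebra

section general
variable {R : Type*} [Ring R] {M : Type*} [AddCommGroup M] [Module R M]
  {σ σ' : R →+* R} [RingHomInvPair σ σ'] [RingHomInvPair σ' σ]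

theorem map_isotypicComponent_le (X : M ≃ₛₗ[σ] M) (S : Submodule R M) :
    (isotypicComponent R M S).map (X : M →ₛₗ[σ] M) ≤ isotypicComponent R M (S.map (X : M →ₛₗ[σ] M)) := by
  rw [Submodule.map_le_iff_le_comap]
  apply sSup_le
  rintro m ⟨e⟩
  rw [← Submodule.map_le_iff_le_comap]
  apply le_sSup
  exact ⟨((X.submoduleMap m).symm.trans e).trans (X.submoduleMap S)⟩

theorem map_symm_map (X : M ≃ₛₗ[σ] M) (S : Submodule R M) :
    (S.map (X : M →ₛₗ[σ] M)).map (X.symm : M →ₛₗ[σ'] M) = S := by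
  ext v
  constructor
  · rintro ⟨_, ⟨w, hw, rfl⟩, rfl⟩
    simpa using hw
  · intro hv
    exact ⟨X v, ⟨v, hv, rfl⟩, by simp⟩

theorem map_isotypicComponent (X : M ≃ₛₗ[σ] M) (S : Submodule R M) :
    (isotypicComponent R M S).map (X : M →ₛₗ[σ] M) = isotypicComponent R M (S.map (X : M →ₛₗ[σ] M)) := by
  apply le_antisymm (map_isotypicComponent_le X S)
  have h1 := map_isotypicComponent_le X.symm (S.map (X : M →ₛₗ[σ] M))
  rw [map_symm_map] at h1
  have h2 := Submodule.map_mono (f := (X : M →ₛₗ[σ] M)) h1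
  have h3 := map_symm_map X.symm (isotypicComponent R M (S.map (X : M →ₛₗ[σ] M)))
  simp only [LinearEquiv.symm_symm] at h3
  rw [h3] at h2
  exact h2

theorem isSimple_map (X : M ≃ₛₗ[σ] M) (S : Submodule R M) [hS : IsSimpleModule R S] :
    IsSimpleModule R (S.map (X : M →ₛₗ[σ] M)) := by
  rw [isSimpleModule_iff_isAtom] at hS ⊢
  exact (OrderIso.isAtom_iff (Submodule.orderIsoMapComap X) S).2 hS

theorem map_mem_isotypicComponents (X : M ≃ₛₗ[σ] M) {c : Submodule R M}
    (hc : c ∈ isotypicComponents R M) : c.map (X : M →ₛₗ[σ] M) ∈ isotypicComponents R M := by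
  obtain ⟨S, hS, rfl⟩ := hc
  exact ⟨S.map (X : M →ₛₗ[σ] M), isSimple_map X S, map_isotypicComponent X S⟩

/-- elementwise independence of distinct isotypic components -/
theorem isotypic_indep {ι : Type*} [Fintype ι] [DecidableEq ι] (c : ι → Submodule R M)
    (hc : ∀ i, c i ∈ isotypicComponents R M) (hinj : Function.Injective c) (v : ι → M)
    (hv : ∀ i, v i ∈ c i) (hsum : ∑ i, v i = 0) (i : ι) : v i = 0 := by
  have h1 : iSupIndep c := by
    have := (sSupIndep_iff _).1 (sSupIndep_isotypicComponents R M)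
    have h2 := this.comp (f := fun i => (⟨c i, hc i⟩ : isotypicComponents R M))
      (fun i j hij => hinj (congrArg Subtype.val hij))
    exact h2
  have h3 := h1 i
  rw [Submodule.disjoint_def] at h3
  apply h3 _ (hv i)
  have h4 : v i = - ∑ j ∈ Finset.univ.erase i, v j := by
    rw [← Finset.add_sum_erase _ _ (Finset.mem_univ i)] at hsum
    exact eq_neg_of_add_eq_zero_left hsum
  rw [h4]
  apply Submodule.neg_mem
  apply Submodule.sum_mem
  intro j hj
  have hji : j ≠ i := (Finset.mem_erase.1 hj).1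
  exact (le_iSup₂_of_le (f := fun j (_ : j ≠ i) => c j) j hji le_rfl) (hv j)

end general

variable {K : Type*} [Field K] {Q : Type*} [Group Q] {V : Type*} [AddCommGroup V] [Module K V]

/-- the ring automorphism of `K[Q]` induced by `φ` -/
noncomputable def sigE (K : Type*) [Field K] {Q : Type*} [Group Q] (φ : Q ≃* Q) : K[Q] ≃+* K[Q] :=
  (MonoidAlgebra.domCongr K K φ).toRingEquiv

theorem sigE_single (φ : Q ≃* Q) (g : Q) (a : K) :
    sigE K φ (MonoidAlgebra.single g a) = MonoidAlgebra.single (φ g) a := by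
  simp [sigE]

instance sigE_pair (φ : Q ≃* Q) :
    RingHomInvPair ((sigE K φ : K[Q] ≃+* K[Q]) : K[Q] →+* K[Q]) ((sigE K φ).symm : K[Q] →+* K[Q]) :=
  RingHomInvPair.of_ringEquiv _

instance sigE_pair' (φ : Q ≃* Q) :
    RingHomInvPair ((sigE K φ).symm : K[Q] →+* K[Q]) ((sigE K φ : K[Q] ≃+* K[Q]) : K[Q] →+* K[Q]) :=
  RingHomInvPair.symm _ _

theorem twist_smul (ρ : Representation K Q V) (x : V →ₗ[K] V) (φ : Q ≃* Q)
    (hcomp : ∀ g v, x (ρ g v) = ρ (φ g) (x v)) (r : K[Q]) (m : ρ.asModule) :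
    (ρ.asModuleEquiv.symm (x (ρ.asModuleEquiv (r • m))) : ρ.asModule) =
      (sigE K φ r) • (ρ.asModuleEquiv.symm (x (ρ.asModuleEquiv m)) : ρ.asModule) := by
  induction r using MonoidAlgebra.induction_linear with
  | zero => simp
  | add a b ha hb => simp only [add_smul, map_add, ha, hb]
  | single g a =>
    rw [sigE_single, Representation.single_smul, Representation.single_smul]
    apply ρ.asModuleEquiv.injective
    simp only [LinearEquiv.apply_symm_apply]
    have : ρ.asModuleEquiv (a • (ρ g) (ρ.asModuleEquiv m)) = a • (ρ g) (ρ.asModuleEquiv m) := rfl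
    rw [this, map_smul, hcomp]
    rfl

/-- the semilinear automorphism of `ρ.asModule` induced by `x` -/
noncomputable def twistEquiv (ρ : Representation K Q V) (x : V ≃ₗ[K] V) (φ : Q ≃* Q)
    (hcomp : ∀ g v, x (ρ g v) = ρ (φ g) (x v)) :
    ρ.asModule ≃ₛₗ[((sigE K φ : K[Q] ≃+* K[Q]) : K[Q] →+* K[Q])] ρ.asModule where
  toFun m := ρ.asModuleEquiv.symm (x (ρ.asModuleEquiv m))
  map_add' a b := by simp
  map_smul' r m := twist_smul ρ x.toLinearMap φ hcomp r m
  invFun m := ρ.asModuleEquiv.symm (x.symm (ρ.asModuleEquiv m))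
  left_inv m := by simp
  right_inv m := by simp

/-- the `K`-subspace underlying a `K[Q]`-submodule of `ρ.asModule` -/
def toSub (ρ : Representation K Q V) (c : Submodule K[Q] ρ.asModule) : Submodule K V :=
  (Subrepresentation.ofSubmodule' c).toSubmodule

theorem mem_toSub {ρ : Representation K Q V} {c : Submodule K[Q] ρ.asModule} {v : V} :
    v ∈ toSub ρ c ↔ (ρ.asModuleEquiv.symm v) ∈ c := Iff.rfl

theorem toSub_invariant (ρ : Representation K Q V) (c : Submodule K[Q] ρ.asModule) (g : Q) {v : V}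
    (hv : v ∈ toSub ρ c) : ρ g v ∈ toSub ρ c :=
  (Subrepresentation.ofSubmodule' c).apply_mem_toSubmodule g hv

/-- the `K[Q]`-submodule given by an invariant subspace -/
def ofInv (ρ : Representation K Q V) (U : Submodule K V) (hU : ∀ g, ∀ u ∈ U, ρ g u ∈ U) :
    Submodule K[Q] ρ.asModule :=
  Subrepresentation.asSubmodule ⟨U, fun g v hv => hU g v hv⟩

theorem toSub_ofInv (ρ : Representation K Q V) (U : Submodule K V) (hU : ∀ g, ∀ u ∈ U, ρ g u ∈ U) :
    toSub ρ (ofInv ρ U hU) = U := rfl

theorem toSub_le_iff {ρ : Representation K Q V} {c c' : Submodule K[Q] ρ.asModule} :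
    toSub ρ c ≤ toSub ρ c' ↔ c ≤ c' := Iff.rfl

theorem toSub_injective (ρ : Representation K Q V) : Function.Injective (toSub ρ) := by
  intro c c' h
  apply le_antisymm
  · exact toSub_le_iff.1 h.le
  · exact toSub_le_iff.1 h.ge

theorem toSub_bot (ρ : Representation K Q V) : toSub ρ ⊥ = ⊥ := rfl

/-- simple invariant subspaces -/
def IsSimpleInv (ρ : Representation K Q V) (U : Submodule K V) : Prop :=
  (∀ g, ∀ u ∈ U, ρ g u ∈ U) ∧ U ≠ ⊥ ∧
    ∀ U' : Submodule K V, U' ≤ U → (∀ g, ∀ u ∈ U', ρ g u ∈ U') → U' = ⊥ ∨ U' = U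

theorem isSimpleModule_ofInv {ρ : Representation K Q V} {U : Submodule K V} (h : IsSimpleInv ρ U) :
    IsSimpleModule K[Q] (ofInv ρ U h.1) := by
  rw [isSimpleModule_iff_isAtom]
  constructor
  · intro h0
    apply h.2.1
    rw [← toSub_ofInv ρ U h.1, h0, toSub_bot]
  · intro b hb
    have h1 : toSub ρ b ≤ U := toSub_le_iff.2 hb.le
    rcases h.2.2 (toSub ρ b) h1 (fun g _ hv => toSub_invariant ρ b g hv) with h2 | h2
    · apply toSub_injective ρ
      rw [h2, toSub_bot]
    · exfalso
      apply hb.ne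
      apply toSub_injective ρ
      rw [h2]
      rfl

theorem isSimpleInv_toSub {ρ : Representation K Q V} {c : Submodule K[Q] ρ.asModule}
    (h : IsSimpleModule K[Q] c) : IsSimpleInv ρ (toSub ρ c) := by
  rw [isSimpleModule_iff_isAtom] at h
  refine ⟨fun g _ hv => toSub_invariant ρ c g hv, ?_, ?_⟩
  · intro h0
    apply h.1
    apply toSub_injective ρ
    rw [h0, toSub_bot]
  · intro U' hU' hinv
    have h1 : ofInv ρ U' hinv ≤ c := hU'
    rcases eq_or_lt_of_le h1 with h2 | h2
    · right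
      rw [← h2]
      rfl
    · left
      have := h.2 _ h2
      rw [← toSub_ofInv ρ U' hinv, this, toSub_bot]

/-- isotypic components, as `K`-subspaces -/
def IsIsoComp (ρ : Representation K Q V) (W : Submodule K V) : Prop :=
  ∃ c ∈ isotypicComponents K[Q] ρ.asModule, toSub ρ c = W

theorem IsIsoComp.invariant {ρ : Representation K Q V} {W : Submodule K V} (h : IsIsoComp ρ W)
    (g : Q) {v : V} (hv : v ∈ W) : ρ g v ∈ W := by
  obtain ⟨c, _, rfl⟩ := h
  exact toSub_invariant ρ c g hv

theorem IsIsoComp.ne_bot {ρ : Representation K Q V} {W : Submodule K V} (h : IsIsoComp ρ W) :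
    W ≠ ⊥ := by
  obtain ⟨c, hc, rfl⟩ := h
  intro h0
  have : c = ⊥ := toSub_injective ρ (by rw [h0, toSub_bot])
  exact (bot_lt_isotypicComponents hc).ne' this

/-- IC1: twisting an isotypic component by a compatible automorphism -/
theorem IsIsoComp.map {ρ : Representation K Q V} {W : Submodule K V} (h : IsIsoComp ρ W)
    (x : V ≃ₗ[K] V) (φ : Q ≃* Q) (hcomp : ∀ g v, x (ρ g v) = ρ (φ g) (x v)) :
    IsIsoComp ρ (W.map (x : V →ₗ[K] V)) := by
  obtain ⟨c, hc, rfl⟩ := h
  refine ⟨_, map_mem_isotypicComponents (twistEquiv ρ x φ hcomp) hc, ?_⟩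
  ext v
  constructor
  · rintro ⟨w, hw, rfl⟩
    exact ⟨w, hw, rfl⟩
  · rintro ⟨w, hw, rfl⟩
    exact ⟨w, hw, rfl⟩

/-- IC4: every simple invariant subspace lies in an isotypic component -/
theorem exists_isIsoComp {ρ : Representation K Q V} {U : Submodule K V} (h : IsSimpleInv ρ U) :
    ∃ W, IsIsoComp ρ W ∧ U ≤ W := by
  have := isSimpleModule_ofInv h
  refine ⟨toSub ρ (isotypicComponent K[Q] ρ.asModule (ofInv ρ U h.1)),
    ⟨_, ⟨ofInv ρ U h.1, inferInstance, rfl⟩, rfl⟩, ?_⟩
  have := (ofInv ρ U h.1).le_isotypicComponent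
  exact this

/-- IC2: independence -/
theorem isIsoComp_indep {ρ : Representation K Q V} {ι : Type*} [Fintype ι] [DecidableEq ι]
    (W : ι → Submodule K V) (hW : ∀ i, IsIsoComp ρ (W i)) (hinj : Function.Injective W)
    (v : ι → V) (hv : ∀ i, v i ∈ W i) (hsum : ∑ i, v i = 0) (i : ι) : v i = 0 := by
  choose c hc hcW using hW
  have hinj' : Function.Injective c := by
    intro i j hij
    apply hinj
    rw [← hcW i, ← hcW j, hij]
  have := isotypic_indep c hc hinj' (fun i => ρ.asModuleEquiv.symm (v i))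
    (fun i => by have := hv i; rw [← hcW i] at this; exact this)
    (by rw [← map_sum, hsum, map_zero]) i
  exact this

/-- equivariantly isomorphic subspaces -/
def EquivIso (ρ : Representation K Q V) (U U' : Submodule K V) : Prop :=
  ∃ e : U ≃ₗ[K] U', ∀ (g : Q) (u u₁ : U), (u₁ : V) = ρ g u → ((e u₁ : U') : V) = ρ g (e u)

theorem equivIso_of_linearEquiv {ρ : Representation K Q V} {U U' : Submodule K V}
    (hU : ∀ g, ∀ u ∈ U, ρ g u ∈ U) (hU' : ∀ g, ∀ u ∈ U', ρ g u ∈ U')
    (e : (ofInv ρ U hU) ≃ₗ[K[Q]] (ofInv ρ U' hU')) : EquivIso ρ U U' := by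
  let toOf : U → ofInv ρ U hU := fun u => ⟨ρ.asModuleEquiv.symm u.1, u.2⟩
  let toOf' : U' → ofInv ρ U' hU' := fun u => ⟨ρ.asModuleEquiv.symm u.1, u.2⟩
  let fromOf : ofInv ρ U hU → U := fun m => ⟨ρ.asModuleEquiv m.1, m.2⟩
  let fromOf' : ofInv ρ U' hU' → U' := fun m => ⟨ρ.asModuleEquiv m.1, m.2⟩
  have hsm : ∀ (a : K) (m : ofInv ρ U hU), e (a • m) = a • e m := by
    intro a m
    rw [← algebraMap_smul K[Q] a m, map_smul, algebraMap_smul]
  have hsm' : ∀ (a : K) (m : ofInv ρ U' hU'), e.symm (a • m) = a • e.symm m := by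
    intro a m
    rw [← algebraMap_smul K[Q] a m, map_smul, algebraMap_smul]
  refine ⟨{ toFun := fun u => fromOf' (e (toOf u))
            map_add' := ?_
            map_smul' := ?_
            invFun := fun u => fromOf (e.symm (toOf' u))
            left_inv := ?_
            right_inv := ?_ }, ?_⟩
  · intro a b
    have : toOf (a + b) = toOf a + toOf b := rfl
    rw [this, map_add]
    rfl
  · intro a u
    have : toOf (a • u) = a • toOf u := rfl
    rw [this, hsm]
    rfl
  · intro u
    have : toOf' (fromOf' (e (toOf u))) = e (toOf u) := rfl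
    simp only [this, LinearEquiv.symm_apply_apply]
    rfl
  · intro u
    have : toOf (fromOf (e.symm (toOf' u))) = e.symm (toOf' u) := rfl
    simp only [this, LinearEquiv.apply_symm_apply]
    rfl
  · intro g u u₁ h
    have h1 : toOf u₁ = (MonoidAlgebra.single g (1 : K)) • toOf u := by
      apply Subtype.ext
      show ρ.asModuleEquiv.symm (u₁ : V) = MonoidAlgebra.single g (1 : K) • ρ.asModuleEquiv.symm (u : V)
      rw [Representation.single_smul, one_smul, h]
      rfl
    show ((fromOf' (e (toOf u₁)) : U') : V) = ρ g (fromOf' (e (toOf u)) : U')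
    rw [h1, map_smul]
    show ρ.asModuleEquiv ((MonoidAlgebra.single g (1 : K)) • (e (toOf u)).1) = _
    rw [Representation.single_smul, one_smul]
    rfl

/-- IC3: simple invariant subspaces of an isotypic component are equivariantly isomorphic -/
theorem IsIsoComp.equivIso {ρ : Representation K Q V} {W U U' : Submodule K V}
    (h : IsIsoComp ρ W) (hU : IsSimpleInv ρ U) (hU' : IsSimpleInv ρ U') (hUW : U ≤ W)
    (hU'W : U' ≤ W) : EquivIso ρ U U' := by
  obtain ⟨c, ⟨S, hS, rfl⟩, rfl⟩ := h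
  have iso := IsIsotypicOfType.isotypicComponent K[Q] ρ.asModule S
  have h1 := isSimpleModule_ofInv hU
  have h2 := isSimpleModule_ofInv hU'
  obtain ⟨e₁⟩ := isIsotypicOfType_submodule_iff.1 iso (ofInv ρ U hU.1) hUW
  obtain ⟨e₂⟩ := isIsotypicOfType_submodule_iff.1 iso (ofInv ρ U' hU'.1) hU'W
  exact equivIso_of_linearEquiv hU.1 hU'.1 (e₁.trans e₂.symm)

/-- IC5: a semisimple representation with a nontrivially acting element has a simple invariant
subspace on which the action is nontrivial -/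
theorem exists_simple_nontrivial [Finite Q] [NeZero (Nat.card Q : K)] (ρ : Representation K Q V)
    (h : ∃ g v, ρ g v ≠ v) : ∃ U, IsSimpleInv ρ U ∧ ∃ g, ∃ u ∈ U, ρ g u ≠ u := by
  by_contra hcon
  push Not at hcon
  let F : Submodule K V :=
    { carrier := {v | ∀ g, ρ g v = v}
      add_mem' := by
        intro a b ha hb g
        rw [map_add, ha g, hb g]
      zero_mem' := by
        intro g
        rw [map_zero]
      smul_mem' := by
        intro a v hv g
        rw [map_smul, hv g] }
  have hF : ∀ g, ∀ u ∈ F, ρ g u ∈ F := by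
    intro g u hu
    rw [hu g]
    exact hu
  have h1 : (⊤ : Submodule K[Q] ρ.asModule) ≤ ofInv ρ F hF := by
    rw [← IsSemisimpleModule.sSup_simples_eq_top K[Q] ρ.asModule]
    apply sSup_le
    intro m hm
    have hm' : IsSimpleModule K[Q] m := hm
    have h2 := isSimpleInv_toSub hm'
    intro v hv
    exact fun g => hcon _ h2 g v hv
  obtain ⟨g, v, hgv⟩ := h
  apply hgv
  have : ρ.asModuleEquiv.symm v ∈ ofInv ρ F hF := h1 trivial
  exact this g

end Cfsg.Agent.Lib.Helper71_HHBTwist
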