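import Mathlib
import Cfsg.Agent.Lib.Helper71_HHBTwist

/-!
# Clifford theory for a normalized subalgebra, part 1 (S5630; helper98)

`V` a finite dimensional `F`-space, `H ≤ GL(V)` irreducible, `A ⊆ End_F(V)` a subalgebra normalized by `H`.
Then `V` is a semisimple `A`-module and `H` permutes the isotypic components transitively.
-/

set_option autoImplicit false
set_option linter.unusedSectionVars false
set_option linter.unusedVariables false

namespace Cfsg.Agent.Lib.Helper98_AschCliffA

open Module Cfsg.Agent.Lib.Helper71_HHBTwist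

variable {F : Type*} [Field F] {V : Type*} [AddCommGroup V] [Module F V]

/-- conjugation by `h` as a ring automorphism of a normalized subalgebra -/
def conjRing (A : Subalgebra F (Module.End F V)) (h : V ≃ₗ[F] V)
    (h1 : ∀ a ∈ A, h.conj a ∈ A) (h2 : ∀ a ∈ A, h.symm.conj a ∈ A) : A ≃+* A where
  toFun a := ⟨h.conj a, h1 a a.2⟩
  invFun a := ⟨h.symm.conj a, h2 a a.2⟩
  left_inv a := by
    apply Subtype.ext
    ext v
    simp [LinearEquiv.conj_apply]
  right_inv a := by
    apply Subtype.ext
    ext v
    simp [LinearEquiv.conj_apply]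
  map_mul' a b := by
    apply Subtype.ext
    ext v
    simp [LinearEquiv.conj_apply]
  map_add' a b := by
    apply Subtype.ext
    ext v
    simp [LinearEquiv.conj_apply]

section semi
variable (A : Subalgebra F (Module.End F V)) (h : V ≃ₗ[F] V)
    (h1 : ∀ a ∈ A, h.conj a ∈ A) (h2 : ∀ a ∈ A, h.symm.conj a ∈ A)

instance pair1 : RingHomInvPair ((conjRing A h h1 h2 : A ≃+* A) : A →+* A)
    ((conjRing A h h1 h2).symm : A →+* A) :=
  RingHomInvPair.of_ringEquiv _

instance pair2 : RingHomInvPair ((conjRing A h h1 h2).symm : A →+* A)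
    ((conjRing A h h1 h2 : A ≃+* A) : A →+* A) :=
  RingHomInvPair.symm _ _

/-- `h` as a semilinear automorphism of the `A`-module `V` -/
def semi : V ≃ₛₗ[((conjRing A h h1 h2 : A ≃+* A) : A →+* A)] V where
  toFun := h
  invFun := h.symm
  map_add' := map_add h
  map_smul' a v := by
    change h ((a : Module.End F V) v) = h.conj (a : Module.End F V) (h v)
    simp [LinearEquiv.conj_apply]
  left_inv := h.symm_apply_apply
  right_inv := h.apply_symm_apply

@[simp] lemma semi_apply (v : V) : semi A h h1 h2 v = h v := rfl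

/-- the image of an `A`-submodule under a normalizing `h`, as an `A`-submodule -/
def mapSub (S : Submodule A V) : Submodule A V :=
  S.map (semi A h h1 h2 : V →ₛₗ[((conjRing A h h1 h2 : A ≃+* A) : A →+* A)] V)

lemma mem_mapSub {S : Submodule A V} {v : V} :
    v ∈ mapSub A h h1 h2 S ↔ ∃ w ∈ S, h w = v := by
  unfold mapSub
  rw [Submodule.mem_map]
  rfl

lemma mapSub_restrictScalars (S : Submodule A V) :
    (mapSub A h h1 h2 S).restrictScalars F = (S.restrictScalars F).map (h : V →ₗ[F] V) := by
  ext v
  rw [Submodule.restrictScalars_mem, mem_mapSub, Submodule.mem_map]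
  rfl

lemma mapSub_simple (S : Submodule A V) [IsSimpleModule A S] :
    IsSimpleModule A (mapSub A h h1 h2 S) :=
  isSimple_map (semi A h h1 h2) S

lemma mapSub_isotypicComponent (S : Submodule A V) :
    mapSub A h h1 h2 (isotypicComponent A V S) = isotypicComponent A V (mapSub A h h1 h2 S) :=
  map_isotypicComponent (semi A h h1 h2) S

lemma mapSub_mem_isotypicComponents {c : Submodule A V} (hc : c ∈ isotypicComponents A V) :
    mapSub A h h1 h2 c ∈ isotypicComponents A V :=
  map_mem_isotypicComponents (semi A h h1 h2) hc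

lemma mapSub_mono {S T : Submodule A V} (hST : S ≤ T) : mapSub A h h1 h2 S ≤ mapSub A h h1 h2 T :=
  Submodule.map_mono hST

lemma mapSub_injective : Function.Injective (mapSub A h h1 h2) := by
  intro S T hST
  ext v
  have h3 : h v ∈ mapSub A h h1 h2 S ↔ h v ∈ mapSub A h h1 h2 T := by rw [hST]
  simp only [mem_mapSub, EmbeddingLike.apply_eq_iff_eq, exists_eq_right] at h3
  exact h3

end semi

end Cfsg.Agent.Lib.Helper98_AschCliffA
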