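import Mathlib
import Cfsg.Agent.Lib.Helper98_AschCliffA

/-!
# Clifford theory for a normalized subalgebra, part 2 (S5630; helper98)

Semisimplicity, transitivity on isotypic components, and the decomposition/isotypic dichotomy.
-/

set_option autoImplicit false
set_option linter.unusedSectionVars false
set_option linter.unusedVariables false
set_option linter.style.haveILetI false

namespace Cfsg.Agent.Lib.Helper98_AschCliffB

open Module Cfsg.Agent.Lib.Helper98_AschCliffA

variable {F : Type*} [Field F] {V : Type*} [AddCommGroup V] [Module F V]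
variable [FiniteDimensional F V] [Nontrivial V]

/-- hypotheses bundle -/
structure Setup (H : Subgroup (V ≃ₗ[F] V)) (A : Subalgebra F (Module.End F V)) : Prop where
  irr : ∀ W : Submodule F V, (∀ h ∈ H, W.map (h : V →ₗ[F] V) ≤ W) → W = ⊥ ∨ W = ⊤
  norm : ∀ h ∈ H, ∀ a ∈ A, h.conj a ∈ A

variable {H : Subgroup (V ≃ₗ[F] V)} {A : Subalgebra F (Module.End F V)}

lemma Setup.norm' (S : Setup H A) : ∀ h ∈ H, ∀ a ∈ A, h.symm.conj a ∈ A :=
  fun h hh a ha => S.norm h⁻¹ (H.inv_mem hh) a ha

/-- the action of `h ∈ H` on `A`-submodules -/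
noncomputable def Setup.act (S : Setup H A) (h : V ≃ₗ[F] V) (hh : h ∈ H) (T : Submodule A V) : Submodule A V :=
  mapSub A h (S.norm h hh) (S.norm' h hh) T

lemma Setup.mem_act (S : Setup H A) {h : V ≃ₗ[F] V} (hh : h ∈ H) {T : Submodule A V} {v : V} :
    v ∈ S.act h hh T ↔ ∃ w ∈ T, h w = v := mem_mapSub A h _ _

lemma Setup.act_mul (S : Setup H A) {g h : V ≃ₗ[F] V} (hg : g ∈ H) (hh : h ∈ H) (T : Submodule A V) :
    S.act (g * h) (H.mul_mem hg hh) T = S.act g hg (S.act h hh T) := by
  ext v
  simp only [S.mem_act]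
  constructor
  · rintro ⟨w, hw, rfl⟩
    exact ⟨h w, ⟨w, hw, rfl⟩, rfl⟩
  · rintro ⟨_, ⟨w, hw, rfl⟩, rfl⟩
    exact ⟨w, hw, rfl⟩

lemma Setup.act_one (S : Setup H A) (T : Submodule A V) : S.act 1 H.one_mem T = T := by
  ext v
  simp only [S.mem_act]
  constructor
  · rintro ⟨w, hw, rfl⟩
    exact hw
  · intro hv
    exact ⟨v, hv, rfl⟩

lemma Setup.act_restrictScalars (S : Setup H A) {h : V ≃ₗ[F] V} (hh : h ∈ H) (T : Submodule A V) :
    (S.act h hh T).restrictScalars F = (T.restrictScalars F).map (h : V →ₗ[F] V) :=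
  mapSub_restrictScalars A h _ _ T

lemma Setup.act_mem (S : Setup H A) {h : V ≃ₗ[F] V} (hh : h ∈ H) {c : Submodule A V}
    (hc : c ∈ isotypicComponents A V) : S.act h hh c ∈ isotypicComponents A V :=
  mapSub_mem_isotypicComponents A h _ _ hc

lemma Setup.act_inv_act (S : Setup H A) {h : V ≃ₗ[F] V} (hh : h ∈ H) (T : Submodule A V) :
    S.act h⁻¹ (H.inv_mem hh) (S.act h hh T) = T := by
  rw [← S.act_mul]
  have : h⁻¹ * h = 1 := inv_mul_cancel h
  ext v
  simp only [S.mem_act, this]
  constructor
  · rintro ⟨w, hw, rfl⟩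
    exact hw
  · intro hv
    exact ⟨v, hv, rfl⟩

lemma Setup.act_act_inv (S : Setup H A) {h : V ≃ₗ[F] V} (hh : h ∈ H) (T : Submodule A V) :
    S.act h hh (S.act h⁻¹ (H.inv_mem hh) T) = T := by
  rw [← S.act_mul]
  have : h * h⁻¹ = 1 := mul_inv_cancel h
  ext v
  simp only [S.mem_act, this]
  constructor
  · rintro ⟨w, hw, rfl⟩
    exact hw
  · intro hv
    exact ⟨v, hv, rfl⟩

instance : IsArtinian A V := isArtinian_of_tower F inferInstance
instance : IsNoetherian A V := isNoetherian_of_tower F inferInstance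

theorem Setup.semisimple (S : Setup H A) : IsSemisimpleModule A V := by
  apply IsSemisimpleModule.of_sSup_simples_eq_top
  set T : Submodule A V := sSup {m : Submodule A V | IsSimpleModule A m} with hT
  have hinv : ∀ h ∈ H, (T.restrictScalars F).map (h : V →ₗ[F] V) ≤ T.restrictScalars F := by
    intro h hh
    rw [← mapSub_restrictScalars A h (S.norm h hh) (S.norm' h hh)]
    intro v hv
    rw [Submodule.restrictScalars_mem] at hv ⊢
    revert v
    change mapSub A h (S.norm h hh) (S.norm' h hh) T ≤ T
    unfold mapSub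
    rw [Submodule.map_le_iff_le_comap]
    apply sSup_le
    intro m hm
    rw [← Submodule.map_le_iff_le_comap]
    apply le_sSup
    haveI : IsSimpleModule A m := hm
    exact mapSub_simple A h (S.norm h hh) (S.norm' h hh) m
  rcases S.irr _ hinv with h0 | h1
  · exfalso
    obtain ⟨m, hm⟩ := IsAtomic.exists_atom (Submodule A V)
    have h2 : m ≤ T := le_sSup (isSimpleModule_iff_isAtom.2 hm)
    have h3 : T = ⊥ := by
      rw [← Submodule.restrictScalars_eq_bot_iff (S := F)]
      exact h0
    rw [h3] at h2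
    exact hm.1 (le_bot_iff.1 h2)
  · rw [← Submodule.restrictScalars_eq_top_iff (S := F)]
    exact h1

theorem Setup.transitive (S : Setup H A) {c c' : Submodule A V} (hc : c ∈ isotypicComponents A V)
    (hc' : c' ∈ isotypicComponents A V) : ∃ h, ∃ hh : h ∈ H, S.act h hh c = c' := by
  haveI := S.semisimple
  by_contra hcon
  simp only [not_exists] at hcon
  set O : Set (Submodule A V) := {o | ∃ h, ∃ hh : h ∈ H, S.act h hh c = o} with hO
  set U : Submodule A V := sSup O with hU
  have hOsub : O ⊆ isotypicComponents A V \ {c'} := by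
    rintro o ⟨h, hh, rfl⟩
    exact ⟨S.act_mem hh hc, fun h1 => hcon h hh h1⟩
  have hinv : ∀ h ∈ H, (U.restrictScalars F).map (h : V →ₗ[F] V) ≤ U.restrictScalars F := by
    intro h hh
    rw [← S.act_restrictScalars hh]
    intro v hv
    rw [Submodule.restrictScalars_mem] at hv ⊢
    revert v
    change S.act h hh U ≤ U
    unfold Setup.act mapSub
    rw [Submodule.map_le_iff_le_comap]
    apply sSup_le
    rintro o ⟨g, hg, rfl⟩
    rw [← Submodule.map_le_iff_le_comap]
    apply le_sSup
    exact ⟨h * g, H.mul_mem hh hg, S.act_mul hh hg c⟩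
  have hcU : c ≤ U := le_sSup ⟨1, H.one_mem, S.act_one c⟩
  have hc0 : c ≠ ⊥ := (bot_lt_isotypicComponents hc).ne'
  rcases S.irr _ hinv with h0 | h1
  · apply hc0
    have h3 : U = ⊥ := by
      rw [← Submodule.restrictScalars_eq_bot_iff (S := F)]
      exact h0
    rw [h3] at hcU
    exact le_bot_iff.1 hcU
  · have h3 : U = ⊤ := by
      rw [← Submodule.restrictScalars_eq_top_iff (S := F)]
      exact h1
    have h4 := sSupIndep_isotypicComponents A V hc'
    have h5 : U ≤ sSup (isotypicComponents A V \ {c'}) := sSup_le_sSup hOsub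
    rw [h3, top_le_iff] at h5
    rw [h5, disjoint_top] at h4
    exact (bot_lt_isotypicComponents hc').ne' h4


/-- the outcome: an imprimitivity decomposition with the two invariance clauses, or isotypic -/
theorem Setup.decomp_or_isotypic (S : Setup H A) :
    (∃ (t m : ℕ) (D : Fin t → Submodule F V), 2 ≤ t ∧ 0 < m ∧ (∀ i, finrank F (D i) = m) ∧ iSupIndep D ∧
      iSup D = ⊤ ∧ (∀ h ∈ H, ∃ σ : Equiv.Perm (Fin t), ∀ i, (D i).map (h : V →ₗ[F] V) = D (σ i)) ∧
      (∀ i, ∀ a ∈ A, (D i).map a ≤ D i) ∧
      (∀ c : V ≃ₗ[F] V, (∀ a ∈ A, c.conj a = a) → ∀ i, (D i).map (c : V →ₗ[F] V) ≤ D i)) ∨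
    IsIsotypic A V := by
  haveI := S.semisimple
  set 𝒞 := isotypicComponents A V with h𝒞
  set t := Nat.card 𝒞 with ht
  have e : 𝒞 ≃ Fin t := Finite.equivFin 𝒞
  -- the components
  set C : Fin t → Submodule A V := fun i => (e.symm i : Submodule A V) with hC
  have hCmem : ∀ i, C i ∈ 𝒞 := fun i => (e.symm i).2
  have hCinj : Function.Injective C := fun i j hij => e.symm.injective (Subtype.ext hij)
  have hCsurj : ∀ c ∈ 𝒞, ∃ i, C i = c := by
    intro c hc
    refine ⟨e ⟨c, hc⟩, ?_⟩
    simp [hC]
  set D : Fin t → Submodule F V := fun i => (C i).restrictScalars F with hD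
  -- nonempty
  obtain ⟨S₀, hS₀⟩ := IsAtomic.exists_atom (Submodule A V)
  haveI : IsSimpleModule A S₀ := isSimpleModule_iff_isAtom.2 hS₀
  have hc₀ : isotypicComponent A V S₀ ∈ 𝒞 := ⟨S₀, inferInstance, rfl⟩
  by_cases ht2 : 2 ≤ t
  · left
    obtain ⟨i₀, hi₀⟩ := hCsurj _ hc₀
    -- permutation action
    have hperm : ∀ h ∈ H, ∃ σ : Equiv.Perm (Fin t), ∀ i, (D i).map (h : V →ₗ[F] V) = D (σ i) := by
      intro h hh
      have hf : ∀ i, ∃ j, C j = S.act h hh (C i) := fun i => hCsurj _ (S.act_mem hh (hCmem i))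
      have hg : ∀ i, ∃ j, C j = S.act h⁻¹ (H.inv_mem hh) (C i) :=
        fun i => hCsurj _ (S.act_mem (H.inv_mem hh) (hCmem i))
      choose f hf using hf
      choose g hg using hg
      refine ⟨⟨f, g, ?_, ?_⟩, ?_⟩
      · intro i
        apply hCinj
        rw [hg, hf, S.act_inv_act]
      · intro i
        apply hCinj
        rw [hf, hg, S.act_act_inv]
      · intro i
        change (D i).map (h : V →ₗ[F] V) = D (f i)
        rw [hD]
        simp only
        rw [hf, S.act_restrictScalars]
    have hm : ∀ i, finrank F (D i) = finrank F (D i₀) := by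
      intro i
      obtain ⟨h, hh, h1⟩ := S.transitive (hCmem i₀) (hCmem i)
      have h2 : D i = (D i₀).map (h : V →ₗ[F] V) := by
        rw [hD]
        simp only
        rw [← h1, S.act_restrictScalars]
      rw [h2]
      exact LinearEquiv.finrank_map_eq h (D i₀)
    refine ⟨t, finrank F (D i₀), D, ht2, ?_, hm, ?_, ?_, hperm, ?_, ?_⟩
    · rw [Nat.pos_iff_ne_zero]
      intro h0
      have h1 : D i₀ = ⊥ := Submodule.finrank_eq_zero.1 h0
      have h2 : C i₀ = ⊥ := by
        rw [← Submodule.restrictScalars_eq_bot_iff (S := F)]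
        exact h1
      exact (bot_lt_isotypicComponents (hCmem i₀)).ne' h2
    · -- independence
      have h1 : iSupIndep C := by
        have h2 := (sSupIndep_iff _).1 (sSupIndep_isotypicComponents A V)
        exact h2.comp (f := fun i => e.symm i) e.symm.injective
      intro i
      rw [Submodule.disjoint_def]
      intro x hx hx2
      have h3 := h1 i
      rw [Submodule.disjoint_def] at h3
      apply h3 x hx
      have h4 : (⨆ j, ⨆ (_ : j ≠ i), D j) = (⨆ j, ⨆ (_ : j ≠ i), C j).restrictScalars F := by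
        rw [Submodule.restrictScalars_iSup]
        congr 1
        ext j : 1
        rw [Submodule.restrictScalars_iSup]
      rw [h4] at hx2
      exact hx2
    · have h1 : iSup C = ⊤ := by
        rw [← sSup_isotypicComponents A V, sSup_eq_iSup']
        apply le_antisymm
        · apply iSup_le
          intro i
          exact le_iSup (fun c : 𝒞 => (c : Submodule A V)) (e.symm i)
        · apply iSup_le
          intro c
          obtain ⟨i, hi⟩ := hCsurj c.1 c.2
          rw [← hi]
          exact le_iSup C i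
      change (⨆ i, (C i).restrictScalars F) = ⊤
      rw [← Submodule.restrictScalars_iSup, h1, Submodule.restrictScalars_top]
    · intro i a ha
      rintro _ ⟨v, hv, rfl⟩
      exact (C i).smul_mem ⟨a, ha⟩ hv
    · intro c hc i
      have hlin : ∀ (a : A) (v : V), c (a • v) = a • c v := by
        intro a v
        have h1 := hc a a.2
        have h2 : c.conj (a : Module.End F V) (c v) = (a : Module.End F V) (c v) := by rw [h1]
        rw [LinearEquiv.conj_apply] at h2
        simp only [LinearMap.coe_comp, LinearEquiv.coe_coe, Function.comp_apply,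
          LinearEquiv.symm_apply_apply] at h2
        exact h2
      let c' : Module.End A V :=
        { toFun := c
          map_add' := map_add c
          map_smul' := hlin }
      have h1 := Submodule.IsFullyInvariant.of_mem_isotypicComponents (hCmem i) c'
      rintro _ ⟨v, hv, rfl⟩
      exact h1 hv
  · right
    have ht1 : t = 1 := by
      have : 0 < t := by
        rw [ht]
        haveI : Nonempty 𝒞 := ⟨⟨_, hc₀⟩⟩
        exact Nat.card_pos
      omega
    have h1 : ∀ c ∈ 𝒞, c = isotypicComponent A V S₀ := by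
      intro c hc
      have : Subsingleton 𝒞 := by
        rw [← Finite.card_le_one_iff_subsingleton, ← ht, ht1]
      have := Subsingleton.elim (⟨c, hc⟩ : 𝒞) ⟨_, hc₀⟩
      exact congrArg Subtype.val this
    have h2 : isotypicComponent A V S₀ = ⊤ := by
      rw [← sSup_isotypicComponents A V]
      apply le_antisymm
      · exact le_sSup hc₀
      · apply sSup_le
        intro c hc
        rw [h1 c hc]
    exact (IsIsotypicOfType.of_isotypicComponent_eq_top h2).isIsotypic

end Cfsg.Agent.Lib.Helper98_AschCliffB
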