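import Mathlib

/-!
# Clifford theory for a normalized subalgebra, part 3 (S5630; helper98)

Structure of an isotypic module over a subalgebra of `End_F(V)`, `F` finite: either the centre of the
subalgebra is a field with a non-scalar element, or the subalgebra is `M_d(F) ⊗ 1` in a suitable basis
(Jacobson density + Wedderburn's little theorem).
-/

set_option autoImplicit false
set_option linter.unusedSectionVars false
set_option linter.unusedVariables false
set_option linter.style.haveILetI false
set_option synthInstance.maxHeartbeats 200000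

namespace Cfsg.Agent.Lib.Helper98_AschCliffC

open Module

variable {F : Type*} [Field F] {V : Type*} [AddCommGroup V] [Module F V]
variable [FiniteDimensional F V]
variable {A : Subalgebra F (Module.End F V)}

/-- an invertible element of a finite dimensional subalgebra has its inverse in the subalgebra -/
lemma exists_inv_mem {x : Module.End F V} (hx : x ∈ A) (hinj : Function.Injective x) :
    ∃ y ∈ A, x * y = 1 := by
  -- left multiplication by x on A
  let L : A →ₗ[F] A :=
    { toFun := fun a => ⟨x * a, A.mul_mem hx a.2⟩
      map_add' := fun a b => by apply Subtype.ext; simp [mul_add]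
      map_smul' := fun c a => by apply Subtype.ext; simp }
  have hL : Function.Injective L := by
    intro a b hab
    apply Subtype.ext
    have h1 : x * (a : Module.End F V) = x * b := congrArg Subtype.val hab
    ext v
    apply hinj
    have := congrArg (fun f : Module.End F V => f v) h1
    simpa using this
  have hS : Function.Surjective L := LinearMap.surjective_of_injective hL
  obtain ⟨y, hy⟩ := hS 1
  exact ⟨y, y.2, congrArg Subtype.val hy⟩

variable {s : ℕ} {S : Submodule A V}

/-- `A` acts faithfully on `S` -/
lemma faithful (φ : V ≃ₗ[A] (Fin s → S)) {a : Module.End F V} (ha : a ∈ A) (h0 : ∀ w ∈ S, a w = 0) : a = 0 := by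
  ext v
  apply φ.injective
  have h1 := map_smul φ (⟨a, ha⟩ : A) v
  change φ (a v) = _ at h1
  rw [h1, LinearMap.zero_apply, map_zero]
  ext j
  have h2 := h0 (φ v j) (φ v j).2
  change ((a (φ v j : V)) : V) = 0
  exact h2


/-- a central element of `A` restricted to the `A`-submodule `S`, as an `A`-endomorphism -/
def centralRestrict {x : Module.End F V} (hx : x ∈ A) (hc : ∀ a ∈ A, x * a = a * x) : Module.End A S where
  toFun w := ⟨x w, S.smul_mem ⟨x, hx⟩ w.2⟩
  map_add' u w := by apply Subtype.ext; simp
  map_smul' a w := by
    apply Subtype.ext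
    have h1 := hc a a.2
    have h2 := congrArg (fun f : Module.End F V => f (w : V)) h1
    have h3 : x ((a : Module.End F V) (w : V)) = (a : Module.End F V) (x (w : V)) := by simpa using h2
    exact h3

lemma centralRestrict_apply {x : Module.End F V} (hx : x ∈ A) (hc : ∀ a ∈ A, x * a = a * x) (w : S) :
    ((centralRestrict (S := S) hx hc w : S) : V) = x w := rfl

/-- in the isotypic case a non-zero central element of `A` is invertible in `A`, with central inverse -/
lemma central_inv [IsSimpleModule A S] (φ : V ≃ₗ[A] (Fin s → S)) {x : Module.End F V} (hx : x ∈ A)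
    (hc : ∀ a ∈ A, x * a = a * x) (hx0 : x ≠ 0) :
    ∃ y ∈ A, (∀ a ∈ A, y * a = a * y) ∧ x * y = 1 := by
  have h1 : (centralRestrict (S := S) hx hc : S →ₗ[A] S) ≠ 0 := by
    intro h0
    apply hx0
    apply faithful φ hx
    intro w hw
    have := congrArg (fun f : Module.End A S => ((f ⟨w, hw⟩ : S) : V)) h0
    simpa [centralRestrict_apply] using this
  have h2 := LinearMap.injective_of_ne_zero (R := A) (M := S) (N := S) h1
  have hinj : Function.Injective x := by
    rw [injective_iff_map_eq_zero]
    intro v hv
    apply φ.injective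
    rw [map_zero]
    ext j
    have h3 := map_smul φ (⟨x, hx⟩ : A) v
    change φ (x v) = _ at h3
    rw [hv, map_zero] at h3
    have h4 : ((⟨x, hx⟩ : A) • φ v) j = 0 := by rw [← h3]; rfl
    have h5 : centralRestrict (S := S) hx hc (φ v j) = 0 := by
      apply Subtype.ext
      rw [centralRestrict_apply]
      exact congrArg Subtype.val h4
    have h6 := h2 (h5.trans (map_zero _).symm)
    rw [h6]
    rfl
  obtain ⟨y, hy, hxy⟩ := exists_inv_mem hx hinj
  refine ⟨y, hy, ?_, hxy⟩
  have hyx : y * x = 1 := by
    have h7 : x * (y * x) = x * 1 := by rw [← mul_assoc, hxy, one_mul, mul_one]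
    ext v
    apply hinj
    have := congrArg (fun f : Module.End F V => f v) h7
    simpa using this
  intro a ha
  calc y * a = y * a * (x * y) := by rw [hxy, mul_one]
    _ = y * (a * x) * y := by simp only [mul_assoc]
    _ = y * (x * a) * y := by rw [hc a ha]
    _ = (y * x) * a * y := by simp only [mul_assoc]
    _ = a * y := by rw [hyx, one_mul]


/-- if the centre of `A` consists of scalars then every `A`-endomorphism of `S` is a scalar -/
lemma end_scalar [Finite F] [IsSimpleModule A S] (φ : V ≃ₗ[A] (Fin s → S))
    (hz : ∀ z ∈ A, (∀ a ∈ A, z * a = a * z) → ∃ c : F, z = c • (1 : Module.End F V))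
    (δ : Module.End A S) : ∃ c : F, ∀ w : S, δ w = c • w := by
  classical
  haveI : Finite V := Module.finite_of_finite F
  haveI : Finite (Module.End A S) := Finite.of_injective (fun f => (f : S → S)) DFunLike.coe_injective
  letI : DivisionRing (Module.End A S) := Module.End.instDivisionRing (R := A) (M := S)
  have hcomm : ∀ x y : Module.End A S, x * y = y * x :=
    (Finite.isDomain_to_isField (Module.End A S)).mul_comm
  -- δ is linear over the endomorphism ring
  let δ' : Module.End (Module.End A S) S :=
    { toFun := δ
      map_add' := map_add δ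
      map_smul' := fun ε w => by
        change δ (ε w) = ε (δ w)
        have := congrArg (fun f : Module.End A S => f w) (hcomm δ ε)
        simpa using this }
  obtain ⟨a, ha⟩ := Module.Finite.toModuleEnd_moduleEnd_surjective (R := A) (M := S) δ'
  have ha' : ∀ w : S, a • w = δ w := by
    intro w
    have := congrArg (fun f : Module.End (Module.End A S) S => f w) ha
    exact this
  -- a is central in A
  have hcen : ∀ b ∈ A, (a : Module.End F V) * b = b * a := by
    intro b hb
    have h1 : (a : Module.End F V) * b - b * a = 0 := by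
      apply faithful φ (A.sub_mem (A.mul_mem a.2 hb) (A.mul_mem hb a.2))
      intro w hw
      have h2 : a • ((⟨b, hb⟩ : A) • (⟨w, hw⟩ : S)) = (⟨b, hb⟩ : A) • (a • (⟨w, hw⟩ : S)) := by
        rw [ha', ha', map_smul]
      have h3 := congrArg Subtype.val h2
      change (a : Module.End F V) (b w) = b ((a : Module.End F V) w) at h3
      simp [h3]
    exact sub_eq_zero.1 h1
  obtain ⟨c, hc⟩ := hz a a.2 hcen
  refine ⟨c, fun w => ?_⟩
  rw [← ha']
  apply Subtype.ext
  change (a : Module.End F V) (w : V) = c • (w : V)
  rw [hc]
  simp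


/-- if every `A`-endomorphism of `S` is a scalar then `A` induces every `F`-endomorphism of `S` -/
lemma exists_restrict [Finite F] [IsSimpleModule A S]
    (hsc : ∀ δ : Module.End A S, ∃ c : F, ∀ w : S, δ w = c • w)
    (f : S →ₗ[F] S) : ∃ a : A, ∀ w : S, a • w = f w := by
  classical
  haveI : Finite V := Module.finite_of_finite F
  let f' : Module.End (Module.End A S) S :=
    { toFun := f
      map_add' := map_add f
      map_smul' := fun ε w => by
        obtain ⟨c, hc⟩ := hsc ε
        change f (ε w) = ε (f w)
        rw [hc, hc, map_smul] }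
  obtain ⟨a, ha⟩ := Module.Finite.toModuleEnd_moduleEnd_surjective (R := A) (M := S) f'
  refine ⟨a, fun w => ?_⟩
  have := congrArg (fun g : Module.End (Module.End A S) S => g w) ha
  exact this


open scoped Kronecker

/-- the restriction of an element of `A` to `S` as an `F`-linear map -/
def restr (S : Submodule A V) (a : A) : S →ₗ[F] S where
  toFun w := a • w
  map_add' u w := smul_add a u w
  map_smul' c w := smul_comm a c w

instance finiteS : Module.Finite F S :=
  Module.Finite.of_injective ((S.subtype).restrictScalars F) Subtype.val_injective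

instance freeS : Module.Free F S := Module.Free.of_divisionRing F S

/-- the basis of `V` adapted to `V ≅ S^s` -/
noncomputable def tbasis (φ : V ≃ₗ[A] (Fin s → S)) : Basis (Fin (finrank F S) × Fin s) F V :=
  ((Pi.basis (fun _ : Fin s => Module.finBasis F S)).reindex
    ((Equiv.sigmaEquivProd (Fin s) (Fin (finrank F S))).trans (Equiv.prodComm _ _))).map
      (φ.restrictScalars F).symm

lemma tbasis_apply (φ : V ≃ₗ[A] (Fin s → S)) (i : Fin (finrank F S)) (j : Fin s) :
    tbasis φ (i, j) = φ.symm (Pi.single j (Module.finBasis F S i)) := by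
  unfold tbasis
  rw [Basis.map_apply, Basis.reindex_apply]
  have : ((Equiv.sigmaEquivProd (Fin s) (Fin (finrank F S))).trans (Equiv.prodComm _ _)).symm (i, j)
      = ⟨j, i⟩ := rfl
  rw [this, Pi.basis_apply]
  rfl

lemma smul_tbasis (φ : V ≃ₗ[A] (Fin s → S)) (a : A) (i : Fin (finrank F S)) (j : Fin s) :
    a • tbasis φ (i, j) =
      ∑ k, LinearMap.toMatrix (Module.finBasis F S) (Module.finBasis F S) (restr S a) k i •
        tbasis φ (k, j) := by
  simp only [tbasis_apply]
  rw [← map_smul φ.symm, ← Pi.single_smul]
  have h1 : a • (Module.finBasis F S) i =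
      ∑ k, LinearMap.toMatrix (Module.finBasis F S) (Module.finBasis F S) (restr S a) k i •
        (Module.finBasis F S) k := by
    conv_lhs => rw [← (Module.finBasis F S).sum_repr (a • (Module.finBasis F S) i)]
    apply Finset.sum_congr rfl
    intro k _
    rw [LinearMap.toMatrix_apply]
    rfl
  rw [h1]
  have hF : ∀ (c : F) (x : Fin s → S), φ.symm (c • x) = c • φ.symm x :=
    fun c x => map_smul (φ.symm.restrictScalars F) c x
  have h2 : (Pi.single j (∑ k, LinearMap.toMatrix (Module.finBasis F S) (Module.finBasis F S)
      (restr S a) k i • (Module.finBasis F S) k) : Fin s → S) =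
      ∑ k, LinearMap.toMatrix (Module.finBasis F S) (Module.finBasis F S) (restr S a) k i •
        (Pi.single j ((Module.finBasis F S) k) : Fin s → S) := by
    have h3 : ∀ x : S, (Pi.single j x : Fin s → S) = LinearMap.single F (fun _ : Fin s => S) j x :=
      fun x => rfl
    rw [h3, map_sum]
    apply Finset.sum_congr rfl
    intro k _
    rw [map_smul, h3]
  rw [h2, map_sum]
  apply Finset.sum_congr rfl
  intro k _
  rw [hF]

lemma toMatrix_tbasis (φ : V ≃ₗ[A] (Fin s → S)) (a : A) :
    LinearMap.toMatrix (tbasis φ) (tbasis φ) (a : Module.End F V) =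
      (LinearMap.toMatrix (Module.finBasis F S) (Module.finBasis F S) (restr S a)) ⊗ₖ
        (1 : Matrix (Fin s) (Fin s) F) := by
  ext ⟨k, j'⟩ ⟨i, j⟩
  rw [LinearMap.toMatrix_apply]
  have h1 : (a : Module.End F V) (tbasis φ (i, j)) = a • tbasis φ (i, j) := rfl
  rw [h1, smul_tbasis, map_sum, Finsupp.coe_finsetSum, Finset.sum_apply]
  simp only [map_smul, Basis.repr_self, Finsupp.smul_apply, smul_eq_mul, Matrix.kroneckerMap_apply,
    Matrix.one_apply]
  by_cases hj : j' = j
  · subst hj
    rw [Finset.sum_eq_single k]
    · simp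
    · intro b _ hb
      rw [Finsupp.single_apply, if_neg, mul_zero]
      intro h
      exact hb (Prod.mk.inj h).1
    · simp
  · rw [if_neg hj, mul_zero]
    apply Finset.sum_eq_zero
    intro b _
    rw [Finsupp.single_apply, if_neg, mul_zero]
    intro h
    exact hj (Prod.mk.inj h).2.symm


/-- structure of an isotypic module over a subalgebra of `End_F(V)`, `F` finite -/
theorem isotypic_structure [Finite F] [Nontrivial V] (hss : IsSemisimpleModule A V) (hiso : IsIsotypic A V) :
    ((∃ z ∈ A, (∀ a ∈ A, z * a = a * z) ∧ ∀ c : F, z ≠ c • (1 : Module.End F V)) ∧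
      ∀ x ∈ A, (∀ a ∈ A, x * a = a * x) → x ≠ 0 → ∃ y ∈ A, (∀ a ∈ A, y * a = a * y) ∧ x * y = 1) ∨
    (∃ (d s : ℕ) (b : Basis (Fin d × Fin s) F V), ∀ a : Module.End F V, a ∈ A ↔
      ∃ M : Matrix (Fin d) (Fin d) F,
        LinearMap.toMatrix b b a = M ⊗ₖ (1 : Matrix (Fin s) (Fin s) F)) := by
  haveI : Module.Finite A V := Module.Finite.of_restrictScalars_finite F A V
  obtain ⟨s, _, S, hS, ⟨φ⟩⟩ := hiso.linearEquiv_fun
  by_cases hz : ∃ z ∈ A, (∀ a ∈ A, z * a = a * z) ∧ ∀ c : F, z ≠ c • (1 : Module.End F V)
  · left
    exact ⟨hz, fun x hx hc hx0 => central_inv φ hx hc hx0⟩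
  · right
    have hz' : ∀ z ∈ A, (∀ a ∈ A, z * a = a * z) → ∃ c : F, z = c • (1 : Module.End F V) := by
      intro z hzA hzc
      by_contra hcon
      simp only [not_exists] at hcon
      exact hz ⟨z, hzA, hzc, hcon⟩
    have hsc := end_scalar φ hz'
    refine ⟨finrank F S, s, tbasis φ, fun a => ⟨fun ha => ?_, ?_⟩⟩
    · exact ⟨_, toMatrix_tbasis φ ⟨a, ha⟩⟩
    · rintro ⟨M, hM⟩
      obtain ⟨a', ha'⟩ := exists_restrict hsc
        (Matrix.toLin (Module.finBasis F S) (Module.finBasis F S) M)
      have h1 : restr S a' = Matrix.toLin (Module.finBasis F S) (Module.finBasis F S) M := by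
        ext w
        exact congrArg Subtype.val (ha' w)
      have h2 := toMatrix_tbasis φ a'
      rw [h1, LinearMap.toMatrix_toLin, ← hM] at h2
      have h3 : (a' : Module.End F V) = a := (LinearMap.toMatrix (tbasis φ) (tbasis φ)).injective h2
      rw [← h3]
      exact a'.2

end Cfsg.Agent.Lib.Helper98_AschCliffC
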