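import Mathlib
import Cfsg.Agent.Lib.Helper98_AschDefs
import Cfsg.Agent.Lib.Helper98_AschCliffB
import Cfsg.Agent.Lib.Helper98_AschCliffC

/-!
# Clifford's theorem for a normalized subalgebra of the matrix algebra (S5630; helper98)
-/

set_option autoImplicit false
set_option linter.unusedSectionVars false
set_option linter.unusedVariables false
set_option linter.style.haveILetI false

namespace Cfsg.Agent.Lib.Helper98_AschCliff

open Cfsg Cfsg.Geo Matrix Module Cfsg.Agent.Lib.Helper98_AschDefs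
open Cfsg.Agent.Lib.Helper98_AschCliffB Cfsg.Agent.Lib.Helper98_AschCliffC
open scoped Kronecker

variable {ι : Type} [Fintype ι] [DecidableEq ι] {F : Type*} [Field F]

/-- `GL ι F` as the automorphism group of the space of column vectors -/
noncomputable def glL (ι : Type) [Fintype ι] [DecidableEq ι] (F : Type*) [Field F] :
    GL ι F ≃* ((ι → F) ≃ₗ[F] (ι → F)) :=
  Matrix.GeneralLinearGroup.toLin.trans (LinearMap.GeneralLinearGroup.generalLinearEquiv F (ι → F))

@[simp] lemma glL_apply (g : GL ι F) (v : ι → F) : glL ι F g v = (g : Matrix ι ι F) *ᵥ v := by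
  simp [glL]

lemma glL_coe (g : GL ι F) : ((glL ι F g : (ι → F) ≃ₗ[F] (ι → F)) : (ι → F) →ₗ[F] (ι → F)) =
    Matrix.toLin' (g : Matrix ι ι F) := by
  refine LinearMap.ext fun v => ?_
  rw [Matrix.toLin'_apply, LinearEquiv.coe_coe, glL_apply]

lemma glL_symm_coe (g : GL ι F) :
    (((glL ι F g).symm : (ι → F) ≃ₗ[F] (ι → F)) : (ι → F) →ₗ[F] (ι → F)) =
    Matrix.toLin' ((g⁻¹ : GL ι F) : Matrix ι ι F) := by
  have h : (glL ι F g).symm = glL ι F g⁻¹ := by
    rw [map_inv]; rfl
  rw [h, glL_coe]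

lemma glL_conj (g : GL ι F) (a : Matrix ι ι F) :
    (glL ι F g).conj (Matrix.toLin' a) =
      Matrix.toLin' ((g : Matrix ι ι F) * a * ((g⁻¹ : GL ι F) : Matrix ι ι F)) := by
  rw [LinearEquiv.conj_apply, glL_coe, glL_symm_coe, Matrix.toLin'_mul, Matrix.toLin'_mul]

/-- the image of a matrix subalgebra in the endomorphism algebra -/
noncomputable def algL (A : Subalgebra F (Matrix ι ι F)) : Subalgebra F (Module.End F (ι → F)) :=
  A.map (Matrix.toLinAlgEquiv' : Matrix ι ι F ≃ₐ[F] Module.End F (ι → F)).toAlgHom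

lemma mem_algL {A : Subalgebra F (Matrix ι ι F)} {a : Module.End F (ι → F)} :
    a ∈ algL A ↔ ∃ m ∈ A, Matrix.toLin' m = a := by
  unfold algL
  rw [Subalgebra.mem_map]
  rfl

lemma toLin'_mem_algL {A : Subalgebra F (Matrix ι ι F)} {m : Matrix ι ι F} :
    Matrix.toLin' m ∈ algL A ↔ m ∈ A := by
  rw [mem_algL]
  constructor
  · rintro ⟨m', hm', h⟩
    rwa [← Matrix.toLin'.injective h]
  · intro h
    exact ⟨m, h, rfl⟩

lemma setup [Nonempty ι] (H : Subgroup (GL ι F)) (hirr : ActsIrreducibly (matrixSet H))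
    (A : Subalgebra F (Matrix ι ι F)) (hA : NormalizesAlg H A) :
    Setup (H.map (glL ι F).toMonoidHom) (algL A) := by
  constructor
  · intro W hW
    apply hirr W
    rintro s ⟨g, hg, rfl⟩
    have := hW (glL ι F g) (Subgroup.mem_map_of_mem _ hg)
    rwa [glL_coe] at this
  · rintro h ⟨g, hg, rfl⟩ a ha
    obtain ⟨m, hm, rfl⟩ := mem_algL.1 ha
    change (glL ι F g).conj (Matrix.toLin' m) ∈ algL A
    rw [glL_conj, toLin'_mem_algL]
    exact hA g hg m hm


lemma tl_mul (M N : Matrix ι ι F) :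
    (Matrix.toLin' (M * N) : Module.End F (ι → F)) = Matrix.toLin' M * Matrix.toLin' N :=
  Matrix.toLin'_mul M N

lemma tl_one : (Matrix.toLin' (1 : Matrix ι ι F) : Module.End F (ι → F)) = 1 :=
  Matrix.toLin'_one

/-- change of basis for the matrix of an endomorphism of `ι → F` -/
lemma toMatrix'_eq_conj {κ : Type} [Fintype κ] [DecidableEq κ] (b : Basis κ F (ι → F)) (e : ι ≃ κ)
    (a : Module.End F (ι → F)) :
    LinearMap.toMatrix' a =
      ((Pi.basisFun F ι).toMatrix (b.reindex e.symm)) *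
        Matrix.reindex e.symm e.symm (LinearMap.toMatrix b b a) *
        ((b.reindex e.symm).toMatrix (Pi.basisFun F ι)) := by
  have h1 : Matrix.reindex e.symm e.symm (LinearMap.toMatrix b b a) =
      LinearMap.toMatrix (b.reindex e.symm) (b.reindex e.symm) a := by
    ext i j
    simp [LinearMap.toMatrix_apply]
  rw [h1, basis_toMatrix_mul_linearMap_toMatrix_mul_basis_toMatrix]
  rfl

/-- **Clifford's theorem for a normalized subalgebra.** -/
theorem clifford [Finite F] [Nonempty ι] (H : Subgroup (GL ι F)) (hirr : ActsIrreducibly (matrixSet H))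
    (A : Subalgebra F (Matrix ι ι F)) (hA : NormalizesAlg H A) :
    (∃ (t m : ℕ) (D : Fin t → Submodule F (ι → F)), IsMDecomposition m D ∧ H ≤ decompositionStabilizer D ∧
        (∀ i, ∀ a ∈ A, (D i).map (Matrix.toLin' a) ≤ D i) ∧
        (∀ c : GL ι F, (∀ a ∈ A, (c : Matrix ι ι F) * a = a * c) →
          ∀ i, (D i).map (Matrix.toLin' (c : Matrix ι ι F)) ≤ D i)) ∨
    ((∃ z ∈ A, (∀ a ∈ A, z * a = a * z) ∧ ∀ c : F, z ≠ c • (1 : Matrix ι ι F)) ∧
        ∀ x ∈ A, (∀ a ∈ A, x * a = a * x) → x ≠ 0 → ∃ y ∈ A, (∀ a ∈ A, y * a = a * y) ∧ x * y = 1) ∨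
    (∃ (d s : ℕ) (e : ι ≃ Fin d × Fin s) (P : GL ι F), IsTensorAlg A d s e P) := by
  have hS := setup H hirr A hA
  rcases hS.decomp_or_isotypic with ⟨t, m, D, ht, hm, hfr, hind, hsup, hperm, hinv, hcen⟩ | hiso
  · left
    refine ⟨t, m, D, ⟨ht, hm, hfr, hind, hsup⟩, ?_, ?_, ?_⟩
    · intro g hg
      obtain ⟨σ, hσ⟩ := hperm (glL ι F g) (Subgroup.mem_map_of_mem _ hg)
      refine ⟨σ, fun i => ?_⟩
      rw [← hσ i, glL_coe]
    · intro i a ha
      exact hinv i _ (toLin'_mem_algL.2 ha)
    · intro c hc i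
      have h1 := hcen (glL ι F c) ?_ i
      · rwa [glL_coe] at h1
      · intro a ha
        obtain ⟨m', hm', rfl⟩ := mem_algL.1 ha
        rw [glL_conj, hc m' hm', mul_assoc]
        simp
  · right
    rcases isotypic_structure hS.semisimple hiso with ⟨⟨z, hz, hzc, hzs⟩, hinv⟩ | ⟨d, s, b, hb⟩
    · left
      obtain ⟨z₀, hz₀, rfl⟩ := mem_algL.1 hz
      constructor
      · refine ⟨z₀, hz₀, ?_, ?_⟩
        · intro a ha
          apply Matrix.toLin'.injective
          rw [tl_mul, tl_mul]
          exact hzc _ (toLin'_mem_algL.2 ha)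
        · intro c hc
          apply hzs c
          rw [hc, map_smul, tl_one]
      · intro x hx hxc hx0
        have h1 : ∀ a ∈ algL A, Matrix.toLin' x * a = a * Matrix.toLin' x := by
          intro a ha
          obtain ⟨m', hm', rfl⟩ := mem_algL.1 ha
          rw [← tl_mul, ← tl_mul, hxc m' hm']
        have h2 : Matrix.toLin' x ≠ 0 := by
          intro h0
          apply hx0
          apply Matrix.toLin'.injective
          rw [h0, map_zero]
        obtain ⟨y, hy, hyc, hxy⟩ := hinv _ (toLin'_mem_algL.2 hx) h1 h2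
        obtain ⟨y₀, hy₀, rfl⟩ := mem_algL.1 hy
        refine ⟨y₀, hy₀, ?_, ?_⟩
        · intro a ha
          apply Matrix.toLin'.injective
          rw [tl_mul, tl_mul]
          exact hyc _ (toLin'_mem_algL.2 ha)
        · apply Matrix.toLin'.injective
          rw [tl_mul, hxy, tl_one]
    · right
      set e : ι ≃ Fin d × Fin s := (Pi.basisFun F ι).indexEquiv b with he
      set P₀ : Matrix ι ι F := (Pi.basisFun F ι).toMatrix (b.reindex e.symm) with hP₀
      set Q₀ : Matrix ι ι F := (b.reindex e.symm).toMatrix (Pi.basisFun F ι) with hQ₀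
      have hPQ : P₀ * Q₀ = 1 := Basis.toMatrix_mul_toMatrix_flip _ _
      have hQP : Q₀ * P₀ = 1 := Basis.toMatrix_mul_toMatrix_flip _ _
      let P : GL ι F := ⟨P₀, Q₀, hPQ, hQP⟩
      refine ⟨d, s, e, P, fun a => ?_⟩
      have hconj : ∀ a' : Module.End F (ι → F), LinearMap.toMatrix' a' =
          P₀ * Matrix.reindex e.symm e.symm (LinearMap.toMatrix b b a') * Q₀ :=
        fun a' => toMatrix'_eq_conj b e a'
      constructor
      · intro ha
        obtain ⟨M, hM⟩ := (hb _).1 (toLin'_mem_algL.2 ha)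
        refine ⟨M, ?_⟩
        have := hconj (Matrix.toLin' a)
        rw [LinearMap.toMatrix'_toLin', hM] at this
        exact this
      · rintro ⟨M, hM⟩
        rw [← toLin'_mem_algL, hb]
        refine ⟨M, ?_⟩
        have h1 := hconj (Matrix.toLin' a)
        rw [LinearMap.toMatrix'_toLin'] at h1
        have h2 : P₀ * Matrix.reindex e.symm e.symm (LinearMap.toMatrix b b (Matrix.toLin' a)) * Q₀ =
            P₀ * Matrix.reindex e.symm e.symm (M ⊗ₖ (1 : Matrix (Fin s) (Fin s) F)) * Q₀ := by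
          rw [← h1]
          exact hM
        have hcancel : ∀ X : Matrix ι ι F, Q₀ * (P₀ * X * Q₀) * P₀ = X := by
          intro X
          calc Q₀ * (P₀ * X * Q₀) * P₀ = (Q₀ * P₀) * X * (Q₀ * P₀) := by simp only [mul_assoc]
            _ = X := by rw [hQP, one_mul, mul_one]
        have h3 : Matrix.reindex e.symm e.symm (LinearMap.toMatrix b b (Matrix.toLin' a)) =
            Matrix.reindex e.symm e.symm (M ⊗ₖ (1 : Matrix (Fin s) (Fin s) F)) := by
          rw [← hcancel (Matrix.reindex e.symm e.symm (LinearMap.toMatrix b b (Matrix.toLin' a))), h2,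
            hcancel]
        exact (Matrix.reindex e.symm e.symm).injective h3

end Cfsg.Agent.Lib.Helper98_AschCliff
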