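import Mathlib
import Cfsg.Agent.Lib.Helper98_AschDefs
import Cfsg.Agent.Lib.Helper98_AschCliff
import Cfsg.Agent.Lib.Helper23_FormDefs
import Cfsg.Agent.Lib.Helper60_Asch_PK1

set_option autoImplicit false

namespace Cfsg.Agent.Lib.Helper52_Form_F4

open Cfsg Cfsg.Geo Matrix Cfsg.Agent.Lib.Helper98_AschDefs Cfsg.Agent.Lib.Helper23_FormDefs
open scoped Kronecker

variable {ι : Type} [Fintype ι] [DecidableEq ι] {F : Type*} [Field F]

section sesq
variable {V : Type*} [AddCommGroup V] [Module F V] {σ : F ≃+* F} {B : V → V → F}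

lemma sesq_zero_left (hB : IsSesq σ B) (w : V) : B 0 w = 0 := by
  have := hB.add_left 0 0 w
  simpa using this

lemma sesq_zero_right (hB : IsSesq σ B) (w : V) : B w 0 = 0 := by
  have := hB.add_right w 0 0
  simpa using this

lemma sesq_sum_left {α : Type*} (hB : IsSesq σ B) (s : Finset α) (c : α → F) (v : α → V) (w : V) :
    B (∑ a ∈ s, c a • v a) w = ∑ a ∈ s, c a * B (v a) w := by
  classical
  induction s using Finset.induction_on with
  | empty => simp [sesq_zero_left hB]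
  | insert a s ha ih => rw [Finset.sum_insert ha, Finset.sum_insert ha, hB.add_left, hB.smul_left, ih]

lemma sesq_sum_right {α : Type*} (hB : IsSesq σ B) (s : Finset α) (c : α → F) (v : α → V) (w : V) :
    B w (∑ a ∈ s, c a • v a) = ∑ a ∈ s, σ (c a) * B w (v a) := by
  classical
  induction s using Finset.induction_on with
  | empty => simp [sesq_zero_right hB]
  | insert a s ha ih => rw [Finset.sum_insert ha, Finset.sum_insert ha, hB.add_right, hB.smul_right, ih]

end sesq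

/-- a sesquilinear form on coordinate vectors is the form of its Gram matrix -/
lemma sesq_eq_formOfGram {κ : Type} [Fintype κ] [DecidableEq κ] {σ : F ≃+* F}
    {g : (κ → F) → (κ → F) → F} (hg : IsSesq σ g) (x y : κ → F) :
    g x y = formOfGram σ (Matrix.of fun a b => g (Pi.single a 1) (Pi.single b 1)) x y := by
  have hx : x = ∑ a, x a • Pi.single a (1 : F) := by
    ext i; simp [Finset.sum_apply, Pi.single_apply]
  have hy : y = ∑ a, y a • Pi.single a (1 : F) := by
    ext i; simp [Finset.sum_apply, Pi.single_apply]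
  conv_lhs => rw [hx, hy]
  rw [sesq_sum_left hg]
  simp_rw [sesq_sum_right hg]
  unfold formOfGram
  apply Finset.sum_congr rfl; intro a _
  rw [Finset.mul_sum]; apply Finset.sum_congr rfl; intro b _
  simp only [Matrix.of_apply]
  ring

/-- generic form of F4: a nondegenerate sesquilinear form on `F^(d × s)` for which `M_d(F) ⊗ 1` is
adjoint closed has a Kronecker product Gram matrix -/
theorem gram_kron (d s : ℕ) (hd : 0 < d) (hs : 0 < s) (σ : F ≃+* F)
    (g : (Fin d × Fin s → F) → (Fin d × Fin s → F) → F) (hg : IsSesq σ g)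
    (hnd : ∀ v, v ≠ 0 → ∃ x, g x v ≠ 0)
    (hadj : ∀ M : Matrix (Fin d) (Fin d) F, ∃ M' : Matrix (Fin d) (Fin d) F, ∀ x y,
      g ((M ⊗ₖ (1 : Matrix (Fin s) (Fin s) F)) *ᵥ x) y =
        g x ((M' ⊗ₖ (1 : Matrix (Fin s) (Fin s) F)) *ᵥ y)) :
    ∃ (G₁ : Matrix (Fin d) (Fin d) F) (G₂ : Matrix (Fin s) (Fin s) F), IsUnit G₁.det ∧ IsUnit G₂.det ∧
      ∀ x y, g x y = formOfGram σ (G₁ ⊗ₖ G₂) x y := by
  classical
  set G : Matrix (Fin d × Fin s) (Fin d × Fin s) F :=
    Matrix.of fun a b => g (Pi.single a 1) (Pi.single b 1) with hG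
  have hgG : ∀ x y, g x y = formOfGram σ G x y := fun x y => sesq_eq_formOfGram hg x y
  -- formOfGram in matrix form
  have hform : ∀ x y : Fin d × Fin s → F, formOfGram σ G x y = x ⬝ᵥ (G *ᵥ (fun b => σ (y b))) := by
    intro x y
    unfold formOfGram
    simp only [dotProduct, Matrix.mulVec, Finset.mul_sum, mul_assoc]
  -- G is invertible
  have hGinj : Function.Injective G.mulVec := by
    suffices hker : ∀ w, G *ᵥ w = 0 → w = 0 by
      intro w1 w2 h
      have := hker (w1 - w2) (by rw [Matrix.mulVec_sub]; exact sub_eq_zero.2 h)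
      exact sub_eq_zero.1 this
    intro w hw
    by_contra hw0
    have hv0 : (fun b => σ.symm (w b)) ≠ 0 := by
      intro h
      apply hw0
      ext b
      have := congrFun h b
      simpa using this
    obtain ⟨x, hx⟩ := hnd _ hv0
    apply hx
    rw [hgG, hform]
    have : (fun b => σ (σ.symm (w b))) = w := by ext b; simp
    rw [this, hw]
    simp
  have hGunit : IsUnit G := Matrix.mulVec_injective_iff_isUnit.1 hGinj
  obtain ⟨Gu, hGu⟩ := hGunit
  -- the matrix relation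
  have hrel : ∀ N : Matrix (Fin d) (Fin d) F, ∃ N' : Matrix (Fin d) (Fin d) F,
      (N ⊗ₖ (1 : Matrix (Fin s) (Fin s) F)) * G = G * (N' ⊗ₖ (1 : Matrix (Fin s) (Fin s) F)) := by
    intro N
    obtain ⟨M', hM'⟩ := hadj Nᵀ
    refine ⟨M'.map σ, ?_⟩
    ext a b
    have h := hM' (Pi.single a 1) (Pi.single b 1)
    rw [hgG, hgG, hform, hform] at h
    have h1 : (fun b' => σ ((Pi.single b (1 : F) : Fin d × Fin s → F) b')) = Pi.single b 1 := by
      ext b'
      by_cases hb : b' = b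
      · subst hb; simp
      · simp [hb]
    rw [h1] at h
    have h2 : (fun b' => σ (((M' ⊗ₖ (1 : Matrix (Fin s) (Fin s) F)) *ᵥ Pi.single b 1) b')) =
        ((M'.map σ) ⊗ₖ (1 : Matrix (Fin s) (Fin s) F)) *ᵥ Pi.single b 1 := by
      ext b'
      simp only [Matrix.mulVec_single_one, Matrix.col_apply, Matrix.kroneckerMap_apply, Matrix.map_apply,
        Matrix.one_apply]
      split_ifs <;> simp
    rw [h2] at h
    simp only [Matrix.mulVec_single_one] at h
    have h3 : ((N ⊗ₖ (1 : Matrix (Fin s) (Fin s) F)) * G) a b =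
        (((Nᵀ ⊗ₖ (1 : Matrix (Fin s) (Fin s) F))).col a) ⬝ᵥ (G.col b) := by
      simp only [Matrix.mul_apply, dotProduct, Matrix.col_apply, Matrix.kroneckerMap_apply,
        Matrix.transpose_apply, Matrix.one_apply]
      apply Finset.sum_congr rfl
      intro c _
      congr 2
      simp [eq_comm]
    rw [h3, h, single_one_dotProduct]
    simp [Matrix.mul_apply, dotProduct, Matrix.mulVec, Matrix.col_apply]
  -- apply PK1 to the inverse of `G`
  have hGuinv : ((Gu⁻¹ : (Matrix (Fin d × Fin s) (Fin d × Fin s) F)ˣ) :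
      Matrix (Fin d × Fin s) (Fin d × Fin s) F) * G = 1 := by
    rw [← hGu]; exact Units.inv_mul Gu
  have hGuinv' : G * ((Gu⁻¹ : (Matrix (Fin d × Fin s) (Fin d × Fin s) F)ˣ) :
      Matrix (Fin d × Fin s) (Fin d × Fin s) F) = 1 := by
    rw [← hGu]; exact Units.mul_inv Gu
  obtain ⟨a, c, hac⟩ := Cfsg.Agent.Lib.Helper60_Asch_PK1.PK1 d s hd hs (Gu⁻¹ : GL (Fin d × Fin s) F) (by
    intro N
    obtain ⟨N', hN'⟩ := hrel N
    refine ⟨N', ?_⟩
    rw [inv_inv, hGu, Matrix.mul_assoc, hN', ← Matrix.mul_assoc, hGuinv, Matrix.one_mul])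
  have hGeq : G = ((a⁻¹ : GL (Fin d) F) : Matrix (Fin d) (Fin d) F) ⊗ₖ
      ((c⁻¹ : GL (Fin s) F) : Matrix (Fin s) (Fin s) F) := by
    have h1 : (((a⁻¹ : GL (Fin d) F) : Matrix (Fin d) (Fin d) F) ⊗ₖ
        ((c⁻¹ : GL (Fin s) F) : Matrix (Fin s) (Fin s) F)) *
        ((a : Matrix (Fin d) (Fin d) F) ⊗ₖ (c : Matrix (Fin s) (Fin s) F)) = 1 := by
      rw [← Matrix.mul_kronecker_mul]
      simp
    calc G = (((a⁻¹ : GL (Fin d) F) : Matrix (Fin d) (Fin d) F) ⊗ₖ
        ((c⁻¹ : GL (Fin s) F) : Matrix (Fin s) (Fin s) F)) *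
        ((a : Matrix (Fin d) (Fin d) F) ⊗ₖ (c : Matrix (Fin s) (Fin s) F)) * G := by
          rw [h1, Matrix.one_mul]
      _ = _ := by rw [Matrix.mul_assoc, ← hac, hGuinv, Matrix.mul_one]
  refine ⟨((a⁻¹ : GL (Fin d) F) : Matrix (Fin d) (Fin d) F),
    ((c⁻¹ : GL (Fin s) F) : Matrix (Fin s) (Fin s) F), ?_, ?_, ?_⟩
  · exact (Matrix.isUnit_iff_isUnit_det _).1 (a⁻¹).isUnit
  · exact (Matrix.isUnit_iff_isUnit_det _).1 (c⁻¹).isUnit
  · intro x y
    rw [hgG, hGeq]

/-- F4: an adjoint-closed tensor algebra `M_d(F) ⊗ 1`: the Gram matrix of the form in the tensor basis is a Kronecker product -/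
theorem F4 (σ : F ≃+* F) (f : (ι → F) → (ι → F) → F) (hf : IsSesq σ f)
    (hnd : IsNondegenerateForm f) (A : Subalgebra F (Matrix ι ι F)) (hadj : IsAdjointClosedFor f A)
    (d s : ℕ) (e : ι ≃ Fin d × Fin s) (P : GL ι F) (hT : IsTensorAlg A d s e P) :
    ∃ (G₁ : Matrix (Fin d) (Fin d) F) (G₂ : Matrix (Fin s) (Fin s) F), IsUnit G₁.det ∧ IsUnit G₂.det ∧
      ∀ x y : Fin d × Fin s → F,
        f ((P : Matrix ι ι F) *ᵥ (x ∘ e)) ((P : Matrix ι ι F) *ᵥ (y ∘ e)) = formOfGram σ (G₁ ⊗ₖ G₂) x y := by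
  classical
  by_cases hds : 0 < d ∧ 0 < s
  · obtain ⟨hd, hs⟩ := hds
    set L : (Fin d × Fin s → F) → (ι → F) := fun x => (P : Matrix ι ι F) *ᵥ (x ∘ e) with hL
    have hLadd : ∀ x y, L (x + y) = L x + L y := by
      intro x y
      simp only [hL]
      rw [← Matrix.mulVec_add]
      rfl
    have hLsmul : ∀ (c : F) x, L (c • x) = c • L x := by
      intro c x
      simp only [hL]
      rw [← Matrix.mulVec_smul]
      rfl
    have hPinvP : ((P⁻¹ : GL ι F) : Matrix ι ι F) * (P : Matrix ι ι F) = 1 := by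
      rw [← Units.val_mul, inv_mul_cancel]; rfl
    have hPPinv : (P : Matrix ι ι F) * ((P⁻¹ : GL ι F) : Matrix ι ι F) = 1 := by
      rw [← Units.val_mul, mul_inv_cancel]; rfl
    have hLsurj : ∀ u : ι → F, L ((((P⁻¹ : GL ι F) : Matrix ι ι F) *ᵥ u) ∘ e.symm) = u := by
      intro u
      simp only [hL]
      have : ((((P⁻¹ : GL ι F) : Matrix ι ι F) *ᵥ u) ∘ e.symm) ∘ e = ((P⁻¹ : GL ι F) : Matrix ι ι F) *ᵥ u := by
        ext i; simp
      rw [this, Matrix.mulVec_mulVec, hPPinv, Matrix.one_mulVec]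
    have hLinj : ∀ x, L x = 0 → x = 0 := by
      intro x hx
      have h1 : ((P⁻¹ : GL ι F) : Matrix ι ι F) *ᵥ L x = x ∘ e := by
        simp only [hL]
        rw [Matrix.mulVec_mulVec, hPinvP, Matrix.one_mulVec]
      rw [hx, Matrix.mulVec_zero] at h1
      ext k
      have := congrFun h1 (e.symm k)
      simpa using this.symm
    set g : (Fin d × Fin s → F) → (Fin d × Fin s → F) → F := fun x y => f (L x) (L y) with hgdef
    have hg : IsSesq σ g := by
      refine ⟨?_, ?_, ?_, ?_⟩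
      · intro x y v; simp only [hgdef]; rw [hLadd, hf.add_left]
      · intro c x v; simp only [hgdef]; rw [hLsmul, hf.smul_left]
      · intro v x y; simp only [hgdef]; rw [hLadd, hf.add_right]
      · intro c v x; simp only [hgdef]; rw [hLsmul, hf.smul_right]
    have hgnd : ∀ v, v ≠ 0 → ∃ x, g x v ≠ 0 := by
      intro v hv
      have hLv : L v ≠ 0 := fun h => hv (hLinj v h)
      obtain ⟨u, hu⟩ := (hnd (L v) hLv).1
      refine ⟨(((P⁻¹ : GL ι F) : Matrix ι ι F) *ᵥ u) ∘ e.symm, ?_⟩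
      simp only [hgdef]
      rwa [hLsurj]
    have hkey : ∀ (X : Matrix (Fin d × Fin s) (Fin d × Fin s) F) (x : Fin d × Fin s → F),
        ((P : Matrix ι ι F) * Matrix.reindex e.symm e.symm X * ((P⁻¹ : GL ι F) : Matrix ι ι F)) *ᵥ L x =
          L (X *ᵥ x) := by
      intro X x
      simp only [hL]
      rw [Matrix.mulVec_mulVec, Matrix.mul_assoc, Matrix.mul_assoc, hPinvP, Matrix.mul_one,
        ← Matrix.mulVec_mulVec]
      congr 1
      ext i
      simp only [Matrix.reindex_apply, Equiv.symm_symm, Matrix.mulVec, dotProduct, Matrix.submatrix_apply,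
        Function.comp_apply]
      exact Equiv.sum_comp e (fun k => X (e i) k * x k)
    have hgadj : ∀ M : Matrix (Fin d) (Fin d) F, ∃ M' : Matrix (Fin d) (Fin d) F, ∀ x y,
        g ((M ⊗ₖ (1 : Matrix (Fin s) (Fin s) F)) *ᵥ x) y =
          g x ((M' ⊗ₖ (1 : Matrix (Fin s) (Fin s) F)) *ᵥ y) := by
      intro M
      have hmem : (P : Matrix ι ι F) * Matrix.reindex e.symm e.symm (M ⊗ₖ (1 : Matrix (Fin s) (Fin s) F)) *
          ((P⁻¹ : GL ι F) : Matrix ι ι F) ∈ A := (hT _).2 ⟨M, rfl⟩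
      obtain ⟨k', hk'A, hk'⟩ := hadj _ hmem
      obtain ⟨M', rfl⟩ := (hT k').1 hk'A
      refine ⟨M', fun x y => ?_⟩
      simp only [hgdef]
      rw [← hkey, hk', hkey]
    exact gram_kron d s hd hs σ g hg hgnd hgadj
  · have hempty : IsEmpty (Fin d × Fin s) := by
      rcases Nat.eq_zero_or_pos d with h | h
      · subst h; exact ⟨fun x => Fin.elim0 x.1⟩
      · rcases Nat.eq_zero_or_pos s with h' | h'
        · subst h'; exact ⟨fun x => Fin.elim0 x.2⟩
        · exact absurd ⟨h, h'⟩ hds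
    have hι : IsEmpty ι := ⟨fun i => hempty.false (e i)⟩
    refine ⟨1, 1, by simp, by simp, fun x y => ?_⟩
    have h0 : ∀ u : ι → F, u = 0 := fun u => Subsingleton.elim _ _
    rw [h0 ((P : Matrix ι ι F) *ᵥ (x ∘ e)), sesq_zero_left hf]
    unfold formOfGram
    simp

end Cfsg.Agent.Lib.Helper52_Form_F4
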