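import Mathlib
import Cfsg.Agent.Lib.Helper98_AschDefs
import Cfsg.Agent.Lib.Helper23_FormDefs

set_option autoImplicit false

/-!
Package SP2 of S5662 (architect helper23): a subgroup of `Sp_{2m}(F)` permuting a pair of
complementary totally singular subspaces lies in a member of class 2 (`|F|` odd) or of class 8
(`|F|` even: the quadratic form `Q v = f (pr₀ v) (pr₁ v)`).
-/

open Cfsg Cfsg.Geo Matrix Cfsg.Agent.Lib.Helper98_AschDefs Cfsg.Agent.Lib.Helper23_FormDefs

namespace Cfsg.Agent.Lib.Helper82_AschSp_SP2

section general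

variable {ι : Type} [Fintype ι] [DecidableEq ι] {F : Type*} [Field F]

/-- the two members of a 2-decomposition are complementary -/
theorem isCompl_of_decomp {k : ℕ} {D : Fin 2 → Submodule F (ι → F)} (hD : IsMDecomposition k D) :
    IsCompl (D 0) (D 1) := by
  refine ⟨hD.indep.pairwiseDisjoint (by decide), ?_⟩
  rw [codisjoint_iff, eq_top_iff, ← hD.iSup_eq_top]
  apply iSup_le
  intro i
  fin_cases i
  · exact le_sup_left
  · exact le_sup_right

/-- the common dimension of the members of a 2-decomposition -/
theorem two_mul_eq_card {k : ℕ} {D : Fin 2 → Submodule F (ι → F)} (hD : IsMDecomposition k D) :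
    2 * k = Fintype.card ι := by
  have hc := isCompl_of_decomp hD
  have h1 := Submodule.finrank_sup_add_finrank_inf_eq (D 0) (D 1)
  rw [hc.sup_eq_top, hc.inf_eq_bot, finrank_bot, finrank_top, Module.finrank_fintype_fun_eq_card,
    hD.finrank_eq, hD.finrank_eq] at h1
  omega

/-- in a finite field of even order `2 = 0` -/
theorem two_eq_zero_of_not_odd [Fintype F] (h : ¬ Odd (Fintype.card F)) : (2 : F) = 0 := by
  have h1 : Fintype.card F % 2 = 0 := by
    rcases Nat.even_or_odd (Fintype.card F) with he | ho
    · exact Nat.even_iff.1 he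
    · exact absurd ho h
  have h2 : ringChar F = 2 := FiniteField.even_card_iff_char_two.2 h1
  have : CharP F 2 := ringChar.of_eq h2
  exact CharTwo.two_eq_zero

theorem neg_eq_self_of_not_odd [Fintype F] (h : ¬ Odd (Fintype.card F)) (x : F) : -x = x := by
  have h2 := two_eq_zero_of_not_odd h
  have : x + x = 0 := by rw [← two_mul, h2, zero_mul]
  exact neg_eq_of_add_eq_zero_left this

end general

section symp

variable {F : Type*} [Field F] [Fintype F]

/-- SP2: a pair of complementary totally singular subspaces permuted by `H` -/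
theorem SP2 (m : ℕ) (H : Subgroup (GL (Fin m ⊕ Fin m) F)) (hH : H ≤ spGL m F)
    (k : ℕ) (D : Fin 2 → Submodule F (Fin m ⊕ Fin m → F)) (hD : IsMDecomposition k D)
    (hts : ∀ i, IsTotallySingularFor (sympForm m F) (D i)) (hle : H ≤ decompositionStabilizer D) :
    InSpClass m H := by
  classical
  have hkm : k = m := by
    have := two_mul_eq_card hD
    rw [Fintype.card_sum, Fintype.card_fin] at this
    omega
  subst hkm
  have hsf := isSymplecticForm_sympForm (F := F) k
  by_cases hodd : Odd (Fintype.card F)
  · -- class 2, second type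
    refine ⟨decompositionStabilizer D ⊓ spGL k F, ?_, le_inf hle hH⟩
    left
    right; right; right; left
    exact ⟨D, hodd, hD, hts, rfl⟩
  · -- class 8
    have hneg := neg_eq_self_of_not_odd hodd
    have hc := isCompl_of_decomp hD
    set f := sympForm k F with hf
    let p0 : (Fin k ⊕ Fin k → F) →ₗ[F] (Fin k ⊕ Fin k → F) := (D 0).projection (D 1) hc
    let p1 : (Fin k ⊕ Fin k → F) →ₗ[F] (Fin k ⊕ Fin k → F) := (D 1).projection (D 0) hc.symm
    have hp0 : ∀ v, p0 v ∈ D 0 := fun v => Submodule.projection_apply_mem hc v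
    have hp1 : ∀ v, p1 v ∈ D 1 := fun v => Submodule.projection_apply_mem hc.symm v
    have hsum : ∀ v, p0 v + p1 v = v := fun v => Submodule.projection_add_projection_eq_self hc v
    -- uniqueness of the decomposition
    have huniq : ∀ (a b v : Fin k ⊕ Fin k → F), a ∈ D 0 → b ∈ D 1 → a + b = v →
        p0 v = a ∧ p1 v = b := by
      intro a b v ha hb hab
      subst hab
      constructor
      · show (D 0).projection (D 1) hc (a + b) = a
        rw [map_add, Submodule.projection_apply_of_mem_right hc hb, add_zero,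
          Submodule.projection_apply_of_mem_left hc ha]
      · show (D 1).projection (D 0) hc.symm (a + b) = b
        rw [map_add, Submodule.projection_apply_of_mem_right hc.symm ha, zero_add,
          Submodule.projection_apply_of_mem_left hc.symm hb]
    let Q : (Fin k ⊕ Fin k → F) → F := fun v => f (p0 v) (p1 v)
    have hQ : ∀ v, Q v = f (p0 v) (p1 v) := fun v => rfl
    have hbil := hsf.bilinear
    -- the polar form of `Q` is `f`
    have hpolar : ∀ u v, QuadraticMap.polar Q u v = f u v := by
      intro u v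
      unfold QuadraticMap.polar
      rw [hQ, hQ, hQ, map_add, map_add, hbil.add_left, hbil.add_right, hbil.add_right]
      have h1 : f u v = f (p0 u + p1 u) (p0 v + p1 v) := by rw [hsum, hsum]
      rw [h1, hbil.add_left, hbil.add_right, hbil.add_right, hts 0 _ (hp0 u) _ (hp0 v),
        hts 1 _ (hp1 u) _ (hp1 v), hsf.skew (p1 u) (p0 v), hneg]
      ring
    have hpolar' : QuadraticMap.polar Q = f := by
      funext u v
      exact hpolar u v
    have hQnd : IsNondegenerateQuadraticForm Q := by
      refine ⟨?_, ?_, ?_⟩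
      · intro c v
        rw [hQ, hQ, map_smul, map_smul, hbil.smul_left, hbil.smul_right]
        ring
      · rw [hpolar']
        exact hbil
      · rw [hpolar']
        exact hsf.nondegenerate
    refine ⟨quadSimilarityGroup Q ⊓ spGL k F, ?_, le_inf ?_ hH⟩
    · left
      right; right; right; right; right; right
      exact ⟨Q, hodd, hQnd, hpolar, rfl⟩
    · intro h hh
      refine ⟨1, fun v => ?_⟩
      rw [Units.val_one, one_mul]
      obtain ⟨σ, hσ⟩ := hle hh
      have hiso : ∀ u v, f ((h : Matrix (Fin k ⊕ Fin k) (Fin k ⊕ Fin k) F) *ᵥ u)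
          ((h : Matrix (Fin k ⊕ Fin k) (Fin k ⊕ Fin k) F) *ᵥ v) = f u v :=
        (mem_spGL_iff h).1 (hH hh)
      have hmem : ∀ i, ∀ x ∈ D i, (h : Matrix (Fin k ⊕ Fin k) (Fin k ⊕ Fin k) F) *ᵥ x ∈ D (σ i) := by
        intro i x hx
        rw [← hσ i]
        exact ⟨x, hx, by rw [Matrix.toLin'_apply]⟩
      have hdecomp : (h : Matrix (Fin k ⊕ Fin k) (Fin k ⊕ Fin k) F) *ᵥ v =
          (h : Matrix (Fin k ⊕ Fin k) (Fin k ⊕ Fin k) F) *ᵥ p0 v +
            (h : Matrix (Fin k ⊕ Fin k) (Fin k ⊕ Fin k) F) *ᵥ p1 v := by
        rw [← Matrix.mulVec_add, hsum]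
      by_cases hσ0 : σ 0 = 0
      · have hσ1 : σ 1 = 1 := by
          have h1 : σ 1 ≠ 0 := by
            intro h1
            have := σ.injective (h1.trans hσ0.symm)
            exact absurd this (by decide)
          have := Fin.exists_fin_two.1 ⟨σ 1, rfl⟩
          omega
        have ha := hmem 0 _ (hp0 v)
        have hb := hmem 1 _ (hp1 v)
        rw [hσ0] at ha
        rw [hσ1] at hb
        obtain ⟨e0, e1⟩ := huniq _ _ _ ha hb hdecomp.symm
        rw [hQ, hQ, e0, e1, hiso]
      · have hσ0' : σ 0 = 1 := by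
          have := Fin.exists_fin_two.1 ⟨σ 0, rfl⟩
          omega
        have hσ1 : σ 1 = 0 := by
          have h1 : σ 1 ≠ 1 := by
            intro h1
            have := σ.injective (h1.trans hσ0'.symm)
            exact absurd this (by decide)
          have := Fin.exists_fin_two.1 ⟨σ 1, rfl⟩
          omega
        have ha := hmem 0 _ (hp0 v)
        have hb := hmem 1 _ (hp1 v)
        rw [hσ0'] at ha
        rw [hσ1] at hb
        have hdecomp' : (h : Matrix (Fin k ⊕ Fin k) (Fin k ⊕ Fin k) F) *ᵥ p1 v +
            (h : Matrix (Fin k ⊕ Fin k) (Fin k ⊕ Fin k) F) *ᵥ p0 v =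
            (h : Matrix (Fin k ⊕ Fin k) (Fin k ⊕ Fin k) F) *ᵥ v := by
          rw [hdecomp, add_comm]
        obtain ⟨e0, e1⟩ := huniq _ _ _ hb ha hdecomp'
        rw [hQ, hQ, e0, e1, hiso, hsf.skew, hneg]

end symp

end Cfsg.Agent.Lib.Helper82_AschSp_SP2
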