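import Mathlib
import Cfsg.Agent.Lib.Helper98_AschDefs
import Cfsg.Agent.Lib.Helper23_FormDefs
import Cfsg.Agent.Lib.Helper82_AschSp_SP2

set_option autoImplicit false

/-!
Package SP4b of S5662 (architect helper23): a skew-adjoint matrix `J` with `J * J = c • 1`, `c ≠ 0`,
normalized up to sign by `H ≤ Sp_{2m}(F)`, `|F|` odd: `H` lies in a member of class 2 (second type;
`c` a square: the two eigenspaces of `J`) or of class 3 (second type; `c` a non-square: the field
`F + F J`).
-/

open Cfsg Cfsg.Geo Matrix Cfsg.Agent.Lib.Helper98_AschDefs Cfsg.Agent.Lib.Helper23_FormDefs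

namespace Cfsg.Agent.Lib.Helper82_AschSp_SP4b

section general

variable {F : Type*} [Field F]

theorem two_ne_zero_of_odd_card [Fintype F] (hodd : Odd (Fintype.card F)) : (2 : F) ≠ 0 := by
  intro h2
  have h0 : ((2 : ℕ) : F) = 0 := by exact_mod_cast h2
  have hc : CharP F 2 := by
    have hr : ringChar F ∣ 2 := (ringChar.spec F 2).1 h0
    have hr2 : ringChar F = 2 := by
      rcases (Nat.dvd_prime Nat.prime_two).1 hr with h1 | h1
      · exact absurd h1 (CharP.ringChar_ne_one)
      · exact h1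
    exact ringChar.of_eq hr2
  have := FiniteField.even_card_of_char_two (F := F) (ringChar.eq F 2)
  rw [Nat.odd_iff] at hodd
  omega

variable {ι : Type} [Fintype ι] [DecidableEq ι]

/-- the eigenspace of a matrix -/
noncomputable def eig (J : Matrix ι ι F) (ν : F) : Submodule F (ι → F) :=
  LinearMap.ker (Matrix.toLin' (J - ν • (1 : Matrix ι ι F)))

theorem mem_eig (J : Matrix ι ι F) (ν : F) (v : ι → F) : v ∈ eig J ν ↔ J *ᵥ v = ν • v := by
  unfold eig
  rw [LinearMap.mem_ker, Matrix.toLin'_apply, Matrix.sub_mulVec, Matrix.smul_mulVec,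
    Matrix.one_mulVec, sub_eq_zero]

theorem disjoint_eig (h2 : (2 : F) ≠ 0) (J : Matrix ι ι F) (μ : F) (hμ : μ ≠ 0) :
    Disjoint (eig J μ) (eig J (-μ)) := by
  rw [Submodule.disjoint_def]
  intro v h1 h2'
  rw [mem_eig] at h1 h2'
  have h3 : (2 * μ) • v = 0 := by
    have : μ • v = (-μ) • v := h1.symm.trans h2'
    rw [neg_smul] at this
    rw [two_mul, add_smul]
    nth_rewrite 1 [this]
    exact neg_add_cancel _
  exact (smul_eq_zero.1 h3).resolve_left (mul_ne_zero h2 hμ)

theorem sup_eig (h2 : (2 : F) ≠ 0) (J : Matrix ι ι F) (μ : F) (hμ : μ ≠ 0)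
    (hJ2 : J * J = (μ * μ) • (1 : Matrix ι ι F)) : eig J μ ⊔ eig J (-μ) = ⊤ := by
  rw [eq_top_iff]
  intro v _
  have hJJ : J *ᵥ (J *ᵥ v) = (μ * μ) • v := by
    rw [Matrix.mulVec_mulVec, hJ2, Matrix.smul_mulVec, Matrix.one_mulVec]
  have hne : 2 * μ ≠ 0 := mul_ne_zero h2 hμ
  have h1 : v = (2 * μ)⁻¹ • (J *ᵥ v + μ • v) + (2 * μ)⁻¹ • (μ • v - J *ᵥ v) := by
    rw [← smul_add]
    have : J *ᵥ v + μ • v + (μ • v - J *ᵥ v) = (2 * μ) • v := by
      rw [two_mul, add_smul]
      abel
    rw [this, smul_smul, inv_mul_cancel₀ hne, one_smul]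
  rw [h1]
  apply Submodule.add_mem_sup
  · apply Submodule.smul_mem
    rw [mem_eig, Matrix.mulVec_add, Matrix.mulVec_smul, hJJ, smul_add, smul_smul]
    exact add_comm _ _
  · apply Submodule.smul_mem
    rw [mem_eig, Matrix.mulVec_sub, Matrix.mulVec_smul, hJJ, smul_sub, smul_smul, neg_smul,
      neg_mul, neg_smul]
    abel

end general

section symp

variable {F : Type*} [Field F] [Fintype F]

/-- totally singular subspaces of the standard symplectic space have dimension at most `m` -/
theorem ts_finrank_le (m : ℕ) (W : Submodule F (Fin m ⊕ Fin m → F))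
    (hW : IsTotallySingularFor (sympForm m F) W) : Module.finrank F W ≤ m := by
  classical
  set B : LinearMap.BilinForm F (Fin m ⊕ Fin m → F) := Matrix.toBilin' (Matrix.J (Fin m) F) with hB
  have hBapply : ∀ u v, B u v = sympForm m F u v := by
    intro u v
    rw [hB, Matrix.toBilin'_apply']
    rfl
  have hnd : B.Nondegenerate :=
    LinearMap.BilinForm.nondegenerate_toBilin'_of_det_ne_zero' _ (Matrix.isUnit_det_J (Fin m) F).ne_zero
  have hle : W ≤ B.orthogonal W := by
    intro v hv
    rw [LinearMap.BilinForm.mem_orthogonal_iff]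
    intro n hn
    show B n v = 0
    rw [hBapply]
    exact hW n hn v hv
  have h1 := Submodule.finrank_mono hle
  rw [LinearMap.BilinForm.finrank_orthogonal hnd, Module.finrank_fintype_fun_eq_card,
    Fintype.card_sum, Fintype.card_fin] at h1
  have h2 : Module.finrank F W ≤ m + m := by
    have := Submodule.finrank_le W
    rwa [Module.finrank_fintype_fun_eq_card, Fintype.card_sum, Fintype.card_fin] at this
  omega

/-- the degenerate case `m = 0` -/
theorem inSpClass_zero (hodd : Odd (Fintype.card F)) (H : Subgroup (GL (Fin 0 ⊕ Fin 0) F)) :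
    InSpClass 0 H := by
  classical
  have : IsEmpty (Fin 3 → Fin 0) := ⟨fun a => (a 0).elim0⟩
  let e : (Fin 0 ⊕ Fin 0) ≃ (Fin 3 → Fin 0) := Equiv.equivOfIsEmpty _ _
  let f₁ : (Fin 0 → F) → (Fin 0 → F) → F := fun _ _ => 0
  have hf₁ : IsSymplecticForm f₁ := by
    refine ⟨⟨?_, ?_, ?_, ?_⟩, ?_, ?_, ?_⟩
    · intro x y v; simp [f₁]
    · intro c x v; simp [f₁]
    · intro v x y; simp [f₁]
    · intro c v x; simp [f₁]
    · intro v w; simp [f₁]
    · intro v; rfl
    · intro v hv
      exact absurd (Subsingleton.elim v 0) hv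
  refine ⟨tensorWreathSubgroup 0 3 e 1 ⊓ spGL 0 F, ?_, ?_⟩
  · right; right; right; right
    refine ⟨0, 3, e, 1, f₁, hodd, by decide, le_refl 3, ?_, hf₁, ?_, rfl⟩
    · rintro ⟨_, h⟩
      exact absurd h (by decide)
    · refine ⟨1, one_ne_zero, fun x y => ?_⟩
      rw [Fintype.sum_empty, mul_zero]
      show sympForm 0 F _ _ = 0
      unfold sympForm
      simp [dotProduct]
  · intro h _
    have : h = 1 := Subsingleton.elim _ _
    rw [this]
    exact Subgroup.one_mem _

/-- `toLin'` of an invertible matrix is injective -/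
theorem toLin'_injective {ι : Type} [Fintype ι] [DecidableEq ι] (h : GL ι F) :
    Function.Injective (Matrix.toLin' (h : Matrix ι ι F)) := by
  apply Function.LeftInverse.injective (g := Matrix.toLin' ((h⁻¹ : GL ι F) : Matrix ι ι F))
  intro v
  rw [← LinearMap.comp_apply, ← Matrix.toLin'_mul, ← Units.val_mul, inv_mul_cancel, Units.val_one,
    Matrix.toLin'_one, LinearMap.id_apply]

/-- the square case: the two eigenspaces -/
theorem square_case (m : ℕ) (hm : 1 ≤ m) (hodd : Odd (Fintype.card F))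
    (H : Subgroup (GL (Fin m ⊕ Fin m) F)) (hH : H ≤ spGL m F)
    (J : Matrix (Fin m ⊕ Fin m) (Fin m ⊕ Fin m) F) (μ : F) (hμ : μ ≠ 0)
    (hJ2 : J * J = (μ * μ) • 1)
    (hskew : ∀ u v, sympForm m F (J *ᵥ u) v = - sympForm m F u (J *ᵥ v))
    (hconj : ∀ h ∈ H, (h : Matrix (Fin m ⊕ Fin m) (Fin m ⊕ Fin m) F) * J = J * (h : Matrix _ _ F) ∨
      (h : Matrix (Fin m ⊕ Fin m) (Fin m ⊕ Fin m) F) * J = - (J * (h : Matrix _ _ F))) :
    InSpClass m H := by
  classical
  have h2 := two_ne_zero_of_odd_card hodd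
  have hsf := isSymplecticForm_sympForm (F := F) m
  have hbil := hsf.bilinear
  -- total singularity
  have hts : ∀ ν : F, ν ≠ 0 → IsTotallySingularFor (sympForm m F) (eig J ν) := by
    intro ν hν u hu v hv
    rw [mem_eig] at hu hv
    have h1 := hskew u v
    rw [hu, hv, hbil.smul_left, hbil.smul_right] at h1
    have h3 : (2 * ν) * sympForm m F u v = 0 := by linear_combination h1
    exact (mul_eq_zero.1 h3).resolve_left (mul_ne_zero h2 hν)
  have hnμ : -μ ≠ 0 := neg_ne_zero.2 hμ
  have hdisj := disjoint_eig h2 J μ hμ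
  have hsup := sup_eig h2 J μ hμ hJ2
  -- dimensions
  have hdim1 := ts_finrank_le m _ (hts μ hμ)
  have hdim2 := ts_finrank_le m _ (hts (-μ) hnμ)
  have hdimsum : Module.finrank F (eig J μ) + Module.finrank F (eig J (-μ)) = m + m := by
    have h1 := Submodule.finrank_sup_add_finrank_inf_eq (eig J μ) (eig J (-μ))
    rw [hsup, hdisj.eq_bot, finrank_bot, finrank_top, Module.finrank_fintype_fun_eq_card,
      Fintype.card_sum, Fintype.card_fin, add_zero] at h1
    exact h1.symm
  have hd1 : Module.finrank F (eig J μ) = m := by omega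
  have hd2 : Module.finrank F (eig J (-μ)) = m := by omega
  -- the decomposition
  set D : Fin 2 → Submodule F (Fin m ⊕ Fin m → F) := ![eig J μ, eig J (-μ)] with hDdef
  have hD0 : D 0 = eig J μ := rfl
  have hD1 : D 1 = eig J (-μ) := rfl
  have hD : IsMDecomposition m D := by
    refine ⟨le_refl 2, hm, ?_, ?_, ?_⟩
    · intro i
      fin_cases i
      · exact hd1
      · exact hd2
    · rw [iSupIndep_pair (i := (0 : Fin 2)) (j := 1) (by decide) (by decide)]
      exact hdisj
    · rw [eq_top_iff, ← hsup]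
      exact sup_le (le_iSup D 0) (le_iSup D 1)
  have htsD : ∀ i, IsTotallySingularFor (sympForm m F) (D i) := by
    intro i
    fin_cases i
    · exact hts μ hμ
    · exact hts (-μ) hnμ
  -- the action of `H`
  have hmapeq : ∀ (h : GL (Fin m ⊕ Fin m) F) (ν ν' : F),
      Module.finrank F (eig J ν) = Module.finrank F (eig J ν') →
      (∀ v ∈ eig J ν, (h : Matrix (Fin m ⊕ Fin m) (Fin m ⊕ Fin m) F) *ᵥ v ∈ eig J ν') →
      (eig J ν).map (Matrix.toLin' (h : Matrix (Fin m ⊕ Fin m) (Fin m ⊕ Fin m) F)) = eig J ν' := by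
    intro h ν ν' hfr hmem
    apply Submodule.eq_of_le_of_finrank_eq
    · rintro _ ⟨v, hv, rfl⟩
      rw [Matrix.toLin'_apply]
      exact hmem v hv
    · rw [← hfr]
      exact (Submodule.equivMapOfInjective _ (toLin'_injective h) (eig J ν)).finrank_eq.symm
  have hle : H ≤ decompositionStabilizer D := by
    intro h hh
    rcases hconj h hh with hc | hc
    · refine ⟨1, fun i => ?_⟩
      have hmem : ∀ ν : F, ∀ v ∈ eig J ν,
          (h : Matrix (Fin m ⊕ Fin m) (Fin m ⊕ Fin m) F) *ᵥ v ∈ eig J ν := by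
        intro ν v hv
        rw [mem_eig] at hv ⊢
        rw [Matrix.mulVec_mulVec, ← hc, ← Matrix.mulVec_mulVec, hv, Matrix.mulVec_smul]
      fin_cases i
      · exact hmapeq h μ μ rfl (hmem μ)
      · exact hmapeq h (-μ) (-μ) rfl (hmem (-μ))
    · refine ⟨Equiv.swap 0 1, fun i => ?_⟩
      have hmem : ∀ ν : F, ∀ v ∈ eig J ν,
          (h : Matrix (Fin m ⊕ Fin m) (Fin m ⊕ Fin m) F) *ᵥ v ∈ eig J (-ν) := by
        intro ν v hv
        rw [mem_eig] at hv ⊢
        have hc' : J * (h : Matrix (Fin m ⊕ Fin m) (Fin m ⊕ Fin m) F) =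
            - ((h : Matrix (Fin m ⊕ Fin m) (Fin m ⊕ Fin m) F) * J) := by
          rw [hc, neg_neg]
        rw [Matrix.mulVec_mulVec, hc', Matrix.neg_mulVec, ← Matrix.mulVec_mulVec, hv,
          Matrix.mulVec_smul, neg_smul]
      fin_cases i
      · show (eig J μ).map _ = D (Equiv.swap 0 1 0)
        rw [Equiv.swap_apply_left]
        exact hmapeq h μ (-μ) (hd1.trans hd2.symm) (hmem μ)
      · show (eig J (-μ)).map _ = D (Equiv.swap 0 1 1)
        rw [Equiv.swap_apply_right]
        have := hmapeq h (-μ) (- -μ) (by rw [neg_neg]; exact hd2.trans hd1.symm) (hmem (-μ))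
        rw [neg_neg] at this
        exact this
  exact Cfsg.Agent.Lib.Helper82_AschSp_SP2.SP2 m H hH m D hD htsD hle

theorem mul_formula {ι : Type} [Fintype ι] [DecidableEq ι] (J : Matrix ι ι F) (c : F)
    (hJ2 : J * J = c • 1) (a b a' b' : F) :
    (a • (1 : Matrix ι ι F) + b • J) * (a' • (1 : Matrix ι ι F) + b' • J) =
      (a * a' + b * b' * c) • (1 : Matrix ι ι F) + (a * b' + b * a') • J := by
  simp only [add_mul, mul_add, smul_mul_assoc, mul_smul_comm, one_mul, mul_one, hJ2]
  module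

/-- the subalgebra `F + F J` for `J * J = c • 1` -/
def quadAlg {ι : Type} [Fintype ι] [DecidableEq ι] (J : Matrix ι ι F) (c : F)
    (hJ2 : J * J = c • 1) : Subalgebra F (Matrix ι ι F) where
  carrier := {M | ∃ a b : F, M = a • (1 : Matrix ι ι F) + b • J}
  mul_mem' := by
    rintro _ _ ⟨a, b, rfl⟩ ⟨a', b', rfl⟩
    exact ⟨a * a' + b * b' * c, a * b' + b * a', mul_formula J c hJ2 a b a' b'⟩
  one_mem' := ⟨1, 0, by simp⟩
  add_mem' := by
    rintro _ _ ⟨a, b, rfl⟩ ⟨a', b', rfl⟩
    refine ⟨a + a', b + b', ?_⟩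
    rw [add_smul, add_smul]
    abel
  zero_mem' := ⟨0, 0, by simp⟩
  algebraMap_mem' := by
    intro r
    refine ⟨r, 0, ?_⟩
    rw [zero_smul, add_zero, Algebra.algebraMap_eq_smul_one]

theorem mem_quadAlg {ι : Type} [Fintype ι] [DecidableEq ι] (J : Matrix ι ι F) (c : F)
    (hJ2 : J * J = c • 1) (M : Matrix ι ι F) :
    M ∈ quadAlg J c hJ2 ↔ ∃ a b : F, M = a • (1 : Matrix ι ι F) + b • J := Iff.rfl

/-- the non-square case: the field `F + F J` -/
theorem nonsquare_case (m : ℕ) (hm : 1 ≤ m) (hodd : Odd (Fintype.card F))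
    (H : Subgroup (GL (Fin m ⊕ Fin m) F)) (hH : H ≤ spGL m F)
    (J : Matrix (Fin m ⊕ Fin m) (Fin m ⊕ Fin m) F) (c : F) (hc : c ≠ 0) (hJ2 : J * J = c • 1)
    (hns : ¬ ∃ μ : F, μ * μ = c)
    (hskew : ∀ u v, sympForm m F (J *ᵥ u) v = - sympForm m F u (J *ᵥ v))
    (hconj : ∀ h ∈ H, (h : Matrix (Fin m ⊕ Fin m) (Fin m ⊕ Fin m) F) * J = J * (h : Matrix _ _ F) ∨
      (h : Matrix (Fin m ⊕ Fin m) (Fin m ⊕ Fin m) F) * J = - (J * (h : Matrix _ _ F))) :
    InSpClass m H := by
  classical
  have h2 := two_ne_zero_of_odd_card hodd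
  have hsf := isSymplecticForm_sympForm (F := F) m
  have hbil := hsf.bilinear
  set K := quadAlg J c hJ2 with hK
  -- scalars are detected on a diagonal entry
  let i₀ : Fin m ⊕ Fin m := Sum.inl ⟨0, hm⟩
  have hscal : ∀ x y : F, x • (1 : Matrix (Fin m ⊕ Fin m) (Fin m ⊕ Fin m) F) = y • 1 → x = y := by
    intro x y h
    have := congrFun (congrFun h i₀) i₀
    simpa using this
  -- linear independence of `1` and `J`
  have hind : ∀ a b : F, a • (1 : Matrix (Fin m ⊕ Fin m) (Fin m ⊕ Fin m) F) + b • J = 0 →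
      a = 0 ∧ b = 0 := by
    intro a b hab
    have hb : b = 0 := by
      by_contra hb
      have hJ : J = (-(a / b)) • (1 : Matrix (Fin m ⊕ Fin m) (Fin m ⊕ Fin m) F) := by
        have h1 : b • J = (-a) • (1 : Matrix (Fin m ⊕ Fin m) (Fin m ⊕ Fin m) F) := by
          rw [neg_smul]
          exact eq_neg_of_add_eq_zero_right hab
        have h3 := congrArg (fun M => b⁻¹ • M) h1
        simp only [smul_smul, inv_mul_cancel₀ hb, one_smul] at h3
        rw [h3]
        congr 1
        field_simp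
      apply hns
      refine ⟨-(a / b), ?_⟩
      apply hscal
      rw [← hJ2]
      nth_rewrite 1 [hJ]
      nth_rewrite 1 [hJ]
      rw [smul_mul_smul_comm, one_mul]
    subst hb
    rw [zero_smul, add_zero] at hab
    refine ⟨hscal a 0 ?_, rfl⟩
    rw [hab, zero_smul]
  have hJne : J ≠ 0 := by
    intro h0
    have := (hind 0 1 (by rw [zero_smul, one_smul, zero_add, h0])).2
    exact one_ne_zero this
  have hfield : IsFieldSubalgebra 2 K := by
    refine ⟨?_, ?_, ?_⟩
    · rintro _ ⟨a, b, rfl⟩ _ ⟨a', b', rfl⟩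
      rw [mul_formula J c hJ2, mul_formula J c hJ2]
      congr 2 <;> ring
    · rintro _ ⟨a, b, rfl⟩ hx
      have hN : a * a - b * b * c ≠ 0 := by
        intro h0
        by_cases hb : b = 0
        · subst hb
          have ha : a = 0 := by
            have : a * a = 0 := by linear_combination h0
            exact mul_self_eq_zero.1 this
          subst ha
          apply hx
          simp
        · apply hns
          refine ⟨a / b, ?_⟩
          field_simp
          linear_combination h0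
      refine ⟨(a * a - b * b * c)⁻¹ • (a • (1 : Matrix (Fin m ⊕ Fin m) (Fin m ⊕ Fin m) F) + (-b) • J),
        ⟨(a * a - b * b * c)⁻¹ * a, (a * a - b * b * c)⁻¹ * (-b), ?_⟩, ?_⟩
      · rw [smul_add, smul_smul, smul_smul]
      · rw [mul_smul_comm]
        have : (a • (1 : Matrix (Fin m ⊕ Fin m) (Fin m ⊕ Fin m) F) + b • J) *
            (a • (1 : Matrix (Fin m ⊕ Fin m) (Fin m ⊕ Fin m) F) + (-b) • J) =
            (a * a - b * b * c) • (1 : Matrix (Fin m ⊕ Fin m) (Fin m ⊕ Fin m) F) := by
          rw [mul_formula J c hJ2]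
          have e1 : a * a + b * -b * c = a * a - b * b * c := by ring
          have e2 : a * -b + b * a = 0 := by ring
          rw [e1, e2, zero_smul, add_zero]
        rw [this, smul_smul, inv_mul_cancel₀ hN, one_smul]
    · -- the dimension
      let φ : (F × F) →ₗ[F] Matrix (Fin m ⊕ Fin m) (Fin m ⊕ Fin m) F :=
        { toFun := fun x => x.1 • (1 : Matrix (Fin m ⊕ Fin m) (Fin m ⊕ Fin m) F) + x.2 • J
          map_add' := by
            intro x y
            simp only [Prod.fst_add, Prod.snd_add, add_smul]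
            abel
          map_smul' := by
            intro r x
            simp only [Prod.smul_fst, Prod.smul_snd, smul_eq_mul, RingHom.id_apply, smul_add,
              smul_smul] }
      have hφinj : Function.Injective φ := by
        rw [← LinearMap.ker_eq_bot, LinearMap.ker_eq_bot']
        rintro ⟨a, b⟩ hab
        obtain ⟨ha, hb⟩ := hind a b hab
        rw [ha, hb]
        rfl
      have hrange : Subalgebra.toSubmodule K = LinearMap.range φ := by
        ext M
        constructor
        · rintro ⟨a, b, rfl⟩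
          exact ⟨(a, b), rfl⟩
        · rintro ⟨⟨a, b⟩, rfl⟩
          exact ⟨a, b, rfl⟩
      have h1 : Module.finrank F K = Module.finrank F (Subalgebra.toSubmodule K) := rfl
      rw [h1, hrange, LinearMap.finrank_range_of_inj hφinj, Module.finrank_prod,
        Module.finrank_self]
  have hadj : IsAdjointClosedFor (sympForm m F) K := by
    rintro _ ⟨a, b, rfl⟩
    refine ⟨a • (1 : Matrix (Fin m ⊕ Fin m) (Fin m ⊕ Fin m) F) + (-b) • J, ⟨a, -b, rfl⟩, ?_⟩
    intro u v
    rw [Matrix.add_mulVec, Matrix.add_mulVec, Matrix.smul_mulVec, Matrix.smul_mulVec,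
      Matrix.smul_mulVec, Matrix.smul_mulVec, Matrix.one_mulVec, Matrix.one_mulVec, hbil.add_left,
      hbil.add_right, hbil.smul_left, hbil.smul_left, hbil.smul_right, hbil.smul_right, hskew]
    ring
  have hnself : ¬ IsSelfAdjointFor (sympForm m F) K := by
    intro hself
    have hJK : J ∈ K := ⟨0, 1, by rw [zero_smul, one_smul, zero_add]⟩
    apply hJne
    -- `J u` is orthogonal to everything
    have hzero : ∀ u v, sympForm m F (J *ᵥ u) v = 0 := by
      intro u v
      have h1 := hself J hJK u v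
      have h3 := hskew u v
      have h4 : 2 * sympForm m F (J *ᵥ u) v = 0 := by linear_combination h1 + h3
      exact (mul_eq_zero.1 h4).resolve_left h2
    have hJu : ∀ u, J *ᵥ u = 0 := by
      intro u
      by_contra hne
      obtain ⟨_, ⟨x, hx⟩⟩ := hsf.nondegenerate _ hne
      exact hx (hzero u x)
    ext i j
    have := congrFun (hJu (Pi.single j 1)) i
    simpa using this
  -- normalization
  have hnorm1 : ∀ h ∈ H, ∀ k ∈ K,
      (h : Matrix (Fin m ⊕ Fin m) (Fin m ⊕ Fin m) F) * k * ((h⁻¹ : GL _ F) : Matrix _ _ F) ∈ K := by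
    rintro h hh _ ⟨a, b, rfl⟩
    have hinv : (h : Matrix (Fin m ⊕ Fin m) (Fin m ⊕ Fin m) F) * ((h⁻¹ : GL _ F) : Matrix _ _ F) = 1 := by
      rw [← Units.val_mul, mul_inv_cancel, Units.val_one]
    rcases hconj h hh with hc | hc
    · refine ⟨a, b, ?_⟩
      rw [mul_add, add_mul, mul_smul_comm, smul_mul_assoc, mul_one, hinv, mul_smul_comm, hc,
        smul_mul_assoc, mul_assoc, hinv, mul_one]
    · refine ⟨a, -b, ?_⟩
      rw [mul_add, add_mul, mul_smul_comm, smul_mul_assoc, mul_one, hinv, mul_smul_comm, hc,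
        smul_mul_assoc, neg_mul, mul_assoc, hinv, mul_one, smul_neg, neg_smul]
  have hle : H ≤ subalgebraNormalizer K := by
    intro h hh k
    constructor
    · exact hnorm1 h hh k
    · intro hk
      have := hnorm1 h⁻¹ (H.inv_mem hh) _ hk
      rw [inv_inv] at this
      have h3 : ((h⁻¹ : GL _ F) : Matrix (Fin m ⊕ Fin m) (Fin m ⊕ Fin m) F) *
          ((h : Matrix (Fin m ⊕ Fin m) (Fin m ⊕ Fin m) F) * k * ((h⁻¹ : GL _ F) : Matrix _ _ F)) *
          (h : Matrix _ _ F) = k := by
        have hinv' : ((h⁻¹ : GL _ F) : Matrix (Fin m ⊕ Fin m) (Fin m ⊕ Fin m) F) *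
            (h : Matrix _ _ F) = 1 := by
          rw [← Units.val_mul, inv_mul_cancel, Units.val_one]
        rw [mul_assoc, mul_assoc, mul_assoc, hinv', mul_one, ← mul_assoc, hinv', one_mul]
      rw [h3] at this
      exact this
  refine ⟨subalgebraNormalizer K ⊓ spGL m F, ?_, le_inf hle hH⟩
  right; right; left
  exact ⟨K, hodd, hfield, hadj, hnself, rfl⟩

/-- SP4b: a skew-adjoint matrix with non-zero scalar square, normalized up to sign (odd characteristic) -/
theorem SP4b (m : ℕ) (hodd : Odd (Fintype.card F)) (H : Subgroup (GL (Fin m ⊕ Fin m) F)) (hH : H ≤ spGL m F)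
    (J : Matrix (Fin m ⊕ Fin m) (Fin m ⊕ Fin m) F) (c : F) (hc : c ≠ 0) (hJ2 : J * J = c • 1)
    (hskew : ∀ u v, sympForm m F (J *ᵥ u) v = - sympForm m F u (J *ᵥ v))
    (hconj : ∀ h ∈ H, (h : Matrix (Fin m ⊕ Fin m) (Fin m ⊕ Fin m) F) * J = J * (h : Matrix _ _ F) ∨
      (h : Matrix (Fin m ⊕ Fin m) (Fin m ⊕ Fin m) F) * J = - (J * (h : Matrix _ _ F))) :
    InSpClass m H := by
  rcases Nat.eq_zero_or_pos m with hm0 | hm
  · subst hm0
    exact inSpClass_zero hodd H
  by_cases hsq : ∃ μ : F, μ * μ = c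
  · obtain ⟨μ, rfl⟩ := hsq
    have hμ : μ ≠ 0 := by
      intro h0
      apply hc
      rw [h0, mul_zero]
    exact square_case m hm hodd H hH J μ hμ hJ2 hskew hconj
  · exact nonsquare_case m hm hodd H hH J c hc hJ2 hsq hskew hconj

end symp

end Cfsg.Agent.Lib.Helper82_AschSp_SP4b
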