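import Mathlib
import Cfsg.Agent.Lib.Helper98_AschDefs
import Cfsg.Agent.Lib.Helper23_FormDefs
import Cfsg.Agent.Lib.Helper52_Form_F4
import Cfsg.Agent.Lib.Helper34_OrthOdd_OP4b
import Cfsg.Agent.Lib.Helper82_AschSp_SP4b

set_option autoImplicit false

/-!
Package SP4a of S5662 (architect helper23): a subgroup `H ≤ Sp_{2m}(F)`, `|F|` odd, normalizing an
adjoint-closed tensor algebra `M_d(F) ⊗ 1` (`1 < d`, `1 < s`) lies in a member of class 4, or
(symmetric factor of dimension 2) in a member of class 2 / class 3 through package SP4b.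
-/

open Cfsg Cfsg.Geo Matrix Cfsg.Agent.Lib.Helper98_AschDefs Cfsg.Agent.Lib.Helper23_FormDefs
  Cfsg.Agent.Lib.Helper34_OrthOdd_OP4b
open scoped Kronecker

namespace Cfsg.Agent.Lib.Helper82_AschSp_SP4a

section kron

variable {F : Type*} [Field F] {d s : ℕ}

theorem exists_ne_zero_of_ne_zero {n : ℕ} {X : Matrix (Fin n) (Fin n) F} (hX : X ≠ 0) :
    ∃ i j, X i j ≠ 0 := by
  by_contra h
  push Not at h
  apply hX
  ext i j
  exact h i j

theorem ne_zero_of_isUnit_det {n : ℕ} (hn : 0 < n) {X : Matrix (Fin n) (Fin n) F}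
    (hX : IsUnit X.det) : X ≠ 0 := by
  intro h0
  have : Nonempty (Fin n) := ⟨⟨0, hn⟩⟩
  rw [h0, Matrix.det_zero] at hX
  exact not_isUnit_zero hX

/-- cancellation of a non-zero right Kronecker factor -/
theorem kron_right_cancel {X X' : Matrix (Fin d) (Fin d) F} {Y : Matrix (Fin s) (Fin s) F}
    (hY : Y ≠ 0) (h : X ⊗ₖ Y = X' ⊗ₖ Y) : X = X' := by
  obtain ⟨k, l, hkl⟩ := exists_ne_zero_of_ne_zero hY
  ext i j
  have := congrFun (congrFun h (i, k)) (j, l)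
  simp only [Matrix.kroneckerMap_apply] at this
  exact mul_right_cancel₀ hkl this

/-- proportionality of the right Kronecker factors -/
theorem kron_prop {X₁ Y₁ : Matrix (Fin d) (Fin d) F} {X₂ Y₂ : Matrix (Fin s) (Fin s) F}
    (hY₁ : Y₁ ≠ 0) (hY₂ : Y₂ ≠ 0) (h : X₁ ⊗ₖ X₂ = Y₁ ⊗ₖ Y₂) :
    ∃ c : F, c ≠ 0 ∧ X₂ = c • Y₂ := by
  obtain ⟨i, j, hij⟩ := exists_ne_zero_of_ne_zero hY₁
  obtain ⟨k, l, hkl⟩ := exists_ne_zero_of_ne_zero hY₂
  have hent : ∀ k' l', X₁ i j * X₂ k' l' = Y₁ i j * Y₂ k' l' := by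
    intro k' l'
    have := congrFun (congrFun h (i, k')) (j, l')
    simpa only [Matrix.kroneckerMap_apply] using this
  have hX : X₁ i j ≠ 0 := by
    intro h0
    have := hent k l
    rw [h0, zero_mul] at this
    exact mul_ne_zero hij hkl this.symm
  refine ⟨Y₁ i j / X₁ i j, div_ne_zero hij hX, ?_⟩
  ext k' l'
  rw [Matrix.smul_apply, smul_eq_mul]
  have := hent k' l'
  field_simp
  linear_combination this

/-- the sign structure of a skew Kronecker product -/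
theorem kron_skew_cases (hd : 0 < d) (hs : 0 < s) {G₁ : Matrix (Fin d) (Fin d) F}
    {G₂ : Matrix (Fin s) (Fin s) F} (h₁ : IsUnit G₁.det) (h₂ : IsUnit G₂.det)
    (hT : (G₁ ⊗ₖ G₂)ᵀ = -(G₁ ⊗ₖ G₂)) :
    (G₁ᵀ = -G₁ ∧ G₂ᵀ = G₂) ∨ (G₁ᵀ = G₁ ∧ G₂ᵀ = -G₂) := by
  have hG₁ := ne_zero_of_isUnit_det hd h₁
  have hG₂ := ne_zero_of_isUnit_det hs h₂
  have hnG₁ : -G₁ ≠ 0 := neg_ne_zero.2 hG₁
  have hT' : G₁ᵀ ⊗ₖ G₂ᵀ = (-G₁) ⊗ₖ G₂ := by
    rw [Matrix.kroneckerMap_transpose, hT]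
    ext p q
    simp [Matrix.kroneckerMap_apply]
  obtain ⟨c, hc0, hc⟩ := kron_prop hnG₁ hG₂ hT'
  have hcc : c * c = 1 := by
    have h1 : G₂ = (c * c) • G₂ := by
      have := congrArg Matrix.transpose hc
      rw [Matrix.transpose_transpose, Matrix.transpose_smul, hc, smul_smul] at this
      exact this
    obtain ⟨k, l, hkl⟩ := exists_ne_zero_of_ne_zero hG₂
    have h3 := congrFun (congrFun h1 k) l
    rw [Matrix.smul_apply, smul_eq_mul] at h3
    have h4 : (c * c - 1) * G₂ k l = 0 := by linear_combination -h3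
    rcases mul_eq_zero.1 h4 with h5 | h5
    · linear_combination h5
    · exact absurd h5 hkl
  have hc1 : c = 1 ∨ c = -1 := by
    have : (c - 1) * (c + 1) = 0 := by linear_combination hcc
    rcases mul_eq_zero.1 this with h | h
    · left; linear_combination h
    · right; linear_combination h
  rcases hc1 with rfl | rfl
  · left
    rw [one_smul] at hc
    refine ⟨?_, hc⟩
    rw [hc] at hT'
    exact kron_right_cancel hG₂ hT'
  · right
    rw [neg_smul, one_smul] at hc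
    refine ⟨?_, hc⟩
    rw [hc] at hT'
    have hT'' : G₁ᵀ ⊗ₖ G₂ = G₁ ⊗ₖ G₂ := by
      have e1 : G₁ᵀ ⊗ₖ (-G₂) = -(G₁ᵀ ⊗ₖ G₂) := by
        ext p q
        simp [Matrix.kroneckerMap_apply]
      have e2 : (-G₁) ⊗ₖ G₂ = -(G₁ ⊗ₖ G₂) := by
        ext p q
        simp [Matrix.kroneckerMap_apply]
      rw [e1, e2] at hT'
      exact neg_injective hT'
    exact kron_right_cancel hG₂ hT''

end kron

section two

variable {F : Type*} [Field F]

/-- the generator of the Lie algebra of the symmetric `2 × 2` matrix `G` (times `det G`) -/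
def j0 (G : Matrix (Fin 2) (Fin 2) F) : Matrix (Fin 2) (Fin 2) F :=
  !![G 0 1, G 1 1; -G 0 0, -G 0 1]

theorem j0_smul (c : F) (G : Matrix (Fin 2) (Fin 2) F) : j0 (c • G) = c • j0 G := by
  ext i j
  fin_cases i <;> fin_cases j <;> simp [j0]

theorem j0_sq (G : Matrix (Fin 2) (Fin 2) F) (hG : G 1 0 = G 0 1) :
    j0 G * j0 G = (-G.det) • (1 : Matrix (Fin 2) (Fin 2) F) := by
  ext i j
  fin_cases i <;> fin_cases j <;>
    simp [j0, Matrix.mul_apply, Fin.sum_univ_two, Matrix.det_fin_two, hG] <;> ring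

theorem j0_skew (G : Matrix (Fin 2) (Fin 2) F) (hG : G 1 0 = G 0 1) :
    (j0 G)ᵀ * G = -(G * j0 G) := by
  ext i j
  fin_cases i <;> fin_cases j <;>
    simp [j0, Matrix.mul_apply, Fin.sum_univ_two, hG]

theorem j0_key (G γ : Matrix (Fin 2) (Fin 2) F) (hG : G 1 0 = G 0 1) :
    γ * j0 (γᵀ * G * γ) = γ.det • (j0 G * γ) := by
  ext i j
  fin_cases i <;> fin_cases j <;>
    simp [j0, Matrix.mul_apply, Fin.sum_univ_two, Matrix.det_fin_two, hG, Matrix.vecMul,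
      dotProduct] <;> ring

/-- similitudes of `G` commute or anticommute with `j0 G` -/
theorem j0_simil (G γ : Matrix (Fin 2) (Fin 2) F) (hG : Gᵀ = G) (hdet : IsUnit G.det) (c : F)
    (hc : c ≠ 0) (hγ : γᵀ * G * γ = c • G) :
    γ * j0 G = j0 G * γ ∨ γ * j0 G = -(j0 G * γ) := by
  have hG' : G 1 0 = G 0 1 := by
    have := congrFun (congrFun hG 0) 1
    rwa [Matrix.transpose_apply] at this
  have h1 : c • (γ * j0 G) = γ.det • (j0 G * γ) := by
    rw [← j0_key G γ hG', hγ, j0_smul, Matrix.mul_smul]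
  have hdd : γ.det * γ.det = c * c := by
    have h2 := congrArg Matrix.det hγ
    rw [Matrix.det_mul, Matrix.det_mul, Matrix.det_transpose, Matrix.det_smul, Fintype.card_fin] at h2
    have h3 : (γ.det * γ.det - c * c) * G.det = 0 := by linear_combination h2
    rcases mul_eq_zero.1 h3 with h4 | h4
    · linear_combination h4
    · exact absurd h4 hdet.ne_zero
  have hcases : γ.det = c ∨ γ.det = -c := by
    have : (γ.det - c) * (γ.det + c) = 0 := by linear_combination hdd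
    rcases mul_eq_zero.1 this with h | h
    · left; linear_combination h
    · right; linear_combination h
  have hcancel : ∀ X Y : Matrix (Fin 2) (Fin 2) F, c • X = c • Y → X = Y := by
    intro X Y h
    have := congrArg (fun M => c⁻¹ • M) h
    simpa [smul_smul, inv_mul_cancel₀ hc] using this
  rcases hcases with h | h
  · left
    rw [h] at h1
    exact hcancel _ _ h1
  · right
    rw [h, neg_smul, ← smul_neg] at h1
    exact hcancel _ _ h1

end two

section transfer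

variable {F : Type*} [Field F] {ι : Type} [Fintype ι] [DecidableEq ι] {a b : ℕ}

/-- a matrix in tensor coordinates, transported to `ι` and conjugated by `P` -/
def conjP (e : ι ≃ Fin a × Fin b) (P : GL ι F) (X : Matrix (Fin a × Fin b) (Fin a × Fin b) F) :
    Matrix ι ι F :=
  (P : Matrix ι ι F) * Matrix.reindex e.symm e.symm X * ((P⁻¹ : GL ι F) : Matrix ι ι F)

theorem inv_mul_val (P : GL ι F) : ((P⁻¹ : GL ι F) : Matrix ι ι F) * (P : Matrix ι ι F) = 1 := by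
  rw [← Units.val_mul, inv_mul_cancel, Units.val_one]

theorem mul_inv_val (P : GL ι F) : (P : Matrix ι ι F) * ((P⁻¹ : GL ι F) : Matrix ι ι F) = 1 := by
  rw [← Units.val_mul, mul_inv_cancel, Units.val_one]

theorem conjP_mul (e : ι ≃ Fin a × Fin b) (P : GL ι F)
    (X Y : Matrix (Fin a × Fin b) (Fin a × Fin b) F) :
    conjP e P (X * Y) = conjP e P X * conjP e P Y := by
  unfold conjP
  have h : Matrix.reindex e.symm e.symm (X * Y) =
      Matrix.reindex e.symm e.symm X * Matrix.reindex e.symm e.symm Y :=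
    map_mul (Matrix.reindexAlgEquiv F F e.symm) X Y
  rw [h]
  have h2 : (P : Matrix ι ι F) * Matrix.reindex e.symm e.symm X * ((P⁻¹ : GL ι F) : Matrix ι ι F) *
      ((P : Matrix ι ι F) * Matrix.reindex e.symm e.symm Y * ((P⁻¹ : GL ι F) : Matrix ι ι F)) =
      (P : Matrix ι ι F) * Matrix.reindex e.symm e.symm X *
        (((P⁻¹ : GL ι F) : Matrix ι ι F) * (P : Matrix ι ι F)) *
        Matrix.reindex e.symm e.symm Y * ((P⁻¹ : GL ι F) : Matrix ι ι F) := by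
    simp only [mul_assoc]
  rw [h2, inv_mul_val, mul_one]
  simp only [mul_assoc]

theorem conjP_smul (e : ι ≃ Fin a × Fin b) (P : GL ι F) (c : F)
    (X : Matrix (Fin a × Fin b) (Fin a × Fin b) F) : conjP e P (c • X) = c • conjP e P X := by
  unfold conjP
  have h : Matrix.reindex e.symm e.symm (c • X) = c • Matrix.reindex e.symm e.symm X :=
    map_smul (Matrix.reindexAlgEquiv F F e.symm) c X
  rw [h, Matrix.mul_smul, Matrix.smul_mul]

theorem conjP_neg (e : ι ≃ Fin a × Fin b) (P : GL ι F)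
    (X : Matrix (Fin a × Fin b) (Fin a × Fin b) F) : conjP e P (-X) = - conjP e P X := by
  have := conjP_smul e P (-1 : F) X
  rwa [neg_one_smul, neg_one_smul] at this

theorem conjP_one (e : ι ≃ Fin a × Fin b) (P : GL ι F) :
    conjP e P (1 : Matrix (Fin a × Fin b) (Fin a × Fin b) F) = 1 := by
  unfold conjP
  have h : Matrix.reindex e.symm e.symm (1 : Matrix (Fin a × Fin b) (Fin a × Fin b) F) = 1 :=
    map_one (Matrix.reindexAlgEquiv F F e.symm)
  rw [h, mul_one, mul_inv_val]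

theorem conjP_mulVec (e : ι ≃ Fin a × Fin b) (P : GL ι F)
    (X : Matrix (Fin a × Fin b) (Fin a × Fin b) F) (x : Fin a × Fin b → F) :
    conjP e P X *ᵥ ((P : Matrix ι ι F) *ᵥ (x ∘ e)) = (P : Matrix ι ι F) *ᵥ ((X *ᵥ x) ∘ e) := by
  unfold conjP
  rw [Matrix.mulVec_mulVec, mul_assoc, mul_assoc, inv_mul_val, mul_one, ← Matrix.mulVec_mulVec,
    reindex_mulVec]

theorem val_eq_conjP (e : ι ≃ Fin a × Fin b) (P : GL ι F) (h : GL ι F) (α : GL (Fin a) F)
    (γ : GL (Fin b) F) (hh : h = P * glReindex e.symm (kronGL α γ) * P⁻¹) :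
    (h : Matrix ι ι F) = conjP e P ((α : Matrix (Fin a) (Fin a) F) ⊗ₖ (γ : Matrix (Fin b) (Fin b) F)) := by
  rw [hh, Units.val_mul, Units.val_mul, glReindex_symm_val, kronGL_val]
  rfl

/-- every vector is of the form `P (x ∘ e)` -/
theorem exists_coord (e : ι ≃ Fin a × Fin b) (P : GL ι F) (u : ι → F) :
    ∃ x : Fin a × Fin b → F, u = (P : Matrix ι ι F) *ᵥ (x ∘ e) := by
  refine ⟨(((P⁻¹ : GL ι F) : Matrix ι ι F) *ᵥ u) ∘ e.symm, ?_⟩
  have h1 : ((((P⁻¹ : GL ι F) : Matrix ι ι F) *ᵥ u) ∘ e.symm) ∘ e =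
      ((P⁻¹ : GL ι F) : Matrix ι ι F) *ᵥ u := by
    funext i
    simp
  rw [h1, Matrix.mulVec_mulVec, mul_inv_val, Matrix.one_mulVec]

end transfer

section forms

variable {F : Type*} [Field F] {κ : Type} [Fintype κ] [DecidableEq κ]

theorem isSymplecticForm_gramForm (h2 : (2 : F) ≠ 0) (G : Matrix κ κ F) (hG : Gᵀ = -G)
    (hdet : IsUnit G.det) : IsSymplecticForm (gramForm G) := by
  have hskew : ∀ v w, gramForm G v w = - gramForm G w v := by
    intro v w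
    rw [gramForm_swap, hG]
    simp [gramForm, Matrix.neg_mulVec]
  refine ⟨gramForm_bilinear G, hskew, ?_, gramForm_nondeg hdet⟩
  intro v
  have h := hskew v v
  have h3 : 2 * gramForm G v v = 0 := by linear_combination h
  exact (mul_eq_zero.1 h3).resolve_left h2

theorem isSymmetricForm_gramForm (G : Matrix κ κ F) (hG : Gᵀ = G) (hdet : IsUnit G.det) :
    IsSymmetricForm (gramForm G) :=
  isSymmetricForm_formOf G hG hdet

theorem gramMatrix_gramForm (G : Matrix κ κ F) : gramMatrix (gramForm G) = G :=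
  gramMatrix_formOf G

end forms

section main

variable {F : Type*} [Field F] [Fintype F]

/-- class 4 from the normal form with a symmetric factor of dimension at least 3 -/
theorem case_ge_three (m : ℕ) (hodd : Odd (Fintype.card F)) (H : Subgroup (GL (Fin m ⊕ Fin m) F))
    (hH : H ≤ spGL m F) {a b : ℕ} (e : (Fin m ⊕ Fin m) ≃ Fin a × Fin b)
    (P : GL (Fin m ⊕ Fin m) F) (Ga : Matrix (Fin a) (Fin a) F) (Gs : Matrix (Fin b) (Fin b) F)
    (hGa : Gaᵀ = -Ga) (hGs : Gsᵀ = Gs) (hdGa : IsUnit Ga.det) (hdGs : IsUnit Gs.det)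
    (hb : 3 ≤ b) (hD : TData H (sympForm m F) a b e P Ga Gs) : InSpClass m H := by
  have h2 := Cfsg.Agent.Lib.Helper82_AschSp_SP4b.two_ne_zero_of_odd_card hodd
  refine ⟨tensorProductSubgroup a b e P ⊓ spGL m F, ?_, le_inf ?_ hH⟩
  · right; right; right; left
    refine ⟨a, b, e, P, gramForm Ga, gramForm Gs, hodd, hb,
      isSymplecticForm_gramForm h2 Ga hGa hdGa, isSymmetricForm_gramForm Gs hGs hdGs, ?_, rfl⟩
    refine ⟨1, one_ne_zero, fun x y => ?_⟩
    rw [one_mul, gramMatrix_gramForm, gramMatrix_gramForm, formOfGram_id]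
    exact hD.form x y
  · intro h hh
    obtain ⟨α, γ, hαγ⟩ := hD.grp h hh
    exact mem_conj_reindex' (kroneckerSubgroup a b F) e P h (kronGL α γ) (kronGL_mem α γ) hαγ

/-- the symmetric factor has dimension 2: package SP4b applies -/
theorem case_two (m : ℕ) (hodd : Odd (Fintype.card F)) (H : Subgroup (GL (Fin m ⊕ Fin m) F))
    (hH : H ≤ spGL m F) {a : ℕ} (e : (Fin m ⊕ Fin m) ≃ Fin a × Fin 2)
    (P : GL (Fin m ⊕ Fin m) F) (Ga : Matrix (Fin a) (Fin a) F) (Gs : Matrix (Fin 2) (Fin 2) F)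
    (hGa : Gaᵀ = -Ga) (hGs : Gsᵀ = Gs) (hdGa : IsUnit Ga.det) (hdGs : IsUnit Gs.det)
    (ha : 0 < a) (hD : TData H (sympForm m F) a 2 e P Ga Gs) : InSpClass m H := by
  classical
  have hGs' : Gs 1 0 = Gs 0 1 := by
    have := congrFun (congrFun hGs 0) 1
    rwa [Matrix.transpose_apply] at this
  set J : Matrix (Fin m ⊕ Fin m) (Fin m ⊕ Fin m) F :=
    conjP e P ((1 : Matrix (Fin a) (Fin a) F) ⊗ₖ j0 Gs) with hJ
  have hkk : ∀ (X X' : Matrix (Fin a) (Fin a) F) (Y Y' : Matrix (Fin 2) (Fin 2) F),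
      (X ⊗ₖ Y) * (X' ⊗ₖ Y') = (X * X') ⊗ₖ (Y * Y') := fun X X' Y Y' =>
    (Matrix.mul_kronecker_mul X X' Y Y').symm
  refine Cfsg.Agent.Lib.Helper82_AschSp_SP4b.SP4b m hodd H hH J (-Gs.det)
    (neg_ne_zero.2 hdGs.ne_zero) ?_ ?_ ?_
  · -- `J * J`
    rw [hJ, ← conjP_mul, hkk, one_mul, j0_sq Gs hGs']
    have : (1 : Matrix (Fin a) (Fin a) F) ⊗ₖ ((-Gs.det) • (1 : Matrix (Fin 2) (Fin 2) F)) =
        (-Gs.det) • (1 : Matrix (Fin a × Fin 2) (Fin a × Fin 2) F) := by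
      rw [Matrix.kronecker_smul, Matrix.one_kronecker_one]
    rw [this, conjP_smul, conjP_one]
  · -- skew-adjointness
    intro u v
    obtain ⟨x, rfl⟩ := exists_coord e P u
    obtain ⟨y, rfl⟩ := exists_coord e P v
    rw [hJ, conjP_mulVec, conjP_mulVec, hD.form, hD.form]
    have h1 : (((1 : Matrix (Fin a) (Fin a) F) ⊗ₖ j0 Gs) *ᵥ x) ⬝ᵥ (Ga ⊗ₖ Gs) *ᵥ y =
        x ⬝ᵥ (((1 : Matrix (Fin a) (Fin a) F) ⊗ₖ j0 Gs)ᵀ * (Ga ⊗ₖ Gs)) *ᵥ y := by
      rw [← Matrix.mulVec_mulVec, Matrix.dotProduct_mulVec x, Matrix.vecMul_transpose]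
    have h3 : ((1 : Matrix (Fin a) (Fin a) F) ⊗ₖ j0 Gs)ᵀ * (Ga ⊗ₖ Gs) =
        -((Ga ⊗ₖ Gs) * ((1 : Matrix (Fin a) (Fin a) F) ⊗ₖ j0 Gs)) := by
      rw [← Matrix.kroneckerMap_transpose, Matrix.transpose_one, hkk, hkk, one_mul, mul_one,
        j0_skew Gs hGs']
      ext p q
      simp [Matrix.kroneckerMap_apply]
    rw [h1, h3, Matrix.neg_mulVec, dotProduct_neg, Matrix.mulVec_mulVec]
  · -- conjugation
    intro h hh
    obtain ⟨α, γ, hαγ⟩ := hD.grp h hh
    have hval := val_eq_conjP e P h α γ hαγ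
    set αm : Matrix (Fin a) (Fin a) F := (α : Matrix (Fin a) (Fin a) F) with hαm
    set γm : Matrix (Fin 2) (Fin 2) F := (γ : Matrix (Fin 2) (Fin 2) F) with hγm
    -- `γ` is a similitude of `Gs`
    have hiso := (mem_spGL_iff h).1 (hH hh)
    have hT : (αm ⊗ₖ γm)ᵀ * (Ga ⊗ₖ Gs) * (αm ⊗ₖ γm) = Ga ⊗ₖ Gs := by
      apply eq_of_dot_eq
      intro x y
      have := hiso ((P : Matrix _ _ F) *ᵥ (x ∘ e)) ((P : Matrix _ _ F) *ᵥ (y ∘ e))
      rw [hval, conjP_mulVec, conjP_mulVec, hD.form, hD.form, mulVec_dot_mulVec] at this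
      exact this
    have hT' : (αmᵀ * Ga * αm) ⊗ₖ (γmᵀ * Gs * γm) = Ga ⊗ₖ Gs := by
      rw [← hT, ← Matrix.kroneckerMap_transpose, hkk, hkk]
    have hGa0 : Ga ≠ 0 := ne_zero_of_isUnit_det ha hdGa
    have hGs0 : Gs ≠ 0 := ne_zero_of_isUnit_det (by decide) hdGs
    obtain ⟨c, hc0, hc⟩ := kron_prop hGa0 hGs0 hT'
    have hcomm : (αm ⊗ₖ γm) * ((1 : Matrix (Fin a) (Fin a) F) ⊗ₖ j0 Gs) =
        αm ⊗ₖ (γm * j0 Gs) := by rw [hkk, mul_one]
    have hcomm' : ((1 : Matrix (Fin a) (Fin a) F) ⊗ₖ j0 Gs) * (αm ⊗ₖ γm) =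
        αm ⊗ₖ (j0 Gs * γm) := by rw [hkk, one_mul]
    rcases j0_simil Gs γm hGs hdGs c hc0 hc with h1 | h1
    · left
      rw [hval, hJ, ← conjP_mul, ← conjP_mul, hcomm, hcomm', h1]
    · right
      have hneg : αm ⊗ₖ (-(j0 Gs * γm)) = -(αm ⊗ₖ (j0 Gs * γm)) := by
        ext p q
        simp [Matrix.kroneckerMap_apply]
      rw [hval, hJ, ← conjP_mul, ← conjP_mul, ← conjP_neg, hcomm, hcomm', h1, hneg]

/-- both cases together -/
theorem of_tdata (m : ℕ) (hodd : Odd (Fintype.card F)) (H : Subgroup (GL (Fin m ⊕ Fin m) F))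
    (hH : H ≤ spGL m F) {a b : ℕ} (e : (Fin m ⊕ Fin m) ≃ Fin a × Fin b)
    (P : GL (Fin m ⊕ Fin m) F) (Ga : Matrix (Fin a) (Fin a) F) (Gs : Matrix (Fin b) (Fin b) F)
    (hGa : Gaᵀ = -Ga) (hGs : Gsᵀ = Gs) (hdGa : IsUnit Ga.det) (hdGs : IsUnit Gs.det)
    (ha : 1 < a) (hb : 1 < b) (hD : TData H (sympForm m F) a b e P Ga Gs) : InSpClass m H := by
  by_cases hb3 : 3 ≤ b
  · exact case_ge_three m hodd H hH e P Ga Gs hGa hGs hdGa hdGs hb3 hD
  · have hb2 : b = 2 := by omega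
    subst hb2
    exact case_two m hodd H hH e P Ga Gs hGa hGs hdGa hdGs (by omega) hD

/-- SP4a: a normalized adjoint-closed tensor algebra, odd characteristic -/
theorem SP4a (m : ℕ) (hodd : Odd (Fintype.card F)) (H : Subgroup (GL (Fin m ⊕ Fin m) F)) (hH : H ≤ spGL m F)
    (A : Subalgebra F (Matrix (Fin m ⊕ Fin m) (Fin m ⊕ Fin m) F)) (hA : NormalizesAlg H A)
    (hadj : IsAdjointClosedFor (sympForm m F) A)
    (d s : ℕ) (e : (Fin m ⊕ Fin m) ≃ Fin d × Fin s) (P : GL (Fin m ⊕ Fin m) F) (hT : IsTensorAlg A d s e P)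
    (hd : 1 < d) (hs : 1 < s) : InSpClass m H := by
  classical
  have hsf := isSymplecticForm_sympForm (F := F) m
  obtain ⟨G₁, G₂, h₁, h₂, hform⟩ := Cfsg.Agent.Lib.Helper52_Form_F4.F4 (RingEquiv.refl F)
    (sympForm m F) (isSesq_of_bilinear hsf.bilinear) hsf.nondegenerate A hadj d s e P hT
  have hform' : ∀ x y : Fin d × Fin s → F,
      sympForm m F ((P : Matrix _ _ F) *ᵥ (x ∘ e)) ((P : Matrix _ _ F) *ᵥ (y ∘ e)) =
        x ⬝ᵥ (G₁ ⊗ₖ G₂) *ᵥ y := by
    intro x y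
    rw [hform]
    have : (⇑(RingEquiv.refl F) : F → F) = id := rfl
    rw [this, formOfGram_id]
  have hD : TData H (sympForm m F) d s e P G₁ G₂ :=
    ⟨hform', fun h hh => exists_kron' H A hA d s e P hT (by omega) (by omega) h hh⟩
  have hskew : (G₁ ⊗ₖ G₂)ᵀ = -(G₁ ⊗ₖ G₂) := by
    apply eq_of_dot_eq
    intro u v
    have h1 : u ⬝ᵥ (G₁ ⊗ₖ G₂)ᵀ *ᵥ v = v ⬝ᵥ (G₁ ⊗ₖ G₂) *ᵥ u :=
      (gramForm_swap (G₁ ⊗ₖ G₂) v u).symm
    rw [h1, ← hform', hsf.skew, hform', Matrix.neg_mulVec, dotProduct_neg]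
  rcases kron_skew_cases (by omega) (by omega) h₁ h₂ hskew with ⟨hG₁, hG₂⟩ | ⟨hG₁, hG₂⟩
  · exact of_tdata m hodd H hH e P G₁ G₂ hG₁ hG₂ h₁ h₂ hd hs hD
  · exact of_tdata m hodd H hH (e.trans (Equiv.prodComm (Fin d) (Fin s))) P G₂ G₁ hG₂ hG₁ h₂ h₁
      hs hd hD.swap

end main

end Cfsg.Agent.Lib.Helper82_AschSp_SP4a
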