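import Mathlib
import Cfsg.Prelude.Def_GeometricClasses
import Cfsg.Agent.Lib.Helper82_AschSp_SP4a

/-!
# PL11 (helper10, for helper85, S5871)

Over the field with two elements the stabiliser of a tensor decomposition `2 ⊗ n₂` normalises a
subfield of degree 2 (`GL₂(2)` normalises `F₄ ⊂ M₂(F₂)`).
-/

set_option autoImplicit false

open Cfsg Cfsg.Geo Matrix Cfsg.Agent.Lib.Helper82_AschSp_SP4a
open scoped Kronecker

namespace Cfsg.Agent.Lib.Helper10_OrthEven_PL11

section quad

variable {ι : Type} [Fintype ι] [DecidableEq ι] {F : Type*} [Field F]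

/-- the product formula in `F + F R`, `R² = t R + s` -/
theorem mul_formula (R : Matrix ι ι F) (t s : F) (hR : R * R = t • R + s • (1 : Matrix ι ι F))
    (α β γ δ : F) :
    (α • (1 : Matrix ι ι F) + β • R) * (γ • (1 : Matrix ι ι F) + δ • R) =
      (α * γ + β * δ * s) • (1 : Matrix ι ι F) + (α * δ + β * γ + β * δ * t) • R := by
  rw [add_mul, mul_add, mul_add, smul_mul_smul_comm, smul_mul_smul_comm, smul_mul_smul_comm,
    smul_mul_smul_comm, one_mul, one_mul, mul_one, hR]
  module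

/-- the subalgebra `F + F R` -/
def KQ (R : Matrix ι ι F) (t s : F) (hR : R * R = t • R + s • (1 : Matrix ι ι F)) :
    Subalgebra F (Matrix ι ι F) where
  carrier := {k | ∃ α β : F, k = α • (1 : Matrix ι ι F) + β • R}
  mul_mem' := by
    rintro _ _ ⟨α, β, rfl⟩ ⟨γ, δ, rfl⟩
    exact ⟨_, _, mul_formula R t s hR α β γ δ⟩
  one_mem' := ⟨1, 0, by simp⟩
  add_mem' := by
    rintro _ _ ⟨α, β, rfl⟩ ⟨γ, δ, rfl⟩
    exact ⟨α + γ, β + δ, by module⟩
  zero_mem' := ⟨0, 0, by simp⟩
  algebraMap_mem' := fun r => ⟨r, 0, by simp [Algebra.algebraMap_eq_smul_one]⟩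

theorem mem_KQ (R : Matrix ι ι F) (t s : F) (hR : R * R = t • R + s • (1 : Matrix ι ι F))
    (k : Matrix ι ι F) :
    k ∈ KQ R t s hR ↔ ∃ α β : F, k = α • (1 : Matrix ι ι F) + β • R := Iff.rfl

omit [Fintype ι] in
theorem smul_one_inj [Nonempty ι] {a b : F}
    (h : a • (1 : Matrix ι ι F) = b • (1 : Matrix ι ι F)) : a = b := by
  obtain ⟨i⟩ := ‹Nonempty ι›
  have := congrFun (congrFun h i) i
  simpa using this

/-- `F + F R` is a field of degree 2 when `X² - t X - s` is irreducible. -/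
theorem isField_KQ [Nonempty ι] (R : Matrix ι ι F) (t s : F)
    (hR : R * R = t • R + s • (1 : Matrix ι ι F)) (hirr : ∀ r : F, r * r ≠ t * r + s) :
    IsFieldSubalgebra 2 (KQ R t s hR) := by
  have h1ne : (1 : Matrix ι ι F) ≠ 0 := one_ne_zero
  have hnotscalar : ∀ r : F, R ≠ r • (1 : Matrix ι ι F) := by
    intro r hr
    apply hirr r
    have h1 := hR
    rw [hr, smul_mul_smul_comm, one_mul, smul_smul, ← add_smul] at h1
    exact smul_one_inj h1
  have hind : ∀ a b : F, a • (1 : Matrix ι ι F) + b • R = 0 → a = 0 ∧ b = 0 := by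
    intro a b hab
    by_cases hb : b = 0
    · subst hb
      rw [zero_smul, add_zero] at hab
      exact ⟨(smul_eq_zero.1 hab).resolve_right h1ne, rfl⟩
    · exfalso
      apply hnotscalar (-(a / b))
      have h3 : b • R = (-a) • (1 : Matrix ι ι F) := by
        rw [neg_smul]; exact eq_neg_of_add_eq_zero_right hab
      have h4 : R = b⁻¹ • (b • R) := by rw [smul_smul, inv_mul_cancel₀ hb, one_smul]
      rw [h4, h3, smul_smul]
      congr 1
      field_simp
  refine ⟨?_, ?_, ?_⟩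
  · rintro _ ⟨a, b, rfl⟩ _ ⟨a', b', rfl⟩
    rw [mul_formula R t s hR, mul_formula R t s hR]
    congr 2 <;> ring
  · rintro _ ⟨a, b, rfl⟩ hx
    have hd : a * a + a * b * t - b * b * s ≠ 0 := by
      intro hd
      by_cases hb : b = 0
      · subst hb
        have ha : a = 0 := by
          have : a * a = 0 := by linear_combination hd
          exact mul_self_eq_zero.1 this
        apply hx
        rw [ha, zero_smul, zero_smul, add_zero]
      · apply hirr (-(a / b))
        field_simp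
        linear_combination hd
    obtain ⟨N, hN⟩ : ∃ N, N = a * a + a * b * t - b * b * s := ⟨_, rfl⟩
    rw [← hN] at hd
    refine ⟨(N⁻¹ * (a + b * t)) • (1 : Matrix ι ι F) + (-(N⁻¹ * b)) • R, ⟨_, _, rfl⟩, ?_⟩
    rw [mul_formula R t s hR]
    have e1 : a * (N⁻¹ * (a + b * t)) + b * -(N⁻¹ * b) * s = 1 := by
      have e0 : a * (N⁻¹ * (a + b * t)) + b * -(N⁻¹ * b) * s =
          N⁻¹ * (a * a + a * b * t - b * b * s) := by ring
      rw [e0, ← hN, inv_mul_cancel₀ hd]
    have e2 : a * -(N⁻¹ * b) + b * (N⁻¹ * (a + b * t)) + b * -(N⁻¹ * b) * t = 0 := by ring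
    rw [e1, e2, one_smul, zero_smul, add_zero]
  · let φ : (F × F) →ₗ[F] (KQ R t s hR) :=
      { toFun := fun p => ⟨p.1 • (1 : Matrix ι ι F) + p.2 • R, ⟨p.1, p.2, rfl⟩⟩
        map_add' := by
          intro p q
          apply Subtype.ext
          show (p + q).1 • (1 : Matrix ι ι F) + (p + q).2 • R =
            (p.1 • (1 : Matrix ι ι F) + p.2 • R) + (q.1 • (1 : Matrix ι ι F) + q.2 • R)
          rw [Prod.fst_add, Prod.snd_add]
          module
        map_smul' := by
          intro r p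
          apply Subtype.ext
          show (r • p).1 • (1 : Matrix ι ι F) + (r • p).2 • R = r • (p.1 • (1 : Matrix ι ι F) + p.2 • R)
          rw [Prod.smul_fst, Prod.smul_snd, smul_eq_mul, smul_eq_mul]
          module }
    have hinj : Function.Injective φ := by
      rw [← LinearMap.ker_eq_bot, LinearMap.ker_eq_bot']
      intro p hp
      have hp' : p.1 • (1 : Matrix ι ι F) + p.2 • R = 0 := congrArg Subtype.val hp
      obtain ⟨h1, h2⟩ := hind _ _ hp'
      exact Prod.ext h1 h2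
    have hsurj : Function.Surjective φ := by
      rintro ⟨x, a, b, rfl⟩
      exact ⟨(a, b), rfl⟩
    have e := LinearEquiv.ofBijective φ ⟨hinj, hsurj⟩
    rw [← e.finrank_eq, Module.finrank_prod, Module.finrank_self]

end quad

section two

variable {F : Type*} [Field F]

/-- the elements of a field with two elements -/
theorem zero_or_one [Fintype F] (hq : Fintype.card F = 2) (c : F) : c = 0 ∨ c = 1 := by
  classical
  by_contra hcon
  push Not at hcon
  have h3 : ({0, 1, c} : Finset F).card = 3 := by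
    rw [Finset.card_insert_of_notMem, Finset.card_insert_of_notMem, Finset.card_singleton]
    · simp only [Finset.mem_singleton]; exact fun h => hcon.2 h.symm
    · simp only [Finset.mem_insert, Finset.mem_singleton, not_or]
      exact ⟨zero_ne_one, fun h => hcon.1 h.symm⟩
  have := Finset.card_le_univ ({0, 1, c} : Finset F)
  omega

theorem two_eq_zero' [Fintype F] (hq : Fintype.card F = 2) : (2 : F) = 0 := by
  rcases zero_or_one hq (2 : F) with h | h
  · exact h
  · exfalso
    have : (1 : F) = 0 := by linear_combination h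
    exact one_ne_zero this

/-- over `F₂`, a `2 × 2` matrix with `M² = M + 1` is `M₀₀ + ω`. -/
theorem eq_of_sq [Fintype F] (hq : Fintype.card F = 2) (M : Matrix (Fin 2) (Fin 2) F)
    (hM : M * M = M + 1) :
    M = M 0 0 • (1 : Matrix (Fin 2) (Fin 2) F) + !![0, 1; 1, 1] := by
  have h2 := two_eq_zero' hq
  have hsq : ∀ c : F, c * c = c := by
    intro c
    rcases zero_or_one hq c with h | h <;> rw [h] <;> ring
  have e00 := congrFun (congrFun hM 0) 0
  have e01 := congrFun (congrFun hM 0) 1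
  simp only [Matrix.mul_apply, Fin.sum_univ_two, Matrix.add_apply, Matrix.one_apply_eq] at e00
  simp only [Matrix.mul_apply, Fin.sum_univ_two, Matrix.add_apply] at e01
  rw [Matrix.one_apply_ne (by decide)] at e01
  have h1 : M 0 1 * M 1 0 = 1 := by linear_combination e00 - hsq (M 0 0)
  have h01 : M 0 1 = 1 := by
    rcases zero_or_one hq (M 0 1) with h | h
    · rw [h, zero_mul] at h1; exact absurd h1 zero_ne_one
    · exact h
  have h10 : M 1 0 = 1 := by rw [h01, one_mul] at h1; exact h1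
  have h11 : M 1 1 = M 0 0 + 1 := by
    rw [h01] at e01
    linear_combination e01 - M 0 0 * h2
  ext i j
  fin_cases i <;> fin_cases j
  · simp
  · simp [h01]
  · simp [h10]
  · simp [h11]

end two

section main

variable {ι : Type} [Fintype ι] [DecidableEq ι] {F : Type*} [Field F]

theorem conjP_add {a b : ℕ} (e : ι ≃ Fin a × Fin b) (P : GL ι F)
    (X Y : Matrix (Fin a × Fin b) (Fin a × Fin b) F) :
    conjP e P (X + Y) = conjP e P X + conjP e P Y := by
  unfold conjP
  have h : Matrix.reindex e.symm e.symm (X + Y) =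
      Matrix.reindex e.symm e.symm X + Matrix.reindex e.symm e.symm Y :=
    map_add (Matrix.reindexAlgEquiv F F e.symm) X Y
  rw [h, mul_add, add_mul]

/-- PL11: over the field with 2 elements the stabiliser of a tensor decomposition `2 ⊗ n₂` normalises a subfield of
degree 2 (`GL₂(2)` normalises `F₄ ⊂ M₂(F₂)`) -/
theorem PL11 [Fintype F] (hq : Fintype.card F = 2) (n₂ : ℕ) (hn₂ : 0 < n₂) (e : ι ≃ Fin 2 × Fin n₂) (P : GL ι F) :
    ∃ K : Subalgebra F (Matrix ι ι F), IsFieldSubalgebra 2 K ∧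
      tensorProductSubgroup 2 n₂ e P ≤ subalgebraNormalizer K := by
  classical
  have hι : Nonempty ι := ⟨e.symm (0, ⟨0, hn₂⟩)⟩
  have h2 := two_eq_zero' hq
  obtain ⟨ω, hω⟩ : ∃ ω : Matrix (Fin 2) (Fin 2) F, ω = !![0, 1; 1, 1] := ⟨_, rfl⟩
  have hωω : ω * ω = ω + 1 := by
    rw [hω]
    ext i j
    fin_cases i <;> fin_cases j <;> simp [Matrix.mul_apply, Fin.sum_univ_two]
  have hkk : ∀ (X X' : Matrix (Fin 2) (Fin 2) F) (Y Y' : Matrix (Fin n₂) (Fin n₂) F),
      (X ⊗ₖ Y) * (X' ⊗ₖ Y') = (X * X') ⊗ₖ (Y * Y') := fun X X' Y Y' =>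
    (Matrix.mul_kronecker_mul X X' Y Y').symm
  obtain ⟨W, hW⟩ : ∃ W : Matrix ι ι F, W = conjP e P (ω ⊗ₖ (1 : Matrix (Fin n₂) (Fin n₂) F)) :=
    ⟨_, rfl⟩
  have hWW : W * W = (1 : F) • W + (1 : F) • (1 : Matrix ι ι F) := by
    rw [hW, ← conjP_mul, hkk, hωω, one_mul, Matrix.add_kronecker, conjP_add, Matrix.one_kronecker_one,
      conjP_one, one_smul, one_smul]
  have hirr : ∀ r : F, r * r ≠ 1 * r + 1 := by
    intro r
    rcases zero_or_one hq r with h | h <;> rw [h]
    · rw [mul_zero, mul_zero, zero_add]; exact zero_ne_one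
    · rw [mul_one, one_add_one_eq_two, h2]; exact one_ne_zero
  refine ⟨KQ W 1 1 hWW, isField_KQ W 1 1 hWW hirr, ?_⟩
  -- forward inclusion for every element of the tensor subgroup
  have key : ∀ g ∈ tensorProductSubgroup 2 n₂ e P, ∀ k ∈ KQ W 1 1 hWW,
      (g : Matrix ι ι F) * k * ((g⁻¹ : GL ι F) : Matrix ι ι F) ∈ KQ W 1 1 hWW := by
    intro g hg
    obtain ⟨y, ⟨k₀, ⟨α, γ, hk⟩, rfl⟩, hy⟩ := hg
    obtain ⟨αm, hαm⟩ : ∃ αm : Matrix (Fin 2) (Fin 2) F, αm = (α : Matrix (Fin 2) (Fin 2) F) :=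
      ⟨_, rfl⟩
    obtain ⟨γm, hγm⟩ : ∃ γm : Matrix (Fin n₂) (Fin n₂) F, γm = (γ : Matrix (Fin n₂) (Fin n₂) F) :=
      ⟨_, rfl⟩
    obtain ⟨αi, hαi⟩ : ∃ αi : Matrix (Fin 2) (Fin 2) F,
        αi = ((α⁻¹ : GL (Fin 2) F) : Matrix (Fin 2) (Fin 2) F) := ⟨_, rfl⟩
    obtain ⟨γi, hγi⟩ : ∃ γi : Matrix (Fin n₂) (Fin n₂) F,
        γi = ((γ⁻¹ : GL (Fin n₂) F) : Matrix (Fin n₂) (Fin n₂) F) := ⟨_, rfl⟩
    have hαα : αm * αi = 1 := by rw [hαm, hαi, ← Units.val_mul, mul_inv_cancel, Units.val_one]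
    have hαα' : αi * αm = 1 := by rw [hαm, hαi, ← Units.val_mul, inv_mul_cancel, Units.val_one]
    have hγγ : γm * γi = 1 := by rw [hγm, hγi, ← Units.val_mul, mul_inv_cancel, Units.val_one]
    have hval : (g : Matrix ι ι F) = conjP e P (αm ⊗ₖ γm) := by
      rw [← hy, hαm, hγm, ← hk]
      simp only [MulEquiv.coe_toMonoidHom, MulAut.conj_apply, Units.val_mul]
      rfl
    have hinv : ((g⁻¹ : GL ι F) : Matrix ι ι F) = conjP e P (αi ⊗ₖ γi) := by
      have h1 : (g : Matrix ι ι F) * conjP e P (αi ⊗ₖ γi) = 1 := by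
        rw [hval, ← conjP_mul, hkk, hαα, hγγ, Matrix.one_kronecker_one, conjP_one]
      calc ((g⁻¹ : GL ι F) : Matrix ι ι F)
          = ((g⁻¹ : GL ι F) : Matrix ι ι F) * ((g : Matrix ι ι F) * conjP e P (αi ⊗ₖ γi)) := by
            rw [h1, mul_one]
        _ = conjP e P (αi ⊗ₖ γi) := by
            rw [← mul_assoc, inv_mul_val, one_mul]
    obtain ⟨M, hM⟩ : ∃ M : Matrix (Fin 2) (Fin 2) F, M = αm * ω * αi := ⟨_, rfl⟩
    have hMM : M * M = M + 1 := by
      rw [hM]
      calc αm * ω * αi * (αm * ω * αi) = αm * ω * (αi * αm) * ω * αi := by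
            simp only [mul_assoc]
        _ = αm * (ω * ω) * αi := by rw [hαα', mul_one]; simp only [mul_assoc]
        _ = αm * ω * αi + 1 := by
            rw [hωω, mul_add, add_mul, mul_one, hαα]
    have hMeq := eq_of_sq hq M hMM
    have hgW : (g : Matrix ι ι F) * W * ((g⁻¹ : GL ι F) : Matrix ι ι F) =
        M 0 0 • (1 : Matrix ι ι F) + (1 : F) • W := by
      rw [hval, hinv, hW, ← conjP_mul, ← conjP_mul, hkk, hkk, mul_one, hγγ, ← hM, one_smul]
      nth_rewrite 1 [hMeq]
      rw [← hω, Matrix.add_kronecker, Matrix.smul_kronecker, Matrix.one_kronecker_one, conjP_add,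
        conjP_smul, conjP_one]
    rintro _ ⟨a, b, rfl⟩
    have : (g : Matrix ι ι F) * (a • (1 : Matrix ι ι F) + b • W) * ((g⁻¹ : GL ι F) : Matrix ι ι F) =
        a • (1 : Matrix ι ι F) +
          b • ((g : Matrix ι ι F) * W * ((g⁻¹ : GL ι F) : Matrix ι ι F)) := by
      rw [mul_add, add_mul, mul_smul_comm, mul_smul_comm, smul_mul_assoc, smul_mul_assoc, mul_one,
        mul_inv_val]
    rw [this, hgW]
    exact ⟨a + b * M 0 0, b, by module⟩
  intro g hg k
  constructor
  · exact key g hg k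
  · intro hk'
    have h7 := key g⁻¹ ((tensorProductSubgroup 2 n₂ e P).inv_mem hg) _ hk'
    rw [inv_inv] at h7
    have h8 : ((g⁻¹ : GL ι F) : Matrix ι ι F) *
        ((g : Matrix ι ι F) * k * ((g⁻¹ : GL ι F) : Matrix ι ι F)) * (g : Matrix ι ι F) = k := by
      rw [← mul_assoc, ← mul_assoc, inv_mul_val, one_mul, mul_assoc, inv_mul_val, mul_one]
    rwa [h8] at h7

end main

end Cfsg.Agent.Lib.Helper10_OrthEven_PL11
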