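import Mathlib

/-!
# PL13a (helper10, for helper85, S5871)

A proper similitude of the hyperbolic form `J ⊗ J` on `F² ⊗ F²` (the polar form of `det` on `2 × 2`
matrices), `2 ≠ 0`, is a Kronecker product.
-/

set_option autoImplicit false

open Matrix
open scoped Kronecker

namespace Cfsg.Agent.Lib.Helper10_OrthEven_PL13a

variable {F : Type*} [Field F]

/-- A `2 × 2` array of determinant zero is a pure tensor. -/
theorem rank_one (A00 A01 A10 A11 : F) (h : A00 * A11 - A01 * A10 = 0) :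
    ∃ a0 a1 b0 b1 : F, A00 = a0 * b0 ∧ A01 = a0 * b1 ∧ A10 = a1 * b0 ∧ A11 = a1 * b1 := by
  by_cases h0 : A00 = 0
  · by_cases h1 : A01 = 0
    · exact ⟨0, 1, A10, A11, by rw [h0]; ring, by rw [h1]; ring, by ring, by ring⟩
    · have h10 : A10 = 0 := by
        have : A01 * A10 = 0 := by rw [h0] at h; linear_combination -h
        rcases mul_eq_zero.mp this with h' | h'
        · exact absurd h' h1
        · exact h'
      refine ⟨1, A11 / A01, A00, A01, by ring, by ring, ?_, ?_⟩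
      · rw [h10, h0]; ring
      · field_simp
  · refine ⟨1, A10 / A00, A00, A01, by ring, by ring, ?_, ?_⟩
    · field_simp
    · field_simp
      linear_combination h

/-- The scalar core: four singular `2 × 2` arrays `A, B, C, D` with the polar relations of the images
of the matrix units under a similitude of `det` with multiplier `ν ≠ 0`. -/
theorem core (ν : F) (hν : ν ≠ 0)
    (A00 A01 A10 A11 B00 B01 B10 B11 C00 C01 C10 C11 D00 D01 D10 D11 : F)
    (hA : A00 * A11 - A01 * A10 = 0) (hB : B00 * B11 - B01 * B10 = 0)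
    (hC : C00 * C11 - C01 * C10 = 0) (hD : D00 * D11 - D01 * D10 = 0)
    (hAB : A00 * B11 + A11 * B00 - A01 * B10 - A10 * B01 = 0)
    (hAC : A00 * C11 + A11 * C00 - A01 * C10 - A10 * C01 = 0)
    (hBD : B00 * D11 + B11 * D00 - B01 * D10 - B10 * D01 = 0)
    (hCD : C00 * D11 + C11 * D00 - C01 * D10 - C10 * D01 = 0)
    (hAD : A00 * D11 + A11 * D00 - A01 * D10 - A10 * D01 = ν)
    (hBC : B00 * C11 + B11 * C00 - B01 * C10 - B10 * C01 = -ν) :
    ∃ a0 a1 a0' a1' b0 b1 b0' b1' : F,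
      (A00 = a0 * b0 ∧ A01 = a0 * b1 ∧ A10 = a1 * b0 ∧ A11 = a1 * b1) ∧
      (D00 = a0' * b0' ∧ D01 = a0' * b1' ∧ D10 = a1' * b0' ∧ D11 = a1' * b1') ∧
      (((B00 = a0 * b0' ∧ B01 = a0 * b1' ∧ B10 = a1 * b0' ∧ B11 = a1 * b1') ∧
        (C00 = a0' * b0 ∧ C01 = a0' * b1 ∧ C10 = a1' * b0 ∧ C11 = a1' * b1)) ∨
       ((B00 = a0' * b0 ∧ B01 = a0' * b1 ∧ B10 = a1' * b0 ∧ B11 = a1' * b1) ∧
        (C00 = a0 * b0' ∧ C01 = a0 * b1' ∧ C10 = a1 * b0' ∧ C11 = a1 * b1'))) := by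
  obtain ⟨a0, a1, b0, b1, rfl, rfl, rfl, rfl⟩ := rank_one A00 A01 A10 A11 hA
  obtain ⟨c0, c1, d0, d1, rfl, rfl, rfl, rfl⟩ := rank_one D00 D01 D10 D11 hD
  have hΔ : (a0 * c1 - a1 * c0) * (b0 * d1 - b1 * d0) = ν := by linear_combination hAD
  -- coordinates of `B` and `C` in the basis `a⊗b, a⊗d, c⊗b, c⊗d`
  obtain ⟨x, hx⟩ : ∃ x, x = -(B00 * (c1 * b1) + B11 * (c0 * b0) - B01 * (c1 * b0) - B10 * (c0 * b1)) / ν :=
    ⟨_, rfl⟩
  obtain ⟨y, hy⟩ : ∃ y, y = -(B00 * (a1 * d1) + B11 * (a0 * d0) - B01 * (a1 * d0) - B10 * (a0 * d1)) / ν :=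
    ⟨_, rfl⟩
  obtain ⟨x', hx'⟩ : ∃ x', x' = -(C00 * (c1 * b1) + C11 * (c0 * b0) - C01 * (c1 * b0) - C10 * (c0 * b1)) / ν :=
    ⟨_, rfl⟩
  obtain ⟨y', hy'⟩ : ∃ y', y' = -(C00 * (a1 * d1) + C11 * (a0 * d0) - C01 * (a1 * d0) - C10 * (a0 * d1)) / ν :=
    ⟨_, rfl⟩
  have hxν : ν * x = -(B00 * (c1 * b1) + B11 * (c0 * b0) - B01 * (c1 * b0) - B10 * (c0 * b1)) := by
    rw [hx]; field_simp
  have hyν : ν * y = -(B00 * (a1 * d1) + B11 * (a0 * d0) - B01 * (a1 * d0) - B10 * (a0 * d1)) := by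
    rw [hy]; field_simp
  have hx'ν : ν * x' = -(C00 * (c1 * b1) + C11 * (c0 * b0) - C01 * (c1 * b0) - C10 * (c0 * b1)) := by
    rw [hx']; field_simp
  have hy'ν : ν * y' = -(C00 * (a1 * d1) + C11 * (a0 * d0) - C01 * (a1 * d0) - C10 * (a0 * d1)) := by
    rw [hy']; field_simp
  have eB00 : B00 = x * (a0 * d0) + y * (c0 * b0) := by
    apply mul_left_cancel₀ hν
    linear_combination (-B00) * hΔ - (a0 * d0) * hxν - (c0 * b0) * hyν + (a0 * b0) * hBD + (c0 * d0) * hAB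
  have eB01 : B01 = x * (a0 * d1) + y * (c0 * b1) := by
    apply mul_left_cancel₀ hν
    linear_combination (-B01) * hΔ - (a0 * d1) * hxν - (c0 * b1) * hyν + (a0 * b1) * hBD + (c0 * d1) * hAB
  have eB10 : B10 = x * (a1 * d0) + y * (c1 * b0) := by
    apply mul_left_cancel₀ hν
    linear_combination (-B10) * hΔ - (a1 * d0) * hxν - (c1 * b0) * hyν + (a1 * b0) * hBD + (c1 * d0) * hAB
  have eB11 : B11 = x * (a1 * d1) + y * (c1 * b1) := by
    apply mul_left_cancel₀ hν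
    linear_combination (-B11) * hΔ - (a1 * d1) * hxν - (c1 * b1) * hyν + (a1 * b1) * hBD + (c1 * d1) * hAB
  have eC00 : C00 = x' * (a0 * d0) + y' * (c0 * b0) := by
    apply mul_left_cancel₀ hν
    linear_combination (-C00) * hΔ - (a0 * d0) * hx'ν - (c0 * b0) * hy'ν + (a0 * b0) * hCD + (c0 * d0) * hAC
  have eC01 : C01 = x' * (a0 * d1) + y' * (c0 * b1) := by
    apply mul_left_cancel₀ hν
    linear_combination (-C01) * hΔ - (a0 * d1) * hx'ν - (c0 * b1) * hy'ν + (a0 * b1) * hCD + (c0 * d1) * hAC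
  have eC10 : C10 = x' * (a1 * d0) + y' * (c1 * b0) := by
    apply mul_left_cancel₀ hν
    linear_combination (-C10) * hΔ - (a1 * d0) * hx'ν - (c1 * b0) * hy'ν + (a1 * b0) * hCD + (c1 * d0) * hAC
  have eC11 : C11 = x' * (a1 * d1) + y' * (c1 * b1) := by
    apply mul_left_cancel₀ hν
    linear_combination (-C11) * hΔ - (a1 * d1) * hx'ν - (c1 * b1) * hy'ν + (a1 * b1) * hCD + (c1 * d1) * hAC
  subst eB00 eB01 eB10 eB11 eC00 eC01 eC10 eC11
  have hxy : x * y = 0 := by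
    have : ν * (x * y) = 0 := by linear_combination (-(x * y)) * hΔ - hB
    rcases mul_eq_zero.mp this with h | h
    · exact absurd h hν
    · exact h
  have hx'y' : x' * y' = 0 := by
    have : ν * (x' * y') = 0 := by linear_combination (-(x' * y')) * hΔ - hC
    rcases mul_eq_zero.mp this with h | h
    · exact absurd h hν
    · exact h
  have hmix : x * y' + y * x' = 1 := by
    apply mul_left_cancel₀ hν
    linear_combination (-(x * y' + y * x')) * hΔ - hBC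
  rcases mul_eq_zero.mp hxy with h0 | h0
  · -- `x = 0`: the improper shape
    subst h0
    have hyx' : y * x' = 1 := by linear_combination hmix
    have hy'0 : y' = 0 := by
      rcases mul_eq_zero.mp hx'y' with h | h
      · rw [h, mul_zero] at hyx'; exact absurd hyx' zero_ne_one
      · exact h
    subst hy'0
    refine ⟨a0, a1, y * c0, y * c1, b0, b1, x' * d0, x' * d1, ⟨rfl, rfl, rfl, rfl⟩, ⟨?_, ?_, ?_, ?_⟩,
      Or.inr ⟨⟨?_, ?_, ?_, ?_⟩, ⟨?_, ?_, ?_, ?_⟩⟩⟩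
    · linear_combination (-(c0 * d0)) * hyx'
    · linear_combination (-(c0 * d1)) * hyx'
    · linear_combination (-(c1 * d0)) * hyx'
    · linear_combination (-(c1 * d1)) * hyx'
    all_goals ring
  · -- `y = 0`: the Kronecker shape
    subst h0
    have hxy' : x * y' = 1 := by linear_combination hmix
    have hx'0 : x' = 0 := by
      rcases mul_eq_zero.mp hx'y' with h | h
      · exact h
      · rw [h, mul_zero] at hxy'; exact absurd hxy' zero_ne_one
    subst hx'0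
    refine ⟨a0, a1, y' * c0, y' * c1, b0, b1, x * d0, x * d1, ⟨rfl, rfl, rfl, rfl⟩, ⟨?_, ?_, ?_, ?_⟩,
      Or.inl ⟨⟨?_, ?_, ?_, ?_⟩, ⟨?_, ?_, ?_, ?_⟩⟩⟩
    · linear_combination (-(c0 * d0)) * hxy'
    · linear_combination (-(c0 * d1)) * hxy'
    · linear_combination (-(c1 * d0)) * hxy'
    · linear_combination (-(c1 * d1)) * hxy'
    all_goals ring

/-- The polar relations between the columns of a similitude of `J ⊗ J`. -/
theorem polar_rel (J : Matrix (Fin 2) (Fin 2) F) (h00 : J 0 0 = 0) (h01 : J 0 1 = 1)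
    (h10 : J 1 0 = -1) (h11 : J 1 1 = 0) (γ : Matrix (Fin 2 × Fin 2) (Fin 2 × Fin 2) F) (ν : F)
    (hγ : γᵀ * (J ⊗ₖ J) * γ = ν • (J ⊗ₖ J)) (p q : Fin 2 × Fin 2) :
    γ (0, 0) p * γ (1, 1) q + γ (1, 1) p * γ (0, 0) q - γ (0, 1) p * γ (1, 0) q -
      γ (1, 0) p * γ (0, 1) q = ν * (J p.1 q.1 * J p.2 q.2) := by
  have := congrFun (congrFun hγ p) q
  simp only [Matrix.mul_apply, Matrix.transpose_apply, Matrix.smul_apply, Matrix.kroneckerMap_apply,
    Fintype.sum_prod_type, Fin.sum_univ_two, smul_eq_mul, h00, h01, h10, h11] at this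
  linear_combination this

theorem sign_prodComm : Equiv.Perm.sign (Equiv.prodComm (Fin 2) (Fin 2)) = -1 := by decide

/-- PL13a: a proper similitude of the hyperbolic form `J ⊗ J` on `F² ⊗ F²` (the polar form of `det` on 2 × 2 matrices) is
a Kronecker product -/
theorem PL13a (h2 : (2 : F) ≠ 0) (γ : Matrix (Fin 2 × Fin 2) (Fin 2 × Fin 2) F) (ν : F) (hν : ν ≠ 0)
    (hγ : γᵀ * ((!![0, 1; -1, 0] : Matrix (Fin 2) (Fin 2) F) ⊗ₖ (!![0, 1; -1, 0] : Matrix (Fin 2) (Fin 2) F)) * γ =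
      ν • ((!![0, 1; -1, 0] : Matrix (Fin 2) (Fin 2) F) ⊗ₖ (!![0, 1; -1, 0] : Matrix (Fin 2) (Fin 2) F)))
    (hdet : γ.det = ν ^ 2) :
    ∃ α β : Matrix (Fin 2) (Fin 2) F, γ = α ⊗ₖ β := by
  obtain ⟨J, hJ⟩ : ∃ J : Matrix (Fin 2) (Fin 2) F, J = !![0, 1; -1, 0] := ⟨_, rfl⟩
  have h00 : J 0 0 = 0 := by rw [hJ]; rfl
  have h01 : J 0 1 = 1 := by rw [hJ]; rfl
  have h10 : J 1 0 = -1 := by rw [hJ]; rfl
  have h11 : J 1 1 = 0 := by rw [hJ]; rfl
  rw [← hJ] at hγ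
  have hP := polar_rel J h00 h01 h10 h11 γ ν hγ
  have hdiag : ∀ p : Fin 2 × Fin 2, J p.1 p.1 * J p.2 p.2 = 0 →
      γ (0, 0) p * γ (1, 1) p - γ (0, 1) p * γ (1, 0) p = 0 := by
    intro p hp
    have := hP p p
    rw [hp, mul_zero] at this
    have h3 : (2 : F) * (γ (0, 0) p * γ (1, 1) p - γ (0, 1) p * γ (1, 0) p) = 0 := by
      linear_combination this
    rcases mul_eq_zero.mp h3 with h | h
    · exact absurd h h2
    · exact h
  have hA := hdiag (0, 0) (by simp [h00])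
  have hB := hdiag (0, 1) (by simp [h00])
  have hC := hdiag (1, 0) (by simp [h00])
  have hD := hdiag (1, 1) (by simp [h11])
  have hAB := hP (0, 0) (0, 1)
  have hAC := hP (0, 0) (1, 0)
  have hBD := hP (0, 1) (1, 1)
  have hCD := hP (1, 0) (1, 1)
  have hAD := hP (0, 0) (1, 1)
  have hBC := hP (0, 1) (1, 0)
  simp only [h00, h01, h10, h11, mul_zero, mul_one, mul_neg] at hAB hAC hBD hCD hAD hBC
  obtain ⟨a0, a1, a0', a1', b0, b1, b0', b1', ⟨eA00, eA01, eA10, eA11⟩, ⟨eD00, eD01, eD10, eD11⟩, hcase⟩ :=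
    core ν hν (γ (0, 0) (0, 0)) (γ (0, 1) (0, 0)) (γ (1, 0) (0, 0)) (γ (1, 1) (0, 0))
      (γ (0, 0) (0, 1)) (γ (0, 1) (0, 1)) (γ (1, 0) (0, 1)) (γ (1, 1) (0, 1))
      (γ (0, 0) (1, 0)) (γ (0, 1) (1, 0)) (γ (1, 0) (1, 0)) (γ (1, 1) (1, 0))
      (γ (0, 0) (1, 1)) (γ (0, 1) (1, 1)) (γ (1, 0) (1, 1)) (γ (1, 1) (1, 1))
      hA hB hC hD hAB hAC hBD hCD hAD hBC
  rcases hcase with ⟨⟨eB00, eB01, eB10, eB11⟩, ⟨eC00, eC01, eC10, eC11⟩⟩ |
    ⟨⟨eB00, eB01, eB10, eB11⟩, ⟨eC00, eC01, eC10, eC11⟩⟩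
  · refine ⟨!![a0, a0'; a1, a1'], !![b0, b0'; b1, b1'], ?_⟩
    ext ⟨i, j⟩ ⟨k, l⟩
    fin_cases i <;> fin_cases j <;> fin_cases k <;> fin_cases l <;>
      simp only [Fin.zero_eta, Fin.mk_one, Matrix.kroneckerMap_apply, Matrix.of_apply, Matrix.cons_val',
        Matrix.cons_val_zero, Matrix.cons_val_one, Matrix.cons_val_fin_one] <;>
      assumption
  · exfalso
    have hγ' : γ = ((!![a0, a0'; a1, a1'] : Matrix (Fin 2) (Fin 2) F) ⊗ₖ
        (!![b0, b0'; b1, b1'] : Matrix (Fin 2) (Fin 2) F)).submatrix id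
          (Equiv.prodComm (Fin 2) (Fin 2)) := by
      ext ⟨i, j⟩ ⟨k, l⟩
      fin_cases i <;> fin_cases j <;> fin_cases k <;> fin_cases l <;>
        simp only [Fin.zero_eta, Fin.mk_one, Matrix.submatrix_apply, id_eq, Equiv.prodComm_apply,
          Prod.swap_prod_mk, Matrix.kroneckerMap_apply, Matrix.of_apply, Matrix.cons_val',
          Matrix.cons_val_zero, Matrix.cons_val_one, Matrix.cons_val_fin_one] <;>
        assumption
    have hΔ : (a0 * a1' - a0' * a1) * (b0 * b1' - b0' * b1) = ν := by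
      rw [eA00, eA01, eA10, eA11, eD00, eD01, eD10, eD11] at hAD
      linear_combination hAD
    rw [hγ', Matrix.det_permute', Matrix.det_kronecker, sign_prodComm, Matrix.det_fin_two_of,
      Matrix.det_fin_two_of, Fintype.card_fin] at hdet
    have h4 : (2 : F) * ν ^ 2 = 0 := by
      push_cast at hdet
      linear_combination -hdet - (ν + (a0 * a1' - a0' * a1) * (b0 * b1' - b0' * b1)) * hΔ
    rcases mul_eq_zero.mp h4 with h | h
    · exact h2 h
    · exact hν (pow_eq_zero_iff (by norm_num) |>.mp h)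

end Cfsg.Agent.Lib.Helper10_OrthEven_PL13a
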