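import Mathlib
import Cfsg.Agent.Lib.Helper98_AschDefs
import Cfsg.Agent.Lib.Helper29_OrthOddDefs
import Cfsg.Agent.Lib.Helper44_StdForms

/-!
# S5673 package OP1 (helper10): a reducible group of isometries lies in a member of class 1
-/

set_option autoImplicit false
set_option linter.unusedVariables false

namespace Cfsg.Agent.Lib.Helper10_OrthOdd_OP1

open Cfsg Cfsg.Geo Matrix Cfsg.Agent.Lib.Helper98_AschDefs Cfsg.Agent.Lib.Helper29_OrthOddDefs
open scoped MatrixGroups

variable {F : Type*} [Field F]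

/-- `2 ≠ 0` in a finite field of odd order -/
theorem two_ne_zero_of_odd [Fintype F] (hodd : Odd (Fintype.card F)) : (2 : F) ≠ 0 := by
  intro h
  have hchar : ringChar F = 2 := by
    have : (ringChar F) ∣ 2 := (ringChar.spec F 2).mp (by exact_mod_cast h)
    rcases (Nat.dvd_prime Nat.prime_two).mp this with h1 | h1
    · exact absurd h1 (CharP.ringChar_ne_one)
    · exact h1
  have := FiniteField.even_card_of_char_two hchar
  rcases hodd with ⟨c, hc⟩
  omega

/-- membership in the subspace stabiliser from invariance under the subgroup -/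
theorem le_subspaceStabilizer {ι : Type} [Fintype ι] [DecidableEq ι] (H : Subgroup (GL ι F))
    (W : Submodule F (ι → F)) (hW : ∀ s ∈ matrixSet H, W.map (Matrix.toLin' s) ≤ W) :
    H ≤ subspaceStabilizer W := by
  intro g hg v
  constructor
  · intro hv
    have := hW _ (coe_mem_matrixSet hg) (Submodule.mem_map_of_mem hv)
    rwa [Matrix.toLin'_apply] at this
  · intro hv
    have := hW _ (coe_mem_matrixSet (H.inv_mem hg)) (Submodule.mem_map_of_mem hv)
    rw [Matrix.toLin'_apply] at this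
    change ((g⁻¹ : GL ι F) : Matrix ι ι F) *ᵥ ((g : Matrix ι ι F) *ᵥ v) ∈ W at this
    rwa [Matrix.mulVec_mulVec, ← Units.val_mul, inv_mul_cancel, Units.val_one,
      Matrix.one_mulVec] at this

/-- OP1: a reducible group of isometries stabilises a totally singular or a non-degenerate subspace (class 1) -/
theorem OP1 [Fintype F] (hodd : Odd (Fintype.card F)) (m : ℕ) (hm : 3 ≤ m) (H : Subgroup (GL (OI m) F))
    (hHI : H ≤ isometryGroup F (quadFormOdd m F)) (hred : ¬ ActsIrreducibly (matrixSet H)) :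
    InOClass m H := by
  classical
  have h2 : (2 : F) ≠ 0 := two_ne_zero_of_odd hodd
  let B : LinearMap.BilinForm F (OI m → F) := QuadraticMap.polarBilin (Helper44_StdForms.qfOdd m F)
  have hB : ∀ u v, B u v = QuadraticMap.polar (quadFormOdd m F) u v := by
    intro u v
    rw [QuadraticMap.polarBilin_apply_apply, Helper44_StdForms.coe_qfOdd]
  have hBiso : ∀ g ∈ H, ∀ u v, B ((g : Matrix (OI m) (OI m) F) *ᵥ u)
      ((g : Matrix (OI m) (OI m) F) *ᵥ v) = B u v := by
    intro g hg u v
    rw [hB, hB]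
    exact polar_mulVec_of_mem _ (hHI hg) u v
  -- an invariant subspace of minimal dimension
  have hex : ∃ n : ℕ, ∃ W : Submodule F (OI m → F),
      (∀ s ∈ matrixSet H, W.map (Matrix.toLin' s) ≤ W) ∧ W ≠ ⊥ ∧ W ≠ ⊤ ∧
        Module.finrank F W = n := by
    unfold ActsIrreducibly at hred
    push Not at hred
    obtain ⟨W, hW, hW0, hW1⟩ := hred
    exact ⟨_, W, hW, hW0, hW1, rfl⟩
  obtain ⟨W, hWinv, hW0, hW1, hWn⟩ := Nat.find_spec hex
  have hmin : ∀ W' : Submodule F (OI m → F), (∀ s ∈ matrixSet H, W'.map (Matrix.toLin' s) ≤ W') →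
      W' ≠ ⊥ → W' ≠ ⊤ → Module.finrank F W ≤ Module.finrank F W' := by
    intro W' h1 h3 h4
    rw [hWn]
    exact Nat.find_min' hex ⟨W', h1, h3, h4, rfl⟩
  -- the radical
  let R : Submodule F (OI m → F) := W ⊓ LinearMap.BilinForm.orthogonal B W
  have hRinv : ∀ s ∈ matrixSet H, R.map (Matrix.toLin' s) ≤ R := by
    rintro s ⟨g, hg, rfl⟩ v hv
    obtain ⟨w, hw, rfl⟩ := hv
    rw [Matrix.toLin'_apply]
    refine ⟨?_, ?_⟩
    · have := hWinv _ (coe_mem_matrixSet hg) (Submodule.mem_map_of_mem hw.1)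
      rwa [Matrix.toLin'_apply] at this
    · rw [SetLike.mem_coe, LinearMap.BilinForm.mem_orthogonal_iff]
      intro x hx
      have hx' : ((g⁻¹ : GL (OI m) F) : Matrix (OI m) (OI m) F) *ᵥ x ∈ W := by
        have := hWinv _ (coe_mem_matrixSet (H.inv_mem hg)) (Submodule.mem_map_of_mem hx)
        rwa [Matrix.toLin'_apply] at this
      have h1 := hBiso g hg (((g⁻¹ : GL (OI m) F) : Matrix (OI m) (OI m) F) *ᵥ x) w
      rw [Matrix.mulVec_mulVec, ← Units.val_mul, mul_inv_cancel, Units.val_one,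
        Matrix.one_mulVec] at h1
      rw [h1]
      exact (LinearMap.BilinForm.mem_orthogonal_iff.mp hw.2) _ hx'
  have hRW : R ≤ W := inf_le_left
  have hR1 : R ≠ ⊤ := fun h => hW1 (top_le_iff.mp (h ▸ hRW))
  have hHW : H ≤ subspaceStabilizer W ⊓ isometryGroup F (quadFormOdd m F) :=
    le_inf (le_subspaceStabilizer H W hWinv) hHI
  by_cases hR0 : R = ⊥
  · -- non-degenerate
    refine ⟨_, Or.inr (Or.inl ⟨W, hW0, hW1, ?_, rfl⟩), hHW⟩
    intro w hw hw0
    have key : ∃ x ∈ W, QuadraticMap.polar (quadFormOdd m F) x w ≠ 0 := by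
      by_contra hcon
      push Not at hcon
      apply hw0
      have : w ∈ R := by
        refine ⟨hw, ?_⟩
        rw [SetLike.mem_coe, LinearMap.BilinForm.mem_orthogonal_iff]
        intro x hx
        rw [hB]
        exact hcon x hx
      rw [hR0] at this
      exact (Submodule.mem_bot F).mp this
    obtain ⟨x, hx, hxw⟩ := key
    refine ⟨⟨x, hx, hxw⟩, ⟨x, hx, ?_⟩⟩
    rw [QuadraticMap.polar_comm]
    exact hxw
  · -- totally singular
    have hRW' : R = W := by
      apply Submodule.eq_of_le_of_finrank_le hRW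
      exact hmin R hRinv hR0 hR1
    refine ⟨_, Or.inl ⟨W, hW0, ?_, rfl⟩, hHW⟩
    intro w hw
    have hwR : w ∈ R := hRW' ▸ hw
    have h1 : B w w = 0 := (LinearMap.BilinForm.mem_orthogonal_iff.mp hwR.2) w hw
    rw [hB, ← Helper44_StdForms.coe_qfOdd, QuadraticMap.polar_self, two_smul, ← two_mul] at h1
    have h3 := (mul_eq_zero.mp h1).resolve_left h2
    rw [Helper44_StdForms.coe_qfOdd] at h3
    exact h3

end Cfsg.Agent.Lib.Helper10_OrthOdd_OP1
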