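import Mathlib
import Cfsg.Agent.Lib.Helper98_AschDefs
import Cfsg.Agent.Lib.Helper29_OrthOddDefs
import Cfsg.Agent.Lib.Helper44_StdForms

set_option autoImplicit false
set_option linter.unusedSectionVars false
set_option linter.unusedVariables false

namespace Cfsg.Agent.Lib.Helper10_OrthOdd_OP2a

open Cfsg Cfsg.Geo Matrix Cfsg.Agent.Lib.Helper98_AschDefs Cfsg.Agent.Lib.Helper29_OrthOddDefs
open scoped MatrixGroups

variable {F : Type*} [Field F] {ι : Type} [Fintype ι] [DecidableEq ι]

section adj

variable (G : Matrix ι ι F)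

/-- the bilinear form of a matrix -/
def bf (u v : ι → F) : F := u ⬝ᵥ G *ᵥ v

/-- `M'` is an adjoint of `M` -/
def IsAdj (M M' : Matrix ι ι F) : Prop :=
  ∀ u v : ι → F, bf G (M *ᵥ u) v = bf G u (M' *ᵥ v)

theorem bf_add_left (u u' v : ι → F) : bf G (u + u') v = bf G u v + bf G u' v := by
  simp only [bf, add_dotProduct]

theorem bf_add_right (u v v' : ι → F) : bf G u (v + v') = bf G u v + bf G u v' := by
  simp only [bf, mulVec_add, dotProduct_add]

theorem bf_zero_right (u : ι → F) : bf G u 0 = 0 := by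
  simp only [bf, mulVec_zero, dotProduct_zero]

theorem bf_sum_left {κ : Type*} (s : Finset κ) (u : κ → ι → F) (v : ι → F) :
    bf G (∑ k ∈ s, u k) v = ∑ k ∈ s, bf G (u k) v := by
  simp only [bf, sum_dotProduct]

variable {G}

theorem bf_symm (hGs : Gᵀ = G) (u v : ι → F) : bf G u v = bf G v u := by
  unfold bf
  rw [dotProduct_mulVec, dotProduct_comm, ← mulVec_transpose, hGs]

theorem bf_nondeg (hGu : IsUnit G.det) (v : ι → F) (h : ∀ u, bf G u v = 0) : v = 0 := by
  have h1 : G *ᵥ v = 0 := by
    funext i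
    have := h (Pi.single i 1)
    rw [bf, single_one_dotProduct] at this
    exact this
  have h2 : G⁻¹ *ᵥ (G *ᵥ v) = v := by
    rw [mulVec_mulVec, nonsing_inv_mul G hGu, one_mulVec]
  rw [← h2, h1, mulVec_zero]

theorem isAdj_adj (hGu : IsUnit G.det) (M : Matrix ι ι F) : IsAdj G M (G⁻¹ * Mᵀ * G) := by
  intro u v
  unfold bf
  rw [mulVec_mulVec, ← mul_assoc, ← mul_assoc, mul_nonsing_inv G hGu, one_mul, ← mulVec_mulVec,
    dotProduct_mulVec u, vecMul_transpose, dotProduct_comm]

theorem isAdj_unique (hGu : IsUnit G.det) {M M₁ M₂ : Matrix ι ι F} (h1 : IsAdj G M M₁)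
    (h2 : IsAdj G M M₂) : M₁ = M₂ := by
  have h3 : ∀ v, M₁ *ᵥ v = M₂ *ᵥ v := by
    intro v
    have h4 : M₁ *ᵥ v - M₂ *ᵥ v = 0 := by
      apply bf_nondeg hGu
      intro u
      have := (h1 u v).symm.trans (h2 u v)
      unfold bf at this ⊢
      rw [mulVec_sub, dotProduct_sub, this, sub_self]
    exact sub_eq_zero.mp h4
  ext i j
  have := congrFun (h3 (Pi.single j 1)) i
  simpa using this

theorem isAdj_mul {M M' N N' : Matrix ι ι F} (hM : IsAdj G M M') (hN : IsAdj G N N') :
    IsAdj G (M * N) (N' * M') := by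
  intro u v
  rw [← mulVec_mulVec, hM, hN, mulVec_mulVec]

theorem isAdj_symm (hGs : Gᵀ = G) {M M' : Matrix ι ι F} (hM : IsAdj G M M') : IsAdj G M' M := by
  intro u v
  rw [bf_symm hGs, ← hM, bf_symm hGs]

theorem isAdj_one : IsAdj G (1 : Matrix ι ι F) 1 := by
  intro u v
  rw [one_mulVec, one_mulVec]

theorem isAdj_zero : IsAdj G (0 : Matrix ι ι F) 0 := by
  intro u v
  simp [bf]

theorem isAdj_add {M M' N N' : Matrix ι ι F} (hM : IsAdj G M M') (hN : IsAdj G N N') :
    IsAdj G (M + N) (M' + N') := by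
  intro u v
  rw [add_mulVec, add_mulVec, bf_add_left, bf_add_right, hM, hN]

theorem isAdj_smul (c : F) {M M' : Matrix ι ι F} (hM : IsAdj G M M') :
    IsAdj G (c • M) (c • M') := by
  intro u v
  have := hM u v
  unfold bf at this ⊢
  rw [smul_mulVec, smul_mulVec, smul_dotProduct, mulVec_smul, dotProduct_smul, this]

theorem isAdj_sum {κ : Type*} (s : Finset κ) (M M' : κ → Matrix ι ι F)
    (h : ∀ k ∈ s, IsAdj G (M k) (M' k)) : IsAdj G (∑ k ∈ s, M k) (∑ k ∈ s, M' k) := by
  classical
  induction s using Finset.induction_on with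
  | empty => simpa using isAdj_zero
  | insert a s ha ih =>
    rw [Finset.sum_insert ha, Finset.sum_insert ha]
    exact isAdj_add (h a (Finset.mem_insert_self a s))
      (ih (fun k hk => h k (Finset.mem_insert_of_mem hk)))

theorem rank_adj (hGu : IsUnit G.det) (M : Matrix ι ι F) : (G⁻¹ * Mᵀ * G).rank = M.rank := by
  have hGi : IsUnit (G⁻¹).det := by
    rw [det_nonsing_inv]
    exact (Ring.inverse_unit hGu.unit ▸ (hGu.unit⁻¹).isUnit : IsUnit (Ring.inverse G.det))
  rw [rank_mul_eq_left_of_isUnit_det G _ hGu, rank_mul_eq_right_of_isUnit_det G⁻¹ _ hGi,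
    rank_transpose]

end adj

section proj

variable {t : ℕ} (D : Fin t → Submodule F (ι → F)) (hind : iSupIndep D) (htop : iSup D = ⊤)
include hind htop

/-- two linear maps agreeing on every member of a spanning family agree -/
theorem ext_on (φ ψ : (ι → F) →ₗ[F] (ι → F)) (h : ∀ j, ∀ v ∈ D j, φ v = ψ v) : φ = ψ := by
  have hle : iSup D ≤ LinearMap.eqLocus φ ψ := by
    apply iSup_le
    intro j v hv
    exact h j v hv
  rw [htop] at hle
  apply LinearMap.ext
  intro v
  exact hle (Submodule.mem_top : v ∈ ⊤)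

theorem isCompl (i : Fin t) : IsCompl (D i) (⨆ (j) (_ : j ≠ i), D j) := by
  refine ⟨hind i, ?_⟩
  rw [codisjoint_iff, ← iSup_split_single D i, htop]

/-- the projections of the decomposition -/
theorem exists_proj : ∃ p : Fin t → ((ι → F) →ₗ[F] (ι → F)),
    (∀ i v, v ∈ D i → p i v = v) ∧ (∀ i j v, j ≠ i → v ∈ D j → p i v = 0) ∧ (∀ i v, p i v ∈ D i) := by
  refine ⟨fun i => (D i).subtype ∘ₗ Submodule.projectionOnto (D i) _ (isCompl D hind htop i),
    ?_, ?_, ?_⟩
  · intro i v hv
    have := Submodule.projectionOnto_apply_left (isCompl D hind htop i) ⟨v, hv⟩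
    simp only [LinearMap.comp_apply, Submodule.subtype_apply]
    exact congrArg Subtype.val this
  · intro i j v hj hv
    have hv' : v ∈ ⨆ (j) (_ : j ≠ i), D j :=
      (le_iSup₂ (f := fun j (_ : j ≠ i) => D j) j hj) hv
    have := (Submodule.projectionOnto_apply_eq_zero_iff (isCompl D hind htop i)).mpr hv'
    simp only [LinearMap.comp_apply, Submodule.subtype_apply]
    rw [this, Submodule.coe_zero]
  · intro i v
    simp only [LinearMap.comp_apply, Submodule.subtype_apply]
    exact Submodule.coe_mem _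

end proj


section core

variable {t : ℕ} (D : Fin t → Submodule F (ι → F)) (hind : iSupIndep D) (htop : iSup D = ⊤)
include hind htop

/-- two matrices agreeing on every member of the decomposition agree -/
theorem mat_ext_on (M N : Matrix ι ι F) (h : ∀ j, ∀ v ∈ D j, M *ᵥ v = N *ᵥ v) : M = N := by
  have := ext_on D hind htop (Matrix.toLin' M) (Matrix.toLin' N) (by
    intro j v hv
    rw [Matrix.toLin'_apply, Matrix.toLin'_apply]
    exact h j v hv)
  exact Matrix.toLin'.injective this

/-- the projection matrices of the decomposition -/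
theorem exists_projMat : ∃ P : Fin t → Matrix ι ι F,
    (∀ i v, v ∈ D i → P i *ᵥ v = v) ∧ (∀ i j v, j ≠ i → v ∈ D j → P i *ᵥ v = 0) ∧
    (∀ i v, P i *ᵥ v ∈ D i) := by
  obtain ⟨p, h1, h2, h3⟩ := exists_proj D hind htop
  refine ⟨fun i => LinearMap.toMatrix' (p i), ?_, ?_, ?_⟩
  · intro i v hv
    rw [LinearMap.toMatrix'_mulVec]
    exact h1 i v hv
  · intro i j v hj hv
    rw [LinearMap.toMatrix'_mulVec]
    exact h2 i j v hj hv
  · intro i v
    rw [LinearMap.toMatrix'_mulVec]
    exact h3 i v

end core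


/-- an idempotent matrix `T` with `rank T = rank (1 - T)` lives in even dimension -/
theorem even_card_of_idem (T : Matrix ι ι F) (hT : T * T = T) (hr : (1 - T).rank = T.rank) :
    Even (Fintype.card ι) := by
  have h1 : Module.finrank F (LinearMap.range T.mulVecLin) +
      Module.finrank F (LinearMap.ker T.mulVecLin) = Fintype.card ι := by
    rw [LinearMap.finrank_range_add_finrank_ker, Module.finrank_pi]
  have h2 : LinearMap.ker T.mulVecLin = LinearMap.range (1 - T).mulVecLin := by
    ext v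
    rw [LinearMap.mem_ker, LinearMap.mem_range, Matrix.mulVecLin_apply]
    constructor
    · intro hv
      refine ⟨v, ?_⟩
      rw [Matrix.mulVecLin_apply, sub_mulVec, one_mulVec, hv, sub_zero]
    · rintro ⟨w, rfl⟩
      rw [Matrix.mulVecLin_apply, mulVec_mulVec, mul_sub, mul_one, hT, sub_self, zero_mulVec]
  rw [h2] at h1
  have h3 : Module.finrank F (LinearMap.range (1 - T).mulVecLin) = (1 - T).rank := rfl
  have h4 : Module.finrank F (LinearMap.range T.mulVecLin) = T.rank := rfl
  rw [h3, h4, hr] at h1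
  exact ⟨T.rank, h1.symm⟩

section core2

variable {t : ℕ} (D : Fin t → Submodule F (ι → F)) (hind : iSupIndep D) (htop : iSup D = ⊤)
include hind htop

theorem orth_core {G : Matrix ι ι F} (hGs : Gᵀ = G) (hGu : IsUnit G.det) (h2 : (2 : F) ≠ 0)
    (hodd : Odd (Fintype.card ι))
    (A : Set (Matrix ι ι F))
    (hadj : ∀ a ∈ A, ∃ a' ∈ A, IsAdj G a a')
    (hAD : ∀ i, ∀ a ∈ A, ∀ v ∈ D i, a *ᵥ v ∈ D i)
    (hCD : ∀ c : Matrix ι ι F, IsUnit c.det → (∀ a ∈ A, c * a = a * c) →
      ∀ i, ∀ v ∈ D i, c *ᵥ v ∈ D i)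
    (Hs : Set (Matrix ι ι F))
    (hiso : ∀ h ∈ Hs, ∃ h' : Matrix ι ι F, h' * h = 1 ∧ h * h' = 1 ∧ IsAdj G h h')
    (hperm : ∀ h ∈ Hs, ∃ σ : Equiv.Perm (Fin t), ∀ i, ∀ v ∈ D i, h *ᵥ v ∈ D (σ i))
    (hirr : ∀ W : Submodule F (ι → F), (∀ h ∈ Hs, ∀ v ∈ W, h *ᵥ v ∈ W) → W = ⊥ ∨ W = ⊤) :
    ∀ i j, i ≠ j → ∀ x ∈ D i, ∀ y ∈ D j, bf G x y = 0 := by
  obtain ⟨P, hP1, hP2, hP3⟩ := exists_projMat D hind htop
  -- (F1) orthogonal idempotents
  have hPP : ∀ i j, P i * P j = if i = j then P i else 0 := by
    intro i j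
    apply mat_ext_on D hind htop
    intro l v hv
    rw [← mulVec_mulVec]
    by_cases hij : i = j
    · subst hij
      rw [if_pos rfl]
      by_cases hl : l = i
      · subst hl
        rw [hP1 _ v hv, hP1 _ v hv]
      · rw [hP2 i l v hl hv, mulVec_zero]
    · rw [if_neg hij, zero_mulVec]
      by_cases hl : l = j
      · subst hl
        rw [hP1 _ v hv, hP2 i l v (fun h => hij h.symm) hv]
      · rw [hP2 j l v hl hv, mulVec_zero]
  have hPsum : ∑ i, P i = 1 := by
    apply mat_ext_on D hind htop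
    intro l v hv
    rw [Matrix.sum_mulVec, one_mulVec, Finset.sum_eq_single l]
    · exact hP1 l v hv
    · intro i _ hi
      exact hP2 i l v (fun h => hi h.symm) hv
    · intro h
      exact absurd (Finset.mem_univ l) h
  -- (F2) the projections commute with `A`
  have hPA : ∀ i, ∀ a ∈ A, P i * a = a * P i := by
    intro i a ha
    apply mat_ext_on D hind htop
    intro l v hv
    rw [← mulVec_mulVec, ← mulVec_mulVec]
    by_cases hl : l = i
    · subst hl
      rw [hP1 _ v hv, hP1 _ _ (hAD _ a ha v hv)]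
    · rw [hP2 i l v hl hv, hP2 i l _ hl (hAD _ a ha v hv), mulVec_zero]
  -- the adjoints
  obtain ⟨Q, hQdef⟩ : ∃ Q : Fin t → Matrix ι ι F, Q = fun i => G⁻¹ * (P i)ᵀ * G := ⟨_, rfl⟩
  have hPQ : ∀ i, IsAdj G (P i) (Q i) := fun i => by
    rw [hQdef]
    exact isAdj_adj hGu (P i)
  have hQP : ∀ i, IsAdj G (Q i) (P i) := fun i => isAdj_symm hGs (hPQ i)
  -- (F3), (F4), (F5)
  have hQD : ∀ i j, ∀ v ∈ D j, Q i *ᵥ v ∈ D j := by
    intro i j v hv
    have hpp : P i * P i = P i := by rw [hPP, if_pos rfl]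
    have h2c : (1 : F) - 2 * (2 : F)⁻¹ = 0 := by rw [mul_inv_cancel₀ h2, sub_self]
    have hC : (1 + P i) * (1 - (2 : F)⁻¹ • P i) = 1 := by
      have key : (1 + P i) * (1 - (2 : F)⁻¹ • P i) = 1 + ((1 : F) - 2 * (2 : F)⁻¹) • P i := by
        rw [mul_sub, mul_one, add_mul, one_mul, mul_smul_comm, hpp]
        module
      rw [key, h2c, zero_smul, add_zero]
    have hC' : (1 - (2 : F)⁻¹ • P i) * (1 + P i) = 1 := by
      have key : (1 - (2 : F)⁻¹ • P i) * (1 + P i) = 1 + ((1 : F) - 2 * (2 : F)⁻¹) • P i := by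
        rw [sub_mul, one_mul, mul_add, mul_one, smul_mul_assoc, hpp]
        module
      rw [key, h2c, zero_smul, add_zero]
    have hadC : IsAdj G (1 + P i) (1 + Q i) := isAdj_add isAdj_one (hPQ i)
    have hadC' : IsAdj G (1 - (2 : F)⁻¹ • P i) (1 - (2 : F)⁻¹ • Q i) := by
      have := isAdj_add isAdj_one (isAdj_smul (-(2 : F)⁻¹) (hPQ i))
      simpa [sub_eq_add_neg] using this
    have hQC : (1 + Q i) * (1 - (2 : F)⁻¹ • Q i) = 1 := by
      have h1 := isAdj_mul hadC' hadC
      rw [hC'] at h1
      exact isAdj_unique hGu h1 isAdj_one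
    have hunit : IsUnit (1 + Q i).det := by
      have := congrArg Matrix.det hQC
      rw [det_mul, det_one] at this
      exact IsUnit.of_mul_eq_one _ this
    have hcomm : ∀ a ∈ A, (1 + Q i) * a = a * (1 + Q i) := by
      intro a ha
      obtain ⟨a', ha', haa'⟩ := hadj a ha
      have h1 : IsAdj G a' a := isAdj_symm hGs haa'
      have h3 : (1 + P i) * a' = a' * (1 + P i) := by
        rw [add_mul, mul_add, one_mul, mul_one, hPA i a' ha']
      have h4 := isAdj_mul hadC h1
      have h5 := isAdj_mul h1 hadC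
      rw [h3] at h4
      exact (isAdj_unique hGu h4 h5).symm
    have := hCD (1 + Q i) hunit hcomm j v hv
    rw [add_mulVec, one_mulVec] at this
    have h6 : Q i *ᵥ v = (v + Q i *ᵥ v) - v := by abel
    rw [h6]
    exact Submodule.sub_mem _ this hv
  -- (F6)
  have hQPcomm : ∀ i j, Q i * P j = P j * Q i := by
    intro i j
    apply mat_ext_on D hind htop
    intro l v hv
    rw [← mulVec_mulVec, ← mulVec_mulVec]
    by_cases hl : l = j
    · subst hl
      rw [hP1 _ v hv, hP1 _ _ (hQD i _ v hv)]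
    · rw [hP2 j l v hl hv, hP2 j l _ hl (hQD i l v hv), mulVec_zero]
  -- (F7)
  have hQQ : ∀ i j, Q i * Q j = if i = j then Q i else 0 := by
    intro i j
    have h1 := isAdj_mul (hPQ j) (hPQ i)
    rw [hPP] at h1
    by_cases hij : i = j
    · subst hij
      rw [if_pos rfl] at h1 ⊢
      exact isAdj_unique hGu h1 (hPQ i)
    · rw [if_neg (fun h => hij h.symm)] at h1
      rw [if_neg hij]
      exact isAdj_unique hGu h1 isAdj_zero
  have hQsum : ∑ i, Q i = 1 := by
    have h1 := isAdj_sum Finset.univ P Q (fun k _ => hPQ k)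
    rw [hPsum] at h1
    exact isAdj_unique hGu h1 isAdj_one
  -- (F8) equivariance under `H`
  have hHP : ∀ h ∈ Hs, ∃ σ : Equiv.Perm (Fin t),
      (∀ i, h * P i = P (σ i) * h) ∧ (∀ i, h * Q i = Q (σ i) * h) := by
    intro h hh
    obtain ⟨σ, hσ⟩ := hperm h hh
    obtain ⟨h', hh1, hh2, hh3⟩ := hiso h hh
    have hP' : ∀ i, h * P i = P (σ i) * h := by
      intro i
      apply mat_ext_on D hind htop
      intro l v hv
      rw [← mulVec_mulVec, ← mulVec_mulVec]
      by_cases hl : l = i
      · subst hl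
        rw [hP1 _ v hv, hP1 _ _ (hσ _ v hv)]
      · rw [hP2 i l v hl hv, mulVec_zero,
          hP2 (σ i) (σ l) _ (fun e => hl (σ.injective e)) (hσ l v hv)]
    refine ⟨σ, hP', ?_⟩
    intro i
    have h4 := isAdj_mul hh3 (hPQ i)
    have h5 := isAdj_mul (hPQ (σ i)) hh3
    rw [hP' i] at h4
    have h6 : Q i * h' = h' * Q (σ i) := isAdj_unique hGu h4 h5
    calc h * Q i = h * Q i * (h' * h) := by rw [hh1, mul_one]
      _ = h * (Q i * h') * h := by simp only [mul_assoc]
      _ = h * (h' * Q (σ i)) * h := by rw [h6]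
      _ = (h * h') * Q (σ i) * h := by simp only [mul_assoc]
      _ = Q (σ i) * h := by rw [hh2, one_mul]
  -- products of the `P i * Q j`
  have hR : ∀ i j k l, (P i * Q j) * (P k * Q l) = if i = k ∧ j = l then P i * Q j else 0 := by
    intro i j k l
    have : (P i * Q j) * (P k * Q l) = (P i * P k) * (Q j * Q l) := by
      rw [mul_assoc, ← mul_assoc (Q j), hQPcomm, mul_assoc, ← mul_assoc]
    rw [this, hPP, hQQ]
    by_cases h1 : i = k <;> by_cases h2' : j = l <;> simp [h1, h2']
  -- (F9) the diagonal part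
  obtain ⟨S, hSdef⟩ : ∃ S : Matrix ι ι F, S = ∑ i, P i * Q i := ⟨_, rfl⟩
  have hSH : ∀ h ∈ Hs, h * S = S * h := by
    intro h hh
    obtain ⟨σ, hσP, hσQ⟩ := hHP h hh
    rw [hSdef, Finset.mul_sum, Finset.sum_mul]
    rw [← Equiv.sum_comp σ (fun i => P i * Q i * h)]
    apply Finset.sum_congr rfl
    intro i _
    rw [← mul_assoc, hσP, mul_assoc, hσQ, mul_assoc]
  have hRS : ∀ i j, (P i * Q j) * S = if i = j then P i * Q j else 0 := by
    intro i j
    rw [hSdef, Finset.mul_sum]
    simp only [hR]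
    by_cases hij : i = j
    · subst hij
      rw [if_pos rfl, Finset.sum_eq_single i]
      · rw [if_pos ⟨rfl, rfl⟩]
      · intro l _ hl
        rw [if_neg (fun h => hl h.1.symm)]
      · intro h
        exact absurd (Finset.mem_univ i) h
    · rw [if_neg hij]
      apply Finset.sum_eq_zero
      intro l _
      rw [if_neg]
      rintro ⟨h1, h2'⟩
      exact hij (h1.trans h2'.symm)
  have hW := hirr (LinearMap.range S.mulVecLin) (by
    intro h hh v hv
    obtain ⟨w, rfl⟩ := hv
    refine ⟨h *ᵥ w, ?_⟩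
    rw [mulVecLin_apply, mulVecLin_apply, mulVec_mulVec, mulVec_mulVec, hSH h hh])
  rcases hW with hW | hW
  · -- `S = 0`: impossible in odd dimension
    exfalso
    have hS0 : S = 0 := by
      have h1 : ∀ v, S *ᵥ v = 0 := by
        intro v
        have : S *ᵥ v ∈ LinearMap.range S.mulVecLin := ⟨v, rfl⟩
        rw [hW] at this
        exact (Submodule.mem_bot F).mp this
      ext a b
      have := congrFun (h1 (Pi.single b 1)) a
      simpa using this
    have hdiag : ∀ i, P i * Q i = 0 := by
      intro i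
      have := hRS i i
      rw [if_pos rfl, hS0, mul_zero] at this
      exact this.symm
    obtain ⟨T, hTdef⟩ : ∃ T : Matrix ι ι F,
        T = ∑ x ∈ (Finset.univ : Finset (Fin t × Fin t)).filter (fun x => x.1 < x.2),
          P x.1 * Q x.2 := ⟨_, rfl⟩
    obtain ⟨T', hT'def⟩ : ∃ T' : Matrix ι ι F,
        T' = ∑ x ∈ (Finset.univ : Finset (Fin t × Fin t)).filter (fun x => x.1 < x.2),
          P x.2 * Q x.1 := ⟨_, rfl⟩
    have hTT' : IsAdj G T T' := by
      rw [hTdef, hT'def]
      apply isAdj_sum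
      intro x _
      exact isAdj_mul (hPQ x.1) (hQP x.2)
    have hone : ∑ x : Fin t × Fin t, P x.1 * Q x.2 = 1 := by
      rw [Fintype.sum_prod_type]
      simp_rw [← Finset.mul_sum, hQsum, mul_one]
      exact hPsum
    have hsum : T + T' = 1 := by
      rw [← hone, hTdef, hT'def, Finset.sum_filter, Finset.sum_filter]
      have h1 : ∑ x : Fin t × Fin t, (if x.1 < x.2 then P x.2 * Q x.1 else 0) =
          ∑ x : Fin t × Fin t, (if x.2 < x.1 then P x.1 * Q x.2 else 0) := by
        rw [← Equiv.sum_comp (Equiv.prodComm (Fin t) (Fin t))]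
        rfl
      rw [h1, ← Finset.sum_add_distrib]
      apply Finset.sum_congr rfl
      intro x _
      rcases lt_trichotomy x.1 x.2 with h | h | h
      · rw [if_pos h, if_neg (not_lt.mpr h.le), add_zero]
      · rw [if_neg (by rw [h]; exact lt_irrefl _), if_neg (by rw [h]; exact lt_irrefl _), add_zero,
          ← h, hdiag]
      · rw [if_neg (not_lt.mpr h.le), if_pos h, zero_add]
    have hTT'0 : T * T' = 0 := by
      rw [hTdef, hT'def, Finset.sum_mul_sum]
      apply Finset.sum_eq_zero
      intro x hx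
      apply Finset.sum_eq_zero
      intro y hy
      rw [hR, if_neg]
      rintro ⟨h1, h2'⟩
      have hx' := (Finset.mem_filter.mp hx).2
      have hy' := (Finset.mem_filter.mp hy).2
      rw [h1, h2'] at hx'
      exact lt_asymm hx' hy'
    have hT1 : (1 : Matrix ι ι F) - T = T' := by
      rw [← hsum]
      abel
    have hTid : T * T = T := by
      have : T * T = T * (1 - T') := by
        rw [← hsum]
        congr 1
        abel
      rw [this, mul_sub, mul_one, hTT'0, sub_zero]
    have hrank : (1 - T).rank = T.rank := by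
      rw [hT1, isAdj_unique hGu hTT' (isAdj_adj hGu T)]
      exact rank_adj hGu T
    exact (Nat.not_even_iff_odd.mpr hodd) (even_card_of_idem T hTid hrank)
  · -- `S` is surjective: the projections are self-adjoint
    have hoff : ∀ i j, i ≠ j → P i * Q j = 0 := by
      intro i j hij
      have h1 : ∀ v, (P i * Q j) *ᵥ v = 0 := by
        intro v
        have : v ∈ LinearMap.range S.mulVecLin := by
          rw [hW]
          exact Submodule.mem_top
        obtain ⟨w, rfl⟩ := this
        rw [mulVecLin_apply, mulVec_mulVec, hRS, if_neg hij, zero_mulVec]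
      ext a b
      have := congrFun (h1 (Pi.single b 1)) a
      simpa using this
    have hPeq : ∀ i, P i = P i * Q i := by
      intro i
      calc P i = P i * ∑ l, Q l := by rw [hQsum, mul_one]
        _ = ∑ l, P i * Q l := Finset.mul_sum _ _ _
        _ = P i * Q i := by
          rw [Finset.sum_eq_single i]
          · intro l _ hl
            exact hoff i l (fun h => hl h.symm)
          · intro h
            exact absurd (Finset.mem_univ i) h
    have hQeq : ∀ i, Q i = P i * Q i := by
      intro i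
      calc Q i = (∑ l, P l) * Q i := by rw [hPsum, one_mul]
        _ = ∑ l, P l * Q i := Finset.sum_mul _ _ _
        _ = P i * Q i := by
          rw [Finset.sum_eq_single i]
          · intro l _ hl
            exact hoff l i hl
          · intro h
            exact absurd (Finset.mem_univ i) h
    have hself : ∀ i, IsAdj G (P i) (P i) := by
      intro i
      have := hPQ i
      rwa [hQeq i, ← hPeq i] at this
    intro i j hij x hx y hy
    have h1 := hself i x y
    rw [hP1 i x hx, hP2 i j y (fun h => hij h.symm) hy, bf_zero_right] at h1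
    exact h1

end core2


section final

/-- the Gram matrix of the standard odd-dimensional form -/
theorem exists_gram (m : ℕ) (h2 : (2 : F) ≠ 0) :
    ∃ G : Matrix (OI m) (OI m) F, Gᵀ = G ∧ IsUnit G.det ∧
      ∀ u v, QuadraticMap.polar (quadFormOdd m F) u v = bf G u v := by
  have hB : ∀ u v, QuadraticMap.polarBilin (Helper44_StdForms.qfOdd m F) u v =
      QuadraticMap.polar (quadFormOdd m F) u v := by
    intro u v
    rw [QuadraticMap.polarBilin_apply_apply, Helper44_StdForms.coe_qfOdd]
  refine ⟨LinearMap.BilinForm.toMatrix' (QuadraticMap.polarBilin (Helper44_StdForms.qfOdd m F)),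
    ?_, ?_, ?_⟩
  · ext i j
    rw [Matrix.transpose_apply, LinearMap.BilinForm.toMatrix'_apply,
      LinearMap.BilinForm.toMatrix'_apply, hB, hB, QuadraticMap.polar_comm]
  · have : LinearMap.BilinForm.toMatrix' (QuadraticMap.polarBilin (Helper44_StdForms.qfOdd m F)) =
        Matrix.of (fun i j : Unit ⊕ (Fin m ⊕ Fin m) =>
          QuadraticMap.polar (Cfsg.quadFormOdd m F) (Pi.single i 1) (Pi.single j 1)) := by
      ext i j
      rw [LinearMap.BilinForm.toMatrix'_apply, hB]
      rfl
    rw [this, Helper44_StdForms.det_gram_quadFormOdd]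
    exact (mul_ne_zero h2 (pow_ne_zero _ (neg_ne_zero.mpr one_ne_zero))).isUnit
  · intro u v
    rw [← hB, bf, ← Matrix.toBilin'_apply', Matrix.toBilin'_toMatrix']

/-- an irreducible group permuting a decomposition permutes it transitively -/
theorem trans_of_irr {t k : ℕ} (H : Subgroup (GL ι F)) (hirr : ActsIrreducibly (matrixSet H))
    (D : Fin t → Submodule F (ι → F)) (hD : IsMDecomposition k D)
    (hHD : H ≤ decompositionStabilizer D) (i j : Fin t) :
    ∃ g ∈ H, (D i).map (Matrix.toLin' (g : Matrix ι ι F)) = D j := by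
  have hne : ∀ l, D l ≠ ⊥ := by
    intro l hl
    have := hD.finrank_eq l
    rw [hl, finrank_bot] at this
    exact absurd this.symm hD.pos.ne'
  by_contra hcon
  let O : Set (Fin t) := {l | ∃ g ∈ H, (D i).map (Matrix.toLin' (g : Matrix ι ι F)) = D l}
  have hjO : j ∉ O := hcon
  have hiO : i ∈ O := ⟨1, H.one_mem, by simp⟩
  let W : Submodule F (ι → F) := ⨆ (l : Fin t) (_ : l ∈ O), D l
  have hWinv : ∀ s ∈ matrixSet H, W.map (Matrix.toLin' s) ≤ W := by
    rintro s ⟨g, hg, rfl⟩
    rw [Submodule.map_iSup]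
    apply iSup_le
    intro l
    rw [Submodule.map_iSup]
    apply iSup_le
    intro hl
    obtain ⟨g', hg', hgl⟩ := hl
    obtain ⟨σ, hσ⟩ := hHD (H.mul_mem hg hg')
    have h1 : (D l).map (Matrix.toLin' (g : Matrix ι ι F)) = D (σ i) := by
      rw [← hσ i, ← hgl, ← Submodule.map_comp, ← Matrix.toLin'_mul, ← Units.val_mul]
    rw [h1]
    exact le_iSup₂ (f := fun l (_ : l ∈ O) => D l) (σ i) ⟨g * g', H.mul_mem hg hg', hσ i⟩
  rcases hirr W hWinv with hW | hW
  · apply hne i
    have : D i ≤ W := le_iSup₂ (f := fun l (_ : l ∈ O) => D l) i hiO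
    rw [hW] at this
    exact le_bot_iff.mp this
  · apply hne j
    have h1 : W ≤ ⨆ (l) (_ : l ≠ j), D l := by
      apply iSup₂_le
      intro l hl
      exact le_iSup₂ (f := fun l (_ : l ≠ j) => D l) l (fun h => hjO (h ▸ hl))
    have h2 : D j ≤ ⨆ (l) (_ : l ≠ j), D l := by
      refine le_trans ?_ h1
      rw [hW]
      exact le_top
    exact (hD.indep j).eq_bot_of_le h2

/-- OP2a: the imprimitivity decomposition of Clifford's theorem is orthogonal -/
theorem OP2a [Fintype F] (hodd : Odd (Fintype.card F)) (m : ℕ) (hm : 3 ≤ m) (H : Subgroup (GL (OI m) F))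
    (hHI : H ≤ isometryGroup F (quadFormOdd m F)) (hirr : ActsIrreducibly (matrixSet H))
    (A : Subalgebra F (Matrix (OI m) (OI m) F))
    (hAadj : IsAdjointClosedFor (QuadraticMap.polar (quadFormOdd m F)) A)
    (t k : ℕ) (D : Fin t → Submodule F (OI m → F)) (hD : IsMDecomposition k D)
    (hHD : H ≤ decompositionStabilizer D)
    (hAD : ∀ i, ∀ a ∈ A, (D i).map (Matrix.toLin' a) ≤ D i)
    (hCD : ∀ c : GL (OI m) F, (∀ a ∈ A, (c : Matrix (OI m) (OI m) F) * a = a * c) →
      ∀ i, (D i).map (Matrix.toLin' (c : Matrix (OI m) (OI m) F)) ≤ D i) :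
    IsOrthogonalMDecomposition (quadFormOdd m F) k D := by
  have h2 : (2 : F) ≠ 0 := by
    intro h
    have hchar : ringChar F = 2 := by
      have : (ringChar F) ∣ 2 := by
        have := (ringChar.spec F 2).mp (by exact_mod_cast h)
        exact this
      rcases (Nat.dvd_prime Nat.prime_two).mp this with h1 | h1
      · exact absurd h1 (CharP.ringChar_ne_one)
      · exact h1
    have := FiniteField.even_card_of_char_two hchar
    rcases hodd with ⟨c, hc⟩
    omega
  obtain ⟨G, hGs, hGu, hG⟩ := exists_gram (F := F) m h2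
  have hcard : Odd (Fintype.card (OI m)) := by
    refine ⟨m, ?_⟩
    simp [Fintype.card_sum]
    ring
  have horth := orth_core D hD.indep hD.iSup_eq_top hGs hGu h2 hcard (A : Set (Matrix (OI m) (OI m) F))
    (by
      intro a ha
      obtain ⟨a', ha', h⟩ := hAadj a ha
      refine ⟨a', ha', fun u v => ?_⟩
      rw [← hG, ← hG]
      exact h u v)
    (by
      intro i a ha v hv
      have := hAD i a ha (Submodule.mem_map_of_mem hv)
      rwa [Matrix.toLin'_apply] at this)
    (by
      intro c hc hcomm i v hv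
      have := hCD ((Matrix.isUnit_iff_isUnit_det c).mpr hc).unit (by
        intro a ha
        exact hcomm a ha) i (Submodule.mem_map_of_mem hv)
      rwa [Matrix.toLin'_apply] at this)
    (matrixSet H)
    (by
      rintro s ⟨g, hg, rfl⟩
      refine ⟨((g⁻¹ : GL (OI m) F) : Matrix (OI m) (OI m) F), ?_, ?_, ?_⟩
      · rw [← Units.val_mul, inv_mul_cancel, Units.val_one]
      · rw [← Units.val_mul, mul_inv_cancel, Units.val_one]
      · intro u v
        rw [← hG, ← hG]
        have h1 := polar_mulVec_of_mem (quadFormOdd m F) (hHI hg) u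
          (((g⁻¹ : GL (OI m) F) : Matrix (OI m) (OI m) F) *ᵥ v)
        rw [Matrix.mulVec_mulVec, ← Units.val_mul, mul_inv_cancel, Units.val_one,
          Matrix.one_mulVec] at h1
        exact h1)
    (by
      rintro s ⟨g, hg, rfl⟩
      obtain ⟨σ, hσ⟩ := hHD hg
      refine ⟨σ, fun i v hv => ?_⟩
      have : Matrix.toLin' (g : Matrix (OI m) (OI m) F) v ∈
          (D i).map (Matrix.toLin' (g : Matrix (OI m) (OI m) F)) := Submodule.mem_map_of_mem hv
      rwa [hσ i, Matrix.toLin'_apply] at this)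
    (by
      intro W hW
      apply hirr W
      intro s hs v hv
      obtain ⟨w, hw, rfl⟩ := hv
      rw [Matrix.toLin'_apply]
      exact hW s hs w hw)
  have hortho : ∀ i j, i ≠ j → AreOrthogonalFor (QuadraticMap.polar (quadFormOdd m F)) (D i) (D j) := by
    intro i j hij u hu v hv
    rw [hG]
    exact horth i j hij u hu v hv
  have hnd : ∀ i, IsNondegenerateOn (QuadraticMap.polar (quadFormOdd m F)) (D i) := by
    intro i w hw hw0
    have key : ∃ x ∈ D i, QuadraticMap.polar (quadFormOdd m F) x w ≠ 0 := by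
      by_contra hcon
      push Not at hcon
      apply hw0
      apply bf_nondeg hGu
      intro u
      have hu : u ∈ iSup D := by
        rw [hD.iSup_eq_top]
        exact Submodule.mem_top
      induction hu using Submodule.iSup_induction' with
      | mem j x hx =>
        by_cases hj : j = i
        · subst hj
          rw [← hG]
          exact hcon x hx
        · rw [← hG]
          exact hortho j i hj x hx w hw
      | zero => simp [bf]
      | add x y _ _ hx hy => rw [bf_add_left, hx, hy, add_zero]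
    obtain ⟨x, hx, hxw⟩ := key
    refine ⟨⟨x, hx, hxw⟩, ⟨x, hx, ?_⟩⟩
    rw [QuadraticMap.polar_comm]
    exact hxw
  refine ⟨⟨hD, hnd, hortho⟩, ?_⟩
  intro i j
  obtain ⟨g, hg, hmap⟩ := trans_of_irr H hirr D hD hHD i j
  have hinj : Function.Injective (Matrix.toLin' (g : Matrix (OI m) (OI m) F)) := by
    intro u v huv
    have h1 := congrArg (fun w => ((g⁻¹ : GL (OI m) F) : Matrix (OI m) (OI m) F) *ᵥ w) huv
    simp only [Matrix.toLin'_apply, Matrix.mulVec_mulVec] at h1
    rwa [← Units.val_mul, inv_mul_cancel, Units.val_one, Matrix.one_mulVec, Matrix.one_mulVec] at h1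
  refine ⟨(Submodule.equivMapOfInjective _ hinj (D i)).trans (LinearEquiv.ofEq _ _ hmap), ?_⟩
  intro w
  have h1 : (((Submodule.equivMapOfInjective _ hinj (D i)).trans (LinearEquiv.ofEq _ _ hmap) w : D j) :
      OI m → F) = (g : Matrix (OI m) (OI m) F) *ᵥ (w : OI m → F) := by
    rw [LinearEquiv.trans_apply, LinearEquiv.coe_ofEq_apply, Submodule.coe_equivMapOfInjective_apply,
      Matrix.toLin'_apply]
  rw [h1]
  exact (mem_isometryGroup_iff _ g).mp (hHI hg) _

end final

end Cfsg.Agent.Lib.Helper10_OrthOdd_OP2a
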