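import Mathlib
import Cfsg.Prelude.Def_GeometricClasses

/-!
Shared vocabulary for the `r = 2` / `r = p` case theorems of the even-dimensional orthogonal
Burness-Giudici rows (helper13): eigenspaces of a matrix for `1` and `-1`, invariance of a subspace,
and short names for the Prelude predicates applied to a bundled quadratic form on `ι → F`.
-/

set_option autoImplicit false

namespace Cfsg.Agent.Lib.Helper13_OrthR2Defs

open Matrix Module

variable {ι : Type} [Fintype ι] [DecidableEq ι] {F : Type*} [Field F]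

/-- the fixed space of the matrix `x` -/
def eigP (x : Matrix ι ι F) : Submodule F (ι → F) := LinearMap.ker (Matrix.toLin' x - 1)

/-- the `-1`-eigenspace of the matrix `x` -/
def eigM (x : Matrix ι ι F) : Submodule F (ι → F) := LinearMap.ker (Matrix.toLin' x + 1)

theorem mem_eigP (x : Matrix ι ι F) (v : ι → F) : v ∈ eigP x ↔ x *ᵥ v = v := by
  rw [eigP, LinearMap.mem_ker, LinearMap.sub_apply, Matrix.toLin'_apply, Module.End.one_apply,
    sub_eq_zero]

theorem mem_eigM (x : Matrix ι ι F) (v : ι → F) : v ∈ eigM x ↔ x *ᵥ v = -v := by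
  rw [eigM, LinearMap.mem_ker, LinearMap.add_apply, Matrix.toLin'_apply, Module.End.one_apply,
    add_eq_zero_iff_eq_neg]

/-- invariance of a subspace under a matrix (the shape used in the frozen statements) -/
def Inv (x : Matrix ι ι F) (W : Submodule F (ι → F)) : Prop := W.map (Matrix.toLin' x) ≤ W

theorem inv_iff (x : Matrix ι ι F) (W : Submodule F (ι → F)) :
    Inv x W ↔ ∀ w ∈ W, x *ᵥ w ∈ W := by
  constructor
  · intro h w hw
    have : Matrix.toLin' x w ∈ W.map (Matrix.toLin' x) := Submodule.mem_map_of_mem hw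
    have := h this
    rwa [Matrix.toLin'_apply] at this
  · rintro h _ ⟨w, hw, rfl⟩
    rw [Matrix.toLin'_apply]
    exact h w hw

/-- nondegeneracy of the polar form on a subspace (Prelude predicate) -/
abbrev ND (Q : QuadraticForm F (ι → F)) (W : Submodule F (ι → F)) : Prop :=
  Cfsg.Geo.IsNondegenerateOn (QuadraticMap.polar (⇑Q)) W

/-- total singularity of a subspace (Prelude predicate) -/
abbrev TS (Q : QuadraticForm F (ι → F)) (W : Submodule F (ι → F)) : Prop :=
  Cfsg.Geo.IsTotallySingularQuad (⇑Q) W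

/-- plus type of a subspace (Prelude predicate) -/
abbrev Plus (Q : QuadraticForm F (ι → F)) (W : Submodule F (ι → F)) : Prop :=
  Cfsg.Geo.IsPlusTypeOn (⇑Q) W

omit [Fintype ι] [DecidableEq ι] in
theorem nd_iff (Q : QuadraticForm F (ι → F)) (W : Submodule F (ι → F)) :
    ND Q W ↔ ∀ w ∈ W, w ≠ 0 → ∃ v ∈ W, QuadraticMap.polar (⇑Q) w v ≠ 0 := by
  constructor
  · intro h w hw hw0
    exact (h w hw hw0).2
  · intro h w hw hw0
    obtain ⟨v, hv, hne⟩ := h w hw hw0
    exact ⟨⟨v, hv, by rwa [QuadraticMap.polar_comm]⟩, ⟨v, hv, hne⟩⟩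

omit [Fintype ι] [DecidableEq ι] in
theorem nd_top (Q : QuadraticForm F (ι → F)) (hQ : (QuadraticMap.polarBilin Q).Nondegenerate) :
    ND Q ⊤ := by
  rw [nd_iff]
  intro w _ hw0
  by_contra hcon
  push Not at hcon
  apply hw0
  apply hQ.1 w
  intro y
  have := hcon y Submodule.mem_top
  rw [QuadraticMap.polarBilin_apply_apply]
  exact this

end Cfsg.Agent.Lib.Helper13_OrthR2Defs
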