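import Mathlib
import Cfsg.Prelude.Def_GeometricClasses
import Cfsg.Prelude.Def_Classical
import Cfsg.Agent.Lib.Helper13_OrthR2Defs
import Cfsg.Agent.Lib.Helper44_QuadClass

set_option autoImplicit false
set_option linter.unusedSectionVars false
open scoped MatrixGroups

namespace Cfsg.Agent.Lib.Helper24_OrthR2_G0

open Matrix Module Cfsg.Agent.Lib.Helper13_OrthR2Defs

section general

variable {F : Type*} [Field F] {V : Type*} [AddCommGroup V] [Module F V]

/-- nondegeneracy of the polar form on a subspace, one-sided form -/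
def NDs (Q : QuadraticForm F V) (U : Submodule F V) : Prop :=
  ∀ w ∈ U, w ≠ 0 → ∃ v ∈ U, QuadraticMap.polar (⇑Q) w v ≠ 0

/-- the vectors orthogonal to `v` -/
def perpV (Q : QuadraticForm F V) (v : V) : Submodule F V :=
  LinearMap.ker (QuadraticMap.polarBilin Q v)

theorem mem_perpV (Q : QuadraticForm F V) (v w : V) :
    w ∈ perpV Q v ↔ QuadraticMap.polar (⇑Q) v w = 0 := by
  rw [perpV, LinearMap.mem_ker, QuadraticMap.polarBilin_apply_apply]

theorem polar_self_eq (Q : QuadraticForm F V) (v : V) : QuadraticMap.polar (⇑Q) v v = 2 * Q v := by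
  rw [QuadraticMap.polar_self]; simp

/-- splitting a vector of `U` along a nonsingular `v ∈ U` -/
theorem split (h2 : (2 : F) ≠ 0) (Q : QuadraticForm F V) (U : Submodule F V) {v : V} (hv : v ∈ U)
    (hQv : Q v ≠ 0) (z : V) (hz : z ∈ U) :
    ∃ t : F, z - t • v ∈ U ⊓ perpV Q v := by
  refine ⟨QuadraticMap.polar (⇑Q) v z / (2 * Q v),
    Submodule.mem_inf.2 ⟨U.sub_mem hz (U.smul_mem _ hv), (mem_perpV Q v _).2 ?_⟩⟩
  rw [QuadraticMap.polar_sub_right, QuadraticMap.polar_smul_right, polar_self_eq, smul_eq_mul]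
  field_simp
  ring

theorem nds_perp (h2 : (2 : F) ≠ 0) (Q : QuadraticForm F V) (U : Submodule F V) (hU : NDs Q U)
    {v : V} (hv : v ∈ U) (hQv : Q v ≠ 0) : NDs Q (U ⊓ perpV Q v) := by
  intro w hw hw0
  obtain ⟨z, hz, hne⟩ := hU w hw.1 hw0
  obtain ⟨t, ht⟩ := split h2 Q U hv hQv z hz
  refine ⟨z - t • v, ht, ?_⟩
  have hwv : QuadraticMap.polar (⇑Q) w v = 0 := by
    rw [QuadraticMap.polar_comm]; exact (mem_perpV Q v w).1 hw.2
  rw [QuadraticMap.polar_sub_right, QuadraticMap.polar_smul_right, hwv, smul_zero, sub_zero]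
  exact hne

theorem finrank_perp [FiniteDimensional F V] (h2 : (2 : F) ≠ 0) (Q : QuadraticForm F V)
    (U : Submodule F V) {v : V} (hv : v ∈ U) (hQv : Q v ≠ 0) :
    finrank F ↥(U ⊓ perpV Q v) + 1 = finrank F U := by
  have hv0 : v ≠ 0 := by
    rintro rfl
    exact hQv (map_zero Q)
  have hinf : (U ⊓ perpV Q v) ⊓ (F ∙ v) = ⊥ := by
    rw [eq_bot_iff]
    intro x hx
    obtain ⟨hx1, hx2⟩ := hx
    obtain ⟨t, rfl⟩ := Submodule.mem_span_singleton.1 hx2
    have := (mem_perpV Q v _).1 hx1.2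
    rw [QuadraticMap.polar_smul_right, polar_self_eq, smul_eq_mul] at this
    have ht : t = 0 := by
      rcases mul_eq_zero.1 this with h | h
      · exact h
      · exact absurd h (mul_ne_zero h2 hQv)
    rw [ht, zero_smul]
    exact Submodule.zero_mem _
  have hsup : (U ⊓ perpV Q v) ⊔ (F ∙ v) = U := by
    apply le_antisymm
    · apply sup_le inf_le_left
      rw [Submodule.span_singleton_le_iff_mem]
      exact hv
    · intro z hz
      obtain ⟨t, ht⟩ := split h2 Q U hv hQv z hz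
      have : z = (z - t • v) + t • v := by abel
      rw [this]
      exact Submodule.add_mem_sup ht (Submodule.smul_mem _ _ (Submodule.mem_span_singleton_self v))
  have h := Submodule.finrank_sup_add_finrank_inf_eq (U ⊓ perpV Q v) (F ∙ v)
  rw [hinf, hsup, finrank_bot, finrank_span_singleton hv0] at h
  omega

theorem exists_nonsing [FiniteDimensional F V] (Q : QuadraticForm F V) (U : Submodule F V)
    (hU : NDs Q U) (hpos : 1 ≤ finrank F U) : ∃ v ∈ U, Q v ≠ 0 := by
  have hne : U ≠ ⊥ := by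
    intro h
    rw [h, finrank_bot] at hpos
    omega
  obtain ⟨w, hw, hw0⟩ := Submodule.exists_mem_ne_zero_of_ne_bot hne
  obtain ⟨z, hz, hne'⟩ := hU w hw hw0
  by_cases h1 : Q w = 0
  · by_cases h3 : Q z = 0
    · refine ⟨w + z, U.add_mem hw hz, ?_⟩
      have : Q (w + z) = Q w + Q z + QuadraticMap.polar (⇑Q) w z := by
        unfold QuadraticMap.polar; ring
      rw [this, h1, h3, zero_add, zero_add]
      exact hne'
    · exact ⟨z, hz, h3⟩
  · exact ⟨w, hw, h1⟩

/-- a nondegenerate subspace of dimension at least two over a finite field of odd order represents everything -/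
theorem universal [Finite F] [FiniteDimensional F V] (h2 : (2 : F) ≠ 0) (Q : QuadraticForm F V)
    (U : Submodule F V) (hU : NDs Q U) (hdim : 2 ≤ finrank F U) (c : F) : ∃ u ∈ U, Q u = c := by
  obtain ⟨v, hv, hQv⟩ := exists_nonsing Q U hU (by omega)
  have hfr := finrank_perp h2 Q U hv hQv
  obtain ⟨w, hw, hQw⟩ := exists_nonsing Q _ (nds_perp h2 Q U hU hv hQv) (by omega)
  obtain ⟨x, y, hxy⟩ := Cfsg.Agent.Lib.Helper44_QuadClass.exists_sq_sum h2 hQv hQw (-c)
  refine ⟨x • v + y • w, U.add_mem (U.smul_mem _ hv) (U.smul_mem _ hw.1), ?_⟩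
  have hvw : QuadraticMap.polar (⇑Q) v w = 0 := (mem_perpV Q v w).1 hw.2
  rw [Cfsg.Agent.Lib.Helper44_QuadClass.map_smul_add, QuadraticMap.map_smul, QuadraticMap.polar_smul_right,
    hvw]
  simp only [smul_eq_mul, mul_zero, add_zero]
  linear_combination hxy

theorem G0_aux [Finite F] [FiniteDimensional F V] (h2 : (2 : F) ≠ 0) (Q : QuadraticForm F V) :
    ∀ (k : ℕ) (U : Submodule F V), NDs Q U → k + 1 ≤ finrank F U →
      ∀ a : Fin k → F, (∀ i, a i ≠ 0) →
      ∃ u : Fin k → V, (∀ i, u i ∈ U) ∧ (∀ i, Q (u i) = a i) ∧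
        (∀ i j, i ≠ j → QuadraticMap.polar (⇑Q) (u i) (u j) = 0)
  | 0, _, _, _, _, _ => ⟨Fin.elim0, fun i => i.elim0, fun i => i.elim0, fun i => i.elim0⟩
  | k + 1, U, hU, hk, a, ha => by
    obtain ⟨u₀, hu₀U, hu₀⟩ := universal h2 Q U hU (by omega) (a 0)
    have hQ0 : Q u₀ ≠ 0 := by rw [hu₀]; exact ha 0
    have hfr := finrank_perp h2 Q U hu₀U hQ0
    obtain ⟨u', h1, h2', h3⟩ := G0_aux h2 Q k (U ⊓ perpV Q u₀) (nds_perp h2 Q U hU hu₀U hQ0)
      (by omega) (fun i => a i.succ) (fun i => ha _)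
    refine ⟨Fin.cons u₀ u', ?_, ?_, ?_⟩
    · intro i
      refine Fin.cases ?_ (fun i => ?_) i
      · simpa using hu₀U
      · simpa using (h1 i).1
    · intro i
      refine Fin.cases ?_ (fun i => ?_) i
      · simpa using hu₀
      · simpa using h2' i
    · intro i j
      refine Fin.cases ?_ (fun i => ?_) i <;> refine Fin.cases ?_ (fun j => ?_) j
      · intro h; exact absurd rfl h
      · intro _
        simpa using (mem_perpV Q u₀ _).1 (h1 j).2
      · intro _
        rw [QuadraticMap.polar_comm]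
        simpa using (mem_perpV Q u₀ _).1 (h1 i).2
      · intro h
        have : i ≠ j := fun hij => h (by rw [hij])
        simpa using h3 i j this

end general

variable {ι : Type} [Fintype ι] [DecidableEq ι] {F : Type*} [Field F]

theorem nds_of_nd (Q : QuadraticForm F (ι → F)) (U : Submodule F (ι → F)) (hU : ND Q U) : NDs Q U :=
  (nd_iff Q U).1 hU

theorem nd_of_nds (Q : QuadraticForm F (ι → F)) (U : Submodule F (ι → F)) (hU : NDs Q U) : ND Q U :=
  (nd_iff Q U).2 hU

/-- G0 -/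
theorem G0 [Fintype F] (h2 : (2 : F) ≠ 0) (Q : QuadraticForm F (ι → F))
    (U : Submodule F (ι → F)) (hU : ND Q U) (k : ℕ) (a : Fin k → F) (ha : ∀ i, a i ≠ 0)
    (hk : k + 1 ≤ finrank F U) :
    ∃ u : Fin k → (ι → F), (∀ i, u i ∈ U) ∧ (∀ i, Q (u i) = a i) ∧
      (∀ i j, i ≠ j → QuadraticMap.polar (⇑Q) (u i) (u j) = 0) :=
  G0_aux h2 Q k U (nds_of_nd Q U hU) hk a ha

end Cfsg.Agent.Lib.Helper24_OrthR2_G0
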