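import Mathlib
import Cfsg.Prelude.Def_GeometricClasses
import Cfsg.Prelude.Def_Classical
import Cfsg.Agent.Lib.Helper13_OrthR2Defs
import Cfsg.Agent.Lib.Helper24_OrthR2_G0
import Cfsg.Agent.Lib.Helper44_Spinor

/-!
# ORTHR2 package A3 (helper10, for helper13)

When `-1` is not a square, `Ω` contains an involution whose `(-1)`-eigenspace is an anisotropic
plane: the product of the reflections in two orthogonal vectors of norm one.
-/

set_option autoImplicit false
open scoped MatrixGroups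

namespace Cfsg.Agent.Lib.Helper10_OrthR2_A3

open Matrix Module Cfsg.Agent.Lib.Helper13_OrthR2Defs

variable {ι : Type} [Fintype ι] [DecidableEq ι] {F : Type*} [Field F]

section pair

variable (Q : QuadraticForm F (ι → F)) (u1 u2 : ι → F)

/-- the product of two reflections in orthogonal vectors of norm one -/
theorem refl_mul_refl_mulVec (hQ1 : Q u1 = 1) (hQ2 : Q u2 = 1)
    (h12 : QuadraticMap.polar (⇑Q) u1 u2 = 0) (v : ι → F) :
    (Cfsg.reflectionMatrix (⇑Q) u1 * Cfsg.reflectionMatrix (⇑Q) u2) *ᵥ v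
      = v - QuadraticMap.polar (⇑Q) u1 v • u1 - QuadraticMap.polar (⇑Q) u2 v • u2 := by
  rw [← Matrix.mulVec_mulVec, Cfsg.Agent.Lib.Helper44_Refl.reflectionMatrix_mulVec Q u2 v,
    Cfsg.Agent.Lib.Helper44_Refl.reflectionMatrix_mulVec Q u1, hQ1, hQ2, inv_one, one_mul, one_mul,
    QuadraticMap.polar_sub_right, QuadraticMap.polar_smul_right, h12, smul_zero, sub_zero]
  abel

omit [Fintype ι] [DecidableEq ι] in
/-- the form on the plane `⟨u1, u2⟩` -/
theorem map_pair (hQ1 : Q u1 = 1) (hQ2 : Q u2 = 1)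
    (h12 : QuadraticMap.polar (⇑Q) u1 u2 = 0) (a b : F) :
    Q (a • u1 + b • u2) = a ^ 2 + b ^ 2 := by
  have e : Q (a • u1 + b • u2) = Q (a • u1) + Q (b • u2)
      + QuadraticMap.polar (⇑Q) (a • u1) (b • u2) := by
    simp only [QuadraticMap.polar]; ring
  rw [e, QuadraticMap.polar_smul_left, QuadraticMap.polar_smul_right, h12, QuadraticMap.map_smul,
    QuadraticMap.map_smul, hQ1, hQ2]
  simp only [smul_eq_mul]
  ring

omit [Fintype ι] [DecidableEq ι] in
/-- the plane `⟨u1, u2⟩` is anisotropic when `-1` is not a square -/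
theorem pair_aniso (hm1 : ¬ IsSquare (-1 : F)) (hQ1 : Q u1 = 1) (hQ2 : Q u2 = 1)
    (h12 : QuadraticMap.polar (⇑Q) u1 u2 = 0) (a b : F)
    (h : Q (a • u1 + b • u2) = 0) : a = 0 ∧ b = 0 := by
  rw [map_pair Q u1 u2 hQ1 hQ2 h12] at h
  have hb : b = 0 := by
    by_contra hb
    apply hm1
    refine ⟨a / b, ?_⟩
    field_simp
    linear_combination -h
  refine ⟨?_, hb⟩
  rw [hb] at h
  have : a ^ 2 = 0 := by linear_combination h
  exact pow_eq_zero_iff (two_ne_zero) |>.1 this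

end pair

/-- A3 -/
theorem A3 [Fintype F] (h2 : (2 : F) ≠ 0) (Q : QuadraticForm F (ι → F))
    (hQ : (QuadraticMap.polarBilin Q).Nondegenerate) (hn : 3 ≤ Fintype.card ι)
    (hm1 : ¬ IsSquare (-1 : F)) :
    ∃ x : GL ι F, x ∈ Cfsg.Geo.omegaGL (⇑Q) ∧ (x : Matrix ι ι F) * (x : Matrix ι ι F) = 1 ∧
      (∀ z : F, (x : Matrix ι ι F) ≠ z • (1 : Matrix ι ι F)) ∧
      finrank F (eigM (x : Matrix ι ι F)) = 2 ∧
      (∀ v ∈ eigM (x : Matrix ι ι F), v ≠ 0 → Q v ≠ 0) := by
  obtain ⟨u, -, huQ, huorth⟩ := Cfsg.Agent.Lib.Helper24_OrthR2_G0.G0 h2 Q ⊤ (nd_top Q hQ) 2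
    ![1, 1] (by intro i; fin_cases i <;> simp)
    (by rw [finrank_top, Module.finrank_fintype_fun_eq_card]; omega)
  obtain ⟨u1, hu1⟩ : ∃ u1, u1 = u 0 := ⟨_, rfl⟩
  obtain ⟨u2, hu2⟩ : ∃ u2, u2 = u 1 := ⟨_, rfl⟩
  have hQ1 : Q u1 = 1 := by rw [hu1, huQ 0]; rfl
  have hQ2 : Q u2 = 1 := by rw [hu2, huQ 1]; rfl
  have h12 : QuadraticMap.polar (⇑Q) u1 u2 = 0 := by
    rw [hu1, hu2]
    exact huorth 0 1 (by decide)
  have h21 : QuadraticMap.polar (⇑Q) u2 u1 = 0 := by rw [QuadraticMap.polar_comm]; exact h12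
  have h11 : QuadraticMap.polar (⇑Q) u1 u1 = 2 := by
    rw [Cfsg.Agent.Lib.Helper44_Refl.polar_self, hQ1, mul_one]
  have h22 : QuadraticMap.polar (⇑Q) u2 u2 = 2 := by
    rw [Cfsg.Agent.Lib.Helper44_Refl.polar_self, hQ2, mul_one]
  have hne1 : Q u1 ≠ 0 := by rw [hQ1]; exact one_ne_zero
  have hne2 : Q u2 ≠ 0 := by rw [hQ2]; exact one_ne_zero
  obtain ⟨g, hg⟩ : ∃ g : ↥(Cfsg.isometryGroup F (⇑Q)),
      g = Cfsg.Agent.Lib.Helper44_Refl.refl Q u1 hne1 * Cfsg.Agent.Lib.Helper44_Refl.refl Q u2 hne2 :=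
    ⟨_, rfl⟩
  obtain ⟨M, hM⟩ : ∃ M : Matrix ι ι F,
      M = Cfsg.reflectionMatrix (⇑Q) u1 * Cfsg.reflectionMatrix (⇑Q) u2 := ⟨_, rfl⟩
  have hgM : ((g : GL ι F) : Matrix ι ι F) = M := by
    rw [hg, hM]
    rfl
  have hgΩ : g ∈ Cfsg.Omega F (⇑Q) := by
    rw [Cfsg.Agent.Lib.Helper44_Spinor.mem_omega_iff Q h2 g [u1, u2]
      (by
        intro v hv
        simp only [List.mem_cons, List.not_mem_nil, or_false] at hv
        rcases hv with rfl | rfl
        · exact hne1
        · exact hne2)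
      (by rw [hgM, hM]; simp)]
    refine ⟨⟨1, rfl⟩, ?_⟩
    simp [hQ1, hQ2]
  have hact : ∀ v : ι → F, M *ᵥ v
      = v - QuadraticMap.polar (⇑Q) u1 v • u1 - QuadraticMap.polar (⇑Q) u2 v • u2 := by
    intro v
    rw [hM]
    exact refl_mul_refl_mulVec Q u1 u2 hQ1 hQ2 h12 v
  have hMu1 : M *ᵥ u1 = -u1 := by
    rw [hact, h11, h21]
    module
  have hMu2 : M *ᵥ u2 = -u2 := by
    rw [hact, h12, h22]
    module
  have hMM : M * M = 1 := by
    apply Cfsg.Agent.Lib.Helper44_Refl.matrix_ext_mulVec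
    intro v
    rw [← Matrix.mulVec_mulVec, Matrix.one_mulVec, hact v, Matrix.mulVec_sub, Matrix.mulVec_sub,
      Matrix.mulVec_smul, Matrix.mulVec_smul, hMu1, hMu2, hact v]
    module
  -- the eigenspace
  have heig : eigM M = Submodule.span F {u1, u2} := by
    apply le_antisymm
    · intro v hv
      rw [mem_eigM, hact] at hv
      rw [Submodule.mem_span_pair]
      obtain ⟨p1, hp1⟩ : ∃ p1, p1 = QuadraticMap.polar (⇑Q) u1 v := ⟨_, rfl⟩
      obtain ⟨p2, hp2⟩ : ∃ p2, p2 = QuadraticMap.polar (⇑Q) u2 v := ⟨_, rfl⟩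
      rw [← hp1, ← hp2] at hv
      refine ⟨p1 / 2, p2 / 2, ?_⟩
      have h2v : (2 : F) • v = p1 • u1 + p2 • u2 := by
        rw [two_smul]
        have h0 : v + v - (p1 • u1 + p2 • u2) = 0 := by
          have h := sub_eq_zero.2 hv
          rw [← h]
          abel
        exact sub_eq_zero.1 h0
      calc (p1 / 2) • u1 + (p2 / 2) • u2 = (2 : F)⁻¹ • (p1 • u1 + p2 • u2) := by
            rw [smul_add, smul_smul, smul_smul, div_eq_inv_mul, div_eq_inv_mul]
        _ = (2 : F)⁻¹ • ((2 : F) • v) := by rw [h2v]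
        _ = v := by rw [smul_smul, inv_mul_cancel₀ h2, one_smul]
    · rw [Submodule.span_le]
      rintro z (rfl | rfl)
      · exact (mem_eigM M _).2 hMu1
      · exact (mem_eigM M _).2 hMu2
  have hfr : finrank F (eigM M) = 2 := by
    have hli : LinearIndependent F ![u1, u2] := by
      rw [LinearIndependent.pair_iff]
      intro a b hab
      have : Q (a • u1 + b • u2) = 0 := by rw [hab, map_zero]
      exact pair_aniso Q u1 u2 hm1 hQ1 hQ2 h12 a b this
    have := finrank_span_eq_card hli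
    rw [Fintype.card_fin] at this
    have hrange : Set.range ![u1, u2] = {u1, u2} := by
      ext z
      simp only [Matrix.range_cons, Matrix.range_empty, Set.union_empty, Set.mem_union,
        Set.mem_singleton_iff, Set.mem_insert_iff]
    rw [hrange] at this
    rw [heig]
    exact this
  refine ⟨(g : GL ι F), ⟨g, hgΩ, rfl⟩, ?_, ?_, ?_, ?_⟩
  · rw [hgM]
    exact hMM
  · rw [hgM]
    intro z hz
    have hu10 : u1 ≠ 0 := by
      intro h
      rw [h, map_zero] at hQ1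
      exact zero_ne_one hQ1
    have hz1 : z = -1 := by
      have h := hMu1
      rw [hz, Matrix.smul_mulVec, Matrix.one_mulVec] at h
      have h' : (z + 1) • u1 = 0 := by
        rw [add_smul, one_smul, h]
        abel
      rcases smul_eq_zero.1 h' with h0 | h0
      · linear_combination h0
      · exact absurd h0 hu10
    have htop : eigM M = ⊤ := by
      rw [eq_top_iff]
      intro v _
      rw [mem_eigM, hz, hz1, Matrix.smul_mulVec, Matrix.one_mulVec, neg_one_smul]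
    rw [htop, finrank_top, Module.finrank_fintype_fun_eq_card] at hfr
    omega
  · rw [hgM]
    exact hfr
  · rw [hgM]
    intro v hv hv0
    rw [heig, Submodule.mem_span_pair] at hv
    obtain ⟨a, b, rfl⟩ := hv
    intro h
    obtain ⟨ha, hb⟩ := pair_aniso Q u1 u2 hm1 hQ1 hQ2 h12 a b h
    apply hv0
    rw [ha, hb, zero_smul, zero_smul, add_zero]

end Cfsg.Agent.Lib.Helper10_OrthR2_A3
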