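import Mathlib
import Cfsg.Agent.Lib.Helper44_StdForms
import Cfsg.Agent.Lib.Helper44_CD2

set_option autoImplicit false

/-!
The Witt index of the minus-type form `qfMinus n F c d` (anisotropic binary part) is at most `n` (helper44): a totally
singular subspace has dimension at most `n`.
-/

namespace Cfsg.Agent.Lib.Helper44_WittIndexMinus

open Cfsg Matrix Module Cfsg.Agent.Lib.Helper44_StdForms Cfsg.Agent.Lib.Helper44_CD2
  Cfsg.Agent.Lib.Helper44_Spinor Cfsg.Agent.Lib.Helper14_NegOne

variable {F : Type*} [Field F] (n : ℕ)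

/-- Extension by zero from the `x`-coordinates. -/
def embX : (Fin n → F) →ₗ[F] ((Fin n ⊕ Fin n) ⊕ Fin 2 → F) where
  toFun a := Sum.elim (Sum.elim a 0) 0
  map_add' a b := by
    ext k
    rcases k with (i | i) | j <;> simp
  map_smul' r a := by
    ext k
    rcases k with (i | i) | j <;> simp

theorem embX_injective : Function.Injective (embX n (F := F)) := by
  intro a b h
  ext i
  have := congrFun h (Sum.inl (Sum.inl i))
  simpa [embX] using this

theorem finrank_range_embX : finrank F ↥(LinearMap.range (embX n (F := F))) = n := by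
  rw [LinearMap.finrank_range_of_inj (embX_injective n)]
  simp

theorem polar_embX (c d : F) (a : Fin n → F) (v : (Fin n ⊕ Fin n) ⊕ Fin 2 → F) :
    QuadraticMap.polar (⇑(qfMinus n F c d)) (embX n a) v = ∑ i, a i * v (Sum.inl (Sum.inr i)) := by
  rw [coe_qfMinus, polar_quadFormMinus]
  simp [embX]

/-- A totally singular subspace of the minus-type space of dimension `2n+2` has dimension at most `n`. -/
theorem ts_finrank_le (c d : F)
    (hcd : ∀ z₁ z₂ : F, z₁ ^ 2 + c * z₁ * z₂ + d * z₂ ^ 2 = 0 → z₁ = 0 ∧ z₂ = 0)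
    (hQ : (QuadraticMap.polarBilin (qfMinus n F c d)).Nondegenerate)
    (W : Submodule F ((Fin n ⊕ Fin n) ⊕ Fin 2 → F)) (hW : ∀ w ∈ W, qfMinus n F c d w = 0) :
    finrank F ↥W ≤ n := by
  classical
  have hK : W ⊓ orth (qfMinus n F c d) (LinearMap.range (embX n (F := F)))
      ≤ LinearMap.range (embX n (F := F)) := by
    rintro v ⟨hvW, hvO⟩
    rw [SetLike.mem_coe, mem_orth] at hvO
    have hy : ∀ i, v (Sum.inl (Sum.inr i)) = 0 := by
      intro i
      have := hvO (embX n (Pi.single i 1)) ⟨_, rfl⟩
      rw [polar_embX] at this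
      simpa [Pi.single_apply] using this
    have hQv := hW v hvW
    have hQv' : v (Sum.inr 0) ^ 2 + c * v (Sum.inr 0) * v (Sum.inr 1) + d * v (Sum.inr 1) ^ 2 = 0 := by
      have h1 : (⇑(qfMinus n F c d)) v = 0 := hQv
      rw [coe_qfMinus] at h1
      simpa [Cfsg.quadFormMinus, hy] using h1
    obtain ⟨hz0, hz1⟩ := hcd _ _ hQv'
    refine ⟨fun i => v (Sum.inl (Sum.inl i)), ?_⟩
    ext k
    rcases k with (i | i) | j
    · simp [embX]
    · simp [embX, hy]
    · fin_cases j
      · simp [embX, hz0]
      · simp [embX, hz1]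
  have hsup : W ⊔ orth (qfMinus n F c d) (LinearMap.range (embX n (F := F)))
      ≤ orth (qfMinus n F c d)
          (W ⊓ orth (qfMinus n F c d) (LinearMap.range (embX n (F := F)))) := by
    apply sup_le
    · intro w hw
      rw [mem_orth]
      intro k hk
      rw [QuadraticMap.polar, hW _ (W.add_mem hk.1 hw), hW _ hk.1, hW _ hw]
      ring
    · exact LinearMap.BilinForm.orthogonal_le hK
  have h1 := Submodule.finrank_sup_add_finrank_inf_eq W
    (orth (qfMinus n F c d) (LinearMap.range (embX n (F := F))))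
  have h2 := Submodule.finrank_mono hsup
  have h3 := LinearMap.BilinForm.finrank_orthogonal hQ
    (W ⊓ orth (qfMinus n F c d) (LinearMap.range (embX n (F := F))))
  have h4 := LinearMap.BilinForm.finrank_orthogonal hQ (LinearMap.range (embX n (F := F)))
  have h5 := finrank_range_embX (F := F) n
  have h6 : finrank F ((Fin n ⊕ Fin n) ⊕ Fin 2 → F) = 2 * n + 2 := by
    simp [Fintype.card_sum]; ring
  have h7 := Submodule.finrank_le (W ⊓ orth (qfMinus n F c d) (LinearMap.range (embX n (F := F))))
  have h8 := Submodule.finrank_mono hK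
  simp only [orth] at h1 h2 h3 h4 h7 h8
  omega

end Cfsg.Agent.Lib.Helper44_WittIndexMinus
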