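import Mathlib
import Cfsg.Agent.S2616
import Cfsg.Agent.Lib.Helper40_QuadIso
import Cfsg.Agent.Lib.Helper44_StdForms
import Cfsg.Agent.Lib.Helper44_WittIndexMinus
import Cfsg.Agent.Lib.Helper14_POmegaSimple
import Cfsg.Agent.Lib.Helper40_OTransport

set_option autoImplicit false

/-!
The standard even-dimensional quadratic forms over a finite field: values on the standard basis,
Witt index, uniqueness of the anisotropic binary form, classification up to isometry, and the two
types of `V₀ ⊥ plane` (helper40).
-/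

namespace Cfsg.Agent.Lib.Helper40_QuadStd

open Module Cfsg.Agent.Lib.Helper40_QuadIso Cfsg.Agent.Lib.Helper44_StdForms

universe v

variable {F : Type v} [Field F]

theorem qfPlus_single (m : ℕ) (k : Fin m ⊕ Fin m) : qfPlus m F (Pi.single k 1) = 0 := by
  have h := congrFun (coe_qfPlus m F) (Pi.single k 1)
  rw [h, Cfsg.quadFormPlus]
  rcases k with i | i <;> simp [Pi.single_apply]

theorem polar_qfPlus_single (m : ℕ) (k l : Fin m ⊕ Fin m) :
    QuadraticMap.polar (⇑(qfPlus m F)) (Pi.single k 1) (Pi.single l 1) =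
      match k, l with
      | Sum.inl i, Sum.inr j => if i = j then 1 else 0
      | Sum.inr i, Sum.inl j => if i = j then 1 else 0
      | _, _ => 0 := by
  rw [coe_qfPlus, polar_quadFormPlus]
  rcases k with i | i <;> rcases l with j | j <;> simp [Pi.single_apply]
  split_ifs with h1 h2 h2
  · rfl
  · exact absurd h1.symm h2
  · exact absurd h2.symm h1
  · rfl

theorem qfMinus_single (n : ℕ) (a c : F) (k : (Fin n ⊕ Fin n) ⊕ Fin 2) :
    qfMinus n F a c (Pi.single k 1) =
      match k with
      | Sum.inl _ => 0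
      | Sum.inr j => if j = 0 then 1 else c := by
  have h := congrFun (coe_qfMinus n F a c) (Pi.single k 1)
  rw [h, Cfsg.quadFormMinus]
  rcases k with (i | i) | j
  · simp [Pi.single_apply]
  · simp [Pi.single_apply]
  · fin_cases j <;> simp

theorem polar_qfMinus_single (n : ℕ) (a c : F) (k l : (Fin n ⊕ Fin n) ⊕ Fin 2) :
    QuadraticMap.polar (⇑(qfMinus n F a c)) (Pi.single k 1) (Pi.single l 1) =
      match k, l with
      | Sum.inl (Sum.inl i), Sum.inl (Sum.inr j) => if i = j then 1 else 0
      | Sum.inl (Sum.inr i), Sum.inl (Sum.inl j) => if i = j then 1 else 0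
      | Sum.inr i, Sum.inr j => if i = j then (if i = 0 then 2 else 2 * c) else a
      | _, _ => 0 := by
  rw [coe_qfMinus, polar_quadFormMinus]
  rcases k with (i | i) | i <;> rcases l with (j | j) | j
  · simp [Pi.single_apply]
  · simp [Pi.single_apply]
    split_ifs with h1 h2 h2
    · rfl
    · exact absurd h1.symm h2
    · exact absurd h2.symm h1
    · rfl
  · simp [Pi.single_apply]
  · simp [Pi.single_apply]
  · simp [Pi.single_apply]
  · simp [Pi.single_apply]
  · simp [Pi.single_apply]
  · simp [Pi.single_apply]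
  · fin_cases i <;> fin_cases j <;> simp

/-- the plus form has a totally singular subspace of half the dimension -/
theorem isHyp_qfPlus (m : ℕ) : IsHyp (qfPlus m F) := by
  let emb : (Fin m → F) →ₗ[F] (Fin m ⊕ Fin m → F) :=
    { toFun := fun v => Sum.elim v 0
      map_add' := by
        intro x y
        funext k
        rcases k with i | i <;> simp
      map_smul' := by
        intro c x
        funext k
        rcases k with i | i <;> simp }
  have hemb : ∀ v, emb v = Sum.elim v 0 := fun v => rfl
  have hinj : Function.Injective emb := by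
    intro x y hxy
    funext i
    have := congrFun hxy (Sum.inl i)
    simpa [hemb] using this
  refine ⟨LinearMap.range emb, ?_, ?_⟩
  · rintro _ ⟨v, rfl⟩
    have h := congrFun (coe_qfPlus m F) (emb v)
    rw [h, Cfsg.quadFormPlus]
    simp [hemb]
  · rw [LinearMap.finrank_range_of_inj hinj, Module.finrank_fintype_fun_eq_card,
      Module.finrank_fintype_fun_eq_card, Fintype.card_sum, Fintype.card_fin]
    omega

/-- the minus form has no totally singular subspace of half the dimension -/
theorem not_isHyp_qfMinus [Fintype F] (n : ℕ) (a c : F)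
    (hac : ∀ z₁ z₂ : F, z₁ ^ 2 + a * z₁ * z₂ + c * z₂ ^ 2 = 0 → z₁ = 0 ∧ z₂ = 0) :
    ¬ IsHyp (qfMinus n F a c) := by
  rintro ⟨U, hU, hdim⟩
  have hnd := Cfsg.Agent.Lib.Helper14_POmegaSimple.nondegenerate_qfMinus n a c hac
  have h1 := Cfsg.Agent.Lib.Helper44_WittIndexMinus.ts_finrank_le n a c hac hnd U hU
  rw [Module.finrank_fintype_fun_eq_card, Fintype.card_sum, Fintype.card_sum, Fintype.card_fin,
    Fintype.card_fin] at hdim
  omega

/-- in characteristic two the image of `u ↦ u² + u` has index two -/
theorem artin_schreier_add [Fintype F] (h2 : (2 : F) = 0) (x y : F)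
    (hx : ∀ u : F, u ^ 2 + u ≠ x) (hy : ∀ u : F, u ^ 2 + u ≠ y) : ∃ u : F, u ^ 2 + u = x + y := by
  classical
  let f : F →+ F :=
    { toFun := fun u => u ^ 2 + u
      map_zero' := by simp
      map_add' := by
        intro u v
        linear_combination u * v * h2 }
  have hf : ∀ u, f u = u ^ 2 + u := fun u => rfl
  have hker : Nat.card f.ker = 2 := by
    rw [Nat.card_eq_two_iff]
    refine ⟨⟨0, by rw [AddMonoidHom.mem_ker, map_zero]⟩, ⟨1, by
      rw [AddMonoidHom.mem_ker, hf]
      linear_combination h2⟩, ?_, ?_⟩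
    · intro h
      have := congrArg Subtype.val h
      exact zero_ne_one this
    · ext ⟨u, hu⟩
      simp only [Set.mem_insert_iff, Set.mem_singleton_iff, Set.mem_univ, iff_true, Subtype.mk.injEq]
      rw [AddMonoidHom.mem_ker, hf] at hu
      have h3 : u * (u + 1) = 0 := by linear_combination hu
      rcases mul_eq_zero.1 h3 with h | h
      · exact Or.inl h
      · right
        linear_combination h - h2
  have hidx : f.range.index = 2 := by
    have h1 := AddSubgroup.card_mul_index f.ker
    have h3 := AddSubgroup.card_mul_index f.range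
    rw [AddSubgroup.index_ker, hker] at h1
    have hpos : 0 < Nat.card f.range := Nat.card_pos
    have h4 : Nat.card f.range * f.range.index = Nat.card f.range * 2 := by
      rw [h3, ← h1, mul_comm]
    exact Nat.eq_of_mul_eq_mul_left hpos h4
  have hxm : x ∉ f.range := by
    rintro ⟨u, hu⟩
    exact hx u hu
  have hym : y ∉ f.range := by
    rintro ⟨u, hu⟩
    exact hy u hu
  have hxy : x + y ∈ f.range := by
    rw [AddSubgroup.add_mem_iff_of_index_two hidx]
    exact ⟨fun h => absurd h hxm, fun h => absurd h hym⟩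
  obtain ⟨u, hu⟩ := hxy
  exact ⟨u, hu⟩

/-- matching two anisotropic binary forms over a finite field -/
theorem exists_binary_match [Fintype F] (ζ a c : F) (hζ : ∀ t : F, t ^ 2 + t + ζ ≠ 0)
    (hac : ∀ z₁ z₂ : F, z₁ ^ 2 + a * z₁ * z₂ + c * z₂ ^ 2 = 0 → z₁ = 0 ∧ z₂ = 0) :
    ∃ s t : F, 2 * s + t = a ∧ s ^ 2 + s * t + ζ * t ^ 2 = c := by
  classical
  by_cases h2 : (2 : F) = 0
  · have hrc : ringChar F = 2 := by
      have hc : CharP F 2 := CharTwo.of_one_ne_zero_of_two_eq_zero one_ne_zero h2
      exact ringChar.eq F 2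
    have ha : a ≠ 0 := by
      rintro rfl
      obtain ⟨e, he⟩ := FiniteField.isSquare_of_char_two hrc c
      have := hac e 1 (by rw [he]; linear_combination e * e * h2)
      exact one_ne_zero this.2
    have hx : ∀ u : F, u ^ 2 + u ≠ ζ := by
      intro u hu
      apply hζ u
      rw [hu]
      linear_combination ζ * h2
    have hy : ∀ u : F, u ^ 2 + u ≠ c / a ^ 2 := by
      intro u hu
      have h3 : a ^ 2 * (u ^ 2 + u) = c := by
        rw [hu]
        field_simp
      have := hac (a * u) 1 (by linear_combination h3 + c * h2)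
      exact one_ne_zero this.2
    obtain ⟨u, hu⟩ := artin_schreier_add h2 ζ (c / a ^ 2) hx hy
    refine ⟨a * u, a, by linear_combination a * u * h2, ?_⟩
    have h3 : a ^ 2 * (u ^ 2 + u) = a ^ 2 * ζ + c := by
      rw [hu]
      field_simp
    linear_combination h3 + a ^ 2 * ζ * h2
  · have hrc : ringChar F ≠ 2 := by
      intro h
      apply h2
      have := ringChar.Nat.cast_ringChar (R := F)
      rw [h] at this
      exact_mod_cast this
    set d₁ : F := 1 - 4 * ζ with hd₁
    set d₂ : F := a ^ 2 - 4 * c with hd₂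
    have hns₁ : ¬ IsSquare d₁ := by
      rintro ⟨e, he⟩
      apply hζ ((e - 1) / 2)
      field_simp
      linear_combination (-1 : F) * he + hd₁
    have hns₂ : ¬ IsSquare d₂ := by
      rintro ⟨e, he⟩
      have := hac (e - a) 2 (by linear_combination (-1 : F) * he + hd₂)
      exact h2 this.2
    have hd₁0 : d₁ ≠ 0 := by
      intro h
      apply hns₁
      rw [h]
      exact IsSquare.zero
    have hd₂0 : d₂ ≠ 0 := by
      intro h
      apply hns₂
      rw [h]
      exact IsSquare.zero
    have hsq : IsSquare (d₁ * d₂) := by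
      rw [← quadraticChar_one_iff_isSquare (mul_ne_zero hd₁0 hd₂0), map_mul,
        quadraticChar_neg_one_iff_not_isSquare.2 hns₁, quadraticChar_neg_one_iff_not_isSquare.2 hns₂]
      norm_num
    obtain ⟨e, he⟩ := hsq
    set w : F := e / d₁ with hw
    have hw2 : w ^ 2 * d₁ = d₂ := by
      rw [hw]
      field_simp
      linear_combination (-1 : F) * he
    refine ⟨(a + w) / 2, -w, by field_simp; ring, ?_⟩
    field_simp
    linear_combination (-1 : F) * hw2 + w ^ 2 * hd₁ - hd₂


/-- **classification**: a nondegenerate quadratic space of dimension `2 m` over a finite field is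
isometric to the plus form or to the minus form (with any given anisotropic binary part) -/
theorem iso_plus_or_minus [Fintype F] {V : Type*} [AddCommGroup V] [Module F V]
    [FiniteDimensional F V] (m : ℕ) (hm : 1 ≤ m) (hV : finrank F V = 2 * m)
    (Q : QuadraticForm F V) (hQ : (QuadraticMap.polarBilin Q).Nondegenerate) (a c : F)
    (hac : ∀ z₁ z₂ : F, z₁ ^ 2 + a * z₁ * z₂ + c * z₂ ^ 2 = 0 → z₁ = 0 ∧ z₂ = 0) :
    Iso Q (qfPlus m F) ∨ Iso Q (qfMinus (m - 1) F a c) := by
  classical
  rcases Cfsg.Agent.S2616.result hm hV Q hQ with ⟨b, hb0, hbef, hbee⟩ |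
    ⟨b, ζ, hζ, hb0, hbef, hbee, hbx, hx, hxy, hy⟩
  · left
    apply Iso.symm
    apply iso_of_basis (Pi.basisFun F (Fin m ⊕ Fin m)) (qfPlus m F) Q
      (Cfsg.Agent.Lib.Helper14_POmegaSimple.nondegenerate_qfPlus m) _ (fun k => b k)
    · intro k
      rw [Pi.basisFun_apply, qfPlus_single]
      rcases k with i | i
      · exact (hb0 i).1
      · exact (hb0 i).2
    · intro k l
      rw [Pi.basisFun_apply, Pi.basisFun_apply, polar_qfPlus_single]
      rcases k with i | i <;> rcases l with j | j
      · exact (hbee i j).1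
      · exact hbef i j
      · show QuadraticMap.polar (⇑Q) (b (Sum.inr i)) (b (Sum.inl j)) = if i = j then 1 else 0
        rw [QuadraticMap.polar_comm, hbef j i]
        by_cases h : i = j
        · rw [if_pos h, if_pos h.symm]
        · rw [if_neg h, if_neg (Ne.symm h)]
      · exact (hbee i j).2
    · rw [Module.finrank_fintype_fun_eq_card, Fintype.card_sum, Fintype.card_fin, hV]
      omega
  · right
    obtain ⟨s, t, hst1, hst2⟩ := exists_binary_match ζ a c hζ hac
    set x := b (Sum.inr 0) with hxdef
    set y := b (Sum.inr 1) with hydef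
    set y' := s • x + t • y with hy'def
    have hxx : QuadraticMap.polar (⇑Q) x x = 2 := by
      rw [QuadraticMap.polar_self, hx]
      norm_num
    have hyy : QuadraticMap.polar (⇑Q) y y = 2 * ζ := by
      rw [QuadraticMap.polar_self, hy]
      simp
    have hyx : QuadraticMap.polar (⇑Q) y x = 1 := by rw [QuadraticMap.polar_comm, hxy]
    have hxy' : QuadraticMap.polar (⇑Q) x y' = a := by
      rw [hy'def, QuadraticMap.polar_add_right, QuadraticMap.polar_smul_right,
        QuadraticMap.polar_smul_right, hxx, hxy]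
      simp only [smul_eq_mul]
      linear_combination hst1
    have hQy' : Q y' = c := by
      have h3 : Q y' = Q (s • x) + Q (t • y) + QuadraticMap.polar (⇑Q) (s • x) (t • y) := by
        rw [hy'def, QuadraticMap.polar]
        ring
      rw [h3, QuadraticMap.map_smul, QuadraticMap.map_smul, QuadraticMap.polar_smul_left,
        QuadraticMap.polar_smul_right, hx, hy, hxy]
      simp only [smul_eq_mul]
      linear_combination hst2
    have hy'y' : QuadraticMap.polar (⇑Q) y' y' = 2 * c := by
      rw [QuadraticMap.polar_self, hQy']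
      simp
    have he0 : ∀ i, QuadraticMap.polar (⇑Q) (b (Sum.inl (Sum.inl i))) x = 0 ∧
        QuadraticMap.polar (⇑Q) (b (Sum.inl (Sum.inl i))) y' = 0 := by
      intro i
      refine ⟨(hbx i 0).1, ?_⟩
      rw [hy'def, QuadraticMap.polar_add_right, QuadraticMap.polar_smul_right,
        QuadraticMap.polar_smul_right, (hbx i 0).1, (hbx i 1).1]
      simp
    have hf0 : ∀ i, QuadraticMap.polar (⇑Q) (b (Sum.inl (Sum.inr i))) x = 0 ∧
        QuadraticMap.polar (⇑Q) (b (Sum.inl (Sum.inr i))) y' = 0 := by
      intro i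
      refine ⟨(hbx i 0).2, ?_⟩
      rw [hy'def, QuadraticMap.polar_add_right, QuadraticMap.polar_smul_right,
        QuadraticMap.polar_smul_right, (hbx i 0).2, (hbx i 1).2]
      simp
    let img : (Fin (m - 1) ⊕ Fin (m - 1)) ⊕ Fin 2 → V := fun k =>
      match k with
      | Sum.inl k' => b (Sum.inl k')
      | Sum.inr j => if j = 0 then x else y'
    have himg0 : img (Sum.inr 0) = x := rfl
    have himg1 : img (Sum.inr 1) = y' := rfl
    have himgl : ∀ k', img (Sum.inl k') = b (Sum.inl k') := fun _ => rfl
    apply Iso.symm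
    apply iso_of_basis (Pi.basisFun F ((Fin (m - 1) ⊕ Fin (m - 1)) ⊕ Fin 2))
      (qfMinus (m - 1) F a c) Q
      (Cfsg.Agent.Lib.Helper14_POmegaSimple.nondegenerate_qfMinus (m - 1) a c hac) _ img
    · intro k
      rw [Pi.basisFun_apply, qfMinus_single]
      rcases k with (i | i) | j
      · exact (hb0 i).1
      · exact (hb0 i).2
      · fin_cases j
        · exact hx
        · exact hQy'
    · intro k l
      rw [Pi.basisFun_apply, Pi.basisFun_apply, polar_qfMinus_single]
      rcases k with (i | i) | i <;> rcases l with (j | j) | j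
      · exact (hbee i j).1
      · exact hbef i j
      · fin_cases j
        · exact (he0 i).1
        · exact (he0 i).2
      · show QuadraticMap.polar (⇑Q) (b (Sum.inl (Sum.inr i))) (b (Sum.inl (Sum.inl j))) =
          if i = j then 1 else 0
        rw [QuadraticMap.polar_comm, hbef j i]
        by_cases h : i = j
        · rw [if_pos h, if_pos h.symm]
        · rw [if_neg h, if_neg (Ne.symm h)]
      · exact (hbee i j).2
      · fin_cases j
        · exact (hf0 i).1
        · exact (hf0 i).2
      · rw [QuadraticMap.polar_comm]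
        fin_cases i
        · exact (he0 j).1
        · exact (he0 j).2
      · rw [QuadraticMap.polar_comm]
        fin_cases i
        · exact (hf0 j).1
        · exact (hf0 j).2
      · fin_cases i <;> fin_cases j
        · exact hxx
        · exact hxy'
        · show QuadraticMap.polar (⇑Q) y' x = _
          rw [QuadraticMap.polar_comm]
          exact hxy'
        · exact hy'y'
    · rw [Module.finrank_fintype_fun_eq_card, Fintype.card_sum, Fintype.card_sum, Fintype.card_fin,
        Fintype.card_fin, hV]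
      omega

/-- anisotropic binary forms exist over finite fields -/
theorem exists_aniso [Fintype F] :
    ∃ ζ : F, ∀ z₁ z₂ : F, z₁ ^ 2 + 1 * z₁ * z₂ + ζ * z₂ ^ 2 = 0 → z₁ = 0 ∧ z₂ = 0 := by
  have hninj : ¬ Function.Injective (fun t : F => t ^ 2 + t) := by
    intro h
    have h1 : (fun t : F => t ^ 2 + t) 0 = (fun t : F => t ^ 2 + t) (-1) := by
      show (0 : F) ^ 2 + 0 = (-1) ^ 2 + (-1)
      ring
    have := h h1
    exact one_ne_zero (neg_eq_zero.1 this.symm)
  have hnsurj : ¬ Function.Surjective (fun t : F => t ^ 2 + t) := fun h =>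
    hninj (Finite.injective_iff_surjective.2 h)
  rw [Function.Surjective] at hnsurj
  push Not at hnsurj
  obtain ⟨y, hy⟩ := hnsurj
  refine ⟨-y, ?_⟩
  intro z₁ z₂ h
  by_cases hz : z₂ = 0
  · subst hz
    refine ⟨?_, rfl⟩
    have h1 : z₁ ^ 2 = 0 := by linear_combination h
    exact pow_eq_zero_iff (two_ne_zero) |>.1 h1
  · exfalso
    apply hy (z₁ / z₂)
    show (z₁ / z₂) ^ 2 + z₁ / z₂ = y
    field_simp
    linear_combination h

/-- adding a hyperbolic plane and adding an anisotropic plane give the two types -/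
theorem two_types [Fintype F] {V₀ : Type v} [AddCommGroup V₀] [Module F V₀]
    [FiniteDimensional F V₀] (m : ℕ) (hm : 1 ≤ m) (hV : finrank F V₀ = 2 * (m - 1))
    (Q₀ : QuadraticForm F V₀) (hQ₀ : (QuadraticMap.polarBilin Q₀).Nondegenerate) (a c : F)
    (hac : ∀ z₁ z₂ : F, z₁ ^ 2 + a * z₁ * z₂ + c * z₂ ^ 2 = 0 → z₁ = 0 ∧ z₂ = 0) :
    (Iso (Q₀.prod (qfPlus 1 F)) (qfPlus m F) ∧
        Iso (Q₀.prod (qfMinus 0 F a c)) (qfMinus (m - 1) F a c)) ∨
      (Iso (Q₀.prod (qfPlus 1 F)) (qfMinus (m - 1) F a c) ∧
        Iso (Q₀.prod (qfMinus 0 F a c)) (qfPlus m F)) := by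
  have hP := Cfsg.Agent.Lib.Helper14_POmegaSimple.nondegenerate_qfPlus (F := F) 1
  have hM := Cfsg.Agent.Lib.Helper14_POmegaSimple.nondegenerate_qfMinus 0 a c hac
  have hH := Cfsg.Agent.Lib.Helper40_OTransport.nondegenerate_prod Q₀ (qfPlus 1 F) hQ₀ hP
  have hE := Cfsg.Agent.Lib.Helper40_OTransport.nondegenerate_prod Q₀ (qfMinus 0 F a c) hQ₀ hM
  have hdH : finrank F (V₀ × (Fin 1 ⊕ Fin 1 → F)) = 2 * m := by
    rw [Module.finrank_prod, hV, Module.finrank_fintype_fun_eq_card, Fintype.card_sum,
      Fintype.card_fin]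
    omega
  have hdE : finrank F (V₀ × ((Fin 0 ⊕ Fin 0) ⊕ Fin 2 → F)) = 2 * m := by
    rw [Module.finrank_prod, hV, Module.finrank_fintype_fun_eq_card, Fintype.card_sum,
      Fintype.card_sum, Fintype.card_fin, Fintype.card_fin]
    omega
  have hne : ¬ Iso (Q₀.prod (qfPlus 1 F)) (Q₀.prod (qfMinus 0 F a c)) := by
    intro h
    have h1 := cancel Q₀ (qfPlus 1 F) (qfMinus 0 F a c) hQ₀ hE h
    exact not_isHyp_qfMinus 0 a c hac (IsHyp.of_iso h1 (isHyp_qfPlus 1))
  rcases iso_plus_or_minus m hm hdH _ hH a c hac with h1 | h1 <;>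
    rcases iso_plus_or_minus m hm hdE _ hE a c hac with h2 | h2
  · exact absurd (h1.trans h2.symm) hne
  · exact Or.inl ⟨h1, h2⟩
  · exact Or.inr ⟨h1, h2⟩
  · exact absurd (h1.trans h2.symm) hne

end Cfsg.Agent.Lib.Helper40_QuadStd
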