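import Mathlib
import Cfsg.Agent.Lib.Helper40_QuadIso
import Cfsg.Agent.Lib.Helper40_OTransport

set_option autoImplicit false

/-!
Isometries of prescribed order of quadratic spaces (`HasIsom`), orthogonal sums, transport along
isometries of spaces, the bridge to the matrix isometry group, and the arithmetic bookkeeping
(`Tor`, `twelve`) for the spectrum of `Sp₈(q)`, `q` even.
-/

namespace Cfsg.Agent.Lib.Helper40_S8Defs

open Module Cfsg.Agent.Lib.Helper40_QuadIso Cfsg.Agent.Lib.Helper40_OClasses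
  Cfsg.Agent.Lib.Helper44_WittMat Cfsg.Agent.Lib.Helper44_Orth

/-- the quadratic space `Q` has an isometry of order exactly `n` -/
def HasIsom {F : Type*} [Field F] {V : Type*} [AddCommGroup V] [Module F V]
    (Q : QuadraticForm F V) (n : ℕ) : Prop :=
  ∃ T : Module.End F V, (∀ v, Q (T v) = Q v) ∧ orderOf T = n

/-- `Tor q L S`: `L` is an lcm of numbers `q ^ a - 1`, `q ^ a + 1` whose exponents add up to `S` -/
inductive Tor (q : ℕ) : ℕ → ℕ → Prop
  | one : Tor q 1 0
  | sub {L S : ℕ} (a : ℕ) : Tor q L S → 1 ≤ a → Tor q (Nat.lcm L (q ^ a - 1)) (S + a)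
  | add {L S : ℕ} (a : ℕ) : Tor q L S → 1 ≤ a → Tor q (Nat.lcm L (q ^ a + 1)) (S + a)

/-- the twelve maximal element orders of `Sp₈(q)`, `q` even -/
def twelve (q : ℕ) : List ℕ :=
  [q ^ 4 + 1, q ^ 4 - 1, (q ^ 3 + 1) * (q - 1), (q ^ 3 - 1) * (q + 1), 2 * (q ^ 3 + 1),
    2 * (q ^ 3 - 1), 2 * ((q ^ 2 + 1) * (q + 1)), 2 * ((q ^ 2 + 1) * (q - 1)), 4 * (q ^ 2 + 1),
    4 * (q ^ 2 - 1), 8 * (q + 1), 8 * (q - 1)]

section basics

variable {F : Type*} [Field F]

theorem hasIsom_one {V : Type*} [AddCommGroup V] [Module F V] (Q : QuadraticForm F V) :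
    HasIsom Q 1 := ⟨1, fun _ => rfl, orderOf_one⟩

theorem HasIsom.of_dvd {V : Type*} [AddCommGroup V] [Module F V] {Q : QuadraticForm F V} {n d : ℕ}
    (h : HasIsom Q n) (hn : 0 < n) (hd : d ∣ n) : HasIsom Q d := by
  obtain ⟨T, hT, hord⟩ := h
  obtain ⟨c, rfl⟩ := hd
  have hc : 0 < c := Nat.pos_of_mul_pos_left hn
  refine ⟨T ^ c, ?_, ?_⟩
  · intro v
    have : ∀ k : ℕ, ∀ v, Q ((T ^ k) v) = Q v := by
      intro k
      induction k with
      | zero => intro v; rfl
      | succ k ih =>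
        intro v
        rw [pow_succ, Module.End.mul_apply, ih, hT]
    exact this c v
  · rw [orderOf_pow' T hc.ne', hord, Nat.gcd_eq_right (dvd_mul_left c d),
      Nat.mul_div_cancel _ hc]

theorem HasIsom.of_iso {V V' : Type*} [AddCommGroup V] [Module F V] [AddCommGroup V']
    [Module F V'] {Q : QuadraticForm F V} {Q' : QuadraticForm F V'} (hi : Iso Q Q') {n : ℕ}
    (h : HasIsom Q n) : HasIsom Q' n := by
  obtain ⟨φ, hφ⟩ := hi
  obtain ⟨T, hT, hord⟩ := h
  refine ⟨φ.conjRingEquiv T, ?_, ?_⟩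
  · intro v
    have h1 : φ.conjRingEquiv T v = φ (T (φ.symm v)) := rfl
    rw [h1, hφ, hT, ← hφ, φ.apply_symm_apply]
  · rw [← hord]
    exact MulEquiv.orderOf_eq φ.conjRingEquiv.toMulEquiv T

theorem HasIsom.prod {V₁ V₂ : Type*} [AddCommGroup V₁] [Module F V₁] [AddCommGroup V₂]
    [Module F V₂] {Q₁ : QuadraticForm F V₁} {Q₂ : QuadraticForm F V₂} {n₁ n₂ : ℕ}
    (h₁ : HasIsom Q₁ n₁) (h₂ : HasIsom Q₂ n₂) : HasIsom (Q₁.prod Q₂) (Nat.lcm n₁ n₂) := by
  obtain ⟨T₁, hT₁, rfl⟩ := h₁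
  obtain ⟨T₂, hT₂, rfl⟩ := h₂
  have hpow : ∀ k : ℕ, (LinearMap.prodMap T₁ T₂ : Module.End F (V₁ × V₂)) ^ k =
      LinearMap.prodMap (T₁ ^ k) (T₂ ^ k) := by
    intro k
    induction k with
    | zero =>
      rw [pow_zero, pow_zero, pow_zero]
      exact LinearMap.prodMap_one.symm
    | succ k ih =>
      rw [pow_succ, pow_succ, pow_succ, ih]
      exact (LinearMap.prodMap_mul _ _ _ _).symm
  refine ⟨LinearMap.prodMap T₁ T₂, ?_, ?_⟩
  · intro v
    rw [QuadraticMap.prod_apply, QuadraticMap.prod_apply, LinearMap.prodMap_apply, hT₁, hT₂]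
  · apply Nat.dvd_antisymm
    · apply orderOf_dvd_of_pow_eq_one
      rw [hpow]
      have e1 : T₁ ^ Nat.lcm (orderOf T₁) (orderOf T₂) = 1 :=
        orderOf_dvd_iff_pow_eq_one.1 (Nat.dvd_lcm_left _ _)
      have e2 : T₂ ^ Nat.lcm (orderOf T₁) (orderOf T₂) = 1 :=
        orderOf_dvd_iff_pow_eq_one.1 (Nat.dvd_lcm_right _ _)
      rw [e1, e2]
      exact LinearMap.prodMap_one
    · have h := pow_orderOf_eq_one (LinearMap.prodMap T₁ T₂ : Module.End F (V₁ × V₂))
      rw [hpow] at h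
      have h1 : T₁ ^ orderOf (LinearMap.prodMap T₁ T₂ : Module.End F (V₁ × V₂)) = 1 := by
        apply LinearMap.ext
        intro x
        have := congrArg (fun f : Module.End F (V₁ × V₂) => (f (x, 0)).1) h
        simpa using this
      have h2 : T₂ ^ orderOf (LinearMap.prodMap T₁ T₂ : Module.End F (V₁ × V₂)) = 1 := by
        apply LinearMap.ext
        intro x
        have := congrArg (fun f : Module.End F (V₁ × V₂) => (f (0, x)).2) h
        simpa using this
      exact Nat.lcm_dvd (orderOf_dvd_of_pow_eq_one h1) (orderOf_dvd_of_pow_eq_one h2)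

end basics

section bridge

variable {ι : Type} [Fintype ι] [DecidableEq ι] {F : Type*} [Field F]

/-- an element of the matrix isometry group gives an isometry of the same order -/
theorem hasIsom_of_mem (Q : QuadraticForm F (ι → F)) (g : ↥(Cfsg.isometryGroup F ⇑Q)) :
    HasIsom Q (orderOf g) := by
  refine ⟨Matrix.toLin' (mat Q g), ?_, ?_⟩
  · intro u
    rw [Matrix.toLin'_apply]
    exact (mem_isometryGroup_iff (⇑Q) (g : Matrix.GeneralLinearGroup ι F)).1 g.2 u
  · apply orderOf_eq_orderOf_iff.2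
    intro k
    rw [← Matrix.toLin'_pow, ← mat_pow_eq_one_iff Q g k]
    constructor
    · intro h
      apply Matrix.toLin'.injective
      rw [h, Matrix.toLin'_one]
      rfl
    · intro h
      rw [h, Matrix.toLin'_one]
      rfl

/-- an isometry of positive order `n` gives an element of order `n` of the matrix isometry
group -/
theorem mem_range_of_hasIsom (Q : QuadraticForm F (ι → F)) {n : ℕ} (hn : 0 < n)
    (h : HasIsom Q n) : n ∈ Set.range (orderOf : ↥(Cfsg.isometryGroup F ⇑Q) → ℕ) := by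
  obtain ⟨T, hT, rfl⟩ := h
  have hpow : T ^ orderOf T = 1 := pow_orderOf_eq_one T
  have h1 : T * T ^ (orderOf T - 1) = 1 := by rw [← pow_succ', Nat.sub_add_cancel hn, hpow]
  have h2 : T ^ (orderOf T - 1) * T = 1 := by rw [← pow_succ, Nat.sub_add_cancel hn, hpow]
  let e : (ι → F) ≃ₗ[F] (ι → F) := LinearEquiv.ofLinearMap T (T ^ (orderOf T - 1)) h1 h2
  have he : ∀ v, Q (e v) = Q v := fun v => hT v
  have hmat : mat Q (isomOfEquiv Q e he) = LinearMap.toMatrix' T := rfl
  refine ⟨isomOfEquiv Q e he, ?_⟩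
  apply orderOf_eq_orderOf_iff.2
  intro k
  rw [← mat_pow_eq_one_iff, hmat]
  have hp : LinearMap.toMatrix' T ^ k = LinearMap.toMatrix' (T ^ k) :=
    (map_pow (LinearMap.toMatrixAlgEquiv' (R := F) (n := ι)) T k).symm
  rw [hp]
  constructor
  · intro h
    apply LinearMap.toMatrix'.injective
    rw [LinearMap.toMatrix'_one, ← h]
  · intro h
    rw [h, LinearMap.toMatrix'_one]

end bridge

end Cfsg.Agent.Lib.Helper40_S8Defs
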