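import Mathlib
import Cfsg.Agent.Lib.Helper40_S8Defs
import Cfsg.Agent.Lib.Helper40_QuadStd
import Cfsg.Agent.Lib.Helper14_POmegaSimple

set_option autoImplicit false

/-!
Type calculus for orthogonal sums of the standard plus and minus forms over a finite field:
plus ⊥ plus = plus, plus ⊥ minus = minus and, in characteristic two, minus ⊥ minus = plus.
-/

namespace Cfsg.Agent.Lib.Helper40_S8Types

open Module Cfsg.Agent.Lib.Helper40_S8Defs Cfsg.Agent.Lib.Helper40_QuadIso
  Cfsg.Agent.Lib.Helper40_QuadStd Cfsg.Agent.Lib.Helper44_StdForms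
  Cfsg.Agent.Lib.Helper14_POmegaSimple Cfsg.Agent.Lib.Helper40_OTransport

universe v

variable {F : Type v} [Field F]

section general

variable {V₁ V₂ : Type v} [AddCommGroup V₁] [Module F V₁] [AddCommGroup V₂] [Module F V₂]

/-- the orthogonal sum of two hyperbolic spaces is hyperbolic -/
theorem isHyp_prod [FiniteDimensional F V₁] [FiniteDimensional F V₂] {Q₁ : QuadraticForm F V₁}
    {Q₂ : QuadraticForm F V₂} (h₁ : IsHyp Q₁) (h₂ : IsHyp Q₂) : IsHyp (Q₁.prod Q₂) := by
  obtain ⟨U₁, hU₁, hd₁⟩ := h₁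
  obtain ⟨U₂, hU₂, hd₂⟩ := h₂
  have hinj : Function.Injective (LinearMap.prodMap U₁.subtype U₂.subtype) := by
    rintro ⟨x₁, x₂⟩ ⟨y₁, y₂⟩ hxy
    rw [LinearMap.prodMap_apply, LinearMap.prodMap_apply, Prod.mk.injEq] at hxy
    exact Prod.ext (Subtype.ext hxy.1) (Subtype.ext hxy.2)
  refine ⟨LinearMap.range (LinearMap.prodMap U₁.subtype U₂.subtype), ?_, ?_⟩
  · rintro _ ⟨⟨u₁, u₂⟩, rfl⟩
    rw [LinearMap.prodMap_apply, QuadraticMap.prod_apply]
    show Q₁ (u₁ : V₁) + Q₂ (u₂ : V₂) = 0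
    rw [hU₁ _ u₁.2, hU₂ _ u₂.2, add_zero]
  · rw [LinearMap.finrank_range_of_inj hinj, Module.finrank_prod, Module.finrank_prod]
    omega

end general

section classify

variable [Fintype F] {V : Type v} [AddCommGroup V] [Module F V] [FiniteDimensional F V]

/-- a hyperbolic nondegenerate space is the plus form -/
theorem iso_plus_of_hyp (m : ℕ) (hm : 1 ≤ m) (hV : finrank F V = 2 * m) (Q : QuadraticForm F V)
    (hQ : (QuadraticMap.polarBilin Q).Nondegenerate) (hh : IsHyp Q) : Iso Q (qfPlus m F) := by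
  obtain ⟨ζ, hζ⟩ := exists_aniso (F := F)
  rcases iso_plus_or_minus m hm hV Q hQ 1 ζ hζ with h | h
  · exact h
  · exact absurd (hh.of_iso h) (not_isHyp_qfMinus (m - 1) 1 ζ hζ)

/-- a non-hyperbolic nondegenerate space is the minus form -/
theorem iso_minus_of_not_hyp (m : ℕ) (hm : 1 ≤ m) (hV : finrank F V = 2 * m)
    (Q : QuadraticForm F V) (hQ : (QuadraticMap.polarBilin Q).Nondegenerate) (hh : ¬ IsHyp Q)
    (a b : F) (han : ∀ z₁ z₂ : F, z₁ ^ 2 + a * z₁ * z₂ + b * z₂ ^ 2 = 0 → z₁ = 0 ∧ z₂ = 0) :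
    Iso Q (qfMinus (m - 1) F a b) := by
  rcases iso_plus_or_minus m hm hV Q hQ a b han with h | h
  · exact absurd ((isHyp_qfPlus m).of_iso h.symm) hh
  · exact h

end classify

section sums

variable [Fintype F]

omit [Fintype F] in
theorem finrank_plus (m : ℕ) : finrank F (Fin m ⊕ Fin m → F) = 2 * m := by
  rw [Module.finrank_fintype_fun_eq_card, Fintype.card_sum, Fintype.card_fin, two_mul]

omit [Fintype F] in
theorem finrank_minus (m : ℕ) : finrank F ((Fin m ⊕ Fin m) ⊕ Fin 2 → F) = 2 * (m + 1) := by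
  rw [Module.finrank_fintype_fun_eq_card, Fintype.card_sum, Fintype.card_sum, Fintype.card_fin,
    Fintype.card_fin]
  ring

/-- plus ⊥ plus = plus -/
theorem iso_plus_plus (m k : ℕ) (hmk : 1 ≤ m + k) :
    Iso ((qfPlus m F).prod (qfPlus k F)) (qfPlus (m + k) F) := by
  apply iso_plus_of_hyp (m + k) hmk
  · rw [Module.finrank_prod, finrank_plus, finrank_plus]
    ring
  · exact nondegenerate_prod _ _ (nondegenerate_qfPlus m) (nondegenerate_qfPlus k)
  · exact isHyp_prod (isHyp_qfPlus m) (isHyp_qfPlus k)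

/-- plus ⊥ minus is not hyperbolic -/
theorem not_isHyp_plus_minus (m k : ℕ) (a b : F)
    (han : ∀ z₁ z₂ : F, z₁ ^ 2 + a * z₁ * z₂ + b * z₂ ^ 2 = 0 → z₁ = 0 ∧ z₂ = 0) :
    ¬ IsHyp ((qfPlus m F).prod (qfMinus k F a b)) := by
  intro hh
  have hnd := nondegenerate_prod _ _ (nondegenerate_qfPlus (F := F) m)
    (nondegenerate_qfMinus k a b han)
  have hdim : finrank F ((Fin m ⊕ Fin m → F) × ((Fin k ⊕ Fin k) ⊕ Fin 2 → F)) =
      2 * (m + (k + 1)) := by
    rw [Module.finrank_prod, finrank_plus, finrank_minus]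
    ring
  have h1 := iso_plus_of_hyp (m + (k + 1)) (by omega) hdim _ hnd hh
  have h2 := iso_plus_plus (F := F) m (k + 1) (by omega)
  have hnd2 := nondegenerate_prod _ _ (nondegenerate_qfPlus (F := F) m)
    (nondegenerate_qfPlus (k + 1))
  have h3 := cancel (qfPlus m F) (qfMinus k F a b) (qfPlus (k + 1) F) (nondegenerate_qfPlus m)
    hnd2 (h1.trans h2.symm)
  exact not_isHyp_qfMinus k a b han ((isHyp_qfPlus (k + 1)).of_iso h3.symm)

/-- plus ⊥ minus = minus -/
theorem iso_plus_minus (m k : ℕ) (a b : F)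
    (han : ∀ z₁ z₂ : F, z₁ ^ 2 + a * z₁ * z₂ + b * z₂ ^ 2 = 0 → z₁ = 0 ∧ z₂ = 0) :
    Iso ((qfPlus m F).prod (qfMinus k F a b)) (qfMinus (m + k) F a b) := by
  have h := iso_minus_of_not_hyp (m + k + 1) (by omega) (by
      rw [Module.finrank_prod, finrank_plus, finrank_minus]
      ring) ((qfPlus m F).prod (qfMinus k F a b))
    (nondegenerate_prod _ _ (nondegenerate_qfPlus (F := F) m) (nondegenerate_qfMinus k a b han))
    (not_isHyp_plus_minus m k a b han) a b han
  exact h

omit [Fintype F] in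
/-- in characteristic two minus ⊥ minus is hyperbolic -/
theorem isHyp_minus_minus [CharP F 2] (m k : ℕ) (a b : F) :
    IsHyp ((qfMinus m F a b).prod (qfMinus k F a b)) := by
  have h2 : (2 : F) = 0 := by
    have := CharP.cast_eq_zero F 2
    exact_mod_cast this
  let emb : ((Fin m → F) × (Fin k → F) × (Fin 2 → F)) →ₗ[F]
      (((Fin m ⊕ Fin m) ⊕ Fin 2 → F) × ((Fin k ⊕ Fin k) ⊕ Fin 2 → F)) :=
    { toFun := fun p => (Sum.elim (Sum.elim p.1 0) p.2.2, Sum.elim (Sum.elim p.2.1 0) p.2.2)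
      map_add' := by
        rintro ⟨x, x', z⟩ ⟨y, y', w⟩
        apply Prod.ext
        · funext i
          rcases i with (i | i) | i <;> simp
        · funext i
          rcases i with (i | i) | i <;> simp
      map_smul' := by
        rintro c ⟨x, x', z⟩
        apply Prod.ext
        · funext i
          rcases i with (i | i) | i <;> simp
        · funext i
          rcases i with (i | i) | i <;> simp }
  have hemb : ∀ p, emb p =
      (Sum.elim (Sum.elim p.1 0) p.2.2, Sum.elim (Sum.elim p.2.1 0) p.2.2) := fun p => rfl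
  have hinj : Function.Injective emb := by
    rintro ⟨x, x', z⟩ ⟨y, y', w⟩ hxy
    rw [hemb, hemb, Prod.mk.injEq] at hxy
    obtain ⟨h1, h3⟩ := hxy
    have e1 : x = y := by
      funext i
      have := congrFun h1 (Sum.inl (Sum.inl i))
      simpa using this
    have e2 : x' = y' := by
      funext i
      have := congrFun h3 (Sum.inl (Sum.inl i))
      simpa using this
    have e3 : z = w := by
      funext i
      have := congrFun h1 (Sum.inr i)
      simpa using this
    rw [e1, e2, e3]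
  refine ⟨LinearMap.range emb, ?_, ?_⟩
  · rintro _ ⟨⟨x, x', z⟩, rfl⟩
    rw [hemb, QuadraticMap.prod_apply]
    have e1 := congrFun (coe_qfMinus m F a b) (Sum.elim (Sum.elim x 0) z)
    have e2 := congrFun (coe_qfMinus k F a b) (Sum.elim (Sum.elim x' 0) z)
    rw [e1, e2, Cfsg.quadFormMinus, Cfsg.quadFormMinus]
    simp only [Sum.elim_inl, Sum.elim_inr, Pi.zero_apply, mul_zero, Finset.sum_const_zero,
      zero_add]
    linear_combination (z 0 ^ 2 + a * z 0 * z 1 + b * z 1 ^ 2) * h2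
  · rw [LinearMap.finrank_range_of_inj hinj, Module.finrank_prod, Module.finrank_prod,
      Module.finrank_prod, finrank_minus, finrank_minus, Module.finrank_fintype_fun_eq_card,
      Module.finrank_fintype_fun_eq_card, Module.finrank_fintype_fun_eq_card, Fintype.card_fin,
      Fintype.card_fin, Fintype.card_fin]
    omega

/-- in characteristic two minus ⊥ minus = plus -/
theorem iso_minus_minus [CharP F 2] (m k : ℕ) (a b : F)
    (han : ∀ z₁ z₂ : F, z₁ ^ 2 + a * z₁ * z₂ + b * z₂ ^ 2 = 0 → z₁ = 0 ∧ z₂ = 0) :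
    Iso ((qfMinus m F a b).prod (qfMinus k F a b)) (qfPlus (m + k + 2) F) := by
  apply iso_plus_of_hyp (m + k + 2) (by omega)
  · rw [Module.finrank_prod, finrank_minus, finrank_minus]
    ring
  · exact nondegenerate_prod _ _ (nondegenerate_qfMinus m a b han)
      (nondegenerate_qfMinus k a b han)
  · exact isHyp_minus_minus m k a b

end sums

section hasIsom

variable [Fintype F]

theorem hasIsom_plus_plus {m k n n' : ℕ} (hmk : 1 ≤ m + k) (h : HasIsom (qfPlus m F) n)
    (h' : HasIsom (qfPlus k F) n') : HasIsom (qfPlus (m + k) F) (Nat.lcm n n') :=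
  (h.prod h').of_iso (iso_plus_plus m k hmk)

theorem hasIsom_plus_minus {m k n n' : ℕ} (a b : F)
    (han : ∀ z₁ z₂ : F, z₁ ^ 2 + a * z₁ * z₂ + b * z₂ ^ 2 = 0 → z₁ = 0 ∧ z₂ = 0)
    (h : HasIsom (qfPlus m F) n) (h' : HasIsom (qfMinus k F a b) n') :
    HasIsom (qfMinus (m + k) F a b) (Nat.lcm n n') :=
  (h.prod h').of_iso (iso_plus_minus m k a b han)

theorem hasIsom_minus_minus [CharP F 2] {m k n n' : ℕ} (a b : F)
    (han : ∀ z₁ z₂ : F, z₁ ^ 2 + a * z₁ * z₂ + b * z₂ ^ 2 = 0 → z₁ = 0 ∧ z₂ = 0)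
    (h : HasIsom (qfMinus m F a b) n) (h' : HasIsom (qfMinus k F a b) n') :
    HasIsom (qfPlus (m + k + 2) F) (Nat.lcm n n') :=
  (h.prod h').of_iso (iso_minus_minus m k a b han)

end hasIsom

end Cfsg.Agent.Lib.Helper40_S8Types
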