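import Mathlib
import Cfsg.Agent.Lib.Helper40_SpBasic

/-!
# Definitions for S5974 / S5988 / S5990 (helper88): nondegenerate subspaces of given type fixed by
isometries of odd prime order of an even-dimensional quadratic space over a finite field

`PlusOn Q W` : `W` contains a totally singular subspace of half its dimension (plus type).
`SignPlus i k` : the type of an orthogonal sum of `k` atoms is plus (`i = ord_r(q)` odd, or `k` even).
`Valid`, `Fix` : the combinatorial model. An isometry `x` of odd prime order `r ≠ p` of a nondegenerate
quadratic space of dimension `D` and type `eps` has `a` atoms (nondegenerate minimal invariant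
subspaces of dimension `c`, of type `SignPlus i 1`) and a fixed space of dimension `D - c a`;
`Valid` says that such an `x` can exist, `Fix` that it stabilises a nondegenerate subspace of
dimension `m` and type `eta`.
-/

set_option autoImplicit false

namespace Cfsg.Agent.Lib.Helper88_OrthNDDefs

open Module Cfsg.Agent.Lib.Helper40_SpBasic

variable {F : Type*} [Field F] {V : Type*} [AddCommGroup V] [Module F V]

/-- `W` contains a totally singular subspace of half its dimension -/
def PlusOn (Q : QuadraticForm F V) (W : Submodule F V) : Prop :=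
  ∃ U : Submodule F V, U ≤ W ∧ (∀ u ∈ U, Q u = 0) ∧ 2 * finrank F U = finrank F W

/-- the type of a sum of `k` atoms is plus -/
def SignPlus (i k : ℕ) : Prop := Odd i ∨ Even k

/-- an isometry with `a` atoms exists in a space of dimension `D` and type `eps` -/
def Valid (i c D : ℕ) (eps : Prop) (a : ℕ) : Prop :=
  1 ≤ a ∧ c * a ≤ D ∧ (c * a = D → (eps ↔ SignPlus i a))

/-- an isometry with `a` atoms stabilises a nondegenerate `m`-space of type `eta` -/
def Fix (i c D m : ℕ) (eps eta : Prop) (a : ℕ) : Prop :=
  ∃ a' f : ℕ, a' ≤ a ∧ m = c * a' + f ∧ c * a + f ≤ D ∧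
    (f = 0 → (eta ↔ SignPlus i a')) ∧
    (c * a + f = D → ((eta ↔ SignPlus i a') ↔ (eps ↔ SignPlus i a)))

/-- orthogonality of subspaces for the polar form -/
def Orth (Q : QuadraticForm F V) (W₁ W₂ : Submodule F V) : Prop :=
  ∀ u ∈ W₁, ∀ v ∈ W₂, QuadraticMap.polar (⇑Q) u v = 0

end Cfsg.Agent.Lib.Helper88_OrthNDDefs
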