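import Mathlib
import Cfsg.Agent.Lib.Helper99_DecompBasic

set_option autoImplicit false
set_option linter.unusedSectionVars false

/-!
Necessary conditions for an endomorphism `T` with `T ^ r = 1` to permute the summands of a
direct-sum decomposition.
-/

namespace Cfsg.Agent.Lib.Helper99_DecompNec

open Module Polynomial
open Cfsg.Agent.Lib.Helper99_DecompBasic

variable {F V : Type*} [Field F] [AddCommGroup V] [Module F V]
variable {κ : Type*} [Fintype κ] [DecidableEq κ]
variable {D : κ → Submodule F V} (hind : iSupIndep D) (htop : iSup D = ⊤)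
variable {T : Module.End F V} {σ : Equiv.Perm κ} (hσ : ∀ j, (D j).map T = D (σ j))

theorem pow_injective {r : ℕ} (hr0 : 0 < r) (hT : T ^ r = 1) (i : ℕ) :
    Function.Injective (T ^ i) := by
  intro v w hvw
  have h2 : (T ^ i) ^ r = 1 := by rw [← pow_mul, mul_comm, pow_mul, hT, one_pow]
  have h3 : (T ^ i) ^ (r - 1) * (T ^ i) = 1 := by
    rw [← pow_succ, Nat.sub_add_cancel hr0, h2]
  have hv : ((T ^ i) ^ (r - 1) * (T ^ i)) v = ((T ^ i) ^ (r - 1) * (T ^ i)) w := by
    rw [Module.End.mul_apply, Module.End.mul_apply, hvw]
  rw [h3] at hv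
  exact hv

include hσ in
/-- equivariance of the projections for powers. -/
theorem proj_pow_apply (i : ℕ) (m : κ) (v : V) :
    proj hind htop ((σ ^ i) m) ((T ^ i) v) = (T ^ i) (proj hind htop m v) := by
  induction i generalizing m v with
  | zero => simp
  | succ i ih =>
    rw [pow_succ', pow_succ', Equiv.Perm.mul_apply, Module.End.mul_apply, Module.End.mul_apply,
      proj_apply hind htop hσ, ih]

include hind htop hσ in
/-- a vector in a summand moved by `σ` is not killed by a nonzero polynomial of degree `< r`. -/
theorem eq_zero_of_aeval_eq_zero {r : ℕ} (hr : r.Prime) (hT : T ^ r = 1) (hσr : σ ^ r = 1)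
    {j : κ} (hj : σ j ≠ j) {v : V} (hv : v ∈ D j) (hv0 : v ≠ 0) (Q : F[X])
    (hQ : Q.natDegree < r) (hQv : aeval T Q v = 0) : Q = 0 := by
  rw [aeval_eq_sum_range' hQ, LinearMap.sum_apply] at hQv
  ext i0
  rw [coeff_zero]
  by_cases hi0 : i0 < r
  · have h1 := congrArg (proj hind htop ((σ ^ i0) j)) hQv
    rw [map_sum, map_zero, Finset.sum_eq_single i0] at h1
    · rw [LinearMap.smul_apply, map_smul,
        proj_of_mem hind htop (pow_apply_mem hσ i0 hv), smul_eq_zero] at h1
      rcases h1 with h1 | h1
      · exact h1
      · exfalso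
        apply hv0
        apply pow_injective hr.pos hT i0
        rw [h1, map_zero]
    · intro i hi hne
      rw [Finset.mem_range] at hi
      rw [LinearMap.smul_apply, map_smul,
        proj_of_mem_ne hind htop (pow_apply_mem hσ i hv), smul_zero]
      intro h
      exact hne (pow_apply_injOn hr hσr hj hi hi0 h)
    · intro h
      exact absurd (Finset.mem_range.2 hi0) h
  · exact coeff_eq_zero_of_natDegree_lt (by omega)

/-- the norm operator `1 + T + ... + T^(r-1)`. -/
noncomputable def norm (T : Module.End F V) (r : ℕ) : Module.End F V :=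
  ∑ i ∈ Finset.range r, T ^ i

theorem norm_mem_eigenspace {r : ℕ} (hr0 : 0 < r) (hT : T ^ r = 1) (v : V) :
    norm T r v ∈ Module.End.eigenspace T 1 := by
  rw [Module.End.mem_eigenspace_iff, one_smul]
  have h : T * norm T r = norm T r := by
    unfold norm
    rw [Finset.mul_sum]
    have h1 : ∑ i ∈ Finset.range r, T * T ^ i = ∑ i ∈ Finset.range r, T ^ (i + 1) :=
      Finset.sum_congr rfl (fun i _ => (pow_succ' T i).symm)
    rw [h1]
    obtain ⟨r', rfl⟩ := Nat.exists_eq_succ_of_ne_zero hr0.ne'
    rw [Finset.sum_range_succ, Finset.sum_range_succ', hT, pow_zero]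
  have := congrArg (fun f : Module.End F V => f v) h
  simpa [Module.End.mul_apply] using this

variable [FiniteDimensional F V]

include hind in
theorem sum_finrank_inf_le (E : Submodule F V) : ∑ j, finrank F ↥(D j ⊓ E) ≤ finrank F E := by
  have hind' : iSupIndep (fun j => D j ⊓ E) := hind.mono (fun j => inf_le_left)
  rw [← finrank_iSup_eq hind']
  exact Submodule.finrank_mono (iSup_le fun j => inf_le_right)

include hind htop hσ in
/-- fixed vectors produced by the norm operator from representatives of distinct orbits. -/
theorem card_mul_le_finrank_fix {r : ℕ} (hr : r.Prime) (hrF : (r : F) ≠ 0) (hT : T ^ r = 1)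
    (hσr : σ ^ r = 1) {a : ℕ} (hdim : ∀ j, finrank F (D j) = a) (R : Finset κ)
    (hR : ∀ j ∈ R, ∀ j' ∈ R, ∀ i : ℕ, (σ ^ i) j = j' → j = j')
    (hfix : ∀ j ∈ R, σ j = j → ∀ v ∈ D j, T v = v) :
    R.card * a ≤ finrank F (Module.End.eigenspace T 1) := by
  set W : Submodule F V := ⨆ m ∈ R, D m with hW
  have hWd : finrank F W = R.card * a := by
    rw [hW, finrank_biSup hind R, Finset.sum_congr rfl (fun m _ => hdim m), Finset.sum_const,
      smul_eq_mul]
  -- the key computation
  have hkey : ∀ w ∈ W, ∀ m ∈ R, proj hind htop m (norm T r w) =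
      if σ m = m then (r : F) • proj hind htop m w else proj hind htop m w := by
    intro w hw m hm
    have hterm : ∀ i : ℕ, proj hind htop m ((T ^ i) w) =
        (T ^ i) (proj hind htop ((σ ^ i).symm m) w) := by
      intro i
      have := proj_pow_apply hind htop hσ i ((σ ^ i).symm m) w
      rw [Equiv.apply_symm_apply] at this
      exact this
    unfold norm
    rw [LinearMap.sum_apply, map_sum]
    by_cases hfm : σ m = m
    · rw [if_pos hfm]
      have hpow : ∀ i : ℕ, (σ ^ i) m = m := by
        intro i
        induction i with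
        | zero => simp
        | succ i ih => rw [pow_succ, Equiv.Perm.mul_apply, hfm, ih]
      have hTpow : ∀ i : ℕ, ∀ v ∈ D m, (T ^ i) v = v := by
        intro i
        induction i with
        | zero => intro v _; simp
        | succ i ih =>
          intro v hv
          rw [pow_succ, Module.End.mul_apply, hfix m hm hfm v hv, ih v hv]
      have h1 : ∀ i ∈ Finset.range r, proj hind htop m ((T ^ i) w) = proj hind htop m w := by
        intro i _
        rw [hterm i]
        have : (σ ^ i).symm m = m := by
          rw [Equiv.symm_apply_eq, hpow i]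
        rw [this, hTpow i _ (proj_mem hind htop m w)]
      rw [Finset.sum_congr rfl h1, Finset.sum_const, Finset.card_range, Nat.cast_smul_eq_nsmul]
    · rw [if_neg hfm]
      rw [Finset.sum_eq_single 0]
      · simp
      · intro i hi hi0
        rw [Finset.mem_range] at hi
        rw [hterm i]
        have hnot : (σ ^ i).symm m ∉ R := by
          intro hmem
          have h2 := hR _ hmem m hm i (Equiv.apply_symm_apply _ _)
          have h3 : (σ ^ i) m = m := by
            conv_lhs => rw [← h2]
            exact Equiv.apply_symm_apply _ _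
          exact pow_apply_ne hr hσr hfm (by omega) hi h3
        rw [proj_of_mem_biSup hind htop hw hnot, map_zero]
      · intro h
        exact absurd (Finset.mem_range.2 hr.pos) h
  -- injectivity of the norm on `W`
  have hinj : ∀ w ∈ W, norm T r w = 0 → w = 0 := by
    intro w hw hNw
    apply eq_zero_of_proj hind htop
    intro m
    by_cases hm : m ∈ R
    · have h1 := hkey w hw m hm
      rw [hNw, map_zero] at h1
      by_cases hfm : σ m = m
      · rw [if_pos hfm] at h1
        rcases smul_eq_zero.1 h1.symm with h2 | h2
        · exact absurd h2 hrF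
        · exact h2
      · rw [if_neg hfm] at h1
        exact h1.symm
    · exact proj_of_mem_biSup hind htop hw hm
  let φ : W →ₗ[F] Module.End.eigenspace T 1 :=
    LinearMap.codRestrict _ ((norm T r).domRestrict W)
      (fun w => norm_mem_eigenspace hr.pos hT w.1)
  have hφ : Function.Injective φ := by
    rw [← LinearMap.ker_eq_bot, LinearMap.ker_eq_bot']
    intro w hw
    apply Subtype.ext
    apply hinj w.1 w.2
    have := congrArg Subtype.val hw
    exact this
  rw [← hWd]
  exact LinearMap.finrank_le_finrank_of_injective hφ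

include hind htop hσ in
/-- an `r`-cycle of summands contributes at most one summand to the fixed space. -/
theorem finrank_add_le_of_moved {r : ℕ} (hr : r.Prime)
    (hσr : σ ^ r = 1) {a : ℕ} (hdim : ∀ j, finrank F (D j) = a) {j : κ} (hj : σ j ≠ j) :
    (r - 1) * a + finrank F (Module.End.eigenspace T 1) ≤ finrank F V := by
  set S : Finset κ := (Finset.range (r - 1)).image (fun i => (σ ^ i) j) with hS
  have hScard : S.card = r - 1 := by
    rw [hS, Finset.card_image_of_injOn, Finset.card_range]
    intro i hi i' hi' h
    rw [Finset.coe_range, Set.mem_Iio] at hi hi'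
    exact pow_apply_injOn hr hσr hj (by omega) (by omega) h
  set U : Submodule F V := ⨆ m ∈ S, D m with hU
  have hUd : finrank F U = (r - 1) * a := by
    rw [hU, finrank_biSup hind S, Finset.sum_congr rfl (fun m _ => hdim m), Finset.sum_const,
      smul_eq_mul, hScard]
  have hdisj : Disjoint U (Module.End.eigenspace T 1) := by
    rw [Submodule.disjoint_def]
    intro w hwU hwfix
    rw [Module.End.mem_eigenspace_iff, one_smul] at hwfix
    have hstep : ∀ m, proj hind htop m w = 0 → proj hind htop (σ m) w = 0 := by
      intro m hm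
      have := proj_apply hind htop hσ m w
      rw [hwfix, hm, map_zero] at this
      exact this
    have hm0 : (σ ^ (r - 1)) j ∉ S := by
      intro h
      rw [hS, Finset.mem_image] at h
      obtain ⟨i, hi, hij⟩ := h
      rw [Finset.mem_range] at hi
      have := pow_apply_injOn hr hσr hj (by omega) (by have := hr.pos; omega) hij
      omega
    have h0 : proj hind htop j w = 0 := by
      have h1 := hstep _ (proj_of_mem_biSup hind htop hwU hm0)
      have h2 : σ ((σ ^ (r - 1)) j) = j := by
        rw [← Equiv.Perm.mul_apply, ← pow_succ', Nat.sub_add_cancel hr.pos, hσr,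
          Equiv.Perm.one_apply]
      rwa [h2] at h1
    have hall : ∀ i : ℕ, proj hind htop ((σ ^ i) j) w = 0 := by
      intro i
      induction i with
      | zero => simpa using h0
      | succ i ih =>
        rw [pow_succ', Equiv.Perm.mul_apply]
        exact hstep _ ih
    apply eq_zero_of_proj hind htop
    intro m
    by_cases hm : m ∈ S
    · rw [hS, Finset.mem_image] at hm
      obtain ⟨i, -, rfl⟩ := hm
      exact hall i
    · exact proj_of_mem_biSup hind htop hwU hm
  have h1 := Submodule.finrank_sup_add_finrank_inf_eq U (Module.End.eigenspace T 1)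
  rw [hdisj.eq_bot, finrank_bot, add_zero] at h1
  have h2 := Submodule.finrank_le (U ⊔ Module.End.eigenspace T 1)
  omega

/-- representatives of the orbits of a permutation of order dividing `r`. -/
theorem exists_reps {t r : ℕ} (hr : 0 < r) (σ : Equiv.Perm (Fin t)) (hσr : σ ^ r = 1) :
    ∃ R : Finset (Fin t), (∀ j ∈ R, ∀ j' ∈ R, ∀ i : ℕ, (σ ^ i) j = j' → j = j') ∧
      t ≤ R.card * r := by
  classical
  have hinv : ∀ (i : ℕ) (m : Fin t), (σ ^ ((r - 1) * i)) ((σ ^ i) m) = m := by
    intro i m
    rw [← Equiv.Perm.mul_apply, ← pow_add]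
    have : (r - 1) * i + i = r * i := by
      have : r = (r - 1) + 1 := by omega
      conv_rhs => rw [this]
      ring
    rw [this, pow_mul, hσr, one_pow, Equiv.Perm.one_apply]
  have hmod : ∀ (i : ℕ) (m : Fin t), (σ ^ (i % r)) m = (σ ^ i) m := by
    intro i m
    conv_rhs => rw [← Nat.div_add_mod i r, pow_add, pow_mul, hσr, one_pow, one_mul]
  set R : Finset (Fin t) := Finset.univ.filter (fun j => ∀ i : ℕ, j ≤ (σ ^ i) j) with hR
  refine ⟨R, ?_, ?_⟩
  · intro j hj j' hj' i hij
    rw [hR, Finset.mem_filter] at hj hj'
    apply le_antisymm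
    · rw [← hij]; exact hj.2 i
    · have := hj'.2 ((r - 1) * i)
      rw [← hij, hinv] at this
      rw [← hij]
      exact this
  · have hcover : (Finset.univ : Finset (Fin t)) ⊆
        (R ×ˢ Finset.range r).image (fun q => (σ ^ q.2) q.1) := by
      intro m _
      set O : Finset (Fin t) := (Finset.range r).image (fun i => (σ ^ i) m) with hO
      have hOne : O.Nonempty := ⟨m, by
        rw [hO, Finset.mem_image]
        exact ⟨0, Finset.mem_range.2 hr, by simp⟩⟩
      set j := O.min' hOne with hj
      have hjO : j ∈ O := Finset.min'_mem O hOne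
      rw [hO, Finset.mem_image] at hjO
      obtain ⟨i0, -, hi0⟩ := hjO
      have hjR : j ∈ R := by
        rw [hR, Finset.mem_filter]
        refine ⟨Finset.mem_univ _, fun i => ?_⟩
        apply Finset.min'_le
        rw [hO, Finset.mem_image]
        refine ⟨(i + i0) % r, Finset.mem_range.2 (Nat.mod_lt _ hr), ?_⟩
        rw [hmod, pow_add, Equiv.Perm.mul_apply, hi0]
      rw [Finset.mem_image]
      refine ⟨(j, ((r - 1) * i0) % r), ?_, ?_⟩
      · rw [Finset.mem_product]
        exact ⟨hjR, Finset.mem_range.2 (Nat.mod_lt _ hr)⟩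
      · show (σ ^ (((r - 1) * i0) % r)) j = m
        rw [hmod, ← hi0, hinv]
    have h1 := Finset.card_le_card hcover
    rw [Finset.card_univ, Fintype.card_fin] at h1
    have h2 := Finset.card_image_le (s := R ×ˢ Finset.range r) (f := fun q => (σ ^ q.2) q.1)
    rw [Finset.card_product, Finset.card_range] at h2
    omega

end Cfsg.Agent.Lib.Helper99_DecompNec
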