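import Mathlib

set_option autoImplicit false

/-!
Invariant subspaces of a semisimple endomorphism: cyclic subspaces generated by a vector
killed by an irreducible polynomial, relative invariant complements, and existence /
non-existence of invariant subspaces (and chains) of prescribed dimensions.
-/

namespace Cfsg.Agent.Lib.Helper99_InvSub

open Module Polynomial

variable {F V : Type*} [Field F] [AddCommGroup V] [Module F V]

/-- evaluation `Q ↦ Q(f) w`. -/
noncomputable def evalAt (f : Module.End F V) (w : V) : F[X] →ₗ[F] V :=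
  (LinearMap.applyₗ w) ∘ₗ (aeval f).toLinearMap

@[simp] theorem evalAt_apply (f : Module.End F V) (w : V) (Q : F[X]) :
    evalAt f w Q = aeval f Q w := rfl

theorem aeval_apply_mem' (f : Module.End F V) {Z : Submodule F V} (hZ : Z ∈ f.invtSubmodule)
    (Q : F[X]) {w : V} (hw : w ∈ Z) : aeval f Q w ∈ Z := by
  rw [Module.End.mem_invtSubmodule_iff_forall_mem_of_mem] at hZ
  induction Q using Polynomial.induction_on' with
  | add p q hp hq =>
    rw [map_add, LinearMap.add_apply]; exact Z.add_mem hp hq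
  | monomial n a =>
    rw [aeval_monomial, Module.End.mul_apply]
    have : ∀ k : ℕ, (f ^ k) w ∈ Z := by
      intro k
      induction k with
      | zero => simpa using hw
      | succ k ih => rw [pow_succ', Module.End.mul_apply]; exact hZ _ ih
    rw [Module.algebraMap_end_apply]
    exact Z.smul_mem _ (this n)

/-- the cyclic subspace generated by a nonzero vector killed by an irreducible polynomial `g`
has dimension `deg g`. -/
theorem exists_cyclic (f : Module.End F V) (g : F[X]) (hg : Irreducible g) (w : V) (hw : w ≠ 0)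
    (hgw : aeval f g w = 0) :
    ∃ U ∈ f.invtSubmodule, finrank F U = g.natDegree ∧ w ∈ U ∧
      ∀ Z ∈ f.invtSubmodule, w ∈ Z → U ≤ Z := by
  have hg0 : g ≠ 0 := hg.ne_zero
  set φ := evalAt f w with hφ
  -- kernel of `φ` = multiples of `g`
  have hker : ∀ Q : F[X], φ Q = 0 ↔ g ∣ Q := by
    intro Q
    constructor
    · intro hQ
      by_contra hnd
      obtain ⟨u, v, huv⟩ := (Irreducible.coprime_iff_not_dvd hg).2 hnd
      have h1 : aeval f (u * g + v * Q) w = w := by
        rw [huv, map_one, Module.End.one_apply]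
      rw [map_add, map_mul, map_mul, LinearMap.add_apply, Module.End.mul_apply,
        Module.End.mul_apply, hgw, map_zero, zero_add] at h1
      have hQ' : aeval f Q w = 0 := hQ
      rw [hQ', map_zero] at h1
      exact hw h1.symm
    · rintro ⟨h, rfl⟩
      show aeval f (g * h) w = 0
      rw [mul_comm, map_mul, Module.End.mul_apply, hgw, map_zero]
  refine ⟨LinearMap.range φ, ?_, ?_, ⟨1, by simp [hφ]⟩, ?_⟩
  · rw [Module.End.mem_invtSubmodule_iff_forall_mem_of_mem]
    rintro _ ⟨Q, rfl⟩
    refine ⟨X * Q, ?_⟩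
    show aeval f (X * Q) w = f (aeval f Q w)
    rw [map_mul, aeval_X, Module.End.mul_apply]
  · -- dimension
    set d := g.natDegree with hd
    let ψ : degreeLT F d →ₗ[F] V := φ ∘ₗ (degreeLT F d).subtype
    have hψinj : Function.Injective ψ := by
      rw [← LinearMap.ker_eq_bot, LinearMap.ker_eq_bot']
      intro Q hQ
      have h1 : g ∣ (Q : F[X]) := (hker _).1 hQ
      have h2 : (Q : F[X]).degree < g.degree := by
        have := Q.2
        rw [mem_degreeLT] at this
        rwa [degree_eq_natDegree hg0]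
      exact Subtype.ext (eq_zero_of_dvd_of_degree_lt h1 h2)
    have hrange : LinearMap.range ψ = LinearMap.range φ := by
      apply le_antisymm
      · rintro _ ⟨Q, rfl⟩; exact ⟨Q, rfl⟩
      · rintro _ ⟨Q, rfl⟩
        have hmod : (Q % g) ∈ degreeLT F d := by
          rw [mem_degreeLT, ← degree_eq_natDegree hg0]
          exact degree_mod_lt Q hg0
        refine ⟨⟨Q % g, hmod⟩, ?_⟩
        show φ (Q % g) = φ Q
        have h1 := EuclideanDomain.div_add_mod Q g
        have h2 : φ (g * (Q / g)) = 0 := (hker _).2 (dvd_mul_right _ _)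
        conv_rhs => rw [← h1, map_add, h2, zero_add]
    rw [← hrange, LinearMap.finrank_range_of_inj hψinj, (degreeLTEquiv F d).finrank_eq,
      Module.finrank_fin_fun]
  · intro Z hZ hwZ
    rintro _ ⟨Q, rfl⟩
    exact aeval_apply_mem' f hZ Q hwZ

/-- a nonzero vector killed by `P(f)` yields a nonzero vector killed by `g(f)` for some monic
irreducible factor `g` of `P`. -/
theorem exists_irreducible_factor_vec (f : Module.End F V) :
    ∀ (d : ℕ) (P : F[X]), P.natDegree = d → P ≠ 0 → ∀ v : V, v ≠ 0 → aeval f P v = 0 →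
      ∃ g : F[X], g.Monic ∧ Irreducible g ∧ g ∣ P ∧ ∃ Q : F[X], aeval f Q v ≠ 0 ∧
        aeval f g (aeval f Q v) = 0 := by
  intro d
  induction d using Nat.strong_induction_on with
  | _ d ih =>
    intro P hPd hP0 v hv hPv
    have hnu : ¬ IsUnit P := by
      intro hu
      obtain ⟨c, hc, rfl⟩ := Polynomial.isUnit_iff.1 hu
      rw [aeval_C, Module.algebraMap_end_apply] at hPv
      exact hv ((smul_eq_zero.1 hPv).resolve_left hc.ne_zero)
    obtain ⟨g0, hg0i, hg0d⟩ := WfDvdMonoid.exists_irreducible_factor hnu hP0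
    -- make it monic
    set g := g0 * C g0.leadingCoeff⁻¹ with hgdef
    have hlc : g0.leadingCoeff ≠ 0 := leadingCoeff_ne_zero.2 hg0i.ne_zero
    have hgm : g.Monic := monic_mul_leadingCoeff_inv hg0i.ne_zero
    have hassoc : Associated g0 g :=
      ⟨⟨C g0.leadingCoeff⁻¹, C g0.leadingCoeff, by rw [← C_mul, inv_mul_cancel₀ hlc, C_1],
        by rw [← C_mul, mul_inv_cancel₀ hlc, C_1]⟩, rfl⟩
    have hgi : Irreducible g := hassoc.irreducible hg0i
    have hgd : g ∣ P := hassoc.symm.dvd.trans hg0d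
    obtain ⟨h, rfl⟩ := hgd
    have hh0 : h ≠ 0 := right_ne_zero_of_mul hP0
    by_cases hw : aeval f h v = 0
    · have hdeg : h.natDegree < d := by
        rw [← hPd, natDegree_mul hgi.ne_zero hh0]
        have := hgi.natDegree_pos
        omega
      obtain ⟨g2, hg2m, hg2i, hg2d, Q, hQ1, hQ2⟩ := ih _ hdeg h rfl hh0 v hv hw
      exact ⟨g2, hg2m, hg2i, hg2d.trans (dvd_mul_left _ _), Q, hQ1, hQ2⟩
    · refine ⟨g, hgm, hgi, dvd_mul_right _ _, h, hw, ?_⟩
      rw [← Module.End.mul_apply, ← map_mul]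
      exact hPv

/-- relative invariant complement. -/
theorem exists_compl_in {f : Module.End F V} (hss : f.IsSemisimple) {U C : Submodule F V}
    (hU : U ∈ f.invtSubmodule) (hC : C ∈ f.invtSubmodule) (hUC : U ≤ C) :
    ∃ C' ∈ f.invtSubmodule, C' ≤ C ∧ Disjoint U C' ∧ U ⊔ C' = C := by
  obtain ⟨q, hq, hcompl⟩ := Module.End.isSemisimple_iff.1 hss U hU
  refine ⟨q ⊓ C, Module.End.invtSubmodule.inf_mem hq hC, inf_le_right,
    hcompl.disjoint.mono_right inf_le_left, ?_⟩
  rw [← sup_inf_assoc_of_le q hUC, hcompl.sup_eq_top, top_inf_eq]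

theorem finrank_sup_of_disjoint [FiniteDimensional F V] {A B : Submodule F V}
    (h : Disjoint A B) : finrank F ↥(A ⊔ B) = finrank F A + finrank F B := by
  have := Submodule.finrank_sup_add_finrank_inf_eq A B
  rw [h.eq_bot, finrank_bot, add_zero] at this
  exact this

/-- The hypothesis: every nonzero invariant subspace disjoint from `E` contains an invariant
subspace of dimension `a`. -/
def HasBlocks (f : Module.End F V) (E : Submodule F V) (a : ℕ) : Prop :=
  ∀ Z ∈ f.invtSubmodule, Z ≠ ⊥ → Disjoint Z E → ∃ U ∈ f.invtSubmodule, U ≤ Z ∧ finrank F U = a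

/-- criterion for `HasBlocks` from the irreducible factors of an annihilating polynomial. -/
theorem hasBlocks_of_factors (f : Module.End F V) (E : Submodule F V) (a : ℕ) (P : F[X])
    (hP0 : P ≠ 0) (hP : aeval f P = 0)
    (hfac : ∀ g : F[X], g.Monic → Irreducible g → g ∣ P →
      (∀ w : V, aeval f g w = 0 → w ∈ E) ∨ g.natDegree = a) :
    HasBlocks f E a := by
  intro Z hZ hZ0 hdisj
  obtain ⟨v, hvZ, hv0⟩ := Submodule.exists_mem_ne_zero_of_ne_bot hZ0
  obtain ⟨g, hgm, hgi, hgd, Q, hQ1, hQ2⟩ :=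
    exists_irreducible_factor_vec f _ P rfl hP0 v hv0 (by rw [hP]; rfl)
  have hwZ : aeval f Q v ∈ Z := aeval_apply_mem' f hZ Q hvZ
  rcases hfac g hgm hgi hgd with h | h
  · exfalso
    apply hQ1
    have : aeval f Q v ∈ Z ⊓ E := ⟨hwZ, h _ hQ2⟩
    rw [hdisj.eq_bot] at this
    simpa using this
  · obtain ⟨U, hU, hUd, hwU, hUmin⟩ := exists_cyclic f g hgi _ hQ1 hQ2
    exact ⟨U, hU, hUmin Z hZ hwZ, hUd.trans h⟩

variable [FiniteDimensional F V]

/-- extension of an invariant subspace inside `C` by `j` blocks. -/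
theorem exists_extension {f : Module.End F V} (hss : f.IsSemisimple) {E : Submodule F V} {a : ℕ}
    (ha : 1 ≤ a) (H : HasBlocks f E a) {C W : Submodule F V} (hC : C ∈ f.invtSubmodule)
    (hCE : Disjoint C E) (hW : W ∈ f.invtSubmodule) (hWC : W ≤ C) :
    ∀ j : ℕ, finrank F W + a * j ≤ finrank F C →
      ∃ W' ∈ f.invtSubmodule, W ≤ W' ∧ W' ≤ C ∧ finrank F W' = finrank F W + a * j := by
  intro j
  induction j with
  | zero => intro _; exact ⟨W, hW, le_rfl, hWC, by simp⟩
  | succ j ih =>
    intro hj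
    obtain ⟨W1, hW1, hWW1, hW1C, hW1d⟩ := ih (by rw [Nat.mul_succ] at hj; omega)
    obtain ⟨C', hC', hC'C, hdisj, hsup⟩ := exists_compl_in hss hW1 hC hW1C
    have hdim : finrank F C = finrank F W1 + finrank F C' := by
      rw [← hsup]; exact finrank_sup_of_disjoint hdisj
    have hC'0 : C' ≠ ⊥ := by
      rintro rfl
      rw [finrank_bot] at hdim
      rw [Nat.mul_succ] at hj
      omega
    obtain ⟨U, hU, hUC', hUd⟩ := H C' hC' hC'0 (hCE.mono_left hC'C)
    refine ⟨W1 ⊔ U, Module.End.invtSubmodule.sup_mem hW1 hU, hWW1.trans le_sup_left,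
      sup_le hW1C (hUC'.trans hC'C), ?_⟩
    rw [finrank_sup_of_disjoint (hdisj.mono_right hUC'), hW1d, hUd, Nat.mul_succ]
    ring

/-- invariant subspaces disjoint from `E` have dimension divisible by `a`. -/
theorem dvd_finrank_of_disjoint {f : Module.End F V} (hss : f.IsSemisimple) {E : Submodule F V}
    {a : ℕ} (ha : 1 ≤ a) (H : HasBlocks f E a) :
    ∀ (d : ℕ) (C : Submodule F V), finrank F C = d → C ∈ f.invtSubmodule → Disjoint C E →
      a ∣ finrank F C := by
  intro d
  induction d using Nat.strong_induction_on with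
  | _ d ih =>
    intro C hCd hC hCE
    by_cases hC0 : C = ⊥
    · subst hC0; simp
    · obtain ⟨U, hU, hUC, hUd⟩ := H C hC hC0 hCE
      obtain ⟨C', hC', hC'C, hdisj, hsup⟩ := exists_compl_in hss hU hC hUC
      have hdim : finrank F C = finrank F U + finrank F C' := by
        rw [← hsup]; exact finrank_sup_of_disjoint hdisj
      have h1 : a ∣ finrank F C' :=
        ih (finrank F C') (by omega) C' rfl hC' (hCE.mono_left hC'C)
      rw [hdim, hUd]
      exact dvd_add (dvd_refl a) h1

/-- every invariant subspace `W` has `dim W ≡ dim (W ⊓ E)` modulo `a`. -/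
theorem dvd_finrank_sub {f : Module.End F V} (hss : f.IsSemisimple) {E : Submodule F V}
    {a : ℕ} (ha : 1 ≤ a) (H : HasBlocks f E a) (hE : E ∈ f.invtSubmodule)
    {W : Submodule F V} (hW : W ∈ f.invtSubmodule) :
    ∃ t : ℕ, finrank F W = finrank F ↥(W ⊓ E) + a * t := by
  have hWE : W ⊓ E ∈ f.invtSubmodule := Module.End.invtSubmodule.inf_mem hW hE
  obtain ⟨C', hC', hC'W, hdisj, hsup⟩ := exists_compl_in hss hWE hW inf_le_left
  have hdim : finrank F W = finrank F ↥(W ⊓ E) + finrank F C' := by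
    conv_lhs => rw [← hsup]
    exact finrank_sup_of_disjoint hdisj
  have hC'E : Disjoint C' E := by
    rw [disjoint_iff]
    have h1 : C' ⊓ E ≤ (W ⊓ E) ⊓ C' :=
      le_inf (le_inf (inf_le_left.trans hC'W) inf_le_right) inf_le_left
    rw [hdisj.eq_bot] at h1
    exact le_bot_iff.1 h1
  obtain ⟨t, ht⟩ := dvd_finrank_of_disjoint hss ha H _ C' rfl hC' hC'E
  exact ⟨t, by rw [hdim, ht]⟩

theorem exists_le_finrank_eq' (E : Submodule F V) (d : ℕ) (hd : d ≤ finrank F E) :
    ∃ W : Submodule F V, W ≤ E ∧ finrank F W = d := by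
  let b := Module.finBasis F E
  have hli : LinearIndependent F (fun i : Fin (finrank F E) => (b i : V)) :=
    b.linearIndependent.map' E.subtype (Submodule.ker_subtype E)
  refine ⟨Submodule.span F (Set.range (fun i : Fin d => (b (Fin.castLE hd i) : V))), ?_, ?_⟩
  · rw [Submodule.span_le]; rintro _ ⟨i, rfl⟩; exact (b _).2
  · have := finrank_span_eq_card (hli.comp (Fin.castLE hd) (Fin.castLE_injective hd))
    rw [Fintype.card_fin] at this
    exact this

theorem exists_between (E U : Submodule F V) (hUE : U ≤ E) (d : ℕ) (h1 : finrank F U ≤ d)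
    (h2 : d ≤ finrank F E) : ∃ W : Submodule F V, U ≤ W ∧ W ≤ E ∧ finrank F W = d := by
  obtain ⟨q, hq⟩ := Submodule.exists_isCompl U
  have hsup : U ⊔ q ⊓ E = E := by
    rw [← sup_inf_assoc_of_le q hUE, hq.sup_eq_top, top_inf_eq]
  have hdisj : Disjoint U (q ⊓ E) := hq.disjoint.mono_right inf_le_left
  have hdim : finrank F E = finrank F U + finrank F ↥(q ⊓ E) := by
    conv_lhs => rw [← hsup]
    exact finrank_sup_of_disjoint hdisj
  obtain ⟨X, hX, hXd⟩ := exists_le_finrank_eq' (q ⊓ E) (d - finrank F U) (by omega)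
  refine ⟨U ⊔ X, le_sup_left, sup_le hUE (hX.trans inf_le_right), ?_⟩
  rw [finrank_sup_of_disjoint (hdisj.mono_right hX), hXd]
  omega

/-- existence of invariant chains `U ≤ W` of prescribed dimensions. -/
theorem exists_chain {f : Module.End F V} (hss : f.IsSemisimple) {E : Submodule F V} {a : ℕ}
    (ha : 1 ≤ a) (H : HasBlocks f E a) (hEfix : ∀ x ∈ E, f x = x)
    (c1 c2 j1 j2 : ℕ) (hc : c1 ≤ c2) (hc2 : c2 ≤ finrank F E) (hj : j1 ≤ j2)
    (hj2 : finrank F E + a * j2 ≤ finrank F V) :
    ∃ U W : Submodule F V, U ∈ f.invtSubmodule ∧ W ∈ f.invtSubmodule ∧ U ≤ W ∧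
      finrank F U = c1 + a * j1 ∧ finrank F W = c2 + a * j2 := by
  have hsubE : ∀ X : Submodule F V, X ≤ E → X ∈ f.invtSubmodule := by
    intro X hX
    rw [Module.End.mem_invtSubmodule_iff_forall_mem_of_mem]
    intro x hx
    rw [hEfix x (hX hx)]; exact hx
  have hE : E ∈ f.invtSubmodule := hsubE E le_rfl
  obtain ⟨C, hC, -, hdisj, hsup⟩ := exists_compl_in hss hE (Module.End.invtSubmodule.top_mem f) le_top
  have hdim : finrank F V = finrank F E + finrank F C := by
    rw [← finrank_top F V, ← hsup]; exact finrank_sup_of_disjoint hdisj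
  obtain ⟨E1, -, hE1E, hE1d⟩ := exists_between E ⊥ bot_le c1 (by simp) (hc.trans hc2)
  obtain ⟨E2, hE12, hE2E, hE2d⟩ := exists_between E E1 hE1E c2 (by omega) hc2
  obtain ⟨C1, hC1, -, hC1C, hC1d⟩ := exists_extension hss ha H hC hdisj.symm
    (Module.End.invtSubmodule.bot_mem f) bot_le j1 (by
      rw [finrank_bot]
      have : a * j1 ≤ a * j2 := Nat.mul_le_mul_left a hj
      omega)
  obtain ⟨C2, hC2, hC12, hC2C, hC2d⟩ := exists_extension hss ha H hC hdisj.symm hC1 hC1C
    (j2 - j1) (by
      rw [hC1d, finrank_bot, zero_add, ← Nat.mul_add]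
      have : j1 + (j2 - j1) = j2 := by omega
      rw [this]; omega)
  refine ⟨E1 ⊔ C1, E2 ⊔ C2, Module.End.invtSubmodule.sup_mem (hsubE E1 hE1E) hC1,
    Module.End.invtSubmodule.sup_mem (hsubE E2 hE2E) hC2, sup_le_sup hE12 hC12, ?_, ?_⟩
  · rw [finrank_sup_of_disjoint (hdisj.mono hE1E hC1C), hE1d, hC1d, finrank_bot, zero_add]
  · rw [finrank_sup_of_disjoint (hdisj.mono hE2E hC2C), hE2d, hC2d, hC1d, finrank_bot, zero_add,
      ← Nat.mul_add]
    have : j1 + (j2 - j1) = j2 := by omega
    rw [this]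

omit [FiniteDimensional F V] in
theorem invt_of_fix {f : Module.End F V} {E : Submodule F V} (hEfix : ∀ x ∈ E, f x = x) :
    E ∈ f.invtSubmodule := by
  rw [Module.End.mem_invtSubmodule_iff_forall_mem_of_mem]
  intro x hx
  rw [hEfix x hx]; exact hx

theorem finrank_eq_add_mul {f : Module.End F V} (hss : f.IsSemisimple) {E : Submodule F V}
    {a : ℕ} (ha : 1 ≤ a) (H : HasBlocks f E a) (hE : E ∈ f.invtSubmodule) :
    ∃ s : ℕ, finrank F V = finrank F E + a * s := by
  obtain ⟨t, ht⟩ := dvd_finrank_sub hss ha H hE (Module.End.invtSubmodule.top_mem f)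
  rw [finrank_top, top_inf_eq] at ht
  exact ⟨t, ht⟩

/-- existence of an invariant subspace of dimension `m`. -/
theorem exists_invt_finrank_eq {f : Module.End F V} (hss : f.IsSemisimple) {E : Submodule F V}
    {a : ℕ} (ha : 1 ≤ a) (H : HasBlocks f E a) (hEfix : ∀ x ∈ E, f x = x) (m : ℕ)
    (hm : m ≤ finrank F V) (hmod : m % a ≤ finrank F V % a) :
    ∃ W ∈ f.invtSubmodule, finrank F W = m := by
  obtain ⟨s, hs⟩ := finrank_eq_add_mul hss ha H (invt_of_fix hEfix)
  set n := finrank F V with hn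
  set k := finrank F E with hk
  have hnk : n % a = k % a := by rw [hs, Nat.add_mul_mod_self_left]
  have hkk : k % a ≤ k := Nat.mod_le _ _
  have hdm : a * (m / a) + m % a = m := Nat.div_add_mod m a
  by_cases h : m / a ≤ s
  · have h1 : a * (m / a) ≤ a * s := Nat.mul_le_mul_left a h
    obtain ⟨U, -, hU, -, -, hUd, -⟩ := exists_chain hss ha H hEfix (m % a) (m % a) (m / a) (m / a)
      le_rfl (by omega) le_rfl (by omega)
    exact ⟨U, hU, by omega⟩
  · have h1 : a * s ≤ a * (m / a) := Nat.mul_le_mul_left a (by omega)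
    obtain ⟨U, -, hU, -, -, hUd, -⟩ := exists_chain hss ha H hEfix (m - a * s) (m - a * s) s s
      le_rfl (by omega) le_rfl (by omega)
    exact ⟨U, hU, by omega⟩

/-- existence of an invariant flag of dimensions `m`, `n - m`. -/
theorem exists_invt_flag {f : Module.End F V} (hss : f.IsSemisimple) {E : Submodule F V}
    {a : ℕ} (ha : 1 ≤ a) (H : HasBlocks f E a) (hEfix : ∀ x ∈ E, f x = x) (m : ℕ)
    (hm : 2 * m ≤ finrank F V) (hmod : 2 * (m % a) ≤ finrank F V % a) :
    ∃ U W : Submodule F V, U ∈ f.invtSubmodule ∧ W ∈ f.invtSubmodule ∧ U ≤ W ∧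
      finrank F U = m ∧ finrank F W = finrank F V - m := by
  obtain ⟨s, hs⟩ := finrank_eq_add_mul hss ha H (invt_of_fix hEfix)
  set n := finrank F V with hn
  set k := finrank F E with hk
  have hnk : n % a = k % a := by rw [hs, Nat.add_mul_mod_self_left]
  have hkk : k % a ≤ k := Nat.mod_le _ _
  have hdm : a * (m / a) + m % a = m := Nat.div_add_mod m a
  by_cases h : 2 * (m / a) ≤ s
  · have h1 : a * (s - m / a) = a * s - a * (m / a) := Nat.mul_sub _ _ _
    have h2 : a * (m / a) ≤ a * s := Nat.mul_le_mul_left a (by omega)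
    obtain ⟨U, W, hU, hW, hUW, hUd, hWd⟩ := exists_chain hss ha H hEfix (m % a) (k - m % a)
      (m / a) (s - m / a) (by omega) (by omega) (by omega) (by omega)
    exact ⟨U, W, hU, hW, hUW, by omega, by omega⟩
  · have h0 : (s - s / 2) + s / 2 = s := by omega
    have h1 : a * (s - s / 2) + a * (s / 2) = a * s := by rw [← Nat.mul_add, h0]
    have h2 : a * (s - s / 2) ≤ a * (m / a) := Nat.mul_le_mul_left a (by omega)
    have h3 : a * (s / 2) ≤ a * (s - s / 2) := Nat.mul_le_mul_left a (by omega)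
    obtain ⟨U, W, hU, hW, hUW, hUd, hWd⟩ := exists_chain hss ha H hEfix (m - a * (s - s / 2))
      (k - (m - a * (s / 2))) (s - s / 2) (s - s / 2) (by omega) (by omega) le_rfl (by omega)
    exact ⟨U, W, hU, hW, hUW, by omega, by omega⟩

/-- obstruction: an invariant subspace has `dim W mod a ≤ dim (W ⊓ E)`. -/
theorem mod_le_finrank_inf {f : Module.End F V} (hss : f.IsSemisimple) {E : Submodule F V}
    {a : ℕ} (ha : 1 ≤ a) (H : HasBlocks f E a) (hE : E ∈ f.invtSubmodule)
    {W : Submodule F V} (hW : W ∈ f.invtSubmodule) :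
    finrank F W % a ≤ finrank F ↥(W ⊓ E) := by
  obtain ⟨t, ht⟩ := dvd_finrank_sub hss ha H hE hW
  rw [ht, Nat.add_mul_mod_self_left]
  exact Nat.mod_le _ _

theorem mod_le_finrank {f : Module.End F V} (hss : f.IsSemisimple) {E : Submodule F V}
    {a : ℕ} (ha : 1 ≤ a) (H : HasBlocks f E a) (hE : E ∈ f.invtSubmodule)
    {W : Submodule F V} (hW : W ∈ f.invtSubmodule) :
    finrank F W % a ≤ finrank F E :=
  (mod_le_finrank_inf hss ha H hE hW).trans (Submodule.finrank_mono inf_le_right)

/-- obstruction for flags. -/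
theorem two_mul_mod_le_finrank {f : Module.End F V} (hss : f.IsSemisimple) {E : Submodule F V}
    {a : ℕ} (ha : 1 ≤ a) (H : HasBlocks f E a) (hE : E ∈ f.invtSubmodule)
    {U W : Submodule F V} (hU : U ∈ f.invtSubmodule) (hW : W ∈ f.invtSubmodule) (hUW : U ≤ W)
    (m : ℕ) (hm : m ≤ finrank F V) (hUd : finrank F U = m) (hWd : finrank F W = finrank F V - m) :
    2 * (m % a) ≤ finrank F E := by
  obtain ⟨W', hW', -, hdisj, hsup⟩ :=
    exists_compl_in hss hW (Module.End.invtSubmodule.top_mem f) le_top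
  have hdim : finrank F V = finrank F W + finrank F W' := by
    rw [← finrank_top F V, ← hsup]; exact finrank_sup_of_disjoint hdisj
  have hW'd : finrank F W' = m := by omega
  have h1 := mod_le_finrank_inf hss ha H hE hU
  have h2 := mod_le_finrank_inf hss ha H hE hW'
  rw [hUd] at h1
  rw [hW'd] at h2
  have hd2 : Disjoint (U ⊓ E) (W' ⊓ E) := (hdisj.mono_left hUW).mono inf_le_left inf_le_left
  have h3 : finrank F ↥((U ⊓ E) ⊔ (W' ⊓ E)) ≤ finrank F E :=
    Submodule.finrank_mono (sup_le inf_le_right inf_le_right)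
  rw [finrank_sup_of_disjoint hd2] at h3
  omega

end Cfsg.Agent.Lib.Helper99_InvSub
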