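import Mathlib
import Cfsg.Agent.Lib.Helper99_InvSub
import Cfsg.Agent.Lib.Helper40_PrimeOrderClasses

set_option autoImplicit false

/-!
Elements of `SL_n(q)` of prime order `r` modulo scalars: invariant subspaces.
-/

namespace Cfsg.Agent.Lib.Helper99_PrimeOrderSL

open Module Polynomial
open Cfsg.Agent.Lib.Helper99_InvSub

universe u

section General

variable {F : Type u} [Field F] {V : Type*} [AddCommGroup V] [Module F V]

theorem isSemisimple_of_pow_eq_one (T : Module.End F V) (r : ℕ) (hr0 : (r : F) ≠ 0)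
    (hT : T ^ r = 1) : T.IsSemisimple := by
  apply Module.End.isSemisimple_of_squarefree_aeval_eq_zero
    ((X_pow_sub_one_separable_iff.2 hr0).squarefree)
  rw [map_sub, map_pow, aeval_X, map_one, hT, sub_self]

/-- `T ^ r = c` with `c` not an `r`-th power: all blocks have dimension `r`. -/
theorem hasBlocks_of_pow_eq_smul (T : Module.End F V) (r : ℕ) (hr : r.Prime) (c : F)
    (hc : ∀ z : F, z ^ r ≠ c) (hT : T ^ r = c • (1 : Module.End F V)) :
    HasBlocks T ⊥ r ∧ T.IsSemisimple := by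
  have hirr : Irreducible (X ^ r - C c : F[X]) := X_pow_sub_C_irreducible_of_prime hr hc
  have hm : (X ^ r - C c : F[X]).Monic := monic_X_pow_sub_C c hr.ne_zero
  have hP : aeval T (X ^ r - C c : F[X]) = 0 := by
    rw [map_sub, map_pow, aeval_X, aeval_C, hT, Algebra.algebraMap_eq_smul_one, sub_self]
  refine ⟨hasBlocks_of_factors T ⊥ r _ hirr.ne_zero hP ?_, ?_⟩
  · intro g hgm hgi hgd
    right
    have := eq_of_monic_of_associated hgm hm (hgi.associated_of_dvd hirr hgd)
    rw [this, natDegree_X_pow_sub_C]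
  · exact Module.End.isSemisimple_of_squarefree_aeval_eq_zero hirr.squarefree hP

section NonPower

variable {F : Type u} [Field F] {n : ℕ}

theorem toLin'_pow_eq_smul (x : Matrix (Fin n) (Fin n) F) {r : ℕ} {c : F}
    (hx : x ^ r = c • (1 : Matrix (Fin n) (Fin n) F)) :
    (Matrix.toLin' x : Module.End F (Fin n → F)) ^ r = c • (1 : Module.End F (Fin n → F)) := by
  rw [← Matrix.toLin'_pow, hx, map_smul, Matrix.toLin'_one]
  rfl

/-- `x ^ r = c` with `c` not an `r`-th power: invariant subspaces have dimension divisible by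
`r`, and all such dimensions occur (also for flags). -/
theorem nonpower_facts (x : Matrix (Fin n) (Fin n) F) {r : ℕ} (hr : r.Prime) {c : F}
    (hc : ∀ z : F, z ^ r ≠ c) (hx : x ^ r = c • (1 : Matrix (Fin n) (Fin n) F)) :
    r ∣ n ∧
    (∀ W : Submodule F (Fin n → F), W.map (Matrix.toLin' x) ≤ W → r ∣ finrank F W) ∧
    (∀ m : ℕ, m ≤ n → r ∣ m → ∃ W : Submodule F (Fin n → F), finrank F W = m ∧
      W.map (Matrix.toLin' x) ≤ W) ∧
    (∀ m : ℕ, 2 * m ≤ n → r ∣ m → ∃ U W : Submodule F (Fin n → F), U ≤ W ∧ finrank F U = m ∧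
      finrank F W = n - m ∧ U.map (Matrix.toLin' x) ≤ U ∧ W.map (Matrix.toLin' x) ≤ W) := by
  set T : Module.End F (Fin n → F) := Matrix.toLin' x with hT
  obtain ⟨H, hss⟩ := hasBlocks_of_pow_eq_smul T r hr c hc (toLin'_pow_eq_smul x hx)
  have hfin : finrank F (Fin n → F) = n := by simp
  have hr1 : 1 ≤ r := hr.one_lt.le
  have hbot : (⊥ : Submodule F (Fin n → F)) ∈ T.invtSubmodule := Module.End.invtSubmodule.bot_mem T
  have hfix : ∀ v ∈ (⊥ : Submodule F (Fin n → F)), T v = v := by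
    intro v hv
    rw [Submodule.mem_bot] at hv
    rw [hv, map_zero]
  have hdvd : ∀ W : Submodule F (Fin n → F), W.map (Matrix.toLin' x) ≤ W → r ∣ finrank F W := by
    intro W hW
    have h1 := mod_le_finrank hss hr1 H hbot
      ((Module.End.mem_invtSubmodule_iff_map_le T).2 hW)
    rw [finrank_bot] at h1
    exact Nat.dvd_of_mod_eq_zero (by omega)
  have hrn : r ∣ n := by
    have := hdvd ⊤ le_top
    rwa [finrank_top, hfin] at this
  refine ⟨hrn, hdvd, ?_, ?_⟩
  · intro m hm hrm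
    obtain ⟨W, hW, hWd⟩ := exists_invt_finrank_eq hss hr1 H hfix m (by rw [hfin]; exact hm)
      (by rw [Nat.mod_eq_zero_of_dvd hrm]; exact Nat.zero_le _)
    exact ⟨W, hWd, (Module.End.mem_invtSubmodule_iff_map_le T).1 hW⟩
  · intro m hm hrm
    obtain ⟨U, W, hU, hW, hUW, hUd, hWd⟩ := exists_invt_flag hss hr1 H hfix m
      (by rw [hfin]; exact hm) (by rw [Nat.mod_eq_zero_of_dvd hrm]; exact Nat.zero_le _)
    rw [hfin] at hWd
    exact ⟨U, W, hUW, hUd, hWd, (Module.End.mem_invtSubmodule_iff_map_le T).1 hU,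
      (Module.End.mem_invtSubmodule_iff_map_le T).1 hW⟩

/-- determinant of `x` with `x ^ r = c`, `c` not an `r`-th power. -/
theorem det_of_nonpower (x : Matrix (Fin n) (Fin n) F) {r : ℕ} (hr : r.Prime) {c : F}
    (hc : ∀ z : F, z ^ r ≠ c) (hx : x ^ r = c • (1 : Matrix (Fin n) (Fin n) F)) :
    x.det = ((-1) ^ (r + 1) * c) ^ (n / r) := by
  classical
  set g : F[X] := X ^ r - C c with hg
  have hirr : Irreducible g := X_pow_sub_C_irreducible_of_prime hr hc
  have hgm : g.Monic := monic_X_pow_sub_C c hr.ne_zero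
  have hgx : aeval x g = 0 := by
    rw [hg, map_sub, map_pow, aeval_X, aeval_C, hx, Algebra.algebraMap_eq_smul_one, sub_self]
  have hcm : x.charpoly.Monic := Matrix.charpoly_monic x
  have hc0 : x.charpoly ≠ 0 := hcm.ne_zero
  have hall : ∀ f ∈ UniqueFactorizationMonoid.normalizedFactors x.charpoly, f = g := by
    intro f hf
    rw [UniqueFactorizationMonoid.mem_normalizedFactors_iff' hc0] at hf
    obtain ⟨hfi, hfn, hfd⟩ := hf
    have hfm : f.Monic := by rw [← hfn]; exact monic_normalize hfi.ne_zero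
    have hfg : f ∣ g :=
      Cfsg.Agent.Lib.Helper40_PrimeOrderClasses.dvd_of_irreducible_of_dvd_charpoly x g hgx f hfi hfd
    exact eq_of_monic_of_associated hfm hgm (hfi.associated_of_dvd hirr hfg)
  set t := Multiset.card (UniqueFactorizationMonoid.normalizedFactors x.charpoly) with ht
  have hcp : x.charpoly = g ^ t := by
    have h1 := UniqueFactorizationMonoid.prod_normalizedFactors hc0
    rw [Multiset.eq_replicate_of_mem hall, Multiset.prod_replicate] at h1
    exact (eq_of_monic_of_associated (hgm.pow _) hcm h1).symm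
  have hdeg : n = r * t := by
    have h1 := Matrix.charpoly_natDegree_eq_dim x
    rw [hcp, natDegree_pow, hg, natDegree_X_pow_sub_C, Fintype.card_fin] at h1
    rw [← h1, mul_comm]
  have ht' : n / r = t := by rw [hdeg, Nat.mul_div_cancel_left _ hr.pos]
  rw [Matrix.det_eq_sign_charpoly_coeff, hcp, coeff_zero_eq_eval_zero, eval_pow, hg, eval_sub,
    eval_pow, eval_X, eval_C, zero_pow hr.ne_zero, zero_sub, Fintype.card_fin, ht']
  conv_lhs => rw [hdeg]
  rw [mul_pow, pow_succ, pow_mul, neg_pow c]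
  ring

/-- existence of an element of `SL_n` with `x ^ r = c`, `c` not an `r`-th power. -/
theorem exists_nonpower_matrix (n : ℕ) {r : ℕ} (hr : r.Prime) (hrn : r ∣ n) (c : F)
    (hc : ∀ z : F, z ^ r ≠ c) (hdet : ((-1) ^ (r + 1) * c) ^ (n / r) = 1) :
    ∃ x : Matrix.SpecialLinearGroup (Fin n) F,
      (x : Matrix (Fin n) (Fin n) F) ^ r = c • (1 : Matrix (Fin n) (Fin n) F) := by
  set g : F[X] := X ^ r - C c with hg
  have hgm : g.Monic := monic_X_pow_sub_C c hr.ne_zero
  have hirr : Irreducible g := X_pow_sub_C_irreducible_of_prime hr hc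
  have hdeg : (g ^ (n / r)).natDegree = n := by
    rw [hgm.natDegree_pow, hg, natDegree_X_pow_sub_C, Nat.div_mul_cancel hrn]
  obtain ⟨A, -, -, hAkill⟩ :=
    Cfsg.Agent.Lib.Helper40_PrimeOrderClasses.exists_matrix_of_monic' n (g ^ (n / r))
      (hgm.pow _) hdeg
  have hAr : A ^ r = c • (1 : Matrix (Fin n) (Fin n) F) := by
    have h1 : aeval A g = 0 := by
      apply hAkill
      intro f hf hfd
      exact hf.prime.dvd_of_dvd_pow hfd
    rw [hg, map_sub, map_pow, aeval_X, aeval_C, sub_eq_zero, Algebra.algebraMap_eq_smul_one] at h1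
    exact h1
  refine ⟨⟨A, ?_⟩, hAr⟩
  rw [det_of_nonpower A hr hc hAr, hdet]

end NonPower

end General

section Finite

variable {F : Type u} [Field F] [Fintype F] {p : ℕ} [Fact p.Prime] [CharP F p]
variable {V : Type*} [AddCommGroup V] [Module F V]

omit [Fintype F] in
theorem natCast_ne_zero {r : ℕ} (hr : r.Prime) (hrp : r ≠ p) : ((r : ℕ) : F) ≠ 0 := by
  rw [Ne, CharP.cast_eq_zero_iff F p]
  intro h
  exact hrp ((Nat.prime_dvd_prime_iff_eq Fact.out hr).1 h).symm

/-- `T ^ r = 1`: all blocks outside the fixed space have dimension `e = ord_r(q)`. -/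
theorem hasBlocks_of_pow_eq_one (T : Module.End F V) {r : ℕ} (hr : r.Prime) (hrp : r ≠ p)
    (hT : T ^ r = 1) :
    HasBlocks T (Module.End.eigenspace T 1) (orderOf ((Fintype.card F : ℕ) : ZMod r)) := by
  obtain ⟨-, W, -, hW1, hW2⟩ :=
    Cfsg.Agent.Lib.Helper40_PrimeOrderClasses.exists_cyclotomic_factors (F := F) p r hr hrp
  have hP0 : (X ^ r - 1 : F[X]) ≠ 0 := by
    have : (X ^ r - 1 : F[X]) = X ^ r - C 1 := by rw [map_one]
    rw [this]; exact X_pow_sub_C_ne_zero hr.pos 1
  apply hasBlocks_of_factors T _ _ (X ^ r - 1) hP0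
  · rw [map_sub, map_pow, aeval_X, map_one, hT, sub_self]
  · intro g hgm hgi hgd
    rcases hW2 g hgm hgi hgd with rfl | hgW
    · left
      intro w hw
      rw [Module.End.mem_eigenspace_iff, one_smul]
      rw [map_sub, aeval_X, map_one, LinearMap.sub_apply, Module.End.one_apply, sub_eq_zero] at hw
      exact hw
    · right
      exact (hW1 g hgW).2.2.2.2

section Matrices

variable {n : ℕ}

omit [Fintype F] [Fact p.Prime] [CharP F p] in
/-- the normalised endomorphism `μ⁻¹ x` has the same invariant subspaces. -/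
theorem invt_smul_iff (x : Matrix (Fin n) (Fin n) F) {μ : F} (hμ : μ ≠ 0)
    (W : Submodule F (Fin n → F)) :
    W ∈ Module.End.invtSubmodule (μ⁻¹ • Matrix.toLin' x : Module.End F (Fin n → F)) ↔
      W.map (Matrix.toLin' x) ≤ W := by
  rw [← Module.End.mem_invtSubmodule_iff_map_le]
  have := Module.End.invtSubmodule_smul (f := (Matrix.toLin' x : Module.End F (Fin n → F)))
    (Units.mk0 μ⁻¹ (inv_ne_zero hμ))
  rw [← this]
  rfl

omit [Fintype F] [Fact p.Prime] [CharP F p] in
theorem smul_pow_eq_one (x : Matrix (Fin n) (Fin n) F) {μ : F} (hμ : μ ≠ 0) {r : ℕ}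
    (hx : x ^ r = (μ ^ r) • (1 : Matrix (Fin n) (Fin n) F)) :
    (μ⁻¹ • Matrix.toLin' x : Module.End F (Fin n → F)) ^ r = 1 := by
  rw [_root_.smul_pow, ← Matrix.toLin'_pow, hx, map_smul, Matrix.toLin'_one, smul_smul, inv_pow,
    inv_mul_cancel₀ (pow_ne_zero r hμ), one_smul]
  rfl

/-- positive direction for subspaces, `x ^ r` an `r`-th power scalar. -/
theorem exists_invt_of_pow (x : Matrix (Fin n) (Fin n) F) {μ : F} (hμ : μ ≠ 0) {r : ℕ}
    (hr : r.Prime) (hrp : r ≠ p) (hx : x ^ r = (μ ^ r) • (1 : Matrix (Fin n) (Fin n) F))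
    (m : ℕ) (hm : m ≤ n)
    (hmod : m % orderOf ((Fintype.card F : ℕ) : ZMod r) ≤
      n % orderOf ((Fintype.card F : ℕ) : ZMod r)) :
    ∃ W : Submodule F (Fin n → F), finrank F W = m ∧ W.map (Matrix.toLin' x) ≤ W := by
  set T : Module.End F (Fin n → F) := μ⁻¹ • Matrix.toLin' x with hT
  have hTr : T ^ r = 1 := smul_pow_eq_one x hμ hx
  have hss : T.IsSemisimple := isSemisimple_of_pow_eq_one T r (natCast_ne_zero hr hrp) hTr
  have H := hasBlocks_of_pow_eq_one (p := p) T hr hrp hTr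
  have hfin : finrank F (Fin n → F) = n := by simp
  have he : 1 ≤ orderOf ((Fintype.card F : ℕ) : ZMod r) :=
    (Cfsg.Agent.Lib.Helper40_PrimeOrderClasses.exists_cyclotomic_factors (F := F) p r hr hrp).1
  obtain ⟨W, hW, hWd⟩ := exists_invt_finrank_eq hss he H
    (fun v hv => by simpa using Module.End.mem_eigenspace_iff.1 hv) m (by rw [hfin]; exact hm)
    (by rw [hfin]; exact hmod)
  exact ⟨W, hWd, (invt_smul_iff x hμ W).1 hW⟩

/-- positive direction for flags, `x ^ r` an `r`-th power scalar. -/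
theorem exists_flag_of_pow (x : Matrix (Fin n) (Fin n) F) {μ : F} (hμ : μ ≠ 0) {r : ℕ}
    (hr : r.Prime) (hrp : r ≠ p) (hx : x ^ r = (μ ^ r) • (1 : Matrix (Fin n) (Fin n) F))
    (m : ℕ) (hm : 2 * m ≤ n)
    (hmod : 2 * (m % orderOf ((Fintype.card F : ℕ) : ZMod r)) ≤
      n % orderOf ((Fintype.card F : ℕ) : ZMod r)) :
    ∃ U W : Submodule F (Fin n → F), U ≤ W ∧ finrank F U = m ∧ finrank F W = n - m ∧
      U.map (Matrix.toLin' x) ≤ U ∧ W.map (Matrix.toLin' x) ≤ W := by
  set T : Module.End F (Fin n → F) := μ⁻¹ • Matrix.toLin' x with hT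
  have hTr : T ^ r = 1 := smul_pow_eq_one x hμ hx
  have hss : T.IsSemisimple := isSemisimple_of_pow_eq_one T r (natCast_ne_zero hr hrp) hTr
  have H := hasBlocks_of_pow_eq_one (p := p) T hr hrp hTr
  have hfin : finrank F (Fin n → F) = n := by simp
  have he : 1 ≤ orderOf ((Fintype.card F : ℕ) : ZMod r) :=
    (Cfsg.Agent.Lib.Helper40_PrimeOrderClasses.exists_cyclotomic_factors (F := F) p r hr hrp).1
  obtain ⟨U, W, hU, hW, hUW, hUd, hWd⟩ := exists_invt_flag hss he H
    (fun v hv => by simpa using Module.End.mem_eigenspace_iff.1 hv) m (by rw [hfin]; exact hm)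
    (by rw [hfin]; exact hmod)
  rw [hfin] at hWd
  exact ⟨U, W, hUW, hUd, hWd, (invt_smul_iff x hμ U).1 hU, (invt_smul_iff x hμ W).1 hW⟩

omit [Fact p.Prime] [CharP F p] in
/-- `r ∤ q - 1` when the order of `q` mod `r` is at least `2`. -/
theorem not_dvd_card_sub_one {r : ℕ}
    (he2 : 2 ≤ orderOf ((Fintype.card F : ℕ) : ZMod r)) : ¬ r ∣ Fintype.card F - 1 := by
  intro h
  have hq : 1 ≤ Fintype.card F := Fintype.card_pos
  have h1 : ((Fintype.card F : ℕ) : ZMod r) = 1 := by
    have h2 := (ZMod.natCast_eq_zero_iff _ _).2 h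
    rw [Nat.cast_sub hq, Nat.cast_one, sub_eq_zero] at h2
    exact h2
  rw [h1, orderOf_one] at he2
  omega

omit [Fact p.Prime] [CharP F p] in
/-- an `r`-th root of unity in `F` is trivial when `r ∤ q - 1`. -/
theorem eq_one_of_pow_eq_one {r : ℕ} (hr : r.Prime) (hrq : ¬ r ∣ Fintype.card F - 1) {z : F}
    (hz : z ^ r = 1) : z = 1 := by
  have hz0 : z ≠ 0 := by
    rintro rfl
    rw [zero_pow hr.ne_zero] at hz
    exact zero_ne_one hz
  have h1 := FiniteField.pow_card_sub_one_eq_one z hz0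
  have h2 := pow_gcd_eq_one.2 ⟨hz, h1⟩
  rw [(Nat.Prime.coprime_iff_not_dvd hr).2 hrq, pow_one] at h2
  exact h2

omit [Fact p.Prime] [CharP F p] in
/-- every nonzero element is an `r`-th power when `r ∤ q - 1`. -/
theorem exists_pow_eq {r : ℕ} (hr : r.Prime) (hrq : ¬ r ∣ Fintype.card F - 1) {c : F}
    (hc : c ≠ 0) : ∃ μ : F, μ ≠ 0 ∧ μ ^ r = c := by
  have hcop : (Nat.card Fˣ).Coprime r := by
    rw [Nat.card_units, Nat.card_eq_fintype_card]
    exact ((Nat.Prime.coprime_iff_not_dvd hr).2 hrq).symm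
  obtain ⟨u, hu⟩ := (powCoprime hcop).surjective (Units.mk0 c hc)
  refine ⟨u, u.ne_zero, ?_⟩
  have := congrArg Units.val hu
  simpa using this

/-- the extremal element of order `r`: fixed space of dimension `n mod e`. -/
theorem exists_extremal (n : ℕ) {r : ℕ} (hr : r.Prime) (hrp : r ≠ p)
    (he2 : 2 ≤ orderOf ((Fintype.card F : ℕ) : ZMod r)) :
    ∃ y : Matrix.SpecialLinearGroup (Fin n) F,
      (y : Matrix (Fin n) (Fin n) F) ^ r = 1 ∧
      finrank F (Module.End.eigenspace
        (Matrix.toLin' (y : Matrix (Fin n) (Fin n) F) : Module.End F (Fin n → F)) 1) =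
        n % orderOf ((Fintype.card F : ℕ) : ZMod r) := by
  classical
  have hp : p.Prime := Fact.out
  set e := orderOf ((Fintype.card F : ℕ) : ZMod r) with he
  obtain ⟨hepos, W, hWcard, hW1, hW2⟩ :=
    Cfsg.Agent.Lib.Helper40_PrimeOrderClasses.exists_cyclotomic_factors (F := F) p r hr hrp
  rw [← he] at hWcard hW1 hepos
  have hrq : ¬ r ∣ Fintype.card F - 1 := not_dvd_card_sub_one he2
  -- `e ∣ r - 1`
  have hq0 : ((Fintype.card F : ℕ) : ZMod r) ≠ 0 := by
    rw [Ne, ZMod.natCast_eq_zero_iff]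
    intro h
    obtain ⟨k, -, hk⟩ := FiniteField.card F p
    rw [hk] at h
    exact hrp ((Nat.prime_dvd_prime_iff_eq hr hp).1 (hr.dvd_of_dvd_pow h))
  have : Fact r.Prime := ⟨hr⟩
  have hedvd : e ∣ r - 1 := ZMod.orderOf_dvd_card_sub_one hq0
  have hWne : W.Nonempty := by
    rw [← Finset.card_pos, hWcard]
    exact Nat.div_pos (Nat.le_of_dvd (by have := hr.two_le; omega) hedvd) hepos
  obtain ⟨g, hgW⟩ := hWne
  obtain ⟨hgm, hgi, hg1, hgd, hgdeg⟩ := hW1 g hgW
  set k := n % e with hk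
  set s := n / e with hs
  have hX1 : ((X : F[X]) - 1) = X - C 1 := by rw [map_one]
  have hX1m : ((X : F[X]) - 1).Monic := by rw [hX1]; exact monic_X_sub_C 1
  set c : F[X] := (X - 1) ^ k * g ^ s with hc
  have hcm : c.Monic := (hX1m.pow k).mul (hgm.pow s)
  have hcdeg : c.natDegree = n := by
    rw [hc, (hX1m.pow k).natDegree_mul (hgm.pow s), hX1m.natDegree_pow, hgm.natDegree_pow, hgdeg,
      hX1, natDegree_X_sub_C, mul_one, hk, hs]
    rw [mul_comm]
    exact Nat.mod_add_div n e
  obtain ⟨A, hAc, hAss, hAkill⟩ :=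
    Cfsg.Agent.Lib.Helper40_PrimeOrderClasses.exists_matrix_of_monic' n c hcm hcdeg
  have hAr : A ^ r = 1 := by
    have h1 : aeval A ((X : F[X]) ^ r - 1) = 0 := by
      apply hAkill
      intro f hf hfc
      rcases hf.prime.dvd_or_dvd hfc with h | h
      · exact (hf.prime.dvd_of_dvd_pow h).trans
          (Cfsg.Agent.Lib.Helper40_PrimeOrderClasses.X_sub_one_dvd r hr)
      · exact (hf.prime.dvd_of_dvd_pow h).trans hgd
    rw [map_sub, map_pow, aeval_X, map_one] at h1
    exact sub_eq_zero.1 h1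
  have hdet : A.det = 1 := by
    apply eq_one_of_pow_eq_one hr hrq
    rw [← Matrix.det_pow, hAr, Matrix.det_one]
  refine ⟨⟨A, hdet⟩, hAr, ?_⟩
  show finrank F (Module.End.eigenspace (Matrix.toLin' A : Module.End F (Fin n → F)) 1) = k
  have hss : Module.End.IsSemisimple (Matrix.toLin' A : Module.End F (Fin n → F)) := hAss
  have hg1' : ¬ IsRoot (g ^ s) 1 := by
    intro h
    rw [IsRoot.def, eval_pow] at h
    have hs0 : s ≠ 0 := by
      intro hs0
      rw [hs0, pow_zero] at h
      exact one_ne_zero h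
    have h2 : IsRoot g 1 := (pow_eq_zero_iff hs0).1 h
    have h3 : (X - C 1) ∣ g := dvd_iff_isRoot.2 h2
    have h4 : Associated (X - C 1) g := (irreducible_X_sub_C 1).associated_of_dvd hgi h3
    have h5 := eq_of_monic_of_associated (monic_X_sub_C 1) hgm h4
    rw [← hX1] at h5
    exact hg1 h5.symm
  rw [← hss.isFinitelySemisimple.maxGenEigenspace_eq_eigenspace 1,
    LinearMap.finrank_maxGenEigenspace_eq, Matrix.charpoly_toLin', hAc, hc,
    rootMultiplicity_mul (by rw [← hc]; exact hcm.ne_zero), rootMultiplicity_eq_zero hg1',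
    add_zero, hX1, rootMultiplicity_X_sub_C_pow]

omit [Fintype F] [Fact p.Prime] [CharP F p] in
theorem toLin'_pow_eq_one (y : Matrix (Fin n) (Fin n) F) {r : ℕ} (hy : y ^ r = 1) :
    (Matrix.toLin' y : Module.End F (Fin n → F)) ^ r = 1 := by
  rw [← Matrix.toLin'_pow, hy, Matrix.toLin'_one]
  rfl

/-- obstruction for subspaces. -/
theorem mod_le_of_invt (y : Matrix (Fin n) (Fin n) F) {r : ℕ} (hr : r.Prime) (hrp : r ≠ p)
    (hy : y ^ r = 1) (W : Submodule F (Fin n → F)) (hW : W.map (Matrix.toLin' y) ≤ W) :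
    finrank F W % orderOf ((Fintype.card F : ℕ) : ZMod r) ≤
      finrank F (Module.End.eigenspace (Matrix.toLin' y : Module.End F (Fin n → F)) 1) := by
  set T : Module.End F (Fin n → F) := Matrix.toLin' y with hT
  have hTr : T ^ r = 1 := toLin'_pow_eq_one y hy
  have hss : T.IsSemisimple := isSemisimple_of_pow_eq_one T r (natCast_ne_zero hr hrp) hTr
  have H := hasBlocks_of_pow_eq_one (p := p) T hr hrp hTr
  have he : 1 ≤ orderOf ((Fintype.card F : ℕ) : ZMod r) :=
    (Cfsg.Agent.Lib.Helper40_PrimeOrderClasses.exists_cyclotomic_factors (F := F) p r hr hrp).1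
  exact mod_le_finrank hss he H
    (invt_of_fix (fun v hv => by simpa using Module.End.mem_eigenspace_iff.1 hv))
    ((Module.End.mem_invtSubmodule_iff_map_le T).2 hW)

/-- obstruction for flags. -/
theorem two_mul_mod_le_of_flag (y : Matrix (Fin n) (Fin n) F) {r : ℕ} (hr : r.Prime)
    (hrp : r ≠ p) (hy : y ^ r = 1) (U W : Submodule F (Fin n → F)) (hUW : U ≤ W)
    (hU : U.map (Matrix.toLin' y) ≤ U) (hW : W.map (Matrix.toLin' y) ≤ W) (m : ℕ) (hm : m ≤ n)
    (hUd : finrank F U = m) (hWd : finrank F W = n - m) :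
    2 * (m % orderOf ((Fintype.card F : ℕ) : ZMod r)) ≤
      finrank F (Module.End.eigenspace (Matrix.toLin' y : Module.End F (Fin n → F)) 1) := by
  set T : Module.End F (Fin n → F) := Matrix.toLin' y with hT
  have hTr : T ^ r = 1 := toLin'_pow_eq_one y hy
  have hss : T.IsSemisimple := isSemisimple_of_pow_eq_one T r (natCast_ne_zero hr hrp) hTr
  have H := hasBlocks_of_pow_eq_one (p := p) T hr hrp hTr
  have he : 1 ≤ orderOf ((Fintype.card F : ℕ) : ZMod r) :=
    (Cfsg.Agent.Lib.Helper40_PrimeOrderClasses.exists_cyclotomic_factors (F := F) p r hr hrp).1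
  have hfin : finrank F (Fin n → F) = n := by simp
  exact two_mul_mod_le_finrank hss he H
    (invt_of_fix (fun v hv => by simpa using Module.End.mem_eigenspace_iff.1 hv))
    ((Module.End.mem_invtSubmodule_iff_map_le T).2 hU)
    ((Module.End.mem_invtSubmodule_iff_map_le T).2 hW) hUW m (by rw [hfin]; exact hm) hUd
    (by rw [hfin]; exact hWd)

omit [Fact p.Prime] [CharP F p] in
/-- the extremal element is not scalar. -/
theorem not_scalar_of_finrank (y : Matrix (Fin n) (Fin n) F) {r : ℕ} (hr : r.Prime)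
    (hrq : ¬ r ∣ Fintype.card F - 1) (hy : y ^ r = 1) (hn : 0 < n)
    (hfix : finrank F (Module.End.eigenspace
      (Matrix.toLin' y : Module.End F (Fin n → F)) 1) < n) (z : F) :
    y ≠ z • (1 : Matrix (Fin n) (Fin n) F) := by
  intro h
  have hz : z ^ r = 1 := by
    rw [h, _root_.smul_pow, one_pow] at hy
    have h1 := congrFun (congrFun hy ⟨0, hn⟩) ⟨0, hn⟩
    simpa using h1
  have hz1 : z = 1 := eq_one_of_pow_eq_one hr hrq hz
  rw [hz1, one_smul] at h
  rw [h, Matrix.toLin'_one] at hfix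
  have h2 : Module.End.eigenspace (LinearMap.id : Module.End F (Fin n → F)) 1 = ⊤ := by
    rw [eq_top_iff]
    intro v _
    rw [Module.End.mem_eigenspace_iff]
    simp
  rw [h2, finrank_top] at hfix
  simp at hfix

end Matrices

end Finite

end Cfsg.Agent.Lib.Helper99_PrimeOrderSL
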