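import Mathlib
import Cfsg.Agent.Lib.Helper40_SpCases
import Cfsg.Agent.Lib.Helper40_SpPrimeOrder
import Cfsg.Agent.Lib.Helper99_InvSub
import Cfsg.Agent.Lib.Helper99_PrimeOrderSL
import Cfsg.Agent.Lib.Helper99_DecompNec

set_option autoImplicit false
set_option linter.unusedSectionVars false

/-!
Semisimple isometries of prime order `r` of a nondegenerate alternating space: extraction of
minimal nondegenerate invariant subspaces ("atoms") and the resulting orthogonal decomposition.
-/

namespace Cfsg.Agent.Lib.Helper99_SpAtoms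

open Polynomial Module
open Cfsg.Agent.Lib.Helper40_Semisimple Cfsg.Agent.Lib.Helper40_SpBasic
  Cfsg.Agent.Lib.Helper40_SpCyclic Cfsg.Agent.Lib.Helper40_SpHyperbolic
  Cfsg.Agent.Lib.Helper40_SpCases Cfsg.Agent.Lib.Helper40_Palindromic
  Cfsg.Agent.Lib.Helper40_SpExist Cfsg.Agent.Lib.Helper40_SpPrimeOrder
  Cfsg.Agent.Lib.Helper40_PolyFactors
open Cfsg.Agent.Lib.Helper99_InvSub

universe v

section link

variable {F : Type v} [Field F]

/-- for a monic irreducible factor `w` of `X ^ N - 1`: `w` divides `w(X^(N-1))` iff `w` is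
self-reciprocal. -/
theorem dvd_expand_iff_recip_eq (N : ℕ) (hN : 0 < N) (w : F[X]) (hwm : w.Monic)
    (hwi : Irreducible w) (hwd : w ∣ X ^ N - 1) :
    w ∣ expand F (N - 1) w ↔ recip w = w := by
  have : Fact (Irreducible w) := ⟨hwi⟩
  have hw0 : w.coeff 0 ≠ 0 := coeff_zero_ne_zero_of_dvd N hN w hwd
  set ρ := AdjoinRoot.root w with hρ
  have hρ0 : ρ ≠ 0 := root_ne_zero w hw0
  have hρN : ρ ^ N = 1 := by
    have h1 : aeval ρ (X ^ N - 1 : F[X]) = 0 := by
      rw [hρ, AdjoinRoot.aeval_eq, AdjoinRoot.mk_eq_zero]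
      exact hwd
    rw [map_sub, map_pow, aeval_X, map_one, sub_eq_zero] at h1
    exact h1
  have hρinv : ρ ^ (N - 1) = ρ⁻¹ := by
    apply eq_inv_of_mul_eq_one_left
    rw [← pow_succ, Nat.sub_add_cancel hN, hρN]
  have hkey : w ∣ expand F (N - 1) w ↔ aeval ρ⁻¹ w = 0 := by
    rw [← hρinv, ← expand_aeval, hρ, AdjoinRoot.aeval_eq, AdjoinRoot.mk_eq_zero]
  rw [hkey]
  constructor
  · intro h
    by_contra hne
    have hcop : IsCoprime (recip w) w :=
      isCoprime_of_monic_irreducible_ne (irreducible_recip w hwi hw0) (recip_monic w hw0) hwi hwm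
        hne
    obtain ⟨a, b, hab⟩ := hcop
    have h1 := congrArg (aeval ρ⁻¹) hab
    rw [map_add, map_mul, map_mul, aeval_inv_root_recip w hw0, h, mul_zero, mul_zero, add_zero,
      map_one] at h1
    exact zero_ne_one h1
  · intro h
    have h1 := aeval_inv_root_recip w hw0
    have h2 : aeval ρ⁻¹ (recip w) = aeval ρ⁻¹ w := congrArg (aeval ρ⁻¹) h
    rw [← h2]
    exact h1

end link

section basic

variable {F : Type*} [Field F] {V : Type*} [AddCommGroup V] [Module F V]

/-- `r v - (1 + T + ... + T^(r-1)) v` lies in the range of `T - 1`. -/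
theorem smul_sub_norm_mem (T : Module.End F V) (r : ℕ) (v : V) :
    (r : F) • v - Cfsg.Agent.Lib.Helper99_DecompNec.norm T r v ∈ LinearMap.range (T - 1) := by
  unfold Cfsg.Agent.Lib.Helper99_DecompNec.norm
  rw [LinearMap.sum_apply]
  have h1 : (r : F) • v = ∑ _i ∈ Finset.range r, v := by
    rw [Finset.sum_const, Finset.card_range, Nat.cast_smul_eq_nsmul]
  rw [h1, ← Finset.sum_sub_distrib]
  apply Submodule.sum_mem
  intro i _
  have h2 : v - (T ^ i) v = (T - 1) (-(∑ j ∈ Finset.range i, T ^ j) v) := by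
    have h3 : (T - 1) * (∑ j ∈ Finset.range i, T ^ j) = T ^ i - 1 := mul_geom_sum T i
    have h4 := congrArg (fun f : Module.End F V => f v) h3
    simp only [Module.End.mul_apply, LinearMap.sub_apply, Module.End.one_apply] at h4
    rw [map_neg, LinearMap.sub_apply, Module.End.one_apply, h4]
    abel
  rw [h2]
  exact LinearMap.mem_range_self _ _

theorem norm_apply_of_fix (T : Module.End F V) (r : ℕ) {v : V} (hv : T v = v) :
    Cfsg.Agent.Lib.Helper99_DecompNec.norm T r v = (r : F) • v := by
  unfold Cfsg.Agent.Lib.Helper99_DecompNec.norm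
  rw [LinearMap.sum_apply]
  have hpow : ∀ i : ℕ, (T ^ i) v = v := by
    intro i
    induction i with
    | zero => simp
    | succ i ih => rw [pow_succ, Module.End.mul_apply, hv, ih]
  rw [Finset.sum_congr rfl (fun i _ => hpow i), Finset.sum_const, Finset.card_range,
    Nat.cast_smul_eq_nsmul]

theorem norm_apply_range {T : Module.End F V} {r : ℕ} (hT : T ^ r = 1) {v : V}
    (hv : v ∈ LinearMap.range (T - 1)) : Cfsg.Agent.Lib.Helper99_DecompNec.norm T r v = 0 := by
  obtain ⟨u, rfl⟩ := hv
  unfold Cfsg.Agent.Lib.Helper99_DecompNec.norm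
  have h3 : (∑ j ∈ Finset.range r, T ^ j) * (T - 1) = T ^ r - 1 := geom_sum_mul T r
  have h4 := congrArg (fun f : Module.End F V => f u) h3
  simp only [Module.End.mul_apply] at h4
  rw [h4, hT, sub_self, LinearMap.zero_apply]

theorem disjoint_fix_range {T : Module.End F V} {r : ℕ} (hrF : (r : F) ≠ 0) (hT : T ^ r = 1) :
    Disjoint (Module.End.eigenspace T 1) (LinearMap.range (T - 1)) := by
  rw [Submodule.disjoint_def]
  intro v hv1 hv2
  rw [Module.End.mem_eigenspace_iff, one_smul] at hv1
  have h1 := norm_apply_of_fix T r hv1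
  rw [norm_apply_range hT hv2] at h1
  exact (smul_eq_zero.1 h1.symm).resolve_left hrF

theorem fix_sup_range {T : Module.End F V} {r : ℕ} (hr0 : 0 < r) (hrF : (r : F) ≠ 0)
    (hT : T ^ r = 1) :
    Module.End.eigenspace T 1 ⊔ LinearMap.range (T - 1) = ⊤ := by
  rw [eq_top_iff]
  intro v _
  have h1 : v = (r : F)⁻¹ • Cfsg.Agent.Lib.Helper99_DecompNec.norm T r v + (r : F)⁻¹ • ((r : F) • v - Cfsg.Agent.Lib.Helper99_DecompNec.norm T r v) := by
    rw [← smul_add, add_sub_cancel, smul_smul, inv_mul_cancel₀ hrF, one_smul]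
  rw [h1]
  exact Submodule.add_mem_sup (Submodule.smul_mem _ _ (Cfsg.Agent.Lib.Helper99_DecompNec.norm_mem_eigenspace hr0 hT v))
    (Submodule.smul_mem _ _ (smul_sub_norm_mem T r v))

/-- an invariant subspace without fixed vectors lies in the range of `T - 1`. -/
theorem le_range_of_disjoint_fix {T : Module.End F V} {r : ℕ} (hr0 : 0 < r) (hrF : (r : F) ≠ 0)
    (hT : T ^ r = 1) {Z : Submodule F V} (hZ : Inv T Z)
    (hZfix : Disjoint Z (Module.End.eigenspace T 1)) : Z ≤ LinearMap.range (T - 1) := by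
  intro v hv
  have h1 : Cfsg.Agent.Lib.Helper99_DecompNec.norm T r v ∈ Z := by
    unfold Cfsg.Agent.Lib.Helper99_DecompNec.norm
    rw [LinearMap.sum_apply]
    exact Submodule.sum_mem _ (fun i _ => hZ.pow_mem i hv)
  have h2 : Cfsg.Agent.Lib.Helper99_DecompNec.norm T r v = 0 :=
    Submodule.disjoint_def.1 hZfix _ h1 (Cfsg.Agent.Lib.Helper99_DecompNec.norm_mem_eigenspace hr0 hT v)
  have h3 := smul_sub_norm_mem T r v
  rw [h2, sub_zero] at h3
  have := Submodule.smul_mem _ (r : F)⁻¹ h3
  rwa [smul_smul, inv_mul_cancel₀ hrF, one_smul] at this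

/-- the range of `T - 1` is orthogonal to the fixed space of an isometry. -/
theorem range_orthogonal_fix {B : LinearMap.BilinForm F V} {T : Module.End F V}
    (hiso : ∀ x y, B (T x) (T y) = B x y) {u v : V} (hu : u ∈ LinearMap.range (T - 1))
    (hv : T v = v) : B u v = 0 := by
  obtain ⟨x, rfl⟩ := hu
  rw [LinearMap.sub_apply, Module.End.one_apply, map_sub, LinearMap.sub_apply]
  nth_rewrite 1 [← hv]
  rw [hiso, sub_self]

theorem inv_range_sub_one (T : Module.End F V) : Inv T (LinearMap.range (T - 1)) := by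
  rintro _ ⟨u, rfl⟩
  refine ⟨T u, ?_⟩
  simp only [LinearMap.sub_apply, Module.End.one_apply, map_sub]

end basic

section atom

open Cfsg.Agent.Lib.Helper99_PrimeOrderSL Cfsg.Agent.Lib.Helper40_PrimeOrderClasses

variable {F : Type*} [Field F] [Fintype F] {p : ℕ} [Fact p.Prime] [CharP F p]
variable {V : Type*} [AddCommGroup V] [Module F V] [FiniteDimensional F V]
variable {B : LinearMap.BilinForm F V} {T : Module.End F V} {r : ℕ}

/-- the dimension of the minimal nondegenerate invariant subspaces. -/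
noncomputable def atomDim (F : Type*) [Fintype F] (r : ℕ) : ℕ :=
  if Even (orderOf ((Fintype.card F : ℕ) : ZMod r)) then orderOf ((Fintype.card F : ℕ) : ZMod r)
  else 2 * orderOf ((Fintype.card F : ℕ) : ZMod r)

omit [Fintype F] [Fact p.Prime] [CharP F p] in
theorem finrank_cyc (T : Module.End F V) (v : V) (hv0 : v ≠ 0) (f : F[X]) (hf : Irreducible f)
    (hfv : aeval T f v = 0) : finrank F (cyc T v) = f.natDegree := by
  obtain ⟨U, hU, hUd, hvU, hUmin⟩ := exists_cyclic T f hf v hv0 hfv
  have h1 : cyc T v ≤ U := by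
    rintro _ ⟨q, rfl⟩
    rw [orbitMap_apply]
    exact aeval_apply_mem' T hU q hvU
  have h2 : U ≤ cyc T v := by
    apply hUmin
    · rw [Module.End.mem_invtSubmodule]
      exact inv_range_orbitMap T v
    · exact self_mem_range_orbitMap T v
  rw [le_antisymm h1 h2, hUd]

omit [Fintype F] [Fact p.Prime] [CharP F p] [FiniteDimensional F V] in
theorem aeval_apply_of_fix (T : Module.End F V) {x : V} (hx : T x = x) (q : F[X]) :
    aeval T q x = q.eval 1 • x := by
  by_cases hx0 : x = 0
  · subst hx0; simp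
  · apply Module.End.aeval_apply_of_hasEigenvector
    refine ⟨?_, hx0⟩
    rw [Module.End.mem_eigenspace_iff, one_smul]
    exact hx

/-- extraction of a minimal nondegenerate invariant subspace outside the fixed space. -/
theorem exists_atom (hiso : IsoData B T r) (hB : B.Nondegenerate) (hr : r.Prime) (hr2 : r ≠ 2)
    (hrp : r ≠ p) (hC : LinearMap.range (T - 1) ≠ ⊥) :
    ∃ Z : Submodule F V, Inv T Z ∧ NDOn B Z ∧ finrank F Z = atomDim F r ∧
      Z ≤ LinearMap.range (T - 1) := by
  classical
  have hrF : ((r : ℕ) : F) ≠ 0 := natCast_ne_zero hr hrp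
  have hTr : T ^ r = 1 := hiso.pow
  have hss : T.IsSemisimple := isSemisimple_of_pow_eq_one T r hrF hTr
  have hrodd : Odd r := hr.odd_of_ne_two hr2
  obtain ⟨hipos, W, -, hW1, hW2⟩ := exists_cyclotomic_factors (F := F) p r hr hrp
  set i := orderOf ((Fintype.card F : ℕ) : ZMod r) with hi
  obtain ⟨v, hvC, hv0⟩ := Submodule.exists_mem_ne_zero_of_ne_bot hC
  have hP0 : (X ^ r - 1 : F[X]) ≠ 0 := by
    have : (X ^ r - 1 : F[X]) = X ^ r - C 1 := by rw [map_one]
    rw [this]; exact X_pow_sub_C_ne_zero hr.pos 1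
  have hPT : aeval T (X ^ r - 1 : F[X]) = 0 := by
    rw [map_sub, map_pow, aeval_X, map_one, hTr, sub_self]
  obtain ⟨w, hwm, hwi, hwd, Q, hQ1, hQ2⟩ :=
    exists_irreducible_factor_vec T _ (X ^ r - 1) rfl hP0 v hv0 (by rw [hPT]; rfl)
  set u := aeval T Q v with hu
  have hCinv : Inv T (LinearMap.range (T - 1)) := inv_range_sub_one T
  have huC : u ∈ LinearMap.range (T - 1) := hCinv.aeval_mem Q hvC
  have hdisjFC := disjoint_fix_range hrF hTr
  have hw1 : w ≠ X - 1 := by
    intro h
    rw [h, map_sub, aeval_X, map_one, LinearMap.sub_apply, Module.End.one_apply, sub_eq_zero]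
      at hQ2
    apply hQ1
    apply Submodule.disjoint_def.1 hdisjFC u _ huC
    rw [Module.End.mem_eigenspace_iff, one_smul]
    exact hQ2
  have hwW : w ∈ W := (hW2 w hwm hwi hwd).resolve_left hw1
  have hwdeg : w.natDegree = i := (hW1 w hwW).2.2.2.2
  have hw0 : w.coeff 0 ≠ 0 := coeff_zero_ne_zero_of_dvd r hr.pos w hwd
  have hw11 : w.eval 1 ≠ 0 := eval_one_ne_zero w hwm hwi hw1
  -- vectors killed by `w(T)` lie in the range of `T - 1`
  have hkerC : ∀ u' : V, aeval T w u' = 0 → u' ∈ LinearMap.range (T - 1) := by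
    intro u' hu'
    have hZinv : Inv T (LinearMap.ker (aeval T w)) := by
      intro x hx
      rw [LinearMap.mem_ker] at hx ⊢
      have : aeval T w (T x) = T (aeval T w x) := by
        rw [← Module.End.mul_apply, ← Module.End.mul_apply]
        congr 1
        have h1 : aeval T (w * X) = aeval T (X * w) := by rw [mul_comm]
        rwa [map_mul, map_mul, aeval_X] at h1
      rw [this, hx, map_zero]
    have hZdisj : Disjoint (LinearMap.ker (aeval T w)) (Module.End.eigenspace T 1) := by
      rw [Submodule.disjoint_def]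
      intro x hx1 hx2
      rw [LinearMap.mem_ker] at hx1
      rw [Module.End.mem_eigenspace_iff, one_smul] at hx2
      rw [aeval_apply_of_fix T hx2] at hx1
      exact (smul_eq_zero.1 hx1).resolve_left hw11
    exact le_range_of_disjoint_fix hr.pos hrF hTr hZinv hZdisj (LinearMap.mem_ker.2 hu')
  have hcycC : ∀ u' : V, aeval T w u' = 0 → cyc T u' ≤ LinearMap.range (T - 1) := by
    intro u' hu'
    rintro _ ⟨q, rfl⟩
    rw [orbitMap_apply]
    exact hCinv.aeval_mem q (hkerC u' hu')
  by_cases hie : Even i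
  · -- self-reciprocal case
    have hrec : recip w = w := recip_eq_of_even p r i hr hi hipos hie w hwm hwi hw1 hwd
    have hdvd : w ∣ expand F (r - 1) w :=
      (dvd_expand_iff_recip_eq r hr.pos w hwm hwi hwd).2 hrec
    have hX2 : ¬ w ∣ X ^ 2 - 1 := by
      intro h
      have hfac : (X : F[X]) ^ 2 - 1 = (X - C 1) * (X - C (-1)) := by
        rw [map_neg, map_one]; ring
      rw [hfac] at h
      have h2 : 2 ≤ i := by
        obtain ⟨j, hj⟩ := hie
        omega
      rcases hwi.prime.dvd_or_dvd h with h1 | h1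
      · have := natDegree_le_of_dvd h1 (X_sub_C_ne_zero 1)
        rw [natDegree_X_sub_C, hwdeg] at this
        omega
      · have := natDegree_le_of_dvd h1 (X_sub_C_ne_zero (-1))
        rw [natDegree_X_sub_C, hwdeg] at this
        omega
    have hex : ∃ u₁ : V, aeval T w u₁ = 0 ∧ ∃ q : F[X], B u₁ (aeval T q u₁) ≠ 0 := by
      by_contra hcon
      apply caseB_false hiso hB hss u hQ1 w hwi hQ2 _ hdvd hX2
      intro u' hu' q
      by_contra hne
      exact hcon ⟨u', hu', q, hne⟩
    obtain ⟨u₁, hu₁, q, hq⟩ := hex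
    have hu₁0 : u₁ ≠ 0 := by
      rintro rfl
      apply hq
      simp
    refine ⟨cyc T u₁, inv_range_orbitMap T u₁, ndOn_cyc hiso u₁ w hwi hu₁ q hq, ?_,
      hcycC u₁ hu₁⟩
    rw [finrank_cyc T u₁ hu₁0 w hwi hu₁, hwdeg]
    unfold atomDim
    rw [if_pos hie]
  · -- the hyperbolic case
    have hio : Odd i := Nat.not_even_iff_odd.1 hie
    have hcase : ∀ u' : V, aeval T w u' = 0 → ∀ q : F[X], B u' (aeval T q u') = 0 := by
      intro u' hu' q
      by_contra hne
      have h1 := (witness_props hiso u' w hwi hu' q hne).1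
      have h2 := (dvd_expand_iff_recip_eq r hr.pos w hwm hwi hwd).1 h1
      exact recip_ne_of_odd r hrodd w hwm hwi hw0 hw1 hwd (by rw [hwdeg]; exact hio) h2
    obtain ⟨Z₁, hZ₁inv, hcompl, hiso1⟩ := exists_hyperbolic hiso hB hss u hQ1 w hwi hQ2 hcase
    have hiso0 : IsoOn B (cyc T u) := isoOn_cyc hiso u (hcase u hQ2)
    have hp : HypPair B T (cyc T u) Z₁ :=
      ⟨inv_range_orbitMap T u, hZ₁inv, hiso0, hiso1, hcompl⟩
    have hZ₀C : cyc T u ≤ LinearMap.range (T - 1) := hcycC u hQ2
    have hZ₁C : Z₁ ≤ LinearMap.range (T - 1) := by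
      apply le_range_of_disjoint_fix hr.pos hrF hTr hZ₁inv
      rw [Submodule.disjoint_def]
      intro x hx1 hx2
      rw [Module.End.mem_eigenspace_iff, one_smul] at hx2
      apply hp.pairing_injective hx1
      intro z0 hz0
      exact range_orthogonal_fix hiso.iso (hZ₀C hz0) hx2
    refine ⟨cyc T u ⊔ Z₁, hp.inv_sup, hp.ndOn_sup hiso hB, ?_, sup_le hZ₀C hZ₁C⟩
    rw [finrank_sup_of_disjoint hp.disjoint, hp.finrank_eq hB, finrank_cyc T u hQ1 w hwi hQ2,
      hwdeg]
    unfold atomDim
    rw [if_neg hie, two_mul]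

omit [Fintype F] [Fact p.Prime] [CharP F p] [FiniteDimensional F V] in
/-- extraction of a hyperbolic plane. -/
theorem exists_plane (halt : ∀ x, B x x = 0) (hB : B.Nondegenerate) {v : V} (hv : v ≠ 0) :
    ∃ H : Submodule F V, NDOn B H ∧ finrank F H = 2 := by
  have hskew : ∀ x y, B x y = - B y x := by
    intro x y
    have h1 := halt (x + y)
    simp only [map_add, LinearMap.add_apply, halt, zero_add, add_zero] at h1
    exact eq_neg_of_add_eq_zero_right h1
  have hex : ∃ w, B v w ≠ 0 := by
    by_contra hcon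
    apply hv
    apply hB.1 v
    intro y
    by_contra h
    exact hcon ⟨y, h⟩
  obtain ⟨w, hw⟩ := hex
  have hwv : B w v ≠ 0 := by rw [hskew]; exact neg_ne_zero.2 hw
  have hli : LinearIndependent F ![v, w] := by
    rw [LinearIndependent.pair_iff]
    intro s t hst
    have h1 := congrArg (fun x => B x w) hst
    have h2 := congrArg (fun x => B x v) hst
    simp only [map_add, map_smul, LinearMap.add_apply, LinearMap.smul_apply, halt, smul_eq_mul,
      mul_zero, add_zero, zero_add, LinearMap.zero_apply, map_zero] at h1 h2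
    exact ⟨(mul_eq_zero.1 h1).resolve_right hw, (mul_eq_zero.1 h2).resolve_right hwv⟩
  refine ⟨Submodule.span F (Set.range ![v, w]), ?_, ?_⟩
  · intro x hx hxy
    rw [Matrix.range_cons, Matrix.range_cons, Matrix.range_empty, Set.union_empty] at hx hxy
    obtain ⟨s, t, rfl⟩ := Submodule.mem_span_pair.1 hx
    have h1 := hxy w (Submodule.subset_span (by simp))
    have h2 := hxy v (Submodule.subset_span (by simp))
    simp only [map_add, map_smul, LinearMap.add_apply, LinearMap.smul_apply, halt, smul_eq_mul,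
      mul_zero, add_zero, zero_add] at h1 h2
    rw [(mul_eq_zero.1 h1).resolve_right hw, (mul_eq_zero.1 h2).resolve_right hwv, zero_smul,
      zero_smul, add_zero]
  · rw [finrank_span_eq_card hli, Fintype.card_fin]

end atom

section decomposition

open Cfsg.Agent.Lib.Helper99_PrimeOrderSL Cfsg.Agent.Lib.Helper40_PrimeOrderClasses

universe u

variable {F : Type*} [Field F] [Fintype F] {p : ℕ} [Fact p.Prime] [CharP F p] {r : ℕ}

omit [Fact p.Prime] [CharP F p] in
theorem atomDim_pos (hpos : 0 < orderOf ((Fintype.card F : ℕ) : ZMod r)) : 0 < atomDim F r := by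
  unfold atomDim
  split_ifs <;> omega

/-- the good pieces: atoms inside the range of `T - 1` and hyperbolic planes inside the fixed
space. -/
def IsPiece {V : Type*} [AddCommGroup V] [Module F V] (B : LinearMap.BilinForm F V)
    (T : Module.End F V) (r : ℕ) (P : Submodule F V × Bool) : Prop :=
  Inv T P.1 ∧ NDOn B P.1 ∧
    (P.2 = true → finrank F P.1 = atomDim F r ∧ P.1 ≤ LinearMap.range (T - 1)) ∧
    (P.2 = false → finrank F P.1 = 2 ∧ P.1 ≤ Module.End.eigenspace T 1)

/-- orthogonal decomposition into atoms and hyperbolic planes. -/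
theorem exists_pieces (hr : r.Prime) (hr2 : r ≠ 2) (hrp : r ≠ p) :
    ∀ (m : ℕ) {V : Type u} [AddCommGroup V] [Module F V] [FiniteDimensional F V]
      (B : LinearMap.BilinForm F V) (T : Module.End F V),
      finrank F V = m → IsoData B T r → B.Nondegenerate →
      ∃ L : List (Submodule F V × Bool),
        (∀ P ∈ L, IsPiece B T r P) ∧
        L.Pairwise (fun P Q => ∀ u ∈ P.1, ∀ v ∈ Q.1, B u v = 0) ∧
        (L.map (fun P => finrank F P.1)).sum = m := by
  intro m
  induction m using Nat.strong_induction_on with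
  | _ m ih =>
  intro V _ _ _ B T hm hiso hB
  rcases Nat.eq_zero_or_pos m with hm0 | hmpos
  · subst hm0
    exact ⟨[], by simp, List.Pairwise.nil, by simp⟩
  have hcpos : 0 < atomDim F r :=
    atomDim_pos (exists_cyclotomic_factors (F := F) p r hr hrp).1
  -- the first piece
  have hpiece : ∃ P : Submodule F V × Bool, IsPiece B T r P ∧ 0 < finrank F P.1 := by
    by_cases hC : LinearMap.range (T - 1) = ⊥
    · have hT1 : ∀ x, T x = x := by
        intro x
        have : (T - 1) x ∈ LinearMap.range (T - 1) := LinearMap.mem_range_self _ _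
        rw [hC, Submodule.mem_bot, LinearMap.sub_apply, Module.End.one_apply, sub_eq_zero] at this
        exact this
      have hV : ∃ v : V, v ≠ 0 := by
        by_contra hcon
        have : Subsingleton V := ⟨fun a b => by
          have ha : a = 0 := by by_contra h; exact hcon ⟨a, h⟩
          have hb : b = 0 := by by_contra h; exact hcon ⟨b, h⟩
          rw [ha, hb]⟩
        have := finrank_zero_of_subsingleton (R := F) (M := V)
        omega
      obtain ⟨v, hv⟩ := hV
      obtain ⟨H, hH1, hH2⟩ := exists_plane hiso.alt hB hv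
      refine ⟨(H, false), ⟨?_, hH1, ?_, ?_⟩, by rw [hH2]; omega⟩
      · intro x hx
        rw [hT1 x]; exact hx
      · intro h; exact absurd h (by simp)
      · intro _
        refine ⟨hH2, ?_⟩
        intro x _
        rw [Module.End.mem_eigenspace_iff, one_smul]
        exact hT1 x
    · obtain ⟨Z, hZ1, hZ2, hZ3, hZ4⟩ := exists_atom hiso hB hr hr2 hrp hC
      refine ⟨(Z, true), ⟨hZ1, hZ2, ?_, ?_⟩, by rw [hZ3]; exact hcpos⟩
      · intro _; exact ⟨hZ3, hZ4⟩
      · intro h; exact absurd h (by simp)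
  obtain ⟨P, hP, hPpos⟩ := hpiece
  obtain ⟨hPinv, hPnd, hPt, hPf⟩ := hP
  set Y := B.orthogonal P.1 with hY
  have hYinv : Inv T Y := hiso.inv_orthogonal hPinv
  have hcompl : IsCompl P.1 Y := isCompl_orthogonal hiso hPnd
  have hYnd : NDOn B Y := ndOn_orthogonal hiso hB hPnd
  have hdim : finrank F P.1 + finrank F Y = m := by
    rw [← hm]; exact Submodule.finrank_add_eq_of_isCompl hcompl
  obtain ⟨L', hL'1, hL'2, hL'3⟩ := ih (finrank F Y) (by omega) (B.restrict Y) (T.restrict hYinv)
    rfl (hiso.restrict hYinv) (nondegenerate_restrict hiso hYnd)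
  let φ : Submodule F Y × Bool → Submodule F V × Bool := fun Q => (Q.1.map Y.subtype, Q.2)
  refine ⟨P :: L'.map φ, ?_, ?_, ?_⟩
  · intro Q hQ
    rw [List.mem_cons] at hQ
    rcases hQ with rfl | hQ
    · exact ⟨hPinv, hPnd, hPt, hPf⟩
    · rw [List.mem_map] at hQ
      obtain ⟨Q', hQ'L, rfl⟩ := hQ
      obtain ⟨h1, h2, h3, h4⟩ := hL'1 Q' hQ'L
      refine ⟨?_, ?_, ?_, ?_⟩
      · rintro _ ⟨x', hx', rfl⟩
        exact ⟨(T.restrict hYinv) x', h1 x' hx', rfl⟩
      · rintro _ ⟨x', hx', rfl⟩ hxy
        have : x' = 0 := by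
          apply h2 x' hx'
          intro y' hy'
          exact hxy _ ⟨y', hy', rfl⟩
        rw [this]; rfl
      · intro hk
        obtain ⟨h5, h6⟩ := h3 hk
        refine ⟨?_, ?_⟩
        · show finrank F ↥(Q'.1.map Y.subtype) = _
          rw [Submodule.finrank_map_subtype_eq]; exact h5
        · rintro _ ⟨x', hx', rfl⟩
          obtain ⟨u', hu'⟩ := h6 hx'
          refine ⟨(u' : V), ?_⟩
          rw [← hu']
          simp only [LinearMap.sub_apply, Module.End.one_apply, Submodule.subtype_apply,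
            Submodule.coe_sub, LinearMap.coe_restrict_apply]
      · intro hk
        obtain ⟨h5, h6⟩ := h4 hk
        refine ⟨?_, ?_⟩
        · show finrank F ↥(Q'.1.map Y.subtype) = _
          rw [Submodule.finrank_map_subtype_eq]; exact h5
        · rintro _ ⟨x', hx', rfl⟩
          have h7 := h6 hx'
          rw [Module.End.mem_eigenspace_iff, one_smul] at h7 ⊢
          have := congrArg Subtype.val h7
          simpa using this
  · rw [List.pairwise_cons]
    refine ⟨?_, ?_⟩
    · intro Q hQ u hu v hv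
      rw [List.mem_map] at hQ
      obtain ⟨Q', -, rfl⟩ := hQ
      obtain ⟨v', -, rfl⟩ := hv
      have hvY : (v' : V) ∈ B.orthogonal P.1 := v'.2
      rw [LinearMap.BilinForm.mem_orthogonal_iff] at hvY
      exact hvY u hu
    · rw [List.pairwise_map]
      refine hL'2.imp ?_
      intro Q1 Q2 h u hu v hv
      obtain ⟨u', hu', rfl⟩ := hu
      obtain ⟨v', hv', rfl⟩ := hv
      exact h u' hu' v' hv'
  · rw [List.map_cons, List.sum_cons, List.map_map]
    have : (fun Q : Submodule F V × Bool => finrank F Q.1) ∘ φ =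
        fun Q : Submodule F Y × Bool => finrank F Q.1 := by
      funext Q
      show finrank F ↥(Q.1.map Y.subtype) = _
      rw [Submodule.finrank_map_subtype_eq]
    rw [this, hL'3]
    exact hdim

end decomposition

end Cfsg.Agent.Lib.Helper99_SpAtoms
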