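import Mathlib
import Cfsg.Prelude.Def_GeometricClasses
import Cfsg.Prelude.Def_Classical
import Cfsg.Agent.Lib.Helper88_OrthNDDefs
import Cfsg.Agent.Lib.Helper99_SpAtoms
import Cfsg.Agent.Lib.Helper44_StdForms
import Cfsg.Agent.Lib.Helper40_S8Types

/-!
# Package TMUL of S5974/S5988/S5990 (architect helper88): the type of an orthogonal sum

Type calculus for nondegenerate even-dimensional quadratic spaces over a finite field, any
characteristic: `IsHyp (Q₁.prod Q₂) ↔ (IsHyp Q₁ ↔ IsHyp Q₂)`, obtained from helper40's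
classification (`iso_plus_or_minus`, `two_types`) and Witt cancellation, without explicit
constructions; then the transfer to subspaces of an ambient space.
-/

set_option autoImplicit false
universe u

namespace Cfsg.Agent.Lib.Helper85_OrthND_TMUL

open Module Cfsg.Agent.Lib.Helper40_SpBasic Cfsg.Agent.Lib.Helper88_OrthNDDefs
  Cfsg.Agent.Lib.Helper44_StdForms Cfsg.Agent.Lib.Helper40_QuadIso
  Cfsg.Agent.Lib.Helper40_QuadStd Cfsg.Agent.Lib.Helper14_POmegaSimple
  Cfsg.Agent.Lib.Helper40_OTransport Cfsg.Agent.Lib.Helper40_S8Types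

section isoutil

variable {F : Type*} [Field F]
variable {V₁ V₂ V₃ V₁' V₂' : Type*} [AddCommGroup V₁] [Module F V₁] [AddCommGroup V₂]
  [Module F V₂] [AddCommGroup V₃] [Module F V₃] [AddCommGroup V₁'] [Module F V₁']
  [AddCommGroup V₂'] [Module F V₂']

theorem iso_prod_comm (Q₁ : QuadraticForm F V₁) (Q₂ : QuadraticForm F V₂) :
    Iso (Q₁.prod Q₂) (Q₂.prod Q₁) := by
  refine ⟨LinearEquiv.prodComm F V₁ V₂, fun v => ?_⟩
  rw [QuadraticMap.prod_apply, QuadraticMap.prod_apply]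
  simp [add_comm]

theorem iso_prod_assoc (Q₁ : QuadraticForm F V₁) (Q₂ : QuadraticForm F V₂)
    (Q₃ : QuadraticForm F V₃) : Iso ((Q₁.prod Q₂).prod Q₃) (Q₁.prod (Q₂.prod Q₃)) := by
  refine ⟨LinearEquiv.prodAssoc F V₁ V₂ V₃, fun v => ?_⟩
  obtain ⟨⟨a, b⟩, c⟩ := v
  show (Q₁.prod (Q₂.prod Q₃)) (a, (b, c)) = ((Q₁.prod Q₂).prod Q₃) ((a, b), c)
  simp only [QuadraticMap.prod_apply]
  ring

theorem iso_prod_congr {Q₁ : QuadraticForm F V₁} {Q₂ : QuadraticForm F V₂}
    {Q₁' : QuadraticForm F V₁'} {Q₂' : QuadraticForm F V₂'} (h₁ : Iso Q₁ Q₁') (h₂ : Iso Q₂ Q₂') :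
    Iso (Q₁.prod Q₂) (Q₁'.prod Q₂') := by
  obtain ⟨φ₁, hφ₁⟩ := h₁
  obtain ⟨φ₂, hφ₂⟩ := h₂
  refine ⟨LinearEquiv.prodCongr φ₁ φ₂, fun v => ?_⟩
  simp only [QuadraticMap.prod_apply, LinearEquiv.prodCongr_apply, hφ₁, hφ₂]

/-- a quadratic form on a zero-dimensional space is hyperbolic -/
theorem isHyp_of_finrank_zero [FiniteDimensional F V₁] (Q₁ : QuadraticForm F V₁)
    (h : finrank F V₁ = 0) : IsHyp Q₁ := by
  refine ⟨⊥, ?_, ?_⟩
  · intro u hu
    rw [(Submodule.mem_bot F).1 hu, map_zero]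
  · rw [h]
    exact Nat.zero_le _

end isoutil

section calculus

variable {F : Type u} [Field F] [Fintype F]

/-- adding a plus space does not change the type -/
theorem isHyp_prod_plus_iff {V₁ : Type u} [AddCommGroup V₁] [Module F V₁] [FiniteDimensional F V₁]
    (Q₁ : QuadraticForm F V₁) (hQ₁ : (QuadraticMap.polarBilin Q₁).Nondegenerate) (a : ℕ)
    (ha : finrank F V₁ = 2 * a) (k : ℕ) :
    IsHyp (Q₁.prod (qfPlus k F)) ↔ IsHyp Q₁ := by
  constructor
  · intro hh
    rcases Nat.eq_zero_or_pos a with rfl | hapos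
    · exact isHyp_of_finrank_zero Q₁ (by rw [ha])
    · have hnd := nondegenerate_prod Q₁ (qfPlus k F) hQ₁ (nondegenerate_qfPlus k)
      have hdim : finrank F (V₁ × (Fin k ⊕ Fin k → F)) = 2 * (a + k) := by
        rw [Module.finrank_prod, ha, finrank_plus]
        ring
      have h1 := iso_plus_of_hyp (a + k) (by omega) hdim _ hnd hh
      have h2 := iso_plus_plus (F := F) a k (by omega)
      have h3 : Iso ((qfPlus k F).prod Q₁) ((qfPlus k F).prod (qfPlus a F)) :=
        (iso_prod_comm _ _).trans ((h1.trans h2.symm).trans (iso_prod_comm _ _))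
      have h4 := cancel (qfPlus k F) Q₁ (qfPlus a F) (nondegenerate_qfPlus k)
        (nondegenerate_prod _ _ (nondegenerate_qfPlus k) (nondegenerate_qfPlus a)) h3
      exact (isHyp_qfPlus a).of_iso h4.symm
  · intro h
    exact isHyp_prod h (isHyp_qfPlus k)

/-- adding an anisotropic plane changes the type -/
theorem isHyp_prod_aniso_iff {V₀ : Type u} [AddCommGroup V₀] [Module F V₀]
    [FiniteDimensional F V₀] (Q₀ : QuadraticForm F V₀)
    (hQ₀ : (QuadraticMap.polarBilin Q₀).Nondegenerate) (k : ℕ) (hk : finrank F V₀ = 2 * k)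
    (a c : F) (hac : ∀ z₁ z₂ : F, z₁ ^ 2 + a * z₁ * z₂ + c * z₂ ^ 2 = 0 → z₁ = 0 ∧ z₂ = 0) :
    IsHyp (Q₀.prod (qfMinus 0 F a c)) ↔ ¬ IsHyp Q₀ := by
  have hA := isHyp_prod_plus_iff Q₀ hQ₀ k hk 1
  have hV : finrank F V₀ = 2 * (k + 1 - 1) := by
    rw [hk, Nat.add_sub_cancel]
  rcases two_types (k + 1) (by omega) hV Q₀ hQ₀ a c hac with ⟨h1, h2⟩ | ⟨h1, h2⟩
  · have hy : IsHyp Q₀ := hA.1 ((isHyp_qfPlus (k + 1)).of_iso h1.symm)
    have hn : ¬ IsHyp (Q₀.prod (qfMinus 0 F a c)) := fun hh =>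
      not_isHyp_qfMinus (k + 1 - 1) a c hac (hh.of_iso h2)
    exact ⟨fun h => absurd h hn, fun h => absurd hy h⟩
  · have hn : ¬ IsHyp Q₀ := fun hh =>
      not_isHyp_qfMinus (k + 1 - 1) a c hac ((hA.2 hh).of_iso h1)
    have hy : IsHyp (Q₀.prod (qfMinus 0 F a c)) := (isHyp_qfPlus (k + 1)).of_iso h2.symm
    exact ⟨fun _ => hn, fun _ => hy⟩

/-- **type calculus**: the orthogonal sum is of plus type iff the summands have the same type -/
theorem isHyp_prod_iff {V₁ V₂ : Type u} [AddCommGroup V₁] [Module F V₁] [FiniteDimensional F V₁]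
    [AddCommGroup V₂] [Module F V₂] [FiniteDimensional F V₂]
    (Q₁ : QuadraticForm F V₁) (Q₂ : QuadraticForm F V₂)
    (h₁ : (QuadraticMap.polarBilin Q₁).Nondegenerate)
    (h₂ : (QuadraticMap.polarBilin Q₂).Nondegenerate) (a b : ℕ)
    (ha : finrank F V₁ = 2 * a) (hb : finrank F V₂ = 2 * b) :
    IsHyp (Q₁.prod Q₂) ↔ (IsHyp Q₁ ↔ IsHyp Q₂) := by
  obtain ⟨ζ, hζ⟩ := exists_aniso (F := F)
  by_cases hh2 : IsHyp Q₂
  · -- `Q₂` is a plus space
    have e2 : Iso Q₂ (qfPlus b F) := by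
      rcases Nat.eq_zero_or_pos b with rfl | hbpos
      · have hsub : Subsingleton V₂ := Module.finrank_zero_iff.1 (by rw [hb])
        have hfr : finrank F V₂ = finrank F (Fin 0 ⊕ Fin 0 → F) := by
          rw [hb, finrank_plus]
        refine ⟨LinearEquiv.ofFinrankEq V₂ (Fin 0 ⊕ Fin 0 → F) hfr, fun v => ?_⟩
        rw [Subsingleton.elim v 0, map_zero, map_zero, map_zero]
      · exact iso_plus_of_hyp b hbpos hb Q₂ h₂ hh2
    have e : Iso (Q₁.prod Q₂) (Q₁.prod (qfPlus b F)) := iso_prod_congr (Iso.refl _) e2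
    have hA := isHyp_prod_plus_iff Q₁ h₁ a ha b
    constructor
    · intro h
      exact ⟨fun _ => hh2, fun _ => hA.1 (h.of_iso e)⟩
    · intro h
      exact (hA.2 (h.2 hh2)).of_iso e.symm
  · -- `Q₂` is a minus space
    have hbpos : 0 < b := by
      rcases Nat.eq_zero_or_pos b with rfl | hbpos
      · exact absurd (isHyp_of_finrank_zero Q₂ (by rw [hb])) hh2
      · exact hbpos
    have e2 : Iso Q₂ (qfMinus (b - 1) F 1 ζ) :=
      iso_minus_of_not_hyp b hbpos hb Q₂ h₂ hh2 1 ζ hζ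
    have e3 : Iso ((qfPlus (b - 1) F).prod (qfMinus 0 F 1 ζ)) (qfMinus (b - 1) F 1 ζ) :=
      iso_plus_minus (F := F) (b - 1) 0 1 ζ hζ
    have e : Iso (Q₁.prod Q₂) ((Q₁.prod (qfPlus (b - 1) F)).prod (qfMinus 0 F 1 ζ)) :=
      (iso_prod_congr (Iso.refl Q₁) (e2.trans e3.symm)).trans (iso_prod_assoc _ _ _).symm
    have hnd0 := nondegenerate_prod Q₁ (qfPlus (b - 1) F) h₁ (nondegenerate_qfPlus (b - 1))
    have hdim0 : finrank F (V₁ × (Fin (b - 1) ⊕ Fin (b - 1) → F)) = 2 * (a + (b - 1)) := by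
      rw [Module.finrank_prod, ha, finrank_plus]
      ring
    have hB := isHyp_prod_aniso_iff (Q₁.prod (qfPlus (b - 1) F)) hnd0 (a + (b - 1)) hdim0 1 ζ hζ
    have hA := isHyp_prod_plus_iff Q₁ h₁ a ha (b - 1)
    constructor
    · intro h
      have hn : ¬ IsHyp Q₁ := fun hq => hB.1 (h.of_iso e) (hA.2 hq)
      exact ⟨fun hq => absurd hq hn, fun hq => absurd hq hh2⟩
    · intro h
      have hn : ¬ IsHyp Q₁ := fun hq => hh2 (h.1 hq)
      exact (hB.2 (fun hq => hn (hA.1 hq))).of_iso e.symm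

end calculus

section sub

variable {F : Type*} [Field F] {V : Type*} [AddCommGroup V] [Module F V]

/-- restriction of a quadratic form to a subspace -/
noncomputable abbrev resQ (Q : QuadraticForm F V) (W : Submodule F V) : QuadraticForm F W :=
  Q.comp W.subtype

theorem resQ_apply (Q : QuadraticForm F V) (W : Submodule F V) (w : W) :
    resQ Q W w = Q (w : V) := rfl

theorem polar_resQ (Q : QuadraticForm F V) (W : Submodule F V) (x y : W) :
    QuadraticMap.polar (⇑(resQ Q W)) x y = QuadraticMap.polar (⇑Q) (x : V) (y : V) := by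
  simp only [QuadraticMap.polar, resQ_apply, Submodule.coe_add]

theorem resQ_nondeg (Q : QuadraticForm F V) (W : Submodule F V)
    (h : NDOn (QuadraticMap.polarBilin Q) W) :
    (QuadraticMap.polarBilin (resQ Q W)).Nondegenerate := by
  have hleft : ∀ x : W, (∀ y : W, QuadraticMap.polarBilin (resQ Q W) x y = 0) → x = 0 := by
    intro x hx
    apply Subtype.ext
    apply h x x.2
    intro y hy
    have := hx ⟨y, hy⟩
    rw [QuadraticMap.polarBilin_apply_apply, polar_resQ] at this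
    rw [QuadraticMap.polarBilin_apply_apply]
    exact this
  refine ⟨hleft, ?_⟩
  intro y hy
  apply hleft
  intro x
  have := hy x
  rw [QuadraticMap.polarBilin_apply_apply, QuadraticMap.polar_comm] at this
  rw [QuadraticMap.polarBilin_apply_apply]
  exact this

/-- `PlusOn` for a subspace of even dimension is hyperbolicity of the restricted form -/
theorem plusOn_iff_isHyp [FiniteDimensional F V] (Q : QuadraticForm F V) (W : Submodule F V)
    (he : Even (finrank F W)) : PlusOn Q W ↔ IsHyp (resQ Q W) := by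
  constructor
  · rintro ⟨U, hUW, hts, hd⟩
    refine ⟨U.comap W.subtype, ?_, ?_⟩
    · intro u hu
      rw [resQ_apply]
      exact hts _ hu
    · rw [(Submodule.comapSubtypeEquivOfLe hUW).finrank_eq, hd]
  · rintro ⟨U', hts, hd⟩
    obtain ⟨n, hn⟩ := he
    have hle : n ≤ finrank F U' := by omega
    obtain ⟨f, hf⟩ := exists_linearIndependent_of_le_finrank (R := F) (M := U') hle
    set U'' : Submodule F U' := Submodule.span F (Set.range f) with hU''
    have hfr : finrank F U'' = n := by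
      rw [hU'', finrank_span_eq_card hf, Fintype.card_fin]
    have hinj : Function.Injective (W.subtype.comp U'.subtype) := by
      intro x y hxy
      exact Subtype.ext (Subtype.ext hxy)
    refine ⟨U''.map (W.subtype.comp U'.subtype), ?_, ?_, ?_⟩
    · rintro _ ⟨x, -, rfl⟩
      exact (x : W).2
    · rintro _ ⟨x, -, rfl⟩
      have := hts (x : W) x.2
      rw [resQ_apply] at this
      exact this
    · rw [← (Submodule.equivMapOfInjective _ hinj U'').finrank_eq, hfr, hn]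
      ring

/-- the orthogonal sum of two subspaces meeting trivially is the product space -/
theorem iso_sup (Q : QuadraticForm F V) (W₁ W₂ : Submodule F V) (horth : Orth Q W₁ W₂)
    (hdisj : W₁ ⊓ W₂ = ⊥) :
    Iso ((resQ Q W₁).prod (resQ Q W₂)) (resQ Q (W₁ ⊔ W₂)) := by
  set g : (W₁ × W₂) →ₗ[F] ↥(W₁ ⊔ W₂) :=
    (Submodule.inclusion (le_sup_left : W₁ ≤ W₁ ⊔ W₂)).coprod
      (Submodule.inclusion (le_sup_right : W₂ ≤ W₁ ⊔ W₂)) with hg
  have hgv : ∀ v : W₁ × W₂, ((g v : ↥(W₁ ⊔ W₂)) : V) = (v.1 : V) + (v.2 : V) := by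
    intro v
    rw [hg, LinearMap.coprod_apply]
    rfl
  have hinj : Function.Injective g := by
    rw [← LinearMap.ker_eq_bot, LinearMap.ker_eq_bot']
    intro v hv
    have h0 : (v.1 : V) + (v.2 : V) = 0 := by
      rw [← hgv, hv]
      rfl
    have h1 : (v.1 : V) ∈ W₁ ⊓ W₂ := by
      refine ⟨v.1.2, ?_⟩
      have : (v.1 : V) = -(v.2 : V) := eq_neg_of_add_eq_zero_left h0
      rw [this]
      exact W₂.neg_mem v.2.2
    rw [hdisj, Submodule.mem_bot] at h1
    have h2 : (v.2 : V) = 0 := by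
      rw [h1, zero_add] at h0
      exact h0
    exact Prod.ext (Subtype.ext h1) (Subtype.ext h2)
  have hsurj : Function.Surjective g := by
    rintro ⟨z, hz⟩
    obtain ⟨x, hx, y, hy, rfl⟩ := Submodule.mem_sup.1 hz
    refine ⟨(⟨x, hx⟩, ⟨y, hy⟩), ?_⟩
    apply Subtype.ext
    rw [hgv]
  refine ⟨LinearEquiv.ofBijective g (And.intro hinj hsurj), fun v => ?_⟩
  show resQ Q (W₁ ⊔ W₂) (g v) = _
  rw [resQ_apply, hgv, QuadraticMap.prod_apply, resQ_apply, resQ_apply]
  have hp := horth v.1 v.1.2 v.2 v.2.2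
  have : Q ((v.1 : V) + (v.2 : V)) =
      Q (v.1 : V) + Q (v.2 : V) + QuadraticMap.polar (⇑Q) (v.1 : V) (v.2 : V) := by
    simp only [QuadraticMap.polar]
    ring
  rw [this, hp, add_zero]

end sub

/-- TMUL: the type of an orthogonal sum -/
theorem TMUL {F : Type u} [Field F] [Fintype F] {V : Type u} [AddCommGroup V] [Module F V]
    [FiniteDimensional F V] (Q : QuadraticForm F V) (W₁ W₂ : Submodule F V)
    (h₁ : NDOn (QuadraticMap.polarBilin Q) W₁) (h₂ : NDOn (QuadraticMap.polarBilin Q) W₂)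
    (horth : Orth Q W₁ W₂) (he₁ : Even (finrank F W₁)) (he₂ : Even (finrank F W₂)) :
    PlusOn Q (W₁ ⊔ W₂) ↔ (PlusOn Q W₁ ↔ PlusOn Q W₂) := by
  have hdisj : W₁ ⊓ W₂ = ⊥ := by
    rw [eq_bot_iff]
    rintro x ⟨hx1, hx2⟩
    rw [Submodule.mem_bot]
    apply h₁ x hx1
    intro y hy
    have := horth y hy x hx2
    rw [QuadraticMap.polarBilin_apply_apply, QuadraticMap.polar_comm]
    exact this
  have hiso := iso_sup Q W₁ W₂ horth hdisj
  have hfr : finrank F ↥(W₁ ⊔ W₂) = finrank F W₁ + finrank F W₂ := by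
    rw [← hiso.finrank_eq, Module.finrank_prod]
  obtain ⟨a, ha⟩ := he₁
  obtain ⟨b, hb⟩ := he₂
  have he : Even (finrank F ↥(W₁ ⊔ W₂)) := ⟨a + b, by rw [hfr, ha, hb]; ring⟩
  rw [plusOn_iff_isHyp Q _ he, plusOn_iff_isHyp Q W₁ ⟨a, ha⟩, plusOn_iff_isHyp Q W₂ ⟨b, hb⟩]
  have hC := isHyp_prod_iff (resQ Q W₁) (resQ Q W₂) (resQ_nondeg Q W₁ h₁) (resQ_nondeg Q W₂ h₂)
    a b (by rw [ha]; ring) (by rw [hb]; ring)
  rw [← hC]
  exact ⟨fun h => h.of_iso hiso.symm, fun h => h.of_iso hiso⟩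

end Cfsg.Agent.Lib.Helper85_OrthND_TMUL
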