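import Mathlib
import Cfsg.Prelude.Def_GeometricClasses
import Cfsg.Prelude.Def_Classical
import Cfsg.Agent.Lib.Helper13_OrthR2Defs
import Cfsg.Agent.Lib.Helper85_OrthND_TMUL

/-!
# ORTHR2 package G1 (helper10, for helper13): the type of an orthogonal sum

Built on helper85's type calculus `Helper85_OrthND_TMUL.TMUL`.
-/

set_option autoImplicit false
open scoped MatrixGroups

namespace Cfsg.Agent.Lib.Helper10_OrthR2_G1

open Matrix Module Cfsg.Agent.Lib.Helper13_OrthR2Defs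

variable {ι : Type} [Fintype ι] [DecidableEq ι] {F : Type*} [Field F]

omit [Fintype ι] [DecidableEq ι] in
/-- the Prelude nondegeneracy gives the `NDOn` of helper40 -/
theorem ndOn_of_nd (Q : QuadraticForm F (ι → F)) (W : Submodule F (ι → F)) (h : ND Q W) :
    Cfsg.Agent.Lib.Helper40_SpBasic.NDOn (QuadraticMap.polarBilin Q) W := by
  intro x hx hzero
  by_contra hx0
  obtain ⟨v, hv, hne⟩ := ((nd_iff Q W).1 h) x hx hx0
  apply hne
  have := hzero v hv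
  rwa [QuadraticMap.polarBilin_apply_apply] at this

omit [Fintype ι] [DecidableEq ι] in
/-- orthogonal nondegenerate subspaces meet trivially -/
theorem inf_eq_bot (Q : QuadraticForm F (ι → F)) (W₁ W₂ : Submodule F (ι → F))
    (horth : ∀ u ∈ W₁, ∀ v ∈ W₂, QuadraticMap.polar (⇑Q) u v = 0) (hnd₁ : ND Q W₁) :
    W₁ ⊓ W₂ = ⊥ := by
  rw [eq_bot_iff]
  rintro x ⟨hx1, hx2⟩
  rw [Submodule.mem_bot]
  by_contra hx0
  obtain ⟨v, hv, hne⟩ := ((nd_iff Q W₁).1 hnd₁) x hx1 hx0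
  apply hne
  rw [QuadraticMap.polar_comm]
  exact horth v hv x hx2

omit [Fintype ι] [DecidableEq ι] in
/-- the orthogonal sum of two nondegenerate subspaces is nondegenerate -/
theorem nd_sup (Q : QuadraticForm F (ι → F)) (W₁ W₂ : Submodule F (ι → F))
    (horth : ∀ u ∈ W₁, ∀ v ∈ W₂, QuadraticMap.polar (⇑Q) u v = 0)
    (hnd₁ : ND Q W₁) (hnd₂ : ND Q W₂) : ND Q (W₁ ⊔ W₂) := by
  rw [nd_iff]
  intro w hw hw0
  obtain ⟨w₁, hw₁, w₂, hw₂, rfl⟩ := Submodule.mem_sup.1 hw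
  by_cases h1 : w₁ = 0
  · have h2 : w₂ ≠ 0 := by
      intro h2
      apply hw0
      rw [h1, h2, add_zero]
    obtain ⟨v, hv, hne⟩ := ((nd_iff Q W₂).1 hnd₂) w₂ hw₂ h2
    refine ⟨v, Submodule.mem_sup_right hv, ?_⟩
    rw [QuadraticMap.polar_add_left, horth w₁ hw₁ v hv, zero_add]
    exact hne
  · obtain ⟨v, hv, hne⟩ := ((nd_iff Q W₁).1 hnd₁) w₁ hw₁ h1
    refine ⟨v, Submodule.mem_sup_left hv, ?_⟩
    have h0 : QuadraticMap.polar (⇑Q) w₂ v = 0 := by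
      rw [QuadraticMap.polar_comm]
      exact horth v hv w₂ hw₂
    rw [QuadraticMap.polar_add_left, h0, add_zero]
    exact hne

/-- G1 -/
theorem G1 [Fintype F] (h2 : (2 : F) ≠ 0) (Q : QuadraticForm F (ι → F))
    (W₁ W₂ : Submodule F (ι → F))
    (horth : ∀ u ∈ W₁, ∀ v ∈ W₂, QuadraticMap.polar (⇑Q) u v = 0)
    (hnd₁ : ND Q W₁) (hnd₂ : ND Q W₂) :
    ND Q (W₁ ⊔ W₂) ∧ finrank F ↥(W₁ ⊔ W₂) = finrank F W₁ + finrank F W₂ ∧
      (Even (finrank F W₁) → Even (finrank F W₂) →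
        (Plus Q (W₁ ⊔ W₂) ↔ (Plus Q W₁ ↔ Plus Q W₂))) := by
  have _ := h2
  refine ⟨nd_sup Q W₁ W₂ horth hnd₁ hnd₂, ?_, ?_⟩
  · have h := Submodule.finrank_sup_add_finrank_inf_eq W₁ W₂
    rw [inf_eq_bot Q W₁ W₂ horth hnd₁, finrank_bot, add_zero] at h
    exact h
  · intro he₁ he₂
    exact Cfsg.Agent.Lib.Helper85_OrthND_TMUL.TMUL Q W₁ W₂ (ndOn_of_nd Q W₁ hnd₁)
      (ndOn_of_nd Q W₂ hnd₂) horth he₁ he₂

end Cfsg.Agent.Lib.Helper10_OrthR2_G1
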