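import Mathlib
import Cfsg.Prelude.Def_GeometricClasses
import Cfsg.Prelude.Def_Classical
import Cfsg.Agent.Lib.Helper13_OrthR2Defs
import Cfsg.Agent.Lib.Helper10_OrthR2_G1

/-!
# ORTHR2 package B1 (helper10, for helper13)

`x` an isometry with `x * x = -1` over a finite field in which `-1` is not a square: every invariant
subspace has even dimension, and an invariant nondegenerate subspace is of plus type iff its
dimension is divisible by four.
-/

set_option autoImplicit false
open scoped MatrixGroups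

namespace Cfsg.Agent.Lib.Helper10_OrthR2_B1

open Matrix Module Cfsg.Agent.Lib.Helper13_OrthR2Defs

variable {ι : Type} [Fintype ι] [DecidableEq ι] {F : Type*} [Field F]

section basics

variable (Q : QuadraticForm F (ι → F)) (x : Matrix ι ι F)

omit [DecidableEq ι] in
/-- an isometry preserves the polar form -/
theorem polar_mulVec (hiso : ∀ v : ι → F, Q (x *ᵥ v) = Q v) (u v : ι → F) :
    QuadraticMap.polar (⇑Q) (x *ᵥ u) (x *ᵥ v) = QuadraticMap.polar (⇑Q) u v := by
  simp only [QuadraticMap.polar, ← Matrix.mulVec_add, hiso]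

/-- `x (x v) = -v` -/
theorem mulVec_mulVec_self (hxx : x * x = -1) (v : ι → F) : x *ᵥ (x *ᵥ v) = -v := by
  rw [Matrix.mulVec_mulVec, hxx, Matrix.neg_mulVec, Matrix.one_mulVec]

/-- `v ⊥ x v` -/
theorem polar_self_mulVec (h2 : (2 : F) ≠ 0) (hiso : ∀ v : ι → F, Q (x *ᵥ v) = Q v)
    (hxx : x * x = -1) (v : ι → F) : QuadraticMap.polar (⇑Q) v (x *ᵥ v) = 0 := by
  have h1 : QuadraticMap.polar (⇑Q) v (x *ᵥ v) = - QuadraticMap.polar (⇑Q) v (x *ᵥ v) := by
    conv_lhs => rw [← polar_mulVec Q x hiso, mulVec_mulVec_self x hxx, QuadraticMap.polar_neg_right,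
      QuadraticMap.polar_comm]
  have h3 : (2 : F) * QuadraticMap.polar (⇑Q) v (x *ᵥ v) = 0 := by linear_combination h1
  rcases mul_eq_zero.1 h3 with h | h
  · exact absurd h h2
  · exact h

/-- the form on the plane `⟨v, x v⟩` -/
theorem map_plane (h2 : (2 : F) ≠ 0) (hiso : ∀ v : ι → F, Q (x *ᵥ v) = Q v)
    (hxx : x * x = -1) (v : ι → F) (a b : F) :
    Q (a • v + b • x *ᵥ v) = (a ^ 2 + b ^ 2) * Q v := by
  have h := polar_self_mulVec Q x h2 hiso hxx v
  have e : Q (a • v + b • x *ᵥ v) = Q (a • v) + Q (b • x *ᵥ v)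
      + QuadraticMap.polar (⇑Q) (a • v) (b • x *ᵥ v) := by
    simp only [QuadraticMap.polar]; ring
  rw [e, QuadraticMap.polar_smul_left, QuadraticMap.polar_smul_right, h, QuadraticMap.map_smul,
    QuadraticMap.map_smul, hiso]
  simp only [smul_eq_mul]
  ring

/-- the plane `⟨v, x v⟩` is anisotropic when `-1` is not a square -/
theorem plane_aniso (h2 : (2 : F) ≠ 0) (hiso : ∀ v : ι → F, Q (x *ᵥ v) = Q v)
    (hxx : x * x = -1) (hm1 : ¬ IsSquare (-1 : F)) (v : ι → F) (hv : Q v ≠ 0) (a b : F)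
    (h : Q (a • v + b • x *ᵥ v) = 0) : a = 0 ∧ b = 0 := by
  rw [map_plane Q x h2 hiso hxx] at h
  have hab : a ^ 2 + b ^ 2 = 0 := by
    rcases mul_eq_zero.1 h with h | h
    · exact h
    · exact absurd h hv
  have hb : b = 0 := by
    by_contra hb
    apply hm1
    refine ⟨a / b, ?_⟩
    field_simp
    linear_combination -hab
  refine ⟨?_, hb⟩
  rw [hb] at hab
  have : a ^ 2 = 0 := by linear_combination hab
  exact pow_eq_zero_iff (two_ne_zero) |>.1 this

/-- invariant subspaces have even dimension -/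
theorem even_finrank_of_inv (hxx : x * x = -1) (hm1 : ¬ IsSquare (-1 : F))
    (W : Submodule F (ι → F)) (hW : Inv x W) : Even (finrank F W) := by
  have hW' : ∀ w ∈ W, Matrix.toLin' x w ∈ W := by
    intro w hw
    rw [Matrix.toLin'_apply]
    exact (inv_iff x W).1 hW w hw
  obtain ⟨T, hT⟩ : ∃ T : W →ₗ[F] W, T = (Matrix.toLin' x).restrict hW' := ⟨_, rfl⟩
  have hTT : T * T = (-1 : F) • (1 : W →ₗ[F] W) := by
    apply LinearMap.ext
    intro w
    apply Subtype.ext
    rw [hT, Module.End.mul_apply, LinearMap.coe_restrict_apply, LinearMap.coe_restrict_apply,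
      Matrix.toLin'_apply, Matrix.toLin'_apply, mulVec_mulVec_self x hxx]
    simp
  have hdet := congrArg LinearMap.det hTT
  rw [map_mul, LinearMap.det_smul, map_one, mul_one] at hdet
  by_contra hodd
  rw [Nat.not_even_iff_odd] at hodd
  rw [hodd.neg_one_pow] at hdet
  exact hm1 ⟨_, hdet.symm⟩

end basics

section main

variable [Fintype F] (h2 : (2 : F) ≠ 0) (Q : QuadraticForm F (ι → F)) (x : Matrix ι ι F)
  (hiso : ∀ v : ι → F, Q (x *ᵥ v) = Q v) (hxx : x * x = -1) (hm1 : ¬ IsSquare (-1 : F))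

omit [Fintype ι] [DecidableEq ι] [Fintype F] in
/-- a nonzero nondegenerate subspace contains a nonsingular vector -/
theorem exists_nonsingular (W : Submodule F (ι → F)) (hnd : ND Q W) (hbot : W ≠ ⊥) :
    ∃ v ∈ W, Q v ≠ 0 := by
  obtain ⟨w, hw, hw0⟩ := Submodule.exists_mem_ne_zero_of_ne_bot hbot
  obtain ⟨u, hu, hne⟩ := ((nd_iff Q W).1 hnd) w hw hw0
  by_contra hcon
  push Not at hcon
  apply hne
  simp only [QuadraticMap.polar]
  rw [hcon _ (W.add_mem hw hu), hcon _ hw, hcon _ hu]
  ring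

include h2 hiso hxx hm1 in
/-- the main induction for `B1` -/
theorem plus_iff_aux : ∀ (n : ℕ) (W : Submodule F (ι → F)), finrank F W = n → Inv x W → ND Q W →
    (Plus Q W ↔ 4 ∣ n) := by
  intro n
  induction n using Nat.strong_induction_on with
  | _ n ih =>
  intro W hn hW hnd
  by_cases hbot : W = ⊥
  · subst hbot
    rw [finrank_bot] at hn
    subst hn
    refine ⟨fun _ => dvd_zero 4, fun _ => ⟨⊥, le_refl _, ?_, ?_⟩⟩
    · intro w hw
      rw [Submodule.mem_bot] at hw
      rw [hw, map_zero]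
    · simp
  · obtain ⟨v, hvW, hv⟩ := exists_nonsingular Q W hnd hbot
    have hWx : ∀ w ∈ W, x *ᵥ w ∈ W := (inv_iff x W).1 hW
    have hxvW : x *ᵥ v ∈ W := hWx v hvW
    have hvxv : QuadraticMap.polar (⇑Q) v (x *ᵥ v) = 0 := polar_self_mulVec Q x h2 hiso hxx v
    have hxvv : QuadraticMap.polar (⇑Q) (x *ᵥ v) v = 0 := by rw [QuadraticMap.polar_comm]; exact hvxv
    have hpvv : QuadraticMap.polar (⇑Q) v v = 2 * Q v :=
      Cfsg.Agent.Lib.Helper44_QuadClass.polar_self' Q v
    have hpxx : QuadraticMap.polar (⇑Q) (x *ᵥ v) (x *ᵥ v) = 2 * Q v := by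
      rw [polar_mulVec Q x hiso, hpvv]
    have h2c : (2 : F) * Q v ≠ 0 := mul_ne_zero h2 hv
    -- the plane
    obtain ⟨P, hPdef⟩ : ∃ P : Submodule F (ι → F), P = Submodule.span F {v, x *ᵥ v} := ⟨_, rfl⟩
    have hPmem : ∀ z, z ∈ P ↔ ∃ a b : F, a • v + b • x *ᵥ v = z := by
      intro z
      rw [hPdef, Submodule.mem_span_pair]
    have hPW : P ≤ W := by
      rw [hPdef, Submodule.span_le]
      rintro z (rfl | rfl)
      · exact hvW
      · exact hxvW
    have hPinv : Inv x P := by
      rw [inv_iff]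
      intro z hz
      obtain ⟨a, b, rfl⟩ := (hPmem z).1 hz
      rw [hPmem]
      refine ⟨-b, a, ?_⟩
      rw [Matrix.mulVec_add, Matrix.mulVec_smul, Matrix.mulVec_smul, mulVec_mulVec_self x hxx]
      module
    have hPani : ∀ z ∈ P, Q z = 0 → z = 0 := by
      intro z hz hQz
      obtain ⟨a, b, rfl⟩ := (hPmem z).1 hz
      obtain ⟨ha, hb⟩ := plane_aniso Q x h2 hiso hxx hm1 v hv a b hQz
      rw [ha, hb, zero_smul, zero_smul, add_zero]
    have hPnd : ND Q P := by
      rw [nd_iff]
      intro z hz hz0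
      refine ⟨z, hz, ?_⟩
      rw [Cfsg.Agent.Lib.Helper44_QuadClass.polar_self' Q z]
      exact mul_ne_zero h2 (fun h => hz0 (hPani z hz h))
    have hPfr : finrank F P = 2 := by
      have hli : LinearIndependent F ![v, x *ᵥ v] := by
        rw [LinearIndependent.pair_iff]
        intro a b hab
        have : Q (a • v + b • x *ᵥ v) = 0 := by rw [hab, map_zero]
        exact plane_aniso Q x h2 hiso hxx hm1 v hv a b this
      have := finrank_span_eq_card hli
      rw [Fintype.card_fin] at this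
      have hrange : Set.range ![v, x *ᵥ v] = {v, x *ᵥ v} := by
        ext z
        simp only [Matrix.range_cons, Matrix.range_empty, Set.union_empty, Set.mem_union,
          Set.mem_singleton_iff, Set.mem_insert_iff]
      rw [hrange] at this
      rw [hPdef]
      exact this
    have hPnot : ¬ Plus Q P := by
      rintro ⟨U, hUP, hUts, hUfr⟩
      have hU1 : finrank F U = 1 := by omega
      have hUbot : U ≠ ⊥ := by
        intro h
        rw [h, finrank_bot] at hU1
        omega
      obtain ⟨u, hu, hu0⟩ := Submodule.exists_mem_ne_zero_of_ne_bot hUbot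
      exact hu0 (hPani u (hUP hu) (hUts u hu))
    -- the complement
    obtain ⟨W', hW'def⟩ : ∃ W' : Submodule F (ι → F), W' = W ⊓
        (LinearMap.ker (QuadraticMap.polarBilin Q v) ⊓
          LinearMap.ker (QuadraticMap.polarBilin Q (x *ᵥ v))) := ⟨_, rfl⟩
    have hW'mem : ∀ w, w ∈ W' ↔ w ∈ W ∧ QuadraticMap.polar (⇑Q) v w = 0 ∧
        QuadraticMap.polar (⇑Q) (x *ᵥ v) w = 0 := by
      intro w
      rw [hW'def, Submodule.mem_inf, Submodule.mem_inf, LinearMap.mem_ker, LinearMap.mem_ker,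
        QuadraticMap.polarBilin_apply_apply, QuadraticMap.polarBilin_apply_apply]
    have hW'W : W' ≤ W := fun w hw => ((hW'mem w).1 hw).1
    have hW'inv : Inv x W' := by
      rw [inv_iff]
      intro w hw
      obtain ⟨hwW, h1, h2'⟩ := (hW'mem w).1 hw
      rw [hW'mem]
      refine ⟨hWx w hwW, ?_, ?_⟩
      · have : QuadraticMap.polar (⇑Q) v (x *ᵥ w)
            = QuadraticMap.polar (⇑Q) (x *ᵥ v) (x *ᵥ (x *ᵥ w)) := (polar_mulVec Q x hiso _ _).symm
        rw [this, mulVec_mulVec_self x hxx, QuadraticMap.polar_neg_right, h2', neg_zero]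
      · rw [polar_mulVec Q x hiso, h1]
    have horth : ∀ u ∈ P, ∀ w ∈ W', QuadraticMap.polar (⇑Q) u w = 0 := by
      intro u hu w hw
      obtain ⟨a, b, rfl⟩ := (hPmem u).1 hu
      obtain ⟨-, h1, h2'⟩ := (hW'mem w).1 hw
      rw [QuadraticMap.polar_add_left, QuadraticMap.polar_smul_left, QuadraticMap.polar_smul_left,
        h1, h2']
      simp
    have hsup : P ⊔ W' = W := by
      apply le_antisymm (sup_le hPW hW'W)
      intro w hw
      obtain ⟨α, hα⟩ : ∃ α : F, α = QuadraticMap.polar (⇑Q) v w / (2 * Q v) := ⟨_, rfl⟩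
      obtain ⟨β, hβ⟩ : ∃ β : F, β = QuadraticMap.polar (⇑Q) (x *ᵥ v) w / (2 * Q v) := ⟨_, rfl⟩
      have hα' : α * (2 * Q v) = QuadraticMap.polar (⇑Q) v w := by
        rw [hα, div_mul_cancel₀ _ h2c]
      have hβ' : β * (2 * Q v) = QuadraticMap.polar (⇑Q) (x *ᵥ v) w := by
        rw [hβ, div_mul_cancel₀ _ h2c]
      have hp : α • v + β • x *ᵥ v ∈ P := (hPmem _).2 ⟨α, β, rfl⟩
      have hw' : w - (α • v + β • x *ᵥ v) ∈ W' := by
        rw [hW'mem]
        refine ⟨W.sub_mem hw (hPW hp), ?_, ?_⟩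
        · rw [QuadraticMap.polar_sub_right, QuadraticMap.polar_add_right,
            QuadraticMap.polar_smul_right, QuadraticMap.polar_smul_right, hvxv, hpvv]
          linear_combination (-1 : F) * hα'
        · rw [QuadraticMap.polar_sub_right, QuadraticMap.polar_add_right,
            QuadraticMap.polar_smul_right, QuadraticMap.polar_smul_right, hxvv, hpxx]
          linear_combination (-1 : F) * hβ'
      have : w = (α • v + β • x *ᵥ v) + (w - (α • v + β • x *ᵥ v)) := by abel
      rw [this]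
      exact Submodule.add_mem_sup hp hw'
    have hW'nd : ND Q W' := by
      rw [nd_iff]
      intro w hw hw0
      obtain ⟨u, hu, hne⟩ := ((nd_iff Q W).1 hnd) w (hW'W hw) hw0
      rw [← hsup] at hu
      obtain ⟨p, hp, u', hu', rfl⟩ := Submodule.mem_sup.1 hu
      refine ⟨u', hu', ?_⟩
      rw [QuadraticMap.polar_add_right] at hne
      have : QuadraticMap.polar (⇑Q) w p = 0 := by
        rw [QuadraticMap.polar_comm]
        exact horth p hp w hw
      rwa [this, zero_add] at hne
    obtain ⟨-, hfr, hplus⟩ := Cfsg.Agent.Lib.Helper10_OrthR2_G1.G1 h2 Q P W' horth hPnd hW'nd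
    rw [hsup, hPfr, hn] at hfr
    have hev' : Even (finrank F W') := even_finrank_of_inv x hxx hm1 W' hW'inv
    have hplus' := hplus (by rw [hPfr]; exact even_two) hev'
    rw [hsup] at hplus'
    have hIH := ih (finrank F W') (by omega) W' rfl hW'inv hW'nd
    rw [hplus', hIH]
    obtain ⟨k, hk⟩ := hev'
    constructor
    · intro h
      have h4 : ¬ 4 ∣ finrank F W' := fun h4 => hPnot (h.2 h4)
      omega
    · intro h4
      constructor
      · intro hP
        exact absurd hP hPnot
      · intro h4'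
        omega

include h2 hiso hxx hm1 in
/-- B1 -/
theorem B1
    (hQ : (QuadraticMap.polarBilin Q).Nondegenerate) :
    (∀ W : Submodule F (ι → F), Inv x W → Even (finrank F W)) ∧
    (∀ W : Submodule F (ι → F), Inv x W → ND Q W → (Plus Q W ↔ 4 ∣ finrank F W)) := by
  have _ := hQ
  exact ⟨fun W hW => even_finrank_of_inv x hxx hm1 W hW,
    fun W hW hnd => plus_iff_aux h2 Q x hiso hxx hm1 _ W rfl hW hnd⟩

end main

end Cfsg.Agent.Lib.Helper10_OrthR2_B1
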