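import Mathlib

/-!
# Definitions for S4085 (power graph determines the prime graph)

`Cmp x y` is adjacency-or-equality in the (undirected) power graph of a group.
For an arbitrary relation `R` on a type `V` (thought of as a reflexive symmetric graph):
`Tw R x y`  : `x` and `y` are closed twins (same closed neighbourhood);
`cls R x`   : the size of the twin class of `x`;
`Dom R x`   : `x` is joined to every vertex;
`Lo R x`    : the neighbours of `x` whose twin class is strictly smaller than that of `x`;
`PhiOdd R N`, `PhiTwo R q` : the two graph-theoretic criteria used to detect elements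
of order `N = p * q` (`p, q` odd) and `2 * q`.
-/

namespace Cfsg.Agent.Lib.Helper56_PGDefs

/-- Comparability in a group: one of `x`, `y` is a power of the other. -/
def Cmp {G : Type*} [Group G] (x y : G) : Prop :=
  x ∈ Subgroup.zpowers y ∨ y ∈ Subgroup.zpowers x

section rel

variable {V : Type*} (R : V → V → Prop)

/-- Closed twins. -/
def Tw (x y : V) : Prop := ∀ z, R x z ↔ R y z

/-- Size of the twin class. -/
noncomputable def cls (x : V) : ℕ := Nat.card {y : V // Tw R x y}

/-- Dominating vertex. -/
def Dom (x : V) : Prop := ∀ z, R x z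

/-- Neighbours with strictly smaller twin class. -/
def Lo (x : V) : Set V := {y | R x y ∧ cls R y < cls R x}

/-- Criterion for an element of odd order `N = p * q`. -/
def PhiOdd (N : ℕ) : Prop :=
  ∃ x, (∃ a ∈ Lo R x, ∃ b ∈ Lo R x, ¬ R a b) ∧ cls R x + Nat.card (Lo R x) = N

/-- Criterion for an element of order `2 * q`. -/
def PhiTwo (q : ℕ) : Prop :=
  ∃ x t y, ¬ Dom R t ∧ cls R t = 1 ∧ R t x ∧ cls R x = q - 1 ∧ Nat.card (Lo R x) = 2 ∧
    R x y ∧ ¬ R y t ∧ cls R y = q - 1

end rel

/-- `n` has at least two distinct prime divisors. -/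
def NPP (n : ℕ) : Prop := ∃ r s : ℕ, r.Prime ∧ s.Prime ∧ r ≠ s ∧ r ∣ n ∧ s ∣ n

end Cfsg.Agent.Lib.Helper56_PGDefs
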