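import Mathlib
import Cfsg.Agent.Lib.Helper56_PGDefs

/-!
# S4085 package COUNTB, conditional form (helper10 for helper56): `Lo x` for `x` of
non-prime-power order, given the statements of L2 (`cls_of_npp`), L3 (`cls_of_mem_zpowers_npp`),
L6 (`lo_subset_zpowers`) and COUNTA (`card_totient_lt`) as hypotheses.
-/

namespace Cfsg.Agent.Lib.Helper10_PG_COUNTBa
open Cfsg.Agent.Lib.Helper56_PGDefs

variable {G : Type*} [Group G] [Finite G]

omit [Finite G] in
theorem lo_eq_of_npp_of
    (hL2 : ∀ {x : G}, NPP (orderOf x) → cls (Cmp (G := G)) x = Nat.totient (orderOf x))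
    (hL3 : ∀ {x y : G}, NPP (orderOf x) → y ∈ Subgroup.zpowers x →
      cls (Cmp (G := G)) y = Nat.totient (orderOf y))
    (hL6 : ∀ x : G, Lo (Cmp (G := G)) x ⊆ (Subgroup.zpowers x : Set G))
    {x : G} (hx : NPP (orderOf x)) :
    Lo (Cmp (G := G)) x =
      {y | y ∈ Subgroup.zpowers x ∧ Nat.totient (orderOf y) < Nat.totient (orderOf x)} := by
  ext y
  constructor
  · intro hy
    have hyx : y ∈ Subgroup.zpowers x := hL6 x hy
    refine ⟨hyx, ?_⟩
    have h := hy.2
    rwa [hL2 hx, hL3 hx hyx] at h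
  · rintro ⟨hyx, hlt⟩
    refine ⟨Or.inr hyx, ?_⟩
    rw [hL2 hx, hL3 hx hyx]
    exact hlt

omit [Finite G] in
theorem card_lo_of_npp_of
    (hL2 : ∀ {x : G}, NPP (orderOf x) → cls (Cmp (G := G)) x = Nat.totient (orderOf x))
    (hL3 : ∀ {x y : G}, NPP (orderOf x) → y ∈ Subgroup.zpowers x →
      cls (Cmp (G := G)) y = Nat.totient (orderOf y))
    (hL6 : ∀ x : G, Lo (Cmp (G := G)) x ⊆ (Subgroup.zpowers x : Set G))
    (hA : ∀ x : G, Nat.card {y : G // y ∈ Subgroup.zpowers x ∧
        Nat.totient (orderOf y) < Nat.totient (orderOf x)} =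
      orderOf x - Nat.totient (orderOf x) -
        (if orderOf x % 4 = 2 then Nat.totient (orderOf x) else 0))
    {x : G} (hx : NPP (orderOf x)) :
    Nat.card (Lo (Cmp (G := G)) x) =
      orderOf x - Nat.totient (orderOf x) -
        (if orderOf x % 4 = 2 then Nat.totient (orderOf x) else 0) := by
  rw [lo_eq_of_npp_of hL2 hL3 hL6 hx]
  exact hA x

end Cfsg.Agent.Lib.Helper10_PG_COUNTBa
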