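import Mathlib
import Cfsg.Agent.Lib.Helper56_PGDefs

/-!
# S4085 package CONVEX (architect helper56)

`tw_convex`: twin classes of `p`-elements of the power graph are convex.  Self-contained: the
comparability of two elements of a cyclic group of prime power order is proved here
(`mem_zpowers_of_orderOf_dvd`, `cmp_of_mem_zpowers_primePow`).
-/

namespace Cfsg.Agent.Lib.Helper42_PG_CONVEX
open Cfsg.Agent.Lib.Helper56_PGDefs

/-- in a finite cyclic group, `o(u) ∣ o(v)` implies `u ∈ ⟨v⟩` -/
theorem mem_zpowers_of_orderOf_dvd_cyc {J : Type*} [Group J] [Finite J] [IsCyclic J] {u v : J}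
    (h : orderOf u ∣ orderOf v) : u ∈ Subgroup.zpowers v := by
  classical
  let _ : Fintype J := Fintype.ofFinite J
  have hd0 : 0 < orderOf v := orderOf_pos v
  have hsub : (Subgroup.zpowers v : Set J).toFinset ⊆
      Finset.univ.filter (fun a : J => a ^ orderOf v = 1) := by
    intro w hw
    simp only [Set.mem_toFinset, SetLike.mem_coe] at hw
    obtain ⟨k, rfl⟩ := Subgroup.mem_zpowers_iff.mp hw
    simp only [Finset.mem_filter, Finset.mem_univ, true_and]
    rw [← zpow_natCast, ← zpow_mul, mul_comm, zpow_mul, zpow_natCast, pow_orderOf_eq_one, one_zpow]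
  have hcard : (Finset.univ.filter (fun a : J => a ^ orderOf v = 1)).card ≤
      ((Subgroup.zpowers v : Set J).toFinset).card := by
    calc _ ≤ orderOf v := IsCyclic.card_pow_eq_one_le hd0
      _ = _ := by
        rw [Set.toFinset_card, ← Nat.card_zpowers, Nat.card_eq_fintype_card]
        rfl
  have heq := Finset.eq_of_subset_of_card_le hsub hcard
  have hu : u ∈ Finset.univ.filter (fun a : J => a ^ orderOf v = 1) := by
    simp only [Finset.mem_filter, Finset.mem_univ, true_and]
    exact orderOf_dvd_iff_pow_eq_one.mp h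
  rw [← heq] at hu
  simpa using hu

/-- for `u v ∈ ⟨y⟩`, `o(u) ∣ o(v)` implies `u ∈ ⟨v⟩` -/
theorem mem_zpowers_of_orderOf_dvd {G : Type*} [Group G] [Finite G] {y u v : G}
    (hu : u ∈ Subgroup.zpowers y) (hv : v ∈ Subgroup.zpowers y) (h : orderOf u ∣ orderOf v) :
    u ∈ Subgroup.zpowers v := by
  have h' : orderOf (⟨u, hu⟩ : Subgroup.zpowers y) ∣ orderOf (⟨v, hv⟩ : Subgroup.zpowers y) := by
    rw [Subgroup.orderOf_mk, Subgroup.orderOf_mk]
    exact h
  obtain ⟨k, hk⟩ := Subgroup.mem_zpowers_iff.mp (mem_zpowers_of_orderOf_dvd_cyc h')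
  exact Subgroup.mem_zpowers_iff.mpr ⟨k, by simpa using congrArg Subtype.val hk⟩

/-- two elements of a cyclic group of prime power order are comparable -/
theorem cmp_of_mem_zpowers_primePow {G : Type*} [Group G] [Finite G] {y u v : G}
    (hy : IsPrimePow (orderOf y)) (hu : u ∈ Subgroup.zpowers y) (hv : v ∈ Subgroup.zpowers y) :
    Cmp u v := by
  obtain ⟨p, n, hp, -, hpn⟩ := hy
  have hp' : p.Prime := Nat.prime_iff.mpr hp
  have hou : orderOf u ∣ p ^ n := hpn ▸ orderOf_dvd_of_mem_zpowers hu
  have hov : orderOf v ∣ p ^ n := hpn ▸ orderOf_dvd_of_mem_zpowers hv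
  obtain ⟨a, -, ha⟩ := (Nat.dvd_prime_pow hp').mp hou
  obtain ⟨b, -, hb⟩ := (Nat.dvd_prime_pow hp').mp hov
  rcases le_total a b with hab | hab
  · left
    exact mem_zpowers_of_orderOf_dvd hu hv (by rw [ha, hb]; exact pow_dvd_pow p hab)
  · right
    exact mem_zpowers_of_orderOf_dvd hv hu (by rw [ha, hb]; exact pow_dvd_pow p hab)

section main
variable {G : Type*} [Group G] [Finite G] (hS : ∀ x : G, Dom (Cmp (G := G)) x → x = 1)
include hS

/-! ### CONVEX (S) — twin classes of `p`-elements are convex. -/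
theorem tw_convex {x y z : G} (hy : IsPrimePow (orderOf y)) (hxy : Tw (Cmp (G := G)) x y)
    (hxz : x ∈ Subgroup.zpowers z) (hzy : z ∈ Subgroup.zpowers y) : Tw (Cmp (G := G)) x z := by
  have _ := hS
  intro v
  constructor
  · intro hxv
    rcases (hxy v).mp hxv with hyv | hvy
    · left
      exact (Subgroup.zpowers_le.mpr hyv) hzy
    · exact cmp_of_mem_zpowers_primePow hy hzy hvy
  · rintro (hzv | hvz)
    · left
      exact (Subgroup.zpowers_le.mpr hzv) hxz
    · exact (hxy v).mpr (Or.inr ((Subgroup.zpowers_le.mpr hzy) hvz))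

end main

end Cfsg.Agent.Lib.Helper42_PG_CONVEX
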