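import Mathlib
import Cfsg.Agent.Lib.Helper56_PGDefs

/-!
helper73 — package ARITH of helper56's market for S4085 (power graphs): the arithmetic lemmas.
-/

set_option autoImplicit false
set_option linter.unusedVariables false

namespace Cfsg.Agent.Lib.Helper73_PG_ARITH
open Cfsg.Agent.Lib.Helper56_PGDefs

/-! ### ARITH (M) — arithmetic. -/
section ARITH

/-- the full `s`-part of `n` divides `d`, when `d ∣ n` is comparable with all divisors of `n` and some
prime `p ≠ s` divides `d` -/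
theorem ordProj_dvd_of_chain {n d p s : ℕ} (hp : p.Prime) (hs : s.Prime) (hps : p ≠ s)
    (hpd : p ∣ d) (h : ∀ e, e ∣ n → d ∣ e ∨ e ∣ d) : s ^ n.factorization s ∣ d := by
  rcases h _ (Nat.ordProj_dvd n s) with h1 | h1
  · exfalso
    have h2 : p ∣ s ^ n.factorization s := dvd_trans hpd h1
    have h3 : p ∣ s := hp.dvd_of_dvd_pow h2
    exact hps ((Nat.prime_dvd_prime_iff_eq hp hs).mp h3)
  · exact h1

/-- §2 Lemma 2, arithmetic core: a divisor of a non-prime-power `n` comparable (for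
divisibility) with all divisors of `n` is `1` or `n`. -/
theorem dvd_chain_npp {n d : ℕ} (hn : NPP n) (hd : d ∣ n)
    (h : ∀ e, e ∣ n → d ∣ e ∨ e ∣ d) : d = 1 ∨ d = n := by
  by_cases hd1 : d = 1
  · exact Or.inl hd1
  right
  by_cases hn0 : n = 0
  · subst hn0
    by_contra hd0
    rcases h (2 * d + 1) (dvd_zero _) with h1 | h1
    · have h2 : d ∣ 1 := by
        have h3 : d ∣ 2 * d := Dvd.intro_left 2 rfl
        exact (Nat.dvd_add_right h3).mp h1
      exact hd1 (Nat.dvd_one.mp h2)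
    · have := Nat.le_of_dvd (Nat.pos_of_ne_zero hd0) h1
      omega
  have hd0 : d ≠ 0 := fun h0 => hn0 (by rw [h0] at hd; exact zero_dvd_iff.mp hd)
  obtain ⟨r, s, hr, hs, hrs, hrn, hsn⟩ := hn
  obtain ⟨p, hp, hpd⟩ := Nat.exists_prime_and_dvd hd1
  -- a prime `s'` of `n` different from `p`
  obtain ⟨s', hs', hps', hs'n⟩ : ∃ s', s'.Prime ∧ p ≠ s' ∧ s' ∣ n := by
    by_cases hpr : p = r
    · exact ⟨s, hs, by rw [hpr]; exact hrs, hsn⟩
    · exact ⟨r, hr, hpr, hrn⟩
  have hs'd : s' ∣ d := by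
    have h1 := ordProj_dvd_of_chain hp hs' hps' hpd h
    have h2 : 0 < n.factorization s' := hs'.factorization_pos_of_dvd hn0 hs'n
    exact dvd_trans (dvd_pow_self s' (Nat.pos_iff_ne_zero.mp h2)) h1
  refine Nat.dvd_antisymm hd ?_
  rw [← Nat.factorization_prime_le_iff_dvd hn0 hd0]
  intro t ht
  have h1 : t ^ n.factorization t ∣ d := by
    by_cases hpt : p = t
    · exact ordProj_dvd_of_chain hs' ht (by rw [← hpt]; exact fun e => hps' e.symm) hs'd h
    · exact ordProj_dvd_of_chain hp ht hpt hpd h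
  exact (ht.pow_dvd_iff_le_factorization hd0).mp h1

/-- Lemma 5: `d ∣ n`, `φ d = φ n` ⇒ `d = n` or (`n = 2 d`, `d` odd).
(Use `Nat.totient_gcd_mul_totient_mul`.) -/
theorem totient_eq_of_dvd {n d : ℕ} (hn : n ≠ 0) (hd : d ∣ n)
    (h : Nat.totient d = Nat.totient n) : d = n ∨ (n = 2 * d ∧ Odd d) := by
  obtain ⟨m, rfl⟩ := hd
  have hd0 : d ≠ 0 := fun h0 => hn (by rw [h0, zero_mul])
  have hm0 : m ≠ 0 := fun h0 => hn (by rw [h0, mul_zero])
  have hg0 : 0 < d.gcd m := Nat.gcd_pos_of_pos_left m (Nat.pos_of_ne_zero hd0)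
  have key := Nat.totient_gcd_mul_totient_mul d m
  rw [← h] at key
  have hφd : 0 < Nat.totient d := Nat.totient_pos.mpr (Nat.pos_of_ne_zero hd0)
  have key2 : Nat.totient (d.gcd m) = Nat.totient m * d.gcd m := by
    have : Nat.totient d * Nat.totient (d.gcd m) = Nat.totient d * (Nat.totient m * d.gcd m) := by
      rw [mul_comm, key]; ring
    exact Nat.eq_of_mul_eq_mul_left hφd this
  have hφm : 0 < Nat.totient m := Nat.totient_pos.mpr (Nat.pos_of_ne_zero hm0)
  have hle : Nat.totient (d.gcd m) ≤ d.gcd m := Nat.totient_le _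
  have hm1 : Nat.totient m = 1 := by
    by_contra hne
    have h2 : 2 ≤ Nat.totient m := by omega
    have : 2 * d.gcd m ≤ Nat.totient m * d.gcd m := Nat.mul_le_mul_right _ h2
    omega
  rw [hm1, one_mul] at key2
  have hg1 : d.gcd m = 1 := by
    by_contra hne
    have h2 : 1 < d.gcd m := by omega
    have := Nat.totient_lt _ h2
    omega
  rcases Nat.totient_eq_one_iff.mp hm1 with rfl | rfl
  · left
    rw [mul_one]
  · right
    refine ⟨mul_comm d 2, ?_⟩
    rw [← Nat.not_even_iff_odd]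
    intro hev
    have h2 : 2 ∣ d.gcd 2 := Nat.dvd_gcd hev.two_dvd (dvd_refl 2)
    rw [hg1] at h2
    omega

/-- trichotomy -/
theorem npp_trichotomy {n : ℕ} (hn : n ≠ 0) : n = 1 ∨ IsPrimePow n ∨ NPP n := by
  by_cases h1 : n = 1
  · exact Or.inl h1
  right
  obtain ⟨p, hp, hpn⟩ := Nat.exists_prime_and_dvd h1
  by_cases hu : ∀ s : ℕ, s.Prime → s ∣ n → s = p
  · left
    rw [isPrimePow_iff_unique_prime_dvd]
    exact ⟨p, ⟨hp, hpn⟩, fun s hs => hu s hs.1 hs.2⟩
  · right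
    push Not at hu
    obtain ⟨s, hs, hsn, hsp⟩ := hu
    exact ⟨p, s, hp, hs, fun e => hsp e.symm, hpn, hsn⟩

theorem npp_not_isPrimePow {n : ℕ} (hn : NPP n) : ¬ IsPrimePow n := by
  intro h
  rw [isPrimePow_iff_unique_prime_dvd] at h
  obtain ⟨r, s, hr, hs, hrs, hrn, hsn⟩ := hn
  exact hrs (h.unique ⟨hr, hrn⟩ ⟨hs, hsn⟩)

theorem npp_of_dvd {m n : ℕ} (hm : NPP m) (h : m ∣ n) : NPP n := by
  obtain ⟨r, s, hr, hs, hrs, hrm, hsm⟩ := hm
  exact ⟨r, s, hr, hs, hrs, dvd_trans hrm h, dvd_trans hsm h⟩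

theorem npp_mul {p q : ℕ} (hp : p.Prime) (hq : q.Prime) (hpq : p ≠ q) : NPP (p * q) :=
  ⟨p, q, hp, hq, hpq, dvd_mul_right p q, dvd_mul_left q p⟩

end ARITH

end Cfsg.Agent.Lib.Helper73_PG_ARITH
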