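import Mathlib
import Cfsg.Agent.Lib.Helper56_PGDefs

/-!
S4085 package CYC (helper89, for helper56): comparability inside a cyclic subgroup is divisibility of orders;
basic facts on `Cmp`, `Tw`, `cls`.
-/

set_option linter.unusedSectionVars false

namespace Cfsg.Agent.Lib.Helper89_PG_CYC
open Cfsg.Agent.Lib.Helper56_PGDefs

section CYC
variable {G : Type*} [Group G] [Finite G]

/-- an element of `⟨x⟩` killed by `m ∣ o(x)` is a power of `x ^ (o(x) / m)` -/
theorem mem_zpowers_pow_div {x g : G} {m : ℕ} (hm : m ∣ orderOf x) (hg : g ∈ Subgroup.zpowers x)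
    (hgm : g ^ m = 1) : g ∈ Subgroup.zpowers (x ^ (orderOf x / m)) := by
  have hn : 0 < orderOf x := orderOf_pos x
  have hm0 : 0 < m := Nat.pos_of_dvd_of_pos hm hn
  rw [← mem_powers_iff_mem_zpowers] at hg
  obtain ⟨k, rfl⟩ := hg
  rw [← pow_mul] at hgm
  have h1 : orderOf x ∣ k * m := orderOf_dvd_of_pow_eq_one hgm
  have h2 : orderOf x / m * m ∣ k * m := by rwa [Nat.div_mul_cancel hm]
  have h3 : orderOf x / m ∣ k := Nat.dvd_of_mul_dvd_mul_right hm0 h2
  obtain ⟨j, rfl⟩ := h3
  change x ^ (orderOf x / m * j) ∈ Subgroup.zpowers (x ^ (orderOf x / m))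
  rw [pow_mul]
  exact Subgroup.npow_mem_zpowers _ j

/-- for `u v ∈ ⟨x⟩`: `u ∈ ⟨v⟩ ↔ o(u) ∣ o(v)`. -/
theorem mem_zpowers_iff_orderOf_dvd {x u v : G} (hu : u ∈ Subgroup.zpowers x)
    (hv : v ∈ Subgroup.zpowers x) : u ∈ Subgroup.zpowers v ↔ orderOf u ∣ orderOf v := by
  constructor
  · exact orderOf_dvd_of_mem_zpowers
  · intro h
    have hn : 0 < orderOf x := orderOf_pos x
    have hm : orderOf v ∣ orderOf x := orderOf_dvd_of_mem_zpowers hv
    have hm0 : 0 < orderOf v := orderOf_pos v
    set w := x ^ (orderOf x / orderOf v) with hw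
    have hvw : v ∈ Subgroup.zpowers w := mem_zpowers_pow_div hm hv (pow_orderOf_eq_one v)
    have huw : u ∈ Subgroup.zpowers w :=
      mem_zpowers_pow_div hm hu (orderOf_dvd_iff_pow_eq_one.mp h)
    have hle : Subgroup.zpowers v ≤ Subgroup.zpowers w := (Subgroup.zpowers_le).mpr hvw
    have hd0 : orderOf x / orderOf v ≠ 0 :=
      (Nat.div_pos (Nat.le_of_dvd hn hm) hm0).ne'
    have how : orderOf w = orderOf v := by
      rw [hw, orderOf_pow_of_dvd hd0 (Nat.div_dvd_of_dvd hm), Nat.div_div_self hm hn.ne']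
    have heq : Subgroup.zpowers v = Subgroup.zpowers w := by
      apply Subgroup.eq_of_le_of_card_ge hle
      rw [Nat.card_zpowers, Nat.card_zpowers, how]
    rw [heq]
    exact huw

/-- every divisor of `o(x)` is the order of an element of `⟨x⟩`. -/
theorem exists_mem_zpowers_orderOf_eq {x : G} {d : ℕ} (hd : d ∣ orderOf x) :
    ∃ y ∈ Subgroup.zpowers x, orderOf y = d := by
  have hn : 0 < orderOf x := orderOf_pos x
  have hd0 : 0 < d := Nat.pos_of_dvd_of_pos hd hn
  refine ⟨x ^ (orderOf x / d), Subgroup.npow_mem_zpowers _ _, ?_⟩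
  have h0 : orderOf x / d ≠ 0 := (Nat.div_pos (Nat.le_of_dvd hn hd) hd0).ne'
  rw [orderOf_pow_of_dvd h0 (Nat.div_dvd_of_dvd hd), Nat.div_div_self hd hn.ne']

/-- `Cmp` is reflexive and symmetric; `Tw` is an equivalence; `cls` is positive. -/
theorem cmp_refl (x : G) : Cmp x x := Or.inl (Subgroup.mem_zpowers x)
theorem cmp_symm {x y : G} (h : Cmp x y) : Cmp y x := Or.symm h
theorem cmp_one (x : G) : Cmp 1 x := Or.inl (Subgroup.one_mem _)
theorem cls_pos {V : Type*} [Finite V] (R : V → V → Prop) (x : V) : 0 < cls R x := by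
  unfold cls
  have : Nonempty {y : V // Tw R x y} := ⟨⟨x, fun z => Iff.rfl⟩⟩
  exact Nat.card_pos
theorem cls_eq_of_tw {V : Type*} (R : V → V → Prop) {x y : V} (h : Tw R x y) :
    cls R x = cls R y := by
  unfold cls
  refine Nat.card_congr (Equiv.subtypeEquivRight fun z => ?_)
  constructor
  · intro hxz w
    rw [← h w]
    exact hxz w
  · intro hyz w
    rw [h w]
    exact hyz w
/-- generators of the same cyclic subgroup are twins -/
theorem tw_of_zpowers_eq {x y : G} (h : Subgroup.zpowers y = Subgroup.zpowers x) :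
    Tw (Cmp (G := G)) x y := by
  intro z
  unfold Cmp
  rw [h]
  have : x ∈ Subgroup.zpowers z ↔ y ∈ Subgroup.zpowers z := by
    rw [← Subgroup.zpowers_le, ← Subgroup.zpowers_le (g := y), h]
  rw [this]
/-- so the twin class has at least `φ(o(x))` elements -/
theorem totient_le_cls (x : G) : Nat.totient (orderOf x) ≤ cls (Cmp (G := G)) x := by
  classical
  unfold cls
  set n := orderOf x with hn
  have hn0 : 0 < n := orderOf_pos x
  let S : Finset ℕ := (Finset.range n).filter (fun k => n.Coprime k)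
  have hS : S.card = Nat.totient n := (Nat.totient_eq_card_coprime n).symm
  have hgen : ∀ k ∈ S, Tw (Cmp (G := G)) x (x ^ k) := by
    intro k hk
    have hk' := (Finset.mem_filter.mp hk).2
    apply tw_of_zpowers_eq
    apply Subgroup.eq_of_le_of_card_ge
    · exact (Subgroup.zpowers_le).mpr (Subgroup.npow_mem_zpowers _ _)
    · rw [Nat.card_zpowers, Nat.card_zpowers, Nat.Coprime.orderOf_pow hk']
  let f : S → {y : G // Tw (Cmp (G := G)) x y} := fun k => ⟨x ^ (k : ℕ), hgen k k.2⟩
  have hf : Function.Injective f := by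
    intro a b hab
    have h1 : x ^ (a : ℕ) = x ^ (b : ℕ) := congrArg Subtype.val hab
    have ha : (a : ℕ) < orderOf x := Finset.mem_range.mp (Finset.mem_filter.mp a.2).1
    have hb : (b : ℕ) < orderOf x := Finset.mem_range.mp (Finset.mem_filter.mp b.2).1
    exact Subtype.ext (pow_injOn_Iio_orderOf ha hb h1)
  have h2 := Nat.card_le_card_of_injective f hf
  rw [Nat.card_eq_fintype_card, Fintype.card_coe, hS] at h2
  exact h2
end CYC

end Cfsg.Agent.Lib.Helper89_PG_CYC
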