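import Mathlib
import Cfsg.Agent.Lib.Helper56_PGDefs
import Cfsg.Agent.Lib.Helper89_PG_CYC
import Cfsg.Agent.Lib.Helper73_PG_ARITH

/-!
S4085 package L2 (helper89, for helper56): twin classes of elements of non-prime-power order.
-/

set_option linter.unusedSectionVars false

namespace Cfsg.Agent.Lib.Helper89_PG_L2
open Cfsg.Agent.Lib.Helper56_PGDefs
open Cfsg.Agent.Lib.Helper89_PG_CYC Cfsg.Agent.Lib.Helper73_PG_ARITH

section aux
variable {G : Type*} [Group G] [Finite G]

theorem not_npp_one : ¬ NPP 1 := by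
  rintro ⟨r, s, hr, -, -, hr1, -⟩
  exact hr.one_lt.ne' (Nat.dvd_one.mp hr1)

theorem tw_symm {V : Type*} {R : V → V → Prop} {x y : V} (h : Tw R x y) : Tw R y x :=
  fun z => (h z).symm

/-- `⟨y⟩ ≤ ⟨x⟩` with `o(y) = o(x)` gives equality -/
theorem zpowers_eq_of_mem_of_orderOf_eq {x y : G} (hy : y ∈ Subgroup.zpowers x)
    (ho : orderOf y = orderOf x) : Subgroup.zpowers y = Subgroup.zpowers x := by
  apply Subgroup.eq_of_le_of_card_ge ((Subgroup.zpowers_le).mpr hy)
  rw [Nat.card_zpowers, Nat.card_zpowers, ho]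

/-- the number of generators of `⟨x⟩` -/
theorem card_gen (x : G) :
    Nat.card {y : G // Subgroup.zpowers y = Subgroup.zpowers x} = Nat.totient (orderOf x) := by
  classical
  have : Fintype (Subgroup.zpowers x) := Fintype.ofFinite _
  have hcard : Fintype.card (Subgroup.zpowers x) = orderOf x := by
    rw [← Nat.card_eq_fintype_card, Nat.card_zpowers]
  have h1 := IsCyclic.card_orderOf_eq_totient (α := Subgroup.zpowers x)
    (d := orderOf x) (by rw [hcard])
  rw [← h1, ← Fintype.card_subtype, ← Nat.card_eq_fintype_card]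
  refine Nat.card_congr
    { toFun := fun y => ⟨⟨y.1, ?_⟩, ?_⟩
      invFun := fun a => ⟨a.1.1, ?_⟩
      left_inv := fun y => rfl
      right_inv := fun a => rfl }
  · have h2 : y.1 ∈ Subgroup.zpowers y.1 := Subgroup.mem_zpowers _
    have h3 := y.2
    rw [h3] at h2
    exact h2
  · have h3 := y.2
    rw [Subgroup.orderOf_mk, ← Nat.card_zpowers, h3, Nat.card_zpowers]
  · have ha := a.2
    rw [← Subgroup.orderOf_coe] at ha
    exact zpowers_eq_of_mem_of_orderOf_eq a.1.2 ha

end aux

section main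
variable {G : Type*} [Group G] [Finite G] (hS : ∀ x : G, Dom (Cmp (G := G)) x → x = 1)
include hS

/-- the core case: a twin of `x` lying in `⟨x⟩` generates `⟨x⟩` -/
theorem zpowers_eq_of_tw_of_mem {x y : G} (hx : NPP (orderOf x)) (hxy : Tw (Cmp (G := G)) x y)
    (hy : y ∈ Subgroup.zpowers x) : Subgroup.zpowers y = Subgroup.zpowers x := by
  have hd : orderOf y ∣ orderOf x := orderOf_dvd_of_mem_zpowers hy
  have hchain : ∀ e, e ∣ orderOf x → orderOf y ∣ e ∨ e ∣ orderOf y := by
    intro e he
    obtain ⟨u, hu, huo⟩ := exists_mem_zpowers_orderOf_eq he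
    have h1 : Cmp x u := Or.inr hu
    have h2 : Cmp y u := (hxy u).mp h1
    rcases h2 with h3 | h3
    · left
      rw [← huo]
      exact (mem_zpowers_iff_orderOf_dvd hy hu).mp h3
    · right
      rw [← huo]
      exact (mem_zpowers_iff_orderOf_dvd hu hy).mp h3
  rcases dvd_chain_npp hx hd hchain with h1 | h1
  · exfalso
    have hy1 : y = 1 := orderOf_eq_one_iff.mp h1
    subst hy1
    have hdom : Dom (Cmp (G := G)) x := fun z => (hxy z).mpr (cmp_one z)
    have hx1 := hS x hdom
    rw [hx1, orderOf_one] at hx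
    exact not_npp_one hx
  · exact zpowers_eq_of_mem_of_orderOf_eq hy h1

/-! ### L2 (M) — §2 Lemma 2: twin classes of elements of non-prime-power order. -/
theorem tw_iff_of_npp {x y : G} (hx : NPP (orderOf x)) :
    Tw (Cmp (G := G)) x y ↔ Subgroup.zpowers y = Subgroup.zpowers x := by
  constructor
  · intro hxy
    have h1 : Cmp y x := (hxy x).mp (cmp_refl x)
    rcases h1 with h2 | h2
    · exact zpowers_eq_of_tw_of_mem hS hx hxy h2
    · have hy : NPP (orderOf y) := npp_of_dvd hx (orderOf_dvd_of_mem_zpowers h2)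
      exact (zpowers_eq_of_tw_of_mem hS hy (tw_symm hxy) h2).symm
  · exact tw_of_zpowers_eq

theorem cls_of_npp {x : G} (hx : NPP (orderOf x)) :
    cls (Cmp (G := G)) x = Nat.totient (orderOf x) := by
  unfold cls
  rw [← card_gen x]
  exact Nat.card_congr (Equiv.subtypeEquivRight fun y => tw_iff_of_npp hS hx)

end main

end Cfsg.Agent.Lib.Helper89_PG_L2
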