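import Mathlib
import Cfsg.Agent.Lib.Helper56_PGDefs
import Cfsg.Agent.Lib.Helper89_PG_CYC
import Cfsg.Agent.Lib.Helper89_PG_L2
import Cfsg.Agent.Lib.Helper73_PG_ARITH

/-!
S4085 package L3 (helper89, for helper56): classes below an element of non-prime-power order are plain.
-/

set_option linter.unusedSectionVars false

namespace Cfsg.Agent.Lib.Helper89_PG_L3
open Cfsg.Agent.Lib.Helper56_PGDefs
open Cfsg.Agent.Lib.Helper89_PG_CYC Cfsg.Agent.Lib.Helper89_PG_L2 Cfsg.Agent.Lib.Helper73_PG_ARITH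

section arith

theorem not_pow_dvd_pow_mul {r m i k : ℕ} (hr : r.Prime) (hm : ¬ r ∣ m) (hik : i < k) :
    ¬ r ^ k ∣ r ^ i * m := by
  intro h
  have h1 : r ^ (i + 1) ∣ r ^ i * m := dvd_trans (pow_dvd_pow r hik) h
  rw [pow_succ] at h1
  exact hm (Nat.dvd_of_mul_dvd_mul_left (pow_pos hr.pos i) h1)

theorem not_pow_mul_dvd_pow {r m i j : ℕ} (hr : r.Prime) (hm : ¬ r ∣ m) (hm1 : m ≠ 1) :
    ¬ r ^ i * m ∣ r ^ j := by
  intro h
  have h1 : m ∣ r ^ j := dvd_trans (dvd_mul_left m (r ^ i)) h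
  obtain ⟨t, -, rfl⟩ := (Nat.dvd_prime_pow hr).mp h1
  rcases Nat.eq_zero_or_pos t with h0 | h0
  · rw [h0, pow_zero] at hm1
    exact hm1 rfl
  · exact hm (dvd_pow_self r h0.ne')

/-- decomposition `n = r ^ a * m` of a non-prime-power -/
theorem npp_decomp {n r : ℕ} (hn : NPP n) (hn0 : n ≠ 0) (hr : r.Prime) :
    ∃ a m : ℕ, n = r ^ a * m ∧ ¬ r ∣ m ∧ m ≠ 1 ∧ ∀ k, r ^ k ∣ n → k ≤ a := by
  refine ⟨n.factorization r, n / r ^ n.factorization r,
    (Nat.ordProj_mul_ordCompl_eq_self n r).symm, Nat.not_dvd_ordCompl hr hn0, ?_,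
    fun k hk => (hr.pow_dvd_iff_le_factorization hn0).mp hk⟩
  intro hm1
  have hn' : n = r ^ n.factorization r := by
    have := Nat.ordProj_mul_ordCompl_eq_self n r
    rw [hm1, mul_one] at this
    exact this.symm
  obtain ⟨p, s, hp, hs, hps, hpn, hsn⟩ := hn
  rw [hn'] at hpn hsn
  have h1 : p = r := (Nat.prime_dvd_prime_iff_eq hp hr).mp (hp.dvd_of_dvd_pow hpn)
  have h2 : s = r := (Nat.prime_dvd_prime_iff_eq hs hr).mp (hs.dvd_of_dvd_pow hsn)
  exact hps (h1.trans h2.symm)

end arith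

section main
variable {G : Type*} [Group G] [Finite G] (hS : ∀ x : G, Dom (Cmp (G := G)) x → x = 1)
include hS

/-- a twin of `1` is `1` -/
theorem eq_one_of_tw_one {y : G} (h : Tw (Cmp (G := G)) 1 y) : y = 1 :=
  hS y (fun z => (h z).mp (cmp_one z))

/-! ### L3 (M) — §2 Lemma 3: classes below an element of non-prime-power order are plain. -/
theorem cls_one : cls (Cmp (G := G)) (1 : G) = 1 := by
  unfold cls
  have : Unique {y : G // Tw (Cmp (G := G)) 1 y} :=
    { default := ⟨1, fun z => Iff.rfl⟩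
      uniq := fun y => Subtype.ext (eq_one_of_tw_one hS y.2) }
  exact Nat.card_unique

/-- twins of a nontrivial element of prime power order below an element of non-prime-power order -/
theorem tw_iff_of_mem_primePow {x y y' : G} (hx : NPP (orderOf x)) (hy : y ∈ Subgroup.zpowers x)
    (hpp : IsPrimePow (orderOf y)) :
    Tw (Cmp (G := G)) y y' ↔ Subgroup.zpowers y' = Subgroup.zpowers y := by
  constructor
  swap
  · exact tw_of_zpowers_eq
  intro hyy'
  obtain ⟨r, k, hr', hk, hrk⟩ := hpp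
  have hr : r.Prime := Nat.prime_iff.mpr hr'
  have hn0 : orderOf x ≠ 0 := (orderOf_pos x).ne'
  obtain ⟨a, m, hn, hrm, hm1, hka⟩ := npp_decomp hx hn0 hr
  have hyn : orderOf y ∣ orderOf x := orderOf_dvd_of_mem_zpowers hy
  have hk_le : k ≤ a := hka k (by rw [hrk]; exact hyn)
  have hy1 : y ≠ 1 := by
    rintro rfl
    rw [orderOf_one] at hrk
    have : r ∣ 1 := by rw [← hrk]; exact dvd_pow_self r hk.ne'
    exact hr.one_lt.ne' (Nat.dvd_one.mp this)
  have hy'1 : y' ≠ 1 := by
    rintro rfl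
    have : Dom (Cmp (G := G)) y := fun z => (hyy' z).mpr (cmp_one z)
    exact hy1 (hS y this)
  -- elements of `⟨x⟩` of order `r ^ i * m`
  have hz : ∀ i, i ≤ a → ∃ z ∈ Subgroup.zpowers x, orderOf z = r ^ i * m := fun i hi =>
    exists_mem_zpowers_orderOf_eq (by
      rw [hn]
      exact mul_dvd_mul_right (pow_dvd_pow r hi) m)
  have hcmp : Cmp y' y := (hyy' y).mp (cmp_refl y)
  rcases hcmp with h1 | h1
  · -- `y' ∈ ⟨y⟩`
    have hd : orderOf y' ∣ r ^ k := by rw [hrk]; exact orderOf_dvd_of_mem_zpowers h1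
    obtain ⟨i, hik, hi⟩ := (Nat.dvd_prime_pow hr).mp hd
    have hy'x : y' ∈ Subgroup.zpowers x := (Subgroup.zpowers_le.mpr hy) h1
    rcases Nat.lt_or_ge i k with hlt | hge
    · exfalso
      obtain ⟨z, hzx, hzo⟩ := hz i (le_trans hik hk_le)
      have h2 : y' ∈ Subgroup.zpowers z := by
        rw [mem_zpowers_iff_orderOf_dvd hy'x hzx, hi, hzo]
        exact dvd_mul_right _ _
      have h3 : Cmp y z := (hyy' z).mpr (Or.inl h2)
      rcases h3 with h4 | h4
      · have := orderOf_dvd_of_mem_zpowers h4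
        rw [← hrk, hzo] at this
        exact not_pow_dvd_pow_mul hr hrm hlt this
      · have := orderOf_dvd_of_mem_zpowers h4
        rw [← hrk, hzo] at this
        exact not_pow_mul_dvd_pow hr hrm hm1 this
    · have hik' : i = k := le_antisymm hik hge
      apply zpowers_eq_of_mem_of_orderOf_eq h1
      rw [hi, hik', hrk]
  · -- `y ∈ ⟨y'⟩`
    have hd : orderOf y ∣ orderOf y' := orderOf_dvd_of_mem_zpowers h1
    rcases npp_trichotomy (orderOf_pos y').ne' with h2 | h2 | h2
    · exact absurd (orderOf_eq_one_iff.mp h2) hy'1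
    · obtain ⟨s, j, hs', hj, hsj⟩ := h2
      have hs : s.Prime := Nat.prime_iff.mpr hs'
      have hrs : r = s := by
        have : r ∣ s ^ j := by
          rw [hsj]
          exact dvd_trans (by rw [← hrk]; exact dvd_pow_self r hk.ne') hd
        exact (Nat.prime_dvd_prime_iff_eq hr hs).mp (hr.dvd_of_dvd_pow this)
      subst hrs
      have hkj : k ≤ j := by
        have : r ^ k ∣ r ^ j := by rw [hrk, hsj]; exact hd
        exact (Nat.pow_dvd_pow_iff_le_right hr.one_lt).mp this
      rcases Nat.lt_or_ge k j with hlt | hge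
      · exfalso
        obtain ⟨z, hzx, hzo⟩ := hz k hk_le
        have h3 : y ∈ Subgroup.zpowers z := by
          rw [mem_zpowers_iff_orderOf_dvd hy hzx, ← hrk, hzo]
          exact dvd_mul_right _ _
        have h4 : Cmp y' z := (hyy' z).mp (Or.inl h3)
        rcases h4 with h5 | h5
        · have := orderOf_dvd_of_mem_zpowers h5
          rw [← hsj, hzo] at this
          exact not_pow_dvd_pow_mul hr hrm hlt this
        · have := orderOf_dvd_of_mem_zpowers h5
          rw [← hsj, hzo] at this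
          exact not_pow_mul_dvd_pow hr hrm hm1 this
      · have hkj' : k = j := le_antisymm hkj hge
        apply (zpowers_eq_of_mem_of_orderOf_eq h1 ?_).symm
        rw [← hrk, ← hsj, hkj']
    · exact ((tw_iff_of_npp hS h2).mp (tw_symm hyy')).symm

theorem cls_of_mem_zpowers_npp {x y : G} (hx : NPP (orderOf x)) (hy : y ∈ Subgroup.zpowers x) :
    cls (Cmp (G := G)) y = Nat.totient (orderOf y) := by
  rcases npp_trichotomy (orderOf_pos y).ne' with h1 | h1 | h1
  · have hy1 : y = 1 := orderOf_eq_one_iff.mp h1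
    subst hy1
    rw [cls_one hS, orderOf_one, Nat.totient_one]
  · unfold cls
    rw [← card_gen y]
    exact Nat.card_congr (Equiv.subtypeEquivRight fun y' => tw_iff_of_mem_primePow hS hx hy h1)
  · exact cls_of_npp hS h1

end main

end Cfsg.Agent.Lib.Helper89_PG_L3
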