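import Mathlib
import Cfsg.Agent.Lib.Helper56_PGDefs
import Cfsg.Agent.Lib.Helper89_PG_CYC
import Cfsg.Agent.Lib.Helper73_PG_ARITH
import Cfsg.Agent.Lib.Helper89_PG_L2
import Cfsg.Agent.Lib.Helper89_PG_L3
import Cfsg.Agent.Lib.Helper42_PG_CONVEX

/-!
# S4085 package L6 (helper56's market `s4085_packages`): `Lo x ⊆ ⟨x⟩` (proof.md §3, Lemma 6)
-/

set_option linter.unusedSectionVars false

namespace Cfsg.Agent.Lib.Helper52_PG_L6
open Cfsg.Agent.Lib.Helper56_PGDefs

open Cfsg.Agent.Lib.Helper89_PG_CYC Cfsg.Agent.Lib.Helper73_PG_ARITH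
  Cfsg.Agent.Lib.Helper89_PG_L2 Cfsg.Agent.Lib.Helper89_PG_L3 Cfsg.Agent.Lib.Helper42_PG_CONVEX


section main
variable {G : Type*} [Group G] [Finite G] (hS : ∀ x : G, Dom (Cmp (G := G)) x → x = 1)

omit [Finite G] in
theorem tw_symm {x y : G} (h : Tw (Cmp (G := G)) x y) : Tw (Cmp (G := G)) y x :=
  fun z => (h z).symm

omit [Finite G] in
theorem tw_trans {x y z : G} (h1 : Tw (Cmp (G := G)) x y) (h2 : Tw (Cmp (G := G)) y z) :
    Tw (Cmp (G := G)) x z := fun w => (h1 w).trans (h2 w)

include hS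

/-- a twin of `1` is `1` -/
theorem eq_one_of_tw_one {x : G} (h : Tw (Cmp (G := G)) x 1) : x = 1 := by
  apply hS
  intro z
  exact (h z).2 (cmp_one z)

/-- the case of a prime power order `o(z) = r ^ j`, `x` not a twin of `z`: the twin class of `x`
lies in `⟨z ^ r⟩ \ {1}` -/
theorem twin_mem_of_primePow {x z : G} (hxz : x ∈ Subgroup.zpowers z) (hx1 : x ≠ 1)
    {r j : ℕ} (hr : r.Prime) (hz : orderOf z = r ^ j) (hnt : ¬ Tw (Cmp (G := G)) x z)
    {y : G} (hy : Tw (Cmp (G := G)) x y) : y ∈ Subgroup.zpowers (z ^ r) ∧ y ≠ 1 := by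
  have hy1 : y ≠ 1 := by
    rintro rfl
    exact hx1 (eq_one_of_tw_one hS hy)
  refine ⟨?_, hy1⟩
  have hcxz : Cmp x z := Or.inl hxz
  have hcyz : Cmp y z := (hy z).1 hcxz
  rcases hcyz with hyz | hzy
  · -- `y ∈ ⟨z⟩`, not a generator
    have hne : orderOf y ≠ orderOf z := by
      intro he
      apply hnt
      have hle : Subgroup.zpowers y ≤ Subgroup.zpowers z := by
        rw [Subgroup.zpowers_le]; exact hyz
      have heq : Subgroup.zpowers y = Subgroup.zpowers z := by
        apply Subgroup.eq_of_le_of_card_ge hle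
        rw [Nat.card_zpowers, Nat.card_zpowers, he]
      exact tw_trans hy (tw_symm (tw_of_zpowers_eq heq))
    have hdvd : orderOf y ∣ r ^ j := by
      rw [← hz]
      exact orderOf_dvd_of_mem_zpowers hyz
    obtain ⟨k, hkj, hk⟩ := (Nat.dvd_prime_pow hr).1 hdvd
    have hkj' : k < j := by
      rcases Nat.lt_or_ge k j with h | h
      · exact h
      · exfalso
        apply hne
        rw [hk, hz, le_antisymm hkj h]
    have hj : j ≠ 0 := by omega
    have hzr : orderOf (z ^ r) = r ^ (j - 1) := by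
      rw [orderOf_pow' z hr.ne_zero, hz]
      have : Nat.gcd (r ^ j) r = r := by
        apply Nat.gcd_eq_right
        exact dvd_pow_self r hj
      rw [this]
      obtain ⟨j', rfl⟩ : ∃ j', j = j' + 1 := ⟨j - 1, by omega⟩
      rw [pow_succ, Nat.mul_div_cancel _ hr.pos, Nat.add_sub_cancel]
    have hzrmem : z ^ r ∈ Subgroup.zpowers z := Subgroup.pow_mem _ (Subgroup.mem_zpowers z) r
    rw [mem_zpowers_iff_orderOf_dvd hyz hzrmem, hzr, hk]
    exact pow_dvd_pow r (by omega)
  · -- `z ∈ ⟨y⟩`: impossible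
    exfalso
    have hxy : x ∈ Subgroup.zpowers y := by
      have hle : Subgroup.zpowers z ≤ Subgroup.zpowers y := by
        rw [Subgroup.zpowers_le]; exact hzy
      exact hle hxz
    have hoy0 : orderOf y ≠ 0 := (orderOf_pos y).ne'
    rcases npp_trichotomy hoy0 with h1 | hpp | hnpp
    · exact hy1 (orderOf_eq_one_iff.1 h1)
    · exact hnt (tw_convex hS hpp hy hxz hzy)
    · have h2 := (tw_iff_of_npp hS hnpp).1 (tw_symm hy)
      -- `⟨x⟩ = ⟨y⟩`, so `⟨z⟩ = ⟨x⟩`
      apply hnt
      apply tw_of_zpowers_eq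
      apply le_antisymm
      · rw [Subgroup.zpowers_le, h2]; exact hzy
      · rw [Subgroup.zpowers_le]; exact hxz

theorem cls_le_of_mem_zpowers {x z : G} (hxz : x ∈ Subgroup.zpowers z) :
    cls (Cmp (G := G)) x ≤ cls (Cmp (G := G)) z := by
  by_cases hx1 : x = 1
  · rw [hx1, cls_one hS]
    exact cls_pos _ z
  have hoz0 : orderOf z ≠ 0 := (orderOf_pos z).ne'
  rcases npp_trichotomy hoz0 with h1 | hpp | hnpp
  · -- `z = 1`
    exfalso
    have hz1 : z = 1 := orderOf_eq_one_iff.1 h1
    rw [hz1, Subgroup.zpowers_one_eq_bot, Subgroup.mem_bot] at hxz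
    exact hx1 hxz
  · -- prime power
    by_cases hnt : Tw (Cmp (G := G)) x z
    · exact (cls_eq_of_tw _ hnt).le
    obtain ⟨r, j, hr, hj, hrj⟩ := hpp
    have hr' : r.Prime := Nat.prime_iff.2 hr
    have hz : orderOf z = r ^ j := hrj.symm
    have hzr : orderOf (z ^ r) = r ^ (j - 1) := by
      rw [orderOf_pow' z hr'.ne_zero, hz]
      have : Nat.gcd (r ^ j) r = r := by
        apply Nat.gcd_eq_right
        exact dvd_pow_self r hj.ne'
      rw [this]
      obtain ⟨j', rfl⟩ : ∃ j', j = j' + 1 := ⟨j - 1, by omega⟩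
      rw [pow_succ, Nat.mul_div_cancel _ hr'.pos, Nat.add_sub_cancel]
    -- the count
    have hcount : cls (Cmp (G := G)) x + 1 ≤ r ^ (j - 1) := by
      rw [← hzr, ← Nat.card_zpowers]
      unfold cls
      rw [← Finite.card_option]
      apply Nat.card_le_card_of_injective
        (fun o : Option {y : G // Tw (Cmp (G := G)) x y} =>
          (match o with
          | none => (1 : ↥(Subgroup.zpowers (z ^ r)))
          | some y => ⟨y.1, (twin_mem_of_primePow hS hxz hx1 hr' hz hnt y.2).1⟩))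
      intro o1 o2 h12
      match o1, o2 with
      | none, none => rfl
      | none, some y =>
          exfalso
          have := congrArg Subtype.val h12
          exact (twin_mem_of_primePow hS hxz hx1 hr' hz hnt y.2).2 this.symm
      | some y, none =>
          exfalso
          have := congrArg Subtype.val h12
          exact (twin_mem_of_primePow hS hxz hx1 hr' hz hnt y.2).2 this
      | some y1, some y2 =>
          have := congrArg Subtype.val h12
          exact congrArg some (Subtype.ext this)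
    have htot : r ^ (j - 1) ≤ Nat.totient (orderOf z) := by
      rw [hz, Nat.totient_prime_pow hr' hj]
      have : 1 ≤ r - 1 := by have := hr'.two_le; omega
      calc r ^ (j - 1) = r ^ (j - 1) * 1 := (mul_one _).symm
        _ ≤ r ^ (j - 1) * (r - 1) := Nat.mul_le_mul_left _ this
    have := totient_le_cls z
    omega
  · -- two prime divisors
    rw [cls_of_npp hS hnpp, cls_of_mem_zpowers_npp hS hnpp hxz]
    apply Nat.le_of_dvd (Nat.totient_pos.2 (orderOf_pos z))
    exact Nat.totient_dvd_of_dvd (orderOf_dvd_of_mem_zpowers hxz)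

/-- consequence: `Lo x ⊆ ⟨x⟩`. -/
theorem lo_subset_zpowers (x : G) : Lo (Cmp (G := G)) x ⊆ (Subgroup.zpowers x : Set G) := by
  intro y hy
  obtain ⟨hc, hlt⟩ := hy
  rcases hc with h | h
  · exfalso
    have := cls_le_of_mem_zpowers hS h
    omega
  · exact h

end main

end Cfsg.Agent.Lib.Helper52_PG_L6
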