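import Mathlib
import Cfsg.Agent.Lib.Helper56_PGDefs
import Cfsg.Agent.Lib.Helper73_PG_ARITH

/-!
helper73 — package COUNTA of helper56's market for S4085 (power graphs): the pure count in a cyclic
group `⟨x⟩` of the elements `y` with `φ(o(y)) < φ(o(x))`.
-/

set_option autoImplicit false
set_option linter.unusedVariables false

namespace Cfsg.Agent.Lib.Helper73_PG_COUNTA
open Cfsg.Agent.Lib.Helper56_PGDefs Cfsg.Agent.Lib.Helper73_PG_ARITH

theorem totient_two_mul_odd {d : ℕ} (hd : Odd d) : Nat.totient (2 * d) = Nat.totient d := by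
  rw [Nat.totient_mul (Nat.coprime_two_left.mpr hd), Nat.totient_two, one_mul]

/-- the divisors `d` of `n` with `φ d = φ n` -/
theorem not_totient_lt_iff {n d : ℕ} (hn : 0 < n) (hd : d ∣ n) :
    ¬ Nat.totient d < Nat.totient n ↔ d = n ∨ (n % 4 = 2 ∧ d = n / 2) := by
  have hle : Nat.totient d ≤ Nat.totient n :=
    Nat.le_of_dvd (Nat.totient_pos.mpr hn) (Nat.totient_dvd_of_dvd hd)
  constructor
  · intro h
    have heq : Nat.totient d = Nat.totient n := by omega
    rcases totient_eq_of_dvd hn.ne' hd heq with h1 | ⟨h1, h2⟩
    · exact Or.inl h1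
    · right
      obtain ⟨k, hk⟩ := h2
      omega
  · rintro (rfl | ⟨h1, h2⟩)
    · exact lt_irrefl _
    · have hn2 : n = 2 * d := by omega
      have hodd : Odd d := by
        rw [Nat.odd_iff]
        omega
      rw [hn2, totient_two_mul_odd hodd]
      exact lt_irrefl _

/-- the count in a finite cyclic group -/
theorem card_filter_totient_lt {Z : Type*} [Group Z] [Fintype Z] [IsCyclic Z] [DecidableEq Z] :
    (Finset.univ.filter (fun z : Z =>
        Nat.totient (orderOf z) < Nat.totient (Fintype.card Z))).card =
      Fintype.card Z - Nat.totient (Fintype.card Z) -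
        (if Fintype.card Z % 4 = 2 then Nat.totient (Fintype.card Z) else 0) := by
  set n := Fintype.card Z with hn
  have hn0 : 0 < n := Fintype.card_pos
  have hsplit := Finset.card_filter_add_card_filter_not (s := (Finset.univ : Finset Z))
    (fun z : Z => Nat.totient (orderOf z) < Nat.totient n)
  rw [Finset.card_univ] at hsplit
  have hneg : (Finset.univ.filter (fun z : Z => ¬ Nat.totient (orderOf z) < Nat.totient n)) =
      Finset.univ.filter (fun z : Z => orderOf z = n) ∪
        Finset.univ.filter (fun z : Z => n % 4 = 2 ∧ orderOf z = n / 2) := by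
    ext z
    simp only [Finset.mem_filter, Finset.mem_univ, true_and, Finset.mem_union]
    exact not_totient_lt_iff hn0 (orderOf_dvd_card)
  have hdisj : Disjoint (Finset.univ.filter (fun z : Z => orderOf z = n))
      (Finset.univ.filter (fun z : Z => n % 4 = 2 ∧ orderOf z = n / 2)) := by
    rw [Finset.disjoint_filter]
    intro z _ h1 h2
    rw [h1] at h2
    omega
  have hc1 : (Finset.univ.filter (fun z : Z => orderOf z = n)).card = Nat.totient n :=
    IsCyclic.card_orderOf_eq_totient (dvd_refl _)
  have hc2 : (Finset.univ.filter (fun z : Z => n % 4 = 2 ∧ orderOf z = n / 2)).card =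
      if n % 4 = 2 then Nat.totient n else 0 := by
    by_cases h4 : n % 4 = 2
    · rw [if_pos h4]
      have hn2 : n = 2 * (n / 2) := by omega
      have hodd : Odd (n / 2) := by
        rw [Nat.odd_iff]
        omega
      have : (Finset.univ.filter (fun z : Z => n % 4 = 2 ∧ orderOf z = n / 2)) =
          Finset.univ.filter (fun z : Z => orderOf z = n / 2) := by
        ext z
        simp only [Finset.mem_filter, Finset.mem_univ, true_and, h4]
      rw [this, IsCyclic.card_orderOf_eq_totient (Dvd.intro_left 2 hn2.symm)]
      conv_rhs => rw [hn2]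
      exact (totient_two_mul_odd hodd).symm
    · rw [if_neg h4]
      rw [Finset.card_eq_zero]
      ext z
      simp only [Finset.mem_filter, Finset.mem_univ, true_and, h4, false_and,
        Finset.notMem_empty]
  rw [hneg, Finset.card_union_of_disjoint hdisj, hc1, hc2] at hsplit
  omega

section main
variable {G : Type*} [Group G] [Finite G]

/-- pure cyclic-group count (no `hS`) -/
theorem card_totient_lt (x : G) :
    Nat.card {y : G // y ∈ Subgroup.zpowers x ∧
        Nat.totient (orderOf y) < Nat.totient (orderOf x)} =
      orderOf x - Nat.totient (orderOf x) -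
        (if orderOf x % 4 = 2 then Nat.totient (orderOf x) else 0) := by
  classical
  have : Fintype ↥(Subgroup.zpowers x) := Fintype.ofFinite _
  have hcard : Fintype.card ↥(Subgroup.zpowers x) = orderOf x := by
    rw [← Nat.card_eq_fintype_card, Nat.card_zpowers]
  have key : ∀ (z : G) (hz : z ∈ Subgroup.zpowers x),
      Nat.totient (orderOf (⟨z, hz⟩ : ↥(Subgroup.zpowers x))) <
        Nat.totient (Fintype.card ↥(Subgroup.zpowers x)) ↔
      Nat.totient (orderOf z) < Nat.totient (orderOf x) := by
    intro z hz
    rw [hcard, Subgroup.orderOf_mk]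
  let e : {y : G // y ∈ Subgroup.zpowers x ∧
        Nat.totient (orderOf y) < Nat.totient (orderOf x)} ≃
      {z : ↥(Subgroup.zpowers x) //
        Nat.totient (orderOf z) < Nat.totient (Fintype.card ↥(Subgroup.zpowers x))} :=
    { toFun := fun y => ⟨⟨y.1, y.2.1⟩, (key y.1 y.2.1).mpr y.2.2⟩
      invFun := fun z => ⟨z.1.1, z.1.2, (key z.1.1 z.1.2).mp z.2⟩
      left_inv := fun y => rfl
      right_inv := fun z => rfl }
  rw [Nat.card_congr e, Nat.card_eq_fintype_card, Fintype.card_subtype, card_filter_totient_lt,
    hcard]

end main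

end Cfsg.Agent.Lib.Helper73_PG_COUNTA
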