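import Mathlib
import Cfsg.Agent.Lib.Helper56_PGDefs
import Cfsg.Agent.Lib.Helper89_PG_L2
import Cfsg.Agent.Lib.Helper89_PG_L3
import Cfsg.Agent.Lib.Helper52_PG_L6
import Cfsg.Agent.Lib.Helper73_PG_COUNTA
import Cfsg.Agent.Lib.Helper10_PG_COUNTBa

/-!
# S4085 package COUNTB (helper10 for helper56): `Lo x` and its cardinality for `x` of
non-prime-power order.
-/

namespace Cfsg.Agent.Lib.Helper10_PG_COUNTB
open Cfsg.Agent.Lib.Helper56_PGDefs

section main
variable {G : Type*} [Group G] [Finite G] (hS : ∀ x : G, Dom (Cmp (G := G)) x → x = 1)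
include hS

theorem lo_eq_of_npp {x : G} (hx : NPP (orderOf x)) :
    Lo (Cmp (G := G)) x =
      {y | y ∈ Subgroup.zpowers x ∧ Nat.totient (orderOf y) < Nat.totient (orderOf x)} :=
  Cfsg.Agent.Lib.Helper10_PG_COUNTBa.lo_eq_of_npp_of
    (fun h => Cfsg.Agent.Lib.Helper89_PG_L2.cls_of_npp hS h)
    (fun h h' => Cfsg.Agent.Lib.Helper89_PG_L3.cls_of_mem_zpowers_npp hS h h')
    (fun x => Cfsg.Agent.Lib.Helper52_PG_L6.lo_subset_zpowers hS x) hx

theorem card_lo_of_npp {x : G} (hx : NPP (orderOf x)) :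
    Nat.card (Lo (Cmp (G := G)) x) =
      orderOf x - Nat.totient (orderOf x) -
        (if orderOf x % 4 = 2 then Nat.totient (orderOf x) else 0) :=
  Cfsg.Agent.Lib.Helper10_PG_COUNTBa.card_lo_of_npp_of
    (fun h => Cfsg.Agent.Lib.Helper89_PG_L2.cls_of_npp hS h)
    (fun h h' => Cfsg.Agent.Lib.Helper89_PG_L3.cls_of_mem_zpowers_npp hS h h')
    (fun x => Cfsg.Agent.Lib.Helper52_PG_L6.lo_subset_zpowers hS x)
    (fun x => Cfsg.Agent.Lib.Helper73_PG_COUNTA.card_totient_lt x) hx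

end main

end Cfsg.Agent.Lib.Helper10_PG_COUNTB
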