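import Mathlib
import Cfsg.Agent.Lib.Helper56_PGDefs

/-!
# S4085 package DOMCASE (helper10 for helper56): a nontrivial dominating vertex of the power graph.
-/

namespace Cfsg.Agent.Lib.Helper10_PG_DOMCASE
open Cfsg.Agent.Lib.Helper56_PGDefs

/-- a prime dividing the order of the group divides the order of a nontrivial dominating vertex -/
theorem prime_dvd_orderOf_of_dom {G : Type*} [Group G] [Finite G] (x : G)
    (hx : Dom (Cmp (G := G)) x) (hx1 : x ≠ 1) {p : ℕ} (hp : p.Prime) (h : p ∣ Nat.card G) :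
    p ∣ orderOf x := by
  have : Fact p.Prime := ⟨hp⟩
  obtain ⟨z, hz⟩ := exists_prime_orderOf_dvd_card' p h
  rcases hx z with h1 | h1
  · have hd : orderOf x ∣ p := hz ▸ orderOf_dvd_of_mem_zpowers h1
    rcases (Nat.dvd_prime hp).mp hd with h2 | h2
    · exact absurd (orderOf_eq_one_iff.mp h2) hx1
    · rw [h2]
  · rw [← hz]
    exact orderOf_dvd_of_mem_zpowers h1

/-! ### DOMCASE (M) — §1 Lemma 1: the case of a nontrivial dominating vertex. -/
theorem domcase {G : Type*} [Group G] [Finite G] (x : G) (hx : Dom (Cmp (G := G)) x) (hx1 : x ≠ 1)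
    {p q : ℕ} (hp : p.Prime) (hq : q.Prime) (hpq : p ≠ q) :
    (∃ g : G, orderOf g = p * q) ↔ (p ∣ Nat.card G ∧ q ∣ Nat.card G) := by
  constructor
  · rintro ⟨g, hg⟩
    have h1 : p * q ∣ Nat.card G := hg ▸ orderOf_dvd_natCard g
    exact ⟨dvd_trans (dvd_mul_right p q) h1, dvd_trans (dvd_mul_left q p) h1⟩
  · rintro ⟨h1, h2⟩
    have hpx := prime_dvd_orderOf_of_dom x hx hx1 hp h1
    have hqx := prime_dvd_orderOf_of_dom x hx hx1 hq h2
    have hcop : Nat.Coprime p q := (Nat.coprime_primes hp hq).mpr hpq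
    have hd : p * q ∣ orderOf x := hcop.mul_dvd_of_dvd_of_dvd hpx hqx
    have hpos : 0 < orderOf x := orderOf_pos x
    have hpq0 : 0 < p * q := Nat.mul_pos hp.pos hq.pos
    obtain ⟨k, hk⟩ := hd
    have hk0 : k ≠ 0 := by
      rintro rfl
      rw [mul_zero] at hk
      omega
    refine ⟨x ^ k, ?_⟩
    rw [orderOf_pow_of_dvd hk0 ⟨p * q, by rw [hk, mul_comm]⟩, hk,
      Nat.mul_div_cancel _ (Nat.pos_of_ne_zero hk0)]

end Cfsg.Agent.Lib.Helper10_PG_DOMCASE
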