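/-
Helper library (helper10): unconditional forms (Dickson = S0274 plugged in) of the
quadratic-action results of `Helper10_QuadAction`; `quad_dichotomy` is the non-faithful form.
-/
import Mathlib
import Cfsg.Prelude.Def_LocalEven
import Cfsg.Agent.S0274
import Cfsg.Agent.Lib.Helper10_QuadAction

set_option autoImplicit false

namespace Cfsg.Agent.Lib.Helper10_QuadFinal

open Cfsg Cfsg.Agent.Lib.Helper10_QuadPair Cfsg.Agent.Lib.Helper10_QuadAction

/-- `DicksonHyp` is a theorem (S0274). -/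
theorem dicksonHyp (p : ℕ) [Fact p.Prime] (hp : p ≠ 2) : DicksonHyp p :=
  fun _ _ _ _ X h => Cfsg.Agent.S0274.result p hp X h

/-- A section of a quotient is a section of the group. -/
theorem involves_of_quotient {A : Type*} [Group A] {Γ : Type*} [Group Γ] (C : Subgroup Γ)
    [C.Normal] (h : Cfsg.Involves A (Γ ⧸ C)) : Cfsg.Involves A Γ := by
  obtain ⟨Kb, Lb, hLb, ⟨ε⟩⟩ := h
  set H₁ : Subgroup Γ := Kb.comap (QuotientGroup.mk' C) with hH₁
  let f : H₁ →* (Kb ⧸ Lb.subgroupOf Kb) :=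
    (QuotientGroup.mk' (Lb.subgroupOf Kb)).comp ((QuotientGroup.mk' C).subgroupComap Kb)
  have hf : Function.Surjective f :=
    (QuotientGroup.mk'_surjective _).comp
      ((QuotientGroup.mk' C).subgroupComap_surjective_of_surjective Kb
        (QuotientGroup.mk'_surjective C))
  have htop : (⊤ : Subgroup (Kb ⧸ Lb.subgroupOf Kb)) ≤ f.range := by
    intro y _
    exact hf y
  obtain ⟨K, L, hL, _, ⟨δ⟩⟩ := exists_section_of_hom H₁ f ⊤ htop
  exact ⟨K, L, hL, ⟨(δ.trans Subgroup.topEquiv).trans ε⟩⟩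

/-- Dichotomy for a quadratically acting element (non-faithful action allowed): either `a` lies
in a normal subgroup all of whose elements act as `p`-elements, or `Γ` involves `SL(2, p)`. -/
theorem quad_dichotomy {Γ : Type*} [Group Γ] [Finite Γ] {p : ℕ} [Fact p.Prime] (hp : p ≠ 2)
    {N : Type*} [CommGroup N] [Finite N] (hN : ∀ n : N, n ^ p = 1) (c : Γ →* MulAut N) (a : Γ)
    (hq : ∀ n, c a (c a n * n⁻¹) = c a n * n⁻¹) :
    (∃ D : Subgroup Γ, D.Normal ∧ a ∈ D ∧ ∀ d ∈ D, ∃ j : ℕ, c (d ^ p ^ j) = 1) ∨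
      Cfsg.Involves (Matrix.SpecialLinearGroup (Fin 2) (ZMod p)) Γ := by
  have hD := dicksonHyp p hp
  set cbar : Γ ⧸ c.ker →* MulAut N := QuotientGroup.kerLift c with hcbar
  have hcb : ∀ g : Γ, cbar (QuotientGroup.mk g) = c g := fun g => QuotientGroup.kerLift_mk c g
  have hfaith : ∀ γ : Γ ⧸ c.ker, (∀ n, cbar γ n = n) → γ = 1 := by
    intro γ h
    apply QuotientGroup.kerLift_injective c
    rw [map_one]
    ext n
    exact h n
  have habar : AQuad cbar (QuotientGroup.mk a) := by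
    intro n
    rw [hcb]
    exact hq n
  by_cases hmem : (QuotientGroup.mk a : Γ ⧸ c.ker) ∈ Cfsg.pCore p (Γ ⧸ c.ker)
  · left
    refine ⟨(Cfsg.pCore p (Γ ⧸ c.ker)).comap (QuotientGroup.mk' c.ker), ?_, hmem, ?_⟩
    · exact Subgroup.Normal.comap (Cfsg.Agent.Lib.Helper76_PSolvable.pCore_normal p) _
    · intro d hd
      have hpg : IsPGroup p (Cfsg.pCore p (Γ ⧸ c.ker)) :=
        Cfsg.Agent.Lib.Helper76_PSolvable.pCore_isPGroup p
      obtain ⟨j, hj⟩ := hpg ⟨_, hd⟩
      refine ⟨j, ?_⟩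
      have hj' : (QuotientGroup.mk' c.ker d) ^ p ^ j = 1 := by
        have := congrArg Subtype.val hj
        rw [Subgroup.coe_pow, Subgroup.coe_one] at this
        exact this
      rw [← map_pow, QuotientGroup.mk'_apply, QuotientGroup.eq_one_iff] at hj'
      exact hj'
  · right
    obtain ⟨K, L, hL, hε⟩ := abs_section hD cbar hN hfaith _ habar hmem
    exact involves_of_quotient c.ker ⟨K, L, hL, hε⟩

end Cfsg.Agent.Lib.Helper10_QuadFinal
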