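import Mathlib

/-!
# Helper37_RHDefs: the abstract hypotheses of the REEHALL project (S1158, S1159, S2357, S2358, S2361)

`RH G Ω m` collects, for a finite group `G` acting on a set `Ω`, the facts about the small Ree group
`²G₂(q)`, `q = 3 ^ (2 m + 1)`, `m ≥ 1`, acting on the `q ^ 3 + 1` cosets of its Borel subgroup, that are already
landed (order, 2-transitivity, three-point stabilisers, the Sylow 3-subgroup `U`, the torus `H`, the centraliser of an
involution, the Sylow 2-normaliser, cyclic Sylow `p`-subgroups for `p > 3`, the centralisers of the elements of odd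
prime order dividing `q ± 1`) together with the two consequences of the 7-dimensional representation for the primes
dividing `q ^ 2 - q + 1`.  Every package of the project is stated for an abstract `G` with `RH G Ω m`, so that it
only needs Mathlib and this file.
-/

set_option autoImplicit false

namespace Cfsg.Agent.Lib.Helper37_RHDefs

open MulAction Subgroup

/-- `q = 3 ^ (2 m + 1)` (reducible: `Q m` unfolds to `3 ^ (2 * m + 1)`). -/
abbrev Q (m : ℕ) : ℕ := 3 ^ (2 * m + 1)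

/-- The number of fixed points of `g` on `Ω`. -/
noncomputable def fixN {G : Type*} [Group G] (Ω : Type*) [MulAction G Ω] (g : G) : ℕ :=
  Nat.card ↥(MulAction.fixedBy Ω g)

/-- The hypotheses. -/
structure RH (G : Type*) [Group G] [Finite G] (Ω : Type*) [MulAction G Ω] (m : ℕ) : Prop where
  hm : 1 ≤ m
  card_G : Nat.card G = (Q m) ^ 3 * (Q m - 1) * ((Q m) ^ 3 + 1)
  card_Ω : Nat.card Ω = (Q m) ^ 3 + 1
  two_trans : ∀ x y x' y' : Ω, x ≠ y → x' ≠ y' → ∃ g : G, g • x = x' ∧ g • y = y'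
  stab3_le : ∀ x y z : Ω, x ≠ y → x ≠ z → y ≠ z →
    Nat.card ↥(stabilizer G x ⊓ stabilizer G y ⊓ stabilizer G z) ≤ 2
  stab3_ex : ∃ x y z : Ω, x ≠ y ∧ x ≠ z ∧ y ≠ z ∧
    Nat.card ↥(stabilizer G x ⊓ stabilizer G y ⊓ stabilizer G z) = 2
  unip : ∃ (o : Ω) (U : Subgroup G), Nat.card U = (Q m) ^ 3 ∧ U ≤ stabilizer G o ∧
    (∀ b ∈ stabilizer G o, ∀ u ∈ U, b * u * b⁻¹ ∈ U) ∧
    (∀ u ∈ U, u ≠ 1 → ∀ x : Ω, u • x = x → x = o) ∧ (∀ u ∈ U, u ^ 9 = 1) ∧
    Nat.card {u : U // orderOf u = 3} = (Q m) ^ 2 - 1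
  stab2 : ∃ x y : Ω, x ≠ y ∧ IsCyclic ↥(stabilizer G x ⊓ stabilizer G y) ∧
    Nat.card ↥(stabilizer G x ⊓ stabilizer G y) = Q m - 1
  invol : ∃ a : G, orderOf a = 2 ∧ (∀ t : G, orderOf t = 2 → ∃ g : G, g * a * g⁻¹ = t) ∧
    Nat.card ↥(centralizer ({a} : Set G)) = Q m * ((Q m) ^ 2 - 1) ∧
    (∀ t ∈ centralizer ({a} : Set G), orderOf t = 2 → t ≠ a →
      Nat.card ↥(centralizer ({a} : Set G) ⊓ centralizer ({t} : Set G)) = 2 * (Q m + 1)) ∧
    (∀ u ∈ centralizer ({a} : Set G), ∀ k : ℕ, u ^ 3 ^ k = 1 → u ^ 3 = 1)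
  syl2 : ∀ S : Sylow 2 G, Nat.card S = 8 ∧ (∀ x ∈ S, x * x = 1) ∧
    centralizer ((S : Subgroup G) : Set G) = S ∧ Nat.card ↥(normalizer ((S : Subgroup G) : Set G)) = 168
  sylp : ∀ (p : ℕ) [Fact p.Prime], 3 < p → ∀ P : Sylow p G, IsCyclic ↥(P : Subgroup G)
  main1 : ∀ p : ℕ, p.Prime → p ≠ 2 → p ∣ Q m - 1 → ∀ x : G, orderOf x = p →
    IsCyclic ↥(centralizer ({x} : Set G)) ∧ Nat.card ↥(centralizer ({x} : Set G)) = Q m - 1
  main2 : ∀ p : ℕ, p.Prime → p ≠ 2 → p ∣ Q m + 1 → ∀ x : G, orderOf x = p →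
    (∀ g ∈ centralizer ({x} : Set G), ∀ k ∈ centralizer ({x} : Set G), g * k = k * g) ∧
    Nat.card ↥(centralizer ({x} : Set G)) = Q m + 1 ∧ ∀ z ∈ centralizer ({x} : Set G), orderOf z ≠ 4
  gl7_cent : ∀ p : ℕ, p.Prime → p ∣ (Q m) ^ 2 - Q m + 1 → ∀ x : G, orderOf x = p →
    ∀ g ∈ centralizer ({x} : Set G), ∀ k ∈ centralizer ({x} : Set G), g * k = k * g
  gl7_norm : ∀ p : ℕ, p.Prime → p ∣ (Q m) ^ 2 - Q m + 1 → ∀ x : G, orderOf x = p →
    Nat.card ↥(normalizer ((zpowers x : Subgroup G) : Set G)) ∣ 6 * Nat.card ↥(centralizer ({x} : Set G))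

/-- A non-trivial `π`-element, `π` the set of primes dividing `N = q ^ 2 - q + 1`: a non-trivial element whose order
divides `N` (recall `|G| = q ^ 3 (q - 1) (q + 1) N` and `N` is prime to `q (q ^ 2 - 1)`). -/
def IsPi {G : Type*} [Group G] (m : ℕ) (g : G) : Prop :=
  g ≠ 1 ∧ orderOf g ∣ (Q m) ^ 2 - Q m + 1

/-- The data of a torus of order `(q + 1) / 4`: `D = V × T` abelian of order `q + 1`, `V` its four-group, `T` cyclic
of order `(q + 1) / 4`, and `D` is the centraliser of every non-trivial element of `T`. -/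
structure TorT {G : Type*} [Group G] (m : ℕ) (D T V : Subgroup G) : Prop where
  card_D : Nat.card D = Q m + 1
  comm : ∀ g ∈ D, ∀ k ∈ D, g * k = k * g
  T_le : T ≤ D
  V_le : V ≤ D
  cyc : IsCyclic T
  card_T : Nat.card T = (Q m + 1) / 4
  card_V : Nat.card V = 4
  V_sq : ∀ v ∈ V, v * v = 1
  cent : ∀ t ∈ T, t ≠ 1 → centralizer ({t} : Set G) = D
  mem_V : ∀ d ∈ D, d * d = 1 → d ∈ V
  mem_T : ∀ d ∈ D, Odd (orderOf d) → d ∈ T

/-- The elements of `σ`-type: the conjugates of the elements of `D ∖ V`. -/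
def IsSig {G : Type*} [Group G] (D V : Subgroup G) (g : G) : Prop :=
  ∃ c : G, c * g * c⁻¹ ∈ D ∧ c * g * c⁻¹ ∉ V

end Cfsg.Agent.Lib.Helper37_RHDefs
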