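import Mathlib
import Cfsg.Agent.Lib.Helper37_RHDefs

/-!
# REEHALL package ARITH (helper10 for helper37): the arithmetic of `q = 3 ^ (2 m + 1)` (pure ℕ).
-/

set_option autoImplicit false

namespace Cfsg.Agent.Lib.Helper10_RH_ARITH

open Cfsg.Agent.Lib.Helper37_RHDefs

/-- the basic facts on `q = 3 ^ (2 m + 1)`, `m ≥ 1` -/
theorem Q_facts (m : ℕ) (hm : 1 ≤ m) : 27 ≤ Q m ∧ Q m % 8 = 3 ∧ Q m % 3 = 0 := by
  obtain ⟨k, rfl⟩ : ∃ k, m = k + 1 := ⟨m - 1, by omega⟩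
  have e : Q (k + 1) = 27 * 9 ^ k := by
    unfold Q
    rw [show 2 * (k + 1) + 1 = 2 * k + 3 by ring, pow_add, pow_mul]
    norm_num
    ring
  have h9 : 1 ≤ 9 ^ k := Nat.one_le_pow k 9 (by norm_num)
  refine ⟨?_, ?_, ?_⟩
  · rw [e]; omega
  · rw [e, Nat.mul_mod, Nat.pow_mod]; norm_num
  · rw [e]; omega

/-- the only prime divisor of `q` is `3` -/
theorem prime_dvd_Q (m : ℕ) {p : ℕ} (hp : p.Prime) (h : p ∣ Q m) : p = 3 :=
  (Nat.prime_dvd_prime_iff_eq hp Nat.prime_three).mp (hp.dvd_of_dvd_pow h)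

section gen

variable {q : ℕ}

theorem le_sq (h : 1 ≤ q) : q ≤ q ^ 2 := by nlinarith

theorem not_int_dvd_one {p : ℕ} (hp : p.Prime) : ¬ (p : ℤ) ∣ 1 := by
  intro h
  have h' : p ∣ 1 := by exact_mod_cast h
  exact hp.one_lt.ne' (Nat.dvd_one.mp h')

/-- a prime divisor of `N = q ^ 2 - q + 1` divides none of `q`, `q - 1`, `q + 1` -/
theorem not_dvd_of_N {p : ℕ} (hp : p.Prime) (h1 : 1 ≤ q) (h3 : q % 3 = 0)
    (hpN : p ∣ q ^ 2 - q + 1) : ¬ p ∣ q ∧ ¬ p ∣ q - 1 ∧ ¬ p ∣ q + 1 := by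
  have hN : (p : ℤ) ∣ (q : ℤ) ^ 2 - q + 1 := by
    have := Int.natCast_dvd_natCast.mpr hpN
    rwa [Nat.cast_add, Nat.cast_sub (le_sq h1), Nat.cast_pow, Nat.cast_one] at this
  have hp1 := not_int_dvd_one hp
  have hq : ¬ p ∣ q := by
    intro h
    have h' : (p : ℤ) ∣ (q : ℤ) := by exact_mod_cast h
    have := dvd_sub hN (Dvd.dvd.mul_right h' ((q : ℤ) - 1))
    rw [show (q : ℤ) ^ 2 - q + 1 - (q : ℤ) * ((q : ℤ) - 1) = 1 by ring] at this
    exact hp1 this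
  refine ⟨hq, ?_, ?_⟩
  · intro h
    have h' : (p : ℤ) ∣ (q : ℤ) - 1 := by
      have := Int.natCast_dvd_natCast.mpr h
      rwa [Nat.cast_sub h1, Nat.cast_one] at this
    have := dvd_sub hN (Dvd.dvd.mul_right h' (q : ℤ))
    rw [show (q : ℤ) ^ 2 - q + 1 - ((q : ℤ) - 1) * (q : ℤ) = 1 by ring] at this
    exact hp1 this
  · intro h
    have h' : (p : ℤ) ∣ (q : ℤ) + 1 := by exact_mod_cast h
    have := dvd_sub hN (Dvd.dvd.mul_right h' ((q : ℤ) - 2))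
    rw [show (q : ℤ) ^ 2 - q + 1 - ((q : ℤ) + 1) * ((q : ℤ) - 2) = 3 by ring] at this
    have h3' : p ∣ 3 := by exact_mod_cast this
    have : p = 3 := (Nat.prime_dvd_prime_iff_eq hp Nat.prime_three).mp h3'
    subst this
    exact hq (Nat.dvd_of_mod_eq_zero h3)

theorem sq_sub_one (h1 : 1 ≤ q) : q ^ 2 - 1 = (q - 1) * (q + 1) := by
  have : 1 ≤ q ^ 2 := Nat.one_le_pow _ _ h1
  zify [h1, this]
  ring

theorem cube_add_one (h1 : 1 ≤ q) : q ^ 3 + 1 = (q + 1) * (q ^ 2 - q + 1) := by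
  zify [le_sq h1]
  ring

/-- a common prime divisor of `q - 1` and `q` does not exist -/
theorem not_dvd_pred_of_dvd {p : ℕ} (hp : p.Prime) (h1 : 1 ≤ q) (h : p ∣ q) : ¬ p ∣ q - 1 := by
  intro h'
  have := Nat.dvd_sub h h'
  rw [show q - (q - 1) = 1 by omega] at this
  exact hp.one_lt.ne' (Nat.dvd_one.mp this)

/-- a common prime divisor of `q + 1` and `q` does not exist -/
theorem not_dvd_succ_of_dvd {p : ℕ} (hp : p.Prime) (h : p ∣ q) : ¬ p ∣ q + 1 := by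
  intro h'
  have := Nat.dvd_sub h' h
  rw [show q + 1 - q = 1 by omega] at this
  exact hp.one_lt.ne' (Nat.dvd_one.mp this)

/-- a common prime divisor of `q - 1` and `q + 1` is `2` -/
theorem eq_two_of_dvd_pred_succ {p : ℕ} (hp : p.Prime) (h1 : 1 ≤ q) (h : p ∣ q - 1)
    (h' : p ∣ q + 1) : p = 2 := by
  have := Nat.dvd_sub h' h
  rw [show q + 1 - (q - 1) = 2 by omega] at this
  exact (Nat.prime_dvd_prime_iff_eq hp Nat.prime_two).mp this

theorem arith_gen (h27 : 27 ≤ q) (h8 : q % 8 = 3) (h3 : q % 3 = 0) :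
    27 ≤ q ∧ q % 8 = 3 ∧ q % 3 = 0 ∧ 4 * ((q + 1) / 4) = q + 1 ∧ (q + 1) / 4 % 2 = 1 ∧
    7 ≤ (q + 1) / 4 ∧ (q + 1) / 4 % 3 = 1 ∧ 2 * ((q - 1) / 2) = q - 1 ∧ (q - 1) / 2 % 2 = 1 ∧
    q ^ 3 + 1 = (q + 1) * (q ^ 2 - q + 1) ∧
    (q ^ 2 - q + 1).Coprime (q * (q ^ 2 - 1)) ∧ q ^ 2 - 1 = (q - 1) * (q + 1) ∧
    (q - 1).Coprime (q ^ 3) ∧ ((q + 1) / 4).Coprime (q ^ 3 * (q - 1)) := by
  have h1 : 1 ≤ q := by omega
  refine ⟨h27, h8, h3, by omega, by omega, by omega, by omega, by omega, by omega,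
    cube_add_one h1, ?_, sq_sub_one h1, ?_, ?_⟩
  · apply Nat.coprime_of_dvd
    intro p hp hpN hpq
    obtain ⟨a, b, c⟩ := not_dvd_of_N hp h1 h3 hpN
    rcases (Nat.Prime.dvd_mul hp).mp hpq with h | h
    · exact a h
    · rw [sq_sub_one h1] at h
      rcases (Nat.Prime.dvd_mul hp).mp h with h | h
      · exact b h
      · exact c h
  · apply Nat.coprime_of_dvd
    intro p hp hp1 hpq
    exact not_dvd_pred_of_dvd hp h1 (hp.dvd_of_dvd_pow hpq) hp1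
  · have hx : 4 * ((q + 1) / 4) = q + 1 := by omega
    have hx2 : (q + 1) / 4 % 2 = 1 := by omega
    apply Nat.coprime_of_dvd
    intro p hp hpx hpq
    have hp1 : p ∣ q + 1 := by
      rw [← hx]
      exact Dvd.dvd.mul_left hpx 4
    rcases (Nat.Prime.dvd_mul hp).mp hpq with h | h
    · exact not_dvd_succ_of_dvd hp (hp.dvd_of_dvd_pow h) hp1
    · have := eq_two_of_dvd_pred_succ hp h1 h hp1
      subst this
      omega

/-- `N = q ^ 2 - q + 1` is not divisible by `5` -/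
theorem not_five_dvd_N (h1 : 1 ≤ q) : ¬ 5 ∣ q ^ 2 - q + 1 := by
  intro h
  have hN : ((5 : ℕ) : ℤ) ∣ (q : ℤ) ^ 2 - q + 1 := by
    have := Int.natCast_dvd_natCast.mpr h
    rwa [Nat.cast_add, Nat.cast_sub (le_sq h1), Nat.cast_pow, Nat.cast_one] at this
  have h0 := (ZMod.intCast_zmod_eq_zero_iff_dvd _ 5).mpr hN
  have key : ∀ x : ZMod 5, x ^ 2 - x + 1 ≠ 0 := by decide
  apply key (q : ZMod 5)
  push_cast at h0
  exact h0

theorem arith_primes_gen (h27 : 27 ≤ q) (h8 : q % 8 = 3) (h3 : q % 3 = 0)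
    (hq3 : ∀ p : ℕ, p.Prime → p ∣ q → p = 3) (p : ℕ) (hp : p.Prime) :
    (p ∣ q * (q ^ 2 - 1) → p = 2 ∨ p = 3 ∨ (p ≠ 2 ∧ p ∣ q - 1) ∨ (p ≠ 2 ∧ p ∣ q + 1)) ∧
    (p ≠ 2 → p ∣ q - 1 →
      (q ^ 3 * (q - 1) * (q ^ 3 + 1)).factorization p = (q - 1).factorization p) ∧
    (p ≠ 2 → p ∣ q + 1 → p ≠ 3 ∧ 3 < p ∧ p ∣ (q + 1) / 4 ∧
      (q ^ 3 * (q - 1) * (q ^ 3 + 1)).factorization p = ((q + 1) / 4).factorization p) ∧
    (p ∣ q ^ 2 - q + 1 → 7 ≤ p ∧ ¬ p ∣ q * (q ^ 2 - 1) ∧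
      (q ^ 3 * (q - 1) * (q ^ 3 + 1)).factorization p = (q ^ 2 - q + 1).factorization p) ∧
    (p ∣ q ^ 3 * (q - 1) * (q ^ 3 + 1) → ¬ p ∣ q * (q ^ 2 - 1) → p ∣ q ^ 2 - q + 1) := by
  have h1 : 1 ≤ q := by omega
  have hq0 : q ^ 3 ≠ 0 := by positivity
  have hq10 : q - 1 ≠ 0 := by omega
  have hq20 : q + 1 ≠ 0 := by omega
  have hN0 : q ^ 2 - q + 1 ≠ 0 := by omega
  have hx : 4 * ((q + 1) / 4) = q + 1 := by omega
  have hx0 : (q + 1) / 4 ≠ 0 := by omega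
  have hc := cube_add_one h1
  refine ⟨?_, ?_, ?_, ?_, ?_⟩
  · intro h
    rcases (Nat.Prime.dvd_mul hp).mp h with h | h
    · exact Or.inr (Or.inl (hq3 p hp h))
    · rw [sq_sub_one h1] at h
      by_cases h2 : p = 2
      · exact Or.inl h2
      · rcases (Nat.Prime.dvd_mul hp).mp h with h | h
        · exact Or.inr (Or.inr (Or.inl ⟨h2, h⟩))
        · exact Or.inr (Or.inr (Or.inr ⟨h2, h⟩))
  · intro h2 hd
    have n1 : ¬ p ∣ q ^ 3 := fun h =>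
      not_dvd_pred_of_dvd hp h1 (hp.dvd_of_dvd_pow h) hd
    have n2 : ¬ p ∣ q ^ 3 + 1 := by
      intro h
      rw [hc] at h
      rcases (Nat.Prime.dvd_mul hp).mp h with h | h
      · exact h2 (eq_two_of_dvd_pred_succ hp h1 hd h)
      · exact (not_dvd_of_N hp h1 h3 h).2.1 hd
    rw [Nat.factorization_mul (mul_ne_zero hq0 hq10) (Nat.succ_ne_zero _),
      Nat.factorization_mul hq0 hq10]
    simp only [Finsupp.coe_add, Pi.add_apply]
    rw [Nat.factorization_eq_zero_of_not_dvd n1, Nat.factorization_eq_zero_of_not_dvd n2]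
    omega
  · intro h2 hd
    have hp3 : p ≠ 3 := by
      rintro rfl
      omega
    have hp4 : ¬ p ∣ 4 := by
      intro h
      have : p ∣ 2 := hp.dvd_of_dvd_pow (show p ∣ 2 ^ 2 from h)
      exact h2 ((Nat.prime_dvd_prime_iff_eq hp Nat.prime_two).mp this)
    have hpx : p ∣ (q + 1) / 4 := by
      rw [← hx] at hd
      rcases (Nat.Prime.dvd_mul hp).mp hd with h | h
      · exact absurd h hp4
      · exact h
    refine ⟨hp3, ?_, hpx, ?_⟩
    · have := hp.two_le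
      omega
    · have n1 : ¬ p ∣ q ^ 3 := fun h =>
        not_dvd_succ_of_dvd hp (hp.dvd_of_dvd_pow h) hd
      have n2 : ¬ p ∣ q - 1 := fun h => h2 (eq_two_of_dvd_pred_succ hp h1 h hd)
      have n3 : ¬ p ∣ q ^ 2 - q + 1 := fun h => (not_dvd_of_N hp h1 h3 h).2.2 hd
      generalize (q + 1) / 4 = x at hx hx0
      have h4x : 4 * x ≠ 0 := mul_ne_zero (by norm_num) hx0
      rw [hc, ← hx, Nat.factorization_mul (mul_ne_zero hq0 hq10) (mul_ne_zero h4x hN0),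
        Nat.factorization_mul hq0 hq10, Nat.factorization_mul h4x hN0,
        Nat.factorization_mul (by norm_num) hx0]
      simp only [Finsupp.coe_add, Pi.add_apply]
      rw [Nat.factorization_eq_zero_of_not_dvd n1, Nat.factorization_eq_zero_of_not_dvd n2,
        Nat.factorization_eq_zero_of_not_dvd n3, Nat.factorization_eq_zero_of_not_dvd hp4]
      omega
  · intro hd
    obtain ⟨a, b, c⟩ := not_dvd_of_N hp h1 h3 hd
    have hnd : ¬ p ∣ q * (q ^ 2 - 1) := by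
      intro h
      rcases (Nat.Prime.dvd_mul hp).mp h with h | h
      · exact a h
      · rw [sq_sub_one h1] at h
        rcases (Nat.Prime.dvd_mul hp).mp h with h | h
        · exact b h
        · exact c h
    refine ⟨?_, hnd, ?_⟩
    · by_contra hlt
      have hlt' : p < 7 := by omega
      have hp2 : p ≠ 2 := by
        rintro rfl
        exact b (by omega)
      have hp3 : p ≠ 3 := by
        rintro rfl
        exact a (by omega)
      have hp5 : p ≠ 5 := by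
        rintro rfl
        exact not_five_dvd_N h1 hd
      interval_cases p
      · exact absurd hp (by norm_num)
      · exact absurd hp (by norm_num)
      · exact hp2 rfl
      · exact hp3 rfl
      · exact absurd hp (by norm_num)
      · exact hp5 rfl
      · exact absurd hp (by norm_num)
    · have n1 : ¬ p ∣ q ^ 3 := fun h => a (hp.dvd_of_dvd_pow h)
      rw [hc, Nat.factorization_mul (mul_ne_zero hq0 hq10) (mul_ne_zero hq20 hN0),
        Nat.factorization_mul hq0 hq10, Nat.factorization_mul hq20 hN0]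
      simp only [Finsupp.coe_add, Pi.add_apply]
      rw [Nat.factorization_eq_zero_of_not_dvd n1, Nat.factorization_eq_zero_of_not_dvd b,
        Nat.factorization_eq_zero_of_not_dvd c]
      omega
  · intro hd hnd
    rw [hc] at hd
    rcases (Nat.Prime.dvd_mul hp).mp hd with h | h
    · exfalso
      rcases (Nat.Prime.dvd_mul hp).mp h with h | h
      · exact hnd (Dvd.dvd.mul_right (hp.dvd_of_dvd_pow h) _)
      · apply hnd
        rw [sq_sub_one h1]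
        exact Dvd.dvd.mul_left (Dvd.dvd.mul_right h _) _
    · rcases (Nat.Prime.dvd_mul hp).mp h with h | h
      · exfalso
        apply hnd
        rw [sq_sub_one h1]
        exact Dvd.dvd.mul_left (Dvd.dvd.mul_left h _) _
      · exact h

end gen

/-- PK ARITH. -/
theorem arith (m : ℕ) (hm : 1 ≤ m) :
    27 ≤ Q m ∧ Q m % 8 = 3 ∧ Q m % 3 = 0 ∧ 4 * ((Q m + 1) / 4) = Q m + 1 ∧ (Q m + 1) / 4 % 2 = 1 ∧
    7 ≤ (Q m + 1) / 4 ∧ (Q m + 1) / 4 % 3 = 1 ∧ 2 * ((Q m - 1) / 2) = Q m - 1 ∧ (Q m - 1) / 2 % 2 = 1 ∧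
    (Q m) ^ 3 + 1 = (Q m + 1) * ((Q m) ^ 2 - Q m + 1) ∧
    ((Q m) ^ 2 - Q m + 1).Coprime (Q m * ((Q m) ^ 2 - 1)) ∧ (Q m) ^ 2 - 1 = (Q m - 1) * (Q m + 1) ∧
    (Q m - 1).Coprime ((Q m) ^ 3) ∧ ((Q m + 1) / 4).Coprime ((Q m) ^ 3 * (Q m - 1)) := by
  obtain ⟨h27, h8, h3⟩ := Q_facts m hm
  exact arith_gen h27 h8 h3

/-- PK ARITH (second part): a prime dividing `q (q^2 - 1)` is `2`, `3`, or an odd prime dividing `q - 1` or `q + 1`;
the `p`-part of `|G|` for odd `p ∣ q - 1`, for odd `p ∣ q + 1`, and for `p ∣ q^2 - q + 1`. -/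
theorem arith_primes (m : ℕ) (hm : 1 ≤ m) (p : ℕ) (hp : p.Prime) :
    (p ∣ Q m * ((Q m) ^ 2 - 1) → p = 2 ∨ p = 3 ∨ (p ≠ 2 ∧ p ∣ Q m - 1) ∨ (p ≠ 2 ∧ p ∣ Q m + 1)) ∧
    (p ≠ 2 → p ∣ Q m - 1 →
      ((Q m) ^ 3 * (Q m - 1) * ((Q m) ^ 3 + 1)).factorization p = (Q m - 1).factorization p) ∧
    (p ≠ 2 → p ∣ Q m + 1 → p ≠ 3 ∧ 3 < p ∧ p ∣ (Q m + 1) / 4 ∧
      ((Q m) ^ 3 * (Q m - 1) * ((Q m) ^ 3 + 1)).factorization p = ((Q m + 1) / 4).factorization p) ∧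
    (p ∣ (Q m) ^ 2 - Q m + 1 → 7 ≤ p ∧ ¬ p ∣ Q m * ((Q m) ^ 2 - 1) ∧
      ((Q m) ^ 3 * (Q m - 1) * ((Q m) ^ 3 + 1)).factorization p = ((Q m) ^ 2 - Q m + 1).factorization p) ∧
    (p ∣ (Q m) ^ 3 * (Q m - 1) * ((Q m) ^ 3 + 1) → ¬ p ∣ Q m * ((Q m) ^ 2 - 1) → p ∣ (Q m) ^ 2 - Q m + 1) := by
  obtain ⟨h27, h8, h3⟩ := Q_facts m hm
  exact arith_primes_gen h27 h8 h3 (fun p' hp' h => prime_dvd_Q m hp' h) p hp

end Cfsg.Agent.Lib.Helper10_RH_ARITH
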