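import Mathlib

set_option autoImplicit false

/-!
# S2359 (architect helper37), package REETOR-ARITH59: arithmetic of `q = 3^(2m+1)`:
parities of `(q-1)/2`, `(q+1)/4`; `p`-parts of `|R| = q³(q-1)(q³+1)` for odd primes `p ∣ q - 1`, `p ∣ q + 1`.
-/

namespace Cfsg.Agent.Lib.Helper10_ReeTor_ARITH59

theorem pow_mod_eight (m : ℕ) : 3 ^ (2 * m + 1) % 8 = 3 := by
  rw [pow_succ, pow_mul, Nat.mul_mod, Nat.pow_mod]
  norm_num

theorem pow_mod_three (m : ℕ) : 3 ^ (2 * m + 1) % 3 = 0 := by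
  rw [pow_succ, Nat.mul_mod_left]

theorem arith59 (m : ℕ) :
    (3 ^ (2 * m + 1) - 1) / 2 % 2 = 1 ∧ 2 * ((3 ^ (2 * m + 1) - 1) / 2) = 3 ^ (2 * m + 1) - 1 ∧
    (3 ^ (2 * m + 1) + 1) / 4 % 2 = 1 ∧ 4 * ((3 ^ (2 * m + 1) + 1) / 4) = 3 ^ (2 * m + 1) + 1 := by
  have h := pow_mod_eight m
  generalize 3 ^ (2 * m + 1) = q at h
  omega

/-- general form, `q = r + 1`, odd prime `p ∣ r = q - 1` -/
theorem minus_aux (r p : ℕ) (hr : 1 ≤ r) (hp : p.Prime) (h2 : p ≠ 2) (hd : p ∣ r) :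
    ((r + 1) ^ 3 * r * ((r + 1) ^ 3 + 1)).factorization p = r.factorization p := by
  have hq0 : (r + 1) ^ 3 ≠ 0 := by positivity
  have hr0 : r ≠ 0 := by omega
  have hc0 : (r + 1) ^ 3 + 1 ≠ 0 := by positivity
  have h1 : ¬ p ∣ (r + 1) ^ 3 := by
    intro h
    have h' := hp.dvd_of_dvd_pow h
    have : p ∣ 1 := (Nat.dvd_add_right hd).1 h'
    exact hp.one_lt.ne' (Nat.dvd_one.1 this)
  have h3 : ¬ p ∣ (r + 1) ^ 3 + 1 := by
    intro h
    have e : (r + 1) ^ 3 + 1 = r * (r ^ 2 + 3 * r + 3) + 2 := by ring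
    rw [e] at h
    have : p ∣ 2 := (Nat.dvd_add_right (Dvd.dvd.mul_right hd _)).1 h
    have := (Nat.prime_dvd_prime_iff_eq hp Nat.prime_two).1 this
    exact h2 this
  rw [Nat.factorization_mul (mul_ne_zero hq0 hr0) hc0, Nat.factorization_mul hq0 hr0]
  simp only [Finsupp.coe_add, Pi.add_apply]
  rw [Nat.factorization_eq_zero_of_not_dvd h1, Nat.factorization_eq_zero_of_not_dvd h3]
  omega

theorem arith_minus (m p : ℕ) (hp : p.Prime) (h2 : p ≠ 2) (hd : p ∣ 3 ^ (2 * m + 1) - 1) :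
    ((3 ^ (2 * m + 1)) ^ 3 * (3 ^ (2 * m + 1) - 1) * ((3 ^ (2 * m + 1)) ^ 3 + 1)).factorization p =
      (3 ^ (2 * m + 1) - 1).factorization p := by
  have h := pow_mod_eight m
  have hpos : 1 ≤ 3 ^ (2 * m + 1) := Nat.one_le_pow _ _ (by norm_num)
  obtain ⟨r, hr⟩ : ∃ r, 3 ^ (2 * m + 1) = r + 1 :=
    ⟨3 ^ (2 * m + 1) - 1, (Nat.sub_add_cancel hpos).symm⟩
  rw [hr] at hd h ⊢
  rw [Nat.add_sub_cancel] at hd ⊢
  exact minus_aux r p (by omega) hp h2 hd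

/-- general form, `q = r + 1`, odd prime `p ∣ r + 2 = q + 1`, `3 ∣ q` -/
theorem plus_aux (r p : ℕ) (hr : 1 ≤ r) (h3 : (r + 1) % 3 = 0) (hp : p.Prime) (h2 : p ≠ 2)
    (hd : p ∣ r + 2) :
    ((r + 1) ^ 3 * r * ((r + 1) ^ 3 + 1)).factorization p =
      ((r + 1) * ((r + 1) ^ 2 - 1)).factorization p ∧
    ¬ p ∣ (r + 1) ^ 3 * r ∧ p ≠ 3 := by
  have hp3 : p ≠ 3 := by
    rintro rfl
    omega
  have hq0 : (r + 1) ^ 3 ≠ 0 := by positivity
  have hr0 : r ≠ 0 := by omega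
  have hc0 : (r + 1) ^ 3 + 1 ≠ 0 := by positivity
  have hq1 : ¬ p ∣ r + 1 := by
    intro h
    have : p ∣ 1 := by
      have e : r + 2 = (r + 1) + 1 := by ring
      rw [e] at hd
      exact (Nat.dvd_add_right h).1 hd
    exact hp.one_lt.ne' (Nat.dvd_one.1 this)
  have h1 : ¬ p ∣ (r + 1) ^ 3 := fun h => hq1 (hp.dvd_of_dvd_pow h)
  have hrn : ¬ p ∣ r := by
    intro h
    have : p ∣ 2 := (Nat.dvd_add_right h).1 hd
    exact h2 ((Nat.prime_dvd_prime_iff_eq hp Nat.prime_two).1 this)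
  have hs : ¬ p ∣ r ^ 2 + r + 1 := by
    intro h
    have e : r ^ 2 + r + 1 + (r + 2) = (r + 2) * r + 3 := by ring
    have h' : p ∣ (r + 2) * r + 3 := by
      rw [← e]
      exact Nat.dvd_add h hd
    have : p ∣ 3 := (Nat.dvd_add_right (Dvd.dvd.mul_right hd _)).1 h'
    exact hp3 ((Nat.prime_dvd_prime_iff_eq hp Nat.prime_three).1 this)
  have e1 : (r + 1) ^ 3 + 1 = (r + 2) * (r ^ 2 + r + 1) := by ring
  have e2 : (r + 1) * ((r + 1) ^ 2 - 1) = (r + 1) * r * (r + 2) := by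
    have : (r + 1) ^ 2 - 1 = r * (r + 2) := by
      have : (r + 1) ^ 2 = r * (r + 2) + 1 := by ring
      omega
    rw [this]
    ring
  have hs0 : r ^ 2 + r + 1 ≠ 0 := by positivity
  have hr2 : r + 2 ≠ 0 := by omega
  refine ⟨?_, ?_, hp3⟩
  · rw [e2, e1, Nat.factorization_mul (mul_ne_zero hq0 hr0) (mul_ne_zero hr2 hs0),
      Nat.factorization_mul hq0 hr0, Nat.factorization_mul hr2 hs0,
      Nat.factorization_mul (mul_ne_zero (by omega) hr0) hr2,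
      Nat.factorization_mul (by omega : r + 1 ≠ 0) hr0]
    simp only [Finsupp.coe_add, Pi.add_apply]
    rw [Nat.factorization_eq_zero_of_not_dvd h1, Nat.factorization_eq_zero_of_not_dvd hrn,
      Nat.factorization_eq_zero_of_not_dvd hs, Nat.factorization_eq_zero_of_not_dvd hq1]
    omega
  · intro h
    rcases (Nat.Prime.dvd_mul hp).1 h with h | h
    · exact h1 h
    · exact hrn h

theorem arith_plus (m p : ℕ) (hp : p.Prime) (h2 : p ≠ 2) (hd : p ∣ 3 ^ (2 * m + 1) + 1) :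
    ((3 ^ (2 * m + 1)) ^ 3 * (3 ^ (2 * m + 1) - 1) * ((3 ^ (2 * m + 1)) ^ 3 + 1)).factorization p =
      (3 ^ (2 * m + 1) * ((3 ^ (2 * m + 1)) ^ 2 - 1)).factorization p ∧
    ¬ p ∣ (3 ^ (2 * m + 1)) ^ 3 * (3 ^ (2 * m + 1) - 1) ∧ p ≠ 3 := by
  have h := pow_mod_eight m
  have h3 := pow_mod_three m
  have hpos : 1 ≤ 3 ^ (2 * m + 1) := Nat.one_le_pow _ _ (by norm_num)
  obtain ⟨r, hr⟩ : ∃ r, 3 ^ (2 * m + 1) = r + 1 :=
    ⟨3 ^ (2 * m + 1) - 1, (Nat.sub_add_cancel hpos).symm⟩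
  rw [hr] at hd h h3 ⊢
  rw [Nat.add_sub_cancel]
  exact plus_aux r p (by omega) h3 hp h2 hd

end Cfsg.Agent.Lib.Helper10_ReeTor_ARITH59
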