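import Mathlib

set_option autoImplicit false

/-!
# S2359 (architect helper37), package REETOR-PRODCENT: in `Z₂ × L`, if `C_L(y)` is cyclic of order `2n`,
`n` odd, the centraliser of `(i, y)` is `Z₂ × C_L(y)`: abelian of order `4n` without elements of order 4.
-/

namespace Cfsg.Agent.Lib.Helper10_ReeTor_PRODCENT

theorem mem_centralizer_prod_iff {L : Type*} [Group L] (w z : Multiplicative (ZMod 2) × L) :
    z ∈ Subgroup.centralizer ({w} : Set (Multiplicative (ZMod 2) × L)) ↔
      z.2 ∈ Subgroup.centralizer ({w.2} : Set L) := by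
  rw [Subgroup.mem_centralizer_iff, Subgroup.mem_centralizer_iff]
  constructor
  · intro h t ht
    rw [Set.mem_singleton_iff] at ht
    subst ht
    have := h w (Set.mem_singleton _)
    exact congrArg Prod.snd this
  · intro h t ht
    rw [Set.mem_singleton_iff] at ht
    subst ht
    apply Prod.ext
    · exact mul_comm _ _
    · exact h t.2 (Set.mem_singleton _)

theorem centralizer_prod_eq {L : Type*} [Group L] (w : Multiplicative (ZMod 2) × L) :
    Subgroup.centralizer ({w} : Set (Multiplicative (ZMod 2) × L)) =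
      (⊤ : Subgroup (Multiplicative (ZMod 2))).prod (Subgroup.centralizer ({w.2} : Set L)) := by
  ext z
  rw [mem_centralizer_prod_iff, Subgroup.mem_prod]
  exact ⟨fun h => ⟨Subgroup.mem_top _, h⟩, fun h => h.2⟩

theorem sq_eq_one_zmod2 : ∀ j : Multiplicative (ZMod 2), j ^ 2 = 1 := by decide

theorem prod_centralizer {L : Type*} [Group L] (y : L) (n : ℕ) (hn : Odd n)
    (hcyc : IsCyclic ↥(Subgroup.centralizer ({y} : Set L)))
    (hcard : Nat.card ↥(Subgroup.centralizer ({y} : Set L)) = 2 * n)
    (w : Multiplicative (ZMod 2) × L) (hw : w.2 = y) :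
    (∀ g ∈ Subgroup.centralizer ({w} : Set (Multiplicative (ZMod 2) × L)),
      ∀ k ∈ Subgroup.centralizer ({w} : Set (Multiplicative (ZMod 2) × L)), g * k = k * g) ∧
    Nat.card ↥(Subgroup.centralizer ({w} : Set (Multiplicative (ZMod 2) × L))) = 4 * n ∧
    ∀ z ∈ Subgroup.centralizer ({w} : Set (Multiplicative (ZMod 2) × L)), orderOf z ≠ 4 := by
  subst hw
  refine ⟨?_, ?_, ?_⟩
  · intro g hg k hk
    rw [mem_centralizer_prod_iff] at hg hk
    apply Prod.ext
    · exact mul_comm _ _
    · obtain ⟨c, hc⟩ := hcyc.exists_generator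
      obtain ⟨i, hi⟩ := Subgroup.mem_zpowers_iff.1 (hc ⟨g.2, hg⟩)
      obtain ⟨j, hj⟩ := Subgroup.mem_zpowers_iff.1 (hc ⟨k.2, hk⟩)
      have hi' : g.2 = ((c : L)) ^ i := by
        have := congrArg Subtype.val hi
        simpa using this.symm
      have hj' : k.2 = ((c : L)) ^ j := by
        have := congrArg Subtype.val hj
        simpa using this.symm
      show g.2 * k.2 = k.2 * g.2
      rw [hi', hj', ← zpow_add, ← zpow_add, add_comm]
  · rw [centralizer_prod_eq]
    rw [Nat.card_congr (Subgroup.prodEquiv _ _).toEquiv, Nat.card_prod, hcard]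
    have h2 : Nat.card ↥(⊤ : Subgroup (Multiplicative (ZMod 2))) = 2 := by
      rw [Subgroup.card_top, Nat.card_eq_fintype_card, Fintype.card_multiplicative, ZMod.card]
    rw [h2]
    ring
  · intro z hz h4
    rw [mem_centralizer_prod_iff] at hz
    have hz4 : z ^ 4 = 1 := by
      rw [← h4]
      exact pow_orderOf_eq_one z
    have ht4 : z.2 ^ 4 = 1 := by
      have := congrArg Prod.snd hz4
      simpa using this
    have htn : z.2 ^ (2 * n) = 1 := by
      have h := pow_card_eq_one' (G := ↥(Subgroup.centralizer ({w.2} : Set L))) (x := ⟨z.2, hz⟩)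
      rw [hcard] at h
      have := congrArg Subtype.val h
      simpa using this
    obtain ⟨k, rfl⟩ := hn
    have ht2 : z.2 ^ 2 = 1 := by
      have e : 2 * (2 * k + 1) = 4 * k + 2 := by ring
      rw [e, pow_add, pow_mul, ht4, one_pow, one_mul] at htn
      exact htn
    have hz2 : z ^ 2 = 1 := by
      apply Prod.ext
      · exact sq_eq_one_zmod2 z.1
      · exact ht2
    have hdvd : orderOf z ∣ 2 := orderOf_dvd_of_pow_eq_one hz2
    rw [h4] at hdvd
    omega

end Cfsg.Agent.Lib.Helper10_ReeTor_PRODCENT
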