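import Mathlib
import Cfsg.Prelude.Def_Transfer
import Cfsg.Prelude.Def_PLocal
import Cfsg.Agent.Lib.Helper10_Thompson

/-!
Thompson / Timmesfeld replacement (helper10): counting lemmas for a group `A` acting
(by conjugation inside an ambient finite group) on an elementary abelian `p`-subgroup `V`
with abelian image.
-/

set_option autoImplicit false
open Cfsg

namespace Cfsg.Agent.Lib.Helper10_Replacement

open scoped commutatorElement
open Cfsg.Agent.Lib.Helper10_Thompson

universe u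

variable {G : Type u} [Group G] {p : ℕ}

section Basic

variable {V A : Subgroup G} (hV : IsElementaryAbelian p V)
  (hAV : A ≤ Subgroup.normalizer (V : Set G))

include hAV in
theorem conj_mem {a v : G} (ha : a ∈ A) (hv : v ∈ V) : a * v * a⁻¹ ∈ V :=
  ((Subgroup.mem_normalizer_iff.1 (hAV ha)) v).1 hv

include hAV in
theorem comm_mem {a v : G} (ha : a ∈ A) (hv : v ∈ V) : ⁅v, a⁆ ∈ V := by
  have : ⁅v, a⁆ = v * (a * v⁻¹ * a⁻¹) := by rw [commutatorElement_def]; group
  rw [this]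
  exact V.mul_mem hv (conj_mem hAV ha (V.inv_mem hv))

include hV hAV in
theorem comm_mul {a v w : G} (ha : a ∈ A) (hv : v ∈ V) (hw : w ∈ V) :
    ⁅v * w, a⁆ = ⁅v, a⁆ * ⁅w, a⁆ := by
  have h1 : ⁅v * w, a⁆ = v * ⁅w, a⁆ * v⁻¹ * ⁅v, a⁆ := by
    simp only [commutatorElement_def]; group
  rw [h1, ← ea_comm hV (comm_mem hAV ha hw) hv, mul_inv_cancel_right,
    ea_comm hV (comm_mem hAV ha hw) (comm_mem hAV ha hv)]

include hV hAV in
theorem comm_inv {a v : G} (ha : a ∈ A) (hv : v ∈ V) : ⁅v⁻¹, a⁆ = ⁅v, a⁆⁻¹ := by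
  have h := comm_mul hV hAV ha hv (V.inv_mem hv)
  rw [mul_inv_cancel, commutatorElement_one_left] at h
  exact (eq_inv_of_mul_eq_one_right h.symm)

variable (hab : ⁅A, A⁆ ≤ Subgroup.centralizer (V : Set G))

include hAV hab in
/-- the action of `A` on `V` is commutative -/
theorem conj_conj_comm {a c v : G} (ha : a ∈ A) (hc : c ∈ A) (hv : v ∈ V) :
    c * (a * v * a⁻¹) * c⁻¹ = a * (c * v * c⁻¹) * a⁻¹ := by
  have h1 : ⁅c, a⁆ ∈ Subgroup.centralizer (V : Set G) :=
    hab (Subgroup.commutator_mem_commutator hc ha)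
  have h2 : a * (c * v * c⁻¹) * a⁻¹ ∈ V := conj_mem hAV ha (conj_mem hAV hc hv)
  have h3 := Subgroup.mem_centralizer_iff.1 h1 _ h2
  have h4 : c * (a * v * a⁻¹) * c⁻¹ = ⁅c, a⁆ * (a * (c * v * c⁻¹) * a⁻¹) * ⁅c, a⁆⁻¹ := by
    simp only [commutatorElement_def]; group
  rw [h4, ← h3, mul_inv_cancel_right]

end Basic

/-- `|X| · |C_V(X)|` -/
noncomputable def ff (V X : Subgroup G) : ℕ :=
  Nat.card X * Nat.card (V ⊓ Subgroup.centralizer (X : Set G) : Subgroup G)

theorem ff_def (V X : Subgroup G) :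
    ff V X = Nat.card X * Nat.card (V ⊓ Subgroup.centralizer (X : Set G) : Subgroup G) := rfl

/-- `[u, A]` for a single element `u`. -/
def commOne (A : Subgroup G) (u : G) : Subgroup G :=
  Subgroup.closure {g | ∃ a ∈ A, ⁅u, a⁆ = g}

section Cyclic

variable {V A : Subgroup G} (hV : IsElementaryAbelian p V)
  (hAV : A ≤ Subgroup.normalizer (V : Set G))
  (hab : ⁅A, A⁆ ≤ Subgroup.centralizer (V : Set G))

include hAV in
theorem commOne_le {u : G} (hu : u ∈ V) : commOne A u ≤ V := by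
  rw [commOne, Subgroup.closure_le]
  rintro _ ⟨a, ha, rfl⟩
  exact comm_mem hAV ha hu

include hV hAV hab in
theorem key_cyclic {u a a' : G} (hu : u ∈ V) (ha : a ∈ A) (ha' : a' ∈ A)
    (hz : ⁅u, a⁆⁻¹ * ⁅u, a'⁆ ∈ Subgroup.centralizer (A : Set G)) :
    a⁻¹ * a' ∈ Subgroup.centralizer (commOne A u : Set G) := by
  have hle : commOne A u ≤ Subgroup.centralizer ({a⁻¹ * a'} : Set G) := by
    rw [commOne, Subgroup.closure_le]
    rintro _ ⟨c, hc, rfl⟩
    rw [SetLike.mem_coe, Subgroup.mem_centralizer_iff]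
    intro g hg
    rw [Set.mem_singleton_iff] at hg
    subst hg
    have hzc := Subgroup.mem_centralizer_iff.1 hz c hc
    have hq1 : a * u * a⁻¹ ∈ V := conj_mem hAV ha hu
    have hq2 : a' * u * a'⁻¹ ∈ V := conj_mem hAV ha' hu
    have hcu : c * u * c⁻¹ ∈ V := conj_mem hAV hc hu
    have hp1 : a * (c * u * c⁻¹) * a⁻¹ ∈ V := conj_mem hAV ha hcu
    have hp2 : a' * (c * u * c⁻¹) * a'⁻¹ ∈ V := conj_mem hAV ha' hcu
    have hzq : ⁅u, a⁆⁻¹ * ⁅u, a'⁆ = (a * u * a⁻¹) * (a' * u * a'⁻¹)⁻¹ := by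
      simp only [commutatorElement_def]; group
    have h : (a * (c * u * c⁻¹) * a⁻¹) * (a' * (c * u * c⁻¹) * a'⁻¹)⁻¹
        = (a * u * a⁻¹) * (a' * u * a'⁻¹)⁻¹ := by
      rw [← conj_conj_comm hAV hab ha hc hu, ← conj_conj_comm hAV hab ha' hc hu]
      have : c * (a * u * a⁻¹) * c⁻¹ * (c * (a' * u * a'⁻¹) * c⁻¹)⁻¹
          = c * ((a * u * a⁻¹) * (a' * u * a'⁻¹)⁻¹) * c⁻¹ := by group
      rw [this, ← hzq, hzc, mul_inv_cancel_right]
    have h5 : (a * (c * u * c⁻¹) * a⁻¹) * (a * u * a⁻¹)⁻¹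
        = (a' * (c * u * c⁻¹) * a'⁻¹) * (a' * u * a'⁻¹)⁻¹ := by
      generalize a * (c * u * c⁻¹) * a⁻¹ = P1 at h hp1 ⊢
      generalize a' * (c * u * c⁻¹) * a'⁻¹ = P2 at h hp2 ⊢
      generalize a * u * a⁻¹ = Q1 at h hq1 ⊢
      generalize a' * u * a'⁻¹ = Q2 at h hq2 ⊢
      have hp1' : P1 = Q1 * (Q2⁻¹ * P2) := by
        calc P1 = (P1 * P2⁻¹) * P2 := by group
          _ = (Q1 * Q2⁻¹) * P2 := by rw [h]
          _ = Q1 * (Q2⁻¹ * P2) := by group
      have hc1 := ea_comm hV hq1 (V.mul_mem (V.inv_mem hq2) hp2)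
      have hc2 := ea_comm hV (V.inv_mem hq2) hp2
      rw [hp1', hc1, mul_inv_cancel_right, hc2]
    have h6 : a * (c * u * c⁻¹ * u⁻¹) * a⁻¹ = a' * (c * u * c⁻¹ * u⁻¹) * a'⁻¹ := by
      have e1 : a * (c * u * c⁻¹ * u⁻¹) * a⁻¹
          = (a * (c * u * c⁻¹) * a⁻¹) * (a * u * a⁻¹)⁻¹ := by group
      have e2 : a' * (c * u * c⁻¹ * u⁻¹) * a'⁻¹
          = (a' * (c * u * c⁻¹) * a'⁻¹) * (a' * u * a'⁻¹)⁻¹ := by group
      rw [e1, e2, h5]
    have h7 : Commute (c * u * c⁻¹ * u⁻¹) (a⁻¹ * a') := by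
      have : (c * u * c⁻¹ * u⁻¹) * (a⁻¹ * a')
          = a⁻¹ * (a * (c * u * c⁻¹ * u⁻¹) * a⁻¹) * a' := by group
      rw [Commute, SemiconjBy, this, h6]; group
    have h8 : ⁅u, c⁆ = (c * u * c⁻¹ * u⁻¹)⁻¹ := by
      rw [commutatorElement_def]; group
    rw [h8]
    exact h7.inv_left.eq.symm
  rw [Subgroup.mem_centralizer_iff]
  intro w hw
  exact ((Subgroup.mem_centralizer_iff.1 (hle hw)) _ rfl).symm

variable [Finite G]

include hV hAV hab in
theorem card_cyclic {u : G} (hu : u ∈ V) :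
    Nat.card A * Nat.card (commOne A u ⊓ (V ⊓ Subgroup.centralizer (A : Set G)) : Subgroup G)
      ≤ Nat.card (A ⊓ Subgroup.centralizer (commOne A u : Set G) : Subgroup G)
        * Nat.card (commOne A u) := by
  set W := commOne A u with hW
  set B := A ⊓ Subgroup.centralizer (W : Set G) with hB
  set C := V ⊓ Subgroup.centralizer (A : Set G) with hC
  let φ : A → W := fun a => ⟨⁅u, (a : G)⁆, Subgroup.subset_closure ⟨a, a.2, rfl⟩⟩
  have hinj : Function.Injective
      (fun q : A ⧸ B.subgroupOf A => (QuotientGroup.mk (φ q.out) : W ⧸ C.subgroupOf W)) := by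
    intro q q' h
    simp only at h
    rw [QuotientGroup.eq, Subgroup.mem_subgroupOf] at h
    have h1 : ⁅u, (q.out : G)⁆⁻¹ * ⁅u, (q'.out : G)⁆ ∈ Subgroup.centralizer (A : Set G) := by
      have : (((φ q.out)⁻¹ * φ q'.out : W) : G) = ⁅u, (q.out : G)⁆⁻¹ * ⁅u, (q'.out : G)⁆ := rfl
      rw [← this]
      exact h.2
    have h2 := key_cyclic hV hAV hab hu q.out.2 q'.out.2 h1
    have h3 : (q.out : A ⧸ B.subgroupOf A) = (q'.out : A ⧸ B.subgroupOf A) := by
      rw [QuotientGroup.eq, Subgroup.mem_subgroupOf]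
      exact ⟨A.mul_mem (A.inv_mem q.out.2) q'.out.2, h2⟩
    rwa [QuotientGroup.out_eq', QuotientGroup.out_eq'] at h3
  have hidx : B.relIndex A ≤ C.relIndex W := Nat.card_le_card_of_injective _ hinj
  have hA : Nat.card A = B.relIndex A * Nat.card B :=
    card_eq_relIndex_mul_card (inf_le_left : B ≤ A)
  have hWc : Nat.card W = C.relIndex W * Nat.card (W ⊓ C : Subgroup G) := by
    rw [card_eq_relIndex_mul_card (inf_le_left : W ⊓ C ≤ W), Subgroup.inf_relIndex_left]
  calc Nat.card A * Nat.card (W ⊓ C : Subgroup G)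
      = B.relIndex A * (Nat.card B * Nat.card (W ⊓ C : Subgroup G)) := by rw [hA]; ring
    _ ≤ C.relIndex W * (Nat.card B * Nat.card (W ⊓ C : Subgroup G)) :=
        Nat.mul_le_mul_right _ hidx
    _ = Nat.card B * Nat.card W := by rw [hWc]; ring

include hV hAV hab in
theorem cyclic_step (hbest : ∀ B : Subgroup G, B ≤ A → ff V B ≤ ff V A) {u : G} (hu : u ∈ V) :
    ff V (A ⊓ Subgroup.centralizer (commOne A u : Set G)) = ff V A ∧
    V ⊓ Subgroup.centralizer ((A ⊓ Subgroup.centralizer (commOne A u : Set G) : Subgroup G) : Set G)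
      = commOne A u ⊔ (V ⊓ Subgroup.centralizer (A : Set G)) := by
  set W := commOne A u with hW
  set B := A ⊓ Subgroup.centralizer (W : Set G) with hB
  set C := V ⊓ Subgroup.centralizer (A : Set G) with hC
  set CB := V ⊓ Subgroup.centralizer (B : Set G) with hCB
  have hle : W ⊔ C ≤ CB := by
    refine sup_le (le_inf (commOne_le hAV hu) ?_) (inf_le_inf_left _ ?_)
    · rw [Subgroup.le_centralizer_iff]; exact inf_le_right
    · exact Subgroup.centralizer_le inf_le_left
  have h1 := card_cyclic hV hAV hab hu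
  have h2 := card_mul_card_le_card_sup_mul_card_inf C W
  have h3 : Nat.card (W ⊔ C : Subgroup G) ≤ Nat.card CB := Subgroup.card_le_of_le hle
  have h4 : Nat.card B * Nat.card CB ≤ Nat.card A * Nat.card C := hbest B inf_le_left
  have hn : 0 < Nat.card (W ⊓ C : Subgroup G) := Nat.card_pos
  have hBpos : 0 < Nat.card B := Nat.card_pos
  rw [← hW, ← hC] at h1
  have h5 : Nat.card A * Nat.card C * Nat.card (W ⊓ C : Subgroup G)
      ≤ Nat.card B * Nat.card (W ⊔ C : Subgroup G) * Nat.card (W ⊓ C : Subgroup G) := by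
    calc Nat.card A * Nat.card C * Nat.card (W ⊓ C : Subgroup G)
        = (Nat.card A * Nat.card (W ⊓ C : Subgroup G)) * Nat.card C := by ring
      _ ≤ (Nat.card B * Nat.card W) * Nat.card C := Nat.mul_le_mul_right _ h1
      _ = Nat.card B * (Nat.card C * Nat.card W) := by ring
      _ ≤ Nat.card B * (Nat.card (C ⊔ W : Subgroup G) * Nat.card (W ⊓ C : Subgroup G)) :=
          Nat.mul_le_mul_left _ h2
      _ = Nat.card B * Nat.card (W ⊔ C : Subgroup G) * Nat.card (W ⊓ C : Subgroup G) := by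
          rw [sup_comm]; ring
  have h6 : Nat.card A * Nat.card C ≤ Nat.card B * Nat.card (W ⊔ C : Subgroup G) :=
    Nat.le_of_mul_le_mul_right h5 hn
  have h7 : Nat.card B * Nat.card (W ⊔ C : Subgroup G) ≤ Nat.card B * Nat.card CB :=
    Nat.mul_le_mul_left _ h3
  have h8 : Nat.card B * Nat.card CB = Nat.card A * Nat.card C :=
    le_antisymm h4 (h6.trans h7)
  refine ⟨h8, ?_⟩
  have h9 : Nat.card CB ≤ Nat.card (W ⊔ C : Subgroup G) := by
    have : Nat.card B * Nat.card CB ≤ Nat.card B * Nat.card (W ⊔ C : Subgroup G) := by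
      rw [h8]; exact h6
    exact Nat.le_of_mul_le_mul_left this hBpos
  exact (Subgroup.eq_of_le_of_card_ge hle h9).symm

end Cyclic

section Modular

theorem centralizer_sup (W₀ W₁ : Subgroup G) :
    Subgroup.centralizer ((W₀ ⊔ W₁ : Subgroup G) : Set G)
      = Subgroup.centralizer (W₀ : Set G) ⊓ Subgroup.centralizer (W₁ : Set G) := by
  apply le_antisymm
  · exact le_inf (Subgroup.centralizer_le (SetLike.coe_subset_coe.2 le_sup_left))
      (Subgroup.centralizer_le (SetLike.coe_subset_coe.2 le_sup_right))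
  · intro x hx
    have h0 : W₀ ≤ Subgroup.centralizer ({x} : Set G) := by
      intro w hw
      rw [Subgroup.mem_centralizer_iff]
      intro g hg
      rw [Set.mem_singleton_iff] at hg
      rw [hg]
      exact (Subgroup.mem_centralizer_iff.1 hx.1 w hw).symm
    have h1 : W₁ ≤ Subgroup.centralizer ({x} : Set G) := by
      intro w hw
      rw [Subgroup.mem_centralizer_iff]
      intro g hg
      rw [Set.mem_singleton_iff] at hg
      rw [hg]
      exact (Subgroup.mem_centralizer_iff.1 hx.2 w hw).symm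
    rw [Subgroup.mem_centralizer_iff]
    intro w hw
    exact ((Subgroup.mem_centralizer_iff.1 (sup_le h0 h1 hw)) x rfl).symm

variable [Finite G] {V A : Subgroup G}

theorem ff_pos (V X : Subgroup G) : 0 < ff V X := Nat.mul_pos Nat.card_pos Nat.card_pos

theorem modular_step (hbest : ∀ B : Subgroup G, B ≤ A → ff V B ≤ ff V A) {A₀ A₁ : Subgroup G}
    (h0 : A₀ ≤ A) (h1 : A₁ ≤ A) (e0 : ff V A₀ = ff V A) (e1 : ff V A₁ = ff V A) :
    ff V (A₀ ⊓ A₁) = ff V A ∧
    V ⊓ Subgroup.centralizer ((A₀ ⊓ A₁ : Subgroup G) : Set G)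
      = (V ⊓ Subgroup.centralizer (A₀ : Set G)) ⊔ (V ⊓ Subgroup.centralizer (A₁ : Set G)) := by
  set C₀ := V ⊓ Subgroup.centralizer (A₀ : Set G) with hC₀
  set C₁ := V ⊓ Subgroup.centralizer (A₁ : Set G) with hC₁
  set Ci := V ⊓ Subgroup.centralizer ((A₀ ⊓ A₁ : Subgroup G) : Set G) with hCi
  set Cs := V ⊓ Subgroup.centralizer ((A₀ ⊔ A₁ : Subgroup G) : Set G) with hCs
  have x1 := card_mul_card_le_card_sup_mul_card_inf A₀ A₁
  have x2 := card_mul_card_le_card_sup_mul_card_inf C₀ C₁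
  have l1 : C₀ ⊔ C₁ ≤ Ci :=
    sup_le (inf_le_inf_left _ (Subgroup.centralizer_le inf_le_left))
      (inf_le_inf_left _ (Subgroup.centralizer_le inf_le_right))
  have l2 : C₁ ⊓ C₀ ≤ Cs := by
    rw [hCs, centralizer_sup]
    exact le_inf (inf_le_left.trans inf_le_left)
      (le_inf (inf_le_right.trans inf_le_right) (inf_le_left.trans inf_le_right))
  have hd : Nat.card (C₀ ⊔ C₁ : Subgroup G) ≤ Nat.card Ci := Subgroup.card_le_of_le l1
  have he : Nat.card (C₁ ⊓ C₀ : Subgroup G) ≤ Nat.card Cs := Subgroup.card_le_of_le l2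
  have fs : ff V (A₀ ⊔ A₁) ≤ ff V A := hbest _ (sup_le h0 h1)
  have fi : ff V (A₀ ⊓ A₁) ≤ ff V A := hbest _ (inf_le_left.trans h0)
  have hm : 0 < ff V A := ff_pos V A
  rw [ff_def] at fs fi
  rw [← hCs] at fs
  rw [← hCi] at fi
  rw [inf_comm A₁ A₀] at x1
  rw [ff_def (V := V) (X := A₀ ⊓ A₁), ← hCi]
  -- abbreviations
  generalize hm' : ff V A = m at *
  rw [ff_def] at e0 e1
  rw [← hC₀] at e0
  rw [← hC₁] at e1
  generalize Nat.card A₀ = a0 at *
  generalize Nat.card A₁ = a1 at *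
  generalize Nat.card C₀ = c0 at *
  generalize Nat.card C₁ = c1 at *
  have hasp : 0 < Nat.card (A₀ ⊔ A₁ : Subgroup G) := Nat.card_pos
  have haip : 0 < Nat.card (A₀ ⊓ A₁ : Subgroup G) := Nat.card_pos
  have hcsp : 0 < Nat.card Cs := Nat.card_pos
  generalize Nat.card (A₀ ⊔ A₁ : Subgroup G) = as at *
  generalize Nat.card (A₀ ⊓ A₁ : Subgroup G) = ai at *
  generalize hdd : Nat.card (C₀ ⊔ C₁ : Subgroup G) = d at *
  generalize Nat.card (C₁ ⊓ C₀ : Subgroup G) = e at *
  generalize hcii : Nat.card Ci = ci at *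
  generalize Nat.card Cs = cs at *
  have stepA : m * m ≤ as * ai * (d * e) := by
    calc m * m = (a0 * c0) * (a1 * c1) := by rw [e0, e1]
      _ = (a0 * a1) * (c0 * c1) := by ring
      _ ≤ (as * ai) * (d * e) := Nat.mul_le_mul x1 x2
  have stepB : as * ai * (d * e) ≤ as * ai * (ci * cs) :=
    Nat.mul_le_mul_left _ (Nat.mul_le_mul hd he)
  have stepC : as * ai * (ci * cs) ≤ m * (ai * ci) := by
    calc as * ai * (ci * cs) = (as * cs) * (ai * ci) := by ring
      _ ≤ m * (ai * ci) := Nat.mul_le_mul_right _ fs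
  have stepD : m * (ai * ci) ≤ m * m := Nat.mul_le_mul_left _ fi
  have r1 : ai * ci = m := by
    apply le_antisymm fi
    exact Nat.le_of_mul_le_mul_left (stepA.trans (stepB.trans stepC)) hm
  have r2 : ci ≤ d := by
    have h3 : as * ai * (ci * cs) ≤ as * ai * (d * e) := (stepC.trans stepD).trans stepA
    have h4 : ci * cs ≤ d * e := Nat.le_of_mul_le_mul_left h3 (Nat.mul_pos hasp haip)
    have h5 : ci * cs ≤ d * cs := h4.trans (Nat.mul_le_mul_left _ he)
    exact Nat.le_of_mul_le_mul_right h5 hcsp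
  refine ⟨r1, ?_⟩
  refine (Subgroup.eq_of_le_of_card_ge l1 ?_).symm
  rw [hdd, hcii]
  exact r2

end Modular

section Main

variable [Finite G] {V A : Subgroup G} (hV : IsElementaryAbelian p V)
  (hAV : A ≤ Subgroup.normalizer (V : Set G))
  (hab : ⁅A, A⁆ ≤ Subgroup.centralizer (V : Set G))

omit [Finite G] in
theorem centralizer_bot' : Subgroup.centralizer (((⊥ : Subgroup G) : Subgroup G) : Set G) = ⊤ := by
  rw [eq_top_iff]
  intro x _
  rw [Subgroup.mem_centralizer_iff]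
  intro w hw
  rw [SetLike.mem_coe, Subgroup.mem_bot] at hw
  rw [hw, one_mul, mul_one]

omit [Finite G] in
theorem commutator_eq_iSup_commOne (U A : Subgroup G) :
    ⁅U, A⁆ = ⨆ u : U, commOne A (u : G) := by
  apply le_antisymm
  · rw [Subgroup.commutator_le]
    intro g₁ h₁ g₂ h₂
    exact (le_iSup (fun u : U => commOne A (u : G)) ⟨g₁, h₁⟩)
      (Subgroup.subset_closure ⟨g₂, h₂, rfl⟩)
  · refine iSup_le (fun u => ?_)
    rw [commOne, Subgroup.closure_le]
    rintro _ ⟨a, ha, rfl⟩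
    exact Subgroup.commutator_mem_commutator u.2 ha

include hV hAV hab in
/-- **Replacement**: if `A` maximizes `|X|·|C_V(X)|` over its subgroups then for every `U ≤ V`
the subgroup `C_A([U,A])` has the same product and fixed points `[U,A] C_V(A)`. -/
theorem replacement (hbest : ∀ B : Subgroup G, B ≤ A → ff V B ≤ ff V A)
    (U : Subgroup G) (hU : U ≤ V) :
    ff V (A ⊓ Subgroup.centralizer ((⁅U, A⁆ : Subgroup G) : Set G)) = ff V A ∧
    V ⊓ Subgroup.centralizer
        ((A ⊓ Subgroup.centralizer ((⁅U, A⁆ : Subgroup G) : Set G) : Subgroup G) : Set G)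
      = ⁅U, A⁆ ⊔ (V ⊓ Subgroup.centralizer (A : Set G)) := by
  classical
  have : Fintype U := Fintype.ofFinite U
  rw [commutator_eq_iSup_commOne, ← Finset.sup_univ_eq_iSup]
  refine Finset.sup_induction
    (p := fun W : Subgroup G => ff V (A ⊓ Subgroup.centralizer (W : Set G)) = ff V A ∧
      V ⊓ Subgroup.centralizer ((A ⊓ Subgroup.centralizer (W : Set G) : Subgroup G) : Set G)
        = W ⊔ (V ⊓ Subgroup.centralizer (A : Set G))) ?_ ?_ ?_
  · simp only [centralizer_bot', inf_top_eq, bot_sup_eq, and_self]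
  · intro W₀ P₀ W₁ P₁
    have hm := modular_step hbest (inf_le_left : A ⊓ Subgroup.centralizer (W₀ : Set G) ≤ A)
      (inf_le_left : A ⊓ Subgroup.centralizer (W₁ : Set G) ≤ A) P₀.1 P₁.1
    have heq : A ⊓ Subgroup.centralizer ((W₀ ⊔ W₁ : Subgroup G) : Set G)
        = (A ⊓ Subgroup.centralizer (W₀ : Set G)) ⊓ (A ⊓ Subgroup.centralizer (W₁ : Set G)) := by
      rw [centralizer_sup, inf_inf_distrib_left]
    rw [heq]
    refine ⟨hm.1, ?_⟩
    rw [hm.2, P₀.2, P₁.2]
    exact (sup_sup_distrib_right W₀ W₁ _).symm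
  · intro u _
    exact cyclic_step hV hAV hab hbest (hU u.2)

end Main

section Nilpotent

variable [Finite G] [hp : Fact p.Prime]

/-- A `p`-group `P` normalizing a `p`-group `V`: no nontrivial `X ≤ V` has `X ≤ [X, P]`. -/
theorem nilpotent_action_pgroup {V P X : Subgroup G} (hVp : IsPGroup p V) (hPp : IsPGroup p P)
    (hPV : P ≤ Subgroup.normalizer (V : Set G)) (hXV : X ≤ V) (hX : X ≤ ⁅X, P⁆) : X = ⊥ := by
  have hH : IsPGroup p (V ⊔ P : Subgroup G) := IsPGroup.to_sup_of_normal_left' hVp hPp hPV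
  have hnil : Group.IsNilpotent (V ⊔ P : Subgroup G) := hH.isNilpotent
  obtain ⟨n, hn⟩ := (Subgroup.isNilpotent_iff_lowerCentralSeries _).1 hnil
  have key : ∀ k, X ≤ (V ⊔ P).lowerCentralSeries k := by
    intro k
    induction k with
    | zero => exact hXV.trans le_sup_left
    | succ k ih =>
      rw [Subgroup.lowerCentralSeries_succ]
      exact hX.trans (Subgroup.commutator_mono ih le_sup_right)
  rw [eq_bot_iff, ← hn]
  exact key n

/-- The same for `A` acting on the elementary abelian `V` through an abelian group of exponent `p`. -/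
theorem nilpotent_action {V A X : Subgroup G} (hV : IsElementaryAbelian p V)
    (hAV : A ≤ Subgroup.normalizer (V : Set G))
    (hab : ⁅A, A⁆ ≤ Subgroup.centralizer (V : Set G))
    (hpow : ∀ a ∈ A, a ^ p ∈ Subgroup.centralizer (V : Set G))
    (hXV : X ≤ V) (hX : X ≤ ⁅X, A⁆) : X = ⊥ := by
  set C : Subgroup A := (A ⊓ Subgroup.centralizer (V : Set G)).subgroupOf A with hC
  have hCn : C.Normal := by
    refine ⟨fun c hc a => ?_⟩
    rw [hC, Subgroup.mem_subgroupOf] at hc ⊢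
    refine ⟨(a * c * a⁻¹).2, ?_⟩
    have h1 : ((a * c * a⁻¹ : A) : G) = ⁅(a : G), (c : G)⁆ * c := by
      simp only [commutatorElement_def, Subgroup.coe_mul, Subgroup.coe_inv]; group
    rw [h1]
    exact Subgroup.mul_mem _ (hab (Subgroup.commutator_mem_commutator a.2 c.2)) hc.2
  have hQ : IsPGroup p (A ⧸ C) := by
    intro q
    induction q using QuotientGroup.induction_on with
    | H a =>
      refine ⟨1, ?_⟩
      rw [pow_one, ← QuotientGroup.mk_pow, QuotientGroup.eq_one_iff, hC, Subgroup.mem_subgroupOf]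
      refine ⟨(a ^ p).2, ?_⟩
      rw [Subgroup.coe_pow]
      exact hpow a a.2
  obtain ⟨P₀⟩ : Nonempty (Sylow p A) := inferInstance
  have htop : (P₀ : Subgroup A) ⊔ C = ⊤ := by
    rw [← Subgroup.index_eq_one]
    obtain ⟨k, hk⟩ := (IsPGroup.iff_card (p := p)).1 hQ
    have h1 : ((P₀ : Subgroup A) ⊔ C).index ∣ p ^ k := by
      rw [← hk, ← Subgroup.index_eq_card]
      exact Subgroup.index_dvd_of_le le_sup_right
    obtain ⟨j, _, hj⟩ := (Nat.dvd_prime_pow hp.out).1 h1
    rcases Nat.eq_zero_or_pos j with h0 | hpos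
    · rw [hj, h0, pow_zero]
    · exfalso
      apply P₀.not_dvd_index
      have h2 : p ∣ ((P₀ : Subgroup A) ⊔ C).index := by
        rw [hj]; exact dvd_pow_self p hpos.ne'
      exact h2.trans (Subgroup.index_dvd_of_le le_sup_left)
  have hXP : X ≤ ⁅X, (P₀ : Subgroup A).map A.subtype⁆ := by
    refine hX.trans ?_
    rw [Subgroup.commutator_le]
    intro x hx a ha
    have hmem : (⟨a, ha⟩ : A) ∈ (P₀ : Subgroup A) ⊔ C := by rw [htop]; exact Subgroup.mem_top _
    rw [Subgroup.mem_sup_of_normal_right] at hmem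
    obtain ⟨s, hs, c, hc, hsc⟩ := hmem
    rw [hC, Subgroup.mem_subgroupOf] at hc
    have ha' : a = (s : G) * (c : G) := by
      have := congrArg Subtype.val hsc
      simpa using this.symm
    have hcx := Subgroup.mem_centralizer_iff.1 hc.2 x⁻¹ (V.inv_mem (hXV hx))
    have h1 : ⁅x, a⁆ = ⁅x, (s : G)⁆ := by
      rw [ha', commutatorElement_def, commutatorElement_def]
      calc x * ((s : G) * (c : G)) * x⁻¹ * ((s : G) * (c : G))⁻¹
          = x * (s : G) * ((c : G) * x⁻¹) * (c : G)⁻¹ * (s : G)⁻¹ := by group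
        _ = x * (s : G) * (x⁻¹ * (c : G)) * (c : G)⁻¹ * (s : G)⁻¹ := by rw [hcx]
        _ = x * (s : G) * x⁻¹ * (s : G)⁻¹ := by group
    rw [h1]
    exact Subgroup.commutator_mem_commutator hx ⟨s, hs, rfl⟩
  exact nilpotent_action_pgroup (ea_isPGroup hV) (P₀.2.map A.subtype)
    ((Subgroup.map_subtype_le _).trans hAV) hXV hXP

end Nilpotent

section Generators

variable {V A : Subgroup G} (hV : IsElementaryAbelian p V)
  (hAV : A ≤ Subgroup.normalizer (V : Set G))

include hV hAV in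
theorem comm_closure_le {S : Set G} (hS : S ⊆ V) {Y : Subgroup G}
    (h : ∀ s ∈ S, ∀ a ∈ A, ⁅s, a⁆ ∈ Y) : ⁅Subgroup.closure S, A⁆ ≤ Y := by
  rw [Subgroup.commutator_le]
  intro v hv a ha
  have key : v ∈ V ∧ ⁅v, a⁆ ∈ Y := by
    induction hv using Subgroup.closure_induction with
    | mem x hx => exact ⟨hS hx, h x hx a ha⟩
    | one => exact ⟨V.one_mem, by rw [commutatorElement_one_left]; exact Y.one_mem⟩
    | mul x y _ _ ihx ihy =>
      exact ⟨V.mul_mem ihx.1 ihy.1, by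
        rw [comm_mul hV hAV ha ihx.1 ihy.1]; exact Y.mul_mem ihx.2 ihy.2⟩
    | inv x _ ih =>
      exact ⟨V.inv_mem ih.1, by rw [comm_inv hV hAV ha ih.1]; exact Y.inv_mem ih.2⟩
  exact key.2

end Generators

section Nontrivial

/-- nontriviality is inherited by the Timmesfeld replacement `C_A([U, A])` of a best offender -/
theorem nontrivial_of_replacement [Finite G] [Fact p.Prime]
    (V A : Subgroup G) (hV : Cfsg.IsElementaryAbelian p V)
    (hAV : A ≤ Subgroup.normalizer (V : Set G)) (hA : Cfsg.IsBestOffenderOn p V A)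
    (U : Subgroup G) (hU : U ≤ V) (hne : ⁅V, A⁆ ≠ ⊥) :
    ⁅V, A ⊓ Subgroup.centralizer ((⁅U, A⁆ : Subgroup G) : Set G)⁆ ≠ ⊥ := by
  have hr := replacement hV hAV hA.2.1 hA.1 U hU
  intro hbot
  rw [Subgroup.commutator_eq_bot_iff_le_centralizer] at hbot
  have hVeq : V = ⁅U, A⁆ ⊔ (V ⊓ Subgroup.centralizer (A : Set G)) := by
    rw [← hr.2]; exact (inf_eq_left.2 hbot).symm
  have hUA : ⁅U, A⁆ ≤ V := by
    rw [Subgroup.commutator_le]
    intro u hu a ha
    exact comm_mem hAV ha (hU hu)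
  have hcl : Subgroup.closure (((⁅U, A⁆ : Subgroup G) : Set G) ∪
      ((V ⊓ Subgroup.centralizer (A : Set G) : Subgroup G) : Set G)) = V := by
    rw [Subgroup.closure_union, Subgroup.closure_eq, Subgroup.closure_eq]; exact hVeq.symm
  have hX : ⁅V, A⁆ ≤ ⁅⁅V, A⁆, A⁆ := by
    have := comm_closure_le hV hAV (S := ((⁅U, A⁆ : Subgroup G) : Set G) ∪
      ((V ⊓ Subgroup.centralizer (A : Set G) : Subgroup G) : Set G)) (Y := ⁅⁅V, A⁆, A⁆) ?_ ?_
    · rwa [hcl] at this
    · rintro x (hx | hx)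
      · exact hUA hx
      · exact hx.1
    · rintro x (hx | hx) a ha
      · exact Subgroup.commutator_mem_commutator
          (Subgroup.commutator_mono hU le_rfl hx) ha
      · have hc := Subgroup.mem_centralizer_iff.1 hx.2 a ha
        have : ⁅x, a⁆ = 1 := by
          rw [commutatorElement_eq_one_iff_mul_comm]; exact hc.symm
        rw [this]; exact Subgroup.one_mem _
  have hVA : ⁅V, A⁆ ≤ V := by
    rw [Subgroup.commutator_le]
    intro u hu a ha
    exact comm_mem hAV ha hu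
  exact hne (nilpotent_action hV hAV hA.2.1 hA.2.2 hVA hX)

end Nontrivial

end Cfsg.Agent.Lib.Helper10_Replacement
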