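import Mathlib

/-!
# S1906-L2a (architect helper76; author helper10)

2×2 matrices: the commutant of a non-scalar matrix `A` is `F[A]`; commuting non-scalar
involutions agree up to sign.
-/

set_option autoImplicit false

namespace Cfsg.Agent.Lib.Helper10_S1906_L2a

theorem commutant {F : Type*} [Field F] (A M : Matrix (Fin 2) (Fin 2) F)
    (hA : ∀ a : F, A ≠ a • (1 : Matrix (Fin 2) (Fin 2) F)) (hM : M * A = A * M) :
    ∃ a b : F, M = a • (1 : Matrix (Fin 2) (Fin 2) F) + b • A := by
  have e00 := congrFun (congrFun hM 0) 0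
  have e01 := congrFun (congrFun hM 0) 1
  have e10 := congrFun (congrFun hM 1) 0
  have e11 := congrFun (congrFun hM 1) 1
  simp only [Matrix.mul_apply, Fin.sum_univ_two] at e00 e01 e10 e11
  by_cases hq : A 0 1 = 0
  · by_cases hr : A 1 0 = 0
    · by_cases hps : A 0 0 = A 1 1
      · exfalso
        apply hA (A 0 0)
        ext i j
        fin_cases i <;> fin_cases j <;> simp [hq, hr, hps]
      · have hps' : A 0 0 - A 1 1 ≠ 0 := sub_ne_zero.mpr hps
        rw [hq] at e01
        rw [hr] at e10
        have hx : M 0 1 = 0 := by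
          have : M 0 1 * (A 0 0 - A 1 1) = 0 := by linear_combination -e01
          rcases mul_eq_zero.mp this with h | h
          · exact h
          · exact absurd h hps'
        have hy : M 1 0 = 0 := by
          have : M 1 0 * (A 0 0 - A 1 1) = 0 := by linear_combination e10
          rcases mul_eq_zero.mp this with h | h
          · exact h
          · exact absurd h hps'
        refine ⟨M 0 0 - (M 0 0 - M 1 1) / (A 0 0 - A 1 1) * A 0 0,
          (M 0 0 - M 1 1) / (A 0 0 - A 1 1), ?_⟩
        ext i j
        fin_cases i <;> fin_cases j <;> simp [hq, hr, hx, hy]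
        field_simp
        ring
    · refine ⟨M 0 0 - M 1 0 / A 1 0 * A 0 0, M 1 0 / A 1 0, ?_⟩
      ext i j
      fin_cases i <;> fin_cases j <;> simp
      · field_simp
        linear_combination -e11
      · field_simp
      · field_simp
        linear_combination e10
  · refine ⟨M 0 0 - M 0 1 / A 0 1 * A 0 0, M 0 1 / A 0 1, ?_⟩
    ext i j
    fin_cases i <;> fin_cases j <;> simp
    · field_simp
    · field_simp
      linear_combination -e00
    · field_simp
      linear_combination -e01

theorem invol_comm {F : Type*} [Field F] (h2 : (2 : F) ≠ 0) (A B : Matrix (Fin 2) (Fin 2) F)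
    (hA2 : A * A = 1) (hB2 : B * B = 1) (hA : A ≠ 1 ∧ A ≠ -1) (hB : B ≠ 1 ∧ B ≠ -1)
    (hAB : A * B = B * A) : B = A ∨ B = -A := by
  -- `A` is not scalar
  have hAns : ∀ c : F, A ≠ c • (1 : Matrix (Fin 2) (Fin 2) F) := by
    intro c hc
    have h1 : c * c = 1 := by
      have := congrFun (congrFun hA2 0) 0
      rw [hc] at this
      simpa [Matrix.mul_apply, Fin.sum_univ_two] using this
    have h3 : (c - 1) * (c + 1) = 0 := by linear_combination h1
    rcases mul_eq_zero.mp h3 with h | h
    · apply hA.1
      rw [hc, sub_eq_zero.mp h, one_smul]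
    · apply hA.2
      rw [hc, eq_neg_of_add_eq_zero_left h, neg_smul, one_smul]
  obtain ⟨a, b, hab⟩ := commutant A B hAns hAB.symm
  -- `B * B = (a² + b²) + 2ab A`
  have hBB : (a * a + b * b - 1) • (1 : Matrix (Fin 2) (Fin 2) F) + (2 * a * b) • A = 0 := by
    have h1 : B * B = (a * a + b * b) • (1 : Matrix (Fin 2) (Fin 2) F) + (2 * a * b) • A := by
      rw [hab]
      simp only [add_mul, mul_add, Matrix.smul_mul, Matrix.mul_smul, Matrix.one_mul, Matrix.mul_one,
        hA2, smul_smul]
      rw [show 2 * a * b = a * b + b * a by ring, add_smul, add_smul]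
      abel
    rw [hB2] at h1
    rw [sub_smul, one_smul]
    nth_rewrite 2 [h1]
    abel
  have hab0 : 2 * a * b = 0 := by
    by_contra hne
    apply hAns (-(a * a + b * b - 1) / (2 * a * b))
    have h1 : (2 * a * b) • A = (-(a * a + b * b - 1)) • (1 : Matrix (Fin 2) (Fin 2) F) := by
      rw [neg_smul]
      exact eq_neg_of_add_eq_zero_right hBB
    calc A = (2 * a * b)⁻¹ • ((2 * a * b) • A) := by rw [smul_smul, inv_mul_cancel₀ hne, one_smul]
      _ = (-(a * a + b * b - 1) / (2 * a * b)) • (1 : Matrix (Fin 2) (Fin 2) F) := by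
          rw [h1, smul_smul]
          congr 1
          field_simp
  rw [hab0, zero_smul, add_zero] at hBB
  have hsq : a * a + b * b = 1 := by
    have := congrFun (congrFun hBB 0) 0
    simp at this
    linear_combination this
  have hab0' : a * b = 0 := by
    have : 2 * (a * b) = 0 := by rw [← mul_assoc]; exact hab0
    rcases mul_eq_zero.mp this with h | h
    · exact absurd h h2
    · exact h
  rcases mul_eq_zero.mp hab0' with ha | hb
  · rw [ha, zero_smul, zero_add] at hab
    rw [ha, zero_mul, zero_add] at hsq
    have h3 : (b - 1) * (b + 1) = 0 := by linear_combination hsq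
    rcases mul_eq_zero.mp h3 with h | h
    · left
      rw [hab, sub_eq_zero.mp h, one_smul]
    · right
      rw [hab, eq_neg_of_add_eq_zero_left h, neg_smul, one_smul]
  · exfalso
    rw [hb, zero_smul, add_zero] at hab
    rw [hb, zero_mul, add_zero] at hsq
    have h3 : (a - 1) * (a + 1) = 0 := by linear_combination hsq
    rcases mul_eq_zero.mp h3 with h | h
    · apply hB.1
      rw [hab, sub_eq_zero.mp h, one_smul]
    · apply hB.2
      rw [hab, eq_neg_of_add_eq_zero_left h, neg_smul, one_smul]

end Cfsg.Agent.Lib.Helper10_S1906_L2a
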