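import Mathlib

set_option autoImplicit false

/-!
Definitions for S2153 (minimal index of proper subgroups of `SU_n(2)`, `n` even).

`QDat G W`: abstract datum of a 2-subgroup `Q` of a group `G` with a central involution `t`,
quotient `Q/⟨t⟩ ≅ W` (an elementary abelian 2-group, written additively), commutator form `β`,
squaring form `qf`, and a subgroup `K` normalising `Q`, centralising `t` and acting on `W`
through `ρ`.  All maps are total functions on `G`; the axioms only constrain them on `Q`, `K`.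
-/

namespace Cfsg.Agent.Lib.Helper33_U2Defs

/-- Abstract `Q_v`-datum. -/
structure QDat (G : Type*) [Group G] (W : Type*) [AddCommGroup W] where
  Q : Subgroup G
  K : Subgroup G
  t : G
  π : G → W
  β : W → W → ZMod 2
  qf : W → ZMod 2
  ρ : G → W → W

/-- The axioms of a `Q_v`-datum. -/
structure QDat.Ok {G : Type*} [Group G] {W : Type*} [AddCommGroup W] (D : QDat G W) : Prop where
  t_mem : D.t ∈ D.Q
  t_ne : D.t ≠ 1
  t_sq : D.t * D.t = 1
  π_mul : ∀ g ∈ D.Q, ∀ g' ∈ D.Q, D.π (g * g') = D.π g + D.π g'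
  π_surj : ∀ w : W, ∃ g ∈ D.Q, D.π g = w
  π_ker : ∀ g ∈ D.Q, D.π g = 0 → g = 1 ∨ g = D.t
  π_t : D.π D.t = 0
  two : ∀ w : W, w + w = 0
  comm : ∀ g ∈ D.Q, ∀ g' ∈ D.Q, g * g' = D.t ^ (D.β (D.π g) (D.π g')).val * (g' * g)
  sq : ∀ g ∈ D.Q, g * g = D.t ^ (D.qf (D.π g)).val
  β_add : ∀ w w' u : W, D.β (w + w') u = D.β w u + D.β w' u
  β_symm : ∀ w u : W, D.β w u = D.β u w
  β_nondeg : ∀ w : W, (∀ u, D.β w u = 0) → w = 0
  qf_add : ∀ w w' : W, D.qf (w + w') = D.qf w + D.qf w' + D.β w w'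
  K_conj_mem : ∀ k ∈ D.K, ∀ g ∈ D.Q, k * g * k⁻¹ ∈ D.Q
  K_conj_π : ∀ k ∈ D.K, ∀ g ∈ D.Q, D.π (k * g * k⁻¹) = D.ρ k (D.π g)
  K_t : ∀ k ∈ D.K, k * D.t = D.t * k

end Cfsg.Agent.Lib.Helper33_U2Defs
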