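import Mathlib
import Cfsg.Agent.Lib.Helper33_U2Defs

/-!
# S2153-RP (architect helper33; author helper10)

A `p`-subgroup `S` normalising a `p'`-subgroup `Q` that acts regularly on `Ω` has exactly
`|C_Q(S)|` fixed points.
-/

set_option autoImplicit false

namespace Cfsg.Agent.Lib.Helper10_S2153_RP

theorem RP {G : Type*} [Group G] {Ω : Type*} [MulAction G Ω] [Finite Ω] [Nonempty Ω]
    (Q S : Subgroup G) [Finite Q] [Finite S]
    (hreg : ∀ ω ω' : Ω, ∃! g : G, g ∈ Q ∧ g • ω = ω')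
    (hnorm : ∀ s ∈ S, ∀ g ∈ Q, s * g * s⁻¹ ∈ Q)
    (p : ℕ) [Fact p.Prime] (hS : IsPGroup p S) (hQ : ¬ p ∣ Nat.card Q) :
    Nat.card {ω : Ω // ∀ s ∈ S, s • ω = ω} = Nat.card {g : G // g ∈ Q ∧ ∀ s ∈ S, s * g = g * s} := by
  classical
  -- `|Ω| = |Q|`
  obtain ⟨ω₁⟩ := ‹Nonempty Ω›
  have hcard : Nat.card Ω = Nat.card Q := by
    symm
    apply Nat.card_congr
    refine Equiv.ofBijective (fun g : Q => (g : G) • ω₁) ⟨?_, ?_⟩
    · intro a b hab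
      obtain ⟨g, -, hg⟩ := hreg ω₁ ((a : G) • ω₁)
      have ha := hg a ⟨a.2, rfl⟩
      have hb := hg b ⟨b.2, hab.symm⟩
      exact Subtype.ext (ha.trans hb.symm)
    · intro ω
      obtain ⟨g, ⟨hgQ, hg⟩, -⟩ := hreg ω₁ ω
      exact ⟨⟨g, hgQ⟩, hg⟩
  -- `S` fixes a point
  have hfix : ∃ ω₀ : Ω, ∀ s ∈ S, s • ω₀ = ω₀ := by
    have h1 := hS.card_modEq_card_fixedPoints Ω
    have h2 : Nat.card (MulAction.fixedPoints S Ω) ≠ 0 := by
      intro h0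
      rw [h0, hcard] at h1
      exact hQ ((Nat.modEq_zero_iff_dvd).mp h1)
    have h3 : Nonempty (MulAction.fixedPoints S Ω) := by
      by_contra hne
      rw [not_nonempty_iff] at hne
      exact h2 Nat.card_of_isEmpty
    obtain ⟨⟨ω₀, hω₀⟩⟩ := h3
    exact ⟨ω₀, fun s hs => hω₀ ⟨s, hs⟩⟩
  obtain ⟨ω₀, hω₀⟩ := hfix
  symm
  apply Nat.card_congr
  refine Equiv.ofBijective
    (fun g : {g : G // g ∈ Q ∧ ∀ s ∈ S, s * g = g * s} =>
      (⟨(g : G) • ω₀, fun s hs => by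
        rw [← mul_smul, g.2.2 s hs, mul_smul, hω₀ s hs]⟩ : {ω : Ω // ∀ s ∈ S, s • ω = ω}))
    ⟨?_, ?_⟩
  · intro a b hab
    have hab' : (a : G) • ω₀ = (b : G) • ω₀ := congrArg Subtype.val hab
    obtain ⟨g, -, hg⟩ := hreg ω₀ ((a : G) • ω₀)
    have ha := hg a ⟨a.2.1, rfl⟩
    have hb := hg b ⟨b.2.1, hab'.symm⟩
    exact Subtype.ext (ha.trans hb.symm)
  · rintro ⟨ω, hω⟩
    obtain ⟨g, ⟨hgQ, hg⟩, huniq⟩ := hreg ω₀ ω
    refine ⟨⟨g, hgQ, fun s hs => ?_⟩, Subtype.ext hg⟩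
    have h1 : s * g * s⁻¹ = g := by
      apply huniq
      refine ⟨hnorm s hs g hgQ, ?_⟩
      have hs' : s⁻¹ • ω₀ = ω₀ := hω₀ s⁻¹ (S.inv_mem hs)
      rw [mul_smul, mul_smul, hs', hg, hω s hs]
    calc s * g = (s * g * s⁻¹) * s := by group
      _ = g * s := by rw [h1]

end Cfsg.Agent.Lib.Helper10_S2153_RP
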