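import Mathlib
import Cfsg.Agent.Lib.Helper94_Herm

set_option autoImplicit false

/-!
# UQ-FLD (helper27's unitary `Q_v` foundation layer): counting in a finite field with involution

`card_fixed`, `card_tr_fiber`, `card_skew`, `exists_sub_eq`, `card_hyp_pairs`.
-/

namespace Cfsg.Agent.Lib.Helper95_UQ_FLD

open Cfsg.Agent.Lib.Helper94_Herm

variable {F : Type*} [Field F] {σ : F →+* F}

/-- the trace `c ↦ c + σ c` as an additive hom -/
def trHom (σ : F →+* F) : F →+ F where
  toFun c := c + σ c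
  map_zero' := by simp
  map_add' a b := by simp only [map_add]; ring

theorem trHom_apply (c : F) : trHom σ c = c + σ c := rfl

theorem trHom_range (hσ : Invol σ) :
    ((trHom σ).range : Set F) = {a : F | σ a = a} := by
  ext a
  constructor
  · rintro ⟨c, rfl⟩
    show σ (c + σ c) = c + σ c
    rw [map_add, hσ.invol, add_comm]
  · intro ha
    obtain ⟨l, hl⟩ := tr_surj hσ a ha
    exact ⟨l, hl⟩

/-- `F ≃ F₀ × F₀` via `x = r + s ω`. -/
theorem card_fixed_sq [Finite F] (hσ : Invol σ) :
    Nat.card F = Nat.card {a : F // σ a = a} * Nat.card {a : F // σ a = a} := by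
  obtain ⟨ω, hω⟩ := hσ.ne_id
  rw [← Nat.card_prod]
  symm
  apply Nat.card_congr
  refine Equiv.ofBijective (fun p : {a : F // σ a = a} × {a : F // σ a = a} =>
    (p.1 : F) + (p.2 : F) * ω) ⟨?_, ?_⟩
  · rintro ⟨⟨r, hr⟩, ⟨s, hs⟩⟩ ⟨⟨r', hr'⟩, ⟨s', hs'⟩⟩ h
    simp only at h
    have h2 := congrArg σ h
    simp only [map_add, map_mul, hr, hs, hr', hs'] at h2
    have hd : ω - σ ω ≠ 0 := fun h0 => hω (sub_eq_zero.mp h0).symm
    have h3 : (s - s') * (ω - σ ω) = 0 := by linear_combination h - h2
    have h4 : s = s' := by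
      rcases mul_eq_zero.mp h3 with h5 | h5
      · exact sub_eq_zero.mp h5
      · exact absurd h5 hd
    subst h4
    have h5 : r = r' := by linear_combination h
    subst h5
    rfl
  · intro x
    obtain ⟨r, s, hr, hs, hx⟩ := decomp hσ hω x
    exact ⟨(⟨r, hr⟩, ⟨s, hs⟩), hx.symm⟩

/-- **UQ-FLD**.  The fixed field of `σ` has `q` elements. -/
theorem card_fixed [Finite F] (hσ : Invol σ) {q : ℕ} (hF : Nat.card F = q ^ 2) :
    Nat.card {a : F // σ a = a} = q := by
  have h := card_fixed_sq hσ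
  rw [hF] at h
  have h2 : (Nat.card {a : F // σ a = a}) ^ 2 = q ^ 2 := by rw [h]; ring
  exact Nat.pow_left_injective (by norm_num : 2 ≠ 0) h2

theorem card_tr_ker [Finite F] (hσ : Invol σ) {q : ℕ} (hF : Nat.card F = q ^ 2) :
    Nat.card ↥(trHom σ).ker = q := by
  have h1 : Nat.card F = Nat.card (F ⧸ (trHom σ).ker) * Nat.card ↥(trHom σ).ker :=
    AddSubgroup.card_eq_card_quotient_mul_card_addSubgroup _
  have h2 : Nat.card (F ⧸ (trHom σ).ker) = Nat.card ↥(trHom σ).range :=
    Nat.card_congr (QuotientAddGroup.quotientKerEquivRange (trHom σ)).toEquiv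
  have h3 : Nat.card ↥(trHom σ).range = q := by
    rw [← card_fixed hσ hF]
    apply Nat.card_congr
    exact Equiv.subtypeEquivRight (fun a => by
      have := Set.ext_iff.mp (trHom_range hσ) a
      exact this)
  rw [h2, h3, hF] at h1
  have hq : 0 < q := by
    rcases Nat.eq_zero_or_pos q with h0 | h0
    · subst h0
      have : Nat.card F = 0 := by rw [hF]; norm_num
      have hpos : 0 < Nat.card F := Nat.card_pos
      omega
    · exact h0
  have h4 : q * q = q * Nat.card ↥(trHom σ).ker := by rw [← h1]; ring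
  exact (Nat.eq_of_mul_eq_mul_left hq h4).symm

/-- **UQ-FLD**.  Fibres of the trace over the fixed field have `q` elements. -/
theorem card_tr_fiber [Finite F] (hσ : Invol σ) {q : ℕ} (hF : Nat.card F = q ^ 2) {a : F}
    (ha : σ a = a) : Nat.card {c : F // c + σ c = a} = q := by
  obtain ⟨c₀, hc₀⟩ := tr_surj hσ a ha
  rw [← card_tr_ker hσ hF]
  apply Nat.card_congr
  refine ⟨fun c => ⟨(c : F) - c₀, ?_⟩, fun d => ⟨(d : F) + c₀, ?_⟩, ?_, ?_⟩
  · rw [AddMonoidHom.mem_ker, trHom_apply, map_sub]
    have := c.2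
    linear_combination this - hc₀
  · have hd : trHom σ (d : F) = 0 := d.2
    rw [trHom_apply] at hd
    rw [map_add]
    linear_combination hd + hc₀
  · intro c
    apply Subtype.ext
    simp
  · intro d
    apply Subtype.ext
    simp

/-- **UQ-FLD**.  There are `q` skew elements. -/
theorem card_skew [Finite F] (hσ : Invol σ) {q : ℕ} (hF : Nat.card F = q ^ 2) :
    Nat.card {c : F // σ c = -c} = q := by
  rw [← card_tr_fiber hσ hF (a := 0) (map_zero σ)]
  apply Nat.card_congr
  exact Equiv.subtypeEquivRight (fun c => by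
    constructor
    · intro h
      rw [h]; ring
    · intro h
      linear_combination h)

/-- **UQ-FLD**.  `z ↦ z - σ z` maps onto the skew elements. -/
theorem exists_sub_eq (hσ : Invol σ) {t : F} (ht : σ t = -t) : ∃ z : F, z - σ z = t := by
  obtain ⟨θ, hθ⟩ := exists_tr_ne_zero hσ
  refine ⟨t * θ / (θ + σ θ), ?_⟩
  rw [map_div₀, map_mul, map_add, hσ.invol, ht, add_comm (σ θ) θ]
  field_simp
  ring

/-- for `b ≠ 0`, the `a` with `a σ b + σ a b = s` are in bijection with a trace fibre -/
theorem card_hyp_fiber [Finite F] (hσ : Invol σ) {q : ℕ} (hF : Nat.card F = q ^ 2) {s : F}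
    (hs : σ s = s) {b : F} (hb : b ≠ 0) :
    Nat.card {a : F // a * σ b + σ a * b = s} = q := by
  have hsb : σ b ≠ 0 := by
    intro h0
    apply hb
    have := congrArg σ h0
    rwa [hσ.invol, map_zero] at this
  rw [← card_tr_fiber hσ hF hs]
  apply Nat.card_congr
  refine ⟨fun a => ⟨(a : F) * σ b, ?_⟩, fun c => ⟨(c : F) / σ b, ?_⟩, ?_, ?_⟩
  · rw [map_mul, hσ.invol]
    exact a.2
  · rw [map_div₀, hσ.invol]
    have h1 := c.2
    have h2 : (c : F) / σ b * σ b + σ (c : F) / b * b = (c : F) + σ (c : F) := by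
      field_simp
    rw [h2, h1]
  · intro a
    apply Subtype.ext
    simp only
    field_simp
  · intro c
    apply Subtype.ext
    simp only
    field_simp

/-- **UQ-FLD**.  Number of pairs `(a,b)` with `a σ(b) + σ(a) b = s` (`s` fixed by `σ`). -/
theorem card_hyp_pairs [Finite F] [DecidableEq F] (hσ : Invol σ) {q : ℕ} (hF : Nat.card F = q ^ 2)
    {s : F} (hs : σ s = s) :
    Nat.card {p : F × F // p.1 * σ p.2 + σ p.1 * p.2 = s} =
      (q ^ 2 - 1) * q + (if s = 0 then q ^ 2 else 0) := by
  classical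
  letI : Fintype F := Fintype.ofFinite F
  have e : {p : F × F // p.1 * σ p.2 + σ p.1 * p.2 = s} ≃
      Σ b : F, {a : F // a * σ b + σ a * b = s} :=
    { toFun := fun p => ⟨p.1.2, ⟨p.1.1, p.2⟩⟩
      invFun := fun x => ⟨(x.2.1, x.1), x.2.2⟩
      left_inv := fun p => rfl
      right_inv := fun x => rfl }
  rw [Nat.card_congr e, Nat.card_sigma]
  have h0 : Nat.card {a : F // a * σ (0 : F) + σ a * (0 : F) = s} = if s = 0 then q ^ 2 else 0 := by
    split_ifs with hs0
    · rw [← hF]
      apply Nat.card_congr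
      refine (Equiv.subtypeUnivEquiv (fun a => ?_))
      rw [map_zero, mul_zero, mul_zero, add_zero, hs0]
    · rw [Nat.card_eq_zero]
      left
      constructor
      rintro ⟨a, ha⟩
      rw [map_zero, mul_zero, mul_zero, add_zero] at ha
      exact hs0 ha.symm
  rw [← Finset.sum_erase_add _ _ (Finset.mem_univ (0 : F)), h0]
  congr 1
  rw [Finset.sum_congr rfl (fun b hb => card_hyp_fiber hσ hF hs (Finset.ne_of_mem_erase hb)),
    Finset.sum_const, Finset.card_erase_of_mem (Finset.mem_univ _), Finset.card_univ,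
    ← Nat.card_eq_fintype_card, hF, smul_eq_mul]

end Cfsg.Agent.Lib.Helper95_UQ_FLD
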