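import Mathlib
import Cfsg.Agent.Lib.Helper27_UQDefs
import Cfsg.Agent.Lib.Helper27_UQ_KISO
import Cfsg.Agent.Lib.Helper95_UQ_FLD

set_option autoImplicit false
set_option linter.unusedSectionVars false
set_option linter.unusedVariables false
set_option linter.unusedSimpArgs false

open Module Cfsg.Agent.Lib.Helper94_Symp Cfsg.Agent.Lib.Helper94_Herm
  Cfsg.Agent.Lib.Helper94_HermEich Cfsg.Agent.Lib.Helper94_HermPara
  Cfsg.Agent.Lib.Helper94_HermTrans
  Cfsg.Agent.Lib.Helper13_SUGen Cfsg.Agent.Lib.Helper13_PSUSimple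
  Cfsg.Agent.Lib.Helper46_U3TI Cfsg.Agent.Lib.Helper14_PSULocal1
  Cfsg.Agent.Lib.Helper27_UQDefs

/-!
# UQ-CARD (helper27): orders of `Xv`, `Qv`, `Wsub`; `finrank W + 2 = finrank V`
Spec: pending/helper27/UQ_packages.lean.txt.  Verbatim: `card_Xv`, `card_Qv`, `finrank_Wsub`, `card_Wsub`.
Extras: `hyp_ne_zero`, `utv_inj`, `eich_inj'`, `XvEquiv`, `QvEquiv`.
-/

namespace Cfsg.Agent.Lib.Helper27_UQ_CARD

variable {F V : Type*} [Field F] [AddCommGroup V] [Module F V] {σ : F →+* F}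
variable {B : V →ₗ[F] V →ₛₗ[σ] F}

theorem hyp_ne_zero {v v' : V} (h : HypPair B v v') : v ≠ 0 := by
  intro h0
  have := h.ef
  rw [h0] at this
  simp at this

theorem utv_inj {v v' : V} (h : HypPair B v v') {c c' : F} (hcc : utv B v c = utv B v c') :
    c = c' := by
  have h1 := congrArg (fun g : V ≃ₗ[F] V => g v') hcc
  simp only [utv_e_f h] at h1
  have h2 : c • v = c' • v := add_left_cancel h1
  have h3 : (c - c') • v = 0 := by rw [sub_smul, h2, sub_self]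
  rcases smul_eq_zero.mp h3 with h4 | h4
  · exact sub_eq_zero.mp h4
  · exact absurd h4 (hyp_ne_zero h)

theorem eich_inj' (hB : IsHerm B) {v v' : V} (h : HypPair B v v') {w w' : V}
    (hw : w ∈ Wsub B v v') (hw' : w' ∈ Wsub B v v') {c c' : F}
    (heq : eich B v w c = eich B v w' c') : w = w' ∧ c = c' :=
  eich_inj h hw.1 hw.2 (herm_eq_zero hB hw.1) (herm_eq_zero hB hw.2) hw'.1 hw'.2
    (herm_eq_zero hB hw'.1) (herm_eq_zero hB hw'.2) heq

/-- `Xv ≃ {c // σ c = -c}` -/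
noncomputable def XvEquiv {v v' : V} (h : HypPair B v v') : {c : F // σ c = -c} ≃ ↥(Xv B v) :=
  Equiv.ofBijective (fun c => ⟨utv B v c.1, utv_mem_Xv B v c.2⟩) (by
    constructor
    · intro c c' hcc
      apply Subtype.ext
      exact utv_inj h (congrArg Subtype.val hcc)
    · rintro ⟨g, c, hc, rfl⟩
      exact ⟨⟨c, hc⟩, rfl⟩)

theorem card_Xv [Finite F] (hσ : Invol σ) {q : ℕ} (hF : Nat.card F = q ^ 2) {v v' : V}
    (h : HypPair B v v') : Nat.card ↥(Xv B v) = q := by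
  rw [← Nat.card_congr (XvEquiv h)]
  exact Cfsg.Agent.Lib.Helper95_UQ_FLD.card_skew hσ hF

/-- `Qv ≃ Σ w : W, {c // c + σ c = -(B w w)}` -/
noncomputable def QvEquiv (hB : IsHerm B) {v v' : V} (h : HypPair B v v') :
    (Σ w : ↥(Wsub B v v'), {c : F // c + σ c = -(B (w : V) (w : V))}) ≃ ↥(Qv B v) :=
  Equiv.ofBijective
    (fun p => ⟨eich B v (p.1 : V) p.2.1,
      (mem_Qv_iff_eich hB h _).mpr ⟨(p.1 : V), p.2.1, p.1.2, p.2.2, rfl⟩⟩) (by
    constructor
    · rintro ⟨⟨w, hw⟩, ⟨c, hc⟩⟩ ⟨⟨w', hw'⟩, ⟨c', hc'⟩⟩ hcc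
      have h1 := eich_inj' hB h hw hw' (congrArg Subtype.val hcc)
      obtain ⟨rfl, rfl⟩ := h1
      rfl
    · rintro ⟨g, hg⟩
      obtain ⟨w, c, hw, hc, rfl⟩ := (mem_Qv_iff_eich hB h g).mp hg
      exact ⟨⟨⟨w, hw⟩, ⟨c, hc⟩⟩, rfl⟩)

theorem card_Qv [Finite F] [Module.Finite F V] (hσ : Invol σ) (hB : IsHerm B) {q : ℕ}
    (hF : Nat.card F = q ^ 2) {v v' : V} (h : HypPair B v v') :
    Nat.card ↥(Qv B v) = Nat.card ↥(Wsub B v v') * q := by
  have : Finite V := Module.finite_of_finite F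
  let _ : Fintype ↥(Wsub B v v') := Fintype.ofFinite _
  have hfib : ∀ w : ↥(Wsub B v v'),
      Nat.card {c : F // c + σ c = -(B (w : V) (w : V))} = q := fun w =>
    Cfsg.Agent.Lib.Helper95_UQ_FLD.card_tr_fiber hσ hF (by rw [map_neg, herm_self hB])
  rw [← Nat.card_congr (QvEquiv hB h), Nat.card_sigma]
  simp only [hfib]
  rw [Finset.sum_const, Finset.card_univ, smul_eq_mul, Nat.card_eq_fintype_card]

theorem finrank_Wsub [FiniteDimensional F V] {v v' : V} (h : HypPair B v v') :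
    finrank F ↥(Wsub B v v') + 2 = finrank F V := by
  have h1 := LinearEquiv.finrank_eq (Cfsg.Agent.Lib.Helper27_UQ_KISO.splitEquiv h)
  rw [h1, Module.finrank_prod, Module.finrank_prod, Module.finrank_self]
  ring

theorem card_Wsub [Finite F] [FiniteDimensional F V] {q : ℕ} (hF : Nat.card F = q ^ 2)
    {v v' : V} (h : HypPair B v v') :
    Nat.card ↥(Wsub B v v') = q ^ (2 * (finrank F V - 2)) := by
  have h1 := finrank_Wsub h
  have h2 : finrank F V - 2 = finrank F ↥(Wsub B v v') := by omega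
  rw [h2, Module.natCard_eq_pow_finrank (K := F) (V := ↥(Wsub B v v')), hF, ← pow_mul]

end Cfsg.Agent.Lib.Helper27_UQ_CARD
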