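import Mathlib
import Cfsg.Agent.Lib.Helper27_UQDefs
import Cfsg.Agent.Lib.Helper27_UQ_KISO
import Cfsg.Agent.Lib.Helper27_UQ_GEN

set_option autoImplicit false
set_option linter.unusedSectionVars false
set_option linter.unusedVariables false
set_option linter.unusedSimpArgs false

open Module Cfsg.Agent.Lib.Helper94_Symp Cfsg.Agent.Lib.Helper94_Herm
  Cfsg.Agent.Lib.Helper94_HermEich Cfsg.Agent.Lib.Helper94_HermPara
  Cfsg.Agent.Lib.Helper94_HermTrans
  Cfsg.Agent.Lib.Helper13_SUGen Cfsg.Agent.Lib.Helper13_PSUSimple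
  Cfsg.Agent.Lib.Helper46_U3TI Cfsg.Agent.Lib.Helper14_PSULocal1
  Cfsg.Agent.Lib.Helper27_UQDefs

/-!
# UQ-GEO3 (helper27): raw geometric forms of `hroot`, `hnot`, `hline` of `abstract_main`
* `Xv_le_Kv hB h (hu : u ∈ Wsub B v v') : Xv B u ≤ Kv B v v'`, `exists_iso_Wsub` (isotropic `u ≠ 0` in `W`, dim `W ≥ 2`).
* `exists_Xv_not_le` : `¬ SUg B ≤ H` ⟹ some root element outside `H` (dim ≥ 4).
* `exists_Qv_line` : `Q_u` is transitive on the points `≠ u` of a t.i. line through `u`; `hline_raw`.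
-/

namespace Cfsg.Agent.Lib.Helper27_UQ_GEO3

variable {F V : Type*} [Field F] [AddCommGroup V] [Module F V] {σ : F →+* F}
variable {B : V →ₗ[F] V →ₛₗ[σ] F}

/-! ### hroot -/

/-- root groups with centre in `W` lie in `Kv` -/
theorem Xv_le_Kv (hB : IsHerm B) {v v' : V} (h : HypPair B v v') {u : V}
    (hu : u ∈ Wsub B v v') : Xv B u ≤ Kv B v v' := by
  rintro g ⟨c, hc, rfl⟩
  by_cases huu : B u u = 0
  · exact Cfsg.Agent.Lib.Helper27_UQ_KISO.tvGroup_le_Kv hB h (utv_mem_tvGroup hu huu hc)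
  · rw [utv_of_not_iso B huu]
    exact (Kv B v v').one_mem

/-- `W` (dim ≥ 2) contains a nonzero isotropic vector -/
theorem exists_iso_Wsub [Finite F] [FiniteDimensional F V] (hσ : Invol σ) (hB : IsHerm B)
    {v v' : V} (h2 : 2 ≤ finrank F ↥(Wsub B v v')) :
    ∃ u ∈ Wsub B v v', u ≠ 0 ∧ B u u = 0 := by
  obtain ⟨x, hxW, hx0⟩ := Cfsg.Agent.Lib.Helper94_HermWitt.exists_ne_zero_of_finrank_pos
    (U := Wsub B v v') (by omega)
  obtain ⟨y, hyW, hy⟩ := Cfsg.Agent.Lib.Helper94_HermWitt.exists_notMem_span1 h2 x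
  obtain ⟨a, b, h0, hiso⟩ := exists_iso hσ hB hx0 hy
  exact ⟨a • x + b • y, (Wsub B v v').add_mem ((Wsub B v v').smul_mem _ hxW)
    ((Wsub B v v').smul_mem _ hyW), h0, hiso⟩

/-! ### hnot -/

/-- a subgroup not containing `SUg B` misses part of some root group -/
theorem exists_Xv_not_le [Finite F] [FiniteDimensional F V] (hσ : Invol σ) (hB : IsHerm B)
    (hN : NondegOn B ⊤) (h4 : 4 ≤ finrank F V) {H : Subgroup (V ≃ₗ[F] V)}
    (hH : ¬ SUg B ≤ H) : ∃ u : V, u ≠ 0 ∧ B u u = 0 ∧ ∃ g ∈ Xv B u, g ∉ H := by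
  by_contra hcon
  push Not at hcon
  apply hH
  apply Cfsg.Agent.Lib.Helper27_UQ_GEN.eq_top_of_Xv_le hσ hB hN h4
  intro u hu g hg
  by_cases hu0 : u = 0
  · obtain ⟨c, hc, rfl⟩ := hg
    have : utv B u c = 1 := by
      ext x
      rw [utv_apply B hu, hu0]
      simp
    rw [this]; exact H.one_mem
  · exact hcon u hu0 hu g hg

/-! ### hline -/

/-- `Q_u` is transitive on the points `≠ u` of a totally isotropic line through `u` -/
theorem exists_Qv_line (hσ : Invol σ) (hB : IsHerm B) (hN : NondegOn B ⊤) {u x : V}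
    (hu0 : u ≠ 0) (hu : B u u = 0) (hxu : B x u = 0) (hx : x ∉ Submodule.span F {u}) (t : F) :
    ∃ g ∈ Qv B u, g x = x + t • u := by
  obtain ⟨u', hp⟩ := Cfsg.Agent.Lib.Helper27_UQ_GEN.exists_hypPair hσ hB hN hu0 hu
  have hWN : NondegOn B (Wsub B u u') := by
    rw [Wsub_eq_Wp]; exact nondegOn_Wp hB hN hp
  obtain ⟨xW, hxW⟩ : ∃ xW, xW = perpPart B u u' x := ⟨_, rfl⟩
  have hxWmem : xW ∈ Wsub B u u' := by rw [hxW]; exact ⟨perpPart_e hp x, perpPart_f hp x⟩
  have hdec : x = B x u' • u + xW := by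
    have := eq_add_perpPart (B := B) u u' x
    rw [hxu, zero_smul, add_zero, ← hxW] at this
    exact this
  have hxW0 : xW ≠ 0 := by
    intro h0
    apply hx
    rw [hdec, h0, add_zero]
    exact Submodule.smul_mem _ _ (Submodule.mem_span_singleton_self u)
  obtain ⟨y0, hy0W, hy0⟩ := hWN xW hxWmem hxW0
  obtain ⟨w, hw⟩ : ∃ w, w = σ (-t / B xW y0) • y0 := ⟨_, rfl⟩
  have hwW : w ∈ Wsub B u u' := by rw [hw]; exact (Wsub B u u').smul_mem _ hy0W
  have hBxw : B x w = -t := by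
    have h1 : B u w = 0 := herm_eq_zero hB hwW.1
    have h2 : B xW w = -t := by
      rw [hw, map_smulₛₗ, hσ.invol, smul_eq_mul, div_mul_cancel₀ _ hy0]
    have h3 : B x w = B (B x u' • u + xW) w := by rw [← hdec]
    rw [h3, map_add, map_smul, LinearMap.add_apply, LinearMap.smul_apply, h1, h2]
    simp
  obtain ⟨c, hc⟩ := tr_surj hσ (-(B w w)) (by rw [map_neg, herm_self hB])
  refine ⟨eich B u w c, eich_mem_Qv hB hu hwW.1 hc, ?_⟩
  rw [eich_apply B hu hwW.1 (herm_eq_zero hB hwW.1), hxu, hBxw]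
  simp

/-- **hline**, raw form: for a totally isotropic line `⟨u, x⟩` and any vector `y`, either `u ⊥ y` or some `Q_u`-translate
of `x` is `⊥ y`. -/
theorem hline_raw (hσ : Invol σ) (hB : IsHerm B) (hN : NondegOn B ⊤) {u x : V}
    (hu0 : u ≠ 0) (hu : B u u = 0) (hxu : B x u = 0) (hx : x ∉ Submodule.span F {u}) (y : V) :
    B u y = 0 ∨ ∃ g ∈ Qv B u, B (g x) y = 0 := by
  by_cases huy : B u y = 0
  · exact Or.inl huy
  · right
    obtain ⟨g, hg, hgx⟩ := exists_Qv_line hσ hB hN hu0 hu hxu hx (-(B x y) / B u y)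
    refine ⟨g, hg, ?_⟩
    rw [hgx, map_add, map_smul, LinearMap.add_apply, LinearMap.smul_apply, smul_eq_mul,
      div_mul_cancel₀ _ huy]
    ring

end Cfsg.Agent.Lib.Helper27_UQ_GEO3
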