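import Mathlib

set_option autoImplicit false

/-!
Definitions for the abstract core of S2152 (minimal index of proper subgroups of `SU_n(q)`,
`n` even, `q ≥ 3`); general-`q` version of `Helper33_U2Defs.QDat`.

`UDat G W A`: abstract datum of the unipotent radical `Q = Q_v` of a point stabiliser:
`x : A → G` parametrises the root group `X = X_v` (`A` = additive group of order `q`),
`π : Q → W` is the quotient map `Q → Q / X ≅ W`, `β : W → W → A` the commutator form,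
`L` the Levi complement acting on `W` through `ρ` and on `A` through `ν`, `K ⊴ L` (`= SU(W)`).
All maps are total functions on `G`; the properties only constrain them on `Q`, `L`, `K`.
-/

namespace Cfsg.Agent.Lib.Helper50_UQAbsDefs

/-- Abstract `Q_v`-datum (general `q`). -/
structure UDat (G : Type*) [Group G] (W : Type*) [AddCommGroup W] (A : Type*) [AddCommGroup A] where
  Q : Subgroup G
  L : Subgroup G
  K : Subgroup G
  x : A → G
  π : G → W
  β : W → W → A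
  ρ : G → W → W
  ν : G → A → A

/-- The properties of a `Q_v`-datum. -/
structure UDat.Ok {G : Type*} [Group G] {W : Type*} [AddCommGroup W] {A : Type*} [AddCommGroup A]
    (D : UDat G W A) : Prop where
  x_mem : ∀ a : A, D.x a ∈ D.Q
  x_add : ∀ a b : A, D.x (a + b) = D.x a * D.x b
  x_inj : ∀ a : A, D.x a = 1 → a = 0
  π_mul : ∀ g ∈ D.Q, ∀ g' ∈ D.Q, D.π (g * g') = D.π g + D.π g'
  π_surj : ∀ w : W, ∃ g ∈ D.Q, D.π g = w
  π_ker : ∀ g ∈ D.Q, D.π g = 0 → ∃ a : A, g = D.x a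
  π_x : ∀ a : A, D.π (D.x a) = 0
  comm : ∀ g ∈ D.Q, ∀ g' ∈ D.Q, g * g' = D.x (D.β (D.π g) (D.π g')) * (g' * g)
  β_add_left : ∀ w w' u : W, D.β (w + w') u = D.β w u + D.β w' u
  β_add_right : ∀ w u u' : W, D.β w (u + u') = D.β w u + D.β w u'
  β_surj : ∀ w : W, w ≠ 0 → ∀ a : A, ∃ u : W, D.β w u = a
  K_le : D.K ≤ D.L
  K_normal : ∀ l ∈ D.L, ∀ k ∈ D.K, l * k * l⁻¹ ∈ D.K
  L_conj_mem : ∀ l ∈ D.L, ∀ g ∈ D.Q, l * g * l⁻¹ ∈ D.Q
  L_conj_π : ∀ l ∈ D.L, ∀ g ∈ D.Q, D.π (l * g * l⁻¹) = D.ρ l (D.π g)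
  L_conj_x : ∀ l ∈ D.L, ∀ a : A, l * D.x a * l⁻¹ = D.x (D.ν l a)
  K_x : ∀ k ∈ D.K, ∀ a : A, k * D.x a = D.x a * k
  QL : ∀ g ∈ D.Q, g ∈ D.L → g = 1

end Cfsg.Agent.Lib.Helper50_UQAbsDefs
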