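import Mathlib
import Cfsg.Agent.Lib.Helper27_UQDefs

/-!
# UQ-PARAM (helper27's unitary `Q_v` foundation layer): the parametrisation
`(w, c) ↦ eich B v w c` of `Qv`.  helper64.
-/

set_option autoImplicit false
set_option linter.unusedSectionVars false
set_option linter.unusedVariables false

open Module Cfsg.Agent.Lib.Helper94_Symp Cfsg.Agent.Lib.Helper94_Herm
  Cfsg.Agent.Lib.Helper94_HermEich Cfsg.Agent.Lib.Helper94_HermPara
  Cfsg.Agent.Lib.Helper13_SUGen Cfsg.Agent.Lib.Helper13_PSUSimple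
  Cfsg.Agent.Lib.Helper46_U3TI Cfsg.Agent.Lib.Helper14_PSULocal1
  Cfsg.Agent.Lib.Helper27_UQDefs

namespace Cfsg.Agent.Lib.Helper64_UQ_PARAM

variable {F V : Type*} [Field F] [AddCommGroup V] [Module F V] {σ : F →+* F}
variable {B : V →ₗ[F] V →ₛₗ[σ] F}

/-- `z ↦ z - σ z` maps onto the skew elements (local copy of UQ-FLD `exists_sub_eq`). -/
theorem exists_sub_eq' (hσ : Invol σ) {t : F} (ht : σ t = -t) : ∃ z : F, z - σ z = t := by
  obtain ⟨θ, hθ⟩ := exists_tr_ne_zero hσ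
  refine ⟨t * θ / (θ + σ θ), ?_⟩
  rw [map_div₀, map_mul, map_add, hσ.invol, ht, add_comm (σ θ) θ]
  field_simp
  ring

theorem eich_eq_iff (hB : IsHerm B) {v v' : V} (h : HypPair B v v') {w w' : V}
    (hw : w ∈ Wsub B v v') (hw' : w' ∈ Wsub B v v') (c c' : F) :
    eich B v w c = eich B v w' c' ↔ w = w' ∧ c = c' := by
  constructor
  · intro heq
    exact eich_inj h hw.1 hw.2 (herm_eq_zero hB hw.1) (herm_eq_zero hB hw.2) hw'.1 hw'.2
      (herm_eq_zero hB hw'.1) (herm_eq_zero hB hw'.2) heq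
  · rintro ⟨rfl, rfl⟩
    rfl

theorem utv_eq_iff {v v' : V} (h : HypPair B v v') (c c' : F) :
    utv B v c = utv B v c' ↔ c = c' := by
  constructor
  · intro heq
    have h1 := congrArg (fun g : V ≃ₗ[F] V => g v') heq
    simp only [utv_e_f h] at h1
    have h2 : c • v = c' • v := add_left_cancel h1
    have h3 := congrArg (fun x => B x v') h2
    simp only [map_smul, LinearMap.smul_apply, h.ef, smul_eq_mul, mul_one] at h3
    exact h3
  · rintro rfl
    rfl

theorem exists_comm (hσ : Invol σ) (hB : IsHerm B) {W : Submodule F V} (hW : NondegOn B W) {w : V}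
    (hw : w ∈ W) (hw0 : w ≠ 0) {t : F} (ht : σ t = -t) : ∃ w' ∈ W, B w w' - B w' w = t := by
  obtain ⟨y, hy, hwy⟩ := hW w hw hw0
  obtain ⟨z, hz⟩ := exists_sub_eq' hσ ht
  refine ⟨σ (z / B w y) • y, W.smul_mem _ hy, ?_⟩
  have h1 : B w (σ (z / B w y) • y) = z := by
    rw [map_smulₛₗ, hσ.invol, smul_eq_mul, div_mul_cancel₀ _ hwy]
  have h2 : B (σ (z / B w y) • y) w = σ z := by
    rw [map_smul, LinearMap.smul_apply, smul_eq_mul, hB w y, ← map_mul, div_mul_cancel₀ _ hwy]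
  rw [h1, h2, hz]

theorem Xv_central (hB : IsHerm B) {v v' : V} (h : HypPair B v v') {x g : V ≃ₗ[F] V}
    (hx : x ∈ Xv B v) (hg : g ∈ Qv B v) : x * g = g * x := by
  obtain ⟨s, hs, rfl⟩ := hx
  obtain ⟨w, c, hw, hc, rfl⟩ := (mem_Qv_iff_eich hB h g).mp hg
  rw [← eich_zero h.ee s]
  have h0 : B (0 : V) v = 0 := by simp
  rw [eich_comm' hB h.ee h0 hw.1 s c]
  have h1 : B (0 : V) w - B w 0 = 0 := by simp
  rw [h1, utv_zero_right, mul_one]

theorem comm_mem_Xv (hB : IsHerm B) {v v' : V} (h : HypPair B v v') {g g' : V ≃ₗ[F] V}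
    (hg : g ∈ Qv B v) (hg' : g' ∈ Qv B v) : g * g' * g⁻¹ * g'⁻¹ ∈ Xv B v := by
  obtain ⟨w, a, hw, ha, rfl⟩ := (mem_Qv_iff_eich hB h g).mp hg
  obtain ⟨w', a', hw', ha', rfl⟩ := (mem_Qv_iff_eich hB h g').mp hg'
  have hskew : σ (B w w' - B w' w) = -(B w w' - B w' w) := by
    rw [map_sub, ← hB w w', ← hB w' w]
    ring
  have hu : utv B v (B w w' - B w' w) ∈ Xv B v := utv_mem_Xv B v hskew
  have hcomm := eich_comm' hB h.ee hw.1 hw'.1 a a'
  have hgg' : eich B v w' a' * eich B v w a ∈ Qv B v := (Qv B v).mul_mem hg' hg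
  have hcen := Xv_central hB h hu hgg'
  have h1 : eich B v w a * eich B v w' a' * (eich B v w a)⁻¹ * (eich B v w' a')⁻¹ =
      utv B v (B w w' - B w' w) := by
    rw [hcomm, ← hcen]
    group
  rw [h1]
  exact hu

theorem mem_Xv_of_central (hσ : Invol σ) (hB : IsHerm B) {v v' : V} (h : HypPair B v v')
    (hW : NondegOn B (Wsub B v v')) {g : V ≃ₗ[F] V} (hg : g ∈ Qv B v)
    (hc : ∀ g' ∈ Qv B v, g * g' = g' * g) : g ∈ Xv B v := by
  obtain ⟨w, c, hw, hcw, rfl⟩ := (mem_Qv_iff_eich hB h g).mp hg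
  by_cases hw0 : w = 0
  · subst hw0
    rw [eich_zero h.ee c]
    refine utv_mem_Xv B v ?_
    have h1 : c + σ c = 0 := by
      rw [hcw]
      simp
    linear_combination h1
  · exfalso
    obtain ⟨ζ, hζ0, hζ⟩ := exists_skew hσ
    obtain ⟨w', hw', hww'⟩ := exists_comm hσ hB hW hw hw0 hζ
    have hfix : σ (-(B w' w')) = -(B w' w') := by rw [map_neg, herm_self hB]
    obtain ⟨c', hc'⟩ := tr_surj hσ (-(B w' w')) hfix
    have hg' : eich B v w' c' ∈ Qv B v := eich_mem_Qv hB h.ee hw'.1 hc'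
    have h1 := hc _ hg'
    rw [eich_comm' hB h.ee hw.1 hw'.1 c c', hww'] at h1
    have h2 : utv B v ζ = 1 := by
      apply mul_left_cancel (a := eich B v w' c' * eich B v w c)
      rw [h1, mul_one]
    rw [← utv_zero_right B v, utv_eq_iff h] at h2
    exact hζ0 h2

theorem perpPart_eich (hB : IsHerm B) {v v' : V} (h : HypPair B v v') {w : V}
    (hw : w ∈ Wsub B v v') (c : F) : perpPart B v v' (eich B v w c v') = w := by
  rw [eich_f h hw.1 (herm_eq_zero hB hw.1) (herm_eq_zero hB hw.2) c]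
  unfold perpPart
  simp only [map_add, map_smul, LinearMap.add_apply, LinearMap.smul_apply, smul_eq_mul, h.ff,
    h.fe, h.ef, h.ee, hw.1, hw.2, mul_zero, mul_one, add_zero, zero_add]
  module

end Cfsg.Agent.Lib.Helper64_UQ_PARAM
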