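import Mathlib
import Cfsg.Agent.Lib.Helper27_UQDefs
import Cfsg.Agent.Lib.Helper94_HermWitt
import Cfsg.Agent.Lib.Helper94_HermIrr
import Cfsg.Agent.Lib.Helper94_HermTI

set_option autoImplicit false
set_option linter.unusedSectionVars false
set_option linter.unusedVariables false

/-!
# UQ-REG: `Qv` is regular on the isotropic vectors `u` with `B u v = 1` (package of helper27)
-/

open Module Cfsg.Agent.Lib.Helper94_Symp Cfsg.Agent.Lib.Helper94_Herm
  Cfsg.Agent.Lib.Helper94_HermEich Cfsg.Agent.Lib.Helper94_HermPara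
  Cfsg.Agent.Lib.Helper94_HermTrans
  Cfsg.Agent.Lib.Helper13_SUGen Cfsg.Agent.Lib.Helper13_PSUSimple
  Cfsg.Agent.Lib.Helper46_U3TI Cfsg.Agent.Lib.Helper14_PSULocal1
  Cfsg.Agent.Lib.Helper27_UQDefs

namespace Cfsg.Agent.Lib.Helper94_UQ_REG

variable {F V : Type*} [Field F] [AddCommGroup V] [Module F V] {σ : F →+* F}
variable {B : V →ₗ[F] V →ₛₗ[σ] F}

/-- values of an Eichler element at the partner, for `w ∈ W` -/
lemma eich_partner (hB : IsHerm B) {v v' : V} (h : HypPair B v v') {w : V}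
    (hw : w ∈ Wsub B v v') (c : F) : eich B v w c v' = v' + w + c • v :=
  eich_f h hw.1 (herm_eq_zero hB hw.1) (herm_eq_zero hB hw.2) c

/-- **UQ-REG**. -/
theorem exists_Qv_map (hB : IsHerm B) {v v' : V} (h : HypPair B v v') {u : V} (hu : B u u = 0)
    (huv : B u v = 1) : ∃ g ∈ Qv B v, g v' = u := by
  have hwv : B (perpPart B v v' u) v = 0 := perpPart_e h u
  have hwv' : B (perpPart B v v' u) v' = 0 := perpPart_f h u
  have hvw : B v (perpPart B v v' u) = 0 := herm_eq_zero hB hwv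
  have hv'w : B v' (perpPart B v v' u) = 0 := herm_eq_zero hB hwv'
  have hdec : u = B u v' • v + v' + perpPart B v v' u := by
    have := eq_add_perpPart (B := B) v v' u
    rw [huv, one_smul] at this
    exact this
  have h2 : B (B u v' • v + v' + perpPart B v v' u) (B u v' • v + v' + perpPart B v v' u) = 0 := by
    rw [← hdec]; exact hu
  simp only [map_add, map_smul, map_smulₛₗ, LinearMap.add_apply, LinearMap.smul_apply,
    smul_eq_mul, h.ee, h.ef, h.fe, h.ff, hwv, hwv', hvw, hv'w, mul_zero, mul_one, add_zero,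
    zero_add] at h2
  have hc : B u v' + σ (B u v') = -(B (perpPart B v v' u) (perpPart B v v' u)) := by
    linear_combination h2
  refine ⟨eich B v (perpPart B v v' u) (B u v'), eich_mem_Qv hB h.ee hwv hc, ?_⟩
  rw [eich_partner hB h ⟨hwv, hwv'⟩]
  conv_rhs => rw [hdec]
  abel

/-- **UQ-REG**. -/
theorem Qv_eq_of_apply (hB : IsHerm B) {v v' : V} (h : HypPair B v v') {g g' : V ≃ₗ[F] V}
    (hg : g ∈ Qv B v) (hg' : g' ∈ Qv B v) (e : g v' = g' v') : g = g' := by
  obtain ⟨w, c, hw, hc, rfl⟩ := (mem_Qv_iff_eich hB h g).mp hg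
  obtain ⟨w', c', hw', hc', rfl⟩ := (mem_Qv_iff_eich hB h g').mp hg'
  rw [eich_partner hB h hw, eich_partner hB h hw'] at e
  have h2 := congrArg (fun x => B x v') e
  simp only [map_add, map_smul, LinearMap.add_apply, LinearMap.smul_apply, h.ff, hw.2, hw'.2,
    h.ef, smul_eq_mul, mul_one, zero_add] at h2
  rw [h2] at e
  have h3 : v' + w = v' + w' := add_right_cancel e
  rw [add_left_cancel h3, h2]

/-- **UQ-REG**. -/
theorem Qv_semiregular (hB : IsHerm B) {v v' : V} (h : HypPair B v v') {g : V ≃ₗ[F] V}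
    (hg : g ∈ Qv B v) {u : V} (huv : B u v ≠ 0) {l : F} (hgu : g u = l • u) : g = 1 := by
  have hl : l = 1 := by
    have h1 := hg.1 u v
    rw [hg.2.1, hgu, map_smul, LinearMap.smul_apply, smul_eq_mul] at h1
    have : (l - 1) * B u v = 0 := by linear_combination h1
    rcases mul_eq_zero.mp this with h0 | h0
    · exact sub_eq_zero.mp h0
    · exact absurd h0 huv
  rw [hl, one_smul] at hgu
  obtain ⟨w, c, hw, hc, rfl⟩ := (mem_Qv_iff_eich hB h g).mp hg
  have hvw : B v w = 0 := herm_eq_zero hB hw.1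
  rw [eich_apply B h.ee hw.1 hvw] at hgu
  have h1 : B u v • w + (c * B u v - B u w) • v = 0 := by
    have : B u v • w + (c * B u v - B u w) • v =
        (u + B u v • w - B u w • v + (c * B u v) • v) - u := by module
    rw [this, hgu, sub_self]
  have h2 := congrArg (fun x => B x v') h1
  simp only [map_add, map_smul, LinearMap.add_apply, LinearMap.smul_apply, hw.2, h.ef,
    smul_eq_mul, mul_zero, mul_one, zero_add, map_zero, LinearMap.zero_apply] at h2
  rw [h2, zero_smul, add_zero] at h1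
  have hw0 : w = 0 := by
    rcases smul_eq_zero.mp h1 with h0 | h0
    · exact absurd h0 huv
    · exact h0
  subst hw0
  have hc0 : c = 0 := by
    rw [map_zero, sub_zero] at h2
    rcases mul_eq_zero.mp h2 with h0 | h0
    · exact h0
    · exact absurd h0 huv
  rw [hc0]
  exact eich_one h.ee

/-- **UQ-REG**. -/
theorem Qv_trans_opp (hσ : Invol σ) (hB : IsHerm B) {v v' : V} (h : HypPair B v v') {u u' : V}
    (hu : B u u = 0) (hu' : B u' u' = 0) (huv : B u v ≠ 0) (hu'v : B u' v ≠ 0) :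
    ∃ g ∈ Qv B v, ∃ l : F, l ≠ 0 ∧ g u = l • u' := by
  have e1 : B ((B u v)⁻¹ • u) ((B u v)⁻¹ • u) = 0 := by rw [self_smul, hu, mul_zero]
  have e2 : B ((B u v)⁻¹ • u) v = 1 := by
    rw [map_smul, LinearMap.smul_apply, smul_eq_mul, inv_mul_cancel₀ huv]
  have e1' : B ((B u' v)⁻¹ • u') ((B u' v)⁻¹ • u') = 0 := by rw [self_smul, hu', mul_zero]
  have e2' : B ((B u' v)⁻¹ • u') v = 1 := by
    rw [map_smul, LinearMap.smul_apply, smul_eq_mul, inv_mul_cancel₀ hu'v]
  obtain ⟨g1, hg1, hg1v⟩ := exists_Qv_map hB h e1 e2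
  obtain ⟨g2, hg2, hg2v⟩ := exists_Qv_map hB h e1' e2'
  refine ⟨g2 * g1⁻¹, (Qv B v).mul_mem hg2 ((Qv B v).inv_mem hg1), B u v * (B u' v)⁻¹,
    mul_ne_zero huv (inv_ne_zero hu'v), ?_⟩
  have h3 : g1⁻¹ u = B u v • v' := by
    have : u = B u v • g1 v' := by
      rw [hg1v, smul_smul, mul_inv_cancel₀ huv, one_smul]
    conv_lhs => rw [this]
    rw [map_smul, inv_apply_apply']
  rw [LinearEquiv.mul_apply, h3, map_smul, hg2v, smul_smul]

/-- **UQ-REG**. -/
theorem eich_mem_inf (hB : IsHerm B) {v u : V} (hv : B v v = 0) (hu : B u u = 0)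
    (huv : B u v = 0) : eich B v u 0 ∈ Qv B v ⊓ Qv B u := by
  have hvu : B v u = 0 := herm_eq_zero hB huv
  refine ⟨eich_mem_Qv hB hv huv (by rw [map_zero, add_zero, hu, neg_zero]), ?_⟩
  rw [Cfsg.Agent.Lib.Helper94_HermTI.eich_swap hu hv huv hvu]
  exact (Qv B u).inv_mem (eich_mem_Qv hB hu hvu (by rw [map_zero, add_zero, hv, neg_zero]))

/-- **UQ-REG**. -/
theorem eich_ne_one (hB : IsHerm B) (hN : NondegOn B ⊤) {v u : V} (hv : B v v = 0)
    (hu : B u u = 0) (huv : B u v = 0)
    (hli : ∀ a b : F, a • v + b • u = 0 → a = 0 ∧ b = 0) : eich B v u 0 ≠ 1 := by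
  intro h1
  have hvu : B v u = 0 := herm_eq_zero hB huv
  have hv0 : v ≠ 0 := by
    rintro rfl
    have := hli 1 0 (by simp)
    exact one_ne_zero this.1
  obtain ⟨y, -, hy⟩ := hN v Submodule.mem_top hv0
  have hyv : B y v ≠ 0 := by
    intro h0
    apply hy
    rw [hB y v, h0, map_zero]
  · have h2 := congrArg (fun g : V ≃ₗ[F] V => g y) h1
    simp only [LinearEquiv.coe_one, id_eq] at h2
    rw [eich_apply B hv huv hvu] at h2
    have h3 : (-(B y u)) • v + B y v • u = 0 := by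
      have : (-(B y u)) • v + B y v • u = (y + B y v • u - B y u • v + (0 * B y v) • v) - y := by
        module
      rw [this, h2, sub_self]
    exact hyv (hli _ _ h3).2

end Cfsg.Agent.Lib.Helper94_UQ_REG
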