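import Mathlib
import Cfsg.Agent.Lib.Helper27_UQDefs
import Cfsg.Agent.Lib.Helper94_HermWitt
import Cfsg.Agent.Lib.Helper94_HermIrr
import Cfsg.Agent.Lib.Helper94_UQ_REG

set_option autoImplicit false
set_option linter.unusedSectionVars false
set_option linter.unusedVariables false

/-!
# UQ-TORUS: the Levi complement of a point stabiliser of `SU(V)` (package of helper27)
-/

open Module Cfsg.Agent.Lib.Helper94_Symp Cfsg.Agent.Lib.Helper94_Herm
  Cfsg.Agent.Lib.Helper94_HermEich Cfsg.Agent.Lib.Helper94_HermPara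
  Cfsg.Agent.Lib.Helper94_HermTrans
  Cfsg.Agent.Lib.Helper13_SUGen Cfsg.Agent.Lib.Helper13_PSUSimple
  Cfsg.Agent.Lib.Helper46_U3TI Cfsg.Agent.Lib.Helper14_PSULocal1
  Cfsg.Agent.Lib.Helper27_UQDefs Cfsg.Agent.Lib.Helper94_UQ_REG

namespace Cfsg.Agent.Lib.Helper94_UQ_TORUS

variable {F V : Type*} [Field F] [AddCommGroup V] [Module F V] {σ : F →+* F}
variable {B : V →ₗ[F] V →ₛₗ[σ] F}

/-- **UQ-TORUS**. -/
theorem conj_utv_levi {v : V} {l : V ≃ₗ[F] V} (hl : l ∈ uG B) {lam : F} (hlv : l v = lam • v)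
    (c : F) : l * utv B v c * l⁻¹ = utv B v (lam * σ lam * c) := by
  rw [conj_utv hl, hlv, utv_smul]

lemma sigma_ne_zero (hσ : Invol σ) {a : F} (ha : a ≠ 0) : σ a ≠ 0 := by
  intro h
  apply ha
  have := congrArg σ h
  rwa [hσ.invol, map_zero] at this

/-- **UQ-TORUS**. -/
theorem Lv_spec (hσ : Invol σ) (hB : IsHerm B) {v v' : V} (h : HypPair B v v') {l : V ≃ₗ[F] V}
    (hl : l ∈ Lv B v v') {lam : F} (hlv : l v = lam • v) :
    l v' = (σ lam)⁻¹ • v' ∧ ∀ w ∈ Wsub B v v', l w ∈ Wsub B v v' := by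
  obtain ⟨hl1, -, ⟨d, hd, hlv'⟩⟩ := (mem_Lv B).1 hl
  have hlU : l ∈ uG B := (mem_SUg.mp hl1).1
  have h1 : lam * σ d = 1 := by
    have := hlU v v'
    rw [hlv, hlv', map_smulₛₗ, map_smul, LinearMap.smul_apply, h.ef, smul_eq_mul, smul_eq_mul,
      mul_one, mul_comm] at this
    exact this
  have hlam : lam ≠ 0 := by
    rintro rfl
    simp at h1
  have hs : σ lam ≠ 0 := sigma_ne_zero hσ hlam
  have hd' : d = (σ lam)⁻¹ := by
    have := congrArg σ h1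
    rw [map_mul, map_one, hσ.invol] at this
    exact eq_inv_of_mul_eq_one_right this
  refine ⟨by rw [hlv', hd'], ?_⟩
  intro w hw
  constructor
  · have := hlU w v
    rw [hlv, map_smulₛₗ, hw.1, smul_eq_mul] at this
    exact (mul_eq_zero.mp this).resolve_left hs
  · have := hlU w v'
    rw [hlv', map_smulₛₗ, hw.2, smul_eq_mul] at this
    have hsd : σ d ≠ 0 := sigma_ne_zero hσ hd
    exact (mul_eq_zero.mp this).resolve_left hsd

/-- **UQ-TORUS**. -/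
theorem exists_Tv (hσ : Invol σ) (hB : IsHerm B) {v v' : V} (h : HypPair B v v') {a : F}
    (ha : σ a = a) (ha0 : a ≠ 0) : ∃ d ∈ Tv B v v', d v = a • v ∧ d v' = a⁻¹ • v' := by
  have haa' : a * a⁻¹ = 1 := mul_inv_cancel₀ ha0
  have h1 : torE h haa' v = a • v := by
    rw [torE_apply, h.ee, h.ef]; module
  have h2 : torE h haa' v' = a⁻¹ • v' := by
    rw [torE_apply, h.ff, h.fe]; module
  refine ⟨torE h haa', ⟨(mem_Lv B).2 ⟨tvGroup_le_SUg hB ⊤ (torE_mem hσ h haa' ha),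
    ⟨a, ha0, h1⟩, ⟨a⁻¹, inv_ne_zero ha0, h2⟩⟩, ?_⟩, h1, h2⟩
  intro w hw
  rw [torE_apply, hw.1, hw.2]
  simp

/-! ### quasi-reflections -/

/-- the quasi-reflection `y ↦ y + ((m - 1) * (B x x)⁻¹ * B y x) • x` as a linear map -/
noncomputable def qrL (B : V →ₗ[F] V →ₛₗ[σ] F) (x : V) (m : F) : V →ₗ[F] V :=
  LinearMap.id + ((m - 1) * (B x x)⁻¹) • (B.flip x).smulRight x

lemma qrL_apply (x : V) (m : F) (y : V) :
    qrL B x m y = y + ((m - 1) * (B x x)⁻¹ * B y x) • x := by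
  simp [qrL, smul_smul]

lemma qrL_form {x : V} (hxx : B x x ≠ 0) (m : F) (y : V) : B (qrL B x m y) x = m * B y x := by
  rw [qrL_apply, map_add, map_smul, LinearMap.add_apply, LinearMap.smul_apply, smul_eq_mul]
  field_simp
  ring

lemma qrL_comp {x : V} (hxx : B x x ≠ 0) (m m' : F) :
    qrL B x m ∘ₗ qrL B x m' = qrL B x (m * m') := by
  apply LinearMap.ext
  intro y
  rw [LinearMap.comp_apply, qrL_apply, qrL_form hxx, qrL_apply, qrL_apply]
  module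

lemma qrL_one (x : V) : qrL B x 1 = LinearMap.id := by
  apply LinearMap.ext
  intro y
  rw [qrL_apply]; simp

/-- the quasi-reflection as a linear equivalence -/
noncomputable def qrE {x : V} (hxx : B x x ≠ 0) {m : F} (hm : m ≠ 0) : V ≃ₗ[F] V :=
  LinearEquiv.ofLinearMap (qrL B x m) (qrL B x m⁻¹)
    (by rw [qrL_comp hxx, mul_inv_cancel₀ hm, qrL_one])
    (by rw [qrL_comp hxx, inv_mul_cancel₀ hm, qrL_one])

lemma qrE_apply {x : V} (hxx : B x x ≠ 0) {m : F} (hm : m ≠ 0) (y : V) :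
    qrE hxx hm y = y + ((m - 1) * (B x x)⁻¹ * B y x) • x := qrL_apply x m y

lemma qrE_fix {x : V} (hxx : B x x ≠ 0) {m : F} (hm : m ≠ 0) {y : V} (hy : B y x = 0) :
    qrE hxx hm y = y := by
  rw [qrE_apply, hy]; simp

lemma qrE_mem_uG (hB : IsHerm B) {x : V} (hxx : B x x ≠ 0) {m : F} (hm : m ≠ 0)
    (hmm : m * σ m = 1) : qrE hxx hm ∈ uG B := by
  intro y z
  have hN : σ (B x x) = B x x := herm_self hB x
  have hk : σ ((B x x)⁻¹) = (B x x)⁻¹ := by rw [map_inv₀, hN]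
  rw [qrE_apply, qrE_apply]
  simp only [map_add, map_smul, map_smulₛₗ, LinearMap.add_apply, LinearMap.smul_apply,
    smul_eq_mul, map_mul, map_sub, map_one, hk]
  rw [hB z x]
  have hkk : (B x x)⁻¹ * B x x = 1 := inv_mul_cancel₀ hxx
  linear_combination ((B x x)⁻¹ * B y x * σ (B z x)) * hmm +
    ((m - 1) * (σ m - 1) * (B x x)⁻¹ * B y x * σ (B z x)) * hkk

lemma det_qrE [FiniteDimensional F V] {x : V} (hxx : B x x ≠ 0) {m : F} (hm : m ≠ 0) :
    ((LinearEquiv.det (qrE hxx hm) : Fˣ) : F) = m := by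
  rw [LinearEquiv.coe_det]
  have hx0 : x ≠ 0 := by
    rintro rfl
    simp at hxx
  have hli : LinearIndependent F (fun _ : Unit => x) := by
    rw [linearIndependent_unique_iff]
    exact hx0
  have := det_eq_of_span hli (qrL B x m) (Matrix.of fun _ _ => m) (by
    intro j
    rw [qrL_apply, Fintype.sum_unique, Matrix.of_apply]
    have : (m - 1) * (B x x)⁻¹ * B x x = m - 1 := by field_simp
    rw [this]
    module) (by
    intro y
    rw [qrL_apply, add_sub_cancel_left]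
    exact Submodule.smul_mem _ _ (Submodule.subset_span ⟨(), rfl⟩))
  have e : ((qrE hxx hm : V ≃ₗ[F] V) : V →ₗ[F] V) = qrL B x m := rfl
  rw [e, this, Matrix.det_unique, Matrix.of_apply]

/-- **UQ-TORUS**. -/
theorem exists_Lv [FiniteDimensional F V] (hσ : Invol σ) (hB : IsHerm B) (hN : NondegOn B ⊤)
    {v v' : V} (h : HypPair B v v') {x : V} (hx : x ∈ Wsub B v v') (hxx : B x x ≠ 0) {lam : F}
    (hlam : lam ≠ 0) : ∃ l ∈ Lv B v v', l v = lam • v := by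
  have hs : σ lam ≠ 0 := sigma_ne_zero hσ hlam
  have hb : (σ lam)⁻¹ ≠ 0 := inv_ne_zero hs
  have hm : σ lam * lam⁻¹ ≠ 0 := mul_ne_zero hs (inv_ne_zero hlam)
  have hab : lam * σ ((σ lam)⁻¹) = 1 := by
    rw [map_inv₀, hσ.invol, mul_inv_cancel₀ hlam]
  have hmm : (σ lam * lam⁻¹) * σ (σ lam * lam⁻¹) = 1 := by
    rw [map_mul, map_inv₀, hσ.invol]
    field_simp
  have hvx : B v x = 0 := herm_eq_zero hB hx.1
  have hv'x : B v' x = 0 := herm_eq_zero hB hx.2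
  set d := dgE h hlam hb (one_ne_zero : (1 : F) ≠ 0) with hd
  set r := qrE hxx hm with hr
  have hdU : d ∈ uG B := dgE_mem_uG hσ hB h hlam hb one_ne_zero hab (by rw [map_one, mul_one])
  have hrU : r ∈ uG B := qrE_mem_uG hB hxx hm hmm
  have hdet : LinearEquiv.det (d * r) = 1 := by
    apply Units.ext
    rw [map_mul, Units.val_mul, det_dgE h hlam hb one_ne_zero, det_qrE hxx hm, Units.val_one,
      one_pow]
    field_simp
  have h1 : (d * r) v = lam • v := by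
    rw [LinearEquiv.mul_apply, hr, qrE_fix hxx hm hvx, hd, dgE_e]
  have h2 : (d * r) v' = (σ lam)⁻¹ • v' := by
    rw [LinearEquiv.mul_apply, hr, qrE_fix hxx hm hv'x, hd, dgE_f]
  exact ⟨d * r, (mem_Lv B).2 ⟨mem_SUg.mpr ⟨(uG B).mul_mem hdU hrU, hdet⟩, ⟨lam, hlam, h1⟩,
    ⟨(σ lam)⁻¹, hb, h2⟩⟩, h1⟩

/-- **UQ-TORUS**. -/
theorem Pv_eq_mul (hσ : Invol σ) (hB : IsHerm B) {v v' : V} (h : HypPair B v v')
    {g : V ≃ₗ[F] V} (hg : g ∈ Pv B v) : ∃ a ∈ Qv B v, ∃ l ∈ Lv B v v', g = a * l := by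
  obtain ⟨hg1, c, hc, hgv⟩ := hg
  have hgU : g ∈ uG B := (mem_SUg.mp hg1).1
  have hs : σ c ≠ 0 := sigma_ne_zero hσ hc
  have h1 : σ c * B (g v') v = 1 := by
    have := hgU v' v
    rw [hgv, map_smulₛₗ, h.fe, smul_eq_mul] at this
    exact this
  have hu : B (σ c • g v') (σ c • g v') = 0 := by
    rw [self_smul, hgU, h.ff, mul_zero]
  have huv : B (σ c • g v') v = 1 := by
    rw [map_smul, LinearMap.smul_apply, smul_eq_mul, h1]
  obtain ⟨a, ha, hav⟩ := exists_Qv_map hB h hu huv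
  have haS : a ∈ SUg B := Qv_le_SUg hB h ha
  have hainv : a⁻¹ v = v := by
    calc a⁻¹ v = a⁻¹ (a v) := by rw [ha.2.1]
      _ = v := inv_apply_apply' a v
  refine ⟨a, ha, a⁻¹ * g, ?_, (mul_inv_cancel_left _ _).symm⟩
  refine (mem_Lv B).2 ⟨(SUg B).mul_mem ((SUg B).inv_mem haS) hg1, ⟨c, hc, ?_⟩,
    ⟨(σ c)⁻¹, inv_ne_zero hs, ?_⟩⟩
  · rw [LinearEquiv.mul_apply, hgv, map_smul, hainv]
  · rw [LinearEquiv.mul_apply]
    have : g v' = (σ c)⁻¹ • a v' := by
      rw [hav, smul_smul, inv_mul_cancel₀ hs, one_smul]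
    rw [this, map_smul, inv_apply_apply']

/-- **UQ-TORUS**. -/
theorem Qv_inf_Lv (hB : IsHerm B) {v v' : V} (h : HypPair B v v') :
    Qv B v ⊓ Lv B v v' = ⊥ := by
  rw [eq_bot_iff]
  rintro g ⟨hgQ, hgL⟩
  rw [Subgroup.mem_bot]
  obtain ⟨-, -, ⟨d, -, hd⟩⟩ := (mem_Lv B).1 hgL
  have hne : B v' v ≠ 0 := by rw [h.fe]; exact one_ne_zero
  exact Qv_semiregular hB h hgQ hne hd

end Cfsg.Agent.Lib.Helper94_UQ_TORUS
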