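import Mathlib
import Cfsg.Agent.Lib.Helper27_UQDefs
import Cfsg.Agent.Lib.Helper27_UQ_KISO
import Cfsg.Agent.Lib.Helper64_UQ_PARAM
import Cfsg.Agent.Lib.Helper94_UQ_REG
import Cfsg.Agent.Lib.Helper94_UQ_TORUS
import Cfsg.Agent.Lib.Helper50_UQAbsDefs

set_option autoImplicit false
set_option linter.unusedSectionVars false
set_option linter.unusedVariables false

/-!
# The concrete `Q_v`-datum of a special unitary group (instantiation of `Helper50_UQAbsDefs.UDat`)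

`G = ↥(SUg B)`, `W = ↥(Wsub B v v')`, `A = ↥(skewA σ)` (the skew elements `σ c = -c`),
`udat hσ hB h : UDat ↥(SUg B) ↥(Wsub B v v') ↥(skewA σ)` for a hyperbolic pair `h : HypPair B v v'`,
and `udat_ok : (udat hσ hB h).Ok`.  Parity-free, no finiteness, any field with involution.
-/

open Module Cfsg.Agent.Lib.Helper94_Symp Cfsg.Agent.Lib.Helper94_Herm
  Cfsg.Agent.Lib.Helper94_HermEich Cfsg.Agent.Lib.Helper94_HermPara
  Cfsg.Agent.Lib.Helper94_HermTrans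
  Cfsg.Agent.Lib.Helper13_SUGen Cfsg.Agent.Lib.Helper13_PSUSimple
  Cfsg.Agent.Lib.Helper46_U3TI Cfsg.Agent.Lib.Helper14_PSULocal1
  Cfsg.Agent.Lib.Helper27_UQDefs Cfsg.Agent.Lib.Helper50_UQAbsDefs

namespace Cfsg.Agent.Lib.Helper94_UQInst

variable {F V : Type*} [Field F] [AddCommGroup V] [Module F V] {σ : F →+* F}
variable {B : V →ₗ[F] V →ₛₗ[σ] F}

/-- the skew elements `{c | σ c = -c}` as an additive subgroup of `F` -/
def skewA (σ : F →+* F) : AddSubgroup F where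
  carrier := {c | σ c = -c}
  add_mem' := by
    intro a b ha hb
    show σ (a + b) = -(a + b)
    rw [map_add, ha, hb]; ring
  zero_mem' := by
    show σ 0 = -0
    simp
  neg_mem' := by
    intro a ha
    show σ (-a) = - -a
    rw [map_neg, ha]

theorem mem_skewA {c : F} : c ∈ skewA σ ↔ σ c = -c := Iff.rfl

/-- the scalar by which `g` acts on `v` (for `g` stabilising `⟨v⟩`): `lamOf v' g v = B (g v) v'` -/
def lamOf (B : V →ₗ[F] V →ₛₗ[σ] F) (v v' : V) (g : V ≃ₗ[F] V) : F := B (g v) v'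

theorem lamOf_spec {v v' : V} (h : HypPair B v v') {g : V ≃ₗ[F] V} {lam : F}
    (hg : g v = lam • v) : lamOf B v v' g = lam := by
  unfold lamOf
  rw [hg, map_smul, LinearMap.smul_apply, h.ef, smul_eq_mul, mul_one]

/-- **the concrete datum** -/
noncomputable def udat (hσ : Invol σ) (hB : IsHerm B) {v v' : V} (h : HypPair B v v') :
    UDat ↥(SUg B) ↥(Wsub B v v') ↥(skewA σ) where
  Q := (Qv B v).subgroupOf (SUg B)
  L := (Lv B v v').subgroupOf (SUg B)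
  K := (Kv B v v').subgroupOf (SUg B)
  x a := ⟨utv B v (a : F), utv_mem_SUg hB v a.2⟩
  π g := ⟨perpPart B v v' ((g : V ≃ₗ[F] V) v'), perpPart_e h _, perpPart_f h _⟩
  β w w' := ⟨B (w : V) (w' : V) - B (w' : V) (w : V), by
    show σ _ = -_
    rw [map_sub, ← hB (w : V) (w' : V), ← hB (w' : V) (w : V)]
    ring⟩
  ρ g w := ⟨perpPart B v v' (σ (lamOf B v v' (g : V ≃ₗ[F] V)) • (g : V ≃ₗ[F] V) (w : V)),
    perpPart_e h _, perpPart_f h _⟩
  ν g a := ⟨lamOf B v v' (g : V ≃ₗ[F] V) * σ (lamOf B v v' (g : V ≃ₗ[F] V)) * (a : F), by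
    show σ _ = -_
    rw [map_mul, map_mul, hσ.invol, a.2]
    ring⟩

section simp_lemmas

variable (hσ : Invol σ) (hB : IsHerm B) {v v' : V} (h : HypPair B v v')

theorem mem_Q {g : ↥(SUg B)} : g ∈ (udat hσ hB h).Q ↔ (g : V ≃ₗ[F] V) ∈ Qv B v :=
  Subgroup.mem_subgroupOf

theorem mem_L {g : ↥(SUg B)} : g ∈ (udat hσ hB h).L ↔ (g : V ≃ₗ[F] V) ∈ Lv B v v' :=
  Subgroup.mem_subgroupOf

theorem mem_K {g : ↥(SUg B)} : g ∈ (udat hσ hB h).K ↔ (g : V ≃ₗ[F] V) ∈ Kv B v v' :=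
  Subgroup.mem_subgroupOf

theorem x_coe (a : ↥(skewA σ)) :
    (((udat hσ hB h).x a : ↥(SUg B)) : V ≃ₗ[F] V) = utv B v (a : F) := rfl

theorem π_coe (g : ↥(SUg B)) :
    (((udat hσ hB h).π g : ↥(Wsub B v v')) : V) = perpPart B v v' ((g : V ≃ₗ[F] V) v') := rfl

theorem β_coe (w w' : ↥(Wsub B v v')) :
    (((udat hσ hB h).β w w' : ↥(skewA σ)) : F) = B (w : V) (w' : V) - B (w' : V) (w : V) := rfl

theorem ρ_coe (g : ↥(SUg B)) (w : ↥(Wsub B v v')) :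
    (((udat hσ hB h).ρ g w : ↥(Wsub B v v')) : V) =
      perpPart B v v' (σ (lamOf B v v' (g : V ≃ₗ[F] V)) • (g : V ≃ₗ[F] V) (w : V)) := rfl

theorem ν_coe (g : ↥(SUg B)) (a : ↥(skewA σ)) :
    (((udat hσ hB h).ν g a : ↥(skewA σ)) : F) =
      lamOf B v v' (g : V ≃ₗ[F] V) * σ (lamOf B v v' (g : V ≃ₗ[F] V)) * (a : F) := rfl

/-- `ρ l w = σ λ • l w` for `l ∈ L` with `l v = λ v` -/
theorem ρ_of_mem {l : ↥(SUg B)} (hl : (l : V ≃ₗ[F] V) ∈ Lv B v v') {lam : F}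
    (hlv : (l : V ≃ₗ[F] V) v = lam • v) (w : ↥(Wsub B v v')) :
    (((udat hσ hB h).ρ l w : ↥(Wsub B v v')) : V) = σ lam • (l : V ≃ₗ[F] V) (w : V) := by
  rw [ρ_coe, lamOf_spec h hlv]
  have hw := (Cfsg.Agent.Lib.Helper94_UQ_TORUS.Lv_spec hσ hB h hl hlv).2 (w : V) w.2
  apply perpPart_of_mem
  rw [← Wsub_eq_Wp]
  exact (Wsub B v v').smul_mem _ hw

/-- `π (eich v w c) = w` -/
theorem π_eich {w : V} (hw : w ∈ Wsub B v v') {c : F} (hc : c + σ c = -(B w w)) :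
    (udat hσ hB h).π ⟨eich B v w c, eich_mem_SUg hB hc⟩ = ⟨w, hw⟩ :=
  Subtype.ext (Cfsg.Agent.Lib.Helper64_UQ_PARAM.perpPart_eich hB h hw c)

end simp_lemmas

/-- every element of `Q` is an Eichler element -/
theorem Q_cases (hσ : Invol σ) (hB : IsHerm B) {v v' : V} (h : HypPair B v v') {g : ↥(SUg B)}
    (hg : g ∈ (udat hσ hB h).Q) :
    ∃ (w : V) (c : F) (hw : w ∈ Wsub B v v') (hc : c + σ c = -(B w w)),
      g = ⟨eich B v w c, eich_mem_SUg hB hc⟩ := by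
  obtain ⟨w, c, hw, hc, hgw⟩ := (mem_Qv_iff_eich hB h (g : V ≃ₗ[F] V)).mp ((mem_Q hσ hB h).mp hg)
  exact ⟨w, c, hw, hc, Subtype.ext hgw⟩

/-- **the datum satisfies the axioms** -/
theorem udat_ok (hσ : Invol σ) (hB : IsHerm B) (hN : NondegOn B ⊤) {v v' : V}
    (h : HypPair B v v') : (udat hσ hB h).Ok where
  x_mem a := (mem_Q hσ hB h).mpr (Xv_le_Qv hB v (utv_mem_Xv B v a.2))
  x_add a b := Subtype.ext (by
    rw [Subgroup.coe_mul, x_coe, x_coe, x_coe, AddSubgroup.coe_add, utv_add])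
  x_inj a ha := by
    have h1 : utv B v (a : F) = 1 := congrArg Subtype.val ha
    rw [← utv_zero_right B v, Cfsg.Agent.Lib.Helper64_UQ_PARAM.utv_eq_iff h] at h1
    exact Subtype.ext h1
  π_mul g hg g' hg' := by
    obtain ⟨w, c, hw, hc, rfl⟩ := Q_cases hσ hB h hg
    obtain ⟨w', c', hw', hc', rfl⟩ := Q_cases hσ hB h hg'
    apply Subtype.ext
    rw [Submodule.coe_add, π_coe, π_coe, π_coe]
    show perpPart B v v' ((eich B v w c * eich B v w' c') v') = _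
    rw [eich_mul' hB h.ee hw.1 hw'.1,
      Cfsg.Agent.Lib.Helper64_UQ_PARAM.perpPart_eich hB h ((Wsub B v v').add_mem hw hw'),
      Cfsg.Agent.Lib.Helper64_UQ_PARAM.perpPart_eich hB h hw,
      Cfsg.Agent.Lib.Helper64_UQ_PARAM.perpPart_eich hB h hw']
  π_surj w := by
    obtain ⟨c, hc⟩ := tr_surj hσ (-(B (w : V) (w : V))) (by rw [map_neg, herm_self hB])
    exact ⟨⟨eich B v (w : V) c, eich_mem_SUg hB hc⟩,
      (mem_Q hσ hB h).mpr (eich_mem_Qv hB h.ee w.2.1 hc), π_eich hσ hB h w.2 hc⟩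
  π_ker g hg hπ := by
    obtain ⟨w, c, hw, hc, rfl⟩ := Q_cases hσ hB h hg
    rw [π_eich hσ hB h hw hc] at hπ
    have hw0 : w = 0 := congrArg Subtype.val hπ
    subst hw0
    have hc' : σ c = -c := by
      rw [map_zero, neg_zero] at hc
      linear_combination hc
    exact ⟨⟨c, hc'⟩, Subtype.ext (eich_zero h.ee c)⟩
  π_x a := by
    apply Subtype.ext
    rw [π_coe, x_coe, ← eich_zero h.ee,
      Cfsg.Agent.Lib.Helper64_UQ_PARAM.perpPart_eich hB h (Wsub B v v').zero_mem]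
    rfl
  comm g hg g' hg' := by
    obtain ⟨w, c, hw, hc, rfl⟩ := Q_cases hσ hB h hg
    obtain ⟨w', c', hw', hc', rfl⟩ := Q_cases hσ hB h hg'
    apply Subtype.ext
    rw [π_eich hσ hB h hw hc, π_eich hσ hB h hw' hc']
    show eich B v w c * eich B v w' c' =
      utv B v (B w w' - B w' w) * (eich B v w' c' * eich B v w c)
    rw [eich_comm' hB h.ee hw.1 hw'.1]
    have hskew : σ (B w w' - B w' w) = -(B w w' - B w' w) := by
      rw [map_sub, ← hB w w', ← hB w' w]; ring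
    have hmem : eich B v w' c' * eich B v w c ∈ Qv B v :=
      (Qv B v).mul_mem (eich_mem_Qv hB h.ee hw'.1 hc') (eich_mem_Qv hB h.ee hw.1 hc)
    exact (Cfsg.Agent.Lib.Helper64_UQ_PARAM.Xv_central hB h (utv_mem_Xv B v hskew) hmem).symm
  β_add_left w w' u := by
    apply Subtype.ext
    rw [AddSubgroup.coe_add, β_coe, β_coe, β_coe, Submodule.coe_add]
    simp only [map_add, LinearMap.add_apply]
    ring
  β_add_right w u u' := by
    apply Subtype.ext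
    rw [AddSubgroup.coe_add, β_coe, β_coe, β_coe, Submodule.coe_add]
    simp only [map_add, LinearMap.add_apply]
    ring
  β_surj w hw a := by
    have hW : NondegOn B (Wsub B v v') := by
      rw [Wsub_eq_Wp]; exact nondegOn_Wp hB hN h
    have hw0 : (w : V) ≠ 0 := fun h0 => hw (Subtype.ext h0)
    obtain ⟨u, hu, hwu⟩ := Cfsg.Agent.Lib.Helper64_UQ_PARAM.exists_comm hσ hB hW w.2 hw0 a.2
    exact ⟨⟨u, hu⟩, Subtype.ext hwu⟩
  K_le := by
    intro g hg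
    exact (mem_L hσ hB h).mpr (Kv_le_Lv B v v' ((mem_K hσ hB h).mp hg))
  K_normal l hl k hk := by
    rw [mem_K] at hk ⊢
    rw [mem_L] at hl
    obtain ⟨-, ⟨c, hc, hlv⟩, ⟨d, hd, hlv'⟩⟩ := (mem_Lv B).1 hl
    refine ⟨(l * k * l⁻¹).2, ?_, ?_⟩
    · show (l : V ≃ₗ[F] V) ((k : V ≃ₗ[F] V) ((l : V ≃ₗ[F] V)⁻¹ v)) = v
      have h1 : (l : V ≃ₗ[F] V)⁻¹ v = c⁻¹ • v := by
        have h2 : (l : V ≃ₗ[F] V)⁻¹ ((l : V ≃ₗ[F] V) v) = v := inv_apply_apply' _ v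
        rw [hlv, map_smul] at h2
        calc (l : V ≃ₗ[F] V)⁻¹ v = c⁻¹ • (c • (l : V ≃ₗ[F] V)⁻¹ v) := by
              rw [smul_smul, inv_mul_cancel₀ hc, one_smul]
          _ = c⁻¹ • v := by rw [h2]
      rw [h1, map_smul, hk.2.1, map_smul, hlv, smul_smul, inv_mul_cancel₀ hc, one_smul]
    · show (l : V ≃ₗ[F] V) ((k : V ≃ₗ[F] V) ((l : V ≃ₗ[F] V)⁻¹ v')) = v'
      have h1 : (l : V ≃ₗ[F] V)⁻¹ v' = d⁻¹ • v' := by
        have h2 : (l : V ≃ₗ[F] V)⁻¹ ((l : V ≃ₗ[F] V) v') = v' := inv_apply_apply' _ v'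
        rw [hlv', map_smul] at h2
        calc (l : V ≃ₗ[F] V)⁻¹ v' = d⁻¹ • (d • (l : V ≃ₗ[F] V)⁻¹ v') := by
              rw [smul_smul, inv_mul_cancel₀ hd, one_smul]
          _ = d⁻¹ • v' := by rw [h2]
      rw [h1, map_smul, hk.2.2, map_smul, hlv', smul_smul, inv_mul_cancel₀ hd, one_smul]
  L_conj_mem l hl g hg := by
    rw [mem_Q] at hg ⊢
    rw [mem_L] at hl
    exact conj_mem_Qv B (Lv_le_Pv B v v' hl) hg
  L_conj_π l hl g hg := by
    obtain ⟨w, c, hw, hc, rfl⟩ := Q_cases hσ hB h hg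
    rw [mem_L] at hl
    obtain ⟨hl1, ⟨lam, hlam, hlv⟩, -⟩ := (mem_Lv B).1 hl
    have hlU : (l : V ≃ₗ[F] V) ∈ uG B := (mem_SUg.mp hl1).1
    apply Subtype.ext
    rw [π_eich hσ hB h hw hc, ρ_of_mem hσ hB h hl hlv ⟨w, hw⟩, π_coe]
    show perpPart B v v' (((l : V ≃ₗ[F] V) * eich B v w c * (l : V ≃ₗ[F] V)⁻¹) v') = _
    rw [conj_eich_levi hσ h.ee hw.1 (herm_eq_zero hB hw.1) hlU hlam hlv]
    have hw2 := (Cfsg.Agent.Lib.Helper94_UQ_TORUS.Lv_spec hσ hB h hl hlv).2 w hw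
    exact Cfsg.Agent.Lib.Helper64_UQ_PARAM.perpPart_eich hB h ((Wsub B v v').smul_mem _ hw2) _
  L_conj_x l hl a := by
    rw [mem_L] at hl
    obtain ⟨hl1, ⟨lam, hlam, hlv⟩, -⟩ := (mem_Lv B).1 hl
    have hlU : (l : V ≃ₗ[F] V) ∈ uG B := (mem_SUg.mp hl1).1
    apply Subtype.ext
    show (l : V ≃ₗ[F] V) * utv B v (a : F) * (l : V ≃ₗ[F] V)⁻¹ = utv B v _
    rw [Cfsg.Agent.Lib.Helper94_UQ_TORUS.conj_utv_levi hlU hlv, ν_coe, lamOf_spec h hlv]
  K_x k hk a := by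
    rw [mem_K] at hk
    apply Subtype.ext
    exact Cfsg.Agent.Lib.Helper27_UQ_KISO.Kv_comm_utv hk (a : F)
  QL g hg hgL := by
    rw [mem_Q] at hg
    rw [mem_L] at hgL
    have : (g : V ≃ₗ[F] V) ∈ Qv B v ⊓ Lv B v v' := ⟨hg, hgL⟩
    rw [Cfsg.Agent.Lib.Helper94_UQ_TORUS.Qv_inf_Lv hB h, Subgroup.mem_bot] at this
    exact Subtype.ext this

end Cfsg.Agent.Lib.Helper94_UQInst
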