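import Mathlib
import Cfsg.Agent.Lib.Helper94_UQInst
import Cfsg.Agent.Lib.Helper27_UQ_GEN

set_option autoImplicit false
set_option linter.unusedSectionVars false
set_option linter.unusedVariables false

/-!
# The points layer of the unitary `Q_v`-method

`P := IsoPt B` (isotropic points, `Helper13_PSUSimple`) with its action of `↥(SUg B)`;
`Qs, Xs : IsoPt B → Subgroup ↥(SUg B)` (unipotent radical and root group of a point, defined
without choices), `perp`, and the geometric hypotheses `hQ0 hX0 hQconj hXconj hQQ hopp` of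
`Helper50`'s `abstract_main`.  Parity-free.
-/

open Module Cfsg.Agent.Lib.Helper94_Symp Cfsg.Agent.Lib.Helper94_Herm
  Cfsg.Agent.Lib.Helper94_HermEich Cfsg.Agent.Lib.Helper94_HermPara
  Cfsg.Agent.Lib.Helper94_HermTrans
  Cfsg.Agent.Lib.Helper13_SUGen Cfsg.Agent.Lib.Helper13_PSUSimple
  Cfsg.Agent.Lib.Helper46_U3TI Cfsg.Agent.Lib.Helper14_PSULocal1
  Cfsg.Agent.Lib.Helper27_UQDefs Cfsg.Agent.Lib.Helper50_UQAbsDefs
  Cfsg.Agent.Lib.Helper94_UQInst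

namespace Cfsg.Agent.Lib.Helper94_UQPts

variable {F V : Type*} [Field F] [AddCommGroup V] [Module F V] {σ : F →+* F}
variable {B : V →ₗ[F] V →ₛₗ[σ] F}

/-! ### scaling the centre -/

theorem Qv_smul {c : F} (hc : c ≠ 0) (a : V) : Qv B (c • a) = Qv B a := by
  have hs : σ c ≠ 0 := fun h => hc ((map_eq_zero σ).mp h)
  ext g
  constructor
  · rintro ⟨h1, h2, h3⟩
    have ha : g a = a := by
      rw [map_smul] at h2
      have : c • (g a - a) = 0 := by rw [smul_sub, h2, sub_self]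
      rcases smul_eq_zero.mp this with h0 | h0
      · exact absurd h0 hc
      · exact sub_eq_zero.mp h0
    refine ⟨h1, ha, fun x hx => ?_⟩
    obtain ⟨d, hd⟩ := h3 x (by rw [map_smulₛₗ, hx, smul_zero])
    exact ⟨d * c, by rw [hd, smul_smul]⟩
  · rintro ⟨h1, h2, h3⟩
    refine ⟨h1, by rw [map_smul, h2], fun x hx => ?_⟩
    have hx' : B x a = 0 := by
      rw [map_smulₛₗ, smul_eq_mul] at hx
      exact (mul_eq_zero.mp hx).resolve_left hs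
    obtain ⟨d, hd⟩ := h3 x hx'
    exact ⟨d * c⁻¹, by rw [hd, smul_smul, inv_mul_cancel_right₀ hc]⟩

theorem Xv_smul (hσ : Invol σ) {c : F} (hc : c ≠ 0) (a : V) : Xv B (c • a) = Xv B a := by
  have hs : σ c ≠ 0 := fun h => hc ((map_eq_zero σ).mp h)
  have hfix : σ (c * σ c) = c * σ c := by rw [map_mul, hσ.invol, mul_comm]
  have hne : c * σ c ≠ 0 := mul_ne_zero hc hs
  ext g
  constructor
  · rintro ⟨t, ht, rfl⟩
    refine ⟨c * σ c * t, ?_, utv_smul a c t⟩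
    rw [map_mul, hfix, ht]; ring
  · rintro ⟨t, ht, rfl⟩
    refine ⟨(c * σ c)⁻¹ * t, ?_, ?_⟩
    · rw [map_mul, map_inv₀, hfix, ht]; ring
    · rw [utv_smul, ← mul_assoc, mul_inv_cancel₀ hne, one_mul]

/-! ### `Qs`, `Xs`, `perp` -/

/-- the unipotent radical at an isotropic point -/
noncomputable def Qs (B : V →ₗ[F] V →ₛₗ[σ] F) (W : IsoPt B) : Subgroup ↥(SUg B) :=
  ⨅ (a : V) (_ : a ∈ W.1) (_ : a ≠ 0), (Qv B a).subgroupOf (SUg B)

/-- the root group at an isotropic point -/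
noncomputable def Xs (B : V →ₗ[F] V →ₛₗ[σ] F) (W : IsoPt B) : Subgroup ↥(SUg B) :=
  ⨅ (a : V) (_ : a ∈ W.1) (_ : a ≠ 0), (Xv B a).subgroupOf (SUg B)

/-- perpendicular points -/
def perp (W W' : IsoPt B) : Prop := ∀ a ∈ W.1, ∀ b ∈ W'.1, B a b = 0

theorem mem_Qs {W : IsoPt B} {g : ↥(SUg B)} :
    g ∈ Qs B W ↔ ∀ a ∈ W.1, a ≠ 0 → (g : V ≃ₗ[F] V) ∈ Qv B a := by
  simp only [Qs, Subgroup.mem_iInf, Subgroup.mem_subgroupOf]

theorem mem_Xs {W : IsoPt B} {g : ↥(SUg B)} :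
    g ∈ Xs B W ↔ ∀ a ∈ W.1, a ≠ 0 → (g : V ≃ₗ[F] V) ∈ Xv B a := by
  simp only [Xs, Subgroup.mem_iInf, Subgroup.mem_subgroupOf]

theorem mem_mkPt {a : V} (ha0 : a ≠ 0) (ha : B a a = 0) {b : V} :
    b ∈ (mkPt ha0 ha : IsoPt B).1 ↔ ∃ c : F, c • a = b := Submodule.mem_span_singleton

theorem self_mem_mkPt {a : V} (ha0 : a ≠ 0) (ha : B a a = 0) : a ∈ (mkPt ha0 ha : IsoPt B).1 :=
  Submodule.mem_span_singleton_self a

theorem mem_Qs_mkPt {a : V} (ha0 : a ≠ 0) (ha : B a a = 0) {g : ↥(SUg B)} :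
    g ∈ Qs B (mkPt ha0 ha) ↔ (g : V ≃ₗ[F] V) ∈ Qv B a := by
  rw [mem_Qs]
  constructor
  · intro hg
    exact hg a (self_mem_mkPt ha0 ha) ha0
  · intro hg b hb hb0
    obtain ⟨c, rfl⟩ := (mem_mkPt ha0 ha).mp hb
    have hc : c ≠ 0 := by
      rintro rfl
      simp at hb0
    rw [Qv_smul hc]
    exact hg

theorem mem_Xs_mkPt (hσ : Invol σ) {a : V} (ha0 : a ≠ 0) (ha : B a a = 0) {g : ↥(SUg B)} :
    g ∈ Xs B (mkPt ha0 ha) ↔ (g : V ≃ₗ[F] V) ∈ Xv B a := by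
  rw [mem_Xs]
  constructor
  · intro hg
    exact hg a (self_mem_mkPt ha0 ha) ha0
  · intro hg b hb hb0
    obtain ⟨c, rfl⟩ := (mem_mkPt ha0 ha).mp hb
    have hc : c ≠ 0 := by
      rintro rfl
      simp at hb0
    rw [Xv_smul hσ hc]
    exact hg

theorem perp_mkPt {a b : V} (ha0 : a ≠ 0) (ha : B a a = 0) (hb0 : b ≠ 0) (hb : B b b = 0) :
    perp (mkPt ha0 ha : IsoPt B) (mkPt hb0 hb) ↔ B a b = 0 := by
  constructor
  · intro h
    exact h a (self_mem_mkPt ha0 ha) b (self_mem_mkPt hb0 hb)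
  · intro h x hx y hy
    obtain ⟨c, rfl⟩ := (mem_mkPt ha0 ha).mp hx
    obtain ⟨d, rfl⟩ := (mem_mkPt hb0 hb).mp hy
    rw [map_smulₛₗ, map_smul, LinearMap.smul_apply, h, smul_zero, smul_zero]

theorem mkPt_eq_iff {a b : V} (ha0 : a ≠ 0) (ha : B a a = 0) (hb0 : b ≠ 0) (hb : B b b = 0) :
    (mkPt ha0 ha : IsoPt B) = mkPt hb0 hb ↔ ∃ c : F, c ≠ 0 ∧ c • a = b := by
  constructor
  · intro h
    have hb' : b ∈ (mkPt ha0 ha : IsoPt B).1 := by rw [h]; exact self_mem_mkPt hb0 hb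
    obtain ⟨c, hc⟩ := (mem_mkPt ha0 ha).mp hb'
    refine ⟨c, ?_, hc⟩
    rintro rfl
    rw [zero_smul] at hc
    exact hb0 hc.symm
  · rintro ⟨c, hc, rfl⟩
    apply Subtype.ext
    show Submodule.span F {a} = Submodule.span F {c • a}
    exact (Submodule.span_singleton_smul_eq (IsUnit.mk0 c hc) a).symm

/-! ### the hypotheses of `abstract_main` about points -/

section hyps

variable (hσ : Invol σ) (hB : IsHerm B)

/-- `hQ0` -/
theorem Qs_mkPt_eq {v v' : V} (h : HypPair B v v') (hv0 : v ≠ 0) :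
    Qs B (mkPt hv0 h.ee) = (udat hσ hB h).Q := by
  ext g
  rw [mem_Qs_mkPt, mem_Q]

/-- `hX0` -/
theorem mem_Xs_mkPt_iff {v v' : V} (h : HypPair B v v') (hv0 : v ≠ 0) (g : ↥(SUg B)) :
    g ∈ Xs B (mkPt hv0 h.ee) ↔ ∃ a, g = (udat hσ hB h).x a := by
  rw [mem_Xs_mkPt hσ]
  constructor
  · rintro ⟨c, hc, hg⟩
    exact ⟨⟨c, hc⟩, Subtype.ext hg⟩
  · rintro ⟨a, rfl⟩
    exact utv_mem_Xv B v a.2

/-- `hQconj` -/
theorem Qs_conj (g : ↥(SUg B)) (u : IsoPt B) (x : ↥(SUg B)) (hx : x ∈ Qs B u) :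
    g * x * g⁻¹ ∈ Qs B (g • u) := by
  obtain ⟨a, ha0, ha, rfl⟩ := exists_eq_mkPt u
  rw [smul_mkPt, mem_Qs_mkPt]
  rw [mem_Qs_mkPt] at hx
  exact Cfsg.Agent.Lib.Helper27_UQ_GEN.conj_mem_Qv_of_uG (mem_SUg.mp g.2).1 hx

include hσ in
/-- `hXconj` -/
theorem Xs_conj (g : ↥(SUg B)) (u : IsoPt B) (x : ↥(SUg B)) (hx : x ∈ Xs B u) :
    g * x * g⁻¹ ∈ Xs B (g • u) := by
  obtain ⟨a, ha0, ha, rfl⟩ := exists_eq_mkPt u
  rw [smul_mkPt, mem_Xs_mkPt hσ]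
  rw [mem_Xs_mkPt hσ] at hx
  obtain ⟨c, hc, hxc⟩ := hx
  refine ⟨c, hc, ?_⟩
  show (g : V ≃ₗ[F] V) * (x : V ≃ₗ[F] V) * (g : V ≃ₗ[F] V)⁻¹ = _
  rw [hxc]
  exact conj_utv (mem_SUg.mp g.2).1 a c

include hB in
/-- `hQQ` -/
theorem exists_mem_Qs_inf (hN : NondegOn B ⊤) (u v : IsoPt B) (huv : perp u v) (hne : u ≠ v) :
    ∃ g ∈ Qs B u, g ∈ Qs B v ∧ g ≠ 1 := by
  obtain ⟨a, ha0, ha, rfl⟩ := exists_eq_mkPt u
  obtain ⟨b, hb0, hb, rfl⟩ := exists_eq_mkPt v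
  have hab : B a b = 0 := (perp_mkPt ha0 ha hb0 hb).mp huv
  have hba : B b a = 0 := herm_eq_zero hB hab
  have hmem := Cfsg.Agent.Lib.Helper94_UQ_REG.eich_mem_inf hB hb ha hab
  have hS : eich B b a 0 ∈ SUg B :=
    eich_mem_SUg hB (by rw [map_zero, add_zero, ha, neg_zero])
  refine ⟨⟨eich B b a 0, hS⟩, (mem_Qs_mkPt ha0 ha).mpr hmem.2, (mem_Qs_mkPt hb0 hb).mpr hmem.1, ?_⟩
  intro h1
  have h2 : eich B b a 0 = 1 := congrArg Subtype.val h1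
  refine Cfsg.Agent.Lib.Helper94_UQ_REG.eich_ne_one hB hN hb ha hab ?_ h2
  intro s t hst
  by_cases ht : t = 0
  · subst ht
    rw [zero_smul, add_zero] at hst
    rcases smul_eq_zero.mp hst with h0 | h0
    · exact ⟨h0, rfl⟩
    · exact absurd h0 hb0
  · exfalso
    apply hne
    rw [mkPt_eq_iff]
    refine ⟨-(s⁻¹ * t), ?_, ?_⟩
    · have hs : s ≠ 0 := by
        rintro rfl
        rw [zero_smul, zero_add] at hst
        rcases smul_eq_zero.mp hst with h0 | h0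
        · exact ht h0
        · exact ha0 h0
      exact neg_ne_zero.mpr (mul_ne_zero (inv_ne_zero hs) ht)
    · have hs : s ≠ 0 := by
        rintro rfl
        rw [zero_smul, zero_add] at hst
        rcases smul_eq_zero.mp hst with h0 | h0
        · exact ht h0
        · exact ha0 h0
      have : s • b = -(t • a) := eq_neg_of_add_eq_zero_left hst
      calc (-(s⁻¹ * t)) • a = s⁻¹ • (-(t • a)) := by rw [neg_smul, mul_smul, smul_neg]
        _ = s⁻¹ • (s • b) := by rw [this]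
        _ = b := by rw [smul_smul, inv_mul_cancel₀ hs, one_smul]

include hσ hB in
/-- `hopp` -/
theorem exists_Qs_map (hN : NondegOn B ⊤) (u x y : IsoPt B) (hux : ¬ perp u x)
    (huy : ¬ perp u y) : ∃ g ∈ Qs B u, g • x = y := by
  obtain ⟨a, ha0, ha, rfl⟩ := exists_eq_mkPt u
  obtain ⟨b, hb0, hb, rfl⟩ := exists_eq_mkPt x
  obtain ⟨c, hc0, hc, rfl⟩ := exists_eq_mkPt y
  rw [perp_mkPt] at hux huy
  have hba : B b a ≠ 0 := fun h0 => hux (herm_eq_zero hB h0)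
  have hca : B c a ≠ 0 := fun h0 => huy (herm_eq_zero hB h0)
  obtain ⟨a', h⟩ := Cfsg.Agent.Lib.Helper27_UQ_GEN.exists_hypPair hσ hB hN ha0 ha
  obtain ⟨g, hg, l, hl, hgb⟩ :=
    Cfsg.Agent.Lib.Helper94_UQ_REG.Qv_trans_opp hσ hB h hb hc hba hca
  refine ⟨⟨g, Qv_le_SUg hB h hg⟩, (mem_Qs_mkPt ha0 ha).mpr hg, ?_⟩
  rw [smul_mkPt, mkPt_eq_iff]
  refine ⟨l⁻¹, inv_ne_zero hl, ?_⟩
  show l⁻¹ • g b = c
  rw [hgb, smul_smul, inv_mul_cancel₀ hl, one_smul]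

end hyps

end Cfsg.Agent.Lib.Helper94_UQPts
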