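import Mathlib
import Cfsg.Agent.Lib.Helper94_UQInst
import Cfsg.Agent.Lib.Helper94_UQPts
import Cfsg.Agent.Lib.Helper27_UQ_GEN
import Cfsg.Agent.Lib.Helper27_UQ_CARD
import Cfsg.Agent.Lib.Helper27_UQ_GEO3
import Cfsg.Agent.Lib.Helper10_S2153_RP

set_option autoImplicit false

/-!
# S2151-RELT (architect helper68): the torus element `λ` on `⟨e1,f1⟩`, `λ⁻¹` on `⟨e2,f2⟩`
-/

open Module Cfsg.Agent.Lib.Helper94_Symp Cfsg.Agent.Lib.Helper94_Herm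
  Cfsg.Agent.Lib.Helper94_HermEich
  Cfsg.Agent.Lib.Helper13_SUGen Cfsg.Agent.Lib.Helper13_PSUSimple Cfsg.Agent.Lib.Helper14_PSULocal1
  Cfsg.Agent.Lib.Helper27_UQDefs Cfsg.Agent.Lib.Helper94_UQPts

namespace Cfsg.Agent.Lib.Helper10_S2151_RELT

variable {F V : Type*} [Field F] [AddCommGroup V] [Module F V] {σ : F →+* F}
variable {B : V →ₗ[F] V →ₛₗ[σ] F}

theorem dgE_pow_apply {e f : V} (h : HypPair B e f) {a b c : F} (ha : a ≠ 0) (hb : b ≠ 0)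
    (hc : c ≠ 0) (k : ℕ) (x : V) :
    ((dgE h ha hb hc) ^ k) x = dg B e f (a ^ k) (b ^ k) (c ^ k) x := by
  induction k generalizing x with
  | zero =>
    rw [pow_zero, pow_zero, pow_zero, pow_zero, dg_one]
    rfl
  | succ k ih =>
    rw [pow_succ, LinearEquiv.mul_apply, ih]
    show dg B e f (a ^ k) (b ^ k) (c ^ k) (dg B e f a b c x) = _
    rw [← LinearMap.comp_apply, dg_comp h, ← pow_succ, ← pow_succ, ← pow_succ]

theorem dgE_pow_eq_one {e f : V} (h : HypPair B e f) {a b c : F} (ha : a ≠ 0) (hb : b ≠ 0)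
    (hc : c ≠ 0) (k : ℕ) (hak : a ^ k = 1) (hbk : b ^ k = 1) (hck : c ^ k = 1) :
    (dgE h ha hb hc) ^ k = 1 := by
  ext x
  rw [dgE_pow_apply, hak, hbk, hck, dg_one]
  rfl

theorem RELT [FiniteDimensional F V] (hσ : Invol σ) (hB : IsHerm B) {e1 f1 e2 f2 : V}
    (h1 : HypPair B e1 f1) (h2 : HypPair B e2 f2) (he2 : e2 ∈ Wsub B e1 f1) (hf2 : f2 ∈ Wsub B e1 f1)
    {lam : F} (hlam : lam * σ lam = 1) (r : ℕ) (hlr : lam ^ r = 1) :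
    ∃ s : ↥(SUg B), (s : V ≃ₗ[F] V) e1 = lam • e1 ∧ (s : V ≃ₗ[F] V) f1 = lam • f1 ∧
      (s : V ≃ₗ[F] V) e2 = lam⁻¹ • e2 ∧ (s : V ≃ₗ[F] V) f2 = lam⁻¹ • f2 ∧
      (∀ x ∈ Wsub B e1 f1, x ∈ Wsub B e2 f2 → (s : V ≃ₗ[F] V) x = x) ∧ s ^ r = 1 := by
  have hl0 : lam ≠ 0 := by
    intro h0
    rw [h0, zero_mul] at hlam
    exact zero_ne_one hlam
  have hli0 : lam⁻¹ ≠ 0 := inv_ne_zero hl0
  have h10 : (1 : F) ≠ 0 := one_ne_zero
  have hlami : lam⁻¹ * σ lam⁻¹ = 1 := by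
    rw [map_inv₀, ← mul_inv, hlam, inv_one]
  have h11 : (1 : F) * σ 1 = 1 := by rw [map_one, mul_one]
  -- orthogonality relations
  obtain ⟨a1, a2⟩ := he2
  obtain ⟨a3, a4⟩ := hf2
  have b1 : B e1 e2 = 0 := by rw [hB e2 e1, a1, map_zero]
  have b2 : B f1 e2 = 0 := by rw [hB e2 f1, a2, map_zero]
  have b3 : B e1 f2 = 0 := by rw [hB f2 e1, a3, map_zero]
  have b4 : B f1 f2 = 0 := by rw [hB f2 f1, a4, map_zero]
  obtain ⟨s1, hs1⟩ : ∃ s1 : V ≃ₗ[F] V, s1 = dgE h1 hl0 hl0 h10 := ⟨_, rfl⟩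
  obtain ⟨s2, hs2⟩ : ∃ s2 : V ≃ₗ[F] V, s2 = dgE h2 hli0 hli0 h10 := ⟨_, rfl⟩
  have hs1u : s1 ∈ uG B := by rw [hs1]; exact dgE_mem_uG hσ hB h1 hl0 hl0 h10 hlam h11
  have hs2u : s2 ∈ uG B := by rw [hs2]; exact dgE_mem_uG hσ hB h2 hli0 hli0 h10 hlami h11
  have hdet : LinearEquiv.det (s1 * s2) = 1 := by
    rw [map_mul]
    apply Units.ext
    rw [Units.val_mul, hs1, hs2, det_dgE, det_dgE, Units.val_one, one_pow]
    field_simp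
  have hs1x : ∀ x, s1 x = x + ((lam - 1) * B x f1) • e1 + ((lam - 1) * B x e1) • f1 := by
    intro x; rw [hs1, dgE_apply, one_smul]
  have hs2x : ∀ x, s2 x = x + ((lam⁻¹ - 1) * B x f2) • e2 + ((lam⁻¹ - 1) * B x e2) • f2 := by
    intro x; rw [hs2, dgE_apply, one_smul]
  have hcomm : Commute s1 s2 := by
    show s1 * s2 = s2 * s1
    ext x
    rw [LinearEquiv.mul_apply, LinearEquiv.mul_apply, hs1x (s2 x), hs2x (s1 x), hs1x x, hs2x x]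
    simp only [map_add, map_smul, LinearMap.add_apply, LinearMap.smul_apply, smul_eq_mul,
      a1, a2, a3, a4, b1, b2, b3, b4, mul_zero, add_zero]
    abel
  refine ⟨⟨s1 * s2, mem_SUg.mpr ⟨(uG B).mul_mem hs1u hs2u, hdet⟩⟩, ?_, ?_, ?_, ?_, ?_, ?_⟩
  · show (s1 * s2) e1 = lam • e1
    rw [LinearEquiv.mul_apply, hs2, dgE_W h2 hli0 hli0 h10 b1 b3, one_smul, hs1, dgE_e]
  · show (s1 * s2) f1 = lam • f1
    rw [LinearEquiv.mul_apply, hs2, dgE_W h2 hli0 hli0 h10 b2 b4, one_smul, hs1, dgE_f]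
  · show (s1 * s2) e2 = lam⁻¹ • e2
    rw [LinearEquiv.mul_apply, hs2, dgE_e, map_smul, hs1, dgE_W h1 hl0 hl0 h10 a1 a2, one_smul]
  · show (s1 * s2) f2 = lam⁻¹ • f2
    rw [LinearEquiv.mul_apply, hs2, dgE_f, map_smul, hs1, dgE_W h1 hl0 hl0 h10 a3 a4, one_smul]
  · intro x hx1 hx2
    show (s1 * s2) x = x
    rw [LinearEquiv.mul_apply, hs2, dgE_W h2 hli0 hli0 h10 hx2.1 hx2.2, one_smul, hs1,
      dgE_W h1 hl0 hl0 h10 hx1.1 hx1.2, one_smul]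
  · apply Subtype.ext
    show (s1 * s2) ^ r = 1
    rw [hcomm.mul_pow, hs1, hs2,
      dgE_pow_eq_one h1 hl0 hl0 h10 r hlr hlr (one_pow r),
      dgE_pow_eq_one h2 hli0 hli0 h10 r (by rw [inv_pow, hlr, inv_one])
        (by rw [inv_pow, hlr, inv_one]) (one_pow r), one_mul]

end Cfsg.Agent.Lib.Helper10_S2151_RELT
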