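import Mathlib
import Cfsg.Agent.Lib.Helper33_U2Defs

/-!
# S2153-T4 (architect helper33; author helper10)

Base of the induction (`SU_4(2)`): for a `Q_v`-datum with `|W| = 16` whose `K` is transitive on the
9 nonzero singular vectors, if `t` moves a point of `Ω` then `|Ω| ≥ 24`.
-/

set_option autoImplicit false

namespace Cfsg.Agent.Lib.Helper10_S2153_T4

open Cfsg.Agent.Lib.Helper33_U2Defs

/-- the sign character of `ZMod 2` -/
def sgn (a : ZMod 2) : ℤ := if a = 0 then 1 else -1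

theorem sgn_add (a b : ZMod 2) : sgn (a + b) = sgn a * sgn b := by
  revert a b; decide

theorem sgn_zero : sgn 0 = 1 := rfl

theorem sgn_one : sgn 1 = -1 := rfl

theorem zmod2_cases (a : ZMod 2) : a = 0 ∨ a = 1 := by
  revert a; decide

/-- A totally isotropic subgroup of a nondegenerate symplectic `𝔽₂`-space has `|I|² ≤ |W|`. -/
theorem iso_bound {W : Type*} [AddCommGroup W] [Finite W] (β : W → W → ZMod 2)
    (hadd : ∀ w w' u : W, β (w + w') u = β w u + β w' u)
    (hsymm : ∀ w u : W, β w u = β u w)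
    (hnd : ∀ w : W, (∀ u, β w u = 0) → w = 0)
    (I : AddSubgroup W) (hI : ∀ a ∈ I, ∀ b ∈ I, β a b = 0) :
    Nat.card I ^ 2 ≤ Nat.card W := by
  classical
  have := Fintype.ofFinite W
  have hadd2 : ∀ a w u : W, β a (w + u) = β a w + β a u := by
    intro a w u
    rw [hsymm a (w + u), hadd, hsymm w a, hsymm u a]
  have hzero : ∀ w : W, β 0 w = 0 := by
    intro w
    have h := hadd 0 0 w
    rw [add_zero] at h
    have : β 0 w + β 0 w = β 0 w + 0 := by rw [← h, add_zero]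
    exact add_left_cancel this
  -- character sums over `W`
  have hS1 : ∀ a : W, a ≠ 0 → ∑ w : W, sgn (β a w) = 0 := by
    intro a ha
    obtain ⟨u, hu⟩ : ∃ u, β a u ≠ 0 := by
      by_contra hcon
      push Not at hcon
      exact ha (hnd a hcon)
    have hu1 : β a u = 1 := (zmod2_cases _).resolve_left hu
    have h1 : ∑ w : W, sgn (β a w) = ∑ w : W, sgn (β a (w + u)) :=
      (Equiv.sum_comp (Equiv.addRight u) (fun w => sgn (β a w))).symm
    have h2 : ∑ w : W, sgn (β a (w + u)) = - ∑ w : W, sgn (β a w) := by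
      rw [← Finset.sum_neg_distrib]
      refine Finset.sum_congr rfl fun w _ => ?_
      rw [hadd2, sgn_add, hu1, sgn_one]
      ring
    linarith
  -- the inner sums
  have hT_nonneg : ∀ w : W, 0 ≤ ∑ a : I, sgn (β (a : W) w) := by
    intro w
    by_cases hw : ∀ a : I, β (a : W) w = 0
    · apply Finset.sum_nonneg
      intro a _
      rw [hw a, sgn_zero]
      norm_num
    · push Not at hw
      obtain ⟨a₀, ha₀⟩ := hw
      have ha1 : β (a₀ : W) w = 1 := (zmod2_cases _).resolve_left ha₀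
      have h1 : ∑ a : I, sgn (β (a : W) w) = ∑ a : I, sgn (β ((a + a₀ : I) : W) w) :=
        (Equiv.sum_comp (Equiv.addRight a₀) (fun a : I => sgn (β (a : W) w))).symm
      have h2 : ∑ a : I, sgn (β ((a + a₀ : I) : W) w) = - ∑ a : I, sgn (β (a : W) w) := by
        rw [← Finset.sum_neg_distrib]
        refine Finset.sum_congr rfl fun a _ => ?_
        rw [AddSubgroup.coe_add, hadd, sgn_add, ha1, sgn_one]
        ring
      linarith
  have hT_mem : ∀ w : W, w ∈ I → ∑ a : I, sgn (β (a : W) w) = (Fintype.card I : ℤ) := by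
    intro w hw
    rw [Finset.sum_congr rfl (fun a _ => by rw [hI a a.2 w hw, sgn_zero]), Finset.sum_const,
      Finset.card_univ, nsmul_eq_mul, mul_one]
  -- double sum
  have hD : ∑ w : W, ∑ a : I, sgn (β (a : W) w) = (Fintype.card W : ℤ) := by
    rw [Finset.sum_comm]
    have h1 : ∀ a : I, ∑ w : W, sgn (β (a : W) w) = if a = 0 then (Fintype.card W : ℤ) else 0 := by
      intro a
      by_cases ha : a = 0
      · rw [if_pos ha, ha, AddSubgroup.coe_zero,
          Finset.sum_congr rfl (fun w _ => by rw [hzero w, sgn_zero]), Finset.sum_const,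
          Finset.card_univ, nsmul_eq_mul, mul_one]
      · rw [if_neg ha]
        apply hS1
        intro h
        exact ha (Subtype.ext h)
    rw [Finset.sum_congr rfl (fun a _ => h1 a), Finset.sum_ite_eq']
    simp
  -- lower bound
  have hL : (Fintype.card I : ℤ) * (Fintype.card I : ℤ) ≤ ∑ w : W, ∑ a : I, sgn (β (a : W) w) := by
    have h1 : ∑ w ∈ (Finset.univ.filter (fun w : W => w ∈ I)), ∑ a : I, sgn (β (a : W) w)
        ≤ ∑ w : W, ∑ a : I, sgn (β (a : W) w) :=
      Finset.sum_le_sum_of_subset_of_nonneg (Finset.filter_subset _ _) (fun w _ _ => hT_nonneg w)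
    have h2 : ∑ w ∈ (Finset.univ.filter (fun w : W => w ∈ I)), ∑ a : I, sgn (β (a : W) w)
        = (Fintype.card I : ℤ) * (Fintype.card I : ℤ) := by
      rw [Finset.sum_congr rfl (fun w hw => hT_mem w (Finset.mem_filter.mp hw).2), Finset.sum_const,
        nsmul_eq_mul]
      congr 1
      rw [Fintype.card_subtype]
    rw [← h2]
    exact h1
  rw [hD] at hL
  rw [Nat.card_eq_fintype_card, Nat.card_eq_fintype_card, sq]
  exact_mod_cast hL


section basics

variable {G : Type*} [Group G] {W : Type*} [AddCommGroup W]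

theorem pi_one (D : QDat G W) (hD : D.Ok) : D.π 1 = 0 := by
  have h := hD.π_mul 1 D.Q.one_mem 1 D.Q.one_mem
  rw [mul_one] at h
  have : D.π 1 + D.π 1 = D.π 1 + 0 := by rw [← h, add_zero]
  exact add_left_cancel this

theorem neg_eq_self (D : QDat G W) (hD : D.Ok) (w : W) : -w = w :=
  neg_eq_of_add_eq_zero_left (hD.two w)

theorem pi_inv (D : QDat G W) (hD : D.Ok) {g : G} (hg : g ∈ D.Q) : D.π g⁻¹ = D.π g := by
  have h := hD.π_mul g⁻¹ (D.Q.inv_mem hg) g hg
  rw [inv_mul_cancel, pi_one D hD] at h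
  have : D.π g⁻¹ = -D.π g := eq_neg_of_add_eq_zero_left h.symm
  rw [this, neg_eq_self D hD]

theorem beta_zero_left (D : QDat G W) (hD : D.Ok) (w : W) : D.β 0 w = 0 := by
  have h := hD.β_add 0 0 w
  rw [add_zero] at h
  have : D.β 0 w + D.β 0 w = D.β 0 w + 0 := by rw [← h, add_zero]
  exact add_left_cancel this

theorem beta_zero_right (D : QDat G W) (hD : D.Ok) (w : W) : D.β w 0 = 0 := by
  rw [hD.β_symm, beta_zero_left D hD]

/-- `t` is central in `Q` -/
theorem t_comm (D : QDat G W) (hD : D.Ok) {g : G} (hg : g ∈ D.Q) : g * D.t = D.t * g := by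
  have h := hD.comm g hg D.t hD.t_mem
  rw [hD.π_t, beta_zero_right D hD, ZMod.val_zero, pow_zero, one_mul] at h
  exact h

/-- `π` as a homomorphism on `Q` -/
def piHom (D : QDat G W) (hD : D.Ok) : ↥D.Q →* Multiplicative W where
  toFun g := Multiplicative.ofAdd (D.π (g : G))
  map_one' := by
    show Multiplicative.ofAdd (D.π ((1 : ↥D.Q) : G)) = 1
    rw [Subgroup.coe_one, pi_one D hD]; rfl
  map_mul' a b := by
    show Multiplicative.ofAdd (D.π ((a * b : ↥D.Q) : G)) = _
    rw [Subgroup.coe_mul, hD.π_mul a a.2 b b.2]; rfl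

theorem card_Q [Finite W] (D : QDat G W) (hD : D.Ok) : Nat.card ↥D.Q = 2 * Nat.card W := by
  have hsurj : Function.Surjective (piHom D hD) := by
    intro w
    obtain ⟨g, hg, hw⟩ := hD.π_surj (Multiplicative.toAdd w)
    refine ⟨⟨g, hg⟩, ?_⟩
    show Multiplicative.ofAdd (D.π g) = w
    rw [hw]; rfl
  have hmemker : ∀ g : ↥D.Q, g ∈ (piHom D hD).ker ↔ D.π (g : G) = 0 := by
    intro g
    rw [MonoidHom.mem_ker]
    show Multiplicative.ofAdd (D.π (g : G)) = 1 ↔ _
    exact Iff.rfl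
  have hker : Nat.card (piHom D hD).ker = 2 := by
    rw [Nat.card_eq_two_iff]
    refine ⟨⟨1, (piHom D hD).ker.one_mem⟩, ⟨⟨D.t, hD.t_mem⟩, (hmemker _).mpr hD.π_t⟩, ?_, ?_⟩
    · intro h
      apply hD.t_ne
      have := congrArg (fun x : (piHom D hD).ker => ((x : ↥D.Q) : G)) h
      exact this.symm
    · ext ⟨⟨g, hg⟩, hgk⟩
      simp only [Set.mem_insert_iff, Set.mem_singleton_iff, Set.mem_univ, iff_true]
      rcases hD.π_ker g hg ((hmemker _).mp hgk) with h | h
      · left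
        apply Subtype.ext
        apply Subtype.ext
        exact h
      · right
        apply Subtype.ext
        apply Subtype.ext
        exact h
  rw [Subgroup.card_eq_card_quotient_mul_card_subgroup (piHom D hD).ker, hker,
    Nat.card_congr (QuotientGroup.quotientKerEquivOfSurjective (piHom D hD) hsurj).toEquiv, mul_comm]
  rfl

variable {Ω : Type*} [MulAction G Ω]

/-- `I(ω) = π(Stab_Q ω)` -/
def Isub (D : QDat G W) (hD : D.Ok) (ω : Ω) : AddSubgroup W where
  carrier := {w | ∃ g ∈ D.Q, g • ω = ω ∧ D.π g = w}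
  zero_mem' := ⟨1, D.Q.one_mem, one_smul _ _, pi_one D hD⟩
  add_mem' := by
    rintro _ _ ⟨g, hg, hgω, rfl⟩ ⟨g', hg', hg'ω, rfl⟩
    exact ⟨g * g', D.Q.mul_mem hg hg', by rw [mul_smul, hg'ω, hgω], hD.π_mul g hg g' hg'⟩
  neg_mem' := by
    rintro _ ⟨g, hg, hgω, rfl⟩
    exact ⟨g, hg, hgω, (neg_eq_self D hD _).symm⟩

theorem mem_Isub (D : QDat G W) (hD : D.Ok) (ω : Ω) (w : W) :
    w ∈ Isub D hD ω ↔ ∃ g ∈ D.Q, g • ω = ω ∧ D.π g = w := Iff.rfl

/-- the stabiliser in `Q` of a point moved by `t` has the cardinality of `I(ω)` -/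
theorem card_stab (D : QDat G W) (hD : D.Ok) (ω : Ω) (hω : D.t • ω ≠ ω) :
    Nat.card (MulAction.stabilizer ↥D.Q ω) = Nat.card (Isub D hD ω) := by
  apply Nat.card_congr
  refine Equiv.ofBijective
    (fun g : MulAction.stabilizer ↥D.Q ω => (⟨D.π ((g : ↥D.Q) : G),
      ⟨((g : ↥D.Q) : G), (g : ↥D.Q).2, g.2, rfl⟩⟩ : Isub D hD ω)) ⟨?_, ?_⟩
  · intro a b hab
    have hab' : D.π ((a : ↥D.Q) : G) = D.π ((b : ↥D.Q) : G) := congrArg Subtype.val hab
    have ha : ((a : ↥D.Q) : G) ∈ D.Q := (a : ↥D.Q).2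
    have hb : ((b : ↥D.Q) : G) ∈ D.Q := (b : ↥D.Q).2
    have h1 : D.π (((a : ↥D.Q) : G) * ((b : ↥D.Q) : G)⁻¹) = 0 := by
      rw [hD.π_mul _ ha _ (D.Q.inv_mem hb), pi_inv D hD hb, hab', hD.two]
    have haω : ((a : ↥D.Q) : G) • ω = ω := a.2
    have hbω : ((b : ↥D.Q) : G) • ω = ω := b.2
    have hfix : (((a : ↥D.Q) : G) * ((b : ↥D.Q) : G)⁻¹) • ω = ω := by
      rw [mul_smul]
      have : ((b : ↥D.Q) : G)⁻¹ • ω = ω := inv_smul_eq_iff.mpr hbω.symm
      rw [this, haω]
    rcases hD.π_ker _ (D.Q.mul_mem ha (D.Q.inv_mem hb)) h1 with h | h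
    · apply Subtype.ext
      apply Subtype.ext
      exact mul_inv_eq_one.mp h
    · exfalso
      rw [h] at hfix
      exact hω hfix
  · rintro ⟨w, g, hg, hgω, rfl⟩
    exact ⟨⟨⟨g, hg⟩, hgω⟩, rfl⟩

/-- orbit-stabiliser for `Q` at a point moved by `t` -/
theorem card_orbit_mul [Finite W] (D : QDat G W) (hD : D.Ok) (ω : Ω) (hω : D.t • ω ≠ ω) :
    Nat.card (MulAction.orbit ↥D.Q ω) * Nat.card (Isub D hD ω) = 2 * Nat.card W := by
  rw [← card_stab D hD ω hω, ← Nat.card_prod,
    Nat.card_congr (MulAction.orbitProdStabilizerEquivGroup ↥D.Q ω), card_Q D hD]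

end basics


section props

variable {G : Type*} [Group G] {W : Type*} [AddCommGroup W] {Ω : Type*} [MulAction G Ω]

/-- `I(ω)` consists of singular vectors when `t` moves `ω` -/
theorem qf_Isub (D : QDat G W) (hD : D.Ok) (ω : Ω) (hω : D.t • ω ≠ ω) {w : W}
    (hw : w ∈ Isub D hD ω) : D.qf w = 0 := by
  obtain ⟨g, hg, hgω, rfl⟩ := hw
  rcases zmod2_cases (D.qf (D.π g)) with h | h
  · exact h
  · exfalso
    have h1 := hD.sq g hg
    rw [h, ZMod.val_one, pow_one] at h1
    apply hω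
    rw [← h1, mul_smul, hgω, hgω]

/-- `I(ω)` is totally isotropic when `t` moves `ω` -/
theorem beta_Isub (D : QDat G W) (hD : D.Ok) (ω : Ω) (hω : D.t • ω ≠ ω) {w w' : W}
    (hw : w ∈ Isub D hD ω) (hw' : w' ∈ Isub D hD ω) : D.β w w' = 0 := by
  obtain ⟨g, hg, hgω, rfl⟩ := hw
  obtain ⟨g', hg', hg'ω, rfl⟩ := hw'
  rcases zmod2_cases (D.β (D.π g) (D.π g')) with h | h
  · exact h
  · exfalso
    have h1 := hD.comm g hg g' hg'
    rw [h, ZMod.val_one, pow_one] at h1
    apply hω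
    have h2 : (g * g') • ω = (D.t * (g' * g)) • ω := by rw [h1]
    rw [mul_smul, mul_smul, mul_smul, hgω, hg'ω, hgω] at h2
    exact h2.symm

/-- `I` does not decrease along `Q`-orbits -/
theorem Isub_le_smul (D : QDat G W) (hD : D.Ok) (ω : Ω) {g : G} (hg : g ∈ D.Q) :
    Isub D hD ω ≤ Isub D hD (g • ω) := by
  rintro _ ⟨h, hh, hhω, rfl⟩
  refine ⟨g * h * g⁻¹, D.Q.mul_mem (D.Q.mul_mem hg hh) (D.Q.inv_mem hg), ?_, ?_⟩
  · rw [mul_smul, inv_smul_smul, mul_smul, hhω]
  · rw [hD.π_mul _ (D.Q.mul_mem hg hh) _ (D.Q.inv_mem hg), hD.π_mul _ hg _ hh, pi_inv D hD hg,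
      add_comm (D.π g), add_assoc, hD.two, add_zero]

/-- points of a `Q`-orbit of a moved point are moved -/
theorem moved_smul_Q (D : QDat G W) (hD : D.Ok) (ω : Ω) (hω : D.t • ω ≠ ω) {g : G}
    (hg : g ∈ D.Q) : D.t • (g • ω) ≠ g • ω := by
  intro h
  apply hω
  rw [← mul_smul, ← t_comm D hD hg, mul_smul] at h
  exact smul_left_cancel g h

/-- `K`-images of moved points are moved -/
theorem moved_smul_K (D : QDat G W) (hD : D.Ok) (ω : Ω) (hω : D.t • ω ≠ ω) {k : G}
    (hk : k ∈ D.K) : D.t • (k • ω) ≠ k • ω := by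
  intro h
  apply hω
  rw [← mul_smul, ← hD.K_t k hk, mul_smul] at h
  exact smul_left_cancel k h

/-- `I(k ω) ⊇ ρ_k I(ω)` -/
theorem rho_mem_Isub (D : QDat G W) (hD : D.Ok) (ω : Ω) {k : G} (hk : k ∈ D.K) {w : W}
    (hw : w ∈ Isub D hD ω) : D.ρ k w ∈ Isub D hD (k • ω) := by
  obtain ⟨h, hh, hhω, rfl⟩ := hw
  refine ⟨k * h * k⁻¹, hD.K_conj_mem k hk h hh, ?_, hD.K_conj_π k hk h hh⟩
  rw [mul_smul, inv_smul_smul, mul_smul, hhω]

end props

/-- S2153-T4 (M).  Base of the induction (`SU_4(2)`): if `t` moves a point then `|Ω| ≥ 24`. -/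
theorem T4 {G : Type*} [Group G] {W : Type*} [AddCommGroup W] [Finite W]
    {Ω : Type*} [MulAction G Ω] [Finite Ω]
    (D : QDat G W) (hD : D.Ok) (hW : Nat.card W = 16)
    (horb0 : ∀ w w' : W, w ≠ 0 → w' ≠ 0 → D.qf w = 0 → D.qf w' = 0 → ∃ k ∈ D.K, D.ρ k w = w')
    (hsing : Nat.card {w : W // w ≠ 0 ∧ D.qf w = 0} = 9)
    (hmoved : ∃ ω : Ω, D.t • ω ≠ ω) : 24 ≤ Nat.card Ω := by
  classical
  have := Fintype.ofFinite W
  have := Fintype.ofFinite Ω
  obtain ⟨ω₀, hω₀⟩ := hmoved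
  -- `|I(ω)| ≤ 4` for moved points
  have hI4 : ∀ ω : Ω, D.t • ω ≠ ω → Nat.card (Isub D hD ω) ≤ 4 := by
    intro ω hω
    have h := iso_bound D.β hD.β_add hD.β_symm hD.β_nondeg (Isub D hD ω)
      (fun a ha b hb => beta_Isub D hD ω hω ha hb)
    rw [hW] at h
    by_contra hcon
    push Not at hcon
    have : 5 ^ 2 ≤ Nat.card (Isub D hD ω) ^ 2 := Nat.pow_le_pow_left hcon 2
    omega
  -- orbits of moved points have at least 8 elements
  have horb8 : ∀ ω : Ω, D.t • ω ≠ ω → 8 ≤ Nat.card (MulAction.orbit ↥D.Q ω) := by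
    intro ω hω
    have h1 := card_orbit_mul D hD ω hω
    rw [hW] at h1
    have h2 := hI4 ω hω
    by_contra hcon
    push Not at hcon
    have : Nat.card (MulAction.orbit ↥D.Q ω) * Nat.card (Isub D hD ω) ≤ 7 * 4 :=
      Nat.mul_le_mul (by omega) h2
    omega
  by_cases hbot : Isub D hD ω₀ = ⊥
  · -- regular orbit
    have h1 := card_orbit_mul D hD ω₀ hω₀
    rw [hW, hbot] at h1
    have h2 : Nat.card (⊥ : AddSubgroup W) = 1 := AddSubgroup.card_bot
    rw [h2, mul_one] at h1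
    have h3 : Nat.card (MulAction.orbit ↥D.Q ω₀) ≤ Nat.card Ω :=
      Nat.card_le_card_of_injective _ Subtype.val_injective
    omega
  · -- a nonzero singular vector in `I(ω₀)`
    obtain ⟨a, ha⟩ := (AddSubgroup.ne_bot_iff_exists_ne_zero (H := Isub D hD ω₀)).mp hbot
    obtain ⟨w₀, hw₀I, hw₀⟩ : ∃ w : W, w ∈ Isub D hD ω₀ ∧ w ≠ 0 :=
      ⟨(a : W), a.2, fun h => ha (Subtype.ext h)⟩
    have hq₀ : D.qf w₀ = 0 := qf_Isub D hD ω₀ hω₀ hw₀I
    -- the double count
    let Sf : Finset W := Finset.univ.filter (fun w => w ≠ 0 ∧ D.qf w = 0)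
    have hSf : Sf.card = 9 := by
      rw [← hsing, Nat.card_eq_fintype_card, Fintype.card_subtype]
    let r : W → Ω → Prop := fun w' ω' => w' ∈ Isub D hD ω' ∧ D.t • ω' ≠ ω'
    have hdc := Finset.sum_card_bipartiteAbove_eq_sum_card_bipartiteBelow (s := Sf)
      (t := (Finset.univ : Finset Ω)) r
    -- lower bound
    have hlow : ∀ w' ∈ Sf, 8 ≤ ((Finset.univ : Finset Ω).bipartiteAbove r w').card := by
      intro w' hw'
      rw [Finset.mem_filter] at hw'
      obtain ⟨k, hk, hkw⟩ := horb0 w₀ w' hw₀ hw'.2.1 hq₀ hw'.2.2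
      have hmv : D.t • (k • ω₀) ≠ k • ω₀ := moved_smul_K D hD ω₀ hω₀ hk
      have hmem : w' ∈ Isub D hD (k • ω₀) := by
        rw [← hkw]; exact rho_mem_Isub D hD ω₀ hk hw₀I
      have hsub : MulAction.orbit ↥D.Q (k • ω₀) ⊆
          (((Finset.univ : Finset Ω).bipartiteAbove r w' : Finset Ω) : Set Ω) := by
        rintro _ ⟨g, rfl⟩
        rw [Finset.mem_coe, Finset.bipartiteAbove, Finset.mem_filter]
        refine ⟨Finset.mem_univ _, ?_, ?_⟩
        · exact Isub_le_smul D hD (k • ω₀) g.2 hmem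
        · exact moved_smul_Q D hD (k • ω₀) hmv g.2
      have h1 := horb8 (k • ω₀) hmv
      have h2 : Nat.card (MulAction.orbit ↥D.Q (k • ω₀)) =
          (MulAction.orbit ↥D.Q (k • ω₀)).ncard := rfl
      rw [h2] at h1
      have h3 := Set.ncard_le_ncard hsub (Finset.finite_toSet _)
      rw [Set.ncard_coe_finset] at h3
      omega
    -- upper bound
    have hup : ∀ ω' ∈ (Finset.univ : Finset Ω), (Sf.bipartiteBelow r ω').card ≤ 3 := by
      intro ω' _
      by_cases hmv : D.t • ω' = ω'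
      · have : Sf.bipartiteBelow r ω' = ∅ := by
          rw [Finset.bipartiteBelow, Finset.filter_eq_empty_iff]
          intro w _ hr
          exact hr.2 hmv
        rw [this, Finset.card_empty]
        omega
      · have h4 := hI4 ω' hmv
        rw [Nat.card_eq_fintype_card, Fintype.card_subtype] at h4
        have hsub : Sf.bipartiteBelow r ω' ⊆
            (Finset.univ.filter (fun w : W => w ∈ Isub D hD ω')).erase 0 := by
          intro w hw
          rw [Finset.bipartiteBelow, Finset.mem_filter, Finset.mem_filter] at hw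
          rw [Finset.mem_erase, Finset.mem_filter]
          exact ⟨hw.1.2.1, Finset.mem_univ _, hw.2.1⟩
        have h5 := Finset.card_le_card hsub
        have h0 : (0 : W) ∈ Finset.univ.filter (fun w : W => w ∈ Isub D hD ω') := by
          rw [Finset.mem_filter]
          exact ⟨Finset.mem_univ _, (Isub D hD ω').zero_mem⟩
        rw [Finset.card_erase_of_mem h0] at h5
        omega
    have h6 : 9 * 8 ≤ ∑ w' ∈ Sf, ((Finset.univ : Finset Ω).bipartiteAbove r w').card := by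
      rw [← hSf, ← smul_eq_mul, ← Finset.sum_const]
      exact Finset.sum_le_sum hlow
    have h7 : ∑ ω' ∈ (Finset.univ : Finset Ω), (Sf.bipartiteBelow r ω').card ≤
        Fintype.card Ω * 3 := by
      rw [← Finset.card_univ, ← smul_eq_mul, ← Finset.sum_const]
      exact Finset.sum_le_sum hup
    rw [Nat.card_eq_fintype_card]
    omega

end Cfsg.Agent.Lib.Helper10_S2153_T4
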