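import Mathlib

set_option autoImplicit false

/-!
Definitions shared by the packages of S2478 (class number of `GL_n(q)`):

* `Nq q d` : the number of monic polynomials of degree `d` with nonzero constant term over a field
  with `q` elements (`1` for `d = 0`, `(q-1) q^(d-1)` otherwise);
* `Dn n` : the degree vectors `d : Fin n → ℕ` with `∑ (j+1) d_j = n`;
* `IsType n h` : `h : Fin n → F[X]`, every `h j` monic with nonzero constant term and
  `∑ (j+1) deg h_j = n`;
* `Good n μ` : `μ` a multiset of pairs (monic irreducible polynomial with nonzero constant term,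
  positive exponent) with `∑ e deg p = n`;
* `Rep T μ` : the `F[X]`-module of the endomorphism `T` is a direct sum of the cyclic modules
  `F[X]/(p^e)`, `(p,e)` running over `μ`.
-/

namespace Cfsg.Agent.Lib.Helper40_GLClassDefs

open Polynomial DirectSum

universe u

/-- Number of monic polynomials of degree `d` with nonzero constant term over `F_q`. -/
def Nq (q d : ℕ) : ℕ := if d = 0 then 1 else (q - 1) * q ^ (d - 1)

/-- Degree vectors `d` with `∑ (j+1) d_j = n`. -/
def Dn (n : ℕ) : Finset (Fin n → ℕ) :=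
  (Fintype.piFinset (fun _ : Fin n => Finset.range (n + 1))).filter
    (fun d => ∑ j : Fin n, (j.val + 1) * d j = n)

/-- The monic polynomials of degree `d` with nonzero constant term. -/
def MonicNZ (F : Type u) [Field F] (d : ℕ) : Set F[X] :=
  {f | f.Monic ∧ f.natDegree = d ∧ f.coeff 0 ≠ 0}

/-- `h` is a type of size `n`. -/
def IsType {F : Type u} [Field F] (n : ℕ) (h : Fin n → F[X]) : Prop :=
  (∀ j, (h j).Monic ∧ (h j).coeff 0 ≠ 0) ∧ ∑ j : Fin n, (j.val + 1) * (h j).natDegree = n

/-- `μ` is a good multiset of elementary divisors of total size `n`. -/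
def Good {F : Type u} [Field F] (n : ℕ) (μ : Multiset (F[X] × ℕ)) : Prop :=
  (∀ x ∈ μ, Irreducible x.1 ∧ x.1.Monic ∧ x.1.coeff 0 ≠ 0 ∧ 0 < x.2) ∧
    (μ.map (fun x => x.2 * x.1.natDegree)).sum = n

/-- The `F[X]`-module of `T` is the direct sum of the `F[X]/(p^e)`, `(p,e) ∈ μ`. -/
def Rep {F : Type u} [Field F] {V : Type u} [AddCommGroup V] [Module F V]
    (T : Module.End F V) (μ : Multiset (F[X] × ℕ)) : Prop :=
  ∃ (ι : Type u) (_ : Fintype ι) (p : ι → F[X]) (e : ι → ℕ),
    μ = (Finset.univ : Finset ι).val.map (fun i => (p i, e i)) ∧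
    Nonempty (Module.AEval' T ≃ₗ[F[X]] ⨁ i : ι, F[X] ⧸ Submodule.span F[X] {p i ^ e i})

end Cfsg.Agent.Lib.Helper40_GLClassDefs
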