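import Mathlib
import Cfsg.Agent.Lib.Helper40_GLClassDefs

set_option autoImplicit false

/-!
# S2478-DECOMP (architect helper40): elementary divisor decomposition of an endomorphism, with monic
irreducible polynomials and positive exponents
-/

namespace Cfsg.Agent.Lib.Helper10_S2478_DECOMP

open Polynomial DirectSum Cfsg.Agent.Lib.Helper40_GLClassDefs

universe u

section drop

variable {R : Type*} [Semiring R] {ι : Type*} [DecidableEq ι] (M : ι → Type*)
  [∀ i, AddCommMonoid (M i)] [∀ i, Module R (M i)] (P : ι → Prop) [DecidablePred P]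

/-- forgetting the summands outside `P` -/
noncomputable def dropFwd : (⨁ i, M i) →ₗ[R] ⨁ j : {i // P i}, M j.1 :=
  DirectSum.toModule R ι (⨁ j : {i // P i}, M j.1)
    (fun i => if h : P i then DirectSum.lof R {i // P i} (fun j => M j.1) ⟨i, h⟩ else 0)

/-- the inclusion of the summands in `P` -/
noncomputable def dropBwd : (⨁ j : {i // P i}, M j.1) →ₗ[R] ⨁ i, M i :=
  DirectSum.toModule R {i // P i} (⨁ i, M i) (fun j => DirectSum.lof R ι M j.1)

theorem dropFwd_lof_pos (i : ι) (h : P i) (x : M i) :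
    dropFwd (R := R) M P (DirectSum.lof R ι M i x) =
      DirectSum.lof R {i // P i} (fun j => M j.1) ⟨i, h⟩ x := by
  unfold dropFwd
  rw [DirectSum.toModule_lof, dif_pos h]

theorem dropFwd_lof_neg (i : ι) (h : ¬ P i) (x : M i) :
    dropFwd (R := R) M P (DirectSum.lof R ι M i x) = 0 := by
  unfold dropFwd
  rw [DirectSum.toModule_lof, dif_neg h]
  rfl

omit [DecidablePred P] in
theorem dropBwd_lof (j : {i // P i}) (x : M j.1) :
    dropBwd (R := R) M P (DirectSum.lof R {i // P i} (fun j => M j.1) j x) =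
      DirectSum.lof R ι M j.1 x := by
  unfold dropBwd
  rw [DirectSum.toModule_lof]

/-- dropping subsingleton summands from a direct sum -/
noncomputable def dropEquiv (hP : ∀ i, ¬ P i → Subsingleton (M i)) :
    (⨁ i, M i) ≃ₗ[R] ⨁ j : {i // P i}, M j.1 :=
  LinearEquiv.ofLinearMap (dropFwd M P) (dropBwd M P)
    (by
      apply DirectSum.linearMap_ext
      intro j
      ext x
      simp only [LinearMap.coe_comp, Function.comp_apply, LinearMap.id_coe, id_eq]
      rw [dropBwd_lof, dropFwd_lof_pos M P j.1 j.2])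
    (by
      apply DirectSum.linearMap_ext
      intro i
      ext x
      simp only [LinearMap.coe_comp, Function.comp_apply, LinearMap.id_coe, id_eq]
      by_cases h : P i
      · rw [dropFwd_lof_pos M P i h, dropBwd_lof]
      · rw [dropFwd_lof_neg M P i h, map_zero]
        have := hP i h
        rw [Subsingleton.elim x 0, map_zero])

end drop

theorem isTorsion_aeval' {F : Type u} [Field F] {V : Type u} [AddCommGroup V] [Module F V]
    [FiniteDimensional F V] (T : Module.End F V) :
    Module.IsTorsion F[X] (Module.AEval' T) := by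
  intro x
  refine ⟨⟨T.charpoly, ?_⟩, ?_⟩
  · exact mem_nonZeroDivisors_of_ne_zero (LinearMap.charpoly_monic T).ne_zero
  · show T.charpoly • x = 0
    obtain ⟨m, rfl⟩ := (Module.AEval'.of T).surjective x
    rw [← Module.AEval.of_aeval_smul, LinearMap.aeval_self_charpoly]
    simp

theorem decomp {F : Type u} [Field F] {V : Type u} [AddCommGroup V] [Module F V]
    [FiniteDimensional F V] (T : Module.End F V) :
    ∃ μ : Multiset (F[X] × ℕ),
      (∀ x ∈ μ, Irreducible x.1 ∧ x.1.Monic ∧ 0 < x.2) ∧ Rep T μ := by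
  classical
  obtain ⟨ι, hι, p, hp, e, ⟨φ⟩⟩ := Module.equiv_directSum_of_isTorsion (isTorsion_aeval' T)
  -- monic normalisation
  have hp0 : ∀ i, p i ≠ 0 := fun i => (hp i).ne_zero
  have hassoc : ∀ i, Associated (p i ^ e i) (normalize (p i) ^ e i) := fun i =>
    (normalize_associated (p i)).symm.pow_pow
  have hspan : ∀ i, Submodule.span F[X] {p i ^ e i} = Submodule.span F[X] {normalize (p i) ^ e i} :=
    fun i => Ideal.span_singleton_eq_span_singleton.2 (hassoc i)
  obtain ⟨ψ⟩ : Nonempty ((⨁ i : ι, F[X] ⧸ Submodule.span F[X] {p i ^ e i}) ≃ₗ[F[X]]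
      ⨁ i : ι, F[X] ⧸ Submodule.span F[X] {normalize (p i) ^ e i}) :=
    ⟨DFinsupp.mapRange.linearEquiv (fun i => Submodule.quotEquivOfEq _ _ (hspan i))⟩
  have hsub : ∀ i, ¬ (e i ≠ 0) →
      Subsingleton (F[X] ⧸ Submodule.span F[X] {normalize (p i) ^ e i}) := by
    intro i hi
    rw [not_not] at hi
    rw [Submodule.Quotient.subsingleton_iff, hi, pow_zero]
    exact Ideal.span_singleton_one
  obtain ⟨χ⟩ : Nonempty ((⨁ i : ι, F[X] ⧸ Submodule.span F[X] {normalize (p i) ^ e i}) ≃ₗ[F[X]]
      ⨁ j : {i // e i ≠ 0}, F[X] ⧸ Submodule.span F[X] {normalize (p j.1) ^ e j.1}) :=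
    ⟨dropEquiv (fun i => F[X] ⧸ Submodule.span F[X] {normalize (p i) ^ e i})
      (fun i => e i ≠ 0) hsub⟩
  refine ⟨(Finset.univ : Finset {i // e i ≠ 0}).val.map
    (fun j => (normalize (p j.1), e j.1)), ?_, ?_⟩
  · intro x hx
    rw [Multiset.mem_map] at hx
    obtain ⟨j, -, rfl⟩ := hx
    refine ⟨(normalize_associated (p j.1)).symm.irreducible (hp j.1), ?_, Nat.pos_of_ne_zero j.2⟩
    exact Polynomial.monic_normalize (hp0 j.1)
  · exact ⟨{i // e i ≠ 0}, inferInstance, fun j => normalize (p j.1), fun j => e j.1, rfl,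
      ⟨φ ≪≫ₗ ψ ≪≫ₗ χ⟩⟩

end Cfsg.Agent.Lib.Helper10_S2478_DECOMP
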