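import Mathlib
import Cfsg.Agent.Lib.Helper40_GLClassDefs

set_option autoImplicit false

/-!
# S2478-DIM (architect helper40): dimension count for the elementary divisor decomposition
-/

namespace Cfsg.Agent.Lib.Helper10_S2478_DIM

open Polynomial DirectSum Cfsg.Agent.Lib.Helper40_GLClassDefs

universe u

theorem dim {F : Type u} [Field F] {V : Type u} [AddCommGroup V] [Module F V]
    [FiniteDimensional F V] (T : Module.End F V) (μ : Multiset (F[X] × ℕ))
    (hμ : ∀ x ∈ μ, x.1 ≠ 0) (h : Rep T μ) :
    (μ.map (fun x => x.2 * x.1.natDegree)).sum = Module.finrank F V := by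
  classical
  obtain ⟨ι, hι, p, e, hμeq, ⟨φ⟩⟩ := h
  have hne : ∀ i, p i ≠ 0 := fun i =>
    hμ (p i, e i) (by rw [hμeq]; exact Multiset.mem_map_of_mem _ (Finset.mem_univ_val i))
  have h1 : Module.finrank F V = Module.finrank F (Module.AEval' T) :=
    (Module.AEval'.of T).finrank_eq
  have h2 : Module.finrank F (Module.AEval' T) =
      Module.finrank F (⨁ i : ι, F[X] ⧸ Submodule.span F[X] {p i ^ e i}) :=
    (φ.restrictScalars F).finrank_eq
  have hfin : ∀ i, Module.Finite F (F[X] ⧸ Submodule.span F[X] {p i ^ e i}) := fun i =>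
    (AdjoinRoot.powerBasis (pow_ne_zero (e i) (hne i))).finite
  have h3 : Module.finrank F (⨁ i : ι, F[X] ⧸ Submodule.span F[X] {p i ^ e i}) =
      ∑ i, Module.finrank F (F[X] ⧸ Submodule.span F[X] {p i ^ e i}) :=
    Module.finrank_directSum F _
  have h4 : ∀ i, Module.finrank F (F[X] ⧸ Submodule.span F[X] {p i ^ e i}) =
      e i * (p i).natDegree := by
    intro i
    have := finrank_quotient_span_eq_natDegree (f := p i ^ e i)
    rw [natDegree_pow] at this
    exact this
  rw [h1, h2, h3, hμeq, Multiset.map_map]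
  show ∑ i, _ = _
  exact Finset.sum_congr rfl (fun i _ => (h4 i).symm)

end Cfsg.Agent.Lib.Helper10_S2478_DIM
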