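import Mathlib
import Cfsg.Agent.Lib.Helper40_GLClassDefs

set_option autoImplicit false

/-!
Definitions shared by the packages of S2479 (class number of `SL_n(q)`), on top of
`Helper40_GLClassDefs` (S2478):

* `gam q n d` : `gcd (q - 1, {j + 1 | d j ≠ 0})`, the number of `SL_n(q)`-classes into which
  a `GL_n(q)`-class of type with degree vector `d` splits (an upper bound for it, anyway);
* `Wt q n d` : the number `∏ j, Nq q (d j)` of types with degree vector `d`;
* `SLsum q n` : `∑ d ∈ Dn n, Wt q n d * gam q n d ^ 2` (this is `(q - 1) k(SL_n(q))`);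
* `detType n h` : the determinant `∏ j, ((-1)^(deg h_j) h_j(0))^(j+1)` of a matrix of type `h`;
* `detMu μ` : the determinant `∏ ((-1)^(deg p) p(0))^e` of a matrix with elementary divisors `μ`;
* `expGcd μ` : the gcd of the exponents `e`, `(p, e) ∈ μ`.
-/

namespace Cfsg.Agent.Lib.Helper40_SLClassDefs

open Polynomial DirectSum Cfsg.Agent.Lib.Helper40_GLClassDefs

universe u

/-- `gcd (q - 1, {j + 1 | d j ≠ 0})`. -/
def gam (q n : ℕ) (d : Fin n → ℕ) : ℕ :=
  Nat.gcd (q - 1) ((Finset.univ.filter (fun j : Fin n => d j ≠ 0)).gcd (fun j => j.val + 1))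

/-- The number of types with degree vector `d`. -/
def Wt (q n : ℕ) (d : Fin n → ℕ) : ℕ := ∏ j : Fin n, Nq q (d j)

/-- `(q - 1) k(SL_n(q))`. -/
def SLsum (q n : ℕ) : ℕ := ∑ d ∈ Dn n, Wt q n d * gam q n d ^ 2

/-- The determinant of a matrix of type `h`. -/
noncomputable def detType {F : Type u} [Field F] (n : ℕ) (h : Fin n → F[X]) : F :=
  ∏ j : Fin n, ((-1) ^ (h j).natDegree * (h j).coeff 0) ^ (j.val + 1)

/-- The determinant of a matrix with elementary divisors `μ`. -/
noncomputable def detMu {F : Type u} [Field F] (μ : Multiset (F[X] × ℕ)) : F :=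
  (μ.map (fun x => ((-1) ^ x.1.natDegree * x.1.coeff 0) ^ x.2)).prod

/-- The gcd of the exponents of the elementary divisors. -/
def expGcd {F : Type u} [Field F] (μ : Multiset (F[X] × ℕ)) : ℕ := (μ.map Prod.snd).gcd

end Cfsg.Agent.Lib.Helper40_SLClassDefs
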