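import Mathlib
import Cfsg.Agent.Lib.Helper40_GLClassDefs

set_option autoImplicit false
set_option linter.unusedVariables false
set_option linter.unusedSimpArgs false
set_option linter.unusedSectionVars false

/-!
# S2478 (class number of `GL_n(q)`, architect helper40), package S2478-ENCODE:
a good multiset of elementary divisors is encoded, injectively, by a type.
-/

namespace Cfsg.Agent.Lib.Helper58_S2478_ENCODE

open Polynomial DirectSum Cfsg.Agent.Lib.Helper40_GLClassDefs

universe u

/-- the part of `μ` with exponent `j + 1` -/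
def part {F : Type u} [Field F] (n : ℕ) (μ : Multiset (F[X] × ℕ)) (j : Fin n) :
    Multiset (F[X] × ℕ) :=
  μ.filter (fun x => x.2 = j.val + 1)

/-- the encoding: the product of the polynomials with exponent `j + 1` -/
noncomputable def enc {F : Type u} [Field F] (n : ℕ) (μ : Multiset (F[X] × ℕ)) (j : Fin n) : F[X] :=
  ((part n μ j).map Prod.fst).prod

theorem mem_part {F : Type u} [Field F] (n : ℕ) (μ : Multiset (F[X] × ℕ)) (j : Fin n)
    (x : F[X] × ℕ) : x ∈ part n μ j ↔ x ∈ μ ∧ x.2 = j.val + 1 := by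
  unfold part
  rw [Multiset.mem_filter]

/-- a multiset all of whose exponents lie in `[1, n]` is the sum of its parts -/
theorem sum_part {F : Type u} [Field F] (n : ℕ) (μ : Multiset (F[X] × ℕ))
    (hμ : ∀ x ∈ μ, 1 ≤ x.2 ∧ x.2 ≤ n) : ∑ j : Fin n, part n μ j = μ := by
  classical
  ext a
  rw [Multiset.count_sum']
  unfold part
  simp only [Multiset.count_filter]
  by_cases ha : a ∈ μ
  · obtain ⟨h1, hn⟩ := hμ a ha
    rw [Finset.sum_eq_single (⟨a.2 - 1, by omega⟩ : Fin n)]
    · rw [if_pos]
      show a.2 = a.2 - 1 + 1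
      omega
    · intro j _ hj
      rw [if_neg]
      intro h
      apply hj
      apply Fin.ext
      show j.val = a.2 - 1
      omega
    · intro h
      exact absurd (Finset.mem_univ _) h
  · rw [Multiset.count_eq_zero_of_notMem ha]
    simp

theorem good_bounds {F : Type u} [Field F] (n : ℕ) (μ : Multiset (F[X] × ℕ)) (h : Good n μ) :
    ∀ x ∈ μ, 1 ≤ x.2 ∧ x.2 ≤ n := by
  intro x hx
  obtain ⟨hirr, hmon, hc, hpos⟩ := h.1 x hx
  refine ⟨hpos, ?_⟩
  have h1 : x.2 * x.1.natDegree ≤ n := by
    rw [← h.2]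
    exact Multiset.le_sum_of_mem (Multiset.mem_map_of_mem (fun x : F[X] × ℕ => x.2 * x.1.natDegree) hx)
  have h2 : 1 ≤ x.1.natDegree := hirr.natDegree_pos
  calc x.2 = x.2 * 1 := (mul_one _).symm
    _ ≤ x.2 * x.1.natDegree := Nat.mul_le_mul_left _ h2
    _ ≤ n := h1

theorem isType_enc {F : Type u} [Field F] (n : ℕ) (μ : Multiset (F[X] × ℕ)) (h : Good n μ) :
    IsType n (enc n μ) := by
  have hmonic : ∀ j : Fin n, ∀ f ∈ (part n μ j).map Prod.fst, Monic f := by
    intro j f hf
    rw [Multiset.mem_map] at hf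
    obtain ⟨x, hx, rfl⟩ := hf
    rw [mem_part] at hx
    exact (h.1 x hx.1).2.1
  refine ⟨fun j => ⟨?_, ?_⟩, ?_⟩
  · unfold enc
    exact monic_multiset_prod_of_monic _ _ (fun x hx => by
      rw [mem_part] at hx
      exact (h.1 x hx.1).2.1)
  · unfold enc
    rw [coeff_zero_multiset_prod]
    apply Multiset.prod_ne_zero
    intro h0
    rw [Multiset.mem_map] at h0
    obtain ⟨f, hf, hf0⟩ := h0
    rw [Multiset.mem_map] at hf
    obtain ⟨x, hx, rfl⟩ := hf
    rw [mem_part] at hx
    exact (h.1 x hx.1).2.2.1 hf0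
  · have e1 : ∀ j : Fin n, (j.val + 1) * (enc n μ j).natDegree =
        ((part n μ j).map (fun x => x.2 * x.1.natDegree)).sum := by
      intro j
      unfold enc
      rw [natDegree_multiset_prod_of_monic _ (hmonic j), Multiset.map_map, ← Multiset.sum_map_mul_left]
      congr 1
      apply Multiset.map_congr rfl
      intro x hx
      rw [mem_part] at hx
      show (j.val + 1) * x.1.natDegree = x.2 * x.1.natDegree
      rw [hx.2]
    rw [Finset.sum_congr rfl (fun j _ => e1 j)]
    have e2 : ∑ j : Fin n, ((part n μ j).map (fun x => x.2 * x.1.natDegree)).sum =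
        ((∑ j : Fin n, part n μ j).map (fun x => x.2 * x.1.natDegree)).sum := by
      rw [← Multiset.mapAddMonoidHom_apply, map_sum, ← Multiset.coe_sumAddMonoidHom, map_sum]
      rfl
    rw [e2, sum_part n μ (good_bounds n μ h), h.2]

theorem part_eq_of_enc_eq {F : Type u} [Field F] (n : ℕ) (μ μ' : Multiset (F[X] × ℕ))
    (h : Good n μ) (h' : Good n μ') (j : Fin n) (he : enc n μ j = enc n μ' j) :
    part n μ j = part n μ' j := by
  have key : ∀ ν : Multiset (F[X] × ℕ),
      ((part n ν j).map Prod.fst).map (fun p => (p, j.val + 1)) = part n ν j := by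
    intro ν
    rw [Multiset.map_map]
    conv_rhs => rw [← Multiset.map_id (part n ν j)]
    apply Multiset.map_congr rfl
    intro x hx
    rw [mem_part] at hx
    show (x.1, j.val + 1) = x
    rw [← hx.2]
  have hirr : ∀ ν : Multiset (F[X] × ℕ), Good n ν →
      ∀ f ∈ (part n ν j).map Prod.fst, Irreducible f ∧ Monic f := by
    intro ν hν f hf
    rw [Multiset.mem_map] at hf
    obtain ⟨x, hx, rfl⟩ := hf
    rw [mem_part] at hx
    exact ⟨(hν.1 x hx.1).1, (hν.1 x hx.1).2.1⟩
  have hrel : Multiset.Rel Associated ((part n μ j).map Prod.fst) ((part n μ' j).map Prod.fst) := by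
    apply UniqueFactorizationMonoid.factors_unique (fun x hx => (hirr μ h x hx).1)
      (fun x hx => (hirr μ' h' x hx).1)
    unfold enc at he
    rw [he]
    exact Associated.refl _
  have hrel2 : Multiset.Rel Eq ((part n μ j).map Prod.fst) ((part n μ' j).map Prod.fst) :=
    hrel.mono (fun a ha b hb hab =>
      eq_of_monic_of_associated (hirr μ h a ha).2 (hirr μ' h' b hb).2 hab)
  rw [Multiset.rel_eq] at hrel2
  rw [← key μ, ← key μ', hrel2]

theorem encode {F : Type u} [Field F] (n : ℕ) :
    ∃ enc : Multiset (F[X] × ℕ) → (Fin n → F[X]),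
      (∀ μ, Good n μ → IsType n (enc μ)) ∧
      (∀ μ μ', Good n μ → Good n μ' → enc μ = enc μ' → μ = μ') := by
  refine ⟨enc n, fun μ h => isType_enc n μ h, ?_⟩
  intro μ μ' h h' he
  rw [← sum_part n μ (good_bounds n μ h), ← sum_part n μ' (good_bounds n μ' h')]
  apply Finset.sum_congr rfl
  intro j _
  exact part_eq_of_enc_eq n μ μ' h h' j (congrFun he j)

end Cfsg.Agent.Lib.Helper58_S2478_ENCODE
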