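import Mathlib
import Cfsg.Agent.Lib.Helper40_GLClassDefs
import Cfsg.Agent.Lib.Helper40_SLClassDefs
import Cfsg.Agent.Lib.Helper58_S2478_ENCODE

set_option autoImplicit false

/-!
# S2479 (class number of `SL_n(q)`, architect helper40), package S2479-DETENC:
the determinant of the type encoding a good multiset `μ` of elementary divisors is `detMu μ`.
-/

namespace Cfsg.Agent.Lib.Helper10_S2479_DETENC

open Polynomial DirectSum Cfsg.Agent.Lib.Helper40_GLClassDefs Cfsg.Agent.Lib.Helper40_SLClassDefs
open Cfsg.Agent.Lib.Helper58_S2478_ENCODE (enc part)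

universe u v

/-- the weight `((-1)^deg p * p(0))` of a polynomial -/
noncomputable def wt {F : Type u} [Field F] (f : F[X]) : F := (-1) ^ f.natDegree * f.coeff 0

theorem wt_multiset_prod {F : Type u} [Field F] (s : Multiset F[X]) (hs : ∀ f ∈ s, f.Monic) :
    wt s.prod = (s.map wt).prod := by
  unfold wt
  rw [natDegree_multiset_prod_of_monic _ hs, coeff_zero_multiset_prod]
  induction s using Multiset.induction_on with
  | empty => simp
  | cons a s ih =>
    have hs' : ∀ f ∈ s, f.Monic := fun f hf => hs f (Multiset.mem_cons_of_mem hf)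
    simp only [Multiset.map_cons, Multiset.sum_cons, Multiset.prod_cons]
    rw [← ih hs', pow_add]
    ring

theorem detType_enc {F : Type u} [Field F] (n : ℕ) (μ : Multiset (F[X] × ℕ)) (h : Good n μ) :
    detType n (enc n μ) = detMu μ := by
  have hmonic : ∀ j : Fin n, ∀ f ∈ (part n μ j).map Prod.fst, Monic f := by
    intro j f hf
    rw [Multiset.mem_map] at hf
    obtain ⟨x, hx, rfl⟩ := hf
    rw [Cfsg.Agent.Lib.Helper58_S2478_ENCODE.mem_part] at hx
    exact (h.1 x hx.1).2.1
  have e1 : ∀ j : Fin n, (wt (enc n μ j)) ^ (j.val + 1) =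
      ((part n μ j).map (fun x => (wt x.1) ^ x.2)).prod := by
    intro j
    unfold enc
    rw [wt_multiset_prod _ (hmonic j), Multiset.map_map, ← Multiset.prod_map_pow]
    congr 1
    apply Multiset.map_congr rfl
    intro x hx
    rw [Cfsg.Agent.Lib.Helper58_S2478_ENCODE.mem_part] at hx
    show (wt x.1) ^ (j.val + 1) = (wt x.1) ^ x.2
    rw [hx.2]
  have e2 : ∏ j : Fin n, ((part n μ j).map (fun x => (wt x.1) ^ x.2)).prod =
      ((∑ j : Fin n, part n μ j).map (fun x => (wt x.1) ^ x.2)).prod := by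
    rw [← Multiset.mapAddMonoidHom_apply, map_sum, Multiset.prod_sum]
    rfl
  show ∏ j : Fin n, (wt (enc n μ j)) ^ (j.val + 1) = (μ.map (fun x => (wt x.1) ^ x.2)).prod
  rw [Finset.prod_congr rfl (fun j _ => e1 j), e2,
    Cfsg.Agent.Lib.Helper58_S2478_ENCODE.sum_part n μ
      (Cfsg.Agent.Lib.Helper58_S2478_ENCODE.good_bounds n μ h)]

end Cfsg.Agent.Lib.Helper10_S2479_DETENC
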