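import Mathlib
import Cfsg.Agent.Lib.Helper40_GLClassDefs
import Cfsg.Agent.Lib.Helper40_SLClassDefs

set_option autoImplicit false

/-!
# S2479 (class number of `SL_n(q)`, architect helper40), package S2479-DETREP:
an endomorphism with elementary divisors `μ` has determinant `detMu μ`.
-/

namespace Cfsg.Agent.Lib.Helper10_S2479_DETREP

open Polynomial DirectSum Cfsg.Agent.Lib.Helper40_GLClassDefs Cfsg.Agent.Lib.Helper40_SLClassDefs

universe u v

theorem det_rep {F : Type u} [Field F] {V : Type u} [AddCommGroup V] [Module F V]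
    [Module.Finite F V] (T : Module.End F V) (μ : Multiset (F[X] × ℕ))
    (hμ : ∀ x ∈ μ, x.1.Monic) (hrep : Rep T μ)
    (hdetsum : ∀ (ι : Type u) [Fintype ι] [DecidableEq ι] (p : ι → F[X]) (e : ι → ℕ)
      (_ : ∀ i, (p i).Monic)
      (f : ∀ i, (F[X] ⧸ Submodule.span F[X] {p i ^ e i}) →ₗ[F]
        (F[X] ⧸ Submodule.span F[X] {p i ^ e i})),
      LinearMap.det (M := ⨁ i, F[X] ⧸ Submodule.span F[X] {p i ^ e i})
        (DFinsupp.mapRange.linearMap f) = ∏ i, LinearMap.det (f i))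
    (hdetX : ∀ f : F[X], f.Monic →
      LinearMap.det (DistribSMul.toLinearMap F (F[X] ⧸ Submodule.span F[X] {f}) (X : F[X])) =
        (-1) ^ f.natDegree * f.coeff 0) :
    LinearMap.det T = detMu μ := by
  classical
  obtain ⟨ι, _, p, e, hμe, ⟨φ⟩⟩ := hrep
  have hp : ∀ i, (p i).Monic := fun i =>
    hμ (p i, e i) (by rw [hμe]; exact Multiset.mem_map_of_mem _ (Finset.mem_univ_val i))
  let Ψ : V ≃ₗ[F] ⨁ i : ι, F[X] ⧸ Submodule.span F[X] {p i ^ e i} :=
    (Module.AEval'.of T).trans (φ.restrictScalars F)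
  let D : (⨁ i : ι, F[X] ⧸ Submodule.span F[X] {p i ^ e i}) →ₗ[F]
      (⨁ i : ι, F[X] ⧸ Submodule.span F[X] {p i ^ e i}) :=
    DFinsupp.mapRange.linearMap
      (fun i => DistribSMul.toLinearMap F (F[X] ⧸ Submodule.span F[X] {p i ^ e i}) (X : F[X]))
  have hD : ∀ w : ⨁ i : ι, F[X] ⧸ Submodule.span F[X] {p i ^ e i}, D w = (X : F[X]) • w := by
    intro w
    apply DFinsupp.ext
    intro i
    show (DFinsupp.mapRange.linearMap
      (fun i => DistribSMul.toLinearMap F (F[X] ⧸ Submodule.span F[X] {p i ^ e i}) (X : F[X])) w) i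
      = ((X : F[X]) • w) i
    rw [DFinsupp.mapRange.linearMap_apply, DFinsupp.mapRange_apply]
    rfl
  have hΨ : ∀ v, Ψ (T v) = D (Ψ v) := by
    intro v
    show φ (Module.AEval'.of T (T v)) = D (φ (Module.AEval'.of T v))
    rw [← Module.AEval'.X_smul_of, map_smul, hD]
  have hT : T = (Ψ.symm : (⨁ i : ι, F[X] ⧸ Submodule.span F[X] {p i ^ e i}) ≃ₗ[F] V).toLinearMap ∘ₗ
      D ∘ₗ (Ψ.symm.symm : V ≃ₗ[F] ⨁ i : ι, F[X] ⧸ Submodule.span F[X] {p i ^ e i}).toLinearMap := by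
    apply LinearMap.ext
    intro v
    show T v = Ψ.symm (D (Ψ v))
    rw [← hΨ, LinearEquiv.symm_apply_apply]
  have hdc := LinearMap.det_conj (A := F)
    (M := ⨁ i : ι, F[X] ⧸ Submodule.span F[X] {p i ^ e i}) (N := V) D Ψ.symm
  rw [hT]
  refine hdc.trans ?_
  have h1 := hdetsum ι p e hp
    (fun i => DistribSMul.toLinearMap F (F[X] ⧸ Submodule.span F[X] {p i ^ e i}) (X : F[X]))
  refine h1.trans ?_
  rw [hμe]
  unfold detMu
  rw [Multiset.map_map]
  show _ = ∏ i : ι, ((-1) ^ (p i).natDegree * (p i).coeff 0) ^ e i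
  apply Finset.prod_congr rfl
  intro i _
  rw [hdetX (p i ^ e i) ((hp i).pow (e i)), (hp i).natDegree_pow, coeff_zero_eq_eval_zero,
    eval_pow, ← coeff_zero_eq_eval_zero, mul_pow, ← pow_mul, mul_comm (p i).natDegree]

end Cfsg.Agent.Lib.Helper10_S2479_DETREP
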