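import Mathlib

/-!
# S2490-T (architect helper62): a nontrivial normal subgroup of minimal order is perfect and inherits
"no nontrivial normal `r`-subgroups".
-/

set_option autoImplicit false

namespace Cfsg.Agent.Lib.Helper10_S2490_T

/-- The `r`-core of a group (intersection of its Sylow `r`-subgroups) is characteristic. -/
theorem rcore_characteristic {R : Type*} [Group R] (r : ℕ) :
    (⨅ P : Sylow r R, (P : Subgroup R)).Characteristic := by
  rw [Subgroup.characteristic_iff_le_comap]
  intro φ x hx
  rw [Subgroup.mem_comap, Subgroup.mem_iInf]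
  intro P
  have hx' := (Subgroup.mem_iInf.mp hx) (φ⁻¹ • P)
  rw [Sylow.pointwise_smul_def, Subgroup.mem_pointwise_smul_iff_inv_smul_mem, inv_inv] at hx'
  exact hx'

/-- A characteristic `r`-subgroup of a normal subgroup `R` of `G` is trivial when `G` has no
nontrivial normal `r`-subgroups. -/
theorem char_rgroup_eq_bot {G : Type*} [Group G]
    (hF : ∀ r : ℕ, r.Prime → ∀ Y : Subgroup G, Y.Normal → IsPGroup r Y → Y = ⊥)
    (R : Subgroup G) [R.Normal] (r : ℕ) (hr : r.Prime) (K : Subgroup R) [K.Characteristic]
    (hK : IsPGroup r K) : K = ⊥ := by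
  have hn : (K.map R.subtype).Normal := inferInstance
  have hp : IsPGroup r (K.map R.subtype) := hK.map R.subtype
  have h := hF r hr _ hn hp
  exact (Subgroup.map_eq_bot_iff_of_injective K R.subtype_injective).mp h

/-- S2490-T. A nontrivial normal subgroup of minimal order: perfect, inherits `hF`. -/
theorem exists_perfect_normal {G : Type*} [Group G] [Finite G] [Nontrivial G]
    (hF : ∀ r : ℕ, r.Prime → ∀ Y : Subgroup G, Y.Normal → IsPGroup r Y → Y = ⊥) :
    ∃ R : Subgroup G, R.Normal ∧ R ≠ ⊥ ∧
      (∀ M : Subgroup G, M.Normal → M ≠ ⊥ → Nat.card R ≤ Nat.card M) ∧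
      commutator R = ⊤ ∧
      (∀ r : ℕ, r.Prime → ∀ Y : Subgroup R, Y.Normal → IsPGroup r Y → Y = ⊥) := by
  classical
  -- choose a nontrivial normal subgroup of minimal order
  have hex : ∃ n : ℕ, ∃ M : Subgroup G, M.Normal ∧ M ≠ ⊥ ∧ Nat.card M = n :=
    ⟨_, ⊤, inferInstance, top_ne_bot, rfl⟩
  obtain ⟨R, hRn, hRne, hRcard⟩ := Nat.find_spec hex
  have hmin : ∀ M : Subgroup G, M.Normal → M ≠ ⊥ → Nat.card R ≤ Nat.card M := by
    intro M hMn hMne
    rw [hRcard]
    exact Nat.find_min' hex ⟨M, hMn, hMne, rfl⟩
  have := hRn
  -- characteristic subgroups of `R` are trivial or everything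
  have hchar : ∀ K : Subgroup R, K.Characteristic → K = ⊥ ∨ K = ⊤ := by
    intro K hK
    by_cases hKb : K = ⊥
    · exact Or.inl hKb
    · right
      have := hK
      have hn : (K.map R.subtype).Normal := inferInstance
      have hne : K.map R.subtype ≠ ⊥ := by
        intro h
        exact hKb ((Subgroup.map_eq_bot_iff_of_injective K R.subtype_injective).mp h)
      have h1 := hmin _ hn hne
      have h2 : Nat.card (K.map R.subtype) = Nat.card K :=
        Subgroup.card_map_of_injective R.subtype_injective
      rw [h2] at h1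
      exact (Subgroup.card_eq_iff_eq_top K).mp (le_antisymm (Subgroup.card_le_card_group K) h1)
  have hRnt : Nontrivial R := (Subgroup.nontrivial_iff_ne_bot R).mpr hRne
  refine ⟨R, hRn, hRne, hmin, ?_, ?_⟩
  · -- perfect
    rcases hchar (commutator R) inferInstance with h | h
    · exfalso
      -- `R` is abelian
      have hcomm : ∀ a b : R, a * b = b * a := by
        intro a b
        rw [commutator_def, Subgroup.commutator_eq_bot_iff_le_centralizer] at h
        have := h (Subgroup.mem_top b)
        rw [Subgroup.mem_centralizer_iff] at this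
        exact this a (Subgroup.mem_top a)
      have hcard1 : Nat.card R ≠ 1 := by
        intro h1
        have : Subsingleton R := (Nat.card_eq_one_iff_unique.mp h1).1
        exact not_subsingleton R this
      obtain ⟨r, hr, hrd⟩ := Nat.exists_prime_and_dvd hcard1
      have : Fact r.Prime := ⟨hr⟩
      obtain ⟨P⟩ : Nonempty (Sylow r R) := inferInstance
      have hPn : (P : Subgroup R).Normal := by
        constructor
        intro n hn g
        have : g * n * g⁻¹ = n := by rw [hcomm g n, mul_assoc, mul_inv_cancel, mul_one]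
        rw [this]
        exact hn
      have : (P : Subgroup R).Characteristic := Sylow.characteristic_of_normal P hPn
      have hPb := char_rgroup_eq_bot hF R r hr (P : Subgroup R) P.isPGroup'
      exact P.ne_bot_of_dvd_card hrd hPb
    · exact h
  · intro r hr Y hYn hYp
    have := hYn
    have : Fact r.Prime := ⟨hr⟩
    have := rcore_characteristic (R := R) r
    have hK : IsPGroup r (⨅ P : Sylow r R, (P : Subgroup R) : Subgroup R) := by
      obtain ⟨P⟩ : Nonempty (Sylow r R) := inferInstance
      exact P.isPGroup'.to_le (iInf_le _ P)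
    have hKb := char_rgroup_eq_bot hF R r hr _ hK
    rw [eq_bot_iff, ← hKb]
    exact le_iInf fun P => hYp.le_sylow_of_normal P

end Cfsg.Agent.Lib.Helper10_S2490_T
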