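import Mathlib
import Cfsg.Prelude.Def_Classical
import Cfsg.Agent.Lib.Helper44_Orth

/-!
# Definitions for S2647 (`Ω₇(q)`, `q ≡ ±3 mod 8`: Sylow 2-subgroup self-automizing, no strongly closed subgroup,
2-fusion system simple)  (helper76)

Model: `Q7 = x₀² + … + x₆²` on `Fin 7 → F`, `O7 = isometryGroup F Q7 ≤ GL₇(F)`, `Om7 = Ω(Q7) = [O7, O7] ≤ O7`.
Monomial matrices `monM ε π` (`e_j ↦ ε_j e_{π j}`, `ε : Fin 7 → ℤˣ`, `π : Perm (Fin 7)`), as elements `monO ε π` of `O7`.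
`Ed = {monO ε 1 | ∏ ε = 1} ≅ 2⁶`, `Sy = {monO ε π | ∏ ε = 1, π ∈ D8} ≅ 2⁶ : D₈` where
`D8 = ⟨(0 1 2 3)(4 5), (0 2)(4 5)⟩ ≤ A₇` is a Sylow 2-subgroup of `A₇`.
-/

set_option autoImplicit false

namespace Cfsg.Agent.Lib.Helper76_S2647Defs

open Matrix

variable (F : Type*) [Field F]

/-- the sum of seven squares -/
def Q7 : QuadraticForm F (Fin 7 → F) := QuadraticMap.weightedSumSquares F (fun _ : Fin 7 => (1 : F))

theorem Q7_apply (v : Fin 7 → F) : Q7 F v = ∑ i, v i * v i := by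
  unfold Q7
  rw [QuadraticMap.weightedSumSquares_apply]
  simp

/-- `O₇(F)`, the isometry group of `Q7` inside `GL₇(F)` -/
abbrev O7 : Subgroup (Matrix.GeneralLinearGroup (Fin 7) F) := Cfsg.isometryGroup F (⇑(Q7 F))

/-- `Ω₇(F) = [O₇, O₇]`, a subgroup of `O7` -/
abbrev Om7 : Subgroup ↥(O7 F) := Cfsg.Omega F (⇑(Q7 F))

/-- a sign vector, read in `F` -/
def sgnF (ε : Fin 7 → ℤˣ) : Fin 7 → F := fun j => (((ε j : ℤˣ) : ℤ) : F)

theorem sgnF_mul_self (ε : Fin 7 → ℤˣ) (j : Fin 7) : sgnF F ε j * sgnF F ε j = 1 := by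
  unfold sgnF
  rcases Int.units_eq_one_or (ε j) with h | h <;> rw [h] <;> simp

theorem sgnF_mul (ε ε' : Fin 7 → ℤˣ) (j : Fin 7) :
    sgnF F (fun j => ε j * ε' j) j = sgnF F ε j * sgnF F ε' j := by
  unfold sgnF
  push_cast
  rfl

theorem sgnF_one (j : Fin 7) : sgnF F 1 j = 1 := by
  unfold sgnF
  simp

/-- the monomial matrix `e_j ↦ ε_j e_{π j}` -/
def monM (ε : Fin 7 → ℤˣ) (π : Equiv.Perm (Fin 7)) : Matrix (Fin 7) (Fin 7) F :=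
  (π⁻¹).permMatrix F * Matrix.diagonal (sgnF F ε)

theorem monM_apply (ε : Fin 7 → ℤˣ) (π : Equiv.Perm (Fin 7)) (i j : Fin 7) :
    monM F ε π i j = if i = π j then sgnF F ε j else 0 := by
  unfold monM
  rw [PEquiv.toMatrix_toPEquiv_mul, Matrix.submatrix_apply, id, Matrix.diagonal_apply]
  by_cases h : i = π j
  · subst h
    simp
  · rw [if_neg h, if_neg]
    intro h'
    apply h
    rw [← h']
    simp

theorem monM_mulVec (ε : Fin 7 → ℤˣ) (π : Equiv.Perm (Fin 7)) (v : Fin 7 → F) (i : Fin 7) :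
    (monM F ε π *ᵥ v) i = sgnF F ε (π⁻¹ i) * v (π⁻¹ i) := by
  unfold monM
  rw [← Matrix.mulVec_mulVec, Matrix.permMatrix_mulVec, Function.comp_apply, Matrix.mulVec_diagonal]

theorem monM_mul (ε ε' : Fin 7 → ℤˣ) (π π' : Equiv.Perm (Fin 7)) :
    monM F ε π * monM F ε' π' = monM F (fun j => ε' j * ε (π' j)) (π * π') := by
  ext i j
  rw [Matrix.mul_apply]
  simp only [monM_apply]
  rw [Finset.sum_eq_single (π' j)]
  · simp only [if_true]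
    by_cases h : i = π (π' j)
    · rw [if_pos h, if_pos (by simpa using h), sgnF_mul, mul_comm]
      rfl
    · rw [if_neg h, if_neg (by simpa using h), zero_mul]
  · intro k _ hk
    rw [if_neg hk, mul_zero]
  · intro h
    exact absurd (Finset.mem_univ _) h

theorem monM_one : monM F 1 1 = 1 := by
  ext i j
  rw [monM_apply, Matrix.one_apply, sgnF_one]
  by_cases h : i = j <;> simp [h]

theorem monM_mul_inv (ε : Fin 7 → ℤˣ) (π : Equiv.Perm (Fin 7)) :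
    monM F ε π * monM F (fun j => ε (π⁻¹ j)) π⁻¹ = 1 := by
  rw [monM_mul, ← monM_one]
  congr 1
  · funext j
    have hj : π (π⁻¹ j) = j := by simp
    show ε (π⁻¹ j) * ε (π⁻¹ j) = 1
    rcases Int.units_eq_one_or (ε (π⁻¹ j)) with h | h <;> rw [h] <;> simp
  · simp

theorem monM_inv_mul (ε : Fin 7 → ℤˣ) (π : Equiv.Perm (Fin 7)) :
    monM F (fun j => ε (π⁻¹ j)) π⁻¹ * monM F ε π = 1 := by
  rw [monM_mul, ← monM_one]
  congr 1
  · funext j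
    have hj : π⁻¹ (π j) = j := by simp
    show ε j * ε (π⁻¹ (π j)) = 1
    rw [hj]
    rcases Int.units_eq_one_or (ε j) with h | h <;> simp [h]
  · simp

/-- `monM ε π` as an element of `GL₇(F)` -/
def mon (ε : Fin 7 → ℤˣ) (π : Equiv.Perm (Fin 7)) : Matrix.GeneralLinearGroup (Fin 7) F :=
  ⟨monM F ε π, monM F (fun j => ε (π⁻¹ j)) π⁻¹, monM_mul_inv F ε π, monM_inv_mul F ε π⟩

theorem mon_coe (ε : Fin 7 → ℤˣ) (π : Equiv.Perm (Fin 7)) :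
    ((mon F ε π : Matrix.GeneralLinearGroup (Fin 7) F) : Matrix (Fin 7) (Fin 7) F) = monM F ε π := rfl

theorem mon_mem (ε : Fin 7 → ℤˣ) (π : Equiv.Perm (Fin 7)) : mon F ε π ∈ O7 F := by
  rw [Cfsg.Agent.Lib.Helper44_Orth.mem_isometryGroup_iff]
  intro u
  rw [Q7_apply, Q7_apply, mon_coe]
  simp only [monM_mulVec]
  rw [← Equiv.sum_comp π⁻¹ (fun i => u i * u i)]
  apply Finset.sum_congr rfl
  intro i _
  have := sgnF_mul_self F ε (π⁻¹ i)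
  calc sgnF F ε (π⁻¹ i) * u (π⁻¹ i) * (sgnF F ε (π⁻¹ i) * u (π⁻¹ i))
      = (sgnF F ε (π⁻¹ i) * sgnF F ε (π⁻¹ i)) * (u (π⁻¹ i) * u (π⁻¹ i)) := by ring
    _ = u (π⁻¹ i) * u (π⁻¹ i) := by rw [this, one_mul]

/-- `monM ε π` as an element of `O₇(F)` -/
def monO (ε : Fin 7 → ℤˣ) (π : Equiv.Perm (Fin 7)) : ↥(O7 F) := ⟨mon F ε π, mon_mem F ε π⟩

theorem monO_coe (ε : Fin 7 → ℤˣ) (π : Equiv.Perm (Fin 7)) :
    (((monO F ε π : ↥(O7 F)) : Matrix.GeneralLinearGroup (Fin 7) F) : Matrix (Fin 7) (Fin 7) F) =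
      monM F ε π := rfl

theorem monO_mul (ε ε' : Fin 7 → ℤˣ) (π π' : Equiv.Perm (Fin 7)) :
    monO F ε π * monO F ε' π' = monO F (fun j => ε' j * ε (π' j)) (π * π') := by
  apply Subtype.ext
  apply Units.ext
  exact monM_mul F ε ε' π π'

theorem monO_one : monO F 1 1 = 1 := by
  apply Subtype.ext
  apply Units.ext
  exact monM_one F

theorem monO_inv (ε : Fin 7 → ℤˣ) (π : Equiv.Perm (Fin 7)) :
    (monO F ε π)⁻¹ = monO F (fun j => ε (π⁻¹ j)) π⁻¹ := by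
  apply inv_eq_of_mul_eq_one_right
  apply Subtype.ext
  apply Units.ext
  exact monM_mul_inv F ε π

/-! ### The dihedral group `D8 ≤ A₇` -/

/-- `(0 1 2 3)(4 5)` -/
def r4 : Equiv.Perm (Fin 7) where
  toFun := ![1, 2, 3, 0, 5, 4, 6]
  invFun := ![3, 0, 1, 2, 5, 4, 6]
  left_inv := by decide
  right_inv := by decide

/-- `(0 2)(4 5)` -/
def s2 : Equiv.Perm (Fin 7) where
  toFun := ![2, 1, 0, 3, 5, 4, 6]
  invFun := ![2, 1, 0, 3, 5, 4, 6]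
  left_inv := by decide
  right_inv := by decide

/-- `D8 = ⟨(0 1 2 3)(4 5), (0 2)(4 5)⟩`, a Sylow 2-subgroup of `A₇` -/
def D8 : Subgroup (Equiv.Perm (Fin 7)) := Subgroup.closure {r4, s2}

/-! ### The subgroups `Ed ≅ 2⁶` and `Sy ≅ 2⁶ : D₈` of `O₇(F)` -/

/-- the even sign changes -/
def Ed : Subgroup ↥(O7 F) where
  carrier := {k | ∃ ε : Fin 7 → ℤˣ, ∏ j, ε j = 1 ∧ k = monO F ε 1}
  mul_mem' := by
    rintro _ _ ⟨ε, hε, rfl⟩ ⟨ε', hε', rfl⟩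
    refine ⟨fun j => ε' j * ε ((1 : Equiv.Perm (Fin 7)) j), ?_, ?_⟩
    · simp only [Equiv.Perm.coe_one, id]
      rw [Finset.prod_mul_distrib, hε, hε', one_mul]
    · rw [monO_mul, mul_one]
  one_mem' := ⟨1, by simp, (monO_one F).symm⟩
  inv_mem' := by
    rintro _ ⟨ε, hε, rfl⟩
    refine ⟨fun j => ε ((1 : Equiv.Perm (Fin 7))⁻¹ j), ?_, ?_⟩
    · simpa using hε
    · rw [monO_inv, inv_one]

/-- `Sy = Ed : D8`, a Sylow 2-subgroup of `Ω₇(q)` when `q ≡ ±3 mod 8` -/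
def Sy : Subgroup ↥(O7 F) where
  carrier := {k | ∃ (ε : Fin 7 → ℤˣ) (π : Equiv.Perm (Fin 7)), ∏ j, ε j = 1 ∧ π ∈ D8 ∧ k = monO F ε π}
  mul_mem' := by
    rintro _ _ ⟨ε, π, hε, hπ, rfl⟩ ⟨ε', π', hε', hπ', rfl⟩
    refine ⟨fun j => ε' j * ε (π' j), π * π', ?_, D8.mul_mem hπ hπ', monO_mul F ε ε' π π'⟩
    rw [Finset.prod_mul_distrib, hε', one_mul, Equiv.prod_comp π' ε, hε]
  one_mem' := ⟨1, 1, by simp, D8.one_mem, (monO_one F).symm⟩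
  inv_mem' := by
    rintro _ ⟨ε, π, hε, hπ, rfl⟩
    refine ⟨fun j => ε (π⁻¹ j), π⁻¹, ?_, D8.inv_mem hπ, monO_inv F ε π⟩
    rw [Equiv.prod_comp π⁻¹ ε, hε]

theorem mem_Ed_iff (k : ↥(O7 F)) : k ∈ Ed F ↔ ∃ ε : Fin 7 → ℤˣ, ∏ j, ε j = 1 ∧ k = monO F ε 1 := Iff.rfl

theorem mem_Sy_iff (k : ↥(O7 F)) :
    k ∈ Sy F ↔ ∃ (ε : Fin 7 → ℤˣ) (π : Equiv.Perm (Fin 7)), ∏ j, ε j = 1 ∧ π ∈ D8 ∧ k = monO F ε π :=
  Iff.rfl

theorem Ed_le_Sy : Ed F ≤ Sy F := by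
  rintro _ ⟨ε, hε, rfl⟩
  exact (mem_Sy_iff F _).mpr ⟨ε, 1, hε, D8.one_mem, rfl⟩

end Cfsg.Agent.Lib.Helper76_S2647Defs
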