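import Mathlib
import Cfsg.Agent.Lib.Helper76_S2647Defs
import Cfsg.Agent.Lib.Helper44_Spinor
import Cfsg.Agent.Lib.Helper44_Refl

set_option autoImplicit false

/-!
# S2647 (architect helper76), package S2647-OMTHD: the spinor character `theta` of a sign change
`monO ε 1` is the product of the signs (a single sign change at `j` is the reflection in `e_j`, of norm `1`).
Also: the polar form of `Q7`, and the reflection in a vector as a function (used by OMTHP).
-/

namespace Cfsg.Agent.Lib.Helper10_S2647_OMTHD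

open Matrix Cfsg.Agent.Lib.Helper76_S2647Defs

variable {F : Type*} [Field F]

theorem polar_Q7 (v x : Fin 7 → F) :
    QuadraticMap.polar (⇑(Q7 F)) v x = 2 * ∑ i, v i * x i := by
  unfold QuadraticMap.polar
  rw [Q7_apply, Q7_apply, Q7_apply, ← Finset.sum_sub_distrib, ← Finset.sum_sub_distrib,
    Finset.mul_sum]
  apply Finset.sum_congr rfl
  intro i _
  simp only [Pi.add_apply]
  ring

/-- two elements of `O7` with the same action are equal -/
theorem O7_ext (g h : ↥(O7 F))
    (hgh : ∀ x : Fin 7 → F, ((g : Matrix.GeneralLinearGroup (Fin 7) F) : Matrix (Fin 7) (Fin 7) F) *ᵥ x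
      = ((h : Matrix.GeneralLinearGroup (Fin 7) F) : Matrix (Fin 7) (Fin 7) F) *ᵥ x) : g = h := by
  apply Subtype.ext
  apply Units.ext
  exact Matrix.ext_iff_mulVec.2 hgh

/-- the action of the reflection of `Q7` in `v` -/
theorem refl_Q7_mulVec (v : Fin 7 → F) (hv : Q7 F v ≠ 0) (x : Fin 7 → F) :
    ((Cfsg.Agent.Lib.Helper44_Refl.refl (Q7 F) v hv : Matrix.GeneralLinearGroup (Fin 7) F) :
      Matrix (Fin 7) (Fin 7) F) *ᵥ x = x - ((Q7 F v)⁻¹ * (2 * ∑ i, v i * x i)) • v := by
  rw [Cfsg.Agent.Lib.Helper44_Refl.refl_coe, Cfsg.Agent.Lib.Helper44_Refl.reflectionMatrix_mulVec,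
    polar_Q7]

theorem Q7_single (j : Fin 7) : Q7 F (Pi.single j (1 : F)) = 1 := by
  rw [Q7_apply]
  rw [Finset.sum_eq_single j]
  · simp
  · intro i _ hij
    rw [Pi.single_eq_of_ne hij, mul_zero]
  · intro h
    exact absurd (Finset.mem_univ _) h

theorem Q7_single_ne (j : Fin 7) : Q7 F (Pi.single j (1 : F)) ≠ 0 := by
  rw [Q7_single]
  exact one_ne_zero

/-- the sign change at `j` is the reflection in `e_j` -/
theorem monO_mulSingle (j : Fin 7) :
    monO F (Pi.mulSingle j (-1)) 1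
      = Cfsg.Agent.Lib.Helper44_Refl.refl (Q7 F) (Pi.single j (1 : F)) (Q7_single_ne j) := by
  apply O7_ext
  intro x
  rw [refl_Q7_mulVec, Q7_single, monO_coe]
  funext i
  rw [monM_mulVec]
  have hs : ∑ k, (Pi.single j (1 : F) : Fin 7 → F) k * x k = x j := by
    rw [Finset.sum_eq_single j]
    · simp
    · intro k _ hk
      rw [Pi.single_eq_of_ne hk, zero_mul]
    · intro h
      exact absurd (Finset.mem_univ _) h
  rw [hs]
  simp only [inv_one, Equiv.Perm.coe_one, id, Pi.sub_apply, Pi.smul_apply, smul_eq_mul, one_mul]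
  unfold sgnF
  by_cases hij : i = j
  · subst hij
    rw [Pi.mulSingle_eq_same, Pi.single_eq_same]
    push_cast
    ring
  · rw [Pi.mulSingle_eq_of_ne hij, Pi.single_eq_of_ne hij]
    push_cast
    ring

/-- `ε ↦ monO ε 1` as a homomorphism -/
def diagHom (F : Type*) [Field F] : (Fin 7 → ℤˣ) →* ↥(O7 F) where
  toFun ε := monO F ε 1
  map_one' := monO_one F
  map_mul' := by
    intro ε ε'
    rw [monO_mul, mul_one]
    congr 1
    funext j
    show ε j * ε' j = ε' j * ε ((1 : Equiv.Perm (Fin 7)) j)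
    rw [Equiv.Perm.coe_one, id, mul_comm]

theorem diagHom_apply (ε : Fin 7 → ℤˣ) : diagHom F ε = monO F ε 1 := rfl

variable [Fintype F]

theorem theta_diag (h2 : (2 : F) ≠ 0) (ε : Fin 7 → ℤˣ) :
    Cfsg.Agent.Lib.Helper44_Spinor.theta (Q7 F) (monO F ε 1) = ∏ j, ε j := by
  have hε : ε = ∏ j, Pi.mulSingle j (ε j) := (Finset.univ_prod_mulSingle ε).symm
  show ((Cfsg.Agent.Lib.Helper44_Spinor.theta (Q7 F)).comp (diagHom F)) ε = ∏ j, ε j
  conv_lhs => rw [hε]
  rw [map_prod]
  apply Finset.prod_congr rfl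
  intro j _
  rcases Int.units_eq_one_or (ε j) with h | h
  · rw [h, Pi.mulSingle_one, map_one]
  · rw [h]
    show Cfsg.Agent.Lib.Helper44_Spinor.theta (Q7 F) (monO F (Pi.mulSingle j (-1)) 1) = -1
    rw [monO_mulSingle]
    refine (Cfsg.Agent.Lib.Helper44_Spinor.theta_refl (Q7 F) h2 _ (Q7_single_ne j)).1 ?_
    rw [Q7_single]
    exact ⟨1, (mul_one 1).symm⟩

end Cfsg.Agent.Lib.Helper10_S2647_OMTHD
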