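import Mathlib
import Cfsg.Agent.Lib.Helper76_S2647Defs
import Cfsg.Agent.Lib.Helper44_Spinor
import Cfsg.Agent.Lib.Helper44_Refl
import Cfsg.Agent.Lib.Helper10_S2647_OMTHD

set_option autoImplicit false

/-!
# S2647 (architect helper76), package S2647-OMTHP: the spinor character `theta` of a permutation matrix
`monO 1 π` is `1` when `2` is a nonsquare (a transposition matrix is the reflection in `e_i - e_j`, of norm `2`).
-/

namespace Cfsg.Agent.Lib.Helper10_S2647_OMTHP

open Matrix Cfsg.Agent.Lib.Helper76_S2647Defs Cfsg.Agent.Lib.Helper10_S2647_OMTHD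

variable {F : Type*} [Field F]

/-- `e_i - e_j` -/
def dvec (F : Type*) [Field F] (i j : Fin 7) : Fin 7 → F := Pi.single i (1 : F) - Pi.single j (1 : F)

theorem sum_dvec_mul (i j : Fin 7) (x : Fin 7 → F) : ∑ k, dvec F i j k * x k = x i - x j := by
  unfold dvec
  simp only [Pi.sub_apply, sub_mul]
  rw [Finset.sum_sub_distrib]
  congr 1
  · rw [Finset.sum_eq_single i]
    · simp
    · intro k _ hk
      rw [Pi.single_eq_of_ne hk, zero_mul]
    · intro h
      exact absurd (Finset.mem_univ _) h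
  · rw [Finset.sum_eq_single j]
    · simp
    · intro k _ hk
      rw [Pi.single_eq_of_ne hk, zero_mul]
    · intro h
      exact absurd (Finset.mem_univ _) h

theorem Q7_dvec (i j : Fin 7) (hij : i ≠ j) : Q7 F (dvec F i j) = 2 := by
  rw [Q7_apply, sum_dvec_mul]
  unfold dvec
  simp only [Pi.sub_apply]
  rw [Pi.single_eq_same, Pi.single_eq_same, Pi.single_eq_of_ne hij, Pi.single_eq_of_ne hij.symm]
  ring

theorem Q7_dvec_ne (h2 : (2 : F) ≠ 0) (i j : Fin 7) (hij : i ≠ j) : Q7 F (dvec F i j) ≠ 0 := by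
  rw [Q7_dvec i j hij]
  exact h2

/-- the transposition matrix is the reflection in `e_i - e_j` -/
theorem monO_swap (h2 : (2 : F) ≠ 0) (i j : Fin 7) (hij : i ≠ j) :
    monO F 1 (Equiv.swap i j)
      = Cfsg.Agent.Lib.Helper44_Refl.refl (Q7 F) (dvec F i j) (Q7_dvec_ne h2 i j hij) := by
  apply O7_ext
  intro x
  rw [refl_Q7_mulVec, Q7_dvec i j hij, monO_coe, sum_dvec_mul, inv_mul_cancel_left₀ h2]
  funext k
  rw [monM_mulVec, sgnF_one, one_mul, Equiv.swap_inv]
  simp only [Pi.sub_apply, Pi.smul_apply, smul_eq_mul]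
  unfold dvec
  simp only [Pi.sub_apply]
  by_cases hki : k = i
  · subst hki
    rw [Equiv.swap_apply_left, Pi.single_eq_same, Pi.single_eq_of_ne hij]
    ring
  · by_cases hkj : k = j
    · subst hkj
      rw [Equiv.swap_apply_right, Pi.single_eq_same, Pi.single_eq_of_ne hki]
      ring
    · rw [Equiv.swap_apply_of_ne_of_ne hki hkj, Pi.single_eq_of_ne hki, Pi.single_eq_of_ne hkj]
      ring

/-- `π ↦ monO 1 π` as a homomorphism -/
def permHomO (F : Type*) [Field F] : Equiv.Perm (Fin 7) →* ↥(O7 F) where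
  toFun π := monO F 1 π
  map_one' := monO_one F
  map_mul' := by
    intro π π'
    rw [monO_mul]
    congr 1

theorem permHomO_apply (π : Equiv.Perm (Fin 7)) : permHomO F π = monO F 1 π := rfl

variable [Fintype F]

theorem theta_perm (h2 : (2 : F) ≠ 0) (hns : ¬ IsSquare (2 : F)) (π : Equiv.Perm (Fin 7)) :
    Cfsg.Agent.Lib.Helper44_Spinor.theta (Q7 F) (monO F 1 π) = 1 := by
  show ((Cfsg.Agent.Lib.Helper44_Spinor.theta (Q7 F)).comp (permHomO F)) π = 1
  induction π using Equiv.Perm.swap_induction_on with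
  | one => rw [map_one]
  | swap_mul f i j hij ih =>
    rw [map_mul, ih, mul_one]
    show Cfsg.Agent.Lib.Helper44_Spinor.theta (Q7 F) (monO F 1 (Equiv.swap i j)) = 1
    rw [monO_swap h2 i j hij]
    refine (Cfsg.Agent.Lib.Helper44_Spinor.theta_refl (Q7 F) h2 _ (Q7_dvec_ne h2 i j hij)).2 ?_
    rw [Q7_dvec i j hij]
    exact hns

end Cfsg.Agent.Lib.Helper10_S2647_OMTHP
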