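import Mathlib

/-!
# S4016-CAL (architect helper87; author helper10)

A `p'`-element normalizing a cyclic `p`-subgroup `P` and centralizing a non-identity element
of `P` centralizes `P`.
-/

set_option autoImplicit false

namespace Cfsg.Agent.Lib.Helper10_S4016_CAL

/-- Iterated conjugation: if `l g l⁻¹ = g ^ k` then `l ^ m g l ^ (-m) = g ^ (k ^ m)`. -/
theorem conj_pow_iter {G : Type*} [Group G] {l g : G} {k : ℕ} (h : l * g * l⁻¹ = g ^ k) (m : ℕ) :
    l ^ m * g * (l ^ m)⁻¹ = g ^ (k ^ m) := by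
  induction m with
  | zero => simp
  | succ m ih =>
    have h1 : l ^ (m + 1) * g * (l ^ (m + 1))⁻¹ = l ^ m * (l * g * l⁻¹) * (l ^ m)⁻¹ := by
      rw [pow_succ, mul_inv_rev]; group
    rw [h1, h, ← conj_pow, ih, ← pow_mul, ← pow_succ]

/-- If `l ^ m` commutes with `g` and `m` is coprime to the (positive) order of `l`, then `l`
commutes with `g`. -/
theorem commute_of_pow_commute {G : Type*} [Group G] {l g : G} {m : ℕ}
    (hc : Commute (l ^ m) g) (hcop : (orderOf l).Coprime m) : Commute l g := by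
  have hb := Nat.gcd_eq_gcd_ab (orderOf l) m
  rw [hcop] at hb
  have h1 : l = (l ^ m) ^ ((orderOf l).gcdB m) := by
    have : l ^ (1 : ℤ) = l ^ ((orderOf l : ℤ) * (orderOf l).gcdA m + (m : ℤ) * (orderOf l).gcdB m) := by
      rw [← hb]; simp
    rw [zpow_one, zpow_add, zpow_mul, zpow_mul, zpow_natCast, zpow_natCast, pow_orderOf_eq_one,
      one_zpow, one_mul] at this
    exact this
  rw [h1]
  exact hc.zpow_left _

/-- **CAL**.  A `p'`-element normalizing a cyclic `p`-subgroup `P` and centralizing a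
non-identity element of `P` centralizes `P`. -/
theorem CAL {G : Type*} [Group G] {p : ℕ} [Fact p.Prime] (P : Subgroup G) [Finite ↥P]
    (hP : IsPGroup p ↥P) (hcyc : IsCyclic ↥P) {l : G}
    (hl : l ∈ Subgroup.normalizer (P : Set G)) (hcop : (orderOf l).Coprime p)
    {y : G} (hy : y ∈ P) (hy1 : y ≠ 1) (hly : l * y = y * l) : ∀ z ∈ P, l * z = z * l := by
  have hp : p.Prime := Fact.out
  obtain ⟨g, hg⟩ := hcyc.exists_generator
  obtain ⟨n, hn⟩ := hP.exists_card_eq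
  have hog : orderOf (g : G) = p ^ n := by
    rw [Subgroup.orderOf_coe, orderOf_eq_card_of_forall_mem_zpowers hg, hn]
  -- every element of `P` is a power of `g`
  have hpow : ∀ z ∈ P, ∃ i : ℕ, (g : G) ^ i = z := by
    intro z hz
    have hz' : (⟨z, hz⟩ : ↥P) ∈ Subgroup.zpowers g := hg _
    have hfin : IsOfFinOrder g := isOfFinOrder_of_finite g
    rw [← hfin.mem_powers_iff_mem_zpowers] at hz'
    obtain ⟨i, hi⟩ := hz'
    refine ⟨i, ?_⟩
    have := congrArg (Subtype.val) hi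
    simpa using this
  -- `n ≥ 1`
  obtain _ | n := n
  · exfalso
    obtain ⟨j, hj⟩ := hpow y hy
    apply hy1
    rw [← hj]
    have : (g : G) = 1 := by
      rw [← orderOf_eq_one_iff, hog, pow_zero]
    rw [this, one_pow]
  -- `l g l⁻¹ = g ^ k`
  have hgl : l * (g : G) * l⁻¹ ∈ P := (Subgroup.mem_normalizer_iff.mp hl _).mp g.2
  obtain ⟨k, hk⟩ := hpow _ hgl
  obtain ⟨j, hj⟩ := hpow y hy
  -- `g ^ (k * j) = g ^ j`
  have h1 : (g : G) ^ (k * j) = (g : G) ^ j := by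
    rw [pow_mul, hk, conj_pow, hj, hly]; group
  rw [pow_eq_pow_iff_modEq, hog] at h1
  -- `p ∣ k - 1`
  have h2 : ((p ^ (n + 1) : ℕ) : ℤ) ∣ ((k * j : ℕ) : ℤ) - (j : ℤ) := (Nat.modEq_iff_dvd).mp h1.symm
  have hpZ : Prime (p : ℤ) := Nat.prime_iff_prime_int.mp hp
  have h3 : (p : ℤ) ∣ (k : ℤ) - 1 := by
    by_contra hnd
    have h4 : (p : ℤ) ^ (n + 1) ∣ ((k : ℤ) - 1) * (j : ℤ) := by
      have : ((k * j : ℕ) : ℤ) - (j : ℤ) = ((k : ℤ) - 1) * (j : ℤ) := by push_cast; ring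
      rw [← this]
      exact_mod_cast h2
    have h5 : (p : ℤ) ^ (n + 1) ∣ (j : ℤ) := hpZ.pow_dvd_of_dvd_mul_left (n + 1) hnd h4
    have h6 : p ^ (n + 1) ∣ j := by exact_mod_cast h5
    apply hy1
    rw [← hj]
    rw [← hog] at h6
    exact orderOf_dvd_iff_pow_eq_one.mp h6
  -- `k ^ (p ^ n) ≡ 1 mod p ^ (n + 1)`
  have h7 : (p : ℤ) ^ (n + 1) ∣ (k : ℤ) ^ p ^ n - 1 ^ p ^ n := dvd_sub_pow_of_dvd_sub h3 n
  rw [one_pow] at h7
  have h8 : (g : G) ^ (k ^ p ^ n) = (g : G) ^ 1 := by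
    rw [pow_eq_pow_iff_modEq, hog]
    apply Nat.ModEq.symm
    apply (Nat.modEq_iff_dvd).mpr
    push_cast
    exact h7
  rw [pow_one] at h8
  -- `l ^ (p ^ n)` commutes with `g`
  have h9 : Commute (l ^ p ^ n) (g : G) := by
    have := conj_pow_iter hk.symm (p ^ n)
    rw [h8] at this
    have h10 : l ^ p ^ n * (g : G) = (g : G) * l ^ p ^ n := by
      calc l ^ p ^ n * (g : G) = (l ^ p ^ n * (g : G) * (l ^ p ^ n)⁻¹) * l ^ p ^ n := by group
        _ = (g : G) * l ^ p ^ n := by rw [this]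
    exact h10
  have h11 : Commute l (g : G) :=
    commute_of_pow_commute h9 (Nat.Coprime.pow_right n hcop)
  intro z hz
  obtain ⟨i, hi⟩ := hpow z hz
  rw [← hi]
  exact h11.pow_right i

end Cfsg.Agent.Lib.Helper10_S4016_CAL
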