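import Mathlib
import Cfsg.Agent.Lib.Helper10_S4016_CAL

/-!
# S4016-MU (architect helper87; author helper10)

If `g` has prime order `p`, the elements `e` with `e ^ r = 1` normalizing `⟨g⟩` produce at most
`r` distinct conjugates `e g e⁻¹`.
-/

set_option autoImplicit false

namespace Cfsg.Agent.Lib.Helper10_S4016_MU

open Cfsg.Agent.Lib.Helper10_S4016_CAL

/-- **MU**. -/
theorem MU {G : Type*} [Group G] {p r : ℕ} [Fact p.Prime] (hr : 0 < r) (g : G)
    (hg : orderOf g = p) (S : Set G)
    (hS : ∀ e ∈ S, e ^ r = 1 ∧ ∃ k : ℕ, e * g * e⁻¹ = g ^ k) :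
    ((fun e => e * g * e⁻¹) '' S).ncard ≤ r := by
  classical
  have hp : p.Prime := Fact.out
  let T : Finset G := (Polynomial.nthRootsFinset r (1 : ZMod p)).image (fun κ : ZMod p => g ^ κ.val)
  have hsub : ((fun e => e * g * e⁻¹) '' S) ⊆ (T : Set G) := by
    rintro x ⟨e, he, rfl⟩
    obtain ⟨her, k, hk⟩ := hS e he
    have h1 := conj_pow_iter hk r
    rw [her, inv_one, one_mul, mul_one] at h1
    have h2 : g ^ (k ^ r) = g ^ 1 := by rw [← h1, pow_one]
    rw [pow_eq_pow_iff_modEq, hg] at h2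
    have h3 : ((k : ZMod p)) ^ r = 1 := by
      have := (ZMod.natCast_eq_natCast_iff (k ^ r) 1 p).mpr h2
      simpa using this
    simp only [T, Finset.coe_image, Set.mem_image, Finset.mem_coe]
    refine ⟨(k : ZMod p), (Polynomial.mem_nthRootsFinset hr 1).mpr h3, ?_⟩
    show g ^ (k : ZMod p).val = e * g * e⁻¹
    rw [hk, ZMod.val_natCast, ← hg, pow_mod_orderOf]
  calc ((fun e => e * g * e⁻¹) '' S).ncard ≤ (T : Set G).ncard :=
        Set.ncard_le_ncard hsub (Finset.finite_toSet T)
    _ = T.card := Set.ncard_coe_finset T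
    _ ≤ (Polynomial.nthRootsFinset r (1 : ZMod p)).card := Finset.card_image_le
    _ ≤ (Polynomial.nthRoots r (1 : ZMod p)).card := by
        rw [Polynomial.nthRootsFinset_def]
        exact Multiset.toFinset_card_le _
    _ ≤ r := Polynomial.card_nthRoots r 1

end Cfsg.Agent.Lib.Helper10_S4016_MU
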