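import Mathlib
import Cfsg.Prelude.Def_Transfer
import Cfsg.Prelude.Def_Solvable

set_option autoImplicit false

/-!
Shared definitions for S4840 (solvable groups with an irreducible character that is nonzero on
exactly two classes).  `GSetting` is the linear configuration produced by such a character:
`Γ = G / O_p(G)` acts faithfully on the minimal normal subgroup `V`, transitively on the nonzero
vectors, and every element fixing a nonzero vector has `p`-power order.
-/

namespace Cfsg.Agent.Lib.Helper80_S4840Defs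

/-- the conclusion of S4840 for the quotient group. -/
def Concl (p : ℕ) (Γ : Type*) [Group Γ] : Prop :=
  Cfsg.HasNormalPComplement p Γ ∧ ∀ Q : Sylow p Γ, IsMulCommutative (Q : Subgroup Γ)

/-- the linear setting. -/
structure GSetting (p : ℕ) [Fact p.Prime] {V : Type*} [AddCommGroup V] [Module (ZMod p) V]
    {Γ : Type*} [Group Γ] (ρ : Γ →* (V ≃ₗ[ZMod p] V)) : Prop where
  inj : Function.Injective ρ
  trans : ∀ v w : V, v ≠ 0 → w ≠ 0 → ∃ g : Γ, ρ g v = w
  stab : ∀ (g : Γ) (v : V), v ≠ 0 → ρ g v = v → ∃ k : ℕ, orderOf g = p ^ k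

/-- the exceptional configuration left over by the Fitting-subgroup argument. -/
def Exc (p : ℕ) (Γ : Type*) [Group Γ] : Prop :=
  p = 3 ∧ 16 ∣ Nat.card Γ ∧ ∃ R : Subgroup Γ, R.Normal ∧
    (¬ ∀ a ∈ R, ∀ b ∈ R, a * b = b * a) ∧
    (∀ y : Γ, orderOf y = 5 → ∀ a ∈ R, y * a = a * y)

end Cfsg.Agent.Lib.Helper80_S4840Defs
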