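import Mathlib
import Cfsg.Agent.Lib.Helper80_S4840Defs

set_option autoImplicit false

namespace Cfsg.Agent.Lib.Helper10_S4840_CASEA

open Cfsg.Agent.Lib.Helper80_S4840Defs

universe u

/-- Ring automorphisms of a finite field commute. -/
theorem ringAut_comm (F : Type*) [Field F] [Finite F] (σ τ : F ≃+* F) (x : F) :
    σ (τ x) = τ (σ x) := by
  obtain ⟨q, hq⟩ := CharP.exists F
  have : Fact q.Prime := ⟨CharP.char_is_prime F q⟩
  let _ : Algebra (ZMod q) F := ZMod.algebra F q
  have hcomp : ∀ ν : F ≃+* F, ∀ z : ZMod q, ν (algebraMap (ZMod q) F z) = algebraMap (ZMod q) F z := by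
    intro ν z
    have : (ν : F →+* F).comp (algebraMap (ZMod q) F) = algebraMap (ZMod q) F :=
      Subsingleton.elim _ _
    exact RingHom.congr_fun this z
  let σ' : F ≃ₐ[ZMod q] F := AlgEquiv.ofRingEquiv (f := σ) (hcomp σ)
  let τ' : F ≃ₐ[ZMod q] F := AlgEquiv.ofRingEquiv (f := τ) (hcomp τ)
  have h : σ' * τ' = τ' * σ' := Std.Commutative.comm σ' τ'
  have := AlgEquiv.congr_fun h x
  exact this

/-- CASEA (M/L). -/
theorem caseA (p : ℕ) [Fact p.Prime] {V : Type*} [AddCommGroup V] [Module (ZMod p) V] [Finite V]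
    [Nontrivial V] {Γ : Type*} [Group Γ] [Finite Γ] (ρ : Γ →* (V ≃ₗ[ZMod p] V))
    (hρ : Function.Injective ρ)
    (h : ∃ (F : Type) (_ : Field F) (_ : Fintype F) (e : V ≃+ F),
        ∀ g : Γ, ∃ (a : F) (σ : F ≃+* F), ∀ v : V, e (ρ g v) = a * σ (e v)) :
    ∃ A : Subgroup Γ, A.Normal ∧ (Nat.card A).Coprime p ∧ ∀ x y : Γ, x * y * x⁻¹ * y⁻¹ ∈ A := by
  classical
  have hp : p.Prime := Fact.out
  obtain ⟨F, instF, instFT, e, hg⟩ := h
  choose a σ haσ using hg
  have key : ∀ g x, e (ρ g (e.symm x)) = a g * σ g x := by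
    intro g x
    rw [haσ g (e.symm x), AddEquiv.apply_symm_apply]
  have ha1 : ∀ g, a g = e (ρ g (e.symm 1)) := by
    intro g
    rw [key, map_one, mul_one]
  have ha0 : ∀ g, a g ≠ 0 := by
    intro g h0
    obtain ⟨v, hv⟩ := exists_ne (0 : V)
    apply hv
    have h1 : e (ρ g v) = 0 := by rw [haσ, h0, zero_mul]
    have h2 : ρ g v = 0 := by
      have := congrArg e.symm h1
      simpa using this
    have h3 : ρ g v = ρ g 0 := by rw [h2, map_zero]
    exact (ρ g).injective h3
  have hmul_a : ∀ g h, a (g * h) = a g * σ g (a h) := by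
    intro g h
    rw [ha1 (g * h), map_mul, LinearEquiv.mul_apply, haσ g, ← ha1 h]
  have hmul_σ : ∀ g h x, σ (g * h) x = σ g (σ h x) := by
    intro g h x
    have h1 : e (ρ (g * h) (e.symm x)) = a (g * h) * σ (g * h) x := key (g * h) x
    have h2 : e (ρ (g * h) (e.symm x)) = a g * σ g (a h * σ h x) := by
      rw [map_mul, LinearEquiv.mul_apply, haσ g, key h x]
    rw [h1, hmul_a, map_mul, mul_assoc] at h2
    have h3 := mul_left_cancel₀ (ha0 g) h2
    have hne : σ g (a h) ≠ 0 := by
      intro hz
      exact ha0 h ((map_eq_zero_iff (σ g) (σ g).injective).mp hz)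
    exact mul_left_cancel₀ hne h3
  -- the homomorphism to the automorphism group
  let s : Γ →* (F ≃+* F) := MonoidHom.mk' σ (by
    intro g h
    apply RingEquiv.ext
    intro x
    exact hmul_σ g h x)
  have hs : ∀ g, s g = σ g := fun g => rfl
  refine ⟨s.ker, inferInstance, ?_, ?_⟩
  · -- order prime to p
    have hker : ∀ g ∈ s.ker, ∀ x, σ g x = x := by
      intro g hg x
      have : s g = 1 := hg
      rw [hs] at this
      rw [this]; rfl
    let φ : s.ker →* Fˣ :=
      { toFun := fun g => Units.mk0 (a (g : Γ)) (ha0 _)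
        map_one' := by
          apply Units.ext
          show a (1 : Γ) = 1
          rw [ha1, map_one]
          simp
        map_mul' := by
          intro g h
          apply Units.ext
          show a ((g : Γ) * (h : Γ)) = a (g : Γ) * a (h : Γ)
          rw [hmul_a, hker g g.2] }
    have hφ : Function.Injective φ := by
      intro g h hgh
      have hag : a (g : Γ) = a (h : Γ) := congrArg Units.val hgh
      apply Subtype.ext
      apply hρ
      apply LinearEquiv.ext
      intro v
      apply e.injective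
      rw [haσ, haσ, hker g g.2, hker h h.2, hag]
    have hdvd : Nat.card s.ker ∣ Nat.card Fˣ := Subgroup.card_dvd_of_injective φ hφ
    have hcardF : Nat.card Fˣ = Nat.card V - 1 := by
      rw [Nat.card_units, Nat.card_congr e.toEquiv]
    have hcardV : Nat.card V = p ^ Module.finrank (ZMod p) V := by
      rw [Module.natCard_eq_pow_finrank (K := ZMod p), Nat.card_zmod]
    have hV1 : 1 < Nat.card V := Finite.one_lt_card
    have hd : Module.finrank (ZMod p) V ≠ 0 := by
      intro h0
      rw [hcardV, h0, pow_zero] at hV1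
      exact lt_irrefl _ hV1
    have hpdvd : p ∣ Nat.card V := by
      rw [hcardV]; exact dvd_pow_self p hd
    have hcop : Nat.Coprime (Nat.card V - 1) p := by
      rw [Nat.coprime_comm, Nat.Prime.coprime_iff_not_dvd hp]
      intro hdv
      have : p ∣ 1 := by
        have h1 : Nat.card V - 1 + 1 = Nat.card V := Nat.sub_add_cancel hV1.le
        have := (Nat.dvd_add_right hdv).mp (h1 ▸ hpdvd)
        exact this
      exact hp.one_lt.ne' (Nat.dvd_one.mp this)
    rw [hcardF] at hdvd
    exact Nat.Coprime.coprime_dvd_left hdvd hcop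
  · intro x y
    rw [MonoidHom.mem_ker, map_mul, map_mul, map_mul, map_inv, map_inv]
    have hxy : s x * s y = s y * s x := by
      apply RingEquiv.ext
      intro z
      exact ringAut_comm F (s x) (s y) z
    calc s x * s y * (s x)⁻¹ * (s y)⁻¹ = s y * s x * (s x)⁻¹ * (s y)⁻¹ := by rw [hxy]
      _ = 1 := by group

end Cfsg.Agent.Lib.Helper10_S4840_CASEA
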