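import Mathlib
import Cfsg.Agent.Lib.Helper80_S4840Defs

set_option autoImplicit false

namespace Cfsg.Agent.Lib.Helper10_S4840_NPC

open Cfsg.Agent.Lib.Helper80_S4840Defs

universe u

/-- NPC (S).  A normal `p'`-subgroup with `p`-group quotient is a normal `p`-complement. -/
theorem npc {Γ : Type*} [Group Γ] [Finite Γ] (p : ℕ) [Fact p.Prime] (M : Subgroup Γ) [M.Normal]
    (hM : (Nat.card M).Coprime p) (hq : ∀ g : Γ, ∃ k : ℕ, g ^ (p ^ k) ∈ M) :
    Cfsg.HasNormalPComplement p Γ := by
  obtain ⟨P⟩ : Nonempty (Sylow p Γ) := inferInstance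
  refine ⟨P, M, inferInstance, ?_⟩
  have hpq : IsPGroup p (Γ ⧸ M) := by
    intro x
    obtain ⟨g, rfl⟩ := QuotientGroup.mk_surjective x
    obtain ⟨k, hk⟩ := hq g
    refine ⟨k, ?_⟩
    rw [← QuotientGroup.mk_pow]
    exact (QuotientGroup.eq_one_iff _).mpr hk
  obtain ⟨j, hj⟩ := hpq.exists_card_eq
  obtain ⟨i, hi⟩ := P.isPGroup'.exists_card_eq
  have h1 : Nat.card M * p ^ j = Nat.card Γ := by
    rw [← hj, mul_comm]
    exact (Subgroup.card_eq_card_quotient_mul_card_subgroup M).symm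
  have h2 : Nat.card P * (P : Subgroup Γ).index = Nat.card Γ := Subgroup.card_mul_index _
  have hidx : ¬ p ∣ (P : Subgroup Γ).index := P.not_dvd_index
  have hp : p.Prime := Fact.out
  have hij : p ^ i = p ^ j := by
    apply Nat.dvd_antisymm
    · have : p ^ i ∣ Nat.card M * p ^ j := by
        rw [h1, ← h2, hi]; exact dvd_mul_right _ _
      exact (Nat.Coprime.dvd_mul_left (Nat.Coprime.pow_left i (hM.symm))).mp this
    · have : p ^ j ∣ Nat.card P * (P : Subgroup Γ).index := by
        rw [h2, ← h1]; exact dvd_mul_left _ _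
      rw [hi] at this
      have hcop : Nat.Coprime (p ^ j) (P : Subgroup Γ).index :=
        Nat.Coprime.pow_left j ((Nat.Prime.coprime_iff_not_dvd hp).mpr hidx)
      exact (Nat.Coprime.dvd_mul_right hcop).mp this
  apply Subgroup.isComplement'_of_coprime
  · rw [hi, hij, h1]
  · rw [hi]
    exact Nat.Coprime.pow_right i hM

end Cfsg.Agent.Lib.Helper10_S4840_NPC
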