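import Mathlib
import Cfsg.Agent.Lib.Helper80_S4840Defs
import Cfsg.Agent.Lib.Helper10_S4840_NPC

set_option autoImplicit false

namespace Cfsg.Agent.Lib.Helper10_S4840_NPCAB

open Cfsg.Agent.Lib.Helper80_S4840Defs

universe u

/-- the preimage of the `m`-torsion of the abelian quotient `Γ ⧸ A`. -/
def torsionPre {Γ : Type*} [Group Γ] (A : Subgroup Γ) [A.Normal]
    (hab : ∀ x y : Γ, x * y * x⁻¹ * y⁻¹ ∈ A) (m : ℕ) : Subgroup Γ where
  carrier := {g | g ^ m ∈ A}
  one_mem' := by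
    show (1 : Γ) ^ m ∈ A
    rw [one_pow]; exact A.one_mem
  mul_mem' := by
    intro a b ha hb
    have ha' : a ^ m ∈ A := ha
    have hb' : b ^ m ∈ A := hb
    have hcomm : Commute (QuotientGroup.mk a : Γ ⧸ A) (QuotientGroup.mk b) := by
      show (QuotientGroup.mk a : Γ ⧸ A) * QuotientGroup.mk b = QuotientGroup.mk b * QuotientGroup.mk a
      rw [← QuotientGroup.mk_mul, ← QuotientGroup.mk_mul, QuotientGroup.eq]
      have h := hab b⁻¹ a⁻¹
      have : (a * b)⁻¹ * (b * a) = b⁻¹ * a⁻¹ * b⁻¹⁻¹ * a⁻¹⁻¹ := by group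
      rw [this]; exact h
    show (a * b) ^ m ∈ A
    rw [← QuotientGroup.eq_one_iff, QuotientGroup.mk_pow, QuotientGroup.mk_mul, hcomm.mul_pow,
      ← QuotientGroup.mk_pow, ← QuotientGroup.mk_pow, (QuotientGroup.eq_one_iff _).mpr ha',
      (QuotientGroup.eq_one_iff _).mpr hb', one_mul]
  inv_mem' := by
    intro a ha
    have ha' : a ^ m ∈ A := ha
    show a⁻¹ ^ m ∈ A
    rw [inv_pow]; exact A.inv_mem ha'

theorem mem_torsionPre {Γ : Type*} [Group Γ] (A : Subgroup Γ) [A.Normal]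
    (hab : ∀ x y : Γ, x * y * x⁻¹ * y⁻¹ ∈ A) (m : ℕ) (g : Γ) :
    g ∈ torsionPre A hab m ↔ g ^ m ∈ A := Iff.rfl

instance torsionPre_normal {Γ : Type*} [Group Γ] (A : Subgroup Γ) [hA : A.Normal]
    (hab : ∀ x y : Γ, x * y * x⁻¹ * y⁻¹ ∈ A) (m : ℕ) : (torsionPre A hab m).Normal := by
  constructor
  intro n hn g
  rw [mem_torsionPre] at hn ⊢
  rw [conj_pow]
  exact hA.conj_mem _ hn g

/-- NPCAB (S/M). -/
theorem npcab {Γ : Type*} [Group Γ] [Finite Γ] (p : ℕ) [Fact p.Prime] (A : Subgroup Γ) [A.Normal]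
    (hA : (Nat.card A).Coprime p) (hab : ∀ x y : Γ, x * y * x⁻¹ * y⁻¹ ∈ A) : Concl p Γ := by
  have hp : p.Prime := Fact.out
  refine ⟨?_, ?_⟩
  · -- the normal p-complement
    set n := Nat.card (Γ ⧸ A) with hn
    have hn0 : n ≠ 0 := Nat.card_pos.ne'
    set k := n.factorization p with hk
    set m := n / p ^ k with hm
    have hmn : p ^ k * m = n := Nat.ordProj_mul_ordCompl_eq_self n p
    have hmcop : Nat.Coprime p m := Nat.coprime_ordCompl hp hn0
    apply Cfsg.Agent.Lib.Helper10_S4840_NPC.npc p (torsionPre A hab m)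
    · -- order prime to p
      rw [Nat.coprime_comm, Nat.Prime.coprime_iff_not_dvd hp]
      intro hdvd
      obtain ⟨x, hx⟩ := exists_prime_orderOf_dvd_card' p hdvd
      have hxm : (x : Γ) ^ m ∈ A := (mem_torsionPre A hab m x).mp x.2
      have hox : orderOf (x : Γ) = p := by rw [Subgroup.orderOf_coe]; exact hx
      have h1 : orderOf ((x : Γ) ^ m) = p := by
        rw [Nat.Coprime.orderOf_pow (by rw [hox]; exact hmcop), hox]
      have h2 : p ∣ Nat.card A := by
        have := orderOf_dvd_natCard (⟨(x : Γ) ^ m, hxm⟩ : A)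
        rwa [Subgroup.orderOf_mk, h1] at this
      exact (Nat.Prime.coprime_iff_not_dvd hp).mp hA.symm h2
    · intro g
      refine ⟨k, ?_⟩
      rw [mem_torsionPre, ← pow_mul, hmn, ← QuotientGroup.eq_one_iff, QuotientGroup.mk_pow, hn]
      exact pow_card_eq_one'
  · -- Sylow p-subgroups are abelian
    intro Q
    rw [isMulCommutative_iff]
    rintro ⟨x, hx⟩ ⟨y, hy⟩
    apply Subtype.ext
    show x * y = y * x
    have hc : x * y * x⁻¹ * y⁻¹ ∈ A := hab x y
    have hcQ : x * y * x⁻¹ * y⁻¹ ∈ (Q : Subgroup Γ) :=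
      Subgroup.mul_mem _ (Subgroup.mul_mem _ (Subgroup.mul_mem _ hx hy) (Subgroup.inv_mem _ hx))
        (Subgroup.inv_mem _ hy)
    have h1 : x * y * x⁻¹ * y⁻¹ = 1 := by
      set c := x * y * x⁻¹ * y⁻¹ with hcdef
      have hd1 : orderOf c ∣ Nat.card A := by
        have := orderOf_dvd_natCard (⟨c, hc⟩ : A)
        rwa [Subgroup.orderOf_mk] at this
      obtain ⟨j, hj⟩ := Q.isPGroup' ⟨c, hcQ⟩
      have hj' : c ^ p ^ j = 1 := by
        have := congrArg Subtype.val hj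
        simpa using this
      have hd2 : orderOf c ∣ p ^ j := orderOf_dvd_of_pow_eq_one hj'
      have hcop : Nat.Coprime (Nat.card A) (p ^ j) := Nat.Coprime.pow_right j hA
      have : orderOf c ∣ 1 := by
        have := Nat.dvd_gcd hd1 hd2
        rwa [hcop] at this
      exact orderOf_eq_one_iff.mp (Nat.dvd_one.mp this)
    calc x * y = (x * y * x⁻¹ * y⁻¹) * (y * x) := by group
      _ = y * x := by rw [h1, one_mul]

end Cfsg.Agent.Lib.Helper10_S4840_NPCAB
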