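import Mathlib

/-!
# The unitriangular subgroup of `SL_n(F)` (helper44)

* `UT n F : Subgroup (SL (Fin n) F)`, upper unitriangular matrices.
* `card_UT`: `|UT| = q ^ #{(i,j) | i < j}`.
* `factorization_card_GL`: the `p`-part of `|GL_n(F)|`.
* `exists_sylow_PSL`: the image of `UT` in `PSL_n(F)` is a Sylow `p`-subgroup.
* `eq_of_central`: a central element of `UT (m+2)` is `1 + c E_{0,last}`.
-/

set_option autoImplicit false
set_option linter.unusedSectionVars false
set_option linter.unusedVariables false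

namespace Cfsg.Agent.Lib.Helper44_PSLnUT

open Matrix

variable {n : ℕ} {F : Type*} [Field F]

/-- upper unitriangular matrices -/
def IsUT (M : Matrix (Fin n) (Fin n) F) : Prop :=
  (∀ i j : Fin n, j < i → M i j = 0) ∧ ∀ i, M i i = 1

theorem mul_apply_lower {M N : Matrix (Fin n) (Fin n) F}
    (hM : ∀ i j : Fin n, j < i → M i j = 0) (hN : ∀ i j : Fin n, j < i → N i j = 0)
    (i j : Fin n) (hij : j < i) : (M * N) i j = 0 := by
  rw [Matrix.mul_apply]
  apply Finset.sum_eq_zero
  intro k _
  by_cases hk : k < i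
  · rw [hM i k hk, zero_mul]
  · rw [hN k j (lt_of_lt_of_le hij (not_lt.mp hk)), mul_zero]

theorem mul_apply_diag {M N : Matrix (Fin n) (Fin n) F}
    (hM : ∀ i j : Fin n, j < i → M i j = 0) (hN : ∀ i j : Fin n, j < i → N i j = 0)
    (i : Fin n) : (M * N) i i = M i i * N i i := by
  rw [Matrix.mul_apply]
  apply Finset.sum_eq_single i
  · intro k _ hki
    rcases lt_or_gt_of_ne hki with h | h
    · rw [hM i k h, zero_mul]
    · rw [hN k i h, mul_zero]
  · intro h
    exact absurd (Finset.mem_univ i) h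

theorem IsUT.mul {M N : Matrix (Fin n) (Fin n) F} (hM : IsUT M) (hN : IsUT N) : IsUT (M * N) :=
  ⟨mul_apply_lower hM.1 hN.1, fun i => by rw [mul_apply_diag hM.1 hN.1, hM.2, hN.2, one_mul]⟩

theorem isUT_one : IsUT (1 : Matrix (Fin n) (Fin n) F) :=
  ⟨fun i j hij => Matrix.one_apply_ne (ne_of_gt hij), fun i => Matrix.one_apply_eq i⟩

theorem IsUT.det {M : Matrix (Fin n) (Fin n) F} (hM : IsUT M) : M.det = 1 := by
  rw [Matrix.det_of_isUpperTriangular (M := M)]
  · simp [hM.2]
  · intro i j hij
    exact hM.1 i j hij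

theorem IsUT.inv {M : Matrix (Fin n) (Fin n) F} (hM : IsUT M) : IsUT M⁻¹ := by
  have hdet : IsUnit M.det := by rw [hM.det]; exact isUnit_one
  have : Invertible M := Matrix.invertibleOfIsUnitDet M hdet
  have h1 : ∀ i j : Fin n, j < i → M⁻¹ i j = 0 := by
    intro i j hij
    have hb : M.BlockTriangular id := fun i j hij => hM.1 i j hij
    exact (Matrix.blockTriangular_inv_of_blockTriangular hb) hij
  refine ⟨h1, fun i => ?_⟩
  have h2 : (M * M⁻¹) i i = 1 := by
    rw [Matrix.mul_nonsing_inv M hdet, Matrix.one_apply_eq]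
  rw [mul_apply_diag hM.1 h1, hM.2, one_mul] at h2
  exact h2

theorem coe_inv_eq (a : SpecialLinearGroup (Fin n) F) :
    ((a⁻¹ : SpecialLinearGroup (Fin n) F) : Matrix (Fin n) (Fin n) F)
      = (a : Matrix (Fin n) (Fin n) F)⁻¹ := by
  rw [Matrix.SpecialLinearGroup.coe_inv, Matrix.inv_def, a.2]
  simp

/-- the unitriangular subgroup of `SL_n(F)` -/
def UT (n : ℕ) (F : Type*) [Field F] : Subgroup (SpecialLinearGroup (Fin n) F) where
  carrier := {g | IsUT (g : Matrix (Fin n) (Fin n) F)}
  mul_mem' := by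
    intro a b ha hb
    show IsUT ((a : Matrix (Fin n) (Fin n) F) * (b : Matrix (Fin n) (Fin n) F))
    exact IsUT.mul ha hb
  one_mem' := by
    show IsUT (1 : Matrix (Fin n) (Fin n) F)
    exact isUT_one
  inv_mem' := by
    intro a ha
    show IsUT ((a⁻¹ : SpecialLinearGroup (Fin n) F) : Matrix (Fin n) (Fin n) F)
    have h1 := coe_inv_eq a
    have h2 : IsUT ((a : Matrix (Fin n) (Fin n) F)⁻¹) := IsUT.inv ha
    rw [← h1] at h2
    exact h2

theorem mem_UT {g : SpecialLinearGroup (Fin n) F} :
    g ∈ UT n F ↔ IsUT (g : Matrix (Fin n) (Fin n) F) := Iff.rfl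


/-! ### cardinality -/

/-- strictly upper positions -/
abbrev Pos (n : ℕ) := {p : Fin n × Fin n // p.1 < p.2}

/-- the unitriangular matrix with prescribed strictly upper entries -/
def utMat (f : Pos n → F) : Matrix (Fin n) (Fin n) F :=
  Matrix.of fun i j => if h : i < j then f ⟨(i, j), h⟩ else if i = j then 1 else 0

theorem isUT_utMat (f : Pos n → F) : IsUT (utMat f) := by
  refine ⟨fun i j hij => ?_, fun i => ?_⟩
  · simp [utMat, not_lt.mpr hij.le, (ne_of_gt hij)]
  · simp [utMat]

/-- parametrisation of `UT` -/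
def utEquiv : UT n F ≃ (Pos n → F) where
  toFun g := fun p => (g.1 : Matrix (Fin n) (Fin n) F) p.1.1 p.1.2
  invFun f := ⟨⟨utMat f, (isUT_utMat f).det⟩, isUT_utMat f⟩
  left_inv := by
    rintro ⟨g, hg⟩
    apply Subtype.ext
    apply Subtype.ext
    ext i j
    show utMat (fun p : Pos n => (g : Matrix (Fin n) (Fin n) F) p.1.1 p.1.2) i j
      = (g : Matrix (Fin n) (Fin n) F) i j
    rcases lt_trichotomy i j with h | h | h
    · simp [utMat, h]
    · subst h
      simp [utMat, hg.2 i]
    · simp [utMat, not_lt.mpr h.le, ne_of_gt h, hg.1 i j h]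
  right_inv := by
    intro f
    funext ⟨⟨i, j⟩, h⟩
    show utMat f i j = _
    have h' : i < j := h
    simp [utMat, h']

theorem card_Pos : Fintype.card (Pos n) = ∑ i : Fin n, (i : ℕ) := by
  rw [Fintype.card_subtype, Finset.card_filter, Fintype.sum_prod_type_right]
  apply Finset.sum_congr rfl
  intro j _
  rw [← Finset.card_filter]
  have : (Finset.univ.filter fun i : Fin n => i < j) = Finset.Iio j := by
    ext i
    simp
  rw [this, Fin.card_Iio]

theorem card_UT [Fintype F] :
    Nat.card (UT n F) = Fintype.card F ^ Fintype.card (Pos n) := by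
  classical
  rw [Nat.card_congr utEquiv, Nat.card_eq_fintype_card, Fintype.card_fun]

/-! ### the `p`-part of `|GL_n(F)|` -/

theorem factorization_term {p f : ℕ} (hp : p.Prime) (hf : 1 ≤ f) (n i : ℕ) (hi : i < n) :
    ((p ^ f) ^ n - (p ^ f) ^ i).factorization p = f * i := by
  have hq : 1 ≤ p ^ f := Nat.one_le_pow _ _ hp.pos
  have h1 : (p ^ f) ^ n - (p ^ f) ^ i = (p ^ f) ^ i * ((p ^ f) ^ (n - i) - 1) := by
    rw [Nat.mul_sub, mul_one, ← pow_add, Nat.add_sub_cancel' hi.le]
  have h2 : 1 < (p ^ f) ^ (n - i) := by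
    apply Nat.one_lt_pow (Nat.sub_ne_zero_of_lt hi)
    exact Nat.one_lt_pow (by omega) hp.one_lt
  have h3 : ¬ p ∣ (p ^ f) ^ (n - i) - 1 := by
    intro hd
    have h4 : p ∣ (p ^ f) ^ (n - i) := by
      rw [← pow_mul]
      apply dvd_pow_self
      have : 1 ≤ n - i := Nat.sub_pos_of_lt hi
      exact Nat.mul_ne_zero (by omega) (by omega)
    have h5 : p ∣ 1 := by
      have := (Nat.dvd_sub h4 hd)
      rwa [Nat.sub_sub_self h2.le] at this
    exact hp.one_lt.ne' (Nat.dvd_one.mp h5)
  rw [h1, Nat.factorization_mul (pow_ne_zero _ (by omega)) (by omega)]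
  rw [Finsupp.add_apply, Nat.factorization_eq_zero_of_not_dvd h3, add_zero, ← pow_mul,
    Nat.factorization_pow, Finsupp.smul_apply, hp.factorization_self, smul_eq_mul, mul_one]

theorem factorization_card_GL [Fintype F] {p f : ℕ} [hp : Fact p.Prime]
    (hF : Fintype.card F = p ^ f) :
    (Nat.card (GL (Fin n) F)).factorization p = f * ∑ i : Fin n, (i : ℕ) := by
  have hf : 1 ≤ f := by
    rcases Nat.eq_zero_or_pos f with h | h
    · rw [h, pow_zero] at hF
      have := Fintype.one_lt_card (α := F)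
      omega
    · exact h
  rw [Matrix.card_GL_field, hF, Nat.factorization_prod]
  · rw [Finsupp.finsetSum_apply, Finset.mul_sum]
    apply Finset.sum_congr rfl
    intro i _
    exact factorization_term hp.out hf n i i.2
  · intro i _
    have h2 : (p ^ f) ^ (i : ℕ) < (p ^ f) ^ n :=
      Nat.pow_lt_pow_right (Nat.one_lt_pow (by omega) hp.out.one_lt) i.2
    omega

/-! ### the image in `PSL` is a Sylow subgroup -/

theorem eq_one_of_mem_center {g : SpecialLinearGroup (Fin n) F} (hg : g ∈ UT n F)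
    (hc : g ∈ Subgroup.center (SpecialLinearGroup (Fin n) F)) : g = 1 := by
  obtain ⟨r, -, hr⟩ := Matrix.SpecialLinearGroup.mem_center_iff.mp hc
  apply Subtype.ext
  rw [← hr]
  ext i j
  have h1 : (g : Matrix (Fin n) (Fin n) F) i i = 1 := hg.2 i
  rw [← hr] at h1
  simp only [Matrix.scalar_apply, Matrix.diagonal_apply_eq] at h1
  rw [h1]
  simp

theorem mk_injOn (g h : SpecialLinearGroup (Fin n) F) (hg : g ∈ UT n F) (hh : h ∈ UT n F)
    (e : (QuotientGroup.mk g : ProjectiveSpecialLinearGroup (Fin n) F) = QuotientGroup.mk h) :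
    g = h := by
  have h1 : g⁻¹ * h ∈ Subgroup.center (SpecialLinearGroup (Fin n) F) := QuotientGroup.eq.mp e
  have h2 : g⁻¹ * h ∈ UT n F := (UT n F).mul_mem ((UT n F).inv_mem hg) hh
  have h3 := eq_one_of_mem_center h2 h1
  exact (inv_mul_eq_one.mp h3)

/-- the image of `UT` in `PSL` -/
def UTbar (n : ℕ) (F : Type*) [Field F] : Subgroup (ProjectiveSpecialLinearGroup (Fin n) F) :=
  (UT n F).map (QuotientGroup.mk' (Subgroup.center (SpecialLinearGroup (Fin n) F)))

theorem card_UTbar [Fintype F] : Nat.card (UTbar n F) = Fintype.card F ^ Fintype.card (Pos n) := by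
  rw [← card_UT]
  let φ : UT n F →* ProjectiveSpecialLinearGroup (Fin n) F :=
    (QuotientGroup.mk' (Subgroup.center (SpecialLinearGroup (Fin n) F))).comp (UT n F).subtype
  have hφ : Function.Injective φ := by
    rintro ⟨a, ha⟩ ⟨b, hb⟩ hab
    exact Subtype.ext (mk_injOn a b ha hb hab)
  have hr : φ.range = UTbar n F := by
    rw [MonoidHom.range_comp, Subgroup.range_subtype]
    rfl
  rw [← hr]
  exact (Nat.card_congr (Equiv.ofInjective φ hφ)).symm

theorem exists_sylow_PSL [Fintype F] [DecidableEq F] {p f : ℕ} [hp : Fact p.Prime]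
    (hF : Fintype.card F = p ^ f) :
    ∃ S : Sylow p (ProjectiveSpecialLinearGroup (Fin n) F),
      (S : Subgroup (ProjectiveSpecialLinearGroup (Fin n) F)) = UTbar n F := by
  have : Finite (ProjectiveSpecialLinearGroup (Fin n) F) := by
    unfold ProjectiveSpecialLinearGroup
    infer_instance
  have hcard : Nat.card (UTbar n F) = p ^ (f * ∑ i : Fin n, (i : ℕ)) := by
    rw [card_UTbar, hF, card_Pos, pow_mul]
  have hdvd1 : Nat.card (ProjectiveSpecialLinearGroup (Fin n) F) ∣
      Nat.card (GL (Fin n) F) := by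
    have h1 : Nat.card (ProjectiveSpecialLinearGroup (Fin n) F) ∣
        Nat.card (SpecialLinearGroup (Fin n) F) :=
      Subgroup.card_dvd_of_surjective _
        (QuotientGroup.mk'_surjective (Subgroup.center (SpecialLinearGroup (Fin n) F)))
    have h2 : Nat.card (SpecialLinearGroup (Fin n) F) ∣ Nat.card (GL (Fin n) F) :=
      Subgroup.card_dvd_of_injective (Matrix.SpecialLinearGroup.toGL)
        (by
          intro a b hab
          apply Subtype.ext
          have := congrArg (fun g : GL (Fin n) F => (g : Matrix (Fin n) (Fin n) F)) hab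
          simpa using this)
    exact h1.trans h2
  have hk : (Nat.card (ProjectiveSpecialLinearGroup (Fin n) F)).factorization p
      = f * ∑ i : Fin n, (i : ℕ) := by
    apply le_antisymm
    · rw [← factorization_card_GL hF]
      exact (Nat.factorization_le_iff_dvd Nat.card_pos.ne' Nat.card_pos.ne').mpr hdvd1 p
    · have h3 : p ^ (f * ∑ i : Fin n, (i : ℕ)) ∣
          Nat.card (ProjectiveSpecialLinearGroup (Fin n) F) := by
        rw [← hcard]
        exact Subgroup.card_subgroup_dvd_card _
      exact (hp.out.pow_dvd_iff_le_factorization Nat.card_pos.ne').mp h3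
  refine ⟨Sylow.ofCard (UTbar n F) (by rw [hcard, hk]), rfl⟩


/-! ### the centre of `UT` -/

theorem transvection_mem_UT {i j : Fin n} (hij : i < j) (c : F) :
    SpecialLinearGroup.transvection (ne_of_lt hij) c ∈ UT n F := by
  rw [mem_UT, SpecialLinearGroup.transvection_coe]
  refine ⟨fun a b hab => ?_, fun a => ?_⟩
  · rw [Matrix.add_apply, Matrix.one_apply_ne (ne_of_gt hab), zero_add]
    apply Matrix.single_apply_of_ne
    rintro ⟨rfl, rfl⟩
    exact absurd hij (not_lt.mpr hab.le)
  · rw [Matrix.add_apply, Matrix.one_apply_eq, Matrix.single_apply_of_ne, add_zero]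
    rintro ⟨rfl, rfl⟩
    exact lt_irrefl _ hij

/-- a central element of `UT` has no off-diagonal entries except at `(0, last)` -/
theorem apply_eq_zero_of_central {m : ℕ} (z : SpecialLinearGroup (Fin (m + 2)) F)
    (hc : ∀ u ∈ UT (m + 2) F, z * u = u * z)
    (i j : Fin (m + 2)) (hij : i ≠ j) (h0 : ¬ (i = 0 ∧ j = Fin.last (m + 1))) :
    (z : Matrix (Fin (m + 2)) (Fin (m + 2)) F) i j = 0 := by
  have key : ∀ a b : Fin (m + 2), a < b →
      (z : Matrix (Fin (m + 2)) (Fin (m + 2)) F) * Matrix.single a b (1 : F)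
        = Matrix.single a b (1 : F) * (z : Matrix (Fin (m + 2)) (Fin (m + 2)) F) := by
    intro a b hab
    have h1 := congrArg (fun g : SpecialLinearGroup (Fin (m + 2)) F =>
      (g : Matrix (Fin (m + 2)) (Fin (m + 2)) F)) (hc _ (transvection_mem_UT hab (1 : F)))
    simp only [Matrix.SpecialLinearGroup.coe_mul, SpecialLinearGroup.transvection_coe] at h1
    rw [Matrix.mul_add, Matrix.add_mul, Matrix.mul_one, Matrix.one_mul] at h1
    exact add_left_cancel h1
  by_cases hj : j = Fin.last (m + 1)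
  · -- then `i ≠ 0`
    have hi : i ≠ 0 := fun h => h0 ⟨h, hj⟩
    have hpos : (0 : Fin (m + 2)) < i := Fin.pos_iff_ne_zero.mpr hi
    have h1 := congrFun (congrFun (key 0 i hpos) 0) j
    rw [Matrix.single_mul_apply_same, one_mul,
      Matrix.mul_single_apply_of_ne (hbj := Ne.symm hij)] at h1
    exact h1.symm
  · have hlt : j < Fin.last (m + 1) := lt_of_le_of_ne (Fin.le_last j) hj
    have h1 := congrFun (congrFun (key j (Fin.last (m + 1)) hlt) i) (Fin.last (m + 1))
    rw [Matrix.mul_single_apply_same, mul_one,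
      Matrix.single_mul_apply_of_ne (h := hij)] at h1
    exact h1

end Cfsg.Agent.Lib.Helper44_PSLnUT
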