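import Mathlib

set_option autoImplicit false
set_option linter.unusedSectionVars false
set_option linter.unusedSimpArgs false
set_option linter.unusedVariables false

namespace Cfsg.Agent.Lib.Helper5_Transv

open Matrix

variable {k : Type*} [Field k] {ι : Type*} [Fintype ι] [DecidableEq ι]

/-- the abstract transvection `1 + c • v φᵀ` -/
def tv (v φ : ι → k) (c : k) : Matrix ι ι k := 1 + c • vecMulVec v φ

lemma det_tv (v φ : ι → k) (c : k) : (tv v φ c).det = 1 + c * (φ ⬝ᵥ v) := by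
  unfold tv
  have h : c • vecMulVec v φ = replicateCol Unit (c • v) * replicateRow Unit φ := by
    rw [← vecMulVec_eq, smul_vecMulVec]
  rw [h, det_one_add_replicateCol_mul_replicateRow, dotProduct_smul, smul_eq_mul]

lemma tv_zero (v φ : ι → k) : tv v φ 0 = 1 := by
  unfold tv
  rw [zero_smul, add_zero]

lemma tv_mul_tv (v φ w ψ : ι → k) (a b : k) :
    tv v φ a * tv w ψ b = 1 + a • vecMulVec v φ + b • vecMulVec w ψ
      + (a * b * (φ ⬝ᵥ w)) • vecMulVec v ψ := by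
  unfold tv
  rw [add_mul, mul_add, mul_add, one_mul, mul_one, one_mul, smul_mul_smul_comm,
    vecMulVec_mul_vecMulVec, vecMulVec_smul, smul_smul]
  abel

lemma tv_add (v φ : ι → k) (h : φ ⬝ᵥ v = 0) (a b : k) :
    tv v φ a * tv v φ b = tv v φ (a + b) := by
  rw [tv_mul_tv, h, mul_zero, zero_smul, add_zero]
  unfold tv
  rw [add_smul, add_assoc]

lemma tv_mulVec (v φ : ι → k) (c : k) (x : ι → k) :
    tv v φ c *ᵥ x = x + (c * (φ ⬝ᵥ x)) • v := by
  unfold tv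
  rw [add_mulVec, one_mulVec, smul_mulVec, vecMulVec_mulVec]
  congr 1
  funext i
  simp only [Pi.smul_apply, MulOpposite.smul_eq_mul_unop, MulOpposite.unop_op, smul_eq_mul]
  ring

lemma vecMul_tv (v φ : ι → k) (c : k) (θ : ι → k) :
    θ ᵥ* tv v φ c = θ + (c * (θ ⬝ᵥ v)) • φ := by
  unfold tv
  rw [vecMul_add, vecMul_one, vecMul_smul, vecMul_vecMulVec, smul_smul]

/-- the abstract transvection as an element of the special linear group -/
def tvS (v φ : ι → k) (h : φ ⬝ᵥ v = 0) (c : k) : Matrix.SpecialLinearGroup ι k :=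
  ⟨tv v φ c, by rw [det_tv, h, mul_zero, add_zero]⟩

@[simp] lemma tvS_coe (v φ : ι → k) (h : φ ⬝ᵥ v = 0) (c : k) : (tvS v φ h c).1 = tv v φ c := rfl

lemma tvS_zero (v φ : ι → k) (h : φ ⬝ᵥ v = 0) : tvS v φ h 0 = 1 :=
  Subtype.ext (tv_zero v φ)

lemma tvS_add (v φ : ι → k) (h : φ ⬝ᵥ v = 0) (a b : k) :
    tvS v φ h a * tvS v φ h b = tvS v φ h (a + b) :=
  Subtype.ext (tv_add v φ h a b)

lemma tvS_inv (v φ : ι → k) (h : φ ⬝ᵥ v = 0) (a : k) :
    (tvS v φ h a)⁻¹ = tvS v φ h (-a) := by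
  apply inv_eq_of_mul_eq_one_right
  rw [tvS_add, add_neg_cancel, tvS_zero]

lemma conj_dot (g : Matrix.SpecialLinearGroup ι k) (v φ : ι → k) :
    (φ ᵥ* (g⁻¹).1) ⬝ᵥ (g.1 *ᵥ v) = φ ⬝ᵥ v := by
  rw [← dotProduct_mulVec, mulVec_mulVec]
  have : (g⁻¹).1 * g.1 = 1 := congrArg Subtype.val (inv_mul_cancel g)
  rw [this, one_mulVec]

lemma conj_tv (g : Matrix.SpecialLinearGroup ι k) (v φ : ι → k) (c : k) :
    g.1 * tv v φ c * (g⁻¹).1 = tv (g.1 *ᵥ v) (φ ᵥ* (g⁻¹).1) c := by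
  unfold tv
  have : g.1 * (g⁻¹).1 = 1 := congrArg Subtype.val (mul_inv_cancel g)
  rw [mul_add, add_mul, mul_one, this, mul_smul_comm, smul_mul_assoc, mul_vecMulVec,
    vecMulVec_mul]

lemma conj_tvS (g : Matrix.SpecialLinearGroup ι k) (v φ : ι → k) (h : φ ⬝ᵥ v = 0) (c : k) :
    g * tvS v φ h c * g⁻¹ = tvS (g.1 *ᵥ v) (φ ᵥ* (g⁻¹).1) ((conj_dot g v φ).trans h) c :=
  Subtype.ext (conj_tv g v φ c)

lemma tv_smul_left (v φ : ι → k) (a c : k) : tv (a • v) φ c = tv v φ (c * a) := by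
  unfold tv
  rw [smul_vecMulVec, smul_smul]

lemma tv_smul_right (v φ : ι → k) (a c : k) : tv v (a • φ) c = tv v φ (c * a) := by
  unfold tv
  rw [vecMulVec_smul, smul_smul]

lemma tv_eq_one_iff (v φ : ι → k) (hv : v ≠ 0) (hφ : φ ≠ 0) (c : k) : tv v φ c = 1 ↔ c = 0 := by
  constructor
  · intro h
    by_contra hc
    obtain ⟨i, hi⟩ : ∃ i, v i ≠ 0 := by
      by_contra hcon
      push Not at hcon
      exact hv (funext hcon)
    obtain ⟨j, hj⟩ : ∃ j, φ j ≠ 0 := by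
      by_contra hcon
      push Not at hcon
      exact hφ (funext hcon)
    have h1 := congrFun (congrFun h i) j
    unfold tv at h1
    rw [Matrix.add_apply, Matrix.smul_apply, vecMulVec_apply, smul_eq_mul] at h1
    have h2 : c * (v i * φ j) = 0 := by
      have := add_left_cancel (a := (1 : Matrix ι ι k) i j) (b := c * (v i * φ j)) (c := 0)
        (by rw [add_zero]; exact h1)
      exact this
    exact mul_ne_zero hc (mul_ne_zero hi hj) h2
  · intro h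
    rw [h, tv_zero]


/-! ### transitivity of the special linear group on incident point-hyperplane pairs -/

/-- the standard basis vector -/
abbrev e (i : ι) : ι → k := Pi.single i 1

lemma e_dot (i : ι) (x : ι → k) : (e i : ι → k) ⬝ᵥ x = x i := by
  simp [e]

lemma dot_e (i : ι) (x : ι → k) : x ⬝ᵥ (e i : ι → k) = x i := by
  simp [e]

/-- one elementary move on vectors -/
lemma exists_move (a b ω : ι → k) (ha : ω ⬝ᵥ a = 1) (hb : ω ⬝ᵥ b = 1) :
    ∃ g : Matrix.SpecialLinearGroup ι k, g.1 *ᵥ a = b ∧ ∀ θ : ι → k, θ ⬝ᵥ a = θ ⬝ᵥ b →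
      θ ᵥ* g.1 = θ := by
  refine ⟨tvS (b - a) ω (by rw [dotProduct_sub, ha, hb, sub_self]) 1, ?_, ?_⟩
  · rw [tvS_coe, tv_mulVec, ha, mul_one, one_smul, add_sub_cancel]
  · intro θ hθ
    rw [tvS_coe, vecMul_tv, dotProduct_sub, hθ, sub_self, mul_zero, zero_smul, add_zero]

/-- one elementary move on covectors -/
lemma exists_comove (θ θ' u : ι → k) (h1 : θ ⬝ᵥ u = 1) (h2 : θ' ⬝ᵥ u = 1) :
    ∃ m : Matrix.SpecialLinearGroup ι k, θ ᵥ* m.1 = θ' ∧ ∀ x : ι → k, θ ⬝ᵥ x = θ' ⬝ᵥ x →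
      m.1 *ᵥ x = x := by
  refine ⟨tvS u (θ' - θ) (by rw [sub_dotProduct, h1, h2, sub_self]) 1, ?_, ?_⟩
  · rw [tvS_coe, vecMul_tv, h1, mul_one, one_smul, add_sub_cancel]
  · intro x hx
    rw [tvS_coe, tv_mulVec, sub_dotProduct, hx, sub_self, mul_zero, zero_smul, add_zero]

lemma exists_ne_zero_of_ne_zero (v : ι → k) (hv : v ≠ 0) : ∃ i, v i ≠ 0 := by
  by_contra hcon
  push Not at hcon
  exact hv (funext hcon)

/-- transitivity on nonzero vectors -/
lemma exists_mulVec_eq {i0 i1 : ι} (h01 : i0 ≠ i1) (v : ι → k) (hv : v ≠ 0) :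
    ∃ g : Matrix.SpecialLinearGroup ι k, g.1 *ᵥ (e i0 : ι → k) = v := by
  by_cases hA : ∃ i, i ≠ i0 ∧ v i ≠ 0
  · obtain ⟨i, hi0, hvi⟩ := hA
    obtain ⟨g, hg, -⟩ := exists_move (e i0 : ι → k) v (e i0 + ((1 - v i0) / v i) • e i)
      (by
        rw [add_dotProduct, smul_dotProduct, e_dot, e_dot]
        simp [e, Pi.single_apply, hi0.symm])
      (by
        rw [add_dotProduct, smul_dotProduct, e_dot, e_dot, smul_eq_mul, div_mul_cancel₀ _ hvi]
        ring)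
    exact ⟨g, hg⟩
  · push Not at hA
    have hv0 : v i0 ≠ 0 := by
      obtain ⟨i, hi⟩ := exists_ne_zero_of_ne_zero v hv
      by_cases hii : i = i0
      · rw [← hii]; exact hi
      · exact absurd (hA i hii) hi
    have hveq : v = v i0 • (e i0 : ι → k) := by
      funext i
      by_cases hii : i = i0
      · subst hii; simp [e]
      · rw [hA i hii]; simp [e, Pi.single_apply, hii]
    obtain ⟨g1, hg1, -⟩ := exists_move (e i0 : ι → k) (e i0 + e i1) (e i0)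
      (by rw [e_dot]; simp [e])
      (by rw [e_dot]; simp [e, Pi.single_apply, h01])
    obtain ⟨g2, hg2, -⟩ := exists_move (e i0 + e i1 : ι → k) v
      ((v i0)⁻¹ • e i0 + (1 - (v i0)⁻¹) • e i1)
      (by
        rw [add_dotProduct, smul_dotProduct, smul_dotProduct, e_dot, e_dot]
        simp [e, Pi.single_apply, h01, h01.symm])
      (by
        rw [add_dotProduct, smul_dotProduct, smul_dotProduct, e_dot, e_dot, hA i1 h01.symm]
        simp [hv0])
    refine ⟨g2 * g1, ?_⟩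
    show (g2.1 * g1.1) *ᵥ _ = _
    rw [← mulVec_mulVec, hg1, hg2]

/-- transitivity on covectors vanishing on `e i0`, inside the stabilizer of `e i0` -/
lemma exists_vecMul_eq {i0 i1 i2 : ι} (h01 : i0 ≠ i1) (h02 : i0 ≠ i2) (h12 : i1 ≠ i2)
    (φ : ι → k) (hφ : φ ≠ 0) (hφ0 : φ i0 = 0) :
    ∃ m : Matrix.SpecialLinearGroup ι k, m.1 *ᵥ (e i0 : ι → k) = e i0 ∧
      (e i1 : ι → k) ᵥ* m.1 = φ := by
  by_cases hA : ∃ j, j ≠ i1 ∧ φ j ≠ 0
  · obtain ⟨j, hj1, hφj⟩ := hA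
    obtain ⟨m, hm, hm2⟩ := exists_comove (e i1 : ι → k) φ (e i1 + ((1 - φ i1) / φ j) • e j)
      (by
        rw [e_dot]
        simp [e, Pi.single_apply, hj1.symm])
      (by
        rw [dotProduct_add, dotProduct_smul, dot_e, dot_e, smul_eq_mul, div_mul_cancel₀ _ hφj]
        ring)
    refine ⟨m, hm2 _ ?_, hm⟩
    rw [e_dot, dot_e, hφ0]
    simp [e, Pi.single_apply, h01]
  · push Not at hA
    have hφ1 : φ i1 ≠ 0 := by
      obtain ⟨i, hi⟩ := exists_ne_zero_of_ne_zero φ hφ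
      by_cases hii : i = i1
      · rw [← hii]; exact hi
      · exact absurd (hA i hii) hi
    obtain ⟨m1, hm1, hm1'⟩ := exists_comove (e i1 : ι → k) (e i1 + e i2) (e i1)
      (by rw [e_dot]; simp [e])
      (by rw [dot_e]; simp [e, Pi.single_apply, h12])
    obtain ⟨m2, hm2, hm2'⟩ := exists_comove (e i1 + e i2 : ι → k) φ
      ((φ i1)⁻¹ • e i1 + (1 - (φ i1)⁻¹) • e i2)
      (by
        rw [dotProduct_add, dotProduct_smul, dotProduct_smul, dot_e, dot_e]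
        simp [e, Pi.single_apply, h12, h12.symm])
      (by
        rw [dotProduct_add, dotProduct_smul, dotProduct_smul, dot_e, dot_e, hA i2 h12.symm]
        simp [hφ1])
    refine ⟨m1 * m2, ?_, ?_⟩
    · show (m1.1 * m2.1) *ᵥ _ = _
      rw [← mulVec_mulVec, hm2' _ ?_, hm1' _ ?_]
      · rw [e_dot, dot_e]
        simp [e, Pi.single_apply, h01, h02]
      · rw [dot_e, dot_e, hφ0]
        simp [e, Pi.single_apply, h01, h02]
    · show _ ᵥ* (m1.1 * m2.1) = _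
      rw [← vecMul_vecMul, hm1, hm2]

/-- **transitivity**: every incident (vector, covector) pair is the image of the standard one -/
theorem exists_conj {i0 i1 i2 : ι} (h01 : i0 ≠ i1) (h02 : i0 ≠ i2) (h12 : i1 ≠ i2)
    (v φ : ι → k) (hv : v ≠ 0) (hφ : φ ≠ 0) (h : φ ⬝ᵥ v = 0) :
    ∃ g : Matrix.SpecialLinearGroup ι k, g.1 *ᵥ (e i0 : ι → k) = v ∧
      (e i1 : ι → k) ᵥ* (g⁻¹).1 = φ := by
  obtain ⟨g1, hg1⟩ := exists_mulVec_eq h01 v hv
  have hφ' : φ ᵥ* g1.1 ≠ 0 := by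
    intro h0
    apply hφ
    have : (φ ᵥ* g1.1) ᵥ* (g1⁻¹).1 = 0 := by rw [h0, zero_vecMul]
    rw [vecMul_vecMul] at this
    have h1 : g1.1 * (g1⁻¹).1 = 1 := congrArg Subtype.val (mul_inv_cancel g1)
    rw [h1, vecMul_one] at this
    exact this
  have hφ0 : (φ ᵥ* g1.1) i0 = 0 := by
    rw [← dot_e (k := k) i0 (φ ᵥ* g1.1), ← dotProduct_mulVec, hg1, h]
  obtain ⟨m, hm1, hm2⟩ := exists_vecMul_eq h01 h02 h12 (φ ᵥ* g1.1) hφ' hφ0
  have hmi : (m⁻¹).1 *ᵥ (e i0 : ι → k) = e i0 := by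
    have h1 : (m⁻¹).1 * m.1 = 1 := congrArg Subtype.val (inv_mul_cancel m)
    calc (m⁻¹).1 *ᵥ (e i0 : ι → k) = (m⁻¹).1 *ᵥ (m.1 *ᵥ e i0) := by rw [hm1]
      _ = e i0 := by rw [mulVec_mulVec, h1, one_mulVec]
  refine ⟨g1 * m⁻¹, ?_, ?_⟩
  · show (g1.1 * (m⁻¹).1) *ᵥ _ = _
    rw [← mulVec_mulVec, hmi, hg1]
  · have h2 : (g1 * m⁻¹)⁻¹ = m * g1⁻¹ := by group
    rw [h2]
    show _ ᵥ* (m.1 * (g1⁻¹).1) = _
    rw [← vecMul_vecMul, hm2, vecMul_vecMul]
    have h1 : g1.1 * (g1⁻¹).1 = 1 := congrArg Subtype.val (mul_inv_cancel g1)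
    rw [h1, vecMul_one]

end Cfsg.Agent.Lib.Helper5_Transv
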