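import Mathlib
import Cfsg.Agent.Lib.Helper5_Transv

/-!
# Transvections in `PSL_n(F)` (helper44)

`proj : SL_n(F) →* PSL_n(F)`; `Par` (parallel vectors); the key lemma `eq_of_proj_eq`;
the subgroups `Pt v` (images of transvections with centre `v`) and `Hp φ` (axis `φ`);
subgroups consisting of transvections lie in some `Pt v` or some `Hp φ`.
-/

set_option autoImplicit false
set_option linter.unusedSectionVars false
set_option linter.unusedVariables false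

namespace Cfsg.Agent.Lib.Helper44_PSLnTv

open Matrix Cfsg.Agent.Lib.Helper5_Transv

variable {n : ℕ} {F : Type*} [Field F]

local notation "SLn" => Matrix.SpecialLinearGroup (Fin n) F
local notation "PSLn" => Matrix.ProjectiveSpecialLinearGroup (Fin n) F
local notation "Vn" => Fin n → F

/-- the projection `SL_n → PSL_n` -/
def proj : SLn →* PSLn := QuotientGroup.mk' (Subgroup.center SLn)

theorem proj_surjective : Function.Surjective (proj (n := n) (F := F)) :=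
  QuotientGroup.mk'_surjective _

/-! ### parallel vectors -/

/-- nonzero scalar multiples -/
def Par (v w : Vn) : Prop := ∃ c : F, c ≠ 0 ∧ w = c • v

theorem Par.refl (v : Vn) : Par v v := ⟨1, one_ne_zero, (one_smul _ _).symm⟩

theorem Par.symm {v w : Vn} (h : Par v w) : Par w v := by
  obtain ⟨c, hc, rfl⟩ := h
  exact ⟨c⁻¹, inv_ne_zero hc, by rw [smul_smul, inv_mul_cancel₀ hc, one_smul]⟩

theorem Par.trans {u v w : Vn} (h : Par u v) (h' : Par v w) : Par u w := by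
  obtain ⟨c, hc, rfl⟩ := h
  obtain ⟨d, hd, rfl⟩ := h'
  exact ⟨d * c, mul_ne_zero hd hc, by rw [smul_smul]⟩

theorem Par.ne_zero {v w : Vn} (h : Par v w) (hv : v ≠ 0) : w ≠ 0 := by
  obtain ⟨c, hc, rfl⟩ := h
  exact smul_ne_zero hc hv

theorem Par.dot_left {v w : Vn} (h : Par v w) (x : Vn) : w ⬝ᵥ x = 0 ↔ v ⬝ᵥ x = 0 := by
  obtain ⟨c, hc, rfl⟩ := h
  rw [smul_dotProduct, smul_eq_mul, mul_eq_zero]
  exact ⟨fun h => h.resolve_left hc, Or.inr⟩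

theorem Par.dot_right {v w : Vn} (h : Par v w) (x : Vn) : x ⬝ᵥ w = 0 ↔ x ⬝ᵥ v = 0 := by
  rw [dotProduct_comm, dotProduct_comm x v]
  exact h.dot_left x

theorem par_of_vecMulVec_eq {v φ w ψ : Vn} (hv : v ≠ 0) (hφ : φ ≠ 0)
    (e : vecMulVec v φ = vecMulVec w ψ) : Par v w ∧ Par φ ψ := by
  obtain ⟨i0, hi0⟩ := exists_ne_zero_of_ne_zero v hv
  obtain ⟨j0, hj0⟩ := exists_ne_zero_of_ne_zero φ hφ
  have h00 : v i0 * φ j0 = w i0 * ψ j0 := by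
    have := congrFun (congrFun e i0) j0
    simpa [vecMulVec_apply] using this
  have hw0 : w i0 ≠ 0 := by
    intro h
    rw [h, zero_mul] at h00
    exact mul_ne_zero hi0 hj0 h00
  have hψ0 : ψ j0 ≠ 0 := by
    intro h
    rw [h, mul_zero] at h00
    exact mul_ne_zero hi0 hj0 h00
  constructor
  · refine ⟨φ j0 / ψ j0, div_ne_zero hj0 hψ0, ?_⟩
    funext i
    have := congrFun (congrFun e i) j0
    simp only [vecMulVec_apply] at this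
    rw [Pi.smul_apply, smul_eq_mul]
    field_simp
    linear_combination -this
  · refine ⟨v i0 / w i0, div_ne_zero hi0 hw0, ?_⟩
    funext j
    have := congrFun (congrFun e i0) j
    simp only [vecMulVec_apply] at this
    rw [Pi.smul_apply, smul_eq_mul]
    field_simp
    linear_combination -this

/-! ### linear algebra: common zeros, separating vectors -/

theorem exists_common_zero (hn : 3 ≤ n) (φ φ' : Vn) :
    ∃ x : Vn, x ≠ 0 ∧ φ ⬝ᵥ x = 0 ∧ φ' ⬝ᵥ x = 0 := by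
  let f : Vn →ₗ[F] (Fin 2 → F) :=
    { toFun := fun x => ![φ ⬝ᵥ x, φ' ⬝ᵥ x]
      map_add' := by
        intro x y
        ext i
        fin_cases i <;> simp [dotProduct_add]
      map_smul' := by
        intro c x
        ext i
        fin_cases i <;> simp [dotProduct_smul] }
  have h1 : LinearMap.ker f ≠ ⊥ := by
    apply LinearMap.ker_ne_bot_of_finrank_lt
    simp only [Module.finrank_fintype_fun_eq_card, Fintype.card_fin]
    omega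
  obtain ⟨x, hx, hx0⟩ := Submodule.exists_mem_ne_zero_of_ne_bot h1
  refine ⟨x, hx0, ?_, ?_⟩
  · have := congrFun (LinearMap.mem_ker.mp hx) 0
    simpa [f] using this
  · have := congrFun (LinearMap.mem_ker.mp hx) 1
    simpa [f] using this

/-- if `φ` is not a multiple of `φ'` there is a vector killed by `φ'` but not by `φ` -/
theorem exists_sep (φ φ' : Vn) (h : ¬ ∃ c : F, φ = c • φ') :
    ∃ x : Vn, φ' ⬝ᵥ x = 0 ∧ φ ⬝ᵥ x ≠ 0 := by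
  by_contra hcon
  push Not at hcon
  apply h
  by_cases h0 : φ' = 0
  · -- then `φ = 0`
    refine ⟨0, ?_⟩
    rw [zero_smul]
    funext i
    have := hcon (e i) (by rw [h0, zero_dotProduct])
    rwa [dot_e] at this
  · obtain ⟨j, hj⟩ := exists_ne_zero_of_ne_zero φ' h0
    refine ⟨φ j / φ' j, ?_⟩
    funext i
    have h1 := hcon (φ' j • e i - φ' i • e j) (by
      rw [dotProduct_sub, dotProduct_smul, dotProduct_smul, dot_e, dot_e, smul_eq_mul, smul_eq_mul]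
      ring)
    rw [dotProduct_sub, dotProduct_smul, dotProduct_smul, dot_e, dot_e, smul_eq_mul,
      smul_eq_mul] at h1
    rw [Pi.smul_apply, smul_eq_mul]
    field_simp
    linear_combination h1

theorem not_smul_of_not_par {φ φ' : Vn} (hφ : φ ≠ 0) (h : ¬ Par φ' φ) : ¬ ∃ c : F, φ = c • φ' := by
  rintro ⟨c, hc⟩
  apply h
  refine ⟨c, ?_, hc⟩
  rintro rfl
  rw [zero_smul] at hc
  exact hφ hc


/-! ### equality in `PSL` versus equality in `SL` -/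

theorem exists_smul_of_proj_eq (A B : SLn) (h : proj A = proj B) :
    ∃ r : F, B.1 = r • A.1 := by
  have h1 : A⁻¹ * B ∈ Subgroup.center SLn := QuotientGroup.eq.mp h
  obtain ⟨r, -, hr⟩ := Matrix.SpecialLinearGroup.mem_center_iff.mp h1
  refine ⟨r, ?_⟩
  have h2 : B = A * (A⁻¹ * B) := by group
  have h3 : B.1 = A.1 * (A⁻¹ * B).1 := by
    conv_lhs => rw [h2]
    rfl
  rw [h3]
  have h4 : (A⁻¹ * B).1 = Matrix.scalar (Fin n) r := hr.symm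
  rw [h4]
  ext i j
  simp [Matrix.mul_apply, Matrix.diagonal_apply, mul_comm]

/-- if `A` fixes a nonzero vector and `B` is "quadratic unipotent", then `proj A = proj B`
forces `A = B` -/
theorem eq_of_proj_eq (A B : SLn) (h : proj A = proj B) (x : Vn) (hx : x ≠ 0)
    (hA : A.1 *ᵥ x = x) (hB : (B.1 - 1) * (B.1 - 1) = 0) : A = B := by
  obtain ⟨r, hr⟩ := exists_smul_of_proj_eq A B h
  have h1 : B.1 *ᵥ x = r • x := by rw [hr, smul_mulVec, hA]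
  have h2 : (B.1 - 1) *ᵥ x = (r - 1) • x := by
    rw [sub_mulVec, one_mulVec, h1, sub_smul, one_smul]
  have h3 : ((B.1 - 1) * (B.1 - 1)) *ᵥ x = ((r - 1) * (r - 1)) • x := by
    rw [← mulVec_mulVec, h2, mulVec_smul, h2, smul_smul]
  rw [hB, zero_mulVec] at h3
  have h4 : (r - 1) * (r - 1) = 0 := by
    by_contra hne
    exact hx (by
      have := congrArg (fun y => ((r - 1) * (r - 1))⁻¹ • y) h3
      simp only [smul_zero, smul_smul, inv_mul_cancel₀ hne, one_smul] at this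
      exact this.symm)
  have h5 : r = 1 := by
    have := mul_self_eq_zero.mp h4
    exact sub_eq_zero.mp this
  apply Subtype.ext
  show A.1 = B.1
  rw [hr, h5, one_smul]

theorem tv_sub_one_sq (v φ : Vn) (h : φ ⬝ᵥ v = 0) (c : F) :
    (tv v φ c - 1) * (tv v φ c - 1) = 0 := by
  unfold tv
  rw [add_sub_cancel_left, smul_mul_smul_comm, vecMulVec_mul_vecMulVec, h, zero_smul]
  simp

theorem tvS_mulVec_of_dot_zero (v φ : Vn) (h : φ ⬝ᵥ v = 0) (c : F) (x : Vn) (hx : φ ⬝ᵥ x = 0) :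
    (tvS v φ h c).1 *ᵥ x = x := by
  rw [tvS_coe, tv_mulVec, hx, mul_zero, zero_smul, add_zero]

/-- the image of a transvection in `PSL` -/
def tvP (v φ : Vn) (h : φ ⬝ᵥ v = 0) : PSLn := proj (tvS v φ h 1)

theorem tvP_eq_iff (hn : 3 ≤ n) (v φ w ψ : Vn) (h : φ ⬝ᵥ v = 0) (h' : ψ ⬝ᵥ w = 0) :
    tvP v φ h = tvP w ψ h' ↔ vecMulVec v φ = vecMulVec w ψ := by
  constructor
  · intro e
    obtain ⟨x, hx, hx1, -⟩ := exists_common_zero hn φ φ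
    have h1 := eq_of_proj_eq _ _ e x hx (tvS_mulVec_of_dot_zero v φ h 1 x hx1)
      (by rw [tvS_coe]; exact tv_sub_one_sq w ψ h' 1)
    have h2 : tv v φ 1 = tv w ψ 1 := congrArg Subtype.val h1
    unfold tv at h2
    rw [one_smul, one_smul] at h2
    exact add_left_cancel h2
  · intro e
    unfold tvP
    congr 1
    apply Subtype.ext
    show tv v φ 1 = tv w ψ 1
    unfold tv
    rw [e]

theorem tvP_eq_one_iff (hn : 3 ≤ n) (v φ : Vn) (h : φ ⬝ᵥ v = 0) :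
    tvP v φ h = 1 ↔ vecMulVec v φ = 0 := by
  have h0 : (0 : Vn) ⬝ᵥ (0 : Vn) = 0 := by simp
  have h1 : tvP (0 : Vn) (0 : Vn) h0 = (1 : PSLn) := by
    unfold tvP
    have : tvS (0 : Vn) (0 : Vn) h0 1 = 1 := by
      apply Subtype.ext
      show tv 0 0 1 = 1
      unfold tv
      simp
    rw [this, map_one]
  rw [← h1, tvP_eq_iff hn]
  simp

theorem vecMulVec_ne_zero {v φ : Vn} (hv : v ≠ 0) (hφ : φ ≠ 0) : vecMulVec v φ ≠ 0 := by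
  obtain ⟨i, hi⟩ := exists_ne_zero_of_ne_zero v hv
  obtain ⟨j, hj⟩ := exists_ne_zero_of_ne_zero φ hφ
  intro h
  have := congrFun (congrFun h i) j
  rw [vecMulVec_apply] at this
  exact mul_ne_zero hi hj this

theorem tvP_ne_one (hn : 3 ≤ n) {v φ : Vn} (h : φ ⬝ᵥ v = 0) (hv : v ≠ 0) (hφ : φ ≠ 0) :
    tvP v φ h ≠ 1 := by
  rw [Ne, tvP_eq_one_iff hn]
  exact vecMulVec_ne_zero hv hφ

/-- `t` is the image of a (nontrivial) transvection -/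
def IsTv (t : PSLn) : Prop :=
  ∃ (v φ : Vn) (h : φ ⬝ᵥ v = 0), v ≠ 0 ∧ φ ≠ 0 ∧ t = tvP v φ h

theorem IsTv.ne_one (hn : 3 ≤ n) {t : PSLn} (ht : IsTv t) : t ≠ 1 := by
  obtain ⟨v, φ, h, hv, hφ, rfl⟩ := ht
  exact tvP_ne_one hn h hv hφ


/-! ### the product of two transvections -/

theorem vecMulVec_mulVec' (v φ x : Vn) : vecMulVec v φ *ᵥ x = (φ ⬝ᵥ x) • v := by
  funext i
  simp only [mulVec, dotProduct, vecMulVec_apply, Pi.smul_apply, smul_eq_mul]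
  rw [Finset.sum_mul]
  apply Finset.sum_congr rfl
  intro j _
  ring

theorem tvP_mul (v φ v' φ' : Vn) (h : φ ⬝ᵥ v = 0) (h' : φ' ⬝ᵥ v' = 0) :
    tvP v φ h * tvP v' φ' h' = proj (tvS v φ h 1 * tvS v' φ' h' 1) := by
  unfold tvP
  rw [map_mul]

theorem par_or_par (hn : 3 ≤ n) (v φ v' φ' : Vn) (h : φ ⬝ᵥ v = 0) (h' : φ' ⬝ᵥ v' = 0)
    (hv : v ≠ 0) (hφ : φ ≠ 0) (hv' : v' ≠ 0) (hφ' : φ' ≠ 0)
    (hprod : tvP v φ h * tvP v' φ' h' = 1 ∨ IsTv (tvP v φ h * tvP v' φ' h')) :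
    Par v v' ∨ Par φ φ' := by
  -- the product is `proj (1 + M)`
  set A : SLn := tvS v φ h 1 * tvS v' φ' h' 1 with hA
  have hA1 : A.1 = 1 + (vecMulVec v φ + vecMulVec v' φ' + (φ ⬝ᵥ v') • vecMulVec v φ') := by
    show (tvS v φ h 1).1 * (tvS v' φ' h' 1).1 = _
    rw [tvS_coe, tvS_coe, tv_mul_tv]
    simp only [one_smul, one_mul]
    abel
  -- a transvection (possibly trivial) with the same image
  obtain ⟨w, ψ, hw, e⟩ : ∃ (w ψ : Vn) (hw : ψ ⬝ᵥ w = 0), proj A = tvP w ψ hw := by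
    rw [tvP_mul] at hprod
    rcases hprod with h1 | ⟨w, ψ, hw, -, -, h1⟩
    · refine ⟨0, 0, by simp, ?_⟩
      rw [h1]
      symm
      rw [tvP_eq_one_iff hn]
      simp
    · exact ⟨w, ψ, hw, h1⟩
  obtain ⟨x0, hx0, hx1, hx2⟩ := exists_common_zero hn φ φ'
  have hfix : A.1 *ᵥ x0 = x0 := by
    show ((tvS v φ h 1).1 * (tvS v' φ' h' 1).1) *ᵥ x0 = x0
    rw [← mulVec_mulVec, tvS_mulVec_of_dot_zero v' φ' h' 1 x0 hx2,
      tvS_mulVec_of_dot_zero v φ h 1 x0 hx1]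
  have hAB : A = tvS w ψ hw 1 :=
    eq_of_proj_eq A _ e x0 hx0 hfix (by rw [tvS_coe]; exact tv_sub_one_sq w ψ hw 1)
  have hM : vecMulVec v φ + vecMulVec v' φ' + (φ ⬝ᵥ v') • vecMulVec v φ' = vecMulVec w ψ := by
    have h2 : A.1 = tv w ψ 1 := congrArg Subtype.val hAB
    rw [hA1] at h2
    unfold tv at h2
    rw [one_smul] at h2
    exact add_left_cancel h2
  have hMx : ∀ x : Vn, (φ ⬝ᵥ x) • v + (φ' ⬝ᵥ x) • v' + ((φ ⬝ᵥ v') * (φ' ⬝ᵥ x)) • v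
      = (ψ ⬝ᵥ x) • w := by
    intro x
    have := congrArg (fun N : Matrix (Fin n) (Fin n) F => N *ᵥ x) hM
    simp only [add_mulVec, smul_mulVec, vecMulVec_mulVec', smul_smul] at this
    exact this
  by_contra hcon
  push Not at hcon
  obtain ⟨hvv, hφφ⟩ := hcon
  obtain ⟨x1, hx11, hx12⟩ := exists_sep φ φ' (not_smul_of_not_par hφ (fun hp => hφφ hp.symm))
  obtain ⟨y0, hy01, hy02⟩ := exists_sep φ' φ (not_smul_of_not_par hφ' hφφ)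
  have e1 := hMx x1
  rw [hx11, zero_smul, add_zero, mul_zero, zero_smul, add_zero] at e1
  have e2 := hMx y0
  rw [hy01, zero_smul, zero_add] at e2
  -- `w` is a multiple of `v`
  have hψx1 : ψ ⬝ᵥ x1 ≠ 0 := by
    intro h0
    rw [h0, zero_smul] at e1
    exact smul_ne_zero hx12 hv e1
  have hw' : w = ((φ ⬝ᵥ x1) / (ψ ⬝ᵥ x1)) • v := by
    rw [div_eq_inv_mul, ← smul_smul, e1, smul_smul, inv_mul_cancel₀ hψx1, one_smul]
  apply hvv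
  have e3 : (φ' ⬝ᵥ y0) • v' = ((ψ ⬝ᵥ y0) * ((φ ⬝ᵥ x1) / (ψ ⬝ᵥ x1)) - (φ ⬝ᵥ v') * (φ' ⬝ᵥ y0)) • v := by
    rw [sub_smul, ← smul_smul, ← hw', ← e2]
    abel
  have e4 : v' = ((φ' ⬝ᵥ y0)⁻¹ * ((ψ ⬝ᵥ y0) * ((φ ⬝ᵥ x1) / (ψ ⬝ᵥ x1))
      - (φ ⬝ᵥ v') * (φ' ⬝ᵥ y0))) • v := by
    rw [← smul_smul, ← e3, smul_smul, inv_mul_cancel₀ hy02, one_smul]
  refine ⟨_, ?_, e4⟩
  intro h0
  rw [h0, zero_smul] at e4
  exact hv' e4


/-! ### the subgroups `Pt v` and `Hp φ` -/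

theorem tvS_mul_same_left (v φ φ' : Vn) (h : φ ⬝ᵥ v = 0) (h' : φ' ⬝ᵥ v = 0) :
    tvS v φ h 1 * tvS v φ' h' 1
      = tvS v (φ + φ') (by rw [add_dotProduct, h, h', add_zero]) 1 := by
  apply Subtype.ext
  show (tvS v φ h 1).1 * (tvS v φ' h' 1).1 = _
  rw [tvS_coe, tvS_coe, tvS_coe, tv_mul_tv, h, mul_zero, zero_smul, add_zero]
  unfold tv
  ext i j
  simp [vecMulVec_apply]
  ring

theorem tvS_mul_same_right (v v' φ : Vn) (h : φ ⬝ᵥ v = 0) (h' : φ ⬝ᵥ v' = 0) :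
    tvS v φ h 1 * tvS v' φ h' 1
      = tvS (v + v') φ (by rw [dotProduct_add, h, h', add_zero]) 1 := by
  apply Subtype.ext
  show (tvS v φ h 1).1 * (tvS v' φ h' 1).1 = _
  rw [tvS_coe, tvS_coe, tvS_coe, tv_mul_tv, h', mul_zero, zero_smul, add_zero]
  unfold tv
  ext i j
  simp [vecMulVec_apply]
  ring

theorem tvS_zero_right (v : Vn) : tvS v (0 : Vn) (by simp) 1 = (1 : SLn) := by
  apply Subtype.ext
  show tv v 0 1 = 1
  unfold tv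
  simp

theorem tvS_zero_left (φ : Vn) : tvS (0 : Vn) φ (by simp) 1 = (1 : SLn) := by
  apply Subtype.ext
  show tv 0 φ 1 = 1
  unfold tv
  simp

/-- transvections with centre `v` in `SL` -/
def PtS (v : Vn) : Subgroup SLn where
  carrier := {g | ∃ (φ : Vn) (h : φ ⬝ᵥ v = 0), g = tvS v φ h 1}
  one_mem' := ⟨0, by simp, (tvS_zero_right v).symm⟩
  mul_mem' := by
    rintro _ _ ⟨φ, h, rfl⟩ ⟨φ', h', rfl⟩
    exact ⟨φ + φ', _, tvS_mul_same_left v φ φ' h h'⟩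
  inv_mem' := by
    rintro _ ⟨φ, h, rfl⟩
    refine ⟨-φ, by rw [neg_dotProduct, h, neg_zero], ?_⟩
    apply inv_eq_of_mul_eq_one_right
    rw [tvS_mul_same_left]
    simp only [add_neg_cancel]
    exact tvS_zero_right v

/-- transvections with axis `φ` in `SL` -/
def HpS (φ : Vn) : Subgroup SLn where
  carrier := {g | ∃ (v : Vn) (h : φ ⬝ᵥ v = 0), g = tvS v φ h 1}
  one_mem' := ⟨0, by simp, (tvS_zero_left φ).symm⟩
  mul_mem' := by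
    rintro _ _ ⟨v, h, rfl⟩ ⟨v', h', rfl⟩
    exact ⟨v + v', _, tvS_mul_same_right v v' φ h h'⟩
  inv_mem' := by
    rintro _ ⟨v, h, rfl⟩
    refine ⟨-v, by rw [dotProduct_neg, h, neg_zero], ?_⟩
    apply inv_eq_of_mul_eq_one_right
    rw [tvS_mul_same_right]
    simp only [add_neg_cancel]
    exact tvS_zero_left φ

/-- images of transvections with centre `v` -/
def Pt (v : Vn) : Subgroup PSLn := (PtS v).map proj

/-- images of transvections with axis `φ` -/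
def Hp (φ : Vn) : Subgroup PSLn := (HpS φ).map proj

theorem mem_Pt {v : Vn} {t : PSLn} : t ∈ Pt v ↔ ∃ (φ : Vn) (h : φ ⬝ᵥ v = 0), t = tvP v φ h := by
  constructor
  · rintro ⟨_, ⟨φ, h, rfl⟩, rfl⟩
    exact ⟨φ, h, rfl⟩
  · rintro ⟨φ, h, rfl⟩
    exact ⟨_, ⟨φ, h, rfl⟩, rfl⟩

theorem mem_Hp {φ : Vn} {t : PSLn} : t ∈ Hp φ ↔ ∃ (v : Vn) (h : φ ⬝ᵥ v = 0), t = tvP v φ h := by
  constructor
  · rintro ⟨_, ⟨v, h, rfl⟩, rfl⟩
    exact ⟨v, h, rfl⟩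
  · rintro ⟨v, h, rfl⟩
    exact ⟨_, ⟨v, h, rfl⟩, rfl⟩

theorem tvP_mem_Pt (v φ : Vn) (h : φ ⬝ᵥ v = 0) : tvP v φ h ∈ Pt v := mem_Pt.mpr ⟨φ, h, rfl⟩

theorem tvP_mem_Hp (v φ : Vn) (h : φ ⬝ᵥ v = 0) : tvP v φ h ∈ Hp φ := mem_Hp.mpr ⟨v, h, rfl⟩

theorem tvP_congr {v φ w ψ : Vn} (h : φ ⬝ᵥ v = 0) (h' : ψ ⬝ᵥ w = 0)
    (e : vecMulVec v φ = vecMulVec w ψ) : tvP v φ h = tvP w ψ h' := by
  unfold tvP
  congr 1
  apply Subtype.ext
  show tv v φ 1 = tv w ψ 1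
  unfold tv
  rw [e]

theorem Pt_le_of_par {v w : Vn} (hp : Par v w) : Pt v ≤ Pt w := by
  obtain ⟨c, hc, rfl⟩ := hp
  intro t ht
  obtain ⟨φ, h, rfl⟩ := mem_Pt.mp ht
  refine mem_Pt.mpr ⟨c⁻¹ • φ, ?_, ?_⟩
  · rw [smul_dotProduct, dotProduct_smul, h, smul_zero, smul_zero]
  · apply tvP_congr
    rw [smul_vecMulVec, vecMulVec_smul, smul_smul, mul_inv_cancel₀ hc, one_smul]

theorem Pt_eq_of_par {v w : Vn} (hp : Par v w) : Pt v = Pt w :=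
  le_antisymm (Pt_le_of_par hp) (Pt_le_of_par hp.symm)

theorem Hp_le_of_par {φ ψ : Vn} (hp : Par φ ψ) : Hp φ ≤ Hp ψ := by
  obtain ⟨c, hc, rfl⟩ := hp
  intro t ht
  obtain ⟨v, h, rfl⟩ := mem_Hp.mp ht
  refine mem_Hp.mpr ⟨c⁻¹ • v, ?_, ?_⟩
  · rw [smul_dotProduct, dotProduct_smul, h, smul_zero, smul_zero]
  · apply tvP_congr
    rw [smul_vecMulVec, vecMulVec_smul, smul_smul, inv_mul_cancel₀ hc, one_smul]

theorem Hp_eq_of_par {φ ψ : Vn} (hp : Par φ ψ) : Hp φ = Hp ψ :=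
  le_antisymm (Hp_le_of_par hp) (Hp_le_of_par hp.symm)

theorem par_of_tvP_mem_Pt (hn : 3 ≤ n) {v φ w : Vn} (h : φ ⬝ᵥ v = 0) (hv : v ≠ 0) (hφ : φ ≠ 0)
    (hm : tvP v φ h ∈ Pt w) : Par v w := by
  obtain ⟨ψ, h', e⟩ := mem_Pt.mp hm
  exact (par_of_vecMulVec_eq hv hφ ((tvP_eq_iff hn _ _ _ _ h h').mp e)).1

theorem par_of_tvP_mem_Hp (hn : 3 ≤ n) {v φ ψ : Vn} (h : φ ⬝ᵥ v = 0) (hv : v ≠ 0) (hφ : φ ≠ 0)
    (hm : tvP v φ h ∈ Hp ψ) : Par φ ψ := by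
  obtain ⟨w, h', e⟩ := mem_Hp.mp hm
  exact (par_of_vecMulVec_eq hv hφ ((tvP_eq_iff hn _ _ _ _ h h').mp e)).2


/-! ### subgroups consisting of transvections -/

theorem exists_ne_one_of_ne_bot {G : Type*} [Group G] {A : Subgroup G} (h : A ≠ ⊥) :
    ∃ t, t ∈ A ∧ t ≠ 1 := by
  obtain ⟨⟨t, ht⟩, hne⟩ := (Subgroup.ne_bot_iff_exists_ne_one).mp h
  exact ⟨t, ht, fun h => hne (Subtype.ext h)⟩


/-- all nonidentity elements are transvection images -/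
def IsTGroup (A : Subgroup PSLn) : Prop := ∀ t ∈ A, t ≠ 1 → IsTv t

theorem isTGroup_Pt {v : Vn} (hv : v ≠ 0) : IsTGroup (Pt v) := by
  intro t ht ht1
  obtain ⟨φ, h, rfl⟩ := mem_Pt.mp ht
  refine ⟨v, φ, h, hv, ?_, rfl⟩
  rintro rfl
  apply ht1
  unfold tvP
  rw [tvS_zero_right, map_one]

theorem isTGroup_Hp {φ : Vn} (hφ : φ ≠ 0) : IsTGroup (Hp φ) := by
  intro t ht ht1
  obtain ⟨v, h, rfl⟩ := mem_Hp.mp ht
  refine ⟨v, φ, h, ?_, hφ, rfl⟩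
  rintro rfl
  apply ht1
  unfold tvP
  rw [tvS_zero_left, map_one]

theorem IsTGroup.le_Pt_or_le_Hp (hn : 3 ≤ n) {A : Subgroup PSLn} (hA : IsTGroup A) :
    (∃ v : Vn, v ≠ 0 ∧ A ≤ Pt v) ∨ (∃ φ : Vn, φ ≠ 0 ∧ A ≤ Hp φ) := by
  by_cases hbot : A = ⊥
  · left
    refine ⟨e ⟨0, by omega⟩, ?_, ?_⟩
    · intro h
      have := congrFun h ⟨0, by omega⟩
      simp [e] at this
    · rw [hbot]
      exact bot_le
  obtain ⟨t1, ht1, ht1ne⟩ := exists_ne_one_of_ne_bot hbot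
  obtain ⟨v1, φ1, h1, hv1, hφ1, rfl⟩ := hA t1 ht1 ht1ne
  -- the key dichotomy for members of `A`
  have key : ∀ (v φ v' φ' : Vn) (h : φ ⬝ᵥ v = 0) (h' : φ' ⬝ᵥ v' = 0), v ≠ 0 → φ ≠ 0 → v' ≠ 0 →
      φ' ≠ 0 → tvP v φ h ∈ A → tvP v' φ' h' ∈ A → Par v v' ∨ Par φ φ' := by
    intro v φ v' φ' h h' hv hφ hv' hφ' hm hm'
    apply par_or_par hn v φ v' φ' h h' hv hφ hv' hφ'
    by_cases h1 : tvP v φ h * tvP v' φ' h' = 1
    · exact Or.inl h1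
    · exact Or.inr (hA _ (A.mul_mem hm hm') h1)
  by_cases hall : ∀ t ∈ A, t ∈ Pt v1
  · exact Or.inl ⟨v1, hv1, hall⟩
  right
  push Not at hall
  obtain ⟨t2, ht2, ht2n⟩ := hall
  have ht2ne : t2 ≠ 1 := by
    rintro rfl
    exact ht2n (Pt v1).one_mem
  obtain ⟨v2, φ2, h2, hv2, hφ2, rfl⟩ := hA t2 ht2 ht2ne
  have hv12 : ¬ Par v1 v2 := by
    intro hp
    apply ht2n
    rw [Pt_eq_of_par hp]
    exact tvP_mem_Pt v2 φ2 h2
  have hφ12 : Par φ1 φ2 := (key v1 φ1 v2 φ2 h1 h2 hv1 hφ1 hv2 hφ2 ht1 ht2).resolve_left hv12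
  refine ⟨φ1, hφ1, ?_⟩
  intro t3 ht3
  by_cases ht3ne : t3 = 1
  · rw [ht3ne]
    exact (Hp φ1).one_mem
  obtain ⟨v3, φ3, h3, hv3, hφ3, rfl⟩ := hA t3 ht3 ht3ne
  rcases key v1 φ1 v3 φ3 h1 h3 hv1 hφ1 hv3 hφ3 ht1 ht3 with hp | hp
  · rcases key v2 φ2 v3 φ3 h2 h3 hv2 hφ2 hv3 hφ3 ht2 ht3 with hp' | hp'
    · exact absurd (hp.trans hp'.symm) hv12
    · rw [Hp_eq_of_par (hφ12.trans hp')]
      exact tvP_mem_Hp v3 φ3 h3
  · rw [Hp_eq_of_par hp]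
    exact tvP_mem_Hp v3 φ3 h3

/-- two non-parallel covectors killing `v` -/
theorem exists_two_perp (hn : 3 ≤ n) (v : Vn) :
    ∃ φ1 φ2 : Vn, φ1 ≠ 0 ∧ φ2 ≠ 0 ∧ φ1 ⬝ᵥ v = 0 ∧ φ2 ⬝ᵥ v = 0 ∧ ¬ Par φ1 φ2 := by
  obtain ⟨φ1, hφ1, h1, -⟩ := exists_common_zero hn v v
  obtain ⟨i, hi⟩ := exists_ne_zero_of_ne_zero φ1 hφ1
  obtain ⟨φ2, hφ2, h2, h2'⟩ := exists_common_zero hn v (e i)
  refine ⟨φ1, φ2, hφ1, hφ2, by rw [dotProduct_comm]; exact h1,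
    by rw [dotProduct_comm]; exact h2, ?_⟩
  rintro ⟨c, hc, hcc⟩
  rw [e_dot] at h2'
  rw [hcc, Pi.smul_apply, smul_eq_mul] at h2'
  exact mul_ne_zero hc hi h2'

theorem not_Pt_le_Hp (hn : 3 ≤ n) {v φ : Vn} (hv : v ≠ 0) : ¬ Pt v ≤ Hp φ := by
  intro hle
  obtain ⟨φ1, φ2, hφ1, hφ2, h1, h2, hnp⟩ := exists_two_perp hn v
  have e1 := par_of_tvP_mem_Hp hn h1 hv hφ1 (hle (tvP_mem_Pt v φ1 h1))
  have e2 := par_of_tvP_mem_Hp hn h2 hv hφ2 (hle (tvP_mem_Pt v φ2 h2))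
  exact hnp (e1.trans e2.symm)

theorem not_Hp_le_Pt (hn : 3 ≤ n) {v φ : Vn} (hφ : φ ≠ 0) : ¬ Hp φ ≤ Pt v := by
  intro hle
  obtain ⟨v1, v2, hv1, hv2, h1, h2, hnp⟩ := exists_two_perp hn φ
  rw [dotProduct_comm] at h1 h2
  have e1 := par_of_tvP_mem_Pt hn h1 hv1 hφ (hle (tvP_mem_Hp v1 φ h1))
  have e2 := par_of_tvP_mem_Pt hn h2 hv2 hφ (hle (tvP_mem_Hp v2 φ h2))
  exact hnp (e1.trans e2.symm)

theorem par_of_Pt_le (hn : 3 ≤ n) {v w : Vn} (hv : v ≠ 0) (hle : Pt v ≤ Pt w) : Par v w := by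
  obtain ⟨φ1, _, hφ1, _, h1, _, _⟩ := exists_two_perp hn v
  exact par_of_tvP_mem_Pt hn h1 hv hφ1 (hle (tvP_mem_Pt v φ1 h1))

theorem par_of_Hp_le (hn : 3 ≤ n) {φ ψ : Vn} (hφ : φ ≠ 0) (hle : Hp φ ≤ Hp ψ) : Par φ ψ := by
  obtain ⟨v1, _, hv1, _, h1, _, _⟩ := exists_two_perp hn φ
  rw [dotProduct_comm] at h1
  exact par_of_tvP_mem_Hp hn h1 hv1 hφ (hle (tvP_mem_Hp v1 φ h1))

/-- maximality of `Pt v` among transvection subgroups -/
theorem eq_Pt_of_le (hn : 3 ≤ n) {v : Vn} (hv : v ≠ 0) {A : Subgroup PSLn} (hA : IsTGroup A)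
    (hle : Pt v ≤ A) : A = Pt v := by
  rcases hA.le_Pt_or_le_Hp hn with ⟨w, hw, hAw⟩ | ⟨ψ, hψ, hAψ⟩
  · have hp := par_of_Pt_le hn hv (hle.trans hAw)
    apply le_antisymm _ hle
    rw [Pt_eq_of_par hp]
    exact hAw
  · exact absurd (hle.trans hAψ) (not_Pt_le_Hp hn hv)

theorem eq_Hp_of_le (hn : 3 ≤ n) {φ : Vn} (hφ : φ ≠ 0) {A : Subgroup PSLn} (hA : IsTGroup A)
    (hle : Hp φ ≤ A) : A = Hp φ := by
  rcases hA.le_Pt_or_le_Hp hn with ⟨w, hw, hAw⟩ | ⟨ψ, hψ, hAψ⟩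
  · exact absurd (hle.trans hAw) (not_Hp_le_Pt hn hφ)
  · have hp := par_of_Hp_le hn hφ (hle.trans hAψ)
    apply le_antisymm _ hle
    rw [Hp_eq_of_par hp]
    exact hAψ

/-! ### incidence -/

theorem Pt_inf_Hp_ne_bot_iff (hn : 3 ≤ n) {v φ : Vn} (hv : v ≠ 0) (hφ : φ ≠ 0) :
    Pt v ⊓ Hp φ ≠ ⊥ ↔ φ ⬝ᵥ v = 0 := by
  constructor
  · intro hne
    obtain ⟨t, ht, ht1⟩ := exists_ne_one_of_ne_bot hne
    obtain ⟨φ1, h1, rfl⟩ := mem_Pt.mp ht.1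
    have hφ1 : φ1 ≠ 0 := by
      rintro rfl
      apply ht1
      unfold tvP
      rw [tvS_zero_right, map_one]
    have hp := par_of_tvP_mem_Hp hn h1 hv hφ1 ht.2
    exact (hp.dot_left v).mpr h1
  · intro h
    intro hbot
    have hm : tvP v φ h ∈ Pt v ⊓ Hp φ := ⟨tvP_mem_Pt v φ h, tvP_mem_Hp v φ h⟩
    rw [hbot, Subgroup.mem_bot] at hm
    exact tvP_ne_one hn h hv hφ hm

theorem par_of_Pt_inf_Pt_ne_bot (hn : 3 ≤ n) {v w : Vn} (hv : v ≠ 0)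
    (hne : Pt v ⊓ Pt w ≠ ⊥) : Par v w := by
  obtain ⟨t, ht, ht1⟩ := exists_ne_one_of_ne_bot hne
  obtain ⟨φ1, h1, rfl⟩ := mem_Pt.mp ht.1
  have hφ1 : φ1 ≠ 0 := by
    rintro rfl
    apply ht1
    unfold tvP
    rw [tvS_zero_right, map_one]
  exact par_of_tvP_mem_Pt hn h1 hv hφ1 ht.2

theorem par_of_Hp_inf_Hp_ne_bot (hn : 3 ≤ n) {φ ψ : Vn} (hφ : φ ≠ 0)
    (hne : Hp φ ⊓ Hp ψ ≠ ⊥) : Par φ ψ := by
  obtain ⟨t, ht, ht1⟩ := exists_ne_one_of_ne_bot hne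
  obtain ⟨v1, h1, rfl⟩ := mem_Hp.mp ht.1
  have hv1 : v1 ≠ 0 := by
    rintro rfl
    apply ht1
    unfold tvP
    rw [tvS_zero_left, map_one]
  exact par_of_tvP_mem_Hp hn h1 hv1 hφ ht.2

theorem Pt_ne_Hp (hn : 3 ≤ n) {v φ : Vn} (hv : v ≠ 0) : Pt v ≠ Hp φ := by
  intro h
  exact not_Pt_le_Hp hn hv (le_of_eq h)

theorem Pt_ne_bot (hn : 3 ≤ n) {v : Vn} (hv : v ≠ 0) : Pt v ≠ ⊥ := by
  obtain ⟨φ1, _, hφ1, _, h1, _, _⟩ := exists_two_perp hn v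
  intro hbot
  have hm := tvP_mem_Pt v φ1 h1
  rw [hbot, Subgroup.mem_bot] at hm
  exact tvP_ne_one hn h1 hv hφ1 hm

theorem Hp_ne_bot (hn : 3 ≤ n) {φ : Vn} (hφ : φ ≠ 0) : Hp φ ≠ ⊥ := by
  obtain ⟨v1, _, hv1, _, h1, _, _⟩ := exists_two_perp hn φ
  rw [dotProduct_comm] at h1
  intro hbot
  have hm := tvP_mem_Hp v1 φ h1
  rw [hbot, Subgroup.mem_bot] at hm
  exact tvP_ne_one hn h1 hv1 hφ hm

end Cfsg.Agent.Lib.Helper44_PSLnTv
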