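import Mathlib

set_option autoImplicit false
set_option linter.unusedSimpArgs false

/-!
Generation of `SL ι F` by transvections (general index type), the commutator formula for
transvections, and perfectness of `SL ι F` when `3 ≤ card ι`.
-/

namespace Cfsg.Agent.Lib.Helper5_SLGen

open Matrix Matrix.SpecialLinearGroup

variable {F : Type*} [Field F] {ι : Type*} [DecidableEq ι] [Fintype ι]

omit [Fintype ι] in
lemma diag_eq_single {i j : ι} (hij : i ≠ j) (a b : F) :
    diagonal (fun k ↦ if k = i then a else if k = j then b else 1) =
      (1 : Matrix ι ι F) + Matrix.single i i (a - 1) + Matrix.single j j (b - 1) := by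
  ext k l
  simp only [diagonal_apply, Matrix.add_apply, one_apply, single_apply]
  grind

omit [Fintype ι] in
lemma single_eq_smul (i j : ι) (c : F) : Matrix.single i j c = c • Matrix.single i j (1 : F) := by
  rw [Matrix.smul_single, smul_eq_mul, mul_one]

/-- The diagonal element `diag2n` is a product of six transvections (general index type). -/
lemma diag2n_eq_prod {i j : ι} (hij : i ≠ j) (a : F) (ha : a ≠ 0) :
    diag2n hij a ha = transvection hij a * transvection hij.symm (-a⁻¹) * transvection hij a *
      transvection hij (-1) * transvection hij.symm 1 * transvection hij (-1) := by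
  apply Subtype.ext
  simp only [coe_mul, transvection_coe, diag2n_coe]
  rw [diag_eq_single hij]
  simp only [Matrix.transvection, mul_add, add_mul, mul_one, one_mul, single_mul_single_same,
    single_mul_single_of_ne _ _ _ _ hij, single_mul_single_of_ne _ _ _ _ hij.symm,
    zero_mul, add_zero, zero_add, mul_neg, neg_mul, mul_one, neg_neg, mul_inv_cancel₀ ha,
    inv_mul_cancel₀ ha, one_mul]
  rw [single_eq_smul i i (a - 1), single_eq_smul j j (a⁻¹ - 1), single_eq_smul i j a,
    single_eq_smul j i (-a⁻¹), single_eq_smul i i (-1), single_eq_smul j j (-1),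
    single_eq_smul i j (-1), single_eq_smul j j (a⁻¹), single_eq_smul i i a,
    single_eq_smul i j (-a), single_eq_smul j j (-a⁻¹), single_eq_smul j i (a⁻¹),
    single_eq_smul i i (-a), single_eq_smul j i (-1)]
  module

/-- `SL ι F` is generated by transvections: induction principle. -/
theorem transvection_induction [Nontrivial ι] (P : SpecialLinearGroup ι F → Prop)
    (htransvec : ∀ (i j : ι) (hij : i ≠ j) (c : F), P (transvection hij c))
    (hmul : ∀ A B, P A → P B → P (A * B)) (A : SpecialLinearGroup ι F) : P A := by
  refine diagonal_transvection_induction' P A (fun i j hij c hc ↦ ?_) htransvec hmul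
  rw [diag2n_eq_prod hij c hc]
  refine hmul _ _ (hmul _ _ (hmul _ _ (hmul _ _ (hmul _ _ ?_ ?_) ?_) ?_) ?_) ?_
  all_goals exact htransvec _ _ _ _

open scoped commutatorElement in
/-- `[T_ik(a), T_kj(b)] = T_ij(ab)` for pairwise distinct `i, j, k`. -/
lemma commutator_transvection_transvection {i j k : ι} (hij : i ≠ j) (hik : i ≠ k) (hkj : k ≠ j)
    (a b : F) :
    ⁅transvection hik a, transvection hkj b⁆ = transvection hij (a * b) := by
  rw [commutatorElement_def, transvection_inv, transvection_inv]
  apply Subtype.ext
  simp only [coe_mul, transvection_coe]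
  simp only [Matrix.transvection, mul_add, add_mul, mul_one, one_mul, single_mul_single_same,
    single_mul_single_of_ne _ _ _ _ hij, single_mul_single_of_ne _ _ _ _ hij.symm,
    single_mul_single_of_ne _ _ _ _ hik, single_mul_single_of_ne _ _ _ _ hik.symm,
    single_mul_single_of_ne _ _ _ _ hkj, single_mul_single_of_ne _ _ _ _ hkj.symm,
    zero_mul, add_zero, zero_add, mul_neg, neg_mul, mul_one, neg_neg, one_mul, mul_zero]
  rw [single_eq_smul i k a, single_eq_smul k j b, single_eq_smul i j (a * b),
    single_eq_smul i k (-a), single_eq_smul k j (-b), single_eq_smul i j (-(a * b))]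
  module

/-- `SL ι F` is perfect as soon as `ι` has at least three elements (any field). -/
theorem commutator_eq_top_of_three_le_card (h3 : 3 ≤ Fintype.card ι) :
    commutator (SpecialLinearGroup ι F) = ⊤ := by
  have : Nontrivial ι := Fintype.one_lt_card_iff_nontrivial.mp (by omega)
  refine le_antisymm le_top
    (fun A _ ↦ transvection_induction _ (fun i j hij c ↦ ?_) (fun _ _ ↦ mul_mem) A)
  obtain ⟨k, hk⟩ : ∃ k, k ∉ ({i, j} : Finset ι) := by
    by_contra hcon
    have hcon' : ∀ k, k ∈ ({i, j} : Finset ι) := by
      intro k
      by_contra hk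
      exact hcon ⟨k, hk⟩
    have : Fintype.card ι ≤ ({i, j} : Finset ι).card := by
      rw [← Finset.card_univ]
      exact Finset.card_le_card (fun x _ => hcon' x)
    have h2 : ({i, j} : Finset ι).card ≤ 2 := Finset.card_le_two
    omega
  simp only [Finset.mem_insert, Finset.mem_singleton, not_or] at hk
  have hik : i ≠ k := fun h => hk.1 h.symm
  have hkj : k ≠ j := hk.2
  have := commutator_transvection_transvection (F := F) hij hik hkj c 1
  rw [mul_one] at this
  rw [← this]
  exact Subgroup.commutator_mem_commutator (Subgroup.mem_top _) (Subgroup.mem_top _)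

end Cfsg.Agent.Lib.Helper5_SLGen
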