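import Cfsg.Agent.Lib.Helper83_RootSets

/-!
The commutator case for two abstract root subgroups `A`, `B` where `A` has a rank one partner
(Timmesfeld II (2.3)).
-/

set_option autoImplicit false
open Cfsg
open scoped commutatorElement

namespace Cfsg.Agent.Lib.Helper83_CommCase

open Cfsg.Agent.Lib.Helper83_RankOne Cfsg.Agent.Lib.Helper83_RootSets

variable {G : Type*} [Group G]

/-- The commutator case is symmetric. -/
theorem commutatorCase_symm {S : Set (Subgroup G)} {A B : Subgroup G}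
    (h : Cfsg.RootCommutatorCase S A B) : Cfsg.RootCommutatorCase S B A := by
  obtain ⟨h1, h2, h3, h4⟩ := h
  have hcomm : ⁅B, A⁆ = ⁅A, B⁆ := Subgroup.commutator_comm B A
  have hinv : ∀ (x y : G), x * y * x⁻¹ * y⁻¹ = (y * x * y⁻¹ * x⁻¹)⁻¹ := by
    intro x y; group
  refine ⟨by rw [hcomm]; exact h1, ?_, ?_, ?_⟩
  · intro c hc x hx
    rw [hcomm] at hc
    rw [sup_comm] at hx
    exact h2 c hc x hx
  · intro b hb hb1
    rw [hcomm, ← h4 b hb hb1, ← Subgroup.closure_inv]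
    congr 1
    ext x
    simp only [Set.mem_image, Set.mem_inv, SetLike.mem_coe]
    constructor
    · rintro ⟨a, ha, hx⟩
      refine ⟨a, ha, ?_⟩
      rw [← inv_inv x, ← hx]; group
    · rintro ⟨a, ha, rfl⟩
      exact ⟨a, ha, by group⟩
  · intro a ha ha1
    rw [hcomm, ← h3 a ha ha1, ← Subgroup.closure_inv]
    congr 1
    ext x
    simp only [Set.mem_image, Set.mem_inv, SetLike.mem_coe]
    constructor
    · rintro ⟨b, hb, hx⟩
      refine ⟨b, hb, ?_⟩
      rw [← inv_inv x, ← hx]; group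
    · rintro ⟨b, hb, rfl⟩
      exact ⟨b, hb, by group⟩

section

variable {S : Set (Subgroup G)} {A B : Subgroup G}

/-- `⁅A, B⁆` commutes elementwise with `A`. -/
theorem comm_left (h : Cfsg.RootCommutatorCase S A B) {c a : G} (hc : c ∈ ⁅A, B⁆) (ha : a ∈ A) :
    c * a = a * c := h.2.1 c hc a (Subgroup.mem_sup_left ha)

/-- `⁅A, B⁆` commutes elementwise with `B`. -/
theorem comm_right (h : Cfsg.RootCommutatorCase S A B) {c b : G} (hc : c ∈ ⁅A, B⁆) (hb : b ∈ B) :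
    c * b = b * c := h.2.1 c hc b (Subgroup.mem_sup_right hb)

/-- The commutator with a fixed `a ∈ A` is multiplicative on `B`. -/
theorem commutator_mul (h : Cfsg.RootCommutatorCase S A B) {a b b' : G} (ha : a ∈ A) (hb : b ∈ B)
    (hb' : b' ∈ B) : ⁅a, b * b'⁆ = ⁅a, b⁆ * ⁅a, b'⁆ := by
  have hc : ⁅a, b'⁆ ∈ ⁅A, B⁆ := Subgroup.commutator_mem_commutator ha hb'
  have h1 : ⁅a, b * b'⁆ = ⁅a, b⁆ * (b * ⁅a, b'⁆ * b⁻¹) := by
    simp only [commutatorElement_def]; group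
  rw [h1, ← comm_right h hc hb, mul_assoc, mul_inv_cancel, mul_one]

/-- The homomorphism `b ↦ ⁅a, b⁆` from `B` to `⁅A, B⁆`. -/
def commHom (h : Cfsg.RootCommutatorCase S A B) {a : G} (ha : a ∈ A) : B →* (⁅A, B⁆ : Subgroup G) where
  toFun b := ⟨⁅a, (b : G)⁆, Subgroup.commutator_mem_commutator ha b.2⟩
  map_one' := by
    apply Subtype.ext
    simp [commutatorElement_def]
  map_mul' b b' := by
    apply Subtype.ext
    simp only [Subgroup.coe_mul]
    exact commutator_mul h ha b.2 b'.2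

@[simp]
theorem commHom_apply (h : Cfsg.RootCommutatorCase S A B) {a : G} (ha : a ∈ A) (b : B) :
    ((commHom h ha b : (⁅A, B⁆ : Subgroup G)) : G) = ⁅a, (b : G)⁆ := rfl

theorem commHom_surjective (h : Cfsg.RootCommutatorCase S A B) {a : G} (ha : a ∈ A) (ha1 : a ≠ 1) :
    Function.Surjective (commHom h ha) := by
  have h3 := h.2.2.1 a ha ha1
  -- the range, mapped to G, contains the generating set
  have hle : Subgroup.closure ((fun b => a * b * a⁻¹ * b⁻¹) '' (B : Set G)) ≤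
      ((commHom h ha).range).map (⁅A, B⁆ : Subgroup G).subtype := by
    rw [Subgroup.closure_le]
    rintro x ⟨b, hb, rfl⟩
    refine ⟨commHom h ha ⟨b, hb⟩, ⟨⟨b, hb⟩, rfl⟩, ?_⟩
    simp [commutatorElement_def]
  intro c
  have hc : (c : G) ∈ Subgroup.closure ((fun b => a * b * a⁻¹ * b⁻¹) '' (B : Set G)) := by
    rw [h3]; exact c.2
  obtain ⟨y, ⟨b, rfl⟩, hy⟩ := hle hc
  exact ⟨b, Subtype.ext hy⟩

theorem exists_commutator_eq (h : Cfsg.RootCommutatorCase S A B) {a : G} (ha : a ∈ A) (ha1 : a ≠ 1)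
    {c : G} (hc : c ∈ ⁅A, B⁆) : ∃ b ∈ B, ⁅a, b⁆ = c := by
  obtain ⟨b, hb⟩ := commHom_surjective h ha ha1 ⟨c, hc⟩
  exact ⟨b, b.2, congrArg Subtype.val hb⟩

end

section partner

variable {S : Set (Subgroup G)} {A B D : Subgroup G}

theorem ne_commutator (hS : Cfsg.IsRootSubgroupSet S) (h : Cfsg.RootCommutatorCase S A B) :
    A ≠ ⁅A, B⁆ := by
  intro hAC
  apply hS.ne_bot _ h.1
  rw [commutator_eq_bot_iff_commute]
  intro a ha b hb
  rw [hAC] at ha
  exact comm_right h ha hb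

theorem inf_commutator_eq_bot (hS : Cfsg.IsRootSubgroupSet S) (hD : D ∈ S)
    (hAD : Cfsg.IsRankOnePair A D) (h : Cfsg.RootCommutatorCase S A B) : A ⊓ ⁅A, B⁆ = ⊥ := by
  rcases inf_eq_bot_or_eq hS hD hAD _ h.1 with h1 | h1
  · exact h1
  · exact absurd h1 (ne_commutator hS h)

theorem conjBy_ne_of_ne_one (hS : Cfsg.IsRootSubgroupSet S) (hD : D ∈ S)
    (hAD : Cfsg.IsRankOnePair A D) (h : Cfsg.RootCommutatorCase S A B) {b : G} (hb : b ∈ B)
    (hb1 : b ≠ 1) : Cfsg.conjBy A b ≠ A := by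
  intro hconj
  apply hS.ne_bot _ h.1
  rw [← h.2.2.2 b hb hb1, Subgroup.closure_eq_bot_iff]
  rintro x ⟨a, ha, rfl⟩
  rw [Set.mem_singleton_iff]
  have h1 : a * b * a⁻¹ * b⁻¹ ∈ A := by
    have : b * a⁻¹ * b⁻¹ ∈ Cfsg.conjBy A b := conj_mem_conjBy (inv_mem ha) b
    rw [hconj] at this
    have h2 := mul_mem ha this
    have e : a * (b * a⁻¹ * b⁻¹) = a * b * a⁻¹ * b⁻¹ := by group
    rwa [e] at h2
  have h2 : a * b * a⁻¹ * b⁻¹ ∈ ⁅A, B⁆ := Subgroup.commutator_mem_commutator ha hb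
  have : a * b * a⁻¹ * b⁻¹ ∈ A ⊓ ⁅A, B⁆ := Subgroup.mem_inf.mpr ⟨h1, h2⟩
  rwa [inf_commutator_eq_bot hS hD hAD h, Subgroup.mem_bot] at this

/-- A non-identity element of `A` commutes with no non-identity element of `B`. -/
theorem eq_one_of_commute (hS : Cfsg.IsRootSubgroupSet S) (hA : A ∈ S) (hD : D ∈ S)
    (hAD : Cfsg.IsRankOnePair A D) (h : Cfsg.RootCommutatorCase S A B) {a b : G} (ha : a ∈ A)
    (ha1 : a ≠ 1) (hb : b ∈ B) (hab : a * b = b * a) : b = 1 := by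
  by_contra hb1
  have hne := conjBy_ne_of_ne_one hS hD hAD h hb hb1
  have hmem : a ∈ Cfsg.conjBy A b := by
    have := conj_mem_conjBy ha b
    rwa [← hab, mul_assoc, mul_inv_cancel, mul_one] at this
  rcases inf_eq_bot_or_eq hS hD hAD _ (hS.conj_mem A hA b) with h1 | h1
  · have : a ∈ A ⊓ Cfsg.conjBy A b := Subgroup.mem_inf.mpr ⟨ha, hmem⟩
    rw [h1, Subgroup.mem_bot] at this
    exact ha1 this
  · exact hne h1.symm

theorem commHom_injective (hS : Cfsg.IsRootSubgroupSet S) (hA : A ∈ S) (hD : D ∈ S)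
    (hAD : Cfsg.IsRankOnePair A D) (h : Cfsg.RootCommutatorCase S A B) {a : G} (ha : a ∈ A)
    (ha1 : a ≠ 1) : Function.Injective (commHom h ha) := by
  rw [injective_iff_map_eq_one]
  intro b hb
  have h1 : ⁅a, (b : G)⁆ = 1 := by
    have := congrArg Subtype.val hb
    simpa using this
  rw [commutatorElement_eq_one_iff_mul_comm] at h1
  have := eq_one_of_commute hS hA hD hAD h ha ha1 b.2 h1
  exact Subtype.ext this

/-- Every element of `A ⊔ ⁅A, B⁆` is a product. -/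
theorem exists_mul_of_mem_sup (h : Cfsg.RootCommutatorCase S A B) {x : G} (hx : x ∈ A ⊔ ⁅A, B⁆) :
    ∃ a ∈ A, ∃ c ∈ ⁅A, B⁆, x = a * c := by
  induction hx using sup_induction with
  | left a ha => exact ⟨a, ha, 1, one_mem _, (mul_one a).symm⟩
  | right c hc => exact ⟨1, one_mem _, c, hc, (one_mul c).symm⟩
  | one => exact ⟨1, one_mem _, 1, one_mem _, (mul_one 1).symm⟩
  | mul y z _ _ ihy ihz =>
    obtain ⟨a, ha, c, hc, rfl⟩ := ihy
    obtain ⟨a', ha', c', hc', rfl⟩ := ihz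
    refine ⟨a * a', mul_mem ha ha', c * c', mul_mem hc hc', ?_⟩
    rw [mul_assoc, ← mul_assoc c, comm_left h hc ha', mul_assoc, ← mul_assoc]

/-- For `a ≠ 1` every element `a * c` with `c ∈ ⁅A, B⁆` lies in a conjugate of `A` by an element of
`B`. -/
theorem exists_mem_conjBy (h : Cfsg.RootCommutatorCase S A B) {a c : G} (ha : a ∈ A) (ha1 : a ≠ 1)
    (hc : c ∈ ⁅A, B⁆) : ∃ b ∈ B, a * c ∈ Cfsg.conjBy A b := by
  obtain ⟨b, hb, hbc⟩ := exists_commutator_eq h ha ha1 (inv_mem hc)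
  refine ⟨b, hb, ?_⟩
  have h1 : b * a * b⁻¹ ∈ Cfsg.conjBy A b := conj_mem_conjBy ha b
  have e : b * a * b⁻¹ = a * c := by
    have h2 : ⁅a, b⁆⁻¹ = c := by rw [hbc, inv_inv]
    rw [← comm_left h hc ha, ← h2, commutatorElement_def]; group
  rwa [e] at h1

/-- Conjugates of `A` by elements of `B` lie in `A ⊔ ⁅A, B⁆`. -/
theorem conjBy_le_sup {b : G} (hb : b ∈ B) : Cfsg.conjBy A b ≤ A ⊔ ⁅A, B⁆ := by
  intro x hx
  rw [mem_conjBy_iff] at hx
  have h1 : ⁅b⁻¹ * x * b, b⁆ ∈ ⁅A, B⁆ := Subgroup.commutator_mem_commutator hx hb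
  have e : x = ⁅b⁻¹ * x * b, b⁆⁻¹ * (b⁻¹ * x * b) := by
    rw [commutatorElement_def]; group
  rw [e]
  exact mul_mem (Subgroup.mem_sup_right (inv_mem h1)) (Subgroup.mem_sup_left hx)

end partner

end Cfsg.Agent.Lib.Helper83_CommCase
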