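import Cfsg.Prelude.Def_RootSubgroups

/-!
Basic theory of rank one pairs (Timmesfeld, Abstract root subgroups, chapter I section 1),
written for the definitions of `Def_RootSubgroups`.  Conjugation is `conjBy A g = g A g⁻¹`.
-/

set_option autoImplicit false
open Cfsg
open scoped commutatorElement

namespace Cfsg.Agent.Lib.Helper83_RankOne

variable {G : Type*} [Group G]

/-! ### Calculus of `conjBy` -/

theorem mem_conjBy_iff (A : Subgroup G) (g x : G) : x ∈ Cfsg.conjBy A g ↔ g⁻¹ * x * g ∈ A := by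
  unfold Cfsg.conjBy
  rw [Subgroup.mem_map]
  constructor
  · rintro ⟨y, hy, rfl⟩
    simpa [MulAut.conj_apply, mul_assoc] using hy
  · intro h
    exact ⟨g⁻¹ * x * g, h, by simp [MulAut.conj_apply, mul_assoc]⟩

theorem conj_mem_conjBy {A : Subgroup G} {a : G} (ha : a ∈ A) (g : G) :
    g * a * g⁻¹ ∈ Cfsg.conjBy A g := by
  rw [mem_conjBy_iff]
  simpa [mul_assoc] using ha

theorem conjBy_self_mem {A : Subgroup G} {g : G} (hg : g ∈ A) : Cfsg.conjBy A g = A := by
  ext x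
  rw [mem_conjBy_iff]
  constructor
  · intro h
    have := A.mul_mem (A.mul_mem hg h) (A.inv_mem hg)
    simpa [mul_assoc] using this
  · intro h
    exact A.mul_mem (A.mul_mem (A.inv_mem hg) h) hg

theorem conjBy_mul (A : Subgroup G) (g h : G) :
    Cfsg.conjBy (Cfsg.conjBy A h) g = Cfsg.conjBy A (g * h) := by
  ext x
  simp only [mem_conjBy_iff]
  simp [mul_assoc]

theorem conjBy_one (A : Subgroup G) : Cfsg.conjBy A 1 = A := by
  ext x
  simp

theorem conjBy_inv_conjBy (A : Subgroup G) (g : G) : Cfsg.conjBy (Cfsg.conjBy A g) g⁻¹ = A := by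
  rw [conjBy_mul, inv_mul_cancel, conjBy_one]

theorem conjBy_conjBy_inv (A : Subgroup G) (g : G) : Cfsg.conjBy (Cfsg.conjBy A g⁻¹) g = A := by
  rw [conjBy_mul, mul_inv_cancel, conjBy_one]

theorem conjBy_injective {A B : Subgroup G} {g : G} (h : Cfsg.conjBy A g = Cfsg.conjBy B g) :
    A = B := by
  have := congrArg (fun C => Cfsg.conjBy C g⁻¹) h
  simpa [conjBy_inv_conjBy] using this

theorem conjBy_eq_iff {A B : Subgroup G} {g : G} : Cfsg.conjBy A g = B ↔ A = Cfsg.conjBy B g⁻¹ := by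
  constructor
  · rintro rfl
    rw [conjBy_inv_conjBy]
  · rintro rfl
    rw [conjBy_conjBy_inv]

theorem conjBy_mono {A B : Subgroup G} (h : A ≤ B) (g : G) : Cfsg.conjBy A g ≤ Cfsg.conjBy B g :=
  Subgroup.map_mono h

theorem conjBy_le_of_mem {A H : Subgroup G} (h : A ≤ H) {g : G} (hg : g ∈ H) :
    Cfsg.conjBy A g ≤ H := by
  intro x hx
  rw [mem_conjBy_iff] at hx
  have h1 := H.mul_mem (H.mul_mem hg (h hx)) (H.inv_mem hg)
  simpa [mul_assoc] using h1

theorem conjBy_sup (A B : Subgroup G) (g : G) :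
    Cfsg.conjBy (A ⊔ B) g = Cfsg.conjBy A g ⊔ Cfsg.conjBy B g :=
  Subgroup.map_sup A B _

theorem conjBy_bot (g : G) : Cfsg.conjBy (⊥ : Subgroup G) g = ⊥ :=
  Subgroup.map_bot _

theorem conjBy_eq_bot_iff {A : Subgroup G} {g : G} : Cfsg.conjBy A g = ⊥ ↔ A = ⊥ := by
  constructor
  · intro h
    rw [conjBy_eq_iff, conjBy_bot] at h
    exact h
  · rintro rfl
    exact conjBy_bot g

theorem conjBy_inf (A B : Subgroup G) (g : G) :
    Cfsg.conjBy (A ⊓ B) g = Cfsg.conjBy A g ⊓ Cfsg.conjBy B g := by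
  ext x
  simp only [mem_conjBy_iff, Subgroup.mem_inf]

theorem conjBy_of_mem_normalizer {B : Subgroup G} {g : G}
    (hg : g ∈ Subgroup.normalizer (B : Set G)) : Cfsg.conjBy B g = B := by
  ext x
  rw [mem_conjBy_iff]
  exact ((Subgroup.mem_normalizer_iff''.mp hg) x).symm

theorem mem_normalizer_of_conjBy_eq {B : Subgroup G} {g : G} (h : Cfsg.conjBy B g = B) :
    g ∈ Subgroup.normalizer (B : Set G) := by
  rw [Subgroup.mem_normalizer_iff'']
  intro x
  have : x ∈ Cfsg.conjBy B g ↔ x ∈ B := by rw [h]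
  rw [mem_conjBy_iff] at this
  exact this.symm

theorem conjBy_eq_self_iff {B : Subgroup G} {g : G} :
    Cfsg.conjBy B g = B ↔ g ∈ Subgroup.normalizer (B : Set G) :=
  ⟨mem_normalizer_of_conjBy_eq, conjBy_of_mem_normalizer⟩

/-- The normalizer of a conjugate. -/
theorem mem_normalizer_conjBy_iff {B : Subgroup G} {g x : G} :
    x ∈ Subgroup.normalizer ((Cfsg.conjBy B g : Subgroup G) : Set G) ↔
      g⁻¹ * x * g ∈ Subgroup.normalizer (B : Set G) := by
  rw [← conjBy_eq_self_iff, ← conjBy_eq_self_iff, conjBy_mul]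
  constructor
  · intro h
    have h2 := congrArg (fun C => Cfsg.conjBy C g⁻¹) h
    simp only [conjBy_mul] at h2
    rw [inv_mul_cancel, conjBy_one, ← mul_assoc] at h2
    exact h2
  · intro h
    have h2 := congrArg (fun C => Cfsg.conjBy C g) h
    simp only [conjBy_mul] at h2
    have e : g * (g⁻¹ * x * g) = x * g := by group
    rw [e] at h2
    exact h2

theorem normalizer_conjBy (B : Subgroup G) (g : G) :
    Subgroup.normalizer ((Cfsg.conjBy B g : Subgroup G) : Set G) =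
      Cfsg.conjBy (Subgroup.normalizer (B : Set G)) g := by
  ext x
  rw [mem_normalizer_conjBy_iff, mem_conjBy_iff]

theorem conjBy_central {A : Subgroup G} {c : G} (hc : ∀ x : G, c * x = x * c) :
    Cfsg.conjBy A c = A := by
  ext x
  rw [mem_conjBy_iff]
  have : c⁻¹ * x * c = x := by
    rw [mul_assoc, ← hc x, ← mul_assoc, inv_mul_cancel, one_mul]
  rw [this]

/-- Induction over the join of two subgroups. -/
@[elab_as_elim]
theorem sup_induction {A B : Subgroup G} {p : (x : G) → x ∈ A ⊔ B → Prop}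
    (left : ∀ a (ha : a ∈ A), p a (Subgroup.mem_sup_left ha))
    (right : ∀ b (hb : b ∈ B), p b (Subgroup.mem_sup_right hb))
    (one : p 1 (one_mem _)) (mul : ∀ x y hx hy, p x hx → p y hy → p (x * y) (mul_mem hx hy))
    {x : G} (hx : x ∈ A ⊔ B) : p x hx := by
  have key : ∀ y (hy : y ∈ Subgroup.closure ((A : Set G) ∪ B)),
      ∃ h : y ∈ A ⊔ B, p y h := by
    intro y hy
    induction hy using Subgroup.closure_induction'' with
    | mem y hy =>
      rcases hy with hy | hy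
      · exact ⟨_, left y hy⟩
      · exact ⟨_, right y hy⟩
    | inv_mem y hy =>
      rcases hy with hy | hy
      · exact ⟨_, left _ (inv_mem hy)⟩
      · exact ⟨_, right _ (inv_mem hy)⟩
    | one => exact ⟨_, one⟩
    | mul y z _ _ ihy ihz =>
      obtain ⟨h1, h2⟩ := ihy
      obtain ⟨h3, h4⟩ := ihz
      exact ⟨_, mul y z h1 h3 h2 h4⟩
  have hx' : x ∈ Subgroup.closure ((A : Set G) ∪ B) := by
    rw [← Subgroup.sup_eq_closure]; exact hx
  obtain ⟨_, h2⟩ := key x hx'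
  exact h2

/-! ### Rank one pairs: first consequences -/

theorem rankOneCondition_conj {A B : Subgroup G} (h : Cfsg.RankOneCondition A B) (g : G) :
    Cfsg.RankOneCondition (Cfsg.conjBy A g) (Cfsg.conjBy B g) := by
  intro a ha ha1
  rw [mem_conjBy_iff] at ha
  have ha1' : g⁻¹ * a * g ≠ 1 := by
    intro h1
    apply ha1
    have : a = g * (g⁻¹ * a * g) * g⁻¹ := by group
    rw [this, h1]; group
  obtain ⟨b, hb, hb1, hconj⟩ := h _ ha ha1'
  refine ⟨g * b * g⁻¹, conj_mem_conjBy hb g, ?_, ?_⟩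
  · intro h1
    apply hb1
    have : b = g⁻¹ * (g * b * g⁻¹) * g := by group
    rw [this, h1]; group
  · rw [conjBy_mul, conjBy_mul]
    have e1 : (g * b * g⁻¹)⁻¹ * g = g * b⁻¹ := by group
    have e2 : a⁻¹ * g = g * (g⁻¹ * a * g)⁻¹ := by group
    rw [e1, e2, ← conjBy_mul, ← conjBy_mul, hconj]

theorem isNilpotent_conjBy {A : Subgroup G} (h : Group.IsNilpotent A) (g : G) :
    Group.IsNilpotent (Cfsg.conjBy A g) := by
  have := h
  have e : A ≃* (Cfsg.conjBy A g) := A.equivMapOfInjective _ (MulAut.conj g).injective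
  exact Group.nilpotent_of_mulEquiv e

theorem isRankOnePair_conj {A B : Subgroup G} (h : Cfsg.IsRankOnePair A B) (g : G) :
    Cfsg.IsRankOnePair (Cfsg.conjBy A g) (Cfsg.conjBy B g) where
  ne := fun hAB => h.ne (conjBy_injective hAB)
  nilpotent_left := isNilpotent_conjBy h.nilpotent_left g
  nilpotent_right := isNilpotent_conjBy h.nilpotent_right g
  cond_left := rankOneCondition_conj h.cond_left g
  cond_right := rankOneCondition_conj h.cond_right g

/-- No non-identity element of `A` normalizes `B`. -/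
theorem inf_normalizer_eq_bot' {A B : Subgroup G} (hne : A ≠ B) (hc : Cfsg.RankOneCondition A B) :
    A ⊓ Subgroup.normalizer (B : Set G) = ⊥ := by
  rw [eq_bot_iff]
  intro a ha
  rw [Subgroup.mem_inf] at ha
  obtain ⟨haA, haN⟩ := ha
  rw [Subgroup.mem_bot]
  by_contra ha1
  obtain ⟨b, hbB, hb1, hconj⟩ := hc a haA ha1
  apply hne
  have h1 : Cfsg.conjBy B a⁻¹ = B := conjBy_of_mem_normalizer (inv_mem haN)
  rw [h1] at hconj
  have h2 : Cfsg.conjBy (Cfsg.conjBy A b⁻¹) b = Cfsg.conjBy B b := by rw [hconj]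
  rw [conjBy_conjBy_inv, conjBy_self_mem hbB] at h2
  exact h2

theorem inf_normalizer_eq_bot {A B : Subgroup G} (h : Cfsg.IsRankOnePair A B) :
    A ⊓ Subgroup.normalizer (B : Set G) = ⊥ :=
  inf_normalizer_eq_bot' h.ne h.cond_left

theorem eq_one_of_mem_of_mem_normalizer {A B : Subgroup G} (h : Cfsg.IsRankOnePair A B) {a : G}
    (ha : a ∈ A) (haN : a ∈ Subgroup.normalizer (B : Set G)) : a = 1 := by
  have : a ∈ A ⊓ Subgroup.normalizer (B : Set G) := Subgroup.mem_inf.mpr ⟨ha, haN⟩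
  rwa [inf_normalizer_eq_bot h, Subgroup.mem_bot] at this

theorem exists_ne_one_left {A B : Subgroup G} (h : Cfsg.IsRankOnePair A B) : ∃ a ∈ A, a ≠ 1 := by
  by_contra hA
  push Not at hA
  have hB : ∃ b ∈ B, b ≠ 1 := by
    by_contra hB
    push Not at hB
    apply h.ne
    ext x
    constructor
    · intro hx; rw [hA x hx]; exact B.one_mem
    · intro hx; rw [hB x hx]; exact A.one_mem
  obtain ⟨b, hb, hb1⟩ := hB
  obtain ⟨a, ha, ha1, -⟩ := h.cond_right b hb hb1
  exact ha1 (hA a ha)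

theorem exists_ne_one_right {A B : Subgroup G} (h : Cfsg.IsRankOnePair A B) : ∃ b ∈ B, b ≠ 1 :=
  exists_ne_one_left (Cfsg.RankOnePair_symm h)

theorem left_ne_bot {A B : Subgroup G} (h : Cfsg.IsRankOnePair A B) : A ≠ ⊥ := by
  obtain ⟨a, ha, ha1⟩ := exists_ne_one_left h
  intro hA
  rw [hA, Subgroup.mem_bot] at ha
  exact ha1 ha

theorem right_ne_bot {A B : Subgroup G} (h : Cfsg.IsRankOnePair A B) : B ≠ ⊥ :=
  left_ne_bot (Cfsg.RankOnePair_symm h)

/-- The elements of `A` do not all normalize `B`; in particular they do not all commute with `B`. -/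
theorem not_le_normalizer {A B : Subgroup G} (h : Cfsg.IsRankOnePair A B) :
    ¬ A ≤ Subgroup.normalizer (B : Set G) := by
  intro hle
  obtain ⟨a, ha, ha1⟩ := exists_ne_one_left h
  exact ha1 (eq_one_of_mem_of_mem_normalizer h ha (hle ha))

theorem not_commute {A B : Subgroup G} (h : Cfsg.IsRankOnePair A B) :
    ¬ ∀ a ∈ A, ∀ b ∈ B, a * b = b * a := by
  intro hcomm
  apply not_le_normalizer h
  intro a ha
  rw [Subgroup.mem_normalizer_iff]
  intro b
  constructor
  · intro hb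
    rw [hcomm a ha b hb, mul_assoc, mul_inv_cancel, mul_one]; exact hb
  · intro hb
    have h2 := hcomm a ha _ hb
    have : b = a * b * a⁻¹ := by
      have h3 : a⁻¹ * (a * (a * b * a⁻¹)) = a⁻¹ * (a * b * a⁻¹ * a) := by rw [h2]
      have l : a⁻¹ * (a * (a * b * a⁻¹)) = a * b * a⁻¹ := by group
      have r : a⁻¹ * (a * b * a⁻¹ * a) = b := by group
      rw [l, r] at h3
      exact h3.symm
    rw [this]; exact hb

theorem commutator_ne_bot {A B : Subgroup G} (h : Cfsg.IsRankOnePair A B) : ⁅A, B⁆ ≠ ⊥ := by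
  intro hc
  apply not_commute h
  intro a ha b hb
  have : ⁅a, b⁆ ∈ ⁅A, B⁆ := Subgroup.commutator_mem_commutator ha hb
  rw [hc, Subgroup.mem_bot, commutatorElement_eq_one_iff_mul_comm] at this
  exact this

/-! ### The set of unipotent subgroups -/

theorem self_mem_unipotentSubgroups (A B : Subgroup G) : A ∈ Cfsg.unipotentSubgroups A B :=
  ⟨1, one_mem _, (conjBy_one A).symm⟩

theorem conjBy_mem_unipotentSubgroups {A B C : Subgroup G} (hC : C ∈ Cfsg.unipotentSubgroups A B)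
    {x : G} (hx : x ∈ A ⊔ B) : Cfsg.conjBy C x ∈ Cfsg.unipotentSubgroups A B := by
  obtain ⟨y, hy, rfl⟩ := hC
  exact ⟨x * y, mul_mem hx hy, conjBy_mul A x y⟩

theorem le_sup_of_mem_unipotentSubgroups {A B C : Subgroup G}
    (hC : C ∈ Cfsg.unipotentSubgroups A B) : C ≤ A ⊔ B := by
  obtain ⟨y, hy, rfl⟩ := hC
  exact conjBy_le_of_mem le_sup_left hy

/-- `B` is a conjugate of `A` under `⟨A, B⟩`. -/
theorem right_mem_unipotentSubgroups {A B : Subgroup G} (h : Cfsg.IsRankOnePair A B) :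
    B ∈ Cfsg.unipotentSubgroups A B := by
  obtain ⟨a, ha, ha1⟩ := exists_ne_one_left h
  obtain ⟨b, hb, hb1, hconj⟩ := h.cond_left a ha ha1
  refine ⟨a * b⁻¹, mul_mem (Subgroup.mem_sup_left ha) (inv_mem (Subgroup.mem_sup_right hb)), ?_⟩
  rw [← conjBy_mul, hconj, conjBy_mul, mul_inv_cancel, conjBy_one]

/-- The key step: every conjugate of `A` under `⟨A, B⟩` is `A` or a conjugate of `B` by an element
of `A`. -/
theorem conjBy_left_mem_or {A B : Subgroup G} (h : Cfsg.IsRankOnePair A B) {x : G} (hx : x ∈ A ⊔ B) :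
    ∀ C : Subgroup G, (C = A ∨ ∃ a ∈ A, C = Cfsg.conjBy B a) →
      (Cfsg.conjBy C x = A ∨ ∃ a ∈ A, Cfsg.conjBy C x = Cfsg.conjBy B a) := by
  -- conjugates of A by elements of B
  have key1 : ∀ b ∈ B, Cfsg.conjBy A b = A ∨ ∃ a ∈ A, Cfsg.conjBy A b = Cfsg.conjBy B a := by
    intro b hb
    by_cases hb1 : b = 1
    · left; rw [hb1, conjBy_one]
    · right
      have hb1' : b⁻¹ ≠ 1 := by simpa using hb1
      obtain ⟨a, ha, _, hconj⟩ := h.cond_right b⁻¹ (inv_mem hb) hb1'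
      rw [inv_inv] at hconj
      exact ⟨a⁻¹, inv_mem ha, hconj.symm⟩
  induction hx using sup_induction with
  | left y hy =>
    intro C hC
    rcases hC with rfl | ⟨a, ha, rfl⟩
    · left; exact conjBy_self_mem hy
    · right; exact ⟨y * a, mul_mem hy ha, conjBy_mul B y a⟩
  | right y hy =>
    intro C hC
    rcases hC with rfl | ⟨a, ha, rfl⟩
    · exact key1 y hy
    · by_cases ha1 : a = 1
      · right
        refine ⟨1, one_mem _, ?_⟩
        rw [ha1, conjBy_one, conjBy_self_mem hy]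
      · have ha1' : a⁻¹ ≠ 1 := by simpa using ha1
        obtain ⟨b, hb, _, hconj⟩ := h.cond_left a⁻¹ (inv_mem ha) ha1'
        rw [inv_inv] at hconj
        rw [← hconj, conjBy_mul]
        exact key1 _ (mul_mem hy (inv_mem hb))
  | one =>
    intro C hC
    rw [conjBy_one]; exact hC
  | mul y z _ _ ihy ihz =>
    intro C hC
    rw [← conjBy_mul]
    exact ihy _ (ihz C hC)

/-- The conjugates of `A` under `⟨A, B⟩` are `A` and the conjugates of `B` by elements of `A`. -/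
theorem mem_unipotentSubgroups_iff {A B : Subgroup G} (h : Cfsg.IsRankOnePair A B) {C : Subgroup G} :
    C ∈ Cfsg.unipotentSubgroups A B ↔ (C = A ∨ ∃ a ∈ A, C = Cfsg.conjBy B a) := by
  constructor
  · rintro ⟨x, hx, rfl⟩
    exact conjBy_left_mem_or h hx A (Or.inl rfl)
  · rintro (rfl | ⟨a, ha, rfl⟩)
    · exact self_mem_unipotentSubgroups _ B
    · exact conjBy_mem_unipotentSubgroups (right_mem_unipotentSubgroups h) (Subgroup.mem_sup_left ha)

/-- A member of `Ω` other than `A` is normalized by no non-identity element of `A`. -/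
theorem inf_normalizer_eq_bot_of_mem {A B : Subgroup G} (h : Cfsg.IsRankOnePair A B) {C : Subgroup G}
    (hC : C ∈ Cfsg.unipotentSubgroups A B) (hCA : C ≠ A) :
    A ⊓ Subgroup.normalizer (C : Set G) = ⊥ := by
  rcases (mem_unipotentSubgroups_iff h).mp hC with rfl | ⟨a, ha, rfl⟩
  · exact absurd rfl hCA
  · rw [eq_bot_iff]
    intro x hx
    rw [Subgroup.mem_inf] at hx
    obtain ⟨hxA, hxN⟩ := hx
    rw [mem_normalizer_conjBy_iff] at hxN
    have hx' : a⁻¹ * x * a ∈ A := mul_mem (mul_mem (inv_mem ha) hxA) ha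
    have := eq_one_of_mem_of_mem_normalizer h hx' hxN
    rw [Subgroup.mem_bot]
    have e : x = a * (a⁻¹ * x * a) * a⁻¹ := by group
    rw [e, this]; group

/-- `A` acts regularly on the members of `Ω` other than `A`. -/
theorem existsUnique_conjBy {A B : Subgroup G} (h : Cfsg.IsRankOnePair A B) {C D : Subgroup G}
    (hC : C ∈ Cfsg.unipotentSubgroups A B) (hD : D ∈ Cfsg.unipotentSubgroups A B)
    (hCA : C ≠ A) (hDA : D ≠ A) : ∃! a : G, a ∈ A ∧ Cfsg.conjBy C a = D := by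
  have hC' := (mem_unipotentSubgroups_iff h).mp hC
  have hD' := (mem_unipotentSubgroups_iff h).mp hD
  rcases hC' with rfl | ⟨a₁, ha₁, rfl⟩
  · exact absurd rfl hCA
  rcases hD' with rfl | ⟨a₂, ha₂, rfl⟩
  · exact absurd rfl hDA
  refine ⟨a₂ * a₁⁻¹, ⟨mul_mem ha₂ (inv_mem ha₁), ?_⟩, ?_⟩
  · rw [conjBy_mul]; congr 1; group
  · rintro a' ⟨ha', hconj⟩
    have h1 : Cfsg.conjBy (Cfsg.conjBy B a₁) ((a₂ * a₁⁻¹)⁻¹ * a') = Cfsg.conjBy B a₁ := by
      rw [← conjBy_mul, hconj, conjBy_mul]; congr 1; group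
    have h2 : (a₂ * a₁⁻¹)⁻¹ * a' ∈ A ⊓ Subgroup.normalizer ((Cfsg.conjBy B a₁ : Subgroup G) : Set G) :=
      Subgroup.mem_inf.mpr
        ⟨mul_mem (inv_mem (mul_mem ha₂ (inv_mem ha₁))) ha', mem_normalizer_of_conjBy_eq h1⟩
    rw [inf_normalizer_eq_bot_of_mem h hC hCA, Subgroup.mem_bot] at h2
    exact (inv_mul_eq_one.mp h2).symm

/-- `⟨A, B⟩` acts doubly transitively on `Ω`. -/
theorem two_transitive {A B : Subgroup G} (h : Cfsg.IsRankOnePair A B) {C₁ C₂ D₁ D₂ : Subgroup G}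
    (hC₁ : C₁ ∈ Cfsg.unipotentSubgroups A B) (hC₂ : C₂ ∈ Cfsg.unipotentSubgroups A B)
    (hD₁ : D₁ ∈ Cfsg.unipotentSubgroups A B) (hD₂ : D₂ ∈ Cfsg.unipotentSubgroups A B)
    (hC : C₁ ≠ C₂) (hD : D₁ ≠ D₂) :
    ∃ x ∈ A ⊔ B, Cfsg.conjBy C₁ x = D₁ ∧ Cfsg.conjBy C₂ x = D₂ := by
  obtain ⟨x₁, hx₁, rfl⟩ := hC₁
  obtain ⟨y₁, hy₁, rfl⟩ := hD₁
  have hC₂' : Cfsg.conjBy C₂ x₁⁻¹ ∈ Cfsg.unipotentSubgroups A B :=
    conjBy_mem_unipotentSubgroups hC₂ (inv_mem hx₁)
  have hD₂' : Cfsg.conjBy D₂ y₁⁻¹ ∈ Cfsg.unipotentSubgroups A B :=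
    conjBy_mem_unipotentSubgroups hD₂ (inv_mem hy₁)
  have hC₂A : Cfsg.conjBy C₂ x₁⁻¹ ≠ A := by
    intro h1
    apply hC
    rw [conjBy_eq_iff, inv_inv] at h1
    exact h1.symm
  have hD₂A : Cfsg.conjBy D₂ y₁⁻¹ ≠ A := by
    intro h1
    apply hD
    rw [conjBy_eq_iff, inv_inv] at h1
    exact h1.symm
  obtain ⟨a, ⟨ha, hconj⟩, -⟩ := existsUnique_conjBy h hC₂' hD₂' hC₂A hD₂A
  refine ⟨y₁ * a * x₁⁻¹, mul_mem (mul_mem hy₁ (Subgroup.mem_sup_left ha)) (inv_mem hx₁), ?_, ?_⟩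
  · rw [conjBy_mul]
    have e : y₁ * a * x₁⁻¹ * x₁ = y₁ * a := by group
    rw [e, ← conjBy_mul, conjBy_self_mem ha]
  · rw [← conjBy_mul, ← conjBy_mul, hconj, conjBy_mul, mul_inv_cancel, conjBy_one]

/-- `Ω` has at least three members. -/
theorem exists_three {A B : Subgroup G} (h : Cfsg.IsRankOnePair A B) :
    ∃ C₁ ∈ Cfsg.unipotentSubgroups A B, ∃ C₂ ∈ Cfsg.unipotentSubgroups A B,
      ∃ C₃ ∈ Cfsg.unipotentSubgroups A B, C₁ ≠ C₂ ∧ C₁ ≠ C₃ ∧ C₂ ≠ C₃ := by
  obtain ⟨a, ha, ha1⟩ := exists_ne_one_left h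
  have hB := right_mem_unipotentSubgroups h
  refine ⟨A, self_mem_unipotentSubgroups A B, B, hB, Cfsg.conjBy B a,
    conjBy_mem_unipotentSubgroups hB (Subgroup.mem_sup_left ha), h.ne, ?_, ?_⟩
  · intro h1
    apply h.ne
    have h2 : Cfsg.conjBy A a⁻¹ = B := by rw [h1, conjBy_inv_conjBy]
    rw [conjBy_self_mem (inv_mem ha)] at h2
    exact h2
  · intro h1
    exact ha1 (eq_one_of_mem_of_mem_normalizer h ha (mem_normalizer_of_conjBy_eq h1.symm))

/-- The conjugates of `A` and of `B` under `⟨A, B⟩` are the same subgroups. -/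
theorem unipotentSubgroups_comm {A B : Subgroup G} (h : Cfsg.IsRankOnePair A B) :
    Cfsg.unipotentSubgroups A B = Cfsg.unipotentSubgroups B A := by
  have key : ∀ {A B : Subgroup G}, Cfsg.IsRankOnePair A B →
      Cfsg.unipotentSubgroups A B ⊆ Cfsg.unipotentSubgroups B A := by
    intro A B h C hC
    obtain ⟨x, hx, rfl⟩ := hC
    obtain ⟨y, hy, hy'⟩ := right_mem_unipotentSubgroups (Cfsg.RankOnePair_symm h)
    rw [sup_comm] at hx
    refine ⟨x * y, mul_mem hx hy, ?_⟩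
    rw [← conjBy_mul, ← hy']
  exact Set.Subset.antisymm (key h) (key (Cfsg.RankOnePair_symm h))

/-- Any two different members of `Ω` form a rank one pair generating the same group. -/
theorem isRankOnePair_of_mem {A B : Subgroup G} (h : Cfsg.IsRankOnePair A B) {C D : Subgroup G}
    (hC : C ∈ Cfsg.unipotentSubgroups A B) (hD : D ∈ Cfsg.unipotentSubgroups A B) (hCD : C ≠ D) :
    Cfsg.IsRankOnePair C D ∧ C ⊔ D = A ⊔ B := by
  obtain ⟨x, hx, h1, h2⟩ := two_transitive h (self_mem_unipotentSubgroups A B)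
    (right_mem_unipotentSubgroups h) hC hD h.ne hCD
  refine ⟨?_, ?_⟩
  · rw [← h1, ← h2]
    exact isRankOnePair_conj h x
  · rw [← h1, ← h2, ← conjBy_sup]
    exact conjBy_self_mem hx

theorem unipotentSubgroups_eq_of_mem {A B : Subgroup G} (h : Cfsg.IsRankOnePair A B) {C D : Subgroup G}
    (hC : C ∈ Cfsg.unipotentSubgroups A B) (hD : D ∈ Cfsg.unipotentSubgroups A B) (hCD : C ≠ D) :
    Cfsg.unipotentSubgroups C D = Cfsg.unipotentSubgroups A B := by
  obtain ⟨h1, h2⟩ := isRankOnePair_of_mem h hC hD hCD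
  ext E
  constructor
  · rintro ⟨x, hx, rfl⟩
    rw [h2] at hx
    exact conjBy_mem_unipotentSubgroups hC hx
  · rintro ⟨x, hx, rfl⟩
    obtain ⟨y, hy, rfl⟩ := hC
    rw [← h2] at hx hy
    refine ⟨x * y⁻¹, mul_mem hx (inv_mem hy), ?_⟩
    rw [conjBy_mul]; congr 1; group

/-! ### Normal subgroups of a rank one group -/

/-- A subgroup normalized by `A` and `B` that normalizes `A` and `B` centralizes `⟨A, B⟩`. -/
theorem commute_of_le_normalizers {A B : Subgroup G} (h : Cfsg.IsRankOnePair A B) {N : Subgroup G}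
    (hNA : ∀ a ∈ A, ∀ n ∈ N, a * n * a⁻¹ ∈ N) (hNB : ∀ b ∈ B, ∀ n ∈ N, b * n * b⁻¹ ∈ N)
    (h1 : N ≤ Subgroup.normalizer (A : Set G)) (h2 : N ≤ Subgroup.normalizer (B : Set G)) :
    ∀ n ∈ N, ∀ x ∈ A ⊔ B, n * x = x * n := by
  have key : ∀ {A B : Subgroup G}, Cfsg.IsRankOnePair A B →
      (∀ a ∈ A, ∀ n ∈ N, a * n * a⁻¹ ∈ N) → N ≤ Subgroup.normalizer (A : Set G) →
      N ≤ Subgroup.normalizer (B : Set G) → ∀ n ∈ N, ∀ a ∈ A, n * a = a * n := by
    intro A B h hNA h1 h2 n hn a ha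
    have hc1 : n * a * n⁻¹ * a⁻¹ ∈ A :=
      mul_mem ((Subgroup.mem_normalizer_iff.mp (h1 hn) a).mp ha) (inv_mem ha)
    have hc2 : n * a * n⁻¹ * a⁻¹ ∈ N := by
      have := mul_mem hn (hNA a ha n⁻¹ (inv_mem hn))
      simpa [mul_assoc] using this
    have := eq_one_of_mem_of_mem_normalizer h hc1 (h2 hc2)
    have e : n * a = (n * a * n⁻¹ * a⁻¹) * (a * n) := by group
    rw [e, this, one_mul]
  intro n hn x hx
  induction hx using sup_induction with
  | left a ha => exact key h hNA h1 h2 n hn a ha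
  | right b hb => exact key (Cfsg.RankOnePair_symm h) hNB h2 h1 n hn b hb
  | one => simp
  | mul y z _ _ ihy ihz => rw [← mul_assoc, ihy, mul_assoc, ihz, mul_assoc]

/-- A subgroup of `⟨A, B⟩` normalized by `⟨A, B⟩` either centralizes `⟨A, B⟩` or generates it
together with `A`. -/
theorem commute_or_sup_le {A B : Subgroup G} (h : Cfsg.IsRankOnePair A B) {N : Subgroup G}
    (hNle : N ≤ A ⊔ B) (hN : ∀ x ∈ A ⊔ B, ∀ n ∈ N, x * n * x⁻¹ ∈ N) :
    (∀ n ∈ N, ∀ x ∈ A ⊔ B, n * x = x * n) ∨ A ⊔ B ≤ N ⊔ A := by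
  by_cases hcase : ∃ n ∈ N, Cfsg.conjBy A n ≠ A
  · right
    obtain ⟨n, hn, hne⟩ := hcase
    have hC : Cfsg.conjBy A n ∈ Cfsg.unipotentSubgroups A B := ⟨n, hNle hn, rfl⟩
    obtain ⟨a, ⟨ha, hconj⟩, -⟩ := existsUnique_conjBy h hC (right_mem_unipotentSubgroups h) hne
      h.ne.symm
    rw [conjBy_mul] at hconj
    refine sup_le le_sup_right ?_
    rw [← hconj]
    exact conjBy_le_of_mem le_sup_right
      (mul_mem (Subgroup.mem_sup_right ha) (Subgroup.mem_sup_left hn))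
  · left
    push Not at hcase
    have h1 : N ≤ Subgroup.normalizer (A : Set G) :=
      fun n hn => mem_normalizer_of_conjBy_eq (hcase n hn)
    have h2 : N ≤ Subgroup.normalizer (B : Set G) := by
      intro n hn
      obtain ⟨x, hx, hB⟩ := right_mem_unipotentSubgroups h
      rw [hB, mem_normalizer_conjBy_iff]
      apply h1
      have := hN x⁻¹ (inv_mem hx) n hn
      rwa [inv_inv] at this
    exact commute_of_le_normalizers h
      (fun a ha n hn => hN a (Subgroup.mem_sup_left ha) n hn)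
      (fun b hb n hn => hN b (Subgroup.mem_sup_right hb) n hn) h1 h2

/-- A rank one group is not commutative. -/
theorem exists_not_commute {A B : Subgroup G} (h : Cfsg.IsRankOnePair A B) :
    ∃ a ∈ A, ∃ b ∈ B, a * b ≠ b * a := by
  by_contra hc
  push Not at hc
  exact not_commute h hc

end Cfsg.Agent.Lib.Helper83_RankOne
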