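import Mathlib
import Cfsg.Prelude.Def_RootSubgroups
import Cfsg.Agent.Lib.Helper5_Transv
import Cfsg.Agent.S5016
import Cfsg.Agent.Lib.Helper83_CommCase
import Cfsg.Agent.Lib.Helper5_SLGen

set_option autoImplicit false
set_option linter.unusedSectionVars false
set_option linter.unusedSimpArgs false
set_option linter.unusedVariables false

namespace Cfsg.Agent.Lib.Helper5_RootSL

open Matrix Cfsg.Agent.Lib.Helper5_Transv

variable {k : Type*} [Field k] {ι : Type*} [Fintype ι] [DecidableEq ι]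

/-! ### embeddings of `SL₂` -/

section emb

variable (U : Matrix ι (Fin 2) k) (V : Matrix (Fin 2) ι k)

/-- the matrix `1 + U (m - 1) V` -/
def emb0 (m : Matrix (Fin 2) (Fin 2) k) : Matrix ι ι k := 1 + U * (m - 1) * V

lemma emb0_one : emb0 U V 1 = 1 := by
  unfold emb0
  rw [sub_self, Matrix.mul_zero, Matrix.zero_mul, add_zero]

lemma emb0_mul (hVU : V * U = 1) (m m' : Matrix (Fin 2) (Fin 2) k) :
    emb0 U V (m * m') = emb0 U V m * emb0 U V m' := by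
  unfold emb0
  have h1 : U * (m - 1) * V * (U * (m' - 1) * V) = U * ((m - 1) * (m' - 1)) * V := by
    calc U * (m - 1) * V * (U * (m' - 1) * V)
        = U * (m - 1) * (V * U) * (m' - 1) * V := by simp only [Matrix.mul_assoc]
      _ = U * ((m - 1) * (m' - 1)) * V := by
        rw [hVU, Matrix.mul_one]
        simp only [Matrix.mul_assoc]
  have h2 : m * m' - 1 = (m - 1) + (m' - 1) + (m - 1) * (m' - 1) := by noncomm_ring
  have h3 : (1 + U * (m - 1) * V) * (1 + U * (m' - 1) * V)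
      = 1 + U * (m - 1) * V + U * (m' - 1) * V + U * (m - 1) * V * (U * (m' - 1) * V) := by
    noncomm_ring
  rw [h3, h1, h2, Matrix.mul_add, Matrix.mul_add, Matrix.add_mul, Matrix.add_mul]
  abel

lemma det_emb0 (hVU : V * U = 1) (m : Matrix (Fin 2) (Fin 2) k) :
    (emb0 U V m).det = m.det := by
  unfold emb0
  rw [Matrix.mul_assoc, det_one_add_mul_comm, Matrix.mul_assoc, hVU, Matrix.mul_one,
    add_sub_cancel]

/-- the embedding of `SL₂` attached to `U`, `V` with `V U = 1` -/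
def emb (hVU : V * U = 1) : Matrix.SpecialLinearGroup (Fin 2) k →* Matrix.SpecialLinearGroup ι k where
  toFun m := ⟨emb0 U V m.1, by rw [det_emb0 U V hVU, m.2]⟩
  map_one' := Subtype.ext (emb0_one U V)
  map_mul' m m' := Subtype.ext (emb0_mul U V hVU m.1 m'.1)

@[simp] lemma emb_coe (hVU : V * U = 1) (m : Matrix.SpecialLinearGroup (Fin 2) k) :
    (emb U V hVU m).1 = emb0 U V m.1 := rfl

lemma emb_injective (hVU : V * U = 1) : Function.Injective (emb U V hVU) := by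
  intro m m' h
  have h0 : emb0 U V m.1 = emb0 U V m'.1 := congrArg Subtype.val h
  unfold emb0 at h0
  have h1 : U * (m.1 - 1) * V = U * (m'.1 - 1) * V := add_left_cancel h0
  have h2 : V * (U * (m.1 - 1) * V) * U = V * (U * (m'.1 - 1) * V) * U := by rw [h1]
  have h3 : ∀ x : Matrix (Fin 2) (Fin 2) k, V * (U * x * V) * U = x := by
    intro x
    calc V * (U * x * V) * U = (V * U) * x * (V * U) := by simp only [Matrix.mul_assoc]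
      _ = x := by rw [hVU, Matrix.one_mul, Matrix.mul_one]
  rw [h3, h3] at h2
  apply Subtype.ext
  exact sub_left_injective h2

end emb

/-! ### the embedding attached to a hyperbolic pair of transvection groups -/

section pairEmb

variable (v φ w ψ : ι → k)

/-- columns `v`, `w` -/
def Umat : Matrix ι (Fin 2) k := Matrix.of fun i j => ![v i, w i] j

/-- rows `(ψ·v)⁻¹ ψ`, `(φ·w)⁻¹ φ` -/
def Vmat : Matrix (Fin 2) ι k :=
  Matrix.of fun j i => ![(ψ ⬝ᵥ v)⁻¹ * ψ i, (φ ⬝ᵥ w)⁻¹ * φ i] j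

lemma Vmat_mul_Umat (hv : φ ⬝ᵥ v = 0) (hw : ψ ⬝ᵥ w = 0) (hα : φ ⬝ᵥ w ≠ 0) (hβ : ψ ⬝ᵥ v ≠ 0) :
    Vmat v φ w ψ * Umat v w = 1 := by
  have hsum : ∀ (c : k) (θ x : ι → k), ∑ i, (c * θ i) * x i = c * (θ ⬝ᵥ x) := by
    intro c θ x
    unfold dotProduct
    rw [Finset.mul_sum]
    apply Finset.sum_congr rfl
    intro i _
    ring
  ext a b
  rw [Matrix.mul_apply]
  fin_cases a <;> fin_cases b
  · show ∑ i, ((ψ ⬝ᵥ v)⁻¹ * ψ i) * v i = 1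
    rw [hsum, inv_mul_cancel₀ hβ]
  · show ∑ i, ((ψ ⬝ᵥ v)⁻¹ * ψ i) * w i = 0
    rw [hsum, hw, mul_zero]
  · show ∑ i, ((φ ⬝ᵥ w)⁻¹ * φ i) * v i = 0
    rw [hsum, hv, mul_zero]
  · show ∑ i, ((φ ⬝ᵥ w)⁻¹ * φ i) * w i = 1
    rw [hsum, inv_mul_cancel₀ hα]

/-- the embedding of `SL₂` attached to a hyperbolic pair -/
def pairEmb (hv : φ ⬝ᵥ v = 0) (hw : ψ ⬝ᵥ w = 0) (hα : φ ⬝ᵥ w ≠ 0) (hβ : ψ ⬝ᵥ v ≠ 0) :
    Matrix.SpecialLinearGroup (Fin 2) k →* Matrix.SpecialLinearGroup ι k :=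
  emb (Umat v w) (Vmat v φ w ψ) (Vmat_mul_Umat v φ w ψ hv hw hα hβ)

lemma pairEmb_injective (hv : φ ⬝ᵥ v = 0) (hw : ψ ⬝ᵥ w = 0) (hα : φ ⬝ᵥ w ≠ 0)
    (hβ : ψ ⬝ᵥ v ≠ 0) : Function.Injective (pairEmb v φ w ψ hv hw hα hβ) :=
  emb_injective _ _ _

lemma UMV_apply (M : Matrix (Fin 2) (Fin 2) k) (i l : ι) :
    (Umat v w * M * Vmat v φ w ψ) i l =
      (v i * M 0 0 + w i * M 1 0) * ((ψ ⬝ᵥ v)⁻¹ * ψ l)
        + (v i * M 0 1 + w i * M 1 1) * ((φ ⬝ᵥ w)⁻¹ * φ l) := by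
  rw [Matrix.mul_apply, Fin.sum_univ_two, Matrix.mul_apply, Fin.sum_univ_two, Matrix.mul_apply,
    Fin.sum_univ_two]
  rfl

lemma pairEmb_upper (hv : φ ⬝ᵥ v = 0) (hw : ψ ⬝ᵥ w = 0) (hα : φ ⬝ᵥ w ≠ 0) (hβ : ψ ⬝ᵥ v ≠ 0)
    (t : k) :
    pairEmb v φ w ψ hv hw hα hβ (Cfsg.Agent.S5016.upperElt t) = tvS v φ hv (t * (φ ⬝ᵥ w)⁻¹) := by
  apply Subtype.ext
  show emb0 (Umat v w) (Vmat v φ w ψ) (Cfsg.Agent.S5016.upperElt t).1 = tv v φ (t * (φ ⬝ᵥ w)⁻¹)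
  unfold emb0 tv
  ext i l
  rw [Matrix.add_apply, Matrix.add_apply, UMV_apply, Matrix.smul_apply, vecMulVec_apply,
    Cfsg.Agent.S5016.upperElt_coe]
  simp only [Matrix.sub_apply, Matrix.of_apply, Matrix.cons_val', Matrix.cons_val_zero,
    Matrix.cons_val_one, Matrix.one_apply_eq, Matrix.one_apply_ne, ne_eq, zero_ne_one,
    one_ne_zero, not_false_eq_true, Fin.isValue, smul_eq_mul]
  ring

lemma pairEmb_lower (hv : φ ⬝ᵥ v = 0) (hw : ψ ⬝ᵥ w = 0) (hα : φ ⬝ᵥ w ≠ 0) (hβ : ψ ⬝ᵥ v ≠ 0)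
    (t : k) :
    pairEmb v φ w ψ hv hw hα hβ (Cfsg.Agent.S5016.lowerElt t) = tvS w ψ hw (t * (ψ ⬝ᵥ v)⁻¹) := by
  apply Subtype.ext
  show emb0 (Umat v w) (Vmat v φ w ψ) (Cfsg.Agent.S5016.lowerElt t).1 = tv w ψ (t * (ψ ⬝ᵥ v)⁻¹)
  unfold emb0 tv
  ext i l
  rw [Matrix.add_apply, Matrix.add_apply, UMV_apply, Matrix.smul_apply, vecMulVec_apply,
    Cfsg.Agent.S5016.lowerElt_coe]
  simp only [Matrix.sub_apply, Matrix.of_apply, Matrix.cons_val', Matrix.cons_val_zero,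
    Matrix.cons_val_one, Matrix.one_apply_eq, Matrix.one_apply_ne, ne_eq, zero_ne_one,
    one_ne_zero, not_false_eq_true, Fin.isValue, smul_eq_mul]
  ring

end pairEmb


/-! ### transport of rank one pairs along injective homomorphisms -/

section transport

open Cfsg.Agent.Lib.Helper83_RankOne

variable {H G : Type*} [Group H] [Group G]

lemma conjBy_map (Θ : H →* G) (A : Subgroup H) (g : H) :
    (Cfsg.conjBy A g).map Θ = Cfsg.conjBy (A.map Θ) (Θ g) := by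
  ext x
  rw [mem_conjBy_iff]
  constructor
  · rintro ⟨y, hy, rfl⟩
    rw [SetLike.mem_coe, mem_conjBy_iff] at hy
    exact ⟨g⁻¹ * y * g, hy, by simp⟩
  · rintro ⟨y, hy, hyx⟩
    refine ⟨g * y * g⁻¹, ?_, ?_⟩
    · rw [SetLike.mem_coe, mem_conjBy_iff]
      simpa [mul_assoc] using hy
    · rw [map_mul, map_mul, map_inv, hyx]
      group

theorem isRankOnePair_map (Θ : H →* G) (hΘ : Function.Injective Θ) {A B : Subgroup H}
    (h : Cfsg.IsRankOnePair A B) : Cfsg.IsRankOnePair (A.map Θ) (B.map Θ) := by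
  have hcond : ∀ {A B : Subgroup H}, Cfsg.RankOneCondition A B →
      Cfsg.RankOneCondition (A.map Θ) (B.map Θ) := by
    intro A B hc a' ha' ha1
    obtain ⟨a, ha, rfl⟩ := ha'
    have ha1' : a ≠ 1 := by
      intro h1
      apply ha1
      rw [h1, map_one]
    obtain ⟨b, hb, hb1, hconj⟩ := hc a ha ha1'
    refine ⟨Θ b, ⟨b, hb, rfl⟩, ?_, ?_⟩
    · intro h1
      apply hb1
      apply hΘ
      rw [h1, map_one]
    · rw [← map_inv, ← map_inv, ← conjBy_map, ← conjBy_map, hconj]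
  refine ⟨?_, ?_, ?_, hcond h.cond_left, hcond h.cond_right⟩
  · intro heq
    exact h.ne (Subgroup.map_injective hΘ heq)
  · have := h.nilpotent_left
    exact Group.nilpotent_of_mulEquiv (A.equivMapOfInjective Θ hΘ)
  · have := h.nilpotent_right
    exact Group.nilpotent_of_mulEquiv (B.equivMapOfInjective Θ hΘ)

theorem isPSL2PairOver_map {k : Type*} [Field k]
    (Θ : Matrix.SpecialLinearGroup (Fin 2) k →* G) (hΘ : Function.Injective Θ) :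
    Cfsg.IsPSL2PairOver k ((Cfsg.upperUnipotentSL2 k).map Θ) ((Cfsg.lowerUnipotentSL2 k).map Θ) := by
  refine ⟨Θ, ?_, ?_, rfl, rfl⟩
  · rw [MonoidHom.range_eq_map, ← Subgroup.map_sup, sup_comm, Cfsg.Agent.S5016.sup_eq_top]
  · rw [(MonoidHom.ker_eq_bot_iff Θ).mpr hΘ]
    exact bot_le

end transport


/-! ### transvection subgroups -/

section T

open Cfsg.Agent.Lib.Helper83_RankOne
open scoped commutatorElement

/-- the transvection subgroup with centre `v` and axis `φ` -/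
def T (v φ : ι → k) (h : φ ⬝ᵥ v = 0) : Subgroup (Matrix.SpecialLinearGroup ι k) where
  carrier := {g | ∃ c : k, g = tvS v φ h c}
  one_mem' := ⟨0, (tvS_zero v φ h).symm⟩
  mul_mem' := by
    rintro _ _ ⟨a, rfl⟩ ⟨b, rfl⟩
    exact ⟨a + b, tvS_add v φ h a b⟩
  inv_mem' := by
    rintro _ ⟨a, rfl⟩
    exact ⟨-a, tvS_inv v φ h a⟩

lemma mem_T {v φ : ι → k} {h : φ ⬝ᵥ v = 0} {g : Matrix.SpecialLinearGroup ι k} :
    g ∈ T v φ h ↔ ∃ c : k, g = tvS v φ h c := Iff.rfl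

lemma tvS_mem_T (v φ : ι → k) (h : φ ⬝ᵥ v = 0) (c : k) : tvS v φ h c ∈ T v φ h := ⟨c, rfl⟩

lemma T_congr {v v' φ φ' : ι → k} (hv : v = v') (hφ : φ = φ') (h : φ ⬝ᵥ v = 0)
    (h' : φ' ⬝ᵥ v' = 0) : T v φ h = T v' φ' h' := by
  subst hv
  subst hφ
  rfl

lemma tvS_eq_one_iff (v φ : ι → k) (h : φ ⬝ᵥ v = 0) (hv : v ≠ 0) (hφ : φ ≠ 0) (c : k) :
    tvS v φ h c = 1 ↔ c = 0 := by
  rw [← tv_eq_one_iff v φ hv hφ c]
  constructor
  · intro h1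
    exact congrArg Subtype.val h1
  · intro h1
    exact Subtype.ext h1

lemma T_ne_bot (v φ : ι → k) (h : φ ⬝ᵥ v = 0) (hv : v ≠ 0) (hφ : φ ≠ 0) : T v φ h ≠ ⊥ := by
  intro hbot
  have h1 : tvS v φ h 1 ∈ T v φ h := tvS_mem_T v φ h 1
  rw [hbot, Subgroup.mem_bot, tvS_eq_one_iff v φ h hv hφ] at h1
  exact one_ne_zero h1

lemma T_comm (v φ : ι → k) (h : φ ⬝ᵥ v = 0) : IsMulCommutative (T v φ h) := by
  constructor
  constructor
  rintro ⟨_, ⟨a, rfl⟩⟩ ⟨_, ⟨b, rfl⟩⟩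
  apply Subtype.ext
  show tvS v φ h a * tvS v φ h b = tvS v φ h b * tvS v φ h a
  rw [tvS_add, tvS_add, add_comm]

lemma conjBy_T (g : Matrix.SpecialLinearGroup ι k) (v φ : ι → k) (h : φ ⬝ᵥ v = 0) :
    Cfsg.conjBy (T v φ h) g =
      T (g.1 *ᵥ v) (φ ᵥ* (g⁻¹).1) ((conj_dot g v φ).trans h) := by
  ext x
  rw [mem_conjBy_iff, mem_T, mem_T]
  constructor
  · rintro ⟨c, hc⟩
    refine ⟨c, ?_⟩
    rw [← conj_tvS g v φ h c, ← hc]
    group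
  · rintro ⟨c, hc⟩
    refine ⟨c, ?_⟩
    rw [hc, ← conj_tvS g v φ h c]
    group

/-- the product formula -/
lemma tvS_mul_tvS_coe (v φ w ψ : ι → k) (hv : φ ⬝ᵥ v = 0) (hw : ψ ⬝ᵥ w = 0) (a b : k) :
    (tvS v φ hv a * tvS w ψ hw b).1 = 1 + a • vecMulVec v φ + b • vecMulVec w ψ
      + (a * b * (φ ⬝ᵥ w)) • vecMulVec v ψ :=
  tv_mul_tv v φ w ψ a b

/-- commuting transvections -/
lemma tvS_commute (v φ w ψ : ι → k) (hv : φ ⬝ᵥ v = 0) (hw : ψ ⬝ᵥ w = 0)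
    (hα : φ ⬝ᵥ w = 0) (hβ : ψ ⬝ᵥ v = 0) (a b : k) :
    tvS v φ hv a * tvS w ψ hw b = tvS w ψ hw b * tvS v φ hv a := by
  apply Subtype.ext
  rw [tvS_mul_tvS_coe, tvS_mul_tvS_coe, hα, hβ, mul_zero, mul_zero, zero_smul, zero_smul,
    add_zero, add_zero]
  abel

/-- the commutator formula in the case `ψ·v = 0` -/
lemma tvS_commutator (v φ w ψ : ι → k) (hv : φ ⬝ᵥ v = 0) (hw : ψ ⬝ᵥ w = 0)
    (hβ : ψ ⬝ᵥ v = 0) (a b : k) :
    tvS v φ hv a * tvS w ψ hw b * (tvS v φ hv a)⁻¹ * (tvS w ψ hw b)⁻¹ =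
      tvS v ψ hβ (a * b * (φ ⬝ᵥ w)) := by
  have key : tvS v ψ hβ (a * b * (φ ⬝ᵥ w)) * (tvS w ψ hw b * tvS v φ hv a) =
      tvS v φ hv a * tvS w ψ hw b := by
    apply Subtype.ext
    have h1 : (tvS w ψ hw b * tvS v φ hv a).1 = 1 + b • vecMulVec w ψ + a • vecMulVec v φ := by
      rw [tvS_mul_tvS_coe, hβ, mul_zero, zero_smul, add_zero]
    show (tvS v ψ hβ (a * b * (φ ⬝ᵥ w))).1 * (tvS w ψ hw b * tvS v φ hv a).1 = _
    rw [h1, tvS_mul_tvS_coe, tvS_coe]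
    unfold tv
    rw [add_mul, one_mul, mul_add, mul_add, mul_one, smul_mul_smul_comm, smul_mul_smul_comm,
      vecMulVec_mul_vecMulVec, vecMulVec_mul_vecMulVec, hw, hβ, zero_smul, zero_smul,
      vecMulVec_zero, smul_zero, smul_zero, add_zero, add_zero]
    abel
  rw [← key]
  group

end T


/-! ### the class of transvection subgroups -/

section cls

open Cfsg.Agent.Lib.Helper83_RankOne
open scoped commutatorElement

lemma mulVec_ne_zero (g : Matrix.SpecialLinearGroup ι k) (v : ι → k) (hv : v ≠ 0) :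
    g.1 *ᵥ v ≠ 0 := by
  intro h0
  apply hv
  have h1 : (g⁻¹).1 * g.1 = 1 := congrArg Subtype.val (inv_mul_cancel g)
  calc v = ((g⁻¹).1 * g.1) *ᵥ v := by rw [h1, one_mulVec]
    _ = (g⁻¹).1 *ᵥ (g.1 *ᵥ v) := by rw [mulVec_mulVec]
    _ = 0 := by rw [h0, mulVec_zero]

lemma vecMul_ne_zero (g : Matrix.SpecialLinearGroup ι k) (φ : ι → k) (hφ : φ ≠ 0) :
    φ ᵥ* g.1 ≠ 0 := by
  intro h0
  apply hφ
  have h1 : g.1 * (g⁻¹).1 = 1 := congrArg Subtype.val (mul_inv_cancel g)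
  calc φ = φ ᵥ* (g.1 * (g⁻¹).1) := by rw [h1, vecMul_one]
    _ = (φ ᵥ* g.1) ᵥ* (g⁻¹).1 := by rw [vecMul_vecMul]
    _ = 0 := by rw [h0, zero_vecMul]

variable (k ι) in
/-- the set of all transvection subgroups -/
def TS : Set (Subgroup (Matrix.SpecialLinearGroup ι k)) :=
  {A | ∃ (v φ : ι → k) (h : φ ⬝ᵥ v = 0), v ≠ 0 ∧ φ ≠ 0 ∧ A = T v φ h}

lemma T_mem_TS (v φ : ι → k) (h : φ ⬝ᵥ v = 0) (hv : v ≠ 0) (hφ : φ ≠ 0) : T v φ h ∈ TS k ι :=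
  ⟨v, φ, h, hv, hφ, rfl⟩

lemma TS_conj_mem (A : Subgroup (Matrix.SpecialLinearGroup ι k)) (hA : A ∈ TS k ι)
    (g : Matrix.SpecialLinearGroup ι k) : Cfsg.conjBy A g ∈ TS k ι := by
  obtain ⟨v, φ, h, hv, hφ, rfl⟩ := hA
  rw [conjBy_T]
  exact T_mem_TS _ _ _ (mulVec_ne_zero g v hv) (vecMul_ne_zero g⁻¹ φ hφ)

lemma e_ne_zero (i : ι) : (e i : ι → k) ≠ 0 := by
  intro h
  have := congrFun h i
  simp [e] at this

lemma e_dot_e {i j : ι} (hij : i ≠ j) : (e j : ι → k) ⬝ᵥ e i = 0 := by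
  rw [e_dot]
  simp [e, Pi.single_apply, hij.symm]

lemma transvection_eq_tvS {i j : ι} (hij : i ≠ j) (c : k) :
    Matrix.SpecialLinearGroup.transvection hij c = tvS (e i) (e j) (e_dot_e hij) c := by
  apply Subtype.ext
  show Matrix.transvection i j c = tv (e i) (e j) c
  unfold Matrix.transvection tv e
  rw [← Matrix.single_eq_single_vecMulVec_single, Matrix.smul_single, smul_eq_mul, mul_one]

lemma TS_generates [Nontrivial ι] : (⨆ A ∈ TS k ι, A) = ⊤ := by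
  rw [eq_top_iff]
  intro g _
  refine Cfsg.Agent.Lib.Helper5_SLGen.transvection_induction
    (fun g => g ∈ (⨆ A ∈ TS k ι, A)) ?_ (fun A B hA hB => mul_mem hA hB) g
  intro i j hij c
  rw [transvection_eq_tvS hij c]
  have hmem : T (e i) (e j) (e_dot_e hij) ∈ TS k ι :=
    T_mem_TS _ _ _ (e_ne_zero i) (e_ne_zero j)
  exact Subgroup.mem_iSup_of_mem _ (Subgroup.mem_iSup_of_mem hmem (tvS_mem_T _ _ _ c))

/-- all transvection subgroups are conjugate to the standard one -/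
lemma exists_conjBy_eq {i0 i1 i2 : ι} (h01 : i0 ≠ i1) (h02 : i0 ≠ i2) (h12 : i1 ≠ i2)
    (A : Subgroup (Matrix.SpecialLinearGroup ι k)) (hA : A ∈ TS k ι) :
    ∃ g : Matrix.SpecialLinearGroup ι k, A = Cfsg.conjBy (T (e i0) (e i1) (e_dot_e h01)) g := by
  obtain ⟨v, φ, h, hv, hφ, rfl⟩ := hA
  obtain ⟨g, hg1, hg2⟩ := exists_conj h01 h02 h12 v φ hv hφ h
  refine ⟨g, ?_⟩
  rw [conjBy_T]
  exact T_congr hg1.symm hg2.symm _ _

/-- the commuting case -/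
lemma T_commutator_eq_bot (v φ w ψ : ι → k) (hv : φ ⬝ᵥ v = 0) (hw : ψ ⬝ᵥ w = 0)
    (hα : φ ⬝ᵥ w = 0) (hβ : ψ ⬝ᵥ v = 0) : ⁅T v φ hv, T w ψ hw⁆ = ⊥ := by
  rw [Subgroup.commutator_eq_bot_iff_le_centralizer]
  rintro _ ⟨a, rfl⟩
  rw [Subgroup.mem_centralizer_iff]
  rintro _ ⟨b, rfl⟩
  exact (tvS_commute v φ w ψ hv hw hα hβ a b).symm

/-- the rank one case -/
lemma T_eq_map_upper (v φ w ψ : ι → k) (hv : φ ⬝ᵥ v = 0) (hw : ψ ⬝ᵥ w = 0)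
    (hα : φ ⬝ᵥ w ≠ 0) (hβ : ψ ⬝ᵥ v ≠ 0) :
    T v φ hv = (Cfsg.upperUnipotentSL2 k).map (pairEmb v φ w ψ hv hw hα hβ) := by
  ext x
  rw [mem_T, Subgroup.mem_map]
  constructor
  · rintro ⟨c, rfl⟩
    refine ⟨Cfsg.Agent.S5016.upperElt (c * (φ ⬝ᵥ w)), Cfsg.Agent.S5016.upperElt_mem _, ?_⟩
    rw [pairEmb_upper, mul_assoc, mul_inv_cancel₀ hα, mul_one]
  · rintro ⟨y, hy, rfl⟩
    obtain ⟨t, rfl⟩ := Cfsg.Agent.S5016.mem_upper_iff.mp hy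
    exact ⟨_, pairEmb_upper v φ w ψ hv hw hα hβ t⟩

lemma T_eq_map_lower (v φ w ψ : ι → k) (hv : φ ⬝ᵥ v = 0) (hw : ψ ⬝ᵥ w = 0)
    (hα : φ ⬝ᵥ w ≠ 0) (hβ : ψ ⬝ᵥ v ≠ 0) :
    T w ψ hw = (Cfsg.lowerUnipotentSL2 k).map (pairEmb v φ w ψ hv hw hα hβ) := by
  ext x
  rw [mem_T, Subgroup.mem_map]
  constructor
  · rintro ⟨c, rfl⟩
    refine ⟨Cfsg.Agent.S5016.lowerElt (c * (ψ ⬝ᵥ v)), Cfsg.Agent.S5016.lowerElt_mem _, ?_⟩
    rw [pairEmb_lower, mul_assoc, mul_inv_cancel₀ hβ, mul_one]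
  · rintro ⟨y, hy, rfl⟩
    obtain ⟨t, rfl⟩ := Cfsg.Agent.S5016.mem_lower_iff.mp hy
    exact ⟨_, pairEmb_lower v φ w ψ hv hw hα hβ t⟩

lemma T_isRankOnePair (v φ w ψ : ι → k) (hv : φ ⬝ᵥ v = 0) (hw : ψ ⬝ᵥ w = 0)
    (hα : φ ⬝ᵥ w ≠ 0) (hβ : ψ ⬝ᵥ v ≠ 0) : Cfsg.IsRankOnePair (T v φ hv) (T w ψ hw) := by
  rw [T_eq_map_upper v φ w ψ hv hw hα hβ, T_eq_map_lower v φ w ψ hv hw hα hβ]
  exact isRankOnePair_map _ (pairEmb_injective v φ w ψ hv hw hα hβ)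
    (Cfsg.RankOnePair_symm Cfsg.Agent.S5016.pair)

lemma T_isPSL2PairOver (v φ w ψ : ι → k) (hv : φ ⬝ᵥ v = 0) (hw : ψ ⬝ᵥ w = 0)
    (hα : φ ⬝ᵥ w ≠ 0) (hβ : ψ ⬝ᵥ v ≠ 0) : Cfsg.IsPSL2PairOver k (T v φ hv) (T w ψ hw) := by
  rw [T_eq_map_upper v φ w ψ hv hw hα hβ, T_eq_map_lower v φ w ψ hv hw hα hβ]
  exact isPSL2PairOver_map _ (pairEmb_injective v φ w ψ hv hw hα hβ)

end cls


/-! ### the commutator case -/

section commCase

open Cfsg.Agent.Lib.Helper83_RankOne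
open scoped commutatorElement

lemma T_commutator_eq (v φ w ψ : ι → k) (hv : φ ⬝ᵥ v = 0) (hw : ψ ⬝ᵥ w = 0)
    (hα : φ ⬝ᵥ w ≠ 0) (hβ : ψ ⬝ᵥ v = 0) : ⁅T v φ hv, T w ψ hw⁆ = T v ψ hβ := by
  apply le_antisymm
  · rw [Subgroup.commutator_le]
    rintro _ ⟨a, rfl⟩ _ ⟨b, rfl⟩
    rw [commutatorElement_def, tvS_commutator v φ w ψ hv hw hβ a b]
    exact tvS_mem_T _ _ _ _
  · rintro _ ⟨c, rfl⟩
    have h1 := Subgroup.commutator_mem_commutator (tvS_mem_T v φ hv 1)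
      (tvS_mem_T w ψ hw (c * (φ ⬝ᵥ w)⁻¹))
    rw [commutatorElement_def, tvS_commutator v φ w ψ hv hw hβ, one_mul, mul_assoc,
      inv_mul_cancel₀ hα, mul_one] at h1
    exact h1

lemma T_commutatorCase (v φ w ψ : ι → k) (hv : φ ⬝ᵥ v = 0) (hw : ψ ⬝ᵥ w = 0)
    (hvne : v ≠ 0) (hφne : φ ≠ 0) (hwne : w ≠ 0) (hψne : ψ ≠ 0)
    (hα : φ ⬝ᵥ w ≠ 0) (hβ : ψ ⬝ᵥ v = 0) :
    Cfsg.RootCommutatorCase (TS k ι) (T v φ hv) (T w ψ hw) := by
  rw [Cfsg.RootCommutatorCase, T_commutator_eq v φ w ψ hv hw hα hβ]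
  refine ⟨T_mem_TS _ _ _ hvne hψne, ?_, ?_, ?_⟩
  · rintro _ ⟨c, rfl⟩ x hx
    have hle : T v φ hv ⊔ T w ψ hw ≤ Subgroup.centralizer {tvS v ψ hβ c} := by
      apply sup_le
      · rintro _ ⟨a, rfl⟩
        rw [Subgroup.mem_centralizer_iff]
        intro y hy
        rw [Set.mem_singleton_iff] at hy
        subst hy
        exact tvS_commute v ψ v φ hβ hv hβ hv c a
      · rintro _ ⟨b, rfl⟩
        rw [Subgroup.mem_centralizer_iff]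
        intro y hy
        rw [Set.mem_singleton_iff] at hy
        subst hy
        exact tvS_commute v ψ w ψ hβ hw hw hβ c b
    exact Subgroup.mem_centralizer_iff.mp (hle hx) _ rfl
  · rintro _ ⟨a, rfl⟩ ha1
    have ha0 : a ≠ 0 := by
      intro h0
      apply ha1
      rw [h0, tvS_zero]
    have hset : (fun b => tvS v φ hv a * b * (tvS v φ hv a)⁻¹ * b⁻¹) '' (T w ψ hw : Set _)
        = (T v ψ hβ : Set _) := by
      ext x
      constructor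
      · rintro ⟨_, ⟨b, rfl⟩, rfl⟩
        show tvS v φ hv a * tvS w ψ hw b * (tvS v φ hv a)⁻¹ * (tvS w ψ hw b)⁻¹ ∈ T v ψ hβ
        rw [tvS_commutator v φ w ψ hv hw hβ a b]
        exact tvS_mem_T _ _ _ _
      · rintro ⟨c, rfl⟩
        refine ⟨tvS w ψ hw (c * (a * (φ ⬝ᵥ w))⁻¹), tvS_mem_T _ _ _ _, ?_⟩
        show tvS v φ hv a * tvS w ψ hw _ * (tvS v φ hv a)⁻¹ * (tvS w ψ hw _)⁻¹ = _
        rw [tvS_commutator v φ w ψ hv hw hβ]
        congr 1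
        field_simp
    rw [hset, Subgroup.closure_eq]
  · rintro _ ⟨b, rfl⟩ hb1
    have hb0 : b ≠ 0 := by
      intro h0
      apply hb1
      rw [h0, tvS_zero]
    have hset : (fun a => a * tvS w ψ hw b * a⁻¹ * (tvS w ψ hw b)⁻¹) '' (T v φ hv : Set _)
        = (T v ψ hβ : Set _) := by
      ext x
      constructor
      · rintro ⟨_, ⟨a, rfl⟩, rfl⟩
        show tvS v φ hv a * tvS w ψ hw b * (tvS v φ hv a)⁻¹ * (tvS w ψ hw b)⁻¹ ∈ T v ψ hβ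
        rw [tvS_commutator v φ w ψ hv hw hβ a b]
        exact tvS_mem_T _ _ _ _
      · rintro ⟨c, rfl⟩
        refine ⟨tvS v φ hv (c * (b * (φ ⬝ᵥ w))⁻¹), tvS_mem_T _ _ _ _, ?_⟩
        show tvS v φ hv _ * tvS w ψ hw b * (tvS v φ hv _)⁻¹ * (tvS w ψ hw b)⁻¹ = _
        rw [tvS_commutator v φ w ψ hv hw hβ]
        congr 1
        field_simp
    rw [hset, Subgroup.closure_eq]

/-- the trichotomy for two transvection subgroups -/
theorem TS_pair (A B : Subgroup (Matrix.SpecialLinearGroup ι k)) (hA : A ∈ TS k ι)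
    (hB : B ∈ TS k ι) :
    ⁅A, B⁆ = ⊥ ∨ Cfsg.IsRankOnePair A B ∨ Cfsg.RootCommutatorCase (TS k ι) A B := by
  obtain ⟨v, φ, hv, hvne, hφne, rfl⟩ := hA
  obtain ⟨w, ψ, hw, hwne, hψne, rfl⟩ := hB
  by_cases hα : φ ⬝ᵥ w = 0
  · by_cases hβ : ψ ⬝ᵥ v = 0
    · exact Or.inl (T_commutator_eq_bot v φ w ψ hv hw hα hβ)
    · right; right
      apply Cfsg.Agent.Lib.Helper83_CommCase.commutatorCase_symm
      exact T_commutatorCase w ψ v φ hw hv hwne hψne hvne hφne hβ hα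
  · by_cases hβ : ψ ⬝ᵥ v = 0
    · right; right
      exact T_commutatorCase v φ w ψ hv hw hvne hφne hwne hψne hα hβ
    · exact Or.inr (Or.inl (T_isRankOnePair v φ w ψ hv hw hα hβ))

end commCase


/-! ### rank one pairs among transvection subgroups are hyperbolic -/

section excl

open Cfsg.Agent.Lib.Helper83_RankOne
open scoped commutatorElement

lemma center_parallel (x χ x' χ' : ι → k) (hx : χ ⬝ᵥ x = 0) (hx' : χ' ⬝ᵥ x' = 0)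
    (hχ : χ ≠ 0) (h : tvS x χ hx 1 ∈ T x' χ' hx') : ∃ μ : k, x = μ • x' := by
  obtain ⟨c, hc⟩ := h
  have h1 : tv x χ 1 = tv x' χ' c := congrArg Subtype.val hc
  unfold tv at h1
  have h2 : vecMulVec x χ = c • vecMulVec x' χ' := by
    have := add_left_cancel h1
    rw [one_smul] at this
    exact this
  obtain ⟨l, hl⟩ := exists_ne_zero_of_ne_zero χ hχ
  refine ⟨c * χ' l / χ l, ?_⟩
  funext i
  have h3 := congrFun (congrFun h2 i) l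
  rw [vecMulVec_apply, Matrix.smul_apply, vecMulVec_apply, smul_eq_mul] at h3
  rw [Pi.smul_apply, smul_eq_mul]
  field_simp
  linear_combination h3

/-- in a rank one pair `(T v φ, T w ψ)` one has `ψ·v ≠ 0` -/
lemma dot_ne_zero_of_rankOneCondition (v φ w ψ : ι → k) (hv : φ ⬝ᵥ v = 0) (hw : ψ ⬝ᵥ w = 0)
    (hvne : v ≠ 0) (hφne : φ ≠ 0) (hwne : w ≠ 0) (hψne : ψ ≠ 0)
    (hc : Cfsg.RankOneCondition (T v φ hv) (T w ψ hw)) (hne : T v φ hv ≠ T w ψ hw) :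
    ψ ⬝ᵥ v ≠ 0 := by
  intro hβ
  have ha1 : tvS v φ hv 1 ≠ 1 := by
    rw [Ne, tvS_eq_one_iff v φ hv hvne hφne]
    exact one_ne_zero
  obtain ⟨_, ⟨b, rfl⟩, hb1, hconj⟩ := hc _ (tvS_mem_T v φ hv 1) ha1
  rw [conjBy_T, conjBy_T] at hconj
  -- the centres
  have hc1 : ((tvS w ψ hw b)⁻¹).1 *ᵥ v = v := by
    rw [tvS_inv, tvS_coe, tv_mulVec, hβ, mul_zero, zero_smul, add_zero]
  have hc2 : ((tvS v φ hv 1)⁻¹).1 *ᵥ w = w + (-(φ ⬝ᵥ w)) • v := by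
    rw [tvS_inv, tvS_coe, tv_mulVec, neg_one_mul]
  have hax2 : ψ ᵥ* ((tvS v φ hv 1)⁻¹⁻¹).1 = ψ := by
    rw [inv_inv, tvS_coe, vecMul_tv, hβ, mul_zero, zero_smul, add_zero]
  have hax1 : φ ᵥ* ((tvS w ψ hw b)⁻¹⁻¹).1 = φ + (b * (φ ⬝ᵥ w)) • ψ := by
    rw [inv_inv, tvS_coe, vecMul_tv]
  have hax1ne : φ ᵥ* ((tvS w ψ hw b)⁻¹⁻¹).1 ≠ 0 := vecMul_ne_zero _ φ hφne
  -- first `φ·w = 0`
  have hα : φ ⬝ᵥ w = 0 := by
    have hmem := tvS_mem_T (((tvS w ψ hw b)⁻¹).1 *ᵥ v) (φ ᵥ* ((tvS w ψ hw b)⁻¹⁻¹).1)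
      ((conj_dot _ v φ).trans hv) 1
    rw [hconj] at hmem
    obtain ⟨μ, hμ⟩ := center_parallel _ _ _ _ _ _ hax1ne hmem
    rw [hc1, hc2] at hμ
    -- `v = μ (w - α v)`
    have hμ0 : μ ≠ 0 := by
      intro h0
      rw [h0, zero_smul] at hμ
      exact hvne hμ
    have h1 : φ ⬝ᵥ v = μ * (φ ⬝ᵥ w) := by
      conv_lhs => rw [hμ]
      rw [dotProduct_smul, dotProduct_add, dotProduct_smul, hv, smul_zero, add_zero, smul_eq_mul]
    rw [hv] at h1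
    rcases mul_eq_zero.mp h1.symm with h2 | h2
    · exact absurd h2 hμ0
    · exact h2
  -- then both subgroups are fixed, a contradiction
  apply hne
  have e1 : T (((tvS w ψ hw b)⁻¹).1 *ᵥ v) (φ ᵥ* ((tvS w ψ hw b)⁻¹⁻¹).1)
      ((conj_dot _ v φ).trans hv) = T v φ hv := by
    apply T_congr hc1
    rw [hax1, hα, mul_zero, zero_smul, add_zero]
  have e2 : T (((tvS v φ hv 1)⁻¹).1 *ᵥ w) (ψ ᵥ* ((tvS v φ hv 1)⁻¹⁻¹).1)
      ((conj_dot _ w ψ).trans hw) = T w ψ hw := by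
    apply T_congr _ hax2
    rw [hc2, hα, neg_zero, zero_smul, add_zero]
  rw [← e1, ← e2]
  exact hconj

lemma dots_ne_zero_of_isRankOnePair (v φ w ψ : ι → k) (hv : φ ⬝ᵥ v = 0) (hw : ψ ⬝ᵥ w = 0)
    (hvne : v ≠ 0) (hφne : φ ≠ 0) (hwne : w ≠ 0) (hψne : ψ ≠ 0)
    (h : Cfsg.IsRankOnePair (T v φ hv) (T w ψ hw)) : φ ⬝ᵥ w ≠ 0 ∧ ψ ⬝ᵥ v ≠ 0 :=
  ⟨dot_ne_zero_of_rankOneCondition w ψ v φ hw hv hwne hψne hvne hφne h.cond_right h.ne.symm,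
    dot_ne_zero_of_rankOneCondition v φ w ψ hv hw hvne hφne hwne hψne h.cond_left h.ne⟩

theorem TS_isRootSubgroupSet [Nontrivial ι] : Cfsg.IsRootSubgroupSet (TS k ι) where
  commutative := by
    rintro _ ⟨v, φ, h, _, _, rfl⟩
    exact T_comm v φ h
  ne_bot := by
    rintro _ ⟨v, φ, h, hv, hφ, rfl⟩
    exact T_ne_bot v φ h hv hφ
  generates := TS_generates
  conj_mem := TS_conj_mem
  pair := fun A hA B hB => TS_pair A B hA hB

theorem TS_isKRootSubgroupSet [Nontrivial ι] : Cfsg.IsKRootSubgroupSet k (TS k ι) := by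
  refine ⟨TS_isRootSubgroupSet, ?_⟩
  rintro _ ⟨v, φ, hv, hvne, hφne, rfl⟩ _ ⟨w, ψ, hw, hwne, hψne, rfl⟩ hpair
  obtain ⟨hα, hβ⟩ := dots_ne_zero_of_isRankOnePair v φ w ψ hv hw hvne hφne hwne hψne hpair
  exact T_isPSL2PairOver v φ w ψ hv hw hα hβ

end excl


/-! ### conjugacy, non-degeneracy, connectedness -/

section conn

open Cfsg.Agent.Lib.Helper83_RankOne
open scoped commutatorElement

theorem TS_isConjClass {i0 i1 i2 : ι} (h01 : i0 ≠ i1) (h02 : i0 ≠ i2) (h12 : i1 ≠ i2) :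
    Cfsg.IsConjClassOfSubgroups (TS k ι) := by
  refine ⟨⟨_, T_mem_TS (e i0) (e i1) (e_dot_e h01) (e_ne_zero i0) (e_ne_zero i1)⟩, ?_⟩
  intro A hA B hB
  obtain ⟨g1, rfl⟩ := exists_conjBy_eq h01 h02 h12 A hA
  obtain ⟨g2, rfl⟩ := exists_conjBy_eq h01 h02 h12 B hB
  refine ⟨g2 * g1⁻¹, ?_⟩
  rw [conjBy_mul, inv_mul_cancel_right]

lemma T_ne_of_dot_ne_zero (v φ w ψ : ι → k) (hv : φ ⬝ᵥ v = 0) (hw : ψ ⬝ᵥ w = 0)
    (hvne : v ≠ 0) (hφne : φ ≠ 0) (x : ι → k) (h1 : φ ⬝ᵥ x ≠ 0) (h2 : ψ ⬝ᵥ x = 0) :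
    T v φ hv ≠ T w ψ hw := by
  intro heq
  have hmem : tvS v φ hv 1 ∈ T w ψ hw := by
    rw [← heq]
    exact tvS_mem_T _ _ _ _
  obtain ⟨c, hc⟩ := hmem
  have h3 : tv v φ 1 *ᵥ x = tv w ψ c *ᵥ x := by
    have : tv v φ 1 = tv w ψ c := congrArg Subtype.val hc
    rw [this]
  rw [tv_mulVec, tv_mulVec, h2, mul_zero, zero_smul, add_zero, one_mul] at h3
  have h4 : (φ ⬝ᵥ x) • v = 0 := by
    have := add_left_cancel (a := x) (b := (φ ⬝ᵥ x) • v) (c := 0) (by rw [add_zero]; exact h3)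
    exact this
  rcases smul_eq_zero.mp h4 with h5 | h5
  · exact h1 h5
  · exact hvne h5

theorem TS_isNondegenerate {i0 i1 i2 : ι} (h01 : i0 ≠ i1) (h02 : i0 ≠ i2) (h12 : i1 ≠ i2) :
    Cfsg.IsNondegenerateRootSet (TS k ι) := by
  refine ⟨?_, ?_, ?_⟩
  · refine ⟨_, T_mem_TS (e i0) (e i1) (e_dot_e h01) (e_ne_zero i0) (e_ne_zero i1),
      _, T_mem_TS (e i0) (e i2) (e_dot_e h02) (e_ne_zero i0) (e_ne_zero i2), ?_, ?_⟩
    · apply T_ne_of_dot_ne_zero _ _ _ _ _ _ (e_ne_zero i0) (e_ne_zero i1) (e i1)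
      · rw [e_dot]; simp [e]
      · exact e_dot_e h12
    · exact T_commutator_eq_bot _ _ _ _ _ _ (e_dot_e h01) (e_dot_e h02)
  · refine ⟨_, T_mem_TS (e i0) (e i1) (e_dot_e h01) (e_ne_zero i0) (e_ne_zero i1),
      _, T_mem_TS (e i1) (e i0) (e_dot_e h01.symm) (e_ne_zero i1) (e_ne_zero i0), ?_⟩
    apply T_isRankOnePair
    · rw [e_dot]; simp [e]
    · rw [e_dot]; simp [e]
  · refine ⟨_, T_mem_TS (e i0) (e i1) (e_dot_e h01) (e_ne_zero i0) (e_ne_zero i1),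
      _, T_mem_TS (e i1) (e i2) (e_dot_e h12) (e_ne_zero i1) (e_ne_zero i2), ?_⟩
    apply T_commutatorCase _ _ _ _ _ _ (e_ne_zero i0) (e_ne_zero i1) (e_ne_zero i1) (e_ne_zero i2)
    · rw [e_dot]; simp [e]
    · exact e_dot_e h02

/-- two nonzero covectors have a common non-kernel vector -/
lemma exists_dot_ne_zero (φ ψ : ι → k) (hφ : φ ≠ 0) (hψ : ψ ≠ 0) :
    ∃ x : ι → k, φ ⬝ᵥ x ≠ 0 ∧ ψ ⬝ᵥ x ≠ 0 := by
  obtain ⟨i, hi⟩ := exists_ne_zero_of_ne_zero φ hφ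
  obtain ⟨j, hj⟩ := exists_ne_zero_of_ne_zero ψ hψ
  have h1 : φ ⬝ᵥ (e i : ι → k) ≠ 0 := by rw [dot_e]; exact hi
  have h2 : ψ ⬝ᵥ (e j : ι → k) ≠ 0 := by rw [dot_e]; exact hj
  by_cases h3 : ψ ⬝ᵥ (e i : ι → k) = 0
  · by_cases h4 : φ ⬝ᵥ (e j : ι → k) = 0
    · refine ⟨e i + e j, ?_, ?_⟩
      · rw [dotProduct_add, h4, add_zero]; exact h1
      · rw [dotProduct_add, h3, zero_add]; exact h2
    · exact ⟨e j, h4, h2⟩
  · exact ⟨e i, h1, h3⟩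

/-- a covector vanishing on `x` and not on `v`, when `v` is not a multiple of `x` -/
lemma exists_covector (x v φ : ι → k) (hvne : v ≠ 0) (hφx : φ ⬝ᵥ x ≠ 0) (hφv : φ ⬝ᵥ v = 0) :
    ∃ χ : ι → k, χ ⬝ᵥ x = 0 ∧ χ ⬝ᵥ v ≠ 0 := by
  obtain ⟨i, hi⟩ := exists_ne_zero_of_ne_zero v hvne
  refine ⟨e i - ((e i : ι → k) ⬝ᵥ x / (φ ⬝ᵥ x)) • φ, ?_, ?_⟩
  · rw [sub_dotProduct, smul_dotProduct, smul_eq_mul, div_mul_cancel₀ _ hφx, sub_self]
  · rw [sub_dotProduct, smul_dotProduct, hφv, smul_zero, sub_zero, e_dot]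
    exact hi

theorem TS_connected : Cfsg.IsConnectedFamily (Cfsg.FAdj (TS k ι)) (TS k ι) := by
  rintro _ ⟨v, φ, hv, hvne, hφne, rfl⟩ _ ⟨w, ψ, hw, hwne, hψne, rfl⟩
  obtain ⟨x, hx1, hx2⟩ := exists_dot_ne_zero φ ψ hφne hψne
  obtain ⟨χ1, h11, h12⟩ := exists_covector x v φ hvne hx1 hv
  obtain ⟨χ2, h21, h22⟩ := exists_covector x w ψ hwne hx2 hw
  have hxne : x ≠ 0 := by
    intro h0
    rw [h0, dotProduct_zero] at hx1
    exact hx1 rfl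
  obtain ⟨χ, hχx, hχv, hχw⟩ : ∃ χ : ι → k, χ ⬝ᵥ x = 0 ∧ χ ⬝ᵥ v ≠ 0 ∧ χ ⬝ᵥ w ≠ 0 := by
    by_cases h3 : χ1 ⬝ᵥ w = 0
    · by_cases h4 : χ2 ⬝ᵥ v = 0
      · refine ⟨χ1 + χ2, ?_, ?_, ?_⟩
        · rw [add_dotProduct, h11, h21, add_zero]
        · rw [add_dotProduct, h4, add_zero]; exact h12
        · rw [add_dotProduct, h3, zero_add]; exact h22
      · exact ⟨χ2, h21, h4, h22⟩
    · exact ⟨χ1, h11, h12, h3⟩
  have hχne : χ ≠ 0 := by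
    intro h0
    rw [h0, zero_dotProduct] at hχv
    exact hχv rfl
  have hA : T v φ hv ∈ TS k ι := T_mem_TS _ _ _ hvne hφne
  have hB : T w ψ hw ∈ TS k ι := T_mem_TS _ _ _ hwne hψne
  have hC : T x χ hχx ∈ TS k ι := T_mem_TS _ _ _ hxne hχne
  have hAC : Cfsg.FAdj (TS k ι) (T v φ hv) (T x χ hχx) :=
    ⟨hA, hC, T_isRankOnePair v φ x χ hv hχx hx1 hχv⟩
  have hCB : Cfsg.FAdj (TS k ι) (T x χ hχx) (T w ψ hw) :=
    ⟨hC, hB, T_isRankOnePair x χ w ψ hχx hw hχw hx2⟩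
  exact Relation.ReflTransGen.tail (Relation.ReflTransGen.single hAC) hCB

end conn

end Cfsg.Agent.Lib.Helper5_RootSL
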