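import Mathlib
import Cfsg.Agent.Lib.Helper5_RootSL
import Cfsg.Agent.Lib.Helper44_PSLnUT
import Cfsg.Agent.Lib.Helper44_PSLnTv

/-!
# Transvections of `PSL_n(F)` are the nontrivial central elements of Sylow `p`-subgroups (helper44)

`IsRootElt p t`: `t ≠ 1` lies in the centre of some Sylow `p`-subgroup; this is invariant under
automorphisms.  For `PSL_{m+3}(F)`, `|F| = p^f`: `IsTv t ↔ IsRootElt p t`.
-/

set_option autoImplicit false
set_option linter.unusedSectionVars false
set_option linter.unusedVariables false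
set_option linter.unusedSimpArgs false

namespace Cfsg.Agent.Lib.Helper44_PSLnSyl

open Matrix Cfsg.Agent.Lib.Helper5_Transv Cfsg.Agent.Lib.Helper44_PSLnUT
  Cfsg.Agent.Lib.Helper44_PSLnTv
open scoped Pointwise

section general

variable {G : Type*} [Group G]

/-- nontrivial central element of a Sylow `p`-subgroup -/
def IsRootElt (p : ℕ) (t : G) : Prop :=
  t ≠ 1 ∧ ∃ S : Sylow p G, t ∈ S ∧ ∀ s ∈ S, s * t = t * s

theorem IsRootElt.map {p : ℕ} {t : G} (ht : IsRootElt p t) (α : MulAut G) : IsRootElt p (α t) := by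
  obtain ⟨h1, S, hS, hc⟩ := ht
  refine ⟨fun h => h1 (by simpa using h), α • S, ?_, ?_⟩
  · show α t ∈ ((α • S : Sylow p G) : Subgroup G)
    rw [Sylow.pointwise_smul_def]
    exact (Subgroup.mem_smul_pointwise_iff_exists _ _ _).mpr ⟨t, hS, rfl⟩
  · intro s hs
    have hs' : s ∈ α • (S : Subgroup G) := hs
    obtain ⟨s0, hs0, rfl⟩ := (Subgroup.mem_smul_pointwise_iff_exists _ _ _).mp hs'
    show α s0 * α t = α t * α s0
    rw [← map_mul, ← map_mul, hc s0 hs0]

theorem isRootElt_map_iff {p : ℕ} {t : G} (α : MulAut G) : IsRootElt p (α t) ↔ IsRootElt p t := by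
  constructor
  · intro h
    have := h.map α⁻¹
    simpa using this
  · intro h
    exact h.map α

end general

variable {F : Type*} [Field F]

theorem isTv_conj {n : ℕ} (g : SpecialLinearGroup (Fin n) F)
    {t : ProjectiveSpecialLinearGroup (Fin n) F} (ht : IsTv t) :
    IsTv (proj g * t * (proj g)⁻¹) := by
  obtain ⟨v, φ, h, hv, hφ, rfl⟩ := ht
  refine ⟨g.1 *ᵥ v, φ ᵥ* (g⁻¹).1, (conj_dot g v φ).trans h,
    Cfsg.Agent.Lib.Helper5_RootSL.mulVec_ne_zero g v hv,
    Cfsg.Agent.Lib.Helper5_RootSL.vecMul_ne_zero g⁻¹ φ hφ, ?_⟩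
  unfold tvP
  rw [← map_inv, ← map_mul, ← map_mul, conj_tvS]

theorem e_ne {m : ℕ} : (0 : Fin (m + 3)) ≠ Fin.last (m + 2) := by
  intro h
  have := congrArg Fin.val h
  simp at this

theorem e_dot_e_zero_last {m : ℕ} :
    (e (Fin.last (m + 2)) : Fin (m + 3) → F) ⬝ᵥ (e (0 : Fin (m + 3)) : Fin (m + 3) → F) = 0 := by
  rw [e_dot]
  simp [e, Pi.single_apply, e_ne.symm]

/-- the standard central transvection lies in `UT` and is central there -/
theorem tvS_std_mem {m : ℕ} (c : F) :
    tvS (e (0 : Fin (m + 3))) (e (Fin.last (m + 2))) e_dot_e_zero_last c ∈ UT (m + 3) F := by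
  rw [mem_UT]
  show IsUT (tv _ _ c)
  unfold tv
  refine ⟨fun i j hij => ?_, fun i => ?_⟩
  · rw [Matrix.add_apply, Matrix.one_apply_ne (ne_of_gt hij), zero_add, Matrix.smul_apply,
      vecMulVec_apply]
    by_cases hi : i = 0
    · subst hi
      exact absurd hij (Fin.not_lt_zero _)
    · simp [e, Pi.single_apply, hi]
  · rw [Matrix.add_apply, Matrix.one_apply_eq, Matrix.smul_apply, vecMulVec_apply]
    by_cases hi : i = 0
    · subst hi
      simp [e, Pi.single_apply, e_ne]
    · simp [e, Pi.single_apply, hi]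

theorem tvS_std_central {m : ℕ} (c : F) (u : SpecialLinearGroup (Fin (m + 3)) F)
    (hu : u ∈ UT (m + 3) F) :
    u * tvS (e (0 : Fin (m + 3))) (e (Fin.last (m + 2))) e_dot_e_zero_last c
      = tvS (e (0 : Fin (m + 3))) (e (Fin.last (m + 2))) e_dot_e_zero_last c * u := by
  apply Subtype.ext
  show u.1 * tv _ _ c = tv _ _ c * u.1
  unfold tv
  rw [mul_add, add_mul, mul_one, one_mul, mul_smul_comm, smul_mul_assoc, mul_vecMulVec,
    vecMulVec_mul]
  congr 2
  have h1 : u.1 *ᵥ (e (0 : Fin (m + 3)) : Fin (m + 3) → F) = e 0 := by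
    funext i
    rw [mulVec, dot_e]
    by_cases hi : i = 0
    · subst hi
      simp [e, hu.2 0]
    · have : (0 : Fin (m + 3)) < i := Fin.pos_iff_ne_zero.mpr hi
      simp [e, Pi.single_apply, hi, hu.1 i 0 this]
  have h2 : (e (Fin.last (m + 2)) : Fin (m + 3) → F) ᵥ* u.1 = e (Fin.last (m + 2)) := by
    funext j
    rw [vecMul, e_dot]
    by_cases hj : j = Fin.last (m + 2)
    · subst hj
      simp [e, hu.2 _]
    · have : j < Fin.last (m + 2) := lt_of_le_of_ne (Fin.le_last j) hj
      simp [e, Pi.single_apply, hj, hu.1 _ j this]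
  rw [h1, h2]


/-- a central element of `UT` is a standard transvection -/
theorem eq_tvS_of_central {m : ℕ} (z : SpecialLinearGroup (Fin (m + 3)) F)
    (hz : z ∈ UT (m + 3) F) (hc : ∀ u ∈ UT (m + 3) F, z * u = u * z) :
    z = tvS (e (0 : Fin (m + 3))) (e (Fin.last (m + 2))) e_dot_e_zero_last
      (z.1 0 (Fin.last (m + 2))) := by
  apply Subtype.ext
  show z.1 = tv _ _ _
  unfold tv
  ext i j
  rw [Matrix.add_apply, Matrix.smul_apply, vecMulVec_apply, smul_eq_mul]
  by_cases hij : i = j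
  · subst hij
    rw [Matrix.one_apply_eq]
    have h1 : z.1 i i = 1 := hz.2 i
    rw [h1]
    by_cases hi : i = 0
    · subst hi
      simp [e, Pi.single_apply, e_ne]
    · simp [e, Pi.single_apply, hi]
  · rw [Matrix.one_apply_ne hij, zero_add]
    by_cases h0 : i = 0 ∧ j = Fin.last (m + 2)
    · obtain ⟨rfl, rfl⟩ := h0
      simp [e]
    · have h1 : z.1 i j = 0 := apply_eq_zero_of_central (m := m + 1) z hc i j hij h0
      rw [h1]
      rw [not_and_or] at h0
      rcases h0 with h0 | h0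
      · simp [e, Pi.single_apply, h0]
      · simp [e, Pi.single_apply, h0]

theorem isTv_iff_isRootElt {m : ℕ} [Fintype F] {p f : ℕ} [hp : Fact p.Prime]
    (hF : Fintype.card F = p ^ f) (t : ProjectiveSpecialLinearGroup (Fin (m + 3)) F) :
    IsTv t ↔ IsRootElt p t := by
  classical
  have hfin : Finite (ProjectiveSpecialLinearGroup (Fin (m + 3)) F) := by
    unfold ProjectiveSpecialLinearGroup
    infer_instance
  obtain ⟨S0, hS0⟩ := exists_sylow_PSL (n := m + 3) hF
  have hn : 3 ≤ m + 3 := by omega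
  constructor
  · rintro ⟨v, φ, h, hv, hφ, rfl⟩
    have h01 : (0 : Fin (m + 3)) ≠ Fin.last (m + 2) := e_ne
    have h02 : (0 : Fin (m + 3)) ≠ 1 := by
      intro h
      have := congrArg Fin.val h
      simp at this
    have h12 : Fin.last (m + 2) ≠ (1 : Fin (m + 3)) := by
      intro h
      have := congrArg Fin.val h
      simp at this
    obtain ⟨g, hg1, hg2⟩ := exists_conj h01 h02 h12 v φ hv hφ h
    -- the standard transvection is a root element
    have hstd : IsRootElt p (tvP (e (0 : Fin (m + 3))) (e (Fin.last (m + 2)))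
        (e_dot_e_zero_last (F := F))) := by
      refine ⟨tvP_ne_one hn _ (Cfsg.Agent.Lib.Helper5_RootSL.e_ne_zero _)
        (Cfsg.Agent.Lib.Helper5_RootSL.e_ne_zero _), S0, ?_, ?_⟩
      · show _ ∈ (S0 : Subgroup (ProjectiveSpecialLinearGroup (Fin (m + 3)) F))
        rw [hS0]
        exact ⟨_, tvS_std_mem 1, rfl⟩
      · intro s hs
        have hs' : s ∈ UTbar (m + 3) F := by rw [← hS0]; exact hs
        obtain ⟨u, hu, rfl⟩ := hs'
        show proj u * proj _ = proj _ * proj u
        rw [← map_mul, ← map_mul, tvS_std_central 1 u hu]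
    have := hstd.map (MulAut.conj (proj g))
    have e1 : (MulAut.conj (proj g)) (tvP (e (0 : Fin (m + 3))) (e (Fin.last (m + 2)))
        (e_dot_e_zero_last (F := F))) = tvP v φ h := by
      rw [MulAut.conj_apply]
      unfold tvP
      rw [← map_inv, ← map_mul, ← map_mul, conj_tvS]
      congr 1
      apply Subtype.ext
      show tv _ _ 1 = tv _ _ 1
      rw [hg1, hg2]
    rw [e1] at this
    exact this
  · rintro ⟨ht1, S, hS, hc⟩
    obtain ⟨x, hx⟩ := MulAction.exists_smul_eq (ProjectiveSpecialLinearGroup (Fin (m + 3)) F) S S0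
    -- move `t` into `S0`
    set t0 := x * t * x⁻¹ with ht0
    have ht0S : t0 ∈ (S0 : Subgroup (ProjectiveSpecialLinearGroup (Fin (m + 3)) F)) := by
      rw [← hx, Sylow.coe_subgroup_smul]
      exact (Subgroup.mem_smul_pointwise_iff_exists _ _ _).mpr ⟨t, hS, rfl⟩
    have hc0 : ∀ s ∈ (S0 : Subgroup (ProjectiveSpecialLinearGroup (Fin (m + 3)) F)), s * t0 = t0 * s := by
      intro s hs
      rw [← hx, Sylow.coe_subgroup_smul] at hs
      obtain ⟨s1, hs1, rfl⟩ := (Subgroup.mem_smul_pointwise_iff_exists _ _ _).mp hs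
      rw [MulAut.smul_def, MulAut.conj_apply, ht0]
      have := hc s1 hs1
      calc x * s1 * x⁻¹ * (x * t * x⁻¹) = x * (s1 * t) * x⁻¹ := by group
        _ = x * (t * s1) * x⁻¹ := by rw [this]
        _ = x * t * x⁻¹ * (x * s1 * x⁻¹) := by group
    rw [hS0] at ht0S hc0
    obtain ⟨z, hz, hzt⟩ := ht0S
    have hzc : ∀ u ∈ UT (m + 3) F, z * u = u * z := by
      intro u hu
      have h1 := hc0 (proj u) ⟨u, hu, rfl⟩
      rw [← hzt] at h1
      have h2 : proj (u * z) = proj (z * u) := by
        rw [map_mul, map_mul]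
        exact h1
      exact (mk_injOn _ _ ((UT (m + 3) F).mul_mem hu hz) ((UT (m + 3) F).mul_mem hz hu) h2).symm
    have hz' := eq_tvS_of_central z hz hzc
    set c := z.1 0 (Fin.last (m + 2)) with hcdef
    have hcne : c ≠ 0 := by
      intro h0
      rw [h0, tvS_zero] at hz'
      have : t0 = 1 := by
        rw [← hzt, hz']
        exact map_one _
      rw [ht0] at this
      apply ht1
      have h3 : t = x⁻¹ * (x * t * x⁻¹) * x := by group
      rw [h3, this]
      group
    have ht0tv : IsTv t0 := by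
      refine ⟨c • e 0, e (Fin.last (m + 2)), ?_, smul_ne_zero hcne
        (Cfsg.Agent.Lib.Helper5_RootSL.e_ne_zero _),
        Cfsg.Agent.Lib.Helper5_RootSL.e_ne_zero _, ?_⟩
      · rw [dotProduct_smul, e_dot_e_zero_last, smul_zero]
      · rw [← hzt, hz']
        unfold tvP
        show proj _ = proj _
        congr 1
        apply Subtype.ext
        show tv _ _ c = tv _ _ 1
        rw [tv_smul_left, one_mul]
    obtain ⟨g, hg⟩ := proj_surjective x⁻¹
    have := isTv_conj g ht0tv
    rw [hg, ht0] at this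
    have h3 : x⁻¹ * (x * t * x⁻¹) * x⁻¹⁻¹ = t := by group
    rw [h3] at this
    exact this

/-- automorphisms of `PSL_n` preserve transvections -/
theorem isTv_map_iff {m : ℕ} [Fintype F] {p f : ℕ} [hp : Fact p.Prime]
    (hF : Fintype.card F = p ^ f) (α : MulAut (ProjectiveSpecialLinearGroup (Fin (m + 3)) F))
    (t : ProjectiveSpecialLinearGroup (Fin (m + 3)) F) : IsTv (α t) ↔ IsTv t := by
  rw [isTv_iff_isRootElt hF, isTv_iff_isRootElt hF, isRootElt_map_iff]

end Cfsg.Agent.Lib.Helper44_PSLnSyl
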