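import Mathlib
import Cfsg.Agent.Lib.Helper5_Transv
import Cfsg.Agent.Lib.Helper44_PSLnUT
import Cfsg.Agent.Lib.Helper44_PSLnTv
import Cfsg.Agent.Lib.Helper44_PSLnSyl

/-!
# Definitions for the fusion system of `PSL_n(F)` in the defining characteristic (helper88, S5163)

* `IsUpper g`: `g ∈ SL_n(F)` is upper triangular;
* `hh hij t`: the diagonal element of `SL_n(F)` with `t` at `i` and `t⁻¹` at `j`;
* `zc c`: the central transvection `1 + c E_{0,last}` of `UT (m+3) F`;
* `QQ m F`: the family (first-row radical, last-column radical) of subgroups of `PSL_{m+3}(F)`.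
-/

set_option autoImplicit false

namespace Cfsg.Agent.Lib.Helper88_PSLnFus

open Matrix Cfsg.Agent.Lib.Helper5_Transv Cfsg.Agent.Lib.Helper44_PSLnUT
  Cfsg.Agent.Lib.Helper44_PSLnTv Cfsg.Agent.Lib.Helper44_PSLnSyl

variable {n : ℕ} {F : Type*} [Field F]

/-- upper triangular elements of `SL_n(F)` -/
def IsUpper (g : SpecialLinearGroup (Fin n) F) : Prop :=
  ∀ i j : Fin n, j < i → g.1 i j = 0

/-- the diagonal entries of `hh` -/
def hhFun (i j : Fin n) (t : Fˣ) : Fin n → F :=
  fun k => if k = i then (t : F) else if k = j then ((t⁻¹ : Fˣ) : F) else 1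

theorem prod_hhFun {i j : Fin n} (hij : i ≠ j) (t : Fˣ) : ∏ k, hhFun i j t k = 1 := by
  rw [Finset.prod_eq_mul i j hij]
  · unfold hhFun
    rw [if_pos rfl, if_neg hij.symm, if_pos rfl]
    exact Units.mul_inv t
  · intro c _ hc
    unfold hhFun
    rw [if_neg hc.1, if_neg hc.2]
  · intro h; exact absurd (Finset.mem_univ i) h
  · intro h; exact absurd (Finset.mem_univ j) h

/-- the diagonal element of `SL_n(F)` with `t` at `i` and `t⁻¹` at `j` -/
def hh {i j : Fin n} (hij : i ≠ j) (t : Fˣ) : SpecialLinearGroup (Fin n) F :=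
  ⟨Matrix.diagonal (hhFun i j t), by rw [Matrix.det_diagonal, prod_hhFun hij]⟩

theorem hh_coe {i j : Fin n} (hij : i ≠ j) (t : Fˣ) :
    (hh hij t).1 = Matrix.diagonal (hhFun i j t) := rfl

/-- the central transvection `1 + c E_{0,last}` -/
def zc {m : ℕ} (c : F) : SpecialLinearGroup (Fin (m + 3)) F :=
  tvS (e (0 : Fin (m + 3))) (e (Fin.last (m + 2))) e_dot_e_zero_last c

/-- the two radicals: `false ↦` transvections with centre `e 0` (first row),
`true ↦` transvections with axis `e last` (last column) -/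
def QQ (m : ℕ) (F : Type*) [Field F] :
    Bool → Subgroup (ProjectiveSpecialLinearGroup (Fin (m + 3)) F) :=
  fun b => cond b (Hp (e (Fin.last (m + 2)) : Fin (m + 3) → F)) (Pt (e (0 : Fin (m + 3)) : Fin (m + 3) → F))

theorem QQ_false (m : ℕ) : QQ m F false = Pt (e (0 : Fin (m + 3)) : Fin (m + 3) → F) := rfl

theorem QQ_true (m : ℕ) : QQ m F true = Hp (e (Fin.last (m + 2)) : Fin (m + 3) → F) := rfl

end Cfsg.Agent.Lib.Helper88_PSLnFus
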