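import Mathlib
import Cfsg.Agent.Lib.Helper5_Transv
import Cfsg.Agent.Lib.Helper44_PSLnUT
import Cfsg.Agent.Lib.Helper88_PSLnFusDefs

/-!
# S5163-GEN_C (architect helper88; author helper10): the diagonal elements `hh hij t` normalise `UT`.
-/

set_option autoImplicit false

namespace Cfsg.Agent.Lib.Helper10_S5163_GEN_C

open Matrix Cfsg.Agent.Lib.Helper5_Transv Cfsg.Agent.Lib.Helper44_PSLnUT
  Cfsg.Agent.Lib.Helper88_PSLnFus

variable {F : Type*} [Field F]

theorem hhFun_mul_inv {n : ℕ} (i j : Fin n) (t : Fˣ) (k : Fin n) :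
    hhFun i j t k * hhFun i j t⁻¹ k = 1 := by
  unfold hhFun
  split_ifs <;> simp

theorem hh_inv {n : ℕ} {i j : Fin n} (hij : i ≠ j) (t : Fˣ) :
    (hh hij t : SpecialLinearGroup (Fin n) F)⁻¹ = hh hij t⁻¹ := by
  apply inv_eq_of_mul_eq_one_right
  apply Subtype.ext
  show Matrix.diagonal (hhFun i j t) * Matrix.diagonal (hhFun i j t⁻¹) = 1
  rw [Matrix.diagonal_mul_diagonal]
  have : (fun k => hhFun i j t k * hhFun i j t⁻¹ k) = fun _ => (1 : F) := by
    funext k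
    exact hhFun_mul_inv i j t k
  rw [this, Matrix.diagonal_one]

/-- **GEN-C**  the diagonal elements `hh hij t` normalise `UT`. -/
theorem GEN_C {n : ℕ} {i j : Fin n} (hij : i ≠ j) (t : Fˣ) :
    ∀ u ∈ UT n F, hh hij t * u * (hh hij t)⁻¹ ∈ UT n F := by
  intro u hu
  rw [hh_inv, mem_UT]
  have hcoe : ((hh hij t * u * hh hij t⁻¹ : SpecialLinearGroup (Fin n) F) :
      Matrix (Fin n) (Fin n) F) =
      Matrix.diagonal (hhFun i j t) * u.1 * Matrix.diagonal (hhFun i j t⁻¹) := rfl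
  rw [hcoe]
  have hent : ∀ k l, (Matrix.diagonal (hhFun i j t) * u.1 * Matrix.diagonal (hhFun i j t⁻¹)) k l =
      hhFun i j t k * u.1 k l * hhFun i j t⁻¹ l := by
    intro k l
    rw [Matrix.mul_diagonal, Matrix.diagonal_mul]
  rw [mem_UT] at hu
  refine ⟨fun k l hlk => ?_, fun k => ?_⟩
  · rw [hent, hu.1 k l hlk, mul_zero, zero_mul]
  · rw [hent, hu.2 k, mul_one, hhFun_mul_inv]

end Cfsg.Agent.Lib.Helper10_S5163_GEN_C
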