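import Mathlib
import Cfsg.Agent.Lib.Helper5_Transv
import Cfsg.Agent.Lib.Helper44_PSLnUT
import Cfsg.Agent.Lib.Helper44_PSLnTv
import Cfsg.Agent.Lib.Helper44_PSLnSyl
import Cfsg.Agent.Lib.Helper88_PSLnFusDefs

/-!
# S5163-SC_B (architect helper88; author helper10): every nontrivial transvection of `PSL_{m+3}` is
conjugate to `proj (zc c)`.
-/

set_option autoImplicit false

namespace Cfsg.Agent.Lib.Helper10_S5163_SC_B

open Matrix Cfsg.Agent.Lib.Helper5_Transv Cfsg.Agent.Lib.Helper44_PSLnUT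
  Cfsg.Agent.Lib.Helper44_PSLnTv Cfsg.Agent.Lib.Helper44_PSLnSyl Cfsg.Agent.Lib.Helper88_PSLnFus

variable {F : Type*} [Field F]

/-- **SC-B**  Every nontrivial transvection of `PSL_{m+3}` is conjugate to `proj (zc c)`. -/
theorem SC_B (m : ℕ) (c : F) (hc : c ≠ 0) (v φ : Fin (m + 3) → F) (h : φ ⬝ᵥ v = 0)
    (hv : v ≠ 0) (hφ : φ ≠ 0) :
    ∃ g : SpecialLinearGroup (Fin (m + 3)) F,
      proj g * proj (zc (m := m) c) * (proj g)⁻¹ = tvP v φ h := by
  have h01 : (0 : Fin (m + 3)) ≠ Fin.last (m + 2) := by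
    intro h
    have := congrArg Fin.val h
    simp at this
  have h02 : (0 : Fin (m + 3)) ≠ 1 := by
    intro h
    have := congrArg Fin.val h
    simp at this
  have h12 : Fin.last (m + 2) ≠ (1 : Fin (m + 3)) := by
    intro h
    have := congrArg Fin.val h
    simp at this
  have hv' : c⁻¹ • v ≠ 0 := smul_ne_zero (inv_ne_zero hc) hv
  have h' : φ ⬝ᵥ (c⁻¹ • v) = 0 := by rw [dotProduct_smul, h, smul_zero]
  obtain ⟨g, hg1, hg2⟩ := exists_conj h01 h02 h12 (c⁻¹ • v) φ hv' hφ h'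
  refine ⟨g, ?_⟩
  rw [← map_inv, ← map_mul, ← map_mul]
  unfold tvP zc
  congr 1
  rw [conj_tvS]
  apply Subtype.ext
  show tv (g.1 *ᵥ e 0) (e (Fin.last (m + 2)) ᵥ* (g⁻¹).1) c = tv v φ 1
  rw [hg1, hg2, tv_smul_left, mul_inv_cancel₀ hc]

end Cfsg.Agent.Lib.Helper10_S5163_SC_B
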