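import Mathlib
import Cfsg.Prelude.Def_ClassicalGeometry
import Cfsg.Agent.Lib.Helper13_Symp

set_option autoImplicit false

namespace Cfsg.Agent.Lib.Helper13_SympTrans

open Matrix Cfsg.Agent.Lib.Helper13_Symp

variable {F : Type*} [Field F] (m : ℕ)

/-- The subgroup of the symplectic group generated by symplectic transvections. -/
def transvSubgroup (F : Type*) [Field F] (m : ℕ) : Subgroup (Matrix.symplecticGroup (Fin m) F) :=
  Subgroup.closure {A : Matrix.symplecticGroup (Fin m) F | ∃ (w : Fin m ⊕ Fin m → F) (c : F),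
    (A : Matrix (Fin m ⊕ Fin m) (Fin m ⊕ Fin m) F) = Cfsg.sympTransvection m w c}

/-- The transvection as an element of the symplectic group. -/
def transv (w : Fin m ⊕ Fin m → F) (c : F) : Matrix.symplecticGroup (Fin m) F :=
  ⟨Cfsg.sympTransvection m w c, sympTransvection_mem m w c⟩

theorem transv_mem (w : Fin m ⊕ Fin m → F) (c : F) : transv m w c ∈ transvSubgroup F m :=
  Subgroup.subset_closure ⟨w, c, rfl⟩

theorem transv_mulVec (w : Fin m ⊕ Fin m → F) (c : F) (x : Fin m ⊕ Fin m → F) :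
    (transv m w c : Matrix (Fin m ⊕ Fin m) (Fin m ⊕ Fin m) F) *ᵥ x
      = x + (c * Cfsg.sympForm m F x w) • w :=
  sympTransvection_mulVec m w c x

/-- Nondegeneracy of `sympForm`. -/
theorem exists_sympForm_ne_zero {u : Fin m ⊕ Fin m → F} (hu : u ≠ 0) :
    ∃ w, Cfsg.sympForm m F u w ≠ 0 := by
  by_contra hcon
  push Not at hcon
  apply hu
  have h1 : u ᵥ* Matrix.J (Fin m) F = 0 := by
    rw [← dotProduct_eq_zero_iff]
    intro w
    have := hcon w
    unfold Cfsg.sympForm at this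
    rw [dotProduct_mulVec] at this
    exact this
  have h2 : (u ᵥ* Matrix.J (Fin m) F) ᵥ* Matrix.J (Fin m) F = 0 := by rw [h1]; simp
  rw [Matrix.vecMul_vecMul, Matrix.J_squared, Matrix.vecMul_neg, Matrix.vecMul_one] at h2
  exact neg_eq_zero.mp h2

/-- One transvection moves `u` to `u'` when `f(u,u') ≠ 0`. -/
theorem exists_transv_map_of_ne_zero (u u' : Fin m ⊕ Fin m → F)
    (h : Cfsg.sympForm m F u u' ≠ 0) :
    ∃ A ∈ transvSubgroup F m, (A : Matrix (Fin m ⊕ Fin m) (Fin m ⊕ Fin m) F) *ᵥ u = u' := by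
  refine ⟨transv m (u - u') (Cfsg.sympForm m F u u')⁻¹, transv_mem m _ _, ?_⟩
  rw [transv_mulVec, sympForm_sub_right, sympForm_self, zero_sub, mul_neg, inv_mul_cancel₀ h]
  simp

/-- The transvection subgroup is transitive on nonzero vectors. -/
theorem exists_transv_map (u u' : Fin m ⊕ Fin m → F) (hu : u ≠ 0) (hu' : u' ≠ 0) :
    ∃ A ∈ transvSubgroup F m, (A : Matrix (Fin m ⊕ Fin m) (Fin m ⊕ Fin m) F) *ᵥ u = u' := by
  by_cases h : Cfsg.sympForm m F u u' ≠ 0
  · exact exists_transv_map_of_ne_zero m u u' h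
  · push Not at h
    -- find `w` with `f(u,w) ≠ 0` and `f(w,u') ≠ 0`
    obtain ⟨w, hw1, hw2⟩ : ∃ w, Cfsg.sympForm m F u w ≠ 0 ∧ Cfsg.sympForm m F w u' ≠ 0 := by
      obtain ⟨w₁, hw₁⟩ := exists_sympForm_ne_zero m hu
      obtain ⟨w₂, hw₂⟩ := exists_sympForm_ne_zero m hu'
      by_cases h1 : Cfsg.sympForm m F u' w₁ ≠ 0
      · refine ⟨w₁, hw₁, ?_⟩
        rw [sympForm_swap]; exact neg_ne_zero.mpr h1
      · push Not at h1
        by_cases h2 : Cfsg.sympForm m F u w₂ ≠ 0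
        · refine ⟨w₂, h2, ?_⟩
          rw [sympForm_swap]; exact neg_ne_zero.mpr hw₂
        · push Not at h2
          refine ⟨w₁ + w₂, ?_, ?_⟩
          · rw [sympForm_add_right, h2, add_zero]; exact hw₁
          · rw [sympForm_swap, sympForm_add_right, h1, zero_add]; exact neg_ne_zero.mpr hw₂
    obtain ⟨A, hA, hAu⟩ := exists_transv_map_of_ne_zero m u w hw1
    obtain ⟨B, hB, hBw⟩ := exists_transv_map_of_ne_zero m w u' hw2
    refine ⟨B * A, Subgroup.mul_mem _ hB hA, ?_⟩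
    rw [Submonoid.coe_mul, ← Matrix.mulVec_mulVec, hAu, hBw]

/-- Fixing `u`, one transvection moves `v` to `v'` when `f(v,v') ≠ 0` and `f(u,v) = f(u,v')`. -/
theorem exists_transv_fix_map_of_ne_zero (u v v' : Fin m ⊕ Fin m → F)
    (huv : Cfsg.sympForm m F u v = Cfsg.sympForm m F u v')
    (h : Cfsg.sympForm m F v v' ≠ 0) :
    ∃ A ∈ transvSubgroup F m, (A : Matrix (Fin m ⊕ Fin m) (Fin m ⊕ Fin m) F) *ᵥ u = u ∧
      (A : Matrix (Fin m ⊕ Fin m) (Fin m ⊕ Fin m) F) *ᵥ v = v' := by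
  refine ⟨transv m (v - v') (Cfsg.sympForm m F v v')⁻¹, transv_mem m _ _, ?_, ?_⟩
  · rw [transv_mulVec, sympForm_sub_right, huv, sub_self, mul_zero, zero_smul, add_zero]
  · rw [transv_mulVec, sympForm_sub_right, sympForm_self, zero_sub, mul_neg, inv_mul_cancel₀ h]
    simp

/-- The transvection subgroup is transitive on hyperbolic pairs with the same first vector. -/
theorem exists_transv_fix_map (u v v' : Fin m ⊕ Fin m → F)
    (huv : Cfsg.sympForm m F u v = 1) (huv' : Cfsg.sympForm m F u v' = 1) :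
    ∃ A ∈ transvSubgroup F m, (A : Matrix (Fin m ⊕ Fin m) (Fin m ⊕ Fin m) F) *ᵥ u = u ∧
      (A : Matrix (Fin m ⊕ Fin m) (Fin m ⊕ Fin m) F) *ᵥ v = v' := by
  by_cases h : Cfsg.sympForm m F v v' ≠ 0
  · exact exists_transv_fix_map_of_ne_zero m u v v' (huv.trans huv'.symm) h
  · push Not at h
    have h1 : Cfsg.sympForm m F u (u + v) = 1 := by
      rw [sympForm_add_right, sympForm_self, zero_add, huv]
    have h2 : Cfsg.sympForm m F v (u + v) ≠ 0 := by
      rw [sympForm_add_right, sympForm_self, add_zero, sympForm_swap, huv]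
      exact neg_ne_zero.mpr one_ne_zero
    have h3 : Cfsg.sympForm m F (u + v) v' ≠ 0 := by
      rw [sympForm_add_left, huv', h, add_zero]
      exact one_ne_zero
    obtain ⟨A, hA, hAu, hAv⟩ :=
      exists_transv_fix_map_of_ne_zero m u v (u + v) (huv.trans h1.symm) h2
    obtain ⟨B, hB, hBu, hBv⟩ :=
      exists_transv_fix_map_of_ne_zero m u (u + v) v' (h1.trans huv'.symm) h3
    refine ⟨B * A, Subgroup.mul_mem _ hB hA, ?_, ?_⟩
    · rw [Submonoid.coe_mul, ← Matrix.mulVec_mulVec, hAu, hBu]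
    · rw [Submonoid.coe_mul, ← Matrix.mulVec_mulVec, hAv, hBv]

/-- The transvection subgroup is transitive on hyperbolic pairs. -/
theorem exists_transv_map_pair (u v u' v' : Fin m ⊕ Fin m → F)
    (h : Cfsg.sympForm m F u v = 1) (h' : Cfsg.sympForm m F u' v' = 1) :
    ∃ A ∈ transvSubgroup F m, (A : Matrix (Fin m ⊕ Fin m) (Fin m ⊕ Fin m) F) *ᵥ u = u' ∧
      (A : Matrix (Fin m ⊕ Fin m) (Fin m ⊕ Fin m) F) *ᵥ v = v' := by
  have hu : u ≠ 0 := by
    rintro rfl
    rw [sympForm_zero_left] at h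
    exact zero_ne_one h
  have hu' : u' ≠ 0 := by
    rintro rfl
    rw [sympForm_zero_left] at h'
    exact zero_ne_one h'
  obtain ⟨A, hA, hAu⟩ := exists_transv_map m u u' hu hu'
  have h1 : Cfsg.sympForm m F u' ((A : Matrix (Fin m ⊕ Fin m) (Fin m ⊕ Fin m) F) *ᵥ v) = 1 := by
    rw [← hAu, sympForm_mulVec_mulVec_of_mem m A.2, h]
  obtain ⟨B, hB, hBu, hBv⟩ := exists_transv_fix_map m u' _ v' h1 h'
  refine ⟨B * A, Subgroup.mul_mem _ hB hA, ?_, ?_⟩
  · rw [Submonoid.coe_mul, ← Matrix.mulVec_mulVec, hAu, hBu]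
  · rw [Submonoid.coe_mul, ← Matrix.mulVec_mulVec, hBv]

end Cfsg.Agent.Lib.Helper13_SympTrans
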