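import Mathlib
import Cfsg.Agent.Lib.Helper13_SympTrans

set_option autoImplicit false
set_option linter.unusedSimpArgs false

/-!
Order of the symplectic group `Sp_{2m}(q)`: the stabiliser of the standard hyperbolic pair in
`Sp_{2(k+1)}` is (in bijection with) `Sp_{2k}` via a block-diagonal embedding, the number of hyperbolic
pairs is `(q^{2n} - 1) q^{2n-1}`, and orbit-stabiliser.
-/

namespace Cfsg.Agent.Lib.Helper5_SpOrder

open Matrix Cfsg.Agent.Lib.Helper13_Symp Cfsg.Agent.Lib.Helper13_SympTrans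

variable {F : Type*} [Field F]

/-- Reindexing `(1 ⊕ 1) ⊕ (k ⊕ k) ≃ (k+1) ⊕ (k+1)`. -/
def spE (k : ℕ) : (Fin 1 ⊕ Fin 1) ⊕ (Fin k ⊕ Fin k) ≃ Fin (k + 1) ⊕ Fin (k + 1) where
  toFun
    | .inl (.inl _) => .inl 0
    | .inl (.inr _) => .inr 0
    | .inr (.inl i) => .inl i.succ
    | .inr (.inr i) => .inr i.succ
  invFun
    | .inl i => Fin.cases (.inl (.inl 0)) (fun j => .inr (.inl j)) i
    | .inr i => Fin.cases (.inl (.inr 0)) (fun j => .inr (.inr j)) i
  left_inv := by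
    rintro ((x | x) | (x | x))
    · simp [Subsingleton.elim x 0]
    · simp [Subsingleton.elim x 0]
    · simp
    · simp
  right_inv := by
    rintro (x | x)
    · refine Fin.cases ?_ (fun j => ?_) x <;> simp
    · refine Fin.cases ?_ (fun j => ?_) x <;> simp

@[simp] lemma spE_inl_inl (k : ℕ) (x : Fin 1) : spE k (.inl (.inl x)) = .inl 0 := rfl
@[simp] lemma spE_inl_inr (k : ℕ) (x : Fin 1) : spE k (.inl (.inr x)) = .inr 0 := rfl
@[simp] lemma spE_inr_inl (k : ℕ) (i : Fin k) : spE k (.inr (.inl i)) = .inl i.succ := rfl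
@[simp] lemma spE_inr_inr (k : ℕ) (i : Fin k) : spE k (.inr (.inr i)) = .inr i.succ := rfl

/-- `J` for rank `k+1` is block diagonal `J_1 ⊕ J_k` after reindexing. -/
lemma J_submatrix (k : ℕ) :
    (J (Fin (k + 1)) F).submatrix (spE k) (spE k) = fromBlocks (J (Fin 1) F) 0 0 (J (Fin k) F) := by
  ext x y
  rcases x with (x | x) | (x | x) <;> rcases y with (y | y) | (y | y) <;>
    simp [J, Matrix.one_apply, Fin.succ_ne_zero, (Fin.succ_ne_zero _).symm, Subsingleton.elim (α := Fin 1) _ 0]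

lemma mem_sp_succ_iff (k : ℕ) (M : Matrix (Fin (k + 1) ⊕ Fin (k + 1)) (Fin (k + 1) ⊕ Fin (k + 1)) F) :
    M ∈ symplecticGroup (Fin (k + 1)) F ↔
      (M.submatrix (spE k) (spE k))ᵀ * fromBlocks (J (Fin 1) F) 0 0 (J (Fin k) F) * M.submatrix (spE k) (spE k)
        = fromBlocks (J (Fin 1) F) 0 0 (J (Fin k) F) := by
  rw [SymplecticGroup.mem_iff', ← J_submatrix, Matrix.transpose_submatrix,
    Matrix.submatrix_mul_equiv, Matrix.submatrix_mul_equiv]
  constructor
  · intro h; rw [h]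
  · intro h
    have := (Matrix.reindex (spE k).symm (spE k).symm).injective (a₁ := Mᵀ * J (Fin (k + 1)) F * M) (a₂ := J (Fin (k + 1)) F)
    apply this
    simpa [Matrix.reindex_apply] using h

/-- The block-diagonal embedding of a `2k × 2k` matrix. -/
def blk (k : ℕ) (N : Matrix (Fin k ⊕ Fin k) (Fin k ⊕ Fin k) F) :
    Matrix (Fin (k + 1) ⊕ Fin (k + 1)) (Fin (k + 1) ⊕ Fin (k + 1)) F :=
  (fromBlocks (1 : Matrix (Fin 1 ⊕ Fin 1) (Fin 1 ⊕ Fin 1) F) 0 0 N).submatrix (spE k).symm (spE k).symm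

lemma blk_submatrix (k : ℕ) (N : Matrix (Fin k ⊕ Fin k) (Fin k ⊕ Fin k) F) :
    (blk k N).submatrix (spE k) (spE k) = fromBlocks 1 0 0 N := by
  unfold blk
  ext x y
  simp

lemma blk_mem (k : ℕ) (N : Matrix (Fin k ⊕ Fin k) (Fin k ⊕ Fin k) F) (hN : N ∈ symplecticGroup (Fin k) F) :
    blk k N ∈ symplecticGroup (Fin (k + 1)) F := by
  rw [mem_sp_succ_iff, blk_submatrix, fromBlocks_transpose, fromBlocks_multiply, fromBlocks_multiply]
  rw [SymplecticGroup.mem_iff'] at hN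
  simp [hN]

/-- the standard hyperbolic pair -/
def e0 (k : ℕ) : Fin (k + 1) ⊕ Fin (k + 1) → F := Pi.single (Sum.inl 0) 1
def f0 (k : ℕ) : Fin (k + 1) ⊕ Fin (k + 1) → F := Pi.single (Sum.inr 0) 1

lemma blk_mulVec_e0 (k : ℕ) (N : Matrix (Fin k ⊕ Fin k) (Fin k ⊕ Fin k) F) :
    blk k N *ᵥ e0 k = e0 k := by
  unfold e0
  rw [Matrix.mulVec_single_one]
  ext i
  rcases i with i | i <;> refine Fin.cases ?_ (fun j => ?_) i <;>
    simp [blk, spE, Matrix.col_apply, Matrix.one_apply, Pi.single_apply]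

lemma blk_mulVec_f0 (k : ℕ) (N : Matrix (Fin k ⊕ Fin k) (Fin k ⊕ Fin k) F) :
    blk k N *ᵥ f0 k = f0 k := by
  unfold f0
  rw [Matrix.mulVec_single_one]
  ext i
  rcases i with i | i <;> refine Fin.cases ?_ (fun j => ?_) i <;>
    simp [blk, spE, Matrix.col_apply, Matrix.one_apply, Pi.single_apply]

lemma eq_blk_of_fix (k : ℕ) (M : Matrix (Fin (k + 1) ⊕ Fin (k + 1)) (Fin (k + 1) ⊕ Fin (k + 1)) F)
    (hM : M ∈ symplecticGroup (Fin (k + 1)) F) (he : M *ᵥ e0 k = e0 k) (hf : M *ᵥ f0 k = f0 k) :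
    (M.submatrix (spE k) (spE k)).toBlocks₂₂ ∈ symplecticGroup (Fin k) F ∧
      M = blk k (M.submatrix (spE k) (spE k)).toBlocks₂₂ := by
  set M' := M.submatrix (spE k) (spE k) with hM'
  have hcol_e : ∀ i, M i (Sum.inl 0) = (e0 k : _ → F) i := by
    intro i
    have := congrFun he i
    unfold e0 at this
    rw [Matrix.mulVec_single_one] at this
    exact this
  have hcol_f : ∀ i, M i (Sum.inr 0) = (f0 k : _ → F) i := by
    intro i
    have := congrFun hf i
    unfold f0 at this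
    rw [Matrix.mulVec_single_one] at this
    exact this
  have hA : M'.toBlocks₁₁ = 1 := by
    ext x y
    rcases x with x | x <;> rcases y with y | y <;>
      simp [M', toBlocks₁₁, hcol_e, hcol_f, e0, f0, Matrix.one_apply, Subsingleton.elim (α := Fin 1) _ 0]
  have hC : M'.toBlocks₂₁ = 0 := by
    ext x y
    rcases x with x | x <;> rcases y with y | y <;>
      simp [M', toBlocks₂₁, hcol_e, hcol_f, e0, f0, Fin.succ_ne_zero]
  have hfb : M' = fromBlocks 1 M'.toBlocks₁₂ 0 M'.toBlocks₂₂ := by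
    conv_lhs => rw [← fromBlocks_toBlocks M', hA, hC]
  rw [mem_sp_succ_iff, ← hM', hfb, fromBlocks_transpose, fromBlocks_multiply, fromBlocks_multiply] at hM
  obtain ⟨-, h12, -, h22⟩ := fromBlocks_inj.mp hM
  simp only [transpose_one, transpose_zero, Matrix.one_mul, Matrix.mul_zero, add_zero, Matrix.zero_mul,
    zero_add, Matrix.mul_one] at h12 h22
  have hB : M'.toBlocks₁₂ = 0 := by
    have h1 : J (Fin 1) F * (J (Fin 1) F * M'.toBlocks₁₂) = 0 := by rw [h12, Matrix.mul_zero]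
    rw [← Matrix.mul_assoc, J_squared, Matrix.neg_mul, Matrix.one_mul, neg_eq_zero] at h1
    exact h1
  rw [hB] at h22
  simp only [transpose_zero, Matrix.zero_mul, Matrix.mul_zero, zero_add] at h22
  refine ⟨SymplecticGroup.mem_iff'.mpr h22, ?_⟩
  unfold blk
  rw [hB] at hfb
  rw [← hfb, hM']
  ext i j
  simp

/-- Hyperbolic pairs. -/
def HP (n : ℕ) (F : Type*) [Field F] : Type _ :=
  {p : (Fin n ⊕ Fin n → F) × (Fin n ⊕ Fin n → F) // Cfsg.sympForm n F p.1 p.2 = 1}

instance (n : ℕ) : MulAction (symplecticGroup (Fin n) F) (HP n F) where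
  smul g p := ⟨(g.1 *ᵥ p.1.1, g.1 *ᵥ p.1.2), by
    rw [sympForm_mulVec_mulVec_of_mem n g.2]; exact p.2⟩
  one_smul p := by
    apply Subtype.ext
    show ((1 : symplecticGroup (Fin n) F).1 *ᵥ p.1.1, (1 : symplecticGroup (Fin n) F).1 *ᵥ p.1.2) = p.1
    simp
  mul_smul g h p := by
    apply Subtype.ext
    show ((g * h).1 *ᵥ p.1.1, (g * h).1 *ᵥ p.1.2) = (g.1 *ᵥ (h.1 *ᵥ p.1.1), g.1 *ᵥ (h.1 *ᵥ p.1.2))
    simp [Matrix.mulVec_mulVec]

lemma smul_HP_val (n : ℕ) (g : symplecticGroup (Fin n) F) (p : HP n F) :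
    (g • p).1 = (g.1 *ᵥ p.1.1, g.1 *ᵥ p.1.2) := rfl

instance (n : ℕ) : MulAction.IsPretransitive (symplecticGroup (Fin n) F) (HP n F) where
  exists_smul_eq p p' := by
    obtain ⟨A, -, h1, h2⟩ := exists_transv_map_pair n p.1.1 p.1.2 p'.1.1 p'.1.2 p.2 p'.2
    refine ⟨A, ?_⟩
    apply Subtype.ext
    rw [smul_HP_val, h1, h2]

/-- the standard hyperbolic pair `(f0, e0)` -/
def hp0 (k : ℕ) : HP (k + 1) F := ⟨(f0 k, e0 k), by
  rw [sympForm_eq]
  simp [f0, e0, Fin.sum_univ_succ]⟩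

lemma mem_stabilizer_hp0 (k : ℕ) (g : symplecticGroup (Fin (k + 1)) F) :
    g ∈ MulAction.stabilizer (symplecticGroup (Fin (k + 1)) F) (hp0 k : HP (k + 1) F) ↔
      g.1 *ᵥ e0 k = e0 k ∧ g.1 *ᵥ f0 k = f0 k := by
  rw [MulAction.mem_stabilizer_iff]
  constructor
  · intro h
    have h1 := congrArg Subtype.val h
    rw [smul_HP_val] at h1
    simp only [hp0, Prod.mk.injEq] at h1
    exact ⟨h1.2, h1.1⟩
  · rintro ⟨h1, h2⟩
    apply Subtype.ext
    rw [smul_HP_val]
    simp only [hp0, h1, h2]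

/-- The stabiliser of the standard hyperbolic pair is `Sp_{2k}`. -/
noncomputable def stabEquiv (k : ℕ) :
    MulAction.stabilizer (symplecticGroup (Fin (k + 1)) F) (hp0 k : HP (k + 1) F) ≃ symplecticGroup (Fin k) F where
  toFun g := ⟨(g.1.1.submatrix (spE k) (spE k)).toBlocks₂₂,
    (eq_blk_of_fix k g.1.1 g.1.2 ((mem_stabilizer_hp0 k g.1).mp g.2).1 ((mem_stabilizer_hp0 k g.1).mp g.2).2).1⟩
  invFun N := ⟨⟨blk k N.1, blk_mem k N.1 N.2⟩, (mem_stabilizer_hp0 k _).mpr ⟨blk_mulVec_e0 k N.1, blk_mulVec_f0 k N.1⟩⟩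
  left_inv g := by
    apply Subtype.ext
    apply Subtype.ext
    exact (eq_blk_of_fix k g.1.1 g.1.2 ((mem_stabilizer_hp0 k g.1).mp g.2).1 ((mem_stabilizer_hp0 k g.1).mp g.2).2).2.symm
  right_inv N := by
    apply Subtype.ext
    show ((blk k N.1).submatrix (spE k) (spE k)).toBlocks₂₂ = N.1
    rw [blk_submatrix, toBlocks_fromBlocks₂₂]

section count

variable [Fintype F]

/-- For `x ≠ 0`, every fibre of `y ↦ x ⬝ᵥ y` has `q^(card ι - 1)` elements. -/
theorem card_dotProduct_eq' {ι : Type*} [Fintype ι] [DecidableEq ι] (x : ι → F) (hx : x ≠ 0) (c : F) :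
    Nat.card {y : ι → F // x ⬝ᵥ y = c} = Fintype.card F ^ (Fintype.card ι - 1) := by
  classical
  obtain ⟨i, hi⟩ : ∃ i, x i ≠ 0 := by
    by_contra h
    push Not at h
    exact hx (funext h)
  have hsurj : ∀ d : F, ∃ y : ι → F, x ⬝ᵥ y = d := by
    intro d
    refine ⟨Pi.single i (d / x i), ?_⟩
    rw [dotProduct_single, mul_div_cancel₀ d hi]
  have hfib : ∀ d : F, Nat.card {y : ι → F // x ⬝ᵥ y = d} = Nat.card {y : ι → F // x ⬝ᵥ y = c} := by
    intro d
    obtain ⟨y₀, hy₀⟩ := hsurj (c - d)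
    refine Nat.card_congr (Equiv.subtypeEquiv (Equiv.addRight y₀) ?_)
    intro y
    simp only [Equiv.coe_addRight, dotProduct_add, hy₀]
    constructor
    · intro h; rw [h]; ring
    · intro h; linear_combination h
  have hsum : Fintype.card (ι → F) = ∑ d : F, Fintype.card {y : ι → F // x ⬝ᵥ y = d} := by
    rw [← Fintype.card_sigma]
    exact Fintype.card_congr (Equiv.sigmaFiberEquiv (fun y : ι → F => x ⬝ᵥ y)).symm
  simp only [← Nat.card_eq_fintype_card (α := {y : ι → F // x ⬝ᵥ y = _})] at hsum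
  simp only [hfib] at hsum
  rw [Finset.sum_const, Finset.card_univ, smul_eq_mul, Fintype.card_fun] at hsum
  have hm : 1 ≤ Fintype.card ι := Fintype.card_pos_iff.mpr ⟨i⟩
  have hq : 0 < Fintype.card F := Fintype.card_pos
  have : Fintype.card F ^ Fintype.card ι = Fintype.card F * Fintype.card F ^ (Fintype.card ι - 1) := by
    rw [← pow_succ', Nat.sub_add_cancel hm]
  rw [this] at hsum
  exact (Nat.eq_of_mul_eq_mul_left hq hsum).symm

theorem card_HP (n : ℕ) :
    Nat.card (HP n F) = (Fintype.card F ^ (2 * n) - 1) * Fintype.card F ^ (2 * n - 1) := by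
  classical
  have e : HP n F ≃ Σ u : Fin n ⊕ Fin n → F, {v : Fin n ⊕ Fin n → F // Cfsg.sympForm n F u v = 1} :=
    { toFun := fun p => ⟨p.1.1, p.1.2, p.2⟩
      invFun := fun s => ⟨(s.1, s.2.1), s.2.2⟩
      left_inv := fun p => rfl
      right_inv := fun s => rfl }
  rw [Nat.card_congr e, Nat.card_sigma]
  rw [← Finset.add_sum_erase Finset.univ _ (Finset.mem_univ (0 : Fin n ⊕ Fin n → F))]
  have h0 : Nat.card {v : Fin n ⊕ Fin n → F // Cfsg.sympForm n F 0 v = 1} = 0 := by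
    have : IsEmpty {v : Fin n ⊕ Fin n → F // Cfsg.sympForm n F 0 v = 1} :=
      ⟨fun v => by have := v.2; simp at this⟩
    exact Nat.card_of_isEmpty
  have h1 : ∀ u ∈ Finset.univ.erase (0 : Fin n ⊕ Fin n → F),
      Nat.card {v : Fin n ⊕ Fin n → F // Cfsg.sympForm n F u v = 1} = Fintype.card F ^ (2 * n - 1) := by
    intro u hu
    have hu0 : u ≠ 0 := Finset.ne_of_mem_erase hu
    have hx : u ᵥ* J (Fin n) F ≠ 0 := by
      intro h
      have h2 : (u ᵥ* J (Fin n) F) ᵥ* J (Fin n) F = 0 := by rw [h]; simp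
      rw [Matrix.vecMul_vecMul, J_squared, Matrix.vecMul_neg, Matrix.vecMul_one, neg_eq_zero] at h2
      exact hu0 h2
    have := card_dotProduct_eq' (u ᵥ* J (Fin n) F) hx 1
    simp only [Fintype.card_sum, Fintype.card_fin] at this
    rw [← two_mul] at this
    rw [← this]
    refine Nat.card_congr (Equiv.subtypeEquiv (Equiv.refl _) ?_)
    intro v
    unfold Cfsg.sympForm
    rw [dotProduct_mulVec]
    rfl
  rw [h0, zero_add, Finset.sum_congr rfl h1, Finset.sum_const, Finset.card_erase_of_mem (Finset.mem_univ _),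
    Finset.card_univ, smul_eq_mul, Fintype.card_fun, Fintype.card_sum, Fintype.card_fin, ← two_mul]

end count

theorem card_sp_succ [Fintype F] (k : ℕ) :
    Nat.card (symplecticGroup (Fin (k + 1)) F) = Nat.card (HP (k + 1) F) * Nat.card (symplecticGroup (Fin k) F) := by
  have h1 := Subgroup.card_mul_index
    (MulAction.stabilizer (symplecticGroup (Fin (k + 1)) F) (hp0 k : HP (k + 1) F))
  rw [MulAction.index_stabilizer_of_transitive, Nat.card_congr (stabEquiv k)] at h1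
  rw [← h1, mul_comm]

theorem card_sp {F : Type*} [Field F] [Fintype F] {q : ℕ} (hF : Fintype.card F = q) (m : ℕ) : Nat.card (Matrix.symplecticGroup (Fin m) F) = q ^ (m ^ 2) * ∏ i ∈ Finset.range m, (q ^ (2 * (i + 1)) - 1) := by
  induction m with
  | zero =>
    have : Subsingleton (symplecticGroup (Fin 0) F) := ⟨fun a b => Subtype.ext (Subsingleton.elim _ _)⟩
    rw [Nat.card_of_subsingleton (1 : symplecticGroup (Fin 0) F)]
    simp
  | succ k ih =>
    rw [card_sp_succ, card_HP, ih, hF, Finset.prod_range_succ]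
    have : (k + 1) ^ 2 = (2 * (k + 1) - 1) + k ^ 2 := by
      have : 2 * (k + 1) - 1 = 2 * k + 1 := by omega
      rw [this]; ring
    rw [this, pow_add]
    ring

end Cfsg.Agent.Lib.Helper5_SpOrder
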