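import Mathlib
import Cfsg.Prelude.Def_ClassicalGeometry
import Cfsg.Agent.Lib.Helper13_Symp
import Cfsg.Agent.Lib.Helper13_SympTrans

set_option autoImplicit false

namespace Cfsg.Agent.Lib.Helper13_SympGen

open Matrix Cfsg.Agent.Lib.Helper13_Symp Cfsg.Agent.Lib.Helper13_SympTrans

variable {F : Type*} [Field F] (m : ℕ)

/-- The subgroup generated by the transvections with direction in `W`. -/
def transvSubgroupOn (W : Submodule F (Fin m ⊕ Fin m → F)) :
    Subgroup (Matrix.symplecticGroup (Fin m) F) :=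
  Subgroup.closure {A : Matrix.symplecticGroup (Fin m) F | ∃ w ∈ W, ∃ (c : F),
    (A : Matrix (Fin m ⊕ Fin m) (Fin m ⊕ Fin m) F) = Cfsg.sympTransvection m w c}

variable {m}
variable (W : Submodule F (Fin m ⊕ Fin m → F))

theorem transvOn_mem {w : Fin m ⊕ Fin m → F} (hw : w ∈ W) (c : F) :
    transv m w c ∈ transvSubgroupOn m W :=
  Subgroup.subset_closure ⟨w, hw, c, rfl⟩

theorem transvSubgroupOn_le : transvSubgroupOn m W ≤ transvSubgroup F m := by
  apply Subgroup.closure_mono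
  rintro A ⟨w, _, c, h⟩
  exact ⟨w, c, h⟩

/-- Elements of `transvSubgroupOn W` fix every vector orthogonal to `W`. -/
theorem transvSubgroupOn_fixes {A : Matrix.symplecticGroup (Fin m) F}
    (hA : A ∈ transvSubgroupOn m W) (x : Fin m ⊕ Fin m → F)
    (hx : ∀ w ∈ W, Cfsg.sympForm m F x w = 0) :
    (A : Matrix (Fin m ⊕ Fin m) (Fin m ⊕ Fin m) F) *ᵥ x = x := by
  induction hA using Subgroup.closure_induction with
  | mem B hB =>
    obtain ⟨w, hw, c, hBw⟩ := hB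
    rw [hBw, sympTransvection_mulVec, hx w hw, mul_zero, zero_smul, add_zero]
  | one => simp
  | mul B C _ _ hB hC =>
    rw [Submonoid.coe_mul, ← Matrix.mulVec_mulVec, hC, hB]
  | inv B _ hB =>
    have h1 : ((B⁻¹ * B : Matrix.symplecticGroup (Fin m) F) :
        Matrix (Fin m ⊕ Fin m) (Fin m ⊕ Fin m) F) *ᵥ x = x := by
      rw [inv_mul_cancel]; simp
    rw [Submonoid.coe_mul, ← Matrix.mulVec_mulVec, hB] at h1
    exact h1

theorem exists_map_of_ne_zero {u u' : Fin m ⊕ Fin m → F} (hu : u ∈ W) (hu' : u' ∈ W)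
    (h : Cfsg.sympForm m F u u' ≠ 0) :
    ∃ A ∈ transvSubgroupOn m W, (A : Matrix (Fin m ⊕ Fin m) (Fin m ⊕ Fin m) F) *ᵥ u = u' := by
  refine ⟨transv m (u - u') (Cfsg.sympForm m F u u')⁻¹, transvOn_mem W (W.sub_mem hu hu') _, ?_⟩
  rw [transv_mulVec, sympForm_sub_right, sympForm_self, zero_sub, mul_neg, inv_mul_cancel₀ h]
  simp

theorem exists_map (hW : ∀ u ∈ W, u ≠ 0 → ∃ w ∈ W, Cfsg.sympForm m F u w ≠ 0)
    {u u' : Fin m ⊕ Fin m → F} (hu : u ∈ W) (hu' : u' ∈ W) (hu0 : u ≠ 0) (hu0' : u' ≠ 0) :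
    ∃ A ∈ transvSubgroupOn m W, (A : Matrix (Fin m ⊕ Fin m) (Fin m ⊕ Fin m) F) *ᵥ u = u' := by
  by_cases h : Cfsg.sympForm m F u u' ≠ 0
  · exact exists_map_of_ne_zero W hu hu' h
  · push Not at h
    obtain ⟨w, hwW, hw1, hw2⟩ :
        ∃ w ∈ W, Cfsg.sympForm m F u w ≠ 0 ∧ Cfsg.sympForm m F w u' ≠ 0 := by
      obtain ⟨w₁, hw₁W, hw₁⟩ := hW u hu hu0
      obtain ⟨w₂, hw₂W, hw₂⟩ := hW u' hu' hu0'
      by_cases h1 : Cfsg.sympForm m F u' w₁ ≠ 0
      · refine ⟨w₁, hw₁W, hw₁, ?_⟩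
        rw [sympForm_swap]; exact neg_ne_zero.mpr h1
      · push Not at h1
        by_cases h2 : Cfsg.sympForm m F u w₂ ≠ 0
        · refine ⟨w₂, hw₂W, h2, ?_⟩
          rw [sympForm_swap]; exact neg_ne_zero.mpr hw₂
        · push Not at h2
          refine ⟨w₁ + w₂, W.add_mem hw₁W hw₂W, ?_, ?_⟩
          · rw [sympForm_add_right, h2, add_zero]; exact hw₁
          · rw [sympForm_swap, sympForm_add_right, h1, zero_add]; exact neg_ne_zero.mpr hw₂
    obtain ⟨A, hA, hAu⟩ := exists_map_of_ne_zero W hu hwW hw1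
    obtain ⟨B, hB, hBw⟩ := exists_map_of_ne_zero W hwW hu' hw2
    refine ⟨B * A, Subgroup.mul_mem _ hB hA, ?_⟩
    rw [Submonoid.coe_mul, ← Matrix.mulVec_mulVec, hAu, hBw]

theorem exists_fix_map_of_ne_zero (u : Fin m ⊕ Fin m → F) {v v' : Fin m ⊕ Fin m → F}
    (hv : v ∈ W) (hv' : v' ∈ W)
    (huv : Cfsg.sympForm m F u v = Cfsg.sympForm m F u v')
    (h : Cfsg.sympForm m F v v' ≠ 0) :
    ∃ A ∈ transvSubgroupOn m W, (A : Matrix (Fin m ⊕ Fin m) (Fin m ⊕ Fin m) F) *ᵥ u = u ∧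
      (A : Matrix (Fin m ⊕ Fin m) (Fin m ⊕ Fin m) F) *ᵥ v = v' := by
  refine ⟨transv m (v - v') (Cfsg.sympForm m F v v')⁻¹,
    transvOn_mem W (W.sub_mem hv hv') _, ?_, ?_⟩
  · rw [transv_mulVec, sympForm_sub_right, huv, sub_self, mul_zero, zero_smul, add_zero]
  · rw [transv_mulVec, sympForm_sub_right, sympForm_self, zero_sub, mul_neg, inv_mul_cancel₀ h]
    simp

theorem exists_fix_map {u v v' : Fin m ⊕ Fin m → F} (hu : u ∈ W) (hv : v ∈ W) (hv' : v' ∈ W)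
    (huv : Cfsg.sympForm m F u v = 1) (huv' : Cfsg.sympForm m F u v' = 1) :
    ∃ A ∈ transvSubgroupOn m W, (A : Matrix (Fin m ⊕ Fin m) (Fin m ⊕ Fin m) F) *ᵥ u = u ∧
      (A : Matrix (Fin m ⊕ Fin m) (Fin m ⊕ Fin m) F) *ᵥ v = v' := by
  by_cases h : Cfsg.sympForm m F v v' ≠ 0
  · exact exists_fix_map_of_ne_zero W u hv hv' (huv.trans huv'.symm) h
  · push Not at h
    have h1 : Cfsg.sympForm m F u (u + v) = 1 := by
      rw [sympForm_add_right, sympForm_self, zero_add, huv]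
    have h2 : Cfsg.sympForm m F v (u + v) ≠ 0 := by
      rw [sympForm_add_right, sympForm_self, add_zero, sympForm_swap, huv]
      exact neg_ne_zero.mpr one_ne_zero
    have h3 : Cfsg.sympForm m F (u + v) v' ≠ 0 := by
      rw [sympForm_add_left, huv', h, add_zero]
      exact one_ne_zero
    have huvW : u + v ∈ W := W.add_mem hu hv
    obtain ⟨A, hA, hAu, hAv⟩ :=
      exists_fix_map_of_ne_zero W u hv huvW (huv.trans h1.symm) h2
    obtain ⟨B, hB, hBu, hBv⟩ :=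
      exists_fix_map_of_ne_zero W u huvW hv' (h1.trans huv'.symm) h3
    refine ⟨B * A, Subgroup.mul_mem _ hB hA, ?_, ?_⟩
    · rw [Submonoid.coe_mul, ← Matrix.mulVec_mulVec, hAu, hBu]
    · rw [Submonoid.coe_mul, ← Matrix.mulVec_mulVec, hAv, hBv]

theorem exists_map_pair (hW : ∀ u ∈ W, u ≠ 0 → ∃ w ∈ W, Cfsg.sympForm m F u w ≠ 0)
    {u v u' v' : Fin m ⊕ Fin m → F} (hu : u ∈ W) (hv : v ∈ W) (hu' : u' ∈ W) (hv' : v' ∈ W)
    (hWinv : ∀ A ∈ transvSubgroupOn m W, ∀ x ∈ W,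
      (A : Matrix (Fin m ⊕ Fin m) (Fin m ⊕ Fin m) F) *ᵥ x ∈ W)
    (h : Cfsg.sympForm m F u v = 1) (h' : Cfsg.sympForm m F u' v' = 1) :
    ∃ A ∈ transvSubgroupOn m W, (A : Matrix (Fin m ⊕ Fin m) (Fin m ⊕ Fin m) F) *ᵥ u = u' ∧
      (A : Matrix (Fin m ⊕ Fin m) (Fin m ⊕ Fin m) F) *ᵥ v = v' := by
  have hu0 : u ≠ 0 := by
    rintro rfl
    rw [sympForm_zero_left] at h
    exact zero_ne_one h
  have hu0' : u' ≠ 0 := by
    rintro rfl
    rw [sympForm_zero_left] at h'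
    exact zero_ne_one h'
  obtain ⟨A, hA, hAu⟩ := exists_map W hW hu hu' hu0 hu0'
  have h1 : Cfsg.sympForm m F u' ((A : Matrix (Fin m ⊕ Fin m) (Fin m ⊕ Fin m) F) *ᵥ v) = 1 := by
    rw [← hAu, sympForm_mulVec_mulVec_of_mem m A.2, h]
  obtain ⟨B, hB, hBu, hBv⟩ := exists_fix_map W hu' (hWinv A hA v hv) hv' h1 h'
  refine ⟨B * A, Subgroup.mul_mem _ hB hA, ?_, ?_⟩
  · rw [Submonoid.coe_mul, ← Matrix.mulVec_mulVec, hAu, hBu]
  · rw [Submonoid.coe_mul, ← Matrix.mulVec_mulVec, hBv]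

/-- Elements of `transvSubgroupOn W` preserve `W`. -/
theorem transvSubgroupOn_preserves {A : Matrix.symplecticGroup (Fin m) F}
    (hA : A ∈ transvSubgroupOn m W) : ∀ x ∈ W,
    (A : Matrix (Fin m ⊕ Fin m) (Fin m ⊕ Fin m) F) *ᵥ x ∈ W ∧
    (A⁻¹ : Matrix.symplecticGroup (Fin m) F).1 *ᵥ x ∈ W := by
  induction hA using Subgroup.closure_induction with
  | mem B hB =>
    obtain ⟨w, hw, c, hBw⟩ := hB
    intro x hx
    constructor
    · rw [hBw, sympTransvection_mulVec]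
      exact W.add_mem hx (W.smul_mem _ hw)
    · have hinv : B⁻¹ = transv m w (-c) := by
        rw [inv_eq_iff_mul_eq_one]
        apply Subtype.ext
        rw [Submonoid.coe_mul, hBw]
        show Cfsg.sympTransvection m w c * Cfsg.sympTransvection m w (-c) = 1
        have hNN : vecMulVec w (Matrix.J (Fin m) F *ᵥ w) * vecMulVec w (Matrix.J (Fin m) F *ᵥ w)
            = 0 := by
          rw [Matrix.vecMulVec_mul_vecMulVec]
          have : (Matrix.J (Fin m) F *ᵥ w) ⬝ᵥ w = 0 := by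
            rw [dotProduct_comm]
            exact sympForm_self m w
          rw [this, zero_smul, Matrix.vecMulVec_zero]
        unfold Cfsg.sympTransvection
        rw [add_mul, mul_add, mul_add, one_mul, mul_one, one_mul, smul_mul_smul_comm, hNN,
          smul_zero, add_zero, neg_smul]
        abel
      rw [hinv, transv_mulVec]
      exact W.add_mem hx (W.smul_mem _ hw)
  | one => intro x hx; simp [hx]
  | mul B C _ _ hB hC =>
    intro x hx
    constructor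
    · rw [Submonoid.coe_mul, ← Matrix.mulVec_mulVec]
      exact (hB _ (hC x hx).1).1
    · rw [_root_.mul_inv_rev]
      show ((C⁻¹ * B⁻¹ : Matrix.symplecticGroup (Fin m) F) :
        Matrix (Fin m ⊕ Fin m) (Fin m ⊕ Fin m) F) *ᵥ x ∈ W
      rw [Submonoid.coe_mul, ← Matrix.mulVec_mulVec]
      exact (hC _ (hB x hx).2).2
  | inv B _ hB =>
    intro x hx
    rw [inv_inv]
    exact ⟨(hB x hx).2, (hB x hx).1⟩

end Cfsg.Agent.Lib.Helper13_SympGen
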