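import Mathlib
import Cfsg.Agent.S0765
import Cfsg.Agent.Lib.Helper13_SympTrans

/-!
# The symplectic group is perfect (helper5)

Levi elements `Lg A B`, Siegel elements `Xg S`, the commutator identity
`⁅Lg A B, Xg S⁆ = Xg (A S Aᵀ - S)`, conjugation of symplectic transvections `conj_transv`,
and `sp_perfect`.
-/

set_option autoImplicit false

namespace Cfsg.Agent.Lib.Helper5_SpPerfect

open scoped commutatorElement
open Matrix Cfsg.Agent.Lib.Helper13_Symp Cfsg.Agent.Lib.Helper13_SympTrans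

variable {F : Type*} [Field F] {m : ℕ}

/-- Levi element -/
def Lmat (A B : Matrix (Fin m) (Fin m) F) : Matrix (Fin m ⊕ Fin m) (Fin m ⊕ Fin m) F := fromBlocks A 0 0 Bᵀ
/-- Siegel element -/
def Xmat (S : Matrix (Fin m) (Fin m) F) : Matrix (Fin m ⊕ Fin m) (Fin m ⊕ Fin m) F := fromBlocks 1 S 0 1

lemma Lmat_mem {A B : Matrix (Fin m) (Fin m) F} (h : A * B = 1) : Lmat A B ∈ symplecticGroup (Fin m) F := by
  rw [SymplecticGroup.mem_iff]
  have h' : Bᵀ * Aᵀ = 1 := by rw [← Matrix.transpose_mul, h, Matrix.transpose_one]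
  simp [Lmat, Matrix.J, Matrix.fromBlocks_multiply, Matrix.fromBlocks_transpose, h, h']

lemma Xmat_mem {S : Matrix (Fin m) (Fin m) F} (hS : Sᵀ = S) : Xmat S ∈ symplecticGroup (Fin m) F := by
  rw [SymplecticGroup.mem_iff]
  simp [Xmat, Matrix.J, Matrix.fromBlocks_multiply, Matrix.fromBlocks_transpose, hS]

def Lg (A B : Matrix (Fin m) (Fin m) F) (h : A * B = 1) : symplecticGroup (Fin m) F := ⟨Lmat A B, Lmat_mem h⟩
def Xg (S : Matrix (Fin m) (Fin m) F) (hS : Sᵀ = S) : symplecticGroup (Fin m) F := ⟨Xmat S, Xmat_mem hS⟩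

lemma Xg_mul (S S' : Matrix (Fin m) (Fin m) F) (hS : Sᵀ = S) (hS' : S'ᵀ = S') :
    Xg S hS * Xg S' hS' = Xg (S + S') (by rw [Matrix.transpose_add, hS, hS']) := by
  apply Subtype.ext
  show Xmat S * Xmat S' = Xmat (S + S')
  simp [Xmat, Matrix.fromBlocks_multiply, add_comm]

lemma Xg_zero : Xg (0 : Matrix (Fin m) (Fin m) F) (by simp) = 1 := by
  apply Subtype.ext
  show Xmat (0 : Matrix (Fin m) (Fin m) F) = 1
  simp [Xmat]

lemma Xg_congr {S S' : Matrix (Fin m) (Fin m) F} (h : S = S') (hS : Sᵀ = S) : Xg S hS = Xg S' (h ▸ hS) := by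
  subst h; rfl

lemma Lg_mul_Xg (A B S : Matrix (Fin m) (Fin m) F) (h : A * B = 1) (hS : Sᵀ = S) :
    Lg A B h * Xg S hS = Xg (A * S * Aᵀ) (by rw [Matrix.transpose_mul, Matrix.transpose_mul, Matrix.transpose_transpose, hS, Matrix.mul_assoc]) * Lg A B h := by
  apply Subtype.ext
  show Lmat A B * Xmat S = Xmat (A * S * Aᵀ) * Lmat A B
  have h' : Aᵀ * Bᵀ = 1 := by rw [← Matrix.transpose_mul, mul_eq_one_comm.1 h, Matrix.transpose_one]
  simp [Lmat, Xmat, Matrix.fromBlocks_multiply, Matrix.mul_assoc, h']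

/-- the key commutator -/
lemma Xg_comm_mem (A B S : Matrix (Fin m) (Fin m) F) (h : A * B = 1) (hS : Sᵀ = S) (hS' : (A * S * Aᵀ - S)ᵀ = A * S * Aᵀ - S) :
    Xg (A * S * Aᵀ - S) hS' ∈ commutator (symplecticGroup (Fin m) F) := by
  have hS1 : (A * S * Aᵀ)ᵀ = A * S * Aᵀ := by rw [Matrix.transpose_mul, Matrix.transpose_mul, Matrix.transpose_transpose, hS, Matrix.mul_assoc]
  have h1 : Xg (A * S * Aᵀ - S) hS' = ⁅Lg A B h, Xg S hS⁆ := by
    rw [commutatorElement_def, Lg_mul_Xg A B S h hS, mul_inv_cancel_right, eq_mul_inv_iff_mul_eq, Xg_mul]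
    exact Xg_congr (by abel) _
  rw [h1, commutator_def]
  exact Subgroup.commutator_mem_commutator (Subgroup.mem_top _) (Subgroup.mem_top _)
lemma tv_mul_inv (i j : Fin m) (hij : i ≠ j) (a : F) :
    (1 + single i j a) * (1 - single i j a) = (1 : Matrix (Fin m) (Fin m) F) := by
  simp [Matrix.add_mul, Matrix.mul_sub, single_mul_single_of_ne _ _ _ _ hij.symm]

lemma inst2 (i j : Fin m) (hij : i ≠ j) (s : F) :
    (1 + single i j 1) * (single i j s + single j i s) * (1 + single i j (1:F))ᵀ - (single i j s + single j i s)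
      = single i i (2 * s) := by
  have hji := hij.symm
  simp only [Matrix.add_mul, Matrix.mul_add, Matrix.transpose_add, Matrix.transpose_single, Matrix.transpose_one,
    Matrix.one_mul, Matrix.mul_one, single_mul_single_same, single_mul_single_of_ne _ _ _ _ hij,
    single_mul_single_of_ne _ _ _ _ hji, Matrix.zero_mul, Matrix.mul_zero, add_zero, zero_add, one_mul, mul_one]
  rw [two_mul, single_add]
  abel

lemma inst3a (i0 i1 i2 : Fin m) (h01 : i0 ≠ i1) (h02 : i0 ≠ i2) (h12 : i1 ≠ i2) (s : F) :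
    (1 + single i0 i2 1) * (single i1 i2 s + single i2 i1 s) * (1 + single i0 i2 (1:F))ᵀ - (single i1 i2 s + single i2 i1 s)
      = single i0 i1 s + single i1 i0 s := by
  have h10 := h01.symm
  have h20 := h02.symm
  have h21 := h12.symm
  simp only [Matrix.add_mul, Matrix.mul_add, Matrix.transpose_add, Matrix.transpose_single, Matrix.transpose_one,
    Matrix.one_mul, Matrix.mul_one, single_mul_single_same, single_mul_single_of_ne _ _ _ _ h01,
    single_mul_single_of_ne _ _ _ _ h02, single_mul_single_of_ne _ _ _ _ h12, single_mul_single_of_ne _ _ _ _ h10,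
    single_mul_single_of_ne _ _ _ _ h20, single_mul_single_of_ne _ _ _ _ h21,
    Matrix.zero_mul, Matrix.mul_zero, add_zero, zero_add, one_mul, mul_one]
  abel

lemma inst3b (i0 i1 : Fin m) (h01 : i0 ≠ i1) (c : F) :
    (1 + single i0 i1 1) * (single i1 i1 c) * (1 + single i0 i1 (1:F))ᵀ - (single i1 i1 c)
      = (single i0 i1 c + single i1 i0 c) + single i0 i0 c := by
  have h10 := h01.symm
  simp only [Matrix.add_mul, Matrix.mul_add, Matrix.transpose_add, Matrix.transpose_single, Matrix.transpose_one,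
    Matrix.one_mul, Matrix.mul_one, single_mul_single_same, single_mul_single_of_ne _ _ _ _ h01,
    single_mul_single_of_ne _ _ _ _ h10,
    Matrix.zero_mul, Matrix.mul_zero, add_zero, zero_add, one_mul, mul_one]
  abel

lemma diag_mul_inv (i0 : Fin m) (a : F) (ha : a ≠ 0) :
    (1 + single i0 i0 (a - 1)) * (1 + single i0 i0 (a⁻¹ - 1)) = (1 : Matrix (Fin m) (Fin m) F) := by
  simp only [Matrix.add_mul, Matrix.mul_add, Matrix.one_mul, Matrix.mul_one, single_mul_single_same]
  rw [add_assoc, ← single_add, ← single_add]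
  have : a - 1 + (a⁻¹ - 1 + (a - 1) * (a⁻¹ - 1)) = 0 := by
    field_simp; ring
  rw [this, single_zero, add_zero]

lemma inst1 (i0 : Fin m) (a c : F) :
    (1 + single i0 i0 (a - 1)) * (single i0 i0 c) * (1 + single i0 i0 (a - 1))ᵀ - (single i0 i0 c)
      = single i0 i0 ((a ^ 2 - 1) * c) := by
  simp only [Matrix.add_mul, Matrix.mul_add, Matrix.transpose_add, Matrix.transpose_single, Matrix.transpose_one,
    Matrix.one_mul, Matrix.mul_one, single_mul_single_same]
  ext k l
  simp only [Matrix.add_apply, Matrix.sub_apply, single_apply]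
  split_ifs <;> ring

lemma transv_single (i0 : Fin m) (c : F) :
    transv m (Pi.single (Sum.inl i0) 1) c = Xg (single i0 i0 c) (by simp) := by
  apply Subtype.ext
  show Cfsg.sympTransvection m (Pi.single (Sum.inl i0) 1) c = Xmat (single i0 i0 c)
  unfold Cfsg.sympTransvection Xmat
  rw [Matrix.mulVec_single_one]
  ext i j
  rcases i with i | i <;> rcases j with j | j <;>
    simp [Matrix.J, Matrix.vecMulVec_apply, Matrix.one_apply, single_apply, Pi.single_apply]
  by_cases h1 : j = i0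
  · by_cases h2 : i = i0
    · simp [h1, h2]
    · have h2' : ¬ i0 = i := fun h => h2 h.symm
      simp [h1, h2, h2']
  · have h1' : ¬ i0 = j := fun h => h1 h.symm
    simp [h1, h1']

lemma conj_transv (g : symplecticGroup (Fin m) F) (w : Fin m ⊕ Fin m → F) (c : F) :
    g * transv m w c * g⁻¹ = transv m ((g : Matrix (Fin m ⊕ Fin m) (Fin m ⊕ Fin m) F) *ᵥ w) c := by
  rw [mul_inv_eq_iff_eq_mul]
  apply Subtype.ext
  show (g : Matrix (Fin m ⊕ Fin m) (Fin m ⊕ Fin m) F) * Cfsg.sympTransvection m w c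
    = Cfsg.sympTransvection m ((g : Matrix (Fin m ⊕ Fin m) (Fin m ⊕ Fin m) F) *ᵥ w) c * (g : Matrix _ _ F)
  have hg := g.2
  rw [SymplecticGroup.mem_iff'] at hg
  unfold Cfsg.sympTransvection
  rw [Matrix.mul_add, Matrix.add_mul, Matrix.mul_one, Matrix.one_mul, Matrix.mul_smul, Matrix.smul_mul,
    Matrix.mul_vecMulVec, Matrix.vecMulVec_mul]
  congr 3
  rw [← Matrix.mulVec_transpose, Matrix.mulVec_mulVec, Matrix.mulVec_mulVec, hg]

lemma Xg_mem_of_eq {H : Subgroup (symplecticGroup (Fin m) F)} {S S' : Matrix (Fin m) (Fin m) F} (h : S = S')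
    (hS : Sᵀ = S) (hS' : S'ᵀ = S') (hm : Xg S hS ∈ H) : Xg S' hS' ∈ H := by
  subst h; exact hm

lemma Xg_mem_of_add {H : Subgroup (symplecticGroup (Fin m) F)} {S S' : Matrix (Fin m) (Fin m) F}
    (hS : Sᵀ = S) (hS' : S'ᵀ = S') (hSS' : (S + S')ᵀ = S + S') (h1 : Xg S hS ∈ H) (h2 : Xg (S + S') hSS' ∈ H) :
    Xg S' hS' ∈ H := by
  have : Xg S' hS' = (Xg S hS)⁻¹ * Xg (S + S') hSS' := by
    rw [eq_inv_mul_iff_mul_eq, Xg_mul]
  rw [this]
  exact H.mul_mem (H.inv_mem h1) h2

/-- it suffices that the root elements `Xg (c E00)` lie in the commutator subgroup -/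
lemma commutator_eq_top_of_root (i0 : Fin m)
    (h : ∀ c : F, Xg (single i0 i0 c) (by simp) ∈ commutator (symplecticGroup (Fin m) F)) :
    commutator (symplecticGroup (Fin m) F) = ⊤ := by
  have hall : ∀ (w : Fin m ⊕ Fin m → F) (c : F), transv m w c ∈ commutator (symplecticGroup (Fin m) F) := by
    intro w c
    by_cases hw : w = 0
    · subst hw
      have : transv m (0 : Fin m ⊕ Fin m → F) c = 1 := by
        apply Subtype.ext
        show Cfsg.sympTransvection m 0 c = 1
        simp [Cfsg.sympTransvection]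
      rw [this]; exact one_mem _
    · obtain ⟨g, _, hg⟩ := exists_transv_map m (Pi.single (Sum.inl i0) 1) w
        (by intro h0; have := congrFun h0 (Sum.inl i0); simp at this) hw
      rw [← hg, ← conj_transv, transv_single]
      exact (inferInstance : (commutator (symplecticGroup (Fin m) F)).Normal).conj_mem _ (h c) g
  rw [eq_top_iff, ← Cfsg.Agent.S0765.result m, Subgroup.closure_le]
  rintro A ⟨w, c, hA⟩
  have : A = transv m w c := Subtype.ext hA
  rw [this]; exact hall w c

lemma case1 (i0 : Fin m) (a : F) (ha : a ≠ 0) (ha2 : a ^ 2 ≠ 1) :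
    commutator (symplecticGroup (Fin m) F) = ⊤ := by
  apply commutator_eq_top_of_root i0
  intro c
  have ha3 : a ^ 2 - 1 ≠ 0 := sub_ne_zero.mpr ha2
  have := Xg_comm_mem (1 + single i0 i0 (a - 1)) (1 + single i0 i0 (a⁻¹ - 1)) (single i0 i0 (c / (a ^ 2 - 1)))
    (diag_mul_inv i0 a ha) (by simp) (by rw [inst1]; simp)
  refine Xg_mem_of_eq ?_ _ _ this
  rw [inst1]; congr 1; field_simp

lemma case2 (i0 i1 : Fin m) (h01 : i0 ≠ i1) (h2 : (2 : F) ≠ 0) :
    commutator (symplecticGroup (Fin m) F) = ⊤ := by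
  apply commutator_eq_top_of_root i0
  intro c
  have := Xg_comm_mem (1 + single i0 i1 1) (1 - single i0 i1 1) (single i0 i1 (c / 2) + single i1 i0 (c / 2))
    (tv_mul_inv i0 i1 h01 1) (by simp [add_comm]) (by rw [inst2 _ _ h01]; simp)
  refine Xg_mem_of_eq ?_ _ _ this
  rw [inst2 _ _ h01]; congr 1; field_simp

lemma case3 (i0 i1 i2 : Fin m) (h01 : i0 ≠ i1) (h02 : i0 ≠ i2) (h12 : i1 ≠ i2) :
    commutator (symplecticGroup (Fin m) F) = ⊤ := by
  apply commutator_eq_top_of_root i0
  intro c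
  have hsym : (single i0 i1 c + single i1 i0 c : Matrix (Fin m) (Fin m) F)ᵀ = single i0 i1 c + single i1 i0 c := by
    simp [add_comm]
  have ha := Xg_comm_mem (1 + single i0 i2 1) (1 - single i0 i2 1) (single i1 i2 c + single i2 i1 c)
    (tv_mul_inv i0 i2 h02 1) (by simp [add_comm]) (by rw [inst3a _ _ _ h01 h02 h12]; exact hsym)
  have hb := Xg_comm_mem (1 + single i0 i1 1) (1 - single i0 i1 1) (single i1 i1 c)
    (tv_mul_inv i0 i1 h01 1) (by simp) (by rw [inst3b _ _ h01]; simp [add_comm])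
  have ha' := Xg_mem_of_eq (inst3a _ _ _ h01 h02 h12 c) _ hsym ha
  have hb' := Xg_mem_of_eq (inst3b _ _ h01 c) _ (by simp [add_comm]) hb
  exact Xg_mem_of_add hsym (by simp) _ ha' hb'

lemma exists_sq_ne_one [Fintype F] (h : 4 ≤ Fintype.card F) : ∃ a : F, a ≠ 0 ∧ a ^ 2 ≠ 1 := by
  classical
  by_contra hcon
  push Not at hcon
  have hsub : (Finset.univ : Finset F) ⊆ {0, 1, -1} := by
    intro a _
    by_cases ha : a = 0
    · simp [ha]
    · have := hcon a ha
      have h2 : (a - 1) * (a + 1) = 0 := by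
        have : (a - 1) * (a + 1) = a ^ 2 - 1 := by ring
        rw [this, hcon a ha, sub_self]
      rcases mul_eq_zero.mp h2 with h3 | h3
      · simp [sub_eq_zero.mp h3]
      · simp [eq_neg_of_add_eq_zero_left h3]
  have := Finset.card_le_card hsub
  have h3 : ({0, 1, -1} : Finset F).card ≤ 3 := Finset.card_le_three
  rw [Finset.card_univ] at this
  omega

theorem sp_perfect {F : Type*} [Field F] [Fintype F] (m : ℕ) (h : 3 ≤ m ∨ (m = 2 ∧ 3 ≤ Fintype.card F) ∨ 4 ≤ Fintype.card F) : commutator (Matrix.symplecticGroup (Fin m) F) = ⊤ := by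
  by_cases h4 : 4 ≤ Fintype.card F
  · rcases Nat.eq_zero_or_pos m with hm | hm
    · subst hm
      have : Subsingleton (symplecticGroup (Fin 0) F) := ⟨fun a b => Subtype.ext (Subsingleton.elim _ _)⟩
      exact Subsingleton.elim _ _
    · obtain ⟨a, ha, ha2⟩ := exists_sq_ne_one h4
      exact case1 ⟨0, hm⟩ a ha ha2
  · by_cases h3 : 3 ≤ m
    · exact case3 ⟨0, by omega⟩ ⟨1, by omega⟩ ⟨2, by omega⟩ (by simp [Fin.ext_iff]) (by simp [Fin.ext_iff]) (by simp [Fin.ext_iff])
    · have hm : m = 2 := by omega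
      have hq : Fintype.card F = 3 := by omega
      subst hm
      have h2 : (2 : F) ≠ 0 := by
        intro h20
        have h3' : ((Fintype.card F : ℕ) : F) = 0 := Nat.cast_card_eq_zero F
        rw [hq] at h3'
        have h3'' : (3 : F) = 0 := by exact_mod_cast h3'
        have : (1 : F) = 0 := by linear_combination h3'' - h20
        exact one_ne_zero this
      exact case2 0 1 (by decide) h2

end Cfsg.Agent.Lib.Helper5_SpPerfect
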