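import Mathlib
import Cfsg.Agent.Lib.Helper44_PSLnUT
import Cfsg.Agent.Lib.Helper5_SpPerfect
import Cfsg.Agent.Lib.Helper5_SpOrder

/-!
# A Sylow `p`-subgroup of `Sp_{2m}(F)` and its centre
-/

set_option autoImplicit false
set_option linter.unusedSectionVars false

namespace Cfsg.Agent.Lib.Helper44_SpUT

open Matrix Cfsg.Agent.Lib.Helper44_PSLnUT Cfsg.Agent.Lib.Helper5_SpPerfect

variable {F : Type*} [Field F] {m : ℕ}

theorem coe_eq_fromBlocks (g : symplecticGroup (Fin m) F) :
    (g : Matrix (Fin m ⊕ Fin m) (Fin m ⊕ Fin m) F) =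
      fromBlocks g.1.toBlocks₁₁ g.1.toBlocks₁₂ g.1.toBlocks₂₁ g.1.toBlocks₂₂ :=
  (fromBlocks_toBlocks _).symm

/-- data of an element with vanishing lower-left block -/
theorem block_data {g : symplecticGroup (Fin m) F} (h : g.1.toBlocks₂₁ = 0) :
    g.1.toBlocks₁₁ᵀ * g.1.toBlocks₂₂ = 1 ∧
      g.1.toBlocks₁₂ᵀ * g.1.toBlocks₂₂ = g.1.toBlocks₂₂ᵀ * g.1.toBlocks₁₂ := by
  have hg := g.2
  rw [coe_eq_fromBlocks g, SymplecticGroup.fromBlocks_mem_iff, h] at hg
  obtain ⟨_, h2, h3⟩ := hg
  refine ⟨?_, h2⟩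
  simpa using h3

theorem coe_inv_blocks (g : symplecticGroup (Fin m) F) :
    ((g⁻¹ : symplecticGroup (Fin m) F) : Matrix (Fin m ⊕ Fin m) (Fin m ⊕ Fin m) F) =
      fromBlocks g.1.toBlocks₂₂ᵀ (-g.1.toBlocks₁₂ᵀ) (-g.1.toBlocks₂₁ᵀ) g.1.toBlocks₁₁ᵀ := by
  rw [SymplecticGroup.coe_inv]
  conv_lhs => rw [coe_eq_fromBlocks g]
  simp [Matrix.J, fromBlocks_transpose, fromBlocks_multiply, fromBlocks_neg]

/-- the unitriangular subgroup of `Sp_{2m}(F)` -/
def USp (m : ℕ) (F : Type*) [Field F] : Subgroup (symplecticGroup (Fin m) F) where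
  carrier := {g | g.1.toBlocks₂₁ = 0 ∧ IsUT g.1.toBlocks₁₁}
  mul_mem' := by
    rintro a b ⟨ha1, ha2⟩ ⟨hb1, hb2⟩
    have hab : ((a * b : symplecticGroup (Fin m) F) : Matrix (Fin m ⊕ Fin m) (Fin m ⊕ Fin m) F) =
        fromBlocks (a.1.toBlocks₁₁ * b.1.toBlocks₁₁)
          (a.1.toBlocks₁₁ * b.1.toBlocks₁₂ + a.1.toBlocks₁₂ * b.1.toBlocks₂₂) 0
          (a.1.toBlocks₂₂ * b.1.toBlocks₂₂) := by
      show a.1 * b.1 = _
      conv_lhs => rw [coe_eq_fromBlocks a, coe_eq_fromBlocks b, ha1, hb1]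
      simp [fromBlocks_multiply]
    refine ⟨?_, ?_⟩
    · show ((a * b : symplecticGroup (Fin m) F) : Matrix (Fin m ⊕ Fin m) (Fin m ⊕ Fin m) F).toBlocks₂₁ = 0
      rw [hab, toBlocks_fromBlocks₂₁]
    · show IsUT ((a * b : symplecticGroup (Fin m) F) : Matrix (Fin m ⊕ Fin m) (Fin m ⊕ Fin m) F).toBlocks₁₁
      rw [hab, toBlocks_fromBlocks₁₁]
      exact ha2.mul hb2
  one_mem' := by
    refine ⟨?_, ?_⟩
    · show (1 : Matrix (Fin m ⊕ Fin m) (Fin m ⊕ Fin m) F).toBlocks₂₁ = 0
      rw [← fromBlocks_one, toBlocks_fromBlocks₂₁]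
    · show IsUT (1 : Matrix (Fin m ⊕ Fin m) (Fin m ⊕ Fin m) F).toBlocks₁₁
      rw [← fromBlocks_one, toBlocks_fromBlocks₁₁]
      exact isUT_one
  inv_mem' := by
    rintro a ⟨ha1, ha2⟩
    obtain ⟨h1, _⟩ := block_data ha1
    refine ⟨?_, ?_⟩
    · show ((a⁻¹ : symplecticGroup (Fin m) F) : Matrix (Fin m ⊕ Fin m) (Fin m ⊕ Fin m) F).toBlocks₂₁ = 0
      rw [coe_inv_blocks, toBlocks_fromBlocks₂₁, ha1]
      simp
    · show IsUT ((a⁻¹ : symplecticGroup (Fin m) F) : Matrix (Fin m ⊕ Fin m) (Fin m ⊕ Fin m) F).toBlocks₁₁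
      rw [coe_inv_blocks, toBlocks_fromBlocks₁₁]
      have h2 : a.1.toBlocks₂₂ᵀ * a.1.toBlocks₁₁ = 1 := by
        have := congrArg Matrix.transpose h1
        simpa [Matrix.transpose_mul] using this
      have h3 : a.1.toBlocks₂₂ᵀ = (a.1.toBlocks₁₁)⁻¹ := (Matrix.inv_eq_left_inv h2).symm
      rw [h3]
      exact ha2.inv

theorem mem_USp {g : symplecticGroup (Fin m) F} :
    g ∈ USp m F ↔ g.1.toBlocks₂₁ = 0 ∧ IsUT g.1.toBlocks₁₁ := Iff.rfl

theorem isUT_mul_inv {A : Matrix (Fin m) (Fin m) F} (hA : IsUT A) : A * A⁻¹ = 1 :=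
  Matrix.mul_nonsing_inv A (by rw [hA.det]; exact isUnit_one)

theorem isUT_inv_mul {A : Matrix (Fin m) (Fin m) F} (hA : IsUT A) : A⁻¹ * A = 1 :=
  Matrix.nonsing_inv_mul A (by rw [hA.det]; exact isUnit_one)

theorem Lg_mem_USp {A : Matrix (Fin m) (Fin m) F} (hA : IsUT A) : Lg A A⁻¹ (isUT_mul_inv hA) ∈ USp m F := by
  refine ⟨?_, ?_⟩
  · show (Lmat A A⁻¹).toBlocks₂₁ = 0
    unfold Lmat
    rw [toBlocks_fromBlocks₂₁]
  · show IsUT (Lmat A A⁻¹).toBlocks₁₁
    unfold Lmat
    rw [toBlocks_fromBlocks₁₁]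
    exact hA

theorem Xg_mem_USp {S : Matrix (Fin m) (Fin m) F} (hS : Sᵀ = S) : Xg S hS ∈ USp m F := by
  refine ⟨?_, ?_⟩
  · show (Xmat S).toBlocks₂₁ = 0
    unfold Xmat
    rw [toBlocks_fromBlocks₂₁]
  · show IsUT (Xmat S).toBlocks₁₁
    unfold Xmat
    rw [toBlocks_fromBlocks₁₁]
    exact isUT_one

/-- the symmetric part attached to an element of `USp` -/
theorem symm_part {g : symplecticGroup (Fin m) F} (hg : g ∈ USp m F) :
    ((g.1.toBlocks₁₁)⁻¹ * g.1.toBlocks₁₂)ᵀ = (g.1.toBlocks₁₁)⁻¹ * g.1.toBlocks₁₂ := by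
  obtain ⟨h1, h2⟩ := block_data hg.1
  have hA := hg.2
  have hD : g.1.toBlocks₂₂ = ((g.1.toBlocks₁₁)⁻¹)ᵀ := by
    rw [Matrix.transpose_nonsing_inv]
    exact (Matrix.inv_eq_left_inv (mul_eq_one_comm.mp h1)).symm
  rw [Matrix.transpose_mul, ← hD, h2, hD, Matrix.transpose_transpose]

theorem eq_Lg_mul_Xg {g : symplecticGroup (Fin m) F} (hg : g ∈ USp m F) :
    g = Lg g.1.toBlocks₁₁ (g.1.toBlocks₁₁)⁻¹ (isUT_mul_inv hg.2) *
      Xg ((g.1.toBlocks₁₁)⁻¹ * g.1.toBlocks₁₂) (symm_part hg) := by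
  obtain ⟨h1, h2⟩ := block_data hg.1
  have hA := hg.2
  apply Subtype.ext
  show g.1 = Lmat _ _ * Xmat _
  conv_lhs => rw [coe_eq_fromBlocks g, hg.1]
  unfold Lmat Xmat
  rw [fromBlocks_multiply]
  have hD : g.1.toBlocks₂₂ = ((g.1.toBlocks₁₁)⁻¹)ᵀ := by
    rw [Matrix.transpose_nonsing_inv]
    exact (Matrix.inv_eq_left_inv (mul_eq_one_comm.mp h1)).symm
  simp only [Matrix.mul_one, Matrix.zero_mul, Matrix.mul_zero, add_zero, zero_add]
  rw [← Matrix.mul_assoc, isUT_mul_inv hA, Matrix.one_mul, ← hD]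

/-! ### cardinality -/

/-- symmetric matrix built from the lower triangle -/
def symOf (M : Matrix (Fin m) (Fin m) F) : Matrix (Fin m) (Fin m) F :=
  Matrix.of fun i j => if j ≤ i then M i j else M j i

theorem symOf_transpose (M : Matrix (Fin m) (Fin m) F) : (symOf M)ᵀ = symOf M := by
  ext i j
  simp only [symOf, Matrix.transpose_apply, Matrix.of_apply]
  rcases lt_trichotomy i j with h | h | h
  · simp [h.le, not_le.mpr h]
  · subst h; simp
  · simp [h.le, not_le.mpr h]

/-- unitriangular matrix built from the strict upper triangle -/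
def utOf (M : Matrix (Fin m) (Fin m) F) : Matrix (Fin m) (Fin m) F :=
  utMat (fun p : Pos m => M p.1.1 p.1.2)

theorem isUT_utOf (M : Matrix (Fin m) (Fin m) F) : IsUT (utOf M) := isUT_utMat _

theorem Lg_Xg_congr {A A' S S' : Matrix (Fin m) (Fin m) F} (hA : A = A') (hS : S = S')
    (h : A * A⁻¹ = 1) (h' : A' * A'⁻¹ = 1) (hs : Sᵀ = S) (hs' : S'ᵀ = S') :
    Lg A A⁻¹ h * Xg S hs = Lg A' A'⁻¹ h' * Xg S' hs' := by
  subst hA; subst hS; rfl

theorem Lmat_mul_Xmat (A B S : Matrix (Fin m) (Fin m) F) :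
    Lmat A B * Xmat S = fromBlocks A (A * S) 0 Bᵀ := by
  unfold Lmat Xmat
  rw [fromBlocks_multiply]
  simp

/-- parametrisation of `USp` by all `m × m` matrices -/
noncomputable def uspEquiv : USp m F ≃ Matrix (Fin m) (Fin m) F where
  toFun g := Matrix.of fun i j =>
    if i < j then g.1.1.toBlocks₁₁ i j else ((g.1.1.toBlocks₁₁)⁻¹ * g.1.1.toBlocks₁₂) i j
  invFun M := ⟨Lg (utOf M) (utOf M)⁻¹ (isUT_mul_inv (isUT_utOf M)) * Xg (symOf M) (symOf_transpose M),
    (USp m F).mul_mem (Lg_mem_USp (isUT_utOf M)) (Xg_mem_USp _)⟩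
  left_inv := by
    rintro ⟨g, hg⟩
    apply Subtype.ext
    show Lg _ _ _ * Xg _ _ = g
    conv_rhs => rw [eq_Lg_mul_Xg hg]
    have hA := hg.2
    have hS := symm_part hg
    apply Lg_Xg_congr
    · ext i j
      simp only [utOf, utMat, Matrix.of_apply]
      rcases lt_trichotomy i j with h | h | h
      · simp [h]
      · subst h; simp [hA.2 i]
      · simp [not_lt.mpr h.le, ne_of_gt h, hA.1 i j h]
    · ext i j
      simp only [symOf, Matrix.of_apply]
      rcases lt_trichotomy i j with h | h | h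
      · have h1 := congrFun (congrFun hS i) j
        rw [Matrix.transpose_apply] at h1
        simp [not_le.mpr h, not_lt.mpr h.le, h1]
      · subst h; simp
      · simp [h.le, not_lt.mpr h.le]
  right_inv := by
    intro M
    ext i j
    have h1 : ((Lg (utOf M) (utOf M)⁻¹ (isUT_mul_inv (isUT_utOf M)) * Xg (symOf M) (symOf_transpose M) :
        symplecticGroup (Fin m) F) : Matrix (Fin m ⊕ Fin m) (Fin m ⊕ Fin m) F) =
        fromBlocks (utOf M) (utOf M * symOf M) 0 ((utOf M)⁻¹)ᵀ := Lmat_mul_Xmat _ _ _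
    simp only [Matrix.of_apply, h1, toBlocks_fromBlocks₁₁, toBlocks_fromBlocks₁₂]
    rw [← Matrix.mul_assoc, isUT_inv_mul (isUT_utOf M), Matrix.one_mul]
    by_cases h : i < j
    · simp [utOf, utMat, h]
    · simp [symOf, h, not_lt.mp h]

theorem card_USp [Fintype F] : Nat.card (USp m F) = Fintype.card F ^ (m ^ 2) := by
  classical
  rw [Nat.card_congr uspEquiv, Nat.card_eq_fintype_card]
  show Fintype.card (Fin m → Fin m → F) = _
  rw [Fintype.card_fun, Fintype.card_fun, Fintype.card_fin, ← pow_mul, pow_two]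

/-! ### Sylow property -/

theorem factorization_card_sp [Fintype F] {p f : ℕ} [hp : Fact p.Prime]
    (hF : Fintype.card F = p ^ f) :
    (Nat.card (symplecticGroup (Fin m) F)).factorization p = f * m ^ 2 := by
  have hf : f ≠ 0 := by
    rintro rfl
    have := Fintype.one_lt_card (α := F)
    rw [hF, pow_zero] at this
    exact lt_irrefl _ this
  rw [Cfsg.Agent.Lib.Helper5_SpOrder.card_sp hF m]
  have hq1 : ∀ k, 1 ≤ (p ^ f) ^ k := fun k => Nat.one_le_pow _ _ (pow_pos hp.out.pos f)
  have hprod : ¬ p ∣ ∏ i ∈ Finset.range m, ((p ^ f) ^ (2 * (i + 1)) - 1) := by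
    intro h
    rw [Prime.dvd_finset_prod_iff (Nat.Prime.prime hp.out)] at h
    obtain ⟨i, _, hi⟩ := h
    have h1 : p ∣ (p ^ f) ^ (2 * (i + 1)) := by
      rw [← pow_mul]
      exact dvd_pow_self p (by positivity)
    have h2 : p ∣ (p ^ f) ^ (2 * (i + 1)) - ((p ^ f) ^ (2 * (i + 1)) - 1) := Nat.dvd_sub h1 hi
    have h3 : (p ^ f) ^ (2 * (i + 1)) - ((p ^ f) ^ (2 * (i + 1)) - 1) = 1 := by
      have := hq1 (2 * (i + 1))
      omega
    rw [h3] at h2
    exact hp.out.one_lt.ne' (Nat.dvd_one.mp h2)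
  have hne1 : (p ^ f) ^ (m ^ 2) ≠ 0 := pow_ne_zero _ (pow_ne_zero _ hp.out.ne_zero)
  have hne2 : ∏ i ∈ Finset.range m, ((p ^ f) ^ (2 * (i + 1)) - 1) ≠ 0 := by
    intro h
    exact hprod (h ▸ dvd_zero p)
  rw [Nat.factorization_mul hne1 hne2, Finsupp.add_apply,
    Nat.factorization_eq_zero_of_not_dvd hprod, add_zero, ← pow_mul,
    hp.out.factorization_pow, Finsupp.single_eq_same]

theorem exists_sylow_Sp [Fintype F] {p f : ℕ} [hp : Fact p.Prime]
    (hF : Fintype.card F = p ^ f) :
    ∃ P : Sylow p (symplecticGroup (Fin m) F), (P : Subgroup (symplecticGroup (Fin m) F)) = USp m F := by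
  have hcard : Nat.card (USp m F) = p ^ (Nat.card (symplecticGroup (Fin m) F)).factorization p := by
    rw [factorization_card_sp hF, card_USp, hF, ← pow_mul]
  have : Finite (symplecticGroup (Fin m) F) := Subtype.finite
  exact ⟨Sylow.ofCard (USp m F) hcard, Sylow.coe_ofCard _ _⟩

/-! ### the centre -/

theorem isUT_one_add_single {i j : Fin m} (hij : i < j) (c : F) :
    IsUT (1 + Matrix.single i j c : Matrix (Fin m) (Fin m) F) := by
  refine ⟨fun a b hab => ?_, fun a => ?_⟩
  · have h1 : a ≠ b := ne_of_gt hab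
    have h2 : ¬ (i = a ∧ j = b) := by
      rintro ⟨rfl, rfl⟩
      exact absurd hab (not_lt.mpr hij.le)
    simp [Matrix.add_apply, Matrix.one_apply_ne h1, Matrix.single_apply, h2]
  · have h2 : ¬ (i = a ∧ j = a) := by
      rintro ⟨rfl, rfl⟩
      exact lt_irrefl _ hij
    simp [Matrix.add_apply, Matrix.single_apply, h2]

/-- a central element of `USp` is a Siegel element -/
theorem central_is_Xg (z : symplecticGroup (Fin m) F) (hz : z ∈ USp m F)
    (hc : ∀ u ∈ USp m F, u * z = z * u) :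
    z.1.toBlocks₁₁ = 1 ∧ z.1.toBlocks₂₂ = 1 ∧ z.1.toBlocks₁₂ᵀ = z.1.toBlocks₁₂ := by
  obtain ⟨h1, h2⟩ := block_data hz.1
  have hA := hz.2
  have hcomm := hc (Xg (1 : Matrix (Fin m) (Fin m) F) (by simp)) (Xg_mem_USp _)
  have hcomm' : Xmat (1 : Matrix (Fin m) (Fin m) F) * z.1 = z.1 * Xmat 1 :=
    congrArg Subtype.val hcomm
  rw [coe_eq_fromBlocks z, hz.1] at hcomm'
  unfold Xmat at hcomm'
  rw [fromBlocks_multiply, fromBlocks_multiply, fromBlocks_inj] at hcomm'
  obtain ⟨_, h12, _, _⟩ := hcomm'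
  simp only [Matrix.one_mul, Matrix.mul_one, Matrix.zero_mul, Matrix.mul_zero, add_zero,
    zero_add] at h12
  have hDA : z.1.toBlocks₂₂ = z.1.toBlocks₁₁ := by
    have : z.1.toBlocks₁₂ + z.1.toBlocks₂₂ = z.1.toBlocks₁₁ + z.1.toBlocks₁₂ := h12
    have h3 : z.1.toBlocks₂₂ = z.1.toBlocks₁₁ + z.1.toBlocks₁₂ - z.1.toBlocks₁₂ := by
      rw [← this]; abel
    rw [h3]; abel
  rw [hDA] at h1 h2
  have hAinv : z.1.toBlocks₁₁ᵀ = (z.1.toBlocks₁₁)⁻¹ := (Matrix.inv_eq_left_inv h1).symm
  have hAinvUT := IsUT.inv hA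
  have hA1 : z.1.toBlocks₁₁ = 1 := by
    ext i j
    rcases lt_trichotomy i j with h | h | h
    · have := hAinvUT.1 j i h
      rw [← hAinv, Matrix.transpose_apply] at this
      rw [this, Matrix.one_apply_ne (ne_of_lt h)]
    · subst h
      rw [hA.2 i, Matrix.one_apply_eq]
    · rw [hA.1 i j h, Matrix.one_apply_ne (ne_of_gt h)]
  refine ⟨hA1, by rw [hDA, hA1], ?_⟩
  rw [hA1] at h2
  simpa using h2

theorem central_eq_Xg (z : symplecticGroup (Fin m) F) (hz : z ∈ USp m F)
    (hc : ∀ u ∈ USp m F, u * z = z * u) :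
    z = Xg z.1.toBlocks₁₂ (central_is_Xg z hz hc).2.2 := by
  obtain ⟨h1, h2, h3⟩ := central_is_Xg z hz hc
  apply Subtype.ext
  show z.1 = Xmat _
  conv_lhs => rw [coe_eq_fromBlocks z, hz.1, h1, h2]
  rfl

/-- entries of a central Siegel element -/
theorem central_entries (B : Matrix (Fin m) (Fin m) F) (hB : Bᵀ = B)
    (hc : ∀ u ∈ USp m F, u * Xg B hB = Xg B hB * u) {i j : Fin m} (hij : i < j) :
    (∀ b, b ≠ i → B j b = 0) ∧ (2 : F) * B j i = 0 := by
  have hne : i ≠ j := ne_of_lt hij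
  have hmul : (1 + Matrix.single i j (1 : F)) * (1 - Matrix.single i j (1 : F)) =
      (1 : Matrix (Fin m) (Fin m) F) := tv_mul_inv i j hne 1
  have hmem : Lg (1 + Matrix.single i j (1 : F)) (1 - Matrix.single i j (1 : F)) hmul ∈ USp m F := by
    refine ⟨?_, ?_⟩
    · show (Lmat _ _).toBlocks₂₁ = 0
      unfold Lmat
      rw [toBlocks_fromBlocks₂₁]
    · show IsUT (Lmat _ _).toBlocks₁₁
      unfold Lmat
      rw [toBlocks_fromBlocks₁₁]
      exact isUT_one_add_single hij 1
  have hcomm := congrArg Subtype.val (hc _ hmem)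
  have hcomm' : Lmat (1 + Matrix.single i j (1 : F)) (1 - Matrix.single i j (1 : F)) * Xmat B =
      Xmat B * Lmat (1 + Matrix.single i j (1 : F)) (1 - Matrix.single i j (1 : F)) := hcomm
  unfold Lmat Xmat at hcomm'
  rw [fromBlocks_multiply, fromBlocks_multiply, fromBlocks_inj] at hcomm'
  obtain ⟨_, h12, _, _⟩ := hcomm'
  simp only [Matrix.one_mul, Matrix.mul_one, Matrix.zero_mul, Matrix.mul_zero, add_zero,
    zero_add, Matrix.transpose_sub, Matrix.transpose_one, Matrix.transpose_single] at h12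
  -- h12 : (1 + E_ij) * B = B * (1 - E_ji)
  have key : ∀ a b, (Matrix.single i j (1 : F) * B) a b + (B * Matrix.single j i (1 : F)) a b = 0 := by
    intro a b
    have := congrFun (congrFun h12 a) b
    simp only [Matrix.add_mul, Matrix.mul_sub, Matrix.one_mul, Matrix.mul_one, Matrix.add_apply,
      Matrix.sub_apply] at this
    linear_combination this
  constructor
  · intro b hb
    have := key i b
    rw [Matrix.single_mul_apply_same, Matrix.mul_single_apply_of_ne _ _ _ _ _ hb, one_mul,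
      add_zero] at this
    exact this
  · have := key i i
    rw [Matrix.single_mul_apply_same, Matrix.mul_single_apply_same, one_mul, mul_one] at this
    have hsym : B i j = B j i := by
      have := congrFun (congrFun hB j) i
      rw [Matrix.transpose_apply] at this
      exact this
    rw [hsym] at this
    linear_combination this

theorem central_form {k : ℕ} (z : symplecticGroup (Fin (k + 2)) F) (hz : z ∈ USp (k + 2) F)
    (hc : ∀ u ∈ USp (k + 2) F, u * z = z * u) :
    ∃ s t : F, (2 : F) * t = 0 ∧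
      (z : Matrix (Fin (k + 2) ⊕ Fin (k + 2)) (Fin (k + 2) ⊕ Fin (k + 2)) F) =
        Xmat (Matrix.single 0 0 s + (Matrix.single 0 1 t + Matrix.single 1 0 t)) := by
  have hzX := central_eq_Xg z hz hc
  set B := z.1.toBlocks₁₂ with hBdef
  have hB : Bᵀ = B := (central_is_Xg z hz hc).2.2
  have hc' : ∀ u ∈ USp (k + 2) F, u * Xg B hB = Xg B hB * u := by
    intro u hu
    rw [← hzX]
    exact hc u hu
  have h01 : (0 : Fin (k + 2)) < 1 := by
    rw [Fin.lt_def]; simp
  have hsym : ∀ a b, B a b = B b a := by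
    intro a b
    have := congrFun (congrFun hB b) a
    rw [Matrix.transpose_apply] at this
    exact this
  have hrow1 := central_entries B hB hc' h01
  have hrow : ∀ j : Fin (k + 2), 2 ≤ j.val → ∀ b, B j b = 0 := by
    intro j hj b
    by_cases hb : b = 0
    · have h1j : (1 : Fin (k + 2)) < j := by
        rw [Fin.lt_def]
        have : ((1 : Fin (k + 2)) : ℕ) = 1 := by simp
        omega
      refine (central_entries B hB hc' h1j).1 b ?_
      rw [hb]
      intro h
      have := congrArg Fin.val h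
      simp at this
    · have h0j : (0 : Fin (k + 2)) < j := by
        rw [Fin.lt_def]
        have : ((0 : Fin (k + 2)) : ℕ) = 0 := rfl
        omega
      exact (central_entries B hB hc' h0j).1 b hb
  refine ⟨B 0 0, B 0 1, ?_, ?_⟩
  · rw [hsym 0 1]; exact hrow1.2
  · have : z.1 = Xmat B := congrArg Subtype.val hzX
    rw [this]
    congr 1
    ext a b
    have hval1 : ((1 : Fin (k + 2)) : ℕ) = 1 := by simp
    by_cases ha0 : a = 0
    · subst ha0
      by_cases hb0 : b = 0
      · subst hb0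
        simp [Matrix.add_apply, Matrix.single_apply]
      · by_cases hb1 : b = 1
        · subst hb1
          simp [Matrix.add_apply, Matrix.single_apply]
        · have hb2 : 2 ≤ b.val := by
            have h0 : b.val ≠ 0 := fun h => hb0 (Fin.ext h)
            have h1 : b.val ≠ 1 := fun h => hb1 (Fin.ext (by rw [h, hval1]))
            omega
          rw [hsym 0 b, hrow b hb2 0]
          have hb0' : ¬ (0 : Fin (k + 2)) = b := fun h => hb0 h.symm
          have hb1' : ¬ (1 : Fin (k + 2)) = b := fun h => hb1 h.symm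
          simp [Matrix.add_apply, Matrix.single_apply, hb0', hb1']
    · by_cases ha1 : a = 1
      · subst ha1
        by_cases hb0 : b = 0
        · subst hb0
          rw [hsym 1 0]
          simp [Matrix.add_apply, Matrix.single_apply]
        · rw [hrow1.1 b hb0]
          have hb0' : ¬ (0 : Fin (k + 2)) = b := fun h => hb0 h.symm
          simp [Matrix.add_apply, Matrix.single_apply, hb0']
      · have ha2 : 2 ≤ a.val := by
          have h0 : a.val ≠ 0 := fun h => ha0 (Fin.ext h)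
          have h1 : a.val ≠ 1 := fun h => ha1 (Fin.ext (by rw [h, hval1]))
          omega
        rw [hrow a ha2 b]
        have ha0' : ¬ (0 : Fin (k + 2)) = a := fun h => ha0 h.symm
        have ha1' : ¬ (1 : Fin (k + 2)) = a := fun h => ha1 h.symm
        simp [Matrix.add_apply, Matrix.single_apply, ha0', ha1']

/-! ### the standard long root element is central -/

theorem Xg_single_central {k : ℕ} (c : F) (u : symplecticGroup (Fin (k + 1)) F)
    (hu : u ∈ USp (k + 1) F) :
    u * Xg (Matrix.single 0 0 c) (by simp) = Xg (Matrix.single 0 0 c) (by simp) * u := by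
  obtain ⟨h1, h2⟩ := block_data hu.1
  have hA := hu.2
  have hD : u.1.toBlocks₂₂ = ((u.1.toBlocks₁₁)⁻¹)ᵀ := by
    rw [Matrix.transpose_nonsing_inv]
    exact (Matrix.inv_eq_left_inv (mul_eq_one_comm.mp h1)).symm
  have hAinv := IsUT.inv hA
  apply Subtype.ext
  show u.1 * Xmat _ = Xmat _ * u.1
  conv_lhs => rw [coe_eq_fromBlocks u, hu.1]
  conv_rhs => rw [coe_eq_fromBlocks u, hu.1]
  unfold Xmat
  rw [fromBlocks_multiply, fromBlocks_multiply]
  simp only [Matrix.one_mul, Matrix.mul_one, Matrix.zero_mul, Matrix.mul_zero, add_zero, zero_add]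
  congr 1
  have key : u.1.toBlocks₁₁ * Matrix.single 0 0 c = Matrix.single 0 0 c * u.1.toBlocks₂₂ := by
    ext a b
    by_cases hb : b = 0
    · subst hb
      rw [Matrix.mul_single_apply_same]
      by_cases ha : a = 0
      · subst ha
        rw [Matrix.single_mul_apply_same, hA.2 0, hD, Matrix.transpose_apply, hAinv.2 0]
        ring
      · have ha' : (0 : Fin (k + 1)) < a := Fin.pos_of_ne_zero ha
        rw [Matrix.single_mul_apply_of_ne _ _ _ _ _ ha, hA.1 a 0 ha', zero_mul]
    · rw [Matrix.mul_single_apply_of_ne _ _ _ _ _ hb]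
      by_cases ha : a = 0
      · subst ha
        have hb' : (0 : Fin (k + 1)) < b := Fin.pos_of_ne_zero hb
        rw [Matrix.single_mul_apply_same, hD, Matrix.transpose_apply, hAinv.1 b 0 hb', mul_zero]
      · rw [Matrix.single_mul_apply_of_ne _ _ _ _ _ ha]
  rw [key]
  exact add_comm _ _

/-! ### squares in characteristic two -/

theorem Lg_mul_self {a : Matrix (Fin m) (Fin m) F} (h : a * a = 1) : Lg a a h * Lg a a h = 1 := by
  apply Subtype.ext
  show Lmat a a * Lmat a a = 1
  unfold Lmat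
  rw [fromBlocks_multiply]
  have h' : aᵀ * aᵀ = 1 := by rw [← Matrix.transpose_mul, h, Matrix.transpose_one]
  simp [h, h']

theorem sq_Lg_Xg {a : Matrix (Fin m) (Fin m) F} (h : a * a = 1) (S : Matrix (Fin m) (Fin m) F)
    (hS : Sᵀ = S) :
    ((Lg a a h * Xg S hS) * (Lg a a h * Xg S hS) : symplecticGroup (Fin m) F).1 =
      Xmat (a * S * aᵀ + S) := by
  show (Lmat a a * Xmat S) * (Lmat a a * Xmat S) = _
  rw [Lmat_mul_Xmat, fromBlocks_multiply]
  have h' : aᵀ * aᵀ = 1 := by rw [← Matrix.transpose_mul, h, Matrix.transpose_one]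
  unfold Xmat
  simp only [Matrix.zero_mul, Matrix.mul_zero, add_zero, zero_add, h, h']
  congr 1
  rw [← Matrix.mul_assoc, h, Matrix.one_mul, add_comm, Matrix.mul_assoc]

theorem sq_case1 (h2 : (2 : F) = 0) {i0 i1 : Fin m} (h01 : i0 ≠ i1) (s t : F) (hs : s ≠ 0)
    (ht : t ≠ 0) :
    ∃ u : symplecticGroup (Fin m) F,
      (u * u : symplecticGroup (Fin m) F).1 =
        Xmat (Matrix.single i0 i0 s + (Matrix.single i0 i1 t + Matrix.single i1 i0 t)) := by
  have hadd : ∀ y : F, y + y = 0 := fun y => by rw [← two_mul, h2, zero_mul]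
  have h10 := h01.symm
  set x : F := s / t with hx
  set w : F := t * t / s with hw
  have hxw : x * w = t := by rw [hx, hw]; field_simp
  have hxwx : x * w * x = s := by rw [hxw, hx]; field_simp
  have ha : (1 + Matrix.single i0 i1 x) * (1 + Matrix.single i0 i1 x) =
      (1 : Matrix (Fin m) (Fin m) F) := by
    rw [Matrix.add_mul, Matrix.mul_add, Matrix.mul_add, Matrix.one_mul, Matrix.mul_one,
      Matrix.one_mul, Matrix.single_mul_single_of_ne _ _ _ _ h10, add_zero, add_assoc,
      ← Matrix.single_add, hadd, Matrix.single_zero, add_zero]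
  have hS : (Matrix.single i1 i1 w : Matrix (Fin m) (Fin m) F)ᵀ = Matrix.single i1 i1 w := by simp
  refine ⟨Lg _ _ ha * Xg _ hS, ?_⟩
  rw [sq_Lg_Xg ha _ hS]
  congr 1
  have hprod : (1 + Matrix.single i0 i1 x) * Matrix.single i1 i1 w * (1 + Matrix.single i0 i1 x)ᵀ =
      Matrix.single i1 i1 w + Matrix.single i0 i1 t + Matrix.single i1 i0 t + Matrix.single i0 i0 s := by
    rw [Matrix.transpose_add, Matrix.transpose_one, Matrix.transpose_single, Matrix.add_mul,
      Matrix.one_mul, Matrix.single_mul_single_same, Matrix.mul_add, Matrix.mul_one, Matrix.add_mul,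
      Matrix.single_mul_single_same, Matrix.single_mul_single_same, hxw, mul_comm w x, hxw]
    have htx : t * x = s := by rw [← hxw]; exact hxwx
    rw [htx]
    abel
  rw [hprod]
  ext a b
  simp only [Matrix.add_apply]
  linear_combination hadd (Matrix.single i1 i1 w a b)

theorem sq_case2 (h2 : (2 : F) = 0) {i0 i1 i2 : Fin m} (h01 : i0 ≠ i1) (h02 : i0 ≠ i2)
    (h12 : i1 ≠ i2) (t : F) :
    ∃ u : symplecticGroup (Fin m) F,
      (u * u : symplecticGroup (Fin m) F).1 =
        Xmat (Matrix.single i0 i1 t + Matrix.single i1 i0 t) := by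
  have hadd : ∀ y : F, y + y = 0 := fun y => by rw [← two_mul, h2, zero_mul]
  have h10 := h01.symm
  have h20 := h02.symm
  have h21 := h12.symm
  have ha : (1 + Matrix.single i0 i2 (1 : F)) * (1 + Matrix.single i0 i2 (1 : F)) =
      (1 : Matrix (Fin m) (Fin m) F) := by
    rw [Matrix.add_mul, Matrix.mul_add, Matrix.mul_add, Matrix.one_mul, Matrix.mul_one,
      Matrix.one_mul, Matrix.single_mul_single_of_ne _ _ _ _ h20, add_zero, add_assoc,
      ← Matrix.single_add, hadd, Matrix.single_zero, add_zero]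
  have hS : (Matrix.single i1 i2 t + Matrix.single i2 i1 t : Matrix (Fin m) (Fin m) F)ᵀ =
      Matrix.single i1 i2 t + Matrix.single i2 i1 t := by
    rw [Matrix.transpose_add, Matrix.transpose_single, Matrix.transpose_single, add_comm]
  refine ⟨Lg _ _ ha * Xg _ hS, ?_⟩
  rw [sq_Lg_Xg ha _ hS]
  congr 1
  have hprod : (1 + Matrix.single i0 i2 (1 : F)) * (Matrix.single i1 i2 t + Matrix.single i2 i1 t) *
      (1 + Matrix.single i0 i2 (1 : F))ᵀ =
      Matrix.single i1 i2 t + Matrix.single i2 i1 t + Matrix.single i0 i1 t + Matrix.single i1 i0 t := by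
    rw [Matrix.transpose_add, Matrix.transpose_one, Matrix.transpose_single, Matrix.add_mul,
      Matrix.one_mul, Matrix.mul_add (Matrix.single i0 i2 (1 : F)),
      Matrix.single_mul_single_of_ne _ _ _ _ h21, Matrix.single_mul_single_same, zero_add, one_mul,
      Matrix.mul_add, Matrix.mul_one, Matrix.add_mul, Matrix.add_mul,
      Matrix.single_mul_single_same, Matrix.single_mul_single_of_ne _ _ _ _ h12,
      Matrix.single_mul_single_of_ne _ _ _ _ h12, mul_one]
    abel
  rw [hprod]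
  ext a b
  simp only [Matrix.add_apply]
  linear_combination hadd (Matrix.single i1 i2 t a b) + hadd (Matrix.single i2 i1 t a b)

/-! ### transvections are not squares in characteristic two -/

open Cfsg.Agent.Lib.Helper13_Symp Cfsg.Agent.Lib.Helper13_SympTrans in
theorem transv_not_sq (h2 : (2 : F) = 0) (v : Fin m ⊕ Fin m → F) (hv : v ≠ 0) (c : F)
    (hc : c ≠ 0) (u : symplecticGroup (Fin m) F) : u * u ≠ transv m v c := by
  intro hu
  have hneg : ∀ y : F, -y = y := by
    intro y
    have : y + y = 0 := by rw [← two_mul, h2, zero_mul]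
    linear_combination -this
  set f := Cfsg.sympForm m F with hf
  -- the nilpotent part
  set M : (Fin m ⊕ Fin m → F) → (Fin m ⊕ Fin m → F) := fun x => u.1 *ᵥ x - x with hM
  have hMadd : ∀ x y, M (x + y) = M x + M y := by
    intro x y
    simp only [hM, Matrix.mulVec_add]
    abel
  have hux : ∀ x, u.1 *ᵥ x = x + M x := by
    intro x
    simp only [hM]
    abel
  have hMM : ∀ x, M (M x) = (c * f x v) • v := by
    intro x
    have h1 : u.1 *ᵥ (u.1 *ᵥ x) = x + (c * f x v) • v := by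
      rw [Matrix.mulVec_mulVec]
      have : u.1 * u.1 = (transv m v c).1 := congrArg Subtype.val hu
      rw [this]
      exact transv_mulVec m v c x
    have h3 : M (M x) = u.1 *ᵥ (u.1 *ᵥ x) + x - (2 : F) • (u.1 *ᵥ x) := by
      simp only [hM, Matrix.mulVec_sub, two_smul]
      abel
    rw [h3, h1, h2, zero_smul]
    have : x + x = 0 := by
      ext i
      show x i + x i = 0
      rw [← two_mul, h2, zero_mul]
    calc x + (c * f x v) • v + x - 0 = (x + x) + (c * f x v) • v := by abel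
      _ = (c * f x v) • v := by rw [this, zero_add]
  have hpres : ∀ x y, f (M x) y + f x (M y) + f (M x) (M y) = 0 := by
    intro x y
    have h := sympForm_mulVec_mulVec_of_mem m u.2 x y
    rw [hux x, hux y] at h
    simp only [sympForm_add_left, sympForm_add_right] at h
    simp only [hf]
    linear_combination h
  have hkey : ∀ x, f x v ≠ 0 → f (M x) v = f x v := by
    intro x hx
    have h := hpres x (M x)
    rw [hMM x] at h
    simp only [hf, sympForm_self, sympForm_smul_right] at h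
    have h3 : c * f x v * (f x v + f (M x) v) = 0 := by
      simp only [hf]
      linear_combination h
    have h4 : f x v + f (M x) v = 0 := by
      rcases mul_eq_zero.mp h3 with h5 | h5
      · exact absurd h5 (mul_ne_zero hc hx)
      · exact h5
    have h5 : f (M x) v = -f x v := by linear_combination h4
    rw [h5, hneg]
  obtain ⟨w, hw⟩ := exists_sympForm_ne_zero m hv
  have hx0 : f w v ≠ 0 := by
    simp only [hf]
    rw [sympForm_swap]
    exact neg_ne_zero.mpr hw
  have hall : ∀ x, f (M x) v = f x v := by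
    intro x
    by_cases hx : f x v = 0
    · have h1 : f (x + w) v ≠ 0 := by
        simp only [hf, sympForm_add_left]
        simp only [hf] at hx hx0
        rw [hx, zero_add]
        exact hx0
      have h2' := hkey (x + w) h1
      have h3 := hkey w hx0
      rw [hMadd] at h2'
      simp only [hf, sympForm_add_left] at h2' h3 hx ⊢
      linear_combination h2' - h3
    · exact hkey x hx
  have h1 := hall (M w)
  rw [hMM w, hall w] at h1
  simp only [hf, sympForm_smul_left, sympForm_self, mul_zero] at h1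
  exact hx0 h1.symm

end Cfsg.Agent.Lib.Helper44_SpUT
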