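import Mathlib
import Cfsg.Prelude.Def_Classical
import Cfsg.Prelude.Def_ClassicalGeometry
import Cfsg.Agent.Lib.Helper13_Symp
import Cfsg.Agent.Lib.Helper44_SpUT

/-!
# Definitions for the fusion system of `PSp_{2m}(F)` in the defining characteristic (helper11, S5171)

Inside `Sp = Matrix.symplecticGroup (Fin m) F` (block matrices `[A B; C D]` on `Fin m ⊕ Fin m`, form `J = [0 -1; 1 0]`):

* `USp m F` (helper44): `C = 0`, `A` upper unitriangular - a Sylow `p`-subgroup (`Helper44_SpUT.exists_sylow_Sp`);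
  every element is `Lg A A⁻¹ * Xg S` (`Helper44_SpUT.eq_Lg_mul_Xg`), `Lg A B = [A 0; 0 Bᵀ]`, `Xg S = [1 S; 0 1]`;
* `IsBorel g`: `C = 0` and `A` upper triangular;
* `eL i`, `eR i`: the standard basis vectors `e_i`, `f_i`;
* `QSieg m F`: the Siegel radical, the elements of `USp` fixing every `e_i` (`= {Xg S}`);
* `QPt k F`: the radical of the stabiliser of the point `⟨e_0⟩` in `Sp_{2(k+1)}`: the elements of `USp`
  inducing the identity on `e_0^⊥ / ⟨e_0⟩`;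
* `dg t`: the torus element `Lg (diagonal t) (diagonal t⁻¹)`.
-/

set_option autoImplicit false

namespace Cfsg.Agent.Lib.Helper11_SpFusDefs

open Matrix Cfsg.Agent.Lib.Helper44_PSLnUT Cfsg.Agent.Lib.Helper5_SpPerfect
  Cfsg.Agent.Lib.Helper44_SpUT Cfsg.Agent.Lib.Helper13_Symp

variable {F : Type*} [Field F] {m : ℕ}

/-- the Borel subgroup, as a predicate -/
def IsBorel (g : symplecticGroup (Fin m) F) : Prop :=
  g.1.toBlocks₂₁ = 0 ∧ ∀ i j : Fin m, j < i → g.1.toBlocks₁₁ i j = 0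

/-- the basis vector `e_i` -/
def eL (i : Fin m) : Fin m ⊕ Fin m → F := Pi.single (Sum.inl i) 1

/-- the basis vector `f_i` -/
def eR (i : Fin m) : Fin m ⊕ Fin m → F := Pi.single (Sum.inr i) 1

theorem mulVec_eL (M : Matrix (Fin m ⊕ Fin m) (Fin m ⊕ Fin m) F) (i : Fin m) :
    M *ᵥ eL i = fun a => M a (Sum.inl i) := by
  funext a
  unfold eL
  rw [Matrix.mulVec_single_one]
  rfl

theorem mulVec_eR (M : Matrix (Fin m ⊕ Fin m) (Fin m ⊕ Fin m) F) (i : Fin m) :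
    M *ᵥ eR i = fun a => M a (Sum.inr i) := by
  funext a
  unfold eR
  rw [Matrix.mulVec_single_one]
  rfl

/-- the Siegel radical -/
def QSieg (m : ℕ) (F : Type*) [Field F] : Subgroup (symplecticGroup (Fin m) F) where
  carrier := {g | g ∈ USp m F ∧ ∀ i : Fin m, g.1 *ᵥ eL i = eL i}
  mul_mem' := by
    rintro a b ⟨ha1, ha2⟩ ⟨hb1, hb2⟩
    refine ⟨(USp m F).mul_mem ha1 hb1, fun i => ?_⟩
    show (a.1 * b.1) *ᵥ eL i = eL i
    rw [← Matrix.mulVec_mulVec, hb2 i, ha2 i]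
  one_mem' := ⟨(USp m F).one_mem, fun i => by
    show (1 : Matrix (Fin m ⊕ Fin m) (Fin m ⊕ Fin m) F) *ᵥ eL i = eL i
    rw [Matrix.one_mulVec]⟩
  inv_mem' := by
    rintro a ⟨ha1, ha2⟩
    refine ⟨(USp m F).inv_mem ha1, fun i => ?_⟩
    have h1 : ((a⁻¹ * a : symplecticGroup (Fin m) F) : Matrix (Fin m ⊕ Fin m) (Fin m ⊕ Fin m) F) *ᵥ eL i
        = eL i := by
      rw [inv_mul_cancel]
      show (1 : Matrix (Fin m ⊕ Fin m) (Fin m ⊕ Fin m) F) *ᵥ eL i = eL i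
      rw [Matrix.one_mulVec]
    have h2 : ((a⁻¹ * a : symplecticGroup (Fin m) F) : Matrix (Fin m ⊕ Fin m) (Fin m ⊕ Fin m) F) =
        (a⁻¹).1 * a.1 := rfl
    rw [h2, ← Matrix.mulVec_mulVec, ha2 i] at h1
    exact h1

theorem mem_QSieg {g : symplecticGroup (Fin m) F} :
    g ∈ QSieg m F ↔ g ∈ USp m F ∧ ∀ i : Fin m, g.1 *ᵥ eL i = eL i := Iff.rfl

/-- elements of `USp` fix `e_0` -/
theorem USp_mulVec_e0 {k : ℕ} {g : symplecticGroup (Fin (k + 1)) F} (hg : g ∈ USp (k + 1) F) :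
    g.1 *ᵥ eL (0 : Fin (k + 1)) = eL 0 := by
  rw [mulVec_eL]
  funext a
  rcases a with i | i
  · have h1 : g.1 (Sum.inl i) (Sum.inl 0) = g.1.toBlocks₁₁ i 0 := rfl
    rw [h1]
    by_cases hi : i = 0
    · subst hi
      rw [hg.2.2 0]
      simp [eL]
    · have hlt : (0 : Fin (k + 1)) < i := Fin.pos_of_ne_zero hi
      rw [hg.2.1 i 0 hlt]
      simp [eL, hi]
  · have h1 : g.1 (Sum.inr i) (Sum.inl 0) = g.1.toBlocks₂₁ i 0 := rfl
    rw [h1, hg.1]
    simp [eL]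

/-- the radical of the stabiliser of the point `⟨e_0⟩` -/
def QPt (k : ℕ) (F : Type*) [Field F] : Subgroup (symplecticGroup (Fin (k + 1)) F) where
  carrier := {g | g ∈ USp (k + 1) F ∧ ∀ v : Fin (k + 1) ⊕ Fin (k + 1) → F,
    Cfsg.sympForm (k + 1) F v (eL 0) = 0 → ∃ c : F, g.1 *ᵥ v = v + c • eL 0}
  mul_mem' := by
    rintro a b ⟨ha1, ha2⟩ ⟨hb1, hb2⟩
    refine ⟨(USp (k + 1) F).mul_mem ha1 hb1, fun v hv => ?_⟩
    obtain ⟨c, hc⟩ := hb2 v hv
    obtain ⟨d, hd⟩ := ha2 v hv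
    refine ⟨d + c, ?_⟩
    show (a.1 * b.1) *ᵥ v = _
    rw [← Matrix.mulVec_mulVec, hc, Matrix.mulVec_add, Matrix.mulVec_smul, USp_mulVec_e0 ha1, hd,
      add_smul, add_assoc]
  one_mem' := ⟨(USp (k + 1) F).one_mem, fun v _ => ⟨0, by
    show (1 : Matrix (Fin (k + 1) ⊕ Fin (k + 1)) (Fin (k + 1) ⊕ Fin (k + 1)) F) *ᵥ v = _
    rw [Matrix.one_mulVec, zero_smul, add_zero]⟩⟩
  inv_mem' := by
    rintro a ⟨ha1, ha2⟩
    have hinv : ∀ w : Fin (k + 1) ⊕ Fin (k + 1) → F, (a⁻¹).1 *ᵥ (a.1 *ᵥ w) = w := by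
      intro w
      rw [Matrix.mulVec_mulVec]
      have h2 : (a⁻¹).1 * a.1 =
          ((a⁻¹ * a : symplecticGroup (Fin (k + 1)) F) : Matrix _ _ F) := rfl
      rw [h2, inv_mul_cancel]
      show (1 : Matrix (Fin (k + 1) ⊕ Fin (k + 1)) (Fin (k + 1) ⊕ Fin (k + 1)) F) *ᵥ w = w
      rw [Matrix.one_mulVec]
    refine ⟨(USp (k + 1) F).inv_mem ha1, fun v hv => ?_⟩
    obtain ⟨c, hc⟩ := ha2 v hv
    refine ⟨-c, ?_⟩
    have h1 := hinv v
    rw [hc, Matrix.mulVec_add, Matrix.mulVec_smul] at h1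
    have h3 : (a⁻¹).1 *ᵥ eL (0 : Fin (k + 1)) = eL 0 := by
      have := hinv (eL (0 : Fin (k + 1)))
      rwa [USp_mulVec_e0 ha1] at this
    rw [h3] at h1
    rw [eq_sub_of_add_eq h1, neg_smul, sub_eq_add_neg]

theorem mem_QPt {k : ℕ} {g : symplecticGroup (Fin (k + 1)) F} :
    g ∈ QPt k F ↔ g ∈ USp (k + 1) F ∧ ∀ v : Fin (k + 1) ⊕ Fin (k + 1) → F,
      Cfsg.sympForm (k + 1) F v (eL 0) = 0 → ∃ c : F, g.1 *ᵥ v = v + c • eL 0 := Iff.rfl

theorem QSieg_le (m : ℕ) : QSieg m F ≤ USp m F := fun _ h => h.1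

theorem QPt_le (k : ℕ) : QPt k F ≤ USp (k + 1) F := fun _ h => h.1

/-- the torus element `diag(t, t⁻¹)` -/
def dg (t : Fin m → Fˣ) : symplecticGroup (Fin m) F :=
  Lg (Matrix.diagonal fun i => ((t i : Fˣ) : F)) (Matrix.diagonal fun i => (((t i)⁻¹ : Fˣ) : F))
    (by
      rw [Matrix.diagonal_mul_diagonal]
      have : (fun i => ((t i : Fˣ) : F) * (((t i)⁻¹ : Fˣ) : F)) = fun _ => (1 : F) := by
        funext i
        exact Units.mul_inv (t i)
      rw [this, Matrix.diagonal_one])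

/-- the long root element `x_{2ε_0}(c) = Xg (c E_00)` (a transvection with centre `e_0`) -/
def xl {k : ℕ} (c : F) : symplecticGroup (Fin (k + 1)) F :=
  Xg (Matrix.single 0 0 c) (by rw [Matrix.transpose_single])

/-- the general central element `Xg (s E_00 + t (E_01 + E_10))` of `USp` -/
def zz {k : ℕ} (s t : F) : symplecticGroup (Fin (k + 2)) F :=
  Xg (Matrix.single 0 0 s + (Matrix.single 0 1 t + Matrix.single 1 0 t))
    (by rw [Matrix.transpose_add, Matrix.transpose_add, Matrix.transpose_single,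
      Matrix.transpose_single, Matrix.transpose_single, add_comm (Matrix.single 1 0 t)])

/-- the Levi root element `Lg (1 + a E_ij)` -/
def lv {i j : Fin m} (hij : i ≠ j) (a : F) : symplecticGroup (Fin m) F :=
  Lg (1 + Matrix.single i j a) (1 - Matrix.single i j a) (tv_mul_inv i j hij a)

/-- the Levi element `Lg A A⁻¹` of an upper unitriangular matrix -/
noncomputable def lvU {A : Matrix (Fin m) (Fin m) F} (hA : IsUT A) : symplecticGroup (Fin m) F :=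
  Lg A A⁻¹ (isUT_mul_inv hA)

end Cfsg.Agent.Lib.Helper11_SpFusDefs
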