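import Mathlib
import Cfsg.Prelude.Def_Classical
import Cfsg.Prelude.Def_ClassicalGeometry
import Cfsg.Agent.Lib.Helper13_Symp
import Cfsg.Agent.Lib.Helper13_SympTrans
import Cfsg.Agent.Lib.Helper44_SpUT
import Cfsg.Agent.Lib.Helper11_SpFusDefs

/-!
# S5171-GEN_DEC (architect helper11; author helper10): a Borel element of `Sp` is `u * dg t`, `u ∈ USp`.
-/

set_option autoImplicit false

namespace Cfsg.Agent.Lib.Helper10_S5171_GEN_DEC

open Matrix Cfsg.Agent.Lib.Helper44_PSLnUT Cfsg.Agent.Lib.Helper5_SpPerfect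
  Cfsg.Agent.Lib.Helper44_SpUT Cfsg.Agent.Lib.Helper13_Symp Cfsg.Agent.Lib.Helper11_SpFusDefs

variable {F : Type*} [Field F]

/-- the matrix of `dg t` -/
theorem dg_coe {m : ℕ} (t : Fin m → Fˣ) :
    ((dg t : symplecticGroup (Fin m) F) : Matrix (Fin m ⊕ Fin m) (Fin m ⊕ Fin m) F) =
      fromBlocks (Matrix.diagonal fun i => ((t i : Fˣ) : F)) 0 0
        (Matrix.diagonal fun i => (((t i)⁻¹ : Fˣ) : F)) := by
  show Lmat _ _ = _
  unfold Lmat
  rw [Matrix.diagonal_transpose]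

theorem dg_mul_dg_inv {m : ℕ} (t : Fin m → Fˣ) :
    (dg (fun i => (t i)⁻¹) : symplecticGroup (Fin m) F) * dg t = 1 := by
  apply Subtype.ext
  show (dg (fun i => (t i)⁻¹) : symplecticGroup (Fin m) F).1 * (dg t : symplecticGroup (Fin m) F).1 = 1
  rw [dg_coe, dg_coe, fromBlocks_multiply]
  simp only [Matrix.mul_zero, Matrix.zero_mul, add_zero, zero_add, Matrix.diagonal_mul_diagonal,
    inv_inv]
  have h1 : (fun i => (((t i)⁻¹ : Fˣ) : F) * ((t i : Fˣ) : F)) = fun _ => (1 : F) := by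
    funext i; exact Units.inv_mul (t i)
  have h2 : (fun i => ((t i : Fˣ) : F) * (((t i)⁻¹ : Fˣ) : F)) = fun _ => (1 : F) := by
    funext i; exact Units.mul_inv (t i)
  rw [h1, h2, Matrix.diagonal_one, fromBlocks_one]

/-- GEN_DEC. -/
theorem GEN_DEC {m : ℕ} (g : symplecticGroup (Fin m) F) (hg : IsBorel g) :
    ∃ u ∈ USp m F, ∃ t : Fin m → Fˣ, g = u * dg t := by
  obtain ⟨hC, hA⟩ := hg
  obtain ⟨h1, -⟩ := block_data hC
  -- the diagonal entries of `A` are nonzero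
  have hdet : (g.1.toBlocks₁₁).det ≠ 0 := by
    intro h0
    have := congrArg Matrix.det h1
    rw [Matrix.det_mul, Matrix.det_transpose, h0, zero_mul, Matrix.det_one] at this
    exact zero_ne_one this
  have htri : (g.1.toBlocks₁₁).BlockTriangular id := by
    intro i j hij
    exact hA i j hij
  rw [Matrix.det_of_isUpperTriangular htri] at hdet
  have hdiag : ∀ i : Fin m, g.1.toBlocks₁₁ i i ≠ 0 := by
    intro i h0
    apply hdet
    exact Finset.prod_eq_zero (Finset.mem_univ i) h0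
  let t : Fin m → Fˣ := fun i => Units.mk0 (g.1.toBlocks₁₁ i i) (hdiag i)
  refine ⟨g * dg (fun i => (t i)⁻¹), ?_, t, ?_⟩
  · -- membership in `USp`
    have hcoe : ((g * dg (fun i => (t i)⁻¹) : symplecticGroup (Fin m) F) :
        Matrix (Fin m ⊕ Fin m) (Fin m ⊕ Fin m) F) =
        fromBlocks (g.1.toBlocks₁₁ * Matrix.diagonal fun i => (((t i)⁻¹ : Fˣ) : F))
          (g.1.toBlocks₁₂ * Matrix.diagonal fun i => ((((t i)⁻¹)⁻¹ : Fˣ) : F)) 0
          (g.1.toBlocks₂₂ * Matrix.diagonal fun i => ((((t i)⁻¹)⁻¹ : Fˣ) : F)) := by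
      show g.1 * (dg (fun i => (t i)⁻¹) : symplecticGroup (Fin m) F).1 = _
      rw [dg_coe]
      conv_lhs => rw [coe_eq_fromBlocks g, hC]
      rw [fromBlocks_multiply]
      simp only [Matrix.mul_zero, Matrix.zero_mul, add_zero, zero_add]
    rw [mem_USp]
    refine ⟨?_, ?_, ?_⟩
    · show ((g * dg (fun i => (t i)⁻¹) : symplecticGroup (Fin m) F) :
        Matrix (Fin m ⊕ Fin m) (Fin m ⊕ Fin m) F).toBlocks₂₁ = 0
      rw [hcoe, toBlocks_fromBlocks₂₁]
    · intro i j hij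
      show ((g * dg (fun i => (t i)⁻¹) : symplecticGroup (Fin m) F) :
        Matrix (Fin m ⊕ Fin m) (Fin m ⊕ Fin m) F).toBlocks₁₁ i j = 0
      rw [hcoe, toBlocks_fromBlocks₁₁, Matrix.mul_diagonal, hA i j hij, zero_mul]
    · intro i
      show ((g * dg (fun i => (t i)⁻¹) : symplecticGroup (Fin m) F) :
        Matrix (Fin m ⊕ Fin m) (Fin m ⊕ Fin m) F).toBlocks₁₁ i i = 1
      rw [hcoe, toBlocks_fromBlocks₁₁, Matrix.mul_diagonal]
      show g.1.toBlocks₁₁ i i * (((Units.mk0 (g.1.toBlocks₁₁ i i) (hdiag i))⁻¹ : Fˣ) : F) = 1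
      rw [Units.val_inv_eq_inv_val, Units.val_mk0, mul_inv_cancel₀ (hdiag i)]
  · rw [mul_assoc, dg_mul_dg_inv, mul_one]

end Cfsg.Agent.Lib.Helper10_S5171_GEN_DEC
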