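import Mathlib
import Cfsg.Prelude.Def_Classical
import Cfsg.Prelude.Def_ClassicalGeometry
import Cfsg.Agent.Lib.Helper13_Symp
import Cfsg.Agent.Lib.Helper13_SympTrans
import Cfsg.Agent.Lib.Helper44_SpUT
import Cfsg.Agent.Lib.Helper11_SpFusDefs

/-!
# S5171-QCHAR (architect helper11; author helper10)

Characterisations of the Siegel radical `QSieg` and the point radical `QPt` without the a-priori
condition `g ∈ USp`, and the normalisers of the two radicals.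
-/

set_option autoImplicit false

namespace Cfsg.Agent.Lib.Helper10_S5171_QCHAR

open Matrix Cfsg.Agent.Lib.Helper44_PSLnUT Cfsg.Agent.Lib.Helper5_SpPerfect
  Cfsg.Agent.Lib.Helper44_SpUT Cfsg.Agent.Lib.Helper13_Symp Cfsg.Agent.Lib.Helper11_SpFusDefs

variable {F : Type*} [Field F]

theorem eL_inl {m : ℕ} (i j : Fin m) :
    (eL i : Fin m ⊕ Fin m → F) (Sum.inl j) = if j = i then 1 else 0 := by
  unfold eL
  by_cases h : j = i
  · subst h; simp
  · rw [if_neg h, Pi.single_apply, if_neg]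
    intro h'
    exact h (Sum.inl.inj h')

theorem eL_inr {m : ℕ} (i j : Fin m) : (eL i : Fin m ⊕ Fin m → F) (Sum.inr j) = 0 := by
  unfold eL
  rw [Pi.single_apply, if_neg]
  exact Sum.inr_ne_inl

theorem sympForm_eL {m : ℕ} (v : Fin m ⊕ Fin m → F) (i : Fin m) :
    Cfsg.sympForm m F v (eL i) = v (Sum.inr i) := by
  rw [sympForm_eq]
  simp only [eL_inl, eL_inr, mul_zero, sub_zero, mul_ite, mul_one]
  rw [Finset.sum_ite_eq']
  simp

theorem inv_mulVec_mulVec {m : ℕ} (w : symplecticGroup (Fin m) F) (x : Fin m ⊕ Fin m → F) :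
    (w⁻¹).1 *ᵥ (w.1 *ᵥ x) = x := by
  rw [Matrix.mulVec_mulVec]
  have h2 : (w⁻¹).1 * w.1 = ((w⁻¹ * w : symplecticGroup (Fin m) F) : Matrix _ _ F) := rfl
  rw [h2, inv_mul_cancel]
  show (1 : Matrix (Fin m ⊕ Fin m) (Fin m ⊕ Fin m) F) *ᵥ x = x
  rw [Matrix.one_mulVec]

theorem mulVec_inv_mulVec {m : ℕ} (w : symplecticGroup (Fin m) F) (x : Fin m ⊕ Fin m → F) :
    w.1 *ᵥ ((w⁻¹).1 *ᵥ x) = x := by
  have := inv_mulVec_mulVec w⁻¹ x
  rwa [inv_inv] at this

theorem conj_mulVec {m : ℕ} (w q : symplecticGroup (Fin m) F) (x : Fin m ⊕ Fin m → F) :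
    (w * q * w⁻¹).1 *ᵥ x = w.1 *ᵥ (q.1 *ᵥ ((w⁻¹).1 *ᵥ x)) := by
  show (w.1 * q.1 * (w⁻¹).1) *ᵥ x = _
  rw [← Matrix.mulVec_mulVec, ← Matrix.mulVec_mulVec]

/-- QCHAR-1. -/
theorem mem_QSieg_iff' {m : ℕ} (g : symplecticGroup (Fin m) F) :
    g ∈ QSieg m F ↔ ∀ i : Fin m, g.1 *ᵥ eL i = eL i := by
  constructor
  · intro h
    exact h.2
  · intro h
    refine ⟨?_, h⟩
    have hcol : ∀ (a : Fin m ⊕ Fin m) (i : Fin m), g.1 a (Sum.inl i) = (eL i : _ → F) a := by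
      intro a i
      have := congrFun (h i) a
      rw [mulVec_eL] at this
      exact this
    rw [mem_USp]
    refine ⟨?_, ?_, ?_⟩
    · ext i' i
      show g.1 (Sum.inr i') (Sum.inl i) = 0
      rw [hcol, eL_inr]
    · intro i' i hlt
      show g.1 (Sum.inl i') (Sum.inl i) = 0
      rw [hcol, eL_inl, if_neg (ne_of_gt hlt)]
    · intro i
      show g.1 (Sum.inl i) (Sum.inl i) = 1
      rw [hcol, eL_inl, if_pos rfl]

/-- QCHAR-2. -/
theorem mem_QPt_iff' {k : ℕ} (g : symplecticGroup (Fin (k + 1)) F) :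
    g ∈ QPt k F ↔ g.1 *ᵥ eL 0 = eL 0 ∧ ∀ v : Fin (k + 1) ⊕ Fin (k + 1) → F,
      Cfsg.sympForm (k + 1) F v (eL 0) = 0 → ∃ c : F, g.1 *ᵥ v = v + c • eL 0 := by
  constructor
  · intro h
    exact ⟨USp_mulVec_e0 h.1, h.2⟩
  · rintro ⟨h0, h⟩
    refine ⟨?_, h⟩
    have hcol : ∀ i : Fin (k + 1), ∃ c : F, ∀ a : Fin (k + 1) ⊕ Fin (k + 1),
        g.1 a (Sum.inl i) = (eL i : _ → F) a + c * (eL 0 : _ → F) a := by
      intro i
      obtain ⟨c, hc⟩ := h (eL i) (by rw [sympForm_eL, eL_inr])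
      refine ⟨c, fun a => ?_⟩
      have := congrFun hc a
      rw [mulVec_eL] at this
      exact this
    have hcol0 : ∀ a : Fin (k + 1) ⊕ Fin (k + 1), g.1 a (Sum.inl 0) = (eL 0 : _ → F) a := by
      intro a
      have := congrFun h0 a
      rw [mulVec_eL] at this
      exact this
    rw [mem_USp]
    refine ⟨?_, ?_, ?_⟩
    · ext i' i
      show g.1 (Sum.inr i') (Sum.inl i) = 0
      obtain ⟨c, hc⟩ := hcol i
      rw [hc, eL_inr, eL_inr, mul_zero, add_zero]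
    · intro i' i hlt
      show g.1 (Sum.inl i') (Sum.inl i) = 0
      obtain ⟨c, hc⟩ := hcol i
      have hi'0 : i' ≠ 0 := by
        intro h'
        rw [h'] at hlt
        exact absurd hlt (Fin.not_lt_zero i)
      rw [hc, eL_inl, eL_inl, if_neg (ne_of_gt hlt), if_neg hi'0, mul_zero, add_zero]
    · intro i
      show g.1 (Sum.inl i) (Sum.inl i) = 1
      by_cases hi : i = 0
      · subst hi
        rw [hcol0, eL_inl, if_pos rfl]
      · obtain ⟨c, hc⟩ := hcol i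
        rw [hc, eL_inl, eL_inl, if_pos rfl, if_neg hi, mul_zero, add_zero]

/-- vectors in the span of the `e_i` are fixed by the Siegel radical -/
theorem QSieg_fix {m : ℕ} {q : symplecticGroup (Fin m) F} (hq : q ∈ QSieg m F)
    (x : Fin m ⊕ Fin m → F) (hx : ∀ j : Fin m, x (Sum.inr j) = 0) : q.1 *ᵥ x = x := by
  have hcol : ∀ (a : Fin m ⊕ Fin m) (i : Fin m), q.1 a (Sum.inl i) = (eL i : _ → F) a := by
    intro a i
    have := congrFun (hq.2 i) a
    rw [mulVec_eL] at this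
    exact this
  funext a
  rw [Matrix.mulVec, dotProduct, Fintype.sum_sum_type]
  simp only [hx, mul_zero, Finset.sum_const_zero, add_zero, hcol]
  rcases a with i' | i'
  · simp only [eL_inl, ite_mul, one_mul, zero_mul]
    rw [Finset.sum_ite_eq]
    simp
  · simp only [eL_inr, zero_mul, Finset.sum_const_zero]
    exact (hx i').symm

/-- QCHAR-3. -/
theorem normalizes_Q {k : ℕ} (w : symplecticGroup (Fin (k + 1)) F) :
    (w.1.toBlocks₂₁ = 0 → ∀ q ∈ QSieg (k + 1) F, w * q * w⁻¹ ∈ QSieg (k + 1) F) ∧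
    ((∃ a : F, w.1 *ᵥ eL 0 = a • eL 0) → ∀ q ∈ QPt k F, w * q * w⁻¹ ∈ QPt k F) ∧
    (IsBorel w → ∃ a : F, w.1 *ᵥ eL 0 = a • eL 0) := by
  refine ⟨?_, ?_, ?_⟩
  · intro hC q hq
    rw [mem_QSieg_iff']
    intro i
    rw [conj_mulVec]
    have hx : ∀ j : Fin (k + 1), ((w⁻¹).1 *ᵥ (eL i : _ → F)) (Sum.inr j) = 0 := by
      intro j
      rw [mulVec_eL, coe_inv_blocks, hC]
      simp
    rw [QSieg_fix hq _ hx, mulVec_inv_mulVec]
  · rintro ⟨a, ha⟩ q hq
    have ha0 : a ≠ 0 := by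
      rintro rfl
      rw [zero_smul] at ha
      have h1 := inv_mulVec_mulVec w (eL 0 : _ → F)
      rw [ha, Matrix.mulVec_zero] at h1
      have h2 := congrFun h1 (Sum.inl 0)
      rw [eL_inl, if_pos rfl] at h2
      exact zero_ne_one h2
    have hinv : (w⁻¹).1 *ᵥ (eL 0 : _ → F) = a⁻¹ • eL 0 := by
      have h1 := inv_mulVec_mulVec w (eL 0 : _ → F)
      rw [ha, Matrix.mulVec_smul] at h1
      calc (w⁻¹).1 *ᵥ (eL 0 : _ → F) = a⁻¹ • (a • ((w⁻¹).1 *ᵥ (eL 0 : _ → F))) := by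
            rw [smul_smul, inv_mul_cancel₀ ha0, one_smul]
        _ = a⁻¹ • eL 0 := by rw [h1]
    have hq0 : q.1 *ᵥ (eL 0 : _ → F) = eL 0 := USp_mulVec_e0 hq.1
    rw [mem_QPt_iff']
    refine ⟨?_, ?_⟩
    · rw [conj_mulVec, hinv, Matrix.mulVec_smul, hq0, Matrix.mulVec_smul, ha, smul_smul,
        inv_mul_cancel₀ ha0, one_smul]
    · intro v hv
      have hy : Cfsg.sympForm (k + 1) F ((w⁻¹).1 *ᵥ v) (eL 0) = 0 := by
        have h1 := sympForm_mulVec_mulVec_of_mem (k + 1) (w⁻¹).2 v (eL 0 : _ → F)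
        rw [hv, hinv, sympForm_smul_right] at h1
        rcases mul_eq_zero.mp h1 with h | h
        · exact absurd h (inv_ne_zero ha0)
        · exact h
      obtain ⟨c, hc⟩ := hq.2 _ hy
      refine ⟨c * a, ?_⟩
      rw [conj_mulVec, hc, Matrix.mulVec_add, mulVec_inv_mulVec, Matrix.mulVec_smul, ha, smul_smul]
  · rintro ⟨hC, hA⟩
    refine ⟨w.1.toBlocks₁₁ 0 0, ?_⟩
    rw [mulVec_eL]
    funext b
    rcases b with i | i
    · show w.1.toBlocks₁₁ i 0 = (w.1.toBlocks₁₁ 0 0 • (eL 0 : _ → F)) (Sum.inl i)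
      rw [Pi.smul_apply, eL_inl, smul_eq_mul]
      by_cases hi : i = 0
      · rw [if_pos hi, hi, mul_one]
      · rw [if_neg hi, mul_zero]
        exact hA i 0 (Fin.pos_of_ne_zero hi)
    · show w.1.toBlocks₂₁ i 0 = (w.1.toBlocks₁₁ 0 0 • (eL 0 : _ → F)) (Sum.inr i)
      rw [hC, Pi.smul_apply, eL_inr, smul_zero]
      rfl

end Cfsg.Agent.Lib.Helper10_S5171_QCHAR
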