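import Cfsg.Agent.Lib.Helper51_SL2Sub

/-!
# The subgroup of `SL(2,E)` generated by `tU c` and `tL (c α)`, `c ∈ k`  (basic facts)

`GG k α` is the subgroup generated by the upper transvections with parameter in `k` and the lower
transvections with parameter in `k α`.  We show: invariance under the torus of `k` and under the
"flip" `theta`, `k`-linearity of the set of `x` with `tU x ∈ GG`, the finishing lemma
(`tL 1 ∈ GG` implies that `GG` contains every matrix over `k[α]`) and the torus trick
(an element of `GG` with lower left entry in `k^*` forces `tL 1 ∈ GG`).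
-/

set_option autoImplicit false
set_option linter.unusedSimpArgs false
set_option linter.unusedVariables false
set_option linter.unusedSectionVars false

namespace Cfsg.Agent.Lib.Helper83_SL2GenBasic

open Matrix Cfsg.Agent.Lib.Helper50_SL2Mat Cfsg.Agent.Lib.Helper51_SL2Sub
open scoped MatrixGroups

variable {k E : Type*} [Field k] [Field E] [Algebra k E]

/-- the generating set -/
def gens (k : Type*) {E : Type*} [Field k] [Field E] [Algebra k E] (α : E) : Set SL(2, E) :=
  {g | ∃ c : k, g = tU (algebraMap k E c)} ∪ {g | ∃ c : k, g = tL (algebraMap k E c * α)}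

/-- the generated subgroup -/
def GG (k : Type*) {E : Type*} [Field k] [Field E] [Algebra k E] (α : E) : Subgroup SL(2, E) :=
  Subgroup.closure (gens k α)

variable {α : E}

theorem tU_mem (c : k) : tU (algebraMap k E c) ∈ GG k α :=
  Subgroup.subset_closure (Or.inl ⟨c, rfl⟩)

theorem tL_mem (c : k) : tL (algebraMap k E c * α) ∈ GG k α :=
  Subgroup.subset_closure (Or.inr ⟨c, rfl⟩)

theorem tU_one_mem : tU (1 : E) ∈ GG k α := by
  have := tU_mem (k := k) (α := α) 1
  rwa [map_one] at this

theorem tL_alpha_mem : tL α ∈ GG k α := by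
  have := tL_mem (k := k) (α := α) 1
  rwa [map_one, one_mul] at this

/-- a homomorphism mapping the generators into `GG` maps `GG` into `GG` -/
theorem map_mem_of_gens (φ : SL(2, E) →* SL(2, E)) (h : ∀ g ∈ gens k α, φ g ∈ GG k α)
    {g : SL(2, E)} (hg : g ∈ GG k α) : φ g ∈ GG k α := by
  have : GG k α ≤ (GG k α).comap φ := by
    rw [GG, Subgroup.closure_le]
    intro x hx
    exact h x hx
  exact this hg

/-! ### additive structure of the parameters -/

theorem tU_add_mem {x y : E} (hx : tU x ∈ GG k α) (hy : tU y ∈ GG k α) : tU (x + y) ∈ GG k α := by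
  rw [tU_add]; exact (GG k α).mul_mem hx hy

theorem tU_neg_mem {x : E} (hx : tU x ∈ GG k α) : tU (-x) ∈ GG k α := by
  rw [← tU_inv]; exact (GG k α).inv_mem hx

theorem tU_sub_mem {x y : E} (hx : tU x ∈ GG k α) (hy : tU y ∈ GG k α) : tU (x - y) ∈ GG k α := by
  rw [sub_eq_add_neg]; exact tU_add_mem hx (tU_neg_mem hy)

theorem tL_add_mem {x y : E} (hx : tL x ∈ GG k α) (hy : tL y ∈ GG k α) : tL (x + y) ∈ GG k α := by
  rw [tL_add]; exact (GG k α).mul_mem hx hy

theorem tL_neg_mem {x : E} (hx : tL x ∈ GG k α) : tL (-x) ∈ GG k α := by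
  rw [← tL_inv]; exact (GG k α).inv_mem hx

/-! ### the torus -/

/-- diagonal element -/
def hD (a : E) (ha : a ≠ 0) : SL(2, E) := mk a 0 0 a⁻¹ (by field_simp; ring)

@[simp] theorem hD00 (a : E) (ha : a ≠ 0) : (hD a ha) 0 0 = a := rfl
@[simp] theorem hD01 (a : E) (ha : a ≠ 0) : (hD a ha) 0 1 = 0 := rfl
@[simp] theorem hD10 (a : E) (ha : a ≠ 0) : (hD a ha) 1 0 = 0 := rfl
@[simp] theorem hD11 (a : E) (ha : a ≠ 0) : (hD a ha) 1 1 = a⁻¹ := rfl

theorem hD_conj_tU (a : E) (ha : a ≠ 0) (x : E) :
    hD a ha * tU x * (hD a ha)⁻¹ = tU (a * a * x) := by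
  apply ext4 <;>
    simp only [mul00, mul01, mul10, mul11, inv00, inv01, inv10, inv11, tU00, tU01, tU10, tU11,
      hD00, hD01, hD10, hD11] <;> field_simp <;> ring

theorem hD_conj_tL (a : E) (ha : a ≠ 0) (y : E) :
    hD a ha * tL y * (hD a ha)⁻¹ = tL (a⁻¹ * a⁻¹ * y) := by
  apply ext4 <;>
    simp only [mul00, mul01, mul10, mul11, inv00, inv01, inv10, inv11, tL00, tL01, tL10, tL11,
      hD00, hD01, hD10, hD11] <;> field_simp <;> ring

/-- conjugation by the diagonal elements over `k` preserves `GG` -/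
theorem hD_conj_mem (c : k) (hc : c ≠ 0) (hc' : algebraMap k E c ≠ 0) {g : SL(2, E)}
    (hg : g ∈ GG k α) :
    hD (algebraMap k E c) hc' * g * (hD (algebraMap k E c) hc')⁻¹ ∈ GG k α := by
  have := map_mem_of_gens (k := k) (α := α)
    (MulAut.conj (hD (algebraMap k E c) hc')).toMonoidHom ?_ hg
  · simpa [MulAut.conj_apply] using this
  · rintro x (⟨d, rfl⟩ | ⟨d, rfl⟩)
    · show hD _ hc' * tU _ * (hD _ hc')⁻¹ ∈ GG k α
      rw [hD_conj_tU, ← map_mul, ← map_mul]
      exact tU_mem _
    · show hD _ hc' * tL _ * (hD _ hc')⁻¹ ∈ GG k α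
      rw [hD_conj_tL]
      have e : (algebraMap k E c)⁻¹ * (algebraMap k E c)⁻¹ * (algebraMap k E d * α) =
          algebraMap k E (c⁻¹ * c⁻¹ * d) * α := by
        rw [map_mul, map_mul, map_inv₀]; ring
      rw [e]
      exact tL_mem _

theorem tU_sq_mul_mem (c : k) {x : E} (hx : tU x ∈ GG k α) :
    tU (algebraMap k E (c * c) * x) ∈ GG k α := by
  by_cases hc : c = 0
  · rw [hc, mul_zero, map_zero, zero_mul, tU_zero]; exact (GG k α).one_mem
  have hc' : algebraMap k E c ≠ 0 := fun h => hc ((map_eq_zero _).1 h)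
  have := hD_conj_mem (α := α) c hc hc' hx
  rwa [hD_conj_tU, ← map_mul] at this

/-- the parameters of upper transvections in `GG` are closed under multiplication by `k` -/
theorem tU_smul_mem (h2 : (2 : k) ≠ 0) (c : k) {x : E} (hx : tU x ∈ GG k α) :
    tU (algebraMap k E c * x) ∈ GG k α := by
  have e : c = ((c + 1) / 2) * ((c + 1) / 2) - ((c - 1) / 2) * ((c - 1) / 2) := by
    field_simp; ring
  have h1 := tU_sq_mul_mem (α := α) ((c + 1) / 2) hx
  have h3 := tU_sq_mul_mem (α := α) ((c - 1) / 2) hx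
  have := tU_sub_mem h1 h3
  rw [← sub_mul, ← map_sub, ← e] at this
  exact this

/-! ### the flip -/

/-- conjugation by `[[0,1],[α,0]]` -/
def theta (α : E) (hα : α ≠ 0) : SL(2, E) →* SL(2, E) where
  toFun g := mk (g 1 1) (g 1 0 / α) (α * g 0 1) (g 0 0) (by
    have := det1 g
    field_simp
    linear_combination this)
  map_one' := by
    apply ext4 <;> simp
  map_mul' g h := by
    apply ext4 <;>
      simp only [mul00, mul01, mul10, mul11, mk00, mk01, mk10, mk11] <;> field_simp <;> ring

theorem theta00 (hα : α ≠ 0) (g : SL(2, E)) : (theta α hα g) 0 0 = g 1 1 := rfl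
theorem theta01 (hα : α ≠ 0) (g : SL(2, E)) : (theta α hα g) 0 1 = g 1 0 / α := rfl
theorem theta10 (hα : α ≠ 0) (g : SL(2, E)) : (theta α hα g) 1 0 = α * g 0 1 := rfl
theorem theta11 (hα : α ≠ 0) (g : SL(2, E)) : (theta α hα g) 1 1 = g 0 0 := rfl

theorem theta_tU (hα : α ≠ 0) (x : E) : theta α hα (tU x) = tL (α * x) := by
  apply ext4 <;> simp [theta00, theta01, theta10, theta11]

theorem theta_tL (hα : α ≠ 0) (y : E) : theta α hα (tL y) = tU (y / α) := by
  apply ext4 <;> simp [theta00, theta01, theta10, theta11]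

theorem theta_mem (hα : α ≠ 0) {g : SL(2, E)} (hg : g ∈ GG k α) : theta α hα g ∈ GG k α := by
  refine map_mem_of_gens (k := k) (α := α) (theta α hα) ?_ hg
  rintro x (⟨d, rfl⟩ | ⟨d, rfl⟩)
  · rw [theta_tU, mul_comm]; exact tL_mem _
  · rw [theta_tL, mul_div_assoc, div_self hα, mul_one]; exact tU_mem _

theorem tL_alpha_mul_mem (hα : α ≠ 0) {x : E} (hx : tU x ∈ GG k α) : tL (α * x) ∈ GG k α := by
  have := theta_mem (k := k) hα hx
  rwa [theta_tU] at this

/-! ### the finishing lemma -/

theorem wE_conj_tL (y : E) : (wE : SL(2, E)) * tL y * wE⁻¹ = tU (-y) := by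
  apply ext4 <;>
    simp only [mul00, mul01, mul10, mul11, inv00, inv01, inv10, inv11, tU00, tU01, tU10, tU11,
      tL00, tL01, tL10, tL11, wE00, wE01, wE10, wE11] <;> ring

section finish

variable (hα : α ≠ 0) (hL : tL (1 : E) ∈ GG k α)
include hα hL

omit hα in
theorem wE_mem' : (wE : SL(2, E)) ∈ GG k α := wE_mem tU_one_mem hL

theorem tL_of_tU {x : E} (hx : tU x ∈ GG k α) : tL x ∈ GG k α := by
  have h := wE_conj_tU (F := E) (-x)
  rw [neg_neg] at h
  rw [← h]
  exact (GG k α).mul_mem ((GG k α).mul_mem (wE_mem' hL) (tU_neg_mem hx))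
    ((GG k α).inv_mem (wE_mem' hL))

theorem tU_of_tL {y : E} (hy : tL y ∈ GG k α) : tU y ∈ GG k α := by
  have h := wE_conj_tL (E := E) (-y)
  rw [neg_neg] at h
  rw [← h]
  exact (GG k α).mul_mem ((GG k α).mul_mem (wE_mem' hL) (tL_neg_mem hy))
    ((GG k α).inv_mem (wE_mem' hL))

theorem tU_alpha_mul_mem {x : E} (hx : tU x ∈ GG k α) : tU (α * x) ∈ GG k α :=
  tU_of_tL hα hL (tL_alpha_mul_mem hα hx)

theorem tU_aeval_mem (p : Polynomial k) : tU (Polynomial.aeval α p) ∈ GG k α := by
  induction p using Polynomial.induction_on with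
  | C a => rw [Polynomial.aeval_C]; exact tU_mem a
  | add p q hp hq => rw [map_add]; exact tU_add_mem hp hq
  | monomial n a h =>
    have e : Polynomial.aeval α (Polynomial.C a * Polynomial.X ^ (n + 1)) =
        α * Polynomial.aeval α (Polynomial.C a * Polynomial.X ^ n) := by
      simp only [map_mul, map_pow, Polynomial.aeval_C, Polynomial.aeval_X]
      ring
    rw [e]
    exact tU_alpha_mul_mem hα hL h

theorem tU_mem_of_mem_adjoin (halg : IsAlgebraic k α) {x : E}
    (hx : x ∈ IntermediateField.adjoin k ({α} : Set E)) : tU x ∈ GG k α := by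
  have h1 : x ∈ (IntermediateField.adjoin k ({α} : Set E)).toSubalgebra := hx
  rw [IntermediateField.adjoin_simple_toSubalgebra_of_isAlgebraic halg,
    Algebra.adjoin_singleton_eq_range_aeval] at h1
  obtain ⟨p, rfl⟩ := h1
  exact tU_aeval_mem hα hL p

/-- **finishing lemma**: if `tL 1 ∈ GG` then `GG` contains all matrices with entries in `k(α)` -/
theorem mem_of_entries (halg : IsAlgebraic k α) {g : SL(2, E)}
    (hg : ∀ i j, g i j ∈ IntermediateField.adjoin k ({α} : Set E)) : g ∈ GG k α := by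
  set L := IntermediateField.adjoin k ({α} : Set E) with hLdef
  have hU : ∀ {x : E}, x ∈ L → tU x ∈ GG k α := fun hx => tU_mem_of_mem_adjoin hα hL halg hx
  have hLo : ∀ {x : E}, x ∈ L → tL x ∈ GG k α := fun hx => tL_of_tU hα hL (hU hx)
  have h1 : (1 : E) ∈ L := L.one_mem
  -- the case of a nonzero lower left entry
  have key : ∀ m : SL(2, E), (∀ i j, m i j ∈ L) → m 1 0 ≠ 0 → m ∈ GG k α := by
    intro m hm h10
    have hd := det1 m
    have h01 : m 0 1 * m 1 0 = m 0 0 * m 1 1 - 1 := by linear_combination -hd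
    have e : m = tU ((m 0 0 - 1) * (m 1 0)⁻¹) * tL (m 1 0) * tU ((m 1 1 - 1) * (m 1 0)⁻¹) := by
      apply ext4
      · simp only [mul00, mul01, mul10, mul11, tU00, tU01, tU10, tU11, tL00, tL01, tL10, tL11]
        field_simp
        ring
      · simp only [mul00, mul01, mul10, mul11, tU00, tU01, tU10, tU11, tL00, tL01, tL10, tL11]
        have e2 : (1 * 1 + (m 0 0 - 1) * (m 1 0)⁻¹ * m 1 0) * ((m 1 1 - 1) * (m 1 0)⁻¹) +
            (1 * 0 + (m 0 0 - 1) * (m 1 0)⁻¹ * 1) * 1 = (m 0 0 * m 1 1 - 1) / m 1 0 := by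
          field_simp
          ring
        rw [e2, ← h01]
        field_simp
      · simp only [mul00, mul01, mul10, mul11, tU00, tU01, tU10, tU11, tL00, tL01, tL10, tL11]
        ring
      · simp only [mul00, mul01, mul10, mul11, tU00, tU01, tU10, tU11, tL00, tL01, tL10, tL11]
        field_simp
        ring
    rw [e]
    refine (GG k α).mul_mem ((GG k α).mul_mem ?_ (hLo (hm 1 0))) ?_
    · exact hU (L.mul_mem (L.sub_mem (hm 0 0) h1) (L.inv_mem (hm 1 0)))
    · exact hU (L.mul_mem (L.sub_mem (hm 1 1) h1) (L.inv_mem (hm 1 0)))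
  by_cases h10 : g 1 0 = 0
  · have hd := det1 g
    have h11 : g 1 1 ≠ 0 := by
      intro h0
      rw [h0, h10] at hd
      simp at hd
    have hgw : g * wE ∈ GG k α := by
      apply key
      · intro i j
        fin_cases i <;> fin_cases j
        · show (g * wE : SL(2, E)) 0 0 ∈ L
          simp only [mul00, wE00, wE10]
          have : g 0 0 * 0 + g 0 1 * -1 = -(g 0 1) := by ring
          rw [this]; exact L.neg_mem (hg 0 1)
        · show (g * wE : SL(2, E)) 0 1 ∈ L
          simp only [mul01, wE01, wE11]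
          have : g 0 0 * 1 + g 0 1 * 0 = g 0 0 := by ring
          rw [this]; exact hg 0 0
        · show (g * wE : SL(2, E)) 1 0 ∈ L
          simp only [mul10, wE00, wE10]
          have : g 1 0 * 0 + g 1 1 * -1 = -(g 1 1) := by ring
          rw [this]; exact L.neg_mem (hg 1 1)
        · show (g * wE : SL(2, E)) 1 1 ∈ L
          simp only [mul11, wE01, wE11]
          have : g 1 0 * 1 + g 1 1 * 0 = g 1 0 := by ring
          rw [this]; exact hg 1 0
      · simp only [mul10, wE00, wE10, h10]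
        intro h0
        apply h11
        linear_combination -h0
    have : g = g * wE * wE⁻¹ := by group
    rw [this]
    exact (GG k α).mul_mem hgw ((GG k α).inv_mem (wE_mem' hL))
  · exact key g hg h10

end finish

/-! ### the easy inclusion -/

/-- matrices with entries in an intermediate field -/
def entrySub (L : IntermediateField k E) : Subgroup SL(2, E) where
  carrier := {g | ∀ i j, g i j ∈ L}
  one_mem' := by
    intro i j
    fin_cases i <;> fin_cases j <;> simp [L.one_mem, L.zero_mem]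
  mul_mem' := by
    intro g h hg hh i j
    fin_cases i <;> fin_cases j
    · show (g * h) 0 0 ∈ L
      rw [mul00]; exact L.add_mem (L.mul_mem (hg 0 0) (hh 0 0)) (L.mul_mem (hg 0 1) (hh 1 0))
    · show (g * h) 0 1 ∈ L
      rw [mul01]; exact L.add_mem (L.mul_mem (hg 0 0) (hh 0 1)) (L.mul_mem (hg 0 1) (hh 1 1))
    · show (g * h) 1 0 ∈ L
      rw [mul10]; exact L.add_mem (L.mul_mem (hg 1 0) (hh 0 0)) (L.mul_mem (hg 1 1) (hh 1 0))
    · show (g * h) 1 1 ∈ L
      rw [mul11]; exact L.add_mem (L.mul_mem (hg 1 0) (hh 0 1)) (L.mul_mem (hg 1 1) (hh 1 1))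
  inv_mem' := by
    intro g hg i j
    fin_cases i <;> fin_cases j
    · show (g⁻¹) 0 0 ∈ L
      rw [inv00]; exact hg 1 1
    · show (g⁻¹) 0 1 ∈ L
      rw [inv01]; exact L.neg_mem (hg 0 1)
    · show (g⁻¹) 1 0 ∈ L
      rw [inv10]; exact L.neg_mem (hg 1 0)
    · show (g⁻¹) 1 1 ∈ L
      rw [inv11]; exact hg 0 0

theorem GG_le_entrySub : GG k α ≤ entrySub (IntermediateField.adjoin k ({α} : Set E)) := by
  rw [GG, Subgroup.closure_le]
  set L := IntermediateField.adjoin k ({α} : Set E)
  have hαL : α ∈ L := IntermediateField.mem_adjoin_simple_self k α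
  rintro x (⟨d, rfl⟩ | ⟨d, rfl⟩)
  · intro i j
    fin_cases i <;> fin_cases j
    · exact L.one_mem
    · exact L.algebraMap_mem d
    · exact L.zero_mem
    · exact L.one_mem
  · intro i j
    fin_cases i <;> fin_cases j
    · exact L.one_mem
    · exact L.zero_mem
    · exact L.mul_mem (L.algebraMap_mem d) hαL
    · exact L.one_mem

/-! ### the torus trick -/

/-- the conjugate of `tL y` by `tU z` -/
theorem conj_tU_formula (g : SL(2, E)) (h10 : g 1 0 ≠ 0) (x : E) :
    g * tU x * g⁻¹ =
      tU (g 0 0 / g 1 0) * tL (-(g 1 0 * g 1 0 * x)) * tU (-(g 0 0 / g 1 0)) := by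
  have hd := det1 g
  apply ext4
  · simp only [mul00, mul01, mul10, mul11, inv00, inv01, inv10, inv11, tU00, tU01, tU10, tU11,
      tL00, tL01, tL10, tL11]
    field_simp
    linear_combination (g 1 0) * hd
  · simp only [mul00, mul01, mul10, mul11, inv00, inv01, inv10, inv11, tU00, tU01, tU10, tU11,
      tL00, tL01, tL10, tL11]
    field_simp
    ring
  · simp only [mul00, mul01, mul10, mul11, inv00, inv01, inv10, inv11, tU00, tU01, tU10, tU11,
      tL00, tL01, tL10, tL11]
    ring
  · simp only [mul00, mul01, mul10, mul11, inv00, inv01, inv10, inv11, tU00, tU01, tU10, tU11,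
      tL00, tL01, tL10, tL11]
    field_simp
    linear_combination (g 1 0) * hd

/-- the standard monomial element as a word in transvections -/
theorem nE_formula (x : E) (hx : x ≠ 0) :
    tU x * tL (-x⁻¹) * tU x = mk 0 x (-x⁻¹) 0 (by field_simp; ring) := by
  apply ext4 <;>
    simp only [mul00, mul01, mul10, mul11, tU00, tU01, tU10, tU11, tL00, tL01, tL10, tL11,
      mk00, mk01, mk10, mk11] <;> field_simp <;> ring

theorem hD_formula (b : E) (hb : b ≠ 0) :
    hD b hb = (tU b * tL (-b⁻¹) * tU b) * (tU 1 * tL (-(1 : E)⁻¹) * tU 1)⁻¹ := by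
  rw [nE_formula b hb, nE_formula 1 one_ne_zero]
  apply ext4 <;>
    simp only [mul00, mul01, mul10, mul11, inv00, inv01, inv10, inv11, mk00, mk01, mk10, mk11,
      hD00, hD01, hD10, hD11] <;> field_simp <;> ring

/-- **torus trick**: an element of `GG` with lower left entry in `k^*` forces `tL 1 ∈ GG`,
provided `k` has characteristic not two and an element `a` with `a ≠ 0`, `a² ≠ 1`. -/
theorem tL_one_mem_of_entry (h2 : (2 : k) ≠ 0) {a : k} (ha0 : a ≠ 0) (ha1 : a * a ≠ 1)
    {g : SL(2, E)} (hg : g ∈ GG k α) {c : k} (hc : c ≠ 0) (hgc : g 1 0 = algebraMap k E c) :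
    tL (1 : E) ∈ GG k α := by
  have hc' : algebraMap k E c ≠ 0 := fun h => hc ((map_eq_zero _).1 h)
  have h10 : g 1 0 ≠ 0 := by rw [hgc]; exact hc'
  set z : E := g 0 0 / g 1 0 with hz
  -- the conjugates of the lower transvections over `k`
  have hS : ∀ y : k, tU z * tL (algebraMap k E y) * tU (-z) ∈ GG k α := by
    intro y
    have h1 : g * tU (algebraMap k E (-(c * c)⁻¹ * y)) * g⁻¹ ∈ GG k α :=
      (GG k α).mul_mem ((GG k α).mul_mem hg (tU_mem _)) ((GG k α).inv_mem hg)
    rw [conj_tU_formula g h10] at h1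
    have e : -(g 1 0 * g 1 0 * algebraMap k E (-(c * c)⁻¹ * y)) = algebraMap k E y := by
      rw [hgc, ← map_mul, ← map_mul, ← map_neg]
      congr 1
      field_simp
    rw [e] at h1
    exact h1
  -- conjugates of the monomial elements
  have hN : ∀ b : k, b ≠ 0 →
      tU z * (tU (algebraMap k E b) * tL (-(algebraMap k E b)⁻¹) * tU (algebraMap k E b)) *
        tU (-z) ∈ GG k α := by
    intro b hb
    have e : tU z * (tU (algebraMap k E b) * tL (-(algebraMap k E b)⁻¹) * tU (algebraMap k E b)) *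
        tU (-z) = tU (algebraMap k E b) * (tU z * tL (algebraMap k E (-b⁻¹)) * tU (-z)) *
          tU (algebraMap k E b) := by
      rw [map_neg, map_inv₀]
      apply ext4 <;>
        simp only [mul00, mul01, mul10, mul11, tU00, tU01, tU10, tU11, tL00, tL01, tL10, tL11] <;>
        ring
    rw [e]
    exact (GG k α).mul_mem ((GG k α).mul_mem (tU_mem _) (hS _)) (tU_mem _)
  -- conjugates of the diagonal elements
  have ha' : algebraMap k E a ≠ 0 := fun h => ha0 ((map_eq_zero _).1 h)
  have hX : tU z * hD (algebraMap k E a) ha' * tU (-z) ∈ GG k α := by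
    have h1 := hN a ha0
    have h2' := hN 1 one_ne_zero
    have e : tU z * hD (algebraMap k E a) ha' * tU (-z) =
        (tU z * (tU (algebraMap k E a) * tL (-(algebraMap k E a)⁻¹) * tU (algebraMap k E a)) *
          tU (-z)) *
        (tU z * (tU (algebraMap k E 1) * tL (-(algebraMap k E 1)⁻¹) * tU (algebraMap k E 1)) *
          tU (-z))⁻¹ := by
      rw [hD_formula, map_one, ← tU_inv z]
      group
    rw [e]
    exact (GG k α).mul_mem h1 ((GG k α).inv_mem h2')
  have hY := hD_conj_mem (α := α) a ha0 ha' hX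
  have hXY := (GG k α).mul_mem hX ((GG k α).inv_mem hY)
  have e : tU z * hD (algebraMap k E a) ha' * tU (-z) *
      (hD (algebraMap k E a) ha' * (tU z * hD (algebraMap k E a) ha' * tU (-z)) *
        (hD (algebraMap k E a) ha')⁻¹)⁻¹ =
      tU (algebraMap k E ((a * a - 1) * (a * a - 1)) * z) := by
    rw [map_mul, map_sub, map_mul, map_one]
    apply ext4 <;>
      simp only [mul00, mul01, mul10, mul11, inv00, inv01, inv10, inv11, tU00, tU01, tU10, tU11,
        hD00, hD01, hD10, hD11] <;> field_simp <;> ring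
  rw [e] at hXY
  have hne : (a * a - 1) * (a * a - 1) ≠ 0 :=
    mul_ne_zero (sub_ne_zero.2 ha1) (sub_ne_zero.2 ha1)
  have hz' : tU z ∈ GG k α := by
    have := tU_smul_mem (α := α) h2 (((a * a - 1) * (a * a - 1))⁻¹) hXY
    rwa [← mul_assoc, ← map_mul, inv_mul_cancel₀ hne, map_one, one_mul] at this
  have h1 := hS 1
  rw [map_one] at h1
  have e2 : tL (1 : E) = tU (-z) * (tU z * tL 1 * tU (-z)) * tU z := by
    rw [← tU_inv z]; group
  rw [e2]
  exact (GG k α).mul_mem ((GG k α).mul_mem (tU_neg_mem hz') h1) hz'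

end Cfsg.Agent.Lib.Helper83_SL2GenBasic
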