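import Cfsg.Agent.Lib.Helper83_SL2GenBasic

/-!
# The subgroup generated by `tU c`, `tL (c α)` over a finite field: `tL 1` is a member

Uses the class equation dichotomy of helper50 / helper51 (`std_dichotomy_strong`): outside the
exceptional case (`|k| = 3`) the stabiliser of the point at infinity has index `|Q| + 1`, so the
group is doubly transitive on the orbit of infinity, and this gives `tU (-2/α)`.
-/

set_option autoImplicit false
set_option linter.unusedSimpArgs false
set_option linter.unusedVariables false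
set_option linter.unusedSectionVars false

namespace Cfsg.Agent.Lib.Helper83_SL2GenFin

open Matrix Cfsg.Agent.Lib.Helper50_SL2Mat Cfsg.Agent.Lib.Helper50_CTClass
  Cfsg.Agent.Lib.Helper50_SL2Rep Cfsg.Agent.Lib.Helper50_SL2Std
  Cfsg.Agent.Lib.Helper51_SL2Dich Cfsg.Agent.Lib.Helper51_SL2Sub
  Cfsg.Agent.Lib.Helper83_SL2GenBasic
open scoped MatrixGroups

variable {F : Type*} [Field F]

section cover

variable {Γ : Type*} [Group Γ] {ρ : Γ →* SL(2, F)}

/-- Bruhat cover from the index formula, with an arbitrary element outside the Borel subgroup -/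
theorem cover [Finite Γ] (hρ : Function.Injective ρ)
    (hidx : (Bn ρ).index = Nat.card (Qs ρ) + 1) (w₀ : Γ) (hw : w₀ ∉ Bn ρ) :
    ∀ g : Γ, g ∉ Bn ρ → ∃ q ∈ Qs ρ, ∃ b ∈ Bn ρ, g = q * w₀ * b := by
  classical
  have hw10 : (ρ w₀) 1 0 ≠ 0 := fun h => hw (mem_Bn.2 h)
  let f : Γ → Γ ⧸ Bn ρ := fun q => ((q * w₀ : Γ) : Γ ⧸ Bn ρ)
  have hinj : Set.InjOn f (Qs ρ : Set Γ) := by
    intro q hq q' hq' hqq
    have h1 : (q * w₀)⁻¹ * (q' * w₀) ∈ Bn ρ := QuotientGroup.eq.1 hqq
    have ht : q⁻¹ * q' ∈ Qs ρ := (Qs ρ).mul_mem ((Qs ρ).inv_mem hq) hq'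
    obtain ⟨t, ht'⟩ := mem_Qs_iff_exists.1 ht
    have e : (q * w₀)⁻¹ * (q' * w₀) = w₀⁻¹ * (q⁻¹ * q') * w₀ := by group
    rw [e] at h1
    have h10 : (ρ (w₀⁻¹ * (q⁻¹ * q') * w₀)) 1 0 = 0 := h1
    have e2 : ρ (w₀⁻¹ * (q⁻¹ * q') * w₀) = (ρ w₀)⁻¹ * tU t * ((ρ w₀)⁻¹)⁻¹ := by
      rw [map_mul, map_mul, map_inv, ht', inv_inv]
    rw [e2, (conj_tU ((ρ w₀)⁻¹) t).2.2.1, inv10] at h10
    have ht0 : t = 0 := by
      have h3 : t * ((ρ w₀) 1 0 * (ρ w₀) 1 0) = 0 := by linear_combination -h10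
      rcases mul_eq_zero.1 h3 with h | h
      · exact h
      · exact absurd (mul_self_eq_zero.1 h) hw10
    have h1' : q⁻¹ * q' = 1 := by
      apply hρ
      rw [ht', ht0, tU_zero, map_one]
    calc q = q' * (q⁻¹ * q')⁻¹ := by group
      _ = q' := by rw [h1', inv_one, mul_one]
  have hnotBn : ∀ g : Γ, g ∉ Bn ρ → ((g : Γ) : Γ ⧸ Bn ρ) ≠ ((1 : Γ) : Γ ⧸ Bn ρ) := by
    intro g hg hh
    have h1 : g⁻¹ * 1 ∈ Bn ρ := QuotientGroup.eq.1 hh
    rw [mul_one] at h1
    have h3 : g ∈ Bn ρ := by simpa using (Bn ρ).inv_mem h1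
    exact hg h3
  have hne : ∀ q ∈ Qs ρ, f q ≠ ((1 : Γ) : Γ ⧸ Bn ρ) := by
    intro q hq
    apply hnotBn
    intro hmem
    apply hw
    have hqB : q ∈ Bn ρ := Ps_le_Bn (Qs_le_Ps hq)
    have : w₀ = q⁻¹ * (q * w₀) := by group
    rw [this]
    exact (Bn ρ).mul_mem ((Bn ρ).inv_mem hqB) hmem
  have himage : f '' (Qs ρ : Set Γ) = {c | c ≠ ((1 : Γ) : Γ ⧸ Bn ρ)} := by
    refine Set.eq_of_subset_of_ncard_le ?_ ?_ (Set.toFinite _)
    · rintro _ ⟨q, hq, rfl⟩
      exact hne q hq
    · rw [Set.InjOn.ncard_image hinj]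
      have e : {c : Γ ⧸ Bn ρ | c ≠ ((1 : Γ) : Γ ⧸ Bn ρ)} = Set.univ \ {((1 : Γ) : Γ ⧸ Bn ρ)} := by
        ext c; simp
      rw [e, Set.ncard_sdiff_singleton_of_mem (Set.mem_univ _), Set.ncard_univ]
      have e2 : Nat.card (Γ ⧸ Bn ρ) = (Bn ρ).index := rfl
      rw [e2, hidx, Nat.add_sub_cancel]
      exact le_refl _
  intro g hg
  have hg' : ((g : Γ) : Γ ⧸ Bn ρ) ∈ {c | c ≠ ((1 : Γ) : Γ ⧸ Bn ρ)} := hnotBn g hg
  rw [← himage] at hg'
  obtain ⟨q, hq, hqg⟩ := hg'
  have h1 : (q * w₀)⁻¹ * g ∈ Bn ρ := QuotientGroup.eq.1 hqg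
  exact ⟨q, hq, (q * w₀)⁻¹ * g, h1, by group⟩

end cover

variable {k : Type*} [Field k] [Algebra k F]

/-- a field of characteristic not two with at most three elements has three elements -/
theorem card_eq_three_of_le (hchar : ringChar k ≠ 2) [Finite k] (h : Nat.card k ≤ 3) :
    Nat.card k = 3 := by
  classical
  haveI := Fintype.ofFinite k
  have h2 : (2 : k) ≠ 0 := by
    intro h0
    apply hchar
    have hd : ringChar k ∣ 2 := by
      have := (ringChar.spec k 2).1 (by exact_mod_cast h0)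
      exact this
    have hp : ringChar k ≠ 1 := by
      intro h1
      have := (ringChar.spec k 1).2 (by rw [h1])
      simp at this
    rcases (Nat.dvd_prime Nat.prime_two).1 hd with h1 | h1
    · exact absurd h1 hp
    · exact h1
  have h01 : (0 : k) ≠ 1 := zero_ne_one
  have h0m : (0 : k) ≠ -1 := by
    intro h0
    have : (1 : k) = 0 := by linear_combination h0
    exact one_ne_zero this
  have h1m : (1 : k) ≠ -1 := by
    intro h0
    apply h2
    linear_combination h0
  have hsub : ({0, 1, -1} : Finset k).card = 3 := by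
    rw [Finset.card_insert_of_notMem, Finset.card_insert_of_notMem, Finset.card_singleton]
    · simpa using h1m
    · simp only [Finset.mem_insert, Finset.mem_singleton, not_or]
      exact ⟨h01, h0m⟩
  have hle : ({0, 1, -1} : Finset k).card ≤ Fintype.card k := Finset.card_le_univ _
  rw [Nat.card_eq_fintype_card] at h ⊢
  omega

/-- **finite case**: `tL 1 ∈ GG` -/
theorem tL_one_mem_of_finite [Finite F] (hchar : ringChar k ≠ 2) (hk3 : Nat.card k ≠ 3)
    {α : F} (hα : α ≠ 0) : tL (1 : F) ∈ GG k α := by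
  classical
  haveI := Fintype.ofFinite F
  have : Finite k := Finite.of_injective _ (algebraMap k F).injective
  -- the characteristic
  set p := ringChar k with hp
  have : CharP k p := ringChar.charP k
  have : CharP F p := charP_of_injective_algebraMap (algebraMap k F).injective p
  have : Fact p.Prime := ⟨CharP.char_is_prime F p⟩
  -- the group
  set Γ : Subgroup SL(2, F) := GG k α with hΓ
  have hU : tU (1 : F) ∈ Γ := tU_one_mem
  have hL : tL α ∈ Γ := tL_alpha_mem
  have hstd : Std p Γ.subtype ⟨tU 1, hU⟩ ⟨tL α, hL⟩ (1 : F) α :=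
    ⟨Γ.subtype_injective, hchar, one_ne_zero, hα, rfl, rfl⟩
  have h2F : (2 : F) ≠ 0 := hstd.two_ne_zero
  rcases std_dichotomy_strong hstd with hidx | ⟨h3, hQ, -⟩
  · -- the index formula
    have hw : (⟨tL α, hL⟩ : Γ) ∉ Bn Γ.subtype := hstd.v_not_mem_Bn
    have hg : (⟨tL (-α), by rw [← tL_inv]; exact Γ.inv_mem hL⟩ : Γ) ∉ Bn Γ.subtype := by
      intro h
      have h10 : (tL (-α) : SL(2, F)) 1 0 = 0 := h
      rw [tL10] at h10
      exact hα (neg_eq_zero.1 h10)
    obtain ⟨q, hq, b, hb, hqb⟩ := cover Γ.subtype_injective hidx _ hw _ hg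
    obtain ⟨t, ht⟩ := mem_Qs_iff_exists.1 hq
    have ht' : (q : SL(2, F)) = tU t := ht
    have hb10 : (b : SL(2, F)) 1 0 = 0 := hb
    have hqb' : tL (-α) = tU t * tL α * (b : SL(2, F)) := by
      have := congrArg Subtype.val hqb
      rw [← ht']
      exact this
    -- solve for `t`
    have hbe : (b : SL(2, F)) = (tU t * tL α)⁻¹ * tL (-α) := by
      rw [hqb']; group
    have h10 : ((tU t * tL α)⁻¹ * tL (-α) : SL(2, F)) 1 0 = 0 := by rw [← hbe]; exact hb10
    simp only [mul00, mul01, mul10, mul11, inv00, inv01, inv10, inv11, tU00, tU01, tU10, tU11,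
      tL00, tL01, tL10, tL11] at h10
    have htα : t * α = -2 := by
      have h3 : α * (t * α + 2) = 0 := by linear_combination -h10
      rcases mul_eq_zero.1 h3 with h | h
      · exact absurd h hα
      · linear_combination h
    have htU : tU t ∈ Γ := by rw [← ht']; exact q.2
    -- `tU (1/α)` is a power of `tU t`
    have hodd : Odd p := (Fact.out : p.Prime).odd_of_ne_two hchar
    obtain ⟨m, hm⟩ := hodd
    have hpF : (p : F) = 0 := CharP.cast_eq_zero F p
    have hmF : (2 : F) * (m : F) = -1 := by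
      have : ((2 * m + 1 : ℕ) : F) = 0 := by rw [← hm]; exact hpF
      push_cast at this
      linear_combination this
    have hinv : tU (α⁻¹) ∈ Γ := by
      have h5 : (tU t) ^ m ∈ Γ := Γ.pow_mem htU m
      rw [tU_pow] at h5
      have e : (m : F) * t = α⁻¹ := by
        have : (m : F) * t * α = 1 := by
          have : (m : F) * t * α = (m : F) * (t * α) := by ring
          rw [this, htα]
          linear_combination -hmF
        field_simp
        linear_combination this
      rwa [e] at h5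
    have := tL_alpha_mul_mem (k := k) hα hinv
    rwa [mul_inv_cancel₀ hα] at this
  · -- the exceptional case contradicts `|k| ≠ 3`
    exfalso
    apply hk3
    apply card_eq_three_of_le hchar
    rw [← hQ]
    refine Nat.card_le_card_of_injective
      (fun c : k => (⟨⟨tU (algebraMap k F c), tU_mem c⟩,
        mem_Qs_iff_exists.2 ⟨algebraMap k F c, rfl⟩⟩ : Qs Γ.subtype)) ?_
    intro c d hcd
    have h1 := congrArg (fun x : Qs Γ.subtype => ((x : Γ) : SL(2, F)) 0 1) hcd
    simp only [tU01] at h1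
    exact (algebraMap k F).injective h1

end Cfsg.Agent.Lib.Helper83_SL2GenFin
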