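import Mathlib

/-!
# Window annihilators of power series and regular C-fractions (generic existence)

For a power series `a` over a field, `Sing a μ r` says that some nonzero polynomial `B` of degree
at most `μ` kills the coefficients of `a * B` in the window `[μ + r, 2 μ + r]` (this is the
singularity of the Hankel matrix `(a_{p+q+r})_{p,q ≤ μ}`).  `QQ a M` says that none of the first
`M + 1` of these conditions (ordered by `2 μ + r`, `r ≤ 1`) holds.  We prove

* `QQ_nxt`: `QQ a (M+1)` implies `QQ (nxt a) M` for the transform `nxt a = (a⁻¹ - a⁻¹(0)) / X`;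
* `exists_QQ`: over an infinite field, for every polynomial `N` with `N(0) ≠ 0` and every `j`
  there is a polynomial `D` of degree at most `j` with `QQ (D / N) (2 j)`.
-/

set_option autoImplicit false
set_option linter.unusedSimpArgs false
set_option linter.unusedVariables false

namespace Cfsg.Agent.Lib.Helper83_Hankel

open PowerSeries

variable {k : Type*} [Field k]

/-- window annihilator -/
def Sing (a : k⟦X⟧) (μ r : ℕ) : Prop :=
  ∃ B : Polynomial k, B ≠ 0 ∧ B.natDegree ≤ μ ∧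
    ∀ l, μ + r ≤ l → l ≤ 2 * μ + r → coeff l (a * (B : k⟦X⟧)) = 0

/-- the first `M + 1` Hankel conditions -/
def QQ (a : k⟦X⟧) (M : ℕ) : Prop := ∀ μ r, r ≤ 1 → 2 * μ + r ≤ M → ¬ Sing a μ r

theorem QQ.mono {a : k⟦X⟧} {M M' : ℕ} (h : QQ a M) (hM : M' ≤ M) : QQ a M' :=
  fun μ r hr hμ => h μ r hr (hμ.trans hM)

theorem QQ.constantCoeff_ne_zero {a : k⟦X⟧} {M : ℕ} (h : QQ a M) : constantCoeff a ≠ 0 := by
  intro h0
  apply h 0 0 (by omega) (by omega)
  refine ⟨1, one_ne_zero, by simp, ?_⟩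
  intro l hl1 hl2
  have : l = 0 := by omega
  subst this
  simp [h0]

/-- transfer of window annihilators along inversion -/
theorem transfer {a ω : k⟦X⟧} (haω : a * ω = 1) {B : Polynomial k} (hB : B ≠ 0) {d₁ d₂ n : ℕ}
    (hd₁ : B.natDegree ≤ d₁) (hn : d₁ < n)
    (hwin : ∀ l, d₂ < l → l < n → coeff l (ω * (B : k⟦X⟧)) = 0) :
    ∃ C : Polynomial k, C ≠ 0 ∧ C.natDegree ≤ d₂ ∧
      ∀ l, d₁ < l → l < n → coeff l (a * (C : k⟦X⟧)) = 0 := by
  set C : Polynomial k := trunc n (ω * (B : k⟦X⟧)) with hC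
  have key : ∀ l, l < n → coeff l (a * (C : k⟦X⟧)) = B.coeff l := by
    intro l hl
    rw [coeff_mul_eq_coeff_trunc_mul_trunc a (C : k⟦X⟧) hl, hC, trunc_trunc,
      ← coeff_mul_eq_coeff_trunc_mul_trunc a (ω * (B : k⟦X⟧)) hl, ← mul_assoc, haω, one_mul,
      Polynomial.coeff_coe]
  refine ⟨C, ?_, ?_, ?_⟩
  · intro h0
    apply hB
    ext l
    rw [Polynomial.coeff_zero]
    by_cases hl : l < n
    · rw [← key l hl, h0]; simp
    · exact Polynomial.coeff_eq_zero_of_natDegree_lt (by omega)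
  · rw [Polynomial.natDegree_le_iff_coeff_eq_zero]
    intro N hN
    rw [hC, coeff_trunc]
    split_ifs with h
    · exact hwin N hN h
    · rfl
  · intro l hl1 hl2
    rw [key l hl2]
    exact Polynomial.coeff_eq_zero_of_natDegree_lt (by omega)

/-- the transform `a ↦ (a⁻¹ - a⁻¹(0)) / X` -/
noncomputable def nxt (a : k⟦X⟧) : k⟦X⟧ := PowerSeries.mk fun p => coeff (p + 1) a⁻¹

theorem inv_eq_nxt (a : k⟦X⟧) : a⁻¹ = X * nxt a + C (constantCoeff a⁻¹) :=
  eq_X_mul_shift_add_const _

theorem coeff_succ_inv_mul (a : k⟦X⟧) (B : Polynomial k) (l : ℕ) :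
    coeff (l + 1) (a⁻¹ * (B : k⟦X⟧)) =
      coeff l (nxt a * (B : k⟦X⟧)) + constantCoeff a⁻¹ * B.coeff (l + 1) := by
  conv_lhs => rw [inv_eq_nxt a]
  rw [add_mul, mul_assoc, map_add, coeff_succ_X_mul, coeff_C_mul, Polynomial.coeff_coe]

/-- the step lemma -/
theorem QQ_nxt {a : k⟦X⟧} {M : ℕ} (h : QQ a (M + 1)) : QQ (nxt a) M := by
  have h0 : constantCoeff a ≠ 0 := h.constantCoeff_ne_zero
  have haω : a * a⁻¹ = 1 := PowerSeries.mul_inv_cancel a h0
  rintro μ r hr hμ ⟨B, hB, hdeg, hwin⟩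
  have hwin' : ∀ l, μ + r + 1 ≤ l → l ≤ 2 * μ + r + 1 →
      coeff l (a⁻¹ * (B : k⟦X⟧)) = 0 := by
    intro l hl1 hl2
    obtain ⟨l', rfl⟩ : ∃ l', l = l' + 1 := ⟨l - 1, by omega⟩
    rw [coeff_succ_inv_mul, hwin l' (by omega) (by omega),
      Polynomial.coeff_eq_zero_of_natDegree_lt (by omega)]
    simp
  have hr' : r = 0 ∨ r = 1 := by omega
  rcases hr' with rfl | rfl
  · obtain ⟨C, hC, hCdeg, hCwin⟩ := transfer haω hB (d₁ := μ) (d₂ := μ) (n := 2 * μ + 2) hdeg
      (by omega) (fun l hl1 hl2 => hwin' l (by omega) (by omega))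
    apply h μ 1 (by omega) (by omega)
    exact ⟨C, hC, hCdeg, fun l hl1 hl2 => hCwin l (by omega) (by omega)⟩
  · obtain ⟨C, hC, hCdeg, hCwin⟩ := transfer haω hB (d₁ := μ) (d₂ := μ + 1) (n := 2 * μ + 3) hdeg
      (by omega) (fun l hl1 hl2 => hwin' l (by omega) (by omega))
    apply h (μ + 1) 0 (by omega) (by omega)
    exact ⟨C, hC, hCdeg, fun l hl1 hl2 => hCwin l (by omega) (by omega)⟩

/-! ### Hankel determinants -/

/-- coefficient of a product with a polynomial of small degree, as a sum over `Fin` -/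
theorem coeff_mul_poly (a : k⟦X⟧) (B : Polynomial k) {μ : ℕ} (hB : B.natDegree ≤ μ) (p r : ℕ) :
    coeff (p + r + μ) (a * (B : k⟦X⟧)) =
      ∑ q : Fin (μ + 1), coeff (p + (q : ℕ) + r) a * B.coeff (μ - (q : ℕ)) := by
  rw [mul_comm, coeff_mul, Finset.Nat.sum_antidiagonal_eq_sum_range_succ_mk]
  simp only [Polynomial.coeff_coe]
  have hsub : Finset.range (μ + 1) ⊆ Finset.range (p + r + μ).succ := by
    intro i hi
    have := Finset.mem_range.1 hi
    exact Finset.mem_range.2 (by omega)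
  rw [← Finset.sum_subset hsub]
  · rw [Finset.sum_range, ← Equiv.sum_comp Fin.revPerm]
    apply Finset.sum_congr rfl
    intro q _
    have hq : (q : ℕ) < μ + 1 := q.2
    have e1 : ((Fin.revPerm q : Fin (μ + 1)) : ℕ) = μ - (q : ℕ) := by
      rw [Fin.revPerm_apply, Fin.val_rev]; omega
    have e2 : p + r + μ - (μ - (q : ℕ)) = p + (q : ℕ) + r := by omega
    rw [e1, e2, mul_comm]
  · intro i _ hi
    have : μ < i := by
      by_contra hcon
      exact hi (Finset.mem_range.2 (by omega))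
    rw [Polynomial.coeff_eq_zero_of_natDegree_lt (by omega), zero_mul]

/-- Hankel matrix -/
noncomputable def hank (a : k⟦X⟧) (μ r : ℕ) : Matrix (Fin (μ + 1)) (Fin (μ + 1)) k :=
  Matrix.of fun p q => coeff ((p : ℕ) + (q : ℕ) + r) a

theorem not_sing_of_det_ne_zero {a : k⟦X⟧} {μ r : ℕ} (h : (hank a μ r).det ≠ 0) :
    ¬ Sing a μ r := by
  rintro ⟨B, hB, hdeg, hwin⟩
  apply h
  rw [← Matrix.exists_mulVec_eq_zero_iff]
  refine ⟨fun q => B.coeff (μ - (q : ℕ)), ?_, ?_⟩
  · intro h0
    apply hB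
    ext l
    rw [Polynomial.coeff_zero]
    by_cases hl : l ≤ μ
    · have := congrFun h0 ⟨μ - l, by omega⟩
      have e : μ - (μ - l) = l := by omega
      simpa [e] using this
    · exact Polynomial.coeff_eq_zero_of_natDegree_lt (by omega)
  · ext p
    have := coeff_mul_poly a B hdeg (p : ℕ) r
    rw [hwin _ (by omega) (by have := p.2; omega)] at this
    simp only [Matrix.mulVec, dotProduct, hank, Matrix.of_apply, Pi.zero_apply]
    exact this.symm

/-- an anti-triangular matrix with nonzero anti-diagonal is nonsingular -/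
theorem det_ne_zero_of_anti {μ : ℕ} (M : Matrix (Fin (μ + 1)) (Fin (μ + 1)) k) (c : k)
    (hc : c ≠ 0) (h0 : ∀ p q : Fin (μ + 1), (p : ℕ) + (q : ℕ) < μ → M p q = 0)
    (h1 : ∀ p q : Fin (μ + 1), (p : ℕ) + (q : ℕ) = μ → M p q = c) : M.det ≠ 0 := by
  have hM' : (M.submatrix id (Fin.revPerm : Equiv.Perm (Fin (μ + 1)))).det = c ^ (μ + 1) := by
    rw [Matrix.det_of_isLowerTriangular]
    · have : ∀ i : Fin (μ + 1), M.submatrix id (Fin.revPerm : Equiv.Perm (Fin (μ + 1))) i i = c := by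
        intro i
        show M i (Fin.revPerm i) = c
        apply h1
        rw [Fin.revPerm_apply, Fin.val_rev]
        have := i.2
        omega
      simp only [this, Finset.prod_const, Finset.card_univ, Fintype.card_fin]
    · intro i j hij
      have hij' : i < j := hij
      show M i (Fin.revPerm j) = 0
      apply h0
      rw [Fin.revPerm_apply, Fin.val_rev]
      have := j.2
      have : (i : ℕ) < (j : ℕ) := hij'
      omega
  rw [Matrix.det_permute'] at hM'
  intro h
  rw [h, mul_zero] at hM'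
  exact pow_ne_zero _ hc hM'.symm

/-! ### generic existence -/

/-- the polynomial with coefficient vector `x` -/
noncomputable def polyOf (j : ℕ) (x : Fin (j + 1) → k) : Polynomial k :=
  ∑ i : Fin (j + 1), Polynomial.C (x i) * Polynomial.X ^ (i : ℕ)

theorem natDegree_polyOf_le (j : ℕ) (x : Fin (j + 1) → k) : (polyOf j x).natDegree ≤ j := by
  apply Polynomial.natDegree_sum_le_of_forall_le
  intro i _
  refine (Polynomial.natDegree_C_mul_X_pow_le _ _).trans ?_
  have := i.2
  omega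

/-- coefficient functionals -/
noncomputable def gam (ω : k⟦X⟧) (i l : ℕ) : k := coeff l ((X : k⟦X⟧) ^ i * ω)

theorem coeff_polyOf_mul (ω : k⟦X⟧) (j : ℕ) (x : Fin (j + 1) → k) (l : ℕ) :
    coeff l ((polyOf j x : k⟦X⟧) * ω) = ∑ i : Fin (j + 1), x i * gam ω (i : ℕ) l := by
  have e : ((polyOf j x : Polynomial k) : k⟦X⟧) =
      ∑ i : Fin (j + 1), (C (x i) : k⟦X⟧) * (X : k⟦X⟧) ^ (i : ℕ) := by
    rw [← Polynomial.coeToPowerSeries.ringHom_apply, polyOf, map_sum]
    apply Finset.sum_congr rfl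
    intro i _
    rw [map_mul, map_pow, Polynomial.coeToPowerSeries.ringHom_apply,
      Polynomial.coeToPowerSeries.ringHom_apply, Polynomial.coe_C, Polynomial.coe_X]
  rw [e, Finset.sum_mul, map_sum]
  apply Finset.sum_congr rfl
  intro i _
  rw [mul_assoc, coeff_C_mul, gam]

/-- the linear forms giving the coefficients -/
noncomputable def PsiM (ω : k⟦X⟧) (j l : ℕ) : MvPolynomial (Fin (j + 1)) k :=
  ∑ i : Fin (j + 1), MvPolynomial.C (gam ω (i : ℕ) l) * MvPolynomial.X i

theorem eval_PsiM (ω : k⟦X⟧) (j l : ℕ) (x : Fin (j + 1) → k) :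
    MvPolynomial.eval x (PsiM ω j l) = ∑ i : Fin (j + 1), x i * gam ω (i : ℕ) l := by
  simp [PsiM, mul_comm]

/-- the Hankel determinants as polynomials in the coefficient vector -/
noncomputable def detM (ω : k⟦X⟧) (j μ r : ℕ) : MvPolynomial (Fin (j + 1)) k :=
  (Matrix.of fun p q : Fin (μ + 1) => PsiM ω j ((p : ℕ) + (q : ℕ) + r)).det

theorem eval_detM (ω : k⟦X⟧) (j μ r : ℕ) (x : Fin (j + 1) → k) :
    MvPolynomial.eval x (detM ω j μ r) = (hank ((polyOf j x : k⟦X⟧) * ω) μ r).det := by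
  rw [detM, RingHom.map_det]
  congr 1
  ext p q
  simp only [RingHom.mapMatrix_apply, Matrix.map_apply, Matrix.of_apply, hank, eval_PsiM,
    coeff_polyOf_mul]

theorem detM_ne_zero (ω : k⟦X⟧) (hω : constantCoeff ω ≠ 0) (j μ r : ℕ) (h : μ + r ≤ j) :
    detM ω j μ r ≠ 0 := by
  classical
  intro h0
  have h1 := eval_detM ω j μ r (Pi.single (⟨μ + r, by omega⟩ : Fin (j + 1)) 1)
  rw [h0, map_zero] at h1
  refine det_ne_zero_of_anti _ (constantCoeff ω) hω ?_ ?_ h1.symm
  · intro p q hpq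
    simp only [hank, Matrix.of_apply, coeff_polyOf_mul]
    rw [Finset.sum_eq_single (⟨μ + r, by omega⟩ : Fin (j + 1))]
    · simp only [Pi.single_eq_same, one_mul, gam, coeff_X_pow_mul']
      rw [if_neg (by omega)]
    · intro b _ hb
      rw [Pi.single_eq_of_ne hb, zero_mul]
    · intro hb
      exact absurd (Finset.mem_univ _) hb
  · intro p q hpq
    simp only [hank, Matrix.of_apply, coeff_polyOf_mul]
    rw [Finset.sum_eq_single (⟨μ + r, by omega⟩ : Fin (j + 1))]
    · simp only [Pi.single_eq_same, one_mul, gam, coeff_X_pow_mul']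
      rw [if_pos (by omega)]
      have : (p : ℕ) + (q : ℕ) + r - (μ + r) = 0 := by omega
      rw [this, coeff_zero_eq_constantCoeff_apply]
    · intro b _ hb
      rw [Pi.single_eq_of_ne hb, zero_mul]
    · intro hb
      exact absurd (Finset.mem_univ _) hb

/-- **generic existence**: over an infinite field there is a numerator of degree at most `j`
all of whose first `2 j + 1` Hankel conditions hold -/
theorem exists_QQ [Infinite k] (ω : k⟦X⟧) (hω : constantCoeff ω ≠ 0) (j : ℕ) :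
    ∃ D : Polynomial k, D.natDegree ≤ j ∧ QQ ((D : k⟦X⟧) * ω) (2 * j) := by
  classical
  set I : Finset (ℕ × ℕ) :=
    ((Finset.range (j + 1)) ×ˢ (Finset.range 2)).filter (fun z => 2 * z.1 + z.2 ≤ 2 * j) with hI
  have hprod : (∏ z ∈ I, detM ω j z.1 z.2) ≠ 0 := by
    rw [Finset.prod_ne_zero_iff]
    intro z hz
    rw [hI, Finset.mem_filter, Finset.mem_product, Finset.mem_range, Finset.mem_range] at hz
    exact detM_ne_zero ω hω j z.1 z.2 (by omega)
  obtain ⟨x, hx⟩ : ∃ x : Fin (j + 1) → k,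
      MvPolynomial.eval x (∏ z ∈ I, detM ω j z.1 z.2) ≠ 0 := by
    by_contra hcon
    push Not at hcon
    apply hprod
    apply MvPolynomial.funext
    intro x
    rw [hcon x, map_zero]
  rw [map_prod, Finset.prod_ne_zero_iff] at hx
  refine ⟨polyOf j x, natDegree_polyOf_le j x, ?_⟩
  intro μ r hr hμ
  apply not_sing_of_det_ne_zero
  rw [← eval_detM]
  have hz : (μ, r) ∈ I := by
    rw [hI, Finset.mem_filter, Finset.mem_product, Finset.mem_range, Finset.mem_range]
    exact ⟨⟨by omega, by omega⟩, hμ⟩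
  exact hx (μ, r) hz

end Cfsg.Agent.Lib.Helper83_Hankel
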