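import Cfsg.Agent.Lib.Helper83_SL2GenBasic
import Cfsg.Agent.Lib.Helper83_Hankel

/-!
# The subgroup generated by `tU c`, `tL (c α)` over an infinite field `k`: `tL 1` is a member

A generic regular C-fraction expansion (from `Helper83_Hankel`) of `N / D`, `N` the reversed
polynomial of `(f - f(0)) / X` for the minimal polynomial `f` of `α`, gives a word
`tU b₀ * tL (b₁ α) * tU b₂ * ⋯ * tU b₂ₘ` whose upper right entry times `α` lies in `k^*`.
The flip and the torus trick then give `tL 1`.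
-/

set_option autoImplicit false
set_option linter.unusedSimpArgs false
set_option linter.unusedVariables false
set_option linter.unusedSectionVars false

namespace Cfsg.Agent.Lib.Helper83_SL2GenInf

open Matrix Cfsg.Agent.Lib.Helper50_SL2Mat Cfsg.Agent.Lib.Helper83_SL2GenBasic
  Cfsg.Agent.Lib.Helper83_Hankel
open scoped MatrixGroups

variable {k E : Type*} [Field k] [Field E] [Algebra k E] {α : E}

open Polynomial in
/-- one half step of the recursion -/
theorem half_step {N D : k[X]} {ψ : PowerSeries k} {M : ℕ} (hψ : ψ * (N : PowerSeries k) = D)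
    (hN0 : N.coeff 0 ≠ 0) (hQ : QQ ψ (M + 1)) :
    ∃ (b : k) (D₁ : k[X]), D.coeff 0 ≠ 0 ∧ N = C b * D + X * D₁ ∧
      nxt ψ * (D : PowerSeries k) = D₁ ∧ QQ (nxt ψ) M ∧
      D₁.natDegree ≤ max N.natDegree D.natDegree - 1 := by
  have hψ0 : PowerSeries.constantCoeff ψ ≠ 0 := hQ.constantCoeff_ne_zero
  have hD0 : D.coeff 0 = PowerSeries.constantCoeff ψ * N.coeff 0 := by
    have := congrArg PowerSeries.constantCoeff hψ
    rw [map_mul] at this
    simpa using this.symm
  have hD0' : D.coeff 0 ≠ 0 := by rw [hD0]; exact mul_ne_zero hψ0 hN0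
  set b : k := PowerSeries.constantCoeff ψ⁻¹ with hb
  have hb' : b * D.coeff 0 = N.coeff 0 := by
    rw [hb, PowerSeries.constantCoeff_inv, hD0]
    field_simp
  set P : k[X] := N - C b * D with hP
  have hP0 : P.coeff 0 = 0 := by
    rw [hP, coeff_sub, coeff_C_mul, hb', sub_self]
  have hPX : P = X * divX P := by
    have := X_mul_divX_add P
    rw [hP0, map_zero, add_zero] at this
    exact this.symm
  refine ⟨b, divX P, hD0', ?_, ?_, QQ_nxt hQ, ?_⟩
  · rw [← hPX, hP]; ring
  · -- `nxt ψ * D = divX P`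
    have h1 : ψ⁻¹ * ψ = 1 := PowerSeries.inv_mul_cancel ψ hψ0
    have h2 : (N : PowerSeries k) = ψ⁻¹ * (D : PowerSeries k) := by
      rw [← hψ, ← mul_assoc, h1, one_mul]
    have h3 : (PowerSeries.X : PowerSeries k) * (nxt ψ * (D : PowerSeries k)) =
        PowerSeries.X * ((divX P : k[X]) : PowerSeries k) := by
      have e1 : ((X * divX P : k[X]) : PowerSeries k) =
          PowerSeries.X * ((divX P : k[X]) : PowerSeries k) := by
        rw [Polynomial.coe_mul, Polynomial.coe_X]
      rw [← e1, ← hPX, hP, Polynomial.coe_sub, Polynomial.coe_mul, Polynomial.coe_C, h2]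
      conv_rhs => rw [inv_eq_nxt ψ]
      rw [← hb]
      ring
    exact PowerSeries.X_mul_cancel h3
  · rw [natDegree_divX_eq_natDegree_tsub_one]
    apply Nat.sub_le_sub_right
    rw [hP]
    refine (natDegree_sub_le _ _).trans ?_
    apply max_le_max le_rfl
    exact natDegree_C_mul_le _ _

open Polynomial in
/-- the recursion: a word realising the pair `(N(σ), D(σ))`, `σ = α⁻¹` -/
theorem word_of_QQ (hα : α ≠ 0) (m : ℕ) :
    ∀ (N D : k[X]) (ψ : PowerSeries k), ψ * (N : PowerSeries k) = D → N.coeff 0 ≠ 0 →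
      N.natDegree ≤ m → D.natDegree ≤ m → QQ ψ (2 * m) →
      ∃ W ∈ GG k α, ∃ δ : k, δ ≠ 0 ∧
        aeval α⁻¹ N = α⁻¹ ^ m * algebraMap k E δ * W 0 1 ∧
        aeval α⁻¹ D = α⁻¹ ^ m * algebraMap k E δ * W 1 1 := by
  induction m with
  | zero =>
    intro N D ψ hψ hN0 hNd hDd hQ
    have hψ0 : PowerSeries.constantCoeff ψ ≠ 0 := hQ.constantCoeff_ne_zero
    have hD0 : D.coeff 0 = PowerSeries.constantCoeff ψ * N.coeff 0 := by
      have := congrArg PowerSeries.constantCoeff hψ
      rw [map_mul] at this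
      simpa using this.symm
    have hD0' : D.coeff 0 ≠ 0 := by rw [hD0]; exact mul_ne_zero hψ0 hN0
    have hN : N = C (N.coeff 0) := eq_C_of_natDegree_le_zero hNd
    have hD : D = C (D.coeff 0) := eq_C_of_natDegree_le_zero hDd
    refine ⟨tU (algebraMap k E (N.coeff 0 / D.coeff 0)), tU_mem _, D.coeff 0, hD0', ?_, ?_⟩
    · rw [tU01, pow_zero, one_mul, ← map_mul]
      conv_lhs => rw [hN]
      rw [aeval_C]
      congr 1
      field_simp
    · rw [tU11, pow_zero, one_mul, mul_one]
      conv_lhs => rw [hD]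
      rw [aeval_C]
  | succ m ih =>
    intro N D ψ hψ hN0 hNd hDd hQ
    have hQ' : QQ ψ (2 * m + 1 + 1) := by
      have : 2 * (m + 1) = 2 * m + 1 + 1 := by ring
      rwa [this] at hQ
    obtain ⟨b, D₁, hD0, hNe, hψ₁, hQ₁, hd₁⟩ := half_step hψ hN0 hQ'
    obtain ⟨b', D₂, hD₁0, hDe, hψ₂, hQ₂, hd₂⟩ := half_step hψ₁ hD0 hQ₁
    have hD₁d : D₁.natDegree ≤ m := by
      have : max N.natDegree D.natDegree ≤ m + 1 := max_le hNd hDd
      omega
    have hD₂d : D₂.natDegree ≤ m := by
      have : max D.natDegree D₁.natDegree ≤ m + 1 := max_le hDd (by omega)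
      omega
    obtain ⟨W, hW, δ, hδ, h01, h11⟩ := ih D₁ D₂ (nxt (nxt ψ)) hψ₂ hD₁0 hD₁d hD₂d hQ₂
    have hσ : α⁻¹ * α = 1 := inv_mul_cancel₀ hα
    have eD : aeval α⁻¹ D = algebraMap k E b' * aeval α⁻¹ D₁ + α⁻¹ * aeval α⁻¹ D₂ := by
      conv_lhs => rw [hDe]
      simp only [map_add, map_mul, aeval_C, aeval_X]
    have eN : aeval α⁻¹ N = algebraMap k E b * aeval α⁻¹ D + α⁻¹ * aeval α⁻¹ D₁ := by
      conv_lhs => rw [hNe]
      simp only [map_add, map_mul, aeval_C, aeval_X]
    refine ⟨tU (algebraMap k E b) * tL (algebraMap k E b' * α) * W,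
      (GG k α).mul_mem ((GG k α).mul_mem (tU_mem _) (tL_mem _)) hW, δ, hδ, ?_, ?_⟩
    · rw [eN, eD, h01, h11]
      simp only [mul00, mul01, mul10, mul11, tU00, tU01, tU10, tU11, tL00, tL01, tL10, tL11]
      have : α⁻¹ ^ (m + 1) = α⁻¹ ^ m * α⁻¹ := pow_succ _ _
      rw [this]
      linear_combination (-(α⁻¹ ^ m * algebraMap k E δ * algebraMap k E b * algebraMap k E b' *
        W 0 1)) * hσ
    · rw [eD, h01, h11]
      simp only [mul00, mul01, mul10, mul11, tU00, tU01, tU10, tU11, tL00, tL01, tL10, tL11]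
      have : α⁻¹ ^ (m + 1) = α⁻¹ ^ m * α⁻¹ := pow_succ _ _
      rw [this]
      linear_combination (-(α⁻¹ ^ m * algebraMap k E δ * algebraMap k E b' * W 0 1)) * hσ

open Polynomial in
/-- **the generic word**: over an infinite field `k` there is `W ∈ GG` with `W 0 1 * α ∈ k^*` -/
theorem exists_word [Infinite k] (hα : α ≠ 0) (halg : IsAlgebraic k α) :
    ∃ W ∈ GG k α, ∃ c : k, c ≠ 0 ∧ α * W 0 1 = algebraMap k E c := by
  have hint : IsIntegral k α := halg.isIntegral
  set f := minpoly k α with hf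
  have hf0 : f.coeff 0 ≠ 0 := minpoly.coeff_zero_ne_zero hint hα
  set ft := divX f with hft
  have hfe : ft * X + C (f.coeff 0) = f := divX_mul_X_add f
  have hroot : aeval α ft * α = -algebraMap k E (f.coeff 0) := by
    have h1 : aeval α f = 0 := minpoly.aeval k α
    rw [← hfe] at h1
    simp only [map_add, map_mul, aeval_C, aeval_X] at h1
    linear_combination h1
  have hft0 : ft ≠ 0 := by
    intro h0
    rw [h0, map_zero, zero_mul] at hroot
    have : algebraMap k E (f.coeff 0) = 0 := by linear_combination hroot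
    exact hf0 ((map_eq_zero _).1 this)
  set m := ft.natDegree with hm
  set N := ft.reverse with hN
  have hN0 : N.coeff 0 ≠ 0 := by
    rw [hN, coeff_zero_reverse]; exact leadingCoeff_ne_zero.2 hft0
  have hNd : N.natDegree ≤ m := reverse_natDegree_le ft
  have hNc : PowerSeries.constantCoeff (N : PowerSeries k) ≠ 0 := by
    rw [← PowerSeries.coeff_zero_eq_constantCoeff_apply, Polynomial.coeff_coe]; exact hN0
  set ω : PowerSeries k := (N : PowerSeries k)⁻¹ with hω
  have hω0 : PowerSeries.constantCoeff ω ≠ 0 := by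
    rw [hω, PowerSeries.constantCoeff_inv]; exact inv_ne_zero hNc
  obtain ⟨D, hDd, hQ⟩ := exists_QQ ω hω0 m
  have hψ : (D : PowerSeries k) * ω * (N : PowerSeries k) = D := by
    rw [mul_assoc, hω, PowerSeries.inv_mul_cancel _ hNc, mul_one]
  obtain ⟨W, hW, δ, hδ, h01, -⟩ := word_of_QQ (α := α) hα m N D _ hψ hN0 hNd hDd hQ
  refine ⟨W, hW, -(f.coeff 0) / δ, div_ne_zero (neg_ne_zero.2 hf0) hδ, ?_⟩
  -- the value of the reversed polynomial
  have hrev : aeval α⁻¹ N * α ^ m = aeval α ft := by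
    let _ : Invertible α := invertibleOfNonzero hα
    have := eval₂_reverse_mul_pow (algebraMap k E) α ft
    rw [invOf_eq_inv] at this
    rw [aeval_def, aeval_def, hN, hm]
    exact this
  have hδ' : algebraMap k E δ ≠ 0 := fun h => hδ ((map_eq_zero _).1 h)
  have hpow : α⁻¹ ^ m * α ^ m = 1 := by
    rw [← mul_pow, inv_mul_cancel₀ hα, one_pow]
  have h2 : algebraMap k E δ * W 0 1 = aeval α ft := by
    rw [← hrev, h01]
    linear_combination (-(algebraMap k E δ * W 0 1)) * hpow
  rw [map_div₀, map_neg]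
  field_simp
  linear_combination (h2 + 0) * α + hroot

/-- **infinite case**: `tL 1 ∈ GG` -/
theorem tL_one_mem_of_infinite [Infinite k] (h2 : (2 : k) ≠ 0) (hα : α ≠ 0)
    (halg : IsAlgebraic k α) : tL (1 : E) ∈ GG k α := by
  classical
  obtain ⟨W, hW, c, hc, hWc⟩ := exists_word (k := k) hα halg
  obtain ⟨a, ha⟩ := Infinite.exists_notMem_finset ({0, 1, -1} : Finset k)
  simp only [Finset.mem_insert, Finset.mem_singleton, not_or] at ha
  have ha1 : a * a ≠ 1 := by
    intro h
    have : (a - 1) * (a + 1) = 0 := by linear_combination h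
    rcases mul_eq_zero.1 this with h' | h'
    · exact ha.2.1 (by linear_combination h')
    · exact ha.2.2 (by linear_combination h')
  refine tL_one_mem_of_entry h2 ha.1 ha1 (theta_mem (k := k) hα hW) hc ?_
  rw [theta10, hWc]

end Cfsg.Agent.Lib.Helper83_SL2GenInf
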