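import Mathlib
import Cfsg.Agent.Lib.Helper50_SL2Mat
import Cfsg.Agent.S5060

set_option autoImplicit false

/-!
# S5798 package SB-DK5 (architect helper59): Dickson for `|F₀| ≠ 3` from the landed S5060
-/

namespace Cfsg.Agent.Lib.Helper10_S5798_SB_DK5

open Matrix Cfsg.Agent.Lib.Helper50_SL2Mat
open scoped MatrixGroups

theorem dickson_big {F : Type*} [Field F] [Fintype F] (F₀ : Subfield F) (h2 : (2 : F) ≠ 0)
    (h3 : Nat.card F₀ ≠ 3) {θ : F} (hθ : θ ≠ 0) (Γ : Subgroup SL(2, F))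
    (hU : ∀ a ∈ F₀, tU a ∈ Γ) (hL : ∀ b ∈ F₀, tL (b * θ) ∈ Γ) : tL (θ * θ) ∈ Γ := by
  have hk2 : ringChar ↥F₀ ≠ 2 := by
    intro h
    apply h2
    have h0 : ((2 : ℕ) : ↥F₀) = 0 := by rw [← h]; exact ringChar.Nat.cast_ringChar
    have h1 : (2 : ↥F₀) = 0 := by exact_mod_cast h0
    have h4 : ((2 : ↥F₀) : F) = 0 := by rw [h1]; rfl
    have h5 : ((2 : ↥F₀) : F) = (2 : F) := rfl
    rw [← h5]; exact h4
  have halg : IsAlgebraic ↥F₀ θ := by
    have : Module.Finite ↥F₀ F := Module.Finite.of_finite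
    exact Algebra.IsAlgebraic.isAlgebraic θ
  have hres := Cfsg.Agent.S5060.result (k := ↥F₀) (K := F) hk2 h3 θ halg hθ
  have hmem : tL (θ * θ) ∈ {g : Matrix.SpecialLinearGroup (Fin 2) F |
      ∀ i j : Fin 2, (g : Matrix (Fin 2) (Fin 2) F) i j ∈
        IntermediateField.adjoin ↥F₀ ({θ} : Set F)} := by
    have hθm : θ ∈ IntermediateField.adjoin ↥F₀ ({θ} : Set F) :=
      IntermediateField.mem_adjoin_simple_self ↥F₀ θ
    intro i j
    fin_cases i <;> fin_cases j
    · show (tL (θ * θ)) 0 0 ∈ _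
      rw [tL00]; exact one_mem _
    · show (tL (θ * θ)) 0 1 ∈ _
      rw [tL01]; exact zero_mem _
    · show (tL (θ * θ)) 1 0 ∈ _
      rw [tL10]; exact mul_mem hθm hθm
    · show (tL (θ * θ)) 1 1 ∈ _
      rw [tL11]; exact one_mem _
  rw [← hres] at hmem
  have hle : Subgroup.closure ({g : Matrix.SpecialLinearGroup (Fin 2) F | ∃ c : ↥F₀,
        (g : Matrix (Fin 2) (Fin 2) F) = !![1, algebraMap ↥F₀ F c; 0, 1]} ∪
      {g : Matrix.SpecialLinearGroup (Fin 2) F | ∃ c : ↥F₀,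
        (g : Matrix (Fin 2) (Fin 2) F) = !![1, 0; algebraMap ↥F₀ F c * θ, 1]}) ≤ Γ := by
    rw [Subgroup.closure_le]
    rintro g (⟨c, hc⟩ | ⟨c, hc⟩)
    · have : g = tU (c : F) := by
        apply ext4
        · show (g : Matrix (Fin 2) (Fin 2) F) 0 0 = _
          rw [hc]; rfl
        · show (g : Matrix (Fin 2) (Fin 2) F) 0 1 = _
          rw [hc]; rfl
        · show (g : Matrix (Fin 2) (Fin 2) F) 1 0 = _
          rw [hc]; rfl
        · show (g : Matrix (Fin 2) (Fin 2) F) 1 1 = _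
          rw [hc]; rfl
      rw [SetLike.mem_coe, this]
      exact hU _ c.2
    · have : g = tL ((c : F) * θ) := by
        apply ext4
        · show (g : Matrix (Fin 2) (Fin 2) F) 0 0 = _
          rw [hc]; rfl
        · show (g : Matrix (Fin 2) (Fin 2) F) 0 1 = _
          rw [hc]; rfl
        · show (g : Matrix (Fin 2) (Fin 2) F) 1 0 = _
          rw [hc]; rfl
        · show (g : Matrix (Fin 2) (Fin 2) F) 1 1 = _
          rw [hc]; rfl
      rw [SetLike.mem_coe, this]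
      exact hL _ c.2
  exact hle hmem

end Cfsg.Agent.Lib.Helper10_S5798_SB_DK5
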