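import Mathlib
import Cfsg.Agent.Lib.Helper50_SL2Mat

set_option autoImplicit false

/-!
# S5798 package SB-EMB (architect helper59): the plane embedding `SL(2,F) →* GL ι F`
-/

namespace Cfsg.Agent.Lib.Helper10_S5798_SB_EMB

open Matrix Cfsg.Agent.Lib.Helper50_SL2Mat
open scoped MatrixGroups

variable {F : Type*} [Field F] {ι : Type} [Fintype ι] [DecidableEq ι]

/-- the matrix with columns `y, x` -/
def Ym (y x : ι → F) : Matrix ι (Fin 2) F := Matrix.of fun i j => ![y i, x i] j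

/-- the matrix with rows `ζ₁, ζ₂` -/
def Zm (ζ₁ ζ₂ : ι → F) : Matrix (Fin 2) ι F := Matrix.of ![ζ₁, ζ₂]

omit [DecidableEq ι] in
theorem Zm_mul_Ym (y x ζ₁ ζ₂ : ι → F) (h11 : ζ₁ ⬝ᵥ y = 1) (h12 : ζ₁ ⬝ᵥ x = 0)
    (h21 : ζ₂ ⬝ᵥ y = 0) (h22 : ζ₂ ⬝ᵥ x = 1) : Zm ζ₁ ζ₂ * Ym y x = 1 := by
  ext i j
  fin_cases i <;> fin_cases j
  · show ∑ k, ζ₁ k * y k = 1
    exact h11
  · show ∑ k, ζ₁ k * x k = 0
    exact h12
  · show ∑ k, ζ₂ k * y k = 0
    exact h21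
  · show ∑ k, ζ₂ k * x k = 1
    exact h22

/-- `A ↦ 1 + Y (A - 1) Z` is multiplicative when `Z Y = 1` -/
def psi (Y : Matrix ι (Fin 2) F) (Z : Matrix (Fin 2) ι F) (h : Z * Y = 1) :
    Matrix (Fin 2) (Fin 2) F →* Matrix ι ι F where
  toFun A := 1 + Y * (A - 1) * Z
  map_one' := by simp
  map_mul' A B := by
    have hPR : Y * (A - 1) * Z * (Y * (B - 1) * Z) = Y * ((A - 1) * (B - 1)) * Z := by
      calc Y * (A - 1) * Z * (Y * (B - 1) * Z)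
          = Y * (A - 1) * (Z * Y) * (B - 1) * Z := by simp only [Matrix.mul_assoc]
        _ = Y * ((A - 1) * (B - 1)) * Z := by
          rw [h, Matrix.mul_one]; simp only [Matrix.mul_assoc]
    have hAB : A * B - 1 = (A - 1) + (B - 1) + (A - 1) * (B - 1) := by noncomm_ring
    rw [hAB, Matrix.mul_add, Matrix.mul_add, Matrix.add_mul, Matrix.add_mul, ← hPR]
    noncomm_ring

theorem psi_apply (Y : Matrix ι (Fin 2) F) (Z : Matrix (Fin 2) ι F) (h : Z * Y = 1)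
    (A : Matrix (Fin 2) (Fin 2) F) : psi Y Z h A = 1 + Y * (A - 1) * Z := rfl

theorem exists_emb {F : Type*} [Field F] {ι : Type} [Fintype ι] [DecidableEq ι]
    (y x ζ₁ ζ₂ : ι → F) (h11 : ζ₁ ⬝ᵥ y = 1) (h12 : ζ₁ ⬝ᵥ x = 0) (h21 : ζ₂ ⬝ᵥ y = 0)
    (h22 : ζ₂ ⬝ᵥ x = 1) :
    ∃ φ : SL(2, F) →* GL ι F,
      (∀ a : F, ((φ (tU a) : GL ι F) : Matrix ι ι F) = 1 + a • vecMulVec y ζ₂) ∧
      (∀ c : F, ((φ (tL c) : GL ι F) : Matrix ι ι F) = 1 + c • vecMulVec x ζ₁) := by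
  have h := Zm_mul_Ym y x ζ₁ ζ₂ h11 h12 h21 h22
  refine ⟨(Units.map (psi (Ym y x) (Zm ζ₁ ζ₂) h)).comp Matrix.SpecialLinearGroup.toGL, ?_, ?_⟩
  · intro a
    show psi (Ym y x) (Zm ζ₁ ζ₂) h (tU a : Matrix (Fin 2) (Fin 2) F) = _
    rw [psi_apply]
    congr 1
    ext i j
    rw [Matrix.mul_apply, Fin.sum_univ_two, Matrix.mul_apply, Matrix.mul_apply,
      Fin.sum_univ_two, Fin.sum_univ_two]
    simp only [Matrix.sub_apply, Matrix.smul_apply, vecMulVec_apply, smul_eq_mul]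
    have e00 : (tU a : Matrix (Fin 2) (Fin 2) F) 0 0 = 1 := rfl
    have e01 : (tU a : Matrix (Fin 2) (Fin 2) F) 0 1 = a := rfl
    have e10 : (tU a : Matrix (Fin 2) (Fin 2) F) 1 0 = 0 := rfl
    have e11 : (tU a : Matrix (Fin 2) (Fin 2) F) 1 1 = 1 := rfl
    rw [e00, e01, e10, e11]
    simp [Ym, Zm]
    ring
  · intro c
    show psi (Ym y x) (Zm ζ₁ ζ₂) h (tL c : Matrix (Fin 2) (Fin 2) F) = _
    rw [psi_apply]
    congr 1
    ext i j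
    rw [Matrix.mul_apply, Fin.sum_univ_two, Matrix.mul_apply, Matrix.mul_apply,
      Fin.sum_univ_two, Fin.sum_univ_two]
    simp only [Matrix.sub_apply, Matrix.smul_apply, vecMulVec_apply, smul_eq_mul]
    have e00 : (tL c : Matrix (Fin 2) (Fin 2) F) 0 0 = 1 := rfl
    have e01 : (tL c : Matrix (Fin 2) (Fin 2) F) 0 1 = 0 := rfl
    have e10 : (tL c : Matrix (Fin 2) (Fin 2) F) 1 0 = c := rfl
    have e11 : (tL c : Matrix (Fin 2) (Fin 2) F) 1 1 = 1 := rfl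
    rw [e00, e01, e10, e11]
    simp [Ym, Zm]
    ring

end Cfsg.Agent.Lib.Helper10_S5798_SB_EMB
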