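import Mathlib
import Cfsg.Agent.Lib.Helper66_S96Defs

set_option autoImplicit false

/-!
Steinberg relations of type `B_m` / `²D_l` (helper74, co-architect of helper14 / helper66 for the Schur
multipliers of `PΩ_{2m+1}(q)` and `PΩ⁻_{2l}(q)`, S2094 / S2099).

The space is `V = K^(ι ⊕ ι) × V0` with the quadratic form `qB (x, v) = qD x + Q0 v`, where `(V0, Q0)` is an
anisotropic quadratic space over `K` (`V0 = K`, `Q0 v = v²` for `B_m`; `V0 = L` a quadratic extension with its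
norm form for `²D_l`).  Index set and opposition `ng` as in `Helper66_S92Defs` / `Helper66_S96Defs`.

With `E(u, w) : x ↦ x + B(x, w) u - B(x, u) w - Q(w) B(x, u) u` (`u` singular, `w ⟂ u`):
* long root elements `X a c t = E(b_a, t b_c)`: EXACTLY the root elements of type `D` of `Helper66_S96Defs`
  (`xactD` on the first factor, identity on `V0`), so the long family is a `DStAB` family;
* short root elements `XS a v = E(b_a, v)`, `v ∈ V0`:
  `x ↦ x + B0(x₀, v) b_a - x_{ng a} v - Q0(v) x_{ng a} b_a` (`xactS`).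
Relations (signs checked numerically over `GF(7)`, `dim V0 = 1, 2`, helper74 tmp/s94/model.py):
`[XS a v, XS c w] = X a c (-B0(v, w))`, `[X a c t, XS (ng c) v] = XS a (t v) * X a (ng c) (t Q0(v))`
(commutators are `g h g⁻¹ h⁻¹`), `XS a v` commutes with `X d e t` when `d, e ≠ ng a`.
When `V0 = L` is a field with an involution `σ` and `Q0 = N` its norm (`σ = id`, `N w = w²` for `B_m`), the pair
`w ↦ XS a w`, `w ↦ XS (ng a) (-σ w)` satisfies the rank one relations `Helper5_SteinbergA.Rel` over `L`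
(it is the image of `SL₂(L)` acting on the hermitian matrices `[[x_a, x₀], [σ x₀, -x_{ng a}]]` by `A M σ(A)ᵀ`).
-/

namespace Cfsg.Agent.Lib.Helper74_S94

open Cfsg.Agent.Lib.Helper5_SteinbergA Cfsg.Agent.Lib.Helper66_S92 Cfsg.Agent.Lib.Helper66_S96

variable {ι : Type*} {K : Type*} [Field K] {V0 : Type*} [AddCommGroup V0] [Module K V0]
  {G : Type*} [Group G]

/-- Steinberg relations of type `B` / `²D` without the rank one relations; commutators are
`g h g⁻¹ h⁻¹`.  `X` are the long root elements (a family of type `D`), `XS` the short ones. -/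
structure BStAB (Q0 : QuadraticForm K V0) (X : ι ⊕ ι → ι ⊕ ι → K → G) (XS : ι ⊕ ι → V0 → G) :
    Prop where
  long : DStAB X
  sadd : ∀ a v w, XS a v * XS a w = XS a (v + w)
  scomm : ∀ a d e v t, d ≠ ng a → e ≠ ng a → XS a v * X d e t = X d e t * XS a v
  ss : ∀ a c v w, c ≠ a → c ≠ ng a →
    XS a v * XS c w * (XS a v)⁻¹ * (XS c w)⁻¹ = X a c (-(QuadraticMap.polar Q0 v w))
  ls : ∀ a c t v, c ≠ a → c ≠ ng a →
    X a c t * XS (ng c) v * (X a c t)⁻¹ * (XS (ng c) v)⁻¹ = XS a (t • v) * X a (ng c) (t * Q0 v)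

/-! ### the model -/

/-- the basis vector `b_o` of `K^(ι ⊕ ι) × V0` -/
def bB [DecidableEq ι] (o : ι ⊕ ι) : (ι ⊕ ι → K) × V0 := (Pi.single o 1, 0)

/-- the action of the short root elements on vectors in the model -/
def xactS [DecidableEq ι] (Q0 : QuadraticForm K V0) (a : ι ⊕ ι) (v : V0)
    (x : (ι ⊕ ι → K) × V0) : (ι ⊕ ι → K) × V0 :=
  (x.1 + Pi.single a (QuadraticMap.polar Q0 x.2 v - Q0 v * x.1 (ng a)), x.2 - x.1 (ng a) • v)

/-- the quadratic form `qD x + Q0 v` -/
def qB [Fintype ι] (Q0 : QuadraticForm K V0) (x : (ι ⊕ ι → K) × V0) : K := qD x.1 + Q0 x.2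

/-- the action of a group with families of long and short root elements on vectors is the one of
the model -/
structure IsActB [DecidableEq ι] (Q0 : QuadraticForm K V0) (X : ι ⊕ ι → ι ⊕ ι → K → G)
    (XS : ι ⊕ ι → V0 → G) (ρ : G →* Module.End K ((ι ⊕ ι → K) × V0)) : Prop where
  long : ∀ a c t x, ρ (X a c t) x = (xactD a c t x.1, x.2)
  short : ∀ a v x, ρ (XS a v) x = xactS Q0 a v x

/-! ### the subgroups of the vector stabiliser argument -/

/-- the abstract unipotent radical of the stabiliser of the line of `b_j` (abelian) -/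
def QsB (X : ι ⊕ ι → ι ⊕ ι → K → G) (XS : ι ⊕ ι → V0 → G) (j : ι ⊕ ι) : Subgroup G :=
  Subgroup.closure ({g | ∃ c t, c ≠ ng j ∧ g = X j c t} ∪ {g | ∃ v, g = XS j v})

/-- the abstract stabiliser of the vector `b_o` -/
def GsB (X : ι ⊕ ι → ι ⊕ ι → K → G) (XS : ι ⊕ ι → V0 → G) (o : ι ⊕ ι) : Subgroup G :=
  Subgroup.closure ({g | ∃ a c t, a ≠ ng o ∧ c ≠ ng o ∧ g = X a c t} ∪
    {g | ∃ a v, a ≠ ng o ∧ g = XS a v})

/-- the abstract Levi factor: the root elements not involving `o`, `ng o` -/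
def LsB (X : ι ⊕ ι → ι ⊕ ι → K → G) (XS : ι ⊕ ι → V0 → G) (o : ι ⊕ ι) : Subgroup G :=
  Subgroup.closure ({g | ∃ a c t, a ≠ o ∧ a ≠ ng o ∧ c ≠ o ∧ c ≠ ng o ∧ g = X a c t} ∪
    {g | ∃ a v, a ≠ o ∧ a ≠ ng o ∧ g = XS a v})

/-- the abstract stabiliser of the line of `b_o`; `Ts X` is the torus of the long roots -/
def PsB (X : ι ⊕ ι → ι ⊕ ι → K → G) (XS : ι ⊕ ι → V0 → G) (o : ι ⊕ ι) : Subgroup G :=
  GsB X XS o ⊔ Ts X

/-- the coset relation with pivot `k`: `g ∈ Q_{ng k} d_k P_o`, with the monomial representatives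
`IsRepD` of type `D` (long Weyl elements only) -/
def RkB (X : ι ⊕ ι → ι ⊕ ι → K → G) (XS : ι ⊕ ι → V0 → G) (o k : ι ⊕ ι) (g : G) : Prop :=
  ∃ q ∈ QsB X XS (ng k), ∃ d, IsRepD X o k d ∧ ∃ p ∈ PsB X XS o, g = q * d * p

/-- the coset relation -/
def RRB (X : ι ⊕ ι → ι ⊕ ι → K → G) (XS : ι ⊕ ι → V0 → G) (o : ι ⊕ ι) (g : G) : Prop :=
  ∃ k, RkB X XS o k g

/-- the action of the long Weyl and torus elements on the short root elements -/
structure WCalcS [DecidableEq ι] (X : ι ⊕ ι → ι ⊕ ι → K → G) (XS : ι ⊕ ι → V0 → G) : Prop where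
  wd_conjS : ∀ a c : ι ⊕ ι, c ≠ a → c ≠ ng a → ∀ s : K, s ≠ 0 → ∀ (d : ι ⊕ ι) (v : V0),
    WD X a c s * XS d v * (WD X a c s)⁻¹ = XS (sgD a c d) (muD a c s d • v)
  hd_conjS : ∀ a c : ι ⊕ ι, c ≠ a → c ≠ ng a → ∀ s : K, s ≠ 0 → ∀ (d : ι ⊕ ι) (v : V0),
    HD X a c s * XS d v * (HD X a c s)⁻¹ = XS d (chD a c s d • v)

/-! ### rank one relations for the short roots: `V0 = L` a field with an involution `σ`, `Q0` its norm -/

section field

variable {L : Type*} [Field L] [Algebra K L]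

/-- `σ` is an involutive automorphism of `L` over `K` and `Q0` is its norm form -/
structure IsNrm (Q0 : QuadraticForm K L) (σ : L → L) : Prop where
  map_add : ∀ v w, σ (v + w) = σ v + σ w
  map_mul : ∀ v w, σ (v * w) = σ v * σ w
  invol : ∀ v, σ (σ v) = v
  fix : ∀ c : K, σ (algebraMap K L c) = algebraMap K L c
  nrm : ∀ w, algebraMap K L (Q0 w) = w * σ w

/-- the pair of opposite short root subgroups, normalised so that it satisfies the rank one relations
`Helper5_SteinbergA.Rel` over `L` -/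
def pairS (σ : L → L) (XS : ι ⊕ ι → L → G) (a : ι ⊕ ι) : Bool → L → G :=
  fun b w => if b then XS a w else XS (ng a) (-σ w)

omit [Group G] in
theorem pairS_true (σ : L → L) (XS : ι ⊕ ι → L → G) (a : ι ⊕ ι) (w : L) :
    pairS σ XS a true w = XS a w := rfl

omit [Group G] in
theorem pairS_false (σ : L → L) (XS : ι ⊕ ι → L → G) (a : ι ⊕ ι) (w : L) :
    pairS σ XS a false w = XS (ng a) (-σ w) := rfl

/-- Steinberg relations of type `B` / `²D` (with the rank one relations) -/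
structure BSt (Q0 : QuadraticForm K L) (σ : L → L) (X : ι ⊕ ι → ι ⊕ ι → K → G)
    (XS : ι ⊕ ι → L → G) : Prop extends BStAB Q0 X XS where
  rank1 : ∀ a c, c ≠ a → c ≠ ng a → Rel (pairD X a c)
  rank1S : ∀ a, Rel (pairS σ XS a)

/-- the Weyl element of the short root of `XS a`; in the model it maps `b_a ↦ -(N w)⁻¹ b_{ng a}`,
`b_{ng a} ↦ -(N w) b_a`, `x₀ ↦ -(w / σ w) σ x₀` and fixes the other basis vectors -/
def WS (σ : L → L) (XS : ι ⊕ ι → L → G) (a : ι ⊕ ι) (w : L) : G := W (pairS σ XS a) true w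

theorem WS_eq (σ : L → L) (XS : ι ⊕ ι → L → G) (a : ι ⊕ ι) (w : L) :
    WS σ XS a w = XS a w * XS (ng a) (-σ (-w⁻¹)) * XS a w := rfl

/-- the torus element of the short root of `XS a`; in the model it scales `b_a` by `N w`,
`b_{ng a}` by `(N w)⁻¹` and `x₀` by `w / σ w` -/
def HS (σ : L → L) (XS : ι ⊕ ι → L → G) (a : ι ⊕ ι) (w : L) : G :=
  WS σ XS a w * (WS σ XS a 1)⁻¹

/-- the candidate for the nontrivial element of the kernel: it is the identity in the model -/
def zS (σ : L → L) (XS : ι ⊕ ι → L → G) (a : ι ⊕ ι) : G := HS σ XS a (-1)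

end field

end Cfsg.Agent.Lib.Helper74_S94
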