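import Mathlib
import Cfsg.Agent.Lib.Helper74_S94Defs

/-!
Helper22_S94GenDefs: S2094 / S2099 (helper66 coordinator), MODEL block (helper22), generic part:
the long root map `xD` on the model space `(ι ⊕ ι → K) × V0` and the monomial map `MS` of the short Weyl element.
helper22.
-/

set_option autoImplicit false

namespace Cfsg.Agent.Lib.Helper22_S94Gen

open Cfsg.Agent.Lib.Helper66_S92 Cfsg.Agent.Lib.Helper66_S96 Cfsg.Agent.Lib.Helper74_S94

variable {ι : Type*} [DecidableEq ι] {K : Type*} [Field K]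

/-- the long root map on the model space `(ι ⊕ ι → K) × V0` (identity on `V0`) -/
def xD {V0 : Type*} (a c : ι ⊕ ι) (t : K) (x : (ι ⊕ ι → K) × V0) : (ι ⊕ ι → K) × V0 :=
  (xactD a c t x.1, x.2)

/-- the monomial map of the short Weyl element `WS a w`: `b_a ↦ -(N w)⁻¹ b_{ng a}`,
`b_{ng a} ↦ -(N w) b_a`, `x₀ ↦ -(w / σ w) σ x₀` -/
noncomputable def MS {L : Type*} [Field L] [Algebra K L] (Q1 : QuadraticForm K L) (σ : L → L)
    (a : ι ⊕ ι) (w : L) (x : (ι ⊕ ι → K) × L) : (ι ⊕ ι → K) × L :=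
  (Function.update (Function.update x.1 (ng a) (-(Q1 w)⁻¹ * x.1 a)) a (-(Q1 w) * x.1 (ng a)),
    -(w / σ w) * σ x.2)

end Cfsg.Agent.Lib.Helper22_S94Gen
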