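import Mathlib
import Cfsg.Agent.Lib.Helper74_S94Defs
import Cfsg.Agent.Lib.Helper22_S94GenDefs

/-!
# S2094 / S2099 market `s94g_packages` (architect helper22), package SHORT2 (helper10)
`xactS_ss`: `[XS a v, XS c w] = X a c (-B0(v, w))` for the short root maps of the model space, in the
form `g h = r h g` (a pure identity of functions).
-/

set_option autoImplicit false
set_option linter.unusedSectionVars false
set_option linter.unusedVariables false
set_option linter.unusedSimpArgs false

namespace Cfsg.Agent.Lib.Helper10_S94G_SHORT2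

open Cfsg.Agent.Lib.Helper5_SteinbergA Cfsg.Agent.Lib.Helper66_S92 Cfsg.Agent.Lib.Helper66_S96
  Cfsg.Agent.Lib.Helper74_S94 Cfsg.Agent.Lib.Helper22_S94Gen

variable {ι : Type*} [DecidableEq ι] {K : Type*} [Field K]

variable {V0 : Type*} [AddCommGroup V0] [Module K V0] (Q0 : QuadraticForm K V0)

/-! ### SHORT2 (M): `ss`: `[XS a v, XS c w] = X a c (-B0(v, w))` in the form `g h = r h g` -/
theorem xactS_ss (a c : ι ⊕ ι) (v w : V0) (h1 : c ≠ a) (h2 : c ≠ ng a) (x : (ι ⊕ ι → K) × V0) :
    xactS Q0 a v (xactS Q0 c w x) =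
      xD a c (-(QuadraticMap.polar Q0 v w)) (xactS Q0 c w (xactS Q0 a v x)) := by
  have h1' : a ≠ c := fun h => h1 h.symm
  have h2' : ng a ≠ c := fun h => h2 h.symm
  have h3 : ng c ≠ a := fun h => h2 ((ng_eq_iff c a).mp h)
  have h3' : a ≠ ng c := fun h => h3 h.symm
  have s1 : ng a ≠ a := ng_ne a
  have s1' : a ≠ ng a := ne_ng a
  have s2 : ng c ≠ c := ng_ne c
  have s2' : c ≠ ng c := ne_ng c
  have hpol1 : QuadraticMap.polar Q0 (x.2 - x.1 (ng c) • w) v =
      QuadraticMap.polar Q0 x.2 v - x.1 (ng c) * QuadraticMap.polar Q0 v w := by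
    rw [QuadraticMap.polar_sub_left, QuadraticMap.polar_smul_left, smul_eq_mul,
      QuadraticMap.polar_comm Q0 w v]
  have hpol2 : QuadraticMap.polar Q0 (x.2 - x.1 (ng a) • v) w =
      QuadraticMap.polar Q0 x.2 w - x.1 (ng a) * QuadraticMap.polar Q0 v w := by
    rw [QuadraticMap.polar_sub_left, QuadraticMap.polar_smul_left, smul_eq_mul]
  apply Prod.ext
  · funext i
    simp only [xD, xactD, if_neg h2, xactS, Pi.add_apply, Pi.sub_apply, Pi.single_apply, h1, h1',
      h2, h2', h3, h3', s1, s1', s2, s2', if_false, add_zero, hpol1, hpol2]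
    by_cases hia : i = a
    · subst hia
      simp only [if_true, h1', if_false]
      ring
    · by_cases hic : i = c
      · subst hic
        simp only [if_true, hia, if_false]
        ring
      · simp only [hia, hic, if_false]
        ring
  · simp only [xD, xactD, if_neg h2, xactS, Pi.add_apply, Pi.sub_apply, Pi.single_apply, h1, h1',
      h2, h2', h3, h3', s1, s1', s2, s2', if_false, add_zero]
    abel

end Cfsg.Agent.Lib.Helper10_S94G_SHORT2
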