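import Mathlib
import Cfsg.Agent.Lib.Helper74_S94Defs
import Cfsg.Agent.Lib.Helper22_S94GenDefs

/-!
# S2094 / S2099 market `s94g_packages` (architect helper22), package SHORT3 (helper10)
`xact_ls`: `[X a c t, XS (ng c) v] = XS a (t v) * X a (ng c) (t Q0(v))` for the root maps of the model
space, in the form `g h = r h g` (a pure identity of functions).
-/

set_option autoImplicit false
set_option linter.unusedSectionVars false
set_option linter.unusedVariables false
set_option linter.unusedSimpArgs false

namespace Cfsg.Agent.Lib.Helper10_S94G_SHORT3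

open Cfsg.Agent.Lib.Helper5_SteinbergA Cfsg.Agent.Lib.Helper66_S92 Cfsg.Agent.Lib.Helper66_S96
  Cfsg.Agent.Lib.Helper74_S94 Cfsg.Agent.Lib.Helper22_S94Gen

variable {ι : Type*} [DecidableEq ι] {K : Type*} [Field K]

variable {V0 : Type*} [AddCommGroup V0] [Module K V0] (Q0 : QuadraticForm K V0)

/-! ### SHORT3 (M/L): `ls`: `[X a c t, XS (ng c) v] = XS a (t v) * X a (ng c) (t Q0(v))` in the form `g h = r h g` -/
theorem xact_ls (a c : ι ⊕ ι) (t : K) (v : V0) (h1 : c ≠ a) (h2 : c ≠ ng a) (x : (ι ⊕ ι → K) × V0) :
    xD a c t (xactS Q0 (ng c) v x) =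
      xactS Q0 a (t • v) (xD a (ng c) (t * Q0 v) (xactS Q0 (ng c) v (xD a c t x))) := by
  have h1' : a ≠ c := fun h => h1 h.symm
  have h2' : ng a ≠ c := fun h => h2 h.symm
  have h3 : ng c ≠ a := fun h => h2 ((ng_eq_iff c a).mp h)
  have h3' : a ≠ ng c := fun h => h3 h.symm
  have h4 : ng c ≠ ng a := fun h => h1 (ng_injective h)
  have h4' : ng a ≠ ng c := fun h => h4 h.symm
  have s1 : ng a ≠ a := ng_ne a
  have s1' : a ≠ ng a := ne_ng a
  have s2 : ng c ≠ c := ng_ne c
  have s2' : c ≠ ng c := ne_ng c
  have hpol : ∀ r : K, QuadraticMap.polar Q0 (x.2 - r • v) (t • v) =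
      t * (QuadraticMap.polar Q0 x.2 v - r * (2 * Q0 v)) := by
    intro r
    rw [QuadraticMap.polar_smul_right, QuadraticMap.polar_sub_left, QuadraticMap.polar_smul_left,
      QuadraticMap.polar_self, smul_eq_mul, smul_eq_mul, nsmul_eq_mul]
    norm_num
  have hQ : Q0 (t • v) = t * t * Q0 v := by
    rw [QuadraticMap.map_smul, smul_eq_mul]
  apply Prod.ext
  · funext i
    simp only [xD, xactD, if_neg h2, if_neg h4, xactS, Pi.add_apply, Pi.sub_apply, Pi.single_apply,
      ng_ng, h1, h1', h2, h2', h3, h3', h4, h4', s1, s1', s2, s2', if_false, if_true, add_zero,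
      sub_zero, hpol, hQ]
    by_cases hia : i = a
    · subst hia
      simp only [if_true, h1', h3', if_false]
      ring
    · by_cases hic : i = c
      · subst hic
        simp only [if_true, hia, s2', if_false]
        ring
      · by_cases hinc : i = ng c
        · subst hinc
          simp only [if_true, hia, hic, if_false]
          ring
        · simp only [hia, hic, hinc, if_false]
          ring
  · simp only [xD, xactD, if_neg h2, if_neg h4, xactS, Pi.add_apply, Pi.sub_apply, Pi.single_apply,
      ng_ng, h1, h1', h2, h2', h3, h3', h4, h4', s1, s1', s2, s2', if_false, if_true, add_zero,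
      sub_zero]
    module

end Cfsg.Agent.Lib.Helper10_S94G_SHORT3
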