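/-
Definitions for the (B, N)-pair with root subgroups of `SL_n(F)` (Mathlib's `Matrix.SpecialLinearGroup (Fin n) F`),
in the vocabulary of `Helper68_MatGrp` (triangular / diagonal / monomial elements relative to a height function):
Borel subgroup of upper triangular elements, the simple root elements `xs j t = 1 + t E_{j,j+1}`, their opposites
`ys j t = 1 + t E_{j+1,j}`, the representatives `ss j = xs j 1 * ys j (-1) * xs j 1` of the simple reflections
(`e_{j+1} ↦ e_j`, `e_j ↦ -e_{j+1}`), `N = ⟨ss j⟩ T`.  For S4613 (package PSL, architect helper68; sub-architect helper41).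
-/
import Mathlib
import Cfsg.Agent.Lib.Helper68_MatGrp

set_option autoImplicit false
set_option linter.unusedSectionVars false
set_option linter.unusedVariables false

namespace Cfsg.Agent.Lib.Helper41_SLRDefs

open Matrix Cfsg.Agent.Lib.Helper68_MatGrp

variable (n : ℕ) (F : Type*) [Field F]

/-- the matrix of an element of `SL_n(F)` -/
def φ : Matrix.SpecialLinearGroup (Fin n) F →* Matrix (Fin n) (Fin n) F where
  toFun g := g.1
  map_one' := rfl
  map_mul' _ _ := rfl

@[simp] theorem φ_apply (g : Matrix.SpecialLinearGroup (Fin n) F) : φ n F g = g.1 := rfl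

theorem φ_injective : Function.Injective (φ n F) := fun _ _ e => Subtype.ext e

/-- the height of an index -/
def ht : Fin n → ℕ := fun a => a.val

@[simp] theorem ht_apply (a : Fin n) : ht n a = a.val := rfl

theorem ht_injective : Function.Injective (ht n) := fun _ _ e => Fin.ext e

/-- the Borel subgroup: upper triangular elements -/
def Bsl : Subgroup (Matrix.SpecialLinearGroup (Fin n) F) := UT (φ n F) (ht n)

/-- the diagonal elements -/
def Tsl : Subgroup (Matrix.SpecialLinearGroup (Fin n) F) := Diag (φ n F)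

/-- the monomial elements -/
def Msl : Subgroup (Matrix.SpecialLinearGroup (Fin n) F) := Mono (φ n F)

variable {n F}

theorem mem_Bsl {g : Matrix.SpecialLinearGroup (Fin n) F} :
    g ∈ Bsl n F ↔ ∀ a b : Fin n, b.val < a.val → g.1 a b = 0 := Iff.rfl

theorem mem_Tsl {g : Matrix.SpecialLinearGroup (Fin n) F} :
    g ∈ Tsl n F ↔ ∀ a b : Fin n, a ≠ b → g.1 a b = 0 := Iff.rfl

theorem mem_Msl {g : Matrix.SpecialLinearGroup (Fin n) F} :
    g ∈ Msl n F ↔ ∃ σ : Equiv.Perm (Fin n), ∀ a b, a ≠ σ b → g.1 a b = 0 := Iff.rfl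

/-! ### positions of the simple roots -/

/-- the row index `j` of the `j`-th simple root -/
def lo (j : Fin (n - 1)) : Fin n := ⟨j.val, by have := j.2; omega⟩

/-- the column index `j + 1` of the `j`-th simple root -/
def hi (j : Fin (n - 1)) : Fin n := ⟨j.val + 1, by have := j.2; omega⟩

@[simp] theorem lo_val (j : Fin (n - 1)) : (lo j).val = j.val := rfl

@[simp] theorem hi_val (j : Fin (n - 1)) : (hi j).val = j.val + 1 := rfl

theorem lo_ne_hi (j : Fin (n - 1)) : lo j ≠ hi j := by
  intro e
  have := congrArg Fin.val e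
  simp at this

theorem hi_ne_lo (j : Fin (n - 1)) : hi j ≠ lo j := fun e => lo_ne_hi j e.symm

/-! ### root elements and Weyl group representatives -/

/-- the simple root element `1 + t E_{j,j+1}` -/
def xs (j : Fin (n - 1)) (t : F) : Matrix.SpecialLinearGroup (Fin n) F :=
  Matrix.SpecialLinearGroup.transvection (lo_ne_hi j) t

/-- the opposite root element `1 + t E_{j+1,j}` -/
def ys (j : Fin (n - 1)) (t : F) : Matrix.SpecialLinearGroup (Fin n) F :=
  Matrix.SpecialLinearGroup.transvection (hi_ne_lo j) t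

/-- the representative of the `j`-th simple reflection: `e_{j+1} ↦ e_j`, `e_j ↦ -e_{j+1}` -/
def ss (j : Fin (n - 1)) : Matrix.SpecialLinearGroup (Fin n) F := xs j 1 * ys j (-1) * xs j 1

theorem xs_val (j : Fin (n - 1)) (t : F) :
    (xs j t : Matrix.SpecialLinearGroup (Fin n) F).1 = 1 + Matrix.single (lo j) (hi j) t := rfl

theorem ys_val (j : Fin (n - 1)) (t : F) :
    (ys j t : Matrix.SpecialLinearGroup (Fin n) F).1 = 1 + Matrix.single (hi j) (lo j) t := rfl

theorem xs_mul (j : Fin (n - 1)) (s t : F) :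
    (xs j s : Matrix.SpecialLinearGroup (Fin n) F) * xs j t = xs j (s + t) :=
  (Matrix.SpecialLinearGroup.transvection_add (lo_ne_hi j) s t).symm

theorem xs_zero (j : Fin (n - 1)) : (xs j (0 : F) : Matrix.SpecialLinearGroup (Fin n) F) = 1 :=
  Matrix.SpecialLinearGroup.transvection_coeff_zero (lo_ne_hi j)

theorem xs_inv (j : Fin (n - 1)) (t : F) :
    (xs j t : Matrix.SpecialLinearGroup (Fin n) F)⁻¹ = xs j (-t) :=
  Matrix.SpecialLinearGroup.transvection_inv (lo_ne_hi j) t

theorem ys_mul (j : Fin (n - 1)) (s t : F) :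
    (ys j s : Matrix.SpecialLinearGroup (Fin n) F) * ys j t = ys j (s + t) :=
  (Matrix.SpecialLinearGroup.transvection_add (hi_ne_lo j) s t).symm

theorem ys_zero (j : Fin (n - 1)) : (ys j (0 : F) : Matrix.SpecialLinearGroup (Fin n) F) = 1 :=
  Matrix.SpecialLinearGroup.transvection_coeff_zero (hi_ne_lo j)

theorem ys_inv (j : Fin (n - 1)) (t : F) :
    (ys j t : Matrix.SpecialLinearGroup (Fin n) F)⁻¹ = ys j (-t) :=
  Matrix.SpecialLinearGroup.transvection_inv (hi_ne_lo j) t

/-- the `j`-th simple root subgroup -/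
def Us (j : Fin (n - 1)) : Subgroup (Matrix.SpecialLinearGroup (Fin n) F) where
  carrier := Set.range (xs (F := F) j)
  mul_mem' := by
    rintro _ _ ⟨s, rfl⟩ ⟨t, rfl⟩
    exact ⟨s + t, (xs_mul j s t).symm⟩
  one_mem' := ⟨0, xs_zero j⟩
  inv_mem' := by
    rintro _ ⟨t, rfl⟩
    exact ⟨-t, (xs_inv j t).symm⟩

theorem mem_Us {j : Fin (n - 1)} {g : Matrix.SpecialLinearGroup (Fin n) F} :
    g ∈ Us j ↔ ∃ t : F, xs j t = g := Iff.rfl

variable (n F)

/-- the group `N`: generated by the representatives of the simple reflections and the diagonal elements -/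
def Nsl : Subgroup (Matrix.SpecialLinearGroup (Fin n) F) :=
  Subgroup.closure (Set.range (ss (n := n) (F := F))) ⊔ Tsl n F

end Cfsg.Agent.Lib.Helper41_SLRDefs
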