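/-
S4613, abstract part.  A `p'`-automorphism of a finite group with a split `(B, N)`-structure in characteristic `p`
that fixes the unipotent radical `U` of `B` elementwise is trivial, provided `C_G(U) ≤ U`.

The structure `BDat` records exactly what the argument uses: `B`, a normal `p`-subgroup `U` of `B` of `p'`-index in
`G`, elements `s i` with `P_i = B ∪ U s_i B` a subgroup, the fact that every subgroup containing `B` is generated by
`B` and the `s i` it contains, and for every `i` a subgroup `V i ≤ U` normalised by `B` and by `s i` but by no other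
`s j`.
-/
import Mathlib
import Cfsg.Agent.Lib.Helper6_BNPairC

set_option autoImplicit false
set_option linter.unusedSectionVars false

namespace Cfsg.Agent.Lib.Helper68_AutU

open Cfsg
open scoped Pointwise

/-- split `(B, N)`-data in characteristic `p`, in the form used for automorphisms centralising `U` -/
structure BDat (p : ℕ) (G : Type*) [Group G] (ι : Type*) where
  B : Subgroup G
  U : Subgroup G
  s : ι → G
  V : ι → Subgroup G
  overgroup : ∀ M : Subgroup G, B ≤ M → M ≤ B ⊔ Subgroup.closure (s '' {i | s i ∈ M})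
  rank1 : ∀ i, ∀ g ∈ B ⊔ Subgroup.closure {s i}, g ∈ B ∨ ∃ u ∈ U, ∃ b ∈ B, g = u * s i * b
  s_not_mem : ∀ i, s i ∉ B
  U_le : U ≤ B
  U_normal : ∀ b ∈ B, ∀ u ∈ U, b * u * b⁻¹ ∈ U
  U_pgroup : IsPGroup p U
  U_index : ¬ p ∣ U.index
  V_le : ∀ i, V i ≤ U
  V_normB : ∀ i, ∀ b ∈ B, ∀ v ∈ V i, b * v * b⁻¹ ∈ V i
  V_norms : ∀ i, ∀ v ∈ V i, s i * v * (s i)⁻¹ ∈ V i
  V_ne : ∀ i j, j ≠ i → ∃ v ∈ V i, s j * v * (s j)⁻¹ ∉ B

section basic

variable {G : Type*} [Group G]

theorem pow_apply_of_fix (α : MulAut G) {a x b : G} (ha : α a = a) (hb : α b = b)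
    (hx : α x = a * x * b) (k : ℕ) : (α ^ k) x = a ^ k * x * b ^ k := by
  induction k with
  | zero => simp
  | succ k ih =>
    rw [pow_succ', MulAut.mul_apply, ih, map_mul, map_mul, map_pow, map_pow, ha, hb, hx, pow_succ a k,
      pow_succ' b k]
    group

/-- if `α x = x c` with `c` a `p`-element fixed by `α` and `α` of order prime to `p`, then `c = 1` -/
theorem eq_one_of_fix {p : ℕ} [Fact p.Prime] (α : MulAut G) (hα : ¬ p ∣ orderOf α) {x c : G}
    (hx : α x = x * c) (hc : α c = c) (hcp : ∃ k, c ^ p ^ k = 1) : c = 1 := by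
  have hp : p.Prime := Fact.out
  have h1 := pow_apply_of_fix α (a := 1) (x := x) (b := c) (map_one α) hc (by rw [hx, one_mul])
    (orderOf α)
  rw [pow_orderOf_eq_one, MulAut.one_apply, one_pow, one_mul] at h1
  have h2 : c ^ orderOf α = 1 := by
    have : x * c ^ orderOf α = x * 1 := by rw [mul_one]; exact h1.symm
    exact mul_left_cancel this
  obtain ⟨k, hk⟩ := hcp
  have h3 : orderOf c ∣ orderOf α := orderOf_dvd_iff_pow_eq_one.2 h2
  have h4 : orderOf c ∣ p ^ k := orderOf_dvd_iff_pow_eq_one.2 hk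
  have hcop : Nat.Coprime (orderOf α) (p ^ k) :=
    Nat.Coprime.pow_right k ((Nat.Prime.coprime_iff_not_dvd hp).2 hα).symm
  have h5 : orderOf c ∣ 1 := by
    have := Nat.dvd_gcd h3 h4
    rwa [hcop] at this
  exact orderOf_eq_one_iff.1 (Nat.dvd_one.1 h5)

theorem conj_pow_eq_one {x g : G} {n : ℕ} (h : x ^ n = 1) : (g * x * g⁻¹) ^ n = 1 := by
  rw [conj_pow, h, mul_one, mul_inv_cancel]

end basic

section core

variable {G : Type*} [Group G] {p : ℕ} [Fact p.Prime] {ι : Type*} (D : BDat p G ι)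

theorem BDat.pElement_of_mem_U {u : G} (hu : u ∈ D.U) : ∃ k, u ^ p ^ k = 1 := by
  obtain ⟨k, hk⟩ := D.U_pgroup ⟨u, hu⟩
  exact ⟨k, by simpa using congrArg Subtype.val hk⟩

theorem BDat.mem_normalizer_U {b : G} (hb : b ∈ D.B) : b ∈ Subgroup.normalizer (D.U : Set G) := by
  rw [Subgroup.mem_normalizer_iff]
  intro h
  constructor
  · exact D.U_normal b hb h
  · intro hh
    have := D.U_normal b⁻¹ (D.B.inv_mem hb) _ hh
    have e : b⁻¹ * (b * h * b⁻¹) * b⁻¹⁻¹ = h := by group
    rwa [e] at this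

/-- the `p`-elements of `B` lie in a normal `p`-subgroup `U` of `B` of index prime to `p` in `G` -/
theorem mem_of_pElement_of_normal {B U : Subgroup G} (hUB : ∀ b ∈ B, ∀ u ∈ U, b * u * b⁻¹ ∈ U)
    (hU : IsPGroup p U) (hidx : ¬ p ∣ U.index) {x : G} (hxB : x ∈ B) (hx : ∃ k, x ^ p ^ k = 1) :
    x ∈ U := by
  obtain ⟨k, hk⟩ := hx
  have hH : IsPGroup p (Subgroup.zpowers x) := by
    rintro ⟨y, hy⟩
    obtain ⟨n, rfl⟩ := Subgroup.mem_zpowers_iff.1 hy
    refine ⟨k, ?_⟩
    apply Subtype.ext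
    show (x ^ n) ^ p ^ k = 1
    rw [← zpow_natCast, ← zpow_mul, mul_comm, zpow_mul, zpow_natCast, hk, one_zpow]
  have hxn : x ∈ Subgroup.normalizer (U : Set G) := by
    rw [Subgroup.mem_normalizer_iff]
    intro h
    constructor
    · exact hUB x hxB h
    · intro hh
      have := hUB x⁻¹ (B.inv_mem hxB) _ hh
      have e : x⁻¹ * (x * h * x⁻¹) * x⁻¹⁻¹ = h := by group
      rwa [e] at this
  have hle : Subgroup.zpowers x ≤ Subgroup.normalizer (U : Set G) := by
    rw [Subgroup.zpowers_le]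
    exact hxn
  have hsup := IsPGroup.to_sup_of_normal_right' hH hU hle
  have hS := (hU.toSylow hidx).is_maximal' hsup
    (by rw [IsPGroup.toSylow_coe]; exact le_sup_right)
  rw [IsPGroup.toSylow_coe] at hS
  have : x ∈ Subgroup.zpowers x ⊔ U := Subgroup.mem_sup_left (Subgroup.mem_zpowers x)
  rwa [hS] at this

/-- the `p`-elements of `B` lie in `U` -/
theorem BDat.mem_U_of_pElement {x : G} (hxB : x ∈ D.B) (hx : ∃ k, x ^ p ^ k = 1) : x ∈ D.U :=
  mem_of_pElement_of_normal D.U_normal D.U_pgroup D.U_index hxB hx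

/-- the minimal parabolic subgroup of `i` -/
def BDat.par (i : ι) : Subgroup G := D.B ⊔ Subgroup.closure {D.s i}

theorem BDat.B_le_par (i : ι) : D.B ≤ D.par i := le_sup_left

theorem BDat.s_mem_par (i : ι) : D.s i ∈ D.par i :=
  (le_sup_right : Subgroup.closure {D.s i} ≤ D.par i) (Subgroup.subset_closure rfl)

/-- **An automorphism of order prime to `p` fixing `U` elementwise is trivial** (when `C_G(U) ≤ U`). -/
theorem BDat.aut_eq_one [Finite G]
    (hcent : ∀ g : G, (∀ u ∈ D.U, g * u = u * g) → g ∈ D.U)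
    (α : MulAut G) (hα : ¬ p ∣ orderOf α) (hfix : ∀ x ∈ D.U, α x = x) : α = 1 := by
  -- Step 1: `α` fixes `B` elementwise
  have hB : ∀ b ∈ D.B, α b = b := by
    intro b hb
    have hc : b⁻¹ * α b ∈ D.U := by
      apply hcent
      intro u hu
      have h1 : α (b * u * b⁻¹) = b * u * b⁻¹ := hfix _ (D.U_normal b hb u hu)
      rw [map_mul, map_mul, map_inv, hfix u hu] at h1
      have h2 : α b * u = b * u * b⁻¹ * α b := by rw [← h1]; group
      calc b⁻¹ * α b * u = b⁻¹ * (α b * u) := by group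
        _ = b⁻¹ * (b * u * b⁻¹ * α b) := by rw [h2]
        _ = u * (b⁻¹ * α b) := by group
    have h2 : b⁻¹ * α b = 1 :=
      eq_one_of_fix α hα (x := b) (by group) (hfix _ hc) (D.pElement_of_mem_U hc)
    calc α b = b * (b⁻¹ * α b) := by group
      _ = b := by rw [h2, mul_one]
  -- it is enough to fix every `s i`
  suffices hs : ∀ i, α (D.s i) = D.s i by
    have htop : (⊤ : Subgroup G) ≤ D.B ⊔ Subgroup.closure (D.s '' {i | D.s i ∈ (⊤ : Subgroup G)}) :=
      D.overgroup ⊤ le_top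
    have hle : D.B ⊔ Subgroup.closure (D.s '' {i | D.s i ∈ (⊤ : Subgroup G)}) ≤
        (MonoidHom.eqLocus α.toMonoidHom (MonoidHom.id G)) := by
      apply sup_le
      · intro b hb
        exact hB b hb
      · rw [Subgroup.closure_le]
        rintro _ ⟨i, -, rfl⟩
        exact hs i
    ext x
    exact hle (htop (Subgroup.mem_top x))
  intro i
  -- Step 2: `α (s i)` lies in the minimal parabolic subgroup `P_i`
  have hαs : α (D.s i) ∈ D.par i := by
    have hnorm : α (D.s i) ∈ Subgroup.normalizer (D.V i : Set G) := by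
      -- conjugation by `α (s i)` maps `V i` into itself, hence onto itself
      have hinto : ∀ v ∈ D.V i, α (D.s i) * v * (α (D.s i))⁻¹ ∈ D.V i := by
        intro v hv
        have h1 : α (D.s i * v * (D.s i)⁻¹) = D.s i * v * (D.s i)⁻¹ :=
          hfix _ (D.V_le i (D.V_norms i v hv))
        rw [map_mul, map_mul, map_inv, hfix v (D.V_le i hv)] at h1
        rw [h1]
        exact D.V_norms i v hv
      rw [Subgroup.mem_normalizer_iff]
      intro h
      refine ⟨hinto h, fun hh => ?_⟩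
      -- surjectivity of the injective self-map of the finite set `V i`
      let φ : D.V i → D.V i := fun v => ⟨α (D.s i) * v * (α (D.s i))⁻¹, hinto v v.2⟩
      have hinj : Function.Injective φ := by
        intro v w hvw
        have := congrArg Subtype.val hvw
        simp only [φ] at this
        exact Subtype.ext (mul_left_cancel (mul_right_cancel this))
      obtain ⟨v, hv⟩ := (Finite.injective_iff_surjective.1 hinj) ⟨_, hh⟩
      have := congrArg Subtype.val hv
      simp only [φ] at this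
      have e : (v : G) = h := mul_left_cancel (mul_right_cancel this)
      rw [← e]
      exact v.2
    have hBle : D.B ≤ Subgroup.normalizer (D.V i : Set G) := by
      intro b hb
      rw [Subgroup.mem_normalizer_iff]
      intro h
      refine ⟨D.V_normB i b hb h, fun hh => ?_⟩
      have := D.V_normB i b⁻¹ (D.B.inv_mem hb) _ hh
      have e : b⁻¹ * (b * h * b⁻¹) * b⁻¹⁻¹ = h := by group
      rwa [e] at this
    have h1 := D.overgroup _ hBle hnorm
    have hsub : D.s '' {j | D.s j ∈ Subgroup.normalizer (D.V i : Set G)} ⊆ {D.s i} := by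
      rintro _ ⟨j, hj, rfl⟩
      by_cases hji : j = i
      · rw [hji]; rfl
      · exfalso
        obtain ⟨v, hv, hnot⟩ := D.V_ne i j hji
        apply hnot
        exact D.U_le (D.V_le i ((Subgroup.mem_normalizer_iff.1 hj v).1 hv))
    exact (sup_le_sup_left (Subgroup.closure_mono hsub) D.B) h1
  -- `α (s i) ∉ B`
  have hαnot : α (D.s i) ∉ D.B := by
    intro h
    have h2 : α (α (D.s i)) = α (D.s i) := hB _ h
    exact D.s_not_mem i (by rw [← α.injective h2]; exact h)
  -- Step 3: `α (s i) ∈ s i B`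
  obtain ⟨u₁, hu₁, b₁, hb₁, e₁⟩ := (D.rank1 i _ hαs).resolve_left hαnot
  have hc : (D.s i)⁻¹ * α (D.s i) ∈ D.B := by
    have h1 := pow_apply_of_fix α (hfix u₁ hu₁) (hB b₁ hb₁) e₁ (orderOf α)
    rw [pow_orderOf_eq_one, MulAut.one_apply] at h1
    -- `s⁻¹ u₁^m s = b₁^{-m} ∈ B`
    have h2 : (D.s i)⁻¹ * u₁ ^ orderOf α * D.s i ∈ D.B := by
      have e : (D.s i)⁻¹ * u₁ ^ orderOf α * D.s i = (b₁ ^ orderOf α)⁻¹ := by
        have : (D.s i)⁻¹ * u₁ ^ orderOf α * D.s i * b₁ ^ orderOf α = 1 := by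
          calc (D.s i)⁻¹ * u₁ ^ orderOf α * D.s i * b₁ ^ orderOf α
              = (D.s i)⁻¹ * (u₁ ^ orderOf α * D.s i * b₁ ^ orderOf α) := by group
            _ = (D.s i)⁻¹ * D.s i := by rw [← h1]
            _ = 1 := by group
        exact eq_inv_of_mul_eq_one_left this
      rw [e]
      exact D.B.inv_mem (D.B.pow_mem hb₁ _)
    -- `u₁` is a power of `u₁ ^ m`
    have hp : p.Prime := Fact.out
    obtain ⟨k, hk⟩ := D.pElement_of_mem_U hu₁
    have hcop : Nat.Coprime (orderOf α) (orderOf u₁) := by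
      have hdvd : orderOf u₁ ∣ p ^ k := orderOf_dvd_iff_pow_eq_one.2 hk
      exact Nat.Coprime.coprime_dvd_right hdvd
        (Nat.Coprime.pow_right k ((Nat.Prime.coprime_iff_not_dvd hp).2 hα).symm)
    obtain ⟨m, hm⟩ := exists_pow_eq_self_of_coprime hcop
    have h3 : (D.s i)⁻¹ * u₁ * D.s i ∈ D.B := by
      have e : (D.s i)⁻¹ * u₁ * D.s i = ((D.s i)⁻¹ * u₁ ^ orderOf α * D.s i) ^ m := by
        have : ((D.s i)⁻¹ * u₁ ^ orderOf α * D.s i) ^ m
            = (D.s i)⁻¹ * (u₁ ^ orderOf α) ^ m * D.s i := by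
          have := conj_pow (a := (D.s i)⁻¹) (b := u₁ ^ orderOf α) (i := m)
          rw [inv_inv] at this
          exact this
        rw [this, hm]
      rw [e]
      exact D.B.pow_mem h2 _
    have e : (D.s i)⁻¹ * α (D.s i) = ((D.s i)⁻¹ * u₁ * D.s i) * b₁ := by rw [e₁]; group
    rw [e]
    exact D.B.mul_mem h3 hb₁
  set c := (D.s i)⁻¹ * α (D.s i) with hcdef
  have hαsi : α (D.s i) = D.s i * c := by rw [hcdef]; group
  -- Step 4: `y⁻¹ α y ∈ B` for all `y ∈ P_i`
  have hcoset : ∀ y ∈ D.par i, y⁻¹ * α y ∈ D.B := by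
    intro y hy
    rcases D.rank1 i y hy with h | ⟨u, hu, b, hb, rfl⟩
    · rw [hB y h, inv_mul_cancel]; exact D.B.one_mem
    · rw [map_mul, map_mul, hfix u hu, hB b hb, hαsi]
      have e : (u * D.s i * b)⁻¹ * (u * (D.s i * c) * b) = b⁻¹ * c * b := by group
      rw [e]
      exact D.B.mul_mem (D.B.mul_mem (D.B.inv_mem hb) hc) hb
  -- Step 5: `c` centralises `U`
  have hcU : ∀ u ∈ D.U, c * u = u * c := by
    intro u hu
    set y := D.s i * u * (D.s i)⁻¹ with hy
    have hyP : y ∈ D.par i :=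
      (D.par i).mul_mem ((D.par i).mul_mem (D.s_mem_par i) (D.B_le_par i (D.U_le hu)))
        ((D.par i).inv_mem (D.s_mem_par i))
    have hcy := hcoset y hyP
    have hαy : α y = y * (D.s i * (u⁻¹ * c * u * c⁻¹) * (D.s i)⁻¹) := by
      rw [hy, map_mul, map_mul, map_inv, hfix u hu, hαsi]
      group
    have hw : u⁻¹ * c * u * c⁻¹ ∈ D.U := by
      have h1 : c * u * c⁻¹ ∈ D.U := D.U_normal c hc u hu
      have e : u⁻¹ * c * u * c⁻¹ = u⁻¹ * (c * u * c⁻¹) := by group
      rw [e]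
      exact D.U.mul_mem (D.U.inv_mem hu) h1
    have hcy' : D.s i * (u⁻¹ * c * u * c⁻¹) * (D.s i)⁻¹ ∈ D.B := by
      have e : D.s i * (u⁻¹ * c * u * c⁻¹) * (D.s i)⁻¹ = y⁻¹ * α y := by rw [hαy]; group
      rw [e]; exact hcy
    obtain ⟨k, hk⟩ := D.pElement_of_mem_U hw
    have hcyU : D.s i * (u⁻¹ * c * u * c⁻¹) * (D.s i)⁻¹ ∈ D.U :=
      D.mem_U_of_pElement hcy' ⟨k, conj_pow_eq_one hk⟩
    have h1 : D.s i * (u⁻¹ * c * u * c⁻¹) * (D.s i)⁻¹ = 1 :=
      eq_one_of_fix α hα hαy (hfix _ hcyU) ⟨k, conj_pow_eq_one hk⟩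
    have h2 : u⁻¹ * c * u * c⁻¹ = 1 := by
      have : u⁻¹ * c * u * c⁻¹ = (D.s i)⁻¹ * (D.s i * (u⁻¹ * c * u * c⁻¹) * (D.s i)⁻¹) * D.s i := by
        group
      rw [this, h1]; group
    calc c * u = u * (u⁻¹ * c * u * c⁻¹) * c := by group
      _ = u * c := by rw [h2, mul_one]
  -- Step 6: `c = 1`
  have hcmem : c ∈ D.U := hcent c hcU
  have hc1 : c = 1 := eq_one_of_fix α hα hαsi (hfix c hcmem) (D.pElement_of_mem_U hcmem)
  rw [hαsi, hc1, mul_one]

end core

section transfer

variable {G : Type*} [Group G] {p : ℕ} [Fact p.Prime] {ι : Type*} (D : BDat p G ι)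

/-- the same for an arbitrary Sylow `p`-subgroup -/
theorem BDat.aut_eq_one_of_sylow [Finite G]
    (hcent : ∀ g : G, (∀ u ∈ D.U, g * u = u * g) → g ∈ D.U)
    (α : MulAut G) (hα : ¬ p ∣ orderOf α) (Q : Sylow p G) (hfix : ∀ x ∈ Q, α x = x) : α = 1 := by
  obtain ⟨g, hg⟩ := MulAction.exists_smul_eq G (D.U_pgroup.toSylow D.U_index) Q
  set c : MulAut G := MulAut.conj g with hc
  have hmem : ∀ x ∈ D.U, g * x * g⁻¹ ∈ Q := by
    intro x hx
    rw [← hg]
    have : g * x * g⁻¹ ∈ MulAut.conj g • (D.U : Subgroup G) := by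
      rw [Subgroup.mem_pointwise_smul_iff_inv_smul_mem, ← map_inv]
      show g⁻¹ * (g * x * g⁻¹) * g⁻¹⁻¹ ∈ D.U
      have e : g⁻¹ * (g * x * g⁻¹) * g⁻¹⁻¹ = x := by group
      rw [e]; exact hx
    exact this
  have h1 : MulAut.conj c⁻¹ α = 1 := by
    apply D.aut_eq_one hcent
    · rw [MulEquiv.orderOf_eq]; exact hα
    · intro x hx
      show c⁻¹ (α (c⁻¹⁻¹ x)) = x
      rw [inv_inv]
      have h2 : α (c x) = c x := hfix _ (hmem x hx)
      rw [h2]
      exact MulAut.inv_apply_self _ c x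
  have h2 := congrArg (MulAut.conj c) h1
  rw [map_one, ← MulAut.mul_apply, ← map_mul, mul_inv_cancel, map_one, MulAut.one_apply] at h2
  exact h2

/-- transport of the data along a surjective homomorphism whose kernel lies in `B` -/
def BDat.map {H : Type*} [Group H] (f : G →* H) (hf : Function.Surjective f) (hker : f.ker ≤ D.B) :
    BDat p H ι where
  B := D.B.map f
  U := D.U.map f
  s := fun i => f (D.s i)
  V := fun i => (D.V i).map f
  overgroup := by
    intro M hM
    have h1 : D.B ≤ M.comap f := by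
      intro b hb
      exact hM (Subgroup.mem_map_of_mem f hb)
    have h2 := Subgroup.map_mono (f := f) (D.overgroup _ h1)
    rw [Subgroup.map_comap_eq_self_of_surjective hf, Subgroup.map_sup, MonoidHom.map_closure] at h2
    refine h2.trans (sup_le_sup_left (Subgroup.closure_mono ?_) _)
    rintro _ ⟨_, ⟨i, hi, rfl⟩, rfl⟩
    exact ⟨i, hi, rfl⟩
  rank1 := by
    intro i g hg
    have e : D.B.map f ⊔ Subgroup.closure {f (D.s i)} = (D.B ⊔ Subgroup.closure {D.s i}).map f := by
      rw [Subgroup.map_sup, MonoidHom.map_closure, Set.image_singleton]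
    rw [e] at hg
    obtain ⟨g₀, hg₀, rfl⟩ := hg
    rcases D.rank1 i g₀ hg₀ with h | ⟨u, hu, b, hb, rfl⟩
    · exact Or.inl (Subgroup.mem_map_of_mem f h)
    · exact Or.inr ⟨f u, Subgroup.mem_map_of_mem f hu, f b, Subgroup.mem_map_of_mem f hb, by
        rw [map_mul, map_mul]⟩
  s_not_mem := by
    rintro i ⟨b, hb, e⟩
    apply D.s_not_mem i
    have h1 : b⁻¹ * D.s i ∈ f.ker := by
      rw [MonoidHom.mem_ker, map_mul, map_inv, e, inv_mul_cancel]
    have e2 : D.s i = b * (b⁻¹ * D.s i) := by group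
    rw [e2]
    exact D.B.mul_mem hb (hker h1)
  U_le := Subgroup.map_mono D.U_le
  U_normal := by
    rintro _ ⟨b, hb, rfl⟩ _ ⟨u, hu, rfl⟩
    exact ⟨b * u * b⁻¹, D.U_normal b hb u hu, by rw [map_mul, map_mul, map_inv]⟩
  U_pgroup := D.U_pgroup.map f
  U_index := fun h => D.U_index (dvd_trans h (Subgroup.index_map_dvd D.U hf))
  V_le := fun i => Subgroup.map_mono (D.V_le i)
  V_normB := by
    rintro i _ ⟨b, hb, rfl⟩ _ ⟨v, hv, rfl⟩
    exact ⟨b * v * b⁻¹, D.V_normB i b hb v hv, by rw [map_mul, map_mul, map_inv]⟩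
  V_norms := by
    rintro i _ ⟨v, hv, rfl⟩
    exact ⟨D.s i * v * (D.s i)⁻¹, D.V_norms i v hv, by rw [map_mul, map_mul, map_inv]⟩
  V_ne := by
    intro i j hji
    obtain ⟨v, hv, hnot⟩ := D.V_ne i j hji
    refine ⟨f v, Subgroup.mem_map_of_mem f hv, ?_⟩
    rintro ⟨b, hb, e⟩
    apply hnot
    have h1 : b⁻¹ * (D.s j * v * (D.s j)⁻¹) ∈ f.ker := by
      rw [MonoidHom.mem_ker, map_mul, map_inv, e, map_mul, map_mul, map_inv, inv_mul_cancel]
    have e2 : D.s j * v * (D.s j)⁻¹ = b * (b⁻¹ * (D.s j * v * (D.s j)⁻¹)) := by group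
    rw [e2]
    exact D.B.mul_mem hb (hker h1)

/-- **The theorem for a central quotient.** If `C_G(U) ≤ U Z(G)`, `Z(G) ≤ B` and `Z(G) ∩ U = 1`, then every
automorphism of `G / Z(G)` of order prime to `p` fixing a Sylow `p`-subgroup elementwise is trivial. -/
theorem BDat.aut_eq_one_of_surjective [Finite G]
    (hZB : Subgroup.center G ≤ D.B) (hZU : ∀ z ∈ Subgroup.center G, z ∈ D.U → z = 1)
    (hcent : ∀ g : G, (∀ u ∈ D.U, g * u = u * g) → ∃ u ∈ D.U, ∃ z ∈ Subgroup.center G, g = u * z)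
    {H : Type*} [Group H] (f : G →* H) (hf : Function.Surjective f) (hker : f.ker = Subgroup.center G)
    (α : MulAut H) (hα : ¬ p ∣ orderOf α) (Q : Sylow p H) (hfix : ∀ x ∈ Q, α x = x) : α = 1 := by
  have : Finite H := Finite.of_surjective f hf
  refine (D.map f hf (hker.le.trans hZB)).aut_eq_one_of_sylow ?_ α hα Q hfix
  intro h hh
  obtain ⟨g, rfl⟩ := hf h
  -- `g` centralises `U`
  have hg : ∀ u ∈ D.U, g * u = u * g := by
    intro u hu
    have h1 : f g * f u = f u * f g := hh (f u) (Subgroup.mem_map_of_mem f hu)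
    set z := g * u * g⁻¹ * u⁻¹ with hz
    have hzc : z ∈ Subgroup.center G := by
      rw [← hker, MonoidHom.mem_ker, hz, map_mul, map_mul, map_mul, map_inv, map_inv, h1]
      group
    have hgu : g * u * g⁻¹ = z * u := by rw [hz]; group
    obtain ⟨k, hk⟩ := D.pElement_of_mem_U hu
    have hzu : z * u = u * z := (Subgroup.mem_center_iff.1 hzc u).symm
    have hzk : z ^ p ^ k = 1 := by
      have h2 : (g * u * g⁻¹) ^ p ^ k = 1 := conj_pow_eq_one hk
      rw [hgu, (Commute.mul_pow hzu), hk, mul_one] at h2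
      exact h2
    -- `z` is a `p`-element of `B`, hence of `U`
    have hzU : z ∈ D.U := D.mem_U_of_pElement (hZB hzc) ⟨k, hzk⟩
    have hz1 : z = 1 := hZU z hzc hzU
    calc g * u = (g * u * g⁻¹) * g := by group
      _ = u * g := by rw [hgu, hz1, one_mul]
  obtain ⟨u, hu, z, hz, rfl⟩ := hcent g hg
  refine ⟨u, hu, ?_⟩
  have : f z = 1 := by rw [← MonoidHom.mem_ker, hker]; exact hz
  rw [map_mul, this, mul_one]

end transfer

end Cfsg.Agent.Lib.Helper68_AutU
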