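/-
S4613, abstract part II.  From a `(B, N)`-pair with root subgroups (`RootDat`) to the data `BDat` of
`Helper68_AutU`, and the final criterion `RootDat.aut_eq_one`: every automorphism of order prime to `p` of
`G / Z(G)` fixing a Sylow `p`-subgroup elementwise is trivial.  A version for the root-subgroup data `RDat` of
`Helper68_StAbs` is included (`aut_eq_one_of_rdat`).
-/
import Mathlib
import Cfsg.Agent.Lib.Helper68_AutU
import Cfsg.Agent.Lib.Helper68_StAbs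

set_option autoImplicit false
set_option linter.unusedSectionVars false

namespace Cfsg.Agent.Lib.Helper68_AutU

open Cfsg Cfsg.Agent.Lib.Helper6_BNPair
open scoped Pointwise

/-- A `(B, N)`-pair `P` together with: the unipotent radical `U` of `B` (normal `p`-subgroup of `B`, of index prime to
`p` in `G`, `B = U (B ∩ N)` with `B ∩ N` a `p'`-group), an indexing `s : ι → G` of the distinguished generators and
root subgroups `X i ≤ U` with
(r1) `B = (B ∩ s_i⁻¹ B s_i) X_i`, (r4) `s_i X_i s_i⁻¹ ⊄ B`, (r5) `s_i (u x u⁻¹) s_i⁻¹ ∈ B` for `u ∈ X_i`, `x ∈ X_j`,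
`j ≠ i`; finally the elements of `B ∩ N` centralising `U` are central and `Z(G) ∩ U = 1`. -/
structure RootDat {G : Type*} [Group G] (p : ℕ) (P : BNPair G) (ι : Type*) where
  s : ι → G
  range_s : Set.range s = P.S
  U : Subgroup G
  X : ι → Subgroup G
  U_le : U ≤ P.B
  U_normal : ∀ b ∈ P.B, ∀ u ∈ U, b * u * b⁻¹ ∈ U
  U_pgroup : IsPGroup p U
  U_index : ¬ p ∣ U.index
  BUT : ∀ b ∈ P.B, ∃ u ∈ U, ∃ t ∈ P.B ⊓ P.N, b = u * t
  T_p' : ¬ p ∣ Nat.card ↥(P.B ⊓ P.N)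
  X_le : ∀ i, X i ≤ U
  r1 : ∀ i, ∀ b ∈ P.B, ∃ u ∈ X i, s i * (b * u⁻¹) * (s i)⁻¹ ∈ P.B
  r4 : ∀ i, ∃ u ∈ X i, s i * u * (s i)⁻¹ ∉ P.B
  r5 : ∀ i j, j ≠ i → ∀ u ∈ X i, ∀ x ∈ X j, s i * (u * x * u⁻¹) * (s i)⁻¹ ∈ P.B
  torus_cent : ∀ t ∈ P.B ⊓ P.N, (∀ u ∈ U, t * u = u * t) → t ∈ Subgroup.center G
  center_U : ∀ z ∈ Subgroup.center G, z ∈ U → z = 1

section root

variable {G : Type*} [Group G] {p : ℕ} [Fact p.Prime] {ι : Type*} {P : BNPair G} (R : RootDat p P ι)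

theorem RootDat.s_mem (i : ι) : R.s i ∈ P.S := by
  rw [← R.range_s]; exact ⟨i, rfl⟩

theorem RootDat.par_eq (i : ι) : P.parabolic {R.s i} = P.B ⊔ Subgroup.closure {R.s i} := rfl

theorem RootDat.s_mem_par (i : ι) : R.s i ∈ P.parabolic {R.s i} :=
  closure_le_parabolic P _ (Subgroup.subset_closure rfl)

/-- `B s_i ⊆ U s_i B` -/
theorem RootDat.cell (i : ι) {b : G} (hb : b ∈ P.B) : ∃ u ∈ R.U, ∃ b' ∈ P.B, b * R.s i = u * R.s i * b' := by
  obtain ⟨u, hu, t, ht, rfl⟩ := R.BUT b hb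
  have hsN : (R.s i)⁻¹ ∈ P.N := P.N.inv_mem (P.subset (R.s_mem i))
  have h1 := P.conj_mem _ hsN t ht
  rw [inv_inv] at h1
  exact ⟨u, hu, _, h1, by group⟩

/-- elements of `P_i` outside `B` lie in `U s_i B` -/
theorem RootDat.rank1 (i : ι) {g : G} (hg : g ∈ P.parabolic {R.s i}) :
    g ∈ P.B ∨ ∃ u ∈ R.U, ∃ b ∈ P.B, g = u * R.s i * b := by
  rcases (mem_parabolic_singleton_iff P (R.s_mem i) g).1 hg with h | h
  · exact Or.inl h
  · right
    obtain ⟨x, hx, y, hy, rfl⟩ := (mem_C P).1 h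
    obtain ⟨u, hu, b', hb', e⟩ := R.cell i hx
    exact ⟨u, hu, b' * y, P.B.mul_mem hb' hy, by rw [e]; group⟩

/-- the largest subgroup of `U` all of whose `P_i`-conjugates lie in `B` -/
def RootDat.V (i : ι) : Subgroup G where
  carrier := {v | v ∈ R.U ∧ ∀ g ∈ P.parabolic {R.s i}, g⁻¹ * v * g ∈ P.B}
  one_mem' := ⟨R.U.one_mem, fun g _ => by
    have e : g⁻¹ * 1 * g = 1 := by group
    rw [e]; exact P.B.one_mem⟩
  mul_mem' := by
    rintro v w ⟨hv, hv'⟩ ⟨hw, hw'⟩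
    refine ⟨R.U.mul_mem hv hw, fun g hg => ?_⟩
    have e : g⁻¹ * (v * w) * g = (g⁻¹ * v * g) * (g⁻¹ * w * g) := by group
    rw [e]; exact P.B.mul_mem (hv' g hg) (hw' g hg)
  inv_mem' := by
    rintro v ⟨hv, hv'⟩
    refine ⟨R.U.inv_mem hv, fun g hg => ?_⟩
    have e : g⁻¹ * v⁻¹ * g = (g⁻¹ * v * g)⁻¹ := by group
    rw [e]; exact P.B.inv_mem (hv' g hg)

theorem RootDat.mem_V {i : ι} {v : G} :
    v ∈ R.V i ↔ v ∈ R.U ∧ ∀ g ∈ P.parabolic {R.s i}, g⁻¹ * v * g ∈ P.B := Iff.rfl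

/-- the root subgroup `X j` lies in `V i` for `j ≠ i` -/
theorem RootDat.X_le_V {i j : ι} (hji : j ≠ i) : R.X j ≤ R.V i := by
  intro x hx
  refine ⟨R.X_le j hx, fun g hg => ?_⟩
  have hginv : g⁻¹ ∈ P.parabolic {R.s i} := Subgroup.inv_mem _ hg
  rcases (mem_parabolic_singleton_iff P (R.s_mem i) g⁻¹).1 hginv with h | h
  · exact P.B.mul_mem (P.B.mul_mem h (R.U_le (R.X_le j hx))) (by
      have := P.B.inv_mem h; rwa [inv_inv] at this)
  · obtain ⟨b₁, hb₁, b₂, hb₂, e⟩ := (mem_C P).1 h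
    obtain ⟨u, hu, hc⟩ := R.r1 i b₂ hb₂
    have hg' : g = (b₁ * R.s i * b₂)⁻¹ := by rw [← e, inv_inv]
    have e2 : g⁻¹ * x * g = b₁ * ((R.s i * (b₂ * u⁻¹) * (R.s i)⁻¹) *
        (R.s i * (u * x * u⁻¹) * (R.s i)⁻¹) * (R.s i * (b₂ * u⁻¹) * (R.s i)⁻¹)⁻¹) * b₁⁻¹ := by
      rw [hg']; group
    rw [e2]
    exact P.B.mul_mem (P.B.mul_mem hb₁ (P.B.mul_mem (P.B.mul_mem hc (R.r5 i j hji u hu x hx))
      (P.B.inv_mem hc))) (P.B.inv_mem hb₁)

/-- the data of `Helper68_AutU` -/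
def RootDat.toBDat [Finite G] : BDat p G ι where
  B := P.B
  U := R.U
  s := R.s
  V := R.V
  overgroup := by
    intro M hM
    have h1 := subgroup_eq_parabolic P hM
    have h2 : P.S ∩ (M : Set G) ⊆ R.s '' {i | R.s i ∈ M} := by
      rintro x ⟨hxS, hxM⟩
      rw [← R.range_s] at hxS
      obtain ⟨i, rfl⟩ := hxS
      exact ⟨i, hxM, rfl⟩
    calc M = P.parabolic (P.S ∩ (M : Set G)) := h1
      _ ≤ P.B ⊔ Subgroup.closure (R.s '' {i | R.s i ∈ M}) :=
        sup_le_sup_left (Subgroup.closure_mono h2) _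
  rank1 := fun i g hg => R.rank1 i hg
  s_not_mem := fun i => not_mem_B_of_mem_S P (R.s_mem i)
  U_le := R.U_le
  U_normal := R.U_normal
  U_pgroup := R.U_pgroup
  U_index := R.U_index
  V_le := fun i v hv => hv.1
  V_normB := by
    intro i b hb v hv
    refine ⟨R.U_normal b hb v hv.1, fun g hg => ?_⟩
    have e : g⁻¹ * (b * v * b⁻¹) * g = (b⁻¹ * g)⁻¹ * v * (b⁻¹ * g) := by group
    rw [e]
    exact hv.2 _ (Subgroup.mul_mem _ (B_le_parabolic P _ (P.B.inv_mem hb)) hg)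
  V_norms := by
    intro i v hv
    have hconj : ∀ g ∈ P.parabolic {R.s i}, g⁻¹ * (R.s i * v * (R.s i)⁻¹) * g ∈ P.B := by
      intro g hg
      have e : g⁻¹ * (R.s i * v * (R.s i)⁻¹) * g = ((R.s i)⁻¹ * g)⁻¹ * v * ((R.s i)⁻¹ * g) := by group
      rw [e]
      exact hv.2 _ (Subgroup.mul_mem _ (Subgroup.inv_mem _ (R.s_mem_par i)) hg)
    refine ⟨?_, hconj⟩
    have hB : R.s i * v * (R.s i)⁻¹ ∈ P.B := by
      have := hconj 1 (Subgroup.one_mem _)
      rwa [inv_one, one_mul, mul_one] at this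
    obtain ⟨k, hk⟩ := R.U_pgroup ⟨v, hv.1⟩
    have hk' : v ^ p ^ k = 1 := by simpa using congrArg Subtype.val hk
    exact mem_of_pElement_of_normal R.U_normal R.U_pgroup R.U_index hB ⟨k, conj_pow_eq_one hk'⟩
  V_ne := by
    intro i j hji
    obtain ⟨x, hx, hnot⟩ := R.r4 j
    exact ⟨x, R.X_le_V hji hx, hnot⟩

/-- `N_G(U) ≤ B` -/
theorem RootDat.normalizer_le [Finite G] : Subgroup.normalizer (R.U : Set G) ≤ P.B := by
  have hB : P.B ≤ Subgroup.normalizer (R.U : Set G) := by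
    intro b hb
    rw [Subgroup.mem_normalizer_iff]
    intro h
    refine ⟨R.U_normal b hb h, fun hh => ?_⟩
    have := R.U_normal b⁻¹ (P.B.inv_mem hb) _ hh
    have e : b⁻¹ * (b * h * b⁻¹) * b⁻¹⁻¹ = h := by group
    rwa [e] at this
  have h1 := subgroup_eq_parabolic P hB
  have h2 : P.S ∩ ((Subgroup.normalizer (R.U : Set G) : Subgroup G) : Set G) = ∅ := by
    rw [Set.eq_empty_iff_forall_notMem]
    rintro s ⟨hsS, hsn⟩
    obtain ⟨b, hb, hnot⟩ := exists_not_mem_B P hsS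
    apply hnot
    obtain ⟨u, hu, t, ht, rfl⟩ := R.BUT b hb
    have h3 : s * u * s⁻¹ ∈ R.U := (Subgroup.mem_normalizer_iff.1 hsn u).1 hu
    have h4 : s * t * s⁻¹ ∈ P.B := P.conj_mem s (P.subset hsS) t ht
    have e : s * (u * t) * s = (s * u * s⁻¹) * (s * t * s⁻¹) * (s * s) := by group
    rw [e]
    exact P.B.mul_mem (P.B.mul_mem (R.U_le h3) h4) (P.sq_mem s hsS)
  rw [h2] at h1
  rw [h1]
  unfold BNPair.parabolic
  rw [Subgroup.closure_empty, sup_bot_eq]

include R in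
theorem RootDat.center_le_B [Finite G] : Subgroup.center G ≤ P.B := by
  intro z hz
  apply R.normalizer_le
  rw [Subgroup.mem_normalizer_iff]
  intro h
  have e : z * h * z⁻¹ = h := by
    rw [(Subgroup.mem_center_iff.1 hz h).symm]; group
  rw [e]

/-- `C_G(U) ≤ U Z(G)` -/
theorem RootDat.cent [Finite G] (g : G) (hg : ∀ u ∈ R.U, g * u = u * g) :
    ∃ u ∈ R.U, ∃ z ∈ Subgroup.center G, g = u * z := by
  have hp : p.Prime := Fact.out
  have hgB : g ∈ P.B := by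
    apply R.normalizer_le
    rw [Subgroup.mem_normalizer_iff]
    intro h
    constructor
    · intro hh
      have e : g * h * g⁻¹ = h := by rw [hg h hh]; group
      rw [e]; exact hh
    · intro hh
      have h2 := hg _ hh
      -- `g * (g h g⁻¹) = (g h g⁻¹) * g` gives `g h = h g`, so `g h g⁻¹ = h`
      have h3 : g * h = h * g := by
        have : g * (g * h * g⁻¹) * g = g * h * g⁻¹ * g * g := by rw [h2]
        have e1 : g * (g * h * g⁻¹) * g = g * (g * h) := by group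
        have e2 : g * h * g⁻¹ * g * g = g * (h * g) := by group
        rw [e1, e2] at this
        exact mul_left_cancel this
      have e : g * h * g⁻¹ = h := by rw [h3]; group
      rwa [e] at hh
  obtain ⟨u, hu, t, ht, rfl⟩ := R.BUT g hgB
  refine ⟨u, hu, t, ?_, rfl⟩
  apply R.torus_cent t ht
  -- `t` commutes with `u`
  have htu : Commute u t := by
    have h1 := hg u hu
    -- u * t * u = u * (u * t)
    show u * t = t * u
    have : u * (t * u) = u * (u * t) := by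
      calc u * (t * u) = u * t * u := by group
        _ = u * (u * t) := h1
    exact (mul_left_cancel this).symm
  obtain ⟨k, hk⟩ := R.U_pgroup ⟨u, hu⟩
  have hk' : u ^ p ^ k = 1 := by simpa using congrArg Subtype.val hk
  have hpow : (u * t) ^ p ^ k = t ^ p ^ k := by
    rw [htu.mul_pow, hk', one_mul]
  have hcop : Nat.Coprime (p ^ k) (orderOf t) := by
    apply Nat.Coprime.pow_left
    rw [Nat.Prime.coprime_iff_not_dvd hp]
    intro hdvd
    exact R.T_p' (dvd_trans hdvd (Subgroup.orderOf_dvd_natCard _ ht))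
  obtain ⟨m, hm⟩ := exists_pow_eq_self_of_coprime hcop
  intro v hv
  have hcomm : Commute (u * t) v := hg v hv
  have : Commute (((u * t) ^ p ^ k) ^ m) v := (hcomm.pow_left _).pow_left _
  rw [hpow, hm] at this
  exact this

include R in
/-- **Criterion.** For a group with `RootDat`, every automorphism of order prime to `p` of `G / Z(G)` (given as
a surjection `f : G → H` with kernel `Z(G)`) that fixes a Sylow `p`-subgroup of `H` elementwise is trivial. -/
theorem RootDat.aut_eq_one [Finite G] {H : Type*} [Group H] (f : G →* H)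
    (hf : Function.Surjective f) (hker : f.ker = Subgroup.center G)
    (α : MulAut H) (hα : ¬ p ∣ orderOf α) (Q : Sylow p H) (hfix : ∀ x ∈ Q, α x = x) : α = 1 :=
  R.toBDat.aut_eq_one_of_surjective R.center_le_B R.center_U R.cent f hf hker α hα Q hfix

/-- `Z(G) ∩ U = 1` from an element `g₀` with `B ∩ g₀ B g₀⁻¹ ≤ N` -/
theorem center_U_of_opp [Finite G] (P : BNPair G) (U : Subgroup G) (hU : IsPGroup p U) (hUB : U ≤ P.B)
    (hT : ¬ p ∣ Nat.card ↥(P.B ⊓ P.N))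
    (g₀ : G) (hg₀ : ∀ b ∈ P.B, g₀⁻¹ * b * g₀ ∈ P.B → b ∈ P.N) :
    ∀ z ∈ Subgroup.center G, z ∈ U → z = 1 := by
  intro z hz hzU
  have hp : p.Prime := Fact.out
  have hzB : z ∈ P.B := hUB hzU
  have e : g₀⁻¹ * z * g₀ = z := by
    rw [mul_assoc, (Subgroup.mem_center_iff.1 hz g₀).symm]; group
  have hzN : z ∈ P.N := hg₀ z hzB (by rw [e]; exact hzB)
  have h1 : orderOf z ∣ Nat.card ↥(P.B ⊓ P.N) := Subgroup.orderOf_dvd_natCard _ ⟨hzB, hzN⟩
  obtain ⟨k, hk⟩ := hU ⟨z, hzU⟩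
  have hk' : z ^ p ^ k = 1 := by simpa using congrArg Subtype.val hk
  have h2 : orderOf z ∣ p ^ k := orderOf_dvd_iff_pow_eq_one.2 hk'
  obtain ⟨j, -, hj⟩ := (Nat.dvd_prime_pow hp).1 h2
  cases j with
  | zero => rw [pow_zero] at hj; exact orderOf_eq_one_iff.1 hj
  | succ j =>
    exfalso
    apply hT
    rw [hj] at h1
    exact dvd_trans (dvd_pow_self p (Nat.succ_ne_zero j)) h1

end root

section rdat

open Cfsg.Agent.Lib.Helper68_StAbs

variable {G : Type*} [Group G] {p : ℕ} [Fact p.Prime] {r : ℕ}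

/-- the criterion for the root-subgroup data `RDat` of `Helper68_StAbs` -/
theorem aut_eq_one_of_rdat [Finite G] (D : RDat G r) (U : Subgroup G)
    (U_le : U ≤ D.B) (U_normal : ∀ b ∈ D.B, ∀ u ∈ U, b * u * b⁻¹ ∈ U)
    (U_pgroup : IsPGroup p U) (U_index : ¬ p ∣ U.index)
    (BUT : ∀ b ∈ D.B, ∃ u ∈ U, ∃ t ∈ D.B ⊓ D.N, b = u * t)
    (T_p' : ¬ p ∣ Nat.card ↥(D.B ⊓ D.N))
    (X_le : ∀ i, D.U i ≤ U)
    (r5 : ∀ i j, j ≠ i → ∀ u ∈ D.U i, ∀ x ∈ D.U j, D.s i * (u * x * u⁻¹) * (D.s i)⁻¹ ∈ D.B)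
    (torus_cent : ∀ t ∈ D.B ⊓ D.N, (∀ u ∈ U, t * u = u * t) → t ∈ Subgroup.center G)
    (center_U : ∀ z ∈ Subgroup.center G, z ∈ U → z = 1)
    {H : Type*} [Group H] (f : G →* H)
    (hf : Function.Surjective f) (hker : f.ker = Subgroup.center G)
    (α : MulAut H) (hα : ¬ p ∣ orderOf α) (Q : Sylow p H) (hfix : ∀ x ∈ Q, α x = x) : α = 1 := by
  let R : RootDat p (bnPair D) (Fin r) :=
    { s := D.s
      range_s := rfl
      U := U
      X := D.U
      U_le := U_le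
      U_normal := U_normal
      U_pgroup := U_pgroup
      U_index := U_index
      BUT := BUT
      T_p' := T_p'
      X_le := X_le
      r1 := D.r1
      r4 := D.r4
      r5 := r5
      torus_cent := torus_cent
      center_U := center_U }
  exact R.aut_eq_one f hf hker α hα Q hfix

end rdat

end Cfsg.Agent.Lib.Helper68_AutU
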