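/-
S4613: transport of the statement "every automorphism of order prime to `p` fixing a Sylow `p`-subgroup elementwise
is trivial" along an isomorphism of groups.
-/
import Mathlib

set_option autoImplicit false

namespace Cfsg.Agent.Lib.Helper68_AutU

/-- the property in question -/
def AutUTrivial (p : ℕ) (G : Type*) [Group G] : Prop :=
  ∀ α : MulAut G, ¬ p ∣ orderOf α → ∀ Q : Sylow p G, (∀ x ∈ Q, α x = x) → α = 1

theorem autUTrivial_of_equiv {G G₀ : Type*} [Group G] [Group G₀] {p : ℕ} (e : G ≃* G₀)
    (h₀ : AutUTrivial p G₀) : AutUTrivial p G := by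
  intro α hα Q hfix
  have h1 : MulAut.congr e α = 1 := by
    apply h₀ (MulAut.congr e α) (by rw [MulEquiv.orderOf_eq]; exact hα)
      (Q.comapOfInjective e.symm.toMonoidHom e.symm.injective (by
        intro x _
        exact ⟨e x, e.symm_apply_apply x⟩))
    intro y hy
    have hy' : e.symm y ∈ Q := hy
    show e (α (e.symm y)) = y
    rw [hfix _ hy', e.apply_symm_apply]
  have h2 : MulAut.congr e α = MulAut.congr e 1 := by rw [h1, map_one]
  exact (MulAut.congr e).injective h2

end Cfsg.Agent.Lib.Helper68_AutU
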