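import Mathlib
import Cfsg.Agent.Lib.Helper44_Refl
import Cfsg.Agent.Lib.Helper14_CartanDieudonne

set_option autoImplicit false

/-!
The Dickson invariant in characteristic two (helper14): for a quadratic form `Q` on `F^ι` with
non-degenerate polar form over a field with `2 = 0`, there is a homomorphism
`δ : O(Q) → (F, +)` taking the value `1` on every reflection (orthogonal transvection).

Matrix construction: choose `M` with `Q x = xᵀ M x`, `G = M + Mᵀ` (Gram matrix of the polar form),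
`K = G⁻¹ M G⁻¹` (so `K + Kᵀ = G⁻¹`) and put `δ(g) = tr (K (gᵀ M g - M))`.
-/

namespace Cfsg.Agent.Lib.Helper14_Dickson

open Cfsg Matrix Cfsg.Agent.Lib.Helper44_Refl Cfsg.Agent.Lib.Helper14_CartanDieudonne

variable {ι : Type} [Fintype ι] [DecidableEq ι] {F : Type*} [Field F]

/-- a matrix representing the quadratic form -/
theorem exists_matrix (Q : QuadraticForm F (ι → F)) :
    ∃ M : Matrix ι ι F, ∀ x, Q x = x ⬝ᵥ M *ᵥ x := by
  obtain ⟨β, hβ⟩ := LinearMap.BilinMap.toQuadraticMap_surjective Q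
  refine ⟨LinearMap.BilinForm.toMatrix' β, fun x => ?_⟩
  rw [← hβ, LinearMap.BilinMap.toQuadraticMap_apply]
  conv_lhs => rw [← Matrix.toBilin'_toMatrix' β]
  rw [Matrix.toBilin'_apply']

omit [DecidableEq ι] in
theorem dot_transpose (M : Matrix ι ι F) (x y : ι → F) : x ⬝ᵥ Mᵀ *ᵥ y = y ⬝ᵥ M *ᵥ x := by
  rw [Matrix.mulVec_transpose, dotProduct_comm, Matrix.dotProduct_mulVec]

omit [DecidableEq ι] in
theorem polar_eq {Q : QuadraticForm F (ι → F)} {M : Matrix ι ι F} (hM : ∀ x, Q x = x ⬝ᵥ M *ᵥ x)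
    (x y : ι → F) : QuadraticMap.polar (⇑Q) x y = x ⬝ᵥ (M + Mᵀ) *ᵥ y := by
  rw [QuadraticMap.polar, hM, hM, hM, Matrix.add_mulVec, dotProduct_add, dot_transpose]
  simp only [Matrix.mulVec_add, add_dotProduct, dotProduct_add]
  ring

/-- alternating matrices: `xᵀ N x = 0` for all `x` -/
def Alt (N : Matrix ι ι F) : Prop := ∀ x : ι → F, x ⬝ᵥ N *ᵥ x = 0

theorem Alt.diag {N : Matrix ι ι F} (h : Alt N) (i : ι) : N i i = 0 := by
  have := h (Pi.single i 1)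
  simpa using this

theorem Alt.anti {N : Matrix ι ι F} (h : Alt N) (i j : ι) : N i j + N j i = 0 := by
  have := h (Pi.single i 1 + Pi.single j 1)
  simp only [Matrix.mulVec_add, add_dotProduct, dotProduct_add, Matrix.mulVec_single,
    MulOpposite.op_one, one_smul, single_dotProduct, one_mul, Matrix.col_apply] at this
  rw [h.diag i, h.diag j] at this
  linear_combination this

/-- the trace of a symmetric matrix times an alternating matrix vanishes (any characteristic) -/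
theorem trace_symm_mul_alt {Δ N : Matrix ι ι F} (hΔ : Δᵀ = Δ) (hN : Alt N) :
    Matrix.trace (Δ * N) = 0 := by
  have hsym : ∀ i j, Δ j i = Δ i j := fun i j => by
    have := congrFun (congrFun hΔ i) j
    simpa using this
  simp only [Matrix.trace, Matrix.diag_apply, Matrix.mul_apply]
  rw [← Finset.sum_product']
  apply Finset.sum_involution (fun p _ => (p.2, p.1))
  · intro p _
    show Δ p.1 p.2 * N p.2 p.1 + Δ p.2 p.1 * N p.1 p.2 = 0
    rw [hsym p.1 p.2]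
    have := hN.anti p.1 p.2
    linear_combination Δ p.1 p.2 * this
  · intro p _ hne heq
    apply hne
    have h12 : p.2 = p.1 := congrArg Prod.fst heq
    show Δ p.1 p.2 * N p.2 p.1 = 0
    rw [h12, hN.diag, mul_zero]
  · intro p _
    exact Finset.mem_univ _
  · intro p _
    rfl

omit [DecidableEq ι] in
/-- for an isometry `g`, the matrix `gᵀ M g - M` is alternating -/
theorem alt_of_isIsom {Q : QuadraticForm F (ι → F)} {M : Matrix ι ι F}
    (hM : ∀ x, Q x = x ⬝ᵥ M *ᵥ x) {g : Matrix ι ι F} (hg : IsIsom Q g) :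
    Alt (gᵀ * M * g - M) := by
  intro x
  have h1 : x ⬝ᵥ (gᵀ * M * g) *ᵥ x = (g *ᵥ x) ⬝ᵥ M *ᵥ (g *ᵥ x) := by
    rw [← Matrix.mulVec_mulVec, ← Matrix.mulVec_mulVec, dot_transpose, dotProduct_comm]
  rw [Matrix.sub_mulVec, dotProduct_sub, h1, ← hM, ← hM, hg x, sub_self]

section main

variable {Q : QuadraticForm F (ι → F)} {M : Matrix ι ι F}

theorem gram_isUnit (hQ : (QuadraticMap.polarBilin Q).Nondegenerate)
    (hM : ∀ x, Q x = x ⬝ᵥ M *ᵥ x) : IsUnit (M + Mᵀ) := by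
  rw [← Matrix.mulVec_injective_iff_isUnit]
  intro y y' hyy'
  have h1 : (M + Mᵀ) *ᵥ (y - y') = 0 := by rw [Matrix.mulVec_sub, hyy', sub_self]
  have h0 : y - y' = 0 := by
    apply hQ.2
    intro x
    rw [QuadraticMap.polarBilin_apply_apply, polar_eq hM, h1, dotProduct_zero]
  exact sub_eq_zero.mp h0

/-- the Dickson functional on matrices -/
noncomputable def dk (M g : Matrix ι ι F) : F :=
  Matrix.trace ((M + Mᵀ)⁻¹ * M * (M + Mᵀ)⁻¹ * (gᵀ * M * g - M))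

omit [Fintype ι] [DecidableEq ι] in
theorem gram_transpose (M : Matrix ι ι F) : (M + Mᵀ)ᵀ = M + Mᵀ := by
  rw [Matrix.transpose_add, Matrix.transpose_transpose, add_comm]

theorem K_add_transpose (hQ : (QuadraticMap.polarBilin Q).Nondegenerate)
    (hM : ∀ x, Q x = x ⬝ᵥ M *ᵥ x) :
    (M + Mᵀ)⁻¹ * M * (M + Mᵀ)⁻¹ + ((M + Mᵀ)⁻¹ * M * (M + Mᵀ)⁻¹)ᵀ = (M + Mᵀ)⁻¹ := by
  have hU := gram_isUnit hQ hM
  have hdet : IsUnit (M + Mᵀ).det := (Matrix.isUnit_iff_isUnit_det _).mp hU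
  have hGit : ((M + Mᵀ)⁻¹)ᵀ = (M + Mᵀ)⁻¹ := by
    rw [Matrix.transpose_nonsing_inv, gram_transpose]
  rw [Matrix.transpose_mul, Matrix.transpose_mul, hGit, ← Matrix.mul_assoc]
  have : (M + Mᵀ)⁻¹ * M * (M + Mᵀ)⁻¹ + (M + Mᵀ)⁻¹ * Mᵀ * (M + Mᵀ)⁻¹
      = (M + Mᵀ)⁻¹ * (M + Mᵀ) * (M + Mᵀ)⁻¹ := by
    rw [Matrix.mul_add, Matrix.add_mul]
  rw [this, Matrix.nonsing_inv_mul _ hdet, Matrix.one_mul]

omit [Fintype ι] [DecidableEq ι] in
theorem neg_eq_self_of_two (h2 : (2 : F) = 0) (A : Matrix ι ι F) : -A = A := by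
  have : A + A = 0 := by
    rw [← two_smul F A, h2, zero_smul]
  exact neg_eq_of_add_eq_zero_left this

/-- the Dickson functional is additive on isometries -/
theorem dk_mul (h2 : (2 : F) = 0) (hQ : (QuadraticMap.polarBilin Q).Nondegenerate)
    (hM : ∀ x, Q x = x ⬝ᵥ M *ᵥ x) {g h : Matrix ι ι F} (hg : IsIsom Q g) (hh : IsIsom Q h) :
    dk M (g * h) = dk M g + dk M h := by
  have hU := gram_isUnit hQ hM
  have hdet : IsUnit (M + Mᵀ).det := (Matrix.isUnit_iff_isUnit_det _).mp hU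
  have hKK := K_add_transpose hQ hM
  have hNg := alt_of_isIsom hM hg
  have hNh := alt_of_isIsom hM hh
  unfold dk
  obtain ⟨G, hG⟩ : ∃ G, G = M + Mᵀ := ⟨_, rfl⟩
  rw [← hG] at hdet hKK ⊢
  obtain ⟨K, hK⟩ : ∃ K, K = G⁻¹ * M * G⁻¹ := ⟨_, rfl⟩
  rw [← hK] at hKK ⊢
  obtain ⟨Ng, hNgdef⟩ : ∃ N, N = gᵀ * M * g - M := ⟨_, rfl⟩
  obtain ⟨Nh, hNhdef⟩ : ∃ N, N = hᵀ * M * h - M := ⟨_, rfl⟩
  rw [← hNgdef] at hNg ⊢
  rw [← hNhdef] at hNh ⊢
  have hsplit : (g * h)ᵀ * M * (g * h) - M = hᵀ * Ng * h + Nh := by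
    rw [hNgdef, hNhdef, Matrix.transpose_mul]
    simp only [Matrix.mul_sub, Matrix.sub_mul, Matrix.mul_assoc]
    abel
  -- `h` preserves the Gram matrix
  have hpres : hᵀ * G * h = G := by
    have h1 : Nh + Nhᵀ = 0 := by
      ext i j
      simpa using hNh.anti i j
    have h3 : Nh + Nhᵀ = hᵀ * G * h - G := by
      rw [hNhdef, hG]
      simp only [Matrix.transpose_sub, Matrix.transpose_mul, Matrix.transpose_transpose,
        Matrix.mul_add, Matrix.add_mul, Matrix.mul_assoc]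
      abel
    rw [h3] at h1
    exact sub_eq_zero.mp h1
  have hinv : h * G⁻¹ * hᵀ = G⁻¹ := by
    have h1 : (G⁻¹ * hᵀ * G) * h = 1 := by
      rw [Matrix.mul_assoc, Matrix.mul_assoc, ← Matrix.mul_assoc hᵀ, hpres,
        Matrix.nonsing_inv_mul _ hdet]
    have h3 : h * (G⁻¹ * hᵀ * G) = 1 := _root_.mul_eq_one_comm.mp h1
    have h4 : h * G⁻¹ * hᵀ * G = 1 := by
      rw [← h3]; simp only [Matrix.mul_assoc]
    calc h * G⁻¹ * hᵀ = h * G⁻¹ * hᵀ * (G * G⁻¹) := by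
          rw [Matrix.mul_nonsing_inv _ hdet, Matrix.mul_one]
      _ = (h * G⁻¹ * hᵀ * G) * G⁻¹ := by simp only [Matrix.mul_assoc]
      _ = G⁻¹ := by rw [h4, Matrix.one_mul]
  obtain ⟨Δ, hΔ⟩ : ∃ Δ, Δ = h * K * hᵀ - K := ⟨_, rfl⟩
  have hΔsymm : Δᵀ = Δ := by
    have h1 : Δ + Δᵀ = 0 := by
      have : Δ + Δᵀ = h * (K + Kᵀ) * hᵀ - (K + Kᵀ) := by
        rw [hΔ]
        simp only [Matrix.transpose_sub, Matrix.transpose_mul, Matrix.transpose_transpose,
          Matrix.mul_add, Matrix.add_mul, Matrix.mul_assoc]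
        abel
      rw [this, hKK, hinv, sub_self]
    have h3 : Δᵀ = -Δ := (neg_eq_of_add_eq_zero_right h1).symm
    rw [h3, neg_eq_self_of_two h2]
  have htr : Matrix.trace (Δ * Ng) = 0 := trace_symm_mul_alt hΔsymm hNg
  rw [hsplit, Matrix.mul_add, Matrix.trace_add]
  congr 1
  have h5 : K * (hᵀ * Ng * h) = (K * hᵀ * Ng) * h := by simp only [Matrix.mul_assoc]
  rw [h5, Matrix.trace_mul_comm]
  have h6 : h * (K * hᵀ * Ng) = (Δ + K) * Ng := by
    rw [hΔ]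
    simp only [Matrix.mul_assoc, sub_add_cancel]
  rw [h6, Matrix.add_mul, Matrix.trace_add, htr, zero_add]

theorem polarVec_eq (hM : ∀ x, Q x = x ⬝ᵥ M *ᵥ x) (v : ι → F) :
    Cfsg.polarVec (⇑Q) v = (M + Mᵀ) *ᵥ v := by
  funext j
  rw [Cfsg.polarVec, polar_eq hM]
  have : (M + Mᵀ) *ᵥ Pi.single j 1 = (M + Mᵀ)ᵀ *ᵥ Pi.single j 1 := by rw [gram_transpose]
  rw [this, dot_transpose, single_dotProduct, one_mul]

/-- the Dickson functional takes the value one on reflections -/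
theorem dk_refl (h2 : (2 : F) = 0) (hQ : (QuadraticMap.polarBilin Q).Nondegenerate)
    (hM : ∀ x, Q x = x ⬝ᵥ M *ᵥ x) {v : ι → F} (hv : Q v ≠ 0) :
    dk M (Cfsg.reflectionMatrix (⇑Q) v) = 1 := by
  have hU := gram_isUnit hQ hM
  have hdet : IsUnit (M + Mᵀ).det := (Matrix.isUnit_iff_isUnit_det _).mp hU
  have hKK := K_add_transpose hQ hM
  have hw := polarVec_eq hM v
  unfold dk Cfsg.reflectionMatrix
  obtain ⟨G, hG⟩ : ∃ G, G = M + Mᵀ := ⟨_, rfl⟩
  rw [← hG] at hdet hKK hw ⊢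
  obtain ⟨K, hK⟩ : ∃ K, K = G⁻¹ * M * G⁻¹ := ⟨_, rfl⟩
  rw [← hK] at hKK ⊢
  obtain ⟨w, hwdef⟩ : ∃ w, w = Cfsg.polarVec (⇑Q) v := ⟨_, rfl⟩
  rw [← hwdef] at hw ⊢
  obtain ⟨a, ha⟩ : ∃ a, a = M *ᵥ v := ⟨_, rfl⟩
  obtain ⟨a', ha'⟩ : ∃ a', a' = Mᵀ *ᵥ v := ⟨_, rfl⟩
  have hwa : w = a + a' := by rw [hw, hG, Matrix.add_mulVec, ha, ha']
  obtain ⟨q, hq⟩ : ∃ q, q = Q v := ⟨_, rfl⟩
  rw [← hq] at hv ⊢
  have hqa : v ⬝ᵥ a = q := by rw [ha, hq, hM]
  -- the matrix `tᵀ M t - M`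
  have hN : (1 - q⁻¹ • Matrix.vecMulVec v w)ᵀ * M * (1 - q⁻¹ • Matrix.vecMulVec v w) - M
      = q⁻¹ • (Matrix.vecMulVec w a - Matrix.vecMulVec a w) := by
    have e1 : (1 - q⁻¹ • Matrix.vecMulVec v w)ᵀ = 1 - q⁻¹ • Matrix.vecMulVec w v := by
      rw [Matrix.transpose_sub, Matrix.transpose_one, Matrix.transpose_smul,
        Matrix.transpose_vecMulVec]
    have e2 : Matrix.vecMulVec w v * M = Matrix.vecMulVec w a' := by
      rw [Matrix.vecMulVec_mul, ha', Matrix.mulVec_transpose]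
    have e3 : M * Matrix.vecMulVec v w = Matrix.vecMulVec a w := by
      rw [Matrix.mul_vecMulVec, ha]
    have e4 : Matrix.vecMulVec w v * M * Matrix.vecMulVec v w = q • Matrix.vecMulVec w w := by
      rw [Matrix.mul_assoc, e3, Matrix.vecMulVec_mul_vecMulVec, hqa]
      ext i j
      simp [Matrix.vecMulVec_apply]
      ring
    rw [e1]
    simp only [Matrix.sub_mul, Matrix.mul_sub, Matrix.one_mul, Matrix.mul_one, Matrix.smul_mul,
      Matrix.mul_smul, e2, e3]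
    rw [show Matrix.vecMulVec w a' * Matrix.vecMulVec v w
      = Matrix.vecMulVec w v * M * Matrix.vecMulVec v w from by rw [e2], e4, hwa]
    ext i j
    simp only [Matrix.sub_apply, Matrix.smul_apply, Matrix.vecMulVec_apply, Pi.add_apply,
      smul_eq_mul]
    field_simp
    ring
  rw [hN, Matrix.mul_smul, Matrix.trace_smul, Matrix.mul_sub, Matrix.trace_sub,
    Matrix.mul_vecMulVec, Matrix.mul_vecMulVec, Matrix.trace_vecMulVec, Matrix.trace_vecMulVec]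
  -- `(K w)·a - (K a)·w = a·(K - Kᵀ) w = a·G⁻¹ w = a·v = q`
  have e5 : K *ᵥ a ⬝ᵥ w = a ⬝ᵥ Kᵀ *ᵥ w := by
    rw [dot_transpose, dotProduct_comm]
  have e6 : Kᵀ = G⁻¹ - K := by rw [← hKK]; abel
  have e7 : G⁻¹ *ᵥ w = v := by
    rw [hw, Matrix.mulVec_mulVec, Matrix.nonsing_inv_mul _ hdet, Matrix.one_mulVec]
  have e8 : K *ᵥ w ⬝ᵥ a = a ⬝ᵥ K *ᵥ w := dotProduct_comm _ _
  rw [e5, e6, Matrix.sub_mulVec, dotProduct_sub, e7, e8]
  have e9 : a ⬝ᵥ v = q := by rw [dotProduct_comm, hqa]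
  rw [e9, smul_eq_mul]
  have e10 : a ⬝ᵥ K *ᵥ w - (q - a ⬝ᵥ K *ᵥ w) = q + 2 * (a ⬝ᵥ K *ᵥ w) - 2 * q := by ring
  rw [e10, h2, zero_mul, zero_mul, add_zero, sub_zero]
  field_simp

end main

/-- **The Dickson homomorphism** in characteristic two: a homomorphism from the isometry group to `(F, +)`
taking the value `1` on every reflection (orthogonal transvection). -/
theorem exists_dickson (h2 : (2 : F) = 0) (Q : QuadraticForm F (ι → F))
    (hQ : (QuadraticMap.polarBilin Q).Nondegenerate) :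
    ∃ δ : ↥(Cfsg.isometryGroup F (⇑Q)) →* Multiplicative F,
      ∀ (v : ι → F) (hv : Q v ≠ 0), δ (refl Q v hv) = Multiplicative.ofAdd 1 := by
  obtain ⟨M, hM⟩ := exists_matrix Q
  refine ⟨MonoidHom.mk' (fun g => Multiplicative.ofAdd
    (dk M ((g : Matrix.GeneralLinearGroup ι F) : Matrix ι ι F))) ?_, ?_⟩
  · intro a b
    show Multiplicative.ofAdd (dk M (((a * b : ↥(Cfsg.isometryGroup F (⇑Q))) :
        Matrix.GeneralLinearGroup ι F) : Matrix ι ι F))
      = Multiplicative.ofAdd (dk M ((a : Matrix.GeneralLinearGroup ι F) : Matrix ι ι F))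
        * Multiplicative.ofAdd (dk M ((b : Matrix.GeneralLinearGroup ι F) : Matrix ι ι F))
    rw [← ofAdd_add]
    congr 1
    exact dk_mul h2 hQ hM (isIsom_of_mem Q a) (isIsom_of_mem Q b)
  · intro v hv
    show Multiplicative.ofAdd (dk M (Cfsg.reflectionMatrix (⇑Q) v)) = Multiplicative.ofAdd 1
    rw [dk_refl h2 hQ hM hv]

end Cfsg.Agent.Lib.Helper14_Dickson
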