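import Mathlib
import Cfsg.Agent.Lib.Helper44_CD2

set_option autoImplicit false

/-!
Characteristic two: `Ω(Q) = [O(Q), O(Q)]` consists exactly of the products of an even number of reflections
(orthogonal transvections), for `Q` with non-degenerate polar form over a finite field of characteristic two,
dimension four over the field with two elements excluded (helper44).
-/

namespace Cfsg.Agent.Lib.Helper44_Omega2

open Cfsg Matrix Module Cfsg.Agent.Lib.Helper44_Orth Cfsg.Agent.Lib.Helper44_Refl
  Cfsg.Agent.Lib.Helper44_Spinor Cfsg.Agent.Lib.Helper44_ReflProd Cfsg.Agent.Lib.Helper44_Eichler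
  Cfsg.Agent.Lib.Helper14_CartanDieudonne Cfsg.Agent.Lib.Helper14_NegOne Cfsg.Agent.Lib.Helper44_CD2

variable {ι : Type} [Fintype ι] [DecidableEq ι] {F : Type*} [Field F]

omit [DecidableEq ι] in
theorem top_nondeg (Q : QuadraticForm F (ι → F)) (hQ : (QuadraticMap.polarBilin Q).Nondegenerate) :
    (⊤ : Submodule F (ι → F)) ⊓ orth Q ⊤ = ⊥ := by
  rw [orth, LinearMap.BilinForm.orthogonal_top_eq_bot hQ, inf_bot_eq]

omit [DecidableEq ι] in
/-- A vector pairing non-trivially with two given non-zero vectors. -/
theorem exists_both_ne_zero (Q : QuadraticForm F (ι → F))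
    (hQ : (QuadraticMap.polarBilin Q).Nondegenerate) {u v : ι → F} (hu : u ≠ 0) (hv : v ≠ 0) :
    ∃ x, QuadraticMap.polar (⇑Q) u x ≠ 0 ∧ QuadraticMap.polar (⇑Q) v x ≠ 0 := by
  obtain ⟨x₁, -, hx₁⟩ := exists_polar_ne_zero Q (top_nondeg Q hQ) (Submodule.mem_top (x := u)) hu
  obtain ⟨x₂, -, hx₂⟩ := exists_polar_ne_zero Q (top_nondeg Q hQ) (Submodule.mem_top (x := v)) hv
  by_cases c1 : QuadraticMap.polar (⇑Q) v x₁ ≠ 0
  · exact ⟨x₁, hx₁, c1⟩
  by_cases c2 : QuadraticMap.polar (⇑Q) u x₂ ≠ 0
  · exact ⟨x₂, c2, hx₂⟩
  rw [not_not] at c1 c2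
  refine ⟨x₁ + x₂, ?_, ?_⟩
  · rw [QuadraticMap.polar_add_right, c2, add_zero]; exact hx₁
  · rw [QuadraticMap.polar_add_right, c1, zero_add]; exact hx₂

omit [Fintype ι] [DecidableEq ι] in
theorem eq_one_of_card_two [Fintype F] (hF : Fintype.card F = 2) {a : F} (ha : a ≠ 0) : a = 1 := by
  by_contra h1
  have : 2 < Fintype.card F :=
    Fintype.two_lt_card_iff.mpr ⟨0, 1, a, zero_ne_one, fun h => ha h.symm, fun h => h1 h.symm⟩
  omega

omit [DecidableEq ι] in
/-- **Connecting vector**: two distinct orthogonal non-singular vectors admit a non-singular vector which is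
orthogonal to neither. -/
theorem exists_connector [Fintype F] (h2 : (2 : F) = 0) (Q : QuadraticForm F (ι → F))
    (hQ : (QuadraticMap.polarBilin Q).Nondegenerate)
    (hex : Fintype.card F ≠ 2 ∨ Fintype.card ι ≠ 4) {u v : ι → F} (hu : Q u ≠ 0) (hv : Q v ≠ 0)
    (hne : u ≠ v) (huv : QuadraticMap.polar (⇑Q) u v = 0) :
    ∃ z, Q z ≠ 0 ∧ QuadraticMap.polar (⇑Q) u z ≠ 0 ∧ QuadraticMap.polar (⇑Q) v z ≠ 0 := by
  classical
  have hu0 : u ≠ 0 := fun h => hu (by rw [h, map_zero])
  have hv0 : v ≠ 0 := fun h => hv (by rw [h, map_zero])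
  obtain ⟨x, hux, hvx⟩ := exists_both_ne_zero Q hQ hu0 hv0
  by_cases hF : Fintype.card F = 2
  · -- the field with two elements, dimension ≠ 4
    have hn : Fintype.card ι ≠ 4 := by
      rcases hex with h | h
      · exact absurd hF h
      · exact h
    have hux1 := eq_one_of_card_two hF hux
    have hvx1 := eq_one_of_card_two hF hvx
    by_contra hcon
    push Not at hcon
    set P := Submodule.span F {u} ⊔ Submodule.span F {v} with hP
    have huP : u ∈ P := Submodule.mem_sup_left (Submodule.mem_span_singleton_self u)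
    have hvP : v ∈ P := Submodule.mem_sup_right (Submodule.mem_span_singleton_self v)
    have hvu : QuadraticMap.polar (⇑Q) v u = 0 := by rw [QuadraticMap.polar_comm]; exact huv
    -- `P` is totally isotropic
    have hPle : P ≤ orth Q P := by
      intro y hy
      rw [mem_orth]
      intro n hn'
      obtain ⟨a, ha, b, hb, rfl⟩ := Submodule.mem_sup.mp hy
      obtain ⟨α, rfl⟩ := Submodule.mem_span_singleton.mp ha
      obtain ⟨β, rfl⟩ := Submodule.mem_span_singleton.mp hb
      obtain ⟨a', ha', b', hb', rfl⟩ := Submodule.mem_sup.mp hn'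
      obtain ⟨α', rfl⟩ := Submodule.mem_span_singleton.mp ha'
      obtain ⟨β', rfl⟩ := Submodule.mem_span_singleton.mp hb'
      simp only [QuadraticMap.polar_add_left, QuadraticMap.polar_add_right,
        QuadraticMap.polar_smul_left, QuadraticMap.polar_smul_right, polar_self_zero h2, huv, hvu,
        smul_zero, add_zero]
    -- all of `x + orth P` is singular
    have hts : ∀ y ∈ orth Q P, Q (x + y) = 0 := by
      intro y hy
      by_contra hQ0
      have h1 : QuadraticMap.polar (⇑Q) u (x + y) ≠ 0 := by
        rw [QuadraticMap.polar_add_right, (mem_orth Q P y).mp hy u huP, add_zero]; exact hux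
      have := hcon (x + y) hQ0 h1
      rw [QuadraticMap.polar_add_right, (mem_orth Q P y).mp hy v hvP, add_zero] at this
      exact hvx this
    have hQx : Q x = 0 := by
      have := hts 0 (Submodule.zero_mem _)
      rwa [add_zero] at this
    have hQy : ∀ y ∈ orth Q P, Q y = - QuadraticMap.polar (⇑Q) x y := by
      intro y hy
      have := hts y hy
      rw [QuadraticMap.map_add (⇑Q) x y, hQx, zero_add] at this
      linear_combination this
    have hYle : orth Q P ≤ orth Q (orth Q P) := by
      intro y hy
      rw [mem_orth]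
      intro n hn'
      rw [QuadraticMap.polar, hQy _ ((orth Q P).add_mem hn' hy), hQy n hn', hQy y hy,
        QuadraticMap.polar_add_right]
      ring
    rw [orth_orth Q hQ] at hYle
    -- dimension count
    have hfr : finrank F (ι → F) = Fintype.card ι := Module.finrank_fintype_fun_eq_card F
    have hY := LinearMap.BilinForm.finrank_orthogonal hQ P
    change finrank F (orth Q P) = _ at hY
    have h1 := Submodule.finrank_mono hYle
    have h3 := Submodule.finrank_mono hPle
    have hPle2 : finrank F P ≤ 2 := by
      have := Submodule.finrank_add_le_finrank_add_finrank (Submodule.span F {u})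
        (Submodule.span F {v})
      rw [finrank_span_singleton hu0, finrank_span_singleton hv0] at this
      exact this
    have hP2 : 2 ≤ finrank F P := by
      have hli : LinearIndependent F ![(⟨u, huP⟩ : P), ⟨v, hvP⟩] := by
        rw [LinearIndependent.pair_iff]
        intro s t hst
        have hst' : s • u + t • v = 0 := by
          have := congrArg (Subtype.val) hst
          simpa using this
        have h4 : QuadraticMap.polar (⇑Q) (s • u + t • v) x = 0 := by
          rw [hst']; exact QuadraticMap.polar_zero_left _ _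
        rw [QuadraticMap.polar_add_left, QuadraticMap.polar_smul_left, QuadraticMap.polar_smul_left,
          hux1, hvx1, smul_eq_mul, smul_eq_mul, mul_one, mul_one] at h4
        have hst2 : s = t := by
          have : s = -t := by linear_combination h4
          rw [this]
          have hneg : (-1 : F) = 1 := by
            have : (1 : F) + 1 = 0 := by rw [one_add_one_eq_two]; exact h2
            linear_combination -this
          calc -t = (-1) * t := by ring
            _ = t := by rw [hneg, one_mul]
        rw [hst2, ← smul_add] at hst'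
        rcases smul_eq_zero.mp hst' with h | h
        · exact ⟨hst2.trans h, h⟩
        · exfalso
          apply hne
          have hneg : -v = v := by
            have : (2 : F) • v = 0 := by rw [h2, zero_smul]
            rw [two_smul] at this
            exact neg_eq_of_add_eq_zero_left this
          rw [← hneg]
          exact eq_neg_of_add_eq_zero_left h
      have := hli.fintype_card_le_finrank
      simpa using this
    have hle := Submodule.finrank_le P
    omega
  · -- more than two scalars
    have hcard : 2 < Fintype.card F := by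
      have := Fintype.one_lt_card (α := F)
      omega
    by_cases hQx : Q x ≠ 0
    · exact ⟨x, hQx, hux, hvx⟩
    rw [not_not] at hQx
    have hlam : ∃ t : F, t ≠ 0 ∧ t ≠ -(QuadraticMap.polar (⇑Q) x u) * (Q u)⁻¹ := by
      have hlt : ({0, -(QuadraticMap.polar (⇑Q) x u) * (Q u)⁻¹} : Finset F).card
          < (Finset.univ : Finset F).card := by
        rw [Finset.card_univ]
        exact lt_of_le_of_lt (Finset.card_insert_le _ _) (by simpa using hcard)
      obtain ⟨l, -, hl⟩ := Finset.exists_mem_notMem_of_card_lt_card hlt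
      simp only [Finset.mem_insert, Finset.mem_singleton, not_or] at hl
      exact ⟨l, hl.1, hl.2⟩
    obtain ⟨t, ht0, ht⟩ := hlam
    refine ⟨x + t • u, ?_, ?_, ?_⟩
    · rw [QuadraticMap.map_add (⇑Q) x (t • u), QuadraticMap.map_smul, QuadraticMap.polar_smul_right,
        hQx, zero_add, smul_eq_mul, smul_eq_mul]
      have : t * t * Q u + t * QuadraticMap.polar (⇑Q) x u
          = t * (t * Q u + QuadraticMap.polar (⇑Q) x u) := by ring
      rw [this]
      apply mul_ne_zero ht0
      intro h
      apply ht
      field_simp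
      linear_combination h
    · rw [QuadraticMap.polar_add_right, QuadraticMap.polar_smul_right, polar_self_zero h2,
        smul_zero, add_zero]
      exact hux
    · rw [QuadraticMap.polar_add_right, QuadraticMap.polar_smul_right,
        QuadraticMap.polar_comm (⇑Q) v u, huv, smul_zero, add_zero]
      exact hvx


section abelianization

variable [Fintype F] (Q : QuadraticForm F (ι → F))

omit [Fintype F] in
/-- Reflections in vectors of equal norm with non-singular difference have the same image in the
abelianization. -/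
theorem rhoAb_eq_of_sub {u v : ι → F} (hu : Q u ≠ 0) (huv : Q u = Q v) (hd : Q (u - v) ≠ 0) :
    rhoAb Q u = rhoAb Q v := by
  have hv : Q v ≠ 0 := huv ▸ hu
  have hconj : refl Q (u - v) hd * refl Q u hu * (refl Q (u - v) hd)⁻¹ = refl Q v hv := by
    apply Subtype.ext
    apply Units.ext
    have := conj_reflectionMatrix Q (refl Q (u - v) hd) u
    rw [refl_coe, reflection_sub_apply Q huv hd] at this
    exact this
  rw [rhoAb, rhoAb, reflT_of_ne Q u hu, reflT_of_ne Q v hv, ← hconj, map_mul, map_mul, map_inv]
  rw [mul_comm (Abelianization.of (refl Q (u - v) hd)), mul_assoc, mul_inv_cancel, mul_one]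

omit [Fintype F] in
theorem rhoAb_smul (v : ι → F) {c : F} (hc : c ≠ 0) : rhoAb Q (c • v) = rhoAb Q v := by
  rw [rhoAb, rhoAb]
  congr 1
  by_cases hv : Q v ≠ 0
  · have hcv : Q (c • v) ≠ 0 := by
      rw [QuadraticMap.map_smul]; exact mul_ne_zero (mul_ne_zero hc hc) hv
    rw [reflT_of_ne Q v hv, reflT_of_ne Q _ hcv]
    apply Subtype.ext
    apply Units.ext
    exact reflectionMatrix_smul Q v hc
  · rw [not_not] at hv
    have hcv : Q (c • v) = 0 := by rw [QuadraticMap.map_smul, hv, smul_zero]
    simp [reflT, hv, hcv]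

/-- In characteristic two all reflections have the same image in the abelianization of `O(Q)`. -/
theorem rhoAb_eq (h2 : (2 : F) = 0) (hQ : (QuadraticMap.polarBilin Q).Nondegenerate)
    (hex : Fintype.card F ≠ 2 ∨ Fintype.card ι ≠ 4) {u v : ι → F} (hu : Q u ≠ 0) (hv : Q v ≠ 0) :
    rhoAb Q u = rhoAb Q v := by
  have hchar : ringChar F = 2 := CharP.ringChar_of_prime_eq_zero Nat.prime_two (by exact_mod_cast h2)
  -- rescale `v` to the norm of `u`
  obtain ⟨c, hc⟩ := FiniteField.isSquare_of_char_two hchar (Q u * (Q v)⁻¹)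
  have hc0 : c ≠ 0 := by
    rintro rfl
    rw [mul_zero] at hc
    exact (mul_ne_zero hu (inv_ne_zero hv)) hc
  have key : ∀ {a b : ι → F}, Q a ≠ 0 → Q a = Q b → rhoAb Q a = rhoAb Q b := by
    intro a b ha hab
    have hb : Q b ≠ 0 := hab ▸ ha
    by_cases h1 : a = b
    · rw [h1]
    by_cases hd : Q (a - b) ≠ 0
    · exact rhoAb_eq_of_sub Q ha hab hd
    rw [not_not] at hd
    have hpol : QuadraticMap.polar (⇑Q) a b = 0 := by
      have := map_sub_eq Q a b
      rw [hd, ← hab, QuadraticMap.polar_comm] at this
      have h2' : Q a + Q a = 0 := by rw [← two_mul, h2, zero_mul]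
      linear_combination this + h2'
    obtain ⟨z, hz, haz, hbz⟩ := exists_connector h2 Q hQ hex ha hb h1 hpol
    obtain ⟨e, he⟩ := FiniteField.isSquare_of_char_two hchar (Q a * (Q z)⁻¹)
    have he0 : e ≠ 0 := by
      rintro rfl
      rw [mul_zero] at he
      exact (mul_ne_zero ha (inv_ne_zero hz)) he
    have hQez : Q (e • z) = Q a := by
      rw [QuadraticMap.map_smul, smul_eq_mul, ← he]
      field_simp
    have h2a : Q a + Q a = 0 := by rw [← two_mul, h2, zero_mul]
    have hd1 : Q (a - e • z) ≠ 0 := by
      rw [map_sub_eq, hQez, h2a, zero_sub, neg_ne_zero, QuadraticMap.polar_smul_left, smul_eq_mul,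
        QuadraticMap.polar_comm]
      exact mul_ne_zero he0 haz
    have hd2 : Q (e • z - b) ≠ 0 := by
      rw [map_sub_eq, hQez, ← hab, h2a, zero_sub, neg_ne_zero, QuadraticMap.polar_smul_right,
        smul_eq_mul]
      exact mul_ne_zero he0 hbz
    rw [rhoAb_eq_of_sub Q ha hQez.symm hd1, rhoAb_eq_of_sub Q (hQez ▸ ha) (hQez.trans hab) hd2]
  have hQcv : Q (c • v) = Q u := by
    rw [QuadraticMap.map_smul, smul_eq_mul, ← hc]
    field_simp
  rw [← rhoAb_smul Q v hc0]
  exact key hu hQcv.symm

/-- **Even products of reflections lie in `Ω`** (characteristic two). -/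
theorem even_prod_mem_omega (h2 : (2 : F) = 0) (hQ : (QuadraticMap.polarBilin Q).Nondegenerate)
    (hex : Fintype.card F ≠ 2 ∨ Fintype.card ι ≠ 4) (vs : List (ι → F)) (hvs : ∀ v ∈ vs, Q v ≠ 0)
    (heven : Even vs.length) : (vs.map (reflT Q)).prod ∈ Cfsg.Omega F (⇑Q) := by
  have h1 : Abelianization.of ((vs.map (reflT Q)).prod) = (vs.map (rhoAb Q)).prod := by
    rw [map_list_prod, List.map_map]
    rfl
  have h3 : (vs.map (rhoAb Q)).prod = 1 :=
    prod_rhoAb_eq_one_of_all_eq Q vs
      (fun u hu u' hu' => rhoAb_eq Q h2 hQ hex (hvs u hu) (hvs u' hu')) heven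
  rw [h3] at h1
  have : (vs.map (reflT Q)).prod ∈ (Abelianization.of (G := ↥(Cfsg.isometryGroup F (⇑Q)))).ker :=
    MonoidHom.mem_ker.mpr h1
  rwa [Abelianization.ker_of] at this

omit [Fintype F] in
theorem reflT_mul_self (v : ι → F) : reflT Q v * reflT Q v = 1 := by
  by_cases hv : Q v ≠ 0
  · rw [reflT_of_ne Q v hv, refl_mul_self]
  · simp [reflT, hv]

omit [Fintype F] in
theorem prod_reflT_reverse_mul (vs : List (ι → F)) :
    (vs.reverse.map (reflT Q)).prod * (vs.map (reflT Q)).prod = 1 := by
  induction vs with
  | nil => simp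
  | cons v vs ih =>
    rw [List.reverse_cons, List.map_append, List.prod_append, List.map_cons, List.map_nil,
      List.prod_cons, List.prod_nil, mul_one, List.map_cons, List.prod_cons, mul_assoc,
      ← mul_assoc (reflT Q v), reflT_mul_self, one_mul, ih]

/-- The set of even products of reflections, as a subgroup. -/
def evenSubgroup : Subgroup ↥(Cfsg.isometryGroup F (⇑Q)) where
  carrier := {g | ∃ vs : List (ι → F), (∀ v ∈ vs, Q v ≠ 0) ∧ Even vs.length ∧
    g = (vs.map (reflT Q)).prod}
  one_mem' := ⟨[], by simp, by simp, by simp⟩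
  mul_mem' := by
    rintro a b ⟨us, hus, heu, rfl⟩ ⟨vs, hvs, hev, rfl⟩
    refine ⟨us ++ vs, ?_, ?_, ?_⟩
    · intro v hv
      rcases List.mem_append.mp hv with h | h
      · exact hus v h
      · exact hvs v h
    · rw [List.length_append]; exact heu.add hev
    · rw [List.map_append, List.prod_append]
  inv_mem' := by
    rintro a ⟨us, hus, heu, rfl⟩
    refine ⟨us.reverse, ?_, ?_, ?_⟩
    · intro v hv; exact hus v (List.mem_reverse.mp hv)
    · rw [List.length_reverse]; exact heu
    · exact inv_eq_of_mul_eq_one_left (prod_reflT_reverse_mul Q us)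

omit [Fintype F] in
theorem mem_evenSubgroup (g : ↥(Cfsg.isometryGroup F (⇑Q))) :
    g ∈ evenSubgroup Q ↔ ∃ vs : List (ι → F), (∀ v ∈ vs, Q v ≠ 0) ∧ Even vs.length ∧
      g = (vs.map (reflT Q)).prod := Iff.rfl

/-- **`Ω` is the group of even products of reflections** (characteristic two). -/
theorem mem_omega_iff_even (h2 : (2 : F) = 0) (hQ : (QuadraticMap.polarBilin Q).Nondegenerate)
    (hex : Fintype.card F ≠ 2 ∨ Fintype.card ι ≠ 4) (g : ↥(Cfsg.isometryGroup F (⇑Q))) :
    g ∈ Cfsg.Omega F (⇑Q) ↔ ∃ vs : List (ι → F), (∀ v ∈ vs, Q v ≠ 0) ∧ Even vs.length ∧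
      g = (vs.map (reflT Q)).prod := by
  constructor
  · intro hg
    have hle : commutator ↥(Cfsg.isometryGroup F (⇑Q)) ≤ evenSubgroup Q := by
      rw [commutator_def, Subgroup.commutator_le]
      intro a _ b _
      obtain ⟨us, hus, rfl⟩ := exists_list_reflT_two h2 Q hQ hex a
      obtain ⟨vs, hvs, rfl⟩ := exists_list_reflT_two h2 Q hQ hex b
      refine ⟨us ++ vs ++ us.reverse ++ vs.reverse, ?_, ?_, ?_⟩
      · intro v hv
        simp only [List.mem_append, List.mem_reverse] at hv
        rcases hv with ((h | h) | h) | h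
        · exact hus v h
        · exact hvs v h
        · exact hus v h
        · exact hvs v h
      · simp only [List.length_append, List.length_reverse]
        exact ⟨us.length + vs.length, by ring⟩
      · rw [commutatorElement_def, List.map_append, List.map_append, List.map_append,
          List.prod_append, List.prod_append, List.prod_append,
          inv_eq_of_mul_eq_one_left (prod_reflT_reverse_mul Q us),
          inv_eq_of_mul_eq_one_left (prod_reflT_reverse_mul Q vs)]
    exact hle hg
  · rintro ⟨vs, hvs, heven, rfl⟩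
    exact even_prod_mem_omega Q h2 hQ hex vs hvs heven

/-- A product of reflections lies in `Ω` iff the number of factors is even, provided some product with an odd
number of factors is not in `Ω`... (parity form): if `g` is both an even and an odd product then `O = Ω`. -/
theorem mem_omega_of_even (h2 : (2 : F) = 0) (hQ : (QuadraticMap.polarBilin Q).Nondegenerate)
    (hex : Fintype.card F ≠ 2 ∨ Fintype.card ι ≠ 4) (g : ↥(Cfsg.isometryGroup F (⇑Q)))
    (vs : List (ι → F)) (hvs : ∀ v ∈ vs, Q v ≠ 0) (heven : Even vs.length)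
    (hg : g = (vs.map (reflT Q)).prod) : g ∈ Cfsg.Omega F (⇑Q) :=
  (mem_omega_iff_even Q h2 hQ hex g).mpr ⟨vs, hvs, heven, hg⟩

end abelianization

end Cfsg.Agent.Lib.Helper44_Omega2
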