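import Mathlib
import Cfsg.Agent.Lib.Helper44_Spinor
import Cfsg.Agent.Lib.Helper14_CartanDieudonne

set_option autoImplicit false

/-!
Odd characteristic: `Ω(Q) = [O(Q), O(Q)]` is the intersection of the kernels of the determinant and of the
spinor character `theta` (helper44, using helper14's Cartan–Dieudonné theorem).
-/

namespace Cfsg.Agent.Lib.Helper44_OmegaOdd

open Cfsg Matrix Cfsg.Agent.Lib.Helper44_Orth Cfsg.Agent.Lib.Helper44_Refl
  Cfsg.Agent.Lib.Helper44_Spinor Cfsg.Agent.Lib.Helper14_CartanDieudonne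

variable {ι : Type} [Fintype ι] [DecidableEq ι] {F : Type*} [Field F] [Fintype F]

theorem neg_one_pow_eq_one_iff_units (k : ℕ) : ((-1 : ℤˣ)) ^ k = 1 ↔ Even k := by
  constructor
  · intro h
    rcases Nat.even_or_odd k with hk | hk
    · exact hk
    · rw [hk.neg_one_pow] at h
      exact absurd h (by decide)
  · intro hk
    exact hk.neg_one_pow

theorem neg_one_pow_eq_one_iff_field (h2 : (2 : F) ≠ 0) (k : ℕ) : ((-1 : F)) ^ k = 1 ↔ Even k := by
  constructor
  · intro h
    rcases Nat.even_or_odd k with hk | hk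
    · exact hk
    · rw [hk.neg_one_pow] at h
      exfalso
      apply h2
      linear_combination -h
  · intro hk
    exact hk.neg_one_pow

/-- **`Ω = ker det ∩ ker θ`** in odd characteristic. -/
theorem mem_omega_iff_det_theta (h2 : (2 : F) ≠ 0) (Q : QuadraticForm F (ι → F))
    (hQ : (QuadraticMap.polarBilin Q).Nondegenerate) (g : ↥(Cfsg.isometryGroup F (⇑Q))) :
    g ∈ Cfsg.Omega F (⇑Q) ↔
      ((g : Matrix.GeneralLinearGroup ι F) : Matrix ι ι F).det = 1 ∧ theta Q g = 1 := by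
  classical
  obtain ⟨vs, hvs, hg⟩ := exists_list_reflT h2 Q hQ g
  have hcoe := prod_reflT_coe Q vs hvs
  rw [← hg] at hcoe
  rw [mem_omega_iff Q h2 g vs hvs hcoe, hcoe, det_prod Q vs hvs, hg, theta_prod Q h2 vs hvs,
    neg_one_pow_eq_one_iff_field h2, neg_one_pow_eq_one_iff_units, isSquare_prod_iff Q vs hvs]
  have hlen := List.length_eq_countP_add_countP (fun v => decide (IsSquare (Q v))) (l := vs)
  have hcnt : vs.countP (fun a => decide ¬(fun v => decide (IsSquare (Q v))) a = true)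
      = vs.countP (fun v => ¬ IsSquare (Q v)) := by
    congr 1
    funext a
    simp
  rw [hcnt] at hlen
  have hc2 : vs.countP (fun v => decide (IsSquare (Q v))) = vs.countP (fun v => IsSquare (Q v)) := by
    congr 1
  rw [hc2] at hlen
  constructor
  · rintro ⟨h1, h3⟩
    refine ⟨h1, ?_⟩
    rw [hlen, Nat.even_add] at h1
    exact h1.mpr h3
  · rintro ⟨h1, h3⟩
    refine ⟨h1, ?_⟩
    rw [hlen, Nat.even_add] at h1
    exact h1.mp h3

/-- Squares lie in `Ω`. -/
theorem sq_mem_omega (h2 : (2 : F) ≠ 0) (Q : QuadraticForm F (ι → F))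
    (hQ : (QuadraticMap.polarBilin Q).Nondegenerate) (g : ↥(Cfsg.isometryGroup F (⇑Q))) :
    g * g ∈ Cfsg.Omega F (⇑Q) := by
  rw [mem_omega_iff_det_theta h2 Q hQ]
  constructor
  · have hmul : (((g * g : ↥(Cfsg.isometryGroup F (⇑Q))) : Matrix.GeneralLinearGroup ι F) :
        Matrix ι ι F) = (g : Matrix.GeneralLinearGroup ι F).1 * (g : Matrix.GeneralLinearGroup ι F).1 :=
      rfl
    rw [hmul, Matrix.det_mul]
    obtain ⟨vs, hvs, hg⟩ := exists_list_reflT h2 Q hQ g
    have hcoe := prod_reflT_coe Q vs hvs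
    rw [← hg] at hcoe
    rw [hcoe, det_prod Q vs hvs, ← pow_add, ← two_mul, pow_mul]
    simp
  · rw [map_mul]
    rcases Int.units_eq_one_or (theta Q g) with h | h <;> rw [h] <;> decide

/-- Elements of odd order lie in `Ω`. -/
theorem mem_omega_of_pow_eq_one (h2 : (2 : F) ≠ 0) (Q : QuadraticForm F (ι → F))
    (hQ : (QuadraticMap.polarBilin Q).Nondegenerate) (g : ↥(Cfsg.isometryGroup F (⇑Q)))
    {k : ℕ} (hk : Odd k) (hg : g ^ k = 1) : g ∈ Cfsg.Omega F (⇑Q) := by
  obtain ⟨j, rfl⟩ := hk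
  have h1 : g = (g ^ (j + 1)) * (g ^ (j + 1)) := by
    rw [← pow_add]
    have : j + 1 + (j + 1) = (2 * j + 1) + 1 := by ring
    rw [this, pow_succ, hg, one_mul]
  rw [h1]
  exact sq_mem_omega h2 Q hQ _

end Cfsg.Agent.Lib.Helper44_OmegaOdd
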