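import Mathlib
import Cfsg.Agent.Lib.Helper44_OmegaOdd
import Cfsg.Agent.Lib.Helper44_Omega2
import Cfsg.Agent.Lib.Helper14_Dickson

set_option autoImplicit false

/-!
Characteristic-free wrappers (helper44): Cartan–Dieudonné over any finite field (outside `O₄(2)`),
squares lie in `Ω`, and in characteristic two the parity criterion `∏ reflections ∈ Ω ↔ even length`
(using helper14's Dickson homomorphism for the forward direction).
-/

namespace Cfsg.Agent.Lib.Helper44_OmegaAll

open Cfsg Matrix Cfsg.Agent.Lib.Helper44_Refl Cfsg.Agent.Lib.Helper44_Spinor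
  Cfsg.Agent.Lib.Helper44_CD2 Cfsg.Agent.Lib.Helper44_Omega2 Cfsg.Agent.Lib.Helper44_OmegaOdd
  Cfsg.Agent.Lib.Helper14_CartanDieudonne Cfsg.Agent.Lib.Helper14_Dickson

variable {ι : Type} [Fintype ι] [DecidableEq ι] {F : Type*} [Field F] [Fintype F]

/-- Cartan–Dieudonné over a finite field of any characteristic: every isometry is a product of
reflections, except for `|F| = 2`, `dim = 4`. -/
theorem exists_list_reflT_all (Q : QuadraticForm F (ι → F))
    (hQ : (QuadraticMap.polarBilin Q).Nondegenerate)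
    (hex : Fintype.card F ≠ 2 ∨ Fintype.card ι ≠ 4) (g : ↥(Cfsg.isometryGroup F (⇑Q))) :
    ∃ vs : List (ι → F), (∀ v ∈ vs, Q v ≠ 0) ∧ g = (vs.map (reflT Q)).prod := by
  by_cases h2 : (2 : F) = 0
  · exact exists_list_reflT_two h2 Q hQ hex g
  · exact exists_list_reflT h2 Q hQ g

/-- Squares of isometries lie in `Ω` (any characteristic; outside `O₄(2)`). -/
theorem mul_self_mem_omega (Q : QuadraticForm F (ι → F))
    (hQ : (QuadraticMap.polarBilin Q).Nondegenerate)
    (hex : Fintype.card F ≠ 2 ∨ Fintype.card ι ≠ 4) (g : ↥(Cfsg.isometryGroup F (⇑Q))) :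
    g * g ∈ Cfsg.Omega F (⇑Q) := by
  by_cases h2 : (2 : F) = 0
  · obtain ⟨vs, hvs, hg⟩ := exists_list_reflT_two h2 Q hQ hex g
    refine mem_omega_of_even Q h2 hQ hex (g * g) (vs ++ vs) ?_ ?_ ?_
    · intro v hv
      rcases List.mem_append.mp hv with hv | hv <;> exact hvs v hv
    · rw [List.length_append]
      exact ⟨vs.length, rfl⟩
    · rw [List.map_append, List.prod_append, ← hg]
  · exact sq_mem_omega h2 Q hQ g

omit [Fintype F] in
/-- The Dickson homomorphism of a product of reflections is its length. -/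
theorem delta_prod {Q : QuadraticForm F (ι → F)}
    (δ : ↥(Cfsg.isometryGroup F (⇑Q)) →* Multiplicative F)
    (hδ : ∀ (v : ι → F) (hv : Q v ≠ 0), δ (refl Q v hv) = Multiplicative.ofAdd 1)
    (vs : List (ι → F)) (hvs : ∀ v ∈ vs, Q v ≠ 0) :
    δ (vs.map (reflT Q)).prod = Multiplicative.ofAdd (vs.length : F) := by
  induction vs with
  | nil => simp
  | cons v vs ih =>
    rw [List.map_cons, List.prod_cons, map_mul, ih (fun w hw => hvs w (List.mem_cons_of_mem _ hw)),
      reflT_of_ne Q v (hvs v List.mem_cons_self), hδ, ← ofAdd_add, List.length_cons]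
    congr 1
    push_cast
    ring

omit [Fintype F] in
/-- In characteristic two a product of reflections lying in `Ω` has an even number of factors
(no exception needed in this direction). -/
theorem even_of_prod_mem_omega (h2 : (2 : F) = 0) (Q : QuadraticForm F (ι → F))
    (hQ : (QuadraticMap.polarBilin Q).Nondegenerate) (vs : List (ι → F))
    (hvs : ∀ v ∈ vs, Q v ≠ 0) (hmem : (vs.map (reflT Q)).prod ∈ Cfsg.Omega F (⇑Q)) :
    Even vs.length := by
  obtain ⟨δ, hδ⟩ := exists_dickson h2 Q hQ
  have hmem' : (vs.map (reflT Q)).prod ∈ commutator ↥(Cfsg.isometryGroup F (⇑Q)) := hmem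
  have hker := Abelianization.commutator_subset_ker δ hmem'
  rw [MonoidHom.mem_ker, delta_prod δ hδ vs hvs] at hker
  have hk : (vs.length : F) = 0 := Multiplicative.ofAdd.injective hker
  by_contra hodd
  rw [Nat.not_even_iff_odd] at hodd
  obtain ⟨j, hj⟩ := hodd
  rw [hj] at hk
  push_cast at hk
  rw [h2, zero_mul, zero_add] at hk
  exact one_ne_zero hk

/-- **Parity criterion in characteristic two**: a product of reflections lies in `Ω` iff the number of
factors is even. -/
theorem prod_mem_omega_iff_even (h2 : (2 : F) = 0) (Q : QuadraticForm F (ι → F))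
    (hQ : (QuadraticMap.polarBilin Q).Nondegenerate)
    (hex : Fintype.card F ≠ 2 ∨ Fintype.card ι ≠ 4) (vs : List (ι → F))
    (hvs : ∀ v ∈ vs, Q v ≠ 0) :
    (vs.map (reflT Q)).prod ∈ Cfsg.Omega F (⇑Q) ↔ Even vs.length :=
  ⟨even_of_prod_mem_omega h2 Q hQ vs hvs,
    fun hev => mem_omega_of_even Q h2 hQ hex _ vs hvs hev rfl⟩

end Cfsg.Agent.Lib.Helper44_OmegaAll
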