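import Mathlib

set_option autoImplicit false

/-!
The orthogonal complement of a non-isotropic vector for a symmetric bilinear form (helper44).
-/

namespace Cfsg.Agent.Lib.Helper44_VPerp

open Module

variable {F : Type*} [Field F] {V : Type*} [AddCommGroup V] [Module F V]

/-- The orthogonal complement of `v` (kernel of `B v`). -/
def vperp (B : LinearMap.BilinForm F V) (v : V) : Submodule F V := LinearMap.ker (B v)

theorem mem_vperp (B : LinearMap.BilinForm F V) (v w : V) : w ∈ vperp B v ↔ B v w = 0 :=
  LinearMap.mem_ker

theorem finrank_vperp [FiniteDimensional F V] (B : LinearMap.BilinForm F V) {v : V}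
    (hv : B v v ≠ 0) : finrank F (vperp B v) + 1 = finrank F V := by
  have hsurj : LinearMap.range (B v) = ⊤ := by
    rw [LinearMap.range_eq_top]
    intro a
    refine ⟨(a / B v v) • v, ?_⟩
    rw [map_smul, smul_eq_mul, div_mul_cancel₀ _ hv]
  have h1 := LinearMap.finrank_range_add_finrank_ker (B v)
  rw [hsurj, finrank_top, Module.finrank_self] at h1
  have : vperp B v = LinearMap.ker (B v) := rfl
  rw [this]
  omega

/-- The restriction of a non-degenerate symmetric form to the complement of a non-isotropic vector is
non-degenerate. -/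
theorem nondegenerate_vperp [FiniteDimensional F V] (B : LinearMap.BilinForm F V)
    (hB : B.Nondegenerate) (hs : ∀ x y, B x y = B y x) {v : V} (hv : B v v ≠ 0) :
    (B.restrict (vperp B v)).Nondegenerate := by
  apply LinearMap.BilinForm.Nondegenerate.ofSeparatingLeft
  intro w hw
  have hwmem : B v w = 0 := (mem_vperp B v w).mp w.2
  apply Subtype.ext
  apply hB.1
  intro u
  set u' : V := u - (B v u / B v v) • v with hu'
  have hu'mem : u' ∈ vperp B v := by
    rw [mem_vperp, hu', map_sub, map_smul, smul_eq_mul, div_mul_cancel₀ _ hv, sub_self]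
  have h1 := hw ⟨u', hu'mem⟩
  have h2 : B (w : V) u' = 0 := h1
  have hu : u = u' + (B v u / B v v) • v := by rw [hu']; abel
  rw [hu, map_add, map_smul, h2, hs (w : V) v, hwmem]
  simp

end Cfsg.Agent.Lib.Helper44_VPerp
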