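import Mathlib
import Cfsg.Agent.Lib.Helper44_VPerp
import Cfsg.Agent.Lib.Helper44_QuadClass
import Cfsg.Agent.Lib.Helper44_Simil

set_option autoImplicit false

/-!
Normal form `⟨1, …, 1, d⟩` of non-degenerate quadratic forms over finite fields of odd order; isometries from
bases (helper44).
-/

namespace Cfsg.Agent.Lib.Helper44_NormalForm

open Module Cfsg.Agent.Lib.Helper44_VPerp Cfsg.Agent.Lib.Helper44_QuadClass
  Cfsg.Agent.Lib.Helper44_Simil

universe u

variable {F : Type*} [Field F]

/-- An isometry from prescribed images of a basis. -/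
theorem isometry_of_basis {V : Type*} [AddCommGroup V] [Module F V] [FiniteDimensional F V]
    {κ : Type*} [Fintype κ] (b : Basis κ F V)
    (Q₁ Q₂ : QuadraticForm F V) (hQ₁ : (QuadraticMap.polarBilin Q₁).Nondegenerate)
    (img : κ → V) (h1 : ∀ k, Q₂ (img k) = Q₁ (b k))
    (h2 : ∀ k l, QuadraticMap.polar (⇑Q₂) (img k) (img l) = QuadraticMap.polar (⇑Q₁) (b k) (b l)) :
    ∃ g : V ≃ₗ[F] V, ∀ v, Q₂ (g v) = Q₁ v := by
  set g₀ : V →ₗ[F] V := b.constr F img with hg₀
  have hgb : ∀ k, g₀ (b k) = img k := fun k => by rw [hg₀, Basis.constr_basis]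
  have heq : Q₂.comp g₀ = Q₁ := by
    apply quadraticForm_ext_basis b
    · intro k
      simp only [QuadraticMap.comp_apply, hgb]
      exact h1 k
    · intro k l
      have e1 : QuadraticMap.polar (⇑(Q₂.comp g₀)) (b k) (b l)
          = QuadraticMap.polar (⇑Q₂) (g₀ (b k)) (g₀ (b l)) := by
        simp [QuadraticMap.polar]
      rw [e1, hgb, hgb]
      exact h2 k l
  have hval : ∀ v, Q₂ (g₀ v) = Q₁ v := by
    intro v
    have := congrArg (fun q : QuadraticForm F V => q v) heq
    simpa using this
  have hpolar : ∀ v w, QuadraticMap.polar (⇑Q₂) (g₀ v) (g₀ w) = QuadraticMap.polar (⇑Q₁) v w := by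
    intro v w
    simp only [QuadraticMap.polar]
    rw [← map_add, hval, hval, hval]
  have hinj : Function.Injective g₀ := by
    rw [injective_iff_map_eq_zero]
    intro v hv
    apply hQ₁.1
    intro w
    rw [QuadraticMap.polarBilin_apply_apply, ← hpolar v w, hv, QuadraticMap.polar_zero_left]
  exact ⟨LinearEquiv.ofInjectiveEndo g₀ hinj, fun v => by
    rw [LinearEquiv.coe_ofInjectiveEndo]; exact hval v⟩

/-- A non-degenerate quadratic form of dimension at least two over a finite field of odd order represents
`1`. -/
theorem exists_norm_one_of_nondegenerate [Finite F] (h2 : (2 : F) ≠ 0) {V : Type*} [AddCommGroup V]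
    [Module F V] [FiniteDimensional F V] (Q : QuadraticForm F V)
    (hQ : (QuadraticMap.polarBilin Q).Nondegenerate) (hdim : 2 ≤ finrank F V) : ∃ v : V, Q v = 1 := by
  have : Invertible (2 : F) := invertibleOfNonzero h2
  have hsymm : LinearMap.BilinForm.IsSymm (QuadraticMap.polarBilin Q) := by
    rw [LinearMap.BilinForm.isSymm_def]
    intro x y
    simp only [QuadraticMap.polarBilin_apply_apply]
    exact QuadraticMap.polar_comm _ _ _
  obtain ⟨v, hv⟩ := LinearMap.BilinForm.exists_orthogonal_basis
    (LinearMap.BilinForm.isSymm_iff.mp hsymm)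
  have hns : ∀ i, Q (v i) ≠ 0 := by
    intro i hi
    have h1 := hv.not_isOrtho_basis_self_of_separatingLeft hQ.1 i
    apply h1
    rw [QuadraticMap.polarBilin_apply_apply, polar_self', hi, mul_zero]
  set i0 : Fin (finrank F V) := ⟨0, by omega⟩ with hi0
  set i1 : Fin (finrank F V) := ⟨1, by omega⟩ with hi1
  have h01 : i0 ≠ i1 := by simp [hi0, hi1, Fin.ext_iff]
  have horth : QuadraticMap.polar (⇑Q) (v i0) (v i1) = 0 := by
    have := hv h01
    simpa [Function.onFun] using this
  obtain ⟨s, t, hst⟩ := exists_sq_sum h2 (hns i0) (hns i1) (-1)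
  refine ⟨s • v i0 + t • v i1, ?_⟩
  rw [map_smul_add, QuadraticMap.map_smul, QuadraticMap.polar_smul_right, horth]
  simp only [smul_eq_mul, mul_zero, add_zero]
  linear_combination hst

theorem polarBilin_comp_subtype {V : Type*} [AddCommGroup V] [Module F V] (Q : QuadraticForm F V)
    (W : Submodule F V) :
    QuadraticMap.polarBilin (Q.comp W.subtype)
      = LinearMap.BilinForm.restrict (QuadraticMap.polarBilin Q) W := by
  apply LinearMap.ext; intro x; apply LinearMap.ext; intro y
  simp [QuadraticMap.polar]

/-- **Normal form**: an orthogonal family `w` of `n+1` vectors with `Q (w i) = 1` for `i` not the last index and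
`Q (w last) ≠ 0`. -/
theorem normal_family [Finite F] (h2 : (2 : F) ≠ 0) : ∀ (n : ℕ) (V : Type u) [AddCommGroup V]
    [Module F V] [FiniteDimensional F V] (Q : QuadraticForm F V), finrank F V = n + 1 →
    (QuadraticMap.polarBilin Q).Nondegenerate →
    ∃ w : Fin (n + 1) → V, (∀ i j, i ≠ j → QuadraticMap.polar (⇑Q) (w i) (w j) = 0) ∧
      (∀ i, i ≠ Fin.last n → Q (w i) = 1) ∧ Q (w (Fin.last n)) ≠ 0 := by
  intro n
  induction n with
  | zero =>
    intro V _ _ _ Q hdim hQ
    have hV : Nontrivial V := by
      apply Module.nontrivial_of_finrank_pos (R := F); omega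
    obtain ⟨x, hx⟩ := exists_ne (0 : V)
    have hspan := (finrank_eq_one_iff_of_nonzero' x hx).mp (by omega)
    have hne : 2 * Q x ≠ 0 := by
      intro h0
      apply hx
      apply hQ.1
      intro y
      obtain ⟨c, rfl⟩ := hspan y
      rw [QuadraticMap.polarBilin_apply_apply, QuadraticMap.polar_smul_right, polar_self', h0,
        smul_zero]
    refine ⟨fun _ => x, ?_, ?_, right_ne_zero_of_mul hne⟩
    · intro i j hij
      exact absurd (Fin.ext (by omega)) hij
    · intro i hi
      exact absurd (Fin.ext (by simp)) hi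
  | succ n ih =>
    intro V _ _ _ Q hdim hQ
    obtain ⟨v, hv⟩ := exists_norm_one_of_nondegenerate h2 Q hQ (by omega)
    set B := QuadraticMap.polarBilin Q with hBdef
    have hBvv : B v v ≠ 0 := by
      rw [hBdef, QuadraticMap.polarBilin_apply_apply, polar_self', hv, mul_one]; exact h2
    have hs : ∀ x y, B x y = B y x := by
      intro x y
      simp only [hBdef, QuadraticMap.polarBilin_apply_apply]
      exact QuadraticMap.polar_comm _ _ _
    have hfr := finrank_vperp B hBvv
    have hnd := nondegenerate_vperp B hQ hs hBvv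
    rw [← polarBilin_comp_subtype] at hnd
    obtain ⟨w', horth, hone, hlast⟩ := ih (vperp B v) (Q.comp (vperp B v).subtype) (by omega) hnd
    have hmem : ∀ i, QuadraticMap.polar (⇑Q) v (w' i : V) = 0 := by
      intro i
      have := (mem_vperp B v _).mp (w' i).2
      simpa [hBdef] using this
    refine ⟨Fin.cons v (fun i => (w' i : V)), ?_, ?_, ?_⟩
    · intro i j
      refine Fin.cases ?_ (fun i => ?_) i <;> refine Fin.cases ?_ (fun j => ?_) j
      · intro h; exact absurd rfl h
      · intro _
        simp only [Fin.cons_zero, Fin.cons_succ]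
        exact hmem j
      · intro _
        simp only [Fin.cons_zero, Fin.cons_succ]
        rw [QuadraticMap.polar_comm]; exact hmem i
      · intro hij
        simp only [Fin.cons_succ]
        rw [← polar_comp_subtype]
        exact horth i j (fun h => hij (by rw [h]))
    · intro i
      refine Fin.cases ?_ (fun i => ?_) i
      · intro _; simpa using hv
      · intro hi
        simp only [Fin.cons_succ]
        have : i ≠ Fin.last n := by
          intro h; apply hi; rw [h, Fin.succ_last]
        simpa using hone i this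
    · rw [← Fin.succ_last]
      simp only [Fin.cons_succ]
      simpa using hlast

end Cfsg.Agent.Lib.Helper44_NormalForm
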