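import Mathlib
import Cfsg.Agent.Lib.Helper44_OmegaAll
import Cfsg.Agent.Lib.Helper44_WittMat

set_option autoImplicit false

/-!
Supplementing `Ω` by a stabiliser (helper44): if a subgroup `S` of the isometry group contains a reflection
and, in odd characteristic, products of two reflections of every spinor norm, then `S Ω = O`.
Together with Witt's theorem this gives transitivity statements for `Ω`.
-/

namespace Cfsg.Agent.Lib.Helper44_Supplement

open Cfsg Matrix Module Cfsg.Agent.Lib.Helper44_Orth Cfsg.Agent.Lib.Helper44_Refl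
  Cfsg.Agent.Lib.Helper44_Spinor Cfsg.Agent.Lib.Helper44_Omega2 Cfsg.Agent.Lib.Helper44_OmegaAll
  Cfsg.Agent.Lib.Helper44_WittMat

variable {ι : Type} [Fintype ι] [DecidableEq ι] {F : Type*} [Field F]

/-- The stabiliser of a subspace in the isometry group. -/
def stab (Q : (ι → F) → F) (W : Submodule F (ι → F)) : Subgroup ↥(Cfsg.isometryGroup F Q) where
  carrier := {s | W.map (Matrix.mulVecLin ((s : Matrix.GeneralLinearGroup ι F) : Matrix ι ι F)) = W}
  one_mem' := by
    show W.map (Matrix.mulVecLin (1 : Matrix ι ι F)) = W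
    rw [Matrix.mulVecLin_one, Submodule.map_id]
  mul_mem' := by
    intro a b ha hb
    show W.map _ = W
    rw [submodule_map_mul, hb, ha]
  inv_mem' := by
    intro a ha
    show W.map _ = W
    have h1 := submodule_map_mul Q a⁻¹ a W
    rw [ha] at h1
    rw [← h1, inv_mul_cancel]
    show W.map (Matrix.mulVecLin (1 : Matrix ι ι F)) = W
    rw [Matrix.mulVecLin_one, Submodule.map_id]

theorem mem_stab (Q : (ι → F) → F) (W : Submodule F (ι → F)) (s : ↥(Cfsg.isometryGroup F Q)) :
    s ∈ stab Q W ↔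
      W.map (Matrix.mulVecLin ((s : Matrix.GeneralLinearGroup ι F) : Matrix ι ι F)) = W := Iff.rfl

/-- Membership in the stabiliser from mapping into. -/
theorem mem_stab_of_le (Q : (ι → F) → F) (W : Submodule F (ι → F)) (s : ↥(Cfsg.isometryGroup F Q))
    (h : ∀ x ∈ W, ((s : Matrix.GeneralLinearGroup ι F) : Matrix ι ι F) *ᵥ x ∈ W) : s ∈ stab Q W :=
  map_eq_of_le _ W h

variable [Fintype F]

/-- Sufficient criterion for membership in `Ω`, any characteristic. -/
theorem prod_mem_omega_of (Q : QuadraticForm F (ι → F))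
    (hQ : (QuadraticMap.polarBilin Q).Nondegenerate)
    (hex : Fintype.card F ≠ 2 ∨ Fintype.card ι ≠ 4) (vs : List (ι → F))
    (hvs : ∀ v ∈ vs, Q v ≠ 0) (hev : Even vs.length)
    (hsq : IsSquare (vs.map (fun v => Q v)).prod) :
    (vs.map (reflT Q)).prod ∈ Cfsg.Omega F (⇑Q) := by
  by_cases h2 : (2 : F) = 0
  · exact mem_omega_of_even Q h2 hQ hex _ vs hvs hev rfl
  · exact (mem_omega_iff Q h2 _ vs hvs (prod_reflT_coe Q vs hvs)).mpr ⟨hev, hsq⟩

/-- **Lemma A**: an even product of reflections can be moved into `Ω` by an element of `S`, provided (in odd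
characteristic) `S` contains products of two reflections of every spinor norm. -/
theorem exists_mul_mem_omega_of_even (Q : QuadraticForm F (ι → F))
    (hQ : (QuadraticMap.polarBilin Q).Nondegenerate)
    (hex : Fintype.card F ≠ 2 ∨ Fintype.card ι ≠ 4) (S : Subgroup ↥(Cfsg.isometryGroup F (⇑Q)))
    (hS2 : (2 : F) ≠ 0 → ∀ c : F, c ≠ 0 → ∃ a b : ι → F, Q a ≠ 0 ∧ Q b ≠ 0 ∧
      IsSquare (c * (Q a * Q b)) ∧ reflT Q a * reflT Q b ∈ S)
    (ws : List (ι → F)) (hws : ∀ w ∈ ws, Q w ≠ 0) (hev : Even ws.length) :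
    ∃ s ∈ S, s * (ws.map (reflT Q)).prod ∈ Cfsg.Omega F (⇑Q) := by
  by_cases h2 : (2 : F) = 0
  · refine ⟨1, S.one_mem, ?_⟩
    rw [one_mul]
    exact mem_omega_of_even Q h2 hQ hex _ ws hws hev rfl
  · obtain ⟨a, b, ha, hb, hsq, hS⟩ := hS2 h2 _ (prod_ne_zero Q ws hws)
    refine ⟨reflT Q a * reflT Q b, hS, ?_⟩
    have : reflT Q a * reflT Q b * (ws.map (reflT Q)).prod = ((a :: b :: ws).map (reflT Q)).prod := by
      simp [mul_assoc]
    rw [this]
    apply prod_mem_omega_of Q hQ hex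
    · intro v hv
      rcases List.mem_cons.mp hv with rfl | hv
      · exact ha
      rcases List.mem_cons.mp hv with rfl | hv
      · exact hb
      · exact hws v hv
    · simp only [List.length_cons]
      obtain ⟨j, hj⟩ := hev
      exact ⟨j + 1, by omega⟩
    · simp only [List.map_cons, List.prod_cons]
      have : Q a * (Q b * (ws.map (fun v => Q v)).prod)
          = (ws.map (fun v => Q v)).prod * (Q a * Q b) := by ring
      rw [this]
      exact hsq

/-- **Lemma B**: if moreover `S` contains a reflection, then `S Ω` is the whole isometry group. -/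
theorem exists_mul_mem_omega (Q : QuadraticForm F (ι → F))
    (hQ : (QuadraticMap.polarBilin Q).Nondegenerate)
    (hex : Fintype.card F ≠ 2 ∨ Fintype.card ι ≠ 4) (S : Subgroup ↥(Cfsg.isometryGroup F (⇑Q)))
    (v₀ : ι → F) (hv₀ : Q v₀ ≠ 0) (hv₀S : reflT Q v₀ ∈ S)
    (hS2 : (2 : F) ≠ 0 → ∀ c : F, c ≠ 0 → ∃ a b : ι → F, Q a ≠ 0 ∧ Q b ≠ 0 ∧
      IsSquare (c * (Q a * Q b)) ∧ reflT Q a * reflT Q b ∈ S)
    (g : ↥(Cfsg.isometryGroup F (⇑Q))) :
    ∃ s ∈ S, s * g ∈ Cfsg.Omega F (⇑Q) := by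
  obtain ⟨ws, hws, rfl⟩ := exists_list_reflT_all Q hQ hex g
  rcases Nat.even_or_odd ws.length with hev | hodd
  · exact exists_mul_mem_omega_of_even Q hQ hex S hS2 ws hws hev
  · obtain ⟨s, hs, hmem⟩ := exists_mul_mem_omega_of_even Q hQ hex S hS2 (v₀ :: ws)
      (by
        intro v hv
        rcases List.mem_cons.mp hv with rfl | hv
        · exact hv₀
        · exact hws v hv)
      (by
        rw [List.length_cons]
        obtain ⟨j, hj⟩ := hodd
        exact ⟨j + 1, by omega⟩)
    refine ⟨s * reflT Q v₀, S.mul_mem hs hv₀S, ?_⟩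
    rw [List.map_cons, List.prod_cons, ← mul_assoc] at hmem
    exact hmem

omit [Fintype F] in
/-- Assembly: from `g U = W` and `s` stabilising `W` with `s g ∈ Ω` we get an element of `Ω` carrying `U`
to `W`. -/
theorem exists_omega_map_eq (Q : (ι → F) → F) (U W : Submodule F (ι → F))
    (g : ↥(Cfsg.isometryGroup F Q))
    (hg : U.map (Matrix.mulVecLin ((g : Matrix.GeneralLinearGroup ι F) : Matrix ι ι F)) = W)
    (hs : ∃ s ∈ stab Q W, s * g ∈ Cfsg.Omega F Q) :
    ∃ x : ↥(Cfsg.isometryGroup F Q), x ∈ Cfsg.Omega F Q ∧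
      U.map (Matrix.mulVecLin ((x : Matrix.GeneralLinearGroup ι F) : Matrix ι ι F)) = W := by
  obtain ⟨s, hs, hmem⟩ := hs
  refine ⟨s * g, hmem, ?_⟩
  rw [submodule_map_mul, hg]
  exact hs

end Cfsg.Agent.Lib.Helper44_Supplement
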