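import Mathlib
import Cfsg.Agent.Lib.Helper44_Supplement
import Cfsg.Agent.Lib.Helper44_QuadClass
import Cfsg.Agent.Lib.Helper44_CD2

set_option autoImplicit false

/-!
Hyperbolic scalings as products of two reflections stabilising a totally singular subspace (helper44).
-/

namespace Cfsg.Agent.Lib.Helper44_Scaling

open Cfsg Matrix Module Cfsg.Agent.Lib.Helper44_Orth Cfsg.Agent.Lib.Helper44_Refl
  Cfsg.Agent.Lib.Helper44_Spinor Cfsg.Agent.Lib.Helper44_Supplement Cfsg.Agent.Lib.Helper44_CD2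
  Cfsg.Agent.Lib.Helper14_CartanDieudonne

variable {ι : Type} [Fintype ι] [DecidableEq ι] {F : Type*} [Field F]

/-- The hyperbolic scaling `r_{w - c w'} r_{w - w'}` on vectors orthogonal to `w`. -/
theorem scaling_mulVec (Q : QuadraticForm F (ι → F)) {w w' : ι → F} (hw : Q w = 0) (hw' : Q w' = 0)
    (hww' : QuadraticMap.polar (⇑Q) w w' = 1) {c : F} (hc : c ≠ 0) (x : ι → F)
    (hx : QuadraticMap.polar (⇑Q) w x = 0) :
    (Cfsg.reflectionMatrix (⇑Q) (w - c • w') * Cfsg.reflectionMatrix (⇑Q) (w - w')) *ᵥ x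
      = x + ((c⁻¹ - 1) * QuadraticMap.polar (⇑Q) w' x) • w := by
  have hw'w : QuadraticMap.polar (⇑Q) w' w = 1 := by rw [QuadraticMap.polar_comm, hww']
  have hpw : QuadraticMap.polar (⇑Q) w w = 0 := by rw [Helper44_Refl.polar_self, hw, mul_zero]
  have hpw' : QuadraticMap.polar (⇑Q) w' w' = 0 := by rw [Helper44_Refl.polar_self, hw', mul_zero]
  have hQb : Q (w - w') = -1 := by
    have := map_sub_smul Q w' w 1
    rw [one_smul] at this
    rw [this, hw, hw', hw'w]; ring
  have hQa : Q (w - c • w') = -c := by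
    rw [map_sub_smul Q w' w c, hw, hw', hw'w]; ring
  set β := QuadraticMap.polar (⇑Q) w' x with hβ
  have h1 : Cfsg.reflectionMatrix (⇑Q) (w - w') *ᵥ x = x - β • (w - w') := by
    rw [reflectionMatrix_mulVec, hQb, QuadraticMap.polar_sub_left, hx, ← hβ]
    congr 1
    congr 1
    field_simp
    ring
  rw [← Matrix.mulVec_mulVec, h1, reflectionMatrix_mulVec, hQa]
  have h2 : QuadraticMap.polar (⇑Q) (w - c • w') (x - β • (w - w')) = β := by
    rw [QuadraticMap.polar_sub_right, QuadraticMap.polar_smul_right, QuadraticMap.polar_sub_right,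
      QuadraticMap.polar_sub_left, QuadraticMap.polar_sub_left, QuadraticMap.polar_sub_left,
      QuadraticMap.polar_smul_left, QuadraticMap.polar_smul_left, QuadraticMap.polar_smul_left,
      hx, ← hβ, hpw, hw'w, hww', hpw']
    simp only [smul_eq_mul]
    ring
  rw [h2]
  funext i
  simp only [Pi.sub_apply, Pi.add_apply, Pi.smul_apply, smul_eq_mul]
  field_simp
  ring

/-- The stabiliser of a non-zero totally singular subspace contains products of two reflections of every
spinor norm. -/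
theorem scaling_mem_stab (Q : QuadraticForm F (ι → F))
    (hQ : (QuadraticMap.polarBilin Q).Nondegenerate) (W : Submodule F (ι → F))
    (hW0 : ∀ w ∈ W, Q w = 0) (hne : W ≠ ⊥) (c : F) (hc : c ≠ 0) :
    ∃ a b : ι → F, Q a ≠ 0 ∧ Q b ≠ 0 ∧ IsSquare (c * (Q a * Q b)) ∧
      reflT Q a * reflT Q b ∈ stab (⇑Q) W := by
  obtain ⟨w, hwW, hw0⟩ := Submodule.exists_mem_ne_zero_of_ne_bot hne
  have hw : Q w = 0 := hW0 w hwW
  obtain ⟨w', hw', hww'⟩ := Cfsg.Agent.Lib.Helper44_QuadClass.exists_hyperbolic_partner Q hQ hw0 hw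
  have hw'w : QuadraticMap.polar (⇑Q) w' w = 1 := by rw [QuadraticMap.polar_comm, hww']
  have hQb : Q (w - w') = -1 := by
    have := map_sub_smul Q w' w 1
    rw [one_smul] at this
    rw [this, hw, hw', hw'w]; ring
  have hQa : Q (w - c • w') = -c := by
    rw [map_sub_smul Q w' w c, hw, hw', hw'w]; ring
  have ha : Q (w - c • w') ≠ 0 := by rw [hQa]; exact neg_ne_zero.mpr hc
  have hb : Q (w - w') ≠ 0 := by rw [hQb]; exact neg_ne_zero.mpr one_ne_zero
  refine ⟨w - c • w', w - w', ha, hb, ⟨c, by rw [hQa, hQb]; ring⟩, ?_⟩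
  apply mem_stab_of_le
  intro x hx
  have hcoe : (((reflT Q (w - c • w') * reflT Q (w - w') : ↥(Cfsg.isometryGroup F (⇑Q))) :
      Matrix.GeneralLinearGroup ι F) : Matrix ι ι F)
      = Cfsg.reflectionMatrix (⇑Q) (w - c • w') * Cfsg.reflectionMatrix (⇑Q) (w - w') := by
    rw [← reflT_coe Q _ ha, ← reflT_coe Q _ hb]
    rfl
  have hpx : QuadraticMap.polar (⇑Q) w x = 0 := by
    rw [QuadraticMap.polar, hW0 _ (W.add_mem hwW hx), hw, hW0 x hx]
    ring
  rw [hcoe, scaling_mulVec Q hw hw' hww' hc x hpx]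
  exact W.add_mem hx (W.smul_mem _ hwW)

/-- A reflection in a vector orthogonal to `W` stabilises `W`. -/
theorem reflT_mem_stab_of_mem_orth (Q : QuadraticForm F (ι → F)) (W : Submodule F (ι → F))
    {v : ι → F} (hv : Q v ≠ 0) (hvo : v ∈ orth Q W) : reflT Q v ∈ stab (⇑Q) W := by
  apply mem_stab_of_le
  intro x hx
  rw [reflT_coe Q v hv, refl_fix_of_mem_orth Q hvo x hx]
  exact hx

/-- A reflection in a vector of `W` stabilises `W`. -/
theorem reflT_mem_stab_of_mem (Q : QuadraticForm F (ι → F)) (W : Submodule F (ι → F))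
    {v : ι → F} (hv : Q v ≠ 0) (hvW : v ∈ W) : reflT Q v ∈ stab (⇑Q) W := by
  apply mem_stab_of_le
  intro x hx
  rw [reflT_coe Q v hv, reflectionMatrix_mulVec]
  exact W.sub_mem hx (W.smul_mem _ hvW)

omit [DecidableEq ι] in
/-- If `W` is totally singular of dimension less than half, its orthogonal contains a non-singular vector. -/
theorem exists_nonsingular_orth (Q : QuadraticForm F (ι → F))
    (hQ : (QuadraticMap.polarBilin Q).Nondegenerate) (W : Submodule F (ι → F))
    (hlt : 2 * finrank F W < Fintype.card ι) : ∃ v ∈ orth Q W, Q v ≠ 0 := by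
  by_contra hcon
  push Not at hcon
  have hle : orth Q W ≤ orth Q (orth Q W) := by
    intro x hx
    rw [mem_orth]
    intro y hy
    rw [QuadraticMap.polar, hcon _ ((orth Q W).add_mem hy hx), hcon y hy, hcon x hx]
    ring
  rw [orth_orth Q hQ] at hle
  have h1 := Submodule.finrank_mono hle
  have h2 := LinearMap.BilinForm.finrank_orthogonal hQ W
  have h3 : finrank F (ι → F) = Fintype.card ι := by simp
  rw [h3] at h2
  have h4 : finrank F ↥(orth Q W) = Fintype.card ι - finrank F W := h2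
  omega

end Cfsg.Agent.Lib.Helper44_Scaling
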