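import Mathlib
import Cfsg.Agent.Lib.Helper44_NormalForm
import Cfsg.Agent.Lib.Helper44_Scaling

set_option autoImplicit false

/-!
Universality of non-degenerate quadratic forms of dimension at least two over finite fields, and the resulting
supplement `S Ω = O` for subgroups `S` containing all reflections in the vectors of a non-degenerate subspace of
dimension at least two (helper44).
-/

namespace Cfsg.Agent.Lib.Helper44_Universal

open Cfsg Matrix Module Cfsg.Agent.Lib.Helper44_Orth Cfsg.Agent.Lib.Helper44_Refl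
  Cfsg.Agent.Lib.Helper44_Spinor Cfsg.Agent.Lib.Helper44_Supplement Cfsg.Agent.Lib.Helper44_CD2
  Cfsg.Agent.Lib.Helper44_QuadClass Cfsg.Agent.Lib.Helper44_NormalForm
  Cfsg.Agent.Lib.Helper14_CartanDieudonne Cfsg.Agent.Lib.Helper14_NegOne

/-- A non-degenerate quadratic form of dimension at least two over a finite field of odd order represents
every scalar. -/
theorem exists_norm_eq_of_nondegenerate {F : Type*} [Field F] [Finite F] (h2 : (2 : F) ≠ 0)
    {V : Type*} [AddCommGroup V]
    [Module F V] [FiniteDimensional F V] (Q : QuadraticForm F V)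
    (hQ : (QuadraticMap.polarBilin Q).Nondegenerate) (hdim : 2 ≤ finrank F V) (c : F) :
    ∃ v : V, Q v = c := by
  have : Invertible (2 : F) := invertibleOfNonzero h2
  have hsymm : LinearMap.BilinForm.IsSymm (QuadraticMap.polarBilin Q) := by
    rw [LinearMap.BilinForm.isSymm_def]
    intro x y
    simp only [QuadraticMap.polarBilin_apply_apply]
    exact QuadraticMap.polar_comm _ _ _
  obtain ⟨v, hv⟩ := LinearMap.BilinForm.exists_orthogonal_basis
    (LinearMap.BilinForm.isSymm_iff.mp hsymm)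
  have hns : ∀ i, Q (v i) ≠ 0 := by
    intro i hi
    have h1 := hv.not_isOrtho_basis_self_of_separatingLeft hQ.1 i
    apply h1
    rw [QuadraticMap.polarBilin_apply_apply, polar_self', hi, mul_zero]
  set i0 : Fin (finrank F V) := ⟨0, by omega⟩ with hi0
  set i1 : Fin (finrank F V) := ⟨1, by omega⟩ with hi1
  have h01 : i0 ≠ i1 := by simp [hi0, hi1, Fin.ext_iff]
  have horth : QuadraticMap.polar (⇑Q) (v i0) (v i1) = 0 := by
    have := hv h01
    simpa [Function.onFun] using this
  obtain ⟨s, t, hst⟩ := exists_sq_sum h2 (hns i0) (hns i1) (-c)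
  refine ⟨s • v i0 + t • v i1, ?_⟩
  rw [map_smul_add, QuadraticMap.map_smul, QuadraticMap.polar_smul_right, horth]
  simp only [smul_eq_mul, mul_zero, add_zero]
  linear_combination hst

variable {ι : Type} [Fintype ι] [DecidableEq ι] {F : Type*} [Field F] [Fintype F]

omit [DecidableEq ι] in
/-- Universality of a non-degenerate subspace of dimension at least two (odd characteristic). -/
theorem exists_mem_norm_eq (h2 : (2 : F) ≠ 0) (Q : QuadraticForm F (ι → F))
    (N : Submodule F (ι → F)) (hN : N ⊓ orth Q N = ⊥) (hdim : 2 ≤ finrank F N) (c : F) :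
    ∃ v ∈ N, Q v = c := by
  have hnd : (QuadraticMap.polarBilin (Q.comp N.subtype)).Nondegenerate := by
    rw [polarBilin_comp_subtype]
    exact LinearMap.BilinForm.nondegenerate_restrict_of_disjoint_orthogonal _
      (polarBilin_isSymm Q).isRefl (disjoint_iff.mpr hN)
  obtain ⟨v, hv⟩ := exists_norm_eq_of_nondegenerate h2 (Q.comp N.subtype) hnd hdim c
  exact ⟨v.1, v.2, hv⟩

/-- **Supplement from a non-degenerate subspace**: if `S` contains the reflections in all non-singular vectors of a
non-degenerate subspace `N` of dimension at least two, then `S Ω = O`. -/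
theorem exists_mul_mem_omega_of_nondeg (Q : QuadraticForm F (ι → F))
    (hQ : (QuadraticMap.polarBilin Q).Nondegenerate)
    (hex : Fintype.card F ≠ 2 ∨ Fintype.card ι ≠ 4) (S : Subgroup ↥(Cfsg.isometryGroup F (⇑Q)))
    (N : Submodule F (ι → F)) (hN : N ⊓ orth Q N = ⊥) (hdim : 2 ≤ finrank F N)
    (hNS : ∀ v ∈ N, Q v ≠ 0 → reflT Q v ∈ S) (g : ↥(Cfsg.isometryGroup F (⇑Q))) :
    ∃ s ∈ S, s * g ∈ Cfsg.Omega F (⇑Q) := by
  have hNne : N ≠ ⊥ := by
    intro hbot
    rw [hbot, finrank_bot] at hdim
    omega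
  obtain ⟨x, hxN, hx0⟩ := Submodule.exists_mem_ne_zero_of_ne_bot hNne
  obtain ⟨v₀, hv₀N, hv₀⟩ := exists_nonsingular Q hN hxN hx0
  refine exists_mul_mem_omega Q hQ hex S v₀ hv₀ (hNS v₀ hv₀N hv₀) ?_ g
  intro h2 c hc
  obtain ⟨a, haN, ha⟩ := exists_mem_norm_eq h2 Q N hN hdim c
  obtain ⟨b, hbN, hb⟩ := exists_mem_norm_eq h2 Q N hN hdim 1
  have ha0 : Q a ≠ 0 := by rw [ha]; exact hc
  have hb0 : Q b ≠ 0 := by rw [hb]; exact one_ne_zero
  refine ⟨a, b, ha0, hb0, ⟨c, by rw [ha, hb]; ring⟩, ?_⟩
  exact S.mul_mem (hNS a haN ha0) (hNS b hbN hb0)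

end Cfsg.Agent.Lib.Helper44_Universal
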