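import Mathlib
import Cfsg.Agent.Lib.Helper44_OmegaOdd
import Cfsg.Agent.Lib.Helper44_Universal
import Cfsg.Agent.Lib.Helper44_OmegaAll

set_option autoImplicit false

/-!
The index of `Ω` in the isometry group over a finite field of odd order is four (helper44): `Ω` is the kernel of
the surjective homomorphism `(det, spinor character) : O(Q) → {±1} × {±1}`.
-/

namespace Cfsg.Agent.Lib.Helper44_Index

open Cfsg Matrix Module Cfsg.Agent.Lib.Helper44_Orth Cfsg.Agent.Lib.Helper44_Refl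
  Cfsg.Agent.Lib.Helper44_Spinor Cfsg.Agent.Lib.Helper44_OmegaOdd
  Cfsg.Agent.Lib.Helper44_Universal Cfsg.Agent.Lib.Helper14_CartanDieudonne

variable {ι : Type} [Fintype ι] [DecidableEq ι] {F : Type*} [Field F]

/-- The determinant of an isometry is `±1`. -/
theorem det_eq_one_or (h2 : (2 : F) ≠ 0) (Q : QuadraticForm F (ι → F))
    (hQ : (QuadraticMap.polarBilin Q).Nondegenerate) (g : ↥(Cfsg.isometryGroup F (⇑Q))) :
    ((g : Matrix.GeneralLinearGroup ι F) : Matrix ι ι F).det = 1 ∨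
      ((g : Matrix.GeneralLinearGroup ι F) : Matrix ι ι F).det = -1 := by
  classical
  obtain ⟨vs, hvs, hg⟩ := exists_list_reflT h2 Q hQ g
  have hcoe := prod_reflT_coe Q vs hvs
  rw [← hg] at hcoe
  rw [hcoe, det_prod Q vs hvs]
  exact neg_one_pow_eq_or F vs.length

/-- The determinant as a character with values in `ℤˣ`. -/
noncomputable def detZ (h2 : (2 : F) ≠ 0) (Q : QuadraticForm F (ι → F))
    (hQ : (QuadraticMap.polarBilin Q).Nondegenerate) : ↥(Cfsg.isometryGroup F (⇑Q)) →* ℤˣ := by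
  classical
  exact MonoidHom.mk'
    (fun g => if ((g : Matrix.GeneralLinearGroup ι F) : Matrix ι ι F).det = 1 then 1 else -1)
    (by
      intro a b
      have hne : (-1 : F) ≠ 1 := by
        intro h
        apply h2
        have : (1 : F) + 1 = 0 := by nth_rewrite 1 [← h]; ring
        rw [← this]; ring
      have hmul : (((a * b : ↥(Cfsg.isometryGroup F (⇑Q))) : Matrix.GeneralLinearGroup ι F) :
          Matrix ι ι F).det
          = ((a : Matrix.GeneralLinearGroup ι F) : Matrix ι ι F).det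
            * ((b : Matrix.GeneralLinearGroup ι F) : Matrix ι ι F).det := by
        rw [← Matrix.det_mul]; rfl
      simp only [hmul]
      rcases det_eq_one_or h2 Q hQ a with ha | ha <;> rcases det_eq_one_or h2 Q hQ b with hb | hb <;>
        simp [ha, hb, hne])

theorem detZ_eq_one_iff (h2 : (2 : F) ≠ 0) (Q : QuadraticForm F (ι → F))
    (hQ : (QuadraticMap.polarBilin Q).Nondegenerate) (g : ↥(Cfsg.isometryGroup F (⇑Q))) :
    detZ h2 Q hQ g = 1 ↔ ((g : Matrix.GeneralLinearGroup ι F) : Matrix ι ι F).det = 1 := by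
  classical
  show (if ((g : Matrix.GeneralLinearGroup ι F) : Matrix ι ι F).det = 1 then (1 : ℤˣ) else -1) = 1 ↔ _
  by_cases h : ((g : Matrix.GeneralLinearGroup ι F) : Matrix ι ι F).det = 1
  · simp [h]
  · simp only [h, if_false, iff_false]
    decide

theorem detZ_refl (h2 : (2 : F) ≠ 0) (Q : QuadraticForm F (ι → F))
    (hQ : (QuadraticMap.polarBilin Q).Nondegenerate) (v : ι → F) (hv : Q v ≠ 0) :
    detZ h2 Q hQ (refl Q v hv) = -1 := by
  have h1 : ¬ detZ h2 Q hQ (refl Q v hv) = 1 := by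
    rw [detZ_eq_one_iff, refl_coe, det_reflectionMatrix Q hv]
    intro h
    apply h2
    have : (1 : F) + 1 = 0 := by nth_rewrite 1 [← h]; ring
    rw [← this]; ring
  rcases Int.units_eq_one_or (detZ h2 Q hQ (refl Q v hv)) with h | h
  · exact absurd h h1
  · exact h

variable [Fintype F]

/-- **Index of `Ω`** over a finite field of odd order: `[O(Q) : Ω(Q)] = 4` in dimension at least two. -/
theorem index_omega_odd (h2 : (2 : F) ≠ 0) (Q : QuadraticForm F (ι → F))
    (hQ : (QuadraticMap.polarBilin Q).Nondegenerate) (hdim : 2 ≤ Fintype.card ι) :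
    (Cfsg.Omega F (⇑Q)).index = 4 := by
  classical
  set ψ : ↥(Cfsg.isometryGroup F (⇑Q)) →* ℤˣ × ℤˣ := (detZ h2 Q hQ).prod (theta Q) with hψ
  have hker : ψ.ker = Cfsg.Omega F (⇑Q) := by
    ext g
    rw [MonoidHom.mem_ker, mem_omega_iff_det_theta h2 Q hQ, hψ, MonoidHom.prod_apply,
      Prod.mk_eq_one, detZ_eq_one_iff]
  -- vectors of square and non-square norm
  have hfin : 2 ≤ finrank F (ι → F) := by simpa using hdim
  obtain ⟨u, hu⟩ := exists_norm_eq_of_nondegenerate h2 Q hQ hfin 1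
  obtain ⟨d, hd⟩ := FiniteField.exists_nonsquare
    (Cfsg.Agent.Lib.Helper44_FinSq.ringChar_ne_two_of_two_ne_zero h2)
  obtain ⟨v, hv⟩ := exists_norm_eq_of_nondegenerate h2 Q hQ hfin d
  have hu0 : Q u ≠ 0 := by rw [hu]; exact one_ne_zero
  have hv0 : Q v ≠ 0 := by
    rw [hv]; intro h0; apply hd; rw [h0]; exact ⟨0, by ring⟩
  have husq : IsSquare (Q u) := by rw [hu]; exact ⟨1, by ring⟩
  have hvsq : ¬ IsSquare (Q v) := by rw [hv]; exact hd
  have hψu : ψ (refl Q u hu0) = (-1, -1) := by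
    rw [hψ, MonoidHom.prod_apply, detZ_refl, (theta_refl Q h2 u hu0).1 husq]
  have hψv : ψ (refl Q v hv0) = (-1, 1) := by
    rw [hψ, MonoidHom.prod_apply, detZ_refl, (theta_refl Q h2 v hv0).2 hvsq]
  have hsurj : Function.Surjective ψ := by
    rintro ⟨a, b⟩
    rcases Int.units_eq_one_or a with rfl | rfl <;> rcases Int.units_eq_one_or b with rfl | rfl
    · exact ⟨1, map_one ψ⟩
    · refine ⟨refl Q u hu0 * refl Q v hv0, ?_⟩
      rw [map_mul, hψu, hψv]; rfl
    · exact ⟨refl Q v hv0, hψv⟩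
    · exact ⟨refl Q u hu0, hψu⟩
  rw [← hker, Subgroup.index_ker, MonoidHom.range_eq_top.mpr hsurj]
  rw [Nat.card_congr (Subgroup.topEquiv (G := ℤˣ × ℤˣ)).toEquiv, Nat.card_prod]
  simp

/-- **Index of `Ω`** over a finite field of characteristic two: `[O(Q) : Ω(Q)] = 2` (outside `O₄(2)`), given a
non-singular vector. -/
theorem index_omega_two (h2 : (2 : F) = 0) (Q : QuadraticForm F (ι → F))
    (hQ : (QuadraticMap.polarBilin Q).Nondegenerate)
    (hex : Fintype.card F ≠ 2 ∨ Fintype.card ι ≠ 4) {v₀ : ι → F} (hv₀ : Q v₀ ≠ 0) :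
    (Cfsg.Omega F (⇑Q)).index = 2 := by
  classical
  rw [Subgroup.index_eq_two_iff]
  refine ⟨reflT Q v₀, fun b => ?_⟩
  obtain ⟨vs, hvs, rfl⟩ := Cfsg.Agent.Lib.Helper44_OmegaAll.exists_list_reflT_all Q hQ hex b
  have h1 : (vs.map (reflT Q)).prod * reflT Q v₀ = ((vs ++ [v₀]).map (reflT Q)).prod := by
    simp
  have hvs' : ∀ v ∈ vs ++ [v₀], Q v ≠ 0 := by
    intro v hv
    rcases List.mem_append.mp hv with hv | hv
    · exact hvs v hv
    · rw [List.mem_singleton.mp hv]; exact hv₀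
  rw [h1, Cfsg.Agent.Lib.Helper44_OmegaAll.prod_mem_omega_iff_even h2 Q hQ hex _ hvs',
    Cfsg.Agent.Lib.Helper44_OmegaAll.prod_mem_omega_iff_even h2 Q hQ hex _ hvs,
    List.length_append, List.length_singleton, Nat.even_add_one]
  rcases Nat.even_or_odd vs.length with h | h
  · right
    exact ⟨h, fun hn => hn h⟩
  · left
    rw [← Nat.not_even_iff_odd] at h
    exact ⟨h, h⟩

end Cfsg.Agent.Lib.Helper44_Index
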