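/-
S2547 (Steinberg character of `PΩ_{2m+1}(q)`, `q` odd): DEFINITIONS (architect helper68).
Index set `I m = Unit ⊕ (Fin m ⊕ Fin m)` (`z0`, `ie i`, `jf i`), `op` exchanges `e_i`, `f_i`; Gram matrix `J`;
`OO m F` = isometry group, `GO m F` = `Ω`; `φO`, `φ` the matrices; `mkO M h` the isometry with matrix `M`
(`h : Mᵀ * J * M = J`); `φO_inv_apply`; root elements `lx a c t` (long), `sx a t` (short) in `Ω`
(`lx_val`, `sx_val`), Weyl representatives `wl a c`, `ws a` (`wl_val`, `ws_val`); `Boo`, `Too`, `Moo`, `Noo`;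
simple system `xs j`, `ss j`, `Us j`.
-/
import Mathlib
import Cfsg.Agent.Lib.Helper68_MatGrp
import Cfsg.Agent.Lib.Helper68_MatGrpU
import Cfsg.Agent.Lib.Helper44_StdForms
import Cfsg.Agent.Lib.Helper44_OmegaOdd
import Cfsg.Agent.Lib.Helper14_POmegaSimple
import Cfsg.Agent.Lib.Helper40_OrdOrth
import Cfsg.Agent.Lib.Helper44_Index

set_option autoImplicit false
set_option linter.unusedSectionVars false
set_option linter.unusedSimpArgs false

namespace Cfsg.Agent.Lib.Helper68_StOoDefs

open Matrix Cfsg.Agent.Lib.Helper68_MatGrp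

variable {m : ℕ} {F : Type*} [Field F]

/-- the index type of `quadFormOdd` -/
abbrev I (m : ℕ) : Type := Unit ⊕ (Fin m ⊕ Fin m)

/-- the anisotropic index -/
def z0 : I m := Sum.inl ()

/-- the index of `e_i` -/
def ie (i : Fin m) : I m := Sum.inr (Sum.inl i)

/-- the index of `f_i` -/
def jf (i : Fin m) : I m := Sum.inr (Sum.inr i)

/-- the opposite index: exchanges `e_i` and `f_i`, fixes `z0` -/
def op : I m → I m := Sum.map id Sum.swap

@[simp] theorem op_z0 : op (z0 : I m) = z0 := rfl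
@[simp] theorem op_ie (i : Fin m) : op (ie i) = jf i := rfl
@[simp] theorem op_jf (i : Fin m) : op (jf i) = ie i := rfl

@[simp] theorem op_op (a : I m) : op (op a) = a := by
  rcases a with a | a | a <;> rfl

theorem op_injective : Function.Injective (op : I m → I m) := fun a b h => by
  have := congrArg op h
  simpa using this

theorem op_eq_iff {a b : I m} : op a = b ↔ a = op b := by
  constructor
  · rintro rfl; simp
  · rintro rfl; simp

theorem op_eq_self_iff {a : I m} : op a = a ↔ a = z0 := by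
  rcases a with a | a | a
  · simp [z0, op]
  · simp [op, z0]
  · simp [op, z0]

theorem op_eq_z0_iff {a : I m} : op a = z0 ↔ a = z0 := by
  rw [op_eq_iff, op_z0]

/-- `op` as a permutation -/
def opE : Equiv.Perm (I m) := ⟨op, op, op_op, op_op⟩

@[simp] theorem opE_apply (a : I m) : opE a = op a := rfl

/-- the height: `e_0 < e_1 < ... < e_{m-1} < z0 < f_{m-1} < ... < f_0` -/
def ht (m : ℕ) : I m → ℕ
  | Sum.inl _ => m
  | Sum.inr (Sum.inl i) => i.val
  | Sum.inr (Sum.inr i) => 2 * m - i.val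

@[simp] theorem ht_z0 : ht m (z0 : I m) = m := rfl
@[simp] theorem ht_ie (i : Fin m) : ht m (ie i) = i.val := rfl
@[simp] theorem ht_jf (i : Fin m) : ht m (jf i) = 2 * m - i.val := rfl

theorem ht_injective (m : ℕ) : Function.Injective (ht m) := by
  intro a b h
  rcases a with a | a | a <;> rcases b with b | b | b <;> simp only [ht] at h
  · rfl
  · have := b.2; omega
  · have := b.2; omega
  · have := a.2; omega
  · congr 2; exact Fin.ext h
  · have := a.2; have := b.2; omega
  · have := a.2; omega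
  · have := a.2; have := b.2; omega
  · congr 2; apply Fin.ext; have := a.2; have := b.2; omega

theorem ht_le (a : I m) : ht m a ≤ 2 * m := by
  rcases a with a | a | a
  · simp only [ht]; omega
  · simp only [ht]; have := a.2; omega
  · simp only [ht]; omega

theorem ht_op (a : I m) : ht m (op a) = 2 * m - ht m a := by
  rcases a with a | a | a
  · simp only [op, Sum.map_inl, id, ht]; omega
  · simp only [op, Sum.map_inr, Sum.swap_inl, ht]
  · simp only [op, Sum.map_inr, Sum.swap_inr, ht]; have := a.2; omega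

/-- the weights of the Gram matrix -/
def wt (a : I m) : F := if a = z0 then 2 else 1

@[simp] theorem wt_z0 : wt (z0 : I m) = (2 : F) := if_pos rfl

theorem wt_of_ne {a : I m} (h : a ≠ z0) : wt a = (1 : F) := if_neg h

@[simp] theorem wt_ie (i : Fin m) : wt (ie i) = (1 : F) := wt_of_ne (by simp [ie, z0])
@[simp] theorem wt_jf (i : Fin m) : wt (jf i) = (1 : F) := wt_of_ne (by simp [jf, z0])

@[simp] theorem wt_op (a : I m) : wt (op a) = (wt a : F) := by
  unfold wt
  simp only [op_eq_z0_iff]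

/-- the Gram matrix of the polar form of `quadFormOdd` -/
def J : Matrix (I m) (I m) F := Matrix.of fun a b => if b = op a then wt a else 0

theorem J_apply (a b : I m) : (J : Matrix (I m) (I m) F) a b = if b = op a then wt a else 0 := rfl

theorem J_transpose : (J : Matrix (I m) (I m) F)ᵀ = J := by
  ext a b
  rw [Matrix.transpose_apply, J_apply, J_apply]
  by_cases h : b = op a
  · have h' : a = op b := by rw [h, op_op]
    rw [if_pos h, if_pos h', h, wt_op]
  · have h' : ¬ a = op b := fun e => h (by rw [e, op_op])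
    rw [if_neg h, if_neg h']

theorem J_mul_single (k s : I m) (t : F) :
    (J : Matrix (I m) (I m) F) * single k s t = single (op k) s (wt k * t) := by
  ext a b
  rw [Matrix.mul_apply, Finset.sum_eq_single (op a)]
  · rw [J_apply, if_pos rfl, Matrix.single_apply, Matrix.single_apply]
    by_cases h : k = op a ∧ s = b
    · have h' : op k = a ∧ s = b := ⟨by rw [h.1, op_op], h.2⟩
      rw [if_pos h, if_pos h', h.1, wt_op]
    · have h' : ¬ (op k = a ∧ s = b) := fun e => h ⟨by rw [← e.1, op_op], e.2⟩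
      rw [if_neg h, if_neg h', mul_zero]
  · intro c _ hc
    rw [J_apply, if_neg hc, zero_mul]
  · intro h; exact absurd (Finset.mem_univ _) h

theorem single_mul_J (k s : I m) (t : F) :
    single k s t * (J : Matrix (I m) (I m) F) = single k (op s) (t * wt s) := by
  have h := congrArg Matrix.transpose (J_mul_single s k t)
  rw [Matrix.transpose_mul, Matrix.transpose_single, Matrix.transpose_single, J_transpose] at h
  rw [h, mul_comm]


/-! ### the groups -/

/-- the full isometry group `O_{2m+1}(F)` -/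
abbrev OO (m : ℕ) (F : Type*) [Field F] : Type _ := ↥(Cfsg.isometryGroup F (Cfsg.quadFormOdd m F))

/-- `Ω_{2m+1}(F)` -/
abbrev GO (m : ℕ) (F : Type*) [Field F] : Type _ := ↥(Cfsg.Omega F (Cfsg.quadFormOdd m F))

/-- the matrix of an isometry -/
def φO (m : ℕ) (F : Type*) [Field F] : OO m F →* Matrix (I m) (I m) F :=
  (Units.coeHom _).comp (Subgroup.subtype _)

/-- the matrix of an element of `Ω` -/
def φ (m : ℕ) (F : Type*) [Field F] : GO m F →* Matrix (I m) (I m) F :=
  (φO m F).comp (Subgroup.subtype _)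

theorem φ_apply (g : GO m F) : φ m F g = φO m F g.1 := rfl

theorem φO_injective : Function.Injective (φO m F) := by
  intro g h e
  apply Subtype.ext
  apply Units.ext
  exact e

theorem φ_injective : Function.Injective (φ m F) := by
  intro g h e
  apply Subtype.ext
  exact φO_injective e

theorem dot_J (v : I m → F) :
    v ⬝ᵥ ((J : Matrix (I m) (I m) F) *ᵥ v) = 2 * Cfsg.quadFormOdd m F v := by
  have h1 : ∀ a : I m, ((J : Matrix (I m) (I m) F) *ᵥ v) a = wt a * v (op a) := by
    intro a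
    rw [Matrix.mulVec, dotProduct, Finset.sum_eq_single (op a)]
    · rw [J_apply, if_pos rfl]
    · intro b _ hb
      rw [J_apply, if_neg hb, zero_mul]
    · intro h; exact absurd (Finset.mem_univ _) h
  unfold dotProduct
  simp only [h1]
  rw [Fintype.sum_sum_type, Fintype.sum_sum_type]
  unfold Cfsg.quadFormOdd
  simp only [Finset.univ_unique, Finset.sum_singleton]
  have e1 : wt (Sum.inl default : I m) = (2 : F) := wt_z0
  have e2 : ∀ i : Fin m, wt (Sum.inr (Sum.inl i) : I m) = (1 : F) := wt_ie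
  have e3 : ∀ i : Fin m, wt (Sum.inr (Sum.inr i) : I m) = (1 : F) := wt_jf
  simp only [e1, e2, e3, op, Sum.map_inl, Sum.map_inr, Sum.swap_inl, Sum.swap_inr, id, one_mul]
  rw [mul_add, Finset.mul_sum, ← Finset.sum_add_distrib]
  congr 1
  · have : (default : Unit) = () := rfl
    rw [this]; ring
  · apply Finset.sum_congr rfl
    intro i _
    ring

/-- a matrix preserving the Gram matrix preserves the quadratic form (`2 ≠ 0`) -/
theorem quadFormOdd_mulVec [NeZero (2 : F)] (M : Matrix (I m) (I m) F)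
    (hM : Mᵀ * J * M = J) (v : I m → F) :
    Cfsg.quadFormOdd m F (M *ᵥ v) = Cfsg.quadFormOdd m F v := by
  have h2 : (2 : F) ≠ 0 := two_ne_zero
  apply mul_left_cancel₀ h2
  rw [← dot_J, ← dot_J]
  have h : ∀ w : I m → F, (M *ᵥ v) ⬝ᵥ w = v ⬝ᵥ (Mᵀ *ᵥ w) := by
    intro w
    rw [dotProduct_comm, Matrix.dotProduct_mulVec, ← Matrix.mulVec_transpose, dotProduct_comm]
  rw [h, Matrix.mulVec_mulVec, Matrix.mulVec_mulVec, hM]


/-- the inverse of the Gram matrix -/
def Jinv : Matrix (I m) (I m) F := Matrix.of fun a b => if b = op a then (wt a)⁻¹ else 0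

theorem wt_ne_zero [NeZero (2 : F)] (a : I m) : (wt a : F) ≠ 0 := by
  unfold wt
  split_ifs
  · exact two_ne_zero
  · exact one_ne_zero

theorem Jinv_mul_J [NeZero (2 : F)] : (Jinv : Matrix (I m) (I m) F) * J = 1 := by
  ext a b
  rw [Matrix.mul_apply, Finset.sum_eq_single (op a)]
  · show (if op a = op a then (wt a)⁻¹ else 0) * (if b = op (op a) then wt (op a) else 0) = _
    rw [if_pos rfl, op_op, wt_op, Matrix.one_apply]
    by_cases h : b = a
    · rw [if_pos h, if_pos h.symm, inv_mul_cancel₀ (wt_ne_zero a)]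
    · rw [if_neg h, if_neg (Ne.symm h), mul_zero]
  · intro c _ hc
    show (if c = op a then (wt a)⁻¹ else 0) * _ = 0
    rw [if_neg hc, zero_mul]
  · intro h; exact absurd (Finset.mem_univ _) h

theorem J_mul_Jinv [NeZero (2 : F)] : (J : Matrix (I m) (I m) F) * Jinv = 1 :=
  mul_eq_one_comm.mp Jinv_mul_J

/-- an isometry preserves the Gram matrix -/
theorem gram_eq_J :
    Cfsg.Agent.Lib.Helper40_OrdOrth.gram (Cfsg.quadFormOdd m F) = (J : Matrix (I m) (I m) F) := by
  have h := Cfsg.Agent.Lib.Helper44_StdForms.gram_quadFormOdd (m := m) (F := F)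
  unfold Cfsg.Agent.Lib.Helper40_OrdOrth.gram
  rw [h]
  ext a b
  rcases a with a | a | a <;> rcases b with b | b | b <;>
    simp [J_apply, op, wt, z0, Matrix.one_apply, eq_comm]

theorem φO_gram (g : OO m F) : (φO m F g)ᵀ * J * φO m F g = J := by
  have hg := (Cfsg.Agent.Lib.Helper44_Orth.mem_isometryGroup_iff _ g.1).mp g.2
  have h := Cfsg.Agent.Lib.Helper40_OrdOrth.gram_invariant
    (Cfsg.Agent.Lib.Helper44_StdForms.qfOdd m F) (φO m F g) (by
      intro v
      rw [Cfsg.Agent.Lib.Helper44_StdForms.coe_qfOdd]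
      exact hg v)
  rw [Cfsg.Agent.Lib.Helper44_StdForms.coe_qfOdd, gram_eq_J] at h
  exact h

/-- the isometry with a given matrix preserving the Gram matrix -/
def mkO [NeZero (2 : F)] (M : Matrix (I m) (I m) F) (hM : Mᵀ * J * M = J) : OO m F :=
  ⟨⟨M, Jinv * Mᵀ * J, by
      have h : Jinv * Mᵀ * J * M = 1 := by
        rw [Matrix.mul_assoc, Matrix.mul_assoc, ← Matrix.mul_assoc Mᵀ, hM, Jinv_mul_J]
      exact mul_eq_one_comm.mp h, by
      rw [Matrix.mul_assoc, Matrix.mul_assoc, ← Matrix.mul_assoc Mᵀ, hM, Jinv_mul_J]⟩, by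
    rw [Cfsg.Agent.Lib.Helper44_Orth.mem_isometryGroup_iff]
    intro v
    exact quadFormOdd_mulVec M hM v⟩

@[simp] theorem φO_mkO [NeZero (2 : F)] (M : Matrix (I m) (I m) F) (hM : Mᵀ * J * M = J) :
    φO m F (mkO M hM) = M := rfl


theorem φO_inv [NeZero (2 : F)] (g : OO m F) : φO m F g⁻¹ = Jinv * (φO m F g)ᵀ * J := by
  have h1 : Jinv * (φO m F g)ᵀ * J * φO m F g = 1 := by
    rw [Matrix.mul_assoc, Matrix.mul_assoc, ← Matrix.mul_assoc (φO m F g)ᵀ, φO_gram, Jinv_mul_J]
  have h2 : φO m F g * φO m F g⁻¹ = 1 := by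
    rw [← map_mul, mul_inv_cancel, map_one]
  calc φO m F g⁻¹ = (Jinv * (φO m F g)ᵀ * J * φO m F g) * φO m F g⁻¹ := by rw [h1, Matrix.one_mul]
    _ = Jinv * (φO m F g)ᵀ * J := by rw [Matrix.mul_assoc _ (φO m F g), h2, Matrix.mul_one]

/-- the entries of the inverse of an isometry -/
theorem φO_inv_apply [NeZero (2 : F)] (g : OO m F) (a b : I m) :
    φO m F g⁻¹ a b = (wt a)⁻¹ * φO m F g (op b) (op a) * wt b := by
  rw [φO_inv, Matrix.mul_apply, Finset.sum_eq_single (op b)]
  · rw [J_apply, if_pos (op_op b).symm, wt_op, Matrix.mul_apply, Finset.sum_eq_single (op a)]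
    · show (if op a = op a then (wt a)⁻¹ else 0) * _ * _ = _
      rw [if_pos rfl, Matrix.transpose_apply]
    · intro c _ hc
      show (if c = op a then (wt a)⁻¹ else 0) * _ = 0
      rw [if_neg hc, zero_mul]
    · intro h; exact absurd (Finset.mem_univ _) h
  · intro c _ hc
    have : ¬ b = op c := fun e => hc (by rw [e, op_op])
    rw [J_apply, if_neg this, mul_zero]
  · intro h; exact absurd (Finset.mem_univ _) h

theorem φ_inv_apply [NeZero (2 : F)] (g : GO m F) (a b : I m) :
    φ m F g⁻¹ a b = (wt a)⁻¹ * φ m F g (op b) (op a) * wt b :=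
  φO_inv_apply g.1 a b


/-! ### membership in `Ω` -/

theorem card_I : Fintype.card (I m) = 2 * m + 1 := by
  simp [I]; ring

theorem index_GO [Fintype F] [NeZero (2 : F)] (hm : 1 ≤ m) :
    (Cfsg.Omega F (Cfsg.quadFormOdd m F)).index = 4 := by
  have h2 : (2 : F) ≠ 0 := two_ne_zero
  have h := Cfsg.Agent.Lib.Helper44_Index.index_omega_odd h2
    (Cfsg.Agent.Lib.Helper44_StdForms.qfOdd m F)
    (Cfsg.Agent.Lib.Helper14_POmegaSimple.nondegenerate_qfOdd h2 m) (by rw [card_I]; omega)
  rw [Cfsg.Agent.Lib.Helper44_StdForms.coe_qfOdd] at h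
  exact h

/-- fourth powers of isometries lie in `Ω` -/
theorem pow_four_mem [Fintype F] [NeZero (2 : F)] (hm : 1 ≤ m) (g : OO m F) :
    g ^ 4 ∈ Cfsg.Omega F (Cfsg.quadFormOdd m F) := by
  have h := Subgroup.pow_index_mem (Cfsg.Omega F (Cfsg.quadFormOdd m F)) g
  rw [index_GO hm] at h
  exact h

/-- squares of isometries lie in `Ω` -/
theorem sq_mem [Fintype F] [NeZero (2 : F)] (g : OO m F) :
    g * g ∈ Cfsg.Omega F (Cfsg.quadFormOdd m F) := by
  have h2 : (2 : F) ≠ 0 := two_ne_zero
  have hQ := Cfsg.Agent.Lib.Helper14_POmegaSimple.nondegenerate_qfOdd h2 m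
  have key : ∀ (Q' : (I m → F) → F) (_ : ⇑(Cfsg.Agent.Lib.Helper44_StdForms.qfOdd m F) = Q')
      (g : ↥(Cfsg.isometryGroup F Q')), g * g ∈ Cfsg.Omega F Q' := by
    intro Q' hQ' g
    subst hQ'
    rw [Cfsg.Agent.Lib.Helper44_OmegaOdd.mem_omega_iff_det_theta h2 _ hQ]
    constructor
    · rw [← Cfsg.Agent.Lib.Helper44_Index.detZ_eq_one_iff h2 _ hQ, map_mul]
      exact Int.units_mul_self _
    · rw [map_mul]
      exact Int.units_mul_self _
  exact key _ (Cfsg.Agent.Lib.Helper44_StdForms.coe_qfOdd m F) g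

/-! ### root elements: matrices -/

/-- the matrix of the long root element `x_{ε_a - ε_c}(t)` -/
def lxM (a c : I m) (t : F) : Matrix (I m) (I m) F :=
  1 + single a c t - single (op c) (op a) t

/-- the matrix of the short root element `x_{ε_a}(t)` (`= E(e_a, t w₀)`) -/
def sxM (a : I m) (t : F) : Matrix (I m) (I m) F :=
  1 + single z0 (op a) t - single a z0 (2 * t) - single a (op a) (t ^ 2)

/-- admissible pairs for long root elements -/
def LxOK (a c : I m) : Prop := a ≠ z0 ∧ c ≠ z0 ∧ c ≠ a ∧ c ≠ op a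

instance (a c : I m) : Decidable (LxOK a c) := by unfold LxOK; infer_instance

theorem LxOK.symm {a c : I m} (h : LxOK a c) : LxOK c a :=
  ⟨h.2.1, h.1, h.2.2.1.symm, fun e => h.2.2.2 (by rw [e, op_op])⟩

theorem LxOK.op {a c : I m} (h : LxOK a c) : LxOK (op c) (op a) :=
  ⟨fun e => h.2.1 (op_eq_z0_iff.mp e), fun e => h.1 (op_eq_z0_iff.mp e),
    fun e => h.2.2.1 (op_injective e).symm, fun e => h.2.2.2 (by rw [op_op] at e; exact e.symm)⟩

theorem gram_one_add (N : Matrix (I m) (I m) F) (h : Nᵀ * J + J * N + Nᵀ * J * N = 0) :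
    (1 + N)ᵀ * J * (1 + N) = J := by
  rw [Matrix.transpose_add, Matrix.transpose_one]
  have : (1 + Nᵀ) * J * (1 + N) = J + (Nᵀ * J + J * N + Nᵀ * J * N) := by
    simp only [Matrix.add_mul, Matrix.mul_add, Matrix.one_mul, Matrix.mul_one]
    abel
  rw [this, h, add_zero]

theorem lxM_gram {a c : I m} (h : LxOK a c) (t : F) :
    (lxM a c t)ᵀ * J * lxM a c t = (J : Matrix (I m) (I m) F) := by
  obtain ⟨ha, hc, hca, hca'⟩ := h
  have e : lxM a c t = 1 + (single a c t - single (op c) (op a) t) := by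
    unfold lxM; abel
  rw [e]
  apply gram_one_add
  have hwa : (wt a : F) = 1 := wt_of_ne ha
  have hwc : (wt c : F) = 1 := wt_of_ne hc
  have h1 : a ≠ op a := fun e => ha (op_eq_self_iff.mp e.symm)
  have h2 : c ≠ op c := fun e => hc (op_eq_self_iff.mp e.symm)
  have h3 : op a ≠ c := fun e => hca' e.symm
  have h4 : a ≠ c := fun e => hca e.symm
  have h5 : op c ≠ op a := fun e => hca (op_injective e)
  simp only [Matrix.transpose_sub, Matrix.transpose_single, Matrix.sub_mul, Matrix.mul_sub,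
    single_mul_J, J_mul_single, wt_op, hwa, hwc, op_op, mul_one, one_mul]
  rw [Matrix.single_mul_single_of_ne _ _ _ _ h1.symm, Matrix.single_mul_single_of_ne _ _ _ _ hca,
    Matrix.single_mul_single_of_ne _ _ _ _ h5.symm, Matrix.single_mul_single_of_ne _ _ _ _ h2]
  abel


theorem lxM_mul {a c : I m} (h : LxOK a c) (s t : F) :
    lxM a c s * lxM a c t = lxM a c (s + t) := by
  obtain ⟨ha, hc, hca, hca'⟩ := h
  have h1 : a ≠ op a := fun e => ha (op_eq_self_iff.mp e.symm)
  have h2 : c ≠ op c := fun e => hc (op_eq_self_iff.mp e.symm)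
  have h5 : op c ≠ op a := fun e => hca (op_injective e)
  unfold lxM
  simp only [Matrix.add_mul, Matrix.sub_mul, Matrix.mul_add, Matrix.mul_sub, Matrix.one_mul,
    Matrix.mul_one, Matrix.single_add]
  rw [Matrix.single_mul_single_of_ne _ _ _ _ hca, Matrix.single_mul_single_of_ne _ _ _ _ h2,
    Matrix.single_mul_single_of_ne _ _ _ _ h1.symm, Matrix.single_mul_single_of_ne _ _ _ _ h5.symm]
  abel

theorem lxM_zero (a c : I m) : lxM a c (0 : F) = 1 := by
  unfold lxM
  simp

theorem sxM_gram {a : I m} (ha : a ≠ z0) (t : F) :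
    (sxM a t)ᵀ * J * sxM a t = (J : Matrix (I m) (I m) F) := by
  have e : sxM a t = 1 + (single z0 (op a) t - single a z0 (2 * t) - single a (op a) (t ^ 2)) := by
    unfold sxM; abel
  rw [e]
  apply gram_one_add
  have hwa : (wt a : F) = 1 := wt_of_ne ha
  have h1 : a ≠ op a := fun e => ha (op_eq_self_iff.mp e.symm)
  have h3 : op a ≠ z0 := fun e => ha (op_eq_z0_iff.mp e)
  simp only [Matrix.transpose_sub, Matrix.transpose_single, Matrix.sub_mul, Matrix.mul_sub,
    single_mul_J, J_mul_single, hwa, wt_z0, op_z0, mul_one, one_mul,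
    Matrix.single_mul_single_same,
    Matrix.single_mul_single_of_ne _ _ _ _ h3, Matrix.single_mul_single_of_ne _ _ _ _ ha.symm,
    Matrix.single_mul_single_of_ne _ _ _ _ h1.symm]
  have e1 : t * 2 = 2 * t := mul_comm _ _
  have e2 : 2 * t * t = t ^ 2 + t ^ 2 := by ring
  rw [e1, e2, Matrix.single_add]
  abel


theorem sxM_mul {a : I m} (ha : a ≠ z0) (s t : F) :
    sxM a s * sxM a t = sxM a (s + t) := by
  have h1 : a ≠ op a := fun e => ha (op_eq_self_iff.mp e.symm)
  have h3 : op a ≠ z0 := fun e => ha (op_eq_z0_iff.mp e)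
  unfold sxM
  simp only [Matrix.add_mul, Matrix.sub_mul, Matrix.mul_add, Matrix.mul_sub, Matrix.one_mul,
    Matrix.mul_one, Matrix.single_mul_single_same,
    Matrix.single_mul_single_of_ne _ _ _ _ h3, Matrix.single_mul_single_of_ne _ _ _ _ ha.symm,
    Matrix.single_mul_single_of_ne _ _ _ _ h1.symm]
  have e1 : (s + t) ^ 2 = s ^ 2 + t ^ 2 + 2 * s * t := by ring
  have e2 : 2 * (s + t) = 2 * s + 2 * t := by ring
  rw [e1, e2]
  simp only [Matrix.single_add]
  abel

theorem sxM_zero (a : I m) : sxM a (0 : F) = 1 := by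
  unfold sxM
  simp


/-! ### root elements: group elements -/

theorem one_le_of_ne_z0 {a : I m} (h : a ≠ z0) : 1 ≤ m := by
  rcases a with a | a | a
  · exact absurd rfl h
  · have := a.2; omega
  · have := a.2; omega

section elements

variable [Fintype F] [NeZero (2 : F)]

/-- the long root element `x_{ε_a - ε_c}(t)` as an isometry (`1` if the pair is not admissible) -/
def lxO (a c : I m) (t : F) : OO m F :=
  if h : LxOK a c then mkO (lxM a c t) (lxM_gram h t) else 1

theorem φO_lxO {a c : I m} (h : LxOK a c) (t : F) : φO m F (lxO a c t) = lxM a c t := by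
  unfold lxO
  rw [dif_pos h, φO_mkO]

theorem lxO_mul (a c : I m) (s t : F) : lxO a c s * lxO a c t = lxO a c (s + t) := by
  by_cases h : LxOK a c
  · apply φO_injective
    rw [map_mul, φO_lxO h, φO_lxO h, φO_lxO h, lxM_mul h]
  · unfold lxO
    rw [dif_neg h, dif_neg h, dif_neg h, mul_one]

theorem lxO_zero (a c : I m) : lxO a c (0 : F) = 1 := by
  by_cases h : LxOK a c
  · apply φO_injective
    rw [φO_lxO h, lxM_zero, map_one]
  · unfold lxO
    rw [dif_neg h]

theorem four_ne_zero' : (4 : F) ≠ 0 := by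
  have h2 : (2 : F) ≠ 0 := two_ne_zero
  have : (4 : F) = 2 * 2 := by norm_num
  rw [this]
  exact mul_ne_zero h2 h2

theorem lxO_mem (a c : I m) (t : F) : lxO a c t ∈ Cfsg.Omega F (Cfsg.quadFormOdd m F) := by
  by_cases h : LxOK a c
  · have hm : 1 ≤ m := one_le_of_ne_z0 h.1
    have e : lxO a c t = lxO a c (t / 4) ^ 4 := by
      rw [pow_succ, pow_succ, pow_succ, pow_one, lxO_mul, lxO_mul, lxO_mul]
      congr 1
      have := four_ne_zero' (F := F)
      field_simp
      ring
    rw [e]
    exact pow_four_mem hm _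
  · unfold lxO
    rw [dif_neg h]
    exact one_mem _

/-- the long root element `x_{ε_a - ε_c}(t)` in `Ω` -/
def lx (a c : I m) (t : F) : GO m F := ⟨lxO a c t, lxO_mem a c t⟩

theorem lx_val {a c : I m} (h : LxOK a c) (t : F) : φ m F (lx a c t) = lxM a c t :=
  φO_lxO h t

theorem lx_mul (a c : I m) (s t : F) : lx a c s * lx a c t = lx a c (s + t) :=
  Subtype.ext (lxO_mul a c s t)

theorem lx_zero (a c : I m) : lx a c (0 : F) = 1 :=
  Subtype.ext (lxO_zero a c)

theorem lx_inv (a c : I m) (t : F) : (lx a c t)⁻¹ = lx a c (-t) := by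
  rw [inv_eq_iff_mul_eq_one, lx_mul, add_neg_cancel, lx_zero]

/-- the short root element `x_{ε_a}(t)` as an isometry (`1` if `a = z0`) -/
def sxO (a : I m) (t : F) : OO m F :=
  if h : a ≠ z0 then mkO (sxM a t) (sxM_gram h t) else 1

theorem φO_sxO {a : I m} (h : a ≠ z0) (t : F) : φO m F (sxO a t) = sxM a t := by
  unfold sxO
  rw [dif_pos h, φO_mkO]

theorem sxO_mul (a : I m) (s t : F) : sxO a s * sxO a t = sxO a (s + t) := by
  by_cases h : a ≠ z0
  · apply φO_injective
    rw [map_mul, φO_sxO h, φO_sxO h, φO_sxO h, sxM_mul h]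
  · unfold sxO
    rw [dif_neg h, dif_neg h, dif_neg h, mul_one]

theorem sxO_zero (a : I m) : sxO a (0 : F) = 1 := by
  by_cases h : a ≠ z0
  · apply φO_injective
    rw [φO_sxO h, sxM_zero, map_one]
  · unfold sxO
    rw [dif_neg h]

theorem sxO_mem (a : I m) (t : F) : sxO a t ∈ Cfsg.Omega F (Cfsg.quadFormOdd m F) := by
  by_cases h : a ≠ z0
  · have hm : 1 ≤ m := one_le_of_ne_z0 h
    have e : sxO a t = sxO a (t / 4) ^ 4 := by
      rw [pow_succ, pow_succ, pow_succ, pow_one, sxO_mul, sxO_mul, sxO_mul]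
      congr 1
      have := four_ne_zero' (F := F)
      field_simp
      ring
    rw [e]
    exact pow_four_mem hm _
  · unfold sxO
    rw [dif_neg h]
    exact one_mem _

/-- the short root element `x_{ε_a}(t)` in `Ω` -/
def sx (a : I m) (t : F) : GO m F := ⟨sxO a t, sxO_mem a t⟩

theorem sx_val {a : I m} (h : a ≠ z0) (t : F) : φ m F (sx a t) = sxM a t :=
  φO_sxO h t

theorem sx_mul (a : I m) (s t : F) : sx a s * sx a t = sx a (s + t) :=
  Subtype.ext (sxO_mul a s t)

theorem sx_zero (a : I m) : sx a (0 : F) = 1 :=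
  Subtype.ext (sxO_zero a)

theorem sx_inv (a : I m) (t : F) : (sx a t)⁻¹ = sx a (-t) := by
  rw [inv_eq_iff_mul_eq_one, sx_mul, add_neg_cancel, sx_zero]


/-! ### Weyl group representatives -/

/-- the matrix of `wl a c`: `e_c ↦ e_a`, `e_a ↦ -e_c`, `e_{op c} ↦ e_{op a}`, `e_{op a} ↦ -e_{op c}` -/
def wlM (a c : I m) : Matrix (I m) (I m) F :=
  1 - single a a 1 - single c c 1 - single (op a) (op a) 1 - single (op c) (op c) 1
    + single a c 1 - single c a 1 + single (op a) (op c) 1 - single (op c) (op a) 1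

/-- the matrix of `ws a`: `e_a ↦ -e_{op a}`, `e_{op a} ↦ -e_a`, `w₀ ↦ -w₀` -/
def wsM (a : I m) : Matrix (I m) (I m) F :=
  1 - single a a 1 - single (op a) (op a) 1 - single z0 z0 2
    - single a (op a) 1 - single (op a) a 1

/-- the representative `x_α(1) x_{-α}(-1) x_α(1)` of the reflection in the long root `α = ε_a - ε_c` -/
def wl (a c : I m) : GO m F := lx a c 1 * lx c a (-1) * lx a c 1

/-- the representative `x_α(1) x_{-α}(1) x_α(1)` of the reflection in the short root `α = ε_a` -/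
def ws (a : I m) : GO m F := sx a 1 * sx (op a) 1 * sx a 1

theorem wl_val {a c : I m} (h : LxOK a c) : φ m F (wl a c) = wlM a c := by
  obtain ⟨ha, hc, hca, hca'⟩ := h
  have h' : LxOK c a := LxOK.symm ⟨ha, hc, hca, hca'⟩
  have h1 : a ≠ op a := fun e => ha (op_eq_self_iff.mp e.symm)
  have h2 : c ≠ op c := fun e => hc (op_eq_self_iff.mp e.symm)
  have h3 : op a ≠ c := fun e => hca' e.symm
  have h4 : a ≠ c := fun e => hca e.symm
  have h5 : op c ≠ op a := fun e => hca (op_injective e)
  have h6 : op c ≠ a := fun e => hca' (by rw [← e, op_op])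
  unfold wl
  rw [map_mul, map_mul, lx_val ⟨ha, hc, hca, hca'⟩, lx_val h']
  unfold lxM wlM
  simp only [Matrix.add_mul, Matrix.sub_mul, Matrix.mul_add, Matrix.mul_sub, Matrix.one_mul,
    Matrix.mul_one, Matrix.single_mul_single_same,
    Matrix.single_mul_single_of_ne _ _ _ _ h1, Matrix.single_mul_single_of_ne _ _ _ _ h1.symm,
    Matrix.single_mul_single_of_ne _ _ _ _ h2, Matrix.single_mul_single_of_ne _ _ _ _ h2.symm,
    Matrix.single_mul_single_of_ne _ _ _ _ h3, Matrix.single_mul_single_of_ne _ _ _ _ h3.symm,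
    Matrix.single_mul_single_of_ne _ _ _ _ h4, Matrix.single_mul_single_of_ne _ _ _ _ h4.symm,
    Matrix.single_mul_single_of_ne _ _ _ _ h5, Matrix.single_mul_single_of_ne _ _ _ _ h5.symm,
    Matrix.single_mul_single_of_ne _ _ _ _ h6, Matrix.single_mul_single_of_ne _ _ _ _ h6.symm,
    mul_one, mul_neg, neg_mul, ← Matrix.single_neg, neg_neg, Matrix.zero_mul, Matrix.mul_zero,
    Matrix.neg_mul, Matrix.mul_neg, sub_zero, add_zero, zero_add, zero_sub, neg_zero]
  abel

theorem ws_val {a : I m} (ha : a ≠ z0) : φ m F (ws a) = wsM a := by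
  have h1 : a ≠ op a := fun e => ha (op_eq_self_iff.mp e.symm)
  have h3 : op a ≠ z0 := fun e => ha (op_eq_z0_iff.mp e)
  unfold ws
  rw [map_mul, map_mul, sx_val ha, sx_val h3]
  unfold sxM wsM
  rw [op_op]
  simp only [Matrix.add_mul, Matrix.sub_mul, Matrix.mul_add, Matrix.mul_sub, Matrix.one_mul,
    Matrix.mul_one, Matrix.single_mul_single_same,
    Matrix.single_mul_single_of_ne _ _ _ _ h1, Matrix.single_mul_single_of_ne _ _ _ _ h1.symm,
    Matrix.single_mul_single_of_ne _ _ _ _ h3, Matrix.single_mul_single_of_ne _ _ _ _ h3.symm,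
    Matrix.single_mul_single_of_ne _ _ _ _ ha, Matrix.single_mul_single_of_ne _ _ _ _ ha.symm,
    mul_one, mul_neg, neg_mul, ← Matrix.single_neg, neg_neg, Matrix.zero_mul, Matrix.mul_zero,
    Matrix.neg_mul, Matrix.mul_neg, sub_zero, add_zero, zero_add, zero_sub, neg_zero, one_pow]
  obtain ⟨E, hE⟩ : ∃ E : I m → I m → Matrix (I m) (I m) F, ∀ i j (c : F), single i j c = c • E i j :=
    ⟨fun i j => single i j 1, fun i j c => by rw [Matrix.smul_single, smul_eq_mul, mul_one]⟩
  simp only [hE]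
  module

/-! ### index lemmas -/

theorem ie_ne_z0 (i : Fin m) : (ie i : I m) ≠ z0 := by simp [ie, z0]

theorem jf_ne_z0 (i : Fin m) : (jf i : I m) ≠ z0 := by simp [jf, z0]

theorem ie_ne_jf (i k : Fin m) : (ie i : I m) ≠ jf k := by simp [ie, jf]

theorem ie_injective : Function.Injective (ie : Fin m → I m) := fun i k h => by
  simpa [ie] using h

theorem jf_injective : Function.Injective (jf : Fin m → I m) := fun i k h => by
  simpa [jf] using h

theorem lxOK_ie {i k : Fin m} (hik : i ≠ k) : LxOK (ie i) (ie k) :=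
  ⟨ie_ne_z0 i, ie_ne_z0 k, fun e => hik (ie_injective e).symm, fun e => ie_ne_jf k i (by rw [e, op_ie])⟩

/-- every index is `z0`, an `ie i` or a `jf i` -/
theorem index_cases (a : I m) : a = z0 ∨ (∃ i, a = ie i) ∨ (∃ i, a = jf i) := by
  rcases a with a | a | a
  · left; rfl
  · right; left; exact ⟨a, rfl⟩
  · right; right; exact ⟨a, rfl⟩

/-! ### the subgroups -/

/-- the Borel subgroup: upper triangular elements of `Ω` -/
def Boo (m : ℕ) (F : Type*) [Field F] : Subgroup (GO m F) := UT (φ m F) (ht m)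

/-- the torus: diagonal elements of `Ω` -/
def Too (m : ℕ) (F : Type*) [Field F] : Subgroup (GO m F) := Diag (φ m F)

/-- the monomial elements of `Ω` -/
def Moo (m : ℕ) (F : Type*) [Field F] : Subgroup (GO m F) := Mono (φ m F)

theorem mem_Boo {g : GO m F} : g ∈ Boo m F ↔ ∀ a b, ht m b < ht m a → φ m F g a b = 0 := Iff.rfl

theorem mem_Too {g : GO m F} : g ∈ Too m F ↔ ∀ a b, a ≠ b → φ m F g a b = 0 := Iff.rfl

theorem mem_Moo {g : GO m F} : g ∈ Moo m F ↔ ∃ σ : Equiv.Perm (I m), IsMono (φ m F) g σ := Iff.rfl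

/-- the upper triangular isometries -/
def BO (m : ℕ) (F : Type*) [Field F] : Subgroup (OO m F) := UT (φO m F) (ht m)

/-- the upper unitriangular isometries -/
def UO (m : ℕ) (F : Type*) [Field F] : Subgroup (OO m F) := UU (φO m F) (ht m) (ht_injective m)

theorem mem_BO {g : OO m F} : g ∈ BO m F ↔ ∀ a b, ht m b < ht m a → φO m F g a b = 0 := Iff.rfl

theorem mem_UO {g : OO m F} :
    g ∈ UO m F ↔ (∀ a b, ht m b < ht m a → φO m F g a b = 0) ∧ ∀ a, φO m F g a a = 1 := Iff.rfl

/-! ### the simple system -/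

theorem succ_ne (j : Fin m) (h : j.val + 1 < m) : j ≠ ⟨j.val + 1, h⟩ := by
  intro e; have := congrArg Fin.val e; simp at this

/-- the `j`-th simple root element: long (`ε_j - ε_{j+1}`) for `j + 1 < m`, short (`ε_{m-1}`) for `j = m - 1` -/
def xs (j : Fin m) (t : F) : GO m F :=
  if h : j.val + 1 < m then lx (ie j) (ie ⟨j.val + 1, h⟩) t else sx (ie j) t

/-- the representative of the `j`-th simple reflection -/
def ss (j : Fin m) : GO m F :=
  if h : j.val + 1 < m then wl (ie j) (ie ⟨j.val + 1, h⟩) else ws (ie j)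

theorem xs_of_lt (j : Fin m) (h : j.val + 1 < m) (t : F) :
    xs j t = lx (ie j) (ie ⟨j.val + 1, h⟩) t := by
  unfold xs; rw [dif_pos h]

theorem xs_of_not_lt (j : Fin m) (h : ¬ j.val + 1 < m) (t : F) : xs j t = sx (ie j) t := by
  unfold xs; rw [dif_neg h]

theorem ss_of_lt (j : Fin m) (h : j.val + 1 < m) :
    (ss j : GO m F) = wl (ie j) (ie ⟨j.val + 1, h⟩) := by
  unfold ss; rw [dif_pos h]

theorem ss_of_not_lt (j : Fin m) (h : ¬ j.val + 1 < m) : (ss j : GO m F) = ws (ie j) := by
  unfold ss; rw [dif_neg h]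

theorem xs_mul (j : Fin m) (s t : F) : xs j s * xs j t = xs j (s + t) := by
  unfold xs
  split_ifs with h
  · exact lx_mul _ _ s t
  · exact sx_mul _ s t

theorem xs_zero (j : Fin m) : xs j (0 : F) = 1 := by
  unfold xs
  split_ifs with h
  · exact lx_zero _ _
  · exact sx_zero _

theorem xs_inv (j : Fin m) (t : F) : (xs j t)⁻¹ = xs j (-t) := by
  rw [inv_eq_iff_mul_eq_one, xs_mul, add_neg_cancel, xs_zero]

/-- the `j`-th simple root subgroup -/
def Us (j : Fin m) : Subgroup (GO m F) where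
  carrier := Set.range (xs (F := F) j)
  mul_mem' := by
    rintro _ _ ⟨s, rfl⟩ ⟨t, rfl⟩
    exact ⟨s + t, (xs_mul j s t).symm⟩
  one_mem' := ⟨0, xs_zero j⟩
  inv_mem' := by
    rintro _ ⟨t, rfl⟩
    exact ⟨-t, (xs_inv j t).symm⟩

theorem mem_Us {j : Fin m} {g : GO m F} : g ∈ Us j ↔ ∃ t : F, xs j t = g := Iff.rfl

/-- the group `N`: generated by the simple reflections and the torus -/
def Noo (m : ℕ) (F : Type*) [Field F] [Fintype F] [NeZero (2 : F)] : Subgroup (GO m F) :=
  Subgroup.closure (Set.range (ss (m := m) (F := F))) ⊔ Too m F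

end elements

end Cfsg.Agent.Lib.Helper68_StOoDefs
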