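import Mathlib
import Cfsg.Agent.Lib.Helper68_StOoDefs
import Cfsg.Agent.Lib.Helper68_StAbs

/-!
# S2547 market (architect helper68), package PGRP

The upper unitriangular elements (w.r.t. an injective height) of a group with a faithful matrix
representation over a field of characteristic `p` form a `p`-group; in particular `UO m F`.
-/

set_option autoImplicit false

namespace Cfsg.Agent.Lib.Helper77_StOo_PGRP

open Matrix Cfsg.Agent.Lib.Helper68_MatGrp Cfsg.Agent.Lib.Helper68_StOoDefs

section generic

variable {ι : Type*} [Fintype ι] [DecidableEq ι] {F : Type*} [Field F]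

/-- Powers of a strictly upper triangular matrix (w.r.t. a height) climb the height. -/
theorem pow_apply_eq_zero (ht : ι → ℕ) (N : Matrix ι ι F)
    (hN : ∀ a b, ht b ≤ ht a → N a b = 0) (k : ℕ) :
    ∀ a b, ht b < ht a + k → (N ^ k) a b = 0 := by
  induction k with
  | zero =>
    intro a b h
    rw [pow_zero, Matrix.one_apply_ne]
    intro hab
    subst hab
    omega
  | succ k ih =>
    intro a b h
    rw [pow_succ, Matrix.mul_apply]
    refine Finset.sum_eq_zero (fun c _ => ?_)
    by_cases hc : ht c < ht a + k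
    · rw [ih a c hc, zero_mul]
    · rw [hN c b (by omega), mul_zero]

/-- A strictly upper triangular matrix is nilpotent. -/
theorem pow_eq_zero_of_strict (ht : ι → ℕ) (N : Matrix ι ι F)
    (hN : ∀ a b, ht b ≤ ht a → N a b = 0) (K : ℕ)
    (hK : ∀ a, ht a < K) (k : ℕ) (hk : K ≤ k) : N ^ k = 0 := by
  ext a b
  rw [pow_apply_eq_zero ht N hN k a b (by have := hK b; omega)]
  rfl

variable {G : Type*} [Group G]

/-- The unitriangular subgroup of a faithful matrix group in characteristic `p` is a `p`-group. -/
theorem isPGroup_UU (φ : G →* Matrix ι ι F) (hφ : Function.Injective φ) (ht : ι → ℕ)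
    (hinj : Function.Injective ht) (p : ℕ) [Fact p.Prime] [CharP F p] :
    IsPGroup p (UU φ ht hinj) := by
  classical
  rcases isEmpty_or_nonempty ι with hι | hι
  · intro g
    refine ⟨0, ?_⟩
    apply Subtype.ext
    apply hφ
    ext a
    exact (hι.false a).elim
  have : CharP (Matrix ι ι F) p := Matrix.charP p
  set K : ℕ := (Finset.univ.sup ht) + 1 with hKdef
  have hK : ∀ a, ht a < K := fun a => by
    have : ht a ≤ Finset.univ.sup ht := Finset.le_sup (f := ht) (Finset.mem_univ a)
    omega
  have hp2 : 2 ≤ p := (Fact.out : p.Prime).two_le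
  have hKp : K ≤ p ^ K := (Nat.lt_pow_self hp2).le
  intro g
  refine ⟨K, ?_⟩
  apply Subtype.ext
  apply hφ
  obtain ⟨hgU, hg1⟩ := (mem_UU φ ht hinj).1 g.2
  set N : Matrix ι ι F := φ (g : G) - 1 with hNdef
  have hN : ∀ a b, ht b ≤ ht a → N a b = 0 := by
    intro a b hab
    rw [hNdef, Matrix.sub_apply]
    rcases eq_or_ne a b with h | h
    · subst h
      rw [hg1 a, Matrix.one_apply_eq, sub_self]
    · have hlt : ht b < ht a := lt_of_le_of_ne hab (fun e => h (hinj e).symm)
      rw [(mem_UT φ ht).1 hgU a b hlt, Matrix.one_apply_ne h, sub_self]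
  have hNK : N ^ p ^ K = 0 := pow_eq_zero_of_strict ht N hN K hK (p ^ K) hKp
  have hdec : φ (g : G) = 1 + N := by rw [hNdef]; abel
  show φ ((g ^ p ^ K : ↥(UU φ ht hinj)) : G) = φ ((1 : ↥(UU φ ht hinj)) : G)
  rw [Subgroup.coe_pow, Subgroup.coe_one, map_pow, map_one, hdec,
    add_pow_char_pow_of_commute p K (Commute.one_left N), one_pow, hNK, add_zero]

end generic

variable {m : ℕ} {F : Type*} [Field F] [Fintype F] [NeZero (2 : F)]

/-- PGRP (M).  The upper unitriangular isometries form a `p`-group. -/
theorem isPGroup_UO (p : ℕ) [Fact p.Prime] [CharP F p] : IsPGroup p (UO m F) :=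
  isPGroup_UU (φO m F) φO_injective (ht m) (ht_injective m) p

end Cfsg.Agent.Lib.Helper77_StOo_PGRP
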