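/-
S4613, generic matrix-group part.  For a finite group `G` with a faithful matrix representation `φ`, an injective
height function `ht` and root-subgroup data `D : RDat G r` with `B = UT φ ht` (upper triangular elements),
`B ∩ N = Diag φ`, the criterion `aut_eq_one_of_rdat` is reduced to a short list of facts on matrix entries
(`autU_of_matgrp`).
-/
import Mathlib
import Cfsg.Agent.Lib.Helper68_AutU2
import Cfsg.Agent.Lib.Helper68_AutUIso
import Cfsg.Agent.Lib.Helper68_MatGrpU
import Cfsg.Agent.Lib.Helper27_StSU_GENERIC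
import Cfsg.Agent.Lib.Helper77_StOo_PGRP

set_option autoImplicit false
set_option linter.unusedSectionVars false
set_option linter.unusedVariables false

namespace Cfsg.Agent.Lib.Helper68_AutU

open Cfsg Cfsg.Agent.Lib.Helper6_BNPair Cfsg.Agent.Lib.Helper68_MatGrp Cfsg.Agent.Lib.Helper68_StAbs
open Matrix

section index

variable {G : Type*} [Group G] [Finite G] {p : ℕ} [Fact p.Prime]

/-- `|B| = |U| |B ∩ N|` when `B = U (B ∩ N)`, `U` a `p`-group and `B ∩ N` a `p'`-group -/
theorem card_B_eq (P : BNPair G) (U : Subgroup G) (U_le : U ≤ P.B) (U_pgroup : IsPGroup p U)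
    (BUT : ∀ b ∈ P.B, ∃ u ∈ U, ∃ t ∈ P.B ⊓ P.N, b = u * t)
    (T_p' : ¬ p ∣ Nat.card ↥(P.B ⊓ P.N)) :
    Nat.card P.B = Nat.card ↥(P.B ⊓ P.N) * Nat.card U := by
  have hp : p.Prime := Fact.out
  have hdisj : ∀ x, x ∈ U → x ∈ P.B ⊓ P.N → x = 1 := by
    intro x hxU hxT
    obtain ⟨k, hk⟩ := U_pgroup ⟨x, hxU⟩
    have hk' : x ^ p ^ k = 1 := by simpa using congrArg Subtype.val hk
    have h1 : orderOf x ∣ p ^ k := orderOf_dvd_iff_pow_eq_one.2 hk'
    have h2 : orderOf x ∣ Nat.card ↥(P.B ⊓ P.N) := Subgroup.orderOf_dvd_natCard _ hxT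
    obtain ⟨j, -, hj⟩ := (Nat.dvd_prime_pow hp).1 h1
    cases j with
    | zero => rw [pow_zero] at hj; exact orderOf_eq_one_iff.1 hj
    | succ j =>
      exfalso
      apply T_p'
      rw [hj] at h2
      exact dvd_trans (dvd_pow_self p (Nat.succ_ne_zero j)) h2
  let ψ : ↥(P.B ⊓ P.N) × U → P.B := fun x => ⟨x.2.1 * x.1.1, P.B.mul_mem (U_le x.2.2) x.1.2.1⟩
  have hinj : Function.Injective ψ := by
    rintro ⟨⟨t, ht⟩, ⟨u, hu⟩⟩ ⟨⟨t', ht'⟩, ⟨u', hu'⟩⟩ h
    have h1 : u * t = u' * t' := congrArg Subtype.val h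
    have h2 : u'⁻¹ * u = t' * t⁻¹ := by
      calc u'⁻¹ * u = u'⁻¹ * (u * t) * t⁻¹ := by group
        _ = t' * t⁻¹ := by rw [h1]; group
    have h3 : u'⁻¹ * u = 1 := hdisj _ (U.mul_mem (U.inv_mem hu') hu)
      (by rw [h2]; exact (P.B ⊓ P.N).mul_mem ht' ((P.B ⊓ P.N).inv_mem ht))
    have hu_eq : u = u' := by
      calc u = u' * (u'⁻¹ * u) := by group
        _ = u' := by rw [h3, mul_one]
    have ht_eq : t = t' := by
      rw [hu_eq] at h1
      exact mul_left_cancel h1
    subst hu_eq; subst ht_eq; rfl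
  have hsurj : Function.Surjective ψ := by
    rintro ⟨b, hb⟩
    obtain ⟨u, hu, t, ht, rfl⟩ := BUT b hb
    exact ⟨⟨⟨t, ht⟩, ⟨u, hu⟩⟩, rfl⟩
  rw [← Nat.card_prod]
  exact (Nat.card_congr (Equiv.ofBijective ψ ⟨hinj, hsurj⟩)).symm

/-- `U` has index prime to `p` in `G` -/
theorem index_of_BUT (P : BNPair G) (U : Subgroup G) (U_le : U ≤ P.B) (U_pgroup : IsPGroup p U)
    (BUT : ∀ b ∈ P.B, ∃ u ∈ U, ∃ t ∈ P.B ⊓ P.N, b = u * t)
    (T_p' : ¬ p ∣ Nat.card ↥(P.B ⊓ P.N)) : ¬ p ∣ U.index := by
  have hp : p.Prime := Fact.out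
  have hcard := card_B_eq P U U_le U_pgroup BUT T_p'
  obtain ⟨k, hk⟩ := U_pgroup.exists_card_eq
  have hBT : Nat.card P.B = Nat.card ↥(P.B ⊓ P.N) * p ^ k := by rw [hcard, hk]
  have h1 := Cfsg.Agent.Lib.Helper27_StSU_GENERIC.not_dvd_index P p k hBT
  -- `U.index = [B : U] [G : B]`
  have h2 : U.relIndex P.B * P.B.index = U.index := Subgroup.relIndex_mul_index U_le
  have h3 : U.relIndex P.B = Nat.card ↥(P.B ⊓ P.N) := by
    have h4 : Nat.card ↥(U.subgroupOf P.B) * (U.subgroupOf P.B).index = Nat.card P.B :=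
      (U.subgroupOf P.B).card_mul_index
    have h5 : Nat.card ↥(U.subgroupOf P.B) = Nat.card U :=
      Nat.card_congr (Subgroup.subgroupOfEquivOfLe U_le).toEquiv
    rw [h5, hcard, mul_comm] at h4
    have hUpos : 0 < Nat.card U := Nat.card_pos
    exact Nat.eq_of_mul_eq_mul_right hUpos h4
  rw [← h2, h3]
  intro h
  rcases (Nat.Prime.dvd_mul hp).1 h with h | h
  · exact T_p' h
  · exact h1 h

end index

section mat

variable {ι : Type*} [Fintype ι] [DecidableEq ι] {F : Type*} [Field F]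
variable {G : Type*} [Group G] (φ : G →* Matrix ι ι F) (ht : ι → ℕ) (hht : Function.Injective ht)

/-- the unitriangular subgroup is normalised by the triangular subgroup -/
theorem UT_conj_mem_UU {b u : G} (hb : b ∈ UT φ ht) (hu : u ∈ UU φ ht hht) :
    b * u * b⁻¹ ∈ UU φ ht hht := by
  have huT : u ∈ UT φ ht := hu.1
  have hbi : b⁻¹ ∈ UT φ ht := (UT φ ht).inv_mem hb
  refine ⟨(UT φ ht).mul_mem ((UT φ ht).mul_mem hb huT) hbi, fun a => ?_⟩
  rw [UT_mul_apply_self φ ht hht ((UT φ ht).mul_mem hb huT) hbi, UT_mul_apply_self φ ht hht hb huT,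
    hu.2 a, mul_one, ← UT_mul_apply_self φ ht hht hb hbi, mul_inv_cancel, map_one, Matrix.one_apply_eq]

/-- `(a, b)` is an inversion of `σ`: `a` is lower than `b` but `σ a` is higher than `σ b` -/
def IsInv (σ : Equiv.Perm ι) (a b : ι) : Prop := ht a < ht b ∧ ht (σ b) < ht (σ a)

/-- the inversion set of `σ` is convex for the height order -/
def InvConvex (σ : Equiv.Perm ι) : Prop :=
  ∀ a b, IsInv ht σ a b → ∀ c d, ht a ≤ ht c → ht c < ht d → ht d ≤ ht b → IsInv ht σ c d


include hht in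
/-- if `σ` moves every height by at most one, its inversion set is convex (the inversions are adjacent pairs) -/
theorem invConvex_of_adjacent (σ : Equiv.Perm ι)
    (h : ∀ a, ht (σ a) ≤ ht a + 1 ∧ ht a ≤ ht (σ a) + 1) : InvConvex ht σ := by
  intro a b hab c d hac hcd hdb
  have h1 := (h a).1
  have h2 := (h b).2
  have hlt := hab.1
  have hlt' := hab.2
  have hca : ht c = ht a := by omega
  have hdb' : ht d = ht b := by omega
  rw [hht hca, hht hdb']
  exact hab

/-- a block description of the inversions of `σ` gives convexity: `β` is monotone in the height and the inversions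
are the pairs inside the blocks singled out by `R` -/
theorem invConvex_of_blocks (σ : Equiv.Perm ι) (β : ι → ℕ) (R : ℕ → Prop)
    (hmono : ∀ a b, ht a ≤ ht b → β a ≤ β b)
    (hinv : ∀ a b, IsInv ht σ a b ↔ (ht a < ht b ∧ β a = β b ∧ R (β a))) : InvConvex ht σ := by
  intro a b hab c d hac hcd hdb
  obtain ⟨hlt, hβ, hR⟩ := (hinv a b).1 hab
  have h1 : β a ≤ β c := hmono a c hac
  have h2 : β c ≤ β d := hmono c d hcd.le
  have h3 : β d ≤ β b := hmono d b hdb
  rw [hinv]
  refine ⟨hcd, by omega, ?_⟩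
  have : β c = β a := by omega
  rw [this]; exact hR

/-- conjugating by a triangular element preserves the vanishing on a convex inversion set -/
theorem conj_vanish {u x : G} (hu : u ∈ UT φ ht) (hx : x ∈ UU φ ht hht) (σ : Equiv.Perm ι)
    (hconv : InvConvex ht σ) (hxv : ∀ a b, IsInv ht σ a b → φ x a b = 0) :
    ∀ a b, IsInv ht σ a b → φ (u * x * u⁻¹) a b = 0 := by
  intro a b hab
  have hne : a ≠ b := fun e => by rw [e] at hab; exact lt_irrefl _ hab.1
  have hui : u⁻¹ ∈ UT φ ht := (UT φ ht).inv_mem hu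
  have e1 : φ (u * x * u⁻¹) = 1 + φ u * (φ x - 1) * φ u⁻¹ := by
    rw [map_mul, map_mul, Matrix.mul_sub, Matrix.sub_mul, Matrix.mul_one,
      Cfsg.Agent.Lib.Helper68_MatGrp.map_mul_inv]
    abel
  rw [e1, Matrix.add_apply, Matrix.one_apply_ne hne, zero_add, Matrix.mul_apply]
  apply Finset.sum_eq_zero
  intro d _
  by_cases hd : ht b < ht d
  · rw [(mem_UT φ ht).1 hui d b hd, mul_zero]
  · push Not at hd
    rw [Matrix.mul_apply]
    have : ∑ c, φ u a c * (φ x - 1) c d = 0 := by
      apply Finset.sum_eq_zero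
      intro c _
      by_cases hc : ht c < ht a
      · rw [(mem_UT φ ht).1 hu a c hc, zero_mul]
      · push Not at hc
        have hN : (φ x - 1) c d = 0 := by
          rw [Matrix.sub_apply]
          rcases lt_trichotomy (ht c) (ht d) with h | h | h
          · have hcd : c ≠ d := fun e => by rw [e] at h; exact lt_irrefl _ h
            rw [hxv c d (hconv a b hab c d hc h hd), Matrix.one_apply_ne hcd, sub_zero]
          · have hcd : c = d := hht h
            subst hcd
            rw [hx.2 c, Matrix.one_apply_eq, sub_self]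
          · have hcd : c ≠ d := fun e => by rw [e] at h; exact lt_irrefl _ h
            rw [(mem_UT φ ht).1 hx.1 c d h, Matrix.one_apply_ne hcd, sub_zero]
        rw [hN, mul_zero]
    rw [this, zero_mul]

include hht in
/-- a triangular element vanishing on the inversion set of `σ` is conjugated into `UT` by a monomial element with
permutation `σ` -/
theorem mono_conj_mem_UT {s : G} {σ : Equiv.Perm ι} (hs : IsMono φ s σ) {g : G} (hg : g ∈ UT φ ht)
    (hv : ∀ a b, IsInv ht σ a b → φ g a b = 0) : s * g * s⁻¹ ∈ UT φ ht := by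
  have hsi := hs.inv
  have e : s * g * s⁻¹ = (s⁻¹)⁻¹ * g * s⁻¹ := by rw [inv_inv]
  rw [e]
  intro a b hab
  have hab' : ht b < ht a := hab
  show φ ((s⁻¹)⁻¹ * g * s⁻¹) a b = 0
  rw [hsi.conj_apply g a b]
  have hz : φ g (σ⁻¹ a) (σ⁻¹ b) = 0 := by
    rcases lt_trichotomy (ht (σ⁻¹ a)) (ht (σ⁻¹ b)) with h | h | h
    · apply hv
      refine ⟨h, ?_⟩
      rw [perm_apply_inv, perm_apply_inv]
      exact hab'
    · exfalso
      have h1 : σ⁻¹ a = σ⁻¹ b := hht h
      have h2 : a = b := σ⁻¹.injective h1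
      rw [h2] at hab'
      exact lt_irrefl _ hab'
    · exact (mem_UT φ ht).1 hg _ _ h
  rw [hz, mul_zero, zero_mul]

/-- a diagonal element commuting with `u` has equal diagonal entries at the positions where `u` does not vanish -/
theorem diag_eq_of_commute {t u : G} (ht' : t ∈ Diag φ) (h : t * u = u * t) (a b : ι)
    (hne : φ u a b ≠ 0) : φ t a a = φ t b b := by
  have h1 : φ (t * u) a b = φ t a a * φ u a b := by
    rw [map_mul, Matrix.mul_apply, Finset.sum_eq_single a]
    · intro c _ hc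
      rw [(mem_Diag φ).1 ht' a c (Ne.symm hc), zero_mul]
    · intro h; exact absurd (Finset.mem_univ _) h
  have h2 : φ (u * t) a b = φ u a b * φ t b b := by
    rw [map_mul, Matrix.mul_apply, Finset.sum_eq_single b]
    · intro c _ hc
      rw [(mem_Diag φ).1 ht' c b hc, mul_zero]
    · intro h; exact absurd (Finset.mem_univ _) h
  rw [h] at h1
  rw [h1, mul_comm] at h2
  exact mul_left_cancel₀ hne h2

/-- a diagonal element with constant diagonal is central -/
theorem mem_center_of_const_diag (hφ : Function.Injective φ) {t : G} (ht' : t ∈ Diag φ)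
    (hc : ∀ a b, φ t a a = φ t b b) : t ∈ Subgroup.center G := by
  rw [Subgroup.mem_center_iff]
  intro g
  apply hφ
  ext a b
  have h1 : φ (t * g) a b = φ t a a * φ g a b := by
    rw [map_mul, Matrix.mul_apply, Finset.sum_eq_single a]
    · intro c _ hc'
      rw [(mem_Diag φ).1 ht' a c (Ne.symm hc'), zero_mul]
    · intro h; exact absurd (Finset.mem_univ _) h
  have h2 : φ (g * t) a b = φ g a b * φ t b b := by
    rw [map_mul, Matrix.mul_apply, Finset.sum_eq_single b]
    · intro c _ hc'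
      rw [(mem_Diag φ).1 ht' c b hc', mul_zero]
    · intro h; exact absurd (Finset.mem_univ _) h
  rw [h1, h2, hc b a, mul_comm]

end mat

section main

variable {ι : Type*} [Fintype ι] [DecidableEq ι] {F : Type*} [Field F]
variable {G : Type*} [Group G] [Finite G] {p : ℕ} [Fact p.Prime] [CharP F p] {r : ℕ}

/-- **The criterion for matrix groups.**  `G` finite with a faithful matrix representation `φ` over a field of
characteristic `p`, an injective height `ht`, and root-subgroup data `D` with `B = UT φ ht`, `B ∩ N = Diag φ`.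
Assume: (1) every triangular element of `G` has its diagonal part in `G`; (2) `p ∤ |Diag|`; (3) the root subgroups
are unitriangular; (4) `s_i` is monomial with permutation `σ i`, whose inversion set is convex and on which the
elements of the root subgroups `X_j`, `j ≠ i`, vanish; (5) a diagonal element commuting with all unitriangular
elements has constant diagonal; (6) some monomial element reverses the heights.  Then every automorphism of
`G / Z(G)` of order prime to `p` fixing a Sylow `p`-subgroup elementwise is trivial. -/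
theorem autU_of_matgrp (φ : G →* Matrix ι ι F) (hφ : Function.Injective φ) (ht : ι → ℕ)
    (hht : Function.Injective ht) (D : RDat G r)
    (hB : D.B = UT φ ht) (hT : D.B ⊓ D.N = Diag φ)
    (hdiag : ∀ b ∈ UT φ ht, ∃ t ∈ Diag φ, ∀ a, φ t a a = φ b a a)
    (T_p' : ¬ p ∣ Nat.card ↥(Diag φ))
    (X_le : ∀ i, D.U i ≤ UU φ ht hht)
    (σ : Fin r → Equiv.Perm ι) (hσ : ∀ i, IsMono φ (D.s i) (σ i)) (hconv : ∀ i, InvConvex ht (σ i))
    (hX : ∀ i j, j ≠ i → ∀ x ∈ D.U j, ∀ a b, IsInv ht (σ i) a b → φ x a b = 0)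
    (htorus : ∀ t ∈ Diag φ, (∀ u ∈ UU φ ht hht, t * u = u * t) → ∀ a b, φ t a a = φ t b b)
    (g₀ : G) (σ₀ : Equiv.Perm ι) (hg₀ : IsMono φ g₀ σ₀)
    (hrev : ∀ a c, ht a < ht c → ht (σ₀ c) < ht (σ₀ a)) :
    AutUTrivial p (G ⧸ Subgroup.center G) := by
  have hUp : IsPGroup p (UU φ ht hht) :=
    Cfsg.Agent.Lib.Helper77_StOo_PGRP.isPGroup_UU φ hφ ht hht p
  have hUle : UU φ ht hht ≤ D.B := by rw [hB]; exact UU_le_UT φ ht hht
  have hUn : ∀ b ∈ D.B, ∀ u ∈ UU φ ht hht, b * u * b⁻¹ ∈ UU φ ht hht := by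
    intro b hb u hu
    rw [hB] at hb
    exact UT_conj_mem_UU φ ht hht hb hu
  have hBUT : ∀ b ∈ D.B, ∃ u ∈ UU φ ht hht, ∃ t ∈ D.B ⊓ D.N, b = u * t := by
    intro b hb
    rw [hB] at hb
    obtain ⟨t, htD, hd⟩ := hdiag b hb
    have h1 := inv_mul_mem_UU φ ht hht hb htD hd
    have htU : t ∈ UT φ ht := Diag_le_UT φ ht htD
    refine ⟨t * (t⁻¹ * b) * t⁻¹, UT_conj_mem_UU φ ht hht htU h1, t, by rw [hT]; exact htD, by group⟩
  have hTp : ¬ p ∣ Nat.card ↥(D.B ⊓ D.N) := by rw [hT]; exact T_p'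
  have hidx : ¬ p ∣ (UU φ ht hht).index :=
    index_of_BUT (bnPair D) (UU φ ht hht) hUle hUp hBUT hTp
  intro α hα Q hfix
  refine aut_eq_one_of_rdat D (UU φ ht hht) hUle hUn hUp hidx hBUT hTp X_le ?_ ?_ ?_
    (QuotientGroup.mk' (Subgroup.center G)) (QuotientGroup.mk'_surjective _)
    (QuotientGroup.ker_mk' _) α hα Q hfix
  · -- r5
    intro i j hji u hu x hx
    rw [hB]
    have huU : u ∈ UU φ ht hht := X_le i hu
    have hxU : x ∈ UU φ ht hht := X_le j hx
    apply mono_conj_mem_UT φ ht hht (hσ i)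
      ((UT φ ht).mul_mem ((UT φ ht).mul_mem huU.1 hxU.1) ((UT φ ht).inv_mem huU.1))
    exact conj_vanish φ ht hht huU.1 hxU (σ i) (hconv i) (hX i j hji x hx)
  · -- torus
    intro t ht' hcomm
    rw [hT] at ht'
    exact mem_center_of_const_diag φ hφ ht' (htorus t ht' hcomm)
  · -- centre
    apply center_U_of_opp (bnPair D) (UU φ ht hht) hUp hUle hTp g₀
    intro b hb hc
    have hb' : b ∈ UT φ ht := by rw [← hB]; exact hb
    have hc' : g₀⁻¹ * b * g₀ ∈ UT φ ht := by rw [← hB]; exact hc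
    have hD : b ∈ Diag φ := mem_Diag_of_conj_rev φ ht hht hg₀ hrev hb' hc'
    have : b ∈ D.B ⊓ D.N := by rw [hT]; exact hD
    exact this.2

end main

section self

variable {G : Type*} [Group G] [Finite G] {p : ℕ} [Fact p.Prime] {ι : Type*} {P : BNPair G}

/-- the criterion for a group with trivial centre -/
theorem RootDat.autUTrivial_of_center_eq_bot (R : RootDat p P ι) (hZ : Subgroup.center G = ⊥) :
    AutUTrivial p G := by
  intro α hα Q hfix
  exact R.aut_eq_one (MonoidHom.id G) (fun x => ⟨x, rfl⟩) (by rw [MonoidHom.ker_id, hZ]) α hα Q hfix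

/-- the criterion in the form `AutUTrivial` -/
theorem RootDat.autUTrivial (R : RootDat p P ι) : AutUTrivial p (G ⧸ Subgroup.center G) := by
  intro α hα Q hfix
  exact R.aut_eq_one (QuotientGroup.mk' (Subgroup.center G)) (QuotientGroup.mk'_surjective _)
    (QuotientGroup.ker_mk' _) α hα Q hfix

/-- the criterion for the bare data `BDat` on a group with `C_G(U) ≤ U` -/
theorem BDat.autUTrivial (D : BDat p G ι)
    (hcent : ∀ g : G, (∀ u ∈ D.U, g * u = u * g) → g ∈ D.U) : AutUTrivial p G :=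
  fun α hα Q hfix => D.aut_eq_one_of_sylow hcent α hα Q hfix

end self

end Cfsg.Agent.Lib.Helper68_AutU
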