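import Mathlib
import Cfsg.Agent.Lib.Helper41_SLRDefs
import Cfsg.Agent.Lib.Helper68_AutUMat

/-!
# SLR market `slr_packages` (sub-architect helper41), package INV (helper10)
`inv_swap`, `conv_swap`: the only inversion of the adjacent transposition `swap (lo j) (hi j)` is `(lo j, hi j)`;
its inversion set is convex.
-/

set_option autoImplicit false
set_option linter.unusedSectionVars false
set_option linter.unusedVariables false

namespace Cfsg.Agent.Lib.Helper10_SLR_INV

open Matrix Cfsg.Agent.Lib.Helper68_MatGrp Cfsg.Agent.Lib.Helper41_SLRDefs Cfsg.Agent.Lib.Helper68_AutU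

variable {n : ℕ} {F : Type*} [Field F]

/-- the value of the adjacent transposition on heights -/
theorem swap_val (j : Fin (n - 1)) (a : Fin n) :
    (Equiv.swap (lo j) (hi j) a).val =
      if a.val = j.val then j.val + 1 else if a.val = j.val + 1 then j.val else a.val := by
  rw [Equiv.swap_apply_def]
  by_cases h1 : a = lo j
  · rw [if_pos h1, if_pos (by rw [h1]; rfl)]
    rfl
  · have h1' : ¬ a.val = j.val := fun e => h1 (Fin.ext e)
    rw [if_neg h1, if_neg h1']
    by_cases h2 : a = hi j
    · rw [if_pos h2, if_pos (by rw [h2]; rfl)]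
      rfl
    · have h2' : ¬ a.val = j.val + 1 := fun e => h2 (Fin.ext e)
      rw [if_neg h2, if_neg h2']

/-- **SLR-INV** [S/M] (two statements, one file) the only inversion of an adjacent transposition is `(lo j, hi j)`; convexity by `invConvex_of_adjacent`. -/
theorem inv_swap (j : Fin (n - 1)) (a b : Fin n)
    (h : IsInv (ht n) (Equiv.swap (lo j) (hi j)) a b) : a = lo j ∧ b = hi j := by
  obtain ⟨h1, h2⟩ := h
  simp only [ht_apply] at h1 h2
  rw [swap_val, swap_val] at h2
  have ha : a.val = j.val := by
    split_ifs at h2 <;> omega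
  have hb : b.val = j.val + 1 := by
    split_ifs at h2 <;> omega
  exact ⟨Fin.ext ha, Fin.ext hb⟩

theorem conv_swap (j : Fin (n - 1)) : InvConvex (ht n) (Equiv.swap (lo j) (hi j)) := by
  apply invConvex_of_adjacent (ht n) (ht_injective n)
  intro a
  simp only [ht_apply]
  rw [swap_val]
  split_ifs <;> omega

end Cfsg.Agent.Lib.Helper10_SLR_INV
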