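import Mathlib
import Cfsg.Agent.Lib.Helper41_SLRDefs
import Cfsg.Agent.Lib.Helper68_AutUMat

/-!
# SLR market `slr_packages` (sub-architect helper41), package TORUS (helper10)
`torus_const`: a diagonal element of `SL_n(F)` commuting with all upper unitriangular elements has constant
diagonal.
-/

set_option autoImplicit false
set_option linter.unusedSectionVars false
set_option linter.unusedVariables false

namespace Cfsg.Agent.Lib.Helper10_SLR_TORUS

open Matrix Cfsg.Agent.Lib.Helper68_MatGrp Cfsg.Agent.Lib.Helper41_SLRDefs Cfsg.Agent.Lib.Helper68_AutU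

variable {n : ℕ} {F : Type*} [Field F]

/-- the transvection `1 + E_{ab}`, `a < b`, is upper unitriangular -/
theorem transvection_mem_UU {a b : Fin n} (hab : a.val < b.val) (hne : a ≠ b) (c : F) :
    (Matrix.SpecialLinearGroup.transvection hne c : Matrix.SpecialLinearGroup (Fin n) F) ∈
      UU (φ n F) (ht n) (ht_injective n) := by
  have hval : (Matrix.SpecialLinearGroup.transvection hne c :
      Matrix.SpecialLinearGroup (Fin n) F).1 = 1 + Matrix.single a b c := rfl
  refine ⟨?_, ?_⟩
  · intro x y hyx
    show (Matrix.SpecialLinearGroup.transvection hne c :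
      Matrix.SpecialLinearGroup (Fin n) F).1 x y = 0
    have hyx' : y.val < x.val := hyx
    have hxy : x ≠ y := by
      intro e
      rw [e] at hyx'
      exact lt_irrefl _ hyx'
    rw [hval, Matrix.add_apply, Matrix.one_apply_ne hxy, zero_add, Matrix.single_apply, if_neg]
    rintro ⟨h1, h2⟩
    rw [← h1, ← h2] at hyx'
    omega
  · intro x
    show (Matrix.SpecialLinearGroup.transvection hne c :
      Matrix.SpecialLinearGroup (Fin n) F).1 x x = 1
    rw [hval, Matrix.add_apply, Matrix.one_apply_eq, Matrix.single_apply, if_neg, add_zero]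
    rintro ⟨h1, h2⟩
    exact hne (h1.trans h2.symm)

/-- **SLR-TORUS** [S/M] `diag_eq_of_commute` (Helper68_AutU) with `u = transvection a b 1` for `a < b` (it is in `UU`), then symmetry. -/
theorem torus_const (t : Matrix.SpecialLinearGroup (Fin n) F) (ht' : t ∈ Tsl n F)
    (h : ∀ u ∈ UU (φ n F) (ht n) (ht_injective n), t * u = u * t) :
    ∀ a b, t.1 a a = t.1 b b := by
  have key : ∀ a b : Fin n, a.val < b.val → t.1 a a = t.1 b b := by
    intro a b hab
    have hne : a ≠ b := by
      intro e
      rw [e] at hab
      exact lt_irrefl _ hab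
    have hu := transvection_mem_UU (F := F) hab hne 1
    have hval : (Matrix.SpecialLinearGroup.transvection hne (1 : F) :
        Matrix.SpecialLinearGroup (Fin n) F).1 = 1 + Matrix.single a b 1 := rfl
    have hnz : φ n F (Matrix.SpecialLinearGroup.transvection hne (1 : F)) a b ≠ 0 := by
      rw [φ_apply, hval, Matrix.add_apply, Matrix.one_apply_ne hne, zero_add,
        Matrix.single_apply_same]
      exact one_ne_zero
    exact diag_eq_of_commute (φ n F) ht' (h _ hu) a b hnz
  intro a b
  rcases lt_trichotomy a.val b.val with hab | hab | hab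
  · exact key a b hab
  · rw [Fin.ext hab]
  · exact (key b a hab).symm

end Cfsg.Agent.Lib.Helper10_SLR_TORUS
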