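import Mathlib

set_option autoImplicit false
open Subgroup

/-!
# SO-720-Y: an element of order four in `N(P₅)` acting faithfully on `P₅`
-/

namespace Cfsg.Agent.Lib.Helper54_SO_720Y

variable {G : Type*} [Group G]

/-- an involution normalizing a subgroup `P` of prime order either centralizes or inverts it -/
theorem inverts_of_sq_eq_one (P : Subgroup G) [Finite P] (hP : (Nat.card P).Prime) (a : G)
    (ha : a ∈ normalizer (P : Set G)) (ha2 : a ^ 2 = 1)
    (hac : a ∉ centralizer (P : Set G)) : ∀ x ∈ P, a * x * a⁻¹ = x⁻¹ := by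
  intro x hx
  have hcomm : ∀ u ∈ P, ∀ v ∈ P, u * v = v * u := by
    haveI : Fact (Nat.card P).Prime := ⟨hP⟩
    haveI := isCyclic_of_prime_card (α := P) rfl
    intro u hu v hv
    have hc : ∀ a b : P, a * b = b * a := isMulCommutative_iff.mp inferInstance
    have h := hc (⟨u, hu⟩ : P) ⟨v, hv⟩
    have h' := congrArg Subtype.val h
    simpa using h'
  have hx' : a * x * a⁻¹ ∈ P := (mem_set_normalizer_iff.mp ha x).mp hx
  by_contra hne
  apply hac
  -- `z = x * (a x a⁻¹)` is a non-trivial element of `P` centralized by `a`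
  set z := x * (a * x * a⁻¹) with hz
  have hzP : z ∈ P := P.mul_mem hx hx'
  have hz1 : z ≠ 1 := by
    intro h
    apply hne
    rw [hz] at h
    exact (eq_inv_of_mul_eq_one_right h)
  have hainv : a⁻¹ = a := by
    rw [inv_eq_iff_mul_eq_one, ← sq, ha2]
  have haz : a * z * a⁻¹ = z := by
    rw [hz]
    have e : a * (x * (a * x * a⁻¹)) * a⁻¹ = (a * x * a⁻¹) * (a * (a * x * a⁻¹) * a⁻¹) := by group
    have e2 : a * (a * x * a⁻¹) * a⁻¹ = x := by
      have : a * (a * x * a⁻¹) * a⁻¹ = a ^ 2 * x * (a ^ 2)⁻¹ := by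
        rw [sq, mul_inv_rev]
        simp only [mul_assoc]
      rw [this, ha2, one_mul, inv_one, mul_one]
    rw [e, e2]
    exact hcomm _ hx' _ hx
  -- `z` generates `P`
  have : Fact (Nat.card P).Prime := ⟨hP⟩
  have hgen : ∀ w : P, w ∈ Subgroup.zpowers (⟨z, hzP⟩ : P) := by
    intro w
    have : Subgroup.zpowers (⟨z, hzP⟩ : P) = ⊤ := by
      apply zpowers_eq_top_of_prime_card (p := Nat.card P) rfl
      intro h
      exact hz1 (congrArg Subtype.val h)
    rw [this]
    exact Subgroup.mem_top w
  rw [mem_centralizer_iff]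
  intro w hw
  obtain ⟨k, hk⟩ := Subgroup.mem_zpowers_iff.mp (hgen ⟨w, hw⟩)
  have hwk : w = z ^ k := by
    have := congrArg Subtype.val hk
    simpa using this.symm
  have hza : z * a = a * z := by
    have : a * z * a⁻¹ * a = z * a := by rw [haz]
    rw [← this]
    group
  rw [hwk]
  exact (Commute.zpow_left (show Commute z a from hza) k).eq

/-- **SO-720-Y**. -/
theorem exists_order_four_in_normalizer {G : Type*} [Group G] [Finite G] [Fact (Nat.Prime 5)]
    (P : Sylow 5 G) (hP : Nat.card (P : Subgroup G) = 5)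
    (hC : centralizer ((P : Subgroup G) : Set G) = (P : Subgroup G))
    (hN : Nat.card (normalizer ((P : Subgroup G) : Set G)) = 20) :
    ∃ y ∈ normalizer ((P : Subgroup G) : Set G), y ^ 4 = 1 ∧
      y ∉ centralizer ((P : Subgroup G) : Set G) ∧
      y ^ 2 ∉ centralizer ((P : Subgroup G) : Set G) ∧
      y ^ 3 ∉ centralizer ((P : Subgroup G) : Set G) := by
  have : Fact (Nat.Prime 2) := ⟨Nat.prime_two⟩
  set N := normalizer ((P : Subgroup G) : Set G) with hNdef
  -- a subgroup of order 4 of `N`
  obtain ⟨K, hK⟩ := Sylow.exists_subgroup_card_pow_prime (G := N) 2 (n := 2)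
    (by rw [hN]; norm_num)
  set T : Subgroup G := K.map N.subtype with hT
  have hTcard : Nat.card T = 4 := by
    rw [hT, Subgroup.card_map_of_injective N.subtype_injective, hK]
    norm_num
  have hTN : T ≤ N := by
    rw [hT]
    exact Subgroup.map_subtype_le K
  have hTP : T ⊓ (P : Subgroup G) = ⊥ := by
    apply disjoint_iff.mp
    apply Subgroup.disjoint_of_coprime_natCard
    rw [hTcard, hP]
    norm_num
  have hnotP : ∀ y ∈ T, y ≠ 1 → y ∉ centralizer ((P : Subgroup G) : Set G) := by
    intro y hy hy1 hyc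
    rw [hC] at hyc
    have : y ∈ T ⊓ (P : Subgroup G) := ⟨hy, hyc⟩
    rw [hTP, Subgroup.mem_bot] at this
    exact hy1 this
  have hpow4 : ∀ y ∈ T, y ^ 4 = 1 := by
    intro y hy
    have h := pow_card_eq_one' (G := T) (x := ⟨y, hy⟩)
    rw [hTcard] at h
    exact congrArg Subtype.val h
  -- some element of `T` has non-trivial square
  have hex : ∃ y ∈ T, y ^ 2 ≠ 1 := by
    by_contra hcon
    push Not at hcon
    -- two distinct non-trivial elements
    have hex1 : ∃ a ∈ T, a ≠ 1 := by
      by_contra h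
      push Not at h
      have : T = ⊥ := (Subgroup.eq_bot_iff_forall T).mpr h
      rw [this, Subgroup.card_bot] at hTcard
      norm_num at hTcard
    obtain ⟨a, haT, ha1⟩ := hex1
    have hex2 : ∃ b ∈ T, b ≠ 1 ∧ b ≠ a := by
      by_contra h
      push Not at h
      have hsub : (T : Set G) ⊆ {1, a} := by
        intro b hb
        by_cases hb1 : b = 1
        · left; exact hb1
        · right; exact h b hb hb1
      have h1 : Nat.card T ≤ ({1, a} : Set G).ncard := by
        rw [← Nat.card_coe_set_eq]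
        exact Nat.card_mono (Set.toFinite _) hsub
      have h2 : ({1, a} : Set G).ncard ≤ 2 := by
        calc ({1, a} : Set G).ncard ≤ ({a} : Set G).ncard + 1 := Set.ncard_insert_le _ _
          _ = 2 := by rw [Set.ncard_singleton]
      rw [hTcard] at h1
      omega
    obtain ⟨b, hbT, hb1, hba⟩ := hex2
    have hP' : (Nat.card (P : Subgroup G)).Prime := by rw [hP]; exact Fact.out
    have hinva := inverts_of_sq_eq_one (P : Subgroup G) hP' a (hTN haT) (hcon a haT)
      (hnotP a haT ha1)
    have hinvb := inverts_of_sq_eq_one (P : Subgroup G) hP' b (hTN hbT) (hcon b hbT)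
      (hnotP b hbT hb1)
    have habc : a * b ∈ centralizer ((P : Subgroup G) : Set G) := by
      rw [mem_centralizer_iff]
      intro x hx
      have h1 := hinvb x hx
      have h2 := hinva x⁻¹ ((P : Subgroup G).inv_mem hx)
      rw [inv_inv] at h2
      have : a * b * x * (a * b)⁻¹ = x := by
        have e : a * b * x * (a * b)⁻¹ = a * (b * x * b⁻¹) * a⁻¹ := by group
        rw [e, h1, h2]
      calc x * (a * b) = (a * b * x * (a * b)⁻¹) * (a * b) := by rw [this]
        _ = a * b * x := by group
    have hab1 : a * b = 1 := by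
      by_contra hne
      exact hnotP (a * b) (T.mul_mem haT hbT) hne habc
    apply hba
    have hb2 := hcon b hbT
    have : b⁻¹ = b := by rw [inv_eq_iff_mul_eq_one, ← sq, hb2]
    rw [← this]
    exact (eq_inv_of_mul_eq_one_left hab1).symm
  obtain ⟨y, hyT, hy2⟩ := hex
  have hy4 := hpow4 y hyT
  have hy1 : y ≠ 1 := by
    rintro rfl
    exact hy2 (one_pow 2)
  have hy3 : y ^ 3 ≠ 1 := by
    intro h
    apply hy1
    have : y ^ 4 = y ^ 3 * y := pow_succ y 3
    rw [hy4, h, one_mul] at this
    exact this.symm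
  exact ⟨y, hTN hyT, hy4, hnotP y hyT hy1, hnotP _ (T.pow_mem hyT 2) hy2,
    hnotP _ (T.pow_mem hyT 3) hy3⟩

end Cfsg.Agent.Lib.Helper54_SO_720Y
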