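import Mathlib
import Cfsg.Prelude.Def_Characters
import Cfsg.Prelude.Def_Blocks
import Cfsg.Agent.Lib.Helper3_CharEigen
import Cfsg.Agent.Lib.Helper54_SO_720Y

/-!
# SO-720-VAL (architect helper76, S0496): an irreducible character of degree 4 takes the value `-1`
on the nonidentity elements of a self-centralizing Sylow 5-subgroup of order 5 with `|N(P)| = 20`.
-/

set_option autoImplicit false
open Subgroup

namespace Cfsg.Agent.Lib.Helper10_SO_720VAL

/-- All nonidentity elements of `P` are conjugate. -/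
theorem conj_pows {G : Type*} [Group G] [Finite G] [Fact (Nat.Prime 5)]
    (P : Sylow 5 G) (hP : Nat.card (P : Subgroup G) = 5)
    (hC : centralizer ((P : Subgroup G) : Set G) = (P : Subgroup G))
    (hN : Nat.card (normalizer ((P : Subgroup G) : Set G)) = 20)
    (x : G) (hx : x ∈ (P : Subgroup G)) (hx1 : x ≠ 1) :
    IsConj x (x ^ 2) ∧ IsConj x (x ^ 3) ∧ IsConj x (x ^ 4) := by
  obtain ⟨y, hyN, -, hy1, hy2, hy3⟩ :=
    Cfsg.Agent.Lib.Helper54_SO_720Y.exists_order_four_in_normalizer P hP hC hN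
  have hord : orderOf x = 5 := by
    have h1 : orderOf x ∣ 5 := by
      have := orderOf_dvd_natCard (⟨x, hx⟩ : (P : Subgroup G))
      rwa [Subgroup.orderOf_mk, hP] at this
    rcases (Nat.dvd_prime (by norm_num : Nat.Prime 5)).mp h1 with h | h
    · exact absurd (orderOf_eq_one_iff.mp h) hx1
    · exact h
  have hx5 : x ^ 5 = 1 := by rw [← hord]; exact pow_orderOf_eq_one x
  have hzP : Subgroup.zpowers x = (P : Subgroup G) := by
    apply Subgroup.eq_of_le_of_card_ge
    · rw [Subgroup.zpowers_le]; exact hx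
    · rw [Nat.card_zpowers, hord, hP]
  -- conjugation criterion for the centralizer
  have hcent : ∀ n : G, n * x * n⁻¹ = x → n ∈ centralizer ((P : Subgroup G) : Set G) := by
    intro n hn
    rw [Subgroup.mem_centralizer_iff]
    intro z hz
    rw [SetLike.mem_coe, ← hzP, Subgroup.mem_zpowers_iff] at hz
    obtain ⟨i, rfl⟩ := hz
    have h1 : n * x ^ i * n⁻¹ = x ^ i := by rw [← conj_zpow, hn]
    calc x ^ i * n = (n * x ^ i * n⁻¹) * n := by rw [h1]
      _ = n * x ^ i := by group
  have hyx : y * x * y⁻¹ ∈ (P : Subgroup G) := (Subgroup.mem_normalizer_iff.mp hyN x).mp hx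
  rw [← hzP] at hyx
  obtain ⟨k, hk5, hk⟩ : ∃ k : ℕ, k < 5 ∧ x ^ k = y * x * y⁻¹ := by
    rw [← mem_powers_iff_mem_zpowers, Submonoid.mem_powers_iff] at hyx
    obtain ⟨k, hk⟩ := hyx
    refine ⟨k % 5, Nat.mod_lt _ (by norm_num), ?_⟩
    rw [← hk, ← hord, pow_mod_orderOf]
  have hsq : y ^ 2 * x * (y ^ 2)⁻¹ = x ^ (k * k) := by
    have : y ^ 2 * x * (y ^ 2)⁻¹ = y * (y * x * y⁻¹) * y⁻¹ := by
      rw [pow_two, mul_inv_rev]; simp only [mul_assoc]
    rw [this, ← hk, ← conj_pow, ← hk, ← pow_mul]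
  have hcu : y ^ 3 * x * (y ^ 3)⁻¹ = x ^ (k * k * k) := by
    have : y ^ 3 * x * (y ^ 3)⁻¹ = y * (y ^ 2 * x * (y ^ 2)⁻¹) * y⁻¹ := by
      rw [pow_succ' y 2, mul_inv_rev]; simp only [mul_assoc]
    rw [this, hsq, ← conj_pow, ← hk, ← pow_mul, mul_comm k (k * k)]
  have hred : ∀ m : ℕ, x ^ m = x ^ (m % 5) := by
    intro m
    rw [← hord, pow_mod_orderOf]
  interval_cases k
  · exfalso
    rw [pow_zero] at hk
    apply hx1
    have : x = y⁻¹ * (y * x * y⁻¹) * y := by group
    rw [this, ← hk]; group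
  · exfalso
    rw [pow_one] at hk
    exact hy1 (hcent y hk.symm)
  · refine ⟨isConj_iff.mpr ⟨y, hk.symm⟩, isConj_iff.mpr ⟨y ^ 3, ?_⟩, isConj_iff.mpr ⟨y ^ 2, ?_⟩⟩
    · rw [hcu, hred]
    · rw [hsq]
  · refine ⟨isConj_iff.mpr ⟨y ^ 3, ?_⟩, isConj_iff.mpr ⟨y, hk.symm⟩, isConj_iff.mpr ⟨y ^ 2, ?_⟩⟩
    · rw [hcu, hred]
    · rw [hsq, hred]
  · exfalso
    apply hy2
    apply hcent
    rw [hsq, hred]
    norm_num

/-- An irreducible representation on which every group element acts trivially has dimension 1. -/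
theorem finrank_eq_one_of_trivial {G V : Type*} [Group G] [AddCommGroup V] [Module ℂ V]
    [FiniteDimensional ℂ V] (ρ : Representation ℂ G V) [ρ.IsIrreducible]
    (h : ∀ g : G, ρ g = LinearMap.id) : Module.finrank ℂ V = 1 := by
  have hnt : Nontrivial V := by
    by_contra hh
    rw [not_nontrivial_iff_subsingleton] at hh
    have : (⊥ : Subrepresentation ρ) = ⊤ := by
      apply Subrepresentation.toSubmodule_injective
      exact Subsingleton.elim _ _
    exact bot_ne_top this
  obtain ⟨v, hv⟩ := exists_ne (0 : V)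
  let W : Subrepresentation ρ :=
    { toSubmodule := Submodule.span ℂ {v}
      apply_mem_toSubmodule := by
        intro g w hw
        rw [h g]
        exact hw }
  have hW : W = ⊤ := by
    rcases eq_bot_or_eq_top W with h' | h'
    · exfalso
      have h2 := congrArg Subrepresentation.toSubmodule h'
      have : v ∈ (⊥ : Subrepresentation ρ).toSubmodule := by
        rw [← h2]
        exact Submodule.mem_span_singleton_self v
      change v ∈ (⊥ : Submodule ℂ V) at this
      exact hv (by simpa using this)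
    · exact h'
  have h2 : Submodule.span ℂ {v} = ⊤ := by
    have := congrArg Subrepresentation.toSubmodule hW
    exact this
  exact finrank_eq_one v hv (fun w => by
    have : w ∈ Submodule.span ℂ {v} := by rw [h2]; trivial
    exact Submodule.mem_span_singleton.1 this)

/-- The sum of the character over the cyclic group generated by an element of order 5. -/
theorem sum_char_pow {G : Type*} [Group G] [Finite G] {n : ℕ}
    (ρ : Representation ℂ G (Fin n → ℂ)) (x : G) (hord : orderOf x = 5) :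
    ∑ j ∈ Finset.range 5, ρ.character (x ^ j) =
      5 * (Module.finrank ℂ (Module.End.eigenspace (ρ x) 1) : ℂ) := by
  classical
  have h1 : ∀ j : ℕ, ρ.character (x ^ j) = ∑ μ ∈ Cfsg.Agent.Lib.Helper3_CharEigen.eigSet (ρ x),
      (Module.finrank ℂ (Module.End.eigenspace (ρ x) μ) : ℂ) * μ ^ j :=
    fun j => Cfsg.Agent.Lib.Helper3_CharEigen.char_pow_eq_sum ρ x j
  simp only [h1]
  rw [Finset.sum_comm]
  have h2 : ∀ μ ∈ Cfsg.Agent.Lib.Helper3_CharEigen.eigSet (ρ x),
      ∑ j ∈ Finset.range 5, (Module.finrank ℂ (Module.End.eigenspace (ρ x) μ) : ℂ) * μ ^ j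
      = if μ = 1 then 5 * (Module.finrank ℂ (Module.End.eigenspace (ρ x) 1) : ℂ) else 0 := by
    intro μ hμ
    have hμ5 : μ ^ 5 = 1 := by
      have := Cfsg.Agent.Lib.Helper3_CharEigen.eig_pow_orderOf ρ hμ
      rwa [hord] at this
    rw [← Finset.mul_sum]
    by_cases h : μ = 1
    · rw [if_pos h, h]
      simp
      ring
    · rw [if_neg h]
      have hg : ∑ j ∈ Finset.range 5, μ ^ j = 0 := by
        have := mul_geom_sum μ 5
        rw [hμ5, sub_self] at this
        rcases mul_eq_zero.mp this with h' | h'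
        · exact absurd (sub_eq_zero.mp h') h
        · exact h'
      rw [hg, mul_zero]
  rw [Finset.sum_congr rfl h2, Finset.sum_ite_eq']
  split_ifs with h
  · rfl
  · have : Module.End.eigenspace (ρ x) 1 = ⊥ := by
      by_contra hne
      exact h (Cfsg.Agent.Lib.Helper3_CharEigen.mem_eigSet.mpr hne)
    rw [this]
    simp

theorem irr_deg_four_val {G : Type*} [Group G] [Finite G] [IsSimpleGroup G]
    (hG : ¬ IsMulCommutative G) [Fact (Nat.Prime 5)] (P : Sylow 5 G)
    (hP : Nat.card (P : Subgroup G) = 5)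
    (hC : centralizer ((P : Subgroup G) : Set G) = (P : Subgroup G))
    (hN : Nat.card (normalizer ((P : Subgroup G) : Set G)) = 20)
    (χ : Cfsg.IrrCharacter G) (hχ : Cfsg.charDegree (χ : G → ℂ) = 4) :
    ∀ x ∈ (P : Subgroup G), x ≠ 1 → (χ : G → ℂ) x = -1 := by
  intro x hx hx1
  obtain ⟨n, ρ, hirr, hρ⟩ := χ.2
  have hone : ρ.character 1 = (n : ℂ) := by
    rw [Representation.char_one]; simp
  have hn : n = 4 := by
    have h1 : Cfsg.charDegree (χ : G → ℂ) = n := by
      unfold Cfsg.charDegree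
      rw [← hρ, hone]
      simp
    rw [h1] at hχ
    exact hχ
  subst hn
  obtain ⟨hc2, hc3, hc4⟩ := conj_pows P hP hC hN x hx hx1
  have hval : ∀ {z : G}, IsConj x z → ρ.character z = ρ.character x := by
    intro z hz
    obtain ⟨g, hg⟩ := isConj_iff.mp hz
    rw [← hg, Representation.char_conj]
  have hord : orderOf x = 5 := by
    have h1 : orderOf x ∣ 5 := by
      have := orderOf_dvd_natCard (⟨x, hx⟩ : (P : Subgroup G))
      rwa [Subgroup.orderOf_mk, hP] at this
    rcases (Nat.dvd_prime (by norm_num : Nat.Prime 5)).mp h1 with h | h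
    · exact absurd (orderOf_eq_one_iff.mp h) hx1
    · exact h
  have hsum := sum_char_pow ρ x hord
  rw [Finset.sum_range_succ, Finset.sum_range_succ, Finset.sum_range_succ, Finset.sum_range_succ,
    Finset.sum_range_one, pow_zero, pow_one, hval hc2, hval hc3, hval hc4, hone] at hsum
  set c := ρ.character x with hc
  set m := Module.finrank ℂ (Module.End.eigenspace (ρ x) 1) with hm
  have hm4 : m ≤ 4 := by
    have := Submodule.finrank_le (Module.End.eigenspace (ρ x) 1)
    simpa using this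
  -- c is an integer
  have hint : IsIntegral ℤ c := Cfsg.Agent.Lib.Helper3_CharEigen.isIntegral_char ρ x
  have hcq : c = ((((5 * (m : ℤ) - 4 : ℤ) : ℚ) / 4 : ℚ) : ℂ) := by
    push_cast
    have : (4 : ℂ) * c = 5 * (m : ℂ) - 4 := by
      have h := hsum
      push_cast at h
      linear_combination h
    field_simp
    linear_combination this
  rw [hcq] at hint
  have hint' : IsIntegral ℤ ((((5 * (m : ℤ) - 4 : ℤ) : ℚ) / 4 : ℚ)) := by
    have := (isIntegral_algebraMap_iff (algebraMap ℚ ℂ).injective).mp hint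
    exact this
  obtain ⟨z, hz⟩ := IsIntegrallyClosed.isIntegral_iff.mp hint'
  have hz' : (4 : ℤ) * z = 5 * (m : ℤ) - 4 := by
    have h1 : (z : ℚ) = ((5 * (m : ℤ) - 4 : ℤ) : ℚ) / 4 := by simpa using hz
    have h2 : (4 : ℚ) * (z : ℚ) = ((5 * (m : ℤ) - 4 : ℤ) : ℚ) := by
      rw [h1]; field_simp
    exact_mod_cast h2
  have hcz : c = (z : ℂ) := by
    rw [hcq, ← hz]
    simp
  have hcases : z = -1 ∨ z = 4 := by omega
  rcases hcases with h | h
  · rw [← hρ, ← hc, hcz, h]; simp
  · exfalso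
    -- χ(x) = 4 = χ(1): x acts trivially, so everything does, contradiction with degree 4
    have hx4 : ρ.character x = (Module.finrank ℂ (Fin 4 → ℂ) : ℂ) := by
      rw [← hc, hcz, h]; simp
    have hρx : ρ x = LinearMap.id :=
      (Cfsg.Agent.Lib.Helper3_CharEigen.char_eq_finrank_iff ρ x).mp hx4
    have hker : (ρ : G →* ((Fin 4 → ℂ) →ₗ[ℂ] (Fin 4 → ℂ))).ker = ⊤ := by
      rcases (MonoidHom.normal_ker (ρ : G →* ((Fin 4 → ℂ) →ₗ[ℂ] (Fin 4 → ℂ)))).eq_bot_or_eq_top
        with h' | h'
      · exfalso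
        have hmem : x ∈ (ρ : G →* ((Fin 4 → ℂ) →ₗ[ℂ] (Fin 4 → ℂ))).ker := by
          rw [MonoidHom.mem_ker]
          exact hρx
        rw [h', Subgroup.mem_bot] at hmem
        exact hx1 hmem
      · exact h'
    have htriv : ∀ g : G, ρ g = LinearMap.id := by
      intro g
      have : g ∈ (ρ : G →* ((Fin 4 → ℂ) →ₗ[ℂ] (Fin 4 → ℂ))).ker := by
        rw [hker]; exact Subgroup.mem_top g
      exact MonoidHom.mem_ker.mp this
    have := hirr
    have := finrank_eq_one_of_trivial ρ htriv
    simp at this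

end Cfsg.Agent.Lib.Helper10_SO_720VAL
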