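import Mathlib
import Cfsg.Agent.S0992

/-!
# SO-INVCONJ (architect helper76, S0496): in a non-abelian simple group of order not divisible by 8
all involutions are conjugate and `4 ∣ |C(t)|`.
-/

set_option autoImplicit false
open Subgroup

namespace Cfsg.Agent.Lib.Helper10_SO_INVCONJ

/-- The elements of a Klein four subgroup. -/
theorem klein_cases {G : Type*} [Group G] (T : Subgroup G) [IsKleinFour T] {a b z : G}
    (ha : a ∈ T) (hb : b ∈ T) (hz : z ∈ T) (ha1 : a ≠ 1) (hb1 : b ≠ 1) (hab : a ≠ b) :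
    z = 1 ∨ z = a ∨ z = b ∨ z = a * b := by
  by_cases h1 : z = 1
  · exact Or.inl h1
  by_cases h2 : z = a
  · exact Or.inr (Or.inl h2)
  by_cases h3 : z = b
  · exact Or.inr (Or.inr (Or.inl h3))
  right; right; right
  have h := IsKleinFour.eq_mul_of_ne_all (G := T) (x := ⟨a, ha⟩) (y := ⟨b, hb⟩) (z := ⟨z, hz⟩)
    (fun h => ha1 (congrArg Subtype.val h)) (fun h => hb1 (congrArg Subtype.val h))
    (fun h => hab (congrArg Subtype.val h)) (fun h => h1 (congrArg Subtype.val h))
    (fun h => h2 (congrArg Subtype.val h)) (fun h => h3 (congrArg Subtype.val h))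
  exact congrArg Subtype.val h

theorem klein_sq {G : Type*} [Group G] (T : Subgroup G) [IsKleinFour T] {a : G} (ha : a ∈ T) :
    a * a = 1 := by
  have := IsKleinFour.mul_self (G := T) ⟨a, ha⟩
  exact congrArg Subtype.val this

theorem klein_comm {G : Type*} [Group G] (T : Subgroup G) [IsKleinFour T] {a b : G} (ha : a ∈ T)
    (hb : b ∈ T) : a * b = b * a := by
  have := mul_comm_of_exponent_two (IsKleinFour.exponent_two (G := T)) ⟨a, ha⟩ ⟨b, hb⟩
  exact congrArg Subtype.val this

/-- An element commuting with two distinct involutions of a Klein four-group centralizes it. -/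
theorem mem_centralizer_of_comm {G : Type*} [Group G] (T : Subgroup G) [IsKleinFour T] {a b : G}
    (ha : a ∈ T) (hb : b ∈ T) (ha1 : a ≠ 1) (hb1 : b ≠ 1) (hab : a ≠ b) (n : G)
    (hna : n * a = a * n) (hnb : n * b = b * n) : n ∈ centralizer ((T : Subgroup G) : Set G) := by
  rw [Subgroup.mem_centralizer_iff]
  intro z hz
  rcases klein_cases T ha hb hz ha1 hb1 hab with h | h | h | h
  · rw [h, one_mul, mul_one]
  · rw [h, hna]
  · rw [h, hnb]
  · rw [h, mul_assoc, ← hnb, ← mul_assoc, ← hna, mul_assoc]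

/-- Transitivity on the involutions of a Klein four-group of an element of order 3 modulo the
centralizer. -/
theorem klein_conj {G : Type*} [Group G] (T : Subgroup G) [IsKleinFour T] (g : G)
    (hgN : ∀ x ∈ T, g * x * g⁻¹ ∈ T) (hg3 : g ^ 3 ∈ centralizer ((T : Subgroup G) : Set G))
    (hgC : g ∉ centralizer ((T : Subgroup G) : Set G))
    {a b : G} (ha : a ∈ T) (hb : b ∈ T) (ha1 : a ≠ 1) (hb1 : b ≠ 1) :
    ∃ k : ℕ, g ^ k * a * (g ^ k)⁻¹ = b := by
  by_cases hab : a = b
  · exact ⟨0, by simp [hab]⟩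
  by_contra hno
  have hno' : ∀ k : ℕ, g ^ k * a * (g ^ k)⁻¹ ≠ b := fun k hk => hno ⟨k, hk⟩
  have hne1 : ∀ x : G, x ≠ 1 → g * x * g⁻¹ ≠ 1 := by
    intro x hx h
    apply hx
    have : x = g⁻¹ * (g * x * g⁻¹) * g := by group
    rw [this, h]; group
  have hinj : ∀ x y : G, g * x * g⁻¹ = g * y * g⁻¹ → x = y := by
    intro x y h
    have hx : x = g⁻¹ * (g * x * g⁻¹) * g := by group
    have hy : y = g⁻¹ * (g * y * g⁻¹) * g := by group
    rw [hx, hy, h]
  have hcT : a * b ∈ T := T.mul_mem ha hb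
  have hc1 : a * b ≠ 1 := by
    intro h
    apply hab
    have h2 := klein_sq T ha
    have : b = a * (a * b) := by rw [← mul_assoc, h2, one_mul]
    rw [this, h, mul_one]
  have hca : a * b ≠ a := by
    intro h
    apply hb1
    have := mul_left_cancel (h.trans (mul_one a).symm)
    exact this
  -- g² in C(T) is impossible
  have hg2 : g ^ 2 ∉ centralizer ((T : Subgroup G) : Set G) := by
    intro h
    apply hgC
    have : g = g ^ 3 * (g ^ 2)⁻¹ := by group
    rw [this]
    exact Subgroup.mul_mem _ hg3 (Subgroup.inv_mem _ h)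
  have hcomm_of : ∀ n x : G, n * x * n⁻¹ = x → n * x = x * n := by
    intro n x h
    have : n * x = (n * x * n⁻¹) * n := by group
    rw [this, h]
  have hsq : ∀ x : G, g ^ 2 * x * (g ^ 2)⁻¹ = g * (g * x * g⁻¹) * g⁻¹ := by
    intro x
    rw [pow_two, mul_inv_rev]
    simp only [mul_assoc]
  have hga := klein_cases T ha hb (hgN a ha) ha1 hb1 hab
  rcases hga with h | h | h | h
  · exact hne1 a ha1 h
  · -- g fixes a
    have hgb := klein_cases T ha hb (hgN b hb) ha1 hb1 hab
    rcases hgb with h' | h' | h' | h'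
    · exact hne1 b hb1 h'
    · exact hab (hinj a b (h.trans h'.symm))
    · exact hgC (mem_centralizer_of_comm T ha hb ha1 hb1 hab g (hcomm_of g a h) (hcomm_of g b h'))
    · -- g b g⁻¹ = a b; then g² fixes a and b
      have h2a : g ^ 2 * a * (g ^ 2)⁻¹ = a := by rw [hsq, h, h]
      have hgc : g * (a * b) * g⁻¹ = b := by
        have : g * (a * b) * g⁻¹ = (g * a * g⁻¹) * (g * b * g⁻¹) := by group
        rw [this, h, h', ← mul_assoc, klein_sq T ha, one_mul]
      have h2b : g ^ 2 * b * (g ^ 2)⁻¹ = b := by rw [hsq, h', hgc]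
      exact hg2 (mem_centralizer_of_comm T ha hb ha1 hb1 hab (g ^ 2) (hcomm_of _ a h2a)
        (hcomm_of _ b h2b))
  · exact hno' 1 (by rw [pow_one]; exact h)
  · -- g a g⁻¹ = a b
    have hgc := klein_cases T ha hb (hgN (a * b) hcT) ha1 hb1 hab
    rcases hgc with h' | h' | h' | h'
    · exact hne1 (a * b) hc1 h'
    · -- g (ab) g⁻¹ = a: then g b g⁻¹ = b, g² fixes a, b
      have h2a : g ^ 2 * a * (g ^ 2)⁻¹ = a := by rw [hsq, h, h']
      have hgb : g * b * g⁻¹ = b := by
        have hb' : b = a * (a * b) := by rw [← mul_assoc, klein_sq T ha, one_mul]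
        have : g * b * g⁻¹ = (g * a * g⁻¹) * (g * (a * b) * g⁻¹) := by
          conv_lhs => rw [hb']
          group
        rw [this, h, h', klein_comm T hcT ha, ← mul_assoc, klein_sq T ha, one_mul]
      have h2b : g ^ 2 * b * (g ^ 2)⁻¹ = b := by rw [hsq, hgb, hgb]
      exact hg2 (mem_centralizer_of_comm T ha hb ha1 hb1 hab (g ^ 2) (hcomm_of _ a h2a)
        (hcomm_of _ b h2b))
    · exact hno' 2 (by rw [hsq, h, h'])
    · exact hca (hinj (a * b) a (h'.trans h.symm))

/-- The centralizer of `T` is normal in the normalizer of `T`. -/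
theorem centralizer_normal_in_normalizer {G : Type*} [Group G] (T : Subgroup G) :
    ((centralizer ((T : Subgroup G) : Set G)).subgroupOf
      (normalizer ((T : Subgroup G) : Set G))).Normal := by
  constructor
  intro c hc n
  rw [Subgroup.mem_subgroupOf] at hc ⊢
  rw [Subgroup.mem_centralizer_iff] at hc ⊢
  intro x hx
  have hn : (n : G) ∈ normalizer ((T : Subgroup G) : Set G) := n.2
  have hx' : (n : G)⁻¹ * x * (n : G) ∈ T := by
    have := (Subgroup.mem_normalizer_iff''.mp hn x).mp hx
    exact this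
  have h1 := hc _ hx'
  simp only [Subgroup.coe_mul, Subgroup.coe_inv]
  calc x * ((n : G) * (c : G) * (n : G)⁻¹)
      = (n : G) * (((n : G)⁻¹ * x * (n : G)) * (c : G)) * (n : G)⁻¹ := by group
    _ = (n : G) * ((c : G) * ((n : G)⁻¹ * x * (n : G))) * (n : G)⁻¹ := by rw [h1]
    _ = (n : G) * (c : G) * (n : G)⁻¹ * x := by group

/-- The structure of a Sylow 2-subgroup containing a given involution. -/
theorem exists_sylow_klein {G : Type*} [Group G] [Finite G] [IsSimpleGroup G]
    (hG : ¬ IsMulCommutative G) (h8 : ¬ 8 ∣ Nat.card G) (t : G) (ht : orderOf t = 2) :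
    ∃ T : Sylow 2 G, t ∈ T ∧ IsKleinFour ↥(T : Subgroup G) ∧
      (centralizer ((T : Subgroup G) : Set G)).relIndex
        (normalizer ((T : Subgroup G) : Set G)) = 3 := by
  have h2 : Even (Nat.card G) := by
    rw [even_iff_two_dvd, ← ht]
    exact orderOf_dvd_natCard t
  have hp : IsPGroup 2 (Subgroup.zpowers t) :=
    IsPGroup.of_card (n := 1) (by rw [Nat.card_zpowers, ht, pow_one])
  obtain ⟨T, hT⟩ := hp.exists_le_sylow
  have h := Cfsg.Agent.S0992.result hG h2 h8 T
  exact ⟨T, hT (Subgroup.mem_zpowers t), h.1, h.2⟩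

/-- Any two involutions of one Sylow 2-subgroup are conjugate. -/
theorem conj_in_sylow {G : Type*} [Group G] [Finite G] (T : Sylow 2 G)
    (hK : IsKleinFour ↥(T : Subgroup G))
    (h3 : (centralizer ((T : Subgroup G) : Set G)).relIndex
        (normalizer ((T : Subgroup G) : Set G)) = 3)
    {a b : G} (ha : a ∈ T) (hb : b ∈ T) (ha1 : a ≠ 1) (hb1 : b ≠ 1) : IsConj a b := by
  have hnle : ¬ normalizer ((T : Subgroup G) : Set G) ≤ centralizer ((T : Subgroup G) : Set G) := by
    intro hle
    have := Subgroup.relIndex_eq_one.mpr hle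
    rw [h3] at this
    norm_num at this
  obtain ⟨g, hgN, hgC⟩ := Set.not_subset.mp hnle
  have hnorm := centralizer_normal_in_normalizer (T : Subgroup G)
  have hg3 : g ^ 3 ∈ centralizer ((T : Subgroup G) : Set G) := by
    have := Subgroup.pow_index_mem ((centralizer ((T : Subgroup G) : Set G)).subgroupOf
      (normalizer ((T : Subgroup G) : Set G))) (⟨g, hgN⟩ : normalizer ((T : Subgroup G) : Set G))
    have hidx : ((centralizer ((T : Subgroup G) : Set G)).subgroupOf
      (normalizer ((T : Subgroup G) : Set G))).index = 3 := h3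
    rw [hidx, Subgroup.mem_subgroupOf] at this
    exact this
  have hgT : ∀ x ∈ (T : Subgroup G), g * x * g⁻¹ ∈ (T : Subgroup G) := fun x hx =>
    (Subgroup.mem_normalizer_iff.mp hgN x).mp hx
  obtain ⟨k, hk⟩ := klein_conj (T : Subgroup G) g hgT hg3 hgC ha hb ha1 hb1
  exact isConj_iff.mpr ⟨g ^ k, hk⟩

theorem involutions_conj_of_not_eight_dvd {G : Type*} [Group G] [Finite G] [IsSimpleGroup G]
    (hG : ¬ IsMulCommutative G) (h8 : ¬ 8 ∣ Nat.card G) (t u : G) (ht : orderOf t = 2)
    (hu : orderOf u = 2) : IsConj t u := by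
  obtain ⟨T, htT, hK, h3⟩ := exists_sylow_klein hG h8 t ht
  obtain ⟨T', huT', -, -⟩ := exists_sylow_klein hG h8 u hu
  obtain ⟨h, hh⟩ := MulAction.exists_smul_eq G T' T
  -- h u h⁻¹ ∈ T
  have hu' : h * u * h⁻¹ ∈ T := by
    rw [← hh]
    show h * u * h⁻¹ ∈ ((h • T' : Sylow 2 G) : Subgroup G)
    rw [Sylow.smul_def, Sylow.pointwise_smul_def,
      Subgroup.mem_pointwise_smul_iff_inv_smul_mem]
    simp only [MulAut.smul_def, MulAut.conj_inv_apply]
    have : h⁻¹ * (h * u * h⁻¹) * h = u := by group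
    rw [this]
    exact huT'
  have ht1 : t ≠ 1 := by
    intro h1; rw [h1, orderOf_one] at ht; norm_num at ht
  have hu1 : h * u * h⁻¹ ≠ 1 := by
    intro h1
    have : u = 1 := by
      have : u = h⁻¹ * (h * u * h⁻¹) * h := by group
      rw [this, h1]; group
    rw [this, orderOf_one] at hu; norm_num at hu
  have hc := conj_in_sylow T hK h3 htT hu' ht1 hu1
  exact hc.trans (isConj_iff.mpr ⟨h⁻¹, by group⟩)

theorem four_dvd_card_centralizer_involution {G : Type*} [Group G] [Finite G] [IsSimpleGroup G]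
    (hG : ¬ IsMulCommutative G) (h8 : ¬ 8 ∣ Nat.card G) (t : G) (ht : orderOf t = 2) :
    4 ∣ Nat.card (centralizer ({t} : Set G)) := by
  obtain ⟨T, htT, hK, -⟩ := exists_sylow_klein hG h8 t ht
  have hle : (T : Subgroup G) ≤ centralizer ({t} : Set G) := by
    intro x hx
    rw [Subgroup.mem_centralizer_iff]
    intro y hy
    rw [Set.mem_singleton_iff] at hy
    subst hy
    exact klein_comm (T : Subgroup G) htT hx
  have := Subgroup.card_dvd_of_le hle
  rwa [hK.card_four] at this

end Cfsg.Agent.Lib.Helper10_SO_INVCONJ
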