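import Mathlib
import Cfsg.Prelude.Def_ClassicalGeometry
import Cfsg.Agent.Lib.Helper98_ExtDefs
import Cfsg.Agent.Lib.Helper97_TensDefs

set_option autoImplicit false
set_option linter.unusedSectionVars false

/-!
# `Sp_{2m}(q) ⊗ O_3(q)` is maximal in `Sp_{6m}(q)` (`q` odd, `q ≥ 5`): shared definitions

(The `n₂ = 3` slice of S5666; clause (11) of S5867 and clause (7) of S5804.)

Abstract setting: `V = Matrix (Fin m ⊕ Fin m) (Fin 3) F` is the space `A ⊗ B`,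
`A = F^(Fin m ⊕ Fin m)`, `B = F^3`; the pure tensor `x ⊗ y` is `vecMulVec x y`; the columns
`colv X 0, colv X 1, colv X 2` of `X` are its components along the basis `e0 e1 e2` of `B`.
`A` carries the standard alternating form `Cfsg.sympForm m F` (Gram matrix `Matrix.J (Fin m) F`),
`B` the symmetric form `be y y' = y₀ y₂' + y₁ y₁' + y₂ y₀'` (Gram matrix `S0`; `e0, e2` singular,
`be e0 e2 = 1`, `e1 ⊥ e0, e2`, `be e1 e1 = 1`), and `V` the alternating form `tf m = sympForm ⊗ be`.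
`M` is a subgroup of `GL_F(V) = (V ≃ₗ[F] V)`.

* `HasMap`, `IsKron` are those of `Helper98_ExtDefs`, `Helper97_TensDefs`
  (`IsKron g` : `g` acts as `X ↦ P * X * Qᵀ`, the map `P ⊗ Q`).
* `MSp m M` : every element of `M` preserves `tf m`.
* `KronSp m M` : `M` contains every `X ↦ P * X * Qᵀ` with `P` symplectic, `Qᵀ S0 Q = S0`
  (the group `H = Sp(A) ⊗ O(B)`).
* `AllSpTv m M` : `M` contains every symplectic transvection `X ↦ X + c tf(X, Y) Y`.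
* `bfib x` : the `B`-fibre `l_x = x ⊗ B`; `IsBFib`; `BOrb M` the `M`-orbit of the fibres.
* `ctr m x X` : the contraction `k ↦ sympForm (X_k) x`;
  `tf m X (x ⊗ y) = be (ctr m x X) y`, so `l_x^⊥ = ker (ctr m x)`.
* `nA m x` : the nilpotent map `N_x = (sympForm (·, x) x) ⊗ 1`, `X ↦ x ⊗ ctr m x X`
  (`1 + c N_x` is the root element `t_x(c) ⊗ 1` of `H`).
* `ZRad m M x`, `RadStd m M x` : the maps `N` with image in `l_x`, killing `l_x^⊥`, with `1 + N ∈ M`;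
  `RadStd` says they are the multiples of `N_x` only (`M ∩ Z(l_x) = X_x`).
* `cN m g x` : `g N_x g⁻¹`.
* `FPF m M` : a root element `1 + c g₁ N_{x₁} g₁⁻¹`, `c ≠ 0`, stabilising the member `g₂ l_{x₂}`
  forces `g₂ l_{x₂} = g₁ l_{x'}` for some `x' ≠ 0` (a fibre of the tensor structure of `g₁`).
* `refl y` : the reflection of `B` in the non-singular `y`;  `rA m x x'` : the involution of `A`
  that is `-1` on the hyperbolic plane `⟨x, x'⟩` (`sympForm x x' = 1`) and `1` on its perp.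
-/

namespace Cfsg.Agent.Lib.Helper97_SpTensDefs

open Matrix
open Cfsg.Agent.Lib.Helper98_ExtDefs Cfsg.Agent.Lib.Helper97_TensDefs

variable {F : Type*} [Field F] (m : ℕ)

/-- the Gram matrix of the standard symmetric form on `F^3` -/
def S0 (F : Type*) [Field F] : Matrix (Fin 3) (Fin 3) F := !![0, 0, 1; 0, 1, 0; 1, 0, 0]

/-- the standard symmetric form on `B = F^3` -/
def be (y y' : Fin 3 → F) : F := y 0 * y' 2 + y 1 * y' 1 + y 2 * y' 0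

/-- the basis vectors of `B` -/
def e0 : Fin 3 → F := ![1, 0, 0]
/-- the basis vectors of `B` -/
def e1 : Fin 3 → F := ![0, 1, 0]
/-- the basis vectors of `B` -/
def e2 : Fin 3 → F := ![0, 0, 1]

/-- the `k`-th column of `X`, i.e. its component along `e_k` -/
def colv {m : ℕ} (X : Matrix (Fin m ⊕ Fin m) (Fin 3) F) (k : Fin 3) : Fin m ⊕ Fin m → F :=
  fun i => X i k

/-- the alternating form `sympForm ⊗ be` on `V = A ⊗ B` -/
def tf (X Y : Matrix (Fin m ⊕ Fin m) (Fin 3) F) : F :=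
  Cfsg.sympForm m F (colv X 0) (colv Y 2) + Cfsg.sympForm m F (colv X 1) (colv Y 1)
    + Cfsg.sympForm m F (colv X 2) (colv Y 0)

/-- every element of `M` preserves `tf m` -/
def MSp (M : Subgroup (Matrix (Fin m ⊕ Fin m) (Fin 3) F ≃ₗ[F] Matrix (Fin m ⊕ Fin m) (Fin 3) F)) :
    Prop :=
  ∀ g ∈ M, ∀ X Y, tf m (g X) (g Y) = tf m X Y

/-- `M` contains `Sp(A) ⊗ O(B)` -/
def KronSp (M : Subgroup (Matrix (Fin m ⊕ Fin m) (Fin 3) F ≃ₗ[F] Matrix (Fin m ⊕ Fin m) (Fin 3) F)) :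
    Prop :=
  ∀ (P : Matrix (Fin m ⊕ Fin m) (Fin m ⊕ Fin m) F) (Q : Matrix (Fin 3) (Fin 3) F),
    P ∈ Matrix.symplecticGroup (Fin m) F → Qᵀ * S0 F * Q = S0 F → HasMap M (fun X => P * X * Qᵀ)

/-- `M` contains all symplectic transvections of `(V, tf m)` -/
def AllSpTv (M : Subgroup (Matrix (Fin m ⊕ Fin m) (Fin 3) F ≃ₗ[F] Matrix (Fin m ⊕ Fin m) (Fin 3) F)) :
    Prop :=
  ∀ (c : F) (Y : Matrix (Fin m ⊕ Fin m) (Fin 3) F), HasMap M (fun X => X + (c * tf m X Y) • Y)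

variable {m}

/-- the `B`-fibre `l_x = x ⊗ B` -/
def bfib (x : Fin m ⊕ Fin m → F) : Submodule F (Matrix (Fin m ⊕ Fin m) (Fin 3) F) where
  carrier := {X | ∃ y : Fin 3 → F, X = vecMulVec x y}
  add_mem' := by
    rintro _ _ ⟨y, rfl⟩ ⟨y', rfl⟩
    exact ⟨y + y', (vecMulVec_add x y y').symm⟩
  zero_mem' := ⟨0, by ext i k; simp [vecMulVec_apply]⟩
  smul_mem' := by
    rintro c _ ⟨y, rfl⟩
    exact ⟨c • y, (vecMulVec_smul c x y).symm⟩

theorem mem_bfib {x : Fin m ⊕ Fin m → F} {X : Matrix (Fin m ⊕ Fin m) (Fin 3) F} :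
    X ∈ bfib x ↔ ∃ y : Fin 3 → F, X = vecMulVec x y := Iff.rfl

/-- `t` is a fibre `x ⊗ B`, `x ≠ 0` -/
def IsBFib (t : Submodule F (Matrix (Fin m ⊕ Fin m) (Fin 3) F)) : Prop :=
  ∃ x : Fin m ⊕ Fin m → F, x ≠ 0 ∧ t = bfib x

/-- the `M`-orbit of the fibres `l_x` -/
def BOrb (M : Subgroup (Matrix (Fin m ⊕ Fin m) (Fin 3) F ≃ₗ[F] Matrix (Fin m ⊕ Fin m) (Fin 3) F)) :
    Set (Submodule F (Matrix (Fin m ⊕ Fin m) (Fin 3) F)) :=
  {t | ∃ g ∈ M, ∃ x : Fin m ⊕ Fin m → F, x ≠ 0 ∧ t = (bfib x).map g.toLinearMap}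

variable (m)

/-- the contraction of `X` with `x`: `k ↦ sympForm (X_k) x` -/
def ctr (x : Fin m ⊕ Fin m → F) (X : Matrix (Fin m ⊕ Fin m) (Fin 3) F) : Fin 3 → F :=
  fun k => Cfsg.sympForm m F (colv X k) x

theorem ctr_add (x : Fin m ⊕ Fin m → F) (X Y : Matrix (Fin m ⊕ Fin m) (Fin 3) F) :
    ctr m x (X + Y) = ctr m x X + ctr m x Y := by
  funext k
  have h : colv (X + Y) k = colv X k + colv Y k := rfl
  simp only [ctr, Cfsg.sympForm, Pi.add_apply, h, add_dotProduct]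

theorem ctr_smul (x : Fin m ⊕ Fin m → F) (c : F) (X : Matrix (Fin m ⊕ Fin m) (Fin 3) F) :
    ctr m x (c • X) = c • ctr m x X := by
  funext k
  have h : colv (c • X) k = c • colv X k := rfl
  simp only [ctr, Cfsg.sympForm, Pi.smul_apply, h, smul_dotProduct]

/-- `N_x = (sympForm (·, x) x) ⊗ 1` : `X ↦ x ⊗ ctr m x X` -/
def nA (x : Fin m ⊕ Fin m → F) :
    Matrix (Fin m ⊕ Fin m) (Fin 3) F →ₗ[F] Matrix (Fin m ⊕ Fin m) (Fin 3) F where
  toFun X := vecMulVec x (ctr m x X)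
  map_add' X Y := by rw [ctr_add, vecMulVec_add]
  map_smul' c X := by rw [ctr_smul, vecMulVec_smul, RingHom.id_apply]

theorem nA_apply (x : Fin m ⊕ Fin m → F) (X : Matrix (Fin m ⊕ Fin m) (Fin 3) F) :
    nA m x X = vecMulVec x (ctr m x X) := rfl

/-- the maps `N` with image in `l_x`, vanishing on `l_x^⊥ = ker (ctr m x)`, with `1 + N ∈ M` -/
def ZRad (M : Subgroup (Matrix (Fin m ⊕ Fin m) (Fin 3) F ≃ₗ[F] Matrix (Fin m ⊕ Fin m) (Fin 3) F))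
    (x : Fin m ⊕ Fin m → F) :
    Set (Matrix (Fin m ⊕ Fin m) (Fin 3) F →ₗ[F] Matrix (Fin m ⊕ Fin m) (Fin 3) F) :=
  {N | (∀ X, N X ∈ bfib x) ∧ (∀ X, ctr m x X = 0 → N X = 0) ∧ HasMap M (fun X => X + N X)}

/-- `M ∩ Z(l_x)` consists of the root elements `1 + c N_x` only -/
def RadStd (M : Subgroup (Matrix (Fin m ⊕ Fin m) (Fin 3) F ≃ₗ[F] Matrix (Fin m ⊕ Fin m) (Fin 3) F))
    (x : Fin m ⊕ Fin m → F) : Prop :=
  ∀ N ∈ ZRad m M x, ∃ c : F, N = c • nA m x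

/-- the element of `Lie Z(l_x)` with operator `T` on `B`: `X ↦ x ⊗ T (ctr m x X)`
(`1 + zT m x T ∈ Sp(V)` iff `S0 * T` is symmetric; `zT m x 1 = nA m x`;
`zT m x (single 0 2 c)` is the transvection direction `X ↦ c tf(X, x ⊗ e0) • x ⊗ e0`) -/
def zT (x : Fin m ⊕ Fin m → F) (T : Matrix (Fin 3) (Fin 3) F) :
    Matrix (Fin m ⊕ Fin m) (Fin 3) F →ₗ[F] Matrix (Fin m ⊕ Fin m) (Fin 3) F where
  toFun X := vecMulVec x (T *ᵥ ctr m x X)
  map_add' X Y := by rw [ctr_add, mulVec_add, vecMulVec_add]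
  map_smul' c X := by rw [ctr_smul, mulVec_smul, vecMulVec_smul, RingHom.id_apply]

theorem zT_apply (x : Fin m ⊕ Fin m → F) (T : Matrix (Fin 3) (Fin 3) F)
    (X : Matrix (Fin m ⊕ Fin m) (Fin 3) F) : zT m x T X = vecMulVec x (T *ᵥ ctr m x X) := rfl

/-- `g N_x g⁻¹` -/
def cN (g : Matrix (Fin m ⊕ Fin m) (Fin 3) F ≃ₗ[F] Matrix (Fin m ⊕ Fin m) (Fin 3) F)
    (x : Fin m ⊕ Fin m → F) :
    Matrix (Fin m ⊕ Fin m) (Fin 3) F →ₗ[F] Matrix (Fin m ⊕ Fin m) (Fin 3) F :=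
  g.toLinearMap ∘ₗ nA m x ∘ₗ g.symm.toLinearMap

theorem cN_apply (g : Matrix (Fin m ⊕ Fin m) (Fin 3) F ≃ₗ[F] Matrix (Fin m ⊕ Fin m) (Fin 3) F)
    (x : Fin m ⊕ Fin m → F) (X : Matrix (Fin m ⊕ Fin m) (Fin 3) F) :
    cN m g x X = g (nA m x (g.symm X)) := rfl

/-- a root element `1 + c g₁ N_{x₁} g₁⁻¹` (`c ≠ 0`) stabilising the member `g₂ l_{x₂}` of the orbit
forces `g₂ l_{x₂}` to be a fibre of the tensor structure of `g₁`: `g₂ l_{x₂} = g₁ l_{x'}` -/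
def FPF (M : Subgroup (Matrix (Fin m ⊕ Fin m) (Fin 3) F ≃ₗ[F] Matrix (Fin m ⊕ Fin m) (Fin 3) F)) :
    Prop :=
  ∀ g₁ ∈ M, ∀ g₂ ∈ M, ∀ x₁ x₂ : Fin m ⊕ Fin m → F, x₁ ≠ 0 → x₂ ≠ 0 → ∀ c : F, c ≠ 0 →
    (∀ X ∈ (bfib x₂).map g₂.toLinearMap, X + c • cN m g₁ x₁ X ∈ (bfib x₂).map g₂.toLinearMap) →
    ∃ x' : Fin m ⊕ Fin m → F, x' ≠ 0 ∧
      (bfib x₂).map g₂.toLinearMap = (bfib x').map g₁.toLinearMap

/-- the reflection of `B` in `y` (`be y y ≠ 0`): `b ↦ b - 2 be(b, y) / be(y, y) y` -/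
noncomputable def refl (y : Fin 3 → F) : Matrix (Fin 3) (Fin 3) F :=
  1 - (2 / be y y) • vecMulVec y (S0 F *ᵥ y)

/-- the involution of `A` equal to `-1` on `⟨x, x'⟩` and `1` on its perp (`sympForm x x' = 1`):
`v ↦ v - 2 (sympForm v x' • x - sympForm v x • x')` -/
def rA (x x' : Fin m ⊕ Fin m → F) : Matrix (Fin m ⊕ Fin m) (Fin m ⊕ Fin m) F :=
  1 - (2 : F) • (vecMulVec x (Matrix.J (Fin m) F *ᵥ x') - vecMulVec x' (Matrix.J (Fin m) F *ᵥ x))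

end Cfsg.Agent.Lib.Helper97_SpTensDefs
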