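import Mathlib
import Cfsg.Agent.Lib.Helper97_TensDefs

set_option autoImplicit false
set_option linter.unusedSectionVars false

/-!
# S5637: basic facts shared by the packages
-/

namespace Cfsg.Agent.Lib.Helper97_TensBasic

open Matrix
open Cfsg.Agent.Lib.Helper98_ExtDefs Cfsg.Agent.Lib.Helper97_TensDefs

variable {F : Type*} [Field F] {ι κ : Type*} [Fintype ι] [Fintype κ] [DecidableEq ι] [DecidableEq κ]

theorem det_one_add_vecMulVec {n : Type*} [Fintype n] [DecidableEq n] (u v : n → F) :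
    (1 + vecMulVec u v).det = 1 + v ⬝ᵥ u := by
  rw [vecMulVec_eq Unit, det_one_add_replicateCol_mul_replicateRow]

theorem vecMulVec_mulVec' (x : ι → F) (y β : κ → F) : vecMulVec x y *ᵥ β = (y ⬝ᵥ β) • x := by
  rw [vecMulVec_mulVec]
  ext i
  simp [mul_comm]

theorem vecMul_vecMulVec' (α x : ι → F) (y : κ → F) : α ᵥ* vecMulVec x y = (α ⬝ᵥ x) • y := by
  ext k
  simp only [vecMul, dotProduct, vecMulVec_apply, Pi.smul_apply, smul_eq_mul, Finset.sum_mul]
  apply Finset.sum_congr rfl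
  intro i _
  ring

/-- `1 ∈ M` acts as the identity -/
theorem hasMap_id (M : Subgroup (Matrix ι κ F ≃ₗ[F] Matrix ι κ F)) : HasMap M (fun X => X) :=
  ⟨1, M.one_mem, fun _ => rfl⟩

theorem hasMap_congr {M : Subgroup (Matrix ι κ F ≃ₗ[F] Matrix ι κ F)}
    {φ ψ : Matrix ι κ F → Matrix ι κ F} (h : ∀ X, φ X = ψ X) (hφ : HasMap M φ) : HasMap M ψ := by
  obtain ⟨g, hg, hgx⟩ := hφ
  exact ⟨g, hg, fun X => (hgx X).trans (h X)⟩

/-- the root element `1 ⊗ (1 + y βᵀ)` -/
theorem hasMap_rootB {M : Subgroup (Matrix ι κ F ≃ₗ[F] Matrix ι κ F)} (hK : KronHyp M)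
    (y β : κ → F) (h : β ⬝ᵥ y = 0) : HasMap M (fun X => X + nB y β X) := by
  have hdet : (1 : Matrix ι ι F).det ^ Fintype.card κ *
      (1 + vecMulVec y β).det ^ Fintype.card ι = 1 := by
    rw [det_one, one_pow, one_mul, det_one_add_vecMulVec, h, add_zero, one_pow]
  refine hasMap_congr (fun X => ?_) (hK 1 (1 + vecMulVec y β) hdet)
  rw [Matrix.one_mul, transpose_add, transpose_one, transpose_vecMulVec, Matrix.mul_add,
    Matrix.mul_one, mul_vecMulVec, nB_apply]

/-- the root element `(1 + x αᵀ) ⊗ 1` -/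
theorem hasMap_rootA {M : Subgroup (Matrix ι κ F ≃ₗ[F] Matrix ι κ F)} (hK : KronHyp M)
    (x α : ι → F) (h : α ⬝ᵥ x = 0) : HasMap M (fun X => X + vecMulVec x (α ᵥ* X)) := by
  have hdet : (1 + vecMulVec x α).det ^ Fintype.card κ *
      (1 : Matrix κ κ F).det ^ Fintype.card ι = 1 := by
    rw [det_one, one_pow, mul_one, det_one_add_vecMulVec, h, add_zero, one_pow]
  refine hasMap_congr (fun X => ?_) (hK (1 + vecMulVec x α) 1 hdet)
  rw [transpose_one, Matrix.mul_one, Matrix.add_mul, Matrix.one_mul, vecMulVec_mul]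

theorem nB_vecMulVec (y β : κ → F) (x : ι → F) (z : κ → F) :
    nB y β (vecMulVec x z) = (z ⬝ᵥ β) • vecMulVec x y := by
  rw [nB_apply, vecMulVec_mulVec', smul_vecMulVec]

/-- `nB y β` kills `fiber y` when `β ⬝ᵥ y = 0` -/
theorem nB_fiber (y β : κ → F) (h : β ⬝ᵥ y = 0) {X : Matrix ι κ F} (hX : X ∈ fiber (ι := ι) y) :
    nB y β X = 0 := by
  obtain ⟨x, rfl⟩ := hX
  rw [nB_vecMulVec, dotProduct_comm, h, zero_smul]

theorem nB_mem_fiber (y β : κ → F) (X : Matrix ι κ F) : nB y β X ∈ fiber (ι := ι) y :=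
  ⟨X *ᵥ β, rfl⟩

theorem vecMulVec_mem_fiber (x : ι → F) (y : κ → F) : vecMulVec x y ∈ fiber (ι := ι) y := ⟨x, rfl⟩

theorem vecMulVec_eq_zero_iff {x : ι → F} {y : κ → F} (hy : y ≠ 0) : vecMulVec x y = 0 ↔ x = 0 := by
  constructor
  · intro h
    obtain ⟨k, hk⟩ : ∃ k, y k ≠ 0 := by
      by_contra hcon
      push Not at hcon
      exact hy (funext hcon)
    ext i
    have := congrFun (congrFun h i) k
    rw [vecMulVec_apply, Matrix.zero_apply] at this
    rcases mul_eq_zero.mp this with h1 | h1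
    · exact h1
    · exact absurd h1 hk
  · rintro rfl
    exact zero_vecMulVec y

/-- the linear isomorphism `A ≃ fiber y` -/
noncomputable def fiberEquiv (y : κ → F) (hy : y ≠ 0) : (ι → F) ≃ₗ[F] fiber (ι := ι) y :=
  LinearEquiv.ofBijective
    { toFun := fun x => ⟨vecMulVec x y, vecMulVec_mem_fiber x y⟩
      map_add' := fun x x' => Subtype.ext (add_vecMulVec x x' y)
      map_smul' := fun c x => Subtype.ext (smul_vecMulVec c x y) }
    ⟨by
      intro x x' h
      have h1 : vecMulVec (x - x') y = 0 := by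
        rw [sub_vecMulVec]
        exact sub_eq_zero.mpr (congrArg Subtype.val h)
      exact sub_eq_zero.mp ((vecMulVec_eq_zero_iff hy).mp h1),
     by
      rintro ⟨X, x, rfl⟩
      exact ⟨x, rfl⟩⟩

theorem finrank_fiber (y : κ → F) (hy : y ≠ 0) :
    Module.finrank F (fiber (ι := ι) y) = Fintype.card ι := by
  rw [← LinearEquiv.finrank_eq (fiberEquiv y hy), Module.finrank_fintype_fun_eq_card]

theorem finrank_map_fiber (g : Matrix ι κ F ≃ₗ[F] Matrix ι κ F) (y : κ → F) (hy : y ≠ 0) :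
    Module.finrank F ((fiber (ι := ι) y).map g.toLinearMap) = Fintype.card ι := by
  rw [LinearEquiv.finrank_map_eq, finrank_fiber y hy]

theorem finrank_of_mem_fibOrb {M : Subgroup (Matrix ι κ F ≃ₗ[F] Matrix ι κ F)}
    {t : Submodule F (Matrix ι κ F)} (ht : t ∈ FibOrb M) : Module.finrank F t = Fintype.card ι := by
  obtain ⟨g, _, y, hy, rfl⟩ := ht
  exact finrank_map_fiber g y hy

theorem fiber_mem_fibOrb (M : Subgroup (Matrix ι κ F ≃ₗ[F] Matrix ι κ F)) (y : κ → F) (hy : y ≠ 0) :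
    fiber (ι := ι) y ∈ FibOrb M := by
  refine ⟨1, M.one_mem, y, hy, ?_⟩
  ext X
  simp

/-- `FibOrb M` is `M`-invariant -/
theorem map_mem_fibOrb {M : Subgroup (Matrix ι κ F ≃ₗ[F] Matrix ι κ F)}
    {t : Submodule F (Matrix ι κ F)} (ht : t ∈ FibOrb M)
    {g : Matrix ι κ F ≃ₗ[F] Matrix ι κ F} (hg : g ∈ M) : t.map g.toLinearMap ∈ FibOrb M := by
  obtain ⟨g', hg', y, hy, rfl⟩ := ht
  refine ⟨g * g', M.mul_mem hg hg', y, hy, ?_⟩
  rw [← Submodule.map_comp]
  rfl

/-- two fibres are equal or meet in zero -/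
theorem fiber_inf_fiber {y y' : κ → F} (h : fiber (ι := ι) y ≠ fiber y') :
    fiber (ι := ι) y ⊓ fiber y' = ⊥ := by
  rw [eq_bot_iff]
  rintro X ⟨⟨x, rfl⟩, ⟨x', hx'⟩⟩
  rw [Submodule.mem_bot]
  by_contra hne
  apply h
  -- a nonzero common element forces proportional `y`, `y'`
  have hx0 : x ≠ 0 := by
    rintro rfl
    exact hne (zero_vecMulVec y)
  obtain ⟨i, hi⟩ : ∃ i, x i ≠ 0 := by
    by_contra hcon
    push Not at hcon
    exact hx0 (funext hcon)
  have hrow : ∀ k, x i * y k = x' i * y' k := fun k => by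
    have := congrFun (congrFun hx' i) k
    rwa [vecMulVec_apply, vecMulVec_apply] at this
  have hx'i : x' i ≠ 0 := by
    intro h0
    apply hne
    have hy0 : y = 0 := by
      ext k
      have := hrow k
      rw [h0, zero_mul] at this
      rcases mul_eq_zero.mp this with h1 | h1
      · exact absurd h1 hi
      · exact h1
    rw [hy0]
    ext i' k'
    simp [vecMulVec_apply]
  have hy : y = (x' i / x i) • y' := by
    ext k
    rw [Pi.smul_apply, smul_eq_mul]
    field_simp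
    rw [mul_comm]
    exact hrow k
  have hc : x' i / x i ≠ 0 := div_ne_zero hx'i hi
  ext X
  constructor
  · rintro ⟨w, rfl⟩
    refine ⟨(x' i / x i) • w, ?_⟩
    rw [hy, vecMulVec_smul, smul_vecMulVec]
  · rintro ⟨w, rfl⟩
    refine ⟨(x' i / x i)⁻¹ • w, ?_⟩
    rw [hy, vecMulVec_smul, smul_vecMulVec, smul_smul, mul_inv_cancel₀ hc, one_smul]

end Cfsg.Agent.Lib.Helper97_TensBasic
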