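import Mathlib
import Cfsg.Agent.Lib.Helper13_Symp
import Cfsg.Agent.Lib.Helper13_SympTrans
import Cfsg.Agent.Lib.Helper97_TensBasic
import Cfsg.Agent.Lib.Helper97_SpTensDefs

set_option autoImplicit false
set_option linter.unusedSectionVars false

/-!
# `Sp_{2m}(q) ⊗ O_3(q)`: basic API for the definitions of `Helper97_SpTensDefs`
-/

namespace Cfsg.Agent.Lib.Helper97_SpTensBasic

open Matrix
open Cfsg.Agent.Lib.Helper98_ExtDefs Cfsg.Agent.Lib.Helper97_TensDefs
  Cfsg.Agent.Lib.Helper97_SpTensDefs Cfsg.Agent.Lib.Helper13_Symp Cfsg.Agent.Lib.Helper13_SympTrans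
  Cfsg.Agent.Lib.Helper97_TensBasic

variable {F : Type*} [Field F] {m : ℕ}

local notation "V" => Matrix (Fin m ⊕ Fin m) (Fin 3) F

/-! ### the form `be` on `B` -/

theorem be_comm (y y' : Fin 3 → F) : be y y' = be y' y := by unfold be; ring

theorem be_add_left (y z y' : Fin 3 → F) : be (y + z) y' = be y y' + be z y' := by
  unfold be; simp only [Pi.add_apply]; ring

theorem be_add_right (y y' z : Fin 3 → F) : be y (y' + z) = be y y' + be y z := by
  unfold be; simp only [Pi.add_apply]; ring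

theorem be_smul_left (c : F) (y y' : Fin 3 → F) : be (c • y) y' = c * be y y' := by
  unfold be; simp only [Pi.smul_apply, smul_eq_mul]; ring

theorem be_smul_right (c : F) (y y' : Fin 3 → F) : be y (c • y') = c * be y y' := by
  unfold be; simp only [Pi.smul_apply, smul_eq_mul]; ring

@[simp] theorem be_zero_left (y : Fin 3 → F) : be 0 y = 0 := by unfold be; simp

@[simp] theorem be_zero_right (y : Fin 3 → F) : be y 0 = 0 := by unfold be; simp

theorem be_neg_left (y y' : Fin 3 → F) : be (-y) y' = - be y y' := by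
  unfold be; simp only [Pi.neg_apply]; ring

theorem be_neg_right (y y' : Fin 3 → F) : be y (-y') = - be y y' := by
  unfold be; simp only [Pi.neg_apply]; ring

theorem be_sub_left (y z y' : Fin 3 → F) : be (y - z) y' = be y y' - be z y' := by
  unfold be; simp only [Pi.sub_apply]; ring

theorem be_sub_right (y y' z : Fin 3 → F) : be y (y' - z) = be y y' - be y z := by
  unfold be; simp only [Pi.sub_apply]; ring

theorem be_eq_dotProduct (y y' : Fin 3 → F) : be y y' = y ⬝ᵥ S0 F *ᵥ y' := by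
  simp [be, S0, dotProduct, Matrix.mulVec, Fin.sum_univ_three]

@[simp] theorem be_e0_e0 : be (e0 : Fin 3 → F) e0 = 0 := by simp [be, e0]
@[simp] theorem be_e0_e1 : be (e0 : Fin 3 → F) e1 = 0 := by simp [be, e0, e1]
@[simp] theorem be_e0_e2 : be (e0 : Fin 3 → F) e2 = 1 := by simp [be, e0, e2]
@[simp] theorem be_e1_e0 : be (e1 : Fin 3 → F) e0 = 0 := by simp [be, e0, e1]
@[simp] theorem be_e1_e1 : be (e1 : Fin 3 → F) e1 = 1 := by simp [be, e1]
@[simp] theorem be_e1_e2 : be (e1 : Fin 3 → F) e2 = 0 := by simp [be, e1, e2]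
@[simp] theorem be_e2_e0 : be (e2 : Fin 3 → F) e0 = 1 := by simp [be, e0, e2]
@[simp] theorem be_e2_e1 : be (e2 : Fin 3 → F) e1 = 0 := by simp [be, e1, e2]
@[simp] theorem be_e2_e2 : be (e2 : Fin 3 → F) e2 = 0 := by simp [be, e2]

theorem be_e0_right (y : Fin 3 → F) : be y e0 = y 2 := by simp [be, e0]
theorem be_e1_right (y : Fin 3 → F) : be y e1 = y 1 := by simp [be, e1]
theorem be_e2_right (y : Fin 3 → F) : be y e2 = y 0 := by simp [be, e2]

/-- `be` is non-degenerate -/
theorem eq_zero_of_be (y : Fin 3 → F) (h : ∀ y', be y y' = 0) : y = 0 := by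
  funext k
  fin_cases k
  · simpa [be_e2_right] using h e2
  · simpa [be_e1_right] using h e1
  · simpa [be_e0_right] using h e0

theorem vec3_eq (y : Fin 3 → F) : y = y 0 • e0 + y 1 • e1 + y 2 • e2 := by
  funext k
  fin_cases k <;> simp [e0, e1, e2]

theorem e0_ne_zero : (e0 : Fin 3 → F) ≠ 0 := fun h => one_ne_zero (α := F) (by simpa [e0] using congrFun h 0)
theorem e1_ne_zero : (e1 : Fin 3 → F) ≠ 0 := fun h => one_ne_zero (α := F) (by simpa [e1] using congrFun h 1)
theorem e2_ne_zero : (e2 : Fin 3 → F) ≠ 0 := fun h => one_ne_zero (α := F) (by simpa [e2] using congrFun h 2)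

/-! ### columns, `tf` -/

theorem colv_add (X Y : V) (k : Fin 3) : colv (X + Y) k = colv X k + colv Y k := rfl
theorem colv_smul (c : F) (X : V) (k : Fin 3) : colv (c • X) k = c • colv X k := rfl
theorem colv_neg (X : V) (k : Fin 3) : colv (-X) k = - colv X k := rfl
theorem colv_sub (X Y : V) (k : Fin 3) : colv (X - Y) k = colv X k - colv Y k := rfl
@[simp] theorem colv_zero (k : Fin 3) : colv (0 : V) k = 0 := rfl

theorem colv_vecMulVec (x : Fin m ⊕ Fin m → F) (y : Fin 3 → F) (k : Fin 3) :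
    colv (vecMulVec x y) k = y k • x := by
  funext i
  simp [colv, vecMulVec_apply, mul_comm]

theorem tf_add_left (X X' Y : V) : tf m (X + X') Y = tf m X Y + tf m X' Y := by
  simp only [tf, colv_add, sympForm_add_left]; ring

theorem tf_add_right (X Y Y' : V) : tf m X (Y + Y') = tf m X Y + tf m X Y' := by
  simp only [tf, colv_add, sympForm_add_right]; ring

theorem tf_smul_left (c : F) (X Y : V) : tf m (c • X) Y = c * tf m X Y := by
  simp only [tf, colv_smul, sympForm_smul_left]; ring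

theorem tf_smul_right (c : F) (X Y : V) : tf m X (c • Y) = c * tf m X Y := by
  simp only [tf, colv_smul, sympForm_smul_right]; ring

theorem tf_swap (X Y : V) : tf m X Y = - tf m Y X := by
  simp only [tf]
  rw [sympForm_swap m (colv X 0), sympForm_swap m (colv X 1), sympForm_swap m (colv X 2)]
  ring

theorem tf_self (h2 : (2 : F) ≠ 0) (X : V) : tf m X X = 0 := by
  have h := tf_swap X X
  have h' : (2 : F) * tf m X X = 0 := by linear_combination h
  rcases mul_eq_zero.mp h' with h'' | h''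
  · exact absurd h'' h2
  · exact h''

@[simp] theorem tf_zero_left (Y : V) : tf m 0 Y = 0 := by simp [tf]
@[simp] theorem tf_zero_right (X : V) : tf m X 0 = 0 := by simp [tf]

theorem tf_neg_left (X Y : V) : tf m (-X) Y = - tf m X Y := by
  have h := tf_smul_left (-1 : F) X Y
  simpa using h

theorem tf_neg_right (X Y : V) : tf m X (-Y) = - tf m X Y := by
  have h := tf_smul_right (-1 : F) X Y
  simpa using h

theorem tf_sub_left (X X' Y : V) : tf m (X - X') Y = tf m X Y - tf m X' Y := by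
  rw [sub_eq_add_neg, tf_add_left, tf_neg_left, ← sub_eq_add_neg]

theorem tf_sub_right (X Y Y' : V) : tf m X (Y - Y') = tf m X Y - tf m X Y' := by
  rw [sub_eq_add_neg, tf_add_right, tf_neg_right, ← sub_eq_add_neg]

theorem tf_vecMulVec (x x' : Fin m ⊕ Fin m → F) (y y' : Fin 3 → F) :
    tf m (vecMulVec x y) (vecMulVec x' y') = Cfsg.sympForm m F x x' * be y y' := by
  simp only [tf, colv_vecMulVec, sympForm_smul_left, sympForm_smul_right, be]; ring

/-- `tf m X (x ⊗ y) = be (ctr m x X) y` -/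
theorem tf_vecMulVec_right (X : V) (x : Fin m ⊕ Fin m → F) (y : Fin 3 → F) :
    tf m X (vecMulVec x y) = be (ctr m x X) y := by
  simp only [tf, colv_vecMulVec, sympForm_smul_right, be, ctr]; ring

theorem tf_vecMulVec_left (X : V) (x : Fin m ⊕ Fin m → F) (y : Fin 3 → F) :
    tf m (vecMulVec x y) X = - be (ctr m x X) y := by
  rw [tf_swap, tf_vecMulVec_right]

/-- `X = X₀ ⊗ e0 + X₁ ⊗ e1 + X₂ ⊗ e2` -/
theorem eq_sum_cols (X : V) :
    X = vecMulVec (colv X 0) e0 + vecMulVec (colv X 1) e1 + vecMulVec (colv X 2) e2 := by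
  ext i k
  fin_cases k <;> simp [colv, e0, e1, e2]

/-! ### contraction, `nA` -/

theorem ctr_apply (x : Fin m ⊕ Fin m → F) (X : V) (k : Fin 3) :
    ctr m x X k = Cfsg.sympForm m F (colv X k) x := rfl

theorem ctr_vecMulVec (x v : Fin m ⊕ Fin m → F) (b : Fin 3 → F) :
    ctr m x (vecMulVec v b) = Cfsg.sympForm m F v x • b := by
  funext k
  simp only [ctr, colv_vecMulVec, sympForm_smul_left, Pi.smul_apply, smul_eq_mul]; ring

@[simp] theorem ctr_zero (x : Fin m ⊕ Fin m → F) : ctr m x (0 : V) = 0 := by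
  funext k; simp [ctr]

theorem ctr_neg (x : Fin m ⊕ Fin m → F) (X : V) : ctr m x (-X) = - ctr m x X := by
  have h := ctr_smul m x (-1 : F) X
  simpa using h

theorem ctr_sub (x : Fin m ⊕ Fin m → F) (X Y : V) : ctr m x (X - Y) = ctr m x X - ctr m x Y := by
  rw [sub_eq_add_neg, ctr_add, ctr_neg, ← sub_eq_add_neg]

theorem ctr_smul_left (c : F) (x : Fin m ⊕ Fin m → F) (X : V) : ctr m (c • x) X = c • ctr m x X := by
  funext k
  simp only [ctr, sympForm_smul_right, Pi.smul_apply, smul_eq_mul]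

/-- fibres are totally isotropic for the contraction: `ctr m x (x ⊗ b) = 0` -/
theorem ctr_self (x : Fin m ⊕ Fin m → F) (b : Fin 3 → F) : ctr m x (vecMulVec x b) = 0 := by
  rw [ctr_vecMulVec, sympForm_self, zero_smul]

theorem ctr_eq_zero_of_mem_bfib {x : Fin m ⊕ Fin m → F} {X : V} (hX : X ∈ bfib x) :
    ctr m x X = 0 := by
  obtain ⟨y, rfl⟩ := hX
  exact ctr_self x y

theorem nA_vecMulVec (x v : Fin m ⊕ Fin m → F) (b : Fin 3 → F) :
    nA m x (vecMulVec v b) = Cfsg.sympForm m F v x • vecMulVec x b := by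
  rw [nA_apply, ctr_vecMulVec, vecMulVec_smul]

theorem nA_mem_bfib (x : Fin m ⊕ Fin m → F) (X : V) : nA m x X ∈ bfib x := ⟨_, rfl⟩

theorem nA_eq_zero_of_ctr {x : Fin m ⊕ Fin m → F} {X : V} (h : ctr m x X = 0) : nA m x X = 0 := by
  rw [nA_apply, h]
  ext i k; simp [vecMulVec_apply]

theorem nA_nA (x : Fin m ⊕ Fin m → F) (X : V) : nA m x (nA m x X) = 0 :=
  nA_eq_zero_of_ctr (ctr_self x _)

/-- `tf m (N_x X) Y = - be (ctr Y) (ctr X)` -/
theorem tf_nA_left (x : Fin m ⊕ Fin m → F) (X Y : V) :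
    tf m (nA m x X) Y = - be (ctr m x Y) (ctr m x X) := by
  rw [nA_apply, tf_vecMulVec_left]

theorem tf_nA_right (x : Fin m ⊕ Fin m → F) (X Y : V) :
    tf m X (nA m x Y) = be (ctr m x X) (ctr m x Y) := by
  rw [nA_apply, tf_vecMulVec_right]

/-- `N_x` is skew for `tf` -/
theorem tf_nA_skew (x : Fin m ⊕ Fin m → F) (X Y : V) :
    tf m (nA m x X) Y + tf m X (nA m x Y) = 0 := by
  rw [tf_nA_left, tf_nA_right, be_comm]; ring

theorem vecMulVec_mem_bfib (x : Fin m ⊕ Fin m → F) (y : Fin 3 → F) : vecMulVec x y ∈ bfib x :=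
  ⟨y, rfl⟩

/-! ### Kronecker maps -/

theorem colv_kron (P : Matrix (Fin m ⊕ Fin m) (Fin m ⊕ Fin m) F) (Q : Matrix (Fin 3) (Fin 3) F)
    (X : V) (k : Fin 3) :
    colv (P * X * Qᵀ) k = P *ᵥ (Q k 0 • colv X 0 + Q k 1 • colv X 1 + Q k 2 • colv X 2) := by
  funext i
  simp only [colv, Matrix.mul_apply, Fin.sum_univ_three, transpose_apply, Matrix.mulVec, dotProduct,
    Pi.add_apply, Pi.smul_apply, smul_eq_mul, Finset.sum_mul]
  rw [← Finset.sum_add_distrib, ← Finset.sum_add_distrib]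
  apply Finset.sum_congr rfl
  intro j _
  ring

theorem kron_vecMulVec (P : Matrix (Fin m ⊕ Fin m) (Fin m ⊕ Fin m) F) (Q : Matrix (Fin 3) (Fin 3) F)
    (x : Fin m ⊕ Fin m → F) (y : Fin 3 → F) :
    P * vecMulVec x y * Qᵀ = vecMulVec (P *ᵥ x) (Q *ᵥ y) := by
  rw [mul_vecMulVec, vecMulVec_mul, vecMul_transpose]

/-- `QᵀS0Q = S0` means that `Q` preserves `be` -/
theorem be_mulVec_of_orth {Q : Matrix (Fin 3) (Fin 3) F} (hQ : Qᵀ * S0 F * Q = S0 F)
    (y y' : Fin 3 → F) : be (Q *ᵥ y) (Q *ᵥ y') = be y y' := by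
  rw [be_eq_dotProduct, be_eq_dotProduct, Matrix.mulVec_mulVec, ← Matrix.vecMul_transpose,
    dotProduct_mulVec, Matrix.vecMul_vecMul, ← Matrix.mul_assoc, hQ, ← dotProduct_mulVec]

/-- Kronecker maps `P ⊗ Q`, `P` symplectic, `Q` orthogonal, preserve `tf` -/
theorem tf_kron {P : Matrix (Fin m ⊕ Fin m) (Fin m ⊕ Fin m) F} {Q : Matrix (Fin 3) (Fin 3) F}
    (hP : P ∈ Matrix.symplecticGroup (Fin m) F) (hQ : Qᵀ * S0 F * Q = S0 F) (X Y : V) :
    tf m (P * X * Qᵀ) (P * Y * Qᵀ) = tf m X Y := by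
  have key : ∀ (x x' : Fin m ⊕ Fin m → F) (y y' : Fin 3 → F),
      tf m (P * vecMulVec x y * Qᵀ) (P * vecMulVec x' y' * Qᵀ) = tf m (vecMulVec x y) (vecMulVec x' y') := by
    intro x x' y y'
    rw [kron_vecMulVec, kron_vecMulVec, tf_vecMulVec, tf_vecMulVec,
      sympForm_mulVec_mulVec_of_mem m hP, be_mulVec_of_orth hQ]
  rw [eq_sum_cols X, eq_sum_cols Y]
  simp only [Matrix.mul_add, Matrix.add_mul, tf_add_left, tf_add_right, key]

/-- the root element `t_x(c) ⊗ 1 = 1 + c N_x` belongs to `M` -/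
theorem hasMap_root {M : Subgroup (V ≃ₗ[F] V)} (hK : KronSp m M) (x : Fin m ⊕ Fin m → F) (c : F) :
    HasMap M (fun X => X + c • nA m x X) := by
  have hQ : (1 : Matrix (Fin 3) (Fin 3) F)ᵀ * S0 F * 1 = S0 F := by
    rw [transpose_one, Matrix.one_mul, Matrix.mul_one]
  refine hasMap_congr (fun X => ?_) (hK (Cfsg.sympTransvection m x c) 1 (sympTransvection_mem m x c) hQ)
  rw [transpose_one, Matrix.mul_one, eq_sum_cols X]
  simp only [Matrix.mul_add, map_add, smul_add, nA_vecMulVec, mul_vecMulVec, sympTransvection_mulVec,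
    add_vecMulVec, smul_vecMulVec, smul_smul]
  abel

/-! ### `HasMap` -/

theorem hasMap_comp {M : Subgroup (V ≃ₗ[F] V)} {φ ψ : V → V} (hφ : HasMap M φ) (hψ : HasMap M ψ) :
    HasMap M (fun X => φ (ψ X)) := by
  obtain ⟨g, hg, hgx⟩ := hφ
  obtain ⟨h, hh, hhx⟩ := hψ
  exact ⟨g * h, M.mul_mem hg hh, fun X => by rw [LinearEquiv.mul_apply, hhx, hgx]⟩

theorem hasMap_of_mem {M : Subgroup (V ≃ₗ[F] V)} {g : V ≃ₗ[F] V} (hg : g ∈ M) :
    HasMap M (fun X => g X) := ⟨g, hg, fun _ => rfl⟩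

/-- `tf` is non-degenerate -/
theorem eq_zero_of_tf (X : V) (h : ∀ Y, tf m X Y = 0) : X = 0 := by
  have hc : ∀ x, ctr m x X = 0 := by
    intro x
    apply eq_zero_of_be
    intro y
    rw [← tf_vecMulVec_right]
    exact h _
  ext i k
  by_contra hne
  have hcol : colv X k ≠ 0 := fun h0 => hne (by simpa [colv] using congrFun h0 i)
  obtain ⟨w, hw⟩ := exists_sympForm_ne_zero m hcol
  exact hw (by simpa [ctr_apply] using congrFun (hc w) k)

end Cfsg.Agent.Lib.Helper97_SpTensBasic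

namespace Cfsg.Agent.Lib.Helper97_SpTensBasic

open Matrix Module
open Cfsg.Agent.Lib.Helper98_ExtDefs Cfsg.Agent.Lib.Helper97_TensDefs
  Cfsg.Agent.Lib.Helper97_SpTensDefs Cfsg.Agent.Lib.Helper13_Symp Cfsg.Agent.Lib.Helper13_SympTrans
  Cfsg.Agent.Lib.Helper97_TensBasic

variable {F : Type*} [Field F] {m : ℕ}

local notation "V" => Matrix (Fin m ⊕ Fin m) (Fin 3) F

/-! ### more API: `IsKron`, `zT`, fibres, the involutions -/

theorem isKron_mul {g h : V ≃ₗ[F] V} (hg : IsKron g) (hh : IsKron h) : IsKron (g * h) := by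
  obtain ⟨P, Q, hPQ⟩ := hg
  obtain ⟨P', Q', hPQ'⟩ := hh
  refine ⟨P * P', Q * Q', fun X => ?_⟩
  rw [LinearEquiv.mul_apply, hPQ', hPQ, transpose_mul]
  simp only [Matrix.mul_assoc]

theorem zT_one (x : Fin m ⊕ Fin m → F) : zT m x 1 = nA m x := by
  apply LinearMap.ext
  intro X
  rw [zT_apply, one_mulVec, nA_apply]

theorem zT_smul (x : Fin m ⊕ Fin m → F) (c : F) (T : Matrix (Fin 3) (Fin 3) F) :
    zT m x (c • T) = c • zT m x T := by
  apply LinearMap.ext
  intro X
  rw [LinearMap.smul_apply, zT_apply, zT_apply, smul_mulVec, vecMulVec_smul]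

/-- `zT m x (single 0 2 1)` is the direction of the transvection with centre `x ⊗ e0` -/
theorem zT_single (x : Fin m ⊕ Fin m → F) (X : V) :
    zT m x (Matrix.single (0 : Fin 3) (2 : Fin 3) (1 : F)) X
      = tf m X (vecMulVec x e0) • vecMulVec x e0 := by
  rw [zT_apply, tf_vecMulVec_right, be_e0_right, ← vecMulVec_smul]
  congr 1
  funext k
  fin_cases k <;> simp [Matrix.mulVec, dotProduct, Matrix.single_apply, e0]

theorem vecMulVec_eq_zero_left {x : Fin m ⊕ Fin m → F} {y : Fin 3 → F} (hx : x ≠ 0)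
    (h : vecMulVec x y = 0) : y = 0 := by
  obtain ⟨i, hi⟩ : ∃ i, x i ≠ 0 := by
    by_contra hcon
    push Not at hcon
    exact hx (funext hcon)
  funext k
  have := congrFun (congrFun h i) k
  simp only [vecMulVec_apply, Matrix.zero_apply] at this
  rcases mul_eq_zero.mp this with h' | h'
  · exact absurd h' hi
  · exact h'

theorem finrank_bfib {x : Fin m ⊕ Fin m → F} (hx : x ≠ 0) : finrank F ↥(bfib x) = 3 := by
  let φ : (Fin 3 → F) →ₗ[F] V :=
    { toFun := fun y => vecMulVec x y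
      map_add' := fun y y' => vecMulVec_add x y y'
      map_smul' := fun c y => by rw [vecMulVec_smul, RingHom.id_apply] }
  have hφ : Function.Injective φ := by
    intro y y' hyy
    have h0 : vecMulVec x (y - y') = 0 := by
      rw [sub_eq_add_neg, vecMulVec_add, vecMulVec_neg]
      change φ y + - φ y' = 0
      rw [hyy, add_neg_cancel]
    exact sub_eq_zero.mp (vecMulVec_eq_zero_left hx h0)
  have hrange : LinearMap.range φ = bfib x := by
    ext X
    constructor
    · rintro ⟨y, rfl⟩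
      exact ⟨y, rfl⟩
    · rintro ⟨y, rfl⟩
      exact ⟨y, rfl⟩
  rw [← hrange, LinearMap.finrank_range_of_inj hφ]
  simp

theorem finrank_map_bfib (g : V ≃ₗ[F] V) {x : Fin m ⊕ Fin m → F} (hx : x ≠ 0) :
    finrank F ↥((bfib x).map g.toLinearMap) = 3 := by
  have h := (g.submoduleMap (bfib x)).finrank_eq
  rw [finrank_bfib hx] at h
  exact h.symm

theorem finrank_of_mem_BOrb {M : Subgroup (V ≃ₗ[F] V)} {t : Submodule F V} (ht : t ∈ BOrb M) :
    finrank F ↥t = 3 := by
  obtain ⟨g, _, x, hx, rfl⟩ := ht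
  exact finrank_map_bfib g hx

theorem map_mem_BOrb {M : Subgroup (V ≃ₗ[F] V)} {g : V ≃ₗ[F] V} (hg : g ∈ M)
    {x : Fin m ⊕ Fin m → F} (hx : x ≠ 0) : (bfib x).map g.toLinearMap ∈ BOrb M :=
  ⟨g, hg, x, hx, rfl⟩

theorem map_mul_bfib (g h : V ≃ₗ[F] V) (t : Submodule F V) :
    t.map (g * h).toLinearMap = (t.map h.toLinearMap).map g.toLinearMap := by
  rw [← Submodule.map_comp]
  rfl

/-- distinct members of the orbit meet in dimension at most two -/
theorem finrank_inf_le_two {t t' : Submodule F V} (ht : finrank F ↥t = 3) (ht' : finrank F ↥t' = 3)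
    (hne : t ≠ t') : finrank F ↥(t ⊓ t') ≤ 2 := by
  by_contra hcon
  push Not at hcon
  have h1 : finrank F ↥(t ⊓ t') ≤ finrank F ↥t := Submodule.finrank_mono inf_le_left
  have h3 : finrank F ↥(t ⊓ t') = finrank F ↥t := by omega
  have h3' : finrank F ↥(t ⊓ t') = finrank F ↥t' := by omega
  have e1 : t ⊓ t' = t := Submodule.eq_of_le_of_finrank_eq inf_le_left h3
  have e2 : t ⊓ t' = t' := Submodule.eq_of_le_of_finrank_eq inf_le_right h3'
  exact hne (e1.symm.trans e2)

/-- distinct fibres meet trivially -/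
theorem bfib_inf_bfib {x x' : Fin m ⊕ Fin m → F} (hx : x ≠ 0) (h : bfib x ≠ bfib x') :
    bfib x ⊓ bfib x' = ⊥ := by
  rw [Submodule.eq_bot_iff]
  rintro X ⟨⟨y, rfl⟩, ⟨y', hy'⟩⟩
  by_contra hne
  apply h
  -- `x ⊗ y = x' ⊗ y' ≠ 0` forces `x' = c x` with `c ≠ 0`
  have hy0 : y ≠ 0 := by
    rintro rfl
    apply hne
    ext i k; simp [vecMulVec_apply]
  obtain ⟨k, hk⟩ : ∃ k, y k ≠ 0 := by
    by_contra hcon
    push Not at hcon
    exact hy0 (funext hcon)
  have hxk : ∀ i, x i * y k = x' i * y' k := fun i => by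
    have := congrFun (congrFun hy' i) k
    simpa [vecMulVec_apply] using this
  have hy'k : y' k ≠ 0 := by
    intro h0
    obtain ⟨i, hi⟩ : ∃ i, x i ≠ 0 := by
      by_contra hcon
      push Not at hcon
      exact hx (funext hcon)
    have := hxk i
    rw [h0, mul_zero] at this
    exact (mul_ne_zero hi hk) this
  have hx' : x' = (y k / y' k) • x := by
    funext i
    have := hxk i
    simp only [Pi.smul_apply, smul_eq_mul]
    field_simp
    linear_combination -this
  have hc : y k / y' k ≠ 0 := div_ne_zero hk hy'k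
  ext Z
  constructor
  · rintro ⟨z, rfl⟩
    refine ⟨(y k / y' k)⁻¹ • z, ?_⟩
    rw [hx', smul_vecMulVec, vecMulVec_smul, smul_smul, mul_inv_cancel₀ hc, one_smul]
  · rintro ⟨z, rfl⟩
    refine ⟨(y k / y' k) • z, ?_⟩
    rw [hx', smul_vecMulVec, vecMulVec_smul]

theorem cN_one (x : Fin m ⊕ Fin m → F) : cN m (1 : V ≃ₗ[F] V) x = nA m x := by
  apply LinearMap.ext
  intro X
  rfl

theorem map_one_eq (t : Submodule F V) : t.map (1 : V ≃ₗ[F] V).toLinearMap = t := by
  ext Z
  constructor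
  · rintro ⟨Y, hY, rfl⟩
    exact hY
  · intro hZ
    exact ⟨Z, hZ, rfl⟩

end Cfsg.Agent.Lib.Helper97_SpTensBasic
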