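import Mathlib
import Cfsg.Agent.Lib.Helper97_SpTensBasic

set_option autoImplicit false
set_option linter.unusedSectionVars false
set_option linter.unusedVariables false

/-!
# SP3 (architect helper97), package K1SC: if `t₁ = g₁ l_{x₁}` and `t₂ = g₂ l_{x₂}` meet in a plane, then
`E E' E = τ E` on `t₂` (`E = g₁ N_{x₁} g₁⁻¹`, `E' = g₂ N_{x₂} g₂⁻¹`).
-/

namespace Cfsg.Agent.Lib.Helper10_SP3_K1SC

open Matrix Module
open Cfsg.Agent.Lib.Helper98_ExtDefs Cfsg.Agent.Lib.Helper97_TensDefs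
  Cfsg.Agent.Lib.Helper97_SpTensDefs Cfsg.Agent.Lib.Helper97_SpTensBasic

variable {F : Type*} [Field F] [Fintype F] {m : ℕ}

local notation "V" => Matrix (Fin m ⊕ Fin m) (Fin 3) F

/-- `g N_x g⁻¹` kills `g l_x` -/
theorem cN_eq_zero_of_mem (g : V ≃ₗ[F] V) (x : Fin m ⊕ Fin m → F) (X : V)
    (hX : X ∈ (bfib x).map g.toLinearMap) : cN m g x X = 0 := by
  obtain ⟨Y, hY, rfl⟩ := hX
  rw [cN_apply]
  show g (nA m x (g.symm (g Y))) = 0
  rw [LinearEquiv.symm_apply_apply, nA_eq_zero_of_ctr (ctr_eq_zero_of_mem_bfib hY), map_zero]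

/-- the image of `g N_x g⁻¹` lies in `g l_x` -/
theorem cN_mem (g : V ≃ₗ[F] V) (x : Fin m ⊕ Fin m → F) (X : V) :
    cN m g x X ∈ (bfib x).map g.toLinearMap := by
  rw [cN_apply]
  exact Submodule.mem_map_of_mem (nA_mem_bfib x _)

/-- abstract form: an endomorphism `E` killing a plane `I` inside a 3-space `t`, and `E'` with image in `t` -/
theorem scalar_of_plane {W : Type*} [AddCommGroup W] [Module F W]
    (E E' : W →ₗ[F] W) (t I : Submodule F W) [FiniteDimensional F ↥t] (ht : finrank F ↥t = 3)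
    (hI : finrank F ↥I = 2) (hIt : I ≤ t) (hE : ∀ X ∈ I, E X = 0) (hE' : ∀ Y, E' Y ∈ t) :
    ∃ τ : F, ∀ X ∈ t, E (E' (E X)) = τ • E X := by
  let f : ↥t →ₗ[F] W := E.domRestrict t
  have hfapp : ∀ X : ↥t, f X = E (X : W) := fun X => rfl
  -- the kernel of `f` has dimension at least 2
  have hJle : I.comap t.subtype ≤ LinearMap.ker f := by
    intro X hX
    rw [LinearMap.mem_ker, hfapp]
    exact hE _ hX
  have hJ : finrank F ↥(I.comap t.subtype) = 2 := by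
    rw [← hI]
    exact (Submodule.comapSubtypeEquivOfLe hIt).finrank_eq
  have hker : 2 ≤ finrank F ↥(LinearMap.ker f) := by
    rw [← hJ]
    exact Submodule.finrank_mono hJle
  have hrn := LinearMap.finrank_range_add_finrank_ker f
  rw [ht] at hrn
  have hrange : finrank F ↥(LinearMap.range f) ≤ 1 := by omega
  obtain ⟨v, hv⟩ := finrank_le_one_iff.1 hrange
  obtain ⟨X₀, hX₀⟩ := v.2
  -- `E E' j ∈ range f`
  have hmem : E (E' (v : W)) ∈ LinearMap.range f := ⟨⟨E' (v : W), hE' _⟩, rfl⟩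
  obtain ⟨τ, hτ⟩ := hv ⟨_, hmem⟩
  have hτ' : τ • (v : W) = E (E' (v : W)) := congrArg Subtype.val hτ
  refine ⟨τ, ?_⟩
  intro X hX
  have hXr : E X ∈ LinearMap.range f := ⟨⟨X, hX⟩, rfl⟩
  obtain ⟨c, hc⟩ := hv ⟨_, hXr⟩
  have hc' : c • (v : W) = E X := congrArg Subtype.val hc
  rw [← hc', map_smul, map_smul, ← hτ', smul_comm]

theorem k1_scalar (g₁ g₂ : V ≃ₗ[F] V) (x₁ x₂ : Fin m ⊕ Fin m → F) (hx₁ : x₁ ≠ 0) (hx₂ : x₂ ≠ 0)
    (hfr : finrank F ↥((bfib x₁).map g₁.toLinearMap ⊓ (bfib x₂).map g₂.toLinearMap) = 2) :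
    ∃ τ : F, ∀ X ∈ (bfib x₂).map g₂.toLinearMap,
      cN m g₁ x₁ (cN m g₂ x₂ (cN m g₁ x₁ X)) = τ • cN m g₁ x₁ X := by
  exact scalar_of_plane (cN m g₁ x₁) (cN m g₂ x₂) ((bfib x₂).map g₂.toLinearMap)
    ((bfib x₁).map g₁.toLinearMap ⊓ (bfib x₂).map g₂.toLinearMap)
    (finrank_map_bfib g₂ hx₂) hfr inf_le_right
    (fun X hX => cN_eq_zero_of_mem g₁ x₁ X hX.1) (fun Y => cN_mem g₂ x₂ Y)

end Cfsg.Agent.Lib.Helper10_SP3_K1SC
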