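import Mathlib
import Cfsg.Agent.Lib.Helper97_SpTensBasic

set_option autoImplicit false
set_option linter.unusedSectionVars false
set_option linter.unusedVariables false

/-!
# SP3 (architect helper97), package QRAD0: for `w ⊥ x`, an automorphism `g` with `(g - 1) l_x^⊥ ⊆ l_x` acts on
`w ⊗ B` by `g (w ⊗ b) = w ⊗ b + x ⊗ Ψ b` for a matrix `Ψ`.
-/

namespace Cfsg.Agent.Lib.Helper10_SP3_QRAD0

open Matrix Module
open Cfsg.Agent.Lib.Helper98_ExtDefs Cfsg.Agent.Lib.Helper97_TensDefs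
  Cfsg.Agent.Lib.Helper97_SpTensDefs Cfsg.Agent.Lib.Helper97_SpTensBasic

variable {F : Type*} [Field F] [Fintype F] {m : ℕ}

local notation "V" => Matrix (Fin m ⊕ Fin m) (Fin 3) F

/-- `b ↦ w ⊗ b` as a linear map -/
def tensR (w : Fin m ⊕ Fin m → F) : (Fin 3 → F) →ₗ[F] V where
  toFun b := vecMulVec w b
  map_add' b b' := vecMulVec_add w b b'
  map_smul' c b := by rw [vecMulVec_smul, RingHom.id_apply]

theorem tensR_apply (w : Fin m ⊕ Fin m → F) (b : Fin 3 → F) : tensR w b = vecMulVec w b := rfl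

theorem qrad_psi (x : Fin m ⊕ Fin m → F) (hx : x ≠ 0) (g : V ≃ₗ[F] V)
    (hg2 : ∀ X : V, ctr m x X = 0 → g X - X ∈ bfib x)
    (w : Fin m ⊕ Fin m → F) (hw : Cfsg.sympForm m F w x = 0) :
    ∃ Ψ : Matrix (Fin 3) (Fin 3) F, ∀ b : Fin 3 → F,
      g (vecMulVec w b) = vecMulVec w b + vecMulVec x (Ψ *ᵥ b) := by
  classical
  have hctr : ∀ b : Fin 3 → F, ctr m x (vecMulVec w b) = 0 := by
    intro b
    rw [ctr_vecMulVec, hw, zero_smul]
  have hex : ∀ b : Fin 3 → F, ∃ y : Fin 3 → F, g (vecMulVec w b) - vecMulVec w b = vecMulVec x y :=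
    fun b => hg2 _ (hctr b)
  choose ψ hψ using hex
  let Ψ : Matrix (Fin 3) (Fin 3) F := fun i k => ψ (Pi.single k 1) i
  refine ⟨Ψ, ?_⟩
  -- two linear maps agreeing on the standard basis
  let D : (Fin 3 → F) →ₗ[F] V := g.toLinearMap ∘ₗ tensR w - tensR w
  let L : (Fin 3 → F) →ₗ[F] V := tensR x ∘ₗ Matrix.mulVecLin Ψ
  have hDL : D = L := by
    apply LinearMap.pi_ext'
    intro k
    apply LinearMap.ext_ring
    show g (vecMulVec w (Pi.single k 1)) - vecMulVec w (Pi.single k 1)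
      = vecMulVec x (Ψ *ᵥ Pi.single k 1)
    rw [hψ, Matrix.mulVec_single_one]
    rfl
  intro b
  have h := LinearMap.congr_fun hDL b
  have h' : g (vecMulVec w b) - vecMulVec w b = vecMulVec x (Ψ *ᵥ b) := h
  rw [← h']
  abel

end Cfsg.Agent.Lib.Helper10_SP3_QRAD0
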