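import Mathlib
import Cfsg.Agent.Lib.Helper97_SpTensBasic
import Cfsg.Agent.Lib.Helper10_SP3_K1SC

set_option autoImplicit false
set_option linter.unusedSectionVars false
set_option linter.unusedVariables false

/-!
# SP3 (architect helper97), package SWAPT: `t₁ = g₁ l_{x₁}`, `t₂ = R t₁` (`R` an involution of `M`) meeting in a
line: `E E' E = τ E` on `t₂` (`E = g₁ N g₁⁻¹`, `E' = R E R`).
-/

namespace Cfsg.Agent.Lib.Helper10_SP3_SWAPT

open Matrix Module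
open Cfsg.Agent.Lib.Helper98_ExtDefs Cfsg.Agent.Lib.Helper97_TensDefs
  Cfsg.Agent.Lib.Helper97_SpTensDefs Cfsg.Agent.Lib.Helper97_SpTensBasic
  Cfsg.Agent.Lib.Helper13_Symp

variable {F : Type*} [Field F]

/-- On a plane with a non-degenerate alternating form, the square of a skew endomorphism is a scalar. -/
theorem sq_scalar_of_skew {W : Type*} [AddCommGroup W] [Module F W] [FiniteDimensional F W]
    (J : Submodule F W) (hJ : finrank F ↥J = 2)
    (ω : W → W → F) (hal : ∀ X X' Y, ω (X + X') Y = ω X Y + ω X' Y)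
    (hsl : ∀ (c : F) X Y, ω (c • X) Y = c * ω X Y)
    (har : ∀ X Y Y', ω X (Y + Y') = ω X Y + ω X Y')
    (hsr : ∀ (c : F) X Y, ω X (c • Y) = c * ω X Y)
    (halt : ∀ j ∈ J, ω j j = 0)
    (hnd : ∀ j ∈ J, (∀ j' ∈ J, ω j j' = 0) → j = 0)
    (n : W →ₗ[F] W) (hnJ : ∀ j ∈ J, n j ∈ J)
    (hskew : ∀ j ∈ J, ∀ j' ∈ J, ω (n j) j' = - ω j (n j')) :
    ∃ τ : F, ∀ j ∈ J, n (n j) = τ • j := by
  let b : Basis (Fin 2) F ↥J := finBasisOfFinrankEq F ↥J hJ
  obtain ⟨j₁, hj₁⟩ : ∃ j₁ : W, j₁ = (b 0 : W) := ⟨_, rfl⟩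
  obtain ⟨j₂, hj₂⟩ : ∃ j₂ : W, j₂ = (b 1 : W) := ⟨_, rfl⟩
  have hj₁J : j₁ ∈ J := by rw [hj₁]; exact (b 0).2
  have hj₂J : j₂ ∈ J := by rw [hj₂]; exact (b 1).2
  have hspan : ∀ j ∈ J, ∃ x y : F, j = x • j₁ + y • j₂ := by
    intro j hj
    have h := b.sum_repr ⟨j, hj⟩
    rw [Fin.sum_univ_two] at h
    have h' := congrArg Subtype.val h
    refine ⟨b.repr ⟨j, hj⟩ 0, b.repr ⟨j, hj⟩ 1, ?_⟩
    rw [hj₁, hj₂]
    simpa using h'.symm
  have hj₁0 : j₁ ≠ 0 := by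
    intro h0
    apply b.ne_zero 0
    apply Subtype.ext
    rw [← hj₁, h0]
    rfl
  have h11 : ω j₁ j₁ = 0 := halt j₁ hj₁J
  have h22 : ω j₂ j₂ = 0 := halt j₂ hj₂J
  have h12 : ω j₁ j₂ ≠ 0 := by
    intro h
    apply hj₁0
    apply hnd j₁ hj₁J
    intro j' hj'
    obtain ⟨x, y, rfl⟩ := hspan j' hj'
    rw [har, hsr, hsr, h11, h]
    ring
  obtain ⟨a, b', hn1⟩ := hspan (n j₁) (hnJ j₁ hj₁J)
  obtain ⟨c, d, hn2⟩ := hspan (n j₂) (hnJ j₂ hj₂J)
  have hsk := hskew j₁ hj₁J j₂ hj₂J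
  rw [hn1, hn2, hal, hsl, hsl, har, hsr, hsr, h11, h22] at hsk
  have had : a + d = 0 := by
    have h' : (a + d) * ω j₁ j₂ = 0 := by linear_combination hsk
    rcases mul_eq_zero.1 h' with h'' | h''
    · exact h''
    · exact absurd h'' h12
  have hd : d = -a := by linear_combination had
  refine ⟨a * a + b' * c, ?_⟩
  intro j hj
  obtain ⟨x, y, rfl⟩ := hspan j hj
  have e1 : n (n j₁) = (a * a + b' * c) • j₁ := by
    rw [hn1, map_add, map_smul, map_smul, hn1, hn2, hd]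
    module
  have e2 : n (n j₂) = (a * a + b' * c) • j₂ := by
    rw [hn2, map_add, map_smul, map_smul, hn1, hn2, hd]
    module
  rw [map_add, map_smul, map_smul, map_add, map_smul, map_smul, e1, e2]
  module

/-- The abstract form of SWAPT. -/
theorem swap_abstract {W : Type*} [AddCommGroup W] [Module F W] [FiniteDimensional F W]
    (h2 : (2 : F) ≠ 0)
    (β : W → W → F) (hal : ∀ X X' Y, β (X + X') Y = β X Y + β X' Y)
    (hsl : ∀ (c : F) X Y, β (c • X) Y = c * β X Y)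
    (har : ∀ X Y Y', β X (Y + Y') = β X Y + β X Y')
    (hsr : ∀ (c : F) X Y, β X (c • Y) = c * β X Y)
    (hswap : ∀ X Y, β X Y = - β Y X)
    (E R : W →ₗ[F] W) (hRR : ∀ X, R (R X) = X) (hRβ : ∀ X Y, β (R X) (R Y) = β X Y)
    (hEskew : ∀ X Y, β (E X) Y = - β X (E Y))
    (t₁ t₂ : Submodule F W) (hEt : ∀ X, E X ∈ t₁)
    (hRt₁ : ∀ X ∈ t₁, R X ∈ t₂) (hRt₂ : ∀ X ∈ t₂, R X ∈ t₁)
    (hiso : ∀ X ∈ t₁, ∀ Y ∈ t₁, β X Y = 0)
    (hperp : ∀ Z, (∀ Y ∈ t₁, β Z Y = 0) → E Z = 0)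
    (ht₁ : finrank F ↥t₁ = 3) (ht₂ : finrank F ↥t₂ = 3) (hI : finrank F ↥(t₁ ⊓ t₂) = 1)
    (hb : ∀ X ∈ t₂, E X ∈ t₂ → X ∈ t₁)
    (hb' : ∀ X ∈ t₁, R (E (R X)) ∈ t₁ → X ∈ t₂) :
    ∃ τ : F, ∀ X ∈ t₂, E (R (E (R (E X)))) = τ • E X := by
  have hEkill : ∀ X ∈ t₁, E X = 0 := fun X hX => hperp X (fun Y hY => hiso X hX Y hY)
  -- `J₀ = E t₂`
  obtain ⟨J₀, hJ₀def⟩ : ∃ J₀ : Submodule F W, J₀ = t₂.map E := ⟨_, rfl⟩
  have hJ₀mem : ∀ X ∈ t₂, E X ∈ J₀ := by
    intro X hX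
    rw [hJ₀def]
    exact Submodule.mem_map_of_mem hX
  have hJ₀t₁ : J₀ ≤ t₁ := by
    rw [hJ₀def]
    rintro _ ⟨X, _, rfl⟩
    exact hEt X
  have hJ₀t₂ : ∀ Z ∈ J₀, Z ∈ t₂ → Z = 0 := by
    intro Z hZ hZ2
    rw [hJ₀def] at hZ
    obtain ⟨X, hX, rfl⟩ := hZ
    exact hEkill X (hb X hX hZ2)
  -- dimension of `J₀`
  have hJ₀dim : finrank F ↥J₀ = 2 := by
    let f : ↥t₂ →ₗ[F] W := E.domRestrict t₂
    have hrange : LinearMap.range f = J₀ := by
      rw [hJ₀def]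
      exact LinearMap.range_domRestrict _ _
    have hker : LinearMap.ker f = (t₁ ⊓ t₂).comap t₂.subtype := by
      ext X
      rw [LinearMap.mem_ker, Submodule.mem_comap]
      constructor
      · intro h
        have hE0 : E (X : W) = 0 := h
        refine ⟨hb X X.2 ?_, X.2⟩
        rw [hE0]
        exact t₂.zero_mem
      · intro h
        exact hEkill _ h.1
    have hkd : finrank F ↥(LinearMap.ker f) = 1 := by
      rw [hker, ← hI]
      exact (Submodule.comapSubtypeEquivOfLe (inf_le_right : t₁ ⊓ t₂ ≤ t₂)).finrank_eq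
    have hrn := LinearMap.finrank_range_add_finrank_ker f
    rw [ht₂, hkd, hrange] at hrn
    omega
  -- `t₁ = J₀ ⊔ I`
  have hsup : J₀ ⊔ (t₁ ⊓ t₂) = t₁ := by
    apply Submodule.eq_of_le_of_finrank_eq (sup_le hJ₀t₁ inf_le_left)
    have hinf : J₀ ⊓ (t₁ ⊓ t₂) = ⊥ := by
      rw [Submodule.eq_bot_iff]
      intro Z hZ
      exact hJ₀t₂ Z hZ.1 hZ.2.2
    have h := Submodule.finrank_sup_add_finrank_inf_eq J₀ (t₁ ⊓ t₂)
    rw [hinf, finrank_bot, hJ₀dim, hI] at h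
    rw [ht₁]
    omega
  -- the form `ω` and the operator `n₀`
  have hβneg : ∀ X Y, β X (-Y) = - β X Y := by
    intro X Y
    have := hsr (-1) X Y
    rw [neg_smul, one_smul] at this
    rw [this]
    ring
  have hβ0 : ∀ X, β X 0 = 0 := by
    intro X
    have := hsr 0 X 0
    rw [zero_smul, zero_mul] at this
    exact this
  have halt : ∀ j, β j (R j) = 0 := by
    intro j
    have h1 : β j (R j) = β (R j) j := by
      have := hRβ j (R j)
      rw [hRR] at this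
      exact this.symm
    have h3 : (2 : F) * β j (R j) = 0 := by
      have := hswap (R j) j
      linear_combination h1 + this
    rcases mul_eq_zero.1 h3 with h | h
    · exact absurd h h2
    · exact h
  have key := sq_scalar_of_skew J₀ hJ₀dim (fun X Y => β X (R Y))
    (fun X X' Y => hal X X' (R Y)) (fun c X Y => hsl c X (R Y))
    (fun X Y Y' => by
      show β X (R (Y + Y')) = β X (R Y) + β X (R Y')
      rw [map_add, har])
    (fun c X Y => by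
      show β X (R (c • Y)) = c * β X (R Y)
      rw [map_smul, hsr])
    (fun j _ => halt j)
    (by
      intro j hj hall
      have hj1 : j ∈ t₁ := hJ₀t₁ hj
      -- `j ⊥ t₂`
      have hjt₂ : ∀ Y ∈ t₂, β j Y = 0 := by
        intro Y hY
        have hRY : R Y ∈ J₀ ⊔ (t₁ ⊓ t₂) := by
          rw [hsup]
          exact hRt₂ Y hY
        obtain ⟨j', hj', i, hi, hsum⟩ := Submodule.mem_sup.1 hRY
        have hY' : Y = R j' + R i := by
          rw [← map_add, hsum, hRR]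
        rw [hY', har]
        have e1 : β j (R j') = 0 := hall j' hj'
        have e2 : β j (R i) = 0 := hiso j hj1 (R i) (hRt₂ i hi.2)
        rw [e1, e2, add_zero]
      -- `R j ⊥ t₁`
      have hRj : ∀ Y ∈ t₁, β (R j) Y = 0 := by
        intro Y hY
        have := hRβ (R j) Y
        rw [hRR] at this
        rw [← this]
        exact hjt₂ (R Y) (hRt₁ Y hY)
      have hE0 : E (R j) = 0 := hperp (R j) hRj
      have hj2 : j ∈ t₂ := by
        apply hb' j hj1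
        rw [hE0, map_zero]
        exact t₁.zero_mem
      exact hJ₀t₂ j hj hj2)
    (E ∘ₗ R)
    (by
      intro j hj
      exact hJ₀mem (R j) (hRt₁ j (hJ₀t₁ hj)))
    (by
      intro j _ j' _
      show β (E (R j)) (R j') = - β j (R (E (R j')))
      rw [hEskew]
      have := hRβ (R j) (E (R j'))
      rw [hRR] at this
      rw [this])
  obtain ⟨τ, hτ⟩ := key
  refine ⟨τ, ?_⟩
  intro X hX
  exact hτ (E X) (hJ₀mem X hX)

variable [Fintype F] {m : ℕ}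

local notation "V" => Matrix (Fin m ⊕ Fin m) (Fin 3) F

theorem swap_scalar (h2 : (2 : F) ≠ 0) (M : Subgroup (V ≃ₗ[F] V)) (hSp : MSp m M)
    (g₁ R : V ≃ₗ[F] V) (hg₁ : g₁ ∈ M) (hR : R ∈ M) (hRR : ∀ X, R (R X) = X)
    (x₁ : Fin m ⊕ Fin m → F) (hx₁ : x₁ ≠ 0)
    (hfr : finrank F ↥((bfib x₁).map g₁.toLinearMap ⊓ (bfib x₁).map (R * g₁).toLinearMap) = 1)
    (hb : ∀ X ∈ (bfib x₁).map (R * g₁).toLinearMap,
      cN m g₁ x₁ X ∈ (bfib x₁).map (R * g₁).toLinearMap → X ∈ (bfib x₁).map g₁.toLinearMap)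
    (hb' : ∀ X ∈ (bfib x₁).map g₁.toLinearMap,
      cN m (R * g₁) x₁ X ∈ (bfib x₁).map g₁.toLinearMap → X ∈ (bfib x₁).map (R * g₁).toLinearMap) :
    ∃ τ : F, ∀ X ∈ (bfib x₁).map (R * g₁).toLinearMap,
      cN m g₁ x₁ (cN m (R * g₁) x₁ (cN m g₁ x₁ X)) = τ • cN m g₁ x₁ X := by
  have hRsymm : ∀ X : V, R.symm X = R X := by
    intro X
    rw [LinearEquiv.symm_apply_eq, hRR]
  have hE' : ∀ X : V, cN m (R * g₁) x₁ X = R (cN m g₁ x₁ (R X)) := by
    intro X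
    rw [cN_apply, cN_apply]
    show R (g₁ (nA m x₁ (g₁.symm (R.symm X)))) = R (g₁ (nA m x₁ (g₁.symm (R X))))
    rw [hRsymm]
  have ht₂eq : (bfib x₁).map (R * g₁).toLinearMap =
      ((bfib x₁).map g₁.toLinearMap).map R.toLinearMap := map_mul_bfib R g₁ _
  have hg₁tf : ∀ X Y : V, tf m (g₁ X) (g₁ Y) = tf m X Y := hSp g₁ hg₁
  have hRtf : ∀ X Y : V, tf m (R X) (R Y) = tf m X Y := hSp R hR
  have key := swap_abstract (W := V) h2 (tf m) tf_add_left tf_smul_left tf_add_right tf_smul_right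
    tf_swap (cN m g₁ x₁) R.toLinearMap hRR hRtf
    (by
      intro X Y
      rw [cN_apply, cN_apply]
      have e1 : tf m (g₁ (nA m x₁ (g₁.symm X))) Y = tf m (nA m x₁ (g₁.symm X)) (g₁.symm Y) := by
        conv_lhs => rw [← g₁.apply_symm_apply Y]
        rw [hg₁tf]
      have e2 : tf m X (g₁ (nA m x₁ (g₁.symm Y))) = tf m (g₁.symm X) (nA m x₁ (g₁.symm Y)) := by
        conv_lhs => rw [← g₁.apply_symm_apply X]
        rw [hg₁tf]
      rw [e1, e2]
      linear_combination tf_nA_skew x₁ (g₁.symm X) (g₁.symm Y))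
    ((bfib x₁).map g₁.toLinearMap) ((bfib x₁).map (R * g₁).toLinearMap)
    (fun X => Cfsg.Agent.Lib.Helper10_SP3_K1SC.cN_mem g₁ x₁ X)
    (by
      intro X hX
      rw [ht₂eq]
      exact Submodule.mem_map_of_mem hX)
    (by
      intro X hX
      rw [ht₂eq] at hX
      obtain ⟨Y, hY, rfl⟩ := hX
      show R (R Y) ∈ _
      rw [hRR]
      exact hY)
    (by
      rintro _ ⟨X, ⟨y, rfl⟩, rfl⟩ _ ⟨Y, ⟨y', rfl⟩, rfl⟩
      show tf m (g₁ (vecMulVec x₁ y)) (g₁ (vecMulVec x₁ y')) = 0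
      rw [hg₁tf, tf_vecMulVec, sympForm_self, zero_mul])
    (by
      intro Z hZ
      rw [cN_apply]
      have hc : ctr m x₁ (g₁.symm Z) = 0 := by
        apply eq_zero_of_be
        intro y'
        rw [← tf_vecMulVec_right, ← hg₁tf, g₁.apply_symm_apply]
        exact hZ _ (Submodule.mem_map_of_mem (vecMulVec_mem_bfib x₁ y'))
      rw [nA_eq_zero_of_ctr hc, map_zero])
    (finrank_map_bfib g₁ hx₁) (finrank_map_bfib (R * g₁) hx₁) hfr hb
    (by
      intro X hX h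
      apply hb' X hX
      rw [hE']
      exact h)
  obtain ⟨τ, hτ⟩ := key
  refine ⟨τ, ?_⟩
  intro X hX
  rw [hE']
  exact hτ X hX

end Cfsg.Agent.Lib.Helper10_SP3_SWAPT
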