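import Cfsg.Agent.Lib.Helper13_SimsDefs
import Cfsg.Agent.Lib.Helper12_Sims_BEQUIV
import Cfsg.Agent.Lib.Helper99_Sims_CSYMM

/-!
# SIMS C-B (helper13 market S3385/S3685): paper 4.4, the shifted critical walk — auxiliary form

`caseB_aux` is the statement of package C-B with the conclusion of package C-A as a hypothesis
(`ball` = package C-BALL is proved here again, it is two lines).
-/

set_option autoImplicit false

namespace Cfsg.Agent.Lib.Helper41_Sims_CBaux

open MulAction Cfsg.Agent.Lib.Helper13_SimsDefs Cfsg.Agent.Lib.Helper12_Sims_BEQUIV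
  Cfsg.Agent.Lib.Helper99_Sims_CSYMM

variable {G Ω : Type*} [Group G] [MulAction G Ω] {a b : Ω}

/-- `K_x` fixes every neighbour of `x`. -/
theorem Kst_le_stab_adj {x y : Ω} (h : Adj G a b x y) : Kst G a b x ≤ stabilizer G y := by
  intro g hg
  exact ((mem_Kst_iff (a := a) (b := b) x g).mp hg).2 y h

/-- paper 4.1 (package C-BALL), without the interface. -/
theorem ball' {bb : ℕ} (hb : IsCrit G a b bb) (w : ℕ → Ω) (j : ℕ)
    (hj : j ≤ bb) (hw : IsWalk G a b w j) : Vst G a b (w 0) ≤ stabilizer G (w j) := by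
  rcases Nat.eq_zero_or_pos j with rfl | hpos
  · exact (Vst_le_Kst (a := a) (b := b) (w 0)).trans (Kst_le_stab (a := a) (b := b) (w 0))
  · have hlt : j - 1 < bb := by omega
    have hnb : ¬ IsBad G a b w (j - 1) := hb.2 (j - 1) hlt w
    have hwalk : IsWalk G a b w (j - 1) := fun i hi => hw i (by omega)
    have hle : Vst G a b (w 0) ≤ Kst G a b (w (j - 1)) := by
      by_contra hcon
      exact hnb ⟨hwalk, hcon⟩
    have hadj : Adj G a b (w (j - 1)) (w j) := by
      have := hw (j - 1) (by omega)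
      rwa [Nat.sub_add_cancel hpos] at this
    exact hle.trans (Kst_le_stab_adj hadj)

/-- C-B (paper 4.4) with the conclusion of C-A as a hypothesis. -/
theorem caseB_aux (H : Hyp G a b) (F : FF G a b) {bb : ℕ} (hb : IsCrit G a b bb) (h2 : 2 ≤ bb)
    (w : ℕ → Ω) (hw : IsBad G a b w bb)
    (hA : ∃ δ, Adj G a b δ (w 0) ∧ ¬ Vst G a b δ ≤ stabilizer G (w bb)) :
    ∃ δ, Adj G a b δ (w 0) ∧ δ ≠ w 1 ∧
      IsBad G a b (fun i => if i = 0 then δ else w (i - 1)) bb ∧
      Tst G (w (bb - 1)) (w (bb - 2)) ≠ Tst G (w (bb - 1)) (w bb) := by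
  obtain ⟨δ, hδ, hnot⟩ := hA
  obtain ⟨hwalk, hbad⟩ := hw
  have hadjb : Adj G a b (w (bb - 1)) (w bb) := by
    have := hwalk (bb - 1) (by omega)
    rwa [Nat.sub_add_cancel (by omega : 1 ≤ bb)] at this
  -- the shifted walk
  have hwalk' : IsWalk G a b (fun i => if i = 0 then δ else w (i - 1)) bb := by
    intro i hi
    rcases Nat.eq_zero_or_pos i with rfl | hpos
    · simpa using hδ
    · have h1 : ¬ i = 0 := by omega
      have h3 : ¬ i + 1 = 0 := by omega
      simp only [h1, h3, if_false, Nat.add_sub_cancel]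
      have := hwalk (i - 1) (by omega)
      rwa [Nat.sub_add_cancel hpos] at this
  have hbad' : IsBad G a b (fun i => if i = 0 then δ else w (i - 1)) bb := by
    refine ⟨hwalk', ?_⟩
    have h1 : ¬ bb = 0 := by omega
    simp only [if_true, h1, if_false]
    intro hle
    exact hnot (hle.trans (Kst_le_stab_adj hadjb))
  refine ⟨δ, hδ, ?_, hbad', ?_⟩
  · -- `δ ≠ w 1`: else `V_δ` fixes `w bb` by the ball property of the walk `w 1, …, w bb`
    intro hEq
    apply hnot
    have hw'' : IsWalk G a b (fun i => w (i + 1)) (bb - 1) := by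
      intro i hi
      exact hwalk (i + 1) (by omega)
    have := ball' hb (fun i => w (i + 1)) (bb - 1) (by omega) hw''
    simp only [Nat.zero_add] at this
    rw [Nat.sub_add_cancel (by omega : 1 ≤ bb)] at this
    rw [hEq]
    exact this
  · -- the two stabilisers differ
    intro hT
    apply hnot
    have hs := (symm_crit H F hb (by omega : 1 ≤ bb) _ hbad').2.2.2.1
    have h1 : ¬ bb = 0 := by omega
    have h3 : ¬ bb - 1 = 0 := by omega
    simp only [if_true, h1, h3, if_false] at hs
    rw [show bb - 1 - 1 = bb - 2 by omega, hT] at hs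
    exact hs.trans inf_le_right

end Cfsg.Agent.Lib.Helper41_Sims_CBaux
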