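import Mathlib
import Cfsg.Agent.Lib.Helper13_SimsDefs
import Cfsg.Agent.Lib.Helper99_Sims_CCONS
import Cfsg.Agent.Lib.Helper99_Sims_CSYMM
import Cfsg.Agent.Lib.Helper27_Sims_CT
import Cfsg.Agent.Lib.Helper91_Sims_CT2
import Cfsg.Agent.Lib.Helper91_Sims_BASE
import Cfsg.Agent.Lib.Helper91_Sims_ARC
import Cfsg.Agent.Lib.Helper12_Sims_BEQUIV

/-!
# SIMS C-A (helper13 market S3385/S3685): paper 4.3, not all `V_δ`, `δ ~ x_0`, fix `x_b`.
-/

set_option autoImplicit false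

namespace Cfsg.Agent.Lib.Helper52_Sims_CA

open MulAction Cfsg.Agent.Lib.Helper13_SimsDefs
open Cfsg.Agent.Lib.Helper99_Sims_CCONS Cfsg.Agent.Lib.Helper12_Sims_BEQUIV

section Generic
variable {G : Type*} [Group G]

/-- `Nrm g` is inherited by suprema. -/
theorem nrm_sup {g : G} {A B : Subgroup G} (hA : Nrm g A) (hB : Nrm g B) : Nrm g (A ⊔ B) := by
  intro h hh
  have hle : A ⊔ B ≤ (A ⊔ B).comap (MulAut.conj g).toMonoidHom := by
    refine sup_le ?_ ?_
    · intro x hx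
      rw [Subgroup.mem_comap]
      exact (le_sup_left : A ≤ A ⊔ B) (hA x hx)
    · intro x hx
      rw [Subgroup.mem_comap]
      exact (le_sup_right : B ≤ A ⊔ B) (hB x hx)
  exact hle hh

theorem nrm_closure {g : G} {S : Set G} (hS : ∀ s ∈ S, g * s * g⁻¹ ∈ Subgroup.closure S) :
    Nrm g (Subgroup.closure S) := by
  intro h hh
  have hle : Subgroup.closure S ≤ (Subgroup.closure S).comap (MulAut.conj g).toMonoidHom := by
    rw [Subgroup.closure_le]
    intro s hs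
    exact hS s hs
  exact hle hh

theorem nrm_mul {g h : G} {A : Subgroup G} (hg : Nrm g A) (hh : Nrm h A) : Nrm (g * h) A := by
  intro x hx
  have := hg _ (hh x hx)
  simpa [mul_assoc] using this

end Generic

section PartC
variable {G Ω : Type*} [Group G] [MulAction G Ω] {a b : Ω}

/-- paper 3.5, second half: for `t ∈ T_xy \ K_x` and `d₀ ∈ G_x` of order 3 the group
`<t, d₀ t d₀⁻¹, d₀² t d₀⁻²>` contains an element of order 3. -/
theorem exists_three_closure (H : Hyp G a b) (F : FF G a b) {x y : Ω} (h : Adj G a b x y) (t : G)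
    (ht : t ∈ Tst G x y) (htK : t ∉ Kst G a b x) (d₀ : G) (hd₀ : d₀ ∈ stabilizer G x)
    (hd3 : orderOf d₀ = 3) :
    ∃ d ∈ Subgroup.closure ({t, d₀ * t * d₀⁻¹, d₀ ^ 2 * t * (d₀ ^ 2)⁻¹} : Set G), orderOf d = 3 := by
  have hfin := H.fin
  by_contra hcon
  push Not at hcon
  set HH : Subgroup G :=
    Subgroup.closure ({t, d₀ * t * d₀⁻¹, d₀ ^ 2 * t * (d₀ ^ 2)⁻¹} : Set G) with hHH
  have hd03 : d₀ ^ 3 = 1 := by rw [← hd3]; exact pow_orderOf_eq_one d₀
  have htx : t ∈ stabilizer G x := ht.1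
  have hGx : ∀ g ∈ stabilizer G x, ∀ g' ∈ stabilizer G x, g * g' * g⁻¹ ∈ stabilizer G x :=
    fun g hg g' hg' => Subgroup.mul_mem _ (Subgroup.mul_mem _ hg hg') (Subgroup.inv_mem _ hg)
  have hd2 : d₀ ^ 2 ∈ stabilizer G x := Subgroup.pow_mem _ hd₀ 2
  -- `HH ≤ G_x`
  have hHHle : HH ≤ stabilizer G x := by
    rw [hHH, Subgroup.closure_le]
    intro s hs
    rcases hs with rfl | rfl | rfl
    · exact htx
    · exact hGx _ hd₀ _ htx
    · exact hGx _ hd2 _ htx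
  -- `d₀` normalises `HH`
  have hnHH : Nrm d₀ HH := by
    apply nrm_closure
    intro s hs
    rcases hs with rfl | rfl | rfl
    · exact Subgroup.subset_closure (by simp)
    · refine Subgroup.subset_closure ?_
      have : d₀ * (d₀ * t * d₀⁻¹) * d₀⁻¹ = d₀ ^ 2 * t * (d₀ ^ 2)⁻¹ := by
        rw [pow_two, mul_inv_rev]; group
      rw [this]; simp
    · refine Subgroup.subset_closure ?_
      have : d₀ * (d₀ ^ 2 * t * (d₀ ^ 2)⁻¹) * d₀⁻¹ = t := by
        have e1 : d₀ * d₀ ^ 2 = 1 := by rw [← pow_succ', hd03]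
        have e2 : (d₀ ^ 2)⁻¹ * d₀⁻¹ = 1 := by rw [← mul_inv_rev, e1, inv_one]
        calc d₀ * (d₀ ^ 2 * t * (d₀ ^ 2)⁻¹) * d₀⁻¹
            = (d₀ * d₀ ^ 2) * t * ((d₀ ^ 2)⁻¹ * d₀⁻¹) := by group
          _ = t := by rw [e1, e2, one_mul, mul_one]
      rw [this]; simp
  -- no element of order 3: `HH` is a 2-group
  have hT2 := F.two x y h
  obtain ⟨k, hk⟩ := hT2.exists_card_eq
  have hidx := F.idx3 x y h
  have h3HH : ¬ 3 ∣ Nat.card HH := by
    intro h3
    have : Fact (Nat.Prime 3) := ⟨Nat.prime_three⟩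
    obtain ⟨d, hd⟩ := exists_prime_orderOf_dvd_card' 3 h3
    exact hcon d.1 d.2 (by rw [← hd, Subgroup.orderOf_coe])
  have hHHdvd : Nat.card HH ∣ 2 ^ k := by
    have h1 : Nat.card HH ∣ Nat.card (stabilizer G x) := Subgroup.card_dvd_of_le hHHle
    rw [hidx, hk] at h1
    have hcop : Nat.Coprime (Nat.card HH) 3 :=
      ((Nat.Prime.coprime_iff_not_dvd Nat.prime_three).2 h3HH).symm
    exact hcop.dvd_of_dvd_mul_left h1
  have hHH2 : IsPGroup 2 HH := by
    obtain ⟨j, -, hj⟩ := (Nat.dvd_prime_pow Nat.prime_two).1 hHHdvd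
    exact IsPGroup.of_card hj
  have hK2 : IsPGroup 2 (Kst G a b x) := hT2.to_le (aux_Kst_le_Tst h)
  -- `HH ⊔ K_x` is a 2-group
  have hnorm : HH ≤ Subgroup.normalizer ((Kst G a b x : Subgroup G) : Set G) := by
    intro g hg
    exact Cfsg.Agent.Lib.Helper27_Sims_CT.mem_normalizer_of_nrm _ g
      (Kst_normal x g (hHHle hg))
  have hsup2 : IsPGroup 2 (HH ⊔ Kst G a b x : Subgroup G) :=
    IsPGroup.to_sup_of_normal_right' hHH2 hK2 hnorm
  -- `T_xy ≤ HH ⊔ K_x ≤ G_x`, hence equality with `T_xy`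
  have hTle : Tst G x y ≤ HH ⊔ Kst G a b x := by
    rw [← K_sup_t H F h t ht htK]
    refine sup_le le_sup_right ?_
    rw [Subgroup.zpowers_le]
    exact (le_sup_left : HH ≤ HH ⊔ Kst G a b x) (Subgroup.subset_closure (by simp))
  have hsle : HH ⊔ Kst G a b x ≤ stabilizer G x := sup_le hHHle (aux_Kst_le_stab x)
  have hTeq : Tst G x y = HH ⊔ Kst G a b x := by
    refine Subgroup.eq_of_le_of_card_ge hTle ?_
    obtain ⟨j, hj⟩ := hsup2.exists_card_eq
    have h1 : Nat.card ↥(HH ⊔ Kst G a b x) ∣ Nat.card (stabilizer G x) :=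
      Subgroup.card_dvd_of_le hsle
    rw [hidx, hk, hj] at h1
    have hcop : Nat.Coprime (2 ^ j) 3 := Nat.Coprime.pow_left _ (by norm_num)
    have := hcop.dvd_of_dvd_mul_left h1
    rw [hj, hk]
    exact Nat.le_of_dvd (by positivity) this
  -- so `d₀` normalises `T_xy`
  have hnT : Nrm d₀ (Tst G x y) := by
    rw [hTeq]
    exact nrm_sup hnHH (Kst_normal x d₀ hd₀)
  -- contradiction through `R_xy`
  obtain ⟨r, hr1, hR, hr2, hall⟩ := aux_card_two _ (F.cardR x y h)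
  have hrR : r ∈ Rst G a b x y := by rw [hR]; exact Subgroup.mem_zpowers r
  have hnR : Nrm d₀ (Rst G a b x y) := by
    unfold Rst CommSub
    apply nrm_closure
    rintro s ⟨g, hg, v, hv, rfl⟩
    refine Subgroup.subset_closure ⟨d₀ * g * d₀⁻¹, hnT g hg, d₀ * v * d₀⁻¹,
      Vst_normal x d₀ hd₀ v hv, ?_⟩
    exact comm_conj d₀ g v
  have hconj : d₀ * r * d₀⁻¹ = r := by
    rcases hall _ (hnR r hrR) with h1 | h1
    · exfalso
      apply hr1
      have : d₀ * r * d₀⁻¹ = d₀ * 1 * d₀⁻¹ := by rw [h1]; group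
      exact mul_left_cancel (mul_right_cancel this)
    · exact h1
  have hcomm : d₀ * r = r * d₀ := by
    calc d₀ * r = d₀ * r * d₀⁻¹ * d₀ := by group
      _ = r * d₀ := by rw [hconj]
  exact hr1 (F.fpf x d₀ hd₀ hd3 r (aux_Rst_le_Nst x y hrR) hcomm)

end PartC

section PartC2
variable {G Ω : Type*} [Group G] [MulAction G Ω] {a b : Ω}

variable (G a b) in
/-- the group `W = V_x · <V_δ : δ ~ x>` -/
def Wsub (x : Ω) : Subgroup G :=
  Vst G a b x ⊔ ⨆ δ : {δ : Ω // Adj G a b δ x}, Vst G a b (δ : Ω)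

theorem Vst_le_Wsub (x : Ω) : Vst G a b x ≤ Wsub G a b x := le_sup_left

theorem Vst_le_Wsub' {x δ : Ω} (h : Adj G a b δ x) : Vst G a b δ ≤ Wsub G a b x :=
  le_trans (le_iSup (fun δ : {δ : Ω // Adj G a b δ x} => Vst G a b (δ : Ω)) ⟨δ, h⟩) le_sup_right

theorem Wsub_le {x : Ω} {K : Subgroup G} (h1 : Vst G a b x ≤ K)
    (h2 : ∀ δ, Adj G a b δ x → Vst G a b δ ≤ K) : Wsub G a b x ≤ K :=
  sup_le h1 (iSup_le fun δ => h2 δ.1 δ.2)

theorem Wsub_normal (x : Ω) (g : G) (hg : g ∈ stabilizer G x) : Nrm g (Wsub G a b x) := by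
  have hgx : g • x = x := hg
  refine nrm_sup (Vst_normal x g hg) ?_
  intro h hh
  have hle : (⨆ δ : {δ : Ω // Adj G a b δ x}, Vst G a b (δ : Ω)) ≤
      (⨆ δ : {δ : Ω // Adj G a b δ x}, Vst G a b (δ : Ω)).comap (MulAut.conj g).toMonoidHom := by
    refine iSup_le ?_
    rintro ⟨δ, hδ⟩ v hv
    rw [Subgroup.mem_comap]
    have hadj : Adj G a b (g • δ) x := by
      have := adj_smul' (a := a) (b := b) g hδ
      rwa [hgx] at this
    have hmem : g * v * g⁻¹ ∈ Vst G a b (g • δ) := by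
      rw [Vst_smul]; exact conj_mem_cj hv
    exact le_iSup (fun δ : {δ : Ω // Adj G a b δ x} => Vst G a b (δ : Ω)) ⟨g • δ, hadj⟩ hmem
  exact hle hh

/-- C-BALL for `j = bb` (paper 4.1), proved inline. -/
theorem ball_top {bb : ℕ} (hb : IsCrit G a b bb) (h1 : 1 ≤ bb) (w : ℕ → Ω)
    (hw : IsWalk G a b w bb) : Vst G a b (w 0) ≤ stabilizer G (w bb) := by
  have hVK : Vst G a b (w 0) ≤ Kst G a b (w (bb - 1)) := by
    by_contra hcon
    exact hb.2 (bb - 1) (by omega) w ⟨fun i hi => hw i (by omega), hcon⟩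
  have hadjb : Adj G a b (w (bb - 1)) (w bb) := by
    have := hw (bb - 1) (by omega)
    rwa [Nat.sub_add_cancel h1] at this
  intro v hv
  have hk := hVK hv
  rw [aux_mem_Kst_iff] at hk
  exact hk.2 _ hadjb

end PartC2

section PartC3
variable {G Ω : Type*} [Group G] [MulAction G Ω] {a b : Ω}

theorem comm_bound_conj {W : Subgroup G} {t g : G} (hg : Nrm g⁻¹ W)
    (h : ∃ r, ∀ u ∈ W, comm t u = 1 ∨ comm t u = r) :
    ∃ r, ∀ u ∈ W, comm (g * t * g⁻¹) u = 1 ∨ comm (g * t * g⁻¹) u = r := by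
  obtain ⟨r, hr⟩ := h
  refine ⟨g * r * g⁻¹, fun u hu => ?_⟩
  have hu' : g⁻¹ * u * g ∈ W := by
    have := hg u hu
    rwa [inv_inv] at this
  have e : comm (g * t * g⁻¹) u = g * comm t (g⁻¹ * u * g) * g⁻¹ := by
    rw [comm_conj]
    congr 1
    group
  rcases hr _ hu' with h1 | h1
  · left; rw [e, h1]; group
  · right; rw [e, h1]

theorem nrm_cj {g₀ : G} {S Y : Subgroup G} (h : ∀ g ∈ S, Nrm g Y) :
    ∀ g ∈ cj g₀ S, Nrm g (cj g₀ Y) := by
  intro g hg y hy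
  rw [mem_cj] at hg hy ⊢
  have := h _ hg _ hy
  have e : g₀⁻¹ * (g * y * g⁻¹) * g₀ = g₀⁻¹ * g * g₀ * (g₀⁻¹ * y * g₀) * (g₀⁻¹ * g * g₀)⁻¹ := by
    group
  rw [e]; exact this

theorem cj_sup (g : G) (A B : Subgroup G) : cj g (A ⊔ B) = cj g A ⊔ cj g B := by
  unfold cj
  exact Subgroup.map_sup A B _

/-- C-A (paper 4.3): not all `V_δ`, `δ ~ x_0`, fix `x_b`. -/
theorem caseA (H : Hyp G a b) (F : FF G a b) {bb : ℕ} (hb : IsCrit G a b bb) (h2 : 2 ≤ bb)
    (w : ℕ → Ω) (hw : IsBad G a b w bb) :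
    ∃ δ, Adj G a b δ (w 0) ∧ ¬ Vst G a b δ ≤ stabilizer G (w bb) := by
  have hfin := H.fin
  by_contra hcon
  push Not at hcon
  obtain ⟨hwalk, hbad⟩ := hw
  have h1 : 1 ≤ bb := by omega
  have hadj01 : Adj G a b (w 0) (w 1) := hwalk 0 (by omega)
  have hadjb : Adj G a b (w (bb - 1)) (w bb) := by
    have := hwalk (bb - 1) (by omega)
    rwa [Nat.sub_add_cancel h1] at this
  have hadjb' : Adj G a b (w bb) (w (bb - 1)) := Or.symm hadjb
  obtain ⟨hbadrev, -, -, -, -, -⟩ :=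
    Cfsg.Agent.Lib.Helper99_Sims_CSYMM.symm_crit H F hb h1 w ⟨hwalk, hbad⟩
  obtain ⟨-, -, hVKrev, hVTrev, -, -⟩ :=
    Cfsg.Agent.Lib.Helper99_Sims_CSYMM.symm_crit H F hb h1 (fun i => w (bb - i)) hbadrev
  have e1 : bb - (bb - 1) = 1 := by omega
  simp only [Nat.sub_zero, Nat.sub_self, e1] at hVKrev hVTrev
  have hbad' : ¬ Vst G a b (w bb) ≤ Kst G a b (w 0) := by
    have := hbadrev.2
    simpa using this
  obtain ⟨t, htV, htK⟩ := SetLike.not_le_iff_exists.1 hbad'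
  have htT : t ∈ Tst G (w 0) (w 1) := hVTrev htV
  have htx : t ∈ stabilizer G (w 0) := htT.1
  -- the group `W`
  have hWK : Wsub G a b (w 0) ≤ Kst G a b (w 0) := by
    refine Wsub_le (Vst_le_Kst _) (fun δ hδ => ?_)
    by_contra hc
    refine hb.2 1 (by omega) (fun i => if i = 0 then δ else w 0) ⟨fun i hi => ?_, ?_⟩
    · have : i = 0 := by omega
      subst this
      simpa using hδ
    · simpa using hc
  have hWb : Wsub G a b (w 0) ≤ stabilizer G (w bb) := Wsub_le (ball_top hb h1 w hwalk) hcon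
  have hWx : Wsub G a b (w 0) ≤ stabilizer G (w 0) := hWK.trans (aux_Kst_le_stab _)
  have hW2 : IsPGroup 2 (Wsub G a b (w 0)) :=
    (F.two _ _ hadj01).to_le (hWK.trans (aux_Kst_le_Tst hadj01))
  -- `[W,t]` has order at most 2
  obtain ⟨r, hr1, hR, hr2, hall⟩ := aux_card_two _ (F.cardR _ _ hadjb')
  have hC : ∃ r, ∀ u ∈ Wsub G a b (w 0), comm t u = 1 ∨ comm t u = r := by
    refine ⟨r, fun u hu => ?_⟩
    apply hall
    have hKmem : comm t u ∈ Kst G a b (w 0) := by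
      apply hWK
      unfold Helper13_SimsDefs.comm
      exact Subgroup.mul_mem _ (Wsub_normal _ t htx u hu) (Subgroup.inv_mem _ hu)
    have hNmem : comm t u ∈ Nst G a b (w bb) := by
      have hgen : comm u t ∈ Nst G a b (w bb) :=
        Subgroup.subset_closure ⟨u, hWb hu, t, htV, rfl⟩
      have : comm t u = (comm u t)⁻¹ := by unfold Helper13_SimsDefs.comm; group
      rw [this]; exact Subgroup.inv_mem _ hgen
    have hZ : comm t u ∈ Zst G a b (w bb) (w (bb - 1)) := by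
      rw [← hVKrev]; exact ⟨aux_Nst_le_Vst _ hNmem, hKmem⟩
    rw [← Zst_inf_Nst H F hadjb']
    exact ⟨hZ, hNmem⟩
  -- the element `d` of order 3
  obtain ⟨d₀, hd₀, hd₀3⟩ := exists_three H F (w 0)
  obtain ⟨d, hdcl, hd3⟩ := exists_three_closure H F hadj01 t htT htK d₀ hd₀ hd₀3
  have hd2 : d₀ ^ 2 ∈ stabilizer G (w 0) := Subgroup.pow_mem _ hd₀ 2
  have hGx : ∀ g ∈ stabilizer G (w 0), ∀ g' ∈ stabilizer G (w 0),
      g * g' * g⁻¹ ∈ stabilizer G (w 0) :=
    fun g hg g' hg' => Subgroup.mul_mem _ (Subgroup.mul_mem _ hg hg') (Subgroup.inv_mem _ hg)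
  have hdx : d ∈ stabilizer G (w 0) := by
    have hle : Subgroup.closure ({t, d₀ * t * d₀⁻¹, d₀ ^ 2 * t * (d₀ ^ 2)⁻¹} : Set G)
        ≤ stabilizer G (w 0) := by
      rw [Subgroup.closure_le]
      intro s hs
      rcases hs with rfl | rfl | rfl
      · exact htx
      · exact hGx _ hd₀ _ htx
      · exact hGx _ hd2 _ htx
    exact hle hdcl
  have hct := Cfsg.Agent.Lib.Helper27_Sims_CT.ct (Wsub G a b (w 0)) hW2 t (d₀ * t * d₀⁻¹)
    (d₀ ^ 2 * t * (d₀ ^ 2)⁻¹) d (Wsub_normal _ t htx)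
    (Wsub_normal _ _ (hGx _ hd₀ _ htx)) (Wsub_normal _ _ (hGx _ hd2 _ htx))
    hC (comm_bound_conj (Wsub_normal _ _ (Subgroup.inv_mem _ hd₀)) hC)
    (comm_bound_conj (Wsub_normal _ _ (Subgroup.inv_mem _ hd2)) hC) hdcl hd3
  have hidx : Nat.card (Wsub G a b (w 0))
      ≤ 4 * Nat.card (CentIn (Wsub G a b (w 0)) (Subgroup.zpowers d)) := by
    rcases hct with h | h
    · rw [h]; omega
    · rw [h]
  obtain ⟨hcomm, -, -⟩ := Cfsg.Agent.Lib.Helper91_Sims_CT2.ct2 (Wsub G a b (w 0))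
    (Nst G a b (w 0)) ((aux_Nst_le_Vst _).trans (Vst_le_Wsub _))
    (fun u hu => Nst_normal (w 0) u (hWx hu)) (F.cardN (w 0)) d (Wsub_normal _ d hdx)
    (Nst_normal (w 0) d hdx) (F.fpf (w 0) d hdx hd3) hidx
  -- `V_δ V_{x_0}` is normal in `G_{x_0}` for all `δ ~ x_0`
  have hnormal : ∀ δ, Adj G a b δ (w 0) → ∀ g ∈ stabilizer G (w 0),
      Nrm g (Vst G a b δ ⊔ Vst G a b (w 0)) := by
    intro δ hδ
    have hdY : Nrm d (Vst G a b δ ⊔ Vst G a b (w 0)) := by
      intro h hh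
      have hle : Vst G a b δ ⊔ Vst G a b (w 0) ≤
          (Vst G a b δ ⊔ Vst G a b (w 0)).comap (MulAut.conj d).toMonoidHom := by
        refine sup_le ?_ ?_
        · intro v hv
          rw [Subgroup.mem_comap]
          have e : d * v * d⁻¹ = comm d v * v := by unfold Helper13_SimsDefs.comm; group
          show d * v * d⁻¹ ∈ _
          rw [e]
          refine Subgroup.mul_mem _ ?_ ((le_sup_left : Vst G a b δ ≤ _) hv)
          exact (le_sup_right : Vst G a b (w 0) ≤ _)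
            (aux_Nst_le_Vst _ (hcomm v (Vst_le_Wsub' hδ hv)))
        · intro v hv
          rw [Subgroup.mem_comap]
          exact (le_sup_right : Vst G a b (w 0) ≤ _) (Vst_normal (w 0) d hdx v hv)
      exact hle hh
    have hgen := gen_Td H F (Or.symm hδ : Adj G a b (w 0) δ) d hdx hd3
    have hle : stabilizer G (w 0) ≤
        Subgroup.normalizer ((Vst G a b δ ⊔ Vst G a b (w 0) : Subgroup G) : Set G) := by
      rw [← hgen]
      refine sup_le ?_ ?_
      · intro g hg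
        exact Cfsg.Agent.Lib.Helper27_Sims_CT.mem_normalizer_of_nrm _ g
          (nrm_sup (Vst_normal δ g hg.2) (Vst_normal (w 0) g hg.1))
      · rw [Subgroup.zpowers_le]
        exact Cfsg.Agent.Lib.Helper27_Sims_CT.mem_normalizer_of_nrm _ d hdY
    intro g hg y hy
    exact (Subgroup.mem_normalizer_iff.1 (hle hg) y).1 hy
  -- transport to `G_{x_1}`
  obtain ⟨g₀, hg₀⟩ := Cfsg.Agent.Lib.Helper91_Sims_BASE.trans H (w 0) (w 1)
  have hδ' : Adj G a b (g₀⁻¹ • w 0) (w 0) := by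
    have := adj_smul' (a := a) (b := b) g₀⁻¹ hadj01
    rwa [← hg₀, inv_smul_smul] at this
  have hx0 := hnormal (w 1) (Or.symm hadj01)
  have hx1 : ∀ g ∈ stabilizer G (w 1), Nrm g (Vst G a b (w 1) ⊔ Vst G a b (w 0)) := by
    have h := nrm_cj (g₀ := g₀) (hnormal _ hδ')
    rw [← stab_smul, hg₀, cj_sup, ← Vst_smul, ← Vst_smul, smul_inv_smul, hg₀, sup_comm] at h
    exact h
  have hYle : Vst G a b (w 1) ⊔ Vst G a b (w 0) ≤ Tst G (w 0) (w 1) := by
    refine sup_le ?_ ?_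
    · refine (Vst_le_Kst (w 1)).trans ?_
      have := aux_Kst_le_Tst (Or.symm hadj01 : Adj G a b (w 1) (w 0))
      rwa [Cfsg.Agent.Lib.Helper91_Sims_ARC.Tst_comm] at this
    · exact (Vst_le_Kst (w 0)).trans (aux_Kst_le_Tst hadj01)
  have hbot := Cfsg.Agent.Lib.Helper91_Sims_BASE.normal_both H
    (Cfsg.Agent.Lib.Helper91_Sims_ARC.adj_ne H hadj01) _ hYle hx0 hx1
  have hV : Vst G a b (w 0) = ⊥ := by
    rw [eq_bot_iff, ← hbot]; exact le_sup_right
  have hcard := F.cardV (w 0)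
  rw [hV, Subgroup.card_bot] at hcard
  have : 0 < Nat.card (Zpr G a b (w 0)) := Nat.card_pos
  omega

end PartC3

end Cfsg.Agent.Lib.Helper52_Sims_CA
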