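import Cfsg.Agent.Lib.Helper99_Sims_CCONS
import Cfsg.Agent.Lib.Helper91_Sims_BASE
import Cfsg.Agent.Lib.Helper91_Sims_ARC
import Cfsg.Agent.Lib.Helper12_Sims_BEQUIV

/-!
# SIMS C-CX (helper13 market S3385/S3685): paper 3.7, the involutions `c_x`.
-/

set_option autoImplicit false

namespace Cfsg.Agent.Lib.Helper99_Sims_CCX

open MulAction Cfsg.Agent.Lib.Helper13_SimsDefs Cfsg.Agent.Lib.Helper99_Sims_CCONS

section PartC
variable {G Ω : Type*} [Group G] [MulAction G Ω] {a b : Ω}

/-- C-CX (paper 3.7): the involutions `c_x`. -/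
theorem cx (H : Hyp G a b) (F : FF G a b) (hZ : ∀ x, Nat.card (Zpr G a b x) = 2) :
    ∃ c : Ω → G, (∀ x, c x ≠ 1 ∧ Zpr G a b x = Subgroup.zpowers (c x)) ∧
      (∀ (g : G) x, c (g • x) = g * c x * g⁻¹) ∧ Function.Injective c ∧
      (∀ x y, Adj G a b x y → c x * c y = c y * c x ∧
        (Zst G a b x y : Set G) = {1, c x, c y, c x * c y}) ∧
      (∀ x y, Adj G a b x y → Rst G a b x y = Subgroup.zpowers (c y) ∨
        Rst G a b x y = Subgroup.zpowers (c x * c y)) := by
  have hfin := H.fin
  choose c hc1 hcZ hc2 hcall using fun x => aux_card_two (Zpr G a b x) (hZ x)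
  have hcmem : ∀ x, c x ∈ Zpr G a b x := fun x => by
    rw [hcZ x]; exact Subgroup.mem_zpowers _
  have hcV : ∀ x, c x ∈ Vst G a b x := fun x => ((aux_mem_CentIn _ _ _).1 (hcmem x)).1
  have hcent : ∀ x, ∀ g ∈ stabilizer G x, g * c x = c x * g :=
    fun x g hg => ((aux_mem_CentIn _ _ _).1 (hcmem x)).2 g hg
  -- equivariance
  have hequiv : ∀ (g : G) x, c (g • x) = g * c x * g⁻¹ := by
    intro g x
    have hmem : g * c x * g⁻¹ ∈ Zpr G a b (g • x) := by
      rw [Helper12_Sims_BEQUIV.Zpr_smul]
      exact Helper12_Sims_BEQUIV.conj_mem_cj (hcmem x)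
    rcases hcall (g • x) _ hmem with h | h
    · exfalso; apply hc1 x
      have : g * c x * g⁻¹ = g * 1 * g⁻¹ := by rw [h]; group
      exact mul_left_cancel (mul_right_cancel this)
    · exact h.symm
  -- injectivity
  have hinj : Function.Injective c := by
    intro x y hxy
    by_contra hne
    have htop := Helper91_Sims_BASE.gen_top H hne
    have hcentral : ∀ g : G, g * c x = c x * g := by
      intro g
      have hg : g ∈ stabilizer G x ⊔ stabilizer G y := by rw [htop]; trivial
      have hsub : stabilizer G x ⊔ stabilizer G y ≤ Subgroup.centralizer {c x} := by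
        refine sup_le ?_ ?_
        · intro k hk
          rw [Subgroup.mem_centralizer_iff]
          intro w hw
          rw [Set.mem_singleton_iff] at hw
          rw [hw]; exact (hcent x k hk).symm
        · intro k hk
          rw [Subgroup.mem_centralizer_iff]
          intro w hw
          rw [Set.mem_singleton_iff] at hw
          rw [hw, hxy]; exact (hcent y k hk).symm
      have := hsub hg
      rw [Subgroup.mem_centralizer_iff] at this
      exact (this _ rfl).symm
    have hbot : Subgroup.zpowers (c x) = ⊥ := by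
      refine Helper91_Sims_BASE.core_free H x _ ?_ ?_
      · rw [Subgroup.zpowers_le]
        exact aux_Kst_le_stab x (aux_Vst_le_Kst x (hcV x))
      · intro g h hh
        obtain ⟨n, rfl⟩ := Subgroup.mem_zpowers_iff.1 hh
        have hcm : Commute g (c x ^ n) := (show Commute g (c x) from hcentral g).zpow_right n
        rw [hcm.eq, mul_inv_cancel_right]
        exact hh
    exact hc1 x (Subgroup.zpowers_eq_bot.1 hbot)
  -- adjacent vertices
  have hadjpart : ∀ x y, Adj G a b x y → c x * c y = c y * c x ∧
      (Zst G a b x y : Set G) = {1, c x, c y, c x * c y} := by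
    intro x y hxy
    have hne : x ≠ y := Helper91_Sims_ARC.adj_ne H hxy
    have hcne : c x ≠ c y := fun h => hne (hinj h)
    have hx : c x ∈ Zst G a b x y := Zpr_le_Zst x y (hcmem x)
    have hy : c y ∈ Zst G a b x y := by
      rw [F.zsymm x y hxy]; exact Zpr_le_Zst y x (hcmem y)
    have hyV : c y ∈ Vst G a b x := ((aux_mem_CentIn _ _ _).1 hy).1
    have hcomm : c x * c y = c y * c x := aux_Vst_mul_comm x _ (hcV x) _ hyV
    refine ⟨hcomm, ?_⟩
    have hcard : Nat.card (Zst G a b x y) = 4 := by
      have h1 := F.zidx x y hxy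
      have h2 := F.cardV x
      have h3 := hZ x
      omega
    have hxy1 : c x * c y ≠ 1 := by
      intro h
      apply hcne
      have h2 : c x * c x = 1 := by rw [← pow_two, hc2 x]
      exact (mul_left_cancel (h2.trans h.symm))
    have hn : ({1, c x, c y, c x * c y} : Set G).ncard = 4 := by
      rw [Set.ncard_insert_of_notMem, Set.ncard_insert_of_notMem, Set.ncard_pair]
      · intro h
        apply hc1 x
        have : c x * c y = 1 * c y := by rw [one_mul]; exact h.symm
        exact mul_right_cancel this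
      · simp only [Set.mem_insert_iff, Set.mem_singleton_iff, not_or]
        refine ⟨hcne, fun h => hc1 y ?_⟩
        have : c x * c y = c x * 1 := by rw [mul_one]; exact h.symm
        exact mul_left_cancel this
      · simp only [Set.mem_insert_iff, Set.mem_singleton_iff, not_or]
        exact ⟨fun h => hc1 x h.symm, fun h => hc1 y h.symm, fun h => hxy1 h.symm⟩
    symm
    apply Set.eq_of_subset_of_ncard_le
    · intro z hz
      simp only [Set.mem_insert_iff, Set.mem_singleton_iff] at hz
      rcases hz with rfl | rfl | rfl | rfl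
      · exact Subgroup.one_mem _
      · exact hx
      · exact hy
      · exact Subgroup.mul_mem _ hx hy
    · rw [hn]
      have : (Zst G a b x y : Set G).ncard = Nat.card (Zst G a b x y) := rfl
      rw [this, hcard]
    · exact Set.toFinite _
  refine ⟨c, fun x => ⟨hc1 x, hcZ x⟩, hequiv, hinj, hadjpart, ?_⟩
  intro x y hxy
  obtain ⟨r, hr1, hR, hr2, hall⟩ := aux_card_two _ (F.cardR x y hxy)
  have hrR : r ∈ Rst G a b x y := by rw [hR]; exact Subgroup.mem_zpowers r
  have hrZ : r ∈ (Zst G a b x y : Set G) := Rst_le_Zst H F hxy hrR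
  rw [(hadjpart x y hxy).2] at hrZ
  simp only [Set.mem_insert_iff, Set.mem_singleton_iff] at hrZ
  rcases hrZ with h | h | h | h
  · exact absurd h hr1
  · exfalso
    have : r ∈ Zpr G a b x ⊓ Nst G a b x :=
      Subgroup.mem_inf.2 ⟨by rw [h]; exact hcmem x, aux_Rst_le_Nst x y hrR⟩
    rw [Zpr_inf_Nst H F x] at this
    exact hr1 (Subgroup.mem_bot.1 this)
  · left; rw [hR, h]
  · right; rw [hR, h]

end PartC

end Cfsg.Agent.Lib.Helper99_Sims_CCX
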