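import Mathlib
import Cfsg.Agent.Lib.Helper13_SimsDefs
import Cfsg.Agent.Lib.Helper91_Sims_BASE
import Cfsg.Agent.Lib.Helper91_Sims_ARC
import Cfsg.Agent.Lib.Helper12_Sims_BEQUIV
import Cfsg.Agent.Lib.Helper99_Sims_CCX
import Cfsg.Agent.Lib.Helper99_Sims_CSYMM
import Cfsg.Agent.Lib.Helper41_Sims_CBaux
import Cfsg.Agent.Lib.Helper52_Sims_CA

set_option autoImplicit false

/-!
# S3385 / S3685 (architect helper13), package C-Z4B2 (paper 4.6(b), `ε = 2`): in the self-paired case with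
`|Z'_x| = 2` and `n_ab = c_a c_b` the critical distance is `≤ 1`.
The form `z4b2_of` takes the outputs of C-CX, C-SYMM, C-B as hypotheses.
-/

namespace Cfsg.Agent.Lib.Helper10_Sims_CZ4B2

open MulAction Cfsg.Agent.Lib.Helper13_SimsDefs

variable {G Ω : Type*} [Group G] [MulAction G Ω] {a b : Ω}

/-- two involutions generating the same cyclic group are equal -/
theorem eq_of_zpowers_eq {r s : G} (hs : s ^ 2 = 1) (hr1 : r ≠ 1)
    (h : Subgroup.zpowers r = Subgroup.zpowers s) : r = s := by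
  have hmem : r ∈ Subgroup.zpowers s := by
    rw [← h]
    exact Subgroup.mem_zpowers r
  obtain ⟨k, hk⟩ := Subgroup.mem_zpowers_iff.1 hmem
  rcases Int.even_or_odd k with ⟨m, hm⟩ | ⟨m, hm⟩
  · exfalso
    apply hr1
    rw [← hk, hm, ← two_mul, zpow_mul, zpow_ofNat, hs, one_zpow]
  · rw [← hk, hm, zpow_add, zpow_mul, zpow_ofNat, hs, one_zpow, one_mul, zpow_one]

theorem cj_injective (g : G) : Function.Injective (cj (G := G) g) := by
  intro A B hAB
  exact Subgroup.map_injective (MulAut.conj g).injective hAB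

/-- a group of order 4 is determined by two of its non-trivial elements -/
theorem eq_of_card_four [Finite G] (N M : Subgroup G) (hN : Nat.card N = 4) (hM : Nat.card M = 4)
    {r s : G} (hr : r ≠ 1) (hs : s ≠ 1) (hrs : r ≠ s) (hrN : r ∈ N) (hsN : s ∈ N) (hrM : r ∈ M)
    (hsM : s ∈ M) : N = M := by
  have h3 : 3 ≤ Nat.card (N ⊓ M : Subgroup G) := by
    change 3 ≤ Nat.card (((N ⊓ M : Subgroup G) : Set G))
    rw [Nat.card_coe_set_eq]
    have hsub : ({1, r, s} : Set G) ⊆ ((N ⊓ M : Subgroup G) : Set G) := by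
      intro x hx
      rcases hx with rfl | rfl | rfl
      · exact Subgroup.one_mem _
      · exact ⟨hrN, hrM⟩
      · exact ⟨hsN, hsM⟩
    have hcard : ({1, r, s} : Set G).ncard = 3 :=
      Set.ncard_eq_three.2 ⟨1, r, s, Ne.symm hr, Ne.symm hs, hrs, rfl⟩
    rw [← hcard]
    exact Set.ncard_le_ncard hsub (Set.toFinite _)
  have hdN : Nat.card (N ⊓ M : Subgroup G) ∣ 4 := by
    rw [← hN]
    exact Subgroup.card_dvd_of_le inf_le_left
  have h4 : Nat.card (N ⊓ M : Subgroup G) = 4 := by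
    have hle : Nat.card (N ⊓ M : Subgroup G) ≤ 4 := Nat.le_of_dvd (by norm_num) hdN
    interval_cases hc : Nat.card (N ⊓ M : Subgroup G)
    · norm_num at hdN
    · rfl
  have e1 : N ⊓ M = N := Subgroup.eq_of_le_of_card_ge inf_le_left (by rw [h4, hN])
  have e2 : N ⊓ M = M := Subgroup.eq_of_le_of_card_ge inf_le_right (by rw [h4, hM])
  rw [← e1]
  exact e2

theorem Nst_le_stab (x : Ω) : Nst G a b x ≤ stabilizer G x :=
  (Cfsg.Agent.Lib.Helper12_Sims_BEQUIV.Nst_le_Vst x).trans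
    ((Cfsg.Agent.Lib.Helper12_Sims_BEQUIV.Vst_le_Kst x).trans
      (Cfsg.Agent.Lib.Helper12_Sims_BEQUIV.Kst_le_stab x))

theorem Zpr_le_Vst (x : Ω) : Zpr G a b x ≤ Vst G a b x := inf_le_left

/-- in the self-paired case every adjacent pair is an arc -/
theorem arc_of_adj (hs : Arc G a b b a) {x y : Ω} (h : Adj G a b x y) : Arc G a b x y := by
  rcases h with h | h
  · exact h
  · exact Cfsg.Agent.Lib.Helper91_Sims_ARC.self_paired hs h

/-- `ε = 2` at every adjacent pair -/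
theorem eps_two (hs : Arc G a b b a) (he : Rst G a b a b ≠ Zpr G a b b) {x y : Ω}
    (h : Adj G a b x y) : Rst G a b x y ≠ Zpr G a b y := by
  obtain ⟨g, rfl, rfl⟩ := arc_of_adj hs h
  rw [Cfsg.Agent.Lib.Helper12_Sims_BEQUIV.Rst_smul, Cfsg.Agent.Lib.Helper12_Sims_BEQUIV.Zpr_smul]
  intro hcon
  exact he (cj_injective g hcon)

/-- C-Z4B2 with the outputs of C-CX, C-SYMM, C-B as hypotheses. -/
theorem z4b2_of (H : Hyp G a b) (F : FF G a b)
    (hs : Arc G a b b a) (he : Rst G a b a b ≠ Zpr G a b b) {bb : ℕ} (hb : IsCrit G a b bb)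
    (c : Ω → G)
    (hc1 : ∀ x, c x ≠ 1 ∧ Zpr G a b x = Subgroup.zpowers (c x))
    (hcinj : Function.Injective c)
    (hcZ : ∀ x y, Adj G a b x y → c x * c y = c y * c x)
    (hcR : ∀ x y, Adj G a b x y → Rst G a b x y = Subgroup.zpowers (c y) ∨
        Rst G a b x y = Subgroup.zpowers (c x * c y))
    (hsymm : ∀ w, IsBad G a b w bb → Rst G a b (w 0) (w 1) = Rst G a b (w bb) (w (bb - 1)) ∧
      (2 ≤ bb → w 0 ≠ w (bb - 1)))
    (hB : 2 ≤ bb → ∀ w, IsBad G a b w bb → ∃ δ, Adj G a b δ (w 0) ∧ δ ≠ w 1 ∧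
      IsBad G a b (fun i => if i = 0 then δ else w (i - 1)) bb) :
    bb ≤ 1 := by
  by_contra hbb
  have h2 : 2 ≤ bb := by omega
  have := H.fin
  obtain ⟨w, hw⟩ := hb.1
  -- basic facts about `c`
  have hsq : ∀ x, c x ^ 2 = 1 := fun x =>
    Cfsg.Agent.Lib.Helper12_Sims_BEQUIV.Vst_sq x (c x) (Zpr_le_Vst x (by
      rw [(hc1 x).2]
      exact Subgroup.mem_zpowers _))
  have hinv : ∀ x, (c x)⁻¹ = c x := fun x => by
    rw [inv_eq_iff_mul_eq_one, ← pow_two, hsq x]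
  have hne1 : ∀ x y, Adj G a b x y → c x * c y ≠ 1 := by
    intro x y hxy h1
    apply Cfsg.Agent.Lib.Helper91_Sims_ARC.adj_ne H hxy
    apply hcinj
    rw [← hinv y]
    exact eq_inv_of_mul_eq_one_left h1
  have hsq2 : ∀ x y, Adj G a b x y → (c x * c y) ^ 2 = 1 := by
    intro x y hxy
    rw [pow_two, mul_assoc, ← mul_assoc (c y), ← hcZ x y hxy, mul_assoc, ← pow_two, hsq y,
      mul_one, ← pow_two, hsq x]
  have hR : ∀ x y, Adj G a b x y → Rst G a b x y = Subgroup.zpowers (c x * c y) := by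
    intro x y hxy
    rcases hcR x y hxy with h | h
    · exfalso
      apply eps_two hs he hxy
      rw [h, (hc1 y).2]
    · exact h
  have hmemN : ∀ x y, Adj G a b x y → c x * c y ∈ Nst G a b x := by
    intro x y hxy
    apply Cfsg.Agent.Lib.Helper12_Sims_BEQUIV.Rst_le_Nst x y
    rw [hR x y hxy]
    exact Subgroup.mem_zpowers _
  have heq : ∀ x y x' y', Adj G a b x y → Adj G a b x' y' → Rst G a b x y = Rst G a b x' y' →
      c x * c y = c x' * c y' := by
    intro x y x' y' hxy hxy' hRR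
    rw [hR x y hxy, hR x' y' hxy'] at hRR
    exact eq_of_zpowers_eq (hsq2 x' y' hxy') (hne1 x y hxy) hRR
  -- the walk
  have hw01 : Adj G a b (w 0) (w 1) := hw.1 0 (by omega)
  have hwb : Adj G a b (w bb) (w (bb - 1)) := by
    have := hw.1 (bb - 1) (by omega)
    rw [show bb - 1 + 1 = bb by omega] at this
    exact Cfsg.Agent.Lib.Helper91_Sims_ARC.adj_symm this
  have hwb' : Adj G a b (w (bb - 1)) (w (bb - 2)) := by
    have := hw.1 (bb - 2) (by omega)
    rw [show bb - 2 + 1 = bb - 1 by omega] at this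
    exact Cfsg.Agent.Lib.Helper91_Sims_ARC.adj_symm this
  obtain ⟨hstar, hne0⟩ := hsymm w hw
  obtain ⟨δ, hδ, hδ1, hw'⟩ := hB h2 w hw
  obtain ⟨hstar', -⟩ := hsymm _ hw'
  have e1 : (if (1 : ℕ) = 0 then δ else w (1 - 1)) = w 0 := by simp
  have e2 : (if bb = 0 then δ else w (bb - 1)) = w (bb - 1) := by
    rw [if_neg (by omega)]
  have e3 : (if bb - 1 = 0 then δ else w (bb - 1 - 1)) = w (bb - 2) := by
    rw [if_neg (by omega)]
    rfl
  simp only [if_true] at hstar'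
  rw [e1, e2, e3] at hstar'
  -- the two elements
  have hr : c (w 0) * c (w 1) = c (w bb) * c (w (bb - 1)) := heq _ _ _ _ hw01 hwb hstar
  have hr' : c δ * c (w 0) = c (w (bb - 1)) * c (w (bb - 2)) := heq _ _ _ _ hδ hwb' hstar'
  have hδ' : Adj G a b (w 0) δ := Cfsg.Agent.Lib.Helper91_Sims_ARC.adj_symm hδ
  have hN : Nst G a b (w 0) = Nst G a b (w (bb - 1)) := by
    apply eq_of_card_four _ _ (F.cardN _) (F.cardN _) (hne1 _ _ hw01) (hne1 _ _ hδ') _
      (hmemN _ _ hw01) (hmemN _ _ hδ')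
    · rw [hr, hcZ _ _ hwb]
      exact hmemN _ _ (Cfsg.Agent.Lib.Helper91_Sims_ARC.adj_symm hwb)
    · rw [← hcZ _ _ hδ, hr']
      exact hmemN _ _ hwb'
    · intro hcon
      apply hδ1
      apply hcinj
      exact (mul_left_cancel hcon).symm
  have hbot : Nst G a b (w 0) = ⊥ := by
    apply Cfsg.Agent.Lib.Helper91_Sims_BASE.normal_both H (hne0 h2) (Nst G a b (w 0))
    · intro x hx
      refine ⟨Nst_le_stab _ hx, ?_⟩
      rw [hN] at hx
      exact Nst_le_stab _ hx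
    · exact Cfsg.Agent.Lib.Helper12_Sims_BEQUIV.Nst_normal (w 0)
    · rw [hN]
      exact Cfsg.Agent.Lib.Helper12_Sims_BEQUIV.Nst_normal (w (bb - 1))
  have h4 := F.cardN (w 0)
  rw [hbot, Subgroup.card_bot] at h4
  omega

/-- C-Z4B2 with only the conclusion of C-A (paper 4.3) as hypothesis (uses the landed C-CX, C-SYMM and
`caseB_aux` of C-B). -/
theorem z4b2_of_A (H : Hyp G a b) (F : FF G a b) (hZ : ∀ x, Nat.card (Zpr G a b x) = 2)
    (hs : Arc G a b b a) (he : Rst G a b a b ≠ Zpr G a b b) {bb : ℕ} (hb : IsCrit G a b bb)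
    (hA : 2 ≤ bb → ∀ w, IsBad G a b w bb →
      ∃ δ, Adj G a b δ (w 0) ∧ ¬ Vst G a b δ ≤ stabilizer G (w bb)) :
    bb ≤ 1 := by
  by_cases h1 : bb ≤ 1
  · exact h1
  have h1' : 1 ≤ bb := by omega
  obtain ⟨c, hc1, -, hcinj, hcZ, hcR⟩ := Cfsg.Agent.Lib.Helper99_Sims_CCX.cx H F hZ
  refine z4b2_of H F hs he hb c hc1 hcinj (fun x y h => (hcZ x y h).1) hcR ?_ ?_
  · intro w hw
    have h := Cfsg.Agent.Lib.Helper99_Sims_CSYMM.symm_crit H F hb h1' w hw
    exact ⟨h.2.1, h.2.2.2.2.2⟩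
  · intro h2 w hw
    obtain ⟨δ, hδ, hδ1, hδw, -⟩ :=
      Cfsg.Agent.Lib.Helper41_Sims_CBaux.caseB_aux H F hb h2 w hw (hA h2 w hw)
    exact ⟨δ, hδ, hδ1, hδw⟩

/-- C-Z4B2 (paper 4.6(b), ε = 2). -/
theorem z4b2 (H : Hyp G a b) (F : FF G a b) (hZ : ∀ x, Nat.card (Zpr G a b x) = 2)
    (hs : Arc G a b b a) (he : Rst G a b a b ≠ Zpr G a b b) {bb : ℕ} (hb : IsCrit G a b bb) :
    bb ≤ 1 :=
  z4b2_of_A H F hZ hs he hb
    (fun h2 w hw => Cfsg.Agent.Lib.Helper52_Sims_CA.caseA H F hb h2 w hw)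

end Cfsg.Agent.Lib.Helper10_Sims_CZ4B2
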