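import Mathlib
import Cfsg.Agent.Lib.Helper13_SimsDefs
import Cfsg.Agent.Lib.Helper91_Sims_JCONJ
import Cfsg.Agent.Lib.Helper10_Sims_SN
import Cfsg.Agent.Lib.Helper79_Sims_CHAR
import Cfsg.Agent.Lib.Helper91_Sims_ARC

set_option autoImplicit false

/-!
# S3385 / S3685 (architect helper13), package S-A3 (paper 1.3): in the `A₃`-case `|G_a| = 3`.
The form `a3_case_of` takes its inputs (S-N, S-CHAR, B-ARC) as hypotheses.
-/

namespace Cfsg.Agent.Lib.Helper10_Sims_SA3

open MulAction Cfsg.Agent.Lib.Helper13_SimsDefs Cfsg.Agent.Lib.Helper91_Sims_JCONJ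

variable {G Ω : Type*} [Group G] [MulAction G Ω] {a b : Ω}

/-- in the `A₃`-case `T_ab` is normal in `G_a` -/
theorem Tst_normal_of_A3 (hA : A3case G a b) : ∀ g ∈ stabilizer G a, Nrm g (Tst G a b) := by
  intro g hg t ht
  have hga : g • a = a := hg
  have hginva : g⁻¹ • a = a := by
    rw [inv_smul_eq_iff, hga]
  have hta : t • a = a := ht.1
  have harc : Arc G a b a (g⁻¹ • b) := ⟨g⁻¹, hginva, rfl⟩
  have ht' : t • (g⁻¹ • b) = g⁻¹ • b := hA t ht _ harc
  constructor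
  · show (g * t * g⁻¹) • a = a
    rw [mul_smul, mul_smul, hginva, hta, hga]
  · show (g * t * g⁻¹) • b = b
    rw [mul_smul, mul_smul, ht', smul_inv_smul]

theorem a3_case_of (hA : A3case G a b) (n : G) (hn : cj n (Tst G a b) = Tst G a b)
    (hchar : ∀ Y : Subgroup G, Y ≤ Tst G a b → cj n Y = Y →
      (∀ g ∈ stabilizer G a, Nrm g Y) → Y = ⊥)
    (hcard : Nat.card (stabilizer G a) = 3 * Nat.card (Tst G a b)) :
    Nat.card (stabilizer G a) = 3 := by
  have hT : Tst G a b = ⊥ := hchar (Tst G a b) le_rfl hn (Tst_normal_of_A3 hA)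
  rw [hcard, hT, Subgroup.card_bot]

/-- S-A3 (paper 1.3). -/
theorem a3_case (H : Hyp G a b) (hA : A3case G a b) : Nat.card (stabilizer G a) = 3 := by
  obtain ⟨n, hna, hn⟩ := Cfsg.Agent.Lib.Helper10_Sims_SN.exists_shift H
  exact a3_case_of hA n hn
    (fun Y hY hYn hYa => Cfsg.Agent.Lib.Helper79_Sims_CHAR.char_bot H n hna Y hY hYn hYa)
    (Cfsg.Agent.Lib.Helper91_Sims_ARC.card_stab_ab H)

end Cfsg.Agent.Lib.Helper10_Sims_SA3
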