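import Mathlib

/-!
# S4409 (minimal solvable groups containing a noncyclic abelian subgroup of order 8): definitions

Everything happens inside one ambient finite group `S`; `H` is a subgroup of odd order (the
operators), `Y`, `W`, `X` are `2`-subgroups normalized by `H`.

* `Slim Y` : `Y` has no noncyclic abelian subgroup of order `8`;
* `zen Y`, `phi Y`, `der Y` : centre, Frattini subgroup and derived subgroup of `Y`, as subgroups of `S`;
* `KeyHyp H Y`, `KeyConcl Y`, `SlimActConcl H W`, `Cfg X H`, `Concl X` : the statements of the main steps.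
-/

set_option autoImplicit false

namespace Cfsg.Agent.Lib.Helper49_SlimDefs

open Subgroup

variable {S : Type*} [Group S]

/-- `Y` has no noncyclic abelian subgroup of order `8`. -/
def Slim (Y : Subgroup S) : Prop :=
  ∀ A : Subgroup S, A ≤ Y → IsMulCommutative ↥A → Nat.card ↥A = 8 → IsCyclic ↥A

/-- The centre of `Y`, as a subgroup of `S`. -/
def zen (Y : Subgroup S) : Subgroup S := Y ⊓ centralizer (Y : Set S)

/-- The Frattini subgroup of `Y`, as a subgroup of `S`. -/
def phi (Y : Subgroup S) : Subgroup S := (frattini ↥Y).map Y.subtype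

/-- The derived subgroup of `Y`, as a subgroup of `S`. -/
def der (Y : Subgroup S) : Subgroup S := ⁅Y, Y⁆

/-- Hypothesis of the key lemma: `Y = [Y, H]` is a `2`-group normalized by `H` all of whose proper
`H`-invariant subgroups are slim. -/
structure KeyHyp (H Y : Subgroup S) : Prop where
  two : IsPGroup 2 ↥Y
  inv : H ≤ normalizer (Y : Set S)
  full : ⁅Y, H⁆ = Y
  min : ∀ T : Subgroup S, T < Y → H ≤ normalizer (T : Set S) → Slim T

/-- Conclusion of the key lemma: `Y` is abelian, or `Φ(Y) = Z(Y) = Y'` has order `2` or `4`. -/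
def KeyConcl (Y : Subgroup S) : Prop :=
  IsMulCommutative ↥Y ∨
    (phi Y = zen Y ∧ der Y = zen Y ∧ (Nat.card ↥(zen Y) = 2 ∨ Nat.card ↥(zen Y) = 4))

/-- Conclusion for a slim `2`-group `W` on which `H` acts nontrivially: `W = [W, H]` has order `4`,
or order `8` and is nonabelian. -/
def SlimActConcl (H W : Subgroup S) : Prop :=
  ⁅W, H⁆ = W ∧ (Nat.card ↥W = 4 ∨ (Nat.card ↥W = 8 ∧ ¬ IsMulCommutative ↥W))

/-- The minimal configuration: `X` is a non-slim `2`-group normalized by the odd-order group `H`, all of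
whose proper `H`-invariant subgroups are slim. -/
structure Cfg (X H : Subgroup S) : Prop where
  two : IsPGroup 2 ↥X
  odd : (Nat.card ↥H).Coprime 2
  inv : H ≤ normalizer (X : Set S)
  notslim : ¬ Slim X
  min : ∀ T : Subgroup S, T < X → H ≤ normalizer (T : Set S) → Slim T

/-- The structural conclusion on `X` (internal form). -/
def Concl (X : Subgroup S) : Prop :=
  IsMulCommutative ↥X ∨
    (phi X = zen X ∧ der X = zen X ∧ Nat.card ↥(zen X) = 2 ∧ 32 ≤ Nat.card ↥X) ∨
    (∃ X₀ : Subgroup S, X₀ ≤ X ∧ X₀.relIndex X = 2 ∧ Nonempty (↥X₀ ≃* QuaternionGroup 2) ∧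
      X₀ ⊔ (X ⊓ centralizer (X₀ : Set S)) = X) ∨
    (phi X = zen X ∧ der X = zen X ∧ Nat.card ↥(zen X) = 4)

end Cfsg.Agent.Lib.Helper49_SlimDefs
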