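import Mathlib
import Cfsg.Prelude.Def_Transfer
import Cfsg.Prelude.Def_Solvable
import Cfsg.Agent.Lib.Helper49_SlimDefs

set_option autoImplicit false

/-!
# S4409 package NORM3 (architect helper49): a normal Sylow 2-subgroup gives the configuration `Cfg X H`
-/

namespace Cfsg.Agent.Lib.Helper10_Slim_NORM3

open Subgroup Cfsg.Agent.Lib.Helper49_SlimDefs
open scoped commutatorElement Pointwise

variable {S : Type*} [Group S] [Finite S]

/-- a subgroup containing a complement-size subgroup `H` of a Sylow 2-subgroup has 2-power index -/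
theorem index_two_pow (X : Sylow 2 S) (H R : Subgroup S)
    (hH : Nat.card ↥H * Nat.card ↥(X : Subgroup S) = Nat.card S) (hHR : H ≤ R) :
    ∃ k : ℕ, R.index = 2 ^ k := by
  obtain ⟨n, hn⟩ := IsPGroup.iff_card.1 X.isPGroup'
  obtain ⟨m, hm⟩ := Subgroup.card_dvd_of_le hHR
  have h1 := R.index_mul_card
  rw [hm, ← hH] at h1
  have hHpos : 0 < Nat.card ↥H := Nat.card_pos
  have h2 : R.index * m = Nat.card ↥(X : Subgroup S) := by
    have : Nat.card ↥H * (R.index * m) = Nat.card ↥H * Nat.card ↥(X : Subgroup S) := by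
      rw [← h1]; ring
    exact Nat.eq_of_mul_eq_mul_left hHpos this
  have h3 : R.index ∣ 2 ^ n := by
    rw [← hn, ← h2]
    exact Dvd.intro _ rfl
  obtain ⟨k, -, hk⟩ := (Nat.dvd_prime_pow Nat.prime_two).1 h3
  exact ⟨k, hk⟩

theorem card_lt_of_lt {T X : Subgroup S} (h : T < X) : Nat.card ↥T < Nat.card ↥X := by
  by_contra hcon
  push Not at hcon
  exact h.ne (Subgroup.eq_of_le_of_card_ge h.le hcon)

theorem cfg_of_normal [Group.IsSolvable S]
    (h8 : ∃ A : Subgroup S, IsMulCommutative ↥A ∧ ¬ IsCyclic ↥A ∧ Nat.card ↥A = 8)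
    (hmin : ∀ R : Subgroup S, R ≠ ⊤ → (∃ k : ℕ, R.index = 2 ^ k) →
      ¬ ∃ A : Subgroup S, A ≤ R ∧ IsMulCommutative ↥A ∧ ¬ IsCyclic ↥A ∧ Nat.card ↥A = 8)
    (X : Sylow 2 S) (hXn : (X : Subgroup S).Normal) (H : Subgroup S)
    (hodd : (Nat.card ↥H).Coprime 2)
    (hH : Nat.card ↥H * Nat.card ↥(X : Subgroup S) = Nat.card S) : Cfg (X : Subgroup S) H := by
  have : Fact (Nat.Prime 2) := ⟨Nat.prime_two⟩
  refine ⟨X.isPGroup', hodd, ?_, ?_, ?_⟩
  · rw [Subgroup.normalizer_eq_top]
    exact le_top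
  · intro hslim
    obtain ⟨A, hAab, hAnc, hA8⟩ := h8
    have hA2 : IsPGroup 2 ↥A := IsPGroup.of_card (n := 3) (by rw [hA8]; norm_num)
    obtain ⟨Q, hQ⟩ := hA2.exists_le_sylow
    obtain ⟨g, hg⟩ := MulAction.exists_smul_eq S X Q
    have hXn' : (X : Subgroup S).Normal := hXn
    have hgX : g • X = X := Sylow.smul_eq_of_normal
    rw [hgX] at hg
    rw [← hg] at hQ
    exact hAnc (hslim A hQ hAab hA8)
  · intro T hTX hHT
    -- R = T ⊔ H
    have hne : T ⊔ H ≠ ⊤ := by
      intro htop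
      have hset : ((H ⊔ T : Subgroup S) : Set S) = (H : Set S) * (T : Set S) :=
        Subgroup.coe_mul_of_left_le_normalizer_right H T hHT
      have h1 : Nat.card S = Nat.card ((H : Set S) * (T : Set S) : Set S) := by
        rw [← hset, sup_comm, htop]
        exact (Nat.card_congr (Equiv.Set.univ S)).symm
      have h2 : Nat.card ((H : Set S) * (T : Set S) : Set S) ≤
          Nat.card (H : Set S) * Nat.card (T : Set S) := Set.natCard_mul_le
      have h3 : Nat.card ↥T < Nat.card ↥(X : Subgroup S) := card_lt_of_lt hTX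
      have h4 : Nat.card (H : Set S) = Nat.card ↥H := rfl
      have h5 : Nat.card (T : Set S) = Nat.card ↥T := rfl
      have hHpos : 0 < Nat.card ↥H := Nat.card_pos
      have h6 : Nat.card ↥H * Nat.card ↥T < Nat.card ↥H * Nat.card ↥(X : Subgroup S) :=
        Nat.mul_lt_mul_of_pos_left h3 hHpos
      rw [h4, h5] at h2
      omega
    have hidx := index_two_pow X H (T ⊔ H) hH le_sup_right
    have hno := hmin (T ⊔ H) hne hidx
    intro A hAT hAab hA8
    by_contra hnc
    exact hno ⟨A, hAT.trans le_sup_left, hAab, hnc, hA8⟩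

end Cfsg.Agent.Lib.Helper10_Slim_NORM3
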