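import Mathlib
import Cfsg.Prelude.Def_Transfer
import Cfsg.Prelude.Def_Solvable
import Cfsg.Agent.Lib.Helper49_SlimDefs
import Cfsg.Agent.Lib.Helper1_Cores

set_option autoImplicit false

/-!
# S4409 package NORMA (architect helper49): the Sylow 2-subgroup is normal (hypothesis-parametrised)
-/

namespace Cfsg.Agent.Lib.Helper10_Slim_NORMA

open Subgroup Cfsg.Agent.Lib.Helper49_SlimDefs Cfsg.Agent.Lib.Helper1_Cores
open scoped commutatorElement Pointwise

variable {S : Type*} [Group S] [Finite S]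

/-- a subgroup containing a complement-size subgroup `H` of a Sylow 2-subgroup has 2-power index -/
theorem index_two_pow (X : Sylow 2 S) (H R : Subgroup S)
    (hH : Nat.card ↥H * Nat.card ↥(X : Subgroup S) = Nat.card S) (hHR : H ≤ R) :
    ∃ k : ℕ, R.index = 2 ^ k := by
  obtain ⟨n, hn⟩ := IsPGroup.iff_card.1 X.isPGroup'
  obtain ⟨m, hm⟩ := Subgroup.card_dvd_of_le hHR
  have h1 := R.index_mul_card
  rw [hm, ← hH] at h1
  have hHpos : 0 < Nat.card ↥H := Nat.card_pos
  have h2 : R.index * m = Nat.card ↥(X : Subgroup S) := by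
    have : Nat.card ↥H * (R.index * m) = Nat.card ↥H * Nat.card ↥(X : Subgroup S) := by
      rw [← h1]; ring
    exact Nat.eq_of_mul_eq_mul_left hHpos this
  have h3 : R.index ∣ 2 ^ n := by
    rw [← hn, ← h2]
    exact Dvd.intro _ rfl
  obtain ⟨k, -, hk⟩ := (Nat.dvd_prime_pow Nat.prime_two).1 h3
  exact ⟨k, hk⟩

theorem sylow_normal
    (hmin : ∀ R : Subgroup S, R ≠ ⊤ → (∃ k : ℕ, R.index = 2 ^ k) →
      ¬ ∃ A : Subgroup S, A ≤ R ∧ IsMulCommutative ↥A ∧ ¬ IsCyclic ↥A ∧ Nat.card ↥A = 8)
    (X : Sylow 2 S) (H : Subgroup S) (hodd : (Nat.card ↥H).Coprime 2)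
    (hH : Nat.card ↥H * Nat.card ↥(X : Subgroup S) = Nat.card S)
    (hcen : centralizer ((Cfsg.pCore 2 S : Subgroup S) : Set S) ≤ Cfsg.pCore 2 S)
    (hsa : ∀ W : Subgroup S, IsPGroup 2 ↥W → H ≤ normalizer (W : Set S) → Slim W →
      ¬ H ≤ centralizer (W : Set S) → SlimActConcl H W)
    (hcontra : SlimActConcl H (Cfsg.pCore 2 S) → False) :
    (X : Subgroup S).Normal := by
  have : Fact (Nat.Prime 2) := ⟨Nat.prime_two⟩
  obtain ⟨R, hR⟩ : ∃ R : Subgroup S, R = Cfsg.pCore 2 S := ⟨_, rfl⟩
  have hRn : R.Normal := by rw [hR]; exact pCore_normal 2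
  have hR2 : IsPGroup 2 ↥R := by rw [hR]; exact pCore_isPGroup 2
  have hRX : R ≤ (X : Subgroup S) := by rw [hR]; exact pCore_le_sylow 2 X
  by_cases hcard : Nat.card ↥(X : Subgroup S) ≤ Nat.card ↥R
  · have : R = (X : Subgroup S) := Subgroup.eq_of_le_of_card_ge hRX hcard
    rw [← this]
    exact hRn
  · exfalso
    push Not at hcard
    have hHpos : 0 < Nat.card ↥H := Nat.card_pos
    -- `H ⊔ R` is proper of 2-power index
    have hne : H ⊔ R ≠ ⊤ := by
      intro htop
      have h1 := card_sup_dvd H R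
      rw [htop] at h1
      have h2 : Nat.card (⊤ : Subgroup S) = Nat.card S := Subgroup.card_top
      rw [h2] at h1
      have h3 : Nat.card S ≤ Nat.card ↥H * Nat.card ↥R :=
        Nat.le_of_dvd (Nat.mul_pos hHpos Nat.card_pos) h1
      have h4 : Nat.card ↥H * Nat.card ↥R < Nat.card ↥H * Nat.card ↥(X : Subgroup S) :=
        Nat.mul_lt_mul_of_pos_left hcard hHpos
      omega
    have hidx := index_two_pow X H (H ⊔ R) hH le_sup_left
    have hno := hmin (H ⊔ R) hne hidx
    have hslim : Slim R := by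
      intro A hAR hAab hA8
      by_contra hnc
      exact hno ⟨A, hAR.trans le_sup_right, hAab, hnc, hA8⟩
    have hnorm : H ≤ normalizer (R : Set S) := by
      rw [Subgroup.normalizer_eq_top]
      exact le_top
    have hncen : ¬ H ≤ centralizer (R : Set S) := by
      intro hc
      have hHR : H ≤ R := by
        rw [hR] at hc ⊢
        exact hc.trans hcen
      -- `H` is trivial
      have hH1 : Nat.card ↥H = 1 := by
        obtain ⟨n, hn⟩ := IsPGroup.iff_card.1 hR2
        have hd : Nat.card ↥H ∣ 2 ^ n := by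
          rw [← hn]; exact Subgroup.card_dvd_of_le hHR
        have hcop : (Nat.card ↥H).Coprime (2 ^ n) := Nat.Coprime.pow_right n hodd
        exact Nat.Coprime.eq_one_of_dvd hcop hd
      -- then `X = ⊤`, so `R = ⊤`
      rw [hH1, one_mul] at hH
      have hXtop : (X : Subgroup S) = ⊤ := (Subgroup.card_eq_iff_eq_top _).1 hH
      have htop2 : IsPGroup 2 ↥(⊤ : Subgroup S) := by
        rw [← hXtop]; exact X.isPGroup'
      have hle : (⊤ : Subgroup S) ≤ R := by
        rw [hR]
        exact le_pCore Subgroup.normal_top htop2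
      have : Nat.card ↥(X : Subgroup S) ≤ Nat.card ↥R := by
        rw [hXtop]
        exact Subgroup.card_le_of_le hle
      omega
    have hconcl := hsa R hR2 hnorm hslim hncen
    rw [hR] at hconcl
    exact hcontra hconcl

end Cfsg.Agent.Lib.Helper10_Slim_NORMA
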