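import Mathlib

/-!
# Helper85_Sp2Defs: definitions for S2142 (minimal index of `Sp_{2m}(2)`)

Abstract setting: `F` a field with two elements, `(U, β)` a finite symplectic space over `F`,
a group `𝒢` acting through `ρ : 𝒢 →* AddMonoid.End U` (additive = linear over `F₂`), preserving `β`.
Everything is bundled in the structure `SpAct`.
-/

set_option autoImplicit false

namespace Cfsg.Agent.Lib.Helper85_Sp2Defs

/-- A group `𝒢` acting additively on a symplectic space `(U, β)` in characteristic 2 (`x + x = 0`),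
preserving the alternating nondegenerate form `β`. -/
structure SpAct (𝒢 : Type*) (F : Type*) (U : Type*) [Group 𝒢] [Field F] [AddCommGroup U]
    [Module F U] where
  β : LinearMap.BilinForm F U
  ρ : 𝒢 →* AddMonoid.End U
  alt : ∀ x, β x x = 0
  nondeg : ∀ x, (∀ y, β x y = 0) → x = 0
  pres : ∀ g x y, β (ρ g x) (ρ g y) = β x y
  two : ∀ x : U, x + x = 0

variable {𝒢 : Type*} {F : Type*} {U : Type*} [Group 𝒢] [Field F] [AddCommGroup U] [Module F U]

/-- functions `Q : U → F` polarizing to `β` (over `F₂`: quadratic forms with polar form `β`) -/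
def QF (β : LinearMap.BilinForm F U) : Type _ :=
  {Q : U → F // ∀ x y, Q (x + y) = Q x + Q y + β x y}

instance instFiniteQF [Finite U] [Finite F] (β : LinearMap.BilinForm F U) : Finite (QF β) := by
  unfold QF; infer_instance

/-- the sign character `F₂ → {±1}` -/
noncomputable def chi (a : F) : ℤ := by
  classical exact if a = 0 then 1 else -1

/-- the Gauss sum `∑ₓ (-1)^{Q x}` -/
noncomputable def gsum [Fintype U] {β : LinearMap.BilinForm F U} (Q : QF β) : ℤ :=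
  ∑ x : U, chi (Q.1 x)

/-- `Q` and `Q'` have the same type (sign of the Gauss sum) -/
def SameType [Fintype U] {β : LinearMap.BilinForm F U} (Q Q' : QF β) : Prop :=
  0 < gsum Q ↔ 0 < gsum Q'

namespace SpAct

variable (D : SpAct 𝒢 F U)

/-- `Q' = g • Q`, i.e. `Q' x = Q (g⁻¹ x)` -/
def Moves (g : 𝒢) (Q Q' : QF D.β) : Prop :=
  ∀ x, Q'.1 x = Q.1 (D.ρ g⁻¹ x)

/-- `g • Q = Q` -/
def FixesQ (g : 𝒢) (Q : QF D.β) : Prop :=
  ∀ x, Q.1 (D.ρ g x) = Q.1 x

/-- `t` acts as the transvection `x ↦ x + β(x,u) u` -/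
def ActsTransv (t : 𝒢) (u : U) : Prop :=
  ∀ x, D.ρ t x = x + D.β x u • u

/-- every transvection is realised in `𝒢` -/
def HasTransv : Prop :=
  ∀ u : U, ∃ t : 𝒢, D.ActsTransv t u

/-- `𝒢` is generated by the elements acting as transvections -/
def GenTransv : Prop :=
  ∀ K : Subgroup 𝒢, (∀ t : 𝒢, (∃ u, D.ActsTransv t u) → t ∈ K) → K = ⊤

theorem rho_mul_apply (g h : 𝒢) (x : U) : D.ρ (g * h) x = D.ρ g (D.ρ h x) := by
  rw [map_mul]; rfl

theorem rho_one_apply (x : U) : D.ρ 1 x = x := by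
  rw [map_one]; rfl

theorem rho_inv_apply (g : 𝒢) (x : U) : D.ρ g⁻¹ (D.ρ g x) = x := by
  rw [← rho_mul_apply, inv_mul_cancel, rho_one_apply]

theorem rho_apply_inv (g : 𝒢) (x : U) : D.ρ g (D.ρ g⁻¹ x) = x := by
  rw [← rho_mul_apply, mul_inv_cancel, rho_one_apply]

/-- the action of `𝒢` on `QF β`: `(g • Q) x = Q (g⁻¹ x)` (not an instance; use `letI`) -/
@[reducible] def qfAct : MulAction 𝒢 (QF D.β) where
  smul g Q := ⟨fun x => Q.1 (D.ρ g⁻¹ x), fun x y => by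
    show Q.1 (D.ρ g⁻¹ (x + y)) = Q.1 (D.ρ g⁻¹ x) + Q.1 (D.ρ g⁻¹ y) + D.β x y
    rw [map_add, Q.2, D.pres]⟩
  one_smul Q := by
    apply Subtype.ext
    funext x
    show Q.1 (D.ρ (1 : 𝒢)⁻¹ x) = Q.1 x
    rw [inv_one, rho_one_apply]
  mul_smul g h Q := by
    apply Subtype.ext
    funext x
    show Q.1 (D.ρ (g * h)⁻¹ x) = Q.1 (D.ρ h⁻¹ (D.ρ g⁻¹ x))
    rw [mul_inv_rev, rho_mul_apply]

theorem qfAct_smul_apply (g : 𝒢) (Q : QF D.β) (x : U) :
    (letI := D.qfAct; (g • Q).1 x) = Q.1 (D.ρ g⁻¹ x) := rfl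

/-- the stabilizer of `v` -/
def Pstab (v : U) : Subgroup 𝒢 where
  carrier := {g | D.ρ g v = v}
  mul_mem' {a b} ha hb := by
    show D.ρ (a * b) v = v
    rw [rho_mul_apply, show D.ρ b v = v from hb, show D.ρ a v = v from ha]
  one_mem' := by
    show D.ρ 1 v = v
    rw [rho_one_apply]
  inv_mem' {a} ha := by
    show D.ρ a⁻¹ v = v
    have h : D.ρ a v = v := ha
    calc D.ρ a⁻¹ v = D.ρ a⁻¹ (D.ρ a v) := by rw [h]
      _ = v := rho_inv_apply D a v

theorem mem_Pstab (v : U) (g : 𝒢) : g ∈ D.Pstab v ↔ D.ρ g v = v := Iff.rfl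

/-- the "unipotent radical" of the stabilizer of `v`: elements fixing `v` and acting trivially on
`v^⊥ / ⟨v⟩` (over `F₂`: `g x ∈ {x, x + v}` for `x ⊥ v`). -/
def Qrad (v : U) : Subgroup 𝒢 where
  carrier := {g | D.ρ g v = v ∧ ∀ x, D.β x v = 0 → (D.ρ g x = x ∨ D.ρ g x = x + v)}
  mul_mem' {a b} ha hb := by
    refine ⟨?_, ?_⟩
    · show D.ρ (a * b) v = v
      rw [rho_mul_apply, hb.1, ha.1]
    · intro x hx
      show D.ρ (a * b) x = x ∨ D.ρ (a * b) x = x + v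
      rw [rho_mul_apply]
      rcases hb.2 x hx with h | h
      · rw [h]; exact ha.2 x hx
      · rw [h, map_add, ha.1]
        rcases ha.2 x hx with h' | h'
        · rw [h']; exact Or.inr rfl
        · rw [h']
          left
          rw [add_assoc, D.two v, add_zero]
  one_mem' := by
    refine ⟨rho_one_apply D v, fun x _ => Or.inl (rho_one_apply D x)⟩
  inv_mem' {a} ha := by
    have hv : D.ρ a⁻¹ v = v := by
      calc D.ρ a⁻¹ v = D.ρ a⁻¹ (D.ρ a v) := by rw [ha.1]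
        _ = v := rho_inv_apply D a v
    refine ⟨hv, ?_⟩
    intro x hx
    rcases ha.2 x hx with h | h
    · left
      calc D.ρ a⁻¹ x = D.ρ a⁻¹ (D.ρ a x) := by rw [h]
        _ = x := rho_inv_apply D a x
    · right
      have h1 : D.ρ a⁻¹ (x + v) = x := by
        rw [← h]; exact rho_inv_apply D a x
      rw [map_add, hv] at h1
      calc D.ρ a⁻¹ x = D.ρ a⁻¹ x + v + v := by rw [add_assoc, D.two v, add_zero]
        _ = x + v := by rw [h1]

theorem mem_Qrad (v : U) (g : 𝒢) :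
    g ∈ D.Qrad v ↔ D.ρ g v = v ∧ ∀ x, D.β x v = 0 → (D.ρ g x = x ∨ D.ρ g x = x + v) := Iff.rfl

theorem Qrad_le_Pstab (v : U) : D.Qrad v ≤ D.Pstab v := fun _ hg => hg.1

/-- `W = ⟨v, vs⟩^⊥` -/
def WSub (v vs : U) : Submodule F U where
  carrier := {x | D.β x v = 0 ∧ D.β x vs = 0}
  add_mem' {a b} ha hb := by
    refine ⟨?_, ?_⟩
    · show D.β (a + b) v = 0
      rw [map_add, LinearMap.add_apply, ha.1, hb.1, add_zero]
    · show D.β (a + b) vs = 0
      rw [map_add, LinearMap.add_apply, ha.2, hb.2, add_zero]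
  zero_mem' := by
    refine ⟨?_, ?_⟩
    · show D.β 0 v = 0
      simp
    · show D.β 0 vs = 0
      simp
  smul_mem' c x hx := by
    refine ⟨?_, ?_⟩
    · show D.β (c • x) v = 0
      rw [map_smul, LinearMap.smul_apply, hx.1, smul_zero]
    · show D.β (c • x) vs = 0
      rw [map_smul, LinearMap.smul_apply, hx.2, smul_zero]

theorem mem_WSub (v vs x : U) : x ∈ D.WSub v vs ↔ D.β x v = 0 ∧ D.β x vs = 0 := Iff.rfl

/-- `DW` is the induced action of the stabilizer of `v` on `W = ⟨v, vs⟩^⊥`: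
`p ⬝ w = p w + β(p w, vs) v`, with the restricted form. -/
def IsInduced (v vs : U) (DW : SpAct ↥(D.Pstab v) F ↥(D.WSub v vs)) : Prop :=
  (∀ w w' : ↥(D.WSub v vs), DW.β w w' = D.β (w : U) (w' : U)) ∧
  (∀ (p : ↥(D.Pstab v)) (w : ↥(D.WSub v vs)),
    ((DW.ρ p w : ↥(D.WSub v vs)) : U) = D.ρ (p : 𝒢) (w : U) + D.β (D.ρ (p : 𝒢) (w : U)) vs • v)

/-- Heisenberg-type parametrization of `Qrad v`: `γ (w, t) : x ↦ x + β(x,v) w + β(x,w) v + t β(x,v) v`. -/
def IsParam (v vs : U) (γ : ↥(D.WSub v vs) × F → 𝒢) : Prop :=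
  (∀ (w : ↥(D.WSub v vs)) (t : F) (x : U),
    D.ρ (γ (w, t)) x = x + D.β x v • (w : U) + D.β x (w : U) • v + (t * D.β x v) • v) ∧
  (∀ g : 𝒢, g ∈ D.Qrad v ↔ ∃ w t, g = γ (w, t))

/-- the consequences of `IsParam` + faithfulness used by the geometric packages -/
def ParamProps (v vs : U) (γ : ↥(D.WSub v vs) × F → 𝒢)
    (DW : SpAct ↥(D.Pstab v) F ↥(D.WSub v vs)) : Prop :=
  (∀ (w : ↥(D.WSub v vs)) (t : F) (w' : ↥(D.WSub v vs)) (t' : F),
    γ (w, t) * γ (w', t') = γ (w + w', t + t' + D.β (w : U) (w' : U))) ∧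
  Function.Injective γ ∧
  (∀ (p : ↥(D.Pstab v)) (w : ↥(D.WSub v vs)) (t : F),
    (p : 𝒢) * γ (w, t) * (p : 𝒢)⁻¹ = γ (DW.ρ p w, t)) ∧
  D.ActsTransv (γ (0, 1)) v ∧
  (∀ a ∈ D.Qrad v, ∀ b ∈ D.Qrad v, a * b = b * a) ∧
  Nat.card ↥(D.Qrad v) = 2 * Nat.card ↥(D.WSub v vs)

end SpAct

end Cfsg.Agent.Lib.Helper85_Sp2Defs
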