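import Mathlib
import Cfsg.Agent.Lib.Helper85_Sp2Defs

/-!
# Helper85_Sp2Basic: basic lemmas for S2142 (shared by the packages)
-/

set_option autoImplicit false

namespace Cfsg.Agent.Lib.Helper85_Sp2Basic

open Cfsg.Agent.Lib.Helper85_Sp2Defs

variable {𝒢 : Type*} {F : Type*} {U : Type*} [Group 𝒢] [Field F] [AddCommGroup U] [Module F U]

/-- a field with two elements: every element is `0` or `1` -/
theorem F2_cases [Fintype F] (hF : Fintype.card F = 2) (a : F) : a = 0 ∨ a = 1 := by
  classical
  by_contra hcon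
  push Not at hcon
  have h3 : ({0, 1, a} : Finset F).card = 3 := by
    rw [Finset.card_insert_of_notMem, Finset.card_insert_of_notMem, Finset.card_singleton]
    · simpa using hcon.2.symm
    · simp only [Finset.mem_insert, Finset.mem_singleton, not_or]
      exact ⟨zero_ne_one, hcon.1.symm⟩
  have := Finset.card_le_univ ({0, 1, a} : Finset F)
  omega

theorem F2_add_self [Fintype F] (hF : Fintype.card F = 2) (a : F) : a + a = 0 := by
  have h11 : (1 : F) + 1 = 0 := by
    rcases F2_cases hF ((1 : F) + 1) with h | h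
    · exact h
    · exfalso
      have : (1 : F) = 0 := by
        have := congrArg (fun z => z - 1) h
        simpa using this
      exact one_ne_zero this
  rcases F2_cases hF a with rfl | rfl
  · simp
  · exact h11

theorem F2_mul_self [Fintype F] (hF : Fintype.card F = 2) (a : F) : a * a = a := by
  rcases F2_cases hF a with rfl | rfl <;> simp

theorem F2_ne_zero [Fintype F] (hF : Fintype.card F = 2) {a : F} (h : a ≠ 0) : a = 1 :=
  (F2_cases hF a).resolve_left h

theorem F2_neg [Fintype F] (hF : Fintype.card F = 2) (a : F) : -a = a := by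
  have := F2_add_self hF a
  exact neg_eq_of_add_eq_zero_left this

section QFlemmas

variable [Fintype U]

theorem sameType_refl {β : LinearMap.BilinForm F U} (Q : QF β) : SameType Q Q := Iff.rfl

theorem sameType_symm {β : LinearMap.BilinForm F U} {Q Q' : QF β} (h : SameType Q Q') :
    SameType Q' Q := Iff.symm h

theorem sameType_trans {β : LinearMap.BilinForm F U} {Q Q' Q'' : QF β} (h : SameType Q Q')
    (h' : SameType Q' Q'') : SameType Q Q'' := Iff.trans h h'

/-- `gsum` is invariant under the action. -/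
theorem gsum_eq_of_moves (D : SpAct 𝒢 F U) (g : 𝒢) (Q Q' : QF D.β) (h : D.Moves g Q Q') :
    gsum Q' = gsum Q := by
  unfold gsum
  let e : U ≃ U :=
    { toFun := fun x => D.ρ g⁻¹ x
      invFun := fun x => D.ρ g x
      left_inv := fun x => by simpa using D.rho_apply_inv g x
      right_inv := fun x => by simpa using D.rho_inv_apply g x }
  rw [← Equiv.sum_comp e (fun x => chi (Q.1 x))]
  refine Finset.sum_congr rfl fun x _ => ?_
  rw [h x]; rfl

theorem sameType_of_moves (D : SpAct 𝒢 F U) (g : 𝒢) (Q Q' : QF D.β) (h : D.Moves g Q Q') :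
    SameType Q Q' := by
  unfold SameType
  rw [gsum_eq_of_moves D g Q Q' h]

end QFlemmas

/-- the translate `Q + β(·,u)` of a form -/
def translate (D : SpAct 𝒢 F U) (Q : QF D.β) (u : U) : QF D.β :=
  ⟨fun x => Q.1 x + D.β x u, fun x y => by
    show Q.1 (x + y) + D.β (x + y) u = Q.1 x + D.β x u + (Q.1 y + D.β y u) + D.β x y
    rw [Q.2, map_add, LinearMap.add_apply]
    ring⟩

theorem translate_apply (D : SpAct 𝒢 F U) (Q : QF D.β) (u x : U) :
    (translate D Q u).1 x = Q.1 x + D.β x u := rfl

theorem QF_zero (D : SpAct 𝒢 F U) (Q : QF D.β) : Q.1 0 = 0 := by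
  have h := Q.2 0 0
  simp only [add_zero, map_zero, LinearMap.zero_apply] at h
  have : Q.1 0 + Q.1 0 - Q.1 0 = Q.1 0 - Q.1 0 := by rw [← h]
  simpa using this

/-- `β` is symmetric (alternating in characteristic 2) -/
theorem beta_symm [Fintype F] (hF : Fintype.card F = 2) (D : SpAct 𝒢 F U) (x y : U) :
    D.β x y = D.β y x := by
  have h := D.alt (x + y)
  simp only [map_add, LinearMap.add_apply, D.alt, zero_add, add_zero] at h
  have h2 : D.β x y = -D.β y x := eq_neg_of_add_eq_zero_left (by rw [add_comm]; exact h)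
  rw [h2, F2_neg hF]

/-- the composition rule for `Moves` -/
theorem moves_mul (D : SpAct 𝒢 F U) (g h : 𝒢) (Q Q' Q'' : QF D.β) (h1 : D.Moves h Q Q')
    (h2 : D.Moves g Q' Q'') : D.Moves (g * h) Q Q'' := by
  intro x
  rw [h2 x, h1, mul_inv_rev, D.rho_mul_apply]

theorem moves_one (D : SpAct 𝒢 F U) (Q : QF D.β) : D.Moves 1 Q Q := by
  intro x
  rw [inv_one, D.rho_one_apply]

theorem moves_smul (D : SpAct 𝒢 F U) (g : 𝒢) (Q : QF D.β) :
    D.Moves g Q (letI := D.qfAct; g • Q) := fun _ => rfl

theorem fixesQ_iff_moves (D : SpAct 𝒢 F U) (g : 𝒢) (Q : QF D.β) :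
    D.FixesQ g Q ↔ D.Moves g Q Q := by
  constructor
  · intro h x
    have := h (D.ρ g⁻¹ x)
    rw [D.rho_apply_inv] at this
    exact this
  · intro h x
    have := h (D.ρ g x)
    rw [D.rho_inv_apply] at this
    exact this

/-- a nonzero vector has a partner -/
theorem exists_partner [Fintype F] (hF : Fintype.card F = 2) (D : SpAct 𝒢 F U) (v : U)
    (hv : v ≠ 0) : ∃ vs : U, D.β v vs = 1 := by
  by_contra hcon
  push Not at hcon
  apply hv
  apply D.nondeg
  intro y
  rcases F2_cases hF (D.β v y) with h | h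
  · exact h
  · exact absurd h (hcon y)

/-- conjugation equivariance of `Qrad` -/
theorem Qrad_conj (D : SpAct 𝒢 F U) (v : U) (g q : 𝒢) (hq : q ∈ D.Qrad v) :
    g * q * g⁻¹ ∈ D.Qrad (D.ρ g v) := by
  rw [D.mem_Qrad] at hq ⊢
  refine ⟨?_, ?_⟩
  · rw [D.rho_mul_apply, D.rho_mul_apply, D.rho_inv_apply, hq.1]
  · intro x hx
    have hx' : D.β (D.ρ g⁻¹ x) v = 0 := by
      have := D.pres g (D.ρ g⁻¹ x) v
      rw [D.rho_apply_inv] at this
      rw [← this]; exact hx
    rw [D.rho_mul_apply, D.rho_mul_apply]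
    rcases hq.2 _ hx' with h | h
    · left; rw [h, D.rho_apply_inv]
    · right; rw [h, map_add, D.rho_apply_inv]

/-- additive endomorphisms commute with `F₂`-scalars -/
theorem rho_smul [Fintype F] (hF : Fintype.card F = 2) (D : SpAct 𝒢 F U) (g : 𝒢) (a : F) (x : U) :
    D.ρ g (a • x) = a • D.ρ g x := by
  rcases F2_cases hF a with rfl | rfl
  · simp
  · simp

/-- an element acting as a transvection is conjugated to one acting as the image transvection -/
theorem actsTransv_conj [Fintype F] (hF : Fintype.card F = 2) (D : SpAct 𝒢 F U) (g t : 𝒢) (u : U)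
    (ht : D.ActsTransv t u) : D.ActsTransv (g * t * g⁻¹) (D.ρ g u) := by
  intro x
  rw [D.rho_mul_apply, D.rho_mul_apply, ht, map_add, D.rho_apply_inv]
  congr 1
  have h1 : D.β (D.ρ g⁻¹ x) u = D.β x (D.ρ g u) := by
    have := D.pres g (D.ρ g⁻¹ x) u
    rw [D.rho_apply_inv] at this
    exact this.symm
  rw [h1, rho_smul hF]

/-- M0: a proper subgroup transitive on nonzero vectors contains no element acting as a
nontrivial transvection. -/
theorem no_transv [Fintype F] (hF : Fintype.card F = 2) (D : SpAct 𝒢 F U)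
    (hinj : Function.Injective D.ρ) (hgen : D.GenTransv)
    (H : Subgroup 𝒢) (hH : H ≠ ⊤)
    (htrans : ∀ x y : U, x ≠ 0 → y ≠ 0 → ∃ h ∈ H, D.ρ h x = y) :
    ∀ t ∈ H, ∀ u : U, u ≠ 0 → ¬ D.ActsTransv t u := by
  intro t ht u hu hact
  apply hH
  apply hgen
  rintro t' ⟨u', hu'⟩
  by_cases h0 : u' = 0
  · -- t' acts trivially
    have : t' = 1 := by
      apply hinj
      ext x
      rw [hu' x, h0, smul_zero, add_zero, D.rho_one_apply]
    rw [this]; exact H.one_mem
  · obtain ⟨h, hh, hhu⟩ := htrans u u' hu h0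
    have hc := actsTransv_conj hF D h t u hact
    rw [hhu] at hc
    have : t' = h * t * h⁻¹ := by
      apply hinj
      ext x
      rw [hu' x, hc x]
    rw [this]
    exact H.mul_mem (H.mul_mem hh ht) (H.inv_mem hh)

end Cfsg.Agent.Lib.Helper85_Sp2Basic
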