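import Mathlib
import Cfsg.Agent.Lib.Helper85_Sp2Defs
import Cfsg.Agent.Lib.Helper85_Sp2Basic
import Cfsg.Prelude.Def_Classical

/-!
# S2142-DIFF (architect helper85; author helper10): `QF β` is a torsor under `U`.
-/

set_option autoImplicit false

namespace Cfsg.Agent.Lib.Helper10_Sp2_DIFF

open Cfsg.Agent.Lib.Helper85_Sp2Defs Cfsg.Agent.Lib.Helper85_Sp2Basic

variable {𝒢 : Type*} {F : Type*} {U : Type*} [Group 𝒢] [Field F] [Fintype F]
  [AddCommGroup U] [Module F U] [Fintype U]

theorem exists_diff (hF : Fintype.card F = 2) (D : SpAct 𝒢 F U) (Q Q' : QF D.β) :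
    ∃ u : U, ∀ x, Q'.1 x = Q.1 x + D.β x u := by
  -- the difference is a linear functional
  let δ : U →ₗ[F] F :=
    { toFun := fun x => Q'.1 x - Q.1 x
      map_add' := fun x y => by
        show Q'.1 (x + y) - Q.1 (x + y) = (Q'.1 x - Q.1 x) + (Q'.1 y - Q.1 y)
        rw [Q'.2, Q.2]; ring
      map_smul' := fun a x => by
        show Q'.1 (a • x) - Q.1 (a • x) = (RingHom.id F) a • (Q'.1 x - Q.1 x)
        rcases F2_cases hF a with rfl | rfl
        · simp [QF_zero D Q, QF_zero D Q']
        · simp }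
  have hfin : Module.Finite F U := Module.Finite.of_finite
  have hinj : Function.Injective (D.β : U →ₗ[F] Module.Dual F U) := by
    rw [← LinearMap.ker_eq_bot, Submodule.eq_bot_iff]
    intro x hx
    apply D.nondeg x
    intro y
    rw [LinearMap.mem_ker] at hx
    rw [hx]
    rfl
  have hsurj : Function.Surjective (D.β : U →ₗ[F] Module.Dual F U) :=
    (LinearMap.injective_iff_surjective_of_finrank_eq_finrank
      (Subspace.dual_finrank_eq (K := F) (V := U)).symm).mp hinj
  obtain ⟨u, hu⟩ := hsurj δ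
  refine ⟨u, fun x => ?_⟩
  have h1 : D.β u x = Q'.1 x - Q.1 x := by
    rw [hu]; rfl
  rw [beta_symm hF D x u, h1]
  ring

end Cfsg.Agent.Lib.Helper10_Sp2_DIFF
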