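import Mathlib
import Cfsg.Agent.Lib.Helper85_Sp2Defs
import Cfsg.Agent.Lib.Helper85_Sp2Basic
import Cfsg.Prelude.Def_Classical

/-!
# S2142-PAR2 (architect helper85; author helper10): consequences of the Heisenberg parametrization.
-/

set_option autoImplicit false
set_option linter.unusedSectionVars false
set_option linter.unusedSimpArgs false

namespace Cfsg.Agent.Lib.Helper10_Sp2_PAR2

open Cfsg.Agent.Lib.Helper85_Sp2Defs Cfsg.Agent.Lib.Helper85_Sp2Basic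

variable {𝒢 : Type*} {F : Type*} {U : Type*} [Group 𝒢] [Field F] [Fintype F]
  [AddCommGroup U] [Module F U] [Fintype U]

theorem bW_v (D : SpAct 𝒢 F U) (v vs : U) (w : ↥(D.WSub v vs)) : D.β (w : U) v = 0 := w.2.1

theorem bW_vs (D : SpAct 𝒢 F U) (v vs : U) (w : ↥(D.WSub v vs)) : D.β (w : U) vs = 0 := w.2.2

theorem bv_W (hF : Fintype.card F = 2) (D : SpAct 𝒢 F U) (v vs : U) (w : ↥(D.WSub v vs)) :
    D.β v (w : U) = 0 := by rw [beta_symm hF D]; exact w.2.1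

theorem bvs_W (hF : Fintype.card F = 2) (D : SpAct 𝒢 F U) (v vs : U) (w : ↥(D.WSub v vs)) :
    D.β vs (w : U) = 0 := by rw [beta_symm hF D]; exact w.2.2

/-- the multiplication law -/
theorem mul_law (hF : Fintype.card F = 2) (D : SpAct 𝒢 F U)
    (hinj : Function.Injective D.ρ) (v vs : U)
    (γ : ↥(D.WSub v vs) × F → 𝒢) (hγ : D.IsParam v vs γ)
    (w : ↥(D.WSub v vs)) (t : F) (w' : ↥(D.WSub v vs)) (t' : F) :
    γ (w, t) * γ (w', t') = γ (w + w', t + t' + D.β (w : U) (w' : U)) := by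
  apply hinj
  ext x
  rw [D.rho_mul_apply, hγ.1 w' t' x, hγ.1 (w + w') _ x]
  obtain ⟨x', hx'⟩ : ∃ x' : U, x' = x + D.β x v • (w' : U) + D.β x (w' : U) • v +
    (t' * D.β x v) • v := ⟨_, rfl⟩
  rw [← hx', hγ.1 w t x']
  have e1 : D.β x' v = D.β x v := by
    rw [hx']
    simp only [map_add, map_smul, LinearMap.add_apply, LinearMap.smul_apply, smul_eq_mul, D.alt,
      bW_v, mul_zero, add_zero]
  have e2 : D.β x' (w : U) = D.β x (w : U) + D.β x v * D.β (w' : U) (w : U) := by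
    rw [hx']
    simp only [map_add, map_smul, LinearMap.add_apply, LinearMap.smul_apply, smul_eq_mul,
      bv_W hF, mul_zero, add_zero]
  rw [e1, e2, hx', beta_symm hF D (w' : U) (w : U)]
  simp only [Submodule.coe_add, map_add]
  module

/-- `γ` is injective -/
theorem gamma_injective (hF : Fintype.card F = 2) (D : SpAct 𝒢 F U) (v vs : U)
    (hvs : D.β v vs = 1)
    (γ : ↥(D.WSub v vs) × F → 𝒢) (hγ : D.IsParam v vs γ) : Function.Injective γ := by
  rintro ⟨w, t⟩ ⟨w', t'⟩ h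
  have h1 : D.ρ (γ (w, t)) vs = D.ρ (γ (w', t')) vs := by rw [h]
  have hvsv : D.β vs v = 1 := by rw [beta_symm hF D]; exact hvs
  rw [hγ.1 w t vs, hγ.1 w' t' vs, hvsv, bvs_W hF, bvs_W hF] at h1
  simp only [one_smul, zero_smul, add_zero, mul_one] at h1
  have h2 : (w : U) + t • v = (w' : U) + t' • v := by
    have := congrArg (fun z => z - vs) h1
    have e1 : vs + (w : U) + t • v - vs = (w : U) + t • v := by abel
    have e2 : vs + (w' : U) + t' • v - vs = (w' : U) + t' • v := by abel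
    show (w : U) + t • v = (w' : U) + t' • v
    rw [← e1, ← e2]
    exact this
  have h3 : t = t' := by
    have := congrArg (fun z => D.β z vs) h2
    simp only [map_add, map_smul, LinearMap.add_apply, LinearMap.smul_apply, smul_eq_mul,
      bW_vs, hvs, mul_one, zero_add] at this
    exact this
  have h4 : (w : U) = (w' : U) := by
    rw [h3] at h2
    exact add_right_cancel h2
  rw [Subtype.ext h4, h3]

/-- the conjugation law -/
theorem conj_law (hF : Fintype.card F = 2) (D : SpAct 𝒢 F U)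
    (hinj : Function.Injective D.ρ) (v vs : U)
    (γ : ↥(D.WSub v vs) × F → 𝒢) (hγ : D.IsParam v vs γ)
    (DW : SpAct ↥(D.Pstab v) F ↥(D.WSub v vs)) (hDW : D.IsInduced v vs DW)
    (p : ↥(D.Pstab v)) (w : ↥(D.WSub v vs)) (t : F) :
    (p : 𝒢) * γ (w, t) * (p : 𝒢)⁻¹ = γ (DW.ρ p w, t) := by
  apply hinj
  ext x
  have hpv : D.ρ (p : 𝒢) v = v := p.2
  rw [D.rho_mul_apply, D.rho_mul_apply, hγ.1 w t, hγ.1 (DW.ρ p w) t x, hDW.2 p w]
  obtain ⟨y, hy⟩ : ∃ y : U, y = D.ρ (p : 𝒢)⁻¹ x := ⟨_, rfl⟩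
  have hpy : D.ρ (p : 𝒢) y = x := by rw [hy, D.rho_apply_inv]
  rw [← hy]
  have e1 : D.β y v = D.β x v := by
    rw [← hpy, ← D.pres (p : 𝒢) y v, hpv]
  have e2 : D.β y (w : U) = D.β x (D.ρ (p : 𝒢) (w : U)) := by
    rw [← hpy, D.pres (p : 𝒢) y (w : U)]
  simp only [map_add, rho_smul hF D, hpy, hpv, e1, e2, LinearMap.add_apply, map_smul,
    LinearMap.smul_apply, smul_eq_mul]
  have h2 : ∀ c : F, c • v + c • v = 0 := fun c => D.two _
  have key := h2 (D.β x v * D.β (D.ρ (p : 𝒢) (w : U)) vs)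
  obtain ⟨a, ha⟩ : ∃ a : F, a = D.β x v := ⟨_, rfl⟩
  obtain ⟨e, he⟩ : ∃ e : F, e = D.β (D.ρ (p : 𝒢) (w : U)) vs := ⟨_, rfl⟩
  obtain ⟨b, hb⟩ : ∃ b : F, b = D.β x (D.ρ (p : 𝒢) (w : U)) := ⟨_, rfl⟩
  obtain ⟨z, hz⟩ : ∃ z : U, z = D.ρ (p : 𝒢) (w : U) := ⟨_, rfl⟩
  rw [← ha, ← he] at key
  rw [← ha, ← he, ← hb, ← hz]
  have : x + a • (z + e • v) + (b + e * a) • v + (t * a) • v =
      x + a • z + b • v + (t * a) • v + ((a * e) • v + (a * e) • v) := by module
  rw [this, key, add_zero]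

theorem param_props (hF : Fintype.card F = 2) (D : SpAct 𝒢 F U)
    (hinj : Function.Injective D.ρ) (v vs : U) (hvs : D.β v vs = 1)
    (γ : ↥(D.WSub v vs) × F → 𝒢) (hγ : D.IsParam v vs γ)
    (DW : SpAct ↥(D.Pstab v) F ↥(D.WSub v vs)) (hDW : D.IsInduced v vs DW) :
    D.ParamProps v vs γ DW := by
  refine ⟨mul_law hF D hinj v vs γ hγ, gamma_injective hF D v vs hvs γ hγ,
    conj_law hF D hinj v vs γ hγ DW hDW, ?_, ?_, ?_⟩
  · intro x
    rw [hγ.1 0 1 x]
    simp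
  · intro a ha b hb
    obtain ⟨w, t, rfl⟩ := (hγ.2 a).mp ha
    obtain ⟨w', t', rfl⟩ := (hγ.2 b).mp hb
    rw [mul_law hF D hinj v vs γ hγ, mul_law hF D hinj v vs γ hγ, add_comm w w', add_comm t t',
      beta_symm hF D (w : U) (w' : U)]
  · have hγinj := gamma_injective hF D v vs hvs γ hγ
    let e : ↥(D.WSub v vs) × F ≃ ↥(D.Qrad v) :=
      Equiv.ofBijective (fun z => ⟨γ z, (hγ.2 _).mpr ⟨z.1, z.2, rfl⟩⟩)
        ⟨fun z z' h => hγinj (congrArg Subtype.val h), fun g => by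
          obtain ⟨w, t, hg⟩ := (hγ.2 g.1).mp g.2
          exact ⟨(w, t), Subtype.ext hg.symm⟩⟩
    rw [← Nat.card_congr e, Nat.card_prod, Nat.card_eq_fintype_card (α := F), hF, mul_comm]

end Cfsg.Agent.Lib.Helper10_Sp2_PAR2
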