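import Mathlib
import Cfsg.Agent.Lib.Helper98_ExtDefs
import Cfsg.Agent.Lib.Helper94_Symp

set_option autoImplicit false

/-!
# S5664 (maximality of `N_Sp(K)`, `K` a self-adjoint extension field of prime degree): shared
definitions.

Abstract setting: `F ⊆ K` finite fields, `V` a `K`-vector space with a nondegenerate alternating
`K`-bilinear form `B`; `trForm B = Tr_{K/F} ∘ B` is a nondegenerate alternating `F`-bilinear form.
`M` is a subgroup of `Sp_F(V, trForm B)` containing `Sp_K(V, B)`.

* `trForm B` : the `F`-bilinear form `Tr ∘ B`.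
* `SpIso B M` : `M ≤ Sp_F(V, trForm B)`.
* `SHyp B M` : `M` contains (the restriction of scalars of) every `K`-linear isometry of `B`.
* `KtvSp`, `SiegSp` : `M` contains the `K`-symplectic transvections / the `K`-Siegel elements.
* `Rigid` : output of the maximal-intersection argument.
* `Star` : the configuration from which an `F`-transvection is produced.
* `HasStv`, `AllStv` : `M` contains one nontrivial / all symplectic `F`-transvections.
-/

namespace Cfsg.Agent.Lib.Helper98_SpExtDefs

open Cfsg.Agent.Lib.Helper98_ExtDefs Cfsg.Agent.Lib.Helper94_Symp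

variable {F K V : Type*} [Field F] [Field K] [Algebra F K]
  [AddCommGroup V] [Module F V] [Module K V] [IsScalarTower F K V]

/-- the `F`-bilinear form `Tr_{K/F} ∘ B` -/
noncomputable def trForm (B : LinearMap.BilinForm K V) : LinearMap.BilinForm F V :=
  LinearMap.mk₂ F (fun x y => Algebra.trace F K (B x y))
    (fun x x' y => by simp only [map_add, LinearMap.add_apply])
    (fun c x y => by
      rw [← algebraMap_smul K c x, map_smul, LinearMap.smul_apply, smul_eq_mul, ← Algebra.smul_def,
        map_smul, smul_eq_mul])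
    (fun x y y' => by simp only [map_add])
    (fun c x y => by
      rw [← algebraMap_smul K c y, map_smul, smul_eq_mul, ← Algebra.smul_def,
        map_smul, smul_eq_mul])

theorem trForm_apply (B : LinearMap.BilinForm K V) (x y : V) :
    trForm (F := F) B x y = Algebra.trace F K (B x y) := rfl

theorem trForm_isAlt {B : LinearMap.BilinForm K V} (hB : B.IsAlt) : (trForm (F := F) B).IsAlt := by
  intro x
  rw [trForm_apply, hB x, map_zero]

/-- `K` is self-adjoint for `trForm B` -/
theorem trForm_smul_left (B : LinearMap.BilinForm K V) (κ : K) (x y : V) :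
    trForm (F := F) B (κ • x) y = trForm (F := F) B x (κ • y) := by
  rw [trForm_apply, trForm_apply, LinearMap.map_smul₂, (B x).map_smul]

/-- `M` consists of isometries of `Tr ∘ B` -/
def SpIso (B : LinearMap.BilinForm K V) (M : Subgroup (V ≃ₗ[F] V)) : Prop :=
  M ≤ isoGroup (trForm (F := F) B)

/-- `M` contains every `K`-linear isometry of `B` -/
def SHyp (B : LinearMap.BilinForm K V) (M : Subgroup (V ≃ₗ[F] V)) : Prop :=
  ∀ g ∈ isoGroup B, g.restrictScalars F ∈ M

/-- `M` contains the `K`-symplectic transvections `x ↦ x + κ B(x,w) w` -/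
def KtvSp (B : LinearMap.BilinForm K V) (M : Subgroup (V ≃ₗ[F] V)) : Prop :=
  ∀ (w : V) (κ : K), HasMap M (fun x => x + (κ * B x w) • w)

/-- `M` contains the `K`-Siegel elements `x ↦ x + B(x,w') w + B(x,w) w'`, `B(w,w') = 0` -/
def SiegSp (B : LinearMap.BilinForm K V) (M : Subgroup (V ≃ₗ[F] V)) : Prop :=
  ∀ (w w' : V), B w w' = 0 → HasMap M (fun x => x + B x w' • w + B x w • w')

/-- Output of the maximal-intersection argument for `t' = y (K v₁)` and the `K`-line `K δ`:
an element of `M` fixing `K δ` pointwise either stabilises `t'` or maps no point of `t' \ K δ`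
into `t'`. -/
def Rigid (K : Type*) {F V : Type*} [Field F] [Field K] [Algebra F K] [AddCommGroup V] [Module F V]
    [Module K V] [IsScalarTower F K V] (M : Subgroup (V ≃ₗ[F] V)) (y : V ≃ₗ[F] V) (v₁ δ : V) : Prop :=
  ∀ x ∈ M, (∀ z ∈ kline F K V δ, x z = z) →
    (∀ u ∈ tsp F K V y v₁, x u ∈ tsp F K V y v₁) ∨
    (∀ u ∈ tsp F K V y v₁, x u ∈ tsp F K V y v₁ → u ∈ kline F K V δ)

/-- The configuration from which a transvection is produced: an `F`-linear functional `ν`, nonzero
on `t`, with `ker ν ∩ t = t ∩ K δ`, such that for every `δ' ∈ t ∩ K δ` some element of `M` acts on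
`t` as `u ↦ u + ν(u) δ'`. -/
def Star (K : Type*) {F V : Type*} [Field F] [Field K] [Algebra F K] [AddCommGroup V] [Module F V]
    [Module K V] [IsScalarTower F K V] (M : Subgroup (V ≃ₗ[F] V)) (t : Submodule F V) (δ : V) : Prop :=
  ∃ ν : V →ₗ[F] F, (∃ u ∈ t, ν u ≠ 0) ∧ (∀ u ∈ t, ν u = 0 ↔ u ∈ kline F K V δ) ∧
    ∀ δ' ∈ t, δ' ∈ kline F K V δ → ∃ x ∈ M, ∀ u ∈ t, x u = u + ν u • δ'

/-- `M` contains a nontrivial symplectic `F`-transvection -/
def HasStv (B : LinearMap.BilinForm K V) (M : Subgroup (V ≃ₗ[F] V)) : Prop :=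
  ∃ (v : V) (γ : F), v ≠ 0 ∧ γ ≠ 0 ∧ HasMap M (fun x => x + (γ * trForm (F := F) B x v) • v)

/-- `M` contains all symplectic `F`-transvections -/
def AllStv (B : LinearMap.BilinForm K V) (M : Subgroup (V ≃ₗ[F] V)) : Prop :=
  ∀ (v : V) (β : F), HasMap M (fun x => x + (β * trForm (F := F) B x v) • v)

/-- the map `x ↦ f(x,a) b + f(x,b) a` -/
def hyp2 {F V : Type*} [Field F] [AddCommGroup V] [Module F V] (f : LinearMap.BilinForm F V)
    (a b : V) : V → V := fun x => f x a • b + f x b • a

/-- the map `x ↦ x + f(x,u) u` -/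
def tvF {F V : Type*} [Field F] [AddCommGroup V] [Module F V] (f : LinearMap.BilinForm F V)
    (u : V) : V → V := fun x => x + f x u • u

end Cfsg.Agent.Lib.Helper98_SpExtDefs
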