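import Mathlib
import Cfsg.Agent.Lib.Helper98_SpExtDefs

/-!
# S5664 package ALT (architect helper98): in characteristic 2, a self-adjoint endomorphism with image
in `ℓ` and zero "diagonal" is a sum of maps `hyp2 a b`, `a b ∈ ℓ`.  Pure linear algebra.
-/

set_option autoImplicit false

namespace Cfsg.Agent.Lib.Helper10_SpExt_ALT

open Cfsg.Agent.Lib.Helper98_SpExtDefs

/-- **ALT** (M).  Characteristic 2: a self-adjoint endomorphism with image in `ℓ` and zero
"diagonal" is a sum of maps `hyp2 a b`, `a b ∈ ℓ`.  Pure linear algebra. -/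
theorem ALT {F V : Type*} [Field F] [AddCommGroup V] [Module F V] [FiniteDimensional F V]
    (h2 : (2 : F) = 0) (f : LinearMap.BilinForm F V) (hf : f.IsAlt) (hfn : f.Nondegenerate)
    (ℓ : Submodule F V) (g : V →ₗ[F] V) (hgl : ∀ v, g v ∈ ℓ)
    (hsym : ∀ u v, f (g u) v = f u (g v)) (hdiag : ∀ u, f u (g u) = 0) :
    ∃ L : List (V × V), (∀ p ∈ L, p.1 ∈ ℓ ∧ p.2 ∈ ℓ) ∧
      ∀ x, g x = (L.map (fun p => hyp2 f p.1 p.2 x)).sum := by
  classical
  have hneg : ∀ z : F, -z = z := by
    intro z
    have h : z + z = 0 := by rw [← two_mul, h2, zero_mul]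
    exact neg_eq_of_add_eq_zero_left h
  have hsw : ∀ a b : V, f a b = f b a := by
    intro a b
    rw [← hf.neg_eq b a, hneg]
  obtain ⟨n, hn⟩ : ∃ n : ℕ, n = Module.finrank F ℓ := ⟨_, rfl⟩
  let e : Module.Basis (Fin n) F ℓ := (Module.finBasis F ℓ).reindex (finCongr hn.symm)
  have hext : ∀ i, ∃ φ : V →ₗ[F] F, φ.comp ℓ.subtype = e.coord i :=
    fun i => LinearMap.exists_extend (e.coord i)
  choose φ hφ using hext
  let d : Fin n → V := fun i => (f.toDual hfn).symm (φ i)
  let E : Fin n → V := fun i => (e i : V)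
  have hEl : ∀ i, E i ∈ ℓ := fun i => (e i).2
  have hd : ∀ i (y : ℓ), f (d i) (y : V) = e.repr y i := by
    intro i y
    show f ((f.toDual hfn).symm (φ i)) (y : V) = _
    rw [LinearMap.BilinForm.apply_toDual_symm_apply]
    have := LinearMap.congr_fun (hφ i) y
    simpa using this
  have hexp : ∀ y : ℓ, (y : V) = ∑ j, f (d j) (y : V) • E j := by
    intro y
    have h := congrArg Subtype.val (e.sum_repr y)
    rw [← h]
    simp only [hd, E]
    rw [Submodule.coe_sum]
    simp
  -- the coefficient matrix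
  let s : Fin n → Fin n → F := fun i j => f (d i) (g (d j))
  have hs_symm : ∀ i j, s i j = s j i := by
    intro i j
    show f (d i) (g (d j)) = f (d j) (g (d i))
    rw [← hsym (d i) (d j), hsw]
  have hs_diag : ∀ i, s i i = 0 := fun i => hdiag (d i)
  let c : Fin n → Fin n → F := fun i j => if i < j then s i j else 0
  have hc : ∀ i j, c i j + c j i = s i j := by
    intro i j
    show (if i < j then s i j else 0) + (if j < i then s j i else 0) = s i j
    rcases lt_trichotomy i j with h | h | h
    · rw [if_pos h, if_neg (not_lt.mpr h.le), add_zero]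
    · subst h
      rw [if_neg (lt_irrefl _), add_zero, hs_diag]
    · rw [if_neg (not_lt.mpr h.le), if_pos h, zero_add, hs_symm]
  -- expansion of `g`
  have hgd : ∀ j, g (d j) = ∑ i, s i j • E i := by
    intro j
    exact hexp ⟨g (d j), hgl _⟩
  have hgx : ∀ x, g x = ∑ j, ∑ i, (s i j * f x (E i)) • E j := by
    intro x
    have h1 := hexp ⟨g x, hgl x⟩
    simp only at h1
    rw [h1]
    apply Finset.sum_congr rfl
    intro j _
    rw [← Finset.sum_smul]
    congr 1
    rw [← hsym (d j) x, hsw, hgd j, map_sum]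
    apply Finset.sum_congr rfl
    intro i _
    rw [map_smul, smul_eq_mul]
  refine ⟨(Finset.univ : Finset (Fin n × Fin n)).toList.map
    (fun p => (c p.1 p.2 • E p.1, E p.2)), ?_, ?_⟩
  · intro p hp
    rw [List.mem_map] at hp
    obtain ⟨q, _, rfl⟩ := hp
    exact ⟨ℓ.smul_mem _ (hEl _), hEl _⟩
  · intro x
    rw [List.map_map, Finset.sum_map_toList, Fintype.sum_prod_type, hgx x]
    have hterm : ∀ i j : Fin n,
        ((fun p : V × V => hyp2 f p.1 p.2 x) ∘ fun p : Fin n × Fin n =>
          (c p.1 p.2 • E p.1, E p.2)) (i, j)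
        = (c i j * f x (E i)) • E j + (c i j * f x (E j)) • E i := by
      intro i j
      simp only [Function.comp, hyp2, map_smul, smul_eq_mul, smul_smul]
      rw [mul_comm (f x (E j)) (c i j)]
    simp only [hterm]
    simp only [Finset.sum_add_distrib]
    rw [Finset.sum_comm (f := fun i j => (c i j * f x (E j)) • E i)]
    rw [Finset.sum_comm (f := fun j i => (s i j * f x (E i)) • E j)]
    rw [← Finset.sum_add_distrib]
    apply Finset.sum_congr rfl
    intro i _
    rw [← Finset.sum_add_distrib]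
    apply Finset.sum_congr rfl
    intro j _
    rw [← add_smul, ← add_mul, hc]

end Cfsg.Agent.Lib.Helper10_SpExt_ALT
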