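import Mathlib

/-!
# S5664 packages CONJ + SCAL (architect helper98): conjugating a square-zero skew element with image
in `t` by an isometry acting on `t` as a transvection / as a scalar.  Pure linear algebra.
-/

set_option autoImplicit false

namespace Cfsg.Agent.Lib.Helper10_SpExt_CONJSCAL

/-- `c` kills every vector orthogonal to `t`. -/
theorem c_eq_zero_of_orth {F V : Type*} [Field F] [AddCommGroup V] [Module F V]
    (f : LinearMap.BilinForm F V) (hfn : f.Nondegenerate)
    (t : Submodule F V) (c : V →ₗ[F] V) (hct : ∀ v, c v ∈ t)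
    (hskew : ∀ v v', f (c v) v' = - f v (c v')) (w : V) (hw : ∀ e ∈ t, f w e = 0) : c w = 0 := by
  apply hfn.1
  intro y
  rw [hskew, hw _ (hct y), neg_zero]

/-- `c` agrees on two vectors having the same products with `t`. -/
theorem c_eq_of_orth {F V : Type*} [Field F] [AddCommGroup V] [Module F V]
    (f : LinearMap.BilinForm F V) (hfn : f.Nondegenerate)
    (t : Submodule F V) (c : V →ₗ[F] V) (hct : ∀ v, c v ∈ t)
    (hskew : ∀ v v', f (c v) v' = - f v (c v')) (w w' : V) (hw : ∀ e ∈ t, f w e = f w' e) :
    c w = c w' := by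
  have h := c_eq_zero_of_orth f hfn t c hct hskew (w - w') (by
    intro e he
    rw [map_sub, LinearMap.sub_apply, hw e he, sub_self])
  rw [map_sub] at h
  exact sub_eq_zero.mp h

/-- **CONJ** (S-M).  Conjugating a square-zero element with image in `t` by an isometry acting on
`t` as a transvection.  Pure `F`-linear algebra. -/
theorem CONJ {F V : Type*} [Field F] [AddCommGroup V] [Module F V]
    (f : LinearMap.BilinForm F V) (hf : f.IsAlt) (hfn : f.Nondegenerate)
    (t : Submodule F V) (c : V →ₗ[F] V) (hct : ∀ v, c v ∈ t)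
    (hskew : ∀ v v', f (c v) v' = - f v (c v'))
    (x : V ≃ₗ[F] V) (hx : ∀ u v, f (x u) (x v) = f u v) (n₀ δ' : V)
    (hxt : ∀ u ∈ t, x u = u + f n₀ u • δ') (v : V) :
    x (c (x.symm v)) = c v + f v δ' • c n₀ + f v (c n₀) • δ' + (f n₀ (c n₀) * f v δ') • δ' := by
  have h1 : c (x.symm v) = c (v + f v δ' • n₀) := by
    apply c_eq_of_orth f hfn t c hct hskew
    intro e he
    have h2 : f (x.symm v) e = f v (x e) := by
      have := hx (x.symm v) e
      rw [LinearEquiv.apply_symm_apply] at this
      exact this.symm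
    rw [h2, hxt e he]
    simp only [map_add, map_smul, LinearMap.add_apply, LinearMap.smul_apply, smul_eq_mul]
    ring
  have h3 : f n₀ (c v) = f v (c n₀) := by
    have h4 := hskew n₀ v
    have h5 := hf.neg_eq (c n₀) v
    rw [h4] at h5
    rw [← h5, neg_neg]
  rw [h1, map_add, map_smul, map_add, map_smul, hxt _ (hct v), hxt _ (hct n₀), h3]
  rw [smul_add, smul_smul]
  rw [mul_comm (f v δ') (f n₀ (c n₀))]
  abel

/-- **SCAL** (S).  Same with an isometry acting on `t` as the scalar `b`. -/
theorem SCAL {F V : Type*} [Field F] [AddCommGroup V] [Module F V]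
    (f : LinearMap.BilinForm F V) (hf : f.IsAlt) (hfn : f.Nondegenerate)
    (t : Submodule F V) (c : V →ₗ[F] V) (hct : ∀ v, c v ∈ t)
    (hskew : ∀ v v', f (c v) v' = - f v (c v'))
    (x : V ≃ₗ[F] V) (hx : ∀ u v, f (x u) (x v) = f u v) (b : F)
    (hxt : ∀ u ∈ t, x u = b • u) (v : V) :
    x (c (x.symm v)) = (b * b) • c v := by
  have h1 : c (x.symm v) = c (b • v) := by
    apply c_eq_of_orth f hfn t c hct hskew
    intro e he
    have h2 : f (x.symm v) e = f v (x e) := by
      have := hx (x.symm v) e
      rw [LinearEquiv.apply_symm_apply] at this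
      exact this.symm
    rw [h2, hxt e he]
    simp only [map_smul, LinearMap.smul_apply, smul_eq_mul]
  rw [h1, map_smul, map_smul, hxt _ (hct v), smul_smul]

end Cfsg.Agent.Lib.Helper10_SpExt_CONJSCAL
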