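import Mathlib

set_option autoImplicit false

namespace Cfsg.Agent.Lib.Helper10_SpExt_QD

/-- the multiples of `k` among `1, …, k * m` -/
theorem filter_dvd_eq_image (k m : ℕ) (hk : 1 ≤ k) :
    (Finset.range (k * m)).filter (fun i => k ∣ i + 1) =
      (Finset.range m).image (fun j => k * (j + 1) - 1) := by
  ext i
  simp only [Finset.mem_filter, Finset.mem_range, Finset.mem_image]
  constructor
  · rintro ⟨hi, c, hc⟩
    have hc1 : 1 ≤ c := by
      rcases Nat.eq_zero_or_pos c with h | h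
      · rw [h, mul_zero] at hc; omega
      · exact h
    have hcm : c ≤ m := by
      by_contra hlt
      push Not at hlt
      have : k * (m + 1) ≤ k * c := Nat.mul_le_mul_left k hlt
      nlinarith
    refine ⟨c - 1, by omega, ?_⟩
    have : c - 1 + 1 = c := by omega
    rw [this, ← hc]
    omega
  · rintro ⟨j, hj, rfl⟩
    have h1 : 1 ≤ k * (j + 1) := Nat.mul_pos hk (by omega)
    have h2 : k * (j + 1) ≤ k * m := Nat.mul_le_mul_left k (by omega)
    refine ⟨by omega, j + 1, ?_⟩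
    omega

theorem injOn_aux (k m : ℕ) (hk : 1 ≤ k) :
    Set.InjOn (fun j => k * (j + 1) - 1) (Finset.range m : Set ℕ) := by
  intro j _ j' _ h
  simp only at h
  have h1 : 1 ≤ k * (j + 1) := Nat.mul_pos hk (by omega)
  have h2 : 1 ≤ k * (j' + 1) := Nat.mul_pos hk (by omega)
  have h3 : k * (j + 1) = k * (j' + 1) := by omega
  have := Nat.eq_of_mul_eq_mul_left hk h3
  omega

/-- QD: the arithmetic of the index `|Sp_2km(q)| / |Sp_2m(q^k)|` -/
theorem QD {q k m r M N : ℕ} (hq : 2 ≤ q) (hk : 1 ≤ k) (hr : r.Prime) (hrq : ¬ r ∣ q) (hrM : r ∣ M)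
    (h : M * (N * ((q ^ k) ^ (m ^ 2) * ∏ j ∈ Finset.range m, ((q ^ k) ^ (2 * (j + 1)) - 1))) =
      q ^ ((k * m) ^ 2) * ∏ i ∈ Finset.range (k * m), (q ^ (2 * (i + 1)) - 1)) :
    ∃ i, 1 ≤ i ∧ i ≤ k * m ∧ ¬ k ∣ i ∧ r ∣ q ^ (2 * i) - 1 := by
  have hqpos : ∀ e : ℕ, 1 ≤ q ^ e := fun e => Nat.one_le_pow _ _ (by omega)
  have hq2 : ∀ e : ℕ, 2 ≤ q ^ (e + 1) := by
    intro e
    calc 2 ≤ q := hq
      _ = q ^ 1 := (pow_one q).symm
      _ ≤ q ^ (e + 1) := Nat.pow_le_pow_right (by omega) (by omega)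
  obtain ⟨A, hA⟩ : ∃ A, A = ∏ j ∈ Finset.range m, ((q ^ k) ^ (2 * (j + 1)) - 1) := ⟨_, rfl⟩
  obtain ⟨B, hB⟩ : ∃ B, B = ∏ i ∈ (Finset.range (k * m)).filter (fun i => ¬ k ∣ i + 1),
      (q ^ (2 * (i + 1)) - 1) := ⟨_, rfl⟩
  have hsplit : ∏ i ∈ Finset.range (k * m), (q ^ (2 * (i + 1)) - 1) = A * B := by
    rw [← Finset.prod_filter_mul_prod_filter_not (Finset.range (k * m)) (fun i => k ∣ i + 1),
      ← hB, filter_dvd_eq_image k m hk, Finset.prod_image (injOn_aux k m hk), hA]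
    congr 1
    apply Finset.prod_congr rfl
    intro j _
    have h1 : 1 ≤ k * (j + 1) := Nat.mul_pos hk (by omega)
    have h2 : k * (j + 1) - 1 + 1 = k * (j + 1) := by omega
    rw [h2, ← pow_mul]
    congr 2
    ring
  have hApos : 0 < A := by
    rw [hA]
    apply Finset.prod_pos
    intro j _
    have h1 : 2 ≤ (q ^ k) ^ (2 * (j + 1)) := by
      rw [← pow_mul]
      obtain ⟨e, he⟩ : ∃ e, k * (2 * (j + 1)) = e + 1 :=
        ⟨k * (2 * (j + 1)) - 1, by have : 1 ≤ k * (2 * (j + 1)) := Nat.mul_pos hk (by omega); omega⟩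
      rw [he]; exact hq2 e
    omega
  obtain ⟨k', rfl⟩ : ∃ k', k = k' + 1 := ⟨k - 1, by omega⟩
  have hexp : ((k' + 1) * m) ^ 2 = (k' + 1) * m ^ 2 + (k' + 1) * k' * m ^ 2 := by ring
  rw [← hA, hsplit, hexp, pow_add q ((k' + 1) * m ^ 2), ← pow_mul q (k' + 1) (m ^ 2)] at h
  have h' : (M * N) * (q ^ ((k' + 1) * m ^ 2) * A) =
      (q ^ ((k' + 1) * k' * m ^ 2) * B) * (q ^ ((k' + 1) * m ^ 2) * A) := by
    rw [mul_assoc, h]; ring
  have hpos : 0 < q ^ ((k' + 1) * m ^ 2) * A := Nat.mul_pos (hqpos _) hApos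
  have hMN : M * N = q ^ ((k' + 1) * k' * m ^ 2) * B := Nat.eq_of_mul_eq_mul_right hpos h'
  have hrMN : r ∣ q ^ ((k' + 1) * k' * m ^ 2) * B := hMN ▸ Dvd.dvd.mul_right hrM N
  have hrB : r ∣ B := by
    rcases (Nat.Prime.dvd_mul hr).1 hrMN with h1 | h1
    · exact absurd (hr.dvd_of_dvd_pow h1) hrq
    · exact h1
  rw [hB] at hrB
  obtain ⟨i, hi, hri⟩ := (Prime.dvd_finsetProd_iff hr.prime _).1 hrB
  rw [Finset.mem_filter, Finset.mem_range] at hi
  exact ⟨i + 1, by omega, by omega, hi.2, hri⟩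

end Cfsg.Agent.Lib.Helper10_SpExt_QD
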