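import Mathlib
import Cfsg.Prelude.Def_ClassicalGeometry
import Cfsg.Agent.Lib.Helper13_Symp
import Cfsg.Agent.Lib.Helper13_GUSpDefs

/-!
# Self-adjoint matrices for the standard alternating form (definitions for S5975)
-/

set_option autoImplicit false

namespace Cfsg.Agent.Lib.Helper13_SpExtDefs

open Matrix Cfsg.Agent.Lib.Helper13_Symp Cfsg.Agent.Lib.Helper13_GUSpDefs

variable {F : Type*} [Field F]

/-- `θ` is self-adjoint for the standard alternating form -/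
def IsSelfAdj (d : ℕ) (θ : Matrix (Fin d ⊕ Fin d) (Fin d ⊕ Fin d) F) : Prop :=
  ∀ u v : Fin d ⊕ Fin d → F, Cfsg.sympForm d F (θ *ᵥ u) v = Cfsg.sympForm d F u (θ *ᵥ v)

theorem isSelfAdj_iff (d : ℕ) (θ : Matrix (Fin d ⊕ Fin d) (Fin d ⊕ Fin d) F) :
    IsSelfAdj d θ ↔ θᵀ * J (Fin d) F = J (Fin d) F * θ := by
  constructor
  · intro h
    apply matrix_eq_of_dot
    intro u v
    rw [← sympForm_mulVec_left, h u v, sympForm_mulVec_right]
  · intro h u v
    rw [sympForm_mulVec_left, h, sympForm_mulVec_right]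

/-- conjugating a self-adjoint matrix by a symplectic matrix -/
theorem IsSelfAdj.conj {d : ℕ} {θ : Matrix (Fin d ⊕ Fin d) (Fin d ⊕ Fin d) F} (h : IsSelfAdj d θ)
    {P Q : Matrix (Fin d ⊕ Fin d) (Fin d ⊕ Fin d) F} (hP : P ∈ symplecticGroup (Fin d) F)
    (hPQ : P * Q = 1) : IsSelfAdj d (P * θ * Q) := by
  have hpres := fun u v => sympForm_mulVec_mulVec_of_mem d hP u v
  have key : ∀ u v : Fin d ⊕ Fin d → F, Cfsg.sympForm d F (P *ᵥ u) v = Cfsg.sympForm d F u (Q *ᵥ v) := by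
    intro u v
    have := hpres u (Q *ᵥ v)
    rwa [Matrix.mulVec_mulVec, hPQ, Matrix.one_mulVec] at this
  have key' : ∀ u v : Fin d ⊕ Fin d → F, Cfsg.sympForm d F u (P *ᵥ v) = Cfsg.sympForm d F (Q *ᵥ u) v := by
    intro u v
    have := hpres (Q *ᵥ u) v
    rwa [Matrix.mulVec_mulVec, hPQ, Matrix.one_mulVec] at this
  intro u v
  rw [← Matrix.mulVec_mulVec, ← Matrix.mulVec_mulVec, key, h, ← Matrix.mulVec_mulVec,
    ← Matrix.mulVec_mulVec, key']

/-- a self-adjoint matrix is alternating-compatible in odd characteristic -/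
theorem IsSelfAdj.alt (h2 : (2 : F) ≠ 0) {d : ℕ} {θ : Matrix (Fin d ⊕ Fin d) (Fin d ⊕ Fin d) F}
    (h : IsSelfAdj d θ) (v : Fin d ⊕ Fin d → F) : Cfsg.sympForm d F (θ *ᵥ v) v = 0 := by
  have h1 := h v v
  rw [sympForm_swap d v (θ *ᵥ v)] at h1
  have h3 : (2 : F) * Cfsg.sympForm d F (θ *ᵥ v) v = 0 := by linear_combination h1
  rcases mul_eq_zero.1 h3 with h4 | h4
  · exact absurd h4 h2
  · exact h4

end Cfsg.Agent.Lib.Helper13_SpExtDefs
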