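import Mathlib
import Cfsg.Agent.Lib.Helper40_SpBasic
import Cfsg.Agent.Lib.Helper40_SpConj
import Cfsg.Agent.Lib.Helper40_SpMatrix
import Cfsg.Agent.Lib.Helper40_SpExistMatrix

set_option autoImplicit false

/-!
# Faithful symplectic representations of groups (helper40)

`HasSpRep F A m`: the group `A` acts faithfully by isometries on a nondegenerate alternating space of
dimension `2 m` over `F`.  Closed under products, powers, padding; over a finite field this gives an
embedding `A →* Sp_{2m}(F)`.  Two sources: a field with involution (norm-one elements) and the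
hyperbolic model `K ⊕ K`.
-/

namespace Cfsg.Agent.Lib.Helper40_SpRep

open Module Matrix Cfsg.Agent.Lib.Helper40_SpBasic Cfsg.Agent.Lib.Helper40_SpMatrix
  Cfsg.Agent.Lib.Helper40_SpExistMatrix

universe v w

variable (F : Type v) [Field F]

/-- `A` acts faithfully by isometries on a nondegenerate alternating `F`-space of dimension `2m`. -/
def HasSpRep (A : Type w) [Group A] (m : ℕ) : Prop :=
  ∃ (V : Type v) (_ : AddCommGroup V) (_ : Module F V) (_ : Module.Finite F V)
    (B : LinearMap.BilinForm F V) (ρ : A →* Module.End F V),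
    finrank F V = 2 * m ∧ B.Nondegenerate ∧ (∀ x, B x x = 0) ∧
      (∀ g x y, B (ρ g x) (ρ g y) = B x y) ∧ Function.Injective ρ

variable {F}

theorem HasSpRep.of_mulEquiv {A : Type w} {A' : Type*} [Group A] [Group A'] {m : ℕ}
    (h : HasSpRep F A m) (e : A' ≃* A) : HasSpRep F A' m := by
  obtain ⟨V, _, _, _, B, ρ, hfr, hB, halt, hiso, hinj⟩ := h
  exact ⟨V, inferInstance, inferInstance, inferInstance, B, ρ.comp e.toMonoidHom, hfr, hB, halt,
    fun g x y => hiso (e g) x y, hinj.comp e.injective⟩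

theorem HasSpRep.prod {A : Type w} {A' : Type*} [Group A] [Group A'] {m m' : ℕ}
    (h : HasSpRep F A m) (h' : HasSpRep F A' m') : HasSpRep F (A × A') (m + m') := by
  obtain ⟨V₁, _, _, _, B₁, ρ₁, hfr₁, hB₁, halt₁, hiso₁, hinj₁⟩ := h
  obtain ⟨V₂, _, _, _, B₂, ρ₂, hfr₂, hB₂, halt₂, hiso₂, hinj₂⟩ := h'
  let B : LinearMap.BilinForm F (V₁ × V₂) :=
    LinearMap.mk₂ F (fun x y => B₁ x.1 y.1 + B₂ x.2 y.2)
      (by intro x x' y; simp only [Prod.fst_add, Prod.snd_add, map_add, LinearMap.add_apply]; abel)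
      (by intro c x y; simp only [Prod.smul_fst, Prod.smul_snd, map_smul, LinearMap.smul_apply,
        smul_eq_mul]; ring)
      (by intro x y y'; simp only [Prod.fst_add, Prod.snd_add, map_add]; abel)
      (by intro c x y; simp only [Prod.smul_fst, Prod.smul_snd, map_smul, smul_eq_mul]; ring)
  have hBapp : ∀ x y, B x y = B₁ x.1 y.1 + B₂ x.2 y.2 := fun x y => rfl
  let ρ : A × A' →* Module.End F (V₁ × V₂) :=
    ((LinearMap.prodMapRingHom F V₁ V₂ : _ →* _)).comp (MonoidHom.prodMap ρ₁ ρ₂)
  have hρapp : ∀ g x, ρ g x = (ρ₁ g.1 x.1, ρ₂ g.2 x.2) := fun g x => rfl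
  refine ⟨V₁ × V₂, inferInstance, inferInstance, inferInstance, B, ρ, ?_, ⟨?_, ?_⟩, ?_, ?_, ?_⟩
  · rw [Module.finrank_prod, hfr₁, hfr₂]; ring
  · intro x hx
    have h1 : x.1 = 0 := by
      apply hB₁.1
      intro y
      have := hx (y, 0)
      rw [hBapp] at this
      simpa using this
    have h2 : x.2 = 0 := by
      apply hB₂.1
      intro y
      have := hx (0, y)
      rw [hBapp] at this
      simpa using this
    exact Prod.ext h1 h2
  · intro y hy
    have h1 : y.1 = 0 := by
      apply hB₁.2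
      intro x
      have := hy (x, 0)
      rw [hBapp] at this
      simpa using this
    have h2 : y.2 = 0 := by
      apply hB₂.2
      intro x
      have := hy (0, x)
      rw [hBapp] at this
      simpa using this
    exact Prod.ext h1 h2
  · intro x
    rw [hBapp, halt₁, halt₂, add_zero]
  · intro g x y
    rw [hBapp, hBapp, hρapp, hρapp]
    simp only
    rw [hiso₁, hiso₂]
  · intro g g' hgg
    have h1 : ρ₁ g.1 = ρ₁ g'.1 := by
      apply LinearMap.ext
      intro x
      have := congrArg (fun f : Module.End F (V₁ × V₂) => (f (x, 0)).1) hgg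
      simpa [hρapp] using this
    have h2 : ρ₂ g.2 = ρ₂ g'.2 := by
      apply LinearMap.ext
      intro x
      have := congrArg (fun f : Module.End F (V₁ × V₂) => (f (0, x)).2) hgg
      simpa [hρapp] using this
    exact Prod.ext (hinj₁ h1) (hinj₂ h2)

/-- A trivial group acts on the standard symplectic space. -/
theorem hasSpRep_of_subsingleton (A : Type w) [Group A] [Subsingleton A] (m : ℕ) :
    HasSpRep F A m := by
  refine ⟨(Fin m ⊕ Fin m → F), inferInstance, inferInstance, inferInstance, Jform m F, 1, ?_,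
    Jform_nondeg, Jform_alt, fun g x y => rfl, Function.injective_of_subsingleton _⟩
  rw [Module.finrank_pi, Fintype.card_sum, Fintype.card_fin, two_mul]

theorem HasSpRep.extend {A : Type w} [Group A] {m n : ℕ} (h : HasSpRep F A m) (hmn : m ≤ n) :
    HasSpRep F A n := by
  obtain ⟨k, rfl⟩ := Nat.exists_eq_add_of_le hmn
  exact (h.prod (hasSpRep_of_subsingleton PUnit.{1} k)).of_mulEquiv (MulEquiv.prodUnique).symm

/-- `(Fin (k+1) → A) ≃* A × (Fin k → A)`. -/
def piSuccMulEquiv (A : Type w) [Group A] (k : ℕ) : (Fin (k + 1) → A) ≃* A × (Fin k → A) where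
  toFun f := (f 0, fun i => f i.succ)
  invFun p := Fin.cons p.1 p.2
  left_inv f := by
    funext i
    refine Fin.cases ?_ (fun j => ?_) i <;> simp
  right_inv p := by simp
  map_mul' _ _ := rfl

theorem HasSpRep.pi {A : Type w} [Group A] {m : ℕ} (h : HasSpRep F A m) (k : ℕ) :
    HasSpRep F (Fin k → A) (k * m) := by
  induction k with
  | zero =>
    rw [zero_mul]
    exact hasSpRep_of_subsingleton _ 0
  | succ k ih =>
    have := (h.prod ih).of_mulEquiv (piSuccMulEquiv A k)
    rwa [show (k + 1) * m = m + k * m by ring]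

/-- Over a finite field a faithful symplectic representation gives an embedding into `Sp_{2n}`. -/
theorem HasSpRep.exists_embedding [Finite F] {A : Type w} [Group A] {n : ℕ} (h : HasSpRep F A n) :
    ∃ ψ : A →* ↥(Matrix.symplecticGroup (Fin n) F), Function.Injective ψ := by
  obtain ⟨V, _, _, _, B, ρ, hfin, hB, halt, hiso, hinj⟩ := h
  have hfinW : finrank F (Fin n ⊕ Fin n → F) = 2 * n := by
    rw [Module.finrank_pi, Fintype.card_sum, Fintype.card_fin, two_mul]
  have hss : ∀ (W : Type v) [AddCommGroup W] [Module F W],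
      (1 : Module.End F W).IsSemisimple := fun W _ _ => Module.End.isSemisimple_id
  obtain ⟨e, _, he⟩ := Helper40_SpConj.exists_isometry_conj (F := F) (2 * n) B (Jform n F)
    (1 : Module.End F V) (1 : Module.End F (Fin n ⊕ Fin n → F)) 1 hfin
    (isoData_one B halt) (isoData_one _ Jform_alt) hB Jform_nondeg (hss V) (hss _)
    (by rw [LinearMap.charpoly_one, LinearMap.charpoly_one, hfin, hfinW])
  let ψ₀ : A →* Matrix (Fin n ⊕ Fin n) (Fin n ⊕ Fin n) F :=
    ((LinearMap.toMatrixAlgEquiv' : Module.End F (Fin n ⊕ Fin n → F) ≃ₐ[F]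
        Matrix (Fin n ⊕ Fin n) (Fin n ⊕ Fin n) F).toRingEquiv.toMulEquiv.toMonoidHom).comp
      (((e.conjAlgEquiv F).toRingEquiv.toMulEquiv.toMonoidHom).comp ρ)
  have hψ₀ : ∀ g, Matrix.toLin' (ψ₀ g) = e.conjAlgEquiv F (ρ g) := fun g => by
    show Matrix.toLin' (LinearMap.toMatrix' (e.conjAlgEquiv F (ρ g))) = _
    exact Matrix.toLin'_toMatrix' _
  have hconj : ∀ g x, e.conjAlgEquiv F (ρ g) x = e (ρ g (e.symm x)) := fun g x => rfl
  have hmem : ∀ g, ψ₀ g ∈ Matrix.symplecticGroup (Fin n) F := by
    intro g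
    rw [SymplecticGroup.mem_iff']
    apply Matrix.toBilin'.injective
    apply LinearMap.ext
    intro x
    apply LinearMap.ext
    intro y
    rw [← Jform_comp, hψ₀, hconj, hconj, he, hiso, ← he, LinearEquiv.apply_symm_apply,
      LinearEquiv.apply_symm_apply]
    rfl
  refine ⟨ψ₀.codRestrict (Matrix.symplecticGroup (Fin n) F) hmem, ?_⟩
  intro g g' hgg
  have h1 : ψ₀ g = ψ₀ g' := congrArg Subtype.val hgg
  have h2 : e.conjAlgEquiv F (ρ g) = e.conjAlgEquiv F (ρ g') := by
    rw [← hψ₀, ← hψ₀, h1]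
  exact hinj ((e.conjAlgEquiv F).injective h2)

end Cfsg.Agent.Lib.Helper40_SpRep
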