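import Mathlib
import Cfsg.Agent.Lib.Helper40_SpRep
import Cfsg.Agent.Lib.Helper40_OTransport
import Cfsg.Agent.Lib.Helper40_OOdd

set_option autoImplicit false

/-!
# Abstract isometries of exact order (helper40)

`SpHas F N m`: some nondegenerate alternating space of dimension `2 m` over `F` has an isometry of
exact order `N`; `SpHasFix`: moreover with a nonzero fixed vector; `OHas F N d`: some quadratic
space of dimension `d` with nondegenerate polar form has an isometry of exact order `N`.
Orthogonal sums (orders take the lcm) and transport to and from the matrix groups.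
-/

namespace Cfsg.Agent.Lib.Helper40_BCData

open Module Matrix Cfsg.Agent.Lib.Helper40_SpBasic Cfsg.Agent.Lib.Helper40_SpMatrix
  Cfsg.Agent.Lib.Helper40_SpExistMatrix Cfsg.Agent.Lib.Helper40_OTransport
  Cfsg.Agent.Lib.Helper40_OClasses Cfsg.Agent.Lib.Helper44_StdForms
  Cfsg.Agent.Lib.Helper44_WittMat

universe v

section defs

variable (F : Type v) [Field F]

/-- an isometry of exact order `N` of a symplectic space of dimension `2 m` -/
def SpHas (N m : ℕ) : Prop :=
  ∃ (V : Type v) (_ : AddCommGroup V) (_ : Module F V) (_ : Module.Finite F V)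
    (B : LinearMap.BilinForm F V) (a : Module.End F V),
    finrank F V = 2 * m ∧ B.Nondegenerate ∧ (∀ x, B x x = 0) ∧
      (∀ x y, B (a x) (a y) = B x y) ∧ orderOf a = N

/-- an isometry of exact order `N` with a nonzero fixed vector -/
def SpHasFix (N m : ℕ) : Prop :=
  ∃ (V : Type v) (_ : AddCommGroup V) (_ : Module F V) (_ : Module.Finite F V)
    (B : LinearMap.BilinForm F V) (a : Module.End F V),
    finrank F V = 2 * m ∧ B.Nondegenerate ∧ (∀ x, B x x = 0) ∧
      (∀ x y, B (a x) (a y) = B x y) ∧ orderOf a = N ∧ ∃ v, v ≠ 0 ∧ a v = v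

/-- an isometry of exact order `N` of a quadratic space of dimension `d` -/
def OHas (N d : ℕ) : Prop :=
  ∃ (V : Type v) (_ : AddCommGroup V) (_ : Module F V) (_ : Module.Finite F V)
    (Q : QuadraticForm F V) (a : Module.End F V),
    finrank F V = d ∧ (QuadraticMap.polarBilin Q).Nondegenerate ∧ (∀ x, Q (a x) = Q x) ∧
      orderOf a = N

end defs

variable {F : Type v} [Field F]

section prod

variable {V₁ V₂ : Type v} [AddCommGroup V₁] [Module F V₁] [AddCommGroup V₂] [Module F V₂]

theorem prodMap_eq_one_iff (a : Module.End F V₁) (b : Module.End F V₂) :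
    (LinearMap.prodMap a b : Module.End F (V₁ × V₂)) = 1 ↔ a = 1 ∧ b = 1 := by
  constructor
  · intro h
    constructor
    · apply LinearMap.ext
      intro x
      have := congrArg (fun f : Module.End F (V₁ × V₂) => (f (x, 0)).1) h
      simpa using this
    · apply LinearMap.ext
      intro x
      have := congrArg (fun f : Module.End F (V₁ × V₂) => (f (0, x)).2) h
      simpa using this
  · rintro ⟨rfl, rfl⟩
    exact LinearMap.prodMap_one

theorem orderOf_prodMap (a : Module.End F V₁) (b : Module.End F V₂) :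
    orderOf (LinearMap.prodMap a b : Module.End F (V₁ × V₂)) =
      Nat.lcm (orderOf a) (orderOf b) := by
  apply Nat.dvd_antisymm
  · apply orderOf_dvd_of_pow_eq_one
    rw [prodMap_pow, prodMap_eq_one_iff]
    exact ⟨orderOf_dvd_iff_pow_eq_one.1 (Nat.dvd_lcm_left _ _),
      orderOf_dvd_iff_pow_eq_one.1 (Nat.dvd_lcm_right _ _)⟩
  · have h := pow_orderOf_eq_one (LinearMap.prodMap a b : Module.End F (V₁ × V₂))
    rw [prodMap_pow, prodMap_eq_one_iff] at h
    exact Nat.lcm_dvd (orderOf_dvd_of_pow_eq_one h.1) (orderOf_dvd_of_pow_eq_one h.2)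

end prod

/-- orthogonal sum of symplectic data -/
theorem SpHas.add {N N' m m' : ℕ} (h : SpHas F N m) (h' : SpHas F N' m') :
    SpHas F (Nat.lcm N N') (m + m') := by
  obtain ⟨V₁, _, _, _, B₁, a₁, hfr₁, hB₁, halt₁, hiso₁, ho₁⟩ := h
  obtain ⟨V₂, _, _, _, B₂, a₂, hfr₂, hB₂, halt₂, hiso₂, ho₂⟩ := h'
  let B : LinearMap.BilinForm F (V₁ × V₂) :=
    LinearMap.mk₂ F (fun x y => B₁ x.1 y.1 + B₂ x.2 y.2)
      (by intro x x' y; simp only [Prod.fst_add, Prod.snd_add, map_add, LinearMap.add_apply]; abel)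
      (by intro c x y; simp only [Prod.smul_fst, Prod.smul_snd, map_smul, LinearMap.smul_apply,
        smul_eq_mul]; ring)
      (by intro x y y'; simp only [Prod.fst_add, Prod.snd_add, map_add]; abel)
      (by intro c x y; simp only [Prod.smul_fst, Prod.smul_snd, map_smul, smul_eq_mul]; ring)
  have hBapp : ∀ x y, B x y = B₁ x.1 y.1 + B₂ x.2 y.2 := fun x y => rfl
  refine ⟨V₁ × V₂, inferInstance, inferInstance, inferInstance, B, LinearMap.prodMap a₁ a₂, ?_,
    ⟨?_, ?_⟩, ?_, ?_, ?_⟩
  · rw [Module.finrank_prod, hfr₁, hfr₂]; ring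
  · intro x hx
    have h1 : x.1 = 0 := by
      apply hB₁.1
      intro y
      have := hx (y, 0)
      rw [hBapp] at this
      simpa using this
    have h2 : x.2 = 0 := by
      apply hB₂.1
      intro y
      have := hx (0, y)
      rw [hBapp] at this
      simpa using this
    exact Prod.ext h1 h2
  · intro y hy
    have h1 : y.1 = 0 := by
      apply hB₁.2
      intro x
      have := hy (x, 0)
      rw [hBapp] at this
      simpa using this
    have h2 : y.2 = 0 := by
      apply hB₂.2
      intro x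
      have := hy (0, x)
      rw [hBapp] at this
      simpa using this
    exact Prod.ext h1 h2
  · intro x
    rw [hBapp, halt₁, halt₂, add_zero]
  · intro x y
    rw [hBapp, hBapp]
    show B₁ (a₁ x.1) (a₁ y.1) + B₂ (a₂ x.2) (a₂ y.2) = _
    rw [hiso₁, hiso₂]
  · rw [orderOf_prodMap, ho₁, ho₂]

/-- the identity of the standard symplectic space -/
theorem SpHas.one (m : ℕ) : SpHas F 1 m := by
  refine ⟨(Fin m ⊕ Fin m → F), inferInstance, inferInstance, inferInstance, Jform m F, 1, ?_,
    Jform_nondeg, Jform_alt, fun x y => rfl, orderOf_one⟩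
  rw [Module.finrank_pi, Fintype.card_sum, Fintype.card_fin, two_mul]

theorem SpHas.extend {N m n : ℕ} (h : SpHas F N m) (hmn : m ≤ n) : SpHas F N n := by
  obtain ⟨k, rfl⟩ := Nat.exists_eq_add_of_le hmn
  have := h.add (SpHas.one (F := F) k)
  rwa [Nat.lcm_one_right] at this

/-- padding by a nonzero trivial block gives a fixed vector -/
theorem SpHas.fix_of_lt {N m n : ℕ} (h : SpHas F N m) (hmn : m < n) : SpHasFix F N n := by
  obtain ⟨k, rfl⟩ := Nat.exists_eq_add_of_lt hmn
  obtain ⟨V₁, _, _, _, B₁, a₁, hfr₁, hB₁, halt₁, hiso₁, ho₁⟩ := h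
  let V₂ := (Fin (k + 1) ⊕ Fin (k + 1) → F)
  let B₂ : LinearMap.BilinForm F V₂ := Jform (k + 1) F
  have hB₂ : B₂.Nondegenerate := Jform_nondeg
  have halt₂ : ∀ x, B₂ x x = 0 := Jform_alt
  let B : LinearMap.BilinForm F (V₁ × V₂) :=
    LinearMap.mk₂ F (fun x y => B₁ x.1 y.1 + B₂ x.2 y.2)
      (by intro x x' y; simp only [Prod.fst_add, Prod.snd_add, map_add, LinearMap.add_apply]; abel)
      (by intro c x y; simp only [Prod.smul_fst, Prod.smul_snd, map_smul, LinearMap.smul_apply,
        smul_eq_mul]; ring)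
      (by intro x y y'; simp only [Prod.fst_add, Prod.snd_add, map_add]; abel)
      (by intro c x y; simp only [Prod.smul_fst, Prod.smul_snd, map_smul, smul_eq_mul]; ring)
  have hBapp : ∀ x y, B x y = B₁ x.1 y.1 + B₂ x.2 y.2 := fun x y => rfl
  refine ⟨V₁ × V₂, inferInstance, inferInstance, inferInstance, B,
    LinearMap.prodMap a₁ (1 : Module.End F V₂), ?_, ⟨?_, ?_⟩, ?_, ?_, ?_, ?_⟩
  · rw [Module.finrank_prod, hfr₁, Module.finrank_pi, Fintype.card_sum, Fintype.card_fin]; ring
  · intro x hx
    have h1 : x.1 = 0 := by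
      apply hB₁.1
      intro y
      have := hx (y, 0)
      rw [hBapp] at this
      simpa using this
    have h2 : x.2 = 0 := by
      apply hB₂.1
      intro y
      have := hx (0, y)
      rw [hBapp] at this
      simpa using this
    exact Prod.ext h1 h2
  · intro y hy
    have h1 : y.1 = 0 := by
      apply hB₁.2
      intro x
      have := hy (x, 0)
      rw [hBapp] at this
      simpa using this
    have h2 : y.2 = 0 := by
      apply hB₂.2
      intro x
      have := hy (0, x)
      rw [hBapp] at this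
      simpa using this
    exact Prod.ext h1 h2
  · intro x
    rw [hBapp, halt₁, halt₂, add_zero]
  · intro x y
    rw [hBapp, hBapp]
    show B₁ (a₁ x.1) (a₁ y.1) + B₂ x.2 y.2 = _
    rw [hiso₁]
  · rw [orderOf_prodMap, ho₁, orderOf_one, Nat.lcm_one_right]
  · refine ⟨(0, Pi.single (Sum.inl 0) 1), ?_, ?_⟩
    · intro h0
      have := congrFun (congrArg Prod.snd h0) (Sum.inl 0)
      simp at this
    · show (a₁ 0, _) = _
      rw [map_zero]
      rfl

/-- orthogonal sum of orthogonal data -/
theorem OHas.add {N N' d d' : ℕ} (h : OHas F N d) (h' : OHas F N' d') :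
    OHas F (Nat.lcm N N') (d + d') := by
  obtain ⟨V₁, _, _, _, Q₁, a₁, hfr₁, hQ₁, hiso₁, ho₁⟩ := h
  obtain ⟨V₂, _, _, _, Q₂, a₂, hfr₂, hQ₂, hiso₂, ho₂⟩ := h'
  refine ⟨V₁ × V₂, inferInstance, inferInstance, inferInstance, Q₁.prod Q₂,
    LinearMap.prodMap a₁ a₂, ?_, nondegenerate_prod Q₁ Q₂ hQ₁ hQ₂, ?_, ?_⟩
  · rw [Module.finrank_prod, hfr₁, hfr₂]
  · intro x
    show (Q₁.prod Q₂) (a₁ x.1, a₂ x.2) = (Q₁.prod Q₂) x
    rw [QuadraticMap.prod_apply, QuadraticMap.prod_apply, hiso₁, hiso₂]
  · rw [orderOf_prodMap, ho₁, ho₂]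

/-- the identity of a sum of squares -/
theorem OHas.one (h2 : (2 : F) ≠ 0) (d : ℕ) : OHas F 1 d := by
  refine ⟨(Fin d → F), inferInstance, inferInstance, inferInstance, sumSq d, 1, ?_,
    nondegenerate_sumSq h2 d, fun x => rfl, orderOf_one⟩
  rw [Module.finrank_pi, Fintype.card_fin]

theorem OHas.extend (h2 : (2 : F) ≠ 0) {N d e : ℕ} (h : OHas F N d) (hde : d ≤ e) :
    OHas F N e := by
  obtain ⟨k, rfl⟩ := Nat.exists_eq_add_of_le hde
  have := h.add (OHas.one h2 k)
  rwa [Nat.lcm_one_right] at this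

end Cfsg.Agent.Lib.Helper40_BCData
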