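import Mathlib

set_option autoImplicit false

/-!
A finite dimensional space carrying a nondegenerate alternating bilinear form has even dimension.
-/

namespace Cfsg.Agent.Lib.Helper43_AltEven

open Module

universe w

variable {F : Type*} [Field F]

theorem finrank_span_pair_of_form {W : Type*} [AddCommGroup W] [Module F W]
    (B : LinearMap.BilinForm F W) (halt : B.IsAlt) {x y : W} (hxy : B x y ≠ 0) :
    finrank F (Submodule.span F {x, y}) = 2 := by
  have hli : LinearIndependent F ![x, y] := by
    rw [LinearIndependent.pair_iff]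
    intro s t hst
    have h1 : B (s • x + t • y) y = 0 := by rw [hst, map_zero, LinearMap.zero_apply]
    have h2 : B x (s • x + t • y) = 0 := by rw [hst, map_zero]
    rw [map_add, map_smul, map_smul, LinearMap.add_apply, LinearMap.smul_apply,
      LinearMap.smul_apply, halt y, smul_zero, add_zero, smul_eq_mul] at h1
    rw [map_add, map_smul, map_smul, halt x, smul_zero, zero_add, smul_eq_mul] at h2
    exact ⟨(mul_eq_zero.1 h1).resolve_right hxy, (mul_eq_zero.1 h2).resolve_right hxy⟩
  have h2 : finrank F (Submodule.span F (Set.range ![x, y])) = 2 := by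
    rw [finrank_span_eq_card hli, Fintype.card_fin]
  have hset : Set.range ![x, y] = {x, y} := by
    simp [Matrix.range_cons, Set.pair_comm]
  rw [hset] at h2
  exact h2

/-- a nondegenerate alternating form lives on an even dimensional space -/
theorem even_finrank_of_alt (n : ℕ) : ∀ (W : Type w) [AddCommGroup W] [Module F W]
    [FiniteDimensional F W] (B : LinearMap.BilinForm F W), B.IsAlt → B.Nondegenerate →
    finrank F W = n → Even n := by
  induction n using Nat.strong_induction_on with
  | _ n ih =>
  intro W _ _ _ B halt hnd hn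
  rcases Nat.eq_zero_or_pos n with rfl | hpos
  · exact ⟨0, rfl⟩
  have hnt : Nontrivial W := Module.nontrivial_of_finrank_pos (R := F) (by omega)
  obtain ⟨x, hx⟩ := exists_ne (0 : W)
  have hrefl : B.IsRefl := halt.isRefl
  obtain ⟨y, hy⟩ : ∃ y, B x y ≠ 0 := by
    by_contra h
    push Not at h
    exact hx (hnd.1 x h)
  have hyx : B y x ≠ 0 := fun h => hy ((halt.eq_iff).1 h)
  set P : Submodule F W := Submodule.span F {x, y} with hP
  have hxP : x ∈ P := Submodule.subset_span (by simp)
  have hyP : y ∈ P := Submodule.subset_span (by simp)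
  have hP2 : finrank F P = 2 := finrank_span_pair_of_form B halt hy
  have haltP : (B.restrict P).IsAlt := fun p => halt p.1
  have hPnd : (B.restrict P).Nondegenerate := by
    refine (LinearMap.IsRefl.nondegenerate_iff_separatingLeft haltP.isRefl).2 ?_
    intro p hp
    obtain ⟨a, b, hab⟩ := Submodule.mem_span_pair.1 p.2
    have h1 : B p.1 x = 0 := hp ⟨x, hxP⟩
    have h2 : B p.1 y = 0 := hp ⟨y, hyP⟩
    rw [← hab, map_add, map_smul, map_smul, LinearMap.add_apply, LinearMap.smul_apply,
      LinearMap.smul_apply, halt x, smul_zero, zero_add, smul_eq_mul] at h1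
    rw [← hab, map_add, map_smul, map_smul, LinearMap.add_apply, LinearMap.smul_apply,
      LinearMap.smul_apply, halt y, smul_zero, add_zero, smul_eq_mul] at h2
    have hb : b = 0 := (mul_eq_zero.1 h1).resolve_right hyx
    have ha : a = 0 := (mul_eq_zero.1 h2).resolve_right hy
    apply Subtype.ext
    rw [← hab, ha, hb, zero_smul, zero_smul, add_zero]
    rfl
  have hcompl : IsCompl P (B.orthogonal P) :=
    (LinearMap.BilinForm.restrict_nondegenerate_iff_isCompl_orthogonal hrefl).1 hPnd
  have hoo : B.orthogonal (B.orthogonal P) = P :=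
    LinearMap.BilinForm.orthogonal_orthogonal hnd hrefl P
  have hQnd : (B.restrict (B.orthogonal P)).Nondegenerate := by
    rw [LinearMap.BilinForm.restrict_nondegenerate_iff_isCompl_orthogonal hrefl, hoo]
    exact hcompl.symm
  have hQdim : finrank F (B.orthogonal P) = n - 2 := by
    rw [LinearMap.BilinForm.finrank_orthogonal hnd, hn, hP2]
  have hn2 : 2 ≤ n := by
    have := Submodule.finrank_le P
    omega
  have := ih (n - 2) (by omega) (B.orthogonal P) (B.restrict (B.orthogonal P))
    (fun p => halt p.1) hQnd hQdim
  obtain ⟨k, hk⟩ := this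
  exact ⟨k + 1, by omega⟩

end Cfsg.Agent.Lib.Helper43_AltEven
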