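import Mathlib

set_option autoImplicit false

namespace Cfsg.Agent.Lib.Helper99_Singer

lemma card_modEq_card_fixed {α : Type*} [Finite α] (σ : Equiv.Perm α) {r : ℕ} (hr : r.Prime)
    (hσ : σ ^ r = 1) : Nat.card α ≡ Nat.card {a // σ a = a} [MOD r] := by
  classical
  have : Fact r.Prime := ⟨hr⟩
  have : Fintype α := Fintype.ofFinite α
  have h := Equiv.Perm.card_compl_support_modEq (p := r) (n := 1) (σ := σ) (by simpa using hσ)
  rw [Nat.card_eq_fintype_card, Nat.card_eq_fintype_card, Fintype.card_subtype]
  have : σ.supportᶜ = Finset.univ.filter (fun a => σ a = a) := by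
    ext a; simp [Equiv.Perm.mem_support]
  rw [this] at h
  exact h.symm

variable {F V : Type*} [Field F] [AddCommGroup V] [Module F V]

lemma pow_apply_mem (T : Module.End F V) (W : Submodule F V) (hW : ∀ w ∈ W, T w ∈ W) (k : ℕ) :
    ∀ w ∈ W, (T ^ k) w ∈ W := by
  induction k with
  | zero => intro w hw; simpa using hw
  | succ k ih =>
    intro w hw
    rw [pow_succ, Module.End.mul_apply]
    exact ih _ (hW w hw)

/-- the permutation of an invariant subspace induced by an endomorphism of finite order -/
noncomputable def permOfInvariant (T : Module.End F V) {r : ℕ} (hr : 0 < r) (hT : T ^ r = 1)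
    (W : Submodule F V) (hW : ∀ w ∈ W, T w ∈ W) : Equiv.Perm W where
  toFun w := ⟨T w, hW w w.2⟩
  invFun w := ⟨(T ^ (r - 1)) w, pow_apply_mem T W hW _ w w.2⟩
  left_inv w := by
    apply Subtype.ext
    change (T ^ (r - 1)) (T (w : V)) = w
    rw [← Module.End.mul_apply, ← pow_succ, Nat.sub_add_cancel hr, hT, Module.End.one_apply]
  right_inv w := by
    apply Subtype.ext
    change T ((T ^ (r - 1)) (w : V)) = w
    rw [← Module.End.mul_apply, ← pow_succ', Nat.sub_add_cancel hr, hT, Module.End.one_apply]

lemma permOfInvariant_pow (T : Module.End F V) {r : ℕ} (hr : 0 < r) (hT : T ^ r = 1)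
    (W : Submodule F V) (hW : ∀ w ∈ W, T w ∈ W) (k : ℕ) (w : W) :
    ((permOfInvariant T hr hT W hW ^ k) w : V) = (T ^ k) (w : V) := by
  induction k generalizing w with
  | zero => simp
  | succ k ih =>
    rw [pow_succ, Equiv.Perm.mul_apply, ih, pow_succ, Module.End.mul_apply]
    rfl

lemma permOfInvariant_pow_eq_one (T : Module.End F V) {r : ℕ} (hr : 0 < r) (hT : T ^ r = 1)
    (W : Submodule F V) (hW : ∀ w ∈ W, T w ∈ W) :
    permOfInvariant T hr hT W hW ^ r = 1 := by
  ext w
  rw [permOfInvariant_pow, hT, Module.End.one_apply]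
  rfl

/-- the fixed space of an endomorphism -/
def fixSpace (T : Module.End F V) : Submodule F V := LinearMap.ker (T - 1)

lemma mem_fixSpace (T : Module.End F V) (v : V) : v ∈ fixSpace T ↔ T v = v := by
  rw [fixSpace, LinearMap.mem_ker, LinearMap.sub_apply, Module.End.one_apply, sub_eq_zero]

section finite
variable [Fintype F] [Module.Finite F V]

/-- counting fixed points on an invariant subspace -/
lemma pow_finrank_modEq (T : Module.End F V) {r : ℕ} (hr : r.Prime) (hT : T ^ r = 1)
    (W : Submodule F V) (hW : ∀ w ∈ W, T w ∈ W) :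
    Fintype.card F ^ Module.finrank F W ≡ Fintype.card F ^ Module.finrank F ↥(W ⊓ fixSpace T) [MOD r] := by
  have : Finite V := Module.finite_of_finite F
  have h := card_modEq_card_fixed (permOfInvariant T hr.pos hT W hW) hr
    (permOfInvariant_pow_eq_one T hr.pos hT W hW)
  rw [Module.natCard_eq_pow_finrank (K := F) (V := W), Nat.card_eq_fintype_card] at h
  have e : {a : W // permOfInvariant T hr.pos hT W hW a = a} ≃ ↥(W ⊓ fixSpace T) :=
    { toFun := fun a => ⟨a.1.1, ⟨a.1.2, (mem_fixSpace T _).mpr (congrArg Subtype.val a.2)⟩⟩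
      invFun := fun b => ⟨⟨b.1, b.2.1⟩, Subtype.ext ((mem_fixSpace T _).mp b.2.2)⟩
      left_inv := fun a => rfl
      right_inv := fun b => rfl }
  rw [Nat.card_congr e, Module.natCard_eq_pow_finrank (K := F) (V := ↥(W ⊓ fixSpace T)),
    Nat.card_eq_fintype_card] at h
  exact h

/-- an endomorphism of prime order `r` of an `n`-dimensional space over `F_q`, where `q` has order `n`
modulo `r`, acts irreducibly. -/
lemma irreducible_of_ppd (T : Module.End F V) {r : ℕ} (hr : r.Prime) (hT : T ^ r = 1)
    (hT1 : T ≠ 1) (hi : orderOf ((Fintype.card F : ℕ) : ZMod r) = Module.finrank F V)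
    (W : Submodule F V) (hW : ∀ w ∈ W, T w ∈ W) (hW0 : W ≠ ⊥) : W = ⊤ := by
  set n := Module.finrank F V with hn
  have hqn : ((Fintype.card F : ℕ) : ZMod r) ^ n = 1 := by
    have := pow_orderOf_eq_one ((Fintype.card F : ℕ) : ZMod r)
    rwa [hi] at this
  have key : ∀ W : Submodule F V, (∀ w ∈ W, T w ∈ W) →
      ((Fintype.card F : ℕ) : ZMod r) ^ Module.finrank F W =
        ((Fintype.card F : ℕ) : ZMod r) ^ Module.finrank F ↥(W ⊓ fixSpace T) := by
    intro W hW
    have := pow_finrank_modEq T hr hT W hW
    rw [← ZMod.natCast_eq_natCast_iff] at this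
    simpa using this
  have hfix : fixSpace T = ⊥ := by
    have h1 := key ⊤ (fun w _ => Submodule.mem_top)
    rw [finrank_top, ← hn, hqn, top_inf_eq] at h1
    have h2 : n ∣ Module.finrank F ↥(fixSpace T) := by
      have := orderOf_dvd_of_pow_eq_one h1.symm
      rwa [hi] at this
    have h3 : Module.finrank F ↥(fixSpace T) ≤ n := Submodule.finrank_le _
    rcases Nat.eq_zero_or_pos (Module.finrank F ↥(fixSpace T)) with h0 | hpos
    · exact Submodule.finrank_eq_zero.mp h0
    · exfalso
      have h4 : Module.finrank F ↥(fixSpace T) = n := le_antisymm h3 (Nat.le_of_dvd hpos h2)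
      have h5 : fixSpace T = ⊤ := Submodule.eq_top_of_finrank_eq h4
      apply hT1
      apply LinearMap.ext
      intro v
      have : v ∈ fixSpace T := by rw [h5]; trivial
      rw [mem_fixSpace] at this
      simp [this]
  have h1 := key W hW
  rw [hfix, inf_bot_eq, finrank_bot, pow_zero] at h1
  have h2 : n ∣ Module.finrank F W := by
    have := orderOf_dvd_of_pow_eq_one h1
    rwa [hi] at this
  have h3 : Module.finrank F W ≤ n := Submodule.finrank_le _
  have h4 : 0 < Module.finrank F W := by
    rw [Nat.pos_iff_ne_zero, Ne, Submodule.finrank_eq_zero]; exact hW0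
  have h5 : Module.finrank F W = n := le_antisymm h3 (Nat.le_of_dvd h4 h2)
  exact Submodule.eq_top_of_finrank_eq h5

end finite


/-- the centralizer algebra of an endomorphism -/
abbrev centAlg (T : Module.End F V) : Subalgebra F (Module.End F V) :=
  Subalgebra.centralizer F ({T} : Set (Module.End F V))

lemma mem_centAlg (T c : Module.End F V) : c ∈ centAlg T ↔ T * c = c * T := by
  rw [Subalgebra.mem_centralizer_iff]
  simp

/-- In the centralizer of an irreducible endomorphism every nonzero element is invertible. -/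
lemma isUnit_of_mem_centAlg [FiniteDimensional F V] (T : Module.End F V)
    (hirr : ∀ W : Submodule F V, (∀ w ∈ W, T w ∈ W) → W ≠ ⊥ → W = ⊤)
    (c : Module.End F V) (hc : c ∈ centAlg T) (hc0 : c ≠ 0) : IsUnit c := by
  rw [mem_centAlg] at hc
  rw [LinearMap.isUnit_iff_ker_eq_bot]
  set K := LinearMap.ker c with hK
  have hKinv : ∀ w ∈ K, T w ∈ K := by
    intro w hw
    rw [hK, LinearMap.mem_ker] at hw ⊢
    rw [← Module.End.mul_apply, ← hc, Module.End.mul_apply, hw, map_zero]
  have hKtop : K ≠ ⊤ := by
    intro htop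
    exact hc0 (LinearMap.ker_eq_top.mp htop)
  by_contra hne
  exact hKtop (hirr K hKinv hne)

/-- evaluation at a vector, as a linear map on endomorphisms -/
def evLin (v : V) : Module.End F V →ₗ[F] V where
  toFun c := c v
  map_add' a b := LinearMap.add_apply a b v
  map_smul' k a := LinearMap.smul_apply k a v

lemma evLin_apply (v : V) (c : Module.End F V) : evLin v c = c v := rfl

/-- the centralizer of an irreducible endomorphism is commutative and evaluation at a nonzero
vector is a bijection onto `V`. -/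
lemma centAlg_structure [FiniteDimensional F V] (T : Module.End F V)
    (hirr : ∀ W : Submodule F V, (∀ w ∈ W, T w ∈ W) → W ≠ ⊥ → W = ⊤)
    (v₀ : V) (hv₀ : v₀ ≠ 0) :
    (∀ c ∈ centAlg T, ∀ c' ∈ centAlg T, c * c' = c' * c) ∧
    (∀ c ∈ centAlg T, c v₀ = 0 → c = 0) ∧
    (∀ v : V, ∃ c ∈ centAlg T, c v₀ = v) := by
  have hinj : ∀ c ∈ centAlg T, c v₀ = 0 → c = 0 := by
    intro c hc hcv
    by_contra hc0
    have hu := isUnit_of_mem_centAlg T hirr c hc hc0
    rw [LinearMap.isUnit_iff_ker_eq_bot] at hu
    apply hv₀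
    have : v₀ ∈ LinearMap.ker c := hcv
    rw [hu] at this
    exact this
  set A := Algebra.adjoin F ({T} : Set (Module.End F V)) with hA
  have hTA : T ∈ A := Algebra.subset_adjoin (Set.mem_singleton T)
  have hAC : A ≤ centAlg T := by
    apply Algebra.adjoin_le
    intro y hy
    rw [Set.mem_singleton_iff] at hy
    rw [hy]
    exact (mem_centAlg T T).mpr rfl
  set WA : Submodule F V := Submodule.map (evLin v₀) (Subalgebra.toSubmodule A) with hWA
  have hWAinv : ∀ w ∈ WA, T w ∈ WA := by
    rintro _ ⟨a, ha, rfl⟩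
    exact ⟨T * a, A.mul_mem hTA ha, rfl⟩
  have hWA0 : WA ≠ ⊥ := by
    intro hbot
    have : v₀ ∈ WA := ⟨1, A.one_mem, rfl⟩
    rw [hbot, Submodule.mem_bot] at this
    exact hv₀ this
  have hWAtop : WA = ⊤ := hirr WA hWAinv hWA0
  have hsurjA : ∀ v : V, ∃ a ∈ A, a v₀ = v := by
    intro v
    have : v ∈ WA := by rw [hWAtop]; trivial
    obtain ⟨a, ha, hav⟩ := this
    exact ⟨a, ha, hav⟩
  have hCA : centAlg T ≤ A := by
    intro c hc
    obtain ⟨a, ha, hav⟩ := hsurjA (c v₀)
    have h0 : (c - a) v₀ = 0 := by rw [LinearMap.sub_apply, hav, sub_self]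
    have := hinj (c - a) ((centAlg T).sub_mem hc (hAC ha)) h0
    rw [sub_eq_zero] at this
    rw [this]; exact ha
  have hAcent : A ≤ Subalgebra.centralizer F ((centAlg T : Set (Module.End F V))) := by
    apply Algebra.adjoin_le
    intro y hy
    rw [Set.mem_singleton_iff] at hy
    rw [hy, SetLike.mem_coe, Subalgebra.mem_centralizer_iff]
    intro g hg
    exact ((mem_centAlg T g).mp hg).symm
  refine ⟨?_, hinj, ?_⟩
  · intro c hc c' hc'
    have := hAcent (hCA hc)
    rw [Subalgebra.mem_centralizer_iff] at this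
    exact (this c' hc').symm
  · intro v
    obtain ⟨a, ha, hav⟩ := hsurjA v
    exact ⟨a, hAC ha, hav⟩


/-- Given an irreducible `T` on a finite space `V` over a finite field, with commutative centralizer
algebra `C` for which evaluation at `v₀` is bijective, any finite field `K` over `F` with
`finrank F K = finrank F V` embeds into `C`. -/
lemma exists_algHom_to_centAlg [Fintype F] [FiniteDimensional F V] (T : Module.End F V)
    (hirr : ∀ W : Submodule F V, (∀ w ∈ W, T w ∈ W) → W ≠ ⊥ → W = ⊤)
    (v₀ : V) (hv₀ : v₀ ≠ 0)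
    (hcomm : ∀ c ∈ centAlg T, ∀ c' ∈ centAlg T, c * c' = c' * c)
    (hinj : ∀ c ∈ centAlg T, c v₀ = 0 → c = 0)
    (hsurj : ∀ v : V, ∃ c ∈ centAlg T, c v₀ = v)
    {K : Type*} [Field K] [Algebra F K] (hK : Module.finrank F K = Module.finrank F V) :
    ∃ ψ : K →ₐ[F] Module.End F V, ∀ k, ψ k ∈ centAlg T := by
  classical
  set C := centAlg T with hC
  have : Finite V := Module.finite_of_finite F
  have : Nontrivial V := ⟨⟨v₀, 0, hv₀⟩⟩
  letI instCR : CommRing C :=
    { (inferInstance : Ring C) with
      mul_comm := fun a b => Subtype.ext (hcomm a.1 a.2 b.1 b.2) }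
  have hnt : Nontrivial C := by
    refine ⟨⟨0, 1, ?_⟩⟩
    intro h
    have h1 : (0 : Module.End F V) = 1 := congrArg Subtype.val h
    have := LinearMap.congr_fun h1 v₀
    simp at this
    exact hv₀ this.symm
  have hnzd : NoZeroDivisors C := by
    refine ⟨fun {a b} hab => ?_⟩
    by_cases ha : a = 0
    · exact Or.inl ha
    · right
      have ha' : (a : Module.End F V) ≠ 0 := fun h => ha (Subtype.ext h)
      have hu := isUnit_of_mem_centAlg T hirr a.1 a.2 ha'
      have hab' : (a : Module.End F V) * (b : Module.End F V) = 0 :=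
        congrArg Subtype.val hab
      apply Subtype.ext
      exact (hu.mul_right_eq_zero).mp hab'
  have hdom : IsDomain C := NoZeroDivisors.to_isDomain C
  -- evaluation is a linear equivalence C ≃ V
  let evC : C →ₗ[F] V :=
    { toFun := fun c => (c : Module.End F V) v₀
      map_add' := fun a b => rfl
      map_smul' := fun k a => rfl }
  have hevbij : Function.Bijective evC := by
    constructor
    · intro a b hab
      have : ((a : Module.End F V) - (b : Module.End F V)) v₀ = 0 := by
        rw [LinearMap.sub_apply]; exact sub_eq_zero.mpr hab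
      have := hinj _ (C.sub_mem a.2 b.2) this
      exact Subtype.ext (sub_eq_zero.mp this)
    · intro v
      obtain ⟨c, hc, hcv⟩ := hsurj v
      exact ⟨⟨c, hc⟩, hcv⟩
  let evE : C ≃ₗ[F] V := LinearEquiv.ofBijective evC hevbij
  have hfinC : Finite C := Finite.of_equiv V evE.symm.toEquiv
  have : Fintype C := Fintype.ofFinite C
  letI instField : Field C := Fintype.fieldOfDomain C
  have hrank : Module.finrank F K ∣ Module.finrank F C := by
    rw [hK, evE.finrank_eq]
  obtain ⟨ψ⟩ := FiniteField.nonempty_algHom_of_finrank_dvd (F := F) (K := K) (L := C) hrank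
  exact ⟨(C.val).comp ψ, fun k => (ψ k).2⟩

end Cfsg.Agent.Lib.Helper99_Singer
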