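import Mathlib

/-!
Singer cycles and block-diagonal embeddings.

* `exists_singer`: a matrix `S ∈ GL_d(F)` (`F` finite with `q` elements) of order `q^d - 1`, whose
  determinant generates `Fˣ` and whose scalar powers are exactly the multiples of
  `(q^d - 1)/(q - 1)` (regular representation of `FiniteField.Extension`).
* `exists_det_one_of_order`: matrices of determinant one of any order `t ∣ q^d - 1` prime to `q - 1`.
* `blk`: block diagonal matrices `diag(A, B, 1)` transported to any index type.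
* `orderOf_mk_eq`: computing the order of an element of `PSL_n(F)` from the scalar powers of a lift.
-/

set_option autoImplicit false

namespace Cfsg.Agent.Lib.Helper99_SingerEmb

open Matrix

section singer

variable {F : Type*} [Field F] [Fintype F]

/-- geometric-sum arithmetic: `(q - 1) * ((q^d - 1)/(q - 1)) = q^d - 1` -/
theorem sub_one_mul_div (q d : ℕ) : (q - 1) * ((q ^ d - 1) / (q - 1)) = q ^ d - 1 := by
  apply Nat.mul_div_cancel'
  have := Nat.sub_dvd_pow_sub_pow q 1 d
  simpa using this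

/-- in a finite extension `E/F`, an element lies in `F` iff it is fixed by `x ↦ x ^ #F` -/
theorem mem_range_iff_pow_card {E : Type*} [Field E] [Algebra F E] (x : E) :
    x ∈ Set.range (algebraMap F E) ↔ x ^ Fintype.card F = x := by
  classical
  constructor
  · rintro ⟨c, rfl⟩
    rw [← map_pow, FiniteField.pow_card]
  · intro hx
    -- the roots of `X^q - X` in `E` are exactly the image of `F`
    have hq : 1 < Fintype.card F := Fintype.one_lt_card
    set P : Polynomial E := Polynomial.X ^ Fintype.card F - Polynomial.X with hP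
    have hP0 : P ≠ 0 := FiniteField.X_pow_card_sub_X_ne_zero E hq
    have hdeg : P.natDegree = Fintype.card F := FiniteField.X_pow_card_sub_X_natDegree_eq E hq
    have himg : (Finset.univ.image (algebraMap F E)) ⊆ P.roots.toFinset := by
      intro y hy
      rw [Finset.mem_image] at hy
      obtain ⟨c, -, rfl⟩ := hy
      rw [Multiset.mem_toFinset, Polynomial.mem_roots hP0, Polynomial.IsRoot.def]
      simp only [hP, Polynomial.eval_sub, Polynomial.eval_pow, Polynomial.eval_X]
      rw [← map_pow, FiniteField.pow_card, sub_self]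
    have hcard : (Finset.univ.image (algebraMap F E)).card = Fintype.card F := by
      rw [Finset.card_image_of_injective _ (algebraMap F E).injective, Finset.card_univ]
    have hle : P.roots.toFinset.card ≤ Fintype.card F := by
      calc P.roots.toFinset.card ≤ Multiset.card P.roots := Multiset.toFinset_card_le _
        _ ≤ P.natDegree := Polynomial.card_roots' P
        _ = Fintype.card F := hdeg
    have heq : Finset.univ.image (algebraMap F E) = P.roots.toFinset :=
      Finset.eq_of_subset_of_card_le himg (by rw [hcard]; exact hle)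
    have hxr : x ∈ P.roots.toFinset := by
      rw [Multiset.mem_toFinset, Polynomial.mem_roots hP0, Polynomial.IsRoot.def]
      simp only [hP, Polynomial.eval_sub, Polynomial.eval_pow, Polynomial.eval_X]
      rw [hx, sub_self]
    rw [← heq, Finset.mem_image] at hxr
    obtain ⟨c, -, hc⟩ := hxr
    exact ⟨c, hc⟩

/-- **Singer cycle.** A matrix `S` of order `q^d - 1` in `GL_d(F)` whose determinant generates
`Fˣ` and whose scalar powers are exactly the multiples of `(q^d-1)/(q-1)`. -/
theorem exists_singer (d : ℕ) (hd : 0 < d) :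
    ∃ S : Matrix (Fin d) (Fin d) F,
      (∀ j : ℕ, S ^ j = 1 ↔ (Fintype.card F ^ d - 1) ∣ j) ∧
      (∀ j : ℕ, (S ^ j).det = 1 ↔ (Fintype.card F - 1) ∣ j) ∧
      (∀ j : ℕ, (∃ c : F, S ^ j = c • (1 : Matrix (Fin d) (Fin d) F)) ↔
        ((Fintype.card F ^ d - 1) / (Fintype.card F - 1)) ∣ j) := by
  classical
  obtain ⟨p, hp⟩ := CharP.exists F
  have : Fact p.Prime := ⟨CharP.char_is_prime F p⟩
  have : NeZero d := ⟨hd.ne'⟩
  set q := Fintype.card F with hq
  have hq2 : 2 ≤ q := Fintype.one_lt_card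
  have hM := sub_one_mul_div q d
  set M := (q ^ d - 1) / (q - 1) with hMdef
  have hqd : 2 ≤ q ^ d := le_trans hq2 (Nat.le_self_pow hd.ne' q)
  have hMpos : 0 < M := by
    rcases Nat.eq_zero_or_pos M with h | h
    · rw [h, mul_zero] at hM; omega
    · exact h
  let E := FiniteField.Extension F p d
  have hrank : Module.finrank F E = d := FiniteField.finrank_extension F p d
  let b : Module.Basis (Fin d) F E := Module.finBasisOfFinrankEq F E hrank
  have hφinj : Function.Injective (Algebra.leftMulMatrix b) := Algebra.leftMulMatrix_injective b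
  let _ : Fintype E := Fintype.ofFinite E
  have hcardE : Nat.card E = q ^ d := by
    rw [FiniteField.natCard_extension, Nat.card_eq_fintype_card]
  obtain ⟨ω, hω⟩ := IsCyclic.exists_generator (α := Eˣ)
  have hordω : orderOf ω = q ^ d - 1 := by
    rw [orderOf_eq_card_of_forall_mem_zpowers hω, Nat.card_units, hcardE]
  have hpow1 : ∀ j : ℕ, ((ω : E) ^ j = 1) ↔ (q ^ d - 1) ∣ j := by
    intro j
    rw [← hordω, orderOf_dvd_iff_pow_eq_one, ← Units.val_pow_eq_pow_val, Units.val_eq_one]
  have hnorm : ∀ x : E, algebraMap F E (Algebra.norm F x) = x ^ M := by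
    intro x
    rw [FiniteField.algebraMap_norm_eq_pow, hcardE, Nat.card_eq_fintype_card]
  refine ⟨Algebra.leftMulMatrix b (ω : E), ?_, ?_, ?_⟩
  · intro j
    rw [← map_pow, ← hpow1 j]
    constructor
    · intro h
      apply hφinj
      rw [h, map_one]
    · intro h
      rw [h, map_one]
  · intro j
    rw [← map_pow, ← Algebra.norm_eq_matrix_det b]
    rw [← (algebraMap F E).injective.eq_iff, hnorm, map_one, ← pow_mul, hpow1, ← hM]
    rw [mul_comm j M, mul_comm (q - 1) M]
    exact Nat.mul_dvd_mul_iff_left hMpos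
  · intro j
    rw [← map_pow]
    have h1 : (∃ c : F, Algebra.leftMulMatrix b ((ω : E) ^ j) = c • (1 : Matrix (Fin d) (Fin d) F)) ↔
        ((ω : E) ^ j) ∈ Set.range (algebraMap F E) := by
      constructor
      · rintro ⟨c, hc⟩
        refine ⟨c, ?_⟩
        apply hφinj
        rw [hc, AlgHom.commutes, Algebra.algebraMap_eq_smul_one]
      · rintro ⟨c, hc⟩
        refine ⟨c, ?_⟩
        rw [← hc, AlgHom.commutes, Algebra.algebraMap_eq_smul_one]
    rw [h1, mem_range_iff_pow_card, ← pow_mul]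
    have hne : ((ω : E) ^ j) ≠ 0 := pow_ne_zero _ (Units.ne_zero ω)
    have h2 : (ω : E) ^ (j * q) = (ω : E) ^ j ↔ (ω : E) ^ (j * (q - 1)) = 1 := by
      have : j * q = j * (q - 1) + j := by
        have : q = (q - 1) + 1 := by omega
        nth_rewrite 1 [this]; ring
      rw [this, pow_add]
      constructor
      · intro h
        have := mul_right_cancel₀ hne (h.trans (one_mul _).symm)
        exact this
      · intro h; rw [h, one_mul]
    rw [h2, hpow1, ← hM, mul_comm j (q - 1)]
    exact Nat.mul_dvd_mul_iff_left (by omega)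

/-- matrices of determinant one of any prescribed order `t ∣ q^d - 1` prime to `q - 1` -/
theorem exists_det_one_of_order (d : ℕ) (hd : 0 < d) (t : ℕ)
    (ht : t ∣ Fintype.card F ^ d - 1) (hco : Nat.Coprime t (Fintype.card F - 1)) :
    ∃ X : Matrix (Fin d) (Fin d) F, X.det = 1 ∧ ∀ j : ℕ, X ^ j = 1 ↔ t ∣ j := by
  obtain ⟨S, h1, h2, -⟩ := exists_singer (F := F) d hd
  set q := Fintype.card F with hq
  have hq2 : 2 ≤ q := Fintype.one_lt_card
  have hqd : 2 ≤ q ^ d := le_trans hq2 (Nat.le_self_pow hd.ne' q)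
  obtain ⟨e, he⟩ := ht
  have he0 : 0 < e := by
    rcases Nat.eq_zero_or_pos e with h | h
    · rw [h, mul_zero] at he; omega
    · exact h
  have ht0 : 0 < t := by
    rcases Nat.eq_zero_or_pos t with h | h
    · rw [h, zero_mul] at he; omega
    · exact h
  refine ⟨S ^ e, ?_, ?_⟩
  · rw [h2]
    have hdvd : (q - 1) ∣ t * e := by
      rw [← he]
      have := Nat.sub_dvd_pow_sub_pow q 1 d
      simpa using this
    exact (hco.symm.dvd_of_dvd_mul_left hdvd)
  · intro j
    rw [← pow_mul, h1, he]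
    rw [mul_comm t e]
    exact Nat.mul_dvd_mul_iff_left he0

/-- a scalar power of a matrix of order prime to `q - 1` is trivial -/
theorem scalar_eq_one_of_pow {d : ℕ} (hd : 0 < d)
    (X : Matrix (Fin d) (Fin d) F) (t : ℕ) (ht : 0 < t)
    (hX : X ^ t = 1) (hco : Nat.Coprime t (Fintype.card F - 1)) (j : ℕ) (μ : F)
    (h : X ^ j = μ • (1 : Matrix (Fin d) (Fin d) F)) : μ = 1 := by
  have h1 : (μ • (1 : Matrix (Fin d) (Fin d) F)) ^ t = 1 := by
    rw [← h, ← pow_mul, mul_comm, pow_mul, hX, one_pow]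
  rw [smul_pow, one_pow] at h1
  have h2 : μ ^ t = 1 := by
    have := congrFun (congrFun h1 ⟨0, hd⟩) ⟨0, hd⟩
    simpa using this
  have hμ0 : μ ≠ 0 := by
    rintro rfl
    rw [zero_pow ht.ne'] at h2
    exact zero_ne_one h2
  have h3 : μ ^ (Fintype.card F - 1) = 1 := FiniteField.pow_card_sub_one_eq_one μ hμ0
  have h4 : μ ^ (Nat.gcd t (Fintype.card F - 1)) = 1 := pow_gcd_eq_one.2 ⟨h2, h3⟩
  rw [hco, pow_one] at h4
  exact h4

end singer

section blocks

variable {R : Type*} [CommRing R]
variable {α β γ ι : Type*} [Fintype α] [Fintype β] [Fintype γ] [Fintype ι]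
  [DecidableEq α] [DecidableEq β] [DecidableEq γ] [DecidableEq ι]

/-- block diagonal matrix `diag(A, B, 1)` transported along `e` -/
noncomputable def blk (e : (α ⊕ β) ⊕ γ ≃ ι) (A : Matrix α α R) (B : Matrix β β R) :
    Matrix ι ι R :=
  Matrix.reindexAlgEquiv R R e (fromBlocks (fromBlocks A 0 0 B) 0 0 (1 : Matrix γ γ R))

theorem blk_mul (e : (α ⊕ β) ⊕ γ ≃ ι) (A A' : Matrix α α R) (B B' : Matrix β β R) :
    blk e (A * A') (B * B') = blk e A B * blk e A' B' := by
  unfold blk
  rw [← map_mul]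
  congr 1
  rw [fromBlocks_multiply]
  simp only [Matrix.mul_zero, Matrix.zero_mul, add_zero, zero_add, Matrix.mul_one]
  rw [fromBlocks_multiply]
  simp only [Matrix.mul_zero, Matrix.zero_mul, add_zero, zero_add]

theorem blk_one (e : (α ⊕ β) ⊕ γ ≃ ι) : blk e (1 : Matrix α α R) (1 : Matrix β β R) = 1 := by
  unfold blk
  rw [fromBlocks_one, fromBlocks_one, map_one]

theorem blk_pow (e : (α ⊕ β) ⊕ γ ≃ ι) (A : Matrix α α R) (B : Matrix β β R) (j : ℕ) :
    blk e A B ^ j = blk e (A ^ j) (B ^ j) := by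
  induction j with
  | zero => simp [blk_one]
  | succ j ih => rw [pow_succ, pow_succ, pow_succ, ih, blk_mul]

theorem det_blk (e : (α ⊕ β) ⊕ γ ≃ ι) (A : Matrix α α R) (B : Matrix β β R) :
    (blk e A B).det = A.det * B.det := by
  unfold blk
  rw [Matrix.det_reindexAlgEquiv, det_fromBlocks_zero₂₁, det_fromBlocks_zero₂₁, det_one, mul_one]

theorem blk_apply_inl_inl (e : (α ⊕ β) ⊕ γ ≃ ι) (A : Matrix α α R) (B : Matrix β β R) (i j : α) :
    blk e A B (e (Sum.inl (Sum.inl i))) (e (Sum.inl (Sum.inl j))) = A i j := by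
  simp [blk, Matrix.coe_reindexAlgEquiv, Matrix.reindex_apply]

theorem blk_apply_inr_inr (e : (α ⊕ β) ⊕ γ ≃ ι) (A : Matrix α α R) (B : Matrix β β R) (i j : β) :
    blk e A B (e (Sum.inl (Sum.inr i))) (e (Sum.inl (Sum.inr j))) = B i j := by
  simp [blk, Matrix.coe_reindexAlgEquiv, Matrix.reindex_apply]

theorem blk_apply_inr (e : (α ⊕ β) ⊕ γ ≃ ι) (A : Matrix α α R) (B : Matrix β β R) (i j : γ) :
    blk e A B (e (Sum.inr i)) (e (Sum.inr j)) = (1 : Matrix γ γ R) i j := by
  simp [blk, Matrix.coe_reindexAlgEquiv, Matrix.reindex_apply]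

/-- if `diag(A,B,1)` is the scalar `μ` then so are `A` and `B` -/
theorem eq_smul_of_blk_eq_smul (e : (α ⊕ β) ⊕ γ ≃ ι) (A : Matrix α α R) (B : Matrix β β R) (μ : R)
    (h : blk e A B = μ • (1 : Matrix ι ι R)) :
    A = μ • (1 : Matrix α α R) ∧ B = μ • (1 : Matrix β β R) := by
  constructor
  · ext i j
    rw [← blk_apply_inl_inl e A B i j, h]
    simp [Matrix.one_apply]
  · ext i j
    rw [← blk_apply_inr_inr e A B i j, h]
    simp [Matrix.one_apply]

theorem blk_eq_one_iff (e : (α ⊕ β) ⊕ γ ≃ ι) (A : Matrix α α R) (B : Matrix β β R) :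
    blk e A B = 1 ↔ A = 1 ∧ B = 1 := by
  constructor
  · intro h
    have h' : blk e A B = (1 : R) • (1 : Matrix ι ι R) := by rw [h, one_smul]
    have := eq_smul_of_blk_eq_smul e A B 1 h'
    simpa using this
  · rintro ⟨rfl, rfl⟩
    exact blk_one e

end blocks

section psl

open scoped MatrixGroups

variable {F : Type*} [Field F] {n : ℕ}

/-- a power of the class of `g` in `PSL_n(F)` is trivial iff that power of `g` is scalar -/
theorem mk_pow_eq_one_iff (g : SL(n, F)) (j : ℕ) :
    ((QuotientGroup.mk g : PSL(n, F)) ^ j = 1) ↔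
      ∃ c : F, ((g ^ j : SL(n, F)) : Matrix (Fin n) (Fin n) F) = c • (1 : Matrix (Fin n) (Fin n) F) := by
  rw [← QuotientGroup.mk_pow, QuotientGroup.eq_one_iff, Matrix.SpecialLinearGroup.mem_center_iff]
  constructor
  · rintro ⟨c, -, hc⟩
    exact ⟨c, by rw [← hc, Matrix.scalar_apply, Matrix.smul_one_eq_diagonal]⟩
  · rintro ⟨c, hc⟩
    refine ⟨c, ?_, ?_⟩
    · have hdet := (g ^ j).2
      rw [hc, Matrix.det_smul, Matrix.det_one, mul_one] at hdet
      exact hdet
    · rw [hc, Matrix.scalar_apply, Matrix.smul_one_eq_diagonal]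

/-- the order of the class of `g` in `PSL_n(F)` from the scalar powers of `g` -/
theorem orderOf_mk_eq (g : SL(n, F)) (N : ℕ)
    (h : ∀ j : ℕ, (∃ c : F, ((g ^ j : SL(n, F)) : Matrix (Fin n) (Fin n) F) =
      c • (1 : Matrix (Fin n) (Fin n) F)) ↔ N ∣ j) :
    orderOf (QuotientGroup.mk g : PSL(n, F)) = N := by
  apply Nat.dvd_antisymm
  · apply orderOf_dvd_of_pow_eq_one
    rw [mk_pow_eq_one_iff, h]
  · rw [← h, ← mk_pow_eq_one_iff]
    exact pow_orderOf_eq_one _

end psl

/-- the standard equivalence `(Fin a ⊕ Fin b) ⊕ Fin c ≃ Fin n` for `a + b + c = n` -/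
def blkEquiv {a b c n : ℕ} (h : a + b + c = n) : (Fin a ⊕ Fin b) ⊕ Fin c ≃ Fin n :=
  ((Equiv.sumCongr finSumFinEquiv (Equiv.refl _)).trans finSumFinEquiv).trans (finCongr h)

section pslblk

open scoped MatrixGroups

variable {F : Type*} [Field F]

/-- an element of `PSL_n(F)` of order `N` from two commuting blocks: `X` (of size `a ≥ 1`, none of
whose powers is a nontrivial scalar) and `Y`. -/
theorem exists_psl_orderOf_blk {a b c n : ℕ} (h : a + b + c = n)
    (X : Matrix (Fin a) (Fin a) F) (Y : Matrix (Fin b) (Fin b) F) (hX : X.det = 1) (hY : Y.det = 1)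
    (N : ℕ) (hN : ∀ j : ℕ, (X ^ j = 1 ∧ Y ^ j = 1) ↔ N ∣ j)
    (hsc : ∀ (j : ℕ) (μ : F), X ^ j = μ • (1 : Matrix (Fin a) (Fin a) F) → μ = 1) :
    ∃ g : PSL(n, F), orderOf g = N := by
  classical
  set e := blkEquiv h with he
  have hdet : (blk e X Y).det = 1 := by rw [det_blk, hX, hY, mul_one]
  set G : SL(n, F) := ⟨blk e X Y, hdet⟩ with hG
  refine ⟨QuotientGroup.mk G, ?_⟩
  apply orderOf_mk_eq
  intro j
  have hpow : (G ^ j : SL(n, F)).1 = blk e (X ^ j) (Y ^ j) := by
    rw [Matrix.SpecialLinearGroup.coe_pow]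
    exact blk_pow e X Y j
  rw [← hN j]
  constructor
  · rintro ⟨μ, hμ⟩
    have hμ' : blk e (X ^ j) (Y ^ j) = μ • (1 : Matrix (Fin n) (Fin n) F) := by
      rw [← hpow]; exact hμ
    obtain ⟨h1, h2⟩ := eq_smul_of_blk_eq_smul e _ _ μ hμ'
    have := hsc j μ h1
    subst this
    rw [one_smul] at h1 h2
    exact ⟨h1, h2⟩
  · rintro ⟨h1, h2⟩
    refine ⟨1, ?_⟩
    rw [hpow, h1, h2, blk_one, one_smul]

end pslblk

end Cfsg.Agent.Lib.Helper99_SingerEmb
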