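import Mathlib

/-!
# Zsigmondy's theorem (case `b = 1`)

For `a > 1`, `n > 1` the number `a ^ n - 1` has a primitive prime divisor, except when
`(a, n) = (2, 6)` or `n = 2` and `a + 1` is a power of `2`.

The proof evaluates the cyclotomic polynomial `Φ_n` at `a`.
-/

set_option autoImplicit false

namespace Cfsg.Agent.Lib.Helper99_Zsigmondy

open Polynomial

/-- divisibility of `a^k - 1` in terms of `ZMod r`. -/
lemma dvd_pow_sub_one_iff {a r k : ℕ} (ha : 1 ≤ a) :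
    r ∣ a ^ k - 1 ↔ ((a : ZMod r)) ^ k = 1 := by
  rw [← ZMod.natCast_eq_zero_iff, Nat.cast_sub (Nat.one_le_pow _ _ ha), Nat.cast_pow, Nat.cast_one,
    sub_eq_zero]

/-- if `r ∣ Φ_n(a)` as integers, then `a` is a root of `Φ_n` modulo `r`. -/
lemma isRoot_of_dvd_eval {a n r : ℕ} (h : (r : ℤ) ∣ (cyclotomic n ℤ).eval (a : ℤ)) :
    (cyclotomic n (ZMod r)).IsRoot (a : ZMod r) := by
  rw [IsRoot.def, ← map_cyclotomic_int n (ZMod r)]
  have h1 : ((a : ℕ) : ZMod r) = (Int.castRingHom (ZMod r)) (a : ℤ) := by simp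
  rw [h1, eval_map, eval₂_hom]
  rw [eq_intCast, ZMod.intCast_zmod_eq_zero_iff_dvd]
  exact h

/-- A prime divisor `r` of `Φ_n(a)` not dividing `n` is a primitive prime divisor of `a^n - 1`. -/
lemma ppd_of_dvd_cyclotomic {a n r : ℕ} (ha : 1 ≤ a) (hr : r.Prime) (hrn : ¬ r ∣ n)
    (h : (r : ℤ) ∣ (cyclotomic n ℤ).eval (a : ℤ)) :
    r ∣ a ^ n - 1 ∧ ∀ k, 0 < k → k < n → ¬ r ∣ a ^ k - 1 := by
  have : Fact r.Prime := ⟨hr⟩
  have : NeZero ((n : ZMod r)) := ⟨by rwa [Ne, ZMod.natCast_eq_zero_iff]⟩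
  have hroot := isRoot_of_dvd_eval h
  rw [isRoot_cyclotomic_iff] at hroot
  refine ⟨(dvd_pow_sub_one_iff ha).mpr hroot.pow_eq_one, ?_⟩
  intro k hk hkn hdvd
  exact hroot.pow_ne_one_of_pos_of_lt hk.ne' hkn ((dvd_pow_sub_one_iff ha).mp hdvd)

/-- Structure of a prime divisor `p` of `Φ_n(a)` that divides `n`: `n = p^e m` with `p ∤ m`, `e > 0`,
and `a` has order exactly `m` modulo `p`; in particular `m ∣ p - 1`. -/
lemma structure_of_dvd_cyclotomic_of_dvd {a n p : ℕ} (hn : 0 < n) (hp : p.Prime) (hpn : p ∣ n)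
    (h : (p : ℤ) ∣ (cyclotomic n ℤ).eval (a : ℤ)) :
    ∃ e m : ℕ, 0 < e ∧ ¬ p ∣ m ∧ n = p ^ e * m ∧ m ∣ p - 1 ∧ orderOf (a : ZMod p) = m ∧ ¬ p ∣ a := by
  have : Fact p.Prime := ⟨hp⟩
  obtain ⟨e, m, hpm, hnem⟩ := Nat.exists_eq_pow_mul_and_not_dvd hn.ne' p hp.ne_one
  have he : 0 < e := by
    rcases Nat.eq_zero_or_pos e with he | he
    · exfalso
      rw [he, pow_zero, one_mul] at hnem
      exact hpm (hnem ▸ hpn)
    · exact he
  have : NeZero ((m : ZMod p)) := ⟨by rwa [Ne, ZMod.natCast_eq_zero_iff]⟩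
  have hroot := isRoot_of_dvd_eval h
  rw [hnem, isRoot_cyclotomic_prime_pow_mul_iff_of_charP] at hroot
  have hm0 : 0 < m := Nat.pos_of_ne_zero (fun h0 => hpm (h0 ▸ dvd_zero p))
  have ha0 : (a : ZMod p) ≠ 0 := by
    intro h0
    have := hroot.pow_eq_one
    rw [h0, zero_pow hm0.ne'] at this
    exact zero_ne_one this
  have hpa : ¬ p ∣ a := by rwa [← ZMod.natCast_eq_zero_iff]
  refine ⟨e, m, he, hpm, hnem, ?_, hroot.eq_orderOf.symm, hpa⟩
  exact hroot.dvd_of_pow_eq_one _ (ZMod.pow_card_sub_one_eq_one ha0)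

/-- the value `Φ_n(a)` as a natural number -/
noncomputable def phi (a n : ℕ) : ℕ := ((cyclotomic n ℤ).eval (a : ℤ)).natAbs

lemma natCast_dvd_eval_iff {a n r : ℕ} : (r : ℤ) ∣ (cyclotomic n ℤ).eval (a : ℤ) ↔ r ∣ phi a n :=
  Int.natCast_dvd

/-- `(a^d - 1) * Φ_n(a) ∣ a^n - 1` for a proper divisor `d` of `n`. -/
lemma pow_sub_one_mul_phi_dvd {a d n : ℕ} (ha : 1 ≤ a) (hd : d ∈ n.properDivisors) :
    (a ^ d - 1) * phi a n ∣ a ^ n - 1 := by
  have h := X_pow_sub_one_mul_cyclotomic_dvd_X_pow_sub_one_of_dvd ℤ hd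
  have h2 := map_dvd (evalRingHom (a : ℤ)) h
  simp only [coe_evalRingHom, eval_mul, eval_sub, eval_pow, eval_X, eval_one] at h2
  have h3 := Int.natAbs_dvd_natAbs.mpr h2
  rw [Int.natAbs_mul] at h3
  have e1 : ∀ k : ℕ, ((a : ℤ) ^ k - 1).natAbs = a ^ k - 1 := by
    intro k
    have : ((a : ℤ) ^ k - 1) = ((a ^ k - 1 : ℕ) : ℤ) := by
      rw [Nat.cast_sub (Nat.one_le_pow _ _ ha)]; simp
    rw [this, Int.natAbs_natCast]
  rw [e1, e1] at h3
  exact h3

lemma sq_sub_one_eq (x : ℕ) (hx : 1 ≤ x) : x ^ 2 - 1 = (x - 1) * (x + 1) := by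
  obtain ⟨z, rfl⟩ : ∃ z, x = z + 1 := ⟨x - 1, by omega⟩
  have : (z + 1) ^ 2 = z * (z + 2) + 1 := by ring
  rw [this]
  simp

/-- `p^2 ∤ Φ_n(a)` for a prime `p ∣ n`, `n ≥ 3`. -/
lemma not_sq_dvd_phi {a n p : ℕ} (ha : 2 ≤ a) (hn : 3 ≤ n) (hp : p.Prime) (hpn : p ∣ n)
    (h : p ∣ phi a n) : ¬ p ^ 2 ∣ phi a n := by
  have : Fact p.Prime := ⟨hp⟩
  obtain ⟨e, m, he, hpm, hnem, hmp, hord, hpa⟩ :=
    structure_of_dvd_cyclotomic_of_dvd (by omega) hp hpn (natCast_dvd_eval_iff.mpr h)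
  intro hsq
  -- d = n / p
  set d := p ^ (e - 1) * m with hd
  have hnd : n = d * p := by
    rw [hnem, hd]
    obtain ⟨e', rfl⟩ : ∃ e', e = e' + 1 := ⟨e - 1, by omega⟩
    simp only [Nat.add_sub_cancel]
    ring
  have hm0 : 0 < m := Nat.pos_of_ne_zero (fun h0 => hpm (h0 ▸ dvd_zero p))
  have hd0 : 0 < d := Nat.mul_pos (Nat.pow_pos hp.pos) hm0
  have hdprop : d ∈ n.properDivisors := by
    rw [Nat.mem_properDivisors]
    refine ⟨⟨p, hnd⟩, ?_⟩
    rw [hnd]
    exact lt_mul_of_one_lt_right hd0 hp.one_lt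
  set x := a ^ d with hx
  have hx2 : 2 ≤ x := by
    calc 2 ≤ a := ha
      _ = a ^ 1 := (pow_one a).symm
      _ ≤ a ^ d := Nat.pow_le_pow_right (by omega) hd0
  have hxp : x ^ p = a ^ n := by rw [hx, ← pow_mul, ← hnd]
  have hdvd : (x - 1) * phi a n ∣ x ^ p - 1 := by
    rw [hxp]; exact pow_sub_one_mul_phi_dvd (by omega) hdprop
  have hpx1 : p ∣ x - 1 := by
    rw [hx, dvd_pow_sub_one_iff (by omega), hd, mul_comm, pow_mul]
    have : (a : ZMod p) ^ m = 1 := by rw [← hord]; exact pow_orderOf_eq_one _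
    rw [this, one_pow]
  have hpx : ¬ p ∣ x := fun hh => hpa (hp.dvd_of_dvd_pow hh)
  rcases hp.eq_two_or_odd' with rfl | hodd
  · -- p = 2
    have hm1 : m = 1 := by
      have : m ∣ 1 := hmp
      exact Nat.dvd_one.mp this
    have he2 : 2 ≤ e := by
      by_contra hlt
      have : e = 1 := by omega
      rw [hnem, this, hm1] at hn
      omega
    -- x is an odd square
    have hsqx : ∃ y, x = y ^ 2 ∧ Odd y := by
      refine ⟨a ^ (2 ^ (e - 2)), ?_, ?_⟩
      · rw [hx, hd, hm1, mul_one, ← pow_mul]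
        congr 1
        obtain ⟨e', rfl⟩ : ∃ e', e = e' + 2 := ⟨e - 2, by omega⟩
        simp only [Nat.add_sub_cancel]
        have : e' + 2 - 1 = e' + 1 := by omega
        rw [this, pow_succ]
      · apply Odd.pow
        rw [← Nat.not_even_iff_odd, even_iff_two_dvd]
        exact hpa
    obtain ⟨y, hxy, hyodd⟩ := hsqx
    have hx4 : x % 4 = 1 := by
      obtain ⟨k, rfl⟩ := hyodd
      rw [hxy]
      have : (2 * k + 1) ^ 2 = 4 * (k * k + k) + 1 := by ring
      rw [this]; omega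
    have hfac : x ^ 2 - 1 = (x - 1) * (x + 1) := sq_sub_one_eq x (by omega)
    rw [hfac] at hdvd
    have hphi : phi a n ∣ x + 1 := Nat.dvd_of_mul_dvd_mul_left (by omega) hdvd
    have : 2 ^ 2 ∣ x + 1 := hsq.trans hphi
    omega
  · -- p odd: LTE
    have hlte := padicValNat.pow_sub_pow (p := p) hodd (x := x) (y := 1) (by omega)
      (by simpa using hpx1) hpx (n := p) hp.ne_zero
    rw [one_pow, padicValNat_self] at hlte
    have hx10 : x - 1 ≠ 0 := by omega
    have hxp0 : x ^ p - 1 ≠ 0 := by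
      have : 2 ^ p ≤ x ^ p := Nat.pow_le_pow_left hx2 p
      have : 2 ≤ 2 ^ p := by
        calc 2 = 2 ^ 1 := rfl
          _ ≤ 2 ^ p := Nat.pow_le_pow_right (by norm_num) hp.one_lt.le
      omega
    have h1 : p ^ (padicValNat p (x - 1)) ∣ x - 1 := pow_padicValNat_dvd
    have h2 : p ^ (padicValNat p (x - 1) + 2) ∣ x ^ p - 1 := by
      rw [pow_add]
      exact (Nat.mul_dvd_mul h1 hsq).trans hdvd
    rw [padicValNat_dvd_iff_le hxp0, hlte] at h2
    omega

lemma eval_eq_phi {a n : ℕ} (ha : 2 ≤ a) : (cyclotomic n ℤ).eval (a : ℤ) = (phi a n : ℤ) := by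
  have hpos : 0 < (cyclotomic n ℤ).eval (a : ℤ) := cyclotomic_pos' n (by exact_mod_cast ha)
  rw [phi, Int.natCast_natAbs, abs_of_pos hpos]

lemma phi_pos {a n : ℕ} (ha : 2 ≤ a) : 0 < phi a n := by
  have hpos : 0 < (cyclotomic n ℤ).eval (a : ℤ) := cyclotomic_pos' n (by exact_mod_cast ha)
  rw [eval_eq_phi ha] at hpos
  exact_mod_cast hpos

lemma phi_lower {a n : ℕ} (ha : 2 ≤ a) (hn : 2 ≤ n) : (a - 1) ^ n.totient < phi a n :=
  sub_one_pow_totient_lt_natAbs_cyclotomic_eval hn (by omega)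

lemma phi_upper {a n : ℕ} (ha : 2 ≤ a) : phi a n ≤ (a + 1) ^ n.totient := by
  have h := cyclotomic_eval_le_add_one_pow_totient (q := (a : ℝ)) (by exact_mod_cast ha) n
  have h2 : (cyclotomic n ℝ).eval (a : ℝ) = ((phi a n : ℕ) : ℝ) := by
    have := cyclotomic.eval_apply (a : ℤ) n (algebraMap ℤ ℝ)
    simp only [algebraMap_int_eq, eq_intCast, Int.cast_natCast] at this
    rw [this, eval_eq_phi ha]
    simp
  rw [h2] at h
  exact_mod_cast h

lemma phi_one {a : ℕ} (ha : 1 ≤ a) : phi a 1 = a - 1 := by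
  rw [phi, cyclotomic_one]
  simp only [eval_sub, eval_X, eval_one]
  have : ((a : ℤ) - 1) = ((a - 1 : ℕ) : ℤ) := by rw [Nat.cast_sub ha]; simp
  rw [this, Int.natAbs_natCast]

lemma phi_two {a : ℕ} : phi a 2 = a + 1 := by
  rw [phi, cyclotomic_two]
  simp only [eval_add, eval_X, eval_one]
  have : ((a : ℤ) + 1) = ((a + 1 : ℕ) : ℤ) := by simp
  rw [this, Int.natAbs_natCast]

/-- `Φ_{kp}(a) = Φ_k(a^p)` if `p ∣ k`. -/
lemma phi_mul_prime_of_dvd {a k p : ℕ} (hp : p.Prime) (hpk : p ∣ k) :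
    phi a (k * p) = phi (a ^ p) k := by
  have h := cyclotomic_expand_eq_cyclotomic hp hpk ℤ
  have h2 := congrArg (eval (a : ℤ)) h
  rw [expand_eval] at h2
  rw [phi, phi, ← h2]
  simp

/-- `Φ_{kp}(a) Φ_k(a) = Φ_k(a^p)` if `p ∤ k`. -/
lemma phi_mul_prime_of_not_dvd {a k p : ℕ} (hp : p.Prime) (hpk : ¬ p ∣ k) :
    phi a (k * p) * phi a k = phi (a ^ p) k := by
  have h := cyclotomic_expand_eq_cyclotomic_mul hp hpk ℤ
  have h2 := congrArg (eval (a : ℤ)) h
  rw [expand_eval, eval_mul] at h2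
  rw [phi, phi, phi, ← Int.natAbs_mul, ← h2]
  simp

lemma three_mul_add_one_le_two_pow (p : ℕ) (hp : 5 ≤ p) : 3 * p + 1 ≤ 2 ^ p := by
  induction p, hp using Nat.le_induction with
  | base => norm_num
  | succ k hk ih =>
    rw [pow_succ]
    omega

/-- the size contradiction: `Φ_n(a) = p` with `p ∣ n` is impossible apart from `(a, n) = (2, 6)`. -/
lemma size_contra {a n p e m : ℕ} (ha : 2 ≤ a) (hn : 3 ≤ n) (hp : p.Prime) (he : 0 < e)
    (hpm : ¬ p ∣ m) (hnem : n = p ^ e * m) (hmp : m ∣ p - 1) (hord : orderOf (a : ZMod p) = m)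
    (hpa : ¬ p ∣ a) (hphi : phi a n = p) (h6 : ¬ (a = 2 ∧ n = 6)) : False := by
  have hm0 : 0 < m := Nat.pos_of_ne_zero (fun h0 => hpm (h0 ▸ dvd_zero p))
  have hpn : p ∣ n := by
    rw [hnem]; exact Dvd.dvd.mul_right (dvd_pow_self p he.ne') m
  have hlow := phi_lower ha (by omega : 2 ≤ n)
  rw [hphi] at hlow
  have hp2 : p < 2 ^ p := Nat.lt_two_pow_self
  rcases Nat.lt_or_ge 2 a with ha3 | ha2
  · -- a ≥ 3
    have h1 : p - 1 ∣ n.totient := by
      rw [← Nat.totient_prime hp]; exact Nat.totient_dvd_of_dvd hpn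
    have h2 : p - 1 ≤ n.totient := Nat.le_of_dvd (Nat.totient_pos.mpr (by omega)) h1
    have h3 : 2 ^ (p - 1) ≤ (a - 1) ^ n.totient := by
      calc 2 ^ (p - 1) ≤ 2 ^ n.totient := Nat.pow_le_pow_right (by norm_num) h2
        _ ≤ (a - 1) ^ n.totient := Nat.pow_le_pow_left (by omega) _
    have h4 : p - 1 < 2 ^ (p - 1) := Nat.lt_two_pow_self
    have := hp.two_le
    omega
  · -- a = 2
    have ha2' : a = 2 := by omega
    subst ha2'
    have hp2' : p ≠ 2 := fun h => hpa (h ▸ dvd_rfl)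
    have hp3 : 3 ≤ p := by
      have := hp.two_le
      omega
    have hm2 : 2 ≤ m := by
      by_contra hlt
      have hm1 : m = 1 := by omega
      have : ((2 : ℕ) : ZMod p) ^ 1 = 1 := by
        rw [← hm1, ← hord]; exact pow_orderOf_eq_one _
      rw [← dvd_pow_sub_one_iff (by norm_num)] at this
      have : p ∣ 1 := by simpa using this
      have := Nat.le_of_dvd (by norm_num) this
      omega
    rcases Nat.lt_or_ge 1 e with he2 | he1
    · -- e ≥ 2
      set k := p ^ (e - 1) * m with hk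
      have hnk : n = k * p := by
        rw [hnem, hk]
        obtain ⟨e', rfl⟩ : ∃ e', e = e' + 1 := ⟨e - 1, by omega⟩
        simp only [Nat.add_sub_cancel]
        ring
      have hpk : p ∣ k := by
        rw [hk]
        exact Dvd.dvd.mul_right (dvd_pow_self p (by omega)) m
      have hk2 : 2 ≤ k := by
        have := Nat.le_of_dvd (Nat.mul_pos (Nat.pow_pos hp.pos) hm0) hpk
        omega
      have h1 : phi 2 n = phi (2 ^ p) k := by rw [hnk]; exact phi_mul_prime_of_dvd hp hpk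
      have h2 := phi_lower (a := 2 ^ p) (n := k) (by omega) hk2
      rw [← h1, hphi] at h2
      have h3 : (2 ^ p - 1) ^ 1 ≤ (2 ^ p - 1) ^ k.totient :=
        Nat.pow_le_pow_right (by omega) (Nat.totient_pos.mpr (by omega))
      rw [pow_one] at h3
      omega
    · -- e = 1
      have he1' : e = 1 := by omega
      subst he1'
      rw [pow_one] at hnem
      have hnm : n = m * p := by rw [hnem, mul_comm]
      have h1 : phi 2 n * phi 2 m = phi (2 ^ p) m := by rw [hnm]; exact phi_mul_prime_of_not_dvd hp hpm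
      have h2 := phi_lower (a := 2 ^ p) (n := m) (by omega) hm2
      have h3 := phi_upper (a := 2) (n := m) (by norm_num)
      rw [← h1, hphi] at h2
      have h4 : p * phi 2 m ≤ p * 3 ^ m.totient := Nat.mul_le_mul_left p h3
      have htot : 1 ≤ m.totient := Nat.totient_pos.mpr hm0
      rcases Nat.lt_or_ge p 5 with hp5 | hp5
      · -- p = 3
        have hp3' : p = 3 := by
          interval_cases p
          · rfl
          · exact absurd hp (by norm_num)
        subst hp3'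
        have hm2' : m ≤ 2 := Nat.le_of_dvd (by norm_num) hmp
        have : m = 2 := by omega
        subst this
        exact h6 ⟨rfl, by omega⟩
      · have h5 := three_mul_add_one_le_two_pow p hp5
        have h6' : (3 * p) ^ m.totient ≤ (2 ^ p - 1) ^ m.totient :=
          Nat.pow_le_pow_left (by omega) _
        have h7 : (3 * p) ^ m.totient = 3 ^ m.totient * p ^ m.totient := mul_pow 3 p _
        have h8 : p ^ 1 ≤ p ^ m.totient := Nat.pow_le_pow_right hp.pos htot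
        rw [pow_one] at h8
        have h9 : 3 ^ m.totient * p ≤ 3 ^ m.totient * p ^ m.totient := Nat.mul_le_mul_left _ h8
        have h10 : p * 3 ^ m.totient = 3 ^ m.totient * p := mul_comm _ _
        omega

/-- two distinct primes cannot both divide `Φ_n(a)` and `n`. -/
lemma prime_unique {a n p p' : ℕ} (hn : 0 < n) (hp : p.Prime) (hp' : p'.Prime)
    (hpn : p ∣ n) (hpn' : p' ∣ n) (h : p ∣ phi a n) (h' : p' ∣ phi a n) : p' = p := by
  by_contra hne
  obtain ⟨e, m, he, hpm, hnem, hmp, -, -⟩ :=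
    structure_of_dvd_cyclotomic_of_dvd hn hp hpn (natCast_dvd_eval_iff.mpr h)
  obtain ⟨e', m', he', hpm', hnem', hmp', -, -⟩ :=
    structure_of_dvd_cyclotomic_of_dvd hn hp' hpn' (natCast_dvd_eval_iff.mpr h')
  have hm0 : 0 < m := Nat.pos_of_ne_zero (fun h0 => hpm (h0 ▸ dvd_zero p))
  have hm0' : 0 < m' := Nat.pos_of_ne_zero (fun h0 => hpm' (h0 ▸ dvd_zero p'))
  have h1 : p' ∣ m := by
    have : p' ∣ p ^ e * m := hnem ▸ hpn'
    rcases (Nat.Prime.dvd_mul hp').mp this with h | h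
    · exact absurd ((Nat.prime_dvd_prime_iff_eq hp' hp).mp (hp'.dvd_of_dvd_pow h)) hne
    · exact h
  have h2 : p ∣ m' := by
    have : p ∣ p' ^ e' * m' := hnem' ▸ hpn
    rcases (Nat.Prime.dvd_mul hp).mp this with h | h
    · exact absurd ((Nat.prime_dvd_prime_iff_eq hp hp').mp (hp.dvd_of_dvd_pow h)).symm hne
    · exact h
  have h3 : p' ≤ m := Nat.le_of_dvd hm0 h1
  have h4 : p ≤ m' := Nat.le_of_dvd hm0' h2
  have h5 : m ≤ p - 1 := Nat.le_of_dvd (by have := hp.two_le; omega) hmp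
  have h6 : m' ≤ p' - 1 := Nat.le_of_dvd (by have := hp'.two_le; omega) hmp'
  have := hp.two_le
  have := hp'.two_le
  omega

/-- **Zsigmondy's theorem** (case `b = 1`). -/
theorem zsigmondy (a n : ℕ) (ha : 1 < a) (hn : 1 < n) (h6 : ¬ (a = 2 ∧ n = 6))
    (h2 : ¬ (n = 2 ∧ ∃ m : ℕ, a + 1 = 2 ^ m)) :
    ∃ r : ℕ, r.Prime ∧ r ∣ a ^ n - 1 ∧ ∀ k : ℕ, 0 < k → k < n → ¬ r ∣ a ^ k - 1 := by
  by_contra hno
  -- every prime divisor of `Φ_n(a)` divides `n`
  have hK : ∀ r : ℕ, r.Prime → r ∣ phi a n → r ∣ n := by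
    intro r hr hrphi
    by_contra hrn
    obtain ⟨h1, h2'⟩ := ppd_of_dvd_cyclotomic (by omega) hr hrn (natCast_dvd_eval_iff.mpr hrphi)
    exact hno ⟨r, hr, h1, h2'⟩
  have hlow := phi_lower (a := a) (n := n) (by omega) (by omega)
  have hphi2 : 2 ≤ phi a n := by
    have : 1 ≤ (a - 1) ^ n.totient := Nat.one_le_pow _ _ (by omega)
    omega
  rcases Nat.lt_or_ge 2 n with hn3 | hn2
  · -- n ≥ 3
    obtain ⟨p, hp, hpphi⟩ := Nat.exists_prime_and_dvd (by omega : phi a n ≠ 1)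
    have hpn := hK p hp hpphi
    have hpow := Nat.eq_prime_pow_of_unique_prime_dvd (n := phi a n) (p := p) (by omega)
      (fun {d} hd hdphi => prime_unique (by omega) hp hd hpn (hK d hd hdphi) hpphi hdphi)
    set k := (phi a n).primeFactorsList.length with hk
    have hnsq := not_sq_dvd_phi (a := a) (n := n) (by omega) (by omega) hp hpn hpphi
    have hk1 : k = 1 := by
      rcases Nat.lt_or_ge k 2 with hlt | hge
      · rcases Nat.eq_zero_or_pos k with h0 | hpos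
        · rw [h0, pow_zero] at hpow; omega
        · omega
      · exfalso
        apply hnsq
        rw [hpow]
        exact pow_dvd_pow p hge
    rw [hk1, pow_one] at hpow
    obtain ⟨e, m, he, hpm, hnem, hmp, hord, hpa⟩ :=
      structure_of_dvd_cyclotomic_of_dvd (by omega) hp hpn (natCast_dvd_eval_iff.mpr hpphi)
    exact size_contra (by omega) (by omega) hp he hpm hnem hmp hord hpa hpow h6
  · -- n = 2
    have hn2' : n = 2 := by omega
    subst hn2'
    apply h2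
    refine ⟨rfl, ?_⟩
    rw [phi_two] at hK hphi2
    have hpow := Nat.eq_prime_pow_of_unique_prime_dvd (n := a + 1) (p := 2) (by omega)
      (fun {d} hd hda => (Nat.prime_dvd_prime_iff_eq hd Nat.prime_two).mp (hK d hd hda))
    exact ⟨_, hpow⟩

end Cfsg.Agent.Lib.Helper99_Zsigmondy
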