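import Mathlib
import Cfsg.Agent.Lib.Helper99_Singer
import Cfsg.Agent.Lib.Helper99_Zsigmondy
import Cfsg.Agent.Lib.Helper99_SingerEmb
import Cfsg.Agent.Lib.Helper5_SLCard

set_option autoImplicit false

namespace Cfsg.Agent.Lib.Helper99_PrimeGraphL

open Matrix
open scoped MatrixGroups
open Cfsg.Agent.Lib.Helper99_Singer

/-- `q^x ≡ q^y (mod r)` with `r ∤ q` forces `ord_r(q) ∣ x - y` -/
theorem orderOf_dvd_sub_of_modEq {q r x y : ℕ} (hr : r.Prime) (hq : ¬ r ∣ q) (hyx : y ≤ x)
    (h : q ^ x ≡ q ^ y [MOD r]) : orderOf ((q : ℕ) : ZMod r) ∣ x - y := by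
  have : Fact r.Prime := ⟨hr⟩
  have h1 : ((q : ZMod r)) ^ x = (q : ZMod r) ^ y := by
    have := (ZMod.natCast_eq_natCast_iff _ _ r).2 h
    simpa using this
  have hq0 : (q : ZMod r) ≠ 0 := by
    rwa [Ne, ZMod.natCast_eq_zero_iff]
  apply orderOf_dvd_of_pow_eq_one
  have hx : x = (x - y) + y := by omega
  rw [hx, pow_add] at h1
  have h2 : (q : ZMod r) ^ y ≠ 0 := pow_ne_zero _ hq0
  exact mul_right_cancel₀ h2 (h1.trans (one_mul _).symm)

section endo

variable {F V : Type*} [Field F] [Fintype F] [AddCommGroup V] [Module F V] [Module.Finite F V]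

/-- for `T` of prime order `r` the codimension of an invariant intersection with the fixed space
is divisible by `ord_r(q)` -/
theorem orderOf_dvd_finrank_sub (T : Module.End F V) {r : ℕ} (hr : r.Prime)
    (hq : ¬ r ∣ Fintype.card F) (hT : T ^ r = 1) (W : Submodule F V) (hW : ∀ w ∈ W, T w ∈ W) :
    orderOf ((Fintype.card F : ℕ) : ZMod r) ∣
      Module.finrank F W - Module.finrank F ↥(W ⊓ fixSpace T) :=
  orderOf_dvd_sub_of_modEq hr hq (Submodule.finrank_mono inf_le_left)
    (pow_finrank_modEq T hr hT W hW)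

omit [Fintype F] [Module.Finite F V] in
theorem fixSpace_ne_top {T : Module.End F V} (hT : T ≠ 1) : fixSpace T ≠ ⊤ := by
  intro h
  apply hT
  ext v
  have : v ∈ fixSpace T := by rw [h]; trivial
  rw [mem_fixSpace] at this
  simpa using this

omit [Fintype F] [Module.Finite F V] in
theorem fixSpace_invariant_of_commute {T U : Module.End F V} (h : Commute T U) :
    ∀ w ∈ fixSpace T, U w ∈ fixSpace T := by
  intro w hw
  rw [mem_fixSpace] at hw ⊢
  have : T (U w) = U (T w) := by
    have := congrArg (fun f => f w) h.eq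
    simpa using this
  rw [this, hw]

/-- two commuting elements of distinct prime orders `r`, `s` on a space of dimension
`n < k + l` (`k = ord_r(q) ≤ l = ord_s(q)`) force `k ∣ l`. -/
theorem dvd_of_commute {r s : ℕ} (hr : r.Prime) (hs : s.Prime)
    (hqr : ¬ r ∣ Fintype.card F) (hqs : ¬ s ∣ Fintype.card F)
    (Tu Tw : Module.End F V) (hu : Tu ^ r = 1) (hw : Tw ^ s = 1) (hu1 : Tu ≠ 1) (hw1 : Tw ≠ 1)
    (hc : Commute Tu Tw)
    (hkl : orderOf ((Fintype.card F : ℕ) : ZMod r) ≤ orderOf ((Fintype.card F : ℕ) : ZMod s))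
    (hn : Module.finrank F V <
      orderOf ((Fintype.card F : ℕ) : ZMod r) + orderOf ((Fintype.card F : ℕ) : ZMod s)) :
    orderOf ((Fintype.card F : ℕ) : ZMod r) ∣ orderOf ((Fintype.card F : ℕ) : ZMod s) := by
  set k := orderOf ((Fintype.card F : ℕ) : ZMod r) with hk
  set l := orderOf ((Fintype.card F : ℕ) : ZMod s) with hl
  set n := Module.finrank F V with hnn
  set A := fixSpace Tu with hA
  set B := fixSpace Tw with hB
  have hAtop : A ≠ ⊤ := fixSpace_ne_top hu1
  have hBtop : B ≠ ⊤ := fixSpace_ne_top hw1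
  have hAlt : Module.finrank F A < n := Submodule.finrank_lt hAtop
  have hBlt : Module.finrank F B < n := Submodule.finrank_lt hBtop
  -- codimensions
  have h1 : k ∣ n - Module.finrank F A := by
    have := orderOf_dvd_finrank_sub Tu hr hqr hu ⊤ (fun _ _ => trivial)
    rwa [finrank_top, top_inf_eq] at this
  have h2 : l ∣ n - Module.finrank F B := by
    have := orderOf_dvd_finrank_sub Tw hs hqs hw ⊤ (fun _ _ => trivial)
    rwa [finrank_top, top_inf_eq] at this
  have hk1 : k ≤ n - Module.finrank F A := Nat.le_of_dvd (by omega) h1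
  have hl1 : l ≤ n - Module.finrank F B := Nat.le_of_dvd (by omega) h2
  -- `A ≤ B` and `B ≤ A`
  have h3 : l ∣ Module.finrank F A - Module.finrank F ↥(A ⊓ B) :=
    orderOf_dvd_finrank_sub Tw hs hqs hw A (fixSpace_invariant_of_commute hc)
  have h4 : k ∣ Module.finrank F B - Module.finrank F ↥(B ⊓ A) :=
    orderOf_dvd_finrank_sub Tu hr hqr hu B (fixSpace_invariant_of_commute hc.symm)
  have hAB : A ≤ B := by
    have hle : Module.finrank F ↥(A ⊓ B) ≤ Module.finrank F A := Submodule.finrank_mono inf_le_left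
    have hzero : Module.finrank F A - Module.finrank F ↥(A ⊓ B) = 0 := by
      by_contra hne
      have := Nat.le_of_dvd (Nat.pos_of_ne_zero hne) h3
      omega
    have heq : Module.finrank F ↥(A ⊓ B) = Module.finrank F A := by omega
    have := Submodule.eq_of_le_of_finrank_eq (inf_le_left : A ⊓ B ≤ A) heq
    rw [← this]; exact inf_le_right
  have hBA : B ≤ A := by
    have hle : Module.finrank F ↥(B ⊓ A) ≤ Module.finrank F B := Submodule.finrank_mono inf_le_left
    have hzero : Module.finrank F B - Module.finrank F ↥(B ⊓ A) = 0 := by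
      by_contra hne
      have := Nat.le_of_dvd (Nat.pos_of_ne_zero hne) h4
      omega
    have heq : Module.finrank F ↥(B ⊓ A) = Module.finrank F B := by omega
    have := Submodule.eq_of_le_of_finrank_eq (inf_le_left : B ⊓ A ≤ B) heq
    rw [← this]; exact inf_le_right
  have hABeq : A = B := le_antisymm hAB hBA
  rw [← hABeq] at h2 hl1
  -- `n - dim A` is a multiple of `l` smaller than `2l`
  obtain ⟨c, hc'⟩ := h2
  have hc1 : c = 1 := by
    rcases c with _ | _ | c
    · omega
    · rfl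
    · exfalso
      have : l * (c + 1 + 1) = l * c + l + l := by ring
      omega
  rw [hc1, mul_one] at hc'
  rw [hc'] at h1
  exact h1

end endo

section matrix

variable {F : Type*} [Field F] [Fintype F]

/-- a prime `s ∤ q` dividing `|PSL_n(q)|` has `ord_s(q) ≤ n` -/
theorem orderOf_le_of_dvd_card_PSL (n : ℕ) (hn : 1 ≤ n) {s : ℕ} (hs : s.Prime)
    (hqs : ¬ s ∣ Fintype.card F) (h : s ∣ Nat.card PSL(n, F)) :
    orderOf ((Fintype.card F : ℕ) : ZMod s) ≤ n := by
  have : Fact s.Prime := ⟨hs⟩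
  have h1 : s ∣ Nat.card SL(n, F) := by
    rw [Subgroup.card_eq_card_quotient_mul_card_subgroup (Subgroup.center SL(n, F))]
    exact Dvd.dvd.mul_right h _
  have h2 : s ∣ Nat.card (GL (Fin n) F) := by
    rw [Cfsg.Agent.Lib.Helper5_SLCard.card_GL_eq_card_SL_mul n hn]
    exact Dvd.dvd.mul_right h1 _
  rw [Matrix.card_GL_field, Prime.dvd_finsetProd_iff (Nat.Prime.prime hs)] at h2
  obtain ⟨i, -, hi⟩ := h2
  set q := Fintype.card F with hq
  have hq1 : 1 ≤ q := Fintype.card_pos
  have hfac : q ^ n - q ^ (i : ℕ) = q ^ (i : ℕ) * (q ^ (n - i) - 1) := by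
    have hin : (i : ℕ) + (n - i) = n := by have := i.2; omega
    rw [Nat.mul_sub, mul_one, ← pow_add, hin]
  rw [hfac] at hi
  have hi2 : s ∣ q ^ (n - i) - 1 := by
    rcases (Nat.Prime.dvd_mul hs).1 hi with h | h
    · exact absurd (hs.dvd_of_dvd_pow h) hqs
    · exact h
  rw [Cfsg.Agent.Lib.Helper99_Zsigmondy.dvd_pow_sub_one_iff hq1] at hi2
  have hdvd := orderOf_dvd_of_pow_eq_one hi2
  have hpos : 0 < n - i := by have := i.2; omega
  exact le_trans (Nat.le_of_dvd hpos hdvd) (Nat.sub_le _ _)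

/-- an element of order `r * s` of `PSL_n(F)` (`r ≠ s` primes not dividing `q (q - 1)`)
yields commuting matrices of orders `r` and `s`. -/
theorem exists_commuting_of_orderOf {n : ℕ} {r s : ℕ} (hr : r.Prime) (hs : s.Prime)
    (hr1 : ¬ r ∣ Fintype.card F - 1) (hs1 : ¬ s ∣ Fintype.card F - 1)
    (g : PSL(n, F)) (hg : orderOf g = r * s) :
    ∃ U W : Matrix (Fin n) (Fin n) F, U ^ r = 1 ∧ W ^ s = 1 ∧ U ≠ 1 ∧ W ≠ 1 ∧ Commute U W := by
  obtain ⟨g', rfl⟩ := QuotientGroup.mk_surjective g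
  set q := Fintype.card F with hq
  set Mg : Matrix (Fin n) (Fin n) F := (g' : Matrix (Fin n) (Fin n) F) with hMg
  have hpow : ∀ j : ℕ, ((g' ^ j : SL(n, F)) : Matrix (Fin n) (Fin n) F) = Mg ^ j := fun j =>
    Matrix.SpecialLinearGroup.coe_pow g' j
  have h1 : (QuotientGroup.mk g' : PSL(n, F)) ^ (r * s) = 1 := by rw [← hg]; exact pow_orderOf_eq_one _
  rw [Cfsg.Agent.Lib.Helper99_SingerEmb.mk_pow_eq_one_iff, hpow] at h1
  obtain ⟨c, hc⟩ := h1
  have hc0 : c ≠ 0 := by
    rintro rfl
    have hdet : (Mg ^ (r * s)).det = 1 := by rw [Matrix.det_pow, hMg, g'.2, one_pow]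
    rw [hc, zero_smul] at hdet
    rcases Nat.eq_zero_or_pos n with h0 | h0
    · subst h0
      -- the empty matrix: `r * s ∣` anything fails since the group is trivial
      have : orderOf (QuotientGroup.mk g' : PSL(0, F)) = 1 := by
        rw [orderOf_eq_one_iff]; exact Subsingleton.elim _ _
      rw [this] at hg
      have := hr.two_le; have := hs.two_le
      nlinarith
    · have : Nonempty (Fin n) := ⟨⟨0, h0⟩⟩
      rw [Matrix.det_zero] at hdet
      exact zero_ne_one hdet
  have hcq : c ^ (q - 1) = 1 := FiniteField.pow_card_sub_one_eq_one c hc0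
  have hMt : (Mg ^ (q - 1)) ^ (r * s) = 1 := by
    rw [← pow_mul, mul_comm, pow_mul, hc, smul_pow, one_pow, hcq, one_smul]
  have hnot : ∀ x y : ℕ, x.Prime → x * y = r * s → ¬ x ∣ q - 1 → Mg ^ ((q - 1) * y) ≠ 1 := by
    intro x y hx hxy hx1 h
    have h2 : (QuotientGroup.mk g' : PSL(n, F)) ^ ((q - 1) * y) = 1 := by
      rw [Cfsg.Agent.Lib.Helper99_SingerEmb.mk_pow_eq_one_iff, hpow, h]
      exact ⟨1, (one_smul _ _).symm⟩
    have h3 := orderOf_dvd_of_pow_eq_one h2
    rw [hg, ← hxy] at h3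
    have hy0 : 0 < y := by
      rcases Nat.eq_zero_or_pos y with h0 | h0
      · rw [h0, mul_zero] at hxy
        have := hr.pos; have := hs.pos
        have : 0 < r * s := Nat.mul_pos hr.pos hs.pos
        omega
      · exact h0
    rw [mul_comm x y, mul_comm (q - 1) y] at h3
    exact hx1 ((Nat.mul_dvd_mul_iff_left hy0).1 h3)
  refine ⟨(Mg ^ (q - 1)) ^ s, (Mg ^ (q - 1)) ^ r, ?_, ?_, ?_, ?_, ?_⟩
  · rw [← pow_mul, mul_comm s r]; exact hMt
  · rw [← pow_mul]; exact hMt
  · rw [← pow_mul]; exact hnot r s hr rfl hr1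
  · rw [← pow_mul]; exact hnot s r hs (mul_comm s r) hs1
  · exact (Commute.refl _).pow_pow _ _

end matrix

end Cfsg.Agent.Lib.Helper99_PrimeGraphL
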