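import Mathlib
import Cfsg.Agent.Lib.Helper99_PrimeGraphL
import Cfsg.Agent.Lib.Helper50_SL2Mat

set_option autoImplicit false

namespace Cfsg.Agent.Lib.Helper99_PrimeGraphP

open Matrix
open scoped MatrixGroups
open Cfsg.Agent.Lib.Helper99_Singer Cfsg.Agent.Lib.Helper99_PrimeGraphL

section nilp

variable {F V : Type*} [Field F] [AddCommGroup V] [Module F V]

/-- a nonzero nilpotent endomorphism has a nonzero vector in `ker ⊓ range` -/
theorem exists_mem_ker_range_of_nilpotent (N : Module.End F V) (hN0 : N ≠ 0) (hnil : IsNilpotent N) :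
    ∃ w : V, w ≠ 0 ∧ w ∈ LinearMap.ker N ∧ w ∈ LinearMap.range N := by
  classical
  obtain ⟨m, hm⟩ := hnil
  -- minimal exponent
  have hex : ∃ m : ℕ, N ^ m = 0 := ⟨m, hm⟩
  set m0 := Nat.find hex with hm0
  have h0 : N ^ m0 = 0 := Nat.find_spec hex
  have hm1 : m0 ≠ 0 := by
    intro h
    rw [h, pow_zero] at h0
    apply hN0
    rw [← mul_one N, h0, mul_zero]
  have hm2 : m0 ≠ 1 := by
    intro h
    rw [h, pow_one] at h0
    exact hN0 h0
  have hprev : N ^ (m0 - 1) ≠ 0 := Nat.find_min hex (by omega)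
  obtain ⟨v, hv⟩ : ∃ v, (N ^ (m0 - 1)) v ≠ 0 := by
    by_contra hcon
    push Not at hcon
    apply hprev
    ext v
    simpa using hcon v
  refine ⟨(N ^ (m0 - 1)) v, hv, ?_, ?_⟩
  · rw [LinearMap.mem_ker]
    have : N ((N ^ (m0 - 1)) v) = (N ^ m0) v := by
      have hm : m0 = (m0 - 1) + 1 := by omega
      conv_rhs => rw [hm, pow_succ']
      rfl
    rw [this, h0]
    rfl
  · have hm : m0 - 1 = (m0 - 2) + 1 := by omega
    rw [hm, pow_succ']
    exact ⟨(N ^ (m0 - 2)) v, rfl⟩

end nilp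

section endo

variable {F V : Type*} [Field F] [Fintype F] [AddCommGroup V] [Module F V] [Module.Finite F V]

/-- An element `Tu` of prime order `r` with `ord_r(q) ≥ dim V - 1`, `dim V ≥ 3`, commutes with no
nonzero nilpotent endomorphism. -/
theorem nilpotent_eq_zero_of_commute {r : ℕ} (hr : r.Prime) (hqr : ¬ r ∣ Fintype.card F)
    (Tu N : Module.End F V) (hu : Tu ^ r = 1) (hu1 : Tu ≠ 1) (hc : Commute Tu N)
    (hnil : IsNilpotent N) (h3 : 3 ≤ Module.finrank F V)
    (hk : Module.finrank F V ≤ orderOf ((Fintype.card F : ℕ) : ZMod r) + 1) : N = 0 := by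
  by_contra hN0
  set k := orderOf ((Fintype.card F : ℕ) : ZMod r) with hkdef
  set n := Module.finrank F V with hn
  set A := fixSpace Tu with hA
  have hAtop : A ≠ ⊤ := fixSpace_ne_top hu1
  have hAlt : Module.finrank F A < n := Submodule.finrank_lt hAtop
  have h1 : k ∣ n - Module.finrank F A := by
    have := orderOf_dvd_finrank_sub Tu hr hqr hu ⊤ (fun _ _ => trivial)
    rwa [finrank_top, top_inf_eq] at this
  have hk1 : k ≤ n - Module.finrank F A := Nat.le_of_dvd (by omega) h1
  have hA1 : Module.finrank F A ≤ 1 := by omega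
  set K := LinearMap.ker N with hK
  set R := LinearMap.range N with hR
  have hKinv : ∀ w ∈ K, Tu w ∈ K := by
    intro w hw
    rw [hK, LinearMap.mem_ker] at hw ⊢
    have : N (Tu w) = Tu (N w) := by
      have := congrArg (fun f => f w) hc.eq
      simpa using this.symm
    rw [this, hw, map_zero]
  have hRinv : ∀ w ∈ R, Tu w ∈ R := by
    rintro w ⟨v, rfl⟩
    refine ⟨Tu v, ?_⟩
    have := congrArg (fun f => f v) hc.eq
    simpa using this.symm
  have hsum : Module.finrank F R + Module.finrank F K = n := LinearMap.finrank_range_add_finrank_ker N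
  obtain ⟨w, hw0, hwK, hwR⟩ := exists_mem_ker_range_of_nilpotent N hN0 hnil
  have hK0 : 0 < Module.finrank F K := by
    rw [Module.finrank_pos_iff_exists_ne_zero]
    exact ⟨⟨w, hwK⟩, fun h => hw0 (congrArg Subtype.val h)⟩
  have hR0 : 0 < Module.finrank F R := by
    rw [Module.finrank_pos_iff_exists_ne_zero]
    exact ⟨⟨w, hwR⟩, fun h => hw0 (congrArg Subtype.val h)⟩
  have hKdvd : k ∣ Module.finrank F K - Module.finrank F ↥(K ⊓ A) :=
    orderOf_dvd_finrank_sub Tu hr hqr hu K hKinv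
  have hRdvd : k ∣ Module.finrank F R - Module.finrank F ↥(R ⊓ A) :=
    orderOf_dvd_finrank_sub Tu hr hqr hu R hRinv
  have hKA : Module.finrank F ↥(K ⊓ A) ≤ Module.finrank F K := Submodule.finrank_mono inf_le_left
  have hRA : Module.finrank F ↥(R ⊓ A) ≤ Module.finrank F R := Submodule.finrank_mono inf_le_left
  have hKA1 : Module.finrank F ↥(K ⊓ A) ≤ 1 := le_trans (Submodule.finrank_mono inf_le_right) hA1
  have hRA1 : Module.finrank F ↥(R ⊓ A) ≤ 1 := le_trans (Submodule.finrank_mono inf_le_right) hA1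
  -- dichotomy for an invariant subspace `S` of dimension `< n`
  have dich : ∀ S : Submodule F V, (∀ w ∈ S, Tu w ∈ S) → 0 < Module.finrank F S →
      Module.finrank F S < n → (S ≤ A ∧ Module.finrank F S = 1) ∨
        (Module.finrank F S = n - 1 ∧ S ⊓ A = ⊥) := by
    intro S hS hS0 hSn
    have hd := orderOf_dvd_finrank_sub Tu hr hqr hu S hS
    have hle : Module.finrank F ↥(S ⊓ A) ≤ Module.finrank F S := Submodule.finrank_mono inf_le_left
    have hle1 : Module.finrank F ↥(S ⊓ A) ≤ 1 := le_trans (Submodule.finrank_mono inf_le_right) hA1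
    by_cases hz : Module.finrank F S - Module.finrank F ↥(S ⊓ A) = 0
    · left
      have heq : Module.finrank F ↥(S ⊓ A) = Module.finrank F S := by omega
      have := Submodule.eq_of_le_of_finrank_eq (inf_le_left : S ⊓ A ≤ S) heq
      refine ⟨by rw [← this]; exact inf_le_right, by omega⟩
    · right
      have := Nat.le_of_dvd (Nat.pos_of_ne_zero hz) hd
      have h0 : Module.finrank F ↥(S ⊓ A) = 0 := by omega
      refine ⟨by omega, ?_⟩
      exact Submodule.finrank_eq_zero.1 h0
  have hKn : Module.finrank F K < n := by omega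
  have hRn : Module.finrank F R < n := by omega
  have hwKR : w ∈ K ⊓ R := ⟨hwK, hwR⟩
  rcases dich K hKinv hK0 hKn with ⟨hKA', hK1⟩ | ⟨hKn1, hKbot⟩
  · rcases dich R hRinv hR0 hRn with ⟨hRA', hR1⟩ | ⟨hRn1, hRbot⟩
    · omega
    · have : w ∈ R ⊓ A := ⟨hwR, hKA' hwK⟩
      rw [hRbot] at this
      exact hw0 ((Submodule.mem_bot F).1 this)
  · rcases dich R hRinv hR0 hRn with ⟨hRA', hR1⟩ | ⟨hRn1, hRbot⟩
    · have : w ∈ K ⊓ A := ⟨hwK, hRA' hwR⟩
      rw [hKbot] at this
      exact hw0 ((Submodule.mem_bot F).1 this)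
    · omega

end endo

section cube

variable {F V : Type*} [Field F] [AddCommGroup V] [Module F V] [Module.Finite F V]

/-- an endomorphism of determinant one and order three fixing a hyperplane pointwise is trivial
(characteristic not three) -/
theorem eq_one_of_fix_hyperplane (A : Module.End F V) (hA3 : A ^ 3 = 1) (hdet : LinearMap.det A = 1)
    (h3 : (3 : F) ≠ 0)
    (hfix : Module.finrank F V ≤ Module.finrank F ↥(LinearMap.ker (A - 1)) + 1) : A = 1 := by
  classical
  set H := LinearMap.ker (A - 1) with hH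
  have hmem : ∀ v, v ∈ H ↔ A v = v := by
    intro v
    rw [hH, LinearMap.mem_ker, LinearMap.sub_apply, sub_eq_zero]
    rfl
  have he : H ≤ H.comap A := by
    intro v hv
    rw [Submodule.mem_comap]
    rw [hmem] at hv
    rw [hv, hmem]; exact hv
  have hdd := LinearMap.det_eq_det_mul_det H A he
  have hres : A.restrict he = LinearMap.id := by
    ext ⟨v, hv⟩
    simp only [LinearMap.coe_restrict_apply, LinearMap.id_coe, id_eq]
    exact (hmem v).1 hv
  rw [hres, LinearMap.det_id, one_mul, hdet] at hdd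
  set f := H.mapQ H A he with hf
  have hQ : Module.finrank F (V ⧸ H) + Module.finrank F H = Module.finrank F V :=
    Submodule.finrank_quotient_add_finrank H
  have hQ1 : Module.finrank F (V ⧸ H) ≤ 1 := by omega
  -- `f = id`
  have hfid : ∀ z : V ⧸ H, f z = z := by
    rcases Nat.lt_or_ge (Module.finrank F (V ⧸ H)) 1 with h0 | h1
    · have h0' : Module.finrank F (V ⧸ H) = 0 := by omega
      have : Subsingleton (V ⧸ H) := Module.finrank_zero_iff.1 h0'
      intro z; exact Subsingleton.elim _ _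
    · have h1' : Module.finrank F (V ⧸ H) = 1 := by omega
      obtain ⟨w, hw0, hw⟩ := (finrank_eq_one_iff' (K := F) (V := V ⧸ H)).1 h1'
      obtain ⟨δ, hδ⟩ := hw (f w)
      have hfs : f = δ • (LinearMap.id : (V ⧸ H) →ₗ[F] (V ⧸ H)) := by
        ext z
        obtain ⟨a, ha⟩ := hw (Submodule.mkQ H z)
        show f (Submodule.mkQ H z) =
          (δ • (LinearMap.id : (V ⧸ H) →ₗ[F] (V ⧸ H))) (Submodule.mkQ H z)
        rw [← ha, map_smul, ← hδ, LinearMap.smul_apply, LinearMap.id_apply, smul_comm]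
      have hdf : LinearMap.det f = δ := by
        rw [hfs, LinearMap.det_smul, h1', pow_one, LinearMap.det_id, mul_one]
      rw [hdf] at hdd
      intro z
      rw [hfs, ← hdd, one_smul, LinearMap.id_apply]
  set M := A - 1 with hM
  have hMM : M * M = 0 := by
    ext v
    have h1 := hfid (Submodule.mkQ H v)
    rw [hf, Submodule.mkQ_apply, Submodule.mapQ_apply, Submodule.Quotient.eq] at h1
    have h2 : M v ∈ H := by
      have : M v = A v - v := by rw [hM, LinearMap.sub_apply]; rfl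
      rw [this]; exact h1
    have : M (M v) = 0 := by
      rw [hH, LinearMap.mem_ker] at h2
      exact h2
    simpa using this
  have hA : A = M + 1 := by rw [hM]; abel
  have h3M : (3 : F) • M = 0 := by
    have hexp : (M + 1) ^ 3 = M * M * M + (3 : ℕ) • (M * M) + (3 : ℕ) • M + 1 := by noncomm_ring
    rw [hA, hexp, hMM, zero_mul, smul_zero, zero_add, zero_add] at hA3
    have : (3 : ℕ) • M = 0 := by
      have := congrArg (fun z => z - 1) hA3
      simpa using this
    rw [← this]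
    rw [← Nat.cast_smul_eq_nsmul F]
    norm_num
  have hM0 : M = 0 := by
    rcases smul_eq_zero.1 h3M with h | h
    · exact absurd h h3
    · exact h
  rw [hA, hM0, zero_add]

end cube

section cube2

variable {F V : Type*} [Field F] [Fintype F] [AddCommGroup V] [Module F V] [Module.Finite F V]

theorem exists_cube_root_unity (h3 : 3 ∣ Fintype.card F - 1) : ∃ ω : F, ω ≠ 1 ∧ ω ^ 3 = 1 := by
  classical
  have : Fact (Nat.Prime 3) := ⟨Nat.prime_three⟩
  have hcard : 3 ∣ Fintype.card Fˣ := by rw [Fintype.card_units]; exact h3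
  obtain ⟨u, hu⟩ := exists_prime_orderOf_dvd_card 3 hcard
  refine ⟨(u : F), ?_, ?_⟩
  · intro h
    have : u = 1 := Units.ext h
    rw [this, orderOf_one] at hu
    omega
  · have := pow_orderOf_eq_one u
    rw [hu] at this
    have h2 := congrArg Units.val this
    simpa using h2

/-- In dimension three over a field with `3 ∥ q - 1`: an endomorphism `T` of determinant one whose
cube is a scalar and which commutes with a nonzero nilpotent endomorphism is itself a scalar. -/
theorem scalar_of_cube (h3 : 3 ∣ Fintype.card F - 1) (h9 : ¬ 9 ∣ Fintype.card F - 1)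
    (hV : Module.finrank F V = 3) (T N : Module.End F V) (c : F) (hc : c ^ 3 = 1)
    (hT : T ^ 3 = c • 1) (hdet : LinearMap.det T = 1) (hcomm : Commute T N)
    (hnil : IsNilpotent N) (hN0 : N ≠ 0) : ∃ α : F, T = α • 1 := by
  classical
  have hTN : ∀ v, T (N v) = N (T v) := by
    intro v
    have := congrArg (fun f => f v) hcomm.eq
    simpa using this
  have hT3 : ∀ v, T (T (T v)) = c • v := by
    intro v
    have := congrArg (fun f => f v) hT
    simpa [pow_succ] using this
  -- step (a): `c = 1`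
  have hc1 : c = 1 := by
    set K := LinearMap.ker N with hK
    set R := LinearMap.range N with hR
    have hsum : Module.finrank F R + Module.finrank F K = 3 := by
      rw [← hV]; exact LinearMap.finrank_range_add_finrank_ker N
    obtain ⟨w, hw0, hwK, hwR⟩ := exists_mem_ker_range_of_nilpotent N hN0 hnil
    have hK0 : 0 < Module.finrank F K := by
      rw [Module.finrank_pos_iff_exists_ne_zero]
      exact ⟨⟨w, hwK⟩, fun h => hw0 (congrArg Subtype.val h)⟩
    have hR0 : 0 < Module.finrank F R := by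
      rw [Module.finrank_pos_iff_exists_ne_zero]
      exact ⟨⟨w, hwR⟩, fun h => hw0 (congrArg Subtype.val h)⟩
    have hKinv : ∀ w ∈ K, T w ∈ K := by
      intro w hw
      rw [hK, LinearMap.mem_ker] at hw ⊢
      rw [← hTN, hw, map_zero]
    have hRinv : ∀ w ∈ R, T w ∈ R := by
      rintro w ⟨v, rfl⟩
      exact ⟨T v, (hTN v).symm⟩
    -- an invariant line
    obtain ⟨S, hSinv, hS1⟩ : ∃ S : Submodule F V, (∀ w ∈ S, T w ∈ S) ∧ Module.finrank F S = 1 := by
      by_cases h : Module.finrank F K = 1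
      · exact ⟨K, hKinv, h⟩
      · exact ⟨R, hRinv, by omega⟩
    obtain ⟨v, hv0, hv⟩ := (finrank_eq_one_iff' (K := F) (V := S)).1 hS1
    obtain ⟨α, hα⟩ := hv ⟨T v.1, hSinv v.1 v.2⟩
    have hα' : T v.1 = α • v.1 := by
      have := congrArg Subtype.val hα
      simpa using this.symm
    have hv0' : (v : V) ≠ 0 := fun h => hv0 (Subtype.ext h)
    have hcube : α ^ 3 = c := by
      have h1 : T (T (T v.1)) = (α ^ 3) • v.1 := by
        rw [hα', map_smul, hα', map_smul, map_smul, hα', smul_smul, smul_smul]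
        congr 1; ring
      rw [hT3] at h1
      have : (c - α ^ 3) • (v : V) = 0 := by rw [sub_smul, h1, sub_self]
      rcases smul_eq_zero.1 this with h | h
      · exact (sub_eq_zero.1 h).symm
      · exact absurd h hv0'
    have hα0 : α ≠ 0 := by
      rintro rfl
      rw [zero_pow (by norm_num)] at hcube
      rw [← hcube, zero_pow (by norm_num)] at hc
      exact zero_ne_one hc
    have h9' : α ^ 9 = 1 := by
      have : α ^ 9 = (α ^ 3) ^ 3 := by ring
      rw [this, hcube, hc]
    have hq : α ^ (Fintype.card F - 1) = 1 := FiniteField.pow_card_sub_one_eq_one α hα0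
    have hg : α ^ Nat.gcd 9 (Fintype.card F - 1) = 1 := pow_gcd_eq_one.2 ⟨h9', hq⟩
    have hgcd : Nat.gcd 9 (Fintype.card F - 1) = 3 := by
      have hd : Nat.gcd 9 (Fintype.card F - 1) ∣ 3 ^ 2 := Nat.gcd_dvd_left _ _
      obtain ⟨j, hj, hj'⟩ := (Nat.dvd_prime_pow Nat.prime_three).1 hd
      have h3g : 3 ∣ Nat.gcd 9 (Fintype.card F - 1) := Nat.dvd_gcd (by norm_num) h3
      interval_cases j
      · rw [hj'] at h3g; norm_num at h3g
      · rw [hj']; norm_num
      · exfalso; apply h9
        have := Nat.gcd_dvd_right 9 (Fintype.card F - 1)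
        rw [hj'] at this
        exact this
    rw [hgcd, hcube] at hg
    exact hg
  subst hc1
  have hT3' : ∀ v, T (T (T v)) = v := by intro v; rw [hT3, one_smul]
  -- step (b): an eigenspace of dimension at least two
  obtain ⟨ω, hω1, hω3⟩ := exists_cube_root_unity h3
  have hω : ω ^ 2 + ω + 1 = 0 := by
    have : (ω - 1) * (ω ^ 2 + ω + 1) = 0 := by ring_nf; rw [hω3]; ring
    rcases mul_eq_zero.1 this with h | h
    · exact absurd (sub_eq_zero.1 h) hω1
    · exact h
  have h3F : (3 : F) ≠ 0 := by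
    intro h
    apply hω1
    have : (ω - 1) ^ 3 = 0 := by
      have : (ω - 1) ^ 3 = ω ^ 3 - 1 - 3 * (ω * (ω - 1)) := by ring
      rw [this, hω3, h]; ring
    exact sub_eq_zero.1 (pow_eq_zero_iff (by norm_num) |>.1 this)
  set E : F → V → V := fun β v => (3 : F)⁻¹ • (v + (β ^ 2) • T v + β • T (T v)) with hE
  have hEeig : ∀ β : F, β ^ 3 = 1 → ∀ v, T (E β v) = β • E β v := by
    intro β hβ v
    simp only [hE, map_smul, map_add, hT3', smul_add, smul_smul]
    have h1 : (β * ((3 : F)⁻¹ * β ^ 2)) = (3 : F)⁻¹ := by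
      have : β * ((3 : F)⁻¹ * β ^ 2) = (3 : F)⁻¹ * β ^ 3 := by ring
      rw [this, hβ, mul_one]
    have h2 : (β * ((3 : F)⁻¹ * β)) = (3 : F)⁻¹ * β ^ 2 := by ring
    rw [h1, h2, mul_comm β (3 : F)⁻¹]
    abel
  have hEsum : ∀ v, E 1 v + E ω v + E (ω ^ 2) v = v := by
    intro v
    simp only [hE]
    rw [← smul_add, ← smul_add]
    have h4 : ω ^ 4 = ω := by
      have : ω ^ 4 = ω ^ 3 * ω := by ring
      rw [this, hω3, one_mul]
    have : (v + (1 : F) ^ 2 • T v + (1 : F) • T (T v)) + (v + ω ^ 2 • T v + ω • T (T v)) +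
        (v + (ω ^ 2) ^ 2 • T v + ω ^ 2 • T (T v)) =
        (3 : F) • v + (ω ^ 2 + ω + 1) • T v + (ω ^ 2 + ω + 1) • T (T v) := by
      have h5 : (ω ^ 2) ^ 2 = ω := by rw [← pow_mul]; exact h4
      rw [h5]
      simp only [add_smul, one_pow, one_smul]
      have : (3 : F) • v = v + v + v := by
        have : (3 : F) = 1 + 1 + 1 := by norm_num
        rw [this, add_smul, add_smul, one_smul]
      rw [this]
      abel
    rw [this, hω, zero_smul, zero_smul, add_zero, add_zero, smul_smul, inv_mul_cancel₀ h3F, one_smul]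
  obtain ⟨v, hv⟩ : ∃ v, N v ≠ 0 := by
    by_contra hcon
    push Not at hcon
    apply hN0
    ext v
    simpa using hcon v
  obtain ⟨β, hβ, hNw⟩ : ∃ β : F, β ^ 3 = 1 ∧ N (E β v) ≠ 0 := by
    by_contra hcon
    push Not at hcon
    apply hv
    rw [← hEsum v, map_add, map_add, hcon 1 (one_pow 3), hcon ω hω3,
      hcon (ω ^ 2) (by rw [← pow_mul, mul_comm, pow_mul, hω3, one_pow])]
    simp
  set w := E β v with hw
  have hTw : T w = β • w := hEeig β hβ v
  have hw0 : w ≠ 0 := by
    intro h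
    rw [h, map_zero] at hNw
    exact hNw rfl
  set H := LinearMap.ker (T - β • 1) with hH
  have hmemH : ∀ u, u ∈ H ↔ T u = β • u := by
    intro u
    rw [hH, LinearMap.mem_ker, LinearMap.sub_apply, sub_eq_zero]
    rfl
  have hwH : w ∈ H := (hmemH w).2 hTw
  have hNwH : N w ∈ H := by
    rw [hmemH, hTN, hTw, map_smul]
  have hH2 : 2 ≤ Module.finrank F H := by
    by_contra hlt
    have hH0 : 0 < Module.finrank F H := by
      rw [Module.finrank_pos_iff_exists_ne_zero]
      exact ⟨⟨w, hwH⟩, fun h => hw0 (congrArg Subtype.val h)⟩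
    have hH1 : Module.finrank F H = 1 := by omega
    have hgen := (finrank_eq_one_iff_of_nonzero' (⟨w, hwH⟩ : H)
      (fun h => hw0 (congrArg Subtype.val h))).1 hH1
    obtain ⟨a, ha⟩ := hgen ⟨N w, hNwH⟩
    have ha' : N w = a • w := by
      have := congrArg Subtype.val ha
      simpa using this.symm
    obtain ⟨m, hm⟩ := hnil
    have hpow : ∀ j : ℕ, (N ^ j) w = a ^ j • w := by
      intro j
      induction j with
      | zero => simp
      | succ j ih =>
        rw [pow_succ', Module.End.mul_apply, ih, map_smul, ha', smul_smul, pow_succ]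
    have := hpow m
    rw [hm] at this
    have h0 : a ^ m • w = 0 := by rw [← this]; rfl
    rcases smul_eq_zero.1 h0 with h | h
    · have hm0 : m ≠ 0 := by
        rintro rfl
        rw [pow_zero] at h; exact one_ne_zero h
      have ha0 : a = 0 := (pow_eq_zero_iff hm0).1 h
      rw [ha0, zero_smul] at ha'
      exact hNw ha'
    · exact hw0 h
  -- step (c)
  set A : Module.End F V := (β ^ 2) • T with hA
  have hA3 : A ^ 3 = 1 := by
    rw [hA, smul_pow, hT, one_smul, ← pow_mul]
    have : β ^ (2 * 3) = (β ^ 3) ^ 2 := by ring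
    rw [this, hβ, one_pow, one_smul]
  have hAdet : LinearMap.det A = 1 := by
    rw [hA, LinearMap.det_smul, hV, hdet, mul_one, ← pow_mul]
    have : β ^ (2 * 3) = (β ^ 3) ^ 2 := by ring
    rw [this, hβ, one_pow]
  have hle : H ≤ LinearMap.ker (A - 1) := by
    intro u hu
    rw [hmemH] at hu
    rw [LinearMap.mem_ker, LinearMap.sub_apply, hA, LinearMap.smul_apply, hu, smul_smul]
    have : β ^ 2 * β = β ^ 3 := by ring
    rw [this, hβ, one_smul]
    simp
  have hfix : Module.finrank F V ≤ Module.finrank F ↥(LinearMap.ker (A - 1)) + 1 := by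
    have := Submodule.finrank_mono hle
    omega
  have hA1 := eq_one_of_fix_hyperplane A hA3 hAdet h3F hfix
  refine ⟨β, ?_⟩
  have : β • A = β • (1 : Module.End F V) := by rw [hA1]
  rw [hA, smul_smul] at this
  have h3' : β * β ^ 2 = β ^ 3 := by ring
  rw [h3', hβ, one_smul] at this
  exact this

end cube2

section psl2

variable {F : Type*} [Field F] [Fintype F]

open Cfsg.Agent.Lib.Helper50_SL2Mat

theorem char_not_dvd_card_sub_one (p : ℕ) [Fact p.Prime] [CharP F p] : ¬ p ∣ Fintype.card F - 1 := by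
  have hp : p.Prime := Fact.out
  obtain ⟨f, -, hqf⟩ := FiniteField.card F p
  intro h
  have hq1 : 1 ≤ Fintype.card F := Fintype.card_pos
  have h2 : p ∣ Fintype.card F := by
    rw [hqf]
    exact dvd_pow_self p f.ne_zero
  have h3 : p ∣ Fintype.card F - (Fintype.card F - 1) := Nat.dvd_sub h2 h
  have h4 : Fintype.card F - (Fintype.card F - 1) = 1 := by omega
  rw [h4] at h3
  exact hp.one_lt.ne' (Nat.dvd_one.1 h3)

/-- `PSL(2, q)` has no element of order `r p` for an odd prime `r` -/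
theorem no_orderOf_PSL2 (p : ℕ) [Fact p.Prime] [CharP F p] {r : ℕ} (hr : r.Prime) (hr2 : r ≠ 2)
    (g : PSL(2, F)) (hg : orderOf g = r * p) : False := by
  classical
  have hp : p.Prime := Fact.out
  obtain ⟨x, rfl⟩ := QuotientGroup.mk_surjective g
  set q := Fintype.card F with hq
  have hp1 : ¬ p ∣ q - 1 := char_not_dvd_card_sub_one p
  set Mg : Matrix (Fin 2) (Fin 2) F := (x : Matrix (Fin 2) (Fin 2) F) with hMg
  have hpow : ∀ j : ℕ, ((x ^ j : SL(2, F)) : Matrix (Fin 2) (Fin 2) F) = Mg ^ j := fun j =>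
    Matrix.SpecialLinearGroup.coe_pow x j
  have h1 : (QuotientGroup.mk x : PSL(2, F)) ^ (r * p) = 1 := by
    rw [← hg]; exact pow_orderOf_eq_one _
  rw [Cfsg.Agent.Lib.Helper99_SingerEmb.mk_pow_eq_one_iff, hpow] at h1
  obtain ⟨c, hc⟩ := h1
  have hc0 : c ≠ 0 := by
    rintro rfl
    have hdet : (Mg ^ (r * p)).det = 1 := by rw [Matrix.det_pow, hMg, x.2, one_pow]
    rw [hc, zero_smul, Matrix.det_zero] at hdet
    exact zero_ne_one hdet
  have hcq : c ^ (q - 1) = 1 := FiniteField.pow_card_sub_one_eq_one c hc0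
  have hMt : (Mg ^ (q - 1)) ^ (r * p) = 1 := by
    rw [← pow_mul, mul_comm, pow_mul, hc, smul_pow, one_pow, hcq, one_smul]
  set y : SL(2, F) := x ^ ((q - 1) * r) with hy
  have hyp : y ^ p = 1 := by
    apply Subtype.ext
    rw [hy, ← pow_mul, hpow, Matrix.SpecialLinearGroup.coe_one, mul_assoc, pow_mul]
    exact hMt
  have hy1 : y ≠ 1 := by
    intro h
    have h2 : (QuotientGroup.mk x : PSL(2, F)) ^ ((q - 1) * r) = 1 := by
      rw [← QuotientGroup.mk_pow, ← hy, h]; rfl
    have h3 := orderOf_dvd_of_pow_eq_one h2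
    rw [hg, mul_comm (q - 1) r] at h3
    exact hp1 ((Nat.mul_dvd_mul_iff_left hr.pos).1 h3)
  have htr : tr y = 2 := tr_of_pow_char_pow p 1 (by rw [pow_one]; exact hyp)
  have hns : ¬ IsScalar y := by
    intro hs
    have hsq := hs.sq
    obtain ⟨s1, s2, s3⟩ := hs
    have ht : y 0 0 + y 1 1 = 2 := htr
    have h00 : y 0 0 = 1 := by
      have : (y 0 0 - 1) * (y 0 0 - 1) = 0 := by
        rw [← s3] at ht
        linear_combination hsq - ht
      have := mul_self_eq_zero.1 this
      exact sub_eq_zero.1 this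
    apply hy1
    apply ext4
    · rw [h00, one00]
    · rw [s1, one01]
    · rw [s2, one10]
    · rw [← s3, h00, one11]
  have hcomm : Commute x y := (Commute.refl x).pow_right _
  have h4 : tr x * tr x = 4 := tr_sq_of_commute hns hcomm (by rw [htr]; norm_num)
  have h5 : tr (x * x) = 2 := by rw [tr_sq, h4]; norm_num
  have h6 : (x * x) ^ p = 1 := pow_char_of_tr_two p h5
  have h7 : (QuotientGroup.mk x : PSL(2, F)) ^ (2 * p) = 1 := by
    rw [← QuotientGroup.mk_pow, pow_mul, pow_two, h6]; rfl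
  have h8 := orderOf_dvd_of_pow_eq_one h7
  rw [hg] at h8
  have h9 : r ∣ 2 := (Nat.mul_dvd_mul_iff_right hp.pos).1 h8
  have := (Nat.prime_dvd_prime_iff_eq hr Nat.prime_two).1 h9
  exact hr2 this

end psl2

section wrappers

variable {F : Type*} [Field F] [Fintype F]

theorem not_dvd_card_of_ne (p : ℕ) [Fact p.Prime] [CharP F p] {r : ℕ} (hr : r.Prime) (hrp : r ≠ p) :
    ¬ r ∣ Fintype.card F := by
  have hp : p.Prime := Fact.out
  obtain ⟨f, -, hqf⟩ := FiniteField.card F p
  intro h
  rw [hqf] at h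
  exact hrp ((Nat.prime_dvd_prime_iff_eq hr hp).1 (hr.dvd_of_dvd_pow h))

theorem orderOf_eq_one_iff_dvd {r : ℕ} (hr : r.Prime) :
    orderOf ((Fintype.card F : ℕ) : ZMod r) = 1 ↔ r ∣ Fintype.card F - 1 := by
  have : Fact r.Prime := ⟨hr⟩
  have hq1 : 1 ≤ Fintype.card F := Fintype.card_pos
  rw [orderOf_eq_one_iff]
  have := Cfsg.Agent.Lib.Helper99_Zsigmondy.dvd_pow_sub_one_iff (r := r) (k := 1) hq1
  rw [pow_one, pow_one] at this
  exact this.symm

theorem orderOf_pos_of_ne (p : ℕ) [Fact p.Prime] [CharP F p] {r : ℕ} (hr : r.Prime) (hrp : r ≠ p) :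
    0 < orderOf ((Fintype.card F : ℕ) : ZMod r) := by
  have : Fact r.Prime := ⟨hr⟩
  rw [orderOf_pos_iff, isOfFinOrder_iff_pow_eq_one]
  refine ⟨r - 1, by have := hr.two_le; omega, ?_⟩
  apply ZMod.pow_card_sub_one_eq_one
  rw [Ne, ZMod.natCast_eq_zero_iff]
  exact not_dvd_card_of_ne p hr hrp

/-- no element of order `r p` in `PSL_n(q)` when `ord_r(q) ≥ n - 1`, `n ≥ 3` -/
theorem no_orderOf_PSL_large (p : ℕ) [Fact p.Prime] [CharP F p] (n : ℕ) (h3 : 3 ≤ n) {r : ℕ}
    (hr : r.Prime) (hrp : r ≠ p) (hk : n ≤ orderOf ((Fintype.card F : ℕ) : ZMod r) + 1)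
    (g : PSL(n, F)) (hg : orderOf g = r * p) : False := by
  classical
  have hp : p.Prime := Fact.out
  have hqr : ¬ r ∣ Fintype.card F := not_dvd_card_of_ne p hr hrp
  have hp1 : ¬ p ∣ Fintype.card F - 1 := char_not_dvd_card_sub_one p
  have hr1 : ¬ r ∣ Fintype.card F - 1 := by
    intro h
    rw [← orderOf_eq_one_iff_dvd hr] at h
    omega
  obtain ⟨U, W, hU, hW, hU1, hW1, hcomm⟩ := exists_commuting_of_orderOf hr hp hr1 hp1 g hg
  have : Nonempty (Fin n) := ⟨⟨0, by omega⟩⟩
  have hNp : (W - 1) ^ p = 0 := by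
    rw [sub_pow_char_of_commute p (Commute.one_right W), hW, one_pow, sub_self]
  have hN0 : W - 1 ≠ 0 := fun h => hW1 (sub_eq_zero.1 h)
  have hcN : Commute U (W - 1) := hcomm.sub_right (Commute.one_right U)
  have hfr : Module.finrank F (Fin n → F) = n := Module.finrank_fin_fun F
  have key := nilpotent_eq_zero_of_commute (F := F) (V := Fin n → F) hr hqr
    (Matrix.toLinAlgEquiv' U) (Matrix.toLinAlgEquiv' (W - 1))
    (by rw [← map_pow, hU, map_one])
    (fun h => hU1 (Matrix.toLinAlgEquiv'.injective (h.trans (map_one _).symm)))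
    (hcN.map Matrix.toLinAlgEquiv')
    ⟨p, by rw [← map_pow, hNp, map_zero]⟩
    (by rw [hfr]; exact h3) (by rw [hfr]; exact hk)
  exact hN0 (Matrix.toLinAlgEquiv'.injective (key.trans (map_zero _).symm))

/-- no element of order `3 p` in `PSL_3(q)` when `3 ∥ q - 1` -/
theorem no_orderOf_PSL3 (p : ℕ) [Fact p.Prime] [CharP F p] (h3 : 3 ∣ Fintype.card F - 1)
    (h9 : ¬ 9 ∣ Fintype.card F - 1) (g : PSL(3, F)) (hg : orderOf g = 3 * p) : False := by
  classical
  have hp : p.Prime := Fact.out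
  obtain ⟨x, rfl⟩ := QuotientGroup.mk_surjective g
  set q := Fintype.card F with hq
  have hp1 : ¬ p ∣ q - 1 := char_not_dvd_card_sub_one p
  set Mg : Matrix (Fin 3) (Fin 3) F := (x : Matrix (Fin 3) (Fin 3) F) with hMg
  have hpow : ∀ j : ℕ, ((x ^ j : SL(3, F)) : Matrix (Fin 3) (Fin 3) F) = Mg ^ j := fun j =>
    Matrix.SpecialLinearGroup.coe_pow x j
  have h1 : (QuotientGroup.mk x : PSL(3, F)) ^ (3 * p) = 1 := by
    rw [← hg]; exact pow_orderOf_eq_one _
  rw [Cfsg.Agent.Lib.Helper99_SingerEmb.mk_pow_eq_one_iff, hpow] at h1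
  obtain ⟨c, hc⟩ := h1
  have hdetp : ∀ j : ℕ, (Mg ^ j).det = 1 := fun j => by rw [Matrix.det_pow, hMg, x.2, one_pow]
  have hc3 : c ^ 3 = 1 := by
    have := hdetp (3 * p)
    rw [hc, Matrix.det_smul, Matrix.det_one, mul_one, Fintype.card_fin] at this
    exact this
  have hc0 : c ≠ 0 := by
    rintro rfl
    rw [zero_pow (by norm_num)] at hc3
    exact zero_ne_one hc3
  have hcq : c ^ (q - 1) = 1 := FiniteField.pow_card_sub_one_eq_one c hc0
  have hMt : (Mg ^ (q - 1)) ^ (3 * p) = 1 := by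
    rw [← pow_mul, mul_comm, pow_mul, hc, smul_pow, one_pow, hcq, one_smul]
  set W : Matrix (Fin 3) (Fin 3) F := Mg ^ ((q - 1) * 3) with hW
  have hWp : W ^ p = 1 := by
    rw [hW, ← pow_mul, mul_assoc, pow_mul]; exact hMt
  have hW1 : W ≠ 1 := by
    intro h
    have h2 : (QuotientGroup.mk x : PSL(3, F)) ^ ((q - 1) * 3) = 1 := by
      rw [Cfsg.Agent.Lib.Helper99_SingerEmb.mk_pow_eq_one_iff, hpow, ← hW, h]
      exact ⟨1, (one_smul _ _).symm⟩
    have h3' := orderOf_dvd_of_pow_eq_one h2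
    rw [hg, mul_comm (q - 1) 3] at h3'
    exact hp1 ((Nat.mul_dvd_mul_iff_left (by norm_num)).1 h3')
  have hNp : (W - 1) ^ p = 0 := by
    rw [sub_pow_char_of_commute p (Commute.one_right W), hWp, one_pow, sub_self]
  have hN0 : W - 1 ≠ 0 := fun h => hW1 (sub_eq_zero.1 h)
  set T : Matrix (Fin 3) (Fin 3) F := Mg ^ p with hT
  have hT3 : T ^ 3 = c • 1 := by
    rw [hT, ← pow_mul, mul_comm p 3]; exact hc
  have hTW : Commute T W := (Commute.refl Mg).pow_pow _ _
  have hcN : Commute T (W - 1) := hTW.sub_right (Commute.one_right T)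
  have hfr : Module.finrank F (Fin 3 → F) = 3 := Module.finrank_fin_fun F
  obtain ⟨α, hα⟩ := scalar_of_cube (F := F) (V := Fin 3 → F) h3 h9 hfr
    (Matrix.toLinAlgEquiv' T) (Matrix.toLinAlgEquiv' (W - 1)) c hc3
    (by rw [← map_pow, hT3, map_smul, map_one])
    (by
      have := LinearMap.det_toLin' T
      rw [hdetp p] at this
      exact this)
    (hcN.map Matrix.toLinAlgEquiv')
    ⟨p, by rw [← map_pow, hNp, map_zero]⟩
    (fun h => hN0 (Matrix.toLinAlgEquiv'.injective (h.trans (map_zero _).symm)))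
  have hTα : T = α • 1 := by
    apply Matrix.toLinAlgEquiv'.injective
    rw [hα, map_smul, map_one]
  have h2 : (QuotientGroup.mk x : PSL(3, F)) ^ p = 1 := by
    rw [Cfsg.Agent.Lib.Helper99_SingerEmb.mk_pow_eq_one_iff, hpow, ← hT]
    exact ⟨α, hTα⟩
  have h4 := orderOf_dvd_of_pow_eq_one h2
  rw [hg] at h4
  have := Nat.le_of_dvd hp.pos h4
  have := hp.pos
  omega

end wrappers

section constructions

variable {F : Type*} [Field F] [Fintype F]

/-- the unipotent Jordan block of size two -/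
def J2 : Matrix (Fin 2) (Fin 2) F := !![1, 1; 0, 1]

omit [Fintype F] in
theorem J2_det : (J2 : Matrix (Fin 2) (Fin 2) F).det = 1 := by
  rw [J2, Matrix.det_fin_two_of]; ring

omit [Fintype F] in
theorem J2_pow (j : ℕ) : (J2 : Matrix (Fin 2) (Fin 2) F) ^ j = !![1, (j : F); 0, 1] := by
  induction j with
  | zero =>
    ext a b
    fin_cases a <;> fin_cases b <;> simp
  | succ j ih =>
    rw [pow_succ, ih, J2]
    ext a b
    fin_cases a <;> fin_cases b <;> simp [Matrix.mul_apply, Fin.sum_univ_two] <;> ring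

omit [Fintype F] in
theorem J2_pow_eq_one_iff (p : ℕ) [CharP F p] (j : ℕ) :
    (J2 : Matrix (Fin 2) (Fin 2) F) ^ j = 1 ↔ p ∣ j := by
  rw [J2_pow, ← CharP.cast_eq_zero_iff F p j]
  constructor
  · intro h
    have := congrFun (congrFun h 0) 1
    simpa using this
  · intro h
    rw [h]
    ext a b
    fin_cases a <;> fin_cases b <;> simp

/-- an element of `F` of multiplicative order `r` for a prime `r ∣ q - 1` -/
theorem exists_orderOf_eq_prime {r : ℕ} (hr : r.Prime) (h : r ∣ Fintype.card F - 1) :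
    ∃ ζ : F, ζ ≠ 0 ∧ ∀ j : ℕ, ζ ^ j = 1 ↔ r ∣ j := by
  classical
  have : Fact r.Prime := ⟨hr⟩
  have hcard : r ∣ Fintype.card Fˣ := by rw [Fintype.card_units]; exact h
  obtain ⟨u, hu⟩ := exists_prime_orderOf_dvd_card r hcard
  refine ⟨(u : F), u.ne_zero, fun j => ?_⟩
  rw [← hu, orderOf_dvd_iff_pow_eq_one, ← Units.val_pow_eq_pow_val, Units.ext_iff, Units.val_one]

/-- an element of `F` of multiplicative order `d` for any `d ∣ q - 1` -/
theorem exists_orderOf_eq_of_dvd {d : ℕ} (h : d ∣ Fintype.card F - 1) :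
    ∃ ζ : F, ζ ≠ 0 ∧ ∀ j : ℕ, ζ ^ j = 1 ↔ d ∣ j := by
  classical
  obtain ⟨γ, hγ⟩ := IsCyclic.exists_generator (α := Fˣ)
  have hord : orderOf γ = Fintype.card F - 1 := by
    rw [orderOf_eq_card_of_forall_mem_zpowers hγ, Nat.card_eq_fintype_card, Fintype.card_units]
  have hq2 : 2 ≤ Fintype.card F := Fintype.one_lt_card
  obtain ⟨e, he⟩ := h
  have he0 : 0 < e := by
    rcases Nat.eq_zero_or_pos e with h0 | h0
    · rw [h0, mul_zero] at he; omega
    · exact h0
  have hd0 : 0 < d := by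
    rcases Nat.eq_zero_or_pos d with h0 | h0
    · rw [h0, zero_mul] at he; omega
    · exact h0
  refine ⟨((γ ^ e : Fˣ) : F), (γ ^ e).ne_zero, fun j => ?_⟩
  rw [← Units.val_pow_eq_pow_val, ← Units.val_one, ← Units.ext_iff, ← pow_mul,
    ← orderOf_dvd_iff_pow_eq_one, hord, he, mul_comm d e]
  exact Nat.mul_dvd_mul_iff_left he0

/-- construction for `ord_r(q) ≥ 2`: a Singer-type block and a Jordan block -/
theorem exists_orderOf_PSL_blocks (p : ℕ) [Fact p.Prime] [CharP F p] (n : ℕ) {r : ℕ} (hr : r.Prime)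
    (hrp : r ≠ p) (h2 : 2 ≤ orderOf ((Fintype.card F : ℕ) : ZMod r))
    (hn : orderOf ((Fintype.card F : ℕ) : ZMod r) + 2 ≤ n) :
    ∃ g : PSL(n, F), orderOf g = r * p := by
  classical
  have hp : p.Prime := Fact.out
  have : Fact r.Prime := ⟨hr⟩
  set q := Fintype.card F with hq
  set k := orderOf ((q : ℕ) : ZMod r) with hk
  have hq1 : 1 ≤ q := Fintype.card_pos
  have hr1 : ¬ r ∣ q - 1 := by
    intro h
    have h' : k = 1 := (orderOf_eq_one_iff_dvd hr).2 h
    omega
  have hcor : Nat.Coprime r (q - 1) := (Nat.Prime.coprime_iff_not_dvd hr).2 hr1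
  have hrk : r ∣ q ^ k - 1 := by
    rw [Cfsg.Agent.Lib.Helper99_Zsigmondy.dvd_pow_sub_one_iff hq1, hk]
    exact pow_orderOf_eq_one _
  have hcop : Nat.Coprime r p := (Nat.coprime_primes hr hp).2 hrp
  obtain ⟨X, hXdet, hX⟩ := Cfsg.Agent.Lib.Helper99_SingerEmb.exists_det_one_of_order (F := F) k
    (by omega) r hrk hcor
  exact Cfsg.Agent.Lib.Helper99_SingerEmb.exists_psl_orderOf_blk (F := F) (a := k) (b := 2)
    (c := n - (k + 2)) (n := n) (by omega) X J2 hXdet J2_det (r * p)
    (fun j => by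
      rw [hX, J2_pow_eq_one_iff p]
      constructor
      · rintro ⟨h1, h2⟩
        exact hcop.mul_dvd_of_dvd_of_dvd h1 h2
      · intro h
        exact ⟨dvd_trans (dvd_mul_right r p) h, dvd_trans (dvd_mul_left p r) h⟩)
    (fun j μ h => Cfsg.Agent.Lib.Helper99_SingerEmb.scalar_eq_one_of_pow (by omega) X r hr.pos
      ((hX r).2 dvd_rfl) hcor j μ h)

/-- construction for `r ∣ q - 1`, `n ≥ 4`: `diag(ζ, ζ⁻¹)` and a Jordan block -/
theorem exists_orderOf_PSL_diag (p : ℕ) [Fact p.Prime] [CharP F p] (n : ℕ) (hn : 4 ≤ n) {r : ℕ}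
    (hr : r.Prime) (hr2 : r ≠ 2) (hrp : r ≠ p) (h1 : r ∣ Fintype.card F - 1) :
    ∃ g : PSL(n, F), orderOf g = r * p := by
  classical
  have hp : p.Prime := Fact.out
  have hcop : Nat.Coprime r p := (Nat.coprime_primes hr hp).2 hrp
  obtain ⟨ζ, hζ0, hζ⟩ := exists_orderOf_eq_prime hr h1
  set X : Matrix (Fin 2) (Fin 2) F := Matrix.diagonal ![ζ, ζ⁻¹] with hX
  have hXdet : X.det = 1 := by
    rw [hX, Matrix.det_diagonal, Fin.prod_univ_two]
    simp [hζ0]
  have hXpow : ∀ j : ℕ, X ^ j = Matrix.diagonal ![ζ ^ j, (ζ ^ j)⁻¹] := by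
    intro j
    rw [hX, Matrix.diagonal_pow]
    congr 1
    ext a
    fin_cases a <;> simp
  have hr2' : Nat.Coprime r 2 := (Nat.coprime_primes hr Nat.prime_two).2 hr2
  exact Cfsg.Agent.Lib.Helper99_SingerEmb.exists_psl_orderOf_blk (F := F) (a := 2) (b := 2)
    (c := n - 4) (n := n) (by omega) X J2 hXdet J2_det (r * p)
    (fun j => by
      rw [J2_pow_eq_one_iff p, hXpow]
      constructor
      · rintro ⟨h1, h2⟩
        have h3 := congrFun (congrFun h1 0) 0
        simp only [Matrix.diagonal_apply_eq, Matrix.cons_val_zero, Matrix.one_apply_eq] at h3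
        exact hcop.mul_dvd_of_dvd_of_dvd ((hζ j).1 h3) h2
      · intro h
        have h3 : ζ ^ j = 1 := (hζ j).2 (dvd_trans (dvd_mul_right r p) h)
        refine ⟨?_, dvd_trans (dvd_mul_left p r) h⟩
        rw [h3]
        ext a b
        fin_cases a <;> fin_cases b <;> simp)
    (fun j μ h => by
      rw [hXpow] at h
      have h3 := congrFun (congrFun h 0) 0
      have h4 := congrFun (congrFun h 1) 1
      simp only [Matrix.diagonal_apply_eq, Matrix.cons_val_zero, Matrix.smul_apply,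
        Matrix.one_apply_eq, smul_eq_mul, mul_one] at h3
      simp only [Matrix.diagonal_apply_eq, Matrix.cons_val_one, Matrix.cons_val_fin_one,
        Matrix.smul_apply, Matrix.one_apply_eq, smul_eq_mul, mul_one] at h4
      have h5 : ζ ^ (2 * j) = 1 := by
        have hne : ζ ^ j ≠ 0 := pow_ne_zero _ hζ0
        have : ζ ^ j * ζ ^ j = 1 := by
          have h6 : (ζ ^ j)⁻¹ = ζ ^ j := by rw [h4, h3]
          calc ζ ^ j * ζ ^ j = ζ ^ j * (ζ ^ j)⁻¹ := by rw [h6]
            _ = 1 := mul_inv_cancel₀ hne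
        rw [two_mul, pow_add]; exact this
      have h6 : r ∣ j := by
        have := (hζ (2 * j)).1 h5
        rw [mul_comm] at this
        exact hr2'.dvd_of_dvd_mul_right this
      rw [← h3]
      exact (hζ j).2 h6)

end constructions

section three

variable {F : Type*} [Field F]

/-- the matrix `diag(a J₂-type block with off-diagonal entry t, b)` -/
def m3 (a b t : F) : Matrix (Fin 3) (Fin 3) F := !![a, t, 0; 0, a, 0; 0, 0, b]

theorem m3_mul (a b t a' b' t' : F) :
    m3 a b t * m3 a' b' t' = m3 (a * a') (b * b') (a * t' + t * a') := by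
  unfold m3
  ext i j
  fin_cases i <;> fin_cases j <;> simp [Matrix.mul_apply, Fin.sum_univ_three]

theorem m3_pow (a b : F) (j : ℕ) : m3 a b a ^ j = m3 (a ^ j) (b ^ j) (j * a ^ j) := by
  induction j with
  | zero =>
    unfold m3
    ext i k
    fin_cases i <;> fin_cases k <;> simp
  | succ j ih =>
    rw [pow_succ, ih, m3_mul]
    congr 1
    · rw [pow_succ]
    · rw [pow_succ]
    · push_cast; ring

theorem m3_det (a b t : F) : (m3 a b t).det = a * a * b := by
  unfold m3
  rw [Matrix.det_fin_three]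
  simp

theorem m3_eq_smul_iff (a b t c : F) :
    m3 a b t = c • (1 : Matrix (Fin 3) (Fin 3) F) ↔ a = c ∧ b = c ∧ t = 0 := by
  constructor
  · intro h
    have h00 := congrFun (congrFun h 0) 0
    have h01 := congrFun (congrFun h 0) 1
    have h22 := congrFun (congrFun h 2) 2
    simp [m3] at h00 h01 h22
    exact ⟨h00, h22, h01⟩
  · rintro ⟨rfl, rfl, rfl⟩
    unfold m3
    ext i j
    fin_cases i <;> fin_cases j <;> simp

variable [Fintype F]

/-- construction in `PSL_3(q)` for `r ∣ q - 1`, away from the exceptional case -/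
theorem exists_orderOf_PSL3 (p : ℕ) [Fact p.Prime] [CharP F p] {r : ℕ} (hr : r.Prime)
    (hrp : r ≠ p) (h1 : r ∣ Fintype.card F - 1) (hex : r ≠ 3 ∨ 9 ∣ Fintype.card F - 1) :
    ∃ g : PSL(3, F), orderOf g = r * p := by
  classical
  have hp : p.Prime := Fact.out
  have hcop : Nat.Coprime r p := (Nat.coprime_primes hr hp).2 hrp
  -- `η` with `η³` of order exactly `r`
  obtain ⟨η, hη0, hη⟩ : ∃ η : F, η ≠ 0 ∧ ∀ j : ℕ, (η ^ 3) ^ j = 1 ↔ r ∣ j := by
    rcases hex with h3 | h9
    · obtain ⟨ζ, hζ0, hζ⟩ := exists_orderOf_eq_prime hr h1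
      refine ⟨ζ, hζ0, fun j => ?_⟩
      rw [← pow_mul, hζ]
      have hc3 : Nat.Coprime r 3 := (Nat.coprime_primes hr Nat.prime_three).2 h3
      constructor
      · intro h; exact hc3.dvd_of_dvd_mul_left h
      · intro h; exact Dvd.dvd.mul_left h 3
    · by_cases h3 : r = 3
      · obtain ⟨ζ, hζ0, hζ⟩ := exists_orderOf_eq_of_dvd (F := F) h9
        refine ⟨ζ, hζ0, fun j => ?_⟩
        rw [← pow_mul, hζ, h3]
        constructor
        · intro h
          have : 3 * 3 ∣ 3 * j := by simpa using h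
          exact (Nat.mul_dvd_mul_iff_left (by norm_num)).1 this
        · rintro ⟨e, rfl⟩
          exact ⟨e, by ring⟩
      · obtain ⟨ζ, hζ0, hζ⟩ := exists_orderOf_eq_prime hr h1
        refine ⟨ζ, hζ0, fun j => ?_⟩
        rw [← pow_mul, hζ]
        have hc3 : Nat.Coprime r 3 := (Nat.coprime_primes hr Nat.prime_three).2 h3
        constructor
        · intro h; exact hc3.dvd_of_dvd_mul_left h
        · intro h; exact Dvd.dvd.mul_left h 3
  set b : F := (η ^ 2)⁻¹ with hb
  have hη2 : η ^ 2 ≠ 0 := pow_ne_zero _ hη0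
  have hdet : (m3 η b η).det = 1 := by
    rw [m3_det, hb, ← pow_two, mul_inv_cancel₀ hη2]
  set G : SL(3, F) := ⟨m3 η b η, hdet⟩ with hG
  refine ⟨QuotientGroup.mk G, ?_⟩
  apply Cfsg.Agent.Lib.Helper99_SingerEmb.orderOf_mk_eq
  intro j
  have hpow : (G ^ j : SL(3, F)).1 = m3 (η ^ j) (b ^ j) (j * η ^ j) := by
    rw [Matrix.SpecialLinearGroup.coe_pow]
    exact m3_pow η b j
  have hηj : η ^ j ≠ 0 := pow_ne_zero _ hη0
  have hkey : η ^ j = b ^ j ↔ r ∣ j := by
    have hne : (η ^ 2) ^ j ≠ 0 := pow_ne_zero _ hη2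
    have h3 : η ^ j * (η ^ 2) ^ j = (η ^ 3) ^ j := by
      rw [← mul_pow]; congr 1; ring
    rw [← hη j, hb, inv_pow, ← h3]
    constructor
    · intro h
      rw [h, inv_mul_cancel₀ hne]
    · intro h
      exact eq_inv_of_mul_eq_one_left h
  constructor
  · rintro ⟨c, hc⟩
    have hc' : m3 (η ^ j) (b ^ j) (j * η ^ j) = c • (1 : Matrix (Fin 3) (Fin 3) F) := by
      rw [← hpow]; exact hc
    obtain ⟨e1, e2, e3⟩ := (m3_eq_smul_iff _ _ _ _).1 hc'
    have hr' : r ∣ j := hkey.1 (e1.trans e2.symm)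
    have hp' : p ∣ j := by
      rw [← CharP.cast_eq_zero_iff F p j]
      rcases mul_eq_zero.1 e3 with h | h
      · exact h
      · exact absurd h hηj
    exact hcop.mul_dvd_of_dvd_of_dvd hr' hp'
  · intro h
    have hr' : r ∣ j := dvd_trans (dvd_mul_right r p) h
    have hp' : p ∣ j := dvd_trans (dvd_mul_left p r) h
    refine ⟨η ^ j, ?_⟩
    rw [hpow, m3_eq_smul_iff]
    refine ⟨rfl, (hkey.2 hr').symm, ?_⟩
    rw [(CharP.cast_eq_zero_iff F p j).2 hp', zero_mul]

end three

end Cfsg.Agent.Lib.Helper99_PrimeGraphP
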