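import Mathlib
import Cfsg.Agent.Lib.Helper40_SpCyclic
import Cfsg.Agent.Lib.Helper43_AltEven
import Cfsg.Agent.Lib.Helper99_PrimeGraphP

set_option autoImplicit false

/-!
An isometry `a` of prime order `r` of a nondegenerate alternating space which commutes with a
nontrivial unipotent endomorphism: the dimension is at least `2 η(k) + 2`, where `k` is the
multiplicative order of `q` modulo `r`.
-/

namespace Cfsg.Agent.Lib.Helper40_SpAdj

open Polynomial Module Cfsg.Agent.Lib.Helper40_Semisimple Cfsg.Agent.Lib.Helper40_SpBasic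
  Cfsg.Agent.Lib.Helper40_SpCyclic Cfsg.Agent.Lib.Helper99_Singer
  Cfsg.Agent.Lib.Helper99_PrimeGraphL Cfsg.Agent.Lib.Helper99_PrimeGraphP

variable {F : Type*} [Field F] {V : Type*} [AddCommGroup V] [Module F V]
variable {B : LinearMap.BilinForm F V} {a : Module.End F V} {N : ℕ}

theorem iso_pow (h : IsoData B a N) (i : ℕ) (x y : V) : B ((a ^ i) x) ((a ^ i) y) = B x y := by
  induction i with
  | zero => simp
  | succ i ih => rw [pow_succ', Module.End.mul_apply, Module.End.mul_apply, h.iso, ih]

theorem pow_apply_of_mem_fixSpace {x : V} (hx : x ∈ fixSpace a) (i : ℕ) : (a ^ i) x = x := by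
  rw [mem_fixSpace] at hx
  induction i with
  | zero => simp
  | succ i ih => rw [pow_succ, Module.End.mul_apply, hx, ih]

/-- the fixed space of an isometry of order prime to the characteristic is nondegenerate -/
theorem ndOn_fixSpace (h : IsoData B a N) (hB : B.Nondegenerate) (hN : (N : F) ≠ 0) :
    NDOn B (fixSpace a) := by
  intro x hx hxy
  apply hB.1 x
  intro v
  set P : Module.End F V := ∑ i ∈ Finset.range N, a ^ i with hP
  have hPmem : P v ∈ fixSpace a := by
    rw [mem_fixSpace]
    have h1 : (a - 1) * P = a ^ N - 1 := mul_geom_sum a N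
    have h2 : (a - 1) (P v) = 0 := by
      rw [← Module.End.mul_apply, h1, h.pow, sub_self, LinearMap.zero_apply]
    rw [LinearMap.sub_apply, Module.End.one_apply, sub_eq_zero] at h2
    exact h2
  have h3 : B x (P v) = (N : F) * B x v := by
    have hterm : ∀ i ∈ Finset.range N, B x ((a ^ i) v) = B x v := by
      intro i _
      have := iso_pow h i x v
      rwa [pow_apply_of_mem_fixSpace hx i] at this
    rw [hP, LinearMap.sum_apply, map_sum, Finset.sum_congr rfl hterm, Finset.sum_const,
      Finset.card_range, nsmul_eq_mul]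
  have h4 := hxy (P v) hPmem
  rw [h3] at h4
  exact (mul_eq_zero.1 h4).resolve_left hN

theorem commute_aeval {a b : Module.End F V} (h : Commute a b) (p : F[X]) :
    Commute (aeval a p) b := by
  induction p using Polynomial.induction_on' with
  | add p q hp hq =>
    rw [map_add]
    exact hp.add_left hq
  | monomial n c =>
    rw [← C_mul_X_pow_eq_monomial, map_mul, aeval_C, map_pow, aeval_X]
    exact (Algebra.commute_algebraMap_left c b).mul_left (h.pow_left n)

theorem inv_inf {Z Z' : Submodule F V} (hZ : Inv a Z) (hZ' : Inv a Z') : Inv a (Z ⊓ Z') :=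
  fun x hx => ⟨hZ x hx.1, hZ' x hx.2⟩

/-- an isometry of odd order all of whose vectors are orthogonal to their images is trivial -/
theorem eq_one_of_forall_ortho (h : IsoData B a N) (hB : B.Nondegenerate) (hodd : Odd N)
    (hall : ∀ x, B x (a x) = 0) : a = 1 := by
  have hpol : ∀ x y, B x (a y) + B y (a x) = 0 := by
    intro x y
    have := hall (x + y)
    simp only [map_add, LinearMap.add_apply] at this
    rw [hall x, hall y] at this
    linear_combination this
  have hsq : a * a = 1 := by
    apply LinearMap.ext
    intro x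
    rw [Module.End.mul_apply, Module.End.one_apply]
    have h0 : a (a x) - x = 0 := by
      apply hB.1
      intro y
      have hy : a ((a ^ (N - 1)) y) = y := h.apply_ad y
      set z := (a ^ (N - 1)) y with hz
      rw [← hy, map_sub, LinearMap.sub_apply, h.iso]
      have h1 := hpol x z
      have h2 := h.skew z (a x)
      linear_combination -h1 + h2
    exact sub_eq_zero.1 h0
  obtain ⟨j, hj⟩ := hodd
  have h1 := h.pow
  rw [hj, pow_succ, pow_mul, pow_two, hsq, one_pow, one_mul] at h1
  exact h1

section Main

variable [Fintype F] [FiniteDimensional F V]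

/-- the key dimension bound -/
theorem two_eta_add_two_le (hB : B.Nondegenerate) {r : ℕ} (hr : r.Prime) (hr2 : r ≠ 2)
    (hqr : ¬ r ∣ Fintype.card F) (hrF : (r : F) ≠ 0) (h : IsoData B a r) (ha1 : a ≠ 1)
    (u : Module.End F V) (hc : Commute a u) (hnil : IsNilpotent (u - 1)) (hu1 : u ≠ 1)
    (k η : ℕ) (hk : k = orderOf ((Fintype.card F : ℕ) : ZMod r))
    (hη : (Odd k ∧ η = k) ∨ (Even k ∧ 2 * η = k)) :
    2 * η + 2 ≤ finrank F V := by
  classical
  have hrodd : Odd r := hr.odd_of_ne_two hr2
  set A := fixSpace a with hA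
  have hAnd : NDOn B A := ndOn_fixSpace h hB hrF
  set V' := B.orthogonal A with hV'
  have hcompl : IsCompl A V' := isCompl_orthogonal h hAnd
  have hV'nd : NDOn B V' := ndOn_orthogonal h hB hAnd
  have hAinv : Inv a A := by
    intro x hx
    rw [hA, mem_fixSpace] at hx ⊢
    rw [hx, hx]
  have hV'inv : Inv a V' := h.inv_orthogonal hAinv
  have hsum : finrank F A + finrank F V' = finrank F V :=
    Submodule.finrank_add_eq_of_isCompl hcompl
  have hdisj : V' ⊓ A = ⊥ := by
    rw [inf_comm]
    exact hcompl.inf_eq_bot
  have hkV' : k ∣ finrank F V' := by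
    have := orderOf_dvd_finrank_sub a hr hqr h.pow V' hV'inv
    rw [← hA, hdisj, finrank_bot, Nat.sub_zero] at this
    rwa [hk]
  have heven : ∀ Z : Submodule F V, NDOn B Z → Even (finrank F Z) := by
    intro Z hZ
    exact Helper43_AltEven.even_finrank_of_alt (finrank F Z) Z (B.restrict Z)
      (fun x => h.alt x) (nondegenerate_restrict h hZ) rfl
  have hV'pos : 0 < finrank F V' := by
    by_contra h0
    have h0' : finrank F V' = 0 := by omega
    have hbot : V' = ⊥ := Submodule.finrank_eq_zero.1 h0'
    have htop : A = ⊤ := by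
      have := hcompl.sup_eq_top
      rwa [hbot, sup_bot_eq] at this
    exact fixSpace_ne_top ha1 htop
  have h2η : 2 * η ≤ finrank F V' := by
    rcases hη with ⟨hodd, rfl⟩ | ⟨hev, h2⟩
    · have : 2 * η ∣ finrank F V' :=
        Nat.Coprime.mul_dvd_of_dvd_of_dvd (Nat.coprime_two_left.2 hodd)
          (heven V' hV'nd).two_dvd hkV'
      exact Nat.le_of_dvd hV'pos this
    · rw [h2]
      exact Nat.le_of_dvd hV'pos hkV'
  by_cases hAbot : A = ⊥
  swap
  · have hApos : 0 < finrank F A := by
      rw [Nat.pos_iff_ne_zero]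
      intro h0
      exact hAbot (Submodule.finrank_eq_zero.1 h0)
    obtain ⟨c, hc'⟩ := heven A hAnd
    omega
  -- now `a` is fixed point free
  have hfix : ∀ W : Submodule F V, Inv a W → k ∣ finrank F W := by
    intro W hW
    have := orderOf_dvd_finrank_sub a hr hqr h.pow W hW
    rw [← hA, hAbot, inf_bot_eq, finrank_bot, Nat.sub_zero] at this
    rwa [hk]
  have hd : finrank F V' = finrank F V := by
    rw [hAbot, finrank_bot] at hsum
    omega
  by_contra hlt
  have hdeq : finrank F V = 2 * η := by
    obtain ⟨c, hc'⟩ := heven V' hV'nd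
    omega
  set Nn := u - 1 with hNn
  have hN0 : Nn ≠ 0 := fun h0 => hu1 (sub_eq_zero.1 h0)
  have hcN : Commute a Nn := hc.sub_right (Commute.one_right a)
  set K := LinearMap.ker Nn with hK
  have hKinv : Inv a K := by
    intro w hw
    rw [hK, LinearMap.mem_ker] at hw ⊢
    have hcomm : Nn (a w) = a (Nn w) := by
      have := congrArg (fun f => f w) hcN.eq
      simpa using this.symm
    rw [hcomm, hw, map_zero]
  obtain ⟨w0, hw0, hw0K, _⟩ := exists_mem_ker_range_of_nilpotent Nn hN0 hnil
  have hKpos : 0 < finrank F K := by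
    rw [Module.finrank_pos_iff_exists_ne_zero]
    exact ⟨⟨w0, hw0K⟩, fun h => hw0 (congrArg Subtype.val h)⟩
  have hKlt : finrank F K < finrank F V := by
    apply Submodule.finrank_lt
    intro htop
    exact hN0 (LinearMap.ker_eq_top.1 htop)
  have hkK := hfix K hKinv
  rcases hη with ⟨hodd, rfl⟩ | ⟨hev, h2⟩
  swap
  · have := Nat.le_of_dvd hKpos hkK
    omega
  -- the odd case: `finrank V = 2 k`
  have hex : ∃ x, B x (a x) ≠ 0 := by
    by_contra hall
    push Not at hall
    exact ha1 (eq_one_of_forall_ortho h hB hrodd hall)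
  obtain ⟨x0, hx0⟩ := hex
  have hx00 : x0 ≠ 0 := by
    rintro rfl
    apply hx0
    simp
  set S := cyc a x0 with hS
  have hSinv : Inv a S := inv_range_orbitMap a x0
  have hx0S : x0 ∈ S := self_mem_range_orbitMap a x0
  have hax0S : a x0 ∈ S := hSinv _ hx0S
  have hSpos : 0 < finrank F S := by
    rw [Module.finrank_pos_iff_exists_ne_zero]
    exact ⟨⟨x0, hx0S⟩, fun h => hx00 (congrArg Subtype.val h)⟩
  have hkS := hfix S hSinv
  have hSle : finrank F S ≤ finrank F V := Submodule.finrank_le S
  have hStop : S = ⊤ := by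
    apply Submodule.eq_top_of_finrank_eq
    by_contra hne
    -- then `finrank S = k`
    have hSk : finrank F S = η := by
      obtain ⟨c, hc'⟩ := hkS
      rw [hc'] at hSpos hSle hne
      rw [hdeq] at hSle hne
      have hηpos : 0 < η := by
        rcases Nat.eq_zero_or_pos η with h0 | h0
        · rw [h0, zero_mul] at hSpos
          omega
        · exact h0
      have hc2 : c ≤ 2 := by
        by_contra hc3
        have : η * 3 ≤ η * c := Nat.mul_le_mul_left η (by omega)
        omega
      have hc0 : c ≠ 0 := by
        rintro rfl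
        rw [mul_zero] at hSpos
        omega
      have hc2' : c ≠ 2 := by
        rintro rfl
        apply hne
        ring
      have : c = 1 := by omega
      rw [hc', this, mul_one]
    set R := S ⊓ B.orthogonal S with hR
    have hRinv : Inv a R := inv_inf hSinv (h.inv_orthogonal hSinv)
    have hkR := hfix R hRinv
    have hRle : finrank F R ≤ finrank F S := Submodule.finrank_mono inf_le_left
    by_cases hR0 : finrank F R = 0
    · -- `S` is nondegenerate of odd dimension
      have hRbot : R = ⊥ := Submodule.finrank_eq_zero.1 hR0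
      have hSnd : NDOn B S := by
        intro x hx hxy
        have hxo : x ∈ B.orthogonal S := by
          rw [LinearMap.BilinForm.mem_orthogonal_iff]
          intro y hy
          show B y x = 0
          rw [h.skew, hxy y hy, neg_zero]
        have hxR : x ∈ R := ⟨hx, hxo⟩
        rw [hRbot] at hxR
        exact (Submodule.mem_bot F).1 hxR
      have := heven S hSnd
      rw [hSk] at this
      exact (Nat.not_even_iff_odd.2 hodd) this
    · -- `S` is totally isotropic
      have hRS : finrank F R = finrank F S := by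
        have := Nat.le_of_dvd (Nat.pos_of_ne_zero hR0) hkR
        omega
      have hReq : R = S := Submodule.eq_of_le_of_finrank_eq inf_le_left hRS
      have hmem : a x0 ∈ B.orthogonal S := by
        have : a x0 ∈ R := by rw [hReq]; exact hax0S
        exact this.2
      rw [LinearMap.BilinForm.mem_orthogonal_iff] at hmem
      exact hx0 (hmem x0 hx0S)
  -- `Nn` is a polynomial in `a`
  have hNx0 : Nn x0 ∈ S := by rw [hStop]; trivial
  obtain ⟨hp, hhp⟩ := hNx0
  rw [orbitMap_apply] at hhp
  have hNeq : Nn = aeval a hp := by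
    apply LinearMap.ext
    intro y
    have hy : y ∈ S := by rw [hStop]; trivial
    obtain ⟨p, rfl⟩ := hy
    rw [orbitMap_apply]
    have h1 : Nn (aeval a p x0) = aeval a p (Nn x0) := by
      have := congrArg (fun f => f x0) (commute_aeval hcN p).eq
      simpa using this.symm
    rw [h1, ← hhp, ← Module.End.mul_apply, ← Module.End.mul_apply, ← map_mul, ← map_mul, mul_comm]
  obtain ⟨j, hj⟩ := hnil
  rw [hNeq, ← map_pow] at hj
  have hj0 : j ≠ 0 := by
    rintro rfl
    rw [pow_zero, map_one] at hj
    apply hN0
    rw [← mul_one Nn, hj, mul_zero]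
  have hm1 : minpoly F a ∣ hp ^ j := minpoly.dvd F a hj
  have hm2 : minpoly F a ∣ X ^ r - 1 := by
    apply minpoly.dvd
    rw [map_sub, map_pow, aeval_X, map_one, h.pow, sub_self]
  have hsqf : Squarefree (minpoly F a) :=
    Squarefree.squarefree_of_dvd hm2 ((X_pow_sub_one_separable_iff.2 hrF).squarefree)
  have hm3 : minpoly F a ∣ hp := hsqf.isRadical j hp hm1
  obtain ⟨c, hc'⟩ := hm3
  apply hN0
  rw [hNeq, hc', map_mul, minpoly.aeval, zero_mul]

end Main

end Cfsg.Agent.Lib.Helper40_SpAdj
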