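import Mathlib
import Cfsg.Agent.Lib.Helper40_SpAdj
import Cfsg.Agent.Lib.Helper40_OConj
import Cfsg.Agent.Lib.Helper40_OModel
import Cfsg.Agent.Lib.Helper40_BCData

set_option autoImplicit false

/-!
# Twisting symplectic and orthogonal isometries into each other (helper40)

For an isometry `c` of an alternating form `B` with `c² - 1` injective, `Q x = B x (c x)` is a
quadratic form with nondegenerate polar form, invariant under every isometry commuting with `c`;
conversely the polar form of a quadratic form twisted by `c - c⁻¹` is alternating.  Restricting to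
the non-fixed part this transfers isometries of odd order prime to the characteristic, and the
dimension bounds for elements of prime order `r` (`2 η(k)`, and `2 η(k) + 2` in the presence of a
commuting unipotent element).
-/

namespace Cfsg.Agent.Lib.Helper40_BCTwist

open Polynomial Module Cfsg.Agent.Lib.Helper40_Semisimple Cfsg.Agent.Lib.Helper40_SpBasic
  Cfsg.Agent.Lib.Helper40_SpCyclic Cfsg.Agent.Lib.Helper99_Singer
  Cfsg.Agent.Lib.Helper99_PrimeGraphL Cfsg.Agent.Lib.Helper99_PrimeGraphP
  Cfsg.Agent.Lib.Helper40_SpAdj Cfsg.Agent.Lib.Helper40_OConj Cfsg.Agent.Lib.Helper40_BCData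
  Cfsg.Agent.Lib.Helper40_OConj.OData

universe v

variable {F : Type v} [Field F] {V : Type v} [AddCommGroup V] [Module F V]

section spbound

variable {B : LinearMap.BilinForm F V} {a : Module.End F V}
variable [Fintype F] [FiniteDimensional F V]

/-- the basic dimension bound for a symplectic isometry of prime order -/
theorem two_eta_le (hB : B.Nondegenerate) {r : ℕ} (hr : r.Prime)
    (hqr : ¬ r ∣ Fintype.card F) (hrF : (r : F) ≠ 0) (h : IsoData B a r) (ha1 : a ≠ 1)
    (k η : ℕ) (hk : k = orderOf ((Fintype.card F : ℕ) : ZMod r))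
    (hη : (Odd k ∧ η = k) ∨ (Even k ∧ 2 * η = k)) :
    2 * η + finrank F (fixSpace a) ≤ finrank F V := by
  classical
  set A := fixSpace a with hA
  have hAnd : NDOn B A := ndOn_fixSpace h hB hrF
  set V' := B.orthogonal A with hV'
  have hcompl : IsCompl A V' := isCompl_orthogonal h hAnd
  have hV'nd : NDOn B V' := ndOn_orthogonal h hB hAnd
  have hAinv : Inv a A := by
    intro x hx
    rw [hA, mem_fixSpace] at hx ⊢
    rw [hx, hx]
  have hV'inv : Inv a V' := h.inv_orthogonal hAinv
  have hsum : finrank F A + finrank F V' = finrank F V :=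
    Submodule.finrank_add_eq_of_isCompl hcompl
  have hdisj : V' ⊓ A = ⊥ := by
    rw [inf_comm]
    exact hcompl.inf_eq_bot
  have hkV' : k ∣ finrank F V' := by
    have := orderOf_dvd_finrank_sub a hr hqr h.pow V' hV'inv
    rw [← hA, hdisj, finrank_bot, Nat.sub_zero] at this
    rwa [hk]
  have heven : Even (finrank F V') :=
    Helper43_AltEven.even_finrank_of_alt (finrank F V') V' (B.restrict V')
      (fun x => h.alt x) (nondegenerate_restrict h hV'nd) rfl
  have hV'pos : 0 < finrank F V' := by
    by_contra h0
    have h0' : finrank F V' = 0 := by omega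
    have hbot : V' = ⊥ := Submodule.finrank_eq_zero.1 h0'
    have htop : A = ⊤ := by
      have := hcompl.sup_eq_top
      rwa [hbot, sup_bot_eq] at this
    exact fixSpace_ne_top ha1 htop
  have h2η : 2 * η ≤ finrank F V' := by
    rcases hη with ⟨hodd, rfl⟩ | ⟨hev, h2⟩
    · have : 2 * η ∣ finrank F V' :=
        Nat.Coprime.mul_dvd_of_dvd_of_dvd (Nat.coprime_two_left.2 hodd) heven.two_dvd hkV'
      exact Nat.le_of_dvd hV'pos this
    · rw [h2]
      exact Nat.le_of_dvd hV'pos hkV'
  omega

end spbound

section whole

variable [FiniteDimensional F V]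

/-- the whole-space twist of a symplectic isometry `c` with `c² - 1` injective -/
theorem twist_sp_to_o (B : LinearMap.BilinForm F V) (c : Module.End F V) (N : ℕ)
    (h : IsoData B c N) (hB : B.Nondegenerate) (hinj : ∀ x, (c * c) x = x → x = 0) :
    ∃ Q : QuadraticForm F V, (QuadraticMap.polarBilin Q).Nondegenerate ∧
      (∀ x, Q x = B x (c x)) ∧
      ∀ b : Module.End F V, Commute b c → (∀ x y, B (b x) (b y) = B x y) → ∀ x, Q (b x) = Q x := by
  let Q : QuadraticForm F V := LinearMap.BilinMap.toQuadraticMap (B.compRight c)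
  have hQapp : ∀ x, Q x = B x (c x) := fun x => rfl
  have hpolar : ∀ x y, QuadraticMap.polarBilin Q x y = B x ((c - c ^ (N - 1)) y) := by
    intro x y
    have h1 : QuadraticMap.polarBilin Q x y = B x (c y) + B y (c x) := by
      rw [QuadraticMap.polarBilin_apply_apply, LinearMap.BilinMap.polar_toQuadraticMap]
      rfl
    rw [h1, LinearMap.sub_apply, map_sub, h.skew y (c x), h.adj1]
    ring
  have hdinj : Function.Injective ⇑(c - c ^ (N - 1)) := by
    rw [← LinearMap.ker_eq_bot, LinearMap.ker_eq_bot']
    intro y hy
    apply hinj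
    rw [LinearMap.sub_apply, sub_eq_zero] at hy
    rw [Module.End.mul_apply, hy, h.apply_ad]
  have hdsurj : Function.Surjective ⇑(c - c ^ (N - 1)) := LinearMap.surjective_of_injective hdinj
  have hleft : ∀ x, (∀ y, QuadraticMap.polarBilin Q x y = 0) → x = 0 := by
    intro x hx
    apply hB.1
    intro v
    obtain ⟨y, rfl⟩ := hdsurj v
    rw [← hpolar]
    exact hx y
  refine ⟨Q, ⟨hleft, ?_⟩, hQapp, ?_⟩
  · intro y hy
    apply hleft
    intro x
    have := hy x
    rw [QuadraticMap.polarBilin_apply_apply, QuadraticMap.polar_comm] at this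
    rw [QuadraticMap.polarBilin_apply_apply]
    exact this
  · intro b hbc hb x
    rw [hQapp, hQapp]
    have : c (b x) = b (c x) := by
      have := congrArg (fun f : Module.End F V => f x) hbc.eq
      simpa using this.symm
    rw [this, hb]

end whole

section oddSpToO

variable [FiniteDimensional F V]

/-- the non-fixed part of a symplectic isometry of odd invertible order, with the twisted
quadratic form, and an arbitrary commuting isometry -/
theorem exists_twist_odd (B : LinearMap.BilinForm F V) (c : Module.End F V) (N : ℕ)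
    (h : IsoData B c N) (hB : B.Nondegenerate) (hodd : Odd N) (hne : (N : F) ≠ 0) :
    ∃ (W : Submodule F V) (Q : QuadraticForm F W), (QuadraticMap.polarBilin Q).Nondegenerate ∧
      IsCompl (fixSpace c) W ∧ finrank F W + finrank F (fixSpace c) = finrank F V ∧
      ∀ b : Module.End F V, Commute b c → (∀ x y, B (b x) (b y) = B x y) →
        ∃ hbW : ∀ x ∈ W, b x ∈ W, ∀ x, Q (b.restrict hbW x) = Q x := by
  set A := fixSpace c with hA
  have hAnd : NDOn B A := ndOn_fixSpace h hB hne
  set W := B.orthogonal A with hW
  have hcompl : IsCompl A W := isCompl_orthogonal h hAnd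
  have hWnd : NDOn B W := ndOn_orthogonal h hB hAnd
  have hAinv : Inv c A := by
    intro x hx
    rw [hA, mem_fixSpace] at hx ⊢
    rw [hx, hx]
  have hWinv : Inv c W := h.inv_orthogonal hAinv
  have hd' : IsoData (B.restrict W) (c.restrict hWinv) N := h.restrict hWinv
  have hB' : (B.restrict W).Nondegenerate := nondegenerate_restrict h hWnd
  have hinj : ∀ x : W, ((c.restrict hWinv) * (c.restrict hWinv)) x = x → x = 0 := by
    intro x hx
    have h1 : (c * c) (x : V) = x := congrArg Subtype.val hx
    obtain ⟨j, hj⟩ := hodd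
    have h2 : ∀ i : ℕ, ((c * c) ^ i) (x : V) = x := by
      intro i
      induction i with
      | zero => simp
      | succ i ih => rw [pow_succ, Module.End.mul_apply, h1, ih]
    have h3 : c (x : V) = x := by
      have h4 : (c * c) ^ (j + 1) = c := by
        rw [← pow_two, ← pow_mul, show 2 * (j + 1) = N + 1 by omega, pow_succ, h.pow, one_mul]
      have := h2 (j + 1)
      rwa [h4] at this
    have h5 : (x : V) ∈ A ⊓ W := ⟨(mem_fixSpace c _).2 h3, x.2⟩
    rw [hcompl.inf_eq_bot] at h5
    exact Subtype.ext ((Submodule.mem_bot F).1 h5)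
  obtain ⟨Q, hQ, hQapp, hQinv⟩ := twist_sp_to_o (B.restrict W) (c.restrict hWinv) N hd' hB' hinj
  refine ⟨W, Q, hQ, hcompl, ?_, ?_⟩
  · rw [add_comm]
    exact Submodule.finrank_add_eq_of_isCompl hcompl
  · intro b hbc hb
    have hbA : ∀ x ∈ A, b x ∈ A := by
      intro x hx
      rw [hA, mem_fixSpace] at hx ⊢
      have : c (b x) = b (c x) := by
        have := congrArg (fun f : Module.End F V => f x) hbc.eq
        simpa using this.symm
      rw [this, hx]
    have hbinj : Function.Injective b := by
      rw [← LinearMap.ker_eq_bot, LinearMap.ker_eq_bot']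
      intro x hx
      apply hB.1
      intro y
      rw [← hb x y, hx, map_zero, LinearMap.zero_apply]
    have hbAsurj : ∀ y ∈ A, ∃ y' ∈ A, b y' = y := by
      let bA : A →ₗ[F] A := b.restrict hbA
      have hbAinj : Function.Injective bA :=
        fun x y hxy => Subtype.ext (hbinj (congrArg Subtype.val hxy))
      intro y hy
      obtain ⟨y', hy'⟩ := LinearMap.surjective_of_injective hbAinj ⟨y, hy⟩
      exact ⟨y', y'.2, congrArg Subtype.val hy'⟩
    have hbW : ∀ x ∈ W, b x ∈ W := by
      intro x hx
      rw [hW, LinearMap.BilinForm.mem_orthogonal_iff] at hx ⊢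
      intro y hy
      obtain ⟨y', hy'A, rfl⟩ := hbAsurj y hy
      show B (b y') (b x) = 0
      rw [hb]
      exact hx y' hy'A
    refine ⟨hbW, ?_⟩
    intro x
    apply hQinv (b.restrict hbW)
    · apply LinearMap.ext
      intro y
      apply Subtype.ext
      show b (c (y : V)) = c (b (y : V))
      have := congrArg (fun f : Module.End F V => f (y : V)) hbc.eq
      simpa using this
    · intro x y
      exact hb x y

end oddSpToO

section restrict

theorem restrict_pow_apply {a : Module.End F V} {W : Submodule F V} (hW : ∀ x ∈ W, a x ∈ W)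
    (k : ℕ) (x : W) : (((a.restrict hW) ^ k) x : V) = (a ^ k) (x : V) := by
  induction k generalizing x with
  | zero => simp
  | succ k ih =>
    rw [pow_succ, pow_succ, Module.End.mul_apply, Module.End.mul_apply, ih]
    rfl

theorem pow_fix {a : Module.End F V} {x : V} (hx : a x = x) (k : ℕ) : (a ^ k) x = x := by
  induction k with
  | zero => simp
  | succ k ih => rw [pow_succ, Module.End.mul_apply, hx, ih]

/-- powers of an endomorphism which is trivial on a complement of an invariant subspace -/
theorem restrict_pow_eq_one_iff {a : Module.End F V} {A W : Submodule F V} (hcompl : IsCompl A W)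
    (hA : ∀ x ∈ A, a x = x) (hW : ∀ x ∈ W, a x ∈ W) (k : ℕ) :
    (a.restrict hW) ^ k = 1 ↔ a ^ k = 1 := by
  constructor
  · intro h
    apply LinearMap.ext
    intro x
    have hx : x ∈ A ⊔ W := by
      rw [hcompl.sup_eq_top]
      trivial
    obtain ⟨y, hy, w, hw, rfl⟩ := Submodule.mem_sup.1 hx
    have h1 := restrict_pow_apply hW k ⟨w, hw⟩
    rw [h, Module.End.one_apply] at h1
    rw [map_add, pow_fix (hA y hy) k, ← h1, Module.End.one_apply]
  · intro h
    apply LinearMap.ext
    intro x
    apply Subtype.ext
    rw [restrict_pow_apply, h, Module.End.one_apply, Module.End.one_apply]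

theorem orderOf_restrict {a : Module.End F V} {A W : Submodule F V} (hcompl : IsCompl A W)
    (hA : ∀ x ∈ A, a x = x) (hW : ∀ x ∈ W, a x ∈ W) :
    orderOf (a.restrict hW) = orderOf a :=
  orderOf_eq_orderOf_iff.2 (fun k => restrict_pow_eq_one_iff hcompl hA hW k)

end restrict

section transfer

variable [FiniteDimensional F V]

/-- symplectic data of odd invertible order give orthogonal data of at most the same dimension -/
theorem SpHas.to_o_odd {N m : ℕ} (h : SpHas F N m) (hodd : Odd N) (hne : (N : F) ≠ 0) :
    ∃ d, d ≤ 2 * m ∧ OHas F N d := by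
  obtain ⟨V, _, _, _, B, a, hfr, hB, halt, hiso, ho⟩ := h
  have hd : IsoData B a N := ⟨halt, hiso, by rw [← ho]; exact pow_orderOf_eq_one a, hodd.pos⟩
  obtain ⟨W, Q, hQ, hcompl, hdim, hb⟩ := exists_twist_odd B a N hd hB hodd hne
  obtain ⟨hbW, hQinv⟩ := hb a (Commute.refl a) hiso
  refine ⟨finrank F W, by omega, W, inferInstance, inferInstance, inferInstance, Q,
    a.restrict hbW, rfl, hQ, hQinv, ?_⟩
  rw [← ho]
  exact orderOf_restrict hcompl (fun x hx => (mem_fixSpace a x).1 hx) hbW

theorem isCompl_fix_comm {Q : QuadraticForm F V} {a : Module.End F V} {N : ℕ}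
    (h : OData Q a N) : IsCompl (fixSpace a) (comm a) := by
  have hdisj : Disjoint (fixSpace a) (comm a) := by
    rw [Submodule.disjoint_def]
    intro x hx hxW
    exact h.eq_zero_of_fixed x hxW ((mem_fixSpace a x).1 hx)
  have hsup : fixSpace a ⊔ comm a = ⊤ := by
    apply Submodule.eq_top_of_disjoint _ _ _ hdisj
    rw [add_comm]
    exact (LinearMap.finrank_range_add_finrank_ker (a - 1)).ge
  exact ⟨hdisj, codisjoint_iff.2 hsup⟩

/-- orthogonal data of odd invertible order give symplectic data of at most the same dimension -/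
theorem OHas.to_sp_odd {N d : ℕ} (h : OHas F N d) (hodd : Odd N) (hne : (N : F) ≠ 0) :
    ∃ m, 2 * m ≤ d ∧ SpHas F N m := by
  obtain ⟨V, _, _, _, Q, a, hfr, hQ, hiso, ho⟩ := h
  have hd : OData Q a N := ⟨hiso, by rw [← ho]; exact pow_orderOf_eq_one a, hodd, hne⟩
  have hW : Inv a (comm a) := inv_comm a
  have hd' : IsoData ((tw Q a N).restrict (comm a)) (a.restrict hW) N := hd.isoData.restrict hW
  have hB' : ((tw Q a N).restrict (comm a)).Nondegenerate :=
    nondegenerate_restrict hd.isoData (hd.ndOn_tw hQ)
  have heven : Even (finrank F (comm a)) :=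
    Helper43_AltEven.even_finrank_of_alt (finrank F (comm a)) (comm a)
      ((tw Q a N).restrict (comm a)) hd'.alt hB' rfl
  obtain ⟨m, hm⟩ := heven
  have hle : finrank F (comm a) ≤ finrank F V := Submodule.finrank_le _
  refine ⟨m, by omega, comm a, inferInstance, inferInstance, inferInstance,
    (tw Q a N).restrict (comm a), a.restrict hW, by omega, hB', hd'.alt, hd'.iso, ?_⟩
  rw [← ho]
  exact orderOf_restrict (isCompl_fix_comm hd) (fun x hx => (mem_fixSpace a x).1 hx) hW

end transfer

section obound

variable [Fintype F] [FiniteDimensional F V]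

/-- the basic dimension bound for an orthogonal isometry of prime order -/
theorem o_two_eta_le (Q : QuadraticForm F V) (hQ : (QuadraticMap.polarBilin Q).Nondegenerate)
    (a : Module.End F V) {r : ℕ} (hr : r.Prime) (hqr : ¬ r ∣ Fintype.card F)
    (h : OData Q a r) (ha1 : a ≠ 1) (k η : ℕ)
    (hk : k = orderOf ((Fintype.card F : ℕ) : ZMod r))
    (hη : (Odd k ∧ η = k) ∨ (Even k ∧ 2 * η = k)) :
    2 * η + finrank F (fixSpace a) ≤ finrank F V := by
  have hW : Inv a (comm a) := inv_comm a
  have hd' : IsoData ((tw Q a r).restrict (comm a)) (a.restrict hW) r := h.isoData.restrict hW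
  have hB' : ((tw Q a r).restrict (comm a)).Nondegenerate :=
    nondegenerate_restrict h.isoData (h.ndOn_tw hQ)
  have hcompl := isCompl_fix_comm h
  have ha1' : a.restrict hW ≠ 1 := by
    intro h1
    apply ha1
    have := (restrict_pow_eq_one_iff hcompl (fun x hx => (mem_fixSpace a x).1 hx) hW 1).1
      (by rw [pow_one]; exact h1)
    rwa [pow_one] at this
  have h1 := two_eta_le hB' hr hqr h.ne hd' ha1' k η hk hη
  have h2 : finrank F (fixSpace a) + finrank F (comm a) = finrank F V :=
    Submodule.finrank_add_eq_of_isCompl hcompl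
  omega

/-- the dimension bound in the presence of a commuting unipotent isometry -/
theorem o_two_eta_add_two_le (Q : QuadraticForm F V)
    (hQ : (QuadraticMap.polarBilin Q).Nondegenerate) (a : Module.End F V) {r : ℕ}
    (hr : r.Prime) (hr2 : r ≠ 2) (hqr : ¬ r ∣ Fintype.card F) (h : OData Q a r) (ha1 : a ≠ 1)
    (u : Module.End F V) (hc : Commute a u) (hnil : IsNilpotent (u - 1)) (hu1 : u ≠ 1) (k η : ℕ)
    (hk : k = orderOf ((Fintype.card F : ℕ) : ZMod r))
    (hη : (Odd k ∧ η = k) ∨ (Even k ∧ 2 * η = k)) :
    2 * η + 2 ≤ finrank F V := by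
  have hW : Inv a (comm a) := inv_comm a
  have hd' : IsoData ((tw Q a r).restrict (comm a)) (a.restrict hW) r := h.isoData.restrict hW
  have hB' : ((tw Q a r).restrict (comm a)).Nondegenerate :=
    nondegenerate_restrict h.isoData (h.ndOn_tw hQ)
  have hcompl := isCompl_fix_comm h
  have ha1' : a.restrict hW ≠ 1 := by
    intro h1
    apply ha1
    have := (restrict_pow_eq_one_iff hcompl (fun x hx => (mem_fixSpace a x).1 hx) hW 1).1
      (by rw [pow_one]; exact h1)
    rwa [pow_one] at this
  have hsum : finrank F (fixSpace a) + finrank F (comm a) = finrank F V :=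
    Submodule.finrank_add_eq_of_isCompl hcompl
  have hau : ∀ x, a (u x) = u (a x) := by
    intro x
    have := congrArg (fun f : Module.End F V => f x) hc.eq
    simpa using this
  have huW : ∀ x ∈ comm a, u x ∈ comm a := by
    rintro _ ⟨y, rfl⟩
    refine ⟨u y, ?_⟩
    rw [LinearMap.sub_apply, LinearMap.sub_apply, Module.End.one_apply, Module.End.one_apply,
      map_sub, hau]
  have huA : ∀ x ∈ fixSpace a, u x ∈ fixSpace a := by
    intro x hx
    rw [mem_fixSpace] at hx ⊢
    rw [hau, hx]
  by_cases huW1 : u.restrict huW = 1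
  · -- `u` is nontrivial on the fixed space, which then has dimension at least two
    have huA1 : u.restrict huA ≠ 1 := by
      intro h1
      apply hu1
      apply LinearMap.ext
      intro x
      have hx : x ∈ fixSpace a ⊔ comm a := by
        rw [hcompl.sup_eq_top]
        trivial
      obtain ⟨y, hy, w, hw, rfl⟩ := Submodule.mem_sup.1 hx
      have e1 : u y = y := congrArg Subtype.val (LinearMap.congr_fun h1 ⟨y, hy⟩)
      have e2 : u w = w := congrArg Subtype.val (LinearMap.congr_fun huW1 ⟨w, hw⟩)
      rw [map_add, e1, e2, Module.End.one_apply]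
    set Nn : Module.End F (fixSpace a) := u.restrict huA - 1 with hNn
    have hN0 : Nn ≠ 0 := fun h0 => huA1 (sub_eq_zero.1 h0)
    have hnil' : IsNilpotent Nn := by
      obtain ⟨j, hj⟩ := hnil
      refine ⟨j, ?_⟩
      apply LinearMap.ext
      intro x
      apply Subtype.ext
      have key : ∀ (i : ℕ) (x : fixSpace a), ((Nn ^ i) x : V) = ((u - 1) ^ i) (x : V) := by
        intro i
        induction i with
        | zero => intro x; simp
        | succ i ih =>
          intro x
          rw [pow_succ, pow_succ, Module.End.mul_apply, Module.End.mul_apply, ih]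
          rfl
      rw [key, hj]
      rfl
    obtain ⟨w0, hw0, hw0K, _⟩ := exists_mem_ker_range_of_nilpotent Nn hN0 hnil'
    have hKpos : 0 < finrank F (LinearMap.ker Nn) := by
      rw [Module.finrank_pos_iff_exists_ne_zero]
      exact ⟨⟨w0, hw0K⟩, fun h => hw0 (congrArg Subtype.val h)⟩
    have hKlt : finrank F (LinearMap.ker Nn) < finrank F (fixSpace a) := by
      apply Submodule.finrank_lt
      intro htop
      exact hN0 (LinearMap.ker_eq_top.1 htop)
    have h1 := two_eta_le hB' hr hqr h.ne hd' ha1' k η hk hη
    omega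
  · have hcomm : Commute (a.restrict hW) (u.restrict huW) := by
      apply LinearMap.ext
      intro y
      apply Subtype.ext
      exact hau (y : V)
    have hnil' : IsNilpotent (u.restrict huW - 1) := by
      obtain ⟨j, hj⟩ := hnil
      refine ⟨j, ?_⟩
      apply LinearMap.ext
      intro x
      apply Subtype.ext
      have key : ∀ (i : ℕ) (x : comm a),
          (((u.restrict huW - 1) ^ i) x : V) = ((u - 1) ^ i) (x : V) := by
        intro i
        induction i with
        | zero => intro x; simp
        | succ i ih =>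
          intro x
          rw [pow_succ, pow_succ, Module.End.mul_apply, Module.End.mul_apply, ih]
          rfl
      rw [key, hj]
      rfl
    have h1 := two_eta_add_two_le hB' hr hr2 hqr h.ne hd' ha1' (u.restrict huW) hcomm hnil' huW1
      k η hk hη
    have hle : finrank F (comm a) ≤ finrank F V := Submodule.finrank_le _
    omega

end obound

end Cfsg.Agent.Lib.Helper40_BCTwist
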