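import Mathlib
import Cfsg.Agent.Lib.Helper40_BCTwist

set_option autoImplicit false

/-!
# Involutions commuting with an isometry of prime order (helper40)

Eigenspace decomposition of an involution in characteristic different from two; an involutory
symplectic isometry `z ≠ ± 1` commuting with an isometry of prime order `r` forces dimension at
least `2 η + 2`; the orthogonal analogue in odd dimension `2 n + 1`.
-/

namespace Cfsg.Agent.Lib.Helper40_BCInvol

open Polynomial Module Cfsg.Agent.Lib.Helper40_SpBasic Cfsg.Agent.Lib.Helper99_Singer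
  Cfsg.Agent.Lib.Helper99_PrimeGraphL Cfsg.Agent.Lib.Helper40_SpAdj
  Cfsg.Agent.Lib.Helper40_OConj Cfsg.Agent.Lib.Helper40_BCTwist

universe v

variable {F : Type v} [Field F] {V : Type v} [AddCommGroup V] [Module F V]

section eigen

variable (z : Module.End F V)

/-- the `(-1)`-eigenspace -/
abbrev negSpace : Submodule F V := LinearMap.ker (z + 1)

theorem mem_negSpace (x : V) : x ∈ negSpace z ↔ z x = -x := by
  rw [LinearMap.mem_ker, LinearMap.add_apply, Module.End.one_apply, add_eq_zero_iff_eq_neg]

variable {z}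

theorem isCompl_eigen (hz : z * z = 1) (h2 : (2 : F) ≠ 0) :
    IsCompl (fixSpace z) (negSpace z) := by
  have hzz : ∀ x, z (z x) = x := fun x => by
    rw [← Module.End.mul_apply, hz, Module.End.one_apply]
  constructor
  · rw [Submodule.disjoint_def]
    intro x hx hx'
    rw [mem_fixSpace] at hx
    rw [mem_negSpace] at hx'
    have h3 : (2 : F) • x = 0 := by
      rw [two_smul]
      nth_rewrite 1 [← hx]
      rw [hx', neg_add_cancel]
    rcases smul_eq_zero.1 h3 with h4 | h4
    · exact absurd h4 h2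
    · exact h4
  · rw [codisjoint_iff, eq_top_iff]
    intro x _
    rw [Submodule.mem_sup]
    refine ⟨(2 : F)⁻¹ • (x + z x), ?_, (2 : F)⁻¹ • (x - z x), ?_, ?_⟩
    · rw [mem_fixSpace, map_smul, map_add, hzz, add_comm]
    · rw [mem_negSpace, map_smul, map_sub, hzz, ← smul_neg, neg_sub]
    · rw [← smul_add, add_add_sub_cancel, ← two_smul F x, smul_smul, inv_mul_cancel₀ h2, one_smul]

theorem ortho_eigen (B : LinearMap.BilinForm F V) (hB : ∀ x y, B (z x) (z y) = B x y)
    (h2 : (2 : F) ≠ 0) {x y : V} (hx : x ∈ fixSpace z) (hy : y ∈ negSpace z) :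
    B x y = 0 ∧ B y x = 0 := by
  rw [mem_fixSpace] at hx
  rw [mem_negSpace] at hy
  constructor
  · have h1 := hB x y
    rw [hx, hy, map_neg] at h1
    have h3 : (2 : F) * B x y = 0 := by linear_combination -h1
    rcases mul_eq_zero.1 h3 with h4 | h4
    · exact absurd h4 h2
    · exact h4
  · have h1 := hB y x
    rw [hx, hy, map_neg, LinearMap.neg_apply] at h1
    have h3 : (2 : F) * B y x = 0 := by linear_combination -h1
    rcases mul_eq_zero.1 h3 with h4 | h4
    · exact absurd h4 h2
    · exact h4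

theorem ndOn_fix (B : LinearMap.BilinForm F V) (hBnd : B.Nondegenerate)
    (hB : ∀ x y, B (z x) (z y) = B x y) (hz : z * z = 1) (h2 : (2 : F) ≠ 0) :
    NDOn B (fixSpace z) := by
  intro x hx hxy
  apply hBnd.1
  intro v
  have hv : v ∈ fixSpace z ⊔ negSpace z := by
    rw [(isCompl_eigen hz h2).sup_eq_top]
    trivial
  obtain ⟨y, hy, w, hw, rfl⟩ := Submodule.mem_sup.1 hv
  rw [map_add, hxy y hy, (ortho_eigen B hB h2 hx hw).1, add_zero]

theorem ndOn_neg (B : LinearMap.BilinForm F V) (hBnd : B.Nondegenerate)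
    (hB : ∀ x y, B (z x) (z y) = B x y) (hz : z * z = 1) (h2 : (2 : F) ≠ 0) :
    NDOn B (negSpace z) := by
  intro x hx hxy
  apply hBnd.1
  intro v
  have hv : v ∈ fixSpace z ⊔ negSpace z := by
    rw [(isCompl_eigen hz h2).sup_eq_top]
    trivial
  obtain ⟨y, hy, w, hw, rfl⟩ := Submodule.mem_sup.1 hv
  rw [map_add, hxy w hw, (ortho_eigen B hB h2 hy hx).2, add_zero]

theorem inv_fix_of_commute {h : Module.End F V} (hc : Commute z h) : Inv h (fixSpace z) := by
  intro x hx
  rw [mem_fixSpace] at hx ⊢
  have : z (h x) = h (z x) := by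
    have := congrArg (fun f : Module.End F V => f x) hc.eq
    simpa using this
  rw [this, hx]

theorem inv_neg_of_commute {h : Module.End F V} (hc : Commute z h) : Inv h (negSpace z) := by
  intro x hx
  rw [mem_negSpace] at hx ⊢
  have : z (h x) = h (z x) := by
    have := congrArg (fun f : Module.End F V => f x) hc.eq
    simpa using this
  rw [this, hx, map_neg]

/-- an endomorphism trivial on both eigenspaces is trivial -/
theorem eq_one_of_restrict (hz : z * z = 1) (h2 : (2 : F) ≠ 0) {h : Module.End F V}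
    (hp : ∀ x ∈ fixSpace z, h x = x) (hm : ∀ x ∈ negSpace z, h x = x) : h = 1 := by
  apply LinearMap.ext
  intro v
  have hv : v ∈ fixSpace z ⊔ negSpace z := by
    rw [(isCompl_eigen hz h2).sup_eq_top]
    trivial
  obtain ⟨y, hy, w, hw, rfl⟩ := Submodule.mem_sup.1 hv
  rw [map_add, hp y hy, hm w hw, Module.End.one_apply]

theorem fix_ne_bot (hz : z * z = 1) (h2 : (2 : F) ≠ 0) (hz1 : z ≠ -1) : fixSpace z ≠ ⊥ := by
  intro hbot
  apply hz1
  apply LinearMap.ext
  intro v
  have hv : v ∈ fixSpace z ⊔ negSpace z := by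
    rw [(isCompl_eigen hz h2).sup_eq_top]
    trivial
  rw [hbot, bot_sup_eq, mem_negSpace] at hv
  rw [hv, LinearMap.neg_apply, Module.End.one_apply]

theorem neg_ne_bot (hz : z * z = 1) (h2 : (2 : F) ≠ 0) (hz1 : z ≠ 1) : negSpace z ≠ ⊥ := by
  intro hbot
  apply hz1
  apply LinearMap.ext
  intro v
  have hv : v ∈ fixSpace z ⊔ negSpace z := by
    rw [(isCompl_eigen hz h2).sup_eq_top]
    trivial
  rw [hbot, sup_bot_eq, mem_fixSpace] at hv
  rw [hv, Module.End.one_apply]

end eigen

section sp

variable [Fintype F] [FiniteDimensional F V]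

/-- a symplectic involution `≠ ± 1` commuting with an isometry of prime order -/
theorem sp_invol_bound (B : LinearMap.BilinForm F V) (hB : B.Nondegenerate)
    (h : Module.End F V) {r : ℕ} (hr : r.Prime) (hqr : ¬ r ∣ Fintype.card F) (hrF : (r : F) ≠ 0)
    (hd : IsoData B h r) (hh1 : h ≠ 1) (z : Module.End F V) (hz : z * z = 1)
    (hzB : ∀ x y, B (z x) (z y) = B x y) (hc : Commute z h) (hz1 : z ≠ 1) (hzn : z ≠ -1)
    (h2 : (2 : F) ≠ 0) (k η : ℕ) (hk : k = orderOf ((Fintype.card F : ℕ) : ZMod r))
    (hη : (Odd k ∧ η = k) ∨ (Even k ∧ 2 * η = k)) :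
    2 * η + 2 ≤ finrank F V := by
  have hcompl := isCompl_eigen hz h2
  have hsum : finrank F (fixSpace z) + finrank F (negSpace z) = finrank F V :=
    Submodule.finrank_add_eq_of_isCompl hcompl
  have hPnd := ndOn_fix B hB hzB hz h2
  have hMnd := ndOn_neg B hB hzB hz h2
  have hPinv : Inv h (fixSpace z) := inv_fix_of_commute hc
  have hMinv : Inv h (negSpace z) := inv_neg_of_commute hc
  have hevenP : Even (finrank F (fixSpace z)) :=
    Helper43_AltEven.even_finrank_of_alt _ (fixSpace z) (B.restrict (fixSpace z))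
      (fun x => hd.alt x) (nondegenerate_restrict hd hPnd) rfl
  have hevenM : Even (finrank F (negSpace z)) :=
    Helper43_AltEven.even_finrank_of_alt _ (negSpace z) (B.restrict (negSpace z))
      (fun x => hd.alt x) (nondegenerate_restrict hd hMnd) rfl
  have hPpos : 0 < finrank F (fixSpace z) := by
    rw [Nat.pos_iff_ne_zero]
    intro h0
    exact fix_ne_bot hz h2 hzn (Submodule.finrank_eq_zero.1 h0)
  have hMpos : 0 < finrank F (negSpace z) := by
    rw [Nat.pos_iff_ne_zero]
    intro h0
    exact neg_ne_bot hz h2 hz1 (Submodule.finrank_eq_zero.1 h0)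
  obtain ⟨cP, hcP⟩ := hevenP
  obtain ⟨cM, hcM⟩ := hevenM
  by_cases hP1 : h.restrict hPinv = 1
  · have hM1 : h.restrict hMinv ≠ 1 := by
      intro hM1
      apply hh1
      apply eq_one_of_restrict hz h2
      · intro x hx
        exact congrArg Subtype.val (LinearMap.congr_fun hP1 ⟨x, hx⟩)
      · intro x hx
        exact congrArg Subtype.val (LinearMap.congr_fun hM1 ⟨x, hx⟩)
    have := two_eta_le (nondegenerate_restrict hd hMnd) hr hqr hrF (hd.restrict hMinv) hM1 k η hk hη
    omega
  · have := two_eta_le (nondegenerate_restrict hd hPnd) hr hqr hrF (hd.restrict hPinv) hP1 k η hk hη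
    omega

end sp

section resq

/-- the restriction of a quadratic form to a subspace -/
noncomputable abbrev resQ (Q : QuadraticForm F V) (W : Submodule F V) : QuadraticForm F W :=
  Q.comp W.subtype

theorem resQ_apply (Q : QuadraticForm F V) (W : Submodule F V) (x : W) : resQ Q W x = Q (x : V) :=
  rfl

theorem polar_resQ (Q : QuadraticForm F V) (W : Submodule F V) (x y : W) :
    QuadraticMap.polarBilin (resQ Q W) x y = QuadraticMap.polarBilin Q (x : V) (y : V) := rfl

theorem nondegenerate_resQ (Q : QuadraticForm F V) (W : Submodule F V)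
    (hW : NDOn (QuadraticMap.polarBilin Q) W) :
    (QuadraticMap.polarBilin (resQ Q W)).Nondegenerate := by
  have hleft : ∀ x : W, (∀ y : W, QuadraticMap.polarBilin (resQ Q W) x y = 0) → x = 0 := by
    intro x hx
    apply Subtype.ext
    apply hW x x.2
    intro y hy
    exact hx ⟨y, hy⟩
  refine ⟨hleft, ?_⟩
  intro y hy
  apply hleft
  intro x
  have := hy x
  rw [QuadraticMap.polarBilin_apply_apply, QuadraticMap.polar_comm] at this
  rw [QuadraticMap.polarBilin_apply_apply]
  exact this

theorem oData_restrict {Q : QuadraticForm F V} {a : Module.End F V} {N : ℕ} (h : OData Q a N)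
    {W : Submodule F V} (hW : ∀ x ∈ W, a x ∈ W) : OData (resQ Q W) (a.restrict hW) N where
  iso := fun x => h.iso x
  pow := by
    apply LinearMap.ext
    intro x
    apply Subtype.ext
    rw [restrict_pow_apply, h.pow]
    rfl
  odd := h.odd
  ne := h.ne

end resq

section orth

variable [Fintype F] [FiniteDimensional F V]

/-- an orthogonal involution with even-dimensional nonzero `(-1)`-eigenspace commuting with an
isometry of prime order `r` in dimension `2 n + 1`, when `n ≤ η` -/
theorem o_invol_analysis (Q : QuadraticForm F V)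
    (hQ : (QuadraticMap.polarBilin Q).Nondegenerate) (n : ℕ) (hdim : finrank F V = 2 * n + 1)
    (h : Module.End F V) {r : ℕ} (hr : r.Prime) (hqr : ¬ r ∣ Fintype.card F)
    (hd : OData Q h r) (hh1 : h ≠ 1) (z : Module.End F V) (hz : z * z = 1)
    (hzQ : ∀ x, Q (z x) = Q x) (hc : Commute z h) (h2 : (2 : F) ≠ 0)
    (heven : Even (finrank F (negSpace z))) (hpos : 0 < finrank F (negSpace z))
    (k η : ℕ) (hk : k = orderOf ((Fintype.card F : ℕ) : ZMod r))
    (hη : (Odd k ∧ η = k) ∨ (Even k ∧ 2 * η = k)) (hnη : n ≤ η) :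
    η = n ∧ finrank F (negSpace z) = 2 * n ∧ (∀ x ∈ negSpace z, h x = x → x = 0) := by
  have hcompl := isCompl_eigen hz h2
  have hsum : finrank F (fixSpace z) + finrank F (negSpace z) = finrank F V :=
    Submodule.finrank_add_eq_of_isCompl hcompl
  have hzB : ∀ x y, QuadraticMap.polarBilin Q (z x) (z y) = QuadraticMap.polarBilin Q x y := by
    intro x y
    simp only [QuadraticMap.polarBilin_apply_apply, QuadraticMap.polar]
    rw [← map_add, hzQ, hzQ, hzQ]
  have hPnd := ndOn_fix (QuadraticMap.polarBilin Q) hQ hzB hz h2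
  have hMnd := ndOn_neg (QuadraticMap.polarBilin Q) hQ hzB hz h2
  have hPinv : Inv h (fixSpace z) := inv_fix_of_commute hc
  have hMinv : Inv h (negSpace z) := inv_neg_of_commute hc
  obtain ⟨cM, hcM⟩ := heven
  have hP1 : h.restrict hPinv = 1 := by
    by_contra hP1
    have := o_two_eta_le (resQ Q (fixSpace z)) (nondegenerate_resQ Q _ hPnd) (h.restrict hPinv) hr
      hqr (oData_restrict hd hPinv) hP1 k η hk hη
    omega
  have hM1 : h.restrict hMinv ≠ 1 := by
    intro hM1
    apply hh1
    apply eq_one_of_restrict hz h2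
    · intro x hx
      exact congrArg Subtype.val (LinearMap.congr_fun hP1 ⟨x, hx⟩)
    · intro x hx
      exact congrArg Subtype.val (LinearMap.congr_fun hM1 ⟨x, hx⟩)
  have hb := o_two_eta_le (resQ Q (negSpace z)) (nondegenerate_resQ Q _ hMnd) (h.restrict hMinv) hr
    hqr (oData_restrict hd hMinv) hM1 k η hk hη
  refine ⟨by omega, by omega, ?_⟩
  intro x hx hhx
  have h0 : finrank F (fixSpace (h.restrict hMinv)) = 0 := by omega
  have hbot : fixSpace (h.restrict hMinv) = ⊥ := Submodule.finrank_eq_zero.1 h0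
  have hmem : (⟨x, hx⟩ : negSpace z) ∈ fixSpace (h.restrict hMinv) := by
    rw [mem_fixSpace]
    exact Subtype.ext hhx
  rw [hbot] at hmem
  exact congrArg Subtype.val ((Submodule.mem_bot F).1 hmem)

end orth

end Cfsg.Agent.Lib.Helper40_BCInvol
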