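import Mathlib
import Cfsg.Agent.Lib.Helper94_Bridge
import Cfsg.Agent.Lib.Helper13_Symp

set_option autoImplicit false

/-!
The matrix group `Matrix.symplecticGroup (Fin m) F` is isomorphic to the isometry group of the
standard alternating form, as a subgroup of the linear automorphisms of `F^(2m)`.
-/

namespace Cfsg.Agent.Lib.Helper94_SpMatBridge

open Matrix Cfsg.Agent.Lib.Helper94_Symp Cfsg.Agent.Lib.Helper94_Bridge

variable {F : Type*} [Field F] (m : ℕ)

/-- The linear automorphism attached to a symplectic matrix. -/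
noncomputable def spToLin (A : Matrix.symplecticGroup (Fin m) F) :
    (Fin m ⊕ Fin m → F) ≃ₗ[F] (Fin m ⊕ Fin m → F) :=
  LinearEquiv.ofLinear (Matrix.toLin' (A : Matrix (Fin m ⊕ Fin m) (Fin m ⊕ Fin m) F))
    (Matrix.toLin' ((A⁻¹ : Matrix.symplecticGroup (Fin m) F) :
      Matrix (Fin m ⊕ Fin m) (Fin m ⊕ Fin m) F))
    (by
      rw [← Matrix.toLin'_mul, ← Submonoid.coe_mul, mul_inv_cancel, Submonoid.coe_one,
        Matrix.toLin'_one])
    (by
      rw [← Matrix.toLin'_mul, ← Submonoid.coe_mul, inv_mul_cancel, Submonoid.coe_one,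
        Matrix.toLin'_one])

@[simp] lemma spToLin_apply (A : Matrix.symplecticGroup (Fin m) F) (x : Fin m ⊕ Fin m → F) :
    spToLin m A x = (A : Matrix (Fin m ⊕ Fin m) (Fin m ⊕ Fin m) F) *ᵥ x := by
  simp [spToLin]

lemma spToLin_mem (A : Matrix.symplecticGroup (Fin m) F) : spToLin m A ∈ isoGroup (Bsymp m F) := by
  intro u v
  rw [spToLin_apply, spToLin_apply, Bsymp_apply, Bsymp_apply]
  exact Cfsg.Agent.Lib.Helper13_Symp.sympForm_mulVec_mulVec_of_mem m A.2 u v

/-- The isomorphism between the matrix symplectic group and the isometry group of `Bsymp`. -/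
noncomputable def spEquiv : Matrix.symplecticGroup (Fin m) F ≃* ↥(isoGroup (Bsymp m F)) where
  toFun A := ⟨spToLin m A, spToLin_mem m A⟩
  invFun g := ⟨LinearMap.toMatrix' ((g : (Fin m ⊕ Fin m → F) ≃ₗ[F] (Fin m ⊕ Fin m → F)) :
      (Fin m ⊕ Fin m → F) →ₗ[F] (Fin m ⊕ Fin m → F)),
    Cfsg.Agent.Lib.Helper13_Symp.mem_symplecticGroup_of_preserves m (by
      intro u v
      have h := g.2 u v
      rw [Bsymp_apply, Bsymp_apply] at h
      rw [LinearMap.toMatrix'_mulVec, LinearMap.toMatrix'_mulVec]
      exact h)⟩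
  left_inv A := by
    apply Subtype.ext
    simp only
    apply Matrix.toLin'.injective
    rw [Matrix.toLin'_toMatrix']
    refine LinearMap.ext fun x => ?_
    rw [LinearEquiv.coe_coe, spToLin_apply, Matrix.toLin'_apply]
  right_inv g := by
    apply Subtype.ext
    refine LinearEquiv.ext fun x => ?_
    simp only
    rw [spToLin_apply, LinearMap.toMatrix'_mulVec]
    rfl
  map_mul' A B := by
    apply Subtype.ext
    refine LinearEquiv.ext fun x => ?_
    simp only [Subgroup.coe_mul, LinearEquiv.mul_apply, spToLin_apply, Submonoid.coe_mul,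
      Matrix.mulVec_mulVec]

@[simp] lemma spEquiv_apply (A : Matrix.symplecticGroup (Fin m) F) (x : Fin m ⊕ Fin m → F) :
    ((spEquiv m A : ↥(isoGroup (Bsymp m F))) : (Fin m ⊕ Fin m → F) ≃ₗ[F] (Fin m ⊕ Fin m → F)) x =
      (A : Matrix (Fin m ⊕ Fin m) (Fin m ⊕ Fin m) F) *ᵥ x :=
  spToLin_apply m A x

/-- Perfectness transfers along a group isomorphism. -/
lemma commutator_eq_top_of_equiv {G G' : Type*} [Group G] [Group G'] (e : G ≃* G')
    (h : commutator G' = ⊤) : commutator G = ⊤ := by
  have h1 : (commutator G').map e.symm.toMonoidHom = commutator G := by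
    rw [commutator_def, Subgroup.map_commutator, commutator_def]
    have : (⊤ : Subgroup G').map e.symm.toMonoidHom = ⊤ :=
      Subgroup.map_top_of_surjective _ e.symm.surjective
    rw [this]
  rw [← h1, h]
  exact Subgroup.map_top_of_surjective _ e.symm.surjective

/-- A subgroup equal to its own derived subgroup is perfect as a group. -/
lemma commutator_subtype_eq_top {G : Type*} [Group G] (H : Subgroup G) (h : H ≤ ⁅H, H⁆) :
    commutator H = ⊤ := by
  apply Subgroup.map_injective H.subtype_injective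
  rw [Subgroup.map_subtype_commutator, ← MonoidHom.range_eq_map, Subgroup.range_subtype]
  exact le_antisymm (Subgroup.commutator_le_self H) h

end Cfsg.Agent.Lib.Helper94_SpMatBridge
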