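import Mathlib
import Cfsg.Agent.S0752
import Cfsg.Agent.Lib.Helper94_Symp
import Cfsg.Agent.Lib.Helper94_Bridge
import Cfsg.Agent.Lib.Helper94_SpMatBridge

set_option autoImplicit false

/-!
Bridge: the isometry group of an abstract finite-dimensional nondegenerate alternating space of
dimension `2m` is isomorphic to `Matrix.symplecticGroup (Fin m) F`.
-/

namespace Cfsg.Agent.Lib.Helper99_SpBridge

open Cfsg.Agent.Lib.Helper94_Symp Cfsg.Agent.Lib.Helper94_Bridge Cfsg.Agent.Lib.Helper94_SpMatBridge

variable {F : Type*} [Field F]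

/-- Transport of isometry groups along a linear isometry. -/
def isoGroupCongr {V W : Type*} [AddCommGroup V] [Module F V] [AddCommGroup W] [Module F W]
    (B : LinearMap.BilinForm F V) (C : LinearMap.BilinForm F W) (e : V ≃ₗ[F] W)
    (he : ∀ x y, C (e x) (e y) = B x y) : ↥(isoGroup B) ≃* ↥(isoGroup C) where
  toFun g := ⟨(e.symm.trans (g : V ≃ₗ[F] V)).trans e, by
    intro u v
    have h := g.2 (e.symm u) (e.symm v)
    simp only [LinearEquiv.trans_apply]
    rw [he, h, ← he, LinearEquiv.apply_symm_apply, LinearEquiv.apply_symm_apply]⟩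
  invFun g := ⟨(e.trans (g : W ≃ₗ[F] W)).trans e.symm, by
    intro u v
    have h := g.2 (e u) (e v)
    simp only [LinearEquiv.trans_apply]
    rw [← he, LinearEquiv.apply_symm_apply, LinearEquiv.apply_symm_apply, h, he]⟩
  left_inv g := by
    apply Subtype.ext
    refine LinearEquiv.ext fun x => ?_
    simp
  right_inv g := by
    apply Subtype.ext
    refine LinearEquiv.ext fun x => ?_
    simp
  map_mul' g h := by
    apply Subtype.ext
    refine LinearEquiv.ext fun x => ?_
    simp [LinearEquiv.mul_apply]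

@[simp] lemma isoGroupCongr_apply {V W : Type*} [AddCommGroup V] [Module F V] [AddCommGroup W]
    [Module F W] (B : LinearMap.BilinForm F V) (C : LinearMap.BilinForm F W) (e : V ≃ₗ[F] W)
    (he : ∀ x y, C (e x) (e y) = B x y) (g : ↥(isoGroup B)) (w : W) :
    ((isoGroupCongr B C e he g : ↥(isoGroup C)) : W ≃ₗ[F] W) w = e ((g : V ≃ₗ[F] V) (e.symm w)) :=
  rfl

lemma Bsymp_single (m : ℕ) (a b : Fin m ⊕ Fin m) :
    Bsymp m F (Pi.single a 1) (Pi.single b 1) = Matrix.J (Fin m) F a b := by
  rw [Bsymp_apply, Cfsg.sympForm, Matrix.mulVec_single_one, single_dotProduct, one_mul]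
  rfl

/-- The index swap used to match the sign conventions. -/
def swapIdx (m : ℕ) : Fin m ⊕ Fin m ≃ Fin m ⊕ Fin m := Equiv.sumComm _ _

variable {V : Type*} [AddCommGroup V] [Module F V] [FiniteDimensional F V]

/-- A nondegenerate alternating space of dimension `2m` is isometric to the standard one. -/
theorem exists_isometry_standard (B : LinearMap.BilinForm F V) (hA : B.IsAlt)
    (hN : B.Nondegenerate) (m : ℕ) (hdim : Module.finrank F V = 2 * m) :
    ∃ e : V ≃ₗ[F] (Fin m ⊕ Fin m → F), ∀ x y, Bsymp m F (e x) (e y) = B x y := by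
  obtain ⟨m', k, b, h1, h2, h3, h4⟩ := Cfsg.Agent.S0752.result B hA
  have hk : k = 0 := by
    by_contra hk
    have hpos : 0 < k := Nat.pos_of_ne_zero hk
    have h0 := hN.1 (b (Sum.inr ⟨0, hpos⟩)) (fun y => h4 _ y)
    exact b.ne_zero _ h0
  subst hk
  have hm : m' = m := by
    have hc := Module.finrank_eq_card_basis b
    rw [hdim] at hc
    simp only [Fintype.card_sum, Fintype.card_fin] at hc
    omega
  subst hm
  -- basis indexed by `Fin m' ⊕ Fin m'`, with the two halves swapped
  let b' : Module.Basis (Fin m' ⊕ Fin m') F V :=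
    (b.reindex (Equiv.sumEmpty (Fin m' ⊕ Fin m') (Fin 0))).reindex (Equiv.sumComm _ _)
  have hb'l : ∀ i, b' (Sum.inl i) = b (Sum.inl (Sum.inr i)) := by
    intro i
    simp [b', Module.Basis.reindex_apply]
  have hb'r : ∀ i, b' (Sum.inr i) = b (Sum.inl (Sum.inl i)) := by
    intro i
    simp [b', Module.Basis.reindex_apply]
  refine ⟨b'.equivFun, ?_⟩
  have key : (Bsymp m' F).comp (b'.equivFun : V →ₗ[F] (Fin m' ⊕ Fin m' → F))
      (b'.equivFun : V →ₗ[F] (Fin m' ⊕ Fin m' → F)) = B := by
    refine LinearMap.BilinForm.ext_basis b' ?_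
    intro s t
    rw [LinearMap.BilinForm.comp_apply]
    simp only [LinearEquiv.coe_coe]
    have hsingle : ∀ s, b'.equivFun (b' s) = Pi.single s 1 := by
      intro s
      ext j
      rw [Module.Basis.equivFun_self]
      simp [Pi.single_apply, eq_comm]
    rw [hsingle s, hsingle t, Bsymp_single]
    rcases s with i | i <;> rcases t with j | j
    · rw [hb'l, hb'l, h3]
      simp [Matrix.J, Matrix.fromBlocks_apply₁₁]
    · rw [hb'l, hb'r]
      have := h1 j i
      have hsw : B (b (Sum.inl (Sum.inr i))) (b (Sum.inl (Sum.inl j))) =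
          - B (b (Sum.inl (Sum.inl j))) (b (Sum.inl (Sum.inr i))) := (hA.neg_eq _ _).symm
      rw [hsw, this]
      simp [Matrix.J, Matrix.fromBlocks_apply₁₂, Matrix.one_apply, eq_comm]
    · rw [hb'r, hb'l, h1]
      simp [Matrix.J, Matrix.fromBlocks_apply₂₁, Matrix.one_apply]
    · rw [hb'r, hb'r, h2]
      simp [Matrix.J, Matrix.fromBlocks_apply₂₂]
  intro x y
  have := congrArg (fun C : LinearMap.BilinForm F V => C x y) key
  simpa [LinearMap.BilinForm.comp_apply] using this

/-- The isometry group of a nondegenerate alternating space of dimension `2m` is isomorphic to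
`Sp_{2m}(F)`. -/
theorem nonempty_mulEquiv_symplecticGroup (B : LinearMap.BilinForm F V) (hA : B.IsAlt)
    (hN : B.Nondegenerate) (m : ℕ) (hdim : Module.finrank F V = 2 * m) :
    Nonempty (↥(isoGroup B) ≃* Matrix.symplecticGroup (Fin m) F) := by
  obtain ⟨e, he⟩ := exists_isometry_standard B hA hN m hdim
  exact ⟨(isoGroupCongr B (Bsymp m F) e he).trans (spEquiv m).symm⟩

end Cfsg.Agent.Lib.Helper99_SpBridge
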