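import Mathlib
import Cfsg.Agent.Lib.Helper13_GUSpDefs
import Cfsg.Agent.Lib.Helper40_BCInvol
import Cfsg.Agent.Lib.Helper43_AltEven
import Cfsg.Agent.Lib.Helper99_SpBridge

/-!
# S5976, package PE1 (for helper13)

An involution `x` of `Sp_{2d}(F)` (odd characteristic) commutes with a skew-adjoint `θ` with
`θ² = Δ`.  Direct construction on the two eigenspaces.
-/

set_option autoImplicit false

namespace Cfsg.Agent.Lib.Helper21_GUSp_PE1

open Matrix Module Cfsg.Agent.Lib.Helper13_GUSpDefs Cfsg.Agent.Lib.Helper94_Bridge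
  Cfsg.Agent.Lib.Helper40_SpBasic Cfsg.Agent.Lib.Helper99_Singer Cfsg.Agent.Lib.Helper40_BCInvol

/-- on a nondegenerate alternating space there is a skew-adjoint endomorphism with square `Δ` -/
theorem exists_skew_sq {F : Type*} [Field F] {W : Type*} [AddCommGroup W] [Module F W]
    [FiniteDimensional F W]
    (B : LinearMap.BilinForm F W) (hA : B.IsAlt) (hN : B.Nondegenerate) (Δ : F) :
    ∃ θ : W →ₗ[F] W, (∀ w, θ (θ w) = Δ • w) ∧ ∀ u v, B (θ u) v = - B u (θ v) := by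
  obtain ⟨m, hm⟩ :=
    Cfsg.Agent.Lib.Helper43_AltEven.even_finrank_of_alt (finrank F W) W B hA hN rfl
  obtain ⟨e, he⟩ :=
    Cfsg.Agent.Lib.Helper99_SpBridge.exists_isometry_standard B hA hN m (by omega)
  refine ⟨(e.symm : (Fin m ⊕ Fin m → F) →ₗ[F] W) ∘ₗ Matrix.toLin' (Theta0 m Δ) ∘ₗ
    (e : W →ₗ[F] (Fin m ⊕ Fin m → F)), ?_, ?_⟩
  · intro w
    simp only [LinearMap.comp_apply, LinearEquiv.coe_coe, LinearEquiv.apply_symm_apply,
      Matrix.toLin'_apply]
    rw [Matrix.mulVec_mulVec, Theta0_mul_self, Matrix.smul_mulVec, Matrix.one_mulVec, map_smul,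
      e.symm_apply_apply]
  · intro u v
    rw [← he, ← he]
    simp only [LinearMap.comp_apply, LinearEquiv.coe_coe, LinearEquiv.apply_symm_apply,
      Matrix.toLin'_apply]
    rw [Bsymp_apply, Bsymp_apply]
    exact Theta0_isSkew m Δ (e u) (e v)

/-- nondegeneracy on a subspace gives nondegeneracy of the restricted form -/
theorem nd_restrict {F : Type*} [Field F] {V : Type*} [AddCommGroup V] [Module F V]
    [FiniteDimensional F V] (B : LinearMap.BilinForm F V) (W : Submodule F V) (h : NDOn B W) :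
    (B.restrict W).Nondegenerate := by
  apply LinearMap.BilinForm.Nondegenerate.ofSeparatingLeft
  intro w hw
  apply Subtype.ext
  exact h w w.2 (fun y hy => hw ⟨y, hy⟩)

/-- PE1: involutions -/
theorem PE1 {F : Type*} [Field F] [Fintype F] (p : ℕ) [Fact p.Prime] [CharP F p] (h2 : (2 : F) ≠ 0)
    (d : ℕ) (Δ : F)
    (x : Matrix (Fin d ⊕ Fin d) (Fin d ⊕ Fin d) F) (hx : x ∈ symplecticGroup (Fin d) F)
    (hxx : x * x = 1) :
    ∃ θ : Matrix (Fin d ⊕ Fin d) (Fin d ⊕ Fin d) F,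
      θ * θ = Δ • (1 : Matrix (Fin d ⊕ Fin d) (Fin d ⊕ Fin d) F) ∧ IsSkew d θ ∧ x * θ = θ * x := by
  classical
  obtain ⟨B, hB⟩ : ∃ B, B = Bsymp d F := ⟨_, rfl⟩
  obtain ⟨z, hz⟩ : ∃ z : Module.End F (Fin d ⊕ Fin d → F), z = Matrix.toLin' x := ⟨_, rfl⟩
  have hzz : z * z = 1 := by
    rw [hz, Module.End.mul_eq_comp, ← Matrix.toLin'_mul, hxx, Matrix.toLin'_one]
    rfl
  have hBs : ∀ u v, B u v = Cfsg.sympForm d F u v := fun u v => by rw [hB, Bsymp_apply]
  have hzB : ∀ u v, B (z u) (z v) = B u v := by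
    intro u v
    rw [hBs, hBs, hz, Matrix.toLin'_apply, Matrix.toLin'_apply]
    exact Cfsg.Agent.Lib.Helper13_Symp.sympForm_mulVec_mulVec_of_mem d hx u v
  have hBnd : B.Nondegenerate := hB ▸ Bsymp_nondegenerate d
  have hBalt : B.IsAlt := hB ▸ Bsymp_isAlt d
  have hcompl := isCompl_eigen hzz h2
  have hndP := ndOn_fix B hBnd hzB hzz h2
  have hndM := ndOn_neg B hBnd hzB hzz h2
  obtain ⟨θP, hsqP, hskP⟩ := exists_skew_sq (B.restrict (fixSpace z)) (fun w => hBalt w)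
    (nd_restrict B _ hndP) Δ
  obtain ⟨θM, hsqM, hskM⟩ := exists_skew_sq (B.restrict (negSpace z)) (fun w => hBalt w)
    (nd_restrict B _ hndM) Δ
  -- glue
  obtain ⟨Θ, hΘdef⟩ : ∃ Θ : (Fin d ⊕ Fin d → F) →ₗ[F] (Fin d ⊕ Fin d → F),
      Θ = (fixSpace z).subtype ∘ₗ θP ∘ₗ Submodule.projectionOnto _ _ hcompl +
        (negSpace z).subtype ∘ₗ θM ∘ₗ Submodule.projectionOnto _ _ hcompl.symm := ⟨_, rfl⟩
  have hΘ : ∀ (a : fixSpace z) (b : negSpace z),
      Θ ((a : Fin d ⊕ Fin d → F) + (b : Fin d ⊕ Fin d → F)) =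
        ((θP a : fixSpace z) : Fin d ⊕ Fin d → F) + ((θM b : negSpace z) : Fin d ⊕ Fin d → F) := by
    intro a b
    rw [hΘdef]
    simp only [LinearMap.add_apply, LinearMap.comp_apply, Submodule.subtype_apply, map_add,
      Submodule.projectionOnto_apply_left, Submodule.projectionOnto_apply_right,
      map_zero, Submodule.coe_zero, add_zero, zero_add]
  have hdec : ∀ v : Fin d ⊕ Fin d → F, ∃ (a : fixSpace z) (b : negSpace z),
      v = (a : Fin d ⊕ Fin d → F) + (b : Fin d ⊕ Fin d → F) := fun v =>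
    let ⟨a, b, hab, _⟩ := Submodule.existsUnique_add_of_isCompl hcompl v
    ⟨a, b, hab.symm⟩
  have h1 : ∀ v, Θ (Θ v) = Δ • v := by
    intro v
    obtain ⟨a, b, rfl⟩ := hdec v
    rw [hΘ, hΘ, hsqP, hsqM, smul_add]
    rfl
  have h2' : ∀ u v, B (Θ u) v = - B u (Θ v) := by
    intro u v
    obtain ⟨a, b, rfl⟩ := hdec u
    obtain ⟨a', b', rfl⟩ := hdec v
    rw [hΘ, hΘ]
    have e1 : B ((θP a : fixSpace z) : Fin d ⊕ Fin d → F) (a' : Fin d ⊕ Fin d → F) =
        - B (a : Fin d ⊕ Fin d → F) ((θP a' : fixSpace z) : Fin d ⊕ Fin d → F) := hskP a a'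
    have e2 : B ((θM b : negSpace z) : Fin d ⊕ Fin d → F) (b' : Fin d ⊕ Fin d → F) =
        - B (b : Fin d ⊕ Fin d → F) ((θM b' : negSpace z) : Fin d ⊕ Fin d → F) := hskM b b'
    have e3 := (ortho_eigen B hzB h2 (θP a).2 b'.2).1
    have e4 := (ortho_eigen B hzB h2 a'.2 (θM b).2).2
    have e5 := (ortho_eigen B hzB h2 a.2 (θM b').2).1
    have e6 := (ortho_eigen B hzB h2 (θP a').2 b.2).2
    simp only [map_add, LinearMap.add_apply]
    rw [e1, e2, e3, e4, e5, e6]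
    ring
  have h3 : ∀ v, z (Θ v) = Θ (z v) := by
    intro v
    obtain ⟨a, b, rfl⟩ := hdec v
    have ha : z (a : Fin d ⊕ Fin d → F) = a := (mem_fixSpace z _).mp a.2
    have hb : z (b : Fin d ⊕ Fin d → F) = -b := (mem_negSpace z _).mp b.2
    have ha' : z ((θP a : fixSpace z) : Fin d ⊕ Fin d → F) = (θP a : fixSpace z) :=
      (mem_fixSpace z _).mp (θP a).2
    have hb' : z ((θM b : negSpace z) : Fin d ⊕ Fin d → F) = -((θM b : negSpace z) : _) :=
      (mem_negSpace z _).mp (θM b).2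
    rw [hΘ, map_add, map_add, ha, hb, ha', hb']
    have hnb : -(b : Fin d ⊕ Fin d → F) = ((-b : negSpace z) : Fin d ⊕ Fin d → F) := rfl
    rw [hnb, hΘ, map_neg]
    rfl
  refine ⟨LinearMap.toMatrix' Θ, ?_, ?_, ?_⟩
  · rw [← LinearMap.toMatrix'_comp]
    have h : Θ ∘ₗ Θ = Δ • LinearMap.id := by
      apply LinearMap.ext
      intro v
      rw [LinearMap.comp_apply, h1]
      rfl
    rw [h, map_smul, LinearMap.toMatrix'_id]
  · intro u v
    rw [LinearMap.toMatrix'_mulVec, LinearMap.toMatrix'_mulVec, ← hBs, ← hBs]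
    exact h2' u v
  · have hxz : x = LinearMap.toMatrix' z := by rw [hz, LinearMap.toMatrix'_toLin']
    rw [hxz, ← LinearMap.toMatrix'_comp, ← LinearMap.toMatrix'_comp]
    congr 1
    apply LinearMap.ext
    intro v
    exact h3 v

end Cfsg.Agent.Lib.Helper21_GUSp_PE1
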