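import Mathlib
import Cfsg.Agent.Lib.Helper13_SpExtDefs
import Cfsg.Agent.Lib.Helper21_GUSp_PE1

set_option autoImplicit false

namespace Cfsg.Agent.Lib.Helper10_SpExt_QF2

open Matrix Module Cfsg.Agent.Lib.Helper13_GUSpDefs Cfsg.Agent.Lib.Helper13_SpExtDefs
  Cfsg.Agent.Lib.Helper94_Bridge Cfsg.Agent.Lib.Helper40_SpBasic Cfsg.Agent.Lib.Helper99_Singer
  Cfsg.Agent.Lib.Helper40_BCInvol Cfsg.Agent.Lib.Helper21_GUSp_PE1

variable {F : Type*} [Field F]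

/-- `diag(1, Δ)` on the standard plane -/
def D1 (Δ : F) : Matrix (Fin 1 ⊕ Fin 1) (Fin 1 ⊕ Fin 1) F :=
  fromBlocks 1 0 0 (Δ • (1 : Matrix (Fin 1) (Fin 1) F))

/-- `diag(Δ, 1)` on the standard plane -/
def D2 (Δ : F) : Matrix (Fin 1 ⊕ Fin 1) (Fin 1 ⊕ Fin 1) F :=
  fromBlocks (Δ • (1 : Matrix (Fin 1) (Fin 1) F)) 0 0 1

theorem D2_mul_D1 (Δ : F) : D2 Δ * D1 Δ = Δ • (1 : Matrix (Fin 1 ⊕ Fin 1) (Fin 1 ⊕ Fin 1) F) := by
  unfold D1 D2
  rw [fromBlocks_multiply, ← fromBlocks_one, fromBlocks_smul]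
  simp

theorem D1_mul_D2 (Δ : F) : D1 Δ * D2 Δ = Δ • (1 : Matrix (Fin 1 ⊕ Fin 1) (Fin 1 ⊕ Fin 1) F) := by
  unfold D1 D2
  rw [fromBlocks_multiply, ← fromBlocks_one, fromBlocks_smul]
  simp

theorem D1_adj (Δ : F) (a b : Fin 1 ⊕ Fin 1 → F) :
    Cfsg.sympForm 1 F (D1 Δ *ᵥ a) b = Cfsg.sympForm 1 F a (D2 Δ *ᵥ b) := by
  rw [sympForm_mulVec_left, sympForm_mulVec_right]
  congr 2
  unfold D1 D2 J
  rw [fromBlocks_transpose, fromBlocks_multiply, fromBlocks_multiply]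
  simp

/-- QF2: non-scalar involutions of `Sp_4` -/
theorem QF2 {F : Type*} [Field F] [Fintype F] (p : ℕ) [Fact p.Prime] [CharP F p] (h2 : (2 : F) ≠ 0) (Δ : F)
    (x : Matrix (Fin 2 ⊕ Fin 2) (Fin 2 ⊕ Fin 2) F) (hx : x ∈ symplecticGroup (Fin 2) F)
    (hxx : x * x = 1) (hns : ∀ z : F, x ≠ z • (1 : Matrix (Fin 2 ⊕ Fin 2) (Fin 2 ⊕ Fin 2) F)) :
    ∃ θ : Matrix (Fin 2 ⊕ Fin 2) (Fin 2 ⊕ Fin 2) F,
      θ * θ = Δ • (1 : Matrix (Fin 2 ⊕ Fin 2) (Fin 2 ⊕ Fin 2) F) ∧ IsSelfAdj 2 θ ∧ x * θ = -(θ * x) := by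
  classical
  obtain ⟨B, hB⟩ : ∃ B, B = Bsymp 2 F := ⟨_, rfl⟩
  obtain ⟨z, hz⟩ : ∃ z : Module.End F (Fin 2 ⊕ Fin 2 → F), z = Matrix.toLin' x := ⟨_, rfl⟩
  have hzz : z * z = 1 := by
    rw [hz, Module.End.mul_eq_comp, ← Matrix.toLin'_mul, hxx, Matrix.toLin'_one]
    rfl
  have hBs : ∀ u v, B u v = Cfsg.sympForm 2 F u v := fun u v => by rw [hB, Bsymp_apply]
  have hzB : ∀ u v, B (z u) (z v) = B u v := by
    intro u v
    rw [hBs, hBs, hz, Matrix.toLin'_apply, Matrix.toLin'_apply]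
    exact Cfsg.Agent.Lib.Helper13_Symp.sympForm_mulVec_mulVec_of_mem 2 hx u v
  have hBnd : B.Nondegenerate := hB ▸ Bsymp_nondegenerate 2
  have hBalt : B.IsAlt := hB ▸ Bsymp_isAlt 2
  have hBskew : ∀ u v, B u v = - B v u := fun u v => by
    have := LinearMap.IsAlt.neg hBalt u v
    rw [← this, neg_neg]
  have hcompl := isCompl_eigen hzz h2
  have hndP := ndOn_fix B hBnd hzB hzz h2
  have hndM := ndOn_neg B hBnd hzB hzz h2
  have hxz : x = LinearMap.toMatrix' z := by rw [hz, LinearMap.toMatrix'_toLin']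
  -- dimensions
  have hevP : Even (finrank F (fixSpace z)) :=
    Cfsg.Agent.Lib.Helper43_AltEven.even_finrank_of_alt _ (fixSpace z) (B.restrict (fixSpace z))
      (fun w => hBalt w) (nd_restrict B _ hndP) rfl
  have hevM : Even (finrank F (negSpace z)) :=
    Cfsg.Agent.Lib.Helper43_AltEven.even_finrank_of_alt _ (negSpace z) (B.restrict (negSpace z))
      (fun w => hBalt w) (nd_restrict B _ hndM) rfl
  have hsum : finrank F (fixSpace z) + finrank F (negSpace z) = 4 := by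
    rw [Submodule.finrank_add_eq_of_isCompl hcompl, Module.finrank_fintype_fun_eq_card]
    simp
  have hMne : finrank F (negSpace z) ≠ 0 := by
    intro h0
    have hbot : negSpace z = ⊥ := Submodule.finrank_eq_zero.1 h0
    have htop : fixSpace z = ⊤ := by
      have := hcompl.sup_eq_top
      rwa [hbot, sup_bot_eq] at this
    apply hns 1
    rw [one_smul, hxz, ← LinearMap.toMatrix'_id]
    congr 1
    apply LinearMap.ext
    intro v
    have hv : v ∈ fixSpace z := htop ▸ Submodule.mem_top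
    exact (mem_fixSpace z v).1 hv
  have hPne : finrank F (fixSpace z) ≠ 0 := by
    intro h0
    have hbot : fixSpace z = ⊥ := Submodule.finrank_eq_zero.1 h0
    have htop : negSpace z = ⊤ := by
      have := hcompl.sup_eq_top
      rwa [hbot, bot_sup_eq] at this
    apply hns (-1)
    rw [neg_smul, one_smul, hxz, ← LinearMap.toMatrix'_id, ← map_neg]
    congr 1
    apply LinearMap.ext
    intro v
    have hv : v ∈ negSpace z := htop ▸ Submodule.mem_top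
    rw [(mem_negSpace z v).1 hv]
    rfl
  have hdP : finrank F (fixSpace z) = 2 * 1 := by
    obtain ⟨a, ha⟩ := hevP
    obtain ⟨b, hb⟩ := hevM
    omega
  have hdM : finrank F (negSpace z) = 2 * 1 := by
    obtain ⟨a, ha⟩ := hevP
    obtain ⟨b, hb⟩ := hevM
    omega
  obtain ⟨eP, heP⟩ := Cfsg.Agent.Lib.Helper99_SpBridge.exists_isometry_standard
    (B.restrict (fixSpace z)) (fun w => hBalt w) (nd_restrict B _ hndP) 1 hdP
  obtain ⟨eM, heM⟩ := Cfsg.Agent.Lib.Helper99_SpBridge.exists_isometry_standard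
    (B.restrict (negSpace z)) (fun w => hBalt w) (nd_restrict B _ hndM) 1 hdM
  -- the two halves of `θ`
  obtain ⟨φ, hφ⟩ : ∃ φ : fixSpace z →ₗ[F] negSpace z,
      φ = (eM.symm : (Fin 1 ⊕ Fin 1 → F) →ₗ[F] negSpace z) ∘ₗ Matrix.toLin' (D1 Δ) ∘ₗ
        (eP : fixSpace z →ₗ[F] (Fin 1 ⊕ Fin 1 → F)) := ⟨_, rfl⟩
  obtain ⟨ψ, hψ⟩ : ∃ ψ : negSpace z →ₗ[F] fixSpace z,
      ψ = (eP.symm : (Fin 1 ⊕ Fin 1 → F) →ₗ[F] fixSpace z) ∘ₗ Matrix.toLin' (D2 Δ) ∘ₗ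
        (eM : negSpace z →ₗ[F] (Fin 1 ⊕ Fin 1 → F)) := ⟨_, rfl⟩
  have hψφ : ∀ a, ψ (φ a) = Δ • a := by
    intro a
    rw [hφ, hψ]
    simp only [LinearMap.comp_apply, LinearEquiv.coe_coe, LinearEquiv.apply_symm_apply,
      Matrix.toLin'_apply]
    rw [Matrix.mulVec_mulVec, D2_mul_D1, Matrix.smul_mulVec, Matrix.one_mulVec, map_smul,
      eP.symm_apply_apply]
  have hφψ : ∀ b, φ (ψ b) = Δ • b := by
    intro b
    rw [hφ, hψ]
    simp only [LinearMap.comp_apply, LinearEquiv.coe_coe, LinearEquiv.apply_symm_apply,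
      Matrix.toLin'_apply]
    rw [Matrix.mulVec_mulVec, D1_mul_D2, Matrix.smul_mulVec, Matrix.one_mulVec, map_smul,
      eM.symm_apply_apply]
  have hadj : ∀ (a : fixSpace z) (b : negSpace z),
      B ((φ a : negSpace z) : Fin 2 ⊕ Fin 2 → F) (b : Fin 2 ⊕ Fin 2 → F) =
        B (a : Fin 2 ⊕ Fin 2 → F) ((ψ b : fixSpace z) : Fin 2 ⊕ Fin 2 → F) := by
    intro a b
    have e1 : B ((φ a : negSpace z) : Fin 2 ⊕ Fin 2 → F) (b : Fin 2 ⊕ Fin 2 → F) =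
        (B.restrict (negSpace z)) (φ a) b := rfl
    have e2 : B (a : Fin 2 ⊕ Fin 2 → F) ((ψ b : fixSpace z) : Fin 2 ⊕ Fin 2 → F) =
        (B.restrict (fixSpace z)) a (ψ b) := rfl
    rw [e1, e2, ← heM, ← heP, hφ, hψ]
    simp only [LinearMap.comp_apply, LinearEquiv.coe_coe, LinearEquiv.apply_symm_apply,
      Matrix.toLin'_apply]
    rw [Bsymp_apply, Bsymp_apply]
    exact D1_adj Δ (eP a) (eM b)
  -- glue
  obtain ⟨Θ, hΘdef⟩ : ∃ Θ : (Fin 2 ⊕ Fin 2 → F) →ₗ[F] (Fin 2 ⊕ Fin 2 → F),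
      Θ = (negSpace z).subtype ∘ₗ φ ∘ₗ Submodule.projectionOnto _ _ hcompl +
        (fixSpace z).subtype ∘ₗ ψ ∘ₗ Submodule.projectionOnto _ _ hcompl.symm := ⟨_, rfl⟩
  have hΘ : ∀ (a : fixSpace z) (b : negSpace z),
      Θ ((a : Fin 2 ⊕ Fin 2 → F) + (b : Fin 2 ⊕ Fin 2 → F)) =
        ((φ a : negSpace z) : Fin 2 ⊕ Fin 2 → F) + ((ψ b : fixSpace z) : Fin 2 ⊕ Fin 2 → F) := by
    intro a b
    rw [hΘdef]
    simp only [LinearMap.add_apply, LinearMap.comp_apply, Submodule.subtype_apply, map_add,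
      Submodule.projectionOnto_apply_left, Submodule.projectionOnto_apply_right,
      map_zero, add_zero, zero_add]
  have hΘ' : ∀ (a : fixSpace z) (b : negSpace z),
      Θ ((b : Fin 2 ⊕ Fin 2 → F) + (a : Fin 2 ⊕ Fin 2 → F)) =
        ((ψ b : fixSpace z) : Fin 2 ⊕ Fin 2 → F) + ((φ a : negSpace z) : Fin 2 ⊕ Fin 2 → F) := by
    intro a b
    rw [add_comm, hΘ, add_comm]
  have hdec : ∀ v : Fin 2 ⊕ Fin 2 → F, ∃ (a : fixSpace z) (b : negSpace z),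
      v = (a : Fin 2 ⊕ Fin 2 → F) + (b : Fin 2 ⊕ Fin 2 → F) := fun v =>
    let ⟨a, b, hab, _⟩ := Submodule.existsUnique_add_of_isCompl hcompl v
    ⟨a, b, hab.symm⟩
  have h1 : ∀ v, Θ (Θ v) = Δ • v := by
    intro v
    obtain ⟨a, b, rfl⟩ := hdec v
    rw [hΘ, hΘ', hφψ, hψφ, smul_add, Submodule.coe_smul, Submodule.coe_smul, add_comm]
  have h2' : ∀ u v, B (Θ u) v = B u (Θ v) := by
    intro u v
    obtain ⟨a, b, rfl⟩ := hdec u
    obtain ⟨a', b', rfl⟩ := hdec v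
    rw [hΘ, hΘ]
    have e1 := hadj a b'
    have e2 : B ((ψ b : fixSpace z) : Fin 2 ⊕ Fin 2 → F) (a' : Fin 2 ⊕ Fin 2 → F) =
        B (b : Fin 2 ⊕ Fin 2 → F) ((φ a' : negSpace z) : Fin 2 ⊕ Fin 2 → F) := by
      rw [hBskew, ← hadj a' b, hBskew, neg_neg]
    have e3 := (ortho_eigen B hzB h2 a'.2 (φ a).2).2
    have e4 := (ortho_eigen B hzB h2 (ψ b).2 b'.2).1
    have e5 := (ortho_eigen B hzB h2 a.2 (φ a').2).1
    have e6 := (ortho_eigen B hzB h2 (ψ b').2 b.2).2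
    simp only [map_add, LinearMap.add_apply]
    rw [e1, e2, e3, e4, e5, e6]
  have h3 : ∀ v, z (Θ v) = -Θ (z v) := by
    intro v
    obtain ⟨a, b, rfl⟩ := hdec v
    have ha : z (a : Fin 2 ⊕ Fin 2 → F) = a := (mem_fixSpace z _).mp a.2
    have hb : z (b : Fin 2 ⊕ Fin 2 → F) = -b := (mem_negSpace z _).mp b.2
    have ha' : z ((ψ b : fixSpace z) : Fin 2 ⊕ Fin 2 → F) = (ψ b : fixSpace z) :=
      (mem_fixSpace z _).mp (ψ b).2
    have hb' : z ((φ a : negSpace z) : Fin 2 ⊕ Fin 2 → F) = -((φ a : negSpace z) : _) :=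
      (mem_negSpace z _).mp (φ a).2
    rw [hΘ, map_add, map_add, ha, hb, ha', hb']
    have hnb : -(b : Fin 2 ⊕ Fin 2 → F) = ((-b : negSpace z) : Fin 2 ⊕ Fin 2 → F) := rfl
    rw [hnb, hΘ, map_neg, neg_add]
    simp only [Submodule.coe_neg, neg_neg]
  refine ⟨LinearMap.toMatrix' Θ, ?_, ?_, ?_⟩
  · rw [← LinearMap.toMatrix'_comp]
    have h : Θ ∘ₗ Θ = Δ • LinearMap.id := by
      apply LinearMap.ext
      intro v
      rw [LinearMap.comp_apply, h1]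
      rfl
    rw [h, map_smul, LinearMap.toMatrix'_id]
  · intro u v
    rw [LinearMap.toMatrix'_mulVec, LinearMap.toMatrix'_mulVec, ← hBs, ← hBs]
    exact h2' u v
  · rw [hxz, ← LinearMap.toMatrix'_comp, ← LinearMap.toMatrix'_comp, ← map_neg]
    congr 1
    apply LinearMap.ext
    intro v
    rw [LinearMap.comp_apply, LinearMap.neg_apply, LinearMap.comp_apply]
    exact h3 v

end Cfsg.Agent.Lib.Helper10_SpExt_QF2
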