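import Mathlib
import Cfsg.Agent.Lib.Helper13_SpExtDefs
import Cfsg.Agent.Lib.Helper10_GUSp_PE2

set_option autoImplicit false

namespace Cfsg.Agent.Lib.Helper10_SpExt_QF3

open Matrix Polynomial Cfsg.Agent.Lib.Helper13_GUSpDefs Cfsg.Agent.Lib.Helper13_SpExtDefs
  Cfsg.Agent.Lib.Helper10_GUSp_PE2

/-- A symplectic matrix with square `-1` is `Sp`-conjugate to `J` (odd characteristic). -/
theorem exists_conj_J {F : Type*} [Field F] [Fintype F] (p : ℕ) [Fact p.Prime] [CharP F p]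
    (h2 : (2 : F) ≠ 0) (d : ℕ)
    (x : Matrix (Fin d ⊕ Fin d) (Fin d ⊕ Fin d) F) (hx : x ∈ symplecticGroup (Fin d) F)
    (hxx : x * x = -1) :
    ∃ P Q : Matrix (Fin d ⊕ Fin d) (Fin d ⊕ Fin d) F, P ∈ symplecticGroup (Fin d) F ∧
      P * Q = 1 ∧ Q * P = 1 ∧ x = P * J (Fin d) F * Q := by
  classical
  have hp : p.Prime := Fact.out
  have hp2 : p ≠ 2 := by
    intro h
    apply h2
    have h0 : ((p : ℕ) : F) = 0 := CharP.cast_eq_zero F p
    rw [h] at h0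
    exact_mod_cast h0
  obtain ⟨g, hg⟩ : ∃ g : symplecticGroup (Fin d) F,
      (g : Matrix (Fin d ⊕ Fin d) (Fin d ⊕ Fin d) F) = x := ⟨⟨x, hx⟩, rfl⟩
  obtain ⟨j, hj⟩ : ∃ j : symplecticGroup (Fin d) F,
      (j : Matrix (Fin d ⊕ Fin d) (Fin d ⊕ Fin d) F) = J (Fin d) F :=
    ⟨⟨J (Fin d) F, SymplecticGroup.J_mem _ _⟩, rfl⟩
  have hcop4 : Nat.Coprime 4 p := by
    have h : Nat.Coprime 2 p := (Nat.coprime_primes Nat.prime_two hp).2 (Ne.symm hp2)
    exact Nat.Coprime.pow_left 2 h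
  have hpow4 : ∀ k : symplecticGroup (Fin d) F,
      (k : Matrix (Fin d ⊕ Fin d) (Fin d ⊕ Fin d) F) * k = -1 → (orderOf k).Coprime p := by
    intro k hk
    have h4 : k ^ 4 = 1 := by
      apply Subtype.ext
      rw [SubmonoidClass.coe_pow, Submonoid.coe_one, show (4 : ℕ) = 2 * 2 from rfl, pow_mul,
        pow_two ((k : Matrix (Fin d ⊕ Fin d) (Fin d ⊕ Fin d) F)), hk, neg_one_sq]
    exact Nat.Coprime.coprime_dvd_left (orderOf_dvd_of_pow_eq_one h4) hcop4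
  have hgc : (orderOf g).Coprime p := hpow4 g (by rw [hg]; exact hxx)
  have hjc : (orderOf j).Coprime p := hpow4 j (by rw [hj]; exact J_squared (Fin d) F)
  have hc : (g : Matrix (Fin d ⊕ Fin d) (Fin d ⊕ Fin d) F).charpoly =
      (j : Matrix (Fin d ⊕ Fin d) (Fin d ⊕ Fin d) F).charpoly := by
    rw [hg, hj]
    exact charpoly_eq_of_sq h2 d x (J (Fin d) F) hx hxx (SymplecticGroup.J_mem _ _)
      (J_squared (Fin d) F)
  have hconj : IsConj g j :=
    Cfsg.Agent.Lib.Helper40_SpMatrix.sp_isConj_of_charpoly_eq p g j hgc hjc hc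
  obtain ⟨c, hcg⟩ := isConj_iff.1 hconj
  refine ⟨((c⁻¹ : symplecticGroup (Fin d) F) : Matrix (Fin d ⊕ Fin d) (Fin d ⊕ Fin d) F),
    ((c : symplecticGroup (Fin d) F) : Matrix (Fin d ⊕ Fin d) (Fin d ⊕ Fin d) F), (c⁻¹).2, ?_, ?_, ?_⟩
  · have h := congrArg Subtype.val (inv_mul_cancel c)
    rw [Submonoid.coe_mul, Submonoid.coe_one] at h
    exact h
  · have h := congrArg Subtype.val (mul_inv_cancel c)
    rw [Submonoid.coe_mul, Submonoid.coe_one] at h
    exact h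
  · have h1 : g = c⁻¹ * j * c := by rw [← hcg]; group
    have h := congrArg Subtype.val h1
    rw [Submonoid.coe_mul, Submonoid.coe_mul, hg, hj] at h
    exact h

variable {F : Type*} [Field F]

/-- the model `θ₀` for `QF3` -/
def theta2 (a b : F) : Matrix (Fin 2 ⊕ Fin 2) (Fin 2 ⊕ Fin 2) F :=
  fromBlocks !![a, b; b, -a] 0 0 !![a, b; b, -a]

theorem block_sq (a b Δ : F) (h : a ^ 2 + b ^ 2 = Δ) :
    (!![a, b; b, -a] : Matrix (Fin 2) (Fin 2) F) * !![a, b; b, -a] = Δ • 1 := by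
  subst h
  ext i j
  fin_cases i <;> fin_cases j <;> simp [Matrix.mul_apply, Fin.sum_univ_two] <;> ring

theorem theta2_sq (a b Δ : F) (h : a ^ 2 + b ^ 2 = Δ) :
    theta2 a b * theta2 a b = Δ • (1 : Matrix (Fin 2 ⊕ Fin 2) (Fin 2 ⊕ Fin 2) F) := by
  unfold theta2
  rw [fromBlocks_multiply, ← fromBlocks_one, fromBlocks_smul, block_sq a b Δ h]
  simp

theorem block_transpose (a b : F) :
    (!![a, b; b, -a] : Matrix (Fin 2) (Fin 2) F)ᵀ = !![a, b; b, -a] := by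
  ext i j
  fin_cases i <;> fin_cases j <;> simp

theorem theta2_isSelfAdj (a b : F) : IsSelfAdj 2 (theta2 a b) := by
  rw [isSelfAdj_iff]
  unfold theta2 J
  rw [fromBlocks_transpose, fromBlocks_multiply, fromBlocks_multiply, block_transpose]
  simp

theorem J_mul_theta2 (a b : F) :
    J (Fin 2) F * theta2 a b = theta2 a b * J (Fin 2) F := by
  unfold theta2 J
  rw [fromBlocks_multiply, fromBlocks_multiply]
  simp

/-- QF3: elements of `Sp_4` with square `-1` -/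
theorem QF3 {F : Type*} [Field F] [Fintype F] (p : ℕ) [Fact p.Prime] [CharP F p] (h2 : (2 : F) ≠ 0) (Δ : F)
    (x : Matrix (Fin 2 ⊕ Fin 2) (Fin 2 ⊕ Fin 2) F) (hx : x ∈ symplecticGroup (Fin 2) F)
    (hxx : x * x = -1) :
    ∃ θ : Matrix (Fin 2 ⊕ Fin 2) (Fin 2 ⊕ Fin 2) F,
      θ * θ = Δ • (1 : Matrix (Fin 2 ⊕ Fin 2) (Fin 2 ⊕ Fin 2) F) ∧ IsSelfAdj 2 θ ∧ x * θ = θ * x := by
  classical
  have hp : p.Prime := Fact.out
  have hp2 : p ≠ 2 := by
    intro h
    apply h2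
    have h0 : ((p : ℕ) : F) = 0 := CharP.cast_eq_zero F p
    rw [h] at h0
    exact_mod_cast h0
  have hodd : Fintype.card F % 2 = 1 :=
    FiniteField.odd_card_of_char_ne_two (by rw [ringChar.eq F p]; exact hp2)
  obtain ⟨a, b, hab⟩ := exists_sq_add_sq hodd Δ
  obtain ⟨P, Q, hPmem, hPQ, hQP, hxPQ⟩ := exists_conj_J p h2 2 x hx hxx
  refine ⟨P * theta2 a b * Q, ?_, (theta2_isSelfAdj a b).conj hPmem hPQ, ?_⟩
  · calc P * theta2 a b * Q * (P * theta2 a b * Q)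
        = P * theta2 a b * (Q * P) * theta2 a b * Q := by simp only [Matrix.mul_assoc]
      _ = P * (theta2 a b * theta2 a b) * Q := by rw [hQP, Matrix.mul_one, Matrix.mul_assoc P]
      _ = Δ • (1 : Matrix (Fin 2 ⊕ Fin 2) (Fin 2 ⊕ Fin 2) F) := by
          rw [theta2_sq a b Δ hab, Matrix.mul_smul, Matrix.smul_mul, Matrix.mul_one, hPQ]
  · rw [hxPQ]
    calc P * J (Fin 2) F * Q * (P * theta2 a b * Q)
        = P * J (Fin 2) F * (Q * P) * theta2 a b * Q := by simp only [Matrix.mul_assoc]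
      _ = P * (J (Fin 2) F * theta2 a b) * Q := by rw [hQP, Matrix.mul_one, Matrix.mul_assoc P]
      _ = P * (theta2 a b * J (Fin 2) F) * Q := by rw [J_mul_theta2]
      _ = P * theta2 a b * (Q * P) * J (Fin 2) F * Q := by
          rw [hQP, Matrix.mul_one]; simp only [Matrix.mul_assoc]
      _ = P * theta2 a b * Q * (P * J (Fin 2) F * Q) := by simp only [Matrix.mul_assoc]

end Cfsg.Agent.Lib.Helper10_SpExt_QF3
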