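import Mathlib
import Cfsg.Prelude.Def_LinearParabolics

/-!
Definitions for S2425 (values of the Steinberg character of `GL_n(q)` at elements of order prime to the
characteristic): signed chain counts and Moebius numbers of the lattice of invariant subspaces of an endomorphism
of a finite vector space, the compositions attached to sets of cut points, coordinate subspaces and cyclic
subspaces.  helper99.
-/

set_option autoImplicit false
open scoped MatrixGroups

namespace Cfsg.Agent.Lib.Helper99_StGLDefs

variable {F : Type*} [Field F] {V : Type*} [AddCommGroup V] [Module F V]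

/-- `C` is a chain of `T`-invariant subspaces lying strictly between `⊥` and `B`. -/
def IsMidChain (T : Module.End F V) (B : Submodule F V) (C : Finset (Submodule F V)) : Prop :=
  (∀ W ∈ C, W ∈ T.invtSubmodule ∧ ⊥ < W ∧ W < B) ∧ IsChain (· ≤ ·) (C : Set (Submodule F V))

open Classical in
/-- Signed count of the chains (finite sets totally ordered by `≤`) of `T`-invariant subspaces lying strictly
between `⊥` and `B`: a chain with `k` members counts `(-1)^k`; the empty chain counts `1`. -/
noncomputable def chi [Finite V] (T : Module.End F V) (B : Submodule F V) : ℤ :=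
  letI : Fintype (Submodule F V) := Fintype.ofFinite _
  ∑ C ∈ (Finset.univ : Finset (Finset (Submodule F V))).filter (fun C => IsMidChain T B C),
    (-1 : ℤ) ^ C.card

open Classical in
/-- The Moebius number `μ(⊥, B)` of the lattice of `T`-invariant subspaces of `B`. -/
noncomputable def nu [Finite V] (T : Module.End F V) (B : Submodule F V) : ℤ :=
  if B = ⊥ then 1 else - chi T B

/-- The value `(-1)^m Q^(m(m-1)/2)`, `Q = q^d`, of the Moebius number of the lattice of subspaces of an
`m`-dimensional space over the field with `q^d` elements. -/
def sval (q d m : ℕ) : ℤ := (-1) ^ m * ((q : ℤ) ^ d) ^ (m * (m - 1) / 2)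

/-- The composition of `n` (as a function `Fin n → ℕ`, zeros allowed) whose blocks end exactly at the positions
`j ∈ J` (`j < n - 1`) and at the last position `n - 1`: at a block end `i` the value is the length of the block
ending at `i`, elsewhere it is `0`. -/
def muJ (n : ℕ) (J : Finset ℕ) (i : Fin n) : ℕ :=
  if i.val ∈ J ∨ i.val + 1 = n then
    i.val + 1 - ((Finset.range i.val).filter (fun j => j ∈ J)).sup (fun j => j + 1)
  else 0

/-- The coordinate subspace `{v | v i = 0 for all i ≥ k}` of `F^n` (spanned by the first `k` unit vectors). -/
def stdSub (n : ℕ) (F : Type*) [Field F] (k : ℕ) : Submodule F (Fin n → F) where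
  carrier := {v | ∀ i : Fin n, k ≤ i.val → v i = 0}
  add_mem' := by
    intro a b ha hb i hi
    simp [ha i hi, hb i hi]
  zero_mem' := by
    intro i _
    rfl
  smul_mem' := by
    intro c a ha i hi
    simp [ha i hi]

theorem mem_stdSub {n : ℕ} {k : ℕ} {v : Fin n → F} :
    v ∈ stdSub n F k ↔ ∀ i : Fin n, k ≤ i.val → v i = 0 := Iff.rfl

/-- The linear map `v ↦ g *ᵥ v` of an element of the general linear group. -/
noncomputable abbrev linOf {n : ℕ} (g : GL (Fin n) F) : Module.End F (Fin n → F) :=
  Matrix.toLin' (g : Matrix (Fin n) (Fin n) F)

/-- The `T`-cyclic subspace generated by `v`: the span of `v, T v, T² v, …`. -/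
def cyc (T : Module.End F V) (v : V) : Submodule F V :=
  Submodule.span F (Set.range fun i : ℕ => (T ^ i) v)

theorem chi_eq [Finite V] [Fintype (Submodule F V)] (T : Module.End F V) (B : Submodule F V)
    [DecidablePred (fun C : Finset (Submodule F V) => IsMidChain T B C)] :
    chi T B = ∑ C ∈ (Finset.univ : Finset (Finset (Submodule F V))).filter (fun C => IsMidChain T B C),
      (-1 : ℤ) ^ C.card := by
  unfold chi
  congr 1
  ext C
  simp only [Finset.mem_filter, Finset.mem_univ, true_and]

theorem nu_bot [Finite V] (T : Module.End F V) : nu T (⊥ : Submodule F V) = 1 := by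
  unfold nu
  simp

theorem nu_of_ne_bot [Finite V] (T : Module.End F V) {B : Submodule F V} (hB : B ≠ ⊥) :
    nu T B = - chi T B := by
  unfold nu
  simp [hB]

theorem sval_zero (q d : ℕ) : sval q d 0 = 1 := by
  simp [sval]

end Cfsg.Agent.Lib.Helper99_StGLDefs
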