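import Mathlib
import Cfsg.Agent.Lib.Helper99_StGLDefs

/-! StGL package CYC (S2425): cyclic subspaces of an endomorphism killed by an irreducible polynomial. helper99. -/

set_option autoImplicit false
open Polynomial

namespace Cfsg.Agent.Lib.Helper99_StGL_CYC
open Cfsg.Agent.Lib.Helper99_StGLDefs

variable {F : Type*} [Field F] {V : Type*} [AddCommGroup V] [Module F V]

theorem inv_apply {T : Module.End F V} {W : Submodule F V} (hW : W ∈ T.invtSubmodule) {w : V} (hw : w ∈ W) :
    T w ∈ W := (Module.End.mem_invtSubmodule T).mp hW hw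

theorem cyc_inv (T : Module.End F V) (v : V) : cyc T v ∈ T.invtSubmodule := by
  rw [Module.End.mem_invtSubmodule]
  unfold cyc
  rw [Submodule.span_le]
  rintro _ ⟨i, rfl⟩
  simp only [Submodule.comap_coe, Set.mem_preimage, SetLike.mem_coe]
  apply Submodule.subset_span
  refine ⟨i + 1, ?_⟩
  simp [pow_succ']

theorem mem_cyc_self (T : Module.End F V) (v : V) : v ∈ cyc T v := by
  apply Submodule.subset_span
  exact ⟨0, by simp⟩

theorem cyc_le (T : Module.End F V) (v : V) (W : Submodule F V) (hW : W ∈ T.invtSubmodule) (hv : v ∈ W) :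
    cyc T v ≤ W := by
  unfold cyc
  rw [Submodule.span_le]
  rintro _ ⟨i, rfl⟩
  show (T ^ i) v ∈ W
  induction i with
  | zero => simpa using hv
  | succ i ih =>
    rw [pow_succ']
    exact inv_apply hW ih

/-- invariant subspaces are invariant under polynomials in `T`. -/
theorem aeval_mem (T : Module.End F V) (W : Submodule F V) (hW : W ∈ T.invtSubmodule) (p : F[X]) {w : V}
    (hw : w ∈ W) : aeval T p w ∈ W := by
  induction p using Polynomial.induction_on with
  | C a => simpa using W.smul_mem a hw
  | add p q hp hq => simpa using W.add_mem hp hq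
  | monomial n a ih =>
    have : aeval T (C a * X ^ (n + 1)) w = T (aeval T (C a * X ^ n) w) := by
      simp [pow_succ']
    rw [this]
    exact inv_apply hW ih

theorem mem_cyc_iff (T : Module.End F V) (v w : V) : w ∈ cyc T v ↔ ∃ p : F[X], w = aeval T p v := by
  constructor
  · intro hw
    unfold cyc at hw
    induction hw using Submodule.span_induction with
    | mem x hx =>
      obtain ⟨i, rfl⟩ := hx
      exact ⟨X ^ i, by simp⟩
    | zero => exact ⟨0, by simp⟩
    | add x y _ _ hx hy =>
      obtain ⟨p, rfl⟩ := hx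
      obtain ⟨q, rfl⟩ := hy
      exact ⟨p + q, by simp⟩
    | smul a x _ hx =>
      obtain ⟨p, rfl⟩ := hx
      exact ⟨C a * p, by simp⟩
  · rintro ⟨p, rfl⟩
    exact aeval_mem T _ (cyc_inv T v) p (mem_cyc_self T v)

/-- the annihilator of `v` is the ideal generated by `f`. -/
theorem aeval_eq_zero_iff (T : Module.End F V) (f : F[X]) (hf : Irreducible f) (v : V)
    (hv : v ≠ 0) (hfv : aeval T f v = 0) (p : F[X]) : aeval T p v = 0 ↔ f ∣ p := by
  constructor
  · intro hp
    by_contra hdvd
    have hcop : IsCoprime f p := (Irreducible.coprime_iff_not_dvd hf).2 hdvd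
    obtain ⟨a, b, hab⟩ := hcop
    apply hv
    have : aeval T (a * f + b * p) v = v := by rw [hab]; simp
    rw [← this]
    simp [hfv, hp]
  · rintro ⟨g, rfl⟩
    rw [mul_comm]
    simp [hfv]

theorem finrank_cyc [Module.Finite F V] (T : Module.End F V) (f : F[X]) (hf : Irreducible f) (v : V)
    (hv : v ≠ 0) (hfv : aeval T f v = 0) : Module.finrank F ↥(cyc T v) = f.natDegree := by
  -- the map degreeLT d → cyc T v
  set d := f.natDegree with hd
  let φ : Polynomial.degreeLT F d →ₗ[F] ↥(cyc T v) :=
    { toFun := fun p => ⟨aeval T (p : F[X]) v, (mem_cyc_iff T v _).2 ⟨p, rfl⟩⟩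
      map_add' := by
        intro p q
        ext
        simp
      map_smul' := by
        intro a p
        ext
        simp }
  have hinj : Function.Injective φ := by
    rw [← LinearMap.ker_eq_bot, Submodule.eq_bot_iff]
    intro p hp
    have h0 : aeval T (p : F[X]) v = 0 := by
      have := congrArg Subtype.val (LinearMap.mem_ker.mp hp)
      simpa [φ] using this
    have hdvd := (aeval_eq_zero_iff T f hf v hv hfv _).1 h0
    have hdeg : (p : F[X]).degree < d := Polynomial.mem_degreeLT.mp p.2
    ext1
    by_contra hne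
    have := Polynomial.degree_le_of_dvd hdvd hne
    have h2 : f.degree = d := Polynomial.degree_eq_natDegree hf.ne_zero
    rw [h2] at this
    exact absurd (lt_of_le_of_lt this hdeg) (lt_irrefl _)
  have hsurj : Function.Surjective φ := by
    rintro ⟨w, hw⟩
    obtain ⟨p, rfl⟩ := (mem_cyc_iff T v w).1 hw
    have hmod : (p % f).degree < d := by
      have := Polynomial.degree_mod_lt p hf.ne_zero
      rwa [Polynomial.degree_eq_natDegree hf.ne_zero] at this
    refine ⟨⟨p % f, Polynomial.mem_degreeLT.mpr hmod⟩, ?_⟩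
    ext
    simp only [φ, LinearMap.coe_mk, AddHom.coe_mk]
    conv_rhs => rw [← EuclideanDomain.div_add_mod p f]
    rw [map_add, LinearMap.add_apply, mul_comm, map_mul, Module.End.mul_apply, hfv, map_zero, zero_add]
  have e := LinearEquiv.ofBijective φ ⟨hinj, hsurj⟩
  rw [← e.finrank_eq, (Polynomial.degreeLTEquiv F d).finrank_eq, Module.finrank_fin_fun]

theorem cyc_atom [Module.Finite F V] (T : Module.End F V) (f : F[X]) (hf : Irreducible f) (v : V)
    (hfv : aeval T f v = 0) (W : Submodule F V) (hW : W ∈ T.invtSubmodule) (hle : W ≤ cyc T v) :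
    W = ⊥ ∨ W = cyc T v := by
  by_cases hW0 : W = ⊥
  · exact Or.inl hW0
  right
  obtain ⟨w, hwW, hw0⟩ := (Submodule.ne_bot_iff W).1 hW0
  obtain ⟨p, rfl⟩ := (mem_cyc_iff T v w).1 (hle hwW)
  have hv : v ≠ 0 := by
    rintro rfl
    exact hw0 (by simp)
  have hnd : ¬ f ∣ p := fun h => hw0 ((aeval_eq_zero_iff T f hf v hv hfv p).2 h)
  obtain ⟨a, b, hab⟩ := (Irreducible.coprime_iff_not_dvd hf).2 hnd
  have hvW : v ∈ W := by
    have h1 : aeval T (a * f + b * p) v = v := by rw [hab]; simp
    have h2 : aeval T (a * f + b * p) v = aeval T b (aeval T p v) := by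
      simp [hfv]
    rw [← h1, h2]
    exact aeval_mem T W hW b hwW
  exact le_antisymm hle (cyc_le T v W hW hvW)

theorem aeval_restrict (T : Module.End F V) (W : Submodule F V) (hW : ∀ x ∈ W, T x ∈ W) (p : F[X]) (w : W) :
    ((aeval (LinearMap.restrict T hW) p w : W) : V) = aeval T p (w : V) := by
  induction p using Polynomial.induction_on generalizing w with
  | C a => simp
  | add p q hp hq => simp [hp, hq]
  | monomial n a ih =>
    have h1 : aeval (LinearMap.restrict T hW) (C a * X ^ (n + 1)) w
        = aeval (LinearMap.restrict T hW) (C a * X ^ n) (LinearMap.restrict T hW w) := by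
      simp [pow_succ]
    have h2 : aeval T (C a * X ^ (n + 1)) (w : V) = aeval T (C a * X ^ n) (T (w : V)) := by
      simp [pow_succ]
    rw [h1, h2, ih]
    rfl

theorem charpoly_cyc [Module.Finite F V] (T : Module.End F V) (f : F[X]) (hf : Irreducible f) (hm : f.Monic)
    (v : V) (hv : v ≠ 0) (hfv : aeval T f v = 0) :
    (LinearMap.restrict T (p := cyc T v) (q := cyc T v) (fun _ hx => cyc_inv T v hx)).charpoly = f := by
  set S := LinearMap.restrict T (p := cyc T v) (q := cyc T v) (fun _ hx => cyc_inv T v hx) with hS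
  have hSf : aeval S f = 0 := by
    ext z
    rw [aeval_restrict]
    obtain ⟨p, hp⟩ := (mem_cyc_iff T v z).1 z.2
    rw [hp, ← Module.End.mul_apply, ← map_mul, mul_comm, map_mul, Module.End.mul_apply, hfv]
    simp
  have : Nontrivial ↥(cyc T v) := ⟨⟨⟨v, mem_cyc_self T v⟩, 0, fun h => hv (congrArg Subtype.val h)⟩⟩
  have hdvd : minpoly F S ∣ f := minpoly.dvd F S hSf
  have hnu : ¬ IsUnit (minpoly F S) := minpoly.not_isUnit F S
  have hmin : minpoly F S = f := by
    obtain ⟨c, hc⟩ := hdvd
    have hcu : IsUnit c := by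
      rcases hf.isUnit_or_isUnit hc with h | h
      · exact absurd h hnu
      · exact h
    have hass : Associated (minpoly F S) f := ⟨hcu.unit, by rw [hc]; rfl⟩
    exact eq_of_monic_of_associated (minpoly.monic (Algebra.IsIntegral.isIntegral S)) hm hass
  have h1 : f ∣ S.charpoly := hmin ▸ LinearMap.minpoly_dvd_charpoly S
  have h2 : S.charpoly.natDegree = f.natDegree := by
    rw [LinearMap.charpoly_natDegree, finrank_cyc T f hf v hv hfv]
  exact Polynomial.eq_of_monic_of_dvd_of_natDegree_le hm (LinearMap.charpoly_monic S) h1 h2.le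

end Cfsg.Agent.Lib.Helper99_StGL_CYC
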