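import Mathlib
import Cfsg.Agent.Lib.Helper99_StGLDefs
import Cfsg.Agent.Lib.Helper99_StGL_CYC

/-! StGL package SPLIT (S2425): an invariant subspace killed by an irreducible polynomial splits off a cyclic
subspace. helper99. -/

set_option autoImplicit false
open Polynomial

namespace Cfsg.Agent.Lib.Helper99_StGL_SPLIT
open Cfsg.Agent.Lib.Helper99_StGLDefs Cfsg.Agent.Lib.Helper99_StGL_CYC

variable {F : Type*} [Field F] {V : Type*} [AddCommGroup V] [Module F V]

theorem SPLIT [Module.Finite F V] (T : Module.End F V) (f : F[X]) (hf : Irreducible f)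
    (B : Submodule F V) (hB : B ∈ T.invtSubmodule) (hfB : B ≤ LinearMap.ker (aeval T f)) (hB0 : B ≠ ⊥) :
    ∃ (H : Submodule F V) (v : V), H ∈ T.invtSubmodule ∧ H ≤ B ∧ v ∈ B ∧ v ≠ 0 ∧
      H ⊓ cyc T v = ⊥ ∧ H ⊔ cyc T v = B := by
  obtain ⟨v, hvB, hv0⟩ := (Submodule.ne_bot_iff B).1 hB0
  have hfv : aeval T f v = 0 := LinearMap.mem_ker.mp (hfB hvB)
  have hZB : cyc T v ≤ B := cyc_le T v B hB hvB
  -- the set of candidates
  let S : Set (Submodule F V) := {H | H ∈ T.invtSubmodule ∧ H ≤ B ∧ H ⊓ cyc T v = ⊥}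
  have hSne : S.Nonempty := ⟨⊥, Module.End.invtSubmodule.bot_mem T, bot_le, bot_inf_eq _⟩
  obtain ⟨H, hHS, hmax⟩ := (wellFounded_gt (α := Submodule F V)).has_min S hSne
  obtain ⟨hHinv, hHB, hHZ⟩ := hHS
  refine ⟨H, v, hHinv, hHB, hvB, hv0, hHZ, ?_⟩
  by_contra hne
  have hlt : H ⊔ cyc T v < B := lt_of_le_of_ne (sup_le hHB hZB) hne
  obtain ⟨u, huB, huN⟩ := SetLike.exists_of_lt hlt
  have hfu : aeval T f u = 0 := LinearMap.mem_ker.mp (hfB huB)
  have hHZinv : H ⊔ cyc T v ∈ T.invtSubmodule := Module.End.invtSubmodule.sup_mem hHinv (cyc_inv T v)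
  -- Z' ⊓ (H ⊔ Z) = ⊥
  have h1 : cyc T u ⊓ (H ⊔ cyc T v) = ⊥ := by
    rcases cyc_atom T f hf u hfu (cyc T u ⊓ (H ⊔ cyc T v))
      (Module.End.invtSubmodule.inf_mem (cyc_inv T u) hHZinv) inf_le_left with h | h
    · exact h
    · exfalso
      apply huN
      have : cyc T u ≤ H ⊔ cyc T v := by
        rw [← h]; exact inf_le_right
      exact this (mem_cyc_self T u)
  have hH'inv : H ⊔ cyc T u ∈ T.invtSubmodule := Module.End.invtSubmodule.sup_mem hHinv (cyc_inv T u)
  have hH'S : H ⊔ cyc T u ∈ S := by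
    refine ⟨hH'inv, sup_le hHB (cyc_le T u B hB huB), ?_⟩
    rcases cyc_atom T f hf v hfv ((H ⊔ cyc T u) ⊓ cyc T v)
      (Module.End.invtSubmodule.inf_mem hH'inv (cyc_inv T v)) inf_le_right with h | h
    · exact h
    · exfalso
      have hvH' : v ∈ H ⊔ cyc T u := by
        have : cyc T v ≤ H ⊔ cyc T u := by
          rw [← h]; exact inf_le_left
        exact this (mem_cyc_self T v)
      obtain ⟨h', hh', z', hz', hsum⟩ := Submodule.mem_sup.mp hvH'
      have hz'0 : z' = 0 := by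
        have : z' ∈ cyc T u ⊓ (H ⊔ cyc T v) := by
          refine ⟨hz', ?_⟩
          have : z' = v - h' := by rw [← hsum]; abel
          rw [this]
          exact Submodule.sub_mem _ (Submodule.mem_sup_right (mem_cyc_self T v)) (Submodule.mem_sup_left hh')
        rw [h1] at this
        exact (Submodule.mem_bot F).mp this
      have hvH : v ∈ H ⊓ cyc T v := by
        refine ⟨?_, mem_cyc_self T v⟩
        rw [← hsum, hz'0, add_zero]
        exact hh'
      rw [hHZ] at hvH
      exact hv0 ((Submodule.mem_bot F).mp hvH)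
  have hgt : H < H ⊔ cyc T u := by
    refine lt_of_le_of_ne le_sup_left ?_
    intro heq
    apply huN
    have : u ∈ H := by
      rw [heq]; exact Submodule.mem_sup_right (mem_cyc_self T u)
    exact Submodule.mem_sup_left this
  exact hmax _ hH'S hgt

end Cfsg.Agent.Lib.Helper99_StGL_SPLIT
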