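import Mathlib
import Cfsg.Agent.Lib.Helper99_StGLDefs
import Cfsg.Agent.Lib.Helper99_StGL_CYC
import Cfsg.Agent.Lib.Helper99_StGL_SPLIT

/-! StGL package B5a (S2425): the characteristic polynomial of an endomorphism killed by an irreducible monic `f` is a
power of `f`. helper4, for helper99's market. -/

set_option autoImplicit false
open Polynomial

namespace Cfsg.Agent.Lib.Helper4_StGL_B5a
open Cfsg.Agent.Lib.Helper99_StGLDefs Cfsg.Agent.Lib.Helper99_StGL_CYC Cfsg.Agent.Lib.Helper99_StGL_SPLIT

universe u v

/-- Internal form for the induction on the dimension. -/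
theorem B5a_aux {F : Type u} [Field F] (f : F[X]) (hf : Irreducible f) (hm : f.Monic) :
    ∀ n : ℕ, ∀ (V : Type v) [AddCommGroup V] [Module F V] [Module.Finite F V] (S : Module.End F V),
      aeval S f = 0 → Module.finrank F V = n →
        f.natDegree ∣ n ∧ S.charpoly = f ^ (n / f.natDegree) := by
  intro n
  induction n using Nat.strong_induction_on with
  | _ n ih =>
    intro V _ _ _ S hS hn
    have hd : 0 < f.natDegree := hf.natDegree_pos
    by_cases hn0 : n = 0
    · subst hn0
      refine ⟨dvd_zero _, ?_⟩
      rw [Nat.zero_div, pow_zero]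
      apply Polynomial.eq_one_of_monic_natDegree_zero (LinearMap.charpoly_monic S)
      rw [LinearMap.charpoly_natDegree, hn]
    · have hnt : Nontrivial V := by
        apply Module.nontrivial_of_finrank_pos (R := F)
        omega
      have htop : (⊤ : Submodule F V) ≠ ⊥ := top_ne_bot
      obtain ⟨H, w, hH, -, -, hw0, hdisj, hsup⟩ := SPLIT S f hf ⊤ (Module.End.invtSubmodule.top_mem S)
        (by rw [hS]; simp) htop
      have hfw : aeval S f w = 0 := by rw [hS]; rfl
      have hc : IsCompl H (cyc S w) := ⟨disjoint_iff.2 hdisj, codisjoint_iff.2 hsup⟩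
      have hHinv : ∀ x ∈ H, S x ∈ H := fun x hx => inv_apply hH hx
      have hZinv : ∀ x ∈ cyc S w, S x ∈ cyc S w := fun x hx => inv_apply (cyc_inv S w) hx
      have hZdim : Module.finrank F ↥(cyc S w) = f.natDegree := finrank_cyc S f hf w hw0 hfw
      have hsum : Module.finrank F ↥H + Module.finrank F ↥(cyc S w) = Module.finrank F V :=
        Submodule.finrank_add_eq_of_isCompl hc
      have hHlt : Module.finrank F ↥H < n := by omega
      have hSH : aeval (LinearMap.restrict S hHinv) f = 0 := by
        ext z
        rw [aeval_restrict, hS]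
        rfl
      obtain ⟨hdvd, hcharH⟩ := ih _ hHlt ↥H (LinearMap.restrict S hHinv) hSH rfl
      have hcharZ : (LinearMap.restrict S hZinv).charpoly = f := charpoly_cyc S f hf hm w hw0 hfw
      have hconj : (Submodule.prodEquivOfIsCompl H (cyc S w) hc).conj
          ((LinearMap.restrict S hHinv).prodMap (LinearMap.restrict S hZinv)) = S := by
        apply LinearMap.ext
        intro x
        obtain ⟨⟨a, b⟩, rfl⟩ := (Submodule.prodEquivOfIsCompl H (cyc S w) hc).surjective x
        rw [LinearEquiv.conj_apply_apply, LinearEquiv.symm_apply_apply]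
        simp [Submodule.coe_prodEquivOfIsCompl']
      have hchar : S.charpoly = f ^ (Module.finrank F ↥H / f.natDegree) * f := by
        rw [← hconj, LinearEquiv.charpoly_conj, LinearMap.charpoly_prodMap, hcharH, hcharZ]
      obtain ⟨k, hk⟩ := hdvd
      have hnk : n = f.natDegree * (k + 1) := by
        rw [← hn, ← hsum, hZdim, hk]
        ring
      refine ⟨⟨k + 1, hnk⟩, ?_⟩
      rw [hchar, hk, hnk, Nat.mul_div_cancel_left _ hd, Nat.mul_div_cancel_left _ hd, pow_succ]

variable {F : Type*} [Field F] {V : Type*} [AddCommGroup V] [Module F V]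

theorem B5a [Module.Finite F V] (S : Module.End F V) (f : F[X]) (hf : Irreducible f) (hm : f.Monic)
    (hS : aeval S f = 0) :
    f.natDegree ∣ Module.finrank F V ∧ S.charpoly = f ^ (Module.finrank F V / f.natDegree) :=
  B5a_aux f hf hm (Module.finrank F V) V S hS rfl

end Cfsg.Agent.Lib.Helper4_StGL_B5a
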