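import Mathlib
import Cfsg.Agent.Lib.Helper99_StGLDefs
import Cfsg.Agent.Lib.Helper99_StGL_CYC
import Cfsg.Agent.Lib.Helper4_StGL_B5a

/-!
# StGL package B5b (S2425, architect helper99; author helper10)

For `T` killed by a squarefree polynomial, the multiplicity of a monic irreducible `f` in the
characteristic polynomial of `T` is `dim ker f(T) / deg f`.
-/

set_option autoImplicit false
open Polynomial

namespace Cfsg.Agent.Lib.Helper10_StGL_B5b
open Cfsg.Agent.Lib.Helper99_StGLDefs Cfsg.Agent.Lib.Helper99_StGL_CYC

universe u v

/-- The characteristic polynomial splits along a pair of invariant complements. -/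
theorem charpoly_of_isCompl {F : Type u} [Field F] {V : Type v} [AddCommGroup V] [Module F V]
    [Module.Finite F V] (T : Module.End F V) (K K' : Submodule F V) (hc : IsCompl K K')
    (hK : ∀ x ∈ K, T x ∈ K) (hK' : ∀ x ∈ K', T x ∈ K') :
    T.charpoly = (LinearMap.restrict T hK).charpoly * (LinearMap.restrict T hK').charpoly := by
  have hconj : (Submodule.prodEquivOfIsCompl K K' hc).conj
      ((LinearMap.restrict T hK).prodMap (LinearMap.restrict T hK')) = T := by
    apply LinearMap.ext
    intro x
    obtain ⟨⟨a, b⟩, rfl⟩ := (Submodule.prodEquivOfIsCompl K K' hc).surjective x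
    rw [LinearEquiv.conj_apply_apply, LinearEquiv.symm_apply_apply]
    simp [Submodule.coe_prodEquivOfIsCompl']
  calc T.charpoly = ((Submodule.prodEquivOfIsCompl K K' hc).conj
        ((LinearMap.restrict T hK).prodMap (LinearMap.restrict T hK'))).charpoly := by rw [hconj]
    _ = (LinearMap.restrict T hK).charpoly * (LinearMap.restrict T hK').charpoly := by
        rw [LinearEquiv.charpoly_conj, LinearMap.charpoly_prodMap]

/-- The kernel of a polynomial in `T` is `T`-invariant. -/
theorem ker_aeval_inv {F : Type u} [Field F] {V : Type v} [AddCommGroup V] [Module F V]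
    (T : Module.End F V) (p : F[X]) :
    ∀ x ∈ LinearMap.ker (aeval T p), T x ∈ LinearMap.ker (aeval T p) := by
  intro x hx
  rw [LinearMap.mem_ker] at hx ⊢
  have h : aeval T p (T x) = T (aeval T p x) := by
    have h1 : aeval T (p * X) = aeval T (X * p) := by rw [mul_comm]
    rw [map_mul, map_mul, aeval_X] at h1
    exact LinearMap.congr_fun h1 x
  rw [h, hx, map_zero]

/-- Internal form for the induction on the number of irreducible factors of `P`. -/
theorem B5b_aux {F : Type u} [Field F] [DecidableEq F] :
    ∀ n : ℕ, ∀ (V : Type v) [AddCommGroup V] [Module F V] [Module.Finite F V]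
      (T : Module.End F V) (P : F[X]),
      Squarefree P → aeval T P = 0 →
      Multiset.card (UniqueFactorizationMonoid.normalizedFactors P) = n →
      ∀ f : F[X], Irreducible f → f.Monic →
        (UniqueFactorizationMonoid.normalizedFactors T.charpoly).count f =
          Module.finrank F ↥(LinearMap.ker (aeval T f)) / f.natDegree := by
  intro n
  induction n with
  | zero =>
    intro V _ _ _ T P hP hPT hcard f hf hm
    have hP0 : P ≠ 0 := hP.ne_zero
    have hunit : IsUnit P := by
      rw [Multiset.card_eq_zero] at hcard
      exact (UniqueFactorizationMonoid.normalizedFactors_eq_zero_iff hP0).mp hcard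
    have hsub : Subsingleton V := by
      have h1 : IsUnit (aeval T P) := hunit.map (aeval T)
      rw [hPT, isUnit_zero_iff] at h1
      refine ⟨fun a b => ?_⟩
      have h2 : ∀ x : V, x = 0 := fun x => by
        have := LinearMap.congr_fun h1 x
        simpa using this.symm
      rw [h2 a, h2 b]
    have hch : T.charpoly = 1 := by
      apply Polynomial.eq_one_of_monic_natDegree_zero (LinearMap.charpoly_monic T)
      rw [LinearMap.charpoly_natDegree, Module.finrank_zero_of_subsingleton]
    rw [hch, UniqueFactorizationMonoid.normalizedFactors_one, Multiset.count_zero,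
      Module.finrank_zero_of_subsingleton, Nat.zero_div]
  | succ n ih =>
    intro V _ _ _ T P hP hPT hcard f hf hm
    have hP0 : P ≠ 0 := hP.ne_zero
    obtain ⟨f₁, hf₁⟩ : ∃ f₁, f₁ ∈ UniqueFactorizationMonoid.normalizedFactors P :=
      Multiset.card_pos_iff_exists_mem.mp (by omega)
    have hf₁irr : Irreducible f₁ := UniqueFactorizationMonoid.irreducible_of_normalized_factor f₁ hf₁
    have hf₁norm : normalize f₁ = f₁ := UniqueFactorizationMonoid.normalize_normalized_factor f₁ hf₁
    have hf₁m : f₁.Monic := by rw [← hf₁norm]; exact monic_normalize hf₁irr.ne_zero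
    obtain ⟨P', hPP'⟩ := UniqueFactorizationMonoid.dvd_of_mem_normalizedFactors hf₁
    have hP'0 : P' ≠ 0 := by
      rintro rfl
      exact hP0 (by rw [hPP', mul_zero])
    have hP'sq : Squarefree P' := by
      rw [hPP'] at hP
      exact hP.of_mul_right
    have hcop : IsCoprime f₁ P' := by
      rw [hf₁irr.coprime_iff_not_dvd]
      intro hd
      obtain ⟨Q, hQ⟩ := hd
      have : f₁ * f₁ ∣ P := ⟨Q, by rw [hPP', hQ]; ring⟩
      exact hf₁irr.not_isUnit (hP f₁ this)
    have hfac : UniqueFactorizationMonoid.normalizedFactors P =
        f₁ ::ₘ UniqueFactorizationMonoid.normalizedFactors P' := by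
      rw [hPP', UniqueFactorizationMonoid.normalizedFactors_mul hf₁irr.ne_zero hP'0,
        UniqueFactorizationMonoid.normalizedFactors_irreducible hf₁irr, hf₁norm,
        Multiset.singleton_add]
    have hcard' : Multiset.card (UniqueFactorizationMonoid.normalizedFactors P') = n := by
      rw [hfac, Multiset.card_cons] at hcard
      omega
    have hc : IsCompl (LinearMap.ker (aeval T f₁)) (LinearMap.ker (aeval T P')) := by
      refine ⟨disjoint_ker_aeval_of_isCoprime T hcop, codisjoint_iff.2 ?_⟩
      rw [sup_ker_aeval_eq_ker_aeval_mul_of_coprime T hcop, ← hPP', hPT]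
      exact LinearMap.ker_zero
    have hK := ker_aeval_inv T f₁
    have hK' := ker_aeval_inv T P'
    have hchar := charpoly_of_isCompl T _ _ hc hK hK'
    -- the first factor
    have hS1 : aeval (LinearMap.restrict T hK) f₁ = 0 := by
      ext z
      rw [aeval_restrict]
      exact z.2
    obtain ⟨-, hch1⟩ := Cfsg.Agent.Lib.Helper4_StGL_B5a.B5a (LinearMap.restrict T hK) f₁ hf₁irr hf₁m hS1
    -- the second factor
    have hS2 : aeval (LinearMap.restrict T hK') P' = 0 := by
      ext z
      rw [aeval_restrict]
      exact z.2
    have ih' := ih ↥(LinearMap.ker (aeval T P')) (LinearMap.restrict T hK') P' hP'sq hS2 hcard' f hf hm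
    rw [hchar, hch1, UniqueFactorizationMonoid.normalizedFactors_mul (pow_ne_zero _ hf₁irr.ne_zero)
      (LinearMap.charpoly_monic _).ne_zero, Multiset.count_add,
      UniqueFactorizationMonoid.normalizedFactors_pow, Multiset.count_nsmul,
      UniqueFactorizationMonoid.normalizedFactors_irreducible hf₁irr, hf₁norm, ih']
    by_cases hff : f = f₁
    · subst hff
      rw [Multiset.count_singleton_self]
      have hbot : LinearMap.ker (aeval (LinearMap.restrict T hK') f) = ⊥ := by
        rw [Submodule.eq_bot_iff]
        intro z hz
        rw [LinearMap.mem_ker] at hz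
        have h1 : aeval T f (z : V) = 0 := by
          rw [← aeval_restrict T _ hK' f z, hz]
          rfl
        have h2 : (z : V) ∈ LinearMap.ker (aeval T f) ⊓ LinearMap.ker (aeval T P') :=
          ⟨h1, z.2⟩
        rw [hc.1.eq_bot] at h2
        exact Subtype.ext ((Submodule.mem_bot F).mp h2)
      rw [hbot, finrank_bot, Nat.zero_div, mul_one, add_zero]
    · rw [Multiset.count_singleton, if_neg hff, mul_zero, zero_add]
      congr 1
      -- `ker f(T) ≤ ker P'(T)`
      have hcop2 : IsCoprime f f₁ := by
        rw [hf.coprime_iff_not_dvd]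
        intro hd
        exact hff (Polynomial.eq_of_monic_of_associated hm hf₁m (hf.associated_of_dvd hf₁irr hd))
      obtain ⟨a, b, hab⟩ := hcop2
      have hle : LinearMap.ker (aeval T f) ≤ LinearMap.ker (aeval T P') := by
        intro v hv
        rw [LinearMap.mem_ker] at hv ⊢
        have h1 : P' = P' * a * f + b * P := by
          rw [hPP']
          linear_combination (-P') * hab
        have h2 : aeval T P' v = aeval T (P' * a * f) v + aeval T (b * P) v := by
          conv_lhs => rw [h1]
          rw [map_add]
          rfl
        rw [h2, map_mul, map_mul (aeval T) b, hPT, mul_zero, Module.End.mul_apply, hv, map_zero]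
        simp
      have hres : aeval (LinearMap.restrict T hK') f =
          LinearMap.restrict (aeval T f) (fun x hx =>
            aeval_mem T _ ((Module.End.mem_invtSubmodule T).mpr hK') f hx) := by
        ext z
        rw [aeval_restrict]
        rfl
      rw [hres, LinearMap.ker_restrict]
      exact (Submodule.comapSubtypeEquivOfLe hle).finrank_eq

variable {F : Type*} [Field F] {V : Type*} [AddCommGroup V] [Module F V]

/-- **StGL-B5b**. -/
theorem B5b [DecidableEq F] [Module.Finite F V] (T : Module.End F V) (P : F[X]) (hP : Squarefree P) (hPT : aeval T P = 0)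
    (f : F[X]) (hf : Irreducible f) (hm : f.Monic) :
    (UniqueFactorizationMonoid.normalizedFactors T.charpoly).count f =
      Module.finrank F ↥(LinearMap.ker (aeval T f)) / f.natDegree :=
  B5b_aux _ V T P hP hPT rfl f hf hm

end Cfsg.Agent.Lib.Helper10_StGL_B5b
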