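/-
Definitions for the (B, N)-pair of the special unitary group `SU_n` of the ANTIDIAGONAL hermitian form
`h(x, y) = ∑_a x_a σ(y_{rev a})` on `F^n` (`σ` an involutive field automorphism, index set `Fin n`,
`rev a = n - 1 - a`): the group `SUJ n σ`, the Borel subgroup of upper triangular elements, the diagonal and
monomial subgroups, the three kinds of root elements (`xL`: two dual off-diagonal entries, `xX`: one entry on
the antidiagonal, `xQ`: the `SU_3`-type root elements through the middle index for odd `n`), the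
representatives of the distinguished generators of the Weyl group and the simple root subgroups.
No theorem beyond what is needed to state the definitions (architect: helper27, statement S2546).
-/
import Mathlib
import Cfsg.Agent.Lib.Helper68_MatGrp

set_option autoImplicit false
set_option linter.unusedSectionVars false
set_option linter.unusedVariables false

namespace Cfsg.Agent.Lib.Helper27_StSUDefs

open Matrix Cfsg.Agent.Lib.Helper68_MatGrp

/-! ### The antidiagonal matrix and the group -/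

/-- the antidiagonal matrix `J`: `J a b = 1` iff `a = rev b` -/
def Jm (n : ℕ) (F : Type*) [Field F] : Matrix (Fin n) (Fin n) F :=
  Matrix.of fun a b => if a = Fin.rev b then 1 else 0

variable {n : ℕ} {F : Type*} [Field F] (σ : F →+* F)

theorem Jm_apply (a b : Fin n) : Jm n F a b = if a = Fin.rev b then 1 else 0 := rfl

variable (n)

/-- the special unitary group of the antidiagonal form: determinant one and `gᵀ J g^σ = J` -/
def SUJ : Subgroup (Matrix.SpecialLinearGroup (Fin n) F) where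
  carrier := {g | g.1ᵀ * Jm n F * g.1.map σ = Jm n F}
  mul_mem' := by
    intro a b ha hb
    show (a * b).1ᵀ * Jm n F * (a * b).1.map σ = Jm n F
    have ha' : a.1ᵀ * Jm n F * a.1.map σ = Jm n F := ha
    have hb' : b.1ᵀ * Jm n F * b.1.map σ = Jm n F := hb
    rw [Matrix.SpecialLinearGroup.coe_mul, Matrix.transpose_mul, Matrix.map_mul]
    calc b.1ᵀ * a.1ᵀ * Jm n F * (a.1.map σ * b.1.map σ)
        = b.1ᵀ * (a.1ᵀ * Jm n F * a.1.map σ) * b.1.map σ := by simp only [Matrix.mul_assoc]
      _ = Jm n F := by rw [ha', hb']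
  one_mem' := by
    show (1 : Matrix.SpecialLinearGroup (Fin n) F).1ᵀ * Jm n F *
      (1 : Matrix.SpecialLinearGroup (Fin n) F).1.map σ = Jm n F
    rw [Matrix.SpecialLinearGroup.coe_one, Matrix.transpose_one, Matrix.map_one σ (map_zero σ) (map_one σ),
      Matrix.one_mul, Matrix.mul_one]
  inv_mem' := by
    intro g hg
    have hg' : g.1ᵀ * Jm n F * g.1.map σ = Jm n F := hg
    show (g⁻¹).1ᵀ * Jm n F * (g⁻¹).1.map σ = Jm n F
    have h1 : g.1 * (g⁻¹).1 = 1 := by
      rw [← Matrix.SpecialLinearGroup.coe_mul, mul_inv_cancel, Matrix.SpecialLinearGroup.coe_one]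
    calc (g⁻¹).1ᵀ * Jm n F * (g⁻¹).1.map σ
        = (g⁻¹).1ᵀ * (g.1ᵀ * Jm n F * g.1.map σ) * (g⁻¹).1.map σ := by rw [hg']
      _ = (g.1 * (g⁻¹).1)ᵀ * Jm n F * (g.1 * (g⁻¹).1).map σ := by
          rw [Matrix.transpose_mul, Matrix.map_mul]
          simp only [Matrix.mul_assoc]
      _ = Jm n F := by
          rw [h1, Matrix.transpose_one, Matrix.map_one σ (map_zero σ) (map_one σ), Matrix.one_mul,
            Matrix.mul_one]

variable {n}

theorem mem_SUJ {g : Matrix.SpecialLinearGroup (Fin n) F} :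
    g ∈ SUJ n σ ↔ g.1ᵀ * Jm n F * g.1.map σ = Jm n F := Iff.rfl

variable (n)

/-- the matrix of an element of `SUJ n σ` -/
def φ : ↥(SUJ n σ) →* Matrix (Fin n) (Fin n) F where
  toFun g := g.1.1
  map_one' := rfl
  map_mul' _ _ := rfl

variable {n}

@[simp] theorem φ_apply (g : ↥(SUJ n σ)) : φ n σ g = g.1.1 := rfl

/-- the element of `SUJ n σ` with matrix `M` (and `1` if `M` is not in the group) -/
noncomputable def mkE (M : Matrix (Fin n) (Fin n) F) : ↥(SUJ n σ) := by
  classical
  exact if h : M.det = 1 ∧ Mᵀ * Jm n F * M.map σ = Jm n F then ⟨⟨M, h.1⟩, h.2⟩ else 1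

theorem mkE_val {M : Matrix (Fin n) (Fin n) F} (h1 : M.det = 1)
    (h2 : Mᵀ * Jm n F * M.map σ = Jm n F) : (mkE σ M).1.1 = M := by
  classical
  unfold mkE
  rw [dif_pos ⟨h1, h2⟩]

/-! ### The subgroups -/

variable (n)

/-- the height of an index -/
def ht : Fin n → ℕ := fun a => a.val

theorem ht_injective : Function.Injective (ht n) := fun a b h => Fin.ext h

/-- the Borel subgroup: upper triangular elements -/
def Bsu : Subgroup ↥(SUJ n σ) := UT (φ n σ) (ht n)

/-- the diagonal elements -/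
def Tsu : Subgroup ↥(SUJ n σ) := Diag (φ n σ)

/-- the monomial elements -/
def Msu : Subgroup ↥(SUJ n σ) := Mono (φ n σ)

/-- the elements whose first `k` columns are upper triangular (stabilizer of the first `k` members of the
standard flag); `Pk 0 = ⊤` -/
def Pk (k : ℕ) : Subgroup ↥(SUJ n σ) := UT (φ n σ) (fun a => min a.val k)

variable {n}

theorem mem_Bsu {g : ↥(SUJ n σ)} : g ∈ Bsu n σ ↔ ∀ a b : Fin n, b < a → g.1.1 a b = 0 := Iff.rfl

theorem mem_Tsu {g : ↥(SUJ n σ)} : g ∈ Tsu n σ ↔ ∀ a b : Fin n, a ≠ b → g.1.1 a b = 0 := Iff.rfl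

theorem mem_Msu {g : ↥(SUJ n σ)} :
    g ∈ Msu n σ ↔ ∃ π : Equiv.Perm (Fin n), ∀ a b, a ≠ π b → g.1.1 a b = 0 := Iff.rfl

theorem mem_Pk {k : ℕ} {g : ↥(SUJ n σ)} :
    g ∈ Pk n σ k ↔ ∀ a b : Fin n, b.val < k → b < a → g.1.1 a b = 0 := by
  constructor
  · intro h a b hb hab
    apply h
    show min b.val k < min a.val k
    have : b.val < a.val := hab
    omega
  · intro h a b hab
    have hab' : min b.val k < min a.val k := hab
    apply h
    · omega
    · show b.val < a.val
      omega

/-! ### Root elements and Weyl group representatives (matrices) -/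

/-- `1 + t E_{i,k} - σ(t) E_{rev k, rev i}` (for `i, k, rev i, rev k` distinct) -/
def xLm (i k : Fin n) (t : F) : Matrix (Fin n) (Fin n) F :=
  1 + single i k t - single (Fin.rev k) (Fin.rev i) (σ t)

/-- `1 + t E_{i, rev i}` (for `i ≠ rev i`, `σ t = -t`) -/
def xXm (i : Fin n) (t : F) : Matrix (Fin n) (Fin n) F :=
  1 + single i (Fin.rev i) t

/-- `1 + a E_{i,c} - σ(a) E_{c, rev i} + b E_{i, rev i}` (for `c = rev c`, `i ≠ c`, `b + σ b + a σ a = 0`) -/
def xQm (i c : Fin n) (a b : F) : Matrix (Fin n) (Fin n) F :=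
  1 + single i c a - single c (Fin.rev i) (σ a) + single i (Fin.rev i) b

/-- the permutation of `wL i k`: `(i k)(rev i, rev k)` -/
def permL (i k : Fin n) : Equiv.Perm (Fin n) := Equiv.swap i k * Equiv.swap (Fin.rev i) (Fin.rev k)

/-- the permutation matrix of `(i k)(rev i, rev k)`: `e_b ↦ e_{permL i k b}` -/
def wLm (i k : Fin n) : Matrix (Fin n) (Fin n) F :=
  Matrix.of fun a b => if a = permL i k b then 1 else 0

/-- `e_{rev i} ↦ ε e_i`, `e_i ↦ -ε⁻¹ e_{rev i}`, the other basis vectors fixed (for `i ≠ rev i`, `σ ε = -ε`) -/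
def wXm (ε : F) (i : Fin n) : Matrix (Fin n) (Fin n) F :=
  1 - single i i 1 - single (Fin.rev i) (Fin.rev i) 1 + single i (Fin.rev i) ε - single (Fin.rev i) i ε⁻¹

/-- `e_i ↔ e_{rev i}`, `e_c ↦ -e_c`, the other basis vectors fixed (for `c = rev c`, `i ≠ c`) -/
def wQm (i c : Fin n) : Matrix (Fin n) (Fin n) F :=
  1 - single i i 1 - single (Fin.rev i) (Fin.rev i) 1 - single c c 2 + single i (Fin.rev i) 1 +
    single (Fin.rev i) i 1

theorem wLm_apply (i k a b : Fin n) :
    (wLm i k : Matrix (Fin n) (Fin n) F) a b = if a = permL i k b then 1 else 0 := rfl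

/-! ### The elements -/

/-- the root element `e_k ↦ e_k + t e_i`, `e_{rev i} ↦ e_{rev i} - σ(t) e_{rev k}` -/
noncomputable def xL (i k : Fin n) (t : F) : ↥(SUJ n σ) := mkE σ (xLm σ i k t)

/-- the root element `e_{rev i} ↦ e_{rev i} + t e_i` (`σ t = -t`) -/
noncomputable def xX (i : Fin n) (t : F) : ↥(SUJ n σ) := mkE σ (xXm i t)

/-- the root element `e_c ↦ e_c + a e_i`, `e_{rev i} ↦ e_{rev i} - σ(a) e_c + b e_i` -/
noncomputable def xQ (i c : Fin n) (a b : F) : ↥(SUJ n σ) := mkE σ (xQm σ i c a b)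

/-- the representative `e_i ↔ e_k`, `e_{rev i} ↔ e_{rev k}` -/
noncomputable def wL (i k : Fin n) : ↥(SUJ n σ) := mkE σ (wLm i k)

/-- the representative `e_{rev i} ↦ ε e_i`, `e_i ↦ -ε⁻¹ e_{rev i}` -/
noncomputable def wX (ε : F) (i : Fin n) : ↥(SUJ n σ) := mkE σ (wXm ε i)

/-- the representative `e_i ↔ e_{rev i}`, `e_c ↦ -e_c` -/
noncomputable def wQ (i c : Fin n) : ↥(SUJ n σ) := mkE σ (wQm i c)

/-! ### The simple roots: `j : Fin (n / 2)`; type `L` for `j + 1 < n / 2`, and for the last one type `X`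
(`n` even) or type `Q` (`n` odd) -/

/-- the index `j` of `Fin n` -/
def lo (j : Fin (n / 2)) : Fin n := ⟨j.val, by have := j.2; omega⟩

/-- the index `j + 1` of `Fin n` -/
def lo1 (j : Fin (n / 2)) : Fin n := ⟨j.val + 1, by have := j.2; omega⟩

@[simp] theorem lo_val (j : Fin (n / 2)) : (lo j).val = j.val := rfl
@[simp] theorem lo1_val (j : Fin (n / 2)) : (lo1 j).val = j.val + 1 := rfl

/-- the representative of the `j`-th distinguished generator of the Weyl group -/
noncomputable def ss (ε : F) (j : Fin (n / 2)) : ↥(SUJ n σ) :=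
  if j.val + 1 < n / 2 then wL σ (lo j) (lo1 j)
  else if n % 2 = 0 then wX σ ε (lo j) else wQ σ (lo j) (lo1 j)

/-- the root elements of the `j`-th simple root -/
def rootSet (j : Fin (n / 2)) : Set ↥(SUJ n σ) :=
  if j.val + 1 < n / 2 then {g | ∃ t : F, g = xL σ (lo j) (lo1 j) t}
  else if n % 2 = 0 then {g | ∃ t : F, σ t = -t ∧ g = xX σ (lo j) t}
  else {g | ∃ a b : F, b + σ b + a * σ a = 0 ∧ g = xQ σ (lo j) (lo1 j) a b}

/-- the `j`-th simple root subgroup -/
def Us (j : Fin (n / 2)) : Subgroup ↥(SUJ n σ) := Subgroup.closure (rootSet σ j)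

variable (n)

/-- the group `N`: generated by the representatives of the distinguished generators and the diagonal
elements -/
def Nsu (ε : F) : Subgroup ↥(SUJ n σ) :=
  Subgroup.closure (Set.range (ss (n := n) σ ε)) ⊔ Tsu n σ

end Cfsg.Agent.Lib.Helper27_StSUDefs
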