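/-
Basic facts on the special unitary group `SUJ n σ` of the antidiagonal hermitian form: the matrix `J`, the
unitarity relations entrywise, the inverse of an element.
-/
import Mathlib
import Cfsg.Agent.Lib.Helper27_StSUDefs

set_option autoImplicit false
set_option linter.unusedSectionVars false
set_option linter.unusedVariables false

namespace Cfsg.Agent.Lib.Helper27_StSUBasic

open Matrix Cfsg.Agent.Lib.Helper68_MatGrp Cfsg.Agent.Lib.Helper27_StSUDefs

variable {n : ℕ} {F : Type*} [Field F] (σ : F →+* F)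

/-! ### The matrix `J` -/

theorem Jm_mul_apply (M : Matrix (Fin n) (Fin n) F) (a b : Fin n) :
    (Jm n F * M) a b = M (Fin.rev a) b := by
  rw [Matrix.mul_apply, Finset.sum_eq_single (Fin.rev a)]
  · rw [Jm_apply, if_pos (Fin.rev_rev a).symm, one_mul]
  · intro c _ hc
    rw [Jm_apply, if_neg, zero_mul]
    intro h
    apply hc
    rw [h, Fin.rev_rev]
  · intro h; exact absurd (Finset.mem_univ _) h

theorem mul_Jm_apply (M : Matrix (Fin n) (Fin n) F) (a b : Fin n) :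
    (M * Jm n F) a b = M a (Fin.rev b) := by
  rw [Matrix.mul_apply, Finset.sum_eq_single (Fin.rev b)]
  · rw [Jm_apply, if_pos rfl, mul_one]
  · intro c _ hc
    rw [Jm_apply, if_neg hc, mul_zero]
  · intro h; exact absurd (Finset.mem_univ _) h

theorem Jm_mul_Jm : Jm n F * Jm n F = 1 := by
  ext a b
  rw [Jm_mul_apply, Jm_apply, Matrix.one_apply]
  by_cases h : a = b
  · rw [if_pos h, if_pos (by rw [h])]
  · rw [if_neg h, if_neg]
    intro h'
    exact h (Fin.rev_injective h')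

theorem Jm_transpose : (Jm n F)ᵀ = Jm n F := by
  ext a b
  rw [Matrix.transpose_apply, Jm_apply, Jm_apply]
  by_cases h : b = Fin.rev a
  · rw [if_pos h, if_pos (by rw [h, Fin.rev_rev])]
  · rw [if_neg h, if_neg]
    intro h'
    apply h
    rw [h', Fin.rev_rev]

theorem Jm_map : (Jm n F).map σ = Jm n F := by
  ext a b
  rw [Matrix.map_apply, Jm_apply]
  split_ifs
  · exact map_one σ
  · exact map_zero σ

theorem map_map_of_invol (hσ : ∀ x, σ (σ x) = x) (M : Matrix (Fin n) (Fin n) F) :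
    (M.map σ).map σ = M := by
  ext a b
  simp only [Matrix.map_apply, hσ]

/-! ### Unitarity, entrywise -/

theorem unitary_eq (g : ↥(SUJ n σ)) : g.1.1ᵀ * Jm n F * g.1.1.map σ = Jm n F := g.2

/-- the columns `a`, `b` of an element: `∑_x g_{x,a} σ(g_{rev x, b}) = J_{a,b}` -/
theorem unitary_apply (g : ↥(SUJ n σ)) (a b : Fin n) :
    ∑ x, g.1.1 x a * σ (g.1.1 (Fin.rev x) b) = if a = Fin.rev b then 1 else 0 := by
  have h := congrFun (congrFun (unitary_eq σ g) a) b
  rw [Jm_apply, Matrix.mul_assoc, Matrix.mul_apply] at h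
  rw [← h]
  apply Finset.sum_congr rfl
  intro x _
  rw [Matrix.transpose_apply, Jm_mul_apply, Matrix.map_apply]

/-- a matrix satisfying the entrywise relations is unitary -/
theorem unitary_of_apply {M : Matrix (Fin n) (Fin n) F}
    (h : ∀ a b, ∑ x, M x a * σ (M (Fin.rev x) b) = if a = Fin.rev b then 1 else 0) :
    Mᵀ * Jm n F * M.map σ = Jm n F := by
  ext a b
  rw [Jm_apply, Matrix.mul_assoc, Matrix.mul_apply, ← h a b]
  apply Finset.sum_congr rfl
  intro x _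
  rw [Matrix.transpose_apply, Jm_mul_apply, Matrix.map_apply]

/-- the second form of the unitarity relation: `(g^σ)ᵀ J g = J` -/
theorem unitary_eq' (hσ : ∀ x, σ (σ x) = x) (g : ↥(SUJ n σ)) :
    (g.1.1.map σ)ᵀ * Jm n F * g.1.1 = Jm n F := by
  have h : (g.1.1ᵀ * Jm n F * g.1.1.map σ).map σ = (Jm n F).map σ := by rw [unitary_eq σ g]
  rw [Matrix.map_mul, Matrix.map_mul, Jm_map, map_map_of_invol σ hσ] at h
  rw [← h]
  congr 2

/-- the inverse of an element: `g⁻¹ = J (g^σ)ᵀ J` -/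
theorem inv_val (hσ : ∀ x, σ (σ x) = x) (g : ↥(SUJ n σ)) :
    (g⁻¹).1.1 = Jm n F * (g.1.1.map σ)ᵀ * Jm n F := by
  have h1 : (Jm n F * (g.1.1.map σ)ᵀ * Jm n F) * g.1.1 = 1 := by
    rw [Matrix.mul_assoc, Matrix.mul_assoc, ← Matrix.mul_assoc _ (Jm n F) g.1.1, unitary_eq' σ hσ g,
      Jm_mul_Jm]
  have h2 : g.1.1 * (g⁻¹).1.1 = 1 := by
    have : (g * g⁻¹).1.1 = 1 := by rw [mul_inv_cancel]; rfl
    exact this
  calc (g⁻¹).1.1 = (Jm n F * (g.1.1.map σ)ᵀ * Jm n F * g.1.1) * (g⁻¹).1.1 := by rw [h1, Matrix.one_mul]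
    _ = Jm n F * (g.1.1.map σ)ᵀ * Jm n F * (g.1.1 * (g⁻¹).1.1) := by simp only [Matrix.mul_assoc]
    _ = _ := by rw [h2, Matrix.mul_one]

/-- the entries of the inverse: `(g⁻¹)_{a,b} = σ(g_{rev b, rev a})` -/
theorem inv_apply (hσ : ∀ x, σ (σ x) = x) (g : ↥(SUJ n σ)) (a b : Fin n) :
    (g⁻¹).1.1 a b = σ (g.1.1 (Fin.rev b) (Fin.rev a)) := by
  rw [inv_val σ hσ, mul_Jm_apply, Jm_mul_apply, Matrix.transpose_apply, Matrix.map_apply]

theorem mul_val (g h : ↥(SUJ n σ)) : (g * h).1.1 = g.1.1 * h.1.1 := rfl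

theorem one_val : (1 : ↥(SUJ n σ)).1.1 = 1 := rfl

theorem mul_inv_val (g : ↥(SUJ n σ)) : g.1.1 * (g⁻¹).1.1 = 1 := by
  rw [← mul_val, mul_inv_cancel, one_val]

theorem inv_mul_val (g : ↥(SUJ n σ)) : (g⁻¹).1.1 * g.1.1 = 1 := by
  rw [← mul_val, inv_mul_cancel, one_val]

theorem det_val (g : ↥(SUJ n σ)) : g.1.1.det = 1 := g.1.2

/-- elements are equal iff their matrices are -/
theorem ext_val {g h : ↥(SUJ n σ)} (e : g.1.1 = h.1.1) : g = h := Subtype.ext (Subtype.ext e)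

/-- an element given by its matrix -/
theorem mkE_eq {M : Matrix (Fin n) (Fin n) F} (h1 : M.det = 1)
    (h2 : Mᵀ * Jm n F * M.map σ = Jm n F) {g : ↥(SUJ n σ)} (e : g.1.1 = M) : mkE σ M = g :=
  ext_val σ (by rw [mkE_val σ h1 h2, e])

/-! ### The diagonal entries of an element of `Pk`, `Bsu` -/

theorem Bsu_le_Pk (k : ℕ) : Bsu n σ ≤ Pk n σ k := by
  intro g hg
  rw [mem_Pk]
  intro a b _ hab
  exact (mem_Bsu σ).1 hg a b hab

theorem Pk_zero : Pk n σ 0 = ⊤ := by
  rw [eq_top_iff]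
  intro g _
  rw [mem_Pk]
  intro a b hb
  exact absurd hb (Nat.not_lt_zero _)

end Cfsg.Agent.Lib.Helper27_StSUBasic
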