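import Mathlib
import Cfsg.Agent.Lib.Helper27_StSUDefs
import Cfsg.Agent.Lib.Helper27_StSUBasic

/-!
# S2546 package MEMX (architect helper27): the type `X` root matrix and Weyl representative lie in `SUJ`
-/

set_option autoImplicit false
set_option linter.unusedSectionVars false
set_option linter.unusedVariables false

namespace Cfsg.Agent.Lib.Helper55_StSU_MEMX

open Matrix Cfsg.Agent.Lib.Helper68_MatGrp Cfsg.Agent.Lib.Helper27_StSUDefs
  Cfsg.Agent.Lib.Helper27_StSUBasic

variable {n : ℕ} {F : Type*} [Field F] (σ : F →+* F)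

theorem Jm_mul_single (a b : Fin n) (t : F) : Jm n F * single a b t = single (Fin.rev a) b t := by
  ext x y
  rw [Jm_mul_apply, single_apply, single_apply]
  by_cases h : a = Fin.rev x
  · have h' : Fin.rev a = x := by rw [h, Fin.rev_rev]
    simp [h]
  · have h' : Fin.rev a ≠ x := by
      intro h''
      apply h
      rw [← h'', Fin.rev_rev]
    simp [h, h']

theorem single_mul_Jm (a b : Fin n) (t : F) : single a b t * Jm n F = single a (Fin.rev b) t := by
  ext x y
  rw [mul_Jm_apply, single_apply, single_apply]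
  by_cases h : b = Fin.rev y
  · have h' : Fin.rev b = y := by rw [h, Fin.rev_rev]
    simp [h]
  · have h' : Fin.rev b ≠ y := by
      intro h''
      apply h
      rw [← h'', Fin.rev_rev]
    simp [h, h']

/-- products of unitary matrices are unitary -/
theorem unitary_mul {A B : Matrix (Fin n) (Fin n) F}
    (hA : Aᵀ * Jm n F * A.map σ = Jm n F) (hB : Bᵀ * Jm n F * B.map σ = Jm n F) :
    (A * B)ᵀ * Jm n F * (A * B).map σ = Jm n F := by
  rw [Matrix.transpose_mul, Matrix.map_mul]
  calc Bᵀ * Aᵀ * Jm n F * (A.map σ * B.map σ)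
      = Bᵀ * (Aᵀ * Jm n F * A.map σ) * B.map σ := by simp only [Matrix.mul_assoc]
    _ = Jm n F := by rw [hA, hB]

/-- MEMX -/
theorem xXm_mem (i : Fin n) (h : i ≠ Fin.rev i) (t : F) (ht : σ t = -t) :
    (xXm i t).det = 1 ∧ (xXm i t)ᵀ * Jm n F * (xXm i t).map σ = Jm n F := by
  constructor
  · exact Matrix.det_transvection_of_ne i (Fin.rev i) h t
  · unfold xXm
    rw [Matrix.transpose_add, Matrix.transpose_one, transpose_single,
      Matrix.map_add σ (map_add σ), Matrix.map_one σ (map_zero σ) (map_one σ), map_single, ht]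
    rw [Matrix.add_mul, Matrix.one_mul, Matrix.add_mul, Matrix.mul_add, Matrix.mul_add,
      Matrix.mul_one, Matrix.mul_one, Jm_mul_single, single_mul_Jm,
      single_mul_single_of_ne _ _ _ _ h.symm, add_zero, ← single_neg]
    abel

theorem wXm_fact (ε : F) (hε0 : ε ≠ 0) (i : Fin n) (h : i ≠ Fin.rev i) :
    wXm ε i = xXm i ε * xXm (Fin.rev i) (-ε⁻¹) * xXm i ε := by
  unfold wXm xXm
  rw [Fin.rev_rev]
  simp only [Matrix.mul_add, Matrix.add_mul,
    single_mul_single_same, single_mul_single_of_ne _ _ _ _ h.symm,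
    mul_neg, neg_mul, mul_inv_cancel₀ hε0, inv_mul_cancel₀ hε0, add_zero, one_mul, mul_one,
    ← single_neg]
  abel

theorem wXm_mem (ε : F) (hε0 : ε ≠ 0) (hε : σ ε = -ε) (i : Fin n) (h : i ≠ Fin.rev i) :
    (wXm ε i).det = 1 ∧ (wXm ε i)ᵀ * Jm n F * (wXm ε i).map σ = Jm n F := by
  have h' : Fin.rev i ≠ Fin.rev (Fin.rev i) := by rw [Fin.rev_rev]; exact h.symm
  have hε' : σ (-ε⁻¹) = -(-ε⁻¹) := by rw [map_neg, map_inv₀, hε, inv_neg]
  have hx := xXm_mem σ i h ε hε
  have hy := xXm_mem σ (Fin.rev i) h' (-ε⁻¹) hε'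
  rw [wXm_fact ε hε0 i h]
  constructor
  · rw [Matrix.det_mul, Matrix.det_mul, hx.1, hy.1, one_mul, one_mul]
  · exact unitary_mul σ (unitary_mul σ hx.2 hy.2) hx.2

end Cfsg.Agent.Lib.Helper55_StSU_MEMX
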