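import Mathlib
import Cfsg.Agent.Lib.Helper27_StSUDefs
import Cfsg.Agent.Lib.Helper27_StSUBasic
import Cfsg.Agent.Lib.Helper55_StSU_MEMX

/-!
# S2546 (architect helper27), package R1X

(R1) for the type X simple root (`n` even, `rev i = i + 1`): `B = (B ∩ w⁻¹ B w) U`.
The form `r1X_of` takes the VAL lemmas `xX_val`, `wX_val` (package MEMX) as hypotheses.
-/

set_option autoImplicit false
set_option linter.unusedSectionVars false
set_option linter.unusedVariables false

namespace Cfsg.Agent.Lib.Helper10_StSU_R1X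

open Matrix Cfsg.Agent.Lib.Helper68_MatGrp Cfsg.Agent.Lib.Helper27_StSUDefs
  Cfsg.Agent.Lib.Helper27_StSUBasic

variable {n : ℕ} {F : Type*} [Field F] (σ : F →+* F)

/-- entries of the type X root matrix -/
theorem xXm_apply (i : Fin n) (t : F) (a b : Fin n) :
    xXm i t a b = (if a = b then 1 else 0) + if a = i ∧ b = Fin.rev i then t else 0 := by
  unfold xXm
  rw [Matrix.add_apply, Matrix.one_apply, Matrix.single_apply]
  congr 1
  by_cases h : a = i ∧ b = Fin.rev i
  · rw [if_pos h, if_pos ⟨h.1.symm, h.2.symm⟩]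
  · rw [if_neg h, if_neg (fun h' => h ⟨h'.1.symm, h'.2.symm⟩)]

/-- entries of the Weyl representative -/
theorem wXm_apply (ε : F) (i : Fin n) (h : i ≠ Fin.rev i) (a b : Fin n) :
    wXm ε i a b = if b = i then (if a = Fin.rev i then -ε⁻¹ else 0)
      else if b = Fin.rev i then (if a = i then ε else 0) else (if a = b then 1 else 0) := by
  unfold wXm
  simp only [Matrix.add_apply, Matrix.sub_apply, Matrix.one_apply, Matrix.single_apply]
  have h' : Fin.rev i ≠ i := Ne.symm h
  by_cases hb : b = i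
  · subst hb
    by_cases ha : a = Fin.rev b
    · subst ha
      simp [h, h']
    · by_cases ha' : a = b
      · subst ha'
        simp [h, h']
      · simp [ha, ha', Ne.symm ha, Ne.symm ha', h']
  · by_cases hb' : b = Fin.rev i
    · subst hb'
      by_cases ha : a = i
      · subst ha
        simp [h, h']
      · by_cases ha' : a = Fin.rev i
        · subst ha'
          simp [h, h']
        · simp [ha, ha', Ne.symm ha, Ne.symm ha', h, h']
    · simp [hb, hb', Ne.symm hb, Ne.symm hb']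

/-- the transposition of two adjacent indices reverses only that pair -/
theorem swap_lt (i : Fin n) (hi : i.val + 1 = (Fin.rev i).val) {x y : Fin n} (hyx : y < x)
    (hnot : ¬ (x = Fin.rev i ∧ y = i)) :
    Equiv.swap i (Fin.rev i) y < Equiv.swap i (Fin.rev i) x := by
  rw [Fin.lt_def] at hyx ⊢
  simp only [Equiv.swap_apply_def]
  simp only [Fin.ext_iff] at hnot
  split_ifs with h1 h2 h3 h4 h5 h6 h7 h8 <;> simp only [Fin.ext_iff] at * <;> omega

/-- the Weyl representative is monomial -/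
theorem wX_isMono_of (ε : F) (i : Fin n) (h : i ≠ Fin.rev i)
    (hwval : (wX σ ε i).1.1 = wXm ε i) :
    IsMono (φ n σ) (wX σ ε i) (Equiv.swap i (Fin.rev i)) := by
  intro a b hab
  rw [φ_apply, hwval, wXm_apply ε i h]
  by_cases hb : b = i
  · rw [if_pos hb, if_neg]
    rw [hb, Equiv.swap_apply_left] at hab
    exact hab
  · rw [if_neg hb]
    by_cases hb' : b = Fin.rev i
    · rw [if_pos hb', if_neg]
      rw [hb', Equiv.swap_apply_right] at hab
      exact hab
    · rw [if_neg hb', if_neg]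
      rw [Equiv.swap_apply_of_ne_of_ne hb hb'] at hab
      exact hab

/-- R1X with the VAL lemmas of MEMX as hypotheses -/
theorem r1X_of (hσ : ∀ x, σ (σ x) = x) (ε : F) (hε0 : ε ≠ 0) (hε : σ ε = -ε) (i : Fin n)
    (hi : i.val + 1 = (Fin.rev i).val) (b : ↥(SUJ n σ)) (hb : b ∈ Bsu n σ)
    (hxval : ∀ t : F, σ t = -t → (xX σ i t).1.1 = xXm i t)
    (hwval : (wX σ ε i).1.1 = wXm ε i) :
    ∃ t : F, σ t = -t ∧ wX σ ε i * (b * (xX σ i t)⁻¹) * (wX σ ε i)⁻¹ ∈ Bsu n σ := by
  have hii' : i < Fin.rev i := by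
    show i.val < (Fin.rev i).val
    omega
  have hne : i ≠ Fin.rev i := ne_of_lt hii'
  have hrev' : Fin.rev (Fin.rev i) = i := Fin.rev_rev i
  have hB := (mem_Bsu σ).1 hb
  -- the diagonal entries
  have h2 : b.1.1 i i * σ (b.1.1 (Fin.rev i) (Fin.rev i)) = 1 := by
    have h := unitary_apply σ b i (Fin.rev i)
    rw [if_pos hrev'.symm, Finset.sum_eq_single i] at h
    · exact h
    · intro x _ hx
      rcases lt_or_gt_of_ne hx with h' | h'
      · have : Fin.rev i < Fin.rev x := Fin.rev_lt_rev.2 h'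
        rw [hB _ _ this, map_zero, mul_zero]
      · rw [hB _ _ h', zero_mul]
    · intro h'
      exact absurd (Finset.mem_univ _) h'
  have h3 : b.1.1 i (Fin.rev i) * σ (b.1.1 (Fin.rev i) (Fin.rev i)) +
      b.1.1 (Fin.rev i) (Fin.rev i) * σ (b.1.1 i (Fin.rev i)) = 0 := by
    have h := unitary_apply σ b (Fin.rev i) (Fin.rev i)
    rw [if_neg (by rw [hrev']; exact Ne.symm hne),
      ← Finset.sum_subset (Finset.subset_univ {i, Fin.rev i})] at h
    · rw [Finset.sum_pair hne, hrev'] at h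
      exact h
    · intro x _ hx
      rw [Finset.mem_insert, Finset.mem_singleton] at hx
      push Not at hx
      rcases lt_or_gt_of_ne hx.1 with h' | h'
      · have : Fin.rev i < Fin.rev x := Fin.rev_lt_rev.2 h'
        rw [hB _ _ this, map_zero, mul_zero]
      · have : Fin.rev i < x := by
          have h1 : i.val < x.val := h'
          have h2' : x.val ≠ (Fin.rev i).val := fun e => hx.2 (Fin.ext e)
          show (Fin.rev i).val < x.val
          omega
        rw [hB _ _ this, zero_mul]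
  have hd0 : b.1.1 i i ≠ 0 := left_ne_zero_of_mul_eq_one h2
  have h2' : σ (b.1.1 i i) * b.1.1 (Fin.rev i) (Fin.rev i) = 1 := by
    have := congrArg σ h2
    rwa [map_mul, hσ, map_one] at this
  have hsd0 : σ (b.1.1 i i) ≠ 0 := left_ne_zero_of_mul_eq_one h2'
  -- the parameter
  set t : F := b.1.1 i (Fin.rev i) / b.1.1 i i with ht
  have key : σ (b.1.1 i (Fin.rev i)) * b.1.1 i i + σ (b.1.1 i i) * b.1.1 i (Fin.rev i) = 0 := by
    linear_combination (b.1.1 i i * σ (b.1.1 i i)) * h3 -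
      (b.1.1 i (Fin.rev i) * σ (b.1.1 i i)) * h2 -
      (σ (b.1.1 i (Fin.rev i)) * b.1.1 i i) * h2'
  have hst : σ t = -t := by
    apply eq_neg_of_add_eq_zero_left
    rw [ht, map_div₀, div_add_div _ _ hsd0 hd0, key, zero_div]
  refine ⟨t, hst, ?_⟩
  -- the inverse of the root element
  have hxinv : ((xX σ i t)⁻¹).1.1 = xXm i (-t) := by
    ext a c
    rw [inv_apply σ hσ, hxval t hst, xXm_apply, xXm_apply, map_add]
    have e1 : (Fin.rev c = Fin.rev a) ↔ (a = c) := by
      rw [Fin.rev_inj]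
      exact eq_comm
    have e2 : (Fin.rev c = i ∧ Fin.rev a = Fin.rev i) ↔ (a = i ∧ c = Fin.rev i) := by
      rw [Fin.rev_inj, Fin.rev_eq_iff]
      exact and_comm
    simp only [e1, e2, apply_ite σ, map_one, map_zero, hst]
  -- the matrix of `c = b * (xX t)⁻¹`
  have hC : ∀ a d, (b * (xX σ i t)⁻¹).1.1 a d =
      b.1.1 a d + if d = Fin.rev i then b.1.1 a i * (-t) else 0 := by
    intro a d
    rw [mul_val, hxinv]
    unfold xXm
    rw [Matrix.mul_add, Matrix.mul_one, Matrix.add_apply]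
    congr 1
    by_cases hd : d = Fin.rev i
    · rw [if_pos hd, hd, Matrix.mul_single_apply_same]
    · rw [if_neg hd]
      exact Matrix.mul_single_apply_of_ne _ _ _ _ _ hd _
  have hCB : ∀ a d, d < a → (b * (xX σ i t)⁻¹).1.1 a d = 0 := by
    intro a d hda
    rw [hC, hB _ _ hda, zero_add]
    by_cases hd : d = Fin.rev i
    · rw [if_pos hd, hB a i (lt_trans hii' (hd ▸ hda)), zero_mul]
    · rw [if_neg hd]
  have hC0 : (b * (xX σ i t)⁻¹).1.1 i (Fin.rev i) = 0 := by
    rw [hC, if_pos rfl, ht]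
    field_simp
    ring
  -- conjugation by the Weyl representative
  have hm := (wX_isMono_of σ ε i hne hwval).inv
  rw [Equiv.swap_inv] at hm
  have e : wX σ ε i * (b * (xX σ i t)⁻¹) * (wX σ ε i)⁻¹ =
      ((wX σ ε i)⁻¹)⁻¹ * (b * (xX σ i t)⁻¹) * (wX σ ε i)⁻¹ := by rw [inv_inv]
  rw [e, mem_Bsu]
  intro x y hyx
  have h1 := hm.conj_apply (b * (xX σ i t)⁻¹) x y
  simp only [φ_apply] at h1
  rw [h1]
  have hz : (b * (xX σ i t)⁻¹).1.1 (Equiv.swap i (Fin.rev i) x) (Equiv.swap i (Fin.rev i) y) = 0 := by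
    by_cases hxy : x = Fin.rev i ∧ y = i
    · rw [hxy.1, hxy.2, Equiv.swap_apply_right, Equiv.swap_apply_left]
      exact hC0
    · exact hCB _ _ (swap_lt i hi hyx hxy)
  rw [hz, mul_zero, zero_mul]

/-- R1X -/
theorem r1X (hσ : ∀ x, σ (σ x) = x) (ε : F) (hε0 : ε ≠ 0) (hε : σ ε = -ε) (i : Fin n)
    (hi : i.val + 1 = (Fin.rev i).val) (b : ↥(SUJ n σ)) (hb : b ∈ Bsu n σ) :
    ∃ t : F, σ t = -t ∧ wX σ ε i * (b * (xX σ i t)⁻¹) * (wX σ ε i)⁻¹ ∈ Bsu n σ := by
  have hne : i ≠ Fin.rev i := by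
    intro h
    rw [← h] at hi
    omega
  exact r1X_of σ hσ ε hε0 hε i hi b hb
    (fun t ht => mkE_val σ (Cfsg.Agent.Lib.Helper55_StSU_MEMX.xXm_mem σ i hne t ht).1
      (Cfsg.Agent.Lib.Helper55_StSU_MEMX.xXm_mem σ i hne t ht).2)
    (mkE_val σ (Cfsg.Agent.Lib.Helper55_StSU_MEMX.wXm_mem σ ε hε0 hε i hne).1
      (Cfsg.Agent.Lib.Helper55_StSU_MEMX.wXm_mem σ ε hε0 hε i hne).2)

end Cfsg.Agent.Lib.Helper10_StSU_R1X
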