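import Mathlib
import Cfsg.Agent.Lib.Helper5_SUOrder
import Cfsg.Agent.Lib.Helper5_PSLCard

/-!
# The centre of the special unitary group and the order of PSU (helper5)

`mkSU`, `center_comm`, `center_offdiag`, `center_diag`, `center_eq_smul` (central elements of `SU_n` are scalar),
`det_unitaryTransvection`, `centerEquiv : center (SU n F q) ≃ rootsOfUnity (gcd n (q+1)) F`,
`card_center_SU`, `card_PSU`.
-/

set_option autoImplicit false
set_option linter.unusedSectionVars false
set_option linter.unusedVariables false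

namespace Cfsg.Agent.Lib.Helper5_SUCenter

open Matrix Cfsg.Agent.Lib.Helper13_Herm Cfsg.Agent.Lib.Helper5_HermCount Cfsg.Agent.Lib.Helper5_GUOrder
  Cfsg.Agent.Lib.Helper5_SUOrder

variable {F : Type*} [Field F] [Fintype F] {q : ℕ}

/-- build an element of `SU` -/
def mkSU {n : ℕ} (M : Matrix (Fin n) (Fin n) F) (hM : IsU n q M) (hdet : M.det = 1) : Cfsg.SU n F q :=
  ⟨⟨M, hdet⟩, (mem_SU_iff _).mpr hM⟩

lemma mkSU_val {n : ℕ} (M : Matrix (Fin n) (Fin n) F) (hM : IsU n q M) (hdet : M.det = 1) :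
    ((mkSU M hM hdet : Cfsg.SU n F q).1 : Matrix (Fin n) (Fin n) F) = M := rfl

lemma center_comm {n : ℕ} (z : Cfsg.SU n F q) (hz : z ∈ Subgroup.center (Cfsg.SU n F q)) (g : Cfsg.SU n F q) :
    (g.1 : Matrix (Fin n) (Fin n) F) * (z.1 : Matrix (Fin n) (Fin n) F)
      = (z.1 : Matrix (Fin n) (Fin n) F) * (g.1 : Matrix (Fin n) (Fin n) F) := by
  have h := (Subgroup.mem_center_iff.mp hz) g
  have h2 := congrArg (fun s : Cfsg.SU n F q => (s.1 : Matrix (Fin n) (Fin n) F)) h
  simpa using h2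

lemma exists_norm_one_sq_ne_one (hF : Fintype.card F = q ^ 2) : ∃ l : F, l * l ^ q = 1 ∧ l * l ≠ 1 := by
  classical
  have hq2 := two_le_q hF
  have hc := card_norm_eq hF (c := (1 : F)) one_ne_zero (one_pow q)
  by_contra hcon
  push Not at hcon
  have hsub : Finset.univ.filter (fun x : F => x * x ^ q = 1) ⊆ {1, -1} := by
    intro x hx
    have h1 := hcon x (Finset.mem_filter.mp hx).2
    have h2 : (x - 1) * (x + 1) = 0 := by linear_combination h1
    rcases mul_eq_zero.mp h2 with h3 | h3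
    · simp [sub_eq_zero.mp h3]
    · simp [eq_neg_of_add_eq_zero_left h3]
  have := Finset.card_le_card hsub
  have h3 : ({1, -1} : Finset F).card ≤ 2 := Finset.card_le_two
  omega

lemma exists_pow_q_ne (hF : Fintype.card F = q ^ 2) : ∃ b : F, b ^ q ≠ b := by
  classical
  have hq2 := two_le_q hF
  have hc := card_norm_eq hF (c := (1 : F)) one_ne_zero (one_pow q)
  by_contra hcon
  push Not at hcon
  have hsub : Finset.univ.filter (fun x : F => x * x ^ q = 1) ⊆ {1, -1} := by
    intro x hx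
    have h1 := (Finset.mem_filter.mp hx).2
    rw [hcon x] at h1
    have h2 : (x - 1) * (x + 1) = 0 := by linear_combination h1
    rcases mul_eq_zero.mp h2 with h3 | h3
    · simp [sub_eq_zero.mp h3]
    · simp [eq_neg_of_add_eq_zero_left h3]
  have := Finset.card_le_card hsub
  have h3 : ({1, -1} : Finset F).card ≤ 2 := Finset.card_le_two
  omega

lemma exists_trace_zero (hF : Fintype.card F = q ^ 2) : ∃ a : F, a ≠ 0 ∧ a + a ^ q = 0 := by
  obtain ⟨b, hb⟩ := exists_pow_q_ne hF
  refine ⟨b - b ^ q, sub_ne_zero.mpr (Ne.symm hb), ?_⟩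
  rw [sub_pow_q hF, pow_q_pow_q hF]; ring

lemma exists_norm_neg_one (hF : Fintype.card F = q ^ 2) : ∃ c : F, c * c ^ q = -1 := by
  classical
  have hc := card_norm_eq hF (c := (-1 : F)) (neg_ne_zero.mpr one_ne_zero) (by rw [neg_pow_q hF, one_pow])
  have : 0 < (Finset.univ.filter (fun x : F => x * x ^ q = -1)).card := by rw [hc]; omega
  obtain ⟨c, hc⟩ := Finset.card_pos.mp this
  exact ⟨c, (Finset.mem_filter.mp hc).2⟩

lemma center_offdiag (hF : Fintype.card F = q ^ 2) {n : ℕ} (z : Cfsg.SU n F q)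
    (hz : z ∈ Subgroup.center (Cfsg.SU n F q)) (k l : Fin n) (hkl : k ≠ l) :
    (z.1 : Matrix (Fin n) (Fin n) F) k l = 0 := by
  classical
  obtain ⟨lam, hl, hl2⟩ := exists_norm_one_sq_ne_one hF
  have hl0 : lam ≠ 0 := by rintro rfl; simp at hl
  set d : Fin n → F := fun i => (if i = k then lam else 1) * (if i = l then lam⁻¹ else 1) with hd
  have hdU : ∀ i, d i * (d i) ^ q = 1 := by
    intro i
    have hinv : lam⁻¹ * (lam⁻¹) ^ q = 1 := by rw [inv_pow, ← mul_inv, hl, inv_one]
    show ((if i = k then lam else 1) * (if i = l then lam⁻¹ else 1))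
      * ((if i = k then lam else 1) * (if i = l then lam⁻¹ else 1)) ^ q = 1
    by_cases h1 : i = k
    · have h2 : ¬ i = l := by rw [h1]; exact hkl
      rw [if_pos h1, if_neg h2, mul_one]; exact hl
    · by_cases h2 : i = l
      · rw [if_neg h1, if_pos h2, one_mul]; exact hinv
      · rw [if_neg h1, if_neg h2, mul_one, one_pow, mul_one]
  have hdet : (Matrix.diagonal d).det = 1 := by
    rw [Matrix.det_diagonal, Finset.prod_mul_distrib, Finset.prod_ite_eq', Finset.prod_ite_eq']
    simp [hl0]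
  have hcomm := center_comm z hz (mkSU (Matrix.diagonal d) (isU_diagonal d hdU) hdet)
  rw [mkSU_val] at hcomm
  have h1 := congrFun (congrFun hcomm k) l
  rw [Matrix.diagonal_mul, Matrix.mul_diagonal] at h1
  have hdk : d k = lam := by simp [hd, hkl]
  have hdl : d l = lam⁻¹ := by simp [hd, Ne.symm hkl]
  rw [hdk, hdl] at h1
  have h2 : (z.1 : Matrix (Fin n) (Fin n) F) k l * (lam * lam - 1) = 0 := by
    field_simp at h1
    linear_combination h1
  rcases mul_eq_zero.mp h2 with h3 | h3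
  · exact h3
  · exact absurd (sub_eq_zero.mp h3) hl2

lemma det_unitaryTransvection {n : ℕ} (v : Fin n → F) (a : F) :
    (Cfsg.unitaryTransvection n q v a).det = 1 + a * Cfsg.hermForm n F q v v := by
  unfold Cfsg.unitaryTransvection
  rw [← Matrix.smul_vecMulVec, Matrix.vecMulVec_eq Unit, Matrix.det_one_add_replicateCol_mul_replicateRow,
    dotProduct_smul, smul_eq_mul]
  congr 2
  unfold Cfsg.hermForm dotProduct
  apply Finset.sum_congr rfl
  intro i _
  ring

lemma center_diag (hF : Fintype.card F = q ^ 2) {n : ℕ} (z : Cfsg.SU n F q)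
    (hz : z ∈ Subgroup.center (Cfsg.SU n F q)) (k l : Fin n) :
    (z.1 : Matrix (Fin n) (Fin n) F) k k = (z.1 : Matrix (Fin n) (Fin n) F) l l := by
  classical
  by_cases hkl : k = l
  · rw [hkl]
  have hq0 : q ≠ 0 := by have := two_le_q hF; omega
  obtain ⟨a, ha0, ha⟩ := exists_trace_zero hF
  obtain ⟨c, hc⟩ := exists_norm_neg_one hF
  have hc0 : c ≠ 0 := by rintro rfl; simp at hc
  set v : Fin n → F := Pi.single k 1 + c • Pi.single l 1 with hv
  have hvv : Cfsg.hermForm n F q v v = 0 := by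
    rw [hv, hermForm_add_left, hermForm_smul_left, hermForm_single_left, hermForm_single_left]
    simp [hkl, Ne.symm hkl, mul_pow, hq0]
    linear_combination hc
  have hU : IsU n q (Cfsg.unitaryTransvection n q v a) := by
    apply isU_transvection hF
    rw [hvv, mul_zero, add_zero, ha]
  have hdet : (Cfsg.unitaryTransvection n q v a).det = 1 := by
    rw [det_unitaryTransvection, hvv, mul_zero, add_zero]
  have hcomm := center_comm z hz (mkSU _ hU hdet)
  rw [mkSU_val] at hcomm
  have h1 := congrFun (congrFun hcomm k) l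
  rw [Matrix.mul_apply, Matrix.mul_apply, Finset.sum_eq_single l, Finset.sum_eq_single k] at h1
  · have hT : Cfsg.unitaryTransvection n q v a k l = a * c ^ q := by
      unfold Cfsg.unitaryTransvection
      simp [hv, Matrix.vecMulVec_apply, hkl, Ne.symm hkl, Matrix.one_apply]
    rw [hT] at h1
    have hne : a * c ^ q ≠ 0 := mul_ne_zero ha0 (pow_ne_zero _ hc0)
    have h2 : ((z.1 : Matrix (Fin n) (Fin n) F) k k - (z.1 : Matrix (Fin n) (Fin n) F) l l) * (a * c ^ q) = 0 := by
      linear_combination -h1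
    rcases mul_eq_zero.mp h2 with h3 | h3
    · exact sub_eq_zero.mp h3
    · exact absurd h3 hne
  · intro j _ hj
    rw [center_offdiag hF z hz k j (Ne.symm hj), zero_mul]
  · simp
  · intro j _ hj
    rw [center_offdiag hF z hz j l hj, mul_zero]
  · simp

lemma center_eq_smul (hF : Fintype.card F = q ^ 2) {n : ℕ} (z : Cfsg.SU n F q)
    (hz : z ∈ Subgroup.center (Cfsg.SU n F q)) (i0 : Fin n) :
    (z.1 : Matrix (Fin n) (Fin n) F) = (z.1 : Matrix (Fin n) (Fin n) F) i0 i0 • (1 : Matrix (Fin n) (Fin n) F) := by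
  ext k l
  by_cases hkl : k = l
  · subst hkl
    simp [center_diag hF z hz k i0]
  · simp [center_offdiag hF z hz k l hkl, Matrix.one_apply, hkl]

lemma smul_one_props (hF : Fintype.card F = q ^ 2) {n : ℕ} (i0 : Fin n) (r : F)
    (hU : IsU n q (r • (1 : Matrix (Fin n) (Fin n) F))) (hdet : (r • (1 : Matrix (Fin n) (Fin n) F)).det = 1) :
    r ^ n = 1 ∧ r ^ (q + 1) = 1 := by
  have hq0 : q ≠ 0 := by have := two_le_q hF; omega
  constructor
  · rw [Matrix.det_smul, Matrix.det_one, mul_one, Fintype.card_fin] at hdet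
    exact hdet
  · have h := hU (Pi.single i0 1) (Pi.single i0 1)
    rw [Matrix.smul_mulVec, Matrix.one_mulVec, hermForm_smul_left, hermForm_smul_right,
      hermForm_single_left] at h
    simp [hq0] at h
    rw [pow_succ']
    exact h

lemma isU_smul_one (hF : Fintype.card F = q ^ 2) {n : ℕ} (r : F) (hr : r ^ (q + 1) = 1) :
    IsU n q (r • (1 : Matrix (Fin n) (Fin n) F)) :=
  isU_smul hF r (by rw [← pow_succ']; exact hr)

lemma card_rootsOfUnity_gcd (hF : Fintype.card F = q ^ 2) (n : ℕ) :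
    Nat.card (rootsOfUnity (Nat.gcd n (q + 1)) F) = Nat.gcd n (q + 1) := by
  rw [Cfsg.Agent.Lib.Helper5_PSLCard.card_rootsOfUnity_finiteField, hF]
  apply Nat.gcd_eq_right
  have h1 : Nat.gcd n (q + 1) ∣ q + 1 := Nat.gcd_dvd_right _ _
  have h2 : q + 1 ∣ q ^ 2 - 1 := by
    have hq2 := two_le_q hF
    obtain ⟨k, rfl⟩ : ∃ k, q = k + 1 := ⟨q - 1, by omega⟩
    refine ⟨k, ?_⟩
    have : (k + 1) ^ 2 = (k + 1 + 1) * k + 1 := by ring
    rw [this, Nat.add_sub_cancel]
  exact h1.trans h2

/-- the centre of `SU_n(q)` is the group of `gcd(n, q+1)`-th roots of unity -/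
noncomputable def centerEquiv (hF : Fintype.card F = q ^ 2) (n : ℕ) (i0 : Fin n) :
    Subgroup.center (Cfsg.SU n F q) ≃ rootsOfUnity (Nat.gcd n (q + 1)) F where
  toFun z := ⟨Units.mk0 ((z.1.1 : Matrix (Fin n) (Fin n) F) i0 i0) (by
      intro h0
      have h1 := center_eq_smul hF z.1 z.2 i0
      have hdet : (z.1.1 : Matrix (Fin n) (Fin n) F).det = 1 := z.1.1.2
      have : Nonempty (Fin n) := ⟨i0⟩
      rw [h1, h0, zero_smul, Matrix.det_zero] at hdet
      exact zero_ne_one hdet), by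
    have h1 := center_eq_smul hF z.1 z.2 i0
    have hdet : (z.1.1 : Matrix (Fin n) (Fin n) F).det = 1 := z.1.1.2
    have hU : IsU n q (z.1.1 : Matrix (Fin n) (Fin n) F) := (mem_SU_iff z.1.1).mp z.1.2
    rw [h1] at hdet hU
    obtain ⟨hn, hq⟩ := smul_one_props hF i0 _ hU hdet
    rw [mem_rootsOfUnity]
    apply Units.ext
    rw [Units.val_pow_eq_pow_val, Units.val_mk0, Units.val_one]
    exact pow_gcd_eq_one.mpr ⟨hn, hq⟩⟩
  invFun u := ⟨mkSU ((u.1 : F) • (1 : Matrix (Fin n) (Fin n) F))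
      (isU_smul_one hF _ (by
        have h := (mem_rootsOfUnity _ _).mp u.2
        have h2 := congrArg Units.val h
        rw [Units.val_pow_eq_pow_val, Units.val_one] at h2
        exact (pow_gcd_eq_one.mp h2).2))
      (by
        have h := (mem_rootsOfUnity _ _).mp u.2
        have h2 := congrArg Units.val h
        rw [Units.val_pow_eq_pow_val, Units.val_one] at h2
        rw [Matrix.det_smul, Matrix.det_one, mul_one, Fintype.card_fin]
        exact (pow_gcd_eq_one.mp h2).1), by
    rw [Subgroup.mem_center_iff]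
    intro g
    apply Subtype.ext
    apply Subtype.ext
    show (g.1 : Matrix (Fin n) (Fin n) F) * ((u.1 : F) • (1 : Matrix (Fin n) (Fin n) F))
      = ((u.1 : F) • (1 : Matrix (Fin n) (Fin n) F)) * (g.1 : Matrix (Fin n) (Fin n) F)
    rw [Matrix.mul_smul, Matrix.smul_mul, Matrix.mul_one, Matrix.one_mul]⟩
  left_inv z := by
    apply Subtype.ext
    apply Subtype.ext
    apply Subtype.ext
    show ((z.1.1 : Matrix (Fin n) (Fin n) F) i0 i0) • (1 : Matrix (Fin n) (Fin n) F) = (z.1.1 : Matrix (Fin n) (Fin n) F)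
    exact (center_eq_smul hF z.1 z.2 i0).symm
  right_inv u := by
    apply Subtype.ext
    apply Units.ext
    show ((u.1 : F) • (1 : Matrix (Fin n) (Fin n) F)) i0 i0 = (u.1 : F)
    simp

theorem card_center_SU {F : Type*} [Field F] [Fintype F] {q : ℕ} (hF : Fintype.card F = q ^ 2) (n : ℕ) (hn : 1 ≤ n) : Nat.card (Subgroup.center (Cfsg.SU n F q)) = Nat.gcd n (q + 1) := by
  rw [Nat.card_congr (centerEquiv hF n ⟨0, hn⟩), card_rootsOfUnity_gcd hF]

theorem card_PSU {F : Type*} [Field F] [Fintype F] {q : ℕ} (hF : Fintype.card F = q ^ 2) (n : ℕ) (hn : 1 ≤ n) : Nat.gcd n (q + 1) * ((q + 1) * Nat.card (Cfsg.PSU n F q)) = q ^ (n * (n - 1) / 2) * ∏ i ∈ Finset.range n, (if Even i then q ^ (i + 1) + 1 else q ^ (i + 1) - 1) := by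
  rw [← card_SU hF n hn, ← card_center_SU hF n hn,
    Subgroup.card_eq_card_quotient_mul_card_subgroup (Subgroup.center (Cfsg.SU n F q))]
  ring

end Cfsg.Agent.Lib.Helper5_SUCenter
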