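import Mathlib

set_option autoImplicit false

/-!
Transvections as elements of the special linear group of a vector space, and a transitivity
lemma: the pointwise stabiliser of a subspace `p` in `SL(V)` is transitive on the vectors outside
`p`, as soon as `V / p` has dimension at least two.
-/

namespace Cfsg.Agent.Lib.Helper81_Transvection

open Module Submodule

variable {F V : Type*} [Field F] [AddCommGroup V] [Module F V]

/-- a transvection, as an element of the special linear group of `V` -/
noncomputable def tv {f : Dual F V} {v : V} (h : f v = 0) : SpecialLinearGroup F V :=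
  ⟨LinearEquiv.transvection h, LinearEquiv.transvection.det_eq_one h⟩

theorem tv_apply {f : Dual F V} {v : V} (h : f v = 0) (x : V) : tv h x = x + f x • v := rfl

/-- a linear form vanishing on `p` and taking the value `1` at a given `x ∉ p` -/
theorem exists_dual_one (p : Submodule F V) {x : V} (hx : x ∉ p) :
    ∃ f : Dual F V, f x = 1 ∧ ∀ u ∈ p, f u = 0 := by
  obtain ⟨f, hfx, hf⟩ := Submodule.exists_dual_map_eq_bot_of_notMem hx inferInstance
  refine ⟨(f x)⁻¹ • f, by simp [inv_mul_cancel₀ hfx], fun u hu => ?_⟩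
  have : f u ∈ p.map f := Submodule.mem_map_of_mem hu
  rw [hf, Submodule.mem_bot] at this
  simp [this]

theorem not_mem_sup_span_symm (p : Submodule F V) {x y : V} (hx : x ∉ p)
    (hy : y ∉ p ⊔ span F {x}) : x ∉ p ⊔ span F {y} := by
  intro h
  obtain ⟨u, hu, w, hw, huw⟩ := Submodule.mem_sup.mp h
  obtain ⟨c, rfl⟩ := Submodule.mem_span_singleton.mp hw
  have hc : c ≠ 0 := by
    rintro rfl
    rw [zero_smul, add_zero] at huw
    exact hx (huw ▸ hu)
  apply hy
  have : y = c⁻¹ • x - c⁻¹ • u := by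
    rw [← huw, smul_add, smul_smul, inv_mul_cancel₀ hc, one_smul]; abel
  rw [this]
  refine Submodule.sub_mem _ ?_ ?_
  · exact Submodule.mem_sup_right (Submodule.smul_mem _ _ (Submodule.mem_span_singleton_self x))
  · exact Submodule.mem_sup_left (Submodule.smul_mem _ _ hu)

/-- independent case: a single transvection -/
theorem exists_tv_map (p : Submodule F V) {x y : V} (hx : x ∉ p) (hy : y ∉ p ⊔ span F {x}) :
    ∃ g : SpecialLinearGroup F V, (∀ u ∈ p, g u = u) ∧ g x = y := by
  have hx' := not_mem_sup_span_symm p hx hy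
  obtain ⟨f₁, hf₁y, hf₁⟩ := exists_dual_one (p ⊔ span F {x}) hy
  obtain ⟨f₂, hf₂x, hf₂⟩ := exists_dual_one (p ⊔ span F {y}) hx'
  have hf₁x : f₁ x = 0 := hf₁ x (Submodule.mem_sup_right (Submodule.mem_span_singleton_self x))
  have hf₂y : f₂ y = 0 := hf₂ y (Submodule.mem_sup_right (Submodule.mem_span_singleton_self y))
  have h : (f₁ + f₂) (y - x) = 0 := by
    simp [hf₁y, hf₁x, hf₂x, hf₂y]
  refine ⟨tv h, fun u hu => ?_, ?_⟩
  · rw [tv_apply, LinearMap.add_apply, hf₁ u (Submodule.mem_sup_left hu),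
      hf₂ u (Submodule.mem_sup_left hu), add_zero, zero_smul, add_zero]
  · rw [tv_apply, LinearMap.add_apply, hf₁x, hf₂x, zero_add, one_smul]; abel

/-- **Lemma T**: the pointwise stabiliser of `p` in `SL(V)` is transitive on `V \ p` provided some
vector lies outside `p ⊔ span {x}`. -/
theorem exists_sl_map (p : Submodule F V) {x y : V} (hx : x ∉ p) (hy : y ∉ p)
    (hz : ∃ z, z ∉ p ⊔ span F {x}) :
    ∃ g : SpecialLinearGroup F V, (∀ u ∈ p, g u = u) ∧ g x = y := by
  by_cases hyx : y ∈ p ⊔ span F {x}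
  · obtain ⟨z, hz⟩ := hz
    have hle : p ⊔ span F {y} ≤ p ⊔ span F {x} := by
      refine sup_le le_sup_left ?_
      rw [Submodule.span_singleton_le_iff_mem]
      exact hyx
    have hz' : z ∉ p ⊔ span F {y} := fun h => hz (hle h)
    obtain ⟨g₁, hg₁p, hg₁⟩ := exists_tv_map p hx hz
    obtain ⟨g₂, hg₂p, hg₂⟩ := exists_tv_map p hy hz'
    refine ⟨g₂⁻¹ * g₁, fun u hu => ?_, ?_⟩
    · have h1 : g₂⁻¹ u = u := by
        have := congrArg (fun w => g₂⁻¹ w) (hg₂p u hu)
        simpa using this.symm
      show g₂⁻¹ (g₁ u) = u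
      rw [hg₁p u hu, h1]
    · show g₂⁻¹ (g₁ x) = y
      rw [hg₁, ← hg₂]
      simp
  · exact exists_tv_map p hx hyx

end Cfsg.Agent.Lib.Helper81_Transvection
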