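import Mathlib
import Cfsg.Agent.Lib.Helper81_Transvection

set_option autoImplicit false

/-!
# Congruence-stable sets of symmetric matrices over a finite field of odd order (helper81)

If `O` is a non-empty finite set of non-zero symmetric `n × n` matrices over a finite field `F`
with `2 ≠ 0`, `n ≥ 2`, stable under `T ↦ Aᵀ T A` for invertible `A`, then `|F|^n ≤ 2 |O| + 1`
(`orbit_bound`).  The proof is a double count of pairs `(T, v)` with `vᵀ T v = a`.
-/

namespace Cfsg.Agent.Lib.Helper81_SymOrbit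

open Matrix Module Submodule
open Cfsg.Agent.Lib.Helper81_Transvection

variable {F : Type*} [Field F] {n : ℕ}

/-- the quadratic form of a matrix -/
def qf (T : Matrix (Fin n) (Fin n) F) (v : Fin n → F) : F := v ⬝ᵥ (T *ᵥ v)

theorem qf_congr (T A : Matrix (Fin n) (Fin n) F) (w : Fin n → F) :
    qf (Aᵀ * T * A) w = qf T (A *ᵥ w) := by
  unfold qf
  rw [← Matrix.mulVec_mulVec, ← Matrix.mulVec_mulVec, Matrix.dotProduct_mulVec,
    Matrix.vecMul_transpose]

theorem qf_single (T : Matrix (Fin n) (Fin n) F) (i : Fin n) :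
    qf T (Pi.single i 1) = T i i := by
  unfold qf
  rw [Matrix.mulVec_single_one, single_one_dotProduct]
  rfl

theorem congr_apply (T A : Matrix (Fin n) (Fin n) F) (i j : Fin n) :
    (Aᵀ * T * A) i j = (A *ᵥ Pi.single i 1) ⬝ᵥ (T *ᵥ (A *ᵥ Pi.single j 1)) := by
  rw [Matrix.mulVec_single_one, Matrix.mulVec_single_one]
  simp only [Matrix.mul_apply, Matrix.transpose_apply, dotProduct, Matrix.mulVec, Matrix.col_apply,
    Finset.sum_mul, Finset.mul_sum]
  rw [Finset.sum_comm]
  refine Finset.sum_congr rfl fun k _ => Finset.sum_congr rfl fun l _ => ?_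
  ring

/-- transfer from the abstract special linear group to the matrix group -/
theorem exists_matrix_sl (g' : SpecialLinearGroup F (Fin n → F)) :
    ∃ g : Matrix.SpecialLinearGroup (Fin n) F, ∀ v : Fin n → F,
      (g : Matrix (Fin n) (Fin n) F).mulVec v = g' v := by
  refine ⟨Matrix.SpecialLinearGroup.toLin'_equiv.symm g', fun v => ?_⟩
  show (LinearMap.toMatrix' (g' : (Fin n → F) →ₗ[F] (Fin n → F))).mulVec v = g' v
  rw [LinearMap.toMatrix'_mulVec]
  rfl

/-- `SL_n` is transitive on non-zero vectors: in matrix form, with explicit inverse -/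
theorem exists_map (hn : 2 ≤ n) {x y : Fin n → F} (hx : x ≠ 0) (hy : y ≠ 0) :
    ∃ A B : Matrix (Fin n) (Fin n) F, A * B = 1 ∧ B * A = 1 ∧ A *ᵥ x = y := by
  have hx' : x ∉ (⊥ : Submodule F (Fin n → F)) := by
    rw [Submodule.mem_bot]; exact hx
  have hy' : y ∉ (⊥ : Submodule F (Fin n → F)) := by
    rw [Submodule.mem_bot]; exact hy
  have hz : ∃ z, z ∉ (⊥ : Submodule F (Fin n → F)) ⊔ span F {x} := by
    by_contra hcon
    push Not at hcon
    have htop : (⊥ : Submodule F (Fin n → F)) ⊔ span F {x} = ⊤ := Submodule.eq_top_iff'.mpr hcon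
    have h1 := finrank_span_le_card (R := F) ({x} : Set (Fin n → F))
    rw [bot_sup_eq] at htop
    rw [htop, finrank_top, Module.finrank_fin_fun] at h1
    simp at h1
    omega
  obtain ⟨g', -, hg'⟩ := exists_sl_map ⊥ hx' hy' hz
  obtain ⟨g, hg⟩ := exists_matrix_sl g'
  refine ⟨g.1, (g⁻¹ : Matrix.SpecialLinearGroup (Fin n) F).1, ?_, ?_, ?_⟩
  · rw [← Matrix.SpecialLinearGroup.coe_mul, mul_inv_cancel]; rfl
  · rw [← Matrix.SpecialLinearGroup.coe_mul, inv_mul_cancel]; rfl
  · rw [hg, hg']

theorem qf_add_smul (T : Matrix (Fin n) (Fin n) F) (u e : Fin n → F) (x : F) :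
    qf T (u + x • e) = qf T u + x * (e ⬝ᵥ (T *ᵥ u) + u ⬝ᵥ (T *ᵥ e)) + x ^ 2 * qf T e := by
  unfold qf
  rw [Matrix.mulVec_add, Matrix.mulVec_smul, add_dotProduct, dotProduct_add, dotProduct_add,
    smul_dotProduct, smul_dotProduct, dotProduct_smul, dotProduct_smul]
  simp only [smul_eq_mul]
  ring

theorem dotProduct_mulVec_symm (T : Matrix (Fin n) (Fin n) F) (hT : Tᵀ = T) (u v : Fin n → F) :
    u ⬝ᵥ (T *ᵥ v) = v ⬝ᵥ (T *ᵥ u) := by
  rw [Matrix.dotProduct_mulVec, ← Matrix.mulVec_transpose, hT, dotProduct_comm]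

/-- polarisation: a non-zero symmetric matrix has a non-isotropic vector -/
theorem exists_qf_ne_zero (h2 : (2 : F) ≠ 0) (T : Matrix (Fin n) (Fin n) F) (hT : Tᵀ = T)
    (hT0 : T ≠ 0) : ∃ v, qf T v ≠ 0 := by
  by_contra hcon
  push Not at hcon
  apply hT0
  ext i j
  have h1 := hcon (Pi.single i 1 + (1 : F) • Pi.single j 1)
  rw [qf_add_smul, hcon, hcon, Matrix.mulVec_single_one, Matrix.mulVec_single_one,
    single_one_dotProduct, single_one_dotProduct] at h1
  have h3 : T i j = T j i := by
    have := congrFun (congrFun hT j) i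
    rw [Matrix.transpose_apply] at this
    exact this
  simp only [Matrix.col_apply] at h1
  rw [h3] at h1
  have h4 : (2 : F) * T j i = 0 := by linear_combination h1
  rcases mul_eq_zero.mp h4 with h | h
  · exact absurd h h2
  · rw [h3, h]; rfl

theorem uni_mulVec_single (i0 j : Fin n) (c : Fin n → F) :
    (1 + vecMulVec (Pi.single i0 (1 : F)) c) *ᵥ Pi.single j 1 =
      Pi.single j 1 + c j • Pi.single i0 1 := by
  rw [add_mulVec, one_mulVec, vecMulVec_mulVec, dotProduct_single_one]
  congr 1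
  funext k
  simp [mul_comm]

theorem uni_mul_inv (i0 : Fin n) (c : Fin n → F) (hc : c i0 = 0) :
    (1 + vecMulVec (Pi.single i0 (1 : F)) c) * (1 - vecMulVec (Pi.single i0 (1 : F)) c) = 1 := by
  rw [mul_sub, add_mul, add_mul, Matrix.one_mul, Matrix.mul_one, Matrix.one_mul,
    vecMulVec_mul_vecMulVec, dotProduct_single_one, hc, zero_smul]
  simp

theorem uni_congr_apply (T₀ : Matrix (Fin n) (Fin n) F) (i0 j : Fin n) (c : Fin n → F)
    (hc : c i0 = 0) :
    ((1 + vecMulVec (Pi.single i0 (1 : F)) c : Matrix (Fin n) (Fin n) F)ᵀ * T₀ *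
      (1 + vecMulVec (Pi.single i0 (1 : F)) c : Matrix (Fin n) (Fin n) F)) i0 j
      = T₀ i0 j + c j * T₀ i0 i0 := by
  rw [congr_apply, uni_mulVec_single, uni_mulVec_single, hc, zero_smul, add_zero,
    Matrix.mulVec_add, Matrix.mulVec_smul, dotProduct_add, dotProduct_smul,
    Matrix.mulVec_single_one, Matrix.mulVec_single_one, single_one_dotProduct,
    single_one_dotProduct]
  simp only [Matrix.col_apply, smul_eq_mul]

section Count

variable [Fintype F] [DecidableEq F]

theorem card_quadratic_roots_le (a b c : F) (ha : a ≠ 0) :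
    (Finset.univ.filter fun x : F => a * x ^ 2 + b * x + c = 0).card ≤ 2 := by
  classical
  set p : Polynomial F := Polynomial.C a * Polynomial.X ^ 2 + Polynomial.C b * Polynomial.X +
    Polynomial.C c with hp
  have hdeg : p.natDegree = 2 := Polynomial.natDegree_quadratic ha
  have hp0 : p ≠ 0 := by
    intro h
    rw [h, Polynomial.natDegree_zero] at hdeg
    omega
  have hsub : (Finset.univ.filter fun x : F => a * x ^ 2 + b * x + c = 0) ⊆ p.roots.toFinset := by
    intro x hx
    rw [Finset.mem_filter] at hx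
    rw [Multiset.mem_toFinset, Polynomial.mem_roots hp0, Polynomial.IsRoot.def, hp]
    simp only [Polynomial.eval_add, Polynomial.eval_mul, Polynomial.eval_C, Polynomial.eval_pow,
      Polynomial.eval_X]
    exact hx.2
  calc _ ≤ p.roots.toFinset.card := Finset.card_le_card hsub
    _ ≤ p.roots.card := Multiset.toFinset_card_le _
    _ ≤ p.natDegree := Polynomial.card_roots' p
    _ = 2 := hdeg

/-- the number of solutions of `vᵀ T v = a` when `T₀₀ ≠ 0` -/
theorem card_qf_eq_le (T : Matrix (Fin n) (Fin n) F) (i0 : Fin n)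
    (hT0 : T i0 i0 ≠ 0) (a : F) :
    (Finset.univ.filter fun w : Fin n → F => qf T w = a).card ≤
      2 * (Finset.univ.filter fun c : Fin n → F => c i0 = 0).card := by
  classical
  set s := Finset.univ.filter fun w : Fin n → F => qf T w = a with hs
  set f : (Fin n → F) → (Fin n → F) := fun w => Function.update w i0 0 with hf
  have h1 : s.card ≤ 2 * (s.image f).card := by
    apply Finset.card_le_mul_card_image
    intro c _
    -- the fibre injects into the roots of a quadratic
    set β : F := Pi.single i0 1 ⬝ᵥ (T *ᵥ c) + c ⬝ᵥ (T *ᵥ Pi.single i0 1) with hβ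
    refine le_trans ?_ (card_quadratic_roots_le (T i0 i0) β (qf T c - a) hT0)
    apply Finset.card_le_card_of_injOn (fun w => w i0)
    · intro w hw
      rw [Finset.mem_coe, Finset.mem_filter] at hw
      obtain ⟨hws, hwc⟩ := hw
      rw [hs, Finset.mem_filter] at hws
      rw [Finset.mem_coe, Finset.mem_filter]
      refine ⟨Finset.mem_univ _, ?_⟩
      have hw' : w = c + (w i0) • Pi.single i0 1 := by
        rw [← hwc, hf]
        ext j
        by_cases hj : j = i0
        · subst hj; simp
        · simp [hj]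
      have h2 := hws.2
      rw [hw', qf_add_smul, qf_single] at h2
      linear_combination h2
    · intro w hw w' hw' hww
      rw [Finset.mem_coe, Finset.mem_filter] at hw hw'
      have e1 := hw.2
      have e2 := hw'.2
      ext j
      by_cases hj : j = i0
      · subst hj; exact hww
      · have := congrFun (e1.trans e2.symm) j
        rw [hf] at this
        simpa [hj] using this
  refine le_trans h1 (Nat.mul_le_mul_left 2 (Finset.card_le_card ?_))
  intro c hc
  rw [Finset.mem_image] at hc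
  obtain ⟨w, _, rfl⟩ := hc
  rw [Finset.mem_filter]
  exact ⟨Finset.mem_univ _, by rw [hf]; simp⟩

/-- the main bound -/
theorem orbit_bound (h2 : (2 : F) ≠ 0) (hn : 2 ≤ n) (O : Finset (Matrix (Fin n) (Fin n) F))
    (hsym : ∀ T ∈ O, Tᵀ = T) (hne : ∀ T ∈ O, T ≠ 0)
    (hstab : ∀ T ∈ O, ∀ A B : Matrix (Fin n) (Fin n) F, A * B = 1 → Aᵀ * T * A ∈ O)
    (hO : O.Nonempty) :
    Fintype.card F ^ n ≤ 2 * O.card + 1 := by
  classical
  have i0 : Fin n := ⟨0, by omega⟩
  have he0 : (Pi.single i0 (1 : F) : Fin n → F) ≠ 0 := by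
    intro h
    have := congrFun h i0
    simp at this
  -- every member is congruent to one with non-zero corner
  have key1 : ∀ T ∈ O, ∃ A B : Matrix (Fin n) (Fin n) F, A * B = 1 ∧ B * A = 1 ∧
      (Aᵀ * T * A) i0 i0 ≠ 0 := by
    intro T hT
    obtain ⟨v, hv⟩ := exists_qf_ne_zero h2 T (hsym T hT) (hne T hT)
    have hv0 : v ≠ 0 := by
      rintro rfl
      apply hv
      unfold qf
      rw [zero_dotProduct]
    obtain ⟨A, B, hAB, hBA, hAv⟩ := exists_map hn he0 hv0
    refine ⟨A, B, hAB, hBA, ?_⟩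
    have e1 : (Aᵀ * T * A) i0 i0 = qf (Aᵀ * T * A) (Pi.single i0 1) := (qf_single _ _).symm
    rw [e1, qf_congr, hAv]
    exact hv
  obtain ⟨T₁, hT₁⟩ := hO
  obtain ⟨A₁, B₁, hAB₁, -, ha⟩ := key1 T₁ hT₁
  set T₀ := A₁ᵀ * T₁ * A₁ with hT₀
  have hT₀O : T₀ ∈ O := hstab T₁ hT₁ A₁ B₁ hAB₁
  set a := T₀ i0 i0 with hadef
  set Mset := Finset.univ.filter fun c : Fin n → F => c i0 = 0 with hMset
  have hMpos : 0 < Mset.card := Finset.card_pos.mpr ⟨0, by rw [hMset, Finset.mem_filter]; simp⟩
  -- `N(a) ≥ M`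
  have hNa : Mset.card ≤ (O.filter fun T => T i0 i0 = a).card := by
    apply Finset.card_le_card_of_injOn
      (fun c => (1 + vecMulVec (Pi.single i0 (1 : F)) c)ᵀ * T₀ * (1 + vecMulVec (Pi.single i0 (1 : F)) c))
    · intro c hc
      rw [Finset.mem_coe, hMset, Finset.mem_filter] at hc
      rw [Finset.mem_coe, Finset.mem_filter]
      refine ⟨hstab T₀ hT₀O _ _ (uni_mul_inv i0 c hc.2), ?_⟩
      show ((1 + vecMulVec (Pi.single i0 (1 : F)) c : Matrix (Fin n) (Fin n) F)ᵀ * T₀ *
        (1 + vecMulVec (Pi.single i0 (1 : F)) c : Matrix (Fin n) (Fin n) F)) i0 i0 = a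
      rw [uni_congr_apply _ _ _ _ hc.2, hc.2, zero_mul, add_zero]
    · intro c hc c' hc' hcc
      rw [Finset.mem_coe, hMset, Finset.mem_filter] at hc hc'
      funext j
      have h1 := congrFun (congrFun hcc i0) j
      simp only at h1
      rw [uni_congr_apply _ _ _ _ hc.2, uni_congr_apply _ _ _ _ hc'.2] at h1
      have h3 : c j * a = c' j * a := by
        have : T₀ i0 i0 = a := rfl
        rw [this] at h1
        linear_combination h1
      exact mul_right_cancel₀ ha h3
  -- the double count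
  set NZ := Finset.univ.filter fun v : Fin n → F => v ≠ 0 with hNZ
  have hNZcard : NZ.card + 1 = Fintype.card F ^ n := by
    rw [hNZ, Finset.filter_ne' Finset.univ (0 : Fin n → F), Finset.card_erase_of_mem (Finset.mem_univ _),
      Finset.card_univ, Fintype.card_fun, Fintype.card_fin]
    have : 0 < Fintype.card F ^ n := Nat.pos_of_ne_zero (pow_ne_zero _ Fintype.card_ne_zero)
    omega
  have hdc := Finset.sum_card_bipartiteAbove_eq_sum_card_bipartiteBelow
    (s := NZ) (t := O) (fun (v : Fin n → F) (T : Matrix (Fin n) (Fin n) F) => qf T v = a)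
  -- left side
  have hleft : NZ.card * Mset.card ≤ ∑ v ∈ NZ, (Finset.bipartiteAbove
      (fun (v : Fin n → F) (T : Matrix (Fin n) (Fin n) F) => qf T v = a) O v).card := by
    rw [← smul_eq_mul, ← Finset.sum_const]
    refine Finset.sum_le_sum fun v hv => ?_
    refine le_trans hNa ?_
    rw [hNZ, Finset.mem_filter] at hv
    obtain ⟨A, B, hAB, hBA, hAv⟩ := exists_map hn he0 hv.2
    apply Finset.card_le_card_of_injOn (fun T => Bᵀ * T * B)
    · intro T hT
      rw [Finset.mem_coe, Finset.mem_filter] at hT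
      rw [Finset.mem_coe, Finset.mem_bipartiteAbove]
      refine ⟨hstab T hT.1 B A hBA, ?_⟩
      rw [qf_congr, ← hAv, Matrix.mulVec_mulVec, hBA, Matrix.one_mulVec, qf_single]
      exact hT.2
    · intro T _ T' _ hTT
      simp only at hTT
      have h1 : Aᵀ * (Bᵀ * T * B) * A = Aᵀ * (Bᵀ * T' * B) * A := by rw [hTT]
      have h4 : Aᵀ * Bᵀ = 1 := by rw [← Matrix.transpose_mul, hBA, Matrix.transpose_one]
      have h5 : ∀ X : Matrix (Fin n) (Fin n) F, Aᵀ * (Bᵀ * X * B) * A = X := by
        intro X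
        calc Aᵀ * (Bᵀ * X * B) * A = (Aᵀ * Bᵀ) * X * (B * A) := by
              simp only [Matrix.mul_assoc]
          _ = X := by rw [h4, hBA, Matrix.one_mul, Matrix.mul_one]
      rw [h5, h5] at h1
      exact h1
  -- right side
  have hright : ∑ T ∈ O, (Finset.bipartiteBelow
      (fun (v : Fin n → F) (T : Matrix (Fin n) (Fin n) F) => qf T v = a) NZ T).card ≤
      O.card * (2 * Mset.card) := by
    rw [← smul_eq_mul, ← Finset.sum_const]
    refine Finset.sum_le_sum fun T hT => ?_
    obtain ⟨A, B, hAB, hBA, hA0⟩ := key1 T hT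
    refine le_trans ?_ (card_qf_eq_le (Aᵀ * T * A) i0 hA0 a)
    apply Finset.card_le_card_of_injOn (fun v => B *ᵥ v)
    · intro v hv
      rw [Finset.mem_coe, Finset.mem_bipartiteBelow] at hv
      rw [Finset.mem_coe, Finset.mem_filter]
      refine ⟨Finset.mem_univ _, ?_⟩
      rw [qf_congr, Matrix.mulVec_mulVec, hAB, Matrix.one_mulVec]
      exact hv.2
    · intro v _ v' _ hvv
      simp only at hvv
      have := congrArg (fun w => A *ᵥ w) hvv
      simp only [Matrix.mulVec_mulVec, hAB, Matrix.one_mulVec] at this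
      exact this
  have hfin : NZ.card * Mset.card ≤ O.card * (2 * Mset.card) := by
    refine le_trans hleft ?_
    rw [hdc]
    exact hright
  have hfin' : NZ.card ≤ 2 * O.card := by
    have : NZ.card * Mset.card ≤ (2 * O.card) * Mset.card := by
      calc NZ.card * Mset.card ≤ O.card * (2 * Mset.card) := hfin
        _ = (2 * O.card) * Mset.card := by ring
    exact Nat.le_of_mul_le_mul_right this hMpos
  omega

end Count

end Cfsg.Agent.Lib.Helper81_SymOrbit
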