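import Mathlib
import Cfsg.Agent.Lib.Helper81_Transvection
import Cfsg.Agent.Lib.Helper81_SymOrbit

set_option autoImplicit false

/-!
# Congruence-stable sets of hermitian matrices over a finite field (helper81)

`σ : F →+* F` with `σ x = x ^ q` an involution of the finite field `F`.  If `O` is a non-empty
finite set of non-zero `σ`-hermitian `n × n` matrices, `n ≥ 2`, stable under `T ↦ A^* T A` for
`A` of determinant one, then `|F|^n ≤ (q + 1) |O| + 1` (`orbit_bound`).  The proof is a double
count of pairs `(T, v)` with `v^* T v = a`, as in `Helper81_SymOrbit`.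
-/

namespace Cfsg.Agent.Lib.Helper81_HermOrbit

open Matrix Module Submodule
open Cfsg.Agent.Lib.Helper81_Transvection Cfsg.Agent.Lib.Helper81_SymOrbit

variable {F : Type*} [Field F] {n : ℕ}

/-- conjugate transpose with respect to a ring endomorphism -/
def ct {a b : Type*} (σ : F →+* F) (M : Matrix a b F) : Matrix b a F := (M.map σ)ᵀ

theorem ct_apply {a b : Type*} (σ : F →+* F) (M : Matrix a b F) (i : b) (j : a) :
    ct σ M i j = σ (M j i) := rfl

theorem ct_mul {a b c : Type*} [Fintype b] (σ : F →+* F) (M : Matrix a b F) (N : Matrix b c F) :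
    ct σ (M * N) = ct σ N * ct σ M := by
  unfold ct
  rw [Matrix.map_mul, Matrix.transpose_mul]

theorem ct_add {a b : Type*} (σ : F →+* F) (M N : Matrix a b F) :
    ct σ (M + N) = ct σ M + ct σ N := by
  ext i j
  simp [ct_apply]

theorem ct_sub {a b : Type*} (σ : F →+* F) (M N : Matrix a b F) :
    ct σ (M - N) = ct σ M - ct σ N := by
  ext i j
  simp [ct_apply]

theorem ct_neg {a b : Type*} (σ : F →+* F) (M : Matrix a b F) :
    ct σ (-M) = -ct σ M := by
  ext i j
  simp [ct_apply]

theorem ct_zero {a b : Type*} (σ : F →+* F) : ct σ (0 : Matrix a b F) = 0 := by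
  ext i j
  simp [ct_apply]

theorem ct_one {a : Type*} [DecidableEq a] (σ : F →+* F) : ct σ (1 : Matrix a a F) = 1 := by
  ext i j
  rw [ct_apply, Matrix.one_apply, Matrix.one_apply]
  by_cases h : i = j
  · subst h; simp
  · rw [if_neg h, if_neg (Ne.symm h), map_zero]

theorem ct_smul {a b : Type*} (σ : F →+* F) (c : F) (M : Matrix a b F) :
    ct σ (c • M) = σ c • ct σ M := by
  ext i j
  simp [ct_apply]

theorem ct_ct {a b : Type*} (σ : F →+* F) (hσ : ∀ x, σ (σ x) = x) (M : Matrix a b F) :
    ct σ (ct σ M) = M := by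
  ext i j
  rw [ct_apply, ct_apply, hσ]

theorem ct_mulVec {a b : Type*} [Fintype a] [Fintype b] (σ : F →+* F) (M : Matrix a b F)
    (v : b → F) : (fun i => σ ((M *ᵥ v) i)) = (fun i => σ (v i)) ᵥ* ct σ M := by
  funext i
  rw [RingHom.map_mulVec]
  unfold ct
  rw [Matrix.vecMul_transpose]
  rfl

/-- the hermitian form of a matrix -/
def hf (σ : F →+* F) (T : Matrix (Fin n) (Fin n) F) (v : Fin n → F) : F :=
  (fun i => σ (v i)) ⬝ᵥ (T *ᵥ v)

theorem hf_congr (σ : F →+* F) (T A : Matrix (Fin n) (Fin n) F) (w : Fin n → F) :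
    hf σ (ct σ A * T * A) w = hf σ T (A *ᵥ w) := by
  unfold hf
  rw [← Matrix.mulVec_mulVec, ← Matrix.mulVec_mulVec, Matrix.dotProduct_mulVec, ← ct_mulVec]

theorem hf_single (σ : F →+* F) (T : Matrix (Fin n) (Fin n) F) (i : Fin n) :
    hf σ T (Pi.single i 1) = T i i := by
  unfold hf
  rw [Matrix.mulVec_single_one]
  have : (fun k => σ ((Pi.single i (1 : F) : Fin n → F) k)) = Pi.single i 1 := by
    funext k
    by_cases h : k = i
    · subst h; simp
    · simp [h]
  rw [this, single_one_dotProduct]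
  rfl

theorem congr_apply (σ : F →+* F) (T A : Matrix (Fin n) (Fin n) F) (i j : Fin n) :
    (ct σ A * T * A) i j =
      (fun k => σ ((A *ᵥ Pi.single i 1) k)) ⬝ᵥ (T *ᵥ (A *ᵥ Pi.single j 1)) := by
  rw [Matrix.mulVec_single_one, Matrix.mulVec_single_one]
  simp only [Matrix.mul_apply, ct_apply, dotProduct, Matrix.mulVec, Matrix.col_apply,
    Finset.sum_mul, Finset.mul_sum]
  rw [Finset.sum_comm]
  refine Finset.sum_congr rfl fun k _ => Finset.sum_congr rfl fun l _ => ?_
  ring

/-- `SL_n` is transitive on non-zero vectors: in matrix form, with explicit inverse -/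
theorem exists_map_det (hn : 2 ≤ n) {x y : Fin n → F} (hx : x ≠ 0) (hy : y ≠ 0) :
    ∃ A B : Matrix (Fin n) (Fin n) F, A * B = 1 ∧ B * A = 1 ∧ A.det = 1 ∧ B.det = 1 ∧
      A *ᵥ x = y := by
  have hx' : x ∉ (⊥ : Submodule F (Fin n → F)) := by
    rw [Submodule.mem_bot]; exact hx
  have hy' : y ∉ (⊥ : Submodule F (Fin n → F)) := by
    rw [Submodule.mem_bot]; exact hy
  have hz : ∃ z, z ∉ (⊥ : Submodule F (Fin n → F)) ⊔ span F {x} := by
    by_contra hcon
    push Not at hcon
    have htop : (⊥ : Submodule F (Fin n → F)) ⊔ span F {x} = ⊤ := Submodule.eq_top_iff'.mpr hcon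
    have h1 := finrank_span_le_card (R := F) ({x} : Set (Fin n → F))
    rw [bot_sup_eq] at htop
    rw [htop, finrank_top, Module.finrank_fin_fun] at h1
    simp at h1
    omega
  obtain ⟨g', -, hg'⟩ := exists_sl_map ⊥ hx' hy' hz
  obtain ⟨g, hg⟩ := exists_matrix_sl g'
  refine ⟨g.1, (g⁻¹ : Matrix.SpecialLinearGroup (Fin n) F).1, ?_, ?_, g.2, (g⁻¹).2, ?_⟩
  · rw [← Matrix.SpecialLinearGroup.coe_mul, mul_inv_cancel]; rfl
  · rw [← Matrix.SpecialLinearGroup.coe_mul, inv_mul_cancel]; rfl
  · rw [hg, hg']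

theorem hf_add_smul (σ : F →+* F) (T : Matrix (Fin n) (Fin n) F) (u e : Fin n → F) (x : F) :
    hf σ T (u + x • e) = hf σ T u + x * ((fun i => σ (u i)) ⬝ᵥ (T *ᵥ e)) +
      σ x * ((fun i => σ (e i)) ⬝ᵥ (T *ᵥ u)) + σ x * x * hf σ T e := by
  unfold hf
  have h1 : (fun i => σ ((u + x • e) i)) = (fun i => σ (u i)) + σ x • (fun i => σ (e i)) := by
    funext i
    simp
  rw [h1, Matrix.mulVec_add, Matrix.mulVec_smul, add_dotProduct, dotProduct_add, dotProduct_add,
    smul_dotProduct, smul_dotProduct, dotProduct_smul, dotProduct_smul]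
  simp only [smul_eq_mul]
  ring

/-- a non-zero hermitian matrix has a non-isotropic vector -/
theorem exists_hf_ne_zero (σ : F →+* F) (hb : ∃ b : F, b + σ b ≠ 0)
    (T : Matrix (Fin n) (Fin n) F) (hT : ct σ T = T)
    (hT0 : T ≠ 0) : ∃ v, hf σ T v ≠ 0 := by
  by_contra hcon
  push Not at hcon
  apply hT0
  obtain ⟨b, hb⟩ := hb
  ext i j
  by_contra hij
  rw [Matrix.zero_apply] at hij
  have h1 := hcon (Pi.single i 1 + (b * (T i j)⁻¹) • Pi.single j 1)
  rw [hf_add_smul, hcon, hcon, Matrix.mulVec_single_one, Matrix.mulVec_single_one] at h1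
  have e1 : (fun k => σ ((Pi.single i (1 : F) : Fin n → F) k)) = Pi.single i 1 := by
    funext k
    by_cases h : k = i
    · subst h; simp
    · simp [h]
  have e2 : (fun k => σ ((Pi.single j (1 : F) : Fin n → F) k)) = Pi.single j 1 := by
    funext k
    by_cases h : k = j
    · subst h; simp
    · simp [h]
  rw [e1, e2, single_one_dotProduct, single_one_dotProduct] at h1
  simp only [Matrix.col_apply] at h1
  have h3 : T j i = σ (T i j) := by
    have := congrFun (congrFun hT j) i
    rw [ct_apply] at this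
    exact this.symm
  rw [h3, map_mul, map_inv₀] at h1
  have hs : σ (T i j) ≠ 0 := by
    intro h0
    exact hij ((map_eq_zero σ).mp h0)
  apply hb
  have : b * (T i j)⁻¹ * T i j + σ b * (σ (T i j))⁻¹ * σ (T i j) = 0 := by
    linear_combination h1
  rw [inv_mul_cancel_right₀ hij, inv_mul_cancel_right₀ hs] at this
  exact this

theorem uni_det (i0 : Fin n) (c : Fin n → F) (hc : c i0 = 0) :
    (1 + vecMulVec (Pi.single i0 (1 : F)) c : Matrix (Fin n) (Fin n) F).det = 1 := by
  rw [Matrix.vecMulVec_eq Unit, Matrix.det_one_add_replicateCol_mul_replicateRow,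
    dotProduct_single_one, hc, add_zero]

theorem uni_ct_congr_apply (σ : F →+* F) (T₀ : Matrix (Fin n) (Fin n) F) (i0 j : Fin n)
    (c : Fin n → F) (hc : c i0 = 0) :
    (ct σ (1 + vecMulVec (Pi.single i0 (1 : F)) c : Matrix (Fin n) (Fin n) F) * T₀ *
      (1 + vecMulVec (Pi.single i0 (1 : F)) c : Matrix (Fin n) (Fin n) F)) i0 j
      = T₀ i0 j + c j * T₀ i0 i0 := by
  rw [congr_apply, uni_mulVec_single, uni_mulVec_single, hc, zero_smul, add_zero,
    Matrix.mulVec_add, Matrix.mulVec_smul, dotProduct_add, dotProduct_smul,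
    Matrix.mulVec_single_one, Matrix.mulVec_single_one]
  have e1 : (fun k => σ ((Pi.single i0 (1 : F) : Fin n → F) k)) = Pi.single i0 1 := by
    funext k
    by_cases h : k = i0
    · subst h; simp
    · simp [h]
  rw [e1, single_one_dotProduct, single_one_dotProduct]
  simp only [Matrix.col_apply, smul_eq_mul]

section Count

variable [Fintype F] [DecidableEq F]

theorem card_roots_le (q : ℕ) (a b c d : F) (ha : a ≠ 0) (hq : 2 ≤ q) :
    (Finset.univ.filter fun x : F => a * x ^ (q + 1) + b * x ^ q + c * x + d = 0).card ≤ q + 1 := by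
  classical
  set p : Polynomial F := Polynomial.C a * Polynomial.X ^ (q + 1) +
    Polynomial.C b * Polynomial.X ^ q + Polynomial.C c * Polynomial.X + Polynomial.C d with hp
  have hdeg : p.natDegree = q + 1 := by
    rw [hp]
    have h1 : (Polynomial.C a * Polynomial.X ^ (q + 1)).natDegree = q + 1 :=
      Polynomial.natDegree_C_mul_X_pow _ _ ha
    have h2 : (Polynomial.C b * Polynomial.X ^ q).natDegree ≤ q :=
      Polynomial.natDegree_C_mul_X_pow_le _ _
    have h3 : (Polynomial.C c * Polynomial.X).natDegree ≤ 1 :=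
      le_trans (Polynomial.natDegree_C_mul_le _ _) Polynomial.natDegree_X_le
    have h4 : (Polynomial.C d).natDegree = 0 := Polynomial.natDegree_C _
    have h5 : (Polynomial.C a * Polynomial.X ^ (q + 1) +
        Polynomial.C b * Polynomial.X ^ q).natDegree = q + 1 := by
      rw [Polynomial.natDegree_add_eq_left_of_natDegree_lt]
      · exact h1
      · rw [h1]; omega
    have h6 : (Polynomial.C a * Polynomial.X ^ (q + 1) +
        Polynomial.C b * Polynomial.X ^ q + Polynomial.C c * Polynomial.X).natDegree = q + 1 := by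
      rw [Polynomial.natDegree_add_eq_left_of_natDegree_lt]
      · exact h5
      · rw [h5]; omega
    rw [Polynomial.natDegree_add_eq_left_of_natDegree_lt]
    · exact h6
    · rw [h6, h4]; omega
  have hp0 : p ≠ 0 := by
    intro h
    rw [h, Polynomial.natDegree_zero] at hdeg
    omega
  have hsub : (Finset.univ.filter fun x : F => a * x ^ (q + 1) + b * x ^ q + c * x + d = 0) ⊆
      p.roots.toFinset := by
    intro x hx
    rw [Finset.mem_filter] at hx
    rw [Multiset.mem_toFinset, Polynomial.mem_roots hp0, Polynomial.IsRoot.def, hp]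
    simp only [Polynomial.eval_add, Polynomial.eval_mul, Polynomial.eval_C, Polynomial.eval_pow,
      Polynomial.eval_X]
    exact hx.2
  calc _ ≤ p.roots.toFinset.card := Finset.card_le_card hsub
    _ ≤ p.roots.card := Multiset.toFinset_card_le _
    _ ≤ p.natDegree := Polynomial.card_roots' p
    _ = q + 1 := hdeg

/-- the number of solutions of `v^* T v = a` when `T₀₀ ≠ 0` -/
theorem card_hf_eq_le (σ : F →+* F) (q : ℕ) (hq : 2 ≤ q) (hσ : ∀ x, σ x = x ^ q)
    (T : Matrix (Fin n) (Fin n) F) (i0 : Fin n)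
    (hT0 : T i0 i0 ≠ 0) (a : F) :
    (Finset.univ.filter fun w : Fin n → F => hf σ T w = a).card ≤
      (q + 1) * (Finset.univ.filter fun c : Fin n → F => c i0 = 0).card := by
  classical
  set s := Finset.univ.filter fun w : Fin n → F => hf σ T w = a with hs
  set f : (Fin n → F) → (Fin n → F) := fun w => Function.update w i0 0 with hf'
  have h1 : s.card ≤ (q + 1) * (s.image f).card := by
    apply Finset.card_le_mul_card_image
    intro c _
    -- the fibre injects into the roots of a polynomial of degree `q + 1`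
    refine le_trans ?_ (card_roots_le q (T i0 i0)
      ((fun i => σ ((Pi.single i0 (1 : F) : Fin n → F) i)) ⬝ᵥ (T *ᵥ c))
      ((fun i => σ (c i)) ⬝ᵥ (T *ᵥ Pi.single i0 1)) (hf σ T c - a) hT0 hq)
    apply Finset.card_le_card_of_injOn (fun w => w i0)
    · intro w hw
      rw [Finset.mem_coe, Finset.mem_filter] at hw
      obtain ⟨hws, hwc⟩ := hw
      rw [hs, Finset.mem_filter] at hws
      rw [Finset.mem_coe, Finset.mem_filter]
      refine ⟨Finset.mem_univ _, ?_⟩
      have hw' : w = c + (w i0) • Pi.single i0 1 := by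
        rw [← hwc, hf']
        ext j
        by_cases hj : j = i0
        · subst hj; simp
        · simp [hj]
      have h2 := hws.2
      rw [hw', hf_add_smul, hf_single, hσ (w i0)] at h2
      rw [pow_succ]
      linear_combination h2
    · intro w hw w' hw' hww
      rw [Finset.mem_coe, Finset.mem_filter] at hw hw'
      have e1 := hw.2
      have e2 := hw'.2
      ext j
      by_cases hj : j = i0
      · subst hj; exact hww
      · have := congrFun (e1.trans e2.symm) j
        rw [hf'] at this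
        simpa [hj] using this
  refine le_trans h1 (Nat.mul_le_mul_left (q + 1) (Finset.card_le_card ?_))
  intro c hc
  rw [Finset.mem_image] at hc
  obtain ⟨w, _, rfl⟩ := hc
  rw [Finset.mem_filter]
  exact ⟨Finset.mem_univ _, by rw [hf']; simp⟩

/-- the main bound -/
theorem orbit_bound (σ : F →+* F) (q : ℕ) (hq : 2 ≤ q) (hσ : ∀ x, σ x = x ^ q)
    (hb : ∃ b : F, b + σ b ≠ 0) (hn : 2 ≤ n) (O : Finset (Matrix (Fin n) (Fin n) F))
    (hsym : ∀ T ∈ O, ct σ T = T) (hne : ∀ T ∈ O, T ≠ 0)
    (hstab : ∀ T ∈ O, ∀ A B : Matrix (Fin n) (Fin n) F, A * B = 1 → A.det = 1 →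
      ct σ A * T * A ∈ O)
    (hO : O.Nonempty) :
    Fintype.card F ^ n ≤ (q + 1) * O.card + 1 := by
  classical
  have i0 : Fin n := ⟨0, by omega⟩
  have he0 : (Pi.single i0 (1 : F) : Fin n → F) ≠ 0 := by
    intro h
    have := congrFun h i0
    simp at this
  -- every member is congruent to one with non-zero corner
  have key1 : ∀ T ∈ O, ∃ A B : Matrix (Fin n) (Fin n) F, A * B = 1 ∧ B * A = 1 ∧ A.det = 1 ∧
      B.det = 1 ∧ (ct σ A * T * A) i0 i0 ≠ 0 := by
    intro T hT
    obtain ⟨v, hv⟩ := exists_hf_ne_zero σ hb T (hsym T hT) (hne T hT)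
    have hv0 : v ≠ 0 := by
      rintro rfl
      apply hv
      unfold hf
      rw [Matrix.mulVec_zero, dotProduct_zero]
    obtain ⟨A, B, hAB, hBA, hA1, hB1, hAv⟩ := exists_map_det hn he0 hv0
    refine ⟨A, B, hAB, hBA, hA1, hB1, ?_⟩
    have e1 : (ct σ A * T * A) i0 i0 = hf σ (ct σ A * T * A) (Pi.single i0 1) :=
      (hf_single _ _ _).symm
    rw [e1, hf_congr, hAv]
    exact hv
  obtain ⟨T₁, hT₁⟩ := hO
  obtain ⟨A₁, B₁, hAB₁, -, hA₁det, -, ha⟩ := key1 T₁ hT₁
  set T₀ := ct σ A₁ * T₁ * A₁ with hT₀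
  have hT₀O : T₀ ∈ O := hstab T₁ hT₁ A₁ B₁ hAB₁ hA₁det
  set a := T₀ i0 i0 with hadef
  set Mset := Finset.univ.filter fun c : Fin n → F => c i0 = 0 with hMset
  have hMpos : 0 < Mset.card := Finset.card_pos.mpr ⟨0, by rw [hMset, Finset.mem_filter]; simp⟩
  -- `N(a) ≥ M`
  have hNa : Mset.card ≤ (O.filter fun T => T i0 i0 = a).card := by
    apply Finset.card_le_card_of_injOn
      (fun c => ct σ (1 + vecMulVec (Pi.single i0 (1 : F)) c : Matrix (Fin n) (Fin n) F) * T₀ *
        (1 + vecMulVec (Pi.single i0 (1 : F)) c))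
    · intro c hc
      rw [Finset.mem_coe, hMset, Finset.mem_filter] at hc
      rw [Finset.mem_coe, Finset.mem_filter]
      refine ⟨hstab T₀ hT₀O _ _ (uni_mul_inv i0 c hc.2) (uni_det i0 c hc.2), ?_⟩
      show (ct σ (1 + vecMulVec (Pi.single i0 (1 : F)) c : Matrix (Fin n) (Fin n) F) * T₀ *
        (1 + vecMulVec (Pi.single i0 (1 : F)) c : Matrix (Fin n) (Fin n) F)) i0 i0 = a
      rw [uni_ct_congr_apply _ _ _ _ _ hc.2, hc.2, zero_mul, add_zero]
    · intro c hc c' hc' hcc
      rw [Finset.mem_coe, hMset, Finset.mem_filter] at hc hc'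
      funext j
      have h1 := congrFun (congrFun hcc i0) j
      simp only at h1
      rw [uni_ct_congr_apply _ _ _ _ _ hc.2, uni_ct_congr_apply _ _ _ _ _ hc'.2] at h1
      have h3 : c j * a = c' j * a := by
        have : T₀ i0 i0 = a := rfl
        rw [this] at h1
        linear_combination h1
      exact mul_right_cancel₀ ha h3
  -- the double count
  set NZ := Finset.univ.filter fun v : Fin n → F => v ≠ 0 with hNZ
  have hNZcard : NZ.card + 1 = Fintype.card F ^ n := by
    rw [hNZ, Finset.filter_ne' Finset.univ (0 : Fin n → F), Finset.card_erase_of_mem (Finset.mem_univ _),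
      Finset.card_univ, Fintype.card_fun, Fintype.card_fin]
    have : 0 < Fintype.card F ^ n := Nat.pos_of_ne_zero (pow_ne_zero _ Fintype.card_ne_zero)
    omega
  have hdc := Finset.sum_card_bipartiteAbove_eq_sum_card_bipartiteBelow
    (s := NZ) (t := O) (fun (v : Fin n → F) (T : Matrix (Fin n) (Fin n) F) => hf σ T v = a)
  -- left side
  have hleft : NZ.card * Mset.card ≤ ∑ v ∈ NZ, (Finset.bipartiteAbove
      (fun (v : Fin n → F) (T : Matrix (Fin n) (Fin n) F) => hf σ T v = a) O v).card := by
    rw [← smul_eq_mul, ← Finset.sum_const]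
    refine Finset.sum_le_sum fun v hv => ?_
    refine le_trans hNa ?_
    rw [hNZ, Finset.mem_filter] at hv
    obtain ⟨A, B, hAB, hBA, hA1, hB1, hAv⟩ := exists_map_det hn he0 hv.2
    apply Finset.card_le_card_of_injOn (fun T => ct σ B * T * B)
    · intro T hT
      rw [Finset.mem_coe, Finset.mem_filter] at hT
      rw [Finset.mem_coe, Finset.mem_bipartiteAbove]
      refine ⟨hstab T hT.1 B A hBA hB1, ?_⟩
      rw [hf_congr, ← hAv, Matrix.mulVec_mulVec, hBA, Matrix.one_mulVec, hf_single]
      exact hT.2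
    · intro T _ T' _ hTT
      simp only at hTT
      have h1 : ct σ A * (ct σ B * T * B) * A = ct σ A * (ct σ B * T' * B) * A := by rw [hTT]
      have h4 : ct σ A * ct σ B = 1 := by rw [← ct_mul, hBA, ct_one]
      have h5 : ∀ X : Matrix (Fin n) (Fin n) F, ct σ A * (ct σ B * X * B) * A = X := by
        intro X
        calc ct σ A * (ct σ B * X * B) * A = (ct σ A * ct σ B) * X * (B * A) := by
              simp only [Matrix.mul_assoc]
          _ = X := by rw [h4, hBA, Matrix.one_mul, Matrix.mul_one]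
      rw [h5, h5] at h1
      exact h1
  -- right side
  have hright : ∑ T ∈ O, (Finset.bipartiteBelow
      (fun (v : Fin n → F) (T : Matrix (Fin n) (Fin n) F) => hf σ T v = a) NZ T).card ≤
      O.card * ((q + 1) * Mset.card) := by
    rw [← smul_eq_mul, ← Finset.sum_const]
    refine Finset.sum_le_sum fun T hT => ?_
    obtain ⟨A, B, hAB, hBA, -, -, hA0⟩ := key1 T hT
    refine le_trans ?_ (card_hf_eq_le σ q hq hσ (ct σ A * T * A) i0 hA0 a)
    apply Finset.card_le_card_of_injOn (fun v => B *ᵥ v)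
    · intro v hv
      rw [Finset.mem_coe, Finset.mem_bipartiteBelow] at hv
      rw [Finset.mem_coe, Finset.mem_filter]
      refine ⟨Finset.mem_univ _, ?_⟩
      rw [hf_congr, Matrix.mulVec_mulVec, hAB, Matrix.one_mulVec]
      exact hv.2
    · intro v _ v' _ hvv
      simp only at hvv
      have := congrArg (fun w => A *ᵥ w) hvv
      simp only [Matrix.mulVec_mulVec, hAB, Matrix.one_mulVec] at this
      exact this
  have hfin : NZ.card * Mset.card ≤ O.card * ((q + 1) * Mset.card) := by
    refine le_trans hleft ?_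
    rw [hdc]
    exact hright
  have hfin' : NZ.card ≤ (q + 1) * O.card := by
    have : NZ.card * Mset.card ≤ ((q + 1) * O.card) * Mset.card := by
      calc NZ.card * Mset.card ≤ O.card * ((q + 1) * Mset.card) := hfin
        _ = ((q + 1) * O.card) * Mset.card := by ring
    exact Nat.le_of_mul_le_mul_right this hMpos
  omega

end Count

end Cfsg.Agent.Lib.Helper81_HermOrbit
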