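import Mathlib
import Cfsg.Agent.Lib.Helper3_CharEigen

/-!
# General representation-theoretic lemmas used for minimal degree bounds (helper37)

* `sum_finrank_le_of_iSupIndep` : the dimensions of an independent family of subspaces add up to
  at most the dimension of the ambient space;
* `exists_weight` : a family `A : F → End V` of commuting involutions indexed by an elementary
  abelian `2`-group has a common eigenvector inside any nonzero invariant ... (here: with a
  prescribed eigenvalue `-1` for an element acting nontrivially);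
* `card_le_sum_norm_sq` : `|Q| ≤ ∑ g, ‖χ(g)‖²` for the character of a nonzero complex
  representation of a finite group `Q`;
* `injective_of_irreducible` : an irreducible representation of degree at least two of a simple
  group is faithful.
-/

set_option autoImplicit false

namespace Cfsg.Agent.Lib.Helper37_RepBound

open Module

section Indep

variable {K V : Type*} [Field K] [AddCommGroup V] [Module K V] [FiniteDimensional K V]

theorem finrank_biSup_of_iSupIndep {ι : Type*} [DecidableEq ι] {W : ι → Submodule K V}
    (hW : iSupIndep W) (s : Finset ι) :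
    finrank K (⨆ i ∈ s, W i : Submodule K V) = ∑ i ∈ s, finrank K (W i) := by
  induction s using Finset.induction_on with
  | empty => simp
  | insert a s ha ih =>
    rw [Finset.iSup_insert, Finset.sum_insert ha, ← ih]
    have hd : Disjoint (W a) (⨆ i ∈ s, W i) := hW.disjoint_biSup (y := (s : Set ι)) (by simpa using ha)
    have := Submodule.finrank_sup_add_finrank_inf_eq (W a) (⨆ i ∈ s, W i)
    rw [hd.eq_bot, finrank_bot, add_zero] at this
    exact this

theorem sum_finrank_le_of_iSupIndep {ι : Type*} {W : ι → Submodule K V}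
    (hW : iSupIndep W) (s : Finset ι) :
    ∑ i ∈ s, finrank K (W i) ≤ finrank K V := by
  classical
  rw [← finrank_biSup_of_iSupIndep hW s]
  exact Submodule.finrank_le _

end Indep

section Weight

variable {F : Type*} [AddCommGroup F] {V : Type*} [AddCommGroup V] [Module ℂ V]

/-- common eigenvector, inside a nonzero invariant subspace, for a finite set of commuting
involutions -/
theorem exists_common_eigenvector_in (A : F → Module.End ℂ V)
    (hA : ∀ c d, A (c + d) = A c * A d) (hA0 : A 0 = 1) (h2 : ∀ c : F, c + c = 0)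
    (E : Submodule ℂ V) (hE : ∀ c, ∀ v ∈ E, A c v ∈ E) (hne : E ≠ ⊥) (T : Finset F) :
    ∃ v ∈ E, v ≠ 0 ∧ ∀ c ∈ T, A c v = v ∨ A c v = -v := by
  classical
  induction T using Finset.induction_on with
  | empty =>
    obtain ⟨v, hvE, hv⟩ := Submodule.exists_mem_ne_zero_of_ne_bot hne
    exact ⟨v, hvE, hv, by simp⟩
  | insert s T hs ih =>
    obtain ⟨v, hvE, hv, hT⟩ := ih
    have hss : ∀ x : V, A s (A s x) = x := by
      intro x
      have : A s * A s = 1 := by rw [← hA, h2, hA0]
      calc A s (A s x) = (A s * A s) x := rfl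
        _ = x := by rw [this]; rfl
    by_cases h0 : v + A s v = 0
    · refine ⟨v, hvE, hv, ?_⟩
      intro g hg
      rcases Finset.mem_insert.mp hg with rfl | hg
      · right
        exact eq_neg_of_add_eq_zero_right h0
      · exact hT g hg
    · refine ⟨v + A s v, E.add_mem hvE (hE s v hvE), h0, ?_⟩
      intro g hg
      rcases Finset.mem_insert.mp hg with rfl | hg
      · left
        rw [map_add, hss, add_comm]
      · have hc : A g (A s v) = A s (A g v) := by
          have : A g * A s = A s * A g := by rw [← hA, ← hA, add_comm]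
          calc A g (A s v) = (A g * A s) v := rfl
            _ = (A s * A g) v := by rw [this]
            _ = A s (A g v) := rfl
        rcases hT g hg with h | h
        · left
          rw [map_add, hc, h]
        · right
          rw [map_add, hc, h, map_neg, neg_add]

/-- a weight (simultaneous eigen-character) of a family of commuting involutions, nontrivial on a
prescribed element acting nontrivially -/
theorem exists_weight [Finite F] (A : F → Module.End ℂ V)
    (hA : ∀ c d, A (c + d) = A c * A d) (hA0 : A 0 = 1) (h2 : ∀ c : F, c + c = 0)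
    (c₀ : F) (hc₀ : A c₀ ≠ 1) :
    ∃ (lam : F → ℂ) (v : V), v ≠ 0 ∧ (∀ c, A c v = lam c • v) ∧ (∀ c, lam c = 1 ∨ lam c = -1) ∧
      (∀ c d, lam (c + d) = lam c * lam d) ∧ lam c₀ = -1 := by
  classical
  have := Fintype.ofFinite F
  -- the (-1)-eigenspace of `A c₀`
  have hss : ∀ x : V, A c₀ (A c₀ x) = x := by
    intro x
    have : A c₀ * A c₀ = 1 := by rw [← hA, h2, hA0]
    calc A c₀ (A c₀ x) = (A c₀ * A c₀) x := rfl
      _ = x := by rw [this]; rfl
  have hcomm : ∀ c d, A c * A d = A d * A c := fun c d => by rw [← hA, ← hA, add_comm]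
  let E : Submodule ℂ V := LinearMap.ker (A c₀ + 1)
  have hEmem : ∀ v, v ∈ E ↔ A c₀ v = -v := by
    intro v
    show (A c₀ + 1) v = 0 ↔ _
    rw [LinearMap.add_apply, Module.End.one_apply, add_eq_zero_iff_eq_neg]
  have hE : ∀ c, ∀ v ∈ E, A c v ∈ E := by
    intro c v hv
    rw [hEmem] at hv ⊢
    calc A c₀ (A c v) = (A c₀ * A c) v := rfl
      _ = (A c * A c₀) v := by rw [hcomm]
      _ = A c (A c₀ v) := rfl
      _ = -A c v := by rw [hv, map_neg]
  have hne : E ≠ ⊥ := by
    obtain ⟨x, hx⟩ : ∃ x, A c₀ x ≠ x := by
      by_contra hcon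
      push Not at hcon
      exact hc₀ (LinearMap.ext hcon)
    intro hbot
    have hmem : x - A c₀ x ∈ E := by
      rw [hEmem, map_sub, hss]; abel
    rw [hbot, Submodule.mem_bot, sub_eq_zero] at hmem
    exact hx hmem.symm
  obtain ⟨v, hvE, hv, hT⟩ := exists_common_eigenvector_in A hA hA0 h2 E hE hne Finset.univ
  replace hT : ∀ c, A c v = v ∨ A c v = -v := fun c => hT c (Finset.mem_univ c)
  refine ⟨fun c => if A c v = v then 1 else -1, v, hv, ?_, ?_, ?_, ?_⟩
  · intro c
    by_cases h : A c v = v
    · simp [h]
    · rcases hT c with h' | h'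
      · exact absurd h' h
      · simp [h']
  · intro c
    by_cases h : A c v = v
    · left; simp [h]
    · right; simp [h]
  · intro c d
    have hne : (v : V) ≠ -v := by
      intro h
      have : (2 : ℂ) • v = 0 := by rw [two_smul]; nth_rewrite 1 [h]; simp
      rcases smul_eq_zero.1 this with h | h
      · norm_num at h
      · exact hv h
    have hcd : A (c + d) v = A c (A d v) := by rw [hA]; rfl
    rcases hT c with hc | hc <;> rcases hT d with hd | hd
    · have : A (c + d) v = v := by rw [hcd, hd, hc]
      simp [hc, hd, this]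
    · have : A (c + d) v = -v := by rw [hcd, hd, map_neg, hc]
      have h1 : A (c + d) v ≠ v := by rw [this]; exact fun h => hne h.symm
      have h2 : A d v ≠ v := by rw [hd]; exact fun h => hne h.symm
      simp [hc, h1, h2]
    · have : A (c + d) v = -v := by rw [hcd, hd, hc]
      have h1 : A (c + d) v ≠ v := by rw [this]; exact fun h => hne h.symm
      have h2 : A c v ≠ v := by rw [hc]; exact fun h => hne h.symm
      simp [hd, h1, h2]
    · have : A (c + d) v = v := by rw [hcd, hd, map_neg, hc, neg_neg]
      have h1 : A c v ≠ v := by rw [hc]; exact fun h => hne h.symm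
      have h2 : A d v ≠ v := by rw [hd]; exact fun h => hne h.symm
      simp [this, h1, h2]
  · have h1 : A c₀ v = -v := (hEmem v).1 hvE
    have hne : (v : V) ≠ -v := by
      intro h
      have : (2 : ℂ) • v = 0 := by rw [two_smul]; nth_rewrite 1 [h]; simp
      rcases smul_eq_zero.1 this with h | h
      · norm_num at h
      · exact hv h
    have h2 : A c₀ v ≠ v := by rw [h1]; exact fun h => hne h.symm
    simp [h2]

end Weight

section WeightSpace

variable {ι : Type*} {V : Type*} [AddCommGroup V] [Module ℂ V]

/-- the joint eigenspace of a family of operators -/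
def wt (A : ι → Module.End ℂ V) (lam : ι → ℂ) : Submodule ℂ V :=
  ⨅ c, Module.End.eigenspace (A c) (lam c)

theorem mem_wt {A : ι → Module.End ℂ V} {lam : ι → ℂ} {v : V} :
    v ∈ wt A lam ↔ ∀ c, A c v = lam c • v := by
  simp [wt, Submodule.mem_iInf]

theorem wt_indep (A : ι → Module.End ℂ V) (hcomm : ∀ c d, Commute (A c) (A d)) :
    iSupIndep (wt A) := by
  have h : iSupIndep fun χ : ι → ℂ ↦ ⨅ i, (A i).maxGenEigenspace (χ i) :=
    Module.End.independent_iInf_maxGenEigenspace_of_forall_mapsTo A
    (fun i j φ => Module.End.mapsTo_maxGenEigenspace_of_comm (hcomm j i) φ)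
  have hle : wt A ≤ fun χ : ι → ℂ ↦ ⨅ i, (A i).maxGenEigenspace (χ i) := by
    intro lam
    apply iInf_mono
    intro c
    exact Module.End.eigenspace_le_maxGenEigenspace
  exact h.mono hle

end WeightSpace

section Trace

open scoped ComplexConjugate

variable {Q : Type*} [Group Q] [Fintype Q] {W : Type*} [AddCommGroup W] [Module ℂ W]
  [FiniteDimensional ℂ W]

/-- `|Q| ≤ ∑ g, χ(g) χ(g⁻¹)` (as a real part) for a nonzero representation: the identity is an
intertwiner. Stated with the product of character values. -/
theorem card_le_sum_char_mul_inv [Nontrivial W] (τ : Representation ℂ Q W) :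
    ∃ n : ℕ, 1 ≤ n ∧ ∑ g : Q, τ.character g * τ.character g⁻¹ = (Fintype.card Q : ℂ) * n := by
  have hcard : (Nat.card Q : ℂ) ≠ 0 := by
    rw [Nat.card_eq_fintype_card]
    exact_mod_cast Fintype.card_ne_zero
  let _ : Invertible (Nat.card Q : ℂ) := invertibleOfNonzero hcard
  have h := Representation.card_inv_mul_sum_char_mul_char_eq_finrank τ τ
  refine ⟨finrank ℂ (Representation.IntertwiningMap τ τ), ?_, ?_⟩
  · -- the identity is a nonzero intertwiner
    have : Nontrivial (Representation.IntertwiningMap τ τ) := by
      refine ⟨⟨Representation.IntertwiningMap.id τ, 0, fun h => ?_⟩⟩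
      obtain ⟨w, hw⟩ := exists_ne (0 : W)
      have := congrArg (fun f : Representation.IntertwiningMap τ τ => f w) h
      simp only [Representation.IntertwiningMap.id_apply,
        Representation.IntertwiningMap.coe_zero, Pi.zero_apply] at this
      exact hw this
    exact Module.finrank_pos
  · rw [← h, ← mul_assoc, Nat.card_eq_fintype_card, mul_inv_cancel₀, one_mul]
    rw [Nat.card_eq_fintype_card] at hcard
    exact hcard

/-- `|Q| ≤ ∑ g, ‖χ(g)‖²` for the character of a nonzero complex representation -/
theorem card_le_sum_norm_sq [Nontrivial W] (τ : Representation ℂ Q W) :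
    (Fintype.card Q : ℝ) ≤ ∑ g : Q, ‖τ.character g‖ ^ 2 := by
  obtain ⟨n, hn, h⟩ := card_le_sum_char_mul_inv τ
  have h1 : ∀ g : Q, τ.character g * τ.character g⁻¹ = ((‖τ.character g‖ ^ 2 : ℝ) : ℂ) := by
    intro g
    rw [Cfsg.Agent.Lib.Helper3_CharEigen.char_inv, Complex.mul_conj, Complex.normSq_eq_norm_sq]
  simp_rw [h1] at h
  have h2 : ((∑ g : Q, ‖τ.character g‖ ^ 2 : ℝ) : ℂ) = (((Fintype.card Q : ℝ) * n : ℝ) : ℂ) := by
    rw [Complex.ofReal_sum, h]
    push_cast
    rfl
  have h3 : ∑ g : Q, ‖τ.character g‖ ^ 2 = (Fintype.card Q : ℝ) * n := Complex.ofReal_injective h2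
  rw [h3]
  have : (1 : ℝ) ≤ n := by exact_mod_cast hn
  nlinarith [(Nat.cast_nonneg (Fintype.card Q) : (0 : ℝ) ≤ Fintype.card Q)]

/-- if the character of a nonzero representation is supported on a set `s`, then
`|Q| ≤ |s| (dim W)²` -/
theorem card_le_of_support [Nontrivial W] (τ : Representation ℂ Q W) (s : Finset Q)
    (hs : ∀ g, g ∉ s → τ.character g = 0) :
    (Fintype.card Q : ℝ) ≤ s.card * (finrank ℂ W : ℝ) ^ 2 := by
  refine (card_le_sum_norm_sq τ).trans ?_
  have h1 : ∑ g : Q, ‖τ.character g‖ ^ 2 = ∑ g ∈ s, ‖τ.character g‖ ^ 2 := by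
    symm
    apply Finset.sum_subset (Finset.subset_univ s)
    intro g _ hg
    rw [hs g hg, norm_zero]; ring
  rw [h1]
  calc ∑ g ∈ s, ‖τ.character g‖ ^ 2 ≤ ∑ _g ∈ s, (finrank ℂ W : ℝ) ^ 2 := by
        apply Finset.sum_le_sum
        intro g _
        have := Cfsg.Agent.Lib.Helper3_CharEigen.norm_char_le τ g
        have h0 := norm_nonneg (τ.character g)
        nlinarith
    _ = s.card * (finrank ℂ W : ℝ) ^ 2 := by rw [Finset.sum_const, nsmul_eq_mul]

end Trace

section Faithful

/-- an irreducible representation of degree at least two of a simple group is faithful -/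
theorem injective_of_irreducible {G : Type*} [Group G] [IsSimpleGroup G] {k : ℕ} (hk : 2 ≤ k)
    (ρ : Representation ℂ G (Fin k → ℂ)) (hρ : ρ.IsIrreducible) : Function.Injective ρ := by
  rcases (MonoidHom.normal_ker ρ).eq_bot_or_eq_top with h | h
  · exact (MonoidHom.ker_eq_bot_iff ρ).1 h
  · exfalso
    have h1 : ∀ g, ρ g = 1 := fun g => by
      have : g ∈ MonoidHom.ker ρ := by rw [h]; trivial
      exact this
    let i0 : Fin k := ⟨0, by omega⟩
    let i1 : Fin k := ⟨1, by omega⟩
    let e0 : Fin k → ℂ := Pi.single i0 1
    let L : Subrepresentation ρ :=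
      { toSubmodule := Submodule.span ℂ {e0}
        apply_mem_toSubmodule := by
          intro g v hv
          rw [h1 g]
          exact hv }
    rcases hρ.eq_bot_or_eq_top L with hL | hL
    · have hmem : e0 ∈ L.toSubmodule := Submodule.mem_span_singleton_self e0
      rw [hL] at hmem
      have h0 : e0 = 0 := hmem
      have := congrFun h0 i0
      simp [e0] at this
    · have hmem : (Pi.single i1 1 : Fin k → ℂ) ∈ L.toSubmodule := by
        rw [hL]; trivial
      obtain ⟨c, hc⟩ := Submodule.mem_span_singleton.1 hmem
      have := congrFun hc i1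
      have hne : i1 ≠ i0 := by
        intro h
        have := congrArg Fin.val h
        simp [i0, i1] at this
      simp [e0, hne] at this

end Faithful

end Cfsg.Agent.Lib.Helper37_RepBound
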