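import Mathlib
import Cfsg.Agent.Lib.Helper37_RepBound

set_option autoImplicit false
set_option linter.unusedSectionVars false

/-!
# Joint eigenspaces of a commuting family of endomorphisms of finite order (helper81)

Over an algebraically closed field `K`, a commuting family `A i` of endomorphisms of a
finite-dimensional space with `(A i) ^ p = 1`, `p` invertible in `K`, is simultaneously
diagonalisable: the joint eigenspaces `E χ = ⨅ i, eigenspace (A i) (χ i)` are independent and span.
-/

namespace Cfsg.Agent.Lib.Helper81_JointEigen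

open Module Module.End Polynomial

variable {K M : Type*} [Field K] [AddCommGroup M] [Module K M] [FiniteDimensional K M]

/-- the joint eigenspace of a family of endomorphisms for a family of eigenvalues -/
def jointEigenspace {ι : Type*} (A : ι → End K M) (χ : ι → K) : Submodule K M :=
  ⨅ i, (A i).eigenspace (χ i)

theorem mem_jointEigenspace {ι : Type*} (A : ι → End K M) (χ : ι → K) (x : M) :
    x ∈ jointEigenspace A χ ↔ ∀ i, A i x = χ i • x := by
  unfold jointEigenspace
  rw [Submodule.mem_iInf]
  exact forall_congr' fun i => mem_eigenspace_iff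

theorem isSemisimple_of_pow_eq_one {p : ℕ} (hp : (p : K) ≠ 0) (T : End K M) (hT : T ^ p = 1) :
    T.IsSemisimple := by
  have hsep : (X ^ p - C (1 : K)).Separable := separable_X_pow_sub_C (1 : K) hp one_ne_zero
  refine isSemisimple_of_squarefree_aeval_eq_zero hsep.squarefree ?_
  simp [hT]

theorem maxGenEigenspace_eq {p : ℕ} (hp : (p : K) ≠ 0) (T : End K M) (hT : T ^ p = 1) (μ : K) :
    T.maxGenEigenspace μ = T.eigenspace μ :=
  (isSemisimple_of_pow_eq_one hp T hT).isFinitelySemisimple.maxGenEigenspace_eq_eigenspace μ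

theorem jointEigenspace_eq {ι : Type*} {p : ℕ} (hp : (p : K) ≠ 0) (A : ι → End K M)
    (hA : ∀ i, A i ^ p = 1) (χ : ι → K) :
    jointEigenspace A χ = ⨅ i, (A i).maxGenEigenspace (χ i) := by
  unfold jointEigenspace
  exact iInf_congr fun i => (maxGenEigenspace_eq hp (A i) (hA i) (χ i)).symm

theorem iSupIndep_jointEigenspace {ι : Type*} {p : ℕ} (hp : (p : K) ≠ 0) (A : ι → End K M)
    (hA : ∀ i, A i ^ p = 1) (hcomm : ∀ i j, Commute (A i) (A j)) :
    iSupIndep (jointEigenspace A) := by
  have h := independent_iInf_maxGenEigenspace_of_forall_mapsTo A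
    (fun i j φ => mapsTo_maxGenEigenspace_of_comm (hcomm j i) φ)
  have : jointEigenspace A = fun χ : ι → K => ⨅ i, (A i).maxGenEigenspace (χ i) :=
    funext fun χ => jointEigenspace_eq hp A hA χ
  rw [this]
  exact h

theorem iSup_jointEigenspace [IsAlgClosed K] {ι : Type*} {p : ℕ} (hp : (p : K) ≠ 0)
    (A : ι → End K M) (hA : ∀ i, A i ^ p = 1) (hcomm : ∀ i j, Commute (A i) (A j)) :
    ⨆ χ : ι → K, jointEigenspace A χ = ⊤ := by
  have h := iSup_iInf_maxGenEigenspace_eq_top_of_forall_mapsTo A
    (fun i j φ => mapsTo_maxGenEigenspace_of_comm (hcomm j i) φ)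
    (fun i => iSup_maxGenEigenspace_eq_top (A i))
  have : jointEigenspace A = fun χ : ι → K => ⨅ i, (A i).maxGenEigenspace (χ i) :=
    funext fun χ => jointEigenspace_eq hp A hA χ
  rw [this]
  exact h

/-- the number of distinct weights with non-zero joint eigenspace is at most the dimension -/
theorem card_le_finrank {ι : Type*} {p : ℕ} (hp : (p : K) ≠ 0) (A : ι → End K M)
    (hA : ∀ i, A i ^ p = 1) (hcomm : ∀ i j, Commute (A i) (A j))
    {Y : Type*} [Fintype Y] (w : Y → ι → K) (hw : Function.Injective w)
    (hne : ∀ y, jointEigenspace A (w y) ≠ ⊥) :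
    Fintype.card Y ≤ finrank K M := by
  classical
  have hind := iSupIndep_jointEigenspace hp A hA hcomm
  have hind' : iSupIndep fun y : Y => jointEigenspace A (w y) := hind.comp hw
  have h1 : ∀ y, 1 ≤ finrank K (jointEigenspace A (w y)) := fun y =>
    Nat.one_le_iff_ne_zero.mpr fun h0 => hne y (Submodule.finrank_eq_zero.mp h0)
  have h2 : ∑ y : Y, finrank K (jointEigenspace A (w y)) ≤ finrank K M :=
    Cfsg.Agent.Lib.Helper37_RepBound.sum_finrank_le_of_iSupIndep hind' Finset.univ
  calc Fintype.card Y = ∑ _y : Y, 1 := by simp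
    _ ≤ ∑ y : Y, finrank K (jointEigenspace A (w y)) := Finset.sum_le_sum fun y _ => h1 y
    _ ≤ finrank K M := h2

end Cfsg.Agent.Lib.Helper81_JointEigen
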