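import Mathlib
import Cfsg.Agent.Lib.Helper81_JointEigen
import Cfsg.Agent.Lib.Helper81_HermOrbit

set_option autoImplicit false

/-!
# Weights of a Siegel-type unipotent radical parametrised by hermitian matrices (helper81)

`SiegelData G σ m`: a group `G` with elements `xs H` (`H` a `σ`-hermitian `m × m` matrix,
additive in `H`) and `ls A B` (`A B = 1`, `det A = 1`) with `ls A · xs H = xs (A H A^*) · ls A`.
`core_herm`: a representation of `G` over an algebraically closed field of characteristic prime
to `p` which is non-trivial on some `xs H` has dimension at least `(|F|^m - 1)/(q + 1)`.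
-/

namespace Cfsg.Agent.Lib.Helper81_HermWeights

open Matrix Module
open Cfsg.Agent.Lib.Helper81_JointEigen Cfsg.Agent.Lib.Helper81_HermOrbit

section Bichar

variable {W W' K : Type*} [AddCommGroup W] [AddCommGroup W'] [Field K]

omit [AddCommGroup W] in
theorem bichar_injective (β : W → W' → K) (hβ0' : ∀ f, β f 0 = 1)
    (hβadd' : ∀ f y y', β f (y + y') = β f y * β f y')
    (hβnd : ∀ y, y ≠ 0 → ∃ f, β f y ≠ 1) :
    Function.Injective (fun (y : W') (f : W) => β f y) := by
  intro y y' h
  by_contra hne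
  obtain ⟨f, hf⟩ := hβnd _ (sub_ne_zero.mpr hne)
  apply hf
  have h1 : β f y' * β f (-y') = 1 := by rw [← hβadd', add_neg_cancel, hβ0']
  have h2 : β f y = β f y' := congrFun h f
  rw [sub_eq_add_neg, hβadd', h2, h1]

/-- every additive character of `W` comes from the pairing -/
theorem exists_eq_bichar [Finite W] [Finite W'] (β : W → W' → K) (hβ0 : ∀ y, β 0 y = 1)
    (hβ0' : ∀ f, β f 0 = 1)
    (hβadd : ∀ f f' y, β (f + f') y = β f y * β f' y)
    (hβadd' : ∀ f y y', β f (y + y') = β f y * β f y')
    (hβnd : ∀ y, y ≠ 0 → ∃ f, β f y ≠ 1)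
    (hcard : Nat.card W ≤ Nat.card W')
    (χ : W → K) (hχ0 : χ 0 = 1) (hχadd : ∀ f f', χ (f + f') = χ f * χ f') :
    ∃ y : W', ∀ f, χ f = β f y := by
  classical
  by_contra hcon
  push Not at hcon
  have : Fintype W := Fintype.ofFinite W
  have : Fintype W' := Fintype.ofFinite W'
  let χh : Multiplicative W →* K :=
    { toFun := fun f => χ (Multiplicative.toAdd f)
      map_one' := hχ0
      map_mul' := fun f f' => hχadd _ _ }
  let Φ : W' → (Multiplicative W →* K) := fun y =>
    { toFun := fun f => β (Multiplicative.toAdd f) y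
      map_one' := hβ0 y
      map_mul' := fun f f' => hβadd _ _ y }
  let Ψ : Option W' → (Multiplicative W →* K) := fun o =>
    match o with
    | none => χh
    | some y => Φ y
  have hΦinj : Function.Injective Φ := by
    intro y y' h
    apply bichar_injective β hβ0' hβadd' hβnd
    funext f
    exact DFunLike.congr_fun h (Multiplicative.ofAdd f)
  have hΨinj : Function.Injective Ψ := by
    intro o o' h
    cases o with
    | none =>
      cases o' with
      | none => rfl
      | some y' =>
        exfalso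
        obtain ⟨f, hf⟩ := hcon y'
        exact hf (DFunLike.congr_fun h (Multiplicative.ofAdd f))
    | some y =>
      cases o' with
      | none =>
        exfalso
        obtain ⟨f, hf⟩ := hcon y
        exact hf (DFunLike.congr_fun h (Multiplicative.ofAdd f)).symm
      | some y' => rw [hΦinj h]
  have hli := (linearIndependent_monoidHom (Multiplicative W) K).comp Ψ hΨinj
  have hle := hli.fintype_card_le_finrank
  rw [Fintype.card_option, Module.finrank_fintype_fun_eq_card] at hle
  rw [Nat.card_eq_fintype_card, Nat.card_eq_fintype_card] at hcard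
  have : Fintype.card (Multiplicative W) = Fintype.card W := Fintype.card_congr Multiplicative.toAdd
  omega

end Bichar

variable {F : Type*} [Field F] {m : ℕ}

/-- hermitian matrices as an additive subgroup -/
def hermAdd (σ : F →+* F) (m : ℕ) : AddSubgroup (Matrix (Fin m) (Fin m) F) where
  carrier := {H | ct σ H = H}
  add_mem' := fun {a b} ha hb => by
    show ct σ (a + b) = a + b
    rw [ct_add, ha, hb]
  zero_mem' := ct_zero σ
  neg_mem' := fun {a} ha => by
    show ct σ (-a) = -a
    rw [ct_neg, ha]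

theorem mem_hermAdd {σ : F →+* F} {H : Matrix (Fin m) (Fin m) F} :
    H ∈ hermAdd σ m ↔ ct σ H = H := Iff.rfl

theorem herm_apply {σ : F →+* F} (H : hermAdd σ m) (i j : Fin m) : σ (H.1 i j) = H.1 j i := by
  have := congrFun (congrFun (mem_hermAdd.mp H.2) j) i
  rw [ct_apply] at this
  exact this

theorem trace_fixed {σ : F →+* F} (H T : hermAdd σ m) :
    σ (Matrix.trace (H.1 * T.1)) = Matrix.trace (H.1 * T.1) := by
  rw [Matrix.trace_mul_comm H.1 T.1]
  simp only [Matrix.trace, Matrix.diag_apply, Matrix.mul_apply, map_sum, map_mul, herm_apply]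
  rw [Finset.sum_comm]

/-- `tr(H T) • H₁` as a hermitian matrix -/
def trS {σ : F →+* F} (H T H₁ : hermAdd σ m) : hermAdd σ m :=
  ⟨Matrix.trace (H.1 * T.1) • H₁.1, by
    show ct σ (Matrix.trace (H.1 * T.1) • H₁.1) = _
    rw [ct_smul, trace_fixed, mem_hermAdd.mp H₁.2]⟩

theorem trS_add_left {σ : F →+* F} (H H' T H₁ : hermAdd σ m) :
    trS (H + H') T H₁ = trS H T H₁ + trS H' T H₁ := by
  apply Subtype.ext
  show Matrix.trace ((H.1 + H'.1) * T.1) • H₁.1 = _ • H₁.1 + _ • H₁.1
  rw [Matrix.add_mul, Matrix.trace_add, add_smul]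

theorem trS_add_right {σ : F →+* F} (H T T' H₁ : hermAdd σ m) :
    trS H (T + T') H₁ = trS H T H₁ + trS H T' H₁ := by
  apply Subtype.ext
  show Matrix.trace (H.1 * (T.1 + T'.1)) • H₁.1 = _ • H₁.1 + _ • H₁.1
  rw [Matrix.mul_add, Matrix.trace_add, add_smul]

theorem trS_zero_left {σ : F →+* F} (T H₁ : hermAdd σ m) : trS 0 T H₁ = 0 := by
  apply Subtype.ext
  show Matrix.trace ((0 : Matrix (Fin m) (Fin m) F) * T.1) • H₁.1 = 0
  rw [Matrix.zero_mul, Matrix.trace_zero, zero_smul]

theorem trS_zero_right {σ : F →+* F} (H H₁ : hermAdd σ m) : trS H 0 H₁ = 0 := by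
  apply Subtype.ext
  show Matrix.trace (H.1 * (0 : Matrix (Fin m) (Fin m) F)) • H₁.1 = 0
  rw [Matrix.mul_zero, Matrix.trace_zero, zero_smul]

/-- the trace pairing on hermitian matrices is non-degenerate -/
theorem exists_trace_eq_one {σ : F →+* F} (hσ : ∀ x, σ (σ x) = x) (hθ : ∃ θ : F, θ + σ θ = 1)
    (T : hermAdd σ m) (hT : T ≠ 0) : ∃ H : hermAdd σ m, Matrix.trace (H.1 * T.1) = 1 := by
  classical
  have : ∃ i j, T.1 i j ≠ 0 := by
    by_contra hcon
    push Not at hcon
    apply hT
    apply Subtype.ext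
    ext i j
    exact hcon i j
  obtain ⟨i, j, hij⟩ := this
  obtain ⟨θ, hθ⟩ := hθ
  have hji : T.1 j i ≠ 0 := by
    rw [← herm_apply T i j]
    intro h0
    exact hij ((map_eq_zero σ).mp h0)
  set x : F := θ * (T.1 j i)⁻¹ with hx
  refine ⟨⟨Matrix.single i j x + Matrix.single j i (σ x), ?_⟩, ?_⟩
  · show ct σ (Matrix.single i j x + Matrix.single j i (σ x)) = _
    ext a b
    rw [ct_apply, Matrix.add_apply, Matrix.add_apply, map_add, Matrix.single_apply,
      Matrix.single_apply, Matrix.single_apply, Matrix.single_apply, apply_ite σ, apply_ite σ,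
      map_zero, hσ, add_comm]
    congr 1 <;> simp only [and_comm]
  · show Matrix.trace ((Matrix.single i j x + Matrix.single j i (σ x)) * T.1) = 1
    rw [Matrix.add_mul, Matrix.trace_add, Matrix.trace_single_mul, Matrix.trace_single_mul,
      smul_eq_mul, smul_eq_mul, ← herm_apply T j i, hx, map_mul, map_inv₀,
      inv_mul_cancel_right₀ hji,
      inv_mul_cancel_right₀ (fun h0 => hji ((map_eq_zero σ).mp h0))]
    exact hθ

/-- abstract Siegel parabolic data in a group -/
structure SiegelData (G : Type*) [Group G] (σ : F →+* F) (m : ℕ) where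
  /-- the unipotent radical -/
  xs : hermAdd σ m → G
  xs_add : ∀ H H', xs (H + H') = xs H * xs H'
  /-- the Levi elements -/
  ls : ∀ A B : Matrix (Fin m) (Fin m) F, A * B = 1 → A.det = 1 → G
  ls_mul_xs : ∀ (A B : Matrix (Fin m) (Fin m) F) (h : A * B = 1) (hd : A.det = 1)
    (H H' : hermAdd σ m), H'.1 = A * H.1 * ct σ A → ls A B h hd * xs H = xs H' * ls A B h hd

namespace SiegelData

variable {G : Type*} [Group G] {σ : F →+* F} (D : SiegelData G σ m)

theorem xs_zero : D.xs 0 = 1 := by
  have := D.xs_add 0 0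
  rw [add_zero] at this
  exact (mul_eq_left.mp this.symm)

theorem xs_pow (H : hermAdd σ m) (k : ℕ) : D.xs H ^ k = D.xs (k • H) := by
  induction k with
  | zero => rw [pow_zero, zero_smul, D.xs_zero]
  | succ k ih => rw [pow_succ, ih, succ_nsmul, D.xs_add]

theorem xs_comm (H H' : hermAdd σ m) : Commute (D.xs H) (D.xs H') := by
  show D.xs H * D.xs H' = D.xs H' * D.xs H
  rw [← D.xs_add, ← D.xs_add, add_comm]

end SiegelData

section Main

variable [Fintype F] [DecidableEq F]
variable {K : Type*} [Field K] [IsAlgClosed K] {M : Type*} [AddCommGroup M] [Module K M]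
  [FiniteDimensional K M]
variable {G : Type*} [Group G]

set_option maxHeartbeats 1600000 in
/-- the Landazuri–Seitz bound from a Siegel parabolic with hermitian radical -/
theorem core_herm (σ : F →+* F) (q : ℕ) (hq : 2 ≤ q) (hσq : ∀ x, σ x = x ^ q)
    (hσ : ∀ x, σ (σ x) = x) (hb : ∃ b : F, b + σ b ≠ 0) (hm : 2 ≤ m)
    (p : ℕ) [CharP F p] (hp : (p : K) ≠ 0) (D : SiegelData G σ m)
    (R : G →* Module.End K M)
    (hnt : ∃ H : hermAdd σ m, R (D.xs H) ≠ 1) :
    Fintype.card F ^ m ≤ (q + 1) * finrank K M + 1 := by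
  classical
  have hθ : ∃ θ : F, θ + σ θ = 1 := by
    obtain ⟨b, hb⟩ := hb
    refine ⟨b / (b + σ b), ?_⟩
    rw [map_div₀, map_add, hσ, add_comm (σ b) b, ← add_div, div_self hb]
  set A : hermAdd σ m → Module.End K M := fun S => R (D.xs S) with hAdef
  have hA : ∀ S, A S ^ p = 1 := by
    intro S
    show R (D.xs S) ^ p = 1
    rw [← map_pow, D.xs_pow]
    have : p • S = 0 := by
      apply Subtype.ext
      show p • S.1 = 0
      ext i j
      rw [Matrix.smul_apply, nsmul_eq_mul, CharP.cast_eq_zero, zero_mul, Matrix.zero_apply]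
    rw [this, D.xs_zero, map_one]
  have hcomm : ∀ S S', Commute (A S) (A S') := fun S S' => (D.xs_comm S S').map R
  have hAadd : ∀ S S', A (S + S') = A S * A S' := fun S S' => by
    show R (D.xs (S + S')) = R (D.xs S) * R (D.xs S')
    rw [D.xs_add, map_mul]
  have hA0 : A 0 = 1 := by
    show R (D.xs 0) = 1
    rw [D.xs_zero, map_one]
  -- weights are additive characters
  have hwt : ∀ χ : hermAdd σ m → K, jointEigenspace A χ ≠ ⊥ →
      χ 0 = 1 ∧ ∀ S S', χ (S + S') = χ S * χ S' := by
    intro χ hχ
    obtain ⟨x, hxmem, hxne⟩ := Submodule.exists_mem_ne_zero_of_ne_bot hχ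
    have hx : ∀ S, A S x = χ S • x := (mem_jointEigenspace A χ x).mp hxmem
    constructor
    · have h1 : χ 0 • x = (1 : K) • x := by
        rw [← hx 0, hA0, one_smul]; rfl
      exact smul_left_injective K hxne h1
    · intro S S'
      have h1 : χ (S + S') • x = (χ S * χ S') • x := by
        rw [← hx (S + S'), hAadd, Module.End.mul_apply, hx S', map_smul, hx S, smul_smul,
          mul_comm]
      exact smul_left_injective K hxne h1
  -- a non-trivial weight
  obtain ⟨χ₀, hχ₀, S₁, hS₁⟩ : ∃ χ₀ : hermAdd σ m → K, jointEigenspace A χ₀ ≠ ⊥ ∧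
      ∃ S, χ₀ S ≠ 1 := by
    by_contra hcon
    push Not at hcon
    obtain ⟨S, hS⟩ := hnt
    apply hS
    have htop := iSup_jointEigenspace hp A hA hcomm
    have hle : (⊤ : Submodule K M) ≤ LinearMap.ker (A S - 1) := by
      rw [← htop]
      refine iSup_le fun χ => ?_
      by_cases h : jointEigenspace A χ = ⊥
      · rw [h]; exact bot_le
      · intro x hx
        rw [LinearMap.mem_ker, LinearMap.sub_apply,
          (mem_jointEigenspace A χ x).mp hx S, hcon χ h S, one_smul]
        exact sub_self _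
    refine LinearMap.ext fun x => ?_
    have := hle (Submodule.mem_top : x ∈ ⊤)
    rw [LinearMap.mem_ker, LinearMap.sub_apply, sub_eq_zero] at this
    exact this
  obtain ⟨hχ0, hχadd⟩ := hwt χ₀ hχ₀
  -- the bicharacter
  set β : hermAdd σ m → hermAdd σ m → K := fun H T => χ₀ (trS H T S₁) with hβ
  have hβ0 : ∀ y, β 0 y = 1 := fun y => by
    show χ₀ (trS 0 y S₁) = 1
    rw [trS_zero_left, hχ0]
  have hβ0' : ∀ f, β f 0 = 1 := fun f => by
    show χ₀ (trS f 0 S₁) = 1
    rw [trS_zero_right, hχ0]
  have hβadd : ∀ f f' y, β (f + f') y = β f y * β f' y := fun f f' y => by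
    show χ₀ (trS (f + f') y S₁) = χ₀ (trS f y S₁) * χ₀ (trS f' y S₁)
    rw [trS_add_left, hχadd]
  have hβadd' : ∀ f y y', β f (y + y') = β f y * β f y' := fun f y y' => by
    show χ₀ (trS f (y + y') S₁) = χ₀ (trS f y S₁) * χ₀ (trS f y' S₁)
    rw [trS_add_right, hχadd]
  have hβnd : ∀ y, y ≠ 0 → ∃ f, β f y ≠ 1 := by
    intro y hy
    obtain ⟨H, hH⟩ := exists_trace_eq_one hσ hθ y hy
    refine ⟨H, ?_⟩
    show χ₀ (trS H y S₁) ≠ 1
    have : trS H y S₁ = S₁ := by
      apply Subtype.ext
      show Matrix.trace (H.1 * y.1) • S₁.1 = S₁.1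
      rw [hH, one_smul]
    rw [this]
    exact hS₁
  -- every weight comes from the pairing
  have hex : ∀ χ : hermAdd σ m → K, jointEigenspace A χ ≠ ⊥ →
      ∃ T : hermAdd σ m, ∀ S, χ S = β S T := fun χ hχ =>
    exists_eq_bichar β hβ0 hβ0' hβadd hβadd' hβnd le_rfl χ (hwt χ hχ).1 (hwt χ hχ).2
  set wt : hermAdd σ m → hermAdd σ m → K := fun T S => β S T with hwtdef
  have hwtinj : Function.Injective wt := bichar_injective β hβ0' hβadd' hβnd
  have hRne : ∀ (h : G) (x : M), x ≠ 0 → R h x ≠ 0 := by
    intro h x hx h0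
    apply hx
    have h1 : R h⁻¹ (R h x) = x := by
      rw [← Module.End.mul_apply, ← map_mul, inv_mul_cancel, map_one]; rfl
    rw [← h1, h0, map_zero]
  -- the set of non-zero weights
  set O : Finset (hermAdd σ m) :=
    Finset.univ.filter fun T => T ≠ 0 ∧ jointEigenspace A (wt T) ≠ ⊥ with hO
  have key := card_le_finrank hp A hA hcomm (Y := ↥O) (fun T => wt T.1)
    (hwtinj.comp Subtype.val_injective) (fun T => (Finset.mem_filter.mp T.2).2.2)
  rw [Fintype.card_coe] at key
  have hb' := orbit_bound σ q hq hσq hb hm (O.image Subtype.val)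
    (by
      intro T hT
      obtain ⟨T', _, rfl⟩ := Finset.mem_image.mp hT
      exact mem_hermAdd.mp T'.2)
    (by
      intro T hT
      obtain ⟨T', hT', rfl⟩ := Finset.mem_image.mp hT
      intro h0
      exact (Finset.mem_filter.mp hT').2.1 (Subtype.ext h0))
    (by
      intro T hT B C hBC hBdet
      obtain ⟨T', hT', rfl⟩ := Finset.mem_image.mp hT
      obtain ⟨-, hT'0, hT'e⟩ := Finset.mem_filter.mp hT'
      have hCB : C * B = 1 := mul_eq_one_comm.mp hBC
      have hCdet : C.det = 1 := by
        have := congrArg Matrix.det hBC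
        rw [Matrix.det_mul, hBdet, one_mul, Matrix.det_one] at this
        exact this
      have hctCB : ct σ B * ct σ C = 1 := by rw [← ct_mul, hCB, ct_one]
      have hctBC : ct σ C * ct σ B = 1 := by rw [← ct_mul, hBC, ct_one]
      -- the new weight
      have hmem : ct σ B * T'.1 * B ∈ hermAdd σ m := by
        show ct σ (ct σ B * T'.1 * B) = _
        rw [ct_mul, ct_mul, ct_ct σ hσ, mem_hermAdd.mp T'.2, Matrix.mul_assoc]
      rw [Finset.mem_image]
      refine ⟨⟨ct σ B * T'.1 * B, hmem⟩, ?_, rfl⟩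
      rw [Finset.mem_filter]
      refine ⟨Finset.mem_univ _, ?_, ?_⟩
      · intro h0
        apply hT'0
        have h1 : ct σ B * T'.1 * B = 0 := congrArg Subtype.val h0
        apply Subtype.ext
        show T'.1 = 0
        calc T'.1 = (ct σ C * ct σ B) * T'.1 * (B * C) := by
              rw [hctBC, hBC, Matrix.one_mul, Matrix.mul_one]
          _ = ct σ C * (ct σ B * T'.1 * B) * C := by simp only [Matrix.mul_assoc]
          _ = 0 := by rw [h1, Matrix.mul_zero, Matrix.zero_mul]
      · obtain ⟨x, hxmem, hxne⟩ := Submodule.exists_mem_ne_zero_of_ne_bot hT'e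
        have hx : ∀ S, A S x = wt T' S • x := (mem_jointEigenspace A (wt T') x).mp hxmem
        intro hbot
        have hy : R (D.ls C B hCB hCdet) x ∈
            jointEigenspace A (wt ⟨ct σ B * T'.1 * B, hmem⟩) := by
          rw [mem_jointEigenspace]
          intro S
          -- `S' = B S B^*`
          have hS'mem : B * S.1 * ct σ B ∈ hermAdd σ m := by
            show ct σ (B * S.1 * ct σ B) = _
            rw [ct_mul, ct_mul, ct_ct σ hσ, mem_hermAdd.mp S.2, Matrix.mul_assoc]
          set S' : hermAdd σ m := ⟨B * S.1 * ct σ B, hS'mem⟩ with hS'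
          have e1 : D.xs S * D.ls C B hCB hCdet = D.ls C B hCB hCdet * D.xs S' := by
            refine (D.ls_mul_xs C B hCB hCdet S' S ?_).symm
            show S.1 = C * (B * S.1 * ct σ B) * ct σ C
            calc S.1 = (C * B) * S.1 * (ct σ B * ct σ C) := by
                  rw [hCB, hctCB, Matrix.one_mul, Matrix.mul_one]
              _ = C * (B * S.1 * ct σ B) * ct σ C := by simp only [Matrix.mul_assoc]
          show R (D.xs S) (R (D.ls C B hCB hCdet) x) = _
          rw [← Module.End.mul_apply, ← map_mul, e1, map_mul, Module.End.mul_apply]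
          have := hx S'
          show R (D.ls C B hCB hCdet) (A S' x) = _
          rw [this, map_smul]
          congr 1
          show χ₀ (trS S' T' S₁) = χ₀ (trS S ⟨ct σ B * T'.1 * B, hmem⟩ S₁)
          congr 1
          apply Subtype.ext
          show Matrix.trace (B * S.1 * ct σ B * T'.1) • S₁.1 =
            Matrix.trace (S.1 * (ct σ B * T'.1 * B)) • S₁.1
          congr 1
          have e2 : B * S.1 * ct σ B * T'.1 = B * (S.1 * ct σ B * T'.1) := by
            simp only [Matrix.mul_assoc]
          rw [e2, Matrix.trace_mul_comm]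
          congr 1
          simp only [Matrix.mul_assoc]
        rw [hbot] at hy
        exact hRne _ _ hxne ((Submodule.mem_bot K).mp hy))
    (by
      obtain ⟨T₀, hT₀⟩ := hex χ₀ hχ₀
      refine ⟨T₀.1, Finset.mem_image.mpr ⟨T₀, ?_, rfl⟩⟩
      rw [Finset.mem_filter]
      refine ⟨Finset.mem_univ _, ?_, ?_⟩
      · rintro rfl
        apply hS₁
        rw [hT₀ S₁]
        exact hβ0' S₁
      · have : wt T₀ = χ₀ := funext fun S => (hT₀ S).symm
        rw [this]; exact hχ₀)
  rw [Finset.card_image_of_injective _ Subtype.val_injective] at hb'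
  calc Fintype.card F ^ m ≤ (q + 1) * O.card + 1 := hb'
    _ ≤ (q + 1) * finrank K M + 1 := by
      have := Nat.mul_le_mul_left (q + 1) key
      omega

end Main

end Cfsg.Agent.Lib.Helper81_HermWeights
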