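import Mathlib
import Cfsg.Agent.Lib.Helper5_SUCenter
import Cfsg.Agent.Lib.Helper81_HermWeights

set_option autoImplicit false
set_option linter.unusedSectionVars false

/-!
# Siegel parabolic elements in the special unitary group of the standard form (helper81)

For `2 m ≤ n`, a pair `C, D` of `n × m` matrices with `C^* C = 0 = D^* D`, `C^* D = 1`
(`m` mutually orthogonal hyperbolic pairs in the standard unitary space) gives elements
`1 + ε C H C^*` (`H` hermitian) and `1 + C (A - 1) D^* + D (A^{-*} - 1) C^*` of `SU_n(q)`;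
`siegelData` packages them as `Helper81_HermWeights.SiegelData`.
-/

namespace Cfsg.Agent.Lib.Helper81_SUSiegel

open Matrix
open Cfsg.Agent.Lib.Helper13_Herm Cfsg.Agent.Lib.Helper5_GUOrder Cfsg.Agent.Lib.Helper5_SUOrder
  Cfsg.Agent.Lib.Helper5_SUCenter Cfsg.Agent.Lib.Helper81_HermOrbit
  Cfsg.Agent.Lib.Helper81_HermWeights Cfsg.Agent.Lib.Helper81_SymOrbit

section Abstract

variable {F : Type*} [Field F] {n m : ℕ} (σ : F →+* F)

/-- sandwich `X a Y^*` -/
def sw (X : Matrix (Fin n) (Fin m) F) (a : Matrix (Fin m) (Fin m) F)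
    (Y : Matrix (Fin n) (Fin m) F) : Matrix (Fin n) (Fin n) F := X * a * ct σ Y

theorem sw_mul_sw (X Y Z W : Matrix (Fin n) (Fin m) F) (a b : Matrix (Fin m) (Fin m) F) :
    sw σ X a Y * sw σ Z b W = sw σ X (a * (ct σ Y * Z) * b) W := by
  unfold sw
  simp only [Matrix.mul_assoc]

theorem sw_add (X Y : Matrix (Fin n) (Fin m) F) (a b : Matrix (Fin m) (Fin m) F) :
    sw σ X (a + b) Y = sw σ X a Y + sw σ X b Y := by
  unfold sw
  rw [Matrix.mul_add, Matrix.add_mul]

theorem sw_zero (X Y : Matrix (Fin n) (Fin m) F) : sw σ X 0 Y = 0 := by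
  unfold sw
  rw [Matrix.mul_zero, Matrix.zero_mul]

theorem sw_neg (X Y : Matrix (Fin n) (Fin m) F) (a : Matrix (Fin m) (Fin m) F) :
    sw σ X (-a) Y = -sw σ X a Y := by
  unfold sw
  rw [Matrix.mul_neg, Matrix.neg_mul]

theorem ct_sw (hσ : ∀ x, σ (σ x) = x) (X Y : Matrix (Fin n) (Fin m) F)
    (a : Matrix (Fin m) (Fin m) F) : ct σ (sw σ X a Y) = sw σ Y (ct σ a) X := by
  unfold sw
  rw [ct_mul, ct_mul, ct_ct σ hσ, Matrix.mul_assoc]

theorem sw_mul (X Y : Matrix (Fin n) (Fin m) F) (a : Matrix (Fin m) (Fin m) F)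
    (Z : Matrix (Fin n) (Fin m) F) : sw σ X a Y * Z = X * (a * (ct σ Y * Z)) := by
  unfold sw
  simp only [Matrix.mul_assoc]

theorem mul_sw (X Y : Matrix (Fin n) (Fin m) F) (a : Matrix (Fin m) (Fin m) F)
    (Z : Matrix (Fin n) (Fin m) F) : ct σ Z * sw σ X a Y = (ct σ Z * X) * a * ct σ Y := by
  unfold sw
  simp only [Matrix.mul_assoc]

/-- `m` mutually orthogonal hyperbolic pairs -/
structure Hyp (C D : Matrix (Fin n) (Fin m) F) : Prop where
  cc : ct σ C * C = 0
  dd : ct σ D * D = 0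
  cd : ct σ C * D = 1
  dc : ct σ D * C = 1

variable {σ} {C D : Matrix (Fin n) (Fin m) F}

/-- Levi-type matrices -/
def lM (σ : F →+* F) (C D : Matrix (Fin n) (Fin m) F) (A B' : Matrix (Fin m) (Fin m) F) :
    Matrix (Fin n) (Fin n) F :=
  1 + sw σ C (A - 1) D + sw σ D (B' - 1) C

theorem lM_mul (h : Hyp σ C D) (A₁ B₁ A₂ B₂ : Matrix (Fin m) (Fin m) F) :
    lM σ C D A₁ B₁ * lM σ C D A₂ B₂ = lM σ C D (A₁ * A₂) (B₁ * B₂) := by
  have e1 : A₁ * A₂ - 1 = (A₁ - 1) + (A₂ - 1) + (A₁ - 1) * (A₂ - 1) := by noncomm_ring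
  have e2 : B₁ * B₂ - 1 = (B₁ - 1) + (B₂ - 1) + (B₁ - 1) * (B₂ - 1) := by noncomm_ring
  unfold lM
  rw [e1, e2, sw_add, sw_add, sw_add, sw_add]
  simp only [mul_add, add_mul, one_mul, mul_one, sw_mul_sw, h.cc, h.dd, h.cd, h.dc,
    Matrix.mul_zero, Matrix.zero_mul, sw_zero]
  abel

theorem lM_one (σ : F →+* F) (C D : Matrix (Fin n) (Fin m) F) : lM σ C D 1 1 = 1 := by
  unfold lM
  rw [sub_self, sw_zero, sw_zero, add_zero, add_zero]

theorem ct_lM (hσ : ∀ x, σ (σ x) = x) (A B' : Matrix (Fin m) (Fin m) F) :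
    ct σ (lM σ C D A B') = lM σ C D (ct σ B') (ct σ A) := by
  unfold lM
  rw [ct_add, ct_add, ct_one, ct_sw σ hσ, ct_sw σ hσ, ct_sub, ct_sub, ct_one]
  abel

theorem lM_mul_C (h : Hyp σ C D) (A B' : Matrix (Fin m) (Fin m) F) :
    lM σ C D A B' * C = C * A := by
  unfold lM
  rw [Matrix.add_mul, Matrix.add_mul, Matrix.one_mul, sw_mul, sw_mul, h.dc, h.cc, Matrix.mul_zero,
    Matrix.mul_zero, add_zero, Matrix.mul_one, Matrix.mul_sub, Matrix.mul_one]
  abel

theorem ctC_mul_lM (h : Hyp σ C D) (A B' : Matrix (Fin m) (Fin m) F) :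
    ct σ C * lM σ C D A B' = B' * ct σ C := by
  unfold lM
  rw [Matrix.mul_add, Matrix.mul_add, Matrix.mul_one, mul_sw, mul_sw, h.cc, h.cd, Matrix.zero_mul,
    Matrix.zero_mul, add_zero, Matrix.one_mul, Matrix.sub_mul, Matrix.one_mul]
  abel

theorem det_lM (h : Hyp σ C D) (A B' : Matrix (Fin m) (Fin m) F) :
    (lM σ C D A B').det = A.det * B'.det := by
  have e1 : lM σ C D A B' = 1 + Matrix.fromCols (C * (A - 1)) (D * (B' - 1)) *
      Matrix.fromRows (ct σ D) (ct σ C) := by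
    unfold lM sw
    rw [Matrix.fromCols_mul_fromRows, add_assoc]
  rw [e1, Matrix.det_one_add_mul_comm, Matrix.fromRows_mul_fromCols]
  have e2 : ct σ D * (C * (A - 1)) = A - 1 := by
    rw [← Matrix.mul_assoc, h.dc, Matrix.one_mul]
  have e3 : ct σ D * (D * (B' - 1)) = 0 := by
    rw [← Matrix.mul_assoc, h.dd, Matrix.zero_mul]
  have e4 : ct σ C * (C * (A - 1)) = 0 := by
    rw [← Matrix.mul_assoc, h.cc, Matrix.zero_mul]
  have e5 : ct σ C * (D * (B' - 1)) = B' - 1 := by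
    rw [← Matrix.mul_assoc, h.cd, Matrix.one_mul]
  rw [e2, e3, e4, e5, ← Matrix.fromBlocks_one, Matrix.fromBlocks_add, add_zero,
    Matrix.det_fromBlocks_zero₂₁, add_sub_cancel, add_sub_cancel]

/-- radical-type matrices -/
def xM (σ : F →+* F) (C : Matrix (Fin n) (Fin m) F) (ε : F) (H : Matrix (Fin m) (Fin m) F) :
    Matrix (Fin n) (Fin n) F :=
  1 + ε • sw σ C H C

theorem xM_mul (h : Hyp σ C D) (ε : F) (H H' : Matrix (Fin m) (Fin m) F) :
    xM σ C ε H * xM σ C ε H' = xM σ C ε (H + H') := by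
  unfold xM
  rw [mul_add, add_mul, add_mul, one_mul, one_mul, mul_one, Matrix.smul_mul, Matrix.mul_smul,
    sw_mul_sw, h.cc, Matrix.mul_zero, Matrix.zero_mul, sw_zero, smul_zero, smul_zero, add_zero,
    sw_add, smul_add]
  abel

theorem xM_zero (σ : F →+* F) (C : Matrix (Fin n) (Fin m) F) (ε : F) : xM σ C ε 0 = 1 := by
  unfold xM
  rw [sw_zero, smul_zero, add_zero]

theorem ct_xM (hσ : ∀ x, σ (σ x) = x) (ε : F) (hε : σ ε = -ε)
    (H : Matrix (Fin m) (Fin m) F) (hH : ct σ H = H) :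
    ct σ (xM σ C ε H) = xM σ C ε (-H) := by
  unfold xM
  rw [ct_add, ct_one, ct_smul, ct_sw σ hσ, hH, hε, sw_neg, neg_smul, smul_neg]

theorem det_xM (h : Hyp σ C D) (ε : F) (H : Matrix (Fin m) (Fin m) F) :
    (xM σ C ε H).det = 1 := by
  have e1 : xM σ C ε H = 1 + (ε • (C * H)) * ct σ C := by
    unfold xM sw
    rw [Matrix.smul_mul]
  rw [e1, Matrix.det_one_add_mul_comm, Matrix.mul_smul, ← Matrix.mul_assoc, h.cc, Matrix.zero_mul,
    smul_zero, add_zero, Matrix.det_one]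

theorem lM_mul_xM (h : Hyp σ C D) (ε : F) (A B : Matrix (Fin m) (Fin m) F) (hBA : B * A = 1)
    (H : Matrix (Fin m) (Fin m) F) :
    lM σ C D A (ct σ B) * xM σ C ε H = xM σ C ε (A * H * ct σ A) * lM σ C D A (ct σ B) := by
  unfold xM
  rw [mul_add, add_mul, mul_one, one_mul, Matrix.mul_smul, Matrix.smul_mul]
  congr 2
  unfold sw
  have e1 : lM σ C D A (ct σ B) * (C * H * ct σ C) =
      (lM σ C D A (ct σ B) * C) * H * ct σ C := by simp only [Matrix.mul_assoc]
  have e2 : C * (A * H * ct σ A) * ct σ C * lM σ C D A (ct σ B) =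
      C * (A * H * ct σ A) * (ct σ C * lM σ C D A (ct σ B)) := by simp only [Matrix.mul_assoc]
  rw [e1, e2, lM_mul_C h, ctC_mul_lM h]
  have e3 : ct σ A * ct σ B = 1 := by rw [← ct_mul, hBA, ct_one]
  calc C * A * H * ct σ C = C * (A * H * (ct σ A * ct σ B)) * ct σ C := by
        rw [e3, Matrix.mul_one]; simp only [Matrix.mul_assoc]
    _ = C * (A * H * ct σ A) * (ct σ B * ct σ C) := by simp only [Matrix.mul_assoc]

theorem xM_injective (h : Hyp σ C D) (ε : F) (hε0 : ε ≠ 0) (H H' : Matrix (Fin m) (Fin m) F)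
    (hx : xM σ C ε H = xM σ C ε H') : H = H' := by
  unfold xM at hx
  have h1 : sw σ C H C = sw σ C H' C := by
    have := add_left_cancel hx
    have h2 := congrArg (fun X => ε⁻¹ • X) this
    simpa [smul_smul, inv_mul_cancel₀ hε0] using h2
  have h3 : ct σ D * sw σ C H C * D = ct σ D * sw σ C H' C * D := by rw [h1]
  have key : ∀ X : Matrix (Fin m) (Fin m) F, ct σ D * sw σ C X C * D = X := by
    intro X
    unfold sw
    calc ct σ D * (C * X * ct σ C) * D = (ct σ D * C) * X * (ct σ C * D) := by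
          simp only [Matrix.mul_assoc]
      _ = X := by rw [h.dc, h.cd, Matrix.one_mul, Matrix.mul_one]
  rw [key, key] at h3
  exact h3

end Abstract

section Standard

variable {F : Type*} [Field F] [Fintype F] {q n m : ℕ}

theorem powQ_apply (hF : Fintype.card F = q ^ 2) (x : F) : powQ hF x = x ^ q := rfl

theorem powQ_powQ (hF : Fintype.card F = q ^ 2) (x : F) : powQ hF (powQ hF x) = x :=
  pow_q_pow_q hF x

/-- matrices with `M^* M = 1` preserve the standard hermitian form -/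
theorem isU_of_ct (hF : Fintype.card F = q ^ 2) (M : Matrix (Fin n) (Fin n) F)
    (h : ct (powQ hF) M * M = 1) : IsU n q M := by
  intro u v
  have e1 : ∀ w : Fin n → F, Cfsg.hermForm n F q (M *ᵥ u) w =
      (M *ᵥ u) ⬝ᵥ (fun i => powQ hF (w i)) := fun w => rfl
  have e2 : (fun i => powQ hF ((M *ᵥ v) i)) = M.map (powQ hF) *ᵥ (fun i => powQ hF (v i)) := by
    funext i
    rw [RingHom.map_mulVec]
    rfl
  rw [e1, e2, Matrix.dotProduct_mulVec, ← Matrix.mulVec_transpose, Matrix.mulVec_mulVec]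
  show ((ct (powQ hF) M * M) *ᵥ u) ⬝ᵥ _ = _
  rw [h, Matrix.one_mulVec]
  rfl

theorem det_ct (σ : F →+* F) {k : ℕ} (B : Matrix (Fin k) (Fin k) F) : (ct σ B).det = σ B.det := by
  unfold ct
  rw [Matrix.det_transpose]
  exact (RingHom.map_det σ B).symm

/-- inclusion matrix of a map of index sets -/
def inc (e : Fin m → Fin n) : Matrix (Fin n) (Fin m) F := fun k i => if k = e i then 1 else 0

theorem ct_inc_mul_inc (σ : F →+* F) (e e' : Fin m → Fin n) (i j : Fin m) :
    (ct σ (inc e : Matrix (Fin n) (Fin m) F) * (inc e' : Matrix (Fin n) (Fin m) F)) i j =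
      if e i = e' j then (1 : F) else 0 := by
  rw [Matrix.mul_apply]
  simp only [ct_apply, inc]
  rw [Finset.sum_eq_single (e i)]
  · simp
  · intro k _ hk
    simp [hk]
  · intro h
    exact absurd (Finset.mem_univ _) h

theorem ct_inc_mul_inc_self (σ : F →+* F) (e : Fin m → Fin n) (he : Function.Injective e) :
    ct σ (inc e : Matrix (Fin n) (Fin m) F) * (inc e : Matrix (Fin n) (Fin m) F) = 1 := by
  ext i j
  rw [ct_inc_mul_inc, Matrix.one_apply]
  by_cases h : i = j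
  · subst h; simp
  · rw [if_neg h, if_neg (fun h' => h (he h'))]

theorem ct_inc_mul_inc_disj (σ : F →+* F) (e e' : Fin m → Fin n) (he : ∀ i j, e i ≠ e' j) :
    ct σ (inc e : Matrix (Fin n) (Fin m) F) * (inc e' : Matrix (Fin n) (Fin m) F) = 0 := by
  ext i j
  rw [ct_inc_mul_inc, if_neg (he i j), Matrix.zero_apply]

/-- the first embedding `Fin m → Fin n` -/
def emb1 (h : 2 * m ≤ n) : Fin m → Fin n := fun i => ⟨i.val, by have := i.isLt; omega⟩

/-- the second embedding `Fin m → Fin n` -/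
def emb2 (h : 2 * m ≤ n) : Fin m → Fin n := fun i => ⟨m + i.val, by have := i.isLt; omega⟩

theorem emb1_injective (h : 2 * m ≤ n) : Function.Injective (emb1 h) := by
  intro i j hij
  have := congrArg Fin.val hij
  exact Fin.ext this

theorem emb2_injective (h : 2 * m ≤ n) : Function.Injective (emb2 h) := by
  intro i j hij
  have := congrArg Fin.val hij
  simp only [emb2] at this
  exact Fin.ext (by omega)

theorem emb1_ne_emb2 (h : 2 * m ≤ n) (i j : Fin m) : emb1 h i ≠ emb2 h j := by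
  intro hij
  have := congrArg Fin.val hij
  simp only [emb1, emb2] at this
  have := i.isLt
  omega

/-- `a (ι₁ + b ι₂)` -/
def hmat (h : 2 * m ≤ n) (a b : F) : Matrix (Fin n) (Fin m) F :=
  a • (inc (emb1 h) + b • inc (emb2 h))

theorem ct_hmat_mul_hmat (σ : F →+* F) (h : 2 * m ≤ n) (a b c d : F) :
    ct σ (hmat h a b) * hmat h c d = (σ a * c * (1 + σ b * d)) • (1 : Matrix (Fin m) (Fin m) F) := by
  unfold hmat
  rw [ct_smul, ct_add, ct_smul, Matrix.smul_mul, Matrix.mul_smul, Matrix.add_mul, Matrix.mul_add,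
    Matrix.mul_add, Matrix.smul_mul, Matrix.smul_mul, Matrix.mul_smul, Matrix.mul_smul,
    ct_inc_mul_inc_self σ _ (emb1_injective h), ct_inc_mul_inc_self σ _ (emb2_injective h),
    ct_inc_mul_inc_disj σ _ _ (emb1_ne_emb2 h),
    ct_inc_mul_inc_disj σ _ _ (fun i j => (emb1_ne_emb2 h j i).symm)]
  ext i j
  simp only [Matrix.add_apply, Matrix.smul_apply, Matrix.zero_apply, smul_eq_mul]
  ring

/-- existence of `m` mutually orthogonal hyperbolic pairs in the standard unitary space -/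
theorem exists_hyp (hF : Fintype.card F = q ^ 2) (h : 2 * m ≤ n) :
    ∃ C D : Matrix (Fin n) (Fin m) F, Hyp (powQ hF) C D := by
  obtain ⟨ζ, hζ⟩ := exists_norm_neg_one hF
  obtain ⟨l, hl, hl1⟩ := exists_norm_one_ne_one hF
  have hne : (1 : F) + ζ ^ q * (l * ζ) ≠ 0 := by
    have : (1 : F) + ζ ^ q * (l * ζ) = 1 - l := by linear_combination l * hζ
    rw [this]
    exact sub_ne_zero.mpr (Ne.symm hl1)
  set t : F := (1 + ζ ^ q * (l * ζ))⁻¹ with ht
  have hq0 : q ≠ 0 := by have := two_le_q hF; omega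
  refine ⟨hmat h 1 ζ, hmat h t (l * ζ), ?_, ?_, ?_, ?_⟩
  · rw [ct_hmat_mul_hmat, powQ_apply, powQ_apply]
    have : (1 : F) ^ q * 1 * (1 + ζ ^ q * ζ) = 0 := by
      rw [one_pow]; linear_combination hζ
    rw [this, zero_smul]
  · rw [ct_hmat_mul_hmat, powQ_apply, powQ_apply]
    have : t ^ q * t * (1 + (l * ζ) ^ q * (l * ζ)) = 0 := by
      rw [mul_pow]
      linear_combination (t ^ q * t * (ζ ^ q * ζ)) * hl + (t ^ q * t) * hζ
    rw [this, zero_smul]
  · rw [ct_hmat_mul_hmat, powQ_apply, powQ_apply]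
    have : (1 : F) ^ q * t * (1 + ζ ^ q * (l * ζ)) = 1 := by
      rw [one_pow, one_mul, ht, inv_mul_cancel₀ hne]
    rw [this, one_smul]
  · rw [ct_hmat_mul_hmat, powQ_apply, powQ_apply]
    have h1 : t * (1 + ζ ^ q * (l * ζ)) = 1 := by rw [ht, inv_mul_cancel₀ hne]
    have h2 := congrArg (fun x => x ^ q) h1
    simp only [mul_pow, one_pow, add_pow_q hF, pow_q_pow_q hF] at h2
    have : t ^ q * 1 * (1 + (l * ζ) ^ q * ζ) = 1 := by
      rw [mul_pow]
      linear_combination h2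
    rw [this, one_smul]

theorem cong_mem (hF : Fintype.card F = q ^ 2) (A : Matrix (Fin m) (Fin m) F)
    (H : hermAdd (powQ hF) m) : A * H.1 * ct (powQ hF) A ∈ hermAdd (powQ hF) m := by
  show ct (powQ hF) (A * H.1 * ct (powQ hF) A) = _
  rw [ct_mul, ct_mul, ct_ct _ (powQ_powQ hF), mem_hermAdd.mp H.2, Matrix.mul_assoc]

/-- the Siegel data of `SU_n(q)` attached to hyperbolic pairs -/
noncomputable def siegelData (hF : Fintype.card F = q ^ 2) {C D : Matrix (Fin n) (Fin m) F}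
    (h : Hyp (powQ hF) C D) (ε : F) (hε : ε + ε ^ q = 0) :
    SiegelData ↥(Cfsg.SU n F q) (powQ hF) m where
  xs H := mkSU (xM (powQ hF) C ε H.1) (isU_of_ct hF _ (by
      rw [ct_xM (powQ_powQ hF) ε (by rw [powQ_apply]; exact eq_neg_of_add_eq_zero_right hε) H.1
        (mem_hermAdd.mp H.2), xM_mul h, neg_add_cancel, xM_zero])) (det_xM h ε H.1)
  xs_add H H' := Subtype.ext (Subtype.ext (by
    show xM (powQ hF) C ε (H.1 + H'.1) = xM (powQ hF) C ε H.1 * xM (powQ hF) C ε H'.1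
    rw [xM_mul h]))
  ls A B hAB hd := mkSU (lM (powQ hF) C D A (ct (powQ hF) B)) (isU_of_ct hF _ (by
      have hBA : B * A = 1 := mul_eq_one_comm.mp hAB
      rw [ct_lM (powQ_powQ hF), lM_mul h, ct_ct _ (powQ_powQ hF), hBA, ← ct_mul, hBA, ct_one,
        lM_one])) (by
      have hBd : B.det = 1 := by
        have := congrArg Matrix.det hAB
        rw [Matrix.det_mul, hd, one_mul, Matrix.det_one] at this
        exact this
      rw [det_lM h, hd, one_mul, det_ct, hBd, map_one])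
  ls_mul_xs A B hAB hd H H' hH' := Subtype.ext (Subtype.ext (by
    show lM (powQ hF) C D A (ct (powQ hF) B) * xM (powQ hF) C ε H.1 =
      xM (powQ hF) C ε H'.1 * lM (powQ hF) C D A (ct (powQ hF) B)
    rw [hH']
    exact lM_mul_xM h ε A B (mul_eq_one_comm.mp hAB) H.1))

theorem siegelData_xs_val (hF : Fintype.card F = q ^ 2) {C D : Matrix (Fin n) (Fin m) F}
    (h : Hyp (powQ hF) C D) (ε : F) (hε : ε + ε ^ q = 0) (H : hermAdd (powQ hF) m) :
    (((siegelData hF h ε hε).xs H).1 : Matrix (Fin n) (Fin n) F) = xM (powQ hF) C ε H.1 := rfl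

/-- some radical element is not central -/
theorem exists_not_commute (hF : Fintype.card F = q ^ 2) {C D : Matrix (Fin n) (Fin m) F}
    (h : Hyp (powQ hF) C D) (ε : F) (hε : ε + ε ^ q = 0) (hε0 : ε ≠ 0) (hm : 2 ≤ m) :
    ∃ (H : hermAdd (powQ hF) m) (g : ↥(Cfsg.SU n F q)),
      g * (siegelData hF h ε hε).xs H ≠ (siegelData hF h ε hε).xs H * g := by
  classical
  set σ := powQ hF with hσdef
  have hσ : ∀ x, σ (σ x) = x := powQ_powQ hF
  let i0 : Fin m := ⟨0, by omega⟩
  let i1 : Fin m := ⟨1, by omega⟩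
  have h01 : i1 ≠ i0 := by
    intro h0
    have := congrArg Fin.val h0
    simp [i0, i1] at this
  set c : Fin m → F := Pi.single i1 1 with hc
  have hc0 : c i0 = 0 := by rw [hc, Pi.single_eq_of_ne (Ne.symm h01)]
  set U : Matrix (Fin m) (Fin m) F := 1 + vecMulVec (Pi.single i0 (1 : F)) c with hU
  set U' : Matrix (Fin m) (Fin m) F := 1 - vecMulVec (Pi.single i0 (1 : F)) c with hU'
  have hUU' : U * U' = 1 := uni_mul_inv i0 c hc0
  have hU'U : U' * U = 1 := mul_eq_one_comm.mp hUU'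
  have hUdet : U.det = 1 := uni_det i0 c hc0
  have hAB : ct σ U * ct σ U' = 1 := by rw [← ct_mul, hU'U, ct_one]
  have hAdet : (ct σ U).det = 1 := by rw [det_ct, hUdet, map_one]
  set H₀ : hermAdd σ m := ⟨Matrix.single i0 i0 1, by
    show ct σ (Matrix.single i0 i0 (1 : F)) = _
    ext a b
    rw [ct_apply, Matrix.single_apply, Matrix.single_apply, apply_ite σ, map_one, map_zero]
    congr 1
    simp only [and_comm]⟩ with hH₀
  set H' : hermAdd σ m := ⟨ct σ U * H₀.1 * ct σ (ct σ U), cong_mem hF _ H₀⟩ with hH'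
  refine ⟨H₀, (siegelData hF h ε hε).ls (ct σ U) (ct σ U') hAB hAdet, ?_⟩
  intro hcomm
  rw [(siegelData hF h ε hε).ls_mul_xs (ct σ U) (ct σ U') hAB hAdet H₀ H' rfl] at hcomm
  have h1 := mul_right_cancel hcomm
  have h2 : xM σ C ε H'.1 = xM σ C ε H₀.1 := by
    rw [← siegelData_xs_val hF h ε hε H', ← siegelData_xs_val hF h ε hε H₀, h1]
  have h3 := xM_injective h ε hε0 _ _ h2
  have h4 := congrFun (congrFun h3 i0) i1
  rw [hH'] at h4
  simp only [ct_ct σ hσ] at h4
  rw [hU, uni_ct_congr_apply σ _ i0 i1 c hc0] at h4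
  rw [hc, Pi.single_eq_same, hH₀] at h4
  simp only [Matrix.single_apply] at h4
  simp [h01.symm] at h4

end Standard


end Cfsg.Agent.Lib.Helper81_SUSiegel
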