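import Mathlib
import Cfsg.Agent.Lib.Helper27_StSUDefs
import Cfsg.Agent.Lib.Helper27_StSUBasic
import Cfsg.Agent.Lib.Helper68_StAbs
import Cfsg.Agent.Lib.Helper5_SUOrder
import Cfsg.Agent.Lib.Helper75_Clifford
import Cfsg.Agent.Lib.Helper81_SUSiegel

/-!
# S2546 STSU market (architect helper27), package MEMQ: the `SU_3`-type root matrix `xQm` and its Weyl
representative `wQm` lie in the group.
-/

set_option autoImplicit false
set_option linter.unusedSectionVars false
set_option linter.unusedVariables false

namespace Cfsg.Agent.Lib.Helper99_StSU_MEMQ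

open Matrix Cfsg.Agent.Lib.Helper68_MatGrp Cfsg.Agent.Lib.Helper27_StSUDefs
  Cfsg.Agent.Lib.Helper27_StSUBasic

variable {n : ℕ} {F : Type*} [Field F] (σ : F →+* F)

theorem Jm_mul_single (a b : Fin n) (t : F) :
    Jm n F * single a b t = single (Fin.rev a) b t := by
  ext x y
  rw [Jm_mul_apply, single_apply, single_apply]
  by_cases h : a = Fin.rev x
  · have h' : Fin.rev a = x := by rw [h, Fin.rev_rev]
    simp [h]
  · have h' : ¬ Fin.rev a = x := fun h'' => h (by rw [← h'', Fin.rev_rev])
    simp [h, h']

theorem single_mul_Jm (a b : Fin n) (t : F) :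
    single a b t * Jm n F = single a (Fin.rev b) t := by
  ext x y
  rw [mul_Jm_apply, single_apply, single_apply]
  by_cases h : b = Fin.rev y
  · have h' : Fin.rev b = y := by rw [h, Fin.rev_rev]
    simp [h]
  · have h' : ¬ Fin.rev b = y := fun h'' => h (by rw [← h'', Fin.rev_rev])
    simp [h, h']

/-- unitarity of `1 + N` from `Nᵀ J + J N^σ + Nᵀ J N^σ = 0`. -/
theorem unitary_one_add (N : Matrix (Fin n) (Fin n) F)
    (h : Nᵀ * Jm n F + Jm n F * N.map σ + Nᵀ * Jm n F * N.map σ = 0) :
    (1 + N)ᵀ * Jm n F * (1 + N).map σ = Jm n F := by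
  have hm : (1 + N).map σ = 1 + N.map σ := by
    ext x y
    simp only [Matrix.map_apply, Matrix.add_apply, Matrix.one_apply, map_add]
    split_ifs <;> simp
  rw [hm, Matrix.transpose_add, Matrix.transpose_one]
  have : (1 + Nᵀ) * Jm n F * (1 + N.map σ) =
      Jm n F + (Nᵀ * Jm n F + Jm n F * N.map σ + Nᵀ * Jm n F * N.map σ) := by
    noncomm_ring
  rw [this, h, add_zero]

theorem rev_ne_of_fixed {i c : Fin n} (hc : c = Fin.rev c) (hic : i ≠ c) : i ≠ Fin.rev i := by
  intro h
  apply hic
  have h1 := congrArg Fin.val h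
  have h2 := congrArg Fin.val hc
  rw [Fin.val_rev] at h1 h2
  exact Fin.ext (by omega)

theorem rev_ne_fixed {i c : Fin n} (hc : c = Fin.rev c) (hic : i ≠ c) : Fin.rev i ≠ c := by
  intro h
  apply hic
  have : Fin.rev (Fin.rev i) = Fin.rev c := by rw [h]
  rw [Fin.rev_rev, ← hc] at this
  exact this

/-- MEMQ -/
theorem xQm_mem (hσ : ∀ x, σ (σ x) = x) (i c : Fin n) (hc : c = Fin.rev c) (hic : i ≠ c) (a b : F)
    (hab : b + σ b + a * σ a = 0) :
    (xQm σ i c a b).det = 1 ∧ (xQm σ i c a b)ᵀ * Jm n F * (xQm σ i c a b).map σ = Jm n F := by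
  have hii : i ≠ Fin.rev i := rev_ne_of_fixed hc hic
  have hic' : Fin.rev i ≠ c := rev_ne_fixed hc hic
  have hci : c ≠ i := hic.symm
  have hci' : c ≠ Fin.rev i := hic'.symm
  have hi'i : Fin.rev i ≠ i := hii.symm
  constructor
  · -- determinant: product of three transvections
    have hprod : xQm σ i c a b = transvection i c a * transvection c (Fin.rev i) (-σ a) *
        transvection i (Fin.rev i) (b + a * σ a) := by
      unfold xQm transvection
      simp only [Matrix.mul_add, Matrix.add_mul, Matrix.mul_one, Matrix.one_mul,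
        single_mul_single_same, single_mul_single_of_ne _ _ _ _ hci,
        single_mul_single_of_ne _ _ _ _ hi'i]
      rw [single_add]
      rw [mul_neg, ← single_neg, ← single_neg]
      abel
    rw [hprod, Matrix.det_mul, Matrix.det_mul, det_transvection_of_ne _ _ hic,
      det_transvection_of_ne _ _ hci', det_transvection_of_ne _ _ hii]
    simp
  · have hM : xQm σ i c a b =
        1 + (single i c a - single c (Fin.rev i) (σ a) + single i (Fin.rev i) b) := by
      unfold xQm; abel
    rw [hM]
    apply unitary_one_add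
    have hrc : Fin.rev c = c := hc.symm
    simp only [Matrix.transpose_add, Matrix.transpose_sub, transpose_single, Matrix.add_mul,
      Matrix.sub_mul, single_mul_Jm, hrc]
    have hmap : (single i c a - single c (Fin.rev i) (σ a) + single i (Fin.rev i) b).map σ =
        single i c (σ a) - single c (Fin.rev i) a + single i (Fin.rev i) (σ b) := by
      ext x y
      simp only [Matrix.map_apply, Matrix.add_apply, Matrix.sub_apply, single_apply, map_add,
        map_sub]
      split_ifs <;> simp [hσ]
    rw [hmap]
    simp only [Matrix.mul_add, Matrix.mul_sub, Jm_mul_single, hrc,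
      single_mul_single_same, single_mul_single_of_ne _ _ _ _ hci,
      single_mul_single_of_ne _ _ _ _ hi'i, single_mul_single_of_ne _ _ _ _ hic']
    have key : single (Fin.rev i) (Fin.rev i) b + single (Fin.rev i) (Fin.rev i) (σ b) +
        single (Fin.rev i) (Fin.rev i) (σ a * a) = (0 : Matrix (Fin n) (Fin n) F) := by
      rw [← single_add, ← single_add, show b + σ b + σ a * a = 0 by linear_combination hab]
      exact single_zero _ _
    rw [← key]
    abel

/-! ### generalized permutation matrices -/

/-- the matrix with entry `d b` at `(π b, b)` and `0` elsewhere. -/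
def gperm (π : Equiv.Perm (Fin n)) (d : Fin n → F) : Matrix (Fin n) (Fin n) F :=
  Matrix.of fun a b => if a = π b then d b else 0

theorem gperm_apply (π : Equiv.Perm (Fin n)) (d : Fin n → F) (a b : Fin n) :
    gperm π d a b = if a = π b then d b else 0 := rfl

theorem gperm_eq (π : Equiv.Perm (Fin n)) (d : Fin n → F) :
    gperm π d = (Matrix.diagonal d).submatrix (π⁻¹ : Equiv.Perm (Fin n)) id := by
  ext a b
  rw [gperm_apply, Matrix.submatrix_apply, id, Matrix.diagonal_apply]
  by_cases h : a = π b
  · subst h; simp
  · have h' : ¬ (π⁻¹ : Equiv.Perm (Fin n)) a = b := fun h' => h (by rw [← h']; simp)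
    rw [if_neg h, if_neg h']

theorem gperm_det (π : Equiv.Perm (Fin n)) (d : Fin n → F) :
    (gperm π d).det = ((Equiv.Perm.sign π : ℤˣ) : ℤ) * ∏ b, d b := by
  rw [gperm_eq, Matrix.det_permute, Matrix.det_diagonal, Equiv.Perm.sign_inv]

theorem gperm_unitary (π : Equiv.Perm (Fin n)) (d : Fin n → F)
    (hπ : ∀ a, π (Fin.rev a) = Fin.rev (π a)) (hd : ∀ a, d a * σ (d (Fin.rev a)) = 1) :
    (gperm π d)ᵀ * Jm n F * (gperm π d).map σ = Jm n F := by
  apply unitary_of_apply
  intro a b
  rw [Finset.sum_eq_single (π a)]
  · rw [gperm_apply, if_pos rfl, gperm_apply]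
    by_cases h : a = Fin.rev b
    · subst h
      have e : Fin.rev (π (Fin.rev b)) = π b := by rw [hπ, Fin.rev_rev]
      rw [if_pos rfl, if_pos e]
      have := hd (Fin.rev b)
      rwa [Fin.rev_rev] at this
    · have e : ¬ Fin.rev (π a) = π b := by
        intro h'
        apply h
        rw [← hπ] at h'
        have := π.injective h'
        rw [← this, Fin.rev_rev]
      rw [if_neg h, if_neg e, map_zero, mul_zero]
  · intro x _ hx
    rw [gperm_apply, if_neg hx, zero_mul]
  · intro h; exact absurd (Finset.mem_univ _) h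

theorem wQm_apply' (i c : Fin n) (hii : i ≠ Fin.rev i) (hic : i ≠ c) (hic' : Fin.rev i ≠ c)
    (a b : Fin n) :
    (wQm i c : Matrix (Fin n) (Fin n) F) a b =
      if a = Equiv.swap i (Fin.rev i) b then (if b = c then -1 else 1) else 0 := by
  have hii' := hii.symm
  have hci := hic.symm
  have hci' := hic'.symm
  unfold wQm
  simp only [Matrix.add_apply, Matrix.sub_apply, Matrix.one_apply, single_apply]
  rcases eq_or_ne b i with rfl | hbi
  · rw [Equiv.swap_apply_left]
    rcases eq_or_ne a b with rfl | hab
    · simp [*]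
    · have hba := hab.symm
      rcases eq_or_ne a (Fin.rev b) with rfl | hab'
      · simp [*]
      · have hba' := hab'.symm
        simp [*]
  · have hib := hbi.symm
    rcases eq_or_ne b (Fin.rev i) with rfl | hbi'
    · rw [Equiv.swap_apply_right]
      rcases eq_or_ne a i with rfl | hab
      · simp [*]
      · have hba := hab.symm
        rcases eq_or_ne a (Fin.rev i) with rfl | hab'
        · simp [*]
        · have hba' := hab'.symm
          simp [*]
    · have hib' := hbi'.symm
      rw [Equiv.swap_apply_of_ne_of_ne hbi hbi']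
      rcases eq_or_ne b c with rfl | hbc
      · rcases eq_or_ne a b with rfl | hab
        · simp [*]; norm_num
        · have hba := hab.symm
          simp [*]
      · have hcb := hbc.symm
        rcases eq_or_ne a b with rfl | hab
        · simp [*]
        · have hba := hab.symm
          simp [*]

theorem swap_rev (i : Fin n) (a : Fin n) :
    Equiv.swap i (Fin.rev i) (Fin.rev a) = Fin.rev (Equiv.swap i (Fin.rev i) a) := by
  rcases eq_or_ne a i with rfl | hai
  · rw [Equiv.swap_apply_right, Equiv.swap_apply_left, Fin.rev_rev]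
  · rcases eq_or_ne a (Fin.rev i) with rfl | hai'
    · rw [Fin.rev_rev, Equiv.swap_apply_left, Equiv.swap_apply_right]
    · rw [Equiv.swap_apply_of_ne_of_ne hai hai', Equiv.swap_apply_of_ne_of_ne]
      · intro h; apply hai'; rw [← h, Fin.rev_rev]
      · intro h; exact hai (Fin.rev_injective h)

theorem wQm_mem (i c : Fin n) (hc : c = Fin.rev c) (hic : i ≠ c) :
    (wQm i c : Matrix (Fin n) (Fin n) F).det = 1 ∧
      (wQm i c : Matrix (Fin n) (Fin n) F)ᵀ * Jm n F * (wQm i c : Matrix (Fin n) (Fin n) F).map σ = Jm n F := by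
  have hii : i ≠ Fin.rev i := rev_ne_of_fixed hc hic
  have hic' : Fin.rev i ≠ c := rev_ne_fixed hc hic
  have hW : (wQm i c : Matrix (Fin n) (Fin n) F) =
      gperm (Equiv.swap i (Fin.rev i)) (fun b => if b = c then -1 else 1) := by
    ext a b
    rw [wQm_apply' i c hii hic hic', gperm_apply]
  rw [hW]
  constructor
  · rw [gperm_det, Equiv.Perm.sign_swap hii, Finset.prod_ite_eq' Finset.univ c (fun _ => (-1 : F))]
    simp
  · apply gperm_unitary
    · exact swap_rev i
    · intro a
      by_cases hac : a = c
      · have : Fin.rev a = c := by rw [hac]; exact hc.symm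
        rw [if_pos hac, if_pos this]
        simp
      · have : ¬ Fin.rev a = c := by
          intro h
          apply hac
          rw [← Fin.rev_rev a, h]; exact hc.symm
        rw [if_neg hac, if_neg this]
        simp

end Cfsg.Agent.Lib.Helper99_StSU_MEMQ
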