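import Mathlib
import Cfsg.Agent.Lib.Helper27_StSUDefs
import Cfsg.Agent.Lib.Helper27_StSUBasic
import Cfsg.Agent.Lib.Helper99_StSU_MEMQ

/-!
# S2546 (architect helper27), package R2Q

(R2) for the type Q root: a monomial unitary `g` conjugates `xQ i c . .` or `xQ (rev i) c . .` into `B`.
The form `r2Q_of` takes the VAL lemma `xQ_val` (package MEMQ) as a hypothesis.
-/

set_option autoImplicit false
set_option linter.unusedSectionVars false
set_option linter.unusedVariables false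

namespace Cfsg.Agent.Lib.Helper10_StSU_R2Q

open Matrix Cfsg.Agent.Lib.Helper68_MatGrp Cfsg.Agent.Lib.Helper27_StSUDefs
  Cfsg.Agent.Lib.Helper27_StSUBasic

variable {n : ℕ} {F : Type*} [Field F] (σ : F →+* F)

/-- the middle index is the only fixed point of `Fin.rev` -/
theorem eq_mid {c x : Fin n} (hc : c = Fin.rev c) (hx : x = Fin.rev x) : x = c := by
  have h1 := congrArg Fin.val hc
  have h2 := congrArg Fin.val hx
  rw [Fin.val_rev] at h1 h2
  apply Fin.ext
  omega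

theorem lt_mid {c x : Fin n} (hc : c = Fin.rev c) (hx : x < Fin.rev x) : x < c ∧ c < Fin.rev x := by
  have h1 := congrArg Fin.val hc
  rw [Fin.val_rev] at h1
  have h2 : x.val < (Fin.rev x).val := hx
  rw [Fin.val_rev] at h2
  constructor
  · show x.val < c.val
    omega
  · show c.val < (Fin.rev x).val
    rw [Fin.val_rev]
    omega

/-- one half of (R2) for the type Q root -/
theorem conj_xQ_mem (c : Fin n) (hc : c = Fin.rev c) (g : ↥(SUJ n σ)) (π : Equiv.Perm (Fin n))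
    (hg : IsMono (φ n σ) g π) (hrev : ∀ a, π (Fin.rev a) = Fin.rev (π a)) (hπc : π c = c)
    (j : Fin n) (hlt : π⁻¹ j < Fin.rev (π⁻¹ j)) (a b : F)
    (hval : (xQ σ j c a b).1.1 = xQm σ j c a b) : g⁻¹ * xQ σ j c a b * g ∈ Bsu n σ := by
  obtain ⟨hl1, hl2⟩ := lt_mid hc hlt
  have hπj : π (π⁻¹ j) = j := by simp
  have hπj' : π (Fin.rev (π⁻¹ j)) = Fin.rev j := by rw [hrev, hπj]
  rw [mem_Bsu]
  intro u v huv
  have h1 := hg.conj_apply (xQ σ j c a b) u v
  simp only [φ_apply] at h1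
  rw [h1, hval]
  have hne : π u ≠ π v := fun h => (ne_of_gt huv) (π.injective h)
  have hz : xQm σ j c a b (π u) (π v) = 0 := by
    unfold xQm
    rw [Matrix.add_apply, Matrix.sub_apply, Matrix.add_apply, Matrix.one_apply_ne hne,
      Matrix.single_apply_of_ne, Matrix.single_apply_of_ne, Matrix.single_apply_of_ne]
    · ring
    · -- `(j, rev j)`
      rintro ⟨e1, e2⟩
      have hu : u = π⁻¹ j := by rw [e1]; simp
      have hv : v = Fin.rev (π⁻¹ j) := π.injective (by rw [hπj', e2])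
      rw [hu, hv] at huv
      exact lt_asymm huv hlt
    · -- `(c, rev j)`
      rintro ⟨e1, e2⟩
      have hu : u = c := π.injective (by rw [hπc, e1])
      have hv : v = Fin.rev (π⁻¹ j) := π.injective (by rw [hπj', e2])
      rw [hu, hv] at huv
      exact lt_asymm huv hl2
    · -- `(j, c)`
      rintro ⟨e1, e2⟩
      have hu : u = π⁻¹ j := by rw [e1]; simp
      have hv : v = c := π.injective (by rw [hπc, e2])
      rw [hu, hv] at huv
      exact lt_asymm huv hl1
  rw [hz, mul_zero, zero_mul]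

/-- R2Q with the VAL lemma of MEMQ as a hypothesis -/
theorem r2Q_of (hσ : ∀ x, σ (σ x) = x) (i c : Fin n) (hc : c = Fin.rev c) (hic : i ≠ c)
    (g : ↥(SUJ n σ)) (π : Equiv.Perm (Fin n)) (hg : IsMono (φ n σ) g π)
    (hrev : ∀ a, π (Fin.rev a) = Fin.rev (π a))
    (hval : ∀ j : Fin n, j ≠ c → ∀ a b : F, b + σ b + a * σ a = 0 →
      (xQ σ j c a b).1.1 = xQm σ j c a b) :
    (∀ a b : F, b + σ b + a * σ a = 0 → g⁻¹ * xQ σ i c a b * g ∈ Bsu n σ) ∨
      (∀ a b : F, b + σ b + a * σ a = 0 → g⁻¹ * xQ σ (Fin.rev i) c a b * g ∈ Bsu n σ) := by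
  have hπc : π c = c := by
    apply eq_mid hc
    conv_lhs => rw [hc]
    exact hrev c
  have hπi : π (π⁻¹ i) = i := by simp
  have hric : Fin.rev i ≠ c := by
    intro h
    apply hic
    rw [hc, ← h, Fin.rev_rev]
  have hne : π⁻¹ i ≠ Fin.rev (π⁻¹ i) := by
    intro h
    have h1 : π⁻¹ i = c := eq_mid hc h
    apply hic
    rw [← hπi, h1, hπc]
  have hinv : π⁻¹ (Fin.rev i) = Fin.rev (π⁻¹ i) := by
    apply π.injective
    rw [hrev, hπi]
    simp
  rcases lt_or_gt_of_ne hne with hlt | hgt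
  · left
    intro a b hab
    exact conj_xQ_mem σ c hc g π hg hrev hπc i hlt a b (hval i hic a b hab)
  · right
    intro a b hab
    apply conj_xQ_mem σ c hc g π hg hrev hπc (Fin.rev i) _ a b (hval _ hric a b hab)
    rw [hinv, Fin.rev_rev]
    exact hgt

/-- R2Q -/
theorem r2Q (hσ : ∀ x, σ (σ x) = x) (i c : Fin n) (hc : c = Fin.rev c) (hic : i ≠ c) (g : ↥(SUJ n σ))
    (π : Equiv.Perm (Fin n)) (hg : IsMono (φ n σ) g π) (hrev : ∀ a, π (Fin.rev a) = Fin.rev (π a)) :
    (∀ a b : F, b + σ b + a * σ a = 0 → g⁻¹ * xQ σ i c a b * g ∈ Bsu n σ) ∨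
      (∀ a b : F, b + σ b + a * σ a = 0 → g⁻¹ * xQ σ (Fin.rev i) c a b * g ∈ Bsu n σ) :=
  r2Q_of σ hσ i c hc hic g π hg hrev
    (fun j hj a b hab =>
      mkE_val σ (Cfsg.Agent.Lib.Helper99_StSU_MEMQ.xQm_mem σ hσ j c hc hj a b hab).1
        (Cfsg.Agent.Lib.Helper99_StSU_MEMQ.xQm_mem σ hσ j c hc hj a b hab).2)

end Cfsg.Agent.Lib.Helper10_StSU_R2Q
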