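import Mathlib
import Cfsg.Agent.Lib.Helper95_FeitDefs
import Cfsg.Agent.Lib.Helper6_Zassenhaus
import Cfsg.Agent.Lib.Helper75_Induced

/-!
# Feit's theorem on Zassenhaus groups (S0885), package PB2 (for helper95)

Induced class functions on the point stabiliser `N = G_a` in the nice case:
`Ind β = β` on `H \ 1` and `Ind β x = β x + β x⁻¹` for `x ∈ N \ H`.
-/

set_option autoImplicit false
set_option linter.unusedSectionVars false

namespace Cfsg.Agent.Lib.Helper11_Feit_PB2

open Cfsg MulAction Cfsg.Agent.Lib.Helper95_FeitDefs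

universe u v

variable {G : Type u} {Ω : Type v} [Group G] [Fintype G] [MulAction G Ω] [Fintype Ω]
  {a b : Ω} {H : Subgroup G} {h e : ℕ}

/-- `H` is the whole Frobenius kernel of the point stabiliser -/
theorem kset_subset_H (hN : Nice G Ω a b H h e) :
    Cfsg.Agent.Lib.Helper6_Zassenhaus.Kset G a ⊆ (H : Set G) := by
  classical
  have hz := Cfsg.Agent.Lib.Helper6_Zassenhaus.zhyp_of_isZassenhausGroup hN.zass
  obtain ⟨K, hK, htr⟩ := Cfsg.Agent.Lib.Helper6_Zassenhaus.exists_K hz a
  have hmemK : ∀ k : G, k ∈ K ↔ k ∈ Cfsg.Agent.Lib.Helper6_Zassenhaus.Kset G a := by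
    intro k
    rw [← hK]; rfl
  have hHK : H ≤ K := by
    intro u hu
    rw [hmemK]
    refine ⟨hN.H_le hu, ?_⟩
    by_cases hu1 : u = 1
    · exact Or.inl hu1
    · exact Or.inr (fun c hc hfix => hc (hN.H_fix u hu hu1 c hfix))
  have hba : b ≠ a := hN.hab.symm
  have hkb : ∀ k : K, (k : G) • b ≠ a := by
    intro k hk
    have hka : (k : G) • a = a := ((hmemK k).1 k.2).1
    exact hba (smul_left_cancel (k : G) (hk.trans hka.symm))
  have hbij : Function.Bijective (fun k : K => (⟨(k : G) • b, hkb k⟩ : {c : Ω // c ≠ a})) := by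
    constructor
    · intro k₁ k₂ h12
      have h12' : (k₁ : G) • b = (k₂ : G) • b := congrArg Subtype.val h12
      have hfix : ((k₂⁻¹ * k₁ : K) : G) • b = b := by
        rw [Subgroup.coe_mul, Subgroup.coe_inv, mul_smul, h12', inv_smul_smul]
      have hmem := (hmemK _).1 (k₂⁻¹ * k₁ : K).2
      rcases hmem.2 with h1 | h1
      · have : (k₂⁻¹ * k₁ : K) = 1 := Subtype.ext h1
        have h2 : k₁ = k₂ * (k₂⁻¹ * k₁) := by group
        rw [h2, this, mul_one]
      · exact absurd hfix (h1 b hba)
    · rintro ⟨c, hc⟩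
      obtain ⟨k, hk, hkc⟩ := htr b c hba hc
      exact ⟨⟨k, hk⟩, Subtype.ext hkc⟩
  have hcardK : Nat.card K = h := by
    rw [Nat.card_eq_of_bijective _ hbij, Nat.card_eq_fintype_card]
    have h2 : Fintype.card {c : Ω // c ≠ a} = Fintype.card Ω - 1 := by
      rw [Fintype.card_subtype_compl (fun c : Ω => c = a), Fintype.card_subtype_eq]
    rw [h2, hN.card_Ω]; simp
  have hfin : Finite K := inferInstance
  have hEq : H = K := Subgroup.eq_of_le_of_card_ge hHK (by rw [hcardK, hN.card_H])
  intro k hk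
  rw [hEq]
  exact (hmemK k).2 hk

open scoped Classical in
theorem sum_ite_stab (v : ℂ) :
    ∑ g : G, (if g • a = a then v else 0) = (Nat.card (stabilizer G a) : ℂ) * v := by
  classical
  rw [Finset.sum_ite, Finset.sum_const, Finset.sum_const_zero, add_zero, nsmul_eq_mul]
  congr 2
  rw [Nat.card_eq_fintype_card, Fintype.card_subtype]
  congr 1

open scoped Classical in
theorem sum_ite_smul_eq {c : Ω} {t : G} (ht : t • a = c) (v : ℂ) :
    ∑ g : G, (if g • a = c then v else 0) = (Nat.card (stabilizer G a) : ℂ) * v := by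
  classical
  rw [← sum_ite_stab (a := a) v, ← Fintype.sum_equiv (Equiv.mulLeft t)
    (fun g => if (t * g) • a = c then v else 0) (fun g => if g • a = c then v else 0)
    (fun g => rfl)]
  refine Finset.sum_congr rfl (fun g _ => ?_)
  have : (t * g) • a = c ↔ g • a = a := by
    rw [mul_smul, ← ht]
    exact ⟨fun h => smul_left_cancel t h, fun h => by rw [h]⟩
  simp only [this]

/-- **PB2** -/
theorem PB2 (hN : Nice G Ω a b H h e) :
    (∀ β : stabilizer G a → ℂ, Cfsg.IsClassFunction (stabilizer G a) β →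
      ∀ x : stabilizer G a, (x : G) ∈ H → x ≠ 1 → Cfsg.indFun (stabilizer G a) β x = β x) ∧
    (∀ β : stabilizer G a → ℂ, Cfsg.IsClassFunction (stabilizer G a) β →
      ∀ x : stabilizer G a, (x : G) ∉ H → Cfsg.indFun (stabilizer G a) β x = β x + β x⁻¹) := by
  classical
  have hz := Cfsg.Agent.Lib.Helper6_Zassenhaus.zhyp_of_isZassenhausGroup hN.zass
  have hcardN : (Nat.card (stabilizer G a) : ℂ) ≠ 0 :=
    Nat.cast_ne_zero.mpr Nat.card_pos.ne'
  -- the terms coming from `g ∈ N`
  have hin : ∀ (β : stabilizer G a → ℂ), Cfsg.IsClassFunction (stabilizer G a) β →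
      ∀ (x : stabilizer G a) (g : G), g • a = a →
      Cfsg.extendByZero (stabilizer G a) β (g⁻¹ * (x : G) * g) = β x := by
    intro β hβ x g hg
    have hgN : g ∈ stabilizer G a := hg
    have h1 : g⁻¹ * (x : G) * g =
        (((⟨g, hgN⟩ : stabilizer G a)⁻¹ * x * (⟨g, hgN⟩ : stabilizer G a) : stabilizer G a) : G) :=
      rfl
    rw [h1, Cfsg.Agent.Lib.Helper75_Induced.extendByZero_coe]
    have h2 := hβ x (⟨g, hgN⟩ : stabilizer G a)⁻¹
    rw [inv_inv] at h2
    exact h2
  -- membership of a conjugate in `N`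
  have hmem : ∀ (x : stabilizer G a) (g : G), g⁻¹ * (x : G) * g ∈ stabilizer G a →
      (x : G) • g • a = g • a := by
    intro x g hg
    have h1 : (g⁻¹ * (x : G) * g) • a = a := hg
    calc (x : G) • g • a = g • ((g⁻¹ * (x : G) * g) • a) := by
          simp only [mul_smul, smul_inv_smul]
      _ = g • a := by rw [h1]
  refine ⟨?_, ?_⟩
  · intro β hβ x hxH hx1
    have hx1' : (x : G) ≠ 1 := fun h => hx1 (Subtype.ext h)
    rw [Cfsg.Agent.Lib.Helper75_Induced.indFun_apply (stabilizer G a) β (x : G)]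
    have hterm : ∀ g : G, Cfsg.extendByZero (stabilizer G a) β (g⁻¹ * (x : G) * g) =
        if g • a = a then β x else 0 := by
      intro g
      split_ifs with hg
      · exact hin β hβ x g hg
      · apply Cfsg.Agent.Lib.Helper75_Induced.extendByZero_of_not_mem
        intro hm
        exact hg (hN.H_fix x hxH hx1' _ (hmem x g hm))
    simp_rw [hterm]
    rw [sum_ite_stab, ← mul_assoc, inv_mul_cancel₀ hcardN, one_mul]
  · intro β hβ x hxH
    have hx1 : (x : G) ≠ 1 := fun h => hxH (h ▸ H.one_mem)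
    have hxK : (x : G) ∉ Cfsg.Agent.Lib.Helper6_Zassenhaus.Kset G a :=
      fun hk => hxH (kset_subset_H hN hk)
    have hxa : (x : G) • a = a := x.2
    obtain ⟨c, hca, hxc⟩ : ∃ c, c ≠ a ∧ (x : G) • c = c := by
      by_contra hcon
      push Not at hcon
      exact hxK ⟨hxa, Or.inr hcon⟩
    obtain ⟨t, hta, htc⟩ := hz.two (a := a) (b := c) (c := c) (d := a) hca.symm hca
    have htt : t * t = 1 := hN.swap_sq t a c hca.symm hta htc
    have htx : (t * (x : G)) * (t * (x : G)) = 1 :=
      hN.swap_sq (t * (x : G)) a c hca.symm (by rw [mul_smul, hxa, hta])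
        (by rw [mul_smul, hxc, htc])
    have htinv : t⁻¹ = t := inv_eq_of_mul_eq_one_right htt
    have hconj : t⁻¹ * (x : G) * t = (x : G)⁻¹ := by
      rw [htinv]
      have h1 : (x : G)⁻¹ = t * (x : G) * t * ((x : G) * (x : G)⁻¹) := by
        rw [mul_inv_cancel, mul_one]
        have : t * (x : G) * t * (x : G) = 1 := by rw [← htx]; group
        exact (eq_inv_of_mul_eq_one_left this).symm ▸ rfl
      rw [h1, mul_inv_cancel, mul_one]
    have htinva : t⁻¹ • c = a := by rw [← hta, inv_smul_smul]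
    have hterm : ∀ g : G, Cfsg.extendByZero (stabilizer G a) β (g⁻¹ * (x : G) * g) =
        (if g • a = a then β x else 0) + (if g • a = c then β x⁻¹ else 0) := by
      intro g
      by_cases hg : g • a = a
      · have hgc : ¬ g • a = c := fun h => hca (h.symm.trans hg)
        rw [if_pos hg, if_neg hgc, add_zero]
        exact hin β hβ x g hg
      · rw [if_neg hg, zero_add]
        by_cases hgc : g • a = c
        · rw [if_pos hgc]
          have hn : (t⁻¹ * g) • a = a := by rw [mul_smul, hgc, htinva]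
          have h1 : g⁻¹ * (x : G) * g = (t⁻¹ * g)⁻¹ * ((x⁻¹ : stabilizer G a) : G) * (t⁻¹ * g) := by
            rw [Subgroup.coe_inv, ← hconj]; group
          rw [h1]
          exact hin β hβ x⁻¹ (t⁻¹ * g) hn
        · rw [if_neg hgc]
          apply Cfsg.Agent.Lib.Helper75_Induced.extendByZero_of_not_mem
          intro hm
          exact hx1 (hz.three (x : G) a c (g • a) hca.symm (Ne.symm hgc) (Ne.symm hg) hxa hxc
            (hmem x g hm))
    rw [Cfsg.Agent.Lib.Helper75_Induced.indFun_apply (stabilizer G a) β (x : G)]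
    simp_rw [hterm]
    rw [Finset.sum_add_distrib, sum_ite_stab, sum_ite_smul_eq hta, ← mul_add, ← mul_assoc,
      inv_mul_cancel₀ hcardN, one_mul]

end Cfsg.Agent.Lib.Helper11_Feit_PB2
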