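import Mathlib
import Cfsg.Agent.Lib.Helper95_FeitDefs
import Cfsg.Agent.Lib.Helper6_Zassenhaus

/-!
# Package PB1 of S0885 (helper95's cut): structure of the point stabiliser of a Zassenhaus group
in the nice case.
-/

set_option autoImplicit false
set_option linter.unusedSectionVars false

namespace Cfsg.Agent.Lib.Helper54_Feit_PB1

open Cfsg MulAction Cfsg.Agent.Lib.Helper95_FeitDefs Cfsg.Agent.Lib.Helper6_Zassenhaus

universe u v

section B
variable {G : Type u} {Ω : Type v} [Group G] [Fintype G] [MulAction G Ω] [Fintype Ω]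
  {a b : Ω} {H : Subgroup G} {h e : ℕ}

/-- In the nice case `H` is the Frobenius kernel `Kset G a` of the point stabiliser, and it is
transitive on the other points. -/
theorem H_eq_Kset (hN : Nice G Ω a b H h e) :
    (H : Set G) = Kset G a ∧ ∀ c d, c ≠ a → d ≠ a → ∃ k ∈ H, k • c = d := by
  classical
  have hZ : ZHyp G Ω := zhyp_of_isZassenhausGroup hN.zass
  obtain ⟨K, hKset, hKtr⟩ := exists_K hZ a
  have hba : b ≠ a := hN.hab.symm
  have hHK : H ≤ K := by
    intro u hu
    have : u ∈ (K : Set G) := by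
      rw [hKset]
      refine ⟨hN.H_le hu, ?_⟩
      by_cases h1 : u = 1
      · exact Or.inl h1
      · exact Or.inr fun c hc hfix => hc (hN.H_fix u hu h1 c hfix)
    exact this
  have hKmem : ∀ k ∈ K, k • a = a ∧ (k = 1 ∨ ∀ c, c ≠ a → k • c ≠ c) := by
    intro k hk
    have : k ∈ (K : Set G) := hk
    rw [hKset] at this
    exact this
  have hcardK : Nat.card K = h := by
    have hbij : Function.Bijective (fun k : K => (⟨(k : G) • b, by
        intro hkb
        have h1 := (hKmem k k.2).1
        apply hba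
        have : (k : G) • b = (k : G) • a := by rw [hkb, h1]
        exact smul_left_cancel _ this⟩ : {c : Ω // c ≠ a})) := by
      constructor
      · intro k k' hkk
        have h1 : (k : G) • b = (k' : G) • b := congrArg Subtype.val hkk
        have h2 : ((k' : G)⁻¹ * (k : G)) • b = b := by
          rw [mul_smul, h1, inv_smul_smul]
        have h3 := hKmem _ (K.mul_mem (K.inv_mem k'.2) k.2)
        rcases h3.2 with h4 | h4
        · apply Subtype.ext
          have : (k : G) = (k' : G) * ((k' : G)⁻¹ * (k : G)) := by group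
          rw [this, h4, mul_one]
        · exact absurd h2 (h4 b hba)
      · rintro ⟨c, hc⟩
        obtain ⟨k, hk, hkb⟩ := hKtr b c hba hc
        exact ⟨⟨k, hk⟩, Subtype.ext hkb⟩
    rw [Nat.card_congr (Equiv.ofBijective _ hbij), Nat.card_eq_fintype_card,
      Fintype.card_subtype_compl, Fintype.card_subtype_eq, hN.card_Ω]
    simp
  have hHeq : H = K := by
    apply Subgroup.eq_of_le_of_card_ge hHK
    rw [hcardK, hN.card_H]
  constructor
  · rw [hHeq, hKset]
  · rw [hHeq]; exact hKtr

/-- every element of `G_a` is a product of an element of `H` and an element of `G_a ∩ G_b` -/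
theorem exists_factor (hN : Nice G Ω a b H h e) {n : G} (hn : n ∈ stabilizer G a) :
    ∃ k ∈ H, ∃ y ∈ (stabilizer G a ⊓ stabilizer G b : Subgroup G), n = k * y := by
  obtain ⟨_, htr⟩ := H_eq_Kset hN
  have hna : n • a = a := hn
  have hnb : n • b ≠ a := by
    intro hnb
    apply hN.hab
    have : n • b = n • a := by rw [hnb, hna]
    exact (smul_left_cancel _ this).symm
  obtain ⟨k, hk, hkb⟩ := htr b (n • b) hN.hab.symm hnb
  refine ⟨k, hk, k⁻¹ * n, ?_, by group⟩
  rw [Subgroup.mem_inf]
  constructor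
  · exact Subgroup.mul_mem _ (Subgroup.inv_mem _ (hN.H_le hk)) hn
  · rw [mem_stabilizer_iff, mul_smul, ← hkb, inv_smul_smul]

theorem H_inf_E (hN : Nice G Ω a b H h e) :
    H ⊓ (stabilizer G a ⊓ stabilizer G b) = ⊥ := by
  rw [eq_bot_iff]
  intro x hx
  rw [Subgroup.mem_inf, Subgroup.mem_inf] at hx
  rw [Subgroup.mem_bot]
  by_contra h1
  exact hN.hab (hN.H_fix x hx.1 h1 b hx.2.2).symm

/-- a conjugate of a nonidentity element of `H` lying in `H` comes from the point stabiliser -/
theorem fix_of_conj_mem (hN : Nice G Ω a b H h e) {g x : G} (hx : x ∈ H) (hx1 : x ≠ 1)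
    (hg : g * x * g⁻¹ ∈ H) : g • a = a := by
  apply hN.H_fix _ hg
  · intro h1
    apply hx1
    have : x = g⁻¹ * (g * x * g⁻¹) * g := by group
    rw [this, h1]; group
  · have hxa : x • a = a := hN.H_le hx
    rw [mul_smul, mul_smul, inv_smul_smul, hxa]

theorem conj_mem (hN : Nice G Ω a b H h e) {n x : G} (hn : n ∈ stabilizer G a) (hx : x ∈ H) :
    n * x * n⁻¹ ∈ H := by
  obtain ⟨hset, _⟩ := H_eq_Kset hN
  have hna : n • a = a := hn
  have hxa : x • a = a := hN.H_le hx
  have : n * x * n⁻¹ ∈ (H : Set G) := by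
    rw [hset]
    refine ⟨?_, ?_⟩
    · rw [mul_smul, mul_smul, inv_smul_eq_iff.2 hna.symm, hxa, hna]
    · by_cases h1 : x = 1
      · left; rw [h1]; group
      · right
        intro c hc hfix
        apply hc
        have h2 : x • (n⁻¹ • c) = n⁻¹ • c := by
          rw [mul_smul, mul_smul] at hfix
          exact (inv_smul_eq_iff.2 hfix.symm).symm
        have h3 := hN.H_fix x hx h1 _ h2
        rw [inv_smul_eq_iff] at h3
        rw [h3, hna]
  exact this

theorem exists_ne_one (hN : Nice G Ω a b H h e) : ∃ x ∈ H, x ≠ 1 := by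
  have hZ : ZHyp G Ω := zhyp_of_isZassenhausGroup hN.zass
  obtain ⟨_, htr⟩ := H_eq_Kset hN
  obtain ⟨c, hca, hcb⟩ := exists_third hZ a b hN.hab
  obtain ⟨k, hk, hkb⟩ := htr b c hN.hab.symm hca
  refine ⟨k, hk, ?_⟩
  intro h1
  rw [h1, one_smul] at hkb
  exact hcb hkb.symm

theorem normalizer_eq (hN : Nice G Ω a b H h e) :
    Subgroup.normalizer (H : Set G) = stabilizer G a := by
  ext g
  rw [Subgroup.mem_normalizer_iff]
  constructor
  · intro hg
    obtain ⟨x, hx, hx1⟩ := exists_ne_one hN
    exact fix_of_conj_mem hN hx hx1 ((hg x).1 hx)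
  · intro hg x
    constructor
    · intro hx
      exact conj_mem hN hg hx
    · intro hx
      have := conj_mem hN (Subgroup.inv_mem _ hg) hx
      have h2 : g⁻¹ * (g * x * g⁻¹) * g⁻¹⁻¹ = x := by group
      rw [h2] at this
      exact this

theorem card_stab (hN : Nice G Ω a b H h e) : Nat.card (stabilizer G a) = h * e := by
  have hbij : Function.Bijective
      (fun p : H × (stabilizer G a ⊓ stabilizer G b : Subgroup G) =>
        (⟨(p.1 : G) * (p.2 : G), Subgroup.mul_mem _ (hN.H_le p.1.2) p.2.2.1⟩ : stabilizer G a)) := by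
    constructor
    · rintro ⟨k, y⟩ ⟨k', y'⟩ hkk
      have h1 : (k : G) * (y : G) = (k' : G) * (y' : G) := congrArg Subtype.val hkk
      have h2 : (k' : G)⁻¹ * (k : G) = (y' : G) * (y : G)⁻¹ := by
        have : (k : G) = (k' : G) * (y' : G) * (y : G)⁻¹ := by rw [← h1]; group
        rw [this]; group
      have h3 : (k' : G)⁻¹ * (k : G) ∈ H ⊓ (stabilizer G a ⊓ stabilizer G b) := by
        refine Subgroup.mem_inf.2 ⟨H.mul_mem (H.inv_mem k'.2) k.2, ?_⟩
        rw [h2]
        exact Subgroup.mul_mem _ y'.2 (Subgroup.inv_mem _ y.2)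
      rw [H_inf_E hN, Subgroup.mem_bot] at h3
      have h4 : (k : G) = (k' : G) := by
        have : (k : G) = (k' : G) * ((k' : G)⁻¹ * (k : G)) := by group
        rw [this, h3, mul_one]
      have h5 : (y : G) = (y' : G) := by
        rw [h4] at h1
        exact mul_left_cancel h1
      exact Prod.ext (Subtype.ext h4) (Subtype.ext h5)
    · rintro ⟨n, hn⟩
      obtain ⟨k, hk, y, hy, hny⟩ := exists_factor hN hn
      exact ⟨⟨⟨k, hk⟩, ⟨y, hy⟩⟩, Subtype.ext hny.symm⟩
  rw [← Nat.card_congr (Equiv.ofBijective _ hbij), Nat.card_prod, hN.card_H, hN.card_E]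

/-- **PB1** (structure of the point stabiliser). -/
theorem PB1 (hN : Nice G Ω a b H h e) :
    (∀ n ∈ stabilizer G a, ∀ x ∈ H, n * x * n⁻¹ ∈ H) ∧
    Nat.card (stabilizer G a) = h * e ∧
    (stabilizer G a).index = h + 1 ∧
    1 < e ∧
    (∀ x ∈ H, x ≠ 1 → ∀ n ∈ stabilizer G a, n * x = x * n → n ∈ H) ∧
    Cfsg.IsTISubset (H : Set G) ∧
    Subgroup.normalizer (H : Set G) = stabilizer G a ∧
    H ⊓ (stabilizer G a ⊓ stabilizer G b) = ⊥ ∧
    H ⊔ (stabilizer G a ⊓ stabilizer G b) = stabilizer G a := by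
  have hZ : ZHyp G Ω := zhyp_of_isZassenhausGroup hN.zass
  refine ⟨fun n hn x hx => conj_mem hN hn hx, card_stab hN, ?_, ?_, ?_, ?_, normalizer_eq hN,
    H_inf_E hN, ?_⟩
  · have : IsPretransitive G Ω := ⟨fun x y => by
      by_cases hxy : x = y
      · exact ⟨1, by rw [one_smul, hxy]⟩
      · obtain ⟨g, hg, _⟩ := hZ.two hxy (Ne.symm hxy)
        exact ⟨g, hg⟩⟩
    rw [index_stabilizer_of_transitive, Nat.card_eq_fintype_card, hN.card_Ω]
  · rw [← hN.card_E, Subgroup.one_lt_card_iff_ne_bot]
    obtain ⟨g, hg1, hga, hgb⟩ := exists_fix hZ a b hN.hab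
    intro hbot
    have : g ∈ (stabilizer G a ⊓ stabilizer G b : Subgroup G) := Subgroup.mem_inf.2 ⟨hga, hgb⟩
    rw [hbot, Subgroup.mem_bot] at this
    exact hg1 this
  · intro x hx hx1 n hn hcomm
    obtain ⟨hset, _⟩ := H_eq_Kset hN
    have hna : n • a = a := hn
    have hxa : x • a = a := hN.H_le hx
    have : n ∈ (H : Set G) := by
      rw [hset]
      refine ⟨hna, ?_⟩
      by_cases hn1 : n = 1
      · exact Or.inl hn1
      · right
        intro c hca hnc
        -- `x • c` is fixed by `n`
        have h1 : n • (x • c) = x • c := by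
          rw [← mul_smul, hcomm, mul_smul, hnc]
        have h2 : x • c ≠ a := by
          intro h2
          apply hca
          have : x • c = x • a := by rw [h2, hxa]
          exact smul_left_cancel _ this
        have h3 : x • c = c := by
          by_contra h3
          exact hn1 (hZ.three n a c (x • c) hca.symm (Ne.symm h3) h2.symm hna hnc h1)
        exact hca (hN.H_fix x hx hx1 c h3)
    exact this
  · intro g hg x hx hgx
    by_contra hx1
    apply hg
    rw [normalizer_eq hN]
    exact fix_of_conj_mem hN hx hx1 hgx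
  · apply le_antisymm
    · exact sup_le hN.H_le inf_le_left
    · intro n hn
      obtain ⟨k, hk, y, hy, hny⟩ := exists_factor hN hn
      rw [hny]
      exact Subgroup.mul_mem_sup hk hy

end B

end Cfsg.Agent.Lib.Helper54_Feit_PB1
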