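import Mathlib
import Cfsg.Agent.Lib.Helper95_FeitDefs
import Cfsg.Agent.Lib.Helper6_Zassenhaus

/-!
# Package PB3 of S0885 (helper95's cut): involution counting in a Zassenhaus group (nice case).
-/

set_option autoImplicit false
set_option linter.unusedSectionVars false

namespace Cfsg.Agent.Lib.Helper54_Feit_PB3

open Cfsg MulAction Cfsg.Agent.Lib.Helper95_FeitDefs Cfsg.Agent.Lib.Helper6_Zassenhaus

universe u v

section B
variable {G : Type u} {Ω : Type v} [Group G] [Fintype G] [MulAction G Ω] [Fintype Ω]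
  {a b : Ω} {H : Subgroup G} {h e : ℕ}

lemma natCard_subtype {α : Type*} [Fintype α] (p : α → Prop) [DecidablePred p] :
    Nat.card {x // p x} = (Finset.univ.filter p).card := by
  rw [Nat.card_eq_fintype_card, Fintype.card_subtype]

/-- (1): an element moving `a` whose square fixes `a` is an involution -/
theorem sq_out (hN : Nice G Ω a b H h e) (s : G) (hs : s ∉ stabilizer G a)
    (hss : s * s ∈ stabilizer G a) : s * s = 1 := by
  have h1 : s • a ≠ a := hs
  have h2 : s • (s • a) = a := by
    rw [← mul_smul]; exact hss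
  exact hN.swap_sq s a (s • a) (Ne.symm h1) rfl h2

/-- a nonidentity involution fixes at most one point -/
theorem invol_fix_unique (hN : Nice G Ω a b H h e) {s : G} (hs1 : s ≠ 1) (hss : s * s = 1)
    {c d : Ω} (hc : s • c = c) (hd : s • d = d) : c = d := by
  have hZ : ZHyp G Ω := zhyp_of_isZassenhausGroup hN.zass
  by_contra hcd
  obtain ⟨g, hga, hgb⟩ := hZ.two hN.hab hcd
  -- s' = g⁻¹ s g lies in E
  have hmem : g⁻¹ * s * g ∈ (stabilizer G a ⊓ stabilizer G b : Subgroup G) := by
    rw [Subgroup.mem_inf, mem_stabilizer_iff, mem_stabilizer_iff]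
    constructor
    · rw [mul_smul, mul_smul, hga, hc, ← hga, inv_smul_smul]
    · rw [mul_smul, mul_smul, hgb, hd, ← hgb, inv_smul_smul]
  set y : (stabilizer G a ⊓ stabilizer G b : Subgroup G) := ⟨g⁻¹ * s * g, hmem⟩ with hy
  have hy1 : y ≠ 1 := by
    intro h1
    apply hs1
    have h2 : g⁻¹ * s * g = 1 := congrArg Subtype.val h1
    have : s = g * (g⁻¹ * s * g) * g⁻¹ := by group
    rw [this, h2]; group
  have hy2 : y ^ 2 = 1 := by
    apply Subtype.ext
    show (g⁻¹ * s * g) ^ 2 = 1
    rw [pow_two]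
    have : g⁻¹ * s * g * (g⁻¹ * s * g) = g⁻¹ * (s * s) * g := by group
    rw [this, hss]; group
  have hord : orderOf y = 2 := orderOf_eq_prime hy2 hy1
  have hdvd : 2 ∣ e := by
    rw [← hN.card_E, ← hord]
    exact orderOf_dvd_natCard y
  have := hN.e_odd
  rw [Nat.odd_iff] at this
  omega

/-- (2): the involutions moving `a` -/
theorem card_invol_out (hN : Nice G Ω a b H h e) :
    Nat.card {s : G // s ∉ stabilizer G a ∧ s * s = 1} = h * e := by
  classical
  have hZ : ZHyp G Ω := zhyp_of_isZassenhausGroup hN.zass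
  have ht : ∀ c : {c : Ω // c ≠ a}, ∃ t : G, t • a = c.1 ∧ t • c.1 = a :=
    fun c => hZ.two c.2.symm c.2
  have hu : ∀ c : {c : Ω // c ≠ a}, ∃ u : G, u • a = a ∧ u • b = c.1 :=
    fun c => hZ.two hN.hab c.2.symm
  choose t ht1 ht2 using ht
  choose u hu1 hu2 using hu
  have key : ∀ (c : {c : Ω // c ≠ a}) (y : (stabilizer G a ⊓ stabilizer G b : Subgroup G)),
      (t c * (u c * (y : G) * (u c)⁻¹)) • a = c.1 ∧ (t c * (u c * (y : G) * (u c)⁻¹)) • c.1 = a := by
    intro c y
    have hya : (y : G) • a = a := (Subgroup.mem_inf.1 y.2).1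
    have hyb : (y : G) • b = b := (Subgroup.mem_inf.1 y.2).2
    have h1 : (u c)⁻¹ • a = a := by rw [inv_smul_eq_iff, hu1]
    have h2 : (u c)⁻¹ • c.1 = b := by rw [inv_smul_eq_iff, hu2]
    constructor
    · rw [mul_smul, mul_smul, mul_smul, h1, hya, hu1, ht1]
    · rw [mul_smul, mul_smul, mul_smul, h2, hyb, hu2, ht2]
  have hbij : Function.Bijective
      (fun p : {c : Ω // c ≠ a} × (stabilizer G a ⊓ stabilizer G b : Subgroup G) =>
        (⟨t p.1 * (u p.1 * (p.2 : G) * (u p.1)⁻¹), by
          obtain ⟨k1, k2⟩ := key p.1 p.2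
          refine ⟨?_, ?_⟩
          · intro hmem
            rw [mem_stabilizer_iff, k1] at hmem
            exact p.1.2 hmem
          · exact hN.swap_sq _ a p.1.1 p.1.2.symm k1 k2⟩ :
          {s : G // s ∉ stabilizer G a ∧ s * s = 1})) := by
    constructor
    · rintro ⟨c, y⟩ ⟨c', y'⟩ hcc
      have h1 : t c * (u c * (y : G) * (u c)⁻¹) = t c' * (u c' * (y' : G) * (u c')⁻¹) :=
        congrArg Subtype.val hcc
      have h2 : c = c' := by
        apply Subtype.ext
        rw [← (key c y).1, ← (key c' y').1, h1]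
      subst h2
      have h3 : (y : G) = (y' : G) := by
        have := mul_left_cancel h1
        exact mul_left_cancel (mul_right_cancel this)
      exact Prod.ext rfl (Subtype.ext h3)
    · rintro ⟨s, hs, hss⟩
      have hsa : s • a ≠ a := hs
      set c : {c : Ω // c ≠ a} := ⟨s • a, hsa⟩ with hc
      have hsc : s • c.1 = a := by
        show s • (s • a) = a
        rw [← mul_smul, hss, one_smul]
      have h1 : (t c)⁻¹ • c.1 = a := by rw [inv_smul_eq_iff, ht1]
      have h2 : (t c)⁻¹ • a = c.1 := by rw [inv_smul_eq_iff, ht2]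
      have h3 : (u c)⁻¹ • a = a := by rw [inv_smul_eq_iff, hu1]
      have h4 : (u c)⁻¹ • c.1 = b := by rw [inv_smul_eq_iff, hu2]
      have hy : (u c)⁻¹ * ((t c)⁻¹ * s) * u c ∈ (stabilizer G a ⊓ stabilizer G b : Subgroup G) := by
        rw [Subgroup.mem_inf, mem_stabilizer_iff, mem_stabilizer_iff]
        constructor
        · rw [mul_smul, mul_smul, mul_smul, hu1]
          show (u c)⁻¹ • (t c)⁻¹ • c.1 = a
          rw [h1, h3]
        · rw [mul_smul, mul_smul, mul_smul, hu2, hsc, h2, h4]
      refine ⟨⟨c, ⟨_, hy⟩⟩, ?_⟩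
      apply Subtype.ext
      show t c * (u c * ((u c)⁻¹ * ((t c)⁻¹ * s) * u c) * (u c)⁻¹) = s
      group
  rw [← Nat.card_congr (Equiv.ofBijective _ hbij), Nat.card_prod, hN.card_E,
    Nat.card_eq_fintype_card, Fintype.card_subtype_compl, Fintype.card_subtype_eq, hN.card_Ω]
  simp

/-- (3): `H` contains at most `e + 1` elements of square one -/
theorem card_invol_H (hN : Nice G Ω a b H h e) :
    Nat.card {z : G // z ∈ H ∧ z * z = 1} ≤ e + 1 := by
  classical
  have hZ : ZHyp G Ω := zhyp_of_isZassenhausGroup hN.zass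
  set I : Finset G := Finset.univ.filter (fun s => s * s = 1) with hI
  set A : Ω → ℕ := fun c => (Finset.univ.filter fun s : G => s * s = 1 ∧ s • c = c).card with hA
  set Fx : G → ℕ := fun s => (Finset.univ.filter fun c : Ω => s • c = c).card with hFx
  -- step a
  have stepa : ∀ c, A c = A a := by
    intro c
    obtain ⟨g, hg⟩ : ∃ g : G, g • a = c := by
      by_cases hca : a = c
      · exact ⟨1, by rw [one_smul, hca]⟩
      · obtain ⟨g, hg, _⟩ := hZ.two hca (Ne.symm hca)
        exact ⟨g, hg⟩
    symm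
    apply Finset.card_bij (fun s _ => g * s * g⁻¹)
    · intro s hs
      rw [Finset.mem_filter] at hs ⊢
      refine ⟨Finset.mem_univ _, ?_, ?_⟩
      · have : g * s * g⁻¹ * (g * s * g⁻¹) = g * (s * s) * g⁻¹ := by group
        rw [this, hs.2.1]; group
      · rw [mul_smul, mul_smul, ← hg, inv_smul_smul, hs.2.2]
    · intro s _ s' _ hss
      exact mul_left_cancel (mul_right_cancel hss)
    · intro s hs
      rw [Finset.mem_filter] at hs
      refine ⟨g⁻¹ * s * g, ?_, by group⟩
      rw [Finset.mem_filter]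
      refine ⟨Finset.mem_univ _, ?_, ?_⟩
      · have : g⁻¹ * s * g * (g⁻¹ * s * g) = g⁻¹ * (s * s) * g := by group
        rw [this, hs.2.1]; group
      · rw [mul_smul, mul_smul, hg, hs.2.2, ← hg, inv_smul_smul]
  -- step b
  have stepb : ∑ c, A c = ∑ s ∈ I, Fx s := by
    simp only [hA, hFx, Finset.card_filter]
    rw [Finset.sum_comm, hI, Finset.sum_filter]
    refine Finset.sum_congr rfl fun s _ => ?_
    by_cases hs : s * s = 1
    · simp [hs]
    · simp [hs]
  -- step c
  have h1I : (1 : G) ∈ I := by simp [hI]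
  have hFx1 : Fx 1 = h + 1 := by
    simp only [hFx, one_smul, Finset.filter_true, Finset.card_univ]
    exact hN.card_Ω
  have stepc : ∑ s ∈ I, Fx s ≤ (h + 1) + (I.card - 1) := by
    rw [← Finset.add_sum_erase I Fx h1I, hFx1]
    apply Nat.add_le_add_left
    calc ∑ s ∈ I.erase 1, Fx s ≤ ∑ s ∈ I.erase 1, 1 := by
          apply Finset.sum_le_sum
          intro s hs
          rw [Finset.mem_erase, hI, Finset.mem_filter] at hs
          apply Finset.card_le_one.2
          intro c hc d hd
          rw [Finset.mem_filter] at hc hd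
          exact invol_fix_unique hN hs.1 hs.2.2 hc.2 hd.2
      _ = I.card - 1 := by
          rw [Finset.sum_const, Finset.card_erase_of_mem h1I]; simp
  -- step d
  have stepd : I.card = A a + h * e := by
    rw [← Finset.card_filter_add_card_filter_not (s := I) (fun s => s • a = a)]
    congr 1
    · rw [hI, Finset.filter_filter]
    · rw [← card_invol_out hN, natCard_subtype, hI, Finset.filter_filter]
      congr 1
      ext s
      simp only [Finset.mem_filter, Finset.mem_univ, true_and, mem_stabilizer_iff]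
      tauto
  -- step e
  have hsum : ∑ c : Ω, A c = (h + 1) * A a := by
    rw [Finset.sum_congr rfl (fun c _ => stepa c), Finset.sum_const, Finset.card_univ, hN.card_Ω,
      smul_eq_mul]
  have hIpos : 1 ≤ I.card := Finset.card_pos.2 ⟨1, h1I⟩
  have hhpos : 0 < h := by
    rw [← hN.card_H]
    exact Nat.card_pos
  have hAle : A a ≤ e + 1 := by
    have h1 : (h + 1) * A a ≤ (h + 1) + (I.card - 1) := by
      rw [← hsum, stepb]; exact stepc
    have h2 : (h + 1) * A a ≤ h + (A a + h * e) := by
      rw [← stepd]; omega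
    have h3 : h * A a ≤ h * (e + 1) := by nlinarith
    exact Nat.le_of_mul_le_mul_left h3 hhpos
  -- step f
  refine le_trans ?_ hAle
  rw [natCard_subtype]
  apply Finset.card_le_card
  intro z hz
  rw [Finset.mem_filter] at hz ⊢
  exact ⟨Finset.mem_univ _, hz.2.2, hN.H_le hz.2.1⟩

/-- **PB3** (involution counting). -/
theorem PB3 (hN : Nice G Ω a b H h e) :
    (∀ s : G, s ∉ stabilizer G a → s * s ∈ stabilizer G a → s * s = 1) ∧
    Nat.card {s : G // s ∉ stabilizer G a ∧ s * s = 1} = h * e ∧
    Nat.card {z : G // z ∈ H ∧ z * z = 1} ≤ e + 1 :=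
  ⟨sq_out hN, card_invol_out hN, card_invol_H hN⟩

end B

end Cfsg.Agent.Lib.Helper54_Feit_PB3
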