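import Mathlib
import Cfsg.Agent.Lib.Helper95_FeitDefs
import Cfsg.Agent.Lib.Helper6_Zassenhaus
import Cfsg.Agent.Lib.Helper10_Feit_PA
import Cfsg.Agent.Lib.Helper54_Feit_PB1
import Cfsg.Agent.Lib.Helper11_Feit_PB2
import Cfsg.Agent.Lib.Helper54_Feit_PB3
import Cfsg.Agent.S0739
import Cfsg.Agent.S0882

/-!
# SUZ-G1 (helper10, for helper6): `ZData` from the Zassenhaus hypotheses

A simple Zassenhaus group whose point stabiliser has a normal `2`-subgroup `U` regular on the other
points: the nice-case structure `ZData (stabilizer G x) U h e`.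
-/

set_option autoImplicit false

namespace Cfsg.Agent.Lib.Helper10_Suz_G1

open Cfsg MulAction Cfsg.Agent.Lib.Helper95_FeitDefs Cfsg.Agent.Lib.Helper6_Zassenhaus

universe u v

/-- Burnside count for a group fixing two points and acting freely elsewhere -/
theorem card_add_eq {E X : Type*} [Group E] [Fintype E] [MulAction E X] [Fintype X]
    {x y : X} (hxy : x ≠ y) (hx : ∀ g : E, g • x = x) (hy : ∀ g : E, g • y = y)
    (h3 : ∀ g : E, g ≠ 1 → ∀ z, g • z = z → z = x ∨ z = y) :
    ∃ m : ℕ, Fintype.card X + 2 * Fintype.card E = m * Fintype.card E + 2 := by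
  classical
  have hB := MulAction.sum_card_fixedBy_eq_card_orbits_mul_card_group E X
  have hterm : ∀ g : E, Fintype.card (MulAction.fixedBy X g) =
      if g = 1 then Fintype.card X else 2 := by
    intro g
    split_ifs with hg
    · subst hg
      rw [Fintype.card_of_subtype Finset.univ (by simp)]
      rfl
    · rw [Fintype.card_of_subtype {x, y}]
      · exact Finset.card_pair hxy
      · intro z
        rw [MulAction.mem_fixedBy, Finset.mem_insert, Finset.mem_singleton]
        constructor
        · rintro (rfl | rfl)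
          · exact hx g
          · exact hy g
        · exact h3 g hg z
  simp only [hterm] at hB
  rw [← Finset.add_sum_erase Finset.univ _ (Finset.mem_univ (1 : E)), if_pos rfl] at hB
  have hrest : ∑ g ∈ (Finset.univ : Finset E).erase 1, (if g = 1 then Fintype.card X else 2)
      = (Fintype.card E - 1) * 2 := by
    rw [Finset.sum_congr rfl (fun g hg => if_neg (Finset.ne_of_mem_erase hg)), Finset.sum_const,
      Finset.card_erase_of_mem (Finset.mem_univ _), Finset.card_univ, smul_eq_mul]
  rw [hrest] at hB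
  refine ⟨Fintype.card (Quotient (MulAction.orbitRel E X)), ?_⟩
  have hpos : 0 < Fintype.card E := Fintype.card_pos
  obtain ⟨c, hc⟩ : ∃ c, c = Fintype.card (Quotient (MulAction.orbitRel E X)) * Fintype.card E :=
    ⟨_, rfl⟩
  rw [← hc] at hB ⊢
  omega

/-- SUZ-G1 -/
theorem G1 {G : Type u} {Ω : Type v} [Group G] [Fintype G] [MulAction G Ω] [Fintype Ω]
    (hZ : Cfsg.IsZassenhausGroup G Ω) [IsSimpleGroup G] (x : Ω) (U : Subgroup G)
    (hUle : U ≤ stabilizer G x)
    (hUn : ∀ n ∈ stabilizer G x, ∀ u ∈ U, n * u * n⁻¹ ∈ U)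
    (hU2 : IsPGroup 2 U)
    (hreg : ∀ y z : Ω, y ≠ x → z ≠ x → ∃! u : U, (u : G) • y = z) :
    ∃ h e : ℕ, ZData (stabilizer G x) U h e ∧ Fintype.card Ω = h + 1 ∧
      ∀ y : Ω, y ≠ x →
        Nat.card ↥(stabilizer G x ⊓ stabilizer G y : Subgroup G) = e ∧
        IsCyclic ↥(stabilizer G x ⊓ stabilizer G y : Subgroup G) ∧
        U ⊓ (stabilizer G x ⊓ stabilizer G y) = ⊥ ∧
        U ⊔ (stabilizer G x ⊓ stabilizer G y) = stabilizer G x := by
  classical
  have _ := hUn
  have hz := zhyp_of_isZassenhausGroup hZ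
  -- a second and a third point
  obtain ⟨y₀, hy₀⟩ : ∃ y₀ : Ω, y₀ ≠ x := by
    obtain ⟨g, -, a, b, hab, -, -⟩ := hz.fix
    by_cases ha : a = x
    · exact ⟨b, fun hb => hab (ha.trans hb.symm)⟩
    · exact ⟨a, ha⟩
  obtain ⟨c, hcx, hcy⟩ := exists_third hz x y₀ (Ne.symm hy₀)
  -- `U` is regular on the other points
  have hfix : ∀ u : U, (u : G) • x = x := fun u => hUle u.2
  have hne : ∀ u : U, (u : G) • y₀ ≠ x := by
    intro u h
    have : (u : G) • y₀ = (u : G) • x := by rw [h, hfix u]
    exact hy₀ (smul_left_cancel _ this)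
  have hcard : Fintype.card Ω = Nat.card U + 1 := by
    have hbij : Function.Bijective (fun u : U => (⟨(u : G) • y₀, hne u⟩ : {z : Ω // z ≠ x})) := by
      constructor
      · intro u v huv
        have h1 : (u : G) • y₀ = (v : G) • y₀ := congrArg Subtype.val huv
        obtain ⟨w, -, hw⟩ := hreg y₀ ((v : G) • y₀) hy₀ (hne v)
        rw [hw u h1, hw v rfl]
      · rintro ⟨z, hz'⟩
        obtain ⟨u, hu, -⟩ := hreg y₀ z hy₀ hz'
        exact ⟨u, Subtype.ext hu⟩
    have h1 : Nat.card U = Fintype.card {z : Ω // z ≠ x} := by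
      rw [Nat.card_eq_fintype_card]
      exact Fintype.card_of_bijective hbij
    have h2 : Fintype.card {z : Ω // z ≠ x} = Fintype.card Ω - 1 := by
      rw [Fintype.card_subtype_compl, Fintype.card_subtype_eq]
    have h3 : 0 < Fintype.card Ω := Fintype.card_pos_iff.2 ⟨x⟩
    omega
  obtain ⟨h, hh⟩ : ∃ h, h = Nat.card U := ⟨_, rfl⟩
  have h3le : 3 ≤ Fintype.card Ω := by
    have := Finset.card_le_univ ({x, y₀, c} : Finset Ω)
    rw [Finset.card_insert_of_notMem, Finset.card_pair (Ne.symm hcy)] at this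
    · exact this
    · rw [Finset.mem_insert, Finset.mem_singleton]
      rintro (h | h)
      · exact hy₀ h.symm
      · exact hcx h.symm
  have heven : Even h := by
    obtain ⟨k, hk⟩ := hU2.exists_card_eq
    rw [← hh] at hk
    have hk0 : k ≠ 0 := by
      rintro rfl
      rw [pow_zero] at hk
      omega
    rw [hk]
    exact (Nat.even_pow' hk0).2 even_two
  -- the nice structure for every second point
  have key : ∀ y : Ω, y ≠ x →
      Nice G Ω x y U h (Nat.card ↥(stabilizer G x ⊓ stabilizer G y : Subgroup G)) ∧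
      IsCyclic ↥(stabilizer G x ⊓ stabilizer G y : Subgroup G) := by
    intro y hy
    have hxy : x ≠ y := Ne.symm hy
    have hB := card_add_eq (E := ↥(stabilizer G x ⊓ stabilizer G y : Subgroup G)) (X := Ω) hxy
      (fun g => by rw [Subgroup.smul_def]; exact g.2.1)
      (fun g => by rw [Subgroup.smul_def]; exact g.2.2)
      (fun g hg z hgz => by
        by_contra hcon
        push Not at hcon
        apply hg
        apply Subtype.ext
        rw [Subgroup.smul_def] at hgz
        exact hz.three (g : G) x y z hxy (Ne.symm hcon.2) (Ne.symm hcon.1) g.2.1 g.2.2 hgz)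
    obtain ⟨m, hm⟩ := hB
    rw [← Nat.card_eq_fintype_card (α := ↥(stabilizer G x ⊓ stabilizer G y : Subgroup G))] at hm
    have hodd : Odd (Nat.card ↥(stabilizer G x ⊓ stabilizer G y : Subgroup G)) := by
      by_contra hne'
      rw [Nat.not_odd_iff_even] at hne'
      obtain ⟨e', he'⟩ := hne'
      obtain ⟨h', hh'⟩ := heven
      rw [he'] at hm
      have : m * (e' + e') = 2 * (m * e') := by ring
      rw [this] at hm
      omega
    have hS := Cfsg.Agent.S0739.result hZ hxy hodd (Cfsg.Agent.S0882.hnil_of_simple hz hxy hodd)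
    refine ⟨?_, hS.1⟩
    exact
      { zass := hZ
        hab := hxy
        card_Ω := by omega
        card_E := rfl
        e_odd := hodd
        H_le := hUle
        card_H := hh.symm
        H_fix := by
          intro u hu hu1 d hd
          by_contra hdx
          obtain ⟨w, -, hw⟩ := hreg d d hdx hdx
          have h1 := hw ⟨u, hu⟩ hd
          have h2 := hw 1 (by simp)
          apply hu1
          have := h1.trans h2.symm
          exact congrArg Subtype.val this
        swap_sq := Cfsg.Agent.Lib.Helper10_Feit_PA.swap_sq_of_invert hz hxy hodd hS.2.2 }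
  obtain ⟨hN₀, -⟩ := key y₀ hy₀
  obtain ⟨b1, b2, b3, b4, b5, b6, b7, -, -⟩ := Cfsg.Agent.Lib.Helper54_Feit_PB1.PB1 hN₀
  obtain ⟨c1, c2⟩ := Cfsg.Agent.Lib.Helper11_Feit_PB2.PB2 hN₀
  obtain ⟨d1, d2, d3⟩ := Cfsg.Agent.Lib.Helper54_Feit_PB3.PB3 hN₀
  have hD : ZData (stabilizer G x) U h
      (Nat.card ↥(stabilizer G x ⊓ stabilizer G y₀ : Subgroup G)) :=
    { H_le := hN₀.H_le
      H_normal := b1
      card_H := hN₀.card_H
      card_N := b2
      index_N := b3
      e_odd := hN₀.e_odd
      one_lt_e := b4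
      frob := b5
      ti := b6
      normalizer_eq := b7
      ind_H := c1
      ind_off := c2
      sq_out := d1
      card_invol_out := d2
      invol_H := d3 }
  refine ⟨h, _, hD, by omega, fun y hy => ?_⟩
  obtain ⟨hNy, hcyc⟩ := key y hy
  obtain ⟨-, b2', -, -, -, -, -, b8', b9'⟩ := Cfsg.Agent.Lib.Helper54_Feit_PB1.PB1 hNy
  refine ⟨?_, hcyc, b8', b9'⟩
  have hpos : 0 < h := by omega
  rw [b2] at b2'
  exact (Nat.eq_of_mul_eq_mul_left hpos b2').symm

end Cfsg.Agent.Lib.Helper10_Suz_G1
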