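import Mathlib

set_option autoImplicit false

/-!
# Theta series of integral quadratic forms: definitions (helper4, row S1632)

`qf B x = x ⬝ᵥ B *ᵥ x`, the theta series `theta B τ = ∑ₓ exp (π i τ qf B x)`, representation numbers,
and the "triangular data" `TriForm n` (an `LDLᵀ`-decomposition of a positive definite real quadratic form on
`ℝⁿ`, built one coordinate at a time) on which the Poisson summation formula is proved by induction.
-/

namespace Cfsg.Agent.Lib.Helper4_ThetaDefs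

open Complex Real Matrix

noncomputable section

/-- the integral quadratic form `x ↦ xᵀ B x` -/
def qf {n : ℕ} (B : Matrix (Fin n) (Fin n) ℤ) (x : Fin n → ℤ) : ℤ := x ⬝ᵥ (B *ᵥ x)

/-- the term of the theta series -/
def thetaTerm {n : ℕ} (B : Matrix (Fin n) (Fin n) ℤ) (τ : ℂ) (x : Fin n → ℤ) : ℂ :=
  cexp (π * I * τ * (qf B x : ℂ))

/-- the theta series `∑ₓ exp (π i τ xᵀBx)` -/
def theta {n : ℕ} (B : Matrix (Fin n) (Fin n) ℤ) (τ : ℂ) : ℂ :=
  ∑' x : Fin n → ℤ, thetaTerm B τ x

/-- the number of representations of `k` by `B` (as a cardinal of a set; `0` if infinite) -/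
def rep {n : ℕ} (B : Matrix (Fin n) (Fin n) ℤ) (k : ℤ) : ℕ :=
  {x : Fin n → ℤ | qf B x = k}.ncard

/-- integer vectors as real vectors -/
def toR {n : ℕ} (x : Fin n → ℤ) : Fin n → ℝ := fun i => (x i : ℝ)

/-- triangular data: a positive definite quadratic form on `ℝⁿ` built one coordinate at a time,
`Q (t, v') = β (t + u ⬝ v')² + Q' v'` -/
inductive TriForm : ℕ → Type
  | nil : TriForm 0
  | cons {n : ℕ} (β : ℝ) (hβ : 0 < β) (u : Fin n → ℝ) (T : TriForm n) : TriForm (n + 1)

/-- the quadratic form of triangular data -/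
def TriForm.Q : {n : ℕ} → TriForm n → (Fin n → ℝ) → ℝ
  | _, .nil, _ => 0
  | _, .cons β _ u T, v => β * (v 0 + u ⬝ᵥ Fin.tail v) ^ 2 + T.Q (Fin.tail v)

/-- the dual quadratic form of triangular data -/
def TriForm.Qd : {n : ℕ} → TriForm n → (Fin n → ℝ) → ℝ
  | _, .nil, _ => 0
  | _, .cons β _ u T, w => (w 0) ^ 2 / β + T.Qd (Fin.tail w - w 0 • u)

/-- half the gradient of `Q` (the "Gram matrix applied to `v`") -/
def TriForm.grad : {n : ℕ} → TriForm n → (Fin n → ℝ) → (Fin n → ℝ)
  | _, .nil, _ => fun i => i.elim0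
  | _, .cons β _ u T, v =>
      Fin.cons (β * (v 0 + u ⬝ᵥ Fin.tail v))
        ((β * (v 0 + u ⬝ᵥ Fin.tail v)) • u + T.grad (Fin.tail v))

/-- the discriminant (product of the pivots) of triangular data -/
def TriForm.disc : {n : ℕ} → TriForm n → ℝ
  | _, .nil => 1
  | _, .cons β _ _ T => β * T.disc

/-- the primal term of the Poisson formula with real characteristics `a, c` -/
def TriForm.pterm {n : ℕ} (T : TriForm n) (a c : Fin n → ℝ) (τ : ℂ) (x : Fin n → ℤ) : ℂ :=
  cexp (π * I * τ * (T.Q (toR x + a) : ℂ) + 2 * π * I * ((c ⬝ᵥ toR x : ℝ) : ℂ))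

/-- the dual term of the Poisson formula with real characteristics `a, c` -/
def TriForm.dterm {n : ℕ} (T : TriForm n) (a c : Fin n → ℝ) (τ : ℂ) (y : Fin n → ℤ) : ℂ :=
  cexp (-π * I / τ * (T.Qd (toR y - c) : ℂ) + 2 * π * I * ((a ⬝ᵥ (toR y - c) : ℝ) : ℂ))

end

end Cfsg.Agent.Lib.Helper4_ThetaDefs
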