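import Mathlib
import Cfsg.Agent.Lib.Helper4_ThetaDefs

set_option autoImplicit false

/-!
# S1632 (architect helper4), package TH-BDD: the theta series is bounded on `1 ≤ Im τ`.
-/

open Complex Real Matrix Cfsg.Agent.Lib.Helper4_ThetaDefs

namespace Cfsg.Agent.Lib.Helper10_TH_BDD

/-- the norm of a term of the theta series -/
theorem norm_thetaTerm {n : ℕ} (B : Matrix (Fin n) (Fin n) ℤ) (τ : ℂ) (x : Fin n → ℤ) :
    ‖thetaTerm B τ x‖ = Real.exp (-(π * τ.im) * (qf B x : ℝ)) := by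
  unfold thetaTerm
  rw [Complex.norm_exp]
  congr 1
  simp only [Complex.mul_re, Complex.mul_im, Complex.I_re, Complex.I_im, Complex.ofReal_re,
    Complex.ofReal_im, Complex.intCast_re, Complex.intCast_im]
  ring

/-- the norms of the terms are summable on the upper half plane -/
theorem summable_norm_thetaTerm {n : ℕ} (B : Matrix (Fin n) (Fin n) ℤ)
    (hsum : ∀ κ : ℝ, 0 < κ → Summable fun x : Fin n → ℤ => Real.exp (-κ * (qf B x : ℝ)))
    {τ : ℂ} (hτ : 0 < τ.im) : Summable fun x : Fin n → ℤ => ‖thetaTerm B τ x‖ := by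
  have h := hsum (π * τ.im) (mul_pos Real.pi_pos hτ)
  refine h.congr ?_
  intro x
  rw [norm_thetaTerm]

theorem theta_bounded {n : ℕ} (B : Matrix (Fin n) (Fin n) ℤ)
    (hnonneg : ∀ x : Fin n → ℤ, 0 ≤ qf B x)
    (hsum : ∀ κ : ℝ, 0 < κ → Summable fun x : Fin n → ℤ => Real.exp (-κ * (qf B x : ℝ))) :
    ∃ M : ℝ, ∀ τ : ℂ, 1 ≤ τ.im → ‖theta B τ‖ ≤ M := by
  refine ⟨∑' x : Fin n → ℤ, Real.exp (-π * (qf B x : ℝ)), ?_⟩
  intro τ hτ
  have hτ0 : 0 < τ.im := lt_of_lt_of_le one_pos hτ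
  have hs := summable_norm_thetaTerm B hsum hτ0
  unfold theta
  refine (norm_tsum_le_tsum_norm hs).trans ?_
  refine hs.tsum_le_tsum ?_ (hsum π Real.pi_pos)
  intro x
  rw [norm_thetaTerm]
  apply Real.exp_le_exp.2
  have hq : (0 : ℝ) ≤ (qf B x : ℝ) := by exact_mod_cast hnonneg x
  have hπ : π ≤ π * τ.im := by
    have := mul_le_mul_of_nonneg_left hτ Real.pi_pos.le
    linarith
  nlinarith [mul_le_mul_of_nonneg_right hπ hq]

end Cfsg.Agent.Lib.Helper10_TH_BDD
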