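import Mathlib
import Cfsg.Agent.Lib.Helper4_ThetaDefs

set_option autoImplicit false

/-!
# S1632 (architect helper4), package TH-USUMQ: uniform summability of the shifted Gaussian sums
`∑_y exp (-κ Q (y + c))` over `ℤⁿ` for the primal form of triangular data, by induction on the data from the
one-dimensional case.
-/

open Complex Real Matrix Cfsg.Agent.Lib.Helper4_ThetaDefs

namespace Cfsg.Agent.Lib.Helper10_TH_USUMQ

/-- `(y', t) ↦ (t, y')` as an equivalence `ℤⁿ × ℤ ≃ ℤⁿ⁺¹` -/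
def consE (n : ℕ) : (Fin n → ℤ) × ℤ ≃ (Fin (n + 1) → ℤ) where
  toFun p := Fin.cons p.2 p.1
  invFun y := (Fin.tail y, y 0)
  left_inv := by
    intro p
    simp [Fin.tail_cons, Fin.cons_zero]
  right_inv := by
    intro y
    exact Fin.cons_self_tail y

theorem consE_apply (n : ℕ) (p : (Fin n → ℤ) × ℤ) : consE n p = Fin.cons p.2 p.1 := rfl

theorem toR_cons_add_zero {n : ℕ} (t : ℤ) (y' : Fin n → ℤ) (c : Fin (n + 1) → ℝ) :
    (toR (Fin.cons t y' : Fin (n + 1) → ℤ) + c) 0 = (t : ℝ) + c 0 := by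
  simp [toR]

theorem tail_toR_cons_add {n : ℕ} (t : ℤ) (y' : Fin n → ℤ) (c : Fin (n + 1) → ℝ) :
    Fin.tail (toR (Fin.cons t y' : Fin (n + 1) → ℤ) + c) = toR y' + Fin.tail c := by
  funext i
  simp [toR, Fin.tail]

/-- a uniformly summable family with a product bound: the abstract induction step -/
theorem step {A : Type*} (F : A → ℤ → ℝ) (G : A → ℝ) (s : A → ℝ) (b : ℝ) (M₁ M' : ℝ)
    (hF : ∀ a t, F a t = Real.exp (-b * ((t : ℝ) + s a) ^ 2) * G a)
    (hG0 : ∀ a, 0 ≤ G a) (hG : Summable G) (hGM : ∑' a, G a ≤ M')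
    (h1 : ∀ r : ℝ, Summable (fun t : ℤ => Real.exp (-b * ((t : ℝ) + r) ^ 2)) ∧
      ∑' t : ℤ, Real.exp (-b * ((t : ℝ) + r) ^ 2) ≤ M₁) :
    Summable (fun p : A × ℤ => F p.1 p.2) ∧ ∑' p : A × ℤ, F p.1 p.2 ≤ M₁ * M' := by
  have hM₁ : 0 ≤ M₁ := le_trans (tsum_nonneg (fun t => (Real.exp_pos _).le)) (h1 0).2
  have hnn : (0 : A × ℤ → ℝ) ≤ fun p : A × ℤ => F p.1 p.2 := by
    intro p
    show 0 ≤ F p.1 p.2
    rw [hF]
    exact mul_nonneg (Real.exp_pos _).le (hG0 _)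
  have hin : ∀ a, Summable fun t : ℤ => F a t := by
    intro a
    have := (h1 (s a)).1.mul_right (G a)
    refine this.congr ?_
    intro t
    rw [hF]
  have hinner : ∀ a, ∑' t : ℤ, F a t = (∑' t : ℤ, Real.exp (-b * ((t : ℝ) + s a) ^ 2)) * G a := by
    intro a
    rw [← tsum_mul_right]
    apply tsum_congr
    intro t
    rw [hF]
  have hle : ∀ a, ∑' t : ℤ, F a t ≤ M₁ * G a := by
    intro a
    rw [hinner]
    exact mul_le_mul_of_nonneg_right (h1 (s a)).2 (hG0 a)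
  have hin0 : ∀ a, 0 ≤ ∑' t : ℤ, F a t := by
    intro a
    apply tsum_nonneg
    intro t
    rw [hF]
    exact mul_nonneg (Real.exp_pos _).le (hG0 _)
  have hout : Summable fun a => ∑' t : ℤ, F a t :=
    Summable.of_nonneg_of_le hin0 hle (hG.mul_left M₁)
  have hsum : Summable (fun p : A × ℤ => F p.1 p.2) :=
    (summable_prod_of_nonneg hnn).2 ⟨hin, hout⟩
  refine ⟨hsum, ?_⟩
  rw [hsum.tsum_prod' hin]
  calc ∑' a, ∑' t : ℤ, F a t ≤ ∑' a, M₁ * G a := hout.tsum_le_tsum hle (hG.mul_left M₁)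
    _ = M₁ * ∑' a, G a := tsum_mul_left
    _ ≤ M₁ * M' := mul_le_mul_of_nonneg_left hGM hM₁

theorem usum_Q (h1 : ∀ b : ℝ, 0 < b → ∃ M : ℝ, ∀ s : ℝ,
      Summable (fun t : ℤ => Real.exp (-b * ((t : ℝ) + s) ^ 2)) ∧
      ∑' t : ℤ, Real.exp (-b * ((t : ℝ) + s) ^ 2) ≤ M)
    {n : ℕ} (T : TriForm n) {κ : ℝ} (hκ : 0 < κ) :
    ∃ M : ℝ, ∀ c : Fin n → ℝ, Summable (fun y : Fin n → ℤ => Real.exp (-κ * T.Q (toR y + c))) ∧
      ∑' y : Fin n → ℤ, Real.exp (-κ * T.Q (toR y + c)) ≤ M := by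
  induction T with
  | nil =>
    refine ⟨1, fun c => ⟨?_, ?_⟩⟩
    · exact summable_of_hasFiniteSupport (Set.toFinite _)
    · rw [tsum_eq_single (default : Fin 0 → ℤ) (fun y hy => absurd (Subsingleton.elim y default) hy)]
      simp [TriForm.Q]
  | @cons m β hβ u T ih =>
    obtain ⟨M', hM'⟩ := ih
    obtain ⟨M₁, hM₁⟩ := h1 (κ * β) (mul_pos hκ hβ)
    refine ⟨M₁ * M', fun c => ?_⟩
    have key := step
      (fun (y' : Fin m → ℤ) (t : ℤ) =>
        Real.exp (-κ * (TriForm.cons β hβ u T).Q (toR (Fin.cons t y' : Fin (m + 1) → ℤ) + c)))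
      (fun y' => Real.exp (-κ * T.Q (toR y' + Fin.tail c)))
      (fun y' => c 0 + u ⬝ᵥ (toR y' + Fin.tail c)) (κ * β) M₁ M'
      (by
        intro y' t
        rw [← Real.exp_add]
        congr 1
        simp only [TriForm.Q]
        rw [toR_cons_add_zero, tail_toR_cons_add]
        ring)
      (fun y' => (Real.exp_pos _).le) (hM' (Fin.tail c)).1 (hM' (Fin.tail c)).2 hM₁
    have hcomp : (fun p : (Fin m → ℤ) × ℤ =>
        Real.exp (-κ * (TriForm.cons β hβ u T).Q (toR (Fin.cons p.2 p.1 : Fin (m + 1) → ℤ) + c))) =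
        (fun y : Fin (m + 1) → ℤ => Real.exp (-κ * (TriForm.cons β hβ u T).Q (toR y + c))) ∘
          (consE m) := rfl
    rw [hcomp] at key
    constructor
    · exact (consE m).summable_iff.1 key.1
    · rw [← (consE m).tsum_eq]
      exact key.2

end Cfsg.Agent.Lib.Helper10_TH_USUMQ
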