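import Mathlib

set_option autoImplicit false

/-!
# Abstract Heisenberg data and intertwiners (helper81)

`HData F K V W`: a finite abelian group `V` with an alternating biadditive form `B : V → V → F`,
an additive character `ψ : F → K`, a half `h + h = 1`, and operators `hs u` on the `K`-space `W`
with `hs u * hs u' = ψ (h B(u,u')) • hs (u + u')`, irreducible, with `tr (hs u) = 0` for `u ≠ 0`.

For an additive map `φ` of `V` preserving `B`, `ag φ = ∑ u, ψ (h B(u, φ u)) • hs (φ u - u)` is an
invertible intertwiner: `ag φ * hs w = hs (φ w) * ag φ`; intertwiners are unique up to scalars.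
-/

namespace Cfsg.Agent.Lib.Helper81_Heis

open Module

/-- abstract Heisenberg data -/
structure HData (F K V W : Type*) [Field F] [Field K] [AddCommGroup V] [AddCommGroup W]
    [Module K W] where
  B : V →+ V →+ F
  alt : ∀ u, B u u = 0
  ψ : AddChar F K
  h : F
  hh : h + h = 1
  hs : V → Module.End K W
  hs_mul : ∀ u u', hs u * hs u' = ψ (h * B u u') • hs (u + u')
  hs_zero : hs 0 = 1
  irr : ∀ W' : Submodule K W, (∀ u, ∀ x ∈ W', hs u x ∈ W') → W' = ⊥ ∨ W' = ⊤
  tr : ∀ u, u ≠ 0 → LinearMap.trace K W (hs u) = 0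

variable {F K V W : Type*} [Field F] [Field K] [AddCommGroup V] [AddCommGroup W] [Module K W]

namespace HData

variable (D : HData F K V W)

theorem skew (u w : V) : D.B u w = - D.B w u := by
  have h1 := D.alt (u + w)
  simp only [map_add, AddMonoidHom.add_apply, D.alt] at h1
  linear_combination h1

/-- `T` intertwines `hs` with `hs ∘ φ` -/
def IsInt (φ : V → V) (T : Module.End K W) : Prop := ∀ w, T * D.hs w = D.hs (φ w) * T

theorem IsInt.mul {φ φ' : V → V} {T T' : Module.End K W} (hT : D.IsInt φ T) (hT' : D.IsInt φ' T') :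
    D.IsInt (φ ∘ φ') (T * T') := by
  intro w
  rw [mul_assoc, hT' w, ← mul_assoc, hT (φ' w), mul_assoc]
  rfl

theorem isInt_id_one : D.IsInt id 1 := fun w => by rw [one_mul, mul_one]; rfl

section Sum

variable [Fintype V]

/-- the explicit intertwiner -/
noncomputable def ag (φ : V → V) : Module.End K W :=
  ∑ u, D.ψ (D.h * D.B u (φ u)) • D.hs (φ u - u)

theorem ag_isInt (φ : V →+ V) (hφ : ∀ u w, D.B (φ u) (φ w) = D.B u w) : D.IsInt φ (D.ag φ) := by
  intro w
  unfold ag
  rw [Finset.sum_mul, Finset.mul_sum]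
  rw [← (Equiv.subRight w).sum_comp (fun u => D.hs (φ w) * D.ψ (D.h * D.B u (φ u)) • D.hs (φ u - u))]
  refine Finset.sum_congr rfl fun u _ => ?_
  rw [Equiv.subRight_apply, smul_mul_assoc, mul_smul_comm, D.hs_mul, D.hs_mul, smul_smul, smul_smul,
    ← AddChar.map_add_eq_mul, ← AddChar.map_add_eq_mul]
  have e0 : φ w + (φ (u - w) - (u - w)) = φ u - u + w := by
    rw [map_sub]; abel
  rw [e0]
  congr 2
  have s1 := D.skew (φ u) w
  have s2 := D.skew u w
  have s3 := D.skew (φ w) u
  have s4 := D.skew (φ w) w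
  have a1 := D.alt (φ w)
  have i1 := hφ w u
  simp only [map_sub, AddMonoidHom.sub_apply]
  linear_combination D.h * s1 - D.h * s2 - D.h * i1 + D.h * s3 - D.h * s4 + D.h * a1

theorem trace_ag [DecidableEq V] [FiniteDimensional K W] (φ : V → V) :
    LinearMap.trace K W (D.ag φ) =
      ((Finset.univ.filter fun u => φ u = u).card : K) * (finrank K W : K) := by
  unfold ag
  rw [map_sum, ← Finset.sum_filter_add_sum_filter_not Finset.univ (fun u => φ u = u)]
  have h1 : ∑ u ∈ Finset.univ.filter (fun u => ¬ φ u = u),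
      LinearMap.trace K W (D.ψ (D.h * D.B u (φ u)) • D.hs (φ u - u)) = 0 := by
    apply Finset.sum_eq_zero
    intro u hu
    rw [Finset.mem_filter] at hu
    rw [map_smul, D.tr _ (sub_ne_zero.mpr hu.2), smul_zero]
  have h2 : ∑ u ∈ Finset.univ.filter (fun u => φ u = u),
      LinearMap.trace K W (D.ψ (D.h * D.B u (φ u)) • D.hs (φ u - u)) =
      ∑ u ∈ Finset.univ.filter (fun u => φ u = u), (finrank K W : K) := by
    apply Finset.sum_congr rfl
    intro u hu
    rw [Finset.mem_filter] at hu
    rw [hu.2, D.alt, mul_zero, AddChar.map_zero_eq_one, one_smul, sub_self, D.hs_zero,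
      LinearMap.trace_one]
  rw [h1, h2, add_zero, Finset.sum_const, nsmul_eq_mul]

theorem ag_isUnit [DecidableEq V] [FiniteDimensional K W] [CharZero K] [Nontrivial W]
    (φ : V →+ V) (hφ : ∀ u w, D.B (φ u) (φ w) = D.B u w) : IsUnit (D.ag φ) := by
  have hint := D.ag_isInt φ hφ
  have htr := D.trace_ag φ
  have hne : D.ag φ ≠ 0 := by
    intro h0
    rw [h0, map_zero] at htr
    have h1 : 0 < (Finset.univ.filter fun u => φ u = u).card :=
      Finset.card_pos.mpr ⟨0, by rw [Finset.mem_filter]; exact ⟨Finset.mem_univ _, map_zero φ⟩⟩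
    have h2 : 0 < finrank K W := Module.finrank_pos
    have h3 : ((Finset.univ.filter fun u => φ u = u).card : K) * (finrank K W : K) ≠ 0 := by
      apply mul_ne_zero
      · exact_mod_cast h1.ne'
      · exact_mod_cast h2.ne'
    exact h3 htr.symm
  have hker : LinearMap.ker (D.ag φ) = ⊥ := by
    rcases D.irr (LinearMap.ker (D.ag φ)) (by
      intro u x hx
      rw [LinearMap.mem_ker] at hx ⊢
      have := congrArg (fun T : Module.End K W => T x) (hint u)
      simp only [Module.End.mul_apply] at this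
      rw [this, hx, map_zero]) with h | h
    · exact h
    · exfalso
      apply hne
      exact LinearMap.ker_eq_top.mp h
  exact (LinearMap.isUnit_iff_ker_eq_bot _).mpr hker

end Sum

/-- Schur's lemma for the Heisenberg operators -/
theorem schur [IsAlgClosed K] [FiniteDimensional K W] [Nontrivial W] (C : Module.End K W)
    (hC : ∀ u, C * D.hs u = D.hs u * C) : ∃ c : K, C = c • 1 := by
  obtain ⟨μ, hμ⟩ := Module.End.exists_eigenvalue C
  refine ⟨μ, ?_⟩
  rcases D.irr (C.eigenspace μ) (by
    intro u x hx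
    rw [Module.End.mem_eigenspace_iff] at hx ⊢
    have := congrArg (fun T : Module.End K W => T x) (hC u)
    simp only [Module.End.mul_apply] at this
    rw [this, hx, map_smul]) with h | h
  · exact absurd h hμ
  · ext x
    have : x ∈ C.eigenspace μ := by rw [h]; exact Submodule.mem_top
    rw [Module.End.mem_eigenspace_iff] at this
    rw [this]
    rfl

/-- intertwiners are unique up to scalars -/
theorem IsInt.unique [IsAlgClosed K] [FiniteDimensional K W] [Nontrivial W] {φ : V → V}
    {T T' : Module.End K W} (hT : D.IsInt φ T) (hT' : D.IsInt φ T') (hu : IsUnit T) :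
    ∃ c : K, T' = c • T := by
  obtain ⟨t, rfl⟩ := hu
  have hinv : ∀ w, ((t⁻¹ : (Module.End K W)ˣ) : Module.End K W) * D.hs (φ w) =
      D.hs w * ((t⁻¹ : (Module.End K W)ˣ) : Module.End K W) := by
    intro w
    have h1 := hT w
    calc ((t⁻¹ : (Module.End K W)ˣ) : Module.End K W) * D.hs (φ w)
        = ((t⁻¹ : (Module.End K W)ˣ) : Module.End K W) * (D.hs (φ w) * (t : Module.End K W)) *
          ((t⁻¹ : (Module.End K W)ˣ) : Module.End K W) := by
          rw [mul_assoc, mul_assoc, Units.mul_inv, mul_one]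
      _ = D.hs w * ((t⁻¹ : (Module.End K W)ˣ) : Module.End K W) := by
          rw [← h1, ← mul_assoc, Units.inv_mul, one_mul]
  obtain ⟨c, hc⟩ := D.schur (((t⁻¹ : (Module.End K W)ˣ) : Module.End K W) * T') (by
    intro w
    rw [mul_assoc, hT' w, ← mul_assoc, hinv w, mul_assoc])
  refine ⟨c, ?_⟩
  have h2 : (t : Module.End K W) * (((t⁻¹ : (Module.End K W)ˣ) : Module.End K W) * T') =
      (t : Module.End K W) * (c • 1) := by rw [hc]
  rw [← mul_assoc, Units.mul_inv, one_mul, mul_smul_comm, mul_one] at h2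
  exact h2

end HData

end Cfsg.Agent.Lib.Helper81_Heis
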