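import Mathlib
import Cfsg.Agent.Lib.Helper81_Heis

set_option autoImplicit false

/-!
# Linearising the Weil representation (helper81)

Abstract Heisenberg data `D` with a parity operator `J` (`J² = 1`, `J hs(u) = hs(-u) J`,
`tr J = 1`).  Every invertible intertwiner commutes with `J`, so it preserves the eigenspaces
`Wp J`, `Wm J`, whose dimensions differ by one; normalising an intertwiner `T` by
`det (T | Wp) = det (T | Wm)` makes it unique, and the normalised intertwiners of a group acting
on `V` by automorphisms of `B` form a genuine representation (`exists_weil`).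
-/

namespace Cfsg.Agent.Lib.Helper81_WeilLin

open Module Cfsg.Agent.Lib.Helper81_Heis

variable {F K V W : Type*} [Field F] [Field K] [AddCommGroup V] [AddCommGroup W] [Module K W]

section Parity

variable (J : Module.End K W)

/-- the `+1`-eigenspace of the parity operator -/
def Wp : Submodule K W := LinearMap.ker (J - 1)
/-- the `-1`-eigenspace of the parity operator -/
def Wm : Submodule K W := LinearMap.ker (J + 1)

theorem mem_Wp {x : W} : x ∈ Wp J ↔ J x = x := by
  unfold Wp
  rw [LinearMap.mem_ker, LinearMap.sub_apply, sub_eq_zero]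
  rfl

theorem mem_Wm {x : W} : x ∈ Wm J ↔ J x = -x := by
  unfold Wm
  rw [LinearMap.mem_ker, LinearMap.add_apply, add_eq_zero_iff_eq_neg]
  rfl

variable {J}

theorem mapsTo_p {T : Module.End K W} (hT : Commute T J) : ∀ x ∈ Wp J, T x ∈ Wp J := by
  intro x hx
  rw [mem_Wp] at hx ⊢
  have := congrArg (fun S : Module.End K W => S x) hT.eq
  simp only [Module.End.mul_apply] at this
  rw [← this, hx]

theorem mapsTo_m {T : Module.End K W} (hT : Commute T J) : ∀ x ∈ Wm J, T x ∈ Wm J := by
  intro x hx
  rw [mem_Wm] at hx ⊢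
  have := congrArg (fun S : Module.End K W => S x) hT.eq
  simp only [Module.End.mul_apply] at this
  rw [← this, hx, map_neg]

/-- determinant on the even part -/
noncomputable def detp (T : Module.End K W) (hT : Commute T J) : K :=
  LinearMap.det (T.restrict (mapsTo_p hT))

/-- determinant on the odd part -/
noncomputable def detm (T : Module.End K W) (hT : Commute T J) : K :=
  LinearMap.det (T.restrict (mapsTo_m hT))

theorem detp_mul (T T' : Module.End K W) (hT : Commute T J) (hT' : Commute T' J) :
    detp (T * T') (hT.mul_left hT') = detp T hT * detp T' hT' := by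
  unfold detp
  rw [← LinearMap.det_comp]
  congr 1

theorem detm_mul (T T' : Module.End K W) (hT : Commute T J) (hT' : Commute T' J) :
    detm (T * T') (hT.mul_left hT') = detm T hT * detm T' hT' := by
  unfold detm
  rw [← LinearMap.det_comp]
  congr 1

theorem detp_one : detp (1 : Module.End K W) (Commute.one_left J) = 1 := by
  unfold detp
  have : (1 : Module.End K W).restrict (mapsTo_p (Commute.one_left J)) = LinearMap.id :=
    LinearMap.ext fun x => Subtype.ext rfl
  rw [this, LinearMap.det_id]

theorem detm_one : detm (1 : Module.End K W) (Commute.one_left J) = 1 := by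
  unfold detm
  have : (1 : Module.End K W).restrict (mapsTo_m (Commute.one_left J)) = LinearMap.id :=
    LinearMap.ext fun x => Subtype.ext rfl
  rw [this, LinearMap.det_id]

theorem detp_smul (c : K) (T : Module.End K W) (hT : Commute T J) :
    detp (c • T) (hT.smul_left c) = c ^ finrank K (Wp J) * detp T hT := by
  unfold detp
  rw [← LinearMap.det_smul]
  congr 1

theorem detm_smul (c : K) (T : Module.End K W) (hT : Commute T J) :
    detm (c • T) (hT.smul_left c) = c ^ finrank K (Wm J) * detm T hT := by
  unfold detm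
  rw [← LinearMap.det_smul]
  congr 1

section Dim

variable [CharZero K] [FiniteDimensional K W]

theorem finrank_Wp_add (hJ2 : J * J = 1) :
    ((finrank K (Wp J) : ℕ) : K) = (2 : K)⁻¹ * ((finrank K W : K) + LinearMap.trace K W J) := by
  have h2 : (2 : K) ≠ 0 := two_ne_zero
  have hproj : LinearMap.IsProj (Wp J) ((2 : K)⁻¹ • (1 + J)) := by
    constructor
    · intro x
      rw [mem_Wp]
      have hJJ : J (J x) = x := by
        have := congrArg (fun S : Module.End K W => S x) hJ2
        simpa using this
      simp only [LinearMap.smul_apply, LinearMap.add_apply, Module.End.one_apply, map_smul, map_add,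
        hJJ]
      rw [add_comm]
    · intro x hx
      rw [mem_Wp] at hx
      simp only [LinearMap.smul_apply, LinearMap.add_apply, Module.End.one_apply, hx]
      rw [← two_smul K x, smul_smul, inv_mul_cancel₀ h2, one_smul]
  have := hproj.trace
  rw [map_smul, map_add, LinearMap.trace_one, smul_eq_mul] at this
  exact this.symm

theorem finrank_Wm_add (hJ2 : J * J = 1) :
    ((finrank K (Wm J) : ℕ) : K) = (2 : K)⁻¹ * ((finrank K W : K) - LinearMap.trace K W J) := by
  have h2 : (2 : K) ≠ 0 := two_ne_zero
  have hproj : LinearMap.IsProj (Wm J) ((2 : K)⁻¹ • (1 - J)) := by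
    constructor
    · intro x
      rw [mem_Wm]
      have hJJ : J (J x) = x := by
        have := congrArg (fun S : Module.End K W => S x) hJ2
        simpa using this
      simp only [LinearMap.smul_apply, LinearMap.sub_apply, Module.End.one_apply, map_smul, map_sub,
        hJJ]
      rw [← smul_neg, neg_sub]
    · intro x hx
      rw [mem_Wm] at hx
      simp only [LinearMap.smul_apply, LinearMap.sub_apply, Module.End.one_apply, hx, sub_neg_eq_add]
      rw [← two_smul K x, smul_smul, inv_mul_cancel₀ h2, one_smul]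
  have := hproj.trace
  rw [map_smul, map_sub, LinearMap.trace_one, smul_eq_mul] at this
  exact this.symm

theorem finrank_Wp_eq (hJ2 : J * J = 1) (hJtr : LinearMap.trace K W J = 1) :
    finrank K (Wp J) = finrank K (Wm J) + 1 := by
  have h1 := finrank_Wp_add hJ2
  have h2 := finrank_Wm_add hJ2
  rw [hJtr] at h1 h2
  have h3 : ((finrank K (Wp J) : ℕ) : K) = ((finrank K (Wm J) + 1 : ℕ) : K) := by
    rw [Nat.cast_add, Nat.cast_one, h1, h2]
    field_simp
    ring
  exact_mod_cast h3

theorem finrank_add_eq (hJ2 : J * J = 1) (hJtr : LinearMap.trace K W J = 1) :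
    2 * finrank K (Wm J) + 1 = finrank K W := by
  have h2 := finrank_Wm_add hJ2
  rw [hJtr] at h2
  have h3 : ((2 * finrank K (Wm J) + 1 : ℕ) : K) = ((finrank K W : ℕ) : K) := by
    rw [Nat.cast_add, Nat.cast_mul, Nat.cast_one, h2]
    field_simp
    ring
  exact_mod_cast h3

end Dim

end Parity

section Main

variable [IsAlgClosed K] [CharZero K] [FiniteDimensional K W] [Nontrivial W]
  (D : HData F K V W) (J : Module.End K W)

/-- an invertible intertwiner of an additive map commutes with the parity operator -/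
theorem commute_J (hJ2 : J * J = 1) (hJ : D.IsInt (fun u => -u) J)
    (hJtr : LinearMap.trace K W J = 1) {φ : V → V} (hφ : ∀ w, φ (-w) = -φ w)
    {T : Module.End K W} (hT : D.IsInt φ T) (hu : IsUnit T) : Commute T J := by
  obtain ⟨t, rfl⟩ := hu
  have hinv : ∀ w, ((t⁻¹ : (Module.End K W)ˣ) : Module.End K W) * D.hs (φ w) =
      D.hs w * ((t⁻¹ : (Module.End K W)ˣ) : Module.End K W) := by
    intro w
    have h1 := hT w
    calc ((t⁻¹ : (Module.End K W)ˣ) : Module.End K W) * D.hs (φ w)
        = ((t⁻¹ : (Module.End K W)ˣ) : Module.End K W) * (D.hs (φ w) * (t : Module.End K W)) *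
          ((t⁻¹ : (Module.End K W)ˣ) : Module.End K W) := by
          rw [mul_assoc, mul_assoc, Units.mul_inv, mul_one]
      _ = D.hs w * ((t⁻¹ : (Module.End K W)ˣ) : Module.End K W) := by
          rw [← h1, ← mul_assoc, Units.inv_mul, one_mul]
  have hint : D.IsInt (fun u => -u)
      (((t⁻¹ : (Module.End K W)ˣ) : Module.End K W) * J * (t : Module.End K W)) := by
    intro w
    rw [mul_assoc, mul_assoc, hT w, ← mul_assoc J, hJ (φ w)]
    show ((t⁻¹ : (Module.End K W)ˣ) : Module.End K W) * (D.hs (-φ w) * J * (t : Module.End K W)) = _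
    rw [← hφ w, ← mul_assoc, ← mul_assoc, hinv (-w)]
    simp only [mul_assoc]
  have hJu : IsUnit J := ⟨⟨J, J, hJ2, hJ2⟩, rfl⟩
  obtain ⟨c, hc⟩ := HData.IsInt.unique D hJ hint hJu
  have htr : LinearMap.trace K W
      (((t⁻¹ : (Module.End K W)ˣ) : Module.End K W) * J * (t : Module.End K W)) = 1 := by
    rw [mul_assoc, LinearMap.trace_mul_comm, mul_assoc, Units.mul_inv, mul_one, hJtr]
  rw [hc, map_smul, hJtr, smul_eq_mul, mul_one] at htr
  rw [htr, one_smul] at hc
  show (t : Module.End K W) * J = J * (t : Module.End K W)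
  have h2 : (t : Module.End K W) * (((t⁻¹ : (Module.End K W)ˣ) : Module.End K W) * J *
      (t : Module.End K W)) = (t : Module.End K W) * J := by rw [hc]
  rw [← mul_assoc, ← mul_assoc, Units.mul_inv, one_mul] at h2
  exact h2.symm

/-- a normalised invertible intertwiner -/
def Good (φ : V → V) (T : Module.End K W) : Prop :=
  D.IsInt φ T ∧ IsUnit T ∧ ∃ hT : Commute T J, detp T hT = detm T hT

theorem good_one : Good D J id 1 :=
  ⟨D.isInt_id_one, isUnit_one, Commute.one_left J, by rw [detp_one, detm_one]⟩

theorem Good.mul {φ φ' : V → V} {T T' : Module.End K W} (h : Good D J φ T) (h' : Good D J φ' T') :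
    Good D J (φ ∘ φ') (T * T') := by
  obtain ⟨h1, h2, h3, h4⟩ := h
  obtain ⟨h1', h2', h3', h4'⟩ := h'
  exact ⟨h1.mul D h1', h2.mul h2', h3.mul_left h3',
    by rw [detp_mul T T' h3 h3', detm_mul T T' h3 h3', h4, h4']⟩

theorem detp_ne_zero {T : Module.End K W} (hT : Commute T J) (hu : IsUnit T) : detp T hT ≠ 0 := by
  obtain ⟨t, rfl⟩ := hu
  have hc : Commute (((t⁻¹ : (Module.End K W)ˣ) : Module.End K W)) J := by
    show ((t⁻¹ : (Module.End K W)ˣ) : Module.End K W) * J = J * ((t⁻¹ : (Module.End K W)ˣ) : Module.End K W)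
    have h1 : (t : Module.End K W) * J = J * (t : Module.End K W) := hT.eq
    calc ((t⁻¹ : (Module.End K W)ˣ) : Module.End K W) * J
        = ((t⁻¹ : (Module.End K W)ˣ) : Module.End K W) * (J * (t : Module.End K W)) *
          ((t⁻¹ : (Module.End K W)ˣ) : Module.End K W) := by
          rw [mul_assoc, mul_assoc, Units.mul_inv, mul_one]
      _ = J * ((t⁻¹ : (Module.End K W)ˣ) : Module.End K W) := by
          rw [← h1, ← mul_assoc, Units.inv_mul, one_mul]
  have h2 := detp_mul (t : Module.End K W) _ hT hc
  have h3 : detp ((t : Module.End K W) * ((t⁻¹ : (Module.End K W)ˣ) : Module.End K W))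
      (hT.mul_left hc) = 1 := by
    have : (t : Module.End K W) * ((t⁻¹ : (Module.End K W)ˣ) : Module.End K W) = 1 := Units.mul_inv t
    unfold detp
    have e : ((t : Module.End K W) * ((t⁻¹ : (Module.End K W)ˣ) : Module.End K W)).restrict
        (mapsTo_p (hT.mul_left hc)) = LinearMap.id := by
      apply LinearMap.ext
      intro x
      apply Subtype.ext
      show ((t : Module.End K W) * ((t⁻¹ : (Module.End K W)ˣ) : Module.End K W)) x.1 = x.1
      rw [this]; rfl
    rw [e, LinearMap.det_id]
  rw [h3] at h2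
  intro h0
  rw [h0, zero_mul] at h2
  exact one_ne_zero h2

theorem Good.unique (hJ2 : J * J = 1) (hJtr : LinearMap.trace K W J = 1) {φ : V → V}
    {T T' : Module.End K W} (h : Good D J φ T) (h' : Good D J φ T') : T = T' := by
  obtain ⟨h1, h2, h3, h4⟩ := h
  obtain ⟨h1', h2', h3', h4'⟩ := h'
  obtain ⟨c, rfl⟩ := HData.IsInt.unique D h1 h1' h2
  have hc0 : c ≠ 0 := by
    rintro rfl
    rw [zero_smul] at h2'
    exact not_isUnit_zero h2'
  have e1 : detp (c • T) h3' = c ^ finrank K (Wp J) * detp T h3 := detp_smul c T h3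
  have e2 : detm (c • T) h3' = c ^ finrank K (Wm J) * detm T h3 := detm_smul c T h3
  rw [e1, e2, finrank_Wp_eq hJ2 hJtr, pow_succ, ← h4] at h4'
  have hd : detp T h3 ≠ 0 := detp_ne_zero J h3 h2
  have hp : c ^ finrank K (Wm J) ≠ 0 := pow_ne_zero _ hc0
  have hc1 : c = 1 := by
    have h5 : c ^ finrank K (Wm J) * detp T h3 * c = c ^ finrank K (Wm J) * detp T h3 * 1 := by
      rw [mul_one]; linear_combination h4'
    exact mul_left_cancel₀ (mul_ne_zero hp hd) h5
  rw [hc1, one_smul]

variable [Fintype V] [DecidableEq V]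

theorem exists_good (hJ2 : J * J = 1) (hJ : D.IsInt (fun u => -u) J)
    (hJtr : LinearMap.trace K W J = 1) (φ : V →+ V)
    (hφ : ∀ u w, D.B (φ u) (φ w) = D.B u w) : ∃ T, Good D J φ T := by
  have hint := D.ag_isInt φ hφ
  have hu := D.ag_isUnit φ hφ
  have hc : Commute (D.ag φ) J := commute_J D J hJ2 hJ hJtr (fun w => map_neg φ w) hint hu
  have hd : detp (D.ag φ) hc ≠ 0 := detp_ne_zero J hc hu
  set c : K := detm (D.ag φ) hc / detp (D.ag φ) hc with hcdef
  have hm : detm (D.ag φ) hc ≠ 0 := by
    obtain ⟨t, ht⟩ := hu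
    have hcJ : Commute J (D.ag φ) := hc.symm
    -- same argument as for `detp`, via the inverse
    have hci : Commute (((t⁻¹ : (Module.End K W)ˣ) : Module.End K W)) J := by
      show ((t⁻¹ : (Module.End K W)ˣ) : Module.End K W) * J =
        J * ((t⁻¹ : (Module.End K W)ˣ) : Module.End K W)
      have h1 : (t : Module.End K W) * J = J * (t : Module.End K W) := by rw [ht]; exact hc.eq
      calc ((t⁻¹ : (Module.End K W)ˣ) : Module.End K W) * J
          = ((t⁻¹ : (Module.End K W)ˣ) : Module.End K W) * (J * (t : Module.End K W)) *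
            ((t⁻¹ : (Module.End K W)ˣ) : Module.End K W) := by
            rw [mul_assoc, mul_assoc, Units.mul_inv, mul_one]
        _ = J * ((t⁻¹ : (Module.End K W)ˣ) : Module.End K W) := by
            rw [← h1, ← mul_assoc, Units.inv_mul, one_mul]
    have h2 := detm_mul (D.ag φ) _ hc hci
    have h3 : detm (D.ag φ * ((t⁻¹ : (Module.End K W)ˣ) : Module.End K W))
        (hc.mul_left hci) = 1 := by
      have : D.ag φ * ((t⁻¹ : (Module.End K W)ˣ) : Module.End K W) = 1 := by
        rw [← ht]; exact Units.mul_inv t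
      unfold detm
      have e : (D.ag φ * ((t⁻¹ : (Module.End K W)ˣ) : Module.End K W)).restrict
          (mapsTo_m (hc.mul_left hci)) = LinearMap.id := by
        apply LinearMap.ext
        intro x
        apply Subtype.ext
        show (D.ag φ * ((t⁻¹ : (Module.End K W)ˣ) : Module.End K W)) x.1 = x.1
        rw [this]; rfl
      rw [e, LinearMap.det_id]
    rw [h3] at h2
    intro h0
    rw [h0, zero_mul] at h2
    exact one_ne_zero h2
  have hc0 : c ≠ 0 := div_ne_zero hm hd
  refine ⟨c • D.ag φ, ?_, ?_, hc.smul_left c, ?_⟩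
  · intro w
    rw [smul_mul_assoc, mul_smul_comm, hint w]
  · obtain ⟨t, ht⟩ := hu
    refine ⟨⟨c • (t : Module.End K W),
      c⁻¹ • ((t⁻¹ : (Module.End K W)ˣ) : Module.End K W), ?_, ?_⟩, ?_⟩
    · rw [smul_mul_smul_comm, mul_inv_cancel₀ hc0, Units.mul_inv, one_smul]
    · rw [smul_mul_smul_comm, inv_mul_cancel₀ hc0, Units.inv_mul, one_smul]
    · show c • (t : Module.End K W) = c • D.ag φ
      rw [ht]
  · rw [detp_smul c _ hc, detm_smul c _ hc, finrank_Wp_eq hJ2 hJtr, pow_succ, hcdef]
    field_simp

/-- the Weil representation, abstractly -/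
theorem exists_weil (hJ2 : J * J = 1) (hJ : D.IsInt (fun u => -u) J)
    (hJtr : LinearMap.trace K W J = 1)
    {G : Type*} [Group G] (act : G → V →+ V) (act_one : ∀ u, act 1 u = u)
    (act_mul : ∀ g g' u, act (g * g') u = act g (act g' u))
    (act_B : ∀ g u w, D.B (act g u) (act g w) = D.B u w) :
    ∃ ω : G →* Module.End K W, (∀ g, D.IsInt (act g) (ω g)) ∧ (∀ g, Commute (ω g) J) := by
  have hex : ∀ g, ∃ T, Good D J (act g) T := fun g =>
    exists_good D J hJ2 hJ hJtr (act g) (act_B g)
  choose ω hω using hex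
  refine ⟨{ toFun := ω, map_one' := ?_, map_mul' := ?_ }, fun g => (hω g).1,
    fun g => (hω g).2.2.1⟩
  · have h1 : (act 1 : V → V) = id := funext act_one
    have h2 := hω 1
    rw [h1] at h2
    exact Good.unique D J hJ2 hJtr h2 (good_one D J)
  · intro g g'
    have h1 : (act (g * g') : V → V) = (act g : V → V) ∘ (act g' : V → V) :=
      funext (act_mul g g')
    have h2 := hω (g * g')
    rw [h1] at h2
    exact Good.unique D J hJ2 hJtr h2 ((hω g).mul D J (hω g'))

end Main

end Cfsg.Agent.Lib.Helper81_WeilLin
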