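import Mathlib
import Cfsg.Agent.Lib.Helper13_Symp
import Cfsg.Agent.Lib.Helper81_Heis
import Cfsg.Agent.Lib.Helper81_WeilLin

set_option autoImplicit false

/-!
# The Schrödinger model of the Heisenberg operators (helper81)

`W = (Fin n → F) → K`, `hsXY x y f t = ψ (h (x·y) + y·t) f (t + x)`.  These operators satisfy
the axioms of `Helper81_Heis.HData` for the symplectic form `Cfsg.sympForm n F`.
-/

namespace Cfsg.Agent.Lib.Helper81_Schrodinger

open Matrix Module Cfsg.Agent.Lib.Helper13_Symp Cfsg.Agent.Lib.Helper81_Heis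

variable {F K : Type*} [Field F] [Field K] {n : ℕ}
  (ψ : AddChar F K) (h : F)

/-- the Schrödinger operators -/
def hsXY (x y : Fin n → F) : ((Fin n → F) → K) →ₗ[K] ((Fin n → F) → K) where
  toFun f t := ψ (h * (x ⬝ᵥ y) + y ⬝ᵥ t) * f (t + x)
  map_add' f g := by
    funext t
    simp only [Pi.add_apply]
    ring
  map_smul' c f := by
    funext t
    simp only [Pi.smul_apply, smul_eq_mul, RingHom.id_apply]
    ring

theorem hsXY_apply (x y : Fin n → F) (f : (Fin n → F) → K) (t : Fin n → F) :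
    hsXY ψ h x y f t = ψ (h * (x ⬝ᵥ y) + y ⬝ᵥ t) * f (t + x) := rfl

theorem hsXY_mul (hh : h + h = 1) (x y x' y' : Fin n → F) :
    hsXY ψ h x y * hsXY ψ h x' y' =
      ψ (h * (x ⬝ᵥ y' - y ⬝ᵥ x')) • hsXY ψ h (x + x') (y + y') := by
  apply LinearMap.ext
  intro f
  funext t
  rw [Module.End.mul_apply, hsXY_apply, hsXY_apply, LinearMap.smul_apply, Pi.smul_apply,
    hsXY_apply, smul_eq_mul, ← mul_assoc, ← mul_assoc, ← AddChar.map_add_eq_mul,
    ← AddChar.map_add_eq_mul, add_assoc t x x']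
  congr 2
  simp only [add_dotProduct, dotProduct_add]
  rw [dotProduct_comm y' x, dotProduct_comm y x', dotProduct_comm x' y']
  linear_combination (- (x ⬝ᵥ y')) * hh

theorem hsXY_zero : hsXY ψ h (0 : Fin n → F) 0 = 1 := by
  apply LinearMap.ext
  intro f
  funext t
  rw [hsXY_apply]
  simp

section Fin

variable [Fintype F] [DecidableEq F]

/-- orthogonality: a non-trivial character sums to zero along a non-zero direction -/
theorem sum_char_dot (hψ : ψ ≠ 1) (y : Fin n → F) (hy : y ≠ 0) :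
    ∑ t : Fin n → F, ψ (y ⬝ᵥ t) = 0 := by
  obtain ⟨a, ha⟩ : ∃ a, ψ a ≠ 1 := by
    by_contra hcon
    push Not at hcon
    apply hψ
    ext a
    rw [hcon a]; rfl
  obtain ⟨j, hj⟩ : ∃ j, y j ≠ 0 := by
    by_contra hcon
    push Not at hcon
    exact hy (funext hcon)
  set t₀ : Fin n → F := Pi.single j (a / y j) with ht₀
  have h1 : y ⬝ᵥ t₀ = a := by
    rw [ht₀, dotProduct_single]
    field_simp
  have h2 : ∑ t : Fin n → F, ψ (y ⬝ᵥ t) = ψ a * ∑ t : Fin n → F, ψ (y ⬝ᵥ t) := by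
    rw [Finset.mul_sum]
    conv_lhs => rw [← Equiv.sum_comp (Equiv.addRight t₀) (fun t => ψ (y ⬝ᵥ t))]
    refine Finset.sum_congr rfl fun t _ => ?_
    rw [Equiv.coe_addRight, dotProduct_add, h1, AddChar.map_add_eq_mul, mul_comm]
  have h3 : (1 - ψ a) * ∑ t : Fin n → F, ψ (y ⬝ᵥ t) = 0 := by
    rw [sub_mul, one_mul, ← h2, sub_self]
  rcases mul_eq_zero.mp h3 with h4 | h4
  · exact absurd (sub_eq_zero.mp h4).symm ha
  · exact h4

theorem sum_char_dot' (hψ : ψ ≠ 1) (s : Fin n → F) (hs : s ≠ 0) :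
    ∑ y : Fin n → F, ψ (y ⬝ᵥ s) = 0 := by
  rw [← sum_char_dot ψ hψ s hs]
  exact Finset.sum_congr rfl fun y _ => by rw [dotProduct_comm]

theorem trace_hsXY (hψ : ψ ≠ 1) (x y : Fin n → F) (hxy : ¬ (x = 0 ∧ y = 0)) :
    LinearMap.trace K _ (hsXY ψ h x y) = 0 := by
  rw [LinearMap.trace_eq_matrix_trace K (Pi.basisFun K (Fin n → F)),
    LinearMap.toMatrix_eq_toMatrix', Matrix.trace]
  simp only [Matrix.diag_apply, LinearMap.toMatrix'_apply, hsXY_apply]
  by_cases hx : x = 0
  · have hy : y ≠ 0 := fun hy => hxy ⟨hx, hy⟩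
    subst hx
    have : ∀ t : Fin n → F, ψ (h * ((0 : Fin n → F) ⬝ᵥ y) + y ⬝ᵥ t) *
        (Pi.single t (1 : K) : (Fin n → F) → K) (t + 0) = ψ (y ⬝ᵥ t) := by
      intro t
      rw [zero_dotProduct, mul_zero, zero_add, add_zero, Pi.single_eq_same, mul_one]
    simp only [this]
    exact sum_char_dot ψ hψ y hy
  · apply Finset.sum_eq_zero
    intro t _
    have : t + x ≠ t := by
      intro h0
      apply hx
      have := add_left_cancel (a := t) (b := x) (c := 0) (by rw [add_zero]; exact h0)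
      exact this
    rw [Pi.single_eq_of_ne this, mul_zero]

/-- irreducibility of the Schrödinger operators -/
theorem irr_hsXY [CharZero K] (hψ : ψ ≠ 1) (W' : Submodule K ((Fin n → F) → K))
    (hW : ∀ x y, ∀ f ∈ W', hsXY ψ h x y f ∈ W') : W' = ⊥ ∨ W' = ⊤ := by
  by_cases hbot : W' = ⊥
  · left; exact hbot
  right
  obtain ⟨f, hfW, hf0⟩ := Submodule.exists_mem_ne_zero_of_ne_bot hbot
  obtain ⟨t₀, ht₀⟩ : ∃ t₀, f t₀ ≠ 0 := by
    by_contra hcon
    push Not at hcon
    exact hf0 (funext hcon)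
  -- the projection onto the `t₀`-component
  have hg : (∑ y : Fin n → F, ψ (-(y ⬝ᵥ t₀)) • hsXY ψ h 0 y f) ∈ W' :=
    Submodule.sum_mem _ fun y _ => Submodule.smul_mem _ _ (hW 0 y f hfW)
  have hgeq : (∑ y : Fin n → F, ψ (-(y ⬝ᵥ t₀)) • hsXY ψ h 0 y f) =
      ((Fintype.card (Fin n → F) : K) * f t₀) • (Pi.single t₀ (1 : K) : (Fin n → F) → K) := by
    funext t
    rw [Finset.sum_apply, Pi.smul_apply, smul_eq_mul]
    simp only [Pi.smul_apply, smul_eq_mul, hsXY_apply, zero_dotProduct, mul_zero, zero_add,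
      add_zero]
    by_cases htt : t = t₀
    · subst htt
      rw [Pi.single_eq_same, mul_one]
      have : ∀ y : Fin n → F, ψ (-(y ⬝ᵥ t)) * (ψ (y ⬝ᵥ t) * f t) = f t := by
        intro y
        rw [← mul_assoc, ← AddChar.map_add_eq_mul, neg_add_cancel, AddChar.map_zero_eq_one,
          one_mul]
      simp only [this]
      rw [Finset.sum_const, Finset.card_univ, nsmul_eq_mul]
    · rw [Pi.single_eq_of_ne htt, mul_zero]
      have : ∀ y : Fin n → F, ψ (-(y ⬝ᵥ t₀)) * (ψ (y ⬝ᵥ t) * f t) = ψ (y ⬝ᵥ (t - t₀)) * f t := by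
        intro y
        rw [← mul_assoc, ← AddChar.map_add_eq_mul, dotProduct_sub]
        congr 2
        ring
      simp only [this]
      rw [← Finset.sum_mul, sum_char_dot' ψ hψ (t - t₀) (sub_ne_zero.mpr htt), zero_mul]
  rw [hgeq] at hg
  have hc : ((Fintype.card (Fin n → F) : K) * f t₀) ≠ 0 := by
    apply mul_ne_zero _ ht₀
    exact_mod_cast Fintype.card_ne_zero
  have hδ : (Pi.single t₀ (1 : K) : (Fin n → F) → K) ∈ W' := by
    have := Submodule.smul_mem W' ((Fintype.card (Fin n → F) : K) * f t₀)⁻¹ hg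
    rw [smul_smul, inv_mul_cancel₀ hc, one_smul] at this
    exact this
  have hall : ∀ s : Fin n → F, (Pi.single s (1 : K) : (Fin n → F) → K) ∈ W' := by
    intro s
    have := hW (t₀ - s) 0 _ hδ
    have e : hsXY ψ h (t₀ - s) 0 (Pi.single t₀ (1 : K) : (Fin n → F) → K) =
        Pi.single s (1 : K) := by
      funext t
      rw [hsXY_apply, dotProduct_zero, mul_zero, zero_dotProduct, add_zero,
        AddChar.map_zero_eq_one, one_mul]
      by_cases hts : t = s
      · subst hts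
        rw [Pi.single_eq_same]
        have : t + (t₀ - t) = t₀ := by abel
        rw [this, Pi.single_eq_same]
      · rw [Pi.single_eq_of_ne hts, Pi.single_eq_of_ne]
        intro h0
        apply hts
        rw [← sub_eq_zero]
        have h1 : t + (t₀ - s) - t₀ = 0 := by rw [h0, sub_self]
        rw [← h1]; abel
    rw [e] at this
    exact this
  rw [eq_top_iff]
  intro g _
  have : g = ∑ s : Fin n → F, g s • (Pi.single s (1 : K) : (Fin n → F) → K) := by
    funext t
    rw [Finset.sum_apply]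
    simp only [Pi.smul_apply, smul_eq_mul]
    rw [Finset.sum_eq_single t]
    · rw [Pi.single_eq_same, mul_one]
    · intro s _ hst
      rw [Pi.single_eq_of_ne hst.symm, mul_zero]
    · intro h0
      exact absurd (Finset.mem_univ t) h0
  rw [this]
  exact Submodule.sum_mem _ fun s _ => Submodule.smul_mem _ _ (hall s)

end Fin

/-- the symplectic form as a biadditive map -/
def Bsym (n : ℕ) (F : Type*) [Field F] :
    (Fin n ⊕ Fin n → F) →+ (Fin n ⊕ Fin n → F) →+ F :=
  AddMonoidHom.mk' (fun u => AddMonoidHom.mk' (fun w => Cfsg.sympForm n F u w)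
      (fun w w' => sympForm_add_right n u w w'))
    (fun u u' => AddMonoidHom.ext fun w => sympForm_add_left n u u' w)

theorem Bsym_apply (u w : Fin n ⊕ Fin n → F) : Bsym n F u w = Cfsg.sympForm n F u w := rfl

theorem sympForm_dot (u w : Fin n ⊕ Fin n → F) :
    Cfsg.sympForm n F u w = (u ∘ Sum.inr) ⬝ᵥ (w ∘ Sum.inl) - (u ∘ Sum.inl) ⬝ᵥ (w ∘ Sum.inr) := by
  rw [sympForm_eq, Finset.sum_sub_distrib]
  rfl

/-- the Heisenberg operators indexed by `F^{2n}` -/
def hs (u : Fin n ⊕ Fin n → F) : Module.End K ((Fin n → F) → K) :=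
  hsXY ψ h (u ∘ Sum.inr) (u ∘ Sum.inl)

/-- the parity operator -/
def par (n : ℕ) (F K : Type*) [Field F] [Field K] : Module.End K ((Fin n → F) → K) :=
  LinearMap.funLeft K K (fun t : Fin n → F => -t)

theorem par_apply (f : (Fin n → F) → K) (t : Fin n → F) : par n F K f t = f (-t) := rfl

theorem par_mul_par : par n F K * par n F K = 1 := by
  apply LinearMap.ext
  intro f
  funext t
  rw [Module.End.mul_apply, par_apply, par_apply, neg_neg]
  rfl

theorem par_mul_hs (u : Fin n ⊕ Fin n → F) :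
    par n F K * hs ψ h u = hs ψ h (-u) * par n F K := by
  apply LinearMap.ext
  intro f
  funext t
  rw [Module.End.mul_apply, Module.End.mul_apply, par_apply]
  unfold hs
  rw [hsXY_apply, hsXY_apply, par_apply]
  have e1 : (-u) ∘ Sum.inr = -(u ∘ Sum.inr) := rfl
  have e2 : (-u) ∘ Sum.inl = -(u ∘ Sum.inl) := rfl
  rw [e1, e2, neg_dotProduct_neg, neg_dotProduct, dotProduct_neg, neg_add, neg_neg]

section Fin2

variable [Fintype F] [DecidableEq F]

/-- the Schrödinger data -/
def schData [CharZero K] (hh : h + h = 1) (hψ : ψ ≠ 1) :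
    HData F K (Fin n ⊕ Fin n → F) ((Fin n → F) → K) where
  B := Bsym n F
  alt := fun u => sympForm_self n u
  ψ := ψ
  h := h
  hh := hh
  hs := hs ψ h
  hs_mul := fun u u' => by
    unfold hs
    rw [hsXY_mul ψ h hh, Bsym_apply, sympForm_dot]
    rfl
  hs_zero := hsXY_zero ψ h
  irr := fun W' hW => by
    apply irr_hsXY ψ h hψ W'
    intro x y f hf
    have := hW (Sum.elim y x) f hf
    exact this
  tr := fun u hu => by
    apply trace_hsXY ψ h hψ
    rintro ⟨h1, h2⟩
    apply hu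
    funext i
    rcases i with i | i
    · exact congrFun h2 i
    · exact congrFun h1 i

theorem trace_par (h2 : (2 : F) ≠ 0) : LinearMap.trace K _ (par n F K) = 1 := by
  rw [LinearMap.trace_eq_matrix_trace K (Pi.basisFun K (Fin n → F)),
    LinearMap.toMatrix_eq_toMatrix', Matrix.trace]
  simp only [Matrix.diag_apply, LinearMap.toMatrix'_apply, par_apply]
  rw [Finset.sum_eq_single (0 : Fin n → F)]
  · rw [neg_zero, Pi.single_eq_same]
  · intro t _ ht
    rw [Pi.single_eq_of_ne]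
    intro h0
    apply ht
    funext i
    have h1 := congrFun h0 i
    simp only [Pi.neg_apply] at h1
    have h3 : (2 : F) * t i = 0 := by linear_combination -h1
    rcases mul_eq_zero.mp h3 with h4 | h4
    · exact absurd h4 h2
    · exact h4
  · intro h0
    exact absurd (Finset.mem_univ _) h0

/-- the symplectic group acting on `F^{2n}` by additive maps -/
def act (g : Matrix.symplecticGroup (Fin n) F) : (Fin n ⊕ Fin n → F) →+ (Fin n ⊕ Fin n → F) :=
  AddMonoidHom.mk' (fun u => g.1 *ᵥ u) (fun u w => Matrix.mulVec_add _ u w)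

theorem act_apply (g : Matrix.symplecticGroup (Fin n) F) (u : Fin n ⊕ Fin n → F) :
    act g u = g.1 *ᵥ u := rfl

/-- the Weil representation of the symplectic group on the Schrödinger model -/
theorem exists_weil_sp [IsAlgClosed K] [CharZero K] (h2 : (2 : F) ≠ 0) (hh : h + h = 1)
    (hψ : ψ ≠ 1) :
    ∃ ω : Matrix.symplecticGroup (Fin n) F →* Module.End K ((Fin n → F) → K),
      (∀ g u, ω g * hs ψ h u = hs ψ h (g.1 *ᵥ u) * ω g) ∧
      (∀ g, Commute (ω g) (par n F K)) := by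
  have hJ : (schData ψ h hh hψ).IsInt (fun u => -u) (par n F K) := fun u => par_mul_hs ψ h u
  obtain ⟨ω, h1, h2⟩ := Cfsg.Agent.Lib.Helper81_WeilLin.exists_weil (schData ψ h hh hψ)
    (par n F K) par_mul_par hJ (trace_par h2) (G := Matrix.symplecticGroup (Fin n) F) act
    (fun u => by rw [act_apply]; exact Matrix.one_mulVec u)
    (fun g g' u => by
      rw [act_apply, act_apply, act_apply, Matrix.mulVec_mulVec]
      rfl)
    (fun g u w => by
      rw [act_apply, act_apply]
      exact sympForm_mulVec_mulVec_of_mem n g.2 u w)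
  exact ⟨ω, fun g u => h1 g u, h2⟩

/-- the multiplication operator attached to a symmetric matrix -/
def mS (S : Matrix (Fin n) (Fin n) F) : Module.End K ((Fin n → F) → K) where
  toFun f t := ψ (-(h * (t ⬝ᵥ S *ᵥ t))) * f t
  map_add' f g := by
    funext t
    simp only [Pi.add_apply]
    ring
  map_smul' c f := by
    funext t
    simp only [Pi.smul_apply, smul_eq_mul, RingHom.id_apply]
    ring

theorem mS_apply (S : Matrix (Fin n) (Fin n) F) (f : (Fin n → F) → K) (t : Fin n → F) :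
    mS ψ h S f t = ψ (-(h * (t ⬝ᵥ S *ᵥ t))) * f t := rfl

theorem mS_mul_hs (hh : h + h = 1) (S : Matrix (Fin n) (Fin n) F) (hS : Sᵀ = S)
    (u : Fin n ⊕ Fin n → F) :
    mS ψ h S * hs ψ h u = hs ψ h (Matrix.fromBlocks 1 S 0 1 *ᵥ u) * mS ψ h S := by
  apply LinearMap.ext
  intro f
  funext t
  rw [Module.End.mul_apply, Module.End.mul_apply, mS_apply]
  unfold hs
  rw [hsXY_apply, hsXY_apply, mS_apply, Matrix.fromBlocks_mulVec]
  have e1 : (Sum.elim ((1 : Matrix (Fin n) (Fin n) F) *ᵥ (u ∘ Sum.inl) + S *ᵥ (u ∘ Sum.inr))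
      ((0 : Matrix (Fin n) (Fin n) F) *ᵥ (u ∘ Sum.inl) + (1 : Matrix (Fin n) (Fin n) F) *ᵥ (u ∘ Sum.inr))) ∘ Sum.inr = u ∘ Sum.inr := by
    funext i
    simp
  have e2 : (Sum.elim ((1 : Matrix (Fin n) (Fin n) F) *ᵥ (u ∘ Sum.inl) + S *ᵥ (u ∘ Sum.inr))
      ((0 : Matrix (Fin n) (Fin n) F) *ᵥ (u ∘ Sum.inl) + (1 : Matrix (Fin n) (Fin n) F) *ᵥ (u ∘ Sum.inr))) ∘ Sum.inl
      = u ∘ Sum.inl + S *ᵥ (u ∘ Sum.inr) := by
    funext i
    simp
  rw [e1, e2, ← mul_assoc, ← mul_assoc, ← AddChar.map_add_eq_mul, ← AddChar.map_add_eq_mul]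
  congr 2
  set x := u ∘ Sum.inr with hx
  set y := u ∘ Sum.inl with hy
  have s1 : x ⬝ᵥ S *ᵥ t = t ⬝ᵥ S *ᵥ x := by
    rw [Matrix.dotProduct_mulVec, ← Matrix.mulVec_transpose, hS, dotProduct_comm]
  have s2 : (S *ᵥ x) ⬝ᵥ t = t ⬝ᵥ S *ᵥ x := dotProduct_comm _ _
  simp only [add_dotProduct, dotProduct_add, Matrix.mulVec_add]
  rw [s1, s2]
  linear_combination (t ⬝ᵥ S *ᵥ x) * hh

end Fin2

end Cfsg.Agent.Lib.Helper81_Schrodinger
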