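import Mathlib

set_option autoImplicit false

/-!
# Additive characters of a finite vector space via a pairing (helper81)

`ψ₀ : F → K` a non-trivial additive character of a finite field with values in a field, and
`P : W → W' → F` a bilinear pairing of finite `F`-spaces, non-degenerate on the `W'` side, with
`|W| ≤ |W'|`.  Then `y ↦ ψ₀ (P · y)` is injective, and every additive character of `W` is of this
form (Dedekind independence of characters gives `|Hom(W, K)| ≤ |W|`).
-/

namespace Cfsg.Agent.Lib.Helper81_AddCharDual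

variable {F K W W' : Type*} [Field F] [Field K]
  [AddCommGroup W] [Module F W] [AddCommGroup W'] [Module F W']

theorem addChar_ne_zero (ψ₀ : F → K) (hψ0 : ψ₀ 0 = 1) (hψadd : ∀ a b, ψ₀ (a + b) = ψ₀ a * ψ₀ b)
    (t : F) : ψ₀ t ≠ 0 := by
  intro h
  have h1 := hψadd t (-t)
  rw [add_neg_cancel, hψ0, h, zero_mul] at h1
  exact one_ne_zero h1

theorem pairing_injective (ψ₀ : F → K) (hψ0 : ψ₀ 0 = 1)
    (hψadd : ∀ a b, ψ₀ (a + b) = ψ₀ a * ψ₀ b)
    (hψne : ∃ a, ψ₀ a ≠ 1) (P : W →ₗ[F] W' →ₗ[F] F) (hP : ∀ y : W', y ≠ 0 → ∃ f : W, P f y ≠ 0) :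
    Function.Injective (fun (y : W') (f : W) => ψ₀ (P f y)) := by
  intro y y' h
  by_contra hne
  have hsub : y - y' ≠ 0 := sub_ne_zero.mpr hne
  obtain ⟨f, hf⟩ := hP _ hsub
  obtain ⟨a, ha⟩ := hψne
  apply ha
  set c := P f (y - y') with hc
  have h4 : ψ₀ (P ((a * c⁻¹) • f) y) = ψ₀ (P ((a * c⁻¹) • f) y') :=
    congrFun h ((a * c⁻¹) • f)
  have h5 : P ((a * c⁻¹) • f) y = P ((a * c⁻¹) • f) y' + a := by
    have e1 : P f y = P f y' + c := by rw [hc, map_sub]; ring
    simp only [map_smul, LinearMap.smul_apply, smul_eq_mul]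
    rw [e1]
    field_simp
  rw [h5, hψadd] at h4
  have h6 := addChar_ne_zero ψ₀ hψ0 hψadd (P ((a * c⁻¹) • f) y')
  have h7 : ψ₀ (P ((a * c⁻¹) • f) y') * ψ₀ a = ψ₀ (P ((a * c⁻¹) • f) y') * 1 := by
    rw [mul_one]; exact h4
  exact mul_left_cancel₀ h6 h7

/-- every additive character of `W` comes from the pairing -/
theorem exists_eq_pairing [Finite W] [Finite W'] (ψ₀ : F → K) (hψ0 : ψ₀ 0 = 1)
    (hψadd : ∀ a b, ψ₀ (a + b) = ψ₀ a * ψ₀ b)
    (hψne : ∃ a, ψ₀ a ≠ 1) (P : W →ₗ[F] W' →ₗ[F] F) (hP : ∀ y : W', y ≠ 0 → ∃ f : W, P f y ≠ 0)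
    (hcard : Nat.card W ≤ Nat.card W')
    (χ : W → K) (hχ0 : χ 0 = 1) (hχadd : ∀ f f', χ (f + f') = χ f * χ f') :
    ∃ y : W', ∀ f, χ f = ψ₀ (P f y) := by
  classical
  by_contra hcon
  push Not at hcon
  have : Fintype W := Fintype.ofFinite W
  have : Fintype W' := Fintype.ofFinite W'
  -- the monoid homs
  let χh : Multiplicative W →* K :=
    { toFun := fun f => χ (Multiplicative.toAdd f)
      map_one' := hχ0
      map_mul' := fun f f' => hχadd _ _ }
  let Φ : W' → (Multiplicative W →* K) := fun y =>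
    { toFun := fun f => ψ₀ (P (Multiplicative.toAdd f) y)
      map_one' := by
        show ψ₀ (P (0 : W) y) = 1
        rw [map_zero, LinearMap.zero_apply, hψ0]
      map_mul' := fun f f' => by
        show ψ₀ (P (Multiplicative.toAdd f + Multiplicative.toAdd f') y) = _
        rw [map_add, LinearMap.add_apply, hψadd] }
  let Ψ : Option W' → (Multiplicative W →* K) := fun o =>
    match o with
    | none => χh
    | some y => Φ y
  have hΦinj : Function.Injective Φ := by
    intro y y' h
    apply pairing_injective ψ₀ hψ0 hψadd hψne P hP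
    funext f
    exact DFunLike.congr_fun h (Multiplicative.ofAdd f)
  have hΨinj : Function.Injective Ψ := by
    intro o o' h
    cases o with
    | none =>
      cases o' with
      | none => rfl
      | some y' =>
        exfalso
        obtain ⟨f, hf⟩ := hcon y'
        exact hf (DFunLike.congr_fun h (Multiplicative.ofAdd f))
    | some y =>
      cases o' with
      | none =>
        exfalso
        obtain ⟨f, hf⟩ := hcon y
        exact hf (DFunLike.congr_fun h (Multiplicative.ofAdd f)).symm
      | some y' => rw [hΦinj h]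
  have hli := (linearIndependent_monoidHom (Multiplicative W) K).comp Ψ hΨinj
  have hle := hli.fintype_card_le_finrank
  rw [Fintype.card_option, Module.finrank_fintype_fun_eq_card] at hle
  rw [Nat.card_eq_fintype_card, Nat.card_eq_fintype_card] at hcard
  have : Fintype.card (Multiplicative W) = Fintype.card W := Fintype.card_congr Multiplicative.toAdd
  omega

end Cfsg.Agent.Lib.Helper81_AddCharDual
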