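import Mathlib
import Cfsg.Agent.Lib.Helper5_SpPerfect
import Cfsg.Agent.Lib.Helper81_JointEigen
import Cfsg.Agent.Lib.Helper81_AddCharDual
import Cfsg.Agent.Lib.Helper81_SymOrbit

set_option autoImplicit false

/-!
# The Landazuri–Seitz bound `(q^n - 1)/2` for `Sp_{2n}(q)`, `q` odd (helper81)

`core2`: if `R : Sp_{2n}(F) →* End_K(M)` (`K` algebraically closed, `char K ≠ p`) is non-trivial
on some Siegel element `Xg S`, then `q^n ≤ 2 dim M + 1`.  The weights of the abelian group
`{Xg S}` on `M` are `S ↦ ψ₀(tr(S T))`, `T` symmetric; the Levi subgroup moves them by congruence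
`T ↦ Aᵀ T A`, and `Helper81_SymOrbit.orbit_bound` counts a congruence-stable set.
-/

namespace Cfsg.Agent.Lib.Helper81_SpWeights

open Matrix Module
open Cfsg.Agent.Lib.Helper5_SpPerfect Cfsg.Agent.Lib.Helper81_JointEigen
  Cfsg.Agent.Lib.Helper81_AddCharDual Cfsg.Agent.Lib.Helper81_SymOrbit

variable {F : Type*} [Field F] {n : ℕ}

/-- symmetric matrices as a subspace -/
def symSub (n : ℕ) (F : Type*) [Field F] : Submodule F (Matrix (Fin n) (Fin n) F) where
  carrier := {S | Sᵀ = S}
  add_mem' := fun {a b} ha hb => by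
    show (a + b)ᵀ = a + b
    rw [Matrix.transpose_add, ha, hb]
  zero_mem' := Matrix.transpose_zero
  smul_mem' := fun c a ha => by
    show (c • a)ᵀ = c • a
    rw [Matrix.transpose_smul, ha]

theorem mem_symSub {S : Matrix (Fin n) (Fin n) F} : S ∈ symSub n F ↔ Sᵀ = S := Iff.rfl

/-- the Siegel element of a symmetric matrix -/
def xs (S : symSub n F) : ↥(Matrix.symplecticGroup (Fin n) F) := Xg S.1 (mem_symSub.mp S.2)

theorem xs_add (S S' : symSub n F) : xs (S + S') = xs S * xs S' := by
  unfold xs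
  rw [Xg_mul]
  rfl

theorem xs_zero : xs (0 : symSub n F) = 1 := Xg_zero

theorem xs_pow (S : symSub n F) (k : ℕ) : xs S ^ k = xs (k • S) := by
  induction k with
  | zero => rw [pow_zero, zero_smul, xs_zero]
  | succ k ih => rw [pow_succ, ih, succ_nsmul, xs_add]

theorem xs_comm (S S' : symSub n F) : Commute (xs S) (xs S') := by
  show xs S * xs S' = xs S' * xs S
  rw [← xs_add, ← xs_add, add_comm]

/-- congruence on symmetric matrices -/
def cong (A : Matrix (Fin n) (Fin n) F) (S : symSub n F) : symSub n F :=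
  ⟨A * S.1 * Aᵀ, by
    show (A * S.1 * Aᵀ)ᵀ = A * S.1 * Aᵀ
    rw [Matrix.transpose_mul, Matrix.transpose_mul, Matrix.transpose_transpose, S.2,
      Matrix.mul_assoc]⟩

theorem lg_mul_xs (A B : Matrix (Fin n) (Fin n) F) (h : A * B = 1) (S : symSub n F) :
    Lg A B h * xs S = xs (cong A S) * Lg A B h := Lg_mul_Xg A B S.1 h (mem_symSub.mp S.2)

/-- the trace pairing on symmetric matrices -/
def trP : symSub n F →ₗ[F] symSub n F →ₗ[F] F :=
  LinearMap.mk₂ F (fun S T => Matrix.trace (S.1 * T.1))
    (fun S S' T => by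
      show Matrix.trace ((S.1 + S'.1) * T.1) = _
      rw [Matrix.add_mul, Matrix.trace_add])
    (fun c S T => by
      show Matrix.trace ((c • S.1) * T.1) = c • _
      rw [Matrix.smul_mul, Matrix.trace_smul])
    (fun S T T' => by
      show Matrix.trace (S.1 * (T.1 + T'.1)) = _
      rw [Matrix.mul_add, Matrix.trace_add])
    (fun c S T => by
      show Matrix.trace (S.1 * (c • T.1)) = c • _
      rw [Matrix.mul_smul, Matrix.trace_smul])

theorem trP_apply (S T : symSub n F) : trP S T = Matrix.trace (S.1 * T.1) := rfl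

theorem trP_cong (A : Matrix (Fin n) (Fin n) F) (S T : symSub n F) :
    trP (cong A S) T = trP S (cong Aᵀ T) := by
  rw [trP_apply, trP_apply]
  show Matrix.trace (A * S.1 * Aᵀ * T.1) = Matrix.trace (S.1 * (Aᵀ * T.1 * Aᵀᵀ))
  have e1 : A * S.1 * Aᵀ * T.1 = A * (S.1 * Aᵀ * T.1) := by simp only [Matrix.mul_assoc]
  rw [Matrix.transpose_transpose, e1, Matrix.trace_mul_comm]
  congr 1
  simp only [Matrix.mul_assoc]

theorem trP_nondeg (h2 : (2 : F) ≠ 0) (T : symSub n F) (hT : T ≠ 0) : ∃ S : symSub n F, trP S T ≠ 0 := by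
  classical
  have : ∃ i j, T.1 i j ≠ 0 := by
    by_contra hcon
    push Not at hcon
    apply hT
    apply Subtype.ext
    ext i j
    exact hcon i j
  obtain ⟨i, j, hij⟩ := this
  have hsym : T.1 j i = T.1 i j := by
    have := congrFun (congrFun T.2 i) j
    rw [Matrix.transpose_apply] at this
    exact this
  refine ⟨⟨Matrix.single i j 1 + Matrix.single j i 1, ?_⟩, ?_⟩
  · show (Matrix.single i j (1 : F) + Matrix.single j i 1)ᵀ = _
    rw [Matrix.transpose_add, Matrix.transpose_single, Matrix.transpose_single, add_comm]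
  · rw [trP_apply]
    show Matrix.trace ((Matrix.single i j (1 : F) + Matrix.single j i 1) * T.1) ≠ 0
    rw [Matrix.add_mul, Matrix.trace_add, Matrix.trace_single_mul, Matrix.trace_single_mul,
      one_smul, one_smul, hsym]
    intro h
    have : (2 : F) * T.1 i j = 0 := by linear_combination h
    rcases mul_eq_zero.mp this with h' | h'
    · exact h2 h'
    · exact hij h'

theorem cong_cong (A B : Matrix (Fin n) (Fin n) F) (h : B * A = 1) (S : symSub n F) :
    cong B (cong A S) = S := by
  apply Subtype.ext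
  show B * (A * S.1 * Aᵀ) * Bᵀ = S.1
  have h' : Aᵀ * Bᵀ = 1 := by rw [← Matrix.transpose_mul, h, Matrix.transpose_one]
  calc B * (A * S.1 * Aᵀ) * Bᵀ = (B * A) * S.1 * (Aᵀ * Bᵀ) := by simp only [Matrix.mul_assoc]
    _ = S.1 := by rw [h, h', Matrix.one_mul, Matrix.mul_one]

section Main

variable [Fintype F]

theorem two_ne_zero_of_odd (hodd : Odd (Fintype.card F)) : (2 : F) ≠ 0 := by
  intro h2
  have h3 : ringChar F ∣ 2 := ringChar.dvd (by exact_mod_cast h2)
  have h4 : ringChar F = 2 := by
    rcases (Nat.dvd_prime Nat.prime_two).mp h3 with h | h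
    · exact absurd h CharP.ringChar_ne_one
    · exact h
  have h5 := FiniteField.even_card_of_char_two h4
  rcases hodd with ⟨k, hk⟩
  omega

variable {K : Type*} [Field K] [IsAlgClosed K] {M : Type*} [AddCommGroup M] [Module K M]
  [FiniteDimensional K M]

set_option maxHeartbeats 1600000 in
/-- the Landazuri–Seitz bound for `Sp_{2n}(q)`, `q` odd -/
theorem core2 (hodd : Odd (Fintype.card F)) (hn : 2 ≤ n) (p : ℕ) [CharP F p] (hp : (p : K) ≠ 0)
    (R : ↥(Matrix.symplecticGroup (Fin n) F) →* Module.End K M)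
    (hnt : ∃ S : symSub n F, R (xs S) ≠ 1) :
    Fintype.card F ^ n ≤ 2 * finrank K M + 1 := by
  classical
  have h2F : (2 : F) ≠ 0 := two_ne_zero_of_odd hodd
  set A : symSub n F → Module.End K M := fun S => R (xs S) with hAdef
  have hA : ∀ S, A S ^ p = 1 := by
    intro S
    show R (xs S) ^ p = 1
    rw [← map_pow, xs_pow]
    have : p • S = 0 := by
      rw [← Nat.cast_smul_eq_nsmul F, CharP.cast_eq_zero, zero_smul]
    rw [this, xs_zero, map_one]
  have hcomm : ∀ S S', Commute (A S) (A S') := fun S S' => (xs_comm S S').map R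
  have hAadd : ∀ S S', A (S + S') = A S * A S' := fun S S' => by
    show R (xs (S + S')) = R (xs S) * R (xs S')
    rw [xs_add, map_mul]
  have hA0 : A 0 = 1 := by
    show R (xs 0) = 1
    rw [xs_zero, map_one]
  -- weights are additive characters
  have hwt : ∀ χ : symSub n F → K, jointEigenspace A χ ≠ ⊥ →
      χ 0 = 1 ∧ ∀ S S', χ (S + S') = χ S * χ S' := by
    intro χ hχ
    obtain ⟨x, hxmem, hxne⟩ := Submodule.exists_mem_ne_zero_of_ne_bot hχ
    have hx : ∀ S, A S x = χ S • x := (mem_jointEigenspace A χ x).mp hxmem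
    constructor
    · have h1 : χ 0 • x = (1 : K) • x := by
        rw [← hx 0, hA0, one_smul]; rfl
      exact smul_left_injective K hxne h1
    · intro S S'
      have h1 : χ (S + S') • x = (χ S * χ S') • x := by
        rw [← hx (S + S'), hAadd, Module.End.mul_apply, hx S', map_smul, hx S, smul_smul,
          mul_comm]
      exact smul_left_injective K hxne h1
  -- a non-trivial weight
  obtain ⟨χ₀, hχ₀, S₁, hS₁⟩ : ∃ χ₀ : symSub n F → K, jointEigenspace A χ₀ ≠ ⊥ ∧
      ∃ S, χ₀ S ≠ 1 := by
    by_contra hcon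
    push Not at hcon
    obtain ⟨S, hS⟩ := hnt
    apply hS
    have htop := iSup_jointEigenspace hp A hA hcomm
    have hle : (⊤ : Submodule K M) ≤ LinearMap.ker (A S - 1) := by
      rw [← htop]
      refine iSup_le fun χ => ?_
      by_cases h : jointEigenspace A χ = ⊥
      · rw [h]; exact bot_le
      · intro x hx
        rw [LinearMap.mem_ker, LinearMap.sub_apply,
          (mem_jointEigenspace A χ x).mp hx S, hcon χ h S, one_smul]
        exact sub_self _
    refine LinearMap.ext fun x => ?_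
    have := hle (Submodule.mem_top : x ∈ ⊤)
    rw [LinearMap.mem_ker, LinearMap.sub_apply, sub_eq_zero] at this
    exact this
  obtain ⟨hχ0, hχadd⟩ := hwt χ₀ hχ₀
  -- the additive character of `F`
  set ψ₀ : F → K := fun s => χ₀ (s • S₁) with hψ₀
  have hψ0 : ψ₀ 0 = 1 := by
    show χ₀ ((0 : F) • S₁) = 1
    rw [zero_smul, hχ0]
  have hψadd : ∀ a b, ψ₀ (a + b) = ψ₀ a * ψ₀ b := fun a b => by
    show χ₀ ((a + b) • S₁) = χ₀ (a • S₁) * χ₀ (b • S₁)
    rw [add_smul, hχadd]
  have hψne : ∃ a, ψ₀ a ≠ 1 := ⟨1, by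
    show χ₀ ((1 : F) • S₁) ≠ 1
    rw [one_smul]; exact hS₁⟩
  -- every weight comes from the trace pairing
  have hex : ∀ χ : symSub n F → K, jointEigenspace A χ ≠ ⊥ →
      ∃ T : symSub n F, ∀ S, χ S = ψ₀ (trP S T) := fun χ hχ =>
    exists_eq_pairing ψ₀ hψ0 hψadd hψne trP (trP_nondeg h2F) le_rfl χ (hwt χ hχ).1 (hwt χ hχ).2
  set wt : symSub n F → symSub n F → K := fun T S => ψ₀ (trP S T) with hwtdef
  have hwtinj : Function.Injective wt :=
    pairing_injective ψ₀ hψ0 hψadd hψne trP (trP_nondeg h2F)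
  have hRne : ∀ (h : ↥(Matrix.symplecticGroup (Fin n) F)) (x : M), x ≠ 0 → R h x ≠ 0 := by
    intro h x hx h0
    apply hx
    have h1 : R h⁻¹ (R h x) = x := by
      rw [← Module.End.mul_apply, ← map_mul, inv_mul_cancel, map_one]; rfl
    rw [← h1, h0, map_zero]
  -- the set of non-zero weights
  set O : Finset (symSub n F) :=
    Finset.univ.filter fun T => T ≠ 0 ∧ jointEigenspace A (wt T) ≠ ⊥ with hO
  have key := card_le_finrank hp A hA hcomm (Y := ↥O) (fun T => wt T.1)
    (hwtinj.comp Subtype.val_injective) (fun T => (Finset.mem_filter.mp T.2).2.2)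
  rw [Fintype.card_coe] at key
  have hb := orbit_bound h2F hn (O.image Subtype.val)
    (by
      intro T hT
      obtain ⟨T', _, rfl⟩ := Finset.mem_image.mp hT
      exact mem_symSub.mp T'.2)
    (by
      intro T hT
      obtain ⟨T', hT', rfl⟩ := Finset.mem_image.mp hT
      intro h0
      exact (Finset.mem_filter.mp hT').2.1 (Subtype.ext h0))
    (by
      intro T hT B C hBC
      obtain ⟨T', hT', rfl⟩ := Finset.mem_image.mp hT
      obtain ⟨-, hT'0, hT'e⟩ := Finset.mem_filter.mp hT'
      have hCB : C * B = 1 := mul_eq_one_comm.mp hBC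
      rw [Finset.mem_image]
      refine ⟨cong Bᵀ T', ?_, ?_⟩
      · rw [Finset.mem_filter]
        refine ⟨Finset.mem_univ _, ?_, ?_⟩
        · intro h0
          apply hT'0
          have hBC' : Bᵀᵀ * Cᵀᵀ = 1 := by
            rw [Matrix.transpose_transpose, Matrix.transpose_transpose]; exact hBC
          have hCB' : Cᵀ * Bᵀ = 1 := by
            rw [← Matrix.transpose_mul, hBC, Matrix.transpose_one]
          rw [← cong_cong Bᵀ Cᵀ hCB' T', h0]
          apply Subtype.ext
          show Cᵀ * (0 : Matrix (Fin n) (Fin n) F) * Cᵀᵀ = 0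
          rw [Matrix.mul_zero, Matrix.zero_mul]
        · obtain ⟨x, hxmem, hxne⟩ := Submodule.exists_mem_ne_zero_of_ne_bot hT'e
          have hx : ∀ S, A S x = wt T' S • x := (mem_jointEigenspace A (wt T') x).mp hxmem
          intro hbot
          have hy : R (Lg C B hCB) x ∈ jointEigenspace A (wt (cong Bᵀ T')) := by
            rw [mem_jointEigenspace]
            intro S
            show R (xs S) (R (Lg C B hCB) x) = ψ₀ (trP S (cong Bᵀ T')) • R (Lg C B hCB) x
            have e1 : xs S * Lg C B hCB = Lg C B hCB * xs (cong B S) := by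
              rw [lg_mul_xs C B hCB (cong B S), cong_cong B C hCB S]
            rw [← Module.End.mul_apply, ← map_mul, e1, map_mul, Module.End.mul_apply]
            have := hx (cong B S)
            show R (Lg C B hCB) (A (cong B S) x) = _
            rw [this, map_smul]
            congr 1
            show ψ₀ (trP (cong B S) T') = ψ₀ (trP S (cong Bᵀ T'))
            rw [trP_cong]
          rw [hbot] at hy
          exact hRne _ _ hxne ((Submodule.mem_bot K).mp hy)
      · show Bᵀ * T'.1 * Bᵀᵀ = Bᵀ * T'.1 * B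
        rw [Matrix.transpose_transpose])
    (by
      obtain ⟨T₀, hT₀⟩ := hex χ₀ hχ₀
      refine ⟨T₀.1, Finset.mem_image.mpr ⟨T₀, ?_, rfl⟩⟩
      rw [Finset.mem_filter]
      refine ⟨Finset.mem_univ _, ?_, ?_⟩
      · rintro rfl
        apply hS₁
        rw [hT₀ S₁, map_zero, hψ0]
      · have : wt T₀ = χ₀ := funext fun S => (hT₀ S).symm
        rw [this]; exact hχ₀)
  rw [Finset.card_image_of_injective _ Subtype.val_injective] at hb
  omega

end Main

end Cfsg.Agent.Lib.Helper81_SpWeights
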