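import Mathlib
import Cfsg.Agent.S0765
import Cfsg.Agent.Lib.Helper5_SpPerfect
import Cfsg.Agent.Lib.Helper13_SympTrans
import Cfsg.Agent.Lib.Helper81_SpWeights

set_option autoImplicit false

/-!
# Consequences of the Landazuri–Seitz bound for `Sp_{2n}(q)`, `q` odd (helper81)

* `normal_eq_top`: a normal subgroup containing the root elements `Xg (c E_{ii})` is everything.
* `irr_of_bound`: a module of dimension `d` with `2d + 1 = q^n` on which some Siegel element acts
  non-trivially has no proper non-zero invariant subspace.
-/

namespace Cfsg.Agent.Lib.Helper81_SpIrr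

open Matrix Module
open Cfsg.Agent.Lib.Helper5_SpPerfect Cfsg.Agent.Lib.Helper13_SympTrans
  Cfsg.Agent.Lib.Helper81_SpWeights

variable {F : Type*} [Field F] {n : ℕ}

/-- a normal subgroup containing the root elements is the whole symplectic group -/
theorem normal_eq_top (N : Subgroup (Matrix.symplecticGroup (Fin n) F)) [hN : N.Normal]
    (i0 : Fin n) (h : ∀ c : F, Xg (single i0 i0 c) (by simp) ∈ N) : N = ⊤ := by
  have hall : ∀ (w : Fin n ⊕ Fin n → F) (c : F), transv n w c ∈ N := by
    intro w c
    by_cases hw : w = 0
    · subst hw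
      have : transv n (0 : Fin n ⊕ Fin n → F) c = 1 := by
        apply Subtype.ext
        show Cfsg.sympTransvection n 0 c = 1
        simp [Cfsg.sympTransvection]
      rw [this]; exact one_mem _
    · obtain ⟨g, _, hg⟩ := exists_transv_map n (Pi.single (Sum.inl i0) 1) w
        (by intro h0; have := congrFun h0 (Sum.inl i0); simp at this) hw
      rw [← hg, ← conj_transv, transv_single]
      exact hN.conj_mem _ (h c) g
  rw [eq_top_iff, ← Cfsg.Agent.S0765.result n, Subgroup.closure_le]
  rintro A ⟨w, c, hA⟩
  have : A = transv n w c := Subtype.ext hA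
  rw [this]; exact hall w c

section Unip

variable {K M : Type*} [Field K] [CharZero K] [AddCommGroup M] [Module K M]

theorem eq_one_of_sq_zero (T : Module.End K M) (p : ℕ) (hp : p ≠ 0) (hT : T ^ p = 1)
    (hE : (T - 1) * (T - 1) = 0) : T = 1 := by
  set E := T - 1 with hEdef
  have hTE : T = 1 + E := by rw [hEdef]; abel
  have hpow : ∀ k : ℕ, (1 + E) ^ k = 1 + (k : K) • E := by
    intro k
    induction k with
    | zero => simp
    | succ k ih =>
      rw [pow_succ, ih, add_mul, mul_add, mul_add, one_mul, mul_one, one_mul, smul_mul_assoc, hE,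
        smul_zero, add_zero, Nat.cast_succ, add_smul, one_smul]
      abel
  rw [hTE, hpow p] at hT
  have h1 : (p : K) • E = 0 := by
    have := congrArg (fun X => X - 1) hT
    simpa using this
  have hp' : (p : K) ≠ 0 := by exact_mod_cast hp
  have h2 : E = 0 := by
    rcases smul_eq_zero.mp h1 with h | h
    · exact absurd h hp'
    · exact h
  rw [hTE, h2, add_zero]

end Unip

section Irr

variable [Fintype F] {K : Type*} [Field K] [IsAlgClosed K] [CharZero K] {M : Type*}
  [AddCommGroup M] [Module K M] [FiniteDimensional K M]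

/-- no proper invariant subspaces in dimension `(q^n - 1)/2` -/
theorem irr_of_bound (hodd : Odd (Fintype.card F)) (hn : 2 ≤ n) (p : ℕ) [CharP F p]
    (R : ↥(Matrix.symplecticGroup (Fin n) F) →* Module.End K M)
    (hdim : 2 * finrank K M + 1 = Fintype.card F ^ n)
    (hnt : ∃ S : symSub n F, R (xs S) ≠ 1)
    (N : Submodule K M) (hN : ∀ g, ∀ v ∈ N, R g v ∈ N) : N = ⊥ ∨ N = ⊤ := by
  by_contra hcon
  push Not at hcon
  obtain ⟨hN0, hN1⟩ := hcon
  have hprime : p.Prime := CharP.char_is_prime F p
  have hpK : (p : K) ≠ 0 := by exact_mod_cast hprime.ne_zero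
  -- the two smaller representations
  let RN : ↥(Matrix.symplecticGroup (Fin n) F) →* Module.End K N :=
    { toFun := fun g => (R g).restrict (hN g)
      map_one' := by
        apply LinearMap.ext
        intro x
        apply Subtype.ext
        show (R 1) x.1 = x.1
        rw [map_one]; rfl
      map_mul' := fun g g' => by
        apply LinearMap.ext
        intro x
        apply Subtype.ext
        show (R (g * g')) x.1 = (R g) ((R g') x.1)
        rw [map_mul]; rfl }
  have hN' : ∀ g, N ≤ N.comap (R g) := fun g v hv => hN g v hv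
  let RQ : ↥(Matrix.symplecticGroup (Fin n) F) →* Module.End K (M ⧸ N) :=
    { toFun := fun g => N.mapQ N (R g) (hN' g)
      map_one' := by
        apply LinearMap.ext
        intro x
        induction x using Submodule.Quotient.induction_on with
        | _ x =>
          show N.mapQ N (R 1) (hN' 1) (Submodule.Quotient.mk x) = Submodule.Quotient.mk x
          rw [Submodule.mapQ_apply, map_one]; rfl
      map_mul' := fun g g' => by
        apply LinearMap.ext
        intro x
        induction x using Submodule.Quotient.induction_on with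
        | _ x =>
          show N.mapQ N (R (g * g')) (hN' (g * g')) (Submodule.Quotient.mk x) =
            N.mapQ N (R g) (hN' g) (N.mapQ N (R g') (hN' g') (Submodule.Quotient.mk x))
          rw [Submodule.mapQ_apply, Submodule.mapQ_apply, Submodule.mapQ_apply, map_mul]; rfl }
  have hlt1 : finrank K N < finrank K M := Submodule.finrank_lt hN1
  have hpos : 0 < finrank K N := by
    rw [Module.finrank_pos_iff (R := K)]
    obtain ⟨x, hx, hx0⟩ := Submodule.exists_mem_ne_zero_of_ne_bot hN0
    exact ⟨⟨⟨x, hx⟩, 0, fun h => hx0 (congrArg Subtype.val h)⟩⟩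
  have hquot := Submodule.finrank_quotient_add_finrank N
  have hRN : ∀ S : symSub n F, RN (xs S) = 1 := by
    intro S
    by_contra hne
    have := core2 hodd hn p hpK RN ⟨S, hne⟩
    omega
  have hRQ : ∀ S : symSub n F, RQ (xs S) = 1 := by
    intro S
    by_contra hne
    have := core2 hodd hn p hpK RQ ⟨S, hne⟩
    omega
  obtain ⟨S₀, hS₀⟩ := hnt
  apply hS₀
  apply eq_one_of_sq_zero (R (xs S₀)) p hprime.ne_zero
  · rw [← map_pow, xs_pow]
    have : p • S₀ = 0 := by
      rw [← Nat.cast_smul_eq_nsmul F, CharP.cast_eq_zero, zero_smul]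
    rw [this, xs_zero, map_one]
  · apply LinearMap.ext
    intro v
    rw [Module.End.mul_apply, LinearMap.zero_apply]
    -- `(T - 1) v ∈ N`
    have h1 : (R (xs S₀) - 1) v ∈ N := by
      have := congrArg (fun T : Module.End K (M ⧸ N) => T (Submodule.Quotient.mk v)) (hRQ S₀)
      simp only [Module.End.one_apply] at this
      have h2 : N.mapQ N (R (xs S₀)) (hN' (xs S₀)) (Submodule.Quotient.mk v) =
          Submodule.Quotient.mk v := this
      rw [Submodule.mapQ_apply, Submodule.Quotient.eq] at h2
      exact h2
    -- `T - 1` kills `N`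
    have h3 : ∀ w ∈ N, (R (xs S₀) - 1) w = 0 := by
      intro w hw
      have := congrArg (fun T : Module.End K N => (T ⟨w, hw⟩).1) (hRN S₀)
      simp only [Module.End.one_apply] at this
      have h4 : R (xs S₀) w = w := this
      rw [LinearMap.sub_apply, h4, Module.End.one_apply, sub_self]
    exact h3 _ h1

end Irr

end Cfsg.Agent.Lib.Helper81_SpIrr
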