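import Mathlib
import Cfsg.Agent.Lib.Helper5_SpPerfect
import Cfsg.Agent.Lib.Helper81_SpWeights
import Cfsg.Agent.Lib.Helper81_SpIrr
import Cfsg.Agent.Lib.Helper81_Heis
import Cfsg.Agent.Lib.Helper81_WeilLin
import Cfsg.Agent.Lib.Helper81_Schrodinger

set_option autoImplicit false

/-!
# S2524 (Tiep–Zalesskii gap theorem for `Sp_{2n}(q)`, `q` odd): shared definitions (helper75)

Text of the proof: `pending/helper75/S2524_proof.md`.

`G = Sp(Fin (m+1))`, index `0` distinguished, `G₂ = emb (Sp(Fin m))` acts on the indices `succ j`.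
* `zc c = xs (c E₀₀)`, `xb b = xs (e₀ bᵀ + b e₀ᵀ)`, `yt t = lg (1 + e₀ tᵀ)`, `ds s = lg (diag (s,1,..,1))`,
  `w0` the Weyl element of the index `0`, `hu u = zc (-(u_l·u_r)) * xb (-u_l) * yt u_r` the Heisenberg elements.
* `wsp R ψ₀ T`: the weight space of the Siegel radical `Q = {xs S}` for the weight `T`
  (`R (xs S) v = ψ₀ (tr (S T)) v`), `zsp R ψ₀ a`: the eigenspace of `Z = {zc c}` for `c ↦ ψ₀ (c a)`.
* `IsRk1 T`: `T = a • x xᵀ`;  `RankLeOne R ψ₀`: all weights are `IsRk1`.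
-/

namespace Cfsg.Agent.Lib.Helper75_TZ

open Matrix Module
open Cfsg.Agent.Lib.Helper5_SpPerfect Cfsg.Agent.Lib.Helper81_SpWeights
  Cfsg.Agent.Lib.Helper81_JointEigen

/-- the symplectic group as a type -/
abbrev SpG (n : ℕ) (F : Type*) [Field F] := ↥(Matrix.symplecticGroup (Fin n) F)

section Mat

variable {F : Type*} [Field F] {m : ℕ}

/-- the block matrix `[[c,0],[0,A]]` -/
def ext0 (c : F) (A : Matrix (Fin m) (Fin m) F) : Matrix (Fin (m + 1)) (Fin (m + 1)) F :=
  Matrix.of fun i j =>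
    Fin.cases (Fin.cases c (fun _ => 0) j) (fun i' => Fin.cases 0 (fun j' => A i' j') j) i

@[simp] theorem ext0_zero_zero (c : F) (A : Matrix (Fin m) (Fin m) F) : ext0 c A 0 0 = c := rfl

@[simp] theorem ext0_zero_succ (c : F) (A : Matrix (Fin m) (Fin m) F) (j : Fin m) :
    ext0 c A 0 j.succ = 0 := rfl

@[simp] theorem ext0_succ_zero (c : F) (A : Matrix (Fin m) (Fin m) F) (i : Fin m) :
    ext0 c A i.succ 0 = 0 := rfl

@[simp] theorem ext0_succ_succ (c : F) (A : Matrix (Fin m) (Fin m) F) (i j : Fin m) :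
    ext0 c A i.succ j.succ = A i j := rfl

theorem ext0_mul (c d : F) (A B : Matrix (Fin m) (Fin m) F) :
    ext0 c A * ext0 d B = ext0 (c * d) (A * B) := by
  ext i j
  rw [Matrix.mul_apply, Fin.sum_univ_succ]
  refine Fin.cases ?_ (fun i' => ?_) i <;> refine Fin.cases ?_ (fun j' => ?_) j <;>
    simp [Matrix.mul_apply]

theorem ext0_transpose (c : F) (A : Matrix (Fin m) (Fin m) F) : (ext0 c A)ᵀ = ext0 c Aᵀ := by
  ext i j
  refine Fin.cases ?_ (fun i' => ?_) i <;> refine Fin.cases ?_ (fun j' => ?_) j <;> simp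

theorem ext0_one : ext0 (1 : F) (1 : Matrix (Fin m) (Fin m) F) = 1 := by
  ext i j
  refine Fin.cases ?_ (fun i' => ?_) i <;> refine Fin.cases ?_ (fun j' => ?_) j <;>
    simp [Matrix.one_apply, Fin.succ_ne_zero, (Fin.succ_ne_zero _).symm]

theorem ext0_zero : ext0 (0 : F) (0 : Matrix (Fin m) (Fin m) F) = 0 := by
  ext i j
  refine Fin.cases ?_ (fun i' => ?_) i <;> refine Fin.cases ?_ (fun j' => ?_) j <;> simp

theorem ext0_neg (c : F) (A : Matrix (Fin m) (Fin m) F) : ext0 (-c) (-A) = -ext0 c A := by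
  ext i j
  refine Fin.cases ?_ (fun i' => ?_) i <;> refine Fin.cases ?_ (fun j' => ?_) j <;> simp

theorem ext0_add (c d : F) (A B : Matrix (Fin m) (Fin m) F) :
    ext0 (c + d) (A + B) = ext0 c A + ext0 d B := by
  ext i j
  refine Fin.cases ?_ (fun i' => ?_) i <;> refine Fin.cases ?_ (fun j' => ?_) j <;> simp

/-- the block matrix with the `2 x 2` matrix `[[a,b],[c,d]]` on the coordinates `e₀ˡ, e₀ʳ` and `g` on the
coordinates `succ j` -/
def embC (a b c d : F) (g : Matrix (Fin m ⊕ Fin m) (Fin m ⊕ Fin m) F) :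
    Matrix (Fin (m + 1) ⊕ Fin (m + 1)) (Fin (m + 1) ⊕ Fin (m + 1)) F :=
  fromBlocks (ext0 a g.toBlocks₁₁) (ext0 b g.toBlocks₁₂) (ext0 c g.toBlocks₂₁) (ext0 d g.toBlocks₂₂)

theorem embC_fromBlocks (a b c d : F) (A B C D : Matrix (Fin m) (Fin m) F) :
    embC a b c d (fromBlocks A B C D) = fromBlocks (ext0 a A) (ext0 b B) (ext0 c C) (ext0 d D) := by
  unfold embC
  rw [toBlocks_fromBlocks₁₁, toBlocks_fromBlocks₁₂, toBlocks_fromBlocks₂₁, toBlocks_fromBlocks₂₂]

theorem embC_mul (a b c d a' b' c' d' : F) (g g' : Matrix (Fin m ⊕ Fin m) (Fin m ⊕ Fin m) F) :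
    embC a b c d g * embC a' b' c' d' g' =
      embC (a * a' + b * c') (a * b' + b * d') (c * a' + d * c') (c * b' + d * d') (g * g') := by
  rw [← fromBlocks_toBlocks g, ← fromBlocks_toBlocks g', fromBlocks_multiply, embC_fromBlocks,
    embC_fromBlocks, embC_fromBlocks, fromBlocks_multiply]
  simp only [ext0_mul, ← ext0_add]

theorem embC_transpose (a b c d : F) (g : Matrix (Fin m ⊕ Fin m) (Fin m ⊕ Fin m) F) :
    (embC a b c d g)ᵀ = embC a c b d gᵀ := by
  rw [← fromBlocks_toBlocks g, fromBlocks_transpose, embC_fromBlocks, embC_fromBlocks,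
    fromBlocks_transpose]
  simp only [ext0_transpose]

theorem embC_one : embC (1 : F) 0 0 1 (1 : Matrix (Fin m ⊕ Fin m) (Fin m ⊕ Fin m) F) = 1 := by
  rw [← fromBlocks_one, embC_fromBlocks, ext0_one, ext0_zero, fromBlocks_one]

theorem embC_J : embC (0 : F) (-1) 1 0 (J (Fin m) F) = J (Fin (m + 1)) F := by
  unfold J
  rw [embC_fromBlocks, ext0_zero, ext0_one, ext0_neg, ext0_one]

theorem embC_mem {a b c d : F} (h : a * d - b * c = 1)
    {g : Matrix (Fin m ⊕ Fin m) (Fin m ⊕ Fin m) F} (hg : g ∈ symplecticGroup (Fin m) F) :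
    embC a b c d g ∈ symplecticGroup (Fin (m + 1)) F := by
  rw [SymplecticGroup.mem_iff] at hg ⊢
  rw [← embC_J, embC_transpose, embC_mul, embC_mul, hg]
  congr 1 <;> first | ring1 | linear_combination h | linear_combination -h

end Mat

section Elements

variable {F : Type*} [Field F] {m n : ℕ}

/-- the Levi element `lg A = [[A,0],[0,A⁻ᵀ]]` as a homomorphism `GL_n → Sp_{2n}` -/
def lgH : GL (Fin n) F →* SpG n F where
  toFun A := Lg A.1 A⁻¹.1 (by rw [← Units.val_mul, mul_inv_cancel, Units.val_one])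
  map_one' := by
    apply Subtype.ext
    show Lmat (1 : Matrix (Fin n) (Fin n) F) ((1 : GL (Fin n) F)⁻¹).1 = 1
    rw [inv_one, Units.val_one]
    unfold Lmat
    rw [transpose_one, fromBlocks_one]
  map_mul' A B := by
    apply Subtype.ext
    show Lmat (A * B).1 ((A * B)⁻¹).1 = Lmat A.1 A⁻¹.1 * Lmat B.1 B⁻¹.1
    unfold Lmat
    rw [fromBlocks_multiply, _root_.mul_inv_rev, Units.val_mul, Units.val_mul, transpose_mul]
    simp

theorem lgH_val (A : GL (Fin n) F) : (lgH A).1 = fromBlocks A.1 0 0 (A⁻¹.1)ᵀ := rfl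

/-- `lg A (xs S) (lg A)⁻¹ = xs (A S Aᵀ)` -/
theorem lgH_mul_xs (A : GL (Fin n) F) (S : symSub n F) :
    lgH A * xs S = xs (cong A.1 S) * lgH A :=
  (lg_mul_xs A.1 A⁻¹.1 (by rw [← Units.val_mul, mul_inv_cancel, Units.val_one]) S).symm ▸ rfl

/-- the embedding `Sp(Fin m) → Sp(Fin (m+1))` acting on the coordinates `succ j` -/
def emb : SpG m F →* SpG (m + 1) F where
  toFun g := ⟨embC 1 0 0 1 g.1, embC_mem (by ring) g.2⟩
  map_one' := Subtype.ext embC_one
  map_mul' g g' := by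
    apply Subtype.ext
    show embC 1 0 0 1 (g.1 * g'.1) = embC 1 0 0 1 g.1 * embC 1 0 0 1 g'.1
    rw [embC_mul]
    simp

theorem emb_val (g : SpG m F) : (emb g).1 = embC 1 0 0 1 g.1 := rfl

/-- the copy of `SL₂` on the coordinates `e₀ˡ, e₀ʳ` -/
def sl2 (a b c d : F) (h : a * d - b * c = 1) : SpG (m + 1) F :=
  ⟨embC a b c d 1, embC_mem h (one_mem _)⟩

theorem sl2_val (a b c d : F) (h : a * d - b * c = 1) :
    (sl2 a b c d h : SpG (m + 1) F).1 = embC a b c d 1 := rfl

/-- the Weyl element of the index `0`: `e₀ˡ ↦ e₀ʳ`, `e₀ʳ ↦ -e₀ˡ` -/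
def w0 : SpG (m + 1) F := sl2 0 (-1) 1 0 (by ring)

/-- `e₀` -/
def e0 : Fin (m + 1) → F := Pi.single 0 1

/-- a vector of `F^m` as a vector of `F^(m+1)` with zeroth coordinate `0` -/
def c0 (t : Fin m → F) : Fin (m + 1) → F := Fin.cons 0 t

@[simp] theorem c0_zero (t : Fin m → F) : c0 t 0 = 0 := rfl

@[simp] theorem c0_succ (t : Fin m → F) (j : Fin m) : c0 t j.succ = t j := rfl

theorem c0_dot_e0 (t : Fin m → F) : c0 t ⬝ᵥ (e0 : Fin (m + 1) → F) = 0 := by
  unfold e0
  rw [dotProduct_single, mul_one]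
  rfl

/-- the symmetric matrix `c E₀₀` -/
def zS (c : F) : symSub (m + 1) F :=
  ⟨Matrix.single 0 0 c, by show (Matrix.single 0 0 c)ᵀ = _; rw [Matrix.transpose_single]⟩

/-- `z(c) = xs (c E₀₀)`: the long root subgroup `Z` -/
def zc (c : F) : SpG (m + 1) F := xs (zS c)

/-- the symmetric matrix `e₀ bᵀ + b e₀ᵀ` -/
def xS (b : Fin m → F) : symSub (m + 1) F :=
  ⟨vecMulVec e0 (c0 b) + vecMulVec (c0 b) e0, by
    show (vecMulVec e0 (c0 b) + vecMulVec (c0 b) e0)ᵀ = _
    rw [transpose_add, transpose_vecMulVec, transpose_vecMulVec]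
    exact add_comm _ _⟩

/-- `x(b) = xs (e₀ bᵀ + b e₀ᵀ)` -/
def xb (b : Fin m → F) : SpG (m + 1) F := xs (xS b)

/-- the symmetric matrix `0 ⊕ S₂` -/
def emS (S : symSub m F) : symSub (m + 1) F :=
  ⟨ext0 0 S.1, by
    show (ext0 0 S.1)ᵀ = _
    rw [ext0_transpose, mem_symSub.mp S.2]⟩

/-- the matrix `1 + e₀ tᵀ` -/
def yA (t : Fin m → F) : Matrix (Fin (m + 1)) (Fin (m + 1)) F := 1 + vecMulVec e0 (c0 t)

theorem yA_mul (t t' : Fin m → F) : yA t * yA t' = yA (t + t') := by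
  unfold yA
  rw [Matrix.add_mul, Matrix.mul_add, Matrix.mul_add, Matrix.one_mul, Matrix.mul_one, Matrix.one_mul,
    vecMulVec_mul_vecMulVec, c0_dot_e0, zero_smul, vecMulVec_zero, add_zero]
  have : c0 (t + t') = c0 t + c0 t' := by
    funext i
    refine Fin.cases ?_ (fun j => ?_) i <;> simp [c0]
  rw [this, vecMulVec_add]
  abel

theorem yA_zero : yA (0 : Fin m → F) = 1 := by
  unfold yA
  have : c0 (0 : Fin m → F) = 0 := by
    funext i
    refine Fin.cases ?_ (fun j => ?_) i <;> simp [c0]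
  rw [this, vecMulVec_zero, add_zero]

/-- `y(t) = lg (1 + e₀ tᵀ)` -/
def yt (t : Fin m → F) : SpG (m + 1) F :=
  Lg (yA t) (yA (-t)) (by rw [yA_mul, add_neg_cancel, yA_zero])

/-- the diagonal matrix `diag (s, 1, .., 1)` -/
def dA (s : F) : Matrix (Fin (m + 1)) (Fin (m + 1)) F := ext0 s 1

theorem dA_mul (s s' : F) : (dA s : Matrix (Fin (m + 1)) (Fin (m + 1)) F) * dA s' = dA (s * s') := by
  unfold dA
  rw [ext0_mul, Matrix.mul_one]

/-- `d(s) = lg (diag (s,1,..,1))` -/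
def ds (s : Fˣ) : SpG (m + 1) F :=
  Lg (dA (s : F)) (dA ((s⁻¹ : Fˣ) : F)) (by
    rw [dA_mul, ← Units.val_mul, mul_inv_cancel, Units.val_one]
    exact ext0_one)

/-- the Heisenberg element attached to `u = (u_l ; u_r)` in `F^m ⊕ F^m`:
`h(u) w = w + B(û,w) e₀ˡ + B(e₀ˡ,w) û` -/
def hu (u : Fin m ⊕ Fin m → F) : SpG (m + 1) F :=
  zc (-((u ∘ Sum.inl) ⬝ᵥ (u ∘ Sum.inr))) * xb (-(u ∘ Sum.inl)) * yt (u ∘ Sum.inr)

/-- `1 ⊕ A₂` as an element of `GL_(m+1)` -/
def ext0GL : GL (Fin m) F →* GL (Fin (m + 1)) F where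
  toFun A := ⟨ext0 1 A.1, ext0 1 A⁻¹.1,
    by rw [ext0_mul, ← Units.val_mul, mul_inv_cancel, Units.val_one, mul_one, ext0_one],
    by rw [ext0_mul, ← Units.val_mul, inv_mul_cancel, Units.val_one, mul_one, ext0_one]⟩
  map_one' := Units.ext ext0_one
  map_mul' A B := Units.ext (by
    show ext0 1 (A.1 * B.1) = ext0 1 A.1 * ext0 1 B.1
    rw [ext0_mul, mul_one])

/-- the elementary matrix `1 + s E_jk` as an element of `GL` -/
def elemGL (j k : Fin n) (hjk : j ≠ k) (s : F) : GL (Fin n) F :=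
  ⟨1 + Matrix.single j k s, 1 - Matrix.single j k s, tv_mul_inv j k hjk s, by
    have := tv_mul_inv j k hjk (-s)
    have e : Matrix.single j k (-s) = -Matrix.single j k s := by
      ext a b
      simp only [Matrix.single_apply, Matrix.neg_apply]
      split_ifs <;> simp
    rw [e, ← sub_eq_add_neg, sub_neg_eq_add] at this
    exact this⟩

/-- the matrix `1 + b e₀ᵀ` -/
def lowA (b : Fin m → F) : Matrix (Fin (m + 1)) (Fin (m + 1)) F := 1 + vecMulVec (c0 b) e0

theorem c0_add (t t' : Fin m → F) : c0 (t + t') = c0 t + c0 t' := by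
  funext i
  refine Fin.cases ?_ (fun j => ?_) i <;> simp [c0]

theorem c0_zero' : c0 (0 : Fin m → F) = 0 := by
  funext i
  refine Fin.cases ?_ (fun j => ?_) i <;> simp [c0]

theorem e0_dot_c0 (t : Fin m → F) : (e0 : Fin (m + 1) → F) ⬝ᵥ c0 t = 0 := by
  rw [dotProduct_comm]
  exact c0_dot_e0 t

theorem lowA_mul (b b' : Fin m → F) : lowA b * lowA b' = lowA (b + b') := by
  unfold lowA
  rw [Matrix.add_mul, Matrix.mul_add, Matrix.mul_add, Matrix.one_mul, Matrix.mul_one, Matrix.one_mul,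
    vecMulVec_mul_vecMulVec, e0_dot_c0, zero_smul, vecMulVec_zero, add_zero, c0_add, add_vecMulVec]
  abel

theorem lowA_zero : lowA (0 : Fin m → F) = 1 := by
  unfold lowA
  rw [c0_zero', zero_vecMulVec, add_zero]

/-- `lg (1 + b e₀ᵀ)` -/
def lowL (b : Fin m → F) : SpG (m + 1) F :=
  lgH ⟨lowA b, lowA (-b), by rw [lowA_mul, add_neg_cancel, lowA_zero],
    by rw [lowA_mul, neg_add_cancel, lowA_zero]⟩

/-- the symmetric matrix `b b'ᵀ + b' bᵀ` -/
def symBB (b b' : Fin m → F) : symSub m F :=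
  ⟨vecMulVec b b' + vecMulVec b' b, by
    show (vecMulVec b b' + vecMulVec b' b)ᵀ = _
    rw [transpose_add, transpose_vecMulVec, transpose_vecMulVec]
    exact add_comm _ _⟩

/-- the diagonal matrix with `-1` at the place `i` (and `1` elsewhere) as an element of `GL` -/
def dnegGL (i : Fin n) : GL (Fin n) F :=
  ⟨Matrix.diagonal (Function.update 1 i (-1)), Matrix.diagonal (Function.update 1 i (-1)),
    by
      rw [Matrix.diagonal_mul_diagonal, ← Matrix.diagonal_one]
      congr 1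
      funext j
      by_cases h : j = i
      · subst h; simp
      · simp [Function.update_of_ne h],
    by
      rw [Matrix.diagonal_mul_diagonal, ← Matrix.diagonal_one]
      congr 1
      funext j
      by_cases h : j = i
      · subst h; simp
      · simp [Function.update_of_ne h]⟩

end Elements

section Weights

variable {F : Type*} [Field F] {n m : ℕ} {K : Type*} [Field K] {M : Type*} [AddCommGroup M]
  [Module K M] [FiniteDimensional K M]

/-- the weight space of the Siegel radical `Q = {xs S}` for the weight `T`: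
`R (xs S) v = ψ₀ (tr (S T)) v` for all symmetric `S` -/
def wsp (R : SpG n F →* Module.End K M) (ψ₀ : AddChar F K) (T : symSub n F) : Submodule K M :=
  jointEigenspace (fun S : symSub n F => R (xs S)) (fun S => ψ₀ (trP S T))

theorem mem_wsp (R : SpG n F →* Module.End K M) (ψ₀ : AddChar F K) (T : symSub n F) (v : M) :
    v ∈ wsp R ψ₀ T ↔ ∀ S : symSub n F, R (xs S) v = ψ₀ (trP S T) • v :=
  mem_jointEigenspace _ _ v

/-- the eigenspace of `Z = {zc c}` for the character `c ↦ ψ₀ (c a)` -/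
def zsp (R : SpG (m + 1) F →* Module.End K M) (ψ₀ : AddChar F K) (a : F) : Submodule K M :=
  jointEigenspace (fun c : F => R (zc c)) (fun c => ψ₀ (c * a))

theorem mem_zsp (R : SpG (m + 1) F →* Module.End K M) (ψ₀ : AddChar F K) (a : F) (v : M) :
    v ∈ zsp R ψ₀ a ↔ ∀ c : F, R (zc c) v = ψ₀ (c * a) • v :=
  mem_jointEigenspace _ _ v

/-- `T = a • x xᵀ` -/
def IsRk1 (T : Matrix (Fin n) (Fin n) F) : Prop :=
  ∃ (a : F) (x : Fin n → F), T = a • vecMulVec x x

/-- every weight of the Siegel radical has rank at most one -/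
def RankLeOne (R : SpG n F →* Module.End K M) (ψ₀ : AddChar F K) : Prop :=
  ∀ T : symSub n F, wsp R ψ₀ T ≠ ⊥ → IsRk1 T.1

/-- the rank one symmetric matrix `a • x xᵀ` -/
def rk1S (a : F) (x : Fin n → F) : symSub n F :=
  ⟨a • vecMulVec x x, by
    show (a • vecMulVec x x)ᵀ = _
    rw [transpose_smul, transpose_vecMulVec]⟩

/-- `T_a = a E₀₀` -/
def Ta (a : F) : symSub (m + 1) F := zS a

/-- the central element `-1_V` -/
def negOne : SpG n F := ⟨-1, SymplecticGroup.neg_mem (one_mem _)⟩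

/-- `-1_V` acts on `M` as the scalar `σ` -/
def CentralSign (R : SpG n F →* Module.End K M) (σ : K) : Prop :=
  ∀ v : M, R negOne v = σ • v

/-- no proper non-zero invariant subspace, and `M ≠ 0` -/
def IrrRep {Γ : Type*} [Group Γ] (R : Γ →* Module.End K M) : Prop :=
  Nontrivial M ∧ ∀ N : Submodule K M, (∀ g, ∀ v ∈ N, R g v ∈ N) → N = ⊥ ∨ N = ⊤

/-- `e` intertwines `R₁` and `R₂` -/
def IsoRep {Γ : Type*} [Group Γ] {M₁ M₂ : Type*} [AddCommGroup M₁] [Module K M₁]
    [AddCommGroup M₂] [Module K M₂] (R₁ : Γ →* Module.End K M₁) (R₂ : Γ →* Module.End K M₂) : Prop :=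
  ∃ e : M₁ ≃ₗ[K] M₂, ∀ g x, e (R₁ g x) = R₂ g (e x)

end Weights

section Weil

open Cfsg.Agent.Lib.Helper81_Heis Cfsg.Agent.Lib.Helper81_WeilLin Cfsg.Agent.Lib.Helper81_Schrodinger

/-- `Helper81_WeilLin.exists_weil`, keeping the normalisation `Good` -/
theorem exists_weil_good {F K V W : Type*} [Field F] [Field K] [AddCommGroup V] [AddCommGroup W]
    [Module K W] (D : HData F K V W) [IsAlgClosed K] [CharZero K] [FiniteDimensional K W]
    [Nontrivial W] (J : Module.End K W) [Fintype V] [DecidableEq V]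
    (hJ2 : J * J = 1) (hJ : D.IsInt (fun u => -u) J)
    (hJtr : LinearMap.trace K W J = 1)
    {G : Type*} [Group G] (act : G → V →+ V) (act_one : ∀ u, act 1 u = u)
    (act_mul : ∀ g g' u, act (g * g') u = act g (act g' u))
    (act_B : ∀ g u w, D.B (act g u) (act g w) = D.B u w) :
    ∃ ω : G →* Module.End K W, ∀ g, Good D J (act g) (ω g) := by
  have hex : ∀ g, ∃ T, Good D J (act g) T := fun g =>
    exists_good D J hJ2 hJ hJtr (act g) (act_B g)
  choose ω hω using hex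
  refine ⟨{ toFun := ω, map_one' := ?_, map_mul' := ?_ }, fun g => hω g⟩
  · have h1 : (act 1 : V → V) = id := funext act_one
    have h2 := hω 1
    rw [h1] at h2
    exact Good.unique D J hJ2 hJtr h2 (good_one D J)
  · intro g g'
    have h1 : (act (g * g') : V → V) = (act g : V → V) ∘ (act g' : V → V) :=
      funext (act_mul g g')
    have h2 := hω (g * g')
    rw [h1] at h2
    exact Good.unique D J hJ2 hJtr h2 ((hω g).mul D J (hω g'))

variable {F : Type*} [Field F] [Fintype F] [DecidableEq F] {K : Type*} [Field K] [IsAlgClosed K]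
  [CharZero K]

theorem half_add (h2 : (2 : F) ≠ 0) : (2⁻¹ : F) + 2⁻¹ = 1 := by
  rw [← two_mul, mul_inv_cancel₀ h2]

/-- the Weil representation on the Schrödinger model with `Good` normalisation -/
theorem exists_weil_sp_good (ψ : AddChar F K) (h : F) (h2 : (2 : F) ≠ 0) (hh : h + h = 1)
    (hψ : ψ ≠ 1) (k : ℕ) :
    ∃ ω : SpG k F →* Module.End K ((Fin k → F) → K),
      ∀ g, Good (schData ψ h hh hψ) (par k F K) (act g) (ω g) := by
  have hJ : (schData ψ h hh hψ).IsInt (fun u => -u) (par k F K) := fun u => par_mul_hs ψ h u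
  exact exists_weil_good (schData ψ h hh hψ)
    (par k F K) par_mul_par hJ (trace_par h2) (G := SpG k F) act
    (fun u => by rw [act_apply]; exact Matrix.one_mulVec u)
    (fun g g' u => by
      rw [act_apply, act_apply, act_apply, Matrix.mulVec_mulVec]
      rfl)
    (fun g u w => by
      rw [act_apply, act_apply]
      exact Cfsg.Agent.Lib.Helper13_Symp.sympForm_mulVec_mulVec_of_mem k g.2 u w)

/-- the Weil representation of `Sp(Fin k)` for the additive character `ψ` (and `h = 1/2`);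
junk value `1` if `2 = 0` or `ψ = 1` -/
noncomputable def weil (ψ : AddChar F K) (k : ℕ) : SpG k F →* Module.End K ((Fin k → F) → K) :=
  if hyp : (2 : F) ≠ 0 ∧ ψ ≠ 1 then
    Classical.choose (exists_weil_sp_good ψ (2⁻¹ : F) hyp.1 (half_add hyp.1) hyp.2 k)
  else 1

theorem weil_good (ψ : AddChar F K) (h2 : (2 : F) ≠ 0) (hψ : ψ ≠ 1) (k : ℕ) (g : SpG k F) :
    Good (schData ψ (2⁻¹ : F) (half_add h2) hψ) (par k F K) (act g) (weil ψ k g) := by
  unfold weil
  rw [dif_pos ⟨h2, hψ⟩]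
  exact Classical.choose_spec (exists_weil_sp_good ψ (2⁻¹ : F) h2 (half_add h2) hψ k) g

/-- the intertwining property of the Weil representation -/
theorem weil_int (ψ : AddChar F K) (h2 : (2 : F) ≠ 0) (hψ : ψ ≠ 1) (k : ℕ) (g : SpG k F)
    (u : Fin k ⊕ Fin k → F) :
    weil ψ k g * hs ψ (2⁻¹ : F) u = hs ψ (2⁻¹ : F) (g.1 *ᵥ u) * weil ψ k g :=
  (weil_good ψ h2 hψ k g).1 u

/-- the Weil representation commutes with the parity operator -/
theorem weil_par (ψ : AddChar F K) (h2 : (2 : F) ≠ 0) (hψ : ψ ≠ 1) (k : ℕ) (g : SpG k F) :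
    Commute (weil ψ k g) (par k F K) :=
  (weil_good ψ h2 hψ k g).2.2.1

/-- the additive character `x ↦ ψ₀ (-2 a x)` -/
def psiA (ψ₀ : AddChar F K) (a : F) : AddChar F K := ψ₀.mulShift (-2 * a)

/-- `ω_a^(k)`: the Weil representation whose Siegel weights are `a • s sᵀ` -/
noncomputable def weilA (ψ₀ : AddChar F K) (a : F) (k : ℕ) :
    SpG k F →* Module.End K ((Fin k → F) → K) := weil (psiA ψ₀ a) k

theorem psiA_ne_one (ψ₀ : AddChar F K) (hψ₀ : ψ₀ ≠ 1) (h2 : (2 : F) ≠ 0) {a : F} (ha : a ≠ 0) :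
    psiA ψ₀ a ≠ 1 := by
  intro h
  apply hψ₀
  ext x
  have h1 := DFunLike.congr_fun h ((-2 * a)⁻¹ * x)
  unfold psiA at h1
  rw [AddChar.mulShift_apply, ← mul_assoc,
    mul_inv_cancel₀ (mul_ne_zero (neg_ne_zero.mpr h2) ha), one_mul] at h1
  rw [h1]
  rfl

/-- the even (`p = false`) and odd (`p = true`) functions -/
def funP (k : ℕ) (F K : Type*) [Field F] [Field K] (p : Bool) : Submodule K ((Fin k → F) → K) :=
  if p then Wm (par k F K) else Wp (par k F K)

/-- `f_v φ = ∑ s, φ s • R (y(-s)) v` -/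
noncomputable def fv {m : ℕ} {M : Type*} [AddCommGroup M] [Module K M]
    (R : SpG (m + 1) F →* Module.End K M) (v : M) : ((Fin m → F) → K) →ₗ[K] M :=
  ∑ s : Fin m → F, (LinearMap.proj s : ((Fin m → F) → K) →ₗ[K] K).smulRight (R (yt (-s)) v)

theorem fv_apply {m : ℕ} {M : Type*} [AddCommGroup M] [Module K M]
    (R : SpG (m + 1) F →* Module.End K M) (v : M) (φ : (Fin m → F) → K) :
    fv R v φ = ∑ s : Fin m → F, φ s • R (yt (-s)) v := by
  unfold fv
  rw [LinearMap.sum_apply]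
  rfl

/-- the scalar by which `lg A` acts on `δ₀` in the Weil representation `ω_a^(k)` -/
noncomputable def cA (ψ₀ : AddChar F K) (a : F) (k : ℕ) (A : GL (Fin k) F) : K :=
  weilA ψ₀ a k (lgH A) (Pi.single 0 1) 0

/-- the scalar `κ` with `ω_a^(k) (-1) = κ • par` -/
noncomputable def kap (ψ₀ : AddChar F K) (a : F) (k : ℕ) : K :=
  weilA ψ₀ a k negOne (Pi.single 0 1) 0

/-- restriction of a representation to an invariant subspace -/
def subRep {Γ : Type*} [Group Γ] {M : Type*} [AddCommGroup M] [Module K M]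
    (R : Γ →* Module.End K M) (N : Submodule K M) (hN : ∀ g, ∀ v ∈ N, R g v ∈ N) :
    Γ →* Module.End K N where
  toFun g := (R g).restrict (hN g)
  map_one' := by
    apply LinearMap.ext
    intro x
    apply Subtype.ext
    show (R 1) x.1 = x.1
    rw [map_one]; rfl
  map_mul' g g' := by
    apply LinearMap.ext
    intro x
    apply Subtype.ext
    show (R (g * g')) x.1 = (R g) ((R g') x.1)
    rw [map_mul]; rfl

theorem subRep_apply {Γ : Type*} [Group Γ] {M : Type*} [AddCommGroup M] [Module K M]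
    (R : Γ →* Module.End K M) (N : Submodule K M) (hN : ∀ g, ∀ v ∈ N, R g v ∈ N) (g : Γ) (x : N) :
    ((subRep R N hN g) x : M) = R g x.1 := rfl

theorem weilA_mem_funP (ψ₀ : AddChar F K) (hψ₀ : ψ₀ ≠ 1) (h2 : (2 : F) ≠ 0) {a : F} (ha : a ≠ 0)
    (k : ℕ) (p : Bool) (g : SpG k F) (f : (Fin k → F) → K) (hf : f ∈ funP k F K p) :
    weilA ψ₀ a k g f ∈ funP k F K p := by
  have hc := weil_par (psiA ψ₀ a) h2 (psiA_ne_one ψ₀ hψ₀ h2 ha) k g
  unfold funP at hf ⊢
  cases p
  · simp only [Bool.false_eq_true, if_false] at hf ⊢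
    exact mapsTo_p hc f hf
  · simp only [if_true] at hf ⊢
    exact mapsTo_m hc f hf

/-- the Weil module `Fun^p (ω_a^(k))` (`p = false`: even part, `p = true`: odd part) -/
noncomputable def weilP (ψ₀ : AddChar F K) (hψ₀ : ψ₀ ≠ 1) (h2 : (2 : F) ≠ 0) (a : F) (ha : a ≠ 0)
    (k : ℕ) (p : Bool) : SpG k F →* Module.End K (funP k F K p) :=
  subRep (weilA ψ₀ a k) (funP k F K p) (weilA_mem_funP ψ₀ hψ₀ h2 ha k p)

/-- the basis function `δ_s` -/
def dl {k : ℕ} (s : Fin k → F) : (Fin k → F) → K := Pi.single s 1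

noncomputable instance symSubFintype {n : ℕ} : Fintype (symSub n F) := Fintype.ofFinite _

/-- the projection onto `M_(Z,a)`: `q⁻¹ ∑_c ψ₀(-c a) R(z c)` -/
noncomputable def zproj {m : ℕ} {M : Type*} [AddCommGroup M] [Module K M]
    (R : SpG (m + 1) F →* Module.End K M) (ψ₀ : AddChar F K) (a : F) : Module.End K M :=
  ((Fintype.card F : K))⁻¹ • ∑ c : F, ψ₀ (-(c * a)) • R (zc c)

/-- the projection onto `M^Q`: `|Q|⁻¹ ∑_S R(xs S)` -/
noncomputable def qproj {n : ℕ} {M : Type*} [AddCommGroup M] [Module K M]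
    (R : SpG n F →* Module.End K M) : Module.End K M :=
  ((Fintype.card (symSub n F) : K))⁻¹ • ∑ S : symSub n F, R (xs S)

/-- the `P`-average `∑_(S,A) R_M(xs S lg A) φ₀ R_Ω(xs S lg A)⁻¹` of a linear map `φ₀` -/
noncomputable def PhiE {n : ℕ} {Ω M : Type*} [AddCommGroup Ω] [Module K Ω] [AddCommGroup M]
    [Module K M] (RΩ : SpG n F →* Module.End K Ω) (RM : SpG n F →* Module.End K M)
    (φ₀ : Ω →ₗ[K] M) : Ω →ₗ[K] M :=
  ∑ S : symSub n F, ∑ A : GL (Fin n) F,
    (RM (xs S * lgH A)).comp (φ₀.comp (RΩ (xs S * lgH A)⁻¹))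

end Weil

end Cfsg.Agent.Lib.Helper75_TZ
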