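import Mathlib
import Cfsg.Agent.Lib.Helper75_TZDefs

set_option autoImplicit false

/-!
# S2524 package REP1 (helper10 for helper75): bridges `IrrRep` / `IsoRep` <-> Mathlib's
`Representation.IsIrreducible` / `Representation.Equiv`, and the formal properties of `IsoRep`.
-/

namespace Cfsg.Agent.Lib.Helper75_TZ

open Matrix Module
open Cfsg.Agent.Lib.Helper5_SpPerfect Cfsg.Agent.Lib.Helper81_SpWeights
  Cfsg.Agent.Lib.Helper81_JointEigen Cfsg.Agent.Lib.Helper81_Heis Cfsg.Agent.Lib.Helper81_WeilLin
  Cfsg.Agent.Lib.Helper81_Schrodinger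

section REP

variable {K : Type*} [Field K] {Γ : Type*} [Group Γ] {M : Type*} [AddCommGroup M] [Module K M]
  {M₁ : Type*} [AddCommGroup M₁] [Module K M₁] {M₂ : Type*} [AddCommGroup M₂] [Module K M₂]
  {M₃ : Type*} [AddCommGroup M₃] [Module K M₃]

/-- PACKAGE REP1: bridge to Mathlib -/
theorem irrRep_iff (R : Γ →* Module.End K M) :
    IrrRep R ↔ Representation.IsIrreducible (show Representation K Γ M from R) := by
  constructor
  · rintro ⟨hnt, hN⟩
    refine { exists_pair_ne := ?_, eq_bot_or_eq_top := ?_ }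
    · refine ⟨⊥, ⊤, fun h => ?_⟩
      have h1 : (⊥ : Submodule K M) = ⊤ := congrArg Subrepresentation.toSubmodule h
      exact bot_ne_top h1
    · intro a
      rcases hN a.toSubmodule (fun g v hv => a.apply_mem_toSubmodule g hv) with h | h
      · left
        exact Subrepresentation.toSubmodule_injective h
      · right
        exact Subrepresentation.toSubmodule_injective h
  · intro hs
    have hs' : IsSimpleOrder (Subrepresentation (show Representation K Γ M from R)) := hs
    refine ⟨?_, ?_⟩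
    · by_contra hnt
      rw [not_nontrivial_iff_subsingleton] at hnt
      obtain ⟨a, b, hab⟩ := hs'.exists_pair_ne
      apply hab
      apply Subrepresentation.toSubmodule_injective
      exact Subsingleton.elim _ _
    · intro N hN
      rcases hs'.eq_bot_or_eq_top
        (⟨N, fun g v hv => hN g v hv⟩ : Subrepresentation (show Representation K Γ M from R))
        with h | h
      · left
        exact congrArg Subrepresentation.toSubmodule h
      · right
        exact congrArg Subrepresentation.toSubmodule h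

theorem isoRep_iff (R₁ : Γ →* Module.End K M₁) (R₂ : Γ →* Module.End K M₂) :
    IsoRep R₁ R₂ ↔ Nonempty (Representation.Equiv (show Representation K Γ M₁ from R₁)
      (show Representation K Γ M₂ from R₂)) := by
  constructor
  · rintro ⟨e, he⟩
    exact ⟨Representation.Equiv.mk e (fun g => LinearMap.ext fun x => he g x)⟩
  · rintro ⟨φ⟩
    refine ⟨φ.toLinearEquiv, fun g x => ?_⟩
    exact LinearMap.congr_fun (φ.isIntertwining' g) x

theorem isoRep_refl (R : Γ →* Module.End K M) : IsoRep R R :=
  ⟨LinearEquiv.refl K M, fun _ _ => rfl⟩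

theorem isoRep_symm {R₁ : Γ →* Module.End K M₁} {R₂ : Γ →* Module.End K M₂} (h : IsoRep R₁ R₂) :
    IsoRep R₂ R₁ := by
  obtain ⟨e, he⟩ := h
  refine ⟨e.symm, fun g y => ?_⟩
  apply e.injective
  rw [e.apply_symm_apply, he, e.apply_symm_apply]

theorem isoRep_trans {R₁ : Γ →* Module.End K M₁} {R₂ : Γ →* Module.End K M₂}
    {R₃ : Γ →* Module.End K M₃} (h : IsoRep R₁ R₂) (h' : IsoRep R₂ R₃) : IsoRep R₁ R₃ := by
  obtain ⟨e, he⟩ := h
  obtain ⟨e', he'⟩ := h'
  refine ⟨e.trans e', fun g x => ?_⟩
  rw [LinearEquiv.trans_apply, he, he', LinearEquiv.trans_apply]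

theorem isoRep_irrRep {R₁ : Γ →* Module.End K M₁} {R₂ : Γ →* Module.End K M₂} (h : IsoRep R₁ R₂)
    (h₁ : IrrRep R₁) : IrrRep R₂ := by
  obtain ⟨e, he⟩ := h
  obtain ⟨hnt, hN⟩ := h₁
  refine ⟨e.symm.toEquiv.nontrivial, fun N hNinv => ?_⟩
  rcases hN (N.comap (e : M₁ →ₗ[K] M₂)) (fun g v hv => by
    rw [Submodule.mem_comap] at hv ⊢
    show e (R₁ g v) ∈ N
    rw [he]
    exact hNinv g _ hv) with h | h
  · left
    rw [eq_bot_iff]
    intro y hy
    have h1 : e.symm y ∈ N.comap (e : M₁ →ₗ[K] M₂) := by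
      rw [Submodule.mem_comap]
      show e (e.symm y) ∈ N
      rwa [e.apply_symm_apply]
    rw [h, Submodule.mem_bot] at h1
    rw [Submodule.mem_bot]
    have := congrArg e h1
    rwa [e.apply_symm_apply, map_zero] at this
  · right
    rw [eq_top_iff]
    intro y _
    have h1 : e.symm y ∈ N.comap (e : M₁ →ₗ[K] M₂) := by rw [h]; trivial
    rw [Submodule.mem_comap] at h1
    have h2 : e (e.symm y) ∈ N := h1
    rwa [e.apply_symm_apply] at h2

theorem isoRep_finrank {R₁ : Γ →* Module.End K M₁} {R₂ : Γ →* Module.End K M₂} (h : IsoRep R₁ R₂) :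
    finrank K M₁ = finrank K M₂ := by
  obtain ⟨e, -⟩ := h
  exact LinearEquiv.finrank_eq e

end REP

end Cfsg.Agent.Lib.Helper75_TZ
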