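import Mathlib
import Cfsg.Agent.Lib.Helper75_TZDefs

set_option autoImplicit false

/-!
# S2524, packages S6 / S6b (helper10): auxiliary group-theoretic lemmas (no dependencies)

`S6aux.lowL_add`, `S6aux.lowL_zero`, `S6aux.lowU_single` (`lowL (Pi.single j c) = lgH (elemGL j.succ 0 _ c)`),
`S6aux.yt_zero`, and self-contained copies `S6aux.emb_lgH'`, `S6aux.negOne_eq'`, `S6aux.fv_dl'` of the statements of
GRP-EMB / S5i.
-/

namespace Cfsg.Agent.Lib.Helper75_TZ

open Matrix Module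
open Cfsg.Agent.Lib.Helper5_SpPerfect Cfsg.Agent.Lib.Helper81_SpWeights
  Cfsg.Agent.Lib.Helper81_JointEigen Cfsg.Agent.Lib.Helper81_Heis Cfsg.Agent.Lib.Helper81_WeilLin
  Cfsg.Agent.Lib.Helper81_Schrodinger

namespace S6aux

section Grp

variable {F : Type*} [Field F] {m : ℕ}

theorem yt_zero : (yt (0 : Fin m → F) : SpG (m + 1) F) = 1 := by
  apply Subtype.ext
  show Lmat (yA (0 : Fin m → F)) (yA (-(0 : Fin m → F))) = 1
  rw [neg_zero, yA_zero]
  unfold Lmat
  rw [transpose_one, fromBlocks_one]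

/-- the unit `1 + b e₀ᵀ` -/
def lowU (b : Fin m → F) : GL (Fin (m + 1)) F :=
  ⟨lowA b, lowA (-b), by rw [lowA_mul, add_neg_cancel, lowA_zero],
    by rw [lowA_mul, neg_add_cancel, lowA_zero]⟩

theorem lowL_eq (b : Fin m → F) : (lowL b : SpG (m + 1) F) = lgH (lowU b) := rfl

theorem lowU_add (b b' : Fin m → F) : (lowU (b + b') : GL (Fin (m + 1)) F) = lowU b * lowU b' := by
  apply Units.ext
  show lowA (b + b') = lowA b * lowA b'
  rw [lowA_mul]

theorem lowL_add (b b' : Fin m → F) :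
    (lowL (b + b') : SpG (m + 1) F) = lowL b * lowL b' := by
  rw [lowL_eq, lowL_eq, lowL_eq, lowU_add, map_mul]

theorem lowL_zero : (lowL (0 : Fin m → F) : SpG (m + 1) F) = 1 := by
  rw [lowL_eq]
  have : (lowU (0 : Fin m → F) : GL (Fin (m + 1)) F) = 1 := Units.ext lowA_zero
  rw [this, map_one]

theorem lowU_single [DecidableEq F] (j : Fin m) (c : F) :
    (lowU (Pi.single j c) : GL (Fin (m + 1)) F) = elemGL j.succ 0 (Fin.succ_ne_zero j) c := by
  apply Units.ext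
  show lowA (Pi.single j c) = 1 + Matrix.single j.succ 0 c
  unfold lowA
  congr 1
  ext i k
  rw [vecMulVec_apply, Matrix.single_apply]
  unfold e0
  refine Fin.cases ?_ (fun i' => ?_) i
  · rw [c0_zero, zero_mul, if_neg]
    rintro ⟨h, -⟩
    exact Fin.succ_ne_zero j h
  · rw [c0_succ]
    by_cases hi : i' = j
    · subst hi
      rw [Pi.single_eq_same]
      by_cases hk : k = 0
      · subst hk
        rw [Pi.single_eq_same, mul_one, if_pos ⟨rfl, rfl⟩]
      · rw [Pi.single_eq_of_ne hk, mul_zero, if_neg]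
        rintro ⟨-, h⟩
        exact hk h.symm
    · rw [Pi.single_eq_of_ne hi, zero_mul, if_neg]
      rintro ⟨h, -⟩
      exact hi (Fin.succ_injective _ h).symm

theorem emb_lgH' (A : GL (Fin m) F) : emb (lgH A) = lgH (ext0GL A) := by
  apply Subtype.ext
  rw [emb_val, lgH_val, lgH_val, embC_fromBlocks, ext0_zero, ← ext0_transpose]
  rfl

theorem negOne_eq' : (negOne : SpG (m + 1) F) = ds (-1) * emb negOne := by
  apply Subtype.ext
  show (-1 : Matrix (Fin (m + 1) ⊕ Fin (m + 1)) (Fin (m + 1) ⊕ Fin (m + 1)) F) =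
    Lmat (dA ((-1 : Fˣ) : F)) (dA (((-1 : Fˣ)⁻¹ : Fˣ) : F)) *
      embC 1 0 0 1 (-1 : Matrix (Fin m ⊕ Fin m) (Fin m ⊕ Fin m) F)
  have h1 : Lmat (dA ((-1 : Fˣ) : F)) (dA (((-1 : Fˣ)⁻¹ : Fˣ) : F)) =
      (embC (-1) 0 0 (-1) 1 : Matrix (Fin (m + 1) ⊕ Fin (m + 1)) (Fin (m + 1) ⊕ Fin (m + 1)) F) := by
    rw [← fromBlocks_one, embC_fromBlocks, ext0_zero, inv_neg_one, Units.val_neg, Units.val_one]
    unfold Lmat dA
    rw [ext0_transpose, transpose_one]
  rw [h1, embC_mul]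
  have h2 : (-1 : Matrix (Fin m ⊕ Fin m) (Fin m ⊕ Fin m) F) = fromBlocks (-1) 0 0 (-1) := by
    rw [← fromBlocks_one, fromBlocks_neg, neg_zero]
  have h3 : (-1 : Matrix (Fin (m + 1) ⊕ Fin (m + 1)) (Fin (m + 1) ⊕ Fin (m + 1)) F) =
      fromBlocks (-1) 0 0 (-1) := by
    rw [← fromBlocks_one, fromBlocks_neg, neg_zero]
  rw [one_mul, h2, embC_fromBlocks, h3]
  have e1 : (-1 : F) * 1 + 0 * 0 = -1 := by ring
  have e2 : (-1 : F) * 0 + 0 * 1 = 0 := by ring
  have e3 : (0 : F) * 1 + -1 * 0 = 0 := by ring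
  have e4 : (0 : F) * 0 + -1 * 1 = -1 := by ring
  rw [e1, e2, e3, e4, ext0_zero, ext0_neg, ext0_one]

end Grp

section Fv

variable {F : Type*} [Field F] [Fintype F] [DecidableEq F] {m : ℕ} {K : Type*} [Field K]
  [IsAlgClosed K] [CharZero K] {M : Type*} [AddCommGroup M] [Module K M]

theorem fv_dl' (R : SpG (m + 1) F →* Module.End K M) (v : M) (s : Fin m → F) :
    fv R v (dl s) = R (yt (-s)) v := by
  rw [fv_apply, Finset.sum_eq_single s]
  · unfold dl
    rw [Pi.single_eq_same, one_smul]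
  · intro s' _ hs'
    unfold dl
    rw [Pi.single_eq_of_ne hs', zero_smul]
  · intro h
    exact absurd (Finset.mem_univ s) h

end Fv

end S6aux

end Cfsg.Agent.Lib.Helper75_TZ
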