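import Mathlib
import Cfsg.Agent.Lib.Helper75_TZDefs

set_option autoImplicit false

/-!
# S2524, Part W: the Weil modules — tools on top of helper75's definitions (helper81)

Text: `pending/helper75/S2524_proof.md`, section 2.  The Weil representation itself is helper75's
`Cfsg.Agent.Lib.Helper75_TZ.weilA ψ₀ a k = weil (psiA ψ₀ a) k` (normalised: `weil_good`), with `psiA ψ₀ a = ψ₀ (-2a ·)`
and `h = 2⁻¹`; `weilP .. p` are its even (`p = false`) / odd (`p = true`) parts, `cA`, `kap` the scalars of `lg A`, `-1`.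

Here: `psiA_apply`, `weilA_good`, `weilA_int`, `weilA_par` (wrappers), the substitution operator `subA A f = f ∘ Aᵀ`,
`hsXY_single` (Schrödinger operators on the delta functions), `Jg k` (the Weyl element `J`).
-/

namespace Cfsg.Agent.Lib.Helper81_TZW

open Matrix Module
open Cfsg.Agent.Lib.Helper5_SpPerfect Cfsg.Agent.Lib.Helper81_SpWeights
  Cfsg.Agent.Lib.Helper81_Heis Cfsg.Agent.Lib.Helper81_WeilLin Cfsg.Agent.Lib.Helper81_Schrodinger
  Cfsg.Agent.Lib.Helper75_TZ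

variable {F : Type*} [Field F] [Fintype F] [DecidableEq F] {K : Type*} [Field K] [IsAlgClosed K]
  [CharZero K]

theorem psiA_apply (ψ₀ : AddChar F K) (a x : F) : psiA ψ₀ a x = ψ₀ (-2 * a * x) := by
  unfold psiA
  rw [AddChar.mulShift_apply]

theorem two_mul_half (h2 : (2 : F) ≠ 0) : (2 : F) * 2⁻¹ = 1 := mul_inv_cancel₀ h2

/-- (W0) `ω_a^{(k)}` consists of normalised intertwiners -/
theorem weilA_good (ψ₀ : AddChar F K) (hψ₀ : ψ₀ ≠ 1) (h2 : (2 : F) ≠ 0) {a : F} (ha : a ≠ 0) (k : ℕ)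
    (g : SpG k F) :
    Good (schData (psiA ψ₀ a) (2⁻¹ : F) (half_add h2) (psiA_ne_one ψ₀ hψ₀ h2 ha)) (par k F K)
      (act g) (weilA ψ₀ a k g) :=
  weil_good (psiA ψ₀ a) h2 (psiA_ne_one ψ₀ hψ₀ h2 ha) k g

/-- the intertwining property `ω(g) hs(u) = hs(g u) ω(g)` -/
theorem weilA_int (ψ₀ : AddChar F K) (hψ₀ : ψ₀ ≠ 1) (h2 : (2 : F) ≠ 0) {a : F} (ha : a ≠ 0) (k : ℕ)
    (g : SpG k F) (u : Fin k ⊕ Fin k → F) :
    weilA ψ₀ a k g * hs (psiA ψ₀ a) (2⁻¹ : F) u =
      hs (psiA ψ₀ a) (2⁻¹ : F) (g.1 *ᵥ u) * weilA ψ₀ a k g :=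
  weil_int (psiA ψ₀ a) h2 (psiA_ne_one ψ₀ hψ₀ h2 ha) k g u

theorem weilA_par (ψ₀ : AddChar F K) (hψ₀ : ψ₀ ≠ 1) (h2 : (2 : F) ≠ 0) {a : F} (ha : a ≠ 0) (k : ℕ)
    (g : SpG k F) : Commute (weilA ψ₀ a k g) (par k F K) :=
  weil_par (psiA ψ₀ a) h2 (psiA_ne_one ψ₀ hψ₀ h2 ha) k g

theorem weilA_isUnit (ψ₀ : AddChar F K) (a : F) (k : ℕ) (g : SpG k F) : IsUnit (weilA ψ₀ a k g) :=
  (Group.isUnit g).map (weilA ψ₀ a k)

theorem weilP_apply_coe (ψ₀ : AddChar F K) (hψ₀ : ψ₀ ≠ 1) (h2 : (2 : F) ≠ 0) (a : F) (ha : a ≠ 0)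
    (k : ℕ) (p : Bool) (g : SpG k F) (x : funP k F K p) :
    ((weilP ψ₀ hψ₀ h2 a ha k p g x : funP k F K p) : (Fin k → F) → K) = weilA ψ₀ a k g x.1 := rfl

theorem mem_funP_false {k : ℕ} (f : (Fin k → F) → K) : f ∈ funP k F K false ↔ ∀ t, f (-t) = f t := by
  unfold funP
  simp only [Bool.false_eq_true, if_false]
  rw [mem_Wp]
  constructor
  · intro h t
    have := congrFun h t
    rwa [par_apply] at this
  · intro h
    funext t
    rw [par_apply]
    exact h t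

theorem mem_funP_true {k : ℕ} (f : (Fin k → F) → K) : f ∈ funP k F K true ↔ ∀ t, f (-t) = -f t := by
  unfold funP
  simp only [if_true]
  rw [mem_Wm]
  constructor
  · intro h t
    have := congrFun h t
    rwa [par_apply] at this
  · intro h
    funext t
    rw [par_apply]
    exact h t

/-- the Schrödinger operators on the delta functions -/
theorem hsXY_single (ψ : AddChar F K) (h : F) (hh : h + h = 1) {k : ℕ} (x y s : Fin k → F) :
    hsXY ψ h x y (Pi.single s (1 : K)) =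
      ψ (y ⬝ᵥ s - h * (x ⬝ᵥ y)) • (Pi.single (s - x) (1 : K) : (Fin k → F) → K) := by
  funext t
  rw [hsXY_apply, Pi.smul_apply, smul_eq_mul]
  by_cases hts : t = s - x
  · subst hts
    rw [sub_add_cancel, Pi.single_eq_same, Pi.single_eq_same, mul_one, mul_one]
    congr 1
    rw [dotProduct_sub, dotProduct_comm y x]
    linear_combination (x ⬝ᵥ y) * hh
  · rw [Pi.single_eq_of_ne hts, mul_zero, Pi.single_eq_of_ne, mul_zero]
    intro h0
    apply hts
    rw [← h0, add_sub_cancel_right]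

/-- the substitution operator `f ↦ f ∘ Aᵀ` -/
def subA {k : ℕ} (A : Matrix (Fin k) (Fin k) F) : Module.End K ((Fin k → F) → K) :=
  LinearMap.funLeft K K (fun t : Fin k → F => Aᵀ *ᵥ t)

theorem subA_apply {k : ℕ} (A : Matrix (Fin k) (Fin k) F) (f : (Fin k → F) → K) (t : Fin k → F) :
    (subA A f : (Fin k → F) → K) t = f (Aᵀ *ᵥ t) := rfl

theorem subA_one {k : ℕ} : (subA (1 : Matrix (Fin k) (Fin k) F) : Module.End K ((Fin k → F) → K)) = 1 := by
  apply LinearMap.ext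
  intro f
  funext t
  rw [subA_apply, Matrix.transpose_one, Matrix.one_mulVec]
  rfl

theorem subA_mul {k : ℕ} (A B : Matrix (Fin k) (Fin k) F) :
    (subA (A * B) : Module.End K ((Fin k → F) → K)) = subA A * subA B := by
  apply LinearMap.ext
  intro f
  funext t
  rw [Module.End.mul_apply, subA_apply, subA_apply, subA_apply, Matrix.transpose_mul,
    Matrix.mulVec_mulVec]

theorem subA_isUnit {k : ℕ} (A : GL (Fin k) F) :
    IsUnit (subA A.1 : Module.End K ((Fin k → F) → K)) :=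
  ⟨⟨subA A.1, subA A⁻¹.1, by rw [← subA_mul, ← Units.val_mul, mul_inv_cancel, Units.val_one, subA_one],
    by rw [← subA_mul, ← Units.val_mul, inv_mul_cancel, Units.val_one, subA_one]⟩, rfl⟩

theorem subA_single {k : ℕ} (A : GL (Fin k) F) (s : Fin k → F) :
    (subA A.1 (Pi.single s (1 : K)) : (Fin k → F) → K) = Pi.single ((A⁻¹.1)ᵀ *ᵥ s) 1 := by
  funext t
  rw [subA_apply]
  have h1 : (A⁻¹.1)ᵀ * (A.1)ᵀ = 1 := by
    rw [← Matrix.transpose_mul, ← Units.val_mul, mul_inv_cancel, Units.val_one, Matrix.transpose_one]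
  have h2 : (A.1)ᵀ * (A⁻¹.1)ᵀ = 1 := by
    rw [← Matrix.transpose_mul, ← Units.val_mul, inv_mul_cancel, Units.val_one, Matrix.transpose_one]
  by_cases hts : t = (A⁻¹.1)ᵀ *ᵥ s
  · subst hts
    rw [Matrix.mulVec_mulVec, h2, Matrix.one_mulVec, Pi.single_eq_same, Pi.single_eq_same]
  · rw [Pi.single_eq_of_ne hts, Pi.single_eq_of_ne]
    intro h0
    apply hts
    rw [← h0, Matrix.mulVec_mulVec, h1, Matrix.one_mulVec]

/-- the Weyl element `J` as an element of the symplectic group -/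
def Jg (k : ℕ) : SpG k F := ⟨J (Fin k) F, SymplecticGroup.J_mem _ _⟩

theorem Jg_val (k : ℕ) : (Jg k : SpG k F).1 = J (Fin k) F := rfl

end Cfsg.Agent.Lib.Helper81_TZW
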