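import Mathlib
import Cfsg.Agent.Lib.Helper75_TZDefs
import Cfsg.Agent.Lib.Helper81_TZW_Defs
set_option autoImplicit false
set_option linter.unusedVariables false
set_option linter.unusedSectionVars false

/-!
S2524, package W2 (architect helper75; sub-architect helper81, market `tzw_packages` v2): the Levi subgroup acts
monomially in the Weil representation: `ω(lg A) = cA(A) • subA A`, `cA` multiplicative and non-zero.
-/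

namespace Cfsg.Agent.Lib.Helper75_TZ
open Matrix Module
open Cfsg.Agent.Lib.Helper5_SpPerfect Cfsg.Agent.Lib.Helper81_SpWeights Cfsg.Agent.Lib.Helper81_JointEigen
  Cfsg.Agent.Lib.Helper81_Heis Cfsg.Agent.Lib.Helper81_WeilLin Cfsg.Agent.Lib.Helper81_Schrodinger
open Cfsg.Agent.Lib.Helper81_TZW

variable {F : Type*} [Field F] [Fintype F] [DecidableEq F] {K : Type*} [Field K] [IsAlgClosed K]
  [CharZero K] {k : ℕ}

namespace W2aux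

theorem subA_int (ψ : AddChar F K) (h : F) {k : ℕ} (A : GL (Fin k) F) (u : Fin k ⊕ Fin k → F) :
    (subA A.1 : Module.End K ((Fin k → F) → K)) * hs ψ h u = hs ψ h ((lgH A).1 *ᵥ u) * subA A.1 := by
  have hinv : A⁻¹.1 * A.1 = 1 := by rw [← Units.val_mul, inv_mul_cancel, Units.val_one]
  have hl : ((lgH A).1 *ᵥ u) ∘ Sum.inl = A.1 *ᵥ (u ∘ Sum.inl) := by
    rw [lgH_val, Matrix.fromBlocks_mulVec]
    funext i
    simp
  have hr : ((lgH A).1 *ᵥ u) ∘ Sum.inr = (A⁻¹.1)ᵀ *ᵥ (u ∘ Sum.inr) := by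
    rw [lgH_val, Matrix.fromBlocks_mulVec]
    funext i
    simp
  apply LinearMap.ext
  intro f
  funext t
  rw [Module.End.mul_apply, Module.End.mul_apply, subA_apply]
  unfold hs
  rw [hsXY_apply, hsXY_apply, subA_apply, hl, hr]
  have e1 : (A.1)ᵀ *ᵥ (t + (A⁻¹.1)ᵀ *ᵥ (u ∘ Sum.inr)) = (A.1)ᵀ *ᵥ t + u ∘ Sum.inr := by
    rw [Matrix.mulVec_add, Matrix.mulVec_mulVec, ← Matrix.transpose_mul, hinv, Matrix.transpose_one,
      Matrix.one_mulVec]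
  have e2 : (A.1 *ᵥ (u ∘ Sum.inl)) ⬝ᵥ t = (u ∘ Sum.inl) ⬝ᵥ ((A.1)ᵀ *ᵥ t) := by
    rw [Matrix.dotProduct_mulVec, Matrix.vecMul_transpose]
  have e3 : ((A⁻¹.1)ᵀ *ᵥ (u ∘ Sum.inr)) ⬝ᵥ (A.1 *ᵥ (u ∘ Sum.inl)) = (u ∘ Sum.inr) ⬝ᵥ (u ∘ Sum.inl) := by
    rw [Matrix.mulVec_transpose, ← Matrix.dotProduct_mulVec, Matrix.mulVec_mulVec, hinv,
      Matrix.one_mulVec]
  rw [e1, e2, e3]

/-- `subA A δ₀` evaluated at `0` is `1` -/
theorem subA_single_zero {k : ℕ} (A : GL (Fin k) F) :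
    (subA A.1 (Pi.single 0 (1 : K)) : (Fin k → F) → K) 0 = 1 := by
  rw [subA_apply, Matrix.mulVec_zero, Pi.single_eq_same]

/-- the pointwise scalar -/
theorem exists_scalar (ψ₀ : AddChar F K) (hψ₀ : ψ₀ ≠ 1) (h2 : (2 : F) ≠ 0) {a : F} (ha : a ≠ 0) {k : ℕ}
    (A : GL (Fin k) F) :
    ∃ c : K, weilA ψ₀ a k (lgH A) = c • (subA A.1 : Module.End K ((Fin k → F) → K)) := by
  have hgood := weilA_good (K := K) ψ₀ hψ₀ h2 ha k (lgH A)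
  have hint : (schData (psiA ψ₀ a) (2⁻¹ : F) (half_add h2) (psiA_ne_one ψ₀ hψ₀ h2 ha)).IsInt
      (act (lgH A)) (subA A.1 : Module.End K ((Fin k → F) → K)) := by
    intro w
    exact subA_int (psiA ψ₀ a) (2⁻¹ : F) A w
  exact HData.IsInt.unique _ hint hgood.1 (subA_isUnit A)

theorem weilA_lgH_op (ψ₀ : AddChar F K) (hψ₀ : ψ₀ ≠ 1) (h2 : (2 : F) ≠ 0) {a : F} (ha : a ≠ 0) {k : ℕ}
    (A : GL (Fin k) F) :
    weilA ψ₀ a k (lgH A) = cA ψ₀ a k A • (subA A.1 : Module.End K ((Fin k → F) → K)) := by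
  obtain ⟨c, hc⟩ := exists_scalar (K := K) ψ₀ hψ₀ h2 ha A
  have hcA : cA ψ₀ a k A = c := by
    unfold cA
    rw [hc, LinearMap.smul_apply, Pi.smul_apply, subA_single_zero, smul_eq_mul, mul_one]
  rw [hcA]
  exact hc

theorem weilA_lgH_apply (ψ₀ : AddChar F K) (hψ₀ : ψ₀ ≠ 1) (h2 : (2 : F) ≠ 0) {a : F} (ha : a ≠ 0) {k : ℕ}
    (A : GL (Fin k) F) (f : (Fin k → F) → K) (t : Fin k → F) :
    weilA ψ₀ a k (lgH A) f t = cA ψ₀ a k A * f (A.1ᵀ *ᵥ t) := by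
  rw [weilA_lgH_op ψ₀ hψ₀ h2 ha A, LinearMap.smul_apply, Pi.smul_apply, subA_apply, smul_eq_mul]

theorem weilA_lgH_single (ψ₀ : AddChar F K) (hψ₀ : ψ₀ ≠ 1) (h2 : (2 : F) ≠ 0) {a : F} (ha : a ≠ 0) {k : ℕ}
    (A : GL (Fin k) F) (s : Fin k → F) :
    weilA ψ₀ a k (lgH A) (Pi.single s 1) =
      cA ψ₀ a k A • (Pi.single ((A⁻¹.1)ᵀ *ᵥ s) (1 : K) : (Fin k → F) → K) := by
  rw [weilA_lgH_op ψ₀ hψ₀ h2 ha A, LinearMap.smul_apply, subA_single]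

end W2aux

theorem weilA_lgH (ψ₀ : AddChar F K) (hψ₀ : ψ₀ ≠ 1) (h2 : (2 : F) ≠ 0) {a : F} (ha : a ≠ 0)
    (A : GL (Fin k) F) (s : Fin k → F) :
    weilA ψ₀ a k (lgH A) (dl s) = cA ψ₀ a k A • (dl ((A⁻¹.1)ᵀ *ᵥ s) : (Fin k → F) → K) :=
  W2aux.weilA_lgH_single ψ₀ hψ₀ h2 ha A s

theorem cA_ne_zero (ψ₀ : AddChar F K) (hψ₀ : ψ₀ ≠ 1) (h2 : (2 : F) ≠ 0) {a : F} (ha : a ≠ 0)
    (A : GL (Fin k) F) : cA ψ₀ a k A ≠ 0 := by
  intro h0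
  have hu := weilA_isUnit (K := K) ψ₀ a k (lgH A)
  rw [W2aux.weilA_lgH_op ψ₀ hψ₀ h2 ha A, h0, zero_smul] at hu
  exact not_isUnit_zero hu

theorem cA_mul (ψ₀ : AddChar F K) (hψ₀ : ψ₀ ≠ 1) (h2 : (2 : F) ≠ 0) {a : F} (ha : a ≠ 0)
    (A B : GL (Fin k) F) : cA ψ₀ a k (A * B) = cA ψ₀ a k A * cA ψ₀ a k B := by
  have h1 := W2aux.weilA_lgH_op (K := K) ψ₀ hψ₀ h2 ha (A * B)
  rw [map_mul, map_mul, W2aux.weilA_lgH_op ψ₀ hψ₀ h2 ha A, W2aux.weilA_lgH_op ψ₀ hψ₀ h2 ha B,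
    Units.val_mul, subA_mul, smul_mul_smul_comm] at h1
  have hAB : (subA A.1 * subA B.1 : Module.End K ((Fin k → F) → K)) ≠ 0 := by
    rw [← subA_mul, ← Units.val_mul]
    exact (subA_isUnit (A * B)).ne_zero
  exact (smul_left_injective K hAB h1).symm

end Cfsg.Agent.Lib.Helper75_TZ
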