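import Mathlib
import Cfsg.Agent.Lib.Helper75_TZDefs

set_option autoImplicit false

/-!
# S2524 package GRP-ZC (helper31): matrix identities for `zc`, `sl2`, `ds`
-/

namespace Cfsg.Agent.Lib.Helper75_TZ

open Matrix Module
open Cfsg.Agent.Lib.Helper5_SpPerfect Cfsg.Agent.Lib.Helper81_SpWeights
  Cfsg.Agent.Lib.Helper81_JointEigen Cfsg.Agent.Lib.Helper81_Heis Cfsg.Agent.Lib.Helper81_WeilLin
  Cfsg.Agent.Lib.Helper81_Schrodinger

namespace GRP_ZCaux

variable {F : Type*} [Field F] {m : ℕ}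

theorem embC_one_eq (a b c d : F) :
    embC a b c d (1 : Matrix (Fin m ⊕ Fin m) (Fin m ⊕ Fin m) F) =
      fromBlocks (ext0 a 1) (ext0 b 0) (ext0 c 0) (ext0 d 1) := by
  rw [← fromBlocks_one, embC_fromBlocks]

theorem ext0_single (c : F) :
    ext0 c (0 : Matrix (Fin m) (Fin m) F) = Matrix.single 0 0 c := by
  ext i j
  refine Fin.cases ?_ (fun i' => ?_) i <;> refine Fin.cases ?_ (fun j' => ?_) j <;>
    simp [(Fin.succ_ne_zero _).symm]

theorem zS_add (c c' : F) : (zS (c + c') : symSub (m + 1) F) = zS c + zS c' := by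
  apply Subtype.ext
  show Matrix.single 0 0 (c + c') = Matrix.single 0 0 c + Matrix.single 0 0 c'
  rw [Matrix.single_add]

theorem zS_zero : (zS (0 : F) : symSub (m + 1) F) = 0 := by
  apply Subtype.ext
  show Matrix.single 0 0 (0 : F) = 0
  rw [Matrix.single_zero]

end GRP_ZCaux

section GRP

variable {F : Type*} [Field F] {m : ℕ}

/-- PACKAGE GRP-ZC -/
theorem zc_eq_sl2 (c : F) : (zc c : SpG (m + 1) F) = sl2 1 c 0 1 (by ring) := by
  apply Subtype.ext
  show Xmat (Matrix.single 0 0 c) = embC 1 c 0 1 1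
  rw [GRP_ZCaux.embC_one_eq, ext0_one, ext0_zero, GRP_ZCaux.ext0_single]
  rfl

theorem zc_add (c c' : F) : (zc (c + c') : SpG (m + 1) F) = zc c * zc c' := by
  unfold zc
  rw [GRP_ZCaux.zS_add, xs_add]

theorem zc_zero : (zc 0 : SpG (m + 1) F) = 1 := by
  unfold zc
  rw [GRP_ZCaux.zS_zero, xs_zero]

theorem sl2_mul (a b c d a' b' c' d' : F) (h : a * d - b * c = 1) (h' : a' * d' - b' * c' = 1) :
    (sl2 a b c d h : SpG (m + 1) F) * sl2 a' b' c' d' h' =
      sl2 (a * a' + b * c') (a * b' + b * d') (c * a' + d * c') (c * b' + d * d')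
        (by linear_combination (a' * d' - b' * c') * h + h') := by
  apply Subtype.ext
  show embC a b c d 1 * embC a' b' c' d' 1 = embC _ _ _ _ 1
  rw [embC_mul, Matrix.one_mul]

theorem ds_eq_sl2 (s : Fˣ) :
    (ds s : SpG (m + 1) F) = sl2 (s : F) 0 0 ((s⁻¹ : Fˣ) : F) (by
      rw [mul_zero, sub_zero, ← Units.val_mul, mul_inv_cancel, Units.val_one]) := by
  apply Subtype.ext
  show Lmat (dA (s : F)) (dA ((s⁻¹ : Fˣ) : F)) = embC (s : F) 0 0 ((s⁻¹ : Fˣ) : F) 1
  rw [GRP_ZCaux.embC_one_eq, ext0_zero]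
  unfold Lmat dA
  rw [ext0_transpose, Matrix.transpose_one]

end GRP

end Cfsg.Agent.Lib.Helper75_TZ
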