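import Mathlib
import Cfsg.Agent.Lib.Helper75_TZDefs
import Cfsg.Agent.Lib.Helper31_TZ_GRP_ZC

set_option autoImplicit false

/-!
# S2524 package GRP-COMM (helper31): the `SL₂` on the index `0` commutes with `G₂ = emb (Sp(Fin m))`
-/

namespace Cfsg.Agent.Lib.Helper75_TZ

open Matrix Module
open Cfsg.Agent.Lib.Helper5_SpPerfect Cfsg.Agent.Lib.Helper81_SpWeights
  Cfsg.Agent.Lib.Helper81_JointEigen Cfsg.Agent.Lib.Helper81_Heis Cfsg.Agent.Lib.Helper81_WeilLin
  Cfsg.Agent.Lib.Helper81_Schrodinger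

section GRP

variable {F : Type*} [Field F] {m : ℕ}

/-- PACKAGE GRP-COMM: the `SL₂` on the coordinate `0` commutes with `G₂ = emb (Sp(Fin m))` -/
theorem sl2_comm_emb (a b c d : F) (h : a * d - b * c = 1) (g : SpG m F) :
    (sl2 a b c d h : SpG (m + 1) F) * emb g = emb g * sl2 a b c d h := by
  apply Subtype.ext
  show embC a b c d 1 * embC 1 0 0 1 g.1 = embC 1 0 0 1 g.1 * embC a b c d 1
  rw [embC_mul, embC_mul, Matrix.one_mul, Matrix.mul_one]
  congr 1 <;> ring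

theorem zc_comm_emb (c : F) (g : SpG m F) : (zc c : SpG (m + 1) F) * emb g = emb g * zc c := by
  rw [zc_eq_sl2]
  exact sl2_comm_emb _ _ _ _ _ g

theorem w0_comm_emb (g : SpG m F) : (w0 : SpG (m + 1) F) * emb g = emb g * w0 :=
  sl2_comm_emb _ _ _ _ _ g

theorem ds_comm_emb (s : Fˣ) (g : SpG m F) : (ds s : SpG (m + 1) F) * emb g = emb g * ds s := by
  rw [ds_eq_sl2]
  exact sl2_comm_emb _ _ _ _ _ g

end GRP

end Cfsg.Agent.Lib.Helper75_TZ
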