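import Mathlib
import Cfsg.Agent.Lib.Helper75_TZDefs

set_option autoImplicit false

/-!
# S2524 market (helper75), package GRP-HREL: relations in the Heisenberg group `H` (helper84)
-/

namespace Cfsg.Agent.Lib.Helper75_TZ

open Matrix Module
open Cfsg.Agent.Lib.Helper5_SpPerfect Cfsg.Agent.Lib.Helper81_SpWeights Cfsg.Agent.Lib.Helper81_JointEigen
  Cfsg.Agent.Lib.Helper81_Heis Cfsg.Agent.Lib.Helper81_WeilLin Cfsg.Agent.Lib.Helper81_Schrodinger

namespace GRPHRELaux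

variable {F : Type*} [Field F] {m : ℕ}

theorem Lg_mul_Lg {n : ℕ} (A B A' B' : Matrix (Fin n) (Fin n) F) (h : A * B = 1) (h' : A' * B' = 1)
    (h'' : (A * A') * (B' * B) = 1) :
    (Lg A B h : SpG n F) * Lg A' B' h' = Lg (A * A') (B' * B) h'' := by
  apply Subtype.ext
  show Lmat A B * Lmat A' B' = Lmat (A * A') (B' * B)
  unfold Lmat
  rw [fromBlocks_multiply, transpose_mul]
  simp

theorem Lg_congr {n : ℕ} {A B A' B' : Matrix (Fin n) (Fin n) F} (hA : A = A') (hB : B = B')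
    (h : A * B = 1) : (Lg A B h : SpG n F) = Lg A' B' (hA ▸ hB ▸ h) := by
  subst hA; subst hB; rfl

theorem Lg_one {n : ℕ} : (Lg (1 : Matrix (Fin n) (Fin n) F) 1 (by rw [Matrix.one_mul]) : SpG n F) = 1 := by
  apply Subtype.ext
  show Lmat (1 : Matrix (Fin n) (Fin n) F) 1 = 1
  unfold Lmat
  rw [transpose_one, fromBlocks_one]

theorem xS_add (b b' : Fin m → F) : (xS (b + b') : symSub (m + 1) F) = xS b + xS b' := by
  apply Subtype.ext
  show vecMulVec e0 (c0 (b + b')) + vecMulVec (c0 (b + b')) e0 =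
    (vecMulVec e0 (c0 b) + vecMulVec (c0 b) e0) + (vecMulVec e0 (c0 b') + vecMulVec (c0 b') e0)
  rw [c0_add, vecMulVec_add, add_vecMulVec]
  abel

theorem xS_zero : (xS (0 : Fin m → F) : symSub (m + 1) F) = 0 := by
  apply Subtype.ext
  show vecMulVec e0 (c0 (0 : Fin m → F)) + vecMulVec (c0 (0 : Fin m → F)) e0 = 0
  rw [c0_zero', vecMulVec_zero, zero_vecMulVec, add_zero]

theorem zS_zero : (zS (0 : F) : symSub (m + 1) F) = 0 := by
  apply Subtype.ext
  show Matrix.single (0 : Fin (m + 1)) 0 (0 : F) = 0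
  exact Matrix.single_zero _ _

theorem single_eq_vecMulVec (c : F) :
    (Matrix.single (0 : Fin (m + 1)) 0 c : Matrix (Fin (m + 1)) (Fin (m + 1)) F) =
      c • vecMulVec e0 e0 := by
  ext i j
  unfold e0
  simp only [Matrix.smul_apply, vecMulVec_apply, Matrix.single_apply, Pi.single_apply, smul_eq_mul]
  by_cases hi : i = 0 <;> by_cases hj : j = 0 <;> simp [hi, hj, eq_comm]

theorem e0_dot_e0 : (e0 : Fin (m + 1) → F) ⬝ᵥ e0 = 1 := by
  unfold e0
  rw [dotProduct_single, mul_one]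
  simp

theorem yA_transpose (t : Fin m → F) :
    (yA t)ᵀ = (1 : Matrix (Fin (m + 1)) (Fin (m + 1)) F) + vecMulVec (c0 t) e0 := by
  unfold yA
  rw [transpose_add, transpose_one, transpose_vecMulVec]

theorem cong_rank1 {n : ℕ} (e t x y : Fin n → F) :
    (1 + vecMulVec e t) * vecMulVec x y * (1 + vecMulVec t e) =
      vecMulVec x y + (t ⬝ᵥ x) • vecMulVec e y + (y ⬝ᵥ t) • vecMulVec x e +
        ((t ⬝ᵥ x) * (y ⬝ᵥ t)) • vecMulVec e e := by
  simp only [Matrix.add_mul, Matrix.mul_add, Matrix.one_mul, Matrix.mul_one,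
    vecMulVec_mul_vecMulVec, vecMulVec_smul, Matrix.smul_mul, smul_smul]
  abel

theorem c0_dot_c0 (t b : Fin m → F) : c0 t ⬝ᵥ c0 b = t ⬝ᵥ b := by
  simp only [dotProduct, Fin.sum_univ_succ, c0_zero, c0_succ, zero_mul, zero_add]

/-- `(1 + e₀ tᵀ) (c e₀ e₀ᵀ) (1 + t e₀ᵀ) = c e₀ e₀ᵀ` -/
theorem cong_yA_zS (t : Fin m → F) (c : F) : cong (yA t) (zS c) = zS c := by
  apply Subtype.ext
  show yA t * Matrix.single (0 : Fin (m + 1)) 0 c * (yA t)ᵀ = Matrix.single 0 0 c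
  rw [yA_transpose, single_eq_vecMulVec]
  unfold yA
  rw [Matrix.mul_smul, Matrix.smul_mul, cong_rank1, c0_dot_e0, e0_dot_c0]
  simp only [zero_smul, add_zero, zero_mul]

/-- `(1 + e₀ tᵀ) (e₀ bᵀ + b e₀ᵀ) (1 + t e₀ᵀ) = e₀ bᵀ + b e₀ᵀ + 2 (t·b) e₀ e₀ᵀ` -/
theorem cong_yA_xS (t b : Fin m → F) :
    cong (yA t) (xS b) = xS b + zS (2 * (t ⬝ᵥ b)) := by
  apply Subtype.ext
  show yA t * (vecMulVec e0 (c0 b) + vecMulVec (c0 b) e0) * (yA t)ᵀ =
    (vecMulVec e0 (c0 b) + vecMulVec (c0 b) e0) + Matrix.single (0 : Fin (m + 1)) 0 (2 * (t ⬝ᵥ b))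
  rw [yA_transpose, single_eq_vecMulVec]
  unfold yA
  have hd : ∀ A B C D : Matrix (Fin (m + 1)) (Fin (m + 1)) F, A * (B + C) * D = A * B * D + A * C * D := by
    intro A B C D
    rw [Matrix.mul_add, Matrix.add_mul]
  rw [hd, cong_rank1, cong_rank1, c0_dot_e0, e0_dot_c0, c0_dot_c0,
    c0_dot_c0, dotProduct_comm b t]
  simp only [zero_smul, add_zero, zero_mul, mul_zero]
  rw [two_mul, add_smul]
  abel

end GRPHRELaux

open GRPHRELaux

section GRP

variable {F : Type*} [Field F] {m : ℕ}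

/-- PACKAGE GRP-HREL: relations in the Heisenberg group `H` -/
theorem yt_add (t t' : Fin m → F) : (yt (t + t') : SpG (m + 1) F) = yt t * yt t' := by
  unfold yt
  rw [Lg_mul_Lg _ _ _ _ _ _ (by
    rw [yA_mul, yA_mul, yA_mul, ← neg_add, add_comm t' t, add_neg_cancel, yA_zero])]
  apply Lg_congr
  · rw [yA_mul]
  · rw [yA_mul, ← neg_add, add_comm t' t]

theorem xb_add (b b' : Fin m → F) : (xb (b + b') : SpG (m + 1) F) = xb b * xb b' := by
  unfold xb
  rw [xS_add, xs_add]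

theorem xb_comm_zc (b : Fin m → F) (c : F) : (xb b : SpG (m + 1) F) * zc c = zc c * xb b :=
  xs_comm _ _

theorem yt_comm_zc (t : Fin m → F) (c : F) : (yt t : SpG (m + 1) F) * zc c = zc c * yt t := by
  unfold yt zc
  rw [lg_mul_xs, cong_yA_zS]

/-- `y(t) x(b) y(t)⁻¹ = x(b) z(2 t·b)` -/
theorem yt_mul_xb (t b : Fin m → F) :
    (yt t : SpG (m + 1) F) * xb b = xb b * zc (2 * (t ⬝ᵥ b)) * yt t := by
  unfold yt xb zc
  rw [lg_mul_xs, cong_yA_xS, xs_add]

theorem hu_inl (b : Fin m → F) : (hu (Sum.elim (-b) 0) : SpG (m + 1) F) = xb b := by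
  unfold hu
  have h1 : (Sum.elim (-b) (0 : Fin m → F) : Fin m ⊕ Fin m → F) ∘ Sum.inl = -b := rfl
  have h2 : (Sum.elim (-b) (0 : Fin m → F) : Fin m ⊕ Fin m → F) ∘ Sum.inr = 0 := rfl
  rw [h1, h2, dotProduct_zero, neg_zero, neg_neg]
  have hz : (zc (0 : F) : SpG (m + 1) F) = 1 := by
    unfold zc
    rw [zS_zero, xs_zero]
  have hy : (yt (0 : Fin m → F) : SpG (m + 1) F) = 1 := by
    unfold yt
    rw [← Lg_one]
    apply Lg_congr
    · exact yA_zero
    · rw [neg_zero]; exact yA_zero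
  rw [hz, hy, one_mul, mul_one]

theorem hu_inr (t : Fin m → F) : (hu (Sum.elim 0 t) : SpG (m + 1) F) = yt t := by
  unfold hu
  have h1 : (Sum.elim (0 : Fin m → F) t : Fin m ⊕ Fin m → F) ∘ Sum.inl = 0 := rfl
  have h2 : (Sum.elim (0 : Fin m → F) t : Fin m ⊕ Fin m → F) ∘ Sum.inr = t := rfl
  rw [h1, h2, zero_dotProduct, neg_zero, neg_zero]
  have hz : (zc (0 : F) : SpG (m + 1) F) = 1 := by
    unfold zc
    rw [zS_zero, xs_zero]
  have hx : (xb (0 : Fin m → F) : SpG (m + 1) F) = 1 := by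
    unfold xb
    rw [xS_zero, xs_zero]
  rw [hz, hx, one_mul, one_mul]

/-- `y(t) = lgH` of the unipotent matrix `1 + e₀ tᵀ` -/
theorem yt_eq_lgH (t : Fin m → F) :
    (yt t : SpG (m + 1) F) = lgH ⟨yA t, yA (-t), by rw [yA_mul, add_neg_cancel, yA_zero],
      by rw [yA_mul, neg_add_cancel, yA_zero]⟩ := by
  rfl

end GRP

end Cfsg.Agent.Lib.Helper75_TZ
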