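import Mathlib
import Cfsg.Agent.Lib.Helper75_TZDefs
import Cfsg.Agent.Lib.Helper31_TZ_GRP_ZC
import Cfsg.Agent.Lib.Helper84_TZ_GRPHREL

set_option autoImplicit false

/-!
# S2524 package S5ii (helper31): `f_v` is `H`-equivariant
-/

namespace Cfsg.Agent.Lib.Helper75_TZ

open Matrix Module
open Cfsg.Agent.Lib.Helper5_SpPerfect Cfsg.Agent.Lib.Helper81_SpWeights
  Cfsg.Agent.Lib.Helper81_JointEigen Cfsg.Agent.Lib.Helper81_Heis Cfsg.Agent.Lib.Helper81_WeilLin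
  Cfsg.Agent.Lib.Helper81_Schrodinger

namespace S5iiaux

variable {F : Type*} [Field F] {m : ℕ} {K : Type*} [Field K]
  {M : Type*} [AddCommGroup M] [Module K M]

theorem trP_zS_Ta (c a : F) : trP (zS c : symSub (m + 1) F) (Ta a) = c * a := by
  rw [trP_apply]
  show Matrix.trace (Matrix.single 0 0 c * Matrix.single 0 0 a) = c * a
  rw [Matrix.single_mul_single_same, Matrix.trace_single_eq_same]

theorem trP_xS_Ta (b : Fin m → F) (a : F) : trP (xS b : symSub (m + 1) F) (Ta a) = 0 := by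
  rw [trP_apply]
  show Matrix.trace ((vecMulVec e0 (c0 b) + vecMulVec (c0 b) e0) * Matrix.single 0 0 a) = 0
  rw [Matrix.trace_mul_comm, Matrix.trace_single_mul]
  simp [vecMulVec_apply]

theorem zc_neg_inv (c : F) : (zc (-c) : SpG (m + 1) F) = (zc c)⁻¹ := by
  rw [eq_inv_iff_mul_eq_one, ← zc_add, neg_add_cancel, zc_zero]

variable [FiniteDimensional K M]

theorem zc_Ta (ψ₀ : AddChar F K) (R : SpG (m + 1) F →* Module.End K M) (a : F) (v : M)
    (hv : v ∈ wsp R ψ₀ (Ta a)) (c : F) : R (zc c) v = ψ₀ (c * a) • v := by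
  have h := (mem_wsp R ψ₀ (Ta a) v).mp hv (zS c)
  rw [trP_zS_Ta] at h
  exact h

theorem xb_Ta (ψ₀ : AddChar F K) (R : SpG (m + 1) F →* Module.End K M) (a : F) (v : M)
    (hv : v ∈ wsp R ψ₀ (Ta a)) (b : Fin m → F) : R (xb b) v = v := by
  have h := (mem_wsp R ψ₀ (Ta a) v).mp hv (xS b)
  rw [trP_xS_Ta, AddChar.map_zero_eq_one, one_smul] at h
  exact h

theorem zc_yt (ψ₀ : AddChar F K) (R : SpG (m + 1) F →* Module.End K M) (a : F) (v : M)
    (hv : v ∈ wsp R ψ₀ (Ta a)) (c : F) (t : Fin m → F) :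
    R (zc c) (R (yt t) v) = ψ₀ (c * a) • R (yt t) v := by
  rw [← Module.End.mul_apply, ← map_mul, ← yt_comm_zc, map_mul, Module.End.mul_apply,
    zc_Ta ψ₀ R a v hv, map_smul]

theorem xb_yt (ψ₀ : AddChar F K) (R : SpG (m + 1) F →* Module.End K M) (a : F) (v : M)
    (hv : v ∈ wsp R ψ₀ (Ta a)) (b t : Fin m → F) :
    R (xb b) (R (yt t) v) = ψ₀ (-(2 * (t ⬝ᵥ b)) * a) • R (yt t) v := by
  have e : (xb b : SpG (m + 1) F) * yt t = yt t * xb b * zc (-(2 * (t ⬝ᵥ b))) := by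
    rw [zc_neg_inv, eq_mul_inv_iff_mul_eq, mul_assoc, yt_comm_zc, ← mul_assoc, ← yt_mul_xb]
  rw [← Module.End.mul_apply, ← map_mul, e, map_mul, map_mul, Module.End.mul_apply,
    Module.End.mul_apply, zc_Ta ψ₀ R a v hv, map_smul, xb_Ta ψ₀ R a v hv, map_smul]

end S5iiaux

section S

variable {F : Type*} [Field F] [Fintype F] [DecidableEq F] {m : ℕ} {K : Type*} [Field K]
  [IsAlgClosed K] [CharZero K] {M : Type*} [AddCommGroup M] [Module K M] [FiniteDimensional K M]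

/-- PACKAGE S5ii: `f_v` is `H`-equivariant -/
theorem fv_hs (ψ₀ : AddChar F K) (h2 : (2 : F) ≠ 0) (R : SpG (m + 1) F →* Module.End K M) (a : F)
    (v : M) (hv : v ∈ wsp R ψ₀ (Ta a)) (u : Fin m ⊕ Fin m → F) (φ : (Fin m → F) → K) :
    fv R v (hs (psiA ψ₀ a) (2⁻¹ : F) u φ) = R (hu u) (fv R v φ) := by
  rw [fv_apply, fv_apply, map_sum]
  refine Fintype.sum_equiv (Equiv.addRight (u ∘ Sum.inr)) _ _ (fun s => ?_)
  rw [Equiv.coe_addRight, map_smul]
  unfold hu hs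
  rw [map_mul, map_mul, Module.End.mul_apply, Module.End.mul_apply, ← Module.End.mul_apply (R (yt _)),
    ← map_mul, ← yt_add, S5iiaux.xb_yt ψ₀ R a v hv, map_smul, S5iiaux.zc_yt ψ₀ R a v hv,
    hsXY_apply]
  have e1 : u ∘ Sum.inr + -(s + u ∘ Sum.inr) = -s := by abel
  rw [e1, smul_smul, smul_smul]
  show _ = (φ (s + u ∘ Sum.inr) * _ * _) • _
  rw [mul_assoc, ← AddChar.map_add_eq_mul, mul_comm (φ _)]
  congr 2
  unfold psiA
  rw [AddChar.mulShift_apply]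
  congr 1
  rw [neg_dotProduct_neg, dotProduct_comm (u ∘ Sum.inr) (u ∘ Sum.inl),
    dotProduct_comm s (u ∘ Sum.inl)]
  field_simp
  ring

end S

end Cfsg.Agent.Lib.Helper75_TZ
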