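import Mathlib
import Cfsg.Agent.Lib.Helper75_TZDefs

set_option autoImplicit false
set_option linter.unusedSectionVars false

/-!
# S2524 market (architect helper75), package S-WDEC: the weight decomposition of the Siegel radical
-/

namespace Cfsg.Agent.Lib.Helper75_TZ

open Matrix Module
open Cfsg.Agent.Lib.Helper5_SpPerfect Cfsg.Agent.Lib.Helper81_SpWeights
  Cfsg.Agent.Lib.Helper81_JointEigen Cfsg.Agent.Lib.Helper81_Heis Cfsg.Agent.Lib.Helper81_WeilLin
  Cfsg.Agent.Lib.Helper81_Schrodinger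

namespace S_WDECaux

section

variable {F : Type*} [Field F] [Fintype F] [DecidableEq F] {m : ℕ} {K : Type*} [Field K]
  [IsAlgClosed K] [CharZero K] {M : Type*} [AddCommGroup M] [Module K M] [FiniteDimensional K M]

/-- the operators of the Siegel radical have order dividing the characteristic -/
theorem xs_pow_char {n : ℕ} (R : SpG n F →* Module.End K M) (S : symSub n F) :
    R (xs S) ^ ringChar F = 1 := by
  rw [← map_pow, xs_pow]
  have h : ringChar F • S = 0 := by
    rw [← Nat.cast_smul_eq_nsmul F, CharP.cast_eq_zero, zero_smul]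
  rw [h, xs_zero, map_one]

theorem xs_commute {n : ℕ} (R : SpG n F →* Module.End K M) (S S' : symSub n F) :
    Commute (R (xs S)) (R (xs S')) := (xs_comm S S').map R

theorem char_ne_zero : ((ringChar F : ℕ) : K) ≠ 0 := by
  have hp : (ringChar F).Prime := CharP.char_is_prime F (ringChar F)
  exact Nat.cast_ne_zero.mpr hp.ne_zero

theorem psi_ne (ψ₀ : AddChar F K) (hψ₀ : ψ₀ ≠ 1) : ∃ a, ψ₀ a ≠ 1 := by
  by_contra hcon
  push Not at hcon
  apply hψ₀
  ext a
  rw [hcon a]
  rfl

/-- the map from weights to characters of the radical is injective -/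
theorem wt_injective {n : ℕ} (ψ₀ : AddChar F K) (hψ₀ : ψ₀ ≠ 1) (hodd : Odd (Fintype.card F)) :
    Function.Injective (fun (T : symSub n F) (S : symSub n F) => ψ₀ (trP S T)) :=
  Cfsg.Agent.Lib.Helper81_AddCharDual.pairing_injective (fun a => ψ₀ a) (AddChar.map_zero_eq_one ψ₀)
    (fun a b => AddChar.map_add_eq_mul ψ₀ a b) (psi_ne ψ₀ hψ₀) trP
    (trP_nondeg (two_ne_zero_of_odd hodd))

theorem wsp_eq_joint {n : ℕ} (ψ₀ : AddChar F K) (R : SpG n F →* Module.End K M) (T : symSub n F) :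
    wsp R ψ₀ T = jointEigenspace (fun S : symSub n F => R (xs S)) (fun S => ψ₀ (trP S T)) := rfl

end

end S_WDECaux

section S

variable {F : Type*} [Field F] [Fintype F] [DecidableEq F] {m : ℕ} {K : Type*} [Field K]
  [IsAlgClosed K] [CharZero K] {M : Type*} [AddCommGroup M] [Module K M] [FiniteDimensional K M]

/-- PACKAGE S-WDEC: the weight decomposition of the Siegel radical (as in `Helper81_SpWeights.core2`) -/
theorem iSup_wsp {n : ℕ} (ψ₀ : AddChar F K) (hψ₀ : ψ₀ ≠ 1) (hodd : Odd (Fintype.card F))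
    (R : SpG n F →* Module.End K M) : ⨆ T : symSub n F, wsp R ψ₀ T = ⊤ := by
  have htop := iSup_jointEigenspace (K := K) (M := M) S_WDECaux.char_ne_zero
    (fun S : symSub n F => R (xs S)) (S_WDECaux.xs_pow_char R) (S_WDECaux.xs_commute R)
  rw [eq_top_iff, ← htop]
  refine iSup_le fun χ => ?_
  by_cases hχ : jointEigenspace (fun S : symSub n F => R (xs S)) χ = ⊥
  · rw [hχ]
    exact bot_le
  · obtain ⟨x, hxmem, hxne⟩ := Submodule.exists_mem_ne_zero_of_ne_bot hχ
    have hx : ∀ S, R (xs S) x = χ S • x :=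
      (mem_jointEigenspace (fun S : symSub n F => R (xs S)) χ x).mp hxmem
    have hχ0 : χ 0 = 1 := by
      have h1 : χ 0 • x = (1 : K) • x := by
        rw [← hx 0, xs_zero, map_one, one_smul]
        rfl
      exact smul_left_injective K hxne h1
    have hχadd : ∀ S S', χ (S + S') = χ S * χ S' := by
      intro S S'
      have h1 : χ (S + S') • x = (χ S * χ S') • x := by
        rw [← hx (S + S'), xs_add, map_mul, Module.End.mul_apply, hx S', map_smul, hx S, smul_smul,
          mul_comm]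
      exact smul_left_injective K hxne h1
    obtain ⟨T, hT⟩ := Cfsg.Agent.Lib.Helper81_AddCharDual.exists_eq_pairing (fun a => ψ₀ a)
      (AddChar.map_zero_eq_one ψ₀) (fun a b => AddChar.map_add_eq_mul ψ₀ a b)
      (S_WDECaux.psi_ne ψ₀ hψ₀) (trP (n := n) (F := F))
      (trP_nondeg (two_ne_zero_of_odd hodd)) le_rfl χ hχ0 hχadd
    have hχeq : χ = fun S => ψ₀ (trP S T) := funext hT
    rw [hχeq]
    exact le_iSup (fun T : symSub n F => wsp R ψ₀ T) T

theorem iSupIndep_wsp {n : ℕ} (ψ₀ : AddChar F K) (hψ₀ : ψ₀ ≠ 1) (hodd : Odd (Fintype.card F))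
    (R : SpG n F →* Module.End K M) : iSupIndep (fun T : symSub n F => wsp R ψ₀ T) := by
  have hind := iSupIndep_jointEigenspace (K := K) (M := M) S_WDECaux.char_ne_zero
    (fun S : symSub n F => R (xs S)) (S_WDECaux.xs_pow_char R) (S_WDECaux.xs_commute R)
  exact hind.comp (S_WDECaux.wt_injective ψ₀ hψ₀ hodd)

/-- `lg A` moves the weight `T` to `A⁻ᵀ T A⁻¹` -/
theorem lgH_wsp {n : ℕ} (ψ₀ : AddChar F K) (R : SpG n F →* Module.End K M) (A : GL (Fin n) F)
    (T : symSub n F) (v : M) (hv : v ∈ wsp R ψ₀ T) :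
    R (lgH A) v ∈ wsp R ψ₀ (cong (A⁻¹.1)ᵀ T) := by
  rw [mem_wsp] at hv ⊢
  intro S
  have hCB : A.1 * A⁻¹.1 = 1 := by rw [← Units.val_mul, mul_inv_cancel, Units.val_one]
  have hlg : lgH A = Lg A.1 A⁻¹.1 hCB := rfl
  have e1 : xs S * Lg A.1 A⁻¹.1 hCB = Lg A.1 A⁻¹.1 hCB * xs (cong A⁻¹.1 S) := by
    rw [lg_mul_xs A.1 A⁻¹.1 hCB (cong A⁻¹.1 S), cong_cong A⁻¹.1 A.1 hCB S]
  rw [hlg, ← Module.End.mul_apply, ← map_mul, e1, map_mul, Module.End.mul_apply, hv (cong A⁻¹.1 S),
    map_smul, trP_cong]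

/-- `xs S'` preserves every weight space -/
theorem xs_wsp {n : ℕ} (ψ₀ : AddChar F K) (R : SpG n F →* Module.End K M) (S' : symSub n F)
    (T : symSub n F) (v : M) (hv : v ∈ wsp R ψ₀ T) : R (xs S') v ∈ wsp R ψ₀ T := by
  rw [mem_wsp] at hv ⊢
  intro S
  have hc := (S_WDECaux.xs_commute R S S').eq
  rw [← Module.End.mul_apply, hc, Module.End.mul_apply, hv S, map_smul]

end S

end Cfsg.Agent.Lib.Helper75_TZ
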