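import Mathlib
import Cfsg.Agent.Lib.Helper75_TZDefs

set_option autoImplicit false
set_option linter.unusedSectionVars false

/-!
S2524 market (helper75), package S-ZPROJ: `zproj R ψ₀ a = q⁻¹ ∑_c ψ₀(-ca) R(z c)` is the projection
onto `M_(Z,a)`.  (helper85)
-/

namespace Cfsg.Agent.Lib.Helper75_TZ

open Matrix Module
open Cfsg.Agent.Lib.Helper5_SpPerfect Cfsg.Agent.Lib.Helper81_SpWeights
  Cfsg.Agent.Lib.Helper81_JointEigen Cfsg.Agent.Lib.Helper81_Heis Cfsg.Agent.Lib.Helper81_WeilLin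
  Cfsg.Agent.Lib.Helper81_Schrodinger

namespace SZPROJaux

section Grp

variable {F : Type*} [Field F] {m : ℕ}

theorem zS_add (c c' : F) : (zS (c + c') : symSub (m + 1) F) = zS c + zS c' := by
  apply Subtype.ext
  show Matrix.single 0 0 (c + c') = Matrix.single 0 0 c + Matrix.single 0 0 c'
  exact Matrix.single_add 0 0 c c'

theorem zS_zero : (zS (0 : F) : symSub (m + 1) F) = 0 := by
  apply Subtype.ext
  show Matrix.single 0 0 (0 : F) = 0
  exact Matrix.single_zero 0 0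

theorem zc_add (c c' : F) : (zc (c + c') : SpG (m + 1) F) = zc c * zc c' := by
  unfold zc
  rw [zS_add, xs_add]

theorem zc_zero : (zc 0 : SpG (m + 1) F) = 1 := by
  unfold zc
  rw [zS_zero, xs_zero]

theorem ext0_c_zero (c : F) :
    (ext0 c (0 : Matrix (Fin m) (Fin m) F)) = Matrix.single 0 0 c := by
  ext i j
  refine Fin.cases ?_ (fun i' => ?_) i <;> refine Fin.cases ?_ (fun j' => ?_) j <;>
    simp [(Fin.succ_ne_zero _).symm]

theorem zc_val (c : F) : (zc c : SpG (m + 1) F).1 = embC 1 c 0 1 1 := by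
  show Xmat (Matrix.single 0 0 c) = embC 1 c 0 1 1
  unfold Xmat
  rw [← fromBlocks_one, embC_fromBlocks, ext0_one, ext0_zero, ext0_c_zero]

theorem zc_comm_emb (c : F) (g : SpG m F) :
    (zc c : SpG (m + 1) F) * emb g = emb g * zc c := by
  apply Subtype.ext
  show (zc c : SpG (m + 1) F).1 * (emb g).1 = (emb g).1 * (zc c : SpG (m + 1) F).1
  rw [zc_val, emb_val, embC_mul, embC_mul]
  simp

end Grp

section Rep

variable {F : Type*} [Field F] [Fintype F] [DecidableEq F] {m : ℕ} {K : Type*} [Field K]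
  [IsAlgClosed K] [CharZero K] {M : Type*} [AddCommGroup M] [Module K M] [FiniteDimensional K M]

theorem zproj_apply (ψ₀ : AddChar F K) (R : SpG (m + 1) F →* Module.End K M) (a : F) (v : M) :
    zproj R ψ₀ a v = ((Fintype.card F : K))⁻¹ • ∑ c : F, ψ₀ (-(c * a)) • R (zc c) v := by
  unfold zproj
  rw [LinearMap.smul_apply, LinearMap.sum_apply]
  rfl

theorem card_ne_zero : ((Fintype.card F : ℕ) : K) ≠ 0 := by
  have : Fintype.card F ≠ 0 := Fintype.card_ne_zero
  exact_mod_cast this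

theorem R_zc_mul (R : SpG (m + 1) F →* Module.End K M) (c c' : F) (v : M) :
    R (zc c) (R (zc c') v) = R (zc (c + c')) v := by
  rw [zc_add, map_mul]
  rfl

theorem char_sum (ψ₀ : AddChar F K) (hψ₀ : ψ₀ ≠ 1) (b : F) :
    ∑ x : F, ψ₀ (x * b) = if b = 0 then (Fintype.card F : K) else 0 := by
  rw [AddChar.sum_mulShift b (AddChar.IsPrimitive.of_ne_one hψ₀)]
  split_ifs <;> simp

end Rep

end SZPROJaux

section S

variable {F : Type*} [Field F] [Fintype F] [DecidableEq F] {m : ℕ} {K : Type*} [Field K]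
  [IsAlgClosed K] [CharZero K] {M : Type*} [AddCommGroup M] [Module K M] [FiniteDimensional K M]

/-- PACKAGE S-ZPROJ: `zproj R ψ₀ a = q⁻¹ ∑_c ψ₀(-ca) R(z c)` is the projection onto `M_(Z,a)` -/
theorem zproj_mem (ψ₀ : AddChar F K) (R : SpG (m + 1) F →* Module.End K M) (a : F) (v : M) :
    zproj R ψ₀ a v ∈ zsp R ψ₀ a := by
  rw [mem_zsp]
  intro c₀
  rw [SZPROJaux.zproj_apply, LinearMap.map_smul, smul_comm]
  congr 1
  rw [map_sum (R (zc c₀)) (fun c : F => ψ₀ (-(c * a)) • R (zc c) v) Finset.univ, Finset.smul_sum]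
  rw [← Equiv.sum_comp (Equiv.addLeft c₀)
    (fun c : F => ψ₀ (c₀ * a) • ψ₀ (-(c * a)) • R (zc c) v)]
  refine Finset.sum_congr rfl fun c _ => ?_
  rw [LinearMap.map_smul, SZPROJaux.R_zc_mul, smul_smul, Equiv.coe_addLeft]
  congr 1
  rw [← AddChar.map_add_eq_mul]
  congr 1
  ring

theorem zproj_of_mem (ψ₀ : AddChar F K) (R : SpG (m + 1) F →* Module.End K M) (a : F) (v : M)
    (hv : v ∈ zsp R ψ₀ a) : zproj R ψ₀ a v = v := by
  rw [mem_zsp] at hv
  rw [SZPROJaux.zproj_apply]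
  have h : ∀ c : F, ψ₀ (-(c * a)) • R (zc c) v = v := by
    intro c
    rw [hv c, smul_smul, ← AddChar.map_add_eq_mul, neg_add_cancel, AddChar.map_zero_eq_one,
      one_smul]
  rw [Finset.sum_congr rfl (fun c _ => h c), Finset.sum_const, Finset.card_univ,
    ← Nat.cast_smul_eq_nsmul K, smul_smul, inv_mul_cancel₀ SZPROJaux.card_ne_zero, one_smul]

theorem sum_zproj (ψ₀ : AddChar F K) (hψ₀ : ψ₀ ≠ 1) (R : SpG (m + 1) F →* Module.End K M) (v : M) :
    ∑ a : F, zproj R ψ₀ a v = v := by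
  simp_rw [SZPROJaux.zproj_apply]
  rw [← Finset.smul_sum, Finset.sum_comm]
  have h : ∀ c : F, ∑ a : F, ψ₀ (-(c * a)) • R (zc c) v =
      (if c = 0 then (Fintype.card F : K) else 0) • R (zc c) v := by
    intro c
    rw [← Finset.sum_smul]
    congr 1
    have := SZPROJaux.char_sum ψ₀ hψ₀ (-c)
    simp only [neg_eq_zero] at this
    rw [← this]
    refine Finset.sum_congr rfl fun x _ => ?_
    congr 1
    ring
  rw [Finset.sum_congr rfl (fun c _ => h c)]
  simp only [ite_smul, zero_smul]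
  rw [Finset.sum_ite_eq' Finset.univ (0 : F), if_pos (Finset.mem_univ _), SZPROJaux.zc_zero,
    map_one, smul_smul, inv_mul_cancel₀ SZPROJaux.card_ne_zero, one_smul]
  rfl

theorem zproj_comm (ψ₀ : AddChar F K) (R : SpG (m + 1) F →* Module.End K M) (a : F)
    (g : SpG (m + 1) F) (hg : ∀ c, g * zc c = zc c * g) (v : M) :
    zproj R ψ₀ a (R g v) = R g (zproj R ψ₀ a v) := by
  rw [SZPROJaux.zproj_apply, SZPROJaux.zproj_apply, map_smul, map_sum]
  congr 1
  refine Finset.sum_congr rfl fun c _ => ?_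
  rw [map_smul]
  congr 1
  have h1 : R (zc c) (R g v) = R (zc c * g) v := by rw [map_mul]; rfl
  have h2 : R g (R (zc c) v) = R (g * zc c) v := by rw [map_mul]; rfl
  rw [h1, h2, hg c]

theorem zproj_of_mem_ne (ψ₀ : AddChar F K) (hψ₀ : ψ₀ ≠ 1) (R : SpG (m + 1) F →* Module.End K M)
    {a a' : F} (h : a ≠ a') (v : M) (hv : v ∈ zsp R ψ₀ a') : zproj R ψ₀ a v = 0 := by
  rw [mem_zsp] at hv
  rw [SZPROJaux.zproj_apply]
  have h1 : ∀ c : F, ψ₀ (-(c * a)) • R (zc c) v = ψ₀ (c * (a' - a)) • v := by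
    intro c
    rw [hv c, smul_smul, ← AddChar.map_add_eq_mul]
    congr 2
    ring
  rw [Finset.sum_congr rfl (fun c _ => h1 c), ← Finset.sum_smul,
    SZPROJaux.char_sum ψ₀ hψ₀ (a' - a), if_neg (sub_ne_zero.mpr (Ne.symm h)), zero_smul,
    smul_zero]

/-- `G₂` preserves the `Z`-eigenspaces -/
theorem zsp_stable (ψ₀ : AddChar F K) (R : SpG (m + 1) F →* Module.End K M) (a : F) :
    ∀ g : SpG m F, ∀ v ∈ zsp R ψ₀ a, (R.comp emb) g v ∈ zsp R ψ₀ a := by
  intro g v hv
  rw [mem_zsp] at hv ⊢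
  intro c
  show R (zc c) (R (emb g) v) = ψ₀ (c * a) • R (emb g) v
  have h1 : R (zc c) (R (emb g) v) = R (zc c * emb g) v := by rw [map_mul]; rfl
  rw [h1, SZPROJaux.zc_comm_emb, map_mul, Module.End.mul_apply, hv c, map_smul]

end S

end Cfsg.Agent.Lib.Helper75_TZ
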