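import Mathlib
import Cfsg.Agent.Lib.Helper75_TZDefs
import Cfsg.Agent.Lib.Helper31_TZ_GRP_ZC
import Cfsg.Agent.Lib.Helper82_TZ_S_WDEC
import Cfsg.Agent.Lib.Helper85_TZ_SZPROJ

set_option autoImplicit false
set_option linter.unusedSectionVars false
set_option linter.unusedVariables false

/-!
S2524 market (helper75), package S-ZDEC: the `Z`-eigenspaces as sums of weight spaces.  (helper85)
-/

namespace Cfsg.Agent.Lib.Helper75_TZ

open Matrix Module
open Cfsg.Agent.Lib.Helper5_SpPerfect Cfsg.Agent.Lib.Helper81_SpWeights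
  Cfsg.Agent.Lib.Helper81_JointEigen Cfsg.Agent.Lib.Helper81_Heis Cfsg.Agent.Lib.Helper81_WeilLin
  Cfsg.Agent.Lib.Helper81_Schrodinger

namespace SZDECaux

section Grp

variable {F : Type*} [Field F] {m : ℕ}

theorem trP_zS (c : F) (T : symSub (m + 1) F) : trP (zS c) T = c * T.1 0 0 := by
  rw [trP_apply]
  show (Matrix.single 0 0 c * T.1).trace = c * T.1 0 0
  rw [Matrix.trace_single_mul, smul_eq_mul]

theorem sl2_congr {a b c d a' b' c' d' : F} (h : a * d - b * c = 1) (h' : a' * d' - b' * c' = 1)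
    (ha : a = a') (hb : b = b') (hc : c = c') (hd : d = d') :
    (sl2 a b c d h : SpG (m + 1) F) = sl2 a' b' c' d' h' := by
  subst ha hb hc hd
  rfl

/-- `d(s) z(c) = z(s² c) d(s)` -/
theorem ds_mul_zc (s : Fˣ) (c : F) :
    (ds s : SpG (m + 1) F) * zc c = zc ((s : F) ^ 2 * c) * ds s := by
  rw [ds_eq_sl2, zc_eq_sl2, zc_eq_sl2, sl2_mul, sl2_mul]
  apply sl2_congr
  · ring
  · have hs : (s : F) ≠ 0 := s.ne_zero
    rw [Units.val_inv_eq_inv_val]
    field_simp
    ring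
  · ring
  · ring

end Grp

section Rep

variable {F : Type*} [Field F] [Fintype F] [DecidableEq F] {m : ℕ} {K : Type*} [Field K]
  [IsAlgClosed K] [CharZero K] {M : Type*} [AddCommGroup M] [Module K M] [FiniteDimensional K M]

/-- a weight space lies in the `Z`-eigenspace of its corner entry -/
theorem wsp_le_zsp (ψ₀ : AddChar F K) (R : SpG (m + 1) F →* Module.End K M)
    (T : symSub (m + 1) F) : wsp R ψ₀ T ≤ zsp R ψ₀ (T.1 0 0) := by
  intro v hv
  rw [mem_wsp] at hv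
  rw [mem_zsp]
  intro c
  have := hv (zS c)
  rw [trP_zS] at this
  exact this

end Rep

end SZDECaux

section S

variable {F : Type*} [Field F] [Fintype F] [DecidableEq F] {m : ℕ} {K : Type*} [Field K]
  [IsAlgClosed K] [CharZero K] {M : Type*} [AddCommGroup M] [Module K M] [FiniteDimensional K M]

/-- PACKAGE S-ZDEC: `Z`-eigenspaces as sums of weight spaces -/
theorem zsp_eq_iSup (ψ₀ : AddChar F K) (hψ₀ : ψ₀ ≠ 1) (hodd : Odd (Fintype.card F))
    (R : SpG (m + 1) F →* Module.End K M) (a : F) :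
    zsp R ψ₀ a = ⨆ T : {T : symSub (m + 1) F // T.1 0 0 = a}, wsp R ψ₀ T.1 := by
  apply le_antisymm
  · intro v hv
    have key : ∀ x ∈ (⨆ T : symSub (m + 1) F, wsp R ψ₀ T),
        zproj R ψ₀ a x ∈ ⨆ T : {T : symSub (m + 1) F // T.1 0 0 = a}, wsp R ψ₀ T.1 := by
      intro x hx
      refine Submodule.iSup_induction (fun T : symSub (m + 1) F => wsp R ψ₀ T)
        (motive := fun x => zproj R ψ₀ a x ∈
          ⨆ T : {T : symSub (m + 1) F // T.1 0 0 = a}, wsp R ψ₀ T.1) hx ?_ ?_ ?_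
      · intro T x hxT
        have hxz := SZDECaux.wsp_le_zsp ψ₀ R T hxT
        by_cases hT : T.1 0 0 = a
        · rw [hT] at hxz
          rw [zproj_of_mem ψ₀ R a x hxz]
          exact Submodule.mem_iSup_of_mem (⟨T, hT⟩ : {T : symSub (m + 1) F // T.1 0 0 = a}) hxT
        · rw [zproj_of_mem_ne ψ₀ hψ₀ R (Ne.symm hT) x hxz]
          exact Submodule.zero_mem _
      · rw [map_zero]
        exact Submodule.zero_mem _
      · intro x y hx hy
        rw [map_add]
        exact Submodule.add_mem _ hx hy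
    have hv' : v ∈ (⨆ T : symSub (m + 1) F, wsp R ψ₀ T) := by
      rw [iSup_wsp ψ₀ hψ₀ hodd R]
      exact Submodule.mem_top
    have := key v hv'
    rwa [zproj_of_mem ψ₀ R a v hv] at this
  · refine iSup_le fun T => ?_
    have := SZDECaux.wsp_le_zsp ψ₀ R T.1
    rwa [T.2] at this

theorem iSup_zsp (ψ₀ : AddChar F K) (hψ₀ : ψ₀ ≠ 1) (hodd : Odd (Fintype.card F))
    (R : SpG (m + 1) F →* Module.End K M) : ⨆ a : F, zsp R ψ₀ a = ⊤ := by
  rw [eq_top_iff]
  intro v _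
  rw [← sum_zproj ψ₀ hψ₀ R v]
  refine Submodule.sum_mem _ fun a _ => ?_
  exact Submodule.mem_iSup_of_mem a (zproj_mem ψ₀ R a v)

theorem iSupIndep_zsp (ψ₀ : AddChar F K) (hψ₀ : ψ₀ ≠ 1) (hodd : Odd (Fintype.card F))
    (R : SpG (m + 1) F →* Module.End K M) : iSupIndep (fun a : F => zsp R ψ₀ a) := by
  intro a
  rw [Submodule.disjoint_def]
  intro x hxa hx
  have hle : (⨆ (j : F) (_ : j ≠ a), zsp R ψ₀ j) ≤ LinearMap.ker (zproj R ψ₀ a) := by
    refine iSup₂_le fun j hj => ?_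
    intro y hy
    rw [LinearMap.mem_ker]
    exact zproj_of_mem_ne ψ₀ hψ₀ R (Ne.symm hj) y hy
  have h0 := hle hx
  rw [LinearMap.mem_ker, zproj_of_mem ψ₀ R a x hxa] at h0
  exact h0

/-- elements commuting with `Z` preserve the `Z`-eigenspaces -/
theorem zsp_of_comm (ψ₀ : AddChar F K) (R : SpG (m + 1) F →* Module.End K M) (g : SpG (m + 1) F)
    (hg : ∀ c, g * zc c = zc c * g) (a : F) (v : M) (hv : v ∈ zsp R ψ₀ a) : R g v ∈ zsp R ψ₀ a := by
  rw [mem_zsp] at hv ⊢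
  intro c
  have h1 : R (zc c) (R g v) = R (zc c * g) v := by rw [map_mul]; rfl
  rw [h1, ← hg c, map_mul, Module.End.mul_apply, hv c, map_smul]

/-- `d(s)` maps `M_(Z,a)` to `M_(Z,s⁻²a)` -/
theorem ds_zsp (ψ₀ : AddChar F K) (R : SpG (m + 1) F →* Module.End K M) (s : Fˣ) (a : F) (v : M)
    (hv : v ∈ zsp R ψ₀ a) : R (ds s) v ∈ zsp R ψ₀ (((s⁻¹ : Fˣ) : F) ^ 2 * a) := by
  rw [mem_zsp] at hv ⊢
  intro c
  have hs : (s : F) ≠ 0 := s.ne_zero
  have hc : c = (s : F) ^ 2 * (((s⁻¹ : Fˣ) : F) ^ 2 * c) := by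
    rw [Units.val_inv_eq_inv_val]
    field_simp
  have h1 : R (zc c) (R (ds s) v) = R (zc c * ds s) v := by rw [map_mul]; rfl
  rw [h1]
  conv_lhs => rw [hc]
  rw [← SZDECaux.ds_mul_zc, map_mul, Module.End.mul_apply, hv, map_smul]
  congr 2
  ring

end S

end Cfsg.Agent.Lib.Helper75_TZ
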