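import Mathlib
import Cfsg.Agent.Lib.Helper75_TZDefs
import Cfsg.Agent.Lib.Helper84_TZ_GRPHREL
import Cfsg.Agent.Lib.Helper82_TZ_S_WDEC
import Cfsg.Agent.Lib.Helper85_TZ_SZDEC

set_option autoImplicit false
set_option linter.unusedSectionVars false

/-!
# S2524 package S5iii-a (helper31): an `H`-equivariant map from the Schrödinger model into
`M_(Z,a)` is an `f_v'` with `v' ∈ M_(T_a)`
-/

namespace Cfsg.Agent.Lib.Helper75_TZ

open Matrix Module
open Cfsg.Agent.Lib.Helper5_SpPerfect Cfsg.Agent.Lib.Helper81_SpWeights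
  Cfsg.Agent.Lib.Helper81_JointEigen Cfsg.Agent.Lib.Helper81_Heis Cfsg.Agent.Lib.Helper81_WeilLin
  Cfsg.Agent.Lib.Helper81_Schrodinger

namespace S5iiiaaux

variable {F : Type*} [Field F] [Fintype F] [DecidableEq F] {m : ℕ} {K : Type*} [Field K]
  [IsAlgClosed K] [CharZero K] {M : Type*} [AddCommGroup M] [Module K M]

/-- `hs (b ; 0)` fixes `δ₀` -/
theorem hs_inl_dl (ψ : AddChar F K) (h : F) (b : Fin m → F) :
    hs ψ h (Sum.elim b 0) (dl (0 : Fin m → F) : (Fin m → F) → K) = dl 0 := by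
  funext t
  unfold hs
  rw [hsXY_apply]
  have e1 : (Sum.elim b (0 : Fin m → F)) ∘ Sum.inr = 0 := rfl
  have e2 : (Sum.elim b (0 : Fin m → F)) ∘ Sum.inl = b := rfl
  rw [e1, e2, zero_dotProduct, mul_zero, zero_add, add_zero]
  unfold dl
  by_cases ht : t = 0
  · subst ht
    rw [dotProduct_zero, AddChar.map_zero_eq_one, one_mul]
  · rw [Pi.single_eq_of_ne ht, mul_zero]

/-- `hs (0 ; t) δ₀ = δ_(-t)` -/
theorem hs_inr_dl (ψ : AddChar F K) (h : F) (t : Fin m → F) :
    hs ψ h (Sum.elim 0 t) (dl (0 : Fin m → F) : (Fin m → F) → K) = dl (-t) := by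
  funext τ
  unfold hs
  rw [hsXY_apply]
  have e1 : (Sum.elim (0 : Fin m → F) t) ∘ Sum.inr = t := rfl
  have e2 : (Sum.elim (0 : Fin m → F) t) ∘ Sum.inl = 0 := rfl
  rw [e1, e2, dotProduct_zero, mul_zero, zero_add, zero_dotProduct, AddChar.map_zero_eq_one,
    one_mul]
  unfold dl
  by_cases hτ : τ = -t
  · subst hτ
    rw [neg_add_cancel, Pi.single_eq_same, Pi.single_eq_same]
  · rw [Pi.single_eq_of_ne hτ, Pi.single_eq_of_ne]
    intro h0
    exact hτ (eq_neg_of_add_eq_zero_left h0)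

theorem fv_dl' (R : SpG (m + 1) F →* Module.End K M) (v : M) (s : Fin m → F) :
    fv R v (dl s) = R (yt (-s)) v := by
  rw [fv_apply, Finset.sum_eq_single s]
  · unfold dl
    rw [Pi.single_eq_same, one_smul]
  · intro s' _ hs'
    unfold dl
    rw [Pi.single_eq_of_ne hs', zero_smul]
  · intro h
    exact absurd (Finset.mem_univ s) h

/-- `trP (xS b) (rk1S a x) = 2 a x₀ (c0 b · x)` -/
theorem trP_xS_rk1S (b : Fin m → F) (a : F) (x : Fin (m + 1) → F) :
    trP (xS b) (rk1S a x) = 2 * a * (x 0 * (c0 b ⬝ᵥ x)) := by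
  rw [trP_apply]
  show Matrix.trace ((vecMulVec e0 (c0 b) + vecMulVec (c0 b) e0) * (a • vecMulVec x x)) = _
  rw [Matrix.mul_smul, Matrix.trace_smul, Matrix.add_mul, Matrix.trace_add,
    vecMulVec_mul_vecMulVec, vecMulVec_mul_vecMulVec, Matrix.trace_vecMulVec,
    Matrix.trace_vecMulVec, dotProduct_smul, dotProduct_smul]
  have e : (e0 : Fin (m + 1) → F) ⬝ᵥ x = x 0 := by
    unfold e0
    rw [single_dotProduct, one_mul]
  rw [e, smul_eq_mul, smul_eq_mul, smul_eq_mul]
  ring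

/-- decomposition of an element of a sub-supremum of a family of submodules -/
theorem exists_decomp {ι : Type*} [Fintype ι] (p : ι → Submodule K M) (P : ι → Prop) (x : M)
    (hx : x ∈ ⨆ i : {i : ι // P i}, p i.1) :
    ∃ μ : ι → M, (∀ i, μ i ∈ p i) ∧ (∀ i, ¬ P i → μ i = 0) ∧ ∑ i, μ i = x := by
  classical
  induction hx using Submodule.iSup_induction' with
  | mem i y hy =>
    refine ⟨Pi.single i.1 y, fun j => ?_, fun j hj => ?_, ?_⟩
    · by_cases hji : j = i.1
      · subst hji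
        rw [Pi.single_eq_same]
        exact hy
      · rw [Pi.single_eq_of_ne hji]
        exact Submodule.zero_mem _
    · have hji : j ≠ i.1 := fun h => hj (h ▸ i.2)
      rw [Pi.single_eq_of_ne hji]
    · rw [Finset.sum_pi_single']
      simp
  | zero =>
    exact ⟨0, fun i => Submodule.zero_mem _, fun _ _ => rfl, Finset.sum_const_zero⟩
  | add y z _ _ ihy ihz =>
    obtain ⟨μ, h1, h2, h3⟩ := ihy
    obtain ⟨ν, k1, k2, k3⟩ := ihz
    refine ⟨μ + ν, fun i => Submodule.add_mem _ (h1 i) (k1 i), fun i hi => ?_, ?_⟩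
    · rw [Pi.add_apply, h2 i hi, k2 i hi, add_zero]
    · simp only [Pi.add_apply]
      rw [Finset.sum_add_distrib, h3, k3]

/-- local copy of S1 `weight_of_corner_ne` -/
theorem corner_ne [FiniteDimensional K M] (ψ₀ : AddChar F K)
    (R : SpG (m + 1) F →* Module.End K M)
    (hrk : RankLeOne R ψ₀) (T : symSub (m + 1) F) (hT : wsp R ψ₀ T ≠ ⊥) (ha : T.1 0 0 ≠ 0) :
    ∃ s : Fin m → F, T = rk1S (T.1 0 0) (Fin.cons 1 s) := by
  obtain ⟨a', x, hx⟩ := hrk T hT
  have h00 : T.1 0 0 = a' * (x 0 * x 0) := by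
    rw [hx, Matrix.smul_apply, vecMulVec_apply, smul_eq_mul]
  have hx0 : x 0 ≠ 0 := by
    intro h
    apply ha
    rw [h00, h, mul_zero, mul_zero]
  refine ⟨fun j => x j.succ / x 0, ?_⟩
  apply Subtype.ext
  show T.1 = T.1 0 0 • vecMulVec (Fin.cons 1 fun j => x j.succ / x 0 : Fin (m + 1) → F)
    (Fin.cons 1 fun j => x j.succ / x 0)
  have hc : ∀ i : Fin (m + 1),
      x i = x 0 * (Fin.cons 1 (fun j => x j.succ / x 0) : Fin (m + 1) → F) i := by
    intro i
    refine Fin.cases ?_ (fun i' => ?_) i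
    · rw [Fin.cons_zero, mul_one]
    · rw [Fin.cons_succ]
      field_simp
  ext i j
  rw [Matrix.smul_apply, vecMulVec_apply, smul_eq_mul, h00]
  conv_lhs => rw [hx, Matrix.smul_apply, vecMulVec_apply, smul_eq_mul, hc i, hc j]
  ring

end S5iiiaaux

section S

variable {F : Type*} [Field F] [Fintype F] [DecidableEq F] {m : ℕ} {K : Type*} [Field K]
  [IsAlgClosed K] [CharZero K] {M : Type*} [AddCommGroup M] [Module K M] [FiniteDimensional K M]

/-- PACKAGE S5iii-a: an `H`-equivariant map from the Schrödinger model into `M_(Z,a)` is an `f_v'`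
with `v' ∈ M_(T_a)` (uses rank ≤ 1) -/
theorem eq_fv_of_hs (ψ₀ : AddChar F K) (hψ₀ : ψ₀ ≠ 1) (hodd : Odd (Fintype.card F))
    (R : SpG (m + 1) F →* Module.End K M) (hrk : RankLeOne R ψ₀) {a : F} (ha : a ≠ 0)
    (f : ((Fin m → F) → K) →ₗ[K] M) (hf : ∀ φ, f φ ∈ zsp R ψ₀ a)
    (hfh : ∀ u φ, f (hs (psiA ψ₀ a) (2⁻¹ : F) u φ) = R (hu u) (f φ)) :
    f (dl 0) ∈ wsp R ψ₀ (Ta a) ∧ f = fv R (f (dl 0)) := by
  classical
  have h2 : (2 : F) ≠ 0 := two_ne_zero_of_odd hodd
  -- `x(b)` fixes `v' = f δ₀`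
  have hxb : ∀ b : Fin m → F, R (xb b) (f (dl 0)) = f (dl 0) := by
    intro b
    rw [← hu_inl, ← hfh, S5iiiaaux.hs_inl_dl]
  -- decompose `v'` into weight vectors
  have hmem := hf (dl 0)
  rw [zsp_eq_iSup ψ₀ hψ₀ hodd R a] at hmem
  obtain ⟨μ, hμ1, hμ2, hμ3⟩ := S5iiiaaux.exists_decomp (fun T : symSub (m + 1) F => wsp R ψ₀ T)
    (fun T => T.1 0 0 = a) _ hmem
  have hind := (iSupIndep_iff_finsetSum_eq_imp_eq _).mp (iSupIndep_wsp ψ₀ hψ₀ hodd R)
  -- every component with a weight other than `T_a` vanishes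
  have hzero : ∀ T : symSub (m + 1) F, T ≠ Ta a → μ T = 0 := by
    intro T hT
    by_contra hne
    have hTa : T.1 0 0 = a := by
      by_contra h
      exact hne (hμ2 T h)
    have hbot : wsp R ψ₀ T ≠ ⊥ := fun h => hne ((Submodule.eq_bot_iff _).mp h _ (hμ1 T))
    obtain ⟨s, hs⟩ := S5iiiaaux.corner_ne ψ₀ R hrk T hbot (by rw [hTa]; exact ha)
    rw [hTa] at hs
    -- the scalars `ψ₀ (trP (xS b) T)` are all `1`
    have hone : ∀ b : Fin m → F, ψ₀ (trP (xS b) T) = 1 := by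
      intro b
      have hsum : ∑ T' : symSub (m + 1) F, ψ₀ (trP (xS b) T') • μ T' = ∑ T', μ T' := by
        have h1 := hxb b
        rw [← hμ3, map_sum] at h1
        rw [← h1]
        refine Finset.sum_congr rfl fun T' _ => ?_
        exact ((mem_wsp R ψ₀ T' (μ T')).mp (hμ1 T') (xS b)).symm
      have h3 := hind Finset.univ (fun T' => ψ₀ (trP (xS b) T') • μ T') μ
        (fun T' _ => ⟨Submodule.smul_mem _ _ (hμ1 T'), hμ1 T'⟩) hsum T (Finset.mem_univ T)
      have h4 : ψ₀ (trP (xS b) T) • μ T = (1 : K) • μ T := by rw [one_smul]; exact h3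
      exact smul_left_injective K hne h4
    -- hence `s = 0`
    have hs0 : s = 0 := by
      by_contra hsne
      obtain ⟨j, hj⟩ : ∃ j, s j ≠ 0 := by
        by_contra hcon
        push Not at hcon
        exact hsne (funext hcon)
      apply hψ₀
      ext c
      have h5 := hone (Pi.single j (c / (2 * a * s j)))
      rw [hs, S5iiiaaux.trP_xS_rk1S] at h5
      have h6 : c0 (Pi.single j (c / (2 * a * s j))) ⬝ᵥ (Fin.cons 1 s : Fin (m + 1) → F) =
          c / (2 * a * s j) * s j := by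
        rw [dotProduct, Fin.sum_univ_succ]
        simp only [c0_zero, zero_mul, zero_add, c0_succ, Fin.cons_succ]
        rw [← dotProduct, single_dotProduct]
      rw [h6, Fin.cons_zero, one_mul] at h5
      have h7 : 2 * a * (c / (2 * a * s j) * s j) = c := by
        field_simp
      rw [h7] at h5
      rw [h5]
      rfl
    apply hT
    rw [hs, hs0]
    apply Subtype.ext
    show a • vecMulVec (Fin.cons 1 0 : Fin (m + 1) → F) (Fin.cons 1 0) = Matrix.single 0 0 a
    ext i j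
    rw [Matrix.smul_apply, vecMulVec_apply, Matrix.single_apply]
    refine Fin.cases ?_ (fun i' => ?_) i <;> refine Fin.cases ?_ (fun j' => ?_) j <;>
      simp [(Fin.succ_ne_zero _).symm]
  have hv' : f (dl 0) = μ (Ta a) := by
    rw [← hμ3]
    exact Finset.sum_eq_single (Ta a) (fun T _ hT => hzero T hT)
      (fun h => absurd (Finset.mem_univ _) h)
  have hw : f (dl 0) ∈ wsp R ψ₀ (Ta a) := by
    rw [hv']
    exact hμ1 _
  refine ⟨hw, ?_⟩
  -- `f = f_v'` on the basis `δ_s`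
  have hdl : ∀ s : Fin m → F, f (dl s) = fv R (f (dl 0)) (dl s) := by
    intro s
    rw [S5iiiaaux.fv_dl', ← hu_inr, ← hfh, S5iiiaaux.hs_inr_dl, neg_neg]
  apply LinearMap.pi_ext
  intro s x
  have e : (Pi.single s x : (Fin m → F) → K) = x • dl s := by
    unfold dl
    rw [← Pi.single_smul, smul_eq_mul, mul_one]
  rw [e, map_smul, map_smul, hdl]

end S

end Cfsg.Agent.Lib.Helper75_TZ
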