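import Mathlib
import Cfsg.Agent.Lib.Helper75_TZDefs
import Cfsg.Agent.Lib.Helper81_SpIrr

set_option autoImplicit false
set_option linter.unusedSectionVars false

namespace Cfsg.Agent.Lib.Helper75_TZ

open Matrix Module
open Cfsg.Agent.Lib.Helper5_SpPerfect Cfsg.Agent.Lib.Helper81_SpWeights
  Cfsg.Agent.Lib.Helper81_JointEigen Cfsg.Agent.Lib.Helper81_Heis Cfsg.Agent.Lib.Helper81_WeilLin
  Cfsg.Agent.Lib.Helper81_Schrodinger

section GEN

variable {F : Type*} [Field F] {m : ℕ}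

/-- PACKAGE GEN2 (from `Helper81_SpIrr.normal_eq_top`): a homomorphism from `Sp(Fin k)` that is trivial on all
`xs S` is trivial -/
theorem hom_trivial_of_xs {k : ℕ} (hk : 1 ≤ k) {Γ : Type*} [Monoid Γ] (φ : SpG k F →* Γ)
    (h : ∀ S : symSub k F, φ (xs S) = 1) : ∀ g, φ g = 1 := by
  have hN : φ.ker.Normal := MonoidHom.normal_ker φ
  have htop : φ.ker = ⊤ := by
    refine Cfsg.Agent.Lib.Helper81_SpIrr.normal_eq_top φ.ker ⟨0, by omega⟩ ?_
    intro c
    rw [MonoidHom.mem_ker]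
    exact h ⟨Matrix.single _ _ c, by
      show (Matrix.single _ _ c)ᵀ = _
      simp⟩
  intro g
  have : g ∈ φ.ker := by rw [htop]; exact Subgroup.mem_top g
  exact MonoidHom.mem_ker.mp this

end GEN

end Cfsg.Agent.Lib.Helper75_TZ
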