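import Mathlib
import Cfsg.Agent.Lib.Helper81_TZW_Defs
set_option autoImplicit false
set_option linter.unusedVariables false
set_option linter.unusedSectionVars false
set_option linter.style.haveILetI false
set_option linter.deprecated false

/-!
S2524 part W, package TAU (architect helper81, market `tzw_packages`): the τ-trick.  A multiplication operator by an
even function `d` with `d 0 = 1` has the same determinant on the even and on the odd functions.
-/

namespace Cfsg.Agent.Lib.Helper2_TZW_TAU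
open Matrix Module
open Cfsg.Agent.Lib.Helper5_SpPerfect Cfsg.Agent.Lib.Helper81_SpWeights
  Cfsg.Agent.Lib.Helper81_Heis Cfsg.Agent.Lib.Helper81_WeilLin Cfsg.Agent.Lib.Helper81_Schrodinger
  Cfsg.Agent.Lib.Helper75_TZ Cfsg.Agent.Lib.Helper81_TZW
variable {F : Type*} [Field F] [Fintype F] [DecidableEq F] {K : Type*} [Field K] [IsAlgClosed K]
  [CharZero K]

/-- multiplication by a function -/
def mulOp {X : Type*} (s : X → K) : Module.End K (X → K) where
  toFun f t := s t * f t
  map_add' f g := by funext t; simp only [Pi.add_apply]; ring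
  map_smul' c f := by funext t; simp only [Pi.smul_apply, smul_eq_mul, RingHom.id_apply]; ring

theorem mulOp_apply {X : Type*} (s : X → K) (f : X → K) (t : X) : mulOp s f t = s t * f t := rfl

/-- an odd sign function -/
theorem exists_sign (h2 : (2 : F) ≠ 0) (k : ℕ) :
    ∃ sg : (Fin k → F) → K, sg 0 = 0 ∧ (∀ t, sg (-t) = - sg t) ∧ ∀ t, t ≠ 0 → sg t * sg t = 1 := by
  classical
  let ι : (Fin k → F) → ℕ := fun t => (Fintype.equivFin (Fin k → F) t : ℕ)
  have hι : Function.Injective ι := fun a b h => (Fintype.equivFin _).injective (Fin.ext h)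
  have hne : ∀ t : Fin k → F, t ≠ 0 → t ≠ -t := by
    intro t ht h
    apply ht
    funext i
    have h1 := congrFun h i
    rw [Pi.neg_apply] at h1
    have h3 : (2 : F) * t i = 0 := by linear_combination h1
    rcases mul_eq_zero.mp h3 with h4 | h4
    · exact absurd h4 h2
    · exact h4
  refine ⟨fun t => if t = 0 then 0 else if ι t < ι (-t) then 1 else -1, ?_, ?_, ?_⟩
  · simp
  · intro t
    by_cases ht : t = 0
    · subst ht; simp
    · have hnt : -t ≠ 0 := neg_ne_zero.mpr ht
      have hneq : ι t ≠ ι (-t) := fun h => hne t ht (hι h)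
      simp only [ht, hnt, if_false, neg_neg]
      by_cases hlt : ι t < ι (-t)
      · have : ¬ ι (-t) < ι t := by omega
        simp [hlt, this]
      · have : ι (-t) < ι t := by omega
        simp [hlt, this]
  · intro t ht
    simp only [ht, if_false]
    by_cases hlt : ι t < ι (-t)
    · simp [hlt]
    · simp [hlt]

/-- PKG TAU (M). -/
theorem detp_eq_detm_of_diag (h2 : (2 : F) ≠ 0) (k : ℕ) (d : (Fin k → F) → K)
    (hd : ∀ t, d (-t) = d t) (hd0 : d 0 = 1) (T : Module.End K ((Fin k → F) → K))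
    (hT : ∀ f t, T f t = d t * f t) (hc : Commute T (par k F K)) :
    detp T hc = detm T hc := by
  classical
  obtain ⟨sg, hsg0, hsgneg, hsgsq⟩ := exists_sign (K := K) h2 k
  have h2K : (2 : K) ≠ 0 := two_ne_zero
  -- odd functions vanish at `0`
  have hodd0 : ∀ g : (Fin k → F) → K, g ∈ Wm (par k F K) → g 0 = 0 := by
    intro g hg
    rw [mem_Wm] at hg
    have h1 := congrFun hg 0
    rw [par_apply, neg_zero, Pi.neg_apply] at h1
    have h3 : (2 : K) * g 0 = 0 := by linear_combination h1
    rcases mul_eq_zero.mp h3 with h4 | h4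
    · exact absurd h4 h2K
    · exact h4
  have hWp : ∀ f : (Fin k → F) → K, f ∈ Wp (par k F K) ↔ ∀ t, f (-t) = f t := by
    intro f
    rw [mem_Wp]
    constructor
    · intro h t
      have := congrFun h t
      rwa [par_apply] at this
    · intro h
      funext t
      rw [par_apply, h]
  have hWm : ∀ f : (Fin k → F) → K, f ∈ Wm (par k F K) ↔ ∀ t, f (-t) = - f t := by
    intro f
    rw [mem_Wm]
    constructor
    · intro h t
      have := congrFun h t
      rwa [par_apply, Pi.neg_apply] at this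
    · intro h
      funext t
      rw [par_apply, h, Pi.neg_apply]
  -- `mulOp sg` swaps the even and the odd functions
  have hpm : ∀ f ∈ Wp (par k F K), mulOp sg f ∈ Wm (par k F K) := by
    intro f hf
    rw [hWp] at hf
    rw [hWm]
    intro t
    rw [mulOp_apply, mulOp_apply, hsgneg, hf]
    ring
  have hmp : ∀ g ∈ Wm (par k F K), mulOp sg g ∈ Wp (par k F K) := by
    intro g hg
    rw [hWm] at hg
    rw [hWp]
    intro t
    rw [mulOp_apply, mulOp_apply, hsgneg, hg]
    ring
  have hδ : (Pi.single 0 1 : (Fin k → F) → K) ∈ Wp (par k F K) := by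
    rw [hWp]
    intro t
    by_cases ht : t = 0
    · subst ht; rw [neg_zero]
    · rw [Pi.single_eq_of_ne ht, Pi.single_eq_of_ne (neg_ne_zero.mpr ht)]
  -- the two maps
  let φ : ↥(Wp (par k F K)) →ₗ[K] K × ↥(Wm (par k F K)) :=
    LinearMap.prod ((LinearMap.proj (0 : Fin k → F)).comp (Wp (par k F K)).subtype)
      ((mulOp sg).restrict hpm)
  let ψ' : K × ↥(Wm (par k F K)) →ₗ[K] ↥(Wp (par k F K)) :=
    LinearMap.coprod (LinearMap.toSpanSingleton K _ ⟨Pi.single 0 1, hδ⟩) ((mulOp sg).restrict hmp)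
  have hφ : ∀ f : ↥(Wp (par k F K)), φ f = (f.1 0, ⟨mulOp sg f.1, hpm f.1 f.2⟩) := fun f => rfl
  have hψ : ∀ (c : K) (g : ↥(Wm (par k F K))),
      ((ψ' (c, g) : ↥(Wp (par k F K))) : (Fin k → F) → K) = c • Pi.single 0 1 + mulOp sg g.1 := by
    intro c g
    rfl
  have hsq : ∀ (f : (Fin k → F) → K) (t : Fin k → F), t ≠ 0 → mulOp sg (mulOp sg f) t = f t := by
    intro f t ht
    rw [mulOp_apply, mulOp_apply, ← mul_assoc, hsgsq t ht, one_mul]
  have h1 : φ ∘ₗ ψ' = LinearMap.id := by
    apply LinearMap.ext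
    rintro ⟨c, g⟩
    rw [LinearMap.comp_apply, LinearMap.id_apply, hφ]
    apply Prod.ext
    · show ((ψ' (c, g) : ↥(Wp (par k F K))) : (Fin k → F) → K) 0 = c
      rw [hψ, Pi.add_apply, Pi.smul_apply, Pi.single_eq_same, mulOp_apply, hsg0]
      simp
    · apply Subtype.ext
      show mulOp sg ((ψ' (c, g) : ↥(Wp (par k F K))) : (Fin k → F) → K) = g.1
      rw [hψ]
      funext t
      by_cases ht : t = 0
      · subst ht
        rw [mulOp_apply, hsg0, zero_mul, hodd0 g.1 g.2]
      · rw [map_add, Pi.add_apply, hsq _ t ht, map_smul, Pi.smul_apply, mulOp_apply,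
          Pi.single_eq_of_ne ht]
        simp
  have h2' : ψ' ∘ₗ φ = LinearMap.id := by
    apply LinearMap.ext
    intro f
    rw [LinearMap.comp_apply, LinearMap.id_apply, hφ]
    apply Subtype.ext
    rw [hψ]
    funext t
    by_cases ht : t = 0
    · subst ht
      rw [Pi.add_apply, Pi.smul_apply, Pi.single_eq_same, mulOp_apply, hsg0]
      simp
    · rw [Pi.add_apply, Pi.smul_apply, Pi.single_eq_of_ne ht, hsq _ t ht]
      simp
  let e : ↥(Wp (par k F K)) ≃ₗ[K] K × ↥(Wm (par k F K)) := LinearEquiv.ofLinear φ ψ' h1 h2'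
  have hconj : (e : ↥(Wp (par k F K)) →ₗ[K] K × ↥(Wm (par k F K))) ∘ₗ (T.restrict (mapsTo_p hc)) ∘ₗ
      (e.symm : K × ↥(Wm (par k F K)) →ₗ[K] ↥(Wp (par k F K))) =
      LinearMap.prodMap (LinearMap.id : K →ₗ[K] K) (T.restrict (mapsTo_m hc)) := by
    apply LinearMap.ext
    rintro ⟨c, g⟩
    show φ ((T.restrict (mapsTo_p hc)) (ψ' (c, g))) = (c, (T.restrict (mapsTo_m hc)) g)
    rw [hφ]
    apply Prod.ext
    · show T ((ψ' (c, g) : ↥(Wp (par k F K))) : (Fin k → F) → K) 0 = c
      rw [hT, hψ, Pi.add_apply, Pi.smul_apply, Pi.single_eq_same, mulOp_apply, hsg0, hd0]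
      simp
    · apply Subtype.ext
      show mulOp sg (T ((ψ' (c, g) : ↥(Wp (par k F K))) : (Fin k → F) → K)) = T g.1
      funext t
      rw [mulOp_apply, hT, hT, hψ]
      by_cases ht : t = 0
      · subst ht
        rw [hsg0, zero_mul, hodd0 g.1 g.2, mul_zero]
      · rw [Pi.add_apply, Pi.smul_apply, Pi.single_eq_of_ne ht, mulOp_apply]
        have := hsgsq t ht
        simp only [smul_eq_mul, mul_zero, zero_add]
        calc sg t * (d t * (sg t * g.1 t)) = (sg t * sg t) * (d t * g.1 t) := by ring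
          _ = d t * g.1 t := by rw [this, one_mul]
  unfold Cfsg.Agent.Lib.Helper81_WeilLin.detp Cfsg.Agent.Lib.Helper81_WeilLin.detm
  rw [← LinearMap.det_conj (T.restrict (mapsTo_p hc)) e, hconj, LinearMap.det_prodMap,
    LinearMap.det_id, one_mul]

end Cfsg.Agent.Lib.Helper2_TZW_TAU
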