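import Mathlib
import Cfsg.Agent.Lib.Helper81_TZW_Defs
import Cfsg.Agent.Lib.Helper2_TZW_TAU

set_option autoImplicit false

/-!
# S2524, package W1: `ω_a (xs S) = mS S` exactly (helper81)

`mS S` is a normalised intertwiner (`detp = detm` by the τ-trick, `Helper2_TZW_TAU.detp_eq_detm_of_diag`), so it is
the Weil operator of `xs S` by `Good.unique`.
-/

namespace Cfsg.Agent.Lib.Helper75_TZ

open Matrix Module
open Cfsg.Agent.Lib.Helper5_SpPerfect Cfsg.Agent.Lib.Helper81_SpWeights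
  Cfsg.Agent.Lib.Helper81_JointEigen Cfsg.Agent.Lib.Helper81_Heis Cfsg.Agent.Lib.Helper81_WeilLin
  Cfsg.Agent.Lib.Helper81_Schrodinger Cfsg.Agent.Lib.Helper81_TZW

variable {F : Type*} [Field F] [Fintype F] [DecidableEq F] {K : Type*} [Field K] [IsAlgClosed K]
  [CharZero K] {k : ℕ}

namespace W1aux

theorem mS_mul_mS (ψ : AddChar F K) (h : F) (S S' : Matrix (Fin k) (Fin k) F) :
    mS ψ h S * mS ψ h S' = mS ψ h (S + S') := by
  apply LinearMap.ext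
  intro f
  funext t
  rw [Module.End.mul_apply, mS_apply, mS_apply, mS_apply, ← mul_assoc, ← AddChar.map_add_eq_mul]
  congr 2
  rw [Matrix.add_mulVec, dotProduct_add]
  ring

theorem mS_zero (ψ : AddChar F K) (h : F) :
    mS ψ h (0 : Matrix (Fin k) (Fin k) F) = 1 := by
  apply LinearMap.ext
  intro f
  funext t
  rw [mS_apply, Matrix.zero_mulVec, dotProduct_zero, mul_zero, neg_zero, AddChar.map_zero_eq_one,
    one_mul]
  rfl

theorem mS_comm_par (ψ : AddChar F K) (h : F) (S : Matrix (Fin k) (Fin k) F) :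
    Commute (mS ψ h S) (par k F K) := by
  apply LinearMap.ext
  intro f
  funext t
  rw [Module.End.mul_apply, Module.End.mul_apply, mS_apply, par_apply, par_apply, mS_apply,
    Matrix.mulVec_neg, neg_dotProduct_neg]

/-- (W1), operator form: `ω_a (xs S)` is the multiplication operator `mS S` -/
theorem weilA_xs_op (ψ₀ : AddChar F K) (hψ₀ : ψ₀ ≠ 1) (h2 : (2 : F) ≠ 0) {a : F} (ha : a ≠ 0)
    (S : symSub k F) : weilA ψ₀ a k (xs S) = mS (psiA ψ₀ a) (2⁻¹ : F) S.1 := by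
  have hg := weilA_good ψ₀ hψ₀ h2 ha k (xs S)
  refine Good.unique _ _ par_mul_par (trace_par h2) hg ?_
  refine ⟨?_, ?_, mS_comm_par _ _ _, ?_⟩
  · intro u
    exact mS_mul_hs (psiA ψ₀ a) (2⁻¹ : F) (half_add h2) S.1 (mem_symSub.mp S.2) u
  · refine ⟨⟨mS (psiA ψ₀ a) (2⁻¹ : F) S.1, mS (psiA ψ₀ a) (2⁻¹ : F) (-S.1), ?_, ?_⟩, rfl⟩
    · rw [mS_mul_mS, add_neg_cancel, mS_zero]
    · rw [mS_mul_mS, neg_add_cancel, mS_zero]
  · refine Cfsg.Agent.Lib.Helper2_TZW_TAU.detp_eq_detm_of_diag h2 k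
      (fun t => psiA ψ₀ a (-((2⁻¹ : F) * (t ⬝ᵥ S.1 *ᵥ t)))) ?_ ?_ _
      (fun f t => mS_apply _ _ _ f t) _
    · intro t
      rw [Matrix.mulVec_neg, neg_dotProduct_neg]
    · rw [Matrix.mulVec_zero, dotProduct_zero, mul_zero, neg_zero, AddChar.map_zero_eq_one]

theorem mS_psiA_apply' (h2 : (2 : F) ≠ 0) (ψ₀ : AddChar F K) (a : F) (S : symSub k F)
    (f : (Fin k → F) → K) (t : Fin k → F) :
    mS (psiA ψ₀ a) (2⁻¹ : F) S.1 f t = ψ₀ (a * (t ⬝ᵥ S.1 *ᵥ t)) * f t := by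
  rw [mS_apply, psiA_apply]
  congr 2
  have := two_mul_half h2
  linear_combination (a * (t ⬝ᵥ S.1 *ᵥ t)) * this

theorem weilA_xs_apply' (ψ₀ : AddChar F K) (hψ₀ : ψ₀ ≠ 1) (h2 : (2 : F) ≠ 0) {a : F} (ha : a ≠ 0)
    (S : symSub k F) (f : (Fin k → F) → K) (t : Fin k → F) :
    weilA ψ₀ a k (xs S) f t = ψ₀ (a * (t ⬝ᵥ S.1 *ᵥ t)) * f t := by
  rw [weilA_xs_op ψ₀ hψ₀ h2 ha, mS_psiA_apply' h2]

end W1aux

/-- PACKAGE W1: `ω (xs S) δ_s = ψ₀ (a sᵀ S s) δ_s`. -/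
theorem weilA_xs (ψ₀ : AddChar F K) (hψ₀ : ψ₀ ≠ 1) (h2 : (2 : F) ≠ 0) {a : F} (ha : a ≠ 0)
    (S : symSub k F) (s : Fin k → F) :
    weilA ψ₀ a k (xs S) (dl s) = ψ₀ (a * (s ⬝ᵥ S.1 *ᵥ s)) • (dl s : (Fin k → F) → K) := by
  funext t
  rw [W1aux.weilA_xs_apply' ψ₀ hψ₀ h2 ha, Pi.smul_apply, smul_eq_mul]
  unfold dl
  by_cases hts : t = s
  · rw [hts]
  · rw [Pi.single_eq_of_ne hts, mul_zero, mul_zero]

end Cfsg.Agent.Lib.Helper75_TZ
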