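import Mathlib
import Cfsg.Agent.Lib.Helper75_TZDefs
import Cfsg.Agent.Lib.Helper84_TZ_GRPHREL

set_option autoImplicit false

/-!
# S2524 market (helper75), package GRP-HU: the Heisenberg element as a transformation, and `H0` (helper84)
-/

namespace Cfsg.Agent.Lib.Helper75_TZ

open Matrix Module
open Cfsg.Agent.Lib.Helper5_SpPerfect Cfsg.Agent.Lib.Helper81_SpWeights Cfsg.Agent.Lib.Helper81_JointEigen
  Cfsg.Agent.Lib.Helper81_Heis Cfsg.Agent.Lib.Helper81_WeilLin Cfsg.Agent.Lib.Helper81_Schrodinger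

namespace GRPHUaux

open GRPHRELaux

variable {F : Type*} [Field F] {m : ℕ}

theorem xs_mulVec {n : ℕ} (S : symSub n F) (p r : Fin n → F) :
    (xs S : SpG n F).1 *ᵥ Sum.elim p r = Sum.elim (p + S.1 *ᵥ r) r := by
  show Xmat S.1 *ᵥ Sum.elim p r = _
  unfold Xmat
  rw [fromBlocks_mulVec]
  simp

theorem Lg_mulVec {n : ℕ} (A B : Matrix (Fin n) (Fin n) F) (h : A * B = 1) (p r : Fin n → F) :
    (Lg A B h : SpG n F).1 *ᵥ Sum.elim p r = Sum.elim (A *ᵥ p) (Bᵀ *ᵥ r) := by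
  show Lmat A B *ᵥ Sum.elim p r = _
  unfold Lmat
  rw [fromBlocks_mulVec]
  simp

theorem sympForm_elim {n : ℕ} (p r p' r' : Fin n → F) :
    Cfsg.sympForm n F (Sum.elim p r) (Sum.elim p' r') = r ⬝ᵥ p' - p ⬝ᵥ r' := by
  unfold Cfsg.sympForm Matrix.J
  rw [fromBlocks_mulVec]
  simp only [Sum.elim_comp_inl, Sum.elim_comp_inr, Matrix.zero_mulVec, Matrix.neg_mulVec,
    Matrix.one_mulVec, zero_add, add_zero]
  rw [sumElim_dotProduct_sumElim, dotProduct_neg]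
  ring

theorem yA_mulVec (t : Fin m → F) (p : Fin (m + 1) → F) :
    yA t *ᵥ p = p + (c0 t ⬝ᵥ p) • e0 := by
  unfold yA
  rw [Matrix.add_mulVec, Matrix.one_mulVec, vecMulVec_mulVec, op_smul_eq_smul]

theorem yAT_mulVec (t : Fin m → F) (r : Fin (m + 1) → F) :
    (yA t)ᵀ *ᵥ r = r + (e0 ⬝ᵥ r) • c0 t := by
  rw [yA_transpose, Matrix.add_mulVec, Matrix.one_mulVec, vecMulVec_mulVec, op_smul_eq_smul]

theorem xS_mulVec (a : Fin m → F) (r : Fin (m + 1) → F) :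
    (xS a : symSub (m + 1) F).1 *ᵥ r = (c0 a ⬝ᵥ r) • e0 + (e0 ⬝ᵥ r) • c0 a := by
  show (vecMulVec e0 (c0 a) + vecMulVec (c0 a) e0) *ᵥ r = _
  rw [Matrix.add_mulVec, vecMulVec_mulVec, vecMulVec_mulVec, op_smul_eq_smul, op_smul_eq_smul]

theorem zS_mulVec (c : F) (r : Fin (m + 1) → F) :
    (zS c : symSub (m + 1) F).1 *ᵥ r = (c * (e0 ⬝ᵥ r)) • e0 := by
  show Matrix.single (0 : Fin (m + 1)) 0 c *ᵥ r = _
  rw [single_eq_vecMulVec, Matrix.smul_mulVec, vecMulVec_mulVec, mul_smul, op_smul_eq_smul]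

theorem c0_neg (t : Fin m → F) : c0 (-t) = -c0 t := by
  funext i
  refine Fin.cases ?_ (fun j => ?_) i <;> simp [c0]

theorem sympForm_mulVec_mulVec {n : ℕ} (g : SpG n F) (x y : Fin n ⊕ Fin n → F) :
    Cfsg.sympForm n F (g.1 *ᵥ x) (g.1 *ᵥ y) = Cfsg.sympForm n F x y := by
  unfold Cfsg.sympForm
  have h : (g.1)ᵀ * J (Fin n) F * g.1 = J (Fin n) F := SymplecticGroup.mem_iff'.mp g.2
  rw [← vecMul_transpose, ← dotProduct_mulVec, Matrix.mulVec_mulVec, Matrix.mulVec_mulVec, h]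

theorem ext0_mulVec_e0 (c : F) (A : Matrix (Fin m) (Fin m) F) :
    ext0 c A *ᵥ (e0 : Fin (m + 1) → F) = c • e0 := by
  funext i
  unfold e0
  rw [Matrix.mulVec_single_one]
  refine Fin.cases ?_ (fun j => ?_) i <;> simp

theorem ext0_mulVec_c0 (c : F) (A : Matrix (Fin m) (Fin m) F) (t : Fin m → F) :
    ext0 c A *ᵥ c0 t = c0 (A *ᵥ t) := by
  funext i
  rw [Matrix.mulVec, dotProduct, Fin.sum_univ_succ]
  refine Fin.cases ?_ (fun j => ?_) i
  · simp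
  · simp [Matrix.mulVec, dotProduct]

theorem emb_mulVec_e (g : SpG m F) :
    (emb g : SpG (m + 1) F).1 *ᵥ (Sum.elim e0 0 : Fin (m + 1) ⊕ Fin (m + 1) → F) = Sum.elim e0 0 := by
  rw [emb_val]
  unfold embC
  rw [fromBlocks_mulVec]
  simp only [Sum.elim_comp_inl, Sum.elim_comp_inr, Matrix.mulVec_zero, add_zero, ext0_mulVec_e0,
    one_smul, zero_smul]

/-- the vector `û` of `F^(m+1) ⊕ F^(m+1)` attached to `u` in `F^m ⊕ F^m` -/
def hat (u : Fin m ⊕ Fin m → F) : Fin (m + 1) ⊕ Fin (m + 1) → F :=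
  Sum.elim (c0 (u ∘ Sum.inl)) (c0 (u ∘ Sum.inr))

theorem emb_mulVec_hat (g : SpG m F) (u : Fin m ⊕ Fin m → F) :
    (emb g : SpG (m + 1) F).1 *ᵥ hat u = hat (g.1 *ᵥ u) := by
  unfold hat
  rw [emb_val]
  unfold embC
  rw [fromBlocks_mulVec]
  simp only [Sum.elim_comp_inl, Sum.elim_comp_inr, ext0_mulVec_c0, ← c0_add]
  conv_rhs => rw [← fromBlocks_toBlocks g.1, fromBlocks_mulVec]
  simp only [Sum.elim_comp_inl, Sum.elim_comp_inr]

end GRPHUaux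

open GRPHUaux GRPHRELaux

section GRP

variable {F : Type*} [Field F] {m : ℕ}

/-- PACKAGE GRP-HU: the Heisenberg element as a transformation, and `H0` -/
theorem hu_mulVec (u : Fin m ⊕ Fin m → F) (w : Fin (m + 1) ⊕ Fin (m + 1) → F) :
    (hu u : SpG (m + 1) F).1 *ᵥ w =
      w + (Cfsg.sympForm (m + 1) F (Sum.elim (c0 (u ∘ Sum.inl)) (c0 (u ∘ Sum.inr))) w) •
          (Sum.elim e0 0 : Fin (m + 1) ⊕ Fin (m + 1) → F)
        + (Cfsg.sympForm (m + 1) F (Sum.elim e0 0) w) •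
          (Sum.elim (c0 (u ∘ Sum.inl)) (c0 (u ∘ Sum.inr)) : Fin (m + 1) ⊕ Fin (m + 1) → F) := by
  obtain ⟨p, r, rfl⟩ : ∃ p r, w = Sum.elim p r := ⟨w ∘ Sum.inl, w ∘ Sum.inr, (Sum.elim_comp_inl_inr w).symm⟩
  unfold hu
  generalize u ∘ Sum.inl = a
  generalize u ∘ Sum.inr = t
  rw [Submonoid.coe_mul, Submonoid.coe_mul, ← Matrix.mulVec_mulVec, ← Matrix.mulVec_mulVec]
  unfold yt xb zc
  rw [Lg_mulVec, xs_mulVec, xs_mulVec, sympForm_elim, sympForm_elim, yA_mulVec, yAT_mulVec, xS_mulVec,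
    zS_mulVec]
  have hR : ∀ (c d : F), Sum.elim p r + c • (Sum.elim e0 0 : Fin (m + 1) ⊕ Fin (m + 1) → F) +
      d • Sum.elim (c0 a) (c0 t) = Sum.elim (p + c • e0 + d • c0 a) (r + d • c0 t) := by
    intro c d
    funext i
    cases i <;> simp
  rw [hR]
  simp only [c0_neg, dotProduct_add, dotProduct_smul, dotProduct_neg, neg_dotProduct, e0_dot_c0,
    c0_dot_c0, zero_dotProduct, smul_eq_mul, mul_zero, add_zero, neg_zero, zero_sub]
  congr 1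
  · module
  · module

/-- `H0`: `emb g h(u) (emb g)⁻¹ = h(g u)` -/
theorem emb_conj_hu (g : SpG m F) (u : Fin m ⊕ Fin m → F) :
    emb g * hu u * (emb g)⁻¹ = hu (g.1 *ᵥ u) := by
  have h : emb g * hu u = hu (g.1 *ᵥ u) * emb g := by
    apply Subtype.ext
    rw [Submonoid.coe_mul, Submonoid.coe_mul, Matrix.ext_iff_mulVec]
    intro w
    rw [← Matrix.mulVec_mulVec, ← Matrix.mulVec_mulVec, hu_mulVec, hu_mulVec]
    change (emb g : SpG (m + 1) F).1 *ᵥ (w + Cfsg.sympForm (m + 1) F (hat u) w • Sum.elim e0 0 +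
      Cfsg.sympForm (m + 1) F (Sum.elim e0 0) w • hat u) =
      (emb g : SpG (m + 1) F).1 *ᵥ w +
        Cfsg.sympForm (m + 1) F (hat (g.1 *ᵥ u)) ((emb g : SpG (m + 1) F).1 *ᵥ w) • Sum.elim e0 0 +
        Cfsg.sympForm (m + 1) F (Sum.elim e0 0) ((emb g : SpG (m + 1) F).1 *ᵥ w) • hat (g.1 *ᵥ u)
    rw [Matrix.mulVec_add, Matrix.mulVec_add, Matrix.mulVec_smul, Matrix.mulVec_smul, emb_mulVec_e,
      emb_mulVec_hat, ← emb_mulVec_hat g u, sympForm_mulVec_mulVec]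
    conv_rhs => rw [← emb_mulVec_e g, sympForm_mulVec_mulVec, emb_mulVec_e g]
  rw [h, mul_inv_cancel_right]

/-- consequence: the Weyl element of `G₂` conjugates `x(b)` to `y(-b)` -/
theorem emb_J_conj_xb (b : Fin m → F) :
    emb (SymplecticGroup.symJ (Fin m) F) * xb b * (emb (SymplecticGroup.symJ (Fin m) F))⁻¹ =
      yt (-b) := by
  rw [← hu_inl b, emb_conj_hu, ← hu_inr (-b)]
  congr 1
  show J (Fin m) F *ᵥ (Sum.elim (-b) (0 : Fin m → F) : Fin m ⊕ Fin m → F) =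
    Sum.elim (0 : Fin m → F) (-b)
  unfold J
  rw [fromBlocks_mulVec]
  simp

end GRP

end Cfsg.Agent.Lib.Helper75_TZ
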