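import Mathlib
import Cfsg.Agent.Lib.Helper75_TZDefs
import Cfsg.Agent.Lib.Helper31_TZ_GRP_COMM
import Cfsg.Agent.Lib.Helper31_TZ_S5ii
import Cfsg.Agent.Lib.Helper31_TZ_S5iiia
import Cfsg.Agent.Lib.Helper57_TZ_GEN2
import Cfsg.Agent.Lib.Helper81_TZ_W1
import Cfsg.Agent.Lib.Helper84_TZ_GRPHREL
import Cfsg.Agent.Lib.Helper84_TZ_GRPHU

set_option autoImplicit false
set_option linter.unusedSectionVars false

namespace Cfsg.Agent.Lib.Helper75_TZ

open Matrix Module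
open Cfsg.Agent.Lib.Helper5_SpPerfect Cfsg.Agent.Lib.Helper81_SpWeights
  Cfsg.Agent.Lib.Helper81_JointEigen Cfsg.Agent.Lib.Helper81_Heis Cfsg.Agent.Lib.Helper81_WeilLin
  Cfsg.Agent.Lib.Helper81_Schrodinger

namespace S5iiibaux

variable {F : Type*} [Field F] [Fintype F] [DecidableEq F] {m : ℕ} {K : Type*} [Field K]
  [IsAlgClosed K] [CharZero K] {M : Type*} [AddCommGroup M] [Module K M] [FiniteDimensional K M]

omit [DecidableEq F] in
theorem two_ne_zero_odd (hodd : Odd (Fintype.card F)) : (2 : F) ≠ 0 := by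
  intro h2
  have h3 : ringChar F ∣ 2 := ringChar.dvd (by exact_mod_cast h2)
  have h4 : ringChar F = 2 := by
    rcases (Nat.dvd_prime Nat.prime_two).mp h3 with h | h
    · exact absurd h CharP.ringChar_ne_one
    · exact h
  have h5 := FiniteField.even_card_of_char_two h4
  rcases hodd with ⟨k, hk⟩
  omega

/-- local copy of `fv_dl` (package S5i) -/
theorem fv_dl_loc (R : SpG (m + 1) F →* Module.End K M) (v : M) (s : Fin m → F) :
    fv R v (dl s) = R (yt (-s)) v := by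
  rw [fv_apply, Finset.sum_eq_single s]
  · unfold dl
    rw [Pi.single_eq_same, one_smul]
  · intro s' _ hs'
    unfold dl
    rw [Pi.single_eq_of_ne hs', zero_smul]
  · intro h
    exact absurd (Finset.mem_univ s) h

theorem trP_zS_Ta (c a : F) : trP (zS c : symSub (m + 1) F) (Ta a) = c * a := by
  rw [trP_apply]
  show Matrix.trace (Matrix.single 0 0 c * Matrix.single 0 0 a) = c * a
  rw [Matrix.single_mul_single_same, Matrix.trace_single_eq_same]

/-- local copy of `fv_mem_zsp` (package S5i) -/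
theorem fv_mem_zsp_loc (ψ₀ : AddChar F K) (R : SpG (m + 1) F →* Module.End K M) (a : F) (v : M)
    (hv : v ∈ wsp R ψ₀ (Ta a)) (φ : (Fin m → F) → K) : fv R v φ ∈ zsp R ψ₀ a := by
  rw [fv_apply]
  apply Submodule.sum_mem
  intro s _
  apply Submodule.smul_mem
  rw [mem_zsp]
  intro c
  have h1 : R (zc c) (R (yt (-s)) v) = R (yt (-s)) (R (zc c) v) := by
    rw [← Module.End.mul_apply, ← map_mul, ← yt_comm_zc, map_mul, Module.End.mul_apply]
  have h2 : R (zc c) v = ψ₀ (c * a) • v := by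
    have := (mem_wsp R ψ₀ (Ta a) v).mp hv (zS c)
    rw [trP_zS_Ta] at this
    exact this
  rw [h1, h2, map_smul]

/-- local copy of `emb_xs` (package GRP-EMB) -/
theorem emb_xs_loc (S : symSub m F) : emb (xs S) = xs (emS S) := by
  apply Subtype.ext
  show embC 1 0 0 1 (Xmat S.1) = Xmat (ext0 0 S.1)
  unfold Xmat
  rw [embC_fromBlocks, ext0_one, ext0_zero]

/-- the twisted map `R(ι g)⁻¹ ∘ f_v ∘ ω(g)` -/
noncomputable def fg (ψ₀ : AddChar F K) (a : F) (R : SpG (m + 1) F →* Module.End K M) (g : SpG m F)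
    (v : M) : ((Fin m → F) → K) →ₗ[K] M :=
  (R (emb g)⁻¹).comp ((fv R v).comp (weilA ψ₀ a m g))

theorem fg_apply (ψ₀ : AddChar F K) (a : F) (R : SpG (m + 1) F →* Module.End K M) (g : SpG m F)
    (v : M) (φ : (Fin m → F) → K) :
    fg ψ₀ a R g v φ = R (emb g)⁻¹ (fv R v (weilA ψ₀ a m g φ)) := rfl

/-- `f_v φ` is linear in `v` -/
noncomputable def fvL (R : SpG (m + 1) F →* Module.End K M) (φ : (Fin m → F) → K) : Module.End K M :=
  ∑ s : Fin m → F, φ s • R (yt (-s))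

theorem fvL_apply (R : SpG (m + 1) F →* Module.End K M) (φ : (Fin m → F) → K) (v : M) :
    fvL R φ v = fv R v φ := by
  unfold fvL
  rw [fv_apply, LinearMap.sum_apply]
  rfl

/-- the map `γ(g)` on the whole of `M` -/
noncomputable def Lmap (ψ₀ : AddChar F K) (a : F) (R : SpG (m + 1) F →* Module.End K M)
    (g : SpG m F) : Module.End K M :=
  (R (emb g)⁻¹).comp (fvL R (weilA ψ₀ a m g (dl 0)))

theorem Lmap_apply (ψ₀ : AddChar F K) (a : F) (R : SpG (m + 1) F →* Module.End K M)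
    (g : SpG m F) (v : M) : Lmap ψ₀ a R g v = fg ψ₀ a R g v (dl 0) := by
  unfold Lmap
  rw [LinearMap.comp_apply, fvL_apply, fg_apply]

theorem R_mul_apply (R : SpG (m + 1) F →* Module.End K M) (x y : SpG (m + 1) F) (w : M) :
    R (x * y) w = R x (R y w) := by
  rw [map_mul, Module.End.mul_apply]

theorem R_inv_apply (R : SpG (m + 1) F →* Module.End K M) (x : SpG (m + 1) F) (w : M) :
    R x⁻¹ (R x w) = w := by
  rw [← R_mul_apply, inv_mul_cancel, map_one, Module.End.one_apply]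

theorem R_apply_inv (R : SpG (m + 1) F →* Module.End K M) (x : SpG (m + 1) F) (w : M) :
    R x (R x⁻¹ w) = w := by
  rw [← R_mul_apply, mul_inv_cancel, map_one, Module.End.one_apply]

/-- `R(ι g)⁻¹` preserves `M_(Z,a)` -/
theorem emb_inv_zsp (ψ₀ : AddChar F K) (R : SpG (m + 1) F →* Module.End K M) (a : F) (g : SpG m F)
    (w : M) (hw : w ∈ zsp R ψ₀ a) : R (emb g)⁻¹ w ∈ zsp R ψ₀ a := by
  rw [mem_zsp] at hw ⊢
  intro c
  have hcomm : (zc c : SpG (m + 1) F) * (emb g)⁻¹ = (emb g)⁻¹ * zc c := by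
    have h := zc_comm_emb c g
    calc (zc c : SpG (m + 1) F) * (emb g)⁻¹
        = (emb g)⁻¹ * (emb g * zc c) * (emb g)⁻¹ := by group
      _ = (emb g)⁻¹ * (zc c * emb g) * (emb g)⁻¹ := by rw [h]
      _ = (emb g)⁻¹ * zc c := by group
  rw [← R_mul_apply, hcomm, R_mul_apply, hw c, map_smul]

theorem fg_mem_zsp (ψ₀ : AddChar F K) (R : SpG (m + 1) F →* Module.End K M) (a : F) (g : SpG m F)
    (v : M) (hv : v ∈ wsp R ψ₀ (Ta a)) (φ : (Fin m → F) → K) :
    fg ψ₀ a R g v φ ∈ zsp R ψ₀ a := by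
  rw [fg_apply]
  exact emb_inv_zsp ψ₀ R a g _ (fv_mem_zsp_loc ψ₀ R a v hv _)

theorem fg_hs (ψ₀ : AddChar F K) (hψ₀ : ψ₀ ≠ 1) (h2 : (2 : F) ≠ 0)
    (R : SpG (m + 1) F →* Module.End K M) {a : F} (ha : a ≠ 0) (g : SpG m F)
    (v : M) (hv : v ∈ wsp R ψ₀ (Ta a)) (u : Fin m ⊕ Fin m → F) (φ : (Fin m → F) → K) :
    fg ψ₀ a R g v (hs (psiA ψ₀ a) (2⁻¹ : F) u φ) = R (hu u) (fg ψ₀ a R g v φ) := by
  rw [fg_apply, fg_apply]
  have hint := weil_int (psiA ψ₀ a) h2 (psiA_ne_one ψ₀ hψ₀ h2 ha) m g u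
  have h1 : weilA ψ₀ a m g (hs (psiA ψ₀ a) (2⁻¹ : F) u φ) =
      hs (psiA ψ₀ a) (2⁻¹ : F) (g.1 *ᵥ u) (weilA ψ₀ a m g φ) := by
    have := congrArg (fun T : Module.End K ((Fin m → F) → K) => T φ) hint
    simp only [Module.End.mul_apply] at this
    exact this
  rw [h1, fv_hs ψ₀ h2 R a v hv]
  have hconj : (emb g)⁻¹ * hu (g.1 *ᵥ u) = hu u * (emb g)⁻¹ := by
    rw [← emb_conj_hu g u]
    group
  rw [← R_mul_apply, hconj, R_mul_apply]

/-- the key step: `R(ι g)⁻¹ f_v ω(g) = f_(γ(g) v)` with `γ(g) v ∈ M_(T_a)` -/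
theorem fg_eq (ψ₀ : AddChar F K) (hψ₀ : ψ₀ ≠ 1) (hodd : Odd (Fintype.card F))
    (R : SpG (m + 1) F →* Module.End K M) (hrk : RankLeOne R ψ₀) {a : F} (ha : a ≠ 0)
    (g : SpG m F) (v : M) (hv : v ∈ wsp R ψ₀ (Ta a)) :
    Lmap ψ₀ a R g v ∈ wsp R ψ₀ (Ta a) ∧ fg ψ₀ a R g v = fv R (Lmap ψ₀ a R g v) := by
  have h2 : (2 : F) ≠ 0 := two_ne_zero_odd hodd
  rw [Lmap_apply]
  exact eq_fv_of_hs ψ₀ hψ₀ hodd R hrk ha (fg ψ₀ a R g v) (fg_mem_zsp ψ₀ R a g v hv)
    (fg_hs ψ₀ hψ₀ h2 R ha g v hv)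

theorem yt_zero' : (yt (0 : Fin m → F) : SpG (m + 1) F) = 1 := by
  have h := yt_add (0 : Fin m → F) 0
  rw [add_zero] at h
  exact (mul_eq_left (a := (yt (0 : Fin m → F) : SpG (m + 1) F))).mp h.symm

theorem fv_dl_zero (R : SpG (m + 1) F →* Module.End K M) (v : M) : fv R v (dl 0) = v := by
  rw [fv_dl_loc, neg_zero, yt_zero', map_one, Module.End.one_apply]

theorem Lmap_one (ψ₀ : AddChar F K) (a : F) (R : SpG (m + 1) F →* Module.End K M) (v : M) :
    Lmap ψ₀ a R 1 v = v := by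
  rw [Lmap_apply, fg_apply, map_one, map_one, inv_one, map_one, Module.End.one_apply,
    Module.End.one_apply, fv_dl_zero]

theorem Lmap_mul (ψ₀ : AddChar F K) (hψ₀ : ψ₀ ≠ 1) (hodd : Odd (Fintype.card F))
    (R : SpG (m + 1) F →* Module.End K M) (hrk : RankLeOne R ψ₀) {a : F} (ha : a ≠ 0)
    (g g' : SpG m F) (v : M) (hv : v ∈ wsp R ψ₀ (Ta a)) :
    Lmap ψ₀ a R (g * g') v = Lmap ψ₀ a R g' (Lmap ψ₀ a R g v) := by
  have h1 := (fg_eq ψ₀ hψ₀ hodd R hrk ha g v hv).2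
  rw [Lmap_apply, fg_apply, Lmap_apply ψ₀ a R g', fg_apply]
  have e1 : weilA ψ₀ a m (g * g') (dl 0) = weilA ψ₀ a m g (weilA ψ₀ a m g' (dl 0)) := by
    rw [map_mul, Module.End.mul_apply]
  have e2 : fv R v (weilA ψ₀ a m g (weilA ψ₀ a m g' (dl 0))) =
      R (emb g) (fv R (Lmap ψ₀ a R g v) (weilA ψ₀ a m g' (dl 0))) := by
    rw [← h1, fg_apply, R_apply_inv]
  rw [e1, e2, map_mul, _root_.mul_inv_rev, R_mul_apply, R_inv_apply]

theorem Lmap_xs (ψ₀ : AddChar F K) (hψ₀ : ψ₀ ≠ 1) (h2 : (2 : F) ≠ 0)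
    (R : SpG (m + 1) F →* Module.End K M) {a : F} (ha : a ≠ 0)
    (S : symSub m F) (v : M) (hv : v ∈ wsp R ψ₀ (Ta a)) :
    Lmap ψ₀ a R (xs S) v = v := by
  rw [Lmap_apply, fg_apply, weilA_xs ψ₀ hψ₀ h2 ha S 0]
  have e0 : (0 : Fin m → F) ⬝ᵥ S.1 *ᵥ (0 : Fin m → F) = 0 := by
    rw [zero_dotProduct]
  rw [e0, mul_zero, AddChar.map_zero_eq_one, one_smul, fv_dl_zero, emb_xs_loc]
  -- `R (xs (emS S)) v = v`
  have hfix : R (xs (emS S)) v = v := by
    rw [(mem_wsp R ψ₀ (Ta a) v).mp hv (emS S)]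
    have ht : trP (emS S) (Ta a : symSub (m + 1) F) = 0 := by
      unfold trP
      show Matrix.trace ((emS S).1 * (Ta a : symSub (m + 1) F).1) = 0
      show Matrix.trace (ext0 0 S.1 * Matrix.single 0 0 a) = 0
      rw [Matrix.trace]
      apply Finset.sum_eq_zero
      intro i _
      rw [Matrix.diag_apply, Matrix.mul_apply]
      apply Finset.sum_eq_zero
      intro j _
      refine Fin.cases ?_ (fun i' => ?_) i <;> refine Fin.cases ?_ (fun j' => ?_) j <;>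
        simp [(Fin.succ_ne_zero _).symm]
    rw [ht, AddChar.map_zero_eq_one, one_smul]
  calc R (xs (emS S))⁻¹ v = R (xs (emS S))⁻¹ (R (xs (emS S)) v) := by rw [hfix]
    _ = v := R_inv_apply R _ v

/-- the anti-homomorphism `γ` as a homomorphism into the opposite monoid -/
noncomputable def gam (ψ₀ : AddChar F K) (hψ₀ : ψ₀ ≠ 1) (hodd : Odd (Fintype.card F))
    (R : SpG (m + 1) F →* Module.End K M) (hrk : RankLeOne R ψ₀) {a : F} (ha : a ≠ 0) :
    SpG m F →* (Module.End K ↥(wsp R ψ₀ (Ta a)))ᵐᵒᵖ where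
  toFun g := MulOpposite.op ((Lmap ψ₀ a R g).restrict
    (fun v hv => (fg_eq ψ₀ hψ₀ hodd R hrk ha g v hv).1))
  map_one' := by
    rw [← MulOpposite.op_one]
    congr 1
    apply LinearMap.ext
    intro x
    apply Subtype.ext
    rw [LinearMap.coe_restrict_apply, Lmap_one]
    rfl
  map_mul' g g' := by
    rw [← MulOpposite.op_mul]
    congr 1
    apply LinearMap.ext
    intro x
    apply Subtype.ext
    rw [LinearMap.coe_restrict_apply, Module.End.mul_apply, LinearMap.coe_restrict_apply,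
      LinearMap.coe_restrict_apply, Lmap_mul ψ₀ hψ₀ hodd R hrk ha g g' x.1 x.2]

end S5iiibaux

section S

variable {F : Type*} [Field F] [Fintype F] [DecidableEq F] {m : ℕ} {K : Type*} [Field K]
  [IsAlgClosed K] [CharZero K] {M : Type*} [AddCommGroup M] [Module K M] [FiniteDimensional K M]

open S5iiibaux in
/-- PACKAGE S5iii-b: `f_v` is `G₂`-equivariant -/
theorem fv_weil (ψ₀ : AddChar F K) (hψ₀ : ψ₀ ≠ 1) (hodd : Odd (Fintype.card F))
    (R : SpG (m + 1) F →* Module.End K M) (hrk : RankLeOne R ψ₀) (hm : 1 ≤ m) {a : F} (ha : a ≠ 0)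
    (v : M) (hv : v ∈ wsp R ψ₀ (Ta a)) (g : SpG m F) (φ : (Fin m → F) → K) :
    fv R v (weilA ψ₀ a m g φ) = R (emb g) (fv R v φ) := by
  have h2 : (2 : F) ≠ 0 := two_ne_zero_odd hodd
  have htriv := hom_trivial_of_xs hm (gam ψ₀ hψ₀ hodd R hrk ha) (by
    intro S
    show MulOpposite.op _ = 1
    rw [← MulOpposite.op_one]
    congr 1
    apply LinearMap.ext
    intro x
    apply Subtype.ext
    rw [LinearMap.coe_restrict_apply, Lmap_xs ψ₀ hψ₀ h2 R ha S x.1 x.2]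
    rfl) g
  have hL : Lmap ψ₀ a R g v = v := by
    have h1 : (Lmap ψ₀ a R g).restrict
        (fun v hv => (fg_eq ψ₀ hψ₀ hodd R hrk ha g v hv).1) = 1 := by
      have := congrArg MulOpposite.unop htriv
      exact this
    have h3 := congrArg (fun T : Module.End K ↥(wsp R ψ₀ (Ta a)) => ((T ⟨v, hv⟩ : ↥(wsp R ψ₀ (Ta a))) : M)) h1
    simpa only [LinearMap.coe_restrict_apply, Module.End.one_apply] using h3
  have h4 := (fg_eq ψ₀ hψ₀ hodd R hrk ha g v hv).2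
  rw [hL] at h4
  have h5 := congrArg (fun T : ((Fin m → F) → K) →ₗ[K] M => T φ) h4
  simp only [fg_apply] at h5
  rw [← h5, R_apply_inv]

end S

end Cfsg.Agent.Lib.Helper75_TZ
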