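import Mathlib
import Cfsg.Agent.Lib.Helper75_TZDefs
import Cfsg.Agent.Lib.Helper2_TZ_W2
import Cfsg.Agent.Lib.Helper87_TZ_S5iiib
import Cfsg.Agent.Lib.Helper10_TZ_S6a

set_option autoImplicit false

/-!
# S2524, package S6 (helper10): the stabiliser of `T_a` acts on `M_(T_a)` by a character
(`ext0GL_Ta`, `ds_neg_Ta`; `lowL_Ta` is in `Helper10_TZ_S6c.lean`)
-/

namespace Cfsg.Agent.Lib.Helper75_TZ

open Matrix Module
open Cfsg.Agent.Lib.Helper5_SpPerfect Cfsg.Agent.Lib.Helper81_SpWeights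
  Cfsg.Agent.Lib.Helper81_JointEigen Cfsg.Agent.Lib.Helper81_Heis Cfsg.Agent.Lib.Helper81_WeilLin
  Cfsg.Agent.Lib.Helper81_Schrodinger

section S

variable {F : Type*} [Field F] [Fintype F] [DecidableEq F] {m : ℕ} {K : Type*} [Field K]
  [IsAlgClosed K] [CharZero K] {M : Type*} [AddCommGroup M] [Module K M] [FiniteDimensional K M]

/-- PACKAGE S6: the stabiliser of `T_a` acts on `M_(T_a)` by a character -/
theorem ext0GL_Ta (ψ₀ : AddChar F K) (hψ₀ : ψ₀ ≠ 1) (hodd : Odd (Fintype.card F))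
    (R : SpG (m + 1) F →* Module.End K M) (hrk : RankLeOne R ψ₀) (hm : 1 ≤ m) {a : F} (ha : a ≠ 0)
    (v : M) (hv : v ∈ wsp R ψ₀ (Ta a)) (A₂ : GL (Fin m) F) :
    R (lgH (ext0GL A₂)) v = cA ψ₀ a m A₂ • v := by
  have h2 : (2 : F) ≠ 0 := two_ne_zero_of_odd hodd
  have h1 := fv_weil ψ₀ hψ₀ hodd R hrk hm ha v hv (lgH A₂) (dl 0)
  rw [weilA_lgH ψ₀ hψ₀ h2 ha, Matrix.mulVec_zero, map_smul, S6aux.fv_dl', S6aux.emb_lgH', neg_zero,
    S6aux.yt_zero, map_one, Module.End.one_apply] at h1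
  exact h1.symm

theorem ds_neg_Ta (ψ₀ : AddChar F K) (hψ₀ : ψ₀ ≠ 1) (hodd : Odd (Fintype.card F))
    (R : SpG (m + 1) F →* Module.End K M) (hrk : RankLeOne R ψ₀) (hm : 1 ≤ m) {a : F} (ha : a ≠ 0)
    (σ : K) (hσ : CentralSign R σ) (v : M) (hv : v ∈ wsp R ψ₀ (Ta a)) :
    R (ds (-1)) v = (σ * (cA ψ₀ a m (-1))⁻¹) • v := by
  have h2 : (2 : F) ≠ 0 := two_ne_zero_of_odd hodd
  have hne : (negOne : SpG m F) = lgH (-1 : GL (Fin m) F) := by
    apply Subtype.ext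
    rw [lgH_val, inv_neg_one, Units.val_neg, Units.val_one, transpose_neg, transpose_one]
    show (-1 : Matrix (Fin m ⊕ Fin m) (Fin m ⊕ Fin m) F) = _
    rw [← fromBlocks_one, fromBlocks_neg, neg_zero]
  have h1 := hσ v
  rw [S6aux.negOne_eq', hne, S6aux.emb_lgH', map_mul, Module.End.mul_apply,
    ext0GL_Ta ψ₀ hψ₀ hodd R hrk hm ha v hv, map_smul] at h1
  have hc := cA_ne_zero ψ₀ hψ₀ h2 ha (-1 : GL (Fin m) F)
  rw [mul_comm, mul_smul, ← h1, smul_smul, inv_mul_cancel₀ hc, one_smul]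

end S

end Cfsg.Agent.Lib.Helper75_TZ
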