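import Mathlib
import Cfsg.Agent.Lib.Helper75_TZDefs
import Cfsg.Agent.Lib.Helper10_TZ_S6a

set_option autoImplicit false

/-!
# S2524, package S6b, first half (helper10): `stab_decomp`, the stabiliser of `T_a` in the Levi subgroup
(no dependencies)
-/

namespace Cfsg.Agent.Lib.Helper75_TZ

open Matrix Module
open Cfsg.Agent.Lib.Helper5_SpPerfect Cfsg.Agent.Lib.Helper81_SpWeights
  Cfsg.Agent.Lib.Helper81_JointEigen Cfsg.Agent.Lib.Helper81_Heis Cfsg.Agent.Lib.Helper81_WeilLin
  Cfsg.Agent.Lib.Helper81_Schrodinger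

namespace S6baux

section Grp

variable {F : Type*} [Field F] {m : ℕ}

/-- the unit `diag (s,1,..,1)` -/
def dU (s : Fˣ) : GL (Fin (m + 1)) F :=
  ⟨dA (s : F), dA ((s⁻¹ : Fˣ) : F),
    by rw [dA_mul, ← Units.val_mul, mul_inv_cancel, Units.val_one]; exact ext0_one,
    by rw [dA_mul, ← Units.val_mul, inv_mul_cancel, Units.val_one]; exact ext0_one⟩

theorem ds_eq_lgH' (s : Fˣ) : (ds s : SpG (m + 1) F) = lgH (dU s) := rfl

/-- `(1 + b e₀ᵀ) * [[ε,0],[0,A₂]] = [[ε,0],[ε b,A₂]]` -/
theorem lowA_mul_ext0 (b : Fin m → F) (ε : F) (A₂ : Matrix (Fin m) (Fin m) F)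
    (i j : Fin (m + 1)) :
    (lowA b * ext0 ε A₂) i j = ext0 ε A₂ i j + c0 b i * (ε * e0 j) := by
  unfold lowA
  rw [Matrix.add_mul, Matrix.one_mul, Matrix.add_apply, Matrix.mul_apply, Fin.sum_univ_succ]
  congr 1
  have h0 : ∀ k : Fin m, vecMulVec (c0 b) (e0 : Fin (m + 1) → F) i k.succ = 0 := by
    intro k
    rw [vecMulVec_apply]
    unfold e0
    rw [Pi.single_eq_of_ne (Fin.succ_ne_zero k), mul_zero]
  rw [Finset.sum_eq_zero (fun k _ => by rw [h0 k, zero_mul]), add_zero, vecMulVec_apply]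
  unfold e0
  rw [Pi.single_eq_same, mul_one]
  refine Fin.cases ?_ (fun j' => ?_) j
  · rw [ext0_zero_zero, Pi.single_eq_same, mul_one]
  · rw [ext0_zero_succ, Pi.single_eq_of_ne (Fin.succ_ne_zero j'), mul_zero, mul_zero, mul_zero]

/-- the matrix form of the decomposition -/
theorem mat_decomp {a : F} (ha : a ≠ 0) (A B : Matrix (Fin (m + 1)) (Fin (m + 1)) F)
    (hAB : A * B = 1) (hBA : B * A = 1)
    (hst : Bᵀ * Matrix.single 0 0 a * Bᵀᵀ = Matrix.single 0 0 a) :
    ∃ (b : Fin m → F) (A₂ B₂ : Matrix (Fin m) (Fin m) F) (ε : F),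
      (ε = 1 ∨ ε = -1) ∧ A₂ * B₂ = 1 ∧ B₂ * A₂ = 1 ∧ A = lowA b * ext0 ε A₂ := by
  classical
  -- entries of the hypothesis
  have hent : ∀ i j, B 0 i * a * B 0 j = (Matrix.single 0 0 a : Matrix _ _ F) i j := by
    intro i j
    rw [← hst, Matrix.transpose_transpose, Matrix.mul_apply, Finset.sum_eq_single 0]
    · rw [Matrix.mul_apply, Finset.sum_eq_single 0]
      · rw [Matrix.transpose_apply, Matrix.single_apply_same]
      · intro k _ hk
        rw [Matrix.single_apply_of_row_ne hk.symm, mul_zero]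
      · intro h; exact absurd (Finset.mem_univ _) h
    · intro k _ hk
      rw [Matrix.mul_apply, Finset.sum_eq_zero, zero_mul]
      intro l _
      rw [Matrix.single_apply_of_col_ne _ _ hk.symm, mul_zero]
    · intro h; exact absurd (Finset.mem_univ _) h
  have h00 : B 0 0 * B 0 0 = 1 := by
    have := hent 0 0
    rw [Matrix.single_apply_same] at this
    have h' : a * (B 0 0 * B 0 0) = a * 1 := by linear_combination this
    exact mul_left_cancel₀ ha h'
  have h0s : ∀ k : Fin m, B 0 k.succ = 0 := by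
    intro k
    have := hent k.succ k.succ
    rw [Matrix.single_apply_of_row_ne (Fin.succ_ne_zero k).symm] at this
    have h' : a * (B 0 k.succ * B 0 k.succ) = 0 := by linear_combination this
    rcases mul_eq_zero.mp h' with h'' | h''
    · exact absurd h'' ha
    · exact mul_self_eq_zero.mp h''
  set ε : F := B 0 0 with hε
  have hε1 : ε = 1 ∨ ε = -1 := mul_self_eq_one_iff.mp h00
  -- the row `0` of `A`
  have hA0 : ∀ j, A 0 j = ε * (1 : Matrix (Fin (m + 1)) (Fin (m + 1)) F) 0 j := by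
    intro j
    have := congrFun (congrFun hBA 0) j
    rw [Matrix.mul_apply, Fin.sum_univ_succ,
      Finset.sum_eq_zero (fun k _ => by rw [h0s k, zero_mul]), add_zero] at this
    rw [← this, ← mul_assoc, h00, one_mul]
  have hA00 : A 0 0 = ε := by rw [hA0, Matrix.one_apply_eq, mul_one]
  have hA0s : ∀ k : Fin m, A 0 k.succ = 0 := by
    intro k
    rw [hA0, Matrix.one_apply_ne (Fin.succ_ne_zero k).symm, mul_zero]
  refine ⟨fun i => ε * A i.succ 0, A.submatrix Fin.succ Fin.succ, B.submatrix Fin.succ Fin.succ,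
    ε, hε1, ?_, ?_, ?_⟩
  · ext i j
    have := congrFun (congrFun hAB i.succ) j.succ
    rw [Matrix.mul_apply, Fin.sum_univ_succ, h0s j, mul_zero, zero_add] at this
    rw [Matrix.mul_apply]
    simp only [Matrix.submatrix_apply]
    rw [this, Matrix.one_apply, Matrix.one_apply]
    simp only [Fin.succ_inj]
  · ext i j
    have := congrFun (congrFun hBA i.succ) j.succ
    rw [Matrix.mul_apply, Fin.sum_univ_succ, hA0s j, mul_zero, zero_add] at this
    rw [Matrix.mul_apply]
    simp only [Matrix.submatrix_apply]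
    rw [this, Matrix.one_apply, Matrix.one_apply]
    simp only [Fin.succ_inj]
  · ext i j
    rw [lowA_mul_ext0]
    unfold e0
    refine Fin.cases ?_ (fun i' => ?_) i <;> refine Fin.cases ?_ (fun j' => ?_) j
    · rw [ext0_zero_zero, c0_zero, zero_mul, add_zero, hA00]
    · rw [ext0_zero_succ, c0_zero, zero_mul, add_zero, hA0s]
    · rw [ext0_succ_zero, c0_succ, Pi.single_eq_same, mul_one, zero_add, mul_comm, ← mul_assoc,
        h00, one_mul]
    · rw [ext0_succ_succ, c0_succ, Pi.single_eq_of_ne (Fin.succ_ne_zero j'), mul_zero, mul_zero,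
        add_zero, Matrix.submatrix_apply]

end Grp

end S6baux

section S2

variable {F : Type*} [Field F] [Fintype F] [DecidableEq F] {m : ℕ} {K : Type*} [Field K]
  [IsAlgClosed K] [CharZero K] {M : Type*} [AddCommGroup M] [Module K M] [FiniteDimensional K M]

/-- PACKAGE S6b: the stabiliser of `T_a` in `L` -/
theorem stab_decomp {a : F} (ha : a ≠ 0) (A : GL (Fin (m + 1)) F)
    (hA : cong (A⁻¹.1)ᵀ (Ta a) = Ta a) :
    ∃ (b : Fin m → F) (A₂ : GL (Fin m) F),
      lgH A = lowL b * lgH (ext0GL A₂) ∨ lgH A = lowL b * ds (-1) * lgH (ext0GL A₂) := by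
  have hst : (A⁻¹.1)ᵀ * Matrix.single 0 0 a * (A⁻¹.1)ᵀᵀ = Matrix.single 0 0 a :=
    congrArg Subtype.val hA
  have hAB : A.1 * A⁻¹.1 = 1 := by rw [← Units.val_mul, mul_inv_cancel, Units.val_one]
  have hBA : A⁻¹.1 * A.1 = 1 := by rw [← Units.val_mul, inv_mul_cancel, Units.val_one]
  obtain ⟨b, A₂, B₂, ε, hε, h12, h21, hdec⟩ := S6baux.mat_decomp ha A.1 A⁻¹.1 hAB hBA hst
  refine ⟨b, ⟨A₂, B₂, h12, h21⟩, ?_⟩
  rcases hε with rfl | rfl
  · left
    rw [S6aux.lowL_eq, ← map_mul]
    congr 1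
    apply Units.ext
    exact hdec
  · right
    rw [S6aux.lowL_eq, S6baux.ds_eq_lgH', ← map_mul, ← map_mul]
    congr 1
    apply Units.ext
    rw [hdec]
    show lowA b * ext0 (-1) A₂ = lowA b * dA (((-1 : Fˣ) : F)) * ext0 1 A₂
    rw [Matrix.mul_assoc]
    unfold dA
    rw [ext0_mul, Units.val_neg, Units.val_one, mul_one, Matrix.one_mul]

end S2

end Cfsg.Agent.Lib.Helper75_TZ
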