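import Mathlib
import Cfsg.Agent.Lib.Helper75_TZDefs
import Cfsg.Agent.Lib.Helper85_TZ_SZDEC

set_option autoImplicit false

namespace Cfsg.Agent.Lib.Helper75_TZ

open Matrix Module
open Cfsg.Agent.Lib.Helper5_SpPerfect Cfsg.Agent.Lib.Helper81_SpWeights
  Cfsg.Agent.Lib.Helper81_JointEigen Cfsg.Agent.Lib.Helper81_Heis Cfsg.Agent.Lib.Helper81_WeilLin
  Cfsg.Agent.Lib.Helper81_Schrodinger

section S

variable {F : Type*} [Field F] [Fintype F] [DecidableEq F] {m : ℕ} {K : Type*} [Field K]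
  [IsAlgClosed K] [CharZero K] {M : Type*} [AddCommGroup M] [Module K M] [FiniteDimensional K M]

namespace S2aux

omit [Fintype F] [DecidableEq F] in
/-- a rank one symmetric matrix with zero corner is `0 ⊕ T₂` (own copy of the second half of S1) -/
theorem corner_zero (T : symSub (m + 1) F) (hT : IsRk1 T.1) (h0 : T.1 0 0 = 0) :
    ∃ T₂ : symSub m F, T = emS T₂ := by
  obtain ⟨a, x, hax⟩ := hT
  have hsym : T.1ᵀ = T.1 := mem_symSub.mp T.2
  have hrow : ∀ j, T.1 0 j = 0 := by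
    intro j
    have h00 : a * (x 0 * x 0) = 0 := by
      have := h0
      rw [hax, Matrix.smul_apply, vecMulVec_apply, smul_eq_mul] at this
      exact this
    rw [hax, Matrix.smul_apply, vecMulVec_apply, smul_eq_mul]
    rcases mul_eq_zero.mp h00 with h | h
    · rw [h, zero_mul]
    · have hx0 : x 0 = 0 := by
        rcases mul_eq_zero.mp h with h' | h' <;> exact h'
      rw [hx0, zero_mul, mul_zero]
  have hcol : ∀ i, T.1 i 0 = 0 := by
    intro i
    have : T.1 i 0 = T.1ᵀ 0 i := rfl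
    rw [this, hsym, hrow]
  refine ⟨⟨T.1.submatrix Fin.succ Fin.succ, ?_⟩, ?_⟩
  · rw [mem_symSub]
    ext i j
    show T.1 j.succ i.succ = T.1 i.succ j.succ
    have : T.1 j.succ i.succ = T.1ᵀ i.succ j.succ := rfl
    rw [this, hsym]
  · apply Subtype.ext
    show T.1 = ext0 0 (T.1.submatrix Fin.succ Fin.succ)
    ext i j
    refine Fin.cases ?_ (fun i' => ?_) i
    · refine Fin.cases ?_ (fun j' => ?_) j
      · rw [ext0_zero_zero]; exact hrow 0
      · rw [ext0_zero_succ]; exact hrow _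
    · refine Fin.cases ?_ (fun j' => ?_) j
      · rw [ext0_succ_zero]; exact hcol _
      · rw [ext0_succ_succ]; rfl

omit [Fintype F] [DecidableEq F] in
/-- `tr ((e₀ bᵀ + b e₀ᵀ) (0 ⊕ T₂)) = 0` -/
theorem trP_xS_emS (b : Fin m → F) (T₂ : symSub m F) : trP (xS b) (emS T₂) = 0 := by
  rw [trP_apply]
  show Matrix.trace ((vecMulVec e0 (c0 b) + vecMulVec (c0 b) e0) * ext0 0 T₂.1) = 0
  rw [Matrix.add_mul, Matrix.trace_add]
  have h1 : Matrix.trace (vecMulVec (e0 : Fin (m + 1) → F) (c0 b) * ext0 0 T₂.1) = 0 := by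
    rw [Matrix.trace_mul_comm]
    unfold Matrix.trace
    apply Finset.sum_eq_zero
    intro i _
    rw [Matrix.diag_apply, Matrix.mul_apply]
    apply Finset.sum_eq_zero
    intro j _
    rw [vecMulVec_apply]
    refine Fin.cases ?_ (fun j' => ?_) j
    · refine Fin.cases ?_ (fun i' => ?_) i <;> simp
    · have : (e0 : Fin (m + 1) → F) j'.succ = 0 := by
        unfold e0
        rw [Pi.single_apply, if_neg (Fin.succ_ne_zero j')]
      rw [this, zero_mul, mul_zero]
  have h2 : Matrix.trace (vecMulVec (c0 b) (e0 : Fin (m + 1) → F) * ext0 0 T₂.1) = 0 := by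
    unfold Matrix.trace
    apply Finset.sum_eq_zero
    intro i _
    rw [Matrix.diag_apply, Matrix.mul_apply]
    apply Finset.sum_eq_zero
    intro j _
    rw [vecMulVec_apply]
    refine Fin.cases ?_ (fun j' => ?_) j
    · refine Fin.cases ?_ (fun i' => ?_) i <;> simp
    · have : (e0 : Fin (m + 1) → F) j'.succ = 0 := by
        unfold e0
        rw [Pi.single_apply, if_neg (Fin.succ_ne_zero j')]
      rw [this, mul_zero, zero_mul]
  rw [h1, h2, add_zero]

end S2aux

/-- PACKAGE S2: `x(b)` is trivial on `M^Z` -/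
theorem xb_fix (ψ₀ : AddChar F K) (hψ₀ : ψ₀ ≠ 1) (hodd : Odd (Fintype.card F))
    (R : SpG (m + 1) F →* Module.End K M) (hrk : RankLeOne R ψ₀) (v : M) (hv : v ∈ zsp R ψ₀ 0)
    (b : Fin m → F) : R (xb b) v = v := by
  rw [zsp_eq_iSup ψ₀ hψ₀ hodd R 0] at hv
  refine Submodule.iSup_induction (fun T : {T : symSub (m + 1) F // T.1 0 0 = 0} => wsp R ψ₀ T.1)
    (motive := fun v => R (xb b) v = v) hv ?_ ?_ ?_
  · rintro ⟨T, hT0⟩ u hu
    by_cases hu0 : u = 0
    · rw [hu0, map_zero]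
    · have hne : wsp R ψ₀ T ≠ ⊥ := fun h => hu0 (by
        have : u ∈ (⊥ : Submodule K M) := h ▸ hu
        exact (Submodule.mem_bot K).mp this)
      obtain ⟨T₂, rfl⟩ := S2aux.corner_zero T (hrk T hne) hT0
      have h1 := (mem_wsp R ψ₀ (emS T₂) u).mp hu (xS b)
      show R (xs (xS b)) u = u
      rw [h1, S2aux.trP_xS_emS, AddChar.map_zero_eq_one, one_smul]
  · exact map_zero _
  · intro x y hx hy
    rw [map_add, hx, hy]

end S

end Cfsg.Agent.Lib.Helper75_TZ
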