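import Mathlib
import Cfsg.Agent.Lib.Helper75_TZDefs
import Cfsg.Agent.Lib.Helper85_TZ_SZPROJ
import Cfsg.Agent.Lib.Helper27_TZ_S2
import Cfsg.Agent.Lib.Helper84_TZ_GRPHU

/-!
S2524 market (architect helper75), package S3: `y(t)` is trivial on `M^Z` (conjugate S2 by the Weyl element of `G₂`).
-/

set_option autoImplicit false

namespace Cfsg.Agent.Lib.Helper75_TZ

open Matrix Module
open Cfsg.Agent.Lib.Helper5_SpPerfect Cfsg.Agent.Lib.Helper81_SpWeights
  Cfsg.Agent.Lib.Helper81_JointEigen Cfsg.Agent.Lib.Helper81_Heis Cfsg.Agent.Lib.Helper81_WeilLin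
  Cfsg.Agent.Lib.Helper81_Schrodinger

section S

variable {F : Type*} [Field F] [Fintype F] [DecidableEq F] {m : ℕ} {K : Type*} [Field K]
  [IsAlgClosed K] [CharZero K] {M : Type*} [AddCommGroup M] [Module K M] [FiniteDimensional K M]

/-- PACKAGE S3: `y(t)` is trivial on `M^Z` (conjugate S2 by the Weyl element of `G₂`) -/
theorem yt_fix (ψ₀ : AddChar F K) (hψ₀ : ψ₀ ≠ 1) (hodd : Odd (Fintype.card F))
    (R : SpG (m + 1) F →* Module.End K M) (hrk : RankLeOne R ψ₀) (v : M) (hv : v ∈ zsp R ψ₀ 0)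
    (t : Fin m → F) : R (yt t) v = v := by
  have hconj := emb_J_conj_xb (F := F) (m := m) (-t)
  rw [neg_neg] at hconj
  have hw : (R.comp emb) (SymplecticGroup.symJ (Fin m) F)⁻¹ v ∈ zsp R ψ₀ 0 :=
    zsp_stable ψ₀ R 0 _ v hv
  rw [MonoidHom.comp_apply, map_inv] at hw
  have hfix := xb_fix ψ₀ hψ₀ hodd R hrk _ hw (-t)
  rw [← hconj, map_mul, map_mul, Module.End.mul_apply, Module.End.mul_apply, hfix,
    ← Module.End.mul_apply, ← map_mul, mul_inv_cancel, map_one, Module.End.one_apply]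

end S

end Cfsg.Agent.Lib.Helper75_TZ
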