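import Mathlib
import Cfsg.Agent.Lib.Helper75_TZDefs

/-!
S2524 market (architect helper75), package S-CONJ: rank ≤ 1 is invariant under twisting by a Levi element
(the twisted representation is isomorphic to the original one through `R (lgH A)`, so it has the same weights).
-/

set_option autoImplicit false

namespace Cfsg.Agent.Lib.Helper75_TZ

open Matrix Module
open Cfsg.Agent.Lib.Helper5_SpPerfect Cfsg.Agent.Lib.Helper81_SpWeights
  Cfsg.Agent.Lib.Helper81_JointEigen Cfsg.Agent.Lib.Helper81_Heis Cfsg.Agent.Lib.Helper81_WeilLin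
  Cfsg.Agent.Lib.Helper81_Schrodinger

section S

variable {F : Type*} [Field F] [Fintype F] [DecidableEq F] {m : ℕ} {K : Type*} [Field K]
  [IsAlgClosed K] [CharZero K] {M : Type*} [AddCommGroup M] [Module K M] [FiniteDimensional K M]

namespace SCONJaux

/-- a weight vector of the representation twisted by `conj h` gives a weight vector of `R` for the same weight -/
theorem mem_wsp_of_conj {n : ℕ} (ψ₀ : AddChar F K) (R : SpG n F →* Module.End K M) (h : SpG n F)
    (T : symSub n F) (v : M) (hv : v ∈ wsp (R.comp (MulAut.conj h).toMonoidHom) ψ₀ T) :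
    R h⁻¹ v ∈ wsp R ψ₀ T := by
  rw [mem_wsp] at hv ⊢
  intro S
  have h1 := hv S
  rw [MonoidHom.comp_apply, MulEquiv.coe_toMonoidHom, MulAut.conj_apply] at h1
  have h2 : R (xs S) (R h⁻¹ v) = R h⁻¹ (R (h * xs S * h⁻¹) v) := by
    rw [← Module.End.mul_apply, ← Module.End.mul_apply, ← map_mul, ← map_mul]
    congr 2
    group
  rw [h2, h1, map_smul]

end SCONJaux

/-- PACKAGE S-CONJ: rank ≤ 1 is invariant under twisting by a Levi element -/
theorem rankLeOne_conj {n : ℕ} (ψ₀ : AddChar F K) (R : SpG n F →* Module.End K M)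
    (hrk : RankLeOne R ψ₀) (A : GL (Fin n) F) :
    RankLeOne (R.comp (MulAut.conj (lgH A)).toMonoidHom) ψ₀ := by
  intro T hT
  apply hrk T
  intro hbot
  apply hT
  rw [eq_bot_iff]
  intro v hv
  have hw := SCONJaux.mem_wsp_of_conj ψ₀ R (lgH A) T v hv
  rw [hbot, Submodule.mem_bot] at hw
  rw [Submodule.mem_bot]
  have h3 : v = R (lgH A) (R (lgH A)⁻¹ v) := by
    rw [← Module.End.mul_apply, ← map_mul, mul_inv_cancel, map_one, Module.End.one_apply]
  rw [h3, hw, map_zero]

end S

end Cfsg.Agent.Lib.Helper75_TZ
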