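import Mathlib
import Cfsg.Agent.Lib.Helper75_TZDefs
import Cfsg.Agent.Lib.Helper79_TZ_S3
import Cfsg.Agent.Lib.Helper79_TZ_SCONJ

set_option autoImplicit false
set_option linter.unusedSectionVars false

/-!
S2524 market TZ (architect helper75), package S3': for `j ≠ k`, `lg (1 + s E_jk)` is trivial on the fixed space of
`Z_j = {xs (c E_jj)}`.  Apply S3 (`yt_fix`) to the twist of `R` by `lg P`, `P` the permutation matrix of `(0 j)`
(again of rank `≤ 1` by S-CONJ): `lg P · z(c) · lg P⁻¹ = xs (c E_jj)` and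
`lg P · y(s e_{k'}) · lg P⁻¹ = lg (1 + s E_jk)` for `k' + 1 = (0 j) k`.
-/

namespace Cfsg.Agent.Lib.Helper75_TZ

open Matrix Module
open Cfsg.Agent.Lib.Helper5_SpPerfect Cfsg.Agent.Lib.Helper81_SpWeights
  Cfsg.Agent.Lib.Helper81_JointEigen Cfsg.Agent.Lib.Helper81_Heis Cfsg.Agent.Lib.Helper81_WeilLin
  Cfsg.Agent.Lib.Helper81_Schrodinger

section S

variable {F : Type*} [Field F] [Fintype F] [DecidableEq F] {m : ℕ} {K : Type*} [Field K]
  [IsAlgClosed K] [CharZero K] {M : Type*} [AddCommGroup M] [Module K M] [FiniteDimensional K M]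

namespace S3paux

/-- conjugation by a swap matrix is a reindexing -/
theorem swap_conj {n : ℕ} (i j : Fin n) (A : Matrix (Fin n) (Fin n) F) :
    Matrix.swap F i j * A * Matrix.swap F i j =
      A.submatrix (Equiv.swap i j) (Equiv.swap i j) := by
  unfold Matrix.swap Equiv.Perm.permMatrix
  rw [PEquiv.toMatrix_toPEquiv_mul, PEquiv.mul_toMatrix_toPEquiv, Equiv.symm_swap]
  rfl

theorem single_submatrix_swap {n : ℕ} (i j a b : Fin n) (c : F) :
    (Matrix.single a b c).submatrix (Equiv.swap i j) (Equiv.swap i j) =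
      Matrix.single (Equiv.swap i j a) (Equiv.swap i j b) c := by
  ext x y
  rw [Matrix.submatrix_apply, Matrix.single_apply, Matrix.single_apply]
  have h1 : (a = Equiv.swap i j x) ↔ (Equiv.swap i j a = x) := by
    constructor
    · intro h; rw [h, Equiv.swap_apply_self]
    · intro h; rw [← h, Equiv.swap_apply_self]
  have h2 : (b = Equiv.swap i j y) ↔ (Equiv.swap i j b = y) := by
    constructor
    · intro h; rw [h, Equiv.swap_apply_self]
    · intro h; rw [← h, Equiv.swap_apply_self]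
  simp only [h1, h2]

theorem swap_conj_single {n : ℕ} (i j a b : Fin n) (c : F) :
    Matrix.swap F i j * Matrix.single a b c * Matrix.swap F i j =
      Matrix.single (Equiv.swap i j a) (Equiv.swap i j b) c := by
  rw [swap_conj, single_submatrix_swap]

theorem swap_conj_one {n : ℕ} (i j : Fin n) :
    Matrix.swap F i j * (1 : Matrix (Fin n) (Fin n) F) * Matrix.swap F i j = 1 := by
  rw [Matrix.mul_one, Matrix.swap_mul_self]

/-- `e₀ (0, t)ᵀ` for `t = s e_{k'}` is `s E_{0,k'+1}` -/
theorem vecMulVec_e0_c0_single (k' : Fin m) (s : F) :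
    vecMulVec (e0 : Fin (m + 1) → F) (c0 (Pi.single k' s)) = Matrix.single 0 k'.succ s := by
  ext x y
  rw [Matrix.vecMulVec_apply, Matrix.single_apply]
  unfold e0 c0
  refine Fin.cases ?_ (fun y' => ?_) y
  · rw [Fin.cons_zero, mul_zero, if_neg]
    rintro ⟨_, h⟩
    exact Fin.succ_ne_zero k' h
  · rw [Fin.cons_succ, Pi.single_apply, Pi.single_apply]
    by_cases hx : x = 0
    · by_cases hy : y' = k'
      · rw [if_pos hx, if_pos hy, one_mul, if_pos ⟨hx.symm, by rw [hy]⟩]
      · rw [if_neg hy, mul_zero, if_neg]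
        rintro ⟨_, h⟩
        exact hy (Fin.succ_injective _ h).symm
    · rw [if_neg hx, zero_mul, if_neg]
      rintro ⟨h, _⟩
      exact hx h.symm

/-- `y(t)` as `lgH` of an element of `GL` -/
def yGL (t : Fin m → F) : GL (Fin (m + 1)) F :=
  ⟨yA t, yA (-t), by rw [yA_mul, add_neg_cancel, yA_zero], by rw [yA_mul, neg_add_cancel, yA_zero]⟩

theorem yt_eq_lgH (t : Fin m → F) : yt t = lgH (yGL t) := rfl

/-- the key conjugation identity in `GL` -/
theorem swap_mul_yGL (j k : Fin (m + 1)) (hjk : j ≠ k) (k' : Fin m)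
    (hk' : k'.succ = Equiv.swap 0 j k) (s : F) :
    Matrix.GeneralLinearGroup.swap F 0 j * yGL (Pi.single k' s) *
      (Matrix.GeneralLinearGroup.swap F 0 j)⁻¹ = elemGL j k hjk s := by
  apply Units.ext
  show Matrix.swap F 0 j * yA (Pi.single k' s) * Matrix.swap F 0 j = 1 + Matrix.single j k s
  unfold yA
  rw [vecMulVec_e0_c0_single, Matrix.mul_add, Matrix.add_mul, swap_conj_one, swap_conj_single,
    Equiv.swap_apply_left, hk', Equiv.swap_apply_self]

/-- the conjugate of `z(c)` by `lg P` is `xs (c E_jj)` -/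
theorem cong_swap_zS (j : Fin (m + 1)) (c : F) :
    cong (Matrix.swap F 0 j) (zS c) = (⟨Matrix.single j j c, by
      show (Matrix.single j j c)ᵀ = _; rw [Matrix.transpose_single]⟩ : symSub (m + 1) F) := by
  apply Subtype.ext
  show Matrix.swap F 0 j * Matrix.single 0 0 c * (Matrix.swap F 0 j)ᵀ = Matrix.single j j c
  rw [Matrix.transpose_swap, swap_conj_single, Equiv.swap_apply_left]

end S3paux

/-- PACKAGE S3': for `j ≠ k`, `lg (1 + s E_jk)` is trivial on the fixed space of `Z_j = {xs (c E_jj)}` -/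
theorem elem_fix_of_Zj (ψ₀ : AddChar F K) (hψ₀ : ψ₀ ≠ 1) (hodd : Odd (Fintype.card F))
    (R : SpG (m + 1) F →* Module.End K M) (hrk : RankLeOne R ψ₀) (j k : Fin (m + 1)) (hjk : j ≠ k)
    (v : M) (hv : ∀ c : F, R (xs ⟨Matrix.single j j c, by
      show (Matrix.single j j c)ᵀ = _; rw [Matrix.transpose_single]⟩) v = v) (s : F) :
    R (lgH (elemGL j k hjk s)) v = v := by
  set P : GL (Fin (m + 1)) F := Matrix.GeneralLinearGroup.swap F 0 j with hP
  set R' : SpG (m + 1) F →* Module.End K M := R.comp (MulAut.conj (lgH P)).toMonoidHom with hR'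
  have hR'app : ∀ g, R' g = R (lgH P * g * (lgH P)⁻¹) := fun g => rfl
  have hrk' : RankLeOne R' ψ₀ := rankLeOne_conj ψ₀ R hrk P
  -- `v` is fixed by `Z` in the twisted representation
  have hvz : v ∈ zsp R' ψ₀ 0 := by
    rw [mem_zsp]
    intro c
    rw [hR'app, mul_zero, AddChar.map_zero_eq_one, one_smul]
    unfold zc
    rw [lgH_mul_xs, mul_assoc, mul_inv_cancel, mul_one]
    have h1 : cong P.1 (zS c) = _ := S3paux.cong_swap_zS (F := F) j c
    rw [h1]
    exact hv c
  -- the index `k'` with `k' + 1 = (0 j) k`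
  have hne : Equiv.swap 0 j k ≠ 0 := by
    intro h
    have h2 : k = Equiv.swap 0 j 0 := by
      have h3 := congrArg (Equiv.swap 0 j) h
      rwa [Equiv.swap_apply_self] at h3
    rw [Equiv.swap_apply_left] at h2
    exact hjk h2.symm
  obtain ⟨k', hk'⟩ := Fin.exists_succ_eq.2 hne
  have h3 := yt_fix ψ₀ hψ₀ hodd R' hrk' v hvz (Pi.single k' s)
  rw [hR'app, S3paux.yt_eq_lgH, ← map_inv, ← map_mul, ← map_mul,
    S3paux.swap_mul_yGL j k hjk k' hk' s] at h3
  exact h3

end S

end Cfsg.Agent.Lib.Helper75_TZ
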