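import Mathlib
import Cfsg.Agent.Lib.Helper75_TZDefs
import Cfsg.Agent.Lib.Helper61_TZ_S3p
import Cfsg.Agent.Lib.Helper10_TZ_S6a

set_option autoImplicit false

/-!
# S2524, package S6, `lowL_Ta` (helper10)
-/

namespace Cfsg.Agent.Lib.Helper75_TZ

open Matrix Module
open Cfsg.Agent.Lib.Helper5_SpPerfect Cfsg.Agent.Lib.Helper81_SpWeights
  Cfsg.Agent.Lib.Helper81_JointEigen Cfsg.Agent.Lib.Helper81_Heis Cfsg.Agent.Lib.Helper81_WeilLin
  Cfsg.Agent.Lib.Helper81_Schrodinger

section S

variable {F : Type*} [Field F] [Fintype F] [DecidableEq F] {m : ℕ} {K : Type*} [Field K]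
  [IsAlgClosed K] [CharZero K] {M : Type*} [AddCommGroup M] [Module K M] [FiniteDimensional K M]

theorem lowL_Ta (ψ₀ : AddChar F K) (hψ₀ : ψ₀ ≠ 1) (hodd : Odd (Fintype.card F))
    (R : SpG (m + 1) F →* Module.End K M) (hrk : RankLeOne R ψ₀) (a : F)
    (v : M) (hv : v ∈ wsp R ψ₀ (Ta a)) (b : Fin m → F) : R (lowL b) v = v := by
  have hsingle : ∀ (j : Fin m) (c : F), R (lowL (Pi.single j c)) v = v := by
    intro j c
    rw [S6aux.lowL_eq, S6aux.lowU_single]
    apply elem_fix_of_Zj ψ₀ hψ₀ hodd R hrk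
    intro c'
    rw [(mem_wsp R ψ₀ (Ta a) v).mp hv, trP_apply]
    show ψ₀ (Matrix.trace (Matrix.single j.succ j.succ c' * Matrix.single 0 0 a)) • v = v
    rw [Matrix.single_mul_single_of_ne _ _ _ _ (Fin.succ_ne_zero j), Matrix.trace_zero,
      AddChar.map_zero_eq_one, one_smul]
  have hsum : ∀ s : Finset (Fin m), R (lowL (∑ j ∈ s, Pi.single j (b j))) v = v := by
    intro s
    induction s using Finset.induction_on with
    | empty => rw [Finset.sum_empty, S6aux.lowL_zero, map_one, Module.End.one_apply]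
    | insert j s hj ih =>
      rw [Finset.sum_insert hj, S6aux.lowL_add, map_mul, Module.End.mul_apply, ih, hsingle]
  have := hsum Finset.univ
  rwa [Finset.univ_sum_single] at this

end S

end Cfsg.Agent.Lib.Helper75_TZ
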