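import Mathlib
import Cfsg.Agent.Lib.Helper75_TZDefs
import Cfsg.Agent.Lib.Helper10_TZ_S6
import Cfsg.Agent.Lib.Helper10_TZ_S6c
import Cfsg.Agent.Lib.Helper10_TZ_S6b1

set_option autoImplicit false

/-!
# S2524, package S6b (helper10): the stabiliser of `T_a` in the Levi subgroup
-/

namespace Cfsg.Agent.Lib.Helper75_TZ

open Matrix Module
open Cfsg.Agent.Lib.Helper5_SpPerfect Cfsg.Agent.Lib.Helper81_SpWeights
  Cfsg.Agent.Lib.Helper81_JointEigen Cfsg.Agent.Lib.Helper81_Heis Cfsg.Agent.Lib.Helper81_WeilLin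
  Cfsg.Agent.Lib.Helper81_Schrodinger

section S2

variable {F : Type*} [Field F] [Fintype F] [DecidableEq F] {m : ℕ} {K : Type*} [Field K]
  [IsAlgClosed K] [CharZero K] {M : Type*} [AddCommGroup M] [Module K M] [FiniteDimensional K M]

/-- the stabiliser of `T_a` acts on `M_(T_a)` by a character which depends only on `a` and the central sign -/
theorem stab_char₂ (ψ₀ : AddChar F K) (hψ₀ : ψ₀ ≠ 1) (hodd : Odd (Fintype.card F)) (hm : 1 ≤ m)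
    {M₁ M₂ : Type*} [AddCommGroup M₁] [Module K M₁] [FiniteDimensional K M₁]
    [AddCommGroup M₂] [Module K M₂] [FiniteDimensional K M₂]
    (R₁ : SpG (m + 1) F →* Module.End K M₁) (R₂ : SpG (m + 1) F →* Module.End K M₂)
    (hrk₁ : RankLeOne R₁ ψ₀) (hrk₂ : RankLeOne R₂ ψ₀) (σ : K) (hσ₁ : CentralSign R₁ σ)
    (hσ₂ : CentralSign R₂ σ) {a : F} (ha : a ≠ 0) (A : GL (Fin (m + 1)) F)
    (hA : cong (A⁻¹.1)ᵀ (Ta a) = Ta a) :
    ∃ lam : K, (∀ v ∈ wsp R₁ ψ₀ (Ta a), R₁ (lgH A) v = lam • v) ∧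
      ∀ v ∈ wsp R₂ ψ₀ (Ta a), R₂ (lgH A) v = lam • v := by
  obtain ⟨b, A₂, h | h⟩ := stab_decomp ha A hA
  · refine ⟨cA ψ₀ a m A₂, ?_, ?_⟩
    · intro v hv
      rw [h, map_mul, Module.End.mul_apply, ext0GL_Ta ψ₀ hψ₀ hodd R₁ hrk₁ hm ha v hv, map_smul,
        lowL_Ta ψ₀ hψ₀ hodd R₁ hrk₁ a v hv]
    · intro v hv
      rw [h, map_mul, Module.End.mul_apply, ext0GL_Ta ψ₀ hψ₀ hodd R₂ hrk₂ hm ha v hv, map_smul,
        lowL_Ta ψ₀ hψ₀ hodd R₂ hrk₂ a v hv]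
  · refine ⟨cA ψ₀ a m A₂ * (σ * (cA ψ₀ a m (-1))⁻¹), ?_, ?_⟩
    · intro v hv
      rw [h, map_mul, map_mul, Module.End.mul_apply, Module.End.mul_apply,
        ext0GL_Ta ψ₀ hψ₀ hodd R₁ hrk₁ hm ha v hv, map_smul,
        ds_neg_Ta ψ₀ hψ₀ hodd R₁ hrk₁ hm ha σ hσ₁ v hv, map_smul, map_smul,
        lowL_Ta ψ₀ hψ₀ hodd R₁ hrk₁ a v hv, smul_smul]
    · intro v hv
      rw [h, map_mul, map_mul, Module.End.mul_apply, Module.End.mul_apply,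
        ext0GL_Ta ψ₀ hψ₀ hodd R₂ hrk₂ hm ha v hv, map_smul,
        ds_neg_Ta ψ₀ hψ₀ hodd R₂ hrk₂ hm ha σ hσ₂ v hv, map_smul, map_smul,
        lowL_Ta ψ₀ hψ₀ hodd R₂ hrk₂ a v hv, smul_smul]

end S2

end Cfsg.Agent.Lib.Helper75_TZ
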