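import Mathlib
import Cfsg.Agent.Lib.Helper75_TZDefs

set_option autoImplicit false
set_option linter.unusedSectionVars false

/-!
# S2524 package S-ISO (helper10 for helper75): isomorphic representations have the same invariants
(weight spaces of the Siegel radical, rank of the weights, central sign).
-/

namespace Cfsg.Agent.Lib.Helper75_TZ

open Matrix Module
open Cfsg.Agent.Lib.Helper5_SpPerfect Cfsg.Agent.Lib.Helper81_SpWeights
  Cfsg.Agent.Lib.Helper81_JointEigen Cfsg.Agent.Lib.Helper81_Heis Cfsg.Agent.Lib.Helper81_WeilLin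
  Cfsg.Agent.Lib.Helper81_Schrodinger

section S2

variable {F : Type*} [Field F] [Fintype F] [DecidableEq F] {m : ℕ} {K : Type*} [Field K]
  [IsAlgClosed K] [CharZero K] {M : Type*} [AddCommGroup M] [Module K M] [FiniteDimensional K M]

namespace SISOaux

/-- membership in a weight space (no finiteness hypothesis) -/
theorem mem_wsp' {k : ℕ} {M₁ : Type*} [AddCommGroup M₁] [Module K M₁]
    (R : SpG k F →* Module.End K M₁) (ψ₀ : AddChar F K) (T : symSub k F) (v : M₁) :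
    v ∈ wsp R ψ₀ T ↔ ∀ S : symSub k F, R (xs S) v = ψ₀ (trP S T) • v := by
  unfold wsp jointEigenspace
  rw [Submodule.mem_iInf]
  exact forall_congr' fun i => Module.End.mem_eigenspace_iff

/-- an intertwining isomorphism maps weight spaces into weight spaces -/
theorem map_mem_wsp {k : ℕ} {M₁ M₂ : Type*} [AddCommGroup M₁] [Module K M₁]
    [AddCommGroup M₂] [Module K M₂] (ψ₀ : AddChar F K) {R₁ : SpG k F →* Module.End K M₁}
    {R₂ : SpG k F →* Module.End K M₂} (e : M₁ ≃ₗ[K] M₂) (he : ∀ g x, e (R₁ g x) = R₂ g (e x))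
    (T : symSub k F) {v : M₁} (hv : v ∈ wsp R₁ ψ₀ T) : e v ∈ wsp R₂ ψ₀ T := by
  rw [mem_wsp'] at hv ⊢
  intro S
  rw [← he, hv S, map_smul]

/-- the inverse of an intertwining isomorphism intertwines -/
theorem symm_intertwines {Γ : Type*} [Group Γ] {M₁ M₂ : Type*} [AddCommGroup M₁] [Module K M₁]
    [AddCommGroup M₂] [Module K M₂] {R₁ : Γ →* Module.End K M₁}
    {R₂ : Γ →* Module.End K M₂} (e : M₁ ≃ₗ[K] M₂) (he : ∀ g x, e (R₁ g x) = R₂ g (e x)) :
    ∀ g y, e.symm (R₂ g y) = R₁ g (e.symm y) := by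
  intro g y
  apply e.injective
  rw [e.apply_symm_apply, he, e.apply_symm_apply]

/-- the image of a weight space is the weight space -/
theorem map_wsp {k : ℕ} {M₁ M₂ : Type*} [AddCommGroup M₁] [Module K M₁]
    [AddCommGroup M₂] [Module K M₂] (ψ₀ : AddChar F K) {R₁ : SpG k F →* Module.End K M₁}
    {R₂ : SpG k F →* Module.End K M₂} (e : M₁ ≃ₗ[K] M₂) (he : ∀ g x, e (R₁ g x) = R₂ g (e x))
    (T : symSub k F) : (wsp R₁ ψ₀ T).map (e : M₁ →ₗ[K] M₂) = wsp R₂ ψ₀ T := by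
  apply le_antisymm
  · rintro _ ⟨v, hv, rfl⟩
    exact map_mem_wsp ψ₀ e he T hv
  · intro y hy
    refine ⟨e.symm y, map_mem_wsp ψ₀ e.symm (symm_intertwines e he) T hy, ?_⟩
    exact e.apply_symm_apply y

theorem wsp_ne_bot_imp {k : ℕ} {M₁ M₂ : Type*} [AddCommGroup M₁] [Module K M₁]
    [AddCommGroup M₂] [Module K M₂] (ψ₀ : AddChar F K) {R₁ : SpG k F →* Module.End K M₁}
    {R₂ : SpG k F →* Module.End K M₂} (e : M₁ ≃ₗ[K] M₂) (he : ∀ g x, e (R₁ g x) = R₂ g (e x))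
    (T : symSub k F) (h : wsp R₁ ψ₀ T ≠ ⊥) : wsp R₂ ψ₀ T ≠ ⊥ := by
  obtain ⟨v, hv, hv0⟩ := (Submodule.ne_bot_iff _).mp h
  rw [Submodule.ne_bot_iff]
  exact ⟨e v, map_mem_wsp ψ₀ e he T hv, fun h0 => hv0 (e.map_eq_zero_iff.mp h0)⟩

end SISOaux

/-- PACKAGE S-ISO: isomorphic representations have the same invariants -/
theorem isoRep_finrank_wsp {k : ℕ} {M₁ M₂ : Type*} [AddCommGroup M₁] [Module K M₁]
    [AddCommGroup M₂] [Module K M₂] (ψ₀ : AddChar F K) {R₁ : SpG k F →* Module.End K M₁}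
    {R₂ : SpG k F →* Module.End K M₂} (h : IsoRep R₁ R₂) (T : symSub k F) :
    finrank K (wsp R₁ ψ₀ T) = finrank K (wsp R₂ ψ₀ T) := by
  obtain ⟨e, he⟩ := h
  rw [← SISOaux.map_wsp ψ₀ e he T]
  exact (LinearEquiv.finrank_map_eq e _).symm

theorem isoRep_wsp_ne_bot {k : ℕ} {M₁ M₂ : Type*} [AddCommGroup M₁] [Module K M₁]
    [AddCommGroup M₂] [Module K M₂] (ψ₀ : AddChar F K) {R₁ : SpG k F →* Module.End K M₁}
    {R₂ : SpG k F →* Module.End K M₂} (h : IsoRep R₁ R₂) (T : symSub k F) :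
    wsp R₁ ψ₀ T ≠ ⊥ ↔ wsp R₂ ψ₀ T ≠ ⊥ := by
  obtain ⟨e, he⟩ := h
  exact ⟨SISOaux.wsp_ne_bot_imp ψ₀ e he T,
    SISOaux.wsp_ne_bot_imp ψ₀ e.symm (SISOaux.symm_intertwines e he) T⟩

theorem isoRep_rankLeOne {k : ℕ} {M₁ M₂ : Type*} [AddCommGroup M₁] [Module K M₁]
    [AddCommGroup M₂] [Module K M₂] (ψ₀ : AddChar F K) {R₁ : SpG k F →* Module.End K M₁}
    {R₂ : SpG k F →* Module.End K M₂} (h : IsoRep R₁ R₂) (h₁ : RankLeOne R₁ ψ₀) :
    RankLeOne R₂ ψ₀ := by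
  intro T hT
  exact h₁ T ((isoRep_wsp_ne_bot ψ₀ h T).mpr hT)

theorem isoRep_centralSign {k : ℕ} {M₁ M₂ : Type*} [AddCommGroup M₁] [Module K M₁]
    [AddCommGroup M₂] [Module K M₂] {R₁ : SpG k F →* Module.End K M₁}
    {R₂ : SpG k F →* Module.End K M₂} (h : IsoRep R₁ R₂) (σ : K) (h₁ : CentralSign R₁ σ) :
    CentralSign R₂ σ := by
  obtain ⟨e, he⟩ := h
  intro v
  have h2 := he negOne (e.symm v)
  rw [h₁ (e.symm v), map_smul, e.apply_symm_apply] at h2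
  exact h2.symm

end S2

end Cfsg.Agent.Lib.Helper75_TZ
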