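import Mathlib
import Cfsg.Prelude.Def_Solvable
import Cfsg.Prelude.Def_CaseTheorems
import Cfsg.Agent.Lib.Helper84_TutteDefs
import Cfsg.Agent.Lib.Helper84_TutteAPI

/-!
# S4385 (architect helper84), package C-STAB (paper (1.3)-(1.5))

The chain `R_k = RI H g 0 k` has indices 2 for `1 ≤ k < s`, then stabilises, and `R_s` is `g`-invariant.
-/

set_option autoImplicit false

open scoped commutatorElement
open Cfsg.Agent.Lib.Helper84_TutteDefs

namespace Cfsg.Agent.Lib.Helper10_Tutte_CSTAB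

variable {G : Type*} [Group G] {H : Subgroup G} {g x0 : G} {s lam : ℕ}

theorem mem_RI' {x : G} {i j : ℤ} :
    x ∈ RI H g i j ↔ ∀ l : ℤ, i ≤ l → l ≤ j → g ^ (-l) * x * g ^ l ∈ H := by
  unfold RI RS
  simp only [Subgroup.mem_iInf, Set.mem_Icc, mem_cj, and_imp]
  constructor
  · intro h l h1 h2
    have := h l h1 h2
    rwa [← zpow_neg] at this
  · intro h l h1 h2
    rw [← zpow_neg]
    exact h l h1 h2

theorem RI_anti' {i j i' j' : ℤ} (h1 : i' ≤ i) (h2 : j ≤ j') : RI H g i' j' ≤ RI H g i j := by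
  intro x hx
  rw [mem_RI'] at hx ⊢
  intro l hl1 hl2
  exact hx l (h1.trans hl1) (hl2.trans h2)

theorem RI_zero_zero' : RI H g 0 0 = H := by
  ext x
  rw [mem_RI']
  constructor
  · intro h
    have := h 0 le_rfl le_rfl
    simpa using this
  · intro h l h1 h2
    have : l = 0 := le_antisymm h2 h1
    subst this
    simpa using h

theorem RI_le_H' {j : ℤ} (hj : 0 ≤ j) : RI H g 0 j ≤ H := by
  have := RI_anti' (H := H) (g := g) (le_refl (0 : ℤ)) hj
  rwa [RI_zero_zero'] at this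

theorem mem_cj_RI' {x : G} {i j : ℤ} :
    x ∈ cj g (RI H g i j) ↔ ∀ l : ℤ, i + 1 ≤ l → l ≤ j + 1 → g ^ (-l) * x * g ^ l ∈ H := by
  rw [mem_cj, mem_RI']
  constructor
  · intro h l h1 h2
    have := h (l - 1) (by omega) (by omega)
    have e : g ^ (-(l - 1)) * (g⁻¹ * x * g) * g ^ (l - 1) = g ^ (-l) * x * g ^ l := by
      have e1 : g ^ (-(l - 1)) * g⁻¹ = g ^ (-l) := by
        rw [← zpow_neg_one, ← zpow_add]
        congr 1
        omega
      have e2 : g * g ^ (l - 1) = g ^ l := by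
        rw [← zpow_one_add]
        congr 1
        omega
      calc g ^ (-(l - 1)) * (g⁻¹ * x * g) * g ^ (l - 1)
          = (g ^ (-(l - 1)) * g⁻¹) * x * (g * g ^ (l - 1)) := by group
        _ = g ^ (-l) * x * g ^ l := by rw [e1, e2]
    rwa [e] at this
  · intro h l h1 h2
    have := h (l + 1) (by omega) (by omega)
    have e : g ^ (-l) * (g⁻¹ * x * g) * g ^ l = g ^ (-(l + 1)) * x * g ^ (l + 1) := by
      have e1 : g ^ (-l) * g⁻¹ = g ^ (-(l + 1)) := by
        rw [← zpow_neg_one, ← zpow_add]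
        congr 1
        omega
      have e2 : g * g ^ l = g ^ (l + 1) := by
        rw [← zpow_one_add]
        congr 1
        omega
      calc g ^ (-l) * (g⁻¹ * x * g) * g ^ l
          = (g ^ (-l) * g⁻¹) * x * (g * g ^ l) := by group
        _ = g ^ (-(l + 1)) * x * g ^ (l + 1) := by rw [e1, e2]
    rwa [e]

theorem RI_succ' (k : ℤ) (hk : 0 ≤ k) : RI H g 0 (k + 1) = RI H g 0 k ⊓ cj g (RI H g 0 k) := by
  ext x
  rw [Subgroup.mem_inf, mem_cj_RI', mem_RI', mem_RI']
  constructor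
  · intro h
    exact ⟨fun l h1 h2 => h l h1 (by omega), fun l h1 h2 => h l (by omega) h2⟩
  · rintro ⟨h1, h2⟩ l hl1 hl2
    by_cases hl : l ≤ k
    · exact h1 l hl1 hl
    · exact h2 l (by omega) hl2

theorem RI_zero_one' : RI H g 0 1 = H ⊓ cj g H := by
  have := RI_succ' (H := H) (g := g) 0 le_rfl
  rwa [zero_add, RI_zero_zero'] at this

theorem RI_zero_two' : RI H g 0 2 = RI H g 0 1 ⊓ cj (g ^ 2) H := by
  ext x
  rw [Subgroup.mem_inf, mem_RI', mem_RI', mem_cj]
  have e2 : g ^ 2 = g ^ (2 : ℤ) := (zpow_ofNat g 2).symm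
  have e1 : (g ^ 2)⁻¹ = g ^ (-2 : ℤ) := by
    rw [zpow_neg, e2]
  constructor
  · intro h
    refine ⟨fun l h1 h2 => h l h1 (by omega), ?_⟩
    rw [e1, e2]
    exact h 2 (by norm_num) le_rfl
  · rintro ⟨h1, h2⟩ l hl1 hl2
    by_cases hl : l ≤ 1
    · exact h1 l hl1 hl
    · have : l = 2 := by omega
      subst this
      rw [e1, e2] at h2
      exact h2

/-- C-STAB (M/L), paper (1.3)-(1.5). -/
theorem exists_chainData (hc : ChainHyp H g)
    (hidx : ∀ k : ℕ, 1 ≤ k → (RI H g 0 ((k : ℤ) + 1)).relIndex (RI H g 0 k) = 1 ∨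
      (RI H g 0 ((k : ℤ) + 1)).relIndex (RI H g 0 k) = 2) :
    ∃ s : ℕ, ChainData H g s := by
  classical
  have hfin : Finite H := hc.fin
  have hRfin : ∀ j : ℤ, 0 ≤ j → Finite (RI H g 0 j) := fun j hj =>
    Finite.of_injective (Subgroup.inclusion (RI_le_H' hj)) (Subgroup.inclusion_injective _)
  have hle : ∀ k : ℕ, RI H g 0 ((k : ℤ) + 1) ≤ RI H g 0 k := fun k => RI_anti' le_rfl (by omega)
  -- the chain stabilises somewhere
  have hex : ∃ k : ℕ, 1 ≤ k ∧ (RI H g 0 ((k : ℤ) + 1)).relIndex (RI H g 0 k) = 1 := by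
    by_contra hcon
    push Not at hcon
    have h2 : ∀ k : ℕ, 1 ≤ k → (RI H g 0 ((k : ℤ) + 1)).relIndex (RI H g 0 k) = 2 :=
      fun k hk => (hidx k hk).resolve_left (hcon k hk)
    have hcard : ∀ k : ℕ, Nat.card (RI H g 0 1) = Nat.card (RI H g 0 ((k : ℤ) + 1)) * 2 ^ k := by
      intro k
      induction k with
      | zero => simp
      | succ k ih =>
        rw [ih]
        have h3 := card_mul_relIndex' (hle (k + 1))
        rw [h2 (k + 1) (by omega)] at h3
        push_cast at h3 ⊢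
        rw [← h3]
        ring
    have hpos : ∀ k : ℕ, 0 < Nat.card (RI H g 0 ((k : ℤ) + 1)) := fun k => by
      have := hRfin ((k : ℤ) + 1) (by omega)
      exact Nat.card_pos
    have h4 := hcard (Nat.card (RI H g 0 1))
    have hlt := Nat.lt_two_pow_self (n := Nat.card (RI H g 0 1))
    have h5 := hpos (Nat.card (RI H g 0 1))
    nlinarith
  refine ⟨Nat.find hex, ?_, ?_, ?_, ?_⟩
  · -- `2 ≤ s`
    have h1 := (Nat.find_spec hex).1
    by_contra hlt
    have hs1 : Nat.find hex = 1 := by omega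
    have h2 := (Nat.find_spec hex).2
    rw [hs1] at h2
    have e : ((1 : ℕ) : ℤ) + 1 = 2 := by norm_num
    rw [e, Nat.cast_one, RI_zero_two', Subgroup.inf_relIndex_left, RI_zero_one', hc.idx] at h2
    omega
  · intro k hk1 hks
    have h1 := Nat.find_min hex hks
    rcases hidx k hk1 with h | h
    · exact absurd ⟨hk1, h⟩ h1
    · exact h
  · have h2 := (Nat.find_spec hex).2
    rw [Subgroup.relIndex_eq_one] at h2
    exact le_antisymm (hle _) h2
  · have h2 := (Nat.find_spec hex).2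
    rw [Subgroup.relIndex_eq_one, RI_succ' _ (Int.natCast_nonneg _)] at h2
    have h3 : RI H g 0 (Nat.find hex : ℤ) ≤ cj g (RI H g 0 (Nat.find hex : ℤ)) :=
      le_trans h2 inf_le_right
    have := hRfin (Nat.find hex : ℤ) (Int.natCast_nonneg _)
    have hfin' : Finite (cj g (RI H g 0 (Nat.find hex : ℤ))) :=
      Finite.of_equiv _ (Subgroup.equivMapOfInjective _ (MulAut.conj g).toMonoidHom
        (MulAut.conj g).injective).toEquiv
    exact (Subgroup.eq_of_le_of_card_ge h3 (by rw [card_cj])).symm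

end Cfsg.Agent.Lib.Helper10_Tutte_CSTAB
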