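import Mathlib
import Cfsg.Prelude.Def_Solvable
import Cfsg.Prelude.Def_CaseTheorems
import Cfsg.Agent.Lib.Helper84_TutteDefs
import Cfsg.Agent.Lib.Helper84_TutteAPI

/-!
# S4385 (architect helper84), package T-C7 (paper (C))

`s = 7`, `lam = 4`, `[x_0,x_4] = x_2` is impossible: `B = XX 1 4` is normalised by `H` and `cj g H`.
-/

set_option autoImplicit false

open scoped commutatorElement
open Cfsg.Agent.Lib.Helper84_TutteDefs

namespace Cfsg.Agent.Lib.Helper10_Tutte_TC7

variable {G : Type*} [Group G] {H : Subgroup G} {g x0 : G} {s lam : ℕ}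

/-- two involutions whose product is an involution commute -/
theorem commute_of_sq {z e : G} (hz : z * z = 1) (he : e * e = 1) (h : (e * z) * (e * z) = 1) :
    z * e = e * z := by
  have hzi : z⁻¹ = z := inv_eq_of_mul_eq_one_right hz
  have hei : e⁻¹ = e := inv_eq_of_mul_eq_one_right he
  have h1 : (e * z)⁻¹ = e * z := inv_eq_of_mul_eq_one_right h
  rw [mul_inv_rev, hzi, hei] at h1
  exact h1

theorem conj_eq_comm_mul (a b : G) : a * b * a⁻¹ = ⁅a, b⁆ * b := by
  rw [commutatorElement_def]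
  group

theorem conj_eq_mul_comm (a b : G) : b * a * b⁻¹ = a * ⁅a⁻¹, b⁆ := by
  rw [commutatorElement_def]
  group

/-- the shifted commutator relation -/
theorem comm4 (hc : ⁅xs g x0 0, xs g x0 4⁆ = xs g x0 2) (i : ℤ) :
    ⁅xs g x0 i, xs g x0 (i + 4)⁆ = xs g x0 (i + 2) := by
  have h1 := comm_shift g x0 0 4 i
  rw [zero_add, add_comm 4 i, hc] at h1
  rw [h1]
  have e := xs_conj_zpow g x0 2 (-i)
  rw [neg_neg, sub_neg_eq_add, add_comm] at e
  exact e

/-- in an interval subgroup generated by pairwise commuting involutions every element is an involution -/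
theorem sq_of_mem_XX {i j : ℤ} (hsq : ∀ l, xs g x0 l * xs g x0 l = 1)
    (hcomm : ∀ l m, i ≤ l → l ≤ j → i ≤ m → m ≤ j →
      xs g x0 l * xs g x0 m = xs g x0 m * xs g x0 l)
    {y : G} (hy : y ∈ XX g x0 i j) : y * y = 1 := by
  have key : ∀ y ∈ XX g x0 i j, y ∈ XX g x0 i j ∧ y * y = 1 := by
    intro y hy
    unfold XX at hy
    induction hy using Subgroup.closure_induction with
    | mem x hx =>
      obtain ⟨l, ⟨h1, h2⟩, rfl⟩ := hx
      exact ⟨xs_mem_XX h1 h2, hsq l⟩
    | one => exact ⟨Subgroup.one_mem _, by simp⟩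
    | mul a b _ _ iha ihb =>
      refine ⟨Subgroup.mul_mem _ iha.1 ihb.1, ?_⟩
      have hab : a * b = b * a := XX_comm hcomm iha.1 ihb.1
      calc a * b * (a * b) = a * (b * a) * b := by group
        _ = a * (a * b) * b := by rw [hab]
        _ = (a * a) * (b * b) := by group
        _ = 1 := by rw [iha.2, ihb.2, one_mul]
    | inv a _ iha =>
      refine ⟨Subgroup.inv_mem _ iha.1, ?_⟩
      have : a⁻¹ = a := inv_eq_of_mul_eq_one_right iha.2
      rw [this]
      exact iha.2
  exact (key y hy).2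

/-- an involution sending the generators of `B = XX i j` into `B` normalises `B` -/
theorem cj_eq_of_invol {i j : ℤ} {z : G} (hz : z * z = 1)
    (h : ∀ l, i ≤ l → l ≤ j → z * xs g x0 l * z⁻¹ ∈ XX g x0 i j) :
    cj z (XX g x0 i j) = XX g x0 i j := by
  have hle : cj z (XX g x0 i j) ≤ XX g x0 i j := conj_XX_le h
  apply le_antisymm hle
  have hzi : z⁻¹ = z := inv_eq_of_mul_eq_one_right hz
  have h2 := cj_le_iff.1 hle
  rwa [hzi] at h2

/-- T-C7 (L), paper (C). -/
theorem no_seven (h : TSys H g x0 7) (hl : IsLam g x0 4) (hc : ⁅xs g x0 0, xs g x0 4⁆ = xs g x0 2) :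
    False := by
  have hsq : ∀ l, xs g x0 l * xs g x0 l = 1 := h.xs_sq
  have hinv : ∀ l, (xs g x0 l)⁻¹ = xs g x0 l := h.xs_inv
  have hcm : ∀ i j : ℤ, |i - j| < 4 → xs g x0 i * xs g x0 j = xs g x0 j * xs g x0 i := by
    intro i j hij
    apply hl.commute
    push_cast
    exact hij
  have hcm14 : ∀ l m : ℤ, 1 ≤ l → l ≤ 4 → 1 ≤ m → m ≤ 4 →
      xs g x0 l * xs g x0 m = xs g x0 m * xs g x0 l := by
    intro l m h1 h2 h3 h4
    apply hcm
    rw [abs_lt]
    constructor <;> omega
  have hc4 := comm4 hc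
  -- `e = [x_0, x_5] ∈ XX 1 4`
  set e : G := ⁅xs g x0 0, xs g x0 5⁆ with he
  have he14 : e ∈ XX g x0 1 4 := by
    have := h.comm_mem (i := 0) (j := 5) (by norm_num) (by norm_num)
    norm_num at this
    exact this
  have hee : e * e = 1 := sq_of_mem_XX hsq hcm14 he14
  -- `x_5` commutes with `e`
  have h5e : xs g x0 5 * e = e * xs g x0 5 := by
    apply commute_of_sq (hsq 5) hee
    have e1 : e * xs g x0 5 = xs g x0 0 * xs g x0 5 * (xs g x0 0)⁻¹ := by
      rw [he, commutatorElement_def]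
      group
    rw [e1]
    calc xs g x0 0 * xs g x0 5 * (xs g x0 0)⁻¹ * (xs g x0 0 * xs g x0 5 * (xs g x0 0)⁻¹)
        = xs g x0 0 * (xs g x0 5 * xs g x0 5) * (xs g x0 0)⁻¹ := by group
      _ = 1 := by rw [hsq 5]; group
  -- `x_0` commutes with `e`
  have h0e : xs g x0 0 * e = e * xs g x0 0 := by
    have h1 : (xs g x0 0 * e) * (xs g x0 0 * e) = 1 := by
      have e1 : xs g x0 0 * e = xs g x0 5 * xs g x0 0 * (xs g x0 5)⁻¹ := by
        rw [he, commutatorElement_def, hinv 0]
        calc xs g x0 0 * (xs g x0 0 * xs g x0 5 * xs g x0 0 * (xs g x0 5)⁻¹)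
            = (xs g x0 0 * xs g x0 0) * xs g x0 5 * xs g x0 0 * (xs g x0 5)⁻¹ := by group
          _ = xs g x0 5 * xs g x0 0 * (xs g x0 5)⁻¹ := by rw [hsq 0, one_mul]
      rw [e1]
      calc xs g x0 5 * xs g x0 0 * (xs g x0 5)⁻¹ * (xs g x0 5 * xs g x0 0 * (xs g x0 5)⁻¹)
          = xs g x0 5 * (xs g x0 0 * xs g x0 0) * (xs g x0 5)⁻¹ := by group
        _ = 1 := by rw [hsq 0]; group
    exact (commute_of_sq hee (hsq 0) h1).symm
  -- `e ∈ XX 2 4`
  have he24 : e ∈ XX g x0 2 4 := by
    rcases h.mem_or_mul_mem_left (i := 1) (j := 4) (by norm_num) (by norm_num) he14 with h1 | h1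
    · norm_num at h1
      exact h1
    · exfalso
      norm_num at h1
      -- `x_5` commutes with `r = x_1 e` and with `e`, hence with `x_1`
      have h5r : xs g x0 5 * (xs g x0 1 * e) = (xs g x0 1 * e) * xs g x0 5 := by
        apply commute_XX _ h1
        intro l hl1 hl2
        apply hcm
        rw [abs_lt]
        constructor <;> omega
      have h51 : xs g x0 1 * xs g x0 5 = xs g x0 5 * xs g x0 1 := by
        have e1 : xs g x0 1 = (xs g x0 1 * e) * e := by
          rw [mul_assoc, hee, mul_one]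
        generalize xs g x0 1 * e = r at h5r e1
        rw [e1]
        calc r * e * xs g x0 5 = r * (e * xs g x0 5) := mul_assoc _ _ _
          _ = r * (xs g x0 5 * e) := by rw [h5e]
          _ = (r * xs g x0 5) * e := (mul_assoc _ _ _).symm
          _ = (xs g x0 5 * r) * e := by rw [h5r]
          _ = xs g x0 5 * (r * e) := mul_assoc _ _ _
      have := hl.not_commute 1
      push_cast at this
      norm_num at this
      exact this h51
  -- `e ∈ XX 1 3`
  have he13 : e ∈ XX g x0 1 3 := by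
    rcases h.mem_or_mul_mem_right (i := 1) (j := 4) (by norm_num) (by norm_num) he14 with h1 | h1
    · norm_num at h1
      exact h1
    · exfalso
      norm_num at h1
      have h0r : xs g x0 0 * (e * xs g x0 4) = (e * xs g x0 4) * xs g x0 0 := by
        apply commute_XX _ h1
        intro l hl1 hl2
        apply hcm
        rw [abs_lt]
        constructor <;> omega
      have h04 : xs g x0 0 * xs g x0 4 = xs g x0 4 * xs g x0 0 := by
        have e1 : xs g x0 4 = e * (e * xs g x0 4) := by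
          rw [← mul_assoc, hee, one_mul]
        generalize e * xs g x0 4 = r at h0r e1
        rw [e1]
        calc xs g x0 0 * (e * r) = (xs g x0 0 * e) * r := (mul_assoc _ _ _).symm
          _ = (e * xs g x0 0) * r := by rw [h0e]
          _ = e * (xs g x0 0 * r) := mul_assoc _ _ _
          _ = e * (r * xs g x0 0) := by rw [h0r]
          _ = e * r * xs g x0 0 := (mul_assoc _ _ _).symm
      have := hl.not_commute 0
      push_cast at this
      norm_num at this
      exact this h04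
  -- `e ∈ XX 2 3`
  have he23 : e ∈ XX g x0 2 3 := by
    have h1 := h.inf_XX (i := 1) (j := 4) (by norm_num) (by norm_num)
    norm_num at h1
    rw [← h1]
    exact ⟨he13, he24⟩
  -- the shifted commutators
  have hc16 : ⁅xs g x0 1, xs g x0 6⁆ ∈ XX g x0 3 4 := by
    have h1 := comm_shift g x0 0 5 1
    norm_num at h1
    rw [h1]
    have h2 : g⁻¹ * e * g ∈ cj g⁻¹ (XX g x0 2 3) := by
      have := conj_mem_cj (u := g⁻¹) he23
      rwa [inv_inv] at this
    rw [cj_inv_XX] at h2
    norm_num at h2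
    exact h2
  have hcm14' : ⁅xs g x0 (-1), xs g x0 4⁆ ∈ XX g x0 1 2 := by
    have h1 := comm_shift g x0 0 5 (-1)
    norm_num at h1
    rw [h1]
    have h2 : g * e * g⁻¹ ∈ cj g (XX g x0 2 3) := conj_mem_cj he23
    rw [cj_XX] at h2
    norm_num at h2
    exact h2
  have hmem : ∀ l : ℤ, 1 ≤ l → l ≤ 4 → xs g x0 l ∈ XX g x0 1 4 := fun l h1 h2 => xs_mem_XX h1 h2
  have hB34 : XX g x0 3 4 ≤ XX g x0 1 4 := XX_mono (by norm_num) le_rfl
  have hB12 : XX g x0 1 2 ≤ XX g x0 1 4 := XX_mono le_rfl (by norm_num)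
  -- conjugation of a generator by a commuting element
  have hfix : ∀ k l : ℤ, |k - l| < 4 → xs g x0 k * xs g x0 l * (xs g x0 k)⁻¹ = xs g x0 l := by
    intro k l hkl
    rw [hcm k l hkl, mul_assoc, mul_inv_cancel, mul_one]
  -- each `x_k`, `-1 ≤ k ≤ 6`, normalises `B`
  have hnorm : ∀ k : ℤ, -1 ≤ k → k ≤ 6 → cj (xs g x0 k) (XX g x0 1 4) = XX g x0 1 4 := by
    intro k hk1 hk2
    apply cj_eq_of_invol (hsq k)
    intro l hl1 hl2
    by_cases hkl : |k - l| < 4
    · rw [hfix k l hkl]
      exact hmem l hl1 hl2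
    · rw [abs_lt, not_and_or] at hkl
      -- the remaining pairs
      have hcases : (k = 0 ∧ l = 4) ∨ (k = -1 ∧ l = 3) ∨ (k = -1 ∧ l = 4) ∨ (k = 5 ∧ l = 1) ∨
          (k = 6 ∧ l = 1) ∨ (k = 6 ∧ l = 2) := by omega
      rcases hcases with ⟨rfl, rfl⟩ | ⟨rfl, rfl⟩ | ⟨rfl, rfl⟩ | ⟨rfl, rfl⟩ | ⟨rfl, rfl⟩ | ⟨rfl, rfl⟩
      · rw [conj_eq_comm_mul, hc]
        exact Subgroup.mul_mem _ (hmem 2 (by norm_num) (by norm_num)) (hmem 4 (by norm_num) le_rfl)
      · rw [conj_eq_comm_mul]
        have := hc4 (-1)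
        norm_num at this
        rw [this]
        exact Subgroup.mul_mem _ (hmem 1 le_rfl (by norm_num)) (hmem 3 (by norm_num) (by norm_num))
      · rw [conj_eq_comm_mul]
        exact Subgroup.mul_mem _ (hB12 hcm14') (hmem 4 (by norm_num) le_rfl)
      · rw [conj_eq_mul_comm, hinv 1]
        have := hc4 1
        norm_num at this
        rw [this]
        exact Subgroup.mul_mem _ (hmem 1 le_rfl (by norm_num)) (hmem 3 (by norm_num) (by norm_num))
      · rw [conj_eq_mul_comm, hinv 1]
        exact Subgroup.mul_mem _ (hmem 1 le_rfl (by norm_num)) (hB34 hc16)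
      · rw [conj_eq_mul_comm, hinv 2]
        have := hc4 2
        norm_num at this
        rw [this]
        exact Subgroup.mul_mem _ (hmem 2 (by norm_num) (by norm_num)) (hmem 4 (by norm_num) le_rfl)
  -- hence `XX (-1) 6` normalises `B`
  have hN : XX g x0 (-1) 6 ≤ Subgroup.normalizer ((XX g x0 1 4 : Subgroup G) : Set G) := by
    rw [XX_le_iff]
    intro k hk1 hk2
    rw [Subgroup.mem_normalizer_iff]
    intro y
    have h1 := hnorm k hk1 hk2
    constructor
    · intro hy
      rw [← h1]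
      exact conj_mem_cj hy
    · intro hy
      have h2 : (xs g x0 k)⁻¹ * (xs g x0 k * y * (xs g x0 k)⁻¹) * xs g x0 k ∈ XX g x0 1 4 := by
        have : xs g x0 k * y * (xs g x0 k)⁻¹ ∈ cj (xs g x0 k) (XX g x0 1 4) := by
          rw [h1]
          exact hy
        exact mem_cj.1 this
      have e2 : (xs g x0 k)⁻¹ * (xs g x0 k * y * (xs g x0 k)⁻¹) * xs g x0 k = y := by group
      rwa [e2] at h2
  have hcjN : ∀ u ∈ XX g x0 (-1) 6, cj u (XX g x0 1 4) = XX g x0 1 4 := by
    intro u hu
    have hu' := hN hu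
    ext y
    rw [mem_cj]
    have hui := (Subgroup.normalizer ((XX g x0 1 4 : Subgroup G) : Set G)).inv_mem hu'
    rw [Subgroup.mem_normalizer_iff] at hui
    have := hui y
    rw [inv_inv] at this
    exact this.symm
  -- apply core-freeness
  have hBle : XX g x0 1 4 ≤ H ⊓ cj g H :=
    le_inf (h.XX_le_H (by norm_num) (by norm_num)) (h.XX_le_cjH (by norm_num) (by norm_num))
  have hH : ∀ u ∈ H, cj u (XX g x0 1 4) = XX g x0 1 4 := by
    intro u hu
    apply hcjN
    rw [← h.top] at hu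
    exact XX_mono (by norm_num) (by norm_num) hu
  have hgH : ∀ u ∈ cj g H, cj u (XX g x0 1 4) = XX g x0 1 4 := by
    intro u hu
    apply hcjN
    rw [h.cj_H] at hu
    exact XX_mono le_rfl (by norm_num) hu
  have hbot := h.core (XX g x0 1 4) hBle hH hgH
  have h1 : xs g x0 1 ∈ XX g x0 1 4 := hmem 1 le_rfl (by norm_num)
  rw [hbot, Subgroup.mem_bot] at h1
  exact h.xs_ne_one 1 h1

end Cfsg.Agent.Lib.Helper10_Tutte_TC7
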