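import Mathlib
import Cfsg.Agent.Lib.Helper50_UQAbsDefs

set_option autoImplicit false

/-!
# UQ-A1 (abstract core of S2152, architect helper50): orbit bookkeeping for the `P = Q L`-orbit of a point

Also: basic consequences of `UDat.Ok` (`x_zero`, `x_neg`, `π_one`, `π_inv`, `β_zero_right`, `x_central`, `π_conj`,
`decomp_unique`, `mem_sup_iff`), and two general counting lemmas (`relIndex_mul_card_inf`, `relIndex_prod`).
-/

namespace Cfsg.Agent.Lib.Helper95_UQ_A1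

open Cfsg.Agent.Lib.Helper50_UQAbsDefs

section general

variable {G : Type*} [Group G]

theorem relIndex_mul_card_inf (H K : Subgroup G) :
    H.relIndex K * Nat.card ↥(H ⊓ K) = Nat.card K := by
  have h := Subgroup.relIndex_mul_relIndex (⊥ : Subgroup G) (H ⊓ K) K bot_le inf_le_right
  rw [Subgroup.relIndex_bot_left, Subgroup.relIndex_bot_left, Subgroup.inf_relIndex_right] at h
  rw [mul_comm]
  exact h

/-- `[L : S K] [K : S ∩ K] |S| = |L|` for `S, K ≤ L`, `K` normalised by `L`. -/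
theorem relIndex_prod (L K S : Subgroup G) (hK : K ≤ L) (hS : S ≤ L)
    (hn : ∀ l ∈ L, ∀ k ∈ K, l * k * l⁻¹ ∈ K) :
    (S ⊔ K).relIndex L * (S ⊓ K).relIndex K * Nat.card S = Nat.card L := by
  haveI : (K.subgroupOf L).Normal := ⟨fun k hk l => by
    rw [Subgroup.mem_subgroupOf] at hk ⊢
    simpa using hn l l.2 k hk⟩
  have e1 : (S ⊔ K).relIndex L = (S.subgroupOf L ⊔ K.subgroupOf L).index := by
    rw [Subgroup.relIndex, Subgroup.subgroupOf_sup hS hK]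
  have e2 : (S ⊓ K).relIndex K = (S.subgroupOf L).relIndex (K.subgroupOf L) := by
    rw [Subgroup.inf_relIndex_right, Subgroup.relIndex_subgroupOf hK]
  have e3 : Nat.card S = Nat.card (S.subgroupOf L) :=
    (Nat.card_congr (Subgroup.subgroupOfEquivOfLe hS).toEquiv).symm
  rw [e1, e2, e3]
  generalize S.subgroupOf L = S'
  generalize hK' : K.subgroupOf L = K' at *
  have a1 : (S' ⊔ K').index * Nat.card ↥(S' ⊔ K') = Nat.card ↥L := Subgroup.index_mul_card _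
  have a2 : K'.relIndex S' * Nat.card ↥K' = Nat.card ↥(S' ⊔ K') := by
    have h := relIndex_mul_card_inf K' (S' ⊔ K')
    rw [inf_eq_left.mpr le_sup_right, Subgroup.relIndex_sup_right] at h
    exact h
  have a3 : K'.relIndex S' * Nat.card ↥(S' ⊓ K') = Nat.card S' := by
    have h := relIndex_mul_card_inf K' S'
    rwa [inf_comm] at h
  have a4 : S'.relIndex K' * Nat.card ↥(S' ⊓ K') = Nat.card K' := relIndex_mul_card_inf S' K'
  rw [← a1, ← a2, ← a4, ← a3]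
  ring

end general

section basics

variable {G : Type*} [Group G] {W : Type*} [AddCommGroup W] {A : Type*} [AddCommGroup A]
  {D : UDat G W A}

theorem x_zero (hD : D.Ok) : D.x 0 = 1 := by
  have h := hD.x_add 0 0
  rw [add_zero] at h
  exact mul_left_cancel (a := D.x 0) (by rw [mul_one]; exact h.symm)

theorem x_neg (hD : D.Ok) (a : A) : D.x (-a) = (D.x a)⁻¹ := by
  rw [eq_inv_iff_mul_eq_one, ← hD.x_add, neg_add_cancel, x_zero hD]

theorem x_inj' (hD : D.Ok) {a b : A} (h : D.x a = D.x b) : a = b := by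
  have h1 : D.x (a - b) = 1 := by
    rw [sub_eq_add_neg, hD.x_add, x_neg hD, h, mul_inv_cancel]
  exact sub_eq_zero.mp (hD.x_inj _ h1)

theorem π_one (hD : D.Ok) : D.π 1 = 0 := by
  have h := hD.π_mul 1 D.Q.one_mem 1 D.Q.one_mem
  rw [mul_one] at h
  exact add_left_cancel (a := D.π 1) (by rw [add_zero]; exact h.symm)

theorem π_inv (hD : D.Ok) {g : G} (hg : g ∈ D.Q) : D.π g⁻¹ = - D.π g := by
  have h := hD.π_mul g hg g⁻¹ (D.Q.inv_mem hg)
  rw [mul_inv_cancel, π_one hD] at h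
  exact eq_neg_of_add_eq_zero_right h.symm

theorem β_zero_right (hD : D.Ok) (w : W) : D.β w 0 = 0 := by
  have h := hD.β_add_right w 0 0
  rw [add_zero] at h
  exact add_left_cancel (a := D.β w 0) (by rw [add_zero]; exact h.symm)

theorem β_zero_left (hD : D.Ok) (w : W) : D.β 0 w = 0 := by
  have h := hD.β_add_left 0 0 w
  rw [add_zero] at h
  exact add_left_cancel (a := D.β 0 w) (by rw [add_zero]; exact h.symm)

/-- the root group is central in `Q` -/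
theorem x_central (hD : D.Ok) {g : G} (hg : g ∈ D.Q) (a : A) : g * D.x a = D.x a * g := by
  have h := hD.comm g hg (D.x a) (hD.x_mem a)
  rw [hD.π_x, β_zero_right hD, x_zero hD, one_mul] at h
  exact h

theorem π_conj (hD : D.Ok) {g c : G} (hg : g ∈ D.Q) (hc : c ∈ D.Q) :
    D.π (g * c * g⁻¹) = D.π c := by
  rw [hD.π_mul _ (D.Q.mul_mem hg hc) _ (D.Q.inv_mem hg), hD.π_mul _ hg _ hc, π_inv hD hg]
  abel

/-- uniqueness of the decomposition `g l` -/
theorem decomp_unique (hD : D.Ok) {g g' l l' : G} (hg : g ∈ D.Q) (hg' : g' ∈ D.Q) (hl : l ∈ D.L)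
    (hl' : l' ∈ D.L) (h : g * l = g' * l') : g = g' ∧ l = l' := by
  have h1 : g'⁻¹ * g = l' * l⁻¹ := by
    have : g = g' * l' * l⁻¹ := by rw [← h, mul_assoc, mul_inv_cancel, mul_one]
    rw [this]
    group
  have h2 : g'⁻¹ * g = 1 :=
    hD.QL _ (D.Q.mul_mem (D.Q.inv_mem hg') hg) (h1 ▸ D.L.mul_mem hl' (D.L.inv_mem hl))
  have h3 : g = g' := by
    rw [inv_mul_eq_one] at h2
    exact h2.symm
  subst h3
  exact ⟨rfl, mul_left_cancel h⟩

/-- `Q L` as a subgroup -/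
def QLsub (hD : D.Ok) : Subgroup G where
  carrier := {p | ∃ g ∈ D.Q, ∃ l ∈ D.L, p = g * l}
  mul_mem' := by
    rintro _ _ ⟨g, hg, l, hl, rfl⟩ ⟨g', hg', l', hl', rfl⟩
    exact ⟨g * (l * g' * l⁻¹), D.Q.mul_mem hg (hD.L_conj_mem l hl g' hg'), l * l',
      D.L.mul_mem hl hl', by group⟩
  one_mem' := ⟨1, D.Q.one_mem, 1, D.L.one_mem, by simp⟩
  inv_mem' := by
    rintro _ ⟨g, hg, l, hl, rfl⟩
    exact ⟨l⁻¹ * g⁻¹ * (l⁻¹)⁻¹, hD.L_conj_mem l⁻¹ (D.L.inv_mem hl) g⁻¹ (D.Q.inv_mem hg), l⁻¹,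
      D.L.inv_mem hl, by group⟩

theorem sup_eq_QLsub (hD : D.Ok) : D.Q ⊔ D.L = QLsub hD := by
  apply le_antisymm
  · refine sup_le (fun g hg => ⟨g, hg, 1, D.L.one_mem, by simp⟩)
      (fun l hl => ⟨1, D.Q.one_mem, l, hl, by simp⟩)
  · rintro _ ⟨g, hg, l, hl, rfl⟩
    exact (D.Q ⊔ D.L).mul_mem (Subgroup.mem_sup_left hg) (Subgroup.mem_sup_right hl)

theorem mem_sup_iff (hD : D.Ok) (p : G) : p ∈ D.Q ⊔ D.L ↔ ∃ g ∈ D.Q, ∃ l ∈ D.L, p = g * l := by
  rw [sup_eq_QLsub hD]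
  rfl

/-- `|Q L| = |Q| |L|` -/
theorem card_sup (hD : D.Ok) : Nat.card ↥(D.Q ⊔ D.L) = Nat.card D.Q * Nat.card D.L := by
  rw [← Nat.card_prod]
  symm
  apply Nat.card_congr
  refine Equiv.ofBijective (fun p : ↥D.Q × ↥D.L => (⟨(p.1 : G) * (p.2 : G),
    (D.Q ⊔ D.L).mul_mem (Subgroup.mem_sup_left p.1.2) (Subgroup.mem_sup_right p.2.2)⟩ :
      ↥(D.Q ⊔ D.L))) ⟨?_, ?_⟩
  · rintro ⟨⟨g, hg⟩, ⟨l, hl⟩⟩ ⟨⟨g', hg'⟩, ⟨l', hl'⟩⟩ h
    have h' : g * l = g' * l' := congrArg Subtype.val h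
    obtain ⟨h1, h2⟩ := decomp_unique hD hg hg' hl hl' h'
    subst h1
    subst h2
    rfl
  · rintro ⟨p, hp⟩
    obtain ⟨g, hg, l, hl, rfl⟩ := (mem_sup_iff hD p).mp hp
    exact ⟨(⟨g, hg⟩, ⟨l, hl⟩), rfl⟩

end basics

section main

/-- **UQ-A1** (L).  Orbit bookkeeping for the `P = Q L`-orbit of a point `ω`. -/
theorem A1 {G : Type*} [Group G] [Finite G] {W : Type*} [AddCommGroup W] [Finite W]
    {A : Type*} [AddCommGroup A] [Finite A] {Ω : Type*} [MulAction G Ω] [Finite Ω]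
    (D : UDat G W A) (hD : D.Ok) (ω : Ω) :
    ∃ (Y : AddSubgroup A) (I : AddSubgroup W) (S : Subgroup G),
      (∀ a, a ∈ Y ↔ D.x a • ω = ω) ∧
      (∀ w, w ∈ I ↔ ∃ g ∈ D.Q, g • ω = ω ∧ D.π g = w) ∧
      (∀ l, l ∈ S ↔ l ∈ D.L ∧ ∃ g ∈ D.Q, (g * l) • ω = ω) ∧
      (∀ w ∈ I, ∀ w' ∈ I, D.β w w' ∈ Y) ∧
      (∀ s ∈ S, ∀ w ∈ I, D.ρ s w ∈ I) ∧
      (∀ s ∈ S, ∀ a ∈ Y, D.ν s a ∈ Y) ∧
      Nat.card (MulAction.orbit ↥(D.Q ⊔ D.L) ω) * (Nat.card Y * Nat.card I) =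
        Nat.card D.Q * ((S ⊔ D.K).relIndex D.L * (S ⊓ D.K).relIndex D.K) := by
  classical
  -- the three objects
  let Y : AddSubgroup A :=
    { carrier := {a | D.x a • ω = ω}
      zero_mem' := by
        show D.x 0 • ω = ω
        rw [x_zero hD, one_smul]
      add_mem' := by
        intro a b ha hb
        show D.x (a + b) • ω = ω
        rw [hD.x_add, mul_smul, hb, ha]
      neg_mem' := by
        intro a ha
        show D.x (-a) • ω = ω
        rw [x_neg hD, inv_smul_eq_iff, ha] }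
  let I : AddSubgroup W :=
    { carrier := {w | ∃ g ∈ D.Q, g • ω = ω ∧ D.π g = w}
      zero_mem' := ⟨1, D.Q.one_mem, one_smul _ _, π_one hD⟩
      add_mem' := by
        rintro _ _ ⟨g, hg, hgω, rfl⟩ ⟨g', hg', hgω', rfl⟩
        exact ⟨g * g', D.Q.mul_mem hg hg', by rw [mul_smul, hgω', hgω], hD.π_mul g hg g' hg'⟩
      neg_mem' := by
        rintro _ ⟨g, hg, hgω, rfl⟩
        exact ⟨g⁻¹, D.Q.inv_mem hg, by rw [inv_smul_eq_iff, hgω], π_inv hD hg⟩ }
  let S : Subgroup G :=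
    { carrier := {l | l ∈ D.L ∧ ∃ g ∈ D.Q, (g * l) • ω = ω}
      one_mem' := ⟨D.L.one_mem, 1, D.Q.one_mem, by rw [mul_one, one_smul]⟩
      mul_mem' := by
        rintro l l' ⟨hl, g, hg, hgl⟩ ⟨hl', g', hg', hgl'⟩
        refine ⟨D.L.mul_mem hl hl', g * (l * g' * l⁻¹),
          D.Q.mul_mem hg (hD.L_conj_mem l hl g' hg'), ?_⟩
        have : g * (l * g' * l⁻¹) * (l * l') = (g * l) * (g' * l') := by group
        rw [this, mul_smul, hgl', hgl]
      inv_mem' := by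
        rintro l ⟨hl, g, hg, hgl⟩
        refine ⟨D.L.inv_mem hl, l⁻¹ * g⁻¹ * (l⁻¹)⁻¹,
          hD.L_conj_mem l⁻¹ (D.L.inv_mem hl) g⁻¹ (D.Q.inv_mem hg), ?_⟩
        have : l⁻¹ * g⁻¹ * (l⁻¹)⁻¹ * l⁻¹ = (g * l)⁻¹ := by group
        rw [this, inv_smul_eq_iff, hgl] }
  have hY : ∀ a, a ∈ Y ↔ D.x a • ω = ω := fun a => Iff.rfl
  have hI : ∀ w, w ∈ I ↔ ∃ g ∈ D.Q, g • ω = ω ∧ D.π g = w := fun w => Iff.rfl
  have hS : ∀ l, l ∈ S ↔ l ∈ D.L ∧ ∃ g ∈ D.Q, (g * l) • ω = ω := fun l => Iff.rfl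
  have hSL : S ≤ D.L := fun l hl => hl.1
  refine ⟨Y, I, S, hY, hI, hS, ?_, ?_, ?_, ?_⟩
  · -- β(I, I) ≤ Y
    rintro _ ⟨b, hb, hbω, rfl⟩ _ ⟨b', hb', hbω', rfl⟩
    show D.x (D.β (D.π b) (D.π b')) • ω = ω
    have h := hD.comm b hb b' hb'
    have h2 : D.x (D.β (D.π b) (D.π b')) = b * b' * (b' * b)⁻¹ := by
      rw [h]
      group
    rw [h2, mul_smul, inv_smul_eq_iff.mpr, mul_smul, hbω', hbω]
    rw [mul_smul, hbω, hbω']
  · -- S normalises I
    rintro s ⟨hs, g, hg, hgs⟩ _ ⟨b, hb, hbω, rfl⟩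
    have hsb : s * b * s⁻¹ ∈ D.Q := hD.L_conj_mem s hs b hb
    refine ⟨g * (s * b * s⁻¹) * g⁻¹, D.Q.mul_mem (D.Q.mul_mem hg hsb) (D.Q.inv_mem hg), ?_, ?_⟩
    · have : g * (s * b * s⁻¹) * g⁻¹ = (g * s) * b * (g * s)⁻¹ := by group
      rw [this, mul_smul, inv_smul_eq_iff.mpr hgs.symm, mul_smul, hbω, hgs]
    · rw [π_conj hD hg hsb, hD.L_conj_π s hs b hb]
  · -- S normalises Y
    rintro s ⟨hs, g, hg, hgs⟩ a ha
    show D.x (D.ν s a) • ω = ω
    have ha' : D.x a • ω = ω := ha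
    have h1 : D.x (D.ν s a) = (g * s) * D.x a * (g * s)⁻¹ := by
      have h2 := hD.L_conj_x s hs a
      have h3 := x_central hD hg (D.ν s a)
      have : (g * s) * D.x a * (g * s)⁻¹ = g * (s * D.x a * s⁻¹) * g⁻¹ := by group
      rw [this, h2, h3]
      group
    rw [h1, mul_smul, inv_smul_eq_iff.mpr hgs.symm, mul_smul, ha', hgs]
  · -- the count
    set M : Subgroup G := MulAction.stabilizer G ω with hM
    have hmemM : ∀ g : G, g ∈ M ↔ g • ω = ω := fun g => MulAction.mem_stabilizer_iff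
    -- orbit-stabiliser
    have horb : Nat.card (MulAction.orbit ↥(D.Q ⊔ D.L) ω) = M.relIndex (D.Q ⊔ D.L) := by
      rw [Nat.card_coe_set_eq, ← MulAction.index_stabilizer]
      have : MulAction.stabilizer ↥(D.Q ⊔ D.L) ω = M.subgroupOf (D.Q ⊔ D.L) := by
        ext g
        rfl
      rw [this]
      rfl
    have h1 : M.relIndex (D.Q ⊔ D.L) * Nat.card ↥(M ⊓ (D.Q ⊔ D.L)) = Nat.card ↥(D.Q ⊔ D.L) :=
      relIndex_mul_card_inf M (D.Q ⊔ D.L)
    -- |M ∩ Q| = |Y| |I|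
    have hMQ : Nat.card ↥(M ⊓ D.Q) = Nat.card Y * Nat.card I := by
      choose t ht using (fun w : I => (hI w.1).mp w.2)
      have hmem : ∀ p : Y × I, D.x (p.1 : A) * t p.2 ∈ M ⊓ D.Q := by
        intro p
        refine ⟨(hmemM _).mpr ?_, D.Q.mul_mem (hD.x_mem _) (ht p.2).1⟩
        rw [mul_smul, (ht p.2).2.1]
        exact p.1.2
      rw [← Nat.card_prod]
      symm
      apply Nat.card_congr
      refine Equiv.ofBijective (fun p : Y × I => (⟨D.x (p.1 : A) * t p.2, hmem p⟩ : ↥(M ⊓ D.Q)))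
        ⟨?_, ?_⟩
      · rintro ⟨a, w⟩ ⟨a', w'⟩ h
        have h' : D.x (a : A) * t w = D.x (a' : A) * t w' := congrArg Subtype.val h
        have hπ := congrArg D.π h'
        rw [hD.π_mul _ (hD.x_mem _) _ (ht w).1, hD.π_mul _ (hD.x_mem _) _ (ht w').1, hD.π_x,
          hD.π_x, zero_add, zero_add, (ht w).2.2, (ht w').2.2] at hπ
        have hw : w = w' := Subtype.ext hπ
        subst hw
        have ha : (a : A) = (a' : A) := x_inj' hD (mul_right_cancel h')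
        have ha' : a = a' := Subtype.ext ha
        subst ha'
        rfl
      · rintro ⟨b, hbM, hbQ⟩
        have hbω : b • ω = ω := (hmemM b).mp hbM
        let w : I := ⟨D.π b, ⟨b, hbQ, hbω, rfl⟩⟩
        have hc : b * (t w)⁻¹ ∈ D.Q := D.Q.mul_mem hbQ (D.Q.inv_mem (ht w).1)
        have hπ : D.π (b * (t w)⁻¹) = 0 := by
          rw [hD.π_mul _ hbQ _ (D.Q.inv_mem (ht w).1), π_inv hD (ht w).1, (ht w).2.2]
          exact add_neg_cancel _
        obtain ⟨a, ha⟩ := hD.π_ker _ hc hπ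
        have haY : a ∈ Y := by
          show D.x a • ω = ω
          rw [← ha, mul_smul, inv_smul_eq_iff.mpr (ht w).2.1.symm, hbω]
        refine ⟨(⟨a, haY⟩, w), Subtype.ext ?_⟩
        show D.x a * t w = b
        rw [← ha]
        group
    -- |M ∩ P| = |M ∩ Q| |S|
    have hMP : Nat.card ↥(M ⊓ (D.Q ⊔ D.L)) = Nat.card ↥(M ⊓ D.Q) * Nat.card S := by
      choose c hc using (fun s : S => ((hS s.1).mp s.2).2)
      have hmem : ∀ p : ↥(M ⊓ D.Q) × S, (p.1 : G) * (c p.2 * (p.2 : G)) ∈ M ⊓ (D.Q ⊔ D.L) := by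
        intro p
        refine ⟨(hmemM _).mpr ?_, ?_⟩
        · rw [mul_smul, (hc p.2).2]
          exact (hmemM _).mp p.1.2.1
        · exact (D.Q ⊔ D.L).mul_mem (Subgroup.mem_sup_left p.1.2.2)
            ((D.Q ⊔ D.L).mul_mem (Subgroup.mem_sup_left (hc p.2).1)
              (Subgroup.mem_sup_right (hSL p.2.2)))
      rw [← Nat.card_prod]
      symm
      apply Nat.card_congr
      refine Equiv.ofBijective
        (fun p : ↥(M ⊓ D.Q) × S => (⟨(p.1 : G) * (c p.2 * (p.2 : G)), hmem p⟩ :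
          ↥(M ⊓ (D.Q ⊔ D.L)))) ⟨?_, ?_⟩
      · rintro ⟨b, s⟩ ⟨b', s'⟩ h
        have h' : (b : G) * (c s * (s : G)) = (b' : G) * (c s' * (s' : G)) :=
          congrArg Subtype.val h
        have h'' : ((b : G) * c s) * (s : G) = ((b' : G) * c s') * (s' : G) := by
          rw [mul_assoc, mul_assoc]
          exact h'
        obtain ⟨e1, e2⟩ := decomp_unique hD (D.Q.mul_mem b.2.2 (hc s).1)
          (D.Q.mul_mem b'.2.2 (hc s').1) (hSL s.2) (hSL s'.2) h''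
        have hs : s = s' := Subtype.ext e2
        subst hs
        have hb : (b : G) = (b' : G) := mul_right_cancel e1
        have hb' : b = b' := Subtype.ext hb
        subst hb'
        rfl
      · rintro ⟨m, hmM, hmP⟩
        have hmω : m • ω = ω := (hmemM m).mp hmM
        obtain ⟨g, hg, l, hl, rfl⟩ := (mem_sup_iff hD m).mp hmP
        let s : S := ⟨l, ⟨hl, g, hg, hmω⟩⟩
        have hbQ : g * (c s)⁻¹ ∈ D.Q := D.Q.mul_mem hg (D.Q.inv_mem (hc s).1)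
        have hbM : g * (c s)⁻¹ ∈ M := by
          have : g * (c s)⁻¹ = (g * l) * (c s * l)⁻¹ := by group
          rw [hmemM, this, mul_smul, inv_smul_eq_iff.mpr (hc s).2.symm, hmω]
        refine ⟨(⟨g * (c s)⁻¹, ⟨hbM, hbQ⟩⟩, s), Subtype.ext ?_⟩
        show g * (c s)⁻¹ * (c s * l) = g * l
        group
    -- [L : S K] [K : S ∩ K] |S| = |L|
    have hL := relIndex_prod D.L D.K S hD.K_le hSL hD.K_normal
    have hP := card_sup hD
    have hSpos : 0 < Nat.card S := Nat.card_pos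
    rw [horb]
    apply Nat.eq_of_mul_eq_mul_right hSpos
    calc M.relIndex (D.Q ⊔ D.L) * (Nat.card Y * Nat.card I) * Nat.card S
        = M.relIndex (D.Q ⊔ D.L) * Nat.card ↥(M ⊓ (D.Q ⊔ D.L)) := by
          rw [hMP, hMQ]; ring
      _ = Nat.card D.Q * Nat.card D.L := by rw [h1, hP]
      _ = Nat.card D.Q * ((S ⊔ D.K).relIndex D.L * (S ⊓ D.K).relIndex D.K) * Nat.card S := by
          rw [← hL]; ring

end main

end Cfsg.Agent.Lib.Helper95_UQ_A1
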