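import Mathlib
import Cfsg.Agent.Lib.Helper94_UQInst
import Cfsg.Agent.Lib.Helper95_UQ_A1

set_option autoImplicit false
set_option linter.unusedSectionVars false
set_option linter.unusedVariables false

/-!
# S2150 local side (architect helper27), package U4-COLLI: a collinear additive subgroup of the hermitian
plane with `q^2 = |F|` elements is a full `F`-line.
-/

open Module Cfsg.Agent.Lib.Helper94_Symp Cfsg.Agent.Lib.Helper94_Herm
  Cfsg.Agent.Lib.Helper94_HermEich Cfsg.Agent.Lib.Helper94_HermPara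
  Cfsg.Agent.Lib.Helper94_HermTrans
  Cfsg.Agent.Lib.Helper13_SUGen Cfsg.Agent.Lib.Helper13_PSUSimple
  Cfsg.Agent.Lib.Helper46_U3TI Cfsg.Agent.Lib.Helper14_PSULocal1
  Cfsg.Agent.Lib.Helper27_UQDefs Cfsg.Agent.Lib.Helper50_UQAbsDefs
  Cfsg.Agent.Lib.Helper94_UQInst

namespace Cfsg.Agent.Lib.Helper10_U4_COLLI

variable {F V : Type*} [Field F] [AddCommGroup V] [Module F V] {σ : F →+* F}
variable {B : V →ₗ[F] V →ₛₗ[σ] F}

/-- generic form: a subset of a line `F u` (`u ≠ 0`) in a module with `|F|` elements is the whole line -/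
theorem line_of_card {W : Type*} [AddCommGroup W] [Module F W] [Finite F] (I : Set W) (u : W) (hu0 : u ≠ 0)
    (hcol : ∀ b ∈ I, ∃ c : F, b = c • u) (hI : Nat.card I = Nat.card F) :
    ∀ w, w ∈ I ↔ ∃ c : F, w = c • u := by
  classical
  have hinj : Function.Injective (fun c : F => c • u) := smul_left_injective F hu0
  have hsub : I ⊆ Set.range (fun c : F => c • u) := by
    intro b hb
    obtain ⟨c, hc⟩ := hcol b hb
    exact ⟨c, hc.symm⟩
  have hfin : (Set.range (fun c : F => c • u)).Finite := Set.finite_range _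
  have hcard : (Set.range (fun c : F => c • u)).ncard = Nat.card F := by
    rw [← Nat.card_coe_set_eq, Nat.card_range_of_injective hinj]
  have hIc : I.ncard = Nat.card F := by
    rw [← Nat.card_coe_set_eq, hI]
  have heq : I = Set.range (fun c : F => c • u) :=
    Set.eq_of_subset_of_ncard_le hsub (by rw [hcard, hIc]) hfin
  intro w
  rw [heq]
  constructor
  · rintro ⟨c, hc⟩
    exact ⟨c, hc.symm⟩
  · rintro ⟨c, hc⟩
    exact ⟨c, hc.symm⟩

theorem COLLI [Finite F] [FiniteDimensional F V] {q : ℕ} (hF : Nat.card F = q ^ 2) {v v' : V}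
    (I : AddSubgroup ↥(Wsub B v v')) (u : ↥(Wsub B v v')) (hu0 : u ≠ 0)
    (hcol : ∀ b ∈ I, ∃ c : F, (b : V) = c • (u : V)) (hI : Nat.card I = q ^ 2) :
    ∀ w, w ∈ I ↔ ∃ c : F, w = c • u := by
  refine line_of_card (I : Set ↥(Wsub B v v')) u hu0 ?_ ?_
  · intro b hb
    obtain ⟨c, hc⟩ := hcol b hb
    exact ⟨c, Subtype.ext hc⟩
  · rw [hF, ← hI]
    rfl

end Cfsg.Agent.Lib.Helper10_U4_COLLI
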