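import Mathlib
import Cfsg.Prelude.Def_GeometricClasses
import Cfsg.Agent.Lib.Helper67_Tens2Defs

/-!
# TENS2 package KR (architect helper67): four small Kronecker facts
-/

set_option autoImplicit false
set_option linter.unusedSectionVars false
set_option linter.unusedVariables false

open Module
open Cfsg.Agent.Lib.Helper94_Symp Cfsg.Agent.Lib.Helper67_Tens2Defs

namespace Cfsg.Agent.Lib.Helper82_T2_KR

/-- KR -/
theorem isKron2_mul {F B : Type*} [Field F] [AddCommGroup B] [Module F B]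
    (g h : (B × B) ≃ₗ[F] (B × B)) (hg : IsKron2 g) (hh : IsKron2 h) : IsKron2 (g * h) := by
  obtain ⟨p, Q, hpQ⟩ := hg
  obtain ⟨p', Q', hpQ'⟩ := hh
  refine ⟨p * p', Q ∘ₗ Q', ?_⟩
  intro u u'
  rw [LinearEquiv.mul_apply, hpQ', hpQ]
  simp only [Matrix.mul_apply, Fin.sum_univ_two, map_add, map_smul, LinearMap.comp_apply]
  ext
  · simp only []
    module
  · simp only []
    module

/-- KR -/
theorem isKron2_lx {F B : Type*} [Field F] [AddCommGroup B] [Module F B] (c : F) :
    IsKron2 (lx (c • (LinearMap.id : B →ₗ[F] B))) := by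
  refine ⟨!![1, 0; c, 1], LinearMap.id, ?_⟩
  intro u u'
  simp [lx_apply, add_comm]

/-- KR -/
theorem isKron2_jE {F B : Type*} [Field F] [AddCommGroup B] [Module F B] :
    IsKron2 (jE : (B × B) ≃ₗ[F] (B × B)) := by
  refine ⟨!![0, 1; -1, 0], LinearMap.id, ?_⟩
  intro u u'
  simp [jE_apply]

/-- KR : a symplectic transvection with centre `(ε, 0)`, `ε ≠ 0`, is not Kronecker (`dim B ≥ 2`) -/
theorem not_isKron2_stv {F B : Type*} [Field F] [AddCommGroup B] [Module F B]
    [FiniteDimensional F B] (β : LinearMap.BilinForm F B) (hs : ∀ u v, β u v = β v u)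
    (hn : β.Nondegenerate) (hb : 2 ≤ finrank F B) (ε : B) (hε : ε ≠ 0) (c : F) (hc : c ≠ 0) :
    ¬ IsKron2 (ux (c • rk1 β ε)) := by
  rintro ⟨p, Q, hpQ⟩
  have h1 : ∀ u : B, u = p 0 0 • Q u := by
    intro u
    have := congrArg Prod.fst (hpQ u 0)
    simpa using this
  have h2 : ∀ u' : B, (c * β u' ε) • ε = p 0 1 • Q u' := by
    intro u'
    have := congrArg Prod.fst (hpQ 0 u')
    simpa [smul_smul] using this
  have h00 : p 0 0 ≠ 0 := by
    intro h0
    apply hε
    have := h1 ε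
    rwa [h0, zero_smul] at this
  have hQ : ∀ u : B, Q u = (p 0 0)⁻¹ • u := by
    intro u
    conv_rhs => rw [h1 u]
    rw [smul_smul, inv_mul_cancel₀ h00, one_smul]
  obtain ⟨u₀, hu₀⟩ : ∃ u₀ : B, β u₀ ε ≠ 0 := by
    by_contra hcon
    push Not at hcon
    exact hε (hn.2 ε hcon)
  by_cases hk : p 0 1 = 0
  · have := h2 u₀
    rw [hk, zero_smul] at this
    rcases smul_eq_zero.mp this with h | h
    · rcases mul_eq_zero.mp h with h | h
      · exact hc h
      · exact hu₀ h
    · exact hε h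
  · have hle : finrank F B ≤ 1 := by
      apply finrank_le_one ε
      intro w
      refine ⟨(p 0 1)⁻¹ * p 0 0 * (c * β w ε), ?_⟩
      rw [← smul_smul, h2 w, hQ w, smul_smul, smul_smul]
      rw [show (p 0 1)⁻¹ * p 0 0 * p 0 1 * (p 0 0)⁻¹ = 1 by field_simp, one_smul]
    omega

end Cfsg.Agent.Lib.Helper82_T2_KR
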