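import Mathlib
import Cfsg.Agent.Lib.Helper67_UT2Defs
import Cfsg.Agent.Lib.Helper82_T2_KR

set_option autoImplicit false
set_option linter.unusedSectionVars false
set_option linter.unusedVariables false

/-!
# UTENS2 package GEN1, conditional form (helper10 for helper67): one transvection
`ux (c₀ • rk1h β ε) ∈ M` gives the full root groups of all `(y, 0)`, `(0, y)`, `y` isotropic,
GIVEN the closure `hss` of `{S | ux S ∈ M}` under the scalars of the fixed field (package SSU).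
-/

open Module
open Cfsg.Agent.Lib.Helper94_Symp Cfsg.Agent.Lib.Helper94_Herm Cfsg.Agent.Lib.Helper13_PSUSimple
  Cfsg.Agent.Lib.Helper94_FrmDefs Cfsg.Agent.Lib.Helper94_HermEich
  Cfsg.Agent.Lib.Helper67_Tens2Defs Cfsg.Agent.Lib.Helper67_UT2Defs
  Cfsg.Agent.Lib.Helper94_UDDefs

namespace Cfsg.Agent.Lib.Helper10_UT2_GEN1a

variable {F W : Type*} [Field F] [Finite F] [AddCommGroup W] [Module F W] [FiniteDimensional F W]
variable {σ : F →+* F} {β : W →ₗ[F] W →ₛₗ[σ] F}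

/-- the coefficient of a transvection `ux (c₀ • rk1h β ε)` of the unitary group is skew -/
theorem skew_of_ux_rk1h (hσ : Invol σ) (hβ : IsHerm β) (hN : NondegOn β ⊤)
    (ε : W) (hε0 : ε ≠ 0) (c₀ : F) (h : ux (c₀ • rk1h β ε) ∈ uG (uf β)) : σ c₀ = -c₀ := by
  obtain ⟨v, -, hv⟩ := hN ε trivial hε0
  have hv' : β v ε ≠ 0 := herm_ne_zero hσ hβ hv
  have h1 := skew_of_ux_mem _ h v v
  simp only [LinearMap.smul_apply, rk1h_apply, map_smul, map_smulₛₗ, smul_eq_mul] at h1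
  rw [← hβ v ε] at h1
  have h2 : (c₀ + σ c₀) * (β v ε * β ε v) = 0 := by linear_combination h1
  rcases mul_eq_zero.mp h2 with h3 | h3
  · linear_combination h3
  · exact absurd h3 (mul_ne_zero hv' hv)

/-- `(ε, 0)` has its full root group in `M` -/
theorem left_mem_UU (hσ : Invol σ) (hβ : IsHerm β) (hN : NondegOn β ⊤)
    (M : Subgroup ((W × W) ≃ₗ[F] (W × W))) (hM : HypU β M)
    (hss : ∀ S : W →ₗ[F] W, ux S ∈ M → ∀ c : F, σ c = c → ux (c • S) ∈ M)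
    (ε : W) (hε0 : ε ≠ 0) (c₀ : F) (hc₀ : c₀ ≠ 0)
    (h : ux (c₀ • rk1h β ε) ∈ M) : (ε, (0 : W)) ∈ UU (uf β) M := by
  have hsk : σ c₀ = -c₀ :=
    skew_of_ux_rk1h hσ hβ hN ε hε0 c₀ (SUg_le_uG (hM.le h))
  refine ⟨by simp, fun c hc => ?_⟩
  rw [← ux_rk1h]
  have h1 := hss _ h (c / c₀) (by rw [map_div₀, hc, hsk, neg_div_neg_eq])
  rwa [smul_smul, div_mul_cancel₀ c hc₀] at h1

/-- GEN1, given the closure `hss` under the scalars of the fixed field -/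
theorem uu_iso_of (hσ : Invol σ) (hβ : IsHerm β) (hN : NondegOn β ⊤) (h3 : 3 ≤ finrank F W)
    (M : Subgroup ((W × W) ≃ₗ[F] (W × W))) (hM : HypU β M)
    (hss : ∀ S : W →ₗ[F] W, ux S ∈ M → ∀ c : F, σ c = c → ux (c • S) ∈ M)
    (ε : W) (hε0 : ε ≠ 0) (hε : β ε ε = 0) (c₀ : F) (hc₀ : c₀ ≠ 0)
    (h : ux (c₀ • rk1h β ε) ∈ M) :
    ∀ y : W, β y y = 0 → ((y, (0 : W)) ∈ UU (uf β) M ∧ ((0 : W), y) ∈ UU (uf β) M) := by
  have hMu : M ≤ uG (uf β) := fun g hg => SUg_le_uG (hM.le hg)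
  have hε1 := left_mem_UU hσ hβ hN M hM hss ε hε0 c₀ hc₀ h
  have hleft : ∀ y : W, β y y = 0 → (y, (0 : W)) ∈ UU (uf β) M := by
    intro y hy
    by_cases hy0 : y = 0
    · rw [hy0]
      exact UU_zero M
    · obtain ⟨Q, hQ, hQε⟩ :=
        Cfsg.Agent.Lib.Helper27_UQ_GEN.SUg_trans_iso hσ hβ hN h3 hε0 hy0 hε hy
      have h1 := UU_map hMu (hM.oE_mem Q hQ) hε1
      rwa [oE_apply, hQε, map_zero] at h1
  intro y hy
  refine ⟨hleft y hy, ?_⟩
  obtain ⟨ζ, hζ0, hζ⟩ := exists_skew hσ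
  have h1 := UU_map hMu (hM.jU_mem (Units.mk0 ζ hζ0) hζ) (hleft y hy)
  rw [jU_apply] at h1
  have h2 := UU_smul hσ h1 (-ζ)
  have e : (-ζ) • ((((Units.mk0 ζ hζ0 : Fˣ) : F)) • (0 : W),
      -((((Units.mk0 ζ hζ0)⁻¹ : Fˣ) : F) • y)) = ((0 : W), y) := by
    ext
    · simp
    · simp [smul_smul, hζ0]
  rwa [e] at h2

end Cfsg.Agent.Lib.Helper10_UT2_GEN1a
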