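import Mathlib
import Cfsg.Agent.Lib.Helper67_UT2Defs
import Cfsg.Agent.Lib.Helper82_T2_KR

set_option autoImplicit false
set_option linter.unusedSectionVars false
set_option linter.unusedVariables false

/-!
# UTENS2 package SSU (architect helper67): the set `{S | ux S ∈ M}` is closed under the scalars of
the fixed field of `σ` (all characteristics) and under conjugation by `SU(β)`.
-/

open Module
open Cfsg.Agent.Lib.Helper94_Symp Cfsg.Agent.Lib.Helper94_Herm Cfsg.Agent.Lib.Helper13_PSUSimple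
  Cfsg.Agent.Lib.Helper94_FrmDefs Cfsg.Agent.Lib.Helper94_HermEich
  Cfsg.Agent.Lib.Helper67_Tens2Defs Cfsg.Agent.Lib.Helper67_UT2Defs

namespace Cfsg.Agent.Lib.Helper31_UT2_SSU

variable {F W : Type*} [Field F] [Finite F] [AddCommGroup W] [Module F W] [FiniteDimensional F W]
variable {σ : F →+* F} {β : W →ₗ[F] W →ₛₗ[σ] F}

/-- `{S | ux S ∈ M}` is closed under the squares of the fixed field -/
theorem ss_sq (M : Subgroup ((W × W) ≃ₗ[F] (W × W))) (hM : HypU β M)
    (S : W →ₗ[F] W) (hS : ux S ∈ M) (a : F) (ha : σ a = a) : ux ((a * a) • S) ∈ M := by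
  by_cases ha0 : a = 0
  · rw [ha0, mul_zero, zero_smul, ux_zero]
    exact M.one_mem
  · have hE : hE (Units.mk0 a ha0) ∈ M := hM.hE_mem (Units.mk0 a ha0) ha
    have h1 := M.mul_mem (M.mul_mem hE hS) (M.inv_mem hE)
    rw [hE_conj_ux] at h1
    exact h1

/-- SSU : the set `{S | ux S ∈ M}` is closed under the scalars of the fixed field -/
theorem ss_smul (hσ : Invol σ) (M : Subgroup ((W × W) ≃ₗ[F] (W × W))) (hM : HypU β M)
    (S : W →ₗ[F] W) (hS : ux S ∈ M) (c : F) (hc : σ c = c) : ux (c • S) ∈ M := by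
  by_cases h2 : (2 : F) = 0
  · -- characteristic two: `c` is the square of a fixed element
    have hchar : ringChar F = 2 :=
      CharP.ringChar_of_prime_eq_zero Nat.prime_two (by exact_mod_cast h2)
    obtain ⟨a, ha⟩ := FiniteField.isSquare_of_char_two hchar c
    have hsa : σ a * σ a = a * a := by rw [← map_mul, ← ha, hc]
    have hd : (σ a - a) * (σ a - a) = 0 := by
      have : (σ a - a) * (σ a - a) = σ a * σ a + a * a - 2 * (σ a * a) := by ring
      rw [this, hsa, h2, zero_mul, sub_zero, ← two_mul, h2, zero_mul]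
    have hfix : σ a = a := by
      have := mul_self_eq_zero.mp hd
      exact sub_eq_zero.mp this
    rw [ha]
    exact ss_sq M hM S hS a hfix
  · have h2' : σ 2 = 2 := map_ofNat σ 2
    have hp : σ ((c + 1) / 2) = (c + 1) / 2 := by
      rw [map_div₀, map_add, map_one, hc, h2']
    have hm : σ ((c - 1) / 2) = (c - 1) / 2 := by
      rw [map_div₀, map_sub, map_one, hc, h2']
    have hcS : c • S = (((c + 1) / 2) * ((c + 1) / 2)) • S
        + -((((c - 1) / 2) * ((c - 1) / 2)) • S) := by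
      rw [← sub_eq_add_neg, ← sub_smul]
      congr 1
      field_simp
      ring
    rw [hcS, ← ux_mul, ← ux_inv]
    exact M.mul_mem (ss_sq M hM S hS _ hp) (M.inv_mem (ss_sq M hM S hS _ hm))

/-- SSU : the set `{S | ux S ∈ M}` is closed under conjugation by `SU(β)` -/
theorem ss_conj (M : Subgroup ((W × W) ≃ₗ[F] (W × W))) (hM : HypU β M)
    (S : W →ₗ[F] W) (hS : ux S ∈ M) (Q : W ≃ₗ[F] W) (hQ : Q ∈ SUg β) :
    ux ((Q : W →ₗ[F] W) ∘ₗ S ∘ₗ (Q.symm : W →ₗ[F] W)) ∈ M := by
  rw [← oE_conj_ux]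
  exact M.mul_mem (M.mul_mem (hM.oE_mem Q hQ) hS) (M.inv_mem (hM.oE_mem Q hQ))

end Cfsg.Agent.Lib.Helper31_UT2_SSU
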