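import Mathlib
import Cfsg.Agent.Lib.Helper67_UT2Defs
import Cfsg.Agent.Lib.Helper82_T2_KR
import Cfsg.Agent.Lib.Helper31_UT2_SSU
import Cfsg.Agent.Lib.Helper10_UT2_GEN1a

set_option autoImplicit false
set_option linter.unusedSectionVars false
set_option linter.unusedVariables false

/-!
# UTENS2 package GEN1 (helper10 for helper67): one transvection `ux (c₀ • rk1h β ε) ∈ M` gives
the full root groups of all `(y, 0)`, `(0, y)`, `y` isotropic.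
-/

open Module
open Cfsg.Agent.Lib.Helper94_Symp Cfsg.Agent.Lib.Helper94_Herm Cfsg.Agent.Lib.Helper13_PSUSimple
  Cfsg.Agent.Lib.Helper94_FrmDefs Cfsg.Agent.Lib.Helper94_HermEich
  Cfsg.Agent.Lib.Helper67_Tens2Defs Cfsg.Agent.Lib.Helper67_UT2Defs

namespace Cfsg.Agent.Lib.Helper10_UT2_GEN1

variable {F W : Type*} [Field F] [Finite F] [AddCommGroup W] [Module F W] [FiniteDimensional F W]
variable {σ : F →+* F} {β : W →ₗ[F] W →ₛₗ[σ] F}

/-- GEN1 : one transvection `ux (c₀ • rk1h β ε) ∈ M` gives the full root groups of all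
`(y, 0)`, `(0, y)`, `y` isotropic -/
theorem uu_iso (hσ : Invol σ) (hβ : IsHerm β) (hN : NondegOn β ⊤) (h3 : 3 ≤ finrank F W)
    (M : Subgroup ((W × W) ≃ₗ[F] (W × W))) (hM : HypU β M)
    (ε : W) (hε0 : ε ≠ 0) (hε : β ε ε = 0) (c₀ : F) (hc₀ : c₀ ≠ 0)
    (h : ux (c₀ • rk1h β ε) ∈ M) :
    ∀ y : W, β y y = 0 → ((y, (0 : W)) ∈ UU (uf β) M ∧ ((0 : W), y) ∈ UU (uf β) M) :=
  Cfsg.Agent.Lib.Helper10_UT2_GEN1a.uu_iso_of hσ hβ hN h3 M hM
    (fun S hS c hc => Cfsg.Agent.Lib.Helper31_UT2_SSU.ss_smul hσ M hM S hS c hc)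
    ε hε0 hε c₀ hc₀ h

end Cfsg.Agent.Lib.Helper10_UT2_GEN1
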