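import Mathlib
import Cfsg.Agent.Lib.Helper67_UT2Defs
import Cfsg.Agent.Lib.Helper82_T2_KR

set_option autoImplicit false
set_option linter.unusedSectionVars false
set_option linter.unusedVariables false

/-!
# UTENS2 package RSA2 (helper10 for helper67): a `twh` element of the root subgroup
`{S | ux S ∈ M}` yields a rank one element (Eichler conjugation).
-/

open Module
open Cfsg.Agent.Lib.Helper94_Symp Cfsg.Agent.Lib.Helper94_Herm Cfsg.Agent.Lib.Helper13_PSUSimple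
  Cfsg.Agent.Lib.Helper94_FrmDefs Cfsg.Agent.Lib.Helper94_HermEich
  Cfsg.Agent.Lib.Helper67_Tens2Defs Cfsg.Agent.Lib.Helper67_UT2Defs

namespace Cfsg.Agent.Lib.Helper10_UT2_RSA2

variable {F W : Type*} [Field F] [Finite F] [AddCommGroup W] [Module F W] [FiniteDimensional F W]
variable {σ : F →+* F} {β : W →ₗ[F] W →ₛₗ[σ] F}

/-- conjugating `twh β y w` by an isometry -/
theorem conj_twh (Q : W ≃ₗ[F] W) (hQ : Q ∈ uG β) (y w : W) :
    (Q : W →ₗ[F] W) ∘ₗ twh β y w ∘ₗ (Q.symm : W →ₗ[F] W) = twh β (Q y) (Q w) := by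
  apply LinearMap.ext
  intro v
  simp only [LinearMap.comp_apply, LinearEquiv.coe_coe, twh_apply, map_add, map_smul]
  have h1 : ∀ a : W, β (Q.symm v) a = β v (Q a) := by
    intro a
    have := hQ (Q.symm v) a
    rw [LinearEquiv.apply_symm_apply] at this
    exact this.symm
  rw [h1, h1]

/-- `twh β y (w - μ y) = twh β y w - (μ + σ μ) P_y` -/
theorem twh_sub_smul (y w : W) (μ : F) :
    twh β y (w - μ • y) = twh β y w - (μ + σ μ) • rk1h β y := by
  apply LinearMap.ext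
  intro v
  simp only [twh_apply, LinearMap.sub_apply, LinearMap.smul_apply, rk1h_apply, map_sub,
    map_smulₛₗ, smul_eq_mul]
  module

/-- the set `{S | ux S ∈ M}` is closed under differences -/
theorem ux_sub_mem (M : Subgroup ((W × W) ≃ₗ[F] (W × W))) (S S' : W →ₗ[F] W)
    (hS : ux S ∈ M) (hS' : ux S' ∈ M) : ux (S - S') ∈ M := by
  have h1 : ux (S - S') = ux S * (ux S')⁻¹ := by
    rw [ux_inv, ux_mul, sub_eq_add_neg]
  rw [h1]
  exact M.mul_mem hS (M.inv_mem hS')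

/-- closure of `{S | ux S ∈ M}` under conjugation by `SU(β)` (the SSU fact `ss_conj`) -/
theorem conj_mem (M : Subgroup ((W × W) ≃ₗ[F] (W × W))) (hM : HypU β M)
    (S : W →ₗ[F] W) (hS : ux S ∈ M) (Q : W ≃ₗ[F] W) (hQ : Q ∈ SUg β) :
    ux ((Q : W →ₗ[F] W) ∘ₗ S ∘ₗ (Q.symm : W →ₗ[F] W)) ∈ M := by
  rw [← oE_conj_ux]
  exact M.mul_mem (M.mul_mem (hM.oE_mem Q hQ) hS) (M.inv_mem (hM.oE_mem Q hQ))

/-- a vector `z ⊥ y` with `β w z ≠ 0` -/
theorem exists_perp (hσ : Invol σ) (hβ : IsHerm β) (hN : NondegOn β ⊤)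
    (y w : W) (hy0 : y ≠ 0) (hw : w ∉ Submodule.span F {y}) :
    ∃ z : W, β z y = 0 ∧ β w z ≠ 0 := by
  obtain ⟨f, -, hf⟩ := hN y trivial hy0
  have hf' : β f y ≠ 0 := herm_ne_zero hσ hβ hf
  set w' := w - (β w f / β y f) • y with hw'
  have hw'0 : w' ≠ 0 := by
    intro h0
    apply hw
    rw [Submodule.mem_span_singleton]
    exact ⟨β w f / β y f, (sub_eq_zero.mp h0).symm⟩
  obtain ⟨z1, -, hz1⟩ := hN w' trivial hw'0
  refine ⟨z1 - (β z1 y / β f y) • f, ?_, ?_⟩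
  · simp only [map_sub, map_smul, LinearMap.sub_apply, LinearMap.smul_apply, smul_eq_mul]
    field_simp
    ring
  · intro h0
    apply hz1
    rw [hw']
    simp only [map_sub, map_smul, map_smulₛₗ, LinearMap.sub_apply, LinearMap.smul_apply,
      smul_eq_mul] at h0 ⊢
    rw [map_div₀, ← hβ f y, ← hβ z1 y] at h0
    rw [← h0]
    ring

/-- RSA2 : a `twh` element yields a rank one element (Eichler conjugation) -/
theorem rsa2 (hσ : Invol σ) (hβ : IsHerm β) (hN : NondegOn β ⊤)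
    (M : Subgroup ((W × W) ≃ₗ[F] (W × W))) (hM : HypU β M)
    (y w : W) (hy0 : y ≠ 0) (hy : β y y = 0) (hwy : β w y = 0)
    (hw : w ∉ Submodule.span F {y}) (s : F) (hs0 : s ≠ 0) (hs : σ s = -s)
    (h : ux (s • twh β y w) ∈ M) : ∃ c : F, c ≠ 0 ∧ ux (c • rk1h β y) ∈ M := by
  obtain ⟨z0, hz0y, hwz0⟩ := exists_perp hσ hβ hN y w hy0 hw
  obtain ⟨t, ht⟩ := exists_tr_ne_zero hσ
  -- `z = θ • z0` with `Tr (β w z) ≠ 0`
  set θ : F := σ (t / β w z0) with hθ
  set z : W := θ • z0 with hz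
  have hzy : β z y = 0 := by
    rw [hz, map_smul, LinearMap.smul_apply, hz0y, smul_zero]
  have hyz : β y z = 0 := herm_eq_zero hβ hzy
  have hμ : β w z = t := by
    rw [hz, map_smulₛₗ, smul_eq_mul, hθ, hσ.invol]
    field_simp
  obtain ⟨γ, hγ⟩ := tr_surj hσ (-(β z z)) (by rw [map_neg, herm_self hβ])
  have hρ : eich β y z γ ∈ SUg β := Cfsg.Agent.Lib.Helper14_PSULocal1.eich_mem_SUg hβ hγ
  have hρu : eich β y z γ ∈ uG β := (mem_SUg.mp hρ).1
  have e1 : eich β y z γ y = y := by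
    rw [eich_apply β hy hzy hyz]
    simp only [hy, hyz, zero_smul, mul_zero, add_zero, sub_zero]
  have e2 : eich β y z γ w = w - t • y := by
    rw [eich_apply β hy hzy hyz]
    simp only [hwy, hμ, zero_smul, mul_zero, add_zero]
  have h1 := conj_mem M hM _ h _ hρ
  have h2 : ((eich β y z γ : W ≃ₗ[F] W) : W →ₗ[F] W) ∘ₗ (s • twh β y w) ∘ₗ
      ((eich β y z γ).symm : W →ₗ[F] W) = s • twh β y w - (s * (t + σ t)) • rk1h β y := by
    rw [LinearMap.smul_comp, LinearMap.comp_smul, conj_twh _ hρu, e1, e2, twh_sub_smul,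
      smul_sub, smul_smul]
  rw [h2] at h1
  have h3 := ux_sub_mem M _ _ h h1
  rw [sub_sub_cancel] at h3
  exact ⟨s * (t + σ t), mul_ne_zero hs0 ht, h3⟩

end Cfsg.Agent.Lib.Helper10_UT2_RSA2
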