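import Mathlib
import Cfsg.Agent.Lib.Helper97_TensDefs

set_option autoImplicit false
set_option linter.unusedSectionVars false
set_option linter.unusedVariables false

namespace Cfsg.Agent.Lib.Helper73_Tens_TP2

open Matrix
open Cfsg.Agent.Lib.Helper98_ExtDefs Cfsg.Agent.Lib.Helper97_TensDefs

variable {F : Type*} [Field F] {ι κ : Type*} [Fintype ι] [Fintype κ] [DecidableEq ι] [DecidableEq κ]

/-- a square matrix for which every vector is an eigenvector is a scalar matrix -/
theorem scalar_of_forall_eigen (P : Matrix ι ι F) (h : ∀ x : ι → F, ∃ a : F, P *ᵥ x = a • x) :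
    ∃ a : F, P = a • (1 : Matrix ι ι F) := by
  rcases isEmpty_or_nonempty ι with hE | hN
  · exact ⟨0, Subsingleton.elim _ _⟩
  · obtain ⟨i0⟩ := hN
    choose a ha using fun i => h (Pi.single i 1)
    have hP : ∀ i j, P i j = a j * (Pi.single j (1 : F) : ι → F) i := by
      intro i j
      have := congrFun (ha j) i
      rw [mulVec_single_one] at this
      simpa using this
    have haa : ∀ i j, a i = a j := by
      intro i j
      by_cases hij : i = j
      · rw [hij]
      · obtain ⟨μ, hμ⟩ := h (Pi.single i 1 + Pi.single j 1)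
        rw [mulVec_add, mulVec_single_one, mulVec_single_one] at hμ
        have h1 := congrFun hμ i
        have h2 := congrFun hμ j
        simp only [Pi.add_apply, Pi.smul_apply, smul_eq_mul, col_apply] at h1 h2
        rw [hP i i, hP i j] at h1
        rw [hP j i, hP j j] at h2
        simp [hij, Ne.symm hij] at h1 h2
        rw [h1, h2]
    refine ⟨a i0, ?_⟩
    ext i j
    rw [hP i j, haa j i0]
    simp [Pi.single_apply, Matrix.one_apply]


/-- **TP2**.  A Kronecker map `1 + c` with `rank c ≤ a < b`: `c = 0` or `range c` is a fibre. -/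
theorem fiber_of_kron_rank (hab : Fintype.card ι < Fintype.card κ)
    (g : Matrix ι κ F ≃ₗ[F] Matrix ι κ F) (hg : IsKron g)
    (c : Matrix ι κ F →ₗ[F] Matrix ι κ F) (hgc : ∀ X, g X = X + c X)
    (hrank : Module.finrank F (LinearMap.range c) ≤ Fintype.card ι) :
    c = 0 ∨ IsFiber (LinearMap.range c) := by
  obtain ⟨P, Q, hPQ⟩ := hg
  rcases isEmpty_or_nonempty ι with hE | hNe
  · left
    exact LinearMap.ext fun X => Subsingleton.elim _ _
  have hcard : 1 ≤ Fintype.card ι := Fintype.card_pos
  have hc : ∀ X, c X = P * X * Qᵀ - X := fun X => by rw [← hPQ, hgc]; abel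
  -- Step 1: every vector is an eigenvector of `P`
  have hPx : ∀ x : ι → F, ∃ a : F, P *ᵥ x = a • x := by
    intro x
    by_contra hcon
    push Not at hcon
    let φ : (κ → F) →ₗ[F] Matrix ι κ F := c ∘ₗ (vecMulVecBilin F F x)
    have hφ : ∀ z, φ z = vecMulVec (P *ᵥ x) (Q *ᵥ z) - vecMulVec x z := by
      intro z
      show c (vecMulVec x z) = _
      rw [hc, mul_vecMulVec, vecMulVec_mul, vecMul_transpose]
    have hinj : Function.Injective φ := by
      rw [← LinearMap.ker_eq_bot, LinearMap.ker_eq_bot']
      intro z hz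
      by_contra hz0
      obtain ⟨k, hk⟩ : ∃ k, z k ≠ 0 := by
        by_contra h
        push Not at h
        exact hz0 (funext h)
      rw [hφ, sub_eq_zero] at hz
      have hent : ∀ i, (P *ᵥ x) i * (Q *ᵥ z) k = x i * z k := fun i => by
        have := congrFun (congrFun hz i) k
        simpa [vecMulVec_apply] using this
      have hx : x = ((Q *ᵥ z) k / z k) • (P *ᵥ x) := by
        ext i
        simp only [Pi.smul_apply, smul_eq_mul]
        field_simp
        rw [← hent i]
        ring
      by_cases hs0 : (Q *ᵥ z) k / z k = 0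
      · rw [hs0, zero_smul] at hx
        exact hcon 0 (by rw [hx]; simp)
      · refine hcon ((Q *ᵥ z) k / z k)⁻¹ ?_
        conv_rhs => rw [hx]
        rw [smul_smul, inv_mul_cancel₀ hs0, one_smul]
    have h1 : Fintype.card κ ≤ Module.finrank F (LinearMap.range c) := by
      have hle : LinearMap.range φ ≤ LinearMap.range c := LinearMap.range_comp_le_range _ _
      calc Fintype.card κ = Module.finrank F (κ → F) := (Module.finrank_fintype_fun_eq_card F).symm
        _ = Module.finrank F (LinearMap.range φ) := (LinearMap.finrank_range_of_inj hinj).symm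
        _ ≤ _ := Submodule.finrank_mono hle
    omega
  obtain ⟨a, rfl⟩ := scalar_of_forall_eigen P hPx
  -- Step 2: `c X = X * N`
  set N : Matrix κ κ F := a • Qᵀ - 1 with hN
  have hcN : ∀ X, c X = X * N := by
    intro X
    rw [hc, hN, Matrix.mul_sub, Matrix.mul_one, Matrix.mul_smul, Matrix.smul_mul, Matrix.one_mul,
      Matrix.smul_mul]
  by_cases hN0 : N = 0
  · left
    ext X : 1
    rw [hcN, hN0, Matrix.mul_zero, LinearMap.zero_apply]
  right
  obtain ⟨k0, hk0⟩ : ∃ k0, N k0 ≠ 0 := by
    by_contra h
    push Not at h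
    exact hN0 (funext h)
  -- Step 3: all rows of `N` are multiples of the row `N k0`
  have hcsingle : ∀ (u : ι → F) (k : κ), c (vecMulVec u (Pi.single k 1)) = vecMulVec u (N k) := by
    intro u k
    rw [hcN, vecMulVec_mul, single_one_vecMul]
    rfl
  have hrows : ∀ k, ∃ b : F, N k = b • N k0 := by
    intro k1
    by_contra hcon
    push Not at hcon
    let ψ : ((ι → F) × (ι → F)) →ₗ[F] Matrix ι κ F :=
      c ∘ₗ (LinearMap.coprod ((vecMulVecBilin F F).flip (Pi.single k0 1))
        ((vecMulVecBilin F F).flip (Pi.single k1 1)))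
    have hψ : ∀ p : (ι → F) × (ι → F), ψ p = vecMulVec p.1 (N k0) + vecMulVec p.2 (N k1) := by
      intro p
      show c (vecMulVec p.1 (Pi.single k0 1) + vecMulVec p.2 (Pi.single k1 1)) = _
      rw [map_add, hcsingle, hcsingle]
    have hinj : Function.Injective ψ := by
      rw [← LinearMap.ker_eq_bot, LinearMap.ker_eq_bot']
      intro p hp
      rw [hψ] at hp
      have hrow : ∀ i, p.1 i • N k0 + p.2 i • N k1 = 0 := by
        intro i
        ext l
        have := congrFun (congrFun hp i) l
        simpa [vecMulVec_apply] using this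
      have h2 : ∀ i, p.2 i = 0 := by
        intro i
        by_contra h2
        refine hcon (-(p.1 i / p.2 i)) ?_
        have := hrow i
        have h3 : N k1 = (p.2 i)⁻¹ • (p.2 i • N k1) := by
          rw [smul_smul, inv_mul_cancel₀ h2, one_smul]
        rw [h3, eq_neg_of_add_eq_zero_right this, smul_neg, smul_smul, neg_smul]
        congr 2
        field_simp
      have h1 : ∀ i, p.1 i = 0 := by
        intro i
        have := hrow i
        rw [h2 i, zero_smul, add_zero] at this
        rcases smul_eq_zero.mp this with h | h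
        · exact h
        · exact absurd h hk0
      ext i
      · exact h1 i
      · exact h2 i
    have h1 : 2 * Fintype.card ι ≤ Module.finrank F (LinearMap.range c) := by
      have hle : LinearMap.range ψ ≤ LinearMap.range c := LinearMap.range_comp_le_range _ _
      calc 2 * Fintype.card ι = Module.finrank F ((ι → F) × (ι → F)) := by
            rw [Module.finrank_prod, Module.finrank_fintype_fun_eq_card]; ring
        _ = Module.finrank F (LinearMap.range ψ) := (LinearMap.finrank_range_of_inj hinj).symm
        _ ≤ _ := Submodule.finrank_mono hle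
    omega
  choose b hb using hrows
  obtain ⟨y, hy0, hNb⟩ : ∃ y : κ → F, y ≠ 0 ∧ N = vecMulVec b y := by
    refine ⟨N k0, hk0, ?_⟩
    ext k l
    rw [vecMulVec_apply, hb k]
    simp
  have hb0 : b ≠ 0 := by
    rintro rfl
    apply hN0
    rw [hNb]
    simp
  obtain ⟨k, hk⟩ : ∃ k, b k ≠ 0 := by
    by_contra h
    push Not at h
    exact hb0 (funext h)
  refine ⟨y, hy0, ?_⟩
  ext Z
  rw [LinearMap.mem_range, mem_fiber]
  constructor
  · rintro ⟨X, rfl⟩
    exact ⟨X *ᵥ b, by rw [hcN, hNb, mul_vecMulVec]⟩
  · rintro ⟨x, rfl⟩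
    refine ⟨vecMulVec ((b k)⁻¹ • x) (Pi.single k 1), ?_⟩
    rw [hcN, hNb, mul_vecMulVec, vecMulVec_mulVec, single_one_dotProduct]
    congr 1
    ext i
    simp only [Pi.smul_apply, smul_eq_mul, MulOpposite.smul_eq_mul_unop, MulOpposite.unop_op]
    field_simp

end Cfsg.Agent.Lib.Helper73_Tens_TP2
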