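import Mathlib
import Cfsg.Agent.Lib.Helper97_TensDefs
import Cfsg.Agent.Lib.Helper73_Tens_TP2

set_option autoImplicit false
set_option linter.unusedSectionVars false
set_option linter.unusedVariables false

namespace Cfsg.Agent.Lib.Helper73_Tens_TP1

open Matrix
open Cfsg.Agent.Lib.Helper98_ExtDefs Cfsg.Agent.Lib.Helper97_TensDefs
open Cfsg.Agent.Lib.Helper73_Tens_TP2

variable {F : Type*} [Field F] {ι κ : Type*} [Fintype ι] [Fintype κ] [DecidableEq ι] [DecidableEq κ]

/-- every matrix is the sum of its columns times the standard basis vectors -/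
theorem eq_sum_col (X : Matrix ι κ F) :
    X = ∑ k, vecMulVec (fun i => X i k) (Pi.single k (1 : F)) := by
  ext i m
  rw [Matrix.sum_apply]
  simp [vecMulVec_apply, Pi.single_apply]

/-- **TP1**.  An automorphism mapping every fibre onto a fibre is Kronecker. -/
theorem isKron_of_fibers (g : Matrix ι κ F ≃ₗ[F] Matrix ι κ F)
    (h : ∀ y : κ → F, y ≠ 0 → IsFiber ((fiber y).map g.toLinearMap)) : IsKron g := by
  rcases isEmpty_or_nonempty ι with hE | ⟨⟨i0⟩⟩
  · exact ⟨0, 0, fun X => Subsingleton.elim _ _⟩
  rcases isEmpty_or_nonempty κ with hE | ⟨⟨k0⟩⟩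
  · exact ⟨0, 0, fun X => Subsingleton.elim _ _⟩
  have he : ∀ k : κ, (Pi.single k (1 : F) : κ → F) ≠ 0 := fun k hk =>
    one_ne_zero (α := F) (by simpa using congrFun hk k)
  choose z hz0 hzmap using fun k => h (Pi.single k 1) (he k)
  have hm : ∀ k, ∃ m, z k m ≠ 0 := by
    intro k
    by_contra hcon
    push Not at hcon
    exact hz0 k (funext hcon)
  choose m hm using hm
  have ha : ∀ k x, ∃ w, g (vecMulVec x (Pi.single k 1)) = vecMulVec w (z k) := by
    intro k x
    have hmem : g (vecMulVec x (Pi.single k 1)) ∈ (fiber (Pi.single k 1)).map g.toLinearMap :=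
      Submodule.mem_map_of_mem (f := g.toLinearMap) ⟨x, rfl⟩
    rw [hzmap k] at hmem
    exact hmem
  have hb : ∀ k w, ∃ x, g (vecMulVec x (Pi.single k 1)) = vecMulVec w (z k) := by
    intro k w
    have hmem : vecMulVec w (z k) ∈ fiber (ι := ι) (z k) := ⟨w, rfl⟩
    rw [← hzmap k] at hmem
    obtain ⟨X, ⟨x, rfl⟩, hX⟩ := hmem
    exact ⟨x, hX⟩
  have cancel : ∀ k (w w' : ι → F), vecMulVec w (z k) = vecMulVec w' (z k) → w = w' := by
    intro k w w' hww
    ext i
    have := congrFun (congrFun hww i) (m k)
    rw [vecMulVec_apply, vecMulVec_apply] at this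
    exact mul_right_cancel₀ (hm k) this
  -- the linear maps `T k`
  let T : κ → ((ι → F) →ₗ[F] (ι → F)) := fun k =>
    { toFun := fun x i => g (vecMulVec x (Pi.single k 1)) i (m k) / z k (m k)
      map_add' := by
        intro x x'
        ext i
        simp only [add_vecMulVec, map_add, Matrix.add_apply, Pi.add_apply, add_div]
      map_smul' := by
        intro c x
        ext i
        simp only [smul_vecMulVec, map_smul, Matrix.smul_apply, Pi.smul_apply, smul_eq_mul,
          RingHom.id_apply, mul_div_assoc] }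
  have hTdef : ∀ k x i, T k x i = g (vecMulVec x (Pi.single k 1)) i (m k) / z k (m k) :=
    fun k x i => rfl
  have hT : ∀ k x, g (vecMulVec x (Pi.single k 1)) = vecMulVec (T k x) (z k) := by
    intro k x
    obtain ⟨w, hw⟩ := ha k x
    rw [hw]
    congr 1
    ext i
    rw [hTdef, hw, vecMulVec_apply, mul_div_cancel_right₀ _ (hm k)]
  have hTsurj : ∀ k w, ∃ x, T k x = w := by
    intro k w
    obtain ⟨x, hx⟩ := hb k w
    exact ⟨x, cancel k _ _ (by rw [← hT, hx])⟩
  have hTinj : ∀ k x, T k x = 0 → x = 0 := by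
    intro k x hx
    have h1 := hT k x
    rw [hx, zero_vecMulVec] at h1
    have h0 : vecMulVec x (Pi.single k (1 : F)) = 0 := by
      apply g.injective
      rw [h1, map_zero]
    ext i
    have := congrFun (congrFun h0 i) k
    simpa [vecMulVec_apply] using this
  -- (I) independence of `z k`, `z l`
  have indep : ∀ k l, k ≠ l → ∀ s t : F, s • z k + t • z l = 0 → s = 0 ∧ t = 0 := by
    intro k l hkl s t hst
    have hv : (Pi.single i0 (1 : F) : ι → F) ≠ 0 := fun hk =>
      one_ne_zero (α := F) (by simpa using congrFun hk i0)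
    obtain ⟨xk, hxk⟩ := hTsurj k (Pi.single i0 1)
    obtain ⟨xl, hxl⟩ := hTsurj l (Pi.single i0 1)
    have hg0 : g (vecMulVec (s • xk) (Pi.single k 1) + vecMulVec (t • xl) (Pi.single l 1)) = 0 := by
      rw [map_add, hT, hT, map_smul, map_smul, hxk, hxl, smul_vecMulVec, smul_vecMulVec,
        ← vecMulVec_smul, ← vecMulVec_smul, ← vecMulVec_add, hst]
      ext i n
      simp [vecMulVec_apply]
    have h0 := g.injective (hg0.trans (map_zero g).symm)
    have hxk0 : xk ≠ 0 := by
      rintro rfl
      rw [map_zero] at hxk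
      exact hv hxk.symm
    have hxl0 : xl ≠ 0 := by
      rintro rfl
      rw [map_zero] at hxl
      exact hv hxl.symm
    obtain ⟨i, hi⟩ : ∃ i, xk i ≠ 0 := by
      by_contra hcon
      push Not at hcon
      exact hxk0 (funext hcon)
    obtain ⟨j, hj⟩ : ∃ j, xl j ≠ 0 := by
      by_contra hcon
      push Not at hcon
      exact hxl0 (funext hcon)
    constructor
    · have := congrFun (congrFun h0 i) k
      simp [vecMulVec_apply, hkl] at this
      exact this.resolve_right hi
    · have := congrFun (congrFun h0 j) l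
      simp [vecMulVec_apply, Ne.symm hkl] at this
      exact this.resolve_right hj
  -- (II) `T k x` and `T l x` are parallel
  have par : ∀ k l, k ≠ l → ∀ x, ∃ a : F, T l x = a • T k x := by
    intro k l hkl x
    by_cases hx : x = 0
    · exact ⟨0, by rw [hx, map_zero, map_zero, smul_zero]⟩
    have hu : T k x ≠ 0 := fun h => hx (hTinj k x h)
    have hy : (Pi.single k 1 + Pi.single l 1 : κ → F) ≠ 0 := by
      intro hcon
      have := congrFun hcon k
      simp [hkl] at this
    obtain ⟨z', hz'0, hz'⟩ := h _ hy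
    have hmem : g (vecMulVec x (Pi.single k 1 + Pi.single l 1)) ∈ fiber (ι := ι) z' := by
      rw [← hz']
      exact Submodule.mem_map_of_mem (f := g.toLinearMap) ⟨x, rfl⟩
    obtain ⟨w, hw⟩ := hmem
    rw [vecMulVec_add, map_add, hT, hT] at hw
    have hrow : ∀ i, (T k x i) • z k + (T l x i) • z l = w i • z' := by
      intro i
      ext n
      have := congrFun (congrFun hw i) n
      simpa [vecMulVec_apply] using this
    obtain ⟨i1, hi1⟩ : ∃ i, T k x i ≠ 0 := by
      by_contra hcon
      push Not at hcon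
      exact hu (funext hcon)
    have hw1 : w i1 ≠ 0 := by
      intro h0
      have := hrow i1
      rw [h0, zero_smul] at this
      exact hi1 (indep k l hkl _ _ this).1
    have key : ∀ i, T k x i = (w i / w i1) * T k x i1 ∧ T l x i = (w i / w i1) * T l x i1 := by
      intro i
      have h1 := hrow i
      have h2 := hrow i1
      have e1 : w i • z' = (w i / w i1) • (w i1 • z') := by
        rw [smul_smul, div_mul_cancel₀ _ hw1]
      have : (T k x i - (w i / w i1) * T k x i1) • z k
          + (T l x i - (w i / w i1) * T l x i1) • z l = 0 := by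
        calc _ = (T k x i • z k + T l x i • z l)
              - (w i / w i1) • (T k x i1 • z k + T l x i1 • z l) := by
              rw [sub_smul, sub_smul, mul_smul, mul_smul, smul_add]; abel
          _ = 0 := by rw [h1, h2, ← e1, sub_self]
      obtain ⟨ha', hb'⟩ := indep k l hkl _ _ this
      exact ⟨sub_eq_zero.mp ha', sub_eq_zero.mp hb'⟩
    refine ⟨T l x i1 / T k x i1, ?_⟩
    ext i
    simp only [Pi.smul_apply, smul_eq_mul]
    rw [(key i).1, (key i).2]
    field_simp
  -- (III) `T l` is proportional to `T k`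
  have prop : ∀ k l, k ≠ l → ∃ c : F, ∀ x, T l x = c • T k x := by
    intro k l hkl
    have hbij : Function.Bijective (T k) := by
      constructor
      · rw [← LinearMap.ker_eq_bot, LinearMap.ker_eq_bot']
        exact hTinj k
      · exact hTsurj k
    let e := LinearEquiv.ofBijective (T k) hbij
    have he_apply : ∀ x, e x = T k x := fun x => rfl
    let S : (ι → F) →ₗ[F] (ι → F) := (T l) ∘ₗ e.symm.toLinearMap
    have hS : ∀ v : ι → F, ∃ a : F, (LinearMap.toMatrix' S) *ᵥ v = a • v := by
      intro v
      rw [LinearMap.toMatrix'_mulVec]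
      obtain ⟨a, ha'⟩ := par k l hkl (e.symm v)
      refine ⟨a, ?_⟩
      show T l (e.symm v) = a • v
      rw [ha', ← he_apply, e.apply_symm_apply]
    obtain ⟨c, hc⟩ := scalar_of_forall_eigen _ hS
    refine ⟨c, fun x => ?_⟩
    have h1 : S (T k x) = c • T k x := by
      rw [← LinearMap.toMatrix'_mulVec, hc, smul_mulVec, one_mulVec]
    rw [← h1]
    show T l x = T l (e.symm (T k x))
    rw [← he_apply, e.symm_apply_apply]
  -- assembly
  have hcs : ∀ k, ∃ c : F, ∀ x, T k x = c • T k0 x := by
    intro k
    by_cases hk : k = k0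
    · exact ⟨1, fun x => by rw [hk, one_smul]⟩
    · exact prop k0 k (Ne.symm hk)
  choose c hc using hcs
  refine ⟨LinearMap.toMatrix' (T k0), Matrix.of (fun n k => c k * z k n), fun X => ?_⟩
  conv_lhs => rw [eq_sum_col X]
  rw [map_sum]
  ext i n
  rw [Matrix.sum_apply, Matrix.mul_apply]
  refine Finset.sum_congr rfl (fun k _ => ?_)
  rw [hT, vecMulVec_apply, hc k, Pi.smul_apply, smul_eq_mul, ← LinearMap.toMatrix'_mulVec,
    Matrix.transpose_apply, Matrix.of_apply, Matrix.mul_apply]
  simp only [mulVec, dotProduct]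
  ring

end Cfsg.Agent.Lib.Helper73_Tens_TP1
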