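import Mathlib
import Cfsg.Agent.Lib.Helper37_UTDefs
import Cfsg.Agent.Lib.Helper94_UDDefs
import Cfsg.Agent.Lib.Helper73_Tens_TP1

set_option autoImplicit false
set_option linter.unusedSectionVars false
set_option linter.unusedVariables false

/-!
# UTENS market (architect helper37), package UT-BAS1 (BAS1 + BAS2): basic API of the tensor model

`tf_pure`, the contraction formulas `tf_right_pure`, `tf_right_pure'`, `ctrB_pure`, `ctrA_pure`,
and the root operators `nII_apply`, `nI_apply`.
-/

namespace Cfsg.Agent.Lib.Helper17_UT_BAS1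

open Matrix Module
open Cfsg.Agent.Lib.Helper98_ExtDefs Cfsg.Agent.Lib.Helper97_TensDefs
open Cfsg.Agent.Lib.Helper94_Herm Cfsg.Agent.Lib.Helper13_PSUSimple
open Cfsg.Agent.Lib.Helper67_UT2Defs Cfsg.Agent.Lib.Helper37_UTDefs
open Cfsg.Agent.Lib.Helper94_FrmDefs

variable {F : Type*} [Field F] {ι κ : Type*} [Fintype ι] [Fintype κ] [DecidableEq ι]
  [DecidableEq κ] {σ : F →+* F}
variable {α : (ι → F) →ₗ[F] (ι → F) →ₛₗ[σ] F} {β : (κ → F) →ₗ[F] (κ → F) →ₛₗ[σ] F}
variable {M : Subgroup (Matrix ι κ F ≃ₗ[F] Matrix ι κ F)}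

/-- a vector is the sum of its coordinates times the standard basis vectors -/
theorem vec_eq_sum (y : κ → F) : y = ∑ j, y j • (Pi.single j 1 : κ → F) := by
  ext l
  simp [Finset.sum_apply, Pi.single_apply]

/-- expansion in the right argument -/
theorem beta_right_expand (v y : κ → F) :
    β v y = ∑ l, σ (y l) * β v (Pi.single l 1) := by
  conv_lhs => rw [vec_eq_sum y]
  rw [map_sum]
  refine Finset.sum_congr rfl fun l _ => ?_
  rw [map_smulₛₗ, smul_eq_mul]

/-- expansion in the left argument -/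
theorem beta_left_expand (v y : κ → F) :
    β v y = ∑ j, v j * β (Pi.single j 1) y := by
  conv_lhs => rw [vec_eq_sum v]
  rw [map_sum, LinearMap.sum_apply]
  refine Finset.sum_congr rfl fun j _ => ?_
  rw [map_smul, LinearMap.smul_apply, smul_eq_mul]

/-- BAS2 (S): contraction formulas -/
theorem tf_right_pure' (X : Matrix ι κ F) (x : ι → F) (y : κ → F) :
    tf α β X (vecMulVec x y) = β (ctrA α x X) y := by
  rw [tf_apply, beta_left_expand (β := β) (ctrA α x X) y]
  refine Finset.sum_congr rfl fun j _ => ?_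
  rw [ctrA_apply, beta_right_expand (β := β) (Pi.single j 1) y, Finset.mul_sum]
  refine Finset.sum_congr rfl fun l _ => ?_
  rw [colv_vecMulVec, map_smulₛₗ, smul_eq_mul]
  ring

theorem alpha_left_sum (X : Matrix ι κ F) (c : κ → F) (x : ι → F) :
    α (fun i => ∑ j, c j * X i j) x = ∑ j, c j * α (colv X j) x := by
  have h : (fun i => ∑ j, c j * X i j) = ∑ j, c j • colv X j := by
    ext i
    simp [Finset.sum_apply, colv]
  rw [h, map_sum, LinearMap.sum_apply]
  refine Finset.sum_congr rfl fun j _ => ?_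
  rw [map_smul, LinearMap.smul_apply, smul_eq_mul]

theorem tf_right_pure (X : Matrix ι κ F) (x : ι → F) (y : κ → F) :
    tf α β X (vecMulVec x y) = α (ctrB β y X) x := by
  rw [tf_right_pure', beta_left_expand (β := β) (ctrA α x X) y]
  have h : ctrB β y X = fun i => ∑ j, β (Pi.single j 1) y * X i j := by
    ext i
    rw [ctrB_apply, beta_left_expand (β := β) (X i) y]
    refine Finset.sum_congr rfl fun j _ => ?_
    ring
  rw [h, alpha_left_sum]
  refine Finset.sum_congr rfl fun j _ => ?_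
  rw [ctrA_apply]
  ring

theorem ctrB_pure (y y' : κ → F) (x : ι → F) : ctrB β y (vecMulVec x y') = β y' y • x := by
  ext i
  rw [ctrB_apply]
  have h : (vecMulVec x y') i = x i • y' := by
    ext j
    simp [vecMulVec_apply]
  rw [h, map_smul, LinearMap.smul_apply, smul_eq_mul, Pi.smul_apply, smul_eq_mul, mul_comm]

theorem ctrA_pure (x x' : ι → F) (y : κ → F) : ctrA α x (vecMulVec x' y) = α x' x • y := by
  ext j
  rw [ctrA_apply, colv_vecMulVec, map_smul, LinearMap.smul_apply, smul_eq_mul, Pi.smul_apply,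
    smul_eq_mul, mul_comm]

/-- BAS1 (S) -/
theorem tf_pure (x x' : ι → F) (y y' : κ → F) :
    tf α β (vecMulVec x y) (vecMulVec x' y') = α x x' * β y y' := by
  rw [tf_right_pure', ctrA_pure, map_smul, LinearMap.smul_apply, smul_eq_mul]

theorem nII_apply (x : ι → F) (X : Matrix ι κ F) :
    nII (κ := κ) α x X = vecMulVec x (ctrA α x X) := by
  unfold nII
  rw [tm_apply]
  ext i j
  have h1 : (LinearMap.toMatrix' (LinearMap.id : (κ → F) →ₗ[F] (κ → F)))ᵀ = 1 := by
    rw [LinearMap.toMatrix'_id, Matrix.transpose_one]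
  rw [h1, Matrix.mul_one]
  have h2 : (LinearMap.toMatrix' (rk1h α x) * X) i j =
      (LinearMap.toMatrix' (rk1h α x) *ᵥ colv X j) i := by
    rw [Matrix.mul_apply]; rfl
  rw [h2, LinearMap.toMatrix'_mulVec, rk1h_apply, vecMulVec_apply, ctrA_apply, Pi.smul_apply,
    smul_eq_mul, mul_comm]

theorem nI_apply (y : κ → F) (X : Matrix ι κ F) :
    nI (ι := ι) β y X = vecMulVec (ctrB β y X) y := by
  unfold nI
  rw [tm_apply]
  ext i j
  rw [LinearMap.toMatrix'_id, Matrix.one_mul]
  have h2 : (X * (LinearMap.toMatrix' (rk1h β y))ᵀ) i j =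
      (LinearMap.toMatrix' (rk1h β y) *ᵥ X i) j := by
    rw [Matrix.mul_apply]
    simp only [Matrix.transpose_apply, Matrix.mulVec, dotProduct]
    refine Finset.sum_congr rfl fun l _ => ?_
    ring
  rw [h2, LinearMap.toMatrix'_mulVec, rk1h_apply, vecMulVec_apply, ctrB_apply, Pi.smul_apply,
    smul_eq_mul]

end Cfsg.Agent.Lib.Helper17_UT_BAS1
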