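import Mathlib
import Cfsg.Agent.Lib.Helper37_UTDefs
import Cfsg.Agent.Lib.Helper94_UDDefs
import Cfsg.Agent.Lib.Helper17_UT_BAS1

/-!
# UTENS market `utens_packages` (architect helper37), package UT-G2 (helper10)
`uu_any_iso`: if all `(isotropic) ⊗ (isotropic)` pure tensors have their root group in `M`, so have all
`v ⊗ y`, `y` isotropic (explicit `u`, `u'` of §2 G2 of `pending/helper37/UTENS_proof.md`, `κ` skew).
-/

set_option autoImplicit false
set_option linter.unusedSectionVars false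
set_option linter.unusedVariables false

namespace Cfsg.Agent.Lib.Helper10_UT_G2

open Matrix Module
open Cfsg.Agent.Lib.Helper98_ExtDefs Cfsg.Agent.Lib.Helper97_TensDefs
open Cfsg.Agent.Lib.Helper94_Herm Cfsg.Agent.Lib.Helper13_PSUSimple
open Cfsg.Agent.Lib.Helper67_UT2Defs Cfsg.Agent.Lib.Helper37_UTDefs
open Cfsg.Agent.Lib.Helper94_FrmDefs Cfsg.Agent.Lib.Helper94_UDDefs

variable {F : Type*} [Field F] {ι κ : Type*} [Fintype ι] [Fintype κ] [DecidableEq ι]
  [DecidableEq κ] {σ : F →+* F}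
variable {α : (ι → F) →ₗ[F] (ι → F) →ₛₗ[σ] F} {β : (κ → F) →ₗ[F] (κ → F) →ₛₗ[σ] F}
variable {M : Subgroup (Matrix ι κ F ≃ₗ[F] Matrix ι κ F)}

/-- the tensor form is hermitian (own copy of part of BAS3) -/
theorem tf_isHerm_aux (hα : IsHerm α) (hβ : IsHerm β) : IsHerm (tf α β) := by
  intro X Y
  rw [tf_apply, tf_apply, map_sum, Finset.sum_comm]
  apply Finset.sum_congr rfl
  intro j _
  rw [map_sum]
  apply Finset.sum_congr rfl
  intro l _
  rw [map_mul, ← hα, ← hβ]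

/-- vectors in the frame `y, y', r0` -/
def fr {V : Type*} [AddCommGroup V] [Module F V] (y y' r0 : V) (a b c : F) : V :=
  a • y + b • y' + c • r0

theorem beta_fr {V : Type*} [AddCommGroup V] [Module F V] {B : V →ₗ[F] V →ₛₗ[σ] F}
    (hB : IsHerm B) {y y' r0 : V} (hy : B y y = 0) (hy' : B y' y' = 0)
    (hyy' : B y y' = 1) (hr1 : B r0 y = 0) (hr2 : B r0 y' = 0) (a b c a' b' c' : F) :
    B (fr y y' r0 a b c) (fr y y' r0 a' b' c') =
      a * σ b' + b * σ a' + c * σ c' * B r0 r0 := by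
  have hy'y : B y' y = 1 := by rw [hB y y', hyy', map_one]
  have h1 : B y r0 = 0 := herm_eq_zero hB hr1
  have h2 : B y' r0 = 0 := herm_eq_zero hB hr2
  simp only [fr, map_add, map_smul, map_smulₛₗ, LinearMap.add_apply, LinearMap.smul_apply,
    smul_eq_mul, hy, hy', hyy', hy'y, hr1, hr2, h1, h2]
  ring

/-- the explicit `u`, `u'` of §2 G2 -/
theorem core (hσ : Invol σ) (hα : IsHerm α) (hβ : IsHerm β) (hM : M ≤ uG (tf α β))
    (h : ∀ (x : ι → F) (y : κ → F), α x x = 0 → β y y = 0 → vecMulVec x y ∈ UU (tf α β) M)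
    {x x' : ι → F} {y y' r0 : κ → F} {ζ θ : F}
    (hx : α x x = 0) (hx' : α x' x' = 0) (hxx' : α x x' = 1)
    (hy : β y y = 0) (hy' : β y' y' = 0) (hyy' : β y y' = 1) (hr1 : β r0 y = 0)
    (hr2 : β r0 y' = 0) (hr : β r0 r0 = -(ζ * (θ - σ θ))) (hζ0 : ζ ≠ 0) (hζ : σ ζ = -ζ)
    (hθ : θ + σ θ ≠ 0) : vecMulVec (x + θ • x') y ∈ UU (tf α β) M := by
  have hf : IsHerm (tf α β) := tf_isHerm_aux hα hβ
  have hx'x : α x' x = 1 := by rw [hα x x', hxx', map_one]
  have bf := beta_fr (σ := σ) hβ hy hy' hyy' hr1 hr2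
  have tp := @Cfsg.Agent.Lib.Helper17_UT_BAS1.tf_pure F _ ι κ _ _ _ _ σ α β
  -- the four vectors of `B`
  have i1 : β (fr y y' r0 (0 : F) 1 0) (fr y y' r0 (0 : F) 1 0) = 0 := by
    rw [bf]; simp
  have i2 : β (fr y y' r0 (1 : F) (ζ * θ) 1) (fr y y' r0 (1 : F) (ζ * θ) 1) = 0 := by
    rw [bf, hr]
    simp only [map_mul, map_one, hζ]
    ring
  have i3 : β (fr y y' r0 (1 : F) (-ζ) 0) (fr y y' r0 (1 : F) (-ζ) 0) = 0 := by
    rw [bf]
    simp only [map_neg, map_one, map_zero, hζ]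
    ring
  have i4 : β (fr y y' r0 (θ - 1) (-(ζ * θ)) (-1)) (fr y y' r0 (θ - 1) (-(ζ * θ)) (-1)) = 0 := by
    rw [bf, hr]
    simp only [map_mul, map_neg, map_sub, map_one, hζ]
    ring
  have hp : vecMulVec (ζ • x) (fr y y' r0 (0 : F) 1 0) ∈ UU (tf α β) M :=
    h _ _ (by rw [self_smul, hx, mul_zero]) i1
  have hq : vecMulVec x' (fr y y' r0 (1 : F) (ζ * θ) 1) ∈ UU (tf α β) M := h _ _ hx' i2
  have hp' : vecMulVec x (fr y y' r0 (1 : F) (-ζ) 0) ∈ UU (tf α β) M := h _ _ hx i3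
  have hq' : vecMulVec x' (fr y y' r0 (θ - 1) (-(ζ * θ)) (-1)) ∈ UU (tf α β) M := h _ _ hx' i4
  have hpq : tf α β (vecMulVec (ζ • x) (fr y y' r0 (0 : F) 1 0)) (vecMulVec x' (fr y y' r0 (1 : F) (ζ * θ) 1))
      = ζ := by
    rw [tp, bf, map_smul, LinearMap.smul_apply, hxx']
    simp
  have hu : vecMulVec (ζ • x) (fr y y' r0 (0 : F) 1 0) + vecMulVec x' (fr y y' r0 (1 : F) (ζ * θ) 1)
      ∈ UU (tf α β) M := by
    refine UU_add hσ hf hM hp hq (by rw [hpq]; exact hζ0) ?_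
    rw [self_add hf, hp.1, hq.1, hpq, hζ]
    ring
  have hpq' : tf α β (vecMulVec x (fr y y' r0 (1 : F) (-ζ) 0))
      (vecMulVec x' (fr y y' r0 (θ - 1) (-(ζ * θ)) (-1))) = ζ := by
    rw [tp, bf, hxx']
    simp only [map_mul, map_neg, map_sub, map_one, hζ]
    ring
  have hu' : vecMulVec x (fr y y' r0 (1 : F) (-ζ) 0) +
      vecMulVec x' (fr y y' r0 (θ - 1) (-(ζ * θ)) (-1)) ∈ UU (tf α β) M := by
    refine UU_add hσ hf hM hp' hq' (by rw [hpq']; exact hζ0) ?_
    rw [self_add hf, hp'.1, hq'.1, hpq', hζ]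
    ring
  have huu' : tf α β (vecMulVec (ζ • x) (fr y y' r0 (0 : F) 1 0) + vecMulVec x' (fr y y' r0 (1 : F) (ζ * θ) 1))
      (vecMulVec x (fr y y' r0 (1 : F) (-ζ) 0) + vecMulVec x' (fr y y' r0 (θ - 1) (-(ζ * θ)) (-1)))
      = ζ * (θ + σ θ) := by
    simp only [map_add, LinearMap.add_apply, tp, bf, map_smul, LinearMap.smul_apply, hx, hx', hxx',
      hx'x, smul_eq_mul]
    simp only [map_mul, map_neg, map_sub, map_one, map_zero, hζ]
    ring
  have hsum : vecMulVec (ζ • x) (fr y y' r0 (0 : F) 1 0) + vecMulVec x' (fr y y' r0 (1 : F) (ζ * θ) 1) +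
      (vecMulVec x (fr y y' r0 (1 : F) (-ζ) 0) + vecMulVec x' (fr y y' r0 (θ - 1) (-(ζ * θ)) (-1)))
      = vecMulVec (x + θ • x') y := by
    ext i j
    simp only [fr, Matrix.add_apply, vecMulVec_apply, Pi.add_apply, Pi.smul_apply, smul_eq_mul]
    ring
  rw [← hsum]
  refine UU_add hσ hf hM hu hu' (by rw [huu']; exact mul_ne_zero hζ0 hθ) ?_
  rw [hsum, tp, hy, mul_zero]


section geom
variable {V : Type*} [AddCommGroup V] [Module F V] [FiniteDimensional F V]
  {B : V →ₗ[F] V →ₛₗ[σ] F}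

theorem exists_not_mem_span_singleton (h2 : 2 ≤ finrank F V) (v : V) :
    ∃ w : V, w ∉ Submodule.span F {v} := by
  by_contra hcon
  push Not at hcon
  have htop : Submodule.span F {v} = ⊤ := by
    rw [eq_top_iff]
    intro w _
    exact hcon w
  classical
  have h1 : finrank F (Submodule.span F (({v} : Finset V) : Set V)) ≤ ({v} : Finset V).card :=
    finrank_span_finset_le_card _
  rw [Finset.coe_singleton, htop, finrank_top, Finset.card_singleton] at h1
  omega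

theorem exists_not_mem_span_pair (h3 : 3 ≤ finrank F V) (y y' : V) :
    ∃ w : V, w ∉ Submodule.span F {y, y'} := by
  classical
  by_contra hcon
  push Not at hcon
  have htop : Submodule.span F ({y, y'} : Set V) = ⊤ := by
    rw [eq_top_iff]
    intro w _
    exact hcon w
  have h1 : finrank F (Submodule.span F (({y, y'} : Finset V) : Set V)) ≤ ({y, y'} : Finset V).card :=
    finrank_span_finset_le_card _
  rw [Finset.coe_pair, htop, finrank_top] at h1
  have h2 : ({y, y'} : Finset V).card ≤ 2 := Finset.card_le_two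
  omega

/-- an anisotropic vector lies in a hyperbolic plane: `v = μ (x + θ x')`, `Tr θ ≠ 0` -/
theorem exists_hyp_decomp [Finite F] (hσ : Invol σ) (hB : IsHerm B) (hN : NondegOn B ⊤)
    (h2 : 2 ≤ finrank F V) (v : V) (hv : B v v ≠ 0) :
    ∃ (x x' : V) (μ θ : F), B x x = 0 ∧ B x' x' = 0 ∧ B x x' = 1 ∧ v = μ • (x + θ • x') ∧
      θ + σ θ ≠ 0 := by
  have hn : σ (B v v) = B v v := herm_self hB v
  obtain ⟨w0, hw0⟩ := exists_not_mem_span_singleton h2 v
  set w1 := w0 - (B w0 v / B v v) • v with hw1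
  have hw1v : B w1 v = 0 := by
    rw [hw1, map_sub, map_smul, LinearMap.sub_apply, LinearMap.smul_apply, smul_eq_mul]
    field_simp
    ring
  have hw10 : w1 ≠ 0 := by
    intro h0
    apply hw0
    rw [Submodule.mem_span_singleton]
    exact ⟨B w0 v / B v v, (sub_eq_zero.mp h0).symm⟩
  have hNo : NondegOn B (⊤ ⊓ orthV B v) := nondegOn_orthV hB hN Submodule.mem_top hv
  obtain ⟨d, hdU, hd⟩ := exists_aniso hσ hB hNo
    (Submodule.mem_inf.mpr ⟨Submodule.mem_top, mem_orthV.mpr hw1v⟩) hw10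
  have hdv : B d v = 0 := mem_orthV.mp hdU.2
  have hvd : B v d = 0 := herm_eq_zero hB hdv
  obtain ⟨l, hl⟩ := norm_surj hσ (-(B v v) / B d d)
    (by rw [map_div₀, map_neg, hn, herm_self hB])
  obtain ⟨μ, hμ⟩ := tr_surj hσ 1 (map_one σ)
  have hμ0 : μ ≠ 0 := by
    intro h0
    rw [h0, map_zero, add_zero] at hμ
    exact zero_ne_one hμ
  have hσμ0 : σ μ ≠ 0 := (map_ne_zero σ).mpr hμ0
  set x := v + l • d with hx
  have hxx : B x x = 0 := by
    rw [hx, self_add hB, self_smul, map_smulₛₗ, hvd, smul_zero, map_zero, add_zero, add_zero, hl]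
    field_simp
    ring
  have hxv : B x v = B v v := by
    rw [hx, map_add, map_smul, LinearMap.add_apply, LinearMap.smul_apply, hdv, smul_zero, add_zero]
  have hvx : B v x = B v v := by rw [hB x v, hxv, hn]
  set x2 := v - μ • x with hx2
  have hx2x2 : B x2 x2 = 0 := by
    simp only [hx2, map_sub, map_smul, map_smulₛₗ, LinearMap.sub_apply, LinearMap.smul_apply,
      smul_eq_mul, hxx, hxv, hvx]
    linear_combination (B v v) * (-hμ)
  have hxx2 : B x x2 = B v v := by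
    simp only [hx2, map_sub, map_smulₛₗ, hxx, hxv, smul_eq_mul, mul_zero, sub_zero]
  refine ⟨x, (B v v)⁻¹ • x2, μ, B v v / μ, hxx, ?_, ?_, ?_, ?_⟩
  · rw [self_smul, hx2x2, mul_zero]
  · rw [map_smulₛₗ, hxx2, map_inv₀, hn, smul_eq_mul, inv_mul_cancel₀ hv]
  · rw [smul_add, smul_smul, smul_smul, mul_div_cancel₀ _ hμ0, mul_inv_cancel₀ hv, one_smul, hx2]
    abel
  · rw [map_div₀, hn]
    have : B v v / μ + B v v / σ μ = B v v * (μ + σ μ) / (μ * σ μ) := by
      field_simp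
      ring
    rw [this, hμ, mul_one]
    exact div_ne_zero hv (mul_ne_zero hμ0 hσμ0)

/-- a hyperbolic partner and an orthogonal vector of prescribed norm, dimension at least three -/
theorem exists_frame [Finite F] (hσ : Invol σ) (hB : IsHerm B) (hN : NondegOn B ⊤)
    (h3 : 3 ≤ finrank F V) {y : V} (hy0 : y ≠ 0) (hy : B y y = 0) (t : F) (ht : σ t = t) :
    ∃ y' r0 : V, B y' y' = 0 ∧ B y y' = 1 ∧ B r0 y = 0 ∧ B r0 y' = 0 ∧ B r0 r0 = t := by
  obtain ⟨y', -, hy', hyy'⟩ := exists_partner hσ hB hN Submodule.mem_top hy0 hy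
  have hy'y : B y' y = 1 := by rw [hB y y', hyy', map_one]
  obtain ⟨z, hz⟩ := exists_not_mem_span_pair h3 y y'
  set r1 := z - B z y' • y - B z y • y' with hr1
  have h1 : B r1 y = 0 := by
    simp only [hr1, map_sub, map_smul, LinearMap.sub_apply, LinearMap.smul_apply, smul_eq_mul, hy,
      hy'y]
    ring
  have h2 : B r1 y' = 0 := by
    simp only [hr1, map_sub, map_smul, LinearMap.sub_apply, LinearMap.smul_apply, smul_eq_mul, hy',
      hyy']
    ring
  have h0 : r1 ≠ 0 := by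
    intro h0
    apply hz
    have : z = B z y' • y + B z y • y' := by
      have h0' : z - B z y' • y - B z y • y' = 0 := h0
      rw [sub_sub, sub_eq_zero] at h0'
      exact h0'
    rw [this]
    exact Submodule.add_mem _ (Submodule.smul_mem _ _ (Submodule.subset_span (by simp)))
      (Submodule.smul_mem _ _ (Submodule.subset_span (by simp)))
  have hNp : NondegOn B (⊤ ⊓ orthV B y ⊓ orthV B y') :=
    nondegOn_pair hB hN Submodule.mem_top Submodule.mem_top hy hy' hyy'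
  obtain ⟨d, hdU, hd⟩ := exists_aniso hσ hB hNp
    (Submodule.mem_inf.mpr ⟨Submodule.mem_inf.mpr ⟨Submodule.mem_top, mem_orthV.mpr h1⟩,
      mem_orthV.mpr h2⟩) h0
  have hdy : B d y = 0 := mem_orthV.mp hdU.1.2
  have hdy' : B d y' = 0 := mem_orthV.mp hdU.2
  obtain ⟨l, hl⟩ := norm_surj hσ (t / B d d) (by rw [map_div₀, ht, herm_self hB])
  refine ⟨y', l • d, hy', hyy', ?_, ?_, ?_⟩
  · rw [map_smul, LinearMap.smul_apply, hdy, smul_zero]
  · rw [map_smul, LinearMap.smul_apply, hdy', smul_zero]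
  · rw [self_smul, hl, div_mul_cancel₀ _ hd]

end geom

/-- G2 (M): `(anisotropic) ⊗ (isotropic)` centres (explicit `u`, `u'` of §2 G2). -/
theorem uu_any_iso [Finite F] (hσ : Invol σ) (hα : IsHerm α) (hαN : NondegOn α ⊤)
    (hβ : IsHerm β) (hβN : NondegOn β ⊤) (ha : 2 ≤ Fintype.card ι) (hb : 3 ≤ Fintype.card κ)
    (hM : M ≤ uG (tf α β))
    (h : ∀ (x : ι → F) (y : κ → F), α x x = 0 → β y y = 0 → vecMulVec x y ∈ UU (tf α β) M)
    (v : ι → F) (y : κ → F) (hy : β y y = 0) : vecMulVec v y ∈ UU (tf α β) M := by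
  by_cases hv : α v v = 0
  · exact h v y hv hy
  by_cases hy0 : y = 0
  · have h0 : vecMulVec v (0 : κ → F) = 0 := by
      ext i j
      simp [vecMulVec_apply]
    rw [hy0, h0]
    exact UU_zero M
  have ha' : 2 ≤ finrank F (ι → F) := by rw [finrank_fintype_fun_eq_card]; exact ha
  have hb' : 3 ≤ finrank F (κ → F) := by rw [finrank_fintype_fun_eq_card]; exact hb
  obtain ⟨x, x', μ, θ, hx, hx', hxx', hvx, hθ⟩ := exists_hyp_decomp hσ hα hαN ha' v hv
  obtain ⟨ζ, hζ0, hζ⟩ := exists_skew hσ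
  have ht : σ (-(ζ * (θ - σ θ))) = -(ζ * (θ - σ θ)) := by
    rw [map_neg, map_mul, map_sub, hσ.invol, hζ]
    ring
  obtain ⟨y', r0, hy', hyy', hr1, hr2, hr⟩ := exists_frame hσ hβ hβN hb' hy0 hy _ ht
  have hc := core hσ hα hβ hM h hx hx' hxx' hy hy' hyy' hr1 hr2 hr hζ0 hζ hθ
  rw [hvx, smul_vecMulVec]
  exact UU_smul hσ hc μ

end Cfsg.Agent.Lib.Helper10_UT_G2
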