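import Cfsg.Agent.Lib.Helper50_SL2Count
import Cfsg.Agent.Lib.Helper50_SL2Gen

/-!
Dickson's theorem: a subgroup of `SL(2, q)` (`q` odd, a power of `p`) with more than one Sylow
`p`-subgroup contains a copy of `SL(2, p)`.  Here: the two cases of the dichotomy and the
statement for groups in standard position.
-/

set_option autoImplicit false

namespace Cfsg.Agent.Lib.Helper50_SL2Main

open Matrix Cfsg.Agent.Lib.Helper50_SL2Mat Cfsg.Agent.Lib.Helper50_CTClass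
  Cfsg.Agent.Lib.Helper50_SL2Rep Cfsg.Agent.Lib.Helper50_SL2Std
  Cfsg.Agent.Lib.Helper50_SL2Classes Cfsg.Agent.Lib.Helper50_SL2Count
  Cfsg.Agent.Lib.Helper50_SL2Gen
open scoped MatrixGroups

variable {Γ : Type*} [Group Γ] {F : Type*} [Field F] {p : ℕ} {ρ : Γ →* SL(2, F)} {u v : Γ}
  {α β : F}

/-- Case `index = |Qs| + 1`: `Qs` is transitive on the other points. -/
theorem std_case_index [Finite Γ] [Fact p.Prime] [CharP F p] (h : Std p ρ u v α β)
    (hidx : (Bn ρ).index = Nat.card (Qs ρ) + 1) :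
    ∃ q : Γ, ∃ x : F, ρ q = tU x ∧ x * (-(2 * β)) = 1 := by
  classical
  have h2 := h.two_ne_zero
  let f : Γ → Γ ⧸ Bn ρ := fun q => ((q * v : Γ) : Γ ⧸ Bn ρ)
  have hvinv : ρ v⁻¹ = tL (-β) := by rw [map_inv, h.hv, tL_inv]
  have hinj : Set.InjOn f (Qs ρ : Set Γ) := by
    intro q hq q' hq' hqq
    have h1 : (q * v)⁻¹ * (q' * v) ∈ Bn ρ := QuotientGroup.eq.1 hqq
    have ht : q⁻¹ * q' ∈ Qs ρ := (Qs ρ).mul_mem ((Qs ρ).inv_mem hq) hq'
    obtain ⟨t, ht'⟩ := mem_Qs_iff_exists.1 ht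
    have e : (q * v)⁻¹ * (q' * v) = v⁻¹ * (q⁻¹ * q') * v⁻¹⁻¹ := by group
    rw [e] at h1
    have h10 : (ρ (v⁻¹ * (q⁻¹ * q') * v⁻¹⁻¹)) 1 0 = 0 := h1
    rw [map_mul, map_mul, map_inv ρ v⁻¹, ht', (conj_tU (ρ v⁻¹) t).2.2.1, hvinv] at h10
    simp only [tL10] at h10
    have ht0 : t = 0 := by
      have hb : (-β) * (-β) ≠ 0 := mul_ne_zero (neg_ne_zero.2 h.hβ) (neg_ne_zero.2 h.hβ)
      exact (mul_eq_zero.1 (neg_eq_zero.1 h10)).resolve_right hb
    have h1' : q⁻¹ * q' = 1 := by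
      apply h.inj
      rw [ht', ht0, tU_zero, map_one]
    calc q = q' * (q⁻¹ * q')⁻¹ := by group
      _ = q' := by rw [h1', inv_one, mul_one]
  have hnotBn : ∀ g : Γ, (ρ g) 1 0 ≠ 0 → ((g : Γ) : Γ ⧸ Bn ρ) ≠ ((1 : Γ) : Γ ⧸ Bn ρ) := by
    intro g hg hh
    have h1 : g⁻¹ * 1 ∈ Bn ρ := QuotientGroup.eq.1 hh
    rw [mul_one] at h1
    have h3 : g ∈ Bn ρ := by simpa using (Bn ρ).inv_mem h1
    exact hg h3
  have hne : ∀ q ∈ Qs ρ, f q ≠ ((1 : Γ) : Γ ⧸ Bn ρ) := by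
    intro q hq
    apply hnotBn
    obtain ⟨x, hx⟩ := mem_Qs_iff_exists.1 hq
    rw [map_mul, hx, h.hv, mul10]
    simp only [tU10, tU11, tL00, tL10]
    rw [zero_mul, zero_add, one_mul]
    exact h.hβ
  have himage : f '' (Qs ρ : Set Γ) = {c | c ≠ ((1 : Γ) : Γ ⧸ Bn ρ)} := by
    refine Set.eq_of_subset_of_ncard_le ?_ ?_ (Set.toFinite _)
    · rintro _ ⟨q, hq, rfl⟩
      exact hne q hq
    · rw [Set.ncard_image_of_injOn hinj]
      have e : {c : Γ ⧸ Bn ρ | c ≠ ((1 : Γ) : Γ ⧸ Bn ρ)} = Set.univ \ {((1 : Γ) : Γ ⧸ Bn ρ)} := by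
        ext c; simp
      rw [e, Set.ncard_diff_singleton_of_mem (Set.mem_univ _), Set.ncard_univ]
      have e2 : Nat.card (Γ ⧸ Bn ρ) = (Bn ρ).index := rfl
      rw [e2, hidx, Nat.add_sub_cancel]
      exact le_refl _
  have hv2 : ((v * v : Γ) : Γ ⧸ Bn ρ) ∈ {c | c ≠ ((1 : Γ) : Γ ⧸ Bn ρ)} := by
    apply hnotBn
    rw [map_mul, h.hv, ← tL_add, tL10]
    intro h0
    have : 2 * β = 0 := by linear_combination h0
    exact (mul_ne_zero h2 h.hβ) this
  rw [← himage] at hv2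
  obtain ⟨q, hq, hqv⟩ := hv2
  have h1 : (q * v)⁻¹ * (v * v) ∈ Bn ρ := QuotientGroup.eq.1 hqv
  obtain ⟨x, hx⟩ := mem_Qs_iff_exists.1 hq
  refine ⟨q, x, hx, ?_⟩
  have h10 : (ρ ((q * v)⁻¹ * (v * v))) 1 0 = 0 := h1
  have e : (q * v)⁻¹ * (v * v) = v⁻¹ * q⁻¹ * (v * v) := by group
  rw [e, map_mul, map_mul, map_mul, map_inv, map_inv, hx, h.hv, tL_inv, tU_inv, ← tL_add] at h10
  simp only [mul10, mul00, mul11, mul01, tL00, tL01, tL10, tL11, tU00, tU01, tU10, tU11] at h10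
  have h3 : β * (1 + 2 * x * β) = 0 := by linear_combination h10
  have h4 : 1 + 2 * x * β = 0 := (mul_eq_zero.1 h3).resolve_left h.hβ
  linear_combination (-1 : F) * h4

theorem tr_pow_nine (h3 : (3 : F) = 0) (g : SL(2, F)) : tr (g ^ 9) = tr g ^ 9 := by
  have hc : ∀ k : SL(2, F), tr (k ^ 3) = tr k ^ 3 := by
    intro k
    rw [tr_pow_three, h3]; ring
  have e : g ^ 9 = (g ^ 3) ^ 3 := by rw [← pow_mul]
  rw [e, hc, hc, ← pow_mul]

/-- Case `p = 3`. -/
theorem std_case_three [Finite Γ] [Fact p.Prime] [CharP F p] (h : Std p ρ u v α β) (hp3 : p = 3)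
    (hall : ∀ w : Γ, w ∉ Zs ρ → tr (ρ w) * tr (ρ w) ≠ 4 → w ^ 4 = 1 ∨ w ^ 10 = 1) :
    (α * β) ^ 4 = 1 ∨ (α * β) ^ 4 = -1 := by
  subst hp3
  have h3 : (3 : F) = 0 := by
    have := CharP.cast_eq_zero F 3
    exact_mod_cast this
  set w := v * u with hw
  have hρw : ρ w = tL β * tU α := by rw [hw, map_mul, h.hv, h.hu]
  have htw : tr (ρ w) = 2 + α * β := by
    rw [hρw]
    simp only [tr, mul00, mul11, tL00, tL01, tL10, tL11, tU00, tU01, tU10, tU11]
    ring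
  have hwZ : w ∉ Zs ρ := by
    intro hz
    have := (mem_Zs.1 hz).2.1
    rw [hρw, mul10] at this
    simp only [tL10, tL11, tU00, tU10] at this
    apply h.hβ
    linear_combination this
  have h9 : tr (ρ w) ^ 9 = tr (ρ w) := by
    by_cases ht : tr (ρ w) * tr (ρ w) = 4
    · have : tr (ρ w) ^ 9 = tr (ρ w) * (tr (ρ w) * tr (ρ w)) ^ 4 := by ring
      rw [this, ht]
      linear_combination (85 * tr (ρ w)) * h3
    · rw [← tr_pow_nine h3]
      rcases hall w hwZ ht with h4 | h10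
      · have e : (ρ w) ^ 9 = ρ w := by
          rw [← map_pow]
          congr 1
          calc w ^ 9 = w ^ 4 * w ^ 4 * w := by group
            _ = w := by rw [h4]; group
        rw [e]
      · have e : (ρ w) ^ 9 = (ρ w)⁻¹ := by
          rw [← map_pow, ← map_inv]
          congr 1
          apply eq_inv_of_mul_eq_one_left
          calc w ^ 9 * w = w ^ 10 := by group
            _ = 1 := h10
        rw [e, tr_inv]
  rw [htw] at h9
  have hy9 : (α * β) ^ 9 = α * β := by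
    have e := add_pow_char_pow (R := F) (p := 3) (n := 2) (2 : F) (α * β)
    norm_num at e
    rw [e] at h9
    linear_combination h9 - 170 * h3
  have hy0 : α * β ≠ 0 := mul_ne_zero h.hα h.hβ
  have hy8 : ((α * β) ^ 4 - 1) * ((α * β) ^ 4 + 1) = 0 := by
    apply mul_left_cancel₀ hy0
    linear_combination hy9
  rcases mul_eq_zero.1 hy8 with h1 | h1
  · left; linear_combination h1
  · right; linear_combination h1

/-- Dickson's theorem in standard position. -/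
theorem std_main [Finite Γ] [Fintype F] [Fact p.Prime] [CharP F p] (h : Std p ρ u v α β) :
    ∃ K : Subgroup Γ, Nonempty (K ≃* SL(2, ZMod p)) := by
  rcases std_dichotomy h with hidx | ⟨hp3, hall⟩
  · obtain ⟨q, x, hq, hx⟩ := std_case_index h hidx
    have hvv : ρ (v * v)⁻¹ = tL (-(2 * β)) := by
      rw [map_inv, map_mul, h.hv, ← tL_add, tL_inv]
      congr 1; ring
    apply exists_SL2p p h.inj (u' := q) (v' := (v * v)⁻¹) (α := x) hq ?_ 1 one_ne_zero ?_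
    · rw [hvv, tr_tL]
    · rw [hvv, tL10, map_one]; exact hx
  · -- the pair (u, v' u v'⁻¹) with v' = v u v⁻¹
    have hv' : (ρ (v * u * v⁻¹)) 1 0 = -(α * (β * β)) := by
      rw [map_mul, map_mul, map_inv, h.hu, (conj_tU (ρ v) α).2.2.1, h.hv, tL10]
    have hv'' : (ρ ((v * u * v⁻¹) * u * (v * u * v⁻¹)⁻¹)) 1 0 = -(α * α * α * (β * β * β * β)) := by
      rw [map_mul, map_mul (ρ) (v * u * v⁻¹) u, map_inv, h.hu,
        (conj_tU (ρ (v * u * v⁻¹)) α).2.2.1, hv']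
      ring
    have htr : tr (ρ ((v * u * v⁻¹) * u * (v * u * v⁻¹)⁻¹)) = 2 := by
      rw [tr_conj', h.hu, tr_tU]
    rcases std_case_three h hp3 hall with h4 | h4
    · apply exists_SL2p p h.inj (u' := u) (v' := (v * u * v⁻¹) * u * (v * u * v⁻¹)⁻¹) (α := α)
        h.hu htr (-1) (neg_ne_zero.2 one_ne_zero) ?_
      rw [hv'', map_neg, map_one]
      linear_combination (-1 : F) * h4
    · apply exists_SL2p p h.inj (u' := u) (v' := (v * u * v⁻¹) * u * (v * u * v⁻¹)⁻¹) (α := α)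
        h.hu htr 1 one_ne_zero ?_
      rw [hv'', map_one]
      linear_combination (-1 : F) * h4

end Cfsg.Agent.Lib.Helper50_SL2Main
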