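import Cfsg.Agent.Lib.Helper51_G120
import Cfsg.Agent.Lib.Helper50_SL2Main

/-!
Two transvections `tL 1`, `tU lam` generate `SL(2, F)` (`F` a finite field of odd characteristic
generated by `lam`), unless `|F| = 9` and `lam ^ 2 = -1`, when they generate a group of order `120`.
-/

set_option autoImplicit false

namespace Cfsg.Agent.Lib.Helper51_TwoTransv

open Matrix Cfsg.Agent.Lib.Helper51_F9 Cfsg.Agent.Lib.Helper51_G120
  Cfsg.Agent.Lib.Helper50_SL2Mat Cfsg.Agent.Lib.Helper50_SL2Rep Cfsg.Agent.Lib.Helper50_SL2Std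
  Cfsg.Agent.Lib.Helper50_SL2Count Cfsg.Agent.Lib.Helper50_SL2Main Cfsg.Agent.Lib.Helper50_SL2Gen
open scoped MatrixGroups

variable {F : Type*} [Field F]

/-! ### Transport of the order-`120` group -/

theorem map_entry {R S : Type*} [CommRing R] [CommRing S] (f : R →+* S) (g : SL(2, R))
    (i j : Fin 2) : (Matrix.SpecialLinearGroup.map f g) i j = f (g i j) := by
  have h := Matrix.SpecialLinearGroup.map_apply_coe f g
  exact congrFun (congrFun h i) j

theorem map_injective {R S : Type*} [Field R] [Field S] (f : R →+* S)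
    (hf : Function.Injective f) :
    Function.Injective (Matrix.SpecialLinearGroup.map (n := Fin 2) f) := by
  intro g h e
  have key : ∀ i j : Fin 2, g i j = h i j := by
    intro i j
    apply hf
    rw [← map_entry f g i j, ← map_entry f h i j, e]
  exact ext4 (key 0 0) (key 0 1) (key 1 0) (key 1 1)

theorem map_tL {R S : Type*} [Field R] [Field S] (f : R →+* S) (x : R) :
    Matrix.SpecialLinearGroup.map f (tL x) = tL (f x) := by
  apply ext4 <;> simp [map_entry]

theorem map_tU {R S : Type*} [Field R] [Field S] (f : R →+* S) (x : R) :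
    Matrix.SpecialLinearGroup.map f (tU x) = tU (f x) := by
  apply ext4 <;> simp [map_entry]

/-- the generated group -/
def gen (lam : F) : Subgroup SL(2, F) := Subgroup.closure {tL (1 : F), tU lam}

theorem tL_mem_gen (lam : F) : tL (1 : F) ∈ gen lam := Subgroup.subset_closure (by simp)
theorem tU_mem_gen (lam : F) : tU lam ∈ gen lam := Subgroup.subset_closure (by simp)

theorem card_gen_of_sq [CharP F 3] (lam : F) (hlam : lam ^ 2 = -1) : Nat.card (gen lam) = 120 := by
  have h1 : gen lam = C.map (Matrix.SpecialLinearGroup.map (phi lam hlam)) := by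
    rw [C, MonoidHom.map_closure, Set.image_pair, map_tL, map_tU, map_one, phi_I]
    rfl
  rw [h1, Subgroup.card_map_of_injective (map_injective _ (phi_injective lam hlam)), card_C]

theorem set_eq (lam : F) :
    {g : SL(2, F) | (g : Matrix (Fin 2) (Fin 2) F) = !![1, 0; 1, 1] ∨
      (g : Matrix (Fin 2) (Fin 2) F) = !![1, lam; 0, 1]} = {tL (1 : F), tU lam} := by
  ext g
  simp only [Set.mem_ofPred_eq, Set.mem_insert_iff, Set.mem_singleton_iff]
  constructor
  · rintro (h | h)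
    · left; exact Subtype.ext h
    · right; exact Subtype.ext h
  · rintro (rfl | rfl)
    · left; rfl
    · right; rfl

/-! ### Trace identities -/

theorem tr_sq_mul (g h : SL(2, F)) : tr (g * g * h) = tr g * tr (g * h) - tr h := by
  have hd := det1 g
  simp only [tr, mul00, mul01, mul10, mul11]
  linear_combination (-(h 0 0 + h 1 1)) * hd

theorem tr_pow_four (g : SL(2, F)) : tr (g ^ 4) = tr g ^ 4 - 4 * tr g ^ 2 + 2 := by
  have e2 := tr_sq g
  have e3 : tr (g * g * g) = tr g * tr (g * g) - tr g := tr_sq_mul g g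
  have e4 : tr (g * g * (g * g)) = tr g * tr (g * (g * g)) - tr (g * g) := tr_sq_mul g (g * g)
  have a1 : g ^ 4 = g * g * (g * g) := by
    simp only [pow_succ, pow_zero, one_mul, mul_assoc]
  have a2 : g * (g * g) = g * g * g := by simp only [mul_assoc]
  rw [a1, e4, a2, e3, e2]
  ring

theorem tr_pow_five (g : SL(2, F)) : tr (g ^ 5) = tr g ^ 5 - 5 * tr g ^ 3 + 5 * tr g := by
  have e2 := tr_sq g
  have e3 : tr (g * g * g) = tr g * tr (g * g) - tr g := tr_sq_mul g g
  have e4 : tr (g * g * (g * g)) = tr g * tr (g * (g * g)) - tr (g * g) := tr_sq_mul g (g * g)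
  have e5 : tr (g * g * (g * g * g)) = tr g * tr (g * (g * g * g)) - tr (g * g * g) :=
    tr_sq_mul g (g * g * g)
  have a1 : g ^ 5 = g * g * (g * g * g) := by
    simp only [pow_succ, pow_zero, one_mul, mul_assoc]
  have a2 : g * (g * g) = g * g * g := by simp only [mul_assoc]
  have a3 : g * (g * g * g) = g * g * (g * g) := by simp only [mul_assoc]
  rw [a1, e5, a3, e4, a2, e3, e2]
  ring

theorem tcond_of_pow_four {g : SL(2, F)} (h : g ^ 4 = 1) :
    tr g * tr g * (tr g * tr g - 4) = 0 := by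
  have e := tr_pow_four g
  rw [h, tr_one] at e
  linear_combination -e

theorem tcond_of_pow_ten {g : SL(2, F)} (h : g ^ 10 = 1) :
    (tr g * tr g - 4) * (tr g ^ 4 - 3 * tr g ^ 2 + 1) ^ 2 = 0 := by
  have e5 := tr_pow_five g
  have e10 : tr (g ^ 5 * g ^ 5) = tr (g ^ 5) * tr (g ^ 5) - 2 := tr_sq (g ^ 5)
  have a : g ^ 5 * g ^ 5 = g ^ 10 := by rw [← pow_add]
  rw [a, h, tr_one, e5] at e10
  linear_combination -e10

/-- the condition on traces in the exceptional case -/
def Tcond (t : F) : Prop := t * t = 4 ∨ t = 0 ∨ t ^ 4 - 3 * t ^ 2 + 1 = 0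

theorem tcond_of_exotic {Γ : Type*} [Group Γ] {ρ : Γ →* SL(2, F)}
    (hall : ∀ w : Γ, w ∉ Zs ρ → tr (ρ w) * tr (ρ w) ≠ 4 → w ^ 4 = 1 ∨ w ^ 10 = 1)
    (w : Γ) (hw : w ∉ Zs ρ) : Tcond (tr (ρ w)) := by
  by_cases ht : tr (ρ w) * tr (ρ w) = 4
  · exact Or.inl ht
  · rcases hall w hw ht with h4 | h10
    · have h4' : (ρ w) ^ 4 = 1 := by rw [← map_pow, h4, map_one]
      have e := tcond_of_pow_four h4'
      rcases mul_eq_zero.1 e with e1 | e1
      · exact Or.inr (Or.inl (mul_self_eq_zero.1 e1))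
      · exact absurd (sub_eq_zero.1 e1) ht
    · have h10' : (ρ w) ^ 10 = 1 := by rw [← map_pow, h10, map_one]
      have e := tcond_of_pow_ten h10'
      rcases mul_eq_zero.1 e with e1 | e1
      · exact absurd (sub_eq_zero.1 e1) ht
      · exact Or.inr (Or.inr ((pow_eq_zero_iff (two_ne_zero)).1 e1))

theorem lam_cases (h3 : (3 : F) = 0) {lam : F} (hlam : lam ≠ 0) (h1 : Tcond (2 + lam))
    (h2 : Tcond (2 - lam)) : lam = 1 ∨ lam = -1 ∨ lam ^ 2 = -1 := by
  rcases h1 with h1 | h1 | h1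
  · right; left
    have : lam * (lam + 1) = 0 := by linear_combination h1 - lam * h3
    rcases mul_eq_zero.1 this with h | h
    · exact absurd h hlam
    · linear_combination h
  · left
    linear_combination h1 - h3
  · rcases h2 with h2 | h2 | h2
    · left
      have : lam * (lam - 1) = 0 := by linear_combination h2 + lam * h3
      rcases mul_eq_zero.1 this with h | h
      · exact absurd h hlam
      · linear_combination h
    · right; left
      linear_combination -h2 + h3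
    · right; right
      have : lam * (lam ^ 2 + 1) = 0 := by
        linear_combination h1 - h2 - (13 * lam + 5 * lam ^ 3) * h3
      rcases mul_eq_zero.1 this with h | h
      · exact absurd h hlam
      · linear_combination h

/-! ### The swapped representation -/

/-- the Weyl element -/
def W : SL(2, F) := mk 0 1 (-1) 0 (by ring)

theorem W_conj_tL (b : F) : W * tL b * W⁻¹ = tU (-b) := by
  apply ext4 <;> simp [W, mul00, mul01, mul10, mul11, inv00, inv01, inv10, inv11]

theorem W_conj_tU (a : F) : W * tU a * W⁻¹ = tL (-a) := by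
  apply ext4 <;> simp [W, mul00, mul01, mul10, mul11, inv00, inv01, inv10, inv11]

/-- the representation conjugated by the Weyl element -/
def swap (L : Subgroup SL(2, F)) : ↥L →* SL(2, F) :=
  (MulAut.conj (W : SL(2, F))).toMonoidHom.comp L.subtype

theorem swap_apply (L : Subgroup SL(2, F)) (g : L) :
    swap L g = W * (g : SL(2, F)) * W⁻¹ := rfl

theorem swap_injective (L : Subgroup SL(2, F)) : Function.Injective (swap L) :=
  (MulAut.conj (W : SL(2, F))).injective.comp L.subtype_injective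

theorem std_sub {p : ℕ} (hp : p ≠ 2) (L : Subgroup SL(2, F)) {α β : F} (hα : α ≠ 0) (hβ : β ≠ 0)
    (hu : tU α ∈ L) (hv : tL β ∈ L) :
    Std p L.subtype (⟨tU α, hu⟩ : L) ⟨tL β, hv⟩ α β :=
  ⟨L.subtype_injective, hp, hα, hβ, rfl, rfl⟩

theorem std_swap {p : ℕ} (hp : p ≠ 2) (L : Subgroup SL(2, F)) {α β : F} (hα : α ≠ 0) (hβ : β ≠ 0)
    (hu : tU α ∈ L) (hv : tL β ∈ L) :
    Std p (swap L) (⟨tL β, hv⟩ : L) ⟨tU α, hu⟩ (-β) (-α) :=
  ⟨swap_injective L, hp, neg_ne_zero.2 hβ, neg_ne_zero.2 hα, W_conj_tL β, W_conj_tU α⟩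

theorem exotic_of_swap (L : Subgroup SL(2, F))
    (hall' : ∀ w : L, w ∉ Zs (swap L) → tr (swap L w) * tr (swap L w) ≠ 4 →
      w ^ 4 = 1 ∨ w ^ 10 = 1) :
    ∀ w : L, w ∉ Zs L.subtype → tr (L.subtype w) * tr (L.subtype w) ≠ 4 →
      w ^ 4 = 1 ∨ w ^ 10 = 1 := by
  intro w hw ht
  apply hall' w
  · rw [mem_Zs, swap_apply, isScalar_conj_iff]
    exact hw
  · rw [swap_apply, tr_conj]
    exact ht

/-! ### The root subgroups -/

/-- the parameters of the upper transvections in `L` -/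
def setA (L : Subgroup SL(2, F)) : AddSubgroup F where
  carrier := {a | tU a ∈ L}
  add_mem' := by
    intro a b ha hb
    show tU (a + b) ∈ L
    rw [tU_add]; exact L.mul_mem ha hb
  zero_mem' := by
    show tU 0 ∈ L
    rw [tU_zero]; exact L.one_mem
  neg_mem' := by
    intro a ha
    show tU (-a) ∈ L
    rw [← tU_inv]; exact L.inv_mem ha

/-- the parameters of the lower transvections in `L` -/
def setB (L : Subgroup SL(2, F)) : AddSubgroup F where
  carrier := {a | tL a ∈ L}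
  add_mem' := by
    intro a b ha hb
    show tL (a + b) ∈ L
    rw [tL_add]; exact L.mul_mem ha hb
  zero_mem' := by
    show tL 0 ∈ L
    rw [tL_zero]; exact L.one_mem
  neg_mem' := by
    intro a ha
    show tL (-a) ∈ L
    rw [← tL_inv]; exact L.inv_mem ha

theorem mem_setA {L : Subgroup SL(2, F)} {a : F} : a ∈ setA L ↔ tU a ∈ L := Iff.rfl
theorem mem_setB {L : Subgroup SL(2, F)} {a : F} : a ∈ setB L ↔ tL a ∈ L := Iff.rfl

theorem iota_U [Fintype F] {p : ℕ} [Fact p.Prime] [CharP F p] (hp : p ≠ 2)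
    (L : Subgroup SL(2, F))
    (hidx : (Bn L.subtype).index = Nat.card (Qs L.subtype) + 1) {α β : F} (hα : α ≠ 0)
    (hβ : β ≠ 0) (hu : tU α ∈ L) (hv : tL β ∈ L) : tU (-(2 * β)⁻¹) ∈ L := by
  obtain ⟨q, x, hq, hx⟩ := std_case_index (std_sub hp L hα hβ hu hv) hidx
  have e : x = -(2 * β)⁻¹ := by
    rw [eq_inv_of_mul_eq_one_left hx, inv_neg]
  rw [← e, ← hq]
  exact q.2

theorem iota_L [Fintype F] {p : ℕ} [Fact p.Prime] [CharP F p] (hp : p ≠ 2)
    (L : Subgroup SL(2, F))
    (hidx : (Bn (swap L)).index = Nat.card (Qs (swap L)) + 1) {α β : F} (hα : α ≠ 0)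
    (hβ : β ≠ 0) (hu : tU α ∈ L) (hv : tL β ∈ L) : tL (-(2 * α)⁻¹) ∈ L := by
  obtain ⟨q, x, hq, hx⟩ := std_case_index (std_swap hp L hα hβ hu hv) hidx
  have hq' : (q : SL(2, F)) = tL (-x) := by
    have : W * (q : SL(2, F)) * W⁻¹ = W * tL (-x) * W⁻¹ := by
      rw [W_conj_tL, neg_neg]; exact hq
    exact mul_left_cancel (mul_right_cancel this)
  have e : -x = -(2 * α)⁻¹ := by
    rw [eq_inv_of_mul_eq_one_left hx]
    congr 2
    ring
  rw [← e, ← hq']
  exact q.2

/-! ### The field-theoretic closure argument -/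

theorem closed_of_iota (h2 : (2 : F) ≠ 0) (A B : AddSubgroup F)
    (hAB : ∀ a ∈ A, a ≠ 0 → -(2 * a)⁻¹ ∈ B) (hBA : ∀ b ∈ B, b ≠ 0 → -(2 * b)⁻¹ ∈ A)
    (h1 : (1 : F) ∈ B) :
    (1 : F) ∈ A ∧ (∀ a ∈ A, a⁻¹ ∈ A) ∧ (∀ a ∈ A, ∀ b ∈ A, a * b ∈ A) := by
  have h4 : (4 : F) ≠ 0 := by
    have : (4 : F) = 2 * 2 := by norm_num
    rw [this]; exact mul_ne_zero h2 h2
  have hA1 : (1 : F) ∈ A := by
    have h := hBA 1 h1 one_ne_zero
    have e : (1 : F) = -(-(2 * 1)⁻¹ + -(2 * 1)⁻¹) := by field_simp; ring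
    rw [e]
    exact A.neg_mem (A.add_mem h h)
  have hcomb : ∀ a ∈ A, ∀ c ∈ A, a ≠ 0 → c ≠ 0 → a + c ≠ 0 → a * c / (a + c) ∈ A := by
    intro a ha c hc ha0 hc0 hac
    have hs := B.add_mem (hAB a ha ha0) (hAB c hc hc0)
    have e : -(2 * a)⁻¹ + -(2 * c)⁻¹ = -(a + c) / (2 * a * c) := by field_simp; ring
    rw [e] at hs
    have hne : -(a + c) / (2 * a * c) ≠ 0 :=
      div_ne_zero (neg_ne_zero.2 hac) (mul_ne_zero (mul_ne_zero h2 ha0) hc0)
    have h := hBA _ hs hne
    have e' : -(2 * (-(a + c) / (2 * a * c)))⁻¹ = a * c / (a + c) := by field_simp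
    rwa [e'] at h
  have hinv : ∀ c ∈ A, c⁻¹ ∈ A := by
    intro c hc
    by_cases hc0 : c = 0
    · rw [hc0, _root_.inv_zero]; exact A.zero_mem
    by_cases hc1 : c = 1
    · rw [hc1, inv_one]; exact hA1
    have ha : c - 1 ∈ A := A.sub_mem hc hA1
    have ha0 : c - 1 ≠ 0 := sub_ne_zero.2 hc1
    have hac : c - 1 + 1 ≠ 0 := by rw [sub_add_cancel]; exact hc0
    have h := hcomb (c - 1) ha 1 hA1 ha0 one_ne_zero hac
    have e : c⁻¹ = 1 - (c - 1) * 1 / (c - 1 + 1) := by
      rw [sub_add_cancel]; field_simp; ring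
    rw [e]
    exact A.sub_mem hA1 h
  have hsq : ∀ a ∈ A, a * a ∈ A := by
    intro a ha
    by_cases ha0 : a = 0
    · rw [ha0, mul_zero]; exact A.zero_mem
    by_cases ha1 : a + 1 = 0
    · have : a = -1 := by linear_combination ha1
      rw [this]; simpa using hA1
    have hd : a⁻¹ - (a + 1)⁻¹ ∈ A := A.sub_mem (hinv a ha) (hinv _ (A.add_mem ha hA1))
    have hd' := hinv _ hd
    have e : (a⁻¹ - (a + 1)⁻¹)⁻¹ = a * a + a := by field_simp; ring
    rw [e] at hd'
    have := A.sub_mem hd' ha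
    rwa [add_sub_cancel_right] at this
  have h2ab : ∀ a ∈ A, ∀ b ∈ A, 2 * a * b ∈ A := by
    intro a ha b hb
    have h := A.sub_mem (A.sub_mem (hsq _ (A.add_mem ha hb)) (hsq a ha)) (hsq b hb)
    have e : (a + b) * (a + b) - a * a - b * b = 2 * a * b := by ring
    rwa [e] at h
  have h4inv : (4 : F)⁻¹ ∈ A := by
    apply hinv
    have : (4 : F) = 1 + 1 + 1 + 1 := by norm_num
    rw [this]
    exact A.add_mem (A.add_mem (A.add_mem hA1 hA1) hA1) hA1
  have hhalf : ∀ x ∈ A, x / 2 ∈ A := by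
    intro x hx
    have h := h2ab x hx _ h4inv
    have e : 2 * x * (4 : F)⁻¹ = x / 2 := by field_simp; ring
    rwa [e] at h
  refine ⟨hA1, hinv, ?_⟩
  intro a ha b hb
  have h := h2ab a ha _ (hhalf b hb)
  have e : 2 * a * (b / 2) = a * b := by field_simp
  rwa [e] at h

/-- the subfield structure -/
def subF (A : AddSubgroup F) (h1 : (1 : F) ∈ A) (hinv : ∀ a ∈ A, a⁻¹ ∈ A)
    (hmul : ∀ a ∈ A, ∀ b ∈ A, a * b ∈ A) : Subfield F where
  carrier := A
  mul_mem' := fun {a b} ha hb => hmul a ha b hb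
  one_mem' := h1
  add_mem' := fun ha hb => A.add_mem ha hb
  zero_mem' := A.zero_mem
  neg_mem' := fun ha => A.neg_mem ha
  inv_mem' := fun a ha => hinv a ha

theorem eq_top_of_idx [Fintype F] {p : ℕ} [Fact p.Prime] [CharP F p] (hp : p ≠ 2)
    (L : Subgroup SL(2, F)) {lam : F} (hlam : lam ≠ 0) (hu : tU lam ∈ L) (hv : tL (1 : F) ∈ L)
    (hidx : (Bn L.subtype).index = Nat.card (Qs L.subtype) + 1)
    (hidx' : (Bn (swap L)).index = Nat.card (Qs (swap L)) + 1)
    (hgen : Subfield.closure ({lam} : Set F) = ⊤) : L = ⊤ := by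
  have h2 : (2 : F) ≠ 0 := two_ne_zero_of_char p hp
  have hAB : ∀ a ∈ setA L, a ≠ 0 → -(2 * a)⁻¹ ∈ setB L := by
    intro a ha ha0
    exact iota_L hp L hidx' ha0 one_ne_zero ha hv
  have hBA : ∀ b ∈ setB L, b ≠ 0 → -(2 * b)⁻¹ ∈ setA L := by
    intro b hb hb0
    exact iota_U hp L hidx hlam hb0 hu hb
  obtain ⟨hA1, hinv, hmul⟩ := closed_of_iota h2 (setA L) (setB L) hAB hBA hv
  have hAtop : ∀ x : F, x ∈ setA L := by
    intro x
    have h1 : Subfield.closure ({lam} : Set F) ≤ subF (setA L) hA1 hinv hmul := by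
      rw [Subfield.closure_le]
      intro y hy
      rw [Set.mem_singleton_iff] at hy
      rw [hy]
      exact hu
    rw [hgen] at h1
    exact h1 (Subfield.mem_top x)
  have hBtop : ∀ x : F, x ∈ setB L := by
    intro x
    by_cases hx : x = 0
    · rw [hx]; exact (setB L).zero_mem
    have hx' : -(2 * x)⁻¹ ≠ 0 := neg_ne_zero.2 (inv_ne_zero (mul_ne_zero h2 hx))
    have h := hAB _ (hAtop (-(2 * x)⁻¹)) hx'
    have e : -(2 * -(2 * x)⁻¹)⁻¹ = x := by field_simp
    rwa [e] at h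
  exact closure_eq_top_of_forall L hAtop hBtop

/-! ### The prime field case -/

theorem natCast_of_gen {p : ℕ} [Fact p.Prime] [CharP F p] {lam : F} (h : lam = 1 ∨ lam = -1)
    (hgen : Subfield.closure ({lam} : Set F) = ⊤) (x : F) : ∃ n : ℕ, x = n := by
  have h1 : Subfield.closure ({lam} : Set F) ≤ (ZMod.castHom (dvd_refl p) F).fieldRange := by
    rw [Subfield.closure_le]
    intro y hy
    rw [Set.mem_singleton_iff] at hy
    rw [hy]
    rcases h with rfl | rfl
    · exact Subfield.one_mem _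
    · exact Subfield.neg_mem _ (Subfield.one_mem _)
  rw [hgen] at h1
  obtain ⟨y, hy⟩ := h1 (Subfield.mem_top x)
  refine ⟨y.val, ?_⟩
  rw [← hy]
  conv_lhs => rw [← ZMod.natCast_zmod_val y]
  rw [map_natCast]

theorem eq_top_of_one (L : Subgroup SL(2, F)) (hu : tU (1 : F) ∈ L) (hv : tL (1 : F) ∈ L)
    (hnat : ∀ x : F, ∃ n : ℕ, x = n) : L = ⊤ := by
  apply closure_eq_top_of_forall
  · intro c
    obtain ⟨n, rfl⟩ := hnat c
    have := L.pow_mem hu n
    rwa [tU_pow, mul_one] at this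
  · intro c
    obtain ⟨n, rfl⟩ := hnat c
    have := L.pow_mem hv n
    rwa [tL_pow, mul_one] at this

/-! ### The main theorem -/

theorem gen_eq_top [Fintype F] {p : ℕ} [Fact p.Prime] [CharP F p] (hp : p ≠ 2) {lam : F}
    (hlam : lam ≠ 0) (hgen : Subfield.closure ({lam} : Set F) = ⊤)
    (hex : ¬ (p = 3 ∧ lam ^ 2 = -1)) : gen lam = ⊤ := by
  have hu := tU_mem_gen lam
  have hv := tL_mem_gen lam
  have key : (p = 3 ∧ ∀ w : gen lam, w ∉ Zs (gen lam).subtype →
      tr ((gen lam).subtype w) * tr ((gen lam).subtype w) ≠ 4 → w ^ 4 = 1 ∨ w ^ 10 = 1) →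
      gen lam = ⊤ := by
    rintro ⟨hp3, hall⟩
    subst hp3
    have h3 : (3 : F) = 0 := by
      have := CharP.cast_eq_zero F 3
      exact_mod_cast this
    have hu' : tU (-lam) ∈ gen lam := by rw [← tU_inv]; exact (gen lam).inv_mem hu
    have hw1 : (⟨tL 1 * tU lam, (gen lam).mul_mem hv hu⟩ : gen lam) ∉ Zs (gen lam).subtype := by
      intro hz
      have := (mem_Zs.1 hz).2.1
      simp [mul10] at this
    have hw2 : (⟨tL 1 * tU (-lam), (gen lam).mul_mem hv hu'⟩ : gen lam) ∉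
        Zs (gen lam).subtype := by
      intro hz
      have := (mem_Zs.1 hz).2.1
      simp [mul10] at this
    have t1 := tcond_of_exotic hall _ hw1
    have t2 := tcond_of_exotic hall _ hw2
    have e1 : tr ((gen lam).subtype ⟨tL 1 * tU lam, (gen lam).mul_mem hv hu⟩) = 2 + lam := by
      simp [tr, mul00, mul11]; ring
    have e2 : tr ((gen lam).subtype ⟨tL 1 * tU (-lam), (gen lam).mul_mem hv hu'⟩) = 2 - lam := by
      simp [tr, mul00, mul11]; ring
    rw [e1] at t1
    rw [e2] at t2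
    rcases lam_cases h3 hlam t1 t2 with h | h | h
    · have hnat := natCast_of_gen (p := 3) (Or.inl h) hgen
      have hu1 : tU (1 : F) ∈ gen lam := by
        have e : tU (1 : F) = tU lam := by rw [h]
        rw [e]; exact hu
      exact eq_top_of_one _ hu1 hv hnat
    · have hnat := natCast_of_gen (p := 3) (Or.inr h) hgen
      have hu1 : tU (1 : F) ∈ gen lam := by
        have : (1 : F) = -lam := by rw [h, neg_neg]
        rw [this]; exact hu'
      exact eq_top_of_one _ hu1 hv hnat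
    · exact absurd ⟨rfl, h⟩ hex
  rcases std_dichotomy (std_sub hp (gen lam) hlam one_ne_zero hu hv) with hidx | hexo
  · rcases std_dichotomy (std_swap hp (gen lam) hlam one_ne_zero hu hv) with hidx' | hexo'
    · exact eq_top_of_idx hp (gen lam) hlam hu hv hidx hidx' hgen
    · exact key ⟨hexo'.1, exotic_of_swap _ hexo'.2⟩
  · exact key hexo

theorem two_transvections [Fintype F] (h2 : (2 : F) ≠ 0) (lam : F) (hlam : lam ≠ 0)
    (hgen : Subfield.closure ({lam} : Set F) = ⊤) :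
    (gen lam = ⊤ ∧ ¬ (Fintype.card F = 9 ∧ lam ^ 2 = -1)) ∨
      (Fintype.card F = 9 ∧ lam ^ 2 = -1 ∧ Nat.card (gen lam) = 120) := by
  obtain ⟨p, hchar⟩ := CharP.exists F
  have hprime : p.Prime := CharP.char_is_prime F p
  have : Fact p.Prime := ⟨hprime⟩
  have hp : p ≠ 2 := by
    rintro rfl
    apply h2
    have := CharP.cast_eq_zero F 2
    exact_mod_cast this
  by_cases hex : p = 3 ∧ lam ^ 2 = -1
  · right
    obtain ⟨rfl, hl⟩ := hex
    exact ⟨card_of_sq_eq_neg_one lam hl hgen, hl, card_gen_of_sq lam hl⟩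
  · left
    refine ⟨gen_eq_top hp hlam hgen hex, ?_⟩
    rintro ⟨h9, hl⟩
    apply hex
    refine ⟨?_, hl⟩
    obtain ⟨n, -, hn⟩ := FiniteField.card F p
    rw [h9] at hn
    have hdvd : p ∣ 3 ^ 2 := by
      have : p ∣ p ^ (n : ℕ) := dvd_pow_self p n.ne_zero
      rw [← hn] at this
      exact this
    exact (Nat.prime_dvd_prime_iff_eq hprime Nat.prime_three).1 (hprime.dvd_of_dvd_pow hdvd)

end Cfsg.Agent.Lib.Helper51_TwoTransv
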