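import Mathlib
import Cfsg.Agent.S0801

/-!
# UTENS market `utens_packages` (architect helper37), package UT-O1B (helper10)
`even_card_closure`: the group generated by `E21(1)` and `E12(lam)` in `SL_2(K)`, `K` a finite field of odd
characteristic, `lam ≠ 0`, has even order: by Dickson's theorem (landed `Cfsg.Agent.S0801.result`) applied to the
subfield generated by `lam`.
-/

set_option autoImplicit false

namespace Cfsg.Agent.Lib.Helper10_UT_O1B

open Matrix

/-- the two generators, over any commutative ring -/
def gens {R : Type*} [CommRing R] (lam : R) : Set (Matrix.SpecialLinearGroup (Fin 2) R) :=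
  {g | (g : Matrix (Fin 2) (Fin 2) R) = !![1, 0; 1, 1] ∨
    (g : Matrix (Fin 2) (Fin 2) R) = !![1, lam; 0, 1]}

/-- the conclusion of Dickson's theorem gives an even order -/
theorem even_of_dickson {F : Type*} [Field F] [Fintype F] (h2 : (2 : F) ≠ 0) (lam : F)
    (h : (Subgroup.closure (gens lam) = ⊤ ∧ ¬ (Fintype.card F = 9 ∧ lam ^ 2 = -1)) ∨
      (Fintype.card F = 9 ∧ lam ^ 2 = -1 ∧ Nat.card ↥(Subgroup.closure (gens lam)) = 120)) :
    Even (Nat.card ↥(Subgroup.closure (gens lam))) := by
  rcases h with ⟨htop, -⟩ | ⟨-, -, h120⟩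
  · -- the element `-1` has order two
    let g : Matrix.SpecialLinearGroup (Fin 2) F :=
      ⟨!![-1, 0; 0, -1], by rw [Matrix.det_fin_two_of]; ring⟩
    have hg2 : g * g = 1 := by
      apply Subtype.ext
      show !![-1, 0; 0, -1] * !![-1, 0; 0, -1] = (1 : Matrix (Fin 2) (Fin 2) F)
      rw [Matrix.mul_fin_two, Matrix.one_fin_two]
      norm_num
    have hg1 : g ≠ 1 := by
      intro h
      have h00 := congrArg (fun m : Matrix.SpecialLinearGroup (Fin 2) F =>
        (m : Matrix (Fin 2) (Fin 2) F) 0 0) h
      simp only [g, Matrix.SpecialLinearGroup.coe_one, Matrix.one_apply_eq] at h00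
      have h00' : (-1 : F) = 1 := by simpa using h00
      apply h2
      have : (2 : F) = 1 - (-1) := by ring
      rw [this, h00', sub_self]
    have hmem : g ∈ Subgroup.closure (gens lam) := by rw [htop]; trivial
    let g' : ↥(Subgroup.closure (gens lam)) := ⟨g, hmem⟩
    have hg'2 : g' ^ 2 = 1 := by
      apply Subtype.ext
      show g ^ 2 = 1
      rw [pow_two, hg2]
    have hg'1 : g' ≠ 1 := by
      intro h
      exact hg1 (congrArg Subtype.val h)
    have hord : orderOf g' = 2 := orderOf_eq_prime hg'2 hg'1
    have hdvd : orderOf g' ∣ Nat.card ↥(Subgroup.closure (gens lam)) := orderOf_dvd_natCard g'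
    rw [hord] at hdvd
    exact even_iff_two_dvd.mpr hdvd
  · rw [h120]
    decide

/-- O1b (M): by Dickson's theorem (landed `Cfsg.Agent.S0801.result`, applied to the subfield
generated by `lam`) the group generated by the two elementary matrices has even order. -/
theorem even_card_closure {K : Type*} [Field K] [Fintype K] (h2 : (2 : K) ≠ 0) (lam : K)
    (hlam : lam ≠ 0) :
    Even (Nat.card ↥(Subgroup.closure
      {g : Matrix.SpecialLinearGroup (Fin 2) K | (g : Matrix (Fin 2) (Fin 2) K) = !![1, 0; 1, 1] ∨
        (g : Matrix (Fin 2) (Fin 2) K) = !![1, lam; 0, 1]})) := by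
  classical
  show Even (Nat.card ↥(Subgroup.closure (gens lam)))
  -- the subfield generated by `lam`
  let k : Subfield K := Subfield.closure {lam}
  have hlk : lam ∈ k := Subfield.subset_closure rfl
  let lam' : k := ⟨lam, hlk⟩
  let _ : Fintype k := Fintype.ofFinite k
  have h2' : (2 : k) ≠ 0 := by
    intro h
    apply h2
    have := congrArg k.subtype h
    rw [map_ofNat, map_zero] at this
    exact this
  have hlam' : lam' ≠ 0 := by
    intro h
    apply hlam
    exact congrArg (fun x : k => (x : K)) h
  have hgen : Subfield.closure ({lam'} : Set k) = ⊤ := by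
    rw [eq_top_iff]
    rintro ⟨x, hx⟩ -
    have h1 : (Subfield.closure ({lam'} : Set k)).map k.subtype =
        Subfield.closure (k.subtype '' {lam'}) := RingHom.map_field_closure _ _
    have h2 : k.subtype '' {lam'} = {lam} := by
      rw [Set.image_singleton]
      rfl
    rw [h2] at h1
    have hx' : x ∈ (Subfield.closure ({lam'} : Set k)).map k.subtype := by
      rw [h1]
      exact hx
    obtain ⟨y, hy, hyx⟩ := hx'
    have : y = ⟨x, hx⟩ := Subtype.ext hyx
    rw [← this]
    exact hy
  have hD := Cfsg.Agent.S0801.result h2' lam' hlam' hgen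
  have hev : Even (Nat.card ↥(Subgroup.closure (gens lam'))) := even_of_dickson h2' lam' hD
  -- transport along the inclusion of the subfield
  let φ : Matrix.SpecialLinearGroup (Fin 2) k →* Matrix.SpecialLinearGroup (Fin 2) K :=
    Matrix.SpecialLinearGroup.map k.subtype
  have hφc : ∀ g : Matrix.SpecialLinearGroup (Fin 2) k,
      ((φ g : Matrix.SpecialLinearGroup (Fin 2) K) : Matrix (Fin 2) (Fin 2) K) =
        (g : Matrix (Fin 2) (Fin 2) k).map k.subtype := fun g => rfl
  have hφi : Function.Injective φ := by
    intro g₁ g₂ h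
    apply Subtype.ext
    have h' := congrArg (fun m : Matrix.SpecialLinearGroup (Fin 2) K =>
      (m : Matrix (Fin 2) (Fin 2) K)) h
    simp only [hφc] at h'
    ext i j
    have := congrFun (congrFun h' i) j
    simp only [Matrix.map_apply] at this
    exact this
  have himg : φ '' gens lam' = gens lam := by
    ext h
    constructor
    · rintro ⟨g, hg, rfl⟩
      rcases hg with hg | hg
      · left
        rw [hφc, hg]
        ext i j
        fin_cases i <;> fin_cases j <;> simp
      · right
        rw [hφc, hg]
        ext i j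
        fin_cases i <;> fin_cases j <;> simp [lam']
    · rintro (hh | hh)
      · let g0 : Matrix.SpecialLinearGroup (Fin 2) k :=
          ⟨!![1, 0; 1, 1], by rw [Matrix.det_fin_two_of]; ring⟩
        have hg0 : (g0 : Matrix (Fin 2) (Fin 2) k) = !![1, 0; 1, 1] := rfl
        refine ⟨g0, Or.inl rfl, ?_⟩
        apply Subtype.ext
        rw [hφc, hh, hg0]
        ext i j
        fin_cases i <;> fin_cases j <;> simp
      · let g0 : Matrix.SpecialLinearGroup (Fin 2) k :=
          ⟨!![1, lam'; 0, 1], by rw [Matrix.det_fin_two_of]; ring⟩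
        have hg0 : (g0 : Matrix (Fin 2) (Fin 2) k) = !![1, lam'; 0, 1] := rfl
        refine ⟨g0, Or.inr rfl, ?_⟩
        apply Subtype.ext
        rw [hφc, hh, hg0]
        ext i j
        fin_cases i <;> fin_cases j <;> simp [lam']
  have hmap : (Subgroup.closure (gens lam')).map φ = Subgroup.closure (gens lam) := by
    rw [MonoidHom.map_closure, himg]
  rw [← hmap, Subgroup.card_map_of_injective hφi]
  exact hev

end Cfsg.Agent.Lib.Helper10_UT_O1B
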