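import Mathlib
import Cfsg.Agent.Lib.Helper37_UTDefs
import Cfsg.Agent.Lib.Helper94_UDDefs
import Cfsg.Agent.Lib.Helper73_Tens_TP1

set_option autoImplicit false
set_option linter.unusedSectionVars false
set_option linter.unusedVariables false

/-!
# UTENS packages BAS6 + BAS7 (helper42, for helper37): the root elements `u_x(s) ⊗ 1`, `1 ⊗ u_y(s)` as
maps, and the transvections of `V = A ⊗ B` with pure isotropic centre.
-/

namespace Cfsg.Agent.Lib.Helper42_UT_BAS6

open Matrix Module
open Cfsg.Agent.Lib.Helper98_ExtDefs Cfsg.Agent.Lib.Helper97_TensDefs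
open Cfsg.Agent.Lib.Helper94_Herm Cfsg.Agent.Lib.Helper13_PSUSimple
open Cfsg.Agent.Lib.Helper67_UT2Defs Cfsg.Agent.Lib.Helper37_UTDefs
open Cfsg.Agent.Lib.Helper94_FrmDefs

variable {F : Type*} [Field F] {ι κ : Type*} [Fintype ι] [Fintype κ] [DecidableEq ι]
  [DecidableEq κ] {σ : F →+* F}
variable {α : (ι → F) →ₗ[F] (ι → F) →ₛₗ[σ] F} {β : (κ → F) →ₗ[F] (κ → F) →ₛₗ[σ] F}
variable {M : Subgroup (Matrix ι κ F ≃ₗ[F] Matrix ι κ F)}

/-- a unitary transvection with isotropic centre, as a linear map -/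
theorem utv_toLinearMap {W : Type*} [AddCommGroup W] [Module F W] (b : W →ₗ[F] W →ₛₗ[σ] F)
    {a : W} (ha : b a a = 0) (s : F) :
    (utv b a s).toLinearMap = LinearMap.id + s • rk1h b a := by
  refine LinearMap.ext fun v => ?_
  rw [LinearEquiv.coe_coe, utv_apply b ha, LinearMap.add_apply, LinearMap.id_apply,
    LinearMap.smul_apply, rk1h_apply, smul_smul]

/-- BAS6 (S): the root elements as maps -/
theorem tmE_utv_left {x : ι → F} (hx : α x x = 0) (s : F) (X : Matrix ι κ F) :
    tmE (utv α x s) (1 : (κ → F) ≃ₗ[F] (κ → F)) X = X + s • nII α x X := by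
  have h2 : ((1 : (κ → F) ≃ₗ[F] (κ → F))).toLinearMap = LinearMap.id := rfl
  rw [tmE_apply, utv_toLinearMap α hx, h2, nII, tm_apply, tm_apply, map_add, map_smul,
    LinearMap.toMatrix'_id, LinearMap.toMatrix'_id, Matrix.transpose_one, Matrix.mul_one,
    Matrix.mul_one, Matrix.add_mul, Matrix.one_mul, Matrix.smul_mul]

theorem tmE_utv_right {y : κ → F} (hy : β y y = 0) (s : F) (X : Matrix ι κ F) :
    tmE (1 : (ι → F) ≃ₗ[F] (ι → F)) (utv β y s) X = X + s • nI β y X := by
  have h2 : ((1 : (ι → F) ≃ₗ[F] (ι → F))).toLinearMap = LinearMap.id := rfl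
  rw [tmE_apply, utv_toLinearMap β hy, h2, nI, tm_apply, tm_apply, map_add, map_smul,
    LinearMap.toMatrix'_id, LinearMap.toMatrix'_id, Matrix.one_mul,
    Matrix.transpose_add, Matrix.transpose_one, Matrix.transpose_smul, Matrix.mul_add,
    Matrix.mul_one, Matrix.mul_smul]

/-- expansion of a vector in the standard basis -/
theorem eq_sum_single (y : κ → F) : y = ∑ j, y j • (Pi.single j (1 : F) : κ → F) := by
  ext k
  rw [Finset.sum_apply]
  simp [Pi.single_apply]

/-- the tensor form on pure tensors -/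
theorem tf_pure' (x x' : ι → F) (y y' : κ → F) :
    tf α β (vecMulVec x y) (vecMulVec x' y') = α x x' * β y y' := by
  have h1 : ∀ v : κ → F, β y v = ∑ j, y j * β (Pi.single j 1) v := by
    intro v
    conv_lhs => rw [eq_sum_single y]
    simp only [map_sum, LinearMap.sum_apply, map_smul, LinearMap.smul_apply, smul_eq_mul]
  have h2 : ∀ u : κ → F, β u y' = ∑ l, σ (y' l) * β u (Pi.single l 1) := by
    intro u
    conv_lhs => rw [eq_sum_single y']
    simp only [map_sum, map_smulₛₗ, smul_eq_mul]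
  rw [tf_apply, h1 y', Finset.mul_sum]
  refine Finset.sum_congr rfl fun j _ => ?_
  rw [h2, Finset.mul_sum, Finset.mul_sum]
  refine Finset.sum_congr rfl fun l _ => ?_
  simp only [colv_vecMulVec, map_smul, LinearMap.smul_apply, map_smulₛₗ, smul_eq_mul]
  ring

/-- `P_x ⊗ P_y` is the rank one operator of the pure tensor `x ⊗ y` -/
theorem tm_rk1h (x : ι → F) (y : κ → F) :
    tm (rk1h α x) (rk1h β y) = rk1h (tf α β) (vecMulVec x y) := by
  refine LinearMap.ext fun X => ?_
  rw [Cfsg.Agent.Lib.Helper73_Tens_TP1.eq_sum_col X, map_sum, map_sum]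
  refine Finset.sum_congr rfl fun k _ => ?_
  rw [tm_pure, rk1h_apply, rk1h_apply, rk1h_apply, tf_pure', smul_vecMulVec, vecMulVec_smul,
    smul_smul, mul_comm]

/-- BAS7 (S): transvections of `V` with pure isotropic centre -/
theorem utv_pure {x : ι → F} {y : κ → F} (h : α x x = 0 ∨ β y y = 0) (c : F) (X : Matrix ι κ F) :
    utv (tf α β) (vecMulVec x y) c X = X + c • tm (rk1h α x) (rk1h β y) X := by
  have h0 : tf α β (vecMulVec x y) (vecMulVec x y) = 0 := by
    rw [tf_pure']
    rcases h with h | h <;> simp [h]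
  rw [utv_apply (tf α β) h0, tm_rk1h, rk1h_apply, smul_smul]

end Cfsg.Agent.Lib.Helper42_UT_BAS6
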