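import Mathlib
import Cfsg.Prelude.Def_GeometricClasses
import Cfsg.Agent.Lib.Helper97_TensDefs

/-!
# S5637 package TP3c (architect helper97): determinant of `X ↦ P * X * Qᵀ`.
-/

set_option autoImplicit false
set_option linter.unusedSectionVars false
set_option linter.unusedVariables false

namespace Cfsg.Agent.Lib.Helper59_Tens_TP3c

open Matrix
open scoped Kronecker
open Cfsg.Agent.Lib.Helper98_ExtDefs Cfsg.Agent.Lib.Helper97_TensDefs

variable {F : Type*} [Field F] {ι κ : Type*} [Fintype ι] [Fintype κ] [DecidableEq ι] [DecidableEq κ]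

/-- `Matrix.vec` as a linear equivalence -/
noncomputable def vecEquiv : Matrix ι κ F ≃ₗ[F] (κ × ι → F) :=
  LinearEquiv.ofBijective
    { toFun := Matrix.vec
      map_add' := Matrix.vec_add
      map_smul' := fun c X => Matrix.vec_smul c X }
    Matrix.vec_bijective

theorem vecEquiv_apply (X : Matrix ι κ F) : vecEquiv X = Matrix.vec X := rfl

/-- **TP3c** (S/M).  Determinant of `X ↦ P X Qᵀ`. -/
theorem det_kron (P : Matrix ι ι F) (Q : Matrix κ κ F) (f : Matrix ι κ F →ₗ[F] Matrix ι κ F)
    (hf : ∀ X, f X = P * X * Qᵀ) :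
    LinearMap.det f = P.det ^ Fintype.card κ * Q.det ^ Fintype.card ι := by
  have hconj : (vecEquiv (F := F) (ι := ι) (κ := κ)).toLinearMap ∘ₗ f ∘ₗ
      (vecEquiv (F := F) (ι := ι) (κ := κ)).symm.toLinearMap = Matrix.toLin' (Q ⊗ₖ P) := by
    apply LinearMap.ext
    intro v
    obtain ⟨X, rfl⟩ := (vecEquiv (F := F) (ι := ι) (κ := κ)).surjective v
    rw [LinearMap.comp_apply, LinearMap.comp_apply, LinearEquiv.coe_coe, LinearEquiv.coe_coe,
      LinearEquiv.symm_apply_apply, hf, Matrix.toLin'_apply, vecEquiv_apply, vecEquiv_apply,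
      Matrix.kronecker_mulVec_vec]
  have h1 := LinearMap.det_conj f (vecEquiv (F := F) (ι := ι) (κ := κ))
  rw [hconj, LinearMap.det_toLin', Matrix.det_kronecker] at h1
  rw [← h1, mul_comm]

end Cfsg.Agent.Lib.Helper59_Tens_TP3c
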