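import Mathlib
import Cfsg.Agent.Lib.Helper37_UTDefs
import Cfsg.Agent.Lib.Helper94_UDDefs
import Cfsg.Agent.Lib.Helper73_Tens_TP1
import Cfsg.Agent.Lib.Helper59_Tens_TP3c

set_option autoImplicit false
set_option linter.unusedSectionVars false
set_option linter.unusedVariables false

/-!
# UTENS package UT-BAS4 (+BAS5) (architect helper37; formalised by helper44)

Kronecker products of isometries: `tmE_mem_uG`, `det_tmE`, `tmE_mul`, `tmE_one`, `tmE_inv`,
`tmE_mem`.
-/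

namespace Cfsg.Agent.Lib.Helper44_UT_BAS4

open Matrix Module
open Cfsg.Agent.Lib.Helper98_ExtDefs Cfsg.Agent.Lib.Helper97_TensDefs
open Cfsg.Agent.Lib.Helper94_Herm Cfsg.Agent.Lib.Helper13_PSUSimple
open Cfsg.Agent.Lib.Helper67_UT2Defs Cfsg.Agent.Lib.Helper37_UTDefs
open Cfsg.Agent.Lib.Helper94_FrmDefs

variable {F : Type*} [Field F] {ι κ : Type*} [Fintype ι] [Fintype κ] [DecidableEq ι]
  [DecidableEq κ] {σ : F →+* F}
variable {α : (ι → F) →ₗ[F] (ι → F) →ₛₗ[σ] F} {β : (κ → F) →ₗ[F] (κ → F) →ₛₗ[σ] F}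
variable {M : Subgroup (Matrix ι κ F ≃ₗ[F] Matrix ι κ F)}

/-- the tensor form on pure tensors (own copy of BAS1) -/
theorem h44_tf_pure (x x' : ι → F) (y y' : κ → F) :
    tf α β (vecMulVec x y) (vecMulVec x' y') = α x x' * β y y' := by
  rw [tf_apply]
  have hy : y = ∑ j, y j • (Pi.single j (1 : F) : κ → F) := by
    ext k
    simp [Finset.sum_apply, Pi.single_apply]
  have hy' : y' = ∑ l, y' l • (Pi.single l (1 : F) : κ → F) := by
    ext k
    simp [Finset.sum_apply, Pi.single_apply]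
  have h1 : β y y' = ∑ j, ∑ l, y j * σ (y' l) * β (Pi.single j 1) (Pi.single l 1) := by
    calc β y y' = β (∑ j, y j • (Pi.single j (1 : F) : κ → F))
          (∑ l, y' l • (Pi.single l (1 : F) : κ → F)) := by rw [← hy, ← hy']
      _ = ∑ j, ∑ l, β (y j • (Pi.single j (1 : F) : κ → F))
          (y' l • (Pi.single l (1 : F) : κ → F)) := by
        simp only [map_sum, LinearMap.sum_apply]
        rw [Finset.sum_comm]
      _ = ∑ j, ∑ l, y j * σ (y' l) * β (Pi.single j 1) (Pi.single l 1) := by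
        refine Finset.sum_congr rfl fun j _ => ?_
        refine Finset.sum_congr rfl fun l _ => ?_
        rw [map_smulₛₗ, map_smul, LinearMap.smul_apply, smul_eq_mul, smul_eq_mul]
        ring
  rw [h1, Finset.mul_sum]
  refine Finset.sum_congr rfl fun j _ => ?_
  rw [Finset.mul_sum]
  refine Finset.sum_congr rfl fun l _ => ?_
  rw [colv_vecMulVec, colv_vecMulVec, map_smulₛₗ, map_smul, LinearMap.smul_apply, smul_eq_mul,
    smul_eq_mul]
  ring

/-- a single matrix is a pure tensor -/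
theorem h44_single_eq (i : ι) (j : κ) (c : F) :
    Matrix.single i j c = vecMulVec (Pi.single i c : ι → F) (Pi.single j (1 : F) : κ → F) := by
  ext a b
  rw [Matrix.single_apply, vecMulVec_apply, Pi.single_apply, Pi.single_apply]
  by_cases ha : a = i
  · by_cases hb : b = j
    · subst ha; subst hb; simp
    · have hb' : ¬ j = b := fun h => hb h.symm
      simp [ha, hb, hb']
  · have ha' : ¬ i = a := fun h => ha h.symm
    simp [ha, ha']

/-- induction over pure tensors -/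
theorem h44_induction {p : Matrix ι κ F → Prop} (h0 : p 0) (hadd : ∀ X Y, p X → p Y → p (X + Y))
    (hpure : ∀ (x : ι → F) (y : κ → F), p (vecMulVec x y)) (X : Matrix ι κ F) : p X := by
  refine Matrix.induction_on' X h0 hadd ?_
  intro i j c
  rw [h44_single_eq]
  exact hpure _ _

/-- BAS4 (M): Kronecker products of isometries -/
theorem tmE_mem_uG {P : (ι → F) ≃ₗ[F] (ι → F)} {Q : (κ → F) ≃ₗ[F] (κ → F)} (hP : P ∈ uG α)
    (hQ : Q ∈ uG β) : tmE P Q ∈ uG (tf α β) := by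
  intro X Y
  refine h44_induction (p := fun X => tf α β (tmE P Q X) (tmE P Q Y) = tf α β X Y) ?_ ?_ ?_ X
  · simp only [map_zero, LinearMap.zero_apply]
  · intro X X' h h'
    simp only [map_add, LinearMap.add_apply, h, h']
  · intro x y
    refine h44_induction
      (p := fun Y => tf α β (tmE P Q (vecMulVec x y)) (tmE P Q Y) = tf α β (vecMulVec x y) Y)
      ?_ ?_ ?_ Y
    · simp only [map_zero]
    · intro Y Y' h h'
      simp only [map_add, h, h']
    · intro x' y'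
      rw [tmE_pure, tmE_pure, h44_tf_pure, h44_tf_pure, hP x x', hQ y y']

theorem det_tmE (P : (ι → F) ≃ₗ[F] (ι → F)) (Q : (κ → F) ≃ₗ[F] (κ → F)) :
    LinearEquiv.det (tmE P Q) =
      LinearEquiv.det P ^ Fintype.card κ * LinearEquiv.det Q ^ Fintype.card ι := by
  apply Units.ext
  rw [LinearEquiv.coe_det, Units.val_mul, Units.val_pow_eq_pow_val, Units.val_pow_eq_pow_val,
    LinearEquiv.coe_det, LinearEquiv.coe_det]
  have h := Cfsg.Agent.Lib.Helper59_Tens_TP3c.det_kron (LinearMap.toMatrix' P.toLinearMap)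
    (LinearMap.toMatrix' Q.toLinearMap) (tmE P Q).toLinearMap (fun X => rfl)
  rw [LinearMap.det_toMatrix', LinearMap.det_toMatrix'] at h
  exact h

theorem tmE_mul (P P' : (ι → F) ≃ₗ[F] (ι → F)) (Q Q' : (κ → F) ≃ₗ[F] (κ → F)) :
    tmE P Q * tmE P' Q' = tmE (P * P') (Q * Q') := by
  apply LinearEquiv.ext
  intro X
  rw [LinearEquiv.mul_apply, tmE_apply, tmE_apply, tmE_apply, ← LinearMap.comp_apply, tm_comp]
  rfl

theorem tmE_one : tmE (1 : (ι → F) ≃ₗ[F] (ι → F)) (1 : (κ → F) ≃ₗ[F] (κ → F)) = 1 := by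
  apply LinearEquiv.ext
  intro X
  rw [tmE_apply]
  have h := tm_id (F := F) (ι := ι) (κ := κ)
  have h2 : tm ((1 : (ι → F) ≃ₗ[F] (ι → F)).toLinearMap) ((1 : (κ → F) ≃ₗ[F] (κ → F)).toLinearMap)
      = LinearMap.id := h
  rw [h2]
  rfl

theorem tmE_inv (P : (ι → F) ≃ₗ[F] (ι → F)) (Q : (κ → F) ≃ₗ[F] (κ → F)) :
    (tmE P Q)⁻¹ = tmE P⁻¹ Q⁻¹ := by
  apply inv_eq_of_mul_eq_one_right
  rw [tmE_mul, mul_inv_cancel, mul_inv_cancel, tmE_one]

/-- BAS5 (S): elements of `SU(A) ⊗ SU(B)` lie in `M` -/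
theorem tmE_mem (hC : UTCtx α β M) {P : (ι → F) ≃ₗ[F] (ι → F)} {Q : (κ → F) ≃ₗ[F] (κ → F)}
    (hP : P ∈ SUg α) (hQ : Q ∈ SUg β) : tmE P Q ∈ M := by
  rw [mem_SUg] at hP hQ
  apply hC.hN _ _ (isKron_tmE P Q)
  rw [mem_SUg]
  refine ⟨tmE_mem_uG hP.1 hQ.1, ?_⟩
  rw [det_tmE, hP.2, hQ.2, one_pow, one_pow, one_mul]

end Cfsg.Agent.Lib.Helper44_UT_BAS4
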