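import Mathlib
import Cfsg.Agent.Lib.Helper37_UTDefs
import Cfsg.Agent.Lib.Helper94_UDDefs
import Cfsg.Agent.Lib.Helper73_Tens_TP1
import Cfsg.Agent.Lib.Helper17_UT_BAS1

set_option autoImplicit false
set_option linter.unusedSectionVars false
set_option linter.unusedVariables false

/-!
UTENS package UT-ORB (helper51): a totally isotropic subspace of dimension `b` of `A ⊗ B`
invariant under all `1 ⊗ P_y` (`y` isotropic) is a fibre `x ⊗ B`.
-/

namespace Cfsg.Agent.Lib.Helper51_UT_ORB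

open Matrix Module
open Cfsg.Agent.Lib.Helper98_ExtDefs Cfsg.Agent.Lib.Helper97_TensDefs
open Cfsg.Agent.Lib.Helper94_Herm Cfsg.Agent.Lib.Helper13_PSUSimple
open Cfsg.Agent.Lib.Helper67_UT2Defs Cfsg.Agent.Lib.Helper37_UTDefs
open Cfsg.Agent.Lib.Helper94_FrmDefs

variable {F : Type*} [Field F] {ι κ : Type*} [Fintype ι] [Fintype κ] [DecidableEq ι]
  [DecidableEq κ] {σ : F →+* F}
variable {α : (ι → F) →ₗ[F] (ι → F) →ₛₗ[σ] F} {β : (κ → F) →ₗ[F] (κ → F) →ₛₗ[σ] F}
variable {M : Subgroup (Matrix ι κ F ≃ₗ[F] Matrix ι κ F)}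

/-- the linear map `w ↦ x ⊗ w` -/
def h51_pureL (x : ι → F) : (κ → F) →ₗ[F] Matrix ι κ F where
  toFun w := vecMulVec x w
  map_add' w w' := vecMulVec_add x w w'
  map_smul' c w := by
    ext i j
    simp [vecMulVec_apply, mul_left_comm]

theorem h51_pureL_apply (x : ι → F) (w : κ → F) : h51_pureL x w = vecMulVec x w := rfl

theorem h51_pureL_injective {x : ι → F} (hx : x ≠ 0) :
    Function.Injective (h51_pureL (κ := κ) x) := by
  obtain ⟨i, hi⟩ : ∃ i, x i ≠ 0 := by
    by_contra h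
    push Not at h
    exact hx (funext h)
  intro w w' h
  ext j
  have := congrFun (congrFun h i) j
  simp only [h51_pureL_apply, vecMulVec_apply] at this
  exact mul_left_cancel₀ hi this

theorem h51_fibB_eq_range (x : ι → F) :
    fibB (κ := κ) x = LinearMap.range (h51_pureL (κ := κ) x) := by
  ext X
  rw [mem_fibB, LinearMap.mem_range]
  constructor
  · rintro ⟨w, rfl⟩; exact ⟨w, rfl⟩
  · rintro ⟨w, rfl⟩; exact ⟨w, rfl⟩

theorem h51_finrank_fibB {x : ι → F} (hx : x ≠ 0) :
    finrank F (fibB (κ := κ) x) = Fintype.card κ := by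
  rw [h51_fibB_eq_range, LinearMap.finrank_range_of_inj (h51_pureL_injective hx),
    Module.finrank_fintype_fun_eq_card]

/-- the isotropic vectors span `B` (dimension `≥ 2`, finite field) -/
theorem h51_span_iso_top [Finite F] (hσ : Invol σ) (hβ : IsHerm β) (hβN : NondegOn β ⊤)
    (h2 : 2 ≤ Fintype.card κ) :
    (∃ u f : κ → F, u ≠ 0 ∧ β u u = 0 ∧ β f f = 0 ∧ β u f = 1) ∧
      ∀ w : κ → F, w ∈ Submodule.span F {z : κ → F | β z z = 0} := by
  obtain ⟨j, l, hjl⟩ := Fintype.one_lt_card_iff.mp (lt_of_lt_of_le one_lt_two h2)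
  have hx0 : (Pi.single j 1 : κ → F) ≠ 0 := by
    intro h
    have := congrFun h j
    simp at this
  have hy0 : (Pi.single l 1 : κ → F) ∉ Submodule.span F {(Pi.single j 1 : κ → F)} := by
    intro h
    rw [Submodule.mem_span_singleton] at h
    obtain ⟨c, hc⟩ := h
    have := congrFun hc l
    simp [Ne.symm hjl] at this
  obtain ⟨a, b, hu0, hu⟩ := exists_iso hσ hβ hx0 hy0
  obtain ⟨f, -, hf, huf⟩ := exists_partner hσ hβ hβN (Submodule.mem_top) hu0 hu
  refine ⟨⟨_, f, hu0, hu, hf, huf⟩, ?_⟩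
  intro w
  have := span_iso hσ hβ (U := ⊤) (Submodule.mem_top) (Submodule.mem_top) hu hf huf w
    Submodule.mem_top
  refine Submodule.span_mono ?_ this
  rintro z ⟨-, hz⟩
  exact hz

/-- ORB (M): a totally isotropic subspace of dimension `b` invariant under all `1 ⊗ P_y`
(`y` isotropic) is a fibre `x ⊗ B`. -/
theorem fibB_of_invariant [Finite F] (hσ : Invol σ) (hα : IsHerm α) (hαN : NondegOn α ⊤)
    (hβ : IsHerm β) (hβN : NondegOn β ⊤) (h2 : 2 ≤ Fintype.card κ)
    (t : Submodule F (Matrix ι κ F)) (hdim : finrank F t = Fintype.card κ)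
    (hti : ∀ X ∈ t, ∀ Y ∈ t, tf α β X Y = 0)
    (hinv : ∀ y : κ → F, β y y = 0 → ∀ X ∈ t, nI β y X ∈ t) :
    ∃ x : ι → F, x ≠ 0 ∧ α x x = 0 ∧ t = fibB x := by
  obtain ⟨⟨u, f, hu0, hu, hf, huf⟩, hspan⟩ := h51_span_iso_top hσ hβ hβN h2
  -- a nonzero element of `t`
  obtain ⟨X, hXt, hX0⟩ : ∃ X ∈ t, X ≠ 0 := by
    by_contra h
    push Not at h
    have : t = ⊥ := by
      rw [Submodule.eq_bot_iff]
      exact h
    rw [this, finrank_bot] at hdim
    omega
  obtain ⟨i, hi⟩ : ∃ i, X i ≠ 0 := by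
    by_contra h
    push Not at h
    exact hX0 (funext h)
  -- an isotropic `y` with nonzero contraction
  obtain ⟨y, hy, hxy⟩ : ∃ y : κ → F, β y y = 0 ∧ ctrB β y X ≠ 0 := by
    by_contra h
    push Not at h
    obtain ⟨w, -, hw⟩ := hβN (X i) Submodule.mem_top hi
    apply hw
    have hle : Submodule.span F {z : κ → F | β z z = 0} ≤ LinearMap.ker (β (X i)) := by
      rw [Submodule.span_le]
      intro z hz
      rw [SetLike.mem_coe, LinearMap.mem_ker]
      have := congrFun (h z hz) i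
      rwa [ctrB_apply] at this
    exact LinearMap.mem_ker.mp (hle (hspan w))
  set x : ι → F := ctrB β y X with hx
  have hy0 : y ≠ 0 := by
    intro h
    apply hxy
    ext i'
    rw [hx, ctrB_apply, h]
    simp
  have hxyt : vecMulVec x y ∈ t := by
    have := hinv y hy X hXt
    rwa [Helper17_UT_BAS1.nI_apply] at this
  -- one step
  have step : ∀ y1 z : κ → F, vecMulVec x y1 ∈ t → β z z = 0 → β y1 z ≠ 0 →
      vecMulVec x z ∈ t := by
    intro y1 z h1 hz hne
    have := hinv z hz _ h1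
    rw [Helper17_UT_BAS1.nI_apply, Helper17_UT_BAS1.ctrB_pure, Matrix.smul_vecMulVec] at this
    have h3 := t.smul_mem (β y1 z)⁻¹ this
    rwa [smul_smul, inv_mul_cancel₀ hne, one_smul] at h3
  have hall : ∀ z : κ → F, β z z = 0 → vecMulVec x z ∈ t := by
    intro z hz
    by_cases hz0 : z = 0
    · rw [hz0]
      have : vecMulVec x (0 : κ → F) = 0 := by
        ext i' j'
        simp [vecMulVec_apply]
      rw [this]
      exact t.zero_mem
    by_cases hyz : β y z = 0
    · obtain ⟨b'', -, hb'', h1, h2'⟩ := exists_connect hσ hβ hβN (U := ⊤) (Submodule.mem_top)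
        (Submodule.mem_top) hy0 hz0 hy hyz
      have hb''t := step y b'' hxyt hb'' h1
      exact step b'' z hb''t hz (herm_ne_zero hσ hβ h2')
    · exact step y z hxyt hz hyz
  have hle : fibB (κ := κ) x ≤ t := by
    rw [h51_fibB_eq_range, LinearMap.range_le_iff_comap, Submodule.eq_top_iff']
    intro w
    have hsp : Submodule.span F {z : κ → F | β z z = 0} ≤ t.comap (h51_pureL x) := by
      rw [Submodule.span_le]
      intro z hz
      exact hall z hz
    exact hsp (hspan w)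
  have hfin : FiniteDimensional F t := inferInstance
  have heq : fibB (κ := κ) x = t :=
    Submodule.eq_of_le_of_finrank_eq hle (by rw [h51_finrank_fibB hxy, hdim])
  refine ⟨x, hxy, ?_, heq.symm⟩
  have h0 := hti _ (hle ⟨u, rfl⟩) _ (hle ⟨f, rfl⟩)
  rw [Helper17_UT_BAS1.tf_pure, huf, mul_one] at h0
  exact h0

end Cfsg.Agent.Lib.Helper51_UT_ORB
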