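import Mathlib
import Cfsg.Agent.Lib.Helper37_UTDefs
import Cfsg.Agent.Lib.Helper94_UDDefs
import Cfsg.Agent.Lib.Helper73_Tens_TP1

set_option autoImplicit false
set_option linter.unusedSectionVars false
set_option linter.unusedVariables false

/-!
UTENS market (helper37), package **UT-TP1U**: an automorphism of `A ⊗ B` mapping every totally
isotropic fibre `x ⊗ B` onto a fibre `x' ⊗ B` is Kronecker.  (helper89)
-/

namespace Cfsg.Agent.Lib.Helper89_UT_TP1U

open Matrix Module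
open Cfsg.Agent.Lib.Helper98_ExtDefs Cfsg.Agent.Lib.Helper97_TensDefs
open Cfsg.Agent.Lib.Helper94_Herm Cfsg.Agent.Lib.Helper13_PSUSimple
open Cfsg.Agent.Lib.Helper67_UT2Defs Cfsg.Agent.Lib.Helper37_UTDefs
open Cfsg.Agent.Lib.Helper94_FrmDefs

variable {F : Type*} [Field F] {ι κ : Type*} [Fintype ι] [Fintype κ] [DecidableEq ι]
  [DecidableEq κ] {σ : F →+* F}
variable {α : (ι → F) →ₗ[F] (ι → F) →ₛₗ[σ] F} {β : (κ → F) →ₗ[F] (κ → F) →ₛₗ[σ] F}
variable {M : Subgroup (Matrix ι κ F ≃ₗ[F] Matrix ι κ F)}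

/-- if `u₃ ⊗ v₃ = u₁ ⊗ v₁ + u₂ ⊗ v₂` with `u₁`, `u₂` independent and `v₁ ≠ 0`, then `v₂` is a
multiple of `v₁` -/
theorem parallel_of_rank_one {u₁ u₂ u₃ : ι → F} {v₁ v₂ v₃ : κ → F}
    (hind : ∀ s t : F, s • u₁ + t • u₂ = 0 → s = 0 ∧ t = 0) (hv1 : v₁ ≠ 0)
    (h : vecMulVec u₃ v₃ = vecMulVec u₁ v₁ + vecMulVec u₂ v₂) : ∃ a : F, v₂ = a • v₁ := by
  have hcol : ∀ j, v₃ j • u₃ = v₁ j • u₁ + v₂ j • u₂ := by
    intro j
    ext i
    have := congrFun (congrFun h i) j
    simp only [vecMulVec_apply, Matrix.add_apply] at this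
    simp only [Pi.smul_apply, Pi.add_apply, smul_eq_mul]
    linear_combination this
  obtain ⟨j1, hj1⟩ : ∃ j, v₁ j ≠ 0 := by
    by_contra hcon
    push Not at hcon
    exact hv1 (funext hcon)
  have h31 : v₃ j1 ≠ 0 := by
    intro h0
    have := hcol j1
    rw [h0, zero_smul] at this
    exact hj1 (hind _ _ this.symm).1
  have key : ∀ j, v₁ j = (v₃ j / v₃ j1) * v₁ j1 ∧ v₂ j = (v₃ j / v₃ j1) * v₂ j1 := by
    intro j
    have h1 := hcol j
    have h2 := hcol j1
    have e1 : v₃ j • u₃ = (v₃ j / v₃ j1) • (v₃ j1 • u₃) := by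
      rw [smul_smul, div_mul_cancel₀ _ h31]
    have : (v₁ j - (v₃ j / v₃ j1) * v₁ j1) • u₁ + (v₂ j - (v₃ j / v₃ j1) * v₂ j1) • u₂ = 0 := by
      calc _ = (v₁ j • u₁ + v₂ j • u₂) - (v₃ j / v₃ j1) • (v₁ j1 • u₁ + v₂ j1 • u₂) := by
            rw [sub_smul, sub_smul, mul_smul, mul_smul, smul_add]; abel
        _ = 0 := by rw [← h1, ← h2, ← e1, sub_self]
    obtain ⟨ha, hb⟩ := hind _ _ this
    exact ⟨sub_eq_zero.mp ha, sub_eq_zero.mp hb⟩
  refine ⟨v₂ j1 / v₁ j1, ?_⟩
  ext j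
  simp only [Pi.smul_apply, smul_eq_mul]
  rw [(key j).2]
  conv_rhs => rw [(key j).1]
  field_simp

/-- two endomorphisms, the first injective, which are pointwise parallel are proportional -/
theorem prop_of_parallel (T₁ T₂ : (κ → F) →ₗ[F] (κ → F)) (hinj : Function.Injective T₁)
    (h : ∀ w, ∃ a : F, T₂ w = a • T₁ w) : ∃ c : F, ∀ w, T₂ w = c • T₁ w := by
  let e := LinearEquiv.ofInjectiveEndo T₁ hinj
  have he : ∀ w, e w = T₁ w := fun w => rfl
  let S : (κ → F) →ₗ[F] (κ → F) := T₂ ∘ₗ e.symm.toLinearMap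
  have hS : ∀ v : κ → F, ∃ a : F, (LinearMap.toMatrix' S) *ᵥ v = a • v := by
    intro v
    rw [LinearMap.toMatrix'_mulVec]
    obtain ⟨a, ha⟩ := h (e.symm v)
    refine ⟨a, ?_⟩
    show T₂ (e.symm v) = a • v
    rw [ha, ← he, e.apply_symm_apply]
  obtain ⟨c, hc⟩ := Cfsg.Agent.Lib.Helper73_Tens_TP2.scalar_of_forall_eigen _ hS
  refine ⟨c, fun w => ?_⟩
  have h1 : S (T₁ w) = c • T₁ w := by
    rw [← LinearMap.toMatrix'_mulVec, hc, smul_mulVec, one_mulVec]
  rw [← h1]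
  show T₂ w = T₂ (e.symm (T₁ w))
  rw [← he, e.symm_apply_apply]

/-- `x ⊗ w = x' ⊗ w'` with `w k = 1` forces `x = w' k • x'` -/
theorem eq_smul_of_vecMulVec_eq {x x' : ι → F} {w w' : κ → F} {k : κ} (hk : w k = 1)
    (h : vecMulVec x w = vecMulVec x' w') : x = w' k • x' := by
  ext i
  have := congrFun (congrFun h i) k
  simp only [vecMulVec_apply, hk, mul_one] at this
  rw [this, Pi.smul_apply, smul_eq_mul, mul_comm]

/-- TP1u (M): an automorphism mapping every totally isotropic fibre `x ⊗ B` onto a fibre `x' ⊗ B`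
is Kronecker. -/
theorem isKron_of_fibB [Finite F] (hσ : Invol σ) (hα : IsHerm α) (hαN : NondegOn α ⊤)
    (h2 : 2 ≤ Fintype.card ι) (g : Matrix ι κ F ≃ₗ[F] Matrix ι κ F)
    (h : ∀ x : ι → F, x ≠ 0 → α x x = 0 →
      ∃ x' : ι → F, x' ≠ 0 ∧ (fibB x).map g.toLinearMap = fibB x') : IsKron g := by
  rcases isEmpty_or_nonempty κ with hE | ⟨⟨k0⟩⟩
  · exact ⟨0, 0, fun X => Subsingleton.elim _ _⟩
  -- the nonzero isotropic vectors
  let I := {x : ι → F // x ≠ 0 ∧ α x x = 0}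
  choose φ hφ0 hφ using fun x : I => h x.1 x.2.1 x.2.2
  have ha : ∀ (x : I) (w : κ → F), ∃ w', g (vecMulVec x.1 w) = vecMulVec (φ x) w' := by
    intro x w
    have hmem : g (vecMulVec x.1 w) ∈ (fibB x.1).map g.toLinearMap :=
      Submodule.mem_map_of_mem (f := g.toLinearMap) ⟨w, rfl⟩
    rw [hφ x] at hmem
    exact hmem
  have hb : ∀ (x : I) (w' : κ → F), ∃ w, g (vecMulVec x.1 w) = vecMulVec (φ x) w' := by
    intro x w'
    have hmem : vecMulVec (φ x) w' ∈ fibB (κ := κ) (φ x) := ⟨w', rfl⟩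
    rw [← hφ x] at hmem
    obtain ⟨X, ⟨w, rfl⟩, hX⟩ := hmem
    exact ⟨w, hX⟩
  have hm : ∀ x : I, ∃ m, φ x m ≠ 0 := by
    intro x
    by_contra hcon
    push Not at hcon
    exact hφ0 x (funext hcon)
  choose m hm using hm
  -- the linear maps `T x`
  let T : I → ((κ → F) →ₗ[F] (κ → F)) := fun x =>
    { toFun := fun w j => g (vecMulVec x.1 w) (m x) j / φ x (m x)
      map_add' := by
        intro w w'
        ext j
        simp only [vecMulVec_add, map_add, Matrix.add_apply, Pi.add_apply, add_div]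
      map_smul' := by
        intro c w
        ext j
        simp only [vecMulVec_smul, map_smul, Matrix.smul_apply, Pi.smul_apply, smul_eq_mul,
          RingHom.id_apply, mul_div_assoc] }
  have hTdef : ∀ (x : I) w j, T x w j = g (vecMulVec x.1 w) (m x) j / φ x (m x) :=
    fun x w j => rfl
  have hT : ∀ (x : I) w, g (vecMulVec x.1 w) = vecMulVec (φ x) (T x w) := by
    intro x w
    obtain ⟨w', hw'⟩ := ha x w
    rw [hw']
    congr 1
    ext j
    rw [hTdef, hw', vecMulVec_apply, mul_div_cancel_left₀ _ (hm x)]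
  have hTinj : ∀ x : I, Function.Injective (T x) := by
    intro x
    rw [← LinearMap.ker_eq_bot, LinearMap.ker_eq_bot']
    intro w hw
    have h1 := hT x w
    rw [hw] at h1
    have h0 : vecMulVec x.1 w = 0 := by
      apply g.injective
      rw [h1, map_zero]
      ext i j
      simp [vecMulVec_apply]
    obtain ⟨i, hi⟩ : ∃ i, x.1 i ≠ 0 := by
      by_contra hcon
      push Not at hcon
      exact x.2.1 (funext hcon)
    ext j
    have := congrFun (congrFun h0 i) j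
    simp only [vecMulVec_apply, Matrix.zero_apply] at this
    exact (mul_eq_zero.mp this).resolve_left hi
  -- independence of the images of a hyperbolic pair
  have hindep : ∀ x₁ x₂ : I, α x₁.1 x₂.1 ≠ 0 →
      ∀ s t : F, s • φ x₁ + t • φ x₂ = 0 → s = 0 ∧ t = 0 := by
    intro x₁ x₂ h12 s t hst
    have hs : s = 0 := by
      by_contra hs
      have e1 : φ x₁ = (-(t / s)) • φ x₂ := by
        have : s • φ x₁ = -(t • φ x₂) := eq_neg_of_add_eq_zero_left hst
        calc φ x₁ = s⁻¹ • (s • φ x₁) := by rw [smul_smul, inv_mul_cancel₀ hs, one_smul]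
          _ = _ := by rw [this, smul_neg, smul_smul, neg_smul]; congr 2; field_simp
      obtain ⟨v, hv⟩ := ha x₁ (Pi.single k0 1)
      obtain ⟨w', hw'⟩ := hb x₂ ((-(t / s)) • v)
      have e2 : g (vecMulVec x₁.1 (Pi.single k0 1)) = g (vecMulVec x₂.1 w') := by
        rw [hv, hw', e1, smul_vecMulVec, vecMulVec_smul]
      have e3 := eq_smul_of_vecMulVec_eq (k := k0) (by simp) (g.injective e2)
      apply h12
      rw [e3, map_smul, LinearMap.smul_apply, x₂.2.2, smul_zero]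
    refine ⟨hs, ?_⟩
    rw [hs, zero_smul, zero_add] at hst
    exact (smul_eq_zero.mp hst).resolve_right (hφ0 x₂)
  -- the pair lemma
  have hpair : ∀ x₁ x₂ : I, α x₁.1 x₂.1 ≠ 0 → ∃ c : F, ∀ w, T x₂ w = c • T x₁ w := by
    intro x₁ x₂ h12
    obtain ⟨ζ, hζ0, hζ⟩ := exists_skew hσ
    set b := α x₁.1 x₂.1 with hbdef
    have hσb : σ b ≠ 0 := (map_ne_zero σ).mpr h12
    set t := ζ / σ b with htdef
    have ht0 : t ≠ 0 := div_ne_zero hζ0 hσb
    have h3iso : α (x₁.1 + t • x₂.1) (x₁.1 + t • x₂.1) = 0 := by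
      rw [self_add hα, self_smul, x₁.2.2, x₂.2.2, map_smulₛₗ, smul_eq_mul, ← hbdef, map_mul,
        hσ.invol, htdef, map_div₀, hσ.invol, hζ]
      field_simp
      ring
    have h3ne : x₁.1 + t • x₂.1 ≠ 0 := by
      intro h0
      apply h12
      have : α (x₁.1 + t • x₂.1) x₂.1 = 0 := by rw [h0]; simp
      rw [map_add, map_smul, LinearMap.add_apply, LinearMap.smul_apply, x₂.2.2, smul_zero,
        add_zero] at this
      exact this
    let x₃ : I := ⟨x₁.1 + t • x₂.1, h3ne, h3iso⟩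
    apply prop_of_parallel (T x₁) (T x₂) (hTinj x₁)
    intro w
    by_cases hw : w = 0
    · exact ⟨0, by rw [hw, map_zero, map_zero, smul_zero]⟩
    have hv1 : T x₁ w ≠ 0 := by
      intro h0
      apply hw
      apply hTinj x₁
      rw [h0, map_zero]
    have hE : vecMulVec (φ x₃) (T x₃ w) = vecMulVec (φ x₁) (T x₁ w)
        + vecMulVec (φ x₂) (t • T x₂ w) := by
      rw [← hT x₃ w, vecMulVec_smul, ← hT x₁ w, ← hT x₂ w, ← map_smul, ← map_add]
      congr 1
      rw [add_vecMulVec, smul_vecMulVec]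
    obtain ⟨a, ha'⟩ := parallel_of_rank_one (hindep x₁ x₂ h12) hv1 hE
    refine ⟨t⁻¹ * a, ?_⟩
    rw [mul_smul, ← ha', smul_smul, inv_mul_cancel₀ ht0, one_smul]
  -- a base point
  obtain ⟨x₀⟩ : Nonempty I := by
    obtain ⟨i0, i1, h01⟩ := Fintype.exists_pair_of_one_lt_card (lt_of_lt_of_le one_lt_two h2)
    have hx : (Pi.single i0 (1 : F) : ι → F) ≠ 0 := fun hk =>
      one_ne_zero (α := F) (by simpa using congrFun hk i0)
    have hy : (Pi.single i1 (1 : F) : ι → F) ∉ Submodule.span F {(Pi.single i0 (1 : F) : ι → F)} := by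
      intro hmem
      obtain ⟨r, hr⟩ := Submodule.mem_span_singleton.mp hmem
      have := congrFun hr i1
      simp [Ne.symm h01] at this
    obtain ⟨a, b, hne, hiso⟩ := exists_iso hσ hα (B := α) hx hy
    exact ⟨⟨_, hne, hiso⟩⟩
  -- all `T x` are proportional to `T x₀`
  have hall : ∀ x : I, ∃ c : F, ∀ w, T x w = c • T x₀ w := by
    intro x
    by_cases h0x : α x₀.1 x.1 = 0
    · obtain ⟨y, -, hyiso, h0y, hxy⟩ := exists_connect hσ hα hαN (b := x₀.1) (b' := x.1)
        Submodule.mem_top Submodule.mem_top x₀.2.1 x.2.1 x₀.2.2 h0x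
      have hy0 : y ≠ 0 := by
        intro hy
        rw [hy, map_zero] at h0y
        exact h0y rfl
      obtain ⟨c₁, hc₁⟩ := hpair x₀ ⟨y, hy0, hyiso⟩ h0y
      obtain ⟨c₂, hc₂⟩ := hpair ⟨y, hy0, hyiso⟩ x (herm_ne_zero hσ hα hxy)
      exact ⟨c₂ * c₁, fun w => by rw [hc₂, hc₁, smul_smul]⟩
    · exact hpair x₀ x h0x
  choose c hc using hall
  -- the second factor `Q` and the first factor `P`
  have hQ0 : T x₀ (Pi.single k0 1) ≠ 0 := by
    intro h0
    have := hTinj x₀ (h0.trans (map_zero (T x₀)).symm)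
    have := congrFun this k0
    simp at this
  obtain ⟨j0, hj0⟩ : ∃ j, T x₀ (Pi.single k0 1) j ≠ 0 := by
    by_contra hcon
    push Not at hcon
    exact hQ0 (funext hcon)
  let P : (ι → F) →ₗ[F] (ι → F) :=
    { toFun := fun x i => g (vecMulVec x (Pi.single k0 1)) i j0 / T x₀ (Pi.single k0 1) j0
      map_add' := by
        intro x x'
        ext i
        simp only [add_vecMulVec, map_add, Matrix.add_apply, Pi.add_apply, add_div]
      map_smul' := by
        intro r x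
        ext i
        simp only [smul_vecMulVec, map_smul, Matrix.smul_apply, Pi.smul_apply, smul_eq_mul,
          RingHom.id_apply, mul_div_assoc] }
  have hPdef : ∀ x i, P x i = g (vecMulVec x (Pi.single k0 1)) i j0 / T x₀ (Pi.single k0 1) j0 :=
    fun x i => rfl
  have hgI : ∀ (x : I) w, g (vecMulVec x.1 w) = vecMulVec (c x • φ x) (T x₀ w) := by
    intro x w
    rw [hT, hc, vecMulVec_smul, smul_vecMulVec]
  have hPI : ∀ x : I, P x.1 = c x • φ x := by
    intro x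
    ext i
    rw [hPdef, hgI, vecMulVec_apply, mul_div_cancel_right₀ _ hj0]
  -- a hyperbolic pair, so that the isotropic vectors span
  obtain ⟨f, -, hf, h0f⟩ := exists_partner hσ hα hαN (u := x₀.1) Submodule.mem_top x₀.2.1 x₀.2.2
  have hspan := span_iso hσ hα (U := ⊤) (e := x₀.1) (f := f) Submodule.mem_top Submodule.mem_top
    x₀.2.2 hf h0f
  -- `g` agrees with `P ⊗ Q` on pure tensors
  have hpure : ∀ (x : ι → F) (w : κ → F), g (vecMulVec x w) = vecMulVec (P x) (T x₀ w) := by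
    intro x w
    let L₁ : (ι → F) →ₗ[F] Matrix ι κ F := g.toLinearMap ∘ₗ (vecMulVecBilin F F).flip w
    let L₂ : (ι → F) →ₗ[F] Matrix ι κ F := (vecMulVecBilin F F).flip (T x₀ w) ∘ₗ P
    have hL : Set.EqOn L₁ L₂ {z | z ∈ (⊤ : Submodule F (ι → F)) ∧ α z z = 0} := by
      rintro z ⟨-, hz⟩
      show g (vecMulVec z w) = vecMulVec (P z) (T x₀ w)
      by_cases hz0 : z = 0
      · rw [hz0, map_zero, zero_vecMulVec, zero_vecMulVec, map_zero]
      · rw [hgI ⟨z, hz0, hz⟩ w, ← hPI ⟨z, hz0, hz⟩]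
    exact LinearMap.eqOn_span hL (hspan x Submodule.mem_top)
  refine ⟨LinearMap.toMatrix' P, LinearMap.toMatrix' (T x₀), fun X => ?_⟩
  rw [← tm_apply]
  conv_lhs => rw [Cfsg.Agent.Lib.Helper73_Tens_TP1.eq_sum_col X]
  conv_rhs => rw [Cfsg.Agent.Lib.Helper73_Tens_TP1.eq_sum_col X]
  rw [map_sum, map_sum]
  refine Finset.sum_congr rfl (fun k _ => ?_)
  rw [hpure, tm_pure]

end Cfsg.Agent.Lib.Helper89_UT_TP1U
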