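import Mathlib
import Cfsg.Agent.Lib.Helper37_UTDefs
import Cfsg.Agent.Lib.Helper37_UTPairDefs
import Cfsg.Agent.Lib.Helper17_UT_BAS1
import Cfsg.Agent.Lib.Helper44_UT_BAS4
import Cfsg.Agent.Lib.Helper42_UT_BAS6
import Cfsg.Agent.Lib.Helper89_UT_TP1U
import Cfsg.Agent.Lib.Helper51_UT_ORB
import Cfsg.Agent.Lib.Helper27_UQ_GEN
import Cfsg.Agent.Lib.Helper14_PSULocal1

/-!
# UTENS market `utens_packages` (architect helper37), wave 2, package UT-PAIREX (helper10)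
`pair_exists`: a non-Kronecker element of `M` gives a maximal pair of lines of the orbit of `ℓ_x = x ⊗ B`.
-/

set_option autoImplicit false
set_option linter.unusedSectionVars false
set_option linter.unusedVariables false

namespace Cfsg.Agent.Lib.Helper10_UT_PAIREX

open Matrix Module
open Cfsg.Agent.Lib.Helper98_ExtDefs Cfsg.Agent.Lib.Helper97_TensDefs
open Cfsg.Agent.Lib.Helper94_Herm Cfsg.Agent.Lib.Helper13_PSUSimple
open Cfsg.Agent.Lib.Helper67_UT2Defs Cfsg.Agent.Lib.Helper37_UTDefs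
open Cfsg.Agent.Lib.Helper94_FrmDefs Cfsg.Agent.Lib.Helper37_UTPairDefs

variable {F : Type*} [Field F] {ι κ : Type*} [Fintype ι] [Fintype κ] [DecidableEq ι]
  [DecidableEq κ] {σ : F →+* F}
variable {α : (ι → F) →ₗ[F] (ι → F) →ₛₗ[σ] F} {β : (κ → F) →ₗ[F] (κ → F) →ₛₗ[σ] F}
variable {M : Subgroup (Matrix ι κ F ≃ₗ[F] Matrix ι κ F)}

/-! ### generalities -/

/-- `finrank t ≤ rank N + finrank (t ⊓ ker N)` -/
theorem finrank_le_range_add_inf_ker {V : Type*} [AddCommGroup V] [Module F V]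
    [FiniteDimensional F V] (N : V →ₗ[F] V) (t : Submodule F V) :
    finrank F ↥t ≤ finrank F ↥(LinearMap.range N) + finrank F ↥(t ⊓ LinearMap.ker N) := by
  have h1 := LinearMap.finrank_range_add_finrank_ker (N.domRestrict t)
  rw [LinearMap.range_domRestrict, LinearMap.ker_domRestrict] at h1
  have h2 : finrank F ↥((LinearMap.ker N).comap t.subtype) = finrank F ↥(t ⊓ LinearMap.ker N) := by
    rw [← Submodule.finrank_map_subtype_eq t ((LinearMap.ker N).comap t.subtype),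
      Submodule.map_comap_subtype]
  have h3 : finrank F ↥(t.map N) ≤ finrank F ↥(LinearMap.range N) :=
    Submodule.finrank_mono (LinearMap.map_le_range)
  omega

/-- the linear map `a ↦ a ⊗ y` -/
def vmL (y : κ → F) : (ι → F) →ₗ[F] Matrix ι κ F where
  toFun a := vecMulVec a y
  map_add' a a' := add_vecMulVec a a' y
  map_smul' c a := smul_vecMulVec c a y

theorem fibB_eq_range (x : ι → F) : fibB (κ := κ) x = LinearMap.range (vmR x) := by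
  ext X
  rw [mem_fibB, LinearMap.mem_range]
  constructor
  · rintro ⟨w, rfl⟩
    exact ⟨w, rfl⟩
  · rintro ⟨w, rfl⟩
    exact ⟨w, rfl⟩

theorem vmR_injective {x : ι → F} (hx0 : x ≠ 0) : Function.Injective (vmR (κ := κ) x) := by
  obtain ⟨i, hi⟩ : ∃ i, x i ≠ 0 := by
    by_contra h
    push Not at h
    exact hx0 (funext h)
  intro w w' h
  ext j
  have := congrFun (congrFun h i) j
  simp only [vmR_apply, vecMulVec_apply] at this
  exact mul_left_cancel₀ hi this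

theorem finrank_fibB {x : ι → F} (hx0 : x ≠ 0) :
    finrank F ↥(fibB (κ := κ) x) = Fintype.card κ := by
  rw [fibB_eq_range, LinearMap.finrank_range_of_inj (vmR_injective hx0),
    finrank_fintype_fun_eq_card]

theorem finrank_Lg' {x : ι → F} (hx0 : x ≠ 0) (g : Matrix ι κ F ≃ₗ[F] Matrix ι κ F) :
    finrank F ↥(Lg x g) = Fintype.card κ := by
  unfold Lg
  rw [LinearEquiv.finrank_map_eq g (fibB x), finrank_fibB hx0]

theorem finrank_range_nI_le (y : κ → F) :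
    finrank F ↥(LinearMap.range (nI (ι := ι) β y)) ≤ Fintype.card ι := by
  have h1 : LinearMap.range (nI (ι := ι) β y) ≤ LinearMap.range (vmL (ι := ι) y) := by
    rintro _ ⟨X, rfl⟩
    rw [Cfsg.Agent.Lib.Helper17_UT_BAS1.nI_apply]
    exact ⟨ctrB β y X, rfl⟩
  calc finrank F ↥(LinearMap.range (nI (ι := ι) β y))
      ≤ finrank F ↥(LinearMap.range (vmL (ι := ι) y)) := Submodule.finrank_mono h1
    _ ≤ finrank F (ι → F) := LinearMap.finrank_range_le _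
    _ = Fintype.card ι := finrank_fintype_fun_eq_card F

theorem Lg_ti {g : Matrix ι κ F ≃ₗ[F] Matrix ι κ F} (hg : g ∈ uG (tf α β))
    {x : ι → F} (hx : α x x = 0) :
    ∀ X ∈ Lg x g, ∀ Y ∈ Lg x g, tf α β X Y = 0 := by
  intro X hX Y hY
  obtain ⟨w, rfl⟩ := mem_Lg.mp hX
  obtain ⟨w', rfl⟩ := mem_Lg.mp hY
  rw [hg, Cfsg.Agent.Lib.Helper17_UT_BAS1.tf_pure, hx, zero_mul]

/-- translation of lines -/
theorem Lg_map_inj (x : ι → F) (h g₁ g₂ : Matrix ι κ F ≃ₗ[F] Matrix ι κ F) :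
    Lg x (h * g₁) = Lg x (h * g₂) ↔ Lg x g₁ = Lg x g₂ := by
  rw [Lg_mul, Lg_mul]
  constructor
  · intro e
    exact Submodule.map_injective_of_injective h.injective e
  · intro e
    rw [e]

theorem finrank_Lg_inf (x : ι → F) (h g₁ g₂ : Matrix ι κ F ≃ₗ[F] Matrix ι κ F) :
    finrank F ↥(Lg x (h * g₁) ⊓ Lg x (h * g₂)) = finrank F ↥(Lg x g₁ ⊓ Lg x g₂) := by
  rw [Lg_mul, Lg_mul, ← Submodule.map_inf _ h.injective]
  exact LinearEquiv.finrank_map_eq h _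

/-! ## PAIREX (L): a non-Kronecker element gives a maximal pair -/

/-- two different lines of the orbit meeting nontrivially -/
theorem exists_meeting [Finite F] (hC : UTCtx α β M) {x : ι → F} (hx0 : x ≠ 0) (hx : α x x = 0)
    {g₀ : Matrix ι κ F ≃ₗ[F] Matrix ι κ F} (hg₀ : g₀ ∈ M) (hnk : ¬ IsKron g₀) :
    ∃ g₁ ∈ M, ∃ g₂ ∈ M, Lg x g₁ ≠ Lg x g₂ ∧ 1 ≤ finrank F ↥(Lg x g₁ ⊓ Lg x g₂) := by
  have hMu : M ≤ uG (tf α β) := fun g hg => (mem_SUg.mp (hC.hM hg)).1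
  -- an isotropic `x₁` with `g₀ ℓ_{x₁}` not a fibre
  obtain ⟨x₁, hx₁0, hx₁, hnf⟩ : ∃ x₁ : ι → F, x₁ ≠ 0 ∧ α x₁ x₁ = 0 ∧
      ∀ x' : ι → F, x' ≠ 0 → (fibB x₁).map g₀.toLinearMap ≠ fibB x' := by
    by_contra hcon
    push Not at hcon
    apply hnk
    apply Cfsg.Agent.Lib.Helper89_UT_TP1U.isKron_of_fibB hC.hσ hC.hα hC.hαN
      (le_trans (by norm_num) hC.ha) g₀
    intro x₁ hx₁0 hx₁
    exact hcon x₁ hx₁0 hx₁
  have h3 : 3 ≤ finrank F (ι → F) := by rw [finrank_fintype_fun_eq_card]; exact hC.ha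
  obtain ⟨P₀, hP₀, hP₀x⟩ := Cfsg.Agent.Lib.Helper27_UQ_GEN.SUg_trans_iso hC.hσ hC.hα hC.hαN h3
    hx0 hx₁0 hx hx₁
  have hn : tmE P₀ (1 : (κ → F) ≃ₗ[F] (κ → F)) ∈ M :=
    Cfsg.Agent.Lib.Helper44_UT_BAS4.tmE_mem hC hP₀ (Subgroup.one_mem _)
  set n := tmE P₀ (1 : (κ → F) ≃ₗ[F] (κ → F)) with hn_def
  have hLn : Lg x n = fibB x₁ := by
    ext X
    rw [mem_Lg, mem_fibB]
    constructor
    · rintro ⟨w, rfl⟩
      refine ⟨w, ?_⟩
      rw [hn_def, tmE_pure, hP₀x]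
      rfl
    · rintro ⟨w, rfl⟩
      refine ⟨w, ?_⟩
      rw [hn_def, tmE_pure, hP₀x]
      rfl
  have hg₂ : g₀ * n ∈ M := M.mul_mem hg₀ hn
  have ht : Lg x (g₀ * n) = (fibB x₁).map g₀.toLinearMap := by rw [Lg_mul, hLn]
  -- `t` is not invariant under some `1 ⊗ P_y`
  have hbpos : 2 ≤ Fintype.card κ := by
    have := hC.ha
    have := hC.hab
    omega
  obtain ⟨y, hy, X, hXt, hXn⟩ : ∃ y : κ → F, β y y = 0 ∧ ∃ X ∈ Lg x (g₀ * n),
      nI β y X ∉ Lg x (g₀ * n) := by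
    by_contra hcon
    push Not at hcon
    obtain ⟨x', hx'0, -, hx'⟩ := Cfsg.Agent.Lib.Helper51_UT_ORB.fibB_of_invariant hC.hσ hC.hα hC.hαN
      hC.hβ hC.hβN hbpos (Lg x (g₀ * n)) (finrank_Lg' hx0 _) (Lg_ti (hMu hg₂) hx)
      (fun y hy X hX => hcon y hy X hX)
    exact hnf x' hx'0 (ht ▸ hx')
  obtain ⟨s, hs0, hs⟩ := exists_skew hC.hσ
  have hu : tmE (1 : (ι → F) ≃ₗ[F] (ι → F)) (utv β y s) ∈ M :=
    Cfsg.Agent.Lib.Helper44_UT_BAS4.tmE_mem hC (Subgroup.one_mem _)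
      (Cfsg.Agent.Lib.Helper14_PSULocal1.utv_mem_SUg hC.hβ y hs)
  set u := tmE (1 : (ι → F) ≃ₗ[F] (ι → F)) (utv β y s) with hu_def
  have hu_apply : ∀ Y, u Y = Y + s • nI β y Y := fun Y =>
    Cfsg.Agent.Lib.Helper42_UT_BAS6.tmE_utv_right hy s Y
  refine ⟨u * (g₀ * n), M.mul_mem hu hg₂, g₀ * n, hg₂, ?_, ?_⟩
  · intro heq
    apply hXn
    have h1 : u X ∈ Lg x (u * (g₀ * n)) := by
      rw [Lg_mul]
      exact Submodule.mem_map_of_mem hXt
    rw [heq, hu_apply] at h1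
    have h2 : s • nI β y X ∈ Lg x (g₀ * n) := by
      have := Submodule.sub_mem _ h1 hXt
      rwa [add_sub_cancel_left] at this
    have := Submodule.smul_mem _ s⁻¹ h2
    rwa [smul_smul, inv_mul_cancel₀ hs0, one_smul] at this
  · have hsub : Lg x (g₀ * n) ⊓ LinearMap.ker (nI β y) ≤ Lg x (u * (g₀ * n)) ⊓ Lg x (g₀ * n) := by
      rintro Y ⟨hY1, hY2⟩
      refine ⟨?_, hY1⟩
      rw [Lg_mul]
      refine ⟨Y, hY1, ?_⟩
      show u Y = Y
      rw [hu_apply, LinearMap.mem_ker.mp hY2, smul_zero, add_zero]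
    have h1 := finrank_le_range_add_inf_ker (nI (ι := ι) β y) (Lg x (g₀ * n))
    rw [finrank_Lg' hx0] at h1
    have h2 := finrank_range_nI_le (ι := ι) (β := β) y
    have h4 := Submodule.finrank_mono hsub
    have := hC.hab
    omega

theorem pair_exists [Finite F] (hC : UTCtx α β M) {x : ι → F} (hx0 : x ≠ 0) (hx : α x x = 0)
    {g₀ : Matrix ι κ F ≃ₗ[F] Matrix ι κ F} (hg₀ : g₀ ∈ M) (hnk : ¬ IsKron g₀) :
    ∃ (d : ℕ) (g : Matrix ι κ F ≃ₗ[F] Matrix ι κ F), 1 ≤ d ∧ MaxD x M d ∧ IsPair x M d 1 g := by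
  classical
  obtain ⟨g₁, hg₁, g₂, hg₂, hne, hd1⟩ := exists_meeting hC hx0 hx hg₀ hnk
  let P : ℕ → Prop := fun d => ∃ g₁ ∈ M, ∃ g₂ ∈ M, Lg x g₁ ≠ Lg x g₂ ∧
    finrank F ↥(Lg x g₁ ⊓ Lg x g₂) = d
  set D := finrank F (Matrix ι κ F) with hD
  have hbound : ∀ p : Submodule F (Matrix ι κ F), finrank F ↥p ≤ D := fun p =>
    Submodule.finrank_le p
  have hP0 : P (finrank F ↥(Lg x g₁ ⊓ Lg x g₂)) := ⟨g₁, hg₁, g₂, hg₂, hne, rfl⟩
  have hspec : P (Nat.findGreatest P D) := Nat.findGreatest_spec (hbound _) hP0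
  have hle : ∀ m, P m → m ≤ Nat.findGreatest P D := by
    rintro m ⟨a₁, ha₁, a₂, ha₂, hane, rfl⟩
    exact Nat.le_findGreatest (hbound _) ⟨a₁, ha₁, a₂, ha₂, hane, rfl⟩
  obtain ⟨a₁, ha₁, a₂, ha₂, hane, hdim⟩ := hspec
  refine ⟨Nat.findGreatest P D, a₁⁻¹ * a₂, le_trans hd1 (hle _ hP0), ?_, ?_⟩
  · intro b₁ hb₁ b₂ hb₂ hbne
    exact hle _ ⟨b₁, hb₁, b₂, hb₂, hbne, rfl⟩
  · have h1 : (1 : Matrix ι κ F ≃ₗ[F] Matrix ι κ F) = a₁⁻¹ * a₁ := (inv_mul_cancel a₁).symm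
    refine ⟨M.one_mem, M.mul_mem (M.inv_mem ha₁) ha₂, ?_, ?_⟩
    · rw [h1, Ne, Lg_map_inj]
      exact hane
    · rw [h1, finrank_Lg_inf]
      exact hdim

end Cfsg.Agent.Lib.Helper10_UT_PAIREX
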