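import Mathlib
import Cfsg.Agent.Lib.Helper67_UT2Defs
import Cfsg.Agent.Lib.Helper98_ExtDefs

set_option autoImplicit false

/-!
# The normaliser of an extension field of odd prime degree `r` in `SU_{2r}(q)` (`dim_K V = 2`):
shared definitions (helper97, project UEXT2)

Abstract setting: `F` a finite field with an involution `σ` (`Helper94_Herm.Invol σ`), `K ⊇ F` a
finite field with a ring involution `τ` extending `σ` (`TauExt σ τ`).  `W := K` as an `F`-space with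
the hermitian trace form `trT h x y = Tr_{K/F}(x * τ y)`; `V := K × K` with the hermitian form
`uf (trT h)` of `Helper67_UT2Defs` (`uf β x y = β x.1 y.2 + β x.2 y.1`).  `K` acts on `K × K`
coordinatewise (`k • (u, u') = (k * u, k * u')`).  Subgroups of `SU(V)` are subgroups of
`(K × K) ≃ₗ[F] (K × K)`.

Reused: `ux S`, `lx S`, `G0`, `Lg g`, `DI g` of `Helper67_Tens2Defs` (form independent),
`IsSemilin`, `HasMap` of `Helper98_ExtDefs`, `UU` of `Helper94_FrmDefs`.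

* `mK κ` : multiplication by `κ` as an `F`-linear map of `K`.
* `dK a b` : `(u, u') ↦ (a u, b u')`;  `hEK l := dK l (τ l)⁻¹`;  `wK κ : (u,u') ↦ (κ u', -κ⁻¹ u)`.
* `nu τ x = x.1 * τ x.2 + x.2 * τ x.1` : the `K`-hermitian norm of `x`.
* `IsKinv t` : the `F`-subspace `t` of `K × K` is `K`-invariant.
* `HypX h M`, `Arith σ τ`, `HasTvX h M`, `MaxCfg M y`, `Cfg h M y p₀ a₀ j`.
* `eX p₀ κ`, `zX y j κ'`, `tX h p₀ κ`, `sX h y j κ'`, `famMap f e ζ s`, `PhiX f x y` : the commutator family.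
-/

namespace Cfsg.Agent.Lib.Helper97_UExtDefs

open Module
open Cfsg.Agent.Lib.Helper94_Symp Cfsg.Agent.Lib.Helper94_Herm Cfsg.Agent.Lib.Helper13_PSUSimple
  Cfsg.Agent.Lib.Helper67_Tens2Defs Cfsg.Agent.Lib.Helper67_UT2Defs Cfsg.Agent.Lib.Helper98_ExtDefs

variable {F K : Type*} [Field F] [Field K] [Algebra F K] {σ : F →+* F} {τ : K →+* K}

/-- `τ` is a ring involution of `K` extending the involution `σ` of `F` -/
structure TauExt (σ : F →+* F) (τ : K →+* K) : Prop where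
  invol : ∀ k, τ (τ k) = k
  ext : ∀ a : F, τ (algebraMap F K a) = algebraMap F K (σ a)

theorem TauExt.map_smul (h : TauExt σ τ) (a : F) (k : K) : τ (a • k) = σ a • τ k := by
  rw [Algebra.smul_def, map_mul, h.ext, ← Algebra.smul_def]

theorem TauExt.toInvol (h : TauExt σ τ) (hσ : Invol σ) : Invol τ := by
  refine ⟨h.invol, ?_⟩
  obtain ⟨θ, hθ⟩ := hσ.ne_id
  refine ⟨algebraMap F K θ, fun hh => hθ ?_⟩
  rw [h.ext] at hh
  exact (algebraMap F K).injective hh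

/-- the hermitian trace form `T x y = Tr_{K/F}(x * τ y)` on `K` -/
noncomputable def trT (h : TauExt σ τ) : K →ₗ[F] K →ₛₗ[σ] F :=
  LinearMap.mk₂'ₛₗ (RingHom.id F) σ (fun x y => Algebra.trace F K (x * τ y))
    (by intro x x' y; simp only [add_mul, map_add])
    (by intro c x y; simp only [smul_mul_assoc, map_smul, RingHom.id_apply])
    (by intro x y y'; simp only [map_add, mul_add])
    (by intro c x y; simp only [h.map_smul, mul_smul_comm, map_smul])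

@[simp] theorem trT_apply (h : TauExt σ τ) (x y : K) :
    trT h x y = Algebra.trace F K (x * τ y) := rfl

/-- multiplication by `κ` as an `F`-linear map of `K` -/
def mK (κ : K) : K →ₗ[F] K := LinearMap.mulLeft F κ

@[simp] theorem mK_apply (κ x : K) : (mK κ : K →ₗ[F] K) x = κ * x := rfl

/-- `(u, u') ↦ (a u, b u')` -/
def dK (a b : Kˣ) : (K × K) ≃ₗ[F] (K × K) where
  toFun x := ((a : K) * x.1, (b : K) * x.2)
  map_add' x y := by ext <;> simp [mul_add]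
  map_smul' c x := by ext <;> simp
  invFun x := (((a⁻¹ : Kˣ) : K) * x.1, ((b⁻¹ : Kˣ) : K) * x.2)
  left_inv x := by ext <;> simp
  right_inv x := by ext <;> simp

@[simp] theorem dK_apply (a b : Kˣ) (x : K × K) :
    (dK a b : (K × K) ≃ₗ[F] (K × K)) x = ((a : K) * x.1, (b : K) * x.2) := rfl

/-- the torus element `(u, u') ↦ (l u, (τ l)⁻¹ u')` -/
def hEK (τ : K →+* K) (l : Kˣ) : (K × K) ≃ₗ[F] (K × K) := dK l (Units.map (τ : K →* K) l)⁻¹

theorem hEK_apply (τ : K →+* K) (l : Kˣ) (x : K × K) :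
    (hEK τ l : (K × K) ≃ₗ[F] (K × K)) x = ((l : K) * x.1, (τ (l : K))⁻¹ * x.2) := by
  simp [hEK]

/-- `(u, u') ↦ (κ u', -κ⁻¹ u)` -/
def wK (κ : Kˣ) : (K × K) ≃ₗ[F] (K × K) where
  toFun x := ((κ : K) * x.2, -(((κ⁻¹ : Kˣ) : K) * x.1))
  map_add' x y := by ext <;> simp [mul_add, add_comm]
  map_smul' c x := by ext <;> simp
  invFun x := (-((κ : K) * x.2), ((κ⁻¹ : Kˣ) : K) * x.1)
  left_inv x := by ext <;> simp
  right_inv x := by ext <;> simp

@[simp] theorem wK_apply (κ : Kˣ) (x : K × K) :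
    (wK κ : (K × K) ≃ₗ[F] (K × K)) x = ((κ : K) * x.2, -(((κ⁻¹ : Kˣ) : K) * x.1)) := rfl

/-- the `K`-hermitian norm `x.1 * τ x.2 + x.2 * τ x.1` of `x ∈ K × K` -/
def nu (τ : K →+* K) (x : K × K) : K := x.1 * τ x.2 + x.2 * τ x.1

/-- the `F`-subspace `t` of `K × K` is `K`-invariant -/
def IsKinv (t : Submodule F (K × K)) : Prop := ∀ (k : K) (x : K × K), x ∈ t → k • x ∈ t

/-- `M` consists of isometries of `uf (trT h)` and contains the root elements `ux κ`, `lx κ`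
(`τ κ = -κ`) and the torus elements `hEK τ l` with `N_{K/F}(l)` fixed by `σ` -/
structure HypX (h : TauExt σ τ) (M : Subgroup ((K × K) ≃ₗ[F] (K × K))) : Prop where
  le : M ≤ uG (uf (trT h))
  ux_mem : ∀ κ : K, τ κ = -κ → ux (mK κ : K →ₗ[F] K) ∈ M
  lx_mem : ∀ κ : K, τ κ = -κ → lx (mK κ : K →ₗ[F] K) ∈ M
  h_mem : ∀ l : Kˣ, σ (Algebra.norm F (l : K)) = Algebra.norm F (l : K) → hEK τ l ∈ M

/-- the arithmetic condition: a torus element outside `F · K₀` -/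
def Arith (σ : F →+* F) (τ : K →+* K) : Prop :=
  ∃ l : Kˣ, σ (Algebra.norm F (l : K)) = Algebra.norm F (l : K) ∧
    ∀ (a : F) (k : K), τ k = k → (l : K) ≠ a • k

/-- `M` contains a nontrivial unitary transvection with centre in `K × 0` -/
def HasTvX (h : TauExt σ τ) (M : Subgroup ((K × K) ≃ₗ[F] (K × K))) : Prop :=
  ∃ (ε : K) (c : F), ε ≠ 0 ∧ c ≠ 0 ∧ σ c = -c ∧ utv (uf (trT h)) ((ε, 0) : K × K) c ∈ M

/-- the pair `(G0, Lg y)` realises the maximal dimension of the intersection of two distinct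
members of the orbit `{Lg g : g ∈ M}`, and this dimension is positive -/
structure MaxCfg (M : Subgroup ((K × K) ≃ₗ[F] (K × K))) (y : (K × K) ≃ₗ[F] (K × K)) : Prop where
  hy : y ∈ M
  hne : Lg y ≠ (G0 : Submodule F (K × K))
  hpos : (G0 : Submodule F (K × K)) ⊓ Lg y ≠ ⊥
  hmax : ∀ g ∈ M, ∀ g' ∈ M, Lg g ≠ Lg g' →
    finrank F ↥(Lg g ⊓ Lg g') ≤ finrank F ↥((G0 : Submodule F (K × K)) ⊓ Lg y)

/-- the configuration: `t' = Lg y = (G0 ⊓ t') ⊕ F (a₀, p₀)`, `G0 ⊓ t' = p₀^⊥ × 0`, `T p₀ j = 1` -/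
structure Cfg (h : TauExt σ τ) (M : Subgroup ((K × K) ≃ₗ[F] (K × K)))
    (y : (K × K) ≃ₗ[F] (K × K)) (p₀ a₀ j : K) : Prop where
  hy : y ∈ M
  hu₀ : ((a₀, p₀) : K × K) ∈ Lg y
  hP : ∀ x ∈ Lg y, ∃ a : F, x.2 = a • p₀
  hD : ∀ c : K, ((c, 0) : K × K) ∈ Lg y ↔ trT h c p₀ = 0
  hj : trT h p₀ j = 1

/-- the map `v ↦ v + f v x • y + f v y • x` -/
def PhiX (f : (K × K) →ₗ[F] (K × K) →ₛₗ[σ] F) (x y : K × K) : K × K → K × K :=
  fun v => v + f v x • y + f v y • x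

/-- `e(κ) = (κ p₀, 0)` -/
def eX (p₀ κ : K) : K × K := (κ * p₀, 0)

/-- `ζ(κ') = y (κ' a₁', 0)`, where `a₁'` is the second coordinate of `y⁻¹ (j, 0)` -/
def zX (y : (K × K) ≃ₗ[F] (K × K)) (j κ' : K) : K × K :=
  y ((κ' * (y⁻¹ ((j, 0) : K × K)).2, 0) : K × K)

/-- `s'(κ) = T (κ p₀) p₀` -/
noncomputable def tX (h : TauExt σ τ) (p₀ κ : K) : F := trT h (κ * p₀) p₀

/-- `s(κ') = T (κ' a₁') a₁'`, where `a₁'` is the second coordinate of `y⁻¹ (j, 0)` -/
noncomputable def sX (h : TauExt σ τ) (y : (K × K) ≃ₗ[F] (K × K)) (j κ' : K) : F :=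
  trT h (κ' * (y⁻¹ ((j, 0) : K × K)).2) (y⁻¹ ((j, 0) : K × K)).2

/-- the map `x ↦ x + f x e • ζ - f x ζ • e + (s * f x e) • e` -/
def famMap (f : (K × K) →ₗ[F] (K × K) →ₛₗ[σ] F) (e ζ : K × K) (s : F) : K × K → K × K :=
  fun x => x + f x e • ζ - f x ζ • e + (s * f x e) • e

end Cfsg.Agent.Lib.Helper97_UExtDefs
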