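import Mathlib
import Cfsg.Agent.Lib.Helper98_ExtDefs

set_option autoImplicit false

/-!
# S5886: easy closure lemmas for `cSet` and its multiplier ring `bSet`
-/

namespace Cfsg.Agent.Lib.Helper98_ExtMult

open Cfsg.Agent.Lib.Helper98_ExtDefs

section General

variable {F : Type*} {V : Type*} [Field F] [AddCommGroup V] [Module F V]

theorem hasMap_one (M : Subgroup (V ≃ₗ[F] V)) : HasMap M (fun x => x) :=
  ⟨1, M.one_mem, fun _ => rfl⟩

theorem hasMap_comp {M : Subgroup (V ≃ₗ[F] V)} {φ ψ : V → V} (h1 : HasMap M φ) (h2 : HasMap M ψ) :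
    HasMap M (fun x => φ (ψ x)) := by
  obtain ⟨g, hg, hgφ⟩ := h1
  obtain ⟨h, hh, hhψ⟩ := h2
  refine ⟨g * h, M.mul_mem hg hh, fun x => ?_⟩
  rw [LinearEquiv.mul_apply, hhψ, hgφ]

theorem hasMap_congr {M : Subgroup (V ≃ₗ[F] V)} {φ ψ : V → V} (h1 : HasMap M φ)
    (h : ∀ x, φ x = ψ x) : HasMap M ψ := by
  obtain ⟨g, hg, hgφ⟩ := h1
  exact ⟨g, hg, fun x => (hgφ x).trans (h x)⟩

/-- if `g ∈ M` acts as `φ` and `ψ` is a two-sided inverse function of `φ`, then `g⁻¹` acts as `ψ` -/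
theorem hasMap_inv {M : Subgroup (V ≃ₗ[F] V)} {φ ψ : V → V} (h1 : HasMap M φ)
    (h : ∀ x, φ (ψ x) = x) : HasMap M ψ := by
  obtain ⟨g, hg, hgφ⟩ := h1
  refine ⟨g⁻¹, M.inv_mem hg, fun x => ?_⟩
  have h1 : g (ψ x) = x := by rw [hgφ, h]
  have h2 : g⁻¹ (g (ψ x)) = ψ x := LinearEquiv.symm_apply_apply g (ψ x)
  rw [h1] at h2
  exact h2

theorem hasMap_conj {M : Subgroup (V ≃ₗ[F] V)} {φ : V → V} (h1 : HasMap M φ)
    {x : V ≃ₗ[F] V} (hx : x ∈ M) : HasMap M (fun v => x (φ (x.symm v))) := by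
  obtain ⟨g, hg, hgφ⟩ := h1
  refine ⟨x * g * x⁻¹, M.mul_mem (M.mul_mem hx hg) (M.inv_mem hx), fun v => ?_⟩
  rw [LinearEquiv.mul_apply, LinearEquiv.mul_apply, hgφ]
  rfl

variable (M : Subgroup (V ≃ₗ[F] V)) (t : Submodule F V)

theorem zero_mem_cSet : (0 : V →ₗ[F] V) ∈ cSet M t :=
  ⟨fun _ => t.zero_mem, fun _ _ => rfl, hasMap_congr (hasMap_one M) (fun x => by simp)⟩

variable {M t}

theorem add_mem_cSet {c c' : V →ₗ[F] V} (hc : c ∈ cSet M t) (hc' : c' ∈ cSet M t) :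
    c + c' ∈ cSet M t := by
  refine ⟨fun x => t.add_mem (hc.1 x) (hc'.1 x), fun x hx => ?_, ?_⟩
  · rw [LinearMap.add_apply, hc.2.1 x hx, hc'.2.1 x hx, add_zero]
  · refine hasMap_congr (hasMap_comp hc.2.2 hc'.2.2) (fun x => ?_)
    have h0 : c (c' x) = 0 := hc.2.1 _ (hc'.1 x)
    rw [map_add, h0, LinearMap.add_apply]
    abel

theorem neg_mem_cSet {c : V →ₗ[F] V} (hc : c ∈ cSet M t) : -c ∈ cSet M t := by
  refine ⟨fun x => ?_, fun x hx => ?_, ?_⟩
  · rw [LinearMap.neg_apply]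
    exact t.neg_mem (hc.1 x)
  · rw [LinearMap.neg_apply, hc.2.1 x hx, neg_zero]
  · refine hasMap_inv hc.2.2 (fun x => ?_)
    have h0 : c (c x) = 0 := hc.2.1 _ (hc.1 x)
    simp only [LinearMap.neg_apply, map_add, map_neg, h0]
    abel

theorem sub_mem_cSet {c c' : V →ₗ[F] V} (hc : c ∈ cSet M t) (hc' : c' ∈ cSet M t) :
    c - c' ∈ cSet M t := by
  rw [sub_eq_add_neg]
  exact add_mem_cSet hc (neg_mem_cSet hc')

theorem sum_mem_cSet {ι : Type*} (s : Finset ι) (c : ι → V →ₗ[F] V)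
    (h : ∀ i ∈ s, c i ∈ cSet M t) : ∑ i ∈ s, c i ∈ cSet M t := by
  classical
  induction s using Finset.induction_on with
  | empty => simpa using zero_mem_cSet M t
  | insert a s ha ih =>
    rw [Finset.sum_insert ha]
    exact add_mem_cSet (h a (Finset.mem_insert_self a s))
      (ih (fun i hi => h i (Finset.mem_insert_of_mem hi)))

/-- conjugating an element of `cSet` by an element of `M` stabilising `t` -/
theorem conj_mem_cSet {c : V →ₗ[F] V} (hc : c ∈ cSet M t) {x : V ≃ₗ[F] V} (hx : x ∈ M)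
    (hxt : ∀ u ∈ t, x u ∈ t) (hxt' : ∀ u ∈ t, x.symm u ∈ t) :
    x.toLinearMap ∘ₗ c ∘ₗ x.symm.toLinearMap ∈ cSet M t := by
  refine ⟨fun v => hxt _ (hc.1 _), fun v hv => ?_, ?_⟩
  · simp only [LinearMap.comp_apply, LinearEquiv.coe_coe]
    rw [hc.2.1 _ (hxt' v hv), map_zero]
  · refine hasMap_congr (hasMap_conj hc.2.2 hx) (fun v => ?_)
    simp only [LinearMap.comp_apply, LinearEquiv.coe_coe, map_add, LinearEquiv.apply_symm_apply]

theorem zero_mem_bSet : (0 : V →ₗ[F] V) ∈ bSet M t :=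
  ⟨fun _ _ => by simp, fun c _ => by simpa using zero_mem_cSet M t⟩

theorem one_mem_bSet : (LinearMap.id : V →ₗ[F] V) ∈ bSet M t :=
  ⟨fun _ hx => hx, fun c hc => by simpa using hc⟩

theorem add_mem_bSet {b b' : V →ₗ[F] V} (hb : b ∈ bSet M t) (hb' : b' ∈ bSet M t) :
    b + b' ∈ bSet M t :=
  ⟨fun x hx => t.add_mem (hb.1 x hx) (hb'.1 x hx), fun c hc => by
    rw [LinearMap.add_comp]
    exact add_mem_cSet (hb.2 c hc) (hb'.2 c hc)⟩

theorem neg_mem_bSet {b : V →ₗ[F] V} (hb : b ∈ bSet M t) : -b ∈ bSet M t :=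
  ⟨fun x hx => by rw [LinearMap.neg_apply]; exact t.neg_mem (hb.1 x hx), fun c hc => by
    rw [LinearMap.neg_comp]
    exact neg_mem_cSet (hb.2 c hc)⟩

theorem sub_mem_bSet {b b' : V →ₗ[F] V} (hb : b ∈ bSet M t) (hb' : b' ∈ bSet M t) :
    b - b' ∈ bSet M t := by
  rw [sub_eq_add_neg]
  exact add_mem_bSet hb (neg_mem_bSet hb')

theorem comp_mem_bSet {b b' : V →ₗ[F] V} (hb : b ∈ bSet M t) (hb' : b' ∈ bSet M t) :
    b ∘ₗ b' ∈ bSet M t :=
  ⟨fun x hx => hb.1 _ (hb'.1 x hx), fun c hc => by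
    rw [LinearMap.comp_assoc]
    exact hb.2 _ (hb'.2 c hc)⟩

/-- conjugating a multiplier by an element of `M` stabilising `t` -/
theorem conj_mem_bSet {b : V →ₗ[F] V} (hb : b ∈ bSet M t) {x : V ≃ₗ[F] V} (hx : x ∈ M)
    (hxt : ∀ u ∈ t, x u ∈ t) (hxt' : ∀ u ∈ t, x.symm u ∈ t) :
    x.toLinearMap ∘ₗ b ∘ₗ x.symm.toLinearMap ∈ bSet M t := by
  refine ⟨fun u hu => hxt _ (hb.1 _ (hxt' u hu)), fun c hc => ?_⟩
  have h1 : x.symm.toLinearMap ∘ₗ c ∘ₗ x.symm.symm.toLinearMap ∈ cSet M t :=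
    conj_mem_cSet hc (M.inv_mem hx) hxt' (by simpa using hxt)
  have h2 := conj_mem_cSet (hb.2 _ h1) hx hxt hxt'
  convert h2 using 1
  ext v
  simp only [LinearMap.comp_apply, LinearEquiv.coe_coe, LinearEquiv.symm_symm,
    LinearEquiv.apply_symm_apply]

/-- `b ∘ c` gives an element of `M` -/
theorem hasMap_of_mem {b c : V →ₗ[F] V} (hb : b ∈ bSet M t) (hc : c ∈ cSet M t) :
    HasMap M (fun x => x + b (c x)) :=
  (hb.2 c hc).2.2

/-- a rank-one element of `cSet` gives a transvection in `M` -/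
theorem hasTv_of_rank_one {c : V →ₗ[F] V} (hc : c ∈ cSet M t) (f : V →ₗ[F] F) (z : V)
    (hf : f ≠ 0) (hz : z ≠ 0) (h : ∀ x, c x = f x • z) : HasTv M := by
  obtain ⟨x₀, hx₀⟩ : ∃ x₀, f x₀ ≠ 0 := by
    by_contra hcon
    push Not at hcon
    exact hf (LinearMap.ext hcon)
  have hzt : z ∈ t := by
    have h1 := hc.1 x₀
    rw [h] at h1
    have h2 := t.smul_mem (f x₀)⁻¹ h1
    rwa [smul_smul, inv_mul_cancel₀ hx₀, one_smul] at h2
  have hfz : f z = 0 := by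
    have h1 := hc.2.1 z hzt
    rw [h] at h1
    rcases smul_eq_zero.mp h1 with h2 | h2
    · exact h2
    · exact absurd h2 hz
  exact ⟨f, z, hf, hz, hfz, hasMap_congr hc.2.2 (fun x => by rw [h])⟩

end General

section KStructure

variable {F K V : Type*} [Field F] [Field K] [Algebra F K] [AddCommGroup V] [Module F V]
  [Module K V] [IsScalarTower F K V]

theorem kconj_add (y : V ≃ₗ[F] V) (k k' : K) :
    kconj F K V y (k + k') = kconj F K V y k + kconj F K V y k' := by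
  ext x
  simp only [kconj_apply, LinearMap.add_apply, add_smul, map_add]

theorem kconj_neg (y : V ≃ₗ[F] V) (k : K) : kconj F K V y (-k) = -kconj F K V y k := by
  ext x
  simp only [kconj_apply, LinearMap.neg_apply, neg_smul, map_neg]

theorem kconj_mul (y : V ≃ₗ[F] V) (k k' : K) :
    kconj F K V y (k * k') = kconj F K V y k ∘ₗ kconj F K V y k' := by
  ext x
  simp only [kconj_apply, LinearMap.comp_apply, LinearEquiv.symm_apply_apply, mul_smul]

theorem kconj_algebraMap (y : V ≃ₗ[F] V) (a : F) :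
    kconj F K V y (algebraMap F K a) = a • LinearMap.id := by
  ext x
  simp only [kconj_apply, LinearMap.smul_apply, LinearMap.id_apply, algebraMap_smul, map_smul,
    LinearEquiv.apply_symm_apply]

theorem kconj_mem_tsp (y : V ≃ₗ[F] V) (v₁ : V) (k : K) {u : V} (hu : u ∈ tsp F K V y v₁) :
    kconj F K V y k u ∈ tsp F K V y v₁ := by
  obtain ⟨k₁, rfl⟩ := mem_tsp.mp hu
  rw [kconj_apply, LinearEquiv.symm_apply_apply, smul_smul]
  exact mem_tsp.mpr ⟨k * k₁, rfl⟩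

/-- `F`-scalar multiples of multipliers, given that the conjugate field acts by multipliers -/
theorem smul_mem_bSet {M : Subgroup (V ≃ₗ[F] V)} {y : V ≃ₗ[F] V} {v₁ : V}
    (hK : ∀ k : K, kconj F K V y k ∈ bSet M (tsp F K V y v₁)) (a : F) {b : V →ₗ[F] V}
    (hb : b ∈ bSet M (tsp F K V y v₁)) : a • b ∈ bSet M (tsp F K V y v₁) := by
  have h1 := comp_mem_bSet (hK (algebraMap F K a)) hb
  rw [kconj_algebraMap] at h1
  have h2 : a • b = (a • LinearMap.id) ∘ₗ b := by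
    ext x
    simp only [LinearMap.smul_apply, LinearMap.comp_apply, LinearMap.id_apply]
  rw [h2]
  exact h1

/-- the conjugates of the `K`-transvection directions lie in `cSet` -/
theorem cmap_mem_cSet {M : Subgroup (V ≃ₗ[F] V)} (hktv : KtvHyp F K V M) {y : V ≃ₗ[F] V}
    (hy : y ∈ M) (v₁ : V) (χ : V →ₗ[K] K) (hχ : χ v₁ = 0) :
    cmap F K V y χ v₁ ∈ cSet M (tsp F K V y v₁) := by
  refine ⟨fun x => ?_, fun x hx => ?_, ?_⟩
  · rw [cmap_apply]
    exact mem_tsp.mpr ⟨_, rfl⟩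
  · obtain ⟨k, rfl⟩ := mem_tsp.mp hx
    have h0 : χ (k • v₁) = 0 := by rw [map_smul, hχ, smul_zero]
    rw [cmap_apply, LinearEquiv.symm_apply_apply, h0, zero_smul, map_zero]
  · refine hasMap_congr (hasMap_conj (hktv χ v₁ hχ) hy) (fun v => ?_)
    rw [map_add, LinearEquiv.apply_symm_apply, cmap_apply]

end KStructure

end Cfsg.Agent.Lib.Helper98_ExtMult
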