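import Mathlib
import Cfsg.Agent.Lib.Helper97_UExtDefs
import Cfsg.Agent.Lib.Helper94_UDDefs
import Cfsg.Agent.Lib.Helper98_ExtMult

set_option autoImplicit false
set_option linter.unusedSectionVars false
set_option linter.unusedVariables false

/-!
# UEXT2 package BASIC (helper10 for helper97): the Weyl elements `wK κ` (`κ` skew) and the torus
elements `dK l l⁻¹` (`l` fixed by `τ`) lie in `M`.
-/

namespace Cfsg.Agent.Lib.Helper10_UX_BASIC

open Module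
open Cfsg.Agent.Lib.Helper94_Symp Cfsg.Agent.Lib.Helper94_Herm Cfsg.Agent.Lib.Helper13_PSUSimple
  Cfsg.Agent.Lib.Helper67_Tens2Defs Cfsg.Agent.Lib.Helper67_UT2Defs Cfsg.Agent.Lib.Helper98_ExtDefs
  Cfsg.Agent.Lib.Helper94_FrmDefs Cfsg.Agent.Lib.Helper94_UDDefs Cfsg.Agent.Lib.Helper97_UExtDefs

variable {F K : Type*} [Field F] [Field K] [Algebra F K] [Finite F] [Finite K]
  {σ : F →+* F} {τ : K →+* K}

/-- `w(κ) = ux(κ) lx(-κ⁻¹) ux(κ)` -/
theorem wK_eq (κ : Kˣ) :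
    (wK κ : (K × K) ≃ₗ[F] (K × K)) =
      ux (mK (κ : K) : K →ₗ[F] K) * lx (mK (-((κ⁻¹ : Kˣ) : K)) : K →ₗ[F] K) *
        ux (mK (κ : K) : K →ₗ[F] K) := by
  apply LinearEquiv.ext
  intro x
  have hk : (κ : K) ≠ 0 := κ.ne_zero
  simp only [LinearEquiv.mul_apply, wK_apply, ux_apply, lx_apply, mK_apply,
    Units.val_inv_eq_inv_val]
  ext
  · simp only []
    field_simp
    ring
  · simp only []
    field_simp
    ring

/-- `w(l κ) w(-κ) = dK l l⁻¹` -/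
theorem dK_eq (l κ : Kˣ) :
    (dK l l⁻¹ : (K × K) ≃ₗ[F] (K × K)) = wK (l * κ) * wK (-κ) := by
  apply LinearEquiv.ext
  intro x
  have hk : (κ : K) ≠ 0 := κ.ne_zero
  have hl : (l : K) ≠ 0 := l.ne_zero
  simp only [LinearEquiv.mul_apply, wK_apply, dK_apply, Units.val_mul, Units.val_neg,
    Units.val_inv_eq_inv_val, mul_inv_rev, inv_neg]
  ext
  · simp only []
    field_simp
  · simp only []
    field_simp

variable {M : Subgroup ((K × K) ≃ₗ[F] (K × K))}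

/-- PKG BASIC (S) -/
theorem wK_mem (h : TauExt σ τ) (hM : HypX h M) (κ : Kˣ) (hκ : τ (κ : K) = -(κ : K)) :
    wK κ ∈ M := by
  rw [wK_eq]
  have h1 := hM.ux_mem (κ : K) hκ
  have h2 : τ (-((κ⁻¹ : Kˣ) : K)) = -(-((κ⁻¹ : Kˣ) : K)) := by
    rw [Units.val_inv_eq_inv_val, map_neg, map_inv₀, hκ, inv_neg]
  exact M.mul_mem (M.mul_mem h1 (hM.lx_mem _ h2)) h1

/-- PKG BASIC -/
theorem dK_mem (h : TauExt σ τ) (hσ : Invol σ) (hM : HypX h M) (l : Kˣ) (hl : τ (l : K) = (l : K)) :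
    dK l l⁻¹ ∈ M := by
  obtain ⟨ζ, hζ0, hζ⟩ := exists_skew (h.toInvol hσ)
  rw [dK_eq l (Units.mk0 ζ hζ0)]
  refine M.mul_mem (wK_mem h hM _ ?_) (wK_mem h hM _ ?_)
  · rw [Units.val_mul, Units.val_mk0, map_mul, hl, hζ, mul_neg]
  · rw [Units.val_neg, Units.val_mk0, map_neg, hζ]

end Cfsg.Agent.Lib.Helper10_UX_BASIC
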