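import Mathlib
import Cfsg.Agent.Lib.Helper97_UExtDefs
import Cfsg.Agent.Lib.Helper94_UDDefs
import Cfsg.Agent.Lib.Helper98_ExtMult

set_option autoImplicit false
set_option linter.unusedSectionVars false
set_option linter.unusedVariables false

/-!
# UEXT2 package MULT (helper10 for helper97): the multiplier ring of a proper nonzero
`F`-subspace of an extension `K` of prime degree is `F`.
-/

namespace Cfsg.Agent.Lib.Helper10_UX_MULT

open Module
open Cfsg.Agent.Lib.Helper94_Symp Cfsg.Agent.Lib.Helper94_Herm Cfsg.Agent.Lib.Helper13_PSUSimple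
  Cfsg.Agent.Lib.Helper67_Tens2Defs Cfsg.Agent.Lib.Helper67_UT2Defs Cfsg.Agent.Lib.Helper98_ExtDefs
  Cfsg.Agent.Lib.Helper94_FrmDefs Cfsg.Agent.Lib.Helper94_UDDefs Cfsg.Agent.Lib.Helper97_UExtDefs

variable {F K : Type*} [Field F] [Field K] [Algebra F K] [Finite F] [Finite K]
  {σ : F →+* F} {τ : K →+* K}

/-- the multiplier ring of an `F`-subspace `D` of `K`, as a subalgebra -/
def multAlg (D : Submodule F K) : Subalgebra F K where
  carrier := {m | ∀ c ∈ D, m * c ∈ D}
  mul_mem' := by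
    intro a b ha hb c hc
    rw [mul_assoc]
    exact ha _ (hb c hc)
  add_mem' := by
    intro a b ha hb c hc
    rw [add_mul]
    exact D.add_mem (ha c hc) (hb c hc)
  algebraMap_mem' := by
    intro a c hc
    rw [← Algebra.smul_def]
    exact D.smul_mem a hc

theorem mem_multAlg (D : Submodule F K) (m : K) : m ∈ multAlg D ↔ ∀ c ∈ D, m * c ∈ D := Iff.rfl

/-- PKG MULT (S) -/
theorem mult_mem_F (hr : (finrank F K).Prime) (D : Submodule F K) (hD0 : D ≠ ⊥) (hD1 : D ≠ ⊤)
    (l : K) (hl : ∀ c ∈ D, l * c ∈ D) : ∃ a : F, l = algebraMap F K a := by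
  have hs := Subalgebra.isSimpleOrder_of_finrank_prime F K hr
  rcases hs.eq_bot_or_eq_top (multAlg D) with h | h
  · have hm : l ∈ multAlg D := hl
    rw [h, Algebra.mem_bot] at hm
    obtain ⟨a, ha⟩ := hm
    exact ⟨a, ha.symm⟩
  · exfalso
    apply hD1
    obtain ⟨c, hc, hc0⟩ := (Submodule.ne_bot_iff D).mp hD0
    rw [eq_top_iff]
    intro k _
    have hm : k * c⁻¹ ∈ multAlg D := by rw [h]; exact Algebra.mem_top
    have := hm c hc
    rwa [mul_assoc, inv_mul_cancel₀ hc0, mul_one] at this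

end Cfsg.Agent.Lib.Helper10_UX_MULT
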