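import Mathlib
import Cfsg.Agent.Lib.Helper97_UExtDefs
import Cfsg.Agent.Lib.Helper94_UDDefs
import Cfsg.Agent.Lib.Helper98_ExtMult

set_option autoImplicit false
set_option linter.unusedSectionVars false
set_option linter.unusedVariables false

/-!
# UEXT2 package TRS (helper10 for helper97): `Tr_{K/F}(τ c) = σ (Tr_{K/F} c)`.
-/

namespace Cfsg.Agent.Lib.Helper10_UX_TRS

open Module
open Cfsg.Agent.Lib.Helper94_Symp Cfsg.Agent.Lib.Helper94_Herm Cfsg.Agent.Lib.Helper13_PSUSimple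
  Cfsg.Agent.Lib.Helper67_Tens2Defs Cfsg.Agent.Lib.Helper67_UT2Defs Cfsg.Agent.Lib.Helper98_ExtDefs
  Cfsg.Agent.Lib.Helper94_FrmDefs Cfsg.Agent.Lib.Helper94_UDDefs Cfsg.Agent.Lib.Helper97_UExtDefs

variable {F K : Type*} [Field F] [Field K] [Algebra F K] [Finite F] [Finite K]
  {σ : F →+* F} {τ : K →+* K}

/-- PKG TRS (M) -/
theorem trace_tau (h : TauExt σ τ) (c : K) :
    Algebra.trace F K (τ c) = σ (Algebra.trace F K c) := by
  apply (algebraMap F K).injective
  rw [← h.ext, FiniteField.algebraMap_trace_eq_sum_pow, FiniteField.algebraMap_trace_eq_sum_pow,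
    map_sum]
  refine Finset.sum_congr rfl fun i _ => ?_
  rw [map_pow]

end Cfsg.Agent.Lib.Helper10_UX_TRS
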