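import Mathlib
import Cfsg.Agent.Lib.Helper97_UExtDefs
import Cfsg.Agent.Lib.Helper94_UDDefs
import Cfsg.Agent.Lib.Helper98_ExtMult
import Cfsg.Agent.Lib.Helper10_UX_TRS

set_option autoImplicit false
set_option linter.unusedSectionVars false
set_option linter.unusedVariables false

/-!
# UEXT2 package THERM (helper10 for helper97): the trace form `trT h` is hermitian and
nondegenerate.
-/

namespace Cfsg.Agent.Lib.Helper10_UX_THERM

open Module
open Cfsg.Agent.Lib.Helper94_Symp Cfsg.Agent.Lib.Helper94_Herm Cfsg.Agent.Lib.Helper13_PSUSimple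
  Cfsg.Agent.Lib.Helper67_Tens2Defs Cfsg.Agent.Lib.Helper67_UT2Defs Cfsg.Agent.Lib.Helper98_ExtDefs
  Cfsg.Agent.Lib.Helper94_FrmDefs Cfsg.Agent.Lib.Helper94_UDDefs Cfsg.Agent.Lib.Helper97_UExtDefs

variable {F K : Type*} [Field F] [Field K] [Algebra F K] [Finite F] [Finite K]
  {σ : F →+* F} {τ : K →+* K}

/-- PKG THERM (S; uses TRS) -/
theorem trT_isHerm (h : TauExt σ τ) : IsHerm (trT h) := by
  intro x y
  rw [trT_apply, trT_apply, ← Cfsg.Agent.Lib.Helper10_UX_TRS.trace_tau h (x * τ y)]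
  congr 1
  rw [map_mul, h.invol, mul_comm]

/-- PKG THERM -/
theorem trT_nondeg (h : TauExt σ τ) : NondegOn (trT h) ⊤ := by
  intro x _ hx
  by_contra hcon
  push Not at hcon
  apply hx
  have : Module.Finite F K := Module.Finite.of_finite
  apply (traceForm_nondegenerate F K).1 x
  intro z
  have := hcon (τ z) trivial
  rwa [trT_apply, h.invol] at this

end Cfsg.Agent.Lib.Helper10_UX_THERM
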