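import Mathlib

/-!
# Wielandt's theorem on primitive groups of degree `2p` (S0720): shared definitions (helper12)

`G ≤ Perm α`, `|α| = 2p`.  A *frame* is an element `x ∈ G` together with coordinates
`φ : ZMod p × Fin 2 ≃ α` in which `x` is the shift `(i, a) ↦ (i + 1, a)`.
For a `G`-invariant integer matrix `A` we define its local Fourier data with respect to a frame:
`cf F A d = A[φ(0,0), φ(d,0)] + A[φ(0,1), φ(d,1)]`, `tau F A k = ∑ d, cf F A d * ζ ^ (d k)`,
`rowSum F A` (row sum at `φ(0,0)`), `tw F A` (eigenvalue on `w = 1_{Δ₀} - 1_{Δ₁}`).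
`orbMat G a₀ b` is the `0/1` matrix of the orbital `G (a₀, b)`.
-/

set_option autoImplicit false

namespace Cfsg.Agent.Lib.Helper12_W2pDefs

open Equiv

variable {α : Type*} [Fintype α] [DecidableEq α]

/-- `A` is invariant under `G`: `A (g i) (g j) = A i j`. -/
def Inv (G : Subgroup (Perm α)) {R : Type*} (A : Matrix α α R) : Prop :=
  ∀ g ∈ G, ∀ i j, A (g i) (g j) = A i j

/-- the permutation action on complex functions -/
def act (g : Perm α) (v : α → ℂ) : α → ℂ := fun ω => v (g⁻¹ ω)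

/-- a frame: `x ∈ G` acting as the shift on `ZMod p × Fin 2 ≃ α`. -/
structure Frame (G : Subgroup (Perm α)) (p : ℕ) where
  x : Perm α
  hx : x ∈ G
  φ : ZMod p × Fin 2 ≃ α
  hφ : ∀ i a, x (φ (i, a)) = φ (i + 1, a)

/-- the standard primitive `p`-th root of unity -/
noncomputable def zeta (p : ℕ) : ℂ := Complex.exp (2 * Real.pi * Complex.I / p)

variable {G : Subgroup (Perm α)} {p : ℕ}

/-- local Fourier coefficient -/
def cf (F : Frame G p) (A : Matrix α α ℤ) (d : ZMod p) : ℤ :=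
  A (F.φ (0, 0)) (F.φ (d, 0)) + A (F.φ (0, 1)) (F.φ (d, 1))

/-- trace of `A` on the `k`-th eigenspace of `x` -/
noncomputable def tau [NeZero p] (F : Frame G p) (A : Matrix α α ℤ) (k : ZMod p) : ℂ :=
  ∑ d : ZMod p, (cf F A d : ℂ) * zeta p ^ (d * k).val

/-- the row sum of `A` at the base point -/
def rowSum (F : Frame G p) (A : Matrix α α ℤ) : ℤ := ∑ ω, A (F.φ (0, 0)) ω

/-- the eigenvalue of `A` on `w = 1_{Δ₀} - 1_{Δ₁}` -/
def tw [NeZero p] (F : Frame G p) (A : Matrix α α ℤ) : ℤ :=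
  ∑ d : ZMod p, (A (F.φ (0, 0)) (F.φ (d, 0)) - A (F.φ (0, 0)) (F.φ (d, 1)))

open Classical in
/-- the matrix of the orbital `G (a₀, b)` -/
noncomputable def orbMat (G : Subgroup (Perm α)) (a₀ b : α) : Matrix α α ℤ :=
  fun ω ω' => if ∃ g ∈ G, g a₀ = ω ∧ g b = ω' then 1 else 0

/-- the Fourier basis vector `e_{k,a}`: `e_{k,a} (φ (i, a')) = δ_{a a'} ζ ^ (i k)` -/
noncomputable def evec [NeZero p] (F : Frame G p) (k : ZMod p) (a : Fin 2) : α → ℂ :=
  fun ω => if (F.φ.symm ω).2 = a then zeta p ^ ((F.φ.symm ω).1 * k).val else 0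

/-- the `2 × 2` block of `A` on the `k`-th eigenspace: `A e_{k,a'} = ∑ a, mk F A k a a' • e_{k,a}` -/
noncomputable def mk [NeZero p] (F : Frame G p) (A : Matrix α α ℤ) (k : ZMod p) :
    Matrix (Fin 2) (Fin 2) ℂ :=
  fun a a' => ∑ d : ZMod p, (A (F.φ (0, a)) (F.φ (d, a')) : ℂ) * zeta p ^ (d * k).val

/-- the vector `w = 1_{Δ₀} - 1_{Δ₁}` -/
def wvec (F : Frame G p) : α → ℂ := fun ω => if (F.φ.symm ω).2 = 0 then 1 else -1

/-- the `G`-submodule of `α → ℂ` generated by `w` -/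
def U1 (G : Subgroup (Perm α)) (F : Frame G p) : Submodule ℂ (α → ℂ) :=
  Submodule.span ℂ {v | ∃ g ∈ G, v = act g (wvec F)}

/-- `U1` meets the `k`-th eigenspace of `x` nontrivially -/
def Meets [NeZero p] (G : Subgroup (Perm α)) (F : Frame G p) (k : ZMod p) : Prop :=
  ∃ y : Fin 2 → ℂ, y ≠ 0 ∧ y 0 • evec F k 0 + y 1 • evec F k 1 ∈ U1 G F

/-- `U1` contains the `k`-th eigenspace of `x` -/
def Contains [NeZero p] (G : Subgroup (Perm α)) (F : Frame G p) (k : ZMod p) : Prop :=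
  ∀ y : Fin 2 → ℂ, y 0 • evec F k 0 + y 1 • evec F k 1 ∈ U1 G F

end Cfsg.Agent.Lib.Helper12_W2pDefs
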