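import Mathlib
import Cfsg.Agent.Lib.Helper12_W2pDefs

/-!
# S0720 package P4 (helper10, for helper12): the arithmetic of Wielandt's `2p` theorem
-/

set_option autoImplicit false

namespace Cfsg.Agent.Lib.Helper10_W2p_P4

open Equiv MulAction Cfsg.Agent.Lib.Helper12_W2pDefs

/-- a sum over `ZMod p` of a function vanishing at `0` and constant elsewhere -/
theorem sum_const_ne_zero {p : ℕ} [Fact p.Prime] (f : ZMod p → ℤ) (h0 : f 0 = 0) (v : ℤ)
    (h : ∀ d, d ≠ 0 → f d = v) : ∑ d, f d = ((p : ℤ) - 1) * v := by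
  have hp : 1 ≤ p := (Fact.out : p.Prime).one_lt.le
  rw [← Finset.sum_erase_add _ _ (Finset.mem_univ (0 : ZMod p)), h0, add_zero,
    Finset.sum_congr rfl (fun d hd => h d (Finset.ne_of_mem_erase hd)), Finset.sum_const,
    Finset.card_erase_of_mem (Finset.mem_univ _), Finset.card_univ, ZMod.card, nsmul_eq_mul,
    Nat.cast_sub hp, Nat.cast_one]

/-- a prime is not a perfect square -/
theorem not_prime_sq {p : ℕ} (hp : p.Prime) (k : ℤ) (h : (p : ℤ) = k ^ 2) : False := by
  have h1 : p = k.natAbs ^ 2 := by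
    have := congrArg Int.natAbs h
    rw [Int.natAbs_natCast, Int.natAbs_pow] at this
    exact this
  rw [h1] at hp
  exact Nat.Prime.not_prime_pow (le_refl 2) hp

/-- the degenerate case `c = 0` is impossible -/
theorem no_zero_case (n t : ℤ) (hn : 2 ≤ n) (e1 : n + t = 0) (e2 : 2 * (n - t ^ 2) = 0) : False := by
  have ht : t = -n := by linarith
  rw [ht] at e2
  have h2 : 2 * (n * (n - 1)) = 0 := by linear_combination (-1 : ℤ) * e2
  rcases mul_eq_zero.1 h2 with h | h
  · omega
  · rcases mul_eq_zero.1 h with h | h <;> omega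

/-- sums over `ZMod p` as sums over the units -/
theorem sum_eq_sum_units {p : ℕ} [Fact p.Prime] (f : ZMod p → ℤ) (h0 : f 0 = 0) :
    ∑ d, f d = ∑ u : (ZMod p)ˣ, f (u : ZMod p) := by
  rw [← Finset.sum_erase_add _ _ (Finset.mem_univ (0 : ZMod p)), h0, add_zero]
  rw [Finset.sum_subtype (Finset.univ.erase (0 : ZMod p)) (p := fun d => d ≠ 0)
    (fun d => by simp) f]
  exact (Equiv.sum_comp (unitsEquivNeZero (G₀ := ZMod p)) (fun d => f (d : ZMod p))).symm

theorem P4_one {p : ℕ} [Fact p.Prime] (hp2 : p ≠ 2) (n t : ℤ) (c : ZMod p → ℤ)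
    (H : Subgroup (ZMod p)ˣ) (hH : p - 1 ≤ 2 * Nat.card H)
    (hc : ∀ u ∈ H, ∀ d : ZMod p, c ((u : ZMod p) * d) = c d)
    (hc0 : c 0 = 0) (hc2 : ∀ d, 0 ≤ c d ∧ c d ≤ 2) (h1 : ∑ d, c d = n + t)
    (h2 : ∑ d, c d ^ 2 = 2 * (n - t ^ 2)) (hn : 2 ≤ n) :
    (∀ d, d ≠ 0 → c d = 1) ∨ (∀ d, d ≠ 0 → c d = 2) ∨
      ((∀ d, d ≠ 0 → c d = 0 ∨ c d = 2) ∧
        2 * (Finset.univ.filter (fun d => c d = 2)).card = p - 1) := by
  classical
  have _ := hp2
  have hpP : p.Prime := Fact.out
  have hp : 2 ≤ p := hpP.two_le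
  have hU : Fintype.card (ZMod p)ˣ = p - 1 := ZMod.card_units p
  have hidx : H.index * Nat.card H = p - 1 := by
    rw [Subgroup.index_mul_card, Nat.card_eq_fintype_card, hU]
  have hHpos : 0 < Nat.card H := Nat.card_pos
  have hidx2 : H.index = 1 ∨ H.index = 2 := by
    have h3 : H.index * Nat.card H ≤ 2 * Nat.card H := by rw [hidx]; exact hH
    have h4 : H.index ≤ 2 := Nat.le_of_mul_le_mul_right h3 hHpos
    have h5 : H.index ≠ 0 := by
      intro h
      rw [h, zero_mul] at hidx
      omega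
    omega
  -- values on units
  have hunit : ∀ d : ZMod p, d ≠ 0 → ∃ u : (ZMod p)ˣ, (u : ZMod p) = d := fun d hd =>
    ⟨Units.mk0 d hd, rfl⟩
  have hsq0 : (fun d => c d ^ 2) 0 = 0 := by simp [hc0]
  rcases hidx2 with hi1 | hi2
  · -- `H` is everything: `c` is constant on the nonzero elements
    have htop : H = ⊤ := Subgroup.index_eq_one.1 hi1
    have hconst : ∀ d, d ≠ 0 → c d = c 1 := by
      intro d hd
      obtain ⟨u, rfl⟩ := hunit d hd
      have := hc u (by rw [htop]; trivial) 1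
      rwa [mul_one] at this
    have e1 := sum_const_ne_zero c hc0 (c 1) hconst
    have e2 := sum_const_ne_zero (fun d => c d ^ 2) hsq0 (c 1 ^ 2)
      (fun d hd => by show c d ^ 2 = c 1 ^ 2; rw [hconst d hd])
    rw [h1] at e1
    rw [h2] at e2
    obtain ⟨hlo, hhi⟩ := hc2 1
    have hv : c 1 = 0 ∨ c 1 = 1 ∨ c 1 = 2 := by omega
    rcases hv with hv | hv | hv
    · exfalso
      rw [hv] at e1 e2
      exact no_zero_case n t hn (by linarith) (by linarith)
    · left
      intro d hd
      rw [hconst d hd, hv]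
    · right; left
      intro d hd
      rw [hconst d hd, hv]
  · -- `H` has index two
    obtain ⟨a, ha⟩ := Subgroup.index_eq_two_iff.1 hi2
    have hcard2 : p - 1 = 2 * Nat.card H := by rw [← hidx, hi2]
    have hin : ∀ b : (ZMod p)ˣ, b ∈ H → c (b : ZMod p) = c 1 := by
      intro b hb
      have := hc b hb 1
      rwa [mul_one] at this
    have hout : ∀ b : (ZMod p)ˣ, b ∉ H → c (b : ZMod p) = c ((a⁻¹ : (ZMod p)ˣ) : ZMod p) := by
      intro b hb
      have hba : b * a ∈ H := by
        rcases ha b with ⟨h, -⟩ | ⟨h, -⟩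
        · exact h
        · exact absurd h hb
      have := hc (b * a) hba ((a⁻¹ : (ZMod p)ˣ) : ZMod p)
      rw [← Units.val_mul, mul_assoc, mul_inv_cancel, mul_one] at this
      exact this
    obtain ⟨v₁, hv₁⟩ : ∃ v₁, v₁ = c 1 := ⟨_, rfl⟩
    obtain ⟨v₂, hv₂⟩ : ∃ v₂, v₂ = c ((a⁻¹ : (ZMod p)ˣ) : ZMod p) := ⟨_, rfl⟩
    rw [← hv₁] at hin
    rw [← hv₂] at hout
    obtain ⟨m, hm⟩ : ∃ m : ℕ, m = Nat.card H := ⟨_, rfl⟩
    have hcardin : (Finset.univ.filter (fun b : (ZMod p)ˣ => b ∈ H)).card = m := by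
      rw [hm, Nat.card_eq_fintype_card, Fintype.card_subtype]
    have hcardout : (Finset.univ.filter (fun b : (ZMod p)ˣ => ¬ b ∈ H)).card = m := by
      have := Finset.card_filter_add_card_filter_not (s := (Finset.univ : Finset (ZMod p)ˣ))
        (fun b => b ∈ H)
      rw [hcardin, Finset.card_univ, hU, hcard2, ← hm] at this
      omega
    -- a general sum formula
    have hsumf : ∀ (f : ZMod p → ℤ), f 0 = 0 → ∀ w₁ w₂ : ℤ,
        (∀ b : (ZMod p)ˣ, b ∈ H → f b = w₁) → (∀ b : (ZMod p)ˣ, b ∉ H → f b = w₂) →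
        ∑ d, f d = m * (w₁ + w₂) := by
      intro f hf0 w₁ w₂ hw₁ hw₂
      rw [sum_eq_sum_units f hf0, ← Finset.sum_filter_add_sum_filter_not Finset.univ
        (fun b : (ZMod p)ˣ => b ∈ H),
        Finset.sum_congr rfl (fun b hb => hw₁ b (Finset.mem_filter.1 hb).2),
        Finset.sum_congr rfl (fun b hb => hw₂ b (Finset.mem_filter.1 hb).2),
        Finset.sum_const, Finset.sum_const, hcardin, hcardout, nsmul_eq_mul, nsmul_eq_mul]
      ring
    have e1 := hsumf c hc0 v₁ v₂ hin hout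
    have e2 := hsumf (fun d => c d ^ 2) hsq0 (v₁ ^ 2) (v₂ ^ 2)
      (fun b hb => by show c (b : ZMod p) ^ 2 = v₁ ^ 2; rw [hin b hb])
      (fun b hb => by show c (b : ZMod p) ^ 2 = v₂ ^ 2; rw [hout b hb])
    rw [h1] at e1
    rw [h2] at e2
    have hpm : (p : ℤ) = 2 * m + 1 := by
      have : ((p - 1 : ℕ) : ℤ) = ((2 * m : ℕ) : ℤ) := by rw [hcard2, hm]
      rw [Nat.cast_sub (by omega)] at this
      push_cast at this
      linarith
    have hmpos : (0 : ℤ) < m := by
      rw [hm]
      exact_mod_cast hHpos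
    have hval : ∀ d, d ≠ 0 → c d = v₁ ∨ c d = v₂ := by
      intro d hd
      obtain ⟨u, rfl⟩ := hunit d hd
      by_cases hu : u ∈ H
      · exact Or.inl (hin u hu)
      · exact Or.inr (hout u hu)
    have hr1 : v₁ = 0 ∨ v₁ = 1 ∨ v₁ = 2 := by
      obtain ⟨hlo, hhi⟩ := hc2 1
      rw [← hv₁] at hlo hhi
      omega
    have hr2 : v₂ = 0 ∨ v₂ = 1 ∨ v₂ = 2 := by
      obtain ⟨hlo, hhi⟩ := hc2 ((a⁻¹ : (ZMod p)ˣ) : ZMod p)
      rw [← hv₂] at hlo hhi
      omega
    -- the square contradiction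
    have hsq : m = 2 * t ^ 2 + 2 * t → False := by
      intro h
      apply not_prime_sq hpP (2 * t + 1)
      rw [hpm, h]
      ring
    -- the `{0, 2}` case
    have h02 : (∀ d, d ≠ 0 → c d = 0 ∨ c d = 2) → v₁ + v₂ = 2 →
        2 * (Finset.univ.filter (fun d => c d = 2)).card = p - 1 := by
      intro hC hv
      have hval' : ∀ d, c d = if c d = 2 then 2 else 0 := by
        intro d
        by_cases hd : d = 0
        · rw [hd, hc0]
          simp
        · rcases hC d hd with h' | h'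
          · rw [h']
            simp
          · rw [h']
            simp
      have e3 : ∑ d, c d = 2 * ((Finset.univ.filter (fun d => c d = 2)).card : ℤ) := by
        rw [Finset.sum_congr rfl (fun d _ => hval' d), Finset.sum_ite, Finset.sum_const,
          Finset.sum_const_zero, add_zero, nsmul_eq_mul]
        ring
      rw [h1, e1, hv] at e3
      have : ((2 * (Finset.univ.filter (fun d => c d = 2)).card : ℕ) : ℤ) = ((p - 1 : ℕ) : ℤ) := by
        rw [Nat.cast_sub (by omega)]
        push_cast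
        linarith
      exact_mod_cast this
    rcases hr1 with hr1 | hr1 | hr1 <;> rcases hr2 with hr2 | hr2 | hr2
    · exfalso
      rw [hr1, hr2] at e1 e2
      exact no_zero_case n t hn (by linarith) (by linarith)
    · exfalso
      rw [hr1, hr2] at e1 e2
      apply hsq
      linear_combination e2 - 2 * e1
    · right; right
      have hC : ∀ d, d ≠ 0 → c d = 0 ∨ c d = 2 := by
        intro d hd
        rcases hval d hd with h | h
        · left; rw [h, hr1]
        · right; rw [h, hr2]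
      exact ⟨hC, h02 hC (by rw [hr1, hr2]; norm_num)⟩
    · exfalso
      rw [hr1, hr2] at e1 e2
      apply hsq
      linear_combination e2 - 2 * e1
    · left
      intro d hd
      rcases hval d hd with h | h
      · rw [h, hr1]
      · rw [h, hr2]
    · exfalso
      rw [hr1, hr2] at e1 e2
      apply hsq
      linear_combination e2 - 2 * e1
    · right; right
      have hC : ∀ d, d ≠ 0 → c d = 0 ∨ c d = 2 := by
        intro d hd
        rcases hval d hd with h | h
        · right; rw [h, hr1]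
        · left; rw [h, hr2]
      exact ⟨hC, h02 hC (by rw [hr1, hr2]; norm_num)⟩
    · exfalso
      rw [hr1, hr2] at e1 e2
      apply hsq
      linear_combination e2 - 2 * e1
    · right; left
      intro d hd
      rcases hval d hd with h | h
      · rw [h, hr1]
      · rw [h, hr2]

theorem P4_good {p : ℕ} [Fact p.Prime] (n t : ℤ) (c : ZMod p → ℤ) (hc0 : c 0 = 0)
    (hc : ∀ d, d ≠ 0 → c d = 1) (h1 : ∑ d, c d = n + t) (h2 : ∑ d, c d ^ 2 = 2 * (n - t ^ 2)) :
    (p : ℤ) = 2 * t ^ 2 + 2 * t + 1 ∧ n = p - 1 - t := by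
  have e1 := sum_const_ne_zero c hc0 1 hc
  have e2 := sum_const_ne_zero (fun d => c d ^ 2) (by simp [hc0]) 1
    (fun d hd => by simp [hc d hd])
  rw [h1] at e1
  rw [h2] at e2
  constructor
  · linear_combination (-2 : ℤ) * e1 + e2
  · linear_combination e1

theorem P4_count {p : ℕ} [Fact p.Prime] (hp2 : p ≠ 2) {J : Type*} [Fintype J]
    (c : J → ZMod p → ℤ) (h0 : ∀ j, c j 0 = 0)
    (h : ∀ j, (∀ d, d ≠ 0 → c j d = 1) ∨ (∀ d, d ≠ 0 → c j d = 2) ∨
      ((∀ d, d ≠ 0 → c j d = 0 ∨ c j d = 2) ∧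
        2 * (Finset.univ.filter (fun d => c j d = 2)).card = p - 1))
    (hsum : ∀ d, d ≠ 0 → ∑ j, c j d = 2) : Fintype.card J ≤ 2 := by
  have _ := hp2
  have hp : 2 ≤ p := (Fact.out : p.Prime).two_le
  have hpos : (0 : ℤ) < (p : ℤ) - 1 := by
    have : (2 : ℤ) ≤ p := by exact_mod_cast hp
    linarith
  -- each row sums to at least `p - 1`
  have hrow : ∀ j, (p : ℤ) - 1 ≤ ∑ d, c j d := by
    intro j
    rcases h j with hA | hB | ⟨hC, hcard⟩
    · rw [sum_const_ne_zero (c j) (h0 j) 1 hA]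
      linarith
    · rw [sum_const_ne_zero (c j) (h0 j) 2 hB]
      linarith
    · have hval : ∀ d, c j d = if c j d = 2 then 2 else 0 := by
        intro d
        by_cases hd : d = 0
        · rw [hd, h0 j]
          simp
        · rcases hC d hd with h' | h'
          · rw [h']
            simp
          · rw [h']
            simp
      rw [Finset.sum_congr rfl (fun d _ => hval d), Finset.sum_ite, Finset.sum_const,
        Finset.sum_const_zero, add_zero, nsmul_eq_mul]
      have : ((2 * (Finset.univ.filter (fun d => c j d = 2)).card : ℕ) : ℤ) = ((p - 1 : ℕ) : ℤ) := by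
        rw [hcard]
      rw [Nat.cast_sub (by omega), Nat.cast_one] at this
      push_cast at this
      linarith
  -- the total sum
  have htot : ∑ j, ∑ d, c j d = ((p : ℤ) - 1) * 2 := by
    rw [Finset.sum_comm]
    exact sum_const_ne_zero (fun d => ∑ j, c j d) (by simp [h0]) 2 hsum
  have hle : (Fintype.card J : ℤ) * ((p : ℤ) - 1) ≤ ((p : ℤ) - 1) * 2 := by
    rw [← htot]
    calc (Fintype.card J : ℤ) * ((p : ℤ) - 1) = ∑ _j : J, ((p : ℤ) - 1) := by
          rw [Finset.sum_const, Finset.card_univ, nsmul_eq_mul]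
      _ ≤ ∑ j, ∑ d, c j d := Finset.sum_le_sum (fun j _ => hrow j)
  have : (Fintype.card J : ℤ) ≤ 2 := by
    by_contra hcon
    push Not at hcon
    have h3 : (3 : ℤ) ≤ Fintype.card J := by linarith
    nlinarith
  exact_mod_cast this

end Cfsg.Agent.Lib.Helper10_W2p_P4
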