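import Mathlib
import Cfsg.Agent.Lib.Helper12_W2pDefs

/-!
# S0720 package P6 (helper10, for helper12): the orbital matrices
-/

set_option autoImplicit false

namespace Cfsg.Agent.Lib.Helper10_W2p_P6

open Equiv MulAction Cfsg.Agent.Lib.Helper12_W2pDefs

variable {α : Type*} [Fintype α] [DecidableEq α]

omit [Fintype α] [DecidableEq α] in
theorem inv_apply_self' (g : Perm α) (x : α) : g⁻¹ (g x) = x := by simp

omit [Fintype α] [DecidableEq α] in
theorem apply_inv_self' (g : Perm α) (x : α) : g (g⁻¹ x) = x := by simp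

theorem orbMat_eq_one (G : Subgroup (Perm α)) {a₀ b ω ω' : α}
    (h : ∃ g ∈ G, g a₀ = ω ∧ g b = ω') : orbMat G a₀ b ω ω' = 1 := by
  unfold orbMat
  exact if_pos h

theorem orbMat_eq_zero (G : Subgroup (Perm α)) {a₀ b ω ω' : α}
    (h : ¬ ∃ g ∈ G, g a₀ = ω ∧ g b = ω') : orbMat G a₀ b ω ω' = 0 := by
  unfold orbMat
  exact if_neg h

theorem orbMat_eq_ite (G : Subgroup (Perm α)) (a₀ b ω ω' : α)
    [Decidable (∃ g ∈ G, g a₀ = ω ∧ g b = ω')] :
    orbMat G a₀ b ω ω' = if ∃ g ∈ G, g a₀ = ω ∧ g b = ω' then 1 else 0 := by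
  split_ifs with h
  · exact orbMat_eq_one G h
  · exact orbMat_eq_zero G h

omit [Fintype α] [DecidableEq α] in
/-- the condition defining `orbMat` is invariant under `G` -/
theorem cond_shift (G : Subgroup (Perm α)) (a₀ b : α) {g : Perm α} (hg : g ∈ G) (ω ω' : α) :
    (∃ k ∈ G, k a₀ = g ω ∧ k b = g ω') ↔ ∃ k ∈ G, k a₀ = ω ∧ k b = ω' := by
  constructor
  · rintro ⟨k, hk, h1, h2⟩
    refine ⟨g⁻¹ * k, G.mul_mem (G.inv_mem hg) hk, ?_, ?_⟩
    · rw [Perm.mul_apply, h1, inv_apply_self']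
    · rw [Perm.mul_apply, h2, inv_apply_self']
  · rintro ⟨k, hk, h1, h2⟩
    refine ⟨g * k, G.mul_mem hg hk, ?_, ?_⟩
    · rw [Perm.mul_apply, h1]
    · rw [Perm.mul_apply, h2]

theorem P6_inv (G : Subgroup (Perm α)) (a₀ b : α) : Inv G (orbMat G a₀ b) := by
  classical
  intro g hg i j
  rw [orbMat_eq_ite, orbMat_eq_ite]
  simp only [cond_shift G a₀ b hg]

omit [Fintype α] [DecidableEq α] in
/-- the base row of `orbMat` -/
theorem cond_base (G : Subgroup (Perm α)) (a₀ b ω' : α) :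
    (∃ k ∈ G, k a₀ = a₀ ∧ k b = ω') ↔ ω' ∈ orbit (stabilizer G a₀) b := by
  constructor
  · rintro ⟨k, hk, h1, h2⟩
    refine ⟨⟨⟨k, hk⟩, ?_⟩, ?_⟩
    · rw [mem_stabilizer_iff]
      exact h1
    · exact h2
  · rintro ⟨⟨⟨k, hk⟩, hs⟩, h2⟩
    rw [mem_stabilizer_iff] at hs
    exact ⟨k, hk, hs, h2⟩

theorem P6_row (G : Subgroup (Perm α)) [IsPretransitive G α] (a₀ b ω : α) :
    ∑ ω', orbMat G a₀ b ω ω' = Nat.card (orbit (stabilizer G a₀) b) := by
  classical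
  obtain ⟨⟨g₀, hg₀⟩, hgω⟩ := exists_smul_eq G a₀ ω
  have hgω' : g₀ a₀ = ω := hgω
  have h1 : ∑ ω', orbMat G a₀ b ω ω' = ∑ ω'', orbMat G a₀ b a₀ ω'' := by
    rw [← Equiv.sum_comp g₀ (fun ω' => orbMat G a₀ b ω ω')]
    apply Finset.sum_congr rfl
    intro ω'' _
    rw [← hgω']
    exact P6_inv G a₀ b g₀ hg₀ a₀ ω''
  rw [h1]
  simp only [orbMat_eq_ite, cond_base]
  rw [Finset.sum_boole]
  congr 1
  rw [Nat.subtype_card (Finset.univ.filter (fun ω'' => ω'' ∈ orbit (stabilizer G a₀) b))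
    (fun x => by simp)]

theorem P6_diag (G : Subgroup (Perm α)) (a₀ b ω : α) (hb : b ≠ a₀) : orbMat G a₀ b ω ω = 0 := by
  apply orbMat_eq_zero
  rintro ⟨g, -, h1, h2⟩
  exact hb (g.injective (h2.trans h1.symm))

/-- the entry `(ω, ω')` of `orbMat G a₀ b` in terms of a representative -/
theorem orbMat_apply_of (G : Subgroup (Perm α)) (a₀ b : α) {g₀ : Perm α} (hg₀ : g₀ ∈ G)
    (ω' : α) [Decidable (b ∈ orbit (stabilizer G a₀) (g₀⁻¹ ω'))] :
    orbMat G a₀ b (g₀ a₀) ω' = if b ∈ orbit (stabilizer G a₀) (g₀⁻¹ ω') then 1 else 0 := by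
  classical
  have h := P6_inv G a₀ b g₀ hg₀ a₀ (g₀⁻¹ ω')
  rw [apply_inv_self'] at h
  have hiff : g₀⁻¹ ω' ∈ orbit (stabilizer G a₀) b ↔ b ∈ orbit (stabilizer G a₀) (g₀⁻¹ ω') :=
    ⟨fun h => (orbitRel (stabilizer G a₀) α).symm h, fun h => (orbitRel (stabilizer G a₀) α).symm h⟩
  rw [h]
  split_ifs with hmem
  · exact orbMat_eq_one G ((cond_base G a₀ b _).2 (hiff.2 hmem))
  · exact orbMat_eq_zero G (fun hc => hmem (hiff.1 ((cond_base G a₀ b _).1 hc)))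

theorem P6_part (G : Subgroup (Perm α)) [IsPretransitive G α] (a₀ : α)
    [Fintype (orbitRel.Quotient (stabilizer G a₀) α)] (ω ω' : α) :
    ∑ q : orbitRel.Quotient (stabilizer G a₀) α, orbMat G a₀ q.out ω ω' = 1 := by
  classical
  obtain ⟨⟨g₀, hg₀⟩, hgω⟩ := exists_smul_eq G a₀ ω
  have hgω' : g₀ a₀ = ω := hgω
  rw [← hgω']
  rw [Finset.sum_eq_single (Quotient.mk'' (g₀⁻¹ ω') : orbitRel.Quotient (stabilizer G a₀) α)]
  · rw [orbMat_apply_of G a₀ _ hg₀, if_pos]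
    have : (Quotient.mk'' (Quotient.out (Quotient.mk'' (g₀⁻¹ ω') :
        orbitRel.Quotient (stabilizer G a₀) α)) : orbitRel.Quotient (stabilizer G a₀) α)
        = Quotient.mk'' (g₀⁻¹ ω') := Quotient.out_eq _
    exact Quotient.exact this
  · intro q _ hq
    rw [orbMat_apply_of G a₀ _ hg₀, if_neg]
    intro hmem
    apply hq
    have : (Quotient.mk'' q.out : orbitRel.Quotient (stabilizer G a₀) α)
        = Quotient.mk'' (g₀⁻¹ ω') := Quotient.sound hmem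
    rw [← this]
    exact (Quotient.out_eq q).symm
  · intro h
    exact absurd (Finset.mem_univ _) h

theorem P6_span (G : Subgroup (Perm α)) [IsPretransitive G α] (a₀ : α)
    [Fintype (orbitRel.Quotient (stabilizer G a₀) α)] (B : Matrix α α ℤ) (hB : Inv G B) :
    B = ∑ q : orbitRel.Quotient (stabilizer G a₀) α, B a₀ q.out • orbMat G a₀ q.out := by
  classical
  ext ω ω'
  obtain ⟨⟨g₀, hg₀⟩, hgω⟩ := exists_smul_eq G a₀ ω
  have hgω' : g₀ a₀ = ω := hgω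
  rw [Matrix.sum_apply]
  simp only [Matrix.smul_apply, smul_eq_mul]
  rw [← hgω']
  rw [Finset.sum_eq_single (Quotient.mk'' (g₀⁻¹ ω') : orbitRel.Quotient (stabilizer G a₀) α)]
  · have hmem : Quotient.out (Quotient.mk'' (g₀⁻¹ ω') : orbitRel.Quotient (stabilizer G a₀) α)
        ∈ orbit (stabilizer G a₀) (g₀⁻¹ ω') := by
      have : (Quotient.mk'' (Quotient.out (Quotient.mk'' (g₀⁻¹ ω') :
          orbitRel.Quotient (stabilizer G a₀) α)) : orbitRel.Quotient (stabilizer G a₀) α)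
          = Quotient.mk'' (g₀⁻¹ ω') := Quotient.out_eq _
      exact Quotient.exact this
    rw [orbMat_apply_of G a₀ _ hg₀, if_pos hmem, mul_one]
    obtain ⟨⟨⟨s, hs⟩, hsa⟩, hsb⟩ := hmem
    rw [mem_stabilizer_iff] at hsa
    have hsa' : s a₀ = a₀ := hsa
    have hsb' : s (g₀⁻¹ ω') = Quotient.out (Quotient.mk'' (g₀⁻¹ ω') :
        orbitRel.Quotient (stabilizer G a₀) α) := hsb
    rw [← hsb']
    have h1 := hB s hs a₀ (g₀⁻¹ ω')
    rw [hsa'] at h1
    rw [h1]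
    have h2 := hB g₀ hg₀ a₀ (g₀⁻¹ ω')
    rw [apply_inv_self'] at h2
    exact h2
  · intro q _ hq
    rw [orbMat_apply_of G a₀ _ hg₀, if_neg, mul_zero]
    intro hmem
    apply hq
    have : (Quotient.mk'' q.out : orbitRel.Quotient (stabilizer G a₀) α)
        = Quotient.mk'' (g₀⁻¹ ω') := Quotient.sound hmem
    rw [← this]
    exact (Quotient.out_eq q).symm
  · intro h
    exact absurd (Finset.mem_univ _) h

theorem P6_two (G : Subgroup (Perm α)) (a₀ b : α)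
    (h : ∀ ω ω', ω ≠ ω' → orbMat G a₀ b ω ω' = 1) : IsMultiplyPretransitive G α 2 := by
  classical
  rw [MulAction.is_two_pretransitive_iff]
  intro x y x' y' hxy hxy'
  have h1 := h x y hxy
  have h2 := h x' y' hxy'
  rw [orbMat_eq_ite] at h1 h2
  have e1 : ∃ g ∈ G, g a₀ = x ∧ g b = y := by
    by_contra hcon
    rw [if_neg hcon] at h1
    exact zero_ne_one h1
  have e2 : ∃ g ∈ G, g a₀ = x' ∧ g b = y' := by
    by_contra hcon
    rw [if_neg hcon] at h2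
    exact zero_ne_one h2
  obtain ⟨g₁, hg₁, h1a, h1b⟩ := e1
  obtain ⟨g₂, hg₂, h2a, h2b⟩ := e2
  refine ⟨⟨g₂ * g₁⁻¹, G.mul_mem hg₂ (G.inv_mem hg₁)⟩, ?_, ?_⟩
  · show (g₂ * g₁⁻¹) x = x'
    rw [Perm.mul_apply, ← h1a, inv_apply_self', h2a]
  · show (g₂ * g₁⁻¹) y = y'
    rw [Perm.mul_apply, ← h1b, inv_apply_self', h2b]

end Cfsg.Agent.Lib.Helper10_W2p_P6
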