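import Mathlib

/-!
# Ward's theorem: small utilities (helper87)
-/

set_option autoImplicit false

namespace Cfsg.Agent.Lib.Helper87_WardBasic

/-- a power with an integer exponent of an element killed by `p` is a natural power -/
theorem exists_pow_eq_zpow {L : Type*} [Group L] {p : ℕ} (hp : 0 < p) {a : L} (ha : a ^ p = 1)
    (m : ℤ) : ∃ i : ℕ, i < p ∧ a ^ m = a ^ i := by
  have h1 : a ^ (p : ℤ) = 1 := by rw [zpow_natCast, ha]
  have h2 := zpow_eq_zpow_emod (x := a) m h1
  have hp' : (0 : ℤ) < p := by exact_mod_cast hp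
  have h3 : 0 ≤ m % (p : ℤ) := Int.emod_nonneg _ hp'.ne'
  have h4 : m % (p : ℤ) < p := Int.emod_lt_of_pos _ hp'
  refine ⟨(m % (p : ℤ)).toNat, by omega, ?_⟩
  rw [h2, ← zpow_natCast, Int.toNat_of_nonneg h3]

/-- two independent elements generate an elementary abelian group of order `p ^ 2` -/
theorem exists_pow_mul_pow {L : Type*} [Group L] (A : Subgroup L) (p : ℕ) (hp : p.Prime)
    (hAc : ∀ a ∈ A, ∀ b ∈ A, a * b = b * a) (hAp : ∀ a ∈ A, a ^ p = 1)
    (hcard : Nat.card A = p ^ 2) {a b : L} (ha : a ∈ A) (hb : b ∈ A) (hb1 : b ≠ 1)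
    (hab : a ∉ Subgroup.zpowers b) (x : L) (hx : x ∈ A) :
    ∃ i j : ℕ, i < p ∧ j < p ∧ x = a ^ i * b ^ j := by
  have hfin : Finite A := Nat.finite_of_card_ne_zero (by rw [hcard]; exact pow_ne_zero 2 hp.ne_zero)
  have : Fact p.Prime := ⟨hp⟩
  let _ : CommGroup A :=
    { (inferInstance : Group A) with
      mul_comm := fun u v => Subtype.ext (hAc u u.2 v v.2) }
  set a' : A := ⟨a, ha⟩
  set b' : A := ⟨b, hb⟩
  set x' : A := ⟨x, hx⟩
  have hb'p : b' ^ p = 1 := Subtype.ext (by simpa using hAp b hb)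
  have ha'p : a' ^ p = 1 := Subtype.ext (by simpa using hAp a ha)
  have hb'1 : b' ≠ 1 := fun h => hb1 (by have := congrArg Subtype.val h; exact this)
  have hord : orderOf b' = p := orderOf_eq_prime hb'p hb'1
  set H : Subgroup A := Subgroup.closure {a', b'} with hH
  have hbH : b' ∈ H := Subgroup.subset_closure (by simp)
  have haH : a' ∈ H := Subgroup.subset_closure (by simp)
  have hle : Subgroup.zpowers b' ≤ H := by
    rw [Subgroup.zpowers_le]; exact hbH
  have hne : Subgroup.zpowers b' ≠ H := by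
    intro h
    apply hab
    have h1 : a' ∈ Subgroup.zpowers b' := h ▸ haH
    obtain ⟨n, hn⟩ := Subgroup.mem_zpowers_iff.mp h1
    exact Subgroup.mem_zpowers_iff.mpr ⟨n, by simpa using congrArg Subtype.val hn⟩
  have hlt : Subgroup.zpowers b' < H := lt_of_le_of_ne hle hne
  have hcardlt : Nat.card (Subgroup.zpowers b') < Nat.card H := by
    have := Set.ncard_lt_ncard (s := (Subgroup.zpowers b' : Set A)) (t := (H : Set A))
      (by exact_mod_cast hlt) (Set.toFinite _)
    simpa [← Nat.card_coe_set_eq] using this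
  rw [Nat.card_zpowers, hord] at hcardlt
  have hdvd : Nat.card H ∣ p ^ 2 := hcard ▸ Subgroup.card_subgroup_dvd_card H
  obtain ⟨k, hk, hk2⟩ := (Nat.dvd_prime_pow hp).1 hdvd
  rw [hk2] at hcardlt
  have hk' : k = 2 := by
    interval_cases k
    · rw [pow_zero] at hcardlt; have := hp.one_lt; omega
    · rw [pow_one] at hcardlt; omega
    · rfl
  have htop : H = ⊤ := by
    apply Subgroup.eq_top_of_card_eq
    rw [hk2, hk', hcard]
  have hxH : x' ∈ H := htop ▸ Subgroup.mem_top x'
  obtain ⟨m, n, hmn⟩ := Subgroup.mem_closure_pair.mp hxH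
  obtain ⟨i, hi, hi'⟩ := exists_pow_eq_zpow hp.pos ha'p m
  obtain ⟨j, hj, hj'⟩ := exists_pow_eq_zpow hp.pos hb'p n
  refine ⟨i, j, hi, hj, ?_⟩
  rw [hi', hj'] at hmn
  have := congrArg Subtype.val hmn
  simpa using this.symm

/-- an element outside the cyclic subgroup generated by a nontrivial element exists -/
theorem exists_not_mem_zpowers {L : Type*} [Group L] (A : Subgroup L) (p : ℕ) (hp : p.Prime)
    (hAp : ∀ a ∈ A, a ^ p = 1) (hcard : Nat.card A = p ^ 2) (b : L) (hb : b ∈ A) :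
    ∃ a ∈ A, a ∉ Subgroup.zpowers b := by
  by_contra hcon
  push Not at hcon
  have hfin : Finite A := Nat.finite_of_card_ne_zero (by rw [hcard]; exact pow_ne_zero 2 hp.ne_zero)
  have hle : A ≤ Subgroup.zpowers b := hcon
  have h1 : Nat.card A ≤ Nat.card (Subgroup.zpowers b) := by
    have hfin2 : Finite (Subgroup.zpowers b) := by
      have : Subgroup.zpowers b ≤ A := by rw [Subgroup.zpowers_le]; exact hb
      exact Finite.of_injective _ (Subgroup.inclusion_injective this)
    exact Nat.card_le_card_of_injective _ (Subgroup.inclusion_injective hle)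
  rw [Nat.card_zpowers, hcard] at h1
  have h2 : orderOf b ≤ p := Nat.le_of_dvd hp.pos (orderOf_dvd_of_pow_eq_one (hAp b hb))
  have h3 : p < p ^ 2 := by
    have := hp.one_lt
    nlinarith
  omega

/-- in a group of exponent `p`, a nontrivial element of `zpowers c` generates `c` -/
theorem mem_zpowers_of_mem_zpowers {L : Type*} [Group L] {p : ℕ} (hp : p.Prime) {c c' : L}
    (hc : c ^ p = 1) (hc' : c' ∈ Subgroup.zpowers c) (hc'1 : c' ≠ 1) :
    c ∈ Subgroup.zpowers c' := by
  obtain ⟨m, rfl⟩ := Subgroup.mem_zpowers_iff.mp hc'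
  obtain ⟨i, hi, hi'⟩ := exists_pow_eq_zpow hp.pos hc m
  rw [hi'] at hc'1 ⊢
  have hi0 : i ≠ 0 := by
    rintro rfl
    exact hc'1 (pow_zero c)
  have hcop : Nat.Coprime i p := (Nat.coprime_of_lt_prime (n := i) (p := p) hi0 hi hp).symm
  obtain ⟨u, hu⟩ := Nat.exists_mul_mod_eq_one_of_coprime hcop hp.one_lt
  refine Subgroup.mem_zpowers_iff.mpr ⟨(u : ℤ), ?_⟩
  rw [zpow_natCast, ← pow_mul]
  have h1 : i * u = p * (i * u / p) + 1 := by
    have := Nat.div_add_mod (i * u) p
    omega
  rw [h1, pow_add, pow_mul, hc, one_pow, one_mul, pow_one]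

end Cfsg.Agent.Lib.Helper87_WardBasic
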