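import Mathlib
import Cfsg.Agent.Lib.Helper87_WardBasic

set_option autoImplicit false

namespace Cfsg.Agent.Lib.Helper10_WardW7

open Cfsg.Agent.Lib.Helper87_WardBasic

/-- In a cyclic group of prime order every nontrivial element is a generator. -/
theorem mem_zpowers_symm {L : Type*} [Group L] {p : ℕ} (hp : p.Prime) {x y : L} (hy : y ^ p = 1)
    (hx1 : x ≠ 1) (hxy : x ∈ Subgroup.zpowers y) : y ∈ Subgroup.zpowers x := by
  obtain ⟨n, rfl⟩ := Subgroup.mem_zpowers_iff.1 hxy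
  have hnd : ¬ (p : ℤ) ∣ n := by
    rintro ⟨k, rfl⟩
    apply hx1
    rw [zpow_mul, zpow_natCast, hy, one_zpow]
  have hcop : IsCoprime (p : ℤ) n :=
    (Nat.prime_iff_prime_int.1 hp).irreducible.coprime_iff_not_dvd.2 hnd
  obtain ⟨a, b, hab⟩ := hcop
  rw [Subgroup.mem_zpowers_iff]
  refine ⟨b, ?_⟩
  have h1 : y ^ (a * (p : ℤ) + b * n) = y := by rw [hab, zpow_one]
  rw [zpow_add, mul_comm a, zpow_mul, zpow_natCast, hy, one_zpow, one_mul, mul_comm b,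
    zpow_mul] at h1
  exact h1

/-- If `p ∤ n` and `b ^ p = 1` then `b` is a power of `b ^ n`. -/
theorem exists_pow_pow_eq {L : Type*} [Group L] {p : ℕ} (hp : p.Prime) {b : L} (hb : b ^ p = 1)
    {n : ℕ} (hn : ¬ p ∣ n) : ∃ m : ℕ, (b ^ n) ^ m = b := by
  have hcop : Nat.Coprime n p := ((Nat.Prime.coprime_iff_not_dvd hp).2 hn).symm
  obtain ⟨m, -, hm⟩ := Nat.exists_mul_mod_eq_one_of_coprime hcop hp.one_lt
  refine ⟨m, ?_⟩
  rw [← pow_mul, pow_eq_pow_mod (n * m) hb, hm, pow_one]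

theorem stepD {L : Type*} [Group L] {Ω : Type*} (S A : Subgroup L) [Finite S] (p : ℕ)
    (hp : p.Prime) (hAS : A ≤ Subgroup.normalizer (S : Set L))
    (hAc : ∀ a ∈ A, ∀ b ∈ A, a * b = b * a) (hAp : ∀ a ∈ A, a ^ p = 1)
    (hcard : Nat.card A = p ^ 2) (hpS : ¬ p ∣ Nat.card S)
    (b₀ : L) (hb₀ : b₀ ∈ A) (hb₀1 : b₀ ≠ 1) (hb₀S : ∀ g ∈ S, g * b₀ = b₀ * g)
    (hCS : ∀ b ∈ A, b ∉ Subgroup.zpowers b₀ → ∀ g ∈ S, g * b = b * g → g = 1)
    (mv : L → Ω → Ω) (sig : Ω → Subgroup L) (C : Ω → Prop)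
    (h0 : ∀ g ∈ S, ∀ U, C U → C (mv g U))
    (h1 : ∀ g ∈ S, ∀ U, C U → ∀ σ ∈ sig U, g * σ * g⁻¹ ∈ sig (mv g U))
    (h2 : ∀ U, C U → b₀ ∉ sig U) (h3 : ∀ U, C U → ∃ c ∈ A, c ≠ 1 ∧ c ∈ sig U)
    (h4 : ∀ U, C U → ∀ g ∈ sig U, mv g U = U) (h5 : ∀ g ∈ S, Function.Injective (mv g)) :
    ∀ g ∈ S, ∀ U, C U → g ∈ sig U := by
  intro g hg U hU
  obtain ⟨U', hU'def⟩ : ∃ U', U' = mv g U := ⟨_, rfl⟩
  have hU' : C U' := by rw [hU'def]; exact h0 g hg U hU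
  obtain ⟨c, hcA, hc1, hcU⟩ := h3 U hU
  obtain ⟨c', hc'A, hc'1, hc'U'⟩ := h3 U' hU'
  have key : ∀ V, C V → ∀ d ∈ A, d ≠ 1 → d ∈ sig V → d ∉ Subgroup.zpowers b₀ := by
    intro V hV d hdA hd1 hdV hd
    have hb : b₀ ∈ Subgroup.zpowers d := mem_zpowers_symm hp (hAp b₀ hb₀) hd1 hd
    exact h2 V hV ((Subgroup.zpowers_le.2 hdV) hb)
  have hcb : c ∉ Subgroup.zpowers b₀ := key U hU c hcA hc1 hcU
  have hgc : g * c * g⁻¹ ∈ sig U' := by rw [hU'def]; exact h1 g hg U hU c hcU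
  -- conjugation by elements of `A` preserves `S`
  have hconjS : ∀ a ∈ A, ∀ s ∈ S, a * s * a⁻¹ ∈ S := by
    intro a ha s hs
    have hn := hAS ha
    rw [Subgroup.mem_normalizer_iff] at hn
    exact (hn s).1 hs
  have hcomS : ∀ a ∈ A, ∀ s ∈ S, s * a * s⁻¹ * a⁻¹ ∈ S := by
    intro a ha s hs
    have h := S.mul_mem hs (hconjS a ha s⁻¹ (S.inv_mem hs))
    have e : s * a * s⁻¹ * a⁻¹ = s * (a * s⁻¹ * a⁻¹) := by group
    rw [e]; exact h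
  -- injectivity of `s ↦ [s, c]` on `S`
  have hinj : ∀ s ∈ S, ∀ s' ∈ S, s * c * s⁻¹ * c⁻¹ = s' * c * s'⁻¹ * c⁻¹ → s = s' := by
    intro s hs s' hs' he
    have h1' : s * c * s⁻¹ = s' * c * s'⁻¹ := mul_right_cancel he
    have h2' : (s'⁻¹ * s) * c = c * (s'⁻¹ * s) := by
      have : s'⁻¹ * (s * c * s⁻¹) * s = s'⁻¹ * (s' * c * s'⁻¹) * s := by rw [h1']
      have e1 : s'⁻¹ * (s * c * s⁻¹) * s = (s'⁻¹ * s) * c := by group
      have e2 : s'⁻¹ * (s' * c * s'⁻¹) * s = c * (s'⁻¹ * s) := by group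
      rw [e1, e2] at this
      exact this
    have h3' : s'⁻¹ * s = 1 :=
      hCS c hcA hcb (s'⁻¹ * s) (S.mul_mem (S.inv_mem hs') hs) h2'
    have : s = s' * (s'⁻¹ * s) := by group
    rw [this, h3', mul_one]
  -- `c' ∈ zpowers c`
  have hc'c : c' ∈ Subgroup.zpowers c := by
    by_contra hnot
    obtain ⟨i, j, -, -, hij⟩ :=
      exists_pow_mul_pow A p hp hAc hAp hcard hc'A hcA hc1 hnot b₀ hb₀
    have hσ : c' ^ i * (g * c * g⁻¹) ^ j ∈ sig U' :=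
      mul_mem (pow_mem hc'U' i) (pow_mem hgc j)
    have hcjA : c ^ j ∈ A := pow_mem hcA j
    obtain ⟨t, htdef⟩ : ∃ t, t = (c ^ j)⁻¹ * g * (c ^ j) * g⁻¹ := ⟨_, rfl⟩
    have htS : t ∈ S := by
      rw [htdef]
      have h := hconjS (c ^ j)⁻¹ (A.inv_mem hcjA) g hg
      rw [inv_inv] at h
      exact S.mul_mem h (S.inv_mem hg)
    have hσeq : c' ^ i * (g * c * g⁻¹) ^ j = b₀ * t := by
      rw [hij, htdef, conj_pow]
      group
    rw [hσeq] at hσ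
    have hcomm : Commute b₀ t := (hb₀S t htS).symm
    have htn : t ^ Nat.card S = 1 := by
      have h := pow_card_eq_one' (G := S) (x := ⟨t, htS⟩)
      have h' := congrArg Subtype.val h
      rw [Subgroup.coe_pow, Subgroup.coe_one] at h'
      exact h'
    have hpow : b₀ ^ Nat.card S ∈ sig U' := by
      have := pow_mem hσ (Nat.card S)
      rw [hcomm.mul_pow, htn, mul_one] at this
      exact this
    obtain ⟨m, hm⟩ := exists_pow_pow_eq hp (hAp b₀ hb₀) hpS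
    apply h2 U' hU'
    rw [← hm]
    exact pow_mem hpow m
  have hcc' : c ∈ Subgroup.zpowers c' := mem_zpowers_symm hp (hAp c hcA) hc'1 hc'c
  have hcU' : c ∈ sig U' := (Subgroup.zpowers_le.2 hc'U') hcc'
  -- the commutator map on `S₀`
  have hfin : Finite ↥(sig U' ⊓ S) :=
    Finite.of_injective (Subgroup.inclusion (inf_le_right : sig U' ⊓ S ≤ S))
      (Subgroup.inclusion_injective _)
  have hmem : ∀ h ∈ sig U' ⊓ S, h * c * h⁻¹ * c⁻¹ ∈ sig U' ⊓ S := by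
    intro h hh
    obtain ⟨hh1, hh2⟩ := Subgroup.mem_inf.1 hh
    refine Subgroup.mem_inf.2 ⟨?_, hcomS c hcA h hh2⟩
    exact mul_mem (mul_mem (mul_mem hh1 hcU') (inv_mem hh1)) (inv_mem hcU')
  have hφinj : Function.Injective
      (fun h : ↥(sig U' ⊓ S) => (⟨(h : L) * c * (h : L)⁻¹ * c⁻¹, hmem h h.2⟩ : ↥(sig U' ⊓ S))) := by
    intro h h' he
    have he' : (h : L) * c * (h : L)⁻¹ * c⁻¹ = (h' : L) * c * (h' : L)⁻¹ * c⁻¹ :=
      congrArg Subtype.val he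
    exact Subtype.ext (hinj h (Subgroup.mem_inf.1 h.2).2 h' (Subgroup.mem_inf.1 h'.2).2 he')
  have hφsurj := Finite.surjective_of_injective hφinj
  have htmem : g * c * g⁻¹ * c⁻¹ ∈ sig U' ⊓ S :=
    Subgroup.mem_inf.2 ⟨mul_mem hgc (inv_mem hcU'), hcomS c hcA g hg⟩
  obtain ⟨h, hh⟩ := hφsurj ⟨g * c * g⁻¹ * c⁻¹, htmem⟩
  have hh' : (h : L) * c * (h : L)⁻¹ * c⁻¹ = g * c * g⁻¹ * c⁻¹ := congrArg Subtype.val hh
  have hgh : (h : L) = g := hinj h (Subgroup.mem_inf.1 h.2).2 g hg hh'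
  have hgU' : g ∈ sig U' := by rw [← hgh]; exact (Subgroup.mem_inf.1 h.2).1
  have e1 : mv g U' = U' := h4 U' hU' g hgU'
  have e2 : mv g U' = mv g U := by rw [e1, hU'def]
  have e3 : U' = U := h5 g hg e2
  rw [← e3]; exact hgU'

end Cfsg.Agent.Lib.Helper10_WardW7
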