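import Mathlib

set_option autoImplicit false

namespace Cfsg.Agent.Lib.Helper10_WardW9

/-- In a finite group with a normal Sylow `q`-subgroup `P`, every `q`-element lies in `P`. -/
theorem mem_of_normal_sylow {G : Type*} [Group G] [Finite G] {q : ℕ} [Fact q.Prime]
    (P : Sylow q G) (hP : (P : Subgroup G).Normal) (x : G) (hx : ∃ n, x ^ q ^ n = 1) :
    x ∈ (P : Subgroup G) := by
  obtain ⟨n, hn⟩ := hx
  have hz : IsPGroup q (Subgroup.zpowers x) := by
    rw [IsPGroup.iff_card, Nat.card_zpowers]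
    have hd : orderOf x ∣ q ^ n := orderOf_dvd_of_pow_eq_one hn
    obtain ⟨k, -, hk⟩ := (Nat.dvd_prime_pow (Fact.out)).1 hd
    exact ⟨k, hk⟩
  obtain ⟨Q, hQ⟩ := hz.exists_le_sylow
  obtain ⟨g, hg⟩ := MulAction.exists_smul_eq G P Q
  have hP' := hP
  rw [Sylow.smul_eq_of_normal] at hg
  rw [hg]
  exact hQ (Subgroup.mem_zpowers x)

theorem faithful_on_V {Γ : Type*} [Group Γ] [Finite Γ] (R V : Subgroup Γ) [R.Normal] [V.Normal]
    (hV1 : V ≠ ⊥) (r : ℕ) (hr : r.Prime) (hV : IsPGroup r V) (c : ℕ)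
    (hc : R.lowerCentralSeries c ≤ V)
    (huniq : ∀ M : Subgroup Γ, M.Normal → M ≠ ⊥ → M ≤ R → V ≤ M) (q : ℕ) (hq : q.Prime)
    (hqr : q ≠ r) (x : Γ) (hxR : x ∈ R) (hxq : ∃ n, x ^ q ^ n = 1)
    (hxV : ∀ v ∈ V, x * v = v * x) : x = 1 := by
  classical
  have : Fact q.Prime := ⟨hq⟩
  have : Fact r.Prime := ⟨hr⟩
  obtain ⟨C, hCdef⟩ : ∃ C : Subgroup Γ, C = R ⊓ Subgroup.centralizer (V : Set Γ) := ⟨_, rfl⟩
  have hCn : C.Normal := by rw [hCdef]; infer_instance
  have hCR : C ≤ R := by rw [hCdef]; exact inf_le_left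
  have hCV : C ≤ Subgroup.centralizer (V : Set Γ) := by rw [hCdef]; exact inf_le_right
  -- C is nilpotent
  have hnil : Group.IsNilpotent C := by
    rw [Subgroup.isNilpotent_iff_lowerCentralSeries]
    refine ⟨c + 1, ?_⟩
    rw [Subgroup.lowerCentralSeries_succ, eq_bot_iff]
    have h1 : C.lowerCentralSeries c ≤ V :=
      (Subgroup.lowerCentralSeries_mono c hCR).trans hc
    refine (Subgroup.commutator_mono h1 hCV).trans ?_
    rw [Subgroup.commutator_comm, le_bot_iff, Subgroup.commutator_eq_bot_iff_le_centralizer]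
  -- the Sylow q of C is normal
  obtain ⟨P⟩ : Nonempty (Sylow q C) := inferInstance
  have hPn : (P : Subgroup C).Normal := inferInstance
  have hPc : (P : Subgroup C).Characteristic := Sylow.characteristic_of_normal P hPn
  obtain ⟨D, hDdef⟩ : ∃ D : Subgroup Γ, D = (P : Subgroup C).map C.subtype := ⟨_, rfl⟩
  have hDn : D.Normal := by rw [hDdef]; infer_instance
  have hDC : D ≤ C := by rw [hDdef]; exact Subgroup.map_subtype_le _
  have hDq : IsPGroup q D := by
    rw [hDdef]; exact P.isPGroup'.map _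
  have hxC : x ∈ C := by
    rw [hCdef]
    refine Subgroup.mem_inf.2 ⟨hxR, ?_⟩
    rw [Subgroup.mem_centralizer_iff]
    intro v hv
    exact (hxV v hv).symm
  have hxD : x ∈ D := by
    rw [hDdef]
    refine ⟨⟨x, hxC⟩, ?_, rfl⟩
    apply mem_of_normal_sylow P hPn
    obtain ⟨n, hn⟩ := hxq
    exact ⟨n, Subtype.ext (by simpa using hn)⟩
  by_cases hD : D = ⊥
  · rw [hD] at hxD
    exact Subgroup.mem_bot.1 hxD
  · exfalso
    have hVD : V ≤ D := huniq D hDn hD (hDC.trans hCR)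
    have hVq : IsPGroup q V := hDq.to_le hVD
    apply hV1
    rw [eq_bot_iff]
    intro v hv
    rw [Subgroup.mem_bot]
    obtain ⟨a, ha⟩ := hV ⟨v, hv⟩
    obtain ⟨b, hb⟩ := hVq ⟨v, hv⟩
    have ha' : v ^ r ^ a = 1 := by simpa using congrArg Subtype.val ha
    have hb' : v ^ q ^ b = 1 := by simpa using congrArg Subtype.val hb
    have h1 : orderOf v ∣ r ^ a := orderOf_dvd_of_pow_eq_one ha'
    have h2 : orderOf v ∣ q ^ b := orderOf_dvd_of_pow_eq_one hb'
    have hcop : Nat.Coprime (r ^ a) (q ^ b) :=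
      Nat.Coprime.pow _ _ ((Nat.coprime_primes hr hq).2 (Ne.symm hqr))
    have : orderOf v = 1 := Nat.eq_one_of_dvd_coprimes hcop h1 h2
    exact orderOf_eq_one_iff.1 this

end Cfsg.Agent.Lib.Helper10_WardW9
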