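import Mathlib

/-!
# A7-L3ORD (architect helper62, proof helper11)

`P` a Sylow 3-subgroup of order 9 with `|N(P)| = 36`, no involution centralising `P`, and `u ∈ N(P)` of order 4:
every element of `N(P)` outside `P` has order 2 or 4.

Proof: `z = u²` is an involution; `I = {x ∈ P | z x z⁻¹ = x⁻¹}` is a subgroup of the abelian group `P`, not trivial
(else `z` centralises `P`), not of order 3 (`u` normalises `I`, and an automorphism of a group of order 3 has square 1,
but `z = u²` inverts `I`), so `I = P`: `z` inverts `P`.  `N(P) = P ⟨u⟩` by orders, `(p z)² = 1`, and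
`(p u^{±1})² ∈ P z`.
-/

set_option autoImplicit false

namespace Cfsg.Agent.Lib.Helper11_A7_L3ORD

/-- a group of order 3 inside `G` is `{1, i, i²}` -/
theorem mem_of_card_three {G : Type*} [Group G] (I : Subgroup G) (hI : Nat.card I = 3) (i : G)
    (hi : i ∈ I) (hi1 : i ≠ 1) : i ^ 3 = 1 ∧ ∀ x ∈ I, x = 1 ∨ x = i ∨ x = i ^ 2 := by
  classical
  have : Fact (Nat.Prime 3) := ⟨Nat.prime_three⟩
  have : Finite ↥I := Nat.finite_of_card_ne_zero (by rw [hI]; norm_num)
  have h3 : i ^ 3 = 1 := by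
    have h := pow_card_eq_one' (G := ↥I) (x := ⟨i, hi⟩)
    rw [hI] at h
    exact congrArg Subtype.val h
  have ho : orderOf i = 3 := orderOf_eq_prime h3 hi1
  have hz : Subgroup.zpowers i = I := by
    apply Subgroup.eq_of_le_of_card_ge
    · rw [Subgroup.zpowers_le]; exact hi
    · rw [Nat.card_zpowers, ho, hI]
  refine ⟨h3, ?_⟩
  intro x hx
  rw [← hz] at hx
  have hfo : IsOfFinOrder i := isOfFinOrder_iff_pow_eq_one.mpr ⟨3, by norm_num, h3⟩
  rw [hfo.mem_zpowers_iff_mem_range_orderOf, ho] at hx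
  simp only [Finset.mem_image, Finset.mem_range] at hx
  obtain ⟨k, hk, rfl⟩ := hx
  interval_cases k
  · left; simp
  · right; left; simp
  · right; right; rfl

theorem orders_outside {G : Type*} [Group G] [Finite G] [Fact (Nat.Prime 3)]
    (P : Sylow 3 G) (hP : Nat.card P = 9)
    (hN : Nat.card (Subgroup.normalizer ((P : Subgroup G) : Set G)) = 36)
    (hnc : ∀ t : G, orderOf t = 2 → t ∉ Subgroup.centralizer ((P : Subgroup G) : Set G))
    (u : G) (hu : u ∈ Subgroup.normalizer ((P : Subgroup G) : Set G)) (hu4 : orderOf u = 4) :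
    ∀ b ∈ Subgroup.normalizer ((P : Subgroup G) : Set G), b ∉ (P : Subgroup G) →
      orderOf b = 2 ∨ orderOf b = 4 := by
  classical
  have : Fact (Nat.Prime 2) := ⟨Nat.prime_two⟩
  set Pg : Subgroup G := (P : Subgroup G) with hPg
  set Bn : Subgroup G := Subgroup.normalizer (Pg : Set G) with hBn
  have hPc : Nat.card ↥Pg = 9 := hP
  -- `P` is commutative
  have hcomm : ∀ a ∈ Pg, ∀ b ∈ Pg, a * b = b * a := by
    intro a ha b hb
    have hc : IsMulCommutative ↥Pg :=
      IsPGroup.isMulCommutative_of_card_eq_prime_sq (p := 3) (G := ↥Pg) (by rw [hPc]; norm_num)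
    have h : (⟨a, ha⟩ : ↥Pg) * ⟨b, hb⟩ = ⟨b, hb⟩ * ⟨a, ha⟩ := hc.is_comm.comm _ _
    exact congrArg Subtype.val h
  -- odd order
  have hodd : ∀ x ∈ Pg, x * x = 1 → x = 1 := by
    intro x hx hxx
    have h9 : x ^ 9 = 1 := by
      have h := pow_card_eq_one' (G := ↥Pg) (x := ⟨x, hx⟩)
      rw [hPc] at h
      exact congrArg Subtype.val h
    have h9' : x ^ 9 = x := by
      calc x ^ 9 = (x * x) ^ 4 * x := by simp only [pow_succ, pow_zero, one_mul, mul_assoc]
        _ = x := by rw [hxx, one_pow, one_mul]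
    rw [← h9', h9]
  -- conjugation by elements of `N(P)`
  have hconj : ∀ g ∈ Bn, ∀ x ∈ Pg, g * x * g⁻¹ ∈ Pg := by
    intro g hg x hx
    exact (Subgroup.mem_normalizer_iff.mp hg x).mp hx
  -- the involution `z = u²`
  set z : G := u * u with hz
  have hu4' : u ^ 4 = 1 := by rw [← hu4]; exact pow_orderOf_eq_one u
  have hzz : z * z = 1 := by
    rw [hz, ← hu4']; simp only [pow_succ, pow_zero, one_mul, mul_assoc]
  have hz1 : z ≠ 1 := by
    intro h1
    have h2 : u ^ 2 = 1 := by rw [pow_two]; exact h1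
    have := orderOf_dvd_of_pow_eq_one h2
    rw [hu4] at this
    omega
  have hzo : orderOf z = 2 := orderOf_eq_prime (by rw [pow_two]; exact hzz) hz1
  have hzinv : z⁻¹ = z := inv_eq_of_mul_eq_one_left hzz
  have hzB : z ∈ Bn := Bn.mul_mem hu hu
  have hzu : z * u = u * z := by rw [hz, mul_assoc]
  have hzP : z ∉ Pg := fun h => hz1 (hodd z h hzz)
  -- the subgroup inverted by `z`
  let I : Subgroup G :=
    { carrier := {x | x ∈ Pg ∧ z * x * z⁻¹ = x⁻¹}
      mul_mem' := by
        rintro a b ⟨ha, ha'⟩ ⟨hb, hb'⟩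
        refine ⟨Pg.mul_mem ha hb, ?_⟩
        have h1 : z * (a * b) * z⁻¹ = (z * a * z⁻¹) * (z * b * z⁻¹) := by group
        rw [h1, ha', hb', mul_inv_rev]
        exact hcomm _ (Pg.inv_mem ha) _ (Pg.inv_mem hb)
      one_mem' := ⟨Pg.one_mem, by simp⟩
      inv_mem' := by
        rintro a ⟨ha, ha'⟩
        refine ⟨Pg.inv_mem ha, ?_⟩
        have h1 : z * a⁻¹ * z⁻¹ = (z * a * z⁻¹)⁻¹ := by group
        rw [h1, ha'] }
  have hmemI : ∀ x, x ∈ I ↔ x ∈ Pg ∧ z * x * z⁻¹ = x⁻¹ := fun x => Iff.rfl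
  have hIle : I ≤ Pg := fun x hx => hx.1
  -- (a) `p (z p z⁻¹)⁻¹ ∈ I`
  have hIa : ∀ p ∈ Pg, p * (z * p * z⁻¹)⁻¹ ∈ I := by
    intro p hp
    refine ⟨Pg.mul_mem hp (Pg.inv_mem (hconj z hzB p hp)), ?_⟩
    have h1 : z * (p * (z * p * z⁻¹)⁻¹) * z⁻¹ = (z * p * z⁻¹) * ((z * z) * p * (z * z)⁻¹)⁻¹ := by
      group
    rw [h1, hzz]
    group
  have hIbot : I ≠ ⊥ := by
    intro hbot
    apply hnc z hzo
    rw [Subgroup.mem_centralizer_iff]
    intro p hp
    have h1 := hIa p hp
    rw [hbot, Subgroup.mem_bot] at h1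
    -- p = z p z⁻¹
    have h2 : p = z * p * z⁻¹ := by
      have := mul_inv_eq_one.mp h1
      exact this
    calc p * z = (z * p * z⁻¹) * z := by rw [← h2]
      _ = z * p := by group
  -- `u` normalises `I`
  have hIu : ∀ x ∈ I, u * x * u⁻¹ ∈ I := by
    rintro x ⟨hx, hx'⟩
    refine ⟨hconj u hu x hx, ?_⟩
    have h1 : z * (u * x * u⁻¹) * z⁻¹ = u * (z * x * z⁻¹) * u⁻¹ := by
      rw [hz]; group
    rw [h1, hx']
    group
  have hI3 : Nat.card ↥I ≠ 3 := by
    intro h3
    obtain ⟨i, hiI, hi1⟩ : ∃ i ∈ I, i ≠ 1 := by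
      by_contra hcon
      push Not at hcon
      apply hIbot
      rw [eq_bot_iff]
      intro x hx
      rw [Subgroup.mem_bot]
      exact hcon x hx
    obtain ⟨hi3, hall⟩ := mem_of_card_three I h3 i hiI hi1
    have hzi : z * i * z⁻¹ = i⁻¹ := hiI.2
    -- `u² i u⁻² = i`
    have hzi' : z * i * z⁻¹ = i := by
      have h1 : z * i * z⁻¹ = u * (u * i * u⁻¹) * u⁻¹ := by rw [hz]; group
      rcases hall _ (hIu i hiI) with h0 | h0 | h0
      · exfalso
        apply hi1
        have : i = u⁻¹ * (u * i * u⁻¹) * u := by group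
        rw [this, h0]; group
      · rw [h1, h0, h0]
      · rw [h1, h0]
        have h2 : u * i ^ 2 * u⁻¹ = (u * i * u⁻¹) ^ 2 := by rw [pow_two, pow_two]; group
        rw [h2, h0]
        calc (i ^ 2) ^ 2 = i ^ 3 * i := by simp only [pow_succ, pow_zero, one_mul, mul_assoc]
          _ = i := by rw [hi3, one_mul]
    have h5 : i * i = 1 := by
      have : i = i⁻¹ := hzi'.symm.trans hzi
      calc i * i = i * i⁻¹ := by rw [← this]
        _ = 1 := mul_inv_cancel i
    exact hi1 (hodd i hiI.1 h5)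
  have hItop : I = Pg := by
    apply Subgroup.eq_of_le_of_card_ge hIle
    have hdvd : Nat.card ↥I ∣ 9 := by
      rw [← hPc]; exact Subgroup.card_dvd_of_le hIle
    have h1 : Nat.card ↥I ≠ 1 := by
      intro h1
      exact hIbot (Subgroup.card_eq_one.mp h1)
    have hdiv : Nat.card ↥I ∈ Nat.divisors 9 := Nat.mem_divisors.mpr ⟨hdvd, by norm_num⟩
    have h9 : Nat.divisors 9 = {1, 3, 9} := by decide
    rw [h9] at hdiv
    simp only [Finset.mem_insert, Finset.mem_singleton] at hdiv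
    rw [hPc]
    omega
  -- `z` inverts `P`
  have hinv : ∀ p ∈ Pg, z * p * z⁻¹ = p⁻¹ := by
    intro p hp
    have : p ∈ I := by rw [hItop]; exact hp
    exact this.2
  have hpz : ∀ p ∈ Pg, (p * z) * (p * z) = 1 := by
    intro p hp
    have h1 : (p * z) * (p * z) = p * (z * p * z⁻¹) * (z * z) := by group
    rw [h1, hinv p hp, hzz]
    group
  -- `N(P) = P ⟨u⟩`
  have hsup : Pg ⊔ Subgroup.zpowers u = Bn := by
    apply Subgroup.eq_of_le_of_card_ge
    · exact sup_le Subgroup.le_normalizer (by rw [Subgroup.zpowers_le]; exact hu)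
    · have h9 : 9 ∣ Nat.card ↥(Pg ⊔ Subgroup.zpowers u) := by
        rw [← hPc]; exact Subgroup.card_dvd_of_le le_sup_left
      have h4 : 4 ∣ Nat.card ↥(Pg ⊔ Subgroup.zpowers u) := by
        have := Subgroup.card_dvd_of_le (le_sup_right : Subgroup.zpowers u ≤ Pg ⊔ Subgroup.zpowers u)
        rwa [Nat.card_zpowers, hu4] at this
      have h36 : 36 ∣ Nat.card ↥(Pg ⊔ Subgroup.zpowers u) :=
        Nat.Coprime.mul_dvd_of_dvd_of_dvd (by norm_num : Nat.Coprime 9 4) h9 h4
      have hpos : 0 < Nat.card ↥(Pg ⊔ Subgroup.zpowers u) := Nat.card_pos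
      rw [hN]
      exact Nat.le_of_dvd hpos h36
  -- elements `p w` with `w² = z`
  have hw : ∀ p ∈ Pg, ∀ w ∈ Bn, w * w = z → orderOf (p * w) = 4 := by
    intro p hp w hwB hww
    have h1 : (p * w) * (p * w) = (p * (w * p * w⁻¹)) * z := by
      rw [← hww]; group
    have hp' : p * (w * p * w⁻¹) ∈ Pg := Pg.mul_mem hp (hconj w hwB p hp)
    have h2 : (p * w) ^ 2 ^ (1 + 1) = 1 := by
      have : (p * w) ^ 2 ^ (1 + 1) = ((p * w) * (p * w)) * ((p * w) * (p * w)) := by
        have e : (2 : ℕ) ^ (1 + 1) = 4 := by norm_num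
        rw [e]
        simp only [pow_succ, pow_zero, one_mul, mul_assoc]
      rw [this, h1]
      exact hpz _ hp'
    have h3 : ¬ (p * w) ^ 2 ^ 1 = 1 := by
      rw [pow_one, pow_two, h1]
      intro h0
      apply hzP
      have : z = (p * (w * p * w⁻¹))⁻¹ := eq_inv_of_mul_eq_one_right h0
      rw [this]
      exact Pg.inv_mem hp'
    have := orderOf_eq_prime_pow h3 h2
    rw [this]
    norm_num
  intro b hb hbP
  have hb' : b ∈ Pg ⊔ Subgroup.zpowers u := by rw [hsup]; exact hb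
  rw [← SetLike.mem_coe, Subgroup.coe_mul_of_right_le_normalizer_left Pg (Subgroup.zpowers u)
    (by rw [Subgroup.zpowers_le]; exact hu)] at hb'
  obtain ⟨p, hp, w, hw', rfl⟩ := hb'
  have hp : p ∈ Pg := hp
  have hw' : w ∈ Subgroup.zpowers u := hw'
  rw [mem_zpowers_iff_mem_range_orderOf, hu4] at hw'
  simp only [Finset.mem_image, Finset.mem_range] at hw'
  obtain ⟨k, hk, rfl⟩ := hw'
  interval_cases k
  · exfalso
    apply hbP
    simpa using hp
  · right
    exact hw p hp (u ^ 1) (by simpa using hu) (by rw [hz, pow_one])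
  · left
    have h2 : u ^ 2 = z := by rw [hz, pow_two]
    rw [h2]
    apply orderOf_eq_prime
    · rw [pow_two]; exact hpz p hp
    · intro h1
      apply hbP
      rw [h2, h1]
      exact Pg.one_mem
  · right
    apply hw p hp (u ^ 3) (Bn.pow_mem hu 3)
    calc u ^ 3 * u ^ 3 = u ^ 4 * (u * u) := by simp only [pow_succ, pow_zero, one_mul, mul_assoc]
      _ = z := by rw [hu4', one_mul]

end Cfsg.Agent.Lib.Helper11_A7_L3ORD
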