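import Cfsg.Agent.Lib.Helper13_AmAPI
import Cfsg.Agent.Lib.Helper12_Sims_BEQUIV
import Cfsg.Agent.Lib.Helper60_Am_E52
import Cfsg.Agent.Lib.Helper11_Am_E53
import Cfsg.Agent.Lib.Helper93_Am_E54

/-!
# S2858 market (architect helper13), package E-55: `|Q_x| ∈ {4, 8}` for `b = 1`
(copy-adapted from `Helper82_Sims_E55`; second seat).
-/

set_option autoImplicit false
set_option linter.unusedVariables false

namespace Cfsg.Agent.Lib.Helper11_Am_E55

open MulAction Cfsg.Agent.Lib.Helper13_SimsDefs Cfsg.Agent.Lib.Helper13_AmDefs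

section PartE
variable {G Ω : Type*} [Group G] [MulAction G Ω] {a b : Ω}

/-- E-55, `_of` form: the conclusions of E-52 (second half), E-53, E-54 as hypotheses. -/
theorem card_K_of (S : S3Am G a b) (F : FF G a b) {x y : Ω} (hadj : Adj G a b x y)
    (h52 : Nat.card (Cst G a b x) ≤ 8 ∧ Nat.card (Tst G x y) = 8 * Nat.card (Cst G a b x))
    (h53 : Nat.card (Cst G a b x) ≠ 4) (h54 : Nat.card (Cst G a b x) ≠ 8) :
    Nat.card (Kst G a b x) = 4 ∨ Nat.card (Kst G a b x) = 8 := by
  have : Fact (Nat.Prime 2) := ⟨Nat.prime_two⟩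
  have hle : Cst G a b x ≤ Tst G x y :=
    (inf_le_left : Cst G a b x ≤ Kst G a b x).trans (Helper12_Sims_BEQUIV.Kst_le_Tst hadj)
  have hfs : Finite (stabilizer G x) := S.fin x
  have hfin : Finite (Cst G a b x) :=
    Finite.of_injective (Subgroup.inclusion (hle.trans (inf_le_left : Tst G x y ≤ stabilizer G x)))
      (Subgroup.inclusion_injective _)
  have hp : IsPGroup 2 (Cst G a b x) := (F.two x y hadj).to_le hle
  obtain ⟨k, hk⟩ := IsPGroup.iff_card.mp hp
  have hidx := F.idx2 x y hadj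
  obtain ⟨h8, hT⟩ := h52
  rw [hk] at h8 h53 h54 hT
  have hk3 : k ≤ 3 := by
    by_contra hcon
    push Not at hcon
    have : 2 ^ 4 ≤ 2 ^ k := Nat.pow_le_pow_right (by norm_num) hcon
    omega
  interval_cases k
  · left
    omega
  · right
    omega
  · exact absurd rfl h53
  · exact absurd rfl h54

/-- E-55 (copy-adapt `Helper82_Sims_E55`). -/
theorem card_K (S : S3Am G a b) (L : LocAPI G a b) (C : CritAPI G a b) (F : FF G a b) (hb1 : IsCrit G a b 1) (x : Ω) :
    Nat.card (Kst G a b x) = 4 ∨ Nat.card (Kst G a b x) = 8 := by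
  obtain ⟨y, hadj⟩ := S.nbr x
  have h := Helper60_Am_E52.Cst_inf S L C F hb1 hadj
  exact card_K_of S F hadj ⟨h.2.2.1, h.2.2.2⟩
    (Helper11_Am_E53.card_Cst_ne_four S L C F hb1 x)
    (Helper93_Am_E54.card_Cst_ne_eight S L C F hb1 x)

end PartE

end Cfsg.Agent.Lib.Helper11_Am_E55
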