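import Mathlib
import Cfsg.Agent.Lib.Helper20_PGroupOdd

/-!
# Odd `p`-groups: an elementary abelian subgroup of order `p³` forces a normal one

`exists_normal_rank_three`: for `p` odd, a finite `p`-group with an abelian subgroup of exponent `p`
and order at least `p³` has a normal abelian subgroup of exponent `p` and order exactly `p³`.
Auxiliary: `exists_central_mod` (a normal subgroup not inside the normal subgroup `R` has an element
outside `R` central modulo `R`), `lemmaA`, `card_normal_sup_zpowers`, `normal_sup_zpowers`,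
`sup_zpowers_comm_exp`, `commHom`.
-/

set_option autoImplicit false

namespace Cfsg.Agent.Lib.Helper20_PGroupRank3

open Cfsg.Agent.Lib.Helper20_PGroupOdd

universe u

section Ext
variable {G : Type*} [Group G]

/-- order of `N ⊔ ⟨w⟩` for `N` normal, `w` of prime order outside `N` -/
theorem card_normal_sup_zpowers {p : ℕ} [Fact p.Prime] (N : Subgroup G) [hN : N.Normal] {w : G}
    (hw : orderOf w = p) (hwN : w ∉ N) :
    Nat.card ↥(N ⊔ Subgroup.zpowers w) = Nat.card N * p := by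
  have hdisj : N ⊓ Subgroup.zpowers w = ⊥ := by
    rw [Subgroup.eq_bot_iff_forall]
    intro x hx
    by_contra hx1
    have h2 := zpowers_eq_of_mem_of_ne_one hw hx.2 hx1
    apply hwN
    have : w ∈ Subgroup.zpowers x := by rw [h2]; exact Subgroup.mem_zpowers w
    exact (Subgroup.zpowers_le.mpr hx.1) this
  have h1 : N.relIndex (N ⊔ Subgroup.zpowers w) = p := by
    rw [Subgroup.relIndex_sup_left, ← Subgroup.inf_relIndex_right, hdisj,
      Subgroup.relIndex_bot_left, Nat.card_zpowers, hw]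
  have h2 := Subgroup.relIndex_mul_relIndex (⊥ : Subgroup G) N
    (N ⊔ Subgroup.zpowers w) bot_le le_sup_left
  rw [Subgroup.relIndex_bot_left, Subgroup.relIndex_bot_left, h1] at h2
  exact h2.symm

/-- `N ⊔ ⟨w⟩` is normal if `N` is and all `g w g⁻¹ w⁻¹ ∈ N`. -/
theorem normal_sup_zpowers (N : Subgroup G) [hN : N.Normal] {w : G}
    (hw : ∀ g : G, g * w * g⁻¹ * w⁻¹ ∈ N) : (N ⊔ Subgroup.zpowers w).Normal := by
  constructor
  intro n hn g
  have hmap : (N ⊔ Subgroup.zpowers w).map (MulAut.conj g).toMonoidHom ≤ N ⊔ Subgroup.zpowers w := by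
    rw [Subgroup.map_sup, MonoidHom.map_zpowers]
    apply sup_le
    · intro x hx
      obtain ⟨y, hy, rfl⟩ := Subgroup.mem_map.mp hx
      apply Subgroup.mem_sup_left
      simp only [MulEquiv.coe_toMonoidHom, MulAut.conj_apply]
      exact hN.conj_mem y hy g
    · rw [Subgroup.zpowers_le]
      have : (MulAut.conj g).toMonoidHom w = (g * w * g⁻¹ * w⁻¹) * w := by
        simp only [MulEquiv.coe_toMonoidHom, MulAut.conj_apply]
        group
      rw [this]
      exact mul_mem (Subgroup.mem_sup_left (hw g)) (Subgroup.mem_sup_right (Subgroup.mem_zpowers w))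
  have : (MulAut.conj g).toMonoidHom n ∈ (N ⊔ Subgroup.zpowers w).map (MulAut.conj g).toMonoidHom :=
    Subgroup.mem_map_of_mem _ hn
  have h2 := hmap this
  simpa using h2

/-- `N ⊔ ⟨w⟩` is abelian of exponent `p` if `N` is and `w` of order dividing `p` commutes
with `N`. -/
theorem sup_zpowers_comm_exp {p : ℕ} (N : Subgroup G) [hN : N.Normal]
    (hNc : ∀ x ∈ N, ∀ y ∈ N, x * y = y * x) (hNe : ∀ x ∈ N, x ^ p = 1) {w : G}
    (hwp : w ^ p = 1) (hwc : ∀ x ∈ N, x * w = w * x) :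
    (∀ x ∈ N ⊔ Subgroup.zpowers w, ∀ y ∈ N ⊔ Subgroup.zpowers w, x * y = y * x) ∧
      ∀ x ∈ N ⊔ Subgroup.zpowers w, x ^ p = 1 := by
  have hcz : ∀ x ∈ N, ∀ i : ℤ, Commute x (w ^ i) := fun x hx i =>
    Commute.zpow_right (hwc x hx) i
  constructor
  · intro x hx y hy
    obtain ⟨a, ha, b, hb, rfl⟩ := Subgroup.mem_sup_of_normal_left.mp hx
    obtain ⟨a', ha', b', hb', rfl⟩ := Subgroup.mem_sup_of_normal_left.mp hy
    obtain ⟨i, rfl⟩ := Subgroup.mem_zpowers_iff.mp hb
    obtain ⟨j, rfl⟩ := Subgroup.mem_zpowers_iff.mp hb'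
    have h1 : w ^ i * w ^ j = w ^ j * w ^ i := by rw [← zpow_add, ← zpow_add, add_comm]
    calc a * w ^ i * (a' * w ^ j) = a * (w ^ i * a') * w ^ j := by simp only [mul_assoc]
      _ = a * (a' * w ^ i) * w ^ j := by rw [(hcz a' ha' i).eq]
      _ = (a * a') * (w ^ i * w ^ j) := by simp only [mul_assoc]
      _ = (a' * a) * (w ^ j * w ^ i) := by rw [h1, hNc a ha a' ha']
      _ = a' * (a * w ^ j) * w ^ i := by simp only [mul_assoc]
      _ = a' * (w ^ j * a) * w ^ i := by rw [(hcz a ha j).eq]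
      _ = a' * w ^ j * (a * w ^ i) := by simp only [mul_assoc]
  · intro x hx
    obtain ⟨a, ha, b, hb, rfl⟩ := Subgroup.mem_sup_of_normal_left.mp hx
    obtain ⟨i, rfl⟩ := Subgroup.mem_zpowers_iff.mp hb
    rw [(hcz a ha i).mul_pow, hNe a ha, one_mul, ← zpow_natCast, ← zpow_mul, mul_comm, zpow_mul,
      zpow_natCast, hwp, one_zpow]

end Ext


section Quot
variable {H : Type u} [Group H] [Finite H] {p : ℕ} [hpf : Fact p.Prime]

/-- **Lemma Q**: in a finite `p`-group, a normal subgroup `V` not contained in the normal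
subgroup `R` contains an element outside `R` which is central modulo `R`. -/
theorem exists_central_mod (hH : IsPGroup p H) (R V : Subgroup H) [hRn : R.Normal] [hVn : V.Normal]
    (hVR : ¬ V ≤ R) : ∃ w ∈ V, w ∉ R ∧ ∀ g : H, g * w * g⁻¹ * w⁻¹ ∈ R := by
  set f := QuotientGroup.mk' R with hf
  have hfs : Function.Surjective f := QuotientGroup.mk'_surjective _
  have hker : ∀ x : H, f x = 1 ↔ x ∈ R := by
    intro x
    rw [← MonoidHom.mem_ker, QuotientGroup.ker_mk']
  have hn : (V.map f).Normal := hVn.map f hfs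
  have hne : V.map f ≠ ⊥ := by
    intro hbot
    apply hVR
    intro x hx
    have : f x ∈ V.map f := Subgroup.mem_map_of_mem f hx
    rw [hbot, Subgroup.mem_bot] at this
    exact (hker x).mp this
  have hQ : IsPGroup p (H ⧸ R) := hH.to_quotient _
  obtain ⟨w', hwV, hwc, hw1⟩ :=
    Cfsg.Agent.Lib.Helper32_PGroup.exists_mem_center_of_normal hQ (V.map f) hne
  obtain ⟨w, hwV', rfl⟩ := Subgroup.mem_map.mp hwV
  refine ⟨w, hwV', fun hwR => hw1 ((hker w).mpr hwR), ?_⟩
  intro g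
  rw [← hker, map_mul, map_mul, map_mul, map_inv, map_inv,
    Subgroup.mem_center_iff.mp hwc (f g)]
  group

omit [Finite H] in
/-- the subgroup `V` of Lemma A -/
def vSub (hp2 : p ≠ 2) (M R : Subgroup H) [hRn : R.Normal]
    (hRc : ∀ r ∈ R, ∀ m ∈ M, r * m = m * r) (hRe : ∀ r ∈ R, r ^ p = 1) : Subgroup H where
  carrier := {x | x ∈ M ∧ x ^ p = 1 ∧ ∀ m ∈ M, m * x * m⁻¹ * x⁻¹ ∈ R}
  one_mem' := ⟨M.one_mem, one_pow p, fun m _ => by simp [R.one_mem]⟩
  inv_mem' := by
    rintro x ⟨hxM, hxp, hx⟩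
    refine ⟨M.inv_mem hxM, by rw [inv_pow, hxp, inv_one], ?_⟩
    intro m hm
    have h1 : m * x⁻¹ * m⁻¹ * x⁻¹⁻¹ = x⁻¹ * (m * x * m⁻¹ * x⁻¹)⁻¹ * x := by group
    rw [h1]
    exact hRn.conj_mem' _ (R.inv_mem (hx m hm)) x
  mul_mem' := by
    rintro x y ⟨hxM, hxp, hx⟩ ⟨hyM, hyp, hy⟩
    refine ⟨M.mul_mem hxM hyM, ?_, ?_⟩
    · have hc := hx y hyM
      have h1 : y * x = (y * x * y⁻¹ * x⁻¹) * x * y := by group
      have c1 : Commute (y * x * y⁻¹ * x⁻¹) x := hRc _ hc x hxM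
      have c2 : Commute (y * x * y⁻¹ * x⁻¹) y := hRc _ hc y hyM
      rw [mul_pow_prime_of_comm hpf.out hp2 h1 c1 c2 (hRe _ hc), hxp, hyp, one_mul]
    · intro m hm
      have h1 : m * (x * y) * m⁻¹ * (x * y)⁻¹
          = (m * x * m⁻¹ * x⁻¹) * (x * (m * y * m⁻¹ * y⁻¹) * x⁻¹) := by group
      rw [h1]
      exact R.mul_mem (hx m hm) (hRn.conj_mem _ (hy m hm) x)

/-- **Lemma A**. -/
theorem lemmaA (hp2 : p ≠ 2) (hH : IsPGroup p H) (M R : Subgroup H) [hMn : M.Normal]
    [hRn : R.Normal]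
    (hRc : ∀ r ∈ R, ∀ m ∈ M, r * m = m * r) (hRe : ∀ r ∈ R, r ^ p = 1)
    {x : H} (hxM : x ∈ M) (hxR : x ∉ R) (hxp : x ^ p = 1)
    (hx : ∀ m ∈ M, m * x * m⁻¹ * x⁻¹ ∈ R) :
    ∃ w ∈ M, w ∉ R ∧ w ^ p = 1 ∧ ∀ g : H, g * w * g⁻¹ * w⁻¹ ∈ R := by
  set V : Subgroup H := vSub hp2 M R hRc hRe with hV
  have hVmem : ∀ y, y ∈ V ↔ y ∈ M ∧ y ^ p = 1 ∧ ∀ m ∈ M, m * y * m⁻¹ * y⁻¹ ∈ R :=
    fun y => Iff.rfl
  have hVn : V.Normal := by
    constructor
    intro y hy g
    rw [hVmem] at hy ⊢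
    obtain ⟨hyM, hyp, hy⟩ := hy
    refine ⟨hMn.conj_mem y hyM g, by rw [conj_pow, hyp, mul_one, mul_inv_cancel], ?_⟩
    intro m hm
    have h1 : m * (g * y * g⁻¹) * m⁻¹ * (g * y * g⁻¹)⁻¹
        = g * ((g⁻¹ * m * g) * y * (g⁻¹ * m * g)⁻¹ * y⁻¹) * g⁻¹ := by group
    rw [h1]
    exact hRn.conj_mem _ (hy _ (hMn.conj_mem' m hm g)) g
  have hVR : ¬ V ≤ R := fun hle => hxR (hle ((hVmem x).mpr ⟨hxM, hxp, hx⟩))
  obtain ⟨w, hwV, hwR, hw⟩ := exists_central_mod hH R V hVR
  obtain ⟨hwM, hwp, -⟩ := (hVmem w).mp hwV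
  exact ⟨w, hwM, hwR, hwp, hw⟩

end Quot


section Main

/-- the commutator-with-`h` homomorphism `g ↦ g h g⁻¹ h⁻¹` into a central `⟨z⟩` -/
def commHom {P : Type*} [Group P] {z h : P} (hzc : z ∈ Subgroup.center P)
    (hcomm : ∀ g : P, g * h * g⁻¹ * h⁻¹ ∈ Subgroup.zpowers z) : P →* ↥(Subgroup.zpowers z) :=
  MonoidHom.mk' (fun g => ⟨g * h * g⁻¹ * h⁻¹, hcomm g⟩) (by
    intro a b
    apply Subtype.ext
    have hb : b * h * b⁻¹ * h⁻¹ ∈ Subgroup.center P := (Subgroup.zpowers_le.mpr hzc) (hcomm b)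
    have hc := Subgroup.mem_center_iff.mp hb
    show a * b * h * (a * b)⁻¹ * h⁻¹ = (a * h * a⁻¹ * h⁻¹) * (b * h * b⁻¹ * h⁻¹)
    calc a * b * h * (a * b)⁻¹ * h⁻¹ = a * (b * h * b⁻¹ * h⁻¹) * (h * a⁻¹ * h⁻¹) := by group
      _ = (b * h * b⁻¹ * h⁻¹) * a * (h * a⁻¹ * h⁻¹) := by rw [hc a]
      _ = (b * h * b⁻¹ * h⁻¹) * (a * h * a⁻¹ * h⁻¹) := by group
      _ = (a * h * a⁻¹ * h⁻¹) * (b * h * b⁻¹ * h⁻¹) := by rw [← hc])

theorem mem_commHom_ker {P : Type*} [Group P] {z h : P} (hzc : z ∈ Subgroup.center P)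
    (hcomm : ∀ g : P, g * h * g⁻¹ * h⁻¹ ∈ Subgroup.zpowers z) (g : P) :
    g ∈ (commHom hzc hcomm).ker ↔ g * h = h * g := by
  rw [MonoidHom.mem_ker]
  constructor
  · intro hg
    have h1 : g * h * g⁻¹ * h⁻¹ = 1 := congrArg Subtype.val hg
    calc g * h = (g * h * g⁻¹ * h⁻¹) * h * g := by group
      _ = h * g := by rw [h1, one_mul]
  · intro hg
    apply Subtype.ext
    show g * h * g⁻¹ * h⁻¹ = 1
    rw [hg]; group

theorem exists_normal_rank_three_aux (p : ℕ) [hpf : Fact p.Prime] (hp2 : p ≠ 2) :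
    ∀ (n : ℕ) (P : Type u) [Group P] [Finite P], Nat.card P = n → IsPGroup p P →
      ∀ A : Subgroup P, (∀ x ∈ A, ∀ y ∈ A, x * y = y * x) → (∀ x ∈ A, x ^ p = 1) →
        p ^ 3 ≤ Nat.card A →
      ∃ X : Subgroup P, X.Normal ∧ (∀ x ∈ X, ∀ y ∈ X, x * y = y * x) ∧ (∀ x ∈ X, x ^ p = 1) ∧
        Nat.card X = p ^ 3 := by
  intro n
  induction n using Nat.strong_induction_on with
  | _ n ih =>
    intro P _ _ hcard hP A hAc hAe hAcard
    have hpP : p.Prime := hpf.out
    have hp2le : 2 ≤ p := hpP.two_le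
    -- P is not cyclic
    have hnc : ¬ IsCyclic P := by
      intro hcyc
      have hAcyc : IsCyclic A := inferInstance
      obtain ⟨g, hg⟩ := hAcyc.exists_generator
      have hgp : g ^ p = 1 := by
        apply Subtype.ext
        have := hAe g.1 g.2
        simpa using this
      have h1 : Nat.card A ≤ p := by
        rw [← orderOf_eq_card_of_forall_mem_zpowers hg]
        exact Nat.le_of_dvd hpP.pos (orderOf_dvd_of_pow_eq_one hgp)
      have h2 : p < p ^ 3 := by
        calc p = p ^ 1 := (pow_one p).symm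
          _ < p ^ 3 := Nat.pow_lt_pow_right hpP.one_lt (by norm_num)
      omega
    have hS : ¬ IsCyclic (⊤ : Subgroup P) := by
      intro hc
      apply hnc
      exact isCyclic_of_surjective (Subgroup.topEquiv : (⊤ : Subgroup P) ≃* P).toMonoidHom
        (Subgroup.topEquiv : (⊤ : Subgroup P) ≃* P).surjective
    obtain ⟨z, h, hg⟩ := exists_good hp2 hP ⊤ hS
    have hRn : hg.B.Normal := hg.B_normal
    have hzc : z ∈ Subgroup.center P := hg.2.2.1
    have hcomm := hg.2.2.2.2.2.2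
    have hRcard : Nat.card hg.B = p ^ 2 := hg.card_B
    -- the final construction
    have hfinal : ∀ w : P, w ∉ hg.B → w ^ p = 1 → (∀ r ∈ hg.B, r * w = w * r) →
        (∀ g : P, g * w * g⁻¹ * w⁻¹ ∈ hg.B) →
        ∃ X : Subgroup P, X.Normal ∧ (∀ x ∈ X, ∀ y ∈ X, x * y = y * x) ∧ (∀ x ∈ X, x ^ p = 1) ∧
          Nat.card X = p ^ 3 := by
      intro w hwR hwp hwc hw
      have hw1 : w ≠ 1 := fun h1 => hwR (h1 ▸ one_mem _)
      have how : orderOf w = p := orderOf_eq_prime hwp hw1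
      obtain ⟨hXc, hXe⟩ := sup_zpowers_comm_exp hg.B hg.B_comm hg.B_exp hwp hwc
      refine ⟨hg.B ⊔ Subgroup.zpowers w, normal_sup_zpowers hg.B hw, hXc, hXe, ?_⟩
      rw [card_normal_sup_zpowers hg.B how hwR, hRcard]
      ring
    -- the step through a proper normal subgroup centralized by R
    have step : ∀ M : Subgroup P, M.Normal → M ≠ ⊤ → hg.B ≤ M →
        (∀ r ∈ hg.B, ∀ m ∈ M, r * m = m * r) →
        ∀ A' : Subgroup P, A' ≤ M → (∀ x ∈ A', ∀ y ∈ A', x * y = y * x) → (∀ x ∈ A', x ^ p = 1) →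
          p ^ 3 ≤ Nat.card A' →
        ∃ X : Subgroup P, X.Normal ∧ (∀ x ∈ X, ∀ y ∈ X, x * y = y * x) ∧ (∀ x ∈ X, x ^ p = 1) ∧
          Nat.card X = p ^ 3 := by
      intro M hMn hMtop hRM hRc A' hA'M hA'c hA'e hA'card
      have hMlt : Nat.card M < n := by
        rw [← hcard]
        rcases (Subgroup.card_le_card_group (H := M)).lt_or_eq with hlt | heq
        · exact hlt
        · exact absurd (Subgroup.eq_top_of_card_eq M heq) hMtop
      have hMp : IsPGroup p M := hP.to_subgroup M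
      obtain ⟨F, hFn, -, hFe, hFcard⟩ := ih _ hMlt M rfl hMp (A'.subgroupOf M)
        (by
          intro x hx y hy
          exact Subtype.ext (hA'c x.1 hx y.1 hy))
        (by
          intro x hx
          exact Subtype.ext (by simpa using hA'e x.1 hx))
        (by
          rw [Nat.card_congr (Subgroup.subgroupOfEquivOfLe hA'M).toEquiv]
          exact hA'card)
      have hR'card : Nat.card (hg.B.subgroupOf M) = p ^ 2 := by
        rw [Nat.card_congr (Subgroup.subgroupOfEquivOfLe hRM).toEquiv]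
        exact hRcard
      have hFR : ¬ F ≤ hg.B.subgroupOf M := by
        intro hle
        have := Subgroup.card_le_of_le hle
        rw [hFcard, hR'card] at this
        have : p ^ 2 < p ^ 3 := Nat.pow_lt_pow_right hpP.one_lt (by norm_num)
        omega
      obtain ⟨w', hw'F, hw'R, hw'⟩ := exists_central_mod hMp (hg.B.subgroupOf M) F hFR
      have hx1 : (w' : P) ∉ hg.B := fun hmem => hw'R (Subgroup.mem_subgroupOf.mpr hmem)
      have hx2 : (w' : P) ^ p = 1 := by
        have := hFe w' hw'F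
        have h2 := congrArg Subtype.val this
        simpa using h2
      have hx3 : ∀ m ∈ M, m * (w' : P) * m⁻¹ * (w' : P)⁻¹ ∈ hg.B := by
        intro m hm
        have := hw' ⟨m, hm⟩
        rw [Subgroup.mem_subgroupOf] at this
        simpa using this
      obtain ⟨w, hwM, hwR, hwp, hw⟩ :=
        lemmaA hp2 hP M hg.B hRc hg.B_exp w'.2 hx1 hx2 hx3
      exact hfinal w hwR hwp (fun r hr => hRc r hr w hwM) hw
    -- the centralizer of h
    set ψ := commHom hzc hcomm with hψ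
    have hCmem : ∀ g : P, g ∈ ψ.ker ↔ g * h = h * g := mem_commHom_ker hzc hcomm
    have hCn : ψ.ker.Normal := MonoidHom.normal_ker ψ
    have hRcC : ∀ r ∈ hg.B, ∀ m ∈ ψ.ker, r * m = m * r := by
      intro r hr m hm
      obtain ⟨u, hu, v, hv, rfl⟩ := hg.mem_B_iff.mp hr
      obtain ⟨j, rfl⟩ := Subgroup.mem_zpowers_iff.mp hv
      have huc : u ∈ Subgroup.center P := (Subgroup.zpowers_le.mpr hzc) hu
      have h1 : m * h ^ j = h ^ j * m := (Commute.zpow_right ((hCmem m).mp hm) j).eq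
      calc u * h ^ j * m = u * (h ^ j * m) := mul_assoc _ _ _
        _ = u * (m * h ^ j) := by rw [h1]
        _ = (u * m) * h ^ j := (mul_assoc _ _ _).symm
        _ = (m * u) * h ^ j := by rw [(Subgroup.mem_center_iff.mp huc m)]
        _ = m * (u * h ^ j) := mul_assoc _ _ _
    have hRC : hg.B ≤ ψ.ker := by
      intro r hr
      rw [hCmem]
      exact hg.B_comm r hr h hg.h_mem_B
    -- E₁ = A ⊓ C has order at least p²
    have hE₁card : Nat.card A ≤ Nat.card ↥(A ⊓ ψ.ker) * p := by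
      have h1 := Subgroup.relIndex_mul_relIndex (⊥ : Subgroup P) (A ⊓ ψ.ker) A bot_le inf_le_left
      rw [Subgroup.relIndex_bot_left, Subgroup.relIndex_bot_left, Subgroup.inf_relIndex_left,
        Subgroup.relIndex_ker] at h1
      rw [← h1]
      apply Nat.mul_le_mul_left
      have h2 : Nat.card ↥(A.map ψ) ≤ Nat.card ↥(Subgroup.zpowers z) :=
        Subgroup.card_le_card_group (A.map ψ)
      rwa [Nat.card_zpowers, hg.2.2.2.1] at h2
    have hE₁ge : p ^ 2 ≤ Nat.card ↥(A ⊓ ψ.ker) := by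
      have h1 : p ^ 3 ≤ Nat.card ↥(A ⊓ ψ.ker) * p := hAcard.trans hE₁card
      have h2 : p ^ 3 = p ^ 2 * p := by ring
      rw [h2] at h1
      exact Nat.le_of_mul_le_mul_right h1 hpP.pos
    -- A' = R ⊔ E₁
    have hA'mem : ∀ x ∈ hg.B ⊔ (A ⊓ ψ.ker), ∃ r ∈ hg.B, ∃ e ∈ A ⊓ ψ.ker, r * e = x :=
      fun x hx => Subgroup.mem_sup_of_normal_left.mp hx
    have hre : ∀ r ∈ hg.B, ∀ e ∈ A ⊓ ψ.ker, Commute r e := fun r hr e he => hRcC r hr e he.2
    have hA'c : ∀ x ∈ hg.B ⊔ (A ⊓ ψ.ker), ∀ y ∈ hg.B ⊔ (A ⊓ ψ.ker), x * y = y * x := by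
      intro x hx y hy
      obtain ⟨r, hr, e, he, rfl⟩ := hA'mem x hx
      obtain ⟨r', hr', e', he', rfl⟩ := hA'mem y hy
      have c1 : Commute r r' := hg.B_comm r hr r' hr'
      have c2 : Commute e e' := hAc e he.1 e' he'.1
      have c3 : Commute r e' := hre r hr e' he'
      have c4 : Commute e r' := (hre r' hr' e he).symm
      exact ((c1.mul_right c3).mul_left (c4.mul_right c2)).eq
    have hA'e : ∀ x ∈ hg.B ⊔ (A ⊓ ψ.ker), x ^ p = 1 := by
      intro x hx
      obtain ⟨r, hr, e, he, rfl⟩ := hA'mem x hx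
      rw [(hre r hr e he).mul_pow, hg.B_exp r hr, hAe e he.1, one_mul]
    have hA'C : hg.B ⊔ (A ⊓ ψ.ker) ≤ ψ.ker := sup_le hRC inf_le_right
    have hA'card : p ^ 3 ≤ Nat.card ↥(hg.B ⊔ (A ⊓ ψ.ker)) := by
      by_contra hlt
      push Not at hlt
      have hA'p : IsPGroup p ↥(hg.B ⊔ (A ⊓ ψ.ker)) := hP.to_subgroup _
      obtain ⟨k, hk⟩ := IsPGroup.iff_card.mp hA'p
      have hk2 : k ≤ 2 := by
        by_contra hk3
        push Not at hk3
        have : p ^ 3 ≤ p ^ k := Nat.pow_le_pow_right hpP.pos hk3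
        omega
      have hle : Nat.card ↥(hg.B ⊔ (A ⊓ ψ.ker)) ≤ p ^ 2 := by
        rw [hk]; exact Nat.pow_le_pow_right hpP.pos hk2
      have hEq : hg.B = hg.B ⊔ (A ⊓ ψ.ker) :=
        Subgroup.eq_of_le_of_card_ge le_sup_left (by rw [hRcard]; exact hle)
      have hE₁R : A ⊓ ψ.ker ≤ hg.B := by
        rw [hEq]; exact le_sup_right
      have hE₁eq : A ⊓ ψ.ker = hg.B :=
        Subgroup.eq_of_le_of_card_ge hE₁R (by rw [hRcard]; exact hE₁ge)
      have hhA : h ∈ A := by
        have : h ∈ A ⊓ ψ.ker := by rw [hE₁eq]; exact hg.h_mem_B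
        exact this.1
      have hAC : A ≤ ψ.ker := by
        intro a ha
        rw [hCmem]
        exact hAc a ha h hhA
      have : A ⊓ ψ.ker = A := inf_eq_left.mpr hAC
      rw [this] at hE₁eq
      rw [hE₁eq, hRcard] at hAcard
      have : p ^ 2 < p ^ 3 := Nat.pow_lt_pow_right hpP.one_lt (by norm_num)
      omega
    by_cases hCtop : ψ.ker = ⊤
    · -- R is central
      by_cases hA'top : hg.B ⊔ (A ⊓ ψ.ker) = ⊤
      · -- P is elementary abelian
        have hallmem : ∀ x : P, x ∈ hg.B ⊔ (A ⊓ ψ.ker) := by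
          intro x; rw [hA'top]; exact Subgroup.mem_top x
        have hPc : ∀ x y : P, x * y = y * x := fun x y =>
          hA'c x (hallmem x) y (hallmem y)
        have hPe : ∀ x : P, x ^ p = 1 := fun x => hA'e x (hallmem x)
        obtain ⟨w, hw⟩ : ∃ w : P, w ∉ hg.B := by
          by_contra hall
          push Not at hall
          have htop : hg.B = ⊤ := eq_top_iff.mpr (fun x _ => hall x)
          have h1 : Nat.card ↥(hg.B ⊔ (A ⊓ ψ.ker)) ≤ Nat.card hg.B := by
            rw [htop]; exact Subgroup.card_le_of_le le_top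
          rw [hRcard] at h1
          have : p ^ 2 < p ^ 3 := Nat.pow_lt_pow_right hpP.one_lt (by norm_num)
          omega
        refine hfinal w hw (hPe w) (fun r _ => hPc r w) ?_
        intro g
        rw [hPc g w, mul_inv_cancel_right, mul_inv_cancel]
        exact one_mem _
      · obtain ⟨M, hMco, hA'M⟩ := (eq_top_or_exists_le_coatom _).resolve_left hA'top
        have hnil : Group.IsNilpotent P := hP.isNilpotent
        have hMn : M.Normal :=
          Subgroup.NormalizerCondition.normal_of_coatom M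
            Group.normalizerCondition_of_isNilpotent hMco
        refine step M hMn hMco.1 (le_sup_left.trans hA'M) ?_ _ hA'M hA'c hA'e hA'card
        intro r hr m _
        exact hRcC r hr m (by rw [hCtop]; exact Subgroup.mem_top m)
    · exact step ψ.ker hCn hCtop hRC hRcC _ hA'C hA'c hA'e hA'card

/-- **Theorem.** For `p` odd, a finite `p`-group containing an abelian subgroup of exponent `p`
and order at least `p³` has a normal abelian subgroup of exponent `p` and order `p³`. -/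
theorem exists_normal_rank_three {P : Type u} [Group P] [Finite P] {p : ℕ} [Fact p.Prime]
    (hp2 : p ≠ 2) (hP : IsPGroup p P) (A : Subgroup P) (hAc : ∀ x ∈ A, ∀ y ∈ A, x * y = y * x)
    (hAe : ∀ x ∈ A, x ^ p = 1) (hAcard : p ^ 3 ≤ Nat.card A) :
    ∃ X : Subgroup P, X.Normal ∧ (∀ x ∈ X, ∀ y ∈ X, x * y = y * x) ∧ (∀ x ∈ X, x ^ p = 1) ∧
      Nat.card X = p ^ 3 :=
  exists_normal_rank_three_aux p hp2 (Nat.card P) P rfl hP A hAc hAe hAcard

end Main

end Cfsg.Agent.Lib.Helper20_PGroupRank3
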