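import Mathlib
import Cfsg.Agent.Lib.Helper20_PGroupOdd

set_option autoImplicit false

namespace Cfsg.Agent.Lib.Helper20_ClassThree

open Cfsg.Agent.Lib.Helper20_PGroupOdd

section Formula
variable {G : Type*} [Group G]

/-- If `y * x = c * x * y` with `c` commuting with `x`, then `y * x ^ n = c ^ n * x ^ n * y`. -/
theorem mul_pow_comm_right {x y c : G} (hc : y * x = c * x * y) (hcx : Commute c x) (n : ℕ) :
    y * x ^ n = c ^ n * x ^ n * y := by
  induction n with
  | zero => simp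
  | succ n ih =>
    calc y * x ^ (n + 1) = (y * x ^ n) * x := by rw [pow_succ, mul_assoc]
      _ = c ^ n * x ^ n * y * x := by rw [ih]
      _ = c ^ n * x ^ n * (c * x * y) := by rw [← hc]; simp only [mul_assoc]
      _ = c ^ n * (x ^ n * c) * x * y := by simp only [mul_assoc]
      _ = c ^ n * (c * x ^ n) * x * y := by rw [(hcx.pow_right n).eq]
      _ = c ^ (n + 1) * x ^ (n + 1) * y := by rw [pow_succ, pow_succ]; simp only [mul_assoc]

/-- If `y * x = c * x * y` with `c` commuting with `x` and `y`, then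
`y ^ m * x ^ n = c ^ (n * m) * x ^ n * y ^ m`. -/
theorem pow_mul_pow_comm {x y c : G} (hc : y * x = c * x * y) (hcx : Commute c x)
    (hcy : Commute c y) (m n : ℕ) : y ^ m * x ^ n = c ^ (n * m) * x ^ n * y ^ m := by
  have h1 := mul_pow_comm_right hc hcx n
  have h2 := pow_mul_eq_of_comm h1 (hcy.pow_left n) m
  rw [h2, pow_mul]

/-- The commutator data of a pair `x, y` generating a group of class at most three. -/
structure CData (x y c d e : G) : Prop where
  hc : x * y = c * y * x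
  hd : x * c = d * c * x
  he : y * c = e * c * y
  hdz : d ∈ Subgroup.center G
  hez : e ∈ Subgroup.center G

variable {x y c d e : G}

theorem CData.comm_d (h : CData x y c d e) (g : G) : g * d = d * g :=
  Subgroup.mem_center_iff.mp h.hdz g

theorem CData.comm_e (h : CData x y c d e) (g : G) : g * e = e * g :=
  Subgroup.mem_center_iff.mp h.hez g

theorem CData.comm_d_pow (h : CData x y c d e) (k : ℕ) (g : G) : g * d ^ k = d ^ k * g :=
  Subgroup.mem_center_iff.mp (Subgroup.pow_mem _ h.hdz k) g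

theorem CData.comm_e_pow (h : CData x y c d e) (k : ℕ) (g : G) : g * e ^ k = e ^ k * g :=
  Subgroup.mem_center_iff.mp (Subgroup.pow_mem _ h.hez k) g

theorem choose_two_succ (n : ℕ) : (n + 1).choose 2 = n.choose 2 + n := by
  rw [Nat.choose_succ_succ' n 1, Nat.choose_one_right, add_comm]

theorem choose_three_succ (n : ℕ) : (n + 1).choose 3 = n.choose 3 + n.choose 2 := by
  rw [Nat.choose_succ_succ' n 2, add_comm]

theorem two_mul_choose_two_succ (n : ℕ) : 2 * (n + 1).choose 2 = n * (n + 1) := by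
  induction n with
  | zero => simp
  | succ n ih => rw [choose_two_succ (n + 1), mul_add, ih]; ring

/-- `x ^ i * y = d ^ (i choose 2) * c ^ i * y * x ^ i` -/
theorem CData.pow_mul (h : CData x y c d e) (i : ℕ) :
    x ^ i * y = d ^ (i.choose 2) * c ^ i * y * x ^ i := by
  induction i with
  | zero => simp
  | succ i ih =>
    have hdc : Commute d c := (h.comm_d c).symm
    have h1 : x * c ^ i = d ^ i * c ^ i * x := mul_pow_comm_right h.hd hdc i
    calc x ^ (i + 1) * y = x * (x ^ i * y) := by rw [pow_succ', mul_assoc]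
      _ = x * (d ^ (i.choose 2) * c ^ i * y * x ^ i) := by rw [ih]
      _ = (x * d ^ (i.choose 2)) * c ^ i * y * x ^ i := by simp only [mul_assoc]
      _ = d ^ (i.choose 2) * (x * c ^ i) * y * x ^ i := by
          rw [h.comm_d_pow]; simp only [mul_assoc]
      _ = d ^ (i.choose 2) * (d ^ i * c ^ i * x) * y * x ^ i := by rw [h1]
      _ = d ^ (i.choose 2) * d ^ i * c ^ i * (x * y) * x ^ i := by simp only [mul_assoc]
      _ = d ^ (i.choose 2) * d ^ i * c ^ i * (c * y * x) * x ^ i := by rw [h.hc]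
      _ = d ^ ((i + 1).choose 2) * c ^ (i + 1) * y * x ^ (i + 1) := by
          rw [choose_two_succ, pow_add, pow_succ c, pow_succ' x]; simp only [mul_assoc]

/-- `y ^ n * c ^ k = e ^ (k * n) * c ^ k * y ^ n` -/
theorem CData.pow_mul_pow (h : CData x y c d e) (n k : ℕ) :
    y ^ n * c ^ k = e ^ (k * n) * c ^ k * y ^ n :=
  pow_mul_pow_comm h.he (h.comm_e c).symm (h.comm_e y).symm n k

/-- **Class three power formula.** -/
theorem CData.mul_pow (h : CData x y c d e) (n : ℕ) :
    (x * y) ^ n = d ^ ((n + 1).choose 3) * e ^ (2 * (n + 1).choose 3) * c ^ ((n + 1).choose 2)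
      * y ^ n * x ^ n := by
  induction n with
  | zero => simp [Nat.choose_eq_zero_of_lt]
  | succ n ih =>
    have h1 := h.pow_mul (n + 1)
    have h2 := h.pow_mul_pow n (n + 1)
    have e1 : (n + 1 + 1).choose 3 = (n + 1).choose 3 + (n + 1).choose 2 := choose_three_succ _
    have e2 : 2 * (n + 1 + 1).choose 3 = 2 * (n + 1).choose 3 + (n + 1) * n := by
      rw [e1, mul_add, two_mul_choose_two_succ, Nat.mul_comm n]
    have e3 : (n + 1 + 1).choose 2 = (n + 1).choose 2 + (n + 1) := choose_two_succ _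
    set A := (n + 1).choose 2 with hA
    set B := (n + 1).choose 3 with hB
    calc (x * y) ^ (n + 1) = (x * y) ^ n * (x * y) := pow_succ _ _
      _ = d ^ B * e ^ (2 * B) * c ^ A * y ^ n * x ^ n * (x * y) := by rw [ih]
      _ = d ^ B * e ^ (2 * B) * c ^ A * y ^ n * (x ^ (n + 1) * y) := by
          rw [pow_succ x]; simp only [mul_assoc]
      _ = d ^ B * e ^ (2 * B) * c ^ A * y ^ n * (d ^ A * c ^ (n + 1) * y * x ^ (n + 1)) := by
          rw [h1]
      _ = d ^ B * e ^ (2 * B) * c ^ A * (y ^ n * d ^ A) * c ^ (n + 1) * y * x ^ (n + 1) := by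
          simp only [mul_assoc]
      _ = d ^ B * e ^ (2 * B) * (c ^ A * d ^ A) * (y ^ n * c ^ (n + 1)) * y * x ^ (n + 1) := by
          rw [h.comm_d_pow A (y ^ n)]; simp only [mul_assoc]
      _ = d ^ B * (e ^ (2 * B) * d ^ A) * c ^ A * (e ^ ((n + 1) * n) * c ^ (n + 1) * y ^ n)
            * y * x ^ (n + 1) := by
          rw [h.comm_d_pow A (c ^ A), h2]; simp only [mul_assoc]
      _ = d ^ B * (d ^ A * e ^ (2 * B)) * (c ^ A * e ^ ((n + 1) * n)) * c ^ (n + 1) * y ^ n
            * y * x ^ (n + 1) := by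
          rw [h.comm_d_pow A (e ^ (2 * B))]; simp only [mul_assoc]
      _ = d ^ B * d ^ A * (e ^ (2 * B) * e ^ ((n + 1) * n)) * (c ^ A * c ^ (n + 1)) * (y ^ n
            * y) * x ^ (n + 1) := by
          rw [h.comm_e_pow ((n + 1) * n) (c ^ A)]; simp only [mul_assoc]
      _ = d ^ ((n + 1 + 1).choose 3) * e ^ (2 * (n + 1 + 1).choose 3) * c ^ ((n + 1 + 1).choose 2)
            * y ^ (n + 1) * x ^ (n + 1) := by
          rw [e2, e1, e3, pow_add d B A, pow_add e (2 * B), pow_add c A (n + 1), pow_succ y n]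

/-- `a * u = t * u * a`, `t` commuting with `a`, and `a ^ n = 1` give `t ^ n = 1`. -/
theorem pow_eq_one_of_pow_left {a u t : G} (h : a * u = t * u * a) (hta : Commute t a) {n : ℕ}
    (ha : a ^ n = 1) : t ^ n = 1 := by
  have h1 := pow_mul_eq_of_comm h hta n
  rw [ha, one_mul, mul_one] at h1
  exact (mul_eq_right.mp h1.symm)

/-- `a * u = t * u * a`, `t` commuting with `u`, and `u ^ n = 1` give `t ^ n = 1`. -/
theorem pow_eq_one_of_pow_right {a u t : G} (h : a * u = t * u * a) (htu : Commute t u) {n : ℕ}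
    (hu : u ^ n = 1) : t ^ n = 1 := by
  have h1 := mul_pow_comm_right h htu n
  rw [hu, mul_one, mul_one] at h1
  exact (mul_eq_right.mp h1.symm)

theorem prime_dvd_choose_two_succ {p : ℕ} (hp : p.Prime) (hp2 : p ≠ 2) : p ∣ (p + 1).choose 2 := by
  have h2 : 2 < p := lt_of_le_of_ne hp.two_le (Ne.symm hp2)
  rw [choose_two_succ]
  exact dvd_add (hp.dvd_choose_self (by norm_num) h2) dvd_rfl

theorem prime_dvd_choose_three_succ {p : ℕ} (hp : p.Prime) (hp3 : 3 < p) :
    p ∣ (p + 1).choose 3 := by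
  rw [choose_three_succ]
  exact dvd_add (hp.dvd_choose_self (by norm_num) hp3)
    (hp.dvd_choose_self (by norm_num) (by omega))

theorem pow_eq_one_of_dvd {g : G} {p m : ℕ} (hg : g ^ p = 1) (hm : p ∣ m) : g ^ m = 1 := by
  obtain ⟨k, rfl⟩ := hm
  rw [pow_mul, hg, one_pow]

/-- For `p` odd: the `p`-th power of `x * y` when the relevant commutators have order `p`. -/
theorem CData.mul_pow_prime (h : CData x y c d e) {p : ℕ} (hp : p.Prime) (hp2 : p ≠ 2)
    (hcp : c ^ p = 1) (hde : (3 < p ∧ d ^ p = 1 ∧ e ^ p = 1) ∨ (d = 1 ∧ e = 1)) :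
    (x * y) ^ p = y ^ p * x ^ p := by
  rw [h.mul_pow p, pow_eq_one_of_dvd hcp (prime_dvd_choose_two_succ hp hp2)]
  rcases hde with ⟨h3, hd, he⟩ | ⟨hd, he⟩
  · rw [pow_eq_one_of_dvd hd (prime_dvd_choose_three_succ hp h3),
      pow_eq_one_of_dvd he (Dvd.dvd.mul_left (prime_dvd_choose_three_succ hp h3) 2)]
    simp
  · rw [hd, he]
    simp

/-- `x ^ p` commutes with `y` when the relevant commutators have order `p` (`p` odd). -/
theorem CData.pow_prime_comm (h : CData x y c d e) {p : ℕ} (hp : p.Prime) (hp2 : p ≠ 2)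
    (hcp : c ^ p = 1) (hdp : d ^ p = 1) : x ^ p * y = y * x ^ p := by
  have h2 : 2 < p := lt_of_le_of_ne hp.two_le (Ne.symm hp2)
  rw [h.pow_mul p, hcp, pow_eq_one_of_dvd hdp (hp.dvd_choose_self (by norm_num) h2)]
  simp

/-- if `x ^ p = 1` (`p` odd) then `c ^ p = 1`. -/
theorem CData.c_pow_eq_one (h : CData x y c d e) {p : ℕ} (hp : p.Prime) (hp2 : p ≠ 2)
    (hx : x ^ p = 1) : c ^ p = 1 := by
  have h2 : 2 < p := lt_of_le_of_ne hp.two_le (Ne.symm hp2)
  have hdp : d ^ p = 1 := pow_eq_one_of_pow_left h.hd (h.comm_d x).symm hx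
  have h1 := h.pow_mul p
  rw [hx, pow_eq_one_of_dvd hdp (hp.dvd_choose_self (by norm_num) h2), one_mul, mul_one,
    one_mul] at h1
  exact (mul_eq_right.mp h1.symm)

end Formula

section ClassThree
open scoped commutatorElement
variable {R : Type*} [Group R]

theorem gamma3_le_center
    (hcl : ⁅⁅commutator R, (⊤ : Subgroup R)⁆, (⊤ : Subgroup R)⁆ = ⊥) :
    ⁅commutator R, (⊤ : Subgroup R)⁆ ≤ Subgroup.center R := by
  have h := Subgroup.commutator_eq_bot_iff_le_centralizer.mp hcl
  rwa [Subgroup.coe_top, Subgroup.centralizer_univ] at h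

theorem comm_mem_commutator (x y : R) : ⁅x, y⁆ ∈ commutator R := by
  rw [commutator_def]
  exact Subgroup.commutator_mem_commutator (Subgroup.mem_top x) (Subgroup.mem_top y)

theorem comm_comm_mem (x : R) {c : R} (hc : c ∈ commutator R) :
    ⁅x, c⁆ ∈ ⁅commutator R, (⊤ : Subgroup R)⁆ := by
  rw [← commutatorElement_inv]
  exact Subgroup.inv_mem _ (Subgroup.commutator_mem_commutator hc (Subgroup.mem_top x))

theorem mul_eq_comm_mul (x y : R) : x * y = ⁅x, y⁆ * y * x := by
  rw [commutatorElement_def]; group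

/-- The commutator data of any pair in a group of class at most three. -/
theorem cdata (hcl : ⁅⁅commutator R, (⊤ : Subgroup R)⁆, (⊤ : Subgroup R)⁆ = ⊥) (x y : R) :
    CData x y ⁅x, y⁆ ⁅x, ⁅x, y⁆⁆ ⁅y, ⁅x, y⁆⁆ where
  hc := mul_eq_comm_mul x y
  hd := mul_eq_comm_mul x _
  he := mul_eq_comm_mul y _
  hdz := gamma3_le_center hcl (comm_comm_mem x (comm_mem_commutator x y))
  hez := gamma3_le_center hcl (comm_comm_mem y (comm_mem_commutator x y))

theorem class_two_imp (hcl : ⁅commutator R, (⊤ : Subgroup R)⁆ = ⊥) :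
    ⁅⁅commutator R, (⊤ : Subgroup R)⁆, (⊤ : Subgroup R)⁆ = ⊥ := by
  rw [hcl, Subgroup.commutator_bot_left]

/-- The class condition of S0123: class at most two and `p` odd, or class at most three and
`3 < p`. -/
def SmallClass (R : Type*) [Group R] (p : ℕ) : Prop :=
  (p ≠ 2 ∧ ⁅commutator R, (⊤ : Subgroup R)⁆ = ⊥) ∨
    (3 < p ∧ ⁅⁅commutator R, (⊤ : Subgroup R)⁆, (⊤ : Subgroup R)⁆ = ⊥)

variable {p : ℕ}

theorem SmallClass.ne_two (h : SmallClass R p) : p ≠ 2 := by
  rcases h with h | h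
  · exact h.1
  · have := h.1; omega

theorem SmallClass.class_three (h : SmallClass R p) :
    ⁅⁅commutator R, (⊤ : Subgroup R)⁆, (⊤ : Subgroup R)⁆ = ⊥ := by
  rcases h with h | h
  · exact class_two_imp h.2
  · exact h.2

theorem SmallClass.cdata (h : SmallClass R p) (x y : R) :
    CData x y ⁅x, y⁆ ⁅x, ⁅x, y⁆⁆ ⁅y, ⁅x, y⁆⁆ := Helper20_ClassThree.cdata h.class_three x y

theorem SmallClass.cases (h : SmallClass R p) (x y : R) :
    3 < p ∨ (⁅x, ⁅x, y⁆⁆ = 1 ∧ ⁅y, ⁅x, y⁆⁆ = 1) := by
  rcases h with h | h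
  · right
    have h1 : ∀ z : R, ⁅z, ⁅x, y⁆⁆ = 1 := by
      intro z
      have := comm_comm_mem z (comm_mem_commutator x y)
      rw [h.2] at this
      exact Subgroup.mem_bot.mp this
    exact ⟨h1 x, h1 y⟩
  · exact Or.inl h.1

/-- In a group of small class, products of elements of order dividing `p` have order
dividing `p`. -/
theorem SmallClass.mul_pow_eq_one (h : SmallClass R p) (hp : p.Prime) {x y : R} (hx : x ^ p = 1)
    (hy : y ^ p = 1) : (x * y) ^ p = 1 := by
  have hd := h.cdata x y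
  have hcp := hd.c_pow_eq_one hp h.ne_two hx
  have hdp : ⁅x, ⁅x, y⁆⁆ ^ p = 1 := pow_eq_one_of_pow_left hd.hd (hd.comm_d x).symm hx
  have hep : ⁅y, ⁅x, y⁆⁆ ^ p = 1 := pow_eq_one_of_pow_left hd.he (hd.comm_e y).symm hy
  rw [hd.mul_pow_prime hp h.ne_two hcp, hx, hy, one_mul]
  rcases h.cases x y with h3 | h3
  · exact Or.inl ⟨h3, hdp, hep⟩
  · exact Or.inr h3

/-- In a group of small class, `Ω₁` has exponent `p`. -/
theorem SmallClass.pow_eq_one_of_mem_closure (h : SmallClass R p) (hp : p.Prime) {g : R}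
    (hg : g ∈ Subgroup.closure {x : R | x ^ p = 1}) : g ^ p = 1 := by
  induction hg using Subgroup.closure_induction with
  | mem x hx => exact hx
  | one => exact one_pow p
  | mul x y _ _ hx hy => exact h.mul_pow_eq_one hp hx hy
  | inv x _ hx => rw [inv_pow, hx, inv_one]

/-- In a group of small class whose derived group lies in `Ω₁`, the `p`-th power map is an
endomorphism. -/
theorem SmallClass.mul_pow (h : SmallClass R p) (hp : p.Prime)
    (hder : commutator R ≤ Subgroup.closure {x : R | x ^ p = 1}) (x y : R) :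
    (x * y) ^ p = x ^ p * y ^ p := by
  have hd := h.cdata x y
  have hcp : ⁅x, y⁆ ^ p = 1 :=
    h.pow_eq_one_of_mem_closure hp (hder (comm_mem_commutator x y))
  have hdp : ⁅x, ⁅x, y⁆⁆ ^ p = 1 :=
    pow_eq_one_of_pow_right hd.hd (hd.comm_d _).symm hcp
  have hep : ⁅y, ⁅x, y⁆⁆ ^ p = 1 :=
    pow_eq_one_of_pow_right hd.he (hd.comm_e _).symm hcp
  have h1 : (x * y) ^ p = y ^ p * x ^ p := by
    apply hd.mul_pow_prime hp h.ne_two hcp
    rcases h.cases x y with h3 | h3
    · exact Or.inl ⟨h3, hdp, hep⟩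
    · exact Or.inr h3
  have h2 : x ^ p * y = y * x ^ p := hd.pow_prime_comm hp h.ne_two hcp hdp
  have h3 : Commute (x ^ p) y := h2
  rw [h1, (h3.pow_right p).eq]

end ClassThree

end Cfsg.Agent.Lib.Helper20_ClassThree
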