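import Mathlib
import Cfsg.Agent.Lib.Helper20_PGroupOdd

/-!
# `Ω₁` of odd `p`-groups of "rank two type"

`omega_le_B`: for `p` odd, if `(z, h)` is a good pair of the finite `p`-group `R` (see
`Helper20_PGroupOdd`) and every subgroup of exponent `p` has order at most `p²`, then every element
of order dividing `p` lies in `B = ⟨z⟩ ⊔ ⟨h⟩`, hence `closure {x | x ^ p = 1} = B`.
-/

set_option autoImplicit false

namespace Cfsg.Agent.Lib.Helper20_OmegaOne

open Cfsg.Agent.Lib.Helper20_PGroupOdd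

/-- a cyclic group of exponent dividing the prime `p` has order at most `p` -/
theorem card_le_of_isCyclic_of_exp {G : Type*} [Group G] [hc : IsCyclic G] {p : ℕ} (hp : p.Prime)
    (h : ∀ g : G, g ^ p = 1) : Nat.card G ≤ p := by
  obtain ⟨g, hg⟩ := hc.exists_generator
  rw [← orderOf_eq_card_of_forall_mem_zpowers hg]
  exact Nat.le_of_dvd hp.pos (orderOf_dvd_of_pow_eq_one (h g))

section
variable {R : Type*} [Group R] [Finite R] {p : ℕ} [Fact p.Prime] {z h : R}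

omit [Finite R] [Fact (Nat.Prime p)] in
/-- conjugates of elements of `B` differ from them by elements of `⟨z⟩` -/
theorem conj_mem_zpowers (hg : Good p ⊤ z h) :
    ∀ b' ∈ hg.B, ∀ g : R, g * b' * g⁻¹ * b'⁻¹ ∈ Subgroup.zpowers z := by
  have hzc : z ∈ Subgroup.center R := hg.2.2.1
  intro b' hb' g
  obtain ⟨u, hu, v, hv, rfl⟩ := hg.mem_B_iff.mp hb'
  obtain ⟨j, rfl⟩ := Subgroup.mem_zpowers_iff.mp hv
  have huc : u ∈ Subgroup.center R := (Subgroup.zpowers_le.mpr hzc) hu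
  have h1 : g * (u * h ^ j) * g⁻¹ * (u * h ^ j)⁻¹ = (g * h * g⁻¹) ^ j * (h ^ j)⁻¹ := by
    have hcu := Subgroup.mem_center_iff.mp huc
    rw [conj_zpow]
    calc g * (u * h ^ j) * g⁻¹ * (u * h ^ j)⁻¹
        = g * (u * h ^ j) * g⁻¹ * ((h ^ j)⁻¹ * u⁻¹) := by rw [mul_inv_rev]
      _ = (g * u) * h ^ j * g⁻¹ * (h ^ j)⁻¹ * u⁻¹ := by simp only [mul_assoc]
      _ = (u * g) * h ^ j * g⁻¹ * (h ^ j)⁻¹ * u⁻¹ := by rw [hcu g]
      _ = u * (g * h ^ j * g⁻¹ * (h ^ j)⁻¹) * u⁻¹ := by simp only [mul_assoc]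
      _ = (g * h ^ j * g⁻¹ * (h ^ j)⁻¹) * u * u⁻¹ := by rw [← hcu]
      _ = g * h ^ j * g⁻¹ * (h ^ j)⁻¹ := by rw [mul_inv_cancel_right]
  rw [h1]
  have h2 : g * h * g⁻¹ = (g * h * g⁻¹ * h⁻¹) * h := by group
  have hwz := hg.2.2.2.2.2.2 g
  have hwc : g * h * g⁻¹ * h⁻¹ ∈ Subgroup.center R := (Subgroup.zpowers_le.mpr hzc) hwz
  have hcomm : Commute (g * h * g⁻¹ * h⁻¹) h := (Subgroup.mem_center_iff.mp hwc h).symm
  rw [h2, hcomm.mul_zpow, mul_inv_cancel_right]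
  exact Subgroup.zpow_mem _ hwz j

/-- `B · Ω ⊆ Ω` -/
theorem mul_pow_eq_one (hp : p ≠ 2) (hg : Good p ⊤ z h) :
    ∀ b' ∈ hg.B, ∀ x : R, x ^ p = 1 → (b' * x) ^ p = 1 := by
  have hpP : p.Prime := Fact.out
  have hzc : z ∈ Subgroup.center R := hg.2.2.1
  have hzp : z ^ p = 1 := hg.z_pow
  intro b' hb' x hx
  have hc := conj_mem_zpowers hg b' hb' x
  have hcc : x * b' * x⁻¹ * b'⁻¹ ∈ Subgroup.center R := (Subgroup.zpowers_le.mpr hzc) hc
  have hcp : (x * b' * x⁻¹ * b'⁻¹) ^ p = 1 := by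
    obtain ⟨i, hi⟩ := Subgroup.mem_zpowers_iff.mp hc
    rw [← hi, ← zpow_natCast, ← zpow_mul, mul_comm, zpow_mul, zpow_natCast, hzp, one_zpow]
  have h1 : x * b' = (x * b' * x⁻¹ * b'⁻¹) * b' * x := by group
  have c1 : Commute (x * b' * x⁻¹ * b'⁻¹) b' := (Subgroup.mem_center_iff.mp hcc b').symm
  have c2 : Commute (x * b' * x⁻¹ * b'⁻¹) x := (Subgroup.mem_center_iff.mp hcc x).symm
  rw [mul_pow_prime_of_comm hpP hp h1 c1 c2 hcp, hg.B_exp b' hb', hx, one_mul]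

/-- For `x` of order dividing `p`, the subgroup `B ⊔ ⟨x⟩` has exponent `p`. -/
theorem sup_zpowers_exp (hp : p ≠ 2) (hg : Good p ⊤ z h) {x : R} (hx : x ^ p = 1) :
    ∀ y ∈ hg.B ⊔ Subgroup.zpowers x, y ^ p = 1 := by
  have hBn : hg.B.Normal := hg.B_normal
  intro y hy
  obtain ⟨b', hb', v, hv, rfl⟩ := Subgroup.mem_sup_of_normal_left.mp hy
  obtain ⟨j, rfl⟩ := Subgroup.mem_zpowers_iff.mp hv
  apply mul_pow_eq_one hp hg b' hb'
  rw [← zpow_natCast, ← zpow_mul, mul_comm, zpow_mul, zpow_natCast, hx, one_zpow]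

/-- If all subgroups of exponent `p` have order at most `p²`, every element of order dividing `p`
lies in `B`. -/
theorem omega_le_B (hp : p ≠ 2) (hg : Good p ⊤ z h)
    (hbound : ∀ E : Subgroup R, (∀ y ∈ E, y ^ p = 1) → Nat.card E ≤ p ^ 2) :
    ∀ x : R, x ^ p = 1 → x ∈ hg.B := by
  have hpP : p.Prime := Fact.out
  intro x hx
  by_contra hxB
  have hEexp := sup_zpowers_exp hp hg hx
  have hle := hbound _ hEexp
  have hlt : Nat.card hg.B < Nat.card ↥(hg.B ⊔ Subgroup.zpowers x) := by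
    have hle : hg.B ≤ hg.B ⊔ Subgroup.zpowers x := le_sup_left
    have hne : hg.B ≠ hg.B ⊔ Subgroup.zpowers x := by
      intro h
      apply hxB
      rw [h]
      exact Subgroup.mem_sup_right (Subgroup.mem_zpowers x)
    rcases (Subgroup.card_le_of_le hle).lt_or_eq with h | h
    · exact h
    · exact absurd (Subgroup.eq_of_le_of_card_ge hle h.ge) hne
  rw [hg.card_B] at hlt
  omega

theorem closure_eq_B (hp : p ≠ 2) (hg : Good p ⊤ z h)
    (hbound : ∀ E : Subgroup R, (∀ y ∈ E, y ^ p = 1) → Nat.card E ≤ p ^ 2) :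
    Subgroup.closure {x : R | x ^ p = 1} = hg.B := by
  apply le_antisymm
  · rw [Subgroup.closure_le]
    intro x hx
    exact omega_le_B hp hg hbound x hx
  · intro y hy
    exact Subgroup.subset_closure (hg.B_exp y hy)

end

end Cfsg.Agent.Lib.Helper20_OmegaOne
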