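import Mathlib
import Cfsg.Agent.Lib.Helper20_ClassThree
import Cfsg.Agent.Lib.Helper20_PGroupRank3
import Cfsg.Agent.Lib.Helper20_OmegaOne

/-!
# `Ω₁` of `p`-groups of rank at most two, `p > 3`

* `nilpotencyClass_le_of_card_le` : a `p`-group of order at most `p ^ (k + 2)` has class at most
  `k + 1`.
* `card_le_of_exp` : for `p` odd, if all abelian subgroups of exponent `p` have order at most `p²`,
  a normal subgroup of exponent `p` has order at most `p³`.
* `mul_pow_eq_one` : for `p > 3`, if all abelian subgroups of exponent `p` have order at most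
  `p²`, then products of elements of order dividing `p` have order dividing `p`.
-/

set_option autoImplicit false

namespace Cfsg.Agent.Lib.Helper20_RankTwoOmega

open Cfsg.Agent.Lib.Helper20_PGroupOdd Cfsg.Agent.Lib.Helper20_PGroupRank3
  Cfsg.Agent.Lib.Helper20_OmegaOne Cfsg.Agent.Lib.Helper20_ClassThree

universe u

theorem card_center_ge {G : Type u} [Group G] [Finite G] {p : ℕ} [Fact p.Prime]
    (hG : IsPGroup p G) [Nontrivial G] : p ≤ Nat.card (Subgroup.center G) := by
  have hpP : p.Prime := Fact.out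
  have hZ : IsPGroup p (Subgroup.center G) := hG.to_subgroup _
  have hnt : Nontrivial (Subgroup.center G) := hG.center_nontrivial
  obtain ⟨j, hj0, hj⟩ := (hZ.nontrivial_iff_card).mp hnt
  rw [hj]
  exact Nat.le_self_pow (by omega) p

theorem card_quotient_center_le {G : Type u} [Group G] [Finite G] {p : ℕ} [Fact p.Prime]
    (hG : IsPGroup p G) [Nontrivial G] {m : ℕ} (hcard : Nat.card G ≤ p ^ (m + 1)) :
    Nat.card (G ⧸ Subgroup.center G) ≤ p ^ m := by
  have hpP : p.Prime := Fact.out
  have h1 := Subgroup.card_eq_card_quotient_mul_card_subgroup (Subgroup.center G)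
  have h2 := card_center_ge hG
  have h3 : Nat.card (G ⧸ Subgroup.center G) * p ≤ p ^ m * p := by
    calc Nat.card (G ⧸ Subgroup.center G) * p
        ≤ Nat.card (G ⧸ Subgroup.center G) * Nat.card (Subgroup.center G) :=
          Nat.mul_le_mul_left _ h2
      _ = Nat.card G := h1.symm
      _ ≤ p ^ (m + 1) := hcard
      _ = p ^ m * p := pow_succ p m
  exact Nat.le_of_mul_le_mul_right h3 hpP.pos

/-- A `p`-group of order at most `p ^ (k + 2)` has nilpotency class at most `k + 1`. -/
theorem nilpotencyClass_le_of_card_le (p : ℕ) [Fact p.Prime] :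
    ∀ (k : ℕ) (G : Type u) [Group G] [Finite G], IsPGroup p G → Nat.card G ≤ p ^ (k + 2) →
      Group.nilpotencyClass G ≤ k + 1 := by
  have hpP : p.Prime := Fact.out
  intro k
  induction k with
  | zero =>
    intro G _ _ hG hcard
    have hnil : Group.IsNilpotent G := hG.isNilpotent
    rw [Group.IsNilpotent.nilpotencyClass_le_one_iff]
    have : IsCyclic (G ⧸ Subgroup.center G) := by
      apply isCyclic_of_card_dvd_prime (p := p)
      rcases subsingleton_or_nontrivial G with hs | hn
      · have : Subsingleton (G ⧸ Subgroup.center G) := inferInstance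
        rw [Nat.card_eq_one_iff_unique.mpr ⟨this, ⟨1⟩⟩]
        exact one_dvd p
      · have hle := card_quotient_center_le hG (m := 1) (by simpa using hcard)
        obtain ⟨i, hi⟩ := IsPGroup.iff_card.mp (hG.to_quotient (Subgroup.center G))
        rw [hi] at hle ⊢
        have hi1 : i ≤ 1 := by
          by_contra hi2
          push Not at hi2
          have : p ^ 2 ≤ p ^ i := Nat.pow_le_pow_right hpP.pos hi2
          have h2 : p ^ 1 < p ^ 2 := Nat.pow_lt_pow_right hpP.one_lt (by norm_num)
          omega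
        exact (Nat.pow_dvd_pow p hi1).trans (by rw [pow_one])
    exact isMulCommutative_of_isCyclic_quotient_center_self G
  | succ k ih =>
    intro G _ _ hG hcard
    have hnil : Group.IsNilpotent G := hG.isNilpotent
    rcases subsingleton_or_nontrivial G with hs | hn
    · have := Group.nilpotencyClass_zero_iff_subsingleton.mpr hs
      omega
    · rw [Group.nilpotencyClass_eq_quotient_center_plus_one]
      have hle := card_quotient_center_le hG (m := k + 2) hcard
      have := ih (G ⧸ Subgroup.center G) (hG.to_quotient _) hle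
      omega

/-- A `p`-group of order at most `p⁴` has class at most three. -/
theorem class_three_of_card_le {G : Type u} [Group G] [Finite G] {p : ℕ} [Fact p.Prime]
    (hG : IsPGroup p G) (hcard : Nat.card G ≤ p ^ 4) :
    ⁅⁅commutator G, (⊤ : Subgroup G)⁆, (⊤ : Subgroup G)⁆ = ⊥ := by
  have hnil : Group.IsNilpotent G := hG.isNilpotent
  have h1 := nilpotencyClass_le_of_card_le p 2 G hG hcard
  have h2 := Subgroup.lowerCentralSeries_eq_bot_iff_nilpotencyClass_le.mpr h1
  rw [commutator_def]
  exact h2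

section
variable {R : Type u} [Group R] [Finite R] {p : ℕ} [Fact p.Prime]

/-- For `p` odd, if all abelian subgroups of exponent `p` have order at most `p²`, then a normal
subgroup of exponent `p` has order at most `p³`. -/
theorem card_le_of_exp (hp2 : p ≠ 2) (hR : IsPGroup p R)
    (hrk : ∀ E : Subgroup R, (∀ a ∈ E, ∀ b ∈ E, a * b = b * a) → (∀ a ∈ E, a ^ p = 1) →
      Nat.card E ≤ p ^ 2)
    (N : Subgroup R) [N.Normal] (hN : ∀ g ∈ N, g ^ p = 1) : Nat.card N ≤ p ^ 3 := by
  have hpP : p.Prime := Fact.out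
  by_cases hc : IsCyclic N
  · have h1 : Nat.card N ≤ p := by
      apply card_le_of_isCyclic_of_exp hpP
      intro g
      apply Subtype.ext
      simpa using hN g.1 g.2
    exact h1.trans (Nat.le_self_pow (by norm_num) p)
  · obtain ⟨z, h, hg⟩ := exists_good hp2 hR N hc
    have hzc : z ∈ Subgroup.center R := hg.2.2.1
    have hcomm : ∀ g : R, g * h * g⁻¹ * h⁻¹ ∈ Subgroup.zpowers z := hg.2.2.2.2.2.2
    set ψ := commHom hzc hcomm with hψ
    have hCmem : ∀ g : R, g ∈ ψ.ker ↔ g * h = h * g := mem_commHom_ker hzc hcomm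
    have hBn : hg.B.Normal := hg.B_normal
    have hcard1 : Nat.card N ≤ Nat.card ↥(N ⊓ ψ.ker) * p := by
      have h1 := Subgroup.relIndex_mul_relIndex (⊥ : Subgroup R) (N ⊓ ψ.ker) N bot_le inf_le_left
      rw [Subgroup.relIndex_bot_left, Subgroup.relIndex_bot_left, Subgroup.inf_relIndex_left,
        Subgroup.relIndex_ker] at h1
      rw [← h1]
      apply Nat.mul_le_mul_left
      have h2 : Nat.card ↥(N.map ψ) ≤ Nat.card ↥(Subgroup.zpowers z) :=
        Subgroup.card_le_card_group (N.map ψ)
      rwa [Nat.card_zpowers, hg.2.2.2.1] at h2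
    by_cases hle : N ⊓ ψ.ker ≤ hg.B
    · have h1 : Nat.card ↥(N ⊓ ψ.ker) ≤ p ^ 2 := by
        rw [← hg.card_B]
        exact Subgroup.card_le_of_le hle
      calc Nat.card N ≤ Nat.card ↥(N ⊓ ψ.ker) * p := hcard1
        _ ≤ p ^ 2 * p := Nat.mul_le_mul_right _ h1
        _ = p ^ 3 := by ring
    · exfalso
      obtain ⟨g, hgN, hgB⟩ := SetLike.not_le_iff_exists.mp hle
      have hgh : g * h = h * g := (hCmem g).mp hgN.2
      have hwc : ∀ r ∈ hg.B, r * g = g * r := by
        intro r hr
        obtain ⟨u, hu, v, hv, rfl⟩ := hg.mem_B_iff.mp hr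
        obtain ⟨j, rfl⟩ := Subgroup.mem_zpowers_iff.mp hv
        have huc : u ∈ Subgroup.center R := (Subgroup.zpowers_le.mpr hzc) hu
        have h1 : g * h ^ j = h ^ j * g := (Commute.zpow_right hgh j).eq
        calc u * h ^ j * g = u * (h ^ j * g) := mul_assoc _ _ _
          _ = u * (g * h ^ j) := by rw [h1]
          _ = (u * g) * h ^ j := (mul_assoc _ _ _).symm
          _ = (g * u) * h ^ j := by rw [(Subgroup.mem_center_iff.mp huc g)]
          _ = g * (u * h ^ j) := mul_assoc _ _ _
      obtain ⟨hEc, hEe⟩ := sup_zpowers_comm_exp hg.B hg.B_comm hg.B_exp (hN g hgN.1) hwc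
      have hbound := hrk _ hEc hEe
      have hlt : Nat.card hg.B < Nat.card ↥(hg.B ⊔ Subgroup.zpowers g) := by
        have hle' : hg.B ≤ hg.B ⊔ Subgroup.zpowers g := le_sup_left
        have hne : hg.B ≠ hg.B ⊔ Subgroup.zpowers g := by
          intro h'
          apply hgB
          rw [h']
          exact Subgroup.mem_sup_right (Subgroup.mem_zpowers g)
        rcases (Subgroup.card_le_of_le hle').lt_or_eq with h' | h'
        · exact h'
        · exact absurd (Subgroup.eq_of_le_of_card_ge hle' h'.ge) hne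
      rw [hg.card_B] at hlt
      omega

end

/-- Main induction: for `p > 3`, if all abelian subgroups of exponent `p` have order at most
`p²`, products of elements of order dividing `p` have order dividing `p`. -/
theorem mul_pow_eq_one_aux (p : ℕ) [hpf : Fact p.Prime] (hp : 3 < p) :
    ∀ (n : ℕ) (R : Type u) [Group R] [Finite R], Nat.card R = n → IsPGroup p R →
      (∀ E : Subgroup R, (∀ a ∈ E, ∀ b ∈ E, a * b = b * a) → (∀ a ∈ E, a ^ p = 1) →
        Nat.card E ≤ p ^ 2) →
      ∀ x y : R, x ^ p = 1 → y ^ p = 1 → (x * y) ^ p = 1 := by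
  have hpP : p.Prime := Fact.out
  have hp2 : p ≠ 2 := by omega
  intro n
  induction n using Nat.strong_induction_on with
  | _ n ih =>
  intro R _ _ hn hR hrk x y hx hy
  -- the hypothesis passes to subgroups
  have hsub : ∀ H : Subgroup R, Nat.card H < n → ∀ a ∈ H, ∀ b ∈ H, a ^ p = 1 → b ^ p = 1 →
      (a * b) ^ p = 1 := by
    intro H hH a ha b hb hap hbp
    have hrkH : ∀ E : Subgroup H, (∀ a ∈ E, ∀ b ∈ E, a * b = b * a) → (∀ a ∈ E, a ^ p = 1) →
        Nat.card E ≤ p ^ 2 := by
      intro E hEc hEe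
      rw [← Subgroup.card_subtype H E]
      apply hrk
      · rintro _ ⟨a, ha, rfl⟩ _ ⟨b, hb, rfl⟩
        have := hEc a ha b hb
        exact congrArg Subtype.val this
      · rintro _ ⟨a, ha, rfl⟩
        have := hEe a ha
        exact congrArg Subtype.val this
    have := ih (Nat.card H) hH H rfl (hR.to_subgroup H) hrkH ⟨a, ha⟩ ⟨b, hb⟩
      (Subtype.ext hap) (Subtype.ext hbp)
    exact congrArg Subtype.val this
  have hlt : ∀ H : Subgroup R, H ≠ ⊤ → Nat.card H < n := by
    intro H hH
    rcases (Subgroup.card_le_card_group H).lt_or_eq with h | h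
    · rwa [hn] at h
    · exact absurd (Subgroup.eq_top_of_card_eq H h) hH
  by_cases hH : Subgroup.zpowers x ⊔ Subgroup.zpowers y = ⊤
  swap
  · exact hsub _ (hlt _ hH) x (Subgroup.mem_sup_left (Subgroup.mem_zpowers x)) y
      (Subgroup.mem_sup_right (Subgroup.mem_zpowers y)) hx hy
  by_cases hxtop : Subgroup.zpowers x = ⊤
  · have hy' : y ∈ Subgroup.zpowers x := by rw [hxtop]; exact Subgroup.mem_top y
    obtain ⟨j, rfl⟩ := Subgroup.mem_zpowers_iff.mp hy'
    have hc : Commute x (x ^ j) := (Commute.refl x).zpow_right j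
    rw [hc.mul_pow, hx, hy, one_mul]
  obtain ⟨M, hMco, hxM⟩ := (eq_top_or_exists_le_coatom _).resolve_left hxtop
  have hnil : Group.IsNilpotent R := hR.isNilpotent
  have hMn : M.Normal :=
    Subgroup.NormalizerCondition.normal_of_coatom M
      Group.normalizerCondition_of_isNilpotent hMco
  have hMlt : Nat.card M < n := hlt M hMco.1
  set N : Subgroup R := Subgroup.closure {g : R | g ∈ M ∧ g ^ p = 1} with hNdef
  have hNM : ∀ g ∈ N, g ∈ M ∧ g ^ p = 1 := by
    intro g hg
    induction hg using Subgroup.closure_induction with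
    | mem a ha => exact ha
    | one => exact ⟨M.one_mem, one_pow p⟩
    | mul a b _ _ ha hb =>
      exact ⟨M.mul_mem ha.1 hb.1, hsub M hMlt a ha.1 b hb.1 ha.2 hb.2⟩
    | inv a _ ha => exact ⟨M.inv_mem ha.1, by rw [inv_pow, ha.2, inv_one]⟩
  have hNn : N.Normal := by
    constructor
    intro a ha g
    induction ha using Subgroup.closure_induction with
    | mem a ha =>
      apply Subgroup.subset_closure
      refine ⟨hMn.conj_mem a ha.1 g, ?_⟩
      rw [conj_pow, ha.2, mul_one, mul_inv_cancel]
    | one => simp [N.one_mem]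
    | mul a b _ _ ha hb =>
      have : g * (a * b) * g⁻¹ = (g * a * g⁻¹) * (g * b * g⁻¹) := by group
      rw [this]
      exact N.mul_mem ha hb
    | inv a _ ha =>
      have : g * a⁻¹ * g⁻¹ = (g * a * g⁻¹)⁻¹ := by group
      rw [this]
      exact N.inv_mem ha
  have hNcard : Nat.card N ≤ p ^ 3 := card_le_of_exp hp2 hR hrk N (fun g hg => (hNM g hg).2)
  have hxN : x ∈ N :=
    Subgroup.subset_closure ⟨hxM (Subgroup.mem_zpowers x), hx⟩
  by_cases hyN : y ∈ N
  · exact (hNM _ (N.mul_mem hxN hyN)).2
  have hy1 : y ≠ 1 := fun h => hyN (h ▸ N.one_mem)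
  have hyo : orderOf y = p := by
    rcases (Nat.dvd_prime hpP).mp (orderOf_dvd_of_pow_eq_one hy) with h | h
    · exact absurd (orderOf_eq_one_iff.mp h) hy1
    · exact h
  have htop : N ⊔ Subgroup.zpowers y = ⊤ := by
    rw [eq_top_iff, ← hH]
    exact sup_le_sup_right (Subgroup.zpowers_le.mpr hxN) _
  have hRcard : Nat.card R ≤ p ^ 4 := by
    have h1 := card_normal_sup_zpowers N hyo hyN
    rw [htop] at h1
    have h2 : Nat.card (⊤ : Subgroup R) = Nat.card R := Subgroup.card_top
    rw [← h2, h1]
    calc Nat.card N * p ≤ p ^ 3 * p := Nat.mul_le_mul_right _ hNcard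
      _ = p ^ 4 := by ring
  have hcl := class_three_of_card_le hR hRcard
  have hsc : SmallClass R p := Or.inr ⟨hp, hcl⟩
  exact hsc.mul_pow_eq_one hpP hx hy

theorem mul_pow_eq_one {R : Type u} [Group R] [Finite R] {p : ℕ} [Fact p.Prime] (hp : 3 < p)
    (hR : IsPGroup p R)
    (hrk : ∀ E : Subgroup R, (∀ a ∈ E, ∀ b ∈ E, a * b = b * a) → (∀ a ∈ E, a ^ p = 1) →
      Nat.card E ≤ p ^ 2) {x y : R} (hx : x ^ p = 1) (hy : y ^ p = 1) : (x * y) ^ p = 1 :=
  mul_pow_eq_one_aux p hp (Nat.card R) R rfl hR hrk x y hx hy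

/-- For `p > 3`, if all abelian subgroups of exponent `p` have order at most `p²`, then `Ω₁` has
exponent `p`. -/
theorem pow_eq_one_of_mem_closure {R : Type u} [Group R] [Finite R] {p : ℕ} [Fact p.Prime]
    (hp : 3 < p) (hR : IsPGroup p R)
    (hrk : ∀ E : Subgroup R, (∀ a ∈ E, ∀ b ∈ E, a * b = b * a) → (∀ a ∈ E, a ^ p = 1) →
      Nat.card E ≤ p ^ 2) {g : R} (hg : g ∈ Subgroup.closure {x : R | x ^ p = 1}) : g ^ p = 1 := by
  induction hg using Subgroup.closure_induction with
  | mem x hx => exact hx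
  | one => exact one_pow p
  | mul x y _ _ hx hy => exact mul_pow_eq_one hp hR hrk hx hy
  | inv x _ hx => rw [inv_pow, hx, inv_one]

end Cfsg.Agent.Lib.Helper20_RankTwoOmega
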