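import Mathlib
import Cfsg.Agent.Lib.Helper20_RankTwoOmega
import Cfsg.Agent.Lib.Helper1_Transport
import Cfsg.Agent.Lib.Helper32_PGroup
import Cfsg.Prelude.Def_PLocal

/-!
# `p`-groups with `|Ω₁| ≤ p²`, `p > 3`: quotients (helper2)

* `card_omega_ge`: a group of order `p⁴` (`p > 3`) whose `p`-th powers all lie in a subgroup of order
  `p` has `|Ω₁| ≥ p³`.
* `card_le_of_exp_quotient`: if `|Ω₁(R)| ≤ p²` and `T ⊴ R` has order `p`, then every subgroup of
  exponent `p` of `R ⧸ T` has order at most `p²`.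
* `card_omega_quotient_le`: if `|Ω₁(R)| ≤ p²` then `|Ω₁(R ⧸ T)| ≤ p²` for every `T ⊴ R`.
-/

set_option autoImplicit false

namespace Cfsg.Agent.Lib.Helper2_OmegaTwo

open Subgroup

/-- `Ω₁` as a plain closure. -/
def omega (p : ℕ) (R : Type*) [Group R] : Subgroup R := closure {x : R | x ^ p = 1}

theorem omegaOne_top (p : ℕ) (R : Type*) [Group R] :
    Cfsg.omegaOne p (⊤ : Subgroup R) = omega p R := by
  unfold Cfsg.omegaOne omega
  congr 1
  ext x
  simp

theorem mem_omega {p : ℕ} {R : Type*} [Group R] {x : R} (hx : x ^ p = 1) : x ∈ omega p R :=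
  Subgroup.subset_closure hx

/-- `Ω₁` is transported by isomorphisms. -/
theorem card_omega_congr {p : ℕ} {R R' : Type*} [Group R] [Group R'] (e : R ≃* R') :
    Nat.card (omega p R) = Nat.card (omega p R') := by
  have h1 : (omega p R).map e.toMonoidHom = omega p R' := by
    unfold omega
    rw [MonoidHom.map_closure]
    congr 1
    ext y
    constructor
    · rintro ⟨x, hx, rfl⟩
      show (e x) ^ p = 1
      rw [← map_pow, show x ^ p = 1 from hx, map_one]
    · intro hy
      refine ⟨e.symm y, ?_, by simp⟩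
      show (e.symm y) ^ p = 1
      rw [← map_pow, show y ^ p = 1 from hy, map_one]
  rw [← h1]
  exact (Subgroup.card_map_of_injective e.injective).symm

/-- `Ω₁` of a subgroup embeds in `Ω₁` of the group. -/
theorem card_omega_subgroup_le {p : ℕ} {R : Type*} [Group R] [Finite R] (X : Subgroup R) :
    Nat.card (omega p ↥X) ≤ Nat.card (omega p R) := by
  have h1 : (omega p ↥X).map X.subtype ≤ omega p R := by
    unfold omega
    rw [MonoidHom.map_closure, closure_le]
    rintro _ ⟨x, hx, rfl⟩
    apply Subgroup.subset_closure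
    show (x : R) ^ p = 1
    have := congrArg Subtype.val (show x ^ p = 1 from hx)
    simpa using this
  rw [← Subgroup.card_map_of_injective X.subtype_injective]
  exact Subgroup.card_le_of_le h1

variable {p : ℕ} [Fact p.Prime]

/-- A group of order `p⁴`, `p > 3`, all of whose `p`-th powers lie in a subgroup of order `p`, has at
least `p³` elements in `Ω₁`. -/
theorem card_omega_ge {X : Type*} [Group X] [Finite X] (hp : 3 < p) (hX : IsPGroup p X)
    (hcard : Nat.card X = p ^ 4) (T : Subgroup X) (hT : Nat.card T = p)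
    (hpow : ∀ u : X, u ^ p ∈ T) : p ^ 3 ≤ Nat.card (omega p X) := by
  have hpP : p.Prime := Fact.out
  have hp2 : p ≠ 2 := by omega
  -- X is not cyclic
  have hnc : ¬ IsCyclic (⊤ : Subgroup X) := by
    intro hc
    have hcX : IsCyclic X := by
      have := isCyclic_of_surjective (Subgroup.topEquiv (G := X)).toMonoidHom
        (Subgroup.topEquiv (G := X)).surjective
      exact this
    obtain ⟨g, hg⟩ := hcX.exists_generator
    have h1 : orderOf g = Nat.card X := orderOf_eq_card_of_forall_mem_zpowers hg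
    have h2 : (g ^ p) ^ p = 1 := by
      have h3 : orderOf (g ^ p) ∣ p := by
        have h4 : orderOf (⟨g ^ p, hpow g⟩ : T) ∣ Nat.card T := orderOf_dvd_natCard _
        rw [hT] at h4
        rwa [Subgroup.orderOf_mk] at h4
      exact orderOf_dvd_iff_pow_eq_one.mp h3
    rw [← pow_mul] at h2
    have h5 : orderOf g ∣ p * p := orderOf_dvd_of_pow_eq_one h2
    rw [h1, hcard] at h5
    have h6 : p ^ 4 ≤ p * p := Nat.le_of_dvd (Nat.mul_pos hpP.pos hpP.pos) h5
    have h7 : p * p < p ^ 4 := by
      have : p ^ 2 < p ^ 4 := Nat.pow_lt_pow_right hpP.one_lt (by norm_num)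
      rwa [sq] at this
    omega
  obtain ⟨A, -, hAn, -, hAexp, hAcard⟩ :=
    Cfsg.Agent.Lib.Helper20_PGroupOdd.exists_normal_rank_two hp2 hX ⊤ hnc
  have hAle : A ≤ omega p X := fun x hx => mem_omega (hAexp x hx)
  -- X / A has order p², hence is commutative
  have hder : commutator X ≤ A := by
    apply Subgroup.Normal.quotient_commutative_iff_commutator_le.mp
    have hq : Nat.card (X ⧸ A) = p ^ 2 := by
      have h1 := Cfsg.Agent.Lib.Helper1_Transport.card_quotient_mul_card A
      rw [hcard, hAcard] at h1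
      have h2 : p ^ 4 = p ^ 2 * p ^ 2 := by ring
      rw [h2] at h1
      exact Nat.eq_of_mul_eq_mul_right (pow_pos hpP.pos 2) h1
    exact IsPGroup.isMulCommutative_of_card_eq_prime_sq hq
  have hsc : Cfsg.Agent.Lib.Helper20_ClassThree.SmallClass X p :=
    Or.inr ⟨hp, Cfsg.Agent.Lib.Helper20_RankTwoOmega.class_three_of_card_le hX hcard.le⟩
  have hmul : ∀ x y : X, (x * y) ^ p = x ^ p * y ^ p :=
    hsc.mul_pow hpP (hder.trans hAle)
  let π : X →* X := { toFun := fun x => x ^ p, map_one' := one_pow p, map_mul' := hmul }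
  have hrange : π.range ≤ T := by
    rintro _ ⟨x, rfl⟩
    exact hpow x
  have hker : π.ker ≤ omega p X := by
    intro x hx
    exact mem_omega (MonoidHom.mem_ker.mp hx)
  have h1 : Nat.card X = Nat.card π.ker * Nat.card π.range := by
    rw [← Subgroup.index_ker π, mul_comm]
    exact (Subgroup.index_mul_card π.ker).symm
  have h2 : Nat.card π.range ≤ p := hT ▸ Subgroup.card_le_of_le hrange
  have h3 : Nat.card π.ker ≤ Nat.card (omega p X) := Subgroup.card_le_of_le hker
  have h4 : p ^ 3 * p ≤ Nat.card (omega p X) * p := by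
    calc p ^ 3 * p = Nat.card X := by rw [hcard]; ring
      _ = Nat.card π.ker * Nat.card π.range := h1
      _ ≤ Nat.card (omega p X) * p := Nat.mul_le_mul h3 h2
  exact Nat.le_of_mul_le_mul_right h4 hpP.pos

/-- If `|Ω₁(R)| ≤ p²` and `T ⊴ R` has order `p`, every subgroup of exponent `p` of `R ⧸ T` has order
at most `p²`. -/
theorem card_le_of_exp_quotient {R : Type*} [Group R] [Finite R] (hp : 3 < p) (hR : IsPGroup p R)
    (hO : Nat.card (omega p R) ≤ p ^ 2) (T : Subgroup R) [T.Normal] (hT : Nat.card T = p)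
    (E : Subgroup (R ⧸ T)) (hE : ∀ y ∈ E, y ^ p = 1) : Nat.card E ≤ p ^ 2 := by
  have hpP : p.Prime := Fact.out
  by_contra hcon
  push Not at hcon
  have hEp : IsPGroup p E := (hR.to_quotient T).to_subgroup E
  obtain ⟨k, hk⟩ := IsPGroup.iff_card.mp hEp
  have hk3 : 3 ≤ k := by
    by_contra hk3
    push Not at hk3
    have : p ^ k ≤ p ^ 2 := Nat.pow_le_pow_right hpP.pos (by omega)
    omega
  obtain ⟨K, hKcard⟩ := Sylow.exists_subgroup_card_pow_prime (G := ↥E) p (n := 3)
    (by rw [hk]; exact pow_dvd_pow p hk3)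
  set E₃ : Subgroup (R ⧸ T) := K.map E.subtype with hE₃def
  have hE₃card : Nat.card E₃ = p ^ 3 := by
    rw [hE₃def, Subgroup.card_map_of_injective E.subtype_injective, hKcard]
  have hE₃le : E₃ ≤ E := Subgroup.map_subtype_le K
  set X : Subgroup R := E₃.comap (QuotientGroup.mk' T) with hXdef
  have hXcard : Nat.card X = p ^ 4 := by
    rw [hXdef, Cfsg.Agent.Lib.Helper1_Transport.card_comap_mk', hE₃card, hT]
    ring
  have hTX : T ≤ X := by
    intro t ht
    show (QuotientGroup.mk' T t) ∈ E₃
    have : (QuotientGroup.mk' T t) = 1 := (QuotientGroup.eq_one_iff t).mpr ht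
    rw [this]
    exact E₃.one_mem
  have hTcard' : Nat.card (T.subgroupOf X) = p := by
    rw [Cfsg.Agent.Lib.Helper1_Transport.card_subgroupOf hTX, hT]
  have hpow : ∀ u : ↥X, u ^ p ∈ T.subgroupOf X := by
    intro u
    rw [Subgroup.mem_subgroupOf]
    have h1 : (QuotientGroup.mk' T (u : R)) ∈ E := hE₃le u.2
    have h2 := hE _ h1
    have h3 : QuotientGroup.mk' T ((u : R) ^ p) = 1 := by rw [map_pow]; exact h2
    have h4 : (u : R) ^ p ∈ T := (QuotientGroup.eq_one_iff _).mp h3
    simpa using h4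
  have h5 := card_omega_ge hp (hR.to_subgroup X) hXcard (T.subgroupOf X) hTcard' hpow
  have h6 := card_omega_subgroup_le (p := p) X
  have h7 : p ^ 2 < p ^ 3 := Nat.pow_lt_pow_right hpP.one_lt (by norm_num)
  omega

/-- The case `|T| = p` of `card_omega_quotient_le`. -/
theorem card_omega_quotient_le_of_card {R : Type*} [Group R] [Finite R] (hp : 3 < p)
    (hR : IsPGroup p R) (hO : Nat.card (omega p R) ≤ p ^ 2) (T : Subgroup R) [T.Normal]
    (hT : Nat.card T = p) : Nat.card (omega p (R ⧸ T)) ≤ p ^ 2 := by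
  have hrk := card_le_of_exp_quotient hp hR hO T hT
  apply hrk
  intro y hy
  exact Cfsg.Agent.Lib.Helper20_RankTwoOmega.pow_eq_one_of_mem_closure hp (hR.to_quotient T)
    (fun E _ hE => hrk E hE) hy

/-- For `p > 3`: if `|Ω₁(R)| ≤ p²` then `|Ω₁(R ⧸ T)| ≤ p²` for every normal subgroup `T`. -/
theorem card_omega_quotient_le_aux (hp : 3 < p) :
    ∀ (n : ℕ) (R : Type*) [Group R] [Finite R], Nat.card R = n → IsPGroup p R →
      Nat.card (omega p R) ≤ p ^ 2 → ∀ (T : Subgroup R) [T.Normal],
      Nat.card (omega p (R ⧸ T)) ≤ p ^ 2 := by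
  have hpP : p.Prime := Fact.out
  intro n
  induction n using Nat.strong_induction_on with
  | _ n ih =>
  intro R _ _ hn hR hO T hTn
  by_cases hTbot : T = ⊥
  · subst hTbot
    rw [card_omega_congr (QuotientGroup.quotientBot (G := R))]
    exact hO
  · obtain ⟨z, hzT, hzc, hz1⟩ := Cfsg.Agent.Lib.Helper32_PGroup.exists_mem_center_of_normal hR T hTbot
    -- an element of order p in ⟨z⟩
    obtain ⟨k, hk⟩ := hR.exists_orderOf_eq_pow z
    have hk0 : k ≠ 0 := by
      rintro rfl
      rw [pow_zero, orderOf_eq_one_iff] at hk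
      exact hz1 hk
    set w : R := z ^ (p ^ (k - 1)) with hw
    have hwo : orderOf w = p := by
      have h1 : orderOf z = p ^ (k - 1) * p := by rw [hk, ← pow_succ]; congr 1; omega
      rw [hw, orderOf_pow' _ (pow_ne_zero _ hpP.ne_zero), h1, Nat.gcd_mul_right_left,
        Nat.mul_div_cancel_left _ (pow_pos hpP.pos _)]
    have hwc : w ∈ center R := Subgroup.pow_mem _ hzc _
    have hwT : w ∈ T := Subgroup.pow_mem _ hzT _
    set T₀ : Subgroup R := zpowers w with hT₀
    have hT₀n : T₀.Normal := by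
      have : T₀ ≤ center R := by rw [hT₀, zpowers_le]; exact hwc
      exact Cfsg.Agent.Lib.Helper32_PGroup.normal_of_le_center _ this
    have hT₀card : Nat.card T₀ = p := by rw [hT₀, Nat.card_zpowers, hwo]
    have hT₀T : T₀ ≤ T := by rw [hT₀, zpowers_le]; exact hwT
    have hQ := card_omega_quotient_le_of_card hp hR hO T₀ hT₀card
    have hQcard : Nat.card (R ⧸ T₀) < n := by
      have h1 := Cfsg.Agent.Lib.Helper1_Transport.card_quotient_mul_card T₀
      rw [hT₀card, hn] at h1
      have h2 : 0 < Nat.card (R ⧸ T₀) := Nat.card_pos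
      have h3 : 1 < p := hpP.one_lt
      nlinarith
    have h3 := ih _ hQcard (R ⧸ T₀) rfl (hR.to_quotient T₀) hQ (T.map (QuotientGroup.mk' T₀))
    rw [card_omega_congr (QuotientGroup.quotientQuotientEquivQuotient T₀ T hT₀T)] at h3
    exact h3

theorem card_omega_quotient_le {R : Type*} [Group R] [Finite R] (hp : 3 < p) (hR : IsPGroup p R)
    (hO : Nat.card (omega p R) ≤ p ^ 2) (T : Subgroup R) [T.Normal] :
    Nat.card (omega p (R ⧸ T)) ≤ p ^ 2 :=
  card_omega_quotient_le_aux hp (Nat.card R) R rfl hR hO T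

end Cfsg.Agent.Lib.Helper2_OmegaTwo
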