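import Mathlib
import Cfsg.Agent.Lib.Helper63_PGroup

/-!
# More p-group lemmas (helper63)
-/

set_option autoImplicit false

namespace Cfsg.Agent.Lib.Helper63_PGroup2

open Cfsg.Agent.Lib.Helper63_PGroup
open scoped commutatorElement

variable {G : Type*} [Group G]

/-- a power of `p` exceeding `p` is at least `p ^ 2` -/
theorem sq_le_of_lt_pow {p k : ℕ} (hp : p.Prime) (h : p < p ^ k) : p ^ 2 ≤ p ^ k := by
  apply Nat.pow_le_pow_right hp.pos
  by_contra hlt
  have hk : k ≤ 1 := by omega
  have : p ^ k ≤ p ^ 1 := Nat.pow_le_pow_right hp.pos hk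
  rw [pow_one] at this
  omega

/-- a power of `p` exceeding `p ^ n` is at least `p ^ (n + 1)` -/
theorem pow_succ_le_of_lt_pow {p n k : ℕ} (hp : p.Prime) (h : p ^ n < p ^ k) : p ^ (n + 1) ≤ p ^ k := by
  apply Nat.pow_le_pow_right hp.pos
  by_contra hlt
  have hk : k ≤ n := by omega
  have : p ^ k ≤ p ^ n := Nat.pow_le_pow_right hp.pos hk
  omega

theorem mem_centralizer_singleton {x y : G} :
    y ∈ Subgroup.centralizer ({x} : Set G) ↔ x * y = y * x := by
  rw [Subgroup.mem_centralizer_iff]
  simp

/-- A finite `p`-group of order greater than `p ^ 3` has an abelian subgroup of order greater than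
`p ^ 2`. -/
theorem exists_abelian_card_gt_sq [Finite G] {p : ℕ} [Fact p.Prime] (hR : IsPGroup p G)
    (hcon : p ^ 3 < Nat.card G) : ∃ A : Subgroup G, IsMulCommutative A ∧ p ^ 2 < Nat.card A := by
  have hp : p.Prime := Fact.out
  by_contra hno
  have hab : ∀ A : Subgroup G, IsMulCommutative A → Nat.card A ≤ p ^ 2 := by
    intro A hA
    by_contra h
    exact hno ⟨A, hA, not_le.1 h⟩
  have hp23 : p ^ 2 < p ^ 3 := Nat.pow_lt_pow_right hp.one_lt (by norm_num)
  have hZtop : Subgroup.center G ≠ ⊤ := by
    intro h
    have hcomm : IsMulCommutative (⊤ : Subgroup G) := by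
      rw [← Subgroup.le_centralizer_iff_isMulCommutative, Subgroup.coe_top, Subgroup.centralizer_univ, h]
    have := hab ⊤ hcomm
    rw [Subgroup.card_top] at this
    omega
  have hnt : Nontrivial G := by
    rw [← Finite.one_lt_card_iff_nontrivial]
    have : 1 ≤ p ^ 3 := Nat.one_le_pow _ _ hp.pos
    omega
  obtain ⟨kZ, hkZ⟩ := IsPGroup.iff_card.1 (hR.to_subgroup (Subgroup.center G))
  have hZ1 : 1 < Nat.card (Subgroup.center G) := by
    have := hR.center_nontrivial
    exact Finite.one_lt_card_iff_nontrivial.2 this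
  have hZp : Nat.card (Subgroup.center G) = p := by
    by_contra hne
    have hge : p ^ 2 ≤ Nat.card (Subgroup.center G) := by
      rw [hkZ]
      apply sq_le_of_lt_pow hp
      rw [← hkZ]
      have hk0 : kZ ≠ 0 := by
        rintro rfl
        rw [pow_zero] at hkZ; omega
      have : p ≤ p ^ kZ := by
        calc p = p ^ 1 := (pow_one p).symm
          _ ≤ p ^ kZ := Nat.pow_le_pow_right hp.pos (by omega)
      rw [← hkZ] at this
      omega
    obtain ⟨x, hx⟩ : ∃ x : G, x ∉ Subgroup.center G := by
      by_contra hall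
      push Not at hall
      exact hZtop (eq_top_iff.2 fun x _ => hall x)
    have hcomm := isMulCommutative_sup_zpowers (Subgroup.center G) x
      (fun d hd => (Subgroup.mem_center_iff.1 hd x).symm)
    have h1 := card_lt_card_sup_zpowers (Subgroup.center G) x hx
    have h2 := hab _ hcomm
    omega
  obtain ⟨b, hbZ, hb⟩ := exists_not_mem_center_commutator_mem_center hR hZtop
  set C := Subgroup.centralizer ({b} : Set G) with hC
  have hCidx : C.index ∣ p := by
    have := index_centralizer_dvd_card_center b hb
    rwa [hZp] at this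
  have hCcard : p ^ 2 < Nat.card C := by
    have h1 := Subgroup.card_mul_index C
    have h2 : C.index ≤ p := Nat.le_of_dvd hp.pos hCidx
    have h3 : Nat.card G ≤ Nat.card C * p := by
      rw [← h1]; exact Nat.mul_le_mul_left _ h2
    by_contra hle
    rw [not_lt] at hle
    have : Nat.card C * p ≤ p ^ 2 * p := Nat.mul_le_mul_right _ hle
    have e : p ^ 2 * p = p ^ 3 := by ring
    omega
  set D := Subgroup.center G ⊔ Subgroup.zpowers b with hD
  have hDcomm : IsMulCommutative D := isMulCommutative_sup_zpowers (Subgroup.center G) b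
      (fun d hd => (Subgroup.mem_center_iff.1 hd b).symm)
  have hDcard : p ^ 2 ≤ Nat.card D := by
    have h1 := card_lt_card_sup_zpowers (Subgroup.center G) b hbZ
    obtain ⟨kD, hkD⟩ := IsPGroup.iff_card.1 (hR.to_subgroup D)
    rw [hkD]
    apply sq_le_of_lt_pow hp
    rw [← hkD, ← hZp]
    exact h1
  have hDC : D ≤ C := by
    apply sup_le
    · intro z hz
      rw [hC, mem_centralizer_singleton]
      exact (Subgroup.mem_center_iff.1 hz b)
    · rw [Subgroup.zpowers_le, hC, mem_centralizer_singleton]
  by_cases hCD : C ≤ D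
  · have hCeq : C = D := le_antisymm hCD hDC
    have := hab D hDcomm
    rw [← hCeq] at this
    omega
  · obtain ⟨x, hxC, hxD⟩ := SetLike.not_le_iff_exists.1 hCD
    have hxcomm : ∀ d ∈ D, d * x = x * d := by
      intro d hd
      have hle : D ≤ Subgroup.centralizer ({x} : Set G) := by
        apply sup_le
        · intro z hz
          rw [mem_centralizer_singleton]
          exact (Subgroup.mem_center_iff.1 hz x)
        · rw [Subgroup.zpowers_le, mem_centralizer_singleton]
          rw [hC, mem_centralizer_singleton] at hxC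
          exact hxC.symm
      have := hle hd
      rw [mem_centralizer_singleton] at this
      exact this.symm
    have hcomm := isMulCommutative_sup_zpowers D x hxcomm
    have h1 := card_lt_card_sup_zpowers D x hxD
    have h2 := hab _ hcomm
    omega

/-- If the generators of `G` commute modulo the normal subgroup `N`, then `G' ≤ N`. -/
theorem commutator_le_of_generators (N : Subgroup G) [N.Normal] (T : Set G)
    (hT : Subgroup.closure T = ⊤) (h : ∀ s ∈ T, ∀ t ∈ T, ⁅s, t⁆ ∈ N) : commutator G ≤ N := by
  have hcomm_iff : ∀ g k : G, ⁅g, k⁆ ∈ N ↔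
      (g : G ⧸ N) * (k : G ⧸ N) = (k : G ⧸ N) * (g : G ⧸ N) := by
    intro g k
    rw [← QuotientGroup.eq_one_iff, ← commutatorElement_eq_one_iff_mul_comm]
    simp [commutatorElement_def]
  -- generators are central in the quotient
  have key1 : ∀ t ∈ T, ∀ g : G, (g : G ⧸ N) * (t : G ⧸ N) = (t : G ⧸ N) * (g : G ⧸ N) := by
    intro t ht g
    have hle : Subgroup.closure T ≤
        (Subgroup.centralizer ({(t : G ⧸ N)} : Set (G ⧸ N))).comap (QuotientGroup.mk' N) := by
      rw [Subgroup.closure_le]
      intro s hs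
      rw [SetLike.mem_coe, Subgroup.mem_comap, mem_centralizer_singleton]
      exact ((hcomm_iff s t).1 (h s hs t ht)).symm
    have hg : g ∈ Subgroup.closure T := by rw [hT]; trivial
    have := hle hg
    rw [Subgroup.mem_comap, mem_centralizer_singleton] at this
    exact this.symm
  have key2 : ∀ k g : G, (g : G ⧸ N) * (k : G ⧸ N) = (k : G ⧸ N) * (g : G ⧸ N) := by
    intro k g
    have hle : Subgroup.closure T ≤
        (Subgroup.centralizer ({(g : G ⧸ N)} : Set (G ⧸ N))).comap (QuotientGroup.mk' N) := by
      rw [Subgroup.closure_le]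
      intro s hs
      rw [SetLike.mem_coe, Subgroup.mem_comap, mem_centralizer_singleton]
      exact key1 s hs g
    have hk : k ∈ Subgroup.closure T := by rw [hT]; trivial
    have := hle hk
    rw [Subgroup.mem_comap, mem_centralizer_singleton] at this
    exact this
  rw [commutator_def, Subgroup.commutator_le]
  intro g _ k _
  rw [hcomm_iff]
  exact key2 k g

end Cfsg.Agent.Lib.Helper63_PGroup2

namespace Cfsg.Agent.Lib.Helper63_PGroup2

open Cfsg.Agent.Lib.Helper63_PGroup
open scoped commutatorElement

variable {G : Type*} [Group G]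

theorem comm_of_mem {A : Subgroup G} (hA : IsMulCommutative A) {a b : G} (ha : a ∈ A) (hb : b ∈ A) :
    a * b = b * a := by
  have := hA.is_comm.comm ⟨a, ha⟩ ⟨b, hb⟩
  exact congrArg Subtype.val this

theorem center_ne_top_of_not_comm (hna : ¬ IsMulCommutative G) : Subgroup.center G ≠ ⊤ := by
  intro h
  apply hna
  constructor
  constructor
  intro a b
  have : a ∈ Subgroup.center G := by rw [h]; trivial
  exact (Subgroup.mem_center_iff.1 this b).symm

/-- the commutator map `a ↦ ⁅a, x⁆` on an abelian normal subgroup -/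
def commMap (A : Subgroup G) (hA : IsMulCommutative A) (hAn : A.Normal) (x : G) : A →* A :=
  MonoidHom.mk' (fun a => ⟨⁅(a : G), x⁆, by
    rw [commutatorElement_def]
    have h1 : x * (a : G)⁻¹ * x⁻¹ ∈ A := hAn.conj_mem _ (A.inv_mem a.2) x
    have := A.mul_mem a.2 h1
    convert this using 1; group⟩) (by
    intro a b
    apply Subtype.ext
    show ⁅(a : G) * (b : G), x⁆ = ⁅(a : G), x⁆ * ⁅(b : G), x⁆
    have hu : x * (a : G)⁻¹ * x⁻¹ ∈ A := hAn.conj_mem _ (A.inv_mem a.2) x
    have hv : x * (b : G)⁻¹ * x⁻¹ ∈ A := hAn.conj_mem _ (A.inv_mem b.2) x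
    have hc : ((b : G) * (x * (b : G)⁻¹ * x⁻¹)) * (x * (a : G)⁻¹ * x⁻¹) =
        (x * (a : G)⁻¹ * x⁻¹) * ((b : G) * (x * (b : G)⁻¹ * x⁻¹)) :=
      comm_of_mem hA (A.mul_mem b.2 hv) hu
    simp only [commutatorElement_def]
    have e1 : (a : G) * b * x * ((a : G) * b)⁻¹ * x⁻¹ =
        a * (((b : G) * (x * (b : G)⁻¹ * x⁻¹)) * (x * (a : G)⁻¹ * x⁻¹)) := by group
    have e2 : (a : G) * x * (a : G)⁻¹ * x⁻¹ * ((b : G) * x * (b : G)⁻¹ * x⁻¹) =
        a * ((x * (a : G)⁻¹ * x⁻¹) * ((b : G) * (x * (b : G)⁻¹ * x⁻¹))) := by group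
    rw [e1, e2, hc])

theorem commMap_apply (A : Subgroup G) (hA : IsMulCommutative A) (hAn : A.Normal) (x : G) (a : A) :
    ((commMap A hA hAn x a : A) : G) = ⁅(a : G), x⁆ := rfl

/-- In a nonabelian finite `p`-group with an abelian subgroup of index `p`,
`|G : Z(G)| = p |G'|`. -/
theorem index_center_eq_of_abelian_index_prime [Finite G] {p : ℕ} [Fact p.Prime] (hG : IsPGroup p G)
    (hna : ¬ IsMulCommutative G) (A : Subgroup G) (hA : IsMulCommutative A) (hAi : A.index = p) :
    (Subgroup.center G).index = p * Nat.card (commutator G) := by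
  have hp : p.Prime := Fact.out
  have hAn : A.Normal := normal_of_index_eq_prime hG A hAi
  have hcoatom : IsCoatom A := isCoatom_of_index_prime A (hAi ▸ hp)
  obtain ⟨x, hxA⟩ : ∃ x : G, x ∉ A := by
    by_contra hall
    push Not at hall
    exact hcoatom.1 (eq_top_iff.2 fun x _ => hall x)
  have hgen : A ⊔ Subgroup.zpowers x = ⊤ := by
    apply hcoatom.2
    apply lt_of_le_of_ne le_sup_left
    intro heq
    apply hxA
    rw [heq]
    exact Subgroup.mem_sup_right (Subgroup.mem_zpowers x)
  have hZtop := center_ne_top_of_not_comm hna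
  -- the centre lies in `A`
  have hZA : Subgroup.center G ≤ A := by
    by_contra hle
    obtain ⟨z, hz, hzA⟩ := SetLike.not_le_iff_exists.1 hle
    have hgen' : A ⊔ Subgroup.zpowers z = ⊤ := by
      apply hcoatom.2
      apply lt_of_le_of_ne le_sup_left
      intro heq
      apply hzA
      rw [heq]
      exact Subgroup.mem_sup_right (Subgroup.mem_zpowers z)
    have hcomm := isMulCommutative_sup_zpowers A z (fun d _ => (Subgroup.mem_center_iff.1 hz d))
    rw [hgen'] at hcomm
    apply hZtop
    rw [← Subgroup.le_centralizer_iff_isMulCommutative, Subgroup.coe_top,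
      Subgroup.centralizer_univ] at hcomm
    exact eq_top_iff.2 hcomm
  -- an element of `A` is central iff it commutes with `x`
  have hcent : ∀ a ∈ A, a ∈ Subgroup.center G ↔ a * x = x * a := by
    intro a ha
    constructor
    · intro h; exact (Subgroup.mem_center_iff.1 h x).symm
    · intro h
      rw [Subgroup.mem_center_iff]
      intro g
      have hle : A ⊔ Subgroup.zpowers x ≤ Subgroup.centralizer ({a} : Set G) := by
        apply sup_le
        · intro b hb
          rw [mem_centralizer_singleton]
          exact comm_of_mem hA ha hb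
        · rw [Subgroup.zpowers_le, mem_centralizer_singleton]; exact h
      have hg : g ∈ A ⊔ Subgroup.zpowers x := by rw [hgen]; trivial
      have := hle hg
      rw [mem_centralizer_singleton] at this
      exact this.symm
  set φ := commMap A hA hAn x with hφ
  have hker : φ.ker = (Subgroup.center G).subgroupOf A := by
    ext a
    rw [MonoidHom.mem_ker, Subgroup.mem_subgroupOf, hcent a a.2, ← Subtype.coe_inj, hφ,
      commMap_apply, Subgroup.coe_one, commutatorElement_eq_one_iff_mul_comm]
  set K := φ.range.map A.subtype with hK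
  have hKA : K ≤ A := Subgroup.map_subtype_le _
  have hKmem : ∀ a ∈ A, ⁅a, x⁆ ∈ K := by
    intro a ha
    exact ⟨φ ⟨a, ha⟩, ⟨⟨a, ha⟩, rfl⟩, rfl⟩
  have hKcard : Nat.card K = Nat.card φ.range := Subgroup.card_subtype _ _
  -- `K` is normal
  have hxnorm : x ∈ Subgroup.normalizer (K : Set G) := by
    rw [Subgroup.mem_normalizer_iff_map_conj_eq]
    apply Subgroup.eq_of_le_of_card_ge
    · rintro _ ⟨k, ⟨_, ⟨a, rfl⟩, rfl⟩, rfl⟩
      have h1 : x * (a : G) * x⁻¹ ∈ A := hAn.conj_mem _ a.2 x
      have := hKmem _ h1
      show x * ((φ a : A) : G) * x⁻¹ ∈ K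
      rw [hφ, commMap_apply]
      convert this using 1
      simp only [commutatorElement_def]; group
    · exact (Subgroup.card_map_of_injective (K := K) (f := ((MulAut.conj x : G ≃* G) : G →* G))
        (MulAut.conj x).injective).ge
  have hKn : K.Normal := by
    rw [← Subgroup.normalizer_eq_top_iff, eq_top_iff, ← hgen]
    apply sup_le
    · rw [Subgroup.le_normalizer_iff]
      intro a ha k hk
      have : a * k * a⁻¹ = k := by
        rw [comm_of_mem hA ha (hKA hk)]; group
      rw [this]; exact hk
    · rw [Subgroup.zpowers_le]; exact hxnorm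
  -- `K = G'`
  have hKeq : K = commutator G := by
    apply le_antisymm
    · rintro _ ⟨_, ⟨a, rfl⟩, rfl⟩
      show ((φ a : A) : G) ∈ commutator G
      rw [hφ, commMap_apply, commutator_def]
      exact Subgroup.commutator_mem_commutator (Subgroup.mem_top _) (Subgroup.mem_top _)
    · apply commutator_le_of_generators K ((A : Set G) ∪ {x})
      · rw [Subgroup.closure_union, Subgroup.closure_eq, ← Subgroup.zpowers_eq_closure, hgen]
      · rintro s (hs | hs) t (ht | ht)
        · have : ⁅s, t⁆ = 1 := by
            rw [commutatorElement_eq_one_iff_mul_comm]; exact comm_of_mem hA hs ht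
          rw [this]; exact K.one_mem
        · rw [Set.mem_singleton_iff] at ht
          rw [ht]; exact hKmem s hs
        · rw [Set.mem_singleton_iff] at hs
          rw [hs, ← commutatorElement_inv]
          exact K.inv_mem (hKmem t ht)
        · rw [Set.mem_singleton_iff] at hs ht
          rw [hs, ht, commutatorElement_self]; exact K.one_mem
  -- counting
  have h1 : Nat.card φ.ker * Nat.card φ.range = Nat.card A := by
    rw [← Subgroup.index_ker, Subgroup.card_mul_index]
  have h2 : Nat.card φ.ker = Nat.card (Subgroup.center G) := by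
    rw [hker]
    exact Nat.card_congr (Subgroup.subgroupOfEquivOfLe hZA).toEquiv
  have h3 : Nat.card A * p = Nat.card G := by rw [← hAi, Subgroup.card_mul_index]
  have h4 : Nat.card (Subgroup.center G) * (Subgroup.center G).index = Nat.card G :=
    Subgroup.card_mul_index _
  rw [← hKeq, hKcard]
  have hpos : 0 < Nat.card (Subgroup.center G) := Nat.card_pos
  apply Nat.eq_of_mul_eq_mul_left hpos
  rw [h4, ← h3, ← h1, h2]; ring

end Cfsg.Agent.Lib.Helper63_PGroup2
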