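import Mathlib
import Cfsg.Prelude.Def_OddOrderLocal
import Cfsg.Agent.Lib.Helper2_OmegaTwo
import Cfsg.Agent.Lib.Helper63_PGroup2
import Cfsg.Agent.Lib.Helper20_PGroupRank3

/-!
# `p`-groups with `|Ω₁| ≤ p²`, `p > 3`, are metacyclic (helper2)

Blackburn's argument: choose `T ≤ R' ∩ Z(R)` of order `p`; `R ⧸ T` is metacyclic by induction
(`Helper2_OmegaTwo`), with `M/T` cyclic normal and `R/M` cyclic.  Either `M` is cyclic, or `R' ≤ T`,
and then the abelian group `R ⧸ T` allows to choose generators explicitly.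
-/

set_option autoImplicit false

namespace Cfsg.Agent.Lib.Helper2_OmegaMeta

open Cfsg Subgroup Cfsg.Agent.Lib.Helper2_OmegaTwo

open scoped commutatorElement

universe u

section general

variable {G : Type*} [Group G]

/-- one-sided criterion for membership in the normalizer, finite case -/
theorem mem_normalizer_of_conj_mem' [Finite G] (H : Subgroup G) (g : G)
    (h : ∀ x ∈ H, g * x * g⁻¹ ∈ H) : g ∈ Subgroup.normalizer (H : Set G) := by
  rw [Subgroup.mem_normalizer_iff_map_conj_eq]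
  have hle : H.map (MulAut.conj g).toMonoidHom ≤ H := by
    rintro _ ⟨x, hx, rfl⟩
    exact h x hx
  apply Subgroup.eq_of_le_of_card_ge hle
  rw [Subgroup.card_map_of_injective (MulAut.conj g).injective]

theorem conj_inv_zpow (g x : G) (k : ℤ) : (g⁻¹ * x * g) ^ k = g⁻¹ * x ^ k * g := by
  have := conj_zpow (a := g⁻¹) (b := x) (i := k)
  simpa using this

/-- A subgroup of prime order is generated by each of its nontrivial elements. -/
theorem zpowers_eq_of_prime_card {p : ℕ} [Fact p.Prime] [Finite G] (T : Subgroup G)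
    (hT : Nat.card T = p) {x : G} (hx : x ∈ T) (hx1 : x ≠ 1) : zpowers x = T := by
  have hpP : p.Prime := Fact.out
  have hle : zpowers x ≤ T := zpowers_le.mpr hx
  apply Subgroup.eq_of_le_of_card_ge hle
  rw [hT, Nat.card_zpowers]
  have h1 : orderOf x ∣ p := by
    have h2 : orderOf (⟨x, hx⟩ : T) ∣ Nat.card T := orderOf_dvd_natCard _
    rwa [Subgroup.orderOf_mk, hT] at h2
  rcases (Nat.dvd_prime hpP).mp h1 with h | h
  · exact absurd (orderOf_eq_one_iff.mp h) hx1
  · exact h.ge

theorem pow_eq_one_of_prime_card {p : ℕ} [Finite G] (T : Subgroup G)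
    (hT : Nat.card T = p) {x : G} (hx : x ∈ T) : x ^ p = 1 := by
  have h2 : orderOf (⟨x, hx⟩ : T) ∣ Nat.card T := orderOf_dvd_natCard _
  rw [Subgroup.orderOf_mk, hT] at h2
  exact orderOf_dvd_iff_pow_eq_one.mp h2

/-- A subgroup of prime order meets any subgroup not containing it trivially. -/
theorem inf_eq_bot_of_prime_card {p : ℕ} [Fact p.Prime] [Finite G] (T : Subgroup G)
    (hT : Nat.card T = p) (H : Subgroup G) (hH : ¬ T ≤ H) : H ⊓ T = ⊥ := by
  rw [Subgroup.eq_bot_iff_forall]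
  intro x hx
  by_contra hx1
  apply hH
  rw [← zpowers_eq_of_prime_card T hT hx.2 hx1]
  exact zpowers_le.mpr hx.1

end general

variable {p : ℕ} [Fact p.Prime]

/-- A nontrivial normal subgroup of a `p`-group contains a central element of order `p`. -/
theorem exists_central_order_p {R : Type*} [Group R] [Finite R] (hR : IsPGroup p R)
    (N : Subgroup R) [N.Normal] (hN : N ≠ ⊥) : ∃ w ∈ N, w ∈ center R ∧ orderOf w = p := by
  have hpP : p.Prime := Fact.out
  obtain ⟨z, hzT, hzc, hz1⟩ := Cfsg.Agent.Lib.Helper32_PGroup.exists_mem_center_of_normal hR N hN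
  obtain ⟨k, hk⟩ := hR.exists_orderOf_eq_pow z
  have hk0 : k ≠ 0 := by
    rintro rfl
    rw [pow_zero, orderOf_eq_one_iff] at hk
    exact hz1 hk
  refine ⟨z ^ (p ^ (k - 1)), N.pow_mem hzT _, (center R).pow_mem hzc _, ?_⟩
  have h1 : orderOf z = p ^ (k - 1) * p := by rw [hk, ← pow_succ]; congr 1; omega
  rw [orderOf_pow' _ (pow_ne_zero _ hpP.ne_zero), h1, Nat.gcd_mul_right_left,
    Nat.mul_div_cancel_left _ (pow_pos hpP.pos _)]

section blackburn

variable {R : Type*} [Group R] [Finite R]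

omit [Finite R] in
/-- Elements of `R` in terms of generators modulo `T`. -/
theorem exists_lift (T : Subgroup R) [T.Normal] (a b : R)
    (hgen : ∀ y : R ⧸ T, ∃ i j : ℤ, y = (b : R ⧸ T) ^ j * (a : R ⧸ T) ^ i) (x : R) :
    ∃ i j : ℤ, ∃ t ∈ T, x = b ^ j * a ^ i * t := by
  obtain ⟨i, j, hij⟩ := hgen (x : R ⧸ T)
  refine ⟨i, j, (b ^ j * a ^ i)⁻¹ * x, ?_, by group⟩
  apply QuotientGroup.eq.mp
  rw [hij]
  simp

/-- **Blackburn's lemma** (one step): if `R ⧸ T` is metacyclic with cyclic normal subgroup `⟨aT⟩`,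
`⟨a⟩ ∩ T = 1`, and `T ≤ R'` unless `R' = 1`, then `R' ≤ T`. -/
theorem commutator_le_of_quotient_metacyclic (hR : IsPGroup p R)
    (T : Subgroup R) [T.Normal] (hT : Nat.card T = p) (hTc : T ≤ center R)
    (hTD : commutator R ≠ ⊥ → T ≤ commutator R) (a b : R)
    (hgen : ∀ y : R ⧸ T, ∃ i j : ℤ, y = (b : R ⧸ T) ^ j * (a : R ⧸ T) ^ i)
    (hconj : (b : R ⧸ T)⁻¹ * (a : R ⧸ T) * (b : R ⧸ T) ∈ zpowers (a : R ⧸ T))
    (hdisj : zpowers a ⊓ T = ⊥) : commutator R ≤ T := by
  have hpP : p.Prime := Fact.out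
  by_cases hD0 : commutator R = ⊥
  · rw [hD0]; exact bot_le
  have hTD' := hTD hD0
  obtain ⟨r, hr⟩ := Subgroup.mem_zpowers_iff.mp hconj
  have ht₁ : (a ^ r)⁻¹ * (b⁻¹ * a * b) ∈ T := by
    apply QuotientGroup.eq.mp
    simpa using hr
  obtain ⟨t₁, ht₁def⟩ : ∃ t₁ : R, t₁ = (a ^ r)⁻¹ * (b⁻¹ * a * b) := ⟨_, rfl⟩
  rw [← ht₁def] at ht₁
  have hab : b⁻¹ * a * b = a ^ r * t₁ := by rw [ht₁def]; group
  have ht₁c : ∀ g : R, g * t₁ = t₁ * g := fun g => Subgroup.mem_center_iff.mp (hTc ht₁) g
  have ht₁p : t₁ ^ p = 1 := pow_eq_one_of_prime_card T hT ht₁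
  obtain ⟨c, hc⟩ : ∃ c : R, c = a ^ (r - 1) * t₁ := ⟨_, rfl⟩
  have hcab : c = a⁻¹ * (b⁻¹ * a * b) := by rw [hab, hc, zpow_sub_one]; group
  have hcomm_at : Commute (a ^ r) t₁ := (ht₁c (a ^ r))
  have hcomm_at' : Commute (a ^ (r - 1)) t₁ := (ht₁c (a ^ (r - 1)))
  have hac : Commute a c := by
    rw [hc]
    exact ((Commute.refl a).zpow_right _).mul_right (ht₁c a)
  have hbc : b⁻¹ * c * b = c ^ r := by
    have h1 : b⁻¹ * c * b = (b⁻¹ * a * b) ^ (r - 1) * (b⁻¹ * t₁ * b) := by
      rw [conj_inv_zpow, hc]; group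
    have h2 : b⁻¹ * t₁ * b = t₁ := by rw [mul_assoc, ← ht₁c b, inv_mul_cancel_left]
    rw [h1, h2, hab, hcomm_at.mul_zpow, hc, hcomm_at'.mul_zpow, ← zpow_mul, ← zpow_mul, mul_assoc,
      ← zpow_add_one, mul_comm r (r - 1)]
    congr 2
    ring
  set D : Subgroup R := zpowers c with hDdef
  -- generation
  have hgenR : closure (({a, b} : Set R) ∪ (T : Set R)) = ⊤ := by
    rw [eq_top_iff]
    intro x _
    obtain ⟨i, j, t, ht, rfl⟩ := exists_lift T a b hgen x
    have ha' : a ∈ closure (({a, b} : Set R) ∪ (T : Set R)) :=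
      Subgroup.subset_closure (Or.inl (by simp))
    have hb' : b ∈ closure (({a, b} : Set R) ∪ (T : Set R)) :=
      Subgroup.subset_closure (Or.inl (by simp))
    have ht' : t ∈ closure (({a, b} : Set R) ∪ (T : Set R)) :=
      Subgroup.subset_closure (Or.inr ht)
    exact mul_mem (mul_mem (zpow_mem hb' j) (zpow_mem ha' i)) ht'
  -- D is normal
  have hDn : D.Normal := by
    rw [← Subgroup.normalizer_eq_top_iff, eq_top_iff, ← hgenR, closure_le]
    rintro s (hs | hs)
    · rcases hs with rfl | hs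
      · apply mem_normalizer_of_conj_mem'
        intro x hx
        obtain ⟨k, rfl⟩ := Subgroup.mem_zpowers_iff.mp hx
        have : s * c ^ k * s⁻¹ = c ^ k := by
          rw [(hac.zpow_right k).eq, mul_inv_cancel_right]
        rw [this]
        exact zpow_mem (mem_zpowers c) k
      · rw [Set.mem_singleton_iff] at hs
        subst hs
        have h1 : s⁻¹ ∈ Subgroup.normalizer (D : Set R) := by
          apply mem_normalizer_of_conj_mem'
          intro x hx
          obtain ⟨k, rfl⟩ := Subgroup.mem_zpowers_iff.mp hx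
          have : s⁻¹ * c ^ k * s⁻¹⁻¹ = (c ^ r) ^ k := by
            rw [inv_inv, ← conj_inv_zpow, hbc]
          rw [this]
          exact zpow_mem (zpow_mem (mem_zpowers c) r) k
        have := inv_mem h1
        rwa [inv_inv] at this
    · apply mem_normalizer_of_conj_mem'
      intro x hx
      have hsc := Subgroup.mem_center_iff.mp (hTc hs) x
      rw [← hsc, mul_inv_cancel_right]
      exact hx
  -- R' ≤ D
  have hcD : ⁅a, b⁆ ∈ D := by
    have h1 : ⁅a, b⁆ = (b * a) * c * (b * a)⁻¹ := by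
      rw [hcab, commutatorElement_def]; group
    rw [h1]
    exact hDn.conj_mem c (mem_zpowers c) _
  have hcentral : ∀ s ∈ T, ∀ g : R, ⁅s, g⁆ = 1 ∧ ⁅g, s⁆ = 1 := by
    intro s hs g
    have hsc := Subgroup.mem_center_iff.mp (hTc hs) g
    constructor
    · rw [commutatorElement_eq_one_iff_mul_comm]; exact hsc.symm
    · rw [commutatorElement_eq_one_iff_mul_comm]; exact hsc
  have hder : commutator R ≤ D := by
    apply Cfsg.Agent.Lib.Helper63_PGroup2.commutator_le_of_generators D _ hgenR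
    rintro s (hs | hs) t (ht | ht)
    · rcases hs with rfl | hs <;> rcases ht with rfl | ht
      · rw [commutatorElement_self]; exact D.one_mem
      · rw [Set.mem_singleton_iff] at ht; subst ht; exact hcD
      · rw [Set.mem_singleton_iff] at hs; subst hs
        rw [← commutatorElement_inv]; exact D.inv_mem hcD
      · rw [Set.mem_singleton_iff] at hs ht; subst hs; subst ht
        rw [commutatorElement_self]; exact D.one_mem
    · rw [(hcentral t ht s).2]; exact D.one_mem
    · rw [(hcentral s hs t).1]; exact D.one_mem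
    · rw [(hcentral s hs t).1]; exact D.one_mem
  have hTD'' : T ≤ D := hTD'.trans hder
  -- a nontrivial element of T
  have hTne : T ≠ ⊥ := by
    intro h
    rw [h, Subgroup.card_bot] at hT
    exact hpP.one_lt.ne hT
  obtain ⟨w, hwT', hw1'⟩ := (T.bot_or_exists_ne_one).resolve_left hTne
  have hwD : w ∈ zpowers c := hTD'' hwT'
  obtain ⟨k, hk⟩ := (mem_powers_iff_mem_zpowers.mpr hwD)
  have hk' : c ^ k = w := hk
  by_cases hpk : p ∣ k
  · exfalso
    obtain ⟨k', rfl⟩ := hpk
    have hcp : c ^ p = a ^ ((r - 1) * p) := by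
      rw [hc, hcomm_at'.mul_pow, ht₁p, mul_one, zpow_mul, zpow_natCast]
    have h1 : w ∈ zpowers a := by
      rw [← hk', pow_mul, hcp]
      exact pow_mem (zpow_mem (mem_zpowers a) _) _
    have h2 : w ∈ zpowers a ⊓ T := ⟨h1, hwT'⟩
    rw [hdisj] at h2
    exact hw1' (Subgroup.mem_bot.mp h2)
  · obtain ⟨m, hm⟩ := hR.exists_orderOf_eq_pow c
    have hcop : Nat.Coprime k (orderOf c) := by
      rw [hm]
      exact Nat.Coprime.pow_right _ ((Nat.Prime.coprime_iff_not_dvd hpP).mpr hpk).symm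
    obtain ⟨m', hm'⟩ := exists_pow_eq_self_of_coprime hcop
    have hcT : c ∈ T := by
      rw [← hm', hk']
      exact pow_mem hwT' _
    exact hder.trans (zpowers_le.mpr hcT)

end blackburn

section classtwo

variable {R : Type u} [Group R] [Finite R]

/-- The case `R' ≤ T`: with generators `a, b` of `R` modulo `T` such that the order of `bT` divides
that of `aT`, the group `R` is metacyclic. -/
theorem isMetacyclic_of_commutator_le (hR : IsPGroup p R)
    (hO : Nat.card (omega p R) ≤ p ^ 2) (T : Subgroup R) [T.Normal] (hT : Nat.card T = p)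
    (hder : commutator R ≤ T) (a b : R)
    (hgen : ∀ y : R ⧸ T, ∃ i j : ℤ, y = (b : R ⧸ T) ^ j * (a : R ⧸ T) ^ i)
    (hord : orderOf (b : R ⧸ T) ∣ orderOf (a : R ⧸ T)) : IsMetacyclic R := by
  have hpP : p.Prime := Fact.out
  have hmc : IsMulCommutative (R ⧸ T) :=
    Subgroup.Normal.quotient_commutative_iff_commutator_le.mpr hder
  have hcomm : ∀ x y : R ⧸ T, x * y = y * x := fun x y => hmc.is_comm.comm x y
  have hnormal : ∀ N : Subgroup R, T ≤ N → N.Normal := fun N h =>
    Subgroup.Normal.of_commutator_le R (hder.trans h)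
  have hTpow : ∀ t ∈ T, t ^ p = 1 := fun t ht => pow_eq_one_of_prime_card T hT ht
  by_cases hTa : T ≤ zpowers a
  · -- `⟨a⟩` is normal with cyclic quotient
    have hNn : (zpowers a).Normal := hnormal _ hTa
    refine ⟨zpowers a, hNn, inferInstance, ?_⟩
    refine ⟨⟨((b : R) : R ⧸ zpowers a), fun y => ?_⟩⟩
    induction y using QuotientGroup.induction_on with
    | H x =>
      obtain ⟨i, j, t, ht, rfl⟩ := exists_lift T a b hgen x
      refine ⟨j, ?_⟩
      show ((b : R) : R ⧸ zpowers a) ^ j = _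
      have h1 : a ^ i * t ∈ zpowers a := mul_mem (zpow_mem (mem_zpowers a) i) (hTa ht)
      have h2 : ((a ^ i * t : R) : R ⧸ zpowers a) = 1 := (QuotientGroup.eq_one_iff _).mpr h1
      rw [mul_assoc, QuotientGroup.mk_mul, h2, mul_one, QuotientGroup.mk_zpow]
  have hdisj : zpowers a ⊓ T = ⊥ := inf_eq_bot_of_prime_card T hT _ hTa
  set M : Subgroup R := zpowers a ⊔ T with hMdef
  have hTM : T ≤ M := le_sup_right
  have haM : zpowers a ≤ M := le_sup_left
  have hMn : M.Normal := hnormal M hTM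
  set e : ℕ := orderOf (a : R ⧸ T) with he
  have he0 : 0 < e := orderOf_pos _
  set n : ℕ := orderOf ((b : R) : R ⧸ M) with hn
  have hbn : b ^ n ∈ M := by
    apply (QuotientGroup.eq_one_iff _).mp
    rw [QuotientGroup.mk_pow, hn]
    exact pow_orderOf_eq_one _
  obtain ⟨y, hy, t₂, ht₂, hyt⟩ := Subgroup.mem_sup_of_normal_right.mp hbn
  obtain ⟨i, rfl⟩ := Subgroup.mem_zpowers_iff.mp hy
  have hQ1 : (b : R ⧸ T) ^ n = (a : R ⧸ T) ^ i := by
    have h1 : ((b ^ n : R) : R ⧸ T) = ((a ^ i * t₂ : R) : R ⧸ T) := by rw [hyt]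
    rw [QuotientGroup.mk_pow, QuotientGroup.mk_mul, (QuotientGroup.eq_one_iff t₂).mpr ht₂,
      mul_one, QuotientGroup.mk_zpow] at h1
    exact h1
  have hbe : (b : R ⧸ T) ^ e = 1 := orderOf_dvd_iff_pow_eq_one.mp hord
  have hne : n ∣ e := by
    rw [hn]
    apply orderOf_dvd_of_pow_eq_one
    rw [← QuotientGroup.mk_pow]
    apply (QuotientGroup.eq_one_iff _).mpr
    apply hTM
    apply (QuotientGroup.eq_one_iff _).mp
    rw [QuotientGroup.mk_pow]
    exact hbe
  obtain ⟨f, hf⟩ := hne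
  have hf0 : f ≠ 0 := by
    rintro rfl
    rw [mul_zero] at hf
    omega
  have h2 : (a : R ⧸ T) ^ (i * (f : ℤ)) = 1 := by
    rw [zpow_mul, ← hQ1, zpow_natCast, ← pow_mul, ← hf]
    exact hbe
  have h3 : (e : ℤ) ∣ i * (f : ℤ) := orderOf_dvd_iff_zpow_eq_one.mpr h2
  have h4 : (n : ℤ) ∣ i := by
    rw [hf] at h3
    push_cast at h3
    exact (mul_dvd_mul_iff_right (by exact_mod_cast hf0)).mp h3
  obtain ⟨l, hl⟩ := h4
  set b' : R := b * a ^ (-l) with hb'
  have hb'Q : ((b' : R) : R ⧸ T) = (b : R ⧸ T) * (a : R ⧸ T) ^ (-l) := by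
    rw [hb', QuotientGroup.mk_mul, QuotientGroup.mk_zpow]
  have hb'Qn : ((b' : R) : R ⧸ T) ^ n = 1 := by
    have hc : Commute (b : R ⧸ T) ((a : R ⧸ T) ^ (-l)) := hcomm _ _
    rw [hb'Q, hc.mul_pow, hQ1, ← zpow_natCast, ← zpow_mul, ← zpow_add, hl]
    have : (n : ℤ) * l + -l * (n : ℤ) = 0 := by ring
    rw [this, zpow_zero]
  have hb'T : b' ^ n ∈ T := by
    apply (QuotientGroup.eq_one_iff _).mp
    rw [QuotientGroup.mk_pow]
    exact hb'Qn
  have hb'M : ((b' : R) : R ⧸ M) = ((b : R) : R ⧸ M) := by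
    rw [hb', QuotientGroup.mk_mul]
    have : ((a ^ (-l) : R) : R ⧸ M) = 1 :=
      (QuotientGroup.eq_one_iff _).mpr (haM (zpow_mem (mem_zpowers a) _))
    rw [this, mul_one]
  have hn' : orderOf ((b' : R) : R ⧸ M) = n := by rw [hb'M]
  have hgen' : ∀ x : R, ∃ i j : ℤ, ∃ t ∈ T, x = b' ^ j * a ^ i * t := by
    apply exists_lift
    intro y
    obtain ⟨i', j', rfl⟩ := hgen y
    refine ⟨l * j' + i', j', ?_⟩
    have hc : Commute (b : R ⧸ T) ((a : R ⧸ T) ^ (-l)) := hcomm _ _
    rw [hb'Q, hc.mul_zpow, ← zpow_mul, mul_assoc, ← zpow_add]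
    congr 2
    ring
  by_cases hb'1 : b' ^ n = 1
  · by_cases hn1 : n = 1
    · -- `R ⧸ T` is cyclic
      have hb'one : b' = 1 := by rwa [hn1, pow_one] at hb'1
      refine ⟨T, inferInstance, ?_, ?_⟩
      · have : Fact (Nat.card T).Prime := ⟨hT ▸ hpP⟩
        exact isCyclic_of_prime_card rfl
      · refine ⟨⟨(a : R ⧸ T), fun y => ?_⟩⟩
        induction y using QuotientGroup.induction_on with
        | H x =>
          obtain ⟨i', j', t, ht, rfl⟩ := hgen' x
          refine ⟨i', ?_⟩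
          show ((a : R) : R ⧸ T) ^ i' = _
          rw [hb'one, one_zpow, one_mul, QuotientGroup.mk_mul, (QuotientGroup.eq_one_iff t).mpr ht,
            mul_one, QuotientGroup.mk_zpow]
    · exfalso
      -- `n` is a nontrivial power of `p`
      obtain ⟨α, hα⟩ := (hR.to_quotient T).exists_orderOf_eq_pow (a : R ⧸ T)
      have hne : n ∣ p ^ α := by rw [← hα, ← he, hf]; exact dvd_mul_right _ _
      obtain ⟨β, -, hβ⟩ := (Nat.dvd_prime_pow hpP).mp hne
      have hβ0 : β ≠ 0 := by
        rintro rfl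
        exact hn1 (by rw [hβ, pow_zero])
      have hpn : p ∣ n := by rw [hβ]; exact dvd_pow_self p hβ0
      have hpe : p ∣ e := by rw [hf]; exact hpn.mul_right f
      have hn0 : 0 < n := by rw [hβ]; exact pow_pos hpP.pos _
      set g : R := b' ^ (n / p) with hg
      have hgp : g ^ p = 1 := by rw [hg, ← pow_mul, Nat.div_mul_cancel hpn, hb'1]
      have hgM : g ∉ M := by
        intro hgM
        have h5 : ((b' : R) : R ⧸ M) ^ (n / p) = 1 := by
          rw [← QuotientGroup.mk_pow]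
          exact (QuotientGroup.eq_one_iff _).mpr hgM
        have h6 : n / p ≠ 0 := by
          have := Nat.div_pos (Nat.le_of_dvd hn0 hpn) hpP.pos
          omega
        have h7 : n / p < orderOf ((b' : R) : R ⧸ M) := by
          rw [hn']
          exact Nat.div_lt_self hn0 hpP.one_lt
        exact pow_ne_one_of_lt_orderOf h6 h7 h5
      -- the order of `a`
      have hae : orderOf a = e := by
        apply Nat.dvd_antisymm
        · apply orderOf_dvd_of_pow_eq_one
          have h5 : a ^ e ∈ zpowers a ⊓ T := by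
            refine ⟨pow_mem (mem_zpowers a) _, ?_⟩
            apply (QuotientGroup.eq_one_iff _).mp
            rw [QuotientGroup.mk_pow, he]
            exact pow_orderOf_eq_one _
          rw [hdisj] at h5
          exact Subgroup.mem_bot.mp h5
        · exact orderOf_map_dvd (QuotientGroup.mk' T) a
      set u : R := a ^ (e / p) with hu
      have he0' : e / p ≠ 0 := by
        have := Nat.div_pos (Nat.le_of_dvd he0 hpe) hpP.pos
        omega
      have huo : orderOf u = p := by
        rw [hu, orderOf_pow_of_dvd he0' (by rw [hae]; exact Nat.div_dvd_of_dvd hpe), hae,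
          Nat.div_div_self hpe he0.ne']
      have hu1 : u ≠ 1 := by
        intro h
        rw [h, orderOf_one] at huo
        exact hpP.one_lt.ne huo
      have huT : u ∉ T := by
        intro huT
        have h5 : u ∈ zpowers a ⊓ T := ⟨pow_mem (mem_zpowers a) _, huT⟩
        rw [hdisj] at h5
        exact hu1 (Subgroup.mem_bot.mp h5)
      have hE'card : Nat.card ↥(T ⊔ zpowers u) = p * p := by
        rw [Cfsg.Agent.Lib.Helper20_PGroupRank3.card_normal_sup_zpowers T huo huT, hT]
      have hE'le : T ⊔ zpowers u ≤ omega p R := by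
        apply sup_le
        · intro t ht
          exact mem_omega (hTpow t ht)
        · rw [zpowers_le]
          apply mem_omega
          rw [← huo]
          exact pow_orderOf_eq_one u
      have hE'eq : T ⊔ zpowers u = omega p R := by
        apply Subgroup.eq_of_le_of_card_ge hE'le
        rw [hE'card, ← sq]
        exact hO
      have hgO : g ∈ omega p R := mem_omega hgp
      rw [← hE'eq] at hgO
      apply hgM
      have : T ⊔ zpowers u ≤ M := by
        apply sup_le hTM
        rw [zpowers_le]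
        exact haM (pow_mem (mem_zpowers a) _)
      exact this hgO
  · -- `T ≤ ⟨b'⟩`
    have hTb' : T ≤ zpowers b' := by
      rw [← zpowers_eq_of_prime_card T hT hb'T hb'1]
      exact zpowers_le.mpr (pow_mem (mem_zpowers b') _)
    have hNn : (zpowers b').Normal := hnormal _ hTb'
    refine ⟨zpowers b', hNn, inferInstance, ?_⟩
    refine ⟨⟨((a : R) : R ⧸ zpowers b'), fun y => ?_⟩⟩
    induction y using QuotientGroup.induction_on with
    | H x =>
      obtain ⟨i', j', t, ht, rfl⟩ := hgen' x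
      refine ⟨i', ?_⟩
      show ((a : R) : R ⧸ zpowers b') ^ i' = _
      have h1 : ((b' ^ j' : R) : R ⧸ zpowers b') = 1 :=
        (QuotientGroup.eq_one_iff _).mpr (zpow_mem (mem_zpowers b') j')
      have h2 : ((t : R) : R ⧸ zpowers b') = 1 := (QuotientGroup.eq_one_iff _).mpr (hTb' ht)
      rw [QuotientGroup.mk_mul, QuotientGroup.mk_mul, h1, h2, mul_one, one_mul,
        QuotientGroup.mk_zpow]

end classtwo

/-- For `p > 3`, a `p`-group with `|Ω₁| ≤ p²` is metacyclic. -/
theorem isMetacyclic_aux (hp : 3 < p) :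
    ∀ (n : ℕ) (R : Type u) [Group R] [Finite R], Nat.card R = n → IsPGroup p R →
      Nat.card (omega p R) ≤ p ^ 2 → IsMetacyclic R := by
  have hpP : p.Prime := Fact.out
  intro n
  induction n using Nat.strong_induction_on with
  | _ n ih =>
  intro R _ _ hn hR hO
  by_cases hcyc : IsCyclic R
  · refine ⟨⊤, inferInstance, ?_, ?_⟩
    · exact isCyclic_of_surjective (Subgroup.topEquiv (G := R)).symm.toMonoidHom
        (Subgroup.topEquiv (G := R)).symm.surjective
    · have : Subsingleton (R ⧸ (⊤ : Subgroup R)) := QuotientGroup.subsingleton_quotient_top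
      exact isCyclic_of_subsingleton
  have hnt : Nontrivial R := by
    by_contra h
    rw [not_nontrivial_iff_subsingleton] at h
    exact hcyc isCyclic_of_subsingleton
  -- the choice of `T`
  obtain ⟨w, hwc, hwo, hwD⟩ : ∃ w : R, w ∈ center R ∧ orderOf w = p ∧
      (commutator R ≠ ⊥ → w ∈ commutator R) := by
    by_cases hD0 : commutator R = ⊥
    · have htop : (⊤ : Subgroup R) ≠ ⊥ := top_ne_bot
      obtain ⟨w, -, hwc, hwo⟩ := exists_central_order_p hR ⊤ htop
      exact ⟨w, hwc, hwo, fun h => absurd hD0 h⟩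
    · obtain ⟨w, hwD, hwc, hwo⟩ := exists_central_order_p hR (commutator R) hD0
      exact ⟨w, hwc, hwo, fun _ => hwD⟩
  set T : Subgroup R := zpowers w with hTdef
  have hTc : T ≤ center R := by rw [hTdef, zpowers_le]; exact hwc
  have hTn : T.Normal := Cfsg.Agent.Lib.Helper32_PGroup.normal_of_le_center _ hTc
  have hTcard : Nat.card T = p := by rw [hTdef, Nat.card_zpowers, hwo]
  have hTD : commutator R ≠ ⊥ → T ≤ commutator R := by
    intro h
    rw [hTdef, zpowers_le]
    exact hwD h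
  have hQ := card_omega_quotient_le_of_card hp hR hO T hTcard
  have hQcard : Nat.card (R ⧸ T) < n := by
    have h1 := Cfsg.Agent.Lib.Helper1_Transport.card_quotient_mul_card T
    rw [hTcard, hn] at h1
    have h2 : 0 < Nat.card (R ⧸ T) := Nat.card_pos
    have h3 : 1 < p := hpP.one_lt
    nlinarith
  obtain ⟨Nb, hNbn, hNbc, hQc⟩ := ih _ hQcard (R ⧸ T) rfl (hR.to_quotient T) hQ
  obtain ⟨a', ha'⟩ := hNbc.exists_generator
  obtain ⟨bq, hbq⟩ := hQc.exists_generator
  obtain ⟨b', rfl⟩ := QuotientGroup.mk_surjective bq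
  obtain ⟨a, ha⟩ := QuotientGroup.mk_surjective (a' : R ⧸ T)
  obtain ⟨b, rfl⟩ := QuotientGroup.mk_surjective b'
  have hNb : ∀ y ∈ Nb, ∃ i : ℤ, y = (a : R ⧸ T) ^ i := by
    intro y hy
    obtain ⟨i, hi⟩ := Subgroup.mem_zpowers_iff.mp (ha' ⟨y, hy⟩)
    refine ⟨i, ?_⟩
    have := congrArg Subtype.val hi
    rw [ha]
    simpa using this.symm
  have haNb : (a : R ⧸ T) ∈ Nb := by rw [ha]; exact a'.2
  have hgen : ∀ y : R ⧸ T, ∃ i j : ℤ, y = (b : R ⧸ T) ^ j * (a : R ⧸ T) ^ i := by
    intro y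
    obtain ⟨k, hk⟩ := Subgroup.mem_zpowers_iff.mp (hbq (y : (R ⧸ T) ⧸ Nb))
    have h1 : (((b : R ⧸ T) ^ k : R ⧸ T) : (R ⧸ T) ⧸ Nb) = (y : (R ⧸ T) ⧸ Nb) := by
      rw [QuotientGroup.mk_zpow]; exact hk
    have h2 : ((b : R ⧸ T) ^ k)⁻¹ * y ∈ Nb := QuotientGroup.eq.mp h1
    obtain ⟨i, hi⟩ := hNb _ h2
    refine ⟨i, k, ?_⟩
    rw [← hi]
    group
  have hconj : (b : R ⧸ T)⁻¹ * (a : R ⧸ T) * (b : R ⧸ T) ∈ zpowers (a : R ⧸ T) := by
    have h1 := hNbn.conj_mem _ haNb (b : R ⧸ T)⁻¹
    rw [inv_inv] at h1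
    obtain ⟨i, hi⟩ := hNb _ h1
    rw [hi]
    exact zpow_mem (mem_zpowers _) i
  by_cases hTa : T ≤ zpowers a
  · -- the preimage of `Nb` is `⟨a⟩`
    have hcomap : Nb.comap (QuotientGroup.mk' T) = zpowers a := by
      ext x
      rw [Subgroup.mem_comap]
      constructor
      · intro hx
        obtain ⟨i, hi⟩ := hNb _ hx
        have h1 : (a ^ i)⁻¹ * x ∈ T := by
          apply QuotientGroup.eq.mp
          rw [QuotientGroup.mk_zpow]
          exact hi.symm
        have h2 : x = a ^ i * ((a ^ i)⁻¹ * x) := by group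
        rw [h2]
        exact mul_mem (zpow_mem (mem_zpowers a) i) (hTa h1)
      · intro hx
        obtain ⟨i, rfl⟩ := Subgroup.mem_zpowers_iff.mp hx
        rw [map_zpow]
        exact zpow_mem haNb i
    have hNn : (zpowers a).Normal := by
      rw [← hcomap]
      exact hNbn.comap _
    refine ⟨zpowers a, hNn, inferInstance, ?_⟩
    refine ⟨⟨((b : R) : R ⧸ zpowers a), fun y => ?_⟩⟩
    induction y using QuotientGroup.induction_on with
    | H x =>
      obtain ⟨i, j, t, ht, rfl⟩ := exists_lift T a b hgen x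
      refine ⟨j, ?_⟩
      show ((b : R) : R ⧸ zpowers a) ^ j = _
      have h1 : a ^ i * t ∈ zpowers a := mul_mem (zpow_mem (mem_zpowers a) i) (hTa ht)
      have h2 : ((a ^ i * t : R) : R ⧸ zpowers a) = 1 := (QuotientGroup.eq_one_iff _).mpr h1
      rw [mul_assoc, QuotientGroup.mk_mul, h2, mul_one, QuotientGroup.mk_zpow]
  have hdisj : zpowers a ⊓ T = ⊥ := inf_eq_bot_of_prime_card T hTcard _ hTa
  have hder : commutator R ≤ T :=
    commutator_le_of_quotient_metacyclic hR T hTcard hTc hTD a b hgen hconj hdisj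
  have hmc : IsMulCommutative (R ⧸ T) :=
    Subgroup.Normal.quotient_commutative_iff_commutator_le.mpr hder
  have hcomm : ∀ x y : R ⧸ T, x * y = y * x := fun x y => hmc.is_comm.comm x y
  -- compare the orders of `aT` and `bT`
  obtain ⟨α, hα⟩ := (hR.to_quotient T).exists_orderOf_eq_pow (a : R ⧸ T)
  obtain ⟨β, hβ⟩ := (hR.to_quotient T).exists_orderOf_eq_pow (b : R ⧸ T)
  rcases le_total β α with hle | hle
  · apply isMetacyclic_of_commutator_le hR hO T hTcard hder a b hgen
    rw [hα, hβ]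
    exact pow_dvd_pow p hle
  · apply isMetacyclic_of_commutator_le hR hO T hTcard hder b a
    · intro y
      obtain ⟨i, j, rfl⟩ := hgen y
      exact ⟨j, i, hcomm _ _⟩
    · rw [hα, hβ]
      exact pow_dvd_pow p hle

theorem isMetacyclic_of_card_omega_le {R : Type u} [Group R] [Finite R] (hp : 3 < p)
    (hR : IsPGroup p R) (hO : Nat.card (omega p R) ≤ p ^ 2) : IsMetacyclic R :=
  isMetacyclic_aux hp (Nat.card R) R rfl hR hO

end Cfsg.Agent.Lib.Helper2_OmegaMeta
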