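import Mathlib

set_option autoImplicit false

/-!
# Frobenius' normal p-complement theorem

`FrobHyp p G`: every `p'`-element of `N_G(Q)` centralizes `Q`, for every `p`-subgroup `Q`.
Main results:
* `fusion`: under `FrobHyp`, two elements of a Sylow `p`-subgroup `P` conjugate in `G` are
  conjugate in `P`;
* `hasNPC_of_frobHyp`: under `FrobHyp`, `G` has a normal `p`-complement (`HasNPC p G`).
-/

namespace Cfsg.Agent.Lib.Helper35_FrobeniusNPC

open scoped Pointwise commutatorElement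
open Subgroup

variable {G : Type*} [Group G]

/-- every `p'`-element of the normalizer of a `p`-subgroup centralizes it -/
def FrobHyp (p : ℕ) (G : Type*) [Group G] : Prop :=
  ∀ Q : Subgroup G, IsPGroup p Q → ∀ g ∈ normalizer (Q : Set G), (orderOf g).Coprime p →
    g ∈ centralizer (Q : Set G)

/-- a normal `p`-complement exists (numerical form) -/
def HasNPC (p : ℕ) (G : Type*) [Group G] : Prop :=
  ∃ K : Subgroup G, K.Normal ∧ (Nat.card K).Coprime p ∧ ∃ n : ℕ, K.index = p ^ n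

theorem mem_conj_smul {g x : G} {H : Subgroup G} :
    x ∈ MulAut.conj g • H ↔ g⁻¹ * x * g ∈ H := by
  rw [Subgroup.mem_pointwise_smul_iff_inv_smul_mem, MulAut.smul_def, ← map_inv, MulAut.conj_apply,
    inv_inv]

theorem conj_smul_le_conj_smul {g : G} {H K : Subgroup G} (h : H ≤ K) :
    MulAut.conj g • H ≤ MulAut.conj g • K := by
  intro x hx
  rw [mem_conj_smul] at hx ⊢
  exact h hx

theorem centralizer_anti {H K : Subgroup G} (h : H ≤ K) :
    centralizer (K : Set G) ≤ centralizer (H : Set G) :=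
  Subgroup.centralizer_le h

section finite

variable [Finite G] {p : ℕ} [hp : Fact p.Prime]

/-- Under `FrobHyp`, `N(D)/C(D)` is a `p`-group. -/
theorem isPGroup_quot (hF : FrobHyp p G) (D : Subgroup G) (hD : IsPGroup p D) :
    IsPGroup p (↥(normalizer (D : Set G)) ⧸ (centralizer (D : Set G)).subgroupOf (normalizer (D : Set G))) := by
  intro q
  obtain ⟨n, rfl⟩ := QuotientGroup.mk_surjective q
  have ho : orderOf n ≠ 0 := (orderOf_pos n).ne'
  obtain ⟨k, m, hm, hkm⟩ := Nat.exists_eq_pow_mul_and_not_dvd ho p hp.out.ne_one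
  refine ⟨k, ?_⟩
  rw [← QuotientGroup.mk_pow, QuotientGroup.eq_one_iff, mem_subgroupOf]
  apply hF D hD _ (n ^ p ^ k).2
  -- the order of n^(p^k) divides m
  have h1 : ((n ^ p ^ k : ↥(normalizer (D : Set G))) : G) ^ m = 1 := by
    rw [← Subgroup.coe_pow, ← pow_mul, ← hkm, pow_orderOf_eq_one]; rfl
  have h2 : orderOf ((n ^ p ^ k : ↥(normalizer (D : Set G))) : G) ∣ m := orderOf_dvd_of_pow_eq_one h1
  have h3 : m.Coprime p := ((Nat.Prime.coprime_iff_not_dvd hp.out).mpr hm).symm
  exact Nat.Coprime.coprime_dvd_left h2 h3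

/-- Under `FrobHyp`, a Sylow `p`-subgroup of `N(D)` together with `C(D)` generates `N(D)`. -/
theorem sylow_sup_eq_top (hF : FrobHyp p G) (D : Subgroup G) (hD : IsPGroup p D)
    (S : Sylow p ↥(normalizer (D : Set G))) :
    (S : Subgroup ↥(normalizer (D : Set G))) ⊔
      (centralizer (D : Set G)).subgroupOf (normalizer (D : Set G)) = ⊤ := by
  set C' := (centralizer (D : Set G)).subgroupOf (normalizer (D : Set G)) with hC'
  have hq := isPGroup_quot hF D hD
  obtain ⟨k, hk⟩ := hq.exists_card_eq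
  have h1 : ((S : Subgroup ↥(normalizer (D : Set G))) ⊔ C').index ∣ C'.index :=
    Subgroup.index_dvd_of_le le_sup_right
  have h2 : ((S : Subgroup ↥(normalizer (D : Set G))) ⊔ C').index ∣ (S : Subgroup ↥(normalizer (D : Set G))).index :=
    Subgroup.index_dvd_of_le le_sup_left
  rw [Subgroup.index_eq_card C', hk] at h1
  obtain ⟨j, -, hj⟩ := (Nat.dvd_prime_pow hp.out).mp h1
  rw [← Subgroup.index_eq_one, hj]
  rcases Nat.eq_zero_or_pos j with h0 | hpos
  · rw [h0, pow_zero]
  · exfalso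
    apply S.not_dvd_index
    rw [hj] at h2
    exact (dvd_pow_self p hpos.ne').trans h2

/-- Under `FrobHyp`, `N(D) = S C(D)` for a Sylow `p`-subgroup `S` of `N(D)`. -/
theorem exists_mul_eq (hF : FrobHyp p G) (D : Subgroup G) (hD : IsPGroup p D)
    (S : Sylow p ↥(normalizer (D : Set G))) (n : ↥(normalizer (D : Set G))) :
    ∃ s ∈ (S : Subgroup ↥(normalizer (D : Set G))), ∃ c : ↥(normalizer (D : Set G)),
      (c : G) ∈ centralizer (D : Set G) ∧ n = s * c := by
  have h := sylow_sup_eq_top hF D hD S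
  have hn : n ∈ (((S : Subgroup ↥(normalizer (D : Set G))) ⊔
      (centralizer (D : Set G)).subgroupOf (normalizer (D : Set G)) : Subgroup _) : Set _) := by
    rw [h]; trivial
  rw [Subgroup.mul_normal, Set.mem_mul] at hn
  obtain ⟨s, hs, c, hc, rfl⟩ := hn
  exact ⟨s, hs, c, mem_subgroupOf.mp hc, rfl⟩

/-- Under `FrobHyp`, any `p`-subgroup of `N(D)` is contained in a `C(D)`-conjugate of a given
Sylow `p`-subgroup of `N(D)`. -/
theorem exists_conj_le (hF : FrobHyp p G) (D : Subgroup G) (hD : IsPGroup p D)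
    (S : Sylow p ↥(normalizer (D : Set G))) (R : Subgroup G) (hR : IsPGroup p R)
    (hRN : R ≤ normalizer (D : Set G)) :
    ∃ c ∈ centralizer (D : Set G),
      R ≤ MulAut.conj c • ((S : Subgroup ↥(normalizer (D : Set G))).map (normalizer (D : Set G)).subtype) := by
  have hR' : IsPGroup p (R.subgroupOf (normalizer (D : Set G))) :=
    hR.comap_of_injective _ (Subgroup.subtype_injective _)
  obtain ⟨S'', hS''⟩ := hR'.exists_le_sylow
  obtain ⟨n, hn⟩ := MulAction.exists_smul_eq ↥(normalizer (D : Set G)) S S''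
  obtain ⟨s, hs, c, hc, hsc⟩ := exists_mul_eq hF D hD S n⁻¹
  -- n = c⁻¹ * s⁻¹
  have hn' : n = c⁻¹ * s⁻¹ := by
    rw [← mul_inv_rev, ← hsc, inv_inv]
  have hsS : s⁻¹ • S = S := by
    rw [Sylow.smul_eq_iff_mem_normalizer]
    exact Subgroup.le_normalizer (inv_mem hs)
  have hS''c : S'' = c⁻¹ • S := by
    rw [← hn, hn', mul_smul, hsS]
  refine ⟨(c : G)⁻¹, inv_mem hc, ?_⟩
  intro r hr
  have h1 : (⟨r, hRN hr⟩ : ↥(normalizer (D : Set G))) ∈ (S'' : Subgroup _) :=
    hS'' (mem_subgroupOf.mpr hr)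
  rw [hS''c, Sylow.coe_subgroup_smul, mem_conj_smul] at h1
  rw [mem_conj_smul, Subgroup.mem_map]
  exact ⟨_, h1, by simp⟩

omit hp in
/-- normalizers grow in `p`-groups -/
theorem exists_mem_normalizer_not_mem [Fact p.Prime] {P D : Subgroup G} (hP : IsPGroup p P) (hDP : D ≤ P)
    (hne : D ≠ P) : ∃ x ∈ P, x ∈ normalizer (D : Set G) ∧ x ∉ D := by
  have : Group.IsNilpotent P := hP.isNilpotent
  have hlt : D.subgroupOf P < ⊤ := by
    rw [lt_top_iff_ne_top, Ne, Subgroup.subgroupOf_eq_top]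
    intro h
    exact hne (le_antisymm hDP h)
  have h := Group.normalizerCondition_of_isNilpotent (G := P) _ hlt
  obtain ⟨x, hxN, hxD⟩ := SetLike.exists_of_lt h
  refine ⟨x, x.2, ?_, fun hx => hxD (mem_subgroupOf.mpr hx)⟩
  rw [mem_normalizer_iff] at hxN ⊢
  intro h
  constructor
  · intro hh
    have := (hxN ⟨h, hDP hh⟩).mp (mem_subgroupOf.mpr hh)
    exact mem_subgroupOf.mp this
  · intro hh
    have hhP : h ∈ P := by
      have : h = (x : G)⁻¹ * ((x : G) * h * (x : G)⁻¹) * (x : G) := by group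
      rw [this]
      exact P.mul_mem (P.mul_mem (P.inv_mem x.2) (hDP hh)) x.2
    have := (hxN ⟨h, hhP⟩).mpr (mem_subgroupOf.mpr hh)
    exact mem_subgroupOf.mp this

theorem card_lt_card_of_lt {H K : Subgroup G} (hle : H ≤ K) {x : G} (hxK : x ∈ K) (hxH : x ∉ H) :
    Nat.card H < Nat.card K := by
  by_contra hcon
  push Not at hcon
  have := Subgroup.eq_of_le_of_card_ge hle hcon
  exact hxH (this ▸ hxK)

theorem sylow_card_eq (P Q : Sylow p G) : Nat.card P = Nat.card Q := by
  rw [Sylow.card_eq_multiplicity, Sylow.card_eq_multiplicity]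

omit [Finite G] hp in
theorem sylow_eq_of_le {P Q : Sylow p G} (h : (P : Subgroup G) ≤ Q) : P = Q :=
  Sylow.ext (P.3 Q.2 h).symm

/-- Key lemma: under `FrobHyp`, any two Sylow `p`-subgroups are conjugate by an element
centralizing their intersection. -/
theorem exists_centralizer_conj (hF : FrobHyp p G) :
    ∀ (m : ℕ) (P₁ P₂ : Sylow p G),
      Nat.card P₁ - Nat.card ((P₁ : Subgroup G) ⊓ P₂ : Subgroup G) = m →
      ∃ c ∈ centralizer ((((P₁ : Subgroup G) ⊓ P₂ : Subgroup G)) : Set G), c • P₁ = P₂ := by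
  intro m
  induction m using Nat.strong_induction_on with
  | _ m ih =>
  intro P₁ P₂ hm
  set D : Subgroup G := (P₁ : Subgroup G) ⊓ P₂ with hDdef
  have hD : IsPGroup p D := P₁.2.to_le inf_le_left
  by_cases h1 : D = P₁
  · have hle : (P₁ : Subgroup G) ≤ P₂ := by rw [← h1]; exact inf_le_right
    exact ⟨1, one_mem _, by rw [one_smul]; exact sylow_eq_of_le hle⟩
  have h2 : D ≠ P₂ := by
    intro h2
    have hle : (P₂ : Subgroup G) ≤ P₁ := by rw [← h2]; exact inf_le_left
    have := sylow_eq_of_le hle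
    apply h1
    rw [hDdef, this, inf_idem]
  obtain ⟨x₁, hx₁P, hx₁N, hx₁D⟩ := exists_mem_normalizer_not_mem P₁.2 (inf_le_left : D ≤ P₁) h1
  obtain ⟨x₂, hx₂P, hx₂N, hx₂D⟩ := exists_mem_normalizer_not_mem P₂.2 (inf_le_right : D ≤ P₂) h2
  set N := normalizer (D : Set G) with hN
  have hDN : D ≤ N := Subgroup.le_normalizer
  set R₁ : Subgroup G := (P₁ : Subgroup G) ⊓ N with hR₁
  set R₂ : Subgroup G := (P₂ : Subgroup G) ⊓ N with hR₂
  have hR₁p : IsPGroup p R₁ := P₁.2.to_le inf_le_left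
  have hR₂p : IsPGroup p R₂ := P₂.2.to_le inf_le_left
  have hR₁' : IsPGroup p (R₁.subgroupOf N) :=
    hR₁p.comap_of_injective _ (Subgroup.subtype_injective _)
  obtain ⟨S, hS⟩ := hR₁'.exists_le_sylow
  set SG : Subgroup G := (S : Subgroup ↥N).map N.subtype with hSG
  have hSGp : IsPGroup p SG := S.2.map _
  have hR₁SG : R₁ ≤ SG := by
    intro r hr
    rw [hSG, Subgroup.mem_map]
    exact ⟨⟨r, hr.2⟩, hS (mem_subgroupOf.mpr hr), rfl⟩
  obtain ⟨c, hcC, hcR₂⟩ := exists_conj_le hF D hD S R₂ hR₂p inf_le_right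
  obtain ⟨P₃, hP₃⟩ := hSGp.exists_le_sylow
  -- first induction: P₁ and P₃
  have hle1 : D ≤ (P₁ : Subgroup G) ⊓ P₃ :=
    le_inf inf_le_left ((le_inf inf_le_left hDN : D ≤ R₁).trans (hR₁SG.trans hP₃))
  have hx₁3 : x₁ ∈ (P₁ : Subgroup G) ⊓ P₃ :=
    ⟨hx₁P, hP₃ (hR₁SG ⟨hx₁P, hx₁N⟩)⟩
  have hlt1 := card_lt_card_of_lt hle1 hx₁3 hx₁D
  have hle1' : Nat.card ((P₁ : Subgroup G) ⊓ P₃ : Subgroup G) ≤ Nat.card P₁ :=
    Subgroup.card_le_of_le inf_le_left
  obtain ⟨c₁, hc₁, hc₁P⟩ := ih (Nat.card P₁ - Nat.card ((P₁ : Subgroup G) ⊓ P₃ : Subgroup G))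
    (by omega) P₁ P₃ rfl
  -- second induction: c • P₃ and P₂
  have hcP₃ : ((c • P₃ : Sylow p G) : Subgroup G) = MulAut.conj c • (P₃ : Subgroup G) := rfl
  have hR₂P₃ : R₂ ≤ ((c • P₃ : Sylow p G) : Subgroup G) := by
    rw [hcP₃]
    exact hcR₂.trans (conj_smul_le_conj_smul hP₃)
  have hle2 : D ≤ ((c • P₃ : Sylow p G) : Subgroup G) ⊓ P₂ :=
    le_inf ((le_inf inf_le_right hDN : D ≤ R₂).trans hR₂P₃) inf_le_right
  have hx₂3 : x₂ ∈ ((c • P₃ : Sylow p G) : Subgroup G) ⊓ P₂ :=
    ⟨hR₂P₃ ⟨hx₂P, hx₂N⟩, hx₂P⟩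
  have hlt2 := card_lt_card_of_lt hle2 hx₂3 hx₂D
  have hle2' : Nat.card (((c • P₃ : Sylow p G) : Subgroup G) ⊓ P₂ : Subgroup G) ≤
      Nat.card (c • P₃ : Sylow p G) := Subgroup.card_le_of_le inf_le_left
  have hcard : Nat.card (c • P₃ : Sylow p G) = Nat.card P₁ := sylow_card_eq _ _
  obtain ⟨c₂, hc₂, hc₂P⟩ := ih
    (Nat.card (c • P₃ : Sylow p G) - Nat.card (((c • P₃ : Sylow p G) : Subgroup G) ⊓ P₂ : Subgroup G))
    (by omega) (c • P₃) P₂ rfl
  refine ⟨c₂ * c * c₁, ?_, ?_⟩
  · exact mul_mem (mul_mem (centralizer_anti hle2 hc₂) hcC) (centralizer_anti hle1 hc₁)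
  · rw [mul_smul, mul_smul, hc₁P, hc₂P]

/-- Under `FrobHyp`, a Sylow `p`-subgroup controls its own fusion. -/
theorem fusion (hF : FrobHyp p G) (P : Sylow p G) {x g : G} (hx : x ∈ P)
    (hgx : g * x * g⁻¹ ∈ P) : ∃ y ∈ P, g * x * g⁻¹ = y * x * y⁻¹ := by
  have hxP₁ : x ∈ ((g⁻¹ • P : Sylow p G) : Subgroup G) := by
    rw [Sylow.coe_subgroup_smul, mem_conj_smul, inv_inv]; exact hgx
  obtain ⟨c, hc, hcP⟩ := exists_centralizer_conj hF _ (g⁻¹ • P) P rfl
  have hcx : x * c = c * x := by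
    rw [mem_centralizer_iff] at hc
    exact hc x ⟨hxP₁, hx⟩
  have hn : c * g⁻¹ ∈ normalizer ((P : Subgroup G) : Set G) :=
    Sylow.smul_eq_iff_mem_normalizer.mp (by rw [mul_smul, hcP])
  -- decompose (c g⁻¹)⁻¹ in N(P) = P C(P)
  have hPp : IsPGroup p (P : Subgroup G) := P.2
  obtain ⟨s, hs, z, hz, hsz⟩ := exists_mul_eq hF (P : Subgroup G) hPp
    (P.subtype Subgroup.le_normalizer) ⟨(c * g⁻¹)⁻¹, inv_mem hn⟩
  have hsP : (s : G) ∈ P := by
    have : s ∈ (P : Subgroup G).subgroupOf (normalizer ((P : Subgroup G) : Set G)) := hs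
    exact mem_subgroupOf.mp this
  have hval : (c * g⁻¹)⁻¹ = (s : G) * (z : G) := by
    have := congrArg Subtype.val hsz
    simpa using this
  have hzx : x * (z : G) = (z : G) * x := by
    rw [mem_centralizer_iff] at hz
    exact hz x hx
  refine ⟨s, hsP, ?_⟩
  have hg : g = (s : G) * (z : G) * c := by
    rw [← hval]; group
  calc g * x * g⁻¹ = (s : G) * (z : G) * (c * x) * c⁻¹ * (z : G)⁻¹ * (s : G)⁻¹ := by
        rw [hg]; group
    _ = (s : G) * ((z : G) * x) * (z : G)⁻¹ * (s : G)⁻¹ := by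
        rw [← hcx]; group
    _ = (s : G) * x * (s : G)⁻¹ := by
        rw [← hzx]; group

omit [Finite G] hp in
/-- `FrobHyp` passes to subgroups. -/
theorem frobHyp_subgroup (hF : FrobHyp p G) (M : Subgroup G) : FrobHyp p ↥M := by
  intro Q hQ g hg hgo
  have hQ' : IsPGroup p (Q.map M.subtype) := hQ.map _
  have hgN : (g : G) ∈ normalizer ((Q.map M.subtype : Subgroup G) : Set G) := by
    rw [mem_normalizer_iff] at hg ⊢
    intro h
    constructor
    · rintro ⟨q, hq, rfl⟩
      exact ⟨g * q * g⁻¹, (hg q).mp hq, by simp⟩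
    · rintro ⟨q, hq, hqe⟩
      refine ⟨g⁻¹ * q * g, ?_, ?_⟩
      · refine (hg (g⁻¹ * q * g)).mpr ?_
        simpa [mul_assoc] using hq
      · simp only [Subgroup.subtype_apply, Subgroup.coe_mul, Subgroup.coe_inv]
        simp only [Subgroup.subtype_apply] at hqe
        rw [hqe]; group
  have hgo' : (orderOf (g : G)).Coprime p := by rwa [Subgroup.orderOf_coe]
  have hc := hF _ hQ' _ hgN hgo'
  rw [mem_centralizer_iff] at hc ⊢
  intro q hq
  apply Subtype.ext
  exact hc q ⟨q, hq, rfl⟩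

omit [Finite G] hp in
/-- in a group with a normal subgroup of `p`-power index, every `p'`-element lies in it -/
theorem mem_of_coprime_order (K : Subgroup G) [K.Normal] {j : ℕ} (hK : K.index = p ^ j) {y : G}
    (hy : (orderOf y).Coprime p) : y ∈ K := by
  rw [← QuotientGroup.eq_one_iff]
  have h1 : (y : G ⧸ K) ^ (p ^ j) = 1 := by
    rw [← hK, Subgroup.index_eq_card]
    exact pow_card_eq_one'
  have h2 : (y : G ⧸ K) ^ orderOf y = 1 := by
    rw [← QuotientGroup.mk_pow, pow_orderOf_eq_one]; rfl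
  have h3 : orderOf (y : G ⧸ K) ∣ Nat.gcd (p ^ j) (orderOf y) :=
    Nat.dvd_gcd (orderOf_dvd_of_pow_eq_one h1) (orderOf_dvd_of_pow_eq_one h2)
  have h4 : Nat.gcd (p ^ j) (orderOf y) = 1 := Nat.Coprime.pow_left j hy.symm
  rw [h4, Nat.dvd_one, orderOf_eq_one_iff] at h3
  exact h3

/-- the focal subgroup of a Sylow subgroup is contained in its derived subgroup, under `FrobHyp` -/
theorem focalSubgroup_le_commutator (hF : FrobHyp p G) (P : Sylow p G) :
    (P : Subgroup G).focalSubgroup ≤ ⁅(P : Subgroup G), (P : Subgroup G)⁆ := by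
  rw [Subgroup.focalSubgroup_def, Subgroup.closure_le]
  rintro g ⟨hgP, x, hxP, u, rfl⟩
  -- ⁅x, u⁆ = x * (u * x⁻¹ * u⁻¹)
  have h1 : u * x⁻¹ * u⁻¹ ∈ (P : Subgroup G) := by
    have : u * x⁻¹ * u⁻¹ = x⁻¹ * ⁅x, u⁆ := by rw [commutatorElement_def]; group
    rw [this]
    exact mul_mem (inv_mem hxP) hgP
  obtain ⟨y, hyP, hy⟩ := fusion hF P (inv_mem hxP) h1
  have h2 : ⁅x, u⁆ = ⁅x, y⁆ := by
    rw [commutatorElement_def, commutatorElement_def]
    calc x * u * x⁻¹ * u⁻¹ = x * (u * x⁻¹ * u⁻¹) := by group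
      _ = x * (y * x⁻¹ * y⁻¹) := by rw [hy]
      _ = x * y * x⁻¹ * y⁻¹ := by group
  show ⁅x, u⁆ ∈ ⁅(P : Subgroup G), (P : Subgroup G)⁆
  rw [h2]
  exact Subgroup.commutator_mem_commutator hxP hyP

omit [Finite G] in
theorem commutator_lt_of_ne_bot {P : Subgroup G} [Finite P] (hP : IsPGroup p P) (hne : P ≠ ⊥) :
    ⁅P, P⁆ < P := by
  have : Group.IsNilpotent P := hP.isNilpotent
  have : Nontrivial P := (Subgroup.nontrivial_iff_ne_bot P).mpr hne
  have h := Group.IsSolvable.commutator_lt_top_of_nontrivial P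
  rw [lt_iff_le_and_ne]
  refine ⟨Subgroup.commutator_le.mpr fun g₁ h₁ g₂ h₂ =>
    mul_mem (mul_mem (mul_mem h₁ h₂) (inv_mem h₁)) (inv_mem h₂), ?_⟩
  intro heq
  apply h.ne
  rw [← Subgroup.map_subtype_commutator] at heq
  rw [eq_top_iff]
  intro x _
  have hx : (x : G) ∈ (_root_.commutator P).map P.subtype := by rw [heq]; exact x.2
  obtain ⟨y, hy, hyx⟩ := hx
  have : y = x := Subtype.ext hyx
  rwa [← this]

end finite

section main

universe u

/-- **Frobenius' normal p-complement theorem** (numerical form). -/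
theorem hasNPC_of_frobHyp_aux (p : ℕ) [hp : Fact p.Prime] :
    ∀ (n : ℕ) (G : Type u) [Group G] [Finite G], Nat.card G = n → FrobHyp p G → HasNPC p G := by
  intro n
  induction n using Nat.strong_induction_on with
  | _ n ih =>
  intro G _ _ hn hF
  obtain ⟨P⟩ : Nonempty (Sylow p G) := inferInstance
  by_cases hP : (P : Subgroup G) = ⊥
  · refine ⟨⊤, inferInstance, ?_, 0, by simp⟩
    have h := P.not_dvd_index
    rw [hP, Subgroup.index_bot] at h
    rw [Subgroup.card_top]
    exact ((Nat.Prime.coprime_iff_not_dvd hp.out).mpr h).symm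
  · -- the kernel of the focal transfer
    set M : Subgroup G := (P : Subgroup G).transferFocal.ker with hM
    have hMn : M.Normal := MonoidHom.normal_ker _
    have hquot : IsPGroup p ((P : Subgroup G) ⧸ (P : Subgroup G).focalSubgroupOf) :=
      P.2.to_quotient _
    have hidx : M.index = Nat.card ((P : Subgroup G) ⧸ (P : Subgroup G).focalSubgroupOf) := by
      rw [Subgroup.index_eq_card]
      exact Nat.card_congr
        (Subgroup.transferFocal.quotientKerMulEquivQuotientFocalSubroupOf P).toEquiv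
    obtain ⟨i, hi⟩ := hquot.exists_card_eq
    have hMne : M ≠ ⊤ := by
      intro htop
      rw [htop, Subgroup.index_top] at hidx
      have h1 : (P : Subgroup G).focalSubgroupOf = ⊤ := by
        rw [← Subgroup.index_eq_one, Subgroup.index_eq_card]; exact hidx.symm
      have h2 : (P : Subgroup G).focalSubgroup = P := by
        rw [← Subgroup.map_focalSubgroupOf, h1, ← MonoidHom.range_eq_map, Subgroup.range_subtype]
      have h3 := focalSubgroup_le_commutator hF P
      rw [h2] at h3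
      exact (commutator_lt_of_ne_bot P.2 hP).not_ge h3
    have hcard : Nat.card M < n := by
      rw [← hn]
      have h1 := M.card_mul_index
      have h2 : 1 < M.index := by
        rcases Nat.lt_or_ge 1 M.index with h | h
        · exact h
        · exfalso
          have hpos : 0 < M.index := Nat.pos_of_ne_zero M.index_ne_zero_of_finite
          exact hMne (Subgroup.index_eq_one.mp (by omega))
      nlinarith [Nat.card_pos (α := M)]
    obtain ⟨K₀, hK₀n, hK₀c, j, hK₀i⟩ := ih (Nat.card M) hcard ↥M rfl (frobHyp_subgroup hF M)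
    refine ⟨K₀.map M.subtype, ?_, ?_, j + i, ?_⟩
    · -- normality
      constructor
      rintro k ⟨k₀, hk₀, rfl⟩ g
      have hmem : g * (k₀ : G) * g⁻¹ ∈ M := hMn.conj_mem _ k₀.2 g
      refine ⟨⟨g * (k₀ : G) * g⁻¹, hmem⟩, ?_, rfl⟩
      apply mem_of_coprime_order K₀ hK₀i
      have ho : orderOf (⟨g * (k₀ : G) * g⁻¹, hmem⟩ : ↥M) = orderOf k₀ := by
        rw [← Subgroup.orderOf_coe, ← Subgroup.orderOf_coe]
        have := MulEquiv.orderOf_eq (MulAut.conj g) (k₀ : G)
        rwa [MulAut.conj_apply] at this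
      rw [ho]
      have hdvd : orderOf k₀ ∣ Nat.card K₀ := by
        have := orderOf_dvd_natCard (⟨k₀, hk₀⟩ : K₀)
        rwa [Subgroup.orderOf_mk] at this
      exact Nat.Coprime.coprime_dvd_left hdvd hK₀c
    · rw [Subgroup.card_map_of_injective (Subgroup.subtype_injective M)]
      exact hK₀c
    · rw [Subgroup.index_map_subtype, hK₀i, hidx, hi, pow_add]

theorem hasNPC_of_frobHyp {G : Type u} [Group G] [Finite G] {p : ℕ} [Fact p.Prime]
    (hF : FrobHyp p G) : HasNPC p G :=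
  hasNPC_of_frobHyp_aux p _ G rfl hF

end main

section converse

variable {G : Type*} [Group G] [Finite G] {p : ℕ} [hp : Fact p.Prime]

/-- a normal subgroup of `p'`-order and `p`-power index is a complement to every Sylow
`p`-subgroup -/
theorem isComplement'_of_npc {K : Subgroup G} (hKc : (Nat.card K).Coprime p) {n : ℕ}
    (hKi : K.index = p ^ n) (P : Sylow p G) : K.IsComplement' (P : Subgroup G) := by
  obtain ⟨a, ha⟩ := P.2.exists_card_eq
  have h1 := K.card_mul_index
  have h2 := (P : Subgroup G).card_mul_index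
  rw [hKi] at h1
  rw [ha] at h2
  have hPidx : ((P : Subgroup G).index).Coprime p :=
    ((Nat.Prime.coprime_iff_not_dvd hp.out).mpr P.not_dvd_index).symm
  have hd1 : p ^ a ∣ p ^ n := by
    have : p ^ a ∣ Nat.card K * p ^ n := by rw [h1, ← h2]; exact dvd_mul_right _ _
    exact (Nat.Coprime.pow_left a hKc.symm).dvd_of_dvd_mul_left this
  have hd2 : p ^ n ∣ p ^ a := by
    have : p ^ n ∣ p ^ a * (P : Subgroup G).index := by rw [h2, ← h1]; exact dvd_mul_left _ _
    exact (Nat.Coprime.pow_left n hPidx.symm).dvd_of_dvd_mul_right this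
  have hpa : p ^ a = p ^ n := Nat.dvd_antisymm hd1 hd2
  apply Subgroup.isComplement'_of_coprime
  · rw [ha, hpa]; exact h1
  · rw [ha]; exact Nat.Coprime.pow_right a hKc

theorem hasNPC_of_isComplement' {N : Subgroup G} (hN : N.Normal) (P : Sylow p G)
    (hc : N.IsComplement' (P : Subgroup G)) : HasNPC p G := by
  obtain ⟨a, ha⟩ := P.2.exists_card_eq
  refine ⟨N, hN, ?_, a, ?_⟩
  · have h1 : Nat.card N = (P : Subgroup G).index := by
      have h2 := hc.card_mul_card
      have h3 := (P : Subgroup G).card_mul_index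
      have hpos : 0 < Nat.card (P : Subgroup G) := Nat.card_pos
      have : Nat.card N * Nat.card (P : Subgroup G) = (P : Subgroup G).index * Nat.card (P : Subgroup G) := by
        rw [h2, ← h3, mul_comm]
      exact Nat.eq_of_mul_eq_mul_right hpos this
    rw [h1]
    exact ((Nat.Prime.coprime_iff_not_dvd hp.out).mpr P.not_dvd_index).symm
  · have h2 := hc.card_mul_card
    have h3 := N.card_mul_index
    have hpos : 0 < Nat.card N := Nat.card_pos
    have : Nat.card N * N.index = Nat.card N * Nat.card (P : Subgroup G) := by rw [h3, h2]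
    rw [← ha]
    exact Nat.eq_of_mul_eq_mul_left hpos this

omit [Finite G] hp in
/-- a group with a normal `p`-complement satisfies `FrobHyp` -/
theorem frobHyp_of_hasNPC (h : HasNPC p G) : FrobHyp p G := by
  obtain ⟨K, hKn, hKc, n, hKi⟩ := h
  intro Q hQ g hg hgo
  have hgK : g ∈ K := mem_of_coprime_order K hKi hgo
  rw [mem_centralizer_iff]
  intro x hx
  -- w = g x g⁻¹ x⁻¹ lies in Q ⊓ K
  have hwQ : g * x * g⁻¹ * x⁻¹ ∈ Q :=
    mul_mem ((mem_normalizer_iff.mp hg x).mp hx) (inv_mem hx)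
  have hwK : g * x * g⁻¹ * x⁻¹ ∈ K := by
    have : g * x * g⁻¹ * x⁻¹ = g * (x * g⁻¹ * x⁻¹) := by group
    rw [this]
    exact mul_mem hgK (hKn.conj_mem _ (inv_mem hgK) x)
  have hw1 : g * x * g⁻¹ * x⁻¹ = 1 := by
    obtain ⟨k, hk⟩ := hQ ⟨_, hwQ⟩
    have hk' : (g * x * g⁻¹ * x⁻¹) ^ p ^ k = 1 := by
      have := congrArg Subtype.val hk
      simpa using this
    have hd1 : orderOf (g * x * g⁻¹ * x⁻¹) ∣ p ^ k := orderOf_dvd_of_pow_eq_one hk'
    have hd2 : orderOf (g * x * g⁻¹ * x⁻¹) ∣ Nat.card K := by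
      have := orderOf_dvd_natCard (⟨_, hwK⟩ : K)
      rwa [Subgroup.orderOf_mk] at this
    have hd3 : orderOf (g * x * g⁻¹ * x⁻¹) ∣ Nat.gcd (p ^ k) (Nat.card K) := Nat.dvd_gcd hd1 hd2
    rw [Nat.Coprime.pow_left k hKc.symm, Nat.dvd_one, orderOf_eq_one_iff] at hd3
    exact hd3
  calc x * g = (g * x * g⁻¹ * x⁻¹)⁻¹ * (g * x) := by group
    _ = g * x := by rw [hw1]; group

omit [Finite G] hp in
/-- normal `p`-complements pass to subgroups -/
theorem hasNPC_subgroup [Fact p.Prime] (h : HasNPC p G) (H : Subgroup G) : HasNPC p ↥H := by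
  obtain ⟨K, hKn, hKc, n, hKi⟩ := h
  refine ⟨K.subgroupOf H, Subgroup.normal_subgroupOf, ?_, ?_⟩
  · have hinj : Function.Injective (fun x : K.subgroupOf H => (⟨(x : H), x.2⟩ : K)) := by
      intro x y hxy
      have := congrArg (fun z : K => (z : G)) hxy
      exact Subtype.ext (Subtype.ext this)
    have hdvd : Nat.card (K.subgroupOf H) ∣ Nat.card K := by
      let f : K.subgroupOf H →* K :=
        { toFun := fun x => ⟨(x : H), x.2⟩
          map_one' := rfl
          map_mul' := fun _ _ => rfl }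
      exact Subgroup.card_dvd_of_injective f hinj
    exact Nat.Coprime.coprime_dvd_left hdvd hKc
  · have h1 : (K.subgroupOf H).index ∣ K.index := Subgroup.relIndex_dvd_index_of_normal K H
    rw [hKi] at h1
    obtain ⟨j, -, hj⟩ := (Nat.dvd_prime_pow (Fact.out : p.Prime)).mp h1
    exact ⟨j, hj⟩

omit [Finite G] hp in
theorem mem_normalizer_conj {g a : G} {H : Subgroup G} (hg : g ∈ normalizer (H : Set G)) :
    a * g * a⁻¹ ∈ normalizer ((MulAut.conj a • H : Subgroup G) : Set G) := by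
  rw [mem_normalizer_iff] at hg ⊢
  intro h
  rw [mem_conj_smul, mem_conj_smul, hg (a⁻¹ * h * a)]
  have : a⁻¹ * (a * g * a⁻¹ * h * (a * g * a⁻¹)⁻¹) * a = g * (a⁻¹ * h * a) * g⁻¹ := by group
  rw [this]

omit [Finite G] hp in
theorem mem_centralizer_of_conj {g a : G} {H : Subgroup G}
    (hg : a * g * a⁻¹ ∈ centralizer ((MulAut.conj a • H : Subgroup G) : Set G)) :
    g ∈ centralizer (H : Set G) := by
  rw [mem_centralizer_iff] at hg ⊢
  intro h hh
  have hmem : a * h * a⁻¹ ∈ (MulAut.conj a • H : Subgroup G) := by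
    rw [mem_conj_smul]
    have : a⁻¹ * (a * h * a⁻¹) * a = h := by group
    rwa [this]
  have := hg _ hmem
  have h2 : a * (h * g) * a⁻¹ = a * (g * h) * a⁻¹ := by
    calc a * (h * g) * a⁻¹ = a * h * a⁻¹ * (a * g * a⁻¹) := by group
      _ = a * g * a⁻¹ * (a * h * a⁻¹) := this
      _ = a * (g * h) * a⁻¹ := by group
  exact mul_left_cancel (mul_right_cancel h2)

/-- it suffices to check `FrobHyp` on subgroups of one Sylow `p`-subgroup -/
theorem frobHyp_of_le_sylow (P : Sylow p G)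
    (h : ∀ Q : Subgroup G, Q ≤ (P : Subgroup G) → ∀ g ∈ normalizer (Q : Set G),
      (orderOf g).Coprime p → g ∈ centralizer (Q : Set G)) : FrobHyp p G := by
  intro Q hQ g hg hgo
  obtain ⟨P', hP'⟩ := hQ.exists_le_sylow
  obtain ⟨a, ha⟩ := MulAction.exists_smul_eq G P' P
  have hle : (MulAut.conj a • Q : Subgroup G) ≤ P := by
    rw [← ha, Sylow.coe_subgroup_smul]
    exact conj_smul_le_conj_smul hP'
  have ho : orderOf (a * g * a⁻¹) = orderOf g := by
    have := MulEquiv.orderOf_eq (MulAut.conj a) g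
    rwa [MulAut.conj_apply] at this
  have := h _ hle _ (mem_normalizer_conj (a := a) hg) (by rw [ho]; exact hgo)
  exact mem_centralizer_of_conj this

end converse

end Cfsg.Agent.Lib.Helper35_FrobeniusNPC
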