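import Mathlib
import Cfsg.Prelude.Def_SolvableStructure

set_option autoImplicit false

namespace Cfsg.Agent.Lib.Helper9_CLT

universe u

variable {G : Type*} [Group G]

/-- Hereditary converse of Lagrange: every subgroup has subgroups of all possible orders. -/
def HCLT (G : Type*) [Group G] : Prop := ∀ H : Subgroup G, Cfsg.HasSubgroupOfEveryOrder H

theorem hasSubgroupOfEveryOrder_of_mulEquiv {A B : Type*} [Group A] [Group B] (e : A ≃* B)
    (h : Cfsg.HasSubgroupOfEveryOrder A) : Cfsg.HasSubgroupOfEveryOrder B := by
  intro d hd
  rw [← Nat.card_congr e.toEquiv] at hd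
  obtain ⟨H, hH⟩ := h d hd
  refine ⟨H.map e.toMonoidHom, ?_⟩
  rw [Subgroup.card_map_of_injective e.injective, hH]

theorem HCLT.subgroup (h : HCLT G) (K : Subgroup G) : HCLT K := by
  intro H
  have e : H ≃* (H.map K.subtype) := Subgroup.equivMapOfInjective H K.subtype K.subtype_injective
  exact hasSubgroupOfEveryOrder_of_mulEquiv e.symm (h (H.map K.subtype))

theorem HCLT.self (h : HCLT G) : Cfsg.HasSubgroupOfEveryOrder G :=
  hasSubgroupOfEveryOrder_of_mulEquiv Subgroup.topEquiv (h ⊤)

theorem normal_sylow_largest_prime_aux : ∀ (n : ℕ) (G : Type u) [Group G] [Finite G],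
    Nat.card G = n → HCLT G → ∀ (p : ℕ) [Fact p.Prime], p ∣ n →
      (∀ q : ℕ, q.Prime → q ∣ n → q ≤ p) → ∀ P : Sylow p G, (P : Subgroup G).Normal := by
  intro n
  induction n using Nat.strong_induction_on with
  | _ n ih =>
    intro G _ _ hcard h p hpF hpn hmax P
    have hp : p.Prime := hpF.out
    have hn0 : n ≠ 0 := by rw [← hcard]; exact Nat.card_pos.ne'
    have hn1 : n ≠ 1 := by
      rintro rfl
      exact hp.one_lt.ne' (Nat.dvd_one.1 hpn)
    set q := n.minFac with hq
    have hqp : q.Prime := Nat.minFac_prime hn1
    have hqn : q ∣ n := Nat.minFac_dvd n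
    have hqle : q ≤ p := hmax q hqp hqn
    rcases eq_or_lt_of_le hqle with hqeq | hqlt
    · -- `G` is a `p`-group
      have hpow : n = p ^ n.primeFactorsList.length := by
        apply Nat.eq_prime_pow_of_unique_prime_dvd hn0
        intro d hd hdn
        have h1 : d ≤ p := hmax d hd hdn
        have h2 : q ≤ d := Nat.minFac_le_of_dvd hd.two_le hdn
        omega
      have hPtop : (P : Subgroup G) = ⊤ := by
        rw [← Subgroup.index_eq_one]
        have h1 : (P : Subgroup G).index ∣ p ^ n.primeFactorsList.length := by
          rw [← hpow, ← hcard]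
          exact Subgroup.index_dvd_card _
        obtain ⟨j, _, hj⟩ := (Nat.dvd_prime_pow hp).1 h1
        rcases Nat.eq_zero_or_pos j with hj0 | hjpos
        · rw [hj, hj0, pow_zero]
        · exfalso
          apply P.not_dvd_index
          rw [hj]
          exact dvd_pow_self p hjpos.ne'
      rw [hPtop]
      infer_instance
    · -- a normal subgroup `M` of index `q`
      obtain ⟨m, hm⟩ := hqn
      have hm0 : m ≠ 0 := by
        rintro rfl
        rw [mul_zero] at hm
        exact hn0 hm
      obtain ⟨M, hM⟩ := h.self m (by rw [hcard, hm]; exact dvd_mul_left _ _)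
      have hMidx : M.index = q := by
        have h1 : M.index * Nat.card M = Nat.card G := Subgroup.index_mul_card M
        rw [hM, hcard, hm] at h1
        exact Nat.eq_of_mul_eq_mul_right (Nat.pos_of_ne_zero hm0) h1
      have hMn : M.Normal := by
        apply Subgroup.normal_of_index_eq_minFac_card
        rw [hMidx, hcard]
      have hmlt : m < n := by
        rw [hm]
        have := hqp.one_lt
        nlinarith [Nat.pos_of_ne_zero hm0]
      have hnd : ¬ p ∣ q := fun hd => by
        have := (Nat.prime_dvd_prime_iff_eq hp hqp).1 hd
        omega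
      have hpm : p ∣ m := by
        rw [hm] at hpn
        exact ((Nat.Prime.dvd_mul hp).1 hpn).resolve_left hnd
      have hmax' : ∀ r : ℕ, r.Prime → r ∣ m → r ≤ p := by
        intro r hr hrm
        apply hmax r hr
        rw [hm]
        exact dvd_mul_of_dvd_right hrm _
      let PM : Sylow p M := default
      have hPMn : (PM : Subgroup M).Normal := ih m hmlt M hM (h.subgroup M) p hpm hmax' PM
      have hPMc : (PM : Subgroup M).Characteristic := Sylow.characteristic_of_normal PM hPMn
      have hQn : ((PM : Subgroup M).map M.subtype).Normal := inferInstance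
      have hfac : (Nat.card G).factorization p = (Nat.card M).factorization p := by
        rw [hcard, hM, hm, Nat.factorization_mul hqp.ne_zero hm0, Finsupp.add_apply,
          Nat.factorization_eq_zero_of_not_dvd hnd, zero_add]
      have hQc : Nat.card ((PM : Subgroup M).map M.subtype) = p ^ (Nat.card G).factorization p := by
        rw [Subgroup.card_map_of_injective M.subtype_injective, hfac]
        exact PM.card_eq_multiplicity
      let Q : Sylow p G := Sylow.ofCard _ hQc
      have hQn' : (Q : Subgroup G).Normal := by
        rw [Sylow.coe_ofCard]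
        exact hQn
      have hu := Sylow.unique_of_normal Q hQn'
      have : P = Q := Subsingleton.elim _ _
      rw [this]
      exact hQn'

/-- If each subgroup of a finite group satisfies the converse of Lagrange's theorem, then a Sylow
subgroup for the largest prime dividing the group order is normal. -/
theorem normal_sylow_largest_prime {G : Type u} [Group G] [Finite G] (h : HCLT G) (p : ℕ)
    [Fact p.Prime] (hdvd : p ∣ Nat.card G) (hmax : ∀ q : ℕ, q.Prime → q ∣ Nat.card G → q ≤ p)
    (P : Sylow p G) : (P : Subgroup G).Normal :=
  normal_sylow_largest_prime_aux (Nat.card G) G rfl h p hdvd hmax P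

end Cfsg.Agent.Lib.Helper9_CLT
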