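import Mathlib
import Cfsg.Prelude.Def_SolvableStructure

set_option autoImplicit false

namespace Cfsg.Agent.Lib.Helper9_Supersolvable

open Subgroup

variable {G : Type*} [Group G]

/-- `Reach A`: the subgroup `A` can be reached from `⊥` by a chain of normal subgroups of `G`,
each obtained from the previous one by adjoining one element. -/
inductive Reach : Subgroup G → Prop
  | bot : Reach ⊥
  | step (A : Subgroup G) (g : G) : Reach A → (A ⊔ zpowers g).Normal → Reach (A ⊔ zpowers g)

theorem Reach.normal {A : Subgroup G} (h : Reach A) : A.Normal := by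
  cases h with
  | bot => exact Subgroup.normal_bot
  | step A g _ hn => exact hn

/-- From the chain formulation to `Reach`. -/
theorem reach_of_chain (n : ℕ) (H : Fin (n + 1) → Subgroup G) (h0 : H 0 = ⊥)
    (hn : ∀ i, (H i).Normal)
    (hs : ∀ i : Fin n, ∃ g : G, H i.succ = H i.castSucc ⊔ zpowers g) :
    ∀ i : Fin (n + 1), Reach (H i) := by
  intro i
  induction i using Fin.induction with
  | zero => rw [h0]; exact Reach.bot
  | succ i ih =>
    obtain ⟨g, hg⟩ := hs i
    rw [hg]
    refine Reach.step _ g ih ?_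
    rw [← hg]
    exact hn _

/-- From `Reach` to the chain formulation. -/
theorem chain_of_reach {A : Subgroup G} (h : Reach A) :
    ∃ (n : ℕ) (H : Fin (n + 1) → Subgroup G),
      H 0 = ⊥ ∧ H (Fin.last n) = A ∧ (∀ i, (H i).Normal) ∧
        ∀ i : Fin n, ∃ g : G, H i.succ = H i.castSucc ⊔ zpowers g := by
  induction h with
  | bot =>
    refine ⟨0, fun _ => ⊥, rfl, rfl, fun _ => Subgroup.normal_bot, fun i => i.elim0⟩
  | step A g hA hn ih =>
    obtain ⟨n, H, h0, hl, hnorm, hs⟩ := ih
    refine ⟨n + 1, Fin.snoc H (A ⊔ zpowers g), ?_, ?_, ?_, ?_⟩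
    · have : (0 : Fin (n + 1 + 1)) = Fin.castSucc (0 : Fin (n + 1)) := rfl
      rw [this, Fin.snoc_castSucc, h0]
    · rw [Fin.snoc_last]
    · intro i
      refine Fin.lastCases ?_ (fun j => ?_) i
      · rw [Fin.snoc_last]; exact hn
      · rw [Fin.snoc_castSucc]; exact hnorm j
    · intro i
      refine Fin.lastCases ?_ (fun j => ?_) i
      · refine ⟨g, ?_⟩
        rw [Fin.succ_last, Fin.snoc_last, Fin.snoc_castSucc, hl]
      · obtain ⟨g', hg'⟩ := hs j
        refine ⟨g', ?_⟩
        rw [← Fin.castSucc_succ, Fin.snoc_castSucc, Fin.snoc_castSucc, hg']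

theorem isSupersolvable_iff_reach_top : Cfsg.IsSupersolvable G ↔ Reach (⊤ : Subgroup G) := by
  constructor
  · rintro ⟨n, H, h0, hl, hn, hs⟩
    rw [← hl]
    exact reach_of_chain n H h0 hn hs _
  · intro h
    obtain ⟨n, H, h0, hl, hn, hs⟩ := chain_of_reach h
    exact ⟨n, H, h0, hl, hn, hs⟩


/-! ### Images under surjective homomorphisms -/

theorem Reach.map {G' : Type*} [Group G'] (f : G →* G') (hf : Function.Surjective f)
    {A : Subgroup G} (h : Reach A) : Reach (A.map f) := by
  induction h with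
  | bot => rw [Subgroup.map_bot]; exact Reach.bot
  | step A g hA hn ih =>
    have h1 : (A ⊔ zpowers g).map f = A.map f ⊔ zpowers (f g) := by
      rw [Subgroup.map_sup, MonoidHom.map_zpowers]
    rw [h1]
    refine Reach.step _ _ ih ?_
    rw [← h1]
    exact hn.map f hf

theorem isSupersolvable_of_surjective {G' : Type*} [Group G'] (f : G →* G')
    (hf : Function.Surjective f) (h : Cfsg.IsSupersolvable G) : Cfsg.IsSupersolvable G' := by
  rw [isSupersolvable_iff_reach_top] at h ⊢
  have := h.map f hf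
  rwa [Subgroup.map_top_of_surjective f hf] at this

theorem isSupersolvable_of_mulEquiv {G' : Type*} [Group G'] (e : G ≃* G')
    (h : Cfsg.IsSupersolvable G) : Cfsg.IsSupersolvable G' :=
  isSupersolvable_of_surjective e.toMonoidHom e.surjective h

theorem isSupersolvable_quotient (N : Subgroup G) [N.Normal] (h : Cfsg.IsSupersolvable G) :
    Cfsg.IsSupersolvable (G ⧸ N) :=
  isSupersolvable_of_surjective (QuotientGroup.mk' N) (QuotientGroup.mk'_surjective N) h

/-! ### Subgroups -/

/-- Key step for subgroups: if `A` is normal in `G` then `(A ⊔ zpowers g) ⊓ K` is generated by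
`A ⊓ K` and one element of `K`. -/
theorem exists_sup_zpowers_inf (A K : Subgroup G) [hA : A.Normal] (g : G) :
    ∃ k ∈ K, (A ⊔ zpowers g) ⊓ K = (A ⊓ K) ⊔ zpowers k := by
  -- work in the quotient `G ⧸ A`
  let π := QuotientGroup.mk' A
  let C : Subgroup (G ⧸ A) := ((A ⊔ zpowers g) ⊓ K).map π
  have hCle : C ≤ zpowers (π g) := by
    intro x hx
    obtain ⟨y, hy, rfl⟩ := hx
    have : π y ∈ (A ⊔ zpowers g).map π := Subgroup.mem_map_of_mem π hy.1
    rw [Subgroup.map_sup, MonoidHom.map_zpowers] at this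
    have hA' : A.map π = ⊥ := by
      rw [← le_bot_iff]
      rintro _ ⟨a, ha, rfl⟩
      rw [Subgroup.mem_bot]
      exact (QuotientGroup.eq_one_iff a).2 ha
    rwa [hA', bot_sup_eq] at this
  have hcyc : IsCyclic C := Subgroup.isCyclic_of_le hCle
  obtain ⟨c, hc⟩ := (Subgroup.isCyclic_iff_exists_zpowers_eq_top C).1 hcyc
  have hcC : c ∈ C := by rw [← hc]; exact Subgroup.mem_zpowers c
  obtain ⟨k, hk, rfl⟩ := hcC
  refine ⟨k, hk.2, le_antisymm ?_ ?_⟩
  · intro x hx
    have hx' : π x ∈ C := Subgroup.mem_map_of_mem π hx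
    rw [← hc] at hx'
    obtain ⟨m, hm⟩ := Subgroup.mem_zpowers_iff.1 hx'
    have h1 : x * (k ^ m)⁻¹ ∈ A := by
      rw [← QuotientGroup.eq_one_iff]
      change π (x * (k ^ m)⁻¹) = 1
      rw [map_mul, map_inv, map_zpow, hm, mul_inv_cancel]
    have h2 : x * (k ^ m)⁻¹ ∈ K := K.mul_mem hx.2 (K.inv_mem (K.zpow_mem hk.2 m))
    have h3 : x = (x * (k ^ m)⁻¹) * k ^ m := by group
    rw [h3]
    exact Subgroup.mul_mem _ (Subgroup.mem_sup_left ⟨h1, h2⟩)
      (Subgroup.mem_sup_right (Subgroup.zpow_mem_zpowers k m))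
  · rw [sup_le_iff]
    refine ⟨inf_le_inf_right K le_sup_left, ?_⟩
    rw [Subgroup.zpowers_le]
    exact hk

theorem Reach.subgroupOf (K : Subgroup G) {A : Subgroup G} (h : Reach A) :
    Reach (A.subgroupOf K) := by
  induction h with
  | bot => rw [Subgroup.bot_subgroupOf]; exact Reach.bot
  | step A g hA hn ih =>
    have := hA.normal
    obtain ⟨k, hk, hk'⟩ := exists_sup_zpowers_inf A K g
    have h1 : (A ⊔ zpowers g).subgroupOf K = A.subgroupOf K ⊔ zpowers (⟨k, hk⟩ : K) := by
      apply Subgroup.map_injective K.subtype_injective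
      rw [Subgroup.map_sup, MonoidHom.map_zpowers, Subgroup.subgroupOf_map_subtype,
        Subgroup.subgroupOf_map_subtype]
      exact hk'
    rw [h1]
    refine Reach.step _ _ ih ?_
    rw [← h1]
    infer_instance

theorem isSupersolvable_subgroup (K : Subgroup G) (h : Cfsg.IsSupersolvable G) :
    Cfsg.IsSupersolvable K := by
  rw [isSupersolvable_iff_reach_top] at h ⊢
  have := h.subgroupOf K
  rwa [Subgroup.top_subgroupOf] at this


/-! ### Extensions by a cyclic normal subgroup -/

theorem Reach.comap_mk (N : Subgroup G) [N.Normal] (hN : Reach N) {A : Subgroup (G ⧸ N)}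
    (h : Reach A) : Reach (A.comap (QuotientGroup.mk' N)) := by
  induction h with
  | bot =>
    rw [MonoidHom.comap_bot, QuotientGroup.ker_mk']
    exact hN
  | step A g hA hn ih =>
    obtain ⟨g, rfl⟩ := QuotientGroup.mk'_surjective N g
    have h1 : (A ⊔ zpowers (QuotientGroup.mk' N g)).comap (QuotientGroup.mk' N) =
        A.comap (QuotientGroup.mk' N) ⊔ zpowers g := by
      rw [← Subgroup.comap_sup_eq _ _ _ (QuotientGroup.mk'_surjective N), ← MonoidHom.map_zpowers,
        Subgroup.comap_map_eq, QuotientGroup.ker_mk']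
      have : N ≤ A.comap (QuotientGroup.mk' N) := by
        intro x hx
        rw [Subgroup.mem_comap]
        have : QuotientGroup.mk' N x = 1 := (QuotientGroup.eq_one_iff x).2 hx
        rw [this]
        exact A.one_mem
      rw [sup_comm (zpowers g) N, ← sup_assoc, sup_eq_left.2 this]
    rw [h1]
    refine Reach.step _ _ ih ?_
    rw [← h1]
    exact hn.comap _

theorem reach_of_isCyclic_normal (N : Subgroup G) [N.Normal] [hc : IsCyclic N] : Reach N := by
  obtain ⟨g, hg⟩ := (Subgroup.isCyclic_iff_exists_zpowers_eq_top N).1 hc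
  have h1 : N = ⊥ ⊔ zpowers g := by rw [bot_sup_eq, hg]
  rw [h1]
  refine Reach.step _ _ Reach.bot ?_
  rw [← h1]
  infer_instance

theorem isSupersolvable_of_quotient_cyclic (N : Subgroup G) [N.Normal] [IsCyclic N]
    (h : Cfsg.IsSupersolvable (G ⧸ N)) : Cfsg.IsSupersolvable G := by
  rw [isSupersolvable_iff_reach_top] at h ⊢
  have := Reach.comap_mk N (reach_of_isCyclic_normal N) h
  rwa [Subgroup.comap_top] at this

/-! ### Products -/

theorem Reach.prod_bot {H : Type*} [Group H] {A : Subgroup G} (h : Reach A) :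
    Reach (A.prod (⊥ : Subgroup H)) := by
  induction h with
  | bot => rw [Subgroup.bot_prod_bot]; exact Reach.bot
  | step A g hA hn ih =>
    have h1 : (A ⊔ zpowers g).prod (⊥ : Subgroup H) =
        A.prod (⊥ : Subgroup H) ⊔ zpowers ((g, 1) : G × H) := by
      have e1 : ∀ B : Subgroup G, B.prod (⊥ : Subgroup H) = B.map (MonoidHom.inl G H) := by
        intro B
        ext ⟨x, y⟩
        simp only [Subgroup.mem_prod, Subgroup.mem_bot, Subgroup.mem_map, MonoidHom.inl_apply,
          Prod.mk.injEq]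
        constructor
        · rintro ⟨hx, rfl⟩; exact ⟨x, hx, rfl, rfl⟩
        · rintro ⟨z, hz, rfl, rfl⟩; exact ⟨hz, rfl⟩
      rw [e1, e1, Subgroup.map_sup, MonoidHom.map_zpowers]
      rfl
    rw [h1]
    refine Reach.step _ _ ih ?_
    rw [← h1]
    have := hA.normal
    exact Subgroup.prod_normal _ _

theorem Reach.top_prod {H : Type*} [Group H] (hG : Reach (⊤ : Subgroup G)) {B : Subgroup H}
    (h : Reach B) : Reach ((⊤ : Subgroup G).prod B) := by
  induction h with
  | bot => exact hG.prod_bot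
  | step B g hB hn ih =>
    have h1 : (⊤ : Subgroup G).prod (B ⊔ zpowers g) =
        (⊤ : Subgroup G).prod B ⊔ zpowers ((1, g) : G × H) := by
      have e1 : ∀ B : Subgroup H, (⊤ : Subgroup G).prod B = B.comap (MonoidHom.snd G H) := by
        intro B
        ext ⟨x, y⟩
        simp [Subgroup.mem_prod]
      have hsurj : Function.Surjective (MonoidHom.snd G H) := fun y => ⟨(1, y), rfl⟩
      rw [e1, e1, ← Subgroup.comap_sup_eq _ _ _ hsurj]
      have e2 : zpowers g = (zpowers ((1, g) : G × H)).map (MonoidHom.snd G H) := by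
        rw [MonoidHom.map_zpowers]; rfl
      rw [e2, Subgroup.comap_map_eq]
      have : (MonoidHom.snd G H).ker ≤ B.comap (MonoidHom.snd G H) := by
        intro x hx
        rw [Subgroup.mem_comap, MonoidHom.mem_ker.1 hx]
        exact B.one_mem
      rw [sup_comm (zpowers ((1, g) : G × H)), ← sup_assoc, sup_eq_left.2 this]
    rw [h1]
    refine Reach.step _ _ ih ?_
    rw [← h1]
    have := hB.normal
    exact Subgroup.prod_normal _ _

theorem isSupersolvable_prod {H : Type*} [Group H] (hG : Cfsg.IsSupersolvable G)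
    (hH : Cfsg.IsSupersolvable H) : Cfsg.IsSupersolvable (G × H) := by
  rw [isSupersolvable_iff_reach_top] at hG hH ⊢
  have := hG.top_prod hH
  rwa [Subgroup.top_prod_top] at this

end Cfsg.Agent.Lib.Helper9_Supersolvable
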