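import Mathlib
import Cfsg.Prelude.Def_SolvableStructure
import Cfsg.Agent.Lib.Helper9_Supersolvable

set_option autoImplicit false

namespace Cfsg.Agent.Lib.Helper9_Supersolvable2

open Subgroup Cfsg.Agent.Lib.Helper9_Supersolvable

universe u

variable {G : Type*} [Group G]

/-- A nontrivial finite cyclic normal subgroup contains a normal subgroup of prime order. -/
theorem exists_normal_prime_le_zpowers [Finite G] (c : G) (hc : c ≠ 1)
    (hn : (zpowers c).Normal) :
    ∃ N : Subgroup G, N ≤ zpowers c ∧ N.Normal ∧ (Nat.card N).Prime := by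
  set m := orderOf c with hm
  have hm1 : m ≠ 1 := by
    intro h
    exact hc (orderOf_eq_one_iff.1 h)
  have hm0 : m ≠ 0 := (orderOf_pos c).ne'
  set p := m.minFac with hp
  have hpp : p.Prime := Nat.minFac_prime hm1
  have hpm : p ∣ m := Nat.minFac_dvd m
  set d := m / p with hd
  have hdm : d ∣ m := Nat.div_dvd_of_dvd hpm
  have hd0 : d ≠ 0 := by
    intro h
    rw [hd, Nat.div_eq_zero_iff] at h
    rcases h with h | h
    · exact hpp.ne_zero h
    · exact absurd (Nat.le_of_dvd (Nat.pos_of_ne_zero hm0) hpm) (not_le.2 h)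
  refine ⟨zpowers (c ^ d), ?_, ?_, ?_⟩
  · rw [Subgroup.zpowers_le]
    exact Subgroup.pow_mem _ (Subgroup.mem_zpowers c) d
  · constructor
    intro x hx g
    obtain ⟨j, rfl⟩ := Subgroup.mem_zpowers_iff.1 hx
    have h1 : g * c * g⁻¹ ∈ zpowers c := hn.conj_mem c (Subgroup.mem_zpowers c) g
    obtain ⟨k, hk⟩ := Subgroup.mem_zpowers_iff.1 h1
    have h2 : g * (c ^ d) ^ j * g⁻¹ = ((c ^ d) ^ k) ^ j := by
      have : g * (c ^ d) ^ j * g⁻¹ = MulAut.conj g ((c ^ d) ^ j) := by simp [MulAut.conj_apply]
      have e : (c ^ k) ^ d = (c ^ d) ^ k := by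
        rw [← zpow_natCast, ← zpow_natCast, ← zpow_mul, ← zpow_mul, mul_comm]
      rw [this, map_zpow, map_pow, MulAut.conj_apply, ← hk, e]
    rw [h2]
    exact Subgroup.zpow_mem _ (Subgroup.zpow_mem _ (Subgroup.mem_zpowers _) k) j
  · rw [Nat.card_zpowers, orderOf_pow_of_dvd hd0 hdm, ← hm, hd, Nat.div_div_self hpm hm0]
    exact hpp

/-- In a finite group, if `Reach A` and `M` is a normal subgroup with `M ⊓ A ≠ ⊥`, then `M ⊓ A`
contains a normal subgroup of prime order. -/
theorem reach_exists_normal_prime_le [Finite G] {A : Subgroup G} (h : Reach A) :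
    ∀ M : Subgroup G, M.Normal → M ⊓ A ≠ ⊥ →
      ∃ N : Subgroup G, N ≤ M ⊓ A ∧ N.Normal ∧ (Nat.card N).Prime := by
  induction h with
  | bot =>
    intro M _ h
    exact absurd (inf_bot_eq M) h
  | step A g hA hn ih =>
    intro M hM hne
    by_cases h0 : M ⊓ A = ⊥
    · have := hA.normal
      obtain ⟨k, hk, hk'⟩ := exists_sup_zpowers_inf A M g
      rw [inf_comm A M, h0, bot_sup_eq, inf_comm] at hk'
      have hk1 : k ≠ 1 := by
        rintro rfl
        rw [Subgroup.zpowers_one_eq_bot] at hk'
        exact hne hk'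
      have hnorm : (zpowers k).Normal := by
        rw [← hk']
        infer_instance
      obtain ⟨N, hN1, hN2, hN3⟩ := exists_normal_prime_le_zpowers k hk1 hnorm
      exact ⟨N, by rw [hk']; exact hN1, hN2, hN3⟩
    · obtain ⟨N, hN1, hN2, hN3⟩ := ih M hM h0
      exact ⟨N, hN1.trans (inf_le_inf_left M le_sup_left), hN2, hN3⟩

/-- In a finite supersolvable group every nontrivial normal subgroup contains a normal subgroup
of prime order. -/
theorem exists_normal_prime_le [Finite G] (hG : Cfsg.IsSupersolvable G) (M : Subgroup G)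
    [hM : M.Normal] (hne : M ≠ ⊥) :
    ∃ N : Subgroup G, N ≤ M ∧ N.Normal ∧ (Nat.card N).Prime := by
  rw [isSupersolvable_iff_reach_top] at hG
  obtain ⟨N, hN1, hN2, hN3⟩ := reach_exists_normal_prime_le hG M hM (by rwa [inf_top_eq])
  exact ⟨N, by rwa [inf_top_eq] at hN1, hN2, hN3⟩

/-- A nontrivial finite supersolvable group has a normal subgroup of prime order. -/
theorem exists_normal_prime [Finite G] [Nontrivial G] (hG : Cfsg.IsSupersolvable G) :
    ∃ N : Subgroup G, N.Normal ∧ (Nat.card N).Prime := by
  obtain ⟨N, _, hN2, hN3⟩ := exists_normal_prime_le hG ⊤ top_ne_bot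
  exact ⟨N, hN2, hN3⟩


/-! ### Maximal subgroups have prime index -/

theorem isCoatom_map_of_surjective {H : Type*} [Group H] {f : G →* H}
    (hf : Function.Surjective f) {M : Subgroup G} (hker : f.ker ≤ M) (hM : IsCoatom M) :
    IsCoatom (M.map f) := by
  have hcm : (M.map f).comap f = M := Subgroup.comap_map_eq_self hker
  constructor
  · intro h
    apply hM.1
    rw [← hcm, h, Subgroup.comap_top]
  · intro X hX
    have h1 : M ≤ X.comap f := by
      rw [← hcm]
      exact Subgroup.comap_mono hX.le
    have h2 : M ≠ X.comap f := by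
      intro h
      have : X = M.map f := by
        rw [h, Subgroup.map_comap_eq_self_of_surjective hf]
      exact hX.ne this.symm
    have h3 := hM.2 _ (lt_of_le_of_ne h1 h2)
    rw [← Subgroup.map_comap_eq_self_of_surjective hf X, h3, Subgroup.map_top_of_surjective f hf]

theorem card_quotient_lt [Finite G] (N : Subgroup G) (hN : N ≠ ⊥) :
    Nat.card (G ⧸ N) < Nat.card G := by
  rw [Subgroup.card_eq_card_quotient_mul_card_subgroup N]
  have h1 : 1 < Nat.card N := by
    rw [Subgroup.one_lt_card_iff_ne_bot]
    exact hN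
  have h2 : 0 < Nat.card (G ⧸ N) := Nat.card_pos
  nlinarith

theorem ne_bot_of_card_prime {N : Subgroup G} (h : (Nat.card N).Prime) : N ≠ ⊥ := by
  rintro rfl
  rw [Subgroup.card_bot] at h
  exact Nat.not_prime_one h

theorem index_prime_of_isCoatom_aux : ∀ (n : ℕ) (G : Type u) [Group G] [Finite G],
    Nat.card G = n → Cfsg.IsSupersolvable G → ∀ M : Subgroup G, IsCoatom M → M.index.Prime := by
  intro n
  induction n using Nat.strong_induction_on with
  | _ n ih =>
    intro G _ _ hcard hG M hM
    have hnt : Nontrivial G := by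
      by_contra h
      rw [not_nontrivial_iff_subsingleton] at h
      exact hM.1 (Subsingleton.elim _ _)
    obtain ⟨N, hNn, hNp⟩ := exists_normal_prime hG
    by_cases hNM : N ≤ M
    · have hsurj := QuotientGroup.mk'_surjective N
      have hker : (QuotientGroup.mk' N).ker ≤ M := by rwa [QuotientGroup.ker_mk']
      have h1 : (M.map (QuotientGroup.mk' N)).index = M.index :=
        Subgroup.index_map_eq M hsurj hker
      rw [← h1]
      refine ih (Nat.card (G ⧸ N)) ?_ (G ⧸ N) rfl (isSupersolvable_quotient N hG) _
        (isCoatom_map_of_surjective hsurj hker hM)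
      rw [← hcard]
      exact card_quotient_lt N (ne_bot_of_card_prime hNp)
    · have htop : M ⊔ N = ⊤ := by
        apply hM.2
        exact lt_of_le_of_ne le_sup_left (fun h => hNM (by rw [h]; exact le_sup_right))
      have hinf : N ⊓ M = ⊥ := by
        have hdvd : Nat.card (N ⊓ M : Subgroup G) ∣ Nat.card N :=
          Subgroup.card_dvd_of_le inf_le_left
        rcases (Nat.dvd_prime hNp).1 hdvd with h | h
        · exact Subgroup.card_eq_one.1 h
        · exfalso
          apply hNM
          have : N ⊓ M = N := by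
            apply Subgroup.eq_of_le_of_card_ge inf_le_left
            rw [h]
          rw [← this]
          exact inf_le_right
      have h1 : N.relIndex (M ⊔ N) = N.relIndex M := Subgroup.relIndex_sup_right M N
      rw [htop, Subgroup.relIndex_top_right, ← Subgroup.inf_relIndex_right, hinf,
        Subgroup.relIndex_bot_left] at h1
      have h2 : N.index * Nat.card N = Nat.card G := Subgroup.index_mul_card N
      have h3 : M.index * Nat.card M = Nat.card G := Subgroup.index_mul_card M
      have h4 : M.index = Nat.card N := by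
        have hpos : 0 < Nat.card M := Nat.card_pos
        apply Nat.eq_of_mul_eq_mul_right hpos
        rw [h3, ← h2, h1, mul_comm]
      rw [h4]
      exact hNp

/-- In a finite supersolvable group the index of any maximal subgroup is a prime number. -/
theorem index_prime_of_isCoatom {G : Type u} [Group G] [Finite G] (hG : Cfsg.IsSupersolvable G)
    (M : Subgroup G) (hM : IsCoatom M) : M.index.Prime :=
  index_prime_of_isCoatom_aux (Nat.card G) G rfl hG M hM

end Cfsg.Agent.Lib.Helper9_Supersolvable2
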