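import Mathlib
import Cfsg.Prelude.Def_SolvableStructure
import Cfsg.Agent.Lib.Helper9_Supersolvable
import Cfsg.Agent.Lib.Helper9_Supersolvable2

set_option autoImplicit false

namespace Cfsg.Agent.Lib.Helper9_Supersolvable3

open Subgroup Cfsg.Agent.Lib.Helper9_Supersolvable Cfsg.Agent.Lib.Helper9_Supersolvable2

universe u

variable {G : Type*} [Group G]

theorem card_comap_mk' (N : Subgroup G) [N.Normal] (H : Subgroup (G ⧸ N)) :
    Nat.card (H.comap (QuotientGroup.mk' N)) = Nat.card N * Nat.card H :=
  QuotientGroup.card_preimage_mk N (H : Set (G ⧸ N))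

theorem le_comap_mk' (N : Subgroup G) [N.Normal] (H : Subgroup (G ⧸ N)) :
    N ≤ H.comap (QuotientGroup.mk' N) := by
  intro x hx
  rw [Subgroup.mem_comap]
  have : QuotientGroup.mk' N x = 1 := (QuotientGroup.eq_one_iff x).2 hx
  rw [this]
  exact H.one_mem

/-- Schur–Zassenhaus in the form: a normal subgroup `N` of prime order `p` of a subgroup `K` with
`|K| = p * d`, `p ∤ d`, has a complement of order `d`. -/
theorem exists_subgroup_card_of_coprime [Finite G] (N K : Subgroup G) [N.Normal] (hNK : N ≤ K)
    (d : ℕ) (hK : Nat.card K = Nat.card N * d) (hcop : (Nat.card N).Coprime d) :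
    ∃ H : Subgroup G, Nat.card H = d := by
  have hnorm : (N.subgroupOf K).Normal := inferInstance
  have hcardN : Nat.card (N.subgroupOf K) = Nat.card N :=
    Nat.card_congr (Subgroup.subgroupOfEquivOfLe hNK).toEquiv
  have hidx : (N.subgroupOf K).index = d := by
    have h1 : Nat.card (N.subgroupOf K) * (N.subgroupOf K).index = Nat.card K :=
      Subgroup.card_mul_index _
    rw [hcardN, hK] at h1
    exact Nat.eq_of_mul_eq_mul_left Nat.card_pos h1
  have hc : (Nat.card (N.subgroupOf K)).Coprime (N.subgroupOf K).index := by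
    rw [hcardN, hidx]; exact hcop
  obtain ⟨H, hH⟩ := Subgroup.exists_right_complement'_of_coprime hc
  refine ⟨H.map K.subtype, ?_⟩
  rw [Subgroup.card_map_of_injective K.subtype_injective]
  have h2 : Nat.card (N.subgroupOf K) * Nat.card H = Nat.card K := hH.card_mul_card
  rw [hcardN, hK] at h2
  exact Nat.eq_of_mul_eq_mul_left Nat.card_pos h2

theorem hasSubgroupOfEveryOrder_aux : ∀ (n : ℕ) (G : Type u) [Group G] [Finite G],
    Nat.card G = n → Cfsg.IsSupersolvable G → ∀ d : ℕ, d ∣ n → ∃ H : Subgroup G, Nat.card H = d := by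
  intro n
  induction n using Nat.strong_induction_on with
  | _ n ih =>
    intro G _ _ hcard hG d hd
    rcases subsingleton_or_nontrivial G with hs | hnt
    · have h1 : Nat.card G = 1 := Nat.card_eq_one_iff_unique.2 ⟨hs, ⟨1⟩⟩
      rw [← hcard, h1, Nat.dvd_one] at hd
      exact ⟨⊥, by rw [hd, Subgroup.card_bot]⟩
    · obtain ⟨N, hNn, hNp⟩ := exists_normal_prime hG
      have hlt : Nat.card (G ⧸ N) < n := by
        rw [← hcard]
        exact card_quotient_lt N (ne_bot_of_card_prime hNp)
      have hmul : Nat.card G = Nat.card (G ⧸ N) * Nat.card N :=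
        Subgroup.card_eq_card_quotient_mul_card_subgroup N
      have hSSq := isSupersolvable_quotient N hG
      by_cases hpd : Nat.card N ∣ d
      · obtain ⟨d', rfl⟩ := hpd
        have hd' : d' ∣ Nat.card (G ⧸ N) := by
          rw [← hcard, hmul, mul_comm (Nat.card (G ⧸ N))] at hd
          exact Nat.dvd_of_mul_dvd_mul_left hNp.pos hd
        obtain ⟨H', hH'⟩ := ih _ hlt (G ⧸ N) rfl hSSq d' hd'
        exact ⟨H'.comap (QuotientGroup.mk' N), by rw [card_comap_mk', hH']⟩
      · have hcop : (Nat.card N).Coprime d := (Nat.Prime.coprime_iff_not_dvd hNp).2 hpd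
        have hd' : d ∣ Nat.card (G ⧸ N) := by
          rw [← hcard, hmul] at hd
          exact hcop.symm.dvd_of_dvd_mul_right hd
        obtain ⟨H', hH'⟩ := ih _ hlt (G ⧸ N) rfl hSSq d hd'
        exact exists_subgroup_card_of_coprime N (H'.comap (QuotientGroup.mk' N))
          (le_comap_mk' N H') d (by rw [card_comap_mk', hH']) hcop

/-- A finite supersolvable group has a subgroup of each order dividing its order. -/
theorem hasSubgroupOfEveryOrder {G : Type u} [Group G] [Finite G] (hG : Cfsg.IsSupersolvable G) :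
    Cfsg.HasSubgroupOfEveryOrder G :=
  fun d hd => hasSubgroupOfEveryOrder_aux (Nat.card G) G rfl hG d hd

end Cfsg.Agent.Lib.Helper9_Supersolvable3
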