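import Mathlib
import Cfsg.Prelude.Def_SolvableStructure
import Cfsg.Agent.Lib.Helper9_Supersolvable
import Cfsg.Agent.Lib.Helper9_Supersolvable2

set_option autoImplicit false

namespace Cfsg.Agent.Lib.Helper9_Supersolvable4

open Subgroup Cfsg.Agent.Lib.Helper9_Supersolvable Cfsg.Agent.Lib.Helper9_Supersolvable2

universe u

variable {G : Type*} [Group G]

theorem isSupersolvable_of_subsingleton [Subsingleton G] : Cfsg.IsSupersolvable G := by
  rw [isSupersolvable_iff_reach_top, Subgroup.eq_bot_of_subsingleton ⊤]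
  exact Reach.bot

theorem isSupersolvable_of_isCyclic [hc : IsCyclic G] : Cfsg.IsSupersolvable G := by
  rw [isSupersolvable_iff_reach_top]
  obtain ⟨g, hg⟩ := hc.exists_generator
  have h1 : (⊤ : Subgroup G) = ⊥ ⊔ zpowers g := by
    rw [bot_sup_eq, eq_comm, Subgroup.eq_top_iff']
    exact hg
  rw [h1]
  refine Reach.step _ _ Reach.bot ?_
  rw [← h1]
  infer_instance

/-- If `c` generates a normal subgroup and `G ⧸ zpowers c` is supersolvable, so is `G`. -/
theorem isSupersolvable_of_quotient_zpowers (c : G) (hn : (zpowers c).Normal)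
    (h : Cfsg.IsSupersolvable (G ⧸ zpowers c)) : Cfsg.IsSupersolvable G :=
  isSupersolvable_of_quotient_cyclic (zpowers c) h

theorem normal_zpowers_of_mem_center {z : G} (hz : z ∈ Subgroup.center G) :
    (zpowers z).Normal := by
  constructor
  intro x hx g
  have hx' : x ∈ Subgroup.center G := (Subgroup.zpowers_le.2 hz) hx
  have : g * x * g⁻¹ = x := by
    rw [Subgroup.mem_center_iff] at hx'
    rw [hx' g, mul_inv_cancel_right]
  rw [this]
  exact hx

theorem isSupersolvable_of_isPGroup_aux (p : ℕ) [Fact p.Prime] :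
    ∀ (n : ℕ) (G : Type u) [Group G] [Finite G], Nat.card G = n → IsPGroup p G →
      Cfsg.IsSupersolvable G := by
  intro n
  induction n using Nat.strong_induction_on with
  | _ n ih =>
    intro G _ _ hcard hG
    rcases subsingleton_or_nontrivial G with hs | hnt
    · exact isSupersolvable_of_subsingleton
    · have hnc := hG.center_nontrivial
      obtain ⟨⟨z, hz⟩, hz1⟩ := exists_ne (1 : Subgroup.center G)
      have hz1' : z ≠ 1 := fun h => hz1 (Subtype.ext h)
      have hn : (zpowers z).Normal := normal_zpowers_of_mem_center hz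
      apply isSupersolvable_of_quotient_zpowers z hn
      refine ih (Nat.card (G ⧸ zpowers z)) ?_ (G ⧸ zpowers z) rfl (hG.to_quotient _)
      rw [← hcard]
      apply card_quotient_lt
      rw [Ne, Subgroup.zpowers_eq_bot]
      exact hz1'

/-- A finite `p`-group is supersolvable. -/
theorem isSupersolvable_of_isPGroup (p : ℕ) [Fact p.Prime] {G : Type u} [Group G] [Finite G]
    (hG : IsPGroup p G) : Cfsg.IsSupersolvable G :=
  isSupersolvable_of_isPGroup_aux p (Nat.card G) G rfl hG


/-! ### Groups of order `2 * p ^ n` -/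

theorem normal_zpowers_of_conj_mem {x : G} (h : ∀ g : G, g * x * g⁻¹ ∈ zpowers x) :
    (zpowers x).Normal := by
  constructor
  intro y hy g
  obtain ⟨k, rfl⟩ := Subgroup.mem_zpowers_iff.1 hy
  have : g * x ^ k * g⁻¹ = (g * x * g⁻¹) ^ k := by
    have e1 : g * x ^ k * g⁻¹ = MulAut.conj g (x ^ k) := by simp [MulAut.conj_apply]
    have e2 : g * x * g⁻¹ = MulAut.conj g x := by simp [MulAut.conj_apply]
    rw [e1, e2, map_zpow]
  rw [this]
  exact Subgroup.zpow_mem _ (h g) k

/-- If `P` has index 2 in `G` and `x ≠ 1` is a central element of `P`, then `P` contains a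
nontrivial cyclic subgroup which is normal in `G`. -/
theorem exists_normal_zpowers_of_index_two (P : Subgroup G) (hP : P.index = 2) (x : G)
    (hxP : x ∈ P) (hx1 : x ≠ 1) (hxc : ∀ q ∈ P, q * x = x * q) :
    ∃ c ∈ P, c ≠ 1 ∧ (zpowers c).Normal := by
  have hPn : P.Normal := Subgroup.normal_of_index_eq_two hP
  obtain ⟨t, htP⟩ : ∃ t : G, t ∉ P := by
    by_contra h
    push Not at h
    have : P = ⊤ := (Subgroup.eq_top_iff' P).2 h
    rw [this, Subgroup.index_top] at hP
    omega
  have htinv : t⁻¹ ∉ P := fun h => htP (by simpa using P.inv_mem h)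
  have hcases : ∀ g : G, g ∈ P ∨ t⁻¹ * g ∈ P := by
    intro g
    by_cases hg : g ∈ P
    · exact Or.inl hg
    · right
      rw [Subgroup.mul_mem_iff_of_index_two hP]
      exact ⟨fun h => absurd h htinv, fun h => absurd h hg⟩
  have ht2 : t * t ∈ P := Subgroup.mul_self_mem_of_index_two hP t
  obtain ⟨x', hx'⟩ : ∃ x' : G, x' = t * x * t⁻¹ := ⟨_, rfl⟩
  have hx'P : x' ∈ P := by rw [hx']; exact hPn.conj_mem x hxP t
  have hx'c : ∀ q ∈ P, q * x' = x' * q := by
    intro q hq
    have h1 : t⁻¹ * q * t ∈ P := by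
      have := hPn.conj_mem q hq t⁻¹
      simpa using this
    have h2 := hxc _ h1
    calc q * x' = t * ((t⁻¹ * q * t) * x) * t⁻¹ := by rw [hx']; group
      _ = t * (x * (t⁻¹ * q * t)) * t⁻¹ := by rw [h2]
      _ = x' * q := by rw [hx']; group
  obtain ⟨y, hy⟩ : ∃ y : G, y = x * x' := ⟨_, rfl⟩
  have hyP : y ∈ P := by rw [hy]; exact P.mul_mem hxP hx'P
  have hyc : ∀ q ∈ P, q * y = y * q := by
    intro q hq
    calc q * y = (q * x) * x' := by rw [hy, mul_assoc]
      _ = x * (q * x') := by rw [hxc q hq, mul_assoc]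
      _ = y * q := by rw [hx'c q hq, hy, mul_assoc]
  have hty : t * y * t⁻¹ = y := by
    have h1 : t * x' * t⁻¹ = x := by
      have h2 := hxc _ ht2
      calc t * x' * t⁻¹ = (t * t) * x * (t * t)⁻¹ := by rw [hx']; group
        _ = x * (t * t) * (t * t)⁻¹ := by rw [h2]
        _ = x := by group
    calc t * y * t⁻¹ = (t * x * t⁻¹) * (t * x' * t⁻¹) := by rw [hy]; group
      _ = x' * x := by rw [h1, ← hx']
      _ = y := by rw [hy, hx'c x hxP]
  by_cases hy1 : y = 1
  · -- `t` inverts `x`
    have hinv : t * x * t⁻¹ = x⁻¹ := by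
      have : x * x' = 1 := by rw [← hy]; exact hy1
      rw [← hx']
      exact eq_inv_of_mul_eq_one_right this
    refine ⟨x, hxP, hx1, normal_zpowers_of_conj_mem ?_⟩
    intro g
    rcases hcases g with hg | hg
    · have : g * x * g⁻¹ = x := by rw [hxc g hg, mul_inv_cancel_right]
      rw [this]; exact Subgroup.mem_zpowers x
    · have h2 : (t⁻¹ * g) * x * (t⁻¹ * g)⁻¹ = x := by rw [hxc _ hg, mul_inv_cancel_right]
      have : g * x * g⁻¹ = x⁻¹ := by
        calc g * x * g⁻¹ = t * ((t⁻¹ * g) * x * (t⁻¹ * g)⁻¹) * t⁻¹ := by group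
          _ = x⁻¹ := by rw [h2, hinv]
      rw [this]; exact Subgroup.inv_mem _ (Subgroup.mem_zpowers x)
  · refine ⟨y, hyP, hy1, normal_zpowers_of_conj_mem ?_⟩
    intro g
    have : g * y * g⁻¹ = y := by
      rcases hcases g with hg | hg
      · rw [hyc g hg, mul_inv_cancel_right]
      · have h2 : (t⁻¹ * g) * y * (t⁻¹ * g)⁻¹ = y := by rw [hyc _ hg, mul_inv_cancel_right]
        calc g * y * g⁻¹ = t * ((t⁻¹ * g) * y * (t⁻¹ * g)⁻¹) * t⁻¹ := by group
          _ = y := by rw [h2, hty]
    rw [this]; exact Subgroup.mem_zpowers y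


theorem isSupersolvable_of_card_two_mul_prime_pow_aux (p : ℕ) (hp : p.Prime) (hp2 : p ≠ 2) :
    ∀ (n : ℕ) (G : Type u) [Group G] [Finite G], Nat.card G = 2 * p ^ n →
      Cfsg.IsSupersolvable G := by
  intro n
  induction n using Nat.strong_induction_on with
  | _ n ih =>
    intro G _ _ hcard
    have : Fact p.Prime := ⟨hp⟩
    rcases Nat.eq_zero_or_pos n with hn0 | hnpos
    · subst hn0
      rw [pow_zero, mul_one] at hcard
      have : Fact (Nat.Prime 2) := ⟨Nat.prime_two⟩
      have := isCyclic_of_prime_card hcard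
      exact isSupersolvable_of_isCyclic
    · let P : Sylow p G := default
      have hnd : ¬ p ∣ 2 := fun h => hp2 ((Nat.prime_dvd_prime_iff_eq hp Nat.prime_two).1 h)
      have hfac : (Nat.card G).factorization p = n := by
        rw [hcard, Nat.factorization_mul (by norm_num) (pow_ne_zero _ hp.ne_zero),
          Finsupp.add_apply, Nat.factorization_eq_zero_of_not_dvd hnd,
          hp.factorization_pow, Finsupp.single_eq_same, zero_add]
      have hcardP : Nat.card P = p ^ n := by
        rw [Sylow.card_eq_multiplicity, hfac]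
      have hidx : (P : Subgroup G).index = 2 := by
        have h1 : Nat.card (P : Subgroup G) * (P : Subgroup G).index = Nat.card G :=
          Subgroup.card_mul_index _
        rw [hcardP, hcard, mul_comm 2] at h1
        exact Nat.eq_of_mul_eq_mul_left (pow_pos hp.pos n) h1
      have hPnt : Nontrivial (P : Subgroup G) := by
        rw [← Finite.one_lt_card_iff_nontrivial, hcardP]
        exact Nat.one_lt_pow hnpos.ne' hp.one_lt
      have hcnt := P.isPGroup'.center_nontrivial
      obtain ⟨⟨z, hz⟩, hz1⟩ := exists_ne (1 : Subgroup.center (P : Subgroup G))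
      have hx1 : (z : G) ≠ 1 := by
        intro h
        apply hz1
        apply Subtype.ext
        apply Subtype.ext
        exact h
      have hxc : ∀ q ∈ (P : Subgroup G), q * (z : G) = (z : G) * q := by
        intro q hq
        rw [Subgroup.mem_center_iff] at hz
        have := hz ⟨q, hq⟩
        exact congrArg Subtype.val this
      obtain ⟨c, hcP, hc1, hcn⟩ :=
        exists_normal_zpowers_of_index_two (P : Subgroup G) hidx (z : G) z.2 hx1 hxc
      have hdvd : Nat.card (zpowers c) ∣ p ^ n := by
        rw [← hcardP]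
        exact Subgroup.card_dvd_of_le (Subgroup.zpowers_le.2 hcP)
      obtain ⟨j, hjn, hj⟩ := (Nat.dvd_prime_pow hp).1 hdvd
      have hj0 : j ≠ 0 := by
        rintro rfl
        rw [pow_zero, Subgroup.card_eq_one, Subgroup.zpowers_eq_bot] at hj
        exact hc1 hj
      have hq : Nat.card (G ⧸ zpowers c) = 2 * p ^ (n - j) := by
        have h1 : Nat.card G = Nat.card (G ⧸ zpowers c) * Nat.card (zpowers c) :=
          Subgroup.card_eq_card_quotient_mul_card_subgroup _
        rw [hcard, hj] at h1
        have h2 : 2 * p ^ n = (2 * p ^ (n - j)) * p ^ j := by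
          rw [mul_assoc, ← pow_add, Nat.sub_add_cancel hjn]
        rw [h2] at h1
        exact (Nat.eq_of_mul_eq_mul_right (pow_pos hp.pos j) h1).symm
      apply isSupersolvable_of_quotient_zpowers c hcn
      exact ih (n - j) (by omega) (G ⧸ zpowers c) hq

/-- A finite group whose order is twice a prime power is supersolvable. -/
theorem isSupersolvable_of_card_two_mul_prime_pow {G : Type u} [Group G] [Finite G] (p n : ℕ)
    (hp : p.Prime) (hG : Nat.card G = 2 * p ^ n) : Cfsg.IsSupersolvable G := by
  by_cases hp2 : p = 2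
  · subst hp2
    have : Fact (Nat.Prime 2) := ⟨Nat.prime_two⟩
    apply isSupersolvable_of_isPGroup 2
    apply IsPGroup.of_card (n := n + 1)
    rw [hG, pow_succ, mul_comm]
  · exact isSupersolvable_of_card_two_mul_prime_pow_aux p hp hp2 n G hG

end Cfsg.Agent.Lib.Helper9_Supersolvable4
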