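import Mathlib
import Cfsg.Prelude.Def_SolvableStructure
import Cfsg.Agent.Lib.Helper9_Supersolvable
import Cfsg.Agent.Lib.Helper9_Supersolvable2
import Cfsg.Agent.Lib.Helper9_Supersolvable3
import Cfsg.Agent.Lib.Helper9_Supersolvable4
import Cfsg.Agent.Lib.Helper9_CLT

set_option autoImplicit false

namespace Cfsg.Agent.Lib.Helper9_CLT2

open Cfsg.Agent.Lib.Helper9_Supersolvable Cfsg.Agent.Lib.Helper9_Supersolvable2
  Cfsg.Agent.Lib.Helper9_Supersolvable3 Cfsg.Agent.Lib.Helper9_Supersolvable4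
  Cfsg.Agent.Lib.Helper9_CLT

universe u

variable {G : Type*} [Group G]

theorem le_normalizer_of_conj_mem (K X : Subgroup G)
    (h : ∀ k ∈ K, ∀ x ∈ X, k * x * k⁻¹ ∈ X) : K ≤ Subgroup.normalizer (X : Set G) := by
  intro k hk
  rw [Subgroup.mem_normalizer_iff]
  intro x
  constructor
  · exact h k hk x
  · intro hx
    have := h k⁻¹ (K.inv_mem hk) _ hx
    simpa [mul_assoc] using this

theorem normal_of_sup_eq_top (H P X : Subgroup G) (htop : H ⊔ P = ⊤)
    (hH : ∀ k ∈ H, ∀ x ∈ X, k * x * k⁻¹ ∈ X) (hP : ∀ k ∈ P, ∀ x ∈ X, k * x * k⁻¹ ∈ X) :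
    X.Normal := by
  rw [← Subgroup.normalizer_eq_top_iff, eq_top_iff, ← htop]
  exact sup_le (le_normalizer_of_conj_mem H X hH) (le_normalizer_of_conj_mem P X hP)

theorem card_sup_of_inf_eq_bot [Finite G] (L N : Subgroup G) [N.Normal] (h : L ⊓ N = ⊥) :
    Nat.card (L ⊔ N : Subgroup G) = Nat.card L * Nat.card N := by
  have h1 : N.relIndex (L ⊔ N) = N.relIndex L := Subgroup.relIndex_sup_right L N
  have h0 : N.relIndex L = Nat.card L := by
    rw [← Subgroup.inf_relIndex_right, inf_comm, h, Subgroup.relIndex_bot_left]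
  rw [h0] at h1
  have h2 : (⊥ : Subgroup G).relIndex N * N.relIndex (L ⊔ N) = (⊥ : Subgroup G).relIndex (L ⊔ N) :=
    Subgroup.relIndex_mul_relIndex ⊥ N (L ⊔ N) bot_le le_sup_right
  rw [Subgroup.relIndex_bot_left, Subgroup.relIndex_bot_left, h1] at h2
  rw [← h2, mul_comm]

/-- A nontrivial normal subgroup of a finite `p`-group contains a nontrivial central element. -/
theorem exists_mem_center_of_normal_ne_bot {P : Type*} [Group P] [Finite P] (p : ℕ)
    [Fact p.Prime] (hP : IsPGroup p P) (N : Subgroup P) [N.Normal] (hN : N ≠ ⊥) :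
    ∃ z ∈ N, z ≠ 1 ∧ z ∈ Subgroup.center P := by
  have hNnt : Nontrivial N := (Subgroup.nontrivial_iff_ne_bot N).2 hN
  have hpN : p ∣ Nat.card N := by
    obtain ⟨n, hn0, hn⟩ := (hP.to_subgroup N).nontrivial_iff_card.mp hNnt
    rw [hn]
    exact dvd_pow_self _ hn0.ne'
  have h1 : (1 : N) ∈ MulAction.fixedPoints (ConjAct P) N := by
    intro g
    exact smul_one g
  obtain ⟨b, hb, hb1⟩ :=
    (hP.of_equiv ConjAct.toConjAct).exists_fixed_point_of_prime_dvd_card_of_fixed_point N hpN h1
  refine ⟨b, b.2, ?_, ?_⟩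
  · intro h
    exact hb1 (Subtype.ext h.symm)
  · rw [Subgroup.mem_center_iff]
    intro g
    have h2 := hb (ConjAct.toConjAct g)
    have h3 : ((ConjAct.toConjAct g • b : N) : P) = g * b * g⁻¹ := by
      rw [ConjAct.Subgroup.val_conj_smul, ConjAct.smul_def]
      simp
    rw [h2] at h3
    calc g * b = (g * b * g⁻¹) * g := by group
      _ = b * g := by rw [← h3]

/-- A minimal normal subgroup of `G` inside a normal `p`-subgroup `P` is centralized by `P`. -/
theorem exists_minimal_normal_le [Finite G] (P : Subgroup G) [P.Normal] (hP : P ≠ ⊥) :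
    ∃ N : Subgroup G, N.Normal ∧ N ≠ ⊥ ∧ N ≤ P ∧
      ∀ N' : Subgroup G, N'.Normal → N' ≠ ⊥ → N' ≤ N → N' = N := by
  classical
  have hex : ∃ k : ℕ, ∃ N : Subgroup G, N.Normal ∧ N ≠ ⊥ ∧ N ≤ P ∧ Nat.card N = k :=
    ⟨Nat.card P, P, inferInstance, hP, le_rfl, rfl⟩
  obtain ⟨N, hNn, hN0, hNP, hNc⟩ := Nat.find_spec hex
  refine ⟨N, hNn, hN0, hNP, ?_⟩
  intro N' hN'n hN'0 hN'N
  apply Subgroup.eq_of_le_of_card_ge hN'N
  rw [hNc]
  exact Nat.find_min' hex ⟨N', hN'n, hN'0, hN'N.trans hNP, rfl⟩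

theorem minimal_normal_le_centralizer [Finite G] (p : ℕ) [Fact p.Prime] (P N : Subgroup G)
    [hPn : P.Normal] (hP : IsPGroup p P) [hNn : N.Normal] (hN0 : N ≠ ⊥) (hNP : N ≤ P)
    (hmin : ∀ N' : Subgroup G, N'.Normal → N' ≠ ⊥ → N' ≤ N → N' = N) :
    N ≤ Subgroup.centralizer (P : Set G) := by
  have hsub : N.subgroupOf P ≠ ⊥ := by
    intro h
    rw [Subgroup.subgroupOf_eq_bot, disjoint_iff, inf_of_le_left hNP] at h
    exact hN0 h
  obtain ⟨z, hzN, hz1, hzc⟩ := exists_mem_center_of_normal_ne_bot p hP (N.subgroupOf P) hsub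
  have hN' : (N ⊓ Subgroup.centralizer (P : Set G)).Normal := inferInstance
  have hne : N ⊓ Subgroup.centralizer (P : Set G) ≠ ⊥ := by
    intro h
    have hz : (z : G) ∈ N ⊓ Subgroup.centralizer (P : Set G) := by
      refine ⟨hzN, ?_⟩
      change (z : G) ∈ Subgroup.centralizer (P : Set G)
      rw [Subgroup.mem_centralizer_iff]
      intro x hx
      rw [Subgroup.mem_center_iff] at hzc
      have := hzc ⟨x, hx⟩
      exact congrArg Subtype.val this
    rw [h, Subgroup.mem_bot] at hz
    exact hz1 (Subtype.ext hz)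
  have := hmin _ hN' hne inf_le_left
  rw [← this]
  exact inf_le_right


theorem conj_eq_of_mem_centralizer {P : Subgroup G} {x k : G}
    (hx : x ∈ Subgroup.centralizer (P : Set G)) (hk : k ∈ P) : k * x * k⁻¹ = x := by
  rw [Subgroup.mem_centralizer_iff] at hx
  rw [hx k hk, mul_inv_cancel_right]

/-- Step 1: a nontrivial finite group all of whose subgroups satisfy the converse of Lagrange's
theorem and all of whose proper subgroups are supersolvable has a normal subgroup of prime
order. -/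
theorem exists_normal_prime_of_HCLT {G : Type u} [Group G] [Finite G] [Nontrivial G]
    (h : HCLT G) (hprop : ∀ K : Subgroup G, K ≠ ⊤ → Cfsg.IsSupersolvable K) :
    ∃ N : Subgroup G, N.Normal ∧ (Nat.card N).Prime := by
  have hn1 : 1 < Nat.card G := Finite.one_lt_card
  have hne : (Nat.card G).primeFactors.Nonempty := Nat.nonempty_primeFactors.2 hn1
  obtain ⟨p, hpmem, hpmax⟩ := Finset.exists_max_image (Nat.card G).primeFactors id hne
  have hp : p.Prime := Nat.prime_of_mem_primeFactors hpmem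
  have hpn : p ∣ Nat.card G := Nat.dvd_of_mem_primeFactors hpmem
  have hmax : ∀ q : ℕ, q.Prime → q ∣ Nat.card G → q ≤ p := by
    intro q hq hqn
    exact hpmax q (Nat.mem_primeFactors.2 ⟨hq, hqn, by omega⟩)
  have : Fact p.Prime := ⟨hp⟩
  let P : Sylow p G := default
  have hPn : (P : Subgroup G).Normal := normal_sylow_largest_prime h p hpn hmax P
  have hP0 : (P : Subgroup G) ≠ ⊥ := P.ne_bot_of_dvd_card hpn
  obtain ⟨N, hNn, hN0, hNP, hmin⟩ := exists_minimal_normal_le (P : Subgroup G) hP0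
  have hNc : N ≤ Subgroup.centralizer ((P : Subgroup G) : Set G) :=
    minimal_normal_le_centralizer p (P : Subgroup G) N P.isPGroup' hN0 hNP hmin
  obtain ⟨m, hm⟩ := hpn
  have hm0 : 0 < m := by
    rcases Nat.eq_zero_or_pos m with h0 | h0
    · rw [h0, mul_zero] at hm; omega
    · exact h0
  obtain ⟨H, hH⟩ := h.self m (by rw [hm]; exact dvd_mul_left _ _)
  have hHidx : H.index = p := by
    have h1 : H.index * Nat.card H = Nat.card G := Subgroup.index_mul_card H
    rw [hH, hm] at h1
    exact Nat.eq_of_mul_eq_mul_right hm0 h1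
  have hPH : ¬ (P : Subgroup G) ≤ H := by
    intro hle
    have := Subgroup.index_dvd_of_le hle
    rw [hHidx] at this
    exact P.not_dvd_index this
  have htop : H ⊔ (P : Subgroup G) = ⊤ := by
    have h1 : (H ⊔ (P : Subgroup G)).index ∣ H.index := Subgroup.index_dvd_of_le le_sup_left
    rw [hHidx] at h1
    rcases (Nat.dvd_prime hp).1 h1 with h2 | h2
    · exact Subgroup.index_eq_one.1 h2
    · exfalso
      have h3 : H.relIndex (H ⊔ (P : Subgroup G)) * (H ⊔ (P : Subgroup G)).index = H.index :=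
        Subgroup.relIndex_mul_index le_sup_left
      rw [h2, hHidx] at h3
      have h4 : H.relIndex (H ⊔ (P : Subgroup G)) = 1 := by
        have : H.relIndex (H ⊔ (P : Subgroup G)) * p = 1 * p := by rw [h3, one_mul]
        exact Nat.eq_of_mul_eq_mul_right hp.pos this
      rw [Subgroup.relIndex_eq_one] at h4
      exact hPH (le_sup_right.trans h4)
  have hXn : (H ⊓ N).Normal := by
    apply normal_of_sup_eq_top H (P : Subgroup G) (H ⊓ N) htop
    · intro k hk x hx
      exact ⟨H.mul_mem (H.mul_mem hk hx.1) (H.inv_mem hk), hNn.conj_mem x hx.2 k⟩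
    · intro k hk x hx
      rw [conj_eq_of_mem_centralizer (hNc hx.2) hk]
      exact hx
  by_cases hX : H ⊓ N = ⊥
  · refine ⟨N, hNn, ?_⟩
    have h1 : Nat.card (H ⊔ N : Subgroup G) = Nat.card H * Nat.card N :=
      card_sup_of_inf_eq_bot H N hX
    have h2 : Nat.card (H ⊔ N : Subgroup G) ∣ Nat.card G := Subgroup.card_subgroup_dvd_card _
    rw [h1, hH, hm, mul_comm p m] at h2
    have h3 : Nat.card N ∣ p := Nat.dvd_of_mul_dvd_mul_left hm0 h2
    rcases (Nat.dvd_prime hp).1 h3 with h4 | h4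
    · exact absurd (Subgroup.card_eq_one.1 h4) hN0
    · rw [h4]; exact hp
  · have hNH : N ≤ H := by
      have := hmin _ hXn hX inf_le_right
      rw [← this]
      exact inf_le_left
    have hHtop : H ≠ ⊤ := by
      intro h1
      rw [h1, Subgroup.index_top] at hHidx
      exact hp.one_lt.ne hHidx
    have hSS := hprop H hHtop
    have hM0 : N.subgroupOf H ≠ ⊥ := by
      intro h1
      rw [Subgroup.subgroupOf_eq_bot, disjoint_iff, inf_of_le_left hNH] at h1
      exact hN0 h1
    obtain ⟨N₁', hle, hn', hprime⟩ := exists_normal_prime_le hSS (N.subgroupOf H) hM0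
    have hN₁N : N₁'.map H.subtype ≤ N := by
      rintro _ ⟨y, hy, rfl⟩
      exact hle hy
    have hN₁n : (N₁'.map H.subtype).Normal := by
      apply normal_of_sup_eq_top H (P : Subgroup G) _ htop
      · rintro k hk _ ⟨y, hy, rfl⟩
        exact ⟨⟨k, hk⟩ * y * ⟨k, hk⟩⁻¹, hn'.conj_mem y hy ⟨k, hk⟩, rfl⟩
      · intro k hk x hx
        rw [conj_eq_of_mem_centralizer (hNc (hN₁N hx)) hk]
        exact hx
    have hcard : Nat.card (N₁'.map H.subtype) = Nat.card N₁' :=
      Subgroup.card_map_of_injective H.subtype_injective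
    have hN₁0 : N₁'.map H.subtype ≠ ⊥ := by
      apply ne_bot_of_card_prime
      rw [hcard]; exact hprime
    have heq := hmin _ hN₁n hN₁0 hN₁N
    refine ⟨N, hNn, ?_⟩
    rw [← heq, hcard]
    exact hprime


theorem map_mk'_self (N : Subgroup G) [N.Normal] : N.map (QuotientGroup.mk' N) = ⊥ := by
  rw [← le_bot_iff]
  rintro _ ⟨a, ha, rfl⟩
  rw [Subgroup.mem_bot]
  exact (QuotientGroup.eq_one_iff a).2 ha

/-- In a group satisfying the hypotheses of Step 2 (no proper supplement of `N`), every subgroup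
`H ≥ N` has, for each `d` with `|N| * d ∣ |H|`, a subgroup of order `|N| * d` containing `N`. -/
theorem exists_between_of_HCLT {G : Type u} [Group G] [Finite G] (h : HCLT G)
    (hprop : ∀ K : Subgroup G, K ≠ ⊤ → Cfsg.IsSupersolvable K)
    (N : Subgroup G) [hNn : N.Normal] (hN : (Nat.card N).Prime)
    (hex : ∀ L₀ : Subgroup G, L₀ ⊔ N = ⊤ → L₀ = ⊤)
    (H : Subgroup G) (hNH : N ≤ H) (d : ℕ) (hd : Nat.card N * d ∣ Nat.card H) :
    ∃ L : Subgroup G, N ≤ L ∧ L ≤ H ∧ Nat.card L = Nat.card N * d := by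
  obtain ⟨L₀', hL₀'⟩ := h H _ hd
  have hL₀H : L₀'.map H.subtype ≤ H := Subgroup.map_subtype_le L₀'
  have hL₀c : Nat.card (L₀'.map H.subtype) = Nat.card N * d := by
    rw [Subgroup.card_map_of_injective H.subtype_injective, hL₀']
  set L₀ := L₀'.map H.subtype with hL₀
  by_cases hNL : N ≤ L₀
  · exact ⟨L₀, hNL, hL₀H, hL₀c⟩
  · have hinf : L₀ ⊓ N = ⊥ := by
      have hdvd : Nat.card (L₀ ⊓ N : Subgroup G) ∣ Nat.card N :=
        Subgroup.card_dvd_of_le inf_le_right
      rcases (Nat.dvd_prime hN).1 hdvd with h1 | h1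
      · exact Subgroup.card_eq_one.1 h1
      · exfalso
        apply hNL
        have : L₀ ⊓ N = N := by
          apply Subgroup.eq_of_le_of_card_ge inf_le_right
          rw [h1]
        rw [← this]
        exact inf_le_left
    have hL₁top : L₀ ⊔ N ≠ ⊤ := by
      intro h1
      have := hex L₀ h1
      apply hNL
      rw [this]
      exact le_top
    have hL₁c : Nat.card (L₀ ⊔ N : Subgroup G) = Nat.card N * d * Nat.card N := by
      rw [card_sup_of_inf_eq_bot L₀ N hinf, hL₀c]
    have hL₁H : L₀ ⊔ N ≤ H := sup_le hL₀H hNH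
    have hSS := hprop _ hL₁top
    set L₁ := L₀ ⊔ N with hL₁
    have hN₁n : (N.subgroupOf L₁).Normal := inferInstance
    have hN₁c : Nat.card (N.subgroupOf L₁) = Nat.card N :=
      Nat.card_congr (Subgroup.subgroupOfEquivOfLe (le_sup_right : N ≤ L₁)).toEquiv
    have hqc : Nat.card (L₁ ⧸ N.subgroupOf L₁) = Nat.card N * d := by
      have h1 : Nat.card L₁ = Nat.card (L₁ ⧸ N.subgroupOf L₁) * Nat.card (N.subgroupOf L₁) :=
        Subgroup.card_eq_card_quotient_mul_card_subgroup _
      rw [hL₁c, hN₁c] at h1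
      exact (Nat.eq_of_mul_eq_mul_right hN.pos h1).symm
    have hSSq := isSupersolvable_quotient (N.subgroupOf L₁) hSS
    obtain ⟨D', hD'⟩ := hasSubgroupOfEveryOrder hSSq d (by rw [hqc]; exact dvd_mul_left _ _)
    set D := D'.comap (QuotientGroup.mk' (N.subgroupOf L₁)) with hD
    have hDc : Nat.card D = Nat.card N * d := by
      rw [hD, card_comap_mk', hN₁c, hD']
    have hND : N.subgroupOf L₁ ≤ D := le_comap_mk' _ D'
    refine ⟨D.map L₁.subtype, ?_, ?_, ?_⟩
    · intro x hx
      have hx₁ : x ∈ L₁ := (le_sup_right : N ≤ L₁) hx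
      exact ⟨⟨x, hx₁⟩, hND hx, rfl⟩
    · exact (Subgroup.map_subtype_le D).trans hL₁H
    · rw [Subgroup.card_map_of_injective L₁.subtype_injective, hDc]

/-- Step 2. -/
theorem isSupersolvable_quotient_of_HCLT {G : Type u} [Group G] [Finite G] (h : HCLT G)
    (hprop : ∀ K : Subgroup G, K ≠ ⊤ → Cfsg.IsSupersolvable K)
    (ih : ∀ (G' : Type u) [Group G'] [Finite G'], Nat.card G' < Nat.card G → HCLT G' →
      Cfsg.IsSupersolvable G')
    (N : Subgroup G) [hNn : N.Normal] (hN : (Nat.card N).Prime) :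
    Cfsg.IsSupersolvable (G ⧸ N) := by
  by_cases hex : ∃ L₀ : Subgroup G, L₀ ≠ ⊤ ∧ L₀ ⊔ N = ⊤
  · obtain ⟨L₀, hL₀, htop⟩ := hex
    let f : L₀ →* G ⧸ N := (QuotientGroup.mk' N).comp L₀.subtype
    have hf : Function.Surjective f := by
      rw [← MonoidHom.range_eq_top, MonoidHom.range_comp, Subgroup.range_subtype]
      have h1 : (L₀ ⊔ N).map (QuotientGroup.mk' N) = ⊤ := by
        rw [htop, Subgroup.map_top_of_surjective _ (QuotientGroup.mk'_surjective N)]
      rwa [Subgroup.map_sup, map_mk'_self, sup_bot_eq] at h1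
    exact isSupersolvable_of_surjective f hf (hprop L₀ hL₀)
  · push Not at hex
    have hex' : ∀ L₀ : Subgroup G, L₀ ⊔ N = ⊤ → L₀ = ⊤ := by
      intro L₀ h1
      by_contra h2
      exact hex L₀ h2 h1
    apply ih (G ⧸ N) (card_quotient_lt N (ne_bot_of_card_prime hN))
    intro Hbar d hd
    set H := Hbar.comap (QuotientGroup.mk' N) with hH
    have hHc : Nat.card H = Nat.card N * Nat.card Hbar := card_comap_mk' N Hbar
    have hNH : N ≤ H := le_comap_mk' N Hbar
    obtain ⟨L, hNL, hLH, hLc⟩ := exists_between_of_HCLT h hprop N hN hex' H hNH d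
      (by rw [hHc]; exact mul_dvd_mul_left _ hd)
    have hLbar : L.map (QuotientGroup.mk' N) ≤ Hbar := by
      rw [Subgroup.map_le_iff_le_comap]; exact hLH
    have hLbarc : Nat.card (L.map (QuotientGroup.mk' N)) = d := by
      have h1 : (L.map (QuotientGroup.mk' N)).comap (QuotientGroup.mk' N) = L := by
        apply Subgroup.comap_map_eq_self
        rw [QuotientGroup.ker_mk']; exact hNL
      have h2 := card_comap_mk' N (L.map (QuotientGroup.mk' N))
      rw [h1, hLc] at h2
      exact (Nat.eq_of_mul_eq_mul_left hN.pos h2).symm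
    refine ⟨(L.map (QuotientGroup.mk' N)).subgroupOf Hbar, ?_⟩
    rw [Nat.card_congr (Subgroup.subgroupOfEquivOfLe hLbar).toEquiv, hLbarc]

theorem isSupersolvable_of_HCLT_aux : ∀ (n : ℕ) (G : Type u) [Group G] [Finite G],
    Nat.card G = n → HCLT G → Cfsg.IsSupersolvable G := by
  intro n
  induction n using Nat.strong_induction_on with
  | _ n ih =>
    intro G _ _ hcard h
    rcases subsingleton_or_nontrivial G with hs | hnt
    · exact isSupersolvable_of_subsingleton
    · have hprop : ∀ K : Subgroup G, K ≠ ⊤ → Cfsg.IsSupersolvable K := by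
        intro K hK
        refine ih (Nat.card K) ?_ K rfl (h.subgroup K)
        rw [← hcard]
        by_contra hlt
        exact hK (Subgroup.eq_top_of_le_card K (not_lt.1 hlt))
      obtain ⟨N, hNn, hNp⟩ := exists_normal_prime_of_HCLT h hprop
      have hq : Cfsg.IsSupersolvable (G ⧸ N) := by
        apply isSupersolvable_quotient_of_HCLT h hprop _ N hNp
        intro G' _ _ hlt hG'
        exact ih (Nat.card G') (by rw [← hcard]; exact hlt) G' rfl hG'
      have : Fact (Nat.card N).Prime := ⟨hNp⟩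
      have hcyc : IsCyclic N := isCyclic_of_prime_card rfl
      exact isSupersolvable_of_quotient_cyclic N hq

/-- If every subgroup of a finite group has subgroups of all orders dividing its order, then the
group is supersolvable. -/
theorem isSupersolvable_of_HCLT {G : Type u} [Group G] [Finite G] (h : HCLT G) :
    Cfsg.IsSupersolvable G :=
  isSupersolvable_of_HCLT_aux (Nat.card G) G rfl h

end Cfsg.Agent.Lib.Helper9_CLT2
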