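import Mathlib
import Cfsg.Agent.Lib.Helper35_FrobeniusNPC
import Cfsg.Agent.S0536

/-!
# Corollaries of Frobenius' normal p-complement theorem

* `card_modEq_card_inf_centralizer`: an `r`-group `Z` normalizing a finite subgroup `Q` fixes
  `|Q|` points modulo `r`.
* `exists_primePow_of_not_hasNPC`: without a normal `p`-complement there are a `p`-subgroup `Q`
  and an element `h` of prime power order `r ^ k`, `r ≠ p`, normalizing but not centralizing `Q`.
-/

set_option autoImplicit false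

namespace Cfsg.Agent.Lib.Helper35_FrobeniusCor

open Cfsg.Agent.Lib.Helper35_FrobeniusNPC Subgroup

variable {G : Type*} [Group G]

/-- conjugation action of a subgroup `Z ≤ N(Q)` on `Q` -/
@[reducible] def conjActOn (Q Z : Subgroup G) (hZ : Z ≤ normalizer (Q : Set G)) :
    MulAction ↥Z ↥Q where
  smul z x := ⟨z * x * z⁻¹, (Subgroup.mem_normalizer_iff.mp (hZ z.2) x).mp x.2⟩
  one_smul x := by
    apply Subtype.ext
    change ((1 : ↥Z) : G) * x * ((1 : ↥Z) : G)⁻¹ = x
    simp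
  mul_smul a b x := by
    apply Subtype.ext
    change ((a * b : ↥Z) : G) * x * ((a * b : ↥Z) : G)⁻¹ = (a : G) * ((b : G) * x * (b : G)⁻¹) * (a : G)⁻¹
    simp [mul_assoc]

theorem card_modEq_card_inf_centralizer {r : ℕ} [Fact r.Prime] (Q Z : Subgroup G) [Finite ↥Q]
    (hZr : IsPGroup r Z) (hZ : Z ≤ normalizer (Q : Set G)) :
    Nat.card ↥Q ≡ Nat.card ↥(Q ⊓ centralizer (Z : Set G) : Subgroup G) [MOD r] := by
  let _ := conjActOn Q Z hZ
  have h := hZr.card_modEq_card_fixedPoints (α := ↥Q)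
  refine h.trans (congrArg (· % r) ?_) -- fixed points ≃ Q ⊓ C(Z)
  refine Nat.card_congr ⟨fun x => ⟨x.1.1, ⟨x.1.2, ?_⟩⟩, fun y => ⟨⟨y.1, y.2.1⟩, ?_⟩, ?_, ?_⟩
  · change (x.1 : G) ∈ centralizer (Z : Set G)
    rw [Subgroup.mem_centralizer_iff]
    intro z hz
    have := congrArg Subtype.val (x.2 ⟨z, hz⟩)
    change z * (x.1 : G) * z⁻¹ = x.1 at this
    rw [mul_inv_eq_iff_eq_mul] at this
    exact this
  · intro z
    apply Subtype.ext
    change (z : G) * y.1 * (z : G)⁻¹ = y.1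
    have := (Subgroup.mem_centralizer_iff.mp y.2.2) z z.2
    rw [mul_inv_eq_iff_eq_mul]
    exact this
  · intro x; rfl
  · intro y; rfl

/-- Without a normal `p`-complement there are a `p`-subgroup `Q` of order `p ^ b` and an element
`h` of prime power order `r ^ k` (`r ≠ p`, `k ≠ 0`) normalizing but not centralizing `Q`; moreover
`r ∣ p ^ b - p ^ c` for some `c < b` (namely `p ^ c = |C_Q(h)|`). -/
theorem exists_primePow_of_not_hasNPC [Finite G] {p : ℕ} [Fact p.Prime] (hn : ¬ HasNPC p G) :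
    ∃ (Q : Subgroup G) (r k : ℕ) (h : G) (b c : ℕ), IsPGroup p Q ∧ r.Prime ∧ r ≠ p ∧ k ≠ 0 ∧
      orderOf h = r ^ k ∧ h ∈ normalizer (Q : Set G) ∧ h ∉ centralizer (Q : Set G) ∧
      c < b ∧ Nat.card ↥Q = p ^ b ∧ r ∣ p ^ b - p ^ c := by
  classical
  have hp : p.Prime := Fact.out
  have h2 : ¬ FrobHyp p G := fun hF => hn (hasNPC_of_frobHyp hF)
  unfold FrobHyp at h2
  push Not at h2
  obtain ⟨Q, hQ, g, hgN, hgc, hgC⟩ := h2
  obtain ⟨r, k, h, hr, hoh, hhN, hhc, hhC⟩ :=
    Cfsg.Agent.S0536.exists_prime_pow_order p Q _ g rfl hgN hgc hgC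
  have : Fact r.Prime := ⟨hr⟩
  have hk0 : k ≠ 0 := by
    intro h0
    rw [h0, pow_zero, orderOf_eq_one_iff] at hoh
    exact hhC (hoh ▸ one_mem _)
  have hrp : r ≠ p := by
    intro hEq
    rw [hoh, hEq] at hhc
    have : p ∣ Nat.gcd (p ^ k) p := Nat.dvd_gcd (dvd_pow_self p hk0) dvd_rfl
    rw [hhc] at this
    exact hp.one_lt.ne' (Nat.dvd_one.mp this)
  set Z : Subgroup G := Subgroup.zpowers h with hZ
  have hZcard : Nat.card Z = r ^ k := by rw [hZ, Nat.card_zpowers, hoh]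
  have hZr : IsPGroup r Z := IsPGroup.of_card hZcard
  have hZN : Z ≤ normalizer (Q : Set G) := by rw [hZ, Subgroup.zpowers_le]; exact hhN
  have hmod := card_modEq_card_inf_centralizer Q Z hZr hZN
  set F : Subgroup G := Q ⊓ centralizer (Z : Set G) with hF
  have hFQ : F ≤ Q := inf_le_left
  have hFp : IsPGroup p F := hQ.to_le hFQ
  obtain ⟨b, hb⟩ := (IsPGroup.iff_card (p := p)).mp hQ
  obtain ⟨c, hc⟩ := (IsPGroup.iff_card (p := p)).mp hFp
  have hne : F ≠ Q := by
    intro hEq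
    apply hhC
    rw [Subgroup.mem_centralizer_iff]
    intro x hx
    have hxF : x ∈ F := hEq ▸ hx
    have := (Subgroup.mem_centralizer_iff.mp hxF.2) h (Subgroup.mem_zpowers h)
    exact this.symm
  have hcb : c < b := by
    have hdvd : Nat.card F ∣ Nat.card Q := Subgroup.card_dvd_of_le hFQ
    rw [hb, hc] at hdvd
    have hle : c ≤ b := (Nat.pow_dvd_pow_iff_le_right hp.one_lt).mp hdvd
    rcases lt_or_eq_of_le hle with hlt | heq
    · exact hlt
    · exfalso
      apply hne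
      apply Subgroup.eq_of_le_of_card_ge hFQ
      rw [hb, hc, heq]
  refine ⟨Q, r, k, h, b, c, hQ, hr, hrp, hk0, hoh, hhN, hhC, hcb, hb, ?_⟩
  rw [hb, hc] at hmod
  exact (Nat.modEq_iff_dvd' (Nat.pow_le_pow_right hp.pos hcb.le)).mp hmod.symm

end Cfsg.Agent.Lib.Helper35_FrobeniusCor
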