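import Mathlib
import Cfsg.Agent.Lib.Helper35_FrobeniusCor

/-!
# `p'`-automorphisms of `p`-groups (inside an ambient group)

* `exists_normal_index_prime`: a nontrivial finite `p`-group has a normal subgroup of index `p`.
* `exists_invariant_lt`: a nontrivial finite `p`-subgroup `Q` normalized by `Z` has a proper
  `Z`-invariant subgroup containing all `p`-th powers and all commutators of `Q`.
* `commute_of_conj_eq_mul`: stability: `h x h⁻¹ = x c`, `h` commutes with `c`, coprime orders.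
* `mem_centralizer_of_commute_omega`: a `p'`-element normalizing `Q` and centralizing all elements
  with `x ^ e = 1` (`e = p` for odd `p`, `e = 4` for `p = 2`) centralizes `Q`.
-/

set_option autoImplicit false

namespace Cfsg.Agent.Lib.Helper35_PGroupAut

open Cfsg.Agent.Lib.Helper35_FrobeniusNPC Cfsg.Agent.Lib.Helper35_FrobeniusCor Subgroup
open scoped commutatorElement Pointwise

/-- a nontrivial finite `p`-group has a normal subgroup of index `p` -/
theorem exists_normal_index_prime {p : ℕ} [hp : Fact p.Prime] {Q : Type*} [Group Q] [Finite Q]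
    (hQ : IsPGroup p Q) [Nontrivial Q] : ∃ K : Subgroup Q, K.Normal ∧ K.index = p := by
  obtain ⟨b, hb0, hb⟩ := hQ.nontrivial_iff_card.mp ‹_›
  obtain ⟨b', rfl⟩ : ∃ b', b = b' + 1 := ⟨b - 1, by omega⟩
  have hdvd : p ^ b' ∣ Nat.card Q := by rw [hb]; exact pow_dvd_pow p (Nat.le_succ b')
  obtain ⟨K, hK⟩ := Sylow.exists_subgroup_card_pow_prime p hdvd
  have hidx : K.index = p := by
    have h1 := K.index_mul_card
    rw [hK, hb, pow_succ'] at h1
    exact Nat.eq_of_mul_eq_mul_right (pow_pos hp.out.pos b') h1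
  refine ⟨K, ?_, hidx⟩
  apply Subgroup.normal_of_index_eq_minFac_card
  rw [hidx, hb, Nat.Prime.pow_minFac hp.out (Nat.succ_ne_zero b')]

/-- in a group with a normal subgroup `K` of prime index `p`, `p`-th powers lie in `K` -/
theorem pow_mem_of_index_eq {p : ℕ} {Q : Type*} [Group Q] (K : Subgroup Q) [K.Normal]
    (hK : K.index = p) (x : Q) : x ^ p ∈ K := by
  rw [← QuotientGroup.eq_one_iff, QuotientGroup.mk_pow]
  have : Nat.card (Q ⧸ K) = p := by rw [← Subgroup.index_eq_card, hK]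
  rw [← this]
  exact pow_card_eq_one'

/-- in a group with a normal subgroup `K` of prime index, commutators lie in `K` -/
theorem commutator_mem_of_index_eq {p : ℕ} [hp : Fact p.Prime] {Q : Type*} [Group Q]
    (K : Subgroup Q) [K.Normal] (hK : K.index = p) (x y : Q) : ⁅x, y⁆ ∈ K := by
  have hc : Nat.card (Q ⧸ K) = p := by rw [← Subgroup.index_eq_card, hK]
  have : IsCyclic (Q ⧸ K) := isCyclic_of_prime_card hc
  rw [← QuotientGroup.eq_one_iff]
  have h1 : ((⁅x, y⁆ : Q) : Q ⧸ K) = ⁅(x : Q ⧸ K), (y : Q ⧸ K)⁆ := by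
    simp [commutatorElement_def]
  rw [h1, commutatorElement_eq_one_iff_commute]
  obtain ⟨g, hg⟩ := IsCyclic.exists_generator (α := Q ⧸ K)
  obtain ⟨i, hi⟩ := hg (x : Q ⧸ K)
  obtain ⟨j, hj⟩ := hg (y : Q ⧸ K)
  rw [← hi, ← hj]
  exact (Commute.refl g).zpow_zpow i j

variable {G : Type*} [Group G]

theorem mem_map_subtype_iff {Q : Subgroup G} {K : Subgroup ↥Q} {x : G} (hx : x ∈ Q) :
    x ∈ K.map Q.subtype ↔ (⟨x, hx⟩ : ↥Q) ∈ K := by
  constructor
  · rintro ⟨k, hk, rfl⟩
    exact hk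
  · intro h
    exact ⟨⟨x, hx⟩, h, rfl⟩

theorem conj_mem_of_mem_normalizer {Q : Subgroup G} {z x : G} (hz : z ∈ normalizer (Q : Set G))
    (hx : x ∈ Q) : z⁻¹ * x * z ∈ Q := by
  have := (Subgroup.mem_normalizer_iff.mp (inv_mem hz) x).mp hx
  simpa using this

/-- a nontrivial finite `p`-subgroup `Q` normalized by `Z` has a proper `Z`-invariant subgroup
containing all `p`-th powers and commutators of `Q` -/
theorem exists_invariant_lt {p : ℕ} [Fact p.Prime] {Q Z : Subgroup G} [Finite ↥Q]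
    (hQ : IsPGroup p Q) (hne : Q ≠ ⊥) (hZ : Z ≤ normalizer (Q : Set G)) :
    ∃ M : Subgroup G, M ≤ Q ∧ M ≠ Q ∧ Z ≤ normalizer (M : Set G) ∧ (∀ x ∈ Q, x ^ p ∈ M) ∧
      (∀ x ∈ Q, ∀ y ∈ Q, ⁅x, y⁆ ∈ M) := by
  have hnt : Nontrivial ↥Q := (Subgroup.nontrivial_iff_ne_bot Q).mpr hne
  obtain ⟨K, hKn, hKi⟩ := exists_normal_index_prime hQ
  have hp : p.Prime := Fact.out
  set M0 : Subgroup G := K.map Q.subtype with hM0
  have hM0Q : M0 ≤ Q := Subgroup.map_subtype_le K
  let M : Subgroup G := ⨅ z : ↥Z, MulAut.conj (z : G) • M0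
  have hmemM : ∀ x : G, x ∈ M ↔ ∀ z ∈ Z, z⁻¹ * x * z ∈ M0 := by
    intro x
    simp only [M, Subgroup.mem_iInf, mem_conj_smul]
    constructor
    · intro h z hz; exact h ⟨z, hz⟩
    · intro h z; exact h z z.2
  have hMM0 : M ≤ M0 := by
    intro x hx
    have := (hmemM x).mp hx 1 (one_mem Z)
    simpa using this
  refine ⟨M, hMM0.trans hM0Q, ?_, ?_, ?_, ?_⟩
  · intro hEq
    have hK : K = ⊤ := by
      rw [eq_top_iff]
      intro q _
      have hq : (q : G) ∈ M := by rw [hEq]; exact q.2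
      exact (mem_map_subtype_iff q.2).mp (hMM0 hq)
    rw [hK, Subgroup.index_top] at hKi
    exact hp.one_lt.ne hKi
  · intro h hh
    rw [Subgroup.mem_normalizer_iff]
    intro x
    rw [hmemM, hmemM]
    constructor
    · intro hx z hz
      have := hx (h⁻¹ * z) (mul_mem (inv_mem hh) hz)
      have e : (h⁻¹ * z)⁻¹ * x * (h⁻¹ * z) = z⁻¹ * (h * x * h⁻¹) * z := by group
      rwa [e] at this
    · intro hx z hz
      have := hx (h * z) (mul_mem hh hz)
      have e : (h * z)⁻¹ * (h * x * h⁻¹) * (h * z) = z⁻¹ * x * z := by group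
      rwa [e] at this
  · intro x hx
    rw [hmemM]
    intro z hz
    have hy : z⁻¹ * x * z ∈ Q := conj_mem_of_mem_normalizer (hZ hz) hx
    have e : z⁻¹ * x ^ p * z = (z⁻¹ * x * z) ^ p := by
      have := conj_pow (i := p) (a := z⁻¹) (b := x)
      rw [inv_inv] at this
      exact this.symm
    rw [e]
    have h1 : (⟨z⁻¹ * x * z, hy⟩ : ↥Q) ^ p ∈ K := pow_mem_of_index_eq K hKi _
    have h2 : (z⁻¹ * x * z) ^ p ∈ Q := pow_mem hy p
    exact (mem_map_subtype_iff h2).mpr h1
  · intro x hx y hy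
    rw [hmemM]
    intro z hz
    have hx' : z⁻¹ * x * z ∈ Q := conj_mem_of_mem_normalizer (hZ hz) hx
    have hy' : z⁻¹ * y * z ∈ Q := conj_mem_of_mem_normalizer (hZ hz) hy
    have e : z⁻¹ * ⁅x, y⁆ * z = ⁅z⁻¹ * x * z, z⁻¹ * y * z⁆ := by
      simp only [commutatorElement_def]; group
    rw [e]
    have h1 : ⁅(⟨z⁻¹ * x * z, hx'⟩ : ↥Q), ⟨z⁻¹ * y * z, hy'⟩⁆ ∈ K :=
      commutator_mem_of_index_eq K hKi _ _
    have h2 : ⁅z⁻¹ * x * z, z⁻¹ * y * z⁆ ∈ Q := by
      simp only [commutatorElement_def]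
      exact mul_mem (mul_mem (mul_mem hx' hy') (inv_mem hx')) (inv_mem hy')
    exact (mem_map_subtype_iff h2).mpr h1

/-- stability: if `h x h⁻¹ = x c` where `h` commutes with `c` and the orders of `h` and `c` are
coprime then `h` commutes with `x` -/
theorem commute_of_conj_eq_mul {h x c : G} (hc : h * x * h⁻¹ = x * c) (hhc : Commute h c)
    (hcop : (orderOf h).Coprime (orderOf c)) : Commute h x := by
  have key : ∀ k : ℕ, h ^ k * x * (h ^ k)⁻¹ = x * c ^ k := by
    intro k
    induction k with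
    | zero => simp
    | succ k ih =>
      have h1 : h ^ (k + 1) * x * (h ^ (k + 1))⁻¹ = h * (h ^ k * x * (h ^ k)⁻¹) * h⁻¹ := by
        rw [pow_succ']; group
      rw [h1, ih]
      have h2 : h * (x * c ^ k) * h⁻¹ = (h * x * h⁻¹) * (h * c ^ k * h⁻¹) := by group
      rw [h2, hc]
      have h3 : h * c ^ k * h⁻¹ = c ^ k := by
        rw [(hhc.pow_right k).eq]; group
      rw [h3, pow_succ']; group
  have h4 := key (orderOf h)
  rw [pow_orderOf_eq_one] at h4
  simp only [inv_one, mul_one, one_mul] at h4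
  have h5 : c ^ orderOf h = 1 := by
    have := congrArg (fun t => x⁻¹ * t) h4
    simpa using this.symm
  have h6 : orderOf c ∣ orderOf h := orderOf_dvd_of_pow_eq_one h5
  have h7 : orderOf c = 1 := Nat.eq_one_of_dvd_coprimes hcop h6 dvd_rfl
  have h8 : c = 1 := orderOf_eq_one_iff.mp h7
  rw [h8, mul_one] at hc
  show h * x = x * h
  calc h * x = h * x * h⁻¹ * h := by group
    _ = x * h := by rw [hc]

/-- `b ^ n * a = a * b ^ n * k ^ n` when `b * a = a * b * k` and `k` commutes with `b` -/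
theorem pow_mul_comm_of_central {a b k : G} (hk : b * a = a * b * k) (hkb : Commute k b) (n : ℕ) :
    b ^ n * a = a * b ^ n * k ^ n := by
  induction n with
  | zero => simp
  | succ n ih =>
    calc b ^ (n + 1) * a = b * (b ^ n * a) := by rw [pow_succ']; group
      _ = b * (a * b ^ n * k ^ n) := by rw [ih]
      _ = (b * a) * b ^ n * k ^ n := by group
      _ = a * b * k * b ^ n * k ^ n := by rw [hk]
      _ = a * b * (k * b ^ n) * k ^ n := by group
      _ = a * b * (b ^ n * k) * k ^ n := by rw [(hkb.pow_right n).eq]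
      _ = a * b ^ (n + 1) * k ^ (n + 1) := by rw [pow_succ' b, pow_succ' k]; group

/-- the class two power formula: `(a b)^n = a^n b^n k^(n choose 2)` when `b a = a b k` with `k`
commuting with `a` and `b` -/
theorem mul_pow_of_central {a b k : G} (hk : b * a = a * b * k) (hka : Commute k a)
    (hkb : Commute k b) (n : ℕ) : (a * b) ^ n = a ^ n * b ^ n * k ^ n.choose 2 := by
  induction n with
  | zero => simp
  | succ n ih =>
    have h1 := pow_mul_comm_of_central hk hkb n
    have hc2 : (n + 1).choose 2 = n + n.choose 2 := by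
      rw [Nat.choose_succ_succ' n 1, Nat.choose_one_right]
    calc (a * b) ^ (n + 1) = (a * b) ^ n * (a * b) := pow_succ _ _
      _ = a ^ n * b ^ n * k ^ n.choose 2 * (a * b) := by rw [ih]
      _ = a ^ n * b ^ n * (k ^ n.choose 2 * a) * b := by group
      _ = a ^ n * b ^ n * (a * k ^ n.choose 2) * b := by rw [(hka.pow_left (n.choose 2)).eq]
      _ = a ^ n * (b ^ n * a) * (k ^ n.choose 2 * b) := by group
      _ = a ^ n * (a * b ^ n * k ^ n) * (b * k ^ n.choose 2) := by
          rw [h1, (hkb.pow_left (n.choose 2)).eq]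
      _ = a ^ n * a * b ^ n * (k ^ n * b) * k ^ n.choose 2 := by group
      _ = a ^ n * a * b ^ n * (b * k ^ n) * k ^ n.choose 2 := by rw [(hkb.pow_left n).eq]
      _ = a ^ (n + 1) * b ^ (n + 1) * k ^ (n + 1).choose 2 := by
          rw [hc2, pow_add k, pow_succ a, pow_succ b]; group

/-- `⁅u ^ n, v⁆ = ⁅u, v⁆ ^ n` when `⁅u, v⁆` commutes with `u` -/
theorem commutator_pow_left {u v : G} (hc : Commute ⁅u, v⁆ u) (n : ℕ) :
    ⁅u ^ n, v⁆ = ⁅u, v⁆ ^ n := by
  have key : ∀ n : ℕ, u ^ n * v * (u ^ n)⁻¹ = ⁅u, v⁆ ^ n * v := by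
    intro n
    induction n with
    | zero => simp
    | succ n ih =>
      calc u ^ (n + 1) * v * (u ^ (n + 1))⁻¹ = u * (u ^ n * v * (u ^ n)⁻¹) * u⁻¹ := by
            rw [pow_succ']; group
        _ = u * (⁅u, v⁆ ^ n * v) * u⁻¹ := by rw [ih]
        _ = (u * ⁅u, v⁆ ^ n) * v * u⁻¹ := by group
        _ = (⁅u, v⁆ ^ n * u) * v * u⁻¹ := by rw [(hc.pow_left n).eq]
        _ = ⁅u, v⁆ ^ n * (u * v * u⁻¹ * v⁻¹) * v := by group
        _ = ⁅u, v⁆ ^ (n + 1) * v := by rw [← commutatorElement_def, pow_succ]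
  rw [commutatorElement_def, key n]; group

theorem card_lt_of_le_of_ne {H K : Subgroup G} [Finite ↥K] (hle : H ≤ K) (hne : H ≠ K) :
    Nat.card ↥H < Nat.card ↥K := by
  by_contra hcon
  push Not at hcon
  exact hne (Subgroup.eq_of_le_of_card_ge hle hcon)

theorem orderOf_coprime_of_mem {p : ℕ} [Fact p.Prime] {Q : Subgroup G} (hQ : IsPGroup p Q)
    {h c : G} (hcop : (orderOf h).Coprime p) (hc : c ∈ Q) : (orderOf h).Coprime (orderOf c) := by
  obtain ⟨k, hk⟩ := (IsPGroup.iff_orderOf.mp hQ) ⟨c, hc⟩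
  rw [Subgroup.orderOf_mk] at hk
  rw [hk]
  exact Nat.Coprime.pow_right k hcop

/-- **The `Ω`-lemma.** Let `e` be such that `p ∣ e` and `p ∣ e.choose 2` (`e = p` for odd `p`,
`e = 4` for `p = 2`). A `p'`-element `h` normalizing the finite `p`-subgroup `Q` and commuting with
all `x ∈ Q` such that `x ^ e = 1` centralizes `Q`. -/
theorem mem_centralizer_of_commute_omega_aux {p e : ℕ} [Fact p.Prime] (hpe : p ∣ e)
    (hpe2 : p ∣ e.choose 2) {h : G} (hcop : (orderOf h).Coprime p) :
    ∀ (n : ℕ) (Q : Subgroup G), Finite ↥Q → Nat.card ↥Q = n → IsPGroup p Q →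
      h ∈ normalizer (Q : Set G) → (∀ x ∈ Q, x ^ e = 1 → Commute h x) →
      h ∈ centralizer (Q : Set G) := by
  intro n
  induction n using Nat.strong_induction_on with
  | _ n ih =>
  intro Q hfin hcard hQ hN hom
  rw [Subgroup.mem_centralizer_iff]
  by_cases hne : Q = ⊥
  · intro x hx
    rw [hne] at hx
    rw [SetLike.mem_coe, Subgroup.mem_bot] at hx
    rw [hx, one_mul, mul_one]
  set Z : Subgroup G := Subgroup.zpowers h with hZdef
  have hhZ : h ∈ Z := Subgroup.mem_zpowers h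
  have hZ : Z ≤ normalizer (Q : Set G) := by rw [hZdef, Subgroup.zpowers_le]; exact hN
  obtain ⟨M, hMQ, hMne, hZM, hpow, hcomm⟩ := exists_invariant_lt hQ hne hZ
  have hfinM : Finite ↥M :=
    Finite.of_injective (Subgroup.inclusion hMQ) (Subgroup.inclusion_injective hMQ)
  have hltM : Nat.card ↥M < n := hcard ▸ card_lt_of_le_of_ne hMQ hMne
  have hhM : h ∈ centralizer (M : Set G) :=
    ih _ hltM M hfinM rfl (hQ.to_le hMQ) (hZM hhZ) (fun x hx => hom x (hMQ hx))
  have hhM' : ∀ m ∈ M, Commute h m := fun m hm =>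
    ((Subgroup.mem_centralizer_iff.mp hhM) m hm).symm
  -- the elements `c = x⁻¹ h x h⁻¹`
  have hcQ : ∀ x ∈ Q, x⁻¹ * (h * x * h⁻¹) ∈ Q := fun x hx =>
    mul_mem (inv_mem hx) ((Subgroup.mem_normalizer_iff.mp hN x).mp hx)
  -- three subgroups lemma
  have h3 : ⁅Q, Z⁆ ≤ centralizer (M : Set G) := by
    rw [← Subgroup.commutator_eq_bot_iff_le_centralizer]
    apply Subgroup.commutator_commutator_eq_bot_of_rotate
    · have : ⁅Z, M⁆ = ⊥ := by
        rw [Subgroup.commutator_eq_bot_iff_le_centralizer, hZdef, Subgroup.zpowers_le]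
        exact hhM
      rw [this, Subgroup.commutator_bot_left]
    · have h1 : ⁅M, Q⁆ ≤ M := by
        rw [Subgroup.commutator_le]
        intro m hm q hq
        exact hcomm m (hMQ hm) q hq
      have h2 : ⁅M, Z⁆ = ⊥ := by
        rw [Subgroup.commutator_comm, Subgroup.commutator_eq_bot_iff_le_centralizer, hZdef,
          Subgroup.zpowers_le]
        exact hhM
      rw [eq_bot_iff, ← h2]
      exact Subgroup.commutator_mono h1 le_rfl
  have hcC : ∀ x ∈ Q, x⁻¹ * (h * x * h⁻¹) ∈ centralizer (M : Set G) := by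
    intro x hx
    apply h3
    have : x⁻¹ * (h * x * h⁻¹) = ⁅x⁻¹, h⁆ := by rw [commutatorElement_def]; group
    rw [this]
    exact Subgroup.commutator_mem_commutator (inv_mem hx) hhZ
  -- it suffices to show that `h` commutes with each `c`
  have hsuff : (∀ x ∈ Q, Commute h (x⁻¹ * (h * x * h⁻¹))) → ∀ x ∈ Q, x * h = h * x := by
    intro hc x hx
    have hconj : h * x * h⁻¹ = x * (x⁻¹ * (h * x * h⁻¹)) := by group
    exact (commute_of_conj_eq_mul hconj (hc x hx)
      (orderOf_coprime_of_mem hQ hcop (hcQ x hx))).eq.symm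
  apply hsuff
  by_cases hQM : Q ≤ centralizer (M : Set G)
  · -- `M` is central in `Q`
    have hcen : ∀ m ∈ M, ∀ q ∈ Q, Commute m q := fun m hm q hq =>
      ((Subgroup.mem_centralizer_iff.mp (hQM hq)) m hm)
    intro x hx
    set c := x⁻¹ * (h * x * h⁻¹) with hcdef
    have hc : c ∈ Q := hcQ x hx
    apply hom c hc
    -- `(x c)^e = x^e`
    have hxe : x ^ e ∈ M := by
      obtain ⟨d, rfl⟩ := hpe
      rw [pow_mul]
      exact pow_mem (hpow x hx) d
    have h1 : (x * c) ^ e = x ^ e := by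
      have : x * c = h * x * h⁻¹ := by rw [hcdef]; group
      rw [this, conj_pow, (hhM' _ hxe).eq]; group
    -- the power formula
    set k := ⁅c⁻¹, x⁻¹⁆ with hkdef
    have hkM : k ∈ M := hcomm _ (inv_mem hc) _ (inv_mem hx)
    have hk : c * x = x * c * k := by rw [hkdef, commutatorElement_def]; group
    have h2 := mul_pow_of_central hk (hcen k hkM x hx) (hcen k hkM c hc) e
    have hkp : k ^ p = 1 := by
      have h4 := commutator_pow_left (u := c⁻¹) (v := x⁻¹) (hcen k hkM _ (inv_mem hc)) p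
      rw [← h4, commutatorElement_eq_one_iff_commute]
      exact hcen _ (hpow _ (inv_mem hc)) _ (inv_mem hx)
    have hk2 : k ^ e.choose 2 = 1 := by
      obtain ⟨d, hd⟩ := hpe2
      rw [hd, pow_mul, hkp, one_pow]
    rw [h1, hk2, mul_one] at h2
    exact (mul_left_cancel (a := x ^ e) (by rw [← h2, mul_one])).symm
  · -- `Q ⊓ C(M)` is a proper `h`-invariant subgroup containing all `c`
    set Q₁ : Subgroup G := Q ⊓ centralizer (M : Set G) with hQ₁
    have hQ₁Q : Q₁ ≤ Q := inf_le_left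
    have hQ₁ne : Q₁ ≠ Q := by
      intro hEq
      apply hQM
      rw [← hEq]
      exact inf_le_right
    have hfin₁ : Finite ↥Q₁ :=
      Finite.of_injective (Subgroup.inclusion hQ₁Q) (Subgroup.inclusion_injective hQ₁Q)
    have hlt₁ : Nat.card ↥Q₁ < n := hcard ▸ card_lt_of_le_of_ne hQ₁Q hQ₁ne
    have hN₁ : h ∈ normalizer (Q₁ : Set G) := by
      rw [Subgroup.mem_normalizer_iff]
      intro x
      rw [hQ₁, Subgroup.mem_inf, Subgroup.mem_inf]
      have e1 := Subgroup.mem_normalizer_iff.mp hN x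
      have e2 : x ∈ centralizer (M : Set G) ↔ h * x * h⁻¹ ∈ centralizer (M : Set G) := by
        constructor
        · intro hx; exact mul_mem (mul_mem hhM hx) (inv_mem hhM)
        · intro hx
          have := mul_mem (mul_mem (inv_mem hhM) hx) hhM
          have e : h⁻¹ * (h * x * h⁻¹) * h = x := by group
          rwa [e] at this
      rw [e1, e2]
    have hh₁ : h ∈ centralizer (Q₁ : Set G) :=
      ih _ hlt₁ Q₁ hfin₁ rfl (hQ.to_le hQ₁Q) hN₁ (fun x hx => hom x (hQ₁Q hx))
    intro x hx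
    have hc₁ : x⁻¹ * (h * x * h⁻¹) ∈ Q₁ := ⟨hcQ x hx, hcC x hx⟩
    exact ((Subgroup.mem_centralizer_iff.mp hh₁) _ hc₁).symm

theorem mem_centralizer_of_commute_omega {p e : ℕ} [Fact p.Prime] (hpe : p ∣ e)
    (hpe2 : p ∣ e.choose 2) {h : G} (hcop : (orderOf h).Coprime p) (Q : Subgroup G) [Finite ↥Q]
    (hQ : IsPGroup p Q) (hN : h ∈ normalizer (Q : Set G))
    (hom : ∀ x ∈ Q, x ^ e = 1 → Commute h x) : h ∈ centralizer (Q : Set G) :=
  mem_centralizer_of_commute_omega_aux hpe hpe2 hcop _ Q inferInstance rfl hQ hN hom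

/-- the odd case of the `Ω`-lemma -/
theorem mem_centralizer_of_commute_omega_odd {p : ℕ} [hp : Fact p.Prime] (hp2 : p ≠ 2) {h : G}
    (hcop : (orderOf h).Coprime p) (Q : Subgroup G) [Finite ↥Q]
    (hQ : IsPGroup p Q) (hN : h ∈ normalizer (Q : Set G))
    (hom : ∀ x ∈ Q, x ^ p = 1 → Commute h x) : h ∈ centralizer (Q : Set G) := by
  have h2 : 2 < p := lt_of_le_of_ne hp.out.two_le (Ne.symm hp2)
  exact mem_centralizer_of_commute_omega dvd_rfl
    (hp.out.dvd_choose_self (by norm_num) h2) hcop Q hQ hN hom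

/-- the even case of the `Ω`-lemma -/
theorem mem_centralizer_of_commute_omega_two {h : G}
    (hcop : (orderOf h).Coprime 2) (Q : Subgroup G) [Finite ↥Q]
    (hQ : IsPGroup 2 Q) (hN : h ∈ normalizer (Q : Set G))
    (hom : ∀ x ∈ Q, x ^ 4 = 1 → Commute h x) : h ∈ centralizer (Q : Set G) := by
  have : Fact (Nat.Prime 2) := ⟨Nat.prime_two⟩
  exact mem_centralizer_of_commute_omega (p := 2) (e := 4) (by norm_num) (by decide) hcop Q hQ hN hom

theorem mem_centralizer_of_forall_commute' {p : ℕ} [Fact p.Prime] {Q : Subgroup G}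
    (hQ : IsPGroup p Q) {h : G} (hcop : (orderOf h).Coprime p)
    (hN : h ∈ normalizer (Q : Set G))
    (hc : ∀ x ∈ Q, Commute h (x⁻¹ * (h * x * h⁻¹))) : h ∈ centralizer (Q : Set G) := by
  rw [Subgroup.mem_centralizer_iff]
  intro x hx
  have hcQ : x⁻¹ * (h * x * h⁻¹) ∈ Q :=
    mul_mem (inv_mem hx) ((Subgroup.mem_normalizer_iff.mp hN x).mp hx)
  have hconj : h * x * h⁻¹ = x * (x⁻¹ * (h * x * h⁻¹)) := by group
  exact (commute_of_conj_eq_mul hconj (hc x hx) (orderOf_coprime_of_mem hQ hcop hcQ)).eq.symm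

/-- **Minimal invariant subgroups have small exponent.** Let `e` be such that `p ∣ e` and
`p ∣ e.choose 2`. If the `p'`-element `h` normalizes the finite `p`-subgroup `Q` and centralizes every
proper `h`-invariant subgroup of `Q`, then `h` centralizes `Q` or `Q` has exponent dividing `e`. -/
theorem mem_centralizer_or_exponent {p e : ℕ} [Fact p.Prime] (hpe : p ∣ e)
    (hpe2 : p ∣ e.choose 2) {h : G} (hcop : (orderOf h).Coprime p) (Q : Subgroup G) [Finite ↥Q]
    (hQ : IsPGroup p Q) (hN : h ∈ normalizer (Q : Set G))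
    (hmin : ∀ R : Subgroup G, R ≤ Q → R ≠ Q → h ∈ normalizer (R : Set G) →
      h ∈ centralizer (R : Set G)) :
    h ∈ centralizer (Q : Set G) ∨ ∀ x ∈ Q, x ^ e = 1 := by
  by_cases hne : Q = ⊥
  · left
    rw [Subgroup.mem_centralizer_iff]
    intro x hx
    rw [hne] at hx
    rw [SetLike.mem_coe, Subgroup.mem_bot] at hx
    rw [hx, one_mul, mul_one]
  set Z : Subgroup G := Subgroup.zpowers h with hZdef
  have hhZ : h ∈ Z := Subgroup.mem_zpowers h
  have hZ : Z ≤ normalizer (Q : Set G) := by rw [hZdef, Subgroup.zpowers_le]; exact hN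
  obtain ⟨M, hMQ, hMne, hZM, hpow, hcomm⟩ := exists_invariant_lt hQ hne hZ
  have hhM : h ∈ centralizer (M : Set G) := hmin M hMQ hMne (hZM hhZ)
  have hhM' : ∀ m ∈ M, Commute h m := fun m hm =>
    ((Subgroup.mem_centralizer_iff.mp hhM) m hm).symm
  have hcQ : ∀ x ∈ Q, x⁻¹ * (h * x * h⁻¹) ∈ Q := fun x hx =>
    mul_mem (inv_mem hx) ((Subgroup.mem_normalizer_iff.mp hN x).mp hx)
  have h3 : ⁅Q, Z⁆ ≤ centralizer (M : Set G) := by
    rw [← Subgroup.commutator_eq_bot_iff_le_centralizer]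
    apply Subgroup.commutator_commutator_eq_bot_of_rotate
    · have : ⁅Z, M⁆ = ⊥ := by
        rw [Subgroup.commutator_eq_bot_iff_le_centralizer, hZdef, Subgroup.zpowers_le]
        exact hhM
      rw [this, Subgroup.commutator_bot_left]
    · have h1 : ⁅M, Q⁆ ≤ M := by
        rw [Subgroup.commutator_le]
        intro m hm q hq
        exact hcomm m (hMQ hm) q hq
      have h2 : ⁅M, Z⁆ = ⊥ := by
        rw [Subgroup.commutator_comm, Subgroup.commutator_eq_bot_iff_le_centralizer, hZdef,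
          Subgroup.zpowers_le]
        exact hhM
      rw [eq_bot_iff, ← h2]
      exact Subgroup.commutator_mono h1 le_rfl
  have hcC : ∀ x ∈ Q, x⁻¹ * (h * x * h⁻¹) ∈ centralizer (M : Set G) := by
    intro x hx
    apply h3
    have : x⁻¹ * (h * x * h⁻¹) = ⁅x⁻¹, h⁆ := by rw [commutatorElement_def]; group
    rw [this]
    exact Subgroup.commutator_mem_commutator (inv_mem hx) hhZ
  by_cases hQM : Q ≤ centralizer (M : Set G)
  · -- `M` is central in `Q`
    have hcen : ∀ m ∈ M, ∀ q ∈ Q, Commute m q := fun m hm q hq =>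
      ((Subgroup.mem_centralizer_iff.mp (hQM hq)) m hm)
    -- the `e`-th power map is multiplicative on `Q`
    have hmulpow : ∀ x ∈ Q, ∀ c ∈ Q, (x * c) ^ e = x ^ e * c ^ e := by
      intro x hx c hc
      set k := ⁅c⁻¹, x⁻¹⁆ with hkdef
      have hkM : k ∈ M := hcomm _ (inv_mem hc) _ (inv_mem hx)
      have hk : c * x = x * c * k := by rw [hkdef, commutatorElement_def]; group
      have h2 := mul_pow_of_central hk (hcen k hkM x hx) (hcen k hkM c hc) e
      have hkp : k ^ p = 1 := by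
        have h4 := commutator_pow_left (u := c⁻¹) (v := x⁻¹) (hcen k hkM _ (inv_mem hc)) p
        rw [← h4, commutatorElement_eq_one_iff_commute]
        exact hcen _ (hpow _ (inv_mem hc)) _ (inv_mem hx)
      have hk2 : k ^ e.choose 2 = 1 := by
        obtain ⟨d, hd⟩ := hpe2
        rw [hd, pow_mul, hkp, one_pow]
      rw [hk2, mul_one] at h2
      exact h2
    have hxeM : ∀ x ∈ Q, x ^ e ∈ M := by
      intro x hx
      obtain ⟨d, rfl⟩ := hpe
      rw [pow_mul]
      exact pow_mem (hpow x hx) d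
    -- the subgroup of elements with trivial `e`-th power
    let Ω : Subgroup G :=
      { carrier := {x | x ∈ Q ∧ x ^ e = 1}
        one_mem' := ⟨one_mem Q, one_pow e⟩
        mul_mem' := by
          rintro a b ⟨ha, hae⟩ ⟨hb, hbe⟩
          exact ⟨mul_mem ha hb, by rw [hmulpow a ha b hb, hae, hbe, one_mul]⟩
        inv_mem' := by
          rintro a ⟨ha, hae⟩
          exact ⟨inv_mem ha, by rw [inv_pow, hae, inv_one]⟩ }
    have hΩQ : Ω ≤ Q := fun x hx => hx.1
    have hcΩ : ∀ x ∈ Q, x⁻¹ * (h * x * h⁻¹) ∈ Ω := by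
      intro x hx
      refine ⟨hcQ x hx, ?_⟩
      have h1 : (x * (x⁻¹ * (h * x * h⁻¹))) ^ e = x ^ e := by
        have : x * (x⁻¹ * (h * x * h⁻¹)) = h * x * h⁻¹ := by group
        rw [this, conj_pow, (hhM' _ (hxeM x hx)).eq]; group
      rw [hmulpow x hx _ (hcQ x hx)] at h1
      exact mul_left_cancel (a := x ^ e) (by rw [h1, mul_one])
    by_cases hΩ : Ω = Q
    · right
      intro x hx
      have : x ∈ Ω := by rw [hΩ]; exact hx
      exact this.2
    · left
      have hNΩ : h ∈ normalizer (Ω : Set G) := by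
        rw [Subgroup.mem_normalizer_iff]
        intro x
        constructor
        · rintro ⟨hx, hxe⟩
          exact ⟨(Subgroup.mem_normalizer_iff.mp hN x).mp hx, by rw [conj_pow, hxe]; group⟩
        · rintro ⟨hx, hxe⟩
          refine ⟨(Subgroup.mem_normalizer_iff.mp hN x).mpr hx, ?_⟩
          rw [conj_pow] at hxe
          have := congrArg (fun t => h⁻¹ * t * h) hxe
          simpa [mul_assoc] using this
      have hhΩ := hmin Ω hΩQ hΩ hNΩ
      apply mem_centralizer_of_forall_commute' hQ hcop hN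
      intro x hx
      exact ((Subgroup.mem_centralizer_iff.mp hhΩ) _ (hcΩ x hx)).symm
  · left
    set Q₁ : Subgroup G := Q ⊓ centralizer (M : Set G) with hQ₁
    have hQ₁Q : Q₁ ≤ Q := inf_le_left
    have hQ₁ne : Q₁ ≠ Q := by
      intro hEq
      apply hQM
      rw [← hEq]
      exact inf_le_right
    have hN₁ : h ∈ normalizer (Q₁ : Set G) := by
      rw [Subgroup.mem_normalizer_iff]
      intro x
      rw [hQ₁, Subgroup.mem_inf, Subgroup.mem_inf]
      have e1 := Subgroup.mem_normalizer_iff.mp hN x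
      have e2 : x ∈ centralizer (M : Set G) ↔ h * x * h⁻¹ ∈ centralizer (M : Set G) := by
        constructor
        · intro hx; exact mul_mem (mul_mem hhM hx) (inv_mem hhM)
        · intro hx
          have := mul_mem (mul_mem (inv_mem hhM) hx) hhM
          have e : h⁻¹ * (h * x * h⁻¹) * h = x := by group
          rwa [e] at this
      rw [e1, e2]
    have hh₁ := hmin Q₁ hQ₁Q hQ₁ne hN₁
    apply mem_centralizer_of_forall_commute' hQ hcop hN
    intro x hx
    have hc₁ : x⁻¹ * (h * x * h⁻¹) ∈ Q₁ := ⟨hcQ x hx, hcC x hx⟩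
    exact ((Subgroup.mem_centralizer_iff.mp hh₁) _ hc₁).symm

/-- to show that a `p'`-element `h ∈ N(Q)` centralizes the `p`-subgroup `Q` it suffices that `h`
commutes with all `x⁻¹ (h x h⁻¹)`, `x ∈ Q` -/
theorem mem_centralizer_of_forall_commute {p : ℕ} [Fact p.Prime] {Q : Subgroup G}
    (hQ : IsPGroup p Q) {h : G} (hcop : (orderOf h).Coprime p)
    (hN : h ∈ normalizer (Q : Set G))
    (hc : ∀ x ∈ Q, Commute h (x⁻¹ * (h * x * h⁻¹))) : h ∈ centralizer (Q : Set G) := by
  rw [Subgroup.mem_centralizer_iff]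
  intro x hx
  have hcQ : x⁻¹ * (h * x * h⁻¹) ∈ Q :=
    mul_mem (inv_mem hx) ((Subgroup.mem_normalizer_iff.mp hN x).mp hx)
  have hconj : h * x * h⁻¹ = x * (x⁻¹ * (h * x * h⁻¹)) := by group
  exact (commute_of_conj_eq_mul hconj (hc x hx) (orderOf_coprime_of_mem hQ hcop hcQ)).eq.symm

/-- local form of control of fusion: if every `g x g⁻¹`, `x ∈ Q ≤ P`, is a `P`-conjugate of `x`, then
the `p'`-element `g ∈ N(Q)` centralizes `Q` -/
theorem mem_centralizer_of_control [Finite G] {p : ℕ} [Fact p.Prime] (P : Sylow p G)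
    {Q : Subgroup G} (hQP : Q ≤ (P : Subgroup G)) {g : G} (hgN : g ∈ normalizer (Q : Set G))
    (hgo : (orderOf g).Coprime p)
    (hctl : ∀ x ∈ Q, ∃ u ∈ (P : Subgroup G), g * x * g⁻¹ = u * x * u⁻¹) :
    g ∈ centralizer (Q : Set G) := by
  have hQ : IsPGroup p Q := P.2.to_le hQP
  have hnil : Group.IsNilpotent ↥(P : Subgroup G) := P.2.isNilpotent
  obtain ⟨n, hn⟩ := hnil.nilpotent'
  have key : ∀ i : ℕ, ∀ x : G, x ∈ Q → (∃ hx : x ∈ (P : Subgroup G),
      (⟨x, hx⟩ : ↥(P : Subgroup G)) ∈ Subgroup.upperCentralSeries ↥(P : Subgroup G) i) →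
      Commute g x := by
    intro i
    induction i with
    | zero =>
      intro x _ ⟨hx, hx0⟩
      rw [Subgroup.upperCentralSeries_zero, Subgroup.mem_bot] at hx0
      have : x = 1 := congrArg Subtype.val hx0
      rw [this]; exact Commute.one_right g
    | succ i ih =>
      intro x hxQ ⟨hxP, hxi⟩
      have hgx : g * x * g⁻¹ ∈ Q := (Subgroup.mem_normalizer_iff.mp hgN x).mp hxQ
      obtain ⟨u, hu, hgu⟩ := hctl x hxQ
      set z := x⁻¹ * (g * x * g⁻¹) with hzdef
      have hzQ : z ∈ Q := mul_mem (inv_mem hxQ) hgx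
      have hzi : (⟨z, hQP hzQ⟩ : ↥(P : Subgroup G)) ∈
          Subgroup.upperCentralSeries ↥(P : Subgroup G) i := by
        have h1 := Subgroup.mem_upperCentralSeries_succ_iff.mp (inv_mem hxi) ⟨u, hu⟩
        have h2 : (⟨z, hQP hzQ⟩ : ↥(P : Subgroup G)) =
            ⁅(⟨x, hxP⟩ : ↥(P : Subgroup G))⁻¹, ⟨u, hu⟩⁆ := by
          apply Subtype.ext
          change z = x⁻¹ * u * (x⁻¹)⁻¹ * u⁻¹
          rw [hzdef, hgu]; group
        rw [h2]; exact h1
      have hgz : Commute g z := ih z hzQ ⟨hQP hzQ, hzi⟩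
      have hconj : g * x * g⁻¹ = x * z := by rw [hzdef]; group
      exact commute_of_conj_eq_mul hconj hgz (orderOf_coprime_of_mem hQ hgo hzQ)
  rw [Subgroup.mem_centralizer_iff]
  intro x hx
  exact (key n x hx ⟨hQP hx, by rw [hn]; exact Subgroup.mem_top _⟩).eq.symm

/-- **Control of fusion implies `FrobHyp`.** If any `G`-conjugate in `P` of an element `x ∈ P` is
already a `P`-conjugate of `x`, then every `p'`-element normalizing a `p`-subgroup centralizes
it. -/
theorem frobHyp_of_control [Finite G] {p : ℕ} [Fact p.Prime] (P : Sylow p G)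
    (hctl : ∀ x ∈ (P : Subgroup G), ∀ g : G, g * x * g⁻¹ ∈ (P : Subgroup G) →
      ∃ u ∈ (P : Subgroup G), g * x * g⁻¹ = u * x * u⁻¹) : FrobHyp p G := by
  apply frobHyp_of_le_sylow P
  intro Q hQP g hgN hgo
  apply mem_centralizer_of_control P hQP hgN hgo
  intro x hx
  exact hctl x (hQP hx) g (hQP ((Subgroup.mem_normalizer_iff.mp hgN x).mp hx))

/-- in a finite nilpotent group the `p`-elements lie in any given Sylow `p`-subgroup -/
theorem mem_sylow_of_isNilpotent {K : Type*} [Group K] [Finite K] [Group.IsNilpotent K] {p : ℕ}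
    [Fact p.Prime] (S : Sylow p K) {a : K} {k : ℕ} (ha : a ^ p ^ k = 1) : a ∈ S := by
  have hz : IsPGroup p (Subgroup.zpowers a) := by
    rintro ⟨y, hy⟩
    obtain ⟨i, rfl⟩ := Subgroup.mem_zpowers_iff.mp hy
    refine ⟨k, ?_⟩
    apply Subtype.ext
    change (a ^ i) ^ p ^ k = 1
    rw [← zpow_natCast, ← zpow_mul, mul_comm, zpow_mul, zpow_natCast, ha, one_zpow]
  obtain ⟨S', hS'⟩ := hz.exists_le_sylow
  obtain ⟨g, hg⟩ := MulAction.exists_smul_eq K S S'
  have : S' = S := by rw [← hg, Sylow.smul_eq_of_normal]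
  rw [← this]
  exact hS' (Subgroup.mem_zpowers a)

/-- in a finite nilpotent group a `p`-element commutes with every element of order prime to `p` -/
theorem commute_of_coprime_of_isNilpotent {K : Type*} [Group K] [Finite K]
    [hnil : Group.IsNilpotent K] {p : ℕ} [Fact p.Prime] {w x : K} (hw : (orderOf w).Coprime p)
    {k : ℕ} (hx : x ^ p ^ k = 1) : Commute w x := by
  obtain ⟨S⟩ : Nonempty (Sylow p K) := inferInstance
  have hSn : (S : Subgroup K).Normal := inferInstance
  obtain ⟨n, hn⟩ := hnil.nilpotent'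
  have key : ∀ i : ℕ, ∀ a : K, a ∈ Subgroup.upperCentralSeries K i → a ∈ S → Commute w a := by
    intro i
    induction i with
    | zero =>
      intro a ha _
      rw [Subgroup.upperCentralSeries_zero, Subgroup.mem_bot] at ha
      rw [ha]; exact Commute.one_right w
    | succ i ih =>
      intro a ha haS
      set c := a⁻¹ * (w * a * w⁻¹) with hcdef
      have hcZ : c ∈ Subgroup.upperCentralSeries K i := by
        have : c = ⁅a⁻¹, w⁆ := by rw [hcdef, commutatorElement_def]; group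
        rw [this]
        exact Subgroup.mem_upperCentralSeries_succ_iff.mp (inv_mem ha) w
      have hcS : c ∈ S := mul_mem (inv_mem haS) (hSn.conj_mem a haS w)
      have hconj : w * a * w⁻¹ = a * c := by rw [hcdef]; group
      exact commute_of_conj_eq_mul hconj (ih c hcZ hcS)
        (orderOf_coprime_of_mem S.2 hw (show c ∈ (S : Subgroup K) from hcS))
  exact key n x (by rw [hn]; exact Subgroup.mem_top _) (mem_sylow_of_isNilpotent S hx)

/-- decomposition of an element of finite order into commuting `p`-part and `p'`-part -/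
theorem exists_pPart_decomp {p : ℕ} [hp : Fact p.Prime] (h : G) (hfin : orderOf h ≠ 0) :
    ∃ u w : G, h = u * w ∧ (∃ k : ℕ, u ^ p ^ k = 1) ∧ (orderOf w).Coprime p ∧ Commute u w := by
  obtain ⟨a, m, hm, hn⟩ := Nat.exists_eq_pow_mul_and_not_dvd hfin p hp.out.ne_one
  have hcop : Nat.Coprime (p ^ a) m :=
    Nat.Coprime.pow_left a ((Nat.Prime.coprime_iff_not_dvd hp.out).mpr hm)
  have hbez := Int.gcd_eq_gcd_ab (p ^ a : ℕ) m
  have hg1 : Int.gcd ((p ^ a : ℕ) : ℤ) (m : ℤ) = 1 := by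
    rw [Int.gcd_natCast_natCast]; exact hcop
  rw [hg1] at hbez
  set A := Int.gcdA (p ^ a : ℕ) m
  set B := Int.gcdB (p ^ a : ℕ) m
  refine ⟨h ^ ((m : ℤ) * B), h ^ (((p ^ a : ℕ) : ℤ) * A), ?_, ⟨a, ?_⟩, ?_, ?_⟩
  · rw [← zpow_add]
    conv_lhs => rw [← zpow_one h]
    exact congrArg (fun z : ℤ => h ^ z) (by rw [add_comm]; exact_mod_cast hbez)
  · rw [← zpow_natCast, ← zpow_mul]
    have e : (m : ℤ) * B * ((p ^ a : ℕ) : ℤ) = ((orderOf h : ℕ) : ℤ) * B := by
      rw [hn]; push_cast; ring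
    rw [e, zpow_mul, zpow_natCast, pow_orderOf_eq_one, one_zpow]
  · have hwm : (h ^ (((p ^ a : ℕ) : ℤ) * A)) ^ m = 1 := by
      rw [← zpow_natCast, ← zpow_mul]
      have e : ((p ^ a : ℕ) : ℤ) * A * (m : ℤ) = ((orderOf h : ℕ) : ℤ) * A := by
        rw [hn]; push_cast; ring
      rw [e, zpow_mul, zpow_natCast, pow_orderOf_eq_one, one_zpow]
    have hd : orderOf (h ^ (((p ^ a : ℕ) : ℤ) * A)) ∣ m := orderOf_dvd_of_pow_eq_one hwm
    exact Nat.Coprime.coprime_dvd_left hd
      (Nat.Coprime.symm ((Nat.Prime.coprime_iff_not_dvd hp.out).mpr hm))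
  · exact (Commute.refl h).zpow_zpow _ _

/-- if `C` has `p`-power index then `G = P C` for every Sylow `p`-subgroup `P` -/
theorem exists_sylow_mul_of_index_pow [Finite G] {p : ℕ} [hp : Fact p.Prime] (P : Sylow p G)
    (C : Subgroup G) {a : ℕ} (hC : C.index = p ^ a) (g : G) :
    ∃ u ∈ (P : Subgroup G), u⁻¹ * g ∈ C := by
  classical
  set x₀ : G ⧸ C := QuotientGroup.mk (1 : G) with hx₀
  set St : Subgroup ↥(P : Subgroup G) := MulAction.stabilizer ↥(P : Subgroup G) x₀ with hSt
  have hmemSt : ∀ u : ↥(P : Subgroup G), u ∈ St ↔ (u : G) ∈ C := by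
    intro u
    rw [hSt, MulAction.mem_stabilizer_iff]
    change ((u : G) • (QuotientGroup.mk (1 : G) : G ⧸ C)) = QuotientGroup.mk (1 : G) ↔ _
    rw [MulAction.Quotient.smul_mk, smul_eq_mul, mul_one, eq_comm, QuotientGroup.eq, inv_one,
      one_mul]
  -- the stabilizer embeds in `C`
  have hStC : Nat.card ↥St ∣ Nat.card ↥C := by
    let f : ↥St →* ↥C :=
      { toFun := fun u => ⟨((u : ↥(P : Subgroup G)) : G), (hmemSt u.1).mp u.2⟩
        map_one' := rfl
        map_mul' := fun _ _ => rfl }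
    apply Subgroup.card_dvd_of_injective f
    intro u v huv
    have := congrArg (fun t : ↥C => (t : G)) huv
    exact Subtype.ext (Subtype.ext this)
  obtain ⟨n, hn⟩ := (IsPGroup.iff_card (p := p)).mp P.2
  obtain ⟨s, hs⟩ := (IsPGroup.iff_card (p := p)).mp (P.2.to_subgroup St)
  have horb : St.index = (MulAction.orbit ↥(P : Subgroup G) x₀).ncard :=
    MulAction.index_stabilizer _ _
  have h1 : St.index * p ^ s = p ^ n := by rw [← hs, ← hn]; exact Subgroup.index_mul_card St
  -- `p ^ (s + a) ∣ p ^ n`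
  have hsan : s + a ≤ n := by
    have h2 : p ^ (s + a) ∣ Nat.card G := by
      rw [pow_add, ← C.card_mul_index, hC, ← hs]
      exact Nat.mul_dvd_mul_right hStC _
    rw [← (P : Subgroup G).card_mul_index, hn] at h2
    have hcop : Nat.Coprime (p ^ (s + a)) (P : Subgroup G).index :=
      Nat.Coprime.pow_left _ ((Nat.Prime.coprime_iff_not_dvd hp.out).mpr P.not_dvd_index)
    exact (Nat.pow_dvd_pow_iff_le_right hp.out.one_lt).mp (hcop.dvd_of_dvd_mul_right h2)
  have hidx : p ^ a ≤ St.index := by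
    have h3 : St.index = p ^ (n - s) := by
      have : p ^ (n - s) * p ^ s = p ^ n := by rw [← pow_add]; congr 1; omega
      exact Nat.eq_of_mul_eq_mul_right (pow_pos hp.out.pos s) (h1.trans this.symm)
    rw [h3]
    exact Nat.pow_le_pow_right hp.out.pos (by omega)
  -- the orbit is everything
  have huniv : MulAction.orbit ↥(P : Subgroup G) x₀ = Set.univ := by
    apply Set.eq_of_subset_of_ncard_le (Set.subset_univ _) _ Set.finite_univ
    rw [Set.ncard_univ, ← Subgroup.index_eq_card, hC, ← horb]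
    exact hidx
  have hg : (QuotientGroup.mk g : G ⧸ C) ∈ MulAction.orbit ↥(P : Subgroup G) x₀ := by
    rw [huniv]; exact Set.mem_univ _
  obtain ⟨u, hu⟩ := hg
  refine ⟨u, u.2, ?_⟩
  have hu' : ((u : G) • (QuotientGroup.mk (1 : G) : G ⧸ C)) = QuotientGroup.mk g := hu
  rw [MulAction.Quotient.smul_mk, smul_eq_mul, mul_one, QuotientGroup.eq] at hu'
  exact hu'

/-- if the centralizer of `x` has `p`-power index then every conjugate of `x` is a conjugate under
any given Sylow `p`-subgroup -/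
theorem exists_sylow_conj_of_index_pow [Finite G] {p : ℕ} [Fact p.Prime] (P : Sylow p G)
    {x : G} {a : ℕ} (hx : (centralizer ({x} : Set G)).index = p ^ a) (g : G) :
    ∃ u ∈ (P : Subgroup G), g * x * g⁻¹ = u * x * u⁻¹ := by
  obtain ⟨u, hu, hc⟩ := exists_sylow_mul_of_index_pow P _ hx g
  refine ⟨u, hu, ?_⟩
  have hcx : x * (u⁻¹ * g) = (u⁻¹ * g) * x :=
    (Subgroup.mem_centralizer_iff.mp hc) x (Set.mem_singleton x)
  calc g * x * g⁻¹ = u * ((u⁻¹ * g) * x) * (u⁻¹ * g)⁻¹ * u⁻¹ := by group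
    _ = u * (x * (u⁻¹ * g)) * (u⁻¹ * g)⁻¹ * u⁻¹ := by rw [hcx]
    _ = u * x * u⁻¹ := by group

end Cfsg.Agent.Lib.Helper35_PGroupAut
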