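import Mathlib
import Cfsg.Agent.Lib.Helper35_PGroupAut
import Cfsg.Agent.Lib.Helper32_PGroup

/-!
Helper library (helper33): `p'`-automorphisms of `p`-groups in the language of `MulAut`, and
Thompson's critical subgroup construction relative to a group `G` of automorphisms containing the
inner ones.
-/

set_option autoImplicit false

namespace Cfsg.Agent.Lib.Helper33_Critical

open scoped commutatorElement

variable {P : Type*} [Group P]

/-- iterating an automorphism that moves `c` by a fixed element `d` -/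
theorem pow_apply_of_fixed (α : MulAut P) {c d : P} (hc : α c = c * d) (hd : α d = d) (k : ℕ) :
    (α ^ k) c = c * d ^ k := by
  induction k with
  | zero => simp
  | succ k ih =>
    rw [pow_succ', MulAut.mul_apply, ih, map_mul, map_pow, hc, hd, pow_succ', mul_assoc]

/-- **Stability lemma.** A `p'`-automorphism `α` that fixes all `c⁻¹ α(c)`, `c` in the invariant
`p`-subgroup `C`, fixes `C` elementwise. -/
theorem fixes_of_fixes_quot {p : ℕ} [Fact p.Prime] (α : MulAut P) (hcop : (orderOf α).Coprime p)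
    (C : Subgroup P) (hC : IsPGroup p C) (hinv : ∀ c ∈ C, α c ∈ C)
    (hfix : ∀ c ∈ C, α (c⁻¹ * α c) = c⁻¹ * α c) : ∀ c ∈ C, α c = c := by
  intro c hc
  have hd : c⁻¹ * α c ∈ C := mul_mem (inv_mem hc) (hinv c hc)
  have h1 : α c = c * (c⁻¹ * α c) := by group
  have h2 := pow_apply_of_fixed α h1 (hfix c hc) (orderOf α)
  rw [pow_orderOf_eq_one, MulAut.one_apply] at h2
  have h3 : (c⁻¹ * α c) ^ orderOf α = 1 := by
    have := congrArg (fun t => c⁻¹ * t) h2
    simpa using this.symm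
  have h4 : orderOf (c⁻¹ * α c) ∣ orderOf α := orderOf_dvd_of_pow_eq_one h3
  have h5 : (orderOf α).Coprime (orderOf (c⁻¹ * α c)) := by
    obtain ⟨k, hk⟩ := (IsPGroup.iff_orderOf.mp hC) ⟨c⁻¹ * α c, hd⟩
    rw [Subgroup.orderOf_mk] at hk
    rw [hk]
    exact Nat.Coprime.pow_right k hcop
  have h6 : orderOf (c⁻¹ * α c) = 1 := Nat.eq_one_of_dvd_coprimes h5 h4 dvd_rfl
  have h7 : c⁻¹ * α c = 1 := orderOf_eq_one_iff.mp h6
  calc α c = c * (c⁻¹ * α c) := h1
    _ = c := by rw [h7, mul_one]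

/-- transport of the `Ω`-lemma along a realisation of `α` as an inner automorphism -/
theorem fixes_of_fixes_omega_aux {Γ : Type*} [Group Γ] {p e : ℕ} [Fact p.Prime] (hpe : p ∣ e)
    (hpe2 : p ∣ e.choose 2) (α : MulAut P) (i : P →* Γ) (hi : Function.Injective i) (h : Γ)
    (hconj : ∀ c : P, h * i c * h⁻¹ = i (α c)) (hcop : (orderOf h).Coprime p)
    (C : Subgroup P) [Finite ↥C]
    (hC : IsPGroup p C) (hinv : ∀ c, c ∈ C ↔ α c ∈ C)
    (hfix : ∀ c ∈ C, c ^ e = 1 → α c = c) : ∀ c ∈ C, α c = c := by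
  have hQ : IsPGroup p (C.map i) := hC.map i
  have hfin : Finite ↥(C.map i) := by
    exact Finite.of_surjective (fun c : C => (⟨i c.1, Subgroup.mem_map_of_mem i c.2⟩ : C.map i))
      (by
        rintro ⟨y, hy⟩
        obtain ⟨c, hc, rfl⟩ := Subgroup.mem_map.mp hy
        exact ⟨⟨c, hc⟩, rfl⟩)
  have hN : h ∈ Subgroup.normalizer ((C.map i : Subgroup Γ) : Set Γ) := by
    rw [Subgroup.mem_normalizer_iff]
    intro y
    constructor
    · intro hy
      obtain ⟨c, hc, rfl⟩ := Subgroup.mem_map.mp hy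
      rw [hconj]
      exact Subgroup.mem_map_of_mem i ((hinv c).mp hc)
    · intro hy
      obtain ⟨c, hc, hce⟩ := Subgroup.mem_map.mp hy
      have h1 : y = h⁻¹ * i c * h := by rw [hce]; group
      have h2 : α (α⁻¹ c) = c := by
        rw [← MulAut.mul_apply, mul_inv_cancel, MulAut.one_apply]
      have h3 : y = i (α⁻¹ c) := by
        have h4 := hconj (α⁻¹ c)
        rw [h2] at h4
        rw [h1, ← h4]; group
      rw [h3]
      apply Subgroup.mem_map_of_mem
      rw [hinv, h2]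
      exact hc
  have hom : ∀ y ∈ C.map i, y ^ e = 1 → Commute h y := by
    intro y hy hye
    obtain ⟨c, hc, rfl⟩ := Subgroup.mem_map.mp hy
    have h1 : c ^ e = 1 := by
      apply hi
      rw [map_pow, hye, map_one]
    have h2 := hfix c hc h1
    have h3 := hconj c
    rw [h2] at h3
    show h * i c = i c * h
    calc h * i c = h * i c * h⁻¹ * h := by group
      _ = i c * h := by rw [h3]
  have hcent := Cfsg.Agent.Lib.Helper35_PGroupAut.mem_centralizer_of_commute_omega hpe hpe2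
    hcop (C.map i) hQ hN hom
  intro c hc
  apply hi
  rw [← hconj]
  have h1 := (Subgroup.mem_centralizer_iff.mp hcent) (i c) (Subgroup.mem_map_of_mem i hc)
  calc h * i c * h⁻¹ = i c * h * h⁻¹ := by rw [← h1]
    _ = i c := by group

/-- **The `Ω`-lemma for automorphisms.** Let `p ∣ e` and `p ∣ e.choose 2` (`e = p` for odd `p`,
`e = 4` for `p = 2`). A `p'`-automorphism fixing all `c` in the invariant finite `p`-subgroup `C`
with `c ^ e = 1` fixes `C` elementwise. -/
theorem fixes_of_fixes_omega {p e : ℕ} [Fact p.Prime] (hpe : p ∣ e) (hpe2 : p ∣ e.choose 2)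
    (α : MulAut P) (hcop : (orderOf α).Coprime p) (C : Subgroup P) [Finite ↥C]
    (hC : IsPGroup p C) (hinv : ∀ c, c ∈ C ↔ α c ∈ C)
    (hfix : ∀ c ∈ C, c ^ e = 1 → α c = c) : ∀ c ∈ C, α c = c := by
  have hord : orderOf (SemidirectProduct.inr α : P ⋊[MonoidHom.id (MulAut P)] MulAut P) =
      orderOf α :=
    orderOf_injective (SemidirectProduct.inr : MulAut P →* P ⋊[MonoidHom.id (MulAut P)] MulAut P)
      SemidirectProduct.inr_injective α
  refine fixes_of_fixes_omega_aux hpe hpe2 α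
    (SemidirectProduct.inl : P →* P ⋊[MonoidHom.id (MulAut P)] MulAut P)
    SemidirectProduct.inl_injective (SemidirectProduct.inr α) ?_ (hord ▸ hcop) C hC hinv hfix
  intro c
  have := SemidirectProduct.inl_aut (φ := MonoidHom.id (MulAut P)) α c
  rw [MonoidHom.id_apply] at this
  rw [this, map_inv]

section Invariant

/-- `D` is mapped into itself by every element of `G` -/
def InvLe (G : Subgroup (MulAut P)) (D : Subgroup P) : Prop := ∀ α ∈ G, ∀ d ∈ D, α d ∈ D

variable {G : Subgroup (MulAut P)}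

theorem apply_inv_apply (α : MulAut P) (d : P) : α (α⁻¹ d) = d := by
  rw [← MulAut.mul_apply, mul_inv_cancel, MulAut.one_apply]

theorem inv_apply_apply (α : MulAut P) (d : P) : α⁻¹ (α d) = d := by
  rw [← MulAut.mul_apply, inv_mul_cancel, MulAut.one_apply]

theorem InvLe.mem_iff {D : Subgroup P} (h : InvLe G D) {α : MulAut P} (hα : α ∈ G) (d : P) :
    d ∈ D ↔ α d ∈ D := by
  constructor
  · exact h α hα d
  · intro hd
    have := h α⁻¹ (inv_mem hα) _ hd
    rwa [inv_apply_apply] at this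

theorem InvLe.map_eq {D : Subgroup P} (h : InvLe G D) {α : MulAut P} (hα : α ∈ G) :
    D.map α.toMonoidHom = D := by
  ext d
  rw [Subgroup.mem_map]
  constructor
  · rintro ⟨c, hc, rfl⟩
    exact h α hα c hc
  · intro hd
    exact ⟨α⁻¹ d, h α⁻¹ (inv_mem hα) d hd, apply_inv_apply α d⟩

theorem InvLe.normal {D : Subgroup P} (h : InvLe G D)
    (hG : (MulAut.conj : P →* MulAut P).range ≤ G) : D.Normal := by
  constructor
  intro d hd g
  have := h (MulAut.conj g) (hG ⟨g, rfl⟩) d hd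
  rwa [MulAut.conj_apply] at this

theorem InvLe.inf {D E : Subgroup P} (hD : InvLe G D) (hE : InvLe G E) : InvLe G (D ⊓ E) :=
  fun α hα d hd => ⟨hD α hα d hd.1, hE α hα d hd.2⟩

theorem InvLe.centralizer {D : Subgroup P} (hD : InvLe G D) :
    InvLe G (Subgroup.centralizer (D : Set P)) := by
  intro α hα c hc
  rw [Subgroup.mem_centralizer_iff] at hc ⊢
  intro m hm
  have hm' : α⁻¹ m ∈ D := hD α⁻¹ (inv_mem hα) m hm
  have h1 := hc _ hm'
  have h3 := congrArg α h1
  rw [map_mul, map_mul, apply_inv_apply] at h3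
  exact h3

end Invariant

/-- the elements of order dividing `p` in the centre -/
def omegaCenter (p : ℕ) (X : Type*) [Group X] : Subgroup X where
  carrier := {z | z ∈ Subgroup.center X ∧ z ^ p = 1}
  one_mem' := ⟨one_mem _, one_pow _⟩
  mul_mem' := by
    rintro a b ⟨ha, hap⟩ ⟨hb, hbp⟩
    refine ⟨mul_mem ha hb, ?_⟩
    have hcomm : Commute a b := Subgroup.mem_center_iff.mp hb a
    rw [hcomm.mul_pow, hap, hbp, one_mul]
  inv_mem' := by
    rintro a ⟨ha, hap⟩
    exact ⟨inv_mem ha, by rw [inv_pow, hap, inv_one]⟩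

theorem mem_omegaCenter_iff {p : ℕ} {X : Type*} [Group X] (z : X) :
    z ∈ omegaCenter p X ↔ z ∈ Subgroup.center X ∧ z ^ p = 1 := Iff.rfl

section CritC

variable (p : ℕ) (Q M : Subgroup P) [M.Normal]

/-- Thompson's critical subgroup relative to `Q` and `M`: the elements of `C_Q(M)` mapping into
`Ω₁(Z(P/M))`. -/
def critC : Subgroup P :=
  Q ⊓ Subgroup.centralizer (M : Set P) ⊓ (omegaCenter p (P ⧸ M)).comap (QuotientGroup.mk' M)

theorem mem_critC_iff' (c : P) : c ∈ critC p Q M ↔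
    c ∈ Q ∧ c ∈ Subgroup.centralizer (M : Set P) ∧
      (QuotientGroup.mk' M c) ∈ omegaCenter p (P ⧸ M) := by
  unfold critC
  rw [Subgroup.mem_inf, Subgroup.mem_inf, Subgroup.mem_comap, and_assoc]

theorem mk_mem_omegaCenter_iff (c : P) : (QuotientGroup.mk' M c) ∈ omegaCenter p (P ⧸ M) ↔
    (∀ x : P, ⁅c, x⁆ ∈ M) ∧ c ^ p ∈ M := by
  rw [mem_omegaCenter_iff]
  constructor
  · rintro ⟨h1, h2⟩
    constructor
    · intro x
      rw [← QuotientGroup.eq_one_iff, ← QuotientGroup.mk'_apply, map_commutatorElement,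
        commutatorElement_eq_one_iff_commute]
      exact (Subgroup.mem_center_iff.mp h1 _).symm
    · rw [← QuotientGroup.eq_one_iff, QuotientGroup.mk_pow]
      exact h2
  · rintro ⟨h1, h2⟩
    constructor
    · rw [Subgroup.mem_center_iff]
      intro g
      obtain ⟨x, rfl⟩ := QuotientGroup.mk'_surjective M g
      have h3 := h1 x
      rw [← QuotientGroup.eq_one_iff, ← QuotientGroup.mk'_apply, map_commutatorElement,
        commutatorElement_eq_one_iff_commute] at h3
      exact h3.eq.symm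
    · rw [QuotientGroup.mk'_apply, ← QuotientGroup.mk_pow, QuotientGroup.eq_one_iff]
      exact h2

theorem mem_critC_iff (c : P) : c ∈ critC p Q M ↔
    c ∈ Q ∧ c ∈ Subgroup.centralizer (M : Set P) ∧ (∀ x : P, ⁅c, x⁆ ∈ M) ∧ c ^ p ∈ M := by
  rw [mem_critC_iff', mk_mem_omegaCenter_iff]

end CritC

/-- **Thompson's critical subgroup, relative version.** Let `G` be a group of automorphisms of the
finite `p`-group `P` containing the inner ones and `Q` a `G`-invariant subgroup. There are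
`G`-invariant subgroups `M ≤ C ≤ Q` with `C ≤ C_P(M)`, `[C, P] ≤ M`, `C^p ≤ M` and
`C_Q(C) ≤ M` (so `M = Z(C)`). -/
theorem exists_critical_pair {p : ℕ} [Fact p.Prime] [Finite P] (hP : IsPGroup p P)
    (G : Subgroup (MulAut P)) (hG : (MulAut.conj : P →* MulAut P).range ≤ G)
    (Q : Subgroup P) (hQ : InvLe G Q) :
    ∃ M C : Subgroup P, M ≤ C ∧ C ≤ Q ∧ InvLe G M ∧ InvLe G C ∧
      C ≤ Subgroup.centralizer (M : Set P) ∧ (∀ c ∈ C, ∀ x : P, ⁅c, x⁆ ∈ M) ∧
      (∀ c ∈ C, c ^ p ∈ M) ∧ Q ⊓ Subgroup.centralizer (C : Set P) ≤ M := by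
  classical
  let S : Set (Subgroup P) := {M | M ≤ Q ∧ InvLe G M ∧ ∀ a ∈ M, ∀ b ∈ M, a * b = b * a}
  have hbot : (⊥ : Subgroup P) ∈ S := by
    refine ⟨bot_le, ?_, ?_⟩
    · intro α _ d hd
      rw [Subgroup.mem_bot] at hd ⊢
      rw [hd, map_one]
    · intro a ha b hb
      rw [Subgroup.mem_bot] at ha hb
      rw [ha, hb]
  obtain ⟨M, -, hM⟩ := (Set.toFinite S).exists_le_maximal hbot
  obtain ⟨hMQ, hMinv, hMab⟩ := hM.1
  have hMmax : ∀ Y : Subgroup P, Y ∈ S → M ≤ Y → Y ≤ M := fun Y hY hMY => hM.2 hY hMY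
  haveI hMn : M.Normal := hMinv.normal hG
  have hMC : M ≤ critC p Q M := by
    intro m hm
    rw [mem_critC_iff]
    refine ⟨hMQ hm, ?_, ?_, pow_mem hm p⟩
    · rw [Subgroup.mem_centralizer_iff]
      intro m' hm'
      exact hMab m' hm' m hm
    · intro x
      rw [commutatorElement_def]
      have h1 : x * m⁻¹ * x⁻¹ ∈ M := hMn.conj_mem _ (inv_mem hm) x
      have h2 : m * x * m⁻¹ * x⁻¹ = m * (x * m⁻¹ * x⁻¹) := by group
      rw [h2]
      exact mul_mem hm h1
  have hCQ : critC p Q M ≤ Q := fun c hc => ((mem_critC_iff p Q M c).mp hc).1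
  have hCM : critC p Q M ≤ Subgroup.centralizer (M : Set P) :=
    fun c hc => ((mem_critC_iff p Q M c).mp hc).2.1
  have hCinv : InvLe G (critC p Q M) := by
    intro α hα c hc
    rw [mem_critC_iff] at hc ⊢
    obtain ⟨h1, h2, h3, h4⟩ := hc
    refine ⟨hQ α hα c h1, hMinv.centralizer α hα c h2, ?_, ?_⟩
    · intro x
      have h5 : ⁅α c, x⁆ = α ⁅c, α⁻¹ x⁆ := by
        rw [map_commutatorElement, apply_inv_apply]
      rw [h5]
      exact hMinv α hα _ (h3 _)
    · rw [← map_pow]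
      exact hMinv α hα _ h4
  have hMcentC : M ≤ Subgroup.centralizer ((critC p Q M : Subgroup P) : Set P) := by
    intro m hm
    rw [Subgroup.mem_centralizer_iff]
    intro c hc
    exact ((Subgroup.mem_centralizer_iff.mp (hCM hc)) m hm).symm
  -- the centre of `C` is `M`
  have hZ : critC p Q M ⊓ Subgroup.centralizer ((critC p Q M : Subgroup P) : Set P) ≤ M := by
    apply hMmax
    · refine ⟨inf_le_left.trans hCQ, hCinv.inf hCinv.centralizer, ?_⟩
      intro a ha b hb
      exact (Subgroup.mem_centralizer_iff.mp hb.2) a ha.1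
    · exact le_inf hMC hMcentC
  refine ⟨M, critC p Q M, hMC, hCQ, hMinv, hCinv, hCM,
    fun c hc => ((mem_critC_iff p Q M c).mp hc).2.2.1,
    fun c hc => ((mem_critC_iff p Q M c).mp hc).2.2.2, ?_⟩
  -- `C_Q(C) ≤ M`
  set N₀ : Subgroup P := Q ⊓ Subgroup.centralizer ((critC p Q M : Subgroup P) : Set P) with hN₀
  have hN₀inv : InvLe G N₀ := hQ.inf hCinv.centralizer
  have hN₀n : N₀.Normal := hN₀inv.normal hG
  by_contra hcon
  have hNne : N₀.map (QuotientGroup.mk' M) ≠ ⊥ := by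
    intro hbot
    apply hcon
    intro x hx
    have h1 : QuotientGroup.mk' M x ∈ N₀.map (QuotientGroup.mk' M) :=
      Subgroup.mem_map_of_mem _ hx
    rw [hbot, Subgroup.mem_bot, QuotientGroup.mk'_apply, QuotientGroup.eq_one_iff] at h1
    exact h1
  haveI hNn : (N₀.map (QuotientGroup.mk' M)).Normal :=
    hN₀n.map _ (QuotientGroup.mk'_surjective M)
  have hPM : IsPGroup p (P ⧸ M) := hP.to_quotient M
  have hKne := Cfsg.Agent.Lib.Helper32_PGroup.normal_inf_center_ne_bot hPM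
    (N₀.map (QuotientGroup.mk' M)) hNne
  set K : Subgroup (P ⧸ M) := N₀.map (QuotientGroup.mk' M) ⊓ Subgroup.center (P ⧸ M) with hK
  have hKp : IsPGroup p K := hPM.to_subgroup K
  have hdvd : p ∣ Nat.card K := by
    have : Nontrivial K := (Subgroup.nontrivial_iff_ne_bot K).mpr hKne
    obtain ⟨n, hn0, hn⟩ := hKp.nontrivial_iff_card.mp this
    exact hn.symm ▸ dvd_pow_self _ (ne_of_gt hn0)
  obtain ⟨k, hk⟩ := exists_prime_orderOf_dvd_card' p hdvd
  have hkz : orderOf (k : P ⧸ M) = p := by rw [Subgroup.orderOf_coe]; exact hk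
  have hzN : (k : P ⧸ M) ∈ N₀.map (QuotientGroup.mk' M) := k.2.1
  have hzc : (k : P ⧸ M) ∈ Subgroup.center (P ⧸ M) := k.2.2
  have hzp : (k : P ⧸ M) ^ p = 1 := by rw [← hkz]; exact pow_orderOf_eq_one _
  have hz1 : (k : P ⧸ M) ≠ 1 := by
    intro h1
    rw [h1, orderOf_one] at hkz
    exact (Fact.out : p.Prime).one_lt.ne hkz
  obtain ⟨c, hcN, hcz⟩ := Subgroup.mem_map.mp hzN
  have hcC : c ∈ critC p Q M := by
    rw [mem_critC_iff']
    refine ⟨hcN.1, Subgroup.centralizer_le (by exact_mod_cast hMC) hcN.2, ?_⟩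
    rw [hcz, mem_omegaCenter_iff]
    exact ⟨hzc, hzp⟩
  have hcM : c ∈ M := hZ ⟨hcC, hcN.2⟩
  apply hz1
  rw [← hcz, QuotientGroup.mk'_apply, QuotientGroup.eq_one_iff]
  exact hcM

/-- **The critical subgroup of small exponent.** With `e = p` (`p` odd) or `e = 4` (`p = 2`):
a `G`-invariant `D ≤ Q` of exponent dividing `e` with `[D, P] ≤ Z(D)` such that `p'`-elements of `G`
fixing `D` elementwise fix `Q` elementwise. -/
theorem exists_omega_critical {p e : ℕ} [Fact p.Prime] [Finite P] (hP : IsPGroup p P)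
    (hpe : p ∣ e) (hpe2 : p ∣ e.choose 2)
    (G : Subgroup (MulAut P)) (hG : (MulAut.conj : P →* MulAut P).range ≤ G)
    (Q : Subgroup P) (hQ : InvLe G Q) :
    ∃ D : Subgroup P, InvLe G D ∧ D ≤ Q ∧ (∀ d ∈ D, d ^ e = 1) ∧
      ⁅D, (⊤ : Subgroup P)⁆ ≤ D ⊓ Subgroup.centralizer (D : Set P) ∧
      ∀ α ∈ G, (orderOf α).Coprime p → (∀ d ∈ D, α d = d) → ∀ q ∈ Q, α q = q := by
  classical
  obtain ⟨M, C, hMC, hCQ, hMinv, hCinv, hCM, hcomm, hpow, hcent⟩ :=
    exists_critical_pair hP G hG Q hQ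
  have hCn : C.Normal := hCinv.normal hG
  have hMcentC : M ≤ Subgroup.centralizer (C : Set P) := by
    intro m hm
    rw [Subgroup.mem_centralizer_iff]
    intro c hc
    exact ((Subgroup.mem_centralizer_iff.mp (hCM hc)) m hm).symm
  have hMcomm : ∀ m ∈ M, ∀ c ∈ C, Commute m c := by
    intro m hm c hc
    exact ((Subgroup.mem_centralizer_iff.mp (hCM hc)) m hm)
  -- the `e`-th power map is multiplicative on `C`
  have hmulpow : ∀ a ∈ C, ∀ b ∈ C, (a * b) ^ e = a ^ e * b ^ e := by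
    intro a ha b hb
    have hkM : ⁅b⁻¹, a⁻¹⁆ ∈ M := hcomm _ (inv_mem hb) _
    have hka : Commute ⁅b⁻¹, a⁻¹⁆ a := hMcomm _ hkM a ha
    have hkb : Commute ⁅b⁻¹, a⁻¹⁆ b := hMcomm _ hkM b hb
    have hkp : ⁅b⁻¹, a⁻¹⁆ ^ p = 1 := by
      have hcu : Commute ⁅b⁻¹, a⁻¹⁆ b⁻¹ := hMcomm _ hkM _ (inv_mem hb)
      rw [← Cfsg.Agent.Lib.Helper35_PGroupAut.commutator_pow_left hcu p,
        commutatorElement_eq_one_iff_commute]
      exact hMcomm _ (hpow _ (inv_mem hb)) _ (inv_mem ha)
    have hk : b * a = a * b * ⁅b⁻¹, a⁻¹⁆ := by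
      rw [commutatorElement_def]; group
    have h1 := Cfsg.Agent.Lib.Helper35_PGroupAut.mul_pow_of_central hk hka hkb e
    rw [h1]
    obtain ⟨t, ht⟩ := hpe2
    rw [ht, pow_mul, hkp, one_pow, mul_one]
  let D : Subgroup P :=
    { carrier := {c | c ∈ C ∧ c ^ e = 1}
      one_mem' := ⟨one_mem _, one_pow _⟩
      mul_mem' := by
        rintro a b ⟨ha, hae⟩ ⟨hb, hbe⟩
        exact ⟨mul_mem ha hb, by rw [hmulpow a ha b hb, hae, hbe, one_mul]⟩
      inv_mem' := by
        rintro a ⟨ha, hae⟩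
        exact ⟨inv_mem ha, by rw [inv_pow, hae, inv_one]⟩ }
  have hDmem : ∀ c, c ∈ D ↔ c ∈ C ∧ c ^ e = 1 := fun c => Iff.rfl
  have hDC : D ≤ C := fun c hc => ((hDmem c).mp hc).1
  have hDinv : InvLe G D := by
    intro α hα d hd
    rw [hDmem] at hd ⊢
    exact ⟨hCinv α hα d hd.1, by rw [← map_pow, hd.2, map_one]⟩
  have hDn : D.Normal := hDinv.normal hG
  refine ⟨D, hDinv, hDC.trans hCQ, fun d hd => ((hDmem d).mp hd).2, ?_, ?_⟩
  · rw [Subgroup.commutator_le]
    intro d hd x _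
    rw [Subgroup.mem_inf]
    refine ⟨?_, ?_⟩
    · rw [commutatorElement_def]
      have h1 : x * d⁻¹ * x⁻¹ ∈ D := hDn.conj_mem _ (inv_mem hd) x
      have h2 : d * x * d⁻¹ * x⁻¹ = d * (x * d⁻¹ * x⁻¹) := by group
      rw [h2]
      exact mul_mem hd h1
    · exact Subgroup.centralizer_le (by exact_mod_cast hDC) (hMcentC (hcomm d (hDC hd) x))
  · intro α hα hcop hfix
    have hfixC : ∀ c ∈ C, α c = c := by
      apply fixes_of_fixes_omega hpe hpe2 α hcop C (hP.to_subgroup C)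
        (fun c => hCinv.mem_iff hα c)
      intro c hc hce
      exact hfix c ((hDmem c).mpr ⟨hc, hce⟩)
    apply fixes_of_fixes_quot α hcop Q (hP.to_subgroup Q) (hQ α hα)
    intro q hq
    have h1 : q⁻¹ * α q ∈ Q ⊓ Subgroup.centralizer (C : Set P) := by
      rw [Subgroup.mem_inf]
      refine ⟨mul_mem (inv_mem hq) (hQ α hα q hq), ?_⟩
      rw [Subgroup.mem_centralizer_iff]
      intro c hc
      have h2 : q * c * q⁻¹ ∈ C := hCn.conj_mem c hc q
      have h3 := hfixC _ h2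
      rw [map_mul, map_mul, map_inv, hfixC c hc] at h3
      calc c * (q⁻¹ * α q) = q⁻¹ * (q * c * q⁻¹) * α q := by group
        _ = q⁻¹ * (α q * c * (α q)⁻¹) * α q := by rw [h3]
        _ = q⁻¹ * α q * c := by group
    exact hfixC _ (hMC (hcent h1))

theorem pow_apply_of_fixed' (α : MulAut P) {a : P} (ha : α a = a) (k : ℕ) : (α ^ k) a = a := by
  have h1 : α a = a * 1 := by rw [ha, mul_one]
  have := pow_apply_of_fixed α h1 (map_one α) k
  rw [this, one_pow, mul_one]

open scoped IsMulCommutative in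
/-- Maximal abelian subgroups `A` of a `G`-invariant `D` with `[D, P] ≤ Z(D)` on which `p'`-elements
of `G` act faithfully: `A ⊴ P` and `C_G(A)` is a `p`-group. -/
theorem maximal_abelian {p : ℕ} [hp : Fact p.Prime] [Finite P] (hP : IsPGroup p P)
    (G : Subgroup (MulAut P)) (D : Subgroup P) (hDinv : InvLe G D)
    (hcomm : ⁅D, (⊤ : Subgroup P)⁆ ≤ D ⊓ Subgroup.centralizer (D : Set P))
    (h5 : ∀ α ∈ G, (orderOf α).Coprime p → (∀ d ∈ D, α d = d) → α = 1)
    (A : Subgroup P) (hAD : A ≤ D) (hA : IsMulCommutative ↥A)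
    (hmax : ∀ B : Subgroup P, A ≤ B → B ≤ D → IsMulCommutative ↥B → B = A) :
    A.Normal ∧ ∀ α ∈ G, (∀ a ∈ A, α a = a) → ∃ k : ℕ, orderOf α = p ^ k := by
  classical
  have hAcomm : ∀ x ∈ A, ∀ y ∈ A, x * y = y * x := by
    intro x hx y hy
    exact congrArg Subtype.val (mul_comm (⟨x, hx⟩ : ↥A) ⟨y, hy⟩)
  -- `C_D(A) ≤ A`
  have hself : ∀ z ∈ D, (∀ a ∈ A, z * a = a * z) → z ∈ A := by
    intro z hz hza
    have hAB : A ≤ Subgroup.closure ((A : Set P) ∪ {z}) :=
      fun a ha => Subgroup.subset_closure (Or.inl ha)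
    have hBD : Subgroup.closure ((A : Set P) ∪ {z}) ≤ D := by
      rw [Subgroup.closure_le]
      rintro b (hb | hb)
      · exact hAD hb
      · rw [Set.mem_singleton_iff] at hb
        rw [hb]
        exact hz
    have hBc : IsMulCommutative ↥(Subgroup.closure ((A : Set P) ∪ {z})) := by
      apply Subgroup.isMulCommutative_closure
      rintro x (hx | hx) y (hy | hy)
      · exact hAcomm x hx y hy
      · rw [Set.mem_singleton_iff] at hy
        rw [hy]
        exact (hza x hx).symm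
      · rw [Set.mem_singleton_iff] at hx
        rw [hx]
        exact hza y hy
      · rw [Set.mem_singleton_iff] at hx hy
        rw [hx, hy]
    have h1 := hmax _ hAB hBD hBc
    rw [← h1]
    exact Subgroup.subset_closure (Or.inr rfl)
  have hAn : A.Normal := by
    constructor
    intro a ha g
    have h1 : ⁅a, g⁆ ∈ D ⊓ Subgroup.centralizer (D : Set P) :=
      hcomm (Subgroup.commutator_mem_commutator (hAD ha) (Subgroup.mem_top g))
    rw [Subgroup.mem_inf] at h1
    have h2 : ⁅a, g⁆ ∈ A := by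
      apply hself _ h1.1
      intro b hb
      exact ((Subgroup.mem_centralizer_iff.mp h1.2) b (hAD hb)).symm
    have h3 : g * a * g⁻¹ = (⁅a, g⁆)⁻¹ * a := by
      rw [commutatorElement_def]; group
    rw [h3]
    exact mul_mem (inv_mem h2) ha
  refine ⟨hAn, ?_⟩
  intro α hα hαA
  have hn0 : orderOf α ≠ 0 := (orderOf_pos α).ne'
  obtain ⟨a, m, hm, hn⟩ := Nat.exists_eq_pow_mul_and_not_dvd hn0 p hp.out.ne_one
  have hpa0 : p ^ a ≠ 0 := pow_ne_zero _ hp.out.ne_zero
  have hdvd : p ^ a ∣ orderOf α := ⟨m, hn⟩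
  have hβord : orderOf (α ^ (p ^ a)) = m := by
    rw [orderOf_pow_of_dvd hpa0 hdvd, hn, Nat.mul_div_cancel_left _ (Nat.pos_of_ne_zero hpa0)]
  have hβcop : (orderOf (α ^ (p ^ a))).Coprime p := by
    rw [hβord]
    exact ((Nat.Prime.coprime_iff_not_dvd hp.out).mpr hm).symm
  have hβG : α ^ (p ^ a) ∈ G := pow_mem hα _
  have hβA : ∀ b ∈ A, (α ^ (p ^ a)) b = b := fun b hb => pow_apply_of_fixed' α (hαA b hb) _
  have hβD : ∀ d ∈ D, (α ^ (p ^ a)) d = d := by
    apply fixes_of_fixes_quot _ hβcop D (hP.to_subgroup D) (hDinv _ hβG)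
    intro d hd
    have hz : d⁻¹ * (α ^ (p ^ a)) d ∈ A := by
      apply hself _ (mul_mem (inv_mem hd) (hDinv _ hβG d hd))
      intro b hb
      have h2 : d * b * d⁻¹ ∈ A := hAn.conj_mem b hb d
      have h3 := hβA _ h2
      rw [map_mul, map_mul, map_inv, hβA b hb] at h3
      symm
      calc b * (d⁻¹ * (α ^ (p ^ a)) d) = d⁻¹ * (d * b * d⁻¹) * (α ^ (p ^ a)) d := by group
        _ = d⁻¹ * ((α ^ (p ^ a)) d * b * ((α ^ (p ^ a)) d)⁻¹) * (α ^ (p ^ a)) d := by rw [h3]
        _ = d⁻¹ * (α ^ (p ^ a)) d * b := by group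
    exact hβA _ hz
  have hβ1 : α ^ (p ^ a) = 1 := h5 _ hβG hβcop hβD
  rw [hβ1, orderOf_one] at hβord
  refine ⟨a, ?_⟩
  rw [hn, ← hβord, mul_one]

end Cfsg.Agent.Lib.Helper33_Critical
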