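import Mathlib
import Cfsg.Prelude.Def_OddOrderLocal
import Cfsg.Prelude.Def_CaseTheorems
import Cfsg.Agent.Lib.Helper33_Critical
import Cfsg.Agent.Lib.Helper32_PGroup
import Cfsg.Agent.Lib.Helper48_Generation
import Cfsg.Agent.Lib.Helper2_OmegaMeta
import Cfsg.Agent.Lib.Helper1_Transport
import Cfsg.Agent.Lib.Helper1_Cores

/-!
# Narrow `p`-groups of rank at least three and their automorphisms (helper2)

Bender–Glauberman, Section 5: if `R` is a narrow `p`-group (`p` odd) of rank at least three, then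
`R` has a characteristic subgroup `D` of exponent `p`, faithful for `p'`-automorphisms, with a chain
of characteristic subgroups with factors of order `p`.  Consequently the automorphisms stabilizing
the chain form a normal `p`-subgroup `Stab` of `Aut R` with `Aut R / Stab` abelian of exponent
dividing `p - 1`.
-/

set_option autoImplicit false
set_option linter.unusedSectionVars false

namespace Cfsg.Agent.Lib.Helper2_Narrow

open Cfsg Subgroup Cfsg.Agent.Lib.Helper2_OmegaMeta

open scoped commutatorElement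

/-! ### Generalities -/

section general

variable {Q : Type*} [Group Q]

theorem exists_mul_of_mem_sup' {A B : Subgroup Q} (hc : ∀ a ∈ A, ∀ b ∈ B, a * b = b * a) {x : Q}
    (hx : x ∈ A ⊔ B) : ∃ a ∈ A, ∃ b ∈ B, x = a * b := by
  rw [Subgroup.sup_eq_closure] at hx
  induction hx using Subgroup.closure_induction with
  | mem y hy =>
    rcases hy with hy | hy
    · exact ⟨y, hy, 1, B.one_mem, (mul_one y).symm⟩
    · exact ⟨1, A.one_mem, y, hy, (one_mul y).symm⟩
  | one => exact ⟨1, A.one_mem, 1, B.one_mem, (mul_one 1).symm⟩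
  | mul x y _ _ hx hy =>
    obtain ⟨a, ha, b, hb, rfl⟩ := hx
    obtain ⟨a', ha', b', hb', rfl⟩ := hy
    refine ⟨a * a', A.mul_mem ha ha', b * b', B.mul_mem hb hb', ?_⟩
    have := hc a' ha' b hb
    calc a * b * (a' * b') = a * (b * a') * b' := by group
      _ = a * (a' * b) * b' := by rw [this]
      _ = a * a' * (b * b') := by group
  | inv x _ hx =>
    obtain ⟨a, ha, b, hb, rfl⟩ := hx
    refine ⟨a⁻¹, A.inv_mem ha, b⁻¹, B.inv_mem hb, ?_⟩
    have := hc a ha b hb
    calc (a * b)⁻¹ = (b * a)⁻¹ := by rw [this]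
      _ = a⁻¹ * b⁻¹ := by group

theorem card_pow_eq_one_le_of_isCyclic {C : Type*} [Group C] [Finite C] [IsCyclic C] {n : ℕ}
    (hn : 0 < n) : Nat.card {b : C // b ^ n = 1} ≤ n := by
  classical
  have := Fintype.ofFinite C
  rw [Nat.card_eq_fintype_card, Fintype.card_subtype]
  exact IsCyclic.card_pow_eq_one_le hn

/-- Two automorphisms preserving a cyclic subgroup commute on it. -/
theorem commute_on_cyclic {W : Type*} [Group W] (Y : Subgroup W) [IsCyclic ↥Y] (α β : W ≃* W)
    (hα : ∀ y ∈ Y, α y ∈ Y) (hβ : ∀ y ∈ Y, β y ∈ Y) {x : W} (hx : x ∈ Y) :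
    α (β x) = β (α x) := by
  obtain ⟨y, hy⟩ := IsCyclic.exists_generator (α := ↥Y)
  have hgen : ∀ w ∈ Y, ∃ k : ℤ, (y : W) ^ k = w := by
    intro w hw
    obtain ⟨k, hk⟩ := mem_zpowers_iff.mp (hy ⟨w, hw⟩)
    exact ⟨k, by have := congrArg Subtype.val hk; simpa using this⟩
  obtain ⟨a, ha⟩ := hgen _ (hα y y.2)
  obtain ⟨b, hb⟩ := hgen _ (hβ y y.2)
  obtain ⟨k, hk⟩ := hgen x hx
  have h1 : α (β (y : W)) = β (α (y : W)) := by
    rw [← ha, ← hb, map_zpow, map_zpow, ← ha, ← hb, ← zpow_mul, ← zpow_mul, mul_comm]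
  rw [← hk, map_zpow, map_zpow, map_zpow, map_zpow, h1]

/-- An automorphism preserving a subgroup of order dividing `p` has `(p-1)`-th power trivial on
it. -/
theorem pow_pred_on_prime {W : Type*} [Group W] [Finite W] {p : ℕ} [Fact p.Prime] (Y : Subgroup W)
    (hY : Nat.card Y ∣ p) (α : MulAut W) (hα : ∀ y ∈ Y, α y ∈ Y) {x : W} (hx : x ∈ Y) :
    (α ^ (p - 1)) x = x := by
  have hpP : p.Prime := Fact.out
  rcases (Nat.dvd_prime hpP).mp hY with h1 | h1
  · have hx1 : x = 1 := by
      have : Y = ⊥ := Subgroup.card_eq_one.mp h1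
      rw [this, Subgroup.mem_bot] at hx
      exact hx
    rw [hx1, map_one]
  · by_cases hx1 : x = 1
    · rw [hx1, map_one]
    · have hz := zpowers_eq_of_prime_card Y h1 hx hx1
      have hαx : α x ∈ zpowers x := by rw [hz]; exact hα x hx
      obtain ⟨a, ha⟩ := mem_powers_iff_mem_zpowers.mpr hαx
      have ha' : x ^ a = α x := ha
      have hpow : ∀ k : ℕ, (α ^ k) x = x ^ (a ^ k) := by
        intro k
        induction k with
        | zero => simp
        | succ k ih => rw [pow_succ', MulAut.mul_apply, ih, map_pow, ← ha', ← pow_mul, ← pow_succ']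
      have hxo : orderOf x = p := orderOf_eq_prime (by
        have := pow_card_eq_one' (G := ↥Y) (x := ⟨x, hx⟩)
        rw [h1] at this
        have := congrArg Subtype.val this
        simpa using this) hx1
      have hpa : ¬ p ∣ a := by
        intro hdvd
        have h2 : α x = 1 := by
          rw [← ha']
          obtain ⟨c, rfl⟩ := hdvd
          rw [pow_mul, ← hxo, pow_orderOf_eq_one, one_pow]
        exact hx1 (by simpa using h2)
      rw [hpow]
      have h3 : a ^ (p - 1) ≡ 1 [MOD p] := by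
        have hcop : Nat.Coprime a p := (Nat.Prime.coprime_iff_not_dvd hpP).mpr hpa |>.symm
        have := Nat.ModEq.pow_totient hcop
        rwa [Nat.totient_prime hpP] at this
      have h4 : x ^ (a ^ (p - 1)) = x ^ 1 := by
        rw [pow_eq_pow_iff_modEq, hxo]
        exact h3
      rw [h4, pow_one]

/-- Counting lemma: if `N' ≤ D` and `[d, g] ∈ N` for all `d ∈ N'`, then
`|N'| ≤ |N| · |C_D(g)|`. -/
theorem card_le_of_comm_mem [Finite Q] (g : Q) (D N N' : Subgroup Q) (hN'D : N' ≤ D)
    (hcomm : ∀ d ∈ N', ⁅d, g⁆ ∈ N) :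
    Nat.card N' ≤ Nat.card N * Nat.card ↥(D ⊓ centralizer ({g} : Set Q)) := by
  classical
  set X₀ := D ⊓ centralizer ({g} : Set Q) with hX₀
  let rep : Q → ↥N' := fun n =>
    if hn : ∃ d₀ : ↥N', ⁅(d₀ : Q), g⁆ = n then Classical.choose hn else 1
  have hrep : ∀ d : ↥N', ⁅((rep ⁅(d : Q), g⁆ : ↥N') : Q), g⁆ = ⁅(d : Q), g⁆ := by
    intro d
    have hn : ∃ d₀ : ↥N', ⁅(d₀ : Q), g⁆ = ⁅(d : Q), g⁆ := ⟨d, rfl⟩
    simp only [rep, dif_pos hn]
    exact Classical.choose_spec hn
  have hmem : ∀ d : ↥N', ((rep ⁅(d : Q), g⁆ : ↥N') : Q)⁻¹ * (d : Q) ∈ X₀ := by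
    intro d
    set d₀ := rep ⁅(d : Q), g⁆ with hd₀
    refine Subgroup.mem_inf.mpr ⟨D.mul_mem (D.inv_mem (hN'D d₀.2)) (hN'D d.2), ?_⟩
    rw [mem_centralizer_singleton_iff]
    have h1 := hrep d
    rw [← hd₀] at h1
    simp only [commutatorElement_def] at h1
    have h2 : (d₀ : Q) * g * (d₀ : Q)⁻¹ = (d : Q) * g * (d : Q)⁻¹ := mul_right_cancel h1
    calc (d₀ : Q)⁻¹ * (d : Q) * g = (d₀ : Q)⁻¹ * ((d : Q) * g * (d : Q)⁻¹) * (d : Q) := by group
      _ = (d₀ : Q)⁻¹ * ((d₀ : Q) * g * (d₀ : Q)⁻¹) * (d : Q) := by rw [h2]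
      _ = g * ((d₀ : Q)⁻¹ * (d : Q)) := by group
  let F : ↥N' → ↥N × ↥X₀ := fun d => (⟨⁅(d : Q), g⁆, hcomm d d.2⟩, ⟨_, hmem d⟩)
  have hinj : Function.Injective F := by
    intro d d' hdd
    have h1 : ⁅(d : Q), g⁆ = ⁅(d' : Q), g⁆ := congrArg (fun x => (x.1 : Q)) hdd
    have h2 : ((rep ⁅(d : Q), g⁆ : ↥N') : Q)⁻¹ * (d : Q) =
        ((rep ⁅(d' : Q), g⁆ : ↥N') : Q)⁻¹ * (d' : Q) := congrArg (fun x => (x.2 : Q)) hdd
    rw [h1] at h2
    exact Subtype.ext (mul_left_cancel h2)
  calc Nat.card N' ≤ Nat.card (↥N × ↥X₀) := Nat.card_le_card_of_injective F hinj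
    _ = Nat.card N * Nat.card X₀ := Nat.card_prod _ _

/-- The chain `D ∩ Z_i(Q)`. -/
def chain (D : Subgroup Q) (i : ℕ) : Subgroup Q := D ⊓ Subgroup.upperCentralSeries Q i

theorem chain_zero (D : Subgroup Q) : chain D 0 = ⊥ := by
  unfold chain
  rw [Subgroup.upperCentralSeries_zero, inf_bot_eq]

theorem chain_le (D : Subgroup Q) (i : ℕ) : chain D i ≤ D := inf_le_left

theorem chain_mono (D : Subgroup Q) : Monotone (chain D) := fun _ _ hij =>
  inf_le_inf_left D (Subgroup.upperCentralSeries_mono Q hij)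

theorem chain_top [Group.IsNilpotent Q] (D : Subgroup Q) :
    chain D (Group.nilpotencyClass Q) = D := by
  unfold chain
  rw [Subgroup.upperCentralSeries_nilpotencyClass, inf_top_eq]

instance chain_characteristic (D : Subgroup Q) [D.Characteristic] (i : ℕ) :
    (chain D i).Characteristic := by
  unfold chain
  infer_instance

theorem comm_mem_chain (D : Subgroup Q) [D.Normal] {i : ℕ} {d : Q} (hd : d ∈ chain D (i + 1))
    (r : Q) : ⁅d, r⁆ ∈ chain D i := by
  refine Subgroup.mem_inf.mpr ⟨?_, ?_⟩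
  · rw [commutatorElement_def]
    have h1 : r * d⁻¹ * r⁻¹ ∈ D := Subgroup.Normal.conj_mem inferInstance _ (D.inv_mem hd.1) r
    have h2 : d * r * d⁻¹ * r⁻¹ = d * (r * d⁻¹ * r⁻¹) := by group
    rw [h2]
    exact D.mul_mem hd.1 h1
  · rw [commutatorElement_def]
    exact Subgroup.mem_upperCentralSeries_succ_iff.mp hd.2 r

/-- The chain is strictly increasing until it reaches `D`. -/
theorem chain_strict [Finite Q] {p : ℕ} [Fact p.Prime] (hQ : IsPGroup p Q) (D : Subgroup Q)
    [D.Normal] (i : ℕ) (heq : chain D (i + 1) = chain D i) : chain D i = D := by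
  by_contra hne
  have hnle : ¬ D ≤ Subgroup.upperCentralSeries Q i := by
    intro hle
    apply hne
    unfold chain
    exact inf_eq_left.mpr hle
  set π := QuotientGroup.mk' (Subgroup.upperCentralSeries Q i) with hπ
  have hDn : (D.map π).Normal :=
    Subgroup.Normal.map inferInstance π (QuotientGroup.mk'_surjective _)
  have hDne : D.map π ≠ ⊥ := by
    intro hb
    apply hnle
    intro d hd
    have : π d ∈ D.map π := ⟨d, hd, rfl⟩
    rw [hb, Subgroup.mem_bot] at this
    exact (QuotientGroup.eq_one_iff d).mp this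
  obtain ⟨z, hzD, hzc, hz1⟩ :=
    Cfsg.Agent.Lib.Helper32_PGroup.exists_mem_center_of_normal
      (hQ.to_quotient (Subgroup.upperCentralSeries Q i)) (D.map π) hDne
  obtain ⟨d, hd, rfl⟩ := hzD
  have hd1 : d ∈ chain D (i + 1) := by
    refine Subgroup.mem_inf.mpr ⟨hd, ?_⟩
    rw [Subgroup.mem_upperCentralSeries_succ_iff]
    intro y
    apply (QuotientGroup.eq_one_iff _).mp
    show π (d * y * d⁻¹ * y⁻¹) = 1
    rw [map_mul, map_mul, map_mul, map_inv, map_inv]
    have := mem_center_iff.mp hzc (π y)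
    rw [← this]
    group
  rw [heq] at hd1
  exact hz1 ((QuotientGroup.eq_one_iff d).mpr hd1.2)

end general

/-! ### Narrow data -/

/-- The data of a narrow `p`-group of rank at least three: `g` of order `p` with
`C_Q(g) = ⟨g⟩ R₁`, `R₁` cyclic. -/
structure NData (p : ℕ) (Q : Type*) [Group Q] (g : Q) (R₁ : Subgroup Q) : Prop where
  isPGroup : IsPGroup p Q
  g_pow : g ^ p = 1
  g_ne : g ≠ 1
  cyc : IsCyclic R₁
  comm : ∀ b ∈ R₁, g * b = b * g
  cent : centralizer ({g} : Set Q) = zpowers g ⊔ R₁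
  rank : ¬ Cfsg.PRankLE p 2 Q

namespace NData

variable {Q : Type*} [Group Q] [Finite Q] {p : ℕ} [Fact p.Prime] {g : Q} {R₁ : Subgroup Q}
  (h : NData p Q g R₁)

include h

theorem orderOf_g : orderOf g = p := orderOf_eq_prime h.g_pow h.g_ne

theorem card_zpowers : Nat.card (zpowers g) = p := by rw [Nat.card_zpowers, h.orderOf_g]

theorem pow_zpowers {a : Q} (ha : a ∈ zpowers g) : a ^ p = 1 := by
  obtain ⟨k, rfl⟩ := mem_zpowers_iff.mp ha
  rw [← zpow_natCast, ← zpow_mul, mul_comm, zpow_mul, zpow_natCast, h.g_pow, one_zpow]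

theorem comm_zpowers : ∀ a ∈ zpowers g, ∀ b ∈ R₁, a * b = b * a := by
  intro a ha b hb
  obtain ⟨k, rfl⟩ := mem_zpowers_iff.mp ha
  have h1 : Commute g b := h.comm b hb
  exact (h1.zpow_left k).eq

theorem exists_decomp {x : Q} (hx : x ∈ centralizer ({g} : Set Q)) :
    ∃ a ∈ zpowers g, ∃ b ∈ R₁, x = a * b := by
  rw [h.cent] at hx
  exact exists_mul_of_mem_sup' h.comm_zpowers hx

theorem comm_R₁ : ∀ a ∈ R₁, ∀ b ∈ R₁, a * b = b * a := by
  intro a ha b hb
  have := h.cyc
  have h1 := (IsCyclic.commGroup (α := ↥R₁)).mul_comm ⟨a, ha⟩ ⟨b, hb⟩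
  exact congrArg Subtype.val h1

theorem comm_centralizer : ∀ a ∈ centralizer ({g} : Set Q), ∀ b ∈ centralizer ({g} : Set Q),
    a * b = b * a := by
  intro x hx y hy
  obtain ⟨a, ha, b, hb, rfl⟩ := h.exists_decomp hx
  obtain ⟨a', ha', b', hb', rfl⟩ := h.exists_decomp hy
  have h1 : a * a' = a' * a := by
    obtain ⟨k, rfl⟩ := mem_zpowers_iff.mp ha
    obtain ⟨k', rfl⟩ := mem_zpowers_iff.mp ha'
    rw [← zpow_add, ← zpow_add, add_comm]
  have h2 := h.comm_zpowers a ha b' hb'
  have h3 := h.comm_zpowers a' ha' b hb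
  have h4 := h.comm_R₁ b hb b' hb'
  calc a * b * (a' * b') = a * (b * a') * b' := by group
    _ = a * (a' * b) * b' := by rw [h3]
    _ = (a * a') * (b * b') := by group
    _ = (a' * a) * (b' * b) := by rw [h1, h4]
    _ = a' * (a * b') * b := by group
    _ = a' * (b' * a) * b := by rw [h2]
    _ = a' * b' * (a * b) := by group

theorem g_mem_centralizer : g ∈ centralizer ({g} : Set Q) :=
  mem_centralizer_singleton_iff.mpr rfl

/-- The decomposition `x = a b` chosen for elements of exponent `p` of the centralizer. -/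
theorem exists_decomp' (X : Subgroup Q) (hX : X ≤ centralizer ({g} : Set Q))
    (hexp : ∀ x ∈ X, x ^ p = 1) (x : ↥X) :
    ∃ ab : ↥(zpowers g) × {b : ↥R₁ // b ^ p = 1}, (x : Q) = (ab.1 : Q) * ((ab.2 : ↥R₁) : Q) := by
  obtain ⟨a, ha, b, hb, hab⟩ := h.exists_decomp (hX x.2)
  have hbp : b ^ p = 1 := by
    have h1 : b = a⁻¹ * (x : Q) := by rw [hab]; group
    have h2 : Commute a⁻¹ (x : Q) := by
      have h3 : a⁻¹ ∈ centralizer ({g} : Set Q) := by
        rw [h.cent]
        exact mem_sup_left (inv_mem ha)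
      exact h.comm_centralizer _ h3 _ (hX x.2)
    rw [h1, h2.mul_pow, hexp _ x.2, inv_pow, h.pow_zpowers ha, inv_one, one_mul]
  exact ⟨(⟨a, ha⟩, ⟨⟨b, hb⟩, Subtype.ext hbp⟩), hab⟩

/-- Elementary abelian subgroups of `C_Q(g)` have order at most `p²`. -/
theorem card_le_sq (X : Subgroup Q) (hX : X ≤ centralizer ({g} : Set Q))
    (hexp : ∀ x ∈ X, x ^ p = 1) : Nat.card X ≤ p ^ 2 := by
  have hpP : p.Prime := Fact.out
  have := h.cyc
  choose f hf using h.exists_decomp' X hX hexp
  have hinj : Function.Injective f := by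
    intro x y hxy
    apply Subtype.ext
    rw [hf x, hf y, hxy]
  calc Nat.card X ≤ Nat.card (↥(zpowers g) × {b : ↥R₁ // b ^ p = 1}) :=
        Nat.card_le_card_of_injective f hinj
    _ = Nat.card ↥(zpowers g) * Nat.card {b : ↥R₁ // b ^ p = 1} := Nat.card_prod _ _
    _ ≤ p * p := by
        rw [h.card_zpowers]
        exact Nat.mul_le_mul_left _ (card_pow_eq_one_le_of_isCyclic hpP.pos)
    _ = p ^ 2 := (sq p).symm

/-- Elementary abelian subgroups of `C_Q(g)` not containing `g` have order at most `p`. -/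
theorem card_le (X : Subgroup Q) (hX : X ≤ centralizer ({g} : Set Q))
    (hexp : ∀ x ∈ X, x ^ p = 1) (hg : g ∉ X) : Nat.card X ≤ p := by
  have hpP : p.Prime := Fact.out
  have := h.cyc
  choose f hf using h.exists_decomp' X hX hexp
  have hinj : Function.Injective (fun x => (f x).2) := by
    intro x y hxy
    have hxy' : (f x).2 = (f y).2 := hxy
    have h1 : (x : Q) * (y : Q)⁻¹ = ((f x).1 : Q) * ((f y).1 : Q)⁻¹ := by
      rw [hf x, hf y, hxy']; group
    have h2 : (x : Q) * (y : Q)⁻¹ ∈ zpowers g := by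
      rw [h1]
      exact mul_mem (f x).1.2 (inv_mem (f y).1.2)
    have h3 : (x : Q) * (y : Q)⁻¹ ∈ X := mul_mem x.2 (inv_mem y.2)
    by_contra hne
    apply hg
    have h4 : (x : Q) * (y : Q)⁻¹ ≠ 1 := by
      intro h5
      apply hne
      apply Subtype.ext
      exact mul_inv_eq_one.mp h5
    have h5 := zpowers_eq_of_prime_card (zpowers g) h.card_zpowers h2 h4
    have h6 : g ∈ zpowers ((x : Q) * (y : Q)⁻¹) := by rw [h5]; exact mem_zpowers g
    exact (zpowers_le.mpr h3) h6
  calc Nat.card X ≤ Nat.card {b : ↥R₁ // b ^ p = 1} := Nat.card_le_card_of_injective _ hinj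
    _ ≤ p := card_pow_eq_one_le_of_isCyclic hpP.pos

/-- `g` is not central. -/
theorem g_not_mem_center : g ∉ center Q := by
  intro hc
  apply h.rank
  have htop : centralizer ({g} : Set Q) = ⊤ := by
    rw [eq_top_iff]
    intro x _
    rw [mem_centralizer_singleton_iff]
    exact (mem_center_iff.mp hc x)
  intro X _ hexp
  exact h.card_le_sq X (by rw [htop]; exact le_top) hexp

/-- `C_Q(g)` has index greater than `p`. -/
theorem index_centralizer : ¬ (centralizer ({g} : Set Q)).index ≤ p := by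
  have hpP : p.Prime := Fact.out
  intro hidx
  apply h.rank
  intro V hVc hVexp
  by_contra hlt
  push Not at hlt
  set C := centralizer ({g} : Set Q) with hC
  have h1 : Nat.card ↥(V ⊓ C) * C.relIndex V = Nat.card V := by
    have h2 := Subgroup.card_mul_index ((V ⊓ C).subgroupOf V)
    rw [Cfsg.Agent.Lib.Helper1_Transport.card_subgroupOf (inf_le_left : V ⊓ C ≤ V)] at h2
    rw [← h2]
    congr 1
    exact (Subgroup.inf_relIndex_left V C).symm
  have h2 : C.relIndex V ≤ p := by
    have h3 : C.relIndex V ≤ C.relIndex ⊤ :=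
      Subgroup.relIndex_le_of_le_right le_top (by
        rw [Subgroup.relIndex_top_right]
        exact Subgroup.index_ne_zero_of_finite)
    rw [Subgroup.relIndex_top_right] at h3
    exact h3.trans hidx
  have hXexp : ∀ x ∈ V ⊓ C, x ^ p = 1 := fun x hx => hVexp x hx.1
  have hgV : g ∈ V := by
    by_contra hgV
    have h3 := h.card_le (V ⊓ C) inf_le_right hXexp (fun hg => hgV hg.1)
    have h4 : Nat.card V ≤ p * p := by
      rw [← h1]
      exact Nat.mul_le_mul h3 h2
    rw [sq] at hlt
    omega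
  have hVC : V ≤ C := by
    intro v hv
    rw [hC, mem_centralizer_singleton_iff]
    have := hVc.is_comm.comm ⟨v, hv⟩ ⟨g, hgV⟩
    exact congrArg Subtype.val this
  have := h.card_le_sq V hVC hVexp
  omega

/-- The uniserial step: if `g ∉ D` (`D` of exponent `p`), `N' ≤ D` and `[N', g] ⊆ N` then
`|N'| ≤ p |N|`. -/
theorem card_le_mul (D N N' : Subgroup Q) (hexp : ∀ d ∈ D, d ^ p = 1) (hg : g ∉ D)
    (hN'D : N' ≤ D) (hcomm : ∀ d ∈ N', ⁅d, g⁆ ∈ N) : Nat.card N' ≤ p * Nat.card N := by
  have hX₀card : Nat.card ↥(D ⊓ centralizer ({g} : Set Q)) ≤ p :=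
    h.card_le _ inf_le_right (fun x hx => hexp x hx.1) (fun hg' => hg hg'.1)
  calc Nat.card N' ≤ Nat.card N * Nat.card ↥(D ⊓ centralizer ({g} : Set Q)) :=
        card_le_of_comm_mem g D N N' hN'D hcomm
    _ ≤ Nat.card N * p := Nat.mul_le_mul_left _ hX₀card
    _ = p * Nat.card N := mul_comm _ _

/-- The commutators `[r, g]` do not all lie in a subgroup of order at most `p`. -/
theorem not_comm_mem (N : Subgroup Q) (hN : Nat.card N ≤ p) (hcomm : ∀ r : Q, ⁅r, g⁆ ∈ N) :
    False := by
  apply h.index_centralizer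
  have h1 := card_le_of_comm_mem g ⊤ N ⊤ le_rfl (fun d _ => hcomm d)
  rw [top_inf_eq, Subgroup.card_top] at h1
  have h2 := Subgroup.card_mul_index (centralizer ({g} : Set Q))
  rw [← h2, mul_comm] at h1
  have h3 : (centralizer ({g} : Set Q)).index ≤ Nat.card N :=
    Nat.le_of_mul_le_mul_right h1 Nat.card_pos
  exact h3.trans hN

/-- The chain `D ∩ Z_i(Q)` has steps of order at most `p`, for `D` normal of exponent `p` with
`[D, Q] ≤ Z(D)`. -/
theorem card_chain_succ_le (D : Subgroup Q) [D.Normal] (hexp : ∀ d ∈ D, d ^ p = 1)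
    (hcl : ⁅D, (⊤ : Subgroup Q)⁆ ≤ D ⊓ centralizer (D : Set Q)) (i : ℕ) :
    Nat.card (chain D (i + 1)) ≤ p * Nat.card (chain D i) := by
  have hpP : p.Prime := Fact.out
  by_cases hgD : g ∈ D
  · -- `D` has order at most `p³`
    have hDcard : Nat.card D ≤ p ^ 3 := by
      by_cases hgc : g ∈ centralizer (D : Set Q)
      · have hle : D ≤ centralizer ({g} : Set Q) := by
          intro d hd
          rw [mem_centralizer_singleton_iff]
          exact (mem_centralizer_iff.mp hgc d hd)
        calc Nat.card D ≤ p ^ 2 := h.card_le_sq D hle hexp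
          _ ≤ p ^ 3 := Nat.pow_le_pow_right hpP.pos (by norm_num)
      · have hZD : Nat.card ↥(D ⊓ centralizer (D : Set Q)) ≤ p := by
          refine h.card_le (D ⊓ centralizer (D : Set Q)) ?_ (fun z hz => hexp z hz.1)
            (fun hg => hgc hg.2)
          intro z hz
          rw [mem_centralizer_singleton_iff]
          exact ((mem_centralizer_iff.mp hz.2) g hgD).symm
        have h1 := card_le_of_comm_mem g D (D ⊓ centralizer (D : Set Q)) D le_rfl
          (fun d hd => hcl (Subgroup.commutator_mem_commutator hd (mem_top g)))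
        have h2 : Nat.card ↥(D ⊓ centralizer ({g} : Set Q)) ≤ p ^ 2 :=
          h.card_le_sq _ inf_le_right (fun x hx => hexp x hx.1)
        calc Nat.card D ≤ Nat.card ↥(D ⊓ centralizer (D : Set Q)) *
              Nat.card ↥(D ⊓ centralizer ({g} : Set Q)) := h1
          _ ≤ p * p ^ 2 := Nat.mul_le_mul hZD h2
          _ = p ^ 3 := by ring
    have hg1 : g ∉ chain D 1 := by
      intro hg
      apply h.g_not_mem_center
      have := hg.2
      rwa [Subgroup.upperCentralSeries_one] at this
    have hc1 : Nat.card (chain D 1) ≤ p := by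
      refine h.card_le (chain D 1) ?_ (fun x hx => hexp x hx.1) hg1
      intro z hz
      rw [mem_centralizer_singleton_iff]
      have hzc : z ∈ center Q := by
        have := hz.2
        rwa [Subgroup.upperCentralSeries_one] at this
      exact (mem_center_iff.mp hzc g).symm
    have hg2 : g ∉ chain D 2 := by
      intro hg2
      apply h.not_comm_mem (chain D 1) hc1
      intro r
      have h1 := comm_mem_chain D hg2 r
      rw [← commutatorElement_inv g r]
      exact inv_mem h1
    rcases i with _ | _ | i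
    · rw [chain_zero, Subgroup.card_bot, mul_one]
      exact hc1
    · exact h.card_le_mul (chain D 2) (chain D 1) (chain D 2) (fun d hd => hexp d hd.1) hg2 le_rfl
        (fun d hd => comm_mem_chain D hd g)
    · have h3 : p ^ 2 ≤ Nat.card (chain D 2) := by
        have hne1 : chain D 1 ≠ ⊥ := by
          intro hb
          have h4 := chain_strict h.isPGroup D 0 (by rw [zero_add, hb, chain_zero])
          rw [chain_zero] at h4
          rw [← h4, Subgroup.mem_bot] at hgD
          exact h.g_ne hgD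
        have hne2 : chain D 2 ≠ chain D 1 := by
          intro heq
          have h4 := chain_strict h.isPGroup D 1 heq
          rw [← h4] at hgD
          exact hg1 hgD
        obtain ⟨a, ha⟩ := IsPGroup.iff_card.mp (h.isPGroup.to_subgroup (chain D 1))
        obtain ⟨b, hb⟩ := IsPGroup.iff_card.mp (h.isPGroup.to_subgroup (chain D 2))
        have ha1 : 1 ≤ a := by
          rcases Nat.eq_zero_or_pos a with h0 | h0
          · rw [h0, pow_zero] at ha
            exact absurd (Subgroup.card_eq_one.mp ha) hne1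
          · exact h0
        have hlt : Nat.card (chain D 1) < Nat.card (chain D 2) := by
          have hle : chain D 1 ≤ chain D 2 := chain_mono D (by norm_num)
          rcases (Subgroup.card_le_of_le hle).lt_or_eq with h5 | h5
          · exact h5
          · exact absurd (Subgroup.eq_of_le_of_card_ge hle h5.ge).symm hne2
        rw [ha, hb] at hlt
        have hab : a < b := (Nat.pow_lt_pow_iff_right hpP.one_lt).mp hlt
        rw [hb]
        exact Nat.pow_le_pow_right hpP.pos (by omega)
      have h2 : p ^ 2 ≤ Nat.card (chain D (i + 1 + 1)) :=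
        h3.trans (Subgroup.card_le_of_le (chain_mono D (by omega)))
      calc Nat.card (chain D (i + 1 + 1 + 1)) ≤ Nat.card D := Subgroup.card_le_of_le (chain_le D _)
        _ ≤ p ^ 3 := hDcard
        _ = p * p ^ 2 := by ring
        _ ≤ p * Nat.card (chain D (i + 1 + 1)) := Nat.mul_le_mul_left _ h2
  · exact h.card_le_mul D (chain D i) (chain D (i + 1)) hexp hgD (chain_le D _)
      (fun d hd => comm_mem_chain D hd g)

end NData

/-! ### The stabilizer of the chain -/

section stab

variable {Q : Type*} [Group Q]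

theorem apply_mem_of_char (K : Subgroup Q) [hK : K.Characteristic] (α : MulAut Q) {x : Q}
    (hx : x ∈ K) : α x ∈ K := by
  have := Subgroup.characteristic_iff_comap_eq.mp hK α
  rw [← this] at hx
  exact hx

/-- The automorphisms acting trivially on the factors of the chain `D ∩ Z_i(Q)`. -/
def stab (D : Subgroup Q) [D.Characteristic] : Subgroup (MulAut Q) where
  carrier := {α | ∀ i, ∀ d ∈ chain D (i + 1), d⁻¹ * α d ∈ chain D i}
  one_mem' := by
    intro i d _
    simp
  mul_mem' := by
    intro α β hα hβ i d hd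
    have h1 := hβ i d hd
    have h2 := hα i (β d) (apply_mem_of_char _ β hd)
    have h3 : d⁻¹ * (α * β) d = (d⁻¹ * β d) * ((β d)⁻¹ * α (β d)) := by
      rw [MulAut.mul_apply]; group
    rw [h3]
    exact mul_mem h1 h2
  inv_mem' := by
    intro α hα i d hd
    have he : α⁻¹ d ∈ chain D (i + 1) := apply_mem_of_char _ α⁻¹ hd
    have h1 := hα i (α⁻¹ d) he
    rw [MulAut.apply_inv_self] at h1
    have h2 : d⁻¹ * α⁻¹ d = ((α⁻¹ d)⁻¹ * d)⁻¹ := by group
    rw [h2]
    exact inv_mem h1

theorem mem_stab (D : Subgroup Q) [D.Characteristic] (α : MulAut Q) :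
    α ∈ stab D ↔ ∀ i, ∀ d ∈ chain D (i + 1), d⁻¹ * α d ∈ chain D i := Iff.rfl

instance stab_normal (D : Subgroup Q) [D.Characteristic] : (stab D).Normal := by
  constructor
  intro α hα β i d hd
  have he : β⁻¹ d ∈ chain D (i + 1) := apply_mem_of_char _ β⁻¹ hd
  have h1 := hα i (β⁻¹ d) he
  have h2 := apply_mem_of_char (chain D i) β h1
  rw [map_mul, map_inv, MulAut.apply_inv_self] at h2
  exact h2

/-- membership in the stabilizer, through the quotients -/
theorem mem_stab_iff (D : Subgroup Q) [D.Characteristic] (α : MulAut Q) :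
    α ∈ stab D ↔ ∀ i, ∀ d ∈ chain D (i + 1),
      Cfsg.Agent.Lib.Helper48_Generation.autQuot (chain D i) α (d : Q ⧸ chain D i) =
        (d : Q ⧸ chain D i) := by
  rw [mem_stab]
  constructor
  · intro h i d hd
    rw [Cfsg.Agent.Lib.Helper48_Generation.autQuot_mk, eq_comm, QuotientGroup.eq]
    exact h i d hd
  · intro h i d hd
    have := h i d hd
    rw [Cfsg.Agent.Lib.Helper48_Generation.autQuot_mk, eq_comm, QuotientGroup.eq] at this
    exact this

variable [Finite Q] {p : ℕ} [Fact p.Prime]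

/-- The factors of the chain have order dividing `p`. -/
theorem card_factor_dvd (hQ : IsPGroup p Q) (D : Subgroup Q) [D.Characteristic] (i : ℕ)
    (hstep : Nat.card (chain D (i + 1)) ≤ p * Nat.card (chain D i)) :
    Nat.card ((chain D (i + 1)).map (QuotientGroup.mk' (chain D i))) ∣ p := by
  have hpP : p.Prime := Fact.out
  have h1 := Cfsg.Agent.Lib.Helper1_Transport.card_map_mk'_of_le (chain D i) (chain D (i + 1))
    (chain_mono D (Nat.le_succ i))
  rw [← h1] at hstep
  have h2 : Nat.card ((chain D (i + 1)).map (QuotientGroup.mk' (chain D i))) ≤ p :=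
    Nat.le_of_mul_le_mul_right hstep Nat.card_pos
  obtain ⟨k, hk⟩ := IsPGroup.iff_card.mp
    ((hQ.to_quotient (chain D i)).to_subgroup
      ((chain D (i + 1)).map (QuotientGroup.mk' (chain D i))))
  rw [hk] at h2 ⊢
  have hk1 : k ≤ 1 := by
    by_contra hk2
    push Not at hk2
    have : p ^ 2 ≤ p ^ k := Nat.pow_le_pow_right hpP.pos hk2
    have h3 : p < p ^ 2 := by
      have := Nat.pow_lt_pow_right hpP.one_lt (show 1 < 2 by norm_num)
      rwa [pow_one] at this
    omega
  interval_cases k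
  · simp
  · simp

theorem isCyclic_of_card_dvd_prime {Y : Type*} [Group Y] [Finite Y] (hY : Nat.card Y ∣ p) :
    IsCyclic Y := by
  have hpP : p.Prime := Fact.out
  rcases (Nat.dvd_prime hpP).mp hY with h1 | h1
  · have : Subsingleton Y := (Nat.card_eq_one_iff_unique.mp h1).1
    exact isCyclic_of_subsingleton
  · exact isCyclic_of_prime_card h1

variable (hQ : IsPGroup p Q) (D : Subgroup Q) [D.Characteristic]
  (hstep : ∀ i, Nat.card (chain D (i + 1)) ≤ p * Nat.card (chain D i))

include hQ hstep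

/-- Commutators of automorphisms stabilize the chain. -/
theorem commutator_mem_stab (α β : MulAut Q) : ⁅α, β⁆ ∈ stab D := by
  rw [mem_stab_iff]
  intro i d hd
  set W := Q ⧸ chain D i
  set Y := (chain D (i + 1)).map (QuotientGroup.mk' (chain D i)) with hY
  have hYcard := card_factor_dvd hQ D i (hstep i)
  have hYc : IsCyclic ↥Y := isCyclic_of_card_dvd_prime hYcard
  set aq := Cfsg.Agent.Lib.Helper48_Generation.autQuot (chain D i) with haq
  have hpres : ∀ γ : MulAut Q, ∀ y ∈ Y, aq γ y ∈ Y := by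
    rintro γ _ ⟨x, hx, rfl⟩
    exact ⟨γ x, apply_mem_of_char _ γ hx, rfl⟩
  have he : α⁻¹ (β⁻¹ d) ∈ chain D (i + 1) :=
    apply_mem_of_char _ α⁻¹ (apply_mem_of_char _ β⁻¹ hd)
  have h1 := commute_on_cyclic Y (aq α) (aq β) (hpres α) (hpres β)
    (x := QuotientGroup.mk' (chain D i) (α⁻¹ (β⁻¹ d))) ⟨_, he, rfl⟩
  have h2 : (⁅α, β⁆ : MulAut Q) d = α (β (α⁻¹ (β⁻¹ d))) := by
    rw [commutatorElement_def]
    rfl
  have h3 : d = β (α (α⁻¹ (β⁻¹ d))) := by
    rw [MulAut.apply_inv_self, MulAut.apply_inv_self]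
  rw [Cfsg.Agent.Lib.Helper48_Generation.autQuot_mk, h2]
  conv_rhs => rw [h3]
  exact h1

/-- `(p-1)`-th powers of automorphisms stabilize the chain. -/
theorem pow_pred_mem_stab (α : MulAut Q) : α ^ (p - 1) ∈ stab D := by
  rw [mem_stab_iff]
  intro i d hd
  set Y := (chain D (i + 1)).map (QuotientGroup.mk' (chain D i)) with hY
  have hYcard := card_factor_dvd hQ D i (hstep i)
  set aq := Cfsg.Agent.Lib.Helper48_Generation.autQuot (chain D i) with haq
  have hpres : ∀ y ∈ Y, aq α y ∈ Y := by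
    rintro _ ⟨x, hx, rfl⟩
    exact ⟨α x, apply_mem_of_char _ α hx, rfl⟩
  rw [map_pow]
  exact pow_pred_on_prime Y hYcard (aq α) hpres ⟨d, hd, rfl⟩

omit hstep in
/-- A `p'`-automorphism stabilizing the chain centralizes `D` (of exponent `p`). -/
theorem fix_of_mem_stab (hexp : ∀ d ∈ D, d ^ p = 1) {α : MulAut Q} (hα : α ∈ stab D)
    (hcop : (orderOf α).Coprime p) : ∀ d ∈ D, α d = d := by
  have hpP : p.Prime := Fact.out
  have key : ∀ i, ∀ d ∈ chain D i, α d = d := by
    intro i
    induction i with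
    | zero =>
      intro d hd
      rw [chain_zero, Subgroup.mem_bot] at hd
      rw [hd, map_one]
    | succ i ih =>
      intro d hd
      have hn := hα i d hd
      have h1 : α d = d * (d⁻¹ * α d) := by group
      have h2 := Cfsg.Agent.Lib.Helper33_Critical.pow_apply_of_fixed α h1 (ih _ hn) (orderOf α)
      rw [pow_orderOf_eq_one, MulAut.one_apply] at h2
      have h3 : (d⁻¹ * α d) ^ orderOf α = 1 := by
        have := mul_left_cancel (a := d) (b := 1) (c := (d⁻¹ * α d) ^ orderOf α)
          (by rw [mul_one]; exact h2)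
        exact this.symm
      have h4 : (d⁻¹ * α d) ^ p = 1 := hexp _ (chain_le D i hn)
      have h5 : orderOf (d⁻¹ * α d) = 1 :=
        Nat.eq_one_of_dvd_coprimes hcop (orderOf_dvd_of_pow_eq_one h3)
          (orderOf_dvd_of_pow_eq_one h4)
      have h6 : d⁻¹ * α d = 1 := orderOf_eq_one_iff.mp h5
      exact (inv_mul_eq_one.mp h6).symm
  have hnil : Group.IsNilpotent Q := hQ.isNilpotent
  intro d hd
  apply key (Group.nilpotencyClass Q)
  rw [chain_top]
  exact hd

end stab

/-! ### The main theorem on automorphisms of narrow groups of rank at least three -/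

section main

variable {Q : Type*} [Group Q] [Finite Q] {p : ℕ} [Fact p.Prime] {g : Q} {R₁ : Subgroup Q}

/-- **Bender–Glauberman 5.5 (rank at least three).** The automorphism group of a narrow `p`-group
of rank at least three has a normal subgroup `S` with abelian quotient of exponent dividing
`p - 1`, all of whose `p'`-elements are trivial. -/
theorem NData.exists_stab (h : NData p Q g R₁) (hp2 : p ≠ 2) :
    ∃ S : Subgroup (MulAut Q), S.Normal ∧ (∀ α β : MulAut Q, ⁅α, β⁆ ∈ S) ∧
      (∀ α : MulAut Q, α ^ (p - 1) ∈ S) ∧ ∀ α ∈ S, (orderOf α).Coprime p → α = 1 := by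
  have hpP : p.Prime := Fact.out
  have h2 : 2 < p := lt_of_le_of_ne hpP.two_le (Ne.symm hp2)
  obtain ⟨D, hDinv, -, hDexp, hDcl, hDfaith⟩ :=
    Cfsg.Agent.Lib.Helper33_Critical.exists_omega_critical h.isPGroup (dvd_refl p)
      (hpP.dvd_choose_self (by norm_num) h2) (⊤ : Subgroup (MulAut Q)) le_top (⊤ : Subgroup Q)
      (fun _ _ d _ => Subgroup.mem_top _)
  have hDchar : D.Characteristic := by
    rw [Subgroup.characteristic_iff_map_le]
    intro φ
    rintro _ ⟨d, hd, rfl⟩
    exact hDinv φ (Subgroup.mem_top _) d hd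
  have hstep : ∀ i, Nat.card (chain D (i + 1)) ≤ p * Nat.card (chain D i) :=
    fun i => h.card_chain_succ_le D hDexp hDcl i
  refine ⟨stab D, inferInstance, commutator_mem_stab h.isPGroup D hstep,
    pow_pred_mem_stab h.isPGroup D hstep, ?_⟩
  intro α hα hcop
  have hfix := fix_of_mem_stab h.isPGroup D hDexp hα hcop
  have hall := hDfaith α (Subgroup.mem_top _) hcop hfix
  ext q
  exact hall q (Subgroup.mem_top _)

end main

/-! ### Application to groups acting faithfully -/

section apply

variable {Q : Type*} [Group Q] [Finite Q] {p : ℕ} [Fact p.Prime]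

/-- A group `A` acting faithfully on `Q`, where `Aut Q` has a normal subgroup `S` as in
`NData.exists_stab`: `A' ≤ O_p(A)`, `|A : O_p(A)|` is prime to `p`, and `p'`-elements of `A` have
order dividing `p - 1`. -/
theorem aut_structure_of_stab {A : Type*} [Group A] [Finite A] (φ : A →* MulAut Q)
    (hφ : Function.Injective φ) (S : Subgroup (MulAut Q)) (hSn : S.Normal)
    (hS1 : ∀ α β : MulAut Q, ⁅α, β⁆ ∈ S) (hS2 : ∀ α : MulAut Q, α ^ (p - 1) ∈ S)
    (hS3 : ∀ α ∈ S, (orderOf α).Coprime p → α = 1) :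
    commutator A ≤ Cfsg.pCore p A ∧ ((Cfsg.pCore p A).index).Coprime p ∧
      ∀ a : A, (orderOf a).Coprime p → orderOf a ∣ p - 1 := by
  have hpP : p.Prime := Fact.out
  set N : Subgroup A := S.comap φ with hN
  have hNn : N.Normal := Subgroup.Normal.comap hSn φ
  have hNp : IsPGroup p ↥N := by
    have hn0 : Nat.card ↥N ≠ 0 := Nat.card_pos.ne'
    have hall : ∀ {r : ℕ}, r.Prime → r ∣ Nat.card ↥N → r = p := by
      intro r hr hdvd
      by_contra hrp
      have : Fact r.Prime := ⟨hr⟩
      obtain ⟨b, hb⟩ := exists_prime_orderOf_dvd_card' r hdvd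
      have hbo : orderOf (φ (b : A)) = r := by
        rw [orderOf_injective φ hφ, Subgroup.orderOf_coe, hb]
      have hcop : (orderOf (φ (b : A))).Coprime p := by
        rw [hbo]
        exact (Nat.coprime_primes hr hpP).mpr hrp
      have h1 := hS3 (φ b) b.2 hcop
      have h2 : (b : A) = 1 := hφ (by rw [h1, map_one])
      have : b = 1 := Subtype.ext h2
      rw [this, orderOf_one] at hb
      exact hr.one_lt.ne hb
    exact IsPGroup.of_card (Nat.eq_prime_pow_of_unique_prime_dvd hn0 hall)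
  have hNle : N ≤ Cfsg.pCore p A := Cfsg.Agent.Lib.Helper1_Cores.le_pCore hNn hNp
  have hcomm : commutator A ≤ N := by
    rw [commutator_def, Subgroup.commutator_le]
    intro a _ b _
    show φ ⁅a, b⁆ ∈ S
    rw [map_commutatorElement]
    exact hS1 _ _
  have hpow : ∀ a : A, a ^ (p - 1) ∈ N := fun a => by
    show φ (a ^ (p - 1)) ∈ S
    rw [map_pow]
    exact hS2 _
  have hidx : (N.index).Coprime p := by
    rw [Nat.coprime_comm, Nat.Prime.coprime_iff_not_dvd hpP]
    intro hdvd
    rw [Subgroup.index_eq_card] at hdvd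
    obtain ⟨x, hx⟩ := exists_prime_orderOf_dvd_card' p hdvd
    have h1 : x ^ (p - 1) = 1 := by
      induction x using QuotientGroup.induction_on with
      | H a =>
        rw [← QuotientGroup.mk_pow]
        exact (QuotientGroup.eq_one_iff _).mpr (hpow a)
    have h2 : p ∣ p - 1 := by
      have := orderOf_dvd_of_pow_eq_one h1
      rwa [hx] at this
    have h3 := hpP.two_le
    have := Nat.le_of_dvd (by omega) h2
    omega
  refine ⟨hcomm.trans hNle, ?_, ?_⟩
  · exact Nat.Coprime.coprime_dvd_left (Subgroup.index_dvd_of_le hNle) hidx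
  · intro a ha
    obtain ⟨k, hk⟩ := hNp ⟨_, hpow a⟩
    have hk' : (a ^ (p - 1)) ^ (p ^ k) = 1 := by
      have := congrArg Subtype.val hk
      simpa using this
    have h2 : orderOf (a ^ (p - 1)) ∣ p ^ k := orderOf_dvd_of_pow_eq_one hk'
    have h3 : orderOf (a ^ (p - 1)) ∣ orderOf a := orderOf_pow_dvd (p - 1)
    have h4 : orderOf (a ^ (p - 1)) = 1 :=
      Nat.eq_one_of_dvd_coprimes (Nat.Coprime.pow_right k ha) h3 h2
    exact orderOf_dvd_of_pow_eq_one (orderOf_eq_one_iff.mp h4)

end apply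

/-! ### From the definition of narrow groups -/

section ofNarrow

universe u

variable {Q : Type u} [Group Q] [Finite Q] {p : ℕ} [Fact p.Prime]

theorem exists_nData_of_isNarrow (hQ : IsPGroup p Q) (hn : Cfsg.IsNarrow p Q)
    (hrk : ¬ Cfsg.PRankLE p 2 Q) : ∃ (g : Q) (R₁ : Subgroup Q), NData p Q g R₁ := by
  have hpP : p.Prime := Fact.out
  rcases hn with hle | ⟨R₀, R₁, hcard, hcyc, -, hcomm, hsup⟩
  · exact absurd hle hrk
  have hne : R₀ ≠ ⊥ := by
    intro hb
    rw [hb, Subgroup.card_bot] at hcard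
    exact hpP.one_lt.ne hcard
  obtain ⟨g, hg, hg1⟩ : ∃ g ∈ R₀, g ≠ 1 := by
    obtain ⟨x, hx⟩ := (Subgroup.ne_bot_iff_exists_ne_one).mp hne
    exact ⟨(x : Q), x.2, fun h => hx (Subtype.ext h)⟩
  have hz : zpowers g = R₀ := zpowers_eq_of_prime_card R₀ hcard hg hg1
  have hgp : g ^ p = 1 := by
    have := pow_card_eq_one' (G := ↥R₀) (x := ⟨g, hg⟩)
    rw [hcard] at this
    have := congrArg Subtype.val this
    simpa using this
  refine ⟨g, R₁, ?_⟩
  have hcent : centralizer ({g} : Set Q) = centralizer (R₀ : Set Q) := by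
    ext x
    rw [mem_centralizer_singleton_iff, mem_centralizer_iff]
    constructor
    · intro hx y hy
      rw [SetLike.mem_coe, ← hz] at hy
      obtain ⟨k, rfl⟩ := mem_zpowers_iff.mp hy
      have h1 : Commute g x := hx.symm
      exact (h1.zpow_left k).eq
    · intro hx
      exact (hx g hg).symm
  exact
    { isPGroup := hQ
      g_pow := hgp
      g_ne := hg1
      cyc := hcyc
      comm := fun b hb => hcomm g hg b hb
      cent := by rw [hcent, ← hsup, hz]
      rank := hrk }

end ofNarrow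

end Cfsg.Agent.Lib.Helper2_Narrow
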