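import Mathlib
import Cfsg.Agent.Lib.Helper20_PGroupOdd

/-!
# Automorphisms of `p`-groups of class two: faithfulness on `Ω₁`

* `restrictAut` : restriction of an automorphism to an invariant subgroup.
* `fixSub` : the subgroup of fixed points of an automorphism.
* `card_modEq_card_fixSub` : for an automorphism `b` of prime order `q` of a finite group `M`,
  `card M ≡ card (fixSub b) [MOD q]`.
* `omega_faithful` : for `p` odd, `P` a finite `p`-group with central commutators and central
  `p`-th powers, an automorphism of order prime to `p` fixing all elements of order dividing `p`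
  is trivial.
-/

set_option autoImplicit false

namespace Cfsg.Agent.Lib.Helper20_AutOmega

open Cfsg.Agent.Lib.Helper20_PGroupOdd

universe u

section Restrict
variable {P : Type*} [Group P]

/-- Restriction of an automorphism to a subgroup it maps onto itself. -/
noncomputable def restrictAut (a : MulAut P) (M : Subgroup P) (hM : M.map a.toMonoidHom = M) :
    MulAut ↥M :=
  (a.subgroupMap M).trans (MulEquiv.subgroupCongr hM)

@[simp]
theorem restrictAut_apply (a : MulAut P) (M : Subgroup P) (hM : M.map a.toMonoidHom = M)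
    (x : ↥M) : ((restrictAut a M hM x : ↥M) : P) = a (x : P) := rfl

theorem restrictAut_pow_apply (a : MulAut P) (M : Subgroup P) (hM : M.map a.toMonoidHom = M)
    (n : ℕ) (x : ↥M) : (((restrictAut a M hM) ^ n) x : P) = (a ^ n) (x : P) := by
  induction n generalizing x with
  | zero => simp
  | succ n ih =>
    rw [pow_succ', MulAut.mul_apply, restrictAut_apply, ih, pow_succ', MulAut.mul_apply]

theorem restrictAut_pow_eq_one (a : MulAut P) (M : Subgroup P) (hM : M.map a.toMonoidHom = M)
    {n : ℕ} (hn : a ^ n = 1) : (restrictAut a M hM) ^ n = 1 := by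
  ext x
  rw [restrictAut_pow_apply, hn]
  rfl

theorem orderOf_restrictAut_dvd (a : MulAut P) (M : Subgroup P) (hM : M.map a.toMonoidHom = M) :
    orderOf (restrictAut a M hM) ∣ orderOf a :=
  orderOf_dvd_of_pow_eq_one (restrictAut_pow_eq_one a M hM (pow_orderOf_eq_one a))

/-- The fixed points of an automorphism. -/
def fixSub (a : MulAut P) : Subgroup P where
  carrier := {x | a x = x}
  mul_mem' := by
    intro x y hx hy
    show a (x * y) = x * y
    rw [map_mul, hx, hy]
  one_mem' := map_one a
  inv_mem' := by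
    intro x hx
    show a x⁻¹ = x⁻¹
    rw [map_inv, hx]

theorem mem_fixSub (a : MulAut P) (x : P) : x ∈ fixSub a ↔ a x = x := Iff.rfl

theorem fixSub_eq_top_iff (a : MulAut P) : fixSub a = ⊤ ↔ a = 1 := by
  constructor
  · intro h
    ext x
    have : x ∈ fixSub a := by rw [h]; exact Subgroup.mem_top x
    exact this
  · intro h
    rw [eq_top_iff]
    intro x _
    rw [mem_fixSub, h]
    rfl

theorem zpowers_apply_eq_of_fixed {a : MulAut P} {x : P} (hx : a x = x) :
    ∀ g ∈ Subgroup.zpowers a, g x = x := by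
  intro g hg
  obtain ⟨k, rfl⟩ := Subgroup.mem_zpowers_iff.mp hg
  have hmem : a ∈ MulAction.stabilizer (MulAut P) x := hx
  have := Subgroup.zpow_mem _ hmem k
  exact this

/-- Orbit counting for an automorphism of prime order. -/
theorem card_modEq_card_fixSub [Finite P] {q : ℕ} [hq : Fact q.Prime] (b : MulAut P)
    (hb : orderOf b = q) : Nat.card P ≡ Nat.card (fixSub b) [MOD q] := by
  have hZ : IsPGroup q (Subgroup.zpowers b) := by
    apply IsPGroup.of_card (n := 1)
    rw [Nat.card_zpowers, hb, pow_one]
  have h1 := hZ.card_modEq_card_fixedPoints P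
  have h2 : (MulAction.fixedPoints (Subgroup.zpowers b) P) = ((fixSub b : Subgroup P) : Set P) := by
    ext x
    constructor
    · intro hx
      exact hx ⟨b, Subgroup.mem_zpowers b⟩
    · intro hx g
      exact zpowers_apply_eq_of_fixed hx g.1 g.2
  rw [h2] at h1
  exact h1

end Restrict

section Omega

/-- the `p`-th power map is multiplicative when commutators and `p`-th powers are central -/
theorem mul_pow_of_central {P : Type*} [Group P] {p : ℕ} (hpP : p.Prime) (hp2 : p ≠ 2)
    (hcomm : ∀ x y : P, x * y * x⁻¹ * y⁻¹ ∈ Subgroup.center P)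
    (hpow : ∀ x : P, x ^ p ∈ Subgroup.center P) (x y : P) : (x * y) ^ p = x ^ p * y ^ p := by
  have hc := hcomm y x
  have hcz := Subgroup.mem_center_iff.mp hc
  have h1 : y * x = (y * x * y⁻¹ * x⁻¹) * x * y := by group
  have hcy : Commute (y * x * y⁻¹ * x⁻¹) y := (hcz y).symm
  have hcx : Commute (y * x * y⁻¹ * x⁻¹) x := (hcz x).symm
  have h2 := pow_mul_eq_of_comm h1 hcy p
  have h3 : y ^ p * x = x * y ^ p := Subgroup.mem_center_iff.mp (hpow y) x |>.symm
  have hcp : (y * x * y⁻¹ * x⁻¹) ^ p = 1 := by
    rw [h3, mul_assoc] at h2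
    exact (mul_eq_right.mp h2.symm)
  exact mul_pow_prime_of_comm hpP hp2 h1 hcx hcy hcp

theorem omega_faithful_aux (p : ℕ) [hpf : Fact p.Prime] (hp2 : p ≠ 2) :
    ∀ (n : ℕ) (P : Type u) [Group P] [Finite P], Nat.card P = n → IsPGroup p P →
      (∀ x y : P, x * y * x⁻¹ * y⁻¹ ∈ Subgroup.center P) → (∀ x : P, x ^ p ∈ Subgroup.center P) →
      ∀ a : MulAut P, Nat.Coprime (orderOf a) p → (∀ x : P, x ^ p = 1 → a x = x) → a = 1 := by
  have hpP : p.Prime := Fact.out
  intro n
  induction n using Nat.strong_induction_on with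
  | _ n ih =>
  intro P _ _ hn hP hcomm hpow a ha hfix
  rcases subsingleton_or_nontrivial P with hs | hnt
  · ext x
    exact Subsingleton.elim _ _
  -- the `p`-th power endomorphism
  set π : P →* P := MonoidHom.mk' (fun x => x ^ p) (mul_pow_of_central hpP hp2 hcomm hpow) with hπ
  have hπapp : ∀ x : P, π x = x ^ p := fun x => rfl
  set U : Subgroup P := π.range with hU
  have hUc : U ≤ Subgroup.center P := by
    rintro _ ⟨x, rfl⟩
    exact hpow x
  -- `U` is smaller than `P`
  have hUlt : Nat.card U < n := by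
    have h1 := Subgroup.card_mul_index π.ker
    rw [Subgroup.index_ker, hn] at h1
    have hker : 1 < Nat.card π.ker := by
      have hdvd : p ∣ Nat.card P := by
        obtain ⟨k, hk0, hk⟩ := (hP.nontrivial_iff_card).mp hnt
        rw [hk]
        exact dvd_pow_self p hk0.ne'
      obtain ⟨x, hx⟩ := exists_prime_orderOf_dvd_card' p hdvd
      have hx1 : x ≠ 1 := by
        intro h
        rw [h, orderOf_one] at hx
        exact hpP.one_lt.ne hx
      have hxk : x ∈ π.ker := by
        rw [MonoidHom.mem_ker, hπapp, ← hx, pow_orderOf_eq_one]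
      have : Nontrivial π.ker := ⟨⟨⟨x, hxk⟩, 1, fun h => hx1 (congrArg Subtype.val h)⟩⟩
      exact Finite.one_lt_card
    have hpos : 0 < Nat.card U := Nat.card_pos
    rw [← h1]
    calc Nat.card U = 1 * Nat.card U := (one_mul _).symm
      _ < Nat.card π.ker * Nat.card U := Nat.mul_lt_mul_of_pos_right hker hpos
  -- `a` maps `U` onto itself
  have hUmap : U.map a.toMonoidHom = U := by
    apply le_antisymm
    · rintro _ ⟨_, ⟨x, rfl⟩, rfl⟩
      refine ⟨a x, ?_⟩
      show (a x) ^ p = a (x ^ p)
      rw [map_pow]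
    · rintro _ ⟨x, rfl⟩
      refine ⟨π (a⁻¹ x), ⟨a⁻¹ x, rfl⟩, ?_⟩
      show a ((a⁻¹ x) ^ p) = x ^ p
      rw [map_pow]
      congr 1
      exact MulAut.apply_inv_self P a x
  set aU := restrictAut a U hUmap with haU
  have hUcomm : ∀ x y : ↥U, x * y = y * x := by
    intro x y
    apply Subtype.ext
    exact (Subgroup.mem_center_iff.mp (hUc x.2) (y : P)).symm
  have hUcenter : ∀ z : ↥U, z ∈ Subgroup.center ↥U := by
    intro z
    rw [Subgroup.mem_center_iff]
    intro g
    exact hUcomm g z
  have haU1 : aU = 1 := by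
    apply ih (Nat.card U) hUlt U rfl (hP.to_subgroup U) (fun x y => hUcenter _)
      (fun x => hUcenter _) aU
    · exact Nat.Coprime.coprime_dvd_left (orderOf_restrictAut_dvd a U hUmap) ha
    · intro x hx
      apply Subtype.ext
      rw [haU, restrictAut_apply]
      apply hfix
      have := congrArg Subtype.val hx
      simpa using this
  have hpowfix : ∀ x : P, a (x ^ p) = x ^ p := by
    intro x
    have h1 : aU ⟨x ^ p, ⟨x, rfl⟩⟩ = ⟨x ^ p, ⟨x, rfl⟩⟩ := by rw [haU1]; rfl
    have h2 := congrArg Subtype.val h1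
    rwa [haU, restrictAut_apply] at h2
  -- conclusion
  ext x
  show a x = x
  obtain ⟨y, hy⟩ : ∃ y : P, y = a x * x⁻¹ := ⟨_, rfl⟩
  have hyp : y ^ p = 1 := by
    have h1 : π y = π (a x) * (π x)⁻¹ := by rw [hy, map_mul, map_inv]
    rw [hπapp, hπapp, hπapp, ← map_pow, hpowfix, mul_inv_cancel] at h1
    exact h1
  have hay : a y = y := hfix y hyp
  have hax : a x = y * x := by rw [hy]; group
  have hiter : ∀ k : ℕ, (a ^ k) x = y ^ k * x := by
    intro k
    induction k with
    | zero => simp
    | succ k ih' =>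
      rw [pow_succ', MulAut.mul_apply, ih', map_mul, map_pow, hay, hax, pow_succ, mul_assoc]
  have hk := hiter (orderOf a)
  rw [pow_orderOf_eq_one, MulAut.one_apply] at hk
  have hyk : y ^ orderOf a = 1 := by
    have := mul_right_cancel (a := 1) (b := x) (c := y ^ orderOf a) (by rw [one_mul]; exact hk)
    exact this.symm
  have hy1 : y = 1 := by
    have hd1 : orderOf y ∣ orderOf a := orderOf_dvd_of_pow_eq_one hyk
    have hd2 : orderOf y ∣ p := orderOf_dvd_of_pow_eq_one hyp
    have := Nat.dvd_gcd hd1 hd2
    rw [ha] at this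
    exact orderOf_eq_one_iff.mp (Nat.dvd_one.mp this)
  rw [hax, hy1, one_mul]

/-- For `p` odd and `P` a finite `p`-group with central commutators and central `p`-th powers, an
automorphism of order prime to `p` that fixes all elements of order dividing `p` is trivial. -/
theorem omega_faithful {P : Type u} [Group P] [Finite P] {p : ℕ} [Fact p.Prime] (hp2 : p ≠ 2)
    (hP : IsPGroup p P) (hcomm : ∀ x y : P, x * y * x⁻¹ * y⁻¹ ∈ Subgroup.center P)
    (hpow : ∀ x : P, x ^ p ∈ Subgroup.center P) (a : MulAut P)
    (ha : Nat.Coprime (orderOf a) p) (hfix : ∀ x : P, x ^ p = 1 → a x = x) : a = 1 :=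
  omega_faithful_aux p hp2 (Nat.card P) P rfl hP hcomm hpow a ha hfix

end Omega

end Cfsg.Agent.Lib.Helper20_AutOmega
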