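import Mathlib

set_option autoImplicit false
set_option linter.unusedVariables false
set_option linter.unusedSimpArgs false
set_option linter.unusedSectionVars false

/-!
# Finite odd-order linear groups of degree 2 in odd characteristic (helper46)

Elementary linear algebra of `2 × 2` matrices used for the theorem that an
irreducible odd-order subgroup of `GL₂(F)`, `char F = p` odd, has order prime to `p`.
-/

namespace Cfsg.Agent.Lib.Helper46_GL2Odd

open Matrix

variable {F : Type*} [Field F]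

/-- scalar `2 × 2` matrices, by entries -/
def IsSc (A : Matrix (Fin 2) (Fin 2) F) : Prop := A 0 1 = 0 ∧ A 1 0 = 0 ∧ A 0 0 = A 1 1

theorem isSc_smul_one (c : F) : IsSc (c • (1 : Matrix (Fin 2) (Fin 2) F)) := by
  refine ⟨?_, ?_, ?_⟩ <;> simp

theorem isSc_iff (A : Matrix (Fin 2) (Fin 2) F) : IsSc A ↔ ∃ c : F, A = c • (1 : Matrix (Fin 2) (Fin 2) F) := by
  constructor
  · rintro ⟨h1, h2, h3⟩
    refine ⟨A 0 0, ?_⟩
    ext i j
    fin_cases i <;> fin_cases j <;> simp [h1, h2, h3]
  · rintro ⟨c, rfl⟩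
    exact isSc_smul_one c

theorem isSc_one : IsSc (1 : Matrix (Fin 2) (Fin 2) F) := by
  refine ⟨?_, ?_, ?_⟩ <;> simp

theorem IsSc.pow {A : Matrix (Fin 2) (Fin 2) F} (h : IsSc A) (m : ℕ) : IsSc (A ^ m) := by
  obtain ⟨c, rfl⟩ := (isSc_iff A).mp h
  rw [smul_pow, one_pow]
  exact isSc_smul_one _

theorem IsSc.commute {A : Matrix (Fin 2) (Fin 2) F} (h : IsSc A) (B : Matrix (Fin 2) (Fin 2) F) :
    A * B = B * A := by
  obtain ⟨c, rfl⟩ := (isSc_iff A).mp h
  simp

theorem mul_entries (A B : Matrix (Fin 2) (Fin 2) F) (i j : Fin 2) :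
    (A * B) i j = A i 0 * B 0 j + A i 1 * B 1 j := by
  simp [Matrix.mul_apply, Fin.sum_univ_two]

/-- A matrix commuting with a nonscalar matrix `A` is a linear polynomial in `A`. -/
theorem exists_lin {A B : Matrix (Fin 2) (Fin 2) F} (hA : ¬ IsSc A) (hAB : A * B = B * A) :
    ∃ α β : F, B = α • (1 : Matrix (Fin 2) (Fin 2) F) + β • A := by
  have E00 := congrFun (congrFun hAB 0) 0
  have E01 := congrFun (congrFun hAB 0) 1
  have E10 := congrFun (congrFun hAB 1) 0
  have E11 := congrFun (congrFun hAB 1) 1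
  rw [mul_entries, mul_entries] at E00 E01 E10 E11
  by_cases hb : A 0 1 = 0
  · by_cases hc : A 1 0 = 0
    · have hd : A 0 0 - A 1 1 ≠ 0 := by
        intro hd
        exact hA ⟨hb, hc, sub_eq_zero.mp hd⟩
      have hf : B 0 1 = 0 := by
        have : B 0 1 * (A 0 0 - A 1 1) = 0 := by linear_combination E01 - B 1 1 * hb + B 0 0 * hb
        rcases mul_eq_zero.mp this with h | h
        · exact h
        · exact absurd h hd
      have hg : B 1 0 = 0 := by
        have : B 1 0 * (A 0 0 - A 1 1) = 0 := by linear_combination -E10 + B 0 0 * hc - B 1 1 * hc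
        rcases mul_eq_zero.mp this with h | h
        · exact h
        · exact absurd h hd
      refine ⟨B 0 0 - (B 0 0 - B 1 1) / (A 0 0 - A 1 1) * A 0 0, (B 0 0 - B 1 1) / (A 0 0 - A 1 1), ?_⟩
      ext i j
      fin_cases i <;> fin_cases j
      · simp
      · simp [hb, hf]
      · simp [hc, hg]
      · simp
        field_simp
        ring
    · refine ⟨B 0 0 - B 1 0 / A 1 0 * A 0 0, B 1 0 / A 1 0, ?_⟩
      ext i j
      fin_cases i <;> fin_cases j
      · simp
      · simp
        field_simp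
        linear_combination -E00
      · simp
        field_simp
      · simp
        field_simp
        linear_combination -E10
  · refine ⟨B 0 0 - B 0 1 / A 0 1 * A 0 0, B 0 1 / A 0 1, ?_⟩
    ext i j
    fin_cases i <;> fin_cases j
    · simp
    · simp
      field_simp
    · simp
      field_simp
      linear_combination E00
    · simp
      field_simp
      linear_combination E01

/-- Two matrices commuting with a nonscalar matrix commute. -/
theorem commute_of_commute_nonscalar {A B C : Matrix (Fin 2) (Fin 2) F} (hA : ¬ IsSc A)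
    (hAB : A * B = B * A) (hAC : A * C = C * A) : B * C = C * B := by
  obtain ⟨α, β, rfl⟩ := exists_lin hA hAB
  rw [add_mul, mul_add, smul_mul_assoc, smul_mul_assoc, mul_smul_comm, mul_smul_comm, one_mul,
    mul_one, hAC]

theorem trace_lin (A : Matrix (Fin 2) (Fin 2) F) (α β : F) :
    (α • (1 : Matrix (Fin 2) (Fin 2) F) + β • A).trace = 2 * α + β * A.trace := by
  simp [Matrix.trace_fin_two]
  ring

theorem det_lin (A : Matrix (Fin 2) (Fin 2) F) (α β : F) :
    (α • (1 : Matrix (Fin 2) (Fin 2) F) + β • A).det = α ^ 2 + α * β * A.trace + β ^ 2 * A.det := by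
  simp [Matrix.det_fin_two, Matrix.trace_fin_two]
  ring

section charp

variable (p : ℕ) [Fact p.Prime] [CharP F p]

theorem two_ne_zero_of_char (hp : p ≠ 2) : (2 : F) ≠ 0 := by
  have hpp : p.Prime := Fact.out
  intro h
  have h2 : ((2 : ℕ) : F) = 0 := by exact_mod_cast h
  rw [CharP.cast_eq_zero_iff F p] at h2
  exact hp ((Nat.prime_dvd_prime_iff_eq hpp Nat.prime_two).mp h2)

/-- A matrix of finite order prime to `p` with vanishing discriminant is scalar. -/
theorem isSc_of_disc_zero (hp : p ≠ 2) (A : Matrix (Fin 2) (Fin 2) F) (n : ℕ) (hn : n.Coprime p)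
    (hAn : A ^ n = 1) (hdisc : A.trace ^ 2 = 4 * A.det) : IsSc A := by
  have hpp : p.Prime := Fact.out
  have h2 : (2 : F) ≠ 0 := two_ne_zero_of_char p hp
  have h4 : (4 : F) ≠ 0 := by
    have : (4 : F) = 2 * 2 := by norm_num
    rw [this]
    exact mul_ne_zero h2 h2
  obtain ⟨s, hs'⟩ : ∃ s : F, 2 * s = A 0 0 + A 1 1 := ⟨(A 0 0 + A 1 1) / 2, by field_simp⟩
  have hs2 : s ^ 2 = A 0 0 * A 1 1 - A 0 1 * A 1 0 := by
    rw [Matrix.trace_fin_two, Matrix.det_fin_two] at hdisc
    apply mul_left_cancel₀ h4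
    linear_combination hdisc + (2 * s + A 0 0 + A 1 1) * hs'
  obtain ⟨N, hN⟩ : ∃ N : Matrix (Fin 2) (Fin 2) F, N = A - s • 1 := ⟨_, rfl⟩
  have hNN : N * N = 0 := by
    ext i j
    rw [mul_entries]
    fin_cases i <;> fin_cases j <;> simp [hN]
    · linear_combination hs2 - (A 0 0) * hs'
    · linear_combination (-(A 0 1)) * hs'
    · linear_combination (-(A 1 0)) * hs'
    · linear_combination hs2 - (A 1 1) * hs'
  have hA : A = s • 1 + N := by rw [hN]; abel
  have hcomm : Commute (s • (1 : Matrix (Fin 2) (Fin 2) F)) N := by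
    rw [Commute, SemiconjBy]
    simp
  have hNp : N ^ p = 0 := by
    have : N ^ 2 = 0 := by rw [pow_two, hNN]
    exact pow_eq_zero_of_le hpp.two_le this
  have hAp : A ^ p = s ^ p • 1 := by
    rw [hA, add_pow_char_of_commute (p := p) hcomm, hNp, add_zero, smul_pow, one_pow]
  have hn0 : n ≠ 0 := by
    rintro rfl
    rw [Nat.coprime_zero_left] at hn
    exact hpp.one_lt.ne' hn
  rcases Nat.lt_or_ge 1 n with hn1 | hn1
  · obtain ⟨m, -, hm⟩ := Nat.exists_mul_mod_eq_one_of_coprime hn.symm hn1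
    have h1 : A = (A ^ p) ^ m := by
      rw [← pow_mul, pow_eq_pow_mod (p * m) hAn, hm, pow_one]
    rw [h1, hAp]
    exact (isSc_smul_one _).pow m
  · have : n = 1 := by omega
    subst this
    rw [pow_one] at hAn
    rw [hAn]
    exact isSc_one

end charp

section vectors

theorem det_ne_zero_of_not_mem_span (v w : Fin 2 → F) (hv : v ≠ 0)
    (h : w ∉ Submodule.span F {v}) : v 0 * w 1 - v 1 * w 0 ≠ 0 := by
  intro hD
  apply h
  rw [Submodule.mem_span_singleton]
  by_cases h0 : v 0 = 0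
  · have h1 : v 1 ≠ 0 := by
      intro h1
      apply hv
      ext i
      fin_cases i
      · exact h0
      · exact h1
    have hw0 : w 0 = 0 := by
      rw [h0, zero_mul, zero_sub, neg_eq_zero] at hD
      rcases mul_eq_zero.mp hD with h2 | h2
      · exact absurd h2 h1
      · exact h2
    refine ⟨w 1 / v 1, ?_⟩
    ext i
    fin_cases i
    · simp [h0, hw0]
    · simp
      field_simp
  · refine ⟨w 0 / v 0, ?_⟩
    ext i
    fin_cases i
    · simp
      field_simp
    · simp
      field_simp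
      linear_combination -hD

theorem mulVec_entries (A : Matrix (Fin 2) (Fin 2) F) (v : Fin 2 → F) (i : Fin 2) :
    (A *ᵥ v) i = A i 0 * v 0 + A i 1 * v 1 := by
  simp [Matrix.mulVec, dotProduct, Fin.sum_univ_two]

/-- A matrix fixing two independent vectors is the identity. -/
theorem eq_one_of_fix_two (A : Matrix (Fin 2) (Fin 2) F) (v w : Fin 2 → F)
    (hD : v 0 * w 1 - v 1 * w 0 ≠ 0) (hv : A *ᵥ v = v) (hw : A *ᵥ w = w) : A = 1 := by
  have v0 := congrFun hv 0
  have v1 := congrFun hv 1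
  have w0 := congrFun hw 0
  have w1 := congrFun hw 1
  rw [mulVec_entries] at v0 v1 w0 w1
  have e00 : (A 0 0 - 1) * (v 0 * w 1 - v 1 * w 0) = 0 := by
    linear_combination w 1 * v0 - v 1 * w0
  have e01 : (A 0 1) * (v 0 * w 1 - v 1 * w 0) = 0 := by
    linear_combination v 0 * w0 - w 0 * v0
  have e10 : (A 1 0) * (v 0 * w 1 - v 1 * w 0) = 0 := by
    linear_combination w 1 * v1 - v 1 * w1
  have e11 : (A 1 1 - 1) * (v 0 * w 1 - v 1 * w 0) = 0 := by
    linear_combination v 0 * w1 - w 0 * v1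
  have f00 := (mul_eq_zero.mp e00).resolve_right hD
  have f01 := (mul_eq_zero.mp e01).resolve_right hD
  have f10 := (mul_eq_zero.mp e10).resolve_right hD
  have f11 := (mul_eq_zero.mp e11).resolve_right hD
  ext i j
  fin_cases i <;> fin_cases j <;> simp
  · exact sub_eq_zero.mp f00
  · exact f01
  · exact f10
  · exact sub_eq_zero.mp f11

end vectors

section group

variable {K : Type*} [Group K] (μ : K →* Matrix (Fin 2) (Fin 2) F)

theorem μ_mul_inv (x : K) : μ x * μ x⁻¹ = 1 := by rw [← map_mul, mul_inv_cancel, map_one]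

theorem μ_inv_mul (x : K) : μ x⁻¹ * μ x = 1 := by rw [← map_mul, inv_mul_cancel, map_one]

theorem det_μ_ne_zero (x : K) : (μ x).det ≠ 0 := by
  intro h
  have h1 := congrArg Matrix.det (μ_mul_inv μ x)
  rw [Matrix.det_mul, h, zero_mul, Matrix.det_one] at h1
  exact zero_ne_one h1

theorem trace_conj (x g : K) : (μ (x * g * x⁻¹)).trace = (μ g).trace := by
  rw [map_mul, map_mul, Matrix.trace_mul_comm, ← mul_assoc, μ_inv_mul, one_mul]

theorem det_conj (x g : K) : (μ (x * g * x⁻¹)).det = (μ g).det := by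
  have h1 := congrArg Matrix.det (μ_mul_inv μ x)
  rw [Matrix.det_mul, Matrix.det_one] at h1
  rw [map_mul, map_mul, Matrix.det_mul, Matrix.det_mul]
  linear_combination (μ g).det * h1

variable (p : ℕ) [Fact p.Prime] [CharP F p]

/-- If `x g x⁻¹` commutes with the semisimple nonscalar `g` and `x` has odd order, then
`x` centralizes `g`. -/
theorem conj_eq_of_commute (hμ : Function.Injective μ) (hp : p ≠ 2) (x g : K)
    (hxfin : IsOfFinOrder x) (hx : Odd (orderOf x))
    (hg : (orderOf g).Coprime p) (hns : ¬ IsSc (μ g))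
    (hc : (x * g * x⁻¹) * g = g * (x * g * x⁻¹)) : x * g * x⁻¹ = g := by
  have h2 : (2 : F) ≠ 0 := two_ne_zero_of_char p hp
  have hAB : μ g * μ (x * g * x⁻¹) = μ (x * g * x⁻¹) * μ g := by
    rw [← map_mul, ← map_mul, hc]
  obtain ⟨α, β, hB⟩ := exists_lin hns hAB
  have h1 : 2 * α + β * (μ g).trace = (μ g).trace := by
    rw [← trace_lin, ← hB, trace_conj]
  have h3 : α ^ 2 + α * β * (μ g).trace + β ^ 2 * (μ g).det = (μ g).det := by
    rw [← det_lin, ← hB, det_conj]
  have hdisc : (μ g).trace ^ 2 - 4 * (μ g).det ≠ 0 := by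
    intro h
    apply hns
    refine isSc_of_disc_zero p hp (μ g) (orderOf g) hg ?_ (sub_eq_zero.mp h)
    rw [← map_pow, pow_orderOf_eq_one, map_one]
  have key : (1 - β) * (1 + β) * ((μ g).trace ^ 2 - 4 * (μ g).det) = 0 := by
    linear_combination 4 * h3 - (2 * α + (μ g).trace + β * (μ g).trace) * h1
  have hiter : ∀ k : ℕ, ∃ a : F, μ (x ^ k * g * (x ^ k)⁻¹) =
      a • (1 : Matrix (Fin 2) (Fin 2) F) + β ^ k • μ g := by
    intro k
    induction k with
    | zero => exact ⟨0, by simp⟩
    | succ k ih =>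
      obtain ⟨a, ha⟩ := ih
      refine ⟨a + β ^ k * α, ?_⟩
      have e1 : x ^ (k + 1) * g * (x ^ (k + 1))⁻¹ = x * (x ^ k * g * (x ^ k)⁻¹) * x⁻¹ := by
        rw [pow_succ']
        group
      rw [e1, map_mul, map_mul, ha, mul_add, add_mul, mul_smul_comm, smul_mul_assoc, mul_one,
        μ_mul_inv, mul_smul_comm, smul_mul_assoc]
      have e2 : μ x * μ g * μ x⁻¹ = μ (x * g * x⁻¹) := by rw [map_mul, map_mul]
      rw [e2, hB, smul_add, smul_smul, smul_smul, ← add_assoc, ← add_smul, pow_succ]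
  obtain ⟨a, ha⟩ := hiter (orderOf x)
  rw [pow_orderOf_eq_one, one_mul, inv_one, mul_one] at ha
  have hβk : β ^ orderOf x = 1 := by
    by_contra hne
    apply hns
    have h4 : (1 - β ^ orderOf x) • μ g = a • (1 : Matrix (Fin 2) (Fin 2) F) := by
      rw [sub_smul, one_smul]
      nth_rw 1 [ha]
      abel
    have h5 : μ g = ((1 - β ^ orderOf x)⁻¹ * a) • (1 : Matrix (Fin 2) (Fin 2) F) := by
      rw [← smul_smul, ← h4, smul_smul, inv_mul_cancel₀ (sub_ne_zero.mpr (Ne.symm hne)), one_smul]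
    rw [h5]
    exact isSc_smul_one _
  have hβ : β = 1 := by
    rcases mul_eq_zero.mp key with h | h
    · rcases mul_eq_zero.mp h with h | h
      · exact (sub_eq_zero.mp h).symm
      · exfalso
        have hβ' : β = -1 := by linear_combination h
        rw [hβ', hx.neg_one_pow] at hβk
        apply h2
        linear_combination -hβk
    · exact absurd h hdisc
  have hα : α = 0 := by
    rw [hβ, one_mul] at h1
    have : 2 * α = 0 := by linear_combination h1
    rcases mul_eq_zero.mp this with h | h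
    · exact absurd h h2
    · exact h
  apply hμ
  rw [hB, hα, hβ, zero_smul, zero_add, one_smul]

/-- elements of odd order in a finite group of odd order -/
theorem odd_orderOf [Finite K] (hodd : Odd (Nat.card K)) (x : K) : Odd (orderOf x) :=
  hodd.of_dvd_nat (orderOf_dvd_natCard x)

/-- A scalar image of an element of odd order whose square is trivial is trivial. -/
theorem scalar_sq_one_eq_one (hp : p ≠ 2) [Finite K] (hodd : Odd (Nat.card K)) (c : K) (γ : F)
    (hc : μ c = γ • (1 : Matrix (Fin 2) (Fin 2) F)) (hγ : γ ^ 2 = 1) : γ = 1 := by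
  have h2 : (2 : F) ≠ 0 := two_ne_zero_of_char p hp
  have h1 : γ ^ orderOf c = 1 := by
    have h3 : μ (c ^ orderOf c) = 1 := by rw [pow_orderOf_eq_one, map_one]
    rw [map_pow, hc, smul_pow, one_pow] at h3
    have h4 := congrFun (congrFun h3 0) 0
    simpa using h4
  obtain ⟨m, hm⟩ := odd_orderOf hodd c
  rw [hm, pow_succ, pow_mul, hγ, one_pow, one_mul] at h1
  exact h1

/-- A finite `r`-group of odd order embedded in `2 × 2` matrices is commutative. -/
theorem comm_of_isPGroup (hp : p ≠ 2) [Finite K] (hμ : Function.Injective μ)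
    (hodd : Odd (Nat.card K)) (r : ℕ) [Fact r.Prime] (hK : IsPGroup r K) :
    ∀ x y : K, x * y = y * x := by
  by_cases hA : ∃ z ∈ Subgroup.center K, ¬ IsSc (μ z)
  · obtain ⟨z, hz, hns⟩ := hA
    intro x y
    apply hμ
    rw [map_mul, map_mul]
    rw [Subgroup.mem_center_iff] at hz
    apply commute_of_commute_nonscalar hns
    · rw [← map_mul, ← map_mul, hz x]
    · rw [← map_mul, ← map_mul, hz y]
  · push Not at hA
    by_contra hnc
    have hnt : Nontrivial (K ⧸ Subgroup.center K) := by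
      by_contra hnt
      rw [not_nontrivial_iff_subsingleton] at hnt
      apply hnc
      intro x y
      have h1 : (QuotientGroup.mk x : K ⧸ Subgroup.center K) = 1 := Subsingleton.elim _ _
      rw [QuotientGroup.eq_one_iff, Subgroup.mem_center_iff] at h1
      exact (h1 y).symm
    have hq : IsPGroup r (K ⧸ Subgroup.center K) := hK.to_quotient _
    have hcn : Nontrivial (Subgroup.center (K ⧸ Subgroup.center K)) := hq.center_nontrivial
    obtain ⟨q, hq1⟩ := exists_ne (1 : Subgroup.center (K ⧸ Subgroup.center K))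
    obtain ⟨g, hg⟩ := QuotientGroup.mk_surjective q.1
    have hgc : g ∉ Subgroup.center K := by
      intro hgc
      apply hq1
      apply Subtype.ext
      rw [← hg]
      exact (QuotientGroup.eq_one_iff g).mpr hgc
    rw [Subgroup.mem_center_iff] at hgc
    push Not at hgc
    obtain ⟨h, hh⟩ := hgc
    have hqc := Subgroup.mem_center_iff.mp q.2 (QuotientGroup.mk h)
    rw [← hg, ← QuotientGroup.mk_mul, ← QuotientGroup.mk_mul, QuotientGroup.eq] at hqc
    obtain ⟨γ, hγ⟩ := (isSc_iff _).mp (hA _ hqc)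
    have hdet : γ ^ 2 = 1 := by
      have h1 : μ (g * h) = μ (h * g) * μ ((h * g)⁻¹ * (g * h)) := by
        rw [← map_mul]
        congr 1
        group
      rw [hγ] at h1
      have h2 := congrArg Matrix.det h1
      rw [map_mul, map_mul, Matrix.det_mul, Matrix.det_mul, Matrix.det_mul] at h2
      simp only [Matrix.det_smul, Fintype.card_fin, Matrix.det_one, mul_one] at h2
      have h3 : (μ g).det * (μ h).det * (γ ^ 2 - 1) = 0 := by linear_combination -h2
      rcases mul_eq_zero.mp h3 with h4 | h4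
      · rcases mul_eq_zero.mp h4 with h5 | h5
        · exact absurd h5 (det_μ_ne_zero μ g)
        · exact absurd h5 (det_μ_ne_zero μ h)
      · exact sub_eq_zero.mp h4
    have hγ1 : γ = 1 := scalar_sq_one_eq_one μ p hp hodd _ γ hγ hdet
    rw [hγ1, one_smul] at hγ
    have h1 : (h * g)⁻¹ * (g * h) = 1 := hμ (by rw [hγ, map_one])
    apply hh
    have h2 : g * h = h * g := by
      have := congrArg (fun t => h * g * t) h1
      simpa [mul_assoc] using this
    exact h2.symm

/-- Burnside hypothesis for Sylow `r`-subgroups, `r ≠ p`. -/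
theorem normalizer_le_centralizer (hp : p ≠ 2) [Finite K] (hμ : Function.Injective μ)
    (hodd : Odd (Nat.card K)) (r : ℕ) [Fact r.Prime] (hrp : r ≠ p) (R : Sylow r K) :
    Subgroup.normalizer ((R : Subgroup K) : Set K) ≤ Subgroup.centralizer ((R : Subgroup K) : Set K) := by
  have hpp : p.Prime := Fact.out
  have hrr : r.Prime := Fact.out
  have hRodd : Odd (Nat.card (R : Subgroup K)) :=
    hodd.of_dvd_nat (Subgroup.card_subgroup_dvd_card _)
  have hRcomm := comm_of_isPGroup (μ.comp (R : Subgroup K).subtype) p hp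
    (hμ.comp (Subgroup.subtype_injective _)) hRodd r R.isPGroup'
  intro x hx
  rw [Subgroup.mem_centralizer_iff]
  intro g hg
  by_cases hsc : IsSc (μ g)
  · apply hμ
    rw [map_mul, map_mul]
    exact hsc.commute _
  · have hxg : x * g * x⁻¹ ∈ (R : Subgroup K) := by
      rw [Subgroup.mem_normalizer_iff] at hx
      exact (hx g).mp hg
    have hc : (x * g * x⁻¹) * g = g * (x * g * x⁻¹) := by
      have := hRcomm ⟨x * g * x⁻¹, hxg⟩ ⟨g, hg⟩
      exact congrArg Subtype.val this
    have hgord : (orderOf g).Coprime p := by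
      obtain ⟨k, hk⟩ := R.isPGroup' ⟨g, hg⟩
      have h1 : g ^ r ^ k = 1 := by
        have := congrArg Subtype.val hk
        simpa using this
      have h2 : orderOf g ∣ r ^ k := orderOf_dvd_of_pow_eq_one h1
      have h3 : (r ^ k).Coprime p :=
        Nat.Coprime.pow_left k ((Nat.coprime_primes hrr hpp).mpr hrp)
      exact Nat.Coprime.coprime_dvd_left h2 h3
    have h1 := conj_eq_of_commute μ p hμ hp x g (isOfFinOrder_of_finite x) (odd_orderOf hodd x)
      hgord hsc hc
    have h2 : x * g = g * x := by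
      have := congrArg (fun t => t * x) h1
      simpa [mul_assoc] using this
    exact h2.symm

/-- A nontrivial finite `p`-group of matrices in characteristic `p` fixes a line. -/
theorem exists_invariant_of_isPGroup [Finite K] (hμ : Function.Injective μ) (hK : IsPGroup p K)
    [Nontrivial K] :
    ∃ v : Fin 2 → F, v ≠ 0 ∧ ∀ h : K, μ h *ᵥ v ∈ Submodule.span F {v} := by
  have hcn : Nontrivial (Subgroup.center K) := hK.center_nontrivial
  obtain ⟨z, hz1⟩ := exists_ne (1 : Subgroup.center K)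
  have hz1' : (z : K) ≠ 1 := fun h => hz1 (Subtype.ext h)
  obtain ⟨j, hj⟩ := hK (z : K)
  have hZ1 : μ z ≠ 1 := fun h => hz1' (hμ (by rw [h, map_one]))
  have hnil : (μ z - 1) ^ p ^ j = 0 := by
    rw [sub_pow_char_pow_of_commute p j (Commute.one_right _), one_pow, ← map_pow, hj, map_one,
      sub_self]
  -- a vector not killed by `μ z - 1`
  have hu : ∃ u : Fin 2 → F, (μ z - 1) *ᵥ u ≠ 0 := by
    by_contra hall
    push Not at hall
    apply hZ1
    have h1 : μ z - 1 = 0 := by
      ext i j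
      have := congrFun (hall (Pi.single j 1)) i
      simpa using this
    exact sub_eq_zero.mp h1
  obtain ⟨u, hu⟩ := hu
  have hex : ∃ k : ℕ, ((μ z - 1) ^ k) *ᵥ u = 0 := ⟨p ^ j, by rw [hnil, Matrix.zero_mulVec]⟩
  classical
  set k₀ := Nat.find hex with hk₀
  have hk₀spec : ((μ z - 1) ^ k₀) *ᵥ u = 0 := Nat.find_spec hex
  have hk₀pos : k₀ ≠ 0 := by
    intro h0
    rw [h0, pow_zero, Matrix.one_mulVec] at hk₀spec
    apply hu
    rw [hk₀spec, Matrix.mulVec_zero]
  obtain ⟨k₁, hk₁⟩ := Nat.exists_eq_succ_of_ne_zero hk₀pos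
  have hv0 : ((μ z - 1) ^ k₁) *ᵥ u ≠ 0 := by
    have : k₁ < k₀ := by omega
    exact Nat.find_min hex this
  refine ⟨((μ z - 1) ^ k₁) *ᵥ u, hv0, ?_⟩
  have hfix : μ z *ᵥ (((μ z - 1) ^ k₁) *ᵥ u) = ((μ z - 1) ^ k₁) *ᵥ u := by
    have h1 : (μ z - 1) *ᵥ (((μ z - 1) ^ k₁) *ᵥ u) = 0 := by
      rw [Matrix.mulVec_mulVec, ← pow_succ', ← Nat.succ_eq_add_one, ← hk₁]
      exact hk₀spec
    rw [Matrix.sub_mulVec, Matrix.one_mulVec, sub_eq_zero] at h1
    exact h1
  intro h
  by_contra hnot
  have hD := det_ne_zero_of_not_mem_span _ _ hv0 hnot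
  apply hZ1
  apply eq_one_of_fix_two (μ z) _ _ hD hfix
  have hzc := Subgroup.mem_center_iff.mp z.2 h
  rw [Matrix.mulVec_mulVec, ← map_mul, ← hzc, map_mul, ← Matrix.mulVec_mulVec, hfix]

end group

section reduction

variable {K : Type*} [Group K] (μ : K →* Matrix (Fin 2) (Fin 2) F)
variable (p : ℕ) [Fact p.Prime] [CharP F p]

/-- Special position: `N` diagonal and `h` maps `e₁` to `e₂`. -/
theorem scalar_of_diag_aux [Finite K] (hodd : Odd (Nat.card K)) (N : Subgroup K) [N.Normal]
    (hdiag : ∀ g ∈ N, μ g 0 1 = 0 ∧ μ g 1 0 = 0) (h : K) (h00 : μ h 0 0 = 0) (h10 : μ h 1 0 = 1) :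
    ∀ g ∈ N, IsSc (μ g) := by
  by_contra hcon
  push Not at hcon
  obtain ⟨g₀, hg₀, hns⟩ := hcon
  have hne : μ g₀ 0 0 ≠ μ g₀ 1 1 := fun he => hns ⟨(hdiag g₀ hg₀).1, (hdiag g₀ hg₀).2, he⟩
  have hg' : h * g₀ * h⁻¹ ∈ N := Subgroup.Normal.conj_mem inferInstance g₀ hg₀ h
  have hrel : μ h * μ g₀ = μ (h * g₀ * h⁻¹) * μ h := by
    rw [← map_mul, ← map_mul]
    congr 1
    group
  have E10 := congrFun (congrFun hrel 1) 0
  have E11 := congrFun (congrFun hrel 1) 1
  rw [mul_entries, mul_entries] at E10 E11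
  rw [(hdiag g₀ hg₀).2, (hdiag _ hg').2, h00, h10] at E10
  rw [(hdiag g₀ hg₀).1, (hdiag _ hg').2, h10] at E11
  have hy : μ h 1 1 = 0 := by
    have h1 : μ h 1 1 * (μ g₀ 1 1 - μ g₀ 0 0) = 0 := by
      linear_combination E11 - μ h 1 1 * E10
    rcases mul_eq_zero.mp h1 with h2 | h2
    · exact h2
    · exact absurd (sub_eq_zero.mp h2).symm hne
  have hsq : IsSc (μ (h ^ 2)) := by
    rw [map_pow, pow_two]
    refine ⟨?_, ?_, ?_⟩
    · rw [mul_entries, h00, hy]; ring
    · rw [mul_entries, h00, hy]; ring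
    · rw [mul_entries, mul_entries, h00, hy, h10]; ring
  obtain ⟨m, hm⟩ := odd_orderOf hodd h
  have hh : h = (h ^ 2) ^ (m + 1) := by
    rw [← pow_mul]
    have : 2 * (m + 1) = orderOf h + 1 := by omega
    rw [this, pow_succ, pow_orderOf_eq_one, one_mul]
  have hsc : IsSc (μ h) := by
    rw [hh, map_pow]
    exact hsq.pow _
  have := hsc.2.1
  rw [h10] at this
  exact one_ne_zero this

/-- If a normal subgroup `N` of the odd-order group `K` has a common eigenvector whose line is
not `K`-invariant, then `N` consists of scalars. -/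
theorem scalar_of_common_eigenvector [Finite K] (hodd : Odd (Nat.card K)) (N : Subgroup K)
    [N.Normal] (v : Fin 2 → F) (hv : v ≠ 0)
    (hN : ∀ g ∈ N, μ g *ᵥ v ∈ Submodule.span F {v})
    (hirr : ∃ h : K, μ h *ᵥ v ∉ Submodule.span F {v}) : ∀ g ∈ N, IsSc (μ g) := by
  obtain ⟨h, hh⟩ := hirr
  obtain ⟨w, hw⟩ : ∃ w, w = μ h *ᵥ v := ⟨_, rfl⟩
  rw [← hw] at hh
  have hD := det_ne_zero_of_not_mem_span v w hv hh
  obtain ⟨P, hP⟩ : ∃ P : Matrix (Fin 2) (Fin 2) F, P = !![v 0, w 0; v 1, w 1] := ⟨_, rfl⟩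
  have hdetP : P.det = v 0 * w 1 - v 1 * w 0 := by
    rw [hP, Matrix.det_fin_two_of]
    ring
  have hunit : IsUnit P.det := by
    rw [hdetP]
    exact isUnit_iff_ne_zero.mpr hD
  have hPQ : P * P⁻¹ = 1 := Matrix.mul_nonsing_inv P hunit
  have hQP : P⁻¹ * P = 1 := Matrix.nonsing_inv_mul P hunit
  have hPe1 : P *ᵥ ![1, 0] = v := by
    ext i
    rw [mulVec_entries, hP]
    fin_cases i <;> simp
  have hPe2 : P *ᵥ ![0, 1] = w := by
    ext i
    rw [mulVec_entries, hP]
    fin_cases i <;> simp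
  have hQv : P⁻¹ *ᵥ v = ![1, 0] := by
    rw [← hPe1, Matrix.mulVec_mulVec, hQP, Matrix.one_mulVec]
  have hQw : P⁻¹ *ᵥ w = ![0, 1] := by
    rw [← hPe2, Matrix.mulVec_mulVec, hQP, Matrix.one_mulVec]
  -- the conjugated representation
  let μ' : K →* Matrix (Fin 2) (Fin 2) F :=
    { toFun := fun g => P⁻¹ * μ g * P
      map_one' := by rw [map_one, mul_one, hQP]
      map_mul' := fun a b => by
        rw [map_mul]
        calc P⁻¹ * (μ a * μ b) * P = P⁻¹ * μ a * 1 * μ b * P := by
              rw [mul_one]; simp only [mul_assoc]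
          _ = P⁻¹ * μ a * P * (P⁻¹ * μ b * P) := by
              rw [← hPQ]; simp only [mul_assoc] }
  have hμ' : ∀ g, μ' g = P⁻¹ * μ g * P := fun g => rfl
  have hcol0 : ∀ g i, μ' g i 0 = (P⁻¹ *ᵥ (μ g *ᵥ v)) i := by
    intro g i
    rw [hμ', ← hPe1, Matrix.mulVec_mulVec, Matrix.mulVec_mulVec, mulVec_entries]
    simp
  have hcol1 : ∀ g i, μ' g i 1 = (P⁻¹ *ᵥ (μ g *ᵥ w)) i := by
    intro g i
    rw [hμ', ← hPe2, Matrix.mulVec_mulVec, Matrix.mulVec_mulVec, mulVec_entries]
    simp
  -- `w` is a common eigenvector of `N` as well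
  have hNw : ∀ g ∈ N, μ g *ᵥ w ∈ Submodule.span F {w} := by
    intro g hg
    have hg' : h⁻¹ * g * h ∈ N := by
      have := Subgroup.Normal.conj_mem (inferInstance : N.Normal) g hg h⁻¹
      rwa [inv_inv] at this
    obtain ⟨c, hc⟩ := Submodule.mem_span_singleton.mp (hN _ hg')
    rw [Submodule.mem_span_singleton]
    refine ⟨c, ?_⟩
    rw [hw, Matrix.mulVec_mulVec, ← map_mul]
    have e1 : g * h = h * (h⁻¹ * g * h) := by group
    rw [e1, map_mul, ← Matrix.mulVec_mulVec, ← hc, Matrix.mulVec_smul]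
  have hdiag : ∀ g ∈ N, μ' g 0 1 = 0 ∧ μ' g 1 0 = 0 := by
    intro g hg
    constructor
    · obtain ⟨c, hc⟩ := Submodule.mem_span_singleton.mp (hNw g hg)
      rw [hcol1, ← hc, Matrix.mulVec_smul, hQw]
      simp
    · obtain ⟨c, hc⟩ := Submodule.mem_span_singleton.mp (hN g hg)
      rw [hcol0, ← hc, Matrix.mulVec_smul, hQv]
      simp
  have h00 : μ' h 0 0 = 0 := by
    rw [hcol0, ← hw, hQw]
    simp
  have h10 : μ' h 1 0 = 1 := by
    rw [hcol0, ← hw, hQw]
    simp
  have haux := scalar_of_diag_aux μ' hodd N hdiag h h00 h10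
  intro g hg
  obtain ⟨c, hc⟩ := (isSc_iff _).mp (haux g hg)
  rw [hμ'] at hc
  have e1 : μ g = P * (P⁻¹ * μ g * P) * P⁻¹ := by
    calc μ g = 1 * μ g * 1 := by rw [one_mul, mul_one]
      _ = P * (P⁻¹ * μ g * P) * P⁻¹ := by rw [← hPQ]; simp only [mul_assoc]
  rw [e1, hc, Matrix.mul_smul, mul_one, Matrix.smul_mul, hPQ]
  exact isSc_smul_one c

/-- A finite group of scalar matrices in characteristic `p` has order prime to `p`. -/
theorem not_dvd_card_of_scalar [Finite K] (hμ : Function.Injective μ)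
    (hsc : ∀ g : K, IsSc (μ g)) : ¬ p ∣ Nat.card K := by
  intro hdvd
  have hpp : p.Prime := Fact.out
  obtain ⟨g, hg⟩ := exists_prime_orderOf_dvd_card' p hdvd
  obtain ⟨c, hc⟩ := (isSc_iff _).mp (hsc g)
  have h1 : μ (g ^ p) = 1 := by rw [← hg, pow_orderOf_eq_one, map_one]
  rw [map_pow, hc, smul_pow, one_pow] at h1
  have h2 : c ^ p = 1 := by
    have := congrFun (congrFun h1 0) 0
    simpa using this
  have h3 : (c - 1) ^ p = 0 := by rw [sub_pow_char, h2, one_pow, sub_self]
  have h4 : c = 1 := sub_eq_zero.mp (pow_eq_zero_iff hpp.ne_zero |>.mp h3)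
  rw [h4, one_smul] at hc
  have h5 : g = 1 := hμ (by rw [hc, map_one])
  rw [h5, orderOf_one] at hg
  exact hpp.one_lt.ne hg

end reduction

section main

universe u

variable (p : ℕ) [Fact p.Prime] [CharP F p]

theorem main_aux (hp : p ≠ 2) (n : ℕ) : ∀ (K : Type u) [Group K] [Finite K]
    (μ : K →* Matrix (Fin 2) (Fin 2) F), Function.Injective μ → Nat.card K = n → Odd n →
    (∀ v : Fin 2 → F, v ≠ 0 → ∃ g : K, μ g *ᵥ v ∉ Submodule.span F {v}) → ¬ p ∣ n := by
  induction n using Nat.strong_induction_on with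
  | _ n ih =>
  intro K _ _ μ hμ hcard hodd hirr hdvd
  have hpp : p.Prime := Fact.out
  have hn0 : n ≠ 0 := by
    rw [← hcard]
    exact Nat.card_pos.ne'
  have hoddK : Odd (Nat.card K) := hcard ▸ hodd
  by_cases hall : ∀ r : ℕ, r.Prime → r ∣ n → r = p
  · have hpow : n = p ^ n.primeFactorsList.length :=
      Nat.eq_prime_pow_of_unique_prime_dvd hn0 (fun {d} hd hdn => hall d hd hdn)
    have hK : IsPGroup p K := IsPGroup.of_card (hcard.trans hpow)
    have hnt : Nontrivial K := by
      rw [← Finite.one_lt_card_iff_nontrivial, hcard]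
      exact lt_of_lt_of_le hpp.one_lt (Nat.le_of_dvd (Nat.pos_of_ne_zero hn0) hdvd)
    obtain ⟨v, hv, hinv⟩ := exists_invariant_of_isPGroup μ p hμ hK
    obtain ⟨g, hg⟩ := hirr v hv
    exact hg (hinv g)
  · push Not at hall
    obtain ⟨r, hr, hrn, hrp⟩ := hall
    have : Fact r.Prime := ⟨hr⟩
    let R : Sylow r K := default
    have hNC := normalizer_le_centralizer μ p hp hμ hoddK r hrp R
    have hcompl := MonoidHom.ker_transferSylow_isComplement' R hNC
    have hmul := hcompl.card_mul_card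
    have hrR : r ∣ Nat.card R := R.dvd_card_of_dvd_card (hcard ▸ hrn)
    obtain ⟨k, hk⟩ := R.isPGroup'.exists_card_eq
    have hpR : ¬ p ∣ Nat.card R := by
      intro h
      have h1 : p ∣ r ^ k := by
        have : Nat.card (R : Subgroup K) = r ^ k := hk
        rw [← this]
        exact h
      have := (Nat.prime_dvd_prime_iff_eq hpp hr).mp (hpp.dvd_of_dvd_pow h1)
      exact hrp this.symm
    have hpN : p ∣ Nat.card (MonoidHom.transferSylow R hNC).ker := by
      have h1 : p ∣ Nat.card (MonoidHom.transferSylow R hNC).ker * Nat.card R := by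
        rw [hmul, hcard]
        exact hdvd
      rcases (Nat.Prime.dvd_mul hpp).mp h1 with h2 | h2
      · exact h2
      · exact absurd h2 hpR
    have hNlt : Nat.card (MonoidHom.transferSylow R hNC).ker < n := by
      have h2 : 2 ≤ Nat.card R := le_trans hr.two_le (Nat.le_of_dvd Nat.card_pos hrR)
      have h3 : 0 < Nat.card (MonoidHom.transferSylow R hNC).ker := Nat.card_pos
      rw [← hcard, ← hmul]
      nlinarith
    have hNodd : Odd (Nat.card (MonoidHom.transferSylow R hNC).ker) :=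
      hoddK.of_dvd_nat (Subgroup.card_subgroup_dvd_card _)
    have hinjN : Function.Injective (μ.comp (MonoidHom.transferSylow R hNC).ker.subtype) :=
      hμ.comp (Subgroup.subtype_injective _)
    have hNred : ¬ (∀ v : Fin 2 → F, v ≠ 0 → ∃ g : (MonoidHom.transferSylow R hNC).ker,
        (μ.comp (MonoidHom.transferSylow R hNC).ker.subtype) g *ᵥ v ∉ Submodule.span F {v}) :=
      fun hirrN => ih _ hNlt _ (μ.comp (MonoidHom.transferSylow R hNC).ker.subtype) hinjN rfl hNodd
        hirrN hpN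
    push Not at hNred
    obtain ⟨v, hv, hvN⟩ := hNred
    have hsc : ∀ g ∈ (MonoidHom.transferSylow R hNC).ker, IsSc (μ g) :=
      scalar_of_common_eigenvector μ hoddK _ v hv (fun g hg => hvN ⟨g, hg⟩)
        (let ⟨g, hg⟩ := hirr v hv; ⟨g, hg⟩)
    exact not_dvd_card_of_scalar (μ.comp (MonoidHom.transferSylow R hNC).ker.subtype) p hinjN
      (fun g => hsc g g.2) hpN

end main

end Cfsg.Agent.Lib.Helper46_GL2Odd
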