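import Cfsg.Prelude.Def_EvenType

/-!
# Strongly `p`-embedded subgroups: basic API (helper48)

Bridge between `Cfsg.IsStronglyPEmbedded` (defined through `kGeneratedCore p 1 P`) and the
usual working form: `N_G(Q) ≤ H` for every nontrivial `p`-subgroup `Q` of `H`, plus the fusion
lemma (`Q ≤ H`, `gQg⁻¹ ≤ H` nontrivial `p`-subgroups force `g ∈ H`).
-/

set_option autoImplicit false
open Cfsg
open scoped Pointwise

namespace Cfsg.Agent.Lib.Helper48_SPE

variable {G : Type*} [Group G]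

/-- Conjugation as pointwise action agrees with `map` along `MulAut.conj g`. -/
theorem conj_smul_eq_map (g : G) (Q : Subgroup G) :
    MulAut.conj g • Q = Q.map (MulAut.conj g).toMonoidHom := rfl

theorem mem_conj_smul_iff {g x : G} {Q : Subgroup G} :
    x ∈ MulAut.conj g • Q ↔ g⁻¹ * x * g ∈ Q := by
  rw [Subgroup.mem_pointwise_smul_iff_inv_smul_mem]
  simp [MulAut.smul_def]

theorem conj_mem_conj_smul {g x : G} {Q : Subgroup G} (hx : x ∈ Q) :
    g * x * g⁻¹ ∈ MulAut.conj g • Q := by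
  rw [mem_conj_smul_iff]
  have : g⁻¹ * (g * x * g⁻¹) * g = x := by group
  rwa [this]

theorem conj_smul_le_iff {g : G} {Q K : Subgroup G} :
    MulAut.conj g • Q ≤ K ↔ ∀ x ∈ Q, g * x * g⁻¹ ∈ K := by
  constructor
  · intro h x hx
    exact h (conj_mem_conj_smul hx)
  · intro h y hy
    rw [mem_conj_smul_iff] at hy
    have := h _ hy
    have e : g * (g⁻¹ * y * g) * g⁻¹ = y := by group
    rwa [e] at this

theorem conj_smul_le_of_mem {g : G} {Q K : Subgroup G} (hQ : Q ≤ K) (hg : g ∈ K) :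
    MulAut.conj g • Q ≤ K := by
  rw [conj_smul_le_iff]
  intro x hx
  exact K.mul_mem (K.mul_mem hg (hQ hx)) (K.inv_mem hg)

theorem normalizer_conj_smul (g : G) (Q : Subgroup G) :
    Subgroup.normalizer ((MulAut.conj g • Q : Subgroup G) : Set G) =
      MulAut.conj g • Subgroup.normalizer (Q : Set G) := by
  have := Subgroup.map_equiv_normalizer_eq Q (MulAut.conj g)
  rw [conj_smul_eq_map, conj_smul_eq_map]
  exact this.symm

theorem isPGroup_conj_smul {p : ℕ} {Q : Subgroup G} (hQ : IsPGroup p Q) (g : G) :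
    IsPGroup p (MulAut.conj g • Q : Subgroup G) := by
  rw [conj_smul_eq_map]
  exact hQ.map _

theorem conj_smul_ne_bot {Q : Subgroup G} (hQ : Q ≠ ⊥) (g : G) :
    (MulAut.conj g • Q : Subgroup G) ≠ ⊥ := by
  intro h
  apply hQ
  have : MulAut.conj g • Q = MulAut.conj g • (⊥ : Subgroup G) := by
    rw [h, Subgroup.smul_bot]
  exact smul_left_cancel _ this

theorem card_conj_smul (g : G) (Q : Subgroup G) :
    Nat.card (MulAut.conj g • Q : Subgroup G) = Nat.card Q := by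
  rw [conj_smul_eq_map]
  exact Subgroup.card_map_of_injective (MulAut.conj g).injective

/-! ### Sylow subgroups of subgroups, inside the ambient group -/

/-- `P` is a Sylow `p`-subgroup of the subgroup `K`, everything living inside `G`. -/
def IsSylowIn (p : ℕ) (P K : Subgroup G) : Prop :=
  P ≤ K ∧ IsPGroup p P ∧ ∀ R : Subgroup G, IsPGroup p R → P ≤ R → R ≤ K → R = P

theorem IsSylowIn.le {p : ℕ} {P K : Subgroup G} (h : IsSylowIn p P K) : P ≤ K := h.1
theorem IsSylowIn.isPGroup {p : ℕ} {P K : Subgroup G} (h : IsSylowIn p P K) : IsPGroup p P := h.2.1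


theorem isSylowIn_map_subtype {p : ℕ} {K : Subgroup G} (S : Sylow p K) :
    IsSylowIn p ((S : Subgroup K).map K.subtype) K := by
  refine ⟨Subgroup.map_subtype_le _, S.2.map _, ?_⟩
  intro R hR hSR hRK
  have h1 : (S : Subgroup K) ≤ R.subgroupOf K := by
    intro x hx
    rw [Subgroup.mem_subgroupOf]
    exact hSR (Subgroup.mem_map_of_mem _ hx)
  have h2 := S.is_maximal' (hR.comap_subtype (K := K)) h1
  rw [← h2]
  exact (Subgroup.map_subgroupOf_eq_of_le hRK).symm

/-- Turn an `IsSylowIn` into a bundled Sylow subgroup of `↥K`. -/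
def IsSylowIn.toSylow {p : ℕ} {P K : Subgroup G} (h : IsSylowIn p P K) : Sylow p K where
  toSubgroup := P.subgroupOf K
  isPGroup' := h.2.1.comap_subtype
  is_maximal' := by
    intro Q hQ hPQ
    have h1 : P ≤ Q.map K.subtype := by
      intro x hx
      exact ⟨⟨x, h.1 hx⟩, hPQ (by simpa [Subgroup.mem_subgroupOf] using hx), rfl⟩
    have h2 := h.2.2 (Q.map K.subtype) (hQ.map _) h1 (Subgroup.map_subtype_le _)
    rw [← h2]
    ext x
    simp [Subgroup.mem_subgroupOf]

theorem IsSylowIn.map_toSylow {p : ℕ} {P K : Subgroup G} (h : IsSylowIn p P K) :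
    ((h.toSylow : Sylow p K) : Subgroup K).map K.subtype = P :=
  Subgroup.map_subgroupOf_eq_of_le h.1

theorem exists_isSylowIn_ge {p : ℕ} {Q K : Subgroup G} (hQ : IsPGroup p Q) (hQK : Q ≤ K) :
    ∃ P, IsSylowIn p P K ∧ Q ≤ P := by
  obtain ⟨S, hS⟩ := (hQ.comap_subtype (K := K)).exists_le_sylow
  refine ⟨_, isSylowIn_map_subtype S, ?_⟩
  intro x hx
  exact ⟨⟨x, hQK hx⟩, hS (by simpa [Subgroup.mem_subgroupOf] using hx), rfl⟩

theorem exists_isSylowIn (p : ℕ) (K : Subgroup G) : ∃ P, IsSylowIn p P K := by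
  obtain ⟨P, hP, -⟩ := exists_isSylowIn_ge (p := p) (Q := ⊥) (K := K) IsPGroup.of_bot bot_le
  exact ⟨P, hP⟩

theorem IsSylowIn.exists_conj [Finite G] {p : ℕ} [Fact p.Prime] {P₁ P₂ K : Subgroup G} (h₁ : IsSylowIn p P₁ K) (h₂ : IsSylowIn p P₂ K) :
    ∃ c ∈ K, MulAut.conj c • P₁ = P₂ := by
  obtain ⟨c, hc⟩ := MulAction.exists_smul_eq K h₁.toSylow h₂.toSylow
  refine ⟨c, c.2, ?_⟩
  have h3 : ((c • h₁.toSylow : Sylow p K) : Subgroup K).map K.subtype = P₂ := by
    rw [hc]; exact h₂.map_toSylow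
  rw [← h3, Sylow.coe_subgroup_smul]
  ext x
  simp only [mem_conj_smul_iff, Subgroup.mem_map, Subgroup.subtype_apply]
  constructor
  · intro hx
    refine ⟨⟨x, ?_⟩, ?_, rfl⟩
    · have := K.mul_mem (K.mul_mem c.2 (h₁.1 hx)) (K.inv_mem c.2)
      have e : (c : G) * ((c : G)⁻¹ * x * c) * (c : G)⁻¹ = x := by group
      rwa [e] at this
    · show c⁻¹ * ⟨x, _⟩ * c ∈ (h₁.toSylow : Subgroup K)
      show c⁻¹ * ⟨x, _⟩ * c ∈ P₁.subgroupOf K
      rw [Subgroup.mem_subgroupOf]
      simpa using hx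
  · rintro ⟨y, hy, rfl⟩
    have hy' : c⁻¹ * y * c ∈ P₁.subgroupOf K := hy
    rw [Subgroup.mem_subgroupOf] at hy'
    simpa using hy'

theorem isSylowIn_top {p : ℕ} (S : Sylow p G) : IsSylowIn p (S : Subgroup G) ⊤ :=
  ⟨le_top, S.2, fun _ hR hSR _ => (S.is_maximal' hR hSR)⟩

theorem IsSylowIn.mono {p : ℕ} {P K L : Subgroup G} (h : IsSylowIn p P K) (hPL : P ≤ L) (hLK : L ≤ K) :
    IsSylowIn p P L :=
  ⟨hPL, h.2.1, fun R hR hPR hRL => h.2.2 R hR hPR (hRL.trans hLK)⟩

theorem IsSylowIn.conj_smul {p : ℕ} {P K : Subgroup G} (h : IsSylowIn p P K) (g : G) :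
    IsSylowIn p (MulAut.conj g • P) (MulAut.conj g • K) := by
  refine ⟨Subgroup.pointwise_smul_le_pointwise_smul_iff.mpr h.1, isPGroup_conj_smul h.2.1 g, ?_⟩
  intro R hR hPR hRK
  have h1 : P ≤ MulAut.conj g⁻¹ • R := by
    rw [← Subgroup.pointwise_smul_le_pointwise_smul_iff (a := MulAut.conj g), ← mul_smul, ← map_mul,
      mul_inv_cancel, map_one, one_smul]
    exact hPR
  have h2 : MulAut.conj g⁻¹ • R ≤ K := by
    rw [← Subgroup.pointwise_smul_le_pointwise_smul_iff (a := MulAut.conj g), ← mul_smul, ← map_mul,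
      mul_inv_cancel, map_one, one_smul]
    exact hRK
  have h3 := h.2.2 _ (isPGroup_conj_smul hR g⁻¹) h1 h2
  rw [← h3, ← mul_smul, ← map_mul, mul_inv_cancel, map_one, one_smul]

theorem conj_smul_centralizer_singleton (g t : G) :
    MulAut.conj g • Subgroup.centralizer ({t} : Set G) = Subgroup.centralizer ({g * t * g⁻¹} : Set G) := by
  ext x
  rw [mem_conj_smul_iff, Subgroup.mem_centralizer_singleton_iff, Subgroup.mem_centralizer_singleton_iff]
  constructor
  · intro h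
    calc x * (g * t * g⁻¹) = g * (g⁻¹ * x * g * t) * g⁻¹ := by group
      _ = g * (t * (g⁻¹ * x * g)) * g⁻¹ := by rw [h]
      _ = g * t * g⁻¹ * x := by group
  · intro h
    calc g⁻¹ * x * g * t = g⁻¹ * (x * (g * t * g⁻¹)) * g := by group
      _ = g⁻¹ * (g * t * g⁻¹ * x) * g := by rw [h]
      _ = t * (g⁻¹ * x * g) := by group

theorem IsSylowIn.ne_bot [Finite G] {p : ℕ} [Fact p.Prime] {P K : Subgroup G} (h : IsSylowIn p P K)
    (hdvd : p ∣ Nat.card K) : P ≠ ⊥ := by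
  intro hP
  have h1 := (h.toSylow).ne_bot_of_dvd_card hdvd
  apply h1
  show P.subgroupOf K = ⊥
  rw [hP]
  exact Subgroup.bot_subgroupOf _

/-! ### Strongly `p`-embedded subgroups -/

theorem exists_conj_le_sylow [Finite G] {p : ℕ} [Fact p.Prime] {H : Subgroup G} (P : Sylow p G) (hPH : (P : Subgroup G) ≤ H)
    {Q : Subgroup G} (hQ : IsPGroup p Q) (hQH : Q ≤ H) :
    ∃ h ∈ H, MulAut.conj h • Q ≤ (P : Subgroup G) := by
  obtain ⟨R, hR⟩ := (hQ.comap_subtype (K := H)).exists_le_sylow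
  obtain ⟨h, hh⟩ := MulAction.exists_smul_eq H R (P.subtype hPH)
  refine ⟨h, h.2, ?_⟩
  rw [conj_smul_le_iff]
  intro x hx
  have hx' : (⟨x, hQH hx⟩ : H) ∈ (R : Subgroup H) := hR (by simpa [Subgroup.mem_subgroupOf] using hx)
  have h2 : h * ⟨x, hQH hx⟩ * h⁻¹ ∈ ((h • R : Sylow p H) : Subgroup H) := by
    rw [Sylow.coe_subgroup_smul]
    exact conj_mem_conj_smul hx'
  rw [hh, Sylow.coe_subtype, Subgroup.mem_subgroupOf] at h2
  simpa using h2

/-- A nontrivial finite `p`-group has `p`-rank at least one, in the `PRankLE` language. -/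
theorem not_pRankLE_zero_of_ne_bot [Finite G] {p : ℕ} [Fact p.Prime] {Q : Subgroup G} (hQ : IsPGroup p Q) (hQ1 : Q ≠ ⊥) :
    ¬ PRankLE p 0 Q := by
  intro h
  have : Nontrivial Q := (Subgroup.nontrivial_iff_ne_bot Q).mpr hQ1
  obtain ⟨n, hn, hcard⟩ := (hQ.nontrivial_iff_card).mp inferInstance
  have hdvd : p ∣ Nat.card Q := by
    rw [hcard]; exact dvd_pow_self p (Nat.pos_iff_ne_zero.mp hn)
  obtain ⟨x, hx⟩ := exists_prime_orderOf_dvd_card' p hdvd
  have := h (Subgroup.zpowers x) (Subgroup.zpowers_isMulCommutative x) (by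
    intro a ha
    obtain ⟨k, rfl⟩ := Subgroup.mem_zpowers_iff.mp ha
    rw [← zpow_natCast, ← zpow_mul, mul_comm, zpow_mul, zpow_natCast, ← hx, pow_orderOf_eq_one, one_zpow])
  rw [Nat.card_zpowers, hx, pow_zero] at this
  exact absurd this (not_le.mpr (Fact.out : p.Prime).one_lt)

theorem ne_bot_of_not_pRankLE_zero {p : ℕ} {Q : Subgroup G} (h : ¬ PRankLE p 0 Q) : Q ≠ ⊥ := by
  rintro rfl
  apply h
  intro A _ _
  rw [pow_zero]
  exact Finite.card_le_one_iff_subsingleton.mpr inferInstance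

/-- Working form of "strongly `p`-embedded". -/
def SPE (p : ℕ) (H : Subgroup G) : Prop :=
  p ∣ Nat.card G ∧ H ≠ ⊤ ∧ (∃ P : Sylow p G, (P : Subgroup G) ≤ H) ∧
    ∀ Q : Subgroup G, IsPGroup p Q → Q ≠ ⊥ → Q ≤ H → Subgroup.normalizer (Q : Set G) ≤ H

theorem spe_of_isStronglyPEmbedded [Finite G] {p : ℕ} [Fact p.Prime] {H : Subgroup G}
    (hH : IsStronglyPEmbedded p H) : SPE p H := by
  obtain ⟨hdvd, hne, P, hP⟩ := hH
  have hP1 : (P : Subgroup G) ≠ ⊥ := P.ne_bot_of_dvd_card hdvd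
  have hcore : ∀ Q : Subgroup G, Q ≤ (P : Subgroup G) → Q ≠ ⊥ → Subgroup.normalizer (Q : Set G) ≤ H := by
    intro Q hQP hQ1
    refine le_trans ?_ hP
    unfold kGeneratedCore
    exact le_iSup_of_le ⟨Q, hQP, not_pRankLE_zero_of_ne_bot (P.2.to_le hQP) hQ1⟩ le_rfl
  have hPH : (P : Subgroup G) ≤ H := le_trans Subgroup.le_normalizer (hcore P le_rfl hP1)
  refine ⟨hdvd, hne, ⟨P, hPH⟩, ?_⟩
  intro Q hQ hQ1 hQH
  obtain ⟨h, hh, hle⟩ := exists_conj_le_sylow P hPH hQ hQH
  have h1 := hcore _ hle (conj_smul_ne_bot hQ1 h)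
  rw [normalizer_conj_smul] at h1
  intro x hx
  have h2 : h * x * h⁻¹ ∈ H := h1 (conj_mem_conj_smul hx)
  have : x = h⁻¹ * (h * x * h⁻¹) * h := by group
  rw [this]
  exact H.mul_mem (H.mul_mem (H.inv_mem hh) h2) hh

theorem isStronglyPEmbedded_of_spe {p : ℕ} {H : Subgroup G}
    (hH : SPE p H) : IsStronglyPEmbedded p H := by
  obtain ⟨hdvd, hne, ⟨P, hPH⟩, hN⟩ := hH
  refine ⟨hdvd, hne, P, ?_⟩
  unfold kGeneratedCore
  apply iSup_le
  rintro ⟨Q, hQP, hQr⟩
  exact hN Q (P.2.to_le hQP) (ne_bot_of_not_pRankLE_zero hQr) (hQP.trans hPH)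

theorem isStronglyPEmbedded_iff_spe [Finite G] {p : ℕ} [Fact p.Prime] {H : Subgroup G} :
    IsStronglyPEmbedded p H ↔ SPE p H :=
  ⟨spe_of_isStronglyPEmbedded, isStronglyPEmbedded_of_spe⟩
theorem card_lt_of_lt [Finite G] {H K : Subgroup G} (h : H < K) : Nat.card H < Nat.card K := by
  refine lt_of_le_of_ne (Subgroup.card_le_of_le h.le) ?_
  intro he
  exact h.ne (Subgroup.eq_of_le_of_card_ge h.le he.ge)

/-- Normalizers grow in finite `p`-groups (stated inside an ambient group). -/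
theorem exists_mem_normalizer_not_mem [Finite G] {p : ℕ} [Fact p.Prime] {Q S : Subgroup G}
    (hS : IsPGroup p S) (hQS : Q < S) :
    ∃ x ∈ S, x ∈ Subgroup.normalizer (Q : Set G) ∧ x ∉ Q := by
  have : Group.IsNilpotent S := hS.isNilpotent
  have hnc : NormalizerCondition S := Group.normalizerCondition_of_isNilpotent
  have hlt : Q.subgroupOf S < ⊤ := by
    rw [lt_top_iff_ne_top, Ne, Subgroup.subgroupOf_eq_top]
    exact fun h => hQS.not_ge h
  obtain ⟨x, hx1, hx2⟩ := SetLike.exists_of_lt (hnc _ hlt)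
  rw [← Subgroup.subgroupOf_normalizer_eq hQS.le, Subgroup.mem_subgroupOf] at hx1
  rw [Subgroup.mem_subgroupOf] at hx2
  exact ⟨x, x.2, hx1, hx2⟩

theorem lt_inf_normalizer [Finite G] {p : ℕ} [Fact p.Prime] {Q S : Subgroup G}
    (hS : IsPGroup p S) (hQS : Q < S) : Q < S ⊓ Subgroup.normalizer (Q : Set G) := by
  obtain ⟨x, hxS, hxN, hxQ⟩ := exists_mem_normalizer_not_mem hS hQS
  refine lt_of_le_of_ne (le_inf hQS.le Subgroup.le_normalizer) ?_
  intro h
  apply hxQ
  rw [h]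
  exact ⟨hxS, hxN⟩

theorem SPE.sylow_le [Finite G] {p : ℕ} [Fact p.Prime] {H : Subgroup G} (hH : SPE p H) :
    ∃ P : Sylow p G, (P : Subgroup G) ≤ H := hH.2.2.1

theorem SPE.normalizer_le [Finite G] {p : ℕ} [Fact p.Prime] {H : Subgroup G} (hH : SPE p H)
    {Q : Subgroup G} (hQ : IsPGroup p Q) (hQ1 : Q ≠ ⊥) (hQH : Q ≤ H) :
    Subgroup.normalizer (Q : Set G) ≤ H := hH.2.2.2 Q hQ hQ1 hQH

theorem mem_of_conj_smul_eq_of_normalizer_le {H Q : Subgroup G} {h k : G} (hh : h ∈ H)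
    (hN : Subgroup.normalizer (Q : Set G) ≤ H)
    (he : MulAut.conj h • Q = MulAut.conj k • Q) : k ∈ H := by
  have h1 : MulAut.conj (h⁻¹ * k) • Q = Q := by
    rw [map_mul, mul_smul, ← he, ← mul_smul, ← map_mul, inv_mul_cancel, map_one, one_smul]
  have h2 : h⁻¹ * k ∈ Subgroup.normalizer (Q : Set G) := by
    rw [Subgroup.mem_normalizer_iff_map_conj_eq]
    exact h1
  have := H.mul_mem hh (hN h2)
  simpa using this

/-- Fusion lemma: if `Q` and `kQk⁻¹` are nontrivial `p`-subgroups of a strongly `p`-embedded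
subgroup `H`, then `k ∈ H`. -/
theorem SPE.mem_of_conj_le [Finite G] {p : ℕ} [Fact p.Prime] {H : Subgroup G} (hH : SPE p H) :
    ∀ (n : ℕ) (Q : Subgroup G), Nat.card G - Nat.card Q = n → IsPGroup p Q → Q ≠ ⊥ → Q ≤ H →
      ∀ k : G, MulAut.conj k • Q ≤ H → k ∈ H := by
  intro n
  induction n using Nat.strong_induction_on with
  | _ n ih =>
    intro Q hn hQ hQ1 hQH k hk
    obtain ⟨S, hQS⟩ := hQ.exists_le_sylow
    by_cases hEq : Q = (S : Subgroup G)
    · -- Q is Sylow: use Sylow conjugacy inside H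
      have hkS : MulAut.conj k • Q = ((k • S : Sylow p G) : Subgroup G) := by
        rw [Sylow.coe_subgroup_smul, hEq]
      obtain ⟨h, hh, hle⟩ := exists_conj_le_sylow (k • S) (by rw [← hkS]; exact hk) hQ hQH
      have he : MulAut.conj h • Q = MulAut.conj k • Q := by
        rw [← hkS] at hle
        apply Subgroup.eq_of_le_of_card_ge hle
        rw [card_conj_smul, card_conj_smul]
      exact mem_of_conj_smul_eq_of_normalizer_le hh (hH.normalizer_le hQ hQ1 hQH) he
    · have hlt : Q < (S : Subgroup G) := lt_of_le_of_ne hQS hEq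
      have hR := lt_inf_normalizer S.2 hlt
      set R := (S : Subgroup G) ⊓ Subgroup.normalizer (Q : Set G) with hRdef
      have hRp : IsPGroup p R := S.2.to_le inf_le_left
      have hR1 : R ≠ ⊥ := fun h => hQ1 (le_bot_iff.mp (h ▸ hR.le))
      have hRH : R ≤ H := inf_le_right.trans (hH.normalizer_le hQ hQ1 hQH)
      have hkR : MulAut.conj k • R ≤ H := by
        have h1 : MulAut.conj k • R ≤ MulAut.conj k • Subgroup.normalizer (Q : Set G) :=
          Subgroup.pointwise_smul_le_pointwise_smul_iff.mpr inf_le_right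
        rw [← normalizer_conj_smul] at h1
        exact h1.trans (hH.normalizer_le (isPGroup_conj_smul hQ k) (conj_smul_ne_bot hQ1 k) hk)
      have hcard : Nat.card G - Nat.card R < n := by
        have h1 := card_lt_of_lt hR
        have h2 : Nat.card R ≤ Nat.card G := Subgroup.card_le_card_group R
        omega
      exact ih _ hcard R rfl hRp hR1 hRH k hkR

theorem SPE.mem_of_conj_le' [Finite G] {p : ℕ} [Fact p.Prime] {H : Subgroup G} (hH : SPE p H)
    {Q : Subgroup G} (hQ : IsPGroup p Q) (hQ1 : Q ≠ ⊥) (hQH : Q ≤ H) {k : G}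
    (hk : MulAut.conj k • Q ≤ H) : k ∈ H :=
  hH.mem_of_conj_le _ Q rfl hQ hQ1 hQH k hk

/-! ### Further `p`-group lemmas -/

theorem exists_orderOf_eq_prime_of_ne_bot [Finite G] {p : ℕ} [Fact p.Prime] {Z : Subgroup G}
    (hZ : IsPGroup p Z) (hZ1 : Z ≠ ⊥) : ∃ x ∈ Z, orderOf x = p := by
  have : Nontrivial Z := (Subgroup.nontrivial_iff_ne_bot Z).mpr hZ1
  obtain ⟨n, hn, hcard⟩ := (hZ.nontrivial_iff_card).mp inferInstance
  have hdvd : p ∣ Nat.card Z := by
    rw [hcard]; exact dvd_pow_self p (Nat.pos_iff_ne_zero.mp hn)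
  obtain ⟨x, hx⟩ := exists_prime_orderOf_dvd_card' p hdvd
  exact ⟨x, x.2, by rw [← hx, Subgroup.orderOf_coe]⟩


/-- A nontrivial normal subgroup of a finite `p`-group meets its centre nontrivially
(ambient-group formulation). -/
theorem inf_centralizer_ne_bot [Finite G] {p : ℕ} [Fact p.Prime] {R Q : Subgroup G}
    (hR : IsPGroup p R) (hQR : Q ≤ R) (hN : R ≤ Subgroup.normalizer (Q : Set G)) (hQ1 : Q ≠ ⊥) :
    Q ⊓ Subgroup.centralizer (R : Set G) ≠ ⊥ := by
  have hnorm : (Q.subgroupOf R).Normal := Subgroup.normal_subgroupOf_of_le_normalizer hN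
  have hQp : IsPGroup p Q := hR.to_le hQR
  have : Nontrivial Q := (Subgroup.nontrivial_iff_ne_bot Q).mpr hQ1
  obtain ⟨n, hn, hcard⟩ := (hQp.nontrivial_iff_card).mp inferInstance
  have hdvd : p ∣ Nat.card (Q.subgroupOf R) := by
    rw [Nat.card_congr (Subgroup.subgroupOfEquivOfLe hQR).toEquiv, hcard]
    exact dvd_pow_self p (Nat.pos_iff_ne_zero.mp hn)
  have key := (hR.of_equiv ConjAct.toConjAct).exists_fixed_point_of_prime_dvd_card_of_fixed_point
    (Q.subgroupOf R) hdvd (a := 1) (by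
      intro g; exact smul_one g)
  obtain ⟨b, hb, hb1⟩ := key
  intro hbot
  apply hb1
  have hbmem : ((b : R) : G) ∈ Q ⊓ Subgroup.centralizer (R : Set G) := by
    refine Subgroup.mem_inf.mpr ⟨b.2, ?_⟩
    rw [Subgroup.mem_centralizer_iff]
    intro r hr
    have := hb (ConjAct.toConjAct ⟨r, hr⟩)
    have h2 := congrArg (fun z : Q.subgroupOf R => ((z : R) : G)) this
    simp only [ConjAct.Subgroup.val_conj_smul, ConjAct.toConjAct_smul] at h2
    simp at h2
    calc r * ((b : R) : G) = (r * ((b : R) : G) * r⁻¹) * r := by group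
      _ = ((b : R) : G) * r := by rw [h2]
  rw [hbot, Subgroup.mem_bot] at hbmem
  ext
  simpa using hbmem.symm

theorem normalizer_le_of_conj {H Q : Subgroup G} {h : G} (hh : h ∈ H)
    (hN : Subgroup.normalizer ((MulAut.conj h • Q : Subgroup G) : Set G) ≤ H) :
    Subgroup.normalizer (Q : Set G) ≤ H := by
  rw [normalizer_conj_smul] at hN
  intro x hx
  have h2 : h * x * h⁻¹ ∈ H := hN (conj_mem_conj_smul hx)
  have : x = h⁻¹ * (h * x * h⁻¹) * h := by group
  rw [this]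
  exact H.mul_mem (H.mul_mem (H.inv_mem hh) h2) hh

theorem centralizer_singleton_le_normalizer_zpowers (x : G) :
    Subgroup.centralizer ({x} : Set G) ≤ Subgroup.normalizer ((Subgroup.zpowers x : Subgroup G) : Set G) := by
  have : Subgroup.centralizer ({x} : Set G) = Subgroup.centralizer ((Subgroup.zpowers x : Subgroup G) : Set G) := by
    rw [Subgroup.zpowers_eq_closure, Subgroup.centralizer_closure]
  rw [this]
  exact Subgroup.centralizer_le_normalizer _

theorem isPGroup_zpowers_of_orderOf_eq {p : ℕ} [Fact p.Prime] {x : G} (hx : orderOf x = p) :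
    IsPGroup p (Subgroup.zpowers x) := by
  apply IsPGroup.of_card (n := 1)
  rw [Nat.card_zpowers, hx, pow_one]

theorem zpowers_ne_bot_of_orderOf_eq {p : ℕ} [Fact p.Prime] {x : G} (hx : orderOf x = p) :
    Subgroup.zpowers x ≠ ⊥ := by
  rw [Ne, Subgroup.zpowers_eq_bot]
  rintro rfl
  rw [orderOf_one] at hx
  exact (Fact.out : p.Prime).one_lt.ne hx

/-- A Sylow `p`-subgroup of `N_G(Q)` that equals `Q` forces `Q` to be a Sylow `p`-subgroup of `G`. -/
theorem exists_sylow_eq_of_isSylowIn_normalizer [Finite G] {p : ℕ} [Fact p.Prime] {Q : Subgroup G}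
    (hQ : IsSylowIn p Q (Subgroup.normalizer (Q : Set G))) : ∃ P : Sylow p G, (P : Subgroup G) = Q := by
  obtain ⟨P, hQP⟩ := hQ.isPGroup.exists_le_sylow
  refine ⟨P, ?_⟩
  by_contra hne
  have hlt : Q < (P : Subgroup G) := lt_of_le_of_ne hQP (Ne.symm hne)
  have h1 := lt_inf_normalizer P.2 hlt
  have h2 := hQ.2.2 _ (P.2.to_le inf_le_left) h1.le inf_le_right
  exact h1.ne h2.symm

end Cfsg.Agent.Lib.Helper48_SPE
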