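import Cfsg.Agent.S0093
import Cfsg.Agent.S0121
import Cfsg.Agent.S4218
import Cfsg.Agent.S5185
import Cfsg.Agent.Lib.Helper20_AutOmega
import Cfsg.Agent.Lib.Helper20_RankTwoOmega
import Cfsg.Agent.Lib.Helper46_GL2Odd
import Cfsg.Agent.Lib.Helper48_Generation
import Cfsg.Agent.Lib.Helper1_Frattini
import Cfsg.Prelude.Def_CaseTheorems

/-!
# Automorphism groups of odd order of `p`-groups of rank at most two (helper2)

For `p` odd and a finite `p`-group `R` all of whose elementary abelian subgroups have order at most
`p²`, a group of automorphisms of `R` of odd order has a derived subgroup which is a `p`-group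
(Bender–Glauberman, Theorem 4.17 (b) in essence).

* `exists_omega_critical`: a characteristic subgroup `N` of exponent `p` and order at most `p³` on
  which every `p'`-automorphism acts faithfully (`Ω₁` of a critical subgroup).
* `isPGroup_ker`: the automorphisms acting trivially on `N / Φ(N)` form a `p`-group.
* `isPGroup_commutator_of_odd`: the main theorem, for subgroups of `MulAut R`.
-/

set_option autoImplicit false

namespace Cfsg.Agent.Lib.Helper2_RankTwoAut

open Cfsg Cfsg.Agent.Lib.Helper20_AutOmega Cfsg.Agent.Lib.Helper20_RankTwoOmega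
open scoped commutatorElement

universe u

section Omega

variable {R : Type u} [Group R] [Finite R] {p : ℕ} [Fact p.Prime]

/-- `Ω₁` of a critical subgroup: characteristic, of exponent `p`, of order at most `p³`, and
faithful for `p'`-automorphisms. -/
theorem exists_omega_critical (hp : p ≠ 2) (hR : IsPGroup p R) (hrk : Cfsg.PRankLE p 2 R) :
    ∃ N : Subgroup R, N.Characteristic ∧ (∀ g ∈ N, g ^ p = 1) ∧ Nat.card N ≤ p ^ 3 ∧
      ∀ a : MulAut R, (orderOf a).Coprime p → (∀ x ∈ N, a x = x) → a = 1 := by
  have hpP : p.Prime := Fact.out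
  have hrk' : ∀ E : Subgroup R, (∀ a ∈ E, ∀ b ∈ E, a * b = b * a) → (∀ a ∈ E, a ^ p = 1) →
      Nat.card E ≤ p ^ 2 := fun E hEc hEe =>
    hrk E ⟨⟨fun a b => Subtype.ext (hEc a.1 a.2 b.1 b.2)⟩⟩ hEe
  obtain ⟨H, hHchar, h1, h2, h3⟩ := Cfsg.Agent.S0093.result hR
  have hHn : H.Normal := inferInstance
  have hcentH : ∀ z : ↥H, (z : R) ∈ Subgroup.centralizer (H : Set R) → z ∈ Subgroup.center ↥H := by
    intro z hz
    rw [Subgroup.mem_center_iff]
    intro g
    apply Subtype.ext
    exact (Subgroup.mem_centralizer_iff.mp hz) (g : R) g.2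
  have hHcomm : ∀ x y : ↥H, x * y * x⁻¹ * y⁻¹ ∈ Subgroup.center ↥H := by
    intro x y
    apply hcentH
    have h4 : ⁅(x : R), (y : R)⁆ ∈ ⁅H, (⊤ : Subgroup R)⁆ :=
      Subgroup.commutator_mem_commutator x.2 (Subgroup.mem_top _)
    have h5 := (h2 h4).2
    rw [commutatorElement_def] at h5
    simpa using h5
  have hHpow : ∀ x : ↥H, x ^ p ∈ Subgroup.center ↥H := by
    intro x
    apply hcentH
    apply h1
    exact Subgroup.mem_map_of_mem _
      (Cfsg.Agent.Lib.Helper1_Frattini.pow_mem_frattini_of_isPGroup (hR.to_subgroup H) x)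
  set N : Subgroup R := Subgroup.closure {x : R | x ∈ H ∧ x ^ p = 1} with hNdef
  have hNH : ∀ g ∈ N, g ∈ H ∧ g ^ p = 1 := by
    intro g hg
    induction hg using Subgroup.closure_induction with
    | mem x hx => exact hx
    | one => exact ⟨H.one_mem, one_pow p⟩
    | mul x y _ _ hx hy =>
      refine ⟨H.mul_mem hx.1 hy.1, ?_⟩
      have h4 := mul_pow_of_central hpP hp hHcomm hHpow ⟨x, hx.1⟩ ⟨y, hy.1⟩
      have h5 := congrArg Subtype.val h4
      simp only [Subgroup.coe_mul, Subgroup.coe_pow] at h5
      rw [h5, hx.2, hy.2, one_mul]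
    | inv x _ hx => exact ⟨H.inv_mem hx.1, by rw [inv_pow, hx.2, inv_one]⟩
  have hamem : ∀ b : MulAut R, ∀ g ∈ N, b g ∈ N := by
    intro b g hg
    have hb : H.map b.toMonoidHom = H := Subgroup.characteristic_iff_map_eq.mp hHchar b
    induction hg using Subgroup.closure_induction with
    | mem x hx =>
      apply Subgroup.subset_closure
      refine ⟨?_, ?_⟩
      · rw [← hb]
        exact Subgroup.mem_map_of_mem _ hx.1
      · rw [← map_pow, hx.2, map_one]
    | one => rw [map_one]; exact N.one_mem
    | mul x y _ _ hx hy => rw [map_mul]; exact N.mul_mem hx hy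
    | inv x _ hx => rw [map_inv]; exact N.inv_mem hx
  have hNchar : N.Characteristic := by
    rw [Subgroup.characteristic_iff_map_le]
    intro b
    rintro _ ⟨g, hg, rfl⟩
    exact hamem b g hg
  have hNn : N.Normal := inferInstance
  have hNexp : ∀ g ∈ N, g ^ p = 1 := fun g hg => (hNH g hg).2
  refine ⟨N, hNchar, hNexp, card_le_of_exp hp hR hrk' N hNexp, ?_⟩
  intro a ha hfix
  have hHmap : H.map a.toMonoidHom = H := Subgroup.characteristic_iff_map_eq.mp hHchar a
  apply Cfsg.Agent.S0121.result hR H hHchar h1 h2 h3 a ha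
  have haH : restrictAut a H hHmap = 1 := by
    apply omega_faithful hp (hR.to_subgroup H) hHcomm hHpow
    · exact Nat.Coprime.coprime_dvd_left (orderOf_restrictAut_dvd a H hHmap) ha
    · intro x hx
      apply Subtype.ext
      rw [restrictAut_apply]
      apply hfix x.1
      apply Subgroup.subset_closure
      refine ⟨x.2, ?_⟩
      have := congrArg Subtype.val hx
      simpa using this
  intro x hx
  have h4 : restrictAut a H hHmap ⟨x, hx⟩ = ⟨x, hx⟩ := by rw [haH]; rfl
  have h5 := congrArg Subtype.val h4
  rwa [restrictAut_apply] at h5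

end Omega

section Ker

variable {R : Type u} [Group R] [Finite R] {p : ℕ} [Fact p.Prime]

/-- the action on the Frattini quotient of a characteristic subgroup -/
noncomputable def frattiniQuotHom (N : Subgroup R) [N.Characteristic] :
    MulAut R →* MulAut (↥N ⧸ frattini ↥N) :=
  (Cfsg.Agent.Lib.Helper48_Generation.autQuot (frattini ↥N)).comp (MulAut.characteristic N)

theorem frattiniQuotHom_mk (N : Subgroup R) [N.Characteristic] (a : MulAut R) (x : ↥N) :
    frattiniQuotHom N a (x : ↥N ⧸ frattini ↥N) =
      ((MulAut.characteristic N a x : ↥N) : ↥N ⧸ frattini ↥N) := rfl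

/-- The automorphisms acting trivially on `N / Φ(N)` form a `p`-group, if the `p'`-automorphisms
act faithfully on `N`. -/
theorem isPGroup_ker (hR : IsPGroup p R) (N : Subgroup R) [N.Characteristic]
    (hfaith : ∀ a : MulAut R, (orderOf a).Coprime p → (∀ x ∈ N, a x = x) → a = 1) :
    IsPGroup p ↥(frattiniQuotHom N).ker := by
  have hpP : p.Prime := Fact.out
  have hn0 : Nat.card ↥(frattiniQuotHom N).ker ≠ 0 := Nat.card_pos.ne'
  have hall : ∀ {r : ℕ}, r.Prime → r ∣ Nat.card ↥(frattiniQuotHom N).ker → r = p := by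
    intro r hr hdvd
    by_contra hrp
    have : Fact r.Prime := ⟨hr⟩
    obtain ⟨b, hb⟩ := exists_prime_orderOf_dvd_card' r hdvd
    have hbo : orderOf (b : MulAut R) = r := by rw [Subgroup.orderOf_coe, hb]
    have hcop : (orderOf (b : MulAut R)).Coprime p := by
      rw [hbo]
      exact (Nat.coprime_primes hr hpP).mpr hrp
    have hb1 : (b : MulAut R) = 1 := by
      apply hfaith _ hcop
      -- the restriction to `N` is trivial modulo Frattini, hence of `p`-power order
      have hmem : MulAut.characteristic N (b : MulAut R) ∈ Cfsg.Agent.S4218.frattiniTrivial ↥N := by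
        rw [Cfsg.Agent.S4218.mem_frattiniTrivial]
        intro y
        have h1 : frattiniQuotHom N (b : MulAut R) (y : ↥N ⧸ frattini ↥N) = (y : ↥N ⧸ frattini ↥N) := by
          have := b.2
          rw [MonoidHom.mem_ker] at this
          rw [this]
          rfl
        rw [frattiniQuotHom_mk] at h1
        have h2 := QuotientGroup.eq.mp h1
        have h3 := inv_mem h2
        have : ((MulAut.characteristic N (b : MulAut R)) y)⁻¹ * y =
            (y⁻¹ * (MulAut.characteristic N (b : MulAut R)) y)⁻¹ := by group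
        have h4 : (((MulAut.characteristic N (b : MulAut R)) y)⁻¹ * y)⁻¹ ∈ frattini ↥N := by
          exact inv_mem h2
        have h5 : (((MulAut.characteristic N (b : MulAut R)) y)⁻¹ * y)⁻¹ =
            y⁻¹ * (MulAut.characteristic N (b : MulAut R)) y := by group
        rw [h5] at h4
        have hn : (frattini ↥N).Normal := inferInstance
        have h6 := hn.conj_mem _ h4 y
        have h7 : y * (y⁻¹ * (MulAut.characteristic N (b : MulAut R)) y) * y⁻¹ =
            (MulAut.characteristic N (b : MulAut R)) y * y⁻¹ := by group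
        rwa [h7] at h6
      have hPg := Cfsg.Agent.S4218.frattiniTrivial_isPGroup p (hR.to_subgroup N)
      obtain ⟨k, hk⟩ := hPg ⟨_, hmem⟩
      have hk' : (MulAut.characteristic N (b : MulAut R)) ^ p ^ k = 1 := by
        have := congrArg Subtype.val hk
        simpa using this
      have hr' : (MulAut.characteristic N (b : MulAut R)) ^ r = 1 := by
        rw [← map_pow, ← hbo, pow_orderOf_eq_one, map_one]
      have h1 : orderOf (MulAut.characteristic N (b : MulAut R)) ∣ Nat.gcd (p ^ k) r :=
        Nat.dvd_gcd (orderOf_dvd_of_pow_eq_one hk') (orderOf_dvd_of_pow_eq_one hr')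
      have h2 : Nat.gcd (p ^ k) r = 1 :=
        Nat.Coprime.pow_left k ((Nat.coprime_primes hpP hr).mpr (fun h => hrp h.symm))
      rw [h2, Nat.dvd_one, orderOf_eq_one_iff] at h1
      intro x hx
      have h3 : MulAut.characteristic N (b : MulAut R) ⟨x, hx⟩ = ⟨x, hx⟩ := by rw [h1]; rfl
      exact congrArg Subtype.val h3
    have : b = 1 := Subtype.ext hb1
    rw [this, orderOf_one] at hb
    exact hr.one_lt.ne hb
  exact IsPGroup.of_card (Nat.eq_prime_pow_of_unique_prime_dvd hn0 hall)

end Ker

section Matrix

variable {p : ℕ} [Fact p.Prime] {V : Type*} [Group V]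

/-- the additive map on coordinates induced by an automorphism -/
noncomputable def addOf (c : Multiplicative (Fin 2 → ZMod p) ≃* V) (α : MulAut V) :
    (Fin 2 → ZMod p) →+ (Fin 2 → ZMod p) where
  toFun x := Multiplicative.toAdd (c.symm (α (c (Multiplicative.ofAdd x))))
  map_zero' := by simp
  map_add' x y := by simp [ofAdd_add, map_mul, toAdd_mul]

theorem addOf_apply (c : Multiplicative (Fin 2 → ZMod p) ≃* V) (α : MulAut V) (x : Fin 2 → ZMod p) :
    addOf c α x = Multiplicative.toAdd (c.symm (α (c (Multiplicative.ofAdd x)))) := rfl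

/-- the matrix of an automorphism of a group with coordinates `(ZMod p)²` -/
noncomputable def matHom (c : Multiplicative (Fin 2 → ZMod p) ≃* V) :
    MulAut V →* Matrix (Fin 2) (Fin 2) (ZMod p) where
  toFun α := LinearMap.toMatrix' (AddMonoidHom.toZModLinearMap p (addOf c α))
  map_one' := by
    have : AddMonoidHom.toZModLinearMap p (addOf c (1 : MulAut V)) = LinearMap.id := by
      ext x i
      simp [addOf_apply]
    rw [this, LinearMap.toMatrix'_id]
  map_mul' α β := by
    have : AddMonoidHom.toZModLinearMap p (addOf c (α * β)) =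
        (AddMonoidHom.toZModLinearMap p (addOf c α)).comp
          (AddMonoidHom.toZModLinearMap p (addOf c β)) := by
      ext x i
      simp [addOf_apply]
    rw [this, LinearMap.toMatrix'_comp]

theorem matHom_injective (c : Multiplicative (Fin 2 → ZMod p) ≃* V) :
    Function.Injective (matHom c) := by
  intro α β h
  have h1 : AddMonoidHom.toZModLinearMap p (addOf c α) =
      AddMonoidHom.toZModLinearMap p (addOf c β) := LinearMap.toMatrix'.injective h
  ext v
  obtain ⟨x, rfl⟩ := c.surjective v
  have h2 := congrArg (fun f => f (Multiplicative.toAdd x)) h1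
  simp only [AddMonoidHom.coe_toZModLinearMap, addOf_apply, ofAdd_toAdd] at h2
  exact c.symm.injective (Multiplicative.toAdd.injective h2)

end Matrix

section OddMatrix

variable {F : Type*} [Field F] (p : ℕ) [Fact p.Prime] [CharP F p]

/-- a homomorphism into a group whose elements commute kills the commutator subgroup -/
theorem commutator_le_ker_of_comm {X A : Type*} [Group X] [Group A] (f : X →* A)
    (hA : ∀ a b : A, a * b = b * a) : commutator X ≤ f.ker := by
  rw [commutator_def, Subgroup.commutator_le]
  intro a _ b _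
  rw [MonoidHom.mem_ker, map_commutatorElement, commutatorElement_eq_one_iff_mul_comm]
  exact hA _ _

/-- The derived subgroup of a finite group of odd order of `2 × 2` matrices in odd characteristic
`p` is a `p`-group. -/
theorem isPGroup_commutator_of_odd_matrix (hp : p ≠ 2) {K : Type*} [Group K] [Finite K]
    (μ : K →* Matrix (Fin 2) (Fin 2) F) (hμ : Function.Injective μ) (hodd : Odd (Nat.card K)) :
    IsPGroup p ↥(commutator K) := by
  have hpP : p.Prime := Fact.out
  have hn0 : Nat.card ↥(commutator K) ≠ 0 := Nat.card_pos.ne'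
  have hall : ∀ {r : ℕ}, r.Prime → r ∣ Nat.card ↥(commutator K) → r = p := by
    intro r hr hdvd
    by_contra hrp
    have : Fact r.Prime := ⟨hr⟩
    let R : Sylow r K := default
    have hNC := Cfsg.Agent.Lib.Helper46_GL2Odd.normalizer_le_centralizer μ p hp hμ hodd r hrp R
    have hcompl := MonoidHom.ker_transferSylow_isComplement' R hNC
    have hRodd : Odd (Nat.card ↥(R : Subgroup K)) :=
      hodd.of_dvd_nat (Subgroup.card_subgroup_dvd_card _)
    have hRcomm : ∀ x y : ↥(R : Subgroup K), x * y = y * x :=
      Cfsg.Agent.Lib.Helper46_GL2Odd.comm_of_isPGroup (μ.comp (R : Subgroup K).subtype) p hp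
        (hμ.comp (R : Subgroup K).subtype_injective) hRodd r R.isPGroup'
    have hle : commutator K ≤ (MonoidHom.transferSylow R hNC).ker :=
      commutator_le_ker_of_comm _ hRcomm
    have h1 : r ∣ Nat.card ↥(MonoidHom.transferSylow R hNC).ker :=
      hdvd.trans (Subgroup.card_dvd_of_le hle)
    have h2 : (R : Subgroup K).index = Nat.card ↥(MonoidHom.transferSylow R hNC).ker :=
      hcompl.index_eq_card
    have h3 : r ∣ Nat.card K := h1.trans (Subgroup.card_subgroup_dvd_card _)
    have h4 : r ∣ Nat.card ↥(R : Subgroup K) := R.dvd_card_of_dvd_card h3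
    have h5 := R.card_coprime_index
    rw [h2] at h5
    exact hr.one_lt.ne' (Nat.eq_one_of_dvd_coprimes h5 h4 h1)
  exact IsPGroup.of_card (Nat.eq_prime_pow_of_unique_prime_dvd hn0 hall)

end OddMatrix

section Main

variable {R : Type u} [Group R] [Finite R] {p : ℕ} [Fact p.Prime]

/-- the Frattini quotient of a subgroup of exponent `p` and small rank has order at most `p²` -/
theorem card_frattini_quot_le (hR : IsPGroup p R) (hrk : Cfsg.PRankLE p 2 R) (N : Subgroup R)
    (hNexp : ∀ g ∈ N, g ^ p = 1) (hNcard : Nat.card N ≤ p ^ 3) :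
    Nat.card (↥N ⧸ frattini ↥N) ≤ p ^ 2 := by
  have hpP : p.Prime := Fact.out
  have hNp : IsPGroup p ↥N := hR.to_subgroup N
  obtain ⟨i, hi⟩ := IsPGroup.iff_card.mp hNp
  obtain ⟨e, he⟩ := IsPGroup.iff_card.mp (hNp.to_subgroup (frattini ↥N))
  obtain ⟨j, hj⟩ := IsPGroup.iff_card.mp (hNp.to_quotient (frattini ↥N))
  have hmul := Subgroup.card_eq_card_quotient_mul_card_subgroup (frattini ↥N)
  rw [hi, hj, he, ← pow_add] at hmul
  have hije : i = j + e := Nat.pow_right_injective hpP.two_le hmul
  have hi3 : i ≤ 3 := by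
    rw [hi] at hNcard
    exact (Nat.pow_le_pow_iff_right hpP.one_lt).mp hNcard
  rw [hj]
  apply Nat.pow_le_pow_right hpP.pos
  by_contra hj2
  have hj3 : j = 3 := by omega
  have he0 : e = 0 := by omega
  have hbot : frattini ↥N = ⊥ := by
    apply Subgroup.card_eq_one.mp
    rw [he, he0, pow_zero]
  have hcomm : commutator ↥N = ⊥ := by
    have := Cfsg.Agent.Lib.Helper1_Frattini.commutator_le_frattini_of_isPGroup hNp
    rw [hbot] at this
    exact le_bot_iff.mp this
  have hNab : IsMulCommutative ↥N := by
    constructor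
    constructor
    intro x y
    have h1 : ⁅x, y⁆ ∈ commutator ↥N := Subgroup.commutator_mem_commutator (Subgroup.mem_top x)
      (Subgroup.mem_top y)
    rw [hcomm, Subgroup.mem_bot, commutatorElement_eq_one_iff_mul_comm] at h1
    exact h1
  have := hrk N hNab hNexp
  rw [hi, hije, hj3, he0] at this
  have h2 : p ^ 2 < p ^ (3 + 0) := Nat.pow_lt_pow_right hpP.one_lt (by norm_num)
  omega

/-- **Main theorem**: for `p` odd and a `p`-group `R` whose elementary abelian subgroups have order at
most `p²`, a group of automorphisms of `R` of odd order has a derived subgroup which is a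
`p`-group. -/
theorem isPGroup_commutator_of_odd (hp : p ≠ 2) (hR : IsPGroup p R) (hrk : Cfsg.PRankLE p 2 R)
    (𝔄 : Subgroup (MulAut R)) (hodd : Odd (Nat.card 𝔄)) : IsPGroup p ↥⁅𝔄, 𝔄⁆ := by
  have hpP : p.Prime := Fact.out
  obtain ⟨N, hNchar, hNexp, hNcard, hfaith⟩ := exists_omega_critical hp hR hrk
  haveI := hNchar
  have hker := isPGroup_ker hR N hfaith
  have hNp : IsPGroup p ↥N := hR.to_subgroup N
  -- the Frattini quotient
  have hVcard := card_frattini_quot_le hR hrk N hNexp hNcard
  have hVcomm : ∀ x y : ↥N ⧸ frattini ↥N, x * y = y * x := by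
    intro x y
    induction x using QuotientGroup.induction_on with
    | H x =>
    induction y using QuotientGroup.induction_on with
    | H y =>
    rw [← QuotientGroup.mk_mul, ← QuotientGroup.mk_mul, QuotientGroup.eq]
    apply Cfsg.Agent.Lib.Helper1_Frattini.commutator_le_frattini_of_isPGroup hNp
    have h1 : ⁅y⁻¹, x⁻¹⁆ ∈ commutator ↥N := Subgroup.commutator_mem_commutator (Subgroup.mem_top _)
      (Subgroup.mem_top _)
    have h2 : (x * y)⁻¹ * (y * x) = ⁅y⁻¹, x⁻¹⁆ := by rw [commutatorElement_def]; group
    rw [h2]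
    exact h1
  have hVexp : ∀ v : ↥N ⧸ frattini ↥N, v ^ p = 1 := by
    intro v
    induction v using QuotientGroup.induction_on with
    | H x =>
    rw [← QuotientGroup.mk_pow]
    have : x ^ p = 1 := Subtype.ext (by simpa using hNexp x.1 x.2)
    rw [this]
    rfl
  have hoddK : Odd (Nat.card ↥(𝔄.map (frattiniQuotHom N))) :=
    hodd.of_dvd_nat (Subgroup.card_map_dvd _ _)
  have key : IsPGroup p ↥(⁅𝔄.map (frattiniQuotHom N), 𝔄.map (frattiniQuotHom N)⁆) := by
    by_cases hcard : Nat.card (↥N ⧸ frattini ↥N) = p ^ 2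
    · letI : CommGroup (↥N ⧸ frattini ↥N) := { (inferInstance : Group (↥N ⧸ frattini ↥N)) with mul_comm := hVcomm }
      have hnt : Nontrivial (↥N ⧸ frattini ↥N) := by
        rw [← Finite.one_lt_card_iff_nontrivial, hcard]
        exact Nat.one_lt_pow (by norm_num) hpP.one_lt
      obtain ⟨e1, he1⟩ := exists_ne (1 : ↥N ⧸ frattini ↥N)
      have hz : Nat.card ↥(Subgroup.zpowers e1) = p := by
        rw [Nat.card_zpowers]
        rcases (Nat.dvd_prime hpP).mp (orderOf_dvd_of_pow_eq_one (hVexp e1)) with h | h
        · exact absurd (orderOf_eq_one_iff.mp h) he1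
        · exact h
      have hne_top : Subgroup.zpowers e1 ≠ ⊤ := by
        intro h
        have h1 : Nat.card ↥(Subgroup.zpowers e1) = Nat.card (↥N ⧸ frattini ↥N) := by
          rw [h, Subgroup.card_top]
        rw [hz, hcard] at h1
        have : p < p ^ 2 := by
          calc p = p ^ 1 := (pow_one p).symm
            _ < p ^ 2 := Nat.pow_lt_pow_right hpP.one_lt (by norm_num)
        omega
      obtain ⟨e2, he2⟩ : ∃ e2, e2 ∉ Subgroup.zpowers e1 := by
        by_contra hcon
        push Not at hcon
        exact hne_top (Subgroup.eq_top_iff' _ |>.mpr hcon)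
      let c := Cfsg.Agent.S5185.coordEquiv hcard e1 e2 (hVexp e1) (hVexp e2) he1 he2
      have h1 := isPGroup_commutator_of_odd_matrix (F := ZMod p) p hp
        ((matHom c).comp (𝔄.map (frattiniQuotHom N)).subtype)
        ((matHom_injective c).comp (Subgroup.subtype_injective _)) hoddK
      rw [← Subgroup.map_subtype_commutator]
      exact h1.map _
    · have hcyc : IsCyclic (↥N ⧸ frattini ↥N) := by
        obtain ⟨j, hj⟩ := IsPGroup.iff_card.mp (hNp.to_quotient (frattini ↥N))
        have hj2 : j ≤ 2 := by
          rw [hj] at hVcard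
          exact (Nat.pow_le_pow_iff_right hpP.one_lt).mp hVcard
        have hj' : j ≠ 2 := fun h => hcard (by rw [hj, h])
        have hj1 : j = 0 ∨ j = 1 := by omega
        rcases hj1 with h | h
        · rw [h, pow_zero] at hj
          have : Subsingleton (↥N ⧸ frattini ↥N) := (Nat.card_eq_one_iff_unique.mp hj).1
          exact isCyclic_of_subsingleton
        · rw [h, pow_one] at hj
          exact isCyclic_of_prime_card hj
      have hbot : ⁅𝔄.map (frattiniQuotHom N), 𝔄.map (frattiniQuotHom N)⁆ = ⊥ := by
        rw [Subgroup.commutator_eq_bot_iff_le_centralizer]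
        intro x _
        rw [Subgroup.mem_centralizer_iff]
        intro y _
        have e := hcyc.mulAutMulEquiv (↥N ⧸ frattini ↥N)
        apply e.injective
        rw [map_mul, map_mul, mul_comm]
      rw [hbot]
      exact IsPGroup.of_bot
  intro x
  have hx : frattiniQuotHom N (x : MulAut R) ∈
      ⁅𝔄.map (frattiniQuotHom N), 𝔄.map (frattiniQuotHom N)⁆ := by
    rw [← Subgroup.map_commutator]
    exact Subgroup.mem_map_of_mem _ x.2
  obtain ⟨j, hj⟩ := key ⟨_, hx⟩
  have hj' : frattiniQuotHom N ((x : MulAut R) ^ p ^ j) = 1 := by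
    have := congrArg Subtype.val hj
    rw [map_pow]
    simpa using this
  obtain ⟨i, hi⟩ := hker ⟨_, MonoidHom.mem_ker.mpr hj'⟩
  have hi' : ((x : MulAut R) ^ p ^ j) ^ p ^ i = 1 := by
    have := congrArg Subtype.val hi
    simpa using this
  refine ⟨j + i, ?_⟩
  apply Subtype.ext
  rw [Subgroup.coe_pow, pow_add, pow_mul, hi']
  rfl

end Main

end Cfsg.Agent.Lib.Helper2_RankTwoAut
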