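import Cfsg.Agent.Lib.Helper49_Alpha2

/-!
# Primes outside `σ(M)` (helper49)

Bender–Glauberman, Lemma 10.4 and the first parts of Theorems 10.5–10.6, in a minimal simple group of odd order,
with the Uniqueness Theorem as an explicit hypothesis `UniqHyp G`.
-/

set_option autoImplicit false

namespace Cfsg.Agent.Lib.Helper49_Alpha3

open Subgroup Cfsg Cfsg.Agent.Lib.Helper49_Sigma Cfsg.Agent.Lib.Helper22_BGTrans
  Cfsg.Agent.Lib.Helper22_Radical Cfsg.Agent.Lib.Helper84_RelSylow Cfsg.Agent.Lib.Helper22_Uniq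
  Cfsg.Agent.Lib.Helper49_Alpha Cfsg.Agent.Lib.Helper49_Alpha2

variable {G : Type*} [Group G] [Finite G] {p : ℕ} [Fact p.Prime]

omit [Finite G] [Fact p.Prime] in
theorem comm_of_isElementaryAbelian {A : Subgroup G} (h : IsElementaryAbelian p A) :
    ∀ a ∈ A, ∀ b ∈ A, a * b = b * a := by
  intro a ha b hb
  have := isMulCommutative_iff.mp h.1 ⟨a, ha⟩ ⟨b, hb⟩
  exact congrArg Subtype.val this

omit [Finite G] [Fact p.Prime] in
theorem isElementaryAbelian_of {A : Subgroup G} (hAc : ∀ a ∈ A, ∀ b ∈ A, a * b = b * a)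
    (hAe : ∀ a ∈ A, a ^ p = 1) : IsElementaryAbelian p A :=
  ⟨⟨⟨fun a b => Subtype.ext (hAc a.1 a.2 b.1 b.2)⟩⟩, hAe⟩

omit [Finite G] in
/-- a maximal subgroup is its own normalizer -/
theorem normalizer_coatom (hG : IsMinSimpleOddOrder G) {M : Subgroup G} (hM : IsCoatom M) (hM1 : M ≠ ⊥) :
    normalizer (M : Set G) = M := by
  by_contra hne
  have hlt : M < normalizer (M : Set G) := lt_of_le_of_ne le_normalizer (Ne.symm hne)
  exact normalizer_ne_top hG hM1 hM.1 (hM.2 _ hlt)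

/-- if the normalizer of a Sylow subgroup of `M` lies in `M` then `p ∈ σ(M)` -/
theorem mem_sigma_of_normalizer_le {M PG : Subgroup G} (hS : IsSylowIn p PG M) (hPG1 : PG ≠ ⊥)
    (hN : normalizer (PG : Set G) ≤ M) : p ∈ sigma M := by
  have hpp : p.Prime := Fact.out
  refine ⟨hpp, ?_, hS.toSylow, ?_⟩
  · obtain ⟨k, hk⟩ := IsPGroup.iff_card.mp hS.isPGroup
    have hk0 : k ≠ 0 := by
      rintro rfl
      rw [pow_zero] at hk
      exact hPG1 ((Subgroup.card_eq_one).mp hk)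
    have h1 : p ∣ Nat.card ↥PG := by rw [hk]; exact dvd_pow_self p hk0
    exact h1.trans (Subgroup.card_dvd_of_le hS.le)
  · rw [hS.coe_toSylow, Subgroup.map_subgroupOf_eq_of_le hS.le]
    exact hN

/-- central elements of order `p` exist in nontrivial `p`-subgroups -/
theorem exists_central_of_ne_bot {PG : Subgroup G} (hPGp : IsPGroup p ↥PG) (hPG1 : PG ≠ ⊥) :
    ∃ z ∈ PG, (∀ y ∈ PG, y * z = z * y) ∧ orderOf z = p := by
  have : Nontrivial ↥PG := (Subgroup.nontrivial_iff_ne_bot PG).mpr hPG1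
  have hnt : Nontrivial ↥(center ↥PG) := hPGp.center_nontrivial
  have hcp : IsPGroup p ↥(center ↥PG) := hPGp.to_subgroup _
  have hdvd : p ∣ Nat.card ↥(center ↥PG) := by
    obtain ⟨k, hk⟩ := IsPGroup.iff_card.mp hcp
    have hk0 : k ≠ 0 := by
      rintro rfl
      rw [pow_zero] at hk
      have := (Nat.card_eq_one_iff_unique.mp hk).1
      exact not_subsingleton _ this
    rw [hk]
    exact dvd_pow_self p hk0
  obtain ⟨c, hc⟩ := exists_prime_orderOf_dvd_card' p hdvd
  refine ⟨((c : ↥PG) : G), (c : ↥PG).2, ?_, ?_⟩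
  · intro y hy
    have := Subgroup.mem_center_iff.mp c.2 ⟨y, hy⟩
    exact congrArg Subtype.val this
  · rw [Subgroup.orderOf_coe, Subgroup.orderOf_coe, hc]

omit [Finite G] in
/-- a subgroup of prime order is generated by each of its nontrivial elements -/
theorem zpowers_eq_of_card_prime {X : Subgroup G} (hX : Nat.card ↥X = p) {x : G} (hx : x ∈ X) (hx1 : x ≠ 1) :
    zpowers x = X := by
  have hpp : p.Prime := Fact.out
  have : Finite ↥X := Nat.finite_of_card_ne_zero (by rw [hX]; exact hpp.ne_zero)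
  apply Subgroup.eq_of_le_of_card_ge (zpowers_le.mpr hx)
  rw [hX, Nat.card_zpowers]
  have h1 : orderOf x ∣ p := by
    have := orderOf_dvd_natCard (⟨x, hx⟩ : ↥X)
    rwa [Subgroup.orderOf_mk, hX] at this
  rcases (Nat.dvd_prime hpp).mp h1 with h | h
  · exact absurd (orderOf_eq_one_iff.mp h) hx1
  · exact h.ge

omit [Finite G] [Fact p.Prime] in
theorem pow_eq_one_of_card_prime {X : Subgroup G} (hX : Nat.card ↥X = p) {x : G} (hx : x ∈ X) : x ^ p = 1 := by
  have := orderOf_dvd_natCard (⟨x, hx⟩ : ↥X)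
  rw [Subgroup.orderOf_mk, hX] at this
  exact orderOf_dvd_iff_pow_eq_one.mp this

/-- if all central elements of order `p` of `PG` lie in the subgroup `X` of order `p`, then `N_G(PG)`
normalizes `X` -/
theorem normalizer_le_normalizer_of_central {PG X : Subgroup G} (hPGp : IsPGroup p ↥PG) (hXP : X ≤ PG)
    (hX : Nat.card ↥X = p) (hall : ∀ z ∈ PG, (∀ y ∈ PG, y * z = z * y) → z ^ p = 1 → z ∈ X) :
    normalizer (PG : Set G) ≤ normalizer (X : Set G) := by
  have hpp : p.Prime := Fact.out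
  have hX1 : X ≠ ⊥ := by
    rintro rfl
    rw [Subgroup.card_bot] at hX
    exact hpp.one_lt.ne hX
  have hPG1 : PG ≠ ⊥ := fun h => hX1 (le_bot_iff.mp (h ▸ hXP))
  obtain ⟨z₀, hz₀P, hz₀c, hz₀o⟩ := exists_central_of_ne_bot hPGp hPG1
  have hz₀p : z₀ ^ p = 1 := by rw [← hz₀o]; exact pow_orderOf_eq_one z₀
  have hz₀1 : z₀ ≠ 1 := by
    intro h
    rw [h, orderOf_one] at hz₀o
    exact hpp.one_lt.ne hz₀o
  have hz₀X : z₀ ∈ X := hall z₀ hz₀P hz₀c hz₀p
  have hXz : zpowers z₀ = X := zpowers_eq_of_card_prime hX hz₀X hz₀1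
  intro g hg
  apply Cfsg.Agent.Lib.Helper22_BGTransUp.mem_normalizer_of_cj_eq
  apply Subgroup.eq_of_le_of_card_ge
  · rw [← hXz]
    show (zpowers z₀).map (MulAut.conj g).toMonoidHom ≤ zpowers z₀
    rw [MonoidHom.map_zpowers, zpowers_le, hXz]
    have hgz : (MulAut.conj g).toMonoidHom z₀ = g * z₀ * g⁻¹ := rfl
    rw [hgz]
    have hmem : ∀ y, y ∈ PG → g * y * g⁻¹ ∈ PG := fun y hy => (mem_normalizer_iff.mp hg y).mp hy
    have hmem' : ∀ y, y ∈ PG → g⁻¹ * y * g ∈ PG := fun y hy => by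
      have := (mem_normalizer_iff.mp (inv_mem hg) y).mp hy
      rwa [inv_inv] at this
    apply hall _ (hmem z₀ hz₀P)
    · intro y hy
      have h1 := hz₀c _ (hmem' y hy)
      calc y * (g * z₀ * g⁻¹) = g * ((g⁻¹ * y * g) * z₀) * g⁻¹ := by group
        _ = g * (z₀ * (g⁻¹ * y * g)) * g⁻¹ := by rw [h1]
        _ = g * z₀ * g⁻¹ * y := by group
    · rw [conj_pow, hz₀p]; group
  · rw [card_cj]

section Lemma104

/-- `C_G(x) ≤ M` and `M` is the only maximal subgroup containing `C_G(x)` -/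
def OnlyMax (M : Subgroup G) (x : G) : Prop :=
  centralizer ({x} : Set G) ≤ M ∧ ∀ L : Subgroup G, IsCoatom L → centralizer ({x} : Set G) ≤ L → L = M

omit [Finite G] [Fact p.Prime] in
/-- if `C_G(x)` lies only in `M` for the central elements `x` of order `p` of `PG`, then `N_G(PG) ≤ M` -/
theorem normalizer_le_of_onlyMax (hG : IsMinSimpleOddOrder G) {M PG : Subgroup G} (hM : IsCoatom M)
    (hM1 : M ≠ ⊥) {x₀ : G} (hx₀P : x₀ ∈ PG) (hx₀c : ∀ y ∈ PG, y * x₀ = x₀ * y) (hx₀o : orderOf x₀ = p)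
    (hall : ∀ x ∈ PG, (∀ y ∈ PG, y * x = x * y) → orderOf x = p → OnlyMax M x) :
    normalizer (PG : Set G) ≤ M := by
  intro g hg
  have hmem : ∀ y, y ∈ PG → g * y * g⁻¹ ∈ PG := fun y hy => (mem_normalizer_iff.mp hg y).mp hy
  have hmem' : ∀ y, y ∈ PG → g⁻¹ * y * g ∈ PG := fun y hy => by
    have := (mem_normalizer_iff.mp (inv_mem hg) y).mp hy
    rwa [inv_inv] at this
  have h0 := hall x₀ hx₀P hx₀c hx₀o
  have h1 : OnlyMax M (g * x₀ * g⁻¹) := by
    apply hall _ (hmem x₀ hx₀P)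
    · intro y hy
      have h1 := hx₀c _ (hmem' y hy)
      calc y * (g * x₀ * g⁻¹) = g * ((g⁻¹ * y * g) * x₀) * g⁻¹ := by group
        _ = g * (x₀ * (g⁻¹ * y * g)) * g⁻¹ := by rw [h1]
        _ = g * x₀ * g⁻¹ * y := by group
    · have : g * x₀ * g⁻¹ = MulAut.conj g x₀ := rfl
      rw [this, MulEquiv.orderOf_eq, hx₀o]
  have h2 : centralizer ({g * x₀ * g⁻¹} : Set G) ≤ cj g M := by
    intro c hc
    rw [mem_cj]
    apply h0.1
    rw [Subgroup.mem_centralizer_iff]
    intro y hy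
    rw [Set.mem_singleton_iff] at hy
    rw [hy]
    have := Subgroup.mem_centralizer_iff.mp hc (g * x₀ * g⁻¹) rfl
    calc x₀ * (g⁻¹ * c * g) = g⁻¹ * ((g * x₀ * g⁻¹) * c) * g := by group
      _ = g⁻¹ * (c * (g * x₀ * g⁻¹)) * g := by rw [this]
      _ = g⁻¹ * c * g * x₀ := by group
  have h3 : cj g M = M := h1.2 _ (isCoatom_cj hM g) h2
  have h4 := Cfsg.Agent.Lib.Helper22_BGTransUp.mem_normalizer_of_cj_eq h3
  rwa [normalizer_coatom hG hM hM1] at h4

end Lemma104

section Theorem105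

/-- in a maximal subgroup of `p`-rank two, the elementary abelian subgroups of order `p ^ 2` are maximal
elementary abelian subgroups of `G` -/
theorem maximal_of_rank_two (hG : IsMinSimpleOddOrder G) (hU : UniqHyp G) {M : Subgroup G} (hM : IsCoatom M)
    (hr2 : PRankLE p 2 ↥M) {A : Subgroup G} (hAM : A ≤ M) (hAea : IsElementaryAbelian p A)
    (hA2 : Nat.card ↥A = p ^ 2) {B : Subgroup G} (hBea : IsElementaryAbelian p B) (hAB : A ≤ B) : B = A := by
  have hpp : p.Prime := Fact.out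
  have hpp2 : p < p ^ 2 := by nlinarith [hpp.one_lt]
  by_contra hne
  have hAc := comm_of_isElementaryAbelian hAea
  have hBc := comm_of_isElementaryAbelian hBea
  have hcard : Nat.card ↥A < Nat.card ↥B := by
    apply card_lt_card_of_lt hAB
    exact fun h => hne (le_antisymm h hAB)
  have hBcent : B ≤ centralizer (A : Set G) := by
    intro b hb
    rw [Subgroup.mem_centralizer_iff]
    intro a ha
    exact hBc a (hAB ha) b hb
  have hAU : InUniqueMaximal A := by
    apply hU A (ne_top_of_isPGroup hG hpp (isPGroup_of_exp hAea.2))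
    · apply not_rankLE_of_elemAb hpp (E := A) le_rfl hAc hAea.2
      rw [pow_one]; omega
    · right
      exact not_rankLE_of_elemAb hpp hBcent hBc hBea.2 (by omega)
  obtain ⟨M₀, -, huniq⟩ := hAU
  have hBtop : B ≠ ⊤ := ne_top_of_isPGroup hG hpp (isPGroup_of_exp hBea.2)
  obtain ⟨L, hL, hBL⟩ := (eq_top_or_exists_le_coatom B).resolve_left hBtop
  have e1 := huniq L ⟨hL, hAB.trans hBL⟩
  have e2 := huniq M ⟨hM, hAM⟩
  have hBM : B ≤ M := by rw [e2, ← e1]; exact hBL
  exact not_pRankLE_of_elemAb hBM hBc hBea.2 (by omega) hr2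

/-- an elementary abelian subgroup of order exactly `p ^ 2` in a subgroup of `p`-rank two -/
theorem exists_elemAb_sq {M : Subgroup G} (hr2 : PRankLE p 2 ↥M) (hr1 : ¬ PRankLE p 1 ↥M) :
    ∃ A : Subgroup G, A ≤ M ∧ IsElementaryAbelian p A ∧ Nat.card ↥A = p ^ 2 := by
  obtain ⟨A, hAM, hAc, hAe, hA1⟩ := exists_elemAb_of_not_pRankLE hr1
  rw [pow_one] at hA1
  refine ⟨A, hAM, isElementaryAbelian_of hAc hAe, le_antisymm ?_ (sq_le_card_of_lt (isPGroup_of_exp hAe) hA1)⟩
  by_contra hlt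
  exact not_pRankLE_of_elemAb hAM hAc hAe (by omega) hr2

/-- **Bender–Glauberman, Theorem 10.5, first part** (with the Uniqueness Theorem as a hypothesis). -/
theorem rank_two_statement (hG : IsMinSimpleOddOrder G) (hU : UniqHyp G) (M : Subgroup G) (hM : IsCoatom M)
    (hr2 : PRankLE p 2 ↥M) (hr1 : ¬ PRankLE p 1 ↥M) :
    ¬ IsIdealPrime p G ∧ ∀ A : Subgroup G, A ≤ M → IsElementaryAbelian p A → Nat.card ↥A = p ^ 2 →
        ∀ B : Subgroup G, IsElementaryAbelian p B → A ≤ B → B = A := by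
  refine ⟨?_, fun A hAM hAea hA2 B hBea hAB => maximal_of_rank_two hG hU hM hr2 hAM hAea hA2 hBea hAB⟩
  rintro ⟨-, -, hall⟩
  obtain ⟨A, hAM, hAea, hA2⟩ := exists_elemAb_sq hr2 hr1
  obtain ⟨S, hAS⟩ := (isPGroup_of_exp hAea.2).exists_le_sylow
  obtain ⟨B, -, hBea, hAB⟩ := hall S A hAS hAea hA2
  exact hAB.ne (maximal_of_rank_two hG hU hM hr2 hAM hAea hA2 hBea hAB.le).symm

end Theorem105

section Statements

omit [Fact p.Prime] in
/-- a subgroup of `G` which is not a `Z`-group has rank at least two -/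
theorem not_rankLE_one_of_not_isZGroup (hG : IsMinSimpleOddOrder G) {H : Subgroup G} (hZ : ¬ IsZGroup ↥H) :
    ¬ RankLE 1 ↥H := by
  rw [isZGroup_iff] at hZ
  push Not at hZ
  obtain ⟨q, hq, Q, hQ⟩ := hZ
  have : Fact q.Prime := ⟨hq⟩
  set QG : Subgroup G := (Q : Subgroup ↥H).map H.subtype with hQG
  have hQGH : QG ≤ H := Subgroup.map_subtype_le _
  have hQGq : IsPGroup q ↥QG := Q.isPGroup'.map _
  have hnc : ¬ IsCyclic ↥QG := by
    intro hc
    apply hQ
    have e : ↥(Q : Subgroup ↥H) ≃* ↥QG := Subgroup.equivMapOfInjective _ _ H.subtype_injective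
    exact isCyclic_of_surjective e.symm e.symm.surjective
  have hQG1 : QG ≠ ⊥ := by
    intro h
    apply hnc
    rw [h]
    infer_instance
  have hq2 : q ≠ 2 := two_ne_of_dvd_card hG (dvd_card_of_ne_bot hQGq hQG1)
  have h1 := not_rankLE_one_of_not_isCyclic hq2 hQGq hnc
  intro hH
  apply h1
  intro r hr
  exact Cfsg.Agent.Lib.Helper2_PRank.pRankLE_of_injective' r 1 (Subgroup.inclusion hQGH)
    (Subgroup.inclusion_injective hQGH) (hH r hr)

omit [Fact p.Prime] in
/-- from `C_M(x) ∈ 𝒰` to `C_G(x)` lying only in `M` -/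
theorem onlyMax_of_inUniqueMaximal (hG : IsMinSimpleOddOrder G) {M : Subgroup G} (hM : IsCoatom M) {x : G}
    (hx1 : x ≠ 1) (h : InUniqueMaximal (M ⊓ centralizer ({x} : Set G))) : OnlyMax M x := by
  obtain ⟨M₀, -, huniq⟩ := h
  have e2 := huniq M ⟨hM, inf_le_left⟩
  have hCtop : centralizer ({x} : Set G) ≠ ⊤ := by
    intro htop
    apply hx1
    have hZ : center G = ⊥ := Cfsg.Agent.Lib.Helper22_BGTransUp.center_eq_bot hG
    have : x ∈ center G := by
      rw [Subgroup.mem_center_iff]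
      intro g
      have hg : g ∈ centralizer ({x} : Set G) := htop ▸ Subgroup.mem_top g
      exact (Subgroup.mem_centralizer_iff.mp hg x rfl).symm
    rw [hZ, Subgroup.mem_bot] at this
    exact this
  have key : ∀ L : Subgroup G, IsCoatom L → centralizer ({x} : Set G) ≤ L → L = M := by
    intro L hL hCL
    rw [e2]
    exact huniq L ⟨hL, inf_le_right.trans hCL⟩
  obtain ⟨L, hL, hCL⟩ := (eq_top_or_exists_le_coatom _).resolve_left hCtop
  refine ⟨?_, key⟩
  rw [← key L hL hCL]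
  exact hCL

/-- **Bender–Glauberman, Lemma 10.4** (with the Uniqueness Theorem as a hypothesis). -/
theorem lemma104_statement (hG : IsMinSimpleOddOrder G) (hU : UniqHyp G) (M : Subgroup G) (hM : IsCoatom M)
    (hpM : p ∣ Nat.card ↥M) (hp : p ∉ sigma M) (P : Sylow p ↥M) :
    ∃ x : G, x ∈ ((Subgroup.center ↥(P : Subgroup ↥M)).map (P : Subgroup ↥M).subtype).map M.subtype ∧
        orderOf x = p ∧ IsZGroup ↥(alphaCore M ⊓ Subgroup.centralizer ({x} : Set G)) ∧
        ¬ (Subgroup.centralizer ({x} : Set G) ≤ M ∧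
          ∀ L : Subgroup G, IsCoatom L → Subgroup.centralizer ({x} : Set G) ≤ L → L = M) := by
  have hpp : p.Prime := Fact.out
  set PG : Subgroup G := (P : Subgroup ↥M).map M.subtype with hPG
  have hS : IsSylowIn p PG M := isSylowIn_of_sylow P
  have hPG1 : PG ≠ ⊥ := by
    intro h
    rw [hPG, Subgroup.map_eq_bot_iff_of_injective _ M.subtype_injective] at h
    exact P.ne_bot_of_dvd_card hpM h
  have hM1 : M ≠ ⊥ := fun h => hPG1 (le_bot_iff.mp (h ▸ hS.le))
  have mem_ZG : ∀ x : G, x ∈ PG → (∀ y ∈ PG, y * x = x * y) →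
      x ∈ ((Subgroup.center ↥(P : Subgroup ↥M)).map (P : Subgroup ↥M).subtype).map M.subtype := by
    rintro _ ⟨x', hx'P, rfl⟩ hc
    refine ⟨x', ⟨⟨x', hx'P⟩, ?_, rfl⟩, rfl⟩
    rw [SetLike.mem_coe, Subgroup.mem_center_iff]
    intro y
    apply Subtype.ext
    apply Subtype.ext
    exact hc ((y : ↥M) : G) ⟨(y : ↥M), y.2, rfl⟩
  by_contra hcon
  push Not at hcon
  obtain ⟨x₀, hx₀P, hx₀c, hx₀o⟩ := exists_central_of_ne_bot hS.isPGroup hPG1
  have hall : ∀ x ∈ PG, (∀ y ∈ PG, y * x = x * y) → orderOf x = p → OnlyMax M x := by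
    intro x hxP hxc hxo
    by_cases hZ : IsZGroup ↥(alphaCore M ⊓ Subgroup.centralizer ({x} : Set G))
    · exact hcon x (mem_ZG x hxP hxc) hxo hZ
    · have hx1 : x ≠ 1 := by
        intro h
        rw [h, orderOf_one] at hxo
        exact hpp.one_lt.ne hxo
      have hcent : centralizer ((zpowers x : Subgroup G) : Set G) = centralizer ({x} : Set G) := by
        rw [zpowers_eq_closure, centralizer_closure]
      apply onlyMax_of_inUniqueMaximal hG hM hx1
      rw [← hcent]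
      apply Cfsg.Agent.Lib.Helper49_Alpha2.centralizer_statement hG hU M hM (zpowers x)
        (zpowers_le.mpr (hS.le hxP))
      · intro r hr hdvd hrα
        rw [Nat.card_zpowers, hxo] at hdvd
        have : r = p := (Nat.prime_dvd_prime_iff_eq hr hpp).mp hdvd
        rw [this] at hrα
        exact hp (mem_sigma_of_mem_alpha hG hU hM hrα)
      · rw [hcent]
        exact not_rankLE_one_of_not_isZGroup hG hZ
  have hN := normalizer_le_of_onlyMax hG hM hM1 hx₀P hx₀c hx₀o hall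
  exact hp (mem_sigma_of_normalizer_le hS hPG1 hN)

/-- **Bender–Glauberman, Theorem 10.6, first part** (with the Uniqueness Theorem as a hypothesis). -/
theorem lemma106_statement (hG : IsMinSimpleOddOrder G) (hU : UniqHyp G) (M : Subgroup G) (hM : IsCoatom M)
    (hp : p ∉ sigma M) (X : Subgroup G) (hX : Nat.card ↥X = p)
    (hNX : Subgroup.normalizer (X : Set G) ≤ M) :
    (PRankLE p 2 ↥M ∧ ¬ PRankLE p 1 ↥M) ∧ ¬ IsIdealPrime p G ∧
      ∃ A : Subgroup G, IsElementaryAbelian p A ∧ Nat.card ↥A = p ^ 2 ∧ X ≤ A := by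
  have hpp : p.Prime := Fact.out
  have hXM : X ≤ M := le_normalizer.trans hNX
  have hXp : IsPGroup p ↥X := IsPGroup.of_card (n := 1) (by rw [hX, pow_one])
  obtain ⟨PG, hXPG, hS⟩ := exists_isSylowIn_ge hXM hXp
  have hX1 : X ≠ ⊥ := by
    rintro rfl
    rw [Subgroup.card_bot] at hX
    exact hpp.one_lt.ne hX
  have hPG1 : PG ≠ ⊥ := fun h => hX1 (le_bot_iff.mp (h ▸ hXPG))
  have hr2 : PRankLE p 2 ↥M := by
    by_contra h
    exact hp (mem_sigma_of_mem_alpha hG hU hM ⟨hpp, h⟩)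
  have key : ∃ z ∈ PG, (∀ y ∈ PG, y * z = z * y) ∧ z ^ p = 1 ∧ z ∉ X := by
    by_contra hno
    push Not at hno
    have h1 := normalizer_le_normalizer_of_central hS.isPGroup hXPG hX hno
    exact hp (mem_sigma_of_normalizer_le hS hPG1 (h1.trans hNX))
  obtain ⟨z, hzP, hzc, hzp, hzX⟩ := key
  obtain ⟨x₀, hx₀X, hx₀1⟩ := (Subgroup.bot_or_exists_ne_one X).resolve_left hX1
  have hXz : zpowers x₀ = X := zpowers_eq_of_card_prime hX hx₀X hx₀1
  obtain ⟨hXc, hXe⟩ := elemAb_zpowers (pow_eq_one_of_card_prime hX hx₀X)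
  rw [hXz] at hXc hXe
  obtain ⟨hzc', hze'⟩ := elemAb_zpowers hzp
  have hXzc : ∀ a ∈ X, ∀ b ∈ zpowers z, a * b = b * a := by
    intro a ha b hb
    obtain ⟨i, rfl⟩ := mem_zpowers_iff.mp hb
    exact ((show Commute a z from hzc a (hXPG ha)).zpow_right i).eq
  obtain ⟨hAc, hAe⟩ := elemAb_sup hXc hXe hzc' hze' hXzc
  have hAM : X ⊔ zpowers z ≤ M := sup_le hXM (zpowers_le.mpr (hS.le hzP))
  have hlt : X < X ⊔ zpowers z := by
    refine lt_of_le_of_ne le_sup_left ?_
    intro h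
    apply hzX
    rw [h]
    exact mem_sup_right (mem_zpowers z)
  have hcard : p < Nat.card ↥(X ⊔ zpowers z) := by
    rw [← hX]
    apply card_lt_card_of_lt hlt.le
    exact fun h => absurd (le_antisymm hlt.le h) hlt.ne
  have hr1 : ¬ PRankLE p 1 ↥M := not_pRankLE_of_elemAb hAM hAc hAe (by rw [pow_one]; exact hcard)
  have hA2 : Nat.card ↥(X ⊔ zpowers z) = p ^ 2 := by
    refine le_antisymm ?_ (sq_le_card_of_lt (isPGroup_of_exp hAe) hcard)
    by_contra hlt'
    exact not_pRankLE_of_elemAb hAM hAc hAe (by omega) hr2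
  exact ⟨⟨hr2, hr1⟩, (rank_two_statement hG hU M hM hr2 hr1).1,
    X ⊔ zpowers z, isElementaryAbelian_of hAc hAe, hA2, le_sup_left⟩

end Statements

end Cfsg.Agent.Lib.Helper49_Alpha3
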