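import Cfsg.Agent.Lib.Helper49_SigmaDisjoint
import Cfsg.Agent.Lib.Helper49_Alpha3

/-!
# Auxiliary group theory for the sigma-partition theorem (helper30)
-/

set_option autoImplicit false

namespace Cfsg.Agent.Lib.Helper30_SigmaPartA

open Subgroup Cfsg Cfsg.Agent.Lib.Helper22_Radical Cfsg.Agent.Lib.Helper84_RelSylow

variable {G : Type*} [Group G]

/-- Bezout: for commuting `f`, `d` with `f ^ m = 1`, `d ^ n = 1`, `m`, `n` coprime, `d` is a power of `f * d`. -/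
theorem exists_zpow_eq_right {m n : ℕ} (hmn : m.Coprime n) {f d : G} (hfd : Commute f d)
    (hf : f ^ m = 1) (hd : d ^ n = 1) : ∃ j : ℤ, (f * d) ^ j = d ∧ ∀ (x y : G), Commute x y → x ^ m = 1 →
      y ^ n = 1 → (x * y) ^ j = y := by
  have hb : (m : ℤ) * Int.gcdA m n + n * Int.gcdB m n = 1 := by
    have := Int.gcd_eq_gcd_ab m n
    rw [Int.gcd_natCast_natCast, hmn.gcd_eq_one] at this
    exact_mod_cast this.symm
  have key : ∀ (x y : G), Commute x y → x ^ m = 1 → y ^ n = 1 → (x * y) ^ ((m : ℤ) * Int.gcdA m n) = y := by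
    intro x y hxy hx hy
    rw [hxy.mul_zpow, zpow_mul, zpow_natCast, hx, one_zpow, one_mul]
    have : (m : ℤ) * Int.gcdA m n = 1 - n * Int.gcdB m n := by linarith
    rw [this, zpow_sub, zpow_one, zpow_mul, zpow_natCast, hy, one_zpow, inv_one, mul_one]
  exact ⟨(m : ℤ) * Int.gcdA m n, key f d hfd hf hd, key⟩

/-- `sigmaCore M ≤ M` -/
theorem sigmaCore_le (M : Subgroup G) : sigmaCore M ≤ M := Subgroup.map_subtype_le _

/-- `M` normalizes `M_σ` -/
theorem le_normalizer_sigmaCore (M : Subgroup G) : M ≤ normalizer ((sigmaCore M : Subgroup G) : Set G) := by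
  have h1 := Subgroup.le_normalizer_map (H := piCore (sigma M) ↥M) M.subtype
  rw [Subgroup.normalizer_eq_top, ← MonoidHom.range_eq_map, Subgroup.range_subtype] at h1
  exact h1

theorem conj_mem_sigmaCore {M : Subgroup G} {m x : G} (hm : m ∈ M) (hx : x ∈ sigmaCore M) :
    m * x * m⁻¹ ∈ sigmaCore M :=
  (mem_normalizer_iff.mp (le_normalizer_sigmaCore M hm) x).mp hx

theorem relIndex_sigmaCore (M : Subgroup G) :
    (sigmaCore M).relIndex M = (piCore (sigma M) ↥M).index := by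
  unfold sigmaCore Subgroup.relIndex
  rw [Subgroup.subgroupOf, Subgroup.comap_map_eq_self_of_injective M.subtype_injective]

/-- an element of `M` of prime order `r ∈ σ(M)` lies in `M_σ` (Hall property) -/
theorem mem_sigmaCore_of_orderOf {M : Subgroup G} (hHall : IsPiHallOf (sigma M) (sigmaCore M) M)
    {x : G} (hx : x ∈ M) {r : ℕ} (hr : r.Prime) (hrσ : r ∈ sigma M) (hxr : x ^ r = 1) :
    x ∈ sigmaCore M := by
  have hnd : ¬ r ∣ (piCore (sigma M) ↥M).index := by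
    rw [← relIndex_sigmaCore]
    exact hHall.2.2 r hr hrσ
  let φ := QuotientGroup.mk' (piCore (sigma M) ↥M)
  have h1 : (φ ⟨x, hx⟩) ^ r = 1 := by
    rw [← map_pow]
    have : (⟨x, hx⟩ : ↥M) ^ r = 1 := Subtype.ext (by simpa using hxr)
    rw [this, map_one]
  have h2 : (φ ⟨x, hx⟩) ^ (piCore (sigma M) ↥M).index = 1 := by
    rw [Subgroup.index_eq_card]
    exact pow_card_eq_one'
  have h3 : orderOf (φ ⟨x, hx⟩) ∣ Nat.gcd r (piCore (sigma M) ↥M).index :=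
    Nat.dvd_gcd (orderOf_dvd_of_pow_eq_one h1) (orderOf_dvd_of_pow_eq_one h2)
  rw [(Nat.Prime.coprime_iff_not_dvd hr).mpr hnd, Nat.dvd_one, orderOf_eq_one_iff] at h3
  have h4 : (⟨x, hx⟩ : ↥M) ∈ piCore (sigma M) ↥M := by
    rw [← QuotientGroup.eq_one_iff]
    exact h3
  exact ⟨⟨x, hx⟩, h4, rfl⟩

/-- an element of `M` whose order is prime to `|M : M_σ|` lies in `M_σ` -/
theorem mem_sigmaCore_of_pow_eq_one {M : Subgroup G} {x : G} (hx : x ∈ M) {n : ℕ}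
    (hn : n.Coprime ((sigmaCore M).relIndex M)) (hxn : x ^ n = 1) : x ∈ sigmaCore M := by
  rw [relIndex_sigmaCore] at hn
  let φ := QuotientGroup.mk' (piCore (sigma M) ↥M)
  have h1 : (φ ⟨x, hx⟩) ^ n = 1 := by
    rw [← map_pow]
    have : (⟨x, hx⟩ : ↥M) ^ n = 1 := Subtype.ext (by simpa using hxn)
    rw [this, map_one]
  have h2 : (φ ⟨x, hx⟩) ^ (piCore (sigma M) ↥M).index = 1 := by
    rw [Subgroup.index_eq_card]
    exact pow_card_eq_one'
  have h3 : orderOf (φ ⟨x, hx⟩) ∣ Nat.gcd n (piCore (sigma M) ↥M).index :=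
    Nat.dvd_gcd (orderOf_dvd_of_pow_eq_one h1) (orderOf_dvd_of_pow_eq_one h2)
  rw [hn, Nat.dvd_one, orderOf_eq_one_iff] at h3
  have h4 : (⟨x, hx⟩ : ↥M) ∈ piCore (sigma M) ↥M := by
    rw [← QuotientGroup.eq_one_iff]
    exact h3
  exact ⟨⟨x, hx⟩, h4, rfl⟩

/-- a `p`-subgroup of `M` with `p ∈ σ(M)` lies in `M_σ` -/
theorem le_sigmaCore_of_isPGroup {M : Subgroup G} (hHall : IsPiHallOf (sigma M) (sigmaCore M) M)
    {p : ℕ} (hpσ : p ∈ sigma M) {P : Subgroup G} (hPM : P ≤ M) (hPp : IsPGroup p ↥P) :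
    P ≤ sigmaCore M := by
  intro x hx
  obtain ⟨k, hk⟩ := hPp ⟨x, hx⟩
  have hxk : x ^ (p ^ k) = 1 := by
    have := congrArg Subtype.val hk
    simpa using this
  refine mem_sigmaCore_of_pow_eq_one (hPM hx) ?_ hxk
  apply Nat.Coprime.pow_left
  rw [Nat.Prime.coprime_iff_not_dvd hpσ.1]
  exact hHall.2.2 p hpσ.1 hpσ

/-- `|M_σ|` and `|M : M_σ|` are coprime -/
theorem coprime_card_sigmaCore_relIndex {M : Subgroup G} (hHall : IsPiHallOf (sigma M) (sigmaCore M) M) :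
    (Nat.card ↥(sigmaCore M)).Coprime ((sigmaCore M).relIndex M) := by
  apply Nat.coprime_of_dvd
  intro q hq h1 h2
  exact hHall.2.2 q hq (hHall.2.1 q hq h1) h2

variable [Finite G]

/-- a `p'`-element of a group with a normal `p`-complement that normalizes a `p`-subgroup centralizes it -/
theorem commute_of_hasNormalPComplement {S : Subgroup G} {p : ℕ} [Fact p.Prime]
    (hS : HasNormalPComplement p ↥S) {P : Subgroup G} (hPS : P ≤ S) (hPp : IsPGroup p ↥P)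
    {e : G} (heS : e ∈ S) (heN : e ∈ normalizer (P : Set G)) (hep : (orderOf e).Coprime p)
    {x : G} (hx : x ∈ P) : e * x = x * e := by
  have hpp : p.Prime := Fact.out
  obtain ⟨Q, T, hTn, hTQ⟩ := hS
  -- `T` has index a power of `p` and order prime to `p`
  have hcard : Nat.card ↥T * Nat.card ↥(Q : Subgroup ↥S) = Nat.card ↥S := hTQ.card_mul_card
  have hidx : T.index = Nat.card ↥(Q : Subgroup ↥S) := by
    have h1 := T.card_mul_index
    have hpos : 0 < Nat.card ↥T := Nat.card_pos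
    rw [← hcard] at h1
    exact Nat.eq_of_mul_eq_mul_left hpos h1
  have hTp : ¬ p ∣ Nat.card ↥T := by
    intro hd
    have h1 := (Q : Subgroup ↥S).card_mul_index
    rw [← hcard] at h1
    have hpos : 0 < Nat.card ↥(Q : Subgroup ↥S) := Nat.card_pos
    have h2 : (Q : Subgroup ↥S).index = Nat.card ↥T := by
      have h3 : Nat.card ↥(Q : Subgroup ↥S) * (Q : Subgroup ↥S).index =
          Nat.card ↥(Q : Subgroup ↥S) * Nat.card ↥T := by rw [h1, mul_comm]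
      exact Nat.eq_of_mul_eq_mul_left hpos h3
    exact Q.not_dvd_index (h2 ▸ hd)
  obtain ⟨k, hk⟩ := IsPGroup.iff_card.mp Q.isPGroup'
  -- `e ∈ T`
  have heT : (⟨e, heS⟩ : ↥S) ∈ T := by
    let φ := QuotientGroup.mk' T
    have h1 : (φ ⟨e, heS⟩) ^ orderOf e = 1 := by
      rw [← map_pow]
      have : (⟨e, heS⟩ : ↥S) ^ orderOf e = 1 := Subtype.ext (by simp [pow_orderOf_eq_one])
      rw [this, map_one]
    have h2 : (φ ⟨e, heS⟩) ^ (p ^ k) = 1 := by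
      rw [← hk, ← hidx, Subgroup.index_eq_card]
      exact pow_card_eq_one'
    have h3 : orderOf (φ ⟨e, heS⟩) ∣ Nat.gcd (orderOf e) (p ^ k) :=
      Nat.dvd_gcd (orderOf_dvd_of_pow_eq_one h1) (orderOf_dvd_of_pow_eq_one h2)
    rw [Nat.Coprime.pow_right k hep, Nat.dvd_one, orderOf_eq_one_iff] at h3
    rw [← QuotientGroup.eq_one_iff]
    exact h3
  -- the commutator lies in `T` and in `P`
  have hxS : x ∈ S := hPS hx
  have hcT : (⟨e, heS⟩ : ↥S) * ⟨x, hxS⟩ * (⟨e, heS⟩ : ↥S)⁻¹ * (⟨x, hxS⟩ : ↥S)⁻¹ ∈ T := by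
    have h1 : (⟨x, hxS⟩ : ↥S) * (⟨e, heS⟩ : ↥S)⁻¹ * (⟨x, hxS⟩ : ↥S)⁻¹ ∈ T :=
      hTn.conj_mem _ (inv_mem heT) _
    have h2 := mul_mem heT h1
    have e1 : (⟨e, heS⟩ : ↥S) * (⟨x, hxS⟩ * (⟨e, heS⟩ : ↥S)⁻¹ * (⟨x, hxS⟩ : ↥S)⁻¹) =
        (⟨e, heS⟩ : ↥S) * ⟨x, hxS⟩ * (⟨e, heS⟩ : ↥S)⁻¹ * (⟨x, hxS⟩ : ↥S)⁻¹ := by group
    rwa [e1] at h2
  have hcP : e * x * e⁻¹ * x⁻¹ ∈ P :=
    mul_mem ((mem_normalizer_iff.mp heN x).mp hx) (inv_mem hx)
  -- so it is trivial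
  have hc1 : e * x * e⁻¹ * x⁻¹ = 1 := by
    have ho1 : orderOf (e * x * e⁻¹ * x⁻¹) ∣ Nat.card ↥T := by
      have h1 : orderOf ((⟨e, heS⟩ : ↥S) * ⟨x, hxS⟩ * (⟨e, heS⟩ : ↥S)⁻¹ * (⟨x, hxS⟩ : ↥S)⁻¹) ∣ Nat.card ↥T := by
        have := orderOf_dvd_natCard (⟨_, hcT⟩ : ↥T)
        rwa [Subgroup.orderOf_mk] at this
      have h2 : orderOf ((⟨e, heS⟩ : ↥S) * ⟨x, hxS⟩ * (⟨e, heS⟩ : ↥S)⁻¹ * (⟨x, hxS⟩ : ↥S)⁻¹) =
          orderOf (e * x * e⁻¹ * x⁻¹) := by
        rw [← Subgroup.orderOf_coe]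
        rfl
      rwa [h2] at h1
    obtain ⟨j, hj⟩ := (hPp ⟨_, hcP⟩)
    have ho2 : orderOf (e * x * e⁻¹ * x⁻¹) ∣ p ^ j := by
      apply orderOf_dvd_of_pow_eq_one
      have := congrArg Subtype.val hj
      simpa using this
    have h3 : orderOf (e * x * e⁻¹ * x⁻¹) ∣ Nat.gcd (Nat.card ↥T) (p ^ j) := Nat.dvd_gcd ho1 ho2
    have hcop : (Nat.card ↥T).Coprime (p ^ j) :=
      Nat.Coprime.pow_right j ((Nat.coprime_comm.mp ((Nat.Prime.coprime_iff_not_dvd hpp).mpr hTp)))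
    rw [hcop, Nat.dvd_one, orderOf_eq_one_iff] at h3
    exact h3
  have := congrArg (fun t => t * x * e) hc1
  simpa [mul_assoc] using this

end Cfsg.Agent.Lib.Helper30_SigmaPartA
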