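import Mathlib
import Cfsg.Agent.Lib.Helper1_SZ
import Cfsg.Agent.Lib.Helper1_Cores

/-!
Hall's theorems for finite solvable groups (helper1): existence, conjugacy and dominance of Hall
subgroups, in the "order" formulation.
-/

set_option autoImplicit false

namespace Cfsg.Agent.Lib.Helper1_Hall

open Subgroup
open scoped Pointwise
open Cfsg.Agent.Lib.Helper1_Transport Cfsg.Agent.Lib.Helper1_MinNormal Cfsg.Agent.Lib.Helper1_SZ

universe u

/-- If `H` and `K` have the same order, coprime to the order of the abelian normal subgroup `M`,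
and `H ⊔ M = K ⊔ M`, then `H` and `K` are conjugate under `M`. -/
theorem conj_of_sup_eq {G : Type*} [Group G] [Finite G] (M : Subgroup G) [M.Normal]
    [IsMulCommutative M] (H K : Subgroup G) (hHK : Nat.card H = Nat.card K)
    (hcop : (Nat.card K).Coprime (Nat.card M)) (hsup : H ⊔ M = K ⊔ M) :
    ∃ a ∈ M, MulAut.conj a • H = K := by
  obtain ⟨L, hL⟩ : ∃ L : Subgroup G, L = K ⊔ M := ⟨_, rfl⟩
  have hHL : H ≤ L := by rw [hL, ← hsup]; exact le_sup_left
  have hKL : K ≤ L := by rw [hL]; exact le_sup_left
  have hML : M ≤ L := by rw [hL]; exact le_sup_right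
  have hAidx : (M.subgroupOf L).index = Nat.card K := by
    change M.relIndex L = Nat.card K
    rw [hL, relIndex_sup_right, ← inf_relIndex_right,
      (disjoint_of_coprime_natCard hcop.symm).eq_bot, relIndex_bot_left]
  have hAcop : (Nat.card (M.subgroupOf L)).Coprime (M.subgroupOf L).index := by
    rw [hAidx, card_subgroupOf hML]
    exact hcop.symm
  obtain ⟨a, ha1, ha⟩ := sz_abelian_conj (M.subgroupOf L) hAcop (H.subgroupOf L)
    (K.subgroupOf L) (by rw [card_subgroupOf hHL, hHK, hAidx])
    (by rw [card_subgroupOf hKL, hAidx])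
  exact ⟨(a : G), ha1, conj_of_subgroupOf hHL hKL a ha⟩

/-- Dominance for an abelian normal Hall subgroup `M`: a subgroup `K` of order coprime to `|M|`
lies in a conjugate of any given complement `H₀`. -/
theorem le_conj_of_coprime_abelian {G : Type*} [Group G] [Finite G] (M : Subgroup G) [M.Normal]
    [IsMulCommutative M] (hM : (Nat.card M).Coprime M.index) (H₀ : Subgroup G)
    (hH₀ : Nat.card H₀ = M.index) (K : Subgroup G) (hK : (Nat.card K).Coprime (Nat.card M)) :
    ∃ a ∈ M, K ≤ MulAut.conj a • H₀ := by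
  have hH₀cop : (Nat.card H₀).Coprime (Nat.card M) := by rw [hH₀]; exact hM.symm
  have h1 : H₀.map (QuotientGroup.mk' M) = ⊤ := by
    apply eq_top_of_card_eq
    rw [card_map_mk'_of_coprime M H₀ hH₀cop, hH₀, index_eq_card]
  obtain ⟨H₁, hH₁⟩ : ∃ H₁ : Subgroup G, H₁ = H₀ ⊓ (K ⊔ M) := ⟨_, rfl⟩
  have h2 : K ⊔ M = (K.map (QuotientGroup.mk' M)).comap (QuotientGroup.mk' M) := by
    rw [comap_map_eq, QuotientGroup.ker_mk']
  have h3 : H₁.map (QuotientGroup.mk' M) = K.map (QuotientGroup.mk' M) := by
    rw [hH₁, h2, map_inf_comap, h1, top_inf_eq]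
  have hH₁cop : (Nat.card H₁).Coprime (Nat.card M) :=
    hH₀cop.coprime_dvd_left (card_dvd_of_le (by rw [hH₁]; exact inf_le_left))
  have hcard : Nat.card H₁ = Nat.card K := by
    rw [← card_map_mk'_of_coprime M H₁ hH₁cop, h3, card_map_mk'_of_coprime M K hK]
  have hsup : H₁ ⊔ M = K ⊔ M := by
    have := congrArg (fun S => S.comap (QuotientGroup.mk' M)) h3
    simpa [comap_map_eq, QuotientGroup.ker_mk'] using this
  obtain ⟨a, ha, hconj⟩ := conj_of_sup_eq M H₁ K hcard hK hsup
  refine ⟨a, ha, ?_⟩
  rw [← hconj]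
  exact pointwise_smul_le_pointwise_smul_iff.mpr (by rw [hH₁]; exact inf_le_left)

/-- A nontrivial finite solvable group has a nontrivial normal abelian `p`-subgroup. -/
theorem exists_normal_abelian_pSubgroup {Q : Type*} [Group Q] [Finite Q] [Nontrivial Q]
    (h : Group.IsSolvable Q) :
    ∃ (M : Subgroup Q) (p : ℕ), M.Normal ∧ M ≠ ⊥ ∧ IsMulCommutative M ∧ p.Prime ∧ IsPGroup p M := by
  have htop : (⊤ : Subgroup Q) ≠ ⊥ := top_ne_bot
  obtain ⟨M, hM1, -, hM3, hM5, p, hp, hM4⟩ :=
    exists_elementary_abelian_normal_le (⊤ : Subgroup Q) inferInstance htop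
  refine ⟨M, p, hM1, hM3, hM5, hp, ?_⟩
  intro x
  refine ⟨1, ?_⟩
  rw [pow_one]
  apply Subtype.ext
  simpa using hM4 x x.2

/-- Conjugacy and dominance of Hall subgroups of a group `G`. -/
def HallProp (G : Type u) [Group G] : Prop :=
  ∀ m n : ℕ, Nat.card G = m * n → m.Coprime n →
    (∀ H K : Subgroup G, Nat.card H = m → Nat.card K = m → ∃ g : G, MulAut.conj g • H = K) ∧
    (∀ K : Subgroup G, (Nat.card K).Coprime n → ∃ H : Subgroup G, Nat.card H = m ∧ K ≤ H)

theorem hallProp_aux (N : ℕ) :
    ∀ (G : Type u) [Group G] [Finite G], Group.IsSolvable G → Nat.card G = N → HallProp G := by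
  induction N using Nat.strong_induction_on with
  | _ N ih =>
  intro G _ _ hsolv hN m n hmn hcop
  by_cases htriv : Subsingleton G
  · have hcard : Nat.card G = 1 := Nat.card_eq_one_iff_unique.mpr ⟨htriv, ⟨1⟩⟩
    have hm : m = 1 := by
      rw [hcard] at hmn
      exact Nat.eq_one_of_mul_eq_one_right hmn.symm
    constructor
    · intro H K _ _
      exact ⟨1, by rw [eq_bot_of_subsingleton H, eq_bot_of_subsingleton K]; simp⟩
    · intro K _
      exact ⟨⊥, by rw [hm]; simp, by rw [eq_bot_of_subsingleton K]⟩
  · have hnt : Nontrivial G := not_subsingleton_iff_nontrivial.mp htriv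
    obtain ⟨M, p, hMn, hMne, hMcomm, hp, hMp⟩ := exists_normal_abelian_pSubgroup hsolv
    have hpf : Fact p.Prime := ⟨hp⟩
    obtain ⟨k, hk⟩ := IsPGroup.iff_card.mp hMp
    have hcardM : 1 < Nat.card M := (one_lt_card_iff_ne_bot M).mpr hMne
    have hMdvd : Nat.card M ∣ m * n := by rw [← hmn]; exact card_subgroup_dvd_card M
    have hlt : Nat.card (G ⧸ M) < N := by
      rw [← hN, ← card_quotient_mul_card M]
      exact lt_mul_of_one_lt_right Nat.card_pos hcardM
    have hsurj : Function.Surjective (QuotientGroup.mk' M) := QuotientGroup.mk'_surjective M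
    have hsolvQ : Group.IsSolvable (G ⧸ M) := inferInstance
    have hIH := ih _ hlt (G ⧸ M) hsolvQ rfl
    have hMpos : 0 < Nat.card M := Nat.card_pos
    by_cases hpm : p ∣ m
    · -- `|M|` divides `m`
      have hpn : ¬ p ∣ n := fun h => hp.one_lt.ne' (Nat.eq_one_of_dvd_coprimes hcop hpm h)
      have hMn_cop : (Nat.card M).Coprime n := by
        rw [hk]; exact Nat.Coprime.pow_left _ ((Nat.Prime.coprime_iff_not_dvd hp).mpr hpn)
      obtain ⟨m', hm'⟩ : Nat.card M ∣ m := hMn_cop.dvd_mul_right.mp hMdvd
      have hcardQ : Nat.card (G ⧸ M) = m' * n := by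
        apply Nat.eq_of_mul_eq_mul_right hMpos
        rw [card_quotient_mul_card, hmn, hm']; ring
      have hcop' : m'.Coprime n := hcop.coprime_dvd_left (Dvd.intro_left _ hm'.symm)
      obtain ⟨hC, hD⟩ := hIH m' n hcardQ hcop'
      -- subgroups of order `m` contain `M`
      have hMle : ∀ X : Subgroup G, Nat.card X = m → M ≤ X := by
        intro X hX
        have h1 : Nat.card (X ⊔ M : Subgroup G) ∣ m := by
          have h2 : Nat.card (X ⊔ M : Subgroup G) ∣ Nat.card X * Nat.card M :=
            Cfsg.Agent.Lib.Helper1_Cores.card_sup_dvd X M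
          have h3 : (Nat.card (X ⊔ M : Subgroup G)).Coprime n := by
            apply Nat.Coprime.coprime_dvd_left h2
            rw [hX]
            exact Nat.Coprime.mul_left hcop hMn_cop
          have h4 : Nat.card (X ⊔ M : Subgroup G) ∣ m * n := by
            rw [← hmn]; exact card_subgroup_dvd_card _
          exact h3.dvd_mul_right.mp h4
        have h5 : X ⊔ M = X := by
          symm
          apply eq_of_le_of_card_ge le_sup_left
          rw [hX]
          exact Nat.le_of_dvd (by rw [← hX]; exact Nat.card_pos) h1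
        rw [← h5]; exact le_sup_right
      have hcard' : ∀ X : Subgroup G, Nat.card X = m →
          Nat.card (X.map (QuotientGroup.mk' M)) = m' := by
        intro X hX
        have h1 := card_map_mk'_of_le M X (hMle X hX)
        rw [hX, hm', mul_comm] at h1
        exact Nat.eq_of_mul_eq_mul_left hMpos h1
      constructor
      · intro H K hH hK
        obtain ⟨gbar, hgbar⟩ := hC _ _ (hcard' H hH) (hcard' K hK)
        obtain ⟨g, rfl⟩ := hsurj gbar
        have hsup := conj_sup_eq_of_map_conj M H K g hgbar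
        refine ⟨g, ?_⟩
        have h1 : M ≤ MulAut.conj g • H := by
          have : MulAut.conj g • M ≤ MulAut.conj g • H :=
            pointwise_smul_le_pointwise_smul_iff.mpr (hMle H hH)
          rwa [Normal.conj_smul_eq_self] at this
        rwa [sup_eq_left.mpr h1, sup_eq_left.mpr (hMle K hK)] at hsup
      · intro K hK
        have hKbar : (Nat.card (K.map (QuotientGroup.mk' M))).Coprime n :=
          hK.coprime_dvd_left (card_map_dvd K _)
        obtain ⟨Hbar, hHbar1, hHbar2⟩ := hD _ hKbar
        refine ⟨Hbar.comap (QuotientGroup.mk' M), ?_, ?_⟩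
        · rw [card_comap_mk', hHbar1, hm', mul_comm]
        · exact (le_comap_map _ K).trans (comap_mono hHbar2)
    · -- `|M|` divides `n`
      have hMm_cop : (Nat.card M).Coprime m := by
        rw [hk]; exact Nat.Coprime.pow_left _ ((Nat.Prime.coprime_iff_not_dvd hp).mpr hpm)
      obtain ⟨n', hn'⟩ : Nat.card M ∣ n := hMm_cop.dvd_mul_left.mp hMdvd
      have hcardQ : Nat.card (G ⧸ M) = m * n' := by
        apply Nat.eq_of_mul_eq_mul_right hMpos
        rw [card_quotient_mul_card, hmn, hn']; ring
      have hcop' : m.Coprime n' := hcop.coprime_dvd_right (Dvd.intro_left _ hn'.symm)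
      obtain ⟨hC, hD⟩ := hIH m n' hcardQ hcop'
      constructor
      · intro H K hH hK
        have hHcop : (Nat.card H).Coprime (Nat.card M) := by rw [hH]; exact hMm_cop.symm
        have hKcop : (Nat.card K).Coprime (Nat.card M) := by rw [hK]; exact hMm_cop.symm
        obtain ⟨gbar, hgbar⟩ := hC (H.map (QuotientGroup.mk' M)) (K.map (QuotientGroup.mk' M))
          (by rw [card_map_mk'_of_coprime M H hHcop, hH])
          (by rw [card_map_mk'_of_coprime M K hKcop, hK])
        obtain ⟨g, rfl⟩ := hsurj gbar
        have hsup := conj_sup_eq_of_map_conj M H K g hgbar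
        obtain ⟨a, -, ha⟩ := conj_of_sup_eq M (MulAut.conj g • H) K
          (by rw [card_conj_smul, hH, hK]) hKcop hsup
        refine ⟨a * g, ?_⟩
        rw [map_mul, mul_smul]
        exact ha
      · intro K hK
        have hKM : (Nat.card K).Coprime (Nat.card M) :=
          hK.coprime_dvd_right (Dvd.intro _ hn'.symm)
        have hKn' : (Nat.card K).Coprime n' :=
          hK.coprime_dvd_right (Dvd.intro_left _ hn'.symm)
        have hKbar : (Nat.card (K.map (QuotientGroup.mk' M))).Coprime n' :=
          hKn'.coprime_dvd_left (card_map_dvd K _)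
        obtain ⟨Hbar, hHbar1, hHbar2⟩ := hD _ hKbar
        obtain ⟨L, hL⟩ : ∃ L : Subgroup G, L = Hbar.comap (QuotientGroup.mk' M) := ⟨_, rfl⟩
        have hKL : K ≤ L := by rw [hL]; exact (le_comap_map _ K).trans (comap_mono hHbar2)
        have hML : M ≤ L := by
          rw [hL]
          conv_lhs => rw [← QuotientGroup.ker_mk' M]
          exact ker_le_comap _ _
        have hcardL : Nat.card L = m * Nat.card M := by rw [hL, card_comap_mk', hHbar1]
        -- inside `L`
        have hAcard : Nat.card (M.subgroupOf L) = Nat.card M := card_subgroupOf hML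
        have hAidx : (M.subgroupOf L).index = m := by
          have h1 := (M.subgroupOf L).index_mul_card
          rw [hAcard, hcardL] at h1
          exact Nat.eq_of_mul_eq_mul_right hMpos h1
        have hAcop : (Nat.card (M.subgroupOf L)).Coprime (M.subgroupOf L).index := by
          rw [hAcard, hAidx]; exact hMm_cop
        obtain ⟨H₀, hH₀⟩ := exists_right_complement'_of_coprime hAcop
        have hH₀card : Nat.card H₀ = (M.subgroupOf L).index :=
          card_eq_index_of_isComplement' _ _ hH₀
        obtain ⟨a, -, ha⟩ := le_conj_of_coprime_abelian (M.subgroupOf L) hAcop H₀ hH₀card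
          (K.subgroupOf L) (by rw [card_subgroupOf hKL, hAcard]; exact hKM)
        refine ⟨(MulAut.conj a • H₀).map L.subtype, ?_, ?_⟩
        · rw [card_map_of_injective (subtype_injective L), card_conj_smul, hH₀card, hAidx]
        · have := map_mono (f := L.subtype) ha
          rwa [map_subgroupOf_eq_of_le hKL] at this

/-- **Hall's theorem, conjugacy.** -/
theorem hall_conj {G : Type u} [Group G] [Finite G] [hG : Group.IsSolvable G] (m n : ℕ)
    (hmn : Nat.card G = m * n) (hcop : m.Coprime n) (H K : Subgroup G)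
    (hH : Nat.card H = m) (hK : Nat.card K = m) : ∃ g : G, MulAut.conj g • H = K :=
  (hallProp_aux _ G hG rfl m n hmn hcop).1 H K hH hK

/-- **Hall's theorem, dominance.** -/
theorem hall_dominance {G : Type u} [Group G] [Finite G] [hG : Group.IsSolvable G] (m n : ℕ)
    (hmn : Nat.card G = m * n) (hcop : m.Coprime n) (K : Subgroup G)
    (hK : (Nat.card K).Coprime n) : ∃ H : Subgroup G, Nat.card H = m ∧ K ≤ H :=
  (hallProp_aux _ G hG rfl m n hmn hcop).2 K hK

/-- **Hall's theorem, existence.** -/
theorem hall_exists {G : Type u} [Group G] [Finite G] [Group.IsSolvable G] (m n : ℕ)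
    (hmn : Nat.card G = m * n) (hcop : m.Coprime n) : ∃ H : Subgroup G, Nat.card H = m := by
  obtain ⟨H, hH, -⟩ := hall_dominance m n hmn hcop ⊥ (by simp)
  exact ⟨H, hH⟩

end Cfsg.Agent.Lib.Helper1_Hall
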