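import Cfsg.Agent.Lib.Helper24_CoprimeAction
import Cfsg.Agent.Lib.Helper1_Hall
import Cfsg.Agent.Lib.Helper1_MinNormal
import Cfsg.Prelude.Def_OddOrderLocal

/-!
# Coprime action: invariant members of transitive families of subgroups (Glauberman), Hall subgroups

`A` normalizes `K` inside an ambient finite group, `(|A|, |K|) = 1`, `A` or `K` solvable.
-/

set_option autoImplicit false

namespace Cfsg.Agent.Lib.Helper24_CoprimeHall

open Cfsg.Agent.S0001
open Cfsg.Agent.Lib.Helper24_CoprimeAction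

/-- **Glauberman's lemma for families of subgroups (existence).** If `K` permutes a family `𝓕` of
subgroups transitively by conjugation and `𝓕` is stable under conjugation by `KA`, then `𝓕` has an
`A`-invariant member. -/
theorem exists_invariant_of_transitive {G : Type*} [Group G] [Finite G] (A K : Subgroup G)
    (hAK : A ≤ Subgroup.normalizer (K : Set G)) (hcop : (Nat.card A).Coprime (Nat.card K))
    (hsolv : Group.IsSolvable A ∨ Group.IsSolvable K) (𝓕 : Set (Subgroup G))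
    (H₀ : Subgroup G) (h₀ : H₀ ∈ 𝓕)
    (hstab : ∀ H ∈ 𝓕, ∀ t ∈ K ⊔ A, H.map (MulAut.conj t).toMonoidHom ∈ 𝓕)
    (htrans : ∀ H₁ ∈ 𝓕, ∀ H₂ ∈ 𝓕, ∃ κ ∈ K, H₁.map (MulAut.conj κ).toMonoidHom = H₂) :
    ∃ H ∈ 𝓕, A ≤ Subgroup.normalizer (H : Set G) := by
  set U : Subgroup G := Subgroup.normalizer (H₀ : Set G) ⊓ (K ⊔ A) with hU
  have hKU : K ⊔ A ≤ K ⊔ U := by
    intro t ht
    obtain ⟨κ, hκ, hκt⟩ := htrans H₀ h₀ _ (hstab H₀ h₀ t ht)
    have hn : κ⁻¹ * t ∈ Subgroup.normalizer (H₀ : Set G) := by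
      rw [mem_normalizer_iff_map_conj, ← map_conj_mul, ← hκt, map_conj_mul, inv_mul_cancel]
      exact map_conj_of_mem H₀ H₀.one_mem
    have e : t = κ * (κ⁻¹ * t) := by group
    rw [e]
    refine Subgroup.mul_mem _ (Subgroup.mem_sup_left hκ) (Subgroup.mem_sup_right ⟨hn, ?_⟩)
    exact Subgroup.mul_mem _ (Subgroup.inv_mem _ (Subgroup.mem_sup_left hκ)) ht
  obtain ⟨k, hk, hkU⟩ := exists_conj_le A K U hAK hcop hsolv inf_le_right hKU
  refine ⟨H₀.map (MulAut.conj k⁻¹).toMonoidHom,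
    hstab H₀ h₀ k⁻¹ (Subgroup.mem_sup_left (K.inv_mem hk)), ?_⟩
  intro a ha
  rw [mem_normalizer_iff_map_conj, map_conj_mul]
  have h1 : k * a * k⁻¹ ∈ Subgroup.normalizer (H₀ : Set G) :=
    (hkU ⟨a, ha, by simp⟩).1
  rw [mem_normalizer_iff_map_conj] at h1
  have e : a * k⁻¹ = k⁻¹ * (k * a * k⁻¹) := by group
  rw [e, ← map_conj_mul, h1]

/-- **Glauberman's lemma for families of subgroups (conjugacy).** Two `A`-invariant members of a
family of subgroups on which `K` acts transitively by conjugation are conjugate under `C_K(A)`. -/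
theorem invariant_conj_of_transitive {G : Type*} [Group G] [Finite G] (A K : Subgroup G)
    (hAK : A ≤ Subgroup.normalizer (K : Set G)) (hcop : (Nat.card A).Coprime (Nat.card K))
    (hsolv : Group.IsSolvable A ∨ Group.IsSolvable K)
    (H₁ H₂ : Subgroup G) (κ : G) (hκ : κ ∈ K) (hκH : H₁.map (MulAut.conj κ).toMonoidHom = H₂)
    (h₁ : A ≤ Subgroup.normalizer (H₁ : Set G)) (h₂ : A ≤ Subgroup.normalizer (H₂ : Set G)) :
    ∃ c ∈ K ⊓ Subgroup.centralizer (A : Set G), H₁.map (MulAut.conj c).toMonoidHom = H₂ := by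
  set U : Subgroup G := Subgroup.normalizer (H₁ : Set G) with hU
  have hAKU : A ≤ Subgroup.normalizer ((K ⊓ U : Subgroup G) : Set G) :=
    (le_inf hAK (h₁.trans Subgroup.le_normalizer)).trans Subgroup.inf_normalizer_le_normalizer_inf
  have hkU : A.map (MulAut.conj κ⁻¹).toMonoidHom ≤ U := by
    rintro _ ⟨a, ha, rfl⟩
    rw [hU, mem_normalizer_iff_map_conj]
    have h1 := h₂ ha
    rw [mem_normalizer_iff_map_conj, ← hκH, map_conj_mul] at h1
    have h2 := congrArg (Subgroup.map (MulAut.conj κ⁻¹).toMonoidHom) h1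
    rw [map_conj_mul, map_conj_mul, inv_mul_cancel] at h2
    have h3 : H₁.map (MulAut.conj (1 : G)).toMonoidHom = H₁ := map_conj_of_mem _ (Subgroup.one_mem _)
    rw [h3] at h2
    have e : (MulAut.conj κ⁻¹).toMonoidHom a = κ⁻¹ * (a * κ) := by
      simp [mul_assoc]
    rw [e]
    exact h2
  obtain ⟨c, hc, hcκ⟩ := exists_centralizer_mul A K U hAK hcop hsolv h₁ hAKU κ hκ hkU
  refine ⟨c, hc, ?_⟩
  rw [hU, mem_normalizer_iff_map_conj] at hcκ
  have e : κ = c * (c⁻¹ * κ) := by group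
  rw [← hκH]
  conv_rhs => rw [e, ← map_conj_mul]
  rw [hcκ]

/-! ### Hall subgroups in cardinality form -/

/-- Splitting a positive natural number into its `π`-part and its `π'`-part. -/
theorem pi_split (N : ℕ) (hN : 0 < N) (π : Set ℕ) :
    ∃ m n : ℕ, N = m * n ∧ (∀ p : ℕ, p.Prime → p ∣ m → p ∈ π) ∧
      (∀ p : ℕ, p.Prime → p ∈ π → ¬ p ∣ n) := by
  classical
  set S : Finset ℕ := N.divisors.filter (fun d => ∀ p : ℕ, p.Prime → p ∣ d → p ∈ π) with hS
  have h1 : 1 ∈ S := by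
    rw [hS, Finset.mem_filter]
    refine ⟨Nat.one_mem_divisors.mpr hN.ne', ?_⟩
    intro p hp hp1
    exact absurd (Nat.dvd_one.mp hp1) hp.one_lt.ne'
  obtain ⟨m, hmS, hmax⟩ := S.exists_max_image id ⟨1, h1⟩
  rw [hS, Finset.mem_filter] at hmS
  obtain ⟨hmN, hmπ⟩ := hmS
  obtain ⟨n, rfl⟩ := (Nat.mem_divisors.mp hmN).1
  refine ⟨m, n, rfl, hmπ, ?_⟩
  intro p hp hpπ hpn
  obtain ⟨n', rfl⟩ := hpn
  have hm0 : 0 < m := Nat.pos_of_ne_zero (by rintro rfl; simp at hN)
  have hmem : m * p ∈ S := by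
    rw [hS, Finset.mem_filter]
    refine ⟨Nat.mem_divisors.mpr ⟨⟨n', by ring⟩, hN.ne'⟩, ?_⟩
    intro q hq hqd
    rcases (Nat.Prime.dvd_mul hq).mp hqd with h | h
    · exact hmπ q hq h
    · rw [(Nat.prime_dvd_prime_iff_eq hq hp).mp h]; exact hpπ
  have := hmax (m * p) hmem
  simp only [id] at this
  have : m * p ≤ m * 1 := by rw [mul_one]; exact this
  have := Nat.le_of_mul_le_mul_left this hm0
  exact absurd this (not_le.mpr hp.one_lt)

/-- `H` is a Hall `π`-subgroup of `M`, in cardinality form. -/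
def PiHall {G : Type*} [Group G] (π : Set ℕ) (H M : Subgroup G) : Prop :=
  H ≤ M ∧ (∀ p : ℕ, p.Prime → p ∣ Nat.card H → p ∈ π) ∧
    ∀ p : ℕ, p.Prime → p ∈ π → ¬ p ∣ Nat.card M / Nat.card H

theorem relIndex_eq_div {G : Type*} [Group G] [Finite G] {H M : Subgroup G} (h : H ≤ M) :
    H.relIndex M = Nat.card M / Nat.card H := by
  have h1 : H.relIndex M * Nat.card H = Nat.card M := by
    rw [Subgroup.relIndex, ← card_subgroupOf_of_le h, Subgroup.index_mul_card]
  rw [← h1, Nat.mul_div_cancel _ Nat.card_pos]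

theorem isPiHallOf_iff {G : Type*} [Group G] [Finite G] (π : Set ℕ) (H M : Subgroup G) :
    Cfsg.IsPiHallOf π H M ↔ PiHall π H M := by
  unfold Cfsg.IsPiHallOf PiHall
  constructor
  · rintro ⟨h1, h2, h3⟩
    refine ⟨h1, h2, ?_⟩
    rw [← relIndex_eq_div h1]; exact h3
  · rintro ⟨h1, h2, h3⟩
    refine ⟨h1, h2, ?_⟩
    rw [relIndex_eq_div h1]; exact h3

theorem PiHall.card_mul {G : Type*} [Group G] [Finite G] {π : Set ℕ} {H M : Subgroup G}
    (h : PiHall π H M) : Nat.card H * (Nat.card M / Nat.card H) = Nat.card M :=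
  Nat.mul_div_cancel' (Subgroup.card_dvd_of_le h.1)

theorem PiHall.coprime {G : Type*} [Group G] [Finite G] {π : Set ℕ} {H M : Subgroup G}
    (h : PiHall π H M) : (Nat.card H).Coprime (Nat.card M / Nat.card H) :=
  Nat.coprime_of_dvd fun p hp hpH => h.2.2 p hp (h.2.1 p hp hpH)

/-- A `π`-subgroup of `M` has order dividing the order of any Hall `π`-subgroup of `M`. -/
theorem PiHall.card_dvd {G : Type*} [Group G] [Finite G] {π : Set ℕ} {H M U : Subgroup G}
    (h : PiHall π H M) (hU : U ≤ M) (hUπ : ∀ p : ℕ, p.Prime → p ∣ Nat.card U → p ∈ π) :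
    Nat.card U ∣ Nat.card H := by
  have hcop : (Nat.card U).Coprime (Nat.card M / Nat.card H) :=
    Nat.coprime_of_dvd fun p hp hpU => h.2.2 p hp (hUπ p hp hpU)
  have hd : Nat.card U ∣ Nat.card H * (Nat.card M / Nat.card H) := by
    rw [h.card_mul]; exact Subgroup.card_dvd_of_le hU
  exact hcop.dvd_of_dvd_mul_right hd

theorem PiHall.card_eq {G : Type*} [Group G] [Finite G] {π : Set ℕ} {H₁ H₂ M : Subgroup G}
    (h₁ : PiHall π H₁ M) (h₂ : PiHall π H₂ M) : Nat.card H₁ = Nat.card H₂ :=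
  Nat.dvd_antisymm (h₂.card_dvd h₁.1 h₁.2.1) (h₁.card_dvd h₂.1 h₂.2.1)

/-- A `π`-subgroup of `M` of the right order is a Hall `π`-subgroup. -/
theorem PiHall.of_card_eq {G : Type*} [Group G] [Finite G] {π : Set ℕ} {H M K : Subgroup G}
    (h : PiHall π H M) (hK : K ≤ M) (hc : Nat.card K = Nat.card H) : PiHall π K M :=
  ⟨hK, fun p hp hpK => h.2.1 p hp (hc ▸ hpK), fun p hp hpπ => by rw [hc]; exact h.2.2 p hp hpπ⟩

theorem PiHall.map_conj {G : Type*} [Group G] [Finite G] {π : Set ℕ} {H M : Subgroup G}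
    (h : PiHall π H M) (t : G) (ht : t ∈ Subgroup.normalizer (M : Set G)) :
    PiHall π (H.map (MulAut.conj t).toMonoidHom) M := by
  refine ⟨?_, ?_, ?_⟩
  · have := Subgroup.map_mono (f := (MulAut.conj t).toMonoidHom) h.1
    rwa [mem_normalizer_iff_map_conj.mp ht] at this
  · rw [card_map_conj]; exact h.2.1
  · rw [card_map_conj]; exact h.2.2

/-- Existence of Hall `π`-subgroups of a solvable subgroup. -/
theorem exists_piHall {G : Type*} [Group G] [Finite G] (π : Set ℕ) (M : Subgroup G)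
    (hsolv : Group.IsSolvable M) : ∃ H, PiHall π H M := by
  obtain ⟨m, n, hmn, hm, hn⟩ := pi_split (Nat.card M) Nat.card_pos π
  have hcop : m.Coprime n := Nat.coprime_of_dvd fun p hp hpm => hn p hp (hm p hp hpm)
  obtain ⟨H', hH'⟩ := Cfsg.Agent.Lib.Helper1_Hall.hall_exists (G := M) m n hmn hcop
  refine ⟨H'.map M.subtype, Subgroup.map_subtype_le H', ?_, ?_⟩
  · rw [Subgroup.card_map_of_injective M.subtype_injective, hH']; exact hm
  · rw [Subgroup.card_map_of_injective M.subtype_injective, hH', hmn]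
    have hm0 : 0 < m := Nat.pos_of_ne_zero (by
      rintro rfl
      rw [zero_mul] at hmn
      exact Nat.card_pos.ne' hmn)
    rw [Nat.mul_div_cancel_left _ hm0]
    exact hn

/-- Hall `π`-subgroups of a solvable subgroup `M` are conjugate under `M`. -/
theorem piHall_conj {G : Type*} [Group G] [Finite G] {π : Set ℕ} {M H₁ H₂ : Subgroup G}
    (hsolv : Group.IsSolvable M) (h₁ : PiHall π H₁ M) (h₂ : PiHall π H₂ M) :
    ∃ g ∈ M, H₁.map (MulAut.conj g).toMonoidHom = H₂ := by
  obtain ⟨g, hg⟩ := Cfsg.Agent.Lib.Helper1_Hall.hall_conj (G := M) (Nat.card H₁)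
    (Nat.card M / Nat.card H₁) h₁.card_mul.symm h₁.coprime (H₁.subgroupOf M) (H₂.subgroupOf M)
    (card_subgroupOf_of_le h₁.1) (by rw [card_subgroupOf_of_le h₂.1]; exact (h₁.card_eq h₂).symm)
  exact ⟨g, g.2, conj_of_subgroupOf M H₁ H₂ h₁.1 h₂.1 g hg⟩

/-- Dominance: a `π`-subgroup of a solvable subgroup `M` lies in a Hall `π`-subgroup of `M`. -/
theorem exists_piHall_ge {G : Type*} [Group G] [Finite G] {π : Set ℕ} {M U : Subgroup G}
    (hsolv : Group.IsSolvable M) (hU : U ≤ M)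
    (hUπ : ∀ p : ℕ, p.Prime → p ∣ Nat.card U → p ∈ π) : ∃ H, PiHall π H M ∧ U ≤ H := by
  obtain ⟨H₀, h₀⟩ := exists_piHall π M hsolv
  have hcop : (Nat.card (U.subgroupOf M)).Coprime (Nat.card M / Nat.card H₀) := by
    rw [card_subgroupOf_of_le hU]
    exact Nat.coprime_of_dvd fun p hp hpU => h₀.2.2 p hp (hUπ p hp hpU)
  obtain ⟨H', hH', hUH'⟩ := Cfsg.Agent.Lib.Helper1_Hall.hall_dominance (G := M) (Nat.card H₀)
    (Nat.card M / Nat.card H₀) h₀.card_mul.symm h₀.coprime (U.subgroupOf M) hcop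
  refine ⟨H'.map M.subtype, h₀.of_card_eq (Subgroup.map_subtype_le H') ?_, ?_⟩
  · rw [Subgroup.card_map_of_injective M.subtype_injective, hH']
  · have := Subgroup.map_mono (f := M.subtype) hUH'
    rwa [Subgroup.map_subgroupOf_eq_of_le hU] at this

/-! ### Coprime action and Hall subgroups -/

/-- **Coprime action: an invariant Hall `π`-subgroup exists.** -/
theorem exists_invariant_piHall {G : Type*} [Group G] [Finite G] (A K : Subgroup G)
    (hAK : A ≤ Subgroup.normalizer (K : Set G)) (hcop : (Nat.card A).Coprime (Nat.card K))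
    (hsolv : Group.IsSolvable K) (π : Set ℕ) :
    ∃ H, PiHall π H K ∧ A ≤ Subgroup.normalizer (H : Set G) := by
  obtain ⟨H₀, h₀⟩ := exists_piHall π K hsolv
  have hTN : K ⊔ A ≤ Subgroup.normalizer (K : Set G) := sup_le Subgroup.le_normalizer hAK
  exact exists_invariant_of_transitive A K hAK hcop (Or.inr hsolv) {H | PiHall π H K} H₀ h₀
    (fun H hH t ht => hH.map_conj t (hTN ht)) (fun H₁ h₁ H₂ h₂ => piHall_conj hsolv h₁ h₂)

/-- **Coprime action: invariant Hall `π`-subgroups are conjugate under `C_K(A)`.** -/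
theorem invariant_piHall_conj {G : Type*} [Group G] [Finite G] (A K : Subgroup G)
    (hAK : A ≤ Subgroup.normalizer (K : Set G)) (hcop : (Nat.card A).Coprime (Nat.card K))
    (hsolv : Group.IsSolvable K) (π : Set ℕ) (H₁ H₂ : Subgroup G)
    (h₁ : PiHall π H₁ K) (h₂ : PiHall π H₂ K)
    (hA₁ : A ≤ Subgroup.normalizer (H₁ : Set G)) (hA₂ : A ≤ Subgroup.normalizer (H₂ : Set G)) :
    ∃ c ∈ K ⊓ Subgroup.centralizer (A : Set G), H₁.map (MulAut.conj c).toMonoidHom = H₂ := by
  obtain ⟨κ, hκ, hκH⟩ := piHall_conj hsolv h₁ h₂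
  exact invariant_conj_of_transitive A K hAK hcop (Or.inr hsolv) H₁ H₂ κ hκ hκH hA₁ hA₂

theorem card_sup_of_disjoint' {G : Type*} [Group G] [Finite G] (A K : Subgroup G)
    (hAK : A ≤ Subgroup.normalizer (K : Set G)) (hdisj : K ⊓ A = ⊥) :
    Nat.card ↥(K ⊔ A) = Nat.card K * Nat.card A := by
  obtain ⟨_, hc⟩ := isComplement'_subgroupOf_sup A K hAK hdisj
  rw [← hc.card_mul_card, card_subgroupOf_of_le le_sup_left, card_subgroupOf_of_le le_sup_right]

/-- Elements normalizing `U` normalize its centralizer. -/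
theorem normalizer_le_normalizer_centralizer {G : Type*} [Group G] (U : Subgroup G) :
    Subgroup.normalizer (U : Set G) ≤
      Subgroup.normalizer ((Subgroup.centralizer (U : Set G) : Subgroup G) : Set G) := by
  intro a ha
  have key : ∀ b : G, b ∈ Subgroup.normalizer (U : Set G) →
      ∀ x ∈ Subgroup.centralizer (U : Set G), b * x * b⁻¹ ∈ Subgroup.centralizer (U : Set G) := by
    intro b hb x hx
    rw [Subgroup.mem_centralizer_iff]
    intro u hu
    have hu' : b⁻¹ * u * b ∈ U := by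
      have := (Subgroup.mem_normalizer_iff.mp (Subgroup.inv_mem _ hb) u).mp hu
      simpa using this
    have hc := Subgroup.mem_centralizer_iff.mp hx _ hu'
    calc u * (b * x * b⁻¹) = b * ((b⁻¹ * u * b) * x) * b⁻¹ := by group
      _ = b * (x * (b⁻¹ * u * b)) * b⁻¹ := by rw [hc]
      _ = b * x * b⁻¹ * u := by group
  rw [Subgroup.mem_normalizer_iff]
  intro x
  constructor
  · exact key a ha x
  · intro hx
    have := key a⁻¹ (Subgroup.inv_mem _ ha) _ hx
    have e : a⁻¹ * (a * x * a⁻¹) * a⁻¹⁻¹ = x := by group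
    rwa [e] at this

/-- The case of a normal `π'`-subgroup `M` with `π`-quotient. -/
theorem exists_invariant_piHall_ge_of_normal {G : Type*} [Group G] [Finite G] (π : Set ℕ)
    (A K M U : Subgroup G)
    (hAK : A ≤ Subgroup.normalizer (K : Set G)) (hcop : (Nat.card A).Coprime (Nat.card K))
    (hsolv : Group.IsSolvable K) (hMK : M ≤ K) (hKM : K ≤ Subgroup.normalizer (M : Set G))
    (hAM : A ≤ Subgroup.normalizer (M : Set G))
    (hMπ : ∀ p : ℕ, p.Prime → p ∣ Nat.card M → p ∉ π)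
    (hQπ : ∀ p : ℕ, p.Prime → p ∣ Nat.card K / Nat.card M → p ∈ π)
    (hUK : U ≤ K) (hAU : A ≤ Subgroup.normalizer (U : Set G))
    (hUπ : ∀ p : ℕ, p.Prime → p ∣ Nat.card U → p ∈ π) :
    ∃ H, PiHall π H K ∧ A ≤ Subgroup.normalizer (H : Set G) ∧ U ≤ H := by
  set C : Subgroup G := M ⊓ Subgroup.centralizer (U : Set G) with hC
  have hCK : C ≤ K := inf_le_left.trans hMK
  have hAC : A ≤ Subgroup.normalizer (C : Set G) :=
    (le_inf hAM (hAU.trans (normalizer_le_normalizer_centralizer U))).trans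
      Subgroup.inf_normalizer_le_normalizer_inf
  have hcopC : (Nat.card A).Coprime (Nat.card C) :=
    Nat.Coprime.coprime_dvd_right (Subgroup.card_dvd_of_le hCK) hcop
  have hsolvC : Group.IsSolvable C := isSolvable_of_le hCK hsolv
  obtain ⟨H₀, h₀, hUH₀⟩ := exists_piHall_ge hsolv hUK hUπ
  have hCAN : C ⊔ A ≤ Subgroup.normalizer (K : Set G) :=
    sup_le (hCK.trans Subgroup.le_normalizer) hAK
  have hCAU : C ⊔ A ≤ Subgroup.normalizer (U : Set G) :=
    sup_le (inf_le_right.trans (Subgroup.centralizer_le_normalizer _)) hAU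
  -- facts about Hall subgroups here
  have hdisjH : ∀ H, PiHall π H K → M ⊓ H = ⊥ := by
    intro H hH
    refine (Subgroup.disjoint_of_coprime_natCard ?_).eq_bot
    exact Nat.coprime_of_dvd fun p hp hpM hpH => hMπ p hp hpM (hH.2.1 p hp hpH)
  have hcardH : ∀ H, PiHall π H K → Nat.card M * Nat.card H = Nat.card K := by
    intro H hH
    have hMd : Nat.card M ∣ Nat.card K := Subgroup.card_dvd_of_le hMK
    have e1 : Nat.card M * (Nat.card K / Nat.card M) = Nat.card K := Nat.mul_div_cancel' hMd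
    have e2 := hH.card_mul
    -- `card H ∣ card K / card M` and conversely
    have hc1 : (Nat.card H).Coprime (Nat.card M) :=
      Nat.coprime_of_dvd fun p hp hpH hpM => hMπ p hp hpM (hH.2.1 p hp hpH)
    have hd1 : Nat.card H ∣ Nat.card K / Nat.card M := by
      apply hc1.dvd_of_dvd_mul_left
      rw [e1]; exact Subgroup.card_dvd_of_le hH.1
    have hc2 : (Nat.card K / Nat.card M).Coprime (Nat.card K / Nat.card H) :=
      Nat.coprime_of_dvd fun p hp hp1 hp2 => hH.2.2 p hp (hQπ p hp hp1) hp2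
    have hd2 : Nat.card K / Nat.card M ∣ Nat.card H := by
      apply hc2.dvd_of_dvd_mul_right
      rw [e2]; exact ⟨Nat.card M, by rw [mul_comm]; exact e1.symm⟩
    rw [Nat.dvd_antisymm hd1 hd2, e1]
  have hsupH : ∀ H, PiHall π H K → M ⊔ H = K := by
    intro H hH
    apply Subgroup.eq_of_le_of_card_ge (sup_le hMK hH.1)
    rw [card_sup_of_disjoint' H M (hH.1.trans hKM) (hdisjH H hH), hcardH H hH]
  obtain ⟨H, ⟨hH, hUH⟩, hAH⟩ := exists_invariant_of_transitive A C hAC hcopC (Or.inr hsolvC)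
    {H | PiHall π H K ∧ U ≤ H} H₀ ⟨h₀, hUH₀⟩
    (by
      rintro H ⟨hH, hUH⟩ t ht
      refine ⟨hH.map_conj t (hCAN ht), ?_⟩
      have := Subgroup.map_mono (f := (MulAut.conj t).toMonoidHom) hUH
      rwa [mem_normalizer_iff_map_conj.mp (hCAU ht)] at this)
    (by
      rintro H₁ ⟨h₁, hU₁⟩ H₂ ⟨h₂, hU₂⟩
      obtain ⟨g, hg, hgH⟩ := piHall_conj hsolv h₁ h₂
      rw [← hsupH H₁ h₁] at hg
      obtain ⟨m, hm, h, hh, rfl⟩ := exists_mul_of_mem_sup H₁ M (h₁.1.trans hKM) hg
      have hmH : H₁.map (MulAut.conj m).toMonoidHom = H₂ := by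
        rw [← hgH, ← map_conj_mul, map_conj_of_mem H₁ hh]
      refine ⟨m, ⟨hm, Subgroup.mem_centralizer_iff.mpr ?_⟩, hmH⟩
      intro u hu
      have hu2 : u ∈ H₁.map (MulAut.conj m).toMonoidHom := by rw [hmH]; exact hU₂ hu
      obtain ⟨y, hy, hyu⟩ := hu2
      have hy' : y = m⁻¹ * u * m := by
        rw [← hyu]; simp [mul_assoc]
      have h1 : u⁻¹ * (m⁻¹ * u * m) ∈ H₁ := H₁.mul_mem (H₁.inv_mem (hU₁ hu)) (hy' ▸ hy)
      have h2 : u⁻¹ * (m⁻¹ * u * m) ∈ M := by
        have hun : u⁻¹ ∈ Subgroup.normalizer (M : Set G) :=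
          Subgroup.inv_mem _ (hKM (hUK hu))
        have h3 : u⁻¹ * m⁻¹ * u⁻¹⁻¹ ∈ M :=
          (Subgroup.mem_normalizer_iff.mp hun m⁻¹).mp (M.inv_mem hm)
        have e : u⁻¹ * (m⁻¹ * u * m) = (u⁻¹ * m⁻¹ * u⁻¹⁻¹) * m := by group
        rw [e]; exact M.mul_mem h3 hm
      have h3 : u⁻¹ * (m⁻¹ * u * m) ∈ M ⊓ H₁ := ⟨h2, h1⟩
      rw [hdisjH H₁ h₁, Subgroup.mem_bot] at h3
      have : m * u⁻¹ * (m⁻¹ * u * m) = m := by
        rw [mul_assoc m, h3, mul_one]
      calc u * m = m * (m⁻¹ * u * m) := by group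
        _ = m * (u * (u⁻¹ * (m⁻¹ * u * m))) := by group
        _ = m * u := by rw [h3, mul_one])
  exact ⟨H, hH, hAH, hUH⟩

theorem div_chain {a b c : ℕ} (ha : 0 < a) (hab : a ∣ b) (hbc : b ∣ c) (hb : 0 < b) :
    c / a = (c / b) * (b / a) := by
  obtain ⟨x, rfl⟩ := hab
  obtain ⟨y, rfl⟩ := hbc
  rw [Nat.mul_div_cancel_left _ ha, Nat.mul_div_cancel_left _ hb, mul_assoc,
    Nat.mul_div_cancel_left _ ha, mul_comm]

universe u

/-- **Coprime action: an invariant `π`-subgroup lies in an invariant Hall `π`-subgroup** (normal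
formulation, by induction on the order through quotients). -/
theorem exists_invariant_piHall_ge_aux (π : Set ℕ) : ∀ n : ℕ, ∀ (Γ : Type u) [Group Γ] [Finite Γ]
    (A K U : Subgroup Γ), K.Normal → Nat.card K = n → (Nat.card A).Coprime (Nat.card K) →
    Group.IsSolvable K → U ≤ K → A ≤ Subgroup.normalizer (U : Set Γ) →
    (∀ p : ℕ, p.Prime → p ∣ Nat.card U → p ∈ π) →
    ∃ H, PiHall π H K ∧ A ≤ Subgroup.normalizer (H : Set Γ) ∧ U ≤ H := by
  intro n
  induction n using Nat.strong_induction_on with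
  | _ n ih =>
  intro Γ _ _ A K U hKn hn hcop hsolv hUK hAU hUπ
  subst hn
  by_cases hK : K = ⊥
  · subst hK
    refine ⟨⊥, ⟨le_rfl, ?_, ?_⟩, ?_, hUK⟩
    · intro p hp hpd
      rw [Subgroup.card_bot] at hpd
      exact absurd (Nat.dvd_one.mp hpd) hp.one_lt.ne'
    · intro p hp _ hpd
      rw [Subgroup.card_bot, Nat.div_self one_pos] at hpd
      exact absurd (Nat.dvd_one.mp hpd) hp.one_lt.ne'
    · rw [Subgroup.normalizer_eq_top]
      exact le_top
  · obtain ⟨M, hMn, hMK, hM1, -, q, hq, hMq⟩ :=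
      Cfsg.Agent.Lib.Helper1_MinNormal.exists_elementary_abelian_normal_le K hsolv hK
    set mk := QuotientGroup.mk' M with hmkdef
    have hmk : Function.Surjective mk := QuotientGroup.mk'_surjective M
    have hker : mk.ker = M := QuotientGroup.ker_mk' M
    have hcardcomap : ∀ T : Subgroup (Γ ⧸ M),
        Nat.card (T.comap mk) = Nat.card T * Nat.card M := by
      intro T
      have h1 : (T.comap mk).index = T.index := Subgroup.index_comap_of_surjective T hmk
      have h2 := (T.comap mk).card_mul_index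
      have h3 := T.card_mul_index
      have h4 := Subgroup.card_eq_card_quotient_mul_card_subgroup M
      have hpos : 0 < T.index := Nat.pos_of_ne_zero Subgroup.index_ne_zero_of_finite
      apply Nat.eq_of_mul_eq_mul_right hpos
      rw [← h1, h2, h4, ← h3, h1]; ring
    have hcardmap : ∀ S : Subgroup Γ, M ≤ S →
        Nat.card S = Nat.card (S.map mk) * Nat.card M := by
      intro S hS
      rw [← hcardcomap, Subgroup.comap_map_eq_self (by rw [hker]; exact hS)]
    have hMcard : 1 < Nat.card M := (Subgroup.one_lt_card_iff_ne_bot M).mpr hM1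
    have hlt : Nat.card (K.map mk) < Nat.card K := by
      rw [hcardmap K hMK]
      have : 0 < Nat.card (K.map mk) := Nat.card_pos
      nlinarith
    have hcop' : (Nat.card (A.map mk)).Coprime (Nat.card (K.map mk)) :=
      Nat.Coprime.coprime_dvd_left (Subgroup.card_map_dvd A mk)
        (Nat.Coprime.coprime_dvd_right (Subgroup.card_map_dvd K mk) hcop)
    have hsolv' : Group.IsSolvable (K.map mk) :=
      Group.isSolvable_of_surjective (mk.subgroupMap_surjective K)
    have hnorm' : A.map mk ≤ Subgroup.normalizer ((U.map mk : Subgroup (Γ ⧸ M)) : Set (Γ ⧸ M)) :=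
      (Subgroup.map_mono hAU).trans (Subgroup.le_normalizer_map mk)
    have hπ' : ∀ p : ℕ, p.Prime → p ∣ Nat.card (U.map mk) → p ∈ π := fun p hp hpd =>
      hUπ p hp (hpd.trans (Subgroup.card_map_dvd U mk))
    obtain ⟨Hbar, hHbar, hAHbar, hUHbar⟩ := ih _ hlt (Γ ⧸ M) (A.map mk) (K.map mk) (U.map mk)
      (hKn.map mk hmk) rfl hcop' hsolv' (Subgroup.map_mono hUK) hnorm' hπ'
    set H₁ := Hbar.comap mk with hH₁
    have hMH₁ : M ≤ H₁ := by
      rw [← hker]; exact Subgroup.ker_le_comap mk Hbar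
    have hH₁K : H₁ ≤ K := by
      have := Subgroup.comap_mono (f := mk) hHbar.1
      rwa [Subgroup.comap_map_eq, hker, sup_eq_left.mpr hMK] at this
    have hAH₁ : A ≤ Subgroup.normalizer (H₁ : Set Γ) :=
      (Subgroup.le_comap_map mk A).trans
        ((Subgroup.comap_mono hAHbar).trans (Subgroup.le_normalizer_comap mk))
    have hUH₁ : U ≤ H₁ := (Subgroup.le_comap_map mk U).trans (Subgroup.comap_mono hUHbar)
    have hc1 : Nat.card H₁ = Nat.card Hbar * Nat.card M := hcardcomap Hbar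
    have hc2 : Nat.card K = Nat.card (K.map mk) * Nat.card M := hcardmap K hMK
    have hMp : IsPGroup q M := by
      intro x
      refine ⟨1, ?_⟩
      apply Subtype.ext
      rw [pow_one]
      simpa using hMq x x.2
    have hMprime : ∀ p : ℕ, p.Prime → p ∣ Nat.card M → p = q := by
      intro p hp hpd
      have : Fact q.Prime := ⟨hq⟩
      obtain ⟨k, hk⟩ := IsPGroup.iff_card.mp hMp
      rw [hk] at hpd
      exact (Nat.prime_dvd_prime_iff_eq hp hq).mp (hp.dvd_of_dvd_pow hpd)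
    by_cases hqπ : q ∈ π
    · refine ⟨H₁, ⟨hH₁K, ?_, ?_⟩, hAH₁, hUH₁⟩
      · intro p hp hpd
        rw [hc1] at hpd
        rcases (Nat.Prime.dvd_mul hp).mp hpd with h | h
        · exact hHbar.2.1 p hp h
        · rw [hMprime p hp h]; exact hqπ
      · intro p hp hpπ
        rw [hc1, hc2, Nat.mul_div_mul_right _ _ Nat.card_pos]
        exact hHbar.2.2 p hp hpπ
    · have hMtop : Subgroup.normalizer (M : Set Γ) = ⊤ := Subgroup.normalizer_eq_top M
      obtain ⟨H, hH, hAH, hUH⟩ := exists_invariant_piHall_ge_of_normal π A H₁ M U hAH₁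
        (Nat.Coprime.coprime_dvd_right (Subgroup.card_dvd_of_le hH₁K) hcop)
        (isSolvable_of_le hH₁K hsolv) hMH₁ (by rw [hMtop]; exact le_top)
        (by rw [hMtop]; exact le_top)
        (fun p hp hpd => by rw [hMprime p hp hpd]; exact hqπ)
        (fun p hp hpd => by
          rw [hc1, Nat.mul_div_cancel _ Nat.card_pos] at hpd
          exact hHbar.2.1 p hp hpd)
        hUH₁ hAU hUπ
      refine ⟨H, ⟨hH.1.trans hH₁K, hH.2.1, ?_⟩, hAH, hUH⟩
      intro p hp hpπ hpd
      rw [div_chain Nat.card_pos (Subgroup.card_dvd_of_le hH.1) (Subgroup.card_dvd_of_le hH₁K)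
        Nat.card_pos] at hpd
      rcases (Nat.Prime.dvd_mul hp).mp hpd with h | h
      · rw [hc1, hc2, Nat.mul_div_mul_right _ _ Nat.card_pos] at h
        exact hHbar.2.2 p hp hpπ h
      · exact hH.2.2 p hp hpπ h

/-- **Coprime action: an invariant `π`-subgroup of a solvable group lies in an invariant Hall
`π`-subgroup.** -/
theorem exists_invariant_piHall_ge {G : Type u} [Group G] [Finite G] (π : Set ℕ)
    (A K U : Subgroup G) (hAK : A ≤ Subgroup.normalizer (K : Set G))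
    (hcop : (Nat.card A).Coprime (Nat.card K)) (hsolv : Group.IsSolvable K) (hUK : U ≤ K)
    (hAU : A ≤ Subgroup.normalizer (U : Set G))
    (hUπ : ∀ p : ℕ, p.Prime → p ∣ Nat.card U → p ∈ π) :
    ∃ H, PiHall π H K ∧ A ≤ Subgroup.normalizer (H : Set G) ∧ U ≤ H := by
  set L : Subgroup G := Subgroup.normalizer (K : Set G) with hL
  have hKL : K ≤ L := Subgroup.le_normalizer
  have hUL : U ≤ L := hUK.trans hKL
  have hKn : (K.subgroupOf L).Normal := Subgroup.normal_in_normalizer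
  have hsolv' : Group.IsSolvable (K.subgroupOf L) :=
    Group.isSolvable_of_isSolvable_injective (f := (Subgroup.subgroupOfEquivOfLe hKL).toMonoidHom)
      (Subgroup.subgroupOfEquivOfLe hKL).injective
  have hcop' : (Nat.card (A.subgroupOf L)).Coprime (Nat.card (K.subgroupOf L)) := by
    rw [card_subgroupOf_of_le hAK, card_subgroupOf_of_le hKL]; exact hcop
  have hAU' : A.subgroupOf L ≤
      Subgroup.normalizer ((U.subgroupOf L : Subgroup L) : Set L) := by
    intro a ha
    rw [Subgroup.mem_normalizer_iff]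
    intro x
    rw [Subgroup.mem_subgroupOf, Subgroup.mem_subgroupOf]
    exact Subgroup.mem_normalizer_iff.mp (hAU (Subgroup.mem_subgroupOf.mp ha)) x
  obtain ⟨H', hH', hAH', hUH'⟩ := exists_invariant_piHall_ge_aux π _ L (A.subgroupOf L)
    (K.subgroupOf L) (U.subgroupOf L) hKn rfl hcop' hsolv'
    (fun x hx => hUK (Subgroup.mem_subgroupOf.mp hx)) hAU'
    (fun p hp hpd => hUπ p hp (by rwa [card_subgroupOf_of_le hUL] at hpd))
  refine ⟨H'.map L.subtype, ⟨?_, ?_, ?_⟩, ?_, ?_⟩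
  · rintro _ ⟨y, hy, rfl⟩
    exact Subgroup.mem_subgroupOf.mp (hH'.1 hy)
  · rw [Subgroup.card_map_of_injective L.subtype_injective]; exact hH'.2.1
  · rw [Subgroup.card_map_of_injective L.subtype_injective, ← card_subgroupOf_of_le hKL]
    exact hH'.2.2
  · intro a ha
    have ha' : (⟨a, hAK ha⟩ : L) ∈ Subgroup.normalizer (H' : Set L) :=
      hAH' (Subgroup.mem_subgroupOf.mpr ha)
    rw [mem_normalizer_iff_map_conj] at ha' ⊢
    have h2 : L.subtype.comp (MulAut.conj (⟨a, hAK ha⟩ : L)).toMonoidHom =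
        (MulAut.conj a).toMonoidHom.comp L.subtype := by
      ext x; simp
    rw [Subgroup.map_map, ← h2, ← Subgroup.map_map, ha']
  · intro u hu
    exact ⟨⟨u, hUL hu⟩, hUH' (Subgroup.mem_subgroupOf.mpr hu), rfl⟩

end Cfsg.Agent.Lib.Helper24_CoprimeHall
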