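import Mathlib.GroupTheory.Sylow
import Mathlib.GroupTheory.PGroup
import Cfsg.Prelude.Def_CaseTheorems

/-!
# `p`-rank and quotients by `p'`-subgroups (helper2)

* `pRankLE_of_injective'`, `pRankLE_subgroup'`: the `p`-rank bound passes to subgroups.
* `pRankLE_quotient_of_coprime`: it passes to the quotient by a normal subgroup of order prime to `p`.
-/

set_option autoImplicit false

namespace Cfsg.Agent.Lib.Helper2_PRank

open Cfsg

/-- The `p`-rank bound transfers backwards along an injective homomorphism. -/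
theorem pRankLE_of_injective' {A B : Type*} [Group A] [Group B] (p k : ℕ) (f : A →* B)
    (hf : Function.Injective f) (h : Cfsg.PRankLE p k B) : Cfsg.PRankLE p k A := by
  intro E hE hexp
  have h1 : IsMulCommutative ↥(E.map f) := by
    refine ⟨⟨?_⟩⟩
    rintro ⟨x, hx⟩ ⟨y, hy⟩
    obtain ⟨a, ha, rfl⟩ := hx
    obtain ⟨b, hb, rfl⟩ := hy
    apply Subtype.ext
    show f a * f b = f b * f a
    have : (⟨a, ha⟩ : E) * ⟨b, hb⟩ = ⟨b, hb⟩ * ⟨a, ha⟩ := isMulCommutative_iff.mp hE _ _
    have h2 : a * b = b * a := congrArg Subtype.val this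
    rw [← map_mul, ← map_mul, h2]
  have h2 : ∀ x ∈ E.map f, x ^ p = 1 := by
    rintro x ⟨a, ha, rfl⟩
    rw [← map_pow, hexp a ha, map_one]
  have h3 := h (E.map f) h1 h2
  have h4 : Nat.card ↥(E.map f) = Nat.card E :=
    (Nat.card_congr (E.equivMapOfInjective f hf).toEquiv).symm
  rw [h4] at h3
  exact h3

theorem pRankLE_subgroup' {G : Type*} [Group G] {p k : ℕ} (h : Cfsg.PRankLE p k G)
    (H : Subgroup G) : Cfsg.PRankLE p k ↥H :=
  pRankLE_of_injective' p k H.subtype H.subtype_injective h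

/-- The `p`-rank bound passes to the quotient by a normal `p'`-subgroup. -/
theorem pRankLE_quotient_of_coprime {G : Type*} [Group G] [Finite G] {p k : ℕ} [Fact p.Prime]
    (K : Subgroup G) [K.Normal] (hK : (Nat.card K).Coprime p) (h : Cfsg.PRankLE p k G) :
    Cfsg.PRankLE p k (G ⧸ K) := by
  have hpP : p.Prime := Fact.out
  intro E hE hexp
  set Es : Subgroup G := E.comap (QuotientGroup.mk' K) with hEs
  have hEp : IsPGroup p ↥E := fun x => ⟨1, by
    apply Subtype.ext
    rw [pow_one, Subgroup.coe_pow]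
    exact hexp x.1 x.2⟩
  obtain ⟨j, hj⟩ := IsPGroup.iff_card.mp hEp
  -- the order of the preimage
  have hcardEs : Nat.card ↥Es = Nat.card ↥E * Nat.card ↥K := by
    have h1 : Es.index = E.index :=
      Subgroup.index_comap_of_surjective E (QuotientGroup.mk'_surjective K)
    have h2 := Subgroup.card_mul_index Es
    have h3 := Subgroup.card_mul_index E
    have h4 : Nat.card G = Nat.card (G ⧸ K) * Nat.card ↥K :=
      K.card_eq_card_quotient_mul_card_subgroup
    have h5 : E.index ≠ 0 := Subgroup.index_ne_zero_of_finite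
    have h6 : Nat.card ↥Es * E.index = Nat.card ↥E * Nat.card ↥K * E.index := by
      rw [← h1, h2, h4, ← h3, h1]
      ring
    exact Nat.eq_of_mul_eq_mul_right (Nat.pos_of_ne_zero h5) h6
  let P₀ : Sylow p ↥Es := default
  have hcardP : Nat.card ↥(P₀ : Subgroup ↥Es) = p ^ j := by
    have := P₀.card_eq_multiplicity
    rw [this, hcardEs, hj, Nat.factorization_mul (pow_ne_zero _ hpP.ne_zero) Nat.card_pos.ne']
    simp only [Finsupp.coe_add, Pi.add_apply]
    rw [Nat.Prime.factorization_pow hpP, Nat.factorization_eq_zero_of_not_dvd]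
    · simp
    · intro hdvd
      exact hpP.one_lt.ne' (Nat.eq_one_of_dvd_coprimes hK hdvd dvd_rfl)
  -- the embedding into `G`
  let g : ↥(P₀ : Subgroup ↥Es) →* G := Es.subtype.comp (P₀ : Subgroup ↥Es).subtype
  have hginj : Function.Injective g :=
    Es.subtype_injective.comp (P₀ : Subgroup ↥Es).subtype_injective
  let f : ↥(P₀ : Subgroup ↥Es) →* G ⧸ K := (QuotientGroup.mk' K).comp g
  have hfinj : Function.Injective f := by
    rw [injective_iff_map_eq_one]
    intro x hx
    have hxK : g x ∈ K := by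
      rw [← QuotientGroup.ker_mk' K, MonoidHom.mem_ker]
      exact hx
    obtain ⟨i, hi⟩ := P₀.isPGroup' x
    have h1 : orderOf (g x) ∣ p ^ i := by
      apply orderOf_dvd_of_pow_eq_one
      rw [← map_pow, hi, map_one]
    have h2 : orderOf (g x) ∣ Nat.card ↥K := by
      have := orderOf_dvd_natCard (⟨g x, hxK⟩ : ↥K)
      rwa [Subgroup.orderOf_mk] at this
    have h3 : orderOf (g x) = 1 :=
      Nat.eq_one_of_dvd_coprimes (Nat.Coprime.pow_right i hK) h2 h1
    rw [orderOf_eq_one_iff] at h3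
    exact hginj (by rw [h3, map_one])
  have hfE : f.range ≤ E := by
    rintro _ ⟨x, rfl⟩
    have : g x ∈ Es := (x : ↥Es).2
    exact this
  have hrange : f.range = E := by
    apply Subgroup.eq_of_le_of_card_ge hfE
    rw [← Nat.card_congr (MonoidHom.ofInjective hfinj).toEquiv, hcardP, hj]
  -- `P₀` is commutative of exponent `p`
  have hcomm : ∀ x y : ↥(P₀ : Subgroup ↥Es), x * y = y * x := by
    intro x y
    apply hfinj
    rw [map_mul, map_mul]
    have hx : f x ∈ E := hfE ⟨x, rfl⟩
    have hy : f y ∈ E := hfE ⟨y, rfl⟩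
    have := isMulCommutative_iff.mp hE ⟨_, hx⟩ ⟨_, hy⟩
    exact congrArg Subtype.val this
  have hexpP : ∀ x : ↥(P₀ : Subgroup ↥Es), x ^ p = 1 := by
    intro x
    apply hfinj
    rw [map_pow, map_one]
    exact hexp _ (hfE ⟨x, rfl⟩)
  have hgcomm : IsMulCommutative ↥g.range := by
    refine ⟨⟨?_⟩⟩
    rintro ⟨_, ⟨x, rfl⟩⟩ ⟨_, ⟨y, rfl⟩⟩
    apply Subtype.ext
    show g x * g y = g y * g x
    rw [← map_mul, ← map_mul, hcomm]
  have hgexp : ∀ a ∈ g.range, a ^ p = 1 := by
    rintro _ ⟨x, rfl⟩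
    rw [← map_pow, hexpP, map_one]
  have := h g.range hgcomm hgexp
  rw [← Nat.card_congr (MonoidHom.ofInjective hginj).toEquiv, hcardP] at this
  rw [hj]
  exact this

end Cfsg.Agent.Lib.Helper2_PRank
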