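import Mathlib
import Cfsg.Prelude.Def_Solvable
import Cfsg.Agent.Lib.Helper1_Cores

/-!
# A nilpotency criterion through the action on the `p`-cores (helper2)

* `mem_of_pow_mem_of_coprime`: `x ^ a, x ^ b ∈ H` with `a, b` coprime gives `x ∈ H`.
* `sylow_normal_of_quotient_isPGroup`: if `X / Z` is a `q`-group and `Z` normalizes the Sylow
  `q`-subgroup `P` then `P` is normal.
* `isNilpotent_of_acts_as_pGroups`: a normal subgroup `T` of a finite group `G` with
  `C_G(F(G)) ≤ F(G)` inducing a `q`-group of automorphisms on `O_q(G)` for every prime `q`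
  is nilpotent.
* `map_sylow_le_pCore`, `le_pCore_of_le_nilpotent`: the `q`-subgroups of a nilpotent normal
  subgroup lie in `O_q(G)`.
* `le_of_normal_of_coprime_index`, `le_of_le_normalizer_of_coprime_index`: absorbing subgroups into
  a Hall subgroup.
-/

set_option autoImplicit false

namespace Cfsg.Agent.Lib.Helper2_NilpCrit

open Subgroup Cfsg Cfsg.Agent.Lib.Helper1_Cores

variable {G : Type*} [Group G]

/-- If two coprime powers of `x` lie in `H` then so does `x`. -/
theorem mem_of_pow_mem_of_coprime (H : Subgroup G) {x : G} {a b : ℕ} (hab : a.Coprime b)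
    (ha : x ^ a ∈ H) (hb : x ^ b ∈ H) : x ∈ H := by
  have h1 : (x ^ a) ^ (a.gcdA b) * (x ^ b) ^ (a.gcdB b) = x := by
    rw [← zpow_natCast x a, ← zpow_natCast x b, ← zpow_mul, ← zpow_mul, ← zpow_add,
      ← Nat.gcd_eq_gcd_ab, hab.gcd_eq_one]
    simp
  rw [← h1]
  exact H.mul_mem (H.zpow_mem ha _) (H.zpow_mem hb _)

/-- If `X / Z` is a `q`-group and `Z` normalizes the Sylow `q`-subgroup `P`, then `P` is normal. -/
theorem sylow_normal_of_quotient_isPGroup {X : Type*} [Group X] [Finite X] {q : ℕ}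
    [Fact q.Prime] (Z : Subgroup X) [Z.Normal] (hq : ∀ x : X, ∃ k : ℕ, x ^ q ^ k ∈ Z)
    (P : Sylow q X) (hZ : Z ≤ normalizer ((P : Subgroup X) : Set X)) :
    (P : Subgroup X).Normal := by
  have hQ : IsPGroup q (X ⧸ Z) := by
    intro y
    induction y using QuotientGroup.induction_on with
    | H x =>
      obtain ⟨k, hk⟩ := hq x
      exact ⟨k, by rw [← QuotientGroup.mk_pow]; exact (QuotientGroup.eq_one_iff _).mpr hk⟩
  have hs : Function.Surjective (QuotientGroup.mk' Z) := QuotientGroup.mk'_surjective Z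
  have hP' : (P : Subgroup X).map (QuotientGroup.mk' Z) = ⊤ := by
    have h1 := (P.mapSurjective hs).is_maximal' (Q := ⊤) (hQ.to_subgroup ⊤) le_top
    rw [Sylow.coe_mapSurjective] at h1
    exact h1.symm
  have hsup : (P : Subgroup X) ⊔ Z = ⊤ := by
    have h1 := Subgroup.comap_map_eq (QuotientGroup.mk' Z) (P : Subgroup X)
    rw [hP', Subgroup.comap_top, QuotientGroup.ker_mk'] at h1
    exact h1.symm
  have hN : normalizer ((P : Subgroup X) : Set X) = ⊤ := by
    rw [eq_top_iff, ← hsup]
    exact sup_le Subgroup.le_normalizer hZ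
  exact Subgroup.normalizer_eq_top_iff.mp hN

section main

variable [Finite G]

/-- **Nilpotency criterion.** Let `T` be a normal subgroup of the finite group `G`, assume that
`C_G(F(G)) ≤ F(G)` and that for every prime `q` the group of automorphisms of `O_q(G)` induced by
`T` is a `q`-group. Then `T` is nilpotent. -/
theorem isNilpotent_of_acts_as_pGroups (T : Subgroup G) [hTn : T.Normal]
    (hT : ∀ q : ℕ, q.Prime → ∀ x ∈ T, ∃ k : ℕ, x ^ q ^ k ∈ centralizer (pCore q G : Set G))
    (hF : centralizer (fittingSubgroup G : Set G) ≤ fittingSubgroup G) :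
    Group.IsNilpotent ↥T := by
  refine (Group.isNilpotent_of_finite_tfae (G := ↥T)).out 3 0 |>.mp ?_
  intro q hq P
  have hqP : q.Prime := hq.out
  -- the subgroup `M`
  set M : Subgroup G :=
    T ⊓ ⨅ (r : Nat.Primes), ⨅ (_ : (r : ℕ) ≠ q), centralizer (pCore (r : ℕ) G : Set G) with hM
  have hMn : M.Normal := by
    have h1 : (⨅ (r : Nat.Primes), ⨅ (_ : (r : ℕ) ≠ q),
        centralizer (pCore (r : ℕ) G : Set G)).Normal := by
      apply Subgroup.normal_iInf_normal
      intro r
      apply Subgroup.normal_iInf_normal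
      intro _
      infer_instance
    exact Subgroup.normal_inf_normal _ _
  have hMT : M ≤ T := inf_le_left
  have hMcent : ∀ r : ℕ, r.Prime → r ≠ q → M ≤ centralizer (pCore r G : Set G) := by
    intro r hr hrq x hx
    have h1 := (Subgroup.mem_inf.mp hx).2
    exact Subgroup.mem_iInf.mp (Subgroup.mem_iInf.mp h1 ⟨r, hr⟩) hrq
  -- `P` lies in `M`
  have hPM : (P : Subgroup ↥T).map T.subtype ≤ M := by
    rintro _ ⟨x, hx, rfl⟩
    refine Subgroup.mem_inf.mpr ⟨x.2, Subgroup.mem_iInf.mpr fun r => Subgroup.mem_iInf.mpr fun hrq => ?_⟩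
    obtain ⟨j, hj⟩ := P.isPGroup' ⟨x, hx⟩
    have hj' : (x : G) ^ q ^ j = 1 := by
      have := congrArg (fun z : ↥(P : Subgroup ↥T) => ((z : ↥T) : G)) hj
      simpa using this
    obtain ⟨k, hk⟩ := hT r r.2 x x.2
    have hcop : ((r : ℕ) ^ k).Coprime (q ^ j) :=
      Nat.Coprime.pow _ _ ((Nat.coprime_primes r.2 hqP).mpr hrq)
    refine mem_of_pow_mem_of_coprime _ hcop hk ?_
    rw [Subgroup.coe_subtype, hj']
    exact one_mem _
  -- a Sylow subgroup of `M`
  let Q : Sylow q ↥M := default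
  set Qt : Subgroup G := (Q : Subgroup ↥M).map M.subtype with hQt
  have hQtM : Qt ≤ M := Subgroup.map_subtype_le _
  have hQtp : IsPGroup q ↥Qt := Q.isPGroup'.map _
  have hmemQ : ∀ y : ↥M, y ∈ (Q : Subgroup ↥M) ↔ (y : G) ∈ Qt := by
    intro y
    rw [hQt]
    constructor
    · intro hy
      exact ⟨y, hy, rfl⟩
    · rintro ⟨z, hz, hzy⟩
      have : z = y := Subtype.ext hzy
      rw [← this]
      exact hz
  -- `O_q(G)` normalizes `Qt`
  have hOq : pCore q G ≤ normalizer (Qt : Set G) := by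
    set P' : Subgroup G := Qt ⊔ pCore q G with hP'
    have hP'p : IsPGroup q ↥P' := hQtp.to_sup_of_normal_right (pCore_isPGroup q)
    have h1 : (P' ⊓ M).subgroupOf M = (Q : Subgroup ↥M) := by
      apply Q.is_maximal'
      · exact (hP'p.to_le inf_le_left).comap_subtype
      · intro y hy
        rw [Subgroup.mem_subgroupOf]
        exact ⟨(le_sup_left : Qt ≤ Qt ⊔ pCore q G) ((hmemQ y).mp hy), y.2⟩
    have h2 : P' ⊓ M = Qt := by
      rw [hQt, ← h1, Subgroup.map_subgroupOf_eq_of_le inf_le_right]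
    intro x hx
    have hxP' : x ∈ P' := (le_sup_right : pCore q G ≤ Qt ⊔ pCore q G) hx
    rw [Subgroup.mem_normalizer_iff, ← h2]
    intro h
    constructor
    · rintro ⟨h1, h2⟩
      exact ⟨P'.mul_mem (P'.mul_mem hxP' h1) (P'.inv_mem hxP'), hMn.conj_mem h h2 x⟩
    · rintro ⟨h1, h2⟩
      refine ⟨?_, ?_⟩
      · have := P'.mul_mem (P'.mul_mem (P'.inv_mem hxP') h1) hxP'
        simpa [mul_assoc] using this
      · have := hMn.conj_mem _ h2 x⁻¹
        simpa [mul_assoc] using this
  -- the Fitting subgroup normalizes `Qt`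
  have hFN : fittingSubgroup G ≤ normalizer (Qt : Set G) := by
    rw [fittingSubgroup_eq_iSup_pCore]
    apply iSup_le
    intro r
    by_cases hrq : (r : ℕ) = q
    · rw [hrq]
      exact hOq
    · have h1 : Qt ≤ centralizer (pCore (r : ℕ) G : Set G) :=
        hQtM.trans (hMcent r r.2 hrq)
      exact (Subgroup.le_centralizer_iff.mp h1).trans (Subgroup.centralizer_le_normalizer _)
  -- the subgroup `Z₁`
  set Z₁ : Subgroup G := M ⊓ centralizer (pCore q G : Set G) with hZ₁
  have hZ₁n : Z₁.Normal := Subgroup.normal_inf_normal _ _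
  have hZ₁F : Z₁ ≤ fittingSubgroup G := by
    refine le_trans ?_ hF
    rw [Subgroup.le_centralizer_iff, fittingSubgroup_eq_iSup_pCore]
    apply iSup_le
    intro r
    rw [← Subgroup.le_centralizer_iff]
    by_cases hrq : (r : ℕ) = q
    · rw [hrq]
      exact inf_le_right
    · exact inf_le_left.trans (hMcent r r.2 hrq)
  have hZ₁N : Z₁ ≤ normalizer (Qt : Set G) := hZ₁F.trans hFN
  -- `Q` is normal in `M`
  have hQn : (Q : Subgroup ↥M).Normal := by
    have : (Z₁.subgroupOf M).Normal := hZ₁n.subgroupOf M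
    apply sylow_normal_of_quotient_isPGroup (Z₁.subgroupOf M) _ Q
    · intro z hz
      rw [Subgroup.mem_subgroupOf] at hz
      have h1 := hZ₁N hz
      rw [Subgroup.mem_normalizer_iff] at h1 ⊢
      intro n
      have h2 := h1 (n : G)
      rw [hmemQ, hmemQ]
      exact h2
    · intro x
      obtain ⟨k, hk⟩ := hT q hqP (x : G) (hMT x.2)
      refine ⟨k, ?_⟩
      rw [Subgroup.mem_subgroupOf, Subgroup.coe_pow]
      exact ⟨M.pow_mem x.2 _, hk⟩
  have hQchar : (Q : Subgroup ↥M).Characteristic := Q.characteristic_of_normal hQn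
  have hQtn : Qt.Normal := by
    rw [hQt]
    exact ConjAct.normal_of_characteristic_of_normal
  -- `P` equals the image of `Q`
  have : Unique (Sylow q ↥M) := Sylow.unique_of_normal Q hQn
  have hPQ : (P : Subgroup ↥T).map T.subtype ≤ Qt := by
    have h1 : IsPGroup q ↥(((P : Subgroup ↥T).map T.subtype).subgroupOf M) :=
      (P.isPGroup'.map T.subtype).comap_subtype
    obtain ⟨Q', hQ'⟩ := h1.exists_le_sylow
    have hQQ' : Q' = Q := Subsingleton.elim _ _
    rw [hQQ'] at hQ'
    intro x hx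
    have h2 : (⟨x, hPM hx⟩ : ↥M) ∈ Q := hQ' (by rw [Subgroup.mem_subgroupOf]; exact hx)
    exact (hmemQ _).mp h2
  have hPeq : Qt.subgroupOf T = (P : Subgroup ↥T) := by
    apply P.is_maximal'
    · exact hQtp.comap_subtype
    · intro y hy
      rw [Subgroup.mem_subgroupOf]
      exact hPQ ⟨y, hy, rfl⟩
  rw [← hPeq]
  exact hQtn.subgroupOf T

/-- The Sylow subgroups of a nilpotent normal subgroup `D` lie in the cores of `G`. -/
theorem map_sylow_le_pCore (D : Subgroup G) [D.Normal] (hD : Group.IsNilpotent ↥D) (r : ℕ)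
    [Fact r.Prime] (P : Sylow r ↥D) :
    ((P : Subgroup ↥D).map D.subtype).Normal ∧ (P : Subgroup ↥D).map D.subtype ≤ pCore r G := by
  have h1 : ∀ (p : ℕ), Fact (Nat.Prime p) → ∀ (P : Sylow p ↥D), (P : Subgroup ↥D).Normal :=
    (Group.isNilpotent_of_finite_tfae (G := ↥D)).out 0 3 |>.mp hD
  have hPn : (P : Subgroup ↥D).Normal := h1 r inferInstance P
  have hPc : (P : Subgroup ↥D).Characteristic := P.characteristic_of_normal hPn
  have hn : ((P : Subgroup ↥D).map D.subtype).Normal :=
    ConjAct.normal_of_characteristic_of_normal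
  exact ⟨hn, le_pCore hn (P.isPGroup'.map _)⟩

/-- The `q`-subgroups of a nilpotent normal subgroup lie in `O_q(G)`. -/
theorem le_pCore_of_le_nilpotent (D : Subgroup G) [D.Normal] (hD : Group.IsNilpotent ↥D) (q : ℕ)
    [Fact q.Prime] (W : Subgroup G) (hWD : W ≤ D) (hW : IsPGroup q ↥W) : W ≤ pCore q G := by
  have h1 : IsPGroup q ↥(W.subgroupOf D) := hW.comap_subtype
  obtain ⟨P, hP⟩ := h1.exists_le_sylow
  intro x hx
  apply (map_sylow_le_pCore D hD q P).2
  exact ⟨⟨x, hWD hx⟩, hP (by rw [Subgroup.mem_subgroupOf]; exact hx), rfl⟩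

/-- A subgroup `N` containing the images of all Sylow subgroups of `D` contains `D`. -/
theorem le_of_forall_sylow_le (D N : Subgroup G)
    (h : ∀ (r : ℕ) [Fact r.Prime] (P : Sylow r ↥D), (P : Subgroup ↥D).map D.subtype ≤ N) :
    D ≤ N := by
  have h1 : (⊤ : Subgroup ↥D) ≤ N.subgroupOf D := by
    rw [← iSup_sylow_eq_top (G := ↥D)]
    apply iSup_le
    intro r
    apply iSup_le
    intro P
    have : Fact (r : ℕ).Prime := ⟨r.2⟩
    intro y hy
    rw [Subgroup.mem_subgroupOf]
    exact h (r : ℕ) P ⟨y, hy, rfl⟩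
  intro x hx
  have := h1 (Subgroup.mem_top (⟨x, hx⟩ : ↥D))
  rw [Subgroup.mem_subgroupOf] at this
  exact this

/-- A normal subgroup of order prime to the index of `H` lies in `H`. -/
theorem le_of_normal_of_coprime_index (H K : Subgroup G) [K.Normal]
    (hcop : (Nat.card K).Coprime H.index) : K ≤ H := by
  have h1 : Nat.card (H ⊔ K : Subgroup G) ∣ Nat.card H * Nat.card K := card_sup_dvd H K
  have h2 : Nat.card H * H.relIndex (H ⊔ K) = Nat.card (H ⊔ K : Subgroup G) := by
    have h := Subgroup.relIndex_mul_relIndex (H := ⊥) (K := H) (L := H ⊔ K) bot_le le_sup_left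
    rw [Subgroup.relIndex_bot_left, Subgroup.relIndex_bot_left] at h
    exact h
  have h3 : H.relIndex (H ⊔ K) ∣ Nat.card K := by
    rw [← h2] at h1
    exact Nat.dvd_of_mul_dvd_mul_left Nat.card_pos h1
  have h4 : H.relIndex (H ⊔ K) ∣ H.index := Subgroup.relIndex_dvd_index_of_le le_sup_left
  have h5 : H.relIndex (H ⊔ K) = 1 := Nat.eq_one_of_dvd_coprimes hcop h3 h4
  have h6 : H ⊔ K ≤ H := Subgroup.relIndex_eq_one.mp h5
  exact le_sup_right.trans h6

/-- A subgroup normalizing `H` of order prime to the index of `H` lies in `H`. -/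
theorem le_of_le_normalizer_of_coprime_index (H K : Subgroup G)
    (hK : K ≤ normalizer (H : Set G)) (hcop : (Nat.card K).Coprime H.index) : K ≤ H := by
  intro k hk
  set N := normalizer (H : Set G) with hN
  have hHN : H ≤ N := Subgroup.le_normalizer
  have hn : (H.subgroupOf N).Normal := Subgroup.normal_in_normalizer
  let k' : ↥N := ⟨k, hK hk⟩
  have h1 : orderOf (QuotientGroup.mk' (H.subgroupOf N) k') ∣ orderOf k' := orderOf_map_dvd _ _
  have h2 : orderOf k' = orderOf k := Subgroup.orderOf_mk k (hK hk)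
  have h3 : orderOf k ∣ Nat.card K := by
    have : orderOf (⟨k, hk⟩ : ↥K) = orderOf k := Subgroup.orderOf_mk k hk
    rw [← this]
    exact orderOf_dvd_natCard _
  have h4 : orderOf (QuotientGroup.mk' (H.subgroupOf N) k') ∣ H.index := by
    have h5 : orderOf (QuotientGroup.mk' (H.subgroupOf N) k') ∣ Nat.card (↥N ⧸ H.subgroupOf N) :=
      orderOf_dvd_natCard _
    have h6 : Nat.card (↥N ⧸ H.subgroupOf N) = H.relIndex N := rfl
    rw [h6] at h5
    exact h5.trans (Subgroup.relIndex_dvd_index_of_le hHN)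
  have h7 : orderOf (QuotientGroup.mk' (H.subgroupOf N) k') = 1 :=
    Nat.eq_one_of_dvd_coprimes hcop (h1.trans (h2 ▸ h3)) h4
  have h8 := orderOf_eq_one_iff.mp h7
  rw [QuotientGroup.mk'_apply, QuotientGroup.eq_one_iff, Subgroup.mem_subgroupOf] at h8
  exact h8

end main

end Cfsg.Agent.Lib.Helper2_NilpCrit
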