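import Mathlib

set_option autoImplicit false

/-! Characteristic subgroups: transport along isomorphisms, and normalizers. -/

namespace Cfsg.Agent.Lib.Helper46_Char

variable {G : Type*} [Group G]

/-- Transport of characteristic subgroups along an isomorphism. -/
theorem characteristic_map_equiv {P Q : Type*} [Group P] [Group Q] (e : P ≃* Q) (T : Subgroup P)
    [hT : T.Characteristic] : (T.map e.toMonoidHom).Characteristic := by
  rw [Subgroup.characteristic_iff_map_le]
  intro ϕ
  rintro _ ⟨_, ⟨t, ht, rfl⟩, rfl⟩
  refine ⟨(e.trans (ϕ.trans e.symm)) t, ?_, by simp⟩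
  have := hT.fixed (e.trans (ϕ.trans e.symm))
  rw [← this] at ht
  exact ht

/-- Conjugation by a normalizing element as an automorphism of the subgroup. -/
def conjEquiv (S : Subgroup G) (g : G) (hg : g ∈ Subgroup.normalizer (S : Set G)) : S ≃* S where
  toFun s := ⟨g * s * g⁻¹, (Subgroup.mem_normalizer_iff.mp hg s).mp s.2⟩
  invFun s := ⟨g⁻¹ * s * g, by
    apply (Subgroup.mem_normalizer_iff.mp hg (g⁻¹ * s * g)).mpr
    simp [mul_assoc]⟩
  left_inv s := by ext; simp [mul_assoc]
  right_inv s := by ext; simp [mul_assoc]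
  map_mul' s t := by ext; simp [mul_assoc]

theorem coe_conjEquiv (S : Subgroup G) (g : G) (hg : g ∈ Subgroup.normalizer (S : Set G)) (s : S) :
    ((conjEquiv S g hg s : S) : G) = g * s * g⁻¹ := rfl

theorem coe_conjEquiv_symm (S : Subgroup G) (g : G) (hg : g ∈ Subgroup.normalizer (S : Set G))
    (s : S) : (((conjEquiv S g hg).symm s : S) : G) = g⁻¹ * s * g := rfl

/-- The normalizer of `S` normalizes every characteristic subgroup of `S`. -/
theorem normalizer_le_normalizer_of_char (S : Subgroup G) (T : Subgroup S) [hT : T.Characteristic] :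
    Subgroup.normalizer (S : Set G) ≤
      Subgroup.normalizer ((T.map S.subtype : Subgroup G) : Set G) := by
  intro g hg
  rw [Subgroup.mem_normalizer_iff]
  intro h
  constructor
  · rintro ⟨t, ht, rfl⟩
    have := hT.fixed (conjEquiv S g hg)
    refine ⟨conjEquiv S g hg t, ?_, rfl⟩
    rw [← this] at ht
    exact ht
  · rintro ⟨t, ht, hteq⟩
    have hh : h = g⁻¹ * t * g := by
      have : (t : G) = g * h * g⁻¹ := hteq
      rw [this]; group
    refine ⟨(conjEquiv S g hg).symm t, ?_, ?_⟩
    · have := hT.fixed (conjEquiv S g hg).symm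
      rw [← this] at ht
      exact ht
    · rw [hh]; rfl

end Cfsg.Agent.Lib.Helper46_Char
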