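import Cfsg.Agent.Lib.Helper49_Sigma
import Cfsg.Agent.Lib.Helper32_Cores
import Cfsg.Agent.Lib.Helper2_NilpCrit
import Cfsg.Agent.Lib.Helper2_PRank
import Cfsg.Agent.S1451

/-!
# The subgroup `M_α` of a maximal subgroup (helper49)

Bender–Glauberman, Theorem 10.2, in a minimal simple group of odd order, with the Uniqueness Theorem as an
explicit hypothesis `UniqHyp G`.

The first part is about an arbitrary finite solvable group `X` of odd order and a set of primes `π` such that
the `q`-rank of `X` is at most two for the primes `q` outside `π` and the Sylow `p`-subgroups of `X` lie in the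
derived group for `p ∈ π`: then `O_π(X)` is a Hall `π`-subgroup, `X / O_π(X)` has rank at most two and a nilpotent
derived group.
-/

set_option autoImplicit false

namespace Cfsg.Agent.Lib.Helper49_Alpha

open Subgroup Cfsg

open scoped commutatorElement Pointwise

section General

variable {X : Type*} [Group X] [Finite X]

/-- for `q ∈ π`, the `q`-subgroups of the nilpotent normal subgroups of `X / O_π(X)` are trivial -/
theorem eq_bot_of_le_nilpotent_quot (π : Set ℕ) {q : ℕ} [Fact q.Prime] (hq : q ∈ π)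
    (D : Subgroup (X ⧸ piCore π X)) [D.Normal] (hD : Group.IsNilpotent ↥D)
    (W : Subgroup (X ⧸ piCore π X)) (hWD : W ≤ D) (hW : IsPGroup q ↥W) : W = ⊥ := by
  have hqp : q.Prime := Fact.out
  have h1 : IsPGroup q ↥(W.subgroupOf D) := hW.comap_subtype
  obtain ⟨P, hP⟩ := h1.exists_le_sylow
  have hn := (Cfsg.Agent.Lib.Helper2_NilpCrit.map_sylow_le_pCore D hD q P).1
  have hQp : IsPGroup q ↥((P : Subgroup ↥D).map D.subtype) := P.isPGroup'.map _
  have hle : (P : Subgroup ↥D).map D.subtype ≤ piCore π (X ⧸ piCore π X) := by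
    apply Cfsg.Agent.Lib.Helper32_Cores.le_piCore hn
    intro r hr hdvd
    obtain ⟨n, hn⟩ := IsPGroup.iff_card.mp hQp
    rw [hn] at hdvd
    have := (Nat.prime_dvd_prime_iff_eq hr hqp).mp (hr.dvd_of_dvd_pow hdvd)
    rw [this]
    exact hq
  rw [Cfsg.Agent.Lib.Helper32_Cores.piCore_quotient_eq_bot] at hle
  rw [eq_bot_iff]
  intro x hx
  apply hle
  exact ⟨⟨x, hWD hx⟩, hP (by rw [Subgroup.mem_subgroupOf]; exact hx), rfl⟩

theorem coprime_card_piCore (π : Set ℕ) {q : ℕ} (hq : q.Prime) (hqπ : q ∉ π) :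
    (Nat.card ↥(piCore π X)).Coprime q := by
  rw [Nat.coprime_comm]
  apply (Nat.Prime.coprime_iff_not_dvd hq).mpr
  intro hdvd
  exact hqπ (Cfsg.Agent.Lib.Helper32_Cores.card_piCore π q hq hdvd)

/-- the Fitting subgroup of `X / O_π(X)` has rank at most two -/
theorem rankLE_fitting_quot (π : Set ℕ) (h1 : ∀ q : ℕ, q.Prime → q ∉ π → PRankLE q 2 X) :
    RankLE 2 ↥(fittingSubgroup (X ⧸ piCore π X)) := by
  intro q hq
  have : Fact q.Prime := ⟨hq⟩
  by_cases hqπ : q ∈ π
  · intro B hBc hBe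
    have hBp : IsPGroup q ↥B := fun x => ⟨1, by
      apply Subtype.ext
      rw [pow_one, Subgroup.coe_pow]
      exact hBe x.1 x.2⟩
    have hW : B.map (fittingSubgroup (X ⧸ piCore π X)).subtype = ⊥ :=
      eq_bot_of_le_nilpotent_quot π hqπ (fittingSubgroup (X ⧸ piCore π X))
        Cfsg.Agent.Lib.Helper1_Cores.fittingSubgroup_isNilpotent _ (Subgroup.map_subtype_le _) (hBp.map _)
    have hB : B = ⊥ := by
      rw [← Subgroup.map_eq_bot_iff_of_injective B (Subgroup.subtype_injective _)]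
      exact hW
    rw [hB, Subgroup.card_bot]
    exact Nat.one_le_pow _ _ hq.pos
  · exact Cfsg.Agent.Lib.Helper2_PRank.pRankLE_subgroup'
      (Cfsg.Agent.Lib.Helper2_PRank.pRankLE_quotient_of_coprime (piCore π X)
        (coprime_card_piCore π hq hqπ) (h1 q hq hqπ)) _

omit [Finite X] in
theorem map_commutator_mk (N : Subgroup X) [N.Normal] :
    (commutator X).map (QuotientGroup.mk' N) = commutator (X ⧸ N) := by
  rw [commutator_def, commutator_def, Subgroup.map_commutator, ← MonoidHom.range_eq_map,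
    MonoidHom.range_eq_top.mpr (QuotientGroup.mk'_surjective N)]

/-- the derived group of `X / O_π(X)` is nilpotent -/
theorem isNilpotent_commutator_quot (π : Set ℕ) [Group.IsSolvable X] (hodd : Odd (Nat.card X))
    (h1 : ∀ q : ℕ, q.Prime → q ∉ π → PRankLE q 2 X) :
    Group.IsNilpotent ↥(commutator (X ⧸ piCore π X)) := by
  have hodd' : Odd (Nat.card (X ⧸ piCore π X)) :=
    Odd.of_dvd_nat hodd (Subgroup.card_quotient_dvd_card _)
  exact (Cfsg.Agent.S1451.result hodd' (Or.inr (rankLE_fitting_quot π h1))).1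

/-- the Sylow `p`-subgroups of `X` lie in `O_π(X)` for `p ∈ π` -/
theorem sylow_le_piCore (π : Set ℕ) [Group.IsSolvable X] (hodd : Odd (Nat.card X))
    (h1 : ∀ q : ℕ, q.Prime → q ∉ π → PRankLE q 2 X) {p : ℕ} [Fact p.Prime] (hp : p ∈ π)
    (P : Sylow p X) (hP : (P : Subgroup X) ≤ commutator X) : (P : Subgroup X) ≤ piCore π X := by
  have hnil := isNilpotent_commutator_quot π hodd h1
  have hW : (P : Subgroup X).map (QuotientGroup.mk' (piCore π X)) = ⊥ := by
    apply eq_bot_of_le_nilpotent_quot π hp (commutator (X ⧸ piCore π X)) hnil _ _ (P.isPGroup'.map _)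
    rw [← map_commutator_mk]
    exact Subgroup.map_mono hP
  intro x hx
  have h2 : QuotientGroup.mk' (piCore π X) x ∈ (P : Subgroup X).map (QuotientGroup.mk' (piCore π X)) :=
    ⟨x, hx, rfl⟩
  rw [hW, Subgroup.mem_bot] at h2
  exact (QuotientGroup.eq_one_iff x).mp h2

theorem not_dvd_index_piCore (π : Set ℕ) [Group.IsSolvable X] (hodd : Odd (Nat.card X))
    (h1 : ∀ q : ℕ, q.Prime → q ∉ π → PRankLE q 2 X)
    (h2 : ∀ p : ℕ, p ∈ π → ∀ [Fact p.Prime] (P : Sylow p X), (P : Subgroup X) ≤ commutator X)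
    {p : ℕ} (hpp : p.Prime) (hp : p ∈ π) : ¬ p ∣ (piCore π X).index := by
  have : Fact p.Prime := ⟨hpp⟩
  obtain ⟨P⟩ : Nonempty (Sylow p X) := inferInstance
  have hle := sylow_le_piCore π hodd h1 hp P (h2 p hp P)
  intro hdvd
  exact P.not_dvd_index (hdvd.trans (Subgroup.index_dvd_of_le hle))

/-- `X / O_π(X)` has rank at most two -/
theorem rankLE_quot (π : Set ℕ) [Group.IsSolvable X] (hodd : Odd (Nat.card X))
    (h1 : ∀ q : ℕ, q.Prime → q ∉ π → PRankLE q 2 X)
    (h2 : ∀ p : ℕ, p ∈ π → ∀ [Fact p.Prime] (P : Sylow p X), (P : Subgroup X) ≤ commutator X) :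
    RankLE 2 (X ⧸ piCore π X) := by
  intro q hq
  have : Fact q.Prime := ⟨hq⟩
  by_cases hqπ : q ∈ π
  · intro B hBc hBe
    have hBp : IsPGroup q ↥B := fun x => ⟨1, by
      apply Subtype.ext
      rw [pow_one, Subgroup.coe_pow]
      exact hBe x.1 x.2⟩
    obtain ⟨n, hn⟩ := IsPGroup.iff_card.mp hBp
    rcases Nat.eq_zero_or_pos n with h0 | hpos
    · rw [hn, h0, pow_zero]
      exact Nat.one_le_pow _ _ hq.pos
    · exfalso
      apply not_dvd_index_piCore π hodd h1 h2 hq hqπ
      rw [Subgroup.index_eq_card]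
      have h3 : q ∣ Nat.card ↥B := by
        rw [hn]
        exact dvd_pow_self q (by omega)
      exact h3.trans (Subgroup.card_subgroup_dvd_card B)
  · exact Cfsg.Agent.Lib.Helper2_PRank.pRankLE_quotient_of_coprime (piCore π X)
      (coprime_card_piCore π hq hqπ) (h1 q hq hqπ)

end General

section MinSimple

open Cfsg.Agent.Lib.Helper49_Sigma Cfsg.Agent.Lib.Helper22_BGTrans Cfsg.Agent.Lib.Helper22_Radical
  Cfsg.Agent.Lib.Helper84_RelSylow Cfsg.Agent.Lib.Helper22_Uniq

variable {G : Type*} [Group G] [Finite G] {p : ℕ} [hp : Fact p.Prime]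

omit [Finite G] hp in
theorem commutator_eq_top (hG : IsMinSimpleOddOrder G) : commutator G = ⊤ := by
  have := hG.2.1
  rcases (commutator G).normal_of_characteristic.eq_bot_or_eq_top with h1 | h1
  · exfalso
    exact hG.2.2.1 ((commutator_eq_bot_iff G).mp h1)
  · exact h1

omit [Finite G] in
/-- a relative Sylow subgroup of `⊤` is a Sylow subgroup -/
theorem exists_sylow_eq_of_isSylowIn_top {P : Subgroup G} (h : IsSylowIn p P ⊤) :
    ∃ S : Sylow p G, (S : Subgroup G) = P := by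
  obtain ⟨S, hS⟩ := h.isPGroup.exists_le_sylow
  exact ⟨S, h.eq_of_le hS le_top S.isPGroup'⟩

theorem not_dvd_index_of_sylM {M P : Subgroup G} (h : SylM p M P) : ¬ p ∣ M.index := by
  obtain ⟨S, hS⟩ := exists_sylow_eq_of_isSylowIn_top h.1
  intro hdvd
  apply S.not_dvd_index
  refine hdvd.trans (Subgroup.index_dvd_of_le ?_)
  rw [hS]
  exact h.2.1

/-- a good Sylow subgroup of `M` lies in the derived group of `M` -/
theorem sylM_le_commutator (hG : IsMinSimpleOddOrder G) (hU : UniqHyp G) {M : Subgroup G} (hM : IsCoatom M)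
    {P : Subgroup G} (hS : SylM p M P) : P ≤ ⁅M, M⁆ := by
  obtain ⟨S, hSP⟩ := exists_sylow_eq_of_isSylowIn_top hS.1
  have hfoc := Subgroup.commutator_inf_eq_focalSubgroup S
  rw [commutator_eq_top hG, top_inf_eq, hSP] at hfoc
  rw [hfoc, Subgroup.focalSubgroup_def, Subgroup.closure_le]
  rintro g ⟨hgP, x, hxP, u, rfl⟩
  by_cases hx1 : x = 1
  · rw [hx1, commutatorElement_one_left]
    exact one_mem _
  have hXp : IsPGroup p ↥(zpowers x) := hS.1.isPGroup.to_le (by rwa [zpowers_le])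
  have hX1 : zpowers x ≠ ⊥ := by
    intro h
    exact hx1 (zpowers_eq_bot.mp h)
  have hXM : zpowers x ≤ M := by
    rw [zpowers_le]
    exact hS.2.1 hxP
  have huxP : u * x * u⁻¹ ∈ P := by
    have h1 : u * x⁻¹ * u⁻¹ ∈ P := by
      have : u * x⁻¹ * u⁻¹ = x⁻¹ * ⁅x, u⁆ := by rw [commutatorElement_def]; group
      rw [this]
      exact mul_mem (inv_mem hxP) hgP
    have : u * x * u⁻¹ = (u * x⁻¹ * u⁻¹)⁻¹ := by group
    rw [this]
    exact inv_mem h1
  have hcj : cj u (zpowers x) ≤ M := by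
    have h1 : cj u (zpowers x) ≤ P := by
      intro y hy
      rw [mem_cj] at hy
      obtain ⟨n, hn⟩ := mem_zpowers_iff.mp hy
      have : y = (u * x * u⁻¹) ^ n := by
        rw [conj_zpow, hn]
        group
      rw [this]
      exact zpow_mem huxP n
    exact h1.trans hS.2.1
  obtain ⟨m, hm, c, hc, rfl⟩ := (fusion hG hU hM hS hXp hX1 hXM).1 u hcj
  have hcx : c * x = x * c := Subgroup.mem_centralizer_iff.mp hc x (mem_zpowers x) |>.symm
  have hcx' : c * x⁻¹ * c⁻¹ = x⁻¹ := by
    have : c * x⁻¹ = x⁻¹ * c := by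
      have := congrArg (fun t => x⁻¹ * t * x⁻¹) hcx
      beta_reduce at this
      rw [show x⁻¹ * (c * x) * x⁻¹ = x⁻¹ * c by group, show x⁻¹ * (x * c) * x⁻¹ = c * x⁻¹ by group] at this
      exact this.symm
    rw [this]
    group
  have : ⁅x, m * c⁆ = ⁅x, m⁆ := by
    rw [commutatorElement_def, commutatorElement_def]
    calc x * (m * c) * x⁻¹ * (m * c)⁻¹ = x * m * (c * x⁻¹ * c⁻¹) * m⁻¹ := by group
      _ = x * m * x⁻¹ * m⁻¹ := by rw [hcx']
  rw [this]
  exact Subgroup.commutator_mem_commutator (hS.2.1 hxP) hm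

omit hp in
/-- the normalizer of a nontrivial uniqueness subgroup of `M` lies in `M` -/
theorem normalizer_le_of_inUniqueMaximal (hG : IsMinSimpleOddOrder G) {M X : Subgroup G} (hM : IsCoatom M)
    (hXM : X ≤ M) (hX1 : X ≠ ⊥) (hXU : InUniqueMaximal X) : normalizer (X : Set G) ≤ M := by
  have hXtop : X ≠ ⊤ := ne_top_of_le_ne_top hM.1 hXM
  have hN := normalizer_ne_top hG hX1 hXtop
  obtain ⟨M', hM', hNM'⟩ := (eq_top_or_exists_le_coatom _).resolve_left hN
  obtain ⟨M₀, -, huniq⟩ := hXU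
  have e1 := huniq M' ⟨hM', le_normalizer.trans hNM'⟩
  have e2 := huniq M ⟨hM, hXM⟩
  rw [e2, ← e1]
  exact hNM'

/-- a Sylow subgroup of `M` whose normalizer lies in `M` is of the good kind -/
theorem sylM_of_normalizer_le {M : Subgroup G} (Q : Sylow p ↥M)
    (hN : normalizer (((Q : Subgroup ↥M).map M.subtype : Subgroup G) : Set G) ≤ M) :
    SylM p M ((Q : Subgroup ↥M).map M.subtype) := by
  have h1 : IsSylowIn p ((Q : Subgroup ↥M).map M.subtype) M := isSylowIn_of_sylow Q
  obtain ⟨S, hS⟩ := exists_sylow_eq_of_normalizer_le h1 hN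
  refine ⟨?_, h1.le, hN⟩
  rw [← hS]
  exact isSylowIn_top S

/-- for `p ∈ α(M)`, the Sylow `p`-subgroups of `M` are of the good kind -/
theorem sylM_of_mem_alpha (hG : IsMinSimpleOddOrder G) (hU : UniqHyp G) {M : Subgroup G} (hM : IsCoatom M)
    (hpα : p ∈ alpha M) (Q : Sylow p ↥M) : SylM p M ((Q : Subgroup ↥M).map M.subtype) := by
  have hpp : p.Prime := Fact.out
  have h1 : IsSylowIn p ((Q : Subgroup ↥M).map M.subtype) M := isSylowIn_of_sylow Q
  have h3 : ¬ PRankLE p 2 ↥((Q : Subgroup ↥M).map M.subtype) := fun h => hpα.2 (pRankLE_of_sylow h1 h)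
  have htop : (Q : Subgroup ↥M).map M.subtype ≠ ⊤ := ne_top_of_le_ne_top hM.1 h1.le
  have hR1 : ¬ RankLE 1 ↥((Q : Subgroup ↥M).map M.subtype) := by
    intro h
    apply h3
    intro B hc he
    exact (h p hpp B hc he).trans (Nat.pow_le_pow_right hpp.pos (by norm_num))
  have hR2 : ¬ RankLE 2 ↥((Q : Subgroup ↥M).map M.subtype) := fun h => h3 (h p hpp)
  have hPU := hU _ htop hR1 (Or.inl hR2)
  have hbot : (Q : Subgroup ↥M).map M.subtype ≠ ⊥ := by
    intro hb
    apply h3
    intro B _ _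
    have h4 : Nat.card ↥B ≤ Nat.card ↥((Q : Subgroup ↥M).map M.subtype) :=
      Subgroup.card_le_card_group B
    have h5 : Nat.card ↥((Q : Subgroup ↥M).map M.subtype) = 1 := by
      rw [hb, Subgroup.card_bot]
    rw [h5] at h4
    exact h4.trans (Nat.one_le_pow _ _ hpp.pos)
  exact sylM_of_normalizer_le Q (normalizer_le_of_inUniqueMaximal hG hM h1.le hbot hPU)

/-- `α(M) ⊆ σ(M)` -/
theorem mem_sigma_of_mem_alpha (hG : IsMinSimpleOddOrder G) (hU : UniqHyp G) {M : Subgroup G}
    (hM : IsCoatom M) {q : ℕ} (hqα : q ∈ alpha M) : q ∈ sigma M := by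
  have hqq : q.Prime := hqα.1
  have : Fact q.Prime := ⟨hqq⟩
  obtain ⟨Q⟩ : Nonempty (Sylow q ↥M) := inferInstance
  have hS := sylM_of_mem_alpha hG hU hM hqα Q
  refine ⟨hqq, ?_, Q, hS.2.2⟩
  by_contra hnd
  apply hqα.2
  intro B hc he
  have hBp : IsPGroup q ↥B := fun x => ⟨1, by
    apply Subtype.ext
    rw [pow_one, Subgroup.coe_pow]
    exact he x.1 x.2⟩
  obtain ⟨n, hn⟩ := IsPGroup.iff_card.mp hBp
  rcases Nat.eq_zero_or_pos n with h0 | hpos
  · rw [hn, h0, pow_zero]
    exact Nat.one_le_pow _ _ hqq.pos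
  · exfalso
    apply hnd
    have h3 : q ∣ Nat.card ↥B := by
      rw [hn]
      exact dvd_pow_self q (by omega)
    exact h3.trans (Subgroup.card_subgroup_dvd_card B)

/-- for `p ∈ σ(M)`, the Sylow `p`-subgroups of `M` lie in the derived group of `M` -/
theorem sylow_le_commutator (hG : IsMinSimpleOddOrder G) (hU : UniqHyp G) {M : Subgroup G} (hM : IsCoatom M)
    (hpσ : p ∈ sigma M) (Q : Sylow p ↥M) : (Q : Subgroup ↥M) ≤ commutator ↥M := by
  obtain ⟨-, -, Q₀, hQ₀⟩ := hpσ
  have hS := sylM_of_normalizer_le Q₀ hQ₀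
  have h1 := sylM_le_commutator hG hU hM hS
  rw [← Subgroup.map_subtype_commutator, Subgroup.map_le_map_iff_of_injective M.subtype_injective] at h1
  obtain ⟨g, rfl⟩ := MulAction.exists_smul_eq ↥M Q₀ Q
  rw [Sylow.coe_subgroup_smul]
  have hn : (commutator ↥M).Normal := inferInstance
  have h2 : MulAut.conj g • (commutator ↥M) = commutator ↥M := Subgroup.Normal.conj_smul_eq_self g _
  rw [← h2]
  exact Subgroup.pointwise_smul_le_pointwise_smul_iff.mpr h1

/-- **Bender–Glauberman, Theorem 10.2** (with the Uniqueness Theorem as a hypothesis). -/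
theorem alpha_statement (hG : IsMinSimpleOddOrder G) (hU : UniqHyp G) (M : Subgroup G) (hM : IsCoatom M) :
    IsPiHallOf (alpha M) (alphaCore M) M ∧ IsPiHall (alpha M) (alphaCore M) ∧
      alphaCore M ≤ sigmaCore M ∧ RankLE 2 (↥M ⧸ piCore (alpha M) ↥M) ∧
      Group.IsNilpotent ↥((commutator ↥M).map (QuotientGroup.mk' (piCore (alpha M) ↥M))) := by
  have hsolv : Group.IsSolvable ↥M := hG.2.2.2 M hM.1
  have hodd : Odd (Nat.card ↥M) := Odd.of_dvd_nat hG.1 (Subgroup.card_subgroup_dvd_card M)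
  have h1 : ∀ q : ℕ, q.Prime → q ∉ alpha M → PRankLE q 2 ↥M := by
    intro q hq hqα
    by_contra h
    exact hqα ⟨hq, h⟩
  have h2 : ∀ q : ℕ, q ∈ alpha M → ∀ [Fact q.Prime] (P : Sylow q ↥M),
      (P : Subgroup ↥M) ≤ commutator ↥M := by
    intro q hqα _ P
    exact sylow_le_commutator hG hU hM (mem_sigma_of_mem_alpha hG hU hM hqα) P
  have hcard : Nat.card ↥(alphaCore M) = Nat.card ↥(piCore (alpha M) ↥M) :=
    Subgroup.card_map_of_injective M.subtype_injective
  have hprimes : ∀ q : ℕ, q.Prime → q ∣ Nat.card ↥(alphaCore M) → q ∈ alpha M := by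
    intro q hq hdvd
    rw [hcard] at hdvd
    exact Cfsg.Agent.Lib.Helper32_Cores.card_piCore _ q hq hdvd
  have hidx : ∀ q : ℕ, q.Prime → q ∈ alpha M → ¬ q ∣ (piCore (alpha M) ↥M).index :=
    fun q hq hqα => not_dvd_index_piCore (alpha M) hodd h1 h2 hq hqα
  refine ⟨⟨Subgroup.map_subtype_le _, hprimes, ?_⟩, ⟨hprimes, ?_⟩, ?_, ?_, ?_⟩
  · intro q hq hqα
    have : (alphaCore M).relIndex M = (piCore (alpha M) ↥M).index := by
      unfold Subgroup.relIndex alphaCore Subgroup.subgroupOf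
      rw [Subgroup.comap_map_eq_self_of_injective M.subtype_injective]
    rw [this]
    exact hidx q hq hqα
  · intro q hq hqα
    have : Fact q.Prime := ⟨hq⟩
    have : (alphaCore M).index = (piCore (alpha M) ↥M).index * M.index := Subgroup.index_map_subtype _
    rw [this]
    intro hdvd
    rcases (Nat.Prime.dvd_mul hq).mp hdvd with h | h
    · exact hidx q hq hqα h
    · obtain ⟨Q⟩ : Nonempty (Sylow q ↥M) := inferInstance
      exact not_dvd_index_of_sylM (sylM_of_mem_alpha hG hU hM hqα Q) h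
  · apply Subgroup.map_mono
    apply Cfsg.Agent.Lib.Helper32_Cores.le_piCore inferInstance
    intro q hq hdvd
    exact mem_sigma_of_mem_alpha hG hU hM (Cfsg.Agent.Lib.Helper32_Cores.card_piCore _ q hq hdvd)
  · exact rankLE_quot (alpha M) hodd h1 h2
  · rw [map_commutator_mk]
    exact isNilpotent_commutator_quot (alpha M) hodd h1

end MinSimple

end Cfsg.Agent.Lib.Helper49_Alpha
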