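import Mathlib
import Cfsg.Agent.S0126
import Cfsg.Agent.Lib.Helper2_PRank
import Cfsg.Agent.Lib.Helper49_Alpha

set_option autoImplicit false

namespace Cfsg.Agent.Lib.Helper29_BG12a

open Subgroup Cfsg
open scoped commutatorElement

/-- an odd `p`-group of `p`-rank at most one is cyclic -/
theorem isCyclic_of_pRankLE_one {R : Type*} [Group R] [Finite R] {p : ℕ} [hp : Fact p.Prime]
    (hp2 : p ≠ 2) (hR : IsPGroup p R) (h : PRankLE p 1 R) : IsCyclic R := by
  by_contra hnc
  obtain ⟨A, -, hA, hcard⟩ := Cfsg.Agent.S0126.result hp2 hR hnc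
  have h1 := h A hA.1 hA.2
  rw [hcard, pow_one] at h1
  have hp1 : 1 < p := hp.out.one_lt
  nlinarith

/-- an element of order dividing the order of a normal Hall subgroup lies in it -/
theorem mem_of_pow_card_eq_one {L : Type*} [Group L] [Finite L] (K : Subgroup L) [K.Normal]
    (hcop : (Nat.card K).Coprime K.index) {x : L} (hx : x ^ Nat.card K = 1) : x ∈ K := by
  rw [← QuotientGroup.eq_one_iff]
  have h1 : ((x : L ⧸ K)) ^ Nat.card K = 1 := by
    rw [← QuotientGroup.mk_pow, hx]; rfl
  have h2 : ((x : L ⧸ K)) ^ K.index = 1 := by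
    rw [Subgroup.index_eq_card]; exact pow_card_eq_one'
  have h3 := orderOf_dvd_of_pow_eq_one h1
  have h4 := orderOf_dvd_of_pow_eq_one h2
  have h5 : orderOf (x : L ⧸ K) ∣ 1 := by
    rw [← Nat.Coprime.gcd_eq_one hcop]; exact Nat.dvd_gcd h3 h4
  exact orderOf_eq_one_iff.mp (Nat.dvd_one.mp h5)

/-- a Hall subgroup of a finite nilpotent group is normal -/
theorem normal_of_hall_of_isNilpotent {L : Type*} [Group L] [Finite L] [hL : Group.IsNilpotent L]
    (K : Subgroup L) (hcop : (Nat.card K).Coprime K.index) : K.Normal := by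
  have hnc : NormalizerCondition L := Group.normalizerCondition_of_isNilpotent
  rw [normalizerCondition_iff_only_full_group_self_normalizing] at hnc
  set N := normalizer (K : Set L) with hN
  have hKN : K ≤ N := le_normalizer
  have : (K.subgroupOf N).Normal := normal_in_normalizer
  have hcardK : Nat.card (K.subgroupOf N) = Nat.card K :=
    Nat.card_congr (subgroupOfEquivOfLe hKN).toEquiv
  have hcop' : (Nat.card (K.subgroupOf N)).Coprime (K.subgroupOf N).index := by
    rw [hcardK]
    exact Nat.Coprime.coprime_dvd_right (relIndex_dvd_index_of_le hKN) hcop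
  have key : ∀ g ∈ normalizer (N : Set L), ∀ k ∈ K, g * k * g⁻¹ ∈ K := by
    intro g hg k hk
    have h1 : g * k * g⁻¹ ∈ N := (mem_normalizer_iff.mp hg k).mp (hKN hk)
    have h2 : (⟨g * k * g⁻¹, h1⟩ : N) ^ Nat.card (K.subgroupOf N) = 1 := by
      rw [hcardK]
      ext
      rw [Subgroup.coe_pow, Subgroup.coe_one, conj_pow]
      have : k ^ Nat.card K = 1 := by
        have := pow_card_eq_one' (G := K) (x := ⟨k, hk⟩)
        exact congrArg Subtype.val this
      rw [this]; group
    have h3 := mem_of_pow_card_eq_one (K.subgroupOf N) hcop' h2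
    exact mem_subgroupOf.mp h3
  have hself : normalizer (N : Set L) = N := by
    apply le_antisymm _ le_normalizer
    intro g hg
    rw [hN, mem_normalizer_iff]
    intro k
    constructor
    · exact key g hg k
    · intro h
      have := key g⁻¹ (inv_mem hg) _ h
      simpa [mul_assoc] using this
  have htop := hnc N hself
  exact normalizer_eq_top_iff.mp htop

end Cfsg.Agent.Lib.Helper29_BG12a
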