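import Mathlib
import Cfsg.Prelude.Def_OddOrderLocal
import Cfsg.Agent.Lib.Helper29_BG12a
import Cfsg.Agent.Lib.Helper49_Alpha3

/-!
# Bender–Glauberman, Section 16, Theorem II (d)–(f) and (c)

Each result is proved against the earlier statements of the chain (BG 14.1 = S1429, 12.5 = S1417, …)
taken as explicit hypotheses, specialised to the maximal subgroup at hand.
-/

set_option autoImplicit false

namespace Cfsg.Agent.Lib.Helper53_BG16

open Subgroup Cfsg

variable {G : Type*} [Group G]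

/-- the order of a subgroup is the product of the orders of two complements -/
theorem card_of_isComplIn {A B M : Subgroup G} (h : IsComplIn A B M) :
    Nat.card M = Nat.card A * Nat.card B := by
  obtain ⟨hA, hB, hAB, hM⟩ := h
  rw [← Nat.card_prod]
  symm
  apply Nat.card_congr
  refine Equiv.ofBijective (fun ab : A × B => (⟨(ab.1 : G) * ab.2, M.mul_mem (hA ab.1.2) (hB ab.2.2)⟩ : M))
    ⟨?_, ?_⟩
  · rintro ⟨a, b⟩ ⟨a', b'⟩ h
    have h1 : (a : G) * b = a' * b' := congrArg Subtype.val h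
    have h2 : (a' : G)⁻¹ * a = b' * (b : G)⁻¹ := by
      calc (a' : G)⁻¹ * a = (a' : G)⁻¹ * ((a : G) * b) * (b : G)⁻¹ := by group
        _ = (a' : G)⁻¹ * ((a' : G) * b') * (b : G)⁻¹ := by rw [h1]
        _ = b' * (b : G)⁻¹ := by group
    have h3 : (a' : G)⁻¹ * a ∈ A ⊓ B :=
      ⟨A.mul_mem (A.inv_mem a'.2) a.2, by rw [h2]; exact B.mul_mem b'.2 (B.inv_mem b.2)⟩
    rw [hAB, mem_bot] at h3
    have h4 : (a : G) = a' := by
      have := congrArg (fun t => (a' : G) * t) h3
      simpa using this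
    have h5 : (b : G) = b' := by
      rw [h4] at h1
      exact mul_left_cancel h1
    exact Prod.ext (Subtype.ext h4) (Subtype.ext h5)
  · rintro ⟨m, hm⟩
    obtain ⟨a, ha, b, hb, rfl⟩ := hM m hm
    exact ⟨(⟨a, ha⟩, ⟨b, hb⟩), rfl⟩

/-- `|X| · |M : X| = |M|` -/
theorem card_mul_relIndex {X M : Subgroup G} (h : X ≤ M) :
    Nat.card X * X.relIndex M = Nat.card M := by
  have := Subgroup.relIndex_mul_relIndex (⊥ : Subgroup G) X M bot_le h
  rwa [Subgroup.relIndex_bot_left, Subgroup.relIndex_bot_left] at this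

variable [Finite G]

/-- a prime dividing `|U|` divides the index in `M` of every subgroup of `K M_σ` -/
theorem dvd_relIndex_of_dvd_card_compl {U N M X : Subgroup G} (h : IsComplIn U N M) (hX : X ≤ N)
    {p : ℕ} (hp : p ∣ Nat.card U) : p ∣ X.relIndex M := by
  have h1 := card_of_isComplIn h
  have h2 := card_mul_relIndex (hX.trans h.2.1)
  obtain ⟨t, ht⟩ := Subgroup.card_dvd_of_le hX
  have hXpos : 0 < Nat.card X := Nat.card_pos
  have h3 : X.relIndex M = Nat.card U * t := by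
    have : Nat.card X * X.relIndex M = Nat.card X * (Nat.card U * t) := by
      rw [h2, h1, ht]; ring
    exact Nat.eq_of_mul_eq_mul_left hXpos this
  rw [h3]
  exact dvd_mul_of_dvd_left hp t

/-- the primes of `U` are outside `σ(M) ∪ κ(M)` -/
theorem not_mem_of_dvd_card_U {M K U : Subgroup G} (hKU : IsSigmaDecomposition M K U)
    (h1350 : IsPiHallOf (sigma M) (sigmaCore M) M) {p : ℕ} (hp : p.Prime) (hpU : p ∣ Nat.card U) :
    p ∣ Nat.card M ∧ p ∉ sigma M ∧ p ∉ kappa M := by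
  refine ⟨dvd_trans hpU (Subgroup.card_dvd_of_le hKU.compl.1), fun hs => ?_, fun hk => ?_⟩
  · exact h1350.2.2 p hp hs (dvd_relIndex_of_dvd_card_compl hKU.compl le_sup_right hpU)
  · exact hKU.hall.2.2 p hp hk (dvd_relIndex_of_dvd_card_compl hKU.compl le_sup_left hpU)

omit [Finite G] in
/-- odd order: no subgroup has even order -/
theorem two_not_dvd_card (hG : IsMinSimpleOddOrder G) (M : Subgroup G) : ¬ 2 ∣ Nat.card M := by
  intro h
  have h1 : 2 ∣ Nat.card G := dvd_trans h (Subgroup.card_subgroup_dvd_card M)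
  have h2 := hG.1
  rw [Nat.odd_iff] at h2
  omega

/-- **BG 14.1/12.5 consequence**: the `p`-rank of `M` is at most two for the primes of `U`, and the Sylow
`p`-subgroups of `M` are abelian. -/
theorem sylow_M_of_dvd_card_U (hG : IsMinSimpleOddOrder G) {M K U : Subgroup G}
    (hKU : IsSigmaDecomposition M K U)
    (h1350 : IsPiHallOf (sigma M) (sigmaCore M) M)
    (h1429 : ∀ (p : ℕ) [Fact p.Prime],
      ¬ (∀ q : ℕ, q.Prime → q ∣ Nat.card M → q ∉ sigma M → q ∈ kappa M) → p ∣ Nat.card M →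
      p ∉ sigma M ∪ kappa M → ∀ S : Sylow p M,
      Nat.card ↥(closure {x : G | x ∈ (S : Subgroup M).map M.subtype ∧ x ^ p = 1}) ≤ p ^ 2)
    (h1417 : ∀ (p : ℕ) [Fact p.Prime], p ∈ tau2 M → ∀ A : Subgroup G,
      (A ≤ M ∧ IsElementaryAbelian p A ∧ Nat.card A = p ^ 2) →
      ∀ P : Sylow p M, IsMulCommutative (P : Subgroup M))
    (p : ℕ) [hp : Fact p.Prime] (hpU : p ∣ Nat.card U) :
    PRankLE p 2 ↥M ∧ ∀ S : Sylow p M, IsMulCommutative (S : Subgroup M) := by
  obtain ⟨hpM, hps, hpk⟩ := not_mem_of_dvd_card_U hKU h1350 hp.out hpU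
  have hP1 : ¬ (∀ q : ℕ, q.Prime → q ∣ Nat.card M → q ∉ sigma M → q ∈ kappa M) :=
    fun h => hpk (h p hp.out hpM hps)
  have hpsk : p ∉ sigma M ∪ kappa M := fun h => h.elim hps hpk
  have hr2 : PRankLE p 2 ↥M := by
    intro A hAc hAe
    have hAp : IsPGroup p A := fun a => ⟨1, by
      apply Subtype.ext
      rw [pow_one, Subgroup.coe_pow]
      exact hAe a.1 a.2⟩
    obtain ⟨S, hAS⟩ := hAp.exists_le_sylow
    have h1 := h1429 p hP1 hpM hpsk S
    have h2 : A.map M.subtype ≤ closure {x : G | x ∈ (S : Subgroup M).map M.subtype ∧ x ^ p = 1} := by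
      rintro x ⟨a, ha, rfl⟩
      apply Subgroup.subset_closure
      refine ⟨⟨a, hAS ha, rfl⟩, ?_⟩
      have := hAe a ha
      have h3 := congrArg Subtype.val this
      simpa using h3
    have h3 : Nat.card (A.map M.subtype) = Nat.card A :=
      Subgroup.card_map_of_injective M.subtype_injective
    calc Nat.card A = Nat.card (A.map M.subtype) := h3.symm
      _ ≤ _ := Subgroup.card_le_of_le h2
      _ ≤ p ^ 2 := h1
  refine ⟨hr2, fun S => ?_⟩
  by_cases hr1 : PRankLE p 1 ↥M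
  · have hp2 : p ≠ 2 := by
      rintro rfl
      exact two_not_dvd_card hG M hpM
    have hS1 : PRankLE p 1 ↥(S : Subgroup M) := Cfsg.Agent.Lib.Helper2_PRank.pRankLE_subgroup' hr1 _
    have hcyc : IsCyclic ↥(S : Subgroup M) :=
      Cfsg.Agent.Lib.Helper29_BG12a.isCyclic_of_pRankLE_one hp2 S.isPGroup' hS1
    exact IsCyclic.isMulCommutative
  · have ht2 : p ∈ tau2 M := ⟨hp.out, hps, hr2, hr1⟩
    obtain ⟨A, hA⟩ := Cfsg.Agent.Lib.Helper49_Alpha3.exists_elemAb_sq hr2 hr1
    exact h1417 p ht2 A hA S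

/-- **Bender–Glauberman, Theorem II (d)** (`S1358`), from 14.1 (`S1429`), 12.5 (`S1417`) and the Hall property of
`M_σ` (`S1350`). -/
theorem sylow_U_statement (hG : IsMinSimpleOddOrder G) {M K U : Subgroup G}
    (hKU : IsSigmaDecomposition M K U)
    (h1350 : IsPiHallOf (sigma M) (sigmaCore M) M)
    (h1429 : ∀ (p : ℕ) [Fact p.Prime],
      ¬ (∀ q : ℕ, q.Prime → q ∣ Nat.card M → q ∉ sigma M → q ∈ kappa M) → p ∣ Nat.card M →
      p ∉ sigma M ∪ kappa M → ∀ S : Sylow p M,
      Nat.card ↥(closure {x : G | x ∈ (S : Subgroup M).map M.subtype ∧ x ^ p = 1}) ≤ p ^ 2)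
    (h1417 : ∀ (p : ℕ) [Fact p.Prime], p ∈ tau2 M → ∀ A : Subgroup G,
      (A ≤ M ∧ IsElementaryAbelian p A ∧ Nat.card A = p ^ 2) →
      ∀ P : Sylow p M, IsMulCommutative (P : Subgroup M))
    (p : ℕ) (hp : p.Prime) (P : Sylow p U) :
    IsMulCommutative (P : Subgroup U) ∧ PRankLE p 2 (P : Subgroup U) := by
  have : Fact p.Prime := ⟨hp⟩
  by_cases hpU : p ∣ Nat.card U
  · obtain ⟨hr2, hab⟩ := sylow_M_of_dvd_card_U hG hKU h1350 h1429 h1417 p hpU
    have hUM : U ≤ M := hKU.compl.1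
    -- the inclusion of `P` into `M`
    let f : ↥(P : Subgroup U) →* ↥M := (Subgroup.inclusion hUM).comp (P : Subgroup U).subtype
    have hf : Function.Injective f :=
      (Subgroup.inclusion_injective hUM).comp (P : Subgroup U).subtype_injective
    refine ⟨?_, Cfsg.Agent.Lib.Helper2_PRank.pRankLE_of_injective' p 2 f hf hr2⟩
    have hQ : IsPGroup p ↥(f.range) := by
      have := P.isPGroup'
      exact IsPGroup.of_surjective this f.rangeRestrict f.rangeRestrict_surjective
    obtain ⟨S, hS⟩ := hQ.exists_le_sylow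
    have hSc := hab S
    refine ⟨⟨fun a b => ?_⟩⟩
    have h1 : f a ∈ (S : Subgroup M) := hS ⟨a, rfl⟩
    have h2 : f b ∈ (S : Subgroup M) := hS ⟨b, rfl⟩
    have h3 := hSc.is_comm.comm ⟨f a, h1⟩ ⟨f b, h2⟩
    have h4 : f a * f b = f b * f a := congrArg Subtype.val h3
    apply hf
    rw [map_mul, map_mul, h4]
  · -- `P` is trivial
    obtain ⟨n, hn⟩ := IsPGroup.iff_card.mp P.isPGroup'
    have h1 : Nat.card (P : Subgroup U) ∣ Nat.card U := Subgroup.card_subgroup_dvd_card _
    have hn0 : n = 0 := by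
      by_contra hne
      apply hpU
      refine dvd_trans ?_ h1
      rw [hn]
      exact dvd_pow_self p hne
    rw [hn0, pow_zero] at hn
    have : Subsingleton ↥(P : Subgroup U) := (Nat.card_eq_one_iff_unique.mp hn).1
    refine ⟨⟨⟨fun a b => Subsingleton.elim _ _⟩⟩, ?_⟩
    intro A _ _
    have : Subsingleton ↥A := ⟨fun a b => Subtype.ext (Subsingleton.elim _ _)⟩
    have : Nat.card A = 1 := Nat.card_unique
    rw [this]
    exact Nat.one_le_pow _ _ hp.pos

end Cfsg.Agent.Lib.Helper53_BG16
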