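import Mathlib
import Cfsg.Prelude.Def_OddOrderLocal
import Cfsg.Agent.Lib.Helper53_BG16
import Cfsg.Agent.Lib.Helper24_CoprimeHall

/-!
# Bender–Glauberman, Section 16, Theorem II (e), (f): structure of the standard factorisation

General facts on `M = K U M_σ` (orders, `U` is a Hall subgroup, complements to `M_σ`) used for
`S1359`, `S1360`.
-/

set_option autoImplicit false
set_option linter.unusedSectionVars false

namespace Cfsg.Agent.Lib.Helper53_BG16b

open Subgroup Cfsg Cfsg.Agent.Lib.Helper53_BG16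
open scoped Pointwise

variable {G : Type*} [Group G]

theorem sigmaCore_le (M : Subgroup G) : sigmaCore M ≤ M := Subgroup.map_subtype_le _

theorem le_normalizer_sigmaCore (M : Subgroup G) :
    M ≤ normalizer ((sigmaCore M : Subgroup G) : Set G) := by
  have h1 := Subgroup.le_normalizer_map (H := piCore (sigma M) ↥M) M.subtype
  rw [Subgroup.normalizer_eq_top_iff.mpr inferInstance, ← MonoidHom.range_eq_map,
    Subgroup.range_subtype] at h1
  exact h1

/-- conjugates of elements of `M_σ` by elements of `M` are in `M_σ` -/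
theorem conj_mem_sigmaCore {M : Subgroup G} {m y : G} (hm : m ∈ M) (hy : y ∈ sigmaCore M) :
    m * y * m⁻¹ ∈ sigmaCore M :=
  (Subgroup.mem_normalizer_iff.mp (le_normalizer_sigmaCore M hm) y).mp hy

/-- `M̂_σ` is closed under integer powers -/
theorem zpow_mem_sigmaHat {M : Subgroup G} {a : G} (ha : a ∈ sigmaHat M) (z : ℤ) :
    a ^ z ∈ sigmaHat M := by
  obtain ⟨haM, y, hy, hy1, hc⟩ := ha
  refine ⟨M.zpow_mem haM z, y, hy, hy1, ?_⟩
  have : Commute a y := hc
  exact (this.zpow_left z).eq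

theorem pow_mem_sigmaHat {M : Subgroup G} {a : G} (ha : a ∈ sigmaHat M) (n : ℕ) :
    a ^ n ∈ sigmaHat M := by
  have := zpow_mem_sigmaHat ha n
  rwa [zpow_natCast] at this

/-- `M̂_σ` is invariant under `M` -/
theorem conj_mem_sigmaHat {M : Subgroup G} {a m : G} (hm : m ∈ M) (ha : a ∈ sigmaHat M) :
    m * a * m⁻¹ ∈ sigmaHat M := by
  obtain ⟨haM, y, hy, hy1, hc⟩ := ha
  refine ⟨M.mul_mem (M.mul_mem hm haM) (M.inv_mem hm), m * y * m⁻¹, conj_mem_sigmaCore hm hy, ?_, ?_⟩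
  · intro h
    apply hy1
    have := congrArg (fun t => m⁻¹ * t * m) h
    simpa [mul_assoc] using this
  · calc m * a * m⁻¹ * (m * y * m⁻¹) = m * (a * y) * m⁻¹ := by group
      _ = m * (y * a) * m⁻¹ := by rw [hc]
      _ = m * y * m⁻¹ * (m * a * m⁻¹) := by group

section Decomp

variable [Finite G] {M K U : Subgroup G}

omit [Finite G] in
/-- `K ∩ M_σ = 1` -/
theorem K_inf_sigmaCore (hKU : IsSigmaDecomposition M K U)
    (h1350 : IsPiHallOf (sigma M) (sigmaCore M) M) : K ⊓ sigmaCore M = ⊥ := by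
  apply disjoint_iff.mp
  apply Subgroup.disjoint_of_coprime_natCard
  apply Nat.coprime_of_dvd
  intro p hp hpK hpN
  have h1 := hKU.hall.2.1 p hp hpK
  have h2 := h1350.2.1 p hp hpN
  exact h1.2.2.1 h2

omit [Finite G] in
/-- `|K M_σ| = |K| |M_σ|` -/
theorem card_K_sup_sigmaCore (hKU : IsSigmaDecomposition M K U)
    (h1350 : IsPiHallOf (sigma M) (sigmaCore M) M) :
    Nat.card (K ⊔ sigmaCore M : Subgroup G) = Nat.card K * Nat.card (sigmaCore M) := by
  have hd := K_inf_sigmaCore hKU h1350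
  have hn : K ≤ normalizer ((sigmaCore M : Subgroup G) : Set G) :=
    hKU.hall.1.trans (le_normalizer_sigmaCore M)
  rw [← Nat.card_prod]
  symm
  apply Nat.card_congr
  have hcoe : ((K ⊔ sigmaCore M : Subgroup G) : Set G) = (K : Set G) * (sigmaCore M : Set G) :=
    coe_mul_of_left_le_normalizer_right K (sigmaCore M) hn
  refine Equiv.ofBijective (fun x : K × sigmaCore M => ⟨(x.1 : G) * x.2,
    (K ⊔ sigmaCore M).mul_mem (le_sup_left (a := K) x.1.2) (le_sup_right (b := sigmaCore M) x.2.2)⟩)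
    ⟨?_, ?_⟩
  · intro x y hxy
    exact Subgroup.mul_injective_of_disjoint (disjoint_iff.mpr hd) (congrArg Subtype.val hxy)
  · rintro ⟨g, hg⟩
    have h1 : g ∈ (K : Set G) * (sigmaCore M : Set G) := hcoe ▸ hg
    obtain ⟨a, ha, v, hv, rfl⟩ := Set.mem_mul.mp h1
    exact ⟨(⟨a, ha⟩, ⟨v, hv⟩), rfl⟩

/-- `|M| = |U| |K| |M_σ|` -/
theorem card_M_eq (hKU : IsSigmaDecomposition M K U)
    (h1350 : IsPiHallOf (sigma M) (sigmaCore M) M) :
    Nat.card M = Nat.card U * (Nat.card K * Nat.card (sigmaCore M)) := by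
  rw [card_of_isComplIn hKU.compl, card_K_sup_sigmaCore hKU h1350]

/-- `|M : U| = |K| |M_σ|` -/
theorem relIndex_U (hKU : IsSigmaDecomposition M K U)
    (h1350 : IsPiHallOf (sigma M) (sigmaCore M) M) :
    U.relIndex M = Nat.card K * Nat.card (sigmaCore M) := by
  have h1 := card_mul_relIndex hKU.compl.1
  rw [card_M_eq hKU h1350] at h1
  exact Nat.eq_of_mul_eq_mul_left Nat.card_pos h1

omit [Finite G] in
/-- a prime dividing `|K| |M_σ|` is in `κ(M) ∪ σ(M)` -/
theorem mem_of_dvd_card_mul (hKU : IsSigmaDecomposition M K U)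
    (h1350 : IsPiHallOf (sigma M) (sigmaCore M) M) {p : ℕ} (hp : p.Prime)
    (h : p ∣ Nat.card K * Nat.card (sigmaCore M)) : p ∈ kappa M ∨ p ∈ sigma M := by
  rcases (Nat.Prime.dvd_mul hp).mp h with h | h
  · exact Or.inl (hKU.hall.2.1 p hp h)
  · exact Or.inr (h1350.2.1 p hp h)

/-- `U` is a Hall subgroup of `M` for the primes outside `κ(M) ∪ σ(M)` -/
theorem U_isPiHallOf (hKU : IsSigmaDecomposition M K U)
    (h1350 : IsPiHallOf (sigma M) (sigmaCore M) M) :
    IsPiHallOf {q | q.Prime ∧ q ∉ kappa M ∧ q ∉ sigma M} U M := by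
  refine ⟨hKU.compl.1, fun p hp hpU => ?_, fun p hp hpi hdvd => ?_⟩
  · obtain ⟨_, h2, h3⟩ := not_mem_of_dvd_card_U hKU h1350 hp hpU
    exact ⟨hp, h3, h2⟩
  · rw [relIndex_U hKU h1350] at hdvd
    rcases mem_of_dvd_card_mul hKU h1350 hp hdvd with h | h
    · exact hpi.2.1 h
    · exact hpi.2.2 h

/-- `U` is abelian as soon as `M` has an abelian Hall subgroup for the primes outside `κ(M) ∪ σ(M)` -/
theorem U_comm (hsolv : Group.IsSolvable ↥M) (hKU : IsSigmaDecomposition M K U)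
    (h1350 : IsPiHallOf (sigma M) (sigmaCore M) M)
    (h1430 : ∃ U' : Subgroup G, IsMulCommutative U' ∧
      IsPiHallOf {q | q.Prime ∧ q ∉ kappa M ∧ q ∉ sigma M} U' M) :
    ∀ a ∈ U, ∀ b ∈ U, a * b = b * a := by
  obtain ⟨U', hU'c, hU'⟩ := h1430
  have h1 := (Cfsg.Agent.Lib.Helper24_CoprimeHall.isPiHallOf_iff _ _ _).mp hU'
  have h2 := (Cfsg.Agent.Lib.Helper24_CoprimeHall.isPiHallOf_iff _ _ _).mp (U_isPiHallOf hKU h1350)
  obtain ⟨g, -, hg⟩ := Cfsg.Agent.Lib.Helper24_CoprimeHall.piHall_conj hsolv h1 h2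
  intro a ha b hb
  rw [← hg] at ha hb
  obtain ⟨a', ha', rfl⟩ := ha
  obtain ⟨b', hb', rfl⟩ := hb
  have h3 := hU'c.is_comm.comm ⟨a', ha'⟩ ⟨b', hb'⟩
  have h4 : a' * b' = b' * a' := congrArg Subtype.val h3
  simp only [MulEquiv.coe_toMonoidHom, MulAut.conj_apply]
  calc g * a' * g⁻¹ * (g * b' * g⁻¹) = g * (a' * b') * g⁻¹ := by group
    _ = g * (b' * a') * g⁻¹ := by rw [h4]
    _ = g * b' * g⁻¹ * (g * a' * g⁻¹) := by group

omit [Finite G] in
/-- `κ(M)` is empty when `K = 1` -/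
theorem not_mem_kappa_of_K_eq_bot (hKU : IsSigmaDecomposition M K U) (hK : K = ⊥) (p : ℕ) :
    p ∉ kappa M := by
  intro hp
  have h1 := hKU.hall.2.2 p hp.1 hp
  rw [hK, Subgroup.relIndex_bot_left] at h1
  exact h1 hp.2.1

omit [Finite G] in
/-- `U` is a complement to `M_σ` when `K = 1` -/
theorem compl_of_K_eq_bot (hKU : IsSigmaDecomposition M K U) (hK : K = ⊥) :
    IsComplIn U (sigmaCore M) M := by
  have := hKU.compl
  rwa [hK, bot_sup_eq] at this

omit [Finite G] in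
/-- Schur–Zassenhaus: `M_σ` has a complement in `M` -/
theorem exists_compl_sigmaCore (h1350 : IsPiHallOf (sigma M) (sigmaCore M) M) :
    ∃ E : Subgroup G, IsComplIn E (sigmaCore M) M := by
  have hcard : Nat.card (piCore (sigma M) ↥M) = Nat.card (sigmaCore M) :=
    (Subgroup.card_map_of_injective M.subtype_injective).symm
  have hidx : (piCore (sigma M) ↥M).index = (sigmaCore M).relIndex M := by
    unfold Subgroup.relIndex sigmaCore
    rw [Subgroup.subgroupOf, Subgroup.comap_map_eq_self_of_injective M.subtype_injective]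
  have hcop : (Nat.card (piCore (sigma M) ↥M)).Coprime (piCore (sigma M) ↥M).index := by
    rw [hcard, hidx]
    apply Nat.coprime_of_dvd
    intro p hp h1 h2
    exact h1350.2.2 p hp (h1350.2.1 p hp h1) h2
  obtain ⟨H, hH⟩ := Subgroup.exists_left_complement'_of_coprime hcop
  refine ⟨H.map M.subtype, Subgroup.map_subtype_le _, sigmaCore_le M, ?_, ?_⟩
  · unfold sigmaCore
    rw [← Subgroup.map_inf _ _ _ M.subtype_injective, hH.disjoint.eq_bot, Subgroup.map_bot]
  · intro m hm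
    obtain ⟨⟨a, b⟩, hab⟩ := hH.2 ⟨m, hm⟩
    refine ⟨a, ⟨a, a.2, rfl⟩, b, ⟨b, b.2, rfl⟩, ?_⟩
    have := congrArg Subtype.val hab
    simpa using this.symm

/-- a prime outside `σ(M)` of rank one, some element of which centralizes a non-identity element of `M_σ`,
belongs to `κ(M)` -/
theorem mem_kappa_of_centralizing (hG : IsMinSimpleOddOrder G) {p : ℕ} [hp : Fact p.Prime]
    (hps : p ∉ sigma M) (hr1 : PRankLE p 1 ↥M) {e y : G} (he : e ∈ M) (hpe : p ∣ orderOf e)
    (hy : y ∈ sigmaCore M) (hy1 : y ≠ 1) (hc : e * y = y * e) : p ∈ kappa M := by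
  have ho : orderOf e ≠ 0 := (orderOf_pos e).ne'
  set e' : G := e ^ (orderOf e / p) with he'
  have hoe' : orderOf e' = p := orderOf_pow_orderOf_div ho hpe
  have he'M : e' ∈ M := M.pow_mem he _
  have hc' : e' * y = y * e' := by
    have : Commute e y := hc
    exact (this.pow_left _).eq
  set eM : ↥M := ⟨e', he'M⟩ with heM
  have hoeM : orderOf eM = p := by rw [heM, Subgroup.orderOf_mk, hoe']
  have hpM : p ∣ Nat.card M := by
    rw [← hoeM]; exact orderOf_dvd_natCard eM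
  have hp2 : p ≠ 2 := by
    rintro rfl
    exact two_not_dvd_card hG M hpM
  refine ⟨hp.out, hpM, hps, fun P => ⟨?_, ?_⟩⟩
  · exact Cfsg.Agent.Lib.Helper29_BG12a.isCyclic_of_pRankLE_one hp2 P.isPGroup'
      (Cfsg.Agent.Lib.Helper2_PRank.pRankLE_subgroup' hr1 _)
  · have hZ : IsPGroup p ↥(zpowers eM) := by
      apply IsPGroup.of_card (n := 1)
      rw [Nat.card_zpowers, hoeM, pow_one]
    obtain ⟨P₀, hP₀⟩ := hZ.exists_le_sylow
    obtain ⟨m, hm⟩ := MulAction.exists_smul_eq ↥M P₀ P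
    have heP₀ : eM ∈ (P₀ : Subgroup ↥M) := hP₀ (mem_zpowers eM)
    refine ⟨m * eM * m⁻¹, ?_, ?_, (m : G) * y * (m : G)⁻¹, conj_mem_sigmaCore m.2 hy, ?_, ?_⟩
    · rw [← hm, Sylow.coe_subgroup_smul]
      have := Subgroup.smul_mem_pointwise_smul eM (MulAut.conj m) (P₀ : Subgroup ↥M) heP₀
      simpa [MulAut.smul_def] using this
    · intro h
      have h1 : eM = 1 := by
        have := congrArg (fun t => m⁻¹ * t * m) h
        simpa [mul_assoc] using this
      rw [h1, orderOf_one] at hoeM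
      exact hp.out.one_lt.ne hoeM
    · intro h
      apply hy1
      have := congrArg (fun t => (m : G)⁻¹ * t * (m : G)) h
      simpa [mul_assoc] using this
    · show (m : G) * e' * (m : G)⁻¹ * ((m : G) * y * (m : G)⁻¹) = (m : G) * y * (m : G)⁻¹ * ((m : G) * e' * (m : G)⁻¹)
      calc (m : G) * e' * (m : G)⁻¹ * ((m : G) * y * (m : G)⁻¹) = (m : G) * (e' * y) * (m : G)⁻¹ := by group
        _ = (m : G) * (y * e') * (m : G)⁻¹ := by rw [hc']
        _ = _ := by group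

/-- when `K = 1`, the elements of `M` whose order involves only primes of `τ₁(M) ∪ τ₃(M)` act freely on `M_σ` -/
theorem tau13_free_of_K_eq_bot (hG : IsMinSimpleOddOrder G) (hKU : IsSigmaDecomposition M K U)
    (hK : K = ⊥) : ∀ e ∈ U, e ≠ 1 →
      (∀ p : ℕ, p.Prime → p ∣ orderOf e → p ∈ tau1 M ∪ tau3 M) →
      sigmaCore M ⊓ centralizer ({e} : Set G) = ⊥ := by
  intro e heU he1 hprimes
  rw [eq_bot_iff]
  intro y hy
  rw [mem_bot]
  by_contra hy1
  have ho1 : orderOf e ≠ 1 := fun h => he1 (orderOf_eq_one_iff.mp h)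
  obtain ⟨p, hp, hpe⟩ := Nat.exists_prime_and_dvd ho1
  have : Fact p.Prime := ⟨hp⟩
  have hc : e * y = y * e := Subgroup.mem_centralizer_iff.mp hy.2 e rfl
  have hmem : p ∉ sigma M ∧ PRankLE p 1 ↥M := by
    rcases hprimes p hp hpe with h | h
    · exact ⟨h.2.1, h.2.2.2.2⟩
    · exact ⟨h.2.1, h.2.2.2⟩
  exact not_mem_kappa_of_K_eq_bot hKU hK p
    (mem_kappa_of_centralizing hG hmem.1 hmem.2 (hKU.compl.1 heU) hpe hy.1 hy1 hc)

/-- elements of `U ∩ M̂_σ` lie in `U ∩ C_G(y)` for some non-identity `y ∈ M_σ` -/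
theorem exists_of_mem_sigmaHat {u : G} (hu : u ∈ sigmaHat M) :
    ∃ y ∈ sigmaCore M, y ≠ 1 ∧ u ∈ centralizer ({y} : Set G) := by
  obtain ⟨_, y, hy, hy1, hc⟩ := hu
  refine ⟨y, hy, hy1, ?_⟩
  rw [Subgroup.mem_centralizer_iff]
  rintro _ rfl
  exact hc.symm

/-- **Theorem II (e)** when `K = 1`, from BG 12.7 (`S1421`) -/
theorem closure_comm_of_K_eq_bot (hG : IsMinSimpleOddOrder G) (hKU : IsSigmaDecomposition M K U)
    (hK : K = ⊥)
    (h1421 : IsComplIn U (sigmaCore M) M →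
      (∀ e ∈ U, e ≠ 1 → (∀ p : ℕ, p.Prime → p ∣ orderOf e → p ∈ tau1 M ∪ tau3 M) →
        sigmaCore M ⊓ centralizer ({e} : Set G) = ⊥) →
      ∃ A₀ : Subgroup G, A₀ ≤ U ∧ U ≤ normalizer (A₀ : Set G) ∧ IsMulCommutative A₀ ∧
        ∀ x ∈ sigmaCore M, x ≠ 1 → U ⊓ centralizer ({x} : Set G) ≤ A₀) :
    IsMulCommutative (closure ((U : Set G) ∩ sigmaHat M)) := by
  obtain ⟨A₀, -, -, hA₀c, hA₀⟩ := h1421 (compl_of_K_eq_bot hKU hK) (tau13_free_of_K_eq_bot hG hKU hK)
  have hle : closure ((U : Set G) ∩ sigmaHat M) ≤ A₀ := by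
    rw [closure_le]
    rintro u ⟨huU, hu⟩
    obtain ⟨y, hy, hy1, hc⟩ := exists_of_mem_sigmaHat hu
    exact hA₀ y hy hy1 ⟨huU, hc⟩
  refine ⟨⟨fun a b => ?_⟩⟩
  have := hA₀c.is_comm.comm ⟨a.1, hle a.2⟩ ⟨b.1, hle b.2⟩
  have h2 : (a : G) * b = b * a := congrArg Subtype.val this
  exact Subtype.ext h2

/-- **Theorem II (f)** when `K = 1`, from BG 12.7 (`S1421`) -/
theorem exists_free_of_K_eq_bot (hG : IsMinSimpleOddOrder G) (hKU : IsSigmaDecomposition M K U)
    (hK : K = ⊥)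
    (h1421 : IsComplIn U (sigmaCore M) M →
      (∀ e ∈ U, e ≠ 1 → (∀ p : ℕ, p.Prime → p ∣ orderOf e → p ∈ tau1 M ∪ tau3 M) →
        sigmaCore M ⊓ centralizer ({e} : Set G) = ⊥) →
      ∃ E₀ : Subgroup G, E₀ ≤ U ∧ Monoid.exponent E₀ = Monoid.exponent U ∧
        ∀ e ∈ E₀, e ≠ 1 → sigmaCore M ⊓ centralizer ({e} : Set G) = ⊥) :
    ∃ U₀ : Subgroup G, U₀ ≤ U ∧ Monoid.exponent U₀ = Monoid.exponent U ∧
      ∀ u ∈ U₀, u ∈ sigmaHat M → u = 1 := by
  obtain ⟨E₀, hE₀U, hexp, hfree⟩ := h1421 (compl_of_K_eq_bot hKU hK) (tau13_free_of_K_eq_bot hG hKU hK)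
  refine ⟨E₀, hE₀U, hexp, fun u hu hus => ?_⟩
  by_contra hu1
  obtain ⟨_, y, hy, hy1, hc⟩ := hus
  have h0 : y ∈ centralizer ({u} : Set G) := by
    rw [Subgroup.mem_centralizer_iff]
    rintro _ rfl
    exact hc
  have h1 : y ∈ sigmaCore M ⊓ centralizer ({u} : Set G) := ⟨hy, h0⟩
  rw [hfree u hu hu1, mem_bot] at h1
  exact hy1 h1

end Decomp

/-! ### Elements acting freely on `M_σ` -/

/-- `u` acts freely: no non-identity power of `u` centralizes a non-identity element of `M_σ` -/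
def Free (M : Subgroup G) (u : G) : Prop := ∀ z : ℤ, u ^ z ∈ sigmaHat M → u ^ z = 1

theorem free_one (M : Subgroup G) : Free M 1 := fun z _ => one_zpow z

/-- products of commuting free elements of coprime orders are free -/
theorem Free.mul {M : Subgroup G} {x y : G} (hx : Free M x) (hy : Free M y) (hc : Commute x y)
    (hcop : (orderOf x).Coprime (orderOf y)) : Free M (x * y) := by
  intro z hz
  obtain ⟨a, b, hab⟩ : IsCoprime (orderOf x : ℤ) (orderOf y : ℤ) := Nat.isCoprime_iff_coprime.mpr hcop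
  -- `x ^ z` and `y ^ z` are powers of `(x * y) ^ z`
  have hxz : x ^ z = ((x * y) ^ z) ^ (b * (orderOf y : ℤ)) := by
    rw [← zpow_mul, hc.mul_zpow]
    have h1 : y ^ (z * (b * (orderOf y : ℤ))) = 1 := by
      rw [← orderOf_dvd_iff_zpow_eq_one]
      exact ⟨z * b, by ring⟩
    have h2 : x ^ (z * (b * (orderOf y : ℤ))) = x ^ z := by
      rw [zpow_eq_zpow_iff_modEq, Int.modEq_iff_dvd]
      exact ⟨z * a, by linear_combination (-z) * hab⟩
    rw [h1, h2, mul_one]
  have hyz : y ^ z = ((x * y) ^ z) ^ (a * (orderOf x : ℤ)) := by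
    rw [← zpow_mul, hc.mul_zpow]
    have h1 : x ^ (z * (a * (orderOf x : ℤ))) = 1 := by
      rw [← orderOf_dvd_iff_zpow_eq_one]
      exact ⟨z * a, by ring⟩
    have h2 : y ^ (z * (a * (orderOf x : ℤ))) = y ^ z := by
      rw [zpow_eq_zpow_iff_modEq, Int.modEq_iff_dvd]
      exact ⟨z * b, by linear_combination (-z) * hab⟩
    rw [h1, h2, one_mul]
  have h3 : x ^ z = 1 := hx z (by rw [hxz]; exact zpow_mem_sigmaHat hz _)
  have h4 : y ^ z = 1 := hy z (by rw [hyz]; exact zpow_mem_sigmaHat hz _)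
  rw [hc.mul_zpow, h3, h4, one_mul]

/-- in a cyclic `p`-group `⟨g⟩` of order `p ^ a`, every non-identity element has `g ^ (p ^ (a - 1))` among its
powers -/
theorem pow_mem_zpowers_of_ne_one [Finite G] {g w : G} {p a : ℕ} [hp : Fact p.Prime] (_ha : a ≠ 0)
    (hg : orderOf g = p ^ a) (hw : w ∈ zpowers g) (hw1 : w ≠ 1) : g ^ (p ^ (a - 1)) ∈ zpowers w := by
  rw [← mem_powers_iff_mem_zpowers, Submonoid.mem_powers_iff] at hw
  obtain ⟨m, rfl⟩ := hw
  have hm0 : m ≠ 0 := by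
    rintro rfl
    exact hw1 (pow_zero g)
  obtain ⟨j, m', hpm', rfl⟩ := Nat.exists_eq_pow_mul_and_not_dvd hm0 p hp.out.ne_one
  have hj : j < a := by
    by_contra hja
    push Not at hja
    apply hw1
    rw [← orderOf_dvd_iff_pow_eq_one, hg]
    exact dvd_mul_of_dvd_left (pow_dvd_pow p hja) m'
  set h : G := g ^ (p ^ (a - 1)) with hh
  have hoh : orderOf h = p := by
    have h1 : p ^ (a - 1) ∣ orderOf g := by rw [hg]; exact pow_dvd_pow p (Nat.sub_le a 1)
    rw [hh, orderOf_pow_of_dvd (pow_ne_zero _ hp.out.ne_zero) h1, hg]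
    have : p ^ a = p ^ (a - 1) * p := by
      rw [← pow_succ]; congr 1; omega
    rw [this, Nat.mul_div_cancel_left _ (pow_pos hp.out.pos _)]
  have h1 : (g ^ (p ^ j * m')) ^ (p ^ (a - 1 - j)) = h ^ m' := by
    rw [hh, ← pow_mul, ← pow_mul]
    congr 1
    have : p ^ (a - 1) = p ^ j * p ^ (a - 1 - j) := by
      rw [← pow_add]; congr 1; omega
    rw [this]; ring
  have hcop : IsCoprime (m' : ℤ) (p : ℤ) := by
    rw [Nat.isCoprime_iff_coprime]
    exact ((Nat.Prime.coprime_iff_not_dvd hp.out).mpr hpm').symm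
  obtain ⟨c, d, hcd⟩ := hcop
  have h2 : h = (h ^ m') ^ c := by
    rw [← zpow_natCast, ← zpow_mul]
    conv_lhs => rw [← zpow_one h]
    rw [zpow_eq_zpow_iff_modEq, hoh, Int.modEq_iff_dvd]
    exact ⟨-d, by linear_combination hcd⟩
  rw [h2, ← h1]
  exact Subgroup.zpow_mem _ (Subgroup.pow_mem _ (mem_zpowers _) _) _

section FreePart

open Cfsg.Agent.Lib.Helper22_Radical

variable [Finite G] {M K U : Subgroup G}

/-- an element of `M` whose order involves only primes outside `κ(M) ∪ σ(M)` is `M`-conjugate into `U` -/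
theorem conj_into_U (hsolv : Group.IsSolvable ↥M) (hKU : IsSigmaDecomposition M K U)
    (h1350 : IsPiHallOf (sigma M) (sigmaCore M) M) {g : G} (hg : g ∈ M)
    (hprimes : ∀ q : ℕ, q.Prime → q ∣ orderOf g → q ∉ kappa M ∧ q ∉ sigma M) :
    ∃ m ∈ M, m * g * m⁻¹ ∈ U := by
  have hZ : zpowers g ≤ M := zpowers_le.mpr hg
  have hZp : ∀ q : ℕ, q.Prime → q ∣ Nat.card (zpowers g) →
      q ∈ {q | q.Prime ∧ q ∉ kappa M ∧ q ∉ sigma M} := by
    intro q hq hqd
    rw [Nat.card_zpowers] at hqd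
    exact ⟨hq, hprimes q hq hqd⟩
  obtain ⟨H, hH, hZH⟩ := Cfsg.Agent.Lib.Helper24_CoprimeHall.exists_piHall_ge hsolv hZ hZp
  have h2 := (Cfsg.Agent.Lib.Helper24_CoprimeHall.isPiHallOf_iff _ _ _).mp (U_isPiHallOf hKU h1350)
  obtain ⟨m, hm, hmU⟩ := Cfsg.Agent.Lib.Helper24_CoprimeHall.piHall_conj hsolv hH h2
  refine ⟨m, hm, ?_⟩
  rw [← hmU]
  exact ⟨g, hZH (mem_zpowers g), rfl⟩

omit [Finite G] in
theorem orderOf_conj' (m g : G) : orderOf (m * g * m⁻¹) = orderOf g := by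
  have := MulEquiv.orderOf_eq (MulAut.conj m) g
  rwa [MulAut.conj_apply] at this

omit [Finite G] in
theorem orderOf_zpow_dvd' (g : G) (z : ℤ) : orderOf (g ^ z) ∣ orderOf g := by
  apply orderOf_dvd_of_pow_eq_one
  rw [← zpow_natCast, ← zpow_mul, mul_comm, zpow_mul, zpow_natCast, pow_orderOf_eq_one, one_zpow]

omit [Finite G] in
/-- the prime divisors of the order of an element of prime power order -/
theorem eq_of_dvd_orderOf_of_dvd_pow {p q a n : ℕ} (hp : p.Prime) (hq : q.Prime) (hn : n ∣ p ^ a)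
    (hqn : q ∣ n) : q = p :=
  (Nat.prime_dvd_prime_iff_eq hq hp).mp (hq.dvd_of_dvd_pow (dvd_trans hqn hn))

/-- **the `p`-part of a free subgroup of the same exponent**: for every prime `p`, `U` contains a free element of
order the full `p`-part of the exponent of `U`. -/
theorem exists_free_prime_part (hG : IsMinSimpleOddOrder G) (hM : IsCoatom M)
    (hKU : IsSigmaDecomposition M K U) (h1350 : IsPiHallOf (sigma M) (sigmaCore M) M)
    (h1432 : ∀ x ∈ sigmaCore M, x ≠ 1 → ∀ x' ∈ M ⊓ centralizer ({x} : Set G), x' ≠ 1 →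
      (∀ p : ℕ, p.Prime → p ∣ orderOf x' → p ∉ sigma M) →
      (∀ p : ℕ, p.Prime → p ∣ orderOf x' → p ∈ kappa M) ∨
        (∀ p : ℕ, p.Prime → p ∣ orderOf x' → p ∈ tau2 M))
    (h1417 : ∀ (p : ℕ) [Fact p.Prime], p ∈ tau2 M → ∀ A : Subgroup G,
      (A ≤ M ∧ IsElementaryAbelian p A ∧ Nat.card A = p ^ 2) → ∀ P : Sylow p M,
      A ≤ (P : Subgroup M).map M.subtype →
      ¬ normalizer ((((P : Subgroup M).map M.subtype : Subgroup G)) : Set G) ≤ M)
    (h1420 : ∀ x ∈ M, x ≠ 1 → (∀ p : ℕ, p.Prime → p ∣ orderOf x → p ∈ tau2 M) → x ∈ sigmaHat M →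
      centralizer ({x} : Set G) ≤ M ∧
        ∀ L : Subgroup G, IsCoatom L → centralizer ({x} : Set G) ≤ L → L = M)
    (p : ℕ) [hp : Fact p.Prime] :
    ∃ g ∈ U, orderOf g = p ^ (Monoid.exponent ↥U).factorization p ∧ Free M g := by
  have hsolv : Group.IsSolvable ↥M := hG.2.2.2 M hM.1
  obtain ⟨g₀, hg₀⟩ := hp.out.exists_orderOf_eq_pow_factorization_exponent ↥U
  set a := (Monoid.exponent ↥U).factorization p with ha
  have hg₀' : orderOf (g₀ : G) = p ^ a := by rw [Subgroup.orderOf_coe, hg₀]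
  by_cases ha0 : a = 0
  · refine ⟨1, U.one_mem, ?_, free_one M⟩
    rw [ha0, pow_zero, orderOf_one]
  have hpU : p ∣ Nat.card U := by
    have h1 : p ∣ orderOf g₀ := by rw [hg₀]; exact dvd_pow_self p ha0
    exact dvd_trans h1 (orderOf_dvd_natCard g₀)
  obtain ⟨hpM, hps, hpk⟩ := not_mem_of_dvd_card_U hKU h1350 hp.out hpU
  -- non-identity `p`-elements have `p` as their only prime
  have honly : ∀ w : G, ∀ k : ℕ, orderOf w ∣ p ^ k → ∀ q : ℕ, q.Prime → q ∣ orderOf w → q = p :=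
    fun w k hw q hq hqw => eq_of_dvd_orderOf_of_dvd_pow hp.out hq hw hqw
  have hpdvd : ∀ w : G, ∀ k : ℕ, orderOf w ∣ p ^ k → w ≠ 1 → p ∣ orderOf w := by
    intro w k hw hw1
    have ho1 : orderOf w ≠ 1 := fun h => hw1 (orderOf_eq_one_iff.mp h)
    obtain ⟨q, hq, hqw⟩ := Nat.exists_prime_and_dvd ho1
    rwa [honly w k hw q hq hqw] at hqw
  by_cases ht2 : p ∈ tau2 M
  · -- the hard case
    by_contra hno
    push Not at hno
    -- every element of `M` of order `p ^ a` has its `p ^ (a - 1)`-th power in `M̂_σ`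
    have hbadU : ∀ g ∈ U, orderOf g = p ^ a → g ^ (p ^ (a - 1)) ∈ sigmaHat M := by
      intro g hgU hg
      have h1 := hno g hgU hg
      unfold Free at h1
      push Not at h1
      obtain ⟨z, hz, hz1⟩ := h1
      have h2 := pow_mem_zpowers_of_ne_one ha0 hg (zpow_mem_zpowers g z) hz1
      obtain ⟨k, hk⟩ := mem_zpowers_iff.mp h2
      rw [← hk]
      exact zpow_mem_sigmaHat hz k
    have hbad : ∀ g ∈ M, orderOf g = p ^ a → g ^ (p ^ (a - 1)) ∈ sigmaHat M := by
      intro g hgM hg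
      have hprimes : ∀ q : ℕ, q.Prime → q ∣ orderOf g → q ∉ kappa M ∧ q ∉ sigma M := by
        intro q hq hqg
        rw [honly g a (by rw [hg]) q hq hqg]
        exact ⟨hpk, hps⟩
      obtain ⟨m, hm, hmU⟩ := conj_into_U hsolv hKU h1350 hgM hprimes
      have h1 : orderOf (m * g * m⁻¹) = p ^ a := by rw [orderOf_conj', hg]
      have h2 := hbadU _ hmU h1
      have h3 := conj_mem_sigmaHat (M.inv_mem hm) h2
      have h4 : m⁻¹ * (m * g * m⁻¹) ^ (p ^ (a - 1)) * m⁻¹⁻¹ = g ^ (p ^ (a - 1)) := by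
        rw [conj_pow]; group
      rwa [h4] at h3
    -- an elementary abelian subgroup of order `p ^ 2` in a Sylow subgroup of `M`
    obtain ⟨A, hA⟩ := Cfsg.Agent.Lib.Helper49_Alpha3.exists_elemAb_sq ht2.2.2.1 ht2.2.2.2
    have hAp : IsPGroup p ↥(A.subgroupOf M) := by
      intro x
      refine ⟨1, ?_⟩
      have h1 : (x : M) ∈ A.subgroupOf M := x.2
      have h2 := hA.2.1.2 ((x : M) : G) (mem_subgroupOf.mp h1)
      apply Subtype.ext
      apply Subtype.ext
      simpa using h2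
    obtain ⟨S, hAS⟩ := hAp.exists_le_sylow
    have hAS' : A ≤ (S : Subgroup M).map M.subtype := by
      intro x hx
      exact ⟨⟨x, hA.1 hx⟩, hAS (mem_subgroupOf.mpr hx), rfl⟩
    have hN := h1417 p ht2 A hA S hAS'
    apply hN
    -- an element of order `p ^ a` in `S`
    set gM : ↥M := ⟨(g₀ : G), hKU.compl.1 g₀.2⟩ with hgM
    have hogM : orderOf gM = p ^ a := by rw [hgM, Subgroup.orderOf_mk, hg₀']
    have hZ : IsPGroup p ↥(zpowers gM) := by
      apply IsPGroup.of_card (n := a)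
      rw [Nat.card_zpowers, hogM]
    obtain ⟨S₁, hS₁⟩ := hZ.exists_le_sylow
    obtain ⟨m, hm⟩ := MulAction.exists_smul_eq ↥M S₁ S
    have hg₁S : m * gM * m⁻¹ ∈ (S : Subgroup ↥M) := by
      rw [← hm, Sylow.coe_subgroup_smul]
      have := Subgroup.smul_mem_pointwise_smul gM (MulAut.conj m) (S₁ : Subgroup ↥M)
        (hS₁ (mem_zpowers gM))
      simpa [MulAut.smul_def] using this
    set g₁ : G := ((m * gM * m⁻¹ : ↥M) : G) with hg₁
    have hg₁mem : g₁ ∈ (S : Subgroup M).map M.subtype := ⟨_, hg₁S, rfl⟩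
    have hog₁ : orderOf g₁ = p ^ a := by rw [hg₁, Subgroup.orderOf_coe, orderOf_conj', hogM]
    have hM1 : M ≠ ⊥ := by
      intro h
      rw [h, Subgroup.card_bot] at hpM
      exact hp.out.one_lt.ne' (Nat.dvd_one.mp hpM)
    -- the normalizer of `S` lies in `M`
    intro n hn
    have hSM : (S : Subgroup M).map M.subtype ≤ M := Subgroup.map_subtype_le _
    have hg₂mem : n * g₁ * n⁻¹ ∈ (S : Subgroup M).map M.subtype :=
      (Subgroup.mem_normalizer_iff.mp hn g₁).mp hg₁mem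
    have hog₂ : orderOf (n * g₁ * n⁻¹) = p ^ a := by rw [orderOf_conj', hog₁]
    -- the elements `h₁`, `h₂` of order `p`
    have hpow_ne : ∀ g : G, orderOf g = p ^ a → g ^ (p ^ (a - 1)) ≠ 1 := by
      intro g hg h1
      have h2 := orderOf_dvd_of_pow_eq_one h1
      rw [hg] at h2
      have h3 := Nat.pow_dvd_pow_iff_le_right hp.out.one_lt |>.mp h2
      omega
    have hpow_ord : ∀ g : G, orderOf g = p ^ a → ∀ q : ℕ, q.Prime →
        q ∣ orderOf (g ^ (p ^ (a - 1))) → q ∈ tau2 M := by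
      intro g hg q hq hqd
      have h1 : orderOf (g ^ (p ^ (a - 1))) ∣ p ^ a := by
        rw [← hg]; exact orderOf_pow_dvd _
      rw [honly _ a h1 q hq hqd]
      exact ht2
    obtain ⟨hC₁, -⟩ := h1420 _ (hbad g₁ (hSM hg₁mem) hog₁).1 (hpow_ne g₁ hog₁) (hpow_ord g₁ hog₁)
      (hbad g₁ (hSM hg₁mem) hog₁)
    obtain ⟨-, huniq⟩ := h1420 _ (hbad _ (hSM hg₂mem) hog₂).1 (hpow_ne _ hog₂) (hpow_ord _ hog₂)
      (hbad _ (hSM hg₂mem) hog₂)
    have hcoat : IsCoatom (cj n M) := Cfsg.Agent.Lib.Helper22_Uniq.isCoatom_cj hM n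
    have hle : centralizer ({(n * g₁ * n⁻¹) ^ (p ^ (a - 1))} : Set G) ≤ cj n M := by
      intro c hc
      rw [mem_cj]
      apply hC₁
      rw [Subgroup.mem_centralizer_iff] at hc ⊢
      rintro _ rfl
      have h1 := hc _ rfl
      rw [conj_pow] at h1
      calc g₁ ^ (p ^ (a - 1)) * (n⁻¹ * c * n)
          = n⁻¹ * (n * g₁ ^ (p ^ (a - 1)) * n⁻¹ * c) * n := by group
        _ = n⁻¹ * (c * (n * g₁ ^ (p ^ (a - 1)) * n⁻¹)) * n := by rw [h1]
        _ = n⁻¹ * c * n * g₁ ^ (p ^ (a - 1)) := by group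
    have heq := huniq _ hcoat hle
    have hnN : n ∈ normalizer (M : Set G) := by
      rw [Subgroup.mem_normalizer_iff]
      intro x
      constructor
      · intro hx
        rw [← heq, mem_cj]
        have : n⁻¹ * (n * x * n⁻¹) * n = x := by group
        rwa [this]
      · intro hx
        rw [← heq, mem_cj] at hx
        have : n⁻¹ * (n * x * n⁻¹) * n = x := by group
        rwa [this] at hx
    rw [Cfsg.Agent.Lib.Helper49_Alpha3.normalizer_coatom hG hM hM1] at hnN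
    exact hnN
  · -- `p ∉ τ₂(M)`: every `p`-element of `U` is free
    refine ⟨(g₀ : G), g₀.2, hg₀', fun z hz => ?_⟩
    by_contra hz1
    obtain ⟨hzM, y, hy, hy1, hc⟩ := hz
    have hord : orderOf ((g₀ : G) ^ z) ∣ p ^ a := by
      rw [← hg₀']; exact orderOf_zpow_dvd' _ _
    have hcent0 : (g₀ : G) ^ z ∈ centralizer ({y} : Set G) := by
      rw [Subgroup.mem_centralizer_iff]
      rintro _ rfl
      exact hc.symm
    have hcent : (g₀ : G) ^ z ∈ M ⊓ centralizer ({y} : Set G) := ⟨hzM, hcent0⟩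
    have hpz := hpdvd _ a hord hz1
    rcases h1432 y hy hy1 _ hcent hz1 (fun q hq hqd => by rw [honly _ a hord q hq hqd]; exact hps)
      with h | h
    · exact hpk (h p hp.out hpz)
    · exact ht2 (h p hp.out hpz)

/-- assembling the `p`-parts: a free element of order the exponent of `U` (`U` abelian) -/
theorem exists_free_of_parts (hUc : ∀ a ∈ U, ∀ b ∈ U, a * b = b * a)
    (hpart : ∀ (p : ℕ) [Fact p.Prime],
      ∃ g ∈ U, orderOf g = p ^ (Monoid.exponent ↥U).factorization p ∧ Free M g) :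
    ∃ u ∈ U, orderOf u = Monoid.exponent ↥U ∧ Free M u := by
  set e := Monoid.exponent ↥U with he
  have he0 : e ≠ 0 := Monoid.exponent_ne_zero_of_finite
  have key : ∀ s : Finset ℕ, (∀ p ∈ s, p.Prime) →
      ∃ u ∈ U, orderOf u = ∏ p ∈ s, p ^ e.factorization p ∧ Free M u := by
    intro s
    induction s using Finset.induction_on with
    | empty =>
      intro _
      exact ⟨1, U.one_mem, by simp, free_one M⟩
    | insert p s hps ih =>
      intro hprime
      obtain ⟨u, huU, hou, hfu⟩ := ih (fun q hq => hprime q (Finset.mem_insert_of_mem hq))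
      have hp : p.Prime := hprime p (Finset.mem_insert_self p s)
      have : Fact p.Prime := ⟨hp⟩
      obtain ⟨g, hgU, hog, hfg⟩ := hpart p
      have hcomm : Commute u g := hUc u huU g hgU
      have hcop : (orderOf u).Coprime (orderOf g) := by
        rw [hou, hog]
        apply Nat.Coprime.prod_left
        intro q hq
        apply Nat.Coprime.pow
        rw [Nat.coprime_primes (hprime q (Finset.mem_insert_of_mem hq)) hp]
        rintro rfl
        exact hps hq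
      refine ⟨u * g, U.mul_mem huU hgU, ?_, hfu.mul hfg hcomm hcop⟩
      rw [hcomm.orderOf_mul_eq_mul_orderOf_of_coprime hcop, Finset.prod_insert hps, hou, hog, mul_comm]
  obtain ⟨u, huU, hou, hfu⟩ := key e.primeFactors (fun p hp => Nat.prime_of_mem_primeFactors hp)
  refine ⟨u, huU, ?_, hfu⟩
  rw [hou]
  have := Nat.prod_factorization_pow_eq_self he0
  rwa [Finsupp.prod, Nat.support_factorization] at this

/-- **Bender–Glauberman, Theorem II (f)** (`S1360`), from 12.5, 12.6, 12.7, 14.2 and 14.3. -/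
theorem free_statement (hG : IsMinSimpleOddOrder G) (hM : IsCoatom M)
    (hKU : IsSigmaDecomposition M K U) (h1350 : IsPiHallOf (sigma M) (sigmaCore M) M)
    (h1430 : K ≠ ⊥ → ∃ U' : Subgroup G, IsMulCommutative U' ∧
      IsPiHallOf {q | q.Prime ∧ q ∉ kappa M ∧ q ∉ sigma M} U' M)
    (h1421 : IsComplIn U (sigmaCore M) M →
      (∀ e ∈ U, e ≠ 1 → (∀ p : ℕ, p.Prime → p ∣ orderOf e → p ∈ tau1 M ∪ tau3 M) →
        sigmaCore M ⊓ centralizer ({e} : Set G) = ⊥) →
      ∃ E₀ : Subgroup G, E₀ ≤ U ∧ Monoid.exponent E₀ = Monoid.exponent U ∧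
        ∀ e ∈ E₀, e ≠ 1 → sigmaCore M ⊓ centralizer ({e} : Set G) = ⊥)
    (h1432 : ∀ x ∈ sigmaCore M, x ≠ 1 → ∀ x' ∈ M ⊓ centralizer ({x} : Set G), x' ≠ 1 →
      (∀ p : ℕ, p.Prime → p ∣ orderOf x' → p ∉ sigma M) →
      (∀ p : ℕ, p.Prime → p ∣ orderOf x' → p ∈ kappa M) ∨
        (∀ p : ℕ, p.Prime → p ∣ orderOf x' → p ∈ tau2 M))
    (h1417 : ∀ (p : ℕ) [Fact p.Prime], p ∈ tau2 M → ∀ A : Subgroup G,
      (A ≤ M ∧ IsElementaryAbelian p A ∧ Nat.card A = p ^ 2) → ∀ P : Sylow p M,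
      A ≤ (P : Subgroup M).map M.subtype →
      ¬ normalizer ((((P : Subgroup M).map M.subtype : Subgroup G)) : Set G) ≤ M)
    (h1420 : ∀ E : Subgroup G, IsComplIn E (sigmaCore M) M →
      ∀ x ∈ M, x ≠ 1 → (∀ p : ℕ, p.Prime → p ∣ orderOf x → p ∈ tau2 M) → x ∈ sigmaHat M →
      centralizer ({x} : Set G) ≤ M ∧
        ∀ L : Subgroup G, IsCoatom L → centralizer ({x} : Set G) ≤ L → L = M) :
    ∃ U₀ : Subgroup G, U₀ ≤ U ∧ Monoid.exponent U₀ = Monoid.exponent U ∧
      ∀ u ∈ U₀, u ∈ sigmaHat M → u = 1 := by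
  by_cases hK : K = ⊥
  · exact exists_free_of_K_eq_bot hG hKU hK h1421
  · have hsolv : Group.IsSolvable ↥M := hG.2.2.2 M hM.1
    have hUc := U_comm hsolv hKU h1350 (h1430 hK)
    obtain ⟨E, hE⟩ := exists_compl_sigmaCore h1350
    obtain ⟨u, huU, hou, hfu⟩ := exists_free_of_parts hUc
      (fun p _ => exists_free_prime_part hG hM hKU h1350 h1432 h1417 (h1420 E hE) p)
    refine ⟨zpowers u, zpowers_le.mpr huU, ?_, fun w hw hws => ?_⟩
    · rw [IsCyclic.exponent_eq_card, Nat.card_zpowers, hou]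
    · obtain ⟨z, rfl⟩ := mem_zpowers_iff.mp hw
      exact hfu z hws

/-- **Bender–Glauberman, Theorem II (e)** (`S1359`), from 12.7 and 14.2. -/
theorem closure_statement (hG : IsMinSimpleOddOrder G) (hM : IsCoatom M)
    (hKU : IsSigmaDecomposition M K U) (h1350 : IsPiHallOf (sigma M) (sigmaCore M) M)
    (h1430 : K ≠ ⊥ → ∃ U' : Subgroup G, IsMulCommutative U' ∧
      IsPiHallOf {q | q.Prime ∧ q ∉ kappa M ∧ q ∉ sigma M} U' M)
    (h1421 : IsComplIn U (sigmaCore M) M →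
      (∀ e ∈ U, e ≠ 1 → (∀ p : ℕ, p.Prime → p ∣ orderOf e → p ∈ tau1 M ∪ tau3 M) →
        sigmaCore M ⊓ centralizer ({e} : Set G) = ⊥) →
      ∃ A₀ : Subgroup G, A₀ ≤ U ∧ U ≤ normalizer (A₀ : Set G) ∧ IsMulCommutative A₀ ∧
        ∀ x ∈ sigmaCore M, x ≠ 1 → U ⊓ centralizer ({x} : Set G) ≤ A₀) :
    IsMulCommutative (closure ((U : Set G) ∩ sigmaHat M)) := by
  by_cases hK : K = ⊥
  · exact closure_comm_of_K_eq_bot hG hKU hK h1421
  · have hsolv : Group.IsSolvable ↥M := hG.2.2.2 M hM.1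
    have hUc := U_comm hsolv hKU h1350 (h1430 hK)
    have hle : closure ((U : Set G) ∩ sigmaHat M) ≤ U := by
      rw [closure_le]
      exact Set.inter_subset_left
    refine ⟨⟨fun a b => ?_⟩⟩
    exact Subtype.ext (hUc a.1 (hle a.2) b.1 (hle b.2))

end FreePart

end Cfsg.Agent.Lib.Helper53_BG16b
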