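import Mathlib
import Cfsg.Agent.Lib.Helper20_PGroupRank3
import Cfsg.Agent.Lib.Helper20_OmegaOne

/-!
# Normal elementary abelian subgroups of order `p²` in `p`-groups of rank at least three

`exists_rank_three_of_normal_rank_two` : for `p` odd, if the finite `p`-group `R` has an abelian
subgroup of exponent `p` and order at least `p³`, then every normal abelian subgroup `E` of exponent
`p` and order `p²` lies in a normal abelian subgroup of exponent `p` and order at least `p³`.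
-/

set_option autoImplicit false

namespace Cfsg.Agent.Lib.Helper20_RankThreeSCN

open Cfsg.Agent.Lib.Helper20_PGroupOdd Cfsg.Agent.Lib.Helper20_PGroupRank3
  Cfsg.Agent.Lib.Helper20_OmegaOne

universe u

section
variable {R : Type u} [Group R] [Finite R] {p : ℕ} [Fact p.Prime]

/-- A normal abelian subgroup of exponent `p` and order `p²` of a `p`-group, `p` odd, is the
subgroup `B` of a good pair. -/
theorem exists_good_eq (hp : p ≠ 2) (hR : IsPGroup p R) (E : Subgroup R) [E.Normal]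
    (hEe : ∀ a ∈ E, a ^ p = 1) (hE2 : Nat.card E = p ^ 2) :
    ∃ (z h : R) (hg : Good p E z h), hg.B = E := by
  have hpP : p.Prime := Fact.out
  have hp12 : p < p ^ 2 := by
    have h4 : p ^ 1 < p ^ 2 := Nat.pow_lt_pow_right hpP.one_lt (by norm_num)
    rwa [pow_one] at h4
  have hEnc : ¬ IsCyclic E := by
    intro hc
    have h1 : Nat.card E ≤ p := by
      apply card_le_of_isCyclic_of_exp hpP
      intro g
      apply Subtype.ext
      simpa using hEe g.1 g.2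
    rw [hE2] at h1
    omega
  obtain ⟨z, h, hg⟩ := exists_good hp hR E hEnc
  exact ⟨z, h, hg, Subgroup.eq_of_le_of_card_ge hg.B_le (by rw [hE2, hg.card_B])⟩

omit [Finite R] [Fact (Nat.Prime p)] in
/-- elements of `B` commute with the centralizer of `h` -/
theorem good_comm_ker {S : Subgroup R} {z h : R} (hg : Good p S z h) :
    ∀ r ∈ hg.B, ∀ m : R, m * h = h * m → r * m = m * r := by
  have hzc : z ∈ Subgroup.center R := hg.2.2.1
  intro r hr m hm
  obtain ⟨u, hu, v, hv, rfl⟩ := hg.mem_B_iff.mp hr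
  obtain ⟨j, rfl⟩ := Subgroup.mem_zpowers_iff.mp hv
  have huc : u ∈ Subgroup.center R := (Subgroup.zpowers_le.mpr hzc) hu
  have h1 : m * h ^ j = h ^ j * m := (Commute.zpow_right hm j).eq
  calc u * h ^ j * m = u * (h ^ j * m) := mul_assoc _ _ _
    _ = u * (m * h ^ j) := by rw [h1]
    _ = (u * m) * h ^ j := (mul_assoc _ _ _).symm
    _ = (m * u) * h ^ j := by rw [(Subgroup.mem_center_iff.mp huc m)]
    _ = m * (u * h ^ j) := mul_assoc _ _ _

theorem exists_rank_three_of_normal_rank_two (hp : p ≠ 2) (hR : IsPGroup p R)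
    (F : Subgroup R) (hFcomm : ∀ x ∈ F, ∀ y ∈ F, x * y = y * x) (hFe : ∀ x ∈ F, x ^ p = 1)
    (hF3 : p ^ 3 ≤ Nat.card F)
    (E : Subgroup R) [E.Normal] (hEcomm : ∀ x ∈ E, ∀ y ∈ E, x * y = y * x)
    (hEexp : ∀ a ∈ E, a ^ p = 1) (hE2 : Nat.card E = p ^ 2) :
    ∃ E₁ : Subgroup R, E ≤ E₁ ∧ E₁.Normal ∧ (∀ x ∈ E₁, ∀ y ∈ E₁, x * y = y * x) ∧
      (∀ x ∈ E₁, x ^ p = 1) ∧ p ^ 3 ≤ Nat.card E₁ := by
  have hpP : p.Prime := Fact.out
  obtain ⟨B, hBn, hBc, hBe, hBcard⟩ := exists_normal_rank_three hp hR F hFcomm hFe hF3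
  have hp23 : p ^ 2 < p ^ 3 := Nat.pow_lt_pow_right hpP.one_lt (by norm_num)
  obtain ⟨z, h, hg, hBE⟩ := exists_good_eq hp hR E hEexp hE2
  have hzc : z ∈ Subgroup.center R := hg.2.2.1
  have hcomm : ∀ g : R, g * h * g⁻¹ * h⁻¹ ∈ Subgroup.zpowers z := hg.2.2.2.2.2.2
  set ψ := commHom hzc hcomm with hψ
  have hCmem : ∀ g : R, g ∈ ψ.ker ↔ g * h = h * g := mem_commHom_ker hzc hcomm
  have hhE : h ∈ E := hg.2.1
  have hEC : ∀ r ∈ E, ∀ m ∈ ψ.ker, r * m = m * r := by
    intro r hr m hm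
    rw [← hBE] at hr
    exact good_comm_ker hg r hr m ((hCmem m).mp hm)
  have hcard1 : Nat.card B ≤ Nat.card ↥(B ⊓ ψ.ker) * p := by
    have h1 := Subgroup.relIndex_mul_relIndex (⊥ : Subgroup R) (B ⊓ ψ.ker) B bot_le inf_le_left
    rw [Subgroup.relIndex_bot_left, Subgroup.relIndex_bot_left, Subgroup.inf_relIndex_left,
      Subgroup.relIndex_ker] at h1
    rw [← h1]
    apply Nat.mul_le_mul_left
    have h2 : Nat.card ↥(B.map ψ) ≤ Nat.card ↥(Subgroup.zpowers z) :=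
      Subgroup.card_le_card_group (B.map ψ)
    rwa [Nat.card_zpowers, hg.2.2.2.1] at h2
  have hBC2 : p ^ 2 ≤ Nat.card ↥(B ⊓ ψ.ker) := by
    rw [hBcard] at hcard1
    have h2 : p ^ 3 = p ^ 2 * p := by ring
    rw [h2] at hcard1
    exact Nat.le_of_mul_le_mul_right hcard1 hpP.pos
  set E₁ : Subgroup R := E ⊔ (B ⊓ ψ.ker) with hE₁
  have hE₁n : E₁.Normal := inferInstance
  have hE₁mem : ∀ x ∈ E₁, ∃ r ∈ E, ∃ e ∈ B ⊓ ψ.ker, r * e = x :=
    fun x hx => Subgroup.mem_sup_of_normal_left.mp hx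
  have hre : ∀ r ∈ E, ∀ e ∈ B ⊓ ψ.ker, Commute r e := fun r hr e he => hEC r hr e he.2
  have hE₁c : ∀ x ∈ E₁, ∀ y ∈ E₁, x * y = y * x := by
    intro x hx y hy
    obtain ⟨r, hr, e, he, rfl⟩ := hE₁mem x hx
    obtain ⟨r', hr', e', he', rfl⟩ := hE₁mem y hy
    have c1 : Commute r r' := hEcomm r hr r' hr'
    have c2 : Commute e e' := hBc e he.1 e' he'.1
    have c3 : Commute r e' := hre r hr e' he'
    have c4 : Commute e r' := (hre r' hr' e he).symm
    exact ((c1.mul_right c3).mul_left (c4.mul_right c2)).eq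
  have hE₁e : ∀ x ∈ E₁, x ^ p = 1 := by
    intro x hx
    obtain ⟨r, hr, e, he, rfl⟩ := hE₁mem x hx
    rw [(hre r hr e he).mul_pow, hEexp r hr, hBe e he.1, one_mul]
  refine ⟨E₁, le_sup_left, hE₁n, hE₁c, hE₁e, ?_⟩
  by_contra hlt
  push Not at hlt
  obtain ⟨k, hk⟩ := IsPGroup.iff_card.mp (hR.to_subgroup E₁)
  have hk2 : k ≤ 2 := by
    by_contra hk3
    push Not at hk3
    have : p ^ 3 ≤ p ^ k := Nat.pow_le_pow_right hpP.pos hk3
    omega
  have hle : Nat.card E₁ ≤ p ^ 2 := by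
    rw [hk]; exact Nat.pow_le_pow_right hpP.pos hk2
  have hEq : E = E₁ := Subgroup.eq_of_le_of_card_ge le_sup_left (by rw [hE2]; exact hle)
  have h1 : B ⊓ ψ.ker ≤ E := by rw [hEq]; exact le_sup_right
  have h2 : B ⊓ ψ.ker = E := Subgroup.eq_of_le_of_card_ge h1 (by rw [hE2]; exact hBC2)
  have hhB : h ∈ B := by
    have : h ∈ B ⊓ ψ.ker := by rw [h2]; exact hhE
    exact this.1
  have hBker : B ≤ ψ.ker := by
    intro b hb
    rw [hCmem]
    exact hBc b hb h hhB
  have h3 : B ⊓ ψ.ker = B := inf_eq_left.mpr hBker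
  rw [h3] at h2
  rw [h2, hE2] at hBcard
  omega

end

end Cfsg.Agent.Lib.Helper20_RankThreeSCN
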