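import Mathlib
import Cfsg.Agent.Lib.Helper20_RankTwoOmega

/-!
# Suzuki's lemma on self-centralizing subgroups of order `p²`

* `card_comap_mk'` : order of a preimage under `G → G ⧸ N`.
* `commHomSub` : for `Z ≤ center G` and `a` with `x a x⁻¹ a⁻¹ ∈ Z` for all `x ∈ D`, the
  homomorphism `D → Z`, `x ↦ x a x⁻¹ a⁻¹`.
* `suzuki` : a group of order `p ^ n` with a subgroup `A` of order `p²` with `C_G(A) ≤ A` has
  nilpotency class `n - 1`.
-/

set_option autoImplicit false

namespace Cfsg.Agent.Lib.Helper20_Suzuki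

open Cfsg.Agent.Lib.Helper20_RankTwoOmega

universe u

section General
variable {G : Type*} [Group G]

theorem card_comap_mk' [Finite G] (N : Subgroup G) [N.Normal] (K : Subgroup (G ⧸ N)) :
    Nat.card ↥(K.comap (QuotientGroup.mk' N)) = Nat.card K * Nat.card N := by
  have h1 : (K.comap (QuotientGroup.mk' N)).index = K.index :=
    Subgroup.index_comap_of_surjective K (QuotientGroup.mk'_surjective N)
  have h2 := Subgroup.card_mul_index (K.comap (QuotientGroup.mk' N))
  have h3 := Subgroup.card_mul_index K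
  have h4 := Subgroup.card_eq_card_quotient_mul_card_subgroup N
  have h5 : K.index ≠ 0 := Subgroup.index_ne_zero_of_finite
  rw [h1] at h2
  have h6 : Nat.card ↥(K.comap (QuotientGroup.mk' N)) * K.index
      = (Nat.card K * Nat.card N) * K.index := by
    rw [h2, h4, ← h3]; ring
  exact Nat.eq_of_mul_eq_mul_right (Nat.pos_of_ne_zero h5) h6

theorem mem_comap_centralizer_map (N : Subgroup G) [N.Normal] (A : Subgroup G) (x : G) :
    x ∈ (Subgroup.centralizer ((A.map (QuotientGroup.mk' N) : Subgroup (G ⧸ N)) : Set (G ⧸ N))).comap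
      (QuotientGroup.mk' N) ↔ ∀ a ∈ A, x * a * x⁻¹ * a⁻¹ ∈ N := by
  rw [Subgroup.mem_comap, Subgroup.mem_centralizer_iff]
  constructor
  · intro h a ha
    have h1 := h _ (Subgroup.mem_map_of_mem _ ha)
    rw [← QuotientGroup.eq_one_iff]
    have h2 : ((x * a * x⁻¹ * a⁻¹ : G) : G ⧸ N)
        = (QuotientGroup.mk' N x) * (QuotientGroup.mk' N a) * (QuotientGroup.mk' N x)⁻¹
          * (QuotientGroup.mk' N a)⁻¹ := by
      simp
    rw [h2, ← h1]
    group
  · rintro h _ ⟨a, ha, rfl⟩
    have h1 := (QuotientGroup.eq_one_iff (N := N) _).mpr (h a ha)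
    have h2 : ((x * a * x⁻¹ * a⁻¹ : G) : G ⧸ N)
        = (QuotientGroup.mk' N x) * (QuotientGroup.mk' N a) * (QuotientGroup.mk' N x)⁻¹
          * (QuotientGroup.mk' N a)⁻¹ := by
      simp
    rw [h2] at h1
    have h3 : (QuotientGroup.mk' N x) * (QuotientGroup.mk' N a)
        = ((QuotientGroup.mk' N x) * (QuotientGroup.mk' N a) * (QuotientGroup.mk' N x)⁻¹
          * (QuotientGroup.mk' N a)⁻¹) * ((QuotientGroup.mk' N a) * (QuotientGroup.mk' N x)) := by
      group
    rw [h3, h1, one_mul]

/-- The commutator homomorphism `x ↦ x a x⁻¹ a⁻¹` from `D` to a central subgroup `Z`. -/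
def commHomSub (D Z : Subgroup G) (hZ : Z ≤ Subgroup.center G) (a : G)
    (h : ∀ x ∈ D, x * a * x⁻¹ * a⁻¹ ∈ Z) : ↥D →* ↥Z :=
  MonoidHom.mk' (fun x => ⟨(x : G) * a * (x : G)⁻¹ * a⁻¹, h x x.2⟩) (by
    intro x y
    apply Subtype.ext
    have hy : (y : G) * a * (y : G)⁻¹ * a⁻¹ ∈ Subgroup.center G := hZ (h y y.2)
    have hc := Subgroup.mem_center_iff.mp hy
    show ((x : G) * (y : G)) * a * ((x : G) * (y : G))⁻¹ * a⁻¹
      = ((x : G) * a * (x : G)⁻¹ * a⁻¹) * ((y : G) * a * (y : G)⁻¹ * a⁻¹)
    calc ((x : G) * (y : G)) * a * ((x : G) * (y : G))⁻¹ * a⁻¹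
        = (x : G) * ((y : G) * a * (y : G)⁻¹ * a⁻¹) * (a * (x : G)⁻¹ * a⁻¹) := by group
      _ = ((y : G) * a * (y : G)⁻¹ * a⁻¹) * (x : G) * (a * (x : G)⁻¹ * a⁻¹) := by rw [hc]
      _ = ((y : G) * a * (y : G)⁻¹ * a⁻¹) * ((x : G) * a * (x : G)⁻¹ * a⁻¹) := by group
      _ = ((x : G) * a * (x : G)⁻¹ * a⁻¹) * ((y : G) * a * (y : G)⁻¹ * a⁻¹) := by rw [← hc])

theorem mem_commHomSub_ker (D Z : Subgroup G) (hZ : Z ≤ Subgroup.center G) (a : G)
    (h : ∀ x ∈ D, x * a * x⁻¹ * a⁻¹ ∈ Z) (x : ↥D) :
    x ∈ (commHomSub D Z hZ a h).ker ↔ (x : G) * a = a * (x : G) := by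
  rw [MonoidHom.mem_ker]
  constructor
  · intro hx
    have h1 : (x : G) * a * (x : G)⁻¹ * a⁻¹ = 1 := congrArg Subtype.val hx
    have h2 : (x : G) * a = ((x : G) * a * (x : G)⁻¹ * a⁻¹) * (a * (x : G)) := by group
    rw [h2, h1, one_mul]
  · intro hx
    apply Subtype.ext
    show (x : G) * a * (x : G)⁻¹ * a⁻¹ = 1
    rw [hx]; group

end General

/-- **Suzuki's lemma** (induction form). -/
theorem suzuki_aux (p : ℕ) [Fact p.Prime] :
    ∀ (n : ℕ) (G : Type u) [Group G] [Finite G], Nat.card G = p ^ n →
      ∀ A : Subgroup G, Nat.card A = p ^ 2 → Subgroup.centralizer (A : Set G) ≤ A →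
        Group.nilpotencyClass G = n - 1 := by
  have hpP : p.Prime := Fact.out
  intro n
  induction n with
  | zero =>
    intro G _ _ hn A hA hC
    exfalso
    have h1 := Subgroup.card_le_card_group A
    rw [hA, hn, pow_zero] at h1
    have h2 : 1 < p ^ 2 := Nat.one_lt_pow (by norm_num) hpP.one_lt
    omega
  | succ k ih =>
    intro G _ _ hn A hA hC
    have hG : IsPGroup p G := IsPGroup.of_card hn
    have hnil : Group.IsNilpotent G := hG.isNilpotent
    have hAc : IsMulCommutative A := IsPGroup.isMulCommutative_of_card_eq_prime_sq hA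
    have hAcomm : ∀ a ∈ A, ∀ b ∈ A, a * b = b * a := by
      intro a ha b hb
      have := hAc.is_comm.comm ⟨a, ha⟩ ⟨b, hb⟩
      exact congrArg Subtype.val this
    have hk1 : 1 ≤ k := by
      have h1 := Subgroup.card_le_card_group A
      rw [hA, hn] at h1
      have := (Nat.pow_le_pow_iff_right hpP.one_lt).mp h1
      omega
    have hnt : Nontrivial G := by
      rw [← Finite.one_lt_card_iff_nontrivial, hn]
      exact Nat.one_lt_pow (by omega) hpP.one_lt
    rcases Nat.eq_or_lt_of_le hk1 with hk | hk
    · -- `k = 1`: `G` has order `p²`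
      subst hk
      have hGc : IsMulCommutative G := IsPGroup.isMulCommutative_of_card_eq_prime_sq hn
      have h1 : Group.nilpotencyClass G ≤ 1 :=
        Group.IsNilpotent.nilpotencyClass_le_one_iff.mpr hGc
      have h0 : Group.nilpotencyClass G ≠ 0 := by
        intro h0
        have hs := Group.nilpotencyClass_zero_iff_subsingleton.mp h0
        exact not_subsingleton G hs
      omega
    · -- `k ≥ 2`
      set Z := Subgroup.center G with hZdef
      have hZA : Z ≤ A := (Subgroup.center_le_centralizer _).trans hC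
      have hZne : Z ≠ A := by
        intro h
        have h1 : Subgroup.centralizer (A : Set G) = ⊤ := by
          rw [Subgroup.centralizer_eq_top_iff_subset, ← h]
        rw [h1] at hC
        have h2 : A = ⊤ := top_le_iff.mp hC
        have h3 : Nat.card A = Nat.card G := by rw [h2, Subgroup.card_top]
        rw [hA, hn] at h3
        have := Nat.pow_right_injective hpP.two_le h3
        omega
      have hZcard : Nat.card Z = p := by
        have h1 : p ≤ Nat.card Z := card_center_ge hG
        have h2 : Nat.card Z ∣ p ^ 2 := hA ▸ Subgroup.card_dvd_of_le hZA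
        obtain ⟨j, hj2, hj⟩ := (Nat.dvd_prime_pow hpP).mp h2
        have hj0 : j ≠ 0 := by
          intro h0
          rw [hj, h0, pow_zero] at h1
          have := hpP.one_lt
          omega
        have hj2' : j ≠ 2 := by
          intro h2'
          apply hZne
          apply Subgroup.eq_of_le_of_card_ge hZA
          rw [hA, hj, h2']
        have hj1 : j = 1 := by omega
        rw [hj, hj1, pow_one]
      have hQcard : Nat.card (G ⧸ Z) = p ^ k := by
        have h1 := Subgroup.card_eq_card_quotient_mul_card_subgroup Z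
        rw [hn, hZcard, pow_succ] at h1
        exact (Nat.eq_of_mul_eq_mul_right hpP.pos h1).symm
      have hQ : IsPGroup p (G ⧸ Z) := IsPGroup.of_card hQcard
      have hQnt : Nontrivial (G ⧸ Z) := by
        rw [← Finite.one_lt_card_iff_nontrivial, hQcard]
        exact Nat.one_lt_pow (by omega) hpP.one_lt
      set π := QuotientGroup.mk' Z with hπ
      set Abar : Subgroup (G ⧸ Z) := A.map π with hAbar
      set Dbar : Subgroup (G ⧸ Z) := Subgroup.centralizer (Abar : Set (G ⧸ Z)) with hDbar
      have hAD : Abar ≤ Dbar := by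
        rintro _ ⟨a, ha, rfl⟩
        rw [hDbar, Subgroup.mem_centralizer_iff]
        rintro _ ⟨b, hb, rfl⟩
        rw [← map_mul, ← map_mul, hAcomm b hb a ha]
      have hCD : Subgroup.centralizer (Dbar : Set (G ⧸ Z)) ≤ Dbar :=
        Subgroup.centralizer_le hAD
      set D : Subgroup G := Dbar.comap π with hD
      have hDmem : ∀ x : G, x ∈ D ↔ ∀ a ∈ A, x * a * x⁻¹ * a⁻¹ ∈ Z :=
        fun x => mem_comap_centralizer_map Z A x
      have hDcard : Nat.card D = Nat.card Dbar * p := by
        rw [hD, hπ, card_comap_mk' Z Dbar, hZcard]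
      obtain ⟨a, haA, haZ⟩ := SetLike.exists_of_lt (lt_of_le_of_ne hZA hZne)
      -- `A = Z ⊔ ⟨a⟩`
      have hAsup : Z ⊔ Subgroup.zpowers a = A := by
        have hle : Z ⊔ Subgroup.zpowers a ≤ A := sup_le hZA (Subgroup.zpowers_le.mpr haA)
        apply Subgroup.eq_of_le_of_card_ge hle
        have h1 : Nat.card ↥(Z ⊔ Subgroup.zpowers a) ∣ p ^ 2 := hA ▸ Subgroup.card_dvd_of_le hle
        obtain ⟨j, hj2, hj⟩ := (Nat.dvd_prime_pow hpP).mp h1
        have h2 : Nat.card Z ∣ Nat.card ↥(Z ⊔ Subgroup.zpowers a) :=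
          Subgroup.card_dvd_of_le le_sup_left
        rw [hZcard, hj] at h2
        have hj0 : j ≠ 0 := by
          intro h0
          rw [h0, pow_zero] at h2
          have := Nat.le_of_dvd one_pos h2
          have := hpP.one_lt
          omega
        have hj1 : j ≠ 1 := by
          intro h1'
          apply haZ
          have h3 : Z = Z ⊔ Subgroup.zpowers a := by
            apply Subgroup.eq_of_le_of_card_ge le_sup_left
            rw [hZcard, hj, h1', pow_one]
          rw [h3]
          exact Subgroup.mem_sup_right (Subgroup.mem_zpowers a)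
        have hj2' : j = 2 := by omega
        rw [hA, hj, hj2']
      set φ := commHomSub D Z le_rfl a (fun x hx => (hDmem x).mp hx a haA) with hφ
      have hker : φ.ker.map D.subtype ≤ A := by
        rintro _ ⟨x, hx, rfl⟩
        apply hC
        rw [Subgroup.mem_centralizer_iff]
        intro b hb
        have hxa : (x : G) * a = a * (x : G) :=
          (mem_commHomSub_ker D Z le_rfl a _ x).mp hx
        rw [← hAsup] at hb
        obtain ⟨z', hz', v, hv, rfl⟩ := Subgroup.mem_sup_of_normal_left.mp hb
        obtain ⟨i, rfl⟩ := Subgroup.mem_zpowers_iff.mp hv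
        have h1 : Commute (x : G) (a ^ i) := Commute.zpow_right hxa i
        have h2 : Commute (x : G) z' := (Subgroup.mem_center_iff.mp hz' (x : G))
        exact ((h2.mul_right h1).eq).symm
      have hDle : Nat.card D ≤ p ^ 2 * p := by
        have h1 := Subgroup.card_mul_index φ.ker
        rw [Subgroup.index_ker] at h1
        rw [← h1]
        apply Nat.mul_le_mul
        · rw [← Subgroup.card_subtype D φ.ker, ← hA]
          exact Subgroup.card_le_of_le hker
        · rw [← hZcard]
          exact Subgroup.card_le_card_group φ.range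
      have hDbar_le : Nat.card Dbar ≤ p ^ 2 := by
        rw [hDcard] at hDle
        exact Nat.le_of_mul_le_mul_right hDle hpP.pos
      obtain ⟨j, hj⟩ := IsPGroup.iff_card.mp (hQ.to_subgroup Dbar)
      have hj2 : 2 ≤ j := by
        by_contra hlt
        push Not at hlt
        have hle : Nat.card Dbar ≤ p := by
          rw [hj]
          calc p ^ j ≤ p ^ 1 := Nat.pow_le_pow_right hpP.pos (by omega)
            _ = p := pow_one p
        have hcen : Subgroup.center (G ⧸ Z) ≤ Dbar := Subgroup.center_le_centralizer _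
        have hcc : p ≤ Nat.card (Subgroup.center (G ⧸ Z)) := card_center_ge hQ
        have heq : Subgroup.center (G ⧸ Z) = Dbar :=
          Subgroup.eq_of_le_of_card_ge hcen (hle.trans hcc)
        have htop : Dbar = ⊤ := by
          rw [hDbar, Subgroup.centralizer_eq_top_iff_subset]
          intro y hy
          have : y ∈ Dbar := hAD hy
          rw [← heq] at this
          exact this
        have h3 : Nat.card Dbar = Nat.card (G ⧸ Z) := by rw [htop, Subgroup.card_top]
        rw [h3, hQcard] at hle
        have : p ^ 2 ≤ p ^ k := Nat.pow_le_pow_right hpP.pos hk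
        have h4 : p ^ 1 < p ^ 2 := Nat.pow_lt_pow_right hpP.one_lt (by norm_num)
        rw [pow_one] at h4
        omega
      have hDbar_card : Nat.card Dbar = p ^ 2 := by
        rw [hj] at hDbar_le ⊢
        have := (Nat.pow_le_pow_iff_right hpP.one_lt).mp hDbar_le
        have hj' : j = 2 := by omega
        rw [hj']
      have h1 := ih (G ⧸ Z) hQcard Dbar hDbar_card hCD
      rw [Group.nilpotencyClass_eq_quotient_center_plus_one, h1]
      omega

/-- **Suzuki's lemma.** A group of order `p ^ n` with a subgroup `A` of order `p²` satisfying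
`C_G(A) ≤ A` has maximal class. -/
theorem suzuki {G : Type u} [Group G] [Finite G] {p : ℕ} [Fact p.Prime] {n : ℕ}
    (hn : Nat.card G = p ^ n) (A : Subgroup G) (hA : Nat.card A = p ^ 2)
    (hC : Subgroup.centralizer (A : Set G) ≤ A) : Group.nilpotencyClass G = n - 1 :=
  suzuki_aux p n G hn A hA hC

end Cfsg.Agent.Lib.Helper20_Suzuki
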