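import Mathlib
import Cfsg.Agent.Lib.Helper2_Narrow
import Cfsg.Agent.Lib.Helper2_RankTwoAut
import Cfsg.Agent.Lib.Helper2_PRank
import Cfsg.Agent.Lib.Helper10_Thompson
import Cfsg.Agent.Lib.Helper1_Cores
import Cfsg.Agent.Lib.Helper55_Fitting
import Cfsg.Agent.Lib.Helper71_Fitting
import Cfsg.Agent.S1453
import Cfsg.Agent.S0016

/-!
# Narrow `p`-groups from a small centralizer, and a Fitting subgroup criterion (helper24)

* `exists_nData`: a `p`-group (`p` odd) of rank at least three with an elementary abelian subgroup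
  whose centralizer has rank at most two is narrow (Bender-Glauberman 5.3 type, via S1453).
* `isPGroup_commutator_aut`, `exists_pow_mem_centralizer`: odd order automorphism groups of
  narrow / rank two `p`-groups have a `p`-group as derived subgroup.
* `le_fitting_of_forall_pow_mem`: a normal subgroup `N` of a solvable group with
  `N C(O_q) / C(O_q)` a `q`-group for all `q` lies in the Fitting subgroup.
-/

set_option autoImplicit false

namespace Cfsg.Agent.Lib.Helper24_NarrowFitting

open Cfsg Subgroup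
open Cfsg.Agent.Lib.Helper2_Narrow Cfsg.Agent.Lib.Helper10_Thompson
open Cfsg.Agent.Lib.Helper1_Cores Cfsg.Agent.Lib.Helper71_Fitting

section pgroup

variable {R : Type*} [Group R] [Finite R] {p : ℕ} [Fact p.Prime]

/-- every elementary abelian subgroup lies in one which is maximal under inclusion -/
theorem exists_max_ea (E : Subgroup R) (hE : IsElementaryAbelian p E) :
    ∃ M : Subgroup R, IsElementaryAbelian p M ∧ E ≤ M ∧
      ∀ B : Subgroup R, IsElementaryAbelian p B → M ≤ B → B = M := by
  classical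
  have : Nonempty {B : Subgroup R // IsElementaryAbelian p B ∧ E ≤ B} := ⟨⟨E, hE, le_rfl⟩⟩
  obtain ⟨M, hM⟩ := Finite.exists_max
    (fun B : {B : Subgroup R // IsElementaryAbelian p B ∧ E ≤ B} => Nat.card (B.1 : Subgroup R))
  refine ⟨M.1, M.2.1, M.2.2, ?_⟩
  intro B hB hMB
  have h1 := hM ⟨B, hB, M.2.2.trans hMB⟩
  exact (Subgroup.eq_of_le_of_card_ge hMB h1).symm

/-- a subgroup of prime order `p` is elementary abelian -/
theorem ea_of_card_eq (X : Subgroup R) (hX : Nat.card X = p) : IsElementaryAbelian p X := by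
  have hc : IsMulCommutative X := by
    have : Fact (Nat.card X).Prime := ⟨hX ▸ Fact.out⟩
    have : IsCyclic X := isCyclic_of_prime_card rfl
    infer_instance
  refine ⟨hc, ?_⟩
  intro a ha
  have : (⟨a, ha⟩ : X) ^ Nat.card X = 1 := pow_card_eq_one'
  rw [hX] at this
  exact congrArg Subtype.val this

/-- **Bender–Glauberman 5.3-type lemma.**  A `p`-group (`p` odd) of rank at least three with an
elementary abelian subgroup `E` whose centralizer has rank at most two is narrow. -/
theorem exists_nData (hp : p ≠ 2) (hR : IsPGroup p R) (E : Subgroup R)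
    (hE : IsElementaryAbelian p E) (hc : PRankLE p 2 ↥(centralizer (E : Set R)))
    (hrk : ¬ PRankLE p 2 R) : ∃ (g : R) (R₁ : Subgroup R), NData p R g R₁ := by
  have hpP : p.Prime := Fact.out
  obtain ⟨M, hM, hEM, hMmax⟩ := exists_max_ea E hE
  -- `|M| ≤ p²`
  have hMle : Nat.card M ≤ p ^ 2 := by
    have hMc : M ≤ centralizer (E : Set R) := by
      intro m hm
      rw [mem_centralizer_iff]
      intro e he
      exact ea_comm hM (hEM he) hm
    have h1 := hc (M.subgroupOf (centralizer (E : Set R))) (ea_subgroupOf hM _).1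
      (ea_subgroupOf hM _).2
    rwa [Nat.card_congr (Subgroup.subgroupOfEquivOfLe hMc).toEquiv] at h1
  -- a big elementary abelian subgroup
  obtain ⟨B₀, hB₀c, hB₀e, hB₀⟩ : ∃ B₀ : Subgroup R, IsMulCommutative B₀ ∧ (∀ a ∈ B₀, a ^ p = 1) ∧
      p ^ 2 < Nat.card B₀ := by
    by_contra hcon
    apply hrk
    intro B hBc hBe
    by_contra hlt
    exact hcon ⟨B, hBc, hBe, not_le.mp hlt⟩
  have hB₀ea : IsElementaryAbelian p B₀ := ⟨hB₀c, hB₀e⟩
  have : Nontrivial R := by
    rw [← Finite.one_lt_card_iff_nontrivial]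
    have h1 : 1 ≤ p ^ 2 := Nat.one_le_pow _ _ hpP.pos
    have h2 : Nat.card B₀ ≤ Nat.card R := Nat.card_le_card_of_injective _ B₀.subtype_injective
    omega
  -- a central element of order `p`
  obtain ⟨z, hzc, hzo⟩ : ∃ z : R, z ∈ center R ∧ orderOf z = p := by
    have hcn : Nontrivial (center R) := hR.center_nontrivial
    have hpdvd : p ∣ Nat.card (center R) := by
      have hcp : IsPGroup p (center R) := hR.to_subgroup _
      rcases hcp.card_eq_or_dvd with h | h
      · exfalso
        have := Finite.one_lt_card_iff_nontrivial.mpr hcn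
        omega
      · exact h
    obtain ⟨z', hz'⟩ := exists_prime_orderOf_dvd_card' (G := center R) p hpdvd
    exact ⟨z', z'.2, by rw [Subgroup.orderOf_coe, hz']⟩
  have hzp : z ^ p = 1 := by rw [← hzo]; exact pow_orderOf_eq_one z
  have hz1 : z ≠ 1 := by
    intro h
    rw [h, orderOf_one] at hzo
    exact hpP.one_lt.ne hzo
  have hZcard : Nat.card (zpowers z) = p := by rw [Nat.card_zpowers, hzo]
  have hZc : zpowers z ≤ center R := zpowers_le.mpr hzc
  have hZcomm : ∀ a : R, ∀ b ∈ zpowers z, a * b = b * a := by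
    intro a b hb
    exact (Subgroup.mem_center_iff.mp (hZc hb) a)
  -- `z ∈ M`
  have hZM : zpowers z ≤ M := by
    have h1 : IsElementaryAbelian p (M ⊔ zpowers z) :=
      isElementaryAbelian_sup hM (isElementaryAbelian_zpowers hzp) (fun a _ b hb => hZcomm a b hb)
    have h2 := hMmax _ h1 le_sup_left
    rw [← h2]
    exact le_sup_right
  -- `M` is not central
  have hMnc : ¬ M ≤ center R := by
    intro hMc
    have h1 : IsElementaryAbelian p (M ⊔ B₀) :=
      isElementaryAbelian_sup hM hB₀ea
        (fun a ha b _ => (Subgroup.mem_center_iff.mp (hMc ha) b).symm)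
    have h2 := hMmax _ h1 le_sup_left
    have h3 : B₀ ≤ M := by rw [← h2]; exact le_sup_right
    have h4 := Subgroup.card_le_of_le h3
    omega
  -- `|M| = p²`
  have hM2 : Nat.card M = p ^ 2 := by
    obtain ⟨a, ha⟩ := IsPGroup.iff_card.mp (hR.to_subgroup M)
    have ha2 : a ≤ 2 := by
      rw [ha] at hMle
      exact (Nat.pow_le_pow_iff_right hpP.one_lt).mp hMle
    have ha1 : 2 ≤ a := by
      by_contra hlt
      have ha1 : a ≤ 1 := by omega
      apply hMnc
      have hle : Nat.card M ≤ Nat.card (zpowers z) := by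
        rw [ha, hZcard]
        calc p ^ a ≤ p ^ 1 := Nat.pow_le_pow_right hpP.pos ha1
          _ = p := pow_one p
      have := Subgroup.eq_of_le_of_card_ge hZM hle
      rw [← this]
      exact hZc
    have : a = 2 := le_antisymm ha2 ha1
    rw [ha, this]
  obtain ⟨hMT, -, -, hTchar, hTidx⟩ := Cfsg.Agent.S1453.result p hp hR hrk M hM hM2 hMmax
  set T : Subgroup R := centralizer
    ((Subgroup.closure {x : R | x ∈ Subgroup.upperCentralSeries R 2 ∧ x ^ p = 1} : Subgroup R) :
      Set R) with hT
  have : T.Characteristic := hTchar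
  have hTn : T.Normal := inferInstance
  have hcT : center R ≤ T := Subgroup.center_le_centralizer _
  obtain ⟨g, hgM, hgT⟩ := SetLike.not_le_iff_exists.mp hMT
  have hgp : g ^ p = 1 := hM.2 g hgM
  have hg1 : g ≠ 1 := fun h => hgT (h ▸ T.one_mem)
  -- decomposition modulo `T`
  have hdecomp : ∀ x : R, ∃ i : ℤ, (g ^ i)⁻¹ * x ∈ T := by
    intro x
    have hcard : Nat.card (R ⧸ T) = p := by rw [← Subgroup.index_eq_card, hTidx]
    have hne : (QuotientGroup.mk g : R ⧸ T) ≠ 1 := by
      intro h
      exact hgT ((QuotientGroup.eq_one_iff g).mp h)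
    have htop := zpowers_eq_top_of_prime_card hcard hne
    have hx : (QuotientGroup.mk x : R ⧸ T) ∈ zpowers (QuotientGroup.mk g : R ⧸ T) := by
      rw [htop]; exact Subgroup.mem_top _
    obtain ⟨i, hi⟩ := Subgroup.mem_zpowers_iff.mp hx
    refine ⟨i, ?_⟩
    rw [← QuotientGroup.eq]
    rw [← hi]
    rfl
  -- `M ∩ T = ⟨z⟩`
  have hMTz : M ⊓ T = zpowers z := by
    have hle : zpowers z ≤ M ⊓ T := le_inf hZM (hZc.trans hcT)
    have hdvd : Nat.card ↥(M ⊓ T) ∣ p ^ 2 := by
      rw [← hM2]; exact Subgroup.card_dvd_of_le inf_le_left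
    obtain ⟨b, hb2, hb⟩ := (Nat.dvd_prime_pow hpP).mp hdvd
    have hb1 : b ≤ 1 := by
      by_contra hlt
      have hb2' : b = 2 := by omega
      apply hMT
      have h1 : M ⊓ T = M := by
        apply Subgroup.eq_of_le_of_card_ge inf_le_left
        rw [hb, hb2', hM2]
      rw [← h1]
      exact inf_le_right
    have hcardle : Nat.card ↥(M ⊓ T) ≤ Nat.card (zpowers z) := by
      rw [hb, hZcard]
      calc p ^ b ≤ p ^ 1 := Nat.pow_le_pow_right hpP.pos hb1
        _ = p := pow_one p
    exact (Subgroup.eq_of_le_of_card_ge hle hcardle).symm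
  -- everything commuting with `g` commutes with `M`
  have hMcomm : ∀ x : R, g * x = x * g → ∀ m ∈ M, x * m = m * x := by
    intro x hx m hm
    obtain ⟨i, hi⟩ := hdecomp m
    have ht : (g ^ i)⁻¹ * m ∈ zpowers z := by
      rw [← hMTz]
      exact ⟨M.mul_mem (M.inv_mem (M.zpow_mem hgM i)) hm, hi⟩
    have hm' : m = g ^ i * ((g ^ i)⁻¹ * m) := by group
    have h1 : Commute x (g ^ i) := (Commute.zpow_right (show Commute x g from hx.symm) i)
    have h2 : Commute x ((g ^ i)⁻¹ * m) := hZcomm x _ ht
    rw [hm']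
    exact (h1.mul_right h2).eq
  set R₁ : Subgroup R := centralizer ({g} : Set R) ⊓ T with hR₁
  have hgcent : g ∈ centralizer ({g} : Set R) := by
    rw [mem_centralizer_singleton_iff]
  have hR₁g : ∀ b ∈ R₁, g * b = b * g := by
    intro b hb
    have hb1 : b ∈ centralizer ({g} : Set R) := hb.1
    rw [mem_centralizer_singleton_iff] at hb1
    exact hb1.symm
  -- uniqueness of the subgroup of order `p` in `R₁`
  have key : ∀ X : Subgroup ↥R₁, Nat.card X = p → X.map R₁.subtype = zpowers z := by
    intro X hX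
    set X' := X.map R₁.subtype with hX'
    have hX'card : Nat.card X' = p := by
      rw [hX', Subgroup.card_map_of_injective (Subgroup.subtype_injective _), hX]
    have hX'R : X' ≤ R₁ := Subgroup.map_subtype_le X
    have hX'ea : IsElementaryAbelian p X' := ea_of_card_eq X' hX'card
    have h1 : IsElementaryAbelian p (M ⊔ X') :=
      isElementaryAbelian_sup hM hX'ea
        (fun a ha b hb => (hMcomm b (hR₁g b (hX'R hb)) a ha).symm)
    have h2 := hMmax _ h1 le_sup_left
    have h3 : X' ≤ M := by rw [← h2]; exact le_sup_right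
    have h4 : X' ≤ zpowers z := by
      rw [← hMTz]
      exact le_inf h3 (hX'R.trans inf_le_right)
    exact Subgroup.eq_of_le_of_card_ge h4 (by rw [hZcard, hX'card])
  have hcyc : IsCyclic ↥R₁ := by
    have huniq : ∀ H K : Subgroup ↥R₁, Nat.card H = p → Nat.card K = p → H = K := by
      intro H K hH hK
      apply Subgroup.map_injective (Subgroup.subtype_injective R₁)
      rw [key H hH, key K hK]
    rcases Cfsg.Agent.S0016.result p (hR.to_subgroup R₁) huniq with h | h
    · exact h
    · exact absurd h.1 hp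
  refine ⟨g, R₁, ?_⟩
  exact
    { isPGroup := hR
      g_pow := hgp
      g_ne := hg1
      cyc := hcyc
      comm := hR₁g
      cent := by
        apply le_antisymm
        · intro x hx
          obtain ⟨i, hi⟩ := hdecomp x
          have hx' : x = g ^ i * ((g ^ i)⁻¹ * x) := by group
          rw [hx']
          apply Subgroup.mul_mem_sup (Subgroup.zpow_mem_zpowers g i)
          exact ⟨Subgroup.mul_mem _ (Subgroup.inv_mem _ (Subgroup.zpow_mem _ hgcent i)) hx, hi⟩
        · exact sup_le (zpowers_le.mpr hgcent) inf_le_left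
      rank := hrk }

end pgroup

section aut

variable {R : Type*} [Group R] [Finite R] {p : ℕ} [Fact p.Prime]

/-- For `p` odd and a `p`-group `R` of rank at most two or narrow, an odd order group of
automorphisms of `R` has a derived subgroup which is a `p`-group. -/
theorem isPGroup_commutator_aut (hp : p ≠ 2) (hR : IsPGroup p R)
    (hn : PRankLE p 2 R ∨ ∃ (g : R) (R₁ : Subgroup R), NData p R g R₁)
    (𝔄 : Subgroup (MulAut R)) (hodd : Odd (Nat.card 𝔄)) : IsPGroup p ↥⁅𝔄, 𝔄⁆ := by
  rcases hn with hrk | ⟨g, R₁, hN⟩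
  · exact Cfsg.Agent.Lib.Helper2_RankTwoAut.isPGroup_commutator_of_odd hp hR hrk 𝔄 hodd
  · obtain ⟨S, hSn, hS1, hS2, hS3⟩ := hN.exists_stab hp
    obtain ⟨h1, -, -⟩ := aut_structure_of_stab 𝔄.subtype 𝔄.subtype_injective S hSn hS1 hS2 hS3
    have h2 : IsPGroup p ↥(commutator ↥𝔄) :=
      (Cfsg.Agent.Lib.Helper1_Cores.pCore_isPGroup p).to_le h1
    rw [← Subgroup.map_subtype_commutator]
    exact h2.map _

end aut

section conj

variable {G : Type*} [Group G] [Finite G]

/-- If the normal `q`-subgroup `Q` of the odd order group `G` has rank at most two or is narrow,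
then the derived subgroup of `G / C_G(Q)` is a `q`-group. -/
theorem exists_pow_mem_centralizer (hodd : Odd (Nat.card G)) {q : ℕ} [Fact q.Prime] (hq : q ≠ 2)
    (Q : Subgroup G) [Q.Normal] (hQ : IsPGroup q Q)
    (hn : PRankLE q 2 ↥Q ∨ ∃ (g : ↥Q) (R₁ : Subgroup ↥Q), NData q ↥Q g R₁)
    {x : G} (hx : x ∈ commutator G) : ∃ k : ℕ, x ^ q ^ k ∈ centralizer (Q : Set G) := by
  set φ : G →* MulAut ↥Q := MulAut.conjNormal with hφ
  have hodd' : Odd (Nat.card φ.range) := Odd.of_dvd_nat hodd (Subgroup.card_range_dvd φ)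
  have hP := isPGroup_commutator_aut hq hQ hn φ.range hodd'
  have hmem : φ x ∈ ⁅φ.range, φ.range⁆ := by
    have h1 : ⁅φ.range, φ.range⁆ = (commutator G).map φ := by
      rw [commutator_def, Subgroup.map_commutator, ← MonoidHom.range_eq_map]
    rw [h1]
    exact Subgroup.mem_map_of_mem _ hx
  obtain ⟨k, hk⟩ := hP ⟨φ x, hmem⟩
  refine ⟨k, ?_⟩
  have h1 : φ (x ^ q ^ k) = 1 := by
    rw [map_pow]
    exact congrArg Subtype.val hk
  rw [mem_centralizer_iff]
  intro r hr
  have h2 : φ (x ^ q ^ k) ⟨r, hr⟩ = ⟨r, hr⟩ := by rw [h1]; rfl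
  have h3 := congrArg Subtype.val h2
  rw [hφ, MulAut.conjNormal_apply] at h3
  simp only at h3
  calc r * x ^ q ^ k = (x ^ q ^ k * r * (x ^ q ^ k)⁻¹) * x ^ q ^ k := by rw [h3]
    _ = x ^ q ^ k * r := by group

end conj

section fitting

variable {G : Type*} [Group G] [Finite G]

theorem sylowCore_le_pCore (q : ℕ) [Fact q.Prime] : sylowCore q G ≤ pCore q G :=
  le_pCore inferInstance (sylowCore_isPGroup q)

/-- an element of `q`-power order of the Fitting subgroup lies in `O_q(G)` -/
theorem mem_pCore_of_mem_fitting {q : ℕ} [Fact q.Prime] {w : G}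
    (hw : w ∈ fittingSubgroup G) {j : ℕ} (hwo : orderOf w = q ^ j) : w ∈ pCore q G :=
  sylowCore_le_pCore q (mem_sylowCore.mpr (fun P => mem_sylow_of_mem_fitting hw hwo P))

/-- A normal subgroup `N` of a finite solvable group such that, for every prime `q`,
`N C_G(O_q(G)) / C_G(O_q(G))` is a `q`-group, lies in the Fitting subgroup. -/
theorem le_fitting_of_forall_pow_mem [Group.IsSolvable G] (N : Subgroup G) [N.Normal]
    (h : ∀ q : ℕ, q.Prime → ∀ x ∈ N, ∃ k : ℕ, x ^ q ^ k ∈ centralizer (pCore q G : Set G)) :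
    N ≤ fittingSubgroup G := by
  intro x hx
  apply mem_of_primePow_mem
  intro y hy r k hr hyo
  have : Fact r.Prime := ⟨hr⟩
  have hyN : y ∈ N := (zpowers_le.mpr hx) hy
  set D : Subgroup G :=
    N ⊓ ⨅ q : {q : ℕ // q.Prime ∧ q ≠ r}, centralizer (pCore q.1 G : Set G) with hD
  have hDn : D.Normal := by
    have h1 : ∀ q : {q : ℕ // q.Prime ∧ q ≠ r}, (centralizer (pCore q.1 G : Set G)).Normal := by
      intro q
      have := pCore_normal (G := G) q.1
      exact Subgroup.normal_centralizer
    have := Subgroup.normal_iInf_normal h1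
    exact Subgroup.normal_inf_normal _ _
  have hmemD : ∀ d : G, d ∈ D ↔
      d ∈ N ∧ ∀ q : ℕ, q.Prime → q ≠ r → d ∈ centralizer (pCore q G : Set G) := by
    intro d
    rw [hD, Subgroup.mem_inf, Subgroup.mem_iInf]
    constructor
    · rintro ⟨h1, h2⟩
      exact ⟨h1, fun q hq hqr => h2 ⟨q, hq, hqr⟩⟩
    · rintro ⟨h1, h2⟩
      exact ⟨h1, fun q => h2 q.1 q.2.1 q.2.2⟩
  -- `y ∈ D`
  have hyD : y ∈ D := by
    rw [hmemD]
    refine ⟨hyN, ?_⟩
    intro q hq hqr
    obtain ⟨j, hj⟩ := h q hq y hyN
    have hcop : (q ^ j).Coprime (orderOf y) := by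
      rw [hyo]
      exact Nat.Coprime.pow _ _ ((Nat.coprime_primes hq hr).mpr hqr)
    obtain ⟨m, hm⟩ := exists_pow_eq_self_of_coprime hcop
    rw [← hm]
    exact Subgroup.pow_mem _ hj m
  -- a power of every element of `D` is central in `D`
  have key : ∀ d : ↥D, ∃ k : ℕ, d ^ r ^ k ∈ center ↥D := by
    intro d
    have hdD : (d : G) ∈ D := d.2
    have hdN : (d : G) ∈ N := ((hmemD _).mp hdD).1
    obtain ⟨k₁, hk₁⟩ := h r hr _ hdN
    set z : G := (d : G) ^ r ^ k₁ with hz
    have hzD : z ∈ D := D.pow_mem hdD _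
    have hzC : ∀ q : ℕ, q.Prime → z ∈ centralizer (pCore q G : Set G) := by
      intro q hq
      by_cases hqr : q = r
      · rw [hqr]; exact hk₁
      · exact ((hmemD _).mp hzD).2 q hq hqr
    have hzF : z ∈ fittingSubgroup G := by
      apply Cfsg.Agent.Lib.Helper55_Fitting.centralizer_fittingSubgroup_le
      have hle : fittingSubgroup G ≤ centralizer ({z} : Set G) := by
        rw [fittingSubgroup_eq_iSup_pCore]
        apply iSup_le
        intro q w hw
        rw [mem_centralizer_singleton_iff]
        exact (mem_centralizer_iff.mp (hzC q q.2)) w hw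
      rw [mem_centralizer_iff]
      intro w hw
      have := hle hw
      rw [mem_centralizer_singleton_iff] at this
      exact this
    -- the `r`-part of the order of `z`
    set a := (orderOf z).factorization r with ha
    set m := orderOf z / r ^ a with hm
    have hom : r ^ a * m = orderOf z := Nat.ordProj_mul_ordCompl_eq_self _ _
    have hmcop : r.Coprime m := Nat.coprime_ordCompl hr (orderOf_pos z).ne'
    set y' : G := z ^ r ^ a with hy'
    have hy'F : y' ∈ fittingSubgroup G := Subgroup.pow_mem _ hzF _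
    have hy'D : y' ∈ D := D.pow_mem hzD _
    have hy'm : y' ^ m = 1 := by
      rw [hy', ← pow_mul, hom]; exact pow_orderOf_eq_one z
    have hy'cent : y' ∈ centralizer (D : Set G) := by
      apply mem_of_primePow_mem
      intro w hw q j hq hwo
      have : Fact q.Prime := ⟨hq⟩
      have hwF : w ∈ fittingSubgroup G := (zpowers_le.mpr hy'F) hw
      have hwm : w ^ m = 1 := by
        obtain ⟨i, rfl⟩ := Subgroup.mem_zpowers_iff.mp hw
        rw [← zpow_natCast, ← zpow_mul, mul_comm, zpow_mul, zpow_natCast, hy'm, one_zpow]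
      by_cases hqr : q = r
      · have h1 : orderOf w ∣ m := orderOf_dvd_of_pow_eq_one hwm
        have h2 : (orderOf w).Coprime m := by
          rw [hwo, hqr]; exact Nat.Coprime.pow_left _ hmcop
        have h3 : orderOf w = 1 := Nat.Coprime.eq_one_of_dvd h2 h1
        rw [orderOf_eq_one_iff] at h3
        rw [h3]; exact one_mem _
      · have hwq : w ∈ pCore q G := mem_pCore_of_mem_fitting hwF hwo
        rw [mem_centralizer_iff]
        intro d' hd'
        have h1 := ((hmemD _).mp hd').2 q hq hqr
        exact ((mem_centralizer_iff.mp h1) w hwq).symm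
    refine ⟨k₁ + a, ?_⟩
    rw [Subgroup.mem_center_iff]
    intro d'
    apply Subtype.ext
    have h1 : ((d ^ r ^ (k₁ + a) : ↥D) : G) = y' := by
      rw [hy', hz, ← pow_mul, ← pow_add]
      simp
    rw [Subgroup.coe_mul, Subgroup.coe_mul, h1]
    exact (mem_centralizer_iff.mp hy'cent) d' d'.2
  have hDnil : Group.IsNilpotent ↥D := by
    apply Group.of_quotient_center_nilpotent
    have hP : IsPGroup r (↥D ⧸ center ↥D) := by
      intro g
      induction g using QuotientGroup.induction_on with
      | H d =>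
        obtain ⟨k, hk⟩ := key d
        refine ⟨k, ?_⟩
        rw [← QuotientGroup.mk_pow, QuotientGroup.eq_one_iff]
        exact hk
    exact hP.isNilpotent
  exact le_fittingSubgroup hDn hDnil hyD

end fitting

end Cfsg.Agent.Lib.Helper24_NarrowFitting
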