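import Cfsg.Agent.Lib.Helper2_Narrow
import Cfsg.Agent.Lib.Helper2_PRank
import Cfsg.Agent.Lib.Helper76_PSolvable
import Cfsg.Agent.Lib.Helper1_Cores
import Cfsg.Agent.S4227
import Cfsg.Agent.S3294
import Cfsg.Agent.S0635
import Cfsg.Agent.S0634

/-!
# Solvable groups of odd order with narrow Sylow `p`-subgroups (helper2)

Bender–Glauberman, Theorem 5.6 (the case of rank at least three and `p`-length one), together with
the generic part of the argument of `S1450`.
-/

set_option autoImplicit false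

namespace Cfsg.Agent.Lib.Helper2_NarrowSolv

open Cfsg Cfsg.Agent.Lib.Helper2_PRank Cfsg.Agent.Lib.Helper2_Narrow

open scoped commutatorElement

/-! ### Transport lemmas -/

section transport

/-- The `p`-rank of a group is bounded by that of a Sylow `p`-subgroup. -/
theorem pRankLE_of_sylow' {G : Type*} [Group G] [Finite G] {p k : ℕ} [Fact p.Prime]
    (S : Sylow p G) (hr : Cfsg.PRankLE p k ↥(S : Subgroup G)) : Cfsg.PRankLE p k G := by
  intro E hEc hEe
  have hEp : IsPGroup p ↥E := by
    intro b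
    refine ⟨1, ?_⟩
    apply Subtype.ext
    rw [pow_one, Subgroup.coe_pow]
    exact hEe b.1 b.2
  obtain ⟨P, hP⟩ := hEp.exists_le_sylow
  obtain ⟨g, hg⟩ := MulAction.exists_smul_eq G P S
  let ψ : ↥E →* G := (MulAut.conj g).toMonoidHom.comp E.subtype
  have hψS : ∀ x : ↥E, ψ x ∈ (S : Subgroup G) := by
    intro x
    have h1 : (x : G) ∈ (P : Subgroup G) := hP x.2
    have h2 : g * (x : G) * g⁻¹ ∈ ((g • P : Sylow p G) : Subgroup G) := by
      rw [Sylow.coe_subgroup_smul]
      exact Subgroup.smul_mem_pointwise_smul (x : G) (MulAut.conj g) (P : Subgroup G) h1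
    rw [hg] at h2
    exact h2
  let φ : ↥E →* ↥(S : Subgroup G) := ψ.codRestrict (S : Subgroup G) hψS
  have hφinj : Function.Injective φ := by
    intro a b hab
    have h1 : ψ a = ψ b := congrArg Subtype.val hab
    have h2 : g * (a : G) * g⁻¹ = g * (b : G) * g⁻¹ := h1
    exact Subtype.ext (mul_left_cancel (mul_right_cancel h2))
  have hcard : Nat.card ↥φ.range = Nat.card ↥E :=
    (Nat.card_congr (MonoidHom.ofInjective hφinj).toEquiv).symm
  have hcomm : IsMulCommutative ↥φ.range := by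
    refine ⟨⟨?_⟩⟩
    rintro ⟨_, a, rfl⟩ ⟨_, b, rfl⟩
    apply Subtype.ext
    show φ a * φ b = φ b * φ a
    rw [← map_mul, ← map_mul, isMulCommutative_iff.mp hEc a b]
  have hexp : ∀ x ∈ φ.range, x ^ p = 1 := by
    rintro _ ⟨a, rfl⟩
    rw [← map_pow]
    have : a ^ p = 1 := by
      apply Subtype.ext
      rw [Subgroup.coe_pow]
      exact hEe a.1 a.2
    rw [this, map_one]
  have := hr φ.range hcomm hexp
  rwa [hcard] at this

universe u v

/-- Narrowness is invariant under isomorphism. -/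
theorem isNarrow_of_mulEquiv {R : Type u} {R' : Type v} [Group R] [Group R'] {p : ℕ}
    (e : R ≃* R') (h : Cfsg.IsNarrow p R) : Cfsg.IsNarrow p R' := by
  rcases h with h | ⟨R₀, R₁, hcard, hcyc, hinf, hcomm, hsup⟩
  · left
    exact pRankLE_of_injective' p 2 e.symm.toMonoidHom e.symm.injective h
  · right
    refine ⟨R₀.map e.toMonoidHom, R₁.map e.toMonoidHom, ?_, ?_, ?_, ?_, ?_⟩
    · rw [Subgroup.card_map_of_injective e.injective, hcard]
    · exact isCyclic_of_surjective (R₁.equivMapOfInjective e.toMonoidHom e.injective).toMonoidHom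
        (R₁.equivMapOfInjective e.toMonoidHom e.injective).surjective
    · rw [← Subgroup.map_inf _ _ e.toMonoidHom e.injective, hinf, Subgroup.map_bot]
    · rintro _ ⟨a, ha, rfl⟩ _ ⟨b, hb, rfl⟩
      show e a * e b = e b * e a
      rw [← map_mul, ← map_mul, hcomm a ha b hb]
    · rw [← Subgroup.map_sup, hsup]
      ext x
      constructor
      · rintro ⟨y, hy, rfl⟩
        rw [Subgroup.mem_centralizer_iff]
        rintro _ ⟨a, ha, rfl⟩
        show e a * e y = e y * e a
        rw [← map_mul, ← map_mul, (Subgroup.mem_centralizer_iff.mp hy) a ha]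
      · intro hx
        refine ⟨e.symm x, ?_, e.apply_symm_apply x⟩
        rw [SetLike.mem_coe, Subgroup.mem_centralizer_iff]
        intro a ha
        have h1 := (Subgroup.mem_centralizer_iff.mp hx) (e a) ⟨a, ha, rfl⟩
        apply e.injective
        rw [map_mul, map_mul, e.apply_symm_apply]
        exact h1

end transport

/-! ### The structure of `G / O_{p'}(G)` -/

section core

variable {X : Type*} [Group X] [Finite X] [Group.IsSolvable X] {p : ℕ} [Fact p.Prime]

/-- The structure of `X = G / O_{p'}(G)`, given a suitable normal subgroup `S` of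
`Aut (O_p(X))`. -/
theorem quotient_structure_gen (hcore : pPrimeCore p X = ⊥)
    (hS : ∃ S : Subgroup (MulAut ↥(pCore p X)), S.Normal ∧
      (∀ α β : MulAut ↥(pCore p X), ⁅α, β⁆ ∈ S) ∧
      (∀ α : MulAut ↥(pCore p X), α ^ (p - 1) ∈ S) ∧
      ∀ α ∈ S, (orderOf α).Coprime p → α = 1) :
    IsPGroup p ↥(commutator X) ∧ commutator X ≤ pCore p X ∧ ((pCore p X).index).Coprime p ∧
      ∀ q : ℕ, q.Prime → q ∣ Nat.card X → q ≠ p → q < p := by
  have hpP : p.Prime := Fact.out
  set Q := pCore p X with hQ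
  have hQn : Q.Normal := Cfsg.Agent.Lib.Helper1_Cores.pCore_normal p
  have hQp : IsPGroup p ↥Q := Cfsg.Agent.Lib.Helper1_Cores.pCore_isPGroup p
  have hCQ : Subgroup.centralizer (Q : Set X) ≤ Q := Cfsg.Agent.S4227.centralizer_pCore_le p hcore
  let φ : X →* MulAut ↥Q := MulAut.conjNormal
  have hker : φ.ker ≤ Q := by
    intro g hg
    apply hCQ
    rw [Subgroup.mem_centralizer_iff]
    intro h hh
    have h1 : φ g = 1 := hg
    have h2 : ((φ g) ⟨h, hh⟩ : X) = g * h * g⁻¹ := MulAut.conjNormal_apply g ⟨h, hh⟩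
    rw [h1] at h2
    have h3 : h = g * h * g⁻¹ := h2
    calc h * g = g * h * g⁻¹ * g := by rw [← h3]
      _ = g * h := by group
  have hkerp : IsPGroup p ↥φ.ker := by
    have := hQp.to_le hker
    exact this
  set 𝔄 : Subgroup (MulAut ↥Q) := φ.range with h𝔄
  obtain ⟨S, hSn, hS1, hS2, hS3⟩ := hS
  obtain ⟨hc1, -, hc3⟩ := aut_structure_of_stab (A := ↥𝔄) 𝔄.subtype 𝔄.subtype_injective S hSn
    hS1 hS2 hS3
  have hcomm : IsPGroup p ↥⁅𝔄, 𝔄⁆ := by
    intro x
    have hx : (x : MulAut ↥Q) ∈ (commutator ↥𝔄).map 𝔄.subtype := by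
      rw [Subgroup.map_subtype_commutator]
      exact x.2
    obtain ⟨y, hy, hyx⟩ := hx
    obtain ⟨k, hk⟩ := Cfsg.Agent.Lib.Helper1_Cores.pCore_isPGroup (G := ↥𝔄) p ⟨y, hc1 hy⟩
    refine ⟨k, ?_⟩
    apply Subtype.ext
    rw [Subgroup.coe_pow, ← hyx]
    have h1 := congrArg Subtype.val hk
    have h2 := congrArg Subtype.val h1
    simpa using h2
  -- the derived subgroup is a `p`-group
  have hmapcomm : (commutator X).map φ = ⁅𝔄, 𝔄⁆ := by
    rw [commutator_def, Subgroup.map_commutator, ← MonoidHom.range_eq_map]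
  have hD : IsPGroup p ↥(commutator X) := by
    intro ⟨x, hx⟩
    have h1 : φ x ∈ ⁅𝔄, 𝔄⁆ := by
      rw [← hmapcomm]
      exact Subgroup.mem_map_of_mem φ hx
    obtain ⟨k, hk⟩ := hcomm ⟨φ x, h1⟩
    have hk' : (φ x) ^ p ^ k = 1 := by
      have := congrArg Subtype.val hk
      simpa using this
    rw [← map_pow] at hk'
    have h2 : x ^ p ^ k ∈ φ.ker := hk'
    obtain ⟨l, hl⟩ := hkerp ⟨_, h2⟩
    have hl' : (x ^ p ^ k) ^ p ^ l = 1 := by
      have := congrArg Subtype.val hl
      simpa using this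
    refine ⟨k + l, ?_⟩
    apply Subtype.ext
    simp only [Subgroup.coe_pow, Subgroup.coe_one]
    rw [pow_add, pow_mul]
    exact hl'
  have hDQ : commutator X ≤ Q :=
    Cfsg.Agent.Lib.Helper1_Cores.le_pCore inferInstance hD
  -- the quotient `X / Q` is abelian with trivial `p`-core
  have hquotcomm : ∀ a b : X ⧸ Q, a * b = b * a := by
    intro a b
    induction a using QuotientGroup.induction_on with
    | H a =>
      induction b using QuotientGroup.induction_on with
      | H b =>
        have h1 : ⁅a, b⁆ ∈ Q := hDQ (by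
          rw [commutator_def]
          exact Subgroup.commutator_mem_commutator (Subgroup.mem_top a) (Subgroup.mem_top b))
        have h2 : ((⁅a, b⁆ : X) : X ⧸ Q) = 1 := (QuotientGroup.eq_one_iff _).mpr h1
        rw [commutatorElement_def] at h2
        have h3 : (a : X ⧸ Q) * (b : X ⧸ Q) * (a : X ⧸ Q)⁻¹ * (b : X ⧸ Q)⁻¹ = 1 := by
          simpa using h2
        calc (a : X ⧸ Q) * (b : X ⧸ Q)
            = ((a : X ⧸ Q) * (b : X ⧸ Q) * (a : X ⧸ Q)⁻¹ * (b : X ⧸ Q)⁻¹) * ((b : X ⧸ Q) * (a : X ⧸ Q)) := by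
              group
          _ = (b : X ⧸ Q) * (a : X ⧸ Q) := by rw [h3, one_mul]
  have hquotcore : pCore p (X ⧸ Q) = ⊥ := Cfsg.Agent.S4227.pCore_quotient_pCore p
  have hidx : (Q.index).Coprime p := by
    rw [Nat.coprime_comm, Nat.Prime.coprime_iff_not_dvd hpP]
    intro hdvd
    rw [Subgroup.index_eq_card] at hdvd
    obtain ⟨z, hz⟩ := exists_prime_orderOf_dvd_card' p hdvd
    have hzn : (Subgroup.zpowers z).Normal := by
      refine ⟨fun n hn g => ?_⟩
      rw [hquotcomm g n, mul_assoc, mul_inv_cancel, mul_one]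
      exact hn
    have hzp : IsPGroup p ↥(Subgroup.zpowers z) := by
      apply IsPGroup.of_card (n := 1)
      rw [Nat.card_zpowers, hz, pow_one]
    have hle : Subgroup.zpowers z ≤ pCore p (X ⧸ Q) :=
      Cfsg.Agent.Lib.Helper1_Cores.le_pCore hzn hzp
    rw [hquotcore] at hle
    have hz1 : z = 1 := by
      have := hle (Subgroup.mem_zpowers z)
      exact (Subgroup.mem_bot).mp this
    rw [hz1, orderOf_one] at hz
    exact hpP.one_lt.ne hz
  refine ⟨hD, hDQ, hidx, ?_⟩
  intro q hq hqX hqp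
  have : Fact q.Prime := ⟨hq⟩
  have hcardX : Nat.card X = Nat.card ↥φ.ker * Nat.card ↥𝔄 := by
    have h1 := Subgroup.card_eq_card_quotient_mul_card_subgroup φ.ker
    have h2 : Nat.card (X ⧸ φ.ker) = Nat.card ↥φ.range :=
      Nat.card_congr (QuotientGroup.quotientKerEquivRange φ).toEquiv
    rw [h1, h2, mul_comm]
  obtain ⟨j, hj⟩ := IsPGroup.iff_card.mp hkerp
  have hq𝔄 : q ∣ Nat.card ↥𝔄 := by
    rw [hcardX, hj] at hqX
    rcases (Nat.Prime.dvd_mul hq).mp hqX with h | h
    · exfalso
      have := hq.dvd_of_dvd_pow h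
      exact hqp ((Nat.prime_dvd_prime_iff_eq hq hpP).mp this)
    · exact h
  obtain ⟨b, hb⟩ := exists_prime_orderOf_dvd_card' q hq𝔄
  have hcop : (orderOf b).Coprime p := by
    rw [hb]
    exact (Nat.coprime_primes hq hpP).mpr hqp
  have h4 := hc3 b hcop
  rw [hb] at h4
  have h5 := hpP.two_le
  have := Nat.le_of_dvd (by omega) h4
  omega

end core

/-! ### From the quotient to the group -/

section lift

/-- The conclusions of `S1450` / `S1455` from the structure of `G / O_{p'}(G)`. -/
theorem main_of_quotient {G : Type*} [Group G] [Finite G] [Group.IsSolvable G]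
    (hodd : Odd (Nat.card G)) (p : ℕ) [Fact p.Prime]
    (hstr : IsPGroup p ↥(commutator (G ⧸ pPrimeCore p G)) ∧
      commutator (G ⧸ pPrimeCore p G) ≤ pCore p (G ⧸ pPrimeCore p G) ∧
      ((pCore p (G ⧸ pPrimeCore p G)).index).Coprime p ∧
      ∀ q : ℕ, q.Prime → q ∣ Nat.card (G ⧸ pPrimeCore p G) → q ≠ p → q < p) :
    (∀ q : ℕ, q.Prime → q ∣ (Cfsg.pPrimeCore p G).index → q ≤ p) ∧
      ((p = 3 ∨ ∀ q : ℕ, q.Prime → q ∣ Nat.card G → p ≤ q) → Cfsg.HasNormalPComplement p G) ∧
      Cfsg.HasNormalPComplement p ↥(commutator G) ∧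
      (∀ L : Subgroup ↥(commutator G), (Nat.card L).Coprime p → L ≤ Cfsg.pPrimeCore p ↥(commutator G)) ∧
      commutator G ≤ Cfsg.pPrimePCore p G ∧ ((Cfsg.pPrimePCore p G).index).Coprime p := by
  have hpP : p.Prime := Fact.out
  set K := pPrimeCore p G with hK
  have hKn : K.Normal := Cfsg.Agent.Lib.Helper1_Cores.pPrimeCore_normal p
  have hKcop : (Nat.card ↥K).Coprime p := Cfsg.Agent.Lib.Helper1_Cores.pPrimeCore_card_coprime p
  have hcardG : Nat.card G = Nat.card (G ⧸ K) * Nat.card ↥K :=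
    K.card_eq_card_quotient_mul_card_subgroup
  obtain ⟨hDp, hDQ, hidx, hprimes⟩ := hstr
  set π := QuotientGroup.mk' K with hπ
  have hπs : Function.Surjective π := QuotientGroup.mk'_surjective K
  have hmapD : (commutator G).map π = commutator (G ⧸ K) := by
    rw [commutator_def, Subgroup.map_commutator, commutator_def, ← MonoidHom.range_eq_map,
      MonoidHom.range_eq_top.mpr hπs]
  -- (1)
  have h1 : ∀ q : ℕ, q.Prime → q ∣ K.index → q ≤ p := by
    intro q hq hqK
    by_cases hqp : q = p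
    · exact hqp.le
    · rw [Subgroup.index_eq_card] at hqK
      exact (hprimes q hq hqK hqp).le
  -- (2)
  have h2 : (p = 3 ∨ ∀ q : ℕ, q.Prime → q ∣ Nat.card G → p ≤ q) →
      Cfsg.HasNormalPComplement p G := by
    intro hcase
    apply Cfsg.Agent.S3294.hasNormalPComplement_of_quotient_isPGroup p K hKcop
    have hall : ∀ q : ℕ, q.Prime → q ∣ Nat.card (G ⧸ K) → q = p := by
      intro q hq hqK
      by_contra hqp
      have hlt := hprimes q hq hqK hqp
      have hqG : q ∣ Nat.card G := by rw [hcardG]; exact Dvd.dvd.mul_right hqK _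
      rcases hcase with h3 | hmin
      · have hq2 : q = 2 := by
          have := hq.two_le
          omega
        rw [hq2] at hqG
        exact (Nat.not_even_iff_odd.mpr hodd) (even_iff_two_dvd.mpr hqG)
      · have := hmin q hq hqG
        omega
    have hne : Nat.card (G ⧸ K) ≠ 0 := Nat.card_pos.ne'
    by_cases hone : Nat.card (G ⧸ K) = 1
    · apply IsPGroup.of_card (n := 0)
      rw [hone, pow_zero]
    · obtain ⟨k, hk⟩ : ∃ k, Nat.card (G ⧸ K) = p ^ k := by
        exact ⟨_, Nat.eq_prime_pow_of_unique_prime_dvd hne (fun {q} hq hqd => hall q hq hqd)⟩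
      exact IsPGroup.of_card hk
  -- the derived subgroup
  set D := commutator G with hDdef
  set N : Subgroup ↥D := K.subgroupOf D with hN
  have hNn : N.Normal := Subgroup.Normal.subgroupOf hKn D
  have hNcop : (Nat.card ↥N).Coprime p := by
    have h : Nat.card ↥N ∣ Nat.card ↥K := by
      let f : ↥N →* ↥K := MonoidHom.codRestrict (D.subtype.comp N.subtype) K (fun x => x.2)
      have hf : Function.Injective f := by
        intro a b hab
        have h7 : ((a : ↥D) : G) = ((b : ↥D) : G) := congrArg (fun z : ↥K => (z : G)) hab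
        exact Subtype.ext (Subtype.ext h7)
      exact Subgroup.card_dvd_of_injective f hf
    exact Nat.Coprime.coprime_dvd_left h hKcop
  have himg : ∀ x : ↥D, π x.1 ∈ commutator (G ⧸ K) := by
    intro x
    rw [← hmapD]
    exact Subgroup.mem_map_of_mem π x.2
  have h3 : Cfsg.HasNormalPComplement p ↥D := by
    apply Cfsg.Agent.S3294.hasNormalPComplement_of_quotient_isPGroup p N hNcop
    intro z
    induction z using QuotientGroup.induction_on with
    | H x =>
      obtain ⟨k, hk⟩ := hDp ⟨π x.1, himg x⟩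
      have hk' : (π x.1) ^ p ^ k = 1 := by
        have := congrArg Subtype.val hk
        simpa using this
      rw [← map_pow, hπ, QuotientGroup.mk'_apply, QuotientGroup.eq_one_iff] at hk'
      refine ⟨k, ?_⟩
      rw [← QuotientGroup.mk_pow, QuotientGroup.eq_one_iff]
      show ((x ^ p ^ k : ↥D) : G) ∈ K
      rw [Subgroup.coe_pow]
      exact hk'
  have h4 : ∀ L : Subgroup ↥D, (Nat.card L).Coprime p → L ≤ Cfsg.pPrimeCore p ↥D := by
    intro L hL
    have hLN : L ≤ N := by
      intro x hx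
      obtain ⟨k, hk⟩ := hDp ⟨π x.1, himg x⟩
      have hk' : (π x.1) ^ p ^ k = 1 := by
        have := congrArg Subtype.val hk
        simpa using this
      have ho1 : orderOf (π x.1) ∣ p ^ k := orderOf_dvd_of_pow_eq_one hk'
      have ho2 : orderOf (π x.1) ∣ Nat.card ↥L := by
        have h5 : orderOf (π x.1) ∣ orderOf (x : G) := orderOf_map_dvd π _
        have h6 : orderOf (x : G) = orderOf (⟨x, hx⟩ : ↥L) := by
          rw [← Subgroup.orderOf_coe, ← Subgroup.orderOf_coe]
        rw [h6] at h5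
        exact h5.trans (orderOf_dvd_natCard _)
      have ho3 : orderOf (π x.1) = 1 :=
        Nat.eq_one_of_dvd_coprimes (Nat.Coprime.pow_right k hL) ho2 ho1
      have hx1 : π x.1 = 1 := orderOf_eq_one_iff.mp ho3
      rw [hπ, QuotientGroup.mk'_apply, QuotientGroup.eq_one_iff] at hx1
      exact hx1
    exact hLN.trans (Cfsg.Agent.Lib.Helper1_Cores.le_pPrimeCore hNn hNcop)
  -- (5), (6)
  have h5 : D ≤ Cfsg.pPrimePCore p G := by
    intro x hx
    show π x ∈ pCore p (G ⧸ K)
    apply hDQ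
    rw [← hmapD]
    exact Subgroup.mem_map_of_mem π hx
  have h6 : ((Cfsg.pPrimePCore p G).index).Coprime p := by
    have : (Cfsg.pPrimePCore p G).index = (pCore p (G ⧸ K)).index :=
      Subgroup.index_comap_of_surjective _ hπs
    rw [this]
    exact hidx
  exact ⟨h1, h2, h3, h4, h5, h6⟩

end lift

/-! ### `p`-length one -/

section plength

variable {G : Type*} [Group G] [Finite G] (p : ℕ) [Fact p.Prime]

omit [Fact p.Prime] in
/-- If `G` has `p`-length at most one then `O_p(G / O_{p'}(G))` has index prime to `p`. -/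
theorem index_pCore_coprime_of_pLengthLE_one (h : Cfsg.PLengthLE p 1 G) :
    ((pCore p (G ⧸ pPrimeCore p G)).index).Coprime p := by
  have h3 : (upperPSeries p G (2 + 1)).1 = ⊤ := h
  rw [Cfsg.Agent.S0634.upperPSeries_succ_of_even p 2 (by decide)] at h3
  have htop : pPrimeCore p (G ⧸ (upperPSeries p G 2).1) = ⊤ := by
    rw [eq_top_iff]
    intro x _
    obtain ⟨g, rfl⟩ := QuotientGroup.mk'_surjective _ x
    have hg : g ∈ (pPrimeCore p (G ⧸ (upperPSeries p G 2).1)).comap (QuotientGroup.mk' _) := by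
      rw [h3]
      exact Subgroup.mem_top g
    exact hg
  have hcop := Cfsg.Agent.Lib.Helper1_Cores.pPrimeCore_card_coprime
    (G := G ⧸ (upperPSeries p G 2).1) p
  rw [htop, Subgroup.card_top, ← Subgroup.index_eq_card, Cfsg.Agent.S0635.upperPSeries_two p]
    at hcop
  have hidx : (Cfsg.pPrimePCore p G).index = (pCore p (G ⧸ pPrimeCore p G)).index :=
    Subgroup.index_comap_of_surjective _ (QuotientGroup.mk'_surjective _)
  rwa [hidx] at hcop

/-- If `O_p(G / O_{p'}(G))` has index prime to `p`, it is isomorphic to the Sylow `p`-subgroups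
of `G`. -/
theorem exists_mulEquiv_sylow_pCore (S : Sylow p G)
    (hidx : ((pCore p (G ⧸ pPrimeCore p G)).index).Coprime p) :
    Nonempty (↥(S : Subgroup G) ≃* ↥(pCore p (G ⧸ pPrimeCore p G))) := by
  have hpP : p.Prime := Fact.out
  have hKcop : (Nat.card ↥(pPrimeCore p G)).Coprime p :=
    Cfsg.Agent.Lib.Helper1_Cores.pPrimeCore_card_coprime p
  have hπs : Function.Surjective (QuotientGroup.mk' (pPrimeCore p G)) :=
    QuotientGroup.mk'_surjective _
  have hQp : IsPGroup p ↥(pCore p (G ⧸ pPrimeCore p G)) :=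
    Cfsg.Agent.Lib.Helper1_Cores.pCore_isPGroup p
  have hQn : (pCore p (G ⧸ pPrimeCore p G)).Normal := Cfsg.Agent.Lib.Helper1_Cores.pCore_normal p
  have hnd : ¬ p ∣ (pCore p (G ⧸ pPrimeCore p G)).index := by
    rw [← Nat.Prime.coprime_iff_not_dvd hpP, Nat.coprime_comm]
    exact hidx
  have hQSn : ((hQp.toSylow hnd : Sylow p (G ⧸ pPrimeCore p G)) :
      Subgroup (G ⧸ pPrimeCore p G)).Normal := by
    rw [IsPGroup.toSylow_coe]
    exact hQn
  have := Sylow.unique_of_normal (hQp.toSylow hnd) hQSn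
  have heq : S.mapSurjective hπs = hQp.toSylow hnd := Subsingleton.elim _ _
  have hmap : (S : Subgroup G).map (QuotientGroup.mk' (pPrimeCore p G)) =
      pCore p (G ⧸ pPrimeCore p G) := by
    have h1 := congrArg (fun T : Sylow p (G ⧸ pPrimeCore p G) =>
      (T : Subgroup (G ⧸ pPrimeCore p G))) heq
    simpa using h1
  let ψ : ↥(S : Subgroup G) →* (G ⧸ pPrimeCore p G) :=
    (QuotientGroup.mk' (pPrimeCore p G)).comp (S : Subgroup G).subtype
  have hψinj : Function.Injective ψ := by
    rw [injective_iff_map_eq_one]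
    intro x hx
    have hxK : (x : G) ∈ pPrimeCore p G := by
      have h1 : QuotientGroup.mk' (pPrimeCore p G) (x : G) = 1 := hx
      rwa [QuotientGroup.mk'_apply, QuotientGroup.eq_one_iff] at h1
    obtain ⟨k, hk⟩ := S.2 x
    have ho1 : orderOf (x : G) ∣ p ^ k := by
      apply orderOf_dvd_of_pow_eq_one
      have := congrArg Subtype.val hk
      simpa using this
    have ho2 : orderOf (x : G) ∣ Nat.card ↥(pPrimeCore p G) := by
      have h6 : orderOf (x : G) = orderOf (⟨x, hxK⟩ : ↥(pPrimeCore p G)) := by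
        rw [← Subgroup.orderOf_coe]
      rw [h6]
      exact orderOf_dvd_natCard _
    have ho3 : orderOf (x : G) = 1 :=
      Nat.eq_one_of_dvd_coprimes (Nat.Coprime.pow_right k hKcop) ho2 ho1
    apply Subtype.ext
    exact orderOf_eq_one_iff.mp ho3
  have hrange : ψ.range = pCore p (G ⧸ pPrimeCore p G) := by
    rw [← hmap]
    ext y
    constructor
    · rintro ⟨x, rfl⟩
      exact ⟨x.1, x.2, rfl⟩
    · rintro ⟨x, hx, rfl⟩
      exact ⟨⟨x, hx⟩, rfl⟩
  exact ⟨(MonoidHom.ofInjective hψinj).trans (MulEquiv.subgroupCongr hrange)⟩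

end plength

/-! ### The main theorem -/

section mainthm

/-- **Bender–Glauberman, Theorem 5.6** (for a narrow Sylow subgroup of rank at least three and
`p`-length one). -/
theorem main_of_narrow {G : Type*} [Group G] [Finite G] [Group.IsSolvable G]
    (hodd : Odd (Nat.card G)) (p : ℕ) [Fact p.Prime] (hpG : p ∣ Nat.card G) (S : Sylow p G)
    (hS : Cfsg.IsNarrow p ↥(S : Subgroup G)) (hrk : ¬ Cfsg.PRankLE p 2 ↥(S : Subgroup G))
    (hpl : Cfsg.PLengthLE p 1 G) :
    (∀ q : ℕ, q.Prime → q ∣ (Cfsg.pPrimeCore p G).index → q ≤ p) ∧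
      ((p = 3 ∨ ∀ q : ℕ, q.Prime → q ∣ Nat.card G → p ≤ q) → Cfsg.HasNormalPComplement p G) ∧
      Cfsg.HasNormalPComplement p ↥(commutator G) ∧
      (∀ L : Subgroup ↥(commutator G), (Nat.card L).Coprime p →
        L ≤ Cfsg.pPrimeCore p ↥(commutator G)) ∧
      commutator G ≤ Cfsg.pPrimePCore p G ∧ ((Cfsg.pPrimePCore p G).index).Coprime p := by
  have hpP : p.Prime := Fact.out
  have hp2 : p ≠ 2 := by
    intro h2
    rw [h2] at hpG
    exact (Nat.not_even_iff_odd.mpr hodd) (even_iff_two_dvd.mpr hpG)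
  have hidx := index_pCore_coprime_of_pLengthLE_one p hpl
  obtain ⟨e⟩ := exists_mulEquiv_sylow_pCore p S hidx
  have hQp : IsPGroup p ↥(pCore p (G ⧸ pPrimeCore p G)) :=
    Cfsg.Agent.Lib.Helper1_Cores.pCore_isPGroup p
  have hQn : Cfsg.IsNarrow p ↥(pCore p (G ⧸ pPrimeCore p G)) := isNarrow_of_mulEquiv e hS
  have hQrk : ¬ Cfsg.PRankLE p 2 ↥(pCore p (G ⧸ pPrimeCore p G)) := by
    intro h
    exact hrk (pRankLE_of_injective' p 2 e.toMonoidHom e.injective h)
  obtain ⟨g, R₁, hN⟩ := exists_nData_of_isNarrow hQp hQn hQrk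
  have hcore : pPrimeCore p (G ⧸ pPrimeCore p G) = ⊥ :=
    Cfsg.Agent.Lib.Helper76_PSolvable.pPrimeCore_quotient_pPrimeCore p
  exact main_of_quotient hodd p (quotient_structure_gen hcore (hN.exists_stab hp2))

end mainthm

end Cfsg.Agent.Lib.Helper2_NarrowSolv
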