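import Mathlib

/-!
Sylow helpers (helper32): conjugating p-subgroups into a Sylow subgroup inside a subgroup,
the intersection of a Sylow subgroup with a normal subgroup, Frattini argument.
(The counting lemmas follow helper10's S0608.)
-/

set_option autoImplicit false

namespace Cfsg.Agent.Lib.Helper32_Sylow

variable {G : Type*} [Group G]

/-- If a Sylow `p`-subgroup `P` of `G` lies in `C`, any `p`-subgroup of `C` is conjugate into `P`
by an element of `C`. -/
theorem sylow_conj_into [Finite G] {p : ℕ} [Fact p.Prime]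
    (C : Subgroup G) (P : Sylow p G) (hPC : (P : Subgroup G) ≤ C) (Q : Subgroup G) (hQC : Q ≤ C)
    (hQ : IsPGroup p Q) : ∃ c ∈ C, ∀ x ∈ Q, c * x * c⁻¹ ∈ (P : Subgroup G) := by
  let P' : Sylow p C := P.subtype hPC
  have hpg : IsPGroup p (Q.subgroupOf C) := hQ.comap_subtype
  obtain ⟨R, hR⟩ := hpg.exists_le_sylow
  obtain ⟨c, hc⟩ := MulAction.exists_smul_eq C R P'
  refine ⟨c, c.2, ?_⟩
  intro x hx
  have h1 : (⟨x, hQC hx⟩ : C) ∈ R := hR (by simpa [Subgroup.mem_subgroupOf] using hx)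
  have h2 : c * ⟨x, hQC hx⟩ * c⁻¹ ∈ (P' : Subgroup C) := by
    rw [← hc, Sylow.coe_subgroup_smul]
    exact Subgroup.smul_mem_pointwise_smul _ _ _ h1
  have h3 : (P' : Subgroup C) = (P : Subgroup G).subgroupOf C := Sylow.coe_subtype P hPC
  rw [h3, Subgroup.mem_subgroupOf] at h2
  simpa using h2

theorem card_mul_relIndex' {H K : Subgroup G} (h : H ≤ K) :
    Nat.card H * H.relIndex K = Nat.card K := by
  have := Subgroup.relIndex_mul_relIndex ⊥ H K bot_le h
  rwa [Subgroup.relIndex_bot_left, Subgroup.relIndex_bot_left] at this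

theorem relIndex_inf_of_normal [Finite G] (H K : Subgroup G) [K.Normal] :
    (H ⊓ K).relIndex K = H.relIndex (H ⊔ K) := by
  have h1 : Nat.card (H ⊓ K : Subgroup G) * (H ⊓ K).relIndex K = Nat.card K :=
    card_mul_relIndex' inf_le_right
  have h2 : Nat.card (H ⊓ K : Subgroup G) * (H ⊓ K).relIndex H = Nat.card H :=
    card_mul_relIndex' inf_le_left
  have h3 : Nat.card H * H.relIndex (H ⊔ K) = Nat.card (H ⊔ K : Subgroup G) :=
    card_mul_relIndex' le_sup_left
  have h4 : Nat.card K * K.relIndex (H ⊔ K) = Nat.card (H ⊔ K : Subgroup G) :=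
    card_mul_relIndex' le_sup_right
  rw [Subgroup.relIndex_sup_right] at h4
  rw [Subgroup.inf_relIndex_left] at h2
  have hpos : 0 < Nat.card (H ⊓ K : Subgroup G) := Nat.card_pos
  have hpos2 : 0 < K.relIndex H := by
    unfold Subgroup.relIndex
    exact Nat.pos_of_ne_zero (Subgroup.index_ne_zero_of_finite)
  have : Nat.card (H ⊓ K : Subgroup G) * K.relIndex H * (H ⊓ K).relIndex K =
      Nat.card (H ⊓ K : Subgroup G) * K.relIndex H * H.relIndex (H ⊔ K) := by
    calc _ = (Nat.card (H ⊓ K : Subgroup G) * (H ⊓ K).relIndex K) * K.relIndex H := by ring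
      _ = Nat.card K * K.relIndex H := by rw [h1]
      _ = Nat.card H * H.relIndex (H ⊔ K) := by rw [h4, h3]
      _ = _ := by rw [← h2]
  exact Nat.eq_of_mul_eq_mul_left (Nat.mul_pos hpos hpos2) this

theorem not_dvd_relIndex_inf_normal [Finite G] {p : ℕ} [Fact p.Prime]
    (S : Sylow p G) (C : Subgroup G) [C.Normal] : ¬ p ∣ ((S : Subgroup G) ⊓ C).relIndex C := by
  rw [relIndex_inf_of_normal]
  intro h
  exact S.not_dvd_index (h.trans (Subgroup.relIndex_dvd_index_of_le le_sup_left))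

/-- The intersection of a Sylow subgroup with a normal subgroup `C`, as a Sylow subgroup of `C`. -/
noncomputable def sylowInfNormal [Finite G] {p : ℕ} [Fact p.Prime] (S : Sylow p G) (C : Subgroup G)
    [C.Normal] : Sylow p C :=
  IsPGroup.toSylow (P := ((S : Subgroup G) ⊓ C).subgroupOf C)
    ((S.isPGroup'.to_le inf_le_left).comap_subtype) (not_dvd_relIndex_inf_normal S C)

theorem coe_sylowInfNormal [Finite G] {p : ℕ} [Fact p.Prime] (S : Sylow p G) (C : Subgroup G)
    [C.Normal] : ((sylowInfNormal S C : Sylow p C) : Subgroup C) = ((S : Subgroup G) ⊓ C).subgroupOf C :=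
  IsPGroup.toSylow_coe _ _

theorem map_sylowInfNormal [Finite G] {p : ℕ} [Fact p.Prime] (S : Sylow p G) (C : Subgroup G)
    [C.Normal] : ((sylowInfNormal S C : Sylow p C) : Subgroup C).map C.subtype = (S : Subgroup G) ⊓ C := by
  rw [coe_sylowInfNormal, Subgroup.subgroupOf_map_subtype, inf_assoc, inf_idem]

/-- Frattini argument for the intersection of a Sylow subgroup with a normal subgroup: every
element is a product of an element of the normal subgroup and an element normalizing the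
intersection. -/
theorem frattini_inf [Finite G] {p : ℕ} [Fact p.Prime] (S : Sylow p G) (C : Subgroup G)
    [C.Normal] (g : G) :
    ∃ c ∈ C, ∃ n ∈ Subgroup.normalizer ((((S : Subgroup G) ⊓ C : Subgroup G)) : Set G),
      g = c * n := by
  have hF := Sylow.normalizer_sup_eq_top (sylowInfNormal S C)
  rw [map_sylowInfNormal, sup_comm] at hF
  have hg : g ∈ ((C ⊔ Subgroup.normalizer ((((S : Subgroup G) ⊓ C : Subgroup G)) : Set G) :
      Subgroup G) : Set G) := by
    rw [hF]; exact Subgroup.mem_top g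
  rw [Subgroup.normal_mul, Set.mem_mul] at hg
  obtain ⟨c, hc, n, hn, hcn⟩ := hg
  exact ⟨c, hc, n, hn, hcn.symm⟩

/-- Elements of coprime orders in a `p`-subgroup and a `p'`-subgroup: the intersection is trivial. -/
theorem inf_eq_bot_of_pgroup_of_coprime [Finite G] {p : ℕ} [Fact p.Prime] {H D : Subgroup G}
    (hH : IsPGroup p H) (hD : (Nat.card D).Coprime p) : H ⊓ D = ⊥ := by
  rw [eq_bot_iff]
  intro x hx
  rw [Subgroup.mem_bot]
  obtain ⟨hxH, hxD⟩ := Subgroup.mem_inf.mp hx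
  obtain ⟨k, hk⟩ := hH ⟨x, hxH⟩
  have hk' : x ^ (p ^ k) = 1 := by
    have := congrArg Subtype.val hk
    simpa using this
  have h1 : orderOf x ∣ p ^ k := orderOf_dvd_of_pow_eq_one hk'
  have h2 : orderOf x ∣ Nat.card D := by
    have : orderOf (⟨x, hxD⟩ : D) ∣ Nat.card D := orderOf_dvd_natCard _
    rwa [Subgroup.orderOf_mk] at this
  have h3 : (Nat.card D).Coprime (p ^ k) := Nat.Coprime.pow_right k hD
  have h4 : orderOf x = 1 := Nat.eq_one_of_dvd_coprimes h3 h2 h1
  exact orderOf_eq_one_iff.mp h4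

/-- A `p`-element of a subgroup of order prime to `p` is trivial. -/
theorem eq_one_of_pow_eq_one_of_mem_coprime [Finite G] {p : ℕ} {D : Subgroup G}
    (hD : (Nat.card D).Coprime p) {x : G} {k : ℕ} (hx : x ^ (p ^ k) = 1) (hxD : x ∈ D) : x = 1 := by
  have h1 : orderOf x ∣ p ^ k := orderOf_dvd_of_pow_eq_one hx
  have h2 : orderOf x ∣ Nat.card D := by
    have : orderOf (⟨x, hxD⟩ : D) ∣ Nat.card D := orderOf_dvd_natCard _
    rwa [Subgroup.orderOf_mk] at this
  have h3 : (Nat.card D).Coprime (p ^ k) := Nat.Coprime.pow_right k hD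
  exact orderOf_eq_one_iff.mp (Nat.eq_one_of_dvd_coprimes h3 h2 h1)

/-- Conjugacy of `p`-elements in a coset of a normal `p'`-subgroup (a cyclic case of
Schur--Zassenhaus). -/
theorem conj_of_mem_coset_coprime_normal [Finite G] {p : ℕ} [Fact p.Prime] (C : Subgroup G) [C.Normal]
    (hC : (Nat.card C).Coprime p) (y y' : G) (k : ℕ) (hy : y ^ (p ^ k) = 1) (hy' : y' ^ (p ^ k) = 1)
    (hyy' : y⁻¹ * y' ∈ C) : ∃ c ∈ C, c * y' * c⁻¹ = y := by
  set W : Subgroup G := C ⊔ Subgroup.zpowers y with hW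
  have hyW : y ∈ W := Subgroup.mem_sup_right (Subgroup.mem_zpowers y)
  have hy'W : y' ∈ W := by
    have : y' = y * (y⁻¹ * y') := by group
    rw [this]
    exact W.mul_mem hyW (Subgroup.mem_sup_left hyy')
  set Y' : Subgroup W := (Subgroup.zpowers y).subgroupOf W with hY'
  have hidx : ¬ p ∣ Nat.card (W ⧸ Y') := by
    have h1 : Nat.card (W ⧸ Y') = (Subgroup.zpowers y).relIndex W := rfl
    rw [h1, hW, sup_comm, ← relIndex_inf_of_normal]
    intro hdvd
    have h2 : (Subgroup.zpowers y ⊓ C).relIndex C ∣ Nat.card C := Subgroup.relIndex_dvd_card _ _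
    have h3 := Nat.Coprime.coprime_dvd_left h2 hC
    have hp : p.Prime := Fact.out
    exact hp.one_lt.ne' (Nat.eq_one_of_dvd_coprimes h3 hdvd dvd_rfl)
  set Z' : Subgroup W := Subgroup.zpowers (⟨y', hy'W⟩ : W) with hZ'
  have hZp : IsPGroup p Z' := by
    rw [hZ']
    intro z
    obtain ⟨z, hz⟩ := z
    obtain ⟨i, rfl⟩ := Subgroup.mem_zpowers_iff.mp hz
    refine ⟨k, ?_⟩
    apply Subtype.ext
    apply Subtype.ext
    simp only [Subgroup.coe_pow, Subgroup.coe_zpow, Subgroup.coe_one]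
    rw [← zpow_natCast, ← zpow_mul, mul_comm, zpow_mul, zpow_natCast, hy', one_zpow]
  obtain ⟨q, hq⟩ := hZp.nonempty_fixed_point_of_prime_not_dvd_card (W ⧸ Y') hidx
  induction q using QuotientGroup.induction_on with
  | H w =>
    have hfix : (QuotientGroup.mk ((⟨y', hy'W⟩ : W) * w) : W ⧸ Y') = QuotientGroup.mk w :=
      hq ⟨⟨y', hy'W⟩, Subgroup.mem_zpowers _⟩
    rw [QuotientGroup.eq] at hfix
    -- hfix : (y' * w)⁻¹ * w ∈ Y'
    rw [hY', Subgroup.mem_subgroupOf] at hfix
    have hfix' : ((w : G))⁻¹ * y' * w ∈ Subgroup.zpowers y := by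
      have := (Subgroup.zpowers y).inv_mem hfix
      simpa [mul_assoc] using this
    obtain ⟨c₀, hc₀, a, ha, hw⟩ := Subgroup.mem_sup_of_normal_left.mp w.2
    obtain ⟨i, rfl⟩ := Subgroup.mem_zpowers_iff.mp ha
    obtain ⟨j, hj⟩ := Subgroup.mem_zpowers_iff.mp hfix'
    -- c₀⁻¹ y' c₀ = y^j
    have h5 : c₀⁻¹ * y' * c₀ = y ^ j := by
      have : c₀⁻¹ * y' * c₀ = y ^ i * ((w : G)⁻¹ * y' * w) * (y ^ i)⁻¹ := by
        rw [← hw]; group
      rw [this, ← hj]
      group
    have h6 : y⁻¹ * y ^ j ∈ C := by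
      have : y⁻¹ * y ^ j = (y⁻¹ * c₀⁻¹ * y⁻¹⁻¹) * (y⁻¹ * y') * c₀ := by
        rw [← h5]; group
      rw [this]
      exact C.mul_mem (C.mul_mem (Subgroup.Normal.conj_mem inferInstance _ (C.inv_mem hc₀) _) hyy') hc₀
    have h7 : (y⁻¹ * y ^ j) ^ (p ^ k) = 1 := by
      have : y⁻¹ * y ^ j = y ^ (j - 1) := by
        rw [zpow_sub, zpow_one]
        exact (Commute.inv_left (Commute.zpow_right (Commute.refl y) j)).eq
      rw [this, ← zpow_natCast, ← zpow_mul, mul_comm, zpow_mul, zpow_natCast, hy, one_zpow]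
    have h8 := eq_one_of_pow_eq_one_of_mem_coprime hC h7 h6
    have h9 : y ^ j = y := by
      have := congrArg (fun t => y * t) h8
      simpa using this
    refine ⟨c₀⁻¹, C.inv_mem hc₀, ?_⟩
    rw [inv_inv, h5, h9]

/-- Elements of a normal `p'`-subgroup normalizing a `p`-subgroup centralize it. -/
theorem mem_centralizer_of_mem_normalizer [Finite G] {p : ℕ} [Fact p.Prime] {D H : Subgroup G}
    [D.Normal] (hD : (Nat.card D).Coprime p)
    (hH : IsPGroup p H) {c : G} (hcD : c ∈ D) (hcN : c ∈ Subgroup.normalizer (H : Set G)) :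
    c ∈ Subgroup.centralizer (H : Set G) := by
  rw [Subgroup.mem_centralizer_iff]
  intro h hh
  have hHD : H ⊓ D = ⊥ := inf_eq_bot_of_pgroup_of_coprime hH hD
  have h1 : c * h * c⁻¹ ∈ H := (Subgroup.mem_normalizer_iff.mp hcN h).mp hh
  have h2 : c * h * c⁻¹ * h⁻¹ ∈ H := H.mul_mem h1 (H.inv_mem hh)
  have h3 : c * h * c⁻¹ * h⁻¹ ∈ D := by
    have : c * h * c⁻¹ * h⁻¹ = c * (h * c⁻¹ * h⁻¹) := by group
    rw [this]
    exact D.mul_mem hcD (Subgroup.Normal.conj_mem inferInstance _ (D.inv_mem hcD) h)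
  have h4 : c * h * c⁻¹ * h⁻¹ ∈ H ⊓ D := ⟨h2, h3⟩
  rw [hHD, Subgroup.mem_bot] at h4
  calc h * c = (c * h * c⁻¹ * h⁻¹)⁻¹ * (c * h) := by group
    _ = c * h := by rw [h4]; group

/-- Conjugating an element of the centralizer of `S` by an element of the normalizer of `S` stays in
the centralizer. -/
theorem conj_mem_centralizer_of_mem_normalizer {S : Subgroup G} {g z : G}
    (hg : g ∈ Subgroup.normalizer (S : Set G)) (hz : z ∈ Subgroup.centralizer (S : Set G)) :
    g⁻¹ * z * g ∈ Subgroup.centralizer (S : Set G) := by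
  rw [Subgroup.mem_centralizer_iff] at hz ⊢
  intro s hs
  have h1 : g * s * g⁻¹ ∈ S := (Subgroup.mem_normalizer_iff.mp hg s).mp hs
  have h2 := hz _ h1
  calc s * (g⁻¹ * z * g) = g⁻¹ * ((g * s * g⁻¹) * z) * g := by group
    _ = g⁻¹ * (z * (g * s * g⁻¹)) * g := by rw [h2]
    _ = g⁻¹ * z * g * s := by group

end Cfsg.Agent.Lib.Helper32_Sylow
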