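import Cfsg.Agent.Lib.Helper33_Conj
import Mathlib.GroupTheory.Nilpotent

set_option autoImplicit false

namespace Cfsg.Agent.Lib.Helper33_Alperin

open Cfsg.Agent.Lib.Helper33_Conj

variable {G : Type*} [Group G]

/-- left conjugate of a set: `g A g⁻¹` -/
def cjs (g : G) (A : Set G) : Set G := (fun a => g * a * g⁻¹) '' A

theorem mem_cjs {g x : G} {A : Set G} : x ∈ cjs g A ↔ g⁻¹ * x * g ∈ A := by
  constructor
  · rintro ⟨a, ha, rfl⟩
    have : g⁻¹ * (g * a * g⁻¹) * g = a := by group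
    rw [this]; exact ha
  · intro h
    exact ⟨g⁻¹ * x * g, h, by group⟩

theorem conj_mem_cjs {g a : G} {A : Set G} (ha : a ∈ A) : g * a * g⁻¹ ∈ cjs g A := ⟨a, ha, rfl⟩

theorem cjs_one (A : Set G) : cjs 1 A = A := by
  ext x; rw [mem_cjs]; simp

theorem cjs_mul (g h : G) (A : Set G) : cjs (g * h) A = cjs g (cjs h A) := by
  ext x; simp only [mem_cjs]
  have : (g * h)⁻¹ * x * (g * h) = h⁻¹ * (g⁻¹ * x * g) * h := by group
  rw [this]

theorem cjs_inv_cjs (g : G) (A : Set G) : cjs g⁻¹ (cjs g A) = A := by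
  rw [← cjs_mul]; simp [cjs_one]

theorem cjs_cjs_inv (g : G) (A : Set G) : cjs g (cjs g⁻¹ A) = A := by
  rw [← cjs_mul]; simp [cjs_one]

theorem cjs_mono {g : G} {A B : Set G} (h : A ⊆ B) : cjs g A ⊆ cjs g B := Set.image_mono h

theorem coe_cj (g : G) (P : Subgroup G) : ((cj g P : Subgroup G) : Set G) = cjs g (P : Set G) := by
  ext x
  rw [SetLike.mem_coe, mem_cj, mem_cjs, SetLike.mem_coe]

theorem cjs_subset_coe_iff {g : G} {A : Set G} {P : Subgroup G} :
    cjs g A ⊆ (P : Set G) ↔ cj g (Subgroup.closure A) ≤ P := by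
  rw [cj_closure, Subgroup.closure_le]
  rfl

/-- Two elements inducing the same conjugation map on `A`. -/
def AgreeOn (A : Set G) (g h : G) : Prop := ∀ a ∈ A, g * a * g⁻¹ = h * a * h⁻¹

theorem AgreeOn.cjs_eq {A : Set G} {g h : G} (H : AgreeOn A g h) : cjs g A = cjs h A := by
  ext x
  constructor
  · rintro ⟨a, ha, rfl⟩; exact ⟨a, ha, (H a ha).symm⟩
  · rintro ⟨a, ha, rfl⟩; exact ⟨a, ha, H a ha⟩

theorem AgreeOn.refl (A : Set G) (g : G) : AgreeOn A g g := fun _ _ => rfl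

theorem AgreeOn.symm {A : Set G} {g h : G} (H : AgreeOn A g h) : AgreeOn A h g :=
  fun a ha => (H a ha).symm

theorem AgreeOn.trans {A : Set G} {g h k : G} (H : AgreeOn A g h) (H' : AgreeOn A h k) :
    AgreeOn A g k := fun a ha => (H a ha).trans (H' a ha)

theorem AgreeOn.mono {A B : Set G} {g h : G} (H : AgreeOn A g h) (hBA : B ⊆ A) : AgreeOn B g h :=
  fun a ha => H a (hBA ha)

theorem AgreeOn.mul {A : Set G} {g h g' h' : G} (H : AgreeOn A g h)
    (H' : AgreeOn (cjs g A) g' h') : AgreeOn A (g' * g) (h' * h) := by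
  intro a ha
  have h1 := H a ha
  have h2 := H' (g * a * g⁻¹) (conj_mem_cjs ha)
  calc g' * g * a * (g' * g)⁻¹ = g' * (g * a * g⁻¹) * g'⁻¹ := by group
    _ = h' * (g * a * g⁻¹) * h'⁻¹ := h2
    _ = h' * (h * a * h⁻¹) * h'⁻¹ := by rw [h1]
    _ = h' * h * a * (h' * h)⁻¹ := by group

theorem AgreeOn.inv {A : Set G} {g h : G} (H : AgreeOn A g h) :
    AgreeOn (cjs g A) g⁻¹ h⁻¹ := by
  rintro _ ⟨a, ha, rfl⟩
  have h1 := H a ha
  calc g⁻¹ * (g * a * g⁻¹) * g⁻¹⁻¹ = h⁻¹ * (h * a * h⁻¹) * h⁻¹⁻¹ := by group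
    _ = h⁻¹ * (g * a * g⁻¹) * h⁻¹⁻¹ := by rw [h1]

/-! ### Sylow-type lemmas relative to a subgroup -/

section Sylow

variable [Finite G] {p : ℕ} [Fact p.Prime]

/-- Sylow's theorem inside a subgroup `H`: a `p`-subgroup `P ≤ H` is `H`-conjugate into any
`p`-subgroup `Q ≤ H` of index prime to `p` in `H`. -/
theorem exists_cj_le_of_relIndex {H Q P : Subgroup G} (hQH : Q ≤ H) (hQ : IsPGroup p Q)
    (hidx : ¬ p ∣ Q.relIndex H) (hPH : P ≤ H) (hP : IsPGroup p P) :
    ∃ m ∈ H, cj m P ≤ Q := by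
  have hQ' : IsPGroup p (Q.subgroupOf H) := hQ.comap_subtype
  have hP' : IsPGroup p (P.subgroupOf H) := hP.comap_subtype
  let SQ : Sylow p H := hQ'.toSylow hidx
  obtain ⟨SP, hSP⟩ := hP'.exists_le_sylow
  obtain ⟨m, hm⟩ := MulAction.exists_smul_eq H SP SQ
  refine ⟨(m : G), m.2, ?_⟩
  intro x hx
  rw [mem_cj] at hx
  have hxH : x ∈ H := by
    have h1 : (m : G)⁻¹ * x * m ∈ H := hPH hx
    have h2 : x = (m : G) * ((m : G)⁻¹ * x * m) * (m : G)⁻¹ := by group
    rw [h2]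
    exact H.mul_mem (H.mul_mem m.2 h1) (H.inv_mem m.2)
  have h3 : (⟨(m : G)⁻¹ * x * m, hPH hx⟩ : H) ∈ (SP : Subgroup H) := hSP (by
    rw [Subgroup.mem_subgroupOf]; exact hx)
  have h4 : (⟨x, hxH⟩ : H) ∈ ((m • SP : Sylow p H) : Subgroup H) := by
    rw [Sylow.coe_subgroup_smul, Subgroup.mem_pointwise_smul_iff_inv_smul_mem]
    simp only [MulAut.smul_def, MulAut.conj_inv_apply]
    have e : m⁻¹ * (⟨x, hxH⟩ : H) * m = ⟨(m : G)⁻¹ * x * m, hPH hx⟩ := Subtype.ext (by simp)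
    rw [e]; exact h3
  rw [hm] at h4
  have h5 : (⟨x, hxH⟩ : H) ∈ Q.subgroupOf H := by
    have : ((SQ : Sylow p H) : Subgroup H) = Q.subgroupOf H := IsPGroup.toSylow_coe hQ' hidx
    rw [← this]; exact h4
  exact Subgroup.mem_subgroupOf.mp h5

/-- In a finite `p`-group `S`, a proper subgroup is properly contained in its normalizer in `S`. -/
theorem lt_inf_normalizer {S Q : Subgroup G} (hS : IsPGroup p S) (hQ : Q < S) :
    Q < S ⊓ Subgroup.normalizer (Q : Set G) := by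
  haveI : Group.IsNilpotent S := hS.isNilpotent
  have hnc : NormalizerCondition S := normalizerCondition_of_isNilpotent
  have h1 : Q.subgroupOf S < ⊤ := by
    rw [lt_top_iff_ne_top, Ne, Subgroup.subgroupOf_eq_top]
    exact not_le_of_gt hQ
  have h2 := hnc _ h1
  rw [← Subgroup.subgroupOf_normalizer_eq hQ.le] at h2
  refine lt_of_le_of_ne (le_inf hQ.le Subgroup.le_normalizer) ?_
  intro heq
  apply h2.ne
  ext ⟨x, hx⟩
  rw [Subgroup.mem_subgroupOf, Subgroup.mem_subgroupOf]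
  constructor
  · intro h; exact Subgroup.le_normalizer h
  · intro h
    have : x ∈ S ⊓ Subgroup.normalizer (Q : Set G) := ⟨hx, h⟩
    rw [← heq] at this; exact this

theorem card_lt_of_lt {H K : Subgroup G} (h : H < K) : Nat.card H < Nat.card K := by
  by_contra hcon
  exact h.ne (Subgroup.eq_of_le_of_card_ge h.le (not_lt.mp hcon))

theorem card_cj (g : G) (P : Subgroup G) : Nat.card (cj g P) = Nat.card P := by
  exact Subgroup.card_map_of_injective (MulAut.conj g).injective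

/-- Key step of Alperin's argument: if `U = k₀ Q k₀⁻¹` and `N_S(U)` is a Sylow `p`-subgroup of
`N_G(U)`, then `k₀` can be adjusted so that it also carries `N_S(Q)` into `N_S(U)`. -/
theorem exists_cj_normalizer_le (S : Sylow p G) {Q U : Subgroup G} (k₀ : G)
    (hk₀ : cj k₀ Q = U)
    (hU : ¬ p ∣ ((S : Subgroup G) ⊓ Subgroup.normalizer (U : Set G)).relIndex
      (Subgroup.normalizer (U : Set G))) :
    ∃ k : G, cj k Q = U ∧ cj k ((S : Subgroup G) ⊓ Subgroup.normalizer (Q : Set G)) ≤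
      (S : Subgroup G) ⊓ Subgroup.normalizer (U : Set G) := by
  have h1 : cj k₀ ((S : Subgroup G) ⊓ Subgroup.normalizer (Q : Set G)) ≤
      Subgroup.normalizer (U : Set G) := by
    rw [cj_inf, cj_normalizer, hk₀]
    exact inf_le_right
  have h2 : IsPGroup p (cj k₀ ((S : Subgroup G) ⊓ Subgroup.normalizer (Q : Set G))) :=
    isPGroup_cj (S.2.to_le inf_le_left)
  obtain ⟨m, hm, hmle⟩ := exists_cj_le_of_relIndex (p := p) (inf_le_right)
    (S.2.to_le inf_le_left) hU h1 h2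
  refine ⟨m * k₀, ?_, ?_⟩
  · rw [cj_mul, hk₀]
    exact mem_normalizer_iff_cj.mp hm
  · rw [cj_mul]
    exact hmle

end Sylow

/-! ### Abstract fusion relations and Alperin's induction -/

/-- An abstract "fusion relation" `R A g` (read: the conjugation map `a ↦ g a g⁻¹` on `A` is
"explained"), closed under restriction, composition and inversion. -/
structure FusionRel (R : Set G → G → Prop) : Prop where
  restrict : ∀ (A A' : Set G) (g : G), R A g → A' ⊆ A → R A' g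
  trans : ∀ (A : Set G) (g h : G), R A g → R (cjs g A) h → R A (h * g)
  symm : ∀ (A : Set G) (g : G), R A g → R (cjs g A) g⁻¹

/-- Alperin's induction, in an abstract form. -/
theorem alperin [Finite G] {p : ℕ} [Fact p.Prime] (S : Sylow p G) (𝓕 : Set (Subgroup G))
    (h𝓕 : ∀ T : Subgroup G, T ≤ (S : Subgroup G) → ∃ U ∈ 𝓕, U ≤ (S : Subgroup G) ∧
      (∃ g : G, cj g T = U) ∧
      ¬ p ∣ ((S : Subgroup G) ⊓ Subgroup.normalizer (U : Set G)).relIndex
        (Subgroup.normalizer (U : Set G)))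
    (R : Set G → G → Prop) (hR : FusionRel R)
    (hloc : ∀ U ∈ 𝓕, U ≤ (S : Subgroup G) →
      ¬ p ∣ ((S : Subgroup G) ⊓ Subgroup.normalizer (U : Set G)).relIndex
        (Subgroup.normalizer (U : Set G)) →
      (∀ Q : Subgroup G, Q ≤ (S : Subgroup G) → Nat.card U < Nat.card Q →
        ∀ g : G, cj g Q ≤ (S : Subgroup G) → R (Q : Set G) g) →
      ∀ m ∈ Subgroup.normalizer (U : Set G), R (U : Set G) m) :
    ∀ Q : Subgroup G, Q ≤ (S : Subgroup G) → ∀ g : G, cj g Q ≤ (S : Subgroup G) →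
      R (Q : Set G) g := by
  intro Q
  generalize hn : Nat.card (S : Subgroup G) - Nat.card Q = n
  induction n using Nat.strong_induction_on generalizing Q with
  | _ n ih =>
  intro hQS g hgQ
  -- the induction hypothesis in usable form
  have IH : ∀ Q' : Subgroup G, Q' ≤ (S : Subgroup G) → Nat.card Q < Nat.card Q' →
      ∀ g : G, cj g Q' ≤ (S : Subgroup G) → R (Q' : Set G) g := by
    intro Q' hQ'S hcard g' hg'
    have hle : Nat.card Q' ≤ Nat.card (S : Subgroup G) := Subgroup.card_le_of_le hQ'S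
    exact ih (Nat.card (S : Subgroup G) - Nat.card Q') (by omega) Q' rfl hQ'S g' hg'
  obtain ⟨U, hU𝓕, hUS, ⟨k₀, hk₀⟩, hUfn⟩ := h𝓕 Q hQS
  have hcardU : Nat.card U = Nat.card Q := by rw [← hk₀, card_cj]
  have IHU : ∀ Q' : Subgroup G, Q' ≤ (S : Subgroup G) → Nat.card U < Nat.card Q' →
      ∀ g : G, cj g Q' ≤ (S : Subgroup G) → R (Q' : Set G) g := by
    rw [hcardU]; exact IH
  have hlocU := hloc U hU𝓕 hUS hUfn IHU
  rcases eq_or_lt_of_le hQS with hQeq | hQlt
  · -- Q = S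
    have hUeq : U = (S : Subgroup G) := by
      apply Subgroup.eq_of_le_of_card_ge hUS
      rw [hcardU, hQeq]
    have hg : g ∈ Subgroup.normalizer (U : Set G) := by
      rw [hUeq, mem_normalizer_iff_cj]
      apply Subgroup.eq_of_le_of_card_ge (hQeq ▸ hgQ)
      rw [card_cj]
    have := hlocU g hg
    rw [hUeq, ← hQeq] at this
    exact this
  · -- Q < S
    obtain ⟨k, hkQ, hkN⟩ := exists_cj_normalizer_le S k₀ hk₀ hUfn
    have hNQ := lt_inf_normalizer S.2 hQlt
    have hR1 : R (Q : Set G) k := by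
      have := IH _ inf_le_left (card_lt_of_lt hNQ) k (hkN.trans inf_le_left)
      exact hR.restrict _ _ _ this hNQ.le
    -- the same for Q₂ = g Q g⁻¹
    set Q₂ := cj g Q with hQ₂
    have hcardQ₂ : Nat.card Q₂ = Nat.card Q := card_cj g Q
    have hQ₂lt : Q₂ < (S : Subgroup G) := by
      refine lt_of_le_of_ne hgQ ?_
      intro heq
      have h1 : Nat.card Q₂ = Nat.card (S : Subgroup G) := by rw [heq]
      have h2 := card_lt_of_lt hQlt
      omega
    have hk₀₂ : cj (k₀ * g⁻¹) Q₂ = U := by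
      rw [cj_mul, hQ₂, cj_inv_cj, hk₀]
    obtain ⟨k₂, hk₂Q, hk₂N⟩ := exists_cj_normalizer_le S (k₀ * g⁻¹) hk₀₂ hUfn
    have hNQ₂ := lt_inf_normalizer S.2 hQ₂lt
    have hR2 : R (Q₂ : Set G) k₂ := by
      have := IH _ inf_le_left (by rw [← hcardQ₂]; exact card_lt_of_lt hNQ₂) k₂
        (hk₂N.trans inf_le_left)
      exact hR.restrict _ _ _ this hNQ₂.le
    -- m = k₂ g k⁻¹ normalizes U
    have hm : k₂ * g * k⁻¹ ∈ Subgroup.normalizer (U : Set G) := by
      rw [mem_normalizer_iff_cj, cj_mul, cj_mul]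
      have : cj k⁻¹ U = Q := by rw [← hkQ, cj_inv_cj]
      rw [this, ← hQ₂, hk₂Q]
    have hR3 := hlocU _ hm
    have hR2' := hR.symm _ _ hR2
    have e1 : cjs k (Q : Set G) = (U : Set G) := by rw [← coe_cj, hkQ]
    have e2 : cjs k₂ (Q₂ : Set G) = (U : Set G) := by rw [← coe_cj, hk₂Q]
    have e3 : cjs (k₂ * g * k⁻¹) (U : Set G) = (U : Set G) := by
      rw [← coe_cj, mem_normalizer_iff_cj.mp hm]
    rw [e2] at hR2'
    have hR4 := hR.trans (Q : Set G) k (k₂ * g * k⁻¹) hR1 (by rw [e1]; exact hR3)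
    have e4 : cjs (k₂ * g * k⁻¹ * k) (Q : Set G) = (U : Set G) := by
      rw [cjs_mul, e1, e3]
    have hR5 := hR.trans (Q : Set G) _ k₂⁻¹ hR4 (by rw [e4]; exact hR2')
    have : k₂⁻¹ * (k₂ * g * k⁻¹ * k) = g := by group
    rw [this] at hR5
    exact hR5

end Cfsg.Agent.Lib.Helper33_Alperin
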