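import Cfsg.Prelude.Def_ConjugacyFunctors
import Cfsg.Prelude.Def_CaseTheorems
import Cfsg.Prelude.Def_Transfer
import Cfsg.Prelude.Def_LocalEven
import Cfsg.Agent.Lib.Helper35_FrobeniusNPC
import Cfsg.Agent.S0072
import Cfsg.Agent.S5299
import Cfsg.Agent.Lib.Helper1_Transport
import Cfsg.Agent.Lib.Helper76_PSolvable
import Cfsg.Agent.Lib.Helper33_Alperin
import Cfsg.Agent.Lib.Helper32_Sylow

/-!
Helper library (helper34): transport API for normal `p`-complements (`HasNPC`), sections
(`Cfsg.Involves`) and induced functors of isomorphism-invariant `p`-group functors.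
-/

set_option autoImplicit false
universe u

namespace Cfsg.Agent.Lib.Helper34_NPC

open Cfsg.Agent.Lib.Helper35_FrobeniusNPC

section NPC

variable {G : Type*} [Group G] {p : ℕ}

/-- normal `p`-complements pass to homomorphic images -/
theorem hasNPC_of_surjective {G' : Type*} [Group G'] [Fact p.Prime] (f : G →* G')
    (hf : Function.Surjective f) (h : HasNPC p G) : HasNPC p G' := by
  obtain ⟨K, hKn, hKc, n, hKi⟩ := h
  refine ⟨K.map f, hKn.map f hf, ?_, ?_⟩
  · have hdvd : Nat.card (K.map f) ∣ Nat.card K := Subgroup.card_map_dvd K f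
    exact Nat.Coprime.coprime_dvd_left hdvd hKc
  · have h1 : (K.map f).index ∣ K.index := Subgroup.index_map_dvd K hf
    rw [hKi] at h1
    obtain ⟨j, -, hj⟩ := (Nat.dvd_prime_pow (Fact.out : p.Prime)).mp h1
    exact ⟨j, hj⟩

theorem hasNPC_of_equiv {G' : Type*} [Group G'] [Fact p.Prime] (e : G ≃* G') (h : HasNPC p G) :
    HasNPC p G' :=
  hasNPC_of_surjective e.toMonoidHom e.surjective h

/-- a `p`-group has a normal `p`-complement -/
theorem hasNPC_of_isPGroup [Finite G] [Fact p.Prime] (h : IsPGroup p G) : HasNPC p G := by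
  obtain ⟨n, hn⟩ := h.exists_card_eq
  refine ⟨⊥, inferInstance, by simp, n, ?_⟩
  rw [Subgroup.index_bot, hn]

/-- a `p'`-group has a normal `p`-complement -/
theorem hasNPC_of_coprime (h : (Nat.card G).Coprime p) : HasNPC p G := by
  refine ⟨⊤, inferInstance, ?_, 0, by simp⟩
  rwa [Subgroup.card_top]

/-- if `G/L` has a normal `p`-complement for a normal `p'`-subgroup `L`, so does `G` -/
theorem hasNPC_of_quotient [Finite G] (L : Subgroup G) [L.Normal] (hL : (Nat.card L).Coprime p)
    (h : HasNPC p (G ⧸ L)) : HasNPC p G := by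
  obtain ⟨K, hKn, hKc, n, hKi⟩ := h
  refine ⟨K.comap (QuotientGroup.mk' L), hKn.comap _, ?_, n, ?_⟩
  · have h1 : Nat.card (K.comap (QuotientGroup.mk' L)) =
        Nat.card K * Nat.card L := by
      exact Cfsg.Agent.Lib.Helper1_Transport.card_comap_mk' L K
    rw [h1]
    exact Nat.Coprime.mul_left hKc hL
  · rw [Subgroup.index_comap_of_surjective _ (QuotientGroup.mk'_surjective L)]
    exact hKi

end NPC

/-! ### Sections -/

section Sections

open Cfsg.Agent.S5299

theorem involves_self (G : Type*) [Group G] : Cfsg.Involves G G := by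
  rw [involves_iff]
  exact ⟨⊤, (⊤ : Subgroup G).subtype, fun g => ⟨⟨g, Subgroup.mem_top g⟩, rfl⟩⟩

theorem involves_of_equiv {A B : Type*} [Group A] [Group B] {G : Type*} [Group G] (e : A ≃* B)
    (h : Cfsg.Involves A G) : Cfsg.Involves B G := by
  rw [involves_iff] at h ⊢
  obtain ⟨K, f, hf⟩ := h
  exact ⟨K, e.toMonoidHom.comp f, e.surjective.comp hf⟩

/-- a section of a subgroup is a section of the group -/
theorem involves_of_subgroup {A : Type*} [Group A] {G : Type*} [Group G] (M : Subgroup G)
    (h : Cfsg.Involves A M) : Cfsg.Involves A G :=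
  involves_of_injective M.subtype M.subtype_injective h

/-- a section of a homomorphic image is a section of the group -/
theorem involves_of_surjective {A : Type*} [Group A] {G G' : Type*} [Group G] [Group G']
    (π : G →* G') (hπ : Function.Surjective π) (h : Cfsg.Involves A G') : Cfsg.Involves A G := by
  rw [involves_iff] at h ⊢
  obtain ⟨K, f, hf⟩ := h
  refine ⟨K.comap π, f.comp (π.subgroupComap K), ?_⟩
  exact hf.comp (π.subgroupComap_surjective_of_surjective K hπ)

theorem finite_of_involves {A : Type*} [Group A] {G : Type*} [Group G] [Finite G]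
    (h : Cfsg.Involves A G) : Finite A := by
  rw [involves_iff] at h
  obtain ⟨K, f, hf⟩ := h
  exact Finite.of_surjective f hf

end Sections

/-! ### Induced functors -/

section Functor

variable {p : ℕ} (W : ∀ (Q : Type u) [Group Q], Subgroup Q)

theorem inducedFunctor_le {G : Type u} [Group G] (P : Subgroup G) :
    Cfsg.inducedFunctor W P ≤ P :=
  Subgroup.map_subtype_le _

variable {W}

theorem inducedFunctor_ne_bot (hW : Cfsg.IsCharPFunctor.{u} p W) {G : Type u} [Group G]
    {P : Subgroup G} [Finite P] (hP : IsPGroup p P) (hne : P ≠ ⊥) :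
    Cfsg.inducedFunctor W P ≠ ⊥ := by
  have hnt : Nontrivial P := (Subgroup.nontrivial_iff_ne_bot P).mpr hne
  have h1 := hW.1 P hP hnt
  intro h
  apply h1
  unfold Cfsg.inducedFunctor at h
  exact (Subgroup.map_eq_bot_iff_of_injective _ P.subtype_injective).mp h

/-- compatibility of the induced functor with homomorphisms injective on the `p`-subgroup -/
theorem inducedFunctor_map (hW : Cfsg.IsCharPFunctor.{u} p W) {G G' : Type u} [Group G]
    [Group G'] (f : G →* G') (P : Subgroup G) [Finite P] (hP : IsPGroup p P)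
    (hf : ∀ x ∈ P, f x = 1 → x = 1) :
    Cfsg.inducedFunctor W (P.map f) = (Cfsg.inducedFunctor W P).map f := by
  have hinj : Function.Injective (f.subgroupMap P) := by
    rw [injective_iff_map_eq_one]
    intro x hx
    have h1 : f (x : G) = 1 := by
      have := congrArg (fun y : P.map f => (y : G')) hx
      simpa using this
    exact Subtype.ext (hf x x.2 h1)
  let e : P ≃* P.map f :=
    MulEquiv.ofBijective (f.subgroupMap P) ⟨hinj, f.subgroupMap_surjective P⟩
  have h2 := hW.2 P (P.map f) hP e
  unfold Cfsg.inducedFunctor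
  rw [← h2, Subgroup.map_map, Subgroup.map_map]
  congr 1

theorem inducedFunctor_conj (hW : Cfsg.IsCharPFunctor.{u} p W) {G : Type u} [Group G]
    (P : Subgroup G) [Finite P] (hP : IsPGroup p P) (g : G) :
    Cfsg.inducedFunctor W (P.map (MulAut.conj g).toMonoidHom) =
      (Cfsg.inducedFunctor W P).map (MulAut.conj g).toMonoidHom :=
  inducedFunctor_map hW _ P hP (fun x _ hx => by simpa using hx)

theorem normalizer_le_normalizer_inducedFunctor (hW : Cfsg.IsCharPFunctor.{u} p W) {G : Type u}
    [Group G] (P : Subgroup G) [Finite P] (hP : IsPGroup p P) :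
    Subgroup.normalizer (P : Set G) ≤
      Subgroup.normalizer ((Cfsg.inducedFunctor W P : Subgroup G) : Set G) := by
  intro x hx
  rw [Subgroup.mem_normalizer_iff_map_conj_eq] at hx ⊢
  have h := inducedFunctor_conj hW P hP x
  have hx' : P.map (MulAut.conj x).toMonoidHom = P := hx
  rw [hx'] at h
  exact h.symm

end Functor

/-! ### The local condition and its transport -/

section Loc

open Cfsg.Agent.Lib.Helper76_PSolvable

theorem map_pCore_le {G G' : Type*} [Group G] [Group G'] [Finite G] (p : ℕ) (e : G ≃* G') :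
    (Cfsg.pCore p G).map e.toMonoidHom ≤ Cfsg.pCore p G' := by
  have hn : ((Cfsg.pCore p G).map e.toMonoidHom).Normal :=
    (Cfsg.pCore_normal p G).map e.toMonoidHom e.surjective
  have hp : IsPGroup p ((Cfsg.pCore p G).map e.toMonoidHom) := (pCore_isPGroup p).map _
  exact le_sSup ⟨hn, hp⟩

theorem pCore_map_equiv {G G' : Type*} [Group G] [Group G'] [Finite G] (p : ℕ) (e : G ≃* G') :
    (Cfsg.pCore p G).map e.toMonoidHom = Cfsg.pCore p G' := by
  have : Finite G' := Finite.of_equiv G e.toEquiv
  apply le_antisymm (map_pCore_le p e)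
  intro x hx
  have h1 : e.symm x ∈ Cfsg.pCore p G := map_pCore_le p e.symm ⟨x, hx, rfl⟩
  exact ⟨e.symm x, h1, by simp⟩

/-- the local condition of the statement, for a group `X` -/
def Loc (p : ℕ) (W : ∀ (Q : Type u) [Group Q], Subgroup Q) (X : Type u) [Group X] : Prop :=
  Subgroup.centralizer ((Cfsg.pCore p X : Subgroup X) : Set X) ≤ Cfsg.pCore p X →
  Cfsg.HasNormalPComplement p (X ⧸ Cfsg.pCore p X) →
  ∀ T : Sylow p X, IsCoatom (T : Subgroup X) →
    (Cfsg.inducedFunctor (G := X) W (T : Subgroup X)).Normal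

theorem Loc.of_equiv {p : ℕ} [Fact p.Prime] {W : ∀ (Q : Type u) [Group Q], Subgroup Q}
    (hW : Cfsg.IsCharPFunctor.{u} p W) {Q X : Type u} [Group Q] [Group X] [Finite Q]
    (e : Q ≃* X) (h : Loc p W Q) : Loc p W X := by
  intro hX1 hX2 T hT
  have hfin : Finite X := Finite.of_equiv Q e.toEquiv
  have hcore : (Cfsg.pCore p Q).map e.toMonoidHom = Cfsg.pCore p X := pCore_map_equiv p e
  have hQ1 : Subgroup.centralizer ((Cfsg.pCore p Q : Subgroup Q) : Set Q) ≤ Cfsg.pCore p Q := by
    intro c hc
    have h1 : e c ∈ Cfsg.pCore p X := by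
      apply hX1
      rw [Subgroup.mem_centralizer_iff]
      intro y hy
      rw [SetLike.mem_coe, ← hcore] at hy
      obtain ⟨z, hz, rfl⟩ := hy
      have := Subgroup.mem_centralizer_iff.mp hc z hz
      show e z * e c = e c * e z
      rw [← map_mul, ← map_mul, this]
    rw [← hcore] at h1
    obtain ⟨z, hz, hzc⟩ := h1
    have : z = c := e.injective hzc
    rwa [← this]
  have hQ2 : Cfsg.HasNormalPComplement p (Q ⧸ Cfsg.pCore p Q) := by
    rw [Cfsg.Agent.S0072.hasNPC_iff] at hX2 ⊢
    exact hasNPC_of_equiv (QuotientGroup.congr (Cfsg.pCore p Q) (Cfsg.pCore p X) e hcore).symm hX2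
  let T' : Sylow p Q := T.comapOfInjective e.toMonoidHom e.injective
    (by intro x _; exact ⟨e.symm x, by simp⟩)
  have hT'coe : (T' : Subgroup Q) = (T : Subgroup X).comap e.toMonoidHom :=
    Sylow.coe_comapOfInjective _ _ _ _
  have hT' : IsCoatom (T' : Subgroup Q) := by
    rw [hT'coe]
    exact ((MulEquiv.comapSubgroup e).isCoatom_iff (T : Subgroup X)).mpr hT
  have hn := h hQ1 hQ2 T' hT'
  have hmap : (T' : Subgroup Q).map e.toMonoidHom = (T : Subgroup X) := by
    rw [hT'coe]
    exact Subgroup.map_comap_eq_self_of_surjective e.surjective _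
  have hfun := inducedFunctor_map hW e.toMonoidHom (T' : Subgroup Q) T'.2
    (fun x _ hx => by
      have : e x = e 1 := by rw [map_one]; exact hx
      exact e.injective this)
  rw [hmap] at hfun
  rw [hfun]
  exact hn.map e.toMonoidHom e.surjective

/-- the section hypothesis: every group involved in `G` satisfies the local condition -/
def SecHyp (p : ℕ) (W : ∀ (Q : Type u) [Group Q], Subgroup Q) (G : Type u) [Group G] : Prop :=
  ∀ (X : Type u) [Group X], Cfsg.Involves X G → Loc p W X

theorem SecHyp.of_subgroup {p : ℕ} {W : ∀ (Q : Type u) [Group Q], Subgroup Q} {G : Type u}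
    [Group G] (h : SecHyp p W G) (M : Subgroup G) : SecHyp p W M :=
  fun X _ hX => h X (involves_of_subgroup M hX)

theorem SecHyp.of_surjective {p : ℕ} {W : ∀ (Q : Type u) [Group Q], Subgroup Q} {G G' : Type u}
    [Group G] [Group G'] (h : SecHyp p W G) (π : G →* G') (hπ : Function.Surjective π) :
    SecHyp p W G' :=
  fun X _ hX => h X (involves_of_surjective π hπ hX)

end Loc

/-! ### Normalizers modulo a normal `p'`-subgroup -/

section NormalizerQuotient

open Cfsg.Agent.Lib.Helper33_Conj Cfsg.Agent.Lib.Helper33_Alperin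

/-- modulo a normal `p'`-subgroup `L`, the normalizer of the image of a `p`-subgroup `X` is the
image of the normalizer of `X` -/
theorem map_normalizer_eq_of_coprime {G : Type*} [Group G] [Finite G] {p : ℕ} [Fact p.Prime]
    (L : Subgroup G) [L.Normal] (hL : (Nat.card L).Coprime p) (X : Subgroup G)
    (hX : IsPGroup p X) :
    (Subgroup.normalizer (X : Set G)).map (QuotientGroup.mk' L) =
      Subgroup.normalizer ((X.map (QuotientGroup.mk' L) : Subgroup (G ⧸ L)) : Set (G ⧸ L)) := by
  apply le_antisymm (Subgroup.le_normalizer_map _)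
  intro y hy
  obtain ⟨g, rfl⟩ := QuotientGroup.mk'_surjective L y
  have hg : g ∈ Subgroup.normalizer ((X ⊔ L : Subgroup G) : Set G) := by
    have h1 : g ∈ (Subgroup.normalizer ((X.map (QuotientGroup.mk' L) : Subgroup (G ⧸ L)) :
        Set (G ⧸ L))).comap (QuotientGroup.mk' L) := hy
    rw [Subgroup.comap_normalizer_eq_of_surjective _ (QuotientGroup.mk'_surjective L),
      Subgroup.comap_map_eq, QuotientGroup.ker_mk'] at h1
    exact h1
  have hidx : ¬ p ∣ X.relIndex (X ⊔ L) := by
    rw [← Cfsg.Agent.Lib.Helper32_Sylow.relIndex_inf_of_normal X L]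
    intro hdvd
    have h2 : p ∣ Nat.card L := hdvd.trans (Subgroup.relIndex_dvd_card _ _)
    have h3 : p ∣ Nat.gcd (Nat.card L) p := Nat.dvd_gcd h2 dvd_rfl
    rw [hL] at h3
    exact (Fact.out : p.Prime).one_lt.ne' (Nat.dvd_one.mp h3)
  have hcjle : cj g X ≤ X ⊔ L := by
    have h1 : cj g X ≤ cj g (X ⊔ L) := cj_mono le_sup_left
    rwa [mem_normalizer_iff_cj.mp hg] at h1
  obtain ⟨m, hm, hmle⟩ := exists_cj_le_of_relIndex (p := p) (le_sup_left : X ≤ X ⊔ L) hX hidx
    hcjle (isPGroup_cj hX)
  have hmg : m * g ∈ Subgroup.normalizer (X : Set G) := by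
    rw [mem_normalizer_iff_cj, cj_mul]
    apply Subgroup.eq_of_le_of_card_ge hmle
    rw [card_cj, card_cj]
  -- `π m ∈ π X`
  have hπm : QuotientGroup.mk' L m ∈ X.map (QuotientGroup.mk' L) := by
    have : (X ⊔ L).map (QuotientGroup.mk' L) = X.map (QuotientGroup.mk' L) := by
      rw [Subgroup.map_sup]
      have : L.map (QuotientGroup.mk' L) = ⊥ := by
        rw [Subgroup.map_eq_bot_iff, QuotientGroup.ker_mk']
      rw [this, sup_bot_eq]
    rw [← this]
    exact ⟨m, hm, rfl⟩
  have hπm' : QuotientGroup.mk' L m ∈ (Subgroup.normalizer (X : Set G)).map (QuotientGroup.mk' L) :=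
    Subgroup.map_mono Subgroup.le_normalizer hπm
  have hπmg : QuotientGroup.mk' L (m * g) ∈
      (Subgroup.normalizer (X : Set G)).map (QuotientGroup.mk' L) := ⟨m * g, hmg, rfl⟩
  have : QuotientGroup.mk' L g = (QuotientGroup.mk' L m)⁻¹ * QuotientGroup.mk' L (m * g) := by
    rw [map_mul]; group
  rw [this]
  exact Subgroup.mul_mem _ (Subgroup.inv_mem _ hπm') hπmg

end NormalizerQuotient

/-! ### More transport for normal `p`-complements -/

section NPC2

variable {G : Type*} [Group G] {p : ℕ} [Fact p.Prime]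

theorem hasNPC_of_injective {A : Type*} [Group A] (f : A →* G) (hf : Function.Injective f)
    (h : HasNPC p G) : HasNPC p A :=
  hasNPC_of_equiv (MonoidHom.ofInjective hf).symm (hasNPC_subgroup h f.range)

theorem hasNPC_of_eq {A B : Subgroup G} (hAB : A = B) (h : HasNPC p A) : HasNPC p B :=
  hasNPC_of_equiv (MulEquiv.subgroupCongr hAB) h

theorem hasNPC_of_le {A B : Subgroup G} (hAB : A ≤ B) (h : HasNPC p B) : HasNPC p A :=
  hasNPC_of_injective (Subgroup.inclusion hAB) (Subgroup.inclusion_injective hAB) h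

theorem hasNPC_top_iff : HasNPC p (⊤ : Subgroup G) ↔ HasNPC p G :=
  ⟨hasNPC_of_equiv Subgroup.topEquiv, hasNPC_of_equiv Subgroup.topEquiv.symm⟩

/-- the normalizer in `M` of a subgroup `X'` of `M` embeds in the normalizer in `G` of its image -/
theorem hasNPC_normalizer_of_map {M : Subgroup G} (X' : Subgroup M)
    (h : HasNPC p ↥(Subgroup.normalizer ((X'.map M.subtype : Subgroup G) : Set G))) :
    HasNPC p ↥(Subgroup.normalizer (X' : Set M)) := by
  have hle : ∀ a : ↥(Subgroup.normalizer (X' : Set M)),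
      ((a : M) : G) ∈ Subgroup.normalizer ((X'.map M.subtype : Subgroup G) : Set G) := by
    intro a
    exact Subgroup.le_normalizer_map M.subtype ⟨(a : M), a.2, rfl⟩
  let f : ↥(Subgroup.normalizer (X' : Set M)) →*
      ↥(Subgroup.normalizer ((X'.map M.subtype : Subgroup G) : Set G)) :=
    (M.subtype.comp (Subgroup.normalizer (X' : Set M)).subtype).codRestrict _ hle
  have hf : Function.Injective f := by
    intro a b hab
    have h1 : ((f a : ↥(Subgroup.normalizer ((X'.map M.subtype : Subgroup G) : Set G))) : G) =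
        ((f b : ↥(Subgroup.normalizer ((X'.map M.subtype : Subgroup G) : Set G))) : G) := by
      rw [hab]
    exact Subtype.ext (Subtype.ext h1)
  exact hasNPC_of_injective f hf h

/-- a surjective image of a normalizer -/
theorem hasNPC_map {G' : Type*} [Group G'] (f : G →* G') (A : Subgroup G) (h : HasNPC p A) :
    HasNPC p ↥(A.map f) :=
  hasNPC_of_surjective (f.subgroupMap A) (f.subgroupMap_surjective A) h

end NPC2

/-! ### `p`-parts of orders -/

section Val

variable {G : Type*} [Group G] [Finite G] {p : ℕ} [hp : Fact p.Prime]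

/-- the exponent of `p` in the order of a subgroup -/
noncomputable def vp (p : ℕ) (M : Subgroup G) : ℕ := (Nat.card M).factorization p

theorem card_le_of_isPGroup_le {P M : Subgroup G} (hP : IsPGroup p P) (hPM : P ≤ M) :
    Nat.card P ≤ p ^ vp p M := by
  obtain ⟨k, hk⟩ := hP.exists_card_eq
  rw [hk]
  have hdvd : p ^ k ∣ Nat.card M := hk ▸ Subgroup.card_dvd_of_le hPM
  have hk' : k ≤ vp p M :=
    (hp.out.pow_dvd_iff_le_factorization Nat.card_pos.ne').mp hdvd
  exact Nat.pow_le_pow_right hp.out.pos hk'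

theorem vp_mono {M M' : Subgroup G} (h : M ≤ M') : vp p M ≤ vp p M' := by
  have hdvd : p ^ vp p M ∣ Nat.card M' :=
    (Nat.ordProj_dvd (Nat.card M) p).trans (Subgroup.card_dvd_of_le h)
  exact (hp.out.pow_dvd_iff_le_factorization Nat.card_pos.ne').mp hdvd

theorem card_sylow_subgroup (M : Subgroup G) (T : Sylow p M) :
    Nat.card ((T : Subgroup M).map M.subtype : Subgroup G) = p ^ vp p M := by
  rw [Subgroup.card_map_of_injective M.subtype_injective]
  exact T.card_eq_multiplicity

end Val

end Cfsg.Agent.Lib.Helper34_NPC
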