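import Mathlib
import Cfsg.Prelude.Def_Local
import Cfsg.Agent.Lib.Helper1_Cores
-- S0634 already holds the on-demand lemma `Cfsg.upperPSeries.eq_def`; importing it keeps ONE copy
-- (two copies with different proofs collide in the checker, RULES.md).
import Cfsg.Agent.S0634

set_option autoImplicit false
open Cfsg

namespace Cfsg.Agent.Lib.Helper52_PLength

open Cfsg.Agent.Lib.Helper1_Cores

/-! ### order classes of the steps of the upper `p`-series -/

/-- order class of step `n` of the upper `p`-series: numbers prime to `p` at even positions,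
powers of `p` at odd positions -/
def StepNum (p n m : ℕ) : Prop := if Even n then m.Coprime p else ∃ a, m = p ^ a

theorem stepNum_even {p n m : ℕ} (hn : Even n) : StepNum p n m ↔ m.Coprime p := by
  unfold StepNum; simp [hn]

theorem stepNum_odd {p n m : ℕ} (hn : ¬ Even n) : StepNum p n m ↔ ∃ a, m = p ^ a := by
  unfold StepNum; simp [hn]

theorem StepNum.of_dvd {p n m m' : ℕ} (hp : p.Prime) (h : StepNum p n m) (hd : m' ∣ m) :
    StepNum p n m' := by
  by_cases hn : Even n
  · rw [stepNum_even hn] at h ⊢
    exact Nat.Coprime.coprime_dvd_left hd h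
  · rw [stepNum_odd hn] at h ⊢
    obtain ⟨a, rfl⟩ := h
    obtain ⟨b, -, hb⟩ := (Nat.dvd_prime_pow hp).mp hd
    exact ⟨b, hb⟩

theorem StepNum.one (p n : ℕ) : StepNum p n 1 := by
  by_cases hn : Even n
  · rw [stepNum_even hn]; exact Nat.coprime_one_left p
  · rw [stepNum_odd hn]; exact ⟨0, (pow_zero p).symm⟩

theorem StepNum.mul {p n a b : ℕ} (ha : StepNum p n a) (hb : StepNum p n b) :
    StepNum p n (a * b) := by
  by_cases hn : Even n
  · rw [stepNum_even hn] at ha hb ⊢
    exact Nat.Coprime.mul_left ha hb
  · rw [stepNum_odd hn] at ha hb ⊢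
    obtain ⟨x, rfl⟩ := ha
    obtain ⟨y, rfl⟩ := hb
    exact ⟨x + y, (pow_add p x y).symm⟩

theorem StepNum.congr {p n n' m : ℕ} (h : Even n ↔ Even n') (hs : StepNum p n m) :
    StepNum p n' m := by
  by_cases hn : Even n
  · rw [stepNum_even hn] at hs
    rw [stepNum_even (h.mp hn)]; exact hs
  · rw [stepNum_odd hn] at hs
    rw [stepNum_odd (fun h' => hn (h.mpr h'))]; exact hs

/-! ### the terms of the upper `p`-series -/

/-- the `n`-th term of the upper `p`-series, as a subgroup -/
abbrev U (p : ℕ) (G : Type*) [Group G] (n : ℕ) : Subgroup G := (upperPSeries p G n).1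

section basic

variable {G : Type*} [Group G] (p : ℕ)

theorem U_zero : U p G 0 = ⊥ := by
  show (upperPSeries p G 0).1 = ⊥
  rw [upperPSeries]

theorem U_succ_even (n : ℕ) (hn : Even n) :
    U p G (n + 1) = (pPrimeCore p (G ⧸ U p G n)).comap (QuotientGroup.mk' _) := by
  show (upperPSeries p G (n + 1)).1 = _
  rw [upperPSeries]
  simp only [hn, if_true]

theorem U_succ_odd (n : ℕ) (hn : ¬ Even n) :
    U p G (n + 1) = (pCore p (G ⧸ U p G n)).comap (QuotientGroup.mk' _) := by
  show (upperPSeries p G (n + 1)).1 = _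
  rw [upperPSeries]
  simp only [hn, if_false]

theorem U_le_succ (n : ℕ) : U p G n ≤ U p G (n + 1) := by
  intro x hx
  have h1 : QuotientGroup.mk' (U p G n) x = 1 := by
    rw [QuotientGroup.mk'_apply, QuotientGroup.eq_one_iff]; exact hx
  by_cases hn : Even n
  · rw [U_succ_even p n hn, Subgroup.mem_comap, h1]
    exact Subgroup.one_mem _
  · rw [U_succ_odd p n hn, Subgroup.mem_comap, h1]
    exact Subgroup.one_mem _

theorem U_mono {m n : ℕ} (hmn : m ≤ n) : U p G m ≤ U p G n := by
  induction n, hmn using Nat.le_induction with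
  | base => exact le_rfl
  | succ n _ ih => exact ih.trans (U_le_succ p n)

theorem U_eq_top_of_le {m n : ℕ} (hmn : m ≤ n) (h : U p G m = ⊤) : U p G n = ⊤ :=
  top_le_iff.mp (h ▸ U_mono p hmn)

theorem relIndex_comap_mk (N : Subgroup G) [N.Normal] (K : Subgroup (G ⧸ N)) :
    N.relIndex (K.comap (QuotientGroup.mk' N)) = Nat.card K := by
  have := Subgroup.relIndex_ker (K := K.comap (QuotientGroup.mk' N)) (QuotientGroup.mk' N)
  rw [QuotientGroup.ker_mk',
    Subgroup.map_comap_eq_self_of_surjective (QuotientGroup.mk'_surjective N)] at this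
  exact this

theorem relIndex_comap_comap_mk (N : Subgroup G) [N.Normal] (K L : Subgroup (G ⧸ N)) :
    (K.comap (QuotientGroup.mk' N)).relIndex (L.comap (QuotientGroup.mk' N)) = K.relIndex L := by
  rw [Subgroup.relIndex_comap,
    Subgroup.map_comap_eq_self_of_surjective (QuotientGroup.mk'_surjective N)]

theorem stepNum_U [Finite G] [Fact p.Prime] (n : ℕ) :
    StepNum p n ((U p G n).relIndex (U p G (n + 1))) := by
  by_cases hn : Even n
  · rw [stepNum_even hn, U_succ_even p n hn, relIndex_comap_mk]
    exact pPrimeCore_card_coprime p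
  · rw [stepNum_odd hn, U_succ_odd p n hn, relIndex_comap_mk]
    exact IsPGroup.iff_card.mp (pCore_isPGroup p)

/-- the engine: a normal subgroup `W` which is of step-`n` type over something inside `U n`
lies in `U (n+1)` -/
theorem engine [Finite G] [Fact p.Prime] (n : ℕ) (V W : Subgroup G) [W.Normal]
    (hV : V ≤ U p G n) (h : StepNum p n (V.relIndex W)) : W ≤ U p G (n + 1) := by
  have hp : p.Prime := Fact.out
  have hcard : StepNum p n (Nat.card (W.map (QuotientGroup.mk' (U p G n)))) := by
    have h1 := Subgroup.relIndex_ker (K := W) (QuotientGroup.mk' (U p G n))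
    rw [QuotientGroup.ker_mk'] at h1
    rw [← h1]
    exact h.of_dvd hp (Subgroup.relIndex_dvd_of_le_left W hV)
  have hnorm : (W.map (QuotientGroup.mk' (U p G n))).Normal :=
    Subgroup.Normal.map inferInstance _ (QuotientGroup.mk'_surjective _)
  by_cases hn : Even n
  · rw [stepNum_even hn] at hcard
    rw [U_succ_even p n hn, ← Subgroup.map_le_iff_le_comap]
    exact le_pPrimeCore hnorm hcard
  · rw [stepNum_odd hn] at hcard
    obtain ⟨a, ha⟩ := hcard
    rw [U_succ_odd p n hn, ← Subgroup.map_le_iff_le_comap]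
    exact le_pCore hnorm (IsPGroup.of_card ha)

/-- chain domination, started at position `m` -/
theorem chain_le_from [Finite G] [Fact p.Prime] (m : ℕ) (C : ℕ → Subgroup G)
    (h0 : C 0 ≤ U p G m) (hn : ∀ j, (C j).Normal)
    (hs : ∀ j, StepNum p (m + j) ((C j).relIndex (C (j + 1)))) :
    ∀ j, C j ≤ U p G (m + j) := by
  intro j
  induction j with
  | zero => exact h0
  | succ j ih =>
    have := hn (j + 1)
    exact engine p (m + j) (C j) (C (j + 1)) ih (hs j)

/-- chain domination -/
theorem chain_le [Finite G] [Fact p.Prime] (C : ℕ → Subgroup G)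
    (h0 : C 0 = ⊥) (hn : ∀ j, (C j).Normal)
    (hs : ∀ j, StepNum p j ((C j).relIndex (C (j + 1)))) :
    ∀ j, C j ≤ U p G j := by
  intro j
  have := chain_le_from p 0 C (by rw [h0]; exact bot_le) hn (by simpa using hs) j
  simpa using this

end basic

section closure

variable {G : Type*} [Group G] (p : ℕ)

theorem relIndex_map_map_dvd {H : Type*} [Group H] (f : G →* H) (A B : Subgroup G) :
    (A.map f).relIndex (B.map f) ∣ A.relIndex B := by
  rw [← Subgroup.relIndex_comap]
  exact Subgroup.relIndex_dvd_of_le_left B (Subgroup.le_comap_map f A)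

theorem relIndex_subgroupOf_dvd (N A B : Subgroup G) [A.Normal] :
    (A.subgroupOf N).relIndex (B.subgroupOf N) ∣ A.relIndex B := by
  have h1 : (A.subgroupOf N).relIndex (B.subgroupOf N) = A.relIndex (B ⊓ N) := by
    show (A.comap N.subtype).relIndex (B.comap N.subtype) = _
    rw [Subgroup.relIndex_comap, Subgroup.map_comap_eq, Subgroup.range_subtype, inf_comm]
  rw [h1]
  have h2 : (A.subgroupOf B).relIndex ((B ⊓ N).subgroupOf B) = A.relIndex (B ⊓ N) :=
    Subgroup.relIndex_subgroupOf inf_le_left
  rw [← h2]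
  have hn : (A.subgroupOf B).Normal := Subgroup.Normal.subgroupOf inferInstance B
  have h3 : (A.subgroupOf B).index = A.relIndex B := rfl
  rw [← h3]
  exact Subgroup.relIndex_dvd_index_of_normal (H := A.subgroupOf B) (K := (B ⊓ N).subgroupOf B)

/-- surjective homomorphisms map the upper `p`-series into the upper `p`-series -/
theorem map_U_le {H : Type*} [Group H] [Finite G] [Fact p.Prime] (f : G →* H)
    (hf : Function.Surjective f) (n : ℕ) : (U p G n).map f ≤ U p H n := by
  have hp : p.Prime := Fact.out
  have : Finite H := Finite.of_surjective f hf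
  refine chain_le p (fun j => (U p G j).map f) ?_ ?_ ?_ n
  · show (U p G 0).map f = ⊥
    rw [U_zero, Subgroup.map_bot]
  · intro j
    exact Subgroup.Normal.map inferInstance f hf
  · intro j
    exact (stepNum_U p j).of_dvd hp (relIndex_map_map_dvd f _ _)

/-- the upper `p`-series of a subgroup dominates the trace of the upper `p`-series -/
theorem U_subgroupOf_le [Finite G] [Fact p.Prime] (N : Subgroup G) (n : ℕ) :
    (U p G n).subgroupOf N ≤ U p N n := by
  have hp : p.Prime := Fact.out
  refine chain_le p (fun j => (U p G j).subgroupOf N) ?_ ?_ ?_ n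
  · show (U p G 0).subgroupOf N = ⊥
    rw [U_zero, Subgroup.bot_subgroupOf]
  · intro j
    exact Subgroup.Normal.subgroupOf inferInstance N
  · intro j
    exact (stepNum_U p j).of_dvd hp (relIndex_subgroupOf_dvd N _ _)

/-- isomorphisms preserve the upper `p`-series -/
theorem map_U_equiv {H : Type*} [Group H] [Finite G] [Fact p.Prime] (e : G ≃* H) (n : ℕ) :
    (U p G n).map e.toMonoidHom = U p H n := by
  have : Finite H := Finite.of_surjective e e.surjective
  apply le_antisymm (map_U_le p e.toMonoidHom e.surjective n)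
  have h := map_U_le p e.symm.toMonoidHom e.symm.surjective n
  intro x hx
  have h2 := h (Subgroup.mem_map_of_mem _ hx)
  refine ⟨e.symm x, h2, ?_⟩
  simp

/-- the terms of the upper `p`-series of a normal subgroup are normal in the whole group -/
theorem map_subtype_U_normal [Finite G] [Fact p.Prime] (N : Subgroup G) [hN : N.Normal] (n : ℕ) :
    ((U p N n).map N.subtype).Normal := by
  constructor
  rintro x ⟨y, hy, rfl⟩ g
  have h := map_U_le p (MulAut.conjNormal g : N ≃* N).toMonoidHom
    (MulAut.conjNormal g : N ≃* N).surjective n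
  have h2 := h (Subgroup.mem_map_of_mem _ hy)
  refine ⟨_, h2, ?_⟩
  simp [MulAut.conjNormal_apply]

/-- the upper `p`-series of a normal subgroup lies in the upper `p`-series of the group -/
theorem map_subtype_U_le [Finite G] [Fact p.Prime] (N : Subgroup G) [hN : N.Normal] (n : ℕ) :
    (U p N n).map N.subtype ≤ U p G n := by
  refine chain_le p (fun j => (U p N j).map N.subtype) ?_ ?_ ?_ n
  · show (U p N 0).map N.subtype = ⊥
    rw [U_zero, Subgroup.map_bot]
  · intro j
    exact map_subtype_U_normal p N j
  · intro j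
    show StepNum p j (((U p N j).map N.subtype).relIndex ((U p N (j + 1)).map N.subtype))
    rw [Subgroup.relIndex_map_map_of_injective _ _ (Subgroup.subtype_injective N)]
    exact stepNum_U p j

/-- if `N ≤ U m` with `m` even, the preimage of the upper series of `G ⧸ N` is dominated
by the upper series of `G` shifted by `m` -/
theorem comap_U_quotient_le [Finite G] [Fact p.Prime] (N : Subgroup G) [N.Normal] (m : ℕ)
    (hm : Even m) (hN : N ≤ U p G m) (j : ℕ) :
    (U p (G ⧸ N) j).comap (QuotientGroup.mk' N) ≤ U p G (m + j) := by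
  refine chain_le_from p m (fun j => (U p (G ⧸ N) j).comap (QuotientGroup.mk' N)) ?_ ?_ ?_ j
  · show (U p (G ⧸ N) 0).comap (QuotientGroup.mk' N) ≤ _
    rw [U_zero, MonoidHom.comap_bot, QuotientGroup.ker_mk']
    exact hN
  · intro j
    exact Subgroup.Normal.comap inferInstance _
  · intro j
    show StepNum p (m + j) (((U p (G ⧸ N) j).comap (QuotientGroup.mk' N)).relIndex
      ((U p (G ⧸ N) (j + 1)).comap (QuotientGroup.mk' N)))
    rw [relIndex_comap_comap_mk]
    refine (stepNum_U p j).congr ?_
    rw [Nat.even_add]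
    simp [hm]

/-- the image of the upper series in `G ⧸ U m`, `m` even, is dominated by the upper series
of the quotient -/
theorem map_U_add_le [Finite G] [Fact p.Prime] (m : ℕ) (hm : Even m) (j : ℕ) :
    (U p G (m + j)).map (QuotientGroup.mk' (U p G m)) ≤ U p (G ⧸ U p G m) j := by
  have hp : p.Prime := Fact.out
  refine chain_le p (fun j => (U p G (m + j)).map (QuotientGroup.mk' (U p G m))) ?_ ?_ ?_ j
  · show (U p G (m + 0)).map (QuotientGroup.mk' (U p G m)) = ⊥
    rw [add_zero, ← le_bot_iff, Subgroup.map_le_iff_le_comap, MonoidHom.comap_bot,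
      QuotientGroup.ker_mk']
  · intro j
    exact Subgroup.Normal.map inferInstance _ (QuotientGroup.mk'_surjective _)
  · intro j
    have h1 : StepNum p j ((U p G (m + j)).relIndex (U p G (m + j + 1))) := by
      refine (stepNum_U p (m + j)).congr ?_
      rw [Nat.even_add]
      simp [hm]
    exact h1.of_dvd hp (relIndex_map_map_dvd _ _ _)

/-- extension: if `N` is normal with `U (2a+1) N = ⊤`, the preimage of `U (j+1) (G ⧸ N)` lies in
`U (2a+1+j) G` -/
theorem comap_U_quotient_le_of_top [Finite G] [Fact p.Prime] (N : Subgroup G) [N.Normal] (a : ℕ)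
    (hN : U p N (2 * a + 1) = ⊤) (j : ℕ) :
    (U p (G ⧸ N) (j + 1)).comap (QuotientGroup.mk' N) ≤ U p G (2 * a + 1 + j) := by
  have hp : p.Prime := Fact.out
  have h2a : Even (2 * a) := even_two_mul a
  refine chain_le_from p (2 * a + 1)
    (fun j => (U p (G ⧸ N) (j + 1)).comap (QuotientGroup.mk' N)) ?_ ?_ ?_ j
  · show (U p (G ⧸ N) (0 + 1)).comap (QuotientGroup.mk' N) ≤ _
    have : ((U p (G ⧸ N) (0 + 1)).comap (QuotientGroup.mk' N)).Normal :=
      Subgroup.Normal.comap inferInstance _
    refine engine p (2 * a) ((U p N (2 * a)).map N.subtype) _ (map_subtype_U_le p N (2 * a)) ?_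
    -- the index is a product of two numbers prime to `p`
    have hle1 : (U p N (2 * a)).map N.subtype ≤ N := by
      rintro x ⟨y, -, rfl⟩
      exact y.2
    have hle2 : N ≤ (U p (G ⧸ N) (0 + 1)).comap (QuotientGroup.mk' N) := by
      have : (QuotientGroup.mk' N).ker ≤ (U p (G ⧸ N) (0 + 1)).comap (QuotientGroup.mk' N) :=
        Subgroup.ker_le_comap _ _
      rwa [QuotientGroup.ker_mk'] at this
    rw [← Subgroup.relIndex_mul_relIndex _ _ _ hle1 hle2]
    apply StepNum.mul
    · have h1 : N = (U p N (2 * a + 1)).map N.subtype := by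
        rw [hN, ← MonoidHom.range_eq_map, Subgroup.range_subtype]
      have h4 : ((U p N (2 * a)).map N.subtype).relIndex ((U p N (2 * a + 1)).map N.subtype) =
          (U p N (2 * a)).relIndex (U p N (2 * a + 1)) :=
        Subgroup.relIndex_map_map_of_injective _ _ (Subgroup.subtype_injective N)
      rw [← h1] at h4
      rw [h4]
      exact stepNum_U p (2 * a)
    · rw [relIndex_comap_mk]
      have h3 := stepNum_U (G := G ⧸ N) p 0
      rw [U_zero, Subgroup.relIndex_bot_left] at h3
      exact h3.congr (by simp)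
  · intro j
    exact Subgroup.Normal.comap inferInstance _
  · intro j
    show StepNum p (2 * a + 1 + j) (((U p (G ⧸ N) (j + 1)).comap (QuotientGroup.mk' N)).relIndex
      ((U p (G ⧸ N) (j + 1 + 1)).comap (QuotientGroup.mk' N)))
    rw [relIndex_comap_comap_mk]
    refine (stepNum_U p (j + 1)).congr ?_
    simp only [Nat.even_iff]
    omega

end closure

/-! ### `PLengthLE` -/

section plength

variable {G : Type*} [Group G] (p : ℕ)

theorem plengthLE_iff (k : ℕ) : PLengthLE p k G ↔ U p G (2 * k + 1) = ⊤ := Iff.rfl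

theorem PLengthLE.mono {p k k' : ℕ} (hk : k ≤ k') (h : PLengthLE p k G) : PLengthLE p k' G :=
  U_eq_top_of_le p (by omega) h

theorem PLengthLE.of_surjective {H : Type*} [Group H] [Finite G] {p k : ℕ} [Fact p.Prime]
    (f : G →* H) (hf : Function.Surjective f) (h : PLengthLE p k G) : PLengthLE p k H := by
  rw [plengthLE_iff] at h ⊢
  have := map_U_le p f hf (2 * k + 1)
  rw [h, ← MonoidHom.range_eq_map, MonoidHom.range_eq_top.mpr hf] at this
  exact top_le_iff.mp this

theorem PLengthLE.of_equiv {H : Type*} [Group H] [Finite G] {p k : ℕ} [Fact p.Prime]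
    (e : G ≃* H) (h : PLengthLE p k G) : PLengthLE p k H :=
  PLengthLE.of_surjective e.toMonoidHom e.surjective h

theorem PLengthLE.quotient [Finite G] {p k : ℕ} [Fact p.Prime]
    (N : Subgroup G) [N.Normal] (h : PLengthLE p k G) : PLengthLE p k (G ⧸ N) :=
  PLengthLE.of_surjective (QuotientGroup.mk' N) (QuotientGroup.mk'_surjective N) h

theorem PLengthLE.subgroup [Finite G] {p k : ℕ} [Fact p.Prime]
    (N : Subgroup G) (h : PLengthLE p k G) : PLengthLE p k N := by
  rw [plengthLE_iff] at h ⊢
  have := U_subgroupOf_le p N (2 * k + 1)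
  rw [h, Subgroup.top_subgroupOf] at this
  exact top_le_iff.mp this

/-- `p`-length is subadditive in extensions -/
theorem PLengthLE.ext [Finite G] {p a b : ℕ} [Fact p.Prime]
    (N : Subgroup G) [N.Normal] (hN : PLengthLE p a N) (hQ : PLengthLE p b (G ⧸ N)) :
    PLengthLE p (a + b) G := by
  rw [plengthLE_iff] at hN hQ ⊢
  have h := comap_U_quotient_le_of_top p N a hN (2 * b)
  rw [hQ, Subgroup.comap_top] at h
  have : 2 * a + 1 + 2 * b = 2 * (a + b) + 1 := by ring
  rw [this] at h
  exact top_le_iff.mp h

theorem plengthLE_zero_iff [Finite G] : PLengthLE p 0 G ↔ (Nat.card G).Coprime p := by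
  rw [plengthLE_iff]
  show U p G (0 + 1) = ⊤ ↔ _
  rw [U_succ_even p 0 Even.zero]
  constructor
  · intro h
    have h1 : pPrimeCore p (G ⧸ U p G 0) = ⊤ := by
      rw [← Subgroup.map_comap_eq_self_of_surjective (QuotientGroup.mk'_surjective _)
        (pPrimeCore p (G ⧸ U p G 0)), h, ← MonoidHom.range_eq_map,
        MonoidHom.range_eq_top.mpr (QuotientGroup.mk'_surjective _)]
    have h2 : (Nat.card (G ⧸ U p G 0)).Coprime p := by
      have := pPrimeCore_card_coprime (G := G ⧸ U p G 0) p
      rwa [h1, Subgroup.card_top] at this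
    have h3 : Nat.card G = Nat.card (G ⧸ U p G 0) * Nat.card (U p G 0) :=
      Subgroup.card_eq_card_quotient_mul_card_subgroup _
    have h4 : Nat.card (U p G 0) = 1 := by
      rw [U_zero]; exact Subgroup.card_bot
    rw [h3, h4, mul_one]
    exact h2
  · intro h
    rw [eq_top_iff, ← Subgroup.map_le_iff_le_comap]
    apply le_pPrimeCore (Subgroup.Normal.map inferInstance _ (QuotientGroup.mk'_surjective _))
    exact Nat.Coprime.coprime_dvd_left
      ((Subgroup.card_map_dvd _ _).trans (Subgroup.card_dvd_of_le le_top |>.trans (by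
        rw [Subgroup.card_top]))) h

/-- a `p`-group has `p`-length at most one -/
theorem plengthLE_one_of_isPGroup [Finite G] [Fact p.Prime] (h : IsPGroup p G) :
    PLengthLE p 1 G := by
  rw [plengthLE_iff]
  have h1 : (⊤ : Subgroup G) ≤ U p G (1 + 1) := by
    have : (⊤ : Subgroup G).Normal := inferInstance
    refine engine p 1 ⊥ ⊤ bot_le ?_
    rw [stepNum_odd (by decide), Subgroup.relIndex_bot_left, Subgroup.card_top]
    exact IsPGroup.iff_card.mp h
  exact U_eq_top_of_le p (by omega) (top_le_iff.mp h1)

/-- shifting the upper series past `O_{p',p}` lowers the `p`-length -/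
theorem PLengthLE.quotient_U_two [Finite G] {p k : ℕ} [Fact p.Prime] (h : PLengthLE p (k + 1) G) :
    PLengthLE p k (G ⧸ U p G 2) := by
  rw [plengthLE_iff] at h ⊢
  have h1 := map_U_add_le (G := G) p 2 (by decide) (2 * k + 1)
  have : 2 + (2 * k + 1) = 2 * (k + 1) + 1 := by ring
  rw [this, h, ← MonoidHom.range_eq_map,
    MonoidHom.range_eq_top.mpr (QuotientGroup.mk'_surjective _)] at h1
  exact top_le_iff.mp h1

end plength

end Cfsg.Agent.Lib.Helper52_PLength
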