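import Mathlib
import Cfsg.Prelude.Def_Local
import Cfsg.Prelude.Def_OddOrderLocal
import Cfsg.Agent.Lib.Helper52_PLength
import Cfsg.Agent.S1450
import Cfsg.Agent.Lib.Helper49_Alpha3

set_option autoImplicit false
open Cfsg

namespace Cfsg.Agent.Lib.Helper70_BG106

open Cfsg.Agent.Lib.Helper52_PLength
open scoped Pointwise commutatorElement

section General

variable {X : Type*} [Group X]

/-- If the normal subgroup `K` lies in the derived group of the solvable group `X = K R` and the orders of
`K` and `R` are coprime, then `K = [K, R]`. -/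
theorem eq_commutator_of_le_derived [Finite X] [Group.IsSolvable X] (K R : Subgroup X) [K.Normal]
    (hKR : K ⊔ R = ⊤) (hcop : (Nat.card K).Coprime (Nat.card R))
    (hK : K ≤ _root_.commutator X) : K = ⁅K, R⁆ := by
  have hN : (⁅K, R⁆).Normal := by
    rw [← Subgroup.normalizer_eq_top_iff, eq_top_iff, ← hKR]
    exact sup_le (Subgroup.normalizer_commutator_ge_left K R) (Subgroup.normalizer_commutator_ge_right K R)
  apply le_antisymm _ (Subgroup.commutator_le_left K R)
  set π := QuotientGroup.mk' ⁅K, R⁆ with hπ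
  have hπs : Function.Surjective π := QuotientGroup.mk'_surjective _
  have h1 : ⁅K.map π, R.map π⁆ = ⊥ := by
    rw [← Subgroup.map_commutator, Subgroup.map_eq_bot_iff, hπ, QuotientGroup.ker_mk']
  have h2 : K.map π ⊔ R.map π = ⊤ := by
    rw [← Subgroup.map_sup, hKR, ← MonoidHom.range_eq_map, MonoidHom.range_eq_top.mpr hπs]
  have h3 : K.map π ≤ _root_.commutator (X ⧸ ⁅K, R⁆) := by
    have : (_root_.commutator X).map π = _root_.commutator (X ⧸ ⁅K, R⁆) := by
      rw [commutator_def, commutator_def, Subgroup.map_commutator, ← MonoidHom.range_eq_map,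
        MonoidHom.range_eq_top.mpr hπs]
    rw [← this]
    exact Subgroup.map_mono hK
  have h4 : K.map π ⊓ R.map π = ⊥ := by
    apply (Subgroup.disjoint_of_coprime_natCard ?_).eq_bot
    exact Nat.Coprime.coprime_dvd_left (Subgroup.card_map_dvd _ _)
      (Nat.Coprime.coprime_dvd_right (Subgroup.card_map_dvd _ _) hcop)
  -- R̄ is normal
  have hRn : (R.map π).Normal := by
    rw [← Subgroup.normalizer_eq_top_iff, eq_top_iff, ← h2]
    refine sup_le ?_ Subgroup.le_normalizer
    exact (Subgroup.commutator_eq_bot_iff_le_centralizer.mp h1).trans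
      (Subgroup.centralizer_le_normalizer _)
  set π₂ := QuotientGroup.mk' (R.map π) with hπ₂
  have hπ₂s : Function.Surjective π₂ := QuotientGroup.mk'_surjective _
  have h5 : _root_.commutator ((X ⧸ ⁅K, R⁆) ⧸ R.map π) = ⊤ := by
    have e : (_root_.commutator (X ⧸ ⁅K, R⁆)).map π₂ = _root_.commutator ((X ⧸ ⁅K, R⁆) ⧸ R.map π) := by
      rw [commutator_def, commutator_def, Subgroup.map_commutator, ← MonoidHom.range_eq_map,
        MonoidHom.range_eq_top.mpr hπ₂s]
    rw [eq_top_iff, ← e]
    have e2 : (⊤ : Subgroup ((X ⧸ ⁅K, R⁆) ⧸ R.map π)) = (K.map π).map π₂ := by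
      have : (R.map π).map π₂ = ⊥ := by
        rw [Subgroup.map_eq_bot_iff, hπ₂, QuotientGroup.ker_mk']
      rw [← sup_bot_eq (a := (K.map π).map π₂), ← this, ← Subgroup.map_sup, h2,
        ← MonoidHom.range_eq_map, MonoidHom.range_eq_top.mpr hπ₂s]
    rw [e2]
    exact Subgroup.map_mono h3
  have h6 : R.map π = ⊤ := by
    by_contra hne
    have : Nontrivial ((X ⧸ ⁅K, R⁆) ⧸ R.map π) := by
      rw [← not_subsingleton_iff_nontrivial]
      intro hs
      exact hne (QuotientGroup.subgroup_eq_top_of_subsingleton _ hs)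
    exact (Group.IsSolvable.commutator_lt_top_of_nontrivial ((X ⧸ ⁅K, R⁆) ⧸ R.map π)).ne h5
  have h7 : K.map π = ⊥ := by
    rw [← h4, h6, inf_top_eq]
  rw [Subgroup.map_eq_bot_iff, hπ, QuotientGroup.ker_mk'] at h7
  exact h7

end General

section PLen

variable {M : Type*} [Group M] [Finite M] {p : ℕ} [Fact p.Prime]

/-- a normal series `1 ≤ K ≤ L ≤ M` with factors `p'`, `p`, `p'` gives `p`-length at most one -/
theorem plen_one_of_data (K L : Subgroup M) [K.Normal] [L.Normal]
    (hK : (Nat.card K).Coprime p) (hKL' : ∃ a, K.relIndex L = p ^ a) (hL : L.index.Coprime p) :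
    PLengthLE p 1 M := by
  rw [plengthLE_iff]
  let C : ℕ → Subgroup M := fun j => if j = 0 then ⊥ else if j = 1 then K else if j = 2 then L else ⊤
  have h := chain_le (G := M) p C (by simp [C]) ?_ ?_ 3
  · have : C 3 = ⊤ := by simp [C]
    rw [this] at h
    exact top_le_iff.mp h
  · intro j
    by_cases h0 : j = 0
    · simp only [C, h0, if_true]; infer_instance
    by_cases h1 : j = 1
    · simp only [C, h1, if_true]; simp; infer_instance
    by_cases h2 : j = 2
    · simp only [C, h2, if_true]; simp; infer_instance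
    · simp only [C, h0, h1, h2, if_false]; infer_instance
  · intro j
    by_cases h0 : j = 0
    · subst h0
      have : C 0 = ⊥ := by simp [C]
      have h1 : C (0 + 1) = K := by simp [C]
      rw [this, h1, Subgroup.relIndex_bot_left, stepNum_even (by decide)]
      exact hK
    by_cases h1 : j = 1
    · subst h1
      have : C 1 = K := by simp [C]
      have h1 : C (1 + 1) = L := by simp [C]
      rw [this, h1, stepNum_odd (by decide)]
      exact hKL'
    by_cases h2 : j = 2
    · subst h2
      have : C 2 = L := by simp [C]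
      have h1 : C (2 + 1) = ⊤ := by simp [C]
      rw [this, h1, stepNum_even (by decide), Subgroup.relIndex_top_right]
      exact hL
    · have : C j = ⊤ := by simp [C, h0, h1, h2]
      have h1 : C (j + 1) = ⊤ := by
        simp only [C]
        rw [if_neg (by omega), if_neg (by omega), if_neg (by omega)]
      rw [this, h1, Subgroup.relIndex_top_left]
      exact StepNum.one p j

/-- BG 4.18-type: solvable of odd order and `p`-rank at most two gives `p`-length at most one -/
theorem plen_one_of_rank_two [Group.IsSolvable M] (hodd : Odd (Nat.card M)) (hr : Cfsg.PRankLE p 2 M) :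
    PLengthLE p 1 M := by
  by_cases hpM : p ∣ Nat.card M
  · obtain ⟨-, -, -, -, -, hidx⟩ := Cfsg.Agent.S1450.result hodd p hpM hr
    have hLn : (pPrimePCore p M).Normal := by
      unfold pPrimePCore
      infer_instance
    refine plen_one_of_data (pPrimeCore p M) (pPrimePCore p M)
      (Cfsg.Agent.Lib.Helper1_Cores.pPrimeCore_card_coprime p) ?_ hidx
    unfold pPrimePCore
    rw [relIndex_comap_mk]
    exact IsPGroup.iff_card.mp (Cfsg.Agent.Lib.Helper1_Cores.pCore_isPGroup p)
  · have hp : p.Prime := Fact.out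
    have h0 : PLengthLE p 0 M := by
      rw [plengthLE_zero_iff]
      exact (Nat.Prime.coprime_iff_not_dvd hp).mpr hpM |>.symm
    exact PLengthLE.mono (by norm_num) h0

end PLen

section Main

universe u

variable {G : Type u} [Group G] [Finite G]

open Cfsg.Agent.Lib.Helper49_Sigma Cfsg.Agent.Lib.Helper49_Alpha Cfsg.Agent.Lib.Helper49_Alpha3

/-- the statement of S1444 (Bender–Glauberman, Theorem 3.?), as a hypothesis -/
def H1444 : Prop :=
  ∀ (X : Type u) [Group X] [Finite X] [Group.IsSolvable X] (_ : Odd (Nat.card X)) (H R R₀ : Subgroup X)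
    [H.Normal] (_ : (Nat.card H).Coprime H.index) (_ : Subgroup.IsComplement' H R) (_ : R₀ ≤ R)
    (_ : (Nat.card R₀).Prime) (_ : IsZGroup ↥(H ⊓ Subgroup.centralizer (R₀ : Set X)))
    (p : ℕ) [Fact p.Prime], Cfsg.PLengthLE p 1 ↥⁅H, R⁆

omit [Finite G] in
theorem le_of_coprime_index {X : Type*} [Group X] [Finite X] (A N : Subgroup X) [N.Normal]
    (h : (Nat.card A).Coprime N.index) : A ≤ N := by
  intro x hx
  have h1 : orderOf (QuotientGroup.mk' N x) ∣ Nat.card (X ⧸ N) := orderOf_dvd_natCard _
  have h2 : orderOf (QuotientGroup.mk' N x) ∣ orderOf x := orderOf_map_dvd _ x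
  have h3 : orderOf x ∣ Nat.card A := by
    have := orderOf_dvd_natCard (⟨x, hx⟩ : A)
    rwa [Subgroup.orderOf_mk] at this
  have h4 : (orderOf (QuotientGroup.mk' N x)).Coprime (orderOf (QuotientGroup.mk' N x)) := by
    apply Nat.Coprime.coprime_dvd_left (h2.trans h3)
    apply Nat.Coprime.coprime_dvd_right h1
    have : Nat.card (X ⧸ N) = N.index := rfl
    rw [this]
    exact h
  rw [Nat.coprime_self, orderOf_eq_one_iff] at h4
  rwa [QuotientGroup.mk'_apply, QuotientGroup.eq_one_iff] at h4

/-- **Bender–Glauberman, Theorem 10.6** for a maximal subgroup -/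
theorem plen_one_coatom (hG : IsMinSimpleOddOrder G) (hU : UniqHyp G) (h44 : H1444.{u})
    (M : Subgroup G) (hM : IsCoatom M) (p : ℕ) [Fact p.Prime] : PLengthLE p 1 ↥M := by
  have hsolv : Group.IsSolvable ↥M := hG.2.2.2 M hM.1
  have hodd : Odd (Nat.card ↥M) := Odd.of_dvd_nat hG.1 (Subgroup.card_subgroup_dvd_card M)
  by_cases hr : PRankLE p 2 ↥M
  · exact plen_one_of_rank_two hodd hr
  have hpp : p.Prime := Fact.out
  have hpα : p ∈ alpha M := ⟨hpp, hr⟩
  set K : Subgroup ↥M := piCore (alpha M) ↥M with hKdef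
  have h1 : ∀ q : ℕ, q.Prime → q ∉ alpha M → PRankLE q 2 ↥M := by
    intro q hq hqα
    by_contra h
    exact hqα ⟨hq, h⟩
  have h2 : ∀ q : ℕ, q ∈ alpha M → ∀ [Fact q.Prime] (P : Sylow q ↥M),
      (P : Subgroup ↥M) ≤ _root_.commutator ↥M := by
    intro q hqα _ P
    exact sylow_le_commutator hG hU hM (mem_sigma_of_mem_alpha hG hU hM hqα) P
  have hidx : ∀ q : ℕ, q.Prime → q ∈ alpha M → ¬ q ∣ K.index := fun q hq hqα =>
    not_dvd_index_piCore (alpha M) hodd h1 h2 hq hqα
  have hcardK : ∀ q : ℕ, q.Prime → q ∣ Nat.card K → q ∈ alpha M :=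
    Cfsg.Agent.Lib.Helper32_Cores.card_piCore (alpha M)
  have hcop : (Nat.card K).Coprime K.index :=
    Nat.coprime_of_dvd (fun q hq hd hd' => hidx q hq (hcardK q hq hd) hd')
  -- the Sylow subgroups for the primes in σ(M) lie in M'
  have hσidx : ∀ q : ℕ, q ∈ sigma M → ¬ q ∣ (_root_.commutator ↥M).index := by
    intro q hqσ hdvd
    have : Fact q.Prime := ⟨hqσ.1⟩
    obtain ⟨Q⟩ : Nonempty (Sylow q ↥M) := inferInstance
    have hle := sylow_le_commutator hG hU hM hqσ Q
    exact Q.not_dvd_index (hdvd.trans (Subgroup.index_dvd_of_le hle))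
  -- K ≤ M'
  have hKle : K ≤ _root_.commutator ↥M := by
    apply le_of_coprime_index
    apply Nat.coprime_of_dvd
    intro q hq hd hd'
    exact hσidx q (mem_sigma_of_mem_alpha hG hU hM (hcardK q hq hd)) hd'
  -- M is nontrivial
  have hnt : Nontrivial ↥M := by
    rw [← not_subsingleton_iff_nontrivial]
    intro hs
    apply hr
    intro B _ _
    have : Nat.card ↥B = 1 := Nat.card_unique
    rw [this]
    exact Nat.one_le_pow _ _ hpp.pos
  -- a prime `q` dividing `|M : M'|`
  have hlt := Group.IsSolvable.commutator_lt_top_of_nontrivial ↥M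
  have hne1 : (_root_.commutator ↥M).index ≠ 1 := by
    intro h
    exact hlt.ne (Subgroup.index_eq_one.mp h)
  obtain ⟨q, hq, hqdvd⟩ := Nat.exists_prime_and_dvd hne1
  have : Fact q.Prime := ⟨hq⟩
  have hqσ : q ∉ sigma M := fun h => hσidx q h hqdvd
  have hqα : q ∉ alpha M := fun h => hqσ (mem_sigma_of_mem_alpha hG hU hM h)
  have hqM : q ∣ Nat.card ↥M := hqdvd.trans (Subgroup.index_dvd_card _)
  have hqK : ¬ q ∣ Nat.card K := fun h => hqα (hcardK q hq h)
  -- the complement
  obtain ⟨R, hR⟩ := Subgroup.exists_right_complement'_of_coprime hcop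
  have hcopKR : (Nat.card K).Coprime (Nat.card R) := by
    rw [← hR.symm.index_eq_card]; exact hcop
  -- a Sylow `q`-subgroup of `M` inside `R`
  obtain ⟨Q₀⟩ : Nonempty (Sylow q ↥R) := inferInstance
  have hQ₁card : Nat.card ↥((Q₀ : Subgroup ↥R).map R.subtype) =
      q ^ (Nat.card ↥M).factorization q := by
    rw [Subgroup.card_map_of_injective R.subtype_injective, Sylow.card_eq_multiplicity]
    congr 1
    rw [← hR.card_mul_card, Nat.factorization_mul Nat.card_pos.ne' Nat.card_pos.ne',
      Finsupp.add_apply, Nat.factorization_eq_zero_of_not_dvd hqK, zero_add]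
  set P : Sylow q ↥M := Sylow.ofCard _ hQ₁card with hPdef
  have hPR : (P : Subgroup ↥M) ≤ R := by
    rw [hPdef, Sylow.coe_ofCard]
    exact Subgroup.map_subtype_le _
  obtain ⟨x, hxmem, hxord, hxZ, -⟩ := lemma104_statement hG hU M hM hqM hqσ P
  obtain ⟨y, hy, rfl⟩ := hxmem
  obtain ⟨z, -, rfl⟩ := hy
  have hzR : ((P : Subgroup ↥M).subtype z) ∈ R := hPR z.2
  set y : ↥M := (P : Subgroup ↥M).subtype z with hydef
  have hyord : orderOf y = q := by
    rw [← hxord]
    exact (Subgroup.orderOf_coe y).symm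
  have hR₀ : Subgroup.zpowers y ≤ R := by
    rw [Subgroup.zpowers_le]; exact hzR
  have hR₀p : (Nat.card ↥(Subgroup.zpowers y)).Prime := by
    rw [Nat.card_zpowers, hyord]; exact hq
  have hZ : IsZGroup ↥(K ⊓ Subgroup.centralizer ((Subgroup.zpowers y : Subgroup ↥M) : Set ↥M)) := by
    have hmem : ∀ w : ↥(K ⊓ Subgroup.centralizer ((Subgroup.zpowers y : Subgroup ↥M) : Set ↥M)),
        (M.subtype.comp (Subgroup.subtype _)) w ∈
          alphaCore M ⊓ Subgroup.centralizer ({M.subtype y} : Set G) := by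
      intro w
      refine Subgroup.mem_inf.mpr ⟨⟨w.1, w.2.1, rfl⟩, ?_⟩
      rw [Subgroup.mem_centralizer_iff]
      intro g hg
      rw [Set.mem_singleton_iff] at hg
      subst hg
      have := Subgroup.mem_centralizer_iff.mp w.2.2 y (Subgroup.mem_zpowers y)
      exact congrArg M.subtype this
    let f : ↥(K ⊓ Subgroup.centralizer ((Subgroup.zpowers y : Subgroup ↥M) : Set ↥M)) →*
        ↥(alphaCore M ⊓ Subgroup.centralizer ({M.subtype y} : Set G)) :=
      (M.subtype.comp (Subgroup.subtype _)).codRestrict _ hmem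
    have hf : Function.Injective f := by
      intro a b hab
      have := congrArg Subtype.val hab
      exact Subtype.ext (Subtype.ext this)
    exact IsZGroup.of_injective (f := f) hf
  have h44' := h44 ↥M hodd K R (Subgroup.zpowers y) hcop hR hR₀ hR₀p hZ p
  have hKeq : K = ⁅K, R⁆ := eq_commutator_of_le_derived K R hR.sup_eq_top hcopKR hKle
  have hK1 : PLengthLE p 1 ↥K := PLengthLE.of_equiv (MulEquiv.subgroupCongr hKeq.symm) h44'
  have hQ0 : PLengthLE p 0 (↥M ⧸ K) := by
    rw [plengthLE_zero_iff]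
    have : Nat.card (↥M ⧸ K) = K.index := rfl
    rw [this]
    exact ((Nat.Prime.coprime_iff_not_dvd hpp).mpr (hidx p hpp hpα)).symm
  exact PLengthLE.ext K hK1 hQ0

/-- **Bender–Glauberman, Theorem 10.6** (with the Uniqueness Theorem and S1444 as hypotheses) -/
theorem plen_one (hG : IsMinSimpleOddOrder G) (hU : UniqHyp G) (h44 : H1444.{u})
    (p : ℕ) [Fact p.Prime] (H : Subgroup G) (hH : H ≠ ⊤) : PLengthLE p 1 ↥H := by
  obtain ⟨M, hM, hHM⟩ := (eq_top_or_exists_le_coatom H).resolve_left hH
  have h1 := plen_one_coatom hG hU h44 M hM p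
  have h2 := PLengthLE.subgroup (H.subgroupOf M) h1
  exact PLengthLE.of_equiv (Subgroup.subgroupOfEquivOfLe hHM) h2

end Main

end Cfsg.Agent.Lib.Helper70_BG106
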