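import Mathlib
import Cfsg.Prelude.Def_Local
import Cfsg.Prelude.Def_OddOrderLocal
import Cfsg.Agent.Lib.Helper70_BG106
import Cfsg.Agent.Lib.Helper35_FrobeniusNPC
import Cfsg.Agent.Lib.Helper24_NarrowFitting
import Cfsg.Agent.Lib.Helper2_NarrowSolv
import Cfsg.Agent.Lib.Helper49_Alpha3
import Cfsg.Agent.S1455
import Cfsg.Agent.S0072
import Cfsg.Agent.Lib.Helper34_NPC
import Cfsg.Agent.Lib.Helper32_Cores

set_option autoImplicit false
open Cfsg

namespace Cfsg.Agent.Lib.Helper70_BG108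

open Cfsg.Agent.Lib.Helper35_FrobeniusNPC Cfsg.Agent.Lib.Helper70_BG106
open Cfsg.Agent.Lib.Helper2_Narrow Subgroup

section Narrow

universe u

variable {Q : Type u} [Group Q] [Finite Q] {p : ℕ} [Fact p.Prime] {g : Q} {R₁ : Subgroup Q}

/-- narrow data give a narrow group in the sense of the definition -/
theorem isNarrow_of_nData (h : NData p Q g R₁) : Cfsg.IsNarrow p Q := by
  have hpP : p.Prime := Fact.out
  right
  refine ⟨zpowers g, R₁, h.card_zpowers, h.cyc, ?_, h.comm_zpowers, ?_⟩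
  · by_contra hne
    obtain ⟨x, hx1⟩ := (Subgroup.ne_bot_iff_exists_ne_one).mp hne
    have hx1' : (x : Q) ≠ 1 := fun h' => hx1 (Subtype.ext h')
    have hxz : zpowers (x : Q) = zpowers g :=
      Cfsg.Agent.Lib.Helper2_OmegaMeta.zpowers_eq_of_prime_card (zpowers g) h.card_zpowers
        (Subgroup.mem_inf.mp x.2).1 hx1'
    have hgR : g ∈ R₁ := by
      have h1 : g ∈ zpowers (x : Q) := by rw [hxz]; exact mem_zpowers g
      exact (zpowers_le.mpr (Subgroup.mem_inf.mp x.2).2) h1
    have hcent : centralizer ({g} : Set Q) = R₁ := by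
      rw [h.cent]; exact sup_eq_right.mpr (zpowers_le.mpr hgR)
    have : Nontrivial Q := ⟨g, 1, h.g_ne⟩
    have := h.isPGroup.center_nontrivial
    -- an element of order p in the centre
    have hpc : p ∣ Nat.card (center Q) := by
      obtain ⟨n, hn⟩ := IsPGroup.iff_card.mp (h.isPGroup.to_subgroup (center Q))
      rw [hn]
      apply dvd_pow_self
      rintro rfl
      rw [pow_zero] at hn
      have := (Nat.card_eq_one_iff_unique.mp hn).1
      exact not_subsingleton (center Q) this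
    obtain ⟨z, hz⟩ := exists_prime_orderOf_dvd_card' p hpc
    have hz1 : (z : Q) ≠ 1 := by
      intro h'
      have : z = 1 := Subtype.ext h'
      rw [this, orderOf_one] at hz
      exact hpP.one_lt.ne hz
    have hzp : (z : Q) ^ p = 1 := by
      have := pow_orderOf_eq_one z
      rw [hz] at this
      exact congrArg Subtype.val this
    have hzR : (z : Q) ∈ R₁ := by
      rw [← hcent, mem_centralizer_singleton_iff]
      exact (mem_center_iff.mp z.2 g).symm
    -- the subgroup generated by g and z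
    set X : Subgroup Q := zpowers g ⊔ zpowers (z : Q) with hX
    have hXR : X ≤ R₁ := sup_le (zpowers_le.mpr hgR) (zpowers_le.mpr hzR)
    have hXexp : ∀ x ∈ X, x ^ p = 1 := by
      intro x hx
      have hc : ∀ a ∈ zpowers g, ∀ b ∈ zpowers (z : Q), a * b = b * a := by
        intro a _ b hb
        have : b ∈ center Q := (zpowers_le.mpr z.2) hb
        exact (mem_center_iff.mp this a)
      obtain ⟨a, ha, b, hb, rfl⟩ := exists_mul_of_mem_sup' hc hx
      have hcomm : Commute a b := hc a ha b hb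
      rw [hcomm.mul_pow, h.pow_zpowers ha]
      obtain ⟨k, rfl⟩ := mem_zpowers_iff.mp hb
      rw [← zpow_natCast, ← zpow_mul, mul_comm, zpow_mul, zpow_natCast, hzp, one_zpow, one_mul]
    have hXcard : Nat.card X ≤ p := by
      have := h.cyc
      let f : X → {b : ↥R₁ // b ^ p = 1} := fun x =>
        ⟨⟨x.1, hXR x.2⟩, Subtype.ext (by simpa using hXexp x.1 x.2)⟩
      have hf : Function.Injective f := by
        intro a b hab
        have := congrArg (fun t : {b : ↥R₁ // b ^ p = 1} => ((t : ↥R₁) : Q)) hab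
        exact Subtype.ext this
      exact (Nat.card_le_card_of_injective f hf).trans (card_pow_eq_one_le_of_isCyclic hpP.pos)
    have hXeq : zpowers g = X := by
      apply Subgroup.eq_of_le_of_card_ge le_sup_left
      rw [h.card_zpowers]; exact hXcard
    have hzg : (z : Q) ∈ zpowers g := by
      rw [hXeq]; exact (le_sup_right : zpowers (z : Q) ≤ X) (mem_zpowers _)
    have hzz : zpowers (z : Q) = zpowers g :=
      Cfsg.Agent.Lib.Helper2_OmegaMeta.zpowers_eq_of_prime_card (zpowers g) h.card_zpowers hzg hz1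
    apply h.g_not_mem_center
    have : g ∈ zpowers (z : Q) := by rw [hzz]; exact mem_zpowers g
    exact (zpowers_le.mpr z.2) this
  · rw [← h.cent]
    ext x
    rw [mem_centralizer_singleton_iff, mem_centralizer_iff]
    constructor
    · intro hx y hy
      obtain ⟨k, rfl⟩ := mem_zpowers_iff.mp hy
      have h1 : Commute g x := hx.symm
      exact (h1.zpow_left k).eq
    · intro hx
      exact (hx g (mem_zpowers g)).symm

end Narrow

section NonIdeal

universe u

variable {G : Type u} [Group G] [Finite G] {p : ℕ} [Fact p.Prime]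

/-- if `p` is odd, `G` has `p`-rank at least three and `p` is not ideal, then some Sylow `p`-subgroup
of `G` is narrow -/
theorem exists_sylow_narrow (hp2 : p ≠ 2) (hrk : ¬ PRankLE p 2 G) (hni : ¬ IsIdealPrime p G) :
    ∃ P : Sylow p G, Cfsg.IsNarrow p ↥(P : Subgroup G) := by
  have hpP : p.Prime := Fact.out
  unfold IsIdealPrime at hni
  push Not at hni
  obtain ⟨P, A, hAP, hA, hAcard, hmax⟩ := hni hpP hrk
  refine ⟨P, ?_⟩
  set E : Subgroup ↥(P : Subgroup G) := A.subgroupOf (P : Subgroup G) with hE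
  have hEea : IsElementaryAbelian p E := Cfsg.Agent.Lib.Helper10_Thompson.ea_subgroupOf hA _
  have hrkP : ¬ PRankLE p 2 ↥(P : Subgroup G) := fun h =>
    hrk (Cfsg.Agent.Lib.Helper2_NarrowSolv.pRankLE_of_sylow' P h)
  have hc : PRankLE p 2 ↥(centralizer (E : Set ↥(P : Subgroup G))) := by
    intro B hBc hBe
    -- the image of `B` in `G`
    set B' : Subgroup G := (B.map (centralizer (E : Set ↥(P : Subgroup G))).subtype).map
      (P : Subgroup G).subtype with hB'
    have hB'P : B' ≤ (P : Subgroup G) := Subgroup.map_subtype_le _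
    have hB'c : ∀ a ∈ B', ∀ b ∈ B', a * b = b * a := by
      rintro _ ⟨_, ⟨a, ha, rfl⟩, rfl⟩ _ ⟨_, ⟨b, hb, rfl⟩, rfl⟩
      have := hBc.is_comm.comm (⟨a, ha⟩ : B) ⟨b, hb⟩
      have h1 : a * b = b * a := congrArg Subtype.val this
      have h2 := congrArg (fun t : ↥(centralizer (E : Set ↥(P : Subgroup G))) => ((t : ↥(P : Subgroup G)) : G)) h1
      simpa using h2
    have hB'e : ∀ a ∈ B', a ^ p = 1 := by
      rintro _ ⟨_, ⟨a, ha, rfl⟩, rfl⟩
      have h1 := hBe a ha
      have h2 := congrArg (fun t : ↥(centralizer (E : Set ↥(P : Subgroup G))) => ((t : ↥(P : Subgroup G)) : G)) h1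
      simpa using h2
    have hAB' : ∀ a ∈ A, ∀ b ∈ B', a * b = b * a := by
      rintro a ha _ ⟨_, ⟨b, hb, rfl⟩, rfl⟩
      have h1 := (mem_centralizer_iff.mp b.2) ⟨a, hAP ha⟩ (by
        show (⟨a, hAP ha⟩ : ↥(P : Subgroup G)) ∈ A.subgroupOf (P : Subgroup G)
        rw [Subgroup.mem_subgroupOf]; exact ha)
      have h2 := congrArg (fun t : ↥(P : Subgroup G) => (t : G)) h1
      simpa using h2
    have hAc : ∀ a ∈ A, ∀ b ∈ A, a * b = b * a := fun a ha b hb =>
      Cfsg.Agent.Lib.Helper10_Thompson.ea_comm hA ha hb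
    have hsup := Cfsg.Agent.Lib.Helper49_Alpha2.elemAb_sup hAc hA.2 hB'c hB'e hAB'
    have hsupea : IsElementaryAbelian p (A ⊔ B') :=
      Cfsg.Agent.Lib.Helper49_Alpha3.isElementaryAbelian_of hsup.1 hsup.2
    have hnot := hmax (A ⊔ B') (sup_le hAP hB'P) hsupea
    have hle : B' ≤ A := by
      by_contra hcon
      apply hnot
      refine lt_of_le_of_ne le_sup_left ?_
      intro heq
      apply hcon
      rw [heq]; exact le_sup_right
    have hcardB : Nat.card B = Nat.card B' := by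
      rw [hB', Subgroup.card_map_of_injective (Subgroup.subtype_injective _),
        Subgroup.card_map_of_injective (Subgroup.subtype_injective _)]
    rw [hcardB, ← hAcard]
    exact Subgroup.card_le_of_le hle
  obtain ⟨g, R₁, hN⟩ := Cfsg.Agent.Lib.Helper24_NarrowFitting.exists_nData hp2 P.isPGroup' E hEea hc hrkP
  exact isNarrow_of_nData hN

end NonIdeal

section General

variable {X : Type*} [Group X] [Finite X]

/-- If `X` has a normal `p`-complement for every prime `p ∈ τ` dividing `|X|`, then `X` has a normal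
Hall `τ'`-subgroup `N` with a nilpotent complement `H`. -/
theorem exists_nilpotent_hall (τ : Set ℕ)
    (h : ∀ p : ℕ, p.Prime → p ∈ τ → p ∣ Nat.card X → HasNPC p X) :
    ∃ N H : Subgroup X, N.Normal ∧ N.IsComplement' H ∧ Group.IsNilpotent H ∧
      (∀ p : ℕ, p.Prime → p ∈ τ → ¬ p ∣ Nat.card N) ∧
      (∀ p : ℕ, p.Prime → p ∣ N.index → p ∈ τ) := by
  classical
  -- the good primes
  let good : ℕ → Prop := fun p => p.Prime ∧ p ∈ τ ∧ p ∣ Nat.card X
  have hex : ∀ p : ℕ, ∃ K : Subgroup X, K.Normal ∧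
      (good p → (Nat.card K).Coprime p ∧ ∃ n : ℕ, K.index = p ^ n) ∧ (¬ good p → K = ⊤) := by
    intro p
    by_cases hp : good p
    · obtain ⟨K, hKn, hKc, n, hKi⟩ := h p hp.1 hp.2.1 hp.2.2
      exact ⟨K, hKn, fun _ => ⟨hKc, n, hKi⟩, fun h' => absurd hp h'⟩
    · exact ⟨⊤, inferInstance, fun h' => absurd h' hp, fun _ => rfl⟩
  choose Nf hNn hNg hNb using hex
  have hgoodfin : {p : ℕ | good p}.Finite := by
    apply Set.Finite.subset (Nat.card X).primeFactors.finite_toSet
    intro p hp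
    exact Nat.mem_primeFactors.mpr ⟨hp.1, hp.2.2, Nat.card_pos.ne'⟩
  set N : Subgroup X := ⨅ p : ℕ, Nf p with hN
  have hNnormal : N.Normal := Subgroup.normal_iInf_normal hNn
  have hNle : ∀ p, N ≤ Nf p := fun p => iInf_le _ p
  -- primes of `τ` do not divide `|N|`
  have hcard : ∀ p : ℕ, p.Prime → p ∈ τ → ¬ p ∣ Nat.card N := by
    intro p hp hpτ hdvd
    have hpX : p ∣ Nat.card X := hdvd.trans (Subgroup.card_subgroup_dvd_card N)
    have hg : good p := ⟨hp, hpτ, hpX⟩
    have h1 := (hNg p hg).1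
    have h2 : p ∣ Nat.card (Nf p) := hdvd.trans (Subgroup.card_dvd_of_le (hNle p))
    exact hp.one_lt.ne' (Nat.Coprime.eq_one_of_dvd h1.symm h2)
  -- primes dividing the index are good
  have hidx : ∀ q : ℕ, q.Prime → q ∣ N.index → good q := by
    intro q hq hdvd
    by_contra hng
    have : Fact q.Prime := ⟨hq⟩
    obtain ⟨Q⟩ : Nonempty (Sylow q X) := inferInstance
    have hQle : (Q : Subgroup X) ≤ N := by
      rw [hN]
      apply le_iInf
      intro p
      by_cases hp : good p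
      · have := hNn p
        apply le_of_coprime_index
        obtain ⟨n, hn⟩ := (hNg p hp).2
        rw [hn]
        obtain ⟨k, hk⟩ := IsPGroup.iff_card.mp Q.isPGroup'
        rw [hk]
        apply Nat.Coprime.pow
        rw [Nat.coprime_primes hq hp.1]
        rintro rfl
        exact hng hp
      · rw [hNb p hp]; exact le_top
    exact Q.not_dvd_index (hdvd.trans (Subgroup.index_dvd_of_le hQle))
  have hcop : (Nat.card N).Coprime N.index := by
    apply Nat.coprime_of_dvd
    intro q hq h1 h2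
    exact hcard q hq (hidx q hq h2).2.1 h1
  obtain ⟨H, hH⟩ := Subgroup.exists_right_complement'_of_coprime hcop
  refine ⟨N, H, hNnormal, hH, ?_, hcard, fun q hq hd => (hidx q hq hd).2.1⟩
  -- nilpotency of `H`
  let ι := {p : ℕ // good p}
  have : Finite ι := hgoodfin.to_subtype
  have : ∀ p : ι, (Nf p.1).Normal := fun p => hNn p.1
  have hnil : ∀ p : ι, Group.IsNilpotent (X ⧸ Nf p.1) := by
    intro p
    have : Fact p.1.Prime := ⟨p.2.1⟩
    apply IsPGroup.isNilpotent (p := p.1)
    apply IsPGroup.of_card (n := (hNg p.1 p.2).2.choose)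
    have := (hNg p.1 p.2).2.choose_spec
    rw [← this]
    rfl
  let f : X →* ((p : ι) → X ⧸ Nf p.1) := MonoidHom.pi (fun p => QuotientGroup.mk' (Nf p.1))
  have hker : f.ker = N := by
    ext x
    rw [MonoidHom.mem_ker, hN, Subgroup.mem_iInf]
    constructor
    · intro hx p
      by_cases hp : good p
      · have := congrFun hx ⟨p, hp⟩
        simpa [f] using this
      · rw [hNb p hp]; exact Subgroup.mem_top x
    · intro hx
      funext p
      have := hx p.1
      simpa [f] using this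
  let g : H →* ((p : ι) → X ⧸ Nf p.1) := f.comp H.subtype
  have hg : Function.Injective g := by
    rw [injective_iff_map_eq_one]
    intro a ha
    have h1 : (a : X) ∈ f.ker := ha
    rw [hker] at h1
    have h2 : (a : X) ∈ N ⊓ H := ⟨h1, a.2⟩
    rw [hH.disjoint.eq_bot] at h2
    exact Subtype.ext h2
  have : Group.IsNilpotent g.range := inferInstance
  exact (Group.isNilpotent_congr (MonoidHom.ofInjective hg)).mpr this

end General

section HallOf

variable {G : Type*} [Group G]

theorem relIndex_map_subtype' (D : Subgroup G) (H₀ : Subgroup ↥D) :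
    (H₀.map D.subtype).relIndex D = H₀.index := by
  unfold Subgroup.relIndex Subgroup.subgroupOf
  rw [Subgroup.comap_map_eq_self_of_injective D.subtype_injective]

variable [Finite G]

/-- if `D` has a normal `p`-complement for every prime `p ∉ π` dividing `|D|`, then `D` has a
nilpotent Hall `π'`-subgroup -/
theorem exists_hallOf_nilpotent (D : Subgroup G) (π : Set ℕ)
    (h : ∀ p : ℕ, p.Prime → p ∉ π → p ∣ Nat.card D → HasNPC p ↥D) :
    ∃ H : Subgroup G, IsPiHallOf {q | q.Prime ∧ q ∉ π} H D ∧ Group.IsNilpotent H := by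
  obtain ⟨N₀, H₀, -, hc, hnil, hcard, hidx⟩ := exists_nilpotent_hall (X := ↥D) {q | q ∉ π}
    (fun p hp hpπ hd => h p hp hpπ hd)
  refine ⟨H₀.map D.subtype, ⟨Subgroup.map_subtype_le _, ?_, ?_⟩, ?_⟩
  · intro p hp hd
    rw [Subgroup.card_map_of_injective D.subtype_injective, ← hc.symm.index_eq_card] at hd
    exact ⟨hp, hidx p hp hd⟩
  · intro p hp hpπ
    rw [relIndex_map_subtype', hc.index_eq_card]
    exact hcard p hp hpπ.2
  · exact (Group.isNilpotent_congr (H₀.equivMapOfInjective _ D.subtype_injective)).mp hnil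

end HallOf

section Main

universe u

variable {G : Type u} [Group G] [Finite G]

open Cfsg.Agent.Lib.Helper49_Sigma Cfsg.Agent.Lib.Helper49_Alpha

/-- for `p ∉ β(M)`, the Sylow `p`-subgroups of `M` are narrow -/
theorem sylow_narrow (hG : IsMinSimpleOddOrder G) (hU : UniqHyp G) (M : Subgroup G) (hM : IsCoatom M)
    (p : ℕ) [Fact p.Prime] (hpβ : p ∉ beta M) (S : Sylow p ↥M) :
    Cfsg.IsNarrow p ↥(S : Subgroup ↥M) := by
  have hpP : p.Prime := Fact.out
  by_cases hr : PRankLE p 2 ↥M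
  · exact Or.inl (Cfsg.Agent.Lib.Helper2_PRank.pRankLE_subgroup' hr _)
  have hpα : p ∈ alpha M := ⟨hpP, hr⟩
  have hni : ¬ IsIdealPrime p G := fun h => hpβ ⟨hpα, h⟩
  have hrG : ¬ PRankLE p 2 G := fun h => hr (Cfsg.Agent.Lib.Helper2_PRank.pRankLE_subgroup' h M)
  have hp2 : p ≠ 2 := by
    rintro rfl
    have h1 : 2 ∣ Nat.card ↥M := (mem_sigma_of_mem_alpha hG hU hM hpα).2.1
    have h2 : 2 ∣ Nat.card G := h1.trans (Subgroup.card_subgroup_dvd_card M)
    exact (Nat.not_even_iff_odd.mpr hG.1) (even_iff_two_dvd.mpr h2)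
  obtain ⟨P, hP⟩ := exists_sylow_narrow hp2 hrG hni
  have hS := sylM_of_mem_alpha hG hU hM hpα S
  obtain ⟨S₀, hS₀⟩ := exists_sylow_eq_of_isSylowIn_top hS.1
  let e1 : ↥(P : Subgroup G) ≃* ↥(S₀ : Subgroup G) := Sylow.equiv P S₀
  let e2 : ↥(S₀ : Subgroup G) ≃* ↥((S : Subgroup ↥M).map M.subtype) := MulEquiv.subgroupCongr hS₀
  let e3 : ↥(S : Subgroup ↥M) ≃* ↥((S : Subgroup ↥M).map M.subtype) :=
    (S : Subgroup ↥M).equivMapOfInjective M.subtype M.subtype_injective
  exact Cfsg.Agent.Lib.Helper2_NarrowSolv.isNarrow_of_mulEquiv ((e1.trans e2).trans e3.symm) hP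

/-- **Bender–Glauberman, Theorem 10.7-type statement** (with the Uniqueness Theorem and S1444 as
hypotheses) -/
theorem beta_statement (hG : IsMinSimpleOddOrder G) (hU : UniqHyp G) (h44 : H1444.{u})
    (M : Subgroup G) (hM : IsCoatom M) :
    IsPiHallOf (beta M) (piCoreOf (beta M) M) M ∧ IsPiHall (beta M) (piCoreOf (beta M) M) ∧
      (∃ H : Subgroup G, IsPiHallOf {q | q.Prime ∧ q ∉ beta M} H ⁅M, M⁆ ∧ Group.IsNilpotent H) ∧
      (∃ H : Subgroup G, IsPiHallOf {q | q.Prime ∧ q ∉ beta M} H (sigmaCore M) ∧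
        Group.IsNilpotent H) ∧
      ∀ p : ℕ, p.Prime → p ∣ Nat.card M → p ∉ beta M →
        HasNormalPComplement p ↥⁅M, M⁆ ∧ HasNormalPComplement p ↥(sigmaCore M) ∧
        ∀ q : ℕ, q.Prime → q ∣ (pPrimeCore p ↥M).index → q ≤ p := by
  have hsolv : Group.IsSolvable ↥M := hG.2.2.2 M hM.1
  have hodd : Odd (Nat.card ↥M) := Odd.of_dvd_nat hG.1 (Subgroup.card_subgroup_dvd_card M)
  -- the key facts for a prime outside `β(M)`
  have key : ∀ p : ℕ, p.Prime → p ∣ Nat.card M → p ∉ beta M →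
      HasNPC p ↥(_root_.commutator ↥M) ∧
        ∀ q : ℕ, q.Prime → q ∣ (pPrimeCore p ↥M).index → q ≤ p := by
    intro p hp hpM hpβ
    have : Fact p.Prime := ⟨hp⟩
    obtain ⟨S⟩ : Nonempty (Sylow p ↥M) := inferInstance
    have hS := sylow_narrow hG hU M hM p hpβ S
    obtain ⟨h1, -, h3, -, -, -⟩ := Cfsg.Agent.S1455.result (G := ↥M) hodd p hpM S hS
      (fun _ => plen_one_coatom hG hU h44 M hM p)
    exact ⟨(Cfsg.Agent.S0072.hasNPC_iff p).mp h3, h1⟩
  have hD : (_root_.commutator ↥M).map M.subtype = ⁅M, M⁆ := Subgroup.map_subtype_commutator M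
  let eD : ↥(_root_.commutator ↥M) ≃* ↥⁅M, M⁆ :=
    ((_root_.commutator ↥M).equivMapOfInjective M.subtype M.subtype_injective).trans
      (MulEquiv.subgroupCongr hD)
  have hNPCD : ∀ p : ℕ, p.Prime → p ∣ Nat.card M → p ∉ beta M → HasNPC p ↥⁅M, M⁆ := by
    intro p hp hpM hpβ
    have : Fact p.Prime := ⟨hp⟩
    exact Cfsg.Agent.Lib.Helper34_NPC.hasNPC_of_equiv eD (key p hp hpM hpβ).1
  -- `M_σ ≤ M'`
  have hσidx : ∀ q : ℕ, q ∈ sigma M → ¬ q ∣ (_root_.commutator ↥M).index := by
    intro q hqσ hdvd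
    have : Fact q.Prime := ⟨hqσ.1⟩
    obtain ⟨Q⟩ : Nonempty (Sylow q ↥M) := inferInstance
    have hle := sylow_le_commutator hG hU hM hqσ Q
    exact Q.not_dvd_index (hdvd.trans (Subgroup.index_dvd_of_le hle))
  have hσle' : piCore (sigma M) ↥M ≤ _root_.commutator ↥M := by
    apply le_of_coprime_index
    apply Nat.coprime_of_dvd
    intro q hq hd hd'
    exact hσidx q (Cfsg.Agent.Lib.Helper32_Cores.card_piCore (sigma M) q hq hd) hd'
  have hσle : sigmaCore M ≤ ⁅M, M⁆ := by
    rw [← hD]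
    exact Subgroup.map_mono hσle'
  have hNPCσ : ∀ p : ℕ, p.Prime → p ∣ Nat.card M → p ∉ beta M → HasNPC p ↥(sigmaCore M) := by
    intro p hp hpM hpβ
    have : Fact p.Prime := ⟨hp⟩
    exact Cfsg.Agent.Lib.Helper34_NPC.hasNPC_of_le hσle (hNPCD p hp hpM hpβ)
  have hDM : ⁅M, M⁆ ≤ M := Subgroup.commutator_le_self M
  have hσM : sigmaCore M ≤ M := Subgroup.map_subtype_le _
  -- the `β`-core
  have hβidx : ∀ p : ℕ, p ∈ beta M → ¬ p ∣ (piCore (beta M) ↥M).index := by
    intro p hpβ
    have hp : p.Prime := hpβ.1.1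
    have : Fact p.Prime := ⟨hp⟩
    obtain ⟨N₀, H₀, hN₀n, -, -, hcard, hidx⟩ :=
      exists_nilpotent_hall (X := ↥(_root_.commutator ↥M)) {q | q ∉ beta M}
        (fun q hq hqβ hd => (key q hq (hd.trans (Subgroup.card_subgroup_dvd_card _)) hqβ).1)
    have hN₀β : ∀ q : ℕ, q.Prime → q ∣ Nat.card N₀ → q ∈ beta M := by
      intro q hq hd
      by_contra hqβ
      exact hcard q hq hqβ hd
    have h1 : N₀ ≤ piCore (beta M) ↥(_root_.commutator ↥M) :=
      Cfsg.Agent.Lib.Helper32_Cores.le_piCore hN₀n hN₀β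
    have h2 : (piCore (beta M) ↥(_root_.commutator ↥M)).map (_root_.commutator ↥M).subtype ≤
        piCore (beta M) ↥M :=
      Cfsg.Agent.Lib.Helper32_Cores.map_ordCore_le_of_normal
        (Cfsg.Agent.Lib.Helper32_Cores.piPred_ordClass (beta M)) (_root_.commutator ↥M)
    obtain ⟨P⟩ : Nonempty (Sylow p ↥M) := inferInstance
    have hPle : (P : Subgroup ↥M) ≤ _root_.commutator ↥M :=
      sylow_le_commutator hG hU hM (mem_sigma_of_mem_alpha hG hU hM hpβ.1) P
    have hP₀ : (P : Subgroup ↥M).subgroupOf (_root_.commutator ↥M) ≤ N₀ := by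
      apply le_of_coprime_index
      rw [Cfsg.Agent.Lib.Helper1_Transport.card_subgroupOf hPle]
      obtain ⟨k, hk⟩ := IsPGroup.iff_card.mp P.isPGroup'
      rw [hk]
      apply Nat.Coprime.pow_left
      rw [Nat.Prime.coprime_iff_not_dvd hp]
      intro hd
      exact hidx p hp hd hpβ
    have hPcore : (P : Subgroup ↥M) ≤ piCore (beta M) ↥M := by
      rw [← Subgroup.map_subgroupOf_eq_of_le hPle]
      exact (Subgroup.map_mono (hP₀.trans h1)).trans h2
    intro hd
    exact P.not_dvd_index (hd.trans (Subgroup.index_dvd_of_le hPcore))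
  have hβcard : ∀ p : ℕ, p.Prime → p ∣ Nat.card ↥(piCoreOf (beta M) M) → p ∈ beta M := by
    intro p hp hd
    unfold piCoreOf at hd
    rw [Subgroup.card_map_of_injective M.subtype_injective] at hd
    exact Cfsg.Agent.Lib.Helper32_Cores.card_piCore _ p hp hd
  refine ⟨⟨Subgroup.map_subtype_le _, hβcard, ?_⟩, ⟨hβcard, ?_⟩, ?_, ?_, ?_⟩
  · intro p _ hpβ
    unfold piCoreOf
    rw [relIndex_map_subtype']
    exact hβidx p hpβ
  · intro p hp hpβ
    have : Fact p.Prime := ⟨hp⟩
    unfold piCoreOf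
    rw [Subgroup.index_map_subtype]
    intro hd
    rcases (Nat.Prime.dvd_mul hp).mp hd with h | h
    · exact hβidx p hpβ h
    · obtain ⟨P⟩ : Nonempty (Sylow p ↥M) := inferInstance
      exact not_dvd_index_of_sylM (sylM_of_mem_alpha hG hU hM hpβ.1 P) h
  · exact exists_hallOf_nilpotent ⁅M, M⁆ (beta M) (fun p hp hpβ hd =>
      hNPCD p hp (hd.trans (Subgroup.card_dvd_of_le hDM)) hpβ)
  · exact exists_hallOf_nilpotent (sigmaCore M) (beta M) (fun p hp hpβ hd =>
      hNPCσ p hp (hd.trans (Subgroup.card_dvd_of_le hσM)) hpβ)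
  · intro p hp hpM hpβ
    have : Fact p.Prime := ⟨hp⟩
    exact ⟨(Cfsg.Agent.S0072.hasNPC_iff p).mpr (hNPCD p hp hpM hpβ),
      (Cfsg.Agent.S0072.hasNPC_iff p).mpr (hNPCσ p hp hpM hpβ), (key p hp hpM hpβ).2⟩

end Main

end Cfsg.Agent.Lib.Helper70_BG108
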