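import Mathlib

set_option autoImplicit false

namespace Cfsg.Agent.Lib.Helper70_Wielandt

open Subgroup


theorem card_split {α : Type*} [Finite α] (P Q : α → Prop) :
    Nat.card {x // P x} = Nat.card {x // P x ∧ Q x} + Nat.card {x // P x ∧ ¬ Q x} := by
  classical
  rw [← Nat.card_sum]
  refine Nat.card_congr
    { toFun := fun x => if h : Q x.1 then Sum.inl ⟨x.1, x.2, h⟩ else Sum.inr ⟨x.1, x.2, h⟩
      invFun := fun y => Sum.elim (fun a => ⟨a.1, a.2.1⟩) (fun b => ⟨b.1, b.2.1⟩) y
      left_inv := fun x => by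
        by_cases h : Q x.1
        · simp [h]
        · simp [h]
      right_inv := fun y => by
        rcases y with a | b
        · simp [a.2.2]
        · simp [b.2.2] }


section Basic
variable {G : Type*} [Group G]

/-- right stabilizer of a subset: `{g | M g = M}` -/
def rstab (M : Set G) : Subgroup G where
  carrier := {g | ∀ x, x * g ∈ M ↔ x ∈ M}
  one_mem' := by intro x; simp
  mul_mem' := by
    intro g h hg hh x
    rw [← mul_assoc, hh, hg]
  inv_mem' := by
    intro g hg x
    rw [← hg (x * g⁻¹), inv_mul_cancel_right]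

theorem mem_rstab {M : Set G} {g : G} : g ∈ rstab M ↔ ∀ x, x * g ∈ M ↔ x ∈ M := Iff.rfl

theorem le_rstab_of {M : Set G} {K : Subgroup G} (h : ∀ x ∈ M, ∀ k ∈ K, x * k ∈ M) :
    K ≤ rstab M := by
  intro k hk x
  constructor
  · intro hx
    have := h _ hx _ (K.inv_mem hk)
    rwa [mul_inv_cancel_right] at this
  · intro hx
    exact h x hx k hk

theorem eq_preimage_image {M : Set G} {K : Subgroup G} (hK : K ≤ rstab M) :
    M = (QuotientGroup.mk : G → G ⧸ K) ⁻¹' ((QuotientGroup.mk : G → G ⧸ K) '' M) := by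
  apply Set.Subset.antisymm (Set.subset_preimage_image _ _)
  rintro y ⟨x, hx, hxy⟩
  have hmem : x⁻¹ * y ∈ K := QuotientGroup.eq.1 hxy
  have := (hK hmem x).2 hx
  rwa [mul_inv_cancel_left] at this

theorem le_rstab_preimage (K : Subgroup G) (t : Set (G ⧸ K)) :
    K ≤ rstab ((QuotientGroup.mk : G → G ⧸ K) ⁻¹' t) := by
  intro k hk x
  simp only [Set.mem_preimage]
  have : (QuotientGroup.mk (x * k) : G ⧸ K) = QuotientGroup.mk x := by
    rw [QuotientGroup.eq]
    simpa using K.inv_mem hk
  rw [this]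

theorem card_preimage_mk (K : Subgroup G) (t : Set (G ⧸ K)) :
    Nat.card ((QuotientGroup.mk : G → G ⧸ K) ⁻¹' t) = Nat.card K * Nat.card t := by
  rw [Nat.card_congr (QuotientGroup.preimageMkEquivSubgroupProdSet K t), Nat.card_prod]

theorem card_eq_of_le_rstab {M : Set G} {K : Subgroup G} (hK : K ≤ rstab M) :
    Nat.card M = Nat.card K * Nat.card ((QuotientGroup.mk : G → G ⧸ K) '' M) := by
  conv_lhs => rw [eq_preimage_image hK]
  exact card_preimage_mk K _

theorem card_rstab_dvd (M : Set G) : Nat.card (rstab M) ∣ Nat.card M :=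
  ⟨_, card_eq_of_le_rstab le_rfl⟩

/-- number of subsets of given size -/
theorem card_subsets (α : Type*) [Finite α] (j : ℕ) :
    Nat.card {t : Set α // Nat.card t = j} = (Nat.card α).choose j := by
  classical
  let _ : Fintype α := Fintype.ofFinite α
  rw [Nat.card_eq_fintype_card (α := α), ← Fintype.card_finset_len, ← Nat.card_eq_fintype_card]
  refine Nat.card_congr
    { toFun := fun t => ⟨t.1.toFinset, by
        rw [Set.toFinset_card, ← Nat.card_eq_fintype_card]; exact t.2⟩
      invFun := fun s => ⟨(s.1 : Set α), by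
        rw [Nat.card_eq_fintype_card]; simpa using s.2⟩
      left_inv := fun t => by
        apply Subtype.ext
        simp
      right_inv := fun s => by
        apply Subtype.ext
        simp }

/-- the subsets of size `n` that are unions of left cosets of `K` -/
theorem card_saturated [Finite G] (K : Subgroup G) (j n : ℕ) (h : Nat.card K * j = n) :
    Nat.card {M : Set G // Nat.card M = n ∧ K ≤ rstab M} = K.index.choose j := by
  rw [Subgroup.index_eq_card, ← card_subsets (G ⧸ K) j]
  have hKpos : 0 < Nat.card K := Nat.card_pos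
  refine Nat.card_congr
    { toFun := fun M => ⟨(QuotientGroup.mk : G → G ⧸ K) '' M.1, by
        have h1 := card_eq_of_le_rstab M.2.2
        have h2 : Nat.card K * j = Nat.card K * Nat.card ((QuotientGroup.mk : G → G ⧸ K) '' M.1) := by
          rw [h, ← h1, M.2.1]
        exact (Nat.eq_of_mul_eq_mul_left hKpos h2).symm⟩
      invFun := fun t => ⟨(QuotientGroup.mk : G → G ⧸ K) ⁻¹' t.1, by
        rw [card_preimage_mk, t.2, h], le_rstab_preimage K t.1⟩
      left_inv := fun M => by
        apply Subtype.ext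
        exact (eq_preimage_image M.2.2).symm
      right_inv := fun t => by
        apply Subtype.ext
        exact Set.image_preimage_eq _ QuotientGroup.mk_surjective }


/-- translate of a set -/
def rtr (g : G) (M : Set G) : Set G := {x | x * g ∈ M}

theorem mem_rtr {g : G} {M : Set G} {x : G} : x ∈ rtr g M ↔ x * g ∈ M := Iff.rfl

theorem rtr_one (M : Set G) : rtr 1 M = M := by
  ext x; rw [mem_rtr, mul_one]

theorem rtr_mul (g h : G) (M : Set G) : rtr (g * h) M = rtr g (rtr h M) := by
  ext x; rw [mem_rtr, mem_rtr, mem_rtr, mul_assoc]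

theorem card_rtr (g : G) (M : Set G) : Nat.card (rtr g M) = Nat.card M :=
  Nat.card_congr ((Equiv.mulRight g).subtypeEquiv (fun _ => Iff.rfl))

theorem rstab_rtr (g : G) (M : Set G) :
    rstab (rtr g M) = (rstab M).map (MulAut.conj g).toMonoidHom := by
  ext h
  rw [Subgroup.mem_map]
  constructor
  · intro hh
    refine ⟨g⁻¹ * h * g, ?_, by simp [mul_assoc]⟩
    intro y
    have := hh (y * g⁻¹)
    rw [mem_rtr, mem_rtr, inv_mul_cancel_right] at this
    rw [← this]
    simp [mul_assoc]
  · rintro ⟨k, hk, rfl⟩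
    intro x
    rw [mem_rtr, mem_rtr]
    have := hk (x * g)
    rw [← this]
    simp [mul_assoc]

theorem card_rstab_rtr (g : G) (M : Set G) :
    Nat.card (rstab (rtr g M)) = Nat.card (rstab M) := by
  rw [rstab_rtr]
  exact Subgroup.card_map_of_injective (MulAut.conj g).injective

/-- orbit counting: the subsets of size `n` whose right stabilizer has order `c` with `d * c ∣ n`
are in number divisible by `d * m`, where `|G| = n * m`. -/
theorem orbit_count [Finite G] (n d m : ℕ) (hG : Nat.card G = n * m) :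
    d * m ∣ Nat.card {M : Set G // Nat.card M = n ∧ d * Nat.card (rstab M) ∣ n} := by
  classical
  let act : MulAction G {M : Set G // Nat.card M = n ∧ d * Nat.card (rstab M) ∣ n} :=
    { smul := fun g M => ⟨rtr g M.1, by rw [card_rtr]; exact M.2.1, by
        rw [card_rstab_rtr]; exact M.2.2⟩
      one_smul := fun M => Subtype.ext (rtr_one M.1)
      mul_smul := fun g h M => Subtype.ext (rtr_mul g h M.1) }
  have hstab : ∀ M : {M : Set G // Nat.card M = n ∧ d * Nat.card (rstab M) ∣ n},
      MulAction.stabilizer G M = rstab M.1 := by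
    intro M
    ext g
    rw [MulAction.mem_stabilizer_iff, mem_rstab]
    constructor
    · intro h x
      have := congrArg Subtype.val h
      have h2 : rtr g M.1 = M.1 := this
      rw [← mem_rtr, h2]
    · intro h
      apply Subtype.ext
      show rtr g M.1 = M.1
      ext x
      exact h x
  let _ : Fintype (Quotient (MulAction.orbitRel G
    {M : Set G // Nat.card M = n ∧ d * Nat.card (rstab M) ∣ n})) := Fintype.ofFinite _
  rw [Nat.card_congr (MulAction.selfEquivSigmaOrbits G _), Nat.card_sigma]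
  apply Finset.dvd_sum
  intro ω _
  have h1 : Nat.card (MulAction.orbit G ω.out) * Nat.card (MulAction.stabilizer G ω.out) =
      Nat.card G := by
    rw [← Nat.card_prod, Nat.card_congr (MulAction.orbitProdStabilizerEquivGroup G ω.out)]
  rw [hstab, hG] at h1
  obtain ⟨c, hc⟩ := ω.out.2.2
  have hpos : 0 < Nat.card (rstab ω.out.1) := Nat.card_pos
  have h2 : Nat.card (MulAction.orbit G ω.out) * Nat.card (rstab ω.out.1) =
      (d * m * c) * Nat.card (rstab ω.out.1) := by
    rw [h1]
    conv_lhs => rw [hc]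
    ring
  have h3 := Nat.eq_of_mul_eq_mul_right hpos h2
  rw [h3]
  exact ⟨c, by ring⟩

end Basic

section Main
variable {G : Type*} [Group G] [Finite G]

theorem rstab_eq_of_le {M : Set G} {L : Subgroup G} {n : ℕ} (hn : n ≠ 0) (hM : Nat.card M = n)
    (hL : Nat.card L = n) (h : L ≤ rstab M) : rstab M = L := by
  symm
  apply Subgroup.eq_of_le_of_card_ge h
  rw [hL, ← hM]
  apply Nat.le_of_dvd _ (card_rstab_dvd M)
  rw [hM]
  exact Nat.pos_of_ne_zero hn

omit [Finite G] in
theorem index_eq_of_card {K : Subgroup G} {c e : ℕ} (hc : c ≠ 0) (hK : Nat.card K = c)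
    (hG : Nat.card G = c * e) : K.index = e := by
  have h := K.card_mul_index
  rw [hK, hG] at h
  exact Nat.eq_of_mul_eq_mul_left (Nat.pos_of_ne_zero hc) h

/-- subsets of size `n` with right stabilizer of order `n` are the left cosets of the subgroups
of order `n`. -/
theorem card_A (n m : ℕ) (hn : n ≠ 0) (hG : Nat.card G = n * m) :
    Nat.card {M : Set G // Nat.card M = n ∧ Nat.card (rstab M) = n} =
      m * Nat.card {H : Subgroup G // Nat.card H = n} := by
  classical
  let f : {M : Set G // Nat.card M = n ∧ Nat.card (rstab M) = n} →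
      {H : Subgroup G // Nat.card H = n} := fun M => ⟨rstab M.1, M.2.2⟩
  let _ : Fintype {H : Subgroup G // Nat.card H = n} := Fintype.ofFinite _
  rw [Nat.card_congr (Equiv.sigmaFiberEquiv f).symm, Nat.card_sigma]
  have hfib : ∀ L : {H : Subgroup G // Nat.card H = n}, Nat.card {M // f M = L} = m := by
    intro L
    have hidx : L.1.index = m := index_eq_of_card hn L.2 hG
    have h1 := card_saturated L.1 1 n (by rw [L.2, mul_one])
    rw [hidx, Nat.choose_one_right] at h1
    rw [← h1]
    refine Nat.card_congr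
      { toFun := fun M => ⟨M.1.1, M.1.2.1, by
          have := congrArg Subtype.val M.2
          have h2 : rstab M.1.1 = L.1 := this
          rw [h2]⟩
        invFun := fun M => ⟨⟨M.1, M.2.1, by
          rw [rstab_eq_of_le hn M.2.1 L.2 M.2.2]; exact L.2⟩, by
          apply Subtype.ext
          exact rstab_eq_of_le hn M.2.1 L.2 M.2.2⟩
        left_inv := fun M => rfl
        right_inv := fun M => rfl }
  simp only [hfib, Finset.sum_const, Finset.card_univ, smul_eq_mul, Nat.card_eq_fintype_card]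
  rw [mul_comm]

end Main

section Main2
variable {G : Type*} [Group G] [Finite G]

/-- pairs `(K, M)`: `K` of order `c`, `M` of size `c * j` a union of left cosets of `K`. -/
theorem card_T (c j e : ℕ) (hc : c ≠ 0) (hG : Nat.card G = c * e) :
    Nat.card {q : Subgroup G × Set G // Nat.card q.1 = c ∧ Nat.card q.2 = c * j ∧
      q.1 ≤ rstab q.2} = Nat.card {H : Subgroup G // Nat.card H = c} * e.choose j := by
  classical
  let _ : Fintype {H : Subgroup G // Nat.card H = c} := Fintype.ofFinite _
  have e1 : {q : Subgroup G × Set G // Nat.card q.1 = c ∧ Nat.card q.2 = c * j ∧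
      q.1 ≤ rstab q.2} ≃ Σ K : {H : Subgroup G // Nat.card H = c},
        {M : Set G // Nat.card M = c * j ∧ K.1 ≤ rstab M} :=
    { toFun := fun q => ⟨⟨q.1.1, q.2.1⟩, ⟨q.1.2, q.2.2⟩⟩
      invFun := fun s => ⟨(s.1.1, s.2.1), s.1.2, s.2.2.1, s.2.2.2⟩
      left_inv := fun q => rfl
      right_inv := fun s => rfl }
  rw [Nat.card_congr e1, Nat.card_sigma]
  have hfib : ∀ K : {H : Subgroup G // Nat.card H = c},
      Nat.card {M : Set G // Nat.card M = c * j ∧ K.1 ≤ rstab M} = e.choose j := by
    intro K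
    rw [card_saturated K.1 j (c * j) (by rw [K.2]), index_eq_of_card hc K.2 hG]
  simp only [hfib, Finset.sum_const, Finset.card_univ, smul_eq_mul, Nat.card_eq_fintype_card]

end Main2

section Main3
variable {G : Type*} [Group G] [Finite G]

omit [Finite G] in
theorem card_rstab_cases {p b : ℕ} (hp : p.Prime) {K : Subgroup G} {M : Set G}
    (hK : Nat.card K = p ^ b) (hM : Nat.card M = p ^ (b + 1)) (hle : K ≤ rstab M) :
    Nat.card (rstab M) = p ^ b ∨ Nat.card (rstab M) = p ^ (b + 1) := by
  have h1 := card_rstab_dvd M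
  rw [hM] at h1
  obtain ⟨j, hj, hj2⟩ := (Nat.dvd_prime_pow hp).1 h1
  have h2 := Subgroup.card_dvd_of_le hle
  rw [hK, hj2] at h2
  have h3 : b ≤ j := (Nat.pow_dvd_pow_iff_le_right hp.one_lt).1 h2
  rw [hj2]
  rcases Nat.lt_or_ge b j with h4 | h4
  · right
    have : j = b + 1 := by omega
    rw [this]
  · left
    have : j = b := by omega
    rw [this]

theorem card_T2 (p b m : ℕ) (hp : p.Prime) (hG : Nat.card G = p ^ (b + 1) * m) :
    Nat.card {q : Subgroup G × Set G // Nat.card q.1 = p ^ b ∧ Nat.card q.2 = p ^ (b + 1) ∧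
      q.1 ≤ rstab q.2} =
    Nat.card {M : Set G // Nat.card M = p ^ (b + 1) ∧ Nat.card (rstab M) = p ^ b} +
      m * Nat.card {q : Subgroup G × Subgroup G // Nat.card q.1 = p ^ b ∧
        Nat.card q.2 = p ^ (b + 1) ∧ q.1 ≤ q.2} := by
  classical
  have hn : p ^ (b + 1) ≠ 0 := pow_ne_zero _ hp.ne_zero
  have hne : p ^ (b + 1) ≠ p ^ b := by
    intro h
    have := Nat.pow_right_injective hp.two_le h
    omega
  rw [card_split _ (fun q : Subgroup G × Set G => Nat.card (rstab q.2) = p ^ b)]
  congr 1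
  · refine Nat.card_congr
      { toFun := fun q => ⟨q.1.2, q.2.1.2.1, q.2.2⟩
        invFun := fun M => ⟨(rstab M.1, M.1), ⟨M.2.2, M.2.1, le_rfl⟩, M.2.2⟩
        left_inv := fun q => by
          apply Subtype.ext
          apply Prod.ext
          · symm
            apply Subgroup.eq_of_le_of_card_ge q.2.1.2.2
            rw [q.2.2, q.2.1.1]
          · rfl
        right_inv := fun M => rfl }
  · let _ : Fintype {q : Subgroup G × Subgroup G // Nat.card q.1 = p ^ b ∧
        Nat.card q.2 = p ^ (b + 1) ∧ q.1 ≤ q.2} := Fintype.ofFinite _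
    have hcard : ∀ q : {q : Subgroup G × Set G // (Nat.card q.1 = p ^ b ∧
        Nat.card q.2 = p ^ (b + 1) ∧ q.1 ≤ rstab q.2) ∧ ¬ Nat.card (rstab q.2) = p ^ b},
        Nat.card (rstab q.1.2) = p ^ (b + 1) := by
      intro q
      rcases card_rstab_cases hp q.2.1.1 q.2.1.2.1 q.2.1.2.2 with h | h
      · exact absurd h q.2.2
      · exact h
    let g : {q : Subgroup G × Set G // (Nat.card q.1 = p ^ b ∧
        Nat.card q.2 = p ^ (b + 1) ∧ q.1 ≤ rstab q.2) ∧ ¬ Nat.card (rstab q.2) = p ^ b} →
        {q : Subgroup G × Subgroup G // Nat.card q.1 = p ^ b ∧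
          Nat.card q.2 = p ^ (b + 1) ∧ q.1 ≤ q.2} :=
      fun q => ⟨(q.1.1, rstab q.1.2), q.2.1.1, hcard q, q.2.1.2.2⟩
    rw [Nat.card_congr (Equiv.sigmaFiberEquiv g).symm, Nat.card_sigma]
    have hfib : ∀ r : {q : Subgroup G × Subgroup G // Nat.card q.1 = p ^ b ∧
        Nat.card q.2 = p ^ (b + 1) ∧ q.1 ≤ q.2}, Nat.card {q // g q = r} = m := by
      intro r
      have hidx : r.1.2.index = m := index_eq_of_card hn r.2.2.1 hG
      have h1 := card_saturated r.1.2 1 (p ^ (b + 1)) (by rw [r.2.2.1, mul_one])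
      rw [hidx, Nat.choose_one_right] at h1
      rw [← h1]
      refine Nat.card_congr
        { toFun := fun q => ⟨q.1.1.2, q.1.2.1.2.1, by
            have := congrArg (fun z => z.1.2) q.2
            have h2 : rstab q.1.1.2 = r.1.2 := this
            rw [h2]⟩
          invFun := fun M => ⟨⟨(r.1.1, M.1), ⟨r.2.1, M.2.1, r.2.2.2.trans M.2.2⟩, by
              rw [rstab_eq_of_le hn M.2.1 r.2.2.1 M.2.2, r.2.2.1]
              exact hne⟩, by
            apply Subtype.ext
            apply Prod.ext
            · rfl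
            · exact rstab_eq_of_le hn M.2.1 r.2.2.1 M.2.2⟩
          left_inv := fun q => by
            apply Subtype.ext
            apply Subtype.ext
            apply Prod.ext
            · have := congrArg (fun z => z.1.1) q.2
              exact this.symm
            · rfl
          right_inv := fun M => rfl }
    simp only [hfib, Finset.sum_const, Finset.card_univ, smul_eq_mul, Nat.card_eq_fintype_card]
    rw [mul_comm]

end Main3

section Main4
variable {G : Type*} [Group G] [Finite G]

omit [Finite G] in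
theorem rest_iff {p b : ℕ} (hp : p.Prime) {M : Set G} (hM : Nat.card M = p ^ (b + 1)) :
    (¬ Nat.card (rstab M) = p ^ (b + 1) ∧ ¬ Nat.card (rstab M) = p ^ b) ↔
      p ^ 2 * Nat.card (rstab M) ∣ p ^ (b + 1) := by
  have h1 := card_rstab_dvd M
  rw [hM] at h1
  obtain ⟨j, hj, hj2⟩ := (Nat.dvd_prime_pow hp).1 h1
  rw [hj2, ← pow_add, Nat.pow_dvd_pow_iff_le_right hp.one_lt]
  have e1 : p ^ j = p ^ (b + 1) ↔ j = b + 1 :=
    ⟨fun h => Nat.pow_right_injective hp.two_le h, fun h => by rw [h]⟩
  have e2 : p ^ j = p ^ b ↔ j = b :=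
    ⟨fun h => Nat.pow_right_injective hp.two_le h, fun h => by rw [h]⟩
  rw [e1, e2]
  omega

/-- The main counting identity. -/
theorem main_identity (p b m : ℕ) (hp : p.Prime) (hG : Nat.card G = p ^ (b + 1) * m) :
    ∃ t, Nat.card {H : Subgroup G // Nat.card H = p ^ b} * (p * m).choose p + p ^ 2 * m * t +
        m * Nat.card {H : Subgroup G // Nat.card H = p ^ (b + 1)} =
      (p ^ (b + 1) * m).choose (p ^ (b + 1)) +
        m * Nat.card {q : Subgroup G × Subgroup G // Nat.card q.1 = p ^ b ∧
          Nat.card q.2 = p ^ (b + 1) ∧ q.1 ≤ q.2} := by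
  classical
  have hn : p ^ (b + 1) ≠ 0 := pow_ne_zero _ hp.ne_zero
  have hne : p ^ b ≠ p ^ (b + 1) := by
    intro h
    have := Nat.pow_right_injective hp.two_le h
    omega
  have hΩ := card_subsets G (p ^ (b + 1))
  rw [hG] at hΩ
  have hA := card_A (G := G) (p ^ (b + 1)) m hn hG
  obtain ⟨t, ht⟩ := orbit_count (G := G) (p ^ (b + 1)) (p ^ 2) m hG
  have hG' : Nat.card G = p ^ b * (p * m) := by rw [hG, pow_succ]; ring
  have hT := card_T (G := G) (p ^ b) p (p * m) (pow_ne_zero _ hp.ne_zero) hG'
  rw [← pow_succ] at hT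
  have hT2 := card_T2 (G := G) p b m hp hG
  have hsplit : Nat.card {M : Set G // Nat.card M = p ^ (b + 1)} =
      Nat.card {M : Set G // Nat.card M = p ^ (b + 1) ∧ Nat.card (rstab M) = p ^ (b + 1)} +
      (Nat.card {M : Set G // Nat.card M = p ^ (b + 1) ∧ Nat.card (rstab M) = p ^ b} +
       Nat.card {M : Set G // Nat.card M = p ^ (b + 1) ∧
        p ^ 2 * Nat.card (rstab M) ∣ p ^ (b + 1)}) := by
    rw [card_split (fun M : Set G => Nat.card M = p ^ (b + 1))
      (fun M : Set G => Nat.card (rstab M) = p ^ (b + 1))]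
    congr 1
    rw [card_split (fun M : Set G => Nat.card M = p ^ (b + 1) ∧
      ¬ Nat.card (rstab M) = p ^ (b + 1)) (fun M : Set G => Nat.card (rstab M) = p ^ b)]
    congr 1
    · apply Nat.card_congr
      apply Equiv.subtypeEquivRight
      intro M
      constructor
      · rintro ⟨⟨h1, _⟩, h3⟩
        exact ⟨h1, h3⟩
      · rintro ⟨h1, h3⟩
        refine ⟨⟨h1, ?_⟩, h3⟩
        rw [h3]
        exact hne
    · apply Nat.card_congr
      apply Equiv.subtypeEquivRight
      intro M
      constructor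
      · rintro ⟨⟨h1, h2⟩, h3⟩
        exact ⟨h1, (rest_iff hp h1).1 ⟨h2, h3⟩⟩
      · rintro ⟨h1, h3⟩
        have := (rest_iff hp h1).2 h3
        exact ⟨⟨h1, this.1⟩, this.2⟩
  refine ⟨t, ?_⟩
  rw [← hT, hT2, ← hΩ, hsplit, hA, ht]
  ring

end Main4

section MaxCount
variable {L : Type*} [Group L] [Finite L] {p : ℕ} [hpf : Fact p.Prime]
  {C : Type*} [CommGroup C] [Finite C]

omit hpf in
/-- in a finite cyclic group a subgroup is determined by its order -/
theorem eq_of_card_eq_of_isCyclic [IsCyclic L] (H K : Subgroup L)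
    (h : Nat.card H = Nat.card K) : H = K := by
  classical
  let _ : Fintype L := Fintype.ofFinite L
  have hn0 : 0 < Nat.card H := Nat.card_pos
  have key : ∀ M : Subgroup L, Nat.card M = Nat.card H →
      (M : Set L).toFinset = Finset.univ.filter (fun a : L => a ^ Nat.card H = 1) := by
    intro M hM
    apply Finset.eq_of_subset_of_card_le
    · intro x hx
      simp only [Set.mem_toFinset, SetLike.mem_coe] at hx
      simp only [Finset.mem_filter, Finset.mem_univ, true_and]
      have := pow_card_eq_one' (G := M) (x := ⟨x, hx⟩)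
      rw [hM] at this
      exact congrArg Subtype.val this
    · calc _ ≤ Nat.card H := IsCyclic.card_pow_eq_one_le hn0
        _ = Nat.card M := hM.symm
        _ = _ := by
          rw [Set.toFinset_card, Nat.card_eq_fintype_card]
          rfl
  have h1 := key H rfl
  have h2 := key K h.symm
  have : (H : Set L) = (K : Set L) := Set.toFinset_inj.mp (h1.trans h2.symm)
  exact SetLike.coe_injective this

omit [Finite L] [Finite C] in
theorem card_cyc : Nat.card (Multiplicative (ZMod p)) = p := by
  rw [Nat.card_eq_fintype_card, Fintype.card_multiplicative, ZMod.card]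

omit [Finite L] [Finite C] in
/-- kernel of a nontrivial hom to the group of order `p` -/
theorem card_ker_of_ne_one (hC : Nat.card C = p) {b : ℕ} (hL : Nat.card L = p ^ (b + 1))
    (φ : L →* C) (hφ : φ ≠ 1) : Nat.card φ.ker = p ^ b := by
  have hp := hpf.out
  have h1 := φ.ker.card_mul_index
  rw [Subgroup.index_ker, hL] at h1
  have h2 : Nat.card φ.range ∣ p := by
    have := Subgroup.card_subgroup_dvd_card φ.range
    rwa [hC] at this
  rcases (Nat.dvd_prime hp).1 h2 with h3 | h3
  · exfalso
    apply hφ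
    have : φ.range = ⊥ := Subgroup.card_eq_one.1 h3
    ext x
    have hx : φ x ∈ φ.range := ⟨x, rfl⟩
    rw [this, Subgroup.mem_bot] at hx
    rw [hx]; rfl
  · rw [h3, pow_succ] at h1
    exact Nat.eq_of_mul_eq_mul_right hp.pos h1

omit [Finite L] in
theorem normal_of_card {b : ℕ} (hL : Nat.card L = p ^ (b + 1)) (K : Subgroup L)
    (hK : Nat.card K = p ^ b) : K.Normal := by
  have hp := hpf.out
  apply Subgroup.normal_of_index_eq_minFac_card
  rw [hL, Nat.pow_minFac (Nat.succ_ne_zero b), hp.minFac_eq]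
  have h := K.card_mul_index
  rw [hK, hL, pow_succ] at h
  exact Nat.eq_of_mul_eq_mul_left (pow_pos hp.pos b) h

/-- the homs with a given kernel of index `p` -/
theorem card_hom_ker_eq (hC : Nat.card C = p) {b : ℕ} (hL : Nat.card L = p ^ (b + 1))
    (K : Subgroup L) (hK : Nat.card K = p ^ b) :
    Nat.card {φ : L →* C // φ.ker = K} = p - 1 := by
  classical
  have hp := hpf.out
  have hKn : K.Normal := normal_of_card hL K hK
  have hQ : Nat.card (L ⧸ K) = p := by
    have h := K.card_mul_index
    rw [hK, hL, pow_succ] at h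
    rw [← Subgroup.index_eq_card]
    exact Nat.eq_of_mul_eq_mul_left (pow_pos hp.pos b) h
  have hKtop : K ≠ ⊤ := by
    intro h
    rw [h, Subgroup.card_top, hL] at hK
    have := Nat.pow_right_injective hp.two_le hK
    omega
  obtain ⟨g, hg⟩ : ∃ g : L, g ∉ K := by
    by_contra hcon
    push Not at hcon
    exact hKtop (eq_top_iff.2 fun x _ => hcon x)
  have hg1 : (QuotientGroup.mk g : L ⧸ K) ≠ 1 := by
    intro h
    exact hg ((QuotientGroup.eq_one_iff g).1 h)
  have hgen : ∀ x : L ⧸ K, x ∈ zpowers (QuotientGroup.mk g : L ⧸ K) := by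
    intro x
    rw [zpowers_eq_top_of_prime_card hQ hg1]
    exact mem_top x
  have hord : orderOf (QuotientGroup.mk g : L ⧸ K) = p := by
    have h1 : orderOf (QuotientGroup.mk g : L ⧸ K) ∣ p := by
      rw [← hQ]; exact orderOf_dvd_natCard _
    rcases (Nat.dvd_prime hp).1 h1 with h | h
    · exact absurd (orderOf_eq_one_iff.1 h) hg1
    · exact h
  -- decomposition of elements
  have hdec : ∀ x : L, ∃ (i : ℤ) (k : L), k ∈ K ∧ x = g ^ i * k := by
    intro x
    obtain ⟨i, hi⟩ := mem_zpowers_iff.1 (hgen (QuotientGroup.mk x))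
    refine ⟨i, (g ^ i)⁻¹ * x, ?_, by group⟩
    rw [← QuotientGroup.eq]
    rw [← hi]
    rfl
  have hcnt : Nat.card {c : C // c ≠ 1} = p - 1 := by
    have h1 := card_split (α := C) (fun _ => True) (fun c => c = 1)
    have h2 : Nat.card {x : C // True} = p := by
      rw [← hC]; exact Nat.card_congr (Equiv.subtypeUnivEquiv (fun _ => trivial))
    have h3 : Nat.card {x : C // True ∧ x = 1} = 1 := by
      rw [Nat.card_eq_one_iff_unique]
      exact ⟨⟨fun a b => Subtype.ext (a.2.2.trans b.2.2.symm)⟩, ⟨⟨1, trivial, rfl⟩⟩⟩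
    have h4 : Nat.card {x : C // True ∧ ¬ x = 1} = Nat.card {c : C // c ≠ 1} :=
      Nat.card_congr (Equiv.subtypeEquivRight (fun x => by simp))
    rw [h2, h3, h4] at h1
    omega
  rw [← hcnt]
  refine Nat.card_congr (Equiv.ofBijective
    (fun φ => (⟨φ.1 g, fun h => hg (by rw [← φ.2]; exact h)⟩ :
      {c : C // c ≠ 1})) ⟨?_, ?_⟩)
  · intro φ ψ hφψ
    have hval : φ.1 g = ψ.1 g := congrArg Subtype.val hφψ
    apply Subtype.ext
    ext x
    obtain ⟨i, k, hk, rfl⟩ := hdec x
    have h1 : φ.1 k = 1 := by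
      have : k ∈ φ.1.ker := by rw [φ.2]; exact hk
      exact this
    have h2 : ψ.1 k = 1 := by
      have : k ∈ ψ.1.ker := by rw [ψ.2]; exact hk
      exact this
    rw [map_mul, map_mul, map_zpow, map_zpow, h1, h2, hval]
  · rintro ⟨c, hc⟩
    have hoc : orderOf c ∣ orderOf (QuotientGroup.mk g : L ⧸ K) := by
      rw [hord, ← hC]
      exact orderOf_dvd_natCard _
    let ψ : L ⧸ K →* C := monoidHomOfForallMemZpowers hgen hoc
    let φ : L →* C := ψ.comp (QuotientGroup.mk' K)
    have hφg : φ g = c := monoidHomOfForallMemZpowers_apply_gen hgen hoc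
    have hφ1 : φ ≠ 1 := by
      intro h
      rw [h] at hφg
      exact hc hφg.symm
    have hle : K ≤ φ.ker := by
      intro k hk
      rw [MonoidHom.mem_ker]
      show ψ (QuotientGroup.mk k) = 1
      rw [(QuotientGroup.eq_one_iff k).2 hk, map_one]
    have hker : φ.ker = K := by
      symm
      apply Subgroup.eq_of_le_of_card_ge hle
      rw [card_ker_of_ne_one hC hL φ hφ1, hK]
    exact ⟨⟨φ, hker⟩, Subtype.ext hφg⟩

end MaxCount

section MaxCount2
variable {L : Type*} [Group L] [Finite L] {p : ℕ} [hpf : Fact p.Prime]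
  {C : Type*} [CommGroup C] [Finite C]

omit hpf in
theorem finite_hom : Finite (L →* C) :=
  Finite.of_injective (fun φ => (φ : L → C)) DFunLike.coe_injective

theorem card_hom_eq (hC : Nat.card C = p) {b : ℕ} (hL : Nat.card L = p ^ (b + 1)) :
    Nat.card (L →* C) = 1 + (p - 1) * Nat.card {K : Subgroup L // Nat.card K = p ^ b} := by
  classical
  have hp := hpf.out
  have : Finite (L →* C) := finite_hom
  have h1 := card_split (α := L →* C) (fun _ => True) (fun φ => φ = 1)
  have h2 : Nat.card {x : L →* C // True} = Nat.card (L →* C) :=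
    Nat.card_congr (Equiv.subtypeUnivEquiv (fun _ => trivial))
  have h3 : Nat.card {x : L →* C // True ∧ x = 1} = 1 := by
    rw [Nat.card_eq_one_iff_unique]
    exact ⟨⟨fun a b => Subtype.ext (a.2.2.trans b.2.2.symm)⟩, ⟨⟨1, trivial, rfl⟩⟩⟩
  rw [h2, h3] at h1
  rw [h1]
  congr 1
  let _ : Fintype {K : Subgroup L // Nat.card K = p ^ b} := Fintype.ofFinite _
  let f : {x : L →* C // True ∧ ¬ x = 1} → {K : Subgroup L // Nat.card K = p ^ b} :=
    fun φ => ⟨φ.1.ker, card_ker_of_ne_one hC hL φ.1 φ.2.2⟩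
  rw [Nat.card_congr (Equiv.sigmaFiberEquiv f).symm, Nat.card_sigma]
  have hfib : ∀ K : {K : Subgroup L // Nat.card K = p ^ b}, Nat.card {φ // f φ = K} = p - 1 := by
    intro K
    rw [← card_hom_ker_eq hC hL K.1 K.2]
    have hKtop : K.1 ≠ ⊤ := by
      intro h
      have := K.2
      rw [h, Subgroup.card_top, hL] at this
      have := Nat.pow_right_injective hp.two_le this
      omega
    refine Nat.card_congr
      { toFun := fun φ => ⟨φ.1.1, congrArg Subtype.val φ.2⟩
        invFun := fun φ => ⟨⟨φ.1, trivial, by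
          intro h
          apply hKtop
          rw [← φ.2, h]
          exact MonoidHom.ker_one⟩, Subtype.ext φ.2⟩
        left_inv := fun φ => rfl
        right_inv := fun φ => rfl }
  simp only [hfib, Finset.sum_const, Finset.card_univ, smul_eq_mul, Nat.card_eq_fintype_card]
  rw [mul_comm]

theorem maxCount_cyclic {b : ℕ} (hL : Nat.card L = p ^ (b + 1)) (hcyc : IsCyclic L) :
    Nat.card {K : Subgroup L // Nat.card K = p ^ b} = 1 := by
  rw [Nat.card_eq_one_iff_unique]
  constructor
  · exact ⟨fun H K => Subtype.ext (eq_of_card_eq_of_isCyclic H.1 K.1 (H.2.trans K.2.symm))⟩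
  · obtain ⟨K, hK⟩ := Sylow.exists_subgroup_card_pow_prime (G := L) p (n := b)
      (by rw [hL]; exact pow_dvd_pow p (Nat.le_succ b))
    exact ⟨⟨K, hK⟩⟩

theorem maxCount_noncyclic {b : ℕ} (hL : Nat.card L = p ^ (b + 1)) (hnc : ¬ IsCyclic L) :
    Nat.card {K : Subgroup L // Nat.card K = p ^ b} ≡ 1 + p [MOD p ^ 2] := by
  classical
  have hp := hpf.out
  set mc := Nat.card {K : Subgroup L // Nat.card K = p ^ b} with hmc
  have hcount := card_hom_eq (L := L) (C := Multiplicative (ZMod p)) card_cyc hL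
  rw [← hmc] at hcount
  -- the hom group is a p-group
  have : Finite (L →* Multiplicative (ZMod p)) := finite_hom
  have hV : IsPGroup p (L →* Multiplicative (ZMod p)) := by
    intro φ
    refine ⟨1, ?_⟩
    ext x
    rw [pow_one, MonoidHom.pow_apply]
    have := pow_card_eq_one' (G := Multiplicative (ZMod p)) (x := φ x)
    rw [card_cyc] at this
    rw [this]; rfl
  obtain ⟨d, hd⟩ := IsPGroup.iff_card.1 hV
  rw [hd] at hcount
  -- mc ≥ 2
  have hmc1 : mc ≠ 1 := by
    intro h1
    apply hnc
    rw [hmc, Nat.card_eq_one_iff_unique] at h1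
    obtain ⟨hsub, ⟨K0⟩⟩ := h1
    have hKtop : K0.1 ≠ ⊤ := by
      intro h
      have := K0.2
      rw [h, Subgroup.card_top, hL] at this
      have := Nat.pow_right_injective hp.two_le this
      omega
    obtain ⟨g, hg⟩ : ∃ g : L, g ∉ K0.1 := by
      by_contra hcon
      push Not at hcon
      exact hKtop (eq_top_iff.2 fun x _ => hcon x)
    have hz : zpowers g = ⊤ := by
      by_contra hne
      have h1 : Nat.card (zpowers g) ∣ p ^ (b + 1) := by
        rw [← hL]; exact Subgroup.card_subgroup_dvd_card _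
      obtain ⟨j, hj, hj2⟩ := (Nat.dvd_prime_pow hp).1 h1
      have hjb : j ≤ b := by
        by_contra hcon
        have : j = b + 1 := by omega
        rw [this, ← hL] at hj2
        exact hne (Subgroup.eq_top_of_card_eq _ hj2)
      obtain ⟨K, hK, hle⟩ := Sylow.exists_subgroup_card_pow_prime_le (G := L) p (n := j) (m := b)
        (by rw [hL]; exact pow_dvd_pow p (Nat.le_succ b)) (zpowers g) hj2 hjb
      have : (⟨K, hK⟩ : {K : Subgroup L // Nat.card K = p ^ b}) = K0 := Subsingleton.elim _ _
      have hK0 : K = K0.1 := congrArg Subtype.val this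
      exact hg (hK0 ▸ hle (mem_zpowers g))
    exact isCyclic_iff_exists_zpowers_eq_top.2 ⟨g, hz⟩
  have hmc0 : mc ≠ 0 := by
    obtain ⟨K, hK⟩ := Sylow.exists_subgroup_card_pow_prime (G := L) p (n := b)
      (by rw [hL]; exact pow_dvd_pow p (Nat.le_succ b))
    have : Nonempty {K : Subgroup L // Nat.card K = p ^ b} := ⟨⟨K, hK⟩⟩
    exact Nat.card_pos.ne'
  have hd2 : 2 ≤ d := by
    by_contra hcon
    have hp1 : 1 ≤ p - 1 := by have := hp.two_le; omega
    have hd01 : d = 0 ∨ d = 1 := by omega
    rcases hd01 with h | h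
    · rw [h, pow_zero] at hcount
      have : (p - 1) * mc = 0 := by omega
      rcases Nat.mul_eq_zero.1 this with h' | h'
      · omega
      · exact hmc0 h'
    · rw [h, pow_one] at hcount
      have h5 : (p - 1) * mc = (p - 1) * 1 := by have := hp.two_le; omega
      exact hmc1 (Nat.eq_of_mul_eq_mul_left (by omega) h5)
  -- conclude
  have hdiv : p ^ 2 ∣ 1 + (p - 1) * mc := by
    rw [← hcount]
    exact pow_dvd_pow p hd2
  have hcop : Nat.Coprime (p ^ 2) (p - 1) := by
    apply Nat.Coprime.pow_left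
    rw [Nat.coprime_comm]
    apply Nat.Coprime.symm
    rw [hp.coprime_iff_not_dvd]
    intro h
    have := Nat.le_of_dvd (by have := hp.two_le; omega) h
    have := hp.two_le
    omega
  have h6 : (p - 1) * mc ≡ (p - 1) * (1 + p) [MOD p ^ 2] := by
    have e1 : (p - 1) * (1 + p) + 1 = p ^ 2 := by
      obtain ⟨q, rfl⟩ : ∃ q, p = q + 1 := ⟨p - 1, by have := hp.two_le; omega⟩
      simp only [Nat.add_sub_cancel]
      ring
    have e2 : (p - 1) * mc + 1 ≡ (p - 1) * (1 + p) + 1 [MOD p ^ 2] := by
      rw [e1]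
      have h7 : (p - 1) * mc + 1 ≡ 0 [MOD p ^ 2] := by
        rw [Nat.modEq_zero_iff_dvd, add_comm]; exact hdiv
      exact h7.trans (by rw [Nat.ModEq, Nat.mod_self, Nat.zero_mod])
    exact Nat.ModEq.add_right_cancel' 1 e2
  exact Nat.ModEq.cancel_left_of_coprime hcop h6

end MaxCount2

section Pairs
variable {G : Type*} [Group G] [Finite G] {p : ℕ} [hpf : Fact p.Prime]

omit [Finite G] hpf in
theorem card_subgroups_le (L : Subgroup G) (c : ℕ) :
    Nat.card {K : Subgroup G // Nat.card K = c ∧ K ≤ L} =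
      Nat.card {K' : Subgroup L // Nat.card K' = c} := by
  symm
  refine Nat.card_congr
    { toFun := fun K' => ⟨K'.1.map L.subtype, by
        rw [Subgroup.card_map_of_injective L.subtype_injective]; exact K'.2,
        Subgroup.map_subtype_le K'.1⟩
      invFun := fun K => ⟨K.1.subgroupOf L, by
        rw [Nat.card_congr (Subgroup.subgroupOfEquivOfLe K.2.2).toEquiv]; exact K.2.1⟩
      left_inv := fun K' => by
        apply Subtype.ext
        exact Subgroup.comap_map_eq_self_of_injective L.subtype_injective K'.1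
      right_inv := fun K => by
        apply Subtype.ext
        exact Subgroup.map_subgroupOf_eq_of_le K.2.2 }

theorem card_pairs_modEq (b : ℕ) :
    Nat.card {q : Subgroup G × Subgroup G // Nat.card q.1 = p ^ b ∧
        Nat.card q.2 = p ^ (b + 1) ∧ q.1 ≤ q.2} ≡
      Nat.card {L : Subgroup G // Nat.card L = p ^ (b + 1)} +
        p * Nat.card {L : Subgroup G // Nat.card L = p ^ (b + 1) ∧ ¬ IsCyclic L} [MOD p ^ 2] := by
  classical
  let _ : Fintype {L : Subgroup G // Nat.card L = p ^ (b + 1)} := Fintype.ofFinite _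
  have e1 : {q : Subgroup G × Subgroup G // Nat.card q.1 = p ^ b ∧
        Nat.card q.2 = p ^ (b + 1) ∧ q.1 ≤ q.2} ≃
      Σ L : {L : Subgroup G // Nat.card L = p ^ (b + 1)},
        {K : Subgroup G // Nat.card K = p ^ b ∧ K ≤ L.1} :=
    { toFun := fun q => ⟨⟨q.1.2, q.2.2.1⟩, ⟨q.1.1, q.2.1, q.2.2.2⟩⟩
      invFun := fun s => ⟨(s.2.1, s.1.1), s.2.2.1, s.1.2, s.2.2.2⟩
      left_inv := fun q => rfl
      right_inv := fun s => rfl }
  rw [Nat.card_congr e1, Nat.card_sigma]
  have hterm : ∀ L ∈ (Finset.univ : Finset {L : Subgroup G // Nat.card L = p ^ (b + 1)}),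
      Nat.card {K : Subgroup G // Nat.card K = p ^ b ∧ K ≤ L.1} ≡
        (if IsCyclic L.1 then 1 else 1 + p) [MOD p ^ 2] := by
    intro L _
    rw [card_subgroups_le]
    by_cases hc : IsCyclic L.1
    · rw [if_pos hc, maxCount_cyclic L.2 hc]
    · rw [if_neg hc]
      exact maxCount_noncyclic L.2 hc
  refine (Nat.ModEq.sum hterm).trans ?_
  rw [Finset.sum_ite, Finset.sum_const, Finset.sum_const, smul_eq_mul, smul_eq_mul, mul_one]
  have h1 := Finset.card_filter_add_card_filter_not
    (s := (Finset.univ : Finset {L : Subgroup G // Nat.card L = p ^ (b + 1)}))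
    (fun L => IsCyclic L.1)
  have h2 : (Finset.univ.filter
      (fun L : {L : Subgroup G // Nat.card L = p ^ (b + 1)} => ¬ IsCyclic L.1)).card =
      Nat.card {L : Subgroup G // Nat.card L = p ^ (b + 1) ∧ ¬ IsCyclic L} := by
    rw [← Fintype.card_subtype, ← Nat.card_eq_fintype_card]
    exact Nat.card_congr (Equiv.subtypeSubtypeEquivSubtypeInter
      (fun L : Subgroup G => Nat.card L = p ^ (b + 1)) (fun L : Subgroup G => ¬ IsCyclic L))
  rw [h2] at h1 ⊢
  rw [Nat.card_eq_fintype_card (α := {L : Subgroup G // Nat.card L = p ^ (b + 1)}),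
    ← Finset.card_univ, ← h1]
  have : ∀ x y : ℕ, x + y * (1 + p) = x + y + p * y := by intro x y; ring
  rw [this]

end Pairs

section Final
variable {G : Type*} [Group G] [Finite G] {p : ℕ} [hpf : Fact p.Prime]

theorem card_subgroups_cyclic [IsCyclic G] {j : ℕ} (hdvd : p ^ j ∣ Nat.card G) :
    Nat.card {H : Subgroup G // Nat.card H = p ^ j} = 1 := by
  rw [Nat.card_eq_one_iff_unique]
  constructor
  · exact ⟨fun H K => Subtype.ext (eq_of_card_eq_of_isCyclic H.1 K.1 (H.2.trans K.2.symm))⟩
  · obtain ⟨K, hK⟩ := Sylow.exists_subgroup_card_pow_prime (G := G) p (n := j) hdvd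
    exact ⟨⟨K, hK⟩⟩

omit hpf in
theorem choose_aux (hp : p.Prime) (m : ℕ) (hm : m ≠ 0) :
    ∃ u, (p * m).choose p = m * u ∧ u ≡ 1 [MOD p] := by
  refine ⟨(p * m - 1).choose (p - 1), ?_, ?_⟩
  · have h1 := Nat.add_one_mul_choose_eq (p * m - 1) (p - 1)
    have hpm : 0 < p * m := Nat.mul_pos hp.pos (Nat.pos_of_ne_zero hm)
    have e1 : p * m - 1 + 1 = p * m := by omega
    have e2 : p - 1 + 1 = p := by have := hp.pos; omega
    rw [e1, e2] at h1
    have h2 : p * (m * (p * m - 1).choose (p - 1)) = p * ((p * m).choose p) := by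
      rw [mul_comm ((p * m).choose p) p] at h1
      rw [← h1]; ring
    exact (Nat.eq_of_mul_eq_mul_left hp.pos h2).symm
  · have : Fact p.Prime := ⟨hp⟩
    have h1 := Choose.choose_modEq_choose_mod_mul_choose_div_nat (p := p) (n := p * m - 1)
      (k := p - 1)
    obtain ⟨m', rfl⟩ : ∃ m', m = m' + 1 := ⟨m - 1, by omega⟩
    have e0 : p * (m' + 1) - 1 = (p - 1) + p * m' := by
      have := hp.pos
      rw [mul_add, mul_one]; omega
    have e1 : (p * (m' + 1) - 1) % p = p - 1 := by
      rw [e0, Nat.add_mul_mod_self_left]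
      exact Nat.mod_eq_of_lt (by have := hp.pos; omega)
    have e2 : (p * (m' + 1) - 1) / p = m' := by
      rw [e0, Nat.add_mul_div_left _ _ hp.pos, Nat.div_eq_of_lt (by have := hp.pos; omega),
        zero_add]
    have e3 : (p - 1) % p = p - 1 := Nat.mod_eq_of_lt (by have := hp.pos; omega)
    have e4 : (p - 1) / p = 0 := Nat.div_eq_of_lt (by have := hp.pos; omega)
    rw [e1, e2, e3, e4, Nat.choose_self, Nat.choose_zero_right, mul_one] at h1
    exact h1

/-- **Counting theorem** (Wielandt-type): if `p ^ (b+1)` divides `|G|`, the number of subgroups of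
order `p ^ b` is congruent mod `p ^ 2` to `1 + p * (number of non-cyclic subgroups of order
p ^ (b+1))`. -/
theorem card_subgroups_modEq (b m : ℕ) (hG : Nat.card G = p ^ (b + 1) * m) :
    Nat.card {H : Subgroup G // Nat.card H = p ^ b} ≡
      1 + p * Nat.card {L : Subgroup G // Nat.card L = p ^ (b + 1) ∧ ¬ IsCyclic L}
        [MOD p ^ 2] := by
  classical
  have hp := hpf.out
  have hm : m ≠ 0 := by
    rintro rfl
    rw [mul_zero] at hG
    exact Nat.card_pos.ne' hG
  have hN : p ^ (b + 1) * m ≠ 0 := Nat.mul_ne_zero (pow_ne_zero _ hp.ne_zero) hm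
  have : NeZero (p ^ (b + 1) * m) := ⟨hN⟩
  have hZ : Nat.card (Multiplicative (ZMod (p ^ (b + 1) * m))) = p ^ (b + 1) * m := by
    rw [Nat.card_eq_fintype_card, Fintype.card_multiplicative, ZMod.card]
  obtain ⟨t, ht⟩ := main_identity (G := G) p b m hp hG
  obtain ⟨t', ht'⟩ := main_identity (G := Multiplicative (ZMod (p ^ (b + 1) * m))) p b m hp hZ
  have hs1 : Nat.card {H : Subgroup (Multiplicative (ZMod (p ^ (b + 1) * m))) //
      Nat.card H = p ^ b} = 1 :=
    card_subgroups_cyclic (by rw [hZ]; exact Dvd.dvd.mul_right (pow_dvd_pow p (Nat.le_succ b)) m)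
  have hs2 : Nat.card {H : Subgroup (Multiplicative (ZMod (p ^ (b + 1) * m))) //
      Nat.card H = p ^ (b + 1)} = 1 :=
    card_subgroups_cyclic (by rw [hZ]; exact Dvd.intro m rfl)
  have hprZ := card_pairs_modEq (G := Multiplicative (ZMod (p ^ (b + 1) * m))) (p := p) b
  have hnc : Nat.card {L : Subgroup (Multiplicative (ZMod (p ^ (b + 1) * m))) //
      Nat.card L = p ^ (b + 1) ∧ ¬ IsCyclic L} = 0 := by
    have : IsEmpty {L : Subgroup (Multiplicative (ZMod (p ^ (b + 1) * m))) //
      Nat.card L = p ^ (b + 1) ∧ ¬ IsCyclic L} := ⟨fun L => L.2.2 inferInstance⟩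
    exact Nat.card_of_isEmpty
  rw [hs2, hnc, mul_zero, add_zero] at hprZ
  rw [hs1, hs2] at ht'
  have hprG := card_pairs_modEq (G := G) (p := p) b
  obtain ⟨u, hu1, hu2⟩ := choose_aux hp m hm
  rw [hu1] at ht ht'
  -- names
  set sb := Nat.card {H : Subgroup G // Nat.card H = p ^ b} with hsb
  set sb1 := Nat.card {H : Subgroup G // Nat.card H = p ^ (b + 1)} with hsb1
  set nc := Nat.card {L : Subgroup G // Nat.card L = p ^ (b + 1) ∧ ¬ IsCyclic L} with hncdef
  set PRG := Nat.card {q : Subgroup G × Subgroup G // Nat.card q.1 = p ^ b ∧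
        Nat.card q.2 = p ^ (b + 1) ∧ q.1 ≤ q.2} with hPRG
  set PRZ := Nat.card {q : Subgroup (Multiplicative (ZMod (p ^ (b + 1) * m))) ×
      Subgroup (Multiplicative (ZMod (p ^ (b + 1) * m))) // Nat.card q.1 = p ^ b ∧
        Nat.card q.2 = p ^ (b + 1) ∧ q.1 ≤ q.2} with hPRZ
  set Ch := (p ^ (b + 1) * m).choose (p ^ (b + 1)) with hCh
  clear_value sb sb1 nc PRG PRZ Ch
  -- integer identity
  have hI : ((sb : ℤ) - 1) * u + (p : ℤ) ^ 2 * ((t : ℤ) - t') + ((sb1 : ℤ) - 1) =
      (PRG : ℤ) - PRZ := by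
    have h1 : ((sb * (m * u) + p ^ 2 * m * t + m * sb1 : ℕ) : ℤ) = ((Ch + m * PRG : ℕ) : ℤ) :=
      congrArg _ ht
    have h2 : ((1 * (m * u) + p ^ 2 * m * t' + m * 1 : ℕ) : ℤ) = ((Ch + m * PRZ : ℕ) : ℤ) :=
      congrArg _ ht'
    push_cast at h1 h2
    have hm' : (m : ℤ) ≠ 0 := by exact_mod_cast hm
    apply mul_left_cancel₀ hm'
    linear_combination h1 - h2
  -- reduce mod p^2
  have hc1 : ((PRG : ℕ) : ZMod (p ^ 2)) = ((sb1 + p * nc : ℕ) : ZMod (p ^ 2)) :=
    (ZMod.natCast_eq_natCast_iff _ _ _).2 hprG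
  have hc2 : ((PRZ : ℕ) : ZMod (p ^ 2)) = ((1 : ℕ) : ZMod (p ^ 2)) :=
    (ZMod.natCast_eq_natCast_iff _ _ _).2 hprZ
  have hI2 := congrArg (Int.cast : ℤ → ZMod (p ^ 2)) hI
  push_cast at hI2 hc1 hc2
  have hpz : ((p : ZMod (p ^ 2))) ^ 2 = 0 := by
    have := ZMod.natCast_self (p ^ 2)
    push_cast at this
    exact this
  rw [hc1, hc2, hpz, zero_mul, add_zero] at hI2
  have hI3 : ((sb : ZMod (p ^ 2)) - 1) * u = p * nc := by linear_combination hI2
  -- u = 1 + p v
  obtain ⟨v, hv⟩ : ∃ v : ℤ, (u : ℤ) = 1 + p * v := by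
    have := (Nat.modEq_iff_dvd.1 hu2.symm)
    obtain ⟨v, hv⟩ := this
    exact ⟨v, by push_cast at hv; linarith⟩
  have hv' := congrArg (Int.cast : ℤ → ZMod (p ^ 2)) hv
  push_cast at hv'
  rw [← ZMod.natCast_eq_natCast_iff]
  push_cast
  have key : ((sb : ZMod (p ^ 2)) - 1) = p * nc := by
    have e1 : ((sb : ZMod (p ^ 2)) - 1) =
        ((sb : ZMod (p ^ 2)) - 1) * u * (1 - p * v) + ((sb : ZMod (p ^ 2)) - 1) * v ^ 2 * p ^ 2 := by
      rw [hv']; ring
    rw [e1, hI3, hpz]
    have e2 : (p : ZMod (p ^ 2)) * nc * (1 - p * v) = p * nc - p ^ 2 * nc * v := by ring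
    rw [e2, hpz]; ring
  linear_combination key

end Final

section Frobenius
variable {G : Type*} [Group G] [Finite G] {p : ℕ} [hpf : Fact p.Prime]

/-- **Frobenius' theorem**: the number of subgroups of order `p ^ n` is `≡ 1 (mod p)`. -/
theorem card_subgroups_modEq_one (n : ℕ) (hdvd : p ^ n ∣ Nat.card G) :
    Nat.card {H : Subgroup G // Nat.card H = p ^ n} ≡ 1 [MOD p] := by
  have hp := hpf.out
  by_cases h : p ^ (n + 1) ∣ Nat.card G
  · obtain ⟨m, hm⟩ := h
    have h1 := (card_subgroups_modEq (G := G) (p := p) n m hm).of_dvd (Dvd.intro_left (p ^ 1)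
      (by rw [← pow_succ]))
    refine h1.trans ?_
    rw [Nat.ModEq, Nat.add_mul_mod_self_left]
  · have hfac : (Nat.card G).factorization p = n := by
      have hG0 : Nat.card G ≠ 0 := Nat.card_pos.ne'
      have h1 : n ≤ (Nat.card G).factorization p :=
        (hp.pow_dvd_iff_le_factorization hG0).1 hdvd
      have h2 : ¬ n + 1 ≤ (Nat.card G).factorization p := fun h' =>
        h ((hp.pow_dvd_iff_le_factorization hG0).2 h')
      omega
    have e : {H : Subgroup G // Nat.card H = p ^ n} ≃ Sylow p G :=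
      { toFun := fun H => Sylow.ofCard H.1 (by rw [H.2, hfac])
        invFun := fun P => ⟨P.1, by rw [P.card_eq_multiplicity, hfac]⟩
        left_inv := fun H => rfl
        right_inv := fun P => Sylow.ext rfl }
    rw [Nat.card_congr e]
    exact card_sylow_modEq_one p G

end Frobenius

section Reduction
variable {G : Type*} [Group G]

theorem mem_map_conj {C : Subgroup G} {g x : G} :
    x ∈ C.map (MulAut.conj g).toMonoidHom ↔ g⁻¹ * x * g ∈ C := by
  simp only [Subgroup.mem_map, MulEquiv.coe_toMonoidHom, MulAut.conj_apply]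
  constructor
  · rintro ⟨y, hy, rfl⟩
    simpa [mul_assoc] using hy
  · intro h
    exact ⟨_, h, by group⟩

/-- Sylow reduction: for a conjugation-invariant class of `p`-subgroups, the number of members is
congruent mod `p` to the number of members contained in a given Sylow `p`-subgroup. -/
theorem card_modEq_card_le_sylow [Finite G] {p : ℕ} [hpf : Fact p.Prime] (P : Sylow p G)
    (Φ : Subgroup G → Prop)
    (hconj : ∀ (C : Subgroup G) (g : G), Φ C → Φ (C.map (MulAut.conj g).toMonoidHom))
    (hpg : ∀ C : Subgroup G, Φ C → IsPGroup p C) :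
    Nat.card {C : Subgroup G // Φ C} ≡ Nat.card {C : Subgroup G // Φ C ∧ C ≤ P} [MOD p] := by
  classical
  rw [card_split Φ (fun C => C ≤ (P : Subgroup G))]
  have key : Nat.card {C : Subgroup G // Φ C ∧ ¬ C ≤ P} ≡ 0 [MOD p] := by
    let act : MulAction (P : Subgroup G) {C : Subgroup G // Φ C ∧ ¬ C ≤ P} :=
      { smul := fun g C => ⟨C.1.map (MulAut.conj g.1).toMonoidHom, hconj C.1 g.1 C.2.1, by
          intro hle
          apply C.2.2
          intro x hx
          have h1 : g.1 * x * g.1⁻¹ ∈ C.1.map (MulAut.conj g.1).toMonoidHom := by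
            rw [mem_map_conj]
            simpa [mul_assoc] using hx
          have h2 := hle h1
          have h3 := (P : Subgroup G).mul_mem ((P : Subgroup G).mul_mem
            ((P : Subgroup G).inv_mem g.2) h2) g.2
          simpa [mul_assoc] using h3⟩
        one_smul := fun C => by
          apply Subtype.ext
          ext x
          show x ∈ C.1.map (MulAut.conj ((1 : (P : Subgroup G)) : G)).toMonoidHom ↔ x ∈ C.1
          rw [mem_map_conj]
          simp
        mul_smul := fun g h C => by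
          apply Subtype.ext
          ext x
          show x ∈ C.1.map (MulAut.conj ((g * h : (P : Subgroup G)) : G)).toMonoidHom ↔
            x ∈ (C.1.map (MulAut.conj h.1).toMonoidHom).map (MulAut.conj g.1).toMonoidHom
          rw [mem_map_conj, mem_map_conj, mem_map_conj]
          simp [mul_assoc] }
    have h1 := P.2.card_modEq_card_fixedPoints {C : Subgroup G // Φ C ∧ ¬ C ≤ P}
    have h2 : IsEmpty (MulAction.fixedPoints (P : Subgroup G)
        {C : Subgroup G // Φ C ∧ ¬ C ≤ P}) := by
      constructor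
      rintro ⟨C, hC⟩
      apply C.2.2
      have hfix : ∀ g ∈ (P : Subgroup G), C.1.map (MulAut.conj g).toMonoidHom = C.1 := by
        intro g hg
        exact congrArg Subtype.val (hC ⟨g, hg⟩)
      have hnorm : (P : Subgroup G) ≤ Subgroup.normalizer (C.1 : Set G) := by
        intro g hg
        rw [Subgroup.mem_normalizer_iff]
        intro x
        constructor
        · intro hx
          rw [← hfix g hg, mem_map_conj]
          simpa [mul_assoc] using hx
        · intro hx
          rw [← hfix g hg, mem_map_conj] at hx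
          simpa [mul_assoc] using hx
      have hQ : IsPGroup p (C.1 ⊔ (P : Subgroup G) : Subgroup G) :=
        IsPGroup.to_sup_of_normal_left' (hpg C.1 C.2.1) P.2 hnorm
      have := P.is_maximal' hQ le_sup_right
      exact le_sup_left.trans this.le
    have h3 : Nat.card (MulAction.fixedPoints (P : Subgroup G)
        {C : Subgroup G // Φ C ∧ ¬ C ≤ P}) = 0 := Nat.card_of_isEmpty
    rw [h3] at h1
    exact h1
  have := Nat.ModEq.add_left (Nat.card {C : Subgroup G // Φ C ∧ C ≤ P}) key
  simpa using this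

end Reduction

end Cfsg.Agent.Lib.Helper70_Wielandt
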