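import Mathlib
import Cfsg.Prelude.Def_OddOrderLocal
import Cfsg.Agent.Lib.Helper51_Offender

/-!
# Arithmetic of the standard factorisation `M = K U M_σ` (helper78)

Elementary consequences of `Cfsg.IsSigmaDecomposition M K U` together with the Hall property of
`M_σ` in `M` (first conjunct of S1350): orders, coprimality, and the fact that `U` contains a Sylow
`p`-subgroup of `M` for every prime `p` dividing `#U`.
-/

set_option autoImplicit false

namespace Cfsg.Agent.Lib.Helper78_SigmaDecomp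

open Subgroup Cfsg

universe u

variable {G : Type u} [Group G]

/-- order formula for complements inside a subgroup -/
theorem card_of_isComplIn {A B M : Subgroup G} (h : IsComplIn A B M) :
    Nat.card M = Nat.card A * Nat.card B := by
  obtain ⟨hA, hB, hAB, hprod⟩ := h
  rw [← Nat.card_prod]
  symm
  refine Nat.card_congr (Equiv.ofBijective
    (fun x : ↥A × ↥B => (⟨(x.1 : G) * (x.2 : G), M.mul_mem (hA x.1.2) (hB x.2.2)⟩ : ↥M)) ⟨?_, ?_⟩)
  · rintro ⟨a, b⟩ ⟨a', b'⟩ hx
    have hx' : (a : G) * (b : G) = (a' : G) * (b' : G) := congrArg Subtype.val hx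
    have h1 : (a' : G)⁻¹ * (a : G) = (b' : G) * (b : G)⁻¹ := by
      have : (a : G) = (a' : G) * (b' : G) * (b : G)⁻¹ := by rw [← hx']; group
      rw [this]; group
    have h2 : (a' : G)⁻¹ * (a : G) ∈ A ⊓ B :=
      ⟨A.mul_mem (A.inv_mem a'.2) a.2, h1 ▸ B.mul_mem b'.2 (B.inv_mem b.2)⟩
    rw [hAB, mem_bot] at h2
    have h3 : (a : G) = (a' : G) := by
      have := inv_mul_eq_one.mp h2; exact this.symm
    have h4 : (b : G) = (b' : G) := by
      rw [h3] at hx'; exact mul_left_cancel hx'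
    exact Prod.ext (Subtype.ext h3) (Subtype.ext h4)
  · rintro ⟨m, hm⟩
    obtain ⟨a, ha, b, hb, hab⟩ := hprod m hm
    exact ⟨(⟨a, ha⟩, ⟨b, hb⟩), Subtype.ext hab.symm⟩

theorem not_mem_sigma_of_mem_kappa {M : Subgroup G} {p : ℕ} (h : p ∈ kappa M) : p ∉ sigma M :=
  h.2.2.1

theorem sigmaCore_le (M : Subgroup G) : sigmaCore M ≤ M := by
  rintro x ⟨y, -, rfl⟩
  exact y.2

theorem le_normalizer_sigmaCore (M : Subgroup G) : M ≤ normalizer (sigmaCore M : Set G) := by
  intro m hm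
  rw [mem_normalizer_iff]
  intro x
  constructor
  · rintro ⟨y, hy, rfl⟩
    refine ⟨(⟨m, hm⟩ : ↥M) * y * (⟨m, hm⟩ : ↥M)⁻¹, ?_, ?_⟩
    · exact (piCore_normal (sigma M) ↥M).conj_mem y hy _
    · simp
  · rintro ⟨y, hy, hyx⟩
    refine ⟨(⟨m, hm⟩ : ↥M)⁻¹ * y * (⟨m, hm⟩ : ↥M), ?_, ?_⟩
    · have := (piCore_normal (sigma M) ↥M).conj_mem y hy (⟨m, hm⟩ : ↥M)⁻¹
      simpa using this
    · have h1 : (M.subtype y : G) = m * x * m⁻¹ := hyx
      simp only [map_mul, map_inv, Subgroup.subtype_apply] at h1 ⊢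
      rw [h1]; group

set_option linter.unusedSectionVars false

variable [Finite G]

section decomp

variable {M K U : Subgroup G}

theorem U_le (hKU : IsSigmaDecomposition M K U) : U ≤ M := hKU.compl.1

theorem K_le (hKU : IsSigmaDecomposition M K U) : K ≤ M := hKU.hall.1

theorem U_inf_K (hKU : IsSigmaDecomposition M K U) : U ⊓ K = ⊥ := by
  have h := hKU.compl.2.2.1
  exact le_bot_iff.mp (h ▸ inf_le_inf_left U le_sup_left)

theorem U_inf_sigmaCore (hKU : IsSigmaDecomposition M K U) : U ⊓ sigmaCore M = ⊥ := by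
  have h := hKU.compl.2.2.1
  exact le_bot_iff.mp (h ▸ inf_le_inf_left U le_sup_right)

/-- primes dividing the order of `M_σ` lie in `σ(M)` (uses the Hall property) -/
theorem K_inf_sigmaCore (hKU : IsSigmaDecomposition M K U)
    (hH : IsPiHallOf (sigma M) (sigmaCore M) M) : K ⊓ sigmaCore M = ⊥ := by
  rw [eq_bot_iff]
  intro x hx
  rw [mem_bot]
  by_contra hx1
  have ho : orderOf x ≠ 1 := fun h => hx1 (orderOf_eq_one_iff.mp h)
  obtain ⟨p, hp, hpd⟩ := Nat.exists_prime_and_dvd ho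
  have h1 : p ∣ Nat.card K := hpd.trans (Subgroup.orderOf_dvd_natCard _ hx.1)
  have h2 : p ∣ Nat.card (sigmaCore M) := hpd.trans (Subgroup.orderOf_dvd_natCard _ hx.2)
  exact not_mem_sigma_of_mem_kappa (hKU.hall.2.1 p hp h1) (hH.2.1 p hp h2)

theorem card_K_sup_sigmaCore (hKU : IsSigmaDecomposition M K U)
    (hH : IsPiHallOf (sigma M) (sigmaCore M) M) :
    Nat.card ↥(K ⊔ sigmaCore M) = Nat.card K * Nat.card (sigmaCore M) := by
  have h := Cfsg.Agent.Lib.Helper51_Offender.card_sup_mul_card_inf (sigmaCore M) K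
    ((K_le hKU).trans (le_normalizer_sigmaCore M))
  rw [inf_comm, K_inf_sigmaCore hKU hH, Subgroup.card_bot, mul_one, sup_comm, mul_comm] at h
  exact h

theorem card_M (hKU : IsSigmaDecomposition M K U)
    (hH : IsPiHallOf (sigma M) (sigmaCore M) M) :
    Nat.card M = Nat.card U * (Nat.card K * Nat.card (sigmaCore M)) := by
  rw [card_of_isComplIn hKU.compl, card_K_sup_sigmaCore hKU hH]

/-- a prime dividing `#U` lies neither in `σ(M)` nor in `κ(M)` -/
theorem not_mem_of_dvd_card_U (hKU : IsSigmaDecomposition M K U)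
    (hH : IsPiHallOf (sigma M) (sigmaCore M) M) {p : ℕ} (hp : p.Prime) (hd : p ∣ Nat.card U) :
    p ∉ sigma M ∧ p ∉ kappa M := by
  have hc := card_M hKU hH
  constructor
  · intro hσ
    apply hH.2.2 p hp hσ
    have h1 : (sigmaCore M).relIndex M * Nat.card (sigmaCore M) = Nat.card M := by
      rw [mul_comm]; exact Cfsg.Agent.Lib.Helper51_Offender.card_mul_relIndex (sigmaCore_le M)
    have h2 : (sigmaCore M).relIndex M = Nat.card U * Nat.card K := by
      have hpos : 0 < Nat.card (sigmaCore M) := Nat.card_pos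
      apply Nat.eq_of_mul_eq_mul_right hpos
      rw [h1, hc]; ring
    rw [h2]
    exact hd.mul_right _
  · intro hκ
    apply hKU.hall.2.2 p hp hκ
    have h1 : K.relIndex M * Nat.card K = Nat.card M := by
      rw [mul_comm]; exact Cfsg.Agent.Lib.Helper51_Offender.card_mul_relIndex (K_le hKU)
    have h2 : K.relIndex M = Nat.card U * Nat.card (sigmaCore M) := by
      have hpos : 0 < Nat.card K := Nat.card_pos
      apply Nat.eq_of_mul_eq_mul_right hpos
      rw [h1, hc]; ring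
    rw [h2]
    exact hd.mul_right _

theorem not_dvd_card_K_of_dvd_card_U (hKU : IsSigmaDecomposition M K U)
    (hH : IsPiHallOf (sigma M) (sigmaCore M) M) {p : ℕ} (hp : p.Prime) (hd : p ∣ Nat.card U) :
    ¬ p ∣ Nat.card K := fun h =>
  (not_mem_of_dvd_card_U hKU hH hp hd).2 (hKU.hall.2.1 p hp h)

theorem not_dvd_card_sigmaCore_of_dvd_card_U (hKU : IsSigmaDecomposition M K U)
    (hH : IsPiHallOf (sigma M) (sigmaCore M) M) {p : ℕ} (hp : p.Prime) (hd : p ∣ Nat.card U) :
    ¬ p ∣ Nat.card (sigmaCore M) := fun h =>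
  (not_mem_of_dvd_card_U hKU hH hp hd).1 (hH.2.1 p hp h)

/-- `#(U ⊔ K)` is coprime to `#M_σ` -/
theorem coprime_card_sup (hKU : IsSigmaDecomposition M K U)
    (hH : IsPiHallOf (sigma M) (sigmaCore M) M) :
    (Nat.card ↥(U ⊔ K)).Coprime (Nat.card (sigmaCore M)) := by
  refine Nat.Coprime.symm (Nat.coprime_of_dvd (fun p hp hd2 hd1 => ?_)) |>.symm |>.symm
  -- p ∣ #M_σ and p ∣ #(U ⊔ K)
  have hσ : p ∈ sigma M := hH.2.1 p hp hd2
  have h0 := Cfsg.Agent.Lib.Helper51_Offender.card_sup_mul_card_inf U K hKU.normal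
  rw [U_inf_K hKU, Subgroup.card_bot, mul_one] at h0
  rw [h0] at hd1
  rcases (Nat.Prime.dvd_mul hp).mp hd1 with h | h
  · exact (not_mem_of_dvd_card_U hKU hH hp h).1 hσ
  · exact not_mem_sigma_of_mem_kappa (hKU.hall.2.1 p hp h) hσ

/-- `U` contains a Sylow `p`-subgroup of `M` for every prime `p` dividing `#U` -/
theorem exists_sylow_le_U (hKU : IsSigmaDecomposition M K U)
    (hH : IsPiHallOf (sigma M) (sigmaCore M) M) {p : ℕ} [hp : Fact p.Prime]
    (hd : p ∣ Nat.card U) :
    ∃ S : Sylow p ↥M, (S : Subgroup ↥M).map M.subtype ≤ U := by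
  obtain ⟨P₀⟩ : Nonempty (Sylow p ↥U) := inferInstance
  set P₁ : Subgroup ↥M := (P₀ : Subgroup ↥U).map (Subgroup.inclusion (U_le hKU)) with hP₁
  have hinj : Function.Injective (Subgroup.inclusion (U_le hKU)) :=
    Subgroup.inclusion_injective _
  have hP₁p : IsPGroup p ↥P₁ := P₀.2.map _
  obtain ⟨S, hS⟩ := hP₁p.exists_le_sylow
  have hc1 : Nat.card ↥P₁ = Nat.card ↥(P₀ : Subgroup ↥U) :=
    (Nat.card_congr ((P₀ : Subgroup ↥U).equivMapOfInjective _ hinj).toEquiv).symm
  have hc2 : Nat.card ↥(P₀ : Subgroup ↥U) = p ^ (Nat.card ↥U).factorization p :=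
    P₀.card_eq_multiplicity
  have hc3 : Nat.card ↥(S : Subgroup ↥M) = p ^ (Nat.card ↥M).factorization p :=
    S.card_eq_multiplicity
  have hfac : (Nat.card ↥M).factorization p = (Nat.card ↥U).factorization p := by
    rw [card_M hKU hH]
    have h1 : Nat.card ↥U ≠ 0 := Nat.card_pos.ne'
    have h2 : Nat.card ↥K * Nat.card ↥(sigmaCore M) ≠ 0 :=
      (Nat.mul_pos Nat.card_pos Nat.card_pos).ne'
    rw [Nat.factorization_mul h1 h2]
    have h3 : (Nat.card ↥K * Nat.card ↥(sigmaCore M)).factorization p = 0 := by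
      apply Nat.factorization_eq_zero_of_not_dvd
      intro h
      rcases (Nat.Prime.dvd_mul hp.out).mp h with h | h
      · exact not_dvd_card_K_of_dvd_card_U hKU hH hp.out hd h
      · exact not_dvd_card_sigmaCore_of_dvd_card_U hKU hH hp.out hd h
    simp [h3]
  have hcard : Nat.card ↥P₁ = Nat.card ↥(S : Subgroup ↥M) := by
    rw [hc1, hc2, hc3, hfac]
  have heq : P₁ = (S : Subgroup ↥M) := by
    apply SetLike.coe_injective
    have hfin : (S : Set ↥M).Finite := Set.toFinite _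
    apply Set.eq_of_subset_of_ncard_le hS _ hfin
    rw [← Nat.card_coe_set_eq, ← Nat.card_coe_set_eq]
    exact hcard.ge
  refine ⟨S, ?_⟩
  rw [← heq, hP₁, Subgroup.map_map]
  rintro x ⟨y, -, rfl⟩
  exact y.2

end decomp

end Cfsg.Agent.Lib.Helper78_SigmaDecomp
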