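import Mathlib.GroupTheory.Sylow
import Mathlib.GroupTheory.Index
import Mathlib.GroupTheory.PGroup
import Cfsg.Prelude.Def_Transfer

set_option autoImplicit false

namespace Cfsg.Agent.Lib.Helper34_Sylow

open Subgroup
open scoped Pointwise

variable {G : Type*} [Group G]

/-- Conjugate of a subgroup, written with `map`. -/
abbrev cj (g : G) (U : Subgroup G) : Subgroup G := U.map (MulAut.conj g).toMonoidHom

theorem mem_cj {g x : G} {U : Subgroup G} : x ∈ cj g U ↔ g⁻¹ * x * g ∈ U := by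
  constructor
  · rintro ⟨u, hu, rfl⟩
    have : g⁻¹ * ((MulAut.conj g).toMonoidHom u) * g = u := by
      simp [MulAut.conj_apply]; group
    rw [this]; exact hu
  · intro h
    refine ⟨g⁻¹ * x * g, h, ?_⟩
    simp [MulAut.conj_apply]; group

theorem conj_mem_cj {g u : G} {U : Subgroup G} (hu : u ∈ U) : g * u * g⁻¹ ∈ cj g U := by
  rw [mem_cj]
  have : g⁻¹ * (g * u * g⁻¹) * g = u := by group
  rw [this]; exact hu

theorem cj_mul (g h : G) (U : Subgroup G) : cj (g * h) U = cj g (cj h U) := by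
  ext x
  simp only [mem_cj]
  have : (g * h)⁻¹ * x * (g * h) = h⁻¹ * (g⁻¹ * x * g) * h := by group
  rw [this]

theorem cj_one (U : Subgroup G) : cj 1 U = U := by
  ext x; simp

theorem cj_mono {g : G} {U V : Subgroup G} (h : U ≤ V) : cj g U ≤ cj g V :=
  Subgroup.map_mono h

theorem cj_eq_self_of_mem_normalizer {g : G} {U : Subgroup G} (hg : g ∈ normalizer (U : Set G)) :
    cj g U = U := by
  ext x
  rw [mem_cj]
  have hg' : g⁻¹ ∈ normalizer (U : Set G) := Subgroup.inv_mem _ hg
  have := (mem_normalizer_iff.mp hg' x)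
  rw [inv_inv] at this
  exact this.symm

theorem cj_eq_self_of_mem {g : G} {U : Subgroup G} (hg : g ∈ U) : cj g U = U :=
  cj_eq_self_of_mem_normalizer (le_normalizer hg)

theorem cj_le_of_mem {g : G} {U H : Subgroup G} (hU : U ≤ H) (hg : g ∈ H) : cj g U ≤ H := by
  intro x hx
  rw [mem_cj] at hx
  have := hU hx
  have h2 : x = g * (g⁻¹ * x * g) * g⁻¹ := by group
  rw [h2]
  exact H.mul_mem (H.mul_mem hg this) (H.inv_mem hg)

theorem isPGroup_cj {p : ℕ} {g : G} {U : Subgroup G} (hU : IsPGroup p U) : IsPGroup p (cj g U) :=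
  hU.map _

theorem cj_inf (g : G) (U V : Subgroup G) : cj g (U ⊓ V) = cj g U ⊓ cj g V := by
  ext x; simp only [mem_cj, mem_inf]

theorem cj_normalizer (g : G) (U : Subgroup G) :
    cj g (normalizer (U : Set G)) = normalizer ((cj g U : Subgroup G) : Set G) := by
  ext x
  rw [mem_cj, mem_normalizer_iff, mem_normalizer_iff]
  constructor
  · intro h y
    rw [mem_cj, mem_cj]
    have := h (g⁻¹ * y * g)
    rw [this]
    have e : g⁻¹ * x * g * (g⁻¹ * y * g) * (g⁻¹ * x * g)⁻¹ = g⁻¹ * (x * y * x⁻¹) * g := by group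
    rw [e]
  · intro h y
    have := h (g * y * g⁻¹)
    rw [mem_cj, mem_cj] at this
    have e1 : g⁻¹ * (g * y * g⁻¹) * g = y := by group
    have e2 : g⁻¹ * (x * (g * y * g⁻¹) * x⁻¹) * g = g⁻¹ * x * g * y * (g⁻¹ * x * g)⁻¹ := by group
    rw [e1, e2] at this
    exact this

theorem cj_centralizer (g : G) (U : Subgroup G) :
    cj g (centralizer (U : Set G)) = centralizer ((cj g U : Subgroup G) : Set G) := by
  ext x
  rw [mem_cj, mem_centralizer_iff, mem_centralizer_iff]
  constructor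
  · intro h y hy
    have hy' : g⁻¹ * y * g ∈ U := mem_cj.mp hy
    have := h _ hy'
    calc y * x = g * ((g⁻¹ * y * g) * (g⁻¹ * x * g)) * g⁻¹ := by group
      _ = g * ((g⁻¹ * x * g) * (g⁻¹ * y * g)) * g⁻¹ := by rw [this]
      _ = x * y := by group
  · intro h y hy
    have hy' : g * y * g⁻¹ ∈ cj g U := conj_mem_cj hy
    have := h _ hy'
    calc y * (g⁻¹ * x * g) = g⁻¹ * ((g * y * g⁻¹) * x) * g := by group
      _ = g⁻¹ * (x * (g * y * g⁻¹)) * g := by rw [this]
      _ = g⁻¹ * x * g * y := by group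

theorem cj_inv_cj (g : G) (U : Subgroup G) : cj g⁻¹ (cj g U) = U := by
  rw [← cj_mul, inv_mul_cancel, cj_one]

theorem cj_cj_inv (g : G) (U : Subgroup G) : cj g (cj g⁻¹ U) = U := by
  rw [← cj_mul, mul_inv_cancel, cj_one]

theorem cj_le_iff {g : G} {U V : Subgroup G} : cj g U ≤ V ↔ U ≤ cj g⁻¹ V := by
  constructor
  · intro h
    have := cj_mono (g := g⁻¹) h
    rwa [cj_inv_cj] at this
  · intro h
    have := cj_mono (g := g) h
    rwa [cj_cj_inv] at this

theorem card_cj (g : G) (U : Subgroup G) : Nat.card (cj g U) = Nat.card U :=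
  Subgroup.card_map_of_injective (MulAut.conj g).injective

/-- Sylow's conjugacy theorem inside a subgroup `H`, stated with relative index. -/
theorem exists_cj_le_of_relIndex [Finite G] {p : ℕ} [Fact p.Prime] {H R U : Subgroup G}
    (hR : IsPGroup p R) (hidx : ¬ p ∣ R.relIndex H) (hUH : U ≤ H)
    (hU : IsPGroup p U) : ∃ x ∈ H, cj x U ≤ R := by
  classical
  have hR' : IsPGroup p (R.subgroupOf H) := hR.comap_subtype
  let RS : Sylow p H := hR'.toSylow hidx
  have hU' : IsPGroup p (U.subgroupOf H) := hU.comap_subtype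
  obtain ⟨Q, hQ⟩ := hU'.exists_le_sylow
  obtain ⟨n, hn⟩ := MulAction.exists_smul_eq H Q RS
  refine ⟨n, n.2, ?_⟩
  intro x hx
  rw [mem_cj] at hx
  have hxH : (n : G)⁻¹ * x * n ∈ H := hUH hx
  have h1 : (⟨(n : G)⁻¹ * x * n, hxH⟩ : H) ∈ Q := hQ (by rw [mem_subgroupOf]; exact hx)
  have h2 : MulAut.conj n • (⟨(n : G)⁻¹ * x * n, hxH⟩ : H) ∈ MulAut.conj n • (Q : Subgroup H) :=
    Subgroup.smul_mem_pointwise_smul _ _ _ h1
  have h3 : MulAut.conj n • (⟨(n : G)⁻¹ * x * n, hxH⟩ : H) ∈ (n • Q : Sylow p H) := h2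
  rw [hn] at h3
  have h4 : MulAut.conj n • (⟨(n : G)⁻¹ * x * n, hxH⟩ : H) ∈ R.subgroupOf H := by
    have : ((RS : Sylow p H) : Subgroup H) = R.subgroupOf H := IsPGroup.toSylow_coe _ _
    rw [← this]; exact h3
  rw [mem_subgroupOf] at h4
  have h5 : ((MulAut.conj n • (⟨(n : G)⁻¹ * x * n, hxH⟩ : H) : H) : G) = x := by
    simp [MulAut.smul_def, MulAut.conj_apply]; group
  rwa [h5] at h4

theorem normal_closure_of_conj_inv {X : Type*} [Group X] (s : Set X)
    (h : ∀ g x, x ∈ s → g * x * g⁻¹ ∈ s) : (closure s).Normal := by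
  refine ⟨fun x hx g => ?_⟩
  have hle : (closure s).map (MulAut.conj g).toMonoidHom ≤ closure s := by
    rw [MonoidHom.map_closure, closure_le]
    rintro _ ⟨y, hy, rfl⟩
    exact subset_closure (by simpa [MulAut.conj_apply] using h g y hy)
  exact hle ⟨x, hx, by simp [MulAut.conj_apply]⟩

theorem orderOf_conj' {X : Type*} [Group X] (g x : X) : orderOf (g * x * g⁻¹) = orderOf x := by
  have := orderOf_injective (MulAut.conj g).toMonoidHom (MulAut.conj g).injective x
  simpa [MulAut.conj_apply] using this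

/-- The `p`-residual `O^p(X)` (generated by the `p'`-elements) is normal. -/
theorem pResidual_normal (p : ℕ) (X : Type*) [Group X] : (Cfsg.pResidual p X).Normal := by
  unfold Cfsg.pResidual
  apply normal_closure_of_conj_inv
  intro g x hx
  change (orderOf x).Coprime p at hx
  change (orderOf (g * x * g⁻¹)).Coprime p
  rwa [orderOf_conj']

/-- If a normal subgroup `M` contains all `p'`-elements of a finite group then the quotient is a
`p`-group. -/
theorem isPGroup_quotient_of_pprime_mem {X : Type*} [Group X] [Finite X] {p : ℕ} (hp : p.Prime)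
    (M : Subgroup X) [M.Normal] (hM : ∀ g : X, (orderOf g).Coprime p → g ∈ M) :
    IsPGroup p (X ⧸ M) := by
  intro q
  obtain ⟨g, rfl⟩ := QuotientGroup.mk_surjective q
  have hg0 : orderOf g ≠ 0 := (orderOf_pos g).ne'
  obtain ⟨e, m, hm, hem⟩ := Nat.exists_eq_pow_mul_and_not_dvd hg0 p hp.one_lt.ne'
  refine ⟨e, ?_⟩
  rw [← QuotientGroup.mk_pow, QuotientGroup.eq_one_iff]
  apply hM
  have hpe : p ^ e ≠ 0 := pow_ne_zero _ hp.pos.ne'
  rw [orderOf_pow_of_dvd hpe ⟨m, hem⟩, hem, Nat.mul_div_cancel_left m (Nat.pos_of_ne_zero hpe)]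
  exact ((Nat.Prime.coprime_iff_not_dvd hp).mpr hm).symm

/-- A subgroup of index prime to `p` together with a normal subgroup with `p`-group quotient
generate the whole group. -/
theorem sup_eq_top_of_index {X : Type*} [Group X] [Finite X] {p : ℕ} [Fact p.Prime]
    (R M : Subgroup X) [M.Normal] (hR : ¬ p ∣ R.index) (hM : IsPGroup p (X ⧸ M)) :
    R ⊔ M = ⊤ := by
  have hp : p.Prime := Fact.out
  obtain ⟨b, hb⟩ := IsPGroup.iff_card.mp hM
  have hMi : M.index = p ^ b := by rw [Subgroup.index_eq_card]; exact hb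
  have d1 : (R ⊔ M).index ∣ R.index := Subgroup.index_dvd_of_le le_sup_left
  have d2 : (R ⊔ M).index ∣ p ^ b := hMi ▸ Subgroup.index_dvd_of_le le_sup_right
  obtain ⟨j, _, hj⟩ := (Nat.dvd_prime_pow hp).mp d2
  rw [← Subgroup.index_eq_one, hj]
  rcases Nat.eq_zero_or_pos j with h0 | h0
  · rw [h0, pow_zero]
  · exfalso
    apply hR
    rw [hj] at d1
    exact (dvd_pow_self p h0.ne').trans d1

/-- In a finite group `X`, every element is a product of an element of a given subgroup of index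
prime to `p` and an element of `O^p(X)`. -/
theorem exists_mul_pResidual {X : Type*} [Group X] [Finite X] {p : ℕ} [Fact p.Prime]
    (R : Subgroup X) (hR : ¬ p ∣ R.index) (x : X) :
    ∃ r ∈ R, ∃ m ∈ Cfsg.pResidual p X, x = r * m := by
  have hp : p.Prime := Fact.out
  have := pResidual_normal p X
  have hq : IsPGroup p (X ⧸ Cfsg.pResidual p X) :=
    isPGroup_quotient_of_pprime_mem hp _ (fun g hg => Subgroup.subset_closure hg)
  have htop := sup_eq_top_of_index R (Cfsg.pResidual p X) hR hq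
  have hx : x ∈ R ⊔ Cfsg.pResidual p X := by rw [htop]; exact mem_top x
  rw [← SetLike.mem_coe, Subgroup.mul_normal] at hx
  obtain ⟨r, hr, m, hm, rfl⟩ := hx
  exact ⟨r, hr, m, hm, rfl⟩

end Cfsg.Agent.Lib.Helper34_Sylow
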