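import Cfsg.Agent.S0608
import Cfsg.Agent.Lib.Helper34_Sylow
import Cfsg.Agent.Lib.Helper47_PLocal
import Cfsg.Agent.Lib.Helper1_Cores
import Cfsg.Prelude.Def_PLocal

/-!
# Glauberman's ZJ-theorem, generic form (helper11)

For a property `Pr` of subgroups (abelian, elementary abelian, ...), `maxFam Pr T` is the family of
subgroups of `T` with `Pr` of the largest order, and `W Pr T` is the intersection of that family.
If the family of a Sylow `p`-subgroup `S` has the replacement property, `C_G(O_p(G)) ≤ O_p(G)`, and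
`G` acts `p`-stably on its normal `p`-subgroups, then `W Pr S` is normal (indeed characteristic)
in `G`.
-/

set_option autoImplicit false

namespace Cfsg.Agent.Lib.Helper11_ZJ

open Cfsg Cfsg.Agent.Lib.Helper34_Sylow

variable {G : Type*} [Group G]

/-- the subgroups of `T` with property `Pr` of the largest order -/
def maxFam (Pr : Subgroup G → Prop) (T : Subgroup G) : Set (Subgroup G) :=
  {A | A ≤ T ∧ Pr A ∧ ∀ A' : Subgroup G, A' ≤ T → Pr A' → Nat.card A' ≤ Nat.card A}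

/-- the intersection of the family -/
def W (Pr : Subgroup G → Prop) (T : Subgroup G) : Subgroup G := sInf (maxFam Pr T)

theorem maxFam_nonempty [Finite G] {Pr : Subgroup G → Prop} (hbot : Pr ⊥) (T : Subgroup G) :
    (maxFam Pr T).Nonempty := by
  have hne : Nonempty {A : Subgroup G // A ≤ T ∧ Pr A} := ⟨⟨⊥, bot_le, hbot⟩⟩
  obtain ⟨⟨A, hAT, hA⟩, hmax⟩ := Finite.exists_max
    (fun A : {A : Subgroup G // A ≤ T ∧ Pr A} => Nat.card (A : Subgroup G))
  exact ⟨A, hAT, hA, fun A' hA'T hA' => hmax ⟨A', hA'T, hA'⟩⟩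

theorem W_le_of_mem {Pr : Subgroup G → Prop} {T A : Subgroup G} (hA : A ∈ maxFam Pr T) :
    W Pr T ≤ A := sInf_le hA

theorem W_le [Finite G] {Pr : Subgroup G → Prop} (hbot : Pr ⊥) (T : Subgroup G) : W Pr T ≤ T := by
  obtain ⟨A, hA⟩ := maxFam_nonempty hbot T
  exact (W_le_of_mem hA).trans hA.1

theorem le_W_iff {Pr : Subgroup G → Prop} {T B : Subgroup G} :
    B ≤ W Pr T ↔ ∀ A ∈ maxFam Pr T, B ≤ A := le_sInf_iff

/-- restriction: if a member of the family of `T` lies in `T' ≤ T`, the family of `T'` consists of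
the members of the family of `T` inside `T'`. -/
theorem mem_maxFam_restrict {Pr : Subgroup G → Prop} {T T' A : Subgroup G} (hT : T' ≤ T)
    (hA : A ∈ maxFam Pr T) (hAT' : A ≤ T') (A' : Subgroup G) :
    A' ∈ maxFam Pr T' ↔ A' ∈ maxFam Pr T ∧ A' ≤ T' := by
  constructor
  · rintro ⟨h1, h2, h3⟩
    refine ⟨⟨h1.trans hT, h2, ?_⟩, h1⟩
    intro A'' hA'' hPr
    exact (hA.2.2 A'' hA'' hPr).trans (h3 A hAT' hA.2.1)
  · rintro ⟨⟨_, h2, h3⟩, h4⟩
    exact ⟨h4, h2, fun A'' hA'' hPr => h3 A'' (hA''.trans hT) hPr⟩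

theorem W_le_W_restrict {Pr : Subgroup G → Prop} {T T' A : Subgroup G} (hT : T' ≤ T)
    (hA : A ∈ maxFam Pr T) (hAT' : A ≤ T') : W Pr T ≤ W Pr T' := by
  rw [le_W_iff]
  intro A' hA'
  exact W_le_of_mem ((mem_maxFam_restrict hT hA hAT' A').mp hA').1

/-- invariance under automorphisms -/
theorem map_mem_maxFam {Pr : Subgroup G → Prop}
    (hmap : ∀ (φ : G ≃* G) (A : Subgroup G), Pr A → Pr (A.map φ.toMonoidHom))
    (φ : G ≃* G) {T A : Subgroup G} (hA : A ∈ maxFam Pr T) :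
    A.map φ.toMonoidHom ∈ maxFam Pr (T.map φ.toMonoidHom) := by
  refine ⟨Subgroup.map_mono hA.1, hmap φ A hA.2.1, ?_⟩
  intro A' hA' hPr
  have h1 : A'.map φ.symm.toMonoidHom ≤ T := by
    have := Subgroup.map_mono (f := φ.symm.toMonoidHom) hA'
    rwa [Subgroup.map_map, show φ.symm.toMonoidHom.comp φ.toMonoidHom = MonoidHom.id G from by
      ext x; simp, Subgroup.map_id] at this
  have h2 := hA.2.2 _ h1 (hmap φ.symm A' hPr)
  have h3 : Nat.card (A'.map φ.symm.toMonoidHom) = Nat.card A' :=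
    Subgroup.card_map_of_injective φ.symm.injective
  have h4 : Nat.card (A.map φ.toMonoidHom) = Nat.card A :=
    Subgroup.card_map_of_injective φ.injective
  rw [h4, ← h3]
  exact h2

theorem W_map {Pr : Subgroup G → Prop}
    (hmap : ∀ (φ : G ≃* G) (A : Subgroup G), Pr A → Pr (A.map φ.toMonoidHom))
    (φ : G ≃* G) (T : Subgroup G) :
    (W Pr T).map φ.toMonoidHom = W Pr (T.map φ.toMonoidHom) := by
  have key : ∀ (ψ : G ≃* G) (T : Subgroup G),
      (W Pr T).map ψ.toMonoidHom ≤ W Pr (T.map ψ.toMonoidHom) := by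
    intro ψ T
    rw [le_W_iff]
    intro A hA
    have h1 := map_mem_maxFam hmap ψ.symm hA
    rw [Subgroup.map_map, show ψ.symm.toMonoidHom.comp ψ.toMonoidHom = MonoidHom.id G from by
      ext x; simp, Subgroup.map_id] at h1
    have h2 := Subgroup.map_mono (f := ψ.toMonoidHom) (W_le_of_mem h1)
    rwa [Subgroup.map_map, show ψ.toMonoidHom.comp ψ.symm.toMonoidHom = MonoidHom.id G from by
      ext x; simp, Subgroup.map_id] at h2
  apply le_antisymm (key φ T)
  have h1 := key φ.symm (T.map φ.toMonoidHom)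
  rw [Subgroup.map_map, show φ.symm.toMonoidHom.comp φ.toMonoidHom = MonoidHom.id G from by
    ext x; simp, Subgroup.map_id] at h1
  have h2 := Subgroup.map_mono (f := φ.toMonoidHom) h1
  rwa [Subgroup.map_map, show φ.toMonoidHom.comp φ.symm.toMonoidHom = MonoidHom.id G from by
    ext x; simp, Subgroup.map_id] at h2

/-! ### Auxiliary lemmas -/

open scoped commutatorElement

theorem normal_of_conj_mem {K : Subgroup G} (h : ∀ g : G, ∀ x ∈ K, g * x * g⁻¹ ∈ K) : K.Normal :=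
  ⟨fun x hx g => h g x hx⟩

/-- `W` of `T` is normalized by the normalizer of `T`. -/
theorem conj_mem_W {Pr : Subgroup G → Prop}
    (hmap : ∀ (φ : G ≃* G) (A : Subgroup G), Pr A → Pr (A.map φ.toMonoidHom))
    {T : Subgroup G} {n : G} (hn : n ∈ Subgroup.normalizer (T : Set G)) {x : G} (hx : x ∈ W Pr T) :
    n * x * n⁻¹ ∈ W Pr T := by
  have h1 := W_map hmap (MulAut.conj n) T
  have h2 : T.map (MulAut.conj n).toMonoidHom = T := cj_eq_self_of_mem_normalizer hn
  rw [h2] at h1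
  rw [← h1]
  exact ⟨x, hx, by simp [MulAut.conj_apply]⟩

/-- Lemma A: the minimal counterexample has class at most two with derived group inside `Z`. -/
theorem class_two_aux {Z B : Subgroup G} [hB : B.Normal]
    (hZc : ∀ x ∈ Z, ∀ y ∈ Z, x * y = y * x)
    (hBZ : ∀ b ∈ B, ∀ z ∈ Z ⊓ B, b * z * b⁻¹ ∈ Z ⊓ B)
    (hgen : Subgroup.normalClosure ((Z ⊓ B : Subgroup G) : Set G) = B)
    (hD : (Z ⊓ ⁅B, B⁆).Normal) : ⁅B, B⁆ ≤ Z ∧ ⁅⁅B, B⁆, B⁆ = ⊥ := by
  have h1 : ⁅B, B⁆ ≤ Z ⊓ ⁅B, B⁆ := by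
    rw [← Cfsg.Agent.Lib.Helper47_PLocal.le_commKer_iff]
    have h2 : Subgroup.normalClosure ((Z ⊓ B : Subgroup G) : Set G) ≤
        Cfsg.Agent.Lib.Helper47_PLocal.commKer B (Z ⊓ ⁅B, B⁆) := by
      apply Subgroup.normalClosure_le_normal
      intro z hz
      rw [SetLike.mem_coe, Cfsg.Agent.Lib.Helper47_PLocal.mem_commKer]
      intro k hk
      have hz' : z ∈ Z ⊓ B := hz
      refine ⟨?_, Subgroup.commutator_mem_commutator hk hz'.2⟩
      have h3 := hBZ k hk z hz'
      have h4 : ⁅k, z⁆ = (k * z * k⁻¹) * z⁻¹ := by simp [commutatorElement_def]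
      rw [h4]
      exact Z.mul_mem h3.1 (Z.inv_mem hz'.1)
    rwa [hgen] at h2
  have hDZ : ⁅B, B⁆ ≤ Z := h1.trans inf_le_left
  refine ⟨hDZ, ?_⟩
  rw [Subgroup.commutator_comm, Subgroup.commutator_eq_bot_iff_le_centralizer]
  have h5 : Subgroup.normalClosure ((Z ⊓ B : Subgroup G) : Set G) ≤
      Subgroup.centralizer ((⁅B, B⁆ : Subgroup G) : Set G) := by
    apply Subgroup.normalClosure_le_normal
    intro z hz
    have hz' : z ∈ Z ⊓ B := hz
    rw [SetLike.mem_coe, Subgroup.mem_centralizer_iff]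
    intro d hd
    exact hZc d (hDZ hd) z hz'.1
  rwa [hgen] at h5

/-- Lemma B: `G = C_G(B) N_G(S ∩ L)` when `L/C_G(B)` is a `p`-group. -/
theorem exists_mul_normalizer [Finite G] {p : ℕ} [Fact p.Prime] (S : Sylow p G)
    (C L : Subgroup G) [hC : C.Normal] [hL : L.Normal] (_hCL : C ≤ L)
    (hidx : ∃ k : ℕ, C.relIndex L = p ^ k) (g : G) :
    ∃ c ∈ C, ∃ n ∈ Subgroup.normalizer (((S : Subgroup G) ⊓ L : Subgroup G) : Set G), g = c * n := by
  have hLle : L ≤ C ⊔ ((S : Subgroup G) ⊓ L) := by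
    rw [← Subgroup.relIndex_eq_one]
    obtain ⟨k, hk⟩ := hidx
    have h1 : (C ⊔ ((S : Subgroup G) ⊓ L)).relIndex L ∣ p ^ k := by
      rw [← hk]; exact Subgroup.relIndex_dvd_of_le_left L le_sup_left
    have h2 : (C ⊔ ((S : Subgroup G) ⊓ L)).relIndex L ∣ ((S : Subgroup G) ⊓ L).relIndex L :=
      Subgroup.relIndex_dvd_of_le_left L le_sup_right
    have h3 : ¬ p ∣ ((S : Subgroup G) ⊓ L).relIndex L :=
      Cfsg.Agent.S0608.not_dvd_relIndex_inf_normal S L
    obtain ⟨j, _, hj⟩ := (Nat.dvd_prime_pow (Fact.out : p.Prime)).mp h1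
    rcases Nat.eq_zero_or_pos j with h0 | hpos
    · rw [hj, h0, pow_zero]
    · exfalso
      apply h3
      rw [hj] at h2
      exact (dvd_pow_self p hpos.ne').trans h2
  obtain ⟨l, hl, n, hn, rfl⟩ := Cfsg.Agent.S0608.frattini_inf S L g
  obtain ⟨c, hc, s, hs, rfl⟩ := Subgroup.mem_sup_of_normal_left.mp (hLle hl)
  exact ⟨c, hc, s * n, Subgroup.mul_mem _ (Subgroup.le_normalizer hs) hn, by rw [mul_assoc]⟩

/-- Lemma C: an abelian subgroup normalized by `B` acts quadratically on `B`. -/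
theorem quadratic_of_normalizes {A B : Subgroup G}
    (hAc : ∀ x ∈ A, ∀ y ∈ A, x * y = y * x) (hBA : B ≤ Subgroup.normalizer (A : Set G))
    {a : G} (ha : a ∈ A) : ⁅⁅B, Subgroup.zpowers a⁆, Subgroup.zpowers a⁆ = ⊥ := by
  have hza : Subgroup.zpowers a ≤ A := by
    rw [Subgroup.zpowers_le]; exact ha
  have h1 : ⁅B, Subgroup.zpowers a⁆ ≤ A := by
    rw [Subgroup.commutator_le]
    intro b hb x hx
    have h2 := (Subgroup.mem_normalizer_iff.mp (hBA hb) x).mp (hza hx)
    rw [commutatorElement_def]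
    exact A.mul_mem h2 (A.inv_mem (hza hx))
  rw [eq_bot_iff]
  refine (Subgroup.commutator_mono h1 hza).trans ?_
  rw [Subgroup.commutator_le]
  intro x hx y hy
  rw [Subgroup.mem_bot, commutatorElement_def, hAc x hx y hy]
  group

/-! ### The main theorem -/

/-- hypotheses on the property defining the family -/
structure Admissible (p : ℕ) (Pr : Subgroup G → Prop) : Prop where
  bot : Pr ⊥
  comm : ∀ A, Pr A → ∀ x ∈ A, ∀ y ∈ A, x * y = y * x
  map : ∀ (φ : G ≃* G) (A : Subgroup G), Pr A → Pr (A.map φ.toMonoidHom)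
  replace : ∀ (S : Sylow p G) (B : Subgroup G), B ≤ (S : Subgroup G) →
    (S : Subgroup G) ≤ Subgroup.normalizer (B : Set G) → ⁅⁅B, B⁆, B⁆ = ⊥ →
    (∃ U ∈ maxFam Pr (S : Subgroup G), ⁅B, B⁆ ≤ U ∧ ¬ B ≤ U) →
    ∃ A ∈ maxFam Pr (S : Subgroup G), ¬ B ≤ A ∧ B ≤ Subgroup.normalizer (A : Set G)

/-- the `p`-stability hypothesis for the action on `B`, in a quotient-free form: the quadratically
acting elements of `S` lie in a normal subgroup `L ≥ C_G(B)` with `L / C_G(B)` a `p`-group. -/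
def StableOn (p : ℕ) (S B : Subgroup G) : Prop :=
  ∃ L : Subgroup G, L.Normal ∧ Subgroup.centralizer (B : Set G) ≤ L ∧
    (∃ k : ℕ, (Subgroup.centralizer (B : Set G)).relIndex L = p ^ k) ∧
    ∀ a ∈ S, ⁅⁅B, Subgroup.zpowers a⁆, Subgroup.zpowers a⁆ = ⊥ → a ∈ L

theorem card_lt_of_lt [Finite G] {H K : Subgroup G} (h : H < K) : Nat.card H < Nat.card K := by
  by_contra hcon
  exact h.ne (Subgroup.eq_of_le_of_card_ge h.le (not_lt.mp hcon))

theorem commutator_lt [Finite G] {p : ℕ} [Fact p.Prime] {B : Subgroup G} (hBp : IsPGroup p B)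
    (hB : B ≠ ⊥) : ⁅B, B⁆ < B := by
  have hnil : Group.IsNilpotent ↥B := hBp.isNilpotent
  have hnt : Nontrivial ↥B := (Subgroup.nontrivial_iff_ne_bot B).mpr hB
  have h1 := Group.IsSolvable.commutator_lt_top_of_nontrivial ↥B
  refine lt_of_le_of_ne B.commutator_le_self ?_
  intro heq
  rw [← B.map_subtype_commutator] at heq
  have h2 : (_root_.commutator ↥B).map B.subtype = (⊤ : Subgroup ↥B).map B.subtype := by
    rw [heq, ← MonoidHom.range_eq_map, B.range_subtype]
  exact h1.ne (Subgroup.map_injective B.subtype_injective h2)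

/-- The key claim: `W(S) ∩ B` is normal in `G` for every normal `p`-subgroup `B`. -/
theorem inf_normal [Finite G] {p : ℕ} [Fact p.Prime] {Pr : Subgroup G → Prop}
    (hPr : Admissible p Pr) (S : Sylow p G)
    (hst : ∀ B : Subgroup G, B.Normal → IsPGroup p B → StableOn p (S : Subgroup G) B) :
    ∀ (n : ℕ) (B : Subgroup G), B.Normal → IsPGroup p B → Nat.card B ≤ n →
      (W Pr (S : Subgroup G) ⊓ B).Normal := by
  intro n
  induction n with
  | zero =>
    intro B _ _ hcard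
    exfalso
    have : 0 < Nat.card B := Nat.card_pos
    omega
  | succ n ih =>
    intro B hBn hBp hcard
    have hBS : B ≤ (S : Subgroup G) :=
      (Cfsg.Agent.Lib.Helper1_Cores.le_pCore hBn hBp).trans
        (Cfsg.Agent.Lib.Helper1_Cores.pCore_le_sylow p S)
    have hSB : (S : Subgroup G) ≤ Subgroup.normalizer (B : Set G) := by
      rw [Subgroup.normalizer_eq_top]; exact le_top
    have hZc : ∀ x ∈ W Pr (S : Subgroup G), ∀ y ∈ W Pr (S : Subgroup G), x * y = y * x := by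
      obtain ⟨A, hA⟩ := maxFam_nonempty hPr.bot (S : Subgroup G)
      intro x hx y hy
      exact hPr.comm A hA.2.1 x (W_le_of_mem hA hx) y (W_le_of_mem hA hy)
    have hSZ₁ : ∀ s ∈ (S : Subgroup G), ∀ z ∈ W Pr (S : Subgroup G) ⊓ B,
        s * z * s⁻¹ ∈ W Pr (S : Subgroup G) ⊓ B := fun s hs z hz =>
      ⟨conj_mem_W hPr.map (Subgroup.le_normalizer hs) hz.1, hBn.conj_mem z hz.2 s⟩
    have hB₁B : Subgroup.normalClosure ((W Pr (S : Subgroup G) ⊓ B : Subgroup G) : Set G) ≤ B :=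
      Subgroup.normalClosure_le_normal (fun z hz => (hz : z ∈ W Pr (S : Subgroup G) ⊓ B).2)
    have hZ₁B₁ : W Pr (S : Subgroup G) ⊓ B ≤
        Subgroup.normalClosure ((W Pr (S : Subgroup G) ⊓ B : Subgroup G) : Set G) :=
      Subgroup.le_normalClosure
    by_cases hlt : Subgroup.normalClosure ((W Pr (S : Subgroup G) ⊓ B : Subgroup G) : Set G) = B
    swap
    · have hcard₁ : Nat.card (Subgroup.normalClosure
          ((W Pr (S : Subgroup G) ⊓ B : Subgroup G) : Set G)) ≤ n := by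
        have := card_lt_of_lt (lt_of_le_of_ne hB₁B hlt)
        omega
      have h1 := ih _ Subgroup.normalClosure_normal (hBp.to_le hB₁B) hcard₁
      have h2 : W Pr (S : Subgroup G) ⊓ Subgroup.normalClosure
          ((W Pr (S : Subgroup G) ⊓ B : Subgroup G) : Set G) = W Pr (S : Subgroup G) ⊓ B :=
        le_antisymm (inf_le_inf_left _ hB₁B) (le_inf inf_le_left hZ₁B₁)
      rwa [h2] at h1
    · by_cases hBbot : B = ⊥
      · rw [hBbot, inf_bot_eq]; infer_instance
      have hDlt : ⁅B, B⁆ < B := commutator_lt hBp hBbot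
      have hDcard : Nat.card (⁅B, B⁆ : Subgroup G) ≤ n := by
        have := card_lt_of_lt hDlt
        omega
      have hD := ih ⁅B, B⁆ inferInstance (hBp.to_le hDlt.le) hDcard
      obtain ⟨hDZ, hcl2⟩ := class_two_aux hZc (fun b hb => hSZ₁ b (hBS hb)) hlt hD
      obtain ⟨L, hLn, hCL, hidx, hquad⟩ := hst B hBn hBp
      have hlem3 : ∀ A ∈ maxFam Pr (S : Subgroup G), B ≤ Subgroup.normalizer (A : Set G) → A ≤ L := by
        intro A hA hBA a ha
        exact hquad a (hA.1 ha) (quadratic_of_normalizes (hPr.comm A hA.2.1) hBA ha)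
      have hex : ∃ A₀ ∈ maxFam Pr (S : Subgroup G), B ≤ Subgroup.normalizer (A₀ : Set G) := by
        by_cases h : ∃ U ∈ maxFam Pr (S : Subgroup G), ¬ B ≤ U
        · obtain ⟨U, hU, hBU⟩ := h
          obtain ⟨A, hA, _, hBA⟩ := hPr.replace S B hBS hSB hcl2
            ⟨U, hU, hDZ.trans (W_le_of_mem hU), hBU⟩
          exact ⟨A, hA, hBA⟩
        · obtain ⟨A, hA⟩ := maxFam_nonempty hPr.bot (S : Subgroup G)
          refine ⟨A, hA, ?_⟩
          have hBA : B ≤ A := by
            by_contra hBA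
            exact h ⟨A, hA, hBA⟩
          exact hBA.trans Subgroup.le_normalizer
      obtain ⟨A₀, hA₀, hBA₀⟩ := hex
      have hA₀S₁ : A₀ ≤ (S : Subgroup G) ⊓ L := le_inf hA₀.1 (hlem3 A₀ hA₀ hBA₀)
      have hZX : W Pr (S : Subgroup G) ≤ W Pr ((S : Subgroup G) ⊓ L) :=
        W_le_W_restrict inf_le_left hA₀ hA₀S₁
      have hXB : (W Pr ((S : Subgroup G) ⊓ L) ⊓ B).Normal := by
        apply normal_of_conj_mem
        intro g x hx
        have : (Subgroup.centralizer (B : Set G)).Normal := Subgroup.normal_centralizer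
        obtain ⟨c, hc, m, hm, rfl⟩ :=
          exists_mul_normalizer S (Subgroup.centralizer (B : Set G)) L hCL hidx g
        have h1 : m * x * m⁻¹ ∈ W Pr ((S : Subgroup G) ⊓ L) ⊓ B :=
          ⟨conj_mem_W hPr.map hm hx.1, hBn.conj_mem x hx.2 m⟩
        have h2 : c * (m * x * m⁻¹) * c⁻¹ = m * x * m⁻¹ := by
          have := Subgroup.mem_centralizer_iff.mp hc _ h1.2
          rw [← this, mul_inv_cancel_right]
        have h3 : c * m * x * (c * m)⁻¹ = c * (m * x * m⁻¹) * c⁻¹ := by group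
        rw [h3, h2]
        exact h1
      have hBX : B ≤ W Pr ((S : Subgroup G) ⊓ L) := by
        have h1 : Subgroup.normalClosure ((W Pr (S : Subgroup G) ⊓ B : Subgroup G) : Set G) ≤
            W Pr ((S : Subgroup G) ⊓ L) ⊓ B :=
          Subgroup.normalClosure_le_normal (fun z hz =>
            ⟨hZX (hz : z ∈ W Pr (S : Subgroup G) ⊓ B).1, (hz : z ∈ W Pr (S : Subgroup G) ⊓ B).2⟩)
        rw [hlt] at h1
        exact h1.trans inf_le_left
      have h5 : ∀ A ∈ maxFam Pr (S : Subgroup G), B ≤ Subgroup.normalizer (A : Set G) → B ≤ A := by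
        intro A hA hBA
        have hAS₁ : A ≤ (S : Subgroup G) ⊓ L := le_inf hA.1 (hlem3 A hA hBA)
        have hA' : A ∈ maxFam Pr ((S : Subgroup G) ⊓ L) :=
          (mem_maxFam_restrict inf_le_left hA₀ hA₀S₁ A).mpr ⟨hA, hAS₁⟩
        exact hBX.trans (W_le_of_mem hA')
      have h6 : ∀ A ∈ maxFam Pr (S : Subgroup G), B ≤ A := by
        intro A₁ hA₁
        by_contra hBA₁
        obtain ⟨A, hA, hnBA, hBA⟩ := hPr.replace S B hBS hSB hcl2
          ⟨A₁, hA₁, hDZ.trans (W_le_of_mem hA₁), hBA₁⟩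
        exact hnBA (h5 A hA hBA)
      have hBZ : B ≤ W Pr (S : Subgroup G) := le_W_iff.mpr h6
      rw [inf_of_le_right hBZ]
      exact hBn

/-- **Generic ZJ-theorem**: `W(S)` is normal in `G`. -/
theorem W_normal [Finite G] {p : ℕ} [Fact p.Prime] {Pr : Subgroup G → Prop}
    (hPr : Admissible p Pr) (S : Sylow p G)
    (hc : Subgroup.centralizer (pCore p G : Set G) ≤ pCore p G)
    (hst : ∀ B : Subgroup G, B.Normal → IsPGroup p B → StableOn p (S : Subgroup G) B) :
    (W Pr (S : Subgroup G)).Normal := by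
  have hQn : (pCore p G).Normal := Cfsg.Agent.Lib.Helper1_Cores.pCore_normal p
  have hQp : IsPGroup p (pCore p G) := Cfsg.Agent.Lib.Helper1_Cores.pCore_isPGroup p
  have hQS : pCore p G ≤ (S : Subgroup G) := Cfsg.Agent.Lib.Helper1_Cores.pCore_le_sylow p S
  have hZc : ∀ x ∈ W Pr (S : Subgroup G), ∀ y ∈ W Pr (S : Subgroup G), x * y = y * x := by
    obtain ⟨A, hA⟩ := maxFam_nonempty hPr.bot (S : Subgroup G)
    intro x hx y hy
    exact hPr.comm A hA.2.1 x (W_le_of_mem hA hx) y (W_le_of_mem hA hy)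
  -- `Z ≤ O_p(G)`
  have hZQ : W Pr (S : Subgroup G) ≤ pCore p G := by
    obtain ⟨L, hLn, hCL, ⟨k, hk⟩, hquad⟩ := hst (pCore p G) hQn hQp
    have hLp : IsPGroup p L := by
      obtain ⟨j, hj⟩ := IsPGroup.iff_card.mp (hQp.to_le hc)
      apply IsPGroup.of_card (n := j + k)
      rw [← Cfsg.Agent.S0608.card_mul_relIndex' hCL, hj, hk, pow_add]
    have hLQ : L ≤ pCore p G := Cfsg.Agent.Lib.Helper1_Cores.le_pCore hLn hLp
    intro z hz
    apply hLQ
    apply hquad z (W_le hPr.bot _ hz)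
    have hzZ : Subgroup.zpowers z ≤ W Pr (S : Subgroup G) := by
      rw [Subgroup.zpowers_le]; exact hz
    have h1 : ⁅pCore p G, Subgroup.zpowers z⁆ ≤ W Pr (S : Subgroup G) := by
      rw [Subgroup.commutator_le]
      intro q hq x hx
      have h2 := conj_mem_W hPr.map (Subgroup.le_normalizer (hQS hq)) (hzZ hx)
      rw [commutatorElement_def]
      exact Subgroup.mul_mem _ h2 (Subgroup.inv_mem _ (hzZ hx))
    rw [eq_bot_iff]
    refine (Subgroup.commutator_mono h1 hzZ).trans ?_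
    rw [Subgroup.commutator_le]
    intro x hx y hy
    rw [Subgroup.mem_bot, commutatorElement_def, hZc x hx y hy]
    group
  have h := inf_normal hPr S hst (Nat.card (pCore p G)) (pCore p G) hQn hQp le_rfl
  rwa [inf_of_le_left hZQ] at h

/-- **Generic ZJ-theorem**: `W(S)` is characteristic in `G`. -/
theorem W_characteristic [Finite G] {p : ℕ} [Fact p.Prime] {Pr : Subgroup G → Prop}
    (hPr : Admissible p Pr) (S : Sylow p G)
    (hc : Subgroup.centralizer (pCore p G : Set G) ≤ pCore p G)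
    (hst : ∀ B : Subgroup G, B.Normal → IsPGroup p B → StableOn p (S : Subgroup G) B) :
    (W Pr (S : Subgroup G)).Characteristic := by
  have hn := W_normal hPr S hc hst
  rw [Subgroup.characteristic_iff_map_le]
  intro φ
  have h1 : (W Pr (S : Subgroup G)).map φ.toMonoidHom = W Pr ((S : Subgroup G).map φ.toMonoidHom) :=
    W_map hPr.map φ _
  obtain ⟨g, hg⟩ := MulAction.exists_smul_eq G S (S.mapSurjective (f := φ.toMonoidHom) φ.surjective)
  have h2 : (S : Subgroup G).map φ.toMonoidHom = (S : Subgroup G).map (MulAut.conj g).toMonoidHom := by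
    rw [← Cfsg.Agent.S0608.coe_smul_sylow, hg]
    rfl
  have h3 : (W Pr (S : Subgroup G)).map (MulAut.conj g).toMonoidHom =
      W Pr ((S : Subgroup G).map (MulAut.conj g).toMonoidHom) := W_map hPr.map (MulAut.conj g) _
  show (W Pr (S : Subgroup G)).map φ.toMonoidHom ≤ W Pr (S : Subgroup G)
  rw [h1, h2, ← h3]
  rintro _ ⟨x, hx, rfl⟩
  have := hn.conj_mem x hx g
  simpa [MulAut.conj_apply] using this

/-! ### Transport lemmas for the instantiations -/

/-- image of an intersection under an injective homomorphism -/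
theorem map_sInf_of_injective {H : Type*} [Group H] (f : H →* G) (hf : Function.Injective f)
    (ℱ : Set (Subgroup H)) (hne : ℱ.Nonempty) :
    (sInf ℱ).map f = sInf (Set.image (fun A : Subgroup H => A.map f) ℱ) := by
  apply le_antisymm
  · apply le_sInf
    rintro _ ⟨A, hA, rfl⟩
    exact Subgroup.map_mono (sInf_le hA)
  · intro x hx
    obtain ⟨A₀, hA₀⟩ := hne
    have hx0 : x ∈ A₀.map f := (Subgroup.mem_sInf.mp hx) _ ⟨A₀, hA₀, rfl⟩
    obtain ⟨y, _, rfl⟩ := hx0
    refine ⟨y, ?_, rfl⟩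
    show y ∈ sInf ℱ
    rw [Subgroup.mem_sInf]
    intro A hA
    have hxA : f y ∈ A.map f := (Subgroup.mem_sInf.mp hx) _ ⟨A, hA, rfl⟩
    obtain ⟨y', hy', hyy'⟩ := hxA
    rwa [← hf hyy']

/-- transport of the replacement property from the group `↥T` to subgroups of `G` inside `T` -/
theorem replace_transport (T : Subgroup G) (ℱ' : Set (Subgroup ↥T))
    (hrep' : ∀ (B' : Subgroup ↥T) [B'.Normal], ⁅⁅B', B'⁆, B'⁆ = ⊥ →
      (∃ U' ∈ ℱ', ⁅B', B'⁆ ≤ U' ∧ ¬ B' ≤ U') →
      ∃ A' ∈ ℱ', ⁅B', B'⁆ ≤ A' ∧ ¬ B' ≤ A' ∧ B' ≤ Subgroup.normalizer (A' : Set ↥T))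
    (B : Subgroup G) (hBT : B ≤ T) (hTB : T ≤ Subgroup.normalizer (B : Set G))
    (hcl : ⁅⁅B, B⁆, B⁆ = ⊥)
    (hex : ∃ U ∈ Set.image (fun A : Subgroup ↥T => A.map T.subtype) ℱ', ⁅B, B⁆ ≤ U ∧ ¬ B ≤ U) :
    ∃ A ∈ Set.image (fun A : Subgroup ↥T => A.map T.subtype) ℱ',
      ¬ B ≤ A ∧ B ≤ Subgroup.normalizer (A : Set G) := by
  have hinj := T.subtype_injective
  have hBn : (B.subgroupOf T).Normal := (Subgroup.normal_subgroupOf_iff_le_normalizer hBT).mpr hTB
  have hBmap : (B.subgroupOf T).map T.subtype = B := Subgroup.map_subgroupOf_eq_of_le hBT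
  have hcomm : (⁅B.subgroupOf T, B.subgroupOf T⁆).map T.subtype = ⁅B, B⁆ := by
    rw [Subgroup.map_commutator, hBmap]
  have hcl' : ⁅⁅B.subgroupOf T, B.subgroupOf T⁆, B.subgroupOf T⁆ = ⊥ := by
    rw [← Subgroup.map_eq_bot_iff_of_injective _ hinj, Subgroup.map_commutator, hcomm, hBmap, hcl]
  obtain ⟨_, ⟨U', hU', rfl⟩, hDU, hBU⟩ := hex
  have hex' : ∃ U' ∈ ℱ', ⁅B.subgroupOf T, B.subgroupOf T⁆ ≤ U' ∧ ¬ B.subgroupOf T ≤ U' := by
    refine ⟨U', hU', ?_, ?_⟩
    · rw [← Subgroup.map_le_map_iff_of_injective hinj, hcomm]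
      exact hDU
    · intro h
      apply hBU
      rw [← hBmap]
      exact Subgroup.map_mono h
  obtain ⟨A', hA', _, hBA', hBN'⟩ := hrep' (B.subgroupOf T) hcl' hex'
  refine ⟨A'.map T.subtype, ⟨A', hA', rfl⟩, ?_, ?_⟩
  · intro h
    apply hBA'
    rw [← Subgroup.map_le_map_iff_of_injective hinj, hBmap]
    exact h
  · rw [← hBmap]
    exact (Subgroup.map_mono hBN').trans (Subgroup.le_normalizer_map _)

/-- `p`-stability in the sense of `Cfsg.IsPStableOn` gives `StableOn`. -/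
theorem stableOn_of_isPStableOn [Finite G] {p : ℕ} [Fact p.Prime] (S B : Subgroup G) [B.Normal]
    (h : Cfsg.IsPStableOn p B) : StableOn p S B := by
  have hQp : IsPGroup p (pCore p (G ⧸ Subgroup.centralizer (B : Set G))) :=
    Cfsg.Agent.Lib.Helper1_Cores.pCore_isPGroup p
  have hQn : (pCore p (G ⧸ Subgroup.centralizer (B : Set G))).Normal :=
    Cfsg.Agent.Lib.Helper1_Cores.pCore_normal p
  refine ⟨(pCore p (G ⧸ Subgroup.centralizer (B : Set G))).comap
    (QuotientGroup.mk' (Subgroup.centralizer (B : Set G))), ?_, ?_, ?_, ?_⟩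
  · exact Subgroup.Normal.comap hQn _
  · have := Subgroup.ker_le_comap (QuotientGroup.mk' (Subgroup.centralizer (B : Set G)))
      (pCore p (G ⧸ Subgroup.centralizer (B : Set G)))
    rwa [QuotientGroup.ker_mk'] at this
  · obtain ⟨k, hk⟩ := IsPGroup.iff_card.mp hQp
    refine ⟨k, ?_⟩
    have h1 := Subgroup.relIndex_comap (⊥ : Subgroup (G ⧸ Subgroup.centralizer (B : Set G)))
      (QuotientGroup.mk' (Subgroup.centralizer (B : Set G)))
      ((pCore p (G ⧸ Subgroup.centralizer (B : Set G))).comap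
        (QuotientGroup.mk' (Subgroup.centralizer (B : Set G))))
    have h2 : (⊥ : Subgroup (G ⧸ Subgroup.centralizer (B : Set G))).comap
        (QuotientGroup.mk' (Subgroup.centralizer (B : Set G))) =
          Subgroup.centralizer (B : Set G) := by
      rw [MonoidHom.comap_bot, QuotientGroup.ker_mk']
    rw [h2, Subgroup.relIndex_bot_left, Subgroup.map_comap_eq_self_of_surjective
      (QuotientGroup.mk'_surjective _), hk] at h1
    exact h1
  · intro a _ ha
    exact h a ha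

end Cfsg.Agent.Lib.Helper11_ZJ
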