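import Mathlib

/-!
# A Frobenius group acting on an abelian group

If `F = N ⋊ H` is a Frobenius group (kernel `N`, complement `H`) acting on a finite abelian group
`V` of order prime to `|N|` such that `N` has no nontrivial fixed point, then `H` has a nontrivial
fixed point (provided `V ≠ 1`).
-/

set_option autoImplicit false

namespace Cfsg.Agent.Lib.Helper95_FrobAction

variable {F : Type*} [Group F] {V : Type*} [CommGroup V]

/-- The product over a finite group of the images of `w` is fixed by every element. -/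
theorem map_prod_univ [Fintype F] (φ : F →* MulAut V) (w : V) (x : F) :
    φ x (∏ f : F, φ f w) = ∏ f : F, φ f w := by
  rw [map_prod]
  have : ∀ f : F, φ x (φ f w) = φ (x * f) w := fun f => by rw [map_mul, MulAut.mul_apply]
  simp_rw [this]
  exact Equiv.prod_comp (Equiv.mulLeft x) (fun f => φ f w)

/-- The product over a subgroup of the images of `w` is fixed by every element of the subgroup. -/
theorem map_prod_subgroup (φ : F →* MulAut V) (N : Subgroup F) [Fintype N] (w : V) (x : N) :
    φ x (∏ n : N, φ (n : F) w) = ∏ n : N, φ (n : F) w :=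
  map_prod_univ (φ.comp N.subtype) w x

/-- The product over a conjugate of a subgroup. -/
theorem map_prod_conj (φ : F →* MulAut V) (H : Subgroup F) [Fintype H] (w : V) (n : F) (x : H) :
    φ (n * x * n⁻¹) (∏ h : H, φ (n * h * n⁻¹) w) = ∏ h : H, φ (n * h * n⁻¹) w := by
  rw [map_prod]
  have : ∀ h : H, φ (n * x * n⁻¹) (φ (n * h * n⁻¹) w) = φ (n * ((x * h : H) : F) * n⁻¹) w := by
    intro h
    rw [← MulAut.mul_apply, ← map_mul]
    congr 2
    rw [Subgroup.coe_mul]; group
  simp_rw [this]
  exact Equiv.prod_comp (Equiv.mulLeft x) (fun h : H => φ (n * (h : F) * n⁻¹) w)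

/-- The Frobenius partition map `N ⊕ N × (H ∖ 1) → F`. -/
def partMap (N H : Subgroup F) : N ⊕ (N × {h : H // h ≠ 1}) → F
  | Sum.inl n => n
  | Sum.inr p => (p.1 : F) * ((p.2 : H) : F) * (p.1 : F)⁻¹

theorem partMap_injective (N H : Subgroup F) [hN : N.Normal] (hdisj : N ⊓ H = ⊥)
    (hfrob : ∀ g : F, g ∉ H → ∀ h ∈ H, g * h * g⁻¹ ∈ H → h = 1) :
    Function.Injective (partMap N H) := by
  have hNH : ∀ x : F, x ∈ N → x ∈ H → x = 1 := by
    intro x h1 h2
    have : x ∈ N ⊓ H := ⟨h1, h2⟩
    rwa [hdisj, Subgroup.mem_bot] at this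
  rintro (n | ⟨n, h, hh⟩) (n' | ⟨n', h', hh'⟩) e
  · simp only [partMap] at e
    rw [Subtype.ext e]
  · exfalso
    simp only [partMap] at e
    apply hh'
    have h1 : (h' : F) ∈ N := by
      have := hN.conj_mem _ n.2 (n' : F)⁻¹
      rw [e] at this
      have e2 : (n' : F)⁻¹ * ((n' : F) * (h' : F) * (n' : F)⁻¹) * ((n' : F)⁻¹)⁻¹ = h' := by group
      have h3 := N.mul_mem (N.mul_mem (N.inv_mem n'.2) this) n'.2
      have e3 : (n' : F)⁻¹ * ((n' : F)⁻¹ * ((n' : F) * (h' : F) * (n' : F)⁻¹) * ((n' : F)⁻¹)⁻¹) * n'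
          = (n' : F)⁻¹ * h' * n' := by group
      rw [e3] at h3
      have h4 := N.mul_mem (N.mul_mem n'.2 h3) (N.inv_mem n'.2)
      have e4 : (n' : F) * ((n' : F)⁻¹ * (h' : F) * n') * (n' : F)⁻¹ = h' := by group
      rwa [e4] at h4
    exact Subtype.ext (hNH _ h1 h'.2)
  · exfalso
    simp only [partMap] at e
    apply hh
    have h1 : (h : F) ∈ N := by
      have h2 : (n : F) * (h : F) * (n : F)⁻¹ ∈ N := by rw [e]; exact n'.2
      have h4 := N.mul_mem (N.mul_mem (N.inv_mem n.2) h2) n.2
      have e4 : (n : F)⁻¹ * ((n : F) * (h : F) * (n : F)⁻¹) * n = h := by group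
      rwa [e4] at h4
    exact Subtype.ext (hNH _ h1 h.2)
  · simp only [partMap] at e
    have hg : ((n' : F)⁻¹ * n) * (h : F) * ((n' : F)⁻¹ * n)⁻¹ = h' := by
      have : ((n' : F)⁻¹ * n) * (h : F) * ((n' : F)⁻¹ * n)⁻¹
          = (n' : F)⁻¹ * ((n : F) * h * (n : F)⁻¹) * n' := by group
      rw [this, e]; group
    have hgH : (n' : F)⁻¹ * n ∈ H := by
      by_contra hcon
      have := hfrob _ hcon h h.2 (by rw [hg]; exact h'.2)
      exact hh (Subtype.ext this)
    have hgN : (n' : F)⁻¹ * n ∈ N := N.mul_mem (N.inv_mem n'.2) n.2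
    have hg1 : (n' : F)⁻¹ * n = 1 := hNH _ hgN hgH
    have hnn : n = n' := by
      apply Subtype.ext
      have := congrArg (fun x => (n' : F) * x) hg1
      simpa using this
    subst hnn
    have hhh : (h : F) = h' := by
      rw [← hg, hg1]; simp
    have : h = h' := Subtype.ext hhh
    subst this
    rfl

theorem partMap_bijective [Finite F] (N H : Subgroup F) [hN : N.Normal]
    (hNH : Subgroup.IsComplement' N H)
    (hfrob : ∀ g : F, g ∉ H → ∀ h ∈ H, g * h * g⁻¹ ∈ H → h = 1) :
    Function.Bijective (partMap N H) := by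
  classical
  have := Fintype.ofFinite F
  have hinj := partMap_injective N H hNH.disjoint.eq_bot hfrob
  rw [Fintype.bijective_iff_injective_and_card]
  refine ⟨hinj, ?_⟩
  have hcard := hNH.card_mul_card
  rw [Nat.card_eq_fintype_card, Nat.card_eq_fintype_card, Nat.card_eq_fintype_card] at hcard
  rw [Fintype.card_sum, Fintype.card_prod, Fintype.card_subtype_compl, Fintype.card_subtype_eq,
    ← hcard]
  have hpos : 0 < Fintype.card H := Fintype.card_pos
  obtain ⟨m, hm⟩ := Nat.exists_eq_succ_of_ne_zero hpos.ne'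
  rw [hm, Nat.succ_sub_one, Nat.mul_succ, add_comm]

/-- Product over the non-identity elements. -/
theorem prod_subtype_ne_one {H : Type*} [Group H] [Fintype H] [DecidableEq H]
    [Fintype {h : H // h ≠ 1}] (f : H → V) :
    (∏ h : {h : H // h ≠ 1}, f h) = (∏ h, f h) * (f 1)⁻¹ := by
  rw [← Finset.prod_subtype (Finset.univ.erase (1 : H)) (fun x => by simp) f,
    ← Finset.mul_prod_erase Finset.univ f (Finset.mem_univ 1), mul_comm (f 1),
    mul_inv_cancel_right]

/-- **Frobenius action lemma.** Let `F` be a finite group with normal subgroup `N` and complement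
`H` such that `H ∩ gHg⁻¹ = 1` for `g ∉ H`, acting on a finite abelian group `V` of order prime to
`|N|`. If `N` has no nontrivial fixed point on `V` and `H` has none either, then `V` is trivial. -/
theorem eq_one_of_frobenius_action [Finite F] [Finite V] (φ : F →* MulAut V) (N H : Subgroup F)
    [hN : N.Normal] (hNH : Subgroup.IsComplement' N H)
    (hfrob : ∀ g : F, g ∉ H → ∀ h ∈ H, g * h * g⁻¹ ∈ H → h = 1)
    (hcop : (Nat.card V).Coprime (Nat.card N))
    (hfixN : ∀ v : V, (∀ n ∈ N, φ n v = v) → v = 1)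
    (hfixH : ∀ v : V, (∀ h ∈ H, φ h v = v) → v = 1) (w : V) : w = 1 := by
  classical
  have := Fintype.ofFinite F
  -- the three kinds of products vanish
  have hP : ∏ f : F, φ f w = 1 :=
    hfixN _ (fun n _ => map_prod_univ φ w n)
  have hTN : ∏ n : N, φ (n : F) w = 1 :=
    hfixN _ (fun n hn => map_prod_subgroup φ N w ⟨n, hn⟩)
  have hTH : ∀ n : F, ∏ h : H, φ (n * h * n⁻¹) w = 1 := by
    intro n
    have h1 : φ n⁻¹ (∏ h : H, φ (n * h * n⁻¹) w) = 1 := by
      apply hfixH
      intro h₀ hh₀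
      have h2 := map_prod_conj φ H w n ⟨h₀, hh₀⟩
      rw [← MulAut.mul_apply, ← map_mul]
      have : h₀ * n⁻¹ = n⁻¹ * (n * h₀ * n⁻¹) := by group
      rw [this, map_mul, MulAut.mul_apply, h2]
    have h3 := congrArg (φ n) h1
    rwa [← MulAut.mul_apply, ← map_mul, mul_inv_cancel, map_one, MulAut.one_apply, map_one] at h3
  -- products over `H ∖ 1`
  have hTH' : ∀ n : F, ∏ h : {h : H // h ≠ 1}, φ (n * ((h : H) : F) * n⁻¹) w = w⁻¹ := by
    intro n
    rw [prod_subtype_ne_one (fun h : H => φ (n * (h : F) * n⁻¹) w), hTH n]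
    simp
  -- the partition
  have hpart : ∏ f : F, φ f w = ∏ x : N ⊕ (N × {h : H // h ≠ 1}), φ (partMap N H x) w :=
    (Fintype.prod_bijective (partMap N H) (partMap_bijective N H hNH hfrob) _ _
      (fun _ => rfl)).symm
  rw [hpart, Fintype.prod_sum_type, Fintype.prod_prod_type] at hP
  simp only [partMap] at hP
  rw [hTN, one_mul] at hP
  simp_rw [hTH'] at hP
  rw [Finset.prod_const, Finset.card_univ, ← Nat.card_eq_fintype_card, inv_pow, inv_eq_one] at hP
  -- coprimality
  have h1 : orderOf w ∣ Nat.card N := orderOf_dvd_of_pow_eq_one hP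
  have h2 : orderOf w ∣ Nat.card V := orderOf_dvd_natCard w
  have h3 : orderOf w ∣ 1 := by
    have := Nat.dvd_gcd h2 h1
    rwa [hcop] at this
  exact orderOf_eq_one_iff.mp (Nat.dvd_one.mp h3)

end Cfsg.Agent.Lib.Helper95_FrobAction
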