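import Mathlib
import Cfsg.Agent.Lib.Helper95_FrobAction
import Cfsg.Agent.Lib.Helper1_FPF

/-!
# The Frobenius-action step for fixed-point-free automorphisms of prime order (helper1)

Internal form: `V`, `S` subgroups of a finite group `Γ`, `a ∈ Γ` of prime order `r` normalizing
both, `S` normalizing the abelian group `V`, orders of `V` and `S` coprime, `a` fixed-point-free on
`S` and on `V`, and `C_V(S) = 1`.  Then `V = 1`.
-/

set_option autoImplicit false

namespace Cfsg.Agent.Lib.Helper1_FrobStep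

open Subgroup

open scoped IsMulCommutative

/-- The conjugation action of `F ≤ N_Γ(V)` on `V`, as a homomorphism to `MulAut V`. -/
noncomputable def conjHom {Γ : Type*} [Group Γ] (V F : Subgroup Γ)
    (hFV : F ≤ normalizer (V : Set Γ)) : ↥F →* MulAut ↥V :=
  (Subgroup.normalizerMonoidHom V).comp (Subgroup.inclusion hFV)

theorem conjHom_apply {Γ : Type*} [Group Γ] (V F : Subgroup Γ)
    (hFV : F ≤ normalizer (V : Set Γ)) (f : F) (v : V) :
    ((conjHom V F hFV f v : V) : Γ) = (f : Γ) * v * (f : Γ)⁻¹ := rfl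

theorem frobStep {Γ : Type*} [Group Γ] [Finite Γ] (V S : Subgroup Γ) (a : Γ) {r : ℕ}
    (hr : r.Prime) (har : a ^ r = 1) (hVab : IsMulCommutative V)
    (hSV : S ≤ normalizer (V : Set Γ)) (haV : a ∈ normalizer (V : Set Γ))
    (haS : a ∈ normalizer (S : Set Γ))
    (hcop : (Nat.card V).Coprime (Nat.card S))
    (hfS : ∀ x ∈ S, a * x = x * a → x = 1) (hfV : ∀ x ∈ V, a * x = x * a → x = 1)
    (hCV : ∀ v ∈ V, (∀ s ∈ S, s * v = v * s) → v = 1) : V = ⊥ := by
  have : Fact r.Prime := ⟨hr⟩
  by_cases ha1 : a = 1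
  · rw [eq_bot_iff]
    intro v hv
    rw [mem_bot]
    exact hfV v hv (by rw [ha1, one_mul, mul_one])
  have hord : orderOf a = r := orderOf_eq_prime har ha1
  set A : Subgroup Γ := zpowers a with hA
  have hcardA : Nat.card A = r := by rw [hA, Nat.card_zpowers, hord]
  have hAS : A ≤ normalizer (S : Set Γ) := (zpowers_le).mpr haS
  have hAV : A ≤ normalizer (V : Set Γ) := (zpowers_le).mpr haV
  -- every nonidentity element of `A` generates `A`
  have hgen : ∀ b ∈ A, b ≠ 1 → a ∈ zpowers b := by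
    intro b hb hb1
    have hle : zpowers b ≤ A := (zpowers_le).mpr hb
    have hdvd : Nat.card (zpowers b) ∣ r := by
      rw [← hcardA]
      exact card_dvd_of_le hle
    have hne : Nat.card (zpowers b) ≠ 1 := by
      rw [Nat.card_zpowers]
      intro h
      exact hb1 (orderOf_eq_one_iff.mp h)
    have hcard : Nat.card (zpowers b) = r := by
      rcases (Nat.dvd_prime hr).mp hdvd with h | h
      · exact absurd h hne
      · exact h
    have heq : zpowers b = A := eq_of_le_of_card_ge hle (by rw [hcard, hcardA])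
    rw [heq]
    exact mem_zpowers a
  have hfS' : ∀ b ∈ A, b ≠ 1 → ∀ x ∈ S, b * x = x * b → x = 1 := by
    intro b hb hb1 x hx hbx
    obtain ⟨k, hk⟩ := mem_zpowers_iff.mp (hgen b hb hb1)
    apply hfS x hx
    have hc : Commute b x := hbx
    rw [← hk]
    exact (hc.zpow_left k).eq
  have hfV' : ∀ b ∈ A, b ≠ 1 → ∀ x ∈ V, b * x = x * b → x = 1 := by
    intro b hb hb1 x hx hbx
    obtain ⟨k, hk⟩ := mem_zpowers_iff.mp (hgen b hb hb1)
    apply hfV x hx
    have hc : Commute b x := hbx
    rw [← hk]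
    exact (hc.zpow_left k).eq
  -- coprimality of `r` and `|S|`
  have hrS : (Nat.card A).Coprime (Nat.card S) := by
    rw [hcardA]
    apply (Nat.Prime.coprime_iff_not_dvd hr).mpr
    apply Cfsg.Agent.Lib.Helper1_FPF.not_dvd_card_of_fpf A S hAS _ (by rw [hcardA])
    intro b hb hb1
    rw [eq_bot_iff]
    intro x hx
    rw [mem_bot]
    obtain ⟨hxS, hxc⟩ := mem_inf.mp hx
    rw [mem_centralizer_singleton_iff] at hxc
    exact hfS' b hb hb1 x hxS hxc.symm
  have hdisj : A ⊓ S = ⊥ := (disjoint_of_coprime_natCard hrS).eq_bot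
  -- the group `F = S A`
  set F : Subgroup Γ := A ⊔ S with hF
  have hSF : S ≤ F := le_sup_right
  have hAF : A ≤ F := le_sup_left
  have hFS : F ≤ normalizer (S : Set Γ) := sup_le hAS le_normalizer
  have hFV : F ≤ normalizer (V : Set Γ) := sup_le hAV hSV
  have hcardF : Nat.card F = Nat.card A * Nat.card S :=
    Cfsg.Agent.Lib.Helper1_FPF.card_sup_of_le_normalizer A S hAS hdisj
  have hNn : (S.subgroupOf F).Normal := (normal_subgroupOf_iff_le_normalizer hSF).mpr hFS
  have hcardN : Nat.card (S.subgroupOf F) = Nat.card S :=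
    Nat.card_congr (subgroupOfEquivOfLe hSF).toEquiv
  have hcardH : Nat.card (A.subgroupOf F) = Nat.card A :=
    Nat.card_congr (subgroupOfEquivOfLe hAF).toEquiv
  have hNH : IsComplement' (S.subgroupOf F) (A.subgroupOf F) := by
    apply isComplement'_of_coprime
    · rw [hcardN, hcardH, hcardF, mul_comm]
    · rw [hcardN, hcardH]
      exact hrS.symm
  -- Frobenius condition
  have hfrob : ∀ g : F, g ∉ A.subgroupOf F → ∀ h ∈ A.subgroupOf F,
      g * h * g⁻¹ ∈ A.subgroupOf F → h = 1 := by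
    rintro ⟨g, hg⟩ hgA ⟨c, hcF⟩ hc hgc
    rw [mem_subgroupOf] at hgA hc hgc
    simp only [Subgroup.coe_mul, InvMemClass.coe_inv] at hgc
    simp only at hgA hc
    have hgm : g ∈ ((A ⊔ S : Subgroup Γ) : Set Γ) := hg
    rw [coe_mul_of_left_le_normalizer_right A S hAS] at hgm
    obtain ⟨b, hb, s, hs, rfl⟩ := hgm
    simp only at hg hgA hgc
    have hs1 : s ≠ 1 := by
      rintro rfl
      apply hgA
      rw [mul_one]
      exact hb
    apply Subtype.ext
    show c = 1
    by_contra hc1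
    -- `s c s⁻¹ ∈ A`
    have h1 : s * c * s⁻¹ ∈ A := by
      have h2 : s * c * s⁻¹ = b⁻¹ * ((b * s) * c * (b * s)⁻¹) * b := by group
      rw [h2]
      exact A.mul_mem (A.mul_mem (A.inv_mem hb) hgc) hb
    have h3 : s * c * s⁻¹ * c⁻¹ ∈ A := A.mul_mem h1 (A.inv_mem hc)
    have h4 : s * c * s⁻¹ * c⁻¹ ∈ S := by
      have h5 : c * s⁻¹ * c⁻¹ ∈ S := (mem_normalizer_iff.mp (hAS hc) s⁻¹).mp (S.inv_mem hs)
      have h6 : s * c * s⁻¹ * c⁻¹ = s * (c * s⁻¹ * c⁻¹) := by group
      rw [h6]
      exact S.mul_mem hs h5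
    have h7 : s * c * s⁻¹ * c⁻¹ ∈ A ⊓ S := mem_inf.mpr ⟨h3, h4⟩
    rw [hdisj, mem_bot] at h7
    have h8 : c * s = s * c := by
      have : s * c = (s * c * s⁻¹ * c⁻¹) * (c * s) := by group
      rw [this, h7, one_mul]
    exact hs1 (hfS' c hc hc1 s hs h8)
  -- apply the Frobenius action lemma
  have hcop' : (Nat.card V).Coprime (Nat.card (S.subgroupOf F)) := by
    rw [hcardN]
    exact hcop
  have hfixN : ∀ v : V, (∀ n ∈ S.subgroupOf F, conjHom V F hFV n v = v) → v = 1 := by
    intro v hv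
    apply Subtype.ext
    apply hCV v v.2
    intro s hs
    have h1 := congrArg Subtype.val (hv ⟨s, hSF hs⟩ (by rw [mem_subgroupOf]; exact hs))
    rw [conjHom_apply] at h1
    calc s * (v : Γ) = (s * v * s⁻¹) * s := by group
      _ = v * s := by rw [h1]
  have hfixH : ∀ v : V, (∀ h ∈ A.subgroupOf F, conjHom V F hFV h v = v) → v = 1 := by
    intro v hv
    apply Subtype.ext
    apply hfV v v.2
    have haA : a ∈ A := mem_zpowers a
    have h1 := congrArg Subtype.val (hv ⟨a, hAF haA⟩ (by rw [mem_subgroupOf]; exact haA))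
    rw [conjHom_apply] at h1
    calc a * (v : Γ) = (a * v * a⁻¹) * a := by group
      _ = v * a := by rw [h1]
  rw [eq_bot_iff]
  intro w hw
  have := Cfsg.Agent.Lib.Helper95_FrobAction.eq_one_of_frobenius_action (conjHom V F hFV)
    (S.subgroupOf F) (A.subgroupOf F) hNH hfrob hcop' hfixN hfixH ⟨w, hw⟩
  rw [mem_bot]
  exact congrArg Subtype.val this

end Cfsg.Agent.Lib.Helper1_FrobStep
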