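import Mathlib
import Cfsg.Agent.Lib.Helper1_Transport
import Cfsg.Agent.Lib.Helper1_FrobStep

/-!
# Fixed-point-free automorphisms: restriction, quotients, invariant Sylow subgroups (helper1)

`FPF r φ`: the automorphism `φ` of `G` fixes only the identity and `φ ^ r = 1`.
-/

set_option autoImplicit false

namespace Cfsg.Agent.Lib.Helper1_FPFAut

open Subgroup

open scoped Pointwise

variable {G : Type*} [Group G]

/-- `φ` fixes only the identity and its `r`-th iterate is the identity. -/
structure FPF (r : ℕ) (φ : G ≃* G) : Prop where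
  fpf : ∀ g, φ g = g → g = 1
  iter : ∀ g, (φ^[r]) g = g

/-- An invariant subgroup is also invariant under the inverse. -/
theorem symm_mem_of_map_eq (φ : G ≃* G) {M : Subgroup G} (hM : M.map φ.toMonoidHom = M) {x : G}
    (hx : x ∈ M) : φ.symm x ∈ M := by
  rw [← hM] at hx
  obtain ⟨y, hy, rfl⟩ := hx
  simpa using hy

theorem apply_mem_of_map_eq (φ : G ≃* G) {M : Subgroup G} (hM : M.map φ.toMonoidHom = M) {x : G}
    (hx : x ∈ M) : φ x ∈ M := by
  rw [← hM]
  exact ⟨x, hx, rfl⟩

/-- Elementwise criterion for invariance. -/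
theorem map_eq_of_forall_mem [Finite G] (φ : G ≃* G) {M : Subgroup G}
    (h : ∀ x ∈ M, φ x ∈ M) : M.map φ.toMonoidHom = M := by
  have hle : M.map φ.toMonoidHom ≤ M := by
    rintro _ ⟨x, hx, rfl⟩
    exact h x hx
  exact eq_of_le_of_card_ge hle (by rw [card_map_of_injective φ.injective])

/-- The restriction of an automorphism to an invariant subgroup. -/
noncomputable def restrictAut (φ : G ≃* G) (M : Subgroup G) (hM : M.map φ.toMonoidHom = M) :
    ↥M ≃* ↥M :=
  (φ.subgroupMap M).trans (MulEquiv.subgroupCongr hM)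

theorem restrictAut_coe (φ : G ≃* G) (M : Subgroup G) (hM : M.map φ.toMonoidHom = M) (x : M) :
    ((restrictAut φ M hM x : M) : G) = φ x := rfl

theorem restrictAut_iterate (φ : G ≃* G) (M : Subgroup G) (hM : M.map φ.toMonoidHom = M)
    (n : ℕ) (x : M) : (((restrictAut φ M hM)^[n] x : M) : G) = (φ^[n]) x := by
  induction n with
  | zero => rfl
  | succ n ih =>
    rw [Function.iterate_succ_apply', Function.iterate_succ_apply', restrictAut_coe, ih]

theorem FPF.restrict {r : ℕ} {φ : G ≃* G} (h : FPF r φ) (M : Subgroup G)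
    (hM : M.map φ.toMonoidHom = M) : FPF r (restrictAut φ M hM) where
  fpf := by
    intro x hx
    have h1 := congrArg Subtype.val hx
    rw [restrictAut_coe] at h1
    exact Subtype.ext (h.fpf x h1)
  iter := by
    intro x
    apply Subtype.ext
    rw [restrictAut_iterate]
    exact h.iter x

/-- Surjectivity of the commutator map `w ↦ w (φ w)⁻¹` on a finite group. -/
theorem FPF.exists_div_eq [Finite G] {r : ℕ} {φ : G ≃* G} (h : FPF r φ) (z : G) :
    ∃ w : G, w * (φ w)⁻¹ = z := by
  have hinj : Function.Injective (fun w : G => w * (φ w)⁻¹) := by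
    intro x y hxy
    have h1 : φ (y⁻¹ * x) = y⁻¹ * x := by
      have h2 : x * (φ x)⁻¹ = y * (φ y)⁻¹ := hxy
      rw [map_mul, map_inv]
      have h3 : φ x = (y * (φ y)⁻¹)⁻¹ * x := by
        rw [← h2]; group
      rw [h3]; group
    have h4 := h.fpf _ h1
    have : x = y * (y⁻¹ * x) := by group
    rw [this, h4, mul_one]
  exact (Finite.injective_iff_surjective.mp hinj) z

/-- The automorphism induced on the quotient by an invariant normal subgroup. -/
noncomputable def quotientAut (φ : G ≃* G) (Z : Subgroup G) [Z.Normal]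
    (hZ : Z.map φ.toMonoidHom = Z) : G ⧸ Z ≃* G ⧸ Z :=
  QuotientGroup.congr Z Z φ hZ

theorem quotientAut_mk (φ : G ≃* G) (Z : Subgroup G) [Z.Normal]
    (hZ : Z.map φ.toMonoidHom = Z) (x : G) :
    quotientAut φ Z hZ (QuotientGroup.mk x) = QuotientGroup.mk (φ x) := rfl

theorem quotientAut_iterate (φ : G ≃* G) (Z : Subgroup G) [Z.Normal]
    (hZ : Z.map φ.toMonoidHom = Z) (n : ℕ) (x : G) :
    ((quotientAut φ Z hZ)^[n]) (QuotientGroup.mk x) = QuotientGroup.mk ((φ^[n]) x) := by
  induction n with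
  | zero => rfl
  | succ n ih =>
    rw [Function.iterate_succ_apply', Function.iterate_succ_apply', ih, quotientAut_mk]

theorem FPF.quotient [Finite G] {r : ℕ} {φ : G ≃* G} (h : FPF r φ) (Z : Subgroup G) [Z.Normal]
    (hZ : Z.map φ.toMonoidHom = Z) : FPF r (quotientAut φ Z hZ) where
  fpf := by
    intro y
    induction y using QuotientGroup.induction_on with
    | H x =>
      intro hx
      rw [quotientAut_mk, QuotientGroup.eq] at hx
      -- `(φ x)⁻¹ * x ∈ Z`
      obtain ⟨w, hw⟩ := (h.restrict Z hZ).exists_div_eq (⟨(φ x)⁻¹ * x, hx⟩)⁻¹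
      have hw' : (w : G) * (φ w)⁻¹ = ((φ x)⁻¹ * x)⁻¹ := by
        have := congrArg Subtype.val hw
        simpa [restrictAut_coe] using this
      have hfix : φ (x * (w : G)) = x * (w : G) := by
        rw [map_mul]
        have h3 : φ w = ((φ x)⁻¹ * x) * (w : G) := by
          have : φ (w : G) = ((w : G) * (φ w)⁻¹)⁻¹ * w := by group
          rw [this, hw', inv_inv]
        rw [h3]; group
      have h1 := h.fpf _ hfix
      have hxw : x = (w : G)⁻¹ := eq_inv_of_mul_eq_one_left h1
      rw [hxw]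
      exact (QuotientGroup.eq_one_iff _).mpr (Z.inv_mem w.2)
  iter := by
    intro y
    induction y using QuotientGroup.induction_on with
    | H x => rw [quotientAut_iterate, h.iter]

/-- **Invariant Sylow subgroups** for a fixed-point-free automorphism. -/
theorem FPF.exists_invariant_sylow [Finite G] {r : ℕ} {φ : G ≃* G} (h : FPF r φ) (p : ℕ)
    [Fact p.Prime] : ∃ P : Sylow p G, (P : Subgroup G).map φ.toMonoidHom = P := by
  obtain ⟨P₀⟩ : Nonempty (Sylow p G) := inferInstance
  let Q : Sylow p G := Sylow.ofCard ((P₀ : Subgroup G).map φ.toMonoidHom)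
    (by rw [card_map_of_injective φ.injective, P₀.card_eq_multiplicity])
  have hQ : (Q : Subgroup G) = (P₀ : Subgroup G).map φ.toMonoidHom := rfl
  obtain ⟨g, hg⟩ := MulAction.exists_smul_eq G P₀ Q
  have hg' : MulAut.conj g • (P₀ : Subgroup G) = (P₀ : Subgroup G).map φ.toMonoidHom := by
    rw [← hQ, ← hg, Sylow.coe_subgroup_smul]
  -- choose `x` with `x⁻¹ * φ x = g⁻¹`, i.e. `g = (φ x)⁻¹ * x`
  obtain ⟨w, hw⟩ := h.exists_div_eq g⁻¹
  -- `P = w⁻¹ • P₀`
  refine ⟨w⁻¹ • P₀, ?_⟩
  apply map_eq_of_forall_mem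
  intro y hy
  rw [Sylow.coe_subgroup_smul, Cfsg.Agent.Lib.Helper1_Transport.mem_conj_smul_iff] at hy ⊢
  rw [inv_inv] at hy ⊢
  -- `w * y * w⁻¹ ∈ P₀`, so `φ (w y w⁻¹) ∈ g • P₀`
  have h1 : φ (w * y * w⁻¹) ∈ MulAut.conj g • (P₀ : Subgroup G) := by
    rw [hg']
    exact ⟨_, hy, rfl⟩
  rw [Cfsg.Agent.Lib.Helper1_Transport.mem_conj_smul_iff] at h1
  have hg2 : g = φ w * w⁻¹ := by
    have : g⁻¹ = w * (φ w)⁻¹ := hw.symm
    rw [← inv_inv g, this]; group
  have h2 : w * φ y * w⁻¹ = g⁻¹ * φ (w * y * w⁻¹) * g := by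
    rw [hg2, map_mul, map_mul, map_inv]; group
  rw [h2]
  exact h1


/-- The Frobenius-action step: an invariant abelian subgroup `V` normalized by an invariant subgroup
`S` of coprime order with `C_V(S) = 1` is trivial (`r` prime). -/
theorem FPF.frobStep [Finite G] {r : ℕ} (hr : r.Prime) {φ : G ≃* G} (h : FPF r φ)
    (V S : Subgroup G) (hV : V.map φ.toMonoidHom = V) (hS : S.map φ.toMonoidHom = S)
    (hVab : IsMulCommutative V) (hSV : S ≤ normalizer (V : Set G))
    (hcop : (Nat.card V).Coprime (Nat.card S))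
    (hCV : ∀ v ∈ V, (∀ s ∈ S, s * v = v * s) → v = 1) : V = ⊥ := by
  let ι : G →* Equiv.Perm G := MulAction.toPermHom G G
  have hι : Function.Injective ι := MulAction.toPerm_injective
  have hιx : ∀ g x : G, ι g x = g * x := fun g x => rfl
  let a : Equiv.Perm G := φ.toEquiv
  have hax : ∀ x : G, a x = φ x := fun x => rfl
  have hainv : ∀ x : G, a⁻¹ x = φ.symm x := fun x => rfl
  have key : ∀ g : G, a * ι g * a⁻¹ = ι (φ g) := by
    intro g
    ext x
    rw [Equiv.Perm.mul_apply, Equiv.Perm.mul_apply, hainv, hιx, hax, hιx, map_mul,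
      MulEquiv.apply_symm_apply]
  have key' : ∀ g : G, a⁻¹ * ι g * a⁻¹⁻¹ = ι (φ.symm g) := by
    intro g
    ext x
    rw [inv_inv, Equiv.Perm.mul_apply, Equiv.Perm.mul_apply, hainv, hιx, hax, hιx, map_mul,
      MulEquiv.symm_apply_apply]
  have har : a ^ r = 1 := by
    ext x
    rw [← Equiv.Perm.iterate_eq_pow]
    exact h.iter x
  have hnorm : ∀ M : Subgroup G, M.map φ.toMonoidHom = M →
      a ∈ normalizer ((M.map ι : Subgroup (Equiv.Perm G)) : Set (Equiv.Perm G)) := by
    intro M hM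
    rw [mem_normalizer_iff]
    intro y
    constructor
    · rintro ⟨m, hm, rfl⟩
      rw [key]
      exact ⟨φ m, apply_mem_of_map_eq φ hM hm, rfl⟩
    · intro hy
      obtain ⟨m, hm, hmy⟩ := hy
      have : y = a⁻¹ * ι m * a⁻¹⁻¹ := by
        rw [hmy]; group
      rw [this, key']
      exact ⟨φ.symm m, symm_mem_of_map_eq φ hM hm, rfl⟩
  have hVab' : IsMulCommutative (V.map ι) := Subgroup.map_isMulCommutative V ι
  have hmain := Cfsg.Agent.Lib.Helper1_FrobStep.frobStep (V.map ι) (S.map ι) a hr har hVab'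
    ((map_mono hSV).trans (le_normalizer_map ι)) (hnorm V hV) (hnorm S hS)
    (by rw [card_map_of_injective hι, card_map_of_injective hι]; exact hcop)
    (by
      rintro _ ⟨s, hs, rfl⟩ hcomm
      have h1 : a * ι s * a⁻¹ = ι s := by rw [hcomm]; group
      rw [key] at h1
      rw [h.fpf s (hι h1), map_one])
    (by
      rintro _ ⟨v, hv, rfl⟩ hcomm
      have h1 : a * ι v * a⁻¹ = ι v := by rw [hcomm]; group
      rw [key] at h1
      rw [h.fpf v (hι h1), map_one])
    (by
      rintro _ ⟨v, hv, rfl⟩ hcomm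
      rw [hCV v hv, map_one]
      intro s hs
      apply hι
      rw [map_mul, map_mul]
      exact hcomm _ ⟨s, hs, rfl⟩)
  rw [eq_bot_iff]
  intro v hv
  have : ι v ∈ V.map ι := ⟨v, hv, rfl⟩
  rw [hmain, mem_bot] at this
  rw [mem_bot]
  exact hι (by rw [this, map_one])

end Cfsg.Agent.Lib.Helper1_FPFAut
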