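import Mathlib
import Cfsg.Agent.S0653
import Cfsg.Agent.S0622
import Cfsg.Prelude.Def_PLocal
import Cfsg.Prelude.Def_ConjugacyFunctors

/-!
# The functor `Q ↦ Z(J_A(Q))` (helper1)

`WZJ Q` is the centre of the abelian-version Thompson subgroup of the group `Q`.  It is an
isomorphism-invariant `p`-group functor (`Cfsg.IsCharPFunctor`), and the subgroup map induced by it is
`Cfsg.centerThompsonAOf`.
-/

set_option autoImplicit false

namespace Cfsg.Agent.Lib.Helper1_ZJFunctor

open Subgroup Cfsg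

universe u

/-- The functor `Q ↦ Z(J_A(Q))`. -/
def WZJ (Q : Type u) [Group Q] : Subgroup Q :=
  thompsonSubgroupA Q ⊓ centralizer (thompsonSubgroupA Q : Set Q)

/-- The image of a largest abelian subgroup under an isomorphism is a largest abelian subgroup. -/
theorem map_mem_maxAbelianSubgroups {Q R : Type*} [Group Q] [Group R] (φ : Q ≃* R)
    {A : Subgroup Q} (hA : A ∈ maxAbelianSubgroups Q) :
    A.map φ.toMonoidHom ∈ maxAbelianSubgroups R := by
  obtain ⟨hA1, hA2⟩ := hA
  refine ⟨Subgroup.map_isMulCommutative A φ.toMonoidHom, ?_⟩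
  intro B hB
  have h1 : IsMulCommutative (B.map φ.symm.toMonoidHom) :=
    Subgroup.map_isMulCommutative B φ.symm.toMonoidHom
  have h2 := hA2 _ h1
  rw [Subgroup.card_map_of_injective φ.symm.injective] at h2
  rw [Subgroup.card_map_of_injective φ.injective]
  exact h2

theorem thompsonSubgroupA_map_le {Q R : Type*} [Group Q] [Group R] (φ : Q ≃* R) :
    (thompsonSubgroupA Q).map φ.toMonoidHom ≤ thompsonSubgroupA R := by
  rw [Subgroup.map_le_iff_le_comap]
  unfold thompsonSubgroupA
  apply sSup_le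
  intro A hA
  rw [← Subgroup.map_le_iff_le_comap]
  exact le_sSup (map_mem_maxAbelianSubgroups φ hA)

/-- `J_A` commutes with isomorphisms. -/
theorem thompsonSubgroupA_map {Q R : Type*} [Group Q] [Group R] (φ : Q ≃* R) :
    (thompsonSubgroupA Q).map φ.toMonoidHom = thompsonSubgroupA R := by
  apply le_antisymm (thompsonSubgroupA_map_le φ)
  have h1 := Subgroup.map_mono (f := φ.toMonoidHom) (thompsonSubgroupA_map_le φ.symm)
  rwa [Subgroup.map_map, show φ.toMonoidHom.comp φ.symm.toMonoidHom = MonoidHom.id R from by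
    ext x; simp, Subgroup.map_id] at h1

/-- `Z(J_A)` commutes with isomorphisms. -/
theorem WZJ_map {Q R : Type u} [Group Q] [Group R] (φ : Q ≃* R) :
    (WZJ Q).map φ.toMonoidHom = WZJ R := by
  unfold WZJ
  rw [Cfsg.Agent.S0622.map_inf_centralizer_of_injective φ.toMonoidHom φ.injective,
    thompsonSubgroupA_map]

/-- `J_A(Q) ≠ 1` for a nontrivial finite group. -/
theorem thompsonSubgroupA_ne_bot (Q : Type u) [Group Q] [Finite Q] [Nontrivial Q] :
    thompsonSubgroupA Q ≠ ⊥ := by
  obtain ⟨A, hA⟩ := Cfsg.Agent.S0653.nonempty_maxAb Q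
  obtain ⟨g, hg⟩ := exists_ne (1 : Q)
  have h1 : IsMulCommutative (zpowers g) := inferInstance
  have h2 := hA.2 _ h1
  have hAJ : A ≤ thompsonSubgroupA Q := le_sSup hA
  intro h
  rw [h, le_bot_iff] at hAJ
  rw [hAJ, card_bot, Nat.card_zpowers] at h2
  have h3 : orderOf g = 1 := le_antisymm h2 (orderOf_pos g)
  exact hg (orderOf_eq_one_iff.mp h3)

/-- `Z(J_A(Q)) ≠ 1` for a nontrivial finite `p`-group. -/
theorem WZJ_ne_bot {p : ℕ} [hp : Fact p.Prime] (Q : Type u) [Group Q] [Finite Q]
    (hQ : IsPGroup p Q) (hnt : Nontrivial Q) : WZJ Q ≠ ⊥ := by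
  have hJ := thompsonSubgroupA_ne_bot Q
  have hJp : IsPGroup p (thompsonSubgroupA Q) := hQ.to_subgroup _
  have hnt' : Nontrivial (thompsonSubgroupA Q) := (nontrivial_iff_ne_bot _).mpr hJ
  have hc : Nontrivial (center (thompsonSubgroupA Q)) := hJp.center_nontrivial
  obtain ⟨⟨z, hz⟩, hz1⟩ := exists_ne (1 : center (thompsonSubgroupA Q))
  intro h
  have hmem : (z : Q) ∈ WZJ Q := by
    refine mem_inf.mpr ⟨z.2, ?_⟩
    rw [mem_centralizer_iff]
    intro x hx
    have := (mem_center_iff.mp hz) ⟨x, hx⟩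
    exact congrArg Subtype.val this
  rw [h, mem_bot] at hmem
  apply hz1
  apply Subtype.ext
  apply Subtype.ext
  exact hmem

/-- `Q ↦ Z(J_A(Q))` is an isomorphism-invariant `p`-group functor. -/
theorem isCharPFunctor_WZJ (p : ℕ) [hp : Fact p.Prime] : IsCharPFunctor.{u} p WZJ :=
  ⟨fun Q _ _ hQ hnt => WZJ_ne_bot Q hQ hnt, fun _ _ _ _ _ _ φ => WZJ_map φ⟩

/-- The subgroup map induced by `WZJ` is `Cfsg.centerThompsonAOf`. -/
theorem inducedFunctor_WZJ {G : Type u} [Group G] (P : Subgroup G) :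
    inducedFunctor WZJ P = centerThompsonAOf P := by
  unfold inducedFunctor WZJ centerThompsonAOf thompsonSubgroupAOf
  exact Cfsg.Agent.S0622.map_inf_centralizer_of_injective P.subtype P.subtype_injective _

end Cfsg.Agent.Lib.Helper1_ZJFunctor
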