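import Mathlib

/-!
p-stability (helper1), part 1: the ring-theoretic core.

In a ring of odd prime characteristic `p`, an element `1 + N` with `N * N = 0` that "normalizes"
a commuting set `R` of elements of `p'`-order (closed under squaring) commutes with `R`.
-/

set_option autoImplicit false

namespace Cfsg.Agent.Lib.Helper1_PStable

section RingLemma

variable {E : Type*} [Ring E]

/-- Elements of the additive closure of a commuting set commute. -/
theorem commute_of_mem_closure {R : Set E} (hR : ∀ a ∈ R, ∀ b ∈ R, Commute a b) :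
    ∀ a ∈ AddSubgroup.closure R, ∀ b ∈ AddSubgroup.closure R, Commute a b := by
  have h1 : ∀ a ∈ R, ∀ b ∈ AddSubgroup.closure R, Commute a b := by
    intro a ha b hb
    induction hb using AddSubgroup.closure_induction with
    | mem x hx => exact hR a ha x hx
    | zero => exact Commute.zero_right a
    | add x y _ _ hx hy => exact hx.add_right hy
    | neg x _ hx => exact hx.neg_right
  intro a ha b hb
  induction ha using AddSubgroup.closure_induction with
  | mem x hx => exact h1 x hx b hb
  | zero => exact Commute.zero_left b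
  | add x y _ _ hx hy => exact hx.add_left hy
  | neg x _ hx => exact hx.neg_left

variable {p : ℕ} [hp : Fact p.Prime] [CharP E p]

/-- The Frobenius-power map fixes the additive closure of a commuting set of fixed elements. -/
theorem pow_eq_self_of_mem_closure (hp2 : p ≠ 2) {R : Set E}
    (hR : ∀ a ∈ R, ∀ b ∈ R, Commute a b) (k : ℕ) (hw : ∀ w ∈ R, w ^ (p ^ k) = w) :
    ∀ T ∈ AddSubgroup.closure R, T ^ (p ^ k) = T := by
  have hodd : Odd (p ^ k) := (hp.out.odd_of_ne_two hp2).pow
  intro T hT
  induction hT using AddSubgroup.closure_induction with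
  | mem x hx => exact hw x hx
  | zero => exact zero_pow (pow_ne_zero _ hp.out.ne_zero)
  | add x y hx hy ihx ihy =>
    rw [add_pow_char_pow_of_commute p k (commute_of_mem_closure hR x hx y hy), ihx, ihy]
  | neg x _ ihx => rw [hodd.neg_pow, ihx]

/-- **Ring lemma.** -/
theorem commute_of_quadratic (hp2 : p ≠ 2) {R : Set E} (hcomm : ∀ a ∈ R, ∀ b ∈ R, Commute a b)
    (hsq : ∀ w ∈ R, w * w ∈ R) {m : ℕ} (hm : m.Coprime p) (hpow : ∀ w ∈ R, w ^ (m + 1) = w)
    {N : E} (hN : N * N = 0) (hconj : ∀ w ∈ R, (1 - N) * w * (1 + N) ∈ R) :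
    ∀ w ∈ R, w * N = N * w := by
  have hpp := hp.out
  have hm0 : m ≠ 0 := by
    rintro rfl
    rw [Nat.coprime_zero_left] at hm
    exact hpp.ne_one hm
  set k := Nat.totient m with hk
  have hk0 : 0 < k := Nat.totient_pos.mpr (Nat.pos_of_ne_zero hm0)
  have hq1 : p ^ k ≡ 1 [MOD m] := Nat.ModEq.pow_totient hm.symm
  have hqge : 1 ≤ p ^ k := Nat.one_le_pow _ _ hpp.pos
  obtain ⟨j, hj⟩ : m ∣ p ^ k - 1 := (Nat.modEq_iff_dvd' hqge).mp hq1.symm
  have hq : p ^ k = m * j + 1 := by omega
  -- elements of `R` are fixed by the `p^k`-th power map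
  have hw : ∀ w ∈ R, w ^ (p ^ k) = w := by
    intro w hwR
    rw [hq]
    clear hj hq
    induction j with
    | zero => simp
    | succ j ih =>
      have : m * (j + 1) + 1 = (m * j + 1) + m := by ring
      rw [this, pow_add, ih, ← pow_succ', hpow w hwR]
  have hfix := pow_eq_self_of_mem_closure hp2 hcomm k hw
  have hq2 : 2 ≤ p ^ k := by
    calc 2 ≤ p := hpp.two_le
      _ = p ^ 1 := (pow_one p).symm
      _ ≤ p ^ k := Nat.pow_le_pow_right hpp.pos hk0
  -- the closure is reduced
  have hred : ∀ T ∈ AddSubgroup.closure R, T * T = 0 → T = 0 := by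
    intro T hT hTT
    rw [← hfix T hT]
    obtain ⟨c, hc⟩ : ∃ c, p ^ k = 2 + c := ⟨p ^ k - 2, by omega⟩
    rw [hc, pow_add, pow_two, hTT, zero_mul]
  have hNl : ∀ x : E, N * (N * x) = 0 := fun x => by rw [← mul_assoc, hN, zero_mul]
  -- `p = 2n + 1`
  obtain ⟨n, hn⟩ : ∃ n, p = 2 * n + 1 := by
    obtain ⟨n, hn⟩ := hpp.odd_of_ne_two hp2
    exact ⟨n, hn⟩
  have hpE : (2 : E) * (n : E) = -1 := by
    have h1 : ((2 * n + 1 : ℕ) : E) = 0 := by rw [← hn]; exact CharP.cast_eq_zero E p
    push_cast at h1
    exact eq_neg_of_add_eq_zero_left h1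
  -- first step: `N w N = 0`
  have hNwN : ∀ w ∈ R, N * w * N = 0 := by
    intro w hwR
    set f1 := (1 - N) * w * (1 + N) with hf1
    have hf1R : f1 ∈ R := hconj w hwR
    set f2 := (1 - N) * f1 * (1 + N) with hf2
    have hf2R : f2 ∈ R := hconj f1 hf1R
    have hS : ∀ x ∈ R, x ∈ AddSubgroup.closure R := fun x hx => AddSubgroup.subset_closure hx
    have hcomb : f2 - f1 - f1 + w = -(N * w * N + N * w * N) := by
      rw [hf2, hf1]
      simp only [mul_add, add_mul, mul_sub, sub_mul, mul_one, one_mul, mul_assoc, hN, hNl,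
        mul_zero, sub_zero, add_zero]
      abel
    have hmem : -(N * w * N + N * w * N) ∈ AddSubgroup.closure R := by
      rw [← hcomb]
      exact AddSubgroup.add_mem _ (AddSubgroup.sub_mem _ (AddSubgroup.sub_mem _ (hS _ hf2R)
        (hS _ hf1R)) (hS _ hf1R)) (hS _ hwR)
    have hC : N * w * N ∈ AddSubgroup.closure R := by
      have h1 := AddSubgroup.nsmul_mem _ hmem n
      have h2 : n • -(N * w * N + N * w * N) = N * w * N := by
        rw [nsmul_eq_mul, mul_neg, ← two_mul, ← mul_assoc, Nat.cast_comm n (2 : E), hpE]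
        simp
      rwa [h2] at h1
    apply hred _ hC
    simp only [mul_assoc, hNl, mul_zero]
  intro w hwR
  have hS : ∀ x ∈ R, x ∈ AddSubgroup.closure R := fun x hx => AddSubgroup.subset_closure hx
  have hB : w * N - N * w ∈ AddSubgroup.closure R := by
    have h1 : (1 - N) * w * (1 + N) - w = w * N - N * w := by
      have h2 := hNwN w hwR
      simp only [mul_add, sub_mul, mul_one, one_mul]
      rw [h2]
      abel
    rw [← h1]
    exact AddSubgroup.sub_mem _ (hS _ (hconj w hwR)) (hS _ hwR)
  have hBB : (w * N - N * w) * (w * N - N * w) = 0 := by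
    have h2 := hNwN w hwR
    have h3 := hNwN (w * w) (hsq w hwR)
    have e1 : (w * N - N * w) * (w * N - N * w) =
        w * (N * w * N) - w * (N * N) * w - N * (w * w) * N + (N * w * N) * w := by
      noncomm_ring
    rw [e1, h2, hN, h3]
    simp
  exact sub_eq_zero.mp (hred _ hB hBB)

end RingLemma


section Module

variable {X M : Type*} [Group X] [CommGroup M] [MulDistribMulAction X M]

/-- The representation of `X` on the additive group `Additive M`. -/
def rho : X →* AddMonoid.End (Additive M) where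
  toFun g := AddMonoidHom.mk' (fun m => Additive.ofMul (g • Additive.toMul m))
    (fun m n => by
      change Additive.ofMul (g • (Additive.toMul m * Additive.toMul n)) = _
      rw [smul_mul']; rfl)
  map_one' := by
    ext m
    change Additive.ofMul ((1 : X) • Additive.toMul m) = m
    rw [one_smul]; rfl
  map_mul' g h := by
    ext m
    change Additive.ofMul ((g * h) • Additive.toMul m) =
      Additive.ofMul (g • Additive.toMul (Additive.ofMul (h • Additive.toMul m)))
    rw [mul_smul]; rfl

theorem rho_apply (g : X) (m : Additive M) :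
    rho g m = Additive.ofMul (g • Additive.toMul m) := rfl

theorem rho_eq_iff (g h : X) : rho (M := M) g = rho h ↔ ∀ m : M, g • m = h • m := by
  constructor
  · intro hgh m
    have h1 := DFunLike.congr_fun hgh (Additive.ofMul m)
    exact h1
  · intro hgh
    ext m
    exact congrArg Additive.ofMul (hgh (Additive.toMul m))

/-- **Module step.** A quadratically acting element commutes, in its action on an elementary
abelian `p`-group (`p` odd), with a normal subgroup acting as an abelian `p'`-group. -/
theorem smul_comm_of_quadratic {p : ℕ} [hp : Fact p.Prime] (hp2 : p ≠ 2)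
    (hexp : ∀ m : M, m ^ p = 1) (K : Subgroup X) [hK : K.Normal]
    (hKab : ∀ k₁ ∈ K, ∀ k₂ ∈ K, ∀ m : M, (k₁ * k₂) • m = (k₂ * k₁) • m)
    {e : ℕ} (he : e.Coprime p) (hKexp : ∀ k ∈ K, ∀ m : M, (k ^ e) • m = m)
    (a : X) (hquad : ∀ m : M, a • a • m * m = a • m * a • m) :
    ∀ k ∈ K, ∀ m : M, (a * k) • m = (k * a) • m := by
  by_cases hsub : Subsingleton M
  · intro k _ m
    exact Subsingleton.elim _ _
  rw [not_subsingleton_iff_nontrivial] at hsub
  obtain ⟨m₀, hm₀⟩ := exists_ne (1 : M)
  have hord : orderOf m₀ = p := by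
    rcases (Nat.dvd_prime hp.out).mp (orderOf_dvd_of_pow_eq_one (hexp m₀)) with h | h
    · exact absurd (orderOf_eq_one_iff.mp h) hm₀
    · exact h
  have hchar : CharP (AddMonoid.End (Additive M)) p := by
    refine ⟨fun n => ⟨fun hn => ?_, fun hn => ?_⟩⟩
    · have h1 := DFunLike.congr_fun hn (Additive.ofMul m₀)
      rw [AddMonoid.End.natCast_apply] at h1
      have h2 : m₀ ^ n = 1 := h1
      rw [← hord]
      exact orderOf_dvd_of_pow_eq_one h2
    · obtain ⟨c, rfl⟩ := hn
      ext m
      rw [AddMonoid.End.natCast_apply]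
      change (Additive.toMul m) ^ (p * c) = 1
      rw [pow_mul, hexp, one_pow]
  set N : AddMonoid.End (Additive M) := rho a - 1 with hNdef
  have hNN : N * N = 0 := by
    have h1 : rho (M := M) a * rho a + 1 = rho a + rho a := by
      ext m
      exact congrArg Additive.ofMul (hquad (Additive.toMul m))
    have h2 : N * N = (rho (M := M) a * rho a + 1) - (rho a + rho a) := by
      rw [hNdef]
      simp only [mul_sub, sub_mul, mul_one, one_mul]
      abel
    rw [h2, h1, sub_self]
  have h1N : 1 + N = rho a := by rw [hNdef]; abel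
  have h1N' : 1 - N = rho a⁻¹ := by
    have h3 : (1 - N) * (1 + N) = 1 := by
      have : (1 - N) * (1 + N) = 1 - N * N := by
        simp only [mul_add, sub_mul, mul_one, one_mul]
        abel
      rw [this, hNN, sub_zero]
    have h4 : rho (M := M) a * rho a⁻¹ = 1 := by rw [← map_mul, mul_inv_cancel, map_one]
    calc 1 - N = (1 - N) * (rho a * rho a⁻¹) := by rw [h4, mul_one]
      _ = ((1 - N) * (1 + N)) * rho a⁻¹ := by rw [h1N, mul_assoc]
      _ = rho a⁻¹ := by rw [h3, one_mul]
  have key := commute_of_quadratic (E := AddMonoid.End (Additive M)) hp2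
    (R := (rho (M := M)) '' (K : Set X))
    (by
      rintro _ ⟨k₁, hk₁, rfl⟩ _ ⟨k₂, hk₂, rfl⟩
      change rho k₁ * rho k₂ = rho k₂ * rho k₁
      rw [← map_mul, ← map_mul, rho_eq_iff]
      exact hKab k₁ hk₁ k₂ hk₂)
    (by
      rintro _ ⟨k, hk, rfl⟩
      exact ⟨k * k, K.mul_mem hk hk, map_mul _ _ _⟩)
    he
    (by
      rintro _ ⟨k, hk, rfl⟩
      rw [← map_pow, rho_eq_iff]
      intro m
      rw [pow_succ, mul_smul, hKexp k hk])
    hNN
    (by
      rintro _ ⟨k, hk, rfl⟩
      refine ⟨a⁻¹ * k * a, ?_, ?_⟩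
      · have := hK.conj_mem k hk a⁻¹
        simpa using this
      · rw [h1N, h1N', map_mul, map_mul])
  intro k hk
  rw [← rho_eq_iff]
  have h5 := key (rho k) ⟨k, hk, rfl⟩
  rw [map_mul, map_mul, ← h1N, mul_add, add_mul, mul_one, one_mul, h5]

end Module

end Cfsg.Agent.Lib.Helper1_PStable
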