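import Mathlib
import Cfsg.Agent.Lib.Helper1_PStable
import Cfsg.Agent.Lib.Helper1_Transport
import Cfsg.Agent.Lib.Helper1_MinNormal
import Cfsg.Agent.Lib.Helper9_CLT2
import Cfsg.Agent.Lib.Helper24_Coprime

/-!
p-stability (helper1), part 2: group theory.

`Hyp`: a finite group `X` with normal subgroups `H ≤ K`, `H` a `p`-group, `K / H` an abelian
`p'`-group and `X / K` a `p`-group (all stated elementwise).  For `p` odd, in such a group the
`p'`-elements of the normal closure of a set of quadratically acting `p`-elements centralize the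
normal `p`-subgroup acted upon.
-/

set_option autoImplicit false

namespace Cfsg.Agent.Lib.Helper1_PStable

open Subgroup

/-- An element `s` with `s ^ (p ^ n) = 1` generates a `p`-group. -/
theorem isPGroup_zpowers_of_pow_prime_pow {Y : Type*} [Group Y] {p : ℕ} [hp : Fact p.Prime]
    {s : Y} {n : ℕ} (hs : s ^ (p ^ n) = 1) : IsPGroup p (zpowers s) := by
  obtain ⟨j, -, hj⟩ := (Nat.dvd_prime_pow hp.out).mp (orderOf_dvd_of_pow_eq_one hs)
  exact IsPGroup.of_card (n := j) (by rw [Nat.card_zpowers, hj])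

/-- A set of `p`-elements centralizing an abelian normal subgroup `L` with `Y / L` a `p`-group
generates a `p`-group. -/
theorem isPGroup_closure_of_centralizes {Y : Type*} [Group Y] [Finite Y] {p : ℕ} [Fact p.Prime]
    (L : Subgroup Y) [L.Normal]
    (hYL : ∀ g : Y, ∃ n : ℕ, g ^ (p ^ n) ∈ L)
    (S : Set Y) (hSp : ∀ s ∈ S, ∃ n : ℕ, s ^ (p ^ n) = 1)
    (hSc : ∀ s ∈ S, ∀ x ∈ L, s * x = x * s) : IsPGroup p (closure S) := by
  set N' := centralizer (L : Set Y) with hN'
  let f : N' →* Y ⧸ L := (QuotientGroup.mk' L).comp N'.subtype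
  have hker : f.ker ≤ center N' := by
    intro x hx
    rw [MonoidHom.mem_ker] at hx
    have hxL : (x : Y) ∈ L := (QuotientGroup.eq_one_iff _).mp hx
    rw [mem_center_iff]
    intro y
    apply Subtype.ext
    exact (mem_centralizer_iff.mp y.2 x hxL).symm
  have hYLp : IsPGroup p (Y ⧸ L) := by
    intro g
    obtain ⟨g, rfl⟩ := QuotientGroup.mk_surjective g
    obtain ⟨n, hn⟩ := hYL g
    exact ⟨n, by rw [← QuotientGroup.mk_pow]; exact (QuotientGroup.eq_one_iff _).mpr hn⟩
  have : Group.IsNilpotent (Y ⧸ L) := hYLp.isNilpotent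
  have hnil : Group.IsNilpotent N' := Subgroup.isNilpotent_of_ker_le_center f hker
  have P : Sylow p N' := default
  have htfae : Group.IsNilpotent N' →
      ∀ (q : ℕ), Fact (Nat.Prime q) → ∀ (Q : Sylow q N'), (Q : Subgroup N').Normal :=
    ((Group.isNilpotent_of_finite_tfae (G := N')).out 0 3).mp
  have hPn : (P : Subgroup N').Normal := htfae hnil p inferInstance P
  have hS : S ⊆ ((P : Subgroup N').map N'.subtype : Subgroup Y) := by
    intro s hs
    have hsN : s ∈ N' := by
      rw [hN', mem_centralizer_iff]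
      intro x hx
      exact (hSc s hs x hx).symm
    obtain ⟨n, hn⟩ := hSp s hs
    have hzp : IsPGroup p (zpowers (⟨s, hsN⟩ : N')) :=
      isPGroup_zpowers_of_pow_prime_pow (n := n) (Subtype.ext (by simpa using hn))
    obtain ⟨Q, hQ⟩ := hzp.exists_le_sylow
    obtain ⟨g, rfl⟩ := MulAction.exists_smul_eq N' P Q
    rw [Sylow.smul_eq_of_normal] at hQ
    exact ⟨⟨s, hsN⟩, hQ (mem_zpowers _), rfl⟩
  exact (P.isPGroup'.map N'.subtype).to_le ((closure_le _).mpr hS)


/-- The hypotheses on the ambient group, stated elementwise: `H ≤ K` normal, `H` a `p`-group,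
`K / H` abelian of exponent prime to `p`, `X / K` of `p`-power exponent. -/
structure Hyp (p : ℕ) {X : Type*} [Group X] (K H : Subgroup X) : Prop where
  Kn : K.Normal
  Hn : H.Normal
  Hp : IsPGroup p H
  Kab : ∀ k₁ ∈ K, ∀ k₂ ∈ K, k₁ * k₂ * k₁⁻¹ * k₂⁻¹ ∈ H
  Kexp : ∃ e : ℕ, e.Coprime p ∧ ∀ k ∈ K, k ^ e ∈ H
  XK : ∀ g : X, ∃ n : ℕ, g ^ (p ^ n) ∈ K

section Bottom

open scoped IsMulCommutative commutatorElement

variable {X : Type*} [Group X]

/-- The conjugation action of `X` on a normal subgroup. -/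
@[reducible] def normalConjAction (M : Subgroup X) [M.Normal] : MulDistribMulAction X M :=
  MulDistribMulAction.compHom M (MulAut.conjNormal (H := M))

theorem normalConjAction_coe (M : Subgroup X) [M.Normal] (g : X) (m : M) :
    letI := normalConjAction M
    ((g • m : M) : X) = g * m * g⁻¹ := rfl

/-- quadratic action, elementwise, from the commutator condition -/
theorem quadratic_elementwise (M : Subgroup X) [M.Normal] [IsMulCommutative M] (a : X)
    (hq : ⁅⁅M, zpowers a⁆, zpowers a⁆ = ⊥) :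
    letI := normalConjAction M
    ∀ m : M, a • a • m * m = a • m * a • m := by
  let _ := normalConjAction M
  intro m
  have h1 : ⁅(m : X), a⁆ ∈ ⁅M, zpowers a⁆ := commutator_mem_commutator m.2 (mem_zpowers a)
  have h2 : ⁅⁅(m : X), a⁆, a⁆ ∈ ⁅⁅M, zpowers a⁆, zpowers a⁆ :=
    commutator_mem_commutator h1 (mem_zpowers a)
  rw [hq, mem_bot, commutatorElement_eq_one_iff_mul_comm] at h2
  -- `c = m * (a • m)⁻¹` commutes with `a`
  have h3 : a • (m * (a • m)⁻¹) = m * (a • m)⁻¹ := by
    apply Subtype.ext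
    change a * ((m : X) * (a * m * a⁻¹)⁻¹) * a⁻¹ = (m : X) * (a * m * a⁻¹)⁻¹
    have h4 : ⁅(m : X), a⁆ = (m : X) * (a * m * a⁻¹)⁻¹ := by
      rw [commutatorElement_def]; group
    rw [← h4, ← h2]; group
  rw [smul_mul', smul_inv'] at h3
  -- in the commutative group `M`
  set x := a • m with hx
  set y := a • a • m with hy
  calc y * m = m * x⁻¹ * (y * x) := by
        rw [mul_comm y x, ← mul_assoc, inv_mul_cancel_right, mul_comm]
    _ = x * y⁻¹ * (y * x) := by rw [h3]
    _ = x * x := by group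


/-- **Bottom step**: `p'`-elements of the normal closure of quadratically acting `p`-elements
centralize an elementary abelian normal subgroup `M` centralized by `H`. -/
theorem centralizes_bottom [Finite X] {p : ℕ} [hp : Fact p.Prime] (hp2 : p ≠ 2)
    {K H : Subgroup X} (hyp : Hyp p K H)
    (M : Subgroup X) [hMn : M.Normal] [IsMulCommutative M] (hMexp : ∀ x ∈ M, x ^ p = 1)
    (hHM : H ≤ centralizer (M : Set X))
    (A : Set X) (hAp : ∀ a ∈ A, ∃ n : ℕ, a ^ (p ^ n) = 1)
    (hAq : ∀ a ∈ A, ⁅⁅M, zpowers a⁆, zpowers a⁆ = ⊥)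
    (b : X) (hb : b ∈ normalClosure A) (hbp : (orderOf b).Coprime p) :
    b ∈ centralizer (M : Set X) := by
  let _ := normalConjAction M
  have hKn : K.Normal := hyp.Kn
  obtain ⟨e, he, hKe⟩ := hyp.Kexp
  have hexp : ∀ m : M, m ^ p = 1 := fun m => Subtype.ext (by simpa using hMexp m m.2)
  -- elements of `H` act trivially
  have hHact : ∀ h ∈ H, ∀ m : M, h • m = m := by
    intro h hh m
    apply Subtype.ext
    change h * (m : X) * h⁻¹ = m
    have := mem_centralizer_iff.mp (hHM hh) m m.2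
    rw [← this]; group
  have hKab : ∀ k₁ ∈ K, ∀ k₂ ∈ K, ∀ m : M, (k₁ * k₂) • m = (k₂ * k₁) • m := by
    intro k₁ hk₁ k₂ hk₂ m
    have h1 := hHact _ (hyp.Kab k₁ hk₁ k₂ hk₂) ((k₂ * k₁) • m)
    rw [← mul_smul] at h1
    rw [← h1]
    congr 1
    group
  have hKexp : ∀ k ∈ K, ∀ m : M, (k ^ e) • m = m := fun k hk m => hHact _ (hKe k hk) m
  -- conjugates of elements of `A` commute with `K` in the action
  have hcomm : ∀ a' ∈ Group.conjugatesOfSet A, ∀ k ∈ K, ∀ m : M, (a' * k) • m = (k * a') • m := by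
    intro a' ha'
    rw [Group.mem_conjugatesOfSet_iff] at ha'
    obtain ⟨a, haA, hconj⟩ := ha'
    obtain ⟨g, rfl⟩ := isConj_iff.mp hconj
    have hq := quadratic_elementwise M a (hAq a haA)
    apply smul_comm_of_quadratic hp2 hexp K hKab he hKexp
    intro m
    have h1 := congrArg (fun t => g • t) (hq (g⁻¹ • m))
    simp only [smul_mul', ← mul_smul] at h1
    have e1 : (g * a * g⁻¹) * (g * a * g⁻¹) = g * (a * (a * g⁻¹)) := by group
    have e2 : g * a * g⁻¹ = g * (a * g⁻¹) := by group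
    rw [mul_inv_cancel, one_smul] at h1
    rw [← mul_smul, e1, e2]
    exact h1
  -- pass to `Y = X / C_X(M)`
  set C := centralizer (M : Set X) with hC
  have hCn : C.Normal := normal_centralizer
  set π := QuotientGroup.mk' C with hπ
  have hπs : Function.Surjective π := QuotientGroup.mk'_surjective C
  have hLn : (K.map π).Normal := hKn.map π hπs
  have hmemC : ∀ u v : X, (∀ m : M, u • m = v • m) → π u = π v := by
    intro u v huv
    rw [hπ, QuotientGroup.mk'_apply, QuotientGroup.mk'_apply, QuotientGroup.eq, hC,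
      mem_centralizer_iff]
    intro m hm
    have h1 := congrArg Subtype.val (huv ⟨m, hm⟩)
    change u * m * u⁻¹ = v * m * v⁻¹ at h1
    calc m * (u⁻¹ * v) = u⁻¹ * (u * m * u⁻¹) * v := by group
      _ = u⁻¹ * (v * m * v⁻¹) * v := by rw [h1]
      _ = u⁻¹ * v * m := by group
  have hP : IsPGroup p (closure (π '' Group.conjugatesOfSet A)) := by
    apply isPGroup_closure_of_centralizes (K.map π)
    · intro y
      obtain ⟨g, rfl⟩ := hπs y
      obtain ⟨n, hn⟩ := hyp.XK g
      exact ⟨n, by rw [← map_pow]; exact mem_map_of_mem π hn⟩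
    · rintro _ ⟨a', ha', rfl⟩
      rw [Group.mem_conjugatesOfSet_iff] at ha'
      obtain ⟨a, haA, hconj⟩ := ha'
      obtain ⟨g, rfl⟩ := isConj_iff.mp hconj
      obtain ⟨n, hn⟩ := hAp a haA
      refine ⟨n, ?_⟩
      rw [← map_pow, conj_pow, hn]
      simp
    · rintro _ ⟨a', ha', rfl⟩ _ ⟨k, hk, rfl⟩
      rw [← map_mul, ← map_mul]
      exact hmemC _ _ (hcomm a' ha' k hk)
  have hπb : π b ∈ closure (π '' Group.conjugatesOfSet A) := by
    rw [← MonoidHom.map_closure]
    exact mem_map_of_mem π hb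
  obtain ⟨n, hn⟩ := hP ⟨π b, hπb⟩
  have hn' : (π b) ^ (p ^ n) = 1 := by
    have := congrArg Subtype.val hn
    simpa using this
  have h1 : orderOf (π b) ∣ p ^ n := orderOf_dvd_of_pow_eq_one hn'
  have h2 : orderOf (π b) ∣ orderOf b := orderOf_map_dvd π b
  have h3 : orderOf (π b) = 1 :=
    Nat.eq_one_of_dvd_coprimes (Nat.Coprime.pow_right n hbp) h2 h1
  have h4 : π b = 1 := orderOf_eq_one_iff.mp h3
  rw [hπ, QuotientGroup.mk'_apply, QuotientGroup.eq_one_iff] at h4
  exact h4

end Bottom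


section Induction

open Cfsg.Agent.Lib.Helper1_Transport

universe u

/-- The hypotheses pass to homomorphic images. -/
theorem Hyp.map {p : ℕ} {X X' : Type*} [Group X] [Group X'] {K H : Subgroup X}
    (hyp : Hyp p K H) (f : X →* X') (hf : Function.Surjective f) :
    Hyp p (K.map f) (H.map f) where
  Kn := hyp.Kn.map f hf
  Hn := hyp.Hn.map f hf
  Hp := hyp.Hp.map f
  Kab := by
    rintro _ ⟨k₁, hk₁, rfl⟩ _ ⟨k₂, hk₂, rfl⟩
    exact ⟨k₁ * k₂ * k₁⁻¹ * k₂⁻¹, hyp.Kab k₁ hk₁ k₂ hk₂, by simp⟩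
  Kexp := by
    obtain ⟨e, he, hKe⟩ := hyp.Kexp
    refine ⟨e, he, ?_⟩
    rintro _ ⟨k, hk, rfl⟩
    exact ⟨k ^ e, hKe k hk, by simp⟩
  XK := by
    intro y
    obtain ⟨g, rfl⟩ := hf y
    obtain ⟨n, hn⟩ := hyp.XK g
    exact ⟨n, g ^ (p ^ n), hn, by simp⟩

/-- **Main claim**: in a group satisfying `Hyp` (`p` odd), the `p'`-elements of the normal closure
of a set of `p`-elements acting quadratically on the normal `p`-subgroup `V` centralize `V`. -/
theorem centralizes_of_coprime {p : ℕ} [hp : Fact p.Prime] (hp2 : p ≠ 2) :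
    ∀ (n : ℕ) (X : Type u) [Group X] [Finite X] (K H V : Subgroup X) [V.Normal],
      Nat.card V = n → Hyp p K H → IsPGroup p V →
      ∀ (A : Set X), (∀ a ∈ A, ∃ n : ℕ, a ^ (p ^ n) = 1) →
        (∀ a ∈ A, ⁅⁅V, zpowers a⁆, zpowers a⁆ = ⊥) →
        ∀ b ∈ normalClosure A, (orderOf b).Coprime p → b ∈ centralizer (V : Set X) := by
  intro n
  induction n using Nat.strong_induction_on with
  | _ n ih =>
    intro X _ _ K H V hVn hcard hyp hVp A hAp hAq b hb hbp
    by_cases hV : V = ⊥
    · rw [hV, mem_centralizer_iff]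
      intro x hx
      rw [SetLike.mem_coe, mem_bot] at hx
      rw [hx, one_mul, mul_one]
    have hHn : H.Normal := hyp.Hn
    obtain ⟨M, hMn, hM0, hMV, hMmin⟩ :=
      Cfsg.Agent.Lib.Helper9_CLT2.exists_minimal_normal_le V hV
    -- `M` is elementary abelian
    have hMp : IsPGroup p M := hVp.to_le hMV
    have hMnil : Group.IsNilpotent M := hMp.isNilpotent
    have hMsolv : Group.IsSolvable M := inferInstance
    obtain ⟨hMc, q, hq, hMq⟩ := Cfsg.Agent.Lib.Helper1_MinNormal.elementary_abelian_of_minimal M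
      hMsolv hM0 (fun M' hM'n hM'M => by
        by_cases h0 : M' = ⊥
        · exact Or.inl h0
        · exact Or.inr (hMmin M' hM'n h0 hM'M))
    have hqp : q = p := by
      obtain ⟨⟨x, hxM⟩, hx1⟩ := (Subgroup.ne_bot_iff_exists_ne_one).mp hM0
      have hx1' : x ≠ 1 := fun h => hx1 (Subtype.ext h)
      have h1 : orderOf x = q := by
        rcases (Nat.dvd_prime hq).mp (orderOf_dvd_of_pow_eq_one (hMq x hxM)) with h | h
        · exact absurd (orderOf_eq_one_iff.mp h) hx1'
        · exact h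
      obtain ⟨j, hj⟩ := hMp ⟨x, hxM⟩
      have h2 : x ^ (p ^ j) = 1 := by simpa using congrArg Subtype.val hj
      have h3 : q ∣ p ^ j := h1 ▸ orderOf_dvd_of_pow_eq_one h2
      exact (Nat.prime_dvd_prime_iff_eq hq hp.out).mp (hq.dvd_of_dvd_pow h3)
    have hMexp : ∀ x ∈ M, x ^ p = 1 := fun x hx => hqp ▸ hMq x hx
    -- `H` centralizes `M`
    have hHV : IsPGroup p (H ⊔ V : Subgroup X) := IsPGroup.to_sup_of_normal_right hyp.Hp hVp
    have hMc' := Cfsg.Agent.Lib.Helper9_CLT2.minimal_normal_le_centralizer p (H ⊔ V) M hHV hM0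
      (hMV.trans le_sup_right) hMmin
    have hHM : H ≤ centralizer (M : Set X) := by
      intro h hh
      rw [mem_centralizer_iff]
      intro m hm
      exact (mem_centralizer_iff.mp (hMc' hm) h (le_sup_left (a := H) hh)).symm
    -- bottom step
    have hbM : b ∈ centralizer (M : Set X) :=
      centralizes_bottom hp2 hyp M hMexp hHM A hAp
        (fun a ha => by
          rw [eq_bot_iff, ← hAq a ha]
          exact commutator_mono (commutator_mono hMV le_rfl) le_rfl) b hb hbp
    -- induction in `X ⧸ M`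
    set π := QuotientGroup.mk' M with hπ
    have hπs : Function.Surjective π := QuotientGroup.mk'_surjective M
    have hV'n : (V.map π).Normal := hVn.map π hπs
    have hcard' : Nat.card (V.map π) < n := by
      have h1 := card_map_mk'_of_le M V hMV
      have h2 : 1 < Nat.card M := M.one_lt_card_iff_ne_bot.mpr hM0
      rw [← hcard, ← h1]
      have h3 : 0 < Nat.card (V.map π) := Nat.card_pos
      nlinarith
    have hih := ih (Nat.card (V.map π)) hcard' (X ⧸ M) (K.map π) (H.map π) (V.map π) rfl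
      (hyp.map π hπs) (hVp.map π) (π '' A)
      (by
        rintro _ ⟨a, ha, rfl⟩
        obtain ⟨j, hj⟩ := hAp a ha
        exact ⟨j, by rw [← map_pow, hj, map_one]⟩)
      (by
        rintro _ ⟨a, ha, rfl⟩
        rw [← MonoidHom.map_zpowers, ← map_commutator, ← map_commutator, hAq a ha, Subgroup.map_bot])
      (π b) (by rw [← map_normalClosure A π hπs]; exact mem_map_of_mem π hb)
      (Nat.Coprime.coprime_dvd_left (orderOf_map_dvd π b) hbp)
    -- combine
    rw [mem_centralizer_iff]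
    intro v hv
    have h1 := mem_centralizer_iff.mp hih (π v) (mem_map_of_mem π hv)
    have hz : b * v * b⁻¹ * v⁻¹ ∈ M := by
      rw [← QuotientGroup.eq_one_iff]
      have h2 : π (b * v * b⁻¹ * v⁻¹) = π b * π v * (π b)⁻¹ * (π v)⁻¹ := by simp
      change π (b * v * b⁻¹ * v⁻¹) = 1
      rw [h2, ← h1]
      group
    have hzb : b * (b * v * b⁻¹ * v⁻¹) = (b * v * b⁻¹ * v⁻¹) * b :=
      (mem_centralizer_iff.mp hbM _ hz).symm
    exact (Cfsg.Agent.Lib.Helper24_Coprime.commute_of_coprime_step b v (b * v * b⁻¹ * v⁻¹) hzb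
      (by group) p (hMexp _ hz) hbp).symm

end Induction

end Cfsg.Agent.Lib.Helper1_PStable
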