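import Mathlib
import Cfsg.Agent.Lib.Helper1_PStable2
import Cfsg.Agent.Lib.Helper11_ZJ
import Cfsg.Agent.Lib.Helper1_Cores

/-!
# p-stability, part 3 (helper1)

From the hypotheses `Hyp p K H` on a finite group `X` (`p` odd) we derive the quotient-free
`p`-stability `Helper11_ZJ.StableOn` for every normal `p`-subgroup.
-/

set_option autoImplicit false

namespace Cfsg.Agent.Lib.Helper1_PStable3

open Subgroup Cfsg Cfsg.Agent.Lib.Helper1_PStable Cfsg.Agent.Lib.Helper11_ZJ

universe u

/-- A `p`-element acting quadratically on the normal `p`-subgroup `V` maps into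
`O_p(X / C_X(V))`. -/
theorem mem_pCore_of_quadratic {p : ℕ} [hp : Fact p.Prime] (hp2 : p ≠ 2)
    {X : Type u} [Group X] [Finite X] {K H : Subgroup X} (hyp : Hyp p K H)
    (V : Subgroup X) [V.Normal] (hVp : IsPGroup p V) (a : X) (hap : ∃ n : ℕ, a ^ (p ^ n) = 1)
    (haq : ⁅⁅V, zpowers a⁆, zpowers a⁆ = ⊥) :
    QuotientGroup.mk' (centralizer (V : Set X)) a ∈
      pCore p (X ⧸ centralizer (V : Set X)) := by
  set C := centralizer (V : Set X) with hC
  have hmain := centralizes_of_coprime (p := p) hp2 (Nat.card V) X K H V rfl hyp hVp {a}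
    (by intro x hx; rw [Set.mem_singleton_iff] at hx; rw [hx]; exact hap)
    (by intro x hx; rw [Set.mem_singleton_iff] at hx; rw [hx]; exact haq)
  have hNn : ((normalClosure ({a} : Set X)).map (QuotientGroup.mk' C)).Normal :=
    Subgroup.Normal.map normalClosure_normal _ (QuotientGroup.mk'_surjective _)
  have hNp : IsPGroup p ((normalClosure ({a} : Set X)).map (QuotientGroup.mk' C)) := by
    rintro ⟨_, a', ha', rfl⟩
    have hpos : orderOf a' ≠ 0 := (orderOf_pos a').ne'
    obtain ⟨e, m', hm', hem⟩ := Nat.exists_eq_pow_mul_and_not_dvd hpos p hp.out.ne_one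
    refine ⟨e, ?_⟩
    have hb : a' ^ (p ^ e) ∈ normalClosure ({a} : Set X) := pow_mem ha' _
    have hbo : orderOf (a' ^ (p ^ e)) ∣ m' := by
      apply orderOf_dvd_of_pow_eq_one
      rw [← pow_mul, ← hem, pow_orderOf_eq_one]
    have hcop : (orderOf (a' ^ (p ^ e))).Coprime p :=
      Nat.Coprime.coprime_dvd_left hbo
        ((Nat.Coprime.symm ((Nat.Prime.coprime_iff_not_dvd hp.out).mpr hm')))
    have hbC := hmain _ hb hcop
    apply Subtype.ext
    rw [SubgroupClass.coe_pow, OneMemClass.coe_one, ← map_pow]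
    exact (QuotientGroup.eq_one_iff _).mpr hbC
  have hle := Cfsg.Agent.Lib.Helper1_Cores.le_pCore hNn hNp
  exact hle ⟨a, subset_normalClosure (Set.mem_singleton a), rfl⟩

/-- The hypotheses `Hyp` give `StableOn` for every normal `p`-subgroup. -/
theorem stableOn_of_hyp {p : ℕ} [hp : Fact p.Prime] (hp2 : p ≠ 2)
    {X : Type u} [Group X] [Finite X] {K H : Subgroup X} (hyp : Hyp p K H)
    (S B : Subgroup X) (hS : IsPGroup p S) [B.Normal] (hBp : IsPGroup p B) :
    StableOn p S B := by
  have hQp : IsPGroup p (pCore p (X ⧸ Subgroup.centralizer (B : Set X))) :=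
    Cfsg.Agent.Lib.Helper1_Cores.pCore_isPGroup p
  have hQn : (pCore p (X ⧸ Subgroup.centralizer (B : Set X))).Normal :=
    Cfsg.Agent.Lib.Helper1_Cores.pCore_normal p
  refine ⟨(pCore p (X ⧸ Subgroup.centralizer (B : Set X))).comap
    (QuotientGroup.mk' (Subgroup.centralizer (B : Set X))), ?_, ?_, ?_, ?_⟩
  · exact Subgroup.Normal.comap hQn _
  · have := Subgroup.ker_le_comap (QuotientGroup.mk' (Subgroup.centralizer (B : Set X)))
      (pCore p (X ⧸ Subgroup.centralizer (B : Set X)))
    rwa [QuotientGroup.ker_mk'] at this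
  · obtain ⟨k, hk⟩ := IsPGroup.iff_card.mp hQp
    refine ⟨k, ?_⟩
    have h1 := Subgroup.relIndex_comap (⊥ : Subgroup (X ⧸ Subgroup.centralizer (B : Set X)))
      (QuotientGroup.mk' (Subgroup.centralizer (B : Set X)))
      ((pCore p (X ⧸ Subgroup.centralizer (B : Set X))).comap
        (QuotientGroup.mk' (Subgroup.centralizer (B : Set X))))
    have h2 : (⊥ : Subgroup (X ⧸ Subgroup.centralizer (B : Set X))).comap
        (QuotientGroup.mk' (Subgroup.centralizer (B : Set X))) =
          Subgroup.centralizer (B : Set X) := by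
      rw [MonoidHom.comap_bot, QuotientGroup.ker_mk']
    rw [h2, Subgroup.relIndex_bot_left, Subgroup.map_comap_eq_self_of_surjective
      (QuotientGroup.mk'_surjective _), hk] at h1
    exact h1
  · intro a haS ha
    rw [Subgroup.mem_comap]
    apply mem_pCore_of_quadratic hp2 hyp B hBp a _ ha
    obtain ⟨n, hn⟩ := hS ⟨a, haS⟩
    exact ⟨n, by simpa using congrArg Subtype.val hn⟩

end Cfsg.Agent.Lib.Helper1_PStable3
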