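import Mathlib
import Cfsg.Agent.Lib.Helper1_PStable3
import Cfsg.Agent.Lib.Helper1_Coprime
import Cfsg.Agent.Lib.Helper1_FPF
import Cfsg.Agent.Lib.Helper1_Frattini
import Cfsg.Prelude.Def_Transfer
import Cfsg.Prelude.Def_CaseTheorems

/-!
# p-stability, part 4 (helper1): the hypotheses `Hyp` in the minimal local configuration

A finite group `X` such that `X / O_p(X)` has a normal `p`-complement and a Sylow `p`-subgroup of
`X` is maximal satisfies `Hyp p K H` with `H = O_p(X)`.
-/

set_option autoImplicit false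

namespace Cfsg.Agent.Lib.Helper1_PStable4

open Subgroup Cfsg Cfsg.Agent.Lib.Helper1_PStable Cfsg.Agent.Lib.Helper11_ZJ

open scoped commutatorElement

/-- A normal `p'`-subgroup `N` of a finite group with a maximal subgroup `M` which is a `p`-group
is abelian. -/
theorem comm_of_coatom_pgroup {Y : Type*} [Group Y] [Finite Y] {p : ℕ} [hp : Fact p.Prime]
    (M N : Subgroup Y) [hNn : N.Normal] (hM : IsCoatom M) (hMp : IsPGroup p M)
    (hN : (Nat.card N).Coprime p) : ∀ x ∈ N, ∀ y ∈ N, x * y = y * x := by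
  by_cases hN1 : N = ⊥
  · intro x hx y hy
    rw [hN1, mem_bot] at hx hy
    rw [hx, hy]
  obtain ⟨k, hk⟩ := IsPGroup.iff_card.mp hMp
  have hcop : (Nat.card M).Coprime (Nat.card N) := by
    rw [hk]
    exact Nat.Coprime.pow_left _ hN.symm
  have hMN : M ⊓ N = ⊥ := (disjoint_of_coprime_natCard hcop).eq_bot
  have hNM : ¬ N ≤ M := by
    intro h
    apply hN1
    rw [eq_bot_iff, ← hMN]
    exact le_inf h le_rfl
  have hnorm : ∀ N₀ : Subgroup Y, N₀.Normal → M ≤ normalizer (N₀ : Set Y) := by
    intro N₀ h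
    rw [normalizer_eq_top]
    exact le_top
  have hcardN : Nat.card M * Nat.card N = Nat.card Y := by
    rw [← Cfsg.Agent.Lib.Helper1_FPF.card_sup_of_le_normalizer M N (hnorm N hNn) hMN]
    have : M ⊔ N = ⊤ := by
      apply hM.2
      refine lt_of_le_of_ne le_sup_left ?_
      intro h
      apply hNM
      rw [h]
      exact le_sup_right
    rw [this, card_top]
  have key : ∀ N₀ : Subgroup Y, N₀ ≤ N → M ≤ normalizer (N₀ : Set Y) → N₀ = ⊥ ∨ N₀ = N := by
    intro N₀ h0 hnm
    have hd : M ⊓ N₀ = ⊥ := by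
      rw [eq_bot_iff, ← hMN]
      exact inf_le_inf_left _ h0
    by_cases hle : N₀ ≤ M
    · left
      rw [eq_bot_iff, ← hd]
      exact le_inf hle le_rfl
    · right
      have : M ⊔ N₀ = ⊤ := by
        apply hM.2
        refine lt_of_le_of_ne le_sup_left ?_
        intro h
        apply hle
        rw [h]
        exact le_sup_right
      have hc := Cfsg.Agent.Lib.Helper1_FPF.card_sup_of_le_normalizer M N₀ hnm hd
      rw [this, card_top, ← hcardN] at hc
      have hMpos : 0 < Nat.card M := Nat.card_pos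
      have hc' : Nat.card N = Nat.card N₀ := Nat.eq_of_mul_eq_mul_left hMpos hc
      exact eq_of_le_of_card_ge h0 hc'.le
  -- `N` is a `q`-group
  have hcard1 : Nat.card N ≠ 1 := by
    intro h
    exact hN1 (card_eq_one.mp h)
  set q := (Nat.card N).minFac with hq
  have hqp : q.Prime := Nat.minFac_prime hcard1
  have : Fact q.Prime := ⟨hqp⟩
  have hqd : q ∣ Nat.card N := Nat.minFac_dvd _
  have hMsolv : Group.IsSolvable M := by
    have : Group.IsNilpotent M := hMp.isNilpotent
    infer_instance
  obtain ⟨Q, hQ⟩ := Cfsg.Agent.Lib.Helper1_Coprime.exists_invariant_sylow M N (hnorm N hNn)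
    hcop (Or.inl hMsolv) q
  have hQle : (Q : Subgroup N).map N.subtype ≤ N := map_subtype_le _
  have hQN : (Q : Subgroup N).map N.subtype = N := by
    rcases key _ hQle hQ with h | h
    · exfalso
      have h1 : (Q : Subgroup N) = ⊥ := by
        rw [← map_eq_bot_iff_of_injective _ N.subtype_injective]
        exact h
      have h2 := Q.dvd_card_of_dvd_card hqd
      rw [h1, card_bot] at h2
      exact hqp.one_lt.ne' (Nat.dvd_one.mp h2)
    · exact h
  have hNq : IsPGroup q N := by
    have h1 : (Q : Subgroup N) = ⊤ := by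
      apply map_injective N.subtype_injective
      rw [hQN, ← MonoidHom.range_eq_map, N.range_subtype]
    have := Q.isPGroup'
    rw [h1] at this
    exact IsPGroup.of_equiv this (topEquiv)
  -- the derived subgroup
  have hder : ⁅N, N⁆ = ⊥ := by
    have hn : (⁅N, N⁆ : Subgroup Y).Normal := commutator_normal N N
    rcases key _ N.commutator_le_self (hnorm _ hn) with h | h
    · exact h
    · exact absurd h (commutator_lt hNq hN1).ne
  intro x hx y hy
  have h1 : ⁅x, y⁆ ∈ ⁅N, N⁆ := commutator_mem_commutator hx hy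
  rw [hder, mem_bot] at h1
  exact (commutatorElement_eq_one_iff_mul_comm.mp h1)


/-- The hypotheses `Hyp` hold in a finite group `X` such that `X / O_p(X)` has a normal
`p`-complement and a Sylow `p`-subgroup of `X` is a maximal subgroup. -/
theorem exists_hyp_of_local {p : ℕ} [hp : Fact p.Prime] {X : Type*} [Group X] [Finite X]
    (hnpc : HasNormalPComplement p (X ⧸ pCore p X)) (T : Sylow p X)
    (hT : IsCoatom (T : Subgroup X)) :
    ∃ K H : Subgroup X, Hyp p K H := by
  obtain ⟨P, N, hNn, hNP⟩ := hnpc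
  set H := pCore p X with hH
  have hHp : IsPGroup p H := Cfsg.Agent.Lib.Helper1_Cores.pCore_isPGroup p
  have hHT : H ≤ (T : Subgroup X) := Cfsg.Agent.Lib.Helper1_Cores.pCore_le_sylow p T
  -- cardinalities
  have hcard : Nat.card N * Nat.card (P : Subgroup (X ⧸ H)) = Nat.card (X ⧸ H) := hNP.card_mul_card
  obtain ⟨k, hk⟩ := IsPGroup.iff_card.mp P.isPGroup'
  have hidx : N.index = p ^ k := by
    have h1 := N.card_mul_index
    rw [← hcard] at h1
    have hpos : 0 < Nat.card N := Nat.card_pos
    rw [← hk]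
    exact Nat.eq_of_mul_eq_mul_left hpos h1
  have hNcop : (Nat.card N).Coprime p := by
    have h1 := (P : Subgroup (X ⧸ H)).card_mul_index
    rw [← hcard, mul_comm] at h1
    have hpos : 0 < Nat.card (P : Subgroup (X ⧸ H)) := Nat.card_pos
    have h2 : (P : Subgroup (X ⧸ H)).index = Nat.card N := Nat.eq_of_mul_eq_mul_right hpos h1
    rw [← h2]
    exact ((Nat.Prime.coprime_iff_not_dvd hp.out).mpr P.not_dvd_index).symm
  -- the image of `T`
  have hTc : IsCoatom ((T : Subgroup X).map (QuotientGroup.mk' H)) := by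
    apply Cfsg.Agent.Lib.Helper1_Frattini.isCoatom_map_of_surjective
      (QuotientGroup.mk'_surjective H) hT
    rw [QuotientGroup.ker_mk']
    exact hHT
  have hTp : IsPGroup p ((T : Subgroup X).map (QuotientGroup.mk' H)) := T.isPGroup'.map _
  have hcomm := comm_of_coatom_pgroup ((T : Subgroup X).map (QuotientGroup.mk' H)) N hTc hTp hNcop
  refine ⟨N.comap (QuotientGroup.mk' H), H, ?_, ?_, hHp, ?_, ?_, ?_⟩
  · exact hNn.comap _
  · infer_instance
  · intro k₁ hk₁ k₂ hk₂
    rw [mem_comap] at hk₁ hk₂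
    rw [← QuotientGroup.eq_one_iff]
    have h := hcomm _ hk₁ _ hk₂
    simp only [QuotientGroup.mk'_apply] at h
    simp only [QuotientGroup.mk_mul, QuotientGroup.mk_inv]
    rw [h, mul_assoc, mul_assoc, mul_inv_cancel_left, mul_inv_cancel]
  · refine ⟨Nat.card N, hNcop, ?_⟩
    intro x hx
    rw [mem_comap] at hx
    rw [← QuotientGroup.eq_one_iff]
    have h : (⟨QuotientGroup.mk' H x, hx⟩ : N) ^ Nat.card N = 1 := pow_card_eq_one'
    have h2 := congrArg Subtype.val h
    rw [SubgroupClass.coe_pow, OneMemClass.coe_one] at h2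
    rw [QuotientGroup.mk_pow]
    exact h2
  · intro g
    refine ⟨k, ?_⟩
    rw [mem_comap, map_pow, ← hidx]
    exact N.pow_index_mem _

end Cfsg.Agent.Lib.Helper1_PStable4
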