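import Mathlib
import Cfsg.Agent.Lib.Helper1_FPFAut
import Cfsg.Agent.Lib.Helper1_ZJFunctor
import Cfsg.Agent.Lib.Helper1_MinNormal
import Cfsg.Agent.Lib.Helper1_Cores
import Cfsg.Agent.Lib.Helper1_Coprime
import Cfsg.Agent.Lib.Helper34_NPC
import Cfsg.Agent.Lib.Helper35_FrobeniusNPC
import Cfsg.Agent.Lib.Helper11_ZJ
import Cfsg.Agent.S0653
import Cfsg.Agent.S0659

/-!
# Thompson's theorem on fixed-point-free automorphisms of prime order (helper1)

A finite group with a fixed-point-free automorphism `φ` with `φ ^ r = 1`, `r` prime, is nilpotent.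
-/

set_option autoImplicit false

namespace Cfsg.Agent.Lib.Helper1_Thompson

open Subgroup Cfsg Cfsg.Agent.Lib.Helper1_FPFAut

universe u

section General

variable {G : Type*} [Group G]

/-- A subgroup containing a Sylow `p`-subgroup for every prime `p` is the whole group. -/
theorem eq_top_of_forall_sylow_le [Finite G] (H : Subgroup G)
    (h : ∀ p : ℕ, p.Prime → ∃ P : Sylow p G, (P : Subgroup G) ≤ H) : H = ⊤ := by
  rw [← index_eq_one]
  by_contra hne
  obtain ⟨p, hp, hdvd⟩ := Nat.exists_prime_and_dvd hne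
  obtain ⟨P, hP⟩ := h p hp
  have : Fact p.Prime := ⟨hp⟩
  exact P.not_dvd_index (dvd_trans hdvd (index_dvd_of_le hP))

/-- In a finite nilpotent group a `p`-subgroup and an `r`-subgroup (`p ≠ r`) commute. -/
theorem commute_of_isNilpotent [Finite G] [hnil : Group.IsNilpotent G] {p r : ℕ} [Fact p.Prime]
    [Fact r.Prime] (hpr : p ≠ r) {Q Z : Subgroup G} (hQ : IsPGroup p Q) (hZ : IsPGroup r Z)
    {x z : G} (hx : x ∈ Q) (hz : z ∈ Z) : x * z = z * x := by
  obtain ⟨SQ, hSQ⟩ := hQ.exists_le_sylow
  obtain ⟨SZ, hSZ⟩ := hZ.exists_le_sylow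
  have hdis : Disjoint (SQ : Subgroup G) (SZ : Subgroup G) :=
    IsPGroup.disjoint_of_ne p r hpr _ _ SQ.2 SZ.2
  exact (Subgroup.commute_of_normal_of_disjoint _ _ inferInstance inferInstance hdis
    _ _ (hSQ hx) (hSZ hz)).eq

/-- A normal Hall subgroup is invariant under every automorphism. -/
theorem map_eq_of_normal_hall [Finite G] (φ : G ≃* G) (K : Subgroup G) [K.Normal]
    (h : (Nat.card K).Coprime K.index) : K.map φ.toMonoidHom = K := by
  apply map_eq_of_forall_mem
  intro x hx
  rw [← QuotientGroup.eq_one_iff]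
  have h1 : ((φ x : G) : G ⧸ K) ^ Nat.card K = 1 := by
    have : (⟨x, hx⟩ : K) ^ Nat.card K = 1 := pow_card_eq_one'
    have h2 : x ^ Nat.card K = 1 := by
      have h3 := congrArg Subtype.val this
      rwa [SubgroupClass.coe_pow, OneMemClass.coe_one] at h3
    rw [← QuotientGroup.mk_pow, ← map_pow, h2, map_one, QuotientGroup.mk_one]
  have h2 : ((φ x : G) : G ⧸ K) ^ K.index = 1 := by
    rw [index_eq_card]
    exact pow_card_eq_one'
  have h3 := orderOf_dvd_of_pow_eq_one h1
  have h4 := orderOf_dvd_of_pow_eq_one h2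
  exact orderOf_eq_one_iff.mp (Nat.eq_one_of_dvd_coprimes h h3 h4)

end General

section NPC

open Cfsg.Agent.Lib.Helper35_FrobeniusNPC Cfsg.Agent.Lib.Helper34_NPC

/-- A finite nilpotent group has a normal `p`-complement (numerical form). -/
theorem hasNPC_of_isNilpotent (p : ℕ) [hp : Fact p.Prime] :
    ∀ (n : ℕ) (G : Type u) [Group G] [Finite G], Nat.card G = n → Group.IsNilpotent G →
      HasNPC p G := by
  intro n
  induction n using Nat.strong_induction_on with
  | _ n ih =>
    intro G _ _ hcard hnil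
    by_cases hq : ∃ q : ℕ, q.Prime ∧ q ≠ p ∧ q ∣ Nat.card G
    · obtain ⟨q, hqp, hqne, hqd⟩ := hq
      have : Fact q.Prime := ⟨hqp⟩
      obtain ⟨Q⟩ : Nonempty (Sylow q G) := inferInstance
      have hQn : (Q : Subgroup G).Normal := by
        have h03 := (Group.isNilpotent_of_finite_tfae (G := G)).out 0 3
        exact h03.mp hnil q inferInstance Q
      obtain ⟨k, hk⟩ := IsPGroup.iff_card.mp Q.isPGroup'
      have hQc : (Nat.card (Q : Subgroup G)).Coprime p := by
        rw [hk]
        exact Nat.Coprime.pow_left k ((Nat.coprime_primes hqp hp.out).mpr hqne)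
      have hQ1 : 1 < Nat.card (Q : Subgroup G) := by
        rw [(Q : Subgroup G).one_lt_card_iff_ne_bot]
        exact Q.ne_bot_of_dvd_card hqd
      have hlt : Nat.card (G ⧸ (Q : Subgroup G)) < n := by
        rw [← hcard, ← Cfsg.Agent.Lib.Helper1_Transport.card_quotient_mul_card (Q : Subgroup G)]
        have hpos : 0 < Nat.card (G ⧸ (Q : Subgroup G)) := Nat.card_pos
        nlinarith
      have hnq : Group.IsNilpotent (G ⧸ (Q : Subgroup G)) := inferInstance
      exact hasNPC_of_quotient (Q : Subgroup G) hQc (ih _ hlt (G ⧸ (Q : Subgroup G)) rfl hnq)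
    · push Not at hq
      have hcardp : Nat.card G = p ^ (Nat.card G).primeFactorsList.length := by
        apply Nat.eq_prime_pow_of_unique_prime_dvd Nat.card_pos.ne'
        intro d hd hdd
        by_contra hne
        exact hq d hd hne hdd
      exact hasNPC_of_isPGroup (IsPGroup.of_card hcardp)

/-- A finite nilpotent group has a normal `p`-complement. -/
theorem hasNormalPComplement_of_isNilpotent (p : ℕ) [hp : Fact p.Prime] (G : Type u) [Group G]
    [Finite G] (hnil : Group.IsNilpotent G) : HasNormalPComplement p G := by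
  obtain ⟨K, hKn, hKc, n, hKi⟩ := hasNPC_of_isNilpotent p _ G rfl hnil
  obtain ⟨P⟩ : Nonempty (Sylow p G) := inferInstance
  exact ⟨P, K, hKn, isComplement'_of_npc hKc hKi P⟩

end NPC


section Main

open Cfsg.Agent.Lib.Helper35_FrobeniusNPC Cfsg.Agent.Lib.Helper11_ZJ
  Cfsg.Agent.Lib.Helper1_ZJFunctor

variable {r : ℕ} {G : Type u} [Group G] [Finite G] {φ : G ≃* G}

omit [Finite G] in
/-- Solvability of an extension. -/
theorem isSolvable_of_normal (K : Subgroup G) [K.Normal] (h1 : Group.IsSolvable K)
    (h2 : Group.IsSolvable (G ⧸ K)) : Group.IsSolvable G :=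
  Group.isSolvable_of_ker_le_range K.subtype (QuotientGroup.mk' K)
    (by rw [QuotientGroup.ker_mk', Subgroup.range_subtype])

theorem card_quotient_lt (K : Subgroup G) [K.Normal] (hK : K ≠ ⊥) :
    Nat.card (G ⧸ K) < Nat.card G := by
  rw [← Cfsg.Agent.Lib.Helper1_Transport.card_quotient_mul_card K]
  have hpos : 0 < Nat.card (G ⧸ K) := Nat.card_pos
  have h1 : 1 < Nat.card K := K.one_lt_card_iff_ne_bot.mpr hK
  nlinarith

theorem card_lt_of_ne_top (K : Subgroup G) (hK : K ≠ ⊤) : Nat.card K < Nat.card G := by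
  have := card_lt_of_lt (lt_top_iff_ne_top.mpr hK)
  rwa [card_top] at this

/-- **Step 1**: a minimal counterexample is solvable. -/
theorem solvable_step (h : FPF r φ)
    (IH : ∀ (H : Type u) [Group H] [Finite H] (ψ : H ≃* H), Nat.card H < Nat.card G →
      FPF r ψ → Group.IsNilpotent H) : Group.IsSolvable G := by
  by_cases h2 : ∃ p : ℕ, p.Prime ∧ p ≠ 2 ∧ p ∣ Nat.card G
  · obtain ⟨p, hp, hp2, hpd⟩ := h2
    have : Fact p.Prime := ⟨hp⟩
    obtain ⟨P, hP⟩ := h.exists_invariant_sylow p
    have hP1 : (P : Subgroup G) ≠ ⊥ := P.ne_bot_of_dvd_card hpd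
    have hPnt : Nontrivial ↥(P : Subgroup G) := (nontrivial_iff_ne_bot _).mpr hP1
    set Z := centerThompsonAOf (P : Subgroup G) with hZ
    have hadm := Cfsg.Agent.S0653.admissible (G := G) hp2
    have hZφ : Z.map φ.toMonoidHom = Z := by
      rw [hZ, Cfsg.Agent.S0653.centerThompsonAOf_eq, W_map hadm.map φ, hP]
    have hZle : Z ≤ P := by
      rw [hZ, Cfsg.Agent.S0653.centerThompsonAOf_eq]
      exact W_le hadm.bot _
    have hZp : IsPGroup p Z := P.isPGroup'.to_le hZle
    have hZ1 : Z ≠ ⊥ := by
      rw [hZ, ← inducedFunctor_WZJ]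
      unfold inducedFunctor
      intro h0
      rw [map_eq_bot_iff_of_injective _ (P : Subgroup G).subtype_injective] at h0
      exact WZJ_ne_bot (p := p) ↥(P : Subgroup G) P.isPGroup' hPnt h0
    have hZsolv : Group.IsSolvable Z := by
      have : Group.IsNilpotent Z := hZp.isNilpotent
      infer_instance
    by_cases hN : normalizer (Z : Set G) = ⊤
    · have hZn : Z.Normal := normalizer_eq_top_iff.mp hN
      have hnil := IH (G ⧸ Z) (quotientAut φ Z hZφ) (card_quotient_lt Z hZ1) (h.quotient Z hZφ)
      exact isSolvable_of_normal Z hZsolv inferInstance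
    · set M := normalizer (Z : Set G) with hM
      have hMφ : M.map φ.toMonoidHom = M := by
        rw [hM, map_equiv_normalizer_eq, hZφ]
      have hMnil := IH ↥M (restrictAut φ M hMφ) (card_lt_of_ne_top M hN) (h.restrict M hMφ)
      have hMnpc : HasNormalPComplement p ↥M := hasNormalPComplement_of_isNilpotent p ↥M hMnil
      obtain ⟨P', K₀, hK₀n, hK₀P'⟩ := Cfsg.Agent.S0659.result hp2 P hMnpc
      obtain ⟨K, hKn, hKc, n, hKi⟩ := hasNPC_of_isComplement' hK₀n P' hK₀P'
      have hKφ : K.map φ.toMonoidHom = K :=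
        map_eq_of_normal_hall φ K (by rw [hKi]; exact Nat.Coprime.pow_right n hKc)
      have hKtop : K ≠ ⊤ := by
        intro hK
        rw [hK, card_top] at hKc
        exact (Nat.Prime.coprime_iff_not_dvd hp).mp hKc.symm hpd
      have hKnil := IH ↥K (restrictAut φ K hKφ) (card_lt_of_ne_top K hKtop) (h.restrict K hKφ)
      have hQp : IsPGroup p (G ⧸ K) := by
        apply IsPGroup.of_card (n := n)
        rw [← index_eq_card, hKi]
      have hQnil : Group.IsNilpotent (G ⧸ K) := hQp.isNilpotent
      exact isSolvable_of_normal K inferInstance inferInstance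
  · push Not at h2
    have hcard2 : Nat.card G = 2 ^ (Nat.card G).primeFactorsList.length := by
      apply Nat.eq_prime_pow_of_unique_prime_dvd Nat.card_pos.ne'
      intro d hd hdd
      by_contra hne
      exact h2 d hd hne hdd
    have : Fact (Nat.Prime 2) := ⟨Nat.prime_two⟩
    have hnil : Group.IsNilpotent G := (IsPGroup.of_card hcard2).isNilpotent
    infer_instance

/-- **Step 2**: a solvable minimal counterexample is nilpotent. -/
theorem nilpotent_step (hr : r.Prime) (h : FPF r φ)
    (IH : ∀ (H : Type u) [Group H] [Finite H] (ψ : H ≃* H), Nat.card H < Nat.card G →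
      FPF r ψ → Group.IsNilpotent H) (hsolv : Group.IsSolvable G) : Group.IsNilpotent G := by
  by_cases hsub : Subsingleton G
  · infer_instance
  have hnt : Nontrivial G := not_subsingleton_iff_nontrivial.mp hsub
  -- a minimal invariant normal subgroup
  let 𝒮 : Set (Subgroup G) := {V | V ≠ ⊥ ∧ V.Normal ∧ V.map φ.toMonoidHom = V}
  have htop : (⊤ : Subgroup G) ∈ 𝒮 :=
    ⟨top_ne_bot, inferInstance, by
      rw [← MonoidHom.range_eq_map]; exact MonoidHom.range_eq_top.mpr φ.surjective⟩
  obtain ⟨V, ⟨hV1, hVn, hVφ⟩, hVmin⟩ :=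
    Set.exists_min_image 𝒮 (fun V => Nat.card V) (Set.toFinite 𝒮) ⟨⊤, htop⟩
  have hmin : ∀ W : Subgroup G, W.Normal → W.map φ.toMonoidHom = W → W ≤ V →
      W = ⊥ ∨ W = V := by
    intro W hWn hWφ hWV
    by_cases hW : W = ⊥
    · exact Or.inl hW
    · exact Or.inr (eq_of_le_of_card_ge hWV (hVmin W ⟨hW, hWn, hWφ⟩))
  -- `V` is abelian
  have hder : ⁅V, V⁆ = ⊥ := by
    have hlt := Group.IsSolvable.commutator_lt_of_ne_bot hV1
    rcases hmin ⁅V, V⁆ (commutator_normal V V) (by rw [map_commutator, hVφ]) hlt.le with h0 | h0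
    · exact h0
    · exact absurd h0 hlt.ne
  have hVcomm : ∀ x ∈ V, ∀ y ∈ V, x * y = y * x := by
    intro x hx y hy
    have := commutator_eq_bot_iff_le_centralizer.mp hder hx
    exact (mem_centralizer_iff.mp this y hy).symm
  have hVab : IsMulCommutative V := ⟨⟨fun a b => Subtype.ext (hVcomm a a.2 b b.2)⟩⟩
  -- `V` has prime exponent
  have hcardV : Nat.card V ≠ 1 := fun h0 => hV1 (card_eq_one.mp h0)
  set q := (Nat.card V).minFac with hq
  have hqp : q.Prime := Nat.minFac_prime hcardV
  have : Fact q.Prime := ⟨hqp⟩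
  have hqd : q ∣ Nat.card V := Nat.minFac_dvd _
  have hVexp : ∀ x ∈ V, x ^ q = 1 := by
    set Ω := Cfsg.Agent.Lib.Helper1_MinNormal.omega V hVab q with hΩ
    have hΩn : Ω.Normal := Cfsg.Agent.Lib.Helper1_MinNormal.omega_normal V hVab q
    have hΩφ : Ω.map φ.toMonoidHom = Ω := by
      apply map_eq_of_forall_mem
      rintro x ⟨hx, hxq⟩
      exact ⟨apply_mem_of_map_eq φ hVφ hx, by rw [← map_pow, hxq, map_one]⟩
    have hΩ1 : Ω ≠ ⊥ := by
      obtain ⟨x, hx⟩ := exists_prime_orderOf_dvd_card' q hqd
      intro h0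
      have hmem : (x : G) ∈ Ω :=
        ⟨x.2, by rw [← SubgroupClass.coe_pow, ← hx, pow_orderOf_eq_one]; rfl⟩
      rw [h0, mem_bot] at hmem
      have hx1 : x = 1 := Subtype.ext hmem
      rw [hx1, orderOf_one] at hx
      exact hqp.one_lt.ne hx
    rcases hmin Ω hΩn hΩφ (Cfsg.Agent.Lib.Helper1_MinNormal.omega_le V hVab q) with h0 | h0
    · exact absurd h0 hΩ1
    · intro x hx
      rw [← h0] at hx
      exact hx.2
  have hVq : IsPGroup q V := by
    intro x
    refine ⟨1, ?_⟩
    apply Subtype.ext
    rw [pow_one, SubgroupClass.coe_pow, OneMemClass.coe_one]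
    exact hVexp x x.2
  -- the central part of `V`
  set W := V ⊓ center G with hW
  have hWn : W.Normal := inferInstance
  have hWφ : W.map φ.toMonoidHom = W := by
    apply map_eq_of_forall_mem
    intro x hx
    obtain ⟨hxV, hxc⟩ := mem_inf.mp hx
    refine mem_inf.mpr ⟨apply_mem_of_map_eq φ hVφ hxV, ?_⟩
    rw [mem_center_iff] at hxc ⊢
    intro g
    have := congrArg φ (hxc (φ.symm g))
    simpa using this
  have hcentral : W ≠ ⊥ → Group.IsNilpotent G := by
    intro hW1
    have hWV : W = V := by
      rcases hmin W hWn hWφ inf_le_left with h0 | h0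
      · exact absurd h0 hW1
      · exact h0
    have hVc : V ≤ center G := by rw [← hWV]; exact inf_le_right
    have hnilQ := IH (G ⧸ V) (quotientAut φ V hVφ) (card_quotient_lt V hV1) (h.quotient V hVφ)
    exact Subgroup.isNilpotent_of_ker_le_center (QuotientGroup.mk' V)
      (by rw [QuotientGroup.ker_mk']; exact hVc)
  have hVnorm : normalizer (V : Set G) = ⊤ := normalizer_eq_top_iff.mpr hVn
  set C := centralizer (V : Set G) with hC
  by_cases hall : ∀ s : ℕ, s.Prime → s ≠ q → ∀ S : Sylow s G,
      (S : Subgroup G).map φ.toMonoidHom = S → (S : Subgroup G) ≤ C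
  · -- all invariant Sylow `s`-subgroups, `s ≠ q`, centralize `V`
    obtain ⟨Q⟩ : Nonempty (Sylow q G) := inferInstance
    have hQV : (Q : Subgroup G) ≤ normalizer (V : Set G) := by rw [hVnorm]; exact le_top
    let _ := Cfsg.Agent.Lib.Helper1_Coprime.conjAction (Q : Subgroup G) V hQV
    have hfix : (1 : V) ∈ MulAction.fixedPoints (Q : Subgroup G) V := fun g => smul_one g
    obtain ⟨v, hv, hv1⟩ :=
      Q.isPGroup'.exists_fixed_point_of_prime_dvd_card_of_fixed_point V hqd hfix
    apply hcentral
    intro hW0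
    have hD : centralizer {(v : G)} = ⊤ := by
      apply eq_top_of_forall_sylow_le
      intro s hs
      by_cases hsq : s = q
      · subst hsq
        refine ⟨Q, ?_⟩
        intro x hx
        rw [mem_centralizer_singleton_iff]
        have h1 := congrArg Subtype.val (hv ⟨x, hx⟩)
        rw [Cfsg.Agent.Lib.Helper1_Coprime.conjAction_coe] at h1
        calc x * (v : G) = (x * v * x⁻¹) * x := by group
          _ = v * x := by rw [h1]
      · have : Fact s.Prime := ⟨hs⟩
        obtain ⟨S, hS⟩ := h.exists_invariant_sylow s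
        refine ⟨S, (hall s hs hsq S hS).trans ?_⟩
        exact centralizer_le (Set.singleton_subset_iff.mpr v.2)
    have hvc : (v : G) ∈ center G := by
      rw [mem_center_iff]
      intro g
      have hg : g ∈ centralizer {(v : G)} := by rw [hD]; exact mem_top g
      exact mem_centralizer_singleton_iff.mp hg
    have hvW : (v : G) ∈ W := mem_inf.mpr ⟨v.2, hvc⟩
    rw [hW0, mem_bot] at hvW
    exact hv1 (Subtype.ext hvW).symm
  · push Not at hall
    obtain ⟨s, hs, hsq, S, hS, hSC⟩ := hall
    have : Fact s.Prime := ⟨hs⟩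
    set T := V ⊔ (S : Subgroup G) with hT
    have hTφ : T.map φ.toMonoidHom = T := by rw [hT, Subgroup.map_sup, hVφ, hS]
    by_cases hTtop : T = ⊤
    · by_contra hnil
      have hW0 : W = ⊥ := by
        by_contra hW1
        exact hnil (hcentral hW1)
      apply hV1
      obtain ⟨a, ha⟩ := IsPGroup.iff_card.mp hVq
      obtain ⟨b, hb⟩ := IsPGroup.iff_card.mp S.isPGroup'
      apply h.frobStep hr V S hVφ hS hVab (by rw [hVnorm]; exact le_top)
        (by rw [ha, hb]; exact Nat.Coprime.pow a b ((Nat.coprime_primes hqp hs).mpr (Ne.symm hsq)))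
      intro v hv hvS
      have hD : centralizer {v} = ⊤ := by
        rw [eq_top_iff, ← hTtop, hT]
        apply sup_le
        · intro x hx
          rw [mem_centralizer_singleton_iff]
          exact hVcomm x hx v hv
        · intro x hx
          rw [mem_centralizer_singleton_iff]
          exact hvS x hx
      have hvc : v ∈ center G := by
        rw [mem_center_iff]
        intro g
        have hg : g ∈ centralizer {v} := by rw [hD]; exact mem_top g
        exact mem_centralizer_singleton_iff.mp hg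
      have hvW : v ∈ W := mem_inf.mpr ⟨hv, hvc⟩
      rw [hW0, mem_bot] at hvW
      exact hvW
    · exfalso
      apply hSC
      have hTnil := IH ↥T (restrictAut φ T hTφ) (card_lt_of_ne_top T hTtop) (h.restrict T hTφ)
      intro x hx
      rw [hC, mem_centralizer_iff]
      intro v hv
      have hVT : V ≤ T := le_sup_left
      have hST : (S : Subgroup G) ≤ T := le_sup_right
      have h1 : IsPGroup q (V.subgroupOf T) := hVq.comap_subtype
      have h2 : IsPGroup s ((S : Subgroup G).subgroupOf T) := S.isPGroup'.comap_subtype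
      have h3 := commute_of_isNilpotent (G := ↥T) (Ne.symm hsq) h1 h2
        (x := ⟨v, hVT hv⟩) (z := ⟨x, hST hx⟩) (by rw [mem_subgroupOf]; exact hv)
        (by rw [mem_subgroupOf]; exact hx)
      exact congrArg Subtype.val h3

end Main

/-- **Thompson's theorem**, inductive form. -/
theorem thompson_aux {r : ℕ} (hr : r.Prime) :
    ∀ (n : ℕ) (G : Type u) [Group G] [Finite G] (φ : G ≃* G), Nat.card G = n → FPF r φ →
      Group.IsNilpotent G := by
  intro n
  induction n using Nat.strong_induction_on with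
  | _ n ih =>
    intro G _ _ φ hcard h
    have IH : ∀ (H : Type u) [Group H] [Finite H] (ψ : H ≃* H), Nat.card H < Nat.card G →
        FPF r ψ → Group.IsNilpotent H := by
      intro H _ _ ψ hlt hψ
      exact ih (Nat.card H) (hcard ▸ hlt) H ψ rfl hψ
    exact nilpotent_step hr h IH (solvable_step h IH)

/-- **Thompson's theorem**: a finite group with a fixed-point-free automorphism `φ` such that
`φ ^ r = 1` for a prime `r` is nilpotent. -/
theorem thompson {r : ℕ} (hr : r.Prime) {G : Type u} [Group G] [Finite G] (φ : G ≃* G)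
    (h : FPF r φ) : Group.IsNilpotent G :=
  thompson_aux hr _ G φ rfl h

end Cfsg.Agent.Lib.Helper1_Thompson
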