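import Cfsg.Agent.Lib.Helper49_Sigma
import Cfsg.Agent.Lib.Helper70_Wielandt
import Cfsg.Agent.Lib.Helper20_PGroupOdd

/-!
# Bender–Glauberman, section 12, pieces (helper73)

Everything is proved from earlier statements of the chain taken as explicit hypotheses:
* `UniqHyp G` (the Uniqueness Theorem, S1403), from `Helper49_Sigma`;
* `CentHyp G`: the first assertion of S1416 (`C_G(A) ≤ M` for `A ≤ M` elementary abelian of order `p ^ 2`).

Main results:
* `normalizer_le_of_not_isCyclic`: `N_G(R) ≤ M` for a noncyclic `p`-subgroup `R` of `M`, `p ∈ σ(M)`;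
* `sigma_other_maximal`: the statement S1424.
-/

set_option autoImplicit false

namespace Cfsg.Agent.Lib.Helper73_BG12

open Subgroup Cfsg Cfsg.Agent.Lib.Helper22_BGTrans Cfsg.Agent.Lib.Helper22_Radical
  Cfsg.Agent.Lib.Helper84_RelSylow Cfsg.Agent.Lib.Helper49_Sigma

variable {G : Type*} [Group G]

/-- the first assertion of S1416, as a hypothesis -/
def CentHyp (G : Type*) [Group G] : Prop :=
  ∀ (M : Subgroup G), IsCoatom M → ∀ (p : ℕ) [Fact p.Prime] (A : Subgroup G), A ≤ M →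
    IsElementaryAbelian p A → Nat.card A = p ^ 2 → centralizer (A : Set G) ≤ M

section Finite

variable [Finite G] {p : ℕ} [hp : Fact p.Prime]

/-- a noncyclic `p`-subgroup, `p` odd, contains an elementary abelian subgroup of order `p ^ 2` -/
theorem exists_elemAb_sq_of_not_isCyclic (hp2 : p ≠ 2) {B : Subgroup G}
    (hB : IsPGroup p B) (hnc : ¬ IsCyclic B) :
    ∃ A : Subgroup G, A ≤ B ∧ IsElementaryAbelian p A ∧ Nat.card A = p ^ 2 := by
  have hnc' : ¬ IsCyclic ↥(⊤ : Subgroup ↥B) := by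
    intro hc
    apply hnc
    have e : ↥(⊤ : Subgroup ↥B) ≃* ↥B := Subgroup.topEquiv
    exact isCyclic_of_surjective e e.surjective
  obtain ⟨E₀, -, -, hE₀c, hE₀e, hE₀2⟩ :=
    Cfsg.Agent.Lib.Helper20_PGroupOdd.exists_normal_rank_two hp2 hB (⊤ : Subgroup ↥B) hnc'
  refine ⟨E₀.map B.subtype, Subgroup.map_subtype_le _, ⟨⟨⟨?_⟩⟩, ?_⟩, ?_⟩
  · rintro ⟨_, x, hx, rfl⟩ ⟨_, y, hy, rfl⟩
    apply Subtype.ext
    have h1 := hE₀c x hx y hy
    have h2 := congrArg (fun z : ↥B => (z : G)) h1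
    simpa using h2
  · rintro _ ⟨x, hx, rfl⟩
    have h1 := hE₀e x hx
    have h2 := congrArg (fun z : ↥B => (z : G)) h1
    simpa using h2
  · rw [← hE₀2]
    exact (Nat.card_congr (E₀.equivMapOfInjective B.subtype B.subtype_injective).toEquiv).symm

omit [Finite G] in
theorem ne_two_of_mem_sigma (hG : IsMinSimpleOddOrder G) {M : Subgroup G} (h : p ∈ sigma M) : p ≠ 2 := by
  rintro rfl
  obtain ⟨-, hd, -⟩ := h
  have h1 : 2 ∣ Nat.card G := hd.trans (Subgroup.card_subgroup_dvd_card M)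
  have h2 := hG.1
  rw [Nat.odd_iff] at h2
  omega

/-- `N_G(R) ≤ M` for a noncyclic `p`-subgroup `R` of `M` with `p ∈ σ(M)` -/
theorem normalizer_le_of_not_isCyclic (hG : IsMinSimpleOddOrder G) (hU : UniqHyp G) (hC : CentHyp G)
    {M : Subgroup G} (hM : IsCoatom M) (hpσ : p ∈ sigma M) {R : Subgroup G} (hRp : IsPGroup p R)
    (hRM : R ≤ M) (hnc : ¬ IsCyclic R) : normalizer (R : Set G) ≤ M := by
  have hR1 : R ≠ ⊥ := by
    rintro rfl
    exact hnc inferInstance
  obtain ⟨A, hAR, hAe, hA2⟩ := exists_elemAb_sq_of_not_isCyclic (ne_two_of_mem_sigma hG hpσ) hRp hnc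
  obtain ⟨P, hS⟩ := exists_sylM_of_mem_sigma hpσ
  obtain ⟨-, hB⟩ := fusion hG hU hM hS hRp hR1 hRM
  intro n hn
  obtain ⟨m, hm, c, hc, rfl⟩ := hB n hn
  have hcA : c ∈ centralizer (A : Set G) := Subgroup.centralizer_le hAR hc
  exact mul_mem (Subgroup.mem_inf.mp hm).1 (hC M hM p A (hAR.trans hRM) hAe hA2 hcA)

/-- in a cyclic subgroup, subgroups are normalized by the normalizer -/
theorem normalizer_le_normalizer_of_isCyclic {S X : Subgroup G} (hcyc : IsCyclic S) (hXS : X ≤ S) :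
    normalizer (S : Set G) ≤ normalizer (X : Set G) := by
  intro g hg
  apply Cfsg.Agent.Lib.Helper22_BGTransUp.mem_normalizer_of_cj_eq
  have h2 : cj g X ≤ S := by
    have := cj_mono (k := g) hXS
    rwa [cj_eq_of_mem_normalizer hg] at this
  have hc : Nat.card ((cj g X).subgroupOf S) = Nat.card (X.subgroupOf S) := by
    rw [Nat.card_congr (Subgroup.subgroupOfEquivOfLe h2).toEquiv,
      Nat.card_congr (Subgroup.subgroupOfEquivOfLe hXS).toEquiv, card_cj]
  have h3 := Cfsg.Agent.Lib.Helper70_Wielandt.eq_of_card_eq_of_isCyclic _ _ hc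
  rw [Subgroup.subgroupOf_inj, inf_eq_left.mpr h2, inf_eq_left.mpr hXS] at h3
  exact h3

/-- **Bender–Glauberman** (statement S1424), from the Uniqueness Theorem and the first part of S1416. -/
theorem sigma_other_maximal (hG : IsMinSimpleOddOrder G) (hU : UniqHyp G) (hC : CentHyp G)
    {M : Subgroup G} (hM : IsCoatom M) (hpσ : p ∈ sigma M) {X : Subgroup G}
    (hX1 : X ≠ ⊥) {Mstar : Subgroup G} (hne : Mstar ≠ M)
    (hNX : normalizer (X : Set G) ≤ Mstar) {S : Subgroup G} (hS : IsSylowIn p S (M ⊓ Mstar))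
    (hXS : X ≤ S) :
    (∀ g : G, Mstar ≠ cj g M) ∧ normalizer (S : Set G) ≤ M ∧ ¬ p ∣ S.relIndex Mstar := by
  have hpp := hp.out
  have hSp := hS.isPGroup
  have hSM : S ≤ M := hS.le.trans inf_le_left
  have hSMs : S ≤ Mstar := hS.le.trans inf_le_right
  have hS1 : S ≠ ⊥ := by
    rintro rfl
    exact hX1 (le_bot_iff.mp hXS)
  obtain ⟨P₀, hP₀⟩ := exists_sylM_of_mem_sigma hpσ
  obtain ⟨P₁, hP₁, hSP₁⟩ := exists_sylM_ge hP₀ hSp hSM
  have hP₁p := hP₁.1.isPGroup
  -- the normalizer of `S` lies in `M`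
  have hNS : normalizer (S : Set G) ≤ M := by
    by_cases hcyc : IsCyclic S
    · have h1 : normalizer (S : Set G) ≤ normalizer (X : Set G) :=
        normalizer_le_normalizer_of_isCyclic hcyc hXS
      have h2 : P₁ ≤ S := by
        by_contra hPS
        apply normalizer_growth hpp hP₁p hSP₁ hPS
        have h3 : normalizer (S : Set G) ⊓ P₁ = S :=
          hS.eq_of_le (le_inf le_normalizer hSP₁)
            (le_inf (inf_le_right.trans hP₁.2.1) (inf_le_left.trans (h1.trans hNX)))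
            (hP₁p.to_le inf_le_right)
        exact h3.le
      have h4 : S = P₁ := le_antisymm hSP₁ h2
      rw [h4]
      exact hP₁.2.2
    · exact normalizer_le_of_not_isCyclic hG hU hC hM hpσ hSp hSM hcyc
  -- `S` is a Sylow subgroup of `Mstar`
  have hSyl : IsSylowIn p S Mstar := by
    obtain ⟨T, hST, hT⟩ := exists_isSylowIn_ge (H := Mstar) hSMs hSp
    have h2 : T ≤ S := by
      by_contra hTS
      apply normalizer_growth hpp hT.isPGroup hST hTS
      have h3 : normalizer (S : Set G) ⊓ T = S :=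
        hS.eq_of_le (le_inf le_normalizer hST)
          (le_inf (inf_le_left.trans hNS) (inf_le_right.trans hT.le))
          (hT.isPGroup.to_le inf_le_right)
      exact h3.le
    have h4 : S = T := le_antisymm hST h2
    rw [h4]
    exact hT
  refine ⟨?_, hNS, hSyl.not_dvd⟩
  intro g hg
  apply hne
  have h1 : cj g⁻¹ S ≤ M := by
    have := cj_mono (k := g⁻¹) hSMs
    rwa [hg, cj_inv_cj] at this
  obtain ⟨hA, -⟩ := fusion hG hU hM hP₀ hSp hS1 hSM
  obtain ⟨m, hm, c, hc, hmc⟩ := hA g⁻¹ h1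
  have hcM : c ∈ M := hNS (Subgroup.centralizer_le_normalizer _ hc)
  have hgM : g⁻¹ ∈ M := by
    rw [hmc]
    exact mul_mem hm hcM
  have hgM' : g ∈ M := by
    have := inv_mem hgM
    rwa [inv_inv] at this
  rw [hg]
  exact cj_self_of_mem hgM'

/-- the statement S1424, in its frozen shape, from the two hypotheses -/
theorem statement_S1424 (hG : IsMinSimpleOddOrder G) (hU : UniqHyp G) (hC : CentHyp G)
    (M : Subgroup G) (hM : IsCoatom M) (q : ℕ) [Fact q.Prime] (hq : q ∈ Cfsg.sigma M) (X : Subgroup G)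
    (hX1 : X ≠ ⊥) (Mstar : Subgroup G) (hne : Mstar ≠ M)
    (hNX : Subgroup.normalizer (X : Set G) ≤ Mstar)
    (S : Sylow q ↥(M ⊓ Mstar)) (hXS : X ≤ (S : Subgroup ↥(M ⊓ Mstar)).map (M ⊓ Mstar).subtype) :
    (∀ g : G, Mstar ≠ M.map (MulAut.conj g).toMonoidHom) ∧
      Subgroup.normalizer (((S : Subgroup ↥(M ⊓ Mstar)).map (M ⊓ Mstar).subtype : Subgroup G) : Set G) ≤ M ∧
      ¬ q ∣ ((S : Subgroup ↥(M ⊓ Mstar)).map (M ⊓ Mstar).subtype).relIndex Mstar :=
  sigma_other_maximal hG hU hC hM hq hX1 hne hNX (isSylowIn_of_sylow S) hXS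

end Finite

end Cfsg.Agent.Lib.Helper73_BG12
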