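import Mathlib
import Cfsg.Prelude.Def_OddOrderLocal
import Cfsg.Agent.Lib.Helper1_Thompson
import Cfsg.Agent.Lib.Helper49_Alpha
import Cfsg.Agent.Lib.Helper73_BG12

set_option autoImplicit false
open Cfsg

/-!
# Bender–Glauberman, Lemma 14.1 (helper79)

`M` maximal in a minimal simple group of odd order, `p ∣ |M|`, `p ∉ σ(M) ∪ κ(M)`, `S` a Sylow
`p`-subgroup of `M`, `A = Ω₁(S)`.  Then `|A| ≤ p ^ 2`, `C_{M_σ}(A) = 1` and `M_σ` is nilpotent.

Written with the Uniqueness Theorem (frozen S1403) and the `τ₂` structure theorem (frozen S1417)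
as explicit hypotheses.
-/

namespace Cfsg.Agent.Lib.Helper79_BG141

open Subgroup Cfsg.Agent.Lib.Helper49_Sigma Cfsg.Agent.Lib.Helper84_RelSylow
  Cfsg.Agent.Lib.Helper49_Alpha

universe u

variable {G : Type u} [Group G] [Finite G]

/-- the frozen statement S1417 (structure for `p ∈ τ₂(M)`), as a hypothesis on `G` -/
def Hyp1417 (G : Type u) [Group G] [Finite G] : Prop :=
  ∀ (M : Subgroup G) (_ : IsCoatom M) (p : ℕ) [Fact p.Prime] (_ : p ∈ Cfsg.tau2 M) (A : Subgroup G)
    (_ : (A ≤ M ∧ Cfsg.IsElementaryAbelian p A ∧ Nat.card A = p ^ 2)),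
    Group.IsNilpotent (Cfsg.sigmaCore M) ∧
      (∀ P : Sylow p M, IsMulCommutative (P : Subgroup M) ∧
        (A ≤ (P : Subgroup M).map M.subtype →
          (∀ x ∈ (P : Subgroup M).map M.subtype, x ^ p = 1 ↔ x ∈ A) ∧
          ¬ Subgroup.normalizer ((((P : Subgroup M).map M.subtype : Subgroup G)) : Set G) ≤ M)) ∧
      M ≤ Subgroup.normalizer ((Cfsg.sigmaCore M ⊔ A : Subgroup G) : Set G) ∧
      Cfsg.sigmaCore M ⊓ Subgroup.centralizer (A : Set G) = ⊥ ∧
      (∀ Mstar : Subgroup G, IsCoatom Mstar → Mstar ≠ M → A ≤ Mstar → Cfsg.sigmaCore M ⊓ Mstar = ⊥) ∧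
      ∃ A₁ : Subgroup G, A₁ ≤ A ∧ Nat.card A₁ = p ∧ Cfsg.sigmaCore M ⊓ Subgroup.centralizer (A₁ : Set G) = ⊥

omit [Finite G] in
theorem odd_prime (hG : IsMinSimpleOddOrder G) {M : Subgroup G} {p : ℕ} (hd : p ∣ Nat.card M) :
    p ≠ 2 := by
  rintro rfl
  have h1 : 2 ∣ Nat.card G := hd.trans (Subgroup.card_subgroup_dvd_card M)
  have h2 := hG.1
  rw [Nat.odd_iff] at h2
  omega

/-- a cyclic group has `p`-rank at most one -/
theorem pRankLE_one_of_isCyclic {H : Type*} [Group H] [Finite H] (p : ℕ) [hp : Fact p.Prime]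
    (hc : IsCyclic H) : PRankLE p 1 H := by
  intro B _ hBe
  rw [pow_one]
  have hBc : IsCyclic ↥B := Subgroup.isCyclic B
  obtain ⟨g, hg⟩ := IsCyclic.exists_generator (α := ↥B)
  have h1 : orderOf g = Nat.card ↥B := orderOf_eq_card_of_forall_mem_zpowers hg
  have h2 : g ^ p = 1 := by
    apply Subtype.ext
    rw [Subgroup.coe_pow]
    exact hBe g.1 g.2
  rw [← h1]
  exact Nat.le_of_dvd hp.out.pos (orderOf_dvd_of_pow_eq_one h2)

omit [Finite G] in
/-- in a commutative subgroup, the closure of the elements of order dividing `p` consists of such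
elements -/
theorem pow_eq_one_of_mem_closure {H : Subgroup G} (hH : IsMulCommutative ↥H) (p : ℕ) {x : G}
    (hx : x ∈ closure {x : G | x ∈ H ∧ x ^ p = 1}) : x ∈ H ∧ x ^ p = 1 := by
  induction hx using Subgroup.closure_induction with
  | mem x hx => exact hx
  | one => exact ⟨H.one_mem, one_pow _⟩
  | mul x y _ _ ihx ihy =>
    refine ⟨H.mul_mem ihx.1 ihy.1, ?_⟩
    have hc : Commute x y := by
      have := hH.is_comm.comm ⟨x, ihx.1⟩ ⟨y, ihy.1⟩
      exact congrArg Subtype.val this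
    rw [hc.mul_pow, ihx.2, ihy.2, one_mul]
  | inv x _ ih => exact ⟨H.inv_mem ih.1, by rw [inv_pow, ih.2, inv_one]⟩

/-- if `p ∉ κ(M)`, `p ∉ σ(M)`, `p ∣ |M|` and some Sylow `p`-subgroup of `M` is cyclic, then no
non-identity `p`-element of `M` centralizes a non-identity element of `M_σ`. -/
theorem no_fixed_of_not_mem_kappa {M : Subgroup G} {p : ℕ} [hp : Fact p.Prime] (hpM : p ∣ Nat.card M)
    (hpσ : p ∉ sigma M) (hpκ : p ∉ kappa M) (S : Sylow p M) (hSc : IsCyclic (S : Subgroup M))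
    (x : M) (hxS : x ∈ (S : Subgroup M)) (hx1 : x ≠ 1) (y : G) (hy : y ∈ sigmaCore M) (hy1 : y ≠ 1) :
    (x : G) * y ≠ y * x := by
  intro hcomm
  apply hpκ
  refine ⟨hp.out, hpM, hpσ, ?_⟩
  intro P
  obtain ⟨m, hm⟩ := MulAction.exists_smul_eq M S P
  have hPe : (P : Subgroup M) = (S : Subgroup M).map (MulAut.conj m).toMonoidHom := by
    rw [← hm, Sylow.coe_subgroup_smul]
    rfl
  constructor
  · rw [hPe]
    exact isCyclic_of_surjective ((S : Subgroup M).equivMapOfInjective (MulAut.conj m).toMonoidHom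
      (MulAut.conj m).injective) ((S : Subgroup M).equivMapOfInjective (MulAut.conj m).toMonoidHom
      (MulAut.conj m).injective).surjective
  · have hσn : (piCore (sigma M) ↥M).Normal := inferInstance
    obtain ⟨y', hy', hyy'⟩ := hy
    refine ⟨m * x * m⁻¹, ?_, ?_, (m : G) * y * (m : G)⁻¹, ?_, ?_, ?_⟩
    · rw [hPe]
      exact ⟨x, hxS, by simp [MulAut.conj_apply]⟩
    · intro h
      apply hx1
      have : x = m⁻¹ * (m * x * m⁻¹) * m := by group
      rw [this, h]
      group
    · refine ⟨m * y' * m⁻¹, hσn.conj_mem y' hy' m, ?_⟩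
      rw [← hyy']
      simp
    · intro h
      apply hy1
      have : y = (m : G)⁻¹ * ((m : G) * y * (m : G)⁻¹) * (m : G) := by group
      rw [this, h]
      group
    · have e1 : ((m * x * m⁻¹ : M) : G) = (m : G) * (x : G) * (m : G)⁻¹ := by simp
      rw [e1]
      calc (m : G) * (x : G) * (m : G)⁻¹ * ((m : G) * y * (m : G)⁻¹)
          = (m : G) * ((x : G) * y) * (m : G)⁻¹ := by group
        _ = (m : G) * (y * (x : G)) * (m : G)⁻¹ := by rw [hcomm]
        _ = (m : G) * y * (m : G)⁻¹ * ((m : G) * (x : G) * (m : G)⁻¹) := by group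

/-- conjugation by an element `a ∈ M` with `a ^ p = 1` and `C_{M_σ}(a) = 1` forces `M_σ` nilpotent
(Thompson) -/
theorem isNilpotent_sigmaCore_of_fpf {M : Subgroup G} {p : ℕ} [hp : Fact p.Prime] (a : M)
    (hap : a ^ p = 1) (hfix : ∀ y ∈ sigmaCore M, y ≠ 1 → (a : G) * y ≠ y * a) :
    Group.IsNilpotent ↥(sigmaCore M) := by
  have hσn : (piCore (sigma M) ↥M).Normal := inferInstance
  have hinv : (sigmaCore M).map (MulAut.conj (a : G)).toMonoidHom = sigmaCore M := by
    apply Cfsg.Agent.Lib.Helper1_FPFAut.map_eq_of_forall_mem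
    rintro _ ⟨y', hy', rfl⟩
    refine ⟨a * y' * a⁻¹, hσn.conj_mem y' hy' a, ?_⟩
    simp [MulAut.conj_apply]
  have hF : Cfsg.Agent.Lib.Helper1_FPFAut.FPF p
      (Cfsg.Agent.Lib.Helper1_FPFAut.restrictAut (MulAut.conj (a : G)) (sigmaCore M) hinv) := by
    constructor
    · intro g hg
      by_contra hg1
      have h1 := congrArg Subtype.val hg
      rw [Cfsg.Agent.Lib.Helper1_FPFAut.restrictAut_coe, MulAut.conj_apply] at h1
      apply hfix g.1 g.2 (fun h => hg1 (Subtype.ext h))
      calc (a : G) * g.1 = (a : G) * g.1 * (a : G)⁻¹ * a := by group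
        _ = g.1 * a := by rw [h1]
    · intro g
      apply Subtype.ext
      rw [Cfsg.Agent.Lib.Helper1_FPFAut.restrictAut_iterate]
      have h2 : ∀ n : ℕ, ((MulAut.conj (a : G)) : G ≃* G)^[n] g.1 = (a : G) ^ n * g.1 * ((a : G) ^ n)⁻¹ := by
        intro n
        induction n with
        | zero => simp
        | succ n ih =>
          rw [Function.iterate_succ_apply', ih, MulAut.conj_apply, pow_succ']
          group
      rw [h2]
      have h3 : (a : G) ^ p = 1 := by
        have := congrArg Subtype.val hap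
        simpa using this
      rw [h3]
      simp
  exact Cfsg.Agent.Lib.Helper1_Thompson.thompson hp.out _ hF

/-- **Bender–Glauberman, Lemma 14.1**, modulo the Uniqueness Theorem and frozen S1417. -/
theorem bg141 (hG : IsMinSimpleOddOrder G) (hU : UniqHyp G) (h17 : Hyp1417 G)
    (M : Subgroup G) (hM : IsCoatom M) (p : ℕ) [hp : Fact p.Prime] (hpM : p ∣ Nat.card M)
    (hpn : p ∉ sigma M ∪ kappa M) (S : Sylow p M) :
    Nat.card ↥(closure {x : G | x ∈ (S : Subgroup M).map M.subtype ∧ x ^ p = 1}) ≤ p ^ 2 ∧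
      sigmaCore M ⊓ centralizer ((closure {x : G | x ∈ (S : Subgroup M).map M.subtype ∧ x ^ p = 1} :
        Subgroup G) : Set G) = ⊥ ∧
      Group.IsNilpotent (sigmaCore M) := by
  have hpσ : p ∉ sigma M := fun h => hpn (Or.inl h)
  have hpκ : p ∉ kappa M := fun h => hpn (Or.inr h)
  have hp2 : p ≠ 2 := odd_prime hG hpM
  set SG : Subgroup G := (S : Subgroup M).map M.subtype with hSG
  have hSyl : IsSylowIn p SG M := isSylowIn_of_sylow S
  have h2 : PRankLE p 2 M := by
    by_contra h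
    exact hpσ (mem_sigma_of_mem_alpha hG hU hM ⟨hp.out, h⟩)
  by_cases hc : IsCyclic SG
  · -- the cyclic case: `p ∈ τ₁(M) ∪ τ₃(M)`
    have e := (S : Subgroup M).equivMapOfInjective M.subtype M.subtype_injective
    have hScyc : IsCyclic (S : Subgroup M) := isCyclic_of_surjective e.symm e.symm.surjective
    have hS1 : p ∣ Nat.card (S : Subgroup M) := S.dvd_card_of_dvd_card hpM
    obtain ⟨a, ha⟩ := exists_prime_orderOf_dvd_card' p hS1
    have hxS : (a : M) ∈ (S : Subgroup M) := a.2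
    have hx1 : (a : M) ≠ 1 := by
      intro h
      have : a = 1 := Subtype.ext h
      rw [this, orderOf_one] at ha
      exact hp.out.one_lt.ne ha
    have hxp : (a : M) ^ p = 1 := by
      have h := pow_orderOf_eq_one a
      rw [ha] at h
      have := congrArg Subtype.val h
      simpa using this
    have hfix : ∀ y ∈ sigmaCore M, y ≠ 1 → ((a : M) : G) * y ≠ y * ((a : M) : G) :=
      fun y hy hy1 => no_fixed_of_not_mem_kappa hpM hpσ hpκ S hScyc a hxS hx1 y hy hy1
    have hxG : ((a : M) : G) ^ p = 1 := by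
      have := congrArg Subtype.val hxp
      simpa using this
    have hxA : ((a : M) : G) ∈ closure {x : G | x ∈ SG ∧ x ^ p = 1} :=
      subset_closure ⟨⟨(a : M), hxS, rfl⟩, hxG⟩
    have hSGc : IsMulCommutative ↥SG := by
      have : IsCyclic ↥SG := hc
      exact ⟨⟨fun x y => IsCyclic.commGroup.mul_comm x y⟩⟩
    have hAle : closure {x : G | x ∈ SG ∧ x ^ p = 1} ≤ SG := by
      rw [closure_le]
      intro x hx
      exact hx.1
    refine ⟨?_, ?_, isNilpotent_sigmaCore_of_fpf (a : M) hxp hfix⟩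
    · have hAc : IsCyclic ↥(closure {x : G | x ∈ SG ∧ x ^ p = 1}) := by
        have : IsCyclic ↥SG := hc
        exact Subgroup.isCyclic_of_le hAle
      obtain ⟨g, hg⟩ := IsCyclic.exists_generator (α := ↥(closure {x : G | x ∈ SG ∧ x ^ p = 1}))
      have h1 : orderOf g = Nat.card ↥(closure {x : G | x ∈ SG ∧ x ^ p = 1}) :=
        orderOf_eq_card_of_forall_mem_zpowers hg
      have h3 : g ^ p = 1 := by
        apply Subtype.ext
        rw [Subgroup.coe_pow]
        exact (pow_eq_one_of_mem_closure hSGc p g.2).2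
      rw [← h1]
      calc orderOf g ≤ p := Nat.le_of_dvd hp.out.pos (orderOf_dvd_of_pow_eq_one h3)
        _ ≤ p ^ 2 := by nlinarith [hp.out.one_lt]
    · rw [eq_bot_iff]
      intro y hy
      rw [mem_bot]
      by_contra hy1
      have hyc := (mem_centralizer_iff.mp hy.2) _ hxA
      exact hfix y hy.1 hy1 hyc
  · -- the noncyclic case: `p ∈ τ₂(M)`
    obtain ⟨A, hAS, hAe, hA2⟩ :=
      Cfsg.Agent.Lib.Helper73_BG12.exists_elemAb_sq_of_not_isCyclic hp2 hSyl.isPGroup hc
    have hAM : A ≤ M := hAS.trans hSyl.le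
    have h1 : ¬ PRankLE p 1 M := by
      intro h
      have hcard : Nat.card ↥(A.subgroupOf M) = p ^ 2 := by
        rw [← hA2]
        exact Nat.card_congr (Subgroup.subgroupOfEquivOfLe hAM).toEquiv
      have h3 := h (A.subgroupOf M) ?_ ?_
      · rw [hcard, pow_one] at h3
        nlinarith [hp.out.one_lt]
      · refine ⟨⟨fun x y => ?_⟩⟩
        apply Subtype.ext
        apply Subtype.ext
        have hx : ((x : M) : G) ∈ A := x.2
        have hy : ((y : M) : G) ∈ A := y.2
        have := congrArg Subtype.val (hAe.1.is_comm.comm ⟨_, hx⟩ ⟨_, hy⟩)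
        simpa using this
      · intro x hx
        apply Subtype.ext
        rw [Subgroup.coe_pow]
        exact hAe.2 _ hx
    have hτ : p ∈ tau2 M := ⟨hp.out, hpσ, h2, h1⟩
    obtain ⟨hnil, hP, -, hcent, -, -⟩ := h17 M hM p hτ A ⟨hAM, hAe, hA2⟩
    obtain ⟨-, hS2⟩ := hP S
    obtain ⟨hiff, -⟩ := hS2 hAS
    have hcl : closure {x : G | x ∈ SG ∧ x ^ p = 1} = A := by
      have : {x : G | x ∈ SG ∧ x ^ p = 1} = (A : Set G) := by
        ext x
        constructor
        · rintro ⟨hx, hxp⟩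
          exact (hiff x hx).mp hxp
        · intro hx
          exact ⟨hAS hx, (hiff x (hAS hx)).mpr hx⟩
      rw [this, closure_eq]
    rw [hcl]
    exact ⟨hA2.le, hcent, hnil⟩

end Cfsg.Agent.Lib.Helper79_BG141
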