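import Cfsg.Agent.Lib.Helper22_Uniq4

/-!
Sylow subgroups controlling all their proper overgroups (helper22), for Bender--Glauberman Theorem 9.1.

`G` minimal simple of odd order, `M` maximal, `P ∈ Syl_p(M)`, `P ≠ 1`, and `O_{p'}(M)` contains every `P`-invariant
`p'`-subgroup of `G`.  Then `N_G(P) ≤ M` (`normalizer_le_of_forall`) and every proper subgroup of `G` containing `P`
lies in `M` (`le_of_sylow_le`).
-/

set_option autoImplicit false

namespace Cfsg.Agent.Lib.Helper22_Uniq

open Subgroup Cfsg Cfsg.Agent.Lib.Helper22_Radical Cfsg.Agent.Lib.Helper22_BGTrans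
  Cfsg.Agent.Lib.Helper84_RelSylow Cfsg.Agent.Lib.Helper24_CoprimeAction

universe u

variable {G : Type u} [Group G]

theorem eq_of_isCoatom_of_le {H M : Subgroup G} (hH : IsCoatom H) (hM : M ≠ ⊤) (h : H ≤ M) : H = M := by
  by_contra hne
  exact hM (hH.2 M (lt_of_le_of_ne h hne))

/-- the normalizer of a nontrivial normal subgroup of a maximal subgroup `M` is `M` -/
theorem normalizer_eq_of_isCoatom (hG : IsMinSimpleOddOrder G) {M D : Subgroup G} (hM : IsCoatom M)
    (hD : D ≠ ⊥) (hDM : D ≤ M) (hMD : M ≤ normalizer (D : Set G)) : normalizer (D : Set G) = M := by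
  have hD' : D ≠ ⊤ := by
    rintro rfl
    exact hM.1 (top_le_iff.mp hDM)
  have h1 := normalizer_ne_top hG hD hD'
  exact (eq_of_isCoatom_of_le hM h1 hMD).symm

theorem odd_card_subgroup [Finite G] (hG : IsMinSimpleOddOrder G) (X : Subgroup G) : Odd (Nat.card ↥X) :=
  Odd.of_dvd_nat hG.1 (Subgroup.card_subgroup_dvd_card X)

theorem exists_isCoatom_ge [Finite G] {X : Subgroup G} (hX : X ≠ ⊤) : ∃ L : Subgroup G, IsCoatom L ∧ X ≤ L := by
  rcases eq_top_or_exists_le_coatom X with h | ⟨L, hL, hXL⟩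
  · exact absurd h hX
  · exact ⟨L, hL, hXL⟩

theorem two_ne_of_dvd_card [Finite G] (hG : IsMinSimpleOddOrder G) {p : ℕ} (hp : p ∣ Nat.card G) : p ≠ 2 := by
  rintro rfl
  exact (Nat.not_even_iff_odd.mpr hG.1) (even_iff_two_dvd.mpr hp)

theorem dvd_card_of_ne_bot [Finite G] {p : ℕ} [Fact p.Prime] {P : Subgroup G} (hP : IsPGroup p P) (hP1 : P ≠ ⊥) :
    p ∣ Nat.card G := by
  obtain ⟨k, hk⟩ := IsPGroup.iff_card.mp hP
  have hk0 : k ≠ 0 := by
    rintro rfl
    rw [pow_zero] at hk
    exact hP1 ((Subgroup.card_eq_one).mp hk)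
  have h1 : p ∣ Nat.card P := by rw [hk]; exact dvd_pow_self p hk0
  exact h1.trans (Subgroup.card_subgroup_dvd_card P)

section main

variable [Finite G] (hG : IsMinSimpleOddOrder G) {M : Subgroup G} (hM : IsCoatom M) {p : ℕ} [Fact p.Prime]
  {P : Subgroup G} (hP : IsSylowIn p P M) (hP1 : P ≠ ⊥)
  (hK : ∀ Y : Subgroup G, P ≤ normalizer (Y : Set G) → ¬ p ∣ Nat.card Y → Y ≤ opp p M)

include hG hM hP hP1 in
theorem normalizer_zl_eq_of_core_bot (hO : opp p M = ⊥) : normalizer ((zl P : Subgroup G) : Set G) = M := by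
  have hp2 : p ≠ 2 := two_ne_of_dvd_card hG (dvd_card_of_ne_bot hP.isPGroup hP1)
  have hMs : Group.IsSolvable ↥M := hG.2.2.2 M hM.1
  have h1 := puig_rel_bot hp2 hMs (odd_card_subgroup hG M) hP hO
  exact normalizer_eq_of_isCoatom hG hM (zl_ne_bot hP.isPGroup hP1) ((zl_le P).trans hP.le) h1

omit [Finite G] [Fact p.Prime] in
include hG hM in
theorem normalizer_opp_eq_of_ne_bot (hO : opp p M ≠ ⊥) : normalizer ((opp p M : Subgroup G) : Set G) = M :=
  normalizer_eq_of_isCoatom hG hM hO (opp_le p M) (le_normalizer_opp p M)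

include hG hM hP hP1 hK

theorem normalizer_le_of_forall : normalizer (P : Set G) ≤ M := by
  by_cases hO : opp p M = ⊥
  · rw [← normalizer_zl_eq_of_core_bot hG hM hP hP1 hO]
    exact normalizer_le_normalizer_zl P
  · rw [← normalizer_opp_eq_of_ne_bot hG hM hO]
    exact normalizer_le_normalizer_of_forall p (hP.le.trans (le_normalizer_opp p M)) (not_dvd_card_opp p M) hK

theorem le_of_sylow_le {X : Subgroup G} (hX : X ≠ ⊤) (hPX : P ≤ X) : X ≤ M := by
  have hpp : p.Prime := Fact.out
  have hp2 : p ≠ 2 := two_ne_of_dvd_card hG (dvd_card_of_ne_bot hP.isPGroup hP1)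
  have hXs : Group.IsSolvable ↥X := hG.2.2.2 X hX
  have hXo : Odd (Nat.card ↥X) := odd_card_subgroup hG X
  have hNP : normalizer (P : Set G) ≤ M := normalizer_le_of_forall hG hM hP hP1 hK
  obtain ⟨S, hS⟩ := exists_sylow_eq_of_normalizer_le hP hNP
  have hPXs : IsSylowIn p P X := by
    have := isSylowIn_of_sylow_le S (H := X) (by rw [hS]; exact hPX)
    rwa [hS] at this
  have hoppX : opp p X ≤ opp p M :=
    hK _ (hPX.trans (le_normalizer_opp p X)) (not_dvd_card_opp p X)
  by_cases hO : opp p M = ⊥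
  · have hOX : opp p X = ⊥ := by rw [eq_bot_iff, ← hO]; exact hoppX
    have h1 := puig_rel_bot hp2 hXs hXo hPXs hOX
    rwa [normalizer_zl_eq_of_core_bot hG hM hP hP1 hO] at h1
  · have hNK := normalizer_opp_eq_of_ne_bot (p := p) hG hM hO
    by_cases hr : PRankLE p 2 ↥P
    · have hrX : PRankLE p 2 ↥X := pRankLE_of_sylow hPXs hr
      have h1 := le_opp_sup_normalizer_of_pRankLE hXs hXo hPXs hP1 hrX
      exact h1.trans (sup_le (hoppX.trans (opp_le p M)) (inf_le_right.trans hNP))
    · obtain ⟨A, hA, hA3⟩ := exists_scn3 hp2 hP.isPGroup hr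
      have hAS : IsSCN (S : Subgroup G) A := by rw [hS]; exact hA
      have hKS : ∀ Y : Subgroup G, (S : Subgroup G) ≤ normalizer (Y : Set G) → ¬ p ∣ Nat.card Y →
          Y ≤ opp p M := by
        rw [hS]; exact hK
      have hq := le_of_scn3_invariant hG S hAS hA3 hKS
      have hAc : IsMulCommutative ↥A := isMulCommutative_of_isSCN hA
      have hAp : IsPGroup p ↥A := hP.isPGroup.to_le hA.1
      have hAT : A ≤ P ⊓ oppp p X :=
        le_inf hA.1 (le_oppp_of_abelian_normal hXs hXo hPXs hA.1 hAc hA.2.1)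
      have hNT : normalizer ((P ⊓ oppp p X : Subgroup G) : Set G) ≤ M := by
        rw [← hNK]
        apply normalizer_le_normalizer_of_forall p
          ((inf_le_left.trans hP.le).trans (le_normalizer_opp p M)) (not_dvd_card_opp p M)
        intro Y hTY hY
        have hAY : A ≤ normalizer (Y : Set G) := hAT.trans hTY
        obtain ⟨k, hk⟩ := IsPGroup.iff_card.mp hAp
        have hcop : (Nat.card A).Coprime (Nat.card Y) := by
          rw [hk]
          exact Nat.Coprime.pow_left k ((Nat.Prime.coprime_iff_not_dvd hpp).mpr hY)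
        have hAsol : Group.IsSolvable ↥A := by
          have : Group.IsNilpotent ↥A := hAp.isNilpotent
          exact IsNilpotent.to_isSolvable
        apply le_of_invariant_sylows hAY hcop (Or.inl hAsol)
        intro q hq' Q hQY hQq hAQ
        by_cases hqp : q = p
        · subst hqp
          obtain ⟨n, hn⟩ := IsPGroup.iff_card.mp hQq
          have hn0 : n = 0 := by
            by_contra hn0
            apply hY
            have h1 : q ∣ Nat.card Q := by rw [hn]; exact dvd_pow_self q hn0
            exact h1.trans (Subgroup.card_dvd_of_le hQY)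
          rw [hn0, pow_zero] at hn
          rw [(Subgroup.card_eq_one).mp hn]
          exact bot_le
        · exact hq q hq' hqp Q hQq hAQ
      have h1 := frattini_oppp hPXs
      exact h1.trans (sup_le (hoppX.trans (opp_le p M)) (inf_le_right.trans hNT))

end main

end Cfsg.Agent.Lib.Helper22_Uniq
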