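import Mathlib
import Cfsg.Agent.Lib.Helper4_InvPairs

set_option autoImplicit false

namespace Cfsg.Agent.Lib.Helper4_Sylow2

open Cfsg.Agent.Lib.Helper4_InvPairs

/-- A finite cyclic group has at most one involution. -/
theorem involution_unique_of_isCyclic {H : Type*} [Group H] [Finite H] [IsCyclic H] (a b : H)
    (ha : orderOf a = 2) (hb : orderOf b = 2) : a = b := by
  classical
  have : Fintype H := Fintype.ofFinite H
  by_contra hab
  have hle := IsCyclic.card_pow_eq_one_le (α := H) (n := 2) (by norm_num)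
  have hsub : ({1, a, b} : Finset H) ⊆ Finset.univ.filter (fun c : H => c ^ 2 = 1) := by
    intro c hc
    simp only [Finset.mem_insert, Finset.mem_singleton] at hc
    simp only [Finset.mem_filter, Finset.mem_univ, true_and]
    rcases hc with rfl | rfl | rfl
    · simp
    · rw [pow_two]; exact mul_self_of_orderOf_two ha
    · rw [pow_two]; exact mul_self_of_orderOf_two hb
  have hcard : ({1, a, b} : Finset H).card = 3 := by
    rw [Finset.card_insert_of_notMem, Finset.card_insert_of_notMem, Finset.card_singleton]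
    · simpa using hab
    · simp only [Finset.mem_insert, Finset.mem_singleton, not_or]
      exact ⟨(ne_one_of_orderOf_two ha).symm, (ne_one_of_orderOf_two hb).symm⟩
  have := Finset.card_le_card hsub
  omega

/-- Involutions in a cyclic subgroup coincide. -/
theorem involution_unique_of_isCyclic_subgroup {G : Type*} [Group G] [Finite G] (K : Subgroup G)
    (hK : IsCyclic K) (a b : G) (haK : a ∈ K) (hbK : b ∈ K)
    (ha : orderOf a = 2) (hb : orderOf b = 2) : a = b := by
  have h := involution_unique_of_isCyclic (H := K) ⟨a, haK⟩ ⟨b, hbK⟩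
    (by rw [← Subgroup.orderOf_coe]; exact ha) (by rw [← Subgroup.orderOf_coe]; exact hb)
  exact congrArg Subtype.val h

/-- A central element of `p`-power order lies in every Sylow `p`-subgroup. -/
theorem mem_sylow_of_mem_center {G : Type*} [Group G] [Finite G] {p : ℕ} [Fact p.Prime]
    (S : Sylow p G) (x : G) (hx : x ∈ Subgroup.center G) (hxp : IsPGroup p (Subgroup.zpowers x)) :
    x ∈ S := by
  obtain ⟨Q, hQ⟩ := hxp.exists_le_sylow
  obtain ⟨g, hg⟩ := MulAction.exists_smul_eq G Q S
  have hxQ : x ∈ Q := hQ (Subgroup.mem_zpowers x)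
  have : x ∈ g • Q := by
    show x ∈ ((g • Q : Sylow p G) : Subgroup G)
    rw [Sylow.coe_subgroup_smul, Subgroup.mem_pointwise_smul_iff_inv_smul_mem]
    have hcomm : g⁻¹ * x * g = x := by
      rw [Subgroup.mem_center_iff] at hx
      rw [mul_assoc, ← hx g, ← mul_assoc, inv_mul_cancel, one_mul]
    rw [← map_inv, MulAut.smul_def, MulAut.conj_apply, inv_inv, hcomm]
    exact hxQ
  rw [hg] at this
  exact this

theorem isPGroup_zpowers_of_orderOf_two {G : Type*} [Group G] (x : G) (hx : orderOf x = 2) :
    IsPGroup 2 (Subgroup.zpowers x) := by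
  apply IsPGroup.of_card (n := 1)
  rw [Nat.card_zpowers, hx, pow_one]

/-- If a Sylow 2-subgroup of the centralizer of an involution `x` is cyclic, then so is a
Sylow 2-subgroup of `G`. -/
theorem sylow_cyclic_of_centralizer {G : Type*} [Group G] [Finite G] (x : G) (hx : orderOf x = 2)
    (C : Subgroup G) (hC : C = Subgroup.centralizer ({x} : Set G))
    (S : Sylow 2 ↥C)
    (hS : IsCyclic (S : Subgroup ↥C)) :
    ∃ T : Sylow 2 G, IsCyclic (T : Subgroup G) := by
  have hxC : x ∈ C := by
    rw [hC, Subgroup.mem_centralizer_iff]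
    intro y hy
    rw [Set.mem_singleton_iff] at hy
    rw [hy]
  -- the image of S in G
  set S' : Subgroup G := (S : Subgroup C).map C.subtype with hS'
  have hS'p : IsPGroup 2 S' := S.isPGroup'.map C.subtype
  obtain ⟨T, hT⟩ := hS'p.exists_le_sylow
  have hS'C : S' ≤ C := by
    rintro _ ⟨c, -, rfl⟩
    exact c.2
  -- T ⊓ C = S'
  have hTC : (T : Subgroup G) ⊓ C = S' := by
    apply le_antisymm _ (le_inf hT hS'C)
    have hmax := S.is_maximal' (Q := (T : Subgroup G).subgroupOf C)
      (T.isPGroup'.comap_of_injective C.subtype C.subtype_injective)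
      (by
        intro c hc
        rw [Subgroup.mem_subgroupOf]
        exact hT ⟨c, hc, rfl⟩)
    rintro g ⟨hgT, hgC⟩
    have : (⟨g, hgC⟩ : C) ∈ (T : Subgroup G).subgroupOf C := by
      rw [Subgroup.mem_subgroupOf]; exact hgT
    rw [hmax] at this
    exact ⟨⟨g, hgC⟩, this, rfl⟩
  -- x ∈ S'
  have hxS' : x ∈ S' := by
    have hcen : (⟨x, hxC⟩ : C) ∈ Subgroup.center C := by
      rw [Subgroup.mem_center_iff]
      intro c
      have h1 : (c : G) ∈ Subgroup.centralizer ({x} : Set G) := hC ▸ c.2
      rw [Subgroup.mem_centralizer_iff] at h1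
      ext
      exact (h1 x rfl).symm
    have := mem_sylow_of_mem_center S ⟨x, hxC⟩ hcen
      (isPGroup_zpowers_of_orderOf_two _ (by rw [← Subgroup.orderOf_coe]; exact hx))
    exact ⟨⟨x, hxC⟩, this, rfl⟩
  have hxT : x ∈ T := hT hxS'
  -- S' cyclic
  have hS'cyc : IsCyclic S' := by
    have e : (S : Subgroup C) ≃* S' := (S : Subgroup C).equivMapOfInjective C.subtype
      C.subtype_injective
    exact isCyclic_of_surjective e e.surjective
  -- center of T is nontrivial
  have hTnt : Nontrivial (T : Subgroup G) :=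
    ⟨⟨⟨x, hxT⟩, 1, fun h => ne_one_of_orderOf_two hx (congrArg Subtype.val h)⟩⟩
  have hcnt : Nontrivial (Subgroup.center (T : Subgroup G)) := T.isPGroup'.center_nontrivial
  -- an element of order 2 in the center
  have hcp : IsPGroup 2 (Subgroup.center (T : Subgroup G)) :=
    T.isPGroup'.to_subgroup _
  obtain ⟨z, hz⟩ : ∃ z : Subgroup.center (T : Subgroup G), orderOf z = 2 := by
    have hcard : 2 ∣ Nat.card (Subgroup.center (T : Subgroup G)) := by
      obtain ⟨n, hn⟩ := IsPGroup.iff_card.mp hcp
      have hn0 : n ≠ 0 := by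
        rintro rfl
        rw [pow_zero] at hn
        have := (Nat.card_eq_one_iff_unique.mp hn).1
        exact not_subsingleton _ this
      rw [hn]
      exact dvd_pow_self 2 hn0
    exact exists_prime_orderOf_dvd_card' 2 hcard
  set z' : G := ((z : (T : Subgroup G)) : G) with hz'
  have hz'ord : orderOf z' = 2 := by
    rw [hz', Subgroup.orderOf_coe, Subgroup.orderOf_coe]; exact hz
  have hz'T : z' ∈ T := (z : (T : Subgroup G)).2
  have hzcomm : ∀ t ∈ T, z' * t = t * z' := by
    intro t ht
    have := z.2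
    rw [Subgroup.mem_center_iff] at this
    have h2 := this ⟨t, ht⟩
    have h3 := congrArg Subtype.val h2
    simpa using h3.symm
  have hz'C : z' ∈ C := by
    rw [hC, Subgroup.mem_centralizer_iff]
    intro y hy
    rw [Set.mem_singleton_iff] at hy
    rw [hy]
    exact (hzcomm x hxT).symm
  have hz'S' : z' ∈ S' := by
    rw [← hTC]; exact ⟨hz'T, hz'C⟩
  have hzx : z' = x :=
    involution_unique_of_isCyclic_subgroup S' hS'cyc z' x hz'S' hxS' hz'ord hx
  -- T ≤ C
  have hTleC : (T : Subgroup G) ≤ C := by
    intro t ht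
    rw [hC, Subgroup.mem_centralizer_iff]
    intro y hy
    rw [Set.mem_singleton_iff] at hy
    rw [hy, ← hzx]
    exact hzcomm t ht
  have hTS' : (T : Subgroup G) = S' := by
    rw [← hTC]; exact (inf_eq_left.mpr hTleC).symm
  exact ⟨T, by rw [hTS']; exact hS'cyc⟩

end Cfsg.Agent.Lib.Helper4_Sylow2
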