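import Mathlib
import Cfsg.Agent.Lib.Helper32_PGroup
import Cfsg.Agent.Lib.Helper54_TwoGroups
import Cfsg.Agent.Lib.Helper4_Sylow2

/-!
# Normal four-subgroups of 2-groups (helper4)

A finite `2`-group containing an elementary abelian subgroup of order `8` has a normal
four-subgroup (`hasNormalFour_of_E8`).  The normal four-group is presented by a central involution
`z` and a further involution `t` whose conjugates are `t` and `z * t`.
-/

set_option autoImplicit false

namespace Cfsg.Agent.Lib.Helper4_NormalFour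

variable {S : Type*} [Group S]

/-- `S` has a normal four-subgroup `{1, z, t, z * t}` with `z` central. -/
def HasNormalFour (S : Type*) [Group S] : Prop :=
  ∃ z t : S, z ∈ Subgroup.center S ∧ z ≠ 1 ∧ z ^ 2 = 1 ∧ t ^ 2 = 1 ∧ t ≠ 1 ∧ t ≠ z ∧
    ∀ s : S, s * t * s⁻¹ = t ∨ s * t * s⁻¹ = z * t

/-- In a finite `p`-group, between normal subgroups `N < C` there is an element of `C` outside `N`
which is central modulo `N`. -/
theorem exists_central_mod [Finite S] {p : ℕ} [Fact p.Prime] (hS : IsPGroup p S)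
    (N C : Subgroup S) [hN : N.Normal] [hC : C.Normal] (hNC : N < C) :
    ∃ b ∈ C, b ∉ N ∧ ∀ s : S, s * b * s⁻¹ * b⁻¹ ∈ N := by
  set π := QuotientGroup.mk' N with hπ
  have hCn : (C.map π).Normal := hC.map π (QuotientGroup.mk'_surjective N)
  have hne : C.map π ≠ ⊥ := by
    obtain ⟨c, hcC, hcN⟩ := SetLike.exists_of_lt hNC
    intro h
    have hmem : π c ∈ C.map π := Subgroup.mem_map_of_mem π hcC
    rw [h, Subgroup.mem_bot] at hmem
    exact hcN ((QuotientGroup.eq_one_iff c).mp hmem)
  have hQ : IsPGroup p (S ⧸ N) := hS.to_quotient N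
  obtain ⟨b', hb'C, hb'Z, hb'1⟩ :=
    Cfsg.Agent.Lib.Helper32_PGroup.exists_mem_center_of_normal hQ (C.map π) hne
  obtain ⟨b, hbC, rfl⟩ := Subgroup.mem_map.mp hb'C
  refine ⟨b, hbC, fun hbN => hb'1 ((QuotientGroup.eq_one_iff b).mpr hbN), fun s => ?_⟩
  rw [← QuotientGroup.eq_one_iff]
  have h1 := Subgroup.mem_center_iff.mp hb'Z (π s)
  have h2 : π (s * b * s⁻¹ * b⁻¹) = π s * π b * (π s)⁻¹ * (π b)⁻¹ := by
    simp only [map_mul, map_inv]
  change π (s * b * s⁻¹ * b⁻¹) = 1
  rw [h2, h1, mul_inv_cancel_right, mul_inv_cancel]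

/-- The elements of a subgroup generated by an involution. -/
theorem mem_zpowers_of_sq_eq_one {z x : S} (hz : z ^ 2 = 1) :
    x ∈ Subgroup.zpowers z ↔ x = 1 ∨ x = z := by
  constructor
  · intro hx
    obtain ⟨k, rfl⟩ := Subgroup.mem_zpowers_iff.mp hx
    rcases Int.even_or_odd' k with ⟨m, rfl | rfl⟩
    · left
      rw [zpow_mul, zpow_ofNat, hz, one_zpow]
    · right
      rw [zpow_add, zpow_mul, zpow_ofNat, hz, one_zpow, one_mul, zpow_one]
  · rintro (rfl | rfl)
    · exact Subgroup.one_mem _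
    · exact Subgroup.mem_zpowers _

/-- In a finite `2`-group, a normal abelian subgroup with two distinct involutions contains a
normal four-subgroup. -/
theorem hasNormalFour_of_two_involutions [Finite S] (hS : IsPGroup 2 S) (A : Subgroup S)
    [hA : A.Normal] (hcomm : ∀ x ∈ A, ∀ y ∈ A, x * y = y * x) (u v : S) (hu : u ∈ A) (hv : v ∈ A)
    (hu2 : u ^ 2 = 1) (hv2 : v ^ 2 = 1) (hu1 : u ≠ 1) (hv1 : v ≠ 1) (huv : u ≠ v) :
    HasNormalFour S := by
  have : Fact (Nat.Prime 2) := ⟨Nat.prime_two⟩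
  -- the subgroup of elements of `A` of order at most two
  let W : Subgroup S :=
    { carrier := {x | x ∈ A ∧ x ^ 2 = 1}
      one_mem' := ⟨A.one_mem, one_pow 2⟩
      mul_mem' := by
        rintro x y ⟨hx, hx2⟩ ⟨hy, hy2⟩
        refine ⟨A.mul_mem hx hy, ?_⟩
        rw [pow_two, mul_assoc, ← mul_assoc y x y, hcomm y hy x hx, mul_assoc, ← mul_assoc,
          ← pow_two, ← pow_two, hx2, hy2, one_mul]
      inv_mem' := by
        rintro x ⟨hx, hx2⟩
        exact ⟨A.inv_mem hx, by rw [inv_pow, hx2, inv_one]⟩ }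
  have hWmem : ∀ x, x ∈ W ↔ x ∈ A ∧ x ^ 2 = 1 := fun x => Iff.rfl
  have hWn : W.Normal := by
    constructor
    intro x hx g
    rw [hWmem] at hx ⊢
    exact ⟨hA.conj_mem x hx.1 g, by rw [conj_pow, hx.2, mul_one, mul_inv_cancel]⟩
  have hWne : W ≠ ⊥ := by
    intro h
    have : u ∈ W := (hWmem u).mpr ⟨hu, hu2⟩
    rw [h, Subgroup.mem_bot] at this
    exact hu1 this
  obtain ⟨z, hzW, hzc, hz1⟩ :=
    Cfsg.Agent.Lib.Helper32_PGroup.exists_mem_center_of_normal hS W hWne
  have hz2 : z ^ 2 = 1 := ((hWmem z).mp hzW).2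
  have hZn : (Subgroup.zpowers z).Normal :=
    Cfsg.Agent.Lib.Helper32_PGroup.normal_of_le_center _
      (by rw [Subgroup.zpowers_le]; exact hzc)
  have hlt : Subgroup.zpowers z < W := by
    refine lt_of_le_of_ne (by rw [Subgroup.zpowers_le]; exact hzW) ?_
    intro heq
    have hu' : u ∈ Subgroup.zpowers z := heq ▸ (hWmem u).mpr ⟨hu, hu2⟩
    have hv' : v ∈ Subgroup.zpowers z := heq ▸ (hWmem v).mpr ⟨hv, hv2⟩
    rw [mem_zpowers_of_sq_eq_one hz2] at hu' hv'
    rcases hu' with h | h
    · exact hu1 h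
    · rcases hv' with h' | h'
      · exact hv1 h'
      · exact huv (h.trans h'.symm)
  obtain ⟨t, htW, htZ, hts⟩ := exists_central_mod hS (Subgroup.zpowers z) W hlt
  have ht2 : t ^ 2 = 1 := ((hWmem t).mp htW).2
  rw [mem_zpowers_of_sq_eq_one hz2, not_or] at htZ
  refine ⟨z, t, hzc, hz1, hz2, ht2, htZ.1, htZ.2, fun s => ?_⟩
  have := hts s
  rw [mem_zpowers_of_sq_eq_one hz2] at this
  rcases this with h | h
  · left
    rw [mul_inv_eq_one] at h
    exact h
  · right
    rw [mul_inv_eq_iff_eq_mul] at h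
    exact h

/-- A finite `p`-group has a normal abelian subgroup which is its own centralizer (any maximal
normal abelian subgroup). -/
theorem exists_normal_abelian_self_centralizing [Finite S] {p : ℕ} [Fact p.Prime]
    (hS : IsPGroup p S) :
    ∃ A : Subgroup S, A.Normal ∧ (∀ x ∈ A, ∀ y ∈ A, x * y = y * x) ∧
      Subgroup.centralizer (A : Set S) = A := by
  have hfin : {A : Subgroup S | A.Normal ∧ ∀ x ∈ A, ∀ y ∈ A, x * y = y * x}.Finite :=
    Set.toFinite _
  have hne : {A : Subgroup S | A.Normal ∧ ∀ x ∈ A, ∀ y ∈ A, x * y = y * x}.Nonempty := by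
    refine ⟨⊥, inferInstance, ?_⟩
    intro x hx y hy
    rw [Subgroup.mem_bot] at hx hy
    rw [hx, hy]
  obtain ⟨A, ⟨hAn, hAc⟩, hmax⟩ := hfin.exists_maximal hne
  refine ⟨A, hAn, hAc, ?_⟩
  have hAC : A ≤ Subgroup.centralizer (A : Set S) := by
    intro x hx
    rw [Subgroup.mem_centralizer_iff]
    intro y hy
    exact hAc y hy x hx
  by_contra hneq
  have hlt : A < Subgroup.centralizer (A : Set S) := lt_of_le_of_ne hAC (Ne.symm hneq)
  obtain ⟨b, hbC, hbA, hbs⟩ := exists_central_mod hS A (Subgroup.centralizer (A : Set S)) hlt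
  set T : Set S := (A : Set S) ∪ {b} with hT
  have hTcomm : ∀ x ∈ T, ∀ y ∈ T, x * y = y * x := by
    rw [Subgroup.mem_centralizer_iff] at hbC
    intro x hx y hy
    rcases hx with hx | hx <;> rcases hy with hy | hy
    · exact hAc x hx y hy
    · rw [Set.mem_singleton_iff] at hy
      rw [hy]; exact hbC x hx
    · rw [Set.mem_singleton_iff] at hx
      rw [hx]; exact (hbC y hy).symm
    · rw [Set.mem_singleton_iff] at hx hy
      rw [hx, hy]
  have hBcomm : ∀ x ∈ Subgroup.closure T, ∀ y ∈ Subgroup.closure T, x * y = y * x := by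
    have h := Subgroup.isMulCommutative_closure hTcomm
    intro x hx y hy
    exact congrArg Subtype.val (h.is_comm.comm ⟨x, hx⟩ ⟨y, hy⟩)
  have hBn : (Subgroup.closure T).Normal := by
    constructor
    intro n hn g
    have hle : Subgroup.closure T ≤
        (Subgroup.closure T).comap (MulAut.conj g).toMonoidHom := by
      rw [Subgroup.closure_le]
      intro x hx
      rw [SetLike.mem_coe, Subgroup.mem_comap]
      change g * x * g⁻¹ ∈ Subgroup.closure T
      rcases hx with hx | hx
      · exact Subgroup.subset_closure (Or.inl (hAn.conj_mem x hx g))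
      · rw [Set.mem_singleton_iff] at hx
        rw [hx]
        have h1 : g * b * g⁻¹ = (g * b * g⁻¹ * b⁻¹) * b := by group
        rw [h1]
        exact Subgroup.mul_mem _ (Subgroup.subset_closure (Or.inl (hbs g)))
          (Subgroup.subset_closure (Or.inr rfl))
    exact hle hn
  have hAB : A ≤ Subgroup.closure T := fun x hx => Subgroup.subset_closure (Or.inl hx)
  have := hmax ⟨hBn, hBcomm⟩ hAB
  exact hbA (this (Subgroup.subset_closure (Or.inr rfl)))

/-- square roots of one modulo a power of two -/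
theorem two_pow_dvd_sub_or_add (n : ℕ) (hn : 1 ≤ n) (k : ℤ) (h : (2:ℤ) ^ n ∣ (k - 1) * (k + 1)) :
    (2:ℤ) ^ (n - 1) ∣ k - 1 ∨ (2:ℤ) ^ (n - 1) ∣ k + 1 := by
  obtain ⟨m, rfl⟩ : ∃ m, n = m + 1 := ⟨n - 1, by omega⟩
  simp only [Nat.add_sub_cancel]
  rcases Nat.eq_zero_or_pos m with rfl | hm
  · left; simp
  · obtain ⟨m', rfl⟩ : ∃ m', m = m' + 1 := ⟨m - 1, by omega⟩
    have hodd : Odd k := by
      by_contra hk
      rw [Int.not_odd_iff_even] at hk
      obtain ⟨j, rfl⟩ := hk
      have h2 : (2:ℤ) ∣ (j + j - 1) * (j + j + 1) :=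
        dvd_trans (dvd_pow_self 2 (by omega)) h
      have h3 : (j + j - 1) * (j + j + 1) = 2 * (2 * j * j) - 1 := by ring
      rw [h3] at h2
      omega
    obtain ⟨j, rfl⟩ := hodd
    have h3 : (2:ℤ) ^ (m' + 1 + 1) ∣ 4 * (j * (j + 1)) := by
      have : (2 * j + 1 - 1) * (2 * j + 1 + 1) = 4 * (j * (j + 1)) := by ring
      rwa [this] at h
    have h4 : (2:ℤ) ^ m' ∣ j * (j + 1) := by
      have : (2:ℤ) ^ (m' + 1 + 1) = 4 * 2 ^ m' := by ring
      rw [this] at h3
      exact (mul_dvd_mul_iff_left (by norm_num)).mp h3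
    rcases Int.even_or_odd j with hj | hj
    · left
      have h5 : (2:ℤ) ^ m' ∣ j := by
        have hnd : ¬ (2:ℤ) ∣ (j + 1) := by
          obtain ⟨i, rfl⟩ := hj
          omega
        exact Int.prime_two.pow_dvd_of_dvd_mul_right m' hnd h4
      have h6 : 2 * j + 1 - 1 = 2 * j := by ring
      rw [h6, pow_succ']
      exact mul_dvd_mul_left 2 h5
    · right
      have h5 : (2:ℤ) ^ m' ∣ j + 1 := by
        have hnd : ¬ (2:ℤ) ∣ j := by
          obtain ⟨i, rfl⟩ := hj
          omega
        exact Int.prime_two.pow_dvd_of_dvd_mul_left m' hnd h4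
      have h6 : 2 * j + 1 + 1 = 2 * (j + 1) := by ring
      rw [h6, pow_succ']
      exact mul_dvd_mul_left 2 h5

theorem zpow_sq_eq_one_cases {z : S} (hz : z ^ 2 = 1) (m : ℤ) : z ^ m = 1 ∨ z ^ m = z :=
  (mem_zpowers_of_sq_eq_one hz).mp (Subgroup.zpow_mem_zpowers z m)

/-- the involution of a cyclic `2`-group -/
theorem invol_sq {a : S} {n : ℕ} (ha : orderOf a = 2 ^ n) (hn : 1 ≤ n) :
    (a ^ 2 ^ (n - 1)) ^ 2 = 1 := by
  rw [← pow_mul, ← pow_succ, Nat.sub_add_cancel hn, ← ha, pow_orderOf_eq_one]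

theorem invol_ne_one {a : S} {n : ℕ} (ha : orderOf a = 2 ^ n) (hn : 1 ≤ n) :
    a ^ 2 ^ (n - 1) ≠ 1 := by
  intro h
  have h1 := orderOf_dvd_of_pow_eq_one h
  rw [ha] at h1
  have h2 := Nat.le_of_dvd (by positivity) h1
  have h3 : 2 ^ (n - 1) < 2 ^ n := Nat.pow_lt_pow_right (by norm_num) (by omega)
  omega

/-- An involution normalizing the cyclic `2`-group `⟨a⟩` sends `a` to one of `a`, `a z`, `a⁻¹`,
`a⁻¹ z`. -/
theorem conj_cases {a : S} {n : ℕ} (ha : orderOf a = 2 ^ n) (hn : 1 ≤ n) (e : S)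
    (he : e ^ 2 = 1) (k : ℤ) (hk : e * a * e⁻¹ = a ^ k) :
    (e * a * e⁻¹ = a ∨ e * a * e⁻¹ = a * a ^ 2 ^ (n - 1)) ∨
      (e * a * e⁻¹ = a⁻¹ ∨ e * a * e⁻¹ = a⁻¹ * a ^ 2 ^ (n - 1)) := by
  have hz2 := invol_sq ha hn
  have h1 : a ^ (k * k) = a := by
    have h2 : e * (e * a * e⁻¹) * e⁻¹ = a := by
      have he' : e * e = 1 := by rw [← pow_two]; exact he
      have : e * (e * a * e⁻¹) * e⁻¹ = (e * e) * a * (e * e)⁻¹ := by group
      rw [this, he', one_mul, inv_one, mul_one]
    have h3 : e * (a ^ k) * e⁻¹ = (e * a * e⁻¹) ^ k := by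
      simp only [conj_zpow]
    rw [hk, h3, hk, ← zpow_mul] at h2
    exact h2
  have h2 : a ^ (k * k - 1) = 1 := by
    rw [zpow_sub, h1, zpow_one, mul_inv_cancel]
  have h3 : ((2 : ℤ) ^ n) ∣ (k - 1) * (k + 1) := by
    have := orderOf_dvd_iff_zpow_eq_one.mpr h2
    rw [ha] at this
    have h4 : (k - 1) * (k + 1) = k * k - 1 := by ring
    rw [h4]
    exact_mod_cast this
  rcases two_pow_dvd_sub_or_add n hn k h3 with ⟨m, hm⟩ | ⟨m, hm⟩
  · left
    have hk' : k = 1 + 2 ^ (n - 1) * m := by linarith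
    have h5 : a ^ k = a * (a ^ 2 ^ (n - 1)) ^ m := by
      rw [hk', zpow_add, zpow_one, zpow_mul]
      norm_cast
    rw [hk, h5]
    rcases zpow_sq_eq_one_cases hz2 m with h | h
    · left; rw [h, mul_one]
    · right; rw [h]
  · right
    have hk' : k = -1 + 2 ^ (n - 1) * m := by linarith
    have h5 : a ^ k = a⁻¹ * (a ^ 2 ^ (n - 1)) ^ m := by
      rw [hk', zpow_add, zpow_neg_one, zpow_mul]
      norm_cast
    rw [hk, h5]
    rcases zpow_sq_eq_one_cases hz2 m with h | h
    · left; rw [h, mul_one]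
    · right; rw [h]

/-- A subgroup with more elements than a finite set has an element outside it. -/
theorem exists_mem_notMem_finset [Finite S] (E : Subgroup S) (F : Finset S)
    (h : F.card < Nat.card E) : ∃ e ∈ E, e ∉ F := by
  classical
  by_contra hcon
  push Not at hcon
  have hsub : (E : Set S) ⊆ (F : Set S) := fun e he => hcon e he
  have h1 : Nat.card (E : Set S) ≤ Nat.card (F : Set S) := Nat.card_mono (Finset.finite_toSet F) hsub
  have h2 : Nat.card (F : Set S) = F.card := by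
    rw [Nat.card_eq_fintype_card]; simp
  have h3 : Nat.card (E : Set S) = Nat.card E := rfl
  omega

/-- The basic facts about a normal self-centralizing cyclic subgroup `⟨a⟩` of a `2`-group. -/
theorem hasNormalFour_of_cyclic [Finite S] (hS : IsPGroup 2 S) (a : S)
    (hAn : (Subgroup.zpowers a).Normal)
    (hcent : Subgroup.centralizer (Subgroup.zpowers a : Set S) = Subgroup.zpowers a)
    (E : Subgroup S) (hE : Nat.card E = 8) (hE2 : ∀ e ∈ E, e ^ 2 = 1) : HasNormalFour S := by
  classical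
  obtain ⟨n, hn⟩ := (IsPGroup.iff_orderOf.mp hS) a
  have ha1 : a ≠ 1 := by
    rintro rfl
    rw [Subgroup.zpowers_one_eq_bot] at hcent
    have htop : Subgroup.centralizer ((⊥ : Subgroup S) : Set S) = ⊤ := by
      rw [Subgroup.centralizer_eq_top_iff_subset]
      intro x hx
      rw [SetLike.mem_coe, Subgroup.mem_bot] at hx
      rw [hx]
      exact Subgroup.one_mem _
    rw [htop] at hcent
    have hEbot : E = ⊥ := by
      rw [eq_bot_iff, ← hcent]
      exact le_top
    rw [hEbot, Subgroup.card_bot] at hE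
    omega
  have hn1 : 1 ≤ n := by
    by_contra h
    have h0 : n = 0 := by omega
    subst h0
    rw [pow_zero, orderOf_eq_one_iff] at hn
    exact ha1 hn
  set z := a ^ 2 ^ (n - 1) with hz
  have hz2 : z ^ 2 = 1 := invol_sq hn hn1
  have hz1 : z ≠ 1 := invol_ne_one hn hn1
  have hzA : z ∈ Subgroup.zpowers a := Subgroup.pow_mem _ (Subgroup.mem_zpowers a) _
  have hzo : orderOf z = 2 := orderOf_eq_prime hz2 hz1
  have huniq : ∀ u ∈ Subgroup.zpowers a, u ^ 2 = 1 → u ≠ 1 → u = z := by
    intro u hu hu2 hu1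
    exact Cfsg.Agent.Lib.Helper4_Sylow2.involution_unique_of_isCyclic_subgroup
      (Subgroup.zpowers a) inferInstance u z hu hzA (orderOf_eq_prime hu2 hu1) hzo
  -- `z` is central
  have hzc' : ∀ s : S, s * z * s⁻¹ = z := by
    intro s
    have h1 : s * z * s⁻¹ ∈ Subgroup.zpowers a := hAn.conj_mem z hzA s
    have h2 : (s * z * s⁻¹) ^ 2 = 1 := by rw [conj_pow, hz2, mul_one, mul_inv_cancel]
    have h3 : s * z * s⁻¹ ≠ 1 := by
      intro h
      rw [conj_eq_one_iff] at h
      exact hz1 h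
    exact huniq _ h1 h2 h3
  have hzcomm : ∀ s : S, s * z = z * s := by
    intro s
    have := hzc' s
    rw [mul_inv_eq_iff_eq_mul] at this
    exact this
  have hzc : z ∈ Subgroup.center S := by
    rw [Subgroup.mem_center_iff]
    intro s
    exact hzcomm s
  have hzinv : z⁻¹ = z := by
    rw [inv_eq_iff_mul_eq_one, ← pow_two]; exact hz2
  have hconj : ∀ s : S, ∃ k : ℤ, s * a * s⁻¹ = a ^ k := by
    intro s
    obtain ⟨k, hk⟩ := Subgroup.mem_zpowers_iff.mp (hAn.conj_mem a (Subgroup.mem_zpowers a) s)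
    exact ⟨k, hk.symm⟩
  have hcentA : ∀ s : S, s * a * s⁻¹ = a → s ∈ Subgroup.zpowers a := by
    intro s hs
    rw [← hcent, Subgroup.mem_centralizer_iff]
    intro h hh
    obtain ⟨k, rfl⟩ := Subgroup.mem_zpowers_iff.mp hh
    have hc : Commute s a := by
      rw [mul_inv_eq_iff_eq_mul] at hs
      exact hs
    exact (hc.zpow_right k).eq.symm
  have hAcomm : ∀ c ∈ Subgroup.zpowers a, c * a * c⁻¹ = a := by
    intro c hc
    obtain ⟨k, rfl⟩ := Subgroup.mem_zpowers_iff.mp hc
    rw [mul_inv_eq_iff_eq_mul]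
    exact ((Commute.refl a).zpow_left k).eq
  have hEA : ∀ e ∈ E, e ∈ Subgroup.zpowers a → e = 1 ∨ e = z := by
    intro e heE heA
    by_cases h1 : e = 1
    · left; exact h1
    · right; exact huniq e heA (hE2 e heE) h1
  have hEnotA : ∀ e ∈ E, e ≠ 1 → e ≠ z → e ∉ Subgroup.zpowers a :=
    fun e he h1 hz' hA => (hEA e he hA).elim h1 hz'
  have hsq : ∀ e ∈ E, e * e = 1 := fun e he => by rw [← pow_two]; exact hE2 e he
  -- an element of `E` outside `⟨a⟩` sending `a` to `a z`
  have hF7 : ∃ t ∈ E, t ∉ Subgroup.zpowers a ∧ t * a * t⁻¹ = a * z := by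
    by_contra hcon
    push Not at hcon
    obtain ⟨e₁, he₁E, he₁F⟩ := exists_mem_notMem_finset E {1, z}
      (by rw [hE]; exact lt_of_le_of_lt Finset.card_le_two (by norm_num))
    obtain ⟨e₂, he₂E, he₂F⟩ := exists_mem_notMem_finset E {1, z, e₁, e₁ * z}
      (by rw [hE]; exact lt_of_le_of_lt Finset.card_le_four (by norm_num))
    simp only [Finset.mem_insert, Finset.mem_singleton, not_or] at he₁F he₂F
    have he₁A := hEnotA e₁ he₁E he₁F.1 he₁F.2
    have he₂A := hEnotA e₂ he₂E he₂F.1 he₂F.2.1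
    have type_minus : ∀ e ∈ E, e ∉ Subgroup.zpowers a →
        ∃ ζ ∈ Subgroup.zpowers z, e * a * e⁻¹ = ζ * a⁻¹ := by
      intro e heE heA
      obtain ⟨k, hk⟩ := hconj e
      rcases conj_cases hn hn1 e (hE2 e heE) k hk with (h | h) | (h | h)
      · exact absurd (hcentA e h) heA
      · exact absurd h (hcon e heE heA)
      · exact ⟨1, Subgroup.one_mem _, by rw [h, one_mul]⟩
      · exact ⟨z, Subgroup.mem_zpowers z, by rw [h, ← hz]; exact hzcomm a⁻¹⟩
    obtain ⟨ζ₁, hζ₁, h1⟩ := type_minus e₁ he₁E he₁A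
    obtain ⟨ζ₂, hζ₂, h2⟩ := type_minus e₂ he₂E he₂A
    have hcomm₁ : ∀ s : S, s * ζ₁ = ζ₁ * s := by
      intro s
      rcases (mem_zpowers_of_sq_eq_one hz2).mp hζ₁ with rfl | rfl
      · simp
      · exact hzcomm s
    have hcomm₂ : ∀ s : S, s * ζ₂ = ζ₂ * s := by
      intro s
      rcases (mem_zpowers_of_sq_eq_one hz2).mp hζ₂ with rfl | rfl
      · simp
      · exact hzcomm s
    have hprod : (e₁ * e₂) * a * (e₁ * e₂)⁻¹ = a * (ζ₂ * ζ₁⁻¹) := by
      have hexp : (e₁ * e₂) * a * (e₁ * e₂)⁻¹ = e₁ * (e₂ * a * e₂⁻¹) * e₁⁻¹ := by group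
      rw [hexp, h2]
      have h3 : e₁ * (ζ₂ * a⁻¹) * e₁⁻¹ = ζ₂ * (e₁ * a * e₁⁻¹)⁻¹ := by
        rw [← mul_assoc, hcomm₂ e₁]
        group
      rw [h3, h1, mul_inv_rev, inv_inv, ← mul_assoc, ← hcomm₂ a, mul_assoc]
    have hζ : ζ₂ * ζ₁⁻¹ ∈ Subgroup.zpowers z :=
      Subgroup.mul_mem _ hζ₂ (Subgroup.inv_mem _ hζ₁)
    rcases (mem_zpowers_of_sq_eq_one hz2).mp hζ with h | h
    · rw [h, mul_one] at hprod
      have h3 := hcentA _ hprod
      rcases hEA (e₁ * e₂) (E.mul_mem he₁E he₂E) h3 with h4 | h4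
      · have : e₂ = e₁ := by
          calc e₂ = (e₁ * e₁) * e₂ := by rw [hsq e₁ he₁E, one_mul]
            _ = e₁ * (e₁ * e₂) := by group
            _ = e₁ := by rw [h4, mul_one]
        exact he₂F.2.2.1 this
      · have : e₂ = e₁ * z := by
          calc e₂ = (e₁ * e₁) * e₂ := by rw [hsq e₁ he₁E, one_mul]
            _ = e₁ * (e₁ * e₂) := by group
            _ = e₁ * z := by rw [h4]
        exact he₂F.2.2.2 this
    · rw [h] at hprod
      have hnotA : e₁ * e₂ ∉ Subgroup.zpowers a := by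
        intro hA
        have h5 := hAcomm _ hA
        rw [h5] at hprod
        exact hz1 (by simpa using hprod)
      exact hcon _ (E.mul_mem he₁E he₂E) hnotA hprod
  obtain ⟨t, htE, htA, hta⟩ := hF7
  have ht2 : t ^ 2 = 1 := hE2 t htE
  have ht1 : t ≠ 1 := by
    rintro rfl
    exact htA (Subgroup.one_mem _)
  have htz : t ≠ z := by
    rintro rfl
    exact htA hzA
  have htinv : t⁻¹ = t := by
    rw [inv_eq_iff_mul_eq_one]; exact hsq t htE
  have haz : Commute a z := (hzcomm a)
  -- the order of `a` is at least `8`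
  have hn3 : 3 ≤ n := by
    by_contra hlt
    have hn12 : n = 1 ∨ n = 2 := by omega
    rcases hn12 with rfl | rfl
    · have hza : z = a := by simp [hz]
      have h1 : t * a * t⁻¹ = a := by
        have := hzc' t
        rwa [hza] at this
      rw [h1] at hta
      exact hz1 (by simpa using hta)
    · have hza : z = a ^ 2 := by simp [hz]
      have h4 : a ^ 4 = 1 := by
        have := pow_orderOf_eq_one a
        rwa [hn] at this
      have hainv : a⁻¹ = a * z := by
        rw [hza, inv_eq_iff_mul_eq_one, ← pow_succ', ← pow_succ']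
        exact h4
      obtain ⟨e, heE, heF⟩ := exists_mem_notMem_finset E {1, z, t, t * z}
        (by rw [hE]; exact lt_of_le_of_lt Finset.card_le_four (by norm_num))
      simp only [Finset.mem_insert, Finset.mem_singleton, not_or] at heF
      have heA := hEnotA e heE heF.1 heF.2.1
      obtain ⟨k, hk⟩ := hconj e
      have hea : e * a * e⁻¹ = a * z := by
        rcases conj_cases hn (by norm_num) e (hE2 e heE) k hk with (h | h) | (h | h)
        · exact absurd (hcentA e h) heA
        · exact h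
        · rw [h, hainv]
        · exfalso
          apply heA
          apply hcentA
          rw [h, ← hz, hainv, mul_assoc, ← pow_two, hz2, mul_one]
      have h5 : (t * e) * a * (t * e)⁻¹ = a := by
        have h6 : (t * e) * a * (t * e)⁻¹ = t * (e * a * e⁻¹) * t⁻¹ := by group
        rw [h6, hea]
        have h7 : t * (a * z) * t⁻¹ = (t * a * t⁻¹) * (t * z * t⁻¹) := by group
        rw [h7, hta, hzc' t, mul_assoc, ← pow_two, hz2, mul_one]
      have hmem := hcentA _ h5
      rcases hEA (t * e) (E.mul_mem htE heE) hmem with h | h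
      · apply heF.2.2.1
        calc e = (t * t) * e := by rw [hsq t htE, one_mul]
          _ = t * (t * e) := by group
          _ = t := by rw [h, mul_one]
      · apply heF.2.2.2
        calc e = (t * t) * e := by rw [hsq t htE, one_mul]
          _ = t * (t * e) := by group
          _ = t * z := by rw [h]
  refine ⟨z, t, hzc, hz1, hz2, ht2, ht1, htz, ?_⟩
  intro s
  set x := s * t * s⁻¹ with hx
  have hx2 : x ^ 2 = 1 := by rw [hx, conj_pow, ht2, mul_one, mul_inv_cancel]
  have hx1 : x ≠ 1 := by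
    rw [hx]
    intro h
    rw [conj_eq_one_iff] at h
    exact ht1 h
  obtain ⟨j, hj⟩ := hconj s⁻¹
  have hzj : ∀ i : ℤ, ∀ s : S, s * z ^ i * s⁻¹ = z ^ i := by
    intro i s
    rw [← conj_zpow, hzc' s]
  have hxa : x * a * x⁻¹ = a * z ^ j := by
    have h1 : x * a * x⁻¹ = s * (t * (s⁻¹ * a * s⁻¹⁻¹) * t⁻¹) * s⁻¹ := by rw [hx]; group
    rw [h1, hj]
    have h2 : t * a ^ j * t⁻¹ = (t * a * t⁻¹) ^ j := by simp only [conj_zpow]
    rw [h2, hta, haz.mul_zpow]
    have h3 : s * (a ^ j * z ^ j) * s⁻¹ = (s * a ^ j * s⁻¹) * (s * z ^ j * s⁻¹) := by group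
    rw [h3, hzj j s, ← hj]
    congr 1
    group
  rcases zpow_sq_eq_one_cases hz2 j with hzj' | hzj'
  · exfalso
    rw [hzj', mul_one] at hxa
    have hxA := hcentA x hxa
    have hxz := huniq x hxA hx2 hx1
    have : t = z := by
      have h1 : t = s⁻¹ * x * s := by rw [hx]; group
      rw [h1, hxz]
      have := hzc' s⁻¹
      rwa [inv_inv] at this
    exact htz this
  · rw [hzj'] at hxa
    have hc : (t * x) * a * (t * x)⁻¹ = a := by
      have h1 : (t * x) * a * (t * x)⁻¹ = t * (x * a * x⁻¹) * t⁻¹ := by group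
      rw [h1, hxa]
      have h7 : t * (a * z) * t⁻¹ = (t * a * t⁻¹) * (t * z * t⁻¹) := by group
      rw [h7, hta, hzc' t, mul_assoc, ← pow_two, hz2, mul_one]
    have hcA := hcentA _ hc
    obtain ⟨i, hi⟩ := Subgroup.mem_zpowers_iff.mp hcA
    have hxt : x = t * a ^ i := by
      rw [hi]
      calc x = (t * t) * x := by rw [hsq t htE, one_mul]
        _ = t * (t * x) := by group
    have h7 : t * a ^ i * t⁻¹ = a ^ i * z ^ i := by
      have : t * a ^ i * t⁻¹ = (t * a * t⁻¹) ^ i := by simp only [conj_zpow]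
      rw [this, hta, haz.mul_zpow]
    have h5 : a ^ i * z ^ i * a ^ i = 1 := by
      have h6 : x ^ 2 = (t * a ^ i * t⁻¹) * (t ^ 2) * a ^ i := by
        rw [hxt, pow_two, pow_two]; group
      rw [hx2, ht2, mul_one, h7] at h6
      exact h6.symm
    rcases Int.even_or_odd' i with ⟨m, rfl | rfl⟩
    · have hz2m : z ^ (2 * m) = 1 := by rw [zpow_mul, zpow_ofNat, hz2, one_zpow]
      rw [hz2m, mul_one] at h5
      have hc2 : (a ^ (2 * m)) ^ 2 = 1 := by rw [pow_two]; exact h5
      by_cases hc1 : a ^ (2 * m) = 1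
      · left; rw [hxt, hc1, mul_one]
      · right
        rw [hxt, huniq _ (Subgroup.zpow_mem_zpowers a _) hc2 hc1]
        exact hzcomm t
    · exfalso
      have hzi : z ^ (2 * m + 1) = z := by
        rw [zpow_add, zpow_mul, zpow_ofNat, hz2, one_zpow, one_mul, zpow_one]
      rw [hzi] at h5
      have h8 : a ^ (2 * (2 * m + 1)) = z := by
        have hcc : a ^ (2 * m + 1) * a ^ (2 * m + 1) = a ^ (2 * (2 * m + 1)) := by
          rw [← zpow_add]; congr 1; ring
        have h9 : a ^ (2 * m + 1) * z * a ^ (2 * m + 1) = a ^ (2 * (2 * m + 1)) * z := by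
          rw [mul_assoc, ← hzcomm (a ^ (2 * m + 1)), ← mul_assoc, hcc]
        rw [h9, mul_eq_one_iff_eq_inv, hzinv] at h5
        exact h5
      have h9 : a ^ (4 * (2 * m + 1)) = 1 := by
        have : (4 : ℤ) * (2 * m + 1) = (2 * (2 * m + 1)) * 2 := by ring
        rw [this, zpow_mul, h8, zpow_ofNat, hz2]
      have h10 := orderOf_dvd_iff_zpow_eq_one.mpr h9
      rw [hn] at h10
      have h11 : (8 : ℤ) ∣ 4 * (2 * m + 1) := by
        refine dvd_trans ?_ h10
        have : (2 : ℤ) ^ 3 ∣ 2 ^ n := pow_dvd_pow 2 hn3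
        push_cast
        norm_num at this ⊢
        exact this
      omega

open scoped IsMulCommutative in
/-- A finite `2`-group containing an elementary abelian subgroup of order `8` has a normal
four-subgroup. -/
theorem hasNormalFour_of_E8 [Finite S] (hS : IsPGroup 2 S) (E : Subgroup S)
    (hE : Nat.card E = 8) (hE2 : ∀ e ∈ E, e ^ 2 = 1) : HasNormalFour S := by
  have : Fact (Nat.Prime 2) := ⟨Nat.prime_two⟩
  by_contra hno
  obtain ⟨A, hAn, hAc, hAcent⟩ := exists_normal_abelian_self_centralizing hS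
  have huniq : ∀ u ∈ A, ∀ v ∈ A, u ^ 2 = 1 → v ^ 2 = 1 → u ≠ 1 → v ≠ 1 → u = v := by
    intro u hu v hv hu2 hv2 hu1 hv1
    by_contra huv
    exact hno (hasNormalFour_of_two_involutions hS A hAc u v hu hv hu2 hv2 hu1 hv1 huv)
  have hAcomm : IsMulCommutative A := ⟨⟨fun x y => Subtype.ext (hAc x x.2 y y.2)⟩⟩
  have hcyc : IsCyclic A := by
    apply Cfsg.Agent.Lib.Helper54_TwoGroups.isCyclic_of_unique_involution (hS.to_subgroup A)
    intro u v hu2 hv2 hu1 hv1
    apply Subtype.ext
    apply huniq u u.2 v v.2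
    · have := congrArg Subtype.val hu2
      simpa using this
    · have := congrArg Subtype.val hv2
      simpa using this
    · intro h
      exact hu1 (Subtype.ext h)
    · intro h
      exact hv1 (Subtype.ext h)
  obtain ⟨g, hg⟩ := hcyc.exists_generator
  have hA : A = Subgroup.zpowers (g : S) := by
    apply le_antisymm
    · intro x hx
      obtain ⟨k, hk⟩ := Subgroup.mem_zpowers_iff.mp (hg ⟨x, hx⟩)
      rw [Subgroup.mem_zpowers_iff]
      refine ⟨k, ?_⟩
      have := congrArg Subtype.val hk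
      simpa using this
    · rw [Subgroup.zpowers_le]
      exact g.2
  rw [hA] at hAn hAcent
  exact hno (hasNormalFour_of_cyclic hS (g : S) hAn hAcent E hE hE2)

section double

variable {G : Type*} [Group G]

/-- Elements of order at most two commute if their product has order at most two. -/
theorem comm_of_sq_eq_one {e f : G} (he : e ^ 2 = 1) (hf : f ^ 2 = 1) (hef : (e * f) ^ 2 = 1) :
    e * f = f * e := by
  have he' : e⁻¹ = e := by rw [inv_eq_iff_mul_eq_one, ← pow_two]; exact he
  have hf' : f⁻¹ = f := by rw [inv_eq_iff_mul_eq_one, ← pow_two]; exact hf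
  have h1 : (e * f)⁻¹ = e * f := by rw [inv_eq_iff_mul_eq_one, ← pow_two]; exact hef
  rw [mul_inv_rev, he', hf'] at h1
  exact h1.symm

/-- Doubling an elementary abelian `2`-subgroup by a commuting involution outside it. -/
theorem exists_double (K : Subgroup G) [Finite K] (hK2 : ∀ k ∈ K, k ^ 2 = 1) (w : G)
    (hwK : w ∉ K) (hw2 : w ^ 2 = 1) (hwc : ∀ k ∈ K, w * k = k * w) :
    ∃ F : Subgroup G, Nat.card F = 2 * Nat.card K ∧ (∀ f ∈ F, f ^ 2 = 1) ∧
      ∀ f, f ∈ F ↔ f ∈ K ∨ w * f ∈ K := by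
  have hww : w * w = 1 := by rw [← pow_two]; exact hw2
  have hwinv : w⁻¹ = w := by rw [inv_eq_iff_mul_eq_one]; exact hww
  have hback : ∀ f : G, f = w * (w * f) := by
    intro f
    rw [← mul_assoc, hww, one_mul]
  let F : Subgroup G :=
    { carrier := {f | f ∈ K ∨ w * f ∈ K}
      one_mem' := Or.inl K.one_mem
      mul_mem' := by
        rintro f g (hf | hf) (hg | hg)
        · exact Or.inl (K.mul_mem hf hg)
        · right
          have : w * (f * g) = f * (w * g) := by rw [← mul_assoc, hwc f hf, mul_assoc]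
          rw [this]
          exact K.mul_mem hf hg
        · right
          rw [← mul_assoc]
          exact K.mul_mem hf hg
        · left
          have : f * g = (w * f) * (w * g) := by
            calc f * g = (w * (w * f)) * (w * (w * g)) := by rw [← hback f, ← hback g]
              _ = w * ((w * f) * w) * (w * g) := by group
              _ = w * (w * (w * f)) * (w * g) := by rw [hwc (w * f) hf]
              _ = (w * w) * (w * f) * (w * g) := by group
              _ = (w * f) * (w * g) := by rw [hww, one_mul]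
          rw [this]
          exact K.mul_mem hf hg
      inv_mem' := by
        rintro f (hf | hf)
        · exact Or.inl (K.inv_mem hf)
        · right
          have h1 : w * f⁻¹ = (w * f)⁻¹ := by
            calc w * f⁻¹ = w * (w * (w * f))⁻¹ := by rw [← hback f]
              _ = w * ((w * f)⁻¹ * w⁻¹) := by rw [mul_inv_rev]
              _ = (w * (w * f)⁻¹) * w := by rw [hwinv, mul_assoc]
              _ = ((w * f)⁻¹ * w) * w := by rw [hwc _ (K.inv_mem hf)]
              _ = (w * f)⁻¹ := by rw [mul_assoc, hww, mul_one]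
          rw [h1]
          exact K.inv_mem hf }
  have hFmem : ∀ f, f ∈ F ↔ f ∈ K ∨ w * f ∈ K := fun f => Iff.rfl
  refine ⟨F, ?_, ?_, hFmem⟩
  · -- cardinality
    let φ : K ⊕ K → F := fun s => match s with
      | Sum.inl k => ⟨k, (hFmem _).mpr (Or.inl k.2)⟩
      | Sum.inr k => ⟨w * k, (hFmem _).mpr (Or.inr (by rw [← hback]; exact k.2))⟩
    have hφ : Function.Bijective φ := by
      constructor
      · rintro (k | k) (k' | k') h
        · have : (k : G) = k' := congrArg (fun x : F => (x : G)) h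
          rw [Subtype.ext this]
        · exfalso
          have h1 : (k : G) = w * k' := congrArg (fun x : F => (x : G)) h
          apply hwK
          have : w = k * (k' : G)⁻¹ := by rw [h1, mul_assoc, mul_inv_cancel, mul_one]
          rw [this]
          exact K.mul_mem k.2 (K.inv_mem k'.2)
        · exfalso
          have h1 : w * (k : G) = k' := congrArg (fun x : F => (x : G)) h
          apply hwK
          have : w = k' * (k : G)⁻¹ := by rw [← h1, mul_assoc, mul_inv_cancel, mul_one]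
          rw [this]
          exact K.mul_mem k'.2 (K.inv_mem k.2)
        · have h1 : w * (k : G) = w * k' := congrArg (fun x : F => (x : G)) h
          rw [Subtype.ext (mul_left_cancel h1)]
      · rintro ⟨f, hf⟩
        rcases (hFmem f).mp hf with h | h
        · exact ⟨Sum.inl ⟨f, h⟩, rfl⟩
        · refine ⟨Sum.inr ⟨w * f, h⟩, ?_⟩
          apply Subtype.ext
          exact (hback f).symm
    rw [← Nat.card_congr (Equiv.ofBijective φ hφ), Nat.card_sum, two_mul]
  · intro f hf
    rcases (hFmem f).mp hf with h | h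
    · exact hK2 f h
    · have h1 := hK2 _ h
      rw [hback f, pow_two]
      calc w * (w * f) * (w * (w * f)) = w * ((w * f) * w) * (w * f) := by group
        _ = w * (w * (w * f)) * (w * f) := by rw [hwc _ h]
        _ = (w * w) * ((w * f) * (w * f)) := by group
        _ = 1 := by rw [hww, one_mul, ← pow_two, h1]

end double

end Cfsg.Agent.Lib.Helper4_NormalFour
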