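import Cfsg.Agent.Lib.Helper22_Uniq5
import Cfsg.Agent.S1337
import Cfsg.Agent.S1399

/-!
Uniqueness subgroups and connectivity (helper22), for Bender--Glauberman Corollary 9.3.

* `inUniqueMaximal_cj`: conjugates of uniqueness subgroups are uniqueness subgroups;
* `not_rankLE_of_elemAb`, `exists_elemAb_of_not_pRankLE`: witnesses for the rank predicates;
* `inUniqueMaximal_of_chain`: uniqueness propagates along chains of commuting elementary abelian subgroups of rank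
  at least two;
* `inUniqueMaximal_of_rank_three`: Corollary 9.3.
-/

set_option autoImplicit false

namespace Cfsg.Agent.Lib.Helper22_Uniq

open Subgroup Cfsg Cfsg.Agent.Lib.Helper22_Radical Cfsg.Agent.Lib.Helper22_BGTrans
  Cfsg.Agent.Lib.Helper84_RelSylow

universe u

variable {G : Type u} [Group G]

theorem isCoatom_cj {M : Subgroup G} (hM : IsCoatom M) (g : G) : IsCoatom (cj g M) := by
  refine ⟨?_, ?_⟩
  · intro h
    apply hM.1
    have : cj g⁻¹ (cj g M) = cj g⁻¹ ⊤ := by rw [h]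
    rw [cj_inv_cj] at this
    rw [this, eq_top_iff]
    intro x _
    rw [mem_cj]
    exact mem_top _
  · intro b hb
    have h1 : M < cj g⁻¹ b := by
      have h2 : cj g⁻¹ (cj g M) < cj g⁻¹ b := by
        refine lt_of_le_of_ne (cj_mono hb.le) ?_
        intro h
        have : cj g (cj g⁻¹ (cj g M)) = cj g (cj g⁻¹ b) := by rw [h]
        rw [cj_cj_inv, cj_cj_inv] at this
        exact hb.ne this
      rwa [cj_inv_cj] at h2
    have h3 := hM.2 _ h1
    have : cj g (cj g⁻¹ b) = cj g ⊤ := by rw [h3]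
    rw [cj_cj_inv] at this
    rw [this, eq_top_iff]
    intro x _
    rw [mem_cj]
    exact mem_top _

theorem inUniqueMaximal_cj {X : Subgroup G} (h : InUniqueMaximal X) (g : G) : InUniqueMaximal (cj g X) := by
  obtain ⟨M, ⟨hM, hXM⟩, huniq⟩ := h
  refine ⟨cj g M, ⟨isCoatom_cj hM g, cj_mono hXM⟩, ?_⟩
  rintro H ⟨hH, hXH⟩
  have h1 : X ≤ cj g⁻¹ H := by
    have := cj_mono (k := g⁻¹) hXH
    rwa [cj_inv_cj] at this
  have h2 := huniq (cj g⁻¹ H) ⟨isCoatom_cj hH g⁻¹, h1⟩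
  rw [← h2, cj_cj_inv]

theorem inUniqueMaximal_of_cj {X : Subgroup G} {g : G} (h : InUniqueMaximal (cj g X)) : InUniqueMaximal X := by
  have := inUniqueMaximal_cj h g⁻¹
  rwa [cj_inv_cj] at this

/-! ### rank witnesses -/

theorem not_pRankLE_of_elemAb {p k : ℕ} {E K : Subgroup G} (hEK : E ≤ K)
    (hEc : ∀ a ∈ E, ∀ b ∈ E, a * b = b * a) (hEe : ∀ a ∈ E, a ^ p = 1) (hcard : p ^ k < Nat.card E) :
    ¬ PRankLE p k ↥K := by
  intro h
  have h1 := h (E.subgroupOf K) ⟨⟨fun a b => ?_⟩⟩ ?_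
  · rw [Cfsg.Agent.Lib.Helper24_CoprimeAction.card_subgroupOf_of_le hEK] at h1
    omega
  · apply Subtype.ext
    apply Subtype.ext
    have := hEc _ (mem_subgroupOf.mp a.2) _ (mem_subgroupOf.mp b.2)
    simpa using this
  · intro a ha
    apply Subtype.ext
    rw [Subgroup.coe_pow]
    exact hEe _ (mem_subgroupOf.mp ha)

theorem not_rankLE_of_elemAb {p k : ℕ} (hp : p.Prime) {E K : Subgroup G} (hEK : E ≤ K)
    (hEc : ∀ a ∈ E, ∀ b ∈ E, a * b = b * a) (hEe : ∀ a ∈ E, a ^ p = 1) (hcard : p ^ k < Nat.card E) :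
    ¬ RankLE k ↥K := fun h => not_pRankLE_of_elemAb hEK hEc hEe hcard (h p hp)

theorem exists_elemAb_of_not_pRankLE {p k : ℕ} {Z : Subgroup G} (h : ¬ PRankLE p k ↥Z) :
    ∃ E : Subgroup G, E ≤ Z ∧ (∀ a ∈ E, ∀ b ∈ E, a * b = b * a) ∧ (∀ a ∈ E, a ^ p = 1) ∧
      p ^ k < Nat.card E := by
  unfold PRankLE at h
  push Not at h
  obtain ⟨B, hBc, hBp, hlt⟩ := h
  refine ⟨B.map Z.subtype, Subgroup.map_subtype_le _, ?_, ?_, ?_⟩
  · rintro _ ⟨x, hx, rfl⟩ _ ⟨y, hy, rfl⟩
    have h1 := hBc.is_comm.comm (⟨x, hx⟩ : B) ⟨y, hy⟩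
    have h2 := congrArg (fun z : B => ((z : Z) : G)) h1
    simpa using h2
  · rintro _ ⟨x, hx, rfl⟩
    have h1 := hBp x hx
    have h2 := congrArg (fun z : Z => (z : G)) h1
    simpa using h2
  · rw [Subgroup.card_map_of_injective Z.subtype_injective]
    exact hlt

/-- a noncyclic `p`-group, `p` odd, has rank at least two -/
theorem not_rankLE_one_of_not_isCyclic [Finite G] {p : ℕ} [Fact p.Prime] (hp : p ≠ 2) {B : Subgroup G}
    (hB : IsPGroup p B) (hnc : ¬ IsCyclic B) : ¬ RankLE 1 ↥B := by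
  have hpp : p.Prime := Fact.out
  have hnc' : ¬ IsCyclic ↥(⊤ : Subgroup ↥B) := by
    intro hc
    apply hnc
    have e : ↥(⊤ : Subgroup ↥B) ≃* ↥B := Subgroup.topEquiv
    exact isCyclic_of_surjective e e.surjective
  obtain ⟨E₀, -, -, hE₀c, hE₀e, hE₀2⟩ :=
    Cfsg.Agent.Lib.Helper20_PGroupOdd.exists_normal_rank_two hp hB (⊤ : Subgroup ↥B) hnc'
  intro h
  have h1 := h p hpp E₀ ⟨⟨fun a b => Subtype.ext (hE₀c a.1 a.2 b.1 b.2)⟩⟩ hE₀e
  rw [hE₀2, pow_one] at h1
  have : p < p ^ 2 := by nlinarith [hpp.one_lt]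
  omega

/-! ### chains of commuting elementary abelian subgroups -/

/-- uniqueness propagates along a chain of commuting elementary abelian subgroups of order at least `p ^ 2` -/
theorem inUniqueMaximal_of_chain [Finite G] (hG : IsMinSimpleOddOrder G) {p : ℕ} (hp : p.Prime) (S : Subgroup G)
    {X Y : Subgroup ↥S}
    (h : Relation.ReflTransGen (fun A B : Subgroup ↥S => IsElementaryAbelian p A ∧ p ^ 2 ≤ Nat.card ↥A ∧
      IsElementaryAbelian p B ∧ p ^ 2 ≤ Nat.card ↥B ∧ ∀ a ∈ A, ∀ b ∈ B, a * b = b * a) X Y)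
    (hX : InUniqueMaximal (X.map S.subtype)) : InUniqueMaximal (Y.map S.subtype) := by
  induction h with
  | refl => exact hX
  | @tail b c _ hbc ih =>
    obtain ⟨-, -, hc, hc2, hcomm⟩ := hbc
    apply Cfsg.Agent.S1399.result hG (b.map S.subtype) (c.map S.subtype) ih
    · rintro _ ⟨y, hy, rfl⟩
      rw [Subgroup.mem_centralizer_iff]
      rintro _ ⟨x, hx, rfl⟩
      have := hcomm x hx y hy
      exact congrArg Subtype.val this
    · apply not_rankLE_of_elemAb hp (E := c.map S.subtype) le_rfl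
      · rintro _ ⟨x, hx, rfl⟩ _ ⟨y, hy, rfl⟩
        have := isMulCommutative_iff.mp hc.1 ⟨x, hx⟩ ⟨y, hy⟩
        have h2 : x * y = y * x := congrArg Subtype.val this
        exact congrArg Subtype.val h2
      · rintro _ ⟨x, hx, rfl⟩
        have := hc.2 x hx
        exact congrArg Subtype.val this
      · rw [Subgroup.card_map_of_injective S.subtype_injective, pow_one]
        have : p < p ^ 2 := by nlinarith [hp.one_lt]
        omega

/-- **Bender--Glauberman, Corollary 9.3.** -/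
theorem inUniqueMaximal_of_rank_three [Finite G] (hG : IsMinSimpleOddOrder G) (p : ℕ) [Fact p.Prime]
    (A B : Subgroup G) (hAp : IsPGroup p A) (hAc : IsMulCommutative A) (hA3 : ¬ PRankLE p 2 ↥A)
    (hAU : InUniqueMaximal A) (hBp : IsPGroup p B) (hBnc : ¬ IsCyclic B)
    (hB3 : ¬ PRankLE p 2 ↥(centralizer (B : Set G))) : InUniqueMaximal B := by
  have hpp : p.Prime := Fact.out
  have hB1 : B ≠ ⊥ := by
    rintro rfl
    exact hBnc inferInstance
  have hp2 : p ≠ 2 := two_ne_of_dvd_card hG (dvd_card_of_ne_bot hBp hB1)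
  have hpp2 : p < p ^ 2 := by nlinarith [hpp.one_lt]
  -- elementary abelian witnesses
  obtain ⟨A₁, hA₁A, hA₁c, hA₁e, hA₁3⟩ := exists_elemAb_of_not_pRankLE hA3
  obtain ⟨B₁, hB₁C, hB₁c, hB₁e, hB₁3⟩ := exists_elemAb_of_not_pRankLE hB3
  have hAcent : A ≤ centralizer (A : Set G) := by
    intro a ha
    rw [Subgroup.mem_centralizer_iff]
    intro b hb
    have := isMulCommutative_iff.mp hAc ⟨b, hb⟩ ⟨a, ha⟩
    exact congrArg Subtype.val this
  have hA₁U : InUniqueMaximal A₁ := by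
    apply Cfsg.Agent.S1399.result hG A A₁ hAU (hA₁A.trans hAcent)
    apply not_rankLE_of_elemAb hpp (E := A₁) le_rfl hA₁c hA₁e
    rw [pow_one]; omega
  -- a Sylow subgroup containing `B B₁`
  have hB₁p : IsPGroup p ↥B₁ := by
    intro b
    refine ⟨1, ?_⟩
    apply Subtype.ext
    rw [pow_one, Subgroup.coe_pow]
    exact hB₁e b.1 b.2
  have hA₁p : IsPGroup p ↥A₁ := hAp.to_le hA₁A
  have hB₁N : B₁ ≤ normalizer (B : Set G) := hB₁C.trans (centralizer_le_normalizer _)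
  have hTp : IsPGroup p ↥(B₁ ⊔ B : Subgroup G) := hB₁p.to_sup_of_normal_right' hBp hB₁N
  obtain ⟨S, hTS⟩ := hTp.exists_le_sylow
  obtain ⟨g, hg⟩ := exists_conj_le_sylow S hA₁p
  have hA₂S : cj g A₁ ≤ (S : Subgroup G) := by
    rintro _ ⟨x, hx, rfl⟩
    exact hg x hx
  have hA₂U : InUniqueMaximal (cj g A₁) := inUniqueMaximal_cj hA₁U g
  have hA₂c : ∀ a ∈ cj g A₁, ∀ b ∈ cj g A₁, a * b = b * a := by
    rintro _ ⟨x, hx, rfl⟩ _ ⟨y, hy, rfl⟩
    show g * x * g⁻¹ * (g * y * g⁻¹) = g * y * g⁻¹ * (g * x * g⁻¹)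
    have := hA₁c x hx y hy
    calc g * x * g⁻¹ * (g * y * g⁻¹) = g * (x * y) * g⁻¹ := by group
      _ = g * (y * x) * g⁻¹ := by rw [this]
      _ = g * y * g⁻¹ * (g * x * g⁻¹) := by group
  have hA₂e : ∀ a ∈ cj g A₁, a ^ p = 1 := by
    rintro _ ⟨x, hx, rfl⟩
    show (g * x * g⁻¹) ^ p = 1
    rw [conj_pow, hA₁e x hx]
    group
  have hA₂3 : p ^ 2 < Nat.card ↥(cj g A₁) := by rw [card_cj]; exact hA₁3
  have hB₁S : B₁ ≤ (S : Subgroup G) := le_sup_left.trans hTS
  -- work inside the Sylow subgroup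
  have hSp : IsPGroup p ↥(S : Subgroup G) := S.isPGroup'
  have hrk : ¬ PRankLE p 2 ↥(S : Subgroup G) := not_pRankLE_of_elemAb hA₂S hA₂c hA₂e hA₂3
  obtain ⟨U, -, -, -, hchain⟩ := Cfsg.Agent.S1337.result p hSp hrk
  have hsub : ∀ E : Subgroup G, E ≤ (S : Subgroup G) → (∀ a ∈ E, ∀ b ∈ E, a * b = b * a) →
      (∀ a ∈ E, a ^ p = 1) → p ^ 2 < Nat.card E →
      Relation.ReflTransGen (fun A B : Subgroup ↥(S : Subgroup G) => IsElementaryAbelian p A ∧
        p ^ 2 ≤ Nat.card ↥A ∧ IsElementaryAbelian p B ∧ p ^ 2 ≤ Nat.card ↥B ∧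
        ∀ a ∈ A, ∀ b ∈ B, a * b = b * a) (E.subgroupOf (S : Subgroup G)) U := by
    intro E hES hEc hEe hE3
    have hcard : Nat.card ↥(E.subgroupOf (S : Subgroup G)) = Nat.card E :=
      Cfsg.Agent.Lib.Helper24_CoprimeAction.card_subgroupOf_of_le hES
    have hEea : IsElementaryAbelian p (E.subgroupOf (S : Subgroup G)) := by
      refine ⟨⟨⟨fun a b => ?_⟩⟩, ?_⟩
      · apply Subtype.ext
        apply Subtype.ext
        have := hEc _ (mem_subgroupOf.mp a.2) _ (mem_subgroupOf.mp b.2)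
        simpa using this
      · intro a ha
        apply Subtype.ext
        rw [Subgroup.coe_pow]
        exact hEe _ (mem_subgroupOf.mp ha)
    apply (hchain (E.subgroupOf (S : Subgroup G)) hEea (by rw [hcard]; omega)).mpr
    apply not_pRankLE_of_elemAb (E := E.subgroupOf (S : Subgroup G))
    · intro x hx
      rw [Subgroup.mem_centralizer_iff]
      intro y hy
      apply Subtype.ext
      exact hEc _ (mem_subgroupOf.mp hy) _ (mem_subgroupOf.mp hx)
    · intro a ha b hb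
      apply Subtype.ext
      exact hEc _ (mem_subgroupOf.mp ha) _ (mem_subgroupOf.mp hb)
    · intro a ha
      apply Subtype.ext
      rw [Subgroup.coe_pow]
      exact hEe _ (mem_subgroupOf.mp ha)
    · rw [hcard]; exact hE3
  have hchA := hsub (cj g A₁) hA₂S hA₂c hA₂e hA₂3
  have hchB : Relation.ReflTransGen (fun A B : Subgroup ↥(S : Subgroup G) => IsElementaryAbelian p A ∧
      p ^ 2 ≤ Nat.card ↥A ∧ IsElementaryAbelian p B ∧ p ^ 2 ≤ Nat.card ↥B ∧
      ∀ a ∈ A, ∀ b ∈ B, a * b = b * a) U (B₁.subgroupOf (S : Subgroup G)) := by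
    refine Relation.ReflTransGen.mono ?_ _ _
      (Relation.ReflTransGen.swap _ _ (hsub B₁ hB₁S hB₁c hB₁e hB₁3))
    rintro X Y ⟨h1, h2, h3, h4, h5⟩
    exact ⟨h3, h4, h1, h2, fun a ha b hb => (h5 b hb a ha).symm⟩
  have hUU : InUniqueMaximal (U.map (S : Subgroup G).subtype) := by
    apply inUniqueMaximal_of_chain hG hpp _ hchA
    rw [Subgroup.map_subgroupOf_eq_of_le hA₂S]
    exact hA₂U
  have hB₁U : InUniqueMaximal B₁ := by
    have := inUniqueMaximal_of_chain hG hpp _ hchB hUU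
    rwa [Subgroup.map_subgroupOf_eq_of_le hB₁S] at this
  apply Cfsg.Agent.S1399.result hG B₁ B hB₁U
  · intro b hb
    rw [Subgroup.mem_centralizer_iff]
    intro x hx
    exact (Subgroup.mem_centralizer_iff.mp (hB₁C hx) b hb).symm
  · exact not_rankLE_one_of_not_isCyclic hp2 hBp hBnc

end Cfsg.Agent.Lib.Helper22_Uniq
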