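import Mathlib

/-!
Basic subgroup helpers (helper22): joins `X ⊔ Y` with `Y ≤ N(X)`: solvability and order.
-/

set_option autoImplicit false

namespace Cfsg.Agent.Lib.Helper22_Basic

open Subgroup

/-- If `Y` normalizes `X` and both are solvable, so is `X ⊔ Y`. -/
theorem isSolvable_sup_of_le_normalizer {G : Type*} [Group G] (X Y : Subgroup G)
    (hn : Y ≤ Subgroup.normalizer (X : Set G)) (hX : Group.IsSolvable X) (hY : Group.IsSolvable Y) :
    Group.IsSolvable ↥(X ⊔ Y) := by
  rw [sup_comm]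
  have : (X.subgroupOf Y).Normal := Subgroup.normal_subgroupOf_of_le_normalizer hn
  have : (X.subgroupOf (Y ⊔ X)).Normal := Subgroup.normal_subgroupOf_sup_of_le_normalizer hn
  have e := QuotientGroup.quotientInfEquivProdNormalizerQuotient Y X hn
  have : Group.IsSolvable (↥(Y ⊔ X) ⧸ X.subgroupOf (Y ⊔ X)) :=
    Group.isSolvable_of_surjective (f := e.toMonoidHom) e.surjective
  have : Group.IsSolvable ↥(X.subgroupOf (Y ⊔ X)) :=
    Group.isSolvable_of_isSolvable_injective (f := (Subgroup.subgroupOfEquivOfLe (le_sup_right : X ≤ Y ⊔ X)).toMonoidHom)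
      (Subgroup.subgroupOfEquivOfLe (le_sup_right : X ≤ Y ⊔ X)).injective
  exact (Group.isSolvable_iff_subgroup_quotient (X.subgroupOf (Y ⊔ X))).mpr ⟨inferInstance, inferInstance⟩

/-- If `Y` normalizes `X` then `|X ⊔ Y|` divides `|X| * |Y|`. -/
theorem card_sup_dvd_of_le_normalizer {G : Type*} [Group G] (X Y : Subgroup G)
    (hn : Y ≤ Subgroup.normalizer (X : Set G)) :
    Nat.card ↥(X ⊔ Y) ∣ Nat.card X * Nat.card Y := by
  rw [sup_comm]
  have : (X.subgroupOf Y).Normal := Subgroup.normal_subgroupOf_of_le_normalizer hn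
  have : (X.subgroupOf (Y ⊔ X)).Normal := Subgroup.normal_subgroupOf_sup_of_le_normalizer hn
  have e := QuotientGroup.quotientInfEquivProdNormalizerQuotient Y X hn
  have h1 : Nat.card ↥(Y ⊔ X) = Nat.card ↥(X.subgroupOf (Y ⊔ X)) * Nat.card (↥(Y ⊔ X) ⧸ X.subgroupOf (Y ⊔ X)) :=
    Subgroup.card_eq_card_quotient_mul_card_subgroup (X.subgroupOf (Y ⊔ X)) |>.trans (mul_comm _ _)
  have h2 : Nat.card ↥(X.subgroupOf (Y ⊔ X)) = Nat.card X :=
    Nat.card_congr (Subgroup.subgroupOfEquivOfLe (le_sup_right : X ≤ Y ⊔ X)).toEquiv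
  have h3 : Nat.card (↥(Y ⊔ X) ⧸ X.subgroupOf (Y ⊔ X)) = Nat.card (↥Y ⧸ X.subgroupOf Y) :=
    (Nat.card_congr e.toEquiv).symm
  have h4 : Nat.card (↥Y ⧸ X.subgroupOf Y) ∣ Nat.card Y :=
    Subgroup.card_quotient_dvd_card (X.subgroupOf Y)
  rw [h1, h2, h3]
  exact Nat.mul_dvd_mul_left _ h4

open scoped commutatorElement in
/-- `[K, Y]` is normalized by `K` (elementwise form). -/
theorem conj_mem_commutator_left {G : Type*} [Group G] {K Y : Subgroup G} {a : G} (ha : a ∈ K)
    {n : G} (hn : n ∈ ⁅K, Y⁆) : a * n * a⁻¹ ∈ ⁅K, Y⁆ := by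
  rw [Subgroup.commutator_def] at hn
  induction hn using Subgroup.closure_induction with
  | mem x hx =>
    obtain ⟨k, hk, y, hy, rfl⟩ := hx
    have h1 : a * ⁅k, y⁆ * a⁻¹ = ⁅a * k, y⁆ * (⁅a, y⁆)⁻¹ := by
      simp only [commutatorElement_def]; group
    rw [h1]
    exact Subgroup.mul_mem _ (Subgroup.commutator_mem_commutator (K.mul_mem ha hk) hy)
      (Subgroup.inv_mem _ (Subgroup.commutator_mem_commutator ha hy))
  | one => simp
  | mul x y _ _ hx hy =>
    have : a * (x * y) * a⁻¹ = (a * x * a⁻¹) * (a * y * a⁻¹) := by group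
    rw [this]; exact Subgroup.mul_mem _ hx hy
  | inv x _ hx =>
    have : a * x⁻¹ * a⁻¹ = (a * x * a⁻¹)⁻¹ := by group
    rw [this]; exact Subgroup.inv_mem _ hx

/-- `[K, Y]` is normalized by `K`. -/
theorem le_normalizer_commutator_left {G : Type*} [Group G] (K Y : Subgroup G) :
    K ≤ Subgroup.normalizer ((⁅K, Y⁆ : Subgroup G) : Set G) := by
  intro a ha
  rw [Subgroup.mem_normalizer_iff]
  intro n
  constructor
  · exact fun hn => conj_mem_commutator_left ha hn
  · intro hn
    have := conj_mem_commutator_left (K.inv_mem ha) hn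
    simpa [mul_assoc] using this

/-- `[K, Y]` is normalized by `Y`. -/
theorem le_normalizer_commutator_right {G : Type*} [Group G] (K Y : Subgroup G) :
    Y ≤ Subgroup.normalizer ((⁅K, Y⁆ : Subgroup G) : Set G) := by
  rw [Subgroup.commutator_comm]
  exact le_normalizer_commutator_left Y K

end Cfsg.Agent.Lib.Helper22_Basic
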