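import Cfsg.Agent.Lib.Helper48_Generation
import Cfsg.Agent.Lib.Helper22_Basic
import Mathlib

/-!
Generation by centralizers of hyperplanes (helper22), built on helper48's rank two generation lemma.

If an abelian group `A` of exponent `p` normalizes a `p'`-subgroup `X` of a finite group, then `X` is generated by
the subgroups `C_X(B)`, `B` ranging over the subgroups of `A` of index at most `p`.
-/

set_option autoImplicit false

namespace Cfsg.Agent.Lib.Helper22_Hyperplane

open Subgroup Cfsg.Agent.Lib.Helper22_Basic

variable {H : Type*} [Group H]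

/-- `|D| * [A : D] = |A|` for `D ≤ A` -/
theorem card_mul_relIndex {D A : Subgroup H} (h : D ≤ A) : Nat.card D * D.relIndex A = Nat.card A := by
  have := Subgroup.relIndex_mul_relIndex (⊥ : Subgroup H) D A bot_le h
  rwa [Subgroup.relIndex_bot_left, Subgroup.relIndex_bot_left] at this

/-- elements commuting with `D` and with `b` commute with `D ⊔ zpowers b` -/
theorem inf_centralizer_le (D : Subgroup H) (b : H) :
    centralizer (D : Set H) ⊓ centralizer ({b} : Set H) ≤ centralizer ((D ⊔ zpowers b : Subgroup H) : Set H) := by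
  intro x hx
  obtain ⟨h1, h2⟩ := hx
  have h1' : x ∈ centralizer (D : Set H) := h1
  have h2' : x ∈ centralizer ({b} : Set H) := h2
  have hle : D ⊔ zpowers b ≤ centralizer ({x} : Set H) := by
    apply sup_le
    · intro d hd
      rw [mem_centralizer_iff]
      intro y hy
      rw [Set.mem_singleton_iff] at hy
      subst hy
      exact ((mem_centralizer_iff.mp h1') d hd).symm
    · rw [zpowers_le, mem_centralizer_iff]
      intro y hy
      rw [Set.mem_singleton_iff] at hy
      subst hy
      exact ((mem_centralizer_iff.mp h2') b (Set.mem_singleton b)).symm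
  rw [mem_centralizer_iff]
  intro y hy
  have := hle hy
  rw [mem_centralizer_iff] at this
  exact (this x (Set.mem_singleton x)).symm

/-- an element normalizing `X` and centralizing `D` normalizes `X ⊓ C(D)` -/
theorem mem_normalizer_inf_centralizer {X D : Subgroup H} {a : H} (ha : a ∈ normalizer (X : Set H))
    (hD : ∀ d ∈ D, a * d = d * a) :
    a ∈ normalizer ((X ⊓ centralizer (D : Set H) : Subgroup H) : Set H) := by
  rw [mem_normalizer_iff]
  intro x
  have hcent : ∀ y : H, y ∈ centralizer (D : Set H) ↔ a * y * a⁻¹ ∈ centralizer (D : Set H) := by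
    intro y
    rw [mem_centralizer_iff, mem_centralizer_iff]
    constructor
    · intro h d hd
      have h1 := h d hd
      have h2 := hD d hd
      have h2' : a⁻¹ * d = d * a⁻¹ := by
        calc a⁻¹ * d = a⁻¹ * (d * a) * a⁻¹ := by group
          _ = a⁻¹ * (a * d) * a⁻¹ := by rw [h2]
          _ = d * a⁻¹ := by group
      calc d * (a * y * a⁻¹) = (d * a) * y * a⁻¹ := by group
        _ = (a * d) * y * a⁻¹ := by rw [h2]
        _ = a * (d * y) * a⁻¹ := by group
        _ = a * (y * d) * a⁻¹ := by rw [h1]
        _ = a * y * (d * a⁻¹) := by group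
        _ = a * y * (a⁻¹ * d) := by rw [h2']
        _ = a * y * a⁻¹ * d := by group
    · intro h d hd
      have h1 := h d hd
      have h2 := hD d hd
      have h2' : a⁻¹ * d = d * a⁻¹ := by
        calc a⁻¹ * d = a⁻¹ * (d * a) * a⁻¹ := by group
          _ = a⁻¹ * (a * d) * a⁻¹ := by rw [h2]
          _ = d * a⁻¹ := by group
      calc d * y = a⁻¹ * ((a * d) * y * a⁻¹) * a := by group
        _ = a⁻¹ * ((d * a) * y * a⁻¹) * a := by rw [h2]
        _ = a⁻¹ * (d * (a * y * a⁻¹)) * a := by group
        _ = a⁻¹ * ((a * y * a⁻¹) * d) * a := by rw [h1]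
        _ = y * (a⁻¹ * d) * a := by group
        _ = y * (d * a⁻¹) * a := by rw [h2']
        _ = y * d := by group
  constructor
  · rintro ⟨h1, h2⟩
    exact ⟨(mem_normalizer_iff.mp ha x).mp h1, (hcent x).mp h2⟩
  · rintro ⟨h1, h2⟩
    exact ⟨(mem_normalizer_iff.mp ha x).mpr h1, (hcent x).mpr h2⟩

variable [Finite H] (p : ℕ) [Fact p.Prime]

/-- **Generation by centralizers of hyperplanes.** -/
theorem le_iSup_centralizer_hyperplanes (A X : Subgroup H)
    (hAc : ∀ a ∈ A, ∀ b ∈ A, a * b = b * a) (hAp : ∀ a ∈ A, a ^ p = 1)
    (hX : ¬ p ∣ Nat.card X) (hAX : A ≤ normalizer (X : Set H)) :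
    X ≤ ⨆ B : {B : Subgroup H // B ≤ A ∧ B.relIndex A ≤ p}, X ⊓ centralizer ((B : Subgroup H) : Set H) := by
  set T : Subgroup H :=
    ⨆ B : {B : Subgroup H // B ≤ A ∧ B.relIndex A ≤ p}, X ⊓ centralizer ((B : Subgroup H) : Set H) with hT
  have hpp : p.Prime := Fact.out
  have key : ∀ n : ℕ, ∀ D : Subgroup H, D ≤ A → Nat.card A - Nat.card D = n →
      X ⊓ centralizer (D : Set H) ≤ T := by
    intro n
    induction n using Nat.strong_induction_on with
    | _ n ih =>
      intro D hDA hn
      by_cases hidx : D.relIndex A ≤ p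
      · exact le_iSup (fun B : {B : Subgroup H // B ≤ A ∧ B.relIndex A ≤ p} =>
          X ⊓ centralizer ((B : Subgroup H) : Set H)) ⟨D, hDA, hidx⟩
      · push Not at hidx
        have hcardA : Nat.card D * D.relIndex A = Nat.card A := card_mul_relIndex hDA
        have hDpos : 0 < Nat.card D := Nat.card_pos
        -- IH for strictly bigger subgroups of A
        have hstep : ∀ c ∈ A, c ∉ D →
            X ⊓ centralizer (D : Set H) ⊓ centralizer ({c} : Set H) ≤ T := by
          intro c hcA hcD
          have hle : D ⊔ zpowers c ≤ A := sup_le hDA (zpowers_le.mpr hcA)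
          have hlt : Nat.card D < Nat.card ↥(D ⊔ zpowers c) := by
            by_contra hge
            push Not at hge
            have := Subgroup.eq_of_le_of_card_ge (le_sup_left : D ≤ D ⊔ zpowers c) hge
            apply hcD
            rw [this]
            exact (le_sup_right : zpowers c ≤ D ⊔ zpowers c) (mem_zpowers c)
          have hle' : Nat.card ↥(D ⊔ zpowers c) ≤ Nat.card A := Subgroup.card_le_of_le hle
          have := ih (Nat.card A - Nat.card ↥(D ⊔ zpowers c)) (by omega) (D ⊔ zpowers c) hle rfl
          refine le_trans ?_ this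
          rw [inf_assoc]
          exact inf_le_inf_left _ (inf_centralizer_le D c)
        -- choose b ∈ A \ D
        have hDneA : ¬ A ≤ D := by
          intro h
          have : D.relIndex A = 1 := Subgroup.relIndex_eq_one.mpr h
          rw [this] at hidx
          exact absurd hidx (not_lt.mpr hpp.one_lt.le)
        obtain ⟨b, hbA, hbD⟩ := SetLike.not_le_iff_exists.mp hDneA
        -- D₁ = D ⊔ zpowers b is still proper
        have hbnorm : zpowers b ≤ normalizer (D : Set H) := by
          rw [zpowers_le]
          apply Subgroup.centralizer_le_normalizer (D : Set H)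
          rw [mem_centralizer_iff]
          intro d hd
          exact hAc d (hDA hd) b hbA
        have hcard1 : Nat.card ↥(D ⊔ zpowers b) ≤ Nat.card D * p := by
          have h1 := card_sup_dvd_of_le_normalizer D (zpowers b) hbnorm
          have h2 : Nat.card (zpowers b) ∣ p := by
            rw [Nat.card_zpowers]
            exact orderOf_dvd_of_pow_eq_one (hAp b hbA)
          have h3 : Nat.card ↥(D ⊔ zpowers b) ∣ Nat.card D * p := h1.trans (Nat.mul_dvd_mul_left _ h2)
          exact Nat.le_of_dvd (Nat.mul_pos hDpos hpp.pos) h3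
        have hD1neA : ¬ A ≤ D ⊔ zpowers b := by
          intro h
          have h1 : Nat.card A ≤ Nat.card ↥(D ⊔ zpowers b) := Subgroup.card_le_of_le h
          have h2 : Nat.card D * p < Nat.card D * D.relIndex A := Nat.mul_lt_mul_of_pos_left hidx hDpos
          omega
        obtain ⟨a, haA, haD1⟩ := SetLike.not_le_iff_exists.mp hD1neA
        -- apply the rank two lemma to K = X ⊓ C(D)
        have hKcop : ¬ p ∣ Nat.card ↥(X ⊓ centralizer (D : Set H)) := fun h =>
          hX (h.trans (Subgroup.card_dvd_of_le inf_le_left))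
        have hnormK : ∀ c ∈ A, c ∈ normalizer ((X ⊓ centralizer (D : Set H) : Subgroup H) : Set H) := by
          intro c hc
          exact mem_normalizer_inf_centralizer (hAX hc) (fun d hd => hAc c hc d (hDA hd))
        refine Cfsg.Agent.Lib.Helper48_Generation.le_of_centralizers_le (p := p)
          (X ⊓ centralizer (D : Set H)) hKcop a b (hnormK a haA) (hnormK b hbA) (hAp a haA) (hAp b hbA)
          (hAc a haA b hbA) T (hstep b hbA hbD) ?_
        intro i
        apply hstep (a * b ^ i) (A.mul_mem haA (A.pow_mem hbA i))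
        intro hmem
        apply haD1
        have : a = (a * b ^ i) * (b ^ i)⁻¹ := by group
        rw [this]
        exact (D ⊔ zpowers b).mul_mem ((le_sup_left : D ≤ D ⊔ zpowers b) hmem)
          ((D ⊔ zpowers b).inv_mem ((le_sup_right : zpowers b ≤ D ⊔ zpowers b)
            (Subgroup.pow_mem _ (mem_zpowers b) i)))
  have h0 := key _ ⊥ bot_le rfl
  have : X ⊓ centralizer ((⊥ : Subgroup H) : Set H) = X := by
    rw [Subgroup.coe_bot, Subgroup.centralizer_eq_top_iff_subset.mpr, inf_top_eq]
    intro x hx
    rw [Set.mem_singleton_iff] at hx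
    rw [hx]
    exact (Subgroup.center H).one_mem
  rwa [this] at h0

end Cfsg.Agent.Lib.Helper22_Hyperplane
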