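import Cfsg.Agent.Lib.Helper22_BGTrans
import Cfsg.Agent.Lib.Helper22_Hyperplane

/-!
The transitivity theorem for minimal simple groups of odd order: the rank conditions (helper22).

* `conj_of_rank_three`: if `Z(A)` has rank at least 3 then any two maximal `A`-invariant `q`-subgroups are
  conjugate under `K = O_{π(A)'}(C_G(A))`;
* `conj_of_rank_two`: the same if `Z(A)` has rank at least 2 and `q` divides `|C_G(A)|`.
-/

set_option autoImplicit false

namespace Cfsg.Agent.Lib.Helper22_BGTransRank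

open Subgroup Cfsg Cfsg.Agent.Lib.Helper22_Radical Cfsg.Agent.Lib.Helper22_BGTrans
  Cfsg.Agent.Lib.Helper22_Hyperplane

universe u

variable {G : Type u} [Group G]

/-- an elementary abelian witness of `¬ RankLE k` for a subgroup -/
theorem exists_elemAb_of_not_rankLE {k : ℕ} {Z : Subgroup G} (h : ¬ RankLE k ↥Z) :
    ∃ p : ℕ, p.Prime ∧ ∃ E : Subgroup G, E ≤ Z ∧ (∀ a ∈ E, ∀ b ∈ E, a * b = b * a) ∧
      (∀ a ∈ E, a ^ p = 1) ∧ p ^ k < Nat.card E := by
  unfold RankLE PRankLE at h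
  push Not at h
  obtain ⟨p, hp, B, hBc, hBp, hlt⟩ := h
  refine ⟨p, hp, B.map Z.subtype, Subgroup.map_subtype_le _, ?_, ?_, ?_⟩
  · rintro _ ⟨x, hx, rfl⟩ _ ⟨y, hy, rfl⟩
    have h1 := hBc.is_comm.comm (⟨x, hx⟩ : B) ⟨y, hy⟩
    have h2 := congrArg (fun z : B => ((z : Z) : G)) h1
    simpa using h2
  · rintro _ ⟨x, hx, rfl⟩
    have h1 := hBp x hx
    have h2 := congrArg (fun z : Z => (z : G)) h1
    simpa using h2
  · rw [Subgroup.card_map_of_injective Z.subtype_injective]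
    exact hlt

theorem centralizer_singleton_ne_top (hG : IsMinSimpleOddOrder G) {b : G} (hb : b ≠ 1) :
    centralizer ({b} : Set G) ≠ ⊤ := by
  intro h
  rw [centralizer_eq_top_iff_subset, Set.singleton_subset_iff] at h
  have := hG.2.1
  rcases (Subgroup.center G).normal_of_characteristic.eq_bot_or_eq_top with h1 | h1
  · rw [SetLike.mem_coe, h1, mem_bot] at h
    exact hb h
  · exact hG.2.2.1 (center_eq_top_iff.mp h1)

theorem le_centralizer_singleton {A : Subgroup G} {b : G} (hb : b ∈ centralizer (A : Set G)) :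
    A ≤ centralizer ({b} : Set G) := by
  intro a ha
  rw [mem_centralizer_singleton_iff]
  exact (mem_centralizer_iff.mp hb a ha)

theorem centralizer_le_centralizer_singleton {E : Subgroup G} {b : G} (hb : b ∈ E) :
    centralizer (E : Set G) ≤ centralizer ({b} : Set G) :=
  centralizer_le (Set.singleton_subset_iff.mpr hb)

section

variable [Finite G]

/-- some hyperplane of `E` has nontrivial fixed points on `Q` -/
theorem exists_hyperplane (p : ℕ) [Fact p.Prime] {E Q : Subgroup G}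
    (hEc : ∀ a ∈ E, ∀ b ∈ E, a * b = b * a) (hEp : ∀ a ∈ E, a ^ p = 1) (hQne : Q ≠ ⊥)
    (hpQ : ¬ p ∣ Nat.card Q) (hEQ : E ≤ normalizer (Q : Set G)) :
    ∃ E₀ : Subgroup G, E₀ ≤ E ∧ E₀.relIndex E ≤ p ∧ Q ⊓ centralizer (E₀ : Set G) ≠ ⊥ := by
  by_contra hcon
  push Not at hcon
  have h1 := le_iSup_centralizer_hyperplanes p E Q hEc hEp hpQ hEQ
  apply hQne
  rw [eq_bot_iff]
  refine h1.trans (iSup_le ?_)
  intro B
  exact (hcon B.1 B.2.1 B.2.2).le

theorem prime_dvd_card_of_lt {p k : ℕ} (hp : p.Prime) {A E : Subgroup G} (hEA : E ≤ A)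
    (hEp : ∀ a ∈ E, a ^ p = 1) (hlt : p ^ k < Nat.card E) : p ∣ Nat.card A := by
  have : Fact p.Prime := ⟨hp⟩
  have h1 : 1 < Nat.card E := lt_of_le_of_lt (Nat.one_le_pow _ _ hp.pos) hlt
  have h2 : E ≠ ⊥ := (Subgroup.one_lt_card_iff_ne_bot E).mp h1
  obtain ⟨a, ha⟩ := Subgroup.ne_bot_iff_exists_ne_one.mp h2
  have ha1 : (a : G) ≠ 1 := fun h => ha (Subtype.ext h)
  have h3 : orderOf (a : G) = p := orderOf_eq_prime (hEp a a.2) ha1
  rw [← h3]
  exact Subgroup.orderOf_dvd_natCard A (hEA a.2)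

theorem not_dvd_card_of_isPGroup {p q : ℕ} (hp : p.Prime) (hq : q.Prime) (hpq : p ≠ q) {Q : Subgroup G}
    (hQ : IsPGroup q Q) : ¬ p ∣ Nat.card Q := by
  intro h
  exact hpq (primes_of_isPGroup hq hQ p hp h)

omit [Finite G] in
/-- if `⊥` is a maximal member then it is the only member -/
theorem eq_bot_of_bot_mem_max {A : Subgroup G} {π : Set ℕ} (h : (⊥ : Subgroup G) ∈ maxInvSubgroups ⊤ A π)
    {Q : Subgroup G} (hQ : Q ∈ invSubgroups ⊤ A π) : Q = ⊥ :=
  h.2 Q hQ bot_le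

variable {A : Subgroup G}

/-- **Transitivity, rank at least 3.** -/
theorem conj_of_rank_three (hG : IsMinSimpleOddOrder G) (hA : TransitivityHypothesis A)
    (hZ : ¬ RankLE 2 ↥(A ⊓ centralizer (A : Set G))) {q : ℕ} (hq : q.Prime) (hqA : ¬ q ∣ Nat.card A)
    {Q₁ Q₂ : Subgroup G} (h₁ : Q₁ ∈ maxInvSubgroups ⊤ A {q}) (h₂ : Q₂ ∈ maxInvSubgroups ⊤ A {q}) :
    KConj (kOf A) Q₁ Q₂ := by
  by_cases hb1 : Q₁ = ⊥
  · have : Q₂ = ⊥ := eq_bot_of_bot_mem_max (hb1 ▸ h₁) h₂.1
    rw [hb1, this]; exact KConj.refl _ _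
  by_cases hb2 : Q₂ = ⊥
  · have : Q₁ = ⊥ := eq_bot_of_bot_mem_max (hb2 ▸ h₂) h₁.1
    exact absurd this hb1
  obtain ⟨p, hp, E, hEZ, hEc, hEp, hlt⟩ := exists_elemAb_of_not_rankLE hZ
  have : Fact p.Prime := ⟨hp⟩
  have hEA : E ≤ A := hEZ.trans inf_le_left
  have hEC : E ≤ centralizer (A : Set G) := hEZ.trans inf_le_right
  have hpA : p ∣ Nat.card A := prime_dvd_card_of_lt hp hEA hEp hlt
  have hpq : p ≠ q := fun h => hqA (h ▸ hpA)
  obtain ⟨hQq₁, hAQ₁⟩ := (mem_invSubgroups_top hq).mp h₁.1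
  obtain ⟨hQq₂, hAQ₂⟩ := (mem_invSubgroups_top hq).mp h₂.1
  obtain ⟨E₁, hE₁, hi₁, hc₁⟩ := exists_hyperplane p hEc hEp hb1
    (not_dvd_card_of_isPGroup hp hq hpq hQq₁) (hEA.trans hAQ₁)
  obtain ⟨E₂, hE₂, hi₂, hc₂⟩ := exists_hyperplane p hEc hEp hb2
    (not_dvd_card_of_isPGroup hp hq hpq hQq₂) (hEA.trans hAQ₂)
  -- a nontrivial element of `E₁ ⊓ E₂`
  have hcard := card_mul_relIndex (D := E₁ ⊓ E₂) (A := E) (inf_le_left.trans hE₁)
  have hrel : (E₁ ⊓ E₂).relIndex E ≤ p * p :=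
    (Subgroup.relIndex_inf_le).trans (Nat.mul_le_mul hi₁ hi₂)
  have hne : E₁ ⊓ E₂ ≠ ⊥ := by
    intro h
    rw [h] at hcard hrel
    rw [Subgroup.card_bot, one_mul] at hcard
    rw [pow_two] at hlt
    omega
  obtain ⟨b, hb⟩ := Subgroup.ne_bot_iff_exists_ne_one.mp hne
  have hb1' : (b : G) ≠ 1 := fun h => hb (Subtype.ext h)
  have hbE₁ : (b : G) ∈ E₁ := (mem_inf.mp b.2).1
  have hbE₂ : (b : G) ∈ E₂ := (mem_inf.mp b.2).2
  have hbC : (b : G) ∈ centralizer (A : Set G) := hEC (hE₁ hbE₁)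
  refine conj_of_common_overgroup hG hA hq hqA h₁ h₂ (H := centralizer ({(b : G)} : Set G))
    (centralizer_singleton_ne_top hG hb1') (le_centralizer_singleton hbC) ?_ ?_
  · intro h
    apply hc₁
    rw [eq_bot_iff, ← h]
    exact le_inf (inf_le_right.trans (centralizer_le_centralizer_singleton hbE₁)) inf_le_left
  · intro h
    apply hc₂
    rw [eq_bot_iff, ← h]
    exact le_inf (inf_le_right.trans (centralizer_le_centralizer_singleton hbE₂)) inf_le_left

/-- **Transitivity, rank at least 2 and `q` dividing `|C_G(A)|`.** -/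
theorem conj_of_rank_two (hG : IsMinSimpleOddOrder G) (hA : TransitivityHypothesis A)
    (hZ : ¬ RankLE 1 ↥(A ⊓ centralizer (A : Set G))) {q : ℕ} (hq : q.Prime) (hqA : ¬ q ∣ Nat.card A)
    (hqC : q ∣ Nat.card (centralizer (A : Set G)))
    {Q₁ Q₂ : Subgroup G} (h₁ : Q₁ ∈ maxInvSubgroups ⊤ A {q}) (h₂ : Q₂ ∈ maxInvSubgroups ⊤ A {q}) :
    KConj (kOf A) Q₁ Q₂ := by
  have hqf : Fact q.Prime := ⟨hq⟩
  obtain ⟨p, hp, E, hEZ, hEc, hEp, hlt⟩ := exists_elemAb_of_not_rankLE hZ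
  have : Fact p.Prime := ⟨hp⟩
  have hEA : E ≤ A := hEZ.trans inf_le_left
  have hEC : E ≤ centralizer (A : Set G) := hEZ.trans inf_le_right
  have hpA : p ∣ Nat.card A := prime_dvd_card_of_lt hp hEA hEp hlt
  have hpq : p ≠ q := fun h => hqA (h ▸ hpA)
  -- an element of order `q` in `C_G(A)`
  obtain ⟨t, ht⟩ := exists_prime_orderOf_dvd_card' q hqC
  have ht' : orderOf (t : G) = q := by rw [Subgroup.orderOf_coe]; exact ht
  set T : Subgroup G := zpowers (t : G) with hT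
  have hTq : IsPGroup q T := by
    apply IsPGroup.of_card (n := 1)
    rw [Nat.card_zpowers, ht', pow_one]
  have hTne : T ≠ ⊥ := by
    intro h
    have h1 : Nat.card T = q := by rw [Nat.card_zpowers, ht']
    rw [h, Subgroup.card_bot] at h1
    exact hq.one_lt.ne h1
  have hTC : T ≤ centralizer (A : Set G) := by
    rw [hT, zpowers_le]; exact t.2
  have hAT : A ≤ normalizer (T : Set G) := by
    have h1 : A ≤ centralizer ({(t : G)} : Set G) := le_centralizer_singleton t.2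
    have h2 : centralizer ({(t : G)} : Set G) = centralizer ((T : Subgroup G) : Set G) := by
      rw [hT, Subgroup.zpowers_eq_closure, Subgroup.centralizer_closure]
    rw [h2] at h1
    exact h1.trans (centralizer_le_normalizer _)
  obtain ⟨QT, hQT, hTQT⟩ := exists_max_ge hq hTq hAT
  -- every maximal member is conjugate to `QT`
  have key : ∀ Q ∈ maxInvSubgroups ⊤ A ({q} : Set ℕ), KConj (kOf A) Q QT := by
    intro Q hQ
    have hQne : Q ≠ ⊥ := by
      intro h
      exact hTne (eq_bot_of_bot_mem_max (h ▸ hQ) ((mem_invSubgroups_top hq).mpr ⟨hTq, hAT⟩))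
    obtain ⟨hQq, hAQ⟩ := (mem_invSubgroups_top hq).mp hQ.1
    obtain ⟨E₁, hE₁, hi₁, hc₁⟩ := exists_hyperplane p hEc hEp hQne
      (not_dvd_card_of_isPGroup hp hq hpq hQq) (hEA.trans hAQ)
    have hcard := card_mul_relIndex (D := E₁) (A := E) hE₁
    have hne : E₁ ≠ ⊥ := by
      intro h
      rw [h] at hcard hi₁
      rw [Subgroup.card_bot, one_mul] at hcard
      rw [pow_one] at hlt
      omega
    obtain ⟨b, hb⟩ := Subgroup.ne_bot_iff_exists_ne_one.mp hne
    have hb1' : (b : G) ≠ 1 := fun h => hb (Subtype.ext h)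
    have hbC : (b : G) ∈ centralizer (A : Set G) := hEC (hE₁ b.2)
    have hbA : (b : G) ∈ A := hEA (hE₁ b.2)
    refine conj_of_common_overgroup hG hA hq hqA hQ hQT (H := centralizer ({(b : G)} : Set G))
      (centralizer_singleton_ne_top hG hb1') (le_centralizer_singleton hbC) ?_ ?_
    · intro h
      apply hc₁
      rw [eq_bot_iff, ← h]
      exact le_inf (inf_le_right.trans (centralizer_le_centralizer_singleton b.2)) inf_le_left
    · intro h
      apply hTne
      rw [eq_bot_iff, ← h]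
      exact le_inf (hTC.trans (centralizer_le_centralizer_singleton hbA)) hTQT
  exact (key Q₁ h₁).trans (key Q₂ h₂).symm

end

end Cfsg.Agent.Lib.Helper22_BGTransRank
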