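import Cfsg.Agent.Lib.Helper22_FitLocal2
import Cfsg.Agent.Lib.Helper22_Basic

/-!
Invariant `π(F)'`-subgroups for a maximal local subgroup `H`, `F = F(H)` (helper22).

`le_piCoreOf_of_invariant`: `H` maximal local, `|π(F)| ≥ 2`, `M ≤ F`, `C_F(M) ≤ M`, `R` solvable normalized by `M` and
by `C_H(F)`: every `M`-invariant `q`-subgroup of `R`, `q ∉ π(F)`, lies in `O_{π(F)'}(R)`.
-/

set_option autoImplicit false

namespace Cfsg.Agent.Lib.Helper22_FitLocal

open Subgroup Cfsg Cfsg.Agent.Lib.Helper22_BGTrans Cfsg.Agent.Lib.Helper22_CoreCentralizer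
  Cfsg.Agent.Lib.Helper1_Cores

open scoped commutatorElement

theorem coprime_of_isPGroup {Y : Type*} [Group Y] [Finite Y] {r p : ℕ} (hr : r.Prime) (hp : p.Prime)
    (hne : r ≠ p) (hY : IsPGroup r Y) : (Nat.card Y).Coprime p := by
  have : Fact r.Prime := ⟨hr⟩
  obtain ⟨k, hk⟩ := hY.exists_card_eq
  rw [hk]
  exact Nat.Coprime.pow_left k ((Nat.coprime_primes hr hp).mpr hne)

theorem coprime_of_isPGroup_of_isPGroup {Y Z : Type*} [Group Y] [Finite Y] [Group Z] [Finite Z] {r q : ℕ}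
    (hr : r.Prime) (hq : q.Prime) (hne : r ≠ q) (hY : IsPGroup r Y) (hZ : IsPGroup q Z) :
    (Nat.card Y).Coprime (Nat.card Z) := by
  have : Fact q.Prime := ⟨hq⟩
  obtain ⟨k, hk⟩ := hZ.exists_card_eq
  rw [hk]
  exact Nat.Coprime.pow_right k (coprime_of_isPGroup hr hq hne hY)

variable {G : Type*} [Group G] [Finite G]

omit [Finite G] in
theorem zpart_le_of_le {H M : Subgroup G} (hMF : M ≤ fittingOf H)
    (hCM : fittingOf H ⊓ centralizer (M : Set G) ≤ M) (p : ℕ) : zpart p H ≤ M := by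
  intro z hz
  refine hCM (Subgroup.mem_inf.mpr ⟨hz.1, ?_⟩)
  exact Subgroup.centralizer_le (show (M : Set G) ⊆ fittingOf H from hMF) hz.2.1

/-- The local step: `Q ≤ O_{p'}(RM)` for each prime `p` dividing `|F|`. -/
theorem subgroupOf_le_pPrimeCore {H M R Q : Subgroup G}
    (hmax : ∀ L : Subgroup G, IsLocalSubgroup L → H ≤ L → L = H)
    (hMF : M ≤ fittingOf H) (hCM : fittingOf H ⊓ centralizer (M : Set G) ≤ M)
    (hR : Group.IsSolvable ↥R) (hMR : M ≤ normalizer (R : Set G))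
    (hXR : H ⊓ centralizer (fittingOf H : Set G) ≤ normalizer (R : Set G))
    {p r q : ℕ} [hp : Fact p.Prime] [hr : Fact r.Prime] [hq : Fact q.Prime]
    (hpn : p ∣ Nat.card (fittingOf H)) (hrn : r ∣ Nat.card (fittingOf H)) (hrp : r ≠ p)
    (hqn : ¬ q ∣ Nat.card (fittingOf H)) (hQ : IsPGroup q Q) (hQR : Q ≤ R)
    (hMQ : M ≤ normalizer (Q : Set G)) :
    Q.subgroupOf (R ⊔ M) ≤ pPrimeCore p ↥(R ⊔ M) := by
  set F := fittingOf H with hF
  set S := R ⊔ M with hS
  have hRS : R ≤ S := le_sup_left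
  have hMS : M ≤ S := le_sup_right
  have hMH : M ≤ H := hMF.trans (fittingOf_le H)
  have hMsolv : Group.IsSolvable ↥M := by
    have : Group.IsNilpotent ↥F := isNilpotent_fittingOf H
    exact Cfsg.Agent.Lib.Helper24_CoprimeAction.isSolvable_of_le hMF inferInstance
  have hSsolv : Group.IsSolvable ↥S :=
    Cfsg.Agent.Lib.Helper22_Basic.isSolvable_sup_of_le_normalizer R M hMR hR hMsolv
  set Zp := zpart p H with hZp
  set Zr := zpart r H with hZr
  have hZpM : Zp ≤ M := zpart_le_of_le hMF hCM p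
  have hZrM : Zr ≤ M := zpart_le_of_le hMF hCM r
  have hZpS : Zp ≤ S := hZpM.trans hMS
  have hZrS : Zr ≤ S := hZrM.trans hMS
  have hQS : Q ≤ S := hQR.trans hRS
  have hqp : q ≠ p := by rintro rfl; exact hqn hpn
  have hqr : q ≠ r := by rintro rfl; exact hqn hrn
  have hZp1 : Zp ≠ ⊥ := zpart_ne_bot H hpn
  have hZr1 : Zr ≠ ⊥ := zpart_ne_bot H hrn
  have hCZp : centralizer (Zp : Set G) ≤ H :=
    centralizer_le_of_maxLocal hmax hp.out (zpart_isPGroup p H) hZp1 (le_normalizer_zpart p H)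
  have hCZr : centralizer (Zr : Set G) ≤ H :=
    centralizer_le_of_maxLocal hmax hr.out (zpart_isPGroup r H) hZr1 (le_normalizer_zpart r H)
  have hZpp : IsPGroup p ↥(Zp.subgroupOf S) := (zpart_isPGroup p H).comap_subtype
  have hZrr : IsPGroup r ↥(Zr.subgroupOf S) := (zpart_isPGroup r H).comap_subtype
  have hQq : IsPGroup q ↥(Q.subgroupOf S) := hQ.comap_subtype
  refine le_pPrimeCore_of_pxq p (Zp.subgroupOf S) (Zr.subgroupOf S) (Q.subgroupOf S) hZpp
    (coprime_of_isPGroup hr.out hp.out hrp hZrr) ?_ ?_ ?_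
    (coprime_of_isPGroup_of_isPGroup hr.out hq.out hqr.symm hZrr hQq) ?_ ?_
  · -- `Zp` and `Zr` commute
    intro a ha b hb
    rw [mem_subgroupOf] at ha hb
    apply Subtype.ext
    exact (mem_centralizer_iff.mp hb.2.1 (a : G) ha.1)
  · -- `p ∤ |Q|`
    intro hdvd
    have h1 := coprime_of_isPGroup hq.out hp.out hqp hQq
    have h2 : p ∣ 1 := by
      have := Nat.dvd_gcd hdvd (dvd_refl p)
      rwa [h1] at this
    exact hp.out.one_lt.ne' (Nat.dvd_one.mp h2)
  · -- `Zr` normalizes `Q`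
    intro b hb
    rw [mem_subgroupOf] at hb
    exact mem_normalizer_subgroupOf b (hMQ (hZrM hb))
  · -- `C_Q(Zr) = 1`
    rw [eq_bot_iff]
    intro s hs
    rw [mem_bot]
    have hD : Q ⊓ centralizer (Zr : Set G) = ⊥ := by
      apply eq_bot_of_invariant hMF hCM hR hXR (inf_le_right.trans hCZr) (inf_le_left.trans hQR)
      · apply le_normalizer_inf' hMQ
        intro m hm
        exact Cfsg.Agent.Lib.Helper22_BGTransUp.normalizer_le_normalizer_centralizer _
          (le_normalizer_zpart r H (hMH hm))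
      · have h1 : (Nat.card ↥(Q ⊓ centralizer (Zr : Set G) : Subgroup G)) ∣ Nat.card Q :=
          Subgroup.card_dvd_of_le inf_le_left
        obtain ⟨k, hk⟩ := hQ.exists_card_eq
        rw [hk] at h1
        refine Nat.Coprime.coprime_dvd_left h1 (Nat.Coprime.pow_left k ?_)
        exact (Nat.Prime.coprime_iff_not_dvd hq.out).mpr hqn
    have hsG : (s : G) ∈ Q ⊓ centralizer (Zr : Set G) := by
      refine Subgroup.mem_inf.mpr ⟨mem_subgroupOf.mp hs.1, ?_⟩
      rw [mem_centralizer_iff]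
      intro b hb
      have := mem_centralizer_iff.mp hs.2 ⟨b, hZrS hb⟩ (mem_subgroupOf.mpr hb)
      exact congrArg Subtype.val this
    rw [hD, mem_bot] at hsG
    exact Subtype.ext hsG
  · -- the key hypothesis
    intro y hyK hyZ b hb
    rw [mem_subgroupOf] at hb
    have hyH : (y : G) ∈ H := by
      apply hCZp
      rw [mem_centralizer_iff]
      intro a ha
      have := hyZ ⟨a, hZpS ha⟩ (mem_subgroupOf.mpr ha)
      exact congrArg Subtype.val this
    have hcZr : ⁅(b : G), (y : G)⁆ ∈ Zr := by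
      have : ⁅(b : G), (y : G)⁆ = (b : G) * ((y : G) * (b : G)⁻¹ * (y : G)⁻¹) := by
        rw [commutatorElement_def]; group
      rw [this]
      exact Zr.mul_mem hb ((mem_normalizer_iff.mp (le_normalizer_zpart r H hyH) _).mp (Zr.inv_mem hb))
    have hcK : ⁅b, y⁆ ∈ pPrimePCore p ↥S := by
      have hKc : (pPrimePCore p ↥S).Characteristic :=
        Cfsg.Agent.Lib.Helper22_QConstraint.pPrimePCore_char (X := ↥S) p
      have hKn : (pPrimePCore p ↥S).Normal := inferInstance
      have : ⁅b, y⁆ = (b * y * b⁻¹) * y⁻¹ := by rw [commutatorElement_def]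
      rw [this]
      exact mul_mem (hKn.conj_mem y hyK b) (inv_mem hyK)
    have hle : zpowers ⁅b, y⁆ ≤ pPrimePCore p ↥S := by
      rw [zpowers_le]; exact hcK
    have hnd : ¬ p ∣ Nat.card (zpowers ⁅b, y⁆) := by
      rw [Nat.card_zpowers]
      have h1 : orderOf ⁅b, y⁆ = orderOf ⁅(b : G), (y : G)⁆ := by
        rw [← Subgroup.orderOf_coe]
        rfl
      rw [h1]
      intro hdvd
      have h2 : orderOf ⁅(b : G), (y : G)⁆ ∣ Nat.card Zr := Subgroup.orderOf_dvd_natCard Zr hcZr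
      have h3 : (Nat.card Zr).Coprime p := coprime_of_isPGroup hr.out hp.out hrp (zpart_isPGroup r H)
      have h4 : p ∣ 1 := by
        have := Nat.dvd_gcd (hdvd.trans h2) (dvd_refl p)
        rwa [h3] at this
      exact hp.out.one_lt.ne' (Nat.dvd_one.mp h4)
    exact Cfsg.Agent.Lib.Helper22_QConstraint.le_pPrimeCore_of_le_pPrimePCore p hle hnd
      (mem_zpowers _)

/-- From the `p'`-cores of `RM` to the `π'`-core of `R`. -/
theorem le_piCoreOf_of_forall {M R Q : Subgroup G} (hMR : M ≤ normalizer (R : Set G)) (n : ℕ)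
    (hMn : Nat.card M ∣ n) (hQR : Q ≤ R)
    (h : ∀ p : ℕ, p.Prime → p ∣ n → Q.subgroupOf (R ⊔ M) ≤ pPrimeCore p ↥(R ⊔ M)) :
    Q ≤ piCoreOf (primesNotDvd n) R := by
  set S := R ⊔ M with hS
  have hRS : R ≤ S := le_sup_left
  set N'' : Subgroup ↥S := ⨅ p : {p : ℕ // p.Prime ∧ p ∣ n}, pPrimeCore p.1 ↥S with hN''
  have hN''n : N''.Normal := Subgroup.normal_iInf_normal (fun p => inferInstance)
  set N' := N''.map S.subtype with hN'
  have hcard : Nat.card N' = Nat.card N'' := Subgroup.card_map_of_injective S.subtype_injective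
  have hQN : Q ≤ N' := by
    intro x hx
    refine ⟨⟨x, hRS (hQR hx)⟩, ?_, rfl⟩
    rw [SetLike.mem_coe, hN'', Subgroup.mem_iInf]
    intro p
    exact h p.1 p.2.1 p.2.2 (mem_subgroupOf.mpr hx)
  have hSN : S ≤ normalizer (N' : Set G) := le_normalizer_map_subtype N''
  have hprimes : ∀ t : ℕ, t.Prime → t ∣ Nat.card N' → t ∈ primesNotDvd n := by
    intro t ht htd
    refine ⟨ht, fun htn => ?_⟩
    have h1 : N'' ≤ pPrimeCore t ↥S := iInf_le (fun p : {p : ℕ // p.Prime ∧ p ∣ n} => pPrimeCore p.1 ↥S) ⟨t, ht, htn⟩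
    have h2 : Nat.card N'' ∣ Nat.card (pPrimeCore t ↥S) := Subgroup.card_dvd_of_le h1
    have h3 : (Nat.card (pPrimeCore t ↥S)).Coprime t := pPrimeCore_card_coprime t
    rw [hcard] at htd
    have h4 : t ∣ 1 := by
      have := Nat.dvd_gcd (htd.trans h2) (dvd_refl t)
      rwa [h3] at this
    exact ht.one_lt.ne' (Nat.dvd_one.mp h4)
  have hcop : n.Coprime (Nat.card N') := coprime_of_primesNotDvd hprimes
  have hNR : N' ≤ R := by
    intro x hx
    have hxS : x ∈ S := by
      obtain ⟨y, _, rfl⟩ := hx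
      exact y.2
    obtain ⟨ρ, hρ, m, hm, rfl⟩ := Cfsg.Agent.Lib.Helper24_CoprimeAction.exists_mul_of_mem_sup M R hMR hxS
    have key : ∀ k : ℕ, ∃ ρk ∈ R, (ρ * m) ^ k = ρk * m ^ k := by
      intro k
      induction k with
      | zero => exact ⟨1, R.one_mem, by simp⟩
      | succ k ih =>
        obtain ⟨ρk, hρk, hk⟩ := ih
        have hmk : m ^ k ∈ normalizer (R : Set G) := hMR (M.pow_mem hm k)
        refine ⟨ρk * (m ^ k * ρ * (m ^ k)⁻¹), R.mul_mem hρk ((mem_normalizer_iff.mp hmk ρ).mp hρ), ?_⟩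
        rw [pow_succ, hk, pow_succ]
        group
    obtain ⟨ρd, hρd, hd⟩ := key (Nat.card M)
    have hmd : m ^ Nat.card M = 1 := by
      have : (⟨m, hm⟩ : M) ^ Nat.card M = 1 := pow_card_eq_one'
      have := congrArg Subtype.val this
      rwa [Subgroup.coe_pow] at this
    rw [hmd, mul_one] at hd
    have hcop2 : (Nat.card M).Coprime (orderOf (ρ * m)) := by
      have h1 : orderOf (ρ * m) ∣ Nat.card N' := Subgroup.orderOf_dvd_natCard N' hx
      exact Nat.Coprime.coprime_dvd_left hMn (Nat.Coprime.coprime_dvd_right h1 hcop)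
    obtain ⟨j, hj⟩ := exists_pow_eq_self_of_coprime hcop2
    rw [← hj, hd]
    exact R.pow_mem hρd j
  exact hQN.trans (le_piCoreOf hNR (hRS.trans hSN) hprimes)

/-- **Invariant `q`-subgroups lie in `O_{π'}(R)`.** -/
theorem le_piCoreOf_of_invariant {H M R Q : Subgroup G}
    (hmax : ∀ L : Subgroup G, IsLocalSubgroup L → H ≤ L → L = H)
    (hF2 : 2 ≤ (Nat.card (fittingOf H)).primeFactors.card)
    (hMF : M ≤ fittingOf H) (hCM : fittingOf H ⊓ centralizer (M : Set G) ≤ M)
    (hR : Group.IsSolvable ↥R) (hMR : M ≤ normalizer (R : Set G))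
    (hXR : H ⊓ centralizer (fittingOf H : Set G) ≤ normalizer (R : Set G))
    {q : ℕ} [hq : Fact q.Prime] (hqn : ¬ q ∣ Nat.card (fittingOf H)) (hQ : IsPGroup q Q) (hQR : Q ≤ R)
    (hMQ : M ≤ normalizer (Q : Set G)) :
    Q ≤ piCoreOf (primesNotDvd (Nat.card (fittingOf H))) R := by
  apply le_piCoreOf_of_forall hMR _ (Subgroup.card_dvd_of_le hMF) hQR
  intro p hp hpn
  have : Fact p.Prime := ⟨hp⟩
  -- another prime
  obtain ⟨r, hr, hrp⟩ : ∃ r ∈ (Nat.card (fittingOf H)).primeFactors, r ≠ p := by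
    by_contra hcon
    push Not at hcon
    have : (Nat.card (fittingOf H)).primeFactors ⊆ {p} := by
      intro r hr
      rw [Finset.mem_singleton]
      exact hcon r hr
    have := Finset.card_le_card this
    rw [Finset.card_singleton] at this
    omega
  have hrP : r.Prime := Nat.prime_of_mem_primeFactors hr
  have : Fact r.Prime := ⟨hrP⟩
  exact subgroupOf_le_pPrimeCore hmax hMF hCM hR hMR hXR hpn (Nat.dvd_of_mem_primeFactors hr) hrp hqn hQ hQR hMQ

end Cfsg.Agent.Lib.Helper22_FitLocal
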