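import Cfsg.Agent.Lib.Helper49_MaxSubC
import Cfsg.Agent.Lib.Helper22_BGTransUp
import Cfsg.Agent.Lib.Helper22_BGTransRank
import Cfsg.Agent.Lib.Helper22_FitLocal3
import Cfsg.Agent.Lib.Helper1_Thompson
import Cfsg.Agent.Lib.Helper55_Fitting
import Cfsg.Agent.S0025

/-!
# Uniqueness subgroups from the Fitting subgroup of a maximal subgroup (helper49)

Tools for Bender–Glauberman Theorem 8.1 in a minimal simple group of odd order.

* `le_of_unique_max`, `normalizer_le_of_unique_max`, `le_normalizer_of_unique_max_nilpotent`: if the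
  maximal `A`-invariant `q`-subgroups all coincide with `Q`, then every subgroup `B ≥ A` normalizing `Q` has
  `N_G(B) ≤ N_G(Q)`, and every nilpotent overgroup of `A` normalizes `Q`;
* `unique_max_eq_bot`: in that situation, if `A ≤ F(M)` with `M` maximal and `q ∤ |F(M)|`, then `Q = 1`;
* `isLocal_of_coatom`, `maxLocal_of_coatom`: a maximal subgroup is a maximal local subgroup;
* `piCoreOf_fitting_eq_bot`: `O_{π(F(M))'}(M) = 1` for solvable `M`;
* `transitivityHypothesis_of_forall`: the transitivity hypothesis from its `q`-subgroup form;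
* `eq_bot_of_forall_prime`: no invariant `q`-subgroups gives no invariant `π'`-subgroups.
-/

set_option autoImplicit false

namespace Cfsg.Agent.Lib.Helper49_FitUniq

open Subgroup Cfsg Cfsg.Agent.Lib.Helper22_BGTrans Cfsg.Agent.Lib.Helper22_FitLocal
  Cfsg.Agent.Lib.Helper22_Radical

variable {G : Type*} [Group G]

/-! ### a unique maximal invariant `q`-subgroup -/

section Unique

variable [Finite G]

/-- if `Q` is the only maximal `A`-invariant `q`-subgroup, every `A`-invariant `q`-subgroup lies in `Q` -/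
theorem le_of_unique_max {A Q : Subgroup G} {q : ℕ} (hq : q.Prime)
    (huniq : ∀ Q' ∈ maxInvSubgroups ⊤ A {q}, Q' = Q) {R : Subgroup G} (hR : IsPGroup q R)
    (hAR : A ≤ normalizer (R : Set G)) : R ≤ Q := by
  obtain ⟨Q', hQ', hRQ'⟩ := exists_max_ge hq hR hAR
  rw [huniq Q' hQ'] at hRQ'
  exact hRQ'

/-- if `B ≥ A` normalizes the only maximal `A`-invariant `q`-subgroup `Q`, so does `N_G(B)` -/
theorem normalizer_le_of_unique_max {A B Q : Subgroup G} {q : ℕ} (hq : q.Prime) (hQq : IsPGroup q Q)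
    (huniq : ∀ Q' ∈ maxInvSubgroups ⊤ A {q}, Q' = Q) (hAB : A ≤ B)
    (hBQ : B ≤ normalizer (Q : Set G)) :
    normalizer (B : Set G) ≤ normalizer (Q : Set G) := by
  intro g hg
  apply Cfsg.Agent.Lib.Helper22_BGTransUp.mem_normalizer_of_cj_eq
  have h1 : B ≤ normalizer ((cj g Q : Subgroup G) : Set G) := by
    rw [normalizer_cj]
    have h2 : cj g B = B := cj_eq_of_mem_normalizer hg
    rw [← h2]
    exact cj_mono hBQ
  have h3 : cj g Q ≤ Q := le_of_unique_max hq huniq (hQq.map _) (hAB.trans h1)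
  exact Subgroup.eq_of_le_of_card_ge h3 (by rw [card_cj])

omit [Finite G] in
/-- normalizers grow in nilpotent subgroups -/
theorem normalizer_growth_nilpotent {F D : Subgroup G} (hnil : Group.IsNilpotent ↥F) (hDF : D ≤ F)
    (hne : ¬ F ≤ D) : ¬ (normalizer (D : Set G) ⊓ F ≤ D) := by
  intro hle
  have hlt : D.subgroupOf F < ⊤ := by
    rw [lt_top_iff_ne_top, Ne, Subgroup.subgroupOf_eq_top]
    exact hne
  have hlt2 := Group.normalizerCondition_of_isNilpotent (D.subgroupOf F) hlt
  obtain ⟨x, hxN, hxD⟩ := SetLike.exists_of_lt hlt2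
  apply hxD
  rw [Subgroup.mem_subgroupOf]
  apply hle
  refine Subgroup.mem_inf.mpr ⟨?_, x.2⟩
  rw [Subgroup.mem_normalizer_iff] at hxN ⊢
  intro h
  constructor
  · intro hh
    have := (hxN ⟨h, hDF hh⟩).mp (by rw [Subgroup.mem_subgroupOf]; exact hh)
    rw [Subgroup.mem_subgroupOf] at this
    exact this
  · intro hh
    have hhF : h ∈ F := by
      have h1 : (x : G)⁻¹ * ((x : G) * h * (x : G)⁻¹) * (x : G) ∈ F :=
        mul_mem (mul_mem (inv_mem x.2) (hDF hh)) x.2
      have h2 : (x : G)⁻¹ * ((x : G) * h * (x : G)⁻¹) * (x : G) = h := by group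
      rwa [h2] at h1
    have := (hxN ⟨h, hhF⟩).mpr (by rw [Subgroup.mem_subgroupOf]; exact hh)
    rw [Subgroup.mem_subgroupOf] at this
    exact this

/-- a nilpotent overgroup of `A` normalizes the only maximal `A`-invariant `q`-subgroup -/
theorem le_normalizer_of_unique_max_nilpotent {A F Q : Subgroup G} {q : ℕ} (hq : q.Prime)
    (hQq : IsPGroup q Q) (huniq : ∀ Q' ∈ maxInvSubgroups ⊤ A {q}, Q' = Q) (hAF : A ≤ F)
    (hnil : Group.IsNilpotent ↥F) (hAQ : A ≤ normalizer (Q : Set G)) :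
    F ≤ normalizer (Q : Set G) := by
  by_contra hcon
  have hne : ¬ F ≤ F ⊓ normalizer (Q : Set G) := fun h => hcon (h.trans inf_le_right)
  apply normalizer_growth_nilpotent hnil inf_le_left hne
  intro x hx
  obtain ⟨hx1, hx2⟩ := Subgroup.mem_inf.mp hx
  refine Subgroup.mem_inf.mpr ⟨hx2, ?_⟩
  exact normalizer_le_of_unique_max hq hQq huniq (le_inf hAF hAQ) inf_le_right hx1

/-- In a minimal simple group of odd order: if all maximal `A`-invariant `q`-subgroups coincide, `A ≤ F(M)`
for a maximal subgroup `M` and `q ∤ |F(M)|`, then `A` normalizes no nontrivial `q`-subgroup. -/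
theorem unique_max_eq_bot (hG : IsMinSimpleOddOrder G) {M : Subgroup G} (hM : IsCoatom M)
    {A Q : Subgroup G} {q : ℕ} [hq : Fact q.Prime] (hQ : Q ∈ maxInvSubgroups ⊤ A {q})
    (huniq : ∀ Q' ∈ maxInvSubgroups ⊤ A {q}, Q' = Q) (hAF : A ≤ fittingOf M)
    (hqF : ¬ q ∣ Nat.card (fittingOf M)) : Q = ⊥ := by
  obtain ⟨hQq, hAQ⟩ := (mem_invSubgroups_top hq.out).mp hQ.1
  have h1 : fittingOf M ≤ normalizer (Q : Set G) :=
    le_normalizer_of_unique_max_nilpotent hq.out hQq huniq hAF (isNilpotent_fittingOf M) hAQ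
  have h2 : M ≤ normalizer (Q : Set G) :=
    (le_normalizer_fittingOf M).trans (normalizer_le_of_unique_max hq.out hQq huniq hAF h1)
  by_contra hne
  have h3 : normalizer (Q : Set G) ≠ ⊤ :=
    normalizer_ne_top hG hne (ne_top_of_isPGroup hG hq.out hQq)
  have h4 : normalizer (Q : Set G) = M := by
    by_contra hcon
    exact h3 (hM.2 _ (lt_of_le_of_ne h2 (Ne.symm hcon)))
  have h5 : Q ≤ M := by
    rw [← h4]; exact Subgroup.le_normalizer
  have h6 : Q ≤ pCoreOf q M := Cfsg.Agent.Lib.Helper49_CharP.le_pCoreOf h5 hQq h2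
  rw [Cfsg.Agent.Lib.Helper49_MaxSub.pCoreOf_eq_bot_of_not_dvd q M hqF] at h6
  exact hne (le_bot_iff.mp h6)

end Unique

/-! ### maximal subgroups are maximal local subgroups -/

theorem isLocal_of_coatom [Finite G] (hG : IsMinSimpleOddOrder G) {M : Subgroup G} (hM : IsCoatom M)
    {r : ℕ} [hr : Fact r.Prime] (hrF : r ∣ Nat.card (fittingOf M)) : IsLocalSubgroup M := by
  have hZ1 : zpart r M ≠ ⊥ := zpart_ne_bot M hrF
  refine ⟨r, zpart r M, hr.out, zpart_isPGroup r M, hZ1, ?_⟩
  exact (Cfsg.Agent.Lib.Helper49_MaxSub.normalizer_eq_of_coatom hG hM hZ1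
    (Cfsg.Agent.Lib.Helper49_MaxSub.zpart_le r M) (le_normalizer_zpart r M)).symm

theorem maxLocal_of_coatom [Finite G] (hG : IsMinSimpleOddOrder G) {M : Subgroup G} (hM : IsCoatom M) :
    ∀ L : Subgroup G, IsLocalSubgroup L → M ≤ L → L = M := by
  rintro L ⟨p, T, hp, hT, hT1, rfl⟩ hML
  have h3 : normalizer (T : Set G) ≠ ⊤ := normalizer_ne_top hG hT1 (ne_top_of_isPGroup hG hp hT)
  by_contra hcon
  exact h3 (hM.2 _ (lt_of_le_of_ne hML (Ne.symm hcon)))

/-! ### `O_{π(F(M))'}(M) = 1` -/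

theorem piCoreOf_fitting_eq_bot [Finite G] (M : Subgroup G) (hs : Group.IsSolvable ↥M) :
    piCoreOf (primesNotDvd (Nat.card (fittingOf M))) M = ⊥ := by
  set π' := primesNotDvd (Nat.card (fittingOf M)) with hπ'
  have hcardF : Nat.card (fittingOf M) = Nat.card (fittingSubgroup ↥M) :=
    Subgroup.card_map_of_injective M.subtype_injective
  have hNn : (piCore π' ↥M).Normal := inferInstance
  have hFn : (fittingSubgroup ↥M).Normal := Cfsg.Agent.Lib.Helper1_Cores.fittingSubgroup_normal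
  have hcop : (Nat.card (piCore π' ↥M)).Coprime (Nat.card (fittingSubgroup ↥M)) := by
    rw [← hcardF]
    exact (coprime_of_primesNotDvd
      (fun p hp hpd => Cfsg.Agent.Lib.Helper32_Cores.card_piCore π' p hp hpd)).symm
  have hdisj : Disjoint (piCore π' ↥M) (fittingSubgroup ↥M) :=
    Subgroup.disjoint_of_coprime_natCard hcop
  have hcent : piCore π' ↥M ≤ centralizer ((fittingSubgroup ↥M : Subgroup ↥M) : Set ↥M) := by
    intro x hx
    rw [mem_centralizer_iff]
    intro y hy
    exact (Subgroup.commute_of_normal_of_disjoint _ _ hNn hFn hdisj x y hx hy).eq.symm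
  have hle : piCore π' ↥M ≤ fittingSubgroup ↥M :=
    hcent.trans Cfsg.Agent.Lib.Helper55_Fitting.centralizer_fittingSubgroup_le
  have hbot : piCore π' ↥M = ⊥ := by
    rw [eq_bot_iff]
    intro x hx
    exact hdisj.le_bot ⟨hx, hle hx⟩
  unfold piCoreOf
  rw [hbot, Subgroup.map_bot]

/-! ### invariant Sylow subgroups -/

theorem le_normalizer_bot (A : Subgroup G) : A ≤ normalizer (((⊥ : Subgroup G) : Subgroup G) : Set G) := by
  intro m _
  rw [mem_normalizer_iff]
  intro x
  simp

/-- The transitivity hypothesis from its form for `q`-subgroups. -/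
theorem transitivityHypothesis_of_forall [Finite G] {A : Subgroup G} (hA1 : A ≠ ⊥) (hA2 : A ≠ ⊤)
    (hAs : Group.IsSolvable ↥A)
    (h : ∀ X : Subgroup G, X ≠ ⊤ → A ≤ X → ∀ (q : ℕ) [Fact q.Prime], ¬ q ∣ Nat.card A →
      ∀ Q : Subgroup G, IsPGroup q Q → Q ≤ X → A ≤ normalizer (Q : Set G) →
        Q ≤ piCoreOf (primesNotDvd (Nat.card A)) X) :
    TransitivityHypothesis A := by
  refine ⟨hA1, hA2, ?_⟩
  intro X hX hAX
  set π' := primesNotDvd (Nat.card A) with hπ'
  apply le_antisymm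
  · apply sSup_le
    rintro Y ⟨hYX, hYπ, hAY⟩
    set W := piCoreOf π' X with hW
    have hcop : (Nat.card A).Coprime (Nat.card Y) := coprime_of_primesNotDvd hYπ
    have key : W.subgroupOf Y = ⊤ := by
      apply Cfsg.Agent.Lib.Helper1_Thompson.eq_top_of_forall_sylow_le
      intro q hq
      have hqF : Fact q.Prime := ⟨hq⟩
      by_cases hqA : q ∣ Nat.card A
      · obtain ⟨P⟩ : Nonempty (Sylow q ↥Y) := inferInstance
        refine ⟨P, ?_⟩
        have hP1 : (P : Subgroup ↥Y) = ⊥ := by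
          rcases P.isPGroup'.card_eq_or_dvd with h1 | h1
          · exact Subgroup.card_eq_one.mp h1
          · exfalso
            have h2 : q ∣ Nat.card Y := h1.trans (Subgroup.card_subgroup_dvd_card _)
            exact hq.one_lt.ne' (Nat.eq_one_of_dvd_coprimes hcop hqA h2)
        rw [hP1]
        exact bot_le
      · obtain ⟨P, -, hAP⟩ := Cfsg.Agent.S0025.result A Y hAY hcop (Or.inl hAs) q ⊥ bot_le
          IsPGroup.of_bot (le_normalizer_bot A)
        refine ⟨P, ?_⟩
        have h1 : (P : Subgroup ↥Y).map Y.subtype ≤ W :=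
          h X hX hAX q hqA _ (P.isPGroup'.map _) ((Subgroup.map_subtype_le _).trans hYX) hAP
        intro y hy
        rw [mem_subgroupOf]
        exact h1 ⟨y, hy, rfl⟩
    intro y hy
    have h2 : (⟨y, hy⟩ : ↥Y) ∈ W.subgroupOf Y := by
      rw [key]; exact mem_top _
    rw [mem_subgroupOf] at h2
    exact h2
  · apply le_sSup
    exact ⟨piCoreOf_le π' X, piCoreOf_primes π' X, hAX.trans (le_normalizer_piCoreOf π' X)⟩

/-- If `A` normalizes no nontrivial `q`-subgroup for the primes `q` dividing `|Y|`, and acts coprimely on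
`Y`, then `Y = 1`. -/
theorem eq_bot_of_forall_prime [Finite G] {A Y : Subgroup G} (hAs : Group.IsSolvable ↥A)
    (hAY : A ≤ normalizer (Y : Set G)) (hcop : (Nat.card A).Coprime (Nat.card Y))
    (h : ∀ (q : ℕ) [Fact q.Prime], q ∣ Nat.card Y → ∀ Q : Subgroup G, IsPGroup q Q →
      A ≤ normalizer (Q : Set G) → Q = ⊥) : Y = ⊥ := by
  by_contra hne
  have hcard : Nat.card Y ≠ 1 := fun h1 => hne (Subgroup.card_eq_one.mp h1)
  obtain ⟨q, hq, hqd⟩ := Nat.exists_prime_and_dvd hcard
  have hqF : Fact q.Prime := ⟨hq⟩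
  obtain ⟨P, -, hAP⟩ := Cfsg.Agent.S0025.result A Y hAY hcop (Or.inl hAs) q ⊥ bot_le
    IsPGroup.of_bot (le_normalizer_bot A)
  have h1 := h q hqd _ (P.isPGroup'.map _) hAP
  have h2 : (P : Subgroup ↥Y) = ⊥ :=
    (Subgroup.map_eq_bot_iff_of_injective _ Y.subtype_injective).mp h1
  have h3 := P.not_dvd_index
  rw [h2, Subgroup.index_bot] at h3
  exact h3 hqd

end Cfsg.Agent.Lib.Helper49_FitUniq
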