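import Cfsg.Prelude.Def_Local
import Cfsg.Agent.Lib.Helper22_Radical
import Cfsg.Agent.Lib.Helper22_Basic

/-!
`p'`-core and `p`-core versus subnormal subgroups (helper22).
-/

set_option autoImplicit false

namespace Cfsg.Agent.Lib.Helper22_Cores

open Subgroup Cfsg
open Cfsg.Agent.Lib.Helper22_Radical Cfsg.Agent.Lib.Helper22_Basic

variable {G : Type*} [Group G]

/-- the property "order prime to p" -/
abbrev PPrime (p : ℕ) (N : Subgroup G) : Prop := (Nat.card N).Coprime p

theorem radical_pPrime (p : ℕ) : radical (PPrime (G := G) p) = pPrimeCore p G := rfl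

theorem pPrime_bot (p : ℕ) : PPrime (G := G) p ⊥ := by
  unfold PPrime
  rw [Subgroup.card_bot]
  exact Nat.coprime_one_left p

theorem pPrime_conj (p : ℕ) (N : Subgroup G) (k : G) (h : PPrime p N) : PPrime p (cj k N) := by
  unfold PPrime at h ⊢
  have : Nat.card (cj k N) = Nat.card N :=
    Subgroup.card_map_of_injective (MulAut.conj k).injective
  rw [this]; exact h

theorem pPrime_sup (p : ℕ) (M N : Subgroup G) (h1 : N ≤ normalizer (M : Set G)) (_h2 : M ≤ normalizer (N : Set G))
    (hM : PPrime p M) (hN : PPrime p N) : PPrime p (M ⊔ N) := by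
  unfold PPrime at hM hN ⊢
  exact Nat.Coprime.coprime_dvd_left (card_sup_dvd_of_le_normalizer M N h1) (Nat.Coprime.mul_left hM hN)

/-- `O_{p'}(G)` has order prime to `p` (finite `G`). -/
theorem pPrimeCore_coprime [Finite G] (p : ℕ) : (Nat.card (pPrimeCore p G)).Coprime p := by
  have := (radicalIn_mem (PPrime (G := G) p) (pPrime_bot p) (pPrime_sup p) ⊤).2
  rw [radicalIn_top] at this
  exact this

/-- A subnormal subgroup of order prime to `p` lies in `O_{p'}(G)`. -/
theorem le_pPrimeCore_of_isSubnormal [Finite G] (p : ℕ) {H : Subgroup G} (hH : H.IsSubnormal)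
    (hp : (Nat.card H).Coprime p) : H ≤ pPrimeCore p G :=
  le_radical_of_isSubnormal_self (PPrime (G := G) p) (pPrime_bot p) (pPrime_conj p) (pPrime_sup p) hH hp

/-- A subgroup of order prime to `p` normalized by a subnormal subgroup containing it lies in `O_{p'}(G)`. -/
theorem le_pPrimeCore_of_le_isSubnormal [Finite G] (p : ℕ) {H : Subgroup G} (hH : H.IsSubnormal)
    {N : Subgroup G} (hNH : N ≤ H) (hHN : H ≤ normalizer (N : Set G)) (hp : (Nat.card N).Coprime p) :
    N ≤ pPrimeCore p G :=
  le_radical_of_isSubnormal (PPrime (G := G) p) (pPrime_bot p) (pPrime_conj p) (pPrime_sup p) hH hNH hHN hp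

/-- subgroups of `O_{p'}(G)` have order prime to `p` -/
theorem coprime_of_le_pPrimeCore [Finite G] (p : ℕ) {N : Subgroup G} (h : N ≤ pPrimeCore p G) :
    (Nat.card N).Coprime p :=
  Nat.Coprime.coprime_dvd_left (Subgroup.card_dvd_of_le h) (pPrimeCore_coprime p)

/-- For a subnormal subgroup `H`, `O_{p'}(H) = H ∩ O_{p'}(G)` (inside `G`). -/
theorem map_pPrimeCore_of_isSubnormal [Finite G] (p : ℕ) {H : Subgroup G} (hH : H.IsSubnormal) :
    (pPrimeCore p ↥H).map H.subtype = H ⊓ pPrimeCore p G := by
  apply le_antisymm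
  · apply le_inf
    · exact Subgroup.map_subtype_le _
    · apply le_pPrimeCore_of_le_isSubnormal p hH (Subgroup.map_subtype_le _)
      · -- H normalizes the image of a normal subgroup of H
        intro h hh
        rw [mem_normalizer_iff]
        intro x
        constructor
        · rintro ⟨y, hy, rfl⟩
          refine ⟨⟨h, hh⟩ * y * ⟨h, hh⟩⁻¹, ?_, by simp⟩
          exact (inferInstance : (pPrimeCore p ↥H).Normal).conj_mem y hy ⟨h, hh⟩
        · rintro ⟨y, hy, hyx⟩
          have hx : x = h⁻¹ * (y : G) * h := by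
            have : (y : G) = h * x * h⁻¹ := hyx
            rw [this]; group
          refine ⟨⟨h, hh⟩⁻¹ * y * ⟨h, hh⟩, ?_, by rw [hx]; simp⟩
          have := (inferInstance : (pPrimeCore p ↥H).Normal).conj_mem y hy ⟨h, hh⟩⁻¹
          simpa using this
      · have : Nat.card ((pPrimeCore p ↥H).map H.subtype) = Nat.card (pPrimeCore p ↥H) :=
          Subgroup.card_map_of_injective H.subtype_injective
        rw [this]
        exact pPrimeCore_coprime p
  · intro x hx
    obtain ⟨hxH, hxO⟩ := hx
    refine ⟨⟨x, hxH⟩, ?_, rfl⟩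
    -- (H ⊓ O).subgroupOf H is a normal p'-subgroup of H
    have hle : (pPrimeCore p G).subgroupOf H ≤ pPrimeCore p ↥H := by
      apply le_sSup
      refine ⟨inferInstance, ?_⟩
      have h1 : Nat.card ((pPrimeCore p G).subgroupOf H) = Nat.card ↥(pPrimeCore p G ⊓ H) := by
        rw [← Subgroup.inf_subgroupOf_right]
        exact Nat.card_congr (Subgroup.subgroupOfEquivOfLe inf_le_right).toEquiv
      rw [h1]
      exact coprime_of_le_pPrimeCore p inf_le_left
    exact hle (Subgroup.mem_subgroupOf.mpr hxO)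

/-! ### the `p`-core -/

theorem isPGroup_conj (p : ℕ) (N : Subgroup G) (k : G) (h : IsPGroup p N) : IsPGroup p (cj k N) :=
  h.map _

theorem isPGroup_sup (p : ℕ) (M N : Subgroup G) (h1 : N ≤ normalizer (M : Set G)) (_h2 : M ≤ normalizer (N : Set G))
    (hM : IsPGroup p M) (hN : IsPGroup p N) : IsPGroup p ↥(M ⊔ N) := by
  rw [sup_comm]
  exact IsPGroup.to_sup_of_normal_right' hN hM h1

/-- A subnormal `p`-subgroup lies in `O_p(G)`. -/
theorem le_pCore_of_isSubnormal [Finite G] (p : ℕ) {H : Subgroup G} (hH : H.IsSubnormal)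
    (hp : IsPGroup p H) : H ≤ pCore p G :=
  le_radical_of_isSubnormal_self (fun N : Subgroup G => IsPGroup p N) IsPGroup.of_bot (isPGroup_conj p)
    (isPGroup_sup p) hH hp

/-- A `p`-subgroup normalized by a subnormal subgroup containing it lies in `O_p(G)`. -/
theorem le_pCore_of_le_isSubnormal [Finite G] (p : ℕ) {H : Subgroup G} (hH : H.IsSubnormal)
    {N : Subgroup G} (hNH : N ≤ H) (hHN : H ≤ normalizer (N : Set G)) (hp : IsPGroup p N) :
    N ≤ pCore p G :=
  le_radical_of_isSubnormal (fun N : Subgroup G => IsPGroup p N) IsPGroup.of_bot (isPGroup_conj p)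
    (isPGroup_sup p) hH hNH hHN hp

end Cfsg.Agent.Lib.Helper22_Cores
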