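import Cfsg.Agent.Lib.Helper23_Locals
import Cfsg.Agent.Lib.Helper22_Cores

/-!
`O_{p'}` of centralizers of `p`-subgroups in groups with trivial `p`-layer (helper22).

* `map_pPrimeCore_le_of_normal`: if `C ⊴ N` are subgroups of `H` then `O_{p'}(C) ≤ O_{p'}(N)`;
* `map_pPrimeCore_centralizer_le`: if `L_{p'}(H) = 1` and `P` is a `p`-subgroup then `O_{p'}(C_H(P)) ≤ O_{p'}(H)`;
* `pLayer_eq_bot_of_isSolvable`: solvable groups have trivial `p`-layer;
* `map_pPrimeCore_centralizer_singleton_le`: the case `P = ⟨a⟩`, in the solvable case.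
-/

set_option autoImplicit false

namespace Cfsg.Agent.Lib.Helper22_CoreCentralizer

open Subgroup Cfsg

variable {H : Type*} [Group H]

/-- if `c` normalizes `X` then it normalizes `X.subgroupOf N` inside `N` -/
theorem mem_normalizer_subgroupOf {N X : Subgroup H} (c : ↥N) (hc : (c : H) ∈ normalizer (X : Set H)) :
    c ∈ normalizer ((X.subgroupOf N : Subgroup ↥N) : Set ↥N) := by
  rw [mem_normalizer_iff]
  intro h
  rw [mem_subgroupOf, mem_subgroupOf]
  exact mem_normalizer_iff.mp hc (h : H)

/-- the image in `H` of a normal subgroup of `↥C` is normalized by `C` -/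
theorem le_normalizer_map_subtype {C : Subgroup H} (K : Subgroup ↥C) [K.Normal] :
    C ≤ normalizer ((K.map C.subtype : Subgroup H) : Set H) := by
  have h1 := Subgroup.le_normalizer_map (H := K) C.subtype
  rw [Subgroup.normalizer_eq_top, ← MonoidHom.range_eq_map, Subgroup.range_subtype] at h1
  exact h1

/-- If `C ⊴ N` are subgroups of `H` then `O_{p'}(C) ≤ O_{p'}(N)` (inside `H`). -/
theorem map_pPrimeCore_le_of_normal [Finite H] (p : ℕ) {C N : Subgroup H} (hCN : C ≤ N)
    (hn : (C.subgroupOf N).Normal) :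
    (pPrimeCore p ↥C).map C.subtype ≤ (pPrimeCore p ↥N).map N.subtype := by
  have hXN : (pPrimeCore p ↥C).map C.subtype ≤ N := (Subgroup.map_subtype_le _).trans hCN
  have hcn : (pPrimeCore p ↥C).Normal := Subgroup.sSup_normal _ (fun _ h => h.1)
  have key : ((pPrimeCore p ↥C).map C.subtype).subgroupOf N ≤ pPrimeCore p ↥N := by
    apply Cfsg.Agent.Lib.Helper22_Cores.le_pPrimeCore_of_le_isSubnormal p (H := C.subgroupOf N)
      (Subgroup.Normal.isSubnormal hn)
    · exact Subgroup.subgroupOf_mono N (Subgroup.map_subtype_le _)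
    · intro c hc
      apply mem_normalizer_subgroupOf
      exact le_normalizer_map_subtype (pPrimeCore p ↥C) (mem_subgroupOf.mp hc)
    · have h1 : Nat.card ↥(((pPrimeCore p ↥C).map C.subtype).subgroupOf N) =
          Nat.card ↥(pPrimeCore p ↥C) := by
        rw [Nat.card_congr (Subgroup.subgroupOfEquivOfLe hXN).toEquiv,
          Subgroup.card_map_of_injective C.subtype_injective]
      rw [h1]
      exact Cfsg.Agent.Lib.Helper22_Cores.pPrimeCore_coprime p
  rw [← Subgroup.map_subgroupOf_eq_of_le hXN]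
  exact Subgroup.map_mono key

/-- If `L_{p'}(H) = 1` and `P` is a `p`-subgroup then `O_{p'}(C_H(P)) ≤ O_{p'}(H)`. -/
theorem map_pPrimeCore_centralizer_le [Finite H] (p : ℕ) [Fact p.Prime] (hL : pLayer p H = ⊥)
    (P : Subgroup H) (hP : IsPGroup p ↥P) :
    (pPrimeCore p ↥(centralizer (P : Set H))).map (centralizer (P : Set H)).subtype ≤ pPrimeCore p H :=
  (map_pPrimeCore_le_of_normal p (centralizer_le_normalizer (P : Set H))
    (normal_subgroupOf_centralizer_normalizer (P : Set H))).trans
    (Cfsg.Agent.Lib.Helper23_Locals.local_of_pLayer_eq_bot p hL P hP).2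

/-- solvable groups have no components -/
theorem layer_eq_bot_of_isSolvable [Group.IsSolvable H] : layer H = ⊥ := by
  unfold layer
  rw [sSup_eq_bot]
  intro K hK
  exfalso
  have hK' : IsComponent K := hK
  exact Cfsg.Agent.Lib.Helper21_Components.IsComponent.not_le_of_isSolvable hK'
    (H := ⊤) inferInstance le_top

/-- solvable groups have trivial `p`-layer -/
theorem pLayer_eq_bot_of_isSolvable [Finite H] (p : ℕ) [Fact p.Prime] [Group.IsSolvable H] :
    pLayer p H = ⊥ := by
  rw [Cfsg.Agent.Lib.Helper23_PConstrained.pLayer_eq_bot_iff]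
  exact layer_eq_bot_of_isSolvable

/-- For solvable `H` and `a` of order dividing `p`: `O_{p'}(C_H(a)) ≤ O_{p'}(H)`. -/
theorem map_pPrimeCore_centralizer_singleton_le [Finite H] (p : ℕ) [Fact p.Prime] (hL : pLayer p H = ⊥)
    (a : H) (ha : a ^ p = 1) :
    (pPrimeCore p ↥(centralizer ({a} : Set H))).map (centralizer ({a} : Set H)).subtype ≤ pPrimeCore p H := by
  have hP : IsPGroup p ↥(zpowers a) := by
    rw [IsPGroup.iff_card, Nat.card_zpowers]
    have hd : orderOf a ∣ p ^ 1 := by
      rw [pow_one]; exact orderOf_dvd_of_pow_eq_one ha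
    obtain ⟨k, _, hk⟩ := (Nat.dvd_prime_pow (Fact.out : p.Prime)).mp hd
    exact ⟨k, hk⟩
  have hC : centralizer ({a} : Set H) = centralizer ((zpowers a : Subgroup H) : Set H) := by
    rw [Subgroup.zpowers_eq_closure, Subgroup.centralizer_closure]
  rw [hC]
  exact map_pPrimeCore_centralizer_le p hL (zpowers a) hP

end Cfsg.Agent.Lib.Helper22_CoreCentralizer
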