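import Cfsg.Prelude.Def_Local
import Cfsg.Agent.Lib.Helper22_Cores
import Cfsg.Agent.Lib.Helper21_Components

/-!
Basic facts on `p`-components (helper22): subnormal, perfect, order divisible by `p`, minimality.
-/

set_option autoImplicit false

namespace Cfsg.Agent.Lib.Helper22_PComponent

open Subgroup Cfsg
open Cfsg.Agent.Lib.Helper22_Cores Cfsg.Agent.Lib.Helper21_Components

variable {X : Type*} [Group X]

/-- a subgroup which is quasisimple as a group is perfect as a subgroup -/
theorem commutator_eq_self_of_isQuasisimple {L : Subgroup X} (hL : IsQuasisimple ↥L) : ⁅L, L⁆ = L :=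
  Subgroup.isPerfect_iff.mp hL.1

theorem ne_bot_of_isQuasisimple {L : Subgroup X} (hL : IsQuasisimple ↥L) : L ≠ ⊥ := by
  intro h
  have hnt : Nontrivial (↥L ⧸ Subgroup.center ↥L) := hL.2.toNontrivial
  have : Subsingleton ↥L := by rw [h]; infer_instance
  have : Subsingleton (↥L ⧸ Subgroup.center ↥L) := inferInstance
  exact not_subsingleton _ this

/-- a subnormal subgroup of `X` inside a quasisimple subgroup `L` which is perfect is trivial or all of `L` -/
theorem eq_bot_or_eq_of_le_isQuasisimple {L H : Subgroup X} (hL : IsQuasisimple ↥L) (hH : H.IsSubnormal)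
    (hHL : H ≤ L) (hperf : ⁅H, H⁆ = H) : H = ⊥ ∨ H = L := by
  have hsn : (H.subgroupOf L).IsSubnormal := hH.subgroupOf
  rcases IsQuasisimple.subnormal_eq_top_or_le_center hL _ hsn with h | h
  · right
    exact le_antisymm hHL (Subgroup.subgroupOf_eq_top.mp h)
  · left
    have hcomm : ⁅H, H⁆ = ⊥ := by
      rw [Subgroup.commutator_eq_bot_iff_le_centralizer]
      intro a ha
      rw [Subgroup.mem_centralizer_iff]
      intro b hb
      have hac : (⟨a, hHL ha⟩ : L) ∈ Subgroup.center ↥L := h (Subgroup.mem_subgroupOf.mpr ha)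
      have := Subgroup.mem_center_iff.mp hac ⟨b, hHL hb⟩
      exact congrArg Subtype.val this
    rw [← hperf, hcomm]

section
variable [Finite X] (p : ℕ) [Fact p.Prime] {K : Subgroup X}

omit [Finite X] [Fact (Nat.Prime p)] in
theorem IsPComponent.isSubnormal (hK : IsPComponent p K) : K.IsSubnormal := hK.1

omit [Finite X] [Fact (Nat.Prime p)] in
/-- the image of a `p`-component modulo the `p'`-core is perfect -/
theorem IsPComponent.map_perfect (hK : IsPComponent p K) :
    ⁅K.map (QuotientGroup.mk' (pPrimeCore p X)), K.map (QuotientGroup.mk' (pPrimeCore p X))⁆ =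
      K.map (QuotientGroup.mk' (pPrimeCore p X)) :=
  commutator_eq_self_of_isQuasisimple hK.2.1.2

omit [Finite X] [Fact (Nat.Prime p)] in
/-- a `p`-component is perfect -/
theorem IsPComponent.perfect (hK : IsPComponent p K) : ⁅K, K⁆ = K := by
  have hle : ⁅K, K⁆ ≤ K := Subgroup.commutator_le_self K
  apply hK.2.2 _ _ hle
  · rw [Subgroup.map_commutator]
    exact IsPComponent.map_perfect p hK
  · -- ⁅K,K⁆ is normal in K, K subnormal
    have hn : (⁅K, K⁆.subgroupOf K).Normal := by
      rw [Subgroup.normal_subgroupOf_iff_le_normalizer hle]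
      intro k hk
      rw [Subgroup.mem_normalizer_iff]
      intro x
      have hnorm : (⁅K, K⁆).map (MulAut.conj k).toMonoidHom = ⁅K, K⁆ := by
        rw [Subgroup.map_commutator]
        have : K.map (MulAut.conj k).toMonoidHom = K := by
          have := (Subgroup.mem_normalizer_iff_map_conj_eq (H := K)).mp (Subgroup.le_normalizer hk)
          exact this
        rw [this]
      constructor
      · intro hx
        rw [← hnorm]
        exact ⟨x, hx, rfl⟩
      · intro hx
        rw [← hnorm] at hx
        obtain ⟨y, hy, hyx⟩ := hx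
        have : y = x := by
          have : k * y * k⁻¹ = k * x * k⁻¹ := hyx
          simpa using this
        rw [← this]; exact hy
    exact Subgroup.IsSubnormal.trans hle hn.isSubnormal hK.1

/-- the order of a `p`-component is divisible by `p` -/
theorem IsPComponent.dvd_card (hK : IsPComponent p K) : p ∣ Nat.card K := by
  by_contra hnd
  have hcop : (Nat.card K).Coprime p := ((Nat.Prime.coprime_iff_not_dvd Fact.out).mpr hnd).symm
  have hle : K ≤ pPrimeCore p X := le_pPrimeCore_of_isSubnormal p hK.1 hcop
  have hbot : K.map (QuotientGroup.mk' (pPrimeCore p X)) = ⊥ := by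
    rw [Subgroup.map_eq_bot_iff, QuotientGroup.ker_mk']
    exact hle
  exact ne_bot_of_isQuasisimple hK.2.1.2 hbot

/-- a perfect subnormal subgroup of a `p`-component, of order divisible by `p`, is the whole `p`-component -/
theorem IsPComponent.eq_of_le (hK : IsPComponent p K) {H : Subgroup X} (hHK : H ≤ K) (hH : H.IsSubnormal)
    (hperf : ⁅H, H⁆ = H) (hdvd : p ∣ Nat.card H) : H = K := by
  have hsn : (H.map (QuotientGroup.mk' (pPrimeCore p X))).IsSubnormal :=
    hH.map (QuotientGroup.mk'_surjective _)
  have hperf' : ⁅H.map (QuotientGroup.mk' (pPrimeCore p X)), H.map (QuotientGroup.mk' (pPrimeCore p X))⁆ =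
      H.map (QuotientGroup.mk' (pPrimeCore p X)) := by
    rw [← Subgroup.map_commutator, hperf]
  rcases eq_bot_or_eq_of_le_isQuasisimple hK.2.1.2 hsn (Subgroup.map_mono hHK) hperf' with h | h
  · exfalso
    rw [Subgroup.map_eq_bot_iff, QuotientGroup.ker_mk'] at h
    have hcop := coprime_of_le_pPrimeCore p h
    exact (Nat.Prime.coprime_iff_not_dvd Fact.out).mp hcop.symm hdvd
  · exact hK.2.2 H hH hHK h

end

end Cfsg.Agent.Lib.Helper22_PComponent
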