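import Cfsg.Agent.Lib.Helper22_Layer
import Cfsg.Agent.Lib.Helper22_Cores
import Cfsg.Agent.Lib.Helper21_FStar
import Cfsg.Agent.Lib.Helper1_Cores
import Cfsg.Agent.Lib.Helper49_CharP
import Cfsg.Agent.Lib.Helper23_CharP
import Cfsg.Agent.Lib.Helper22_CoreCentralizer
import Cfsg.Agent.Lib.Helper22_PComponent

/-!
Towards Bender's theorem on pairs of maximal subgroups (helper22).

Inside a finite group `H` with a `p`-subgroup `Y` normalized by `F*(H)`:
* `inf_le_pCore`: `Y ∩ F*(H) ≤ O_p(H)`; `commutator_mem_pCore`: `[Y, F*(H)] ≤ O_p(H)`;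
* `commute_of_coprime_centralizer`: every `p'`-element of `C_H(O_p(H))` centralizes `Y`.
-/

set_option autoImplicit false

namespace Cfsg.Agent.Lib.Helper22_Bender

open Subgroup Cfsg Cfsg.Agent.Lib.Helper22_Layer Cfsg.Agent.Lib.Helper29_Local

universe u

variable {H : Type u} [Group H]

/-- the subgroup of `m`-th powers of an abelian subgroup -/
def powSub (Z : Subgroup H) (hZ : ∀ a ∈ Z, ∀ b ∈ Z, a * b = b * a) (m : ℕ) : Subgroup H where
  carrier := {x | ∃ z ∈ Z, z ^ m = x}
  one_mem' := ⟨1, Z.one_mem, one_pow m⟩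
  mul_mem' := by
    rintro _ _ ⟨a, ha, rfl⟩ ⟨b, hb, rfl⟩
    exact ⟨a * b, Z.mul_mem ha hb, Commute.mul_pow (hZ a ha b hb) m⟩
  inv_mem' := by
    rintro _ ⟨a, ha, rfl⟩
    exact ⟨a⁻¹, Z.inv_mem ha, inv_pow a m⟩

theorem mem_powSub {Z : Subgroup H} {hZ : ∀ a ∈ Z, ∀ b ∈ Z, a * b = b * a} {m : ℕ} {x : H} :
    x ∈ powSub Z hZ m ↔ ∃ z ∈ Z, z ^ m = x := Iff.rfl

theorem powSub_le (Z : Subgroup H) (hZ : ∀ a ∈ Z, ∀ b ∈ Z, a * b = b * a) (m : ℕ) : powSub Z hZ m ≤ Z := by
  rintro _ ⟨z, hz, rfl⟩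
  exact Z.pow_mem hz m

theorem powSub_normal (Z : Subgroup H) [hn : Z.Normal] (hZ : ∀ a ∈ Z, ∀ b ∈ Z, a * b = b * a) (m : ℕ) :
    (powSub Z hZ m).Normal := by
  constructor
  rintro _ ⟨z, hz, rfl⟩ g
  exact ⟨g * z * g⁻¹, hn.conj_mem z hz g, conj_pow⟩

section fstar

variable [Finite H] (p : ℕ) [Fact p.Prime] (Y : Subgroup H)

theorem inf_le_pCore (hY : IsPGroup p ↥Y)
    (hn : generalizedFittingSubgroup H ≤ normalizer (Y : Set H)) :
    Y ⊓ generalizedFittingSubgroup H ≤ pCore p H := by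
  apply Cfsg.Agent.Lib.Helper22_Cores.le_pCore_of_le_isSubnormal p (H := generalizedFittingSubgroup H)
    (Subgroup.Normal.isSubnormal inferInstance) inf_le_right
  · exact (le_inf hn le_normalizer).trans inf_normalizer_le_normalizer_inf
  · exact hY.to_le inf_le_left

theorem commutator_mem_pCore (hY : IsPGroup p ↥Y)
    (hn : generalizedFittingSubgroup H ≤ normalizer (Y : Set H)) {y x : H} (hy : y ∈ Y)
    (hx : x ∈ generalizedFittingSubgroup H) : y * x * y⁻¹ * x⁻¹ ∈ pCore p H := by
  apply inf_le_pCore p Y hY hn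
  constructor
  · have h1 : x * y⁻¹ * x⁻¹ ∈ Y := (mem_normalizer_iff.mp (hn hx) y⁻¹).mp (Y.inv_mem hy)
    have e : y * x * y⁻¹ * x⁻¹ = y * (x * y⁻¹ * x⁻¹) := by group
    rw [e]
    exact Y.mul_mem hy h1
  · have hN : (generalizedFittingSubgroup H).Normal := inferInstance
    exact Subgroup.mul_mem _ (hN.conj_mem x hx y) (Subgroup.inv_mem _ hx)

/-- `Y` centralizes every normal subgroup of `H` inside `F*(H)` that meets `O_p(H)` trivially -/
theorem commute_of_disjoint (hY : IsPGroup p ↥Y)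
    (hn : generalizedFittingSubgroup H ≤ normalizer (Y : Set H)) (X : Subgroup H) [hX : X.Normal]
    (hXF : X ≤ generalizedFittingSubgroup H) (hdisj : X ⊓ pCore p H = ⊥) {y x : H} (hy : y ∈ Y)
    (hx : x ∈ X) : y * x = x * y := by
  have h1 : y * x * y⁻¹ * x⁻¹ ∈ X ⊓ pCore p H :=
    ⟨Subgroup.mul_mem _ (hX.conj_mem x hx y) (Subgroup.inv_mem _ hx),
      commutator_mem_pCore p Y hY hn hy (hXF hx)⟩
  rw [hdisj, Subgroup.mem_bot] at h1
  calc y * x = (y * x * y⁻¹ * x⁻¹) * x * y := by group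
    _ = x * y := by rw [h1, one_mul]

/-- `Y` centralizes the layer -/
theorem layer_le_centralizer (hY : IsPGroup p ↥Y)
    (hn : generalizedFittingSubgroup H ≤ normalizer (Y : Set H)) :
    layer H ≤ centralizer (Y : Set H) := by
  rw [← Subgroup.commutator_eq_bot_iff_le_centralizer]
  apply Cfsg.Agent.Lib.Helper21_Components.commutator_eq_bot_of_perfect layer_perfect
  have hsolv : Group.IsSolvable ↥(pCore p H) := by
    have : Group.IsNilpotent ↥(pCore p H) := (Cfsg.Agent.Lib.Helper49_CharP.pCore_isPGroup p H).isNilpotent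
    infer_instance
  have hpn : (pCore p H).Normal := Cfsg.Agent.Lib.Helper49_CharP.pCoreNormal p H
  have h1 : ⁅Y, layer H⁆ ≤ pCore p H := by
    rw [Subgroup.commutator_le]
    intro y hy x hx
    rw [commutatorElement_def]
    exact commutator_mem_pCore p Y hY hn hy ((le_sup_left : layer H ≤ generalizedFittingSubgroup H) hx)
  have h2 : ⁅pCore p H, layer H⁆ = ⊥ := by
    rw [Subgroup.commutator_comm]
    exact layer_commutator_eq_bot_of_isSolvable hsolv
  rw [eq_bot_iff, ← h2]
  exact Subgroup.commutator_mono h1 le_rfl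

/-- `Y` centralizes `O_r(H)` for primes `r ≠ p` -/
theorem pCore_le_centralizer_of_ne (hY : IsPGroup p ↥Y)
    (hn : generalizedFittingSubgroup H ≤ normalizer (Y : Set H)) (r : ℕ) [Fact r.Prime] (hr : r ≠ p) :
    pCore r H ≤ centralizer (Y : Set H) := by
  have hrn : (pCore r H).Normal := Cfsg.Agent.Lib.Helper49_CharP.pCoreNormal r H
  have hrF : pCore r H ≤ generalizedFittingSubgroup H :=
    (Cfsg.Agent.Lib.Helper1_Cores.pCore_le_fittingSubgroup r).trans le_sup_right
  have hdisj : pCore r H ⊓ pCore p H = ⊥ := by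
    rw [← disjoint_iff]
    apply Subgroup.disjoint_of_coprime_natCard
    obtain ⟨b, hb⟩ := IsPGroup.iff_card.mp (Cfsg.Agent.Lib.Helper49_CharP.pCore_isPGroup p H)
    rw [hb]
    exact Nat.Coprime.pow_right b (Cfsg.Agent.Lib.Helper1_Cores.pCore_card_coprime hr)
  intro x hx
  rw [mem_centralizer_iff]
  intro y hy
  exact commute_of_disjoint p Y hY hn (pCore r H) hrF hdisj hy hx

/-- the part of `F*(H)` away from `p` -/
def awayPart (p : ℕ) (H : Type u) [Group H] : Subgroup H :=
  layer H ⊔ ⨆ r : {r : Nat.Primes // (r : ℕ) ≠ p}, pCore (r : ℕ) H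

omit [Finite H] [Fact p.Prime] in
theorem awayPart_normal : (awayPart p H).Normal := by
  unfold awayPart
  have : ∀ r : {r : Nat.Primes // (r : ℕ) ≠ p}, (pCore (r : ℕ) H).Normal :=
    fun r => Cfsg.Agent.Lib.Helper49_CharP.pCoreNormal _ H
  infer_instance

theorem generalizedFitting_le_sup : generalizedFittingSubgroup H ≤ pCore p H ⊔ awayPart p H := by
  unfold generalizedFittingSubgroup awayPart
  apply sup_le
  · exact le_sup_left.trans le_sup_right
  · rw [Cfsg.Agent.Lib.Helper1_Cores.fittingSubgroup_eq_iSup_pCore]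
    apply iSup_le
    intro q
    by_cases hq : (q : ℕ) = p
    · rw [hq]; exact le_sup_left
    · exact le_trans (le_trans (le_iSup (fun r : {r : Nat.Primes // (r : ℕ) ≠ p} => pCore (r : ℕ) H) ⟨q, hq⟩)
        le_sup_right) le_sup_right

theorem awayPart_le_centralizer (hY : IsPGroup p ↥Y)
    (hn : generalizedFittingSubgroup H ≤ normalizer (Y : Set H)) :
    awayPart p H ≤ centralizer (Y : Set H) := by
  unfold awayPart
  apply sup_le (layer_le_centralizer p Y hY hn)
  apply iSup_le
  rintro ⟨r, hr⟩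
  have : Fact (r : ℕ).Prime := ⟨r.2⟩
  exact pCore_le_centralizer_of_ne p Y hY hn (r : ℕ) hr

/-- **Key lemma.** Every `p'`-element of `C_H(O_p(H))` centralizes `Y`. -/
theorem commute_of_coprime_centralizer (hY : IsPGroup p ↥Y)
    (hn : generalizedFittingSubgroup H ≤ normalizer (Y : Set H)) {k : H}
    (hk : k ∈ centralizer (pCore p H : Set H)) (hko : (orderOf k).Coprime p) {y : H} (hy : y ∈ Y) :
    k * y = y * k := by
  have hpp : p.Prime := Fact.out
  have hpn : (pCore p H).Normal := Cfsg.Agent.Lib.Helper49_CharP.pCoreNormal p H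
  have hFn : (generalizedFittingSubgroup H).Normal := inferInstance
  have hRn : (awayPart p H).Normal := awayPart_normal p
  have hKn : (centralizer (pCore p H : Set H)).Normal := Subgroup.normal_centralizer
  have hK'n : (centralizer (awayPart p H : Set H)).Normal := Subgroup.normal_centralizer
  have hZn : (centralizer (generalizedFittingSubgroup H : Set H)).Normal := Subgroup.normal_centralizer
  set Z0 : Subgroup H := centralizer (generalizedFittingSubgroup H : Set H) with hZ0
  have hZF : Z0 ≤ generalizedFittingSubgroup H := Cfsg.Agent.Lib.Helper21_FStar.centralizer_generalizedFitting_le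
  have hZc : ∀ a ∈ Z0, ∀ b ∈ Z0, a * b = b * a := by
    intro a ha b hb
    exact (mem_centralizer_iff.mp ha b (hZF hb)).symm
  -- `y ∈ K'`
  have hyK' : y ∈ centralizer (awayPart p H : Set H) := by
    rw [mem_centralizer_iff]
    intro x hx
    exact (mem_centralizer_iff.mp (awayPart_le_centralizer p Y hY hn hx) y hy).symm
  -- the commutator
  set c : H := y⁻¹ * k * y * k⁻¹ with hc
  have hkyk : k * y * k⁻¹ = y * c := by rw [hc]; group
  have hcK : c ∈ centralizer (pCore p H : Set H) := by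
    have e : c = (y⁻¹ * k * y⁻¹⁻¹) * k⁻¹ := by rw [hc]; group
    rw [e]
    exact Subgroup.mul_mem _ (hKn.conj_mem k hk y⁻¹) (Subgroup.inv_mem _ hk)
  have hcK' : c ∈ centralizer (awayPart p H : Set H) := by
    have e : c = y⁻¹ * (k * y * k⁻¹) := by rw [hc]; group
    rw [e]
    exact Subgroup.mul_mem _ (Subgroup.inv_mem _ hyK') (hK'n.conj_mem y hyK' k)
  have hcZ : c ∈ Z0 := by
    have hle : generalizedFittingSubgroup H ≤ centralizer ({c} : Set H) := by
      refine (generalizedFitting_le_sup p).trans (sup_le ?_ ?_)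
      · intro x hx
        rw [mem_centralizer_iff]
        intro z hz
        rw [Set.mem_singleton_iff] at hz
        rw [hz]
        exact (mem_centralizer_iff.mp hcK x hx).symm
      · intro x hx
        rw [mem_centralizer_iff]
        intro z hz
        rw [Set.mem_singleton_iff] at hz
        rw [hz]
        exact (mem_centralizer_iff.mp hcK' x hx).symm
    rw [hZ0, mem_centralizer_iff]
    intro x hx
    exact (mem_centralizer_iff.mp (hle hx) c (Set.mem_singleton c)).symm
  -- exponents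
  have hn0 : Nat.card ↥Z0 ≠ 0 := Nat.card_pos.ne'
  set e : ℕ := p ^ (Nat.card ↥Z0).factorization p with he
  set f : ℕ := Nat.card ↥Z0 / e with hf
  have hef : e * f = Nat.card ↥Z0 := Nat.ordProj_mul_ordCompl_eq_self _ p
  have hfp : p.Coprime f := Nat.coprime_ordCompl hpp hn0
  have hpowcard : ∀ z ∈ Z0, z ^ (e * f) = 1 := by
    intro z hz
    rw [hef]
    have := pow_card_eq_one' (G := ↥Z0) (x := ⟨z, hz⟩)
    exact congrArg Subtype.val this
  -- the `p`-part `A0` and the `p'`-part `B0` of `Z0`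
  have hA0n : (powSub Z0 hZc f).Normal := powSub_normal Z0 hZc f
  have hB0n : (powSub Z0 hZc e).Normal := powSub_normal Z0 hZc e
  have hA0p : IsPGroup p ↥(powSub Z0 hZc f) := by
    intro g
    refine ⟨(Nat.card ↥Z0).factorization p, ?_⟩
    obtain ⟨z, hz, hzg⟩ := g.2
    apply Subtype.ext
    rw [Subgroup.coe_pow, Subgroup.coe_one, ← hzg, ← pow_mul, mul_comm, ← he]
    exact hpowcard z hz
  have hA0 : powSub Z0 hZc f ≤ pCore p H := Cfsg.Agent.Lib.Helper49_CharP.le_pCore hA0n hA0p
  have hB0disj : powSub Z0 hZc e ⊓ pCore p H = ⊥ := by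
    rw [eq_bot_iff]
    intro x hx
    rw [Subgroup.mem_bot]
    obtain ⟨⟨z, hz, hzx⟩, hxp⟩ := hx
    have h1 : x ^ f = 1 := by
      rw [← hzx, ← pow_mul]; exact hpowcard z hz
    obtain ⟨j, hj⟩ := Cfsg.Agent.Lib.Helper49_CharP.orderOf_eq_pow_of_mem
      (Cfsg.Agent.Lib.Helper49_CharP.pCore_isPGroup p H) hxp
    have h2 : orderOf x ∣ f := orderOf_dvd_of_pow_eq_one h1
    have h3 : (orderOf x).Coprime f := by rw [hj]; exact Nat.Coprime.pow_left j hfp
    have h4 : orderOf x = 1 := Nat.eq_one_of_dvd_coprimes h3 dvd_rfl h2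
    exact orderOf_eq_one_iff.mp h4
  have hYB0 : ∀ b ∈ powSub Z0 hZc e, y * b = b * y := by
    intro b hb
    exact commute_of_disjoint p Y hY hn (powSub Z0 hZc e) ((powSub_le Z0 hZc e).trans hZF) hB0disj hy hb
  -- step 1: `c ^ f = 1`
  have hcf_mem : c ^ f ∈ powSub Z0 hZc f := ⟨c, hcZ, rfl⟩
  have hkcf : k * c ^ f = c ^ f * k := (mem_centralizer_iff.mp hk _ (hA0 hcf_mem)).symm
  have hiter : ∀ j : ℕ, ∃ d ∈ Z0, k ^ j * y * (k ^ j)⁻¹ = y * d ∧ d ^ f = (c ^ f) ^ j := by
    intro j
    induction j with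
    | zero => exact ⟨1, Z0.one_mem, by simp, by simp⟩
    | succ j ih =>
      obtain ⟨d, hd, h1, h2⟩ := ih
      refine ⟨c * (k * d * k⁻¹), Z0.mul_mem hcZ (hZn.conj_mem d hd k), ?_, ?_⟩
      · have e1 : k ^ (j + 1) * y * (k ^ (j + 1))⁻¹ = k * (k ^ j * y * (k ^ j)⁻¹) * k⁻¹ := by
          rw [pow_succ']; group
        rw [e1, h1]
        have e2 : k * (y * d) * k⁻¹ = (k * y * k⁻¹) * (k * d * k⁻¹) := by group
        rw [e2, hkyk, mul_assoc]
      · rw [Commute.mul_pow (hZc c hcZ _ (hZn.conj_mem d hd k)) f, conj_pow, h2]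
        have e3 : k * (c ^ f) ^ j * k⁻¹ = (c ^ f) ^ j := by
          have hcomm : Commute k ((c ^ f) ^ j) := (show Commute k (c ^ f) from hkcf).pow_right j
          rw [hcomm.eq]; group
        rw [e3, ← pow_succ']
  have hcf : c ^ f = 1 := by
    obtain ⟨d, _, h1, h2⟩ := hiter (orderOf k)
    rw [pow_orderOf_eq_one, one_mul, inv_one, mul_one] at h1
    have hd1 : d = 1 := by
      have := mul_left_cancel (a := y) (b := 1) (c := d) (by rw [mul_one]; exact h1)
      exact this.symm
    rw [hd1, one_pow] at h2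
    have h3 : orderOf (c ^ f) ∣ orderOf k := orderOf_dvd_of_pow_eq_one h2.symm
    obtain ⟨j, hj⟩ := Cfsg.Agent.Lib.Helper49_CharP.orderOf_eq_pow_of_mem
      (Cfsg.Agent.Lib.Helper49_CharP.pCore_isPGroup p H) (hA0 hcf_mem)
    have h4 : (orderOf (c ^ f)).Coprime (orderOf k) := by
      rw [hj]; exact Nat.Coprime.pow_left j hko.symm
    have h5 : orderOf (c ^ f) = 1 := Nat.eq_one_of_dvd_coprimes h4 dvd_rfl h3
    exact orderOf_eq_one_iff.mp h5
  -- step 2: `c ∈ B0`, hence `y` commutes with `c`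
  have hcB0 : c ∈ powSub Z0 hZc e := by
    by_cases hf1 : f = 1
    · rw [hf1, pow_one] at hcf
      rw [hcf]; exact Subgroup.one_mem _
    · have hfpos : 0 < f := by
        rcases Nat.eq_zero_or_pos f with h0 | h0
        · rw [h0, mul_zero] at hef; exact absurd hef.symm hn0
        · exact h0
      have hf2 : 1 < f := by omega
      have hcop : e.Coprime f := by rw [he]; exact Nat.Coprime.pow_left _ hfp
      obtain ⟨u, _, hu⟩ := Nat.exists_mul_mod_eq_one_of_coprime hcop hf2
      refine ⟨c ^ u, Z0.pow_mem hcZ u, ?_⟩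
      rw [← pow_mul, mul_comm, pow_eq_pow_mod (e * u) hcf, hu, pow_one]
  have hyc : y * c = c * y := hYB0 c hcB0
  -- step 3: `c = 1`
  have hc1 : c = 1 := by
    obtain ⟨j, hj⟩ := Cfsg.Agent.Lib.Helper49_CharP.orderOf_eq_pow_of_mem hY hy
    have h1 : (k * y * k⁻¹) ^ orderOf y = 1 := by
      rw [conj_pow, pow_orderOf_eq_one]; group
    rw [hkyk, Commute.mul_pow (show Commute y c from hyc), pow_orderOf_eq_one, one_mul] at h1
    have h2 : orderOf c ∣ orderOf y := orderOf_dvd_of_pow_eq_one h1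
    have h3 : orderOf c ∣ f := orderOf_dvd_of_pow_eq_one hcf
    have h4 : (orderOf y).Coprime f := by rw [hj]; exact Nat.Coprime.pow_left j hfp
    have h5 : orderOf c = 1 := Nat.eq_one_of_dvd_coprimes h4 h2 h3
    exact orderOf_eq_one_iff.mp h5
  rw [hc1, mul_one] at hkyk
  calc k * y = k * y * k⁻¹ * k := by group
    _ = y * k := by rw [hkyk]

end fstar

/-! ### maximal subgroups of a simple group -/

section simple

open Cfsg.Agent.Lib.Helper22_CoreCentralizer

variable {G : Type u} [Group G]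

/-- In a simple group, a nontrivial subgroup normalized by the maximal subgroup `M` has normalizer `M`. -/
theorem normalizer_eq_of_isCoatom [IsSimpleGroup G] {M X : Subgroup G} (hM : IsCoatom M) (hXM : X ≤ M)
    (hX : X ≠ ⊥) (hMX : M ≤ normalizer (X : Set G)) : normalizer (X : Set G) = M := by
  have hne : normalizer (X : Set G) ≠ ⊤ := by
    intro h
    have hXn : X.Normal := normalizer_eq_top_iff.mp h
    rcases hXn.eq_bot_or_eq_top with h1 | h1
    · exact hX h1
    · apply hM.1
      rw [eq_top_iff, ← h1]; exact hXM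
  rcases hM.le_iff.mp hMX with h | h
  · exact absurd h hne
  · exact h

/-- a conjugation-invariant set generates a subgroup normalized by `M` -/
theorem le_normalizer_closure {M : Subgroup G} {S : Set G} (hS : ∀ m ∈ M, ∀ g ∈ S, m * g * m⁻¹ ∈ S) :
    M ≤ normalizer ((closure S : Subgroup G) : Set G) := by
  have key : ∀ m ∈ M, ∀ h ∈ closure S, m * h * m⁻¹ ∈ closure S := by
    intro m hm h hh
    induction hh using Subgroup.closure_induction with
    | mem x hx => exact subset_closure (hS m hm x hx)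
    | one => simp
    | mul a b _ _ iha ihb =>
      have e : m * (a * b) * m⁻¹ = (m * a * m⁻¹) * (m * b * m⁻¹) := by group
      rw [e]; exact Subgroup.mul_mem _ iha ihb
    | inv a _ iha =>
      have e : m * a⁻¹ * m⁻¹ = (m * a * m⁻¹)⁻¹ := by group
      rw [e]; exact Subgroup.inv_mem _ iha
  intro m hm
  rw [mem_normalizer_iff]
  intro h
  constructor
  · exact key m hm h
  · intro hh
    have := key m⁻¹ (M.inv_mem hm) _ hh
    have e : m⁻¹ * (m * h * m⁻¹) * m⁻¹⁻¹ = h := by group
    rwa [e] at this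

/-- `O_p(M)` as a subgroup of `G` -/
abbrev pCoreOf (p : ℕ) (M : Subgroup G) : Subgroup G := (pCore p ↥M).map M.subtype

/-- `F*(M)` as a subgroup of `G` -/
abbrev fstarOf (M : Subgroup G) : Subgroup G := (generalizedFittingSubgroup ↥M).map M.subtype

/-- the set of `p'`-elements of `C_G(O_p(M))` -/
def coprimeSet (p : ℕ) (M : Subgroup G) : Set G :=
  {g | g ∈ centralizer ((pCoreOf p M : Subgroup G) : Set G) ∧ (orderOf g).Coprime p}

theorem pCoreOf_le (p : ℕ) (M : Subgroup G) : pCoreOf p M ≤ M := Subgroup.map_subtype_le _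

theorem pCoreOf_le_fstarOf [Finite G] (p : ℕ) [Fact p.Prime] (M : Subgroup G) : pCoreOf p M ≤ fstarOf M :=
  Subgroup.map_mono ((Cfsg.Agent.Lib.Helper1_Cores.pCore_le_fittingSubgroup p).trans le_sup_right)

theorem le_normalizer_pCoreOf (p : ℕ) (M : Subgroup G) : M ≤ normalizer ((pCoreOf p M : Subgroup G) : Set G) := by
  have : (pCore p ↥M).Normal := Cfsg.Agent.Lib.Helper49_CharP.pCoreNormal p ↥M
  exact le_normalizer_map_subtype (pCore p ↥M)

theorem isPGroup_pCoreOf (p : ℕ) (M : Subgroup G) : IsPGroup p ↥(pCoreOf p M) :=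
  (Cfsg.Agent.Lib.Helper49_CharP.pCore_isPGroup p ↥M).map _

/-- conjugation by `m ∈ M` preserves the set of `p'`-elements of `C_G(O_p(M))` -/
theorem conj_mem_coprimeSet (p : ℕ) (M : Subgroup G) : ∀ m ∈ M, ∀ g ∈ coprimeSet p M, m * g * m⁻¹ ∈ coprimeSet p M := by
  intro m hm g hg
  obtain ⟨hg1, hg2⟩ := hg
  refine ⟨?_, ?_⟩
  · rw [mem_centralizer_iff]
    intro x hx
    have hmn := le_normalizer_pCoreOf p M hm
    have hx' : m⁻¹ * x * m ∈ pCoreOf p M := by
      have := (mem_normalizer_iff.mp (Subgroup.inv_mem _ hmn) x).mp hx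
      rwa [inv_inv] at this
    have h1 := mem_centralizer_iff.mp hg1 _ hx'
    calc x * (m * g * m⁻¹) = m * ((m⁻¹ * x * m) * g) * m⁻¹ := by group
      _ = m * (g * (m⁻¹ * x * m)) * m⁻¹ := by rw [h1]
      _ = m * g * m⁻¹ * x := by group
  · have : orderOf (m * g * m⁻¹) = orderOf g := (MulAut.conj m).orderOf_eq g
    rw [this]; exact hg2

/-- **Key step.** The `p'`-elements of `C_G(O_p(M))` centralize `O_p(N)`. -/
theorem coprimeSet_le_centralizer [Finite G] (p : ℕ) [Fact p.Prime] {M N : Subgroup G}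
    (hCM : centralizer ((pCoreOf p M : Subgroup G) : Set G) ≤ M) (h1 : fstarOf M ≤ N) (h2 : fstarOf N ≤ M) :
    ∀ g ∈ coprimeSet p M, g ∈ centralizer ((pCoreOf p N : Subgroup G) : Set G) := by
  intro g hg
  obtain ⟨hg1, hg2⟩ := hg
  have hgM : g ∈ M := hCM hg1
  have hPNM : pCoreOf p N ≤ M := (pCoreOf_le_fstarOf p N).trans h2
  have hY : IsPGroup p ↥((pCoreOf p N).subgroupOf M) := (isPGroup_pCoreOf p N).comap_subtype
  have hn : generalizedFittingSubgroup ↥M ≤ normalizer (((pCoreOf p N).subgroupOf M : Subgroup ↥M) : Set ↥M) := by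
    intro x hx
    apply mem_normalizer_subgroupOf
    exact le_normalizer_pCoreOf p N (h1 ⟨x, hx, rfl⟩)
  have hk : (⟨g, hgM⟩ : ↥M) ∈ centralizer (pCore p ↥M : Set ↥M) := by
    rw [mem_centralizer_iff]
    intro z hz
    apply Subtype.ext
    exact mem_centralizer_iff.mp hg1 (z : G) ⟨z, hz, rfl⟩
  have hko : (orderOf (⟨g, hgM⟩ : ↥M)).Coprime p := by
    rw [Subgroup.orderOf_mk]; exact hg2
  rw [mem_centralizer_iff]
  intro y hy
  have hyM : y ∈ M := hPNM hy
  have := commute_of_coprime_centralizer p ((pCoreOf p N).subgroupOf M) hY hn hk hko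
    (y := ⟨y, hyM⟩) (by rw [mem_subgroupOf]; exact hy)
  exact (congrArg Subtype.val this).symm

/-- Case (A): if `O_p(M) ≠ 1 ≠ O_p(N)` then `F*(M)` is a `p`-group. -/
theorem isPGroup_fstar_of_pCoreOf_ne_bot [Finite G] [IsSimpleGroup G] (p : ℕ) [Fact p.Prime] {M N : Subgroup G}
    (hM : IsCoatom M) (hN : IsCoatom N) (hMN : M ≠ N) (h1 : fstarOf M ≤ N) (h2 : fstarOf N ≤ M)
    (hPM : pCoreOf p M ≠ ⊥) (hPN : pCoreOf p N ≠ ⊥) : IsPGroup p ↥(generalizedFittingSubgroup ↥M) := by
  have hNM := normalizer_eq_of_isCoatom hM (pCoreOf_le p M) hPM (le_normalizer_pCoreOf p M)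
  have hNN := normalizer_eq_of_isCoatom hN (pCoreOf_le p N) hPN (le_normalizer_pCoreOf p N)
  have hCM : centralizer ((pCoreOf p M : Subgroup G) : Set G) ≤ M :=
    (centralizer_le_normalizer _).trans hNM.le
  have hCN : centralizer ((pCoreOf p N : Subgroup G) : Set G) ≤ N :=
    (centralizer_le_normalizer _).trans hNN.le
  have hsub1 := coprimeSet_le_centralizer p hCM h1 h2
  have hsub2 := coprimeSet_le_centralizer p hCN h2 h1
  have hset : coprimeSet p M = coprimeSet p N := by
    ext g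
    constructor
    · intro hg; exact ⟨hsub1 g hg, hg.2⟩
    · intro hg; exact ⟨hsub2 g hg, hg.2⟩
  have hMU : M ≤ normalizer ((closure (coprimeSet p M) : Subgroup G) : Set G) :=
    le_normalizer_closure (conj_mem_coprimeSet p M)
  have hNU : N ≤ normalizer ((closure (coprimeSet p M) : Subgroup G) : Set G) := by
    rw [hset]; exact le_normalizer_closure (conj_mem_coprimeSet p N)
  have htop : normalizer ((closure (coprimeSet p M) : Subgroup G) : Set G) = ⊤ := by
    rw [eq_top_iff, ← hM.sup_eq_top_of_ne hN hMN]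
    exact sup_le hMU hNU
  have hUn : (closure (coprimeSet p M)).Normal := normalizer_eq_top_iff.mp htop
  have hUM : closure (coprimeSet p M) ≤ M := by
    rw [closure_le]
    intro g hg
    exact hCM hg.1
  have hUbot : closure (coprimeSet p M) = ⊥ := by
    rcases hUn.eq_bot_or_eq_top with h | h
    · exact h
    · exfalso
      apply hM.1
      rw [eq_top_iff, ← h]; exact hUM
  have hone : ∀ g ∈ coprimeSet p M, g = 1 := by
    intro g hg
    have : g ∈ closure (coprimeSet p M) := subset_closure hg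
    rwa [hUbot, mem_bot] at this
  -- back inside `M`
  have hpn : (pCore p ↥M).Normal := Cfsg.Agent.Lib.Helper49_CharP.pCoreNormal p ↥M
  have hLn : (centralizer (pCore p ↥M : Set ↥M)).Normal := Subgroup.normal_centralizer
  have hLp : IsPGroup p ↥(centralizer (pCore p ↥M : Set ↥M)) := by
    apply Cfsg.Agent.Lib.Helper49_CharP.isPGroup_of_forall_coprime_eq_one
    intro x hx hxo
    apply Subtype.ext
    apply hone
    refine ⟨?_, ?_⟩
    · rw [mem_centralizer_iff]
      rintro _ ⟨z, hz, rfl⟩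
      exact congrArg Subtype.val (mem_centralizer_iff.mp hx z hz)
    · rw [Subgroup.orderOf_coe]; exact hxo
  have hchar : Cfsg.Agent.Lib.Helper49_CharP.IsCharP p ↥M :=
    Cfsg.Agent.Lib.Helper49_CharP.le_pCore hLn hLp
  rw [Cfsg.Agent.Lib.Helper23_CharP.isCharP_iff_generalizedFitting_eq.mp hchar]
  exact Cfsg.Agent.Lib.Helper49_CharP.pCore_isPGroup p ↥M

/-- Case (B): if `O_p(M) ≠ 1` then `O_p(N) ≠ 1`. -/
theorem pCoreOf_ne_bot [Finite G] (p : ℕ) [Fact p.Prime] {M N : Subgroup G}
    (h1 : fstarOf M ≤ N) (h2 : fstarOf N ≤ M) (hPM : pCoreOf p M ≠ ⊥) : pCoreOf p N ≠ ⊥ := by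
  intro hPN
  apply hPM
  have hbot : pCore p ↥N = ⊥ := (Subgroup.map_eq_bot_iff_of_injective _ N.subtype_injective).mp hPN
  have hPMN : pCoreOf p M ≤ N := (pCoreOf_le_fstarOf p M).trans h1
  have hY : IsPGroup p ↥((pCoreOf p M).subgroupOf N) := (isPGroup_pCoreOf p M).comap_subtype
  have hn : generalizedFittingSubgroup ↥N ≤ normalizer (((pCoreOf p M).subgroupOf N : Subgroup ↥N) : Set ↥N) := by
    intro x hx
    apply mem_normalizer_subgroupOf
    exact le_normalizer_pCoreOf p M (h2 ⟨x, hx, rfl⟩)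
  have hcent : (pCoreOf p M).subgroupOf N ≤ centralizer (generalizedFittingSubgroup ↥N : Set ↥N) := by
    intro y hy
    rw [mem_centralizer_iff]
    intro x hx
    have h3 := commutator_mem_pCore p _ hY hn hy hx
    rw [hbot, mem_bot] at h3
    calc x * y = (y * x * y⁻¹ * x⁻¹)⁻¹ * (y * x) := by group
      _ = y * x := by rw [h3, inv_one, one_mul]
  have hle : (pCoreOf p M).subgroupOf N ≤ pCore p ↥N :=
    (le_inf le_rfl (hcent.trans Cfsg.Agent.Lib.Helper21_FStar.centralizer_generalizedFitting_le)).trans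
      (inf_le_pCore p _ hY hn)
  rw [hbot, le_bot_iff] at hle
  rw [← Subgroup.map_subgroupOf_eq_of_le hPMN, hle, Subgroup.map_bot]

/-- Case (C): if `F(M) = 1` then every component of `N` is a component of `M`. -/
theorem layerOf_le_layerOf [Finite G] {M N : Subgroup G} (h1 : fstarOf M ≤ N) (h2 : fstarOf N ≤ M)
    (hF : fittingSubgroup ↥M = ⊥) : (layer ↥N).map N.subtype ≤ (layer ↥M).map M.subtype := by
  rw [Subgroup.map_le_iff_le_comap, layer_le_iff]
  intro L hL
  rw [← Subgroup.map_le_iff_le_comap]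
  have hL'F : L.map N.subtype ≤ fstarOf N := Subgroup.map_mono ((IsComponent.le_layer hL).trans le_sup_left)
  have hL'M : L.map N.subtype ≤ M := hL'F.trans h2
  have hL'I : L.map N.subtype ≤ M ⊓ N := le_inf hL'M (Subgroup.map_subtype_le _)
  have hEN : (layer ↥M).map M.subtype ≤ N := (Subgroup.map_mono le_sup_left).trans h1
  have hEI : (layer ↥M).map M.subtype ≤ M ⊓ N := le_inf (Subgroup.map_subtype_le _) hEN
  have hcomp : IsComponent ((L.map N.subtype).subgroupOf (M ⊓ N)) := by
    refine ⟨?_, ?_⟩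
    · have hcomap : (L.map N.subtype).subgroupOf (M ⊓ N) =
          L.comap (Subgroup.inclusion (inf_le_right : M ⊓ N ≤ N)) := by
        ext x
        rw [mem_subgroupOf, mem_comap]
        constructor
        · rintro ⟨l, hl, hlx⟩
          have : l = Subgroup.inclusion (inf_le_right : M ⊓ N ≤ N) x := Subtype.ext hlx
          rw [← this]; exact hl
        · intro h
          exact ⟨_, h, rfl⟩
      rw [hcomap]
      exact hL.1.comap _
    · exact isQuasisimple_of_mulEquiv
        ((L.equivMapOfInjective N.subtype N.subtype_injective).trans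
          (Subgroup.subgroupOfEquivOfLe hL'I).symm) hL.2
  have hEn : (((layer ↥M).map M.subtype).subgroupOf (M ⊓ N)).Normal :=
    (normal_subgroupOf_iff_le_normalizer hEI).mpr
      (inf_le_left.trans (le_normalizer_map_subtype (layer ↥M)))
  rcases Cfsg.Agent.Lib.Helper21_Components.IsComponent.le_or_commutator_eq_bot hcomp
    (Subgroup.Normal.isSubnormal hEn) with h | h
  · exact Cfsg.Agent.Lib.Helper21_Components.le_of_subgroupOf_le hL'I h
  · exfalso
    have hcomm : ⁅L.map N.subtype, (layer ↥M).map M.subtype⁆ = ⊥ :=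
      Cfsg.Agent.Lib.Helper21_Components.commutator_eq_bot_of_subgroupOf hL'I hEI h
    have hFM : generalizedFittingSubgroup ↥M = layer ↥M := by
      unfold generalizedFittingSubgroup; rw [hF, sup_bot_eq]
    have hc : (L.map N.subtype).subgroupOf M ≤ centralizer (generalizedFittingSubgroup ↥M : Set ↥M) := by
      intro x hx
      rw [mem_centralizer_iff]
      intro z hz
      rw [hFM] at hz
      have hcz : (x : G) ∈ centralizer (((layer ↥M).map M.subtype : Subgroup G) : Set G) :=
        Subgroup.commutator_eq_bot_iff_le_centralizer.mp hcomm (mem_subgroupOf.mp hx)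
      exact Subtype.ext (mem_centralizer_iff.mp hcz (z : G) ⟨z, hz, rfl⟩)
    have hle : (L.map N.subtype).subgroupOf M ≤ generalizedFittingSubgroup ↥M :=
      hc.trans Cfsg.Agent.Lib.Helper21_FStar.centralizer_generalizedFitting_le
    have hL'E : L.map N.subtype ≤ (layer ↥M).map M.subtype := by
      rw [← Subgroup.map_subgroupOf_eq_of_le hL'M]
      rw [hFM] at hle
      exact Subgroup.map_mono hle
    have hab : ⁅L.map N.subtype, L.map N.subtype⁆ = ⊥ := by
      rw [eq_bot_iff, ← hcomm]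
      exact Subgroup.commutator_mono le_rfl hL'E
    have hperf : ⁅L, L⁆ = L := Cfsg.Agent.Lib.Helper22_PComponent.commutator_eq_self_of_isQuasisimple hL.2
    have hL'bot : L.map N.subtype = ⊥ := by
      have h3 := congrArg (Subgroup.map N.subtype) hperf
      rw [Subgroup.map_commutator] at h3
      rw [← h3]; exact hab
    have hLbot : L = ⊥ := (Subgroup.map_eq_bot_iff_of_injective _ N.subtype_injective).mp hL'bot
    exact Cfsg.Agent.Lib.Helper22_PComponent.ne_bot_of_isQuasisimple hL.2 hLbot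

end simple

end Cfsg.Agent.Lib.Helper22_Bender
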