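import Cfsg.Prelude.Def_LocalEven
import Cfsg.Prelude.Def_Solvable
import Cfsg.Prelude.Def_Transfer
import Cfsg.Agent.Lib.Helper48_SPE
import Cfsg.Agent.Lib.Helper1_Cores
import Cfsg.Agent.Lib.Helper2_PResidual
import Cfsg.Agent.Lib.Helper23_PComp
import Cfsg.Agent.Lib.Helper47_PClosed
import Cfsg.Agent.Lib.Lead_Subnormal

/-!
# `p`-minimal groups (helper48)

General Sylow lemmas in `IsSylowIn` form (Frattini, Sylow subgroups of subnormal subgroups, conjugating a
`p`-subgroup into a subgroup of `p'`-index) and the basic structure of `p`-minimal groups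
(`Cfsg.IsPMinimal`).
-/

set_option autoImplicit false
open Cfsg
open scoped Pointwise
open Cfsg.Agent.Lib.Helper48_SPE

namespace Cfsg.Agent.Lib.Helper48_PMinimal

section Sylow

variable {G : Type*} [Group G]

/-- A `p`-subgroup of `K` whose index in `K` is prime to `p` is a Sylow `p`-subgroup of `K`. -/
theorem isSylowIn_of_not_dvd_relIndex [Finite G] {p : ℕ} [Fact p.Prime] {Q K : Subgroup G}
    (hQK : Q ≤ K) (hQ : IsPGroup p Q) (h : ¬ p ∣ Q.relIndex K) : IsSylowIn p Q K := by
  have hp : p.Prime := Fact.out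
  refine ⟨hQK, hQ, ?_⟩
  intro R hR hQR hRK
  have h1 : Q.relIndex R * R.relIndex K = Q.relIndex K := Subgroup.relIndex_mul_relIndex Q R K hQR hRK
  have h2 : Q.relIndex R ∣ Nat.card R := Subgroup.relIndex_dvd_card Q R
  obtain ⟨n, hn⟩ := IsPGroup.iff_card.mp hR
  rw [hn] at h2
  obtain ⟨k, -, hk⟩ := (Nat.dvd_prime_pow hp).mp h2
  have hk0 : k = 0 := by
    by_contra hk0
    apply h
    rw [← h1, hk]
    exact (dvd_pow_self p hk0).mul_right _
  rw [hk0, pow_zero, Subgroup.relIndex_eq_one] at hk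
  exact le_antisymm hk hQR

/-- A Sylow `p`-subgroup of `G` meets every subnormal subgroup in a Sylow `p`-subgroup. -/
theorem isSylowIn_inf_of_isSubnormal [Finite G] {p : ℕ} [Fact p.Prime] (S : Sylow p G)
    {L : Subgroup G} (hL : L.IsSubnormal) : IsSylowIn p ((S : Subgroup G) ⊓ L) L := by
  apply isSylowIn_of_not_dvd_relIndex inf_le_right (S.isPGroup'.to_le inf_le_left)
  rw [Subgroup.inf_relIndex_right]
  exact Cfsg.Agent.Lib.Helper23_PComp.not_dvd_relIndex_of_subnormal p (S : Subgroup G)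
    S.not_dvd_index hL

/-- **Frattini argument** in `IsSylowIn` form. -/
theorem IsSylowIn.sup_normalizer_eq_top [Finite G] {p : ℕ} [Fact p.Prime] {Q K : Subgroup G}
    [K.Normal] (hQ : IsSylowIn p Q K) : K ⊔ Subgroup.normalizer (Q : Set G) = ⊤ := by
  have h := Sylow.normalizer_sup_eq_top hQ.toSylow
  rw [hQ.map_toSylow] at h
  rw [sup_comm]
  exact h

/-- A `p`-subgroup can be conjugated into any subgroup of index prime to `p`. -/
theorem exists_conj_smul_le_of_not_dvd_index [Finite G] {p : ℕ} [Fact p.Prime] {Q Y : Subgroup G}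
    (hQ : IsPGroup p Q) (hY : ¬ p ∣ Y.index) : ∃ g : G, MulAut.conj g • Q ≤ Y := by
  have hfix := hQ.nonempty_fixed_point_of_prime_not_dvd_card (α := G ⧸ Y) (by rwa [← Subgroup.index_eq_card])
  obtain ⟨x, hx⟩ := hfix
  obtain ⟨g, rfl⟩ := QuotientGroup.mk_surjective x
  refine ⟨g⁻¹, ?_⟩
  intro y hy
  rw [mem_conj_smul_iff] at hy
  rw [inv_inv] at hy
  have h1 := hx ⟨_, hy⟩
  have h2 : ((g * y * g⁻¹ * g : G) : G ⧸ Y) = (g : G ⧸ Y) := h1
  rw [QuotientGroup.eq] at h2
  have e : (g * y * g⁻¹ * g)⁻¹ * g = y⁻¹ := by group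
  rw [e] at h2
  exact (Y.inv_mem_iff).mp h2

/-- A subnormal subgroup `X ≤ L` such that every `L`-invariant subgroup between `X` and `L` is `L`
equals `L`. -/
theorem eq_of_isSubnormal_of_forall_le {X L : Subgroup G} (hX : X.IsSubnormal) (hXL : X ≤ L)
    (hgen : ∀ K : Subgroup G, X ≤ K → K ≤ L → L ≤ Subgroup.normalizer (K : Set G) → L ≤ K) :
    X = L := by
  by_contra hne
  have hsub : (X.subgroupOf L).IsSubnormal := hX.subgroupOf
  have hne' : X.subgroupOf L ≠ ⊤ := by
    rw [Ne, Subgroup.subgroupOf_eq_top]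
    intro hle
    exact hne (le_antisymm hXL hle)
  obtain ⟨K', hK'n, hXK', hK'lt⟩ := hsub.exists_normal_and_le_and_lt_top_of_ne hne'
  have h1 : X ≤ K'.map L.subtype := by
    intro x hx
    exact ⟨⟨x, hXL hx⟩, hXK' (by rw [Subgroup.mem_subgroupOf]; exact hx), rfl⟩
  have h2 : K'.map L.subtype ≤ L := Subgroup.map_subtype_le K'
  have h3 : L ≤ Subgroup.normalizer ((K'.map L.subtype : Subgroup G) : Set G) := by
    intro l hl
    rw [Subgroup.mem_normalizer_iff]
    intro y
    constructor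
    · rintro ⟨k, hk, rfl⟩
      exact ⟨⟨l, hl⟩ * k * ⟨l, hl⟩⁻¹, hK'n.conj_mem _ hk _, rfl⟩
    · rintro ⟨k, hk, hky⟩
      refine ⟨⟨l, hl⟩⁻¹ * k * ⟨l, hl⟩, ?_, ?_⟩
      · have := hK'n.conj_mem _ hk ⟨l, hl⟩⁻¹
        rwa [inv_inv] at this
      · simp only [Subgroup.subtype_apply, Subgroup.coe_mul, Subgroup.coe_inv] at hky ⊢
        rw [hky]
        group
  have h4 := hgen _ h1 h2 h3
  apply hK'lt.ne
  rw [eq_top_iff]
  intro x _
  obtain ⟨y, hy, hyx⟩ := h4 x.2
  have : y = x := Subtype.ext hyx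
  rwa [← this]

/-- The normal closure of `N` lies in any subgroup containing all conjugates of elements of `N`. -/
theorem normalClosure_le_of_conj {N K : Subgroup G} (h : ∀ g : G, ∀ n ∈ N, g * n * g⁻¹ ∈ K) :
    Subgroup.normalClosure (N : Set G) ≤ K := by
  have h0 : Subgroup.normalClosure (N : Set G) =
    Subgroup.closure (Group.conjugatesOfSet (N : Set G)) := rfl
  rw [h0, Subgroup.closure_le]
  intro x hx
  rw [Group.mem_conjugatesOfSet_iff] at hx
  obtain ⟨n, hn, hc⟩ := hx
  rw [isConj_iff] at hc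
  obtain ⟨c, rfl⟩ := hc
  exact h c n hn

/-- Frattini-type lemma: `R, T ⊴ G`, `T ≤ R` a `p`-group of index prime to `p` in `R`, `U` a Sylow
`q`-subgroup of `G` inside `R`. Then every `p`-subgroup `Q` is conjugate into `N_G(U) T`; equivalently
`Q ≤ N_G(U') T` for a conjugate `U'` of `U`. -/
theorem exists_le_normalizer_conj_sup [Finite G] {p q : ℕ} [Fact p.Prime] [Fact q.Prime]
    {R T Q : Subgroup G} [R.Normal] [T.Normal] (hidx : ¬ p ∣ T.relIndex R)
    (U : Sylow q G) (hUR : (U : Subgroup G) ≤ R) (hQ : IsPGroup p Q) :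
    ∃ g : G, Q ≤ Subgroup.normalizer ((MulAut.conj g • (U : Subgroup G) : Subgroup G) : Set G) ⊔ T := by
  have hfr : Subgroup.normalizer ((U : Subgroup G) : Set G) ⊔ R = ⊤ :=
    Sylow.normalizer_sup_eq_top' U hUR
  have hY : ¬ p ∣ (Subgroup.normalizer ((U : Subgroup G) : Set G) ⊔ T).index := by
    have h1 := Cfsg.Agent.Lib.Helper23_PComp.relIndex_eq_relIndex_sup
      (Subgroup.normalizer ((U : Subgroup G) : Set G) ⊔ T) R
    have h2 : R ⊔ (Subgroup.normalizer ((U : Subgroup G) : Set G) ⊔ T) = ⊤ := by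
      rw [eq_top_iff, ← hfr]
      exact sup_le (le_sup_left.trans le_sup_right) le_sup_left
    rw [h2, Subgroup.relIndex_top_right] at h1
    rw [← h1]
    intro hdvd
    exact hidx (hdvd.trans (Subgroup.relIndex_dvd_of_le_left R le_sup_right))
  obtain ⟨g, hg⟩ := exists_conj_smul_le_of_not_dvd_index hQ hY
  refine ⟨g⁻¹, ?_⟩
  rw [normalizer_conj_smul]
  have h3 : MulAut.conj g⁻¹ • (Subgroup.normalizer ((U : Subgroup G) : Set G) ⊔ T) =
      MulAut.conj g⁻¹ • Subgroup.normalizer ((U : Subgroup G) : Set G) ⊔ T := by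
    rw [Subgroup.smul_sup, Subgroup.Normal.conj_smul_eq_self g⁻¹ T]
  rw [← h3]
  intro x hx
  rw [mem_conj_smul_iff, inv_inv]
  exact hg (conj_mem_conj_smul hx)

end Sylow

section PMinimal

variable {P : Type*} [Group P] [Finite P] {p : ℕ} [Fact p.Prime]

omit [Fact p.Prime] in
/-- In a `p`-minimal group every proper subgroup containing `S` lies in the unique maximal subgroup
over `S`. -/
theorem le_of_sylow_le (hP : IsPMinimal p P) (S : Sylow p P) {M : Subgroup P} (hM : IsCoatom M)
    (hSM : (S : Subgroup P) ≤ M) {X : Subgroup P} (hSX : (S : Subgroup P) ≤ X) (hX : X ≠ ⊤) :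
    X ≤ M := by
  obtain ⟨M', hM', hXM'⟩ := (eq_top_or_exists_le_coatom X).resolve_left hX
  have h := (hP S).2.unique ⟨hM', hSX.trans hXM'⟩ ⟨hM, hSM⟩
  rw [← h]
  exact hXM'

/-- `O^p(P)` does not lie in the maximal subgroup over `S`. -/
theorem pResidual_not_le {S : Sylow p P} {M : Subgroup P} (hM : IsCoatom M)
    (hSM : (S : Subgroup P) ≤ M) : ¬ pResidual p P ≤ M := by
  intro h
  apply hM.1
  rw [eq_top_iff, ← Cfsg.Agent.Lib.Helper2_PResidual.sylow_sup_pResidual S]
  exact sup_le hSM h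

/-- A normal subgroup of a `p`-minimal group contains `O^p(P)` or lies in the core of `M`. -/
theorem pResidual_le_or_le_normalCore (hP : IsPMinimal p P) (S : Sylow p P) {M : Subgroup P}
    (hM : IsCoatom M) (hSM : (S : Subgroup P) ≤ M) (N : Subgroup P) (hN : N.Normal) :
    pResidual p P ≤ N ∨ N ≤ M.normalCore := by
  by_cases h : N ⊔ (S : Subgroup P) = ⊤
  · left
    exact Cfsg.Agent.Lib.Helper47_PClosed.pResidual_le_of_le_sup S.isPGroup' (h ▸ le_top)
  · right
    have h1 := le_of_sylow_le hP S hM hSM le_sup_right h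
    exact Subgroup.normal_le_normalCore.mpr (le_sup_left.trans h1)

/-- The core of `M` is properly contained in `O^p(P) F`. -/
theorem normalCore_lt_sup {S : Sylow p P} {M : Subgroup P} (hM : IsCoatom M)
    (hSM : (S : Subgroup P) ≤ M) : M.normalCore < pResidual p P ⊔ M.normalCore := by
  refine lt_of_le_of_ne le_sup_right ?_
  intro h
  apply pResidual_not_le hM hSM
  have h1 : pResidual p P ≤ M.normalCore := by
    rw [h]
    exact le_sup_left
  exact h1.trans (Subgroup.normalCore_le M)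

omit [Finite P] [Fact p.Prime] in
/-- A Sylow `p`-subgroup normalizes its intersection with a normal subgroup. -/
theorem sylow_le_normalizer_inf (S : Sylow p P) (F : Subgroup P) [hF : F.Normal] :
    (S : Subgroup P) ≤ Subgroup.normalizer (((S : Subgroup P) ⊓ F : Subgroup P) : Set P) := by
  intro s hs
  rw [Subgroup.mem_normalizer_iff]
  intro y
  constructor
  · rintro ⟨h1, h2⟩
    exact ⟨(S : Subgroup P).mul_mem ((S : Subgroup P).mul_mem hs h1) ((S : Subgroup P).inv_mem hs),
      hF.conj_mem _ h2 s⟩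
  · rintro ⟨h1, h2⟩
    constructor
    · have := (S : Subgroup P).mul_mem ((S : Subgroup P).mul_mem ((S : Subgroup P).inv_mem hs) h1) hs
      have e : s⁻¹ * (s * y * s⁻¹) * s = y := by group
      rwa [e] at this
    · have := hF.conj_mem _ h2 s⁻¹
      have e : s⁻¹ * (s * y * s⁻¹) * s⁻¹⁻¹ = y := by group
      rwa [e] at this

/-- In a `p`-minimal group, `S ∩ F ≤ O_p(P)` for the core `F` of `M`. -/
theorem sylow_inf_normalCore_le_pCore (hP : IsPMinimal p P) (S : Sylow p P) {M : Subgroup P}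
    (hM : IsCoatom M) (hSM : (S : Subgroup P) ≤ M) :
    (S : Subgroup P) ⊓ M.normalCore ≤ pCore p P := by
  have hF : M.normalCore.Normal := Subgroup.normalCore_normal M
  have hQs : IsSylowIn p ((S : Subgroup P) ⊓ M.normalCore) M.normalCore :=
    isSylowIn_inf_of_isSubnormal S hF.isSubnormal
  have hfr := IsSylowIn.sup_normalizer_eq_top hQs
  have hSN := sylow_le_normalizer_inf S M.normalCore
  have hNtop : Subgroup.normalizer (((S : Subgroup P) ⊓ M.normalCore : Subgroup P) : Set P) = ⊤ := by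
    by_contra hne
    have h1 := le_of_sylow_le hP S hM hSM hSN hne
    apply hM.1
    rw [eq_top_iff, ← hfr]
    exact sup_le (Subgroup.normalCore_le M) h1
  have hQn : ((S : Subgroup P) ⊓ M.normalCore).Normal := Subgroup.normalizer_eq_top_iff.mp hNtop
  exact Cfsg.Agent.Lib.Helper1_Cores.le_pCore hQn (S.isPGroup'.to_le inf_le_left)

/-- In a `p`-minimal group, a subnormal subgroup contained in `M` meets `S` inside `O_p(P)`. -/
theorem subnormal_inf_sylow_le_pCore (hP : IsPMinimal p P) (S : Sylow p P) {M : Subgroup P}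
    (hM : IsCoatom M) (hSM : (S : Subgroup P) ≤ M) {N : Subgroup P} (hN : N.IsSubnormal)
    (hNM : N ≤ M) : N ⊓ (S : Subgroup P) ≤ pCore p P := by
  have hLn : (Subgroup.normalClosure (N : Set P)).Normal := Subgroup.normalClosure_normal
  have hNL : N ≤ Subgroup.normalClosure (N : Set P) := Subgroup.le_normalClosure
  rcases pResidual_le_or_le_normalCore hP S hM hSM _ hLn with h | h
  · exfalso
    obtain ⟨X, hXdef⟩ : ∃ X : Subgroup P,
        X = sSup {Y : Subgroup P | ∃ s ∈ (S : Subgroup P), Y = MulAut.conj s • N} := ⟨_, rfl⟩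
    have hX : X.IsSubnormal := by
      rw [hXdef]
      apply Cfsg.Agent.Lib.Lead_Subnormal.isSubnormal_sSup
      rintro Y ⟨s, hs, rfl⟩
      exact hN.smul _
    have hXle : ∀ K : Subgroup P, (∀ s ∈ (S : Subgroup P), ∀ n ∈ N, s * n * s⁻¹ ∈ K) → X ≤ K := by
      intro K hK
      rw [hXdef]
      apply sSup_le
      rintro Y ⟨s, hs, rfl⟩
      intro y hy
      rw [mem_conj_smul_iff] at hy
      have := hK s hs _ hy
      have e : s * (s⁻¹ * y * s) * s⁻¹ = y := by group
      rwa [e] at this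
    have hXconj : ∀ s ∈ (S : Subgroup P), ∀ n ∈ N, s * n * s⁻¹ ∈ X := by
      intro s hs n hn
      have h0 : MulAut.conj s • N ≤ X := by
        rw [hXdef]
        exact le_sSup ⟨s, hs, rfl⟩
      exact h0 (conj_mem_conj_smul hn)
    clear hXdef
    have hXM : X ≤ M := hXle M (fun s hs n hn =>
      M.mul_mem (M.mul_mem (hSM hs) (hNM hn)) (M.inv_mem (hSM hs)))
    have hXL : X ≤ Subgroup.normalClosure (N : Set P) := hXle _ (fun s hs n hn =>
      hLn.conj_mem _ (hNL hn) s)
    have htop : Subgroup.normalClosure (N : Set P) ⊔ (S : Subgroup P) = ⊤ := by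
      have h0 := Cfsg.Agent.Lib.Helper2_PResidual.sylow_sup_pResidual S
      rw [eq_top_iff, ← h0]
      exact sup_le (le_sup_right) (h.trans le_sup_left)
    have hXeq : X = Subgroup.normalClosure (N : Set P) := by
      apply eq_of_isSubnormal_of_forall_le hX hXL
      intro K hXK hKL hLK
      apply normalClosure_le_of_conj
      intro g n hn
      have hg : g ∈ Subgroup.normalClosure (N : Set P) ⊔ (S : Subgroup P) := by
        rw [htop]
        exact Subgroup.mem_top g
      rw [← SetLike.mem_coe, Subgroup.normal_mul] at hg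
      obtain ⟨l, hl, s, hs, rfl⟩ := hg
      have h1 : s * n * s⁻¹ ∈ K := hXK (hXconj s hs n hn)
      have h2 := (Subgroup.mem_normalizer_iff.mp (hLK hl) _).mp h1
      have e : l * s * n * (l * s)⁻¹ = l * (s * n * s⁻¹) * l⁻¹ := by group
      rw [e]
      exact h2
    apply pResidual_not_le hM hSM
    exact (h.trans hXeq.ge).trans hXM
  · refine le_trans ?_ (sylow_inf_normalCore_le_pCore hP S hM hSM)
    exact le_inf inf_le_right (inf_le_left.trans (hNL.trans h))

/-- In a `p`-minimal group, if every prime has a Sylow subgroup inside `M` we get a contradiction. -/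
theorem exists_prime_forall_sylow_not_le {M : Subgroup P} (hM : IsCoatom M) :
    ∃ q : ℕ, q.Prime ∧ ∀ [Fact q.Prime] (U : Sylow q P), ¬ (U : Subgroup P) ≤ M := by
  by_contra hno
  push Not at hno
  apply hM.1
  rw [← Subgroup.index_eq_one]
  by_contra h1
  obtain ⟨q, hq, hqd⟩ := Nat.exists_prime_and_dvd h1
  obtain ⟨hq', U, hU⟩ := hno q hq
  exact U.not_dvd_index (hqd.trans (Subgroup.index_dvd_of_le hU))

/-- If `O^p(P)` has a normal Sylow `p`-subgroup, the order of the `p`-minimal group `P` has at most two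
prime divisors. -/
theorem card_primeFactors_le_two (hP : IsPMinimal p P) (S : Sylow p P) {M : Subgroup P}
    (hM : IsCoatom M) (hSM : (S : Subgroup P) ≤ M)
    (hT : ∀ T : Sylow p ↥(pResidual p P), (T : Subgroup ↥(pResidual p P)).Normal) :
    (Nat.card P).primeFactors.card ≤ 2 := by
  have hp : p.Prime := Fact.out
  obtain ⟨T₀⟩ : Nonempty (Sylow p ↥(pResidual p P)) := inferInstance
  have hT₀n : (T₀ : Subgroup ↥(pResidual p P)).Normal := hT T₀
  have hT₀c : (T₀ : Subgroup ↥(pResidual p P)).Characteristic := T₀.characteristic_of_normal hT₀n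
  have hTn : ((T₀ : Subgroup ↥(pResidual p P)).map (pResidual p P).subtype).Normal := inferInstance
  obtain ⟨T, hTdef⟩ : ∃ T : Subgroup P,
      T = (T₀ : Subgroup ↥(pResidual p P)).map (pResidual p P).subtype := ⟨_, rfl⟩
  rw [← hTdef] at hTn
  have hTp : IsPGroup p T := by
    rw [hTdef]
    exact T₀.isPGroup'.map _
  have hTidx : ¬ p ∣ T.relIndex (pResidual p P) := by
    have h1 : T.subgroupOf (pResidual p P) = T₀ := by
      rw [hTdef]
      exact Subgroup.comap_map_eq_self_of_injective (pResidual p P).subtype_injective _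
    unfold Subgroup.relIndex
    rw [h1]
    exact T₀.not_dvd_index
  clear hTdef
  obtain ⟨q, hq, hqM⟩ := exists_prime_forall_sylow_not_le hM
  have hqF : Fact q.Prime := ⟨hq⟩
  have hqp : q ≠ p := by
    rintro rfl
    exact hqM S hSM
  obtain ⟨U⟩ : Nonempty (Sylow q P) := inferInstance
  have hUR : (U : Subgroup P) ≤ pResidual p P := by
    intro x hx
    apply Cfsg.Agent.Lib.Helper2_PResidual.mem_pResidual_of_coprime
    obtain ⟨k, hk⟩ := (IsPGroup.iff_orderOf.mp U.isPGroup') ⟨x, hx⟩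
    rw [Subgroup.orderOf_mk] at hk
    rw [hk]
    exact Nat.Coprime.pow_left k ((Nat.coprime_primes hq hp).mpr hqp)
  obtain ⟨g, hg⟩ := exists_le_normalizer_conj_sup (R := pResidual p P) (T := T) hTidx U hUR
    S.isPGroup'
  -- `U' = U^g` as a Sylow subgroup
  have hU' : ((MulAut.conj g • U : Sylow q P) : Subgroup P) = MulAut.conj g • (U : Subgroup P) :=
    Sylow.pointwise_smul_def
  rw [← hU'] at hg
  obtain ⟨U', hU'def⟩ : ∃ U' : Sylow q P, U' = MulAut.conj g • U := ⟨_, rfl⟩
  rw [← hU'def] at hg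
  clear hU' hU'def
  -- `S` normalizes `A = T ⊔ U'`
  have hNA : Subgroup.normalizer ((U' : Subgroup P) : Set P) ⊔ T ≤
      Subgroup.normalizer ((T ⊔ (U' : Subgroup P) : Subgroup P) : Set P) := by
    apply sup_le
    · intro x hx
      have h1 : MulAut.conj x • (U' : Subgroup P) = U' := by
        rw [conj_smul_eq_map]
        exact (Subgroup.mem_normalizer_iff_map_conj_eq.mp hx)
      have h2 : MulAut.conj x • (T ⊔ (U' : Subgroup P)) = T ⊔ (U' : Subgroup P) := by
        rw [Subgroup.smul_sup, Subgroup.Normal.conj_smul_eq_self x T, h1]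
      rw [Subgroup.mem_normalizer_iff_map_conj_eq]
      rw [conj_smul_eq_map] at h2
      exact h2
    · exact le_sup_left.trans Subgroup.le_normalizer
  have hW : (T ⊔ (U' : Subgroup P)) ⊔ (S : Subgroup P) = ⊤ := by
    by_contra hne
    have h1 := le_of_sylow_le hP S hM hSM le_sup_right hne
    exact hqM U' ((le_sup_right.trans le_sup_left).trans h1)
  have hAn : (T ⊔ (U' : Subgroup P)).Normal := by
    rw [← Subgroup.normalizer_eq_top_iff, eq_top_iff, ← hW]
    exact sup_le Subgroup.le_normalizer (hg.trans hNA)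
  -- count
  have h1 : Nat.card ↥((S : Subgroup P) ⊔ (T ⊔ (U' : Subgroup P))) ∣
      Nat.card ↥(S : Subgroup P) * Nat.card ↥(T ⊔ (U' : Subgroup P)) :=
    Cfsg.Agent.Lib.Helper1_Cores.card_sup_dvd _ _
  have h2 : Nat.card ↥((U' : Subgroup P) ⊔ T) ∣ Nat.card ↥(U' : Subgroup P) * Nat.card ↥T :=
    Cfsg.Agent.Lib.Helper1_Cores.card_sup_dvd _ _
  rw [sup_comm] at h1 h2
  rw [hW, Subgroup.card_top] at h1
  obtain ⟨a, ha⟩ := IsPGroup.iff_card.mp S.isPGroup'
  obtain ⟨b, hb⟩ := IsPGroup.iff_card.mp U'.isPGroup'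
  obtain ⟨c, hc⟩ := IsPGroup.iff_card.mp hTp
  have h3 : Nat.card P ∣ p ^ a * (q ^ b * p ^ c) := by
    rw [← ha, ← hb, ← hc]
    exact h1.trans (Nat.mul_dvd_mul_left _ h2)
  have hsub : (Nat.card P).primeFactors ⊆ {p, q} := by
    intro r hr
    have hrp := Nat.prime_of_mem_primeFactors hr
    have hrd := (Nat.dvd_of_mem_primeFactors hr).trans h3
    rw [Finset.mem_insert, Finset.mem_singleton]
    rcases (Nat.Prime.dvd_mul hrp).mp hrd with h | h
    · left
      exact (Nat.prime_dvd_prime_iff_eq hrp hp).mp (hrp.dvd_of_dvd_pow h)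
    · rcases (Nat.Prime.dvd_mul hrp).mp h with h | h
      · right
        exact (Nat.prime_dvd_prime_iff_eq hrp hq).mp (hrp.dvd_of_dvd_pow h)
      · left
        exact (Nat.prime_dvd_prime_iff_eq hrp hp).mp (hrp.dvd_of_dvd_pow h)
  exact (Finset.card_le_card hsub).trans Finset.card_le_two

end PMinimal

end Cfsg.Agent.Lib.Helper48_PMinimal
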