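import Cfsg.Prelude.Def_Local
import Cfsg.Agent.Lib.Helper48_PMinimal
import Cfsg.Agent.Lib.Helper22_Layer
import Cfsg.Agent.Lib.Helper22_Cores
import Cfsg.Agent.Lib.Helper29_Local
import Cfsg.Agent.Lib.Helper30_Subnormal
import Cfsg.Agent.Lib.Helper21_Components
import Cfsg.Agent.Lib.Helper47_WeaklyClosed
import Cfsg.Agent.Lib.Helper2_PResidual
import Cfsg.Agent.Lib.Helper23_PComp
import Cfsg.Agent.Lib.Helper1_Cores
import Cfsg.Agent.Lib.Helper48_SPE

/-!
# `p`-minimal groups with `O_p(P) = 1` and a component (helper48)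

* normal `p'`-subgroups of a `p`-minimal group are nilpotent;
* if `O_p(P) = 1` and `P` has a component then `O^p(P) = F*(P) = E(P)` is generated by the
  `S`-conjugates of any component `K`, and `K N_S(K)` is `p`-minimal.
-/

set_option autoImplicit false
open Cfsg
open scoped Pointwise commutatorElement
open Cfsg.Agent.Lib.Helper48_SPE Cfsg.Agent.Lib.Helper48_PMinimal

namespace Cfsg.Agent.Lib.Helper48_PMinimal2

section General

variable {G : Type*} [Group G]

/-- A Sylow subgroup of `K` (in `IsSylowIn` form) has index in `K` prime to `p`. -/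
theorem IsSylowIn.not_dvd_relIndex [Finite G] {p : ℕ} [Fact p.Prime] {Q K : Subgroup G}
    (hQ : IsSylowIn p Q K) : ¬ p ∣ Q.relIndex K :=
  hQ.toSylow.not_dvd_index

/-- If `D` is a normal `p'`-subgroup and `U` a Sylow `q`-subgroup of `D`, every `p`-subgroup
normalizes some conjugate of `U`. -/
theorem exists_le_normalizer_conj_of_coprime [Finite G] {p q : ℕ} [Fact p.Prime] [Fact q.Prime]
    {D Q U : Subgroup G} [D.Normal] (hD : ¬ p ∣ Nat.card D) (hU : IsSylowIn q U D)
    (hQ : IsPGroup p Q) :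
    ∃ g : G, Q ≤ Subgroup.normalizer ((MulAut.conj g • U : Subgroup G) : Set G) := by
  have hfr := IsSylowIn.sup_normalizer_eq_top hU
  have hY : ¬ p ∣ (Subgroup.normalizer (U : Set G)).index := by
    have h1 := Cfsg.Agent.Lib.Helper23_PComp.relIndex_eq_relIndex_sup
      (Subgroup.normalizer (U : Set G)) D
    rw [hfr, Subgroup.relIndex_top_right] at h1
    rw [← h1]
    intro hdvd
    exact hD (hdvd.trans (Subgroup.relIndex_dvd_card _ _))
  obtain ⟨g, hg⟩ := exists_conj_smul_le_of_not_dvd_index hQ hY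
  refine ⟨g⁻¹, ?_⟩
  rw [normalizer_conj_smul]
  intro x hx
  rw [mem_conj_smul_iff, inv_inv]
  exact hg (conj_mem_conj_smul hx)

/-- A finite perfect group is generated by its `p'`-elements. -/
theorem pResidual_eq_top_of_isPerfect (H : Type*) [Group H] [Finite H] (p : ℕ) [Fact p.Prime]
    [Group.IsPerfect H] : pResidual p H = ⊤ := by
  by_contra hne
  have hnt : Nontrivial (H ⧸ pResidual p H) := QuotientGroup.nontrivial_iff.mpr hne
  have hpg : IsPGroup p (H ⧸ pResidual p H) :=
    Cfsg.Agent.Lib.Helper2_PResidual.isPGroup_quotient_pResidual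
  have hnil : Group.IsNilpotent (H ⧸ pResidual p H) := hpg.isNilpotent
  exact Group.IsPerfect.not_isNilpotent (H ⧸ pResidual p H) hnil

/-- A perfect subgroup lies in `O^p(G)`. -/
theorem le_pResidual_of_isPerfect [Finite G] (p : ℕ) [Fact p.Prime] (K : Subgroup G)
    [Group.IsPerfect ↥K] : K ≤ pResidual p G := by
  have h1 := Cfsg.Agent.Lib.Helper47_WeaklyClosed.map_subtype_pResidual (p := p) K
  rw [pResidual_eq_top_of_isPerfect, ← MonoidHom.range_eq_map, Subgroup.range_subtype] at h1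
  rw [h1]
  apply Subgroup.closure_mono
  intro x hx
  exact hx.2

/-- Conjugation preserves coatoms of the subgroup lattice. -/
theorem isCoatom_conj_smul (g : G) (M : Subgroup G) :
    IsCoatom (MulAut.conj g • M) ↔ IsCoatom M :=
  (MulEquiv.mapSubgroup (MulAut.conj g)).isCoatom_iff M

theorem conj_smul_inv_conj_smul (g : G) (M : Subgroup G) :
    MulAut.conj g⁻¹ • (MulAut.conj g • M) = M := by
  rw [← mul_smul, ← map_mul, inv_mul_cancel, map_one, one_smul]

theorem conj_smul_conj_smul_inv (g : G) (M : Subgroup G) :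
    MulAut.conj g • (MulAut.conj g⁻¹ • M) = M := by
  rw [← mul_smul, ← map_mul, mul_inv_cancel, map_one, one_smul]

/-- To check `p`-minimality of a finite group it suffices to look at one Sylow `p`-subgroup. -/
theorem isPMinimal_of_sylow {H : Type*} [Group H] [Finite H] {p : ℕ} [Fact p.Prime]
    (S₀ : Sylow p H) (h1 : ¬ (S₀ : Subgroup H).Normal)
    (h2 : ∃! M : Subgroup H, IsCoatom M ∧ (S₀ : Subgroup H) ≤ M) : IsPMinimal p H := by
  intro S
  obtain ⟨g, rfl⟩ := MulAction.exists_smul_eq H S₀ S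
  rw [Sylow.coe_subgroup_smul]
  constructor
  · intro hn
    apply h1
    have h3 := Subgroup.Normal.conj_smul_eq_self g⁻¹ (MulAut.conj g • (S₀ : Subgroup H))
    rw [conj_smul_inv_conj_smul] at h3
    rw [h3]
    exact hn
  · obtain ⟨M, ⟨hM, hSM⟩, huniq⟩ := h2
    refine ⟨MulAut.conj g • M, ⟨(isCoatom_conj_smul g M).mpr hM,
      Subgroup.pointwise_smul_le_pointwise_smul_iff.mpr hSM⟩, ?_⟩
    rintro M' ⟨hM', hSM'⟩
    have h3 : MulAut.conj g⁻¹ • M' = M := by
      apply huniq
      refine ⟨(isCoatom_conj_smul g⁻¹ M').mpr hM', ?_⟩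
      have := Subgroup.pointwise_smul_le_pointwise_smul_iff (a := MulAut.conj g⁻¹) |>.mpr hSM'
      rwa [conj_smul_inv_conj_smul] at this
    rw [← h3, conj_smul_conj_smul_inv]

/-- If the `p`-group `S₀` normalizes `K` and `S₀ ⊓ K` is a Sylow `p`-subgroup of `K`, then `S₀` is a
Sylow `p`-subgroup of `K S₀`. -/
theorem isSylowIn_sup_of_le_normalizer [Finite G] {p : ℕ} [Fact p.Prime] {K S₀ : Subgroup G}
    (hS₀ : IsPGroup p S₀) (hN : S₀ ≤ Subgroup.normalizer (K : Set G))
    (hK : IsSylowIn p (S₀ ⊓ K) K) : IsSylowIn p S₀ (K ⊔ S₀) := by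
  apply isSylowIn_of_not_dvd_relIndex le_sup_right hS₀
  have ha : Nat.card ↥S₀ * S₀.relIndex (K ⊔ S₀) = Nat.card ↥(K ⊔ S₀) := by
    have := Subgroup.relIndex_mul_relIndex (⊥ : Subgroup G) S₀ (K ⊔ S₀) bot_le le_sup_right
    rwa [Subgroup.relIndex_bot_left, Subgroup.relIndex_bot_left] at this
  have hb : Nat.card ↥K * K.relIndex S₀ = Nat.card ↥(K ⊔ S₀) := by
    have := Subgroup.relIndex_mul_relIndex (⊥ : Subgroup G) K (K ⊔ S₀) bot_le le_sup_left
    rw [Subgroup.relIndex_bot_left, Subgroup.relIndex_bot_left, sup_comm,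
      Cfsg.Agent.Lib.Helper23_PComp.relIndex_sup_of_le_normalizer K S₀ hN] at this
    rwa [sup_comm] at this
  have hc : Nat.card ↥(S₀ ⊓ K) * K.relIndex S₀ = Nat.card ↥S₀ := by
    have := Subgroup.relIndex_mul_relIndex (⊥ : Subgroup G) (S₀ ⊓ K) S₀ bot_le inf_le_left
    rwa [Subgroup.relIndex_bot_left, Subgroup.relIndex_bot_left, inf_comm,
      Subgroup.inf_relIndex_right, inf_comm] at this
  have hd : Nat.card ↥(S₀ ⊓ K) * S₀.relIndex K = Nat.card ↥K := by
    have := Subgroup.relIndex_mul_relIndex (⊥ : Subgroup G) (S₀ ⊓ K) K bot_le inf_le_right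
    rwa [Subgroup.relIndex_bot_left, Subgroup.relIndex_bot_left,
      Subgroup.inf_relIndex_right] at this
  have he : S₀.relIndex (K ⊔ S₀) = S₀.relIndex K := by
    have h1 : Nat.card ↥(S₀ ⊓ K) * K.relIndex S₀ * S₀.relIndex (K ⊔ S₀) =
        Nat.card ↥(S₀ ⊓ K) * K.relIndex S₀ * S₀.relIndex K := by
      calc Nat.card ↥(S₀ ⊓ K) * K.relIndex S₀ * S₀.relIndex (K ⊔ S₀)
          = Nat.card ↥S₀ * S₀.relIndex (K ⊔ S₀) := by rw [hc]
        _ = Nat.card ↥K * K.relIndex S₀ := by rw [ha, hb]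
        _ = Nat.card ↥(S₀ ⊓ K) * S₀.relIndex K * K.relIndex S₀ := by rw [hd]
        _ = Nat.card ↥(S₀ ⊓ K) * K.relIndex S₀ * S₀.relIndex K := by ring
    have hpos : 0 < Nat.card ↥(S₀ ⊓ K) * K.relIndex S₀ := by
      rw [hc]
      exact Nat.card_pos
    exact Nat.eq_of_mul_eq_mul_left hpos h1
  rw [he, ← Subgroup.inf_relIndex_right]
  exact IsSylowIn.not_dvd_relIndex hK

/-- If `K ≤ D ⊔ C_G(K)` with `D ≤ K` then `[K, K] ≤ D`. -/
theorem commutator_le_of_le_sup_centralizer {K D : Subgroup G} (hDK : D ≤ K)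
    (h : K ≤ D ⊔ Subgroup.centralizer (K : Set G)) : ⁅K, K⁆ ≤ D := by
  have hCD : Subgroup.centralizer (K : Set G) ≤ Subgroup.normalizer (D : Set G) :=
    (Subgroup.centralizer_le hDK).trans (Subgroup.centralizer_le_normalizer _)
  have hdec : ∀ a ∈ K, ∃ d ∈ D, ∃ c ∈ Subgroup.centralizer (K : Set G), a = d * c := by
    intro a ha
    have h1 : a ∈ ((D ⊔ Subgroup.centralizer (K : Set G) : Subgroup G) : Set G) := h ha
    rw [Subgroup.coe_mul_of_right_le_normalizer_left D _ hCD] at h1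
    obtain ⟨d, hd, c, hc, rfl⟩ := h1
    exact ⟨d, hd, c, hc, rfl⟩
  rw [Subgroup.commutator_le]
  intro a ha b hb
  obtain ⟨d, hd, c, hc, rfl⟩ := hdec a ha
  obtain ⟨d', hd', c', hc', rfl⟩ := hdec b hb
  rw [Subgroup.mem_centralizer_iff] at hc hc'
  -- `c` commutes with `d' * c'` and `c'` commutes with `d`
  have h1 : ⁅d * c, d' * c'⁆ = ⁅d, d' * c'⁆ := by
    have hcb := hc (d' * c') hb
    rw [commutatorElement_def, commutatorElement_def, mul_inv_rev, mul_assoc d c, ← hcb]
    group
  have h2 : ⁅d, d' * c'⁆ = ⁅d, d'⁆ := by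
    have hcd := hc' d (hDK hd)
    have hcd' : c' * d⁻¹ = d⁻¹ * c' := by
      calc c' * d⁻¹ = d⁻¹ * (d * c') * d⁻¹ := by group
        _ = d⁻¹ * (c' * d) * d⁻¹ := by rw [hcd]
        _ = d⁻¹ * c' := by group
    rw [commutatorElement_def, commutatorElement_def, mul_inv_rev]
    calc d * (d' * c') * d⁻¹ * (c'⁻¹ * d'⁻¹) = d * d' * (c' * d⁻¹) * c'⁻¹ * d'⁻¹ := by group
      _ = d * d' * (d⁻¹ * c') * c'⁻¹ * d'⁻¹ := by rw [hcd']
      _ = d * d' * d⁻¹ * d'⁻¹ := by group
  rw [h1, h2]
  exact Subgroup.commutator_mem_commutator hd hd' |> fun h => (Subgroup.commutator_le_self D) h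

/-- The subgroup generated by the `A`-conjugates of `D`: it contains `D`, is normalized by `A`, and is
the least such subgroup. -/
theorem exists_invariant_closure (A D : Subgroup G) : ∃ DS : Subgroup G, D ≤ DS ∧
    A ≤ Subgroup.normalizer (DS : Set G) ∧
    ∀ T : Subgroup G, (∀ a ∈ A, MulAut.conj a • D ≤ T) → DS ≤ T := by
  refine ⟨sSup {Y : Subgroup G | ∃ a ∈ A, Y = MulAut.conj a • D}, ?_, ?_, ?_⟩
  · apply le_sSup
    exact ⟨1, A.one_mem, by rw [map_one, one_smul]⟩
  · intro x hx
    have key : ∀ z ∈ A, ∀ Y ∈ {Y : Subgroup G | ∃ a ∈ A, Y = MulAut.conj a • D},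
        MulAut.conj z • Y ∈ {Y : Subgroup G | ∃ a ∈ A, Y = MulAut.conj a • D} := by
      rintro z hz Y ⟨a, ha, rfl⟩
      exact ⟨z * a, A.mul_mem hz ha, by rw [map_mul, mul_smul]⟩
    exact Cfsg.Agent.Lib.Lead_Subnormal.mem_normalizer_sSup x (key x hx) (key x⁻¹ (A.inv_mem hx))
  · intro T hT
    apply sSup_le
    rintro Y ⟨a, ha, rfl⟩
    exact hT a ha

end General

section PMinimal

variable {P : Type*} [Group P] [Finite P] {p : ℕ} [Fact p.Prime]

/-- For a normal `p'`-subgroup `D` and a prime `r` there is an `S`-invariant Sylow `r`-subgroup of `D`. -/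
theorem exists_invariant_isSylowIn (S : Sylow p P) {D : Subgroup P} [D.Normal]
    (hD : ¬ p ∣ Nat.card D) (r : ℕ) [Fact r.Prime] :
    ∃ U : Subgroup P, IsSylowIn r U D ∧
      (S : Subgroup P) ≤ Subgroup.normalizer (U : Set P) := by
  obtain ⟨U₀, hU₀⟩ := exists_isSylowIn r D
  obtain ⟨g, hg⟩ := exists_le_normalizer_conj_of_coprime hD hU₀ S.isPGroup'
  refine ⟨MulAut.conj g • U₀, ?_, hg⟩
  have h := hU₀.conj_smul g
  rwa [Subgroup.Normal.conj_smul_eq_self g D] at h

omit [Fact p.Prime] in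
/-- A normal `p'`-subgroup of a `p`-minimal group which lies in `M` has all its Sylow subgroups that
are `S`-invariant normal in `P`. -/
theorem normal_of_invariant_isSylowIn (hP : IsPMinimal p P) (S : Sylow p P) {M : Subgroup P}
    (hM : IsCoatom M) (hSM : (S : Subgroup P) ≤ M) {D : Subgroup P} [D.Normal] (hDM : D ≤ M)
    {r : ℕ} [Fact r.Prime] {U : Subgroup P} (hU : IsSylowIn r U D)
    (hSU : (S : Subgroup P) ≤ Subgroup.normalizer (U : Set P)) : U.Normal := by
  rw [← Subgroup.normalizer_eq_top_iff]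
  by_contra hne
  have h1 := le_of_sylow_le hP S hM hSM hSU hne
  apply hM.1
  rw [eq_top_iff, ← IsSylowIn.sup_normalizer_eq_top hU]
  exact sup_le hDM h1

/-- A normal `p'`-subgroup of a `p`-minimal group which does not lie in `M` is an `r`-group. -/
theorem exists_isPGroup_of_not_le (hP : IsPMinimal p P) (S : Sylow p P) {M : Subgroup P}
    (hM : IsCoatom M) (hSM : (S : Subgroup P) ≤ M) {D : Subgroup P} [D.Normal]
    (hD : ¬ p ∣ Nat.card D) (hDM : ¬ D ≤ M) : ∃ r : ℕ, r.Prime ∧ IsPGroup r ↥D := by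
  have hp : p.Prime := Fact.out
  by_contra hno
  push Not at hno
  apply hDM
  -- every prime has a Sylow subgroup of `D` inside `M`
  have hall : ∀ r : ℕ, r.Prime → ¬ r ∣ M.relIndex D := by
    intro r hr
    have hrF : Fact r.Prime := ⟨hr⟩
    obtain ⟨U, hU, hSU⟩ := exists_invariant_isSylowIn S hD r
    have hW : U ⊔ (S : Subgroup P) ≠ ⊤ := by
      intro hW
      have hUn : U.Normal := by
        rw [← Subgroup.normalizer_eq_top_iff, eq_top_iff, ← hW]
        exact sup_le Subgroup.le_normalizer hSU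
      have h1 : Nat.card ↥((S : Subgroup P) ⊔ U) ∣ Nat.card ↥(S : Subgroup P) * Nat.card ↥U :=
        Cfsg.Agent.Lib.Helper1_Cores.card_sup_dvd _ _
      rw [sup_comm, hW, Subgroup.card_top] at h1
      obtain ⟨a, ha⟩ := IsPGroup.iff_card.mp S.isPGroup'
      obtain ⟨b, hb⟩ := IsPGroup.iff_card.mp hU.isPGroup
      rw [ha, hb] at h1
      have h2 : Nat.card ↥D ∣ p ^ a * r ^ b := (Subgroup.card_subgroup_dvd_card D).trans h1
      have hcop : (Nat.card ↥D).Coprime (p ^ a) :=
        Nat.Coprime.pow_right a ((Nat.Prime.coprime_iff_not_dvd hp).mpr hD).symm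
      have h3 : Nat.card ↥D ∣ r ^ b := hcop.dvd_of_dvd_mul_left h2
      obtain ⟨k, -, hk⟩ := (Nat.dvd_prime_pow hr).mp h3
      exact hno r hr (IsPGroup.of_card hk)
    have hUM : U ≤ M := le_sup_left.trans (le_of_sylow_le hP S hM hSM le_sup_right hW)
    intro hdvd
    exact IsSylowIn.not_dvd_relIndex hU (hdvd.trans (Subgroup.relIndex_dvd_of_le_left D hUM))
  have h1 : M.relIndex D = 1 := by
    by_contra h1
    obtain ⟨r, hr, hrd⟩ := Nat.exists_prime_and_dvd h1
    exact hall r hr hrd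
  exact Subgroup.relIndex_eq_one.mp h1

/-- **Normal `p'`-subgroups of a `p`-minimal group are nilpotent.** -/
theorem isNilpotent_of_normal_of_not_dvd_card (hP : IsPMinimal p P) {D : Subgroup P} [D.Normal]
    (hD : ¬ p ∣ Nat.card D) : Group.IsNilpotent ↥D := by
  obtain ⟨S⟩ : Nonempty (Sylow p P) := inferInstance
  obtain ⟨M, ⟨hM, hSM⟩, -⟩ := (hP S).2
  by_cases hDM : D ≤ M
  · apply Cfsg.Agent.Lib.Helper1_Cores.isNilpotent_of_normal_sylows
    intro r hr
    have hrF : Fact r.Prime := ⟨hr⟩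
    obtain ⟨U, hU, hSU⟩ := exists_invariant_isSylowIn S hD r
    have hUn := normal_of_invariant_isSylowIn hP S hM hSM hDM hU hSU
    refine ⟨U.subgroupOf D, hUn.subgroupOf D, hU.isPGroup.comap_subtype, ?_⟩
    exact IsSylowIn.not_dvd_relIndex hU
  · obtain ⟨r, hr, hrD⟩ := exists_isPGroup_of_not_le hP S hM hSM hD hDM
    have hrF : Fact r.Prime := ⟨hr⟩
    exact hrD.isNilpotent

/-- In a `p`-minimal group, a subnormal subgroup containing a component has order divisible by `p`. -/
theorem dvd_card_of_component_le (hP : IsPMinimal p P) {N K : Subgroup P}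
    (hN : N.IsSubnormal) (hK : IsComponent K) (hKN : K ≤ N) : p ∣ Nat.card ↥N := by
  have hp : p.Prime := Fact.out
  by_contra h3
  have h4 : N ≤ pPrimeCore p P :=
    Cfsg.Agent.Lib.Helper30_Subnormal.subnormal_le_pPrimeCore p hN
      ((Nat.Prime.coprime_iff_not_dvd hp).mpr h3).symm
  have h5 : ¬ p ∣ Nat.card ↥(pPrimeCore p P) := by
    have := Cfsg.Agent.Lib.Helper1_Cores.pPrimeCore_card_coprime (G := P) p
    exact (Nat.Prime.coprime_iff_not_dvd hp).mp this.symm
  have h6 : Group.IsNilpotent ↥(pPrimeCore p P) := isNilpotent_of_normal_of_not_dvd_card hP h5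
  have h7 : Group.IsSolvable ↥(pPrimeCore p P) := IsNilpotent.to_isSolvable
  exact Cfsg.Agent.Lib.Helper21_Components.IsComponent.not_le_of_isSolvable hK h7 (hKN.trans h4)

/-- If `O_p(P) = 1`, a subnormal subgroup containing a component does not lie in `M`. -/
theorem not_le_of_component_le (hP : IsPMinimal p P) (hOp : pCore p P = ⊥) (S : Sylow p P)
    {M : Subgroup P} (hM : IsCoatom M) (hSM : (S : Subgroup P) ≤ M) {N K : Subgroup P}
    (hN : N.IsSubnormal) (hK : IsComponent K) (hKN : K ≤ N) : ¬ N ≤ M := by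
  intro hNM
  have h1 := subnormal_inf_sylow_le_pCore hP S hM hSM hN hNM
  rw [hOp, le_bot_iff, inf_comm] at h1
  have h2 : IsSylowIn p ((S : Subgroup P) ⊓ N) N := isSylowIn_inf_of_isSubnormal S hN
  exact h2.ne_bot (dvd_card_of_component_le hP hN hK hKN) h1

/-- If `O_p(P) = 1` and `P` has a component then `E(P) = O^p(P)`. -/
theorem layer_eq_pResidual (hP : IsPMinimal p P) (hOp : pCore p P = ⊥) {K : Subgroup P}
    (hK : IsComponent K) : layer P = pResidual p P := by
  obtain ⟨S⟩ : Nonempty (Sylow p P) := inferInstance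
  obtain ⟨M, ⟨hM, hSM⟩, -⟩ := (hP S).2
  apply le_antisymm
  · rw [Cfsg.Agent.Lib.Helper22_Layer.layer_le_iff]
    intro L hL
    have : Group.IsPerfect ↥L := hL.2.1
    exact le_pResidual_of_isPerfect p L
  · have hE : (layer P).Normal := inferInstance
    rcases pResidual_le_or_le_normalCore hP S hM hSM (layer P) hE with h | h
    · exact h
    · exfalso
      exact not_le_of_component_le hP hOp S hM hSM hE.isSubnormal hK
        (Cfsg.Agent.Lib.Helper29_Local.IsComponent.le_layer hK) (h.trans (Subgroup.normalCore_le M))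

/-- If `O_p(P) = 1` and `P` has a component then `C_P(E(P)) ≤ E(P)`. -/
theorem centralizer_layer_le (hP : IsPMinimal p P) (hOp : pCore p P = ⊥) {K : Subgroup P}
    (hK : IsComponent K) : Subgroup.centralizer (layer P : Set P) ≤ layer P := by
  have hp : p.Prime := Fact.out
  obtain ⟨S⟩ : Nonempty (Sylow p P) := inferInstance
  obtain ⟨M, ⟨hM, hSM⟩, -⟩ := (hP S).2
  have hER := layer_eq_pResidual hP hOp hK
  have hCn : (Subgroup.centralizer (layer P : Set P)).Normal := Subgroup.normal_centralizer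
  rcases pResidual_le_or_le_normalCore hP S hM hSM _ hCn with h | h
  · exfalso
    -- `K` would be abelian
    have h1 : K ≤ Subgroup.centralizer (layer P : Set P) :=
      (Cfsg.Agent.Lib.Helper29_Local.IsComponent.le_layer hK).trans (hER ▸ h)
    have h2 : ⁅K, K⁆ = ⊥ := by
      rw [Subgroup.commutator_eq_bot_iff_le_centralizer]
      exact h1.trans (Subgroup.centralizer_le
        (Cfsg.Agent.Lib.Helper29_Local.IsComponent.le_layer hK))
    rw [Cfsg.Agent.Lib.Helper21_Components.IsComponent.commutator_self hK] at h2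
    have := Cfsg.Agent.Lib.Helper29_Local.IsQuasisimple.nontrivial hK.2
    rw [Subgroup.nontrivial_iff_ne_bot] at this
    exact this h2
  · have hCM : Subgroup.centralizer (layer P : Set P) ≤ M := h.trans (Subgroup.normalCore_le M)
    have h1 := subnormal_inf_sylow_le_pCore hP S hM hSM hCn.isSubnormal hCM
    rw [hOp, le_bot_iff, inf_comm] at h1
    have h2 := isSylowIn_inf_of_isSubnormal S hCn.isSubnormal
    have h3 : ¬ p ∣ Nat.card ↥(Subgroup.centralizer (layer P : Set P)) :=
      fun hdvd => h2.ne_bot hdvd h1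
    -- the index of `E ∩ C` in `C` is a power of `p` dividing `|C|`
    have h4 : (layer P).relIndex (Subgroup.centralizer (layer P : Set P)) ∣ (layer P).index :=
      Subgroup.relIndex_dvd_index_of_normal _ _
    have h5 : (layer P).relIndex (Subgroup.centralizer (layer P : Set P)) ∣
        Nat.card ↥(Subgroup.centralizer (layer P : Set P)) := Subgroup.relIndex_dvd_card _ _
    obtain ⟨k, hk⟩ := IsPGroup.iff_card.mp
      (Cfsg.Agent.Lib.Helper2_PResidual.isPGroup_quotient_pResidual (G := P) (p := p))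
    have h6 : (layer P).index = p ^ k := by
      rw [hER, Subgroup.index_eq_card]
      exact hk
    rw [h6] at h4
    obtain ⟨j, -, hj⟩ := (Nat.dvd_prime_pow hp).mp h4
    have hj0 : j = 0 := by
      by_contra hj0
      apply h3
      refine dvd_trans ?_ h5
      rw [hj]
      exact dvd_pow_self p hj0
    rw [hj0, pow_zero, Subgroup.relIndex_eq_one] at hj
    exact hj

/-- If `O_p(P) = 1` and `P` has a component then `F(P) ≤ E(P)`. -/
theorem fittingSubgroup_le_layer (hP : IsPMinimal p P) (hOp : pCore p P = ⊥) {K : Subgroup P}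
    (hK : IsComponent K) : fittingSubgroup P ≤ layer P := by
  refine le_trans ?_ (centralizer_layer_le hP hOp hK)
  have h := Cfsg.Agent.Lib.Helper22_Layer.layer_commutator_fitting (X := P)
  rw [Subgroup.commutator_comm, Subgroup.commutator_eq_bot_iff_le_centralizer] at h
  exact h

/-- If `O_p(P) = 1`, the layer is generated by the `S`-conjugates of any component. -/
theorem layer_eq_iSup_conj (hP : IsPMinimal p P) (hOp : pCore p P = ⊥) (S : Sylow p P)
    {K : Subgroup P} (hK : IsComponent K) :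
    layer P = ⨆ s : ↥(S : Subgroup P), K.map (MulAut.conj (s : P)).toMonoidHom := by
  obtain ⟨M, ⟨hM, hSM⟩, -⟩ := (hP S).2
  have hER := layer_eq_pResidual hP hOp hK
  have hcomp : ∀ s : ↥(S : Subgroup P), IsComponent (K.map (MulAut.conj (s : P)).toMonoidHom) :=
    fun s => Cfsg.Agent.Lib.Helper29_Local.isComponent_map_mulEquiv (MulAut.conj (s : P)) hK
  obtain ⟨E₁, hE₁⟩ : ∃ E₁ : Subgroup P,
      E₁ = ⨆ s : ↥(S : Subgroup P), K.map (MulAut.conj (s : P)).toMonoidHom := ⟨_, rfl⟩
  rw [← hE₁]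
  have hle : E₁ ≤ layer P := by
    rw [hE₁]
    exact iSup_le fun s => Cfsg.Agent.Lib.Helper29_Local.IsComponent.le_layer (hcomp s)
  have hKE₁ : K ≤ E₁ := by
    rw [hE₁]
    refine le_trans ?_ (le_iSup _ (1 : ↥(S : Subgroup P)))
    intro x hx
    exact ⟨x, hx, by simp⟩
  -- `E₁` is normal
  have hnorm : ∀ x : P, (∀ s : ↥(S : Subgroup P), ∃ t : ↥(S : Subgroup P),
      MulAut.conj x • K.map (MulAut.conj (s : P)).toMonoidHom =
        K.map (MulAut.conj (t : P)).toMonoidHom) → MulAut.conj x • E₁ ≤ E₁ := by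
    intro x hx
    rw [hE₁, conj_smul_eq_map, Subgroup.map_iSup]
    refine iSup_le fun s => ?_
    obtain ⟨t, ht⟩ := hx s
    rw [conj_smul_eq_map] at ht
    rw [ht]
    exact le_iSup (fun s : ↥(S : Subgroup P) => K.map (MulAut.conj (s : P)).toMonoidHom) t
  have hxE : ∀ x ∈ layer P, MulAut.conj x • E₁ ≤ E₁ := by
    intro x hx
    apply hnorm
    intro s
    refine ⟨s, ?_⟩
    have h1 := Cfsg.Agent.Lib.Helper22_Layer.IsComponent.le_normalizer_layer (hcomp s) hx
    rw [conj_smul_eq_map]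
    exact Subgroup.mem_normalizer_iff_map_conj_eq.mp h1
  have hxS : ∀ x ∈ (S : Subgroup P), MulAut.conj x • E₁ ≤ E₁ := by
    intro x hx
    apply hnorm
    intro s
    refine ⟨⟨x, hx⟩ * s, ?_⟩
    rw [conj_smul_eq_map, Subgroup.map_map]
    congr 1
    ext y
    simp [MulAut.conj_apply, mul_assoc]
  have hE₁n : E₁.Normal := by
    rw [← Subgroup.normalizer_eq_top_iff, eq_top_iff,
      ← Cfsg.Agent.Lib.Helper2_PResidual.sylow_sup_pResidual S, ← hER]
    have hmem : ∀ x : P, MulAut.conj x • E₁ ≤ E₁ → MulAut.conj x⁻¹ • E₁ ≤ E₁ →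
        x ∈ Subgroup.normalizer (E₁ : Set P) := by
      intro x h1 h2
      rw [Subgroup.mem_normalizer_iff]
      intro y
      constructor
      · intro hy
        exact h1 (conj_mem_conj_smul hy)
      · intro hy
        have := h2 (conj_mem_conj_smul hy)
        have e : x⁻¹ * (x * y * x⁻¹) * x⁻¹⁻¹ = y := by group
        rwa [e] at this
    apply sup_le
    · intro x hx
      exact hmem x (hxS x hx) (hxS x⁻¹ ((S : Subgroup P).inv_mem hx))
    · intro x hx
      exact hmem x (hxE x hx) (hxE x⁻¹ ((layer P).inv_mem hx))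
  rcases pResidual_le_or_le_normalCore hP S hM hSM E₁ hE₁n with h | h
  · exact le_antisymm (hER ▸ h) hle
  · exfalso
    exact not_le_of_component_le hP hOp S hM hSM hE₁n.isSubnormal hK hKE₁
      (h.trans (Subgroup.normalCore_le M))

/-- Key lemma for the `p`-minimality of `K N_S(K)`: a subgroup `X ≥ N_S(K)` not containing the
component `K` meets `K` inside `M`. -/
theorem inf_component_le (hP : IsPMinimal p P) (hOp : pCore p P = ⊥) (S : Sylow p P)
    {M : Subgroup P} (hM : IsCoatom M) (hSM : (S : Subgroup P) ≤ M) {K : Subgroup P}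
    (hK : IsComponent K) {X : Subgroup P}
    (hSX : (S : Subgroup P) ⊓ Subgroup.normalizer (K : Set P) ≤ X) (hKX : ¬ K ≤ X) :
    X ⊓ K ≤ M := by
  obtain ⟨DS, hDDS, hSDS, hDSmin⟩ := exists_invariant_closure (S : Subgroup P) (X ⊓ K)
  by_cases hW : DS ⊔ (S : Subgroup P) = ⊤
  · exfalso
    have hDSn : DS.Normal := by
      rw [← Subgroup.normalizer_eq_top_iff, eq_top_iff, ← hW]
      exact sup_le Subgroup.le_normalizer hSDS
    rcases pResidual_le_or_le_normalCore hP S hM hSM DS hDSn with h | h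
    · have hKDS : K ≤ DS :=
        (Cfsg.Agent.Lib.Helper29_Local.IsComponent.le_layer hK).trans
          ((layer_eq_pResidual hP hOp hK) ▸ h)
      have hDSle : DS ≤ (X ⊓ K) ⊔ Subgroup.centralizer (K : Set P) := by
        apply hDSmin
        intro s hsS
        by_cases hs : s ∈ Subgroup.normalizer (K : Set P)
        · have hsX : s ∈ X := hSX ⟨hsS, hs⟩
          refine le_trans ?_ le_sup_left
          intro y hy
          rw [mem_conj_smul_iff] at hy
          constructor
          · have := X.mul_mem (X.mul_mem hsX hy.1) (X.inv_mem hsX)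
            have e : s * (s⁻¹ * y * s) * s⁻¹ = y := by group
            rwa [e] at this
          · have := (Subgroup.mem_normalizer_iff.mp hs _).mp hy.2
            have e : s * (s⁻¹ * y * s) * s⁻¹ = y := by group
            rwa [e] at this
        · have hne : MulAut.conj s • K ≠ K := by
            intro h
            apply hs
            rw [Subgroup.mem_normalizer_iff_map_conj_eq]
            rw [conj_smul_eq_map] at h
            exact h
          have hcomp : IsComponent (MulAut.conj s • K) :=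
            Cfsg.Agent.Lib.Helper29_Local.isComponent_map_mulEquiv (MulAut.conj s) hK
          have hcomm :=
            Cfsg.Agent.Lib.Helper21_Components.IsComponent.commutator_eq_bot_of_ne hcomp hK hne
          rw [Subgroup.commutator_eq_bot_iff_le_centralizer] at hcomm
          exact ((Subgroup.pointwise_smul_le_pointwise_smul_iff.mpr inf_le_right).trans
            hcomm).trans le_sup_right
      have h1 := commutator_le_of_le_sup_centralizer (inf_le_right : X ⊓ K ≤ K)
        (hKDS.trans hDSle)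
      rw [Cfsg.Agent.Lib.Helper21_Components.IsComponent.commutator_self hK] at h1
      exact hKX (h1.trans inf_le_left)
    · apply hM.1
      rw [eq_top_iff, ← hW]
      exact sup_le (h.trans (Subgroup.normalCore_le M)) hSM
  · exact hDDS.trans (le_sup_left.trans (le_of_sylow_le hP S hM hSM le_sup_right hW))

/-- If `O_p(P) = 1` and `K` is a component of the `p`-minimal group `P` then `K N_S(K)` is
`p`-minimal. -/
theorem isPMinimal_component_sup (hP : IsPMinimal p P) (hOp : pCore p P = ⊥) (S : Sylow p P)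
    {K : Subgroup P} (hK : IsComponent K) :
    IsPMinimal p ↥(K ⊔ ((S : Subgroup P) ⊓ Subgroup.normalizer (K : Set P))) := by
  obtain ⟨M, ⟨hM, hSM⟩, -⟩ := (hP S).2
  have hcoreX := fun X => inf_component_le hP hOp S hM hSM hK (X := X)
  obtain ⟨S₀, hS₀def⟩ : ∃ S₀ : Subgroup P,
      S₀ = (S : Subgroup P) ⊓ Subgroup.normalizer (K : Set P) := ⟨_, rfl⟩
  rw [← hS₀def] at hcoreX ⊢
  have hS₀S : S₀ ≤ (S : Subgroup P) := by rw [hS₀def]; exact inf_le_left
  have hS₀N : S₀ ≤ Subgroup.normalizer (K : Set P) := by rw [hS₀def]; exact inf_le_right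
  have hS₀p : IsPGroup p ↥S₀ := S.isPGroup'.to_le hS₀S
  have hinf : S₀ ⊓ K = (S : Subgroup P) ⊓ K := by
    rw [hS₀def, inf_assoc, inf_eq_right.mpr Subgroup.le_normalizer]
  have hKsyl : IsSylowIn p (S₀ ⊓ K) K := by
    rw [hinf]
    exact isSylowIn_inf_of_isSubnormal S hK.1
  have hsyl : IsSylowIn p S₀ (K ⊔ S₀) := isSylowIn_sup_of_le_normalizer hS₀p hS₀N hKsyl
  clear hS₀def
  have hKM : ¬ K ≤ M := not_le_of_component_le hP hOp S hM hSM hK.1 hK le_rfl
  have hcore : ∀ X : Subgroup P, S₀ ≤ X → X ≤ K ⊔ S₀ → ¬ K ≤ X → X ≤ M := by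
    intro X hSX hXY hKX
    have hXD : X ≤ (X ⊓ K) ⊔ S₀ := by
      intro x hx
      have h1 : x ∈ ((K ⊔ S₀ : Subgroup P) : Set P) := hXY hx
      rw [Subgroup.coe_mul_of_right_le_normalizer_left K S₀ hS₀N] at h1
      obtain ⟨k, hk, s, hs, rfl⟩ := h1
      have hkX : k ∈ X := by
        have := X.mul_mem hx (X.inv_mem (hSX hs))
        rwa [mul_inv_cancel_right] at this
      exact Subgroup.mul_mem_sup ⟨hkX, hk⟩ hs
    exact hXD.trans (sup_le (hcoreX X hSX hKX) (hS₀S.trans hSM))
  apply isPMinimal_of_sylow hsyl.toSylow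
  · show ¬ (S₀.subgroupOf (K ⊔ S₀)).Normal
    intro hn
    rw [Subgroup.normal_subgroupOf_iff_le_normalizer le_sup_right] at hn
    have hKN : K ≤ Subgroup.normalizer (S₀ : Set P) := le_sup_left.trans hn
    have hKQ : K ≤ Subgroup.normalizer ((S₀ ⊓ K : Subgroup P) : Set P) := by
      intro k hk
      have h1 := hKN hk
      rw [Subgroup.mem_normalizer_iff] at h1 ⊢
      intro y
      constructor
      · rintro ⟨hy1, hy2⟩
        exact ⟨(h1 y).mp hy1, K.mul_mem (K.mul_mem hk hy2) (K.inv_mem hk)⟩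
      · rintro ⟨hy1, hy2⟩
        refine ⟨(h1 y).mpr hy1, ?_⟩
        have := K.mul_mem (K.mul_mem (K.inv_mem hk) hy2) hk
        have e : k⁻¹ * (k * y * k⁻¹) * k = y := by group
        rwa [e] at this
    have hQ := Cfsg.Agent.Lib.Helper22_Cores.le_pCore_of_le_isSubnormal p hK.1
      (inf_le_right : S₀ ⊓ K ≤ K) hKQ (hS₀p.to_le inf_le_left)
    rw [hOp, le_bot_iff] at hQ
    exact hKsyl.ne_bot (dvd_card_of_component_le hP hK.1 hK le_rfl) hQ
  · show ∃! M' : Subgroup ↥(K ⊔ S₀), IsCoatom M' ∧ S₀.subgroupOf (K ⊔ S₀) ≤ M'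
    have hne : S₀.subgroupOf (K ⊔ S₀) ≠ ⊤ := by
      intro h
      rw [Subgroup.subgroupOf_eq_top] at h
      exact hKM ((le_sup_left.trans h).trans (hS₀S.trans hSM))
    obtain ⟨X₀, hX₀, hSX₀⟩ := (eq_top_or_exists_le_coatom _).resolve_left hne
    have hM3 : M.subgroupOf (K ⊔ S₀) ≠ ⊤ := by
      rw [Ne, Subgroup.subgroupOf_eq_top]
      intro h
      exact hKM (le_sup_left.trans h)
    have hall : ∀ X : Subgroup ↥(K ⊔ S₀), IsCoatom X → S₀.subgroupOf (K ⊔ S₀) ≤ X →
        M.subgroupOf (K ⊔ S₀) = X := by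
      intro X hX hSX
      have hS₀X : S₀ ≤ X.map (K ⊔ S₀).subtype := by
        intro x hx
        exact ⟨⟨x, (le_sup_right : S₀ ≤ K ⊔ S₀) hx⟩,
          hSX (by rw [Subgroup.mem_subgroupOf]; exact hx), rfl⟩
      have h1 : X.map (K ⊔ S₀).subtype ≤ M := by
        apply hcore _ hS₀X (Subgroup.map_subtype_le X)
        intro hKX
        apply hX.1
        rw [eq_top_iff]
        intro y _
        obtain ⟨z, hz, hzy⟩ := (sup_le hKX hS₀X) y.2
        have : z = y := Subtype.ext hzy
        rwa [← this]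
      have h2 : X ≤ M.subgroupOf (K ⊔ S₀) := by
        intro x hx
        rw [Subgroup.mem_subgroupOf]
        exact h1 ⟨x, hx, rfl⟩
      exact (hX.le_iff_eq hM3).mp h2
    refine ⟨X₀, ⟨hX₀, hSX₀⟩, ?_⟩
    rintro X ⟨hX, hSX⟩
    rw [← hall X hX hSX, ← hall X₀ hX₀ hSX₀]

end PMinimal

end Cfsg.Agent.Lib.Helper48_PMinimal2
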