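import Mathlib
import Cfsg.Agent.Lib.Helper22_Bender
import Cfsg.Agent.Lib.Helper22_Layer
import Cfsg.Agent.Lib.Helper21_Components
import Cfsg.Agent.Lib.Helper21_FStar
import Cfsg.Agent.Lib.Helper23_CharP
import Cfsg.Agent.Lib.Helper1_Cores
import Cfsg.Agent.Lib.Helper22_Cores
import Cfsg.Agent.Lib.Helper22_CoreCentralizer
import Cfsg.Agent.Lib.Helper22_FitLocal2
import Cfsg.Agent.Lib.Helper48_PMinimal2

/-!
Bender's lemma on maximal subgroups (helper31).

Inside a finite group `H`, let `S ≤ F*(H)` be subnormal in `F*(H)` with `C_{F*(H)}(S) ≤ S`, and let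
`X` be an `S`-invariant `p`-subgroup of `H`. Then `X` centralizes `E(H)` and `O_r(H)` for `r ≠ p`,
hence every `p'`-element of `F*(H)`.
-/

set_option autoImplicit false

namespace Cfsg.Agent.Lib.Helper31_Bender

open Subgroup Cfsg Cfsg.Agent.Lib.Helper22_Layer Cfsg.Agent.Lib.Helper29_Local

universe u

variable {H : Type u} [Group H] [Finite H]

/-- `E(H) ≤ S` for a subnormal self-centralizing subgroup `S` of `F*(H)`. -/
theorem layer_le_of_selfCentralizing (S : Subgroup H) (hSF : S ≤ generalizedFittingSubgroup H)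
    (hSsn : (S.subgroupOf (generalizedFittingSubgroup H)).IsSubnormal)
    (hSC : generalizedFittingSubgroup H ⊓ centralizer (S : Set H) ≤ S) : layer H ≤ S := by
  rw [layer_le_iff]
  intro L hL
  have hFn : (generalizedFittingSubgroup H).Normal := inferInstance
  have hS : S.IsSubnormal := Subgroup.IsSubnormal.trans hSF hSsn hFn.isSubnormal
  rcases Cfsg.Agent.Lib.Helper21_Components.IsComponent.le_or_commutator_eq_bot hL hS with h | h
  · exact h
  · exact le_trans (le_inf ((IsComponent.le_layer hL).trans le_sup_left)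
      (Subgroup.commutator_eq_bot_iff_le_centralizer.mp h)) hSC

/-- `E(H)` centralizes every solvable subgroup normalized by `S`. -/
theorem layer_le_centralizer_of_invariant (S : Subgroup H) (hES : layer H ≤ S)
    (X : Subgroup H) (hX : Group.IsSolvable ↥X) (hSX : S ≤ normalizer (X : Set H)) :
    layer H ≤ centralizer (X : Set H) := by
  rw [← Subgroup.commutator_eq_bot_iff_le_centralizer]
  apply layer_commutator_eq_bot
  intro L hL
  exact Cfsg.Agent.Lib.Helper21_Components.IsComponent.commutator_eq_bot_of_isSolvable hL hX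
    (((IsComponent.le_layer hL).trans hES).trans hSX)

/-- `F(H) ≤ O_r(H) O_{r'}(H)` -/
theorem fittingSubgroup_le_sup (r : ℕ) [Fact r.Prime] :
    fittingSubgroup H ≤ pCore r H ⊔ pPrimeCore r H := by
  rw [Cfsg.Agent.Lib.Helper1_Cores.fittingSubgroup_eq_iSup_pCore]
  apply iSup_le
  intro q
  by_cases hq : (q : ℕ) = r
  · rw [hq]; exact le_sup_left
  · have : Fact (q : ℕ).Prime := ⟨q.2⟩
    exact le_trans (Cfsg.Agent.Lib.Helper1_Cores.le_pPrimeCore
      (Cfsg.Agent.Lib.Helper1_Cores.pCore_normal (q : ℕ))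
      (Cfsg.Agent.Lib.Helper1_Cores.pCore_card_coprime hq)) le_sup_right

theorem disjoint_pCore_pPrimeCore (r : ℕ) [Fact r.Prime] : Disjoint (pCore r H) (pPrimeCore r H) := by
  apply Subgroup.disjoint_of_coprime_natCard
  obtain ⟨b, hb⟩ := IsPGroup.iff_card.mp (Cfsg.Agent.Lib.Helper1_Cores.pCore_isPGroup (G := H) r)
  rw [hb]
  exact Nat.Coprime.pow_left b (Cfsg.Agent.Lib.Helper1_Cores.pPrimeCore_card_coprime r).symm

/-- every `n ∈ F(H)` has a power `n ^ k ∈ O_r(H)` with `(n ^ k)⁻¹ n ∈ O_{r'}(H)` -/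
theorem exists_pow_mem_pCore (r : ℕ) [Fact r.Prime] {n : H} (hn : n ∈ fittingSubgroup H) :
    ∃ k : ℕ, n ^ k ∈ pCore r H ∧ (n ^ k)⁻¹ * n ∈ pPrimeCore r H := by
  have hrp : r.Prime := Fact.out
  have hRn : (pCore r H).Normal := Cfsg.Agent.Lib.Helper1_Cores.pCore_normal r
  have hCn : (pPrimeCore r H).Normal := Cfsg.Agent.Lib.Helper1_Cores.pPrimeCore_normal r
  obtain ⟨u, hu, c, hc, huc⟩ : ∃ u ∈ pCore r H, ∃ c ∈ pPrimeCore r H, u * c = n := by
    have h1 := fittingSubgroup_le_sup r hn
    rw [← SetLike.mem_coe, Subgroup.mul_normal] at h1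
    exact Set.mem_mul.mp h1
  have hcomm : Commute u c :=
    Subgroup.commute_of_normal_of_disjoint _ _ hRn hCn (disjoint_pCore_pPrimeCore r) u c hu hc
  have hou : ∃ j, orderOf u = r ^ j := by
    obtain ⟨j, hj⟩ := (Cfsg.Agent.Lib.Helper1_Cores.pCore_isPGroup (G := H) r) ⟨u, hu⟩
    have h2 : u ^ r ^ j = 1 := congrArg Subtype.val hj
    obtain ⟨i, _, hi⟩ := (Nat.dvd_prime_pow hrp).mp (orderOf_dvd_of_pow_eq_one h2)
    exact ⟨i, hi⟩
  have hoc : (orderOf c).Coprime r :=
    Nat.Coprime.coprime_dvd_left (Subgroup.orderOf_dvd_natCard _ hc)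
      (Cfsg.Agent.Lib.Helper1_Cores.pPrimeCore_card_coprime r)
  have hcop : (orderOf u).Coprime (orderOf c) := by
    obtain ⟨j, hj⟩ := hou
    rw [hj]; exact Nat.Coprime.pow_left j hoc.symm
  obtain ⟨k, hk1, hk0⟩ := Nat.chineseRemainder hcop 1 0
  have hu1 : u ^ k = u := by
    have := pow_eq_pow_iff_modEq.mpr hk1
    rwa [pow_one] at this
  have hc1 : c ^ k = 1 := by
    have := pow_eq_pow_iff_modEq.mpr hk0
    rwa [pow_zero] at this
  have hnk : n ^ k = u := by
    rw [← huc, hcomm.mul_pow, hu1, hc1, mul_one]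
  refine ⟨k, by rw [hnk]; exact hu, ?_⟩
  rw [hnk, ← huc, inv_mul_cancel_left]
  exact hc

/-- an element of `O_r(H)` commuting with `S ∩ O_r(H)` centralizes `S` -/
theorem mem_centralizer_of_commute_inf_pCore (S : Subgroup H) (hSF : S ≤ generalizedFittingSubgroup H)
    (hES : layer H ≤ S) (r : ℕ) [Fact r.Prime] {d : H} (hd : d ∈ pCore r H)
    (hdS : ∀ b ∈ S ⊓ pCore r H, d * b = b * d) : d ∈ centralizer (S : Set H) := by
  have hRn : (pCore r H).Normal := Cfsg.Agent.Lib.Helper1_Cores.pCore_normal r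
  have hCn : (pPrimeCore r H).Normal := Cfsg.Agent.Lib.Helper1_Cores.pPrimeCore_normal r
  have hdN : d ∈ fittingSubgroup H := Cfsg.Agent.Lib.Helper1_Cores.pCore_le_fittingSubgroup r hd
  rw [mem_centralizer_iff]
  intro s hs
  have hEn : (layer H).Normal := inferInstance
  obtain ⟨e, he, n, hn, hen⟩ : ∃ e ∈ layer H, ∃ n ∈ fittingSubgroup H, e * n = s := by
    have h1 := hSF hs
    unfold generalizedFittingSubgroup at h1
    rw [← SetLike.mem_coe, Subgroup.normal_mul] at h1
    exact Set.mem_mul.mp h1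
  have hnS : n ∈ S := by
    have : n = e⁻¹ * s := by rw [← hen, inv_mul_cancel_left]
    rw [this]
    exact S.mul_mem (S.inv_mem (hES he)) hs
  obtain ⟨k, hk1, hk2⟩ := exists_pow_mem_pCore r hn
  have hde : d * e = e * d := by
    have h2 := layer_commutator_fitting (X := H)
    rw [Subgroup.commutator_eq_bot_iff_le_centralizer] at h2
    exact mem_centralizer_iff.mp (h2 he) d hdN
  have hdu : d * n ^ k = n ^ k * d := hdS _ ⟨S.pow_mem hnS k, hk1⟩
  have hdc : d * ((n ^ k)⁻¹ * n) = ((n ^ k)⁻¹ * n) * d :=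
    (Subgroup.commute_of_normal_of_disjoint _ _ hRn hCn (disjoint_pCore_pPrimeCore r) d _ hd hk2).eq
  have hs' : s = e * (n ^ k * ((n ^ k)⁻¹ * n)) := by rw [mul_inv_cancel_left, hen]
  rw [hs']
  calc e * (n ^ k * ((n ^ k)⁻¹ * n)) * d = e * (n ^ k * (((n ^ k)⁻¹ * n) * d)) := by group
    _ = e * (n ^ k * (d * ((n ^ k)⁻¹ * n))) := by rw [hdc]
    _ = e * ((n ^ k * d) * ((n ^ k)⁻¹ * n)) := by group
    _ = e * ((d * n ^ k) * ((n ^ k)⁻¹ * n)) := by rw [hdu]
    _ = (e * d) * (n ^ k * ((n ^ k)⁻¹ * n)) := by group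
    _ = (d * e) * (n ^ k * ((n ^ k)⁻¹ * n)) := by rw [hde]
    _ = d * (e * (n ^ k * ((n ^ k)⁻¹ * n))) := by group

/-- an `S`-invariant `p`-subgroup `X` centralizes `O_r(H)` for `r ≠ p` -/
theorem pCore_le_centralizer_of_invariant (S : Subgroup H) (hSF : S ≤ generalizedFittingSubgroup H)
    (hES : layer H ≤ S) (hSC : generalizedFittingSubgroup H ⊓ centralizer (S : Set H) ≤ S)
    (p : ℕ) [Fact p.Prime] (X : Subgroup H) (hX : IsPGroup p ↥X) (hSX : S ≤ normalizer (X : Set H))
    (r : ℕ) [Fact r.Prime] (hr : r ≠ p) : pCore r H ≤ centralizer (X : Set H) := by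
  have hpp : p.Prime := Fact.out
  have hrp : r.Prime := Fact.out
  have hRn : (pCore r H).Normal := Cfsg.Agent.Lib.Helper1_Cores.pCore_normal r
  have hR : IsPGroup r ↥(pCore r H) := Cfsg.Agent.Lib.Helper1_Cores.pCore_isPGroup r
  have hdisj : X ⊓ pCore r H = ⊥ :=
    (IsPGroup.disjoint_of_ne p r hr.symm _ _ hX hR).eq_bot
  intro q hq
  rw [mem_centralizer_iff]
  intro x hx
  have hxo : (orderOf x).Coprime r := by
    obtain ⟨j, hj⟩ := hX ⟨x, hx⟩
    have h2 : x ^ p ^ j = 1 := congrArg Subtype.val hj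
    obtain ⟨i, _, hi⟩ := (Nat.dvd_prime_pow hpp).mp (orderOf_dvd_of_pow_eq_one h2)
    rw [hi]
    exact Nat.Coprime.pow_left i ((Nat.coprime_primes hpp hrp).mpr hr.symm)
  have hxP : ∀ b ∈ S ⊓ pCore r H, x * b = b * x := by
    intro b hb
    have h1 : x * b * x⁻¹ * b⁻¹ ∈ X ⊓ pCore r H := by
      constructor
      · have hb' : b * x⁻¹ * b⁻¹ ∈ X := (mem_normalizer_iff.mp (hSX hb.1) x⁻¹).mp (X.inv_mem hx)
        have e : x * b * x⁻¹ * b⁻¹ = x * (b * x⁻¹ * b⁻¹) := by group
        rw [e]; exact X.mul_mem hx hb'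
      · exact Subgroup.mul_mem _ (hRn.conj_mem b hb.2 x) (Subgroup.inv_mem _ hb.2)
    rw [hdisj, mem_bot] at h1
    calc x * b = (x * b * x⁻¹ * b⁻¹) * b * x := by group
      _ = b * x := by rw [h1, one_mul]
  have key := Cfsg.Agent.Lib.Helper23_CharP.pxq (p := r) (pCore r H) (S ⊓ pCore r H) hR
    (hR.to_le inf_le_right) (by rw [Subgroup.normalizer_eq_top]; exact le_top) x hxo
    (fun q hq => hRn.conj_mem q hq x) hxP (by
      intro d hd hdP
      have hdS : d ∈ S := by
        apply hSC
        refine ⟨(Cfsg.Agent.Lib.Helper1_Cores.pCore_le_fittingSubgroup r).trans le_sup_right hd, ?_⟩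
        exact mem_centralizer_of_commute_inf_pCore S hSF hES r hd hdP
      exact hxP d ⟨hdS, hd⟩)
  exact (key q hq)

open Cfsg.Agent.Lib.Helper22_Bender in
/-- an `S`-invariant `p`-subgroup centralizes the part of `F*(H)` away from `p` -/
theorem awayPart_le_centralizer_of_invariant (S : Subgroup H) (hSF : S ≤ generalizedFittingSubgroup H)
    (hES : layer H ≤ S) (hSC : generalizedFittingSubgroup H ⊓ centralizer (S : Set H) ≤ S)
    (p : ℕ) [Fact p.Prime] (X : Subgroup H) (hX : IsPGroup p ↥X) (hSX : S ≤ normalizer (X : Set H)) :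
    awayPart p H ≤ centralizer (X : Set H) := by
  unfold awayPart
  have hsolv : Group.IsSolvable ↥X := by
    have : Group.IsNilpotent ↥X := hX.isNilpotent
    infer_instance
  apply sup_le (layer_le_centralizer_of_invariant S hES X hsolv hSX)
  apply iSup_le
  rintro ⟨r, hr⟩
  have : Fact (r : ℕ).Prime := ⟨r.2⟩
  exact pCore_le_centralizer_of_invariant S hSF hES hSC p X hX hSX (r : ℕ) hr

open Cfsg.Agent.Lib.Helper22_Bender in
/-- the `p'`-elements of `F*(H)` lie in the part away from `p` -/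
theorem mem_awayPart_of_coprime (p : ℕ) [Fact p.Prime] {f : H} (hf : f ∈ generalizedFittingSubgroup H)
    (hfo : (orderOf f).Coprime p) : f ∈ awayPart p H := by
  have hpp : p.Prime := Fact.out
  have hKn : (awayPart p H).Normal := awayPart_normal p
  obtain ⟨u, hu, k, hk, huk⟩ : ∃ u ∈ pCore p H, ∃ k ∈ awayPart p H, u * k = f := by
    have h1 := generalizedFitting_le_sup p hf
    rw [← SetLike.mem_coe, Subgroup.mul_normal] at h1
    exact Set.mem_mul.mp h1
  have hπ : QuotientGroup.mk' (awayPart p H) f = QuotientGroup.mk' (awayPart p H) u := by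
    have hk1 : QuotientGroup.mk' (awayPart p H) k = 1 := (QuotientGroup.eq_one_iff k).mpr hk
    rw [← huk, map_mul, hk1, mul_one]
  have h1 : orderOf (QuotientGroup.mk' (awayPart p H) f) ∣ orderOf f := orderOf_map_dvd _ f
  have h2 : orderOf (QuotientGroup.mk' (awayPart p H) f) ∣ orderOf u := by
    rw [hπ]; exact orderOf_map_dvd _ u
  obtain ⟨j, hj⟩ : ∃ j, orderOf u = p ^ j := by
    obtain ⟨j, hj⟩ := (Cfsg.Agent.Lib.Helper1_Cores.pCore_isPGroup (G := H) p) ⟨u, hu⟩
    have h3 : u ^ p ^ j = 1 := congrArg Subtype.val hj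
    obtain ⟨i, _, hi⟩ := (Nat.dvd_prime_pow hpp).mp (orderOf_dvd_of_pow_eq_one h3)
    exact ⟨i, hi⟩
  have hcop : (orderOf f).Coprime (orderOf u) := by
    rw [hj]; exact Nat.Coprime.pow_right j hfo
  have h3 : orderOf (QuotientGroup.mk' (awayPart p H) f) = 1 := Nat.eq_one_of_dvd_coprimes hcop h1 h2
  have h4 : QuotientGroup.mk' (awayPart p H) f = 1 := orderOf_eq_one_iff.mp h3
  exact (QuotientGroup.eq_one_iff f).mp h4

open Cfsg.Agent.Lib.Helper22_Bender in
/-- an `S`-invariant `p`-subgroup centralizes every `p'`-element of `F*(H)` -/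
theorem commute_of_coprime_of_invariant (S : Subgroup H) (hSF : S ≤ generalizedFittingSubgroup H)
    (hES : layer H ≤ S) (hSC : generalizedFittingSubgroup H ⊓ centralizer (S : Set H) ≤ S)
    (p : ℕ) [Fact p.Prime] (X : Subgroup H) (hX : IsPGroup p ↥X) (hSX : S ≤ normalizer (X : Set H))
    {f : H} (hf : f ∈ generalizedFittingSubgroup H) (hfo : (orderOf f).Coprime p) {x : H} (hx : x ∈ X) :
    f * x = x * f :=
  (mem_centralizer_iff.mp (awayPart_le_centralizer_of_invariant S hSF hES hSC p X hX hSX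
    (mem_awayPart_of_coprime p hf hfo)) x hx).symm

open Cfsg.Agent.Lib.Helper22_Bender in
/-- if `O_p(H) = 1` then the only `S`-invariant `p`-subgroup of `H` is trivial -/
theorem eq_bot_of_invariant_of_pCore_eq_bot (S : Subgroup H) (hSF : S ≤ generalizedFittingSubgroup H)
    (hES : layer H ≤ S) (hSC : generalizedFittingSubgroup H ⊓ centralizer (S : Set H) ≤ S)
    (p : ℕ) [Fact p.Prime] (X : Subgroup H) (hX : IsPGroup p ↥X) (hSX : S ≤ normalizer (X : Set H))
    (hp : pCore p H = ⊥) : X = ⊥ := by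
  have hFn : (generalizedFittingSubgroup H).Normal := inferInstance
  have h1 : generalizedFittingSubgroup H ≤ centralizer (X : Set H) := by
    refine (generalizedFitting_le_sup p).trans ?_
    rw [hp, bot_sup_eq]
    exact awayPart_le_centralizer_of_invariant S hSF hES hSC p X hX hSX
  have h2 : X ≤ centralizer (generalizedFittingSubgroup H : Set H) := by
    intro x hx
    rw [mem_centralizer_iff]
    intro f hf
    exact (mem_centralizer_iff.mp (h1 hf) x hx).symm
  have h3 : X ≤ generalizedFittingSubgroup H :=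
    h2.trans Cfsg.Agent.Lib.Helper21_FStar.centralizer_generalizedFitting_le
  have h4 : X ≤ pCore p H :=
    Cfsg.Agent.Lib.Helper22_Cores.le_pCore_of_le_isSubnormal p (H := generalizedFittingSubgroup H)
      hFn.isSubnormal h3 (h1.trans (centralizer_le_normalizer _)) hX
  rw [hp] at h4
  exact le_bot_iff.mp h4

/-! ### inside an ambient group -/

section ambient

open Cfsg.Agent.Lib.Helper22_Bender Cfsg.Agent.Lib.Helper22_CoreCentralizer
  Cfsg.Agent.Lib.Helper22_FitLocal

variable {G : Type u} [Group G] [Finite G]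

/-- the hypotheses on `S ≤ F*(A)` (in `G`), transported into the group `↥A` -/
theorem transport (A S : Subgroup G) (hSF : S ≤ fstarOf A)
    (hSsn : (S.subgroupOf (fstarOf A)).IsSubnormal)
    (hSC : fstarOf A ⊓ centralizer (S : Set G) ≤ S) :
    S.subgroupOf A ≤ generalizedFittingSubgroup ↥A ∧ layer ↥A ≤ S.subgroupOf A ∧
      generalizedFittingSubgroup ↥A ⊓ centralizer ((S.subgroupOf A : Subgroup ↥A) : Set ↥A) ≤
        S.subgroupOf A := by
  have hSA : S ≤ A := hSF.trans (Subgroup.map_subtype_le _)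
  have h1 : S.subgroupOf A ≤ generalizedFittingSubgroup ↥A := by
    intro x hx
    obtain ⟨y, hy, hyx⟩ := hSF (mem_subgroupOf.mp hx)
    have : y = x := Subtype.ext hyx
    rw [← this]; exact hy
  have h3 : generalizedFittingSubgroup ↥A ⊓ centralizer ((S.subgroupOf A : Subgroup ↥A) : Set ↥A) ≤
      S.subgroupOf A := by
    intro x hx
    rw [mem_subgroupOf]
    apply hSC
    refine Subgroup.mem_inf.mpr ⟨⟨x, hx.1, rfl⟩, ?_⟩
    rw [mem_centralizer_iff]
    intro s hs
    have := mem_centralizer_iff.mp hx.2 ⟨s, hSA hs⟩ (mem_subgroupOf.mpr hs)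
    exact congrArg Subtype.val this
  have h2 : ((S.subgroupOf A).subgroupOf (generalizedFittingSubgroup ↥A)).IsSubnormal := by
    have e := (generalizedFittingSubgroup ↥A).equivMapOfInjective A.subtype A.subtype_injective
    have h := hSsn.comap
      ((generalizedFittingSubgroup ↥A).equivMapOfInjective A.subtype A.subtype_injective).toMonoidHom
    have heq : (S.subgroupOf A).subgroupOf (generalizedFittingSubgroup ↥A) =
        (S.subgroupOf (fstarOf A)).comap
          ((generalizedFittingSubgroup ↥A).equivMapOfInjective A.subtype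
            A.subtype_injective).toMonoidHom := by
      ext x
      rw [mem_subgroupOf, mem_subgroupOf, mem_comap, mem_subgroupOf]
      rfl
    rw [heq]; exact h
  exact ⟨h1, layer_le_of_selfCentralizing _ h1 h2 h3, h3⟩

/-- **Bender's lemma (a).** `O_q(B) ∩ A = 1` when `q ∤ |F(A)|`. -/
theorem pCoreOf_inf_eq_bot (A S B : Subgroup G) (hSF : S ≤ fstarOf A)
    (hSsn : (S.subgroupOf (fstarOf A)).IsSubnormal)
    (hSC : fstarOf A ⊓ centralizer (S : Set G) ≤ S) (hSB : S ≤ B) (q : ℕ) (hq : q.Prime)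
    (hqn : ¬ q ∣ Nat.card (fittingSubgroup ↥A)) : pCoreOf q B ⊓ A = ⊥ := by
  have : Fact q.Prime := ⟨hq⟩
  obtain ⟨hSF', hES', hSC'⟩ := transport A S hSF hSsn hSC
  have hX'p : IsPGroup q ↥((pCoreOf q B).subgroupOf A) := (isPGroup_pCoreOf q B).comap_subtype
  have hSX' : S.subgroupOf A ≤ normalizer (((pCoreOf q B).subgroupOf A : Subgroup ↥A) : Set ↥A) :=
    fun s hs => mem_normalizer_subgroupOf s (le_normalizer_pCoreOf q B (hSB (mem_subgroupOf.mp hs)))
  have hcore : pCore q ↥A = ⊥ := by
    have hle : pCore q ↥A ≤ fittingSubgroup ↥A := Cfsg.Agent.Lib.Helper1_Cores.pCore_le_fittingSubgroup q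
    have hdvd : Nat.card ↥(pCore q ↥A) ∣ Nat.card ↥(fittingSubgroup ↥A) := Subgroup.card_dvd_of_le hle
    obtain ⟨j, hj⟩ := IsPGroup.iff_card.mp (Cfsg.Agent.Lib.Helper1_Cores.pCore_isPGroup (G := ↥A) q)
    rcases Nat.eq_zero_or_pos j with h0 | h0
    · rw [h0, pow_zero] at hj
      exact Subgroup.card_eq_one.mp hj
    · exfalso
      apply hqn
      exact dvd_trans (dvd_trans (dvd_pow_self q h0.ne') (dvd_of_eq hj.symm)) hdvd
  have hbot := eq_bot_of_invariant_of_pCore_eq_bot (S.subgroupOf A) hSF' hES' hSC' q _ hX'p hSX' hcore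
  rw [Subgroup.subgroupOf_eq_bot] at hbot
  exact hbot.eq_bot

/-- `zpart r A` lies in the centre of `F*(A)`, hence in `S` -/
theorem zpart_le_centralizer_fstarOf (A : Subgroup G) (r : ℕ) :
    zpart r A ≤ centralizer ((fstarOf A : Subgroup G) : Set G) := by
  intro z hz
  rw [mem_centralizer_iff]
  rintro _ ⟨f, hf, rfl⟩
  obtain ⟨z', hz', hzz⟩ := zpart_le_fittingOf r A hz
  have hzc := zpart_le_centralizer r A hz
  have hle : generalizedFittingSubgroup ↥A ≤ centralizer ({z'} : Set ↥A) := by
    unfold generalizedFittingSubgroup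
    apply sup_le
    · intro e he
      have h2 := layer_commutator_fitting (X := ↥A)
      rw [Subgroup.commutator_eq_bot_iff_le_centralizer] at h2
      rw [mem_centralizer_iff]
      intro w hw
      rw [Set.mem_singleton_iff] at hw
      rw [hw]
      exact mem_centralizer_iff.mp (h2 he) z' hz'
    · intro n hn
      rw [mem_centralizer_iff]
      intro w hw
      rw [Set.mem_singleton_iff] at hw
      rw [hw]
      have h3 := mem_centralizer_iff.mp hzc (A.subtype n) ⟨n, hn, rfl⟩
      apply Subtype.ext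
      rw [Subgroup.coe_mul, Subgroup.coe_mul]
      rw [← hzz] at h3
      exact h3.symm
  have h4 := mem_centralizer_iff.mp (hle hf) z' (Set.mem_singleton z')
  have h5 := congrArg Subtype.val h4
  rw [Subgroup.coe_mul, Subgroup.coe_mul] at h5
  rw [← hzz]
  exact h5.symm

theorem zpart_le_of_selfCentralizing (A S : Subgroup G) (hSF : S ≤ fstarOf A)
    (hSC : fstarOf A ⊓ centralizer (S : Set G) ≤ S) (r : ℕ) : zpart r A ≤ S := by
  intro z hz
  apply hSC
  refine Subgroup.mem_inf.mpr ⟨?_, ?_⟩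
  · exact Subgroup.map_mono (le_sup_right : fittingSubgroup ↥A ≤ generalizedFittingSubgroup ↥A)
      (zpart_le_fittingOf r A hz)
  · exact Subgroup.centralizer_le (show (S : Set G) ⊆ fstarOf A from hSF)
      (zpart_le_centralizer_fstarOf A r hz)

/-- **Bender's lemma (b).** `O_p(B)` centralizes the part of `F*(A)` away from `p` when
`p ∣ |F(A)|`. -/
theorem pCoreOf_commute_awayPart [IsSimpleGroup G] (A : Subgroup G) (hA : IsCoatom A)
    (S B : Subgroup G) (hSF : S ≤ fstarOf A) (hSsn : (S.subgroupOf (fstarOf A)).IsSubnormal)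
    (hSC : fstarOf A ⊓ centralizer (S : Set G) ≤ S) (hSB : S ≤ B) (p : ℕ) (hp : p.Prime)
    (hpd : p ∣ Nat.card (fittingSubgroup ↥A)) :
    ∀ x ∈ pCoreOf p B, ∀ k ∈ awayPart p ↥A, x * (k : G) = (k : G) * x := by
  have : Fact p.Prime := ⟨hp⟩
  obtain ⟨hSF', hES', hSC'⟩ := transport A S hSF hSsn hSC
  have hSA : S ≤ A := hSF.trans (Subgroup.map_subtype_le _)
  have hYp : IsPGroup p ↥(pCoreOf p B) := isPGroup_pCoreOf p B
  have hBY : B ≤ normalizer ((pCoreOf p B : Subgroup G) : Set G) := le_normalizer_pCoreOf p B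
  have hX'p : IsPGroup p ↥((pCoreOf p B).subgroupOf A) := hYp.comap_subtype
  have hSX' : S.subgroupOf A ≤ normalizer (((pCoreOf p B).subgroupOf A : Subgroup ↥A) : Set ↥A) :=
    fun s hs => mem_normalizer_subgroupOf s (hBY (hSB (mem_subgroupOf.mp hs)))
  have haway := awayPart_le_centralizer_of_invariant (S.subgroupOf A) hSF' hES' hSC' p _ hX'p hSX'
  have hcomm : ∀ y ∈ pCoreOf p B, y ∈ A → ∀ k ∈ awayPart p ↥A, y * (k : G) = (k : G) * y := by
    intro y hy hyA k hk
    have h1 := mem_centralizer_iff.mp (haway hk) ⟨y, hyA⟩ (mem_subgroupOf.mpr hy)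
    exact congrArg Subtype.val h1
  by_cases hK : awayPart p ↥A = ⊥
  · intro x _ k hk
    rw [hK, mem_bot] at hk
    rw [hk]; simp
  · -- the `p`-part of `Z(F(A))`
    have hcardF : Nat.card ↥(fittingOf A) = Nat.card ↥(fittingSubgroup ↥A) :=
      Subgroup.card_map_of_injective A.subtype_injective
    have hZp : IsPGroup p ↥(zpart p A) := zpart_isPGroup p A
    have hZne : zpart p A ≠ ⊥ := zpart_ne_bot A (by rw [hcardF]; exact hpd)
    have hZA : zpart p A ≤ A := (zpart_le_fittingOf p A).trans (Subgroup.map_subtype_le _)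
    have hNZ : normalizer ((zpart p A : Subgroup G) : Set G) = A :=
      normalizer_eq_of_isCoatom hA hZA hZne (le_normalizer_zpart p A)
    have hZS : zpart p A ≤ S := zpart_le_of_selfCentralizing A S hSF hSC p
    -- step 1: the `p'`-elements of `S` centralize `O_p(B)`
    have step1 : ∀ t ∈ S, (orderOf t).Coprime p → ∀ y ∈ pCoreOf p B, t * y = y * t := by
      intro t ht hto
      apply Cfsg.Agent.Lib.Helper23_CharP.pxq (p := p) (pCoreOf p B) (zpart p A) hYp hZp
        ((hZS.trans hSB).trans hBY) t hto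
      · intro y hy
        exact (mem_normalizer_iff.mp (hBY (hSB ht)) y).mp hy
      · intro b hb
        exact mem_centralizer_iff.mp (zpart_le_centralizer_fstarOf A p hb) t (hSF ht)
      · intro y hy hyZ
        have hyN : y ∈ normalizer ((zpart p A : Subgroup G) : Set G) := by
          apply centralizer_le_normalizer
          rw [mem_centralizer_iff]
          intro b hb
          exact (hyZ b hb).symm
        rw [hNZ] at hyN
        obtain ⟨f, hf, hft⟩ := hSF ht
        have hfo : (orderOf f).Coprime p := by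
          have : orderOf (f : G) = orderOf f := Subgroup.orderOf_coe f
          rw [← this]
          have h2 : (f : G) = t := hft
          rw [h2]; exact hto
        have h3 := commute_of_coprime_of_invariant (S.subgroupOf A) hSF' hES' hSC' p _ hX'p hSX'
          hf hfo (x := ⟨y, hyN⟩) (mem_subgroupOf.mpr hy)
        have h4 := congrArg Subtype.val h3
        rw [Subgroup.coe_mul, Subgroup.coe_mul] at h4
        have h2 : (f : G) = t := hft
        rw [h2] at h4
        exact h4
    -- step 2: a nontrivial normal subgroup `W` of `A` centralizing `O_p(B)`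
    have step2 : ∃ W : Subgroup G, W ≠ ⊥ ∧ W ≤ A ∧ A ≤ normalizer (W : Set G) ∧
        ∀ w ∈ W, ∀ y ∈ pCoreOf p B, w * y = y * w := by
      by_cases hE : layer ↥A = ⊥
      · -- some `O_r(A) ≠ 1` with `r ≠ p`
        have hex : ∃ r : {r : Nat.Primes // (r : ℕ) ≠ p}, pCore (r : ℕ) ↥A ≠ ⊥ := by
          by_contra hcon
          push Not at hcon
          apply hK
          unfold awayPart
          rw [hE, bot_sup_eq, eq_bot_iff]
          apply iSup_le
          intro r
          rw [hcon r]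
        obtain ⟨⟨r, hr⟩, hrne⟩ := hex
        have : Fact (r : ℕ).Prime := ⟨r.2⟩
        have hrd : (r : ℕ) ∣ Nat.card ↥(fittingOf A) := by
          rw [hcardF]
          have hle : pCore (r : ℕ) ↥A ≤ fittingSubgroup ↥A :=
            Cfsg.Agent.Lib.Helper1_Cores.pCore_le_fittingSubgroup (r : ℕ)
          have hdvd : Nat.card ↥(pCore (r : ℕ) ↥A) ∣ Nat.card ↥(fittingSubgroup ↥A) :=
            Subgroup.card_dvd_of_le hle
          obtain ⟨j, hj⟩ := IsPGroup.iff_card.mp
            (Cfsg.Agent.Lib.Helper1_Cores.pCore_isPGroup (G := ↥A) (r : ℕ))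
          rcases Nat.eq_zero_or_pos j with h0 | h0
          · rw [h0, pow_zero] at hj
            exact absurd (Subgroup.card_eq_one.mp hj) hrne
          · exact dvd_trans (dvd_trans (dvd_pow_self (r : ℕ) h0.ne') (dvd_of_eq hj.symm)) hdvd
        refine ⟨zpart (r : ℕ) A, zpart_ne_bot A hrd,
          (zpart_le_fittingOf (r : ℕ) A).trans (Subgroup.map_subtype_le _),
          le_normalizer_zpart (r : ℕ) A, ?_⟩
        intro w hw
        apply step1 w (zpart_le_of_selfCentralizing A S hSF hSC (r : ℕ) hw)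
        obtain ⟨j, hj⟩ := (zpart_isPGroup (r : ℕ) A) ⟨w, hw⟩
        have h2 : w ^ (r : ℕ) ^ j = 1 := congrArg Subtype.val hj
        obtain ⟨i, _, hi⟩ := (Nat.dvd_prime_pow r.2).mp (orderOf_dvd_of_pow_eq_one h2)
        rw [hi]
        exact Nat.Coprime.pow_left i ((Nat.coprime_primes r.2 hp).mpr hr)
      · -- the layer
        have hEn : (layer ↥A).Normal := inferInstance
        refine ⟨(layer ↥A).map A.subtype, ?_, Subgroup.map_subtype_le _,
          le_normalizer_map_subtype (layer ↥A), ?_⟩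
        · intro h
          exact hE ((Subgroup.map_eq_bot_iff_of_injective _ A.subtype_injective).mp h)
        · have hperf : Group.IsPerfect ↥(layer ↥A) := Subgroup.isPerfect_iff.mpr layer_perfect
          have htop := Cfsg.Agent.Lib.Helper48_PMinimal2.pResidual_eq_top_of_isPerfect ↥(layer ↥A) p
          have hle : pResidual p ↥(layer ↥A) ≤
              (centralizer ((pCoreOf p B : Subgroup G) : Set G)).comap
                (A.subtype.comp (layer ↥A).subtype) := by
            unfold pResidual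
            rw [Subgroup.closure_le]
            intro g hg
            rw [SetLike.mem_coe, mem_comap, mem_centralizer_iff]
            intro y hy
            have hgS : ((g : ↥A) : G) ∈ S := mem_subgroupOf.mp (hES' g.2)
            have hgo : (orderOf ((g : ↥A) : G)).Coprime p := by
              rw [Subgroup.orderOf_coe, Subgroup.orderOf_coe]; exact hg
            exact (step1 _ hgS hgo y hy).symm
          rw [htop] at hle
          rintro _ ⟨e, he, rfl⟩ y hy
          have h1 := hle (Subgroup.mem_top (⟨e, he⟩ : ↥(layer ↥A)))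
          rw [mem_comap, mem_centralizer_iff] at h1
          exact (h1 y hy).symm
    obtain ⟨W, hWne, hWA, hAW, hWY⟩ := step2
    have hNW : normalizer (W : Set G) = A := normalizer_eq_of_isCoatom hA hWA hWne hAW
    have hYA : pCoreOf p B ≤ A := by
      intro y hy
      rw [← hNW]
      apply centralizer_le_normalizer
      rw [mem_centralizer_iff]
      intro w hw
      exact hWY w hw y hy
    intro x hx k hk
    exact hcomm x hx (hYA hx) k hk

/-- the image of `O^p(F*(A))` lies in the part of `F*(A)` away from `p` -/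
theorem map_pResidual_le_awayPart (A : Subgroup G) (p : ℕ) [Fact p.Prime] :
    (pResidual p ↥(generalizedFittingSubgroup ↥A)).map (generalizedFittingSubgroup ↥A).subtype ≤
      awayPart p ↥A := by
  unfold pResidual
  rw [MonoidHom.map_closure, Subgroup.closure_le]
  rintro _ ⟨g, hg, rfl⟩
  apply mem_awayPart_of_coprime p g.2
  rw [Subgroup.orderOf_coe]
  exact hg

end ambient

end Cfsg.Agent.Lib.Helper31_Bender
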