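import Cfsg.Agent.Lib.Helper47_WeaklyClosed

set_option autoImplicit false

namespace Cfsg.Agent.Lib.Helper47_WC2

open Cfsg
open Cfsg.Agent.Lib.Helper47_PLocal Cfsg.Agent.Lib.Helper47_Conj Cfsg.Agent.Lib.Helper47_WeaklyClosed
open scoped commutatorElement Pointwise

variable {G : Type*} [Group G] {p : ℕ}

/-- Elements of `A ⊔ B` are products when `B` normalizes `A`. -/
theorem exists_mul_of_mem_sup_of_le_normalizer {A B : Subgroup G}
    (hBA : B ≤ Subgroup.normalizer (A : Set G)) {x : G} (hx : x ∈ A ⊔ B) :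
    ∃ a ∈ A, ∃ b ∈ B, x = a * b := by
  have h : x ∈ ((A ⊔ B : Subgroup G) : Set G) := hx
  rw [Subgroup.coe_mul_of_right_le_normalizer_left A B hBA] at h
  obtain ⟨a, ha, b, hb, rfl⟩ := h
  exact ⟨a, ha, b, hb, rfl⟩

/-- For a weakly closed `p`-subgroup `Q` and a subgroup `N` normalized by `Q`, every `N`-conjugate of
`Q` is a `[N, Q]`-conjugate. -/
theorem wc_exists_conj_commutator [Finite G] [Fact p.Prime] {Q : Subgroup G} (hQp : IsPGroup p Q)
    (hwc : Cfsg.IsWeaklyClosedSubgroup p Q) (N : Subgroup G) {n : G} (hn : n ∈ N) :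
    ∃ w ∈ ⁅N, Q⁆, Q.map (MulAut.conj n).toMonoidHom = Q.map (MulAut.conj w).toMonoidHom := by
  set W : Subgroup G := ⁅N, Q⁆ with hW
  have hQW : Q ≤ Subgroup.normalizer (W : Set G) := le_normalizer_commutator_right N Q
  have h1 : Q.map (MulAut.conj n).toMonoidHom ≤ W ⊔ Q := by
    rintro _ ⟨q, hq, rfl⟩
    have : (MulAut.conj n).toMonoidHom q = ⁅n, q⁆ * q := by
      simp [commutatorElement_def]
    rw [this]
    exact Subgroup.mul_mem _ (Subgroup.mem_sup_left (Subgroup.commutator_mem_commutator hn hq))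
      (Subgroup.mem_sup_right hq)
  obtain ⟨k, hk, hnk⟩ := wc_conj_in_subgroup hQp hwc (le_sup_right : Q ≤ W ⊔ Q) n h1
  obtain ⟨w, hw, q, hq, rfl⟩ := exists_mul_of_mem_sup_of_le_normalizer hQW hk
  refine ⟨w, hw, ?_⟩
  rw [hnk, ← map_conj_map_conj, map_conj_eq_self_of_mem hq]

/-- Frattini-type factorization for a weakly closed subgroup: `N = N_N(Q) [N, Q]`. -/
theorem wc_exists_mul_normalizer_commutator [Finite G] [Fact p.Prime] {Q : Subgroup G}
    (hQp : IsPGroup p Q) (hwc : Cfsg.IsWeaklyClosedSubgroup p Q) (N : Subgroup G)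
    (hQN : Q ≤ Subgroup.normalizer (N : Set G)) {n : G} (hn : n ∈ N) :
    ∃ a ∈ N ⊓ Subgroup.normalizer (Q : Set G), ∃ b ∈ ⁅N, Q⁆, n = a * b := by
  obtain ⟨w, hw, hnw⟩ := wc_exists_conj_commutator hQp hwc N hn
  have hWN : ⁅N, Q⁆ ≤ N := Subgroup.le_normalizer_iff_commutator_le_left.mp hQN
  have hwN : w ∈ N := hWN hw
  have ha : w⁻¹ * n ∈ Subgroup.normalizer (Q : Set G) := by
    rw [mem_normalizer_iff_map_conj_eq', ← map_conj_map_conj, hnw, map_conj_inv_map_conj]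
  have haN : w⁻¹ * n ∈ N := N.mul_mem (N.inv_mem hwN) hn
  refine ⟨w⁻¹ * n, ⟨haN, ha⟩, (w⁻¹ * n)⁻¹ * w * (w⁻¹ * n), ?_, by group⟩
  have h2 := conj_mem_commutator_left (K := N) (Y := Q) (N.inv_mem haN) hw
  simpa using h2

/-- `[N, Q] = (Q ∩ [N, Q]) [N, Q, Q]` for a weakly closed `p`-subgroup `Q`. -/
theorem wc_exists_mul_inf_commutator [Finite G] [Fact p.Prime] {Q : Subgroup G}
    (hQp : IsPGroup p Q) (hwc : Cfsg.IsWeaklyClosedSubgroup p Q) (N : Subgroup G)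
    {c : G} (hc : c ∈ ⁅N, Q⁆) :
    ∃ a ∈ Q ⊓ ⁅N, Q⁆, ∃ b ∈ ⁅⁅N, Q⁆, Q⁆, c = a * b := by
  set W : Subgroup G := ⁅N, Q⁆ with hW
  have hQW : Q ≤ Subgroup.normalizer (W : Set G) := le_normalizer_commutator_right N Q
  have hQW2 : Q ≤ Subgroup.normalizer ((⁅W, Q⁆ : Subgroup G) : Set G) :=
    le_normalizer_commutator_right W Q
  have hW2W : ⁅W, Q⁆ ≤ W := Subgroup.le_normalizer_iff_commutator_le_left.mp hQW
  have h1 : W ≤ ⁅W, Q⁆ ⊔ Q := by
    rw [hW, Subgroup.commutator_le]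
    intro n hn q hq
    obtain ⟨w, hw, hnw⟩ := wc_exists_conj_commutator hQp hwc N hn
    have h2 : n * q * n⁻¹ ∈ Q.map (MulAut.conj w).toMonoidHom := by
      rw [← hnw]; exact ⟨q, hq, by simp⟩
    obtain ⟨q₁, hq₁, hq₁'⟩ := h2
    have h3 : ⁅n, q⁆ = ⁅w, q₁⁆ * (q₁ * q⁻¹) := by
      have : n * q * n⁻¹ = w * q₁ * w⁻¹ := by rw [← hq₁']; simp
      rw [commutatorElement_def, this, commutatorElement_def]; group
    rw [h3]
    exact Subgroup.mul_mem _ (Subgroup.mem_sup_left (Subgroup.commutator_mem_commutator hw hq₁))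
      (Subgroup.mem_sup_right (Q.mul_mem hq₁ (Q.inv_mem hq)))
  obtain ⟨b', hb', a', ha', rfl⟩ := exists_mul_of_mem_sup_of_le_normalizer hQW2 (h1 hc)
  have ha'W : a' ∈ W := by
    have : a' = b'⁻¹ * (b' * a') := by group
    rw [this]; exact W.mul_mem (W.inv_mem (hW2W hb')) hc
  refine ⟨a', ⟨ha', ha'W⟩, a'⁻¹ * b' * a', ?_, by group⟩
  have := (Subgroup.mem_normalizer_iff.mp (hQW2 (Q.inv_mem ha')) b').mp hb'
  simpa using this

end Cfsg.Agent.Lib.Helper47_WC2
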