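import Cfsg.Agent.Lib.Helper47_Subn
import Cfsg.Agent.Lib.Helper47_WC2

set_option autoImplicit false

namespace Cfsg.Agent.Lib.Helper47_SubnClosure

open Cfsg
open Cfsg.Agent.Lib.Helper47_PLocal Cfsg.Agent.Lib.Helper47_SubAPI Cfsg.Agent.Lib.Helper47_Conj
  Cfsg.Agent.Lib.Helper47_Subn Cfsg.Agent.Lib.Helper47_WeaklyClosed
open scoped commutatorElement Pointwise

variable {G : Type*} [Group G] {p : ℕ}

/-- In a finite nilpotent group every subgroup is subnormal (after helper72's S4331). -/
theorem isSubnormal_of_isNilpotent [Finite G] [Group.IsNilpotent G] (H : Subgroup G) :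
    H.IsSubnormal := by
  have hnc : NormalizerCondition G := Group.normalizerCondition_of_isNilpotent
  induction' hn : H.index using Nat.strong_induction_on with n ih generalizing H
  by_cases hH : H = ⊤
  · rw [hH]; exact Subgroup.IsSubnormal.top
  · have hlt : H < Subgroup.normalizer (H : Set G) := hnc H (lt_top_iff_ne_top.mpr hH)
    have h1 : (Subgroup.normalizer (H : Set G)).index < n := by
      rw [← hn]
      exact Subgroup.index_strictAnti hlt
    have h2 := ih _ h1 (Subgroup.normalizer (H : Set G)) rfl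
    exact Subgroup.IsSubnormal.step H (Subgroup.normalizer (H : Set G)) hlt.le h2
      Subgroup.normal_in_normalizer

theorem isSubnormal_sInf [Finite G] (S : Set (Subgroup G)) (h : ∀ K ∈ S, K.IsSubnormal) :
    (sInf S).IsSubnormal := by
  have hfin : S.Finite := Set.toFinite S
  induction S, hfin using Set.Finite.induction_on with
  | empty => rw [sInf_empty]; exact Subgroup.IsSubnormal.top
  | insert _ _ ih =>
    rw [sInf_insert]
    exact (h _ (Set.mem_insert _ _)).inf (ih (fun K hK => h K (Set.mem_insert_of_mem _ hK)))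

theorem isSubnormal_subnormalClosure [Finite G] (A : Subgroup G) :
    (Cfsg.subnormalClosure A).IsSubnormal :=
  isSubnormal_sInf _ (fun _ hK => hK.2)

theorem le_subnormalClosure (A : Subgroup G) : A ≤ Cfsg.subnormalClosure A :=
  le_sInf (fun _ hK => hK.1)

theorem subnormalClosure_le {A B : Subgroup G} (hAB : A ≤ B) (hB : B.IsSubnormal) :
    Cfsg.subnormalClosure A ≤ B :=
  sInf_le ⟨hAB, hB⟩

/-- A subgroup `B` with `A ≤ B ≤ K`, subnormal in `K = ` the subnormal closure of `A`, is `K`. -/
theorem eq_subnormalClosure_of_isSubnormal_subgroupOf [Finite G] {A B : Subgroup G} (hAB : A ≤ B)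
    (hBK : B ≤ Cfsg.subnormalClosure A)
    (hB : (B.subgroupOf (Cfsg.subnormalClosure A)).IsSubnormal) : B = Cfsg.subnormalClosure A :=
  le_antisymm hBK (subnormalClosure_le hAB (hB.trans hBK (isSubnormal_subnormalClosure A)))

theorem eq_subnormalClosure_of_le_normalizer [Finite G] {A B : Subgroup G} (hAB : A ≤ B)
    (hBK : B ≤ Cfsg.subnormalClosure A)
    (hB : Cfsg.subnormalClosure A ≤ Subgroup.normalizer (B : Set G)) : B = Cfsg.subnormalClosure A :=
  eq_subnormalClosure_of_isSubnormal_subgroupOf hAB hBK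
    ((Subgroup.normal_subgroupOf_iff_le_normalizer hBK).mpr hB).isSubnormal

/-- `N(A) ≤ N(K)` for the subnormal closure `K` of `A`. -/
theorem normalizer_le_normalizer_subnormalClosure [Finite G] (A : Subgroup G) :
    Subgroup.normalizer (A : Set G) ≤ Subgroup.normalizer ((Cfsg.subnormalClosure A : Subgroup G) : Set G) := by
  have key : ∀ g ∈ Subgroup.normalizer (A : Set G),
      Cfsg.subnormalClosure A ≤ (Cfsg.subnormalClosure A).map (MulAut.conj g).toMonoidHom := by
    intro g hg
    apply subnormalClosure_le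
    · have h1 : A.map (MulAut.conj g).toMonoidHom = A := mem_normalizer_iff_map_conj_eq'.mp hg
      have h2 := Subgroup.map_mono (f := (MulAut.conj g).toMonoidHom) (le_subnormalClosure A)
      rwa [h1] at h2
    · exact (isSubnormal_subnormalClosure A).map (MulAut.conj g).surjective
  intro g hg
  rw [mem_normalizer_iff_map_conj_eq']
  apply le_antisymm
  · have := key g⁻¹ (Subgroup.inv_mem _ hg)
    rwa [← map_conj_le_iff] at this
  · exact key g hg

/-- `K = A O^p(K)` for the subnormal closure `K` of `A`. -/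
theorem sup_opOf_subnormalClosure [Finite G] [Fact p.Prime] (A : Subgroup G) :
    A ⊔ opOf p (Cfsg.subnormalClosure A) = Cfsg.subnormalClosure A := by
  set K := Cfsg.subnormalClosure A with hK
  have hAK : A ≤ K := le_subnormalClosure A
  apply eq_subnormalClosure_of_isSubnormal_subgroupOf le_sup_left (sup_le hAK (opOf_le K))
  -- inside `↥K`
  have hRn : (Cfsg.pResidual p ↥K).Normal := Cfsg.Agent.Lib.Helper47_PClosed.pResidual_normal p ↥K
  have hQ : IsPGroup p (↥K ⧸ Cfsg.pResidual p ↥K) :=
    Cfsg.Agent.Lib.Helper47_PClosed.isPGroup_quotient_pResidual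
  have hnil : Group.IsNilpotent (↥K ⧸ Cfsg.pResidual p ↥K) := hQ.isNilpotent
  have h1 : (((A.subgroupOf K).map (QuotientGroup.mk' (Cfsg.pResidual p ↥K))).comap
      (QuotientGroup.mk' (Cfsg.pResidual p ↥K))).IsSubnormal :=
    (isSubnormal_of_isNilpotent _).comap _
  rw [Subgroup.comap_map_eq, QuotientGroup.ker_mk'] at h1
  have h2 : (A ⊔ opOf p K).subgroupOf K = A.subgroupOf K ⊔ Cfsg.pResidual p ↥K := by
    apply Subgroup.map_injective K.subtype_injective
    rw [Subgroup.map_subgroupOf_eq_of_le (sup_le hAK (opOf_le K)), Subgroup.map_sup,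
      Subgroup.map_subgroupOf_eq_of_le hAK]
  rw [h2]
  exact h1

/-- `K` is the normal closure of `A` in `K`, for the subnormal closure `K` of `A`. -/
theorem map_normalClosure_subgroupOf_subnormalClosure [Finite G] (A : Subgroup G) :
    (Subgroup.normalClosure ((A.subgroupOf (Cfsg.subnormalClosure A) :
      Subgroup ↥(Cfsg.subnormalClosure A)) : Set ↥(Cfsg.subnormalClosure A))).map
        (Cfsg.subnormalClosure A).subtype = Cfsg.subnormalClosure A := by
  set K := Cfsg.subnormalClosure A with hK
  have hAK : A ≤ K := le_subnormalClosure A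
  apply eq_subnormalClosure_of_isSubnormal_subgroupOf
  · have h1 := Subgroup.map_mono (f := K.subtype)
      (Subgroup.le_normalClosure (H := A.subgroupOf K))
    rwa [Subgroup.map_subgroupOf_eq_of_le hAK] at h1
  · exact Subgroup.map_subtype_le _
  · rw [Subgroup.subgroupOf, Subgroup.comap_map_eq_self_of_injective K.subtype_injective]
    exact Subgroup.normalClosure_normal.isSubnormal

/-- If `A` is a `p`-group then `O^p(K) = [O^p(K), A]` for the subnormal closure `K` of `A`. -/
theorem commutator_opOf_subnormalClosure [Finite G] [Fact p.Prime] (A : Subgroup G)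
    (hA : IsPGroup p A) :
    ⁅opOf p (Cfsg.subnormalClosure A), A⁆ = opOf p (Cfsg.subnormalClosure A) := by
  set K := Cfsg.subnormalClosure A with hK
  have hAK : A ≤ K := le_subnormalClosure A
  have hKR : K ≤ Subgroup.normalizer ((opOf p K : Subgroup G) : Set G) :=
    Subgroup.le_normalizer.trans (normalizer_le_normalizer_opOf K)
  have hWR : ⁅opOf p K, A⁆ ≤ opOf p K :=
    Subgroup.le_normalizer_iff_commutator_le_left.mp (hAK.trans hKR)
  apply le_antisymm hWR
  have hRW : opOf p K ≤ Subgroup.normalizer ((⁅opOf p K, A⁆ : Subgroup G) : Set G) :=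
    le_normalizer_commutator_left _ _
  have hAW : A ≤ Subgroup.normalizer ((⁅opOf p K, A⁆ : Subgroup G) : Set G) :=
    le_normalizer_commutator_right _ _
  -- `B = A [R, A]` is normal in `K`
  have hBK : A ⊔ ⁅opOf p K, A⁆ ≤ K := sup_le hAK (hWR.trans (opOf_le K))
  have hsup : A ⊔ opOf p K = K := sup_opOf_subnormalClosure A
  have hKB : K ≤ Subgroup.normalizer ((A ⊔ ⁅opOf p K, A⁆ : Subgroup G) : Set G) := by
    refine hsup.symm.le.trans ?_
    apply sup_le (le_sup_left.trans Subgroup.le_normalizer)
    apply Cfsg.Agent.Lib.Helper47_PClosed.le_normalizer_of_forall_map_conj_le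
    intro r hr
    rw [Subgroup.map_sup]
    apply sup_le
    · rintro _ ⟨a, ha, rfl⟩
      have : (MulAut.conj r).toMonoidHom a = ⁅r, a⁆ * a := by simp [commutatorElement_def]
      rw [this]
      exact Subgroup.mul_mem _ (Subgroup.mem_sup_right (Subgroup.commutator_mem_commutator hr ha))
        (Subgroup.mem_sup_left ha)
    · rw [mem_normalizer_iff_map_conj_eq'.mp (hRW hr)]
      exact le_sup_right
  have hB : A ⊔ ⁅opOf p K, A⁆ = K :=
    eq_subnormalClosure_of_le_normalizer (le_sup_left : A ≤ A ⊔ ⁅opOf p K, A⁆) hBK hKB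
  -- hence `K / [R, A]` is a `p`-group
  have key : Subgroup.closure {x : G | x ∈ K ∧ (orderOf x).Coprime p} ≤ ⁅opOf p K, A⁆ := by
    rw [Subgroup.closure_le]
    rintro x ⟨hxK, hxc⟩
    rw [← hB] at hxK
    obtain ⟨w, hw, a, ha, rfl⟩ :=
      Cfsg.Agent.Lib.Helper47_WC2.exists_mul_of_mem_sup_of_le_normalizer hAW
        (by rwa [sup_comm] at hxK)
    -- `w * a = a * (a⁻¹ w a)`
    obtain ⟨k, hk⟩ := hA ⟨a, ha⟩
    have hk' : a ^ (p ^ k) = 1 := by simpa using congrArg Subtype.val hk
    have h1 : a⁻¹ * w * a ∈ ⁅opOf p K, A⁆ := by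
      have := (Subgroup.mem_normalizer_iff.mp (hAW (A.inv_mem ha)) w).mp hw
      simpa using this
    have h2 : (a * (a⁻¹ * w * a)) ^ (p ^ k) ∈ ⁅opOf p K, A⁆ :=
      pow_mem_of_pow_mem (hAW ha) h1 (by rw [hk']; exact Subgroup.one_mem _)
    have h3 : a * (a⁻¹ * w * a) = w * a := by group
    rw [h3] at h2
    refine Cfsg.Agent.Lib.Helper47_PClosed.mem_of_pow_mem_of_pow_mem_of_coprime
      (Nat.Coprime.pow_right k hxc) ?_ h2
    rw [pow_orderOf_eq_one]; exact Subgroup.one_mem _

  rw [← opOf_eq_closure] at key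
  exact key

end Cfsg.Agent.Lib.Helper47_SubnClosure
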