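import Mathlib
import Cfsg.Prelude.Def_EvenTechniques
import Cfsg.Agent.Lib.Helper31_Bender
import Cfsg.Agent.Lib.Helper22_Bender
import Cfsg.Agent.Lib.Helper22_Layer
import Cfsg.Agent.Lib.Helper22_Cores
import Cfsg.Agent.Lib.Helper22_CoreCentralizer
import Cfsg.Agent.Lib.Helper22_FitLocal2
import Cfsg.Agent.Lib.Helper47_SubnClosure
import Cfsg.Agent.Lib.Helper1_Cores

/-!
Bender's uniqueness theorem for pairs of maximal subgroups `M ⇝ N` (helper31): the Fitting-subgroup
conclusions, deduced from Bender's lemma (`Helper31_Bender`).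
-/

set_option autoImplicit false

namespace Cfsg.Agent.Lib.Helper31_BenderUniq

open Subgroup Cfsg Cfsg.Agent.Lib.Helper22_Layer Cfsg.Agent.Lib.Helper29_Local
  Cfsg.Agent.Lib.Helper22_Bender Cfsg.Agent.Lib.Helper22_CoreCentralizer
  Cfsg.Agent.Lib.Helper22_FitLocal Cfsg.Agent.Lib.Helper31_Bender

universe u

variable {G : Type u} [Group G] [Finite G]

/-- `E(M)` (in `G`) centralizes `F(M)` (in `G`) -/
theorem layerOf_le_centralizer_fittingOf (M : Subgroup G) :
    (layer ↥M).map M.subtype ≤ centralizer ((fittingOf M : Subgroup G) : Set G) := by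
  rintro _ ⟨e, he, rfl⟩
  rw [mem_centralizer_iff]
  rintro _ ⟨n, hn, rfl⟩
  have h2 := layer_commutator_fitting (X := ↥M)
  rw [Subgroup.commutator_eq_bot_iff_le_centralizer] at h2
  have h3 := mem_centralizer_iff.mp (h2 he) n hn
  exact congrArg Subtype.val h3

omit [Finite G] in
theorem fstarOf_eq_sup (M : Subgroup G) :
    fstarOf M = (layer ↥M).map M.subtype ⊔ fittingOf M := by
  unfold fstarOf generalizedFittingSubgroup fittingOf
  rw [Subgroup.map_sup]

/-- a subgroup of `F*(M)` containing `E(M)` is subnormal in `F*(M)` -/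
theorem isSubnormal_subgroupOf_fstarOf (M S : Subgroup G)
    (hES : (layer ↥M).map M.subtype ≤ S) : (S.subgroupOf (fstarOf M)).IsSubnormal := by
  have hEF : (layer ↥M).map M.subtype ≤ fstarOf M := Subgroup.map_mono le_sup_left
  have hNF : fittingOf M ≤ fstarOf M := Subgroup.map_mono le_sup_right
  have hEn : (layer ↥M).Normal := inferInstance
  have hE₁n : (((layer ↥M).map M.subtype).subgroupOf (fstarOf M)).Normal :=
    (normal_subgroupOf_iff_le_normalizer hEF).mpr
      ((Subgroup.map_subtype_le _).trans (le_normalizer_map_subtype (layer ↥M)))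
  have hnilN : Group.IsNilpotent ↥((fittingOf M).subgroupOf (fstarOf M)) := by
    have h1 : Group.IsNilpotent ↥(fittingOf M) := isNilpotent_fittingOf M
    exact Cfsg.Agent.Lib.Helper21_Fitting.isNilpotent_of_mulEquiv
      (Subgroup.subgroupOfEquivOfLe hNF).symm h1
  have htop : ((layer ↥M).map M.subtype).subgroupOf (fstarOf M) ⊔
      (fittingOf M).subgroupOf (fstarOf M) = ⊤ := by
    rw [← Subgroup.subgroupOf_sup hEF hNF, ← fstarOf_eq_sup, Subgroup.subgroupOf_self]
  have hsurj : Function.Surjective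
      ((QuotientGroup.mk' (((layer ↥M).map M.subtype).subgroupOf (fstarOf M))).comp
        ((fittingOf M).subgroupOf (fstarOf M)).subtype) := by
    intro y
    obtain ⟨x, rfl⟩ := QuotientGroup.mk'_surjective _ y
    have hx : x ∈ ((layer ↥M).map M.subtype).subgroupOf (fstarOf M) ⊔
        (fittingOf M).subgroupOf (fstarOf M) := by rw [htop]; exact Subgroup.mem_top x
    rw [← SetLike.mem_coe, Subgroup.normal_mul] at hx
    obtain ⟨e, he, n, hn, hen⟩ := Set.mem_mul.mp hx
    refine ⟨⟨n, hn⟩, ?_⟩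
    have he1 : QuotientGroup.mk' (((layer ↥M).map M.subtype).subgroupOf (fstarOf M)) e = 1 :=
      (QuotientGroup.eq_one_iff e).mpr he
    rw [← hen, map_mul, he1, one_mul]
    rfl
  have hnilQ : Group.IsNilpotent
      (↥(fstarOf M) ⧸ ((layer ↥M).map M.subtype).subgroupOf (fstarOf M)) :=
    Group.nilpotent_of_surjective _ hsurj
  have hker : (QuotientGroup.mk' (((layer ↥M).map M.subtype).subgroupOf (fstarOf M))).ker ≤
      S.subgroupOf (fstarOf M) := by
    rw [QuotientGroup.ker_mk']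
    intro x hx
    exact mem_subgroupOf.mpr (hES (mem_subgroupOf.mp hx))
  rw [← Subgroup.comap_map_eq_self hker]
  exact (Cfsg.Agent.Lib.Helper47_SubnClosure.isSubnormal_of_isNilpotent _).comap _

/-- the subgroup `S = N_{F*(M)}(Q)` attached to `Q ≤ F(M)` satisfies the hypotheses of Bender's lemma -/
theorem normalizer_data (M Q : Subgroup G) (hQ : Q ≤ fittingOf M) :
    fstarOf M ⊓ normalizer (Q : Set G) ≤ fstarOf M ∧
    ((fstarOf M ⊓ normalizer (Q : Set G)).subgroupOf (fstarOf M)).IsSubnormal ∧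
    fstarOf M ⊓ centralizer ((fstarOf M ⊓ normalizer (Q : Set G) : Subgroup G) : Set G) ≤
      fstarOf M ⊓ normalizer (Q : Set G) := by
  have hNF : fittingOf M ≤ fstarOf M := Subgroup.map_mono le_sup_right
  refine ⟨inf_le_left, ?_, ?_⟩
  · apply isSubnormal_subgroupOf_fstarOf
    apply le_inf (Subgroup.map_mono le_sup_left)
    refine le_trans ?_ (centralizer_le_normalizer (Q : Set G))
    exact (layerOf_le_centralizer_fittingOf M).trans (Subgroup.centralizer_le hQ)
  · intro x hx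
    refine Subgroup.mem_inf.mpr ⟨hx.1, ?_⟩
    apply centralizer_le_normalizer
    refine Subgroup.centralizer_le ?_ hx.2
    intro y hy
    exact Subgroup.mem_inf.mpr ⟨hNF (hQ hy), le_normalizer hy⟩

/-- a prime dividing `|F(M)|` has `O_r(M) ≠ 1` -/
theorem pCoreOf_ne_bot_of_dvd (M : Subgroup G) (r : ℕ) [Fact r.Prime]
    (hr : r ∣ Nat.card ↥(fittingSubgroup ↥M)) : pCoreOf r M ≠ ⊥ := by
  have hrp : r.Prime := Fact.out
  intro h
  have hbot : pCore r ↥M = ⊥ := (Subgroup.map_eq_bot_iff_of_injective _ M.subtype_injective).mp h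
  have hle : fittingSubgroup ↥M ≤ pPrimeCore r ↥M := by
    have := fittingSubgroup_le_sup (H := ↥M) r
    rwa [hbot, bot_sup_eq] at this
  have hdvd : r ∣ Nat.card ↥(pPrimeCore r ↥M) := dvd_trans hr (Subgroup.card_dvd_of_le hle)
  have hcop := Cfsg.Agent.Lib.Helper1_Cores.pPrimeCore_card_coprime (G := ↥M) r
  exact (Nat.Prime.coprime_iff_not_dvd hrp).mp hcop.symm hdvd

/-- the image in `G` of a Sylow `q`-subgroup of `F(N)` lies in `O_q(N)` -/
theorem sylow_fitting_le_pCoreOf (N : Subgroup G) (q : ℕ) [Fact q.Prime]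
    (R : Sylow q ↥(fittingSubgroup ↥N)) :
    ((R : Subgroup ↥(fittingSubgroup ↥N)).map (fittingSubgroup ↥N).subtype).map N.subtype ≤
      pCoreOf q N := by
  apply Subgroup.map_mono
  have hnil : Group.IsNilpotent ↥(fittingSubgroup ↥N) :=
    Cfsg.Agent.Lib.Helper1_Cores.fittingSubgroup_isNilpotent
  have hRn : (R : Subgroup ↥(fittingSubgroup ↥N)).Normal := inferInstance
  have hFn : (fittingSubgroup ↥N).Normal := Cfsg.Agent.Lib.Helper1_Cores.fittingSubgroup_normal
  exact Cfsg.Agent.Lib.Helper22_Cores.le_pCore_of_le_isSubnormal q (H := fittingSubgroup ↥N)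
    hFn.isSubnormal (Subgroup.map_subtype_le _)
    (le_normalizer_map_subtype (R : Subgroup ↥(fittingSubgroup ↥N))) (R.isPGroup'.map _)

/-- **Bender's uniqueness theorem (ii).** -/
theorem pCoreOf_inf_eq_bot_of_leadsTo (M N : Subgroup G) (hMN : leadsTo M N) (q : ℕ) (hq : q.Prime)
    (hqn : ¬ q ∣ Nat.card ↥(fittingSubgroup ↥M)) : pCoreOf q N ⊓ M = ⊥ := by
  obtain ⟨Q, _, hQF, hQN⟩ := hMN
  obtain ⟨h1, h2, h3⟩ := normalizer_data M Q hQF
  exact Cfsg.Agent.Lib.Helper31_Bender.pCoreOf_inf_eq_bot M _ N h1 h2 h3 hQN q hq hqn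

/-- `O_q(N)` centralizes the part of `F*(M)` away from `q`, for `q ∣ |F(M)|` and `M ⇝ N` -/
theorem pCoreOf_commute_awayPart_of_leadsTo [IsSimpleGroup G] (M N : Subgroup G) (hM : IsCoatom M)
    (hMN : leadsTo M N) (q : ℕ) (hq : q.Prime) (hqd : q ∣ Nat.card ↥(fittingSubgroup ↥M)) :
    ∀ x ∈ pCoreOf q N, ∀ k ∈ awayPart q ↥M, x * (k : G) = (k : G) * x := by
  obtain ⟨Q, _, hQF, hQN⟩ := hMN
  obtain ⟨h1, h2, h3⟩ := normalizer_data M Q hQF
  exact Cfsg.Agent.Lib.Helper31_Bender.pCoreOf_commute_awayPart M hM _ N h1 h2 h3 hQN q hq hqd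

/-- **Bender's uniqueness theorem (i).** -/
theorem pCoreOf_le_of_leadsTo [IsSimpleGroup G] (M N : Subgroup G) (hM : IsCoatom M)
    (hMN : leadsTo M N) (q r : ℕ) (hq : q.Prime) (hr : r.Prime) (hrq : r ≠ q)
    (hqd : q ∣ Nat.card ↥(fittingSubgroup ↥M)) (hrd : r ∣ Nat.card ↥(fittingSubgroup ↥M)) :
    pCoreOf q N ≤ M := by
  have : Fact r.Prime := ⟨hr⟩
  have hcomm := pCoreOf_commute_awayPart_of_leadsTo M N hM hMN q hq hqd
  have hne : pCoreOf r M ≠ ⊥ := pCoreOf_ne_bot_of_dvd M r hrd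
  have hNr : normalizer ((pCoreOf r M : Subgroup G) : Set G) = M :=
    normalizer_eq_of_isCoatom hM (pCoreOf_le r M) hne (le_normalizer_pCoreOf r M)
  have hle : pCore r ↥M ≤ awayPart q ↥M := by
    unfold awayPart
    refine le_trans ?_ le_sup_right
    exact le_iSup (fun s : {s : Nat.Primes // (s : ℕ) ≠ q} => pCore (s : ℕ) ↥M) ⟨⟨r, hr⟩, hrq⟩
  intro x hx
  rw [← hNr]
  apply centralizer_le_normalizer
  rw [mem_centralizer_iff]
  rintro _ ⟨k, hk, rfl⟩
  exact (hcomm x hx k (hle hk)).symm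

end Cfsg.Agent.Lib.Helper31_BenderUniq
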