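import Cfsg.Agent.S1466
import Cfsg.Agent.S1467
import Cfsg.Prelude.Def_OddOrderLocal

/-!
# The Puig series, relative form (helper49)

For subgroups `R`, `X` of `G`, `rstep R X` is the subgroup generated by the abelian subgroups of `R`
normalized by `X`; `rseq R` is the Puig series of `R` computed inside `G`, and `lo R`, `up R` are
the images in `G` of `L_*(R)` and `L(R)`. The bridge lemmas identify these with the images of the
Prelude notions for the group `↥R`.
-/

set_option autoImplicit false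

namespace Cfsg.Agent.Lib.Helper49_Puig

open Cfsg

variable {G : Type*} [Group G]

/-- the subgroup generated by the abelian subgroups of `R` normalized by `X` -/
def rstep (R X : Subgroup G) : Subgroup G :=
  sSup {A : Subgroup G | A ≤ R ∧ IsMulCommutative A ∧ X ≤ Subgroup.normalizer (A : Set G)}

/-- the Puig series of `R`, inside `G` -/
def rseq (R : Subgroup G) : ℕ → Subgroup G
  | 0 => ⊥
  | n + 1 => rstep R (rseq R n)

theorem rseq_zero (R : Subgroup G) : rseq R 0 = ⊥ := rfl

theorem rseq_succ (R : Subgroup G) (n : ℕ) : rseq R (n + 1) = rstep R (rseq R n) := rfl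

theorem rstep_le (R X : Subgroup G) : rstep R X ≤ R := sSup_le (fun _ hA => hA.1)

theorem le_rstep {R X A : Subgroup G} (hAR : A ≤ R) (hAc : IsMulCommutative A)
    (hX : X ≤ Subgroup.normalizer (A : Set G)) : A ≤ rstep R X := le_sSup ⟨hAR, hAc, hX⟩

theorem rstep_anti (R : Subgroup G) {X Y : Subgroup G} (h : X ≤ Y) : rstep R Y ≤ rstep R X :=
  sSup_le_sSup (fun _ hA => ⟨hA.1, hA.2.1, h.trans hA.2.2⟩)

theorem rstep_mono {R R' : Subgroup G} (h : R ≤ R') (X : Subgroup G) : rstep R X ≤ rstep R' X :=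
  sSup_le_sSup (fun _ hA => ⟨hA.1.trans h, hA.2.1, hA.2.2⟩)

/-- comparison of two steps through their generators -/
theorem rstep_le_of_gens {R R' X Y : Subgroup G}
    (h : ∀ A : Subgroup G, A ≤ R' → IsMulCommutative A → X ≤ Subgroup.normalizer (A : Set G) →
      A ≤ R ∧ Y ≤ Subgroup.normalizer (A : Set G)) : rstep R' X ≤ rstep R Y :=
  sSup_le (fun A hA => le_rstep (h A hA.1 hA.2.1 hA.2.2).1 hA.2.1 (h A hA.1 hA.2.1 hA.2.2).2)

theorem rseq_le (R : Subgroup G) (n : ℕ) : rseq R n ≤ R := by
  cases n with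
  | zero => exact bot_le
  | succ n => exact rstep_le R _

/-! ### Bridge to the Prelude definitions -/

theorem map_puigStep (R : Subgroup G) (X : Subgroup ↥R) :
    (Cfsg.puigStep X).map R.subtype = rstep R (X.map R.subtype) := by
  apply le_antisymm
  · rw [Subgroup.map_le_iff_le_comap]
    unfold Cfsg.puigStep
    apply sSup_le
    intro A hA
    rw [← Subgroup.map_le_iff_le_comap]
    have hAc : IsMulCommutative A := hA.1
    refine le_rstep (Subgroup.map_subtype_le A) inferInstance ?_
    exact (Subgroup.map_mono hA.2).trans (Subgroup.le_normalizer_map _)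
  · unfold rstep
    apply sSup_le
    intro A hA
    obtain ⟨hAR, hAc, hXA⟩ := hA
    have h1 : (A.subgroupOf R).map R.subtype = A := Subgroup.map_subgroupOf_eq_of_le hAR
    rw [← h1]
    apply Subgroup.map_mono
    unfold Cfsg.puigStep
    apply le_sSup
    refine ⟨inferInstance, ?_⟩
    intro x hx
    rw [Subgroup.mem_normalizer_iff]
    intro a
    have hx' : (x : G) ∈ Subgroup.normalizer (A : Set G) := hXA ⟨x, hx, rfl⟩
    rw [Subgroup.mem_normalizer_iff] at hx'
    rw [Subgroup.mem_subgroupOf, Subgroup.mem_subgroupOf]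
    exact hx' a

theorem map_puigSeq (R : Subgroup G) (n : ℕ) :
    (Cfsg.puigSeq ↥R n).map R.subtype = rseq R n := by
  induction n with
  | zero =>
    show (⊥ : Subgroup ↥R).map R.subtype = ⊥
    exact Subgroup.map_bot _
  | succ n ih =>
    show (Cfsg.puigStep (Cfsg.puigSeq ↥R n)).map R.subtype = rstep R (rseq R n)
    rw [map_puigStep, ih]

/-- the image of `L_*(R)` in `G` -/
def lo (R : Subgroup G) : Subgroup G := (Cfsg.puigLower ↥R).map R.subtype

/-- the image of `L(R)` in `G` -/
def up (R : Subgroup G) : Subgroup G := (Cfsg.puigSubgroup ↥R).map R.subtype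

theorem rseq_one (R : Subgroup G) : rseq R 1 = R := by
  rw [← map_puigSeq, Cfsg.Agent.S1467.seq_one, ← MonoidHom.range_eq_map, Subgroup.range_subtype]

theorem rseq_even_le_lo (R : Subgroup G) (n : ℕ) : rseq R (2 * n) ≤ lo R := by
  rw [← map_puigSeq]
  exact Subgroup.map_mono (le_iSup (fun n => Cfsg.puigSeq ↥R (2 * n)) n)

theorem up_le_rseq_odd (R : Subgroup G) (n : ℕ) : up R ≤ rseq R (2 * n + 1) := by
  rw [← map_puigSeq]
  exact Subgroup.map_mono (iInf_le (fun n => Cfsg.puigSeq ↥R (2 * n + 1)) n)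

theorem up_le (R : Subgroup G) : up R ≤ R := Subgroup.map_subtype_le _

theorem lo_le (R : Subgroup G) : lo R ≤ R := Subgroup.map_subtype_le _

section Finite

variable [Finite G]

theorem exists_stable (R : Subgroup G) :
    ∃ k : ℕ, ∀ n : ℕ, k ≤ n → rseq R (2 * n) = lo R ∧ rseq R (2 * n + 1) = up R := by
  obtain ⟨k, hk⟩ := (Cfsg.Agent.S1467.result (G := ↥R)).2.2.2.1
  refine ⟨k, fun n hn => ⟨?_, ?_⟩⟩
  · rw [← map_puigSeq, (hk n hn).1]; rfl
  · rw [← map_puigSeq, (hk n hn).2]; rfl

theorem lo_le_up (R : Subgroup G) : lo R ≤ up R :=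
  Subgroup.map_mono (Cfsg.Agent.S1467.result (G := ↥R)).2.2.2.2.1

theorem rstep_lo (R : Subgroup G) : rstep R (lo R) = up R := by
  have h := (Cfsg.Agent.S1467.result (G := ↥R)).2.2.2.2.2.1
  unfold lo up
  rw [← map_puigStep, h]

theorem rstep_up (R : Subgroup G) : rstep R (up R) = lo R := by
  have h := (Cfsg.Agent.S1467.result (G := ↥R)).2.2.2.2.2.2
  unfold lo up
  rw [← map_puigStep, h]

end Finite

/-- transport of a self-centralizing statement -/
theorem inf_centralizer_map_le (R : Subgroup G) (Y : Subgroup ↥R)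
    (h : Subgroup.centralizer (Y : Set ↥R) ≤ Y) :
    R ⊓ Subgroup.centralizer ((Y.map R.subtype : Subgroup G) : Set G) ≤ Y.map R.subtype := by
  intro x hx
  have hxR : x ∈ R := hx.1
  have hxC := hx.2
  have h1 : (⟨x, hxR⟩ : ↥R) ∈ Subgroup.centralizer (Y : Set ↥R) := by
    rw [Subgroup.mem_centralizer_iff]
    intro y hy
    apply Subtype.ext
    exact Subgroup.mem_centralizer_iff.mp hxC (y : G) ⟨y, hy, rfl⟩
  exact ⟨⟨x, hxR⟩, h h1, rfl⟩

section PGroup

variable [Finite G] {p : ℕ} [Fact p.Prime]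

theorem inf_centralizer_rseq_le {R : Subgroup G} (hR : IsPGroup p R) (hR1 : R ≠ ⊥) (i : ℕ)
    (hi : 0 < i) : R ⊓ Subgroup.centralizer ((rseq R i : Subgroup G) : Set G) ≤ rseq R i := by
  have : Nontrivial ↥R := (Subgroup.nontrivial_iff_ne_bot R).mpr hR1
  have h := ((Cfsg.Agent.S1466.result (R := ↥R) p hR).1 i hi).2
  rw [← map_puigSeq]
  exact inf_centralizer_map_le R _ h

theorem inf_centralizer_lo_le {R : Subgroup G} (hR : IsPGroup p R) (hR1 : R ≠ ⊥) :
    R ⊓ Subgroup.centralizer ((lo R : Subgroup G) : Set G) ≤ lo R := by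
  have : Nontrivial ↥R := (Subgroup.nontrivial_iff_ne_bot R).mpr hR1
  have h := (Cfsg.Agent.S1466.result (R := ↥R) p hR).2.1.2
  exact inf_centralizer_map_le R _ h

theorem inf_centralizer_up_le {R : Subgroup G} (hR : IsPGroup p R) (hR1 : R ≠ ⊥) :
    R ⊓ Subgroup.centralizer ((up R : Subgroup G) : Set G) ≤ up R := by
  have : Nontrivial ↥R := (Subgroup.nontrivial_iff_ne_bot R).mpr hR1
  have h := (Cfsg.Agent.S1466.result (R := ↥R) p hR).2.2.1.2
  exact inf_centralizer_map_le R _ h

end PGroup

/-! ### Transport along a homomorphism injective on `R` -/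

section Transport

variable {G' : Type*} [Group G']

theorem map_rstep_of_injOn (f : G →* G') (R X : Subgroup G) (hXR : X ≤ R)
    (hinj : ∀ x ∈ R, f x = 1 → x = 1) : (rstep R X).map f = rstep (R.map f) (X.map f) := by
  apply le_antisymm
  · rw [Subgroup.map_le_iff_le_comap]
    unfold rstep
    apply sSup_le
    intro A hA
    rw [← Subgroup.map_le_iff_le_comap]
    have hAc : IsMulCommutative A := hA.2.1
    refine le_sSup ⟨Subgroup.map_mono hA.1, inferInstance, ?_⟩
    exact (Subgroup.map_mono hA.2.2).trans (Subgroup.le_normalizer_map _)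
  · unfold rstep
    apply sSup_le
    intro A' hA'
    obtain ⟨hA'R, hA'c, hXA'⟩ := hA'
    set A : Subgroup G := R ⊓ A'.comap f with hA
    have hAmap : A.map f = A' := by
      apply le_antisymm
      · rintro _ ⟨a, ha, rfl⟩
        exact ha.2
      · intro a' ha'
        obtain ⟨r, hr, rfl⟩ := hA'R ha'
        exact ⟨r, ⟨hr, ha'⟩, rfl⟩
    have hAc : IsMulCommutative A := by
      refine ⟨⟨fun a b => ?_⟩⟩
      apply Subtype.ext
      have h1 : f ((a : G) * (b : G)) = f ((b : G) * (a : G)) := by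
        rw [map_mul, map_mul]
        have := hA'c.is_comm.comm (⟨f a, a.2.2⟩ : ↥A') ⟨f b, b.2.2⟩
        exact congrArg Subtype.val this
      have h2 : (a : G) * (b : G) * ((b : G) * (a : G))⁻¹ ∈ R :=
        R.mul_mem (R.mul_mem a.2.1 b.2.1) (R.inv_mem (R.mul_mem b.2.1 a.2.1))
      have h3 : f ((a : G) * (b : G) * ((b : G) * (a : G))⁻¹) = 1 := by
        rw [map_mul, map_inv, h1, mul_inv_cancel]
      have h4 := hinj _ h2 h3
      exact mul_inv_eq_one.mp h4
    have hXA : X ≤ Subgroup.normalizer (A : Set G) := by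
      intro x hx
      rw [Subgroup.mem_normalizer_iff]
      intro g
      have hfx : f x ∈ Subgroup.normalizer (A' : Set G') := hXA' ⟨x, hx, rfl⟩
      rw [Subgroup.mem_normalizer_iff] at hfx
      have hxR : x ∈ R := hXR hx
      constructor
      · intro hg
        refine ⟨R.mul_mem (R.mul_mem hxR hg.1) (R.inv_mem hxR), ?_⟩
        show f (x * g * x⁻¹) ∈ A'
        rw [map_mul, map_mul, map_inv]
        exact (hfx (f g)).mp hg.2
      · intro hg
        refine ⟨?_, ?_⟩
        · have := R.mul_mem (R.mul_mem (R.inv_mem hxR) hg.1) hxR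
          simpa [mul_assoc] using this
        · show f g ∈ A'
          have h5 : f (x * g * x⁻¹) ∈ A' := hg.2
          rw [map_mul, map_mul, map_inv] at h5
          exact (hfx (f g)).mpr h5
    rw [← hAmap]
    exact Subgroup.map_mono (le_sSup ⟨inf_le_left, hAc, hXA⟩)

theorem map_rseq_of_injOn (f : G →* G') (R : Subgroup G)
    (hinj : ∀ x ∈ R, f x = 1 → x = 1) (n : ℕ) : (rseq R n).map f = rseq (R.map f) n := by
  induction n with
  | zero => exact Subgroup.map_bot _
  | succ n ih =>
    rw [rseq_succ, rseq_succ, map_rstep_of_injOn f R _ (rseq_le R n) hinj, ih]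

theorem map_lo_of_injOn [Finite G] [Finite G'] (f : G →* G') (R : Subgroup G)
    (hinj : ∀ x ∈ R, f x = 1 → x = 1) : (lo R).map f = lo (R.map f) := by
  obtain ⟨k₁, h₁⟩ := exists_stable R
  obtain ⟨k₂, h₂⟩ := exists_stable (R.map f)
  rw [← (h₁ (max k₁ k₂) (le_max_left _ _)).1, ← (h₂ (max k₁ k₂) (le_max_right _ _)).1]
  exact map_rseq_of_injOn f R hinj _

theorem map_up_of_injOn [Finite G] [Finite G'] (f : G →* G') (R : Subgroup G)
    (hinj : ∀ x ∈ R, f x = 1 → x = 1) : (up R).map f = up (R.map f) := by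
  obtain ⟨k₁, h₁⟩ := exists_stable R
  obtain ⟨k₂, h₂⟩ := exists_stable (R.map f)
  rw [← (h₁ (max k₁ k₂) (le_max_left _ _)).2, ← (h₂ (max k₁ k₂) (le_max_right _ _)).2]
  exact map_rseq_of_injOn f R hinj _

end Transport

/-! ### Invariance under conjugation -/

section Conj

theorem map_conj_eq_self {R : Subgroup G} {g : G} (hg : g ∈ Subgroup.normalizer (R : Set G)) :
    R.map (MulAut.conj g).toMonoidHom = R := by
  ext x
  constructor
  · rintro ⟨y, hy, rfl⟩
    show g * y * g⁻¹ ∈ R
    exact (Subgroup.mem_normalizer_iff.mp hg y).mp hy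
  · intro hx
    refine ⟨g⁻¹ * x * g, ?_, ?_⟩
    · have hg' := Subgroup.inv_mem _ hg
      have := (Subgroup.mem_normalizer_iff.mp hg' x).mp hx
      simpa using this
    · show g * (g⁻¹ * x * g) * g⁻¹ = x
      group

theorem conj_injOn (g : G) (R : Subgroup G) :
    ∀ x ∈ R, (MulAut.conj g).toMonoidHom x = 1 → x = 1 := by
  intro x _ hx
  have h1 : g * x * g⁻¹ = 1 := hx
  have h2 : x = g⁻¹ * (g * x * g⁻¹) * g := by group
  rw [h2, h1]
  group

theorem map_conj_rseq {R : Subgroup G} {g : G} (hg : g ∈ Subgroup.normalizer (R : Set G))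
    (n : ℕ) : (rseq R n).map (MulAut.conj g).toMonoidHom = rseq R n := by
  have h := map_rseq_of_injOn (MulAut.conj g).toMonoidHom R (conj_injOn g R) n
  rwa [map_conj_eq_self hg] at h

theorem map_conj_lo [Finite G] {R : Subgroup G} {g : G}
    (hg : g ∈ Subgroup.normalizer (R : Set G)) :
    (lo R).map (MulAut.conj g).toMonoidHom = lo R := by
  have h := map_lo_of_injOn (MulAut.conj g).toMonoidHom R (conj_injOn g R)
  rwa [map_conj_eq_self hg] at h

theorem map_conj_up [Finite G] {R : Subgroup G} {g : G}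
    (hg : g ∈ Subgroup.normalizer (R : Set G)) :
    (up R).map (MulAut.conj g).toMonoidHom = up R := by
  have h := map_up_of_injOn (MulAut.conj g).toMonoidHom R (conj_injOn g R)
  rwa [map_conj_eq_self hg] at h

/-- a subgroup fixed by the conjugations from `N_G(R)` is normalized by `N_G(R)` -/
theorem normalizer_le_of_map_conj {R K : Subgroup G}
    (h : ∀ g ∈ Subgroup.normalizer (R : Set G), K.map (MulAut.conj g).toMonoidHom = K) :
    Subgroup.normalizer (R : Set G) ≤ Subgroup.normalizer (K : Set G) := by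
  intro g hg
  rw [Subgroup.mem_normalizer_iff]
  intro x
  constructor
  · intro hx
    rw [← h g hg]
    exact ⟨x, hx, rfl⟩
  · intro hx
    have hg' := Subgroup.inv_mem _ hg
    have h1 : g⁻¹ * (g * x * g⁻¹) * g⁻¹⁻¹ ∈ K := by
      rw [← h g⁻¹ hg']
      exact ⟨g * x * g⁻¹, hx, rfl⟩
    have h2 : g⁻¹ * (g * x * g⁻¹) * g⁻¹⁻¹ = x := by group
    rwa [h2] at h1

theorem normalizer_le_normalizer_rseq (R : Subgroup G) (n : ℕ) :
    Subgroup.normalizer (R : Set G) ≤ Subgroup.normalizer ((rseq R n : Subgroup G) : Set G) :=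
  normalizer_le_of_map_conj (fun _ hg => map_conj_rseq hg n)

theorem normalizer_le_normalizer_lo [Finite G] (R : Subgroup G) :
    Subgroup.normalizer (R : Set G) ≤ Subgroup.normalizer ((lo R : Subgroup G) : Set G) :=
  normalizer_le_of_map_conj (fun _ hg => map_conj_lo hg)

theorem normalizer_le_normalizer_up [Finite G] (R : Subgroup G) :
    Subgroup.normalizer (R : Set G) ≤ Subgroup.normalizer ((up R : Subgroup G) : Set G) :=
  normalizer_le_of_map_conj (fun _ hg => map_conj_up hg)

theorem rseq_normal (R : Subgroup G) [hR : R.Normal] (n : ℕ) : (rseq R n).Normal := by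
  rw [← Subgroup.normalizer_eq_top_iff]
  have h := normalizer_le_normalizer_rseq R n
  rw [Subgroup.normalizer_eq_top_iff.mpr hR] at h
  exact top_le_iff.mp h

theorem lo_normal [Finite G] (R : Subgroup G) [hR : R.Normal] : (lo R).Normal := by
  rw [← Subgroup.normalizer_eq_top_iff]
  have h := normalizer_le_normalizer_lo R
  rw [Subgroup.normalizer_eq_top_iff.mpr hR] at h
  exact top_le_iff.mp h

theorem up_normal [Finite G] (R : Subgroup G) [hR : R.Normal] : (up R).Normal := by
  rw [← Subgroup.normalizer_eq_top_iff]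
  have h := normalizer_le_normalizer_up R
  rw [Subgroup.normalizer_eq_top_iff.mpr hR] at h
  exact top_le_iff.mp h

end Conj

end Cfsg.Agent.Lib.Helper49_Puig
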