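import Cfsg.Agent.Lib.Helper49_Puig

/-!
# The Puig subgroup of an intermediate subgroup, and the centre of `L(R)` (helper49)

* `up_eq_of_le`: if `L(S) ≤ R ≤ S` then `L(R) = L(S)` (and `L_*(R) = L_*(S)`);
* `map_center_puig`: the image in `G` of `Z(L(R))` is `L(R) ∩ C_G(L(R))`;
* transport of `X ∩ C_G(X)` along homomorphisms injective on an overgroup of `X`.
-/

set_option autoImplicit false

namespace Cfsg.Agent.Lib.Helper49_Puig

open Cfsg

variable {G : Type*} [Group G]

section Intermediate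

variable [Finite G]

theorem rstep_lo_of_le {R S : Subgroup G} (hRS : R ≤ S) (hup : up S ≤ R) :
    rstep R (lo S) = up S := by
  apply le_antisymm
  · have h : rstep R (lo S) ≤ rstep S (lo S) := rstep_mono hRS _
    rwa [rstep_lo S] at h
  · have h : rstep S (lo S) ≤ rstep R (lo S) := by
      apply rstep_le_of_gens
      intro A hAS hAc hN
      refine ⟨?_, hN⟩
      have h1 : A ≤ rstep S (lo S) := le_rstep hAS hAc hN
      rw [rstep_lo S] at h1
      exact h1.trans hup
    rwa [rstep_lo S] at h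

theorem rstep_up_of_le {R S : Subgroup G} (hRS : R ≤ S) (hup : up S ≤ R) :
    rstep R (up S) = lo S := by
  apply le_antisymm
  · have h : rstep R (up S) ≤ rstep S (up S) := rstep_mono hRS _
    rwa [rstep_up S] at h
  · have h : rstep S (up S) ≤ rstep R (up S) := by
      apply rstep_le_of_gens
      intro A hAS hAc hN
      refine ⟨?_, hN⟩
      have h1 : A ≤ rstep S (up S) := le_rstep hAS hAc hN
      rw [rstep_up S] at h1
      exact (h1.trans (lo_le_up S)).trans hup
    rwa [rstep_up S] at h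

theorem rseq_bounds_of_le {R S : Subgroup G} (hRS : R ≤ S) (hup : up S ≤ R) (n : ℕ) :
    rseq R (2 * n) ≤ lo S ∧ up S ≤ rseq R (2 * n + 1) := by
  induction n with
  | zero =>
    refine ⟨bot_le, ?_⟩
    show up S ≤ rseq R 1
    rw [rseq_one]
    exact hup
  | succ n ih =>
    have e1 : 2 * (n + 1) = (2 * n + 1) + 1 := by ring
    rw [e1]
    have h1 : rseq R (2 * n + 1 + 1) ≤ lo S := by
      have h2 : rstep R (rseq R (2 * n + 1)) ≤ rstep R (up S) := rstep_anti R ih.2
      rwa [rstep_up_of_le hRS hup] at h2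
    refine ⟨h1, ?_⟩
    have h3 : rstep R (lo S) ≤ rstep R (rseq R (2 * n + 1 + 1)) := rstep_anti R h1
    rwa [rstep_lo_of_le hRS hup] at h3

theorem rseq_compare_of_le {R S : Subgroup G} (hRS : R ≤ S) (hup : up S ≤ R) (n : ℕ) :
    rseq S (2 * n) ≤ rseq R (2 * n) ∧ rseq R (2 * n + 1) ≤ rseq S (2 * n + 1) := by
  induction n with
  | zero =>
    refine ⟨bot_le, ?_⟩
    show rseq R 1 ≤ rseq S 1
    rw [rseq_one, rseq_one]
    exact hRS
  | succ n ih =>
    have e1 : 2 * (n + 1) = (2 * n + 1) + 1 := by ring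
    rw [e1]
    have h1 : rseq S (2 * n + 1 + 1) ≤ rseq R (2 * n + 1 + 1) := by
      rw [rseq_succ, rseq_succ]
      refine (rstep_anti S ih.2).trans ?_
      apply rstep_le_of_gens
      intro A hAS hAc hN
      refine ⟨?_, hN⟩
      have hN' : up S ≤ Subgroup.normalizer (A : Set G) :=
        (rseq_bounds_of_le hRS hup n).2.trans hN
      have h2 : A ≤ rstep S (up S) := le_rstep hAS hAc hN'
      rw [rstep_up S] at h2
      exact (h2.trans (lo_le_up S)).trans hup
    refine ⟨h1, ?_⟩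
    rw [rseq_succ R (2 * n + 1 + 1), rseq_succ S (2 * n + 1 + 1)]
    exact (rstep_anti R h1).trans (rstep_mono hRS _)

/-- if `L(S) ≤ R ≤ S` then `L(R) = L(S)` -/
theorem up_eq_of_le {R S : Subgroup G} (hRS : R ≤ S) (hup : up S ≤ R) : up R = up S := by
  obtain ⟨k₁, h₁⟩ := exists_stable R
  obtain ⟨k₂, h₂⟩ := exists_stable S
  apply le_antisymm
  · have h := (rseq_compare_of_le hRS hup (max k₁ k₂)).2
    rwa [(h₁ _ (le_max_left _ _)).2, (h₂ _ (le_max_right _ _)).2] at h
  · have h := (rseq_bounds_of_le hRS hup (max k₁ k₂)).2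
    rwa [(h₁ _ (le_max_left _ _)).2] at h

/-- if `L(S) ≤ R ≤ S` then `L_*(R) = L_*(S)` -/
theorem lo_eq_of_le {R S : Subgroup G} (hRS : R ≤ S) (hup : up S ≤ R) : lo R = lo S := by
  obtain ⟨k₁, h₁⟩ := exists_stable R
  obtain ⟨k₂, h₂⟩ := exists_stable S
  apply le_antisymm
  · have h := (rseq_bounds_of_le hRS hup (max k₁ k₂)).1
    rwa [(h₁ _ (le_max_left _ _)).1] at h
  · have h := (rseq_compare_of_le hRS hup (max k₁ k₂)).1
    rwa [(h₁ _ (le_max_left _ _)).1, (h₂ _ (le_max_right _ _)).1] at h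

end Intermediate

/-! ### The centre of a subgroup, computed in `G` -/

theorem map_center_eq (R : Subgroup G) (Y : Subgroup ↥R) :
    ((Subgroup.center ↥Y).map Y.subtype).map R.subtype =
      Y.map R.subtype ⊓ Subgroup.centralizer ((Y.map R.subtype : Subgroup G) : Set G) := by
  ext x
  rw [Subgroup.mem_inf]
  constructor
  · rintro ⟨_, ⟨z, hz, rfl⟩, rfl⟩
    have hz' : z ∈ Subgroup.center ↥Y := hz
    refine ⟨⟨(z : ↥R), z.2, rfl⟩, Subgroup.mem_centralizer_iff.mpr ?_⟩
    rintro _ ⟨y, hy, rfl⟩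
    have h := Subgroup.mem_center_iff.mp hz' ⟨y, hy⟩
    have h' := congrArg (fun w : ↥Y => ((w : ↥R) : G)) h
    exact h'
  · rintro ⟨⟨y, hy, rfl⟩, hc⟩
    have hy' : y ∈ Y := hy
    refine ⟨y, ⟨⟨y, hy'⟩, Subgroup.mem_center_iff.mpr ?_, rfl⟩, rfl⟩
    intro w
    apply Subtype.ext
    apply Subtype.ext
    exact Subgroup.mem_centralizer_iff.mp hc ((w : ↥R) : G) ⟨(w : ↥R), w.2, rfl⟩

/-- the image in `G` of the centre of `L(R)` -/
theorem map_center_puig (R : Subgroup G) :
    ((Subgroup.center ↥(Cfsg.puigSubgroup ↥R)).map (Cfsg.puigSubgroup ↥R).subtype).map R.subtype =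
      up R ⊓ Subgroup.centralizer ((up R : Subgroup G) : Set G) :=
  map_center_eq R _

theorem map_inf_centralizer_of_injOn {G' : Type*} [Group G'] (f : G →* G') (R X : Subgroup G)
    (hXR : X ≤ R) (hinj : ∀ x ∈ R, f x = 1 → x = 1) :
    (X ⊓ Subgroup.centralizer (X : Set G)).map f =
      X.map f ⊓ Subgroup.centralizer ((X.map f : Subgroup G') : Set G') := by
  ext x'
  rw [Subgroup.mem_inf]
  constructor
  · rintro ⟨x, hx, rfl⟩
    obtain ⟨hxX, hxC⟩ := Subgroup.mem_inf.mp hx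
    refine ⟨⟨x, hxX, rfl⟩, Subgroup.mem_centralizer_iff.mpr ?_⟩
    rintro _ ⟨y, hy, rfl⟩
    rw [← map_mul, ← map_mul, Subgroup.mem_centralizer_iff.mp hxC y hy]
  · rintro ⟨⟨x, hxX, rfl⟩, hc⟩
    have hxX' : x ∈ X := hxX
    refine ⟨x, Subgroup.mem_inf.mpr ⟨hxX', Subgroup.mem_centralizer_iff.mpr ?_⟩, rfl⟩
    intro y hy
    have h1 : f y * f x = f x * f y := Subgroup.mem_centralizer_iff.mp hc (f y) ⟨y, hy, rfl⟩
    have h2 : y * x * (x * y)⁻¹ ∈ R :=
      R.mul_mem (R.mul_mem (hXR hy) (hXR hxX')) (R.inv_mem (R.mul_mem (hXR hxX') (hXR hy)))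
    have h3 : f (y * x * (x * y)⁻¹) = 1 := by
      rw [map_mul, map_inv, map_mul, map_mul, h1, mul_inv_cancel]
    exact mul_inv_eq_one.mp (hinj _ h2 h3)

theorem map_conj_inf_centralizer {X : Subgroup G} {g : G}
    (hg : g ∈ Subgroup.normalizer (X : Set G)) :
    (X ⊓ Subgroup.centralizer (X : Set G)).map (MulAut.conj g).toMonoidHom =
      X ⊓ Subgroup.centralizer (X : Set G) := by
  have h := map_inf_centralizer_of_injOn (MulAut.conj g).toMonoidHom ⊤ X le_top (conj_injOn g ⊤)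
  rwa [map_conj_eq_self hg] at h

theorem normalizer_le_normalizer_inf_centralizer (X : Subgroup G) :
    Subgroup.normalizer (X : Set G) ≤
      Subgroup.normalizer ((X ⊓ Subgroup.centralizer (X : Set G) : Subgroup G) : Set G) :=
  normalizer_le_of_map_conj (fun _ hg => map_conj_inf_centralizer hg)

end Cfsg.Agent.Lib.Helper49_Puig
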