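/-
Frobenius' theorem (helper6): the Frobenius kernel is a normal subgroup complementing `H`.
Character-theoretic proof on top of helper75's induced class functions and helper3's
character foundation.
-/
import Mathlib
import Cfsg.Prelude.Def_Characters
import Cfsg.Prelude.Def_Solvable
import Cfsg.Agent.Lib.Helper3_CharColumn
import Cfsg.Agent.Lib.Helper75_Induced
import Cfsg.Agent.Lib.Helper75_CharArith
import Cfsg.Agent.Lib.Helper75_IndChar
import Cfsg.Agent.Lib.Helper80_CharInd
import Cfsg.Agent.Lib.Helper71_FrobCount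

set_option autoImplicit false
set_option linter.unusedSectionVars false

namespace Cfsg.Agent.Lib.Helper6_Frobenius

open Cfsg
open scoped ComplexConjugate Pointwise
open Cfsg.Agent.Lib.Helper3_CharBridge Cfsg.Agent.Lib.Helper3_CharOrtho
  Cfsg.Agent.Lib.Helper3_CharComplete Cfsg.Agent.Lib.Helper75_CharArith
  Cfsg.Agent.Lib.Helper75_Induced

section normone

variable {G : Type*} [Group G] [Fintype G]

theorem irr_one_pos {X : Type*} [Group X] (χ : X → ℂ) (hχ : Cfsg.IsIrrCharacter X χ) :
    ∃ n : ℕ, 0 < n ∧ χ 1 = n := by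
  obtain ⟨n, ρ, hirr, hρ⟩ := hχ
  refine ⟨n, Cfsg.Agent.Lib.Helper80_CharBasic.irr_dim_pos ρ hirr, ?_⟩
  rw [← hρ, Representation.char_one]
  simp

/-- A class function with integral multiplicities, norm one and positive degree is an
irreducible character. -/
theorem isIrrCharacter_of_norm_one (θ : G → ℂ) (hcf : IsClassFunction G θ)
    (hint : ∀ ξ : IrrCharacter G, ∃ a : ℤ, classInner θ ξ = a)
    (h1 : classInner θ θ = 1) (hpos : ∃ d : ℕ, 0 < d ∧ θ 1 = d) : IsIrrCharacter G θ := by
  classical
  choose a ha using hint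
  have hpars : (∑ ξ : IrrCharacter G, a ξ * a ξ) = 1 := by
    have := classInner_self_eq_sum hcf
    rw [h1] at this
    have h3 : (1 : ℂ) = ((∑ ξ : IrrCharacter G, a ξ * a ξ : ℤ) : ℂ) := by
      rw [this]; push_cast
      apply Finset.sum_congr rfl; intro ξ _; rw [ha ξ, map_intCast]
    exact_mod_cast h3.symm
  have hdecomp : θ = ∑ ξ : IrrCharacter G, (a ξ : ℂ) • (ξ : G → ℂ) := by
    conv_lhs => rw [classFunction_eq_sum _ hcf]
    apply Finset.sum_congr rfl; intro ξ _; rw [ha ξ]
  have hex : ∃ ξ₀, a ξ₀ ≠ 0 := by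
    by_contra hcon
    push Not at hcon
    simp [hcon] at hpars
  obtain ⟨ξ₀, h₀⟩ := hex
  have hsplit : (∑ ξ : IrrCharacter G, a ξ * a ξ) = a ξ₀ * a ξ₀ +
      ∑ ξ ∈ Finset.univ.erase ξ₀, a ξ * a ξ := by
    rw [Finset.add_sum_erase _ (fun ξ => a ξ * a ξ) (Finset.mem_univ ξ₀)]
  have hrest_nonneg : 0 ≤ ∑ ξ ∈ Finset.univ.erase ξ₀, a ξ * a ξ :=
    Finset.sum_nonneg (fun ξ _ => mul_self_nonneg _)
  rw [hsplit] at hpars
  have h00 : 1 ≤ a ξ₀ * a ξ₀ := by
    have : 0 < a ξ₀ * a ξ₀ := mul_self_pos.2 h₀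
    omega
  have hrest : ∑ ξ ∈ Finset.univ.erase ξ₀, a ξ * a ξ = 0 := by omega
  have hzero : ∀ ξ, ξ ≠ ξ₀ → a ξ = 0 := by
    intro ξ hx
    have := (Finset.sum_eq_zero_iff_of_nonneg (fun ξ _ => mul_self_nonneg (a ξ))).mp hrest ξ
      (by simp [hx])
    exact mul_self_eq_zero.mp this
  have hθ : θ = (a ξ₀ : ℂ) • (ξ₀ : G → ℂ) := by
    rw [hdecomp, ← Finset.add_sum_erase _ (fun ξ : IrrCharacter G => (a ξ : ℂ) • (ξ : G → ℂ))
      (Finset.mem_univ ξ₀), Finset.sum_eq_zero, add_zero]
    intro ξ hξ
    simp only [Finset.mem_erase, Finset.mem_univ, and_true] at hξ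
    rw [hzero ξ hξ]; simp
  obtain ⟨d, hd, hθ1⟩ := hpos
  obtain ⟨n, hn, hξ1⟩ := irr_one_pos (ξ₀ : G → ℂ) ξ₀.2
  have hval : (d : ℤ) = a ξ₀ * n := by
    have := congrFun hθ 1
    rw [hθ1, Pi.smul_apply, smul_eq_mul, hξ1] at this
    exact_mod_cast this
  have ha1 : a ξ₀ = 1 := by
    have hsq : a ξ₀ * a ξ₀ = 1 := by omega
    have hpos' : 0 < a ξ₀ := by
      by_contra hneg
      have h1 : a ξ₀ * (n : ℤ) ≤ 0 :=
        mul_nonpos_of_nonpos_of_nonneg (not_lt.1 hneg) (by positivity)
      have h2 : (0 : ℤ) < d := by exact_mod_cast hd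
      omega
    nlinarith
  rw [hθ, ha1, Int.cast_one, one_smul]
  exact ξ₀.2

end normone

section frob

variable {G : Type*} [Group G] [Fintype G] (H : Subgroup G)

/-- the trivial-intersection property of a Frobenius complement -/
theorem eq_one_of_conj_mem (hH : IsFrobeniusComplement H) {x h : G} (hx : x ∉ H) (hh : h ∈ H)
    (hc : x⁻¹ * h * x ∈ H) : h = 1 := by
  have h0 := hH.2.2 x hx
  have hmem : h ∈ H ⊓ (MulAut.conj x • H) := by
    refine Subgroup.mem_inf.2 ⟨hh, ?_⟩
    rw [Subgroup.mem_smul_pointwise_iff_exists]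
    refine ⟨x⁻¹ * h * x, hc, ?_⟩
    rw [MulAut.smul_def, MulAut.conj_apply]
    group
  rw [h0] at hmem
  exact Subgroup.mem_bot.1 hmem

/-- the induced function agrees with `θ` on non-identity elements of `H` -/
theorem indFun_of_mem (hH : IsFrobeniusComplement H) (θ : H → ℂ) (hθ : IsClassFunction H θ)
    (h : H) (h1 : h ≠ 1) : indFun H θ (h : G) = θ h := by
  classical
  have hN : (Nat.card H : ℂ) ≠ 0 := by
    rw [Nat.cast_ne_zero]; exact Nat.card_pos.ne'
  have h1' : (h : G) ≠ 1 := fun e => h1 (Subtype.ext e)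
  have key : ∀ x : G, extendByZero H θ (x⁻¹ * (h : G) * x) = if x ∈ H then θ h else 0 := by
    intro x
    split_ifs with hx
    · have hmem : x⁻¹ * (h : G) * x ∈ H := H.mul_mem (H.mul_mem (H.inv_mem hx) h.2) hx
      rw [extendByZero_of_mem _ θ hmem]
      have := hθ h (⟨x, hx⟩⁻¹ : H)
      rw [← this]
      congr 1
      ext
      simp
    · by_cases hmem : x⁻¹ * (h : G) * x ∈ H
      · exact absurd (eq_one_of_conj_mem H hH hx h.2 hmem) h1'
      · exact extendByZero_of_not_mem _ θ hmem
  rw [indFun_apply]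
  simp_rw [key]
  rw [Finset.sum_ite, Finset.sum_const_zero, add_zero, Finset.sum_const, nsmul_eq_mul,
    ← mul_assoc]
  have hcard : ((Finset.univ.filter (fun x : G => x ∈ H)).card : ℂ) = (Nat.card H : ℂ) := by
    rw [Nat.card_eq_fintype_card, Fintype.card_subtype]
  rw [hcard, inv_mul_cancel₀ hN, one_mul]

/-- the induced function vanishes off the conjugates of `H` -/
theorem indFun_of_not_conj (θ : H → ℂ) {g : G} (hg : ∀ x : G, g ∉ MulAut.conj x • H) :
    indFun H θ g = 0 := by
  rw [indFun_apply]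
  have key : ∀ x : G, extendByZero H θ (x⁻¹ * g * x) = 0 := by
    intro x
    apply extendByZero_of_not_mem
    intro hmem
    apply hg x
    rw [Subgroup.mem_smul_pointwise_iff_exists]
    refine ⟨x⁻¹ * g * x, hmem, ?_⟩
    rw [MulAut.smul_def, MulAut.conj_apply]
    group
  simp [key]

/-- the function `φ - φ 1` on `H` -/
noncomputable def theta (φ : H → ℂ) : H → ℂ := φ - fun _ => φ 1

/-- the extension `φ*` of `φ` to `G` -/
noncomputable def star (φ : H → ℂ) : G → ℂ := indFun H (theta H φ) + fun _ => φ 1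

theorem theta_one (φ : H → ℂ) : theta H φ 1 = 0 := by simp [theta]

theorem isClassFunction_theta {φ : H → ℂ} (hφ : IsClassFunction H φ) :
    IsClassFunction H (theta H φ) := by
  intro g h
  simp only [theta, Pi.sub_apply]
  rw [hφ g h]

theorem star_one (φ : H → ℂ) : star H φ 1 = φ 1 := by
  simp only [star, Pi.add_apply]
  rw [Cfsg.Agent.Lib.Helper80_CharInd.indFun_one, theta_one, mul_zero, zero_add]

theorem star_coe (hH : IsFrobeniusComplement H) {φ : H → ℂ} (hφ : IsClassFunction H φ) (h : H) :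
    star H φ (h : G) = φ h := by
  by_cases h1 : h = 1
  · rw [h1]; exact star_one H φ
  · simp only [star, Pi.add_apply]
    rw [indFun_of_mem H hH _ (isClassFunction_theta H hφ) h h1]
    simp [theta]

theorem star_of_mem_kernel (φ : H → ℂ) {g : G} (hg : g ∈ frobeniusKernel H) :
    star H φ g = φ 1 := by
  rcases hg with rfl | hg
  · exact star_one H φ
  · simp only [star, Pi.add_apply]
    rw [indFun_of_not_conj H _ hg, zero_add]

theorem isClassFunction_star (φ : H → ℂ) : IsClassFunction G (star H φ) := by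
  intro g h
  simp only [star, Pi.add_apply]
  rw [isClassFunction_indFun H _ g h]

theorem const_eq_smul {X : Type*} (c : ℂ) : (fun _ : X => c) = c • (fun _ : X => (1 : ℂ)) := by
  funext x; simp

theorem classInner_const_left {X : Type*} [Group X] [Fintype X] (c : ℂ) (ψ : X → ℂ) :
    classInner (fun _ : X => c) ψ = c * classInner (fun _ : X => (1 : ℂ)) ψ := by
  rw [const_eq_smul, classInner_smul_left]

theorem classInner_one_one {X : Type*} [Group X] [Fintype X] :
    classInner (fun _ : X => (1 : ℂ)) (fun _ : X => (1 : ℂ)) = 1 :=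
  classInner_self_of_isIrrCharacter (Cfsg.Agent.Lib.Helper80_CharBasic.isIrrCharacter_one X)

/-- `[θ, ψ|_H]` for a class function `ψ` whose restriction is a character -/
theorem classInner_theta_int [Fintype H] {φ : H → ℂ} (hφ : IsIrrCharacter H φ) {ψ : H → ℂ}
    (hψ : IsCharacter H ψ) : ∃ a : ℤ, classInner (theta H φ) ψ = a := by
  obtain ⟨d, _, hd⟩ := irr_one_pos φ hφ
  obtain ⟨n₁, h₁⟩ := classInner_isCharacter_nat (isCharacter_of_isIrrCharacter hφ) hψ
  obtain ⟨n₂, h₂⟩ := classInner_isCharacter_nat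
    (isCharacter_of_isIrrCharacter (Cfsg.Agent.Lib.Helper80_CharBasic.isIrrCharacter_one H)) hψ
  refine ⟨(n₁ : ℤ) - d * n₂, ?_⟩
  rw [theta, classInner_sub_left, classInner_const_left, h₁, h₂, hd]
  push_cast
  ring

theorem star_int [Fintype H] {φ : H → ℂ} (hφ : IsIrrCharacter H φ)
    (ξ : IrrCharacter G) : ∃ a : ℤ, classInner (star H φ) ξ = a := by
  obtain ⟨d, _, hd⟩ := irr_one_pos φ hφ
  obtain ⟨a₁, h₁⟩ := classInner_theta_int H hφ
    (isCharacter_restrict H (isCharacter_of_isIrrCharacter ξ.2))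
  obtain ⟨n₂, h₂⟩ := classInner_isCharacter_nat
    (isCharacter_of_isIrrCharacter (Cfsg.Agent.Lib.Helper80_CharBasic.isIrrCharacter_one G))
    (isCharacter_of_isIrrCharacter ξ.2)
  refine ⟨a₁ + d * n₂, ?_⟩
  rw [star, classInner_add_left, frobenius_reciprocity H _ _ (isClassFunction_of_isIrrCharacter ξ.2),
    h₁, classInner_const_left, h₂, hd]
  push_cast
  ring

theorem star_norm [Fintype H] (hH : IsFrobeniusComplement H) {φ : H → ℂ} (hφ : IsIrrCharacter H φ) :
    classInner (star H φ) (star H φ) = 1 := by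
  obtain ⟨d, _, hd⟩ := irr_one_pos φ hφ
  have hcf := isClassFunction_of_isIrrCharacter hφ
  set e := classInner (fun _ : H => (1 : ℂ)) φ with he
  -- restriction of star to H is φ
  have hres : (fun h : H => star H φ (h : G)) = φ := funext (star_coe H hH hcf)
  have h1 : classInner (indFun H (theta H φ)) (star H φ) = 1 - d * e := by
    rw [frobenius_reciprocity H _ _ (isClassFunction_star H φ), hres, theta, classInner_sub_left,
      classInner_self_of_isIrrCharacter hφ, classInner_const_left, hd]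
  have h2 : classInner (star H φ) (fun _ : G => (1 : ℂ)) = conj e := by
    have hc1 : IsClassFunction G (fun _ : G => (1 : ℂ)) := fun _ _ => rfl
    have e1 : classInner (fun _ : H => φ 1) (fun _ : H => (1 : ℂ)) = φ 1 := by
      rw [classInner_const_left, classInner_one_one, mul_one]
    have e2 : classInner (fun _ : G => φ 1) (fun _ : G => (1 : ℂ)) = φ 1 := by
      rw [classInner_const_left, classInner_one_one, mul_one]
    rw [star, classInner_add_left, frobenius_reciprocity H _ _ hc1, theta, classInner_sub_left,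
      e1, e2, he, classInner_conj_symm]
    ring
  have h3 : classInner (fun _ : G => φ 1) (star H φ) = d * e := by
    rw [classInner_const_left, ← classInner_conj_symm, h2, Complex.conj_conj, hd]
  conv_lhs => rw [star]
  rw [classInner_add_left]
  rw [show indFun H (theta H φ) + (fun _ => φ 1) = star H φ from rfl, h1, h3]
  ring

theorem isIrrCharacter_star [Fintype H] (hH : IsFrobeniusComplement H) {φ : H → ℂ}
    (hφ : IsIrrCharacter H φ) : IsIrrCharacter G (star H φ) := by
  apply isIrrCharacter_of_norm_one _ (isClassFunction_star H φ) (star_int H hφ)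
    (star_norm H hH hφ)
  obtain ⟨d, hd0, hd⟩ := irr_one_pos φ hφ
  exact ⟨d, hd0, by rw [star_one, hd]⟩

end frob

section main

variable {G : Type*} [Group G] [Fintype G] (H : Subgroup G)

open Cfsg.Agent.Lib.Helper3_CharEigen Cfsg.Agent.Lib.Helper3_CharColumn in
/-- **Frobenius' theorem** (`Fintype` version). -/
theorem exists_kernel_fintype [Fintype H] (hH : IsFrobeniusComplement H) :
    ∃ N : Subgroup G, (N : Set G) = frobeniusKernel H ∧ N.Normal ∧
      Subgroup.IsComplement' N H := by
  classical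
  have hrep : ∀ φ : IrrCharacter H, ∃ (n : ℕ) (ρ : Representation ℂ G (Fin n → ℂ)),
      ρ.IsIrreducible ∧ ρ.character = star H φ := fun φ => isIrrCharacter_star H hH φ.2
  choose n ρ hirr hρ using hrep
  let K : Subgroup G := ⨅ φ : IrrCharacter H, MonoidHom.ker (ρ φ)
  have hKn : K.Normal := Subgroup.normal_iInf_normal (fun φ => MonoidHom.normal_ker _)
  have mem_K : ∀ g, g ∈ K ↔ ∀ φ : IrrCharacter H, star H φ g = star H φ 1 := by
    intro g
    show g ∈ ⨅ φ : IrrCharacter H, MonoidHom.ker (ρ φ) ↔ _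
    rw [Subgroup.mem_iInf]
    apply forall_congr'
    intro φ
    rw [MonoidHom.mem_ker, ← hρ φ, Representation.char_one, char_eq_finrank_iff]
    rfl
  -- kernel elements lie in K
  have hFK : frobeniusKernel H ⊆ (K : Set G) := by
    intro g hg
    rw [SetLike.mem_coe, mem_K]
    intro φ
    rw [star_of_mem_kernel H _ hg, star_one]
  -- K meets H trivially
  have hKH : K ⊓ H = ⊥ := by
    rw [eq_bot_iff]
    intro h hh
    obtain ⟨hK, hH'⟩ := Subgroup.mem_inf.1 hh
    rw [mem_K] at hK
    have hconj : IsConj (⟨h, hH'⟩ : H) 1 := by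
      rw [isConj_iff_forall_irr]
      intro φ
      have := hK φ
      rw [star_one] at this
      rw [← this]
      exact (star_coe H hH (isClassFunction_of_isIrrCharacter φ.2) ⟨h, hH'⟩).symm
    have h1 : (⟨h, hH'⟩ : H) = 1 := isConj_one_left.1 hconj
    exact Subgroup.mem_bot.2 (congrArg Subtype.val h1)
  -- K consists of kernel elements
  have hKF : (K : Set G) ⊆ frobeniusKernel H := by
    intro k hk
    by_cases hk1 : k = 1
    · exact Or.inl hk1
    · right
      intro g hg
      rw [Subgroup.mem_smul_pointwise_iff_exists] at hg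
      obtain ⟨s, hs, hsk⟩ := hg
      rw [MulAut.smul_def, MulAut.conj_apply] at hsk
      have hsK : s ∈ K := by
        have : s = g⁻¹ * k * g⁻¹⁻¹ := by rw [← hsk]; group
        rw [this]
        exact hKn.conj_mem k hk g⁻¹
      have hs1 : s = 1 := by
        have : s ∈ K ⊓ H := Subgroup.mem_inf.2 ⟨hsK, hs⟩
        rw [hKH] at this
        exact Subgroup.mem_bot.1 this
      apply hk1
      rw [← hsk, hs1]
      group
  have hKeq : (K : Set G) = frobeniusKernel H := Set.Subset.antisymm hKF hFK
  refine ⟨K, hKeq, hKn, ?_⟩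
  apply Subgroup.isComplement'_of_card_mul_and_disjoint
  · have hc : Nat.card K = H.index := by
      rw [← Cfsg.Agent.Lib.Helper71_FrobCount.card_frobeniusKernel H hH, ← hKeq]
      rfl
    rw [hc, mul_comm]
    exact H.card_mul_index
  · exact disjoint_iff.2 hKH

end main

/-- **Frobenius' theorem**: the Frobenius kernel of a Frobenius complement `H` in a finite group is
(the underlying set of) a normal subgroup complementing `H`. -/
theorem exists_kernel {G : Type*} [Group G] [Finite G] (H : Subgroup G)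
    (hH : IsFrobeniusComplement H) :
    ∃ N : Subgroup G, (N : Set G) = frobeniusKernel H ∧ N.Normal ∧
      Subgroup.IsComplement' N H := by
  classical
  have := Fintype.ofFinite G
  have := Fintype.ofFinite H
  exact exists_kernel_fintype H hH

end Cfsg.Agent.Lib.Helper6_Frobenius
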