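/-
Wielandt generalisation of the Frobenius theorem (helper52): if `H₀ ⊴ H ≤ G` and
`H ∩ H^x ≤ H₀` for all `x ∉ H`, there is `M ⊴ G` with `M ∩ H = H₀`, `M H = G`.
Built on helper6 Frobenius file (same character-theoretic construction).
-/
import Mathlib
import Cfsg.Agent.Lib.Helper6_Frobenius
import Cfsg.Agent.Lib.Helper57_FrobNorm
import Cfsg.Agent.S4387

set_option autoImplicit false
set_option linter.unusedSectionVars false

namespace Cfsg.Agent.Lib.Helper52_Wielandt

open Cfsg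
open scoped ComplexConjugate Pointwise
open Cfsg.Agent.Lib.Helper3_CharBridge Cfsg.Agent.Lib.Helper3_CharOrtho
  Cfsg.Agent.Lib.Helper3_CharComplete Cfsg.Agent.Lib.Helper75_CharArith
  Cfsg.Agent.Lib.Helper75_Induced Cfsg.Agent.Lib.Helper6_Frobenius

section wielandt

variable {G : Type*} [Group G] [Fintype G] (H H₀ : Subgroup G)

/-- Wielandt's hypothesis: `H₀ ≤ H`, `H₀` normalised by `H`, and `H ∩ H^x ≤ H₀` for `x ∉ H`. -/
def WHyp : Prop :=
  H₀ ≤ H ∧ (∀ h ∈ H, ∀ k ∈ H₀, h * k * h⁻¹ ∈ H₀) ∧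
    ∀ x : G, x ∉ H → ∀ h ∈ H, x⁻¹ * h * x ∈ H → h ∈ H₀

variable {H H₀}

theorem WHyp.conj_mem (hW : WHyp H H₀) {x h : G} (hx : x ∉ H) (hh : h ∈ H)
    (hc : x⁻¹ * h * x ∈ H) : x⁻¹ * h * x ∈ H₀ := by
  have hx' : x⁻¹ ∉ H := fun h' => hx (by simpa using H.inv_mem h')
  apply hW.2.2 x⁻¹ hx' _ hc
  have : x⁻¹⁻¹ * (x⁻¹ * h * x) * x⁻¹ = h := by group
  rw [this]; exact hh

/-- the induced function agrees with `θ` on `H` when `θ` vanishes on `H₀` -/
theorem indFun_of_mem_W (hW : WHyp H H₀) (θ : H → ℂ) (hθ : IsClassFunction H θ)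
    (hθ0 : ∀ k : H, (k : G) ∈ H₀ → θ k = 0) (h : H) : indFun H θ (h : G) = θ h := by
  classical
  have hN : (Nat.card H : ℂ) ≠ 0 := by
    rw [Nat.cast_ne_zero]; exact Nat.card_pos.ne'
  have key : ∀ x : G, extendByZero H θ (x⁻¹ * (h : G) * x) = if x ∈ H then θ h else 0 := by
    intro x
    split_ifs with hx
    · have hmem : x⁻¹ * (h : G) * x ∈ H := H.mul_mem (H.mul_mem (H.inv_mem hx) h.2) hx
      rw [extendByZero_of_mem _ θ hmem]
      have := hθ h (⟨x, hx⟩⁻¹ : H)
      rw [← this]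
      congr 1
      ext
      simp
    · by_cases hmem : x⁻¹ * (h : G) * x ∈ H
      · rw [extendByZero_of_mem _ θ hmem]
        exact hθ0 _ (hW.conj_mem hx h.2 hmem)
      · exact extendByZero_of_not_mem _ θ hmem
  rw [indFun_apply]
  simp_rw [key]
  rw [Finset.sum_ite, Finset.sum_const_zero, add_zero, Finset.sum_const, nsmul_eq_mul,
    ← mul_assoc]
  have hcard : ((Finset.univ.filter (fun x : G => x ∈ H)).card : ℂ) = (Nat.card H : ℂ) := by
    rw [Nat.card_eq_fintype_card, Fintype.card_subtype]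
  rw [hcard, inv_mul_cancel₀ hN, one_mul]

/-- the induced function vanishes at elements not conjugate into `H \ H₀` -/
theorem indFun_of_not_conj_W (θ : H → ℂ) (hθ0 : ∀ k : H, (k : G) ∈ H₀ → θ k = 0) {g : G}
    (hg : ∀ x : G, x⁻¹ * g * x ∈ H → x⁻¹ * g * x ∈ H₀) : indFun H θ g = 0 := by
  rw [indFun_apply]
  have key : ∀ x : G, extendByZero H θ (x⁻¹ * g * x) = 0 := by
    intro x
    by_cases hmem : x⁻¹ * g * x ∈ H
    · rw [extendByZero_of_mem _ θ hmem]
      exact hθ0 _ (hg x hmem)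
    · exact extendByZero_of_not_mem _ θ hmem
  simp [key]

theorem theta_vanish {φ : H → ℂ} (hφ0 : ∀ k : H, (k : G) ∈ H₀ → φ k = φ 1) :
    ∀ k : H, (k : G) ∈ H₀ → theta H φ k = 0 := by
  intro k hk
  simp [theta, hφ0 k hk]

theorem star_coe_W (hW : WHyp H H₀) {φ : H → ℂ} (hφ : IsClassFunction H φ)
    (hφ0 : ∀ k : H, (k : G) ∈ H₀ → φ k = φ 1) (h : H) : star H φ (h : G) = φ h := by
  simp only [Helper6_Frobenius.star, Pi.add_apply]
  rw [indFun_of_mem_W hW _ (isClassFunction_theta H hφ) (theta_vanish hφ0) h]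
  simp [theta]

theorem star_of_not_conj_W {φ : H → ℂ} (hφ0 : ∀ k : H, (k : G) ∈ H₀ → φ k = φ 1) {g : G}
    (hg : ∀ x : G, x⁻¹ * g * x ∈ H → x⁻¹ * g * x ∈ H₀) : star H φ g = φ 1 := by
  simp only [Helper6_Frobenius.star, Pi.add_apply]
  rw [indFun_of_not_conj_W _ (theta_vanish hφ0) hg, zero_add]

theorem star_norm_W [Fintype H] (hW : WHyp H H₀) {φ : H → ℂ} (hφ : IsIrrCharacter H φ)
    (hφ0 : ∀ k : H, (k : G) ∈ H₀ → φ k = φ 1) :
    classInner (star H φ) (star H φ) = 1 := by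
  obtain ⟨d, _, hd⟩ := irr_one_pos φ hφ
  have hcf := isClassFunction_of_isIrrCharacter hφ
  set e := classInner (fun _ : H => (1 : ℂ)) φ with he
  have hres : (fun h : H => star H φ (h : G)) = φ := funext (star_coe_W hW hcf hφ0)
  have h1 : classInner (indFun H (theta H φ)) (star H φ) = 1 - d * e := by
    rw [frobenius_reciprocity H _ _ (isClassFunction_star H φ), hres, theta, classInner_sub_left,
      classInner_self_of_isIrrCharacter hφ, classInner_const_left, hd]
  have h2 : classInner (star H φ) (fun _ : G => (1 : ℂ)) = conj e := by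
    have hc1 : IsClassFunction G (fun _ : G => (1 : ℂ)) := fun _ _ => rfl
    have e1 : classInner (fun _ : H => φ 1) (fun _ : H => (1 : ℂ)) = φ 1 := by
      rw [classInner_const_left, classInner_one_one, mul_one]
    have e2 : classInner (fun _ : G => φ 1) (fun _ : G => (1 : ℂ)) = φ 1 := by
      rw [classInner_const_left, classInner_one_one, mul_one]
    rw [Helper6_Frobenius.star, classInner_add_left, frobenius_reciprocity H _ _ hc1, theta, classInner_sub_left,
      e1, e2, he, classInner_conj_symm]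
    ring
  have h3 : classInner (fun _ : G => φ 1) (star H φ) = d * e := by
    rw [classInner_const_left, ← classInner_conj_symm, h2, Complex.conj_conj, hd]
  conv_lhs => rw [Helper6_Frobenius.star]
  rw [classInner_add_left]
  rw [show indFun H (theta H φ) + (fun _ => φ 1) = star H φ from rfl, h1, h3]
  ring

theorem isIrrCharacter_star_W [Fintype H] (hW : WHyp H H₀) {φ : H → ℂ}
    (hφ : IsIrrCharacter H φ) (hφ0 : ∀ k : H, (k : G) ∈ H₀ → φ k = φ 1) :
    IsIrrCharacter G (star H φ) := by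
  apply isIrrCharacter_of_norm_one _ (isClassFunction_star H φ) (star_int H hφ)
    (star_norm_W hW hφ hφ0)
  obtain ⟨d, hd0, hd⟩ := irr_one_pos φ hφ
  exact ⟨d, hd0, by rw [Helper6_Frobenius.star_one, hd]⟩

end wielandt

section main

variable {G : Type*} [Group G] [Fintype G] {H H₀ : Subgroup G}

open Cfsg.Agent.Lib.Helper3_CharEigen Cfsg.Agent.Lib.Helper3_CharColumn in
/-- **Wielandt's generalisation of Frobenius' theorem** (`Fintype` version). -/
theorem exists_wielandt_kernel_fintype [Fintype H] (hW : WHyp H H₀) :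
    ∃ M : Subgroup G, M.Normal ∧ M ⊓ H = H₀ ∧ M ⊔ H = ⊤ := by
  classical
  let I := {φ : IrrCharacter H // ∀ k : H, (k : G) ∈ H₀ → (φ : H → ℂ) k = (φ : H → ℂ) 1}
  have hrep : ∀ φ : I, ∃ (n : ℕ) (ρ : Representation ℂ G (Fin n → ℂ)),
      ρ.IsIrreducible ∧ ρ.character = Helper6_Frobenius.star H (φ.1 : H → ℂ) :=
    fun φ => isIrrCharacter_star_W hW φ.1.2 φ.2
  choose n ρ hirr hρ using hrep
  let M : Subgroup G := ⨅ φ : I, MonoidHom.ker (ρ φ)
  have hMn : M.Normal := Subgroup.normal_iInf_normal (fun φ => MonoidHom.normal_ker _)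
  have mem_M : ∀ g, g ∈ M ↔ ∀ φ : I, Helper6_Frobenius.star H (φ.1 : H → ℂ) g =
      Helper6_Frobenius.star H (φ.1 : H → ℂ) 1 := by
    intro g
    show g ∈ ⨅ φ : I, MonoidHom.ker (ρ φ) ↔ _
    rw [Subgroup.mem_iInf]
    apply forall_congr'
    intro φ
    rw [MonoidHom.mem_ker, ← hρ φ, Representation.char_one, char_eq_finrank_iff]
    rfl
  -- elements not conjugate into `H \ H₀` lie in `M`
  have hout : ∀ g : G, (∀ x : G, x⁻¹ * g * x ∈ H → x⁻¹ * g * x ∈ H₀) → g ∈ M := by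
    intro g hg
    rw [mem_M]
    intro φ
    rw [star_of_not_conj_W φ.2 hg, Helper6_Frobenius.star_one]
  -- `H₀ ≤ M`
  have hH0M : H₀ ≤ M := by
    intro k hk
    rw [mem_M]
    intro φ
    have := star_coe_W hW (isClassFunction_of_isIrrCharacter φ.1.2) φ.2 ⟨k, hW.1 hk⟩
    rw [Helper6_Frobenius.star_one]
    rw [show ((⟨k, hW.1 hk⟩ : H) : G) = k from rfl] at this
    rw [this]
    exact φ.2 ⟨k, hW.1 hk⟩ hk
  -- `M ⊓ H ≤ H₀`
  have hMH : M ⊓ H ≤ H₀ := by
    intro h hh
    obtain ⟨hM, hH'⟩ := Subgroup.mem_inf.1 hh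
    rw [mem_M] at hM
    have : (H₀.subgroupOf H).Normal := by
      constructor
      intro k hk g
      rw [Subgroup.mem_subgroupOf] at hk ⊢
      exact hW.2.1 g g.2 k hk
    let Q := H ⧸ H₀.subgroupOf H
    have : Fintype Q := Fintype.ofFinite Q
    let f : H →* Q := QuotientGroup.mk' (H₀.subgroupOf H)
    have hf : Function.Surjective f := QuotientGroup.mk'_surjective _
    have hconj : IsConj (f ⟨h, hH'⟩) 1 := by
      rw [isConj_iff_forall_irr]
      intro χ
      have hχ' : IsIrrCharacter H (fun x => (χ : Q → ℂ) (f x)) :=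
        Cfsg.Agent.Lib.Helper57_FrobNorm.isIrrCharacter_comp_surjective f hf χ.2
      have hI : ∀ k : H, (k : G) ∈ H₀ → (fun x => (χ : Q → ℂ) (f x)) k =
          (fun x => (χ : Q → ℂ) (f x)) 1 := by
        intro k hk
        have hk1 : f k = 1 := by
          rw [QuotientGroup.mk'_apply, QuotientGroup.eq_one_iff, Subgroup.mem_subgroupOf]
          exact hk
        show (χ : Q → ℂ) (f k) = (χ : Q → ℂ) (f 1)
        rw [hk1, map_one]
      have h1 := hM ⟨⟨_, hχ'⟩, hI⟩
      have h2 := star_coe_W hW (isClassFunction_of_isIrrCharacter hχ') hI ⟨h, hH'⟩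
      rw [Helper6_Frobenius.star_one] at h1
      rw [show ((⟨h, hH'⟩ : H) : G) = h from rfl] at h2
      rw [h1] at h2
      have h3 : (χ : Q → ℂ) (f 1) = (χ : Q → ℂ) (f ⟨h, hH'⟩) := h2
      rw [← h3, map_one]
    have h1 : f ⟨h, hH'⟩ = 1 := isConj_one_left.1 hconj
    rw [QuotientGroup.mk'_apply, QuotientGroup.eq_one_iff, Subgroup.mem_subgroupOf] at h1
    exact h1
  refine ⟨M, hMn, le_antisymm hMH (le_inf hH0M hW.1), ?_⟩
  -- `M ⊔ H = ⊤`: otherwise some element lies in no conjugate of `M ⊔ H`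
  by_contra hne
  obtain ⟨g, hg⟩ := Cfsg.Agent.S4387.exists_not_mem_conj (M ⊔ H) hne
  have hgM : g ∉ M := by
    intro hgM
    apply hg 1
    rw [Subgroup.mem_smul_pointwise_iff_exists]
    exact ⟨g, Subgroup.mem_sup_left hgM, by simp⟩
  apply hgM
  apply hout
  intro x hx
  exfalso
  apply hg x
  rw [Subgroup.mem_smul_pointwise_iff_exists]
  refine ⟨x⁻¹ * g * x, Subgroup.mem_sup_right hx, ?_⟩
  rw [MulAut.smul_def, MulAut.conj_apply]
  group

end main

/-- **Wielandt's theorem** (generalised Frobenius): if `H₀ ⊴ H ≤ G` and `H ∩ H^x ≤ H₀` for all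
`x ∉ H`, then there is a normal subgroup `M` of `G` with `M ∩ H = H₀` and `M H = G`. -/
theorem exists_wielandt_kernel {G : Type*} [Group G] [Finite G] {H H₀ : Subgroup G}
    (hW : WHyp H H₀) : ∃ M : Subgroup G, M.Normal ∧ M ⊓ H = H₀ ∧ M ⊔ H = ⊤ := by
  classical
  have := Fintype.ofFinite G
  have := Fintype.ofFinite H
  exact exists_wielandt_kernel_fintype hW

end Cfsg.Agent.Lib.Helper52_Wielandt
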