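import Cfsg.Agent.Lib.Helper49_MaxSubA
import Cfsg.Agent.Lib.Helper49_Puig
import Cfsg.Agent.Lib.Helper49_Puig2
import Cfsg.Agent.S1466
import Cfsg.Agent.S1469
import Cfsg.Agent.Lib.Helper23_CharP
import Cfsg.Agent.Lib.Helper24_Coprime
import Cfsg.Agent.Lib.Helper24_CoprimeAction

/-!
# Tools for Bender's maximal subgroup theorem (helper49)

* `ppc p X`: `O_{p'}(X)` of a subgroup `X`, inside the ambient group;
* `pq_step`: a form of Thompson's `P × Q` lemma for subgroups;
* `zl S`: the centre of the Puig subgroup `L(S)`, inside the ambient group; `le_normalizer_zl`: if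
  `K ⊴ L` is solvable of odd order with `O_{p'}(K) ≤ Z(K)` and `S` is a Sylow `p`-subgroup of `K`, then
  `L` normalizes `Z(L(S))`.
-/

set_option autoImplicit false

namespace Cfsg.Agent.Lib.Helper49_MaxSub

open Cfsg Cfsg.Agent.Lib.Helper49_Puig

variable {G : Type*} [Group G]

/-! ### `O_{p'}(X)` inside the ambient group -/

/-- `O_{p'}(X)` as a subgroup of the ambient group -/
def ppc (p : ℕ) (X : Subgroup G) : Subgroup G := (pPrimeCore p ↥X).map X.subtype

theorem ppc_le (p : ℕ) (X : Subgroup G) : ppc p X ≤ X := Subgroup.map_subtype_le _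

theorem mem_ppc_iff {p : ℕ} {X : Subgroup G} {x : G} (hx : x ∈ X) :
    x ∈ ppc p X ↔ (⟨x, hx⟩ : ↥X) ∈ pPrimeCore p ↥X := by
  unfold ppc
  constructor
  · rintro ⟨y, hy, hyx⟩
    have : y = ⟨x, hx⟩ := Subtype.ext hyx
    rw [← this]; exact hy
  · intro h
    exact ⟨_, h, rfl⟩

theorem card_ppc_coprime [Finite G] (p : ℕ) (X : Subgroup G) : (Nat.card (ppc p X)).Coprime p := by
  unfold ppc
  rw [Subgroup.card_map_of_injective X.subtype_injective]
  exact Cfsg.Agent.Lib.Helper1_Cores.pPrimeCore_card_coprime p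

theorem le_ppc {p : ℕ} {X D : Subgroup G} (hDX : D ≤ X) (hD : (Nat.card D).Coprime p)
    (hn : X ≤ Subgroup.normalizer (D : Set G)) : D ≤ ppc p X := by
  have h1 : (D.subgroupOf X).Normal := (Subgroup.normal_subgroupOf_iff_le_normalizer hDX).mpr hn
  have h2 : (Nat.card (D.subgroupOf X)).Coprime p := by
    have : Nat.card (D.subgroupOf X) = Nat.card D :=
      Nat.card_congr (Subgroup.subgroupOfEquivOfLe hDX).toEquiv
    rwa [this]
  have h3 : D.subgroupOf X ≤ pPrimeCore p ↥X := Cfsg.Agent.Lib.Helper1_Cores.le_pPrimeCore h1 h2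
  intro d hd
  rw [mem_ppc_iff (hDX hd)]
  exact h3 (by rw [Subgroup.mem_subgroupOf]; exact hd)

theorem normalizer_le_normalizer_ppc [Finite G] (p : ℕ) (X : Subgroup G) :
    Subgroup.normalizer (X : Set G) ≤ Subgroup.normalizer ((ppc p X : Subgroup G) : Set G) :=
  Cfsg.Agent.Lib.Helper24_CoprimeAction.normalizer_le_normalizer_map_of_characteristic X
    (pPrimeCore p ↥X)

theorem normalizer_le_normalizer_pCoreOf (p : ℕ) (X : Subgroup G) :
    Subgroup.normalizer (X : Set G) ≤ Subgroup.normalizer ((pCoreOf p X : Subgroup G) : Set G) := by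
  have : (pCore p ↥X).Characteristic := Cfsg.Agent.Lib.Helper49_CharP.pCore_characteristic p ↥X
  exact Cfsg.Agent.Lib.Helper24_CoprimeAction.normalizer_le_normalizer_map_of_characteristic X
    (pCore p ↥X)

/-! ### Elementary commutation lemmas -/

/-- two subgroups normalizing each other and meeting trivially commute elementwise -/
theorem commute_of_normalize {X Y : Subgroup G} (hXY : X ≤ Subgroup.normalizer (Y : Set G))
    (hYX : Y ≤ Subgroup.normalizer (X : Set G)) (hdis : ∀ c ∈ X, c ∈ Y → c = 1) :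
    ∀ x ∈ X, ∀ y ∈ Y, x * y = y * x := by
  intro x hx y hy
  have h1 : x * y * x⁻¹ * y⁻¹ ∈ Y :=
    Y.mul_mem ((Subgroup.mem_normalizer_iff.mp (hXY hx) y).mp hy) (Y.inv_mem hy)
  have h2 : x * y * x⁻¹ * y⁻¹ ∈ X := by
    have h3 : y * x⁻¹ * y⁻¹ ∈ X := (Subgroup.mem_normalizer_iff.mp (hYX hy) x⁻¹).mp (X.inv_mem hx)
    have e : x * y * x⁻¹ * y⁻¹ = x * (y * x⁻¹ * y⁻¹) := by group
    rw [e]
    exact X.mul_mem hx h3
  have h4 := hdis _ h2 h1
  calc x * y = (x * y * x⁻¹ * y⁻¹) * (y * x) := by group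
    _ = y * x := by rw [h4, one_mul]

/-- an element lying in a `p`-group and in a group of order prime to `p` is trivial -/
theorem eq_one_of_mem_of_mem_coprime [Finite G] {p : ℕ} [Fact p.Prime] {P B : Subgroup G}
    (hP : IsPGroup p P) (hB : (Nat.card B).Coprime p) {c : G} (hcP : c ∈ P) (hcB : c ∈ B) :
    c = 1 := by
  apply Cfsg.Agent.Lib.Helper49_CharP.eq_one_of_coprime_of_mem hP hcP
  have h1 : orderOf c ∣ Nat.card B := by
    have h2 : orderOf (⟨c, hcB⟩ : ↥B) ∣ Nat.card B := orderOf_dvd_natCard _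
    rwa [Subgroup.orderOf_mk] at h2
  exact Nat.Coprime.coprime_dvd_left h1 hB

/-- the order of a `r`-group is prime to `p` when `r ≠ p` -/
theorem card_coprime_of_isPGroup_ne [Finite G] {p r : ℕ} [hp : Fact p.Prime] [hr : Fact r.Prime]
    (hrp : r ≠ p) {B : Subgroup G} (hB : IsPGroup r B) : (Nat.card B).Coprime p := by
  obtain ⟨n, hn⟩ := IsPGroup.iff_card.mp hB
  rw [hn]
  apply Nat.Coprime.pow_left
  exact (Nat.coprime_primes hr.out hp.out).mpr hrp

/-- **`P × Q` lemma**, subgroup form: `A` a `p`-group and `B` a `p'`-group commuting elementwise, both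
normalizing the `p`-group `P`, and `C_P(A)` normalizing `B`; then `B` centralizes `P`. -/
theorem pq_step [Finite G] {p : ℕ} [Fact p.Prime] {P A B : Subgroup G} (hP : IsPGroup p P)
    (hA : IsPGroup p A) (hB : (Nat.card B).Coprime p)
    (hAP : A ≤ Subgroup.normalizer (P : Set G)) (hBP : B ≤ Subgroup.normalizer (P : Set G))
    (hAB : ∀ a ∈ A, ∀ b ∈ B, a * b = b * a)
    (hCB : P ⊓ Subgroup.centralizer (A : Set G) ≤ Subgroup.normalizer (B : Set G)) :
    B ≤ Subgroup.centralizer (P : Set G) := by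
  intro x hx
  rw [Subgroup.mem_centralizer_iff]
  have hxo : (orderOf x).Coprime p := by
    have h1 : orderOf x ∣ Nat.card B := by
      have h2 : orderOf (⟨x, hx⟩ : ↥B) ∣ Nat.card B := orderOf_dvd_natCard _
      rwa [Subgroup.orderOf_mk] at h2
    exact Nat.Coprime.coprime_dvd_left h1 hB
  have hxP : ∀ q ∈ P, x * q * x⁻¹ ∈ P :=
    fun q hq => (Subgroup.mem_normalizer_iff.mp (hBP hx) q).mp hq
  have key := Cfsg.Agent.Lib.Helper23_CharP.pxq P A hP hA hAP x hxo hxP
    (fun b hb => (hAB b hb x hx).symm) ?_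
  · intro q hq
    exact (key q hq).symm
  · intro q hq hqA
    have hqC : q ∈ P ⊓ Subgroup.centralizer (A : Set G) :=
      Subgroup.mem_inf.mpr ⟨hq, Subgroup.mem_centralizer_iff.mpr (fun b hb => (hqA b hb).symm)⟩
    have hqB := hCB hqC
    have h1 : x * q * x⁻¹ * q⁻¹ ∈ P := P.mul_mem (hxP q hq) (P.inv_mem hq)
    have h2 : x * q * x⁻¹ * q⁻¹ ∈ B := by
      have h3 : q * x⁻¹ * q⁻¹ ∈ B := (Subgroup.mem_normalizer_iff.mp hqB x⁻¹).mp (B.inv_mem hx)
      have e : x * q * x⁻¹ * q⁻¹ = x * (q * x⁻¹ * q⁻¹) := by group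
      rw [e]
      exact B.mul_mem hx h3
    have h4 := eq_one_of_mem_of_mem_coprime hP hB h1 h2
    calc x * q = (x * q * x⁻¹ * q⁻¹) * (q * x) := by group
      _ = q * x := by rw [h4, one_mul]

/-- coprime action, elementwise: a `p`-element `s` whose commutators with the `p'`-group `N` are
centralized by `s` centralizes `N` -/
theorem commute_of_commutator_central [Finite G] {p : ℕ} [Fact p.Prime] {N : Subgroup G}
    (hN : (Nat.card N).Coprime p) {s : G} (hs : ∃ k : ℕ, orderOf s = p ^ k)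
    (hsN : s ∈ Subgroup.normalizer (N : Set G))
    (hc : ∀ n ∈ N, s * (s * n * s⁻¹ * n⁻¹) = (s * n * s⁻¹ * n⁻¹) * s) :
    ∀ n ∈ N, s * n = n * s := by
  intro n hn
  obtain ⟨k, hk⟩ := hs
  have h1 : s * n * s⁻¹ * n⁻¹ ∈ N :=
    N.mul_mem ((Subgroup.mem_normalizer_iff.mp hsN n).mp hn) (N.inv_mem hn)
  have h2 : (s * n * s⁻¹ * n⁻¹) ^ Nat.card N = 1 :=
    orderOf_dvd_iff_pow_eq_one.mp (Subgroup.orderOf_dvd_natCard N h1)
  apply Cfsg.Agent.Lib.Helper24_Coprime.commute_of_coprime_commutator s n (hc n hn) (Nat.card N) h2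
  rw [hk]
  exact (Nat.Coprime.pow_left k hN.symm)

/-! ### The centre of the Puig subgroup -/

/-- `Z(L(S))`, inside the ambient group -/
def zl (S : Subgroup G) : Subgroup G := up S ⊓ Subgroup.centralizer ((up S : Subgroup G) : Set G)

theorem zl_le (S : Subgroup G) : zl S ≤ S := inf_le_left.trans (up_le S)

theorem normalizer_le_normalizer_zl [Finite G] (S : Subgroup G) :
    Subgroup.normalizer (S : Set G) ≤ Subgroup.normalizer ((zl S : Subgroup G) : Set G) :=
  (normalizer_le_normalizer_up S).trans (normalizer_le_normalizer_inf_centralizer _)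

/-- a nontrivial `p`-subgroup meets its centralizer nontrivially -/
theorem inf_centralizer_ne_bot [Finite G] {p : ℕ} [Fact p.Prime] {X : Subgroup G}
    (hX : IsPGroup p X) (hX1 : X ≠ ⊥) : X ⊓ Subgroup.centralizer (X : Set G) ≠ ⊥ := by
  have hnt : Nontrivial ↥X := (Subgroup.nontrivial_iff_ne_bot X).mpr hX1
  have hc : Nontrivial (Subgroup.center ↥X) := hX.center_nontrivial
  obtain ⟨z, hz⟩ := exists_ne (1 : Subgroup.center ↥X)
  intro hbot
  have hmem : ((z : ↥X) : G) ∈ X ⊓ Subgroup.centralizer (X : Set G) := by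
    refine Subgroup.mem_inf.mpr ⟨(z : ↥X).2, Subgroup.mem_centralizer_iff.mpr ?_⟩
    intro y hy
    have h1 := Subgroup.mem_center_iff.mp z.2 ⟨y, hy⟩
    exact congrArg Subtype.val h1
  rw [hbot, Subgroup.mem_bot] at hmem
  apply hz
  apply Subtype.ext
  apply Subtype.ext
  simpa using hmem

theorem zl_ne_bot [Finite G] {p : ℕ} [Fact p.Prime] {S : Subgroup G} (hS : IsPGroup p S)
    (hS1 : S ≠ ⊥) : zl S ≠ ⊥ := by
  have hnt : Nontrivial ↥S := (Subgroup.nontrivial_iff_ne_bot S).mpr hS1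
  have h1 : Cfsg.puigSubgroup ↥S ≠ ⊥ := (Cfsg.Agent.S1466.result (R := ↥S) p hS).2.2.2.1
  have h2 : up S ≠ ⊥ := by
    unfold up
    intro h
    apply h1
    exact (Subgroup.map_eq_bot_iff_of_injective _ S.subtype_injective).mp h
  exact inf_centralizer_ne_bot (hS.to_le (up_le S)) h2

/-- If `K ⊴ L` is solvable of odd order with `O_{p'}(K) ≤ Z(K)` and `S` is a Sylow `p`-subgroup of `K`,
then `L` normalizes `Z(L(S))`. -/
theorem le_normalizer_zl [Finite G] (p : ℕ) [Fact p.Prime] (hp : p ≠ 2) (L K : Subgroup G)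
    (hLK : L ≤ Subgroup.normalizer (K : Set G))
    (hKs : Group.IsSolvable ↥K) (hKodd : Odd (Nat.card ↥K))
    (hcent : ppc p K ≤ Subgroup.centralizer (K : Set G)) (S₀ : Sylow p ↥K) :
    L ≤ Subgroup.normalizer
      ((zl (Cfsg.Agent.Lib.Helper24_CoprimeAction.sylowImage S₀) : Subgroup G) : Set G) := by
  intro l hl
  obtain ⟨κ, hκ⟩ := Cfsg.Agent.Lib.Helper24_CoprimeAction.frattini_rel S₀ l (hLK hl)
  have hn := normalizer_le_normalizer_zl _ hκ
  have hinj : ∀ x ∈ (⊤ : Subgroup ↥K), K.subtype x = 1 → x = 1 := by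
    intro x _ hx
    exact Subtype.ext hx
  have hinj' : ∀ x ∈ ((S₀ : Subgroup ↥K)), K.subtype x = 1 → x = 1 := by
    intro x _ hx
    exact Subtype.ext hx
  have hmap : (up (S₀ : Subgroup ↥K) ⊓
      Subgroup.centralizer ((up (S₀ : Subgroup ↥K) : Subgroup ↥K) : Set ↥K)).map K.subtype =
      zl (Cfsg.Agent.Lib.Helper24_CoprimeAction.sylowImage S₀) := by
    rw [map_inf_centralizer_of_injOn K.subtype ⊤ _ le_top hinj,
      map_up_of_injOn K.subtype (S₀ : Subgroup ↥K) hinj']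
    rfl
  have htop := Cfsg.Agent.S1469.sup_normalizer_eq_top (G := ↥K) hKodd p hp S₀
  have hκmem : κ ∈ Cfsg.pPrimeCore p ↥K ⊔ Subgroup.normalizer
      ((up (S₀ : Subgroup ↥K) ⊓ Subgroup.centralizer
        ((up (S₀ : Subgroup ↥K) : Subgroup ↥K) : Set ↥K) : Subgroup ↥K) : Set ↥K) := by
    rw [htop]; trivial
  have hPn : (Cfsg.pPrimeCore p ↥K).Normal := Cfsg.Agent.Lib.Helper1_Cores.pPrimeCore_normal p
  obtain ⟨c, hc, m, hm, hcm⟩ := Subgroup.mem_sup_of_normal_left.mp hκmem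
  have hcG : (c : G) ∈ Subgroup.normalizer
      ((zl (Cfsg.Agent.Lib.Helper24_CoprimeAction.sylowImage S₀) : Subgroup G) : Set G) := by
    apply Subgroup.centralizer_le_normalizer
    have h1 : (c : G) ∈ ppc p K := (mem_ppc_iff c.2).mpr hc
    have h2 := hcent h1
    have h3 : zl (Cfsg.Agent.Lib.Helper24_CoprimeAction.sylowImage S₀) ≤ K :=
      (zl_le _).trans (Subgroup.map_subtype_le _)
    exact Subgroup.centralizer_le h3 h2
  have hmG : (m : G) ∈ Subgroup.normalizer
      ((zl (Cfsg.Agent.Lib.Helper24_CoprimeAction.sylowImage S₀) : Subgroup G) : Set G) := by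
    rw [← hmap]
    exact Subgroup.le_normalizer_map K.subtype ⟨m, hm, rfl⟩
  have e : l = (c : G) * (m : G) * ((κ : G)⁻¹ * l) := by
    rw [← hcm]
    simp only [Subgroup.coe_mul]
    group
  rw [e]
  exact Subgroup.mul_mem _ (Subgroup.mul_mem _ hcG hmG) hn

end Cfsg.Agent.Lib.Helper49_MaxSub
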