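import Cfsg.Agent.Lib.Helper22_PConstrainedInv
import Cfsg.Agent.Lib.Helper22_CoreCentralizer

/-!
Invariant `p'`-subgroups of solvable subgroups (helper22).

* `mem_of_mem_centralizer_of_scn`: if `B ⊴ P ∈ Syl_p(G)` with `C_P(B) = B` then every element of order `p` of `C_G(B)`
  lies in `B`;
* `le_map_pPrimeCore_of_invariant`: for `p` odd, `H ≤ G` solvable, `B ≤ H` a `p`-subgroup containing all elements of
  order `p` of `C_G(B)`, every `B`-invariant `p'`-subgroup of `H` lies in `O_{p'}(H)`.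
-/

set_option autoImplicit false

namespace Cfsg.Agent.Lib.Helper22_InvariantCore

open Subgroup Cfsg Cfsg.Agent.Lib.Helper22_PConstrainedInv Cfsg.Agent.Lib.Helper23_PConstrained
  Cfsg.Agent.Lib.Helper24_CoprimeAction

variable {G : Type*} [Group G]

theorem mem_of_mem_centralizer_of_scn [Finite G] (p : ℕ) [Fact p.Prime] (P : Sylow p G) {B : Subgroup G}
    (hBP : B ≤ (P : Subgroup G)) (hPB : (P : Subgroup G) ≤ normalizer (B : Set G))
    (hBc : (P : Subgroup G) ⊓ centralizer (B : Set G) = B) :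
    ∀ x ∈ centralizer (B : Set G), orderOf x = p → x ∈ B := by
  intro x hxC hxo
  have hp : p.Prime := Fact.out
  set N := normalizer (B : Set G) with hN
  have hxN : x ∈ N := centralizer_le_normalizer _ hxC
  have hBpg : IsPGroup p B := P.isPGroup'.to_le hBP
  have hxpg : IsPGroup p (zpowers x) := by
    apply IsPGroup.of_card (n := 1)
    rw [Nat.card_zpowers, hxo, pow_one]
  have hzN : zpowers x ≤ N := by rw [zpowers_le]; exact hxN
  have hT : IsPGroup p (zpowers x ⊔ B : Subgroup G) := hxpg.to_sup_of_normal_right' hBpg hzN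
  have hTN : zpowers x ⊔ B ≤ N := sup_le hzN le_normalizer
  have hT' : IsPGroup p ((zpowers x ⊔ B).subgroupOf N) := hT.comap_subtype
  obtain ⟨S, hS⟩ := hT'.exists_le_sylow
  obtain ⟨n, hn⟩ := MulAction.exists_smul_eq ↥N (P.subtype hPB) S
  have hxS : (⟨x, hxN⟩ : ↥N) ∈ (S : Subgroup ↥N) :=
    hS (by rw [mem_subgroupOf]; exact mem_sup_left (mem_zpowers x))
  rw [← hn, Sylow.smul_def, Sylow.pointwise_smul_def, Subgroup.mem_pointwise_smul_iff_inv_smul_mem,
    Sylow.coe_subtype, mem_subgroupOf, MulAut.smul_def] at hxS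
  have hx' : (n : G)⁻¹ * x * (n : G) ∈ (P : Subgroup G) := by
    simpa [MulAut.conj_apply] using hxS
  have hninv : (n : G)⁻¹ ∈ N := inv_mem n.2
  have hx'C : (n : G)⁻¹ * x * (n : G) ∈ centralizer (B : Set G) := by
    rw [mem_centralizer_iff] at hxC ⊢
    intro b hb
    have hb' : (n : G) * b * (n : G)⁻¹ ∈ B := (mem_normalizer_iff.mp n.2 b).mp hb
    have h1 := hxC _ hb'
    have e1 : b * ((n : G)⁻¹ * x * (n : G)) = (n : G)⁻¹ * (((n : G) * b * (n : G)⁻¹) * x) * (n : G) := by group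
    have e2 : (n : G)⁻¹ * x * (n : G) * b = (n : G)⁻¹ * (x * ((n : G) * b * (n : G)⁻¹)) * (n : G) := by group
    rw [e1, e2, h1]
  have hx'B : (n : G)⁻¹ * x * (n : G) ∈ B := by
    rw [← hBc]; exact mem_inf.mpr ⟨hx', hx'C⟩
  have := (mem_normalizer_iff.mp n.2 _).mp hx'B
  have e : (n : G) * ((n : G)⁻¹ * x * (n : G)) * (n : G)⁻¹ = x := by group
  rwa [e] at this

theorem le_map_pPrimeCore_of_invariant [Finite G] (p : ℕ) [Fact p.Prime] (hp2 : p ≠ 2) {H B U : Subgroup G}
    (hHs : Group.IsSolvable H) (hBH : B ≤ H) (hBp : IsPGroup p B)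
    (hΩ : ∀ x ∈ centralizer (B : Set G), orderOf x = p → x ∈ B) (hUH : U ≤ H)
    (hU : ¬ p ∣ Nat.card U) (hBU : B ≤ normalizer (U : Set G)) :
    U ≤ (pPrimeCore p ↥H).map H.subtype := by
  have hcon : IsPConstrained p ↥H := by
    rw [isPConstrained_iff_pLayer_eq_bot]
    exact Cfsg.Agent.Lib.Helper22_CoreCentralizer.pLayer_eq_bot_of_isSolvable p
  have hA'p : IsPGroup p (B.subgroupOf H) := hBp.comap_subtype
  have hΩ' : ∀ x ∈ centralizer ((B.subgroupOf H : Subgroup ↥H) : Set ↥H), orderOf x = p →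
      x ∈ B.subgroupOf H := by
    intro x hx hxo
    rw [mem_subgroupOf]
    apply hΩ _ ?_ (by rw [Subgroup.orderOf_coe]; exact hxo)
    rw [mem_centralizer_iff] at hx ⊢
    intro b hb
    have := hx ⟨b, hBH hb⟩ (by rw [SetLike.mem_coe, mem_subgroupOf]; exact hb)
    exact congrArg Subtype.val this
  have hQ' : ¬ p ∣ Nat.card (U.subgroupOf H) := by
    rw [card_subgroupOf_of_le hUH]; exact hU
  have hAQ' : B.subgroupOf H ≤ normalizer ((U.subgroupOf H : Subgroup ↥H) : Set ↥H) := by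
    intro b hb
    rw [mem_subgroupOf] at hb
    exact Cfsg.Agent.Lib.Helper22_CoreCentralizer.mem_normalizer_subgroupOf b (hBU hb)
  have key := le_pPrimeCore_of_invariant p hp2 hcon (B.subgroupOf H) hA'p hΩ' (U.subgroupOf H) hQ' hAQ'
  have := Subgroup.map_mono (f := H.subtype) key
  rwa [Subgroup.map_subgroupOf_eq_of_le hUH] at this

end Cfsg.Agent.Lib.Helper22_InvariantCore
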