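import Cfsg.Agent.Lib.Helper49_FitUniq2
import Cfsg.Agent.S1395
import Cfsg.Agent.S1396
import Cfsg.Agent.S1457

/-!
# Bender–Glauberman Theorem 8.1(b) (helper49)

* `sylow_props`: if `H` is a maximal subgroup of a minimal simple group of odd order with `O_{p'}(H) = 1`
  and `p ∣ |H|`, then `H = N_G(Z(L(R)))` for every Sylow `p`-subgroup `R` of `H`, and `R` is a Sylow
  `p`-subgroup of `G` (Puig's theorem);
* `coatom_unique_of_no_invariant`: a nontrivial `p`-subgroup normalizing no nontrivial `q`-subgroup, `q ≠ p`,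
  lies in at most one maximal subgroup;
* `fitting_pgroup_sylow`: Theorem 8.1(b).
-/

set_option autoImplicit false

namespace Cfsg.Agent.Lib.Helper49_FitUniq

open Subgroup Cfsg Cfsg.Agent.Lib.Helper22_BGTrans Cfsg.Agent.Lib.Helper22_FitLocal
  Cfsg.Agent.Lib.Helper22_Radical Cfsg.Agent.Lib.Helper49_MaxSub
  Cfsg.Agent.Lib.Helper24_CoprimeAction

/-! ### generalities -/

/-- A Sylow `p`-subgroup `S` of `D` whose normalizer lies in `D` is a Sylow `p`-subgroup of the whole
group. -/
theorem sylow_of_normalizer_le {H : Type*} [Group H] [Finite H] {p : ℕ} [hp : Fact p.Prime]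
    (D : Subgroup H) (S : Sylow p D)
    (hN : Subgroup.normalizer (((S : Subgroup D).map D.subtype : Subgroup H) : Set H) ≤ D) :
    ∃ P : Sylow p H, (P : Subgroup H) = (S : Subgroup D).map D.subtype := by
  set Q₀ : Subgroup H := (S : Subgroup D).map D.subtype with hQ₀
  set n := (Nat.card D).factorization p with hn
  have hcard : Nat.card Q₀ = p ^ n := by
    rw [hQ₀, Subgroup.card_subtype]; exact S.card_eq_multiplicity
  have hDH : Nat.card D ∣ Nat.card H := Subgroup.card_subgroup_dvd_card D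
  have hDpos : Nat.card D ≠ 0 := Nat.card_pos.ne'
  have hHpos : Nat.card H ≠ 0 := Nat.card_pos.ne'
  have hnot : ¬ p ^ (n + 1) ∣ Nat.card H := by
    intro hdvd
    have h1 : p ^ (n + 1) ∣ Nat.card (Subgroup.normalizer (Q₀ : Set H)) :=
      Sylow.prime_pow_dvd_card_normalizer hdvd hcard
    have h2 : p ^ (n + 1) ∣ Nat.card D := h1.trans (Subgroup.card_dvd_of_le hN)
    exact Nat.pow_succ_factorization_not_dvd hDpos hp.out h2
  have hle : n ≤ (Nat.card H).factorization p :=
    (Nat.factorization_le_iff_dvd hDpos hHpos).mpr hDH p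
  have hge : (Nat.card H).factorization p ≤ n := by
    by_contra hlt
    have hlt := Nat.lt_of_not_le hlt
    apply hnot
    exact (pow_dvd_pow p hlt).trans (Nat.ordProj_dvd _ p)
  have heq : n = (Nat.card H).factorization p := le_antisymm hle hge
  refine ⟨Sylow.ofCard Q₀ (by rw [hcard, heq]), ?_⟩
  rfl

/-- With `O_{p'}(X) = 1`, `O_{p',p}(X) = O_p(X)`. -/
theorem pPrimePCore_eq_pCore' {X : Type*} [Group X] {p : ℕ} [hp : Fact p.Prime]
    (h1 : pPrimeCore p X = ⊥) : pPrimePCore p X = pCore p X := by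
  apply le_antisymm
  · have hn : (pPrimePCore p X).Normal :=
      Subgroup.Normal.comap (Cfsg.Agent.Lib.Helper1_Cores.pCore_normal p) _
    have hinj : Function.Injective (QuotientGroup.mk' (pPrimeCore p X)) := by
      rw [← MonoidHom.ker_eq_bot_iff, QuotientGroup.ker_mk', h1]
    have hpg : IsPGroup p (pPrimePCore p X) :=
      (Cfsg.Agent.Lib.Helper1_Cores.pCore_isPGroup p).comap_of_injective _ hinj
    exact Cfsg.Agent.Lib.Helper1_Cores.le_pCore hn hpg
  · unfold pPrimePCore
    rw [← Subgroup.map_le_iff_le_comap]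
    have hn : ((pCore p X).map (QuotientGroup.mk' (pPrimeCore p X))).Normal :=
      Subgroup.Normal.map (Cfsg.Agent.Lib.Helper1_Cores.pCore_normal p) _
        (QuotientGroup.mk'_surjective _)
    exact Cfsg.Agent.Lib.Helper1_Cores.le_pCore hn
      ((Cfsg.Agent.Lib.Helper1_Cores.pCore_isPGroup p).map _)

/-- a normal subgroup of order prime to `|F(X)|` of a solvable group `X` is trivial -/
theorem eq_bot_of_normal_coprime_fitting {X : Type*} [Group X] [Finite X] [Group.IsSolvable X]
    (N : Subgroup X) [hNn : N.Normal]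
    (hcop : (Nat.card N).Coprime (Nat.card (fittingSubgroup X))) : N = ⊥ := by
  have hFn : (fittingSubgroup X).Normal := Cfsg.Agent.Lib.Helper1_Cores.fittingSubgroup_normal
  have hdisj : Disjoint N (fittingSubgroup X) := Subgroup.disjoint_of_coprime_natCard hcop
  have hcent : N ≤ centralizer ((fittingSubgroup X : Subgroup X) : Set X) := by
    intro x hx
    rw [mem_centralizer_iff]
    intro y hy
    exact (Subgroup.commute_of_normal_of_disjoint _ _ hNn hFn hdisj x y hx hy).eq.symm
  have hle : N ≤ fittingSubgroup X :=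
    hcent.trans Cfsg.Agent.Lib.Helper55_Fitting.centralizer_fittingSubgroup_le
  rw [eq_bot_iff]
  intro x hx
  exact hdisj.le_bot ⟨hx, hle hx⟩

variable {G : Type*} [Group G] [Finite G]

theorem ppc_eq_bot_of_isPGroup_fittingOf {p : ℕ} [hp : Fact p.Prime] (M : Subgroup G)
    (hMs : Group.IsSolvable ↥M) (hFp : IsPGroup p ↥(fittingOf M)) : ppc p M = ⊥ := by
  have hcardF : Nat.card (fittingOf M) = Nat.card (fittingSubgroup ↥M) :=
    Subgroup.card_map_of_injective M.subtype_injective
  obtain ⟨k, hk⟩ := IsPGroup.iff_card.mp hFp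
  have hNn : (pPrimeCore p ↥M).Normal := Cfsg.Agent.Lib.Helper1_Cores.pPrimeCore_normal p
  have hcop : (Nat.card (pPrimeCore p ↥M)).Coprime (Nat.card (fittingSubgroup ↥M)) := by
    rw [← hcardF, hk]
    exact Nat.Coprime.pow_right k (Cfsg.Agent.Lib.Helper1_Cores.pPrimeCore_card_coprime p)
  have h1 : pPrimeCore p ↥M = ⊥ := eq_bot_of_normal_coprime_fitting _ hcop
  unfold ppc
  rw [h1, Subgroup.map_bot]

/-! ### Sylow subgroups of maximal subgroups with trivial `p'`-core -/

theorem sylow_props (hG : IsMinSimpleOddOrder G) (p : ℕ) [hp : Fact p.Prime] (hp2 : p ≠ 2)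
    {H : Subgroup G} (hH : IsCoatom H) (hppc : ppc p H = ⊥) (hpH : p ∣ Nat.card H)
    (R : Sylow p ↥H) :
    normalizer ((zl (sylowImage R) : Subgroup G) : Set G) = H ∧
      ∃ PG : Sylow p G, (PG : Subgroup G) = sylowImage R := by
  have hHs : Group.IsSolvable ↥H := isSolvable_of_ne_top hG hH.1
  have hHodd := odd_card_subgroup hG H
  have h1 : H ≤ normalizer ((zl (sylowImage R) : Subgroup G) : Set G) :=
    le_normalizer_zl p hp2 H H le_normalizer hHs hHodd (by rw [hppc]; exact bot_le) R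
  have hR0 : (R : Subgroup ↥H) ≠ ⊥ := Sylow.ne_bot_of_dvd_card R hpH
  have hR1 : sylowImage R ≠ ⊥ := by
    intro h
    exact hR0 ((Subgroup.map_eq_bot_iff_of_injective _ H.subtype_injective).mp h)
  have h2 : zl (sylowImage R) ≠ ⊥ := zl_ne_bot (R.isPGroup'.map _) hR1
  have h3 : normalizer ((zl (sylowImage R) : Subgroup G) : Set G) = H :=
    normalizer_eq_of_coatom hG hH h2 ((zl_le _).trans (Subgroup.map_subtype_le _)) h1
  have h4 : normalizer ((sylowImage R : Subgroup G) : Set G) ≤ H :=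
    (normalizer_le_normalizer_zl _).trans h3.le
  exact ⟨h3, sylow_of_normalizer_le H R h4⟩

/-- A nontrivial `p`-subgroup normalizing no nontrivial `q`-subgroup for `q ≠ p` lies in at most one maximal
subgroup. -/
theorem coatom_unique_of_no_invariant (hG : IsMinSimpleOddOrder G) (p : ℕ) [hp : Fact p.Prime]
    (hp2 : p ≠ 2) {A : Subgroup G} (hAp : IsPGroup p ↥A) (hA1 : A ≠ ⊥)
    (hno : ∀ (q : ℕ) [Fact q.Prime], q ≠ p → ∀ Q : Subgroup G, IsPGroup q Q →
      A ≤ normalizer (Q : Set G) → Q = ⊥) :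
    ∀ H M : Subgroup G, IsCoatom H → IsCoatom M → A ≤ H → A ≤ M → H = M := by
  obtain ⟨kA, hkA⟩ := IsPGroup.iff_card.mp hAp
  have hppc : ∀ H : Subgroup G, IsCoatom H → A ≤ H → ppc p H = ⊥ := by
    intro H hH hAH
    have hAs : Group.IsSolvable ↥A := isSolvable_of_le hAH (isSolvable_of_ne_top hG hH.1)
    have hcop : (Nat.card A).Coprime (Nat.card (ppc p H)) := by
      rw [hkA]
      exact Nat.Coprime.pow_left kA (card_ppc_coprime p H).symm
    apply eq_bot_of_forall_prime hAs (hAH.trans (le_normalizer_ppc p H)) hcop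
    intro q hq hqd Q hQ hAQ
    apply hno q ?_ Q hQ hAQ
    rintro rfl
    exact hq.out.one_lt.ne' (Nat.eq_one_of_dvd_coprimes (card_ppc_coprime q H) hqd dvd_rfl)
  have hpH : ∀ H : Subgroup G, A ≤ H → p ∣ Nat.card H := fun H hAH =>
    (dvd_card_of_isPGroup_ne_bot hAp hA1).trans (Subgroup.card_dvd_of_le hAH)
  have key : ∀ k : ℕ, ∀ H M R₀ : Subgroup G, IsCoatom H → IsCoatom M → IsPGroup p ↥R₀ → A ≤ R₀ →
      R₀ ≤ H → R₀ ≤ M → Nat.card G - Nat.card R₀ = k → H = M := by
    intro k
    induction k using Nat.strong_induction_on with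
    | _ k ih =>
      intro H M R₀ hH hM hR₀p hAR hRH hRM hk
      obtain ⟨R, hR⟩ := (hR₀p.comap_subtype (K := H)).exists_le_sylow
      obtain ⟨P₁, hP₁⟩ := (hR₀p.comap_subtype (K := M)).exists_le_sylow
      have hR₀R : R₀ ≤ sylowImage R := fun x hx =>
        ⟨⟨x, hRH hx⟩, hR (mem_subgroupOf.mpr hx), rfl⟩
      have hR₀P : R₀ ≤ sylowImage P₁ := fun x hx =>
        ⟨⟨x, hRM hx⟩, hP₁ (mem_subgroupOf.mpr hx), rfl⟩
      obtain ⟨hNH, PGH, hPGH⟩ := sylow_props hG p hp2 hH (hppc H hH (hAR.trans hRH))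
        (hpH H (hAR.trans hRH)) R
      obtain ⟨hNM, PGM, hPGM⟩ := sylow_props hG p hp2 hM (hppc M hM (hAR.trans hRM))
        (hpH M (hAR.trans hRM)) P₁
      have hcardS : Nat.card (sylowImage R) = Nat.card (sylowImage P₁) := by
        rw [← hPGH, ← hPGM, Sylow.card_eq_multiplicity, Sylow.card_eq_multiplicity]
      by_cases h1 : sylowImage R ≤ R₀
      · have e1 : R₀ = sylowImage R := le_antisymm hR₀R h1
        have e2 : R₀ = sylowImage P₁ := by
          apply Subgroup.eq_of_le_of_card_ge hR₀P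
          rw [← hcardS, e1]
        rw [← hNH, ← hNM, ← e1, ← e2]
      · by_cases h2 : sylowImage P₁ ≤ R₀
        · have e2 : R₀ = sylowImage P₁ := le_antisymm hR₀P h2
          have e1 : R₀ = sylowImage R := by
            apply Subgroup.eq_of_le_of_card_ge hR₀R
            rw [hcardS, e2]
          rw [← hNH, ← hNM, ← e1, ← e2]
        · have g1 := normalizer_growth hp.out (R.isPGroup'.map H.subtype) hR₀R h1
          have g2 := normalizer_growth hp.out (P₁.isPGroup'.map M.subtype) hR₀P h2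
          have hR₀1 : R₀ ≠ ⊥ := fun h => hA1 (le_bot_iff.mp (h ▸ hAR))
          have hR₀top : R₀ ≠ ⊤ := ne_top_of_isPGroup hG hp.out hR₀p
          have hNtop : normalizer (R₀ : Set G) ≠ ⊤ := normalizer_ne_top hG hR₀1 hR₀top
          obtain ⟨H₁, hH₁, hNH₁⟩ := (eq_top_or_exists_le_coatom _).resolve_left hNtop
          have eH : H = H₁ := by
            have hle0 : R₀ ≤ normalizer (R₀ : Set G) ⊓ sylowImage R := le_inf le_normalizer hR₀R
            have hlt : Nat.card R₀ < Nat.card ↥(normalizer (R₀ : Set G) ⊓ sylowImage R) :=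
              card_lt_card_of_lt hle0 g1
            have hle : Nat.card ↥(normalizer (R₀ : Set G) ⊓ sylowImage R) ≤ Nat.card G :=
              Subgroup.card_le_card_group _
            exact ih (Nat.card G - Nat.card ↥(normalizer (R₀ : Set G) ⊓ sylowImage R)) (by omega) H H₁
              (normalizer (R₀ : Set G) ⊓ sylowImage R) hH hH₁
              ((R.isPGroup'.map H.subtype).to_le inf_le_right) (hAR.trans hle0)
              (inf_le_right.trans (Subgroup.map_subtype_le _)) (inf_le_left.trans hNH₁) rfl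
          have eM : M = H₁ := by
            have hle0 : R₀ ≤ normalizer (R₀ : Set G) ⊓ sylowImage P₁ := le_inf le_normalizer hR₀P
            have hlt : Nat.card R₀ < Nat.card ↥(normalizer (R₀ : Set G) ⊓ sylowImage P₁) :=
              card_lt_card_of_lt hle0 g2
            have hle : Nat.card ↥(normalizer (R₀ : Set G) ⊓ sylowImage P₁) ≤ Nat.card G :=
              Subgroup.card_le_card_group _
            exact ih (Nat.card G - Nat.card ↥(normalizer (R₀ : Set G) ⊓ sylowImage P₁)) (by omega) M H₁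
              (normalizer (R₀ : Set G) ⊓ sylowImage P₁) hM hH₁
              ((P₁.isPGroup'.map M.subtype).to_le inf_le_right) (hAR.trans hle0)
              (inf_le_right.trans (Subgroup.map_subtype_le _)) (inf_le_left.trans hNH₁) rfl
          rw [eH, eM]
  exact fun H M hH hM hAH hAM => key _ H M A hH hM hAp le_rfl hAH hAM rfl

/-! ### Theorem 8.1(b) -/

/-- **Bender–Glauberman, Theorem 8.1(b)**. -/
theorem fitting_pgroup_sylow (hG : IsMinSimpleOddOrder G) {M : Subgroup G} (hM : IsCoatom M) (p : ℕ)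
    [hp : Fact p.Prime] (hF1 : fittingOf M ≠ ⊥) (hFp : IsPGroup p ↥(fittingOf M)) (P : Sylow p ↥M) :
    ¬ p ∣ (sylowImage P).index ∧
      ∀ A : Subgroup G, IsSCN (sylowImage P) A → ¬ PRankLE p 2 ↥A →
        A ≤ fittingOf M ∧ InUniqueMaximal A := by
  set F := fittingOf M with hF
  have hMs : Group.IsSolvable ↥M := isSolvable_of_ne_top hG hM.1
  have hModd := odd_card_subgroup hG M
  have hFM : F ≤ M := fittingOf_le M
  have hpF : p ∣ Nat.card F := dvd_card_of_isPGroup_ne_bot hFp hF1
  have hpM : p ∣ Nat.card M := hpF.trans (Subgroup.card_dvd_of_le hFM)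
  have hpG : p ∣ Nat.card G := hpM.trans (Subgroup.card_subgroup_dvd_card M)
  have hp2 : p ≠ 2 := by
    rintro rfl
    exact (Nat.not_even_iff_odd.mpr hG.1) (even_iff_two_dvd.mpr hpG)
  have hppc : ppc p M = ⊥ := ppc_eq_bot_of_isPGroup_fittingOf M hMs hFp
  have hppc' : pPrimeCore p ↥M = ⊥ := by
    unfold ppc at hppc
    exact (Subgroup.map_eq_bot_iff_of_injective _ M.subtype_injective).mp hppc
  obtain ⟨hNM, PG, hPG⟩ := sylow_props hG p hp2 hM hppc hpM P
  refine ⟨by rw [← hPG]; exact PG.not_dvd_index, ?_⟩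
  intro A hscn hr2
  obtain ⟨hAP, hPA, hCA⟩ := hscn
  have hAM : A ≤ M := hAP.trans (Subgroup.map_subtype_le _)
  have hAcent : A ≤ centralizer (A : Set G) := by
    intro x hx
    rw [← hCA] at hx
    exact (Subgroup.mem_inf.mp hx).2
  have hAc : IsMulCommutative ↥A := by
    refine ⟨⟨fun a b => ?_⟩⟩
    apply Subtype.ext
    exact (mem_centralizer_iff.mp (hAcent a.2) b b.2).symm
  have hApg : IsPGroup p ↥A := (P.isPGroup'.map M.subtype).to_le hAP
  have hA1 : A ≠ ⊥ := by
    rintro rfl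
    apply hr2
    intro E _ _
    have : Nat.card E = 1 := by
      have hsub : Subsingleton ↥(⊥ : Subgroup G) := inferInstance
      have : Subsingleton E := ⟨fun a b => Subtype.ext (Subsingleton.elim _ _)⟩
      exact Nat.card_eq_one_iff_unique.mpr ⟨this, ⟨1⟩⟩
    rw [this]
    exact Nat.one_le_pow _ _ hp.out.pos
  have hpA : p ∣ Nat.card A := dvd_card_of_isPGroup_ne_bot hApg hA1
  -- `F ≤ P`
  have hFP : F ≤ sylowImage P := by
    have hFn : (fittingSubgroup ↥M).Normal := Cfsg.Agent.Lib.Helper1_Cores.fittingSubgroup_normal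
    have hFpg : IsPGroup p ↥(fittingSubgroup ↥M) := by
      have e : Nat.card (fittingOf M) = Nat.card (fittingSubgroup ↥M) :=
        Subgroup.card_map_of_injective M.subtype_injective
      obtain ⟨k, hk⟩ := IsPGroup.iff_card.mp hFp
      exact IsPGroup.of_card (e ▸ hk)
    exact Subgroup.map_mono ((Cfsg.Agent.Lib.Helper1_Cores.le_pCore hFn hFpg).trans
      (Cfsg.Agent.Lib.Helper1_Cores.pCore_le_sylow p P))
  -- `A ≤ F`
  have hAF : A ≤ F := by
    have hA'P : A.subgroupOf M ≤ (P : Subgroup ↥M) := by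
      intro x hx
      rw [mem_subgroupOf] at hx
      obtain ⟨y, hy, hyx⟩ := hAP hx
      have : y = x := Subtype.ext hyx
      rwa [← this]
    have hA'c : IsMulCommutative ↥(A.subgroupOf M) := by
      refine ⟨⟨fun a b => ?_⟩⟩
      apply Subtype.ext
      apply Subtype.ext
      exact (mem_centralizer_iff.mp (hAcent (mem_subgroupOf.mp a.2)) _ (mem_subgroupOf.mp b.2)).symm
    have hA'n : (P : Subgroup ↥M) ≤ normalizer ((A.subgroupOf M : Subgroup ↥M) : Set ↥M) := by
      intro x hx
      have hxN : (x : G) ∈ normalizer (A : Set G) := hPA ⟨x, hx, rfl⟩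
      rw [mem_normalizer_iff]
      intro y
      rw [mem_subgroupOf, mem_subgroupOf]
      exact mem_normalizer_iff.mp hxN (y : G)
    have h1 := Cfsg.Agent.S1457.result (G := ↥M) hModd p P (A.subgroupOf M) hA'P hA'c hA'n
    rw [pPrimePCore_eq_pCore' hppc'] at h1
    intro x hx
    exact ⟨⟨x, hAM hx⟩, Cfsg.Agent.Lib.Helper1_Cores.pCore_le_fittingSubgroup p
      (h1 (mem_subgroupOf.mpr hx)), rfl⟩
  refine ⟨hAF, ?_⟩
  -- the transitivity hypothesis
  have hscnG : IsSCN (PG : Subgroup G) A := by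
    rw [hPG]; exact ⟨hAP, hPA, hCA⟩
  have hr1 : ¬ PRankLE p 1 ↥A := by
    intro h
    apply hr2
    intro E hE1 hE2
    exact (h E hE1 hE2).trans (Nat.pow_le_pow_right hp.out.pos (by norm_num))
  have hA : TransitivityHypothesis A :=
    Cfsg.Agent.S1396.result hG p hpG A hApg hAc (Or.inr ⟨PG, hscnG, hr1⟩)
  have hAeq : A ⊓ centralizer (A : Set G) = A := inf_eq_left.mpr hAcent
  have hZ : ¬ RankLE 2 ↥(A ⊓ centralizer (A : Set G)) := by
    rw [hAeq]
    exact fun h => hr2 (h p hp.out)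
  obtain ⟨kA, hkA⟩ := IsPGroup.iff_card.mp hApg
  obtain ⟨kF, hkF⟩ := IsPGroup.iff_card.mp hFp
  -- `C_G(F) ≤ F`
  have hCF : centralizer (F : Set G) ≤ F := by
    have h1 : centralizer (F : Set G) ≤ M :=
      centralizer_le_of_coatom hG hM hF1 hFM (le_normalizer_fittingOf M)
    intro x hx
    exact inf_centralizer_fittingOf_le M hMs (Subgroup.mem_inf.mpr ⟨h1 hx, hx⟩)
  -- no invariant `q`-subgroups
  have hno : ∀ (q : ℕ) [Fact q.Prime], q ≠ p → ∀ Q : Subgroup G, IsPGroup q Q →
      A ≤ normalizer (Q : Set G) → Q = ⊥ := by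
    intro q hq hqp Q hQ hAQ
    have hqA : ¬ q ∣ Nat.card A := by
      rw [hkA]
      intro h
      exact hqp ((Nat.prime_dvd_prime_iff_eq hq.out hp.out).mp (hq.out.dvd_of_dvd_pow h))
    have hqF : ¬ q ∣ Nat.card F := by
      rw [hkF]
      intro h
      exact hqp ((Nat.prime_dvd_prime_iff_eq hq.out hp.out).mp (hq.out.dvd_of_dvd_pow h))
    have htr := Cfsg.Agent.S1393.result hG A hA hZ q hq.out hqA
    have hFtop : F ≠ ⊤ := by
      intro h
      apply hM.1
      rw [eq_top_iff, ← h]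
      exact hFM
    have hFπ : ∀ r : ℕ, r.Prime → r ∣ Nat.card F → r ∣ Nat.card A := by
      intro r hr hrd
      rw [hkF] at hrd
      have : r = p := (Nat.prime_dvd_prime_iff_eq hr hp.out).mp (hr.dvd_of_dvd_pow hrd)
      rw [this]
      exact hpA
    have hsn : (A.subgroupOf F).IsSubnormal :=
      ((Subgroup.normal_subgroupOf_iff_le_normalizer hAF).mpr (hFP.trans hPA)).isSubnormal
    obtain ⟨-, hconjF, hsub, -⟩ :=
      Cfsg.Agent.S1395.result hG A hA q hq.out hqA F hFtop hFπ hAF hsn htr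
    have hKF : piCoreOf (primesNotDvd (Nat.card A)) (centralizer (F : Set G)) = ⊥ := by
      by_contra hne
      have hle : piCoreOf (primesNotDvd (Nat.card A)) (centralizer (F : Set G)) ≤ F :=
        (piCoreOf_le _ _).trans hCF
      have h1 : p ∣ Nat.card ↥(piCoreOf (primesNotDvd (Nat.card A)) (centralizer (F : Set G))) :=
        dvd_card_of_isPGroup_ne_bot (hFp.to_le hle) hne
      exact (piCoreOf_primes _ _ p hp.out h1).2 hpA
    obtain ⟨QF, hQF, -⟩ := exists_max_ge (A := F) hq.out (R := ⊥) IsPGroup.of_bot (le_normalizer_bot F)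
    have huniqF := forall_eq_of_conj_bot hKF hconjF hQF
    have hQFbot : QF = ⊥ := unique_max_eq_bot hG hM hQF huniqF le_rfl hqF
    have hbotmem : (⊥ : Subgroup G) ∈ maxInvSubgroups ⊤ A {q} := hsub (hQFbot ▸ hQF)
    exact Cfsg.Agent.Lib.Helper22_BGTransRank.eq_bot_of_bot_mem_max hbotmem
      ((mem_invSubgroups_top hq.out).mpr ⟨hQ, hAQ⟩)
  refine ⟨M, ⟨hM, hAM⟩, ?_⟩
  rintro L ⟨hL, hAL⟩
  exact coatom_unique_of_no_invariant hG p hp2 hApg hA1 hno L M hL hM hAL hAM

end Cfsg.Agent.Lib.Helper49_FitUniq
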