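import Cfsg.Agent.Lib.Helper22_U1402a
import Cfsg.Agent.Lib.Helper31_BenderUniq
import Cfsg.Agent.Lib.Helper49_MaxSubB
import Cfsg.Agent.S1401
import Cfsg.Agent.S1395
import Cfsg.Agent.S1393

set_option autoImplicit false
open Cfsg

/-! Bender--Glauberman Lemma 9.5: maximal subgroups `H ≥ A` with `r_s(F(H)) ≥ 3` and a good point. -/

namespace Cfsg.Agent.Lib.Helper22_U1402

open Subgroup Cfsg.Agent.Lib.Helper22_Uniq Cfsg.Agent.Lib.Helper22_BGTrans Cfsg.Agent.Lib.Helper22_BGTransRank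

variable {G : Type*} [Group G] [Finite G]

/-- the `s`-subgroups of `F(H)` lie in `O_s(H)` -/
theorem le_pCoreOf_of_le_fittingOf (H : Subgroup G) (s : ℕ) [Fact s.Prime] {E : Subgroup G}
    (hE : E ≤ fittingOf H) (hEs : IsPGroup s ↥E) : E ≤ pCoreOf s H := by
  let E₁ : Subgroup ↥(fittingSubgroup ↥H) := (E.comap H.subtype).comap (fittingSubgroup ↥H).subtype
  have hE₁ : IsPGroup s ↥E₁ := by
    have h1 : IsPGroup s ↥(E.comap H.subtype) := hEs.comap_of_injective _ H.subtype_injective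
    exact h1.comap_of_injective _ (fittingSubgroup ↥H).subtype_injective
  obtain ⟨R, hR⟩ := hE₁.exists_le_sylow
  refine le_trans ?_ (Cfsg.Agent.Lib.Helper31_BenderUniq.sylow_fitting_le_pCoreOf H s R)
  intro x hx
  obtain ⟨y, hyF, rfl⟩ := hE hx
  refine ⟨y, ⟨⟨y, hyF⟩, ?_, rfl⟩, rfl⟩
  apply hR
  change H.subtype ((fittingSubgroup ↥H).subtype ⟨y, hyF⟩) ∈ E
  exact hx

/-- a maximal subgroup `H` with `r_s(F(H)) ≥ 3` is the only maximal subgroup containing `O_s(H)` -/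
theorem eq_of_pCoreOf_le (hG : Cfsg.IsMinSimpleOddOrder G) {H : Subgroup G} (hH : IsCoatom H) (s : ℕ) [Fact s.Prime]
    (hF : ¬ Cfsg.PRankLE s 2 ↥(Cfsg.fittingOf H)) :
    ∀ M : Subgroup G, IsCoatom M → pCoreOf s H ≤ M → M = H := by
  intro M hM hSM
  obtain ⟨E, hEF, hEc, hEe, hE3⟩ := exists_elemAb_of_not_pRankLE hF
  have hEea : Cfsg.IsElementaryAbelian s E :=
    ⟨⟨⟨fun a b => Subtype.ext (hEc a.1 a.2 b.1 b.2)⟩⟩, hEe⟩
  have hEp : IsPGroup s ↥E := isPGroup_of_isElementaryAbelian hEea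
  have hES : E ≤ pCoreOf s H := le_pCoreOf_of_le_fittingOf H s hEF hEp
  have hE3' : ¬ Cfsg.PRankLE s 2 ↥E := not_pRankLE_of_elemAb le_rfl hEc hEe hE3
  obtain ⟨M', _, hM'⟩ := Cfsg.Agent.S1401.result hG H hH s hF E hEp hEea.1 hE3'
  have h1 := hM' M ⟨hM, hES.trans hSM⟩
  have h2 := hM' H ⟨hH, hES.trans (Subgroup.map_subtype_le _)⟩
  rw [h1, h2]

/-- `O_s(H) ≠ 1` when `r_s(F(H)) ≥ 3` -/
theorem pCoreOf_ne_bot_of_not_pRankLE {H : Subgroup G} (s : ℕ) [Fact s.Prime]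
    (hF : ¬ Cfsg.PRankLE s 2 ↥(Cfsg.fittingOf H)) : pCoreOf s H ≠ ⊥ := by
  intro hbot
  obtain ⟨E, hEF, hEc, hEe, hE3⟩ := exists_elemAb_of_not_pRankLE hF
  have hEea : Cfsg.IsElementaryAbelian s E :=
    ⟨⟨⟨fun a b => Subtype.ext (hEc a.1 a.2 b.1 b.2)⟩⟩, hEe⟩
  have hEp : IsPGroup s ↥E := isPGroup_of_isElementaryAbelian hEea
  have hES : E ≤ pCoreOf s H := le_pCoreOf_of_le_fittingOf H s hEF hEp
  rw [hbot, le_bot_iff] at hES
  rw [hES, Subgroup.card_bot] at hE3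
  have : 0 < s ^ 2 := pow_pos (Fact.out : s.Prime).pos 2
  omega

/-- **The normalizer of `A` and the `A`-invariant `s`-subgroups.** Let `A` be an abelian `p`-subgroup of rank at least
three satisfying the transitivity hypothesis, `H ≥ A` a maximal subgroup with `r_s(F(H)) ≥ 3` (`s ≠ p`) and
`b ∈ A` with `C_G(b) ≤ H`. Then `N_G(A) ≤ H` and every `A`-invariant `s`-subgroup lies in `H`. -/
theorem alpha_facts (hG : Cfsg.IsMinSimpleOddOrder G) (p : ℕ) [Fact p.Prime]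
    (A : Subgroup G) (hAp : IsPGroup p ↥A) (hAc : IsMulCommutative ↥A) (hA3 : ¬ Cfsg.PRankLE p 2 ↥A)
    (hTH : Cfsg.TransitivityHypothesis A)
    (H : Subgroup G) (hH : IsCoatom H) (hAH : A ≤ H) (s : ℕ) [Fact s.Prime] (hsp : s ≠ p)
    (hF : ¬ Cfsg.PRankLE s 2 ↥(Cfsg.fittingOf H))
    (b : G) (hbA : b ∈ A) (hbH : centralizer ({b} : Set G) ≤ H) :
    normalizer (A : Set G) ≤ H ∧
      ∀ Q : Subgroup G, IsPGroup s ↥Q → A ≤ normalizer (Q : Set G) → Q ≤ H := by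
  have hpp : p.Prime := Fact.out
  have hss : s.Prime := Fact.out
  have hU := eq_of_pCoreOf_le hG hH s hF
  have hKH : kOf A ≤ H :=
    ((kOf_le_centralizer A).trans (centralizer_le_centralizer_singleton hbA)).trans hbH
  have hAcent : A ≤ centralizer (A : Set G) := by
    intro a ha
    rw [Subgroup.mem_centralizer_iff]
    intro c hc
    have := isMulCommutative_iff.mp hAc ⟨c, hc⟩ ⟨a, ha⟩
    exact congrArg Subtype.val this
  have hZ : ¬ Cfsg.RankLE 2 ↥(A ⊓ centralizer (A : Set G)) := by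
    obtain ⟨E, hEA, hEc, hEe, hE3⟩ := exists_elemAb_of_not_pRankLE hA3
    exact not_rankLE_of_elemAb hpp (le_inf hEA (hEA.trans hAcent)) hEc hEe hE3
  have hsA : ¬ s ∣ Nat.card ↥A := not_dvd_card_of_isPGroup hss hpp hsp hAp
  have htr := Cfsg.Agent.S1393.result hG A hTH hZ s hss hsA
  -- a maximal `A`-invariant `s`-subgroup containing `O_s(H)`
  have hS0p : IsPGroup s ↥(pCoreOf s H) := Cfsg.Agent.Lib.Helper22_Bender.isPGroup_pCoreOf s H
  have hAS0 : A ≤ normalizer ((pCoreOf s H : Subgroup G) : Set G) :=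
    (hAH.trans le_normalizer).trans (Cfsg.Agent.Lib.Helper49_MaxSub.normalizer_le_normalizer_pCoreOf s H)
  obtain ⟨Q₀, hQ₀, hSQ₀⟩ := exists_max_ge (A := A) hss hS0p hAS0
  have hQ₀s : IsPGroup s ↥Q₀ := ((mem_invSubgroups_top hss).mp hQ₀.1).1
  have hQ₀bot : Q₀ ≠ ⊥ := by
    intro h
    rw [h, le_bot_iff] at hSQ₀
    exact pCoreOf_ne_bot_of_not_pRankLE s hF hSQ₀
  have hQ₀top : Q₀ ≠ ⊤ := ne_top_of_isPGroup hG hss hQ₀s
  have hNQ₀ : normalizer (Q₀ : Set G) ≤ H :=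
    le_of_forall_coatom hU (normalizer_ne_top hG hQ₀bot hQ₀top) (hSQ₀.trans le_normalizer)
  have hQ₀H : Q₀ ≤ H := le_normalizer.trans hNQ₀
  have hsn : (A.subgroupOf A).IsSubnormal := by
    rw [Subgroup.subgroupOf_self]
    exact Subgroup.IsSubnormal.top
  obtain ⟨-, -, -, h4⟩ := Cfsg.Agent.S1395.result hG A hTH s hss hsA A hTH.2.1 (fun r _ h => h) le_rfl hsn htr
  refine ⟨?_, ?_⟩
  · rw [(h4 Q₀ hQ₀).2]
    exact sup_le (((piCoreOf_le _ _).trans (centralizer_le_centralizer_singleton hbA)).trans hbH)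
      (inf_le_right.trans hNQ₀)
  · intro Q hQs hAQ
    obtain ⟨Q₁, hQ₁, hQQ₁⟩ := exists_max_ge (A := A) hss hQs hAQ
    obtain ⟨k, hk, hkQ⟩ := htr Q₀ hQ₀ Q₁ hQ₁
    refine hQQ₁.trans ?_
    rw [hkQ]
    rintro _ ⟨y, hy, rfl⟩
    have hkH : k ∈ H := hKH hk
    exact H.mul_mem (H.mul_mem hkH (hQ₀H hy)) (H.inv_mem hkH)

end Cfsg.Agent.Lib.Helper22_U1402
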