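import Cfsg.Agent.Lib.Helper22_U1402b
import Cfsg.Agent.Lib.Helper22_U1402c
import Cfsg.Agent.S1396

set_option autoImplicit false
open Cfsg

/-! Bender--Glauberman Lemma 9.5: the assembly. -/

namespace Cfsg.Agent.Lib.Helper22_U1402

open Subgroup Cfsg.Agent.Lib.Helper22_Uniq Cfsg.Agent.Lib.Helper22_BGTrans Cfsg.Agent.Lib.Helper22_BGTransRank

variable {G : Type*} [Group G] [Finite G]

/-- an elementary abelian subgroup of order exactly `p ^ 3` -/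
theorem exists_elemAb_card_cube {p : ℕ} [Fact p.Prime] {A : Subgroup G} (hA3 : ¬ Cfsg.PRankLE p 2 ↥A) :
    ∃ B : Subgroup G, B ≤ A ∧ Cfsg.IsElementaryAbelian p B ∧ Nat.card ↥B = p ^ 3 := by
  have hpp : p.Prime := Fact.out
  obtain ⟨E, hEA, hEc, hEe, hE3⟩ := exists_elemAb_of_not_pRankLE hA3
  have hEea : Cfsg.IsElementaryAbelian p E :=
    ⟨⟨⟨fun a b => Subtype.ext (hEc a.1 a.2 b.1 b.2)⟩⟩, hEe⟩
  have hEp : IsPGroup p ↥E := isPGroup_of_isElementaryAbelian hEea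
  obtain ⟨n, hn⟩ := IsPGroup.iff_card.mp hEp
  have hn3 : 3 ≤ n := by
    by_contra h
    have h2 : n ≤ 2 := by omega
    have := Nat.pow_le_pow_right hpp.pos h2
    omega
  have hdvd : p ^ 3 ∣ Nat.card ↥E := by
    rw [hn]
    exact pow_dvd_pow p hn3
  obtain ⟨K, hK⟩ := Sylow.exists_subgroup_card_pow_prime p hdvd
  refine ⟨K.map E.subtype, (Subgroup.map_subtype_le K).trans hEA, ⟨⟨⟨?_⟩⟩, ?_⟩, ?_⟩
  · rintro ⟨_, ⟨a, ha, rfl⟩⟩ ⟨_, ⟨b, hb, rfl⟩⟩
    apply Subtype.ext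
    exact hEc _ a.2 _ b.2
  · rintro _ ⟨a, _, rfl⟩
    exact hEe _ a.2
  · rw [Subgroup.card_map_of_injective E.subtype_injective]
    exact hK

/-- **Assembly of Bender--Glauberman Lemma 9.5** from the four main steps. -/
theorem assembly (hG : Cfsg.IsMinSimpleOddOrder G) (p : ℕ) [Fact p.Prime] (P : Sylow p G) (A : Subgroup G)
    (hA : Cfsg.IsSCN (P : Subgroup G) A) (hA3 : ¬ Cfsg.PRankLE p 2 ↥A)
    (B : Subgroup G) (hBA : B ≤ A) (hBe : Cfsg.IsElementaryAbelian p B) (hB3 : Nat.card ↥B = p ^ 3)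
    -- (L1)
    (L1 : ¬ Cfsg.InUniqueMaximal A → ∀ (H : Subgroup G) (s : ℕ) [Fact s.Prime], IsCoatom H → A ≤ H → s ≠ p →
      ¬ Cfsg.PRankLE s 2 ↥(Cfsg.fittingOf H) →
      ∃ E₁ E₂ : Subgroup G, IsLine A B H s E₁ ∧ IsLine A B H s E₂ ∧
        ∀ M : Subgroup G, IsCoatom M → E₁ ≤ M → E₂ ≤ M → M = H)
    -- (L2)
    (L2 : ¬ Cfsg.InUniqueMaximal A →
      (∀ (H : Subgroup G) (s : ℕ), IsCoatom H → A ≤ H → s.Prime → s ≠ p →
        ¬ Cfsg.PRankLE s 2 ↥(Cfsg.fittingOf H) → normalizer (A : Set G) ≤ H) →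
      (∀ (H : Subgroup G) (s : ℕ), IsCoatom H → A ≤ H → s.Prime → s ≠ p →
        ¬ Cfsg.PRankLE s 2 ↥(Cfsg.fittingOf H) →
        ∀ Q : Subgroup G, IsPGroup s ↥Q → A ≤ normalizer (Q : Set G) → Q ≤ H) →
      ∀ (H H' : Subgroup G) (s s' : ℕ), IsCoatom H → A ≤ H → s.Prime → s ≠ p →
        ¬ Cfsg.PRankLE s 2 ↥(Cfsg.fittingOf H) → IsCoatom H' → A ≤ H' → s'.Prime → s' ≠ p →
        ¬ Cfsg.PRankLE s' 2 ↥(Cfsg.fittingOf H') → H = H')
    -- (L3)
    (L3 : ¬ Cfsg.InUniqueMaximal A → ∀ (H : Subgroup G) (s : ℕ), IsCoatom H → A ≤ H → s.Prime → s ≠ p →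
      ¬ Cfsg.PRankLE s 2 ↥(Cfsg.fittingOf H) →
      (∀ (H' : Subgroup G) (s' : ℕ), IsCoatom H' → A ≤ H' → s'.Prime → s' ≠ p →
        ¬ Cfsg.PRankLE s' 2 ↥(Cfsg.fittingOf H') → H' = H) →
      ∀ (q : ℕ), q.Prime → q ≠ p → q ≠ s → ∀ Q : Subgroup G, IsPGroup q ↥Q → A ≤ normalizer (Q : Set G) → Q ≤ H)
    -- (Case I)
    (caseI : (∀ H : Subgroup G, IsCoatom H → A ≤ H → Cfsg.RankLE 2 ↥(Cfsg.fittingOf H)) →
      Cfsg.InUniqueMaximal A) :
    Cfsg.InUniqueMaximal A := by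
  by_contra hAU
  have hpp : p.Prime := Fact.out
  have hAc : IsMulCommutative ↥A := isMulCommutative_of_isSCN hA
  have hAp : IsPGroup p ↥A := P.isPGroup'.to_le hA.1
  have hA1 : A ≠ ⊥ := ne_bot_of_not_pRankLE hpp hA3
  have hpG : p ∣ Nat.card G := dvd_card_of_ne_bot hAp hA1
  have hTH : Cfsg.TransitivityHypothesis A :=
    Cfsg.Agent.S1396.result hG p hpG A hAp hAc
      (Or.inr ⟨P, hA, fun h => hA3 (pRankLE_mono hpp (by norm_num) h)⟩)
  -- all maximal subgroups have `r_p(F(M)) ≤ 2`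
  have hp2F : ∀ M : Subgroup G, IsCoatom M → Cfsg.PRankLE p 2 ↥(Cfsg.fittingOf M) := by
    intro M hM
    by_contra h
    exact hAU (Cfsg.Agent.S1401.result hG M hM p h A hAp hAc hA3)
  -- the facts about alpha-type members
  have halpha : ∀ (H : Subgroup G) (s : ℕ), IsCoatom H → A ≤ H → s.Prime → s ≠ p →
      ¬ Cfsg.PRankLE s 2 ↥(Cfsg.fittingOf H) →
      normalizer (A : Set G) ≤ H ∧
        ∀ Q : Subgroup G, IsPGroup s ↥Q → A ≤ normalizer (Q : Set G) → Q ≤ H := by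
    intro H s hH hAH hs hsp hF
    have : Fact s.Prime := ⟨hs⟩
    obtain ⟨E₁, E₂, h₁, h₂, hU⟩ := L1 hAU H s hH hAH hsp hF
    obtain ⟨b, hbB, -, hbH⟩ := exists_good_point hG p A B hBA hBe hB3 H s E₁ E₂ h₁ h₂ hU
    exact alpha_facts hG p A hAp hAc hA3 hTH H hH hAH s hsp hF b (hBA hbB) hbH
  by_cases hex : ∃ (H : Subgroup G) (s : ℕ), IsCoatom H ∧ A ≤ H ∧ s.Prime ∧ s ≠ p ∧
      ¬ Cfsg.PRankLE s 2 ↥(Cfsg.fittingOf H)
  · obtain ⟨H, s, hH, hAH, hs, hsp, hF⟩ := hex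
    have huniq : ∀ (H' : Subgroup G) (s' : ℕ), IsCoatom H' → A ≤ H' → s'.Prime → s' ≠ p →
        ¬ Cfsg.PRankLE s' 2 ↥(Cfsg.fittingOf H') → H' = H := by
      intro H' s' h1 h2 h3 h4 h5
      exact (L2 hAU (fun H s a b c d e => (halpha H s a b c d e).1)
        (fun H s a b c d e => (halpha H s a b c d e).2) H H' s s' hH hAH hs hsp hF h1 h2 h3 h4 h5).symm
    apply hAU
    refine ⟨H, ⟨hH, hAH⟩, fun M hM => criterionC hG H hH p A hAH hAp hA1 ?_ M hM.1 hM.2⟩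
    intro Y hAY hpY
    have hcop : (Nat.card ↥A).Coprime (Nat.card ↥Y) := by
      obtain ⟨n, hn⟩ := IsPGroup.iff_card.mp hAp
      rw [hn]
      exact Nat.Coprime.pow_left n ((Nat.Prime.coprime_iff_not_dvd hpp).mpr hpY)
    have hAsolv : Group.IsSolvable ↥A := by
      have : Group.IsNilpotent ↥A := hAp.isNilpotent
      exact IsNilpotent.to_isSolvable
    apply le_of_invariant_sylows hAY hcop (Or.inl hAsolv)
    intro q hq Q hQY hQq hAQ
    by_cases hqp : q = p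
    · -- then `Q = 1`
      subst hqp
      have hQ1 : Q = ⊥ := by
        by_contra hne
        obtain ⟨n, hn⟩ := IsPGroup.iff_card.mp hQq
        have hn0 : n ≠ 0 := by
          rintro rfl
          rw [pow_zero] at hn
          exact hne (Subgroup.card_eq_one.mp hn)
        have h1 : q ∣ Nat.card ↥Q := by rw [hn]; exact dvd_pow_self q hn0
        exact hpY (h1.trans (Subgroup.card_dvd_of_le hQY))
      rw [hQ1]
      exact bot_le
    · by_cases hqs : q = s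
      · subst hqs
        exact (halpha H q hH hAH hs hsp hF).2 Q hQq hAQ
      · exact L3 hAU H s hH hAH hs hsp hF huniq q hq hqp hqs Q hQq hAQ
  · push Not at hex
    apply hAU
    apply caseI
    intro H hH hAH r hr
    by_cases hrp : r = p
    · subst hrp
      exact hp2F H hH
    · exact hex H r hH hAH hr hrp

end Cfsg.Agent.Lib.Helper22_U1402
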