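import Cfsg.Agent.Lib.Helper22_InvariantCore
import Cfsg.Agent.Lib.Helper22_BGTrans
import Cfsg.Agent.Lib.Helper22_Basic
import Cfsg.Agent.S1282

/-!
Thompson's transitivity theorem in the odd order setting (helper22).
-/

set_option autoImplicit false

namespace Cfsg.Agent.Lib.Helper22_ThompsonTrans

open Subgroup Cfsg Cfsg.Agent.Lib.Helper22_Radical Cfsg.Agent.Lib.Helper22_BGTrans
  Cfsg.Agent.Lib.Helper22_InvariantCore Cfsg.Agent.Lib.Helper24_CoprimeAction
  Cfsg.Agent.Lib.Helper22_Basic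

variable {X : Type*} [Group X]

theorem le_normalizer_sup' {B M N : Subgroup X} (h1 : B ≤ normalizer (M : Set X))
    (h2 : B ≤ normalizer (N : Set X)) : B ≤ normalizer ((M ⊔ N : Subgroup X) : Set X) := by
  intro b hb
  rw [mem_normalizer_iff_map_conj, Subgroup.map_sup]
  have e1 : M.map (MulAut.conj b).toMonoidHom = M := mem_normalizer_iff_map_conj.mp (h1 hb)
  have e2 : N.map (MulAut.conj b).toMonoidHom = N := mem_normalizer_iff_map_conj.mp (h2 hb)
  rw [e1, e2]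

/-- `B`-invariant `q`-subgroups -/
def Mem (q : ℕ) (B R : Subgroup X) : Prop := IsPGroup q R ∧ B ≤ normalizer (R : Set X)

/-- maximal `B`-invariant `q`-subgroups -/
def Max (q : ℕ) (B Q : Subgroup X) : Prop :=
  Mem q B Q ∧ ∀ R : Subgroup X, Mem q B R → Q ≤ R → R = Q

theorem exists_max_ge' [Finite X] {q : ℕ} {B R : Subgroup X} (hR : Mem q B R) :
    ∃ Q, Max q B Q ∧ R ≤ Q := by
  have hfin : {R : Subgroup X | Mem q B R}.Finite := Set.toFinite _
  obtain ⟨b, hRb, hb⟩ := hfin.exists_le_maximal (show R ∈ {R : Subgroup X | Mem q B R} from hR)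
  exact ⟨b, ⟨hb.1, fun R' hR' hle => le_antisymm (hb.2 hR' hle) hle⟩, hRb⟩

theorem cj_mem' {q : ℕ} {B R : Subgroup X} {c : X} (hc : c ∈ centralizer (B : Set X)) (hR : Mem q B R) :
    Mem q B (cj c R) := by
  refine ⟨hR.1.map _, ?_⟩
  rw [normalizer_cj]
  have h1 : cj c B = B := cj_eq_of_mem_normalizer (centralizer_le_normalizer _ hc)
  rw [← h1]
  exact cj_mono hR.2

theorem cj_max' {q : ℕ} {B Q : Subgroup X} {c : X} (hc : c ∈ centralizer (B : Set X)) (hQ : Max q B Q) :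
    Max q B (cj c Q) := by
  refine ⟨cj_mem' hc hQ.1, ?_⟩
  intro R hR hle
  have h1 : Mem q B (cj c⁻¹ R) := cj_mem' (inv_mem hc) hR
  have h2 : Q ≤ cj c⁻¹ R := by
    have := cj_mono (k := c⁻¹) hle
    rwa [cj_inv_cj] at this
  have h3 := hQ.2 _ h1 h2
  rw [← h3, cj_cj_inv]

section main

variable [Finite X]

theorem thompson_aux (p : ℕ) [Fact p.Prime] (hp2 : p ≠ 2)
    (hloc : ∀ T : Subgroup X, IsPGroup p T → T ≠ ⊥ → Group.IsSolvable (normalizer (T : Set X)))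
    (B : Subgroup X) (hBp : IsPGroup p B) (hBcomm : ∀ a ∈ B, ∀ b ∈ B, a * b = b * a)
    (hΩ : ∀ x ∈ centralizer (B : Set X), orderOf x = p → x ∈ B)
    (E : Subgroup X) (hEB : E ≤ B) (hEp : ∀ e ∈ E, e ^ p = 1) (hE3 : p ^ 3 ≤ Nat.card E)
    (q : ℕ) [Fact q.Prime] (hqp : q ≠ p) :
    ∀ n : ℕ, ∀ Q₁ Q₂ : Subgroup X, Max q B Q₁ → Max q B Q₂ →
      Nat.card X - Nat.card (Q₁ ⊓ Q₂ : Subgroup X) = n → KConj (centralizer (B : Set X)) Q₁ Q₂ := by
  have hp : p.Prime := Fact.out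
  have hq : q.Prime := Fact.out
  have hEel : IsElementaryAbelian p E := by
    refine ⟨⟨⟨fun a b => ?_⟩⟩, hEp⟩
    apply Subtype.ext
    exact hBcomm a (hEB a.2) b (hEB b.2)
  intro n
  induction n using Nat.strong_induction_on with
  | _ n ih =>
    intro Q₁ Q₂ hQ₁ hQ₂ hn
    obtain ⟨⟨hq₁, hB₁⟩, hmax₁⟩ := hQ₁
    obtain ⟨⟨hq₂, hB₂⟩, hmax₂⟩ := hQ₂
    by_cases h1 : Q₁ ⊓ Q₂ = Q₁
    · have : Q₂ = Q₁ := hmax₁ Q₂ ⟨hq₂, hB₂⟩ (by rw [← h1]; exact inf_le_right)
      rw [this]; exact KConj.refl _ _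
    by_cases h2 : Q₁ ⊓ Q₂ = Q₂
    · have : Q₁ = Q₂ := hmax₂ Q₁ ⟨hq₁, hB₁⟩ (by rw [← h2]; exact inf_le_left)
      rw [this]; exact KConj.refl _ _
    obtain ⟨a, haE, ha1, hg₁, hg₂⟩ := Cfsg.Agent.S1282.result p E hEel hE3 q hqp Q₁ Q₂ hq₁ hq₂
      (hEB.trans hB₁) (hEB.trans hB₂) h1 h2
    set D := Q₁ ⊓ Q₂ with hD
    set ND := normalizer (D : Set X) with hND
    set H := centralizer ({a} : Set X) with hH
    have haB : a ∈ B := hEB haE
    have hDq : IsPGroup q D := hq₁.to_inf_left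
    have hBD : B ≤ ND := le_normalizer_inf' hB₁ hB₂
    have hBH : B ≤ H := by
      intro b hb
      rw [hH, mem_centralizer_singleton_iff]
      exact hBcomm b hb a haB
    -- `H` is solvable
    have hHs : Group.IsSolvable H := by
      have hz : IsPGroup p (zpowers a) := hBp.to_le (by rw [zpowers_le]; exact haB)
      have hzne : zpowers a ≠ ⊥ := by
        intro h
        exact ha1 (Subgroup.zpowers_eq_bot.mp h)
      have hs := hloc (zpowers a) hz hzne
      have hle : H ≤ normalizer ((zpowers a : Subgroup X) : Set X) := by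
        have : H = centralizer ((zpowers a : Subgroup X) : Set X) := by
          rw [hH, Subgroup.zpowers_eq_closure, Subgroup.centralizer_closure]
        rw [this]
        exact centralizer_le_normalizer _
      exact isSolvable_of_le hle hs
    set O := (pPrimeCore p ↥H).map H.subtype with hO
    have hOH : O ≤ H := Subgroup.map_subtype_le _
    have hHO : H ≤ normalizer (O : Set X) := by
      have : (pPrimeCore p ↥H).Normal := Cfsg.Agent.Lib.Helper1_Cores.pPrimeCore_normal p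
      exact Cfsg.Agent.Lib.Helper22_CoreCentralizer.le_normalizer_map_subtype _
    have hOcop : (Nat.card O).Coprime p := by
      rw [hO, Subgroup.card_map_of_injective H.subtype_injective]
      exact Cfsg.Agent.Lib.Helper1_Cores.pPrimeCore_card_coprime p
    have hnotdvd : ∀ R : Subgroup X, IsPGroup q R → ¬ p ∣ Nat.card R := by
      intro R hR hd
      obtain ⟨m, hm⟩ := hR.exists_card_eq
      rw [hm] at hd
      exact hqp ((Nat.prime_dvd_prime_iff_eq hp hq).mp (hp.dvd_of_dvd_pow hd)).symm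
    have hBND : B ≤ normalizer (ND : Set X) := hBD.trans le_normalizer
    have hBHn : B ≤ normalizer (H : Set X) := hBH.trans le_normalizer
    -- the two `q`-subgroups of `O ⊓ N(D)`
    have hR : ∀ Q : Subgroup X, IsPGroup q Q → B ≤ normalizer (Q : Set X) →
        ND ⊓ Q ⊓ H ≤ O ⊓ ND ∧ B ≤ normalizer ((ND ⊓ Q ⊓ H : Subgroup X) : Set X) := by
      intro Q hQq hBQ
      have hinv : B ≤ normalizer ((ND ⊓ Q ⊓ H : Subgroup X) : Set X) :=
        le_normalizer_inf' (le_normalizer_inf' hBND hBQ) hBHn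
      have hqg : IsPGroup q (ND ⊓ Q ⊓ H : Subgroup X) := hQq.to_le (inf_le_left.trans inf_le_right)
      refine ⟨le_inf ?_ (inf_le_left.trans inf_le_left), hinv⟩
      exact le_map_pPrimeCore_of_invariant p hp2 hHs hBH hBp hΩ inf_le_right (hnotdvd _ hqg) hinv
    obtain ⟨hR₁L, hBR₁⟩ := hR Q₁ hq₁ hB₁
    obtain ⟨hR₂L, hBR₂⟩ := hR Q₂ hq₂ hB₂
    set L := O ⊓ ND with hL
    have hLD : L ≤ ND := inf_le_right
    set LD := D ⊔ L with hLDdef
    have hBO : B ≤ normalizer (O : Set X) := hBH.trans hHO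
    have hBL : B ≤ normalizer (L : Set X) := le_normalizer_inf' hBO hBND
    have hBDn : B ≤ normalizer (D : Set X) := hBD
    have hBLD : B ≤ normalizer (LD : Set X) := le_normalizer_sup' hBDn hBL
    have hLs : Group.IsSolvable L := isSolvable_of_le (inf_le_left.trans hOH) hHs
    have hDs : Group.IsSolvable D := by
      have : Group.IsNilpotent ↥D := hDq.isNilpotent
      exact IsNilpotent.to_isSolvable
    have hLDs : Group.IsSolvable LD := isSolvable_sup_of_le_normalizer D L hLD hDs hLs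
    have hLDcop : (Nat.card LD).Coprime p := by
      have hd := card_sup_dvd_of_le_normalizer D L hLD
      have h3 : (Nat.card D).Coprime p := (Nat.Prime.coprime_iff_not_dvd hp).mpr (hnotdvd D hDq) |>.symm
      have h4 : (Nat.card L).Coprime p :=
        Nat.Coprime.coprime_dvd_left (Subgroup.card_dvd_of_le inf_le_left) hOcop
      exact Nat.Coprime.coprime_dvd_left hd (Nat.Coprime.mul_left h3 h4)
    have hcop : (Nat.card B).Coprime (Nat.card LD) := by
      obtain ⟨m, hm⟩ := hBp.exists_card_eq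
      rw [hm]
      exact Nat.Coprime.pow_left m hLDcop.symm
    -- the `q`-subgroups `Rᵢ ⊔ D`
    have hT : ∀ Q : Subgroup X, IsPGroup q Q → ND ⊓ Q ⊓ H ≤ L →
        B ≤ normalizer ((ND ⊓ Q ⊓ H : Subgroup X) : Set X) →
        (ND ⊓ Q ⊓ H) ⊔ D ≤ LD ∧ IsPGroup q ((ND ⊓ Q ⊓ H) ⊔ D : Subgroup X) ∧
          B ≤ normalizer (((ND ⊓ Q ⊓ H) ⊔ D : Subgroup X) : Set X) := by
      intro Q hQq hle hinv
      refine ⟨sup_le (hle.trans le_sup_right) le_sup_left, ?_, le_normalizer_sup' hinv hBDn⟩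
      exact (hQq.to_le (inf_le_left.trans inf_le_right)).to_sup_of_normal_right' hDq
        (inf_le_left.trans inf_le_left)
    obtain ⟨hT₁, hTq₁, hBT₁⟩ := hT Q₁ hq₁ hR₁L hBR₁
    obtain ⟨hT₂, hTq₂, hBT₂⟩ := hT Q₂ hq₂ hR₂L hBR₂
    obtain ⟨P₁, hTP₁, hBP₁⟩ := Cfsg.Agent.S0025.result B LD hBLD hcop (Or.inr hLDs) q _ hT₁ hTq₁ hBT₁
    obtain ⟨P₂, hTP₂, hBP₂⟩ := Cfsg.Agent.S0025.result B LD hBLD hcop (Or.inr hLDs) q _ hT₂ hTq₂ hBT₂
    obtain ⟨c, hcB, hcP⟩ := invariant_sylow_conj B LD hBLD hcop (Or.inr hLDs) q P₁ P₂ hBP₁ hBP₂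
    have hS₁ : Mem q B (sylowImage P₁) := ⟨P₁.isPGroup'.map _, hBP₁⟩
    obtain ⟨Q₃, hQ₃, hSQ₃⟩ := exists_max_ge' hS₁
    have hQ₃' : Max q B (cj (c : X) Q₃) := cj_max' hcB hQ₃
    have hP₂ : sylowImage P₂ = cj (c : X) (sylowImage P₁) := by
      rw [← hcP]; exact sylowImage_smul P₁ c
    have hcG : ∀ U : Subgroup X, Nat.card U ≤ Nat.card X := fun U => Subgroup.card_le_card_group U
    have hDND : D ≤ ND := le_normalizer
    -- first link
    have hle1 : (ND ⊓ Q₁ ⊓ H) ⊔ D ≤ Q₁ ⊓ Q₃ :=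
      le_inf (sup_le (inf_le_left.trans inf_le_right) inf_le_left) (hTP₁.trans hSQ₃)
    have hlt1 : Nat.card D < Nat.card (Q₁ ⊓ Q₃ : Subgroup X) :=
      card_lt_card_of_lt (le_sup_right.trans hle1) (fun h => hg₁ ((le_sup_left.trans hle1).trans h))
    have c1 : KConj (centralizer (B : Set X)) Q₁ Q₃ :=
      ih (Nat.card X - Nat.card (Q₁ ⊓ Q₃ : Subgroup X))
        (by have := hcG (Q₁ ⊓ Q₃); have := hcG D; omega) Q₁ Q₃ ⟨⟨hq₁, hB₁⟩, hmax₁⟩ hQ₃ rfl
    -- second link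
    have hle2 : (ND ⊓ Q₂ ⊓ H) ⊔ D ≤ cj (c : X) Q₃ ⊓ Q₂ := by
      refine le_inf ?_ (sup_le (inf_le_left.trans inf_le_right) inf_le_right)
      refine hTP₂.trans ?_
      show sylowImage P₂ ≤ cj (c : X) Q₃
      rw [hP₂]
      exact cj_mono hSQ₃
    have hlt2 : Nat.card D < Nat.card (cj (c : X) Q₃ ⊓ Q₂ : Subgroup X) :=
      card_lt_card_of_lt (le_sup_right.trans hle2) (fun h => hg₂ ((le_sup_left.trans hle2).trans h))
    have c2 : KConj (centralizer (B : Set X)) (cj (c : X) Q₃) Q₂ :=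
      ih (Nat.card X - Nat.card (cj (c : X) Q₃ ⊓ Q₂ : Subgroup X))
        (by have := hcG (cj (c : X) Q₃ ⊓ Q₂); have := hcG D; omega) _ Q₂ hQ₃' ⟨⟨hq₂, hB₂⟩, hmax₂⟩ rfl
    exact c1.trans (KConj.trans ⟨(c : X), hcB, rfl⟩ c2)

end main

end Cfsg.Agent.Lib.Helper22_ThompsonTrans
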