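import Mathlib
import Cfsg.Prelude.Def_CaseTheorems
import Cfsg.Agent.S1452
import Cfsg.Agent.Lib.Helper20_PGroupOdd
import Cfsg.Agent.Lib.Helper20_OmegaOne
import Cfsg.Agent.Lib.Helper22_Hyperplane
import Cfsg.Agent.Lib.Helper24_CoprimeAction
import Cfsg.Agent.Lib.Helper22_BGTransUp
import Cfsg.Agent.Lib.Helper22_ThompsonTrans

/-!
# An invariant elementary abelian subgroup for the proof of Bender-Glauberman 9.5 (helper54)

`exists_invariant_elemAb`: an abelian `p`-group `A` of rank at least 3 normalizing an `s`-group `S` of rank at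
least 3 (`s` odd, `s ≠ p`), such that no noncyclic subgroup of `A` centralizes a noncyclic subgroup `Y` of `S`
with `C_S(Y)` of rank at least 3, normalizes an elementary abelian noncyclic `V ≤ S` with `C_S(V)` of rank at
least 3.
-/

set_option autoImplicit false

namespace Cfsg.Agent.Lib.Helper54_BGElemAb

open Subgroup

universe u

variable {G : Type u} [Group G]

/-- the elements of order dividing `s` in the centre of `S` -/
def omegaCenter (s : ℕ) (S : Subgroup G) : Subgroup G where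
  carrier := {x | x ∈ S ∧ x ∈ centralizer (S : Set G) ∧ x ^ s = 1}
  one_mem' := ⟨S.one_mem, (centralizer (S : Set G)).one_mem, one_pow s⟩
  inv_mem' := by
    rintro x ⟨hx, hxc, hxs⟩
    exact ⟨S.inv_mem hx, (centralizer (S : Set G)).inv_mem hxc, by rw [inv_pow, hxs, inv_one]⟩
  mul_mem' := by
    rintro x y ⟨hx, hxc, hxs⟩ ⟨hy, hyc, hys⟩
    refine ⟨S.mul_mem hx hy, (centralizer (S : Set G)).mul_mem hxc hyc, ?_⟩
    have hc : Commute x y := mem_centralizer_iff.mp hyc x hx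
    rw [hc.mul_pow, hxs, hys, one_mul]

theorem mem_omegaCenter {s : ℕ} {S : Subgroup G} {x : G} :
    x ∈ omegaCenter s S ↔ x ∈ S ∧ x ∈ centralizer (S : Set G) ∧ x ^ s = 1 := Iff.rfl

theorem omegaCenter_le (s : ℕ) (S : Subgroup G) : omegaCenter s S ≤ S := fun _ hx => hx.1

theorem omegaCenter_le_centralizer (s : ℕ) (S : Subgroup G) :
    omegaCenter s S ≤ centralizer (S : Set G) := fun _ hx => hx.2.1

/-- conjugation by an element normalizing `S` preserves the centralizer of `S` -/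
theorem conj_mem_centralizer {S : Subgroup G} {a x : G} (ha : a ∈ normalizer (S : Set G))
    (hx : x ∈ centralizer (S : Set G)) : a * x * a⁻¹ ∈ centralizer (S : Set G) := by
  rw [mem_centralizer_iff]
  intro g hg
  have hg' : a⁻¹ * g * a ∈ S := by
    have := (mem_normalizer_iff.mp (inv_mem ha) g).mp hg
    simpa using this
  have h1 := mem_centralizer_iff.mp hx _ hg'
  calc g * (a * x * a⁻¹) = a * ((a⁻¹ * g * a) * x) * a⁻¹ := by group
    _ = a * (x * (a⁻¹ * g * a)) * a⁻¹ := by rw [h1]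
    _ = a * x * a⁻¹ * g := by group

theorem le_normalizer_omegaCenter (s : ℕ) {A S : Subgroup G} (hAS : A ≤ normalizer (S : Set G)) :
    A ≤ normalizer (omegaCenter s S : Set G) := by
  apply Cfsg.Agent.Lib.Helper22_BGTransUp.le_normalizer_of_conj_mem
  rintro a ha x ⟨hx, hxc, hxs⟩
  refine ⟨(mem_normalizer_iff.mp (hAS ha) x).mp hx, conj_mem_centralizer (hAS ha) hxc, ?_⟩
  rw [conj_pow, hxs, mul_one, mul_inv_cancel]

/-- the elements of order dividing `s` in the second centre of `S` (for odd `s`) -/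
def omegaTwo {s : ℕ} (hs : s.Prime) (hs2 : s ≠ 2) (S : Subgroup G) : Subgroup G where
  carrier := {x | x ∈ S ∧ x ^ s = 1 ∧ ∀ g ∈ S, g * x * g⁻¹ * x⁻¹ ∈ omegaCenter s S}
  one_mem' := ⟨S.one_mem, one_pow s, fun g _ => by
    have : g * 1 * g⁻¹ * (1 : G)⁻¹ = 1 := by group
    rw [this]
    exact (omegaCenter s S).one_mem⟩
  inv_mem' := by
    rintro x ⟨hx, hxs, hxc⟩
    refine ⟨S.inv_mem hx, by rw [inv_pow, hxs, inv_one], ?_⟩
    intro g hg
    have hc := hxc g hg
    have hcomm : x * (g * x * g⁻¹ * x⁻¹) = (g * x * g⁻¹ * x⁻¹) * x :=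
      mem_centralizer_iff.mp hc.2.1 x hx
    have hc' : Commute x (g * x * g⁻¹ * x⁻¹) := hcomm
    have e : g * x⁻¹ * g⁻¹ * x⁻¹⁻¹ = (g * x * g⁻¹ * x⁻¹)⁻¹ := by
      have e1 : g * x⁻¹ * g⁻¹ * x⁻¹⁻¹ = x⁻¹ * (g * x * g⁻¹ * x⁻¹)⁻¹ * x := by group
      rw [e1, mul_assoc, ← hc'.inv_right.eq, inv_mul_cancel_left]
    rw [e]
    exact (omegaCenter s S).inv_mem hc
  mul_mem' := by
    rintro x y ⟨hx, hxs, hxc⟩ ⟨hy, hys, hyc⟩
    refine ⟨S.mul_mem hx hy, ?_, ?_⟩
    · have hc := hxc y hy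
      have h1 : y * x = (y * x * y⁻¹ * x⁻¹) * x * y := by group
      have c1 : Commute (y * x * y⁻¹ * x⁻¹) x := (mem_centralizer_iff.mp hc.2.1 x hx).symm
      have c2 : Commute (y * x * y⁻¹ * x⁻¹) y := (mem_centralizer_iff.mp hc.2.1 y hy).symm
      rw [Cfsg.Agent.Lib.Helper20_PGroupOdd.mul_pow_prime_of_comm hs hs2 h1 c1 c2 hc.2.2, hxs, hys,
        one_mul]
    · intro g hg
      have hc1 := hxc g hg
      have hc2 := hyc g hg
      have hcomm : x * (g * y * g⁻¹ * y⁻¹) = (g * y * g⁻¹ * y⁻¹) * x :=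
        mem_centralizer_iff.mp hc2.2.1 x hx
      have e : g * (x * y) * g⁻¹ * (x * y)⁻¹ = (g * x * g⁻¹ * x⁻¹) * (g * y * g⁻¹ * y⁻¹) := by
        have e1 : g * (x * y) * g⁻¹ * (x * y)⁻¹
            = (g * x * g⁻¹ * x⁻¹) * (x * (g * y * g⁻¹ * y⁻¹)) * x⁻¹ := by group
        rw [e1, hcomm]
        group
      rw [e]
      exact (omegaCenter s S).mul_mem hc1 hc2

theorem mem_omegaTwo {s : ℕ} {hs : s.Prime} {hs2 : s ≠ 2} {S : Subgroup G} {x : G} :
    x ∈ omegaTwo hs hs2 S ↔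
      x ∈ S ∧ x ^ s = 1 ∧ ∀ g ∈ S, g * x * g⁻¹ * x⁻¹ ∈ omegaCenter s S := Iff.rfl

theorem omegaTwo_le {s : ℕ} (hs : s.Prime) (hs2 : s ≠ 2) (S : Subgroup G) : omegaTwo hs hs2 S ≤ S :=
  fun _ hx => hx.1

theorem omegaCenter_le_omegaTwo {s : ℕ} (hs : s.Prime) (hs2 : s ≠ 2) (S : Subgroup G) :
    omegaCenter s S ≤ omegaTwo hs hs2 S := by
  rintro x ⟨hx, hxc, hxs⟩
  refine ⟨hx, hxs, fun g hg => ?_⟩
  have h1 : g * x = x * g := mem_centralizer_iff.mp hxc g hg
  have : g * x * g⁻¹ * x⁻¹ = 1 := by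
    rw [h1]
    group
  rw [this]
  exact (omegaCenter s S).one_mem

theorem le_normalizer_omegaTwo {s : ℕ} (hs : s.Prime) (hs2 : s ≠ 2) {A S : Subgroup G}
    (hAS : A ≤ normalizer (S : Set G)) : A ≤ normalizer (omegaTwo hs hs2 S : Set G) := by
  apply Cfsg.Agent.Lib.Helper22_BGTransUp.le_normalizer_of_conj_mem
  rintro a ha x ⟨hx, hxs, hxc⟩
  refine ⟨(mem_normalizer_iff.mp (hAS ha) x).mp hx, ?_, ?_⟩
  · rw [conj_pow, hxs, mul_one, mul_inv_cancel]
  · intro g hg
    have hg' : a⁻¹ * g * a ∈ S := by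
      have := (mem_normalizer_iff.mp (inv_mem (hAS ha)) g).mp hg
      simpa using this
    have h1 := hxc _ hg'
    have h2 := (mem_normalizer_iff.mp (le_normalizer_omegaCenter s hAS ha) _).mp h1
    have e : g * (a * x * a⁻¹) * g⁻¹ * (a * x * a⁻¹)⁻¹
        = a * (a⁻¹ * g * a * x * (a⁻¹ * g * a)⁻¹ * x⁻¹) * a⁻¹ := by group
    rw [e]
    exact h2

/-! ### rank witnesses -/

theorem not_pRankLE_of_elemAb {p k : ℕ} {E K : Subgroup G} (hEK : E ≤ K)
    (hEc : ∀ a ∈ E, ∀ b ∈ E, a * b = b * a) (hEe : ∀ a ∈ E, a ^ p = 1) (hcard : p ^ k < Nat.card E) :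
    ¬ Cfsg.PRankLE p k ↥K := by
  intro h
  have h1 := h (E.subgroupOf K) ⟨⟨fun a b => ?_⟩⟩ ?_
  · rw [Cfsg.Agent.Lib.Helper24_CoprimeAction.card_subgroupOf_of_le hEK] at h1
    omega
  · apply Subtype.ext
    apply Subtype.ext
    have := hEc _ (mem_subgroupOf.mp a.2) _ (mem_subgroupOf.mp b.2)
    simpa using this
  · intro a ha
    apply Subtype.ext
    rw [Subgroup.coe_pow]
    exact hEe _ (mem_subgroupOf.mp ha)

theorem exists_elemAb_of_not_pRankLE {p k : ℕ} {Z : Subgroup G} (h : ¬ Cfsg.PRankLE p k ↥Z) :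
    ∃ E : Subgroup G, E ≤ Z ∧ (∀ a ∈ E, ∀ b ∈ E, a * b = b * a) ∧ (∀ a ∈ E, a ^ p = 1) ∧
      p ^ k < Nat.card E := by
  unfold Cfsg.PRankLE at h
  push Not at h
  obtain ⟨B, hBc, hBp, hlt⟩ := h
  refine ⟨B.map Z.subtype, Subgroup.map_subtype_le _, ?_, ?_, ?_⟩
  · rintro _ ⟨x, hx, rfl⟩ _ ⟨y, hy, rfl⟩
    have h1 := hBc.is_comm.comm (⟨x, hx⟩ : B) ⟨y, hy⟩
    have h2 := congrArg (fun z : B => ((z : Z) : G)) h1
    simpa using h2
  · rintro _ ⟨x, hx, rfl⟩
    have h1 := hBp x hx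
    have h2 := congrArg (fun z : Z => (z : G)) h1
    simpa using h2
  · rw [Subgroup.card_map_of_injective Z.subtype_injective]
    exact hlt

variable [Finite G]

/-- **The normal `E_{s^2}` of a good pair has a centralizer of rank at least 3.** -/
theorem good_pair {s : ℕ} [Fact s.Prime] (hs2 : s ≠ 2) {S : Subgroup G} (hS : IsPGroup s S)
    (hS3 : ¬ Cfsg.PRankLE s 2 ↥S) {z v : G} (hzS : z ∈ S) (hzc : z ∈ centralizer (S : Set G))
    (hz : orderOf z = s) (hvS : v ∈ S) (hv : v ^ s = 1) (hvz : v ∉ zpowers z)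
    (hcomm : ∀ g ∈ S, g * v * g⁻¹ * v⁻¹ ∈ zpowers z) :
    zpowers z ⊔ zpowers v ≤ S ∧
      (∀ a ∈ zpowers z ⊔ zpowers v, ∀ b ∈ zpowers z ⊔ zpowers v, a * b = b * a) ∧
      (∀ a ∈ zpowers z ⊔ zpowers v, a ^ s = 1) ∧
      ¬ IsCyclic ↥(zpowers z ⊔ zpowers v) ∧
      ¬ Cfsg.PRankLE s 2 ↥(S ⊓ centralizer ((zpowers z ⊔ zpowers v : Subgroup G) : Set G)) := by
  have hsP : s.Prime := Fact.out
  set zR : ↥S := ⟨z, hzS⟩ with hzR
  set vR : ↥S := ⟨v, hvS⟩ with hvR
  have hg : Cfsg.Agent.Lib.Helper20_PGroupOdd.Good s (⊤ : Subgroup ↥S) zR vR := by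
    refine ⟨mem_top _, mem_top _, ?_, ?_, ?_, ?_, ?_⟩
    · rw [mem_center_iff]
      intro g
      apply Subtype.ext
      exact mem_centralizer_iff.mp hzc g.1 g.2
    · rw [← Subgroup.orderOf_coe zR]
      exact hz
    · apply Subtype.ext
      simpa using hv
    · intro hmem
      apply hvz
      obtain ⟨k, hk⟩ := mem_zpowers_iff.mp hmem
      rw [mem_zpowers_iff]
      refine ⟨k, ?_⟩
      have := congrArg (fun w : ↥S => (w : G)) hk
      simpa using this
    · intro g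
      obtain ⟨k, hk⟩ := mem_zpowers_iff.mp (hcomm g.1 g.2)
      rw [mem_zpowers_iff]
      refine ⟨k, ?_⟩
      apply Subtype.ext
      simpa using hk
  have hmap : hg.B.map S.subtype = zpowers z ⊔ zpowers v := by
    unfold Cfsg.Agent.Lib.Helper20_PGroupOdd.Good.B
    rw [Subgroup.map_sup, MonoidHom.map_zpowers, MonoidHom.map_zpowers]
    rfl
  have hYS : zpowers z ⊔ zpowers v ≤ S := sup_le (zpowers_le.mpr hzS) (zpowers_le.mpr hvS)
  have hYc : ∀ a ∈ zpowers z ⊔ zpowers v, ∀ b ∈ zpowers z ⊔ zpowers v, a * b = b * a := by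
    rw [← hmap]
    rintro _ ⟨a, ha, rfl⟩ _ ⟨b, hb, rfl⟩
    have := hg.B_comm a ha b hb
    have h2 := congrArg (fun w : ↥S => (w : G)) this
    simpa using h2
  have hYe : ∀ a ∈ zpowers z ⊔ zpowers v, a ^ s = 1 := by
    rw [← hmap]
    rintro _ ⟨a, ha, rfl⟩
    have := hg.B_exp a ha
    have h2 := congrArg (fun w : ↥S => (w : G)) this
    simpa using h2
  have hYcard : Nat.card ↥(zpowers z ⊔ zpowers v) = s ^ 2 := by
    rw [← hmap, Subgroup.card_map_of_injective S.subtype_injective]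
    exact hg.card_B
  have hYnc : ¬ IsCyclic ↥(zpowers z ⊔ zpowers v) := by
    intro hc
    have h1 : Nat.card ↥(zpowers z ⊔ zpowers v) ≤ s := by
      apply Cfsg.Agent.Lib.Helper20_OmegaOne.card_le_of_isCyclic_of_exp hsP
      intro g
      apply Subtype.ext
      simpa using hYe g.1 g.2
    rw [hYcard] at h1
    have : s < s ^ 2 := by nlinarith [hsP.one_lt]
    omega
  refine ⟨hYS, hYc, hYe, hYnc, ?_⟩
  -- the rank of the centralizer, from S1452
  have hBn : hg.B.Normal := hg.B_normal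
  have hBel : Cfsg.IsElementaryAbelian s hg.B :=
    ⟨⟨⟨fun a b => Subtype.ext (hg.B_comm a.1 a.2 b.1 b.2)⟩⟩, hg.B_exp⟩
  obtain ⟨A', hBA', -, hCA', hA'r⟩ := Cfsg.Agent.S1452.result s hs2 hS hS3 hg.B hBel hg.card_B
  obtain ⟨E', hE'A', hE'c, hE'e, hE'card⟩ :=
    exists_elemAb_of_not_pRankLE hA'r
  have hEle : E'.map S.subtype ≤ S ⊓ centralizer ((zpowers z ⊔ zpowers v : Subgroup G) : Set G) := by
    rintro _ ⟨x, hx, rfl⟩
    refine ⟨x.2, ?_⟩
    show S.subtype x ∈ centralizer ((zpowers z ⊔ zpowers v : Subgroup G) : Set G)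
    rw [mem_centralizer_iff]
    intro y hy
    rw [SetLike.mem_coe, ← hmap] at hy
    obtain ⟨b, hb, rfl⟩ := hy
    have hxA : x ∈ centralizer (A' : Set ↥S) := by
      rw [hCA']
      exact hE'A' hx
    have := mem_centralizer_iff.mp hxA b (hBA' hb)
    have h2 := congrArg (fun w : ↥S => (w : G)) this
    simpa using h2
  refine not_pRankLE_of_elemAb hEle ?_ ?_ ?_
  · rintro _ ⟨a, ha, rfl⟩ _ ⟨b, hb, rfl⟩
    have := hE'c a ha b hb
    have h2 := congrArg (fun w : ↥S => (w : G)) this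
    simpa using h2
  · rintro _ ⟨a, ha, rfl⟩
    have := hE'e a ha
    have h2 := congrArg (fun w : ↥S => (w : G)) this
    simpa using h2
  · rw [Subgroup.card_map_of_injective S.subtype_injective]
    exact hE'card

/-- the main case: the centre of `S` has a unique subgroup `⟨z⟩` of order `s`, and `Om` plays the role of
`Ω₁(Z₂(S))` -/
theorem core_cyclic {p s : ℕ} [Fact p.Prime] [Fact s.Prime] (hs2 : s ≠ 2) (hps : p ≠ s)
    (A S : Subgroup G) (hAc : ∀ a ∈ A, ∀ b ∈ A, a * b = b * a)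
    (hA3 : ¬ Cfsg.PRankLE p 2 ↥A) (hS : IsPGroup s S) (hS3 : ¬ Cfsg.PRankLE s 2 ↥S)
    (hNU : ∀ Y : Subgroup G, Y ≤ S → ¬ IsCyclic ↥Y →
      ¬ Cfsg.PRankLE s 2 ↥(S ⊓ centralizer (Y : Set G)) →
      Cfsg.PRankLE p 1 ↥(A ⊓ centralizer (Y : Set G)))
    {z : G} (hzS : z ∈ S) (hzc : z ∈ centralizer (S : Set G)) (hzo : orderOf z = s)
    (hAZ : A ≤ normalizer (zpowers z : Set G))
    (Om : Subgroup G) (hOmS : Om ≤ S) (hOme : ∀ x ∈ Om, x ^ s = 1)
    (hOmc : ∀ x ∈ Om, ∀ g ∈ S, g * x * g⁻¹ * x⁻¹ ∈ zpowers z)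
    (hZOm : zpowers z ≤ Om) (hAOm : A ≤ normalizer (Om : Set G)) (hne : ¬ Om ≤ zpowers z) :
    ∃ V : Subgroup G, V ≤ S ∧ A ≤ normalizer (V : Set G) ∧ (∀ a ∈ V, ∀ b ∈ V, a * b = b * a) ∧
      (∀ a ∈ V, a ^ s = 1) ∧ ¬ IsCyclic ↥V ∧
      ¬ Cfsg.PRankLE s 2 ↥(S ⊓ centralizer (V : Set G)) := by
  classical
  have hpP : p.Prime := Fact.out
  have hsP : s.Prime := Fact.out
  have hZC : zpowers z ≤ centralizer (S : Set G) := zpowers_le.mpr hzc
  obtain ⟨B₀, hB₀A, hB₀c, hB₀e, hB₀card⟩ := exists_elemAb_of_not_pRankLE hA3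
  -- a minimal invariant subgroup strictly above `⟨z⟩`
  obtain ⟨V, ⟨hAV, hZV, hVOm⟩, hVmin⟩ : ∃ V : Subgroup G,
      (A ≤ normalizer (V : Set G) ∧ zpowers z < V ∧ V ≤ Om) ∧
      ∀ W : Subgroup G, (A ≤ normalizer (W : Set G) ∧ zpowers z < W ∧ W ≤ Om) → W ≤ V → W = V := by
    obtain ⟨V, hV, hmin⟩ := (measure (fun V : Subgroup G => Nat.card V)).wf.has_min
      {V : Subgroup G | A ≤ normalizer (V : Set G) ∧ zpowers z < V ∧ V ≤ Om}
      ⟨Om, hAOm, lt_of_le_not_ge hZOm hne, le_rfl⟩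
    refine ⟨V, hV, fun W hW hWV => ?_⟩
    have h1 : ¬ (Nat.card W < Nat.card V) := hmin W hW
    exact Subgroup.eq_of_le_of_card_ge hWV (not_lt.mp h1)
  have hVS : V ≤ S := hVOm.trans hOmS
  have hVp : ¬ p ∣ Nat.card V := by
    have hVs : IsPGroup s V := hS.to_le hVS
    obtain ⟨k, hk⟩ := IsPGroup.iff_card.mp hVs
    rw [hk]
    intro hd
    exact hps ((Nat.prime_dvd_prime_iff_eq hpP hsP).mp (hpP.dvd_of_dvd_pow hd))
  have hgen := Cfsg.Agent.Lib.Helper22_Hyperplane.le_iSup_centralizer_hyperplanes p B₀ V hB₀c hB₀e hVp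
    (hB₀A.trans hAV)
  obtain ⟨⟨B', hB'B₀, hB'idx⟩, hB'nle⟩ : ∃ B' : {B : Subgroup G // B ≤ B₀ ∧ B.relIndex B₀ ≤ p},
      ¬ (V ⊓ centralizer ((B' : Subgroup G) : Set G) ≤ zpowers z) := by
    by_contra hcon
    push Not at hcon
    have : V ≤ zpowers z := hgen.trans (iSup_le hcon)
    exact (not_le_of_gt hZV) this
  have hB'A : B' ≤ A := hB'B₀.trans hB₀A
  have hcardB' : p ^ 1 < Nat.card B' := by
    have h1 := Cfsg.Agent.Lib.Helper22_Hyperplane.card_mul_relIndex hB'B₀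
    rw [pow_one]
    by_contra hle
    push Not at hle
    have h2 : Nat.card B' * B'.relIndex B₀ ≤ p * p := Nat.mul_le_mul hle hB'idx
    rw [h1] at h2
    rw [sq] at hB₀card
    omega
  have hbad : ∀ Y : Subgroup G, Y ≤ S → ¬ IsCyclic ↥Y →
      ¬ Cfsg.PRankLE s 2 ↥(S ⊓ centralizer (Y : Set G)) → B' ≤ centralizer (Y : Set G) → False := by
    intro Y hYS hYc hYr hBY
    exact not_pRankLE_of_elemAb (E := B') (K := A ⊓ centralizer (Y : Set G)) (le_inf hB'A hBY)
      (fun a ha b hb => hB₀c a (hB'B₀ ha) b (hB'B₀ hb)) (fun a ha => hB₀e a (hB'B₀ ha)) hcardB'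
      (hNU Y hYS hYc hYr)
  -- the fixed points of `B'`
  have hAV1 : A ≤ normalizer ((V ⊓ centralizer (B' : Set G) : Subgroup G) : Set G) := by
    intro a ha
    exact Cfsg.Agent.Lib.Helper22_Hyperplane.mem_normalizer_inf_centralizer (hAV ha)
      (fun d hd => hAc a ha d (hB'A hd))
  have hVeq : zpowers z ⊔ (V ⊓ centralizer (B' : Set G)) = V := by
    apply hVmin
    · refine ⟨Cfsg.Agent.Lib.Helper22_ThompsonTrans.le_normalizer_sup' hAZ hAV1, ?_,
        (sup_le hZV.le inf_le_left).trans hVOm⟩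
      refine lt_of_le_not_ge le_sup_left ?_
      intro hle
      exact hB'nle (le_sup_right.trans hle)
    · exact sup_le hZV.le inf_le_left
  obtain ⟨v, hvV1, hvZ⟩ := SetLike.not_le_iff_exists.mp hB'nle
  have hvOm : v ∈ Om := hVOm hvV1.1
  have hvS : v ∈ S := hOmS hvOm
  have hvs : v ^ s = 1 := hOme v hvOm
  have hv1 : v ≠ 1 := by
    rintro rfl
    exact hvZ (one_mem _)
  have hvo : orderOf v = s := orderOf_eq_prime hvs hv1
  obtain ⟨hYS, hYc, hYe, hYnc, hYr⟩ := good_pair hs2 hS hS3 hzS hzc hzo hvS hvs hvZ (hOmc v hvOm)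
  have hYV : zpowers z ⊔ zpowers v ≤ V := sup_le hZV.le (zpowers_le.mpr hvV1.1)
  by_cases hBZ : B' ≤ centralizer ((zpowers z : Subgroup G) : Set G)
  · -- `B'` centralizes `V`
    exfalso
    have hBV : B' ≤ centralizer (V : Set G) := by
      rw [le_centralizer_iff, ← hVeq]
      exact sup_le (le_centralizer_iff.mp hBZ) inf_le_right
    exact hbad _ hYS hYnc hYr (hBV.trans (centralizer_le hYV))
  · -- `⟨z⟩` meets the fixed points of `B'` trivially
    have hdisj : ∀ x ∈ zpowers z, x ∈ centralizer (B' : Set G) → x = 1 := by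
      intro x hx hxc
      by_contra hx1
      have h1 := Cfsg.Agent.Lib.Helper20_PGroupOdd.zpowers_eq_of_mem_of_ne_one hzo hx hx1
      apply hBZ
      rw [le_centralizer_iff, ← h1]
      exact zpowers_le.mpr hxc
    have hV1c : ∀ x ∈ V ⊓ centralizer (B' : Set G), ∀ y ∈ V ⊓ centralizer (B' : Set G),
        x * y = y * x := by
      intro x hx y hy
      have hc1 : x * y * x⁻¹ * y⁻¹ ∈ zpowers z := hOmc y (hVOm hy.1) x (hVS hx.1)
      have hc2 : x * y * x⁻¹ * y⁻¹ ∈ V ⊓ centralizer (B' : Set G) :=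
        mul_mem (mul_mem (mul_mem hx hy) (inv_mem hx)) (inv_mem hy)
      have hc3 := hdisj _ hc1 hc2.2
      have : x * y = (x * y * x⁻¹ * y⁻¹) * (y * x) := by group
      rw [this, hc3, one_mul]
    have hV1e : ∀ x ∈ V ⊓ centralizer (B' : Set G), x ^ s = 1 := fun x hx => hOme x (hVOm hx.1)
    by_cases hV1cyc : IsCyclic ↥(V ⊓ centralizer (B' : Set G) : Subgroup G)
    · -- `V = ⟨z⟩ × ⟨v⟩`
      have h1 : Nat.card ↥(V ⊓ centralizer (B' : Set G) : Subgroup G) ≤ s := by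
        apply Cfsg.Agent.Lib.Helper20_OmegaOne.card_le_of_isCyclic_of_exp hsP
        intro g
        apply Subtype.ext
        simpa using hV1e g.1 g.2
      have h2 : zpowers v = V ⊓ centralizer (B' : Set G) := by
        apply Subgroup.eq_of_le_of_card_ge (zpowers_le.mpr hvV1)
        rw [Nat.card_zpowers, hvo]
        exact h1
      have hVeq' : V = zpowers z ⊔ zpowers v := by rw [h2, hVeq]
      refine ⟨V, hVS, hAV, ?_, ?_, ?_, ?_⟩
      · rw [hVeq']; exact hYc
      · rw [hVeq']; exact hYe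
      · rw [hVeq']; exact hYnc
      · rw [hVeq']; exact hYr
    · -- `V` is elementary abelian of rank at least 3 and centralizes the noncyclic `C_V(B')`
      exfalso
      have hV1S : V ⊓ centralizer (B' : Set G) ≤ S := inf_le_left.trans hVS
      have hV1cent : V ⊓ centralizer (B' : Set G) ≤
          centralizer ((V ⊓ centralizer (B' : Set G) : Subgroup G) : Set G) := by
        intro x hx
        rw [mem_centralizer_iff]
        intro y hy
        exact hV1c y hy x hx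
      have hVcent : V ≤ centralizer ((V ⊓ centralizer (B' : Set G) : Subgroup G) : Set G) := by
        refine hVeq.symm.le.trans (sup_le ?_ hV1cent)
        exact hZC.trans (centralizer_le hV1S)
      have hVc : ∀ a ∈ V, ∀ b ∈ V, a * b = b * a := by
        have hVV : V ≤ centralizer (V : Set G) := by
          refine hVeq.symm.le.trans (sup_le (hZC.trans (centralizer_le hVS)) ?_)
          rw [le_centralizer_iff]
          exact hVcent
        intro a ha b hb
        exact mem_centralizer_iff.mp (hVV hb) a ha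
      have hVe : ∀ a ∈ V, a ^ s = 1 := fun a ha => hOme a (hVOm ha)
      have hV1lt : Nat.card ↥(V ⊓ centralizer (B' : Set G) : Subgroup G) < Nat.card V := by
        by_contra hge
        push Not at hge
        have h3 : V ⊓ centralizer (B' : Set G) = V := Subgroup.eq_of_le_of_card_ge inf_le_left hge
        have hz1 : z = 1 := hdisj z (mem_zpowers z) (by
          have : z ∈ V ⊓ centralizer (B' : Set G) := by
            rw [h3]
            exact hZV.le (mem_zpowers z)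
          exact this.2)
        rw [hz1, orderOf_one] at hzo
        exact hsP.one_lt.ne hzo
      obtain ⟨j, hj⟩ := IsPGroup.iff_card.mp (hS.to_le hV1S)
      obtain ⟨k, hk⟩ := IsPGroup.iff_card.mp (hS.to_le hVS)
      have hj2 : 2 ≤ j := by
        by_contra hlt
        push Not at hlt
        apply hV1cyc
        interval_cases j
        · rw [pow_zero] at hj
          have : Subsingleton ↥(V ⊓ centralizer (B' : Set G) : Subgroup G) :=
            (Nat.card_eq_one_iff_unique.mp hj).1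
          exact isCyclic_of_subsingleton
        · rw [pow_one] at hj
          exact isCyclic_of_prime_card hj
      have hjk : j < k := by
        rw [hj, hk] at hV1lt
        exact (Nat.pow_lt_pow_iff_right hsP.one_lt).mp hV1lt
      have hcardV : s ^ 2 < Nat.card V := by
        rw [hk]
        exact Nat.pow_lt_pow_right hsP.one_lt (by omega)
      refine hbad _ hV1S hV1cyc ?_ (le_centralizer_iff.mp inf_le_right)
      exact not_pRankLE_of_elemAb (E := V) (le_inf hVS hVcent) hVc hVe hcardV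

/-- **Part A of Lemma alpha for Bender-Glauberman 9.5.**  An abelian `p`-group `A` of rank at least 3 normalizing an
`s`-group `S` of rank at least 3 (`s` odd), none of whose noncyclic subgroups centralizes a noncyclic `Y ≤ S` with
`C_S(Y)` of rank at least 3, normalizes an elementary abelian noncyclic `V ≤ S` with `C_S(V)` of rank at least 3. -/
theorem exists_invariant_elemAb {p s : ℕ} [Fact p.Prime] [Fact s.Prime] (hs2 : s ≠ 2) (hps : p ≠ s)
    (A S : Subgroup G) (hAc : ∀ a ∈ A, ∀ b ∈ A, a * b = b * a) (_hAp : IsPGroup p A)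
    (hA3 : ¬ Cfsg.PRankLE p 2 ↥A) (hS : IsPGroup s S) (hS3 : ¬ Cfsg.PRankLE s 2 ↥S)
    (hAS : A ≤ normalizer (S : Set G))
    (hNU : ∀ Y : Subgroup G, Y ≤ S → ¬ IsCyclic ↥Y →
      ¬ Cfsg.PRankLE s 2 ↥(S ⊓ centralizer (Y : Set G)) →
      Cfsg.PRankLE p 1 ↥(A ⊓ centralizer (Y : Set G))) :
    ∃ V : Subgroup G, V ≤ S ∧ A ≤ normalizer (V : Set G) ∧ (∀ a ∈ V, ∀ b ∈ V, a * b = b * a) ∧
      (∀ a ∈ V, a ^ s = 1) ∧ ¬ IsCyclic ↥V ∧
      ¬ Cfsg.PRankLE s 2 ↥(S ⊓ centralizer (V : Set G)) := by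
  classical
  have hsP : s.Prime := Fact.out
  have hZS : omegaCenter s S ≤ S := omegaCenter_le s S
  have hZC : omegaCenter s S ≤ centralizer (S : Set G) := omegaCenter_le_centralizer s S
  have hAZ : A ≤ normalizer (omegaCenter s S : Set G) := le_normalizer_omegaCenter s hAS
  have hZc : ∀ a ∈ omegaCenter s S, ∀ b ∈ omegaCenter s S, a * b = b * a :=
    fun a ha b hb => mem_centralizer_iff.mp (hZC hb) a (hZS ha)
  have hZe : ∀ a ∈ omegaCenter s S, a ^ s = 1 := fun a ha => ha.2.2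
  by_cases hZcyc : IsCyclic ↥(omegaCenter s S)
  swap
  · refine ⟨omegaCenter s S, hZS, hAZ, hZc, hZe, hZcyc, ?_⟩
    have h1 : S ⊓ centralizer (omegaCenter s S : Set G) = S := by
      apply le_antisymm inf_le_left
      apply le_inf le_rfl
      rw [le_centralizer_iff]
      exact hZC
    rw [h1]
    exact hS3
  -- `S` is not cyclic
  obtain ⟨E₀, hE₀S, hE₀c, hE₀e, hE₀card⟩ := exists_elemAb_of_not_pRankLE hS3
  have hSnc : ¬ IsCyclic ↥(⊤ : Subgroup ↥S) := by
    intro hc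
    have hSc : IsCyclic ↥S :=
      isCyclic_of_surjective (Subgroup.topEquiv : ↥(⊤ : Subgroup ↥S) ≃* ↥S) Subgroup.topEquiv.surjective
    have hEc : IsCyclic ↥(E₀.subgroupOf S) := inferInstance
    have h1 : Nat.card ↥(E₀.subgroupOf S) ≤ s := by
      apply Cfsg.Agent.Lib.Helper20_OmegaOne.card_le_of_isCyclic_of_exp hsP
      intro g
      apply Subtype.ext
      apply Subtype.ext
      have := hE₀e _ (mem_subgroupOf.mp g.2)
      simpa using this
    rw [Cfsg.Agent.Lib.Helper24_CoprimeAction.card_subgroupOf_of_le hE₀S] at h1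
    have : s ≤ s ^ 2 := by nlinarith [hsP.one_lt]
    omega
  obtain ⟨zR, hR, hgood⟩ := Cfsg.Agent.Lib.Helper20_PGroupOdd.exists_good hs2 hS (⊤ : Subgroup ↥S) hSnc
  have hzS : (zR : G) ∈ S := zR.2
  have hzc : (zR : G) ∈ centralizer (S : Set G) := by
    rw [mem_centralizer_iff]
    intro g hg
    have := mem_center_iff.mp hgood.2.2.1 ⟨g, hg⟩
    exact congrArg Subtype.val this
  have hzo : orderOf (zR : G) = s := by
    rw [Subgroup.orderOf_coe]
    exact hgood.2.2.2.1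
  have hzs : (zR : G) ^ s = 1 := by
    rw [← hzo]
    exact pow_orderOf_eq_one _
  have hzZ : (zR : G) ∈ omegaCenter s S := ⟨hzS, hzc, hzs⟩
  have hZeq : omegaCenter s S = zpowers (zR : G) := by
    symm
    apply Subgroup.eq_of_le_of_card_ge (zpowers_le.mpr hzZ)
    rw [Nat.card_zpowers, hzo]
    apply Cfsg.Agent.Lib.Helper20_OmegaOne.card_le_of_isCyclic_of_exp hsP
    intro g
    apply Subtype.ext
    simpa using hZe g.1 g.2
  have hhOm : (hR : G) ∈ omegaTwo hsP hs2 S := by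
    refine ⟨hR.2, ?_, ?_⟩
    · have := hgood.2.2.2.2.1
      have h2 := congrArg (fun w : ↥S => (w : G)) this
      simpa using h2
    · intro g hg
      have := hgood.2.2.2.2.2.2 ⟨g, hg⟩
      obtain ⟨k, hk⟩ := mem_zpowers_iff.mp this
      rw [hZeq, mem_zpowers_iff]
      refine ⟨k, ?_⟩
      have h2 := congrArg (fun w : ↥S => (w : G)) hk
      simpa using h2
  have hhZ : (hR : G) ∉ zpowers (zR : G) := by
    intro hmem
    apply hgood.2.2.2.2.2.1
    obtain ⟨k, hk⟩ := mem_zpowers_iff.mp hmem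
    rw [mem_zpowers_iff]
    refine ⟨k, ?_⟩
    apply Subtype.ext
    simpa using hk
  refine core_cyclic hs2 hps A S hAc hA3 hS hS3 hNU hzS hzc hzo (by rw [← hZeq]; exact hAZ)
    (omegaTwo hsP hs2 S) (omegaTwo_le hsP hs2 S) (fun x hx => hx.2.1) ?_ ?_
    (le_normalizer_omegaTwo hsP hs2 hAS) ?_
  · intro x hx g hg
    rw [← hZeq]
    exact hx.2.2 g hg
  · rw [← hZeq]
    exact omegaCenter_le_omegaTwo hsP hs2 S
  · intro hle
    exact hhZ (hle hhOm)

end Cfsg.Agent.Lib.Helper54_BGElemAb
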