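import Mathlib
import Cfsg.Prelude.Def_CaseTheorems
import Cfsg.Agent.Lib.Helper20_OmegaOne
import Cfsg.Agent.Lib.Helper22_Hyperplane

/-!
# Two lines in an invariant elementary abelian subgroup, for Bender-Glauberman 9.5 (helper54)

`exists_two_lines`: let `B ≤ A` be elementary abelian of order `p ^ 3`, `A` abelian normalizing a noncyclic group
`V` of exponent `s ≠ p`, such that no subgroup of `B` of order at least `p ^ 2` centralizes a noncyclic subgroup
of `V`.  Then `V` contains two `A`-invariant subgroups `E₁`, `E₂` of order `s`, neither centralized by `B`,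
generating a noncyclic subgroup.
-/

set_option autoImplicit false

namespace Cfsg.Agent.Lib.Helper54_BGLines

open Subgroup

universe u

variable {G : Type u} [Group G] [Finite G]

theorem exists_two_lines {p s : ℕ} [Fact p.Prime] [Fact s.Prime] (hps : p ≠ s)
    (A B V : Subgroup G) (hAc : ∀ a ∈ A, ∀ b ∈ A, a * b = b * a) (hBA : B ≤ A)
    (hBe : ∀ b ∈ B, b ^ p = 1) (hB3 : Nat.card B = p ^ 3)
    (hVe : ∀ v ∈ V, v ^ s = 1) (hVnc : ¬ IsCyclic ↥V) (hAV : A ≤ normalizer (V : Set G))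
    (hbad : ∀ Y : Subgroup G, Y ≤ V → ¬ IsCyclic ↥Y → ∀ B' : Subgroup G, B' ≤ B →
      p ^ 2 ≤ Nat.card B' → ¬ B' ≤ centralizer (Y : Set G)) :
    ∃ E₁ E₂ : Subgroup G, E₁ ≤ V ∧ E₂ ≤ V ∧ Nat.card E₁ = s ∧ Nat.card E₂ = s ∧
      A ≤ normalizer (E₁ : Set G) ∧ A ≤ normalizer (E₂ : Set G) ∧
      ¬ B ≤ centralizer (E₁ : Set G) ∧ ¬ B ≤ centralizer (E₂ : Set G) ∧
      ¬ IsCyclic ↥(E₁ ⊔ E₂ : Subgroup G) := by
  classical
  have hpP : p.Prime := Fact.out
  have hsP : s.Prime := Fact.out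
  have hBc : ∀ a ∈ B, ∀ b ∈ B, a * b = b * a := fun a ha b hb => hAc a (hBA ha) b (hBA hb)
  have hVs : IsPGroup s V := fun g => ⟨1, by
    apply Subtype.ext
    rw [pow_one, Subgroup.coe_pow]
    exact hVe g.1 g.2⟩
  have hVp : ¬ p ∣ Nat.card V := by
    obtain ⟨k, hk⟩ := IsPGroup.iff_card.mp hVs
    rw [hk]
    intro hd
    exact hps ((Nat.prime_dvd_prime_iff_eq hpP hsP).mp (hpP.dvd_of_dvd_pow hd))
  have hgen := Cfsg.Agent.Lib.Helper22_Hyperplane.le_iSup_centralizer_hyperplanes p B V hBc hBe hVp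
    (hBA.trans hAV)
  -- hyperplanes have order at least `p ^ 2`
  have hcard : ∀ B' : Subgroup G, B' ≤ B → B'.relIndex B ≤ p → p ^ 2 ≤ Nat.card B' := by
    intro B' hB'B hidx
    have h1 := Cfsg.Agent.Lib.Helper22_Hyperplane.card_mul_relIndex hB'B
    rw [hB3] at h1
    by_contra hlt
    push Not at hlt
    have h2 : Nat.card B' * B'.relIndex B < p ^ 2 * p := by
      calc Nat.card B' * B'.relIndex B ≤ Nat.card B' * p := Nat.mul_le_mul_left _ hidx
        _ < p ^ 2 * p := Nat.mul_lt_mul_of_pos_right hlt hpP.pos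
    rw [h1] at h2
    have : p ^ 2 * p = p ^ 3 := by ring
    omega
  -- the fixed points of a hyperplane form a subgroup of order `1` or `s`
  have hfix : ∀ B' : Subgroup G, B' ≤ B → B'.relIndex B ≤ p →
      V ⊓ centralizer (B' : Set G) ≠ ⊥ → Nat.card ↥(V ⊓ centralizer (B' : Set G) : Subgroup G) = s := by
    intro B' hB'B hidx hne
    have hcyc : IsCyclic ↥(V ⊓ centralizer (B' : Set G) : Subgroup G) := by
      by_contra hnc
      exact hbad _ inf_le_left hnc B' hB'B (hcard B' hB'B hidx) (le_centralizer_iff.mp inf_le_right)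
    have h1 : Nat.card ↥(V ⊓ centralizer (B' : Set G) : Subgroup G) ≤ s := by
      apply Cfsg.Agent.Lib.Helper20_OmegaOne.card_le_of_isCyclic_of_exp hsP
      intro g
      apply Subtype.ext
      rw [Subgroup.coe_pow]
      exact hVe g.1 g.2.1
    obtain ⟨j, hj⟩ := IsPGroup.iff_card.mp (hVs.to_le (inf_le_left : V ⊓ centralizer (B' : Set G) ≤ V))
    have hj0 : j ≠ 0 := by
      rintro rfl
      rw [pow_zero] at hj
      exact hne (Subgroup.card_eq_one.mp hj)
    have hj1 : j ≤ 1 := by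
      by_contra hlt
      push Not at hlt
      have : s ^ 2 ≤ s ^ j := Nat.pow_le_pow_right hsP.pos hlt
      have h2 : s < s ^ 2 := by nlinarith [hsP.one_lt]
      omega
    have : j = 1 := by omega
    rw [hj, this, pow_one]
  have hnorm : ∀ B' : Subgroup G, B' ≤ B →
      A ≤ normalizer ((V ⊓ centralizer (B' : Set G) : Subgroup G) : Set G) := by
    intro B' hB'B a ha
    exact Cfsg.Agent.Lib.Helper22_Hyperplane.mem_normalizer_inf_centralizer (hAV ha)
      (fun d hd => hAc a ha d (hBA (hB'B hd)))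
  have hVne : V ≠ ⊥ := by
    rintro rfl
    exact hVnc inferInstance
  -- the first line
  obtain ⟨⟨B₁, hB₁B, hB₁idx⟩, hE₁ne⟩ : ∃ B' : {B' : Subgroup G // B' ≤ B ∧ B'.relIndex B ≤ p},
      V ⊓ centralizer ((B' : Subgroup G) : Set G) ≠ ⊥ := by
    by_contra hcon
    push Not at hcon
    apply hVne
    rw [eq_bot_iff]
    refine hgen.trans (iSup_le ?_)
    intro B'
    rw [hcon B']
  have hE₁card := hfix B₁ hB₁B hB₁idx hE₁ne
  -- the second line
  have hVE₁ : ¬ V ≤ V ⊓ centralizer (B₁ : Set G) := by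
    intro hle
    apply hVnc
    have heq : V ⊓ centralizer (B₁ : Set G) = V := le_antisymm inf_le_left hle
    have hcyc : IsCyclic ↥(V ⊓ centralizer (B₁ : Set G) : Subgroup G) :=
      isCyclic_of_prime_card hE₁card
    rwa [heq] at hcyc
  obtain ⟨⟨B₂, hB₂B, hB₂idx⟩, hE₂nle⟩ : ∃ B' : {B' : Subgroup G // B' ≤ B ∧ B'.relIndex B ≤ p},
      ¬ V ⊓ centralizer ((B' : Subgroup G) : Set G) ≤ V ⊓ centralizer (B₁ : Set G) := by
    by_contra hcon
    push Not at hcon
    exact hVE₁ (hgen.trans (iSup_le hcon))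
  have hE₂ne : V ⊓ centralizer (B₂ : Set G) ≠ ⊥ := by
    intro h
    apply hE₂nle
    rw [h]
    exact bot_le
  have hE₂card := hfix B₂ hB₂B hB₂idx hE₂ne
  -- the join is not cyclic
  have hjoin : ¬ IsCyclic ↥((V ⊓ centralizer (B₁ : Set G)) ⊔ (V ⊓ centralizer (B₂ : Set G)) : Subgroup G) := by
    intro hc
    have h1 : Nat.card ↥((V ⊓ centralizer (B₁ : Set G)) ⊔ (V ⊓ centralizer (B₂ : Set G)) : Subgroup G) ≤ s := by
      apply Cfsg.Agent.Lib.Helper20_OmegaOne.card_le_of_isCyclic_of_exp hsP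
      intro g
      apply Subtype.ext
      rw [Subgroup.coe_pow]
      exact hVe g.1 ((sup_le inf_le_left inf_le_left :
        (V ⊓ centralizer (B₁ : Set G)) ⊔ (V ⊓ centralizer (B₂ : Set G)) ≤ V) g.2)
    have h2 : V ⊓ centralizer (B₁ : Set G) =
        (V ⊓ centralizer (B₁ : Set G)) ⊔ (V ⊓ centralizer (B₂ : Set G)) :=
      Subgroup.eq_of_le_of_card_ge le_sup_left (by rw [hE₁card]; exact h1)
    apply hE₂nle
    rw [h2]
    exact le_sup_right
  have hjoinV : (V ⊓ centralizer (B₁ : Set G)) ⊔ (V ⊓ centralizer (B₂ : Set G)) ≤ V :=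
    sup_le inf_le_left inf_le_left
  refine ⟨V ⊓ centralizer (B₁ : Set G), V ⊓ centralizer (B₂ : Set G), inf_le_left, inf_le_left,
    hE₁card, hE₂card, hnorm B₁ hB₁B, hnorm B₂ hB₂B, ?_, ?_, hjoin⟩
  · intro hB
    refine hbad _ hjoinV hjoin B₂ hB₂B (hcard B₂ hB₂B hB₂idx) ?_
    rw [le_centralizer_iff]
    exact sup_le (le_centralizer_iff.mp (hB₂B.trans hB)) inf_le_right
  · intro hB
    refine hbad _ hjoinV hjoin B₁ hB₁B (hcard B₁ hB₁B hB₁idx) ?_
    rw [le_centralizer_iff]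
    exact sup_le inf_le_right (le_centralizer_iff.mp (hB₁B.trans hB))

end Cfsg.Agent.Lib.Helper54_BGLines
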