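import Cfsg.Agent.Lib.Helper22_U1402c
import Cfsg.Agent.Lib.Helper54_BGElemAb
import Cfsg.Agent.Lib.Helper54_BGLines
import Cfsg.Agent.S1399
import Cfsg.Agent.S1400

set_option autoImplicit false
open Cfsg

/-! Bender--Glauberman Lemma 9.5: Lemma alpha (two lines for a maximal subgroup `H ≥ A` with `r_s(F(H)) ≥ 3`),
assembled from helper54's `exists_invariant_elemAb` and `exists_two_lines`. -/

namespace Cfsg.Agent.Lib.Helper22_U1402

open Subgroup Cfsg.Agent.Lib.Helper22_Uniq Cfsg.Agent.Lib.Helper22_BGTrans Cfsg.Agent.Lib.Helper22_BGTransRank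

variable {G : Type*} [Group G] [Finite G]

/-- an overgroup `A ≠ ⊤` of a uniqueness subgroup is a uniqueness subgroup -/
theorem inUniqueMaximal_of_le {K A : Subgroup G} (hK : Cfsg.InUniqueMaximal K) (hKA : K ≤ A) (hA : A ≠ ⊤) :
    Cfsg.InUniqueMaximal A := by
  obtain ⟨M, ⟨hM, hKM⟩, hMu⟩ := hK
  obtain ⟨M₀, hM₀, hAM₀⟩ := exists_isCoatom_ge hA
  have h0 : M₀ = M := hMu M₀ ⟨hM₀, hKA.trans hAM₀⟩
  refine ⟨M, ⟨hM, h0 ▸ hAM₀⟩, ?_⟩
  rintro M' ⟨hM', hAM'⟩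
  exact hMu M' ⟨hM', hKA.trans hAM'⟩

/-- **Lemma alpha.** -/
theorem lemma_alpha (hG : Cfsg.IsMinSimpleOddOrder G) (p : ℕ) [Fact p.Prime]
    (A : Subgroup G) (hAp : IsPGroup p ↥A) (hAc : IsMulCommutative ↥A)
    (B : Subgroup G) (hBA : B ≤ A) (hBe : Cfsg.IsElementaryAbelian p B) (hB3 : Nat.card ↥B = p ^ 3)
    (hAU : ¬ Cfsg.InUniqueMaximal A)
    (H : Subgroup G) (hH : IsCoatom H) (hAH : A ≤ H) (s : ℕ) [Fact s.Prime] (hsp : s ≠ p)
    (hF : ¬ Cfsg.PRankLE s 2 ↥(Cfsg.fittingOf H)) :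
    ∃ E₁ E₂ : Subgroup G, IsLine A B H s E₁ ∧ IsLine A B H s E₂ ∧
      ∀ M : Subgroup G, IsCoatom M → E₁ ≤ M → E₂ ≤ M → M = H := by
  have hpp : p.Prime := Fact.out
  have hss : s.Prime := Fact.out
  have hAtop : A ≠ ⊤ := ne_top_of_isPGroup hG hpp hAp
  have hAcomm : ∀ a ∈ A, ∀ b ∈ A, a * b = b * a := by
    intro a ha b hb
    exact congrArg Subtype.val (isMulCommutative_iff.mp hAc ⟨a, ha⟩ ⟨b, hb⟩)
  set S : Subgroup G := pCoreOf s H with hSdef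
  have hSs : IsPGroup s ↥S := Cfsg.Agent.Lib.Helper22_Bender.isPGroup_pCoreOf s H
  have hSH : S ≤ H := Subgroup.map_subtype_le _
  have hAS : A ≤ normalizer (S : Set G) :=
    (hAH.trans le_normalizer).trans (Cfsg.Agent.Lib.Helper49_MaxSub.normalizer_le_normalizer_pCoreOf s H)
  have hS1 : S ≠ ⊥ := pCoreOf_ne_bot_of_not_pRankLE s hF
  have hsG : s ∣ Nat.card G := dvd_card_of_ne_bot hSs hS1
  have hs2 : s ≠ 2 := two_ne_of_dvd_card hG hsG
  -- `S` has rank at least three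
  have hS3 : ¬ Cfsg.PRankLE s 2 ↥S := by
    obtain ⟨E, hEF, hEc, hEe, hE3⟩ := exists_elemAb_of_not_pRankLE hF
    have hEea : Cfsg.IsElementaryAbelian s E :=
      ⟨⟨⟨fun a b => Subtype.ext (hEc a.1 a.2 b.1 b.2)⟩⟩, hEe⟩
    have hEp : IsPGroup s ↥E := isPGroup_of_isElementaryAbelian hEea
    exact not_pRankLE_of_elemAb (le_pCoreOf_of_le_fittingOf H s hEF hEp) hEc hEe hE3
  -- subgroups of `S` containing a rank three elementary abelian subgroup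
  have hrank3 : ∀ X : Subgroup G, X ≠ ⊤ → ¬ Cfsg.PRankLE s 2 ↥(S ⊓ X : Subgroup G) → X ≤ H := by
    intro X hX h3
    obtain ⟨T, hTX, hTc, hTe, hT3⟩ := exists_elemAb_of_not_pRankLE h3
    have hTea : Cfsg.IsElementaryAbelian s T :=
      ⟨⟨⟨fun a b => Subtype.ext (hTc a.1 a.2 b.1 b.2)⟩⟩, hTe⟩
    have hTp : IsPGroup s ↥T := isPGroup_of_isElementaryAbelian hTea
    have hT3' : ¬ Cfsg.PRankLE s 2 ↥T := not_pRankLE_of_elemAb le_rfl hTc hTe hT3
    obtain ⟨M', _, hM'⟩ := Cfsg.Agent.S1401.result hG H hH s hF T hTp hTea.1 hT3'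
    obtain ⟨M, hM, hXM⟩ := exists_isCoatom_ge hX
    have h1 := hM' M ⟨hM, (hTX.trans inf_le_right).trans hXM⟩
    have h2 := hM' H ⟨hH, (hTX.trans inf_le_left).trans hSH⟩
    rw [h1, ← h2] at hXM
    exact hXM
  -- a rank three abelian subgroup in `𝓤`
  obtain ⟨T, hTS, hTc, hTe, hT3⟩ := exists_elemAb_of_not_pRankLE hS3
  have hTea : Cfsg.IsElementaryAbelian s T :=
    ⟨⟨⟨fun a b => Subtype.ext (hTc a.1 a.2 b.1 b.2)⟩⟩, hTe⟩
  have hTp : IsPGroup s ↥T := isPGroup_of_isElementaryAbelian hTea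
  have hT3' : ¬ Cfsg.PRankLE s 2 ↥T := not_pRankLE_of_elemAb le_rfl hTc hTe hT3
  have hTU : Cfsg.InUniqueMaximal T := Cfsg.Agent.S1401.result hG H hH s hF T hTp hTea.1 hT3'
  -- (★) noncyclic subgroups of `S` with centralizer of rank three are uniqueness subgroups
  have star : ∀ Y : Subgroup G, Y ≤ S → ¬ IsCyclic ↥Y →
      ¬ Cfsg.PRankLE s 2 ↥(S ⊓ centralizer (Y : Set G) : Subgroup G) → Cfsg.InUniqueMaximal Y := by
    intro Y hYS hYnc h3
    have hYs : IsPGroup s ↥Y := hSs.to_le hYS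
    obtain ⟨E, hE, hEc, hEe, hE3⟩ := exists_elemAb_of_not_pRankLE h3
    have hC3 : ¬ Cfsg.PRankLE s 2 ↥(centralizer (Y : Set G)) :=
      not_pRankLE_of_elemAb (hE.trans inf_le_right) hEc hEe hE3
    exact Cfsg.Agent.S1400.result hG s T Y hTp hTea.1 hT3' hTU hYs hYnc hC3
  -- (★★) no subgroup of rank two of `A` centralizes a uniqueness subgroup
  have star2 : ∀ Y : Subgroup G, Cfsg.InUniqueMaximal Y → ∀ K : Subgroup G, K ≤ A →
      K ≤ centralizer (Y : Set G) → ¬ Cfsg.RankLE 1 ↥K → False := by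
    intro Y hYU K hKA hKY hKr
    exact hAU (inUniqueMaximal_of_le (Cfsg.Agent.S1399.result hG Y K hYU hKY hKr) hKA hAtop)
  -- the invariant elementary abelian subgroup
  have hNU : ∀ Y : Subgroup G, Y ≤ S → ¬ IsCyclic ↥Y →
      ¬ Cfsg.PRankLE s 2 ↥(S ⊓ centralizer (Y : Set G) : Subgroup G) →
      Cfsg.PRankLE p 1 ↥(A ⊓ centralizer (Y : Set G) : Subgroup G) := by
    intro Y hYS hYnc h3
    by_contra hr
    obtain ⟨E, hE, hEc, hEe, hE1⟩ := exists_elemAb_of_not_pRankLE hr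
    exact star2 Y (star Y hYS hYnc h3) E (hE.trans inf_le_left) (hE.trans inf_le_right)
      (not_rankLE_of_elemAb hpp le_rfl hEc hEe hE1)
  have hA3 : ¬ Cfsg.PRankLE p 2 ↥A := by
    apply not_pRankLE_of_elemAb hBA
    · intro a ha b hb
      exact hAcomm a (hBA ha) b (hBA hb)
    · exact hBe.2
    · rw [hB3]
      exact Nat.pow_lt_pow_right hpp.one_lt (by norm_num)
  obtain ⟨V, hVS, hAV, hVc, hVe, hVnc, hV3⟩ :=
    Cfsg.Agent.Lib.Helper54_BGElemAb.exists_invariant_elemAb hs2 hsp.symm A S hAcomm hAp hA3 hSs hS3 hAS hNU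
  -- noncyclic subgroups of `V`
  have hVsub : ∀ Y : Subgroup G, Y ≤ V → ¬ IsCyclic ↥Y → Cfsg.InUniqueMaximal Y := by
    intro Y hYV hYnc
    apply star Y (hYV.trans hVS) hYnc
    intro h
    apply hV3
    intro E hEc hEe
    -- transport along the inclusion `S ⊓ C(V) ≤ S ⊓ C(Y)`
    have hle : S ⊓ centralizer (V : Set G) ≤ S ⊓ centralizer (Y : Set G) :=
      inf_le_inf le_rfl (Subgroup.centralizer_le (by exact_mod_cast hYV))
    have h1 : ¬ Cfsg.PRankLE s 2 ↥(S ⊓ centralizer (V : Set G) : Subgroup G) → False := by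
      intro h2
      obtain ⟨E', hE', hE'c, hE'e, hE'3⟩ := exists_elemAb_of_not_pRankLE h2
      exact not_pRankLE_of_elemAb (hE'.trans hle) hE'c hE'e hE'3 h
    by_contra hcon
    exact h1 (fun h2 => hcon (h2 E hEc hEe))
  have hbad : ∀ Y : Subgroup G, Y ≤ V → ¬ IsCyclic ↥Y → ∀ B' : Subgroup G, B' ≤ B →
      p ^ 2 ≤ Nat.card ↥B' → ¬ B' ≤ centralizer (Y : Set G) := by
    intro Y hYV hYnc B' hB'B hB'2 hB'Y
    refine star2 Y (hVsub Y hYV hYnc) B' (hB'B.trans hBA) hB'Y ?_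
    apply not_rankLE_of_elemAb hpp (le_refl B')
    · intro a ha b hb
      exact hAcomm a (hBA (hB'B ha)) b (hBA (hB'B hb))
    · intro a ha
      exact hBe.2 a (hB'B ha)
    · calc p ^ 1 < p ^ 2 := Nat.pow_lt_pow_right hpp.one_lt (by norm_num)
        _ ≤ Nat.card ↥B' := hB'2
  obtain ⟨E₁, E₂, hE₁V, hE₂V, hE₁c, hE₂c, hAE₁, hAE₂, hBE₁, hBE₂, hEnc⟩ :=
    Cfsg.Agent.Lib.Helper54_BGLines.exists_two_lines hsp.symm A B V hAcomm hBA hBe.2 hB3 hVe hVnc hAV hbad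
  -- the centralizers of the lines
  have hcent : ∀ E : Subgroup G, E ≤ V → Nat.card ↥E = s → centralizer (E : Set G) ≤ H := by
    intro E hEV hEc
    have hE1 : E ≠ ⊥ := by
      rintro rfl
      rw [Subgroup.card_bot] at hEc
      exact hss.one_lt.ne hEc
    apply hrank3 _ (Cfsg.Agent.Lib.Helper22_BGTransUp.centralizer_ne_top hG hE1)
    intro h
    apply hV3
    have hle : S ⊓ centralizer (V : Set G) ≤ S ⊓ centralizer (E : Set G) :=
      inf_le_inf le_rfl (Subgroup.centralizer_le (by exact_mod_cast hEV))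
    by_contra hcon
    obtain ⟨E', hE', hE'c, hE'e, hE'3⟩ := exists_elemAb_of_not_pRankLE hcon
    exact not_pRankLE_of_elemAb (hE'.trans hle) hE'c hE'e hE'3 h
  refine ⟨E₁, E₂, ⟨hE₁V.trans hVS, hE₁c, hAE₁, hBE₁, hcent E₁ hE₁V hE₁c⟩,
    ⟨hE₂V.trans hVS, hE₂c, hAE₂, hBE₂, hcent E₂ hE₂V hE₂c⟩, ?_⟩
  intro M hM h1 h2
  obtain ⟨M', _, hM'⟩ := hVsub (E₁ ⊔ E₂) (sup_le hE₁V hE₂V) hEnc
  have e1 := hM' M ⟨hM, sup_le h1 h2⟩
  have e2 := hM' H ⟨hH, sup_le ((hE₁V.trans hVS).trans hSH) ((hE₂V.trans hVS).trans hSH)⟩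
  rw [e1, e2]

end Cfsg.Agent.Lib.Helper22_U1402
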