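import Cfsg.Agent.Lib.Helper22_Uniq6
import Cfsg.Agent.Lib.Helper24_NarrowFitting
import Cfsg.Agent.Lib.Helper32_PGroup
import Mathlib.GroupTheory.Transfer

/-!
# Pieces for Bender–Glauberman Lemma 9.5 (S1402)

* `exists_focal_central` : step (0): a central element of order `p` of the Sylow `p`-subgroup `P` lying in
  `P ∩ N_G(P)'`.
* `alpha_alpha` : a `p`-element of `(H₁ ∩ H₃)'` centralizes `O_s(H₁) ∩ H₃` when the `s`-subgroups of rank `3`
  of `O_s(H₁)` are uniqueness subgroups and `H₁ ≠ H₃`.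
-/

set_option autoImplicit false

open Cfsg

namespace Cfsg.Agent.Lib.Helper23_BG95

open Subgroup Cfsg.Agent.Lib.Helper22_BGTrans Cfsg.Agent.Lib.Helper22_Uniq Cfsg.Agent.Lib.Helper22_Radical
  Cfsg.Agent.Lib.Helper22_BGTransUp

open scoped commutatorElement

variable {G : Type*} [Group G] [Finite G] {p : ℕ} [Fact p.Prime]

/-- A nontrivial subgroup `D` of a `p`-group `P`, normalized by `P`, contains a central element of `P` of
order `p`. -/
theorem exists_central_of_normal_sub {P D : Subgroup G} (hP : IsPGroup p P) (hDP : D ≤ P)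
    (hPD : P ≤ normalizer (D : Set G)) (hD : D ≠ ⊥) :
    ∃ z ∈ D, z ∈ centralizer (P : Set G) ∧ z ≠ 1 ∧ z ^ p = 1 := by
  have hpp : p.Prime := Fact.out
  have hn : (D.subgroupOf P).Normal := by
    constructor
    intro n hn g
    rw [mem_subgroupOf] at hn ⊢
    have := (mem_normalizer_iff.mp (hPD g.2) (n : G)).mp hn
    simpa using this
  have hne : D.subgroupOf P ≠ ⊥ := by
    intro h
    apply hD
    rw [eq_bot_iff]
    intro x hx
    have : (⟨x, hDP hx⟩ : P) ∈ D.subgroupOf P := by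
      rw [mem_subgroupOf]; exact hx
    rw [h, mem_bot] at this
    rw [mem_bot]
    exact congrArg Subtype.val this
  obtain ⟨z, hzN, hzc, hz1⟩ :=
    Cfsg.Agent.Lib.Helper32_PGroup.exists_mem_center_of_normal hP (D.subgroupOf P) hne
  obtain ⟨k, hk⟩ := hP z
  -- the order of z is p ^ j with j ≥ 1
  obtain ⟨j, hj⟩ := (Nat.dvd_prime_pow hpp).mp (orderOf_dvd_of_pow_eq_one hk) |>.imp fun j h => h.2
  have hj0 : j ≠ 0 := by
    intro h0
    rw [h0, pow_zero, orderOf_eq_one_iff] at hj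
    exact hz1 hj
  obtain ⟨i, rfl⟩ := Nat.exists_eq_succ_of_ne_zero hj0
  refine ⟨((z ^ p ^ i : P) : G), ?_, ?_, ?_, ?_⟩
  · have := (D.subgroupOf P).pow_mem hzN (p ^ i)
    rwa [mem_subgroupOf] at this
  · rw [mem_centralizer_iff]
    intro x hx
    have h1 := mem_center_iff.mp ((center P).pow_mem hzc (p ^ i)) ⟨x, hx⟩
    exact congrArg Subtype.val h1
  · intro h
    have h1 : (z ^ p ^ i : P) = 1 := Subtype.ext h
    have h2 := orderOf_dvd_of_pow_eq_one h1
    rw [hj] at h2
    have := (Nat.pow_dvd_pow_iff_le_right hpp.one_lt).mp h2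
    omega
  · have h1 : (z ^ p ^ i) ^ p = 1 := by
      rw [← pow_mul, ← pow_succ, ← hj]
      exact pow_orderOf_eq_one z
    have := congrArg Subtype.val h1
    simpa using this

omit [Finite G] in
/-- the normalizer of `H` normalizes `[H, H]` -/
theorem normalizer_le_normalizer_commutator (H : Subgroup G) :
    normalizer (H : Set G) ≤ normalizer ((⁅H, H⁆ : Subgroup G) : Set G) := by
  intro g hg
  apply mem_normalizer_of_cj_eq
  have h1 : cj g H = H := cj_eq_of_mem_normalizer hg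
  calc cj g ⁅H, H⁆ = ⁅cj g H, cj g H⁆ := Subgroup.map_commutator _ _ _
    _ = ⁅H, H⁆ := by rw [h1]

/-- **Step (0)**: `P ∩ N_G(P)' ≠ 1` for a nontrivial Sylow subgroup of a minimal simple group of odd order
(Burnside's normal `p`-complement theorem). -/
theorem focal_ne_bot (hG : IsMinSimpleOddOrder G) (P : Sylow p G) (hP1 : (P : Subgroup G) ≠ ⊥) :
    (P : Subgroup G) ⊓ ⁅normalizer ((P : Subgroup G) : Set G), normalizer ((P : Subgroup G) : Set G)⁆ ≠ ⊥ := by
  intro hD
  have hNC : normalizer ((P : Subgroup G) : Set G) ≤ centralizer ((P : Subgroup G) : Set G) := by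
    intro g hg
    rw [mem_centralizer_iff]
    intro x hx
    have h1 : ⁅g, x⁆ ∈ ⁅normalizer ((P : Subgroup G) : Set G), normalizer ((P : Subgroup G) : Set G)⁆ :=
      commutator_mem_commutator hg (le_normalizer hx)
    have h2 : ⁅g, x⁆ ∈ (P : Subgroup G) := by
      rw [commutatorElement_def]
      exact (P : Subgroup G).mul_mem ((mem_normalizer_iff.mp hg x).mp hx) ((P : Subgroup G).inv_mem hx)
    have h3 : ⁅g, x⁆ ∈ (P : Subgroup G) ⊓
        ⁅normalizer ((P : Subgroup G) : Set G), normalizer ((P : Subgroup G) : Set G)⁆ := ⟨h2, h1⟩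
    rw [hD, mem_bot, commutatorElement_eq_one_iff_mul_comm] at h3
    exact h3.symm
  have hc := MonoidHom.ker_transferSylow_isComplement' P hNC
  have hsimple : IsSimpleGroup G := hG.2.1
  rcases (MonoidHom.transferSylow P hNC).normal_ker.eq_bot_or_eq_top with h | h
  · rw [h, isComplement'_bot_left] at hc
    apply not_isPGroup hG p
    have : IsPGroup p (⊤ : Subgroup G) := hc ▸ P.isPGroup'
    exact fun g => by
      obtain ⟨k, hk⟩ := this ⟨g, mem_top g⟩
      exact ⟨k, by simpa using congrArg Subtype.val hk⟩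
  · rw [h, isComplement'_top_left] at hc
    exact hP1 hc

/-- **Step (0)** of the proof of Bender–Glauberman 9.5: a central element of order `p` of `P` inside
`P ∩ N_G(P)'`. -/
theorem exists_focal_central (hG : IsMinSimpleOddOrder G) (P : Sylow p G) (hP1 : (P : Subgroup G) ≠ ⊥) :
    ∃ z : G, z ∈ (P : Subgroup G) ∧
      z ∈ ⁅normalizer ((P : Subgroup G) : Set G), normalizer ((P : Subgroup G) : Set G)⁆ ∧
      z ∈ centralizer ((P : Subgroup G) : Set G) ∧ z ≠ 1 ∧ z ^ p = 1 := by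
  have hD := focal_ne_bot hG P hP1
  have hnorm : (P : Subgroup G) ≤ normalizer (((P : Subgroup G) ⊓
      ⁅normalizer ((P : Subgroup G) : Set G), normalizer ((P : Subgroup G) : Set G)⁆ : Subgroup G) : Set G) :=
    le_normalizer_inf' le_normalizer
      (le_normalizer.trans ((normalizer_le_normalizer_commutator _).trans' le_normalizer))
  obtain ⟨z, hz, hzc, hz1, hzp⟩ := exists_central_of_normal_sub P.isPGroup' inf_le_left hnorm hD
  exact ⟨z, hz.1, hz.2, hzc, hz1, hzp⟩

/-- **(R)** An element `z` of the derived group of an odd order group `Y`, of order prime to `s`, centralizes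
every `s`-subgroup `X` of rank at most two normalized by `Y` (`s` odd).  No faithfulness and no `X ≤ Y`
assumption. -/
theorem centralizes_of_mem_commutator {s : ℕ} [Fact s.Prime] (hs : s ≠ 2) {X Y : Subgroup G}
    (hX : IsPGroup s X) (hXr : PRankLE s 2 ↥X) (hYX : Y ≤ normalizer (X : Set G))
    (hYodd : Odd (Nat.card Y)) {z : G} (hz : z ∈ ⁅Y, Y⁆) {n : ℕ} (hzn : z ^ n = 1) (hn : n.Coprime s) :
    z ∈ centralizer (X : Set G) := by
  set ψ : ↥Y →* MulAut ↥X :=
    (Cfsg.Agent.Lib.Helper48_Generation.normAut X).comp (Subgroup.inclusion hYX) with hψ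
  have hodd' : Odd (Nat.card ψ.range) := Odd.of_dvd_nat hYodd (Subgroup.card_range_dvd ψ)
  have hP := Cfsg.Agent.Lib.Helper24_NarrowFitting.isPGroup_commutator_aut hs hX (Or.inl hXr) ψ.range hodd'
  rw [← Subgroup.map_subtype_commutator] at hz
  obtain ⟨y, hy, rfl⟩ := hz
  have hmem : ψ y ∈ ⁅ψ.range, ψ.range⁆ := by
    have h1 : ⁅ψ.range, ψ.range⁆ = (commutator ↥Y).map ψ := by
      rw [commutator_def, Subgroup.map_commutator, ← MonoidHom.range_eq_map]
    rw [h1]
    exact Subgroup.mem_map_of_mem _ hy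
  obtain ⟨k, hk⟩ := hP ⟨ψ y, hmem⟩
  have h1 : ψ (y ^ s ^ k) = 1 := by
    rw [map_pow]
    exact congrArg Subtype.val hk
  -- `y` is a power of `y ^ s ^ k`
  have hyn : y ^ n = 1 := by
    apply Subtype.ext
    rw [Subgroup.coe_pow]
    exact hzn
  obtain ⟨m, hm⟩ : ∃ m : ℕ, (y ^ s ^ k) ^ m = y := by
    have h2 : orderOf y ∣ n := orderOf_dvd_of_pow_eq_one hyn
    have h3 : (s ^ k).Coprime (orderOf y) := (Nat.Coprime.pow_left k hn.symm).coprime_dvd_right h2
    exact exists_pow_eq_self_of_coprime h3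
  have h2 : ψ y = 1 := by
    rw [← hm, map_pow, h1, one_pow]
  rw [mem_centralizer_iff]
  intro x hx
  have h3 : ψ y ⟨x, hx⟩ = ⟨x, hx⟩ := by rw [h2]; rfl
  have h4 := congrArg Subtype.val h3
  rw [hψ, MonoidHom.comp_apply, Cfsg.Agent.Lib.Helper48_Generation.normAut_apply_coe] at h4
  simp only [Subgroup.coe_inclusion] at h4
  calc x * (y : G) = ((y : G) * x * (y : G)⁻¹) * y := by rw [h4]
    _ = (y : G) * x := by group

/-- **Lemma αα.** Let `H₁ ≠ H₃` be maximal subgroups, `S` a normal `s`-subgroup of `H₁` all of whose elementary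
abelian subgroups of order `≥ s ^ 3` are uniqueness subgroups.  Then every `s'`-element of `(H₁ ∩ H₃)'`
centralizes `S ∩ H₃`. -/
theorem alpha_alpha (hG : IsMinSimpleOddOrder G) {s : ℕ} [Fact s.Prime] {H1 H3 S : Subgroup G}
    (hH1 : IsCoatom H1) (hH3 : IsCoatom H3) (hne : H1 ≠ H3) (hS : IsPGroup s S) (hSH1 : S ≤ H1)
    (hSn : H1 ≤ normalizer (S : Set G))
    (hU : ∀ E : Subgroup G, E ≤ S → IsElementaryAbelian s E → s ^ 3 ≤ Nat.card E → InUniqueMaximal E)
    {z : G} (hz : z ∈ ⁅H1 ⊓ H3, H1 ⊓ H3⁆) {n : ℕ} (hzn : z ^ n = 1) (hn : n.Coprime s) :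
    z ∈ centralizer ((S ⊓ H3 : Subgroup G) : Set G) := by
  have hss : s.Prime := Fact.out
  set Y : Subgroup G := H1 ⊓ H3 with hY
  set X : Subgroup G := S ⊓ H3 with hX
  have hYX : Y ≤ normalizer (X : Set G) :=
    le_normalizer_inf' (inf_le_left.trans hSn) (inf_le_right.trans le_normalizer)
  have hXs : IsPGroup s ↥X := hS.to_le inf_le_left
  by_cases hX1 : X = ⊥
  · rw [hX1, Subgroup.coe_bot, mem_centralizer_iff]
    intro x hx
    rw [Set.mem_singleton_iff] at hx
    rw [hx, one_mul, mul_one]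
  have hs2 : s ≠ 2 := two_ne_of_dvd_card hG (dvd_card_of_ne_bot hXs hX1)
  -- `X` has rank at most two
  have hrk : PRankLE s 2 ↥X := by
    by_contra hcon
    obtain ⟨E, hEX, hEc, hEe, hcard⟩ := exists_elemAb_of_not_pRankLE hcon
    have hEel : IsElementaryAbelian s E :=
      ⟨⟨⟨fun a b => Subtype.ext (hEc a a.2 b b.2)⟩⟩, hEe⟩
    have hcard3 : s ^ 3 ≤ Nat.card E := by
      obtain ⟨k, hk⟩ := IsPGroup.iff_card.mp (isPGroup_of_isElementaryAbelian hEel)
      rw [hk] at hcard ⊢
      have : 2 < k := (Nat.pow_lt_pow_iff_right hss.one_lt).mp hcard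
      exact Nat.pow_le_pow_right hss.pos this
    obtain ⟨M₀, -, huniq⟩ := hU E (hEX.trans inf_le_left) hEel hcard3
    have e1 := huniq H1 ⟨hH1, (hEX.trans inf_le_left).trans hSH1⟩
    have e3 := huniq H3 ⟨hH3, hEX.trans inf_le_right⟩
    exact hne (e1.trans e3.symm)
  exact centralizes_of_mem_commutator hs2 hXs hrk hYX (odd_card_subgroup hG Y) hz hzn hn

/-- **(L0)** `A ∩ N_G(A)' ≠ 1` for a nontrivial `A ∈ SCN(P)`, `P` a Sylow `p`-subgroup of a minimal simple group
of odd order. -/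
theorem scn_focal_ne_bot (hG : IsMinSimpleOddOrder G) (P : Sylow p G) (A : Subgroup G)
    (hA : IsSCN (P : Subgroup G) A) (hA1 : A ≠ ⊥) :
    A ⊓ ⁅normalizer (A : Set G), normalizer (A : Set G)⁆ ≠ ⊥ := by
  obtain ⟨hAP, hPA, hC⟩ := hA
  by_cases hPle : (P : Subgroup G) ≤ A
  · -- `A = P`
    have hAeq : A = (P : Subgroup G) := le_antisymm hAP hPle
    have hP1 : (P : Subgroup G) ≠ ⊥ := hAeq ▸ hA1
    have := focal_ne_bot hG P hP1
    rwa [← hAeq] at this
  · -- some `g ∈ P` does not centralize `A`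
    obtain ⟨g, hgP, hgA⟩ := SetLike.not_le_iff_exists.mp hPle
    have hgC : g ∉ centralizer (A : Set G) := by
      intro h
      apply hgA
      rw [← hC]
      exact ⟨hgP, h⟩
    rw [mem_centralizer_iff] at hgC
    push Not at hgC
    obtain ⟨a, haA, hag⟩ := hgC
    have haA' : a ∈ A := haA
    intro hbot
    have h1 : ⁅g, a⁆ ∈ ⁅normalizer (A : Set G), normalizer (A : Set G)⁆ :=
      commutator_mem_commutator (hPA hgP) (le_normalizer haA')
    have h2 : ⁅g, a⁆ ∈ A := by
      rw [commutatorElement_def]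
      exact A.mul_mem ((mem_normalizer_iff.mp (hPA hgP) a).mp haA') (A.inv_mem haA')
    have h3 : ⁅g, a⁆ ∈ A ⊓ ⁅normalizer (A : Set G), normalizer (A : Set G)⁆ := ⟨h2, h1⟩
    rw [hbot, mem_bot, commutatorElement_eq_one_iff_mul_comm] at h3
    exact hag h3.symm

/-- **(L0)**, element form: an element of order `p` of `A ∩ N_G(A)'`. -/
theorem exists_scn_focal (hG : IsMinSimpleOddOrder G) (P : Sylow p G) (A : Subgroup G)
    (hA : IsSCN (P : Subgroup G) A) (hA1 : A ≠ ⊥) :
    ∃ z : G, z ∈ A ∧ z ∈ ⁅normalizer (A : Set G), normalizer (A : Set G)⁆ ∧ z ≠ 1 ∧ z ^ p = 1 := by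
  have hD := scn_focal_ne_bot hG P A hA hA1
  have hAp : IsPGroup p ↥A := P.isPGroup'.to_le hA.1
  have hnorm : A ≤ normalizer ((A ⊓ ⁅normalizer (A : Set G), normalizer (A : Set G)⁆ : Subgroup G) : Set G) :=
    le_normalizer_inf' le_normalizer
      (le_normalizer.trans ((normalizer_le_normalizer_commutator _).trans' le_normalizer))
  obtain ⟨z, hz, -, hz1, hzp⟩ := exists_central_of_normal_sub hAp inf_le_left hnorm hD
  exact ⟨z, hz.1, hz.2, hz1, hzp⟩

end Cfsg.Agent.Lib.Helper23_BG95
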