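import Cfsg.Agent.S1393
import Cfsg.Agent.S1395
import Cfsg.Agent.S1451
import Cfsg.Agent.Lib.Helper23_BG95C
import Cfsg.Agent.Lib.Helper22_BGTrans
import Cfsg.Agent.Lib.Helper22_BGTransRank
import Cfsg.Agent.Lib.Helper22_Uniq5
import Cfsg.Agent.Lib.Helper24_NarrowFitting
import Cfsg.Agent.Lib.Helper2_PRank
import Cfsg.Agent.Lib.Helper1_Cores
import Cfsg.Agent.Lib.Helper32_Cores

/-!
# Bender--Glauberman 9.5, Case I (helper23)

Pieces of the S1402 team effort (spec `notes/helper22_S1402_spec.lean.txt`):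

* `Bt3`: in a maximal subgroup `M` with `r(F(M)) ≤ 2`, a `p`-subgroup of `M'` lies in `O_p(M)`;
* `piCoreOf_le_centralizer_pCoreOf`: `O_π(H)` centralizes `O_p(H)` when `p ∉ π`;
* `caseI`: if every member of `M(A)` has Fitting subgroup of rank at most two, then `A` lies in a
  unique maximal subgroup.
-/

set_option autoImplicit false
open Cfsg Subgroup

namespace Cfsg.Agent.Lib.Helper23_BG95I

open Cfsg.Agent.Lib.Helper22_BGTrans Cfsg.Agent.Lib.Helper22_BGTransRank
  Cfsg.Agent.Lib.Helper22_Uniq Cfsg.Agent.Lib.Helper23_BG95C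
  Cfsg.Agent.Lib.Helper24_NarrowFitting Cfsg.Agent.Lib.Helper2_PRank
  Cfsg.Agent.Lib.Helper1_Cores

/-- In a solvable group `H` of odd order whose Fitting subgroup has rank at most two, an element of
`p`-power order of the derived group lies in `O_p(H)`. -/
theorem mem_pCore_of_mem_commutator {H : Type*} [Group H] [Finite H] [Group.IsSolvable H]
    (hodd : Odd (Nat.card H)) (hr : RankLE 2 (fittingSubgroup H)) (p : ℕ) [Fact p.Prime]
    (z : H) (hz : z ∈ commutator H) (k : ℕ) (hzp : z ^ p ^ k = 1) : z ∈ pCore p H := by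
  have hpp : p.Prime := Fact.out
  have hnil : Group.IsNilpotent ↥(commutator H) := (Cfsg.Agent.S1451.result hodd (Or.inr hr)).1
  have hzF : z ∈ fittingSubgroup H := le_fittingSubgroup inferInstance hnil hz
  obtain ⟨j, -, hj⟩ := (Nat.dvd_prime_pow hpp).mp (orderOf_dvd_of_pow_eq_one hzp)
  exact mem_pCore_of_mem_fitting hzF hj

variable {G : Type*} [Group G] [Finite G]

omit [Finite G] in
/-- `RankLE` transfers from `fittingOf M` to the Fitting subgroup of `↥M`. -/
theorem rankLE_fittingSubgroup_of_fittingOf (M : Subgroup G) (k : ℕ)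
    (hr : Cfsg.RankLE k ↥(Cfsg.fittingOf M)) : Cfsg.RankLE k ↥(fittingSubgroup ↥M) := by
  intro q hq
  have e : ↥(fittingSubgroup ↥M) ≃* ↥(Cfsg.fittingOf M) :=
    (fittingSubgroup ↥M).equivMapOfInjective M.subtype M.subtype_injective
  exact pRankLE_of_injective' q k e.toMonoidHom e.injective (hr q hq)

/-- **(Bt3)** A `p`-subgroup of `M'` lies in `O_p(M)` when `M` is a maximal subgroup with
`r(F(M)) ≤ 2`. -/
theorem Bt3 (hG : Cfsg.IsMinSimpleOddOrder G) (M : Subgroup G) (hM : IsCoatom M)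
    (hr : Cfsg.RankLE 2 ↥(Cfsg.fittingOf M)) (p : ℕ) [Fact p.Prime]
    (D : Subgroup G) (hD : D ≤ ⁅M, M⁆) (hDp : IsPGroup p D) :
    D ≤ Cfsg.pCoreOf p M := by
  have : Group.IsSolvable ↥M := hG.2.2.2 M hM.1
  have hodd : Odd (Nat.card ↥M) := odd_card_subgroup hG M
  have hr' := rankLE_fittingSubgroup_of_fittingOf M 2 hr
  intro d hd
  have hdM : d ∈ ⁅M, M⁆ := hD hd
  rw [← Subgroup.map_subtype_commutator] at hdM
  obtain ⟨d', hd', rfl⟩ := hdM
  obtain ⟨k, hk⟩ := hDp ⟨M.subtype d', hd⟩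
  have hk' : d' ^ p ^ k = 1 := by
    apply Subtype.ext
    have := congrArg Subtype.val hk
    simpa using this
  have := mem_pCore_of_mem_commutator hodd hr' p d' hd' k hk'
  unfold Cfsg.pCoreOf
  exact mem_map_of_mem _ this

/-- `O_π(H)` centralizes `O_p(H)` when `p ∉ π`. -/
theorem piCoreOf_le_centralizer_pCoreOf (H : Subgroup G) (p : ℕ) [Fact p.Prime] (π : Set ℕ)
    (hp : p ∉ π) : Cfsg.piCoreOf π H ≤ centralizer (Cfsg.pCoreOf p H : Set G) := by
  have hpp : p.Prime := Fact.out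
  have hcop : (Nat.card ↥(piCore π ↥H)).Coprime (Nat.card ↥(pCore p ↥H)) := by
    obtain ⟨n, hn⟩ := (IsPGroup.iff_card.mp (Cfsg.Agent.Lib.Helper1_Cores.pCore_isPGroup (G := ↥H) p))
    rw [hn]
    apply Nat.Coprime.pow_right
    rw [Nat.coprime_comm, Nat.Prime.coprime_iff_not_dvd hpp]
    intro hdvd
    exact hp (Cfsg.Agent.Lib.Helper32_Cores.card_piCore π p hpp hdvd)
  have hdis : Disjoint (piCore π ↥H) (pCore p ↥H) := Subgroup.disjoint_of_coprime_natCard hcop
  intro x hx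
  unfold Cfsg.piCoreOf at hx
  obtain ⟨x', hx', rfl⟩ := hx
  rw [mem_centralizer_iff]
  intro y hy
  unfold Cfsg.pCoreOf at hy
  obtain ⟨y', hy', rfl⟩ := hy
  have hc : Commute x' y' :=
    Subgroup.commute_of_normal_of_disjoint _ _ inferInstance inferInstance hdis x' y' hx' hy'
  have := congrArg Subtype.val hc.eq
  simpa using this.symm

/-- **(Case I of BG 9.5)** -/
theorem caseI (hG : Cfsg.IsMinSimpleOddOrder G) (p : ℕ) [Fact p.Prime]
    (A : Subgroup G) (hAp : IsPGroup p A) (hAc : IsMulCommutative A) (hA3 : ¬ Cfsg.PRankLE p 2 ↥A)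
    (hTH : Cfsg.TransitivityHypothesis A)
    (z : G) (hzA : z ∈ A) (hz1 : z ≠ 1)
    (hzD : z ∈ ⁅normalizer (A : Set G), normalizer (A : Set G)⁆)
    (hbeta : ∀ H : Subgroup G, IsCoatom H → A ≤ H → Cfsg.RankLE 2 ↥(Cfsg.fittingOf H)) :
    Cfsg.InUniqueMaximal A := by
  have hpp : p.Prime := Fact.out
  have hA1 : A ≠ ⊥ := hTH.1
  have hAcomm : ∀ a ∈ A, ∀ b ∈ A, a * b = b * a := by
    intro a ha b hb
    have := isMulCommutative_iff.mp hAc ⟨a, ha⟩ ⟨b, hb⟩
    exact congrArg Subtype.val this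
  have hAC : A ≤ centralizer ({z} : Set G) := by
    intro a ha
    rw [mem_centralizer_singleton_iff]
    exact hAcomm a ha z hzA
  obtain ⟨M, hM, hCM⟩ := exists_isCoatom_ge (centralizer_singleton_ne_top hG hz1)
  refine inUniqueMaximal_of_invariant_qsubgroups_le hG M hM p A (hAC.trans hCM) hAp hA1 ?_
  intro q Q hq hqp hQ hAQ
  obtain ⟨Qs, hQs, hQQs⟩ := exists_max_ge hq hQ hAQ
  refine hQQs.trans (le_trans ?_ hCM)
  by_cases hQs1 : Qs = ⊥
  · rw [hQs1]; exact bot_le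
  have hpA : p ∣ Nat.card A := by
    obtain ⟨k, hk⟩ := IsPGroup.iff_card.mp hAp
    have hk0 : k ≠ 0 := by
      rintro rfl
      rw [pow_zero] at hk
      exact hA1 ((Subgroup.card_eq_one).mp hk)
    rw [hk]
    exact dvd_pow_self p hk0
  have hqA : ¬ q ∣ Nat.card A := by
    obtain ⟨n, hn⟩ := IsPGroup.iff_card.mp hAp
    rw [hn]
    intro h
    exact hqp ((Nat.prime_dvd_prime_iff_eq hq hpp).mp (hq.dvd_of_dvd_pow h))
  have hAinf : A ⊓ centralizer (A : Set G) = A := by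
    apply inf_eq_left.mpr
    intro a ha
    rw [mem_centralizer_iff]
    intro b hb
    exact hAcomm b hb a ha
  have hZ : ¬ Cfsg.RankLE 2 ↥(A ⊓ centralizer (A : Set G)) := by
    rw [hAinf]
    intro h
    exact hA3 (h p hpp)
  have htr := Cfsg.Agent.S1393.result hG A hTH hZ q hq hqA
  have hsn : (A.subgroupOf A).IsSubnormal := by
    rw [subgroupOf_self]
    exact (normal_of_characteristic ⊤).isSubnormal
  have h95 := Cfsg.Agent.S1395.result hG A hTH q hq hqA A hTH.2.1 (fun r _ h => h) le_rfl hsn htr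
  have hzN : z ∈ ⁅normalizer (Qs : Set G), normalizer (Qs : Set G)⁆ :=
    (h95.2.2.2 Qs hQs).1 (mem_inf.mpr ⟨hzA, hzD⟩)
  have hQsq : IsPGroup q Qs := isPGroup_of_primes hq hQs.1.2.1
  have hQstop : Qs ≠ ⊤ := ne_top_of_isPGroup hG hq hQsq
  have hNtop := normalizer_ne_top hG hQs1 hQstop
  obtain ⟨H, hH, hNH⟩ := exists_isCoatom_ge hNtop
  have hAH : A ≤ H := hQs.1.2.2.trans hNH
  have hzH : z ∈ ⁅H, H⁆ := commutator_mono hNH hNH hzN
  have hzO : zpowers z ≤ Cfsg.pCoreOf p H :=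
    Bt3 hG H hH (hbeta H hH hAH) p (zpowers z) (zpowers_le.mpr hzH)
      (hAp.to_le (zpowers_le.mpr hzA))
  have hQO : Qs ≤ Cfsg.piCoreOf (primesNotDvd (Nat.card A)) H :=
    le_piCoreOf_of_mem hTH hH.1 hAH
      ⟨le_normalizer.trans hNH, fun r hr hrd => by
        have := hQs.1.2.1 r hr hrd
        rw [Set.mem_singleton_iff] at this
        rw [this]
        exact ⟨hq, hqA⟩, hQs.1.2.2⟩
  have hpπ : p ∉ primesNotDvd (Nat.card A) := fun h => h.2 hpA
  refine hQO.trans ((piCoreOf_le_centralizer_pCoreOf H p _ hpπ).trans ?_)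
  apply centralizer_le
  intro x hx
  rw [Set.mem_singleton_iff] at hx
  rw [hx]
  exact hzO (mem_zpowers z)

end Cfsg.Agent.Lib.Helper23_BG95I
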