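import Cfsg.Agent.Lib.Helper22_Uniq6
import Cfsg.Agent.Lib.Helper22_BGTransRank
import Cfsg.Agent.Lib.Helper2_Coprime
import Mathlib.GroupTheory.SpecificGroups.Cyclic
import Mathlib.RingTheory.IntegralDomain

set_option autoImplicit false
open Cfsg Subgroup

/-! Bender--Glauberman Lemma 9.5: lines, good points. -/

namespace Cfsg.Agent.Lib.Helper22_U1402

open Cfsg.Agent.Lib.Helper22_Uniq Cfsg.Agent.Lib.Helper2_Coprime Cfsg.Agent.Lib.Helper22_BGTransRank

variable {G : Type*} [Group G]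

/-- A *line for `H`* (with respect to `A`, `B` and the prime `s`): a subgroup of order `s` of `O_s(H)` normalized
by `A`, not centralized by `B`, whose centralizer lies in `H`. -/
def IsLine (A B H : Subgroup G) (s : ℕ) (E : Subgroup G) : Prop :=
  E ≤ Cfsg.pCoreOf s H ∧ Nat.card E = s ∧ A ≤ normalizer (E : Set G) ∧
    ¬ B ≤ centralizer (E : Set G) ∧ centralizer (E : Set G) ≤ H

/-- two subgroups of index at most `p` in an elementary abelian group of order `p ^ 3` meet nontrivially -/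
theorem exists_mem_inf_ne_one [Finite G] (p : ℕ) [Fact p.Prime] (B : Subgroup G) (hB3 : Nat.card B = p ^ 3)
    (C₁ C₂ : Subgroup G) (h₁ : C₁ ≤ B) (_h₂ : C₂ ≤ B) (hi₁ : C₁.relIndex B ≤ p) (hi₂ : C₂.relIndex B ≤ p) :
    ∃ x ∈ C₁ ⊓ C₂, x ≠ 1 := by
  have hpp : p.Prime := Fact.out
  by_contra hcon
  push Not at hcon
  have hbot : C₁ ⊓ C₂ = ⊥ := by
    rw [eq_bot_iff]
    intro x hx
    exact Subgroup.mem_bot.mpr (hcon x hx)
  have h1 : Nat.card ↥(C₁ ⊓ C₂ : Subgroup G) * (C₁ ⊓ C₂).relIndex B = Nat.card ↥B := by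
    rw [← Subgroup.relIndex_bot_left, ← Subgroup.relIndex_bot_left]
    exact Subgroup.relIndex_mul_relIndex _ _ _ bot_le (inf_le_left.trans h₁)
  have hc : Nat.card ↥(C₁ ⊓ C₂ : Subgroup G) = 1 := by rw [hbot, Subgroup.card_bot]
  rw [hc, one_mul, hB3] at h1
  have h2 : (C₁ ⊓ C₂).relIndex B ≤ C₁.relIndex B * C₂.relIndex B := Subgroup.relIndex_inf_le
  have h3 : C₁.relIndex B * C₂.relIndex B ≤ p * p := Nat.mul_le_mul hi₁ hi₂
  have h4 : p * p < p ^ 3 := by
    have : 1 < p := hpp.one_lt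
    calc p * p = p * p * 1 := by ring
      _ < p * p * p := by
        apply Nat.mul_lt_mul_of_pos_left this
        positivity
      _ = p ^ 3 := by ring
  omega

/-- the centralizer in an elementary abelian `p`-group `B` of a group of prime order normalized by `B` has index
at most `p` in `B` -/
theorem relIndex_centralizer_le [Finite G] (p : ℕ) [Fact p.Prime] (B : Subgroup G) (hBe : Cfsg.IsElementaryAbelian p B)
    (s : ℕ) [Fact s.Prime] (E : Subgroup G) (hE : Nat.card E = s) (hBE : B ≤ normalizer (E : Set G)) :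
    (B ⊓ centralizer (E : Set G)).relIndex B ≤ p := by
  have hsp : s.Prime := Fact.out
  have : IsCyclic ↥E := isCyclic_of_prime_card hE
  let φ : ↥B →* MulAut ↥E := conjAut E B hBE
  have hker : φ.ker = (centralizer (E : Set G)).subgroupOf B := by
    ext k
    rw [MonoidHom.mem_ker, Subgroup.mem_subgroupOf, Subgroup.mem_centralizer_iff]
    constructor
    · intro h a ha
      have h1 : φ k ⟨a, ha⟩ = ⟨a, ha⟩ := by rw [h]; rfl
      have h2 : ((φ k ⟨a, ha⟩ : ↥E) : G) = a := by rw [h1]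
      have h3 : (k : G) * a * (k : G)⁻¹ = a := h2
      calc a * (k : G) = (k : G) * a * (k : G)⁻¹ * (k : G) := by rw [h3]
        _ = (k : G) * a := by group
    · intro h
      ext a
      change (k : G) * (a : G) * (k : G)⁻¹ = (a : G)
      rw [← h a a.2]
      group
  rw [Subgroup.inf_relIndex_left, Subgroup.relIndex, ← hker, Subgroup.index_ker]
  -- the range is a cyclic group of exponent `p`
  let e : MulAut ↥E ≃* (ZMod (Nat.card ↥E))ˣ := IsCyclic.mulAutMulEquiv ↥E
  have : Fact (Nat.card ↥E).Prime := ⟨by rw [hE]; exact hsp⟩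
  have : IsCyclic (ZMod (Nat.card ↥E))ˣ := inferInstance
  have : IsCyclic (MulAut ↥E) := isCyclic_of_surjective e.symm e.symm.surjective
  have : IsCyclic ↥φ.range := inferInstance
  apply card_le_of_isCyclic (p := p) (inferInstance : IsCyclic ↥φ.range)
  rintro ⟨_, k, rfl⟩
  apply Subtype.ext
  rw [Subgroup.coe_pow, Subgroup.coe_one]
  change φ k ^ p = 1
  rw [← map_pow]
  have : k ^ p = 1 := by
    apply Subtype.ext
    rw [Subgroup.coe_pow, Subgroup.coe_one]
    exact hBe.2 k.1 k.2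
  rw [this, map_one]


/-- a subgroup lying in a unique maximal subgroup: every proper overgroup lies in it -/
theorem le_of_forall_coatom [Finite G] {X H : Subgroup G}
    (hU : ∀ M : Subgroup G, IsCoatom M → X ≤ M → M = H) {Y : Subgroup G} (hY : Y ≠ ⊤) (hXY : X ≤ Y) : Y ≤ H := by
  obtain ⟨M, hM, hYM⟩ := exists_isCoatom_ge hY
  have := hU M hM (hXY.trans hYM)
  exact this ▸ hYM

/-- two lines for `H` generating a uniqueness subgroup give a good point of `B` -/
theorem exists_good_point [Finite G] (hG : Cfsg.IsMinSimpleOddOrder G) (p : ℕ) [Fact p.Prime]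
    (A B : Subgroup G) (hBA : B ≤ A) (hBe : Cfsg.IsElementaryAbelian p B) (hB3 : Nat.card B = p ^ 3)
    (H : Subgroup G) (s : ℕ) [Fact s.Prime]
    (E₁ E₂ : Subgroup G) (h₁ : IsLine A B H s E₁) (h₂ : IsLine A B H s E₂)
    (hU : ∀ M : Subgroup G, IsCoatom M → E₁ ≤ M → E₂ ≤ M → M = H) :
    ∃ b ∈ B, b ≠ 1 ∧ centralizer ({b} : Set G) ≤ H := by
  have hi₁ := relIndex_centralizer_le p B hBe s E₁ h₁.2.1 (hBA.trans h₁.2.2.1)
  have hi₂ := relIndex_centralizer_le p B hBe s E₂ h₂.2.1 (hBA.trans h₂.2.2.1)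
  obtain ⟨x, hx, hx1⟩ := exists_mem_inf_ne_one p B hB3 _ _ inf_le_left inf_le_left hi₁ hi₂
  have hxB : x ∈ B := (Subgroup.mem_inf.mp (Subgroup.mem_inf.mp hx).1).1
  have hxE₁ : x ∈ centralizer (E₁ : Set G) := (Subgroup.mem_inf.mp (Subgroup.mem_inf.mp hx).1).2
  have hxE₂ : x ∈ centralizer (E₂ : Set G) := (Subgroup.mem_inf.mp (Subgroup.mem_inf.mp hx).2).2
  refine ⟨x, hxB, hx1, ?_⟩
  obtain ⟨M, hM, hCM⟩ := exists_isCoatom_ge (centralizer_singleton_ne_top hG hx1)
  have hMH := hU M hM ((le_centralizer_singleton hxE₁).trans hCM) ((le_centralizer_singleton hxE₂).trans hCM)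
  exact hMH ▸ hCM

end Cfsg.Agent.Lib.Helper22_U1402
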