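import Cfsg.Agent.Lib.Helper47_PReduced

set_option autoImplicit false

namespace Cfsg.Agent.Lib.Helper47_SubAPI

open Cfsg
open Cfsg.Agent.Lib.Helper47_PLocal Cfsg.Agent.Lib.Helper47_PReduced
open scoped commutatorElement Pointwise

variable {G : Type*} [Group G] {p : ℕ}

/-! ### Subgroups of a subgroup, seen in the ambient group -/

theorem map_subtype_subgroupOf_map (L : Subgroup G) (A : Subgroup L) :
    (A.map L.subtype).subgroupOf L = A :=
  Subgroup.comap_map_eq_self_of_injective L.subtype_injective A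

theorem normal_iff_le_normalizer_map (L : Subgroup G) (A : Subgroup L) :
    A.Normal ↔ L ≤ Subgroup.normalizer ((A.map L.subtype : Subgroup G) : Set G) := by
  rw [← Subgroup.normal_subgroupOf_iff_le_normalizer (Subgroup.map_subtype_le A),
    map_subtype_subgroupOf_map]

theorem isPGroup_map_subtype_iff (L : Subgroup G) (A : Subgroup L) :
    IsPGroup p (A.map L.subtype) ↔ IsPGroup p A := by
  constructor
  · intro h
    exact h.of_equiv (A.equivMapOfInjective L.subtype L.subtype_injective).symm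
  · intro h
    exact h.map _

theorem centralizer_eq_subgroupOf (L : Subgroup G) (A : Subgroup L) :
    Subgroup.centralizer (A : Set L) =
      (Subgroup.centralizer ((A.map L.subtype : Subgroup G) : Set G)).subgroupOf L := by
  ext x
  rw [Subgroup.mem_subgroupOf, Subgroup.mem_centralizer_iff, Subgroup.mem_centralizer_iff]
  constructor
  · rintro h _ ⟨a, ha, rfl⟩
    have := h a ha
    exact congrArg Subtype.val this
  · intro h a ha
    exact Subtype.ext (h _ (Subgroup.mem_map_of_mem _ ha))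

/-! ### `pCoreOf` -/

theorem pCoreOf_le (L : Subgroup G) : Cfsg.pCoreOf p L ≤ L := Subgroup.map_subtype_le _

theorem isPGroup_pCoreOf (L : Subgroup G) : IsPGroup p (Cfsg.pCoreOf p L) :=
  (pCore_isPGroup p L).map _

theorem le_normalizer_pCoreOf (L : Subgroup G) :
    L ≤ Subgroup.normalizer ((Cfsg.pCoreOf p L : Subgroup G) : Set G) :=
  (normal_iff_le_normalizer_map L (Cfsg.pCore p L)).mp inferInstance

theorem le_pCoreOf {L N : Subgroup G} (hNL : N ≤ L)
    (hLN : L ≤ Subgroup.normalizer (N : Set G)) (hN : IsPGroup p N) : N ≤ Cfsg.pCoreOf p L := by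
  have h1 : (N.subgroupOf L).Normal := (Subgroup.normal_subgroupOf_iff_le_normalizer hNL).mpr hLN
  have h2 : IsPGroup p (N.subgroupOf L) := hN.comap_subtype
  have h3 : N.subgroupOf L ≤ Cfsg.pCore p L := le_pCore h1 h2
  have h4 := Subgroup.map_mono (f := L.subtype) h3
  rwa [Subgroup.map_subgroupOf_eq_of_le hNL] at h4

theorem pCoreOf_le_sylow {L : Subgroup G} (T : Sylow p G) (hTL : (T : Subgroup G) ≤ L) :
    Cfsg.pCoreOf p L ≤ (T : Subgroup G) := by
  have h1 : Cfsg.pCore p L ≤ ((T.subtype hTL : Sylow p L) : Subgroup L) := pCore_le_sylow _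
  have h2 := Subgroup.map_mono (f := L.subtype) h1
  rw [Sylow.coe_subtype, Subgroup.map_subgroupOf_eq_of_le hTL] at h2
  exact h2

/-- Characteristic `p` for a subgroup, stated in the ambient group. -/
theorem charP_iff (L : Subgroup G) :
    Subgroup.centralizer (Cfsg.pCore p L : Set L) ≤ Cfsg.pCore p L ↔
      L ⊓ Subgroup.centralizer ((Cfsg.pCoreOf p L : Subgroup G) : Set G) ≤ Cfsg.pCoreOf p L := by
  rw [centralizer_eq_subgroupOf]
  constructor
  · intro h x hx
    have h1 : (⟨x, hx.1⟩ : L) ∈ Cfsg.pCore p L := h (by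
      rw [Subgroup.mem_subgroupOf]; exact hx.2)
    exact Subgroup.mem_map.mpr ⟨⟨x, hx.1⟩, h1, rfl⟩
  · intro h x hx
    rw [Subgroup.mem_subgroupOf] at hx
    have h1 : (x : G) ∈ Cfsg.pCoreOf p L := h ⟨x.2, hx⟩
    obtain ⟨y, hy, hyx⟩ := Subgroup.mem_map.mp h1
    have : y = x := Subtype.ext hyx
    rwa [this] at hy

/-! ### `p`-reduced normal subgroups of a subgroup, in the ambient group -/

/-- `V` is a `p`-reduced normal subgroup of the subgroup `L`, stated inside the ambient group. -/
def PRedIn (p : ℕ) (L V : Subgroup G) : Prop :=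
  V ≤ L ∧ L ≤ Subgroup.normalizer (V : Set G) ∧ Cfsg.IsElementaryAbelian p V ∧
    ∀ D : Subgroup G, D ≤ L → L ≤ Subgroup.normalizer (D : Set G) →
      (∀ d ∈ D, ∃ k : ℕ, d ^ (p ^ k) ∈ Subgroup.centralizer (V : Set G)) →
        D ≤ Subgroup.centralizer (V : Set G)

theorem isElementaryAbelian_map_subtype_iff (L : Subgroup G) (A : Subgroup L) :
    Cfsg.IsElementaryAbelian p (A.map L.subtype) ↔ Cfsg.IsElementaryAbelian p A := by
  constructor
  · rintro ⟨h1, h2⟩
    refine ⟨?_, ?_⟩
    · have : IsMulCommutative ((A.map L.subtype).comap L.subtype) :=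
        Subgroup.comap_injective_isMulCommutative _ L.subtype_injective
      rwa [Subgroup.comap_map_eq_self_of_injective L.subtype_injective] at this
    · intro a ha
      have := h2 _ (Subgroup.mem_map_of_mem L.subtype ha)
      exact Subtype.ext (by simpa using this)
  · rintro ⟨h1, h2⟩
    refine ⟨Subgroup.map_isMulCommutative _ _, ?_⟩
    rintro _ ⟨a, ha, rfl⟩
    have := h2 a ha
    simpa using congrArg Subtype.val this

theorem isPReducedNormal_iff_pRedIn (L : Subgroup G) (V : Subgroup L) :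
    Cfsg.IsPReducedNormal p V ↔ PRedIn p L (V.map L.subtype) := by
  rw [isPReducedNormal_iff, PRedIn, normal_iff_le_normalizer_map, isElementaryAbelian_map_subtype_iff]
  constructor
  · rintro ⟨h1, h2, h3⟩
    refine ⟨Subgroup.map_subtype_le V, h1, h2, ?_⟩
    intro D hDL hLD hDp
    have h4 := h3 (D.subgroupOf L) ((Subgroup.normal_subgroupOf_iff_le_normalizer hDL).mpr hLD)
      (by
        intro d hd
        obtain ⟨k, hk⟩ := hDp d hd
        refine ⟨k, ?_⟩
        rw [centralizer_eq_subgroupOf, Subgroup.mem_subgroupOf]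
        simpa using hk)
    rw [centralizer_eq_subgroupOf] at h4
    intro d hd
    exact h4 (show (⟨d, hDL hd⟩ : L) ∈ D.subgroupOf L from hd)
  · rintro ⟨_, h1, h2, h3⟩
    refine ⟨h1, h2, ?_⟩
    intro D hD hDp
    have h4 := h3 (D.map L.subtype) (Subgroup.map_subtype_le D)
      ((normal_iff_le_normalizer_map L D).mp hD)
      (by
        rintro _ ⟨d, hd, rfl⟩
        obtain ⟨k, hk⟩ := hDp d hd
        refine ⟨k, ?_⟩
        rw [centralizer_eq_subgroupOf, Subgroup.mem_subgroupOf] at hk
        simpa using hk)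
    rw [centralizer_eq_subgroupOf]
    intro d hd
    rw [Subgroup.mem_subgroupOf]
    exact h4 (Subgroup.mem_map_of_mem _ hd)

theorem pRedIn_largestPReducedOf (p : ℕ) (L : Subgroup G) :
    PRedIn p L (Cfsg.largestPReducedOf p L) :=
  (isPReducedNormal_iff_pRedIn L _).mp (isPReducedNormal_largestPReduced p L)

theorem PRedIn.le_largestPReducedOf {L V : Subgroup G} (hV : PRedIn p L V) :
    V ≤ Cfsg.largestPReducedOf p L := by
  have h1 : Cfsg.IsPReducedNormal p (V.subgroupOf L) := by
    rw [isPReducedNormal_iff_pRedIn, Subgroup.map_subgroupOf_eq_of_le hV.1]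
    exact hV
  have h2 := Subgroup.map_mono (f := L.subtype) (le_largestPReduced h1)
  rwa [Subgroup.map_subgroupOf_eq_of_le hV.1] at h2

theorem PRedIn.le_pCoreOf {L V : Subgroup G} (hV : PRedIn p L V) : V ≤ Cfsg.pCoreOf p L :=
  Cfsg.Agent.Lib.Helper47_SubAPI.le_pCoreOf hV.1 hV.2.1 (isPGroup_of_isElementaryAbelian hV.2.2.1)

theorem PRedIn.pCoreOf_le_centralizer {L V : Subgroup G} (hV : PRedIn p L V) :
    Cfsg.pCoreOf p L ≤ Subgroup.centralizer (V : Set G) := by
  apply hV.2.2.2 _ (pCoreOf_le L) (le_normalizer_pCoreOf L)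
  intro d hd
  obtain ⟨k, hk⟩ := (isPGroup_pCoreOf (p := p) L) ⟨d, hd⟩
  refine ⟨k, ?_⟩
  have hk' : d ^ (p ^ k) = 1 := by simpa using congrArg Subtype.val hk
  rw [hk']
  exact Subgroup.one_mem _

/-! ### Transfer of `p`-reducedness along `L C(V) = M C(V)` -/


theorem normalizer_le_normalizer_centralizer (V : Subgroup G) :
    Subgroup.normalizer (V : Set G) ≤
      Subgroup.normalizer ((Subgroup.centralizer (V : Set G) : Subgroup G) : Set G) :=
  (Subgroup.normal_subgroupOf_iff_le_normalizer (Subgroup.centralizer_le_normalizer _)).mp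
    (Subgroup.normal_subgroupOf_centralizer_normalizer _)

theorem normalizer_inf_le_normalizer_inf (A B : Subgroup G) :
    Subgroup.normalizer (A : Set G) ⊓ Subgroup.normalizer (B : Set G) ≤
      Subgroup.normalizer ((A ⊓ B : Subgroup G) : Set G) := by
  intro g hg
  have hA : g ∈ Subgroup.normalizer (A : Set G) := hg.1
  have hB : g ∈ Subgroup.normalizer (B : Set G) := hg.2
  rw [Subgroup.mem_normalizer_iff] at hA hB ⊢
  intro h
  rw [Subgroup.mem_inf, Subgroup.mem_inf, hA h, hB h]

/-- If `d` normalizes `C` and `c ∈ C`, then `(d c)^n ∈ d^n C`. -/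
theorem mul_pow_mul_inv_mem {C : Subgroup G} {d c : G}
    (hd : d ∈ Subgroup.normalizer (C : Set G)) (hc : c ∈ C) (n : ℕ) :
    (d * c) ^ n * (d ^ n)⁻¹ ∈ C := by
  induction n with
  | zero => simp
  | succ n ih =>
    have h1 : (d * c) ^ (n + 1) * (d ^ (n + 1))⁻¹ =
        ((d * c) ^ n * (d ^ n)⁻¹) * (d ^ (n + 1) * c * (d ^ (n + 1))⁻¹) := by
      rw [pow_succ, pow_succ]; group
    rw [h1]
    have h2 : d ^ (n + 1) ∈ Subgroup.normalizer (C : Set G) := Subgroup.pow_mem _ hd _
    exact C.mul_mem ih ((Subgroup.mem_normalizer_iff.mp h2 c).mp hc)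

theorem pow_mem_of_pow_mem {C : Subgroup G} {d c : G}
    (hd : d ∈ Subgroup.normalizer (C : Set G)) (hc : c ∈ C) {n : ℕ} (hn : d ^ n ∈ C) :
    (d * c) ^ n ∈ C := by
  have h1 := mul_pow_mul_inv_mem hd hc n
  have h2 : (d * c) ^ n = ((d * c) ^ n * (d ^ n)⁻¹) * d ^ n := by group
  rw [h2]
  exact C.mul_mem h1 hn

theorem PRedIn.of_sup_centralizer_eq {L M V : Subgroup G} (hV : PRedIn p M V) (hVL : V ≤ L)
    (h : L ⊔ Subgroup.centralizer (V : Set G) = M ⊔ Subgroup.centralizer (V : Set G)) :
    PRedIn p L V := by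
  obtain ⟨hVM, hMN, hel, hred⟩ := hV
  have hCN : Subgroup.centralizer (V : Set G) ≤ Subgroup.normalizer (V : Set G) :=
    Subgroup.centralizer_le_normalizer _
  have hLN : L ≤ Subgroup.normalizer (V : Set G) :=
    le_sup_left.trans (h ▸ sup_le hMN hCN)
  have hNC := normalizer_le_normalizer_centralizer V
  refine ⟨hVL, hLN, hel, ?_⟩
  intro D hDL hLD hDp
  have hMDC : M ≤ Subgroup.normalizer ((D ⊔ Subgroup.centralizer (V : Set G) : Subgroup G) : Set G) := by
    have h1 : L ≤ Subgroup.normalizer ((D ⊔ Subgroup.centralizer (V : Set G) : Subgroup G) : Set G) :=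
      (le_inf hLD (hLN.trans hNC)).trans (Subgroup.normalizer_inf_normalizer_le_normalizer_sup _ _)
    have h2 : Subgroup.centralizer (V : Set G) ≤
        Subgroup.normalizer ((D ⊔ Subgroup.centralizer (V : Set G) : Subgroup G) : Set G) :=
      le_sup_right.trans Subgroup.le_normalizer
    exact le_sup_left.trans (h ▸ sup_le h1 h2)
  have hE : (D ⊔ Subgroup.centralizer (V : Set G)) ⊓ M ≤ Subgroup.centralizer (V : Set G) := by
    apply hred _ inf_le_right
    · exact (le_inf hMDC Subgroup.le_normalizer).trans (normalizer_inf_le_normalizer_inf _ _)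
    · rintro e ⟨he, -⟩
      have hDN : D ≤ Subgroup.normalizer ((Subgroup.centralizer (V : Set G) : Subgroup G) : Set G) :=
        hDL.trans (hLN.trans hNC)
      have he' : e ∈ ((D ⊔ Subgroup.centralizer (V : Set G) : Subgroup G) : Set G) := he
      rw [Subgroup.coe_mul_of_left_le_normalizer_right D _ hDN] at he'
      obtain ⟨d, hd, c, hc, rfl⟩ := Set.mem_mul.mp he'
      obtain ⟨k, hk⟩ := hDp d hd
      exact ⟨k, pow_mem_of_pow_mem (hDN hd) hc hk⟩
  intro d hd
  have h1 : d ∈ ((M ⊔ Subgroup.centralizer (V : Set G) : Subgroup G) : Set G) := by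
    have : d ∈ L ⊔ Subgroup.centralizer (V : Set G) := Subgroup.mem_sup_left (hDL hd)
    rw [h] at this; exact this
  rw [Subgroup.coe_mul_of_left_le_normalizer_right M _ (hMN.trans hNC)] at h1
  obtain ⟨m, hm, c, hc, rfl⟩ := Set.mem_mul.mp h1
  have h2 : m ∈ (D ⊔ Subgroup.centralizer (V : Set G)) ⊓ M := by
    refine ⟨?_, hm⟩
    have : m = (m * c) * c⁻¹ := by group
    rw [this]
    exact Subgroup.mul_mem _ (Subgroup.mem_sup_left hd) (Subgroup.mem_sup_right (Subgroup.inv_mem _ hc))
  exact Subgroup.mul_mem _ (hE h2) hc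


end Cfsg.Agent.Lib.Helper47_SubAPI
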