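import Cfsg.Agent.S1401
import Cfsg.Agent.Lib.Helper22_U1402a
import Cfsg.Agent.Lib.Helper23_BG95
import Cfsg.Agent.Lib.Helper47_SubAPI
import Cfsg.Agent.Lib.Helper2_NilpCrit

/-!
# Bender--Glauberman Lemma 9.5, step (L2): uniqueness of the alpha-type member of `𝓜(A)` (helper29)

`alpha_unique`: in a counterexample to BG 9.5, two maximal subgroups `H, H' ≥ A` with `r_s(F(H)) ≥ 3`,
`r_{s'}(F(H')) ≥ 3` coincide.  Lemma alpha (`hL1`: two lines generating a uniqueness subgroup), the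
beta-type fact (`hBt1`), `N_G(A) ≤ H` (`hNA`) and `И(A; s) ⊆ H` (`hInv`) are hypotheses.
-/

set_option autoImplicit false

namespace Cfsg.Agent.Lib.Helper29_U1402L2

open Subgroup Cfsg Cfsg.Agent.Lib.Helper22_U1402 Cfsg.Agent.Lib.Helper22_Uniq
  Cfsg.Agent.Lib.Helper22_BGTransRank

variable {G : Type*} [Group G]

/-- `O_q(M)` and `O_r(M)` commute for distinct primes `q`, `r` -/
theorem pCoreOf_le_centralizer_pCoreOf (M : Subgroup G) (q r : ℕ) [Fact q.Prime] [Fact r.Prime] (hqr : q ≠ r) :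
    pCoreOf q M ≤ centralizer (pCoreOf r M : Set G) := by
  have hdisj : Disjoint (pCore q ↥M) (pCore r ↥M) := by
    rw [disjoint_iff, eq_bot_iff]
    intro x hx
    rw [Subgroup.mem_bot]
    obtain ⟨hx1, hx2⟩ := Subgroup.mem_inf.mp hx
    obtain ⟨a, ha⟩ := (Cfsg.Agent.Lib.Helper1_Cores.pCore_isPGroup q (G := ↥M)) ⟨x, hx1⟩
    obtain ⟨b, hb⟩ := (Cfsg.Agent.Lib.Helper1_Cores.pCore_isPGroup r (G := ↥M)) ⟨x, hx2⟩
    have ha' : x ^ q ^ a = 1 := by simpa using congrArg Subtype.val ha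
    have hb' : x ^ r ^ b = 1 := by simpa using congrArg Subtype.val hb
    have h1 : orderOf x ∣ q ^ a := orderOf_dvd_of_pow_eq_one ha'
    have h2 : orderOf x ∣ r ^ b := orderOf_dvd_of_pow_eq_one hb'
    have hcop : (q ^ a).Coprime (r ^ b) :=
      Nat.Coprime.pow a b ((Nat.coprime_primes Fact.out Fact.out).mpr hqr)
    have : orderOf x = 1 := Nat.eq_one_of_dvd_coprimes hcop h1 h2
    exact orderOf_eq_one_iff.mp this
  rintro _ ⟨x, hx, rfl⟩
  rw [mem_centralizer_iff]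
  rintro _ ⟨y, hy, rfl⟩
  have := Subgroup.commute_of_normal_of_disjoint (pCore q ↥M) (pCore r ↥M) inferInstance inferInstance hdisj
    x y hx hy
  have h2 := congrArg Subtype.val this.eq
  simpa using h2.symm

variable [Finite G]

/-- a line `E` for `H` satisfies `[E, B] = E` -/
theorem line_commutator_eq {A B H E : Subgroup G} {s : ℕ} [Fact s.Prime] (hBA : B ≤ A)
    (h : IsLine A B H s E) : ⁅E, B⁆ = E := by
  have hle : ⁅E, B⁆ ≤ E :=
    Cfsg.Agent.Lib.Helper2_Coprime.commutator_le_of_le_normalizer E B (hBA.trans h.2.2.1)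
  have hne : ⁅E, B⁆ ≠ ⊥ := by
    intro h0
    apply h.2.2.2.1
    have h1 : ⁅B, E⁆ = ⊥ := by rw [Subgroup.commutator_comm]; exact h0
    exact Subgroup.commutator_eq_bot_iff_le_centralizer.mp h1
  have hs : (Nat.card ↥E).Prime := by rw [h.2.1]; exact Fact.out
  have hcard : Nat.card ↥(⁅E, B⁆ : Subgroup G) ∣ Nat.card ↥E := Subgroup.card_dvd_of_le hle
  rcases (Nat.dvd_prime hs).mp hcard with h1 | h1
  · exact absurd (Subgroup.card_eq_one.mp h1) hne
  · exact Subgroup.eq_of_le_of_card_ge hle h1.ge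


section Toolkit

variable {H : Subgroup G} {s : ℕ} [Fact s.Prime]

/-- an `s`-subgroup of `F(H)` lies in `O_s(H)` -/
theorem le_pCoreOf_of_le_fittingOf {W : Subgroup G} (hW : W ≤ fittingOf H) (hWs : IsPGroup s W) :
    W ≤ pCoreOf s H := by
  have hWH : W ≤ H := hW.trans (Subgroup.map_subtype_le _)
  have h1 : W.subgroupOf H ≤ fittingSubgroup ↥H := by
    intro x hx
    rw [Subgroup.mem_subgroupOf] at hx
    obtain ⟨y, hy, hxy⟩ := hW hx
    have : y = x := Subtype.ext hxy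
    rwa [← this]
  have h2 : IsPGroup s ↥(W.subgroupOf H) := hWs.comap_subtype
  have h3 := Cfsg.Agent.Lib.Helper2_NilpCrit.le_pCore_of_le_nilpotent (fittingSubgroup ↥H)
    Cfsg.Agent.Lib.Helper1_Cores.fittingSubgroup_isNilpotent s (W.subgroupOf H) h1 h2
  have h4 := Subgroup.map_mono (f := H.subtype) h3
  rwa [Subgroup.map_subgroupOf_eq_of_le hWH] at h4

theorem not_pRankLE_pCoreOf (hF : ¬ PRankLE s 2 ↥(fittingOf H)) : ¬ PRankLE s 2 ↥(pCoreOf s H) := by
  obtain ⟨E, hE, hEc, hEe, hE3⟩ := exists_elemAb_of_not_pRankLE hF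
  have hEs : IsPGroup s ↥E := by
    intro a
    refine ⟨1, ?_⟩
    apply Subtype.ext
    rw [pow_one, Subgroup.coe_pow]
    exact hEe a.1 a.2
  exact not_pRankLE_of_elemAb (le_pCoreOf_of_le_fittingOf hE hEs) hEc hEe hE3

/-- every maximal subgroup containing `O_s(H)` is `H` (when `r_s(F(H)) ≥ 3`) -/
theorem eq_of_pCoreOf_le (hG : IsMinSimpleOddOrder G) (hH : IsCoatom H) (hF : ¬ PRankLE s 2 ↥(fittingOf H))
    {M : Subgroup G} (hM : IsCoatom M) (h : pCoreOf s H ≤ M) : M = H := by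
  obtain ⟨E, hE, hEc, hEe, hE3⟩ := exists_elemAb_of_not_pRankLE (not_pRankLE_pCoreOf hF)
  have hEs : IsPGroup s ↥E := by
    intro a
    refine ⟨1, ?_⟩
    apply Subtype.ext
    rw [pow_one, Subgroup.coe_pow]
    exact hEe a.1 a.2
  have hEcomm : IsMulCommutative ↥E := ⟨⟨fun a b => Subtype.ext (hEc a.1 a.2 b.1 b.2)⟩⟩
  have hE3' : ¬ PRankLE s 2 ↥E := not_pRankLE_of_elemAb le_rfl hEc hEe hE3
  obtain ⟨M₀, -, hM₀⟩ := Cfsg.Agent.S1401.result hG H hH s hF E hEs hEcomm hE3'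
  have hEH : E ≤ H := hE.trans (Cfsg.Agent.Lib.Helper47_SubAPI.pCoreOf_le H)
  rw [hM₀ M ⟨hM, hE.trans h⟩, hM₀ H ⟨hH, hEH⟩]

end Toolkit

section Main

variable (hG : IsMinSimpleOddOrder G) (p : ℕ) [Fact p.Prime]
  (A : Subgroup G) (hAp : IsPGroup p A) (hAc : IsMulCommutative A)
  (B : Subgroup G) (hBA : B ≤ A) (hBe : IsElementaryAbelian p B) (hB3 : Nat.card B = p ^ 3)
  (hAU : ¬ InUniqueMaximal A)
  (z : G) (hzA : z ∈ A) (hz1 : z ≠ 1)
  (hzD : z ∈ ⁅normalizer (A : Set G), normalizer (A : Set G)⁆)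
  (hNA : ∀ (H : Subgroup G) (s : ℕ), IsCoatom H → A ≤ H → s.Prime → s ≠ p →
    ¬ PRankLE s 2 ↥(fittingOf H) → normalizer (A : Set G) ≤ H)

include hG hAp hAc hBA hBe hB3 hAU in
/-- in a counterexample, no maximal subgroup has `r_p(F(M)) ≥ 3` -/
theorem ne_of_alpha {M : Subgroup G} (hM : IsCoatom M) {t : ℕ} (_ht : t.Prime)
    (hF : ¬ PRankLE t 2 ↥(fittingOf M)) : t ≠ p := by
  rintro rfl
  apply hAU
  have hpp : t.Prime := Fact.out
  have hA3 : ¬ PRankLE t 2 ↥A := by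
    apply not_pRankLE_of_elemAb hBA
    · intro a ha b hb
      exact congrArg Subtype.val (isMulCommutative_iff.mp hBe.1 ⟨a, ha⟩ ⟨b, hb⟩)
    · exact hBe.2
    · rw [hB3]
      exact Nat.pow_lt_pow_right hpp.one_lt (by norm_num)
  exact Cfsg.Agent.S1401.result hG M hM t hF A hAp hAc hA3

include hG hAp hzA hzD hNA in
/-- the element `z` centralizes `O_s(H) ∩ H₃` for an alpha-type `H` and any maximal `H₃ ≠ H` containing `N_G(A)` -/
theorem mem_centralizer_inf {H H₃ : Subgroup G} {s : ℕ} [Fact s.Prime] (hH : IsCoatom H) (hAH : A ≤ H)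
    (hsp : s ≠ p) (hF : ¬ PRankLE s 2 ↥(fittingOf H)) (hH₃ : IsCoatom H₃) (hne : H ≠ H₃)
    (hN₃ : normalizer (A : Set G) ≤ H₃) :
    z ∈ centralizer ((pCoreOf s H ⊓ H₃ : Subgroup G) : Set G) := by
  have hss : s.Prime := Fact.out
  have hpp : p.Prime := Fact.out
  have hN : normalizer (A : Set G) ≤ H := hNA H s hH hAH hss hsp hF
  have hz : z ∈ ⁅H ⊓ H₃, H ⊓ H₃⁆ :=
    Subgroup.commutator_mono (le_inf hN hN₃) (le_inf hN hN₃) hzD
  obtain ⟨k, hk⟩ := hAp ⟨z, hzA⟩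
  have hzk : z ^ p ^ k = 1 := by simpa using congrArg Subtype.val hk
  have hcop : (p ^ k).Coprime s := Nat.Coprime.pow_left k ((Nat.coprime_primes hpp hss).mpr hsp.symm)
  apply Cfsg.Agent.Lib.Helper23_BG95.alpha_alpha hG hH hH₃ hne
    (Cfsg.Agent.Lib.Helper47_SubAPI.isPGroup_pCoreOf H) (Cfsg.Agent.Lib.Helper47_SubAPI.pCoreOf_le H)
    (Cfsg.Agent.Lib.Helper47_SubAPI.le_normalizer_pCoreOf H) ?_ hz hzk hcop
  intro E _ hEe hE3
  have hEp : IsPGroup s ↥E := isPGroup_of_isElementaryAbelian hEe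
  have hE3' : ¬ PRankLE s 2 ↥E := by
    apply not_pRankLE_of_elemAb le_rfl
    · intro a ha b hb
      exact congrArg Subtype.val (isMulCommutative_iff.mp hEe.1 ⟨a, ha⟩ ⟨b, hb⟩)
    · exact hEe.2
    · calc s ^ 2 < s ^ 3 := Nat.pow_lt_pow_right hss.one_lt (by norm_num)
        _ ≤ Nat.card ↥E := hE3
  exact Cfsg.Agent.S1401.result hG H hH s hF E hEp hEe.1 hE3'

include hG hAp hAc hBA hBe hB3 hAU hzA hzD hNA in
/-- the asymmetric step: a line of `H'` not centralized by `z` forces the two lines of `H` into `H'` -/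
theorem key
    (hBt1 : ∀ M : Subgroup G, IsCoatom M → RankLE 2 ↥(fittingOf M) → ∀ (q : ℕ) [Fact q.Prime]
      (X B' : Subgroup G), X ≤ M → B' ≤ M → IsPGroup q X → B' ≤ normalizer (X : Set G) → ⁅X, B'⁆ = X →
      X ≤ pCoreOf q M)
    {H H' : Subgroup G} {s s' : ℕ} [Fact s.Prime] [Fact s'.Prime]
    (hH : IsCoatom H) (hAH : A ≤ H) (hsp : s ≠ p) (hF : ¬ PRankLE s 2 ↥(fittingOf H))
    (hH' : IsCoatom H') (hAH' : A ≤ H') (hsp' : s' ≠ p) (hF' : ¬ PRankLE s' 2 ↥(fittingOf H'))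
    (hss' : s ≠ s') (hne : H ≠ H')
    {E₁ E₂ : Subgroup G} (h₁ : IsLine A B H s E₁) (h₂ : IsLine A B H s E₂)
    (hU : ∀ M : Subgroup G, IsCoatom M → E₁ ≤ M → E₂ ≤ M → M = H)
    {E' : Subgroup G} (h' : IsLine A B H' s' E') (hzE' : z ∉ centralizer (E' : Set G)) : False := by
  have hss : s.Prime := Fact.out
  have hss'' : s'.Prime := Fact.out
  have hNH : normalizer (A : Set G) ≤ H := hNA H s hH hAH hss hsp hF
  have hsub : ∀ E : Subgroup G, IsLine A B H s E → E ≤ H' := by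
    intro E hE
    obtain ⟨x, hx, hx1⟩ := exists_mem_inf_ne_one p B hB3 _ _ inf_le_left inf_le_left
      (relIndex_centralizer_le p B hBe s E hE.2.1 (hBA.trans hE.2.2.1))
      (relIndex_centralizer_le p B hBe s' E' h'.2.1 (hBA.trans h'.2.2.1))
    have hxB : x ∈ B := (Subgroup.mem_inf.mp (Subgroup.mem_inf.mp hx).1).1
    have hxE : x ∈ centralizer (E : Set G) := (Subgroup.mem_inf.mp (Subgroup.mem_inf.mp hx).1).2
    have hxE' : x ∈ centralizer (E' : Set G) := (Subgroup.mem_inf.mp (Subgroup.mem_inf.mp hx).2).2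
    obtain ⟨H₃, hH₃, hC⟩ := exists_isCoatom_ge (centralizer_singleton_ne_top hG hx1)
    have hxA : x ∈ centralizer (A : Set G) := by
      rw [mem_centralizer_iff]
      intro a ha
      exact congrArg Subtype.val (isMulCommutative_iff.mp hAc ⟨a, ha⟩ ⟨x, hBA hxB⟩)
    have hAH₃ : A ≤ H₃ := (le_centralizer_singleton hxA).trans hC
    have hEH₃ : E ≤ H₃ := (le_centralizer_singleton hxE).trans hC
    have hE'H₃ : E' ≤ H₃ := (le_centralizer_singleton hxE').trans hC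
    by_cases hr : RankLE 2 ↥(fittingOf H₃)
    · -- beta type
      exfalso
      have hEs : IsPGroup s ↥E := IsPGroup.of_card (n := 1) (by rw [hE.2.1, pow_one])
      have hE's : IsPGroup s' ↥E' := IsPGroup.of_card (n := 1) (by rw [h'.2.1, pow_one])
      have h1 : E ≤ pCoreOf s H₃ := hBt1 H₃ hH₃ hr s E B hEH₃ (hBA.trans hAH₃) hEs
        (hBA.trans hE.2.2.1) (line_commutator_eq hBA hE)
      have h2 : E' ≤ pCoreOf s' H₃ := hBt1 H₃ hH₃ hr s' E' B hE'H₃ (hBA.trans hAH₃) hE's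
        (hBA.trans h'.2.2.1) (line_commutator_eq hBA h')
      have h3 : E' ≤ centralizer (E : Set G) :=
        (h2.trans (pCoreOf_le_centralizer_pCoreOf H₃ s' s hss'.symm)).trans
          (Subgroup.centralizer_le (by exact_mod_cast h1))
      have h4 : E' ≤ pCoreOf s' H' ⊓ H := le_inf h'.1 (h3.trans hE.2.2.2.2)
      have h5 := mem_centralizer_inf hG p A hAp z hzA hzD hNA hH' hAH' hsp' hF' hH hne.symm hNH
      exact hzE' (Subgroup.centralizer_le (by exact_mod_cast h4) h5)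
    · -- alpha type
      have hr' : ∃ t : ℕ, t.Prime ∧ ¬ PRankLE t 2 ↥(fittingOf H₃) := by
        by_contra hcon
        push Not at hcon
        exact hr hcon
      obtain ⟨t, ht, hF₃⟩ := hr'
      have htp : t ≠ p := ne_of_alpha hG p A hAp hAc B hBA hBe hB3 hAU hH₃ ht hF₃
      have hN₃ : normalizer (A : Set G) ≤ H₃ := hNA H₃ t hH₃ hAH₃ ht htp hF₃
      by_cases h3 : H₃ = H'
      · rw [← h3]; exact hEH₃
      · exfalso
        have h4 : E' ≤ pCoreOf s' H' ⊓ H₃ := le_inf h'.1 hE'H₃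
        have h5 := mem_centralizer_inf hG p A hAp z hzA hzD hNA hH' hAH' hsp' hF' hH₃ (Ne.symm h3) hN₃
        exact hzE' (Subgroup.centralizer_le (by exact_mod_cast h4) h5)
  exact hne (hU H' hH' (hsub E₁ h₁) (hsub E₂ h₂)).symm

include hG hAp hAc hBA hBe hB3 hAU hzA hz1 hzD hNA in
/-- **(L2)** Uniqueness of the alpha-type member of `𝓜(A)` in a counterexample to BG 9.5. -/
theorem alpha_unique
    (hInv : ∀ (H : Subgroup G) (s : ℕ), IsCoatom H → A ≤ H → s.Prime → s ≠ p →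
      ¬ PRankLE s 2 ↥(fittingOf H) → ∀ Q : Subgroup G, IsPGroup s Q → A ≤ normalizer (Q : Set G) → Q ≤ H)
    (hL1 : ∀ (H : Subgroup G) (s : ℕ), IsCoatom H → A ≤ H → s.Prime → s ≠ p →
      ¬ PRankLE s 2 ↥(fittingOf H) → ∃ E₁ E₂ : Subgroup G, IsLine A B H s E₁ ∧ IsLine A B H s E₂ ∧
        ∀ M : Subgroup G, IsCoatom M → E₁ ≤ M → E₂ ≤ M → M = H)
    (hBt1 : ∀ M : Subgroup G, IsCoatom M → RankLE 2 ↥(fittingOf M) → ∀ (q : ℕ) [Fact q.Prime]
      (X B' : Subgroup G), X ≤ M → B' ≤ M → IsPGroup q X → B' ≤ normalizer (X : Set G) → ⁅X, B'⁆ = X →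
      X ≤ pCoreOf q M)
    (H H' : Subgroup G) (s s' : ℕ) (hH : IsCoatom H) (hAH : A ≤ H) (hs : s.Prime) (hsp : s ≠ p)
    (hF : ¬ PRankLE s 2 ↥(fittingOf H))
    (hH' : IsCoatom H') (hAH' : A ≤ H') (hs' : s'.Prime) (hsp' : s' ≠ p)
    (hF' : ¬ PRankLE s' 2 ↥(fittingOf H')) :
    H = H' := by
  have : Fact s.Prime := ⟨hs⟩
  have : Fact s'.Prime := ⟨hs'⟩
  by_cases hss' : s = s'
  · subst hss'
    have h1 : pCoreOf s H' ≤ H := hInv H s hH hAH hs hsp hF _
      (Cfsg.Agent.Lib.Helper47_SubAPI.isPGroup_pCoreOf H')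
      (hAH'.trans (Cfsg.Agent.Lib.Helper47_SubAPI.le_normalizer_pCoreOf H'))
    exact eq_of_pCoreOf_le hG hH' hF' hH h1
  · by_contra hne
    obtain ⟨E₁, E₂, h₁, h₂, hU⟩ := hL1 H s hH hAH hs hsp hF
    obtain ⟨E₁', E₂', h₁', h₂', hU'⟩ := hL1 H' s' hH' hAH' hs' hsp' hF'
    by_cases hc₁' : z ∈ centralizer (E₁' : Set G)
    · by_cases hc₂' : z ∈ centralizer (E₂' : Set G)
      · by_cases hc₁ : z ∈ centralizer (E₁ : Set G)
        · by_cases hc₂ : z ∈ centralizer (E₂ : Set G)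
          · obtain ⟨M, hM, hC⟩ := exists_isCoatom_ge (centralizer_singleton_ne_top hG hz1)
            have e1 := hU M hM ((le_centralizer_singleton hc₁).trans hC)
              ((le_centralizer_singleton hc₂).trans hC)
            have e2 := hU' M hM ((le_centralizer_singleton hc₁').trans hC)
              ((le_centralizer_singleton hc₂').trans hC)
            exact hne (e1.symm.trans e2)
          · exact key hG p A hAp hAc B hBA hBe hB3 hAU z hzA hzD hNA hBt1 hH' hAH' hsp' hF' hH hAH hsp hF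
              (Ne.symm hss') (Ne.symm hne) h₁' h₂' hU' h₂ hc₂
        · exact key hG p A hAp hAc B hBA hBe hB3 hAU z hzA hzD hNA hBt1 hH' hAH' hsp' hF' hH hAH hsp hF
            (Ne.symm hss') (Ne.symm hne) h₁' h₂' hU' h₁ hc₁
      · exact key hG p A hAp hAc B hBA hBe hB3 hAU z hzA hzD hNA hBt1 hH hAH hsp hF hH' hAH' hsp' hF'
          hss' hne h₁ h₂ hU h₂' hc₂'
    · exact key hG p A hAp hAc B hBA hBe hB3 hAU z hzA hzD hNA hBt1 hH hAH hsp hF hH' hAH' hsp' hF'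
        hss' hne h₁ h₂ hU h₁' hc₁'

end Main

end Cfsg.Agent.Lib.Helper29_U1402L2
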