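import Cfsg.Agent.S1451
import Cfsg.Agent.Lib.Helper1_Cores
import Cfsg.Agent.Lib.Helper2_PRank
import Cfsg.Prelude.Def_Amalgam
import Cfsg.Prelude.Def_OddOrderLocal
import Cfsg.Prelude.Def_OddOrder

/-!
# S1402 (BG 9.5): the three "beta type" facts Bt1, Bt2, Bt3 (helper34)

In a maximal subgroup `M` of a minimal simple group of odd order with `r(F(M)) ≤ 2` the derived
subgroup `M'` is nilpotent (S1451), so every `p`-subgroup of `M'` lies in `O_p(M)`.
-/

set_option autoImplicit false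
open Cfsg Subgroup

namespace Cfsg.Agent.Lib.Helper34_U1402

variable {G : Type*} [Group G] [Finite G]

/-- A `p`-subgroup of a nilpotent normal subgroup `K` of a finite group lies in `O_p`. -/
theorem le_pCore_of_le_nilpotent_normal {X : Type*} [Group X] [Finite X] (p : ℕ) [Fact p.Prime]
    (K : Subgroup X) [hKn : K.Normal] (hK : Group.IsNilpotent ↥K) (D : Subgroup X) (hDK : D ≤ K)
    (hD : IsPGroup p D) : D ≤ pCore p X := by
  have hD' : IsPGroup p (D.subgroupOf K) :=
    hD.comap_of_injective K.subtype K.subtype_injective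
  obtain ⟨Q, hQ⟩ := hD'.exists_le_sylow
  have htf := (Group.isNilpotent_of_finite_tfae (G := ↥K)).out 0 3
  have hQn : (Q : Subgroup ↥K).Normal := htf.mp hK p inferInstance Q
  have : (Q : Subgroup ↥K).Characteristic := Q.characteristic_of_normal hQn
  have hQM : ((Q : Subgroup ↥K).map K.subtype).Normal := ConjAct.normal_of_characteristic_of_normal
  have hQp : IsPGroup p ↥((Q : Subgroup ↥K).map K.subtype) := Q.isPGroup'.map _
  refine le_trans ?_ (Cfsg.Agent.Lib.Helper1_Cores.le_pCore hQM hQp)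
  intro d hd
  exact ⟨⟨d, hDK hd⟩, hQ (by simpa [mem_subgroupOf] using hd), rfl⟩

omit [Finite G] in
/-- (Bt2) `O_q(M)` and `O_r(M)` commute for `q ≠ r`. -/
theorem Bt2 (M : Subgroup G) (q r : ℕ) [Fact q.Prime] [Fact r.Prime] (hqr : q ≠ r) :
    Cfsg.pCoreOf q M ≤ centralizer (Cfsg.pCoreOf r M : Set G) := by
  have hq : IsPGroup q ↥(pCore q ↥M) := Cfsg.Agent.Lib.Helper1_Cores.pCore_isPGroup q
  have hr : IsPGroup r ↥(pCore r ↥M) := Cfsg.Agent.Lib.Helper1_Cores.pCore_isPGroup r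
  have hdis : Disjoint (pCore q ↥M) (pCore r ↥M) := IsPGroup.disjoint_of_ne q r hqr _ _ hq hr
  have : (pCore q ↥M).Normal := Cfsg.Agent.Lib.Helper1_Cores.pCore_normal q
  have : (pCore r ↥M).Normal := Cfsg.Agent.Lib.Helper1_Cores.pCore_normal r
  rintro _ ⟨x, hx, rfl⟩
  rw [mem_centralizer_iff]
  rintro _ ⟨y, hy, rfl⟩
  have h := Subgroup.commute_of_normal_of_disjoint _ _ inferInstance inferInstance hdis x y hx hy
  have h2 : y * x = x * y := h.eq.symm
  exact congrArg Subtype.val h2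

/-- (Bt3) a `p`-subgroup of `M'` lies in `O_p(M)` when `r(F(M)) ≤ 2`. -/
theorem Bt3 (hG : Cfsg.IsMinSimpleOddOrder G) (M : Subgroup G) (hM : IsCoatom M)
    (hr : Cfsg.RankLE 2 ↥(Cfsg.fittingOf M)) (p : ℕ) [Fact p.Prime]
    (D : Subgroup G) (hD : D ≤ ⁅M, M⁆) (hDp : IsPGroup p D) :
    D ≤ Cfsg.pCoreOf p M := by
  obtain ⟨hodd, -, -, hsolv⟩ := hG
  have : Group.IsSolvable ↥M := hsolv M hM.1
  have hoddM : Odd (Nat.card ↥M) := by
    have h1 : Nat.card ↥M ∣ Nat.card G := Subgroup.card_subgroup_dvd_card M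
    exact Odd.of_dvd_nat hodd h1
  have hr' : Cfsg.RankLE 2 ↥(fittingSubgroup ↥M) := by
    intro s hs
    exact Cfsg.Agent.Lib.Helper2_PRank.pRankLE_of_injective' s 2
      ((fittingSubgroup ↥M).equivMapOfInjective M.subtype M.subtype_injective).toMonoidHom
      (MulEquiv.injective _) (hr s hs)
  have hnil : Group.IsNilpotent ↥(commutator ↥M) :=
    (Cfsg.Agent.S1451.result hoddM (Or.inr hr')).1
  have hDM : D ≤ M := hD.trans (commutator_le.mpr fun a ha b hb =>
    M.mul_mem (M.mul_mem (M.mul_mem ha hb) (M.inv_mem ha)) (M.inv_mem hb))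
  have hD1 : D.subgroupOf M ≤ commutator ↥M := by
    have h1 : (commutator ↥M).map M.subtype = ⁅M, M⁆ := by
      rw [commutator_def, map_commutator, ← MonoidHom.range_eq_map, Subgroup.range_subtype]
    intro d hd
    have h2 : (d : G) ∈ (commutator ↥M).map M.subtype := by
      rw [h1]; exact hD (by simpa [mem_subgroupOf] using hd)
    obtain ⟨e, he, hed⟩ := h2
    have : e = d := Subtype.ext hed
    rwa [← this]
  have hD2 : IsPGroup p ↥(D.subgroupOf M) := hDp.comap_of_injective M.subtype M.subtype_injective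
  have h3 := le_pCore_of_le_nilpotent_normal p (commutator ↥M) hnil (D.subgroupOf M) hD1 hD2
  intro d hd
  exact ⟨⟨d, hDM hd⟩, h3 (by simpa [mem_subgroupOf] using hd), rfl⟩

/-- (Bt1) in a maximal subgroup `M` with `r(F(M)) ≤ 2`, a `q`-subgroup `X = [X, B]`
lies in `O_q(M)`. -/
theorem Bt1 (hG : Cfsg.IsMinSimpleOddOrder G) (M : Subgroup G) (hM : IsCoatom M)
    (hr : Cfsg.RankLE 2 ↥(Cfsg.fittingOf M)) (q : ℕ) [Fact q.Prime]
    (X B : Subgroup G) (hXM : X ≤ M) (hBM : B ≤ M) (hXq : IsPGroup q X)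
    (_hBX : B ≤ normalizer (X : Set G)) (hcomm : ⁅X, B⁆ = X) :
    X ≤ Cfsg.pCoreOf q M := by
  refine Bt3 hG M hM hr q X ?_ hXq
  rw [← hcomm]
  exact Subgroup.commutator_mono hXM hBM

end Cfsg.Agent.Lib.Helper34_U1402
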