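import Cfsg.Agent.Lib.Helper49_BG95
import Cfsg.Agent.Lib.Helper22_U1402a

/-!
# Bender-Glauberman 9.5, step (L3) (helper49)

Every `A`-invariant `q`-subgroup lies in the alpha-type member `H` of `M(A)`, given a line for `H`, a good point
and the uniqueness of the alpha-type member.
-/

set_option autoImplicit false

namespace Cfsg.Agent.Lib.Helper49_U1402L3

open Subgroup Cfsg Cfsg.Agent.Lib.Helper22_U1402 Cfsg.Agent.Lib.Helper22_Uniq

variable {G : Type*} [Group G] [Finite G]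

/-- a subgroup of prime order normalized but not centralized by `B` is its own commutator with `B` -/
theorem commutator_eq_of_card_prime {s : ℕ} (hs : s.Prime) {E B : Subgroup G} (hE : Nat.card E = s)
    (hBE : B ≤ normalizer (E : Set G)) (hBC : ¬ B ≤ centralizer (E : Set G)) : ⁅E, B⁆ = E := by
  have hle : ⁅E, B⁆ ≤ E := Subgroup.commutator_le.mpr (by
    intro y hy a ha
    rw [commutatorElement_def]
    have h1 : a * y⁻¹ * a⁻¹ ∈ E := (mem_normalizer_iff.mp (hBE ha) y⁻¹).mp (E.inv_mem hy)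
    have h2 : y * a * y⁻¹ * a⁻¹ = y * (a * y⁻¹ * a⁻¹) := by group
    rw [h2]
    exact E.mul_mem hy h1)
  have hne : ⁅E, B⁆ ≠ ⊥ := by
    intro h
    rw [Subgroup.commutator_eq_bot_iff_le_centralizer] at h
    apply hBC
    intro b hb
    rw [mem_centralizer_iff]
    intro e he
    exact ((mem_centralizer_iff.mp (h he)) b hb).symm
  have hdvd : Nat.card ↥⁅E, B⁆ ∣ s := hE ▸ Subgroup.card_dvd_of_le hle
  rcases (Nat.dvd_prime hs).mp hdvd with h1 | h1
  · exact absurd ((Subgroup.card_eq_one).mp h1) hne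
  · exact Subgroup.eq_of_le_of_card_ge hle (by rw [h1, hE])

/-- **(L3)** from one line `E₁` and a good point `b`. -/
theorem L3_of_line (hG : IsMinSimpleOddOrder G) (p : ℕ) [hp : Fact p.Prime]
    (A : Subgroup G) (hAp : IsPGroup p A) (hAc : IsMulCommutative A)
    (B : Subgroup G) (hBA : B ≤ A) (hBe : IsElementaryAbelian p B) (hB3 : Nat.card B = p ^ 3)
    (hAU : ¬ InUniqueMaximal A)
    (H : Subgroup G) (s : ℕ) (hs : s.Prime)
    (E₁ : Subgroup G) (hE₁ : IsLine A B H s E₁) (b : G) (hbB : b ∈ B) (hCb : centralizer ({b} : Set G) ≤ H)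
    (huniq : ∀ (H' : Subgroup G) (s' : ℕ), IsCoatom H' → A ≤ H' → s'.Prime → s' ≠ p →
      ¬ PRankLE s' 2 ↥(fittingOf H') → H' = H)
    (q : ℕ) (hq : q.Prime) (hqp : q ≠ p) (hqs : q ≠ s)
    (Q : Subgroup G) (hQ : IsPGroup q Q) (hAQ : A ≤ normalizer (Q : Set G)) :
    Q ≤ H := by
  have hpp : p.Prime := hp.out
  have : Fact s.Prime := ⟨hs⟩
  obtain ⟨hE₁S, hE₁c, hAE₁, hBE₁, hCE₁⟩ := hE₁
  have hAc' : ∀ a ∈ A, ∀ b ∈ A, a * b = b * a := by
    intro a ha b hb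
    have h1 : (⟨a, ha⟩ : A) * ⟨b, hb⟩ = ⟨b, hb⟩ * ⟨a, ha⟩ := isMulCommutative_iff.mp hAc _ _
    exact congrArg Subtype.val h1
  have hBc : ∀ a ∈ B, ∀ b ∈ B, a * b = b * a := fun a ha b hb => hAc' a (hBA ha) b (hBA hb)
  have hpQ : ¬ p ∣ Nat.card Q := by
    have : Fact q.Prime := ⟨hq⟩
    obtain ⟨n, hn⟩ := IsPGroup.iff_card.mp hQ
    rw [hn]
    intro hdvd
    exact hqp ((Nat.prime_dvd_prime_iff_eq hpp hq).mp (hpp.dvd_of_dvd_pow hdvd)).symm
  have hBQ : B ≤ normalizer (Q : Set G) := hBA.trans hAQ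
  have hgen := Cfsg.Agent.Lib.Helper22_Hyperplane.le_iSup_centralizer_hyperplanes p B Q hBc hBe.2 hpQ hBQ
  refine hgen.trans (iSup_le ?_)
  rintro ⟨B0, hB0B, hB0i⟩
  show Q ⊓ centralizer (B0 : Set G) ≤ H
  set QB : Subgroup G := Q ⊓ centralizer (B0 : Set G) with hQB
  have hB1i : (B ⊓ centralizer (E₁ : Set G)).relIndex B ≤ p :=
    relIndex_centralizer_le p B hBe s E₁ hE₁c (hBA.trans hAE₁)
  obtain ⟨x, hx, hx1⟩ := exists_mem_inf_ne_one p B hB3 B0 (B ⊓ centralizer (E₁ : Set G)) hB0B inf_le_left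
    hB0i hB1i
  have hxB0 : x ∈ B0 := (mem_inf.mp hx).1
  have hxE : x ∈ centralizer (E₁ : Set G) := (mem_inf.mp (mem_inf.mp hx).2).2
  have hxA : x ∈ A := hBA (hB0B hxB0)
  have hCx : centralizer ({x} : Set G) ≠ ⊤ :=
    Cfsg.Agent.Lib.Helper22_BGTransRank.centralizer_singleton_ne_top hG hx1
  obtain ⟨H₃, hH₃, hCH₃⟩ := exists_isCoatom_ge hCx
  have hAx : A ≤ centralizer ({x} : Set G) := by
    intro a ha
    rw [mem_centralizer_singleton_iff]
    exact hAc' a ha x hxA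
  have hEx : E₁ ≤ centralizer ({x} : Set G) := by
    intro e he
    rw [mem_centralizer_singleton_iff]
    exact ((mem_centralizer_iff.mp hxE) e he)
  have hQx : QB ≤ centralizer ({x} : Set G) := by
    intro y hy
    rw [mem_centralizer_singleton_iff]
    exact ((mem_centralizer_iff.mp (mem_inf.mp hy).2) x hxB0).symm
  have hAH₃ : A ≤ H₃ := hAx.trans hCH₃
  have hEH₃ : E₁ ≤ H₃ := hEx.trans hCH₃
  have hQH₃ : QB ≤ H₃ := hQx.trans hCH₃
  have hEs : IsPGroup s E₁ := IsPGroup.of_card (n := 1) (by rw [hE₁c, pow_one])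
  by_cases hβ : RankLE 2 ↥(fittingOf H₃)
  · -- `H₃` of beta type
    have hEcomm : ⁅E₁, B⁆ = E₁ := commutator_eq_of_card_prime hs hE₁c (hBA.trans hAE₁) hBE₁
    have hED : E₁ ≤ ⁅H₃, H₃⁆ := by
      rw [← hEcomm]
      exact Subgroup.commutator_mono hEH₃ (hBA.trans hAH₃)
    have hBQB : B ≤ normalizer (QB : Set G) := by
      intro a ha
      exact Cfsg.Agent.Lib.Helper22_Hyperplane.mem_normalizer_inf_centralizer (hBQ ha)
        (fun d hd => hBc a ha d (hB0B hd))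
    have hYQB : ⁅QB, B⁆ ≤ QB := Subgroup.commutator_le.mpr (by
      intro y hy a ha
      rw [commutatorElement_def]
      have h1 : a * y⁻¹ * a⁻¹ ∈ QB := (mem_normalizer_iff.mp (hBQB ha) y⁻¹).mp (QB.inv_mem hy)
      have h2 : y * a * y⁻¹ * a⁻¹ = y * (a * y⁻¹ * a⁻¹) := by group
      rw [h2]
      exact QB.mul_mem hy h1)
    have hYD : ⁅QB, B⁆ ≤ ⁅H₃, H₃⁆ := Subgroup.commutator_mono hQH₃ (hBA.trans hAH₃)
    have hYq : IsPGroup q ↥⁅QB, B⁆ := hQ.to_le (hYQB.trans inf_le_left)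
    have hYE : ⁅QB, B⁆ ≤ centralizer (E₁ : Set G) :=
      Cfsg.Agent.Lib.Helper49_BG95.beta_commute hG hH₃ hβ hs hq (Ne.symm hqs) hED hYD hEs hYq
    have hBp : IsPGroup p B := isPGroup_of_isElementaryAbelian hBe
    have hcop : (Nat.card B).Coprime (Nat.card QB) := by
      rw [hB3]
      apply Nat.Coprime.pow_left
      rw [Nat.Prime.coprime_iff_not_dvd hpp]
      intro hdvd
      exact hpQ (hdvd.trans (Subgroup.card_dvd_of_le inf_le_left))
    have hsolv : Group.IsSolvable B ∨ Group.IsSolvable QB := by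
      left
      have := hBp.isNilpotent
      infer_instance
    intro k hk
    obtain ⟨d, hd, c, hc, rfl⟩ :=
      Cfsg.Agent.Lib.Helper24_CoprimeAction.coprime_decomp B QB hBQB hcop hsolv hk
    apply H.mul_mem (hCE₁ (hYE hd))
    apply hCb
    exact centralizer_le (Set.singleton_subset_iff.mpr hbB) (mem_inf.mp hc).2
  · -- `H₃` of alpha type
    unfold RankLE at hβ
    push Not at hβ
    obtain ⟨s₃, hs₃, hF₃⟩ := hβ
    have hs₃p : s₃ ≠ p := by
      rintro rfl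
      exfalso
      apply hAU
      apply Cfsg.Agent.S1401.result hG H₃ hH₃ s₃ hF₃ A hAp hAc
      apply not_pRankLE_of_elemAb hBA hBc hBe.2
      rw [hB3]
      exact Nat.pow_lt_pow_right hpp.one_lt (by norm_num)
    rw [← huniq H₃ s₃ hH₃ hAH₃ hs₃ hs₃p hF₃]
    exact hQH₃

/-- **(L3)** in the shape of the specification, with (L1) for `H` as a hypothesis. -/
theorem L3 (hG : IsMinSimpleOddOrder G) (p : ℕ) [Fact p.Prime]
    (A : Subgroup G) (hAp : IsPGroup p A) (hAc : IsMulCommutative A)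
    (B : Subgroup G) (hBA : B ≤ A) (hBe : IsElementaryAbelian p B) (hB3 : Nat.card B = p ^ 3)
    (hAU : ¬ InUniqueMaximal A)
    (H : Subgroup G) (s : ℕ) (_hH : IsCoatom H) (_hAH : A ≤ H) (hs : s.Prime) (_hsp : s ≠ p)
    (_hF : ¬ PRankLE s 2 ↥(fittingOf H))
    (hL1 : ∃ E₁ E₂ : Subgroup G, IsLine A B H s E₁ ∧ IsLine A B H s E₂ ∧
      ∀ M : Subgroup G, IsCoatom M → E₁ ≤ M → E₂ ≤ M → M = H)
    (huniq : ∀ (H' : Subgroup G) (s' : ℕ), IsCoatom H' → A ≤ H' → s'.Prime → s' ≠ p →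
      ¬ PRankLE s' 2 ↥(fittingOf H') → H' = H)
    (q : ℕ) (hq : q.Prime) (hqp : q ≠ p) (hqs : q ≠ s)
    (Q : Subgroup G) (hQ : IsPGroup q Q) (hAQ : A ≤ normalizer (Q : Set G)) :
    Q ≤ H := by
  have : Fact s.Prime := ⟨hs⟩
  obtain ⟨E₁, E₂, h₁, h₂, hU⟩ := hL1
  obtain ⟨b, hbB, -, hCb⟩ := exists_good_point hG p A B hBA hBe hB3 H s E₁ E₂ h₁ h₂ hU
  exact L3_of_line hG p A hAp hAc B hBA hBe hB3 hAU H s hs E₁ h₁ b hbB hCb huniq q hq hqp hqs Q hQ hAQ

end Cfsg.Agent.Lib.Helper49_U1402L3
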