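import Cfsg.Agent.S1403
import Cfsg.Agent.S1409
import Cfsg.Agent.Lib.Helper49_Alpha
import Cfsg.Agent.Lib.Helper73_BG12
import Cfsg.Agent.Lib.Helper22_FitLocal2
import Cfsg.Agent.Lib.Helper22_BGTrans
import Cfsg.Agent.Lib.Helper22_BGTransUp
import Cfsg.Agent.Lib.Helper22_Uniq5
import Cfsg.Agent.Lib.Helper22_Uniq6
import Cfsg.Agent.Lib.Helper1_Cores
import Cfsg.Agent.Lib.Helper21_Fitting
import Cfsg.Agent.Lib.Helper24_CoprimeAction
import Cfsg.Agent.Lib.Helper32_Cores
import Cfsg.Agent.Lib.Helper22_CoreCentralizer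

/-!
# Bender--Glauberman: the `σ(M)'`-part of `F(M)` (helper97)

For a maximal subgroup `M` of a minimal simple group of odd order, `Y = O_{σ(M)'}(F(M))` is a cyclic
`τ₂(M)`-group and `F(M) = F(M_σ) × Y` (statement S1439), proved from the landed S1403, S1409 and from
part (b) of the frozen statement S1417, taken as the hypothesis `Tau2Hyp`.
-/

set_option autoImplicit false

namespace Cfsg.Agent.Lib.Helper97_BG15Y

open Subgroup Cfsg Cfsg.Agent.Lib.Helper22_Uniq Cfsg.Agent.Lib.Helper22_BGTrans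

universe u

variable {G : Type u} [Group G]

/-- Part (b) of the frozen statement S1417, as a hypothesis. -/
def Tau2Hyp (G : Type u) [Group G] : Prop :=
  ∀ (M : Subgroup G), IsCoatom M → ∀ (p : ℕ) [Fact p.Prime], p ∈ tau2 M → ∀ A : Subgroup G,
    A ≤ M → IsElementaryAbelian p A → Nat.card A = p ^ 2 → ∀ P : Sylow p M,
      A ≤ (P : Subgroup M).map M.subtype →
        (∀ x ∈ (P : Subgroup M).map M.subtype, x ^ p = 1 ↔ x ∈ A) ∧
          ¬ normalizer ((((P : Subgroup M).map M.subtype : Subgroup G)) : Set G) ≤ M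

/-- a nontrivial subgroup of `M` normalized by the maximal subgroup `M` has normalizer `M` -/
theorem normalizer_le_of_le (hG : IsMinSimpleOddOrder G) {M A : Subgroup G} (hM : IsCoatom M)
    (hA1 : A ≠ ⊥) (hAM : A ≤ M) (hMA : M ≤ normalizer (A : Set G)) : normalizer (A : Set G) ≤ M := by
  have hAtop : A ≠ ⊤ := by
    rintro rfl
    exact hM.1 (top_le_iff.mp hAM)
  have h1 : normalizer (A : Set G) ≠ ⊤ := normalizer_ne_top hG hA1 hAtop
  rcases hM.le_iff.mp hMA with h | h
  · exact absurd h h1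
  · exact h.le

variable [Finite G]

/-- **Key lemma.** A nontrivial normal `p`-subgroup of `M` with `p ∉ σ(M)` is cyclic, and `p ∈ τ₂(M)`. -/
theorem key (hG : IsMinSimpleOddOrder G) (hT : Tau2Hyp G) {M : Subgroup G} (hM : IsCoatom M)
    {p : ℕ} [hp : Fact p.Prime] (hpσ : p ∉ sigma M) {Q : Subgroup G} (hQp : IsPGroup p Q)
    (hQM : Q ≤ M) (hMQ : M ≤ normalizer (Q : Set G)) (hQ1 : Q ≠ ⊥) : p ∈ tau2 M ∧ IsCyclic Q := by
  have hU : Cfsg.Agent.Lib.Helper49_Sigma.UniqHyp G :=
    fun K h1 h2 h3 => Cfsg.Agent.S1403.result hG K h1 h2 h3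
  have hpG : p ∣ Nat.card G := dvd_card_of_ne_bot hQp hQ1
  have hp2 : p ≠ 2 := two_ne_of_dvd_card hG hpG
  have hr2 : PRankLE p 2 ↥M := by
    by_contra h
    exact hpσ (Cfsg.Agent.Lib.Helper49_Alpha.mem_sigma_of_mem_alpha hG hU hM ⟨hp.out, h⟩)
  have hlt : p ^ 1 < p ^ 2 := Nat.pow_lt_pow_right hp.out.one_lt (by norm_num)
  have hr1 : ¬ PRankLE p 1 ↥M := by
    intro h1
    have hcyc : IsCyclic Q := by
      by_contra hnc
      obtain ⟨A, hAQ, hAe, hA2⟩ :=
        Cfsg.Agent.Lib.Helper73_BG12.exists_elemAb_sq_of_not_isCyclic hp2 hQp hnc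
      refine not_pRankLE_of_elemAb (hAQ.trans hQM) ?_ hAe.2 ?_ h1
      · intro a ha b hb
        have h := hAe.1.is_comm.comm (⟨a, ha⟩ : A) ⟨b, hb⟩
        exact congrArg Subtype.val h
      · rw [hA2]; exact hlt
    obtain ⟨n, hn⟩ := IsPGroup.iff_card.mp hQp
    have hn0 : n ≠ 0 := by
      rintro rfl
      rw [pow_zero] at hn
      exact hQ1 ((Subgroup.card_eq_one).mp hn)
    obtain ⟨X', hX'⟩ := Sylow.exists_subgroup_card_pow_prime (G := ↥Q) p (n := 1)
      (by rw [hn]; exact pow_dvd_pow p (Nat.one_le_iff_ne_zero.mpr hn0))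
    set X : Subgroup G := X'.map Q.subtype with hX
    have hXQ : X ≤ Q := Subgroup.map_subtype_le _
    have hXc : Nat.card X = p := by
      rw [hX, Subgroup.card_map_of_injective Q.subtype_injective, hX', pow_one]
    have hX1 : X ≠ ⊥ := by
      intro h
      rw [h, Subgroup.card_bot] at hXc
      exact hp.out.one_lt.ne hXc
    have hMX : M ≤ normalizer (X : Set G) :=
      hMQ.trans (Cfsg.Agent.Lib.Helper73_BG12.normalizer_le_normalizer_of_isCyclic hcyc hXQ)
    have hNX : normalizer (X : Set G) ≤ M := normalizer_le_of_le hG hM hX1 (hXQ.trans hQM) hMX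
    exact (Cfsg.Agent.S1409.result hG M hM p hpσ X hXc hNX).1.2 h1
  have hτ : p ∈ tau2 M := ⟨hp.out, hpσ, hr2, hr1⟩
  refine ⟨hτ, ?_⟩
  by_contra hnc
  obtain ⟨A, hAQ, hAe, hA2⟩ :=
    Cfsg.Agent.Lib.Helper73_BG12.exists_elemAb_sq_of_not_isCyclic hp2 hQp hnc
  have hA1 : A ≠ ⊥ := by
    intro h
    rw [h, Subgroup.card_bot] at hA2
    have := Nat.one_lt_pow (n := 2) (by norm_num) hp.out.one_lt
    omega
  -- a Sylow `p`-subgroup of `M` containing `Q`
  have hQ'p : IsPGroup p ↥(Q.subgroupOf M) :=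
    hQp.of_injective (Q.subgroupOfEquivOfLe hQM).toMonoidHom (Q.subgroupOfEquivOfLe hQM).injective
  obtain ⟨P, hP⟩ := hQ'p.exists_le_sylow
  have hQP : Q ≤ (P : Subgroup M).map M.subtype := by
    have h := Subgroup.map_mono (f := M.subtype) hP
    rwa [Subgroup.map_subgroupOf_eq_of_le hQM] at h
  obtain ⟨hiff, hnot⟩ := hT M hM p hτ A (hAQ.trans hQM) hAe hA2 P (hAQ.trans hQP)
  have hconj : ∀ (g : G) (K : Subgroup G), A ≤ K → K ≤ (P : Subgroup M).map M.subtype →
      g ∈ normalizer (K : Set G) → ∀ x ∈ A, g * x * g⁻¹ ∈ A := by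
    intro g K hAK hKP hg x hx
    have h1 : g * x * g⁻¹ ∈ K := (mem_normalizer_iff.mp hg x).mp (hAK hx)
    have h2 : (g * x * g⁻¹) ^ p = 1 := by
      rw [conj_pow, hAe.2 x hx, mul_one, mul_inv_cancel]
    exact (hiff _ (hKP h1)).mp h2
  have hMA : M ≤ normalizer (A : Set G) :=
    Cfsg.Agent.Lib.Helper22_BGTransUp.le_normalizer_of_conj_mem
      (fun g hg x hx => hconj g Q hAQ hQP (hMQ hg) x hx)
  have hNA : normalizer (A : Set G) ≤ M := normalizer_le_of_le hG hM hA1 (hAQ.trans hQM) hMA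
  apply hnot
  refine le_trans ?_ hNA
  exact Cfsg.Agent.Lib.Helper22_BGTransUp.le_normalizer_of_conj_mem
    (fun g hg x hx => hconj g _ (hAQ.trans hQP) le_rfl hg x hx)

omit [Finite G] in
/-- the image in `G` of a Sylow subgroup of a nilpotent subgroup `Y` is normalized by `N_G(Y)` -/
theorem normalizer_le_normalizer_sylow [Finite G] {Y : Subgroup G} (hY : Group.IsNilpotent ↥Y) {q : ℕ}
    [Fact q.Prime] (Qs : Sylow q ↥Y) :
    normalizer (Y : Set G) ≤
      normalizer ((((Qs : Subgroup ↥Y).map Y.subtype : Subgroup G)) : Set G) := by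
  have hn : (Qs : Subgroup ↥Y).Normal := inferInstance
  have : (Qs : Subgroup ↥Y).Characteristic := Qs.characteristic_of_normal hn
  exact Cfsg.Agent.Lib.Helper24_CoprimeAction.normalizer_le_normalizer_map_of_characteristic _ _

omit [Finite G] in
/-- a nilpotent subgroup of `M` normalized by `M` lies in `F(M)` -/
theorem le_fittingOf {N M : Subgroup G} (hNM : N ≤ M) (hMN : M ≤ normalizer (N : Set G))
    (hnil : Group.IsNilpotent ↥N) : N ≤ fittingOf M := by
  have hn : (N.subgroupOf M).Normal := (normal_subgroupOf_iff_le_normalizer hNM).mpr hMN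
  have hnil' : Group.IsNilpotent ↥(N.subgroupOf M) :=
    Cfsg.Agent.Lib.Helper21_Fitting.isNilpotent_of_mulEquiv (Subgroup.subgroupOfEquivOfLe hNM).symm hnil
  have h1 : N.subgroupOf M ≤ fittingSubgroup ↥M :=
    Cfsg.Agent.Lib.Helper1_Cores.le_fittingSubgroup hn hnil'
  have h2 := Subgroup.map_mono (f := M.subtype) h1
  rwa [Subgroup.map_subgroupOf_eq_of_le hNM] at h2

/-- **BG, the `σ(M)'`-part of `F(M)`** (statement S1439), modulo part (b) of S1417. -/
theorem main (hG : IsMinSimpleOddOrder G) (hT : Tau2Hyp G) (M : Subgroup G) (hM : IsCoatom M) :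
    IsCyclic ↥(piCoreOf {q | q.Prime ∧ q ∉ sigma M} (fittingOf M)) ∧
      (∀ p : ℕ, p.Prime → p ∣ Nat.card ↥(piCoreOf {q | q.Prime ∧ q ∉ sigma M} (fittingOf M)) →
        p ∈ tau2 M) ∧
      fittingOf M = fittingOf (sigmaCore M) ⊔ piCoreOf {q | q.Prime ∧ q ∉ sigma M} (fittingOf M) := by
  set π' : Set ℕ := {q | q.Prime ∧ q ∉ sigma M} with hπ'
  set X : Subgroup G := fittingOf M with hX
  set Y : Subgroup G := piCoreOf π' X with hY
  have hXM : X ≤ M := Cfsg.Agent.Lib.Helper22_FitLocal.fittingOf_le M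
  have hYX : Y ≤ X := piCoreOf_le π' X
  have hMX : M ≤ normalizer (X : Set G) := Cfsg.Agent.Lib.Helper22_FitLocal.le_normalizer_fittingOf M
  have hMY : M ≤ normalizer (Y : Set G) := by
    refine hMX.trans ?_
    have : (piCore π' ↥X).Characteristic := Cfsg.Agent.Lib.Helper32_Cores.piCore_characteristic π'
    exact Cfsg.Agent.Lib.Helper24_CoprimeAction.normalizer_le_normalizer_map_of_characteristic _ _
  have hXnil : Group.IsNilpotent ↥X := Cfsg.Agent.Lib.Helper22_FitLocal.isNilpotent_fittingOf M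
  have hYnil : Group.IsNilpotent ↥Y := by
    have h1 : Group.IsNilpotent ↥(piCore π' ↥X) := inferInstance
    exact Cfsg.Agent.Lib.Helper21_Fitting.isNilpotent_of_mulEquiv
      ((piCore π' ↥X).equivMapOfInjective X.subtype X.subtype_injective) h1
  -- the Sylow subgroups of `Y`
  have hsyl : ∀ (q : ℕ) [Fact q.Prime] (Qs : Sylow q ↥Y), (Qs : Subgroup ↥Y) ≠ ⊥ →
      q ∈ tau2 M ∧ IsCyclic ↥((Qs : Subgroup ↥Y).map Y.subtype) := by
    intro q _ Qs hQs
    have hQY : (Qs : Subgroup ↥Y).map Y.subtype ≤ Y := Subgroup.map_subtype_le _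
    have hQp : IsPGroup q ↥((Qs : Subgroup ↥Y).map Y.subtype) := Qs.isPGroup'.map _
    have hQ1 : (Qs : Subgroup ↥Y).map Y.subtype ≠ ⊥ := by
      intro h
      exact hQs ((Subgroup.map_eq_bot_iff_of_injective _ Y.subtype_injective).mp h)
    have hqσ : q ∉ sigma M := by
      have hq : q ∣ Nat.card ↥Y := dvd_card_of_ne_bot (G := ↥Y) Qs.isPGroup' hQs
      exact (piCoreOf_primes π' X q Fact.out hq).2
    exact key hG hT hM hqσ hQp (hQY.trans (hYX.trans hXM))
      (hMY.trans (normalizer_le_normalizer_sylow hYnil Qs)) hQ1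
  refine ⟨?_, ?_, ?_⟩
  · -- cyclic
    have hZ : IsZGroup ↥Y := by
      refine ⟨fun q hq Qs => ?_⟩
      have : Fact q.Prime := ⟨hq⟩
      by_cases hQs : (Qs : Subgroup ↥Y) = ⊥
      · rw [hQs]
        infer_instance
      · have h2 := (hsyl q Qs hQs).2
        exact isCyclic_of_surjective
          ((Qs : Subgroup ↥Y).equivMapOfInjective Y.subtype Y.subtype_injective).symm
          ((Qs : Subgroup ↥Y).equivMapOfInjective Y.subtype Y.subtype_injective).symm.surjective
    infer_instance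
  · intro p hp hpd
    have : Fact p.Prime := ⟨hp⟩
    obtain ⟨Qs⟩ : Nonempty (Sylow p ↥Y) := inferInstance
    have hQs : (Qs : Subgroup ↥Y) ≠ ⊥ := Qs.ne_bot_of_dvd_card hpd
    exact (hsyl p Qs hQs).1
  · apply le_antisymm
    · -- `F(M)` is the join of the `O_p(M)`
      have h1 : X = ⨆ p : Nat.Primes, (pCore (p : ℕ) ↥M).map M.subtype := by
        rw [hX]
        unfold fittingOf
        rw [Cfsg.Agent.Lib.Helper1_Cores.fittingSubgroup_eq_iSup_pCore, Subgroup.map_iSup]
      rw [h1]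
      refine iSup_le (fun p => ?_)
      have : Fact (p : ℕ).Prime := ⟨p.2⟩
      set T : Subgroup G := (pCore (p : ℕ) ↥M).map M.subtype with hTdef
      have hTM : T ≤ M := Subgroup.map_subtype_le _
      have hTp : IsPGroup (p : ℕ) ↥T := (Cfsg.Agent.Lib.Helper1_Cores.pCore_isPGroup (p : ℕ)).map _
      have hMT : M ≤ normalizer (T : Set G) :=
        Cfsg.Agent.Lib.Helper22_CoreCentralizer.le_normalizer_map_subtype (pCore (p : ℕ) ↥M)
      have hTX : T ≤ X := by
        rw [hX]
        exact Subgroup.map_mono (Cfsg.Agent.Lib.Helper1_Cores.pCore_le_fittingSubgroup (p : ℕ))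
      have hprimes : ∀ q : ℕ, q.Prime → q ∣ Nat.card ↥T → q = (p : ℕ) := by
        intro q hq hqd
        obtain ⟨n, hn⟩ := IsPGroup.iff_card.mp hTp
        rw [hn] at hqd
        exact (Nat.prime_dvd_prime_iff_eq hq p.2).mp (hq.dvd_of_dvd_pow hqd)
      by_cases hpσ : (p : ℕ) ∈ sigma M
      · refine le_trans ?_ le_sup_left
        have hTS : T ≤ sigmaCore M := by
          unfold sigmaCore
          refine Subgroup.map_mono ?_
          refine Cfsg.Agent.Lib.Helper32_Cores.le_piCore (Cfsg.Agent.Lib.Helper1_Cores.pCore_normal _) ?_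
          intro q hq hqd
          have hc : Nat.card ↥T = Nat.card ↥(pCore (p : ℕ) ↥M) :=
            Subgroup.card_map_of_injective M.subtype_injective
          rw [← hc] at hqd
          rw [hprimes q hq hqd]
          exact hpσ
        have hSM : sigmaCore M ≤ M := Subgroup.map_subtype_le _
        exact le_fittingOf hTS (hSM.trans hMT) hTp.isNilpotent
      · refine le_trans ?_ le_sup_right
        refine le_piCoreOf hTX (hXM.trans hMT) ?_
        intro q hq hqd
        rw [hprimes q hq hqd]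
        exact ⟨p.2, hpσ⟩
    · refine sup_le ?_ hYX
      have hSM : sigmaCore M ≤ M := Subgroup.map_subtype_le _
      have hMS : M ≤ normalizer ((sigmaCore M : Subgroup G) : Set G) :=
        Cfsg.Agent.Lib.Helper22_CoreCentralizer.le_normalizer_map_subtype (piCore (sigma M) ↥M)
      have hFS : fittingOf (sigmaCore M) ≤ sigmaCore M := Cfsg.Agent.Lib.Helper22_FitLocal.fittingOf_le _
      have hNN : normalizer ((sigmaCore M : Subgroup G) : Set G) ≤
          normalizer ((fittingOf (sigmaCore M) : Subgroup G) : Set G) :=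
        Cfsg.Agent.Lib.Helper24_CoprimeAction.normalizer_le_normalizer_map_of_characteristic _ _
      exact le_fittingOf (hFS.trans hSM) (hMS.trans hNN)
        (Cfsg.Agent.Lib.Helper22_FitLocal.isNilpotent_fittingOf _)

end Cfsg.Agent.Lib.Helper97_BG15Y
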