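import Cfsg.Agent.S1446
import Cfsg.Agent.Lib.Helper78_SigmaDecomp
import Cfsg.Agent.Lib.Helper97_BG15Y
import Cfsg.Agent.Lib.Helper79_BG141
import Cfsg.Agent.Lib.Helper2_NarrowSolv

/-!
# Type `P₂`: `K` has prime order and `F(M) ⊇ M_σ` is a TI-subset (statement S1372; helper78)

`main` proves the statement S1372 from the landed S1446 (Frobenius groups acting in a prime manner)
and from the frozen statements S1350, S1353, S1355, S1365, S1429, S1430, S1439, S1440, taken as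
explicit hypotheses `H13xx G`.
-/

set_option autoImplicit false

namespace Cfsg.Agent.Lib.Helper78_BG1372

open Subgroup Cfsg Cfsg.Agent.Lib.Helper78_SigmaDecomp

universe u

variable {G : Type u} [Group G]

/-- first conjunct of S1350 -/
def H1350 (G : Type u) [Group G] : Prop :=
  ∀ M : Subgroup G, IsCoatom M → IsPiHallOf (sigma M) (sigmaCore M) M

/-- S1353 -/
def H1353 (G : Type u) [Group G] : Prop :=
  ∀ M : Subgroup G, IsCoatom M → ∀ K U : Subgroup G, IsSigmaDecomposition M K U →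
    ∀ k ∈ K, k ≠ 1 → U ⊓ centralizer ({k} : Set G) = ⊥

/-- first two conjuncts of S1355 -/
def H1355 (G : Type u) [Group G] : Prop :=
  ∀ M : Subgroup G, IsCoatom M → fittingHallOf M ≠ ⊥ ∧ fittingHallOf M ≤ sigmaCore M

/-- first conjunct of S1365 -/
def H1365 (G : Type u) [Group G] : Prop :=
  ∀ M : Subgroup G, IsCoatom M → ∀ K U : Subgroup G, IsSigmaDecomposition M K U → K ≠ ⊥ →
    ⁅M, M⁆ = U ⊔ sigmaCore M

/-- last two conjuncts of S1429 -/
def H1429 (G : Type u) [Group G] : Prop :=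
  ∀ M : Subgroup G, IsCoatom M →
    (¬ (∀ q : ℕ, q.Prime → q ∣ Nat.card M → q ∉ sigma M → q ∈ kappa M)) →
    ∀ (p : ℕ) [Fact p.Prime], p ∣ Nat.card M → p ∉ sigma M ∪ kappa M → ∀ S : Sylow p M,
      sigmaCore M ⊓ centralizer ((closure {x : G | x ∈ (S : Subgroup M).map M.subtype ∧ x ^ p = 1} :
        Subgroup G) : Set G) = ⊥ ∧ Group.IsNilpotent (sigmaCore M)

/-- first conjunct of S1430 -/
def H1430 (G : Type u) [Group G] : Prop :=
  ∀ M : Subgroup G, IsCoatom M → ∀ K : Subgroup G, IsPiHallOf (kappa M) K M → K ≠ ⊥ →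
    ∀ k ∈ K, k ≠ 1 →
      sigmaCore M ⊓ centralizer ({k} : Set G) = sigmaCore M ⊓ centralizer (K : Set G)

/-- first two conjuncts of S1439 -/
def H1439 (G : Type u) [Group G] : Prop :=
  ∀ M : Subgroup G, IsCoatom M →
    IsCyclic ↥(piCoreOf {q | q.Prime ∧ q ∉ sigma M} (fittingOf M)) ∧
      ∀ p : ℕ, p.Prime → p ∣ Nat.card ↥(piCoreOf {q | q.Prime ∧ q ∉ sigma M} (fittingOf M)) →
        p ∈ tau2 M

/-- second conjunct of S1440 -/
def H1440 (G : Type u) [Group G] : Prop :=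
  ∀ M : Subgroup G, IsCoatom M → ∀ K U : Subgroup G, IsSigmaDecomposition M K U →
    ∀ g : G, g ∉ M → fittingOf M ⊓ (fittingOf M).map (MulAut.conj g).toMonoidHom ≠ ⊥ →
      ⁅M, M⁆ = fittingOf M ∧
        fittingOf M = sigmaCore M ⊔ piCoreOf {q | q.Prime ∧ q ∉ sigma M} (fittingOf M)

variable [Finite G]

/-- a prime dividing `#U` exists when `U ≠ 1` -/
theorem exists_prime_dvd_card {U : Subgroup G} (hU1 : U ≠ ⊥) : ∃ p : ℕ, p.Prime ∧ p ∣ Nat.card U := by
  apply Nat.exists_prime_and_dvd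
  intro h
  exact hU1 (Subgroup.card_eq_one.mp h)

/-- `M_σ` is nilpotent and `U` acts faithfully without fixed points on it, for `U ≠ 1` -/
theorem nilpotent_and_fpf (h50 : H1350 G) (h29 : H1429 G) {M K U : Subgroup G} (hM : IsCoatom M)
    (hKU : IsSigmaDecomposition M K U) (hU1 : U ≠ ⊥) :
    Group.IsNilpotent (sigmaCore M) ∧ sigmaCore M ⊓ centralizer (U : Set G) = ⊥ := by
  obtain ⟨p, hp, hpd⟩ := exists_prime_dvd_card hU1
  haveI : Fact p.Prime := ⟨hp⟩
  have hH := h50 M hM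
  obtain ⟨hpσ, hpκ⟩ := not_mem_of_dvd_card_U hKU hH hp hpd
  have hpM : p ∣ Nat.card M := hpd.trans (Subgroup.card_dvd_of_le (U_le hKU))
  have hP1 : ¬ (∀ q : ℕ, q.Prime → q ∣ Nat.card M → q ∉ sigma M → q ∈ kappa M) :=
    fun h => hpκ (h p hp hpM hpσ)
  obtain ⟨S, hS⟩ := exists_sylow_le_U hKU hH hpd
  have hnot : p ∉ sigma M ∪ kappa M := by
    rintro (h | h)
    · exact hpσ h
    · exact hpκ h
  obtain ⟨h1, h2⟩ := h29 M hM hP1 p hpM hnot S
  refine ⟨h2, ?_⟩
  rw [eq_bot_iff, ← h1]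
  refine inf_le_inf_left _ (centralizer_le ?_)
  intro x hx
  have hcl : closure {x : G | x ∈ (S : Subgroup M).map M.subtype ∧ x ^ p = 1} ≤ U := by
    rw [closure_le]
    intro y hy
    exact hS hy.1
  exact hcl hx

/-- **`K` has prime order** when `K ≠ 1` and `U ≠ 1`. -/
theorem prime_card_K (hG : IsMinSimpleOddOrder G) (h50 : H1350 G) (h53 : H1353 G) (h55 : H1355 G)
    (h29 : H1429 G) (h30 : H1430 G) {M K U : Subgroup G} (hM : IsCoatom M)
    (hKU : IsSigmaDecomposition M K U) (hK1 : K ≠ ⊥) (hU1 : U ≠ ⊥) : (Nat.card K).Prime := by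
  have hH := h50 M hM
  obtain ⟨hnil, hfpf⟩ := nilpotent_and_fpf h50 h29 hM hKU hU1
  have hUKM : U ⊔ K ≤ M := sup_le (U_le hKU) (K_le hKU)
  have hne : U ⊔ K ≠ ⊤ := fun h => hM.1 (top_le_iff.mp (h ▸ hUKM))
  have hMs1 : sigmaCore M ≠ ⊥ := by
    intro h
    have := (h55 M hM).2
    rw [h, le_bot_iff] at this
    exact (h55 M hM).1 this
  have hodd : Odd (Nat.card ↥(U ⊔ K)) := by
    have h1 : Nat.card ↥(U ⊔ K) ∣ Nat.card G := Subgroup.card_subgroup_dvd_card _
    exact Odd.of_dvd_nat hG.1 h1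
  exact (Cfsg.Agent.S1446.result U K (sigmaCore M) hU1 hK1 (U_inf_K hKU) hKU.normal
    (h53 M hM K U hKU) (hG.2.2.2 _ hne) hodd hMs1 hnil
    ((U_le hKU).trans (le_normalizer_sigmaCore M)) ((K_le hKU).trans (le_normalizer_sigmaCore M))
    (coprime_card_sup hKU hH) hfpf (h30 M hM K hKU.hall hK1)).1

/-- `M_σ ≤ F(M)` when `U ≠ 1` -/
theorem sigmaCore_le_fittingOf (h50 : H1350 G) (h29 : H1429 G) {M K U : Subgroup G}
    (hM : IsCoatom M) (hKU : IsSigmaDecomposition M K U) (hU1 : U ≠ ⊥) :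
    sigmaCore M ≤ fittingOf M :=
  Cfsg.Agent.Lib.Helper97_BG15Y.le_fittingOf (sigmaCore_le M) (le_normalizer_sigmaCore M)
    (nilpotent_and_fpf h50 h29 hM hKU hU1).1

/-- **`F(M)` is a TI-subset** when `K ≠ 1` and `U ≠ 1`. -/
theorem isTISubset_fittingOf (h50 : H1350 G) (h65 : H1365 G) (h39 : H1439 G) (h40 : H1440 G)
    {M K U : Subgroup G} (hM : IsCoatom M) (hKU : IsSigmaDecomposition M K U) (hK1 : K ≠ ⊥)
    (hU1 : U ≠ ⊥) : IsTISubset (fittingOf M : Set G) := by
  intro g hg x hxF hgx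
  by_contra hx1
  have hH := h50 M hM
  have hgM : g⁻¹ ∉ M := by
    intro h
    exact hg (Cfsg.Agent.Lib.Helper22_FitLocal.le_normalizer_fittingOf M (M.inv_mem_iff.mp h))
  have hX : fittingOf M ⊓ (fittingOf M).map (MulAut.conj g⁻¹).toMonoidHom ≠ ⊥ := by
    intro h
    apply hx1
    have : x ∈ fittingOf M ⊓ (fittingOf M).map (MulAut.conj g⁻¹).toMonoidHom := by
      refine ⟨hxF, g * x * g⁻¹, hgx, ?_⟩
      simp only [MulEquiv.coe_toMonoidHom, MulAut.conj_apply, inv_inv]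
      group
    rw [h, mem_bot] at this
    exact this
  obtain ⟨hFeq, hFY⟩ := h40 M hM K U hKU g⁻¹ hgM hX
  obtain ⟨hYc, hYτ⟩ := h39 M hM
  have h65' := h65 M hM K U hKU hK1
  set Y : Subgroup G := piCoreOf {q | q.Prime ∧ q ∉ sigma M} (fittingOf M) with hY
  set N : Subgroup ↥M := piCore (sigma M) ↥M with hN
  have hYF : Y ≤ fittingOf M := by
    rw [hY]; exact Subgroup.map_subtype_le _
  have hYM : Y ≤ M := hYF.trans (Cfsg.Agent.Lib.Helper22_FitLocal.fittingOf_le M)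
  have hUM := U_le hKU
  have hUle : U ≤ sigmaCore M ⊔ Y := by
    rw [← hFY, ← hFeq, h65']; exact le_sup_left
  -- the quotient map
  let f : ↥M →* ↥M ⧸ N := QuotientGroup.mk' N
  have hNsub : (sigmaCore M).subgroupOf M = N := by
    rw [sigmaCore, Subgroup.subgroupOf, Subgroup.comap_map_eq_self_of_injective M.subtype_injective]
  have hmapUle : (U.subgroupOf M).map f ≤ (Y.subgroupOf M).map f := by
    have h1 : U.subgroupOf M ≤ (sigmaCore M ⊔ Y).subgroupOf M := by
      intro y hy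
      exact hUle hy
    have h2 : (sigmaCore M ⊔ Y).subgroupOf M = N ⊔ Y.subgroupOf M := by
      rw [← hNsub, Subgroup.subgroupOf_sup (sigmaCore_le M) hYM]
    have h3 : (N ⊔ Y.subgroupOf M).map f = (Y.subgroupOf M).map f := by
      rw [Subgroup.map_sup]
      have : N.map f = ⊥ := by
        rw [← le_bot_iff]
        rintro _ ⟨n, hn, rfl⟩
        rw [mem_bot]
        exact (QuotientGroup.eq_one_iff _).mpr hn
      rw [this, bot_sup_eq]
    calc (U.subgroupOf M).map f ≤ ((sigmaCore M ⊔ Y).subgroupOf M).map f := Subgroup.map_mono h1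
      _ = (Y.subgroupOf M).map f := by rw [h2, h3]
  -- the image of Y is cyclic
  have hYsub : IsCyclic ↥(Y.subgroupOf M) := by
    have := hYc
    exact isCyclic_of_surjective (Subgroup.subgroupOfEquivOfLe hYM).symm.toMonoidHom
      (Subgroup.subgroupOfEquivOfLe hYM).symm.surjective
  have hYimg : IsCyclic ↥((Y.subgroupOf M).map f) :=
    isCyclic_of_surjective (f.subgroupMap (Y.subgroupOf M)) (f.subgroupMap_surjective _)
  have hUimg : IsCyclic ↥((U.subgroupOf M).map f) := Subgroup.isCyclic_of_le hmapUle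
  -- f is injective on U
  let φ : ↥(U.subgroupOf M) →* ↥M ⧸ N := f.comp (U.subgroupOf M).subtype
  have hφinj : Function.Injective φ := by
    rw [injective_iff_map_eq_one]
    intro u hu
    have h1 : (u : ↥M) ∈ N := (QuotientGroup.eq_one_iff _).mp hu
    have h2 : ((u : ↥M) : G) ∈ U ⊓ sigmaCore M := ⟨u.2, ⟨_, h1, rfl⟩⟩
    rw [U_inf_sigmaCore hKU, mem_bot] at h2
    exact Subtype.ext (Subtype.ext h2)
  have hφrange : φ.range = (U.subgroupOf M).map f := by
    rw [MonoidHom.range_comp, Subgroup.range_subtype]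
  have e1 : ↥(U.subgroupOf M) ≃* ↥((U.subgroupOf M).map f) :=
    (MonoidHom.ofInjective hφinj).trans (MulEquiv.subgroupCongr hφrange)
  have e2 : ↥(U.subgroupOf M) ≃* ↥U := Subgroup.subgroupOfEquivOfLe hUM
  have hUc : IsCyclic ↥U :=
    isCyclic_of_surjective (e2.toMonoidHom.comp e1.symm.toMonoidHom)
      (e2.surjective.comp e1.symm.surjective)
  -- a prime dividing #U divides #Y
  obtain ⟨p, hp, hpd⟩ := exists_prime_dvd_card hU1
  haveI : Fact p.Prime := ⟨hp⟩
  have hcardU : Nat.card ↥U = Nat.card ↥((U.subgroupOf M).map f) :=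
    (Nat.card_congr e2.toEquiv).symm.trans (Nat.card_congr e1.toEquiv)
  have hpY : p ∣ Nat.card ↥Y := by
    have h1 : Nat.card ↥((U.subgroupOf M).map f) ∣ Nat.card ↥((Y.subgroupOf M).map f) :=
      Subgroup.card_dvd_of_le hmapUle
    have h2 : Nat.card ↥((Y.subgroupOf M).map f) ∣ Nat.card ↥(Y.subgroupOf M) :=
      Subgroup.card_dvd_of_surjective (f.subgroupMap (Y.subgroupOf M)) (f.subgroupMap_surjective _)
    have h3 : Nat.card ↥(Y.subgroupOf M) = Nat.card ↥Y :=
      Nat.card_congr (Subgroup.subgroupOfEquivOfLe hYM).toEquiv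
    rw [hcardU] at hpd
    exact hpd.trans (h1.trans (h3 ▸ h2))
  have hτ : p ∈ tau2 M := hYτ p hp hpY
  -- but the Sylow p-subgroups of M are cyclic
  obtain ⟨S, hS⟩ := exists_sylow_le_U hKU hH hpd
  have hSc : IsCyclic ↥(S : Subgroup ↥M) := by
    let ψ : ↥(S : Subgroup ↥M) →* ↥U :=
      (M.subtype.comp (S : Subgroup ↥M).subtype).codRestrict U (fun s => hS ⟨s.1, s.2, rfl⟩)
    have hψ : Function.Injective ψ := by
      intro a b hab
      have : ((a : ↥M) : G) = ((b : ↥M) : G) := congrArg (fun z : ↥U => (z : G)) hab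
      exact Subtype.ext (Subtype.ext this)
    exact isCyclic_of_injective ψ hψ
  exact hτ.2.2.2 (Cfsg.Agent.Lib.Helper2_NarrowSolv.pRankLE_of_sylow' S
    (Cfsg.Agent.Lib.Helper79_BG141.pRankLE_one_of_isCyclic p hSc))

/-- **Statement S1372** from the frozen statements it depends on. -/
theorem main (hG : IsMinSimpleOddOrder G) (h50 : H1350 G) (h53 : H1353 G) (h55 : H1355 G)
    (h65 : H1365 G) (h29 : H1429 G) (h30 : H1430 G) (h39 : H1439 G) (h40 : H1440 G)
    (M : Subgroup G) (hM : IsCoatom M) (K U : Subgroup G) (hKU : IsSigmaDecomposition M K U)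
    (hK1 : K ≠ ⊥) (hU1 : U ≠ ⊥) :
    (Nat.card K).Prime ∧ IsTISubset (fittingOf M : Set G) ∧ sigmaCore M ≤ fittingOf M :=
  ⟨prime_card_K hG h50 h53 h55 h29 h30 hM hKU hK1 hU1,
    isTISubset_fittingOf h50 h65 h39 h40 hM hKU hK1 hU1,
    sigmaCore_le_fittingOf h50 h29 hM hKU hU1⟩

end Cfsg.Agent.Lib.Helper78_BG1372
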