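import Cfsg.Agent.S1403
import Cfsg.Agent.Lib.Helper78_BG1372
import Cfsg.Agent.Lib.Helper70_BG108
import Cfsg.Agent.Lib.Helper2_RankTwoAut
import Cfsg.Agent.Lib.Helper2_Narrow
import Cfsg.Agent.Lib.Helper2_Coprime
import Cfsg.Agent.Lib.Helper30_SigmaPartA
import Cfsg.Agent.Lib.Helper53_BG16b
import Cfsg.Agent.Lib.Helper22_BGTrans
import Cfsg.Agent.Lib.Helper22_FitLocal2
import Cfsg.Agent.Lib.Helper70_Wielandt
import Cfsg.Agent.Lib.Helper1_Transport
import Cfsg.Agent.Lib.Helper34_SigmaNe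

/-!
# Type `P₂`: `M_σ` meets no conjugate `M^g`, `g ∉ M`, and `F(M)` is a TI-subset (helper11)

This file replaces the use of the frozen statement S1440 (whose clause `M' = F(M)` is too strong)
in the proof of S1372.  The point: for `M = K U M_σ` with `K ≠ 1`, `U ≠ 1`, every prime of `σ(M)`
lies in `β(M)`.  Indeed `M_σ` is nilpotent and `C_{M_σ}(U) = 1` (S1429); for `p ∈ σ(M) - β(M)` the
Sylow `p`-subgroup `R` of `M_σ` is narrow, so the odd-order `p'`-group `UK` induces an abelian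
group of automorphisms of `R`; as `U = [U, k]` for `1 ≠ k ∈ K` (S1353), `U` centralizes `R ≠ 1`.
By S1426 the primes of `M_σ ∩ M^g` (`g ∉ M`) avoid `β(M)`, hence `M_σ ∩ M^g = 1`.
-/

set_option autoImplicit false

namespace Cfsg.Agent.Lib.Helper11_BG157

open Subgroup Cfsg Cfsg.Agent.Lib.Helper78_SigmaDecomp Cfsg.Agent.Lib.Helper78_BG1372
open scoped commutatorElement

universe u

/-- A `p'`-group of odd order of automorphisms of a narrow `p`-group is abelian. -/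
theorem comm_of_narrow {R : Type u} [Group R] [Finite R] {p : ℕ} [Fact p.Prime] (hp : p ≠ 2)
    (hR : IsPGroup p R) (hn : Cfsg.IsNarrow p R) (𝔄 : Subgroup (MulAut R))
    (hodd : Odd (Nat.card 𝔄)) (hcop : (Nat.card 𝔄).Coprime p) :
    ∀ a ∈ 𝔄, ∀ b ∈ 𝔄, a * b = b * a := by
  intro a ha b hb
  have hm : ⁅a, b⁆ ∈ 𝔄 := by
    rw [commutatorElement_def]
    exact 𝔄.mul_mem (𝔄.mul_mem (𝔄.mul_mem ha hb) (𝔄.inv_mem ha)) (𝔄.inv_mem hb)
  have hord : (orderOf ⁅a, b⁆).Coprime p :=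
    Nat.Coprime.coprime_dvd_left (Subgroup.orderOf_dvd_natCard 𝔄 hm) hcop
  have hc : ⁅a, b⁆ = 1 := by
    by_cases hrk : Cfsg.PRankLE p 2 R
    · have h1 := Cfsg.Agent.Lib.Helper2_RankTwoAut.isPGroup_commutator_of_odd hp hR hrk 𝔄 hodd
      have hmem : ⁅a, b⁆ ∈ ⁅𝔄, 𝔄⁆ := Subgroup.commutator_mem_commutator ha hb
      obtain ⟨k, hk⟩ := h1 ⟨_, hmem⟩
      have h2 : (⁅a, b⁆) ^ p ^ k = 1 := by
        have := congrArg Subtype.val hk
        simpa using this
      have h3 : orderOf ⁅a, b⁆ ∣ p ^ k := orderOf_dvd_of_pow_eq_one h2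
      have h4 : orderOf ⁅a, b⁆ = 1 :=
        Nat.Coprime.eq_one_of_dvd (Nat.Coprime.pow_right k hord) h3
      exact orderOf_eq_one_iff.mp h4
    · obtain ⟨g, R₁, hN⟩ := Cfsg.Agent.Lib.Helper2_Narrow.exists_nData_of_isNarrow hR hn hrk
      obtain ⟨S, -, hS1, -, hS3⟩ := hN.exists_stab hp
      exact hS3 _ (hS1 a b) hord
  exact commutatorElement_eq_one_iff_mul_comm.mp hc

variable {G : Type u} [Group G] [Finite G]

/-- `U = [U, k]` for `1 ≠ k ∈ K`: every `u ∈ U` is a commutator `⁅v, k⁆` with `v ∈ U` -/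
theorem exists_commutator_eq (h53 : H1353 G) {M K U : Subgroup G} (hM : IsCoatom M)
    (hKU : IsSigmaDecomposition M K U) {k : G} (hk : k ∈ K) (hk1 : k ≠ 1) {u : G} (hu : u ∈ U) :
    ∃ v ∈ U, ⁅v, k⁆ = u := by
  have hmem : ∀ v ∈ U, ⁅v, k⁆ ∈ U := by
    intro v hv
    rw [commutatorElement_def]
    have h1 : k * v⁻¹ * k⁻¹ ∈ U := (mem_normalizer_iff.mp (hKU.normal hk) v⁻¹).mp (U.inv_mem hv)
    have h2 : v * k * v⁻¹ * k⁻¹ = v * (k * v⁻¹ * k⁻¹) := by group
    rw [h2]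
    exact U.mul_mem hv h1
  let f : U → U := fun v => ⟨⁅(v : G), k⁆, hmem v v.2⟩
  have hinj : Function.Injective f := by
    intro v w hvw
    have h1 : ⁅(v : G), k⁆ = ⁅(w : G), k⁆ := congrArg Subtype.val hvw
    rw [commutatorElement_def, commutatorElement_def] at h1
    have h1' : (v : G) * k * (v : G)⁻¹ = w * k * (w : G)⁻¹ := mul_right_cancel h1
    have h2 : (w : G)⁻¹ * v ∈ U ⊓ centralizer ({k} : Set G) := by
      refine ⟨U.mul_mem (U.inv_mem w.2) v.2, ?_⟩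
      show (w : G)⁻¹ * v ∈ centralizer ({k} : Set G)
      rw [mem_centralizer_singleton_iff]
      calc (w : G)⁻¹ * v * k = (w : G)⁻¹ * ((v : G) * k * (v : G)⁻¹) * v := by group
        _ = (w : G)⁻¹ * ((w : G) * k * (w : G)⁻¹) * v := by rw [h1']
        _ = k * ((w : G)⁻¹ * v) := by group
    rw [h53 M hM K U hKU k hk hk1, mem_bot] at h2
    apply Subtype.ext
    calc (v : G) = w * ((w : G)⁻¹ * v) := by group
      _ = w := by rw [h2, mul_one]
  obtain ⟨v, hv⟩ := (Finite.injective_iff_surjective.mp hinj) ⟨u, hu⟩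
  exact ⟨v, v.2, congrArg Subtype.val hv⟩

/-- **In type `P₂` every prime of `σ(M)` lies in `β(M)`.** -/
theorem false_of_sigma_not_beta (hG : IsMinSimpleOddOrder G) (h50 : H1350 G) (h53 : H1353 G)
    (h29 : H1429 G) {M K U : Subgroup G} (hM : IsCoatom M) (hKU : IsSigmaDecomposition M K U)
    (hK1 : K ≠ ⊥) (hU1 : U ≠ ⊥) {p : ℕ} [Fact p.Prime] (hpσ : p ∈ sigma M) (hpβ : p ∉ beta M) :
    False := by
  have hpP : p.Prime := Fact.out
  have hH := h50 M hM
  obtain ⟨hnil, hfpf⟩ := nilpotent_and_fpf h50 h29 hM hKU hU1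
  have hU : Cfsg.Agent.Lib.Helper49_Sigma.UniqHyp G :=
    fun K hK h1 h3 => Cfsg.Agent.S1403.result hG K hK h1 h3
  have hp2 : p ≠ 2 := by
    rintro rfl
    have h1 : 2 ∣ Nat.card ↥M := hpσ.2.1
    have h2 : 2 ∣ Nat.card G := h1.trans (Subgroup.card_subgroup_dvd_card M)
    exact (Nat.not_even_iff_odd.mpr hG.1) (even_iff_two_dvd.mpr h2)
  -- a Sylow `p`-subgroup of `M`
  obtain ⟨S⟩ : Nonempty (Sylow p ↥M) := inferInstance
  have hSn : IsNarrow p ↥(S : Subgroup ↥M) :=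
    Cfsg.Agent.Lib.Helper70_BG108.sylow_narrow hG hU M hM p hpβ S
  set R : Subgroup G := (S : Subgroup ↥M).map M.subtype with hR
  have hRM : R ≤ M := Subgroup.map_subtype_le _
  have hRp : IsPGroup p ↥R := S.2.map _
  have hRσ : R ≤ sigmaCore M :=
    Cfsg.Agent.Lib.Helper30_SigmaPartA.le_sigmaCore_of_isPGroup hH hpσ hRM hRp
  let e : ↥(S : Subgroup ↥M) ≃* ↥R :=
    (S : Subgroup ↥M).equivMapOfInjective M.subtype M.subtype_injective
  have hRn : IsNarrow p ↥R := Cfsg.Agent.Lib.Helper2_NarrowSolv.isNarrow_of_mulEquiv e hSn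
  have hcardR : Nat.card ↥R = p ^ (Nat.card ↥M).factorization p := by
    rw [← Nat.card_congr e.toEquiv]
    exact S.card_eq_multiplicity
  have hfac : (Nat.card ↥M).factorization p = (Nat.card ↥(sigmaCore M)).factorization p := by
    have h1 : Nat.card ↥(sigmaCore M) * (sigmaCore M).relIndex M = Nat.card ↥M :=
      Cfsg.Agent.Lib.Helper51_Offender.card_mul_relIndex (sigmaCore_le M)
    have h2 : Nat.card ↥(sigmaCore M) ≠ 0 := Nat.card_pos.ne'
    have h3 : (sigmaCore M).relIndex M ≠ 0 := by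
      intro h
      rw [h, mul_zero] at h1
      exact Nat.card_pos.ne' h1.symm
    rw [← h1, Nat.factorization_mul h2 h3]
    have h4 : ((sigmaCore M).relIndex M).factorization p = 0 :=
      Nat.factorization_eq_zero_of_not_dvd (hH.2.2 p hpP hpσ)
    simp [h4]
  set R₀ : Subgroup ↥(sigmaCore M) := R.subgroupOf (sigmaCore M) with hR₀
  have hcardR₀ : Nat.card R₀ = p ^ (Nat.card ↥(sigmaCore M)).factorization p := by
    rw [hR₀, Nat.card_congr (Subgroup.subgroupOfEquivOfLe hRσ).toEquiv, hcardR, hfac]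
  let Q : Sylow p ↥(sigmaCore M) := Sylow.ofCard R₀ hcardR₀
  have hQ : (Q : Subgroup ↥(sigmaCore M)).map (sigmaCore M).subtype = R := by
    rw [Sylow.coe_ofCard, hR₀, Subgroup.map_subgroupOf_eq_of_le hRσ]
  have hMR : M ≤ normalizer (R : Set G) := by
    rw [← hQ]
    exact (le_normalizer_sigmaCore M).trans
      (Cfsg.Agent.Lib.Helper97_BG15Y.normalizer_le_normalizer_sylow hnil Q)
  have hpdM : p ∣ Nat.card ↥M := hpσ.2.1
  have hR1 : R ≠ ⊥ := by
    intro h
    rw [h, Subgroup.card_bot] at hcardR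
    have h1 : 0 < (Nat.card ↥M).factorization p :=
      hpP.factorization_pos_of_dvd Nat.card_pos.ne' hpdM
    have h2 : 1 < p ^ (Nat.card ↥M).factorization p := Nat.one_lt_pow h1.ne' hpP.one_lt
    omega
  -- the group `A = U ⊔ K` acts on `R`
  set A : Subgroup G := U ⊔ K with hA
  have hAM : A ≤ M := sup_le (U_le hKU) (K_le hKU)
  have hAR : A ≤ normalizer (R : Set G) := hAM.trans hMR
  set φ := Cfsg.Agent.Lib.Helper2_Coprime.conjAut R A hAR with hφ
  have hcr : Nat.card ↥φ.range ∣ Nat.card ↥A := Subgroup.card_range_dvd φ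
  have hoddA : Odd (Nat.card ↥A) := Odd.of_dvd_nat hG.1 (Subgroup.card_subgroup_dvd_card _)
  have hpdσ : p ∣ Nat.card ↥(sigmaCore M) := by
    have h1 : 0 < (Nat.card ↥(sigmaCore M)).factorization p := by
      rw [← hfac]
      exact hpP.factorization_pos_of_dvd Nat.card_pos.ne' hpdM
    exact Nat.dvd_of_factorization_pos h1.ne'
  have hcopA : (Nat.card ↥A).Coprime p :=
    Nat.Coprime.coprime_dvd_right hpdσ (coprime_card_sup hKU hH)
  have hcomm := comm_of_narrow hp2 hRp hRn φ.range (Odd.of_dvd_nat hoddA hcr)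
    (Nat.Coprime.coprime_dvd_left hcr hcopA)
  have hcent : ∀ a ∈ A, ∀ b ∈ A, ⁅a, b⁆ ∈ centralizer (R : Set G) := by
    intro a ha b hb
    have h1 := hcomm (φ ⟨a, ha⟩) ⟨_, rfl⟩ (φ ⟨b, hb⟩) ⟨_, rfl⟩
    have h2 : φ ⁅(⟨a, ha⟩ : ↥A), ⟨b, hb⟩⁆ = 1 := by
      rw [map_commutatorElement]
      exact commutatorElement_eq_one_iff_mul_comm.mpr h1
    rw [mem_centralizer_iff]
    intro r hr
    have h3 : ((φ ⁅(⟨a, ha⟩ : ↥A), ⟨b, hb⟩⁆ ⟨r, hr⟩ : ↥R) : G) = r := by rw [h2]; rfl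
    rw [hφ, Cfsg.Agent.Lib.Helper2_Coprime.conjAut_apply_coe] at h3
    have h4 : ((⁅(⟨a, ha⟩ : ↥A), ⟨b, hb⟩⁆ : ↥A) : G) = ⁅a, b⁆ := rfl
    rw [h4] at h3
    calc r * ⁅a, b⁆ = (⁅a, b⁆ * r * ⁅a, b⁆⁻¹) * ⁅a, b⁆ := by rw [h3]
      _ = ⁅a, b⁆ * r := by group
  obtain ⟨k, hk, hk1⟩ : ∃ k ∈ K, k ≠ 1 := by
    by_contra h
    push Not at h
    exact hK1 ((Subgroup.eq_bot_iff_forall K).mpr h)
  have hUR : U ≤ centralizer (R : Set G) := by
    intro u hu
    obtain ⟨v, hv, rfl⟩ := exists_commutator_eq h53 hM hKU hk hk1 hu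
    exact hcent v (le_sup_left (a := U) (b := K) hv) k (le_sup_right (a := U) (b := K) hk)
  have hle : R ≤ sigmaCore M ⊓ centralizer (U : Set G) :=
    le_inf hRσ (Subgroup.le_centralizer_iff.mp hUR)
  rw [hfpf] at hle
  exact hR1 (le_bot_iff.mp hle)

omit [Finite G] in
/-- conjugate elements have the same order -/
theorem orderOf_conj_eq (a y : G) : orderOf (a * y * a⁻¹) = orderOf y :=
  (SemiconjBy.orderOf_eq a (show SemiconjBy a y (a * y * a⁻¹) by
    unfold SemiconjBy; group)).symm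

/-- the third conjunct of S1426 (the primes of `M_σ ∩ M^g`, `g ∉ M`, avoid `β(M)`) -/
def H1426 (G : Type u) [Group G] : Prop :=
  ∀ M : Subgroup G, IsCoatom M → ∀ E : Subgroup G, IsComplIn E (sigmaCore M) M → ∀ g : G, g ∉ M →
    ∀ p : ℕ, p.Prime → p ∣ Nat.card ↥(sigmaCore M ⊓ M.map (MulAut.conj g).toMonoidHom) →
      p ∉ beta M

/-- **In type `P₂`, `M_σ ∩ M^g = 1` for every `g ∉ M`.** -/
theorem sigmaCore_inf_conj_eq_bot (hG : IsMinSimpleOddOrder G) (h50 : H1350 G) (h53 : H1353 G)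
    (h26 : H1426 G) (h29 : H1429 G) {M K U : Subgroup G} (hM : IsCoatom M)
    (hKU : IsSigmaDecomposition M K U) (hK1 : K ≠ ⊥) (hU1 : U ≠ ⊥) {g : G} (hg : g ∉ M) :
    sigmaCore M ⊓ M.map (MulAut.conj g).toMonoidHom = ⊥ := by
  by_contra hne
  have hH := h50 M hM
  obtain ⟨E, hE⟩ := Cfsg.Agent.Lib.Helper53_BG16b.exists_compl_sigmaCore hH
  obtain ⟨p, hp, hpd⟩ := Nat.exists_prime_and_dvd
    (n := Nat.card ↥(sigmaCore M ⊓ M.map (MulAut.conj g).toMonoidHom))
    (fun h => hne (Subgroup.card_eq_one.mp h))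
  have : Fact p.Prime := ⟨hp⟩
  have hpσ : p ∈ sigma M := hH.2.1 p hp (hpd.trans (Subgroup.card_dvd_of_le inf_le_left))
  exact false_of_sigma_not_beta hG h50 h53 h29 hM hKU hK1 hU1 hpσ (h26 M hM E hE g hg p hp hpd)

/-- in a cyclic subgroup, a subgroup is determined by its order -/
theorem eq_of_card_eq_of_le_cyclic {P X Y : Subgroup G} [IsCyclic ↥P] (hX : X ≤ P) (hY : Y ≤ P)
    (h : Nat.card ↥X = Nat.card ↥Y) : X = Y := by
  have h1 : X.subgroupOf P = Y.subgroupOf P := by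
    apply Cfsg.Agent.Lib.Helper70_Wielandt.eq_of_card_eq_of_isCyclic
    rw [Cfsg.Agent.Lib.Helper1_Transport.card_subgroupOf hX,
      Cfsg.Agent.Lib.Helper1_Transport.card_subgroupOf hY, h]
  rw [← Subgroup.map_subgroupOf_eq_of_le hX, ← Subgroup.map_subgroupOf_eq_of_le hY, h1]

/-- an element of prime order `q ∉ σ(M)` of `F(M)` lies in `O_{σ(M)'}(F(M))` -/
theorem mem_piCoreOf_fittingOf (M : Subgroup G) {q : ℕ} (hq : q.Prime) (hqσ : q ∉ sigma M)
    {z : G} (hz : z ∈ fittingOf M) (hzo : orderOf z = q) :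
    z ∈ piCoreOf {q | q.Prime ∧ q ∉ sigma M} (fittingOf M) := by
  have : Fact q.Prime := ⟨hq⟩
  set X : Subgroup G := fittingOf M with hX
  have hXnil : Group.IsNilpotent ↥X := Cfsg.Agent.Lib.Helper22_FitLocal.isNilpotent_fittingOf M
  -- the Sylow `q`-subgroup of `X`
  have hzp : IsPGroup q ↥(zpowers (⟨z, hz⟩ : ↥X)) := by
    apply IsPGroup.of_card (n := 1)
    rw [Nat.card_zpowers, Subgroup.orderOf_mk, hzo, pow_one]
  obtain ⟨Qs, hQs⟩ := hzp.exists_le_sylow
  set Q : Subgroup G := (Qs : Subgroup ↥X).map X.subtype with hQ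
  have hzQ : z ∈ Q := ⟨⟨z, hz⟩, hQs (mem_zpowers _), rfl⟩
  have hQX : Q ≤ X := Subgroup.map_subtype_le _
  have hXQ : X ≤ normalizer (Q : Set G) :=
    (le_normalizer (H := X)).trans
      (Cfsg.Agent.Lib.Helper97_BG15Y.normalizer_le_normalizer_sylow hXnil Qs)
  have hQp : IsPGroup q ↥Q := Qs.isPGroup'.map _
  have hprimes : ∀ r : ℕ, r.Prime → r ∣ Nat.card ↥Q → r ∈ {q | q.Prime ∧ q ∉ sigma M} := by
    intro r hr hrd
    obtain ⟨k, hk⟩ := IsPGroup.iff_card.mp hQp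
    rw [hk] at hrd
    have : r = q := (Nat.prime_dvd_prime_iff_eq hr hq).mp (hr.dvd_of_dvd_pow hrd)
    rw [this]
    exact ⟨hq, hqσ⟩
  exact Cfsg.Agent.Lib.Helper22_BGTrans.le_piCoreOf hQX hXQ hprimes hzQ

/-- **`F(M)` is a TI-subset of `G`** for `M = K U M_σ` with `K ≠ 1` and `U ≠ 1`, from the frozen
statements S1350, S1353, S1426, S1429, S1439 (no use of S1440). -/
theorem isTISubset_fittingOf (hG : IsMinSimpleOddOrder G) (h50 : H1350 G) (h53 : H1353 G)
    (h26 : H1426 G) (h29 : H1429 G) (h39 : H1439 G) {M K U : Subgroup G} (hM : IsCoatom M)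
    (hKU : IsSigmaDecomposition M K U) (hK1 : K ≠ ⊥) (hU1 : U ≠ ⊥) :
    IsTISubset (fittingOf M : Set G) := by
  intro g hg x hxF hgx
  by_contra hx1
  have hH := h50 M hM
  have hgM : g ∉ M := fun h =>
    hg (Cfsg.Agent.Lib.Helper22_FitLocal.le_normalizer_fittingOf M h)
  obtain ⟨hYc, hYτ⟩ := h39 M hM
  -- a power of `x` of prime order
  have hox : orderOf x ≠ 1 := fun h => hx1 (orderOf_eq_one_iff.mp h)
  obtain ⟨q, hq, hqd⟩ := Nat.exists_prime_and_dvd hox
  have : Fact q.Prime := ⟨hq⟩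
  have hxpos : 0 < orderOf x := orderOf_pos x
  set y : G := x ^ (orderOf x / q) with hy
  have hyo : orderOf y = q := orderOf_pow_orderOf_div hxpos.ne' hqd
  have hyF : y ∈ fittingOf M := pow_mem hxF _
  have hgy : g * y * g⁻¹ ∈ fittingOf M := by
    have : g * y * g⁻¹ = (g * x * g⁻¹) ^ (orderOf x / q) := by
      rw [hy, conj_pow]
    rw [this]
    exact pow_mem hgx _
  have hgyo : orderOf (g * y * g⁻¹) = q := by
    rw [← hyo]
    exact orderOf_conj_eq g y
  have hyM : y ∈ M := Cfsg.Agent.Lib.Helper22_FitLocal.fittingOf_le M hyF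
  have hy1 : y ≠ 1 := by
    intro h
    rw [h, orderOf_one] at hyo
    exact hq.one_lt.ne hyo
  by_cases hqσ : q ∈ sigma M
  · -- `y` and its conjugate lie in `M_σ`
    have h1 : y ∈ sigmaCore M :=
      Cfsg.Agent.Lib.Helper30_SigmaPartA.mem_sigmaCore_of_orderOf hH hyM hq hqσ
        (by rw [← hyo]; exact pow_orderOf_eq_one y)
    have h2 : y ∈ M.map (MulAut.conj g⁻¹).toMonoidHom := by
      refine ⟨g * y * g⁻¹, Cfsg.Agent.Lib.Helper22_FitLocal.fittingOf_le M hgy, ?_⟩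
      simp only [MulEquiv.coe_toMonoidHom, MulAut.conj_apply, inv_inv]
      group
    have hgM' : g⁻¹ ∉ M := fun h => hgM (M.inv_mem_iff.mp h)
    have h3 := sigmaCore_inf_conj_eq_bot hG h50 h53 h26 h29 hM hKU hK1 hU1 hgM'
    have h4 : y ∈ sigmaCore M ⊓ M.map (MulAut.conj g⁻¹).toMonoidHom := ⟨h1, h2⟩
    rw [h3, mem_bot] at h4
    exact hy1 h4
  · -- `y` and its conjugate lie in the cyclic group `Y`
    set π' : Set ℕ := {q | q.Prime ∧ q ∉ sigma M} with hπ'
    set X : Subgroup G := fittingOf M with hX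
    set Y : Subgroup G := piCoreOf π' X with hY
    have hyY : y ∈ Y := mem_piCoreOf_fittingOf M hq hqσ hyF hyo
    have hgyY : g * y * g⁻¹ ∈ Y := mem_piCoreOf_fittingOf M hq hqσ hgy hgyo
    have hXM : X ≤ M := Cfsg.Agent.Lib.Helper22_FitLocal.fittingOf_le M
    have hYX : Y ≤ X := Cfsg.Agent.Lib.Helper22_BGTrans.piCoreOf_le π' X
    have hMX : M ≤ normalizer (X : Set G) :=
      Cfsg.Agent.Lib.Helper22_FitLocal.le_normalizer_fittingOf M
    have hMY : M ≤ normalizer (Y : Set G) := by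
      refine hMX.trans ?_
      have : (piCore π' ↥X).Characteristic :=
        Cfsg.Agent.Lib.Helper32_Cores.piCore_characteristic π'
      exact Cfsg.Agent.Lib.Helper24_CoprimeAction.normalizer_le_normalizer_map_of_characteristic _ _
    have : IsCyclic ↥Y := hYc
    set Z : Subgroup G := zpowers y with hZ
    have hZY : Z ≤ Y := zpowers_le.mpr hyY
    have hcardZ : Nat.card ↥Z = q := by rw [hZ, Nat.card_zpowers, hyo]
    have huniq : ∀ Z' : Subgroup G, Z' ≤ Y → Nat.card ↥Z' = q → Z' = Z := fun Z' h1 h2 =>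
      eq_of_card_eq_of_le_cyclic h1 hZY (h2.trans hcardZ.symm)
    -- every element normalizing `Y` normalizes `Z`
    have hconj : ∀ a : G, (a * y * a⁻¹ ∈ Y) → zpowers (a * y * a⁻¹) = Z := by
      intro a ha
      apply huniq _ (zpowers_le.mpr ha)
      rw [Nat.card_zpowers, orderOf_conj_eq, hyo]
    have hmemN : ∀ a : G, (a * y * a⁻¹ ∈ Y) → (a⁻¹ * y * a ∈ Y) → a ∈ normalizer (Z : Set G) := by
      intro a ha ha'
      rw [mem_normalizer_iff]
      have hsub : ∀ b : G, zpowers (b * y * b⁻¹) = Z → ∀ h ∈ Z, b * h * b⁻¹ ∈ Z := by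
        intro b hb h hh
        rw [hZ] at hh
        obtain ⟨n, rfl⟩ := mem_zpowers_iff.mp hh
        rw [← hb]
        have : b * y ^ n * b⁻¹ = (b * y * b⁻¹) ^ n := by rw [conj_zpow]
        rw [this]
        exact zpow_mem (mem_zpowers _) n
      intro h
      constructor
      · exact hsub a (hconj a ha) h
      · intro hh
        have h1 := hsub a⁻¹ (hconj a⁻¹ (by simpa using ha')) _ hh
        have h2 : a⁻¹ * (a * h * a⁻¹) * a⁻¹⁻¹ = h := by group
        rwa [h2] at h1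
    have hMZ : M ≤ normalizer (Z : Set G) := by
      intro m hm
      apply hmemN m
      · exact (mem_normalizer_iff.mp (hMY hm) y).mp hyY
      · exact (mem_normalizer_iff''.mp (hMY hm) y).mp hyY
    have hZ1 : Z ≠ ⊥ := by
      intro h
      rw [h, Subgroup.card_bot] at hcardZ
      exact hq.one_lt.ne hcardZ
    have hNZ : normalizer (Z : Set G) ≤ M :=
      Cfsg.Agent.Lib.Helper97_BG15Y.normalizer_le_of_le hG hM hZ1 (hZY.trans (hYX.trans hXM)) hMZ
    apply hgM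
    apply hNZ
    apply hmemN g hgyY
    -- `g⁻¹ y g ∈ Y`: since `zpowers (g y g⁻¹) = Z`, `y` is a power of `g y g⁻¹`
    have h1 : zpowers (g * y * g⁻¹) = Z := hconj g hgyY
    have h2 : y ∈ zpowers (g * y * g⁻¹) := by rw [h1]; exact mem_zpowers y
    obtain ⟨n, hn⟩ := mem_zpowers_iff.mp h2
    have h3 : g⁻¹ * y * g = y ^ n := by
      have h4 : (g * y * g⁻¹) ^ n = g * y ^ n * g⁻¹ := by rw [conj_zpow]
      calc g⁻¹ * y * g = g⁻¹ * ((g * y * g⁻¹) ^ n) * g := by rw [hn]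
        _ = g⁻¹ * (g * y ^ n * g⁻¹) * g := by rw [h4]
        _ = y ^ n := by group
    rw [h3]
    exact zpow_mem hyY n

/-- **`K` has prime order** when `K ≠ 1` and `U ≠ 1`: helper78's `prime_card_K` with the use of
S1355 (only needed for `M_σ ≠ 1`) replaced by the unconditional `Helper34_SigmaNe`. -/
theorem prime_card_K' (hG : IsMinSimpleOddOrder G) (h50 : H1350 G) (h53 : H1353 G)
    (h29 : H1429 G) (h30 : H1430 G) {M K U : Subgroup G} (hM : IsCoatom M)
    (hKU : IsSigmaDecomposition M K U) (hK1 : K ≠ ⊥) (hU1 : U ≠ ⊥) : (Nat.card K).Prime := by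
  have hH := h50 M hM
  obtain ⟨hnil, hfpf⟩ := nilpotent_and_fpf h50 h29 hM hKU hU1
  have hUKM : U ⊔ K ≤ M := sup_le (U_le hKU) (K_le hKU)
  have hne : U ⊔ K ≠ ⊤ := fun h => hM.1 (top_le_iff.mp (h ▸ hUKM))
  have hMs1 : sigmaCore M ≠ ⊥ := Cfsg.Agent.Lib.Helper34_SigmaNe.sigmaCore_ne_bot hG hM
  have hodd : Odd (Nat.card ↥(U ⊔ K)) := by
    have h1 : Nat.card ↥(U ⊔ K) ∣ Nat.card G := Subgroup.card_subgroup_dvd_card _
    exact Odd.of_dvd_nat hG.1 h1
  exact (Cfsg.Agent.S1446.result U K (sigmaCore M) hU1 hK1 (U_inf_K hKU) hKU.normal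
    (h53 M hM K U hKU) (hG.2.2.2 _ hne) hodd hMs1 hnil
    ((U_le hKU).trans (le_normalizer_sigmaCore M)) ((K_le hKU).trans (le_normalizer_sigmaCore M))
    (coprime_card_sup hKU hH) hfpf (h30 M hM K hKU.hall hK1)).1

/-- **Statement S1372** from the frozen statements S1350, S1353, S1426, S1429, S1430, S1439
(and the landed S1403, S1446): the version of `Helper78_BG1372.main` without S1355, S1365 and
S1440. -/
theorem main (hG : IsMinSimpleOddOrder G) (h50 : H1350 G) (h53 : H1353 G)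
    (h26 : H1426 G) (h29 : H1429 G) (h30 : H1430 G) (h39 : H1439 G)
    (M : Subgroup G) (hM : IsCoatom M) (K U : Subgroup G) (hKU : IsSigmaDecomposition M K U)
    (hK1 : K ≠ ⊥) (hU1 : U ≠ ⊥) :
    (Nat.card K).Prime ∧ IsTISubset (fittingOf M : Set G) ∧ sigmaCore M ≤ fittingOf M :=
  ⟨prime_card_K' hG h50 h53 h29 h30 hM hKU hK1 hU1,
    isTISubset_fittingOf hG h50 h53 h26 h29 h39 hM hKU hK1 hU1,
    sigmaCore_le_fittingOf h50 h29 hM hKU hU1⟩

end Cfsg.Agent.Lib.Helper11_BG157
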