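import Mathlib

/-!
# Free orbit counting and a lower bound for the index of a centralizer

* `card_dvd_of_free`: a finite group acting with trivial stabilizers on a finite set has order
  dividing the size of the set.
* `card_eq_add_mul`: `h` of order `r ^ b` normalizing `V`; then `|V| = |C_V(h')| + r ^ b * m`
  where `h' = h ^ r ^ (b - 1)`.
* `relIndex_ge`: if moreover `V` is a `2`-group, `r` odd, `h'` does not centralize `V` and
  `r ^ b ∣ 2 ^ j - 1` forces `n ≤ j`, then `2 ^ n ≤ |V : C_V(h')|`.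
-/

set_option autoImplicit false

namespace Cfsg.Agent.Lib.Helper46_FreeOrb

theorem card_dvd_of_free {P Ω : Type*} [Group P] [Finite Ω] [MulAction P Ω]
    (hfree : ∀ (k : P) (ω : Ω), k • ω = ω → k = 1) : Nat.card P ∣ Nat.card Ω := by
  have hst : ∀ ω : Ω, MulAction.stabilizer P ω = ⊥ := by
    intro ω
    rw [eq_bot_iff]
    intro k hk
    rw [MulAction.mem_stabilizer_iff] at hk
    exact Subgroup.mem_bot.mpr (hfree k ω hk)
  have e := MulAction.selfEquivOrbitsQuotientProd hst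
  rw [Nat.card_congr e, Nat.card_prod]
  exact dvd_mul_left _ _

variable {G : Type*} [Group G]

theorem commute_pow_of_stab (h v : G) (r b : ℕ) (hr : r.Prime) (hb : 1 ≤ b)
    (ho : orderOf h = r ^ b) (j : ℤ) (hj : h ^ j ≠ 1) (hc : h ^ j * v = v * h ^ j) :
    h ^ r ^ (b - 1) * v = v * h ^ r ^ (b - 1) := by
  have hR : h ^ (r ^ b) = 1 := by rw [← ho]; exact pow_orderOf_eq_one h
  -- the gcd
  set g := Int.gcd j ((r ^ b : ℕ) : ℤ) with hg
  have hbez := Int.gcd_eq_gcd_ab j ((r ^ b : ℕ) : ℤ)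
  have hpow : h ^ (g : ℤ) = (h ^ j) ^ (Int.gcdA j ((r ^ b : ℕ) : ℤ)) := by
    rw [hg, hbez, zpow_add, zpow_mul, zpow_mul, zpow_natCast, hR, one_zpow, mul_one]
  have hcg : Commute (h ^ g) v := by
    have h1 : Commute (h ^ j) v := hc
    have h2 : Commute ((h ^ j) ^ (Int.gcdA j ((r ^ b : ℕ) : ℤ))) v := h1.zpow_left _
    rw [← hpow, zpow_natCast] at h2
    exact h2
  have hgdvd : g ∣ r ^ b := by
    have := Int.gcd_dvd_right j ((r ^ b : ℕ) : ℤ)
    exact Int.natCast_dvd_natCast.mp this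
  obtain ⟨a, hab, hga⟩ := (Nat.dvd_prime_pow hr).mp hgdvd
  have ha : a ≠ b := by
    rintro rfl
    apply hj
    have h3 : ((r ^ a : ℕ) : ℤ) ∣ j := by
      rw [← hga]; exact Int.gcd_dvd_left j _
    obtain ⟨c, rfl⟩ := h3
    rw [zpow_mul, zpow_natCast, hR, one_zpow]
  have ha' : a ≤ b - 1 := by omega
  have h4 : r ^ (b - 1) = r ^ a * r ^ (b - 1 - a) := by
    rw [← pow_add]; congr 1; omega
  have h5 : Commute (h ^ r ^ (b - 1)) v := by
    rw [h4, pow_mul, ← hga]
    exact hcg.pow_left _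
  exact h5

theorem card_eq_add_mul [Finite G] (V : Subgroup G) (h : G)
    (hh : h ∈ Subgroup.normalizer (V : Set G)) (r b : ℕ) (hr : r.Prime) (hb : 1 ≤ b)
    (ho : orderOf h = r ^ b) :
    ∃ m : ℕ, Nat.card V =
      Nat.card ↥(V ⊓ Subgroup.centralizer ({h ^ r ^ (b - 1)} : Set G)) + r ^ b * m := by
  classical
  set h' := h ^ r ^ (b - 1) with hh'
  have hPn : ∀ k ∈ Subgroup.zpowers h, ∀ v ∈ V, k * v * k⁻¹ ∈ V := by
    intro k hk v hv
    have hk' : k ∈ Subgroup.normalizer (V : Set G) :=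
      (Subgroup.zpowers_le.mpr hh) hk
    exact (Subgroup.mem_normalizer_iff.mp hk' v).mp hv
  have hPc : ∀ k ∈ Subgroup.zpowers h, k * h' = h' * k := by
    intro k hk
    obtain ⟨j, rfl⟩ := Subgroup.mem_zpowers_iff.mp hk
    have : Commute (h ^ j) (h ^ r ^ (b - 1)) := (Commute.refl h).zpow_left j |>.pow_right _
    exact this
  let Ω := {v : G // v ∈ V ∧ ¬ (h' * v = v * h')}
  let _ : MulAction (Subgroup.zpowers h) Ω :=
    { smul := fun k v => ⟨(k : G) * v.1 * (k : G)⁻¹, hPn k k.2 v.1 v.2.1, fun hc => v.2.2 (by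
        have h1 : Commute h' (k : G) := (hPc k k.2).symm
        have h2 : Commute h' ((k : G) * v.1 * (k : G)⁻¹) := hc
        have h3 : Commute h' ((k : G)⁻¹ * ((k : G) * v.1 * (k : G)⁻¹) * (k : G)) :=
          (h1.inv_right.mul_right h2).mul_right h1
        have h4 : (k : G)⁻¹ * ((k : G) * v.1 * (k : G)⁻¹) * (k : G) = v.1 := by group
        rw [h4] at h3
        exact h3)⟩
      one_smul := fun v => Subtype.ext (by
        show ((1 : Subgroup.zpowers h) : G) * v.1 * ((1 : Subgroup.zpowers h) : G)⁻¹ = v.1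
        simp)
      mul_smul := fun k l v => Subtype.ext (by
        show ((k * l : Subgroup.zpowers h) : G) * v.1 * ((k * l : Subgroup.zpowers h) : G)⁻¹
          = (k : G) * ((l : G) * v.1 * (l : G)⁻¹) * (k : G)⁻¹
        simp [mul_assoc]) }
  have hsmul : ∀ (k : Subgroup.zpowers h) (v : Ω), ((k • v : Ω) : G) = (k : G) * v.1 * (k : G)⁻¹ :=
    fun _ _ => rfl
  have hfree : ∀ (k : Subgroup.zpowers h) (ω : Ω), k • ω = ω → k = 1 := by
    intro k ω hk
    by_contra hk1
    obtain ⟨j, hj⟩ := Subgroup.mem_zpowers_iff.mp k.2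
    have hk2 : (k : G) * ω.1 * (k : G)⁻¹ = ω.1 := by
      rw [← hsmul, hk]
    have hk3 : h ^ j * ω.1 = ω.1 * h ^ j := by
      rw [hj]
      exact mul_inv_eq_iff_eq_mul.mp hk2
    have hk4 : h ^ j ≠ 1 := by
      rw [hj]
      intro h1
      exact hk1 (Subtype.ext h1)
    exact ω.2.2 (commute_pow_of_stab h ω.1 r b hr hb ho j hk4 hk3)
  have hdvd := card_dvd_of_free hfree
  rw [Nat.card_zpowers, ho] at hdvd
  obtain ⟨m, hm⟩ := hdvd
  refine ⟨m, ?_⟩
  rw [← hm]
  -- |V| = |C| + |Ω|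
  have h1 : Nat.card V = ((V : Set G)).ncard := (Nat.card_coe_set_eq (V : Set G))
  have h2 : Nat.card ↥(V ⊓ Subgroup.centralizer ({h'} : Set G)) =
      (((V ⊓ Subgroup.centralizer ({h'} : Set G) : Subgroup G)) : Set G).ncard :=
    (Nat.card_coe_set_eq _)
  have h3 : Nat.card Ω = ((V : Set G) \ ((V ⊓ Subgroup.centralizer ({h'} : Set G) : Subgroup G) : Set G)).ncard := by
    rw [← Nat.card_coe_set_eq]
    apply Nat.card_congr
    refine Equiv.subtypeEquivRight ?_
    intro v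
    simp only [Set.mem_sdiff, SetLike.mem_coe, Subgroup.mem_inf, Subgroup.mem_centralizer_iff,
      Set.mem_singleton_iff, forall_eq, not_and]
    constructor
    · rintro ⟨hv, hn⟩
      exact ⟨hv, fun _ => hn⟩
    · rintro ⟨hv, hn⟩
      exact ⟨hv, hn hv⟩
  rw [h1, h2, h3]
  have hsub : (((V ⊓ Subgroup.centralizer ({h'} : Set G) : Subgroup G)) : Set G) ⊆ (V : Set G) := by
    intro x hx
    exact (Subgroup.mem_inf.mp hx).1
  rw [Set.ncard_sdiff hsub (Set.toFinite _)]
  have := Set.ncard_le_ncard hsub (Set.toFinite _)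
  omega

theorem relIndex_ge [Finite G] (V : Subgroup G) (hV : IsPGroup 2 V) (h : G)
    (hh : h ∈ Subgroup.normalizer (V : Set G)) (r b : ℕ) (hr : r.Prime) (hr2 : r ≠ 2)
    (hb : 1 ≤ b) (ho : orderOf h = r ^ b) (n : ℕ)
    (hR : ∀ j : ℕ, 0 < j → r ^ b ∣ 2 ^ j - 1 → n ≤ j)
    (hne : ¬ (V ≤ Subgroup.centralizer ({h ^ r ^ (b - 1)} : Set G))) :
    2 ^ n ≤ (V ⊓ Subgroup.centralizer ({h ^ r ^ (b - 1)} : Set G)).relIndex V := by
  obtain ⟨m, hm⟩ := card_eq_add_mul V h hh r b hr hb ho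
  set C := V ⊓ Subgroup.centralizer ({h ^ r ^ (b - 1)} : Set G) with hC
  have hCV : C ≤ V := inf_le_left
  obtain ⟨d, hd⟩ := (IsPGroup.iff_card.mp hV)
  have hCp : IsPGroup 2 C := hV.to_le hCV
  obtain ⟨d', hd'⟩ := (IsPGroup.iff_card.mp hCp)
  have hrel : C.relIndex V * Nat.card C = Nat.card V := by
    have := Subgroup.relIndex_mul_relIndex ⊥ C V bot_le hCV
    rw [Subgroup.relIndex_bot_left, Subgroup.relIndex_bot_left] at this
    rw [mul_comm]; exact this
  have hdd : d' ≤ d := by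
    have h1 : Nat.card C ∣ Nat.card V := Subgroup.card_dvd_of_le hCV
    rw [hd, hd'] at h1
    exact (Nat.pow_dvd_pow_iff_le_right (by norm_num)).mp h1
  have hrel2 : C.relIndex V = 2 ^ (d - d') := by
    rw [hd, hd'] at hrel
    have h2 : (2 : ℕ) ^ d = 2 ^ (d - d') * 2 ^ d' := by
      rw [← pow_add]; congr 1; omega
    rw [h2] at hrel
    exact Nat.eq_of_mul_eq_mul_right (by positivity) hrel
  rw [hrel2]
  apply Nat.pow_le_pow_right (by norm_num)
  have hlt : d' < d := by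
    rcases Nat.lt_or_ge d' d with h1 | h1
    · exact h1
    · exfalso
      apply hne
      have h2 : d' = d := le_antisymm hdd h1
      have h3 : C = V := by
        apply Subgroup.eq_of_le_of_card_ge hCV
        rw [hd, hd', h2]
      rw [← h3]
      exact inf_le_right
  apply hR (d - d') (by omega)
  -- r^b ∣ 2^d' * (2^(d-d') - 1)
  have h5 : r ^ b ∣ 2 ^ d' * (2 ^ (d - d') - 1) := by
    have h6 : 2 ^ d' * (2 ^ (d - d') - 1) = r ^ b * m := by
      rw [hd, hd'] at hm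
      have h2 : (2 : ℕ) ^ d = 2 ^ d' * 2 ^ (d - d') := by
        rw [← pow_add]; congr 1; omega
      rw [Nat.mul_sub, mul_one, ← h2, hm]
      omega
    rw [h6]
    exact dvd_mul_right _ _
  have hcop : Nat.Coprime (r ^ b) (2 ^ d') := by
    apply Nat.Coprime.pow
    exact (Nat.coprime_primes hr Nat.prime_two).mpr hr2
  exact hcop.dvd_of_dvd_mul_left h5

end Cfsg.Agent.Lib.Helper46_FreeOrb
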