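import Mathlib

set_option autoImplicit false
set_option linter.unusedSectionVars false

namespace Cfsg.Agent.Lib.Helper77_CyclicAut

universe u

variable {G : Type u} [Group G] [Finite G] {p : ℕ} [hp : Fact p.Prime]

/-- Conjugation by an element normalizing a cyclic subgroup is a power map. -/
theorem exists_zpow_conj {P : Subgroup G} (hcyc : IsCyclic P) {g : G}
    (hg : g ∈ Subgroup.normalizer (P : Set G)) :
    ∃ k : ℤ, ∀ y ∈ P, g * y * g⁻¹ = y ^ k := by
  obtain ⟨x₀, hx₀⟩ := hcyc.exists_generator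
  have h1 : g * (x₀ : G) * g⁻¹ ∈ P := (Subgroup.mem_set_normalizer_iff.mp hg _).mp x₀.2
  obtain ⟨k, hk⟩ := Subgroup.mem_zpowers_iff.mp (hx₀ ⟨_, h1⟩)
  have hk' : (x₀ : G) ^ k = g * (x₀ : G) * g⁻¹ := by
    have := congrArg (Subtype.val) hk
    simpa using this
  refine ⟨k, fun y hy => ?_⟩
  obtain ⟨j, hj⟩ := Subgroup.mem_zpowers_iff.mp (hx₀ ⟨y, hy⟩)
  have hj' : (x₀ : G) ^ j = y := by
    have := congrArg (Subtype.val) hj
    simpa using this
  rw [← hj', ← zpow_mul, mul_comm, zpow_mul, hk']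
  simp [conj_zpow]

/-- Iterating the conjugation. -/
theorem conj_pow_eq {P : Subgroup G} {g : G} {k : ℤ} (hk : ∀ y ∈ P, g * y * g⁻¹ = y ^ k)
    (N : ℕ) : ∀ y ∈ P, g ^ N * y * (g ^ N)⁻¹ = y ^ (k ^ N) := by
  induction N with
  | zero => intro y _; simp
  | succ N ih =>
    intro y hy
    have h1 : g ^ (N + 1) * y * (g ^ (N + 1))⁻¹ = g * (g ^ N * y * (g ^ N)⁻¹) * g⁻¹ := by
      rw [pow_succ']
      group
    rw [h1, ih y hy, hk _ (P.zpow_mem hy _), ← zpow_mul, pow_succ]

/-- An element of `p'`-order modulo `C_G(P)` normalizing the cyclic `p`-group `P` and fixing a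
non-identity element of `P` centralizes `P`. -/
theorem mem_centralizer_of_fix {P : Subgroup G} (hP : IsPGroup p P) (hcyc : IsCyclic P)
    {T : Subgroup G} (hTN : T ≤ Subgroup.normalizer (P : Set G))
    [hn : ((Subgroup.centralizer (P : Set G)).subgroupOf T).Normal]
    (hpT : ¬ p ∣ (Subgroup.centralizer (P : Set G)).relIndex T) {g : G} (hg : g ∈ T) {x : G}
    (hx : x ∈ P) (hx1 : x ≠ 1) (hgx : g * x * g⁻¹ = x) :
    g ∈ Subgroup.centralizer (P : Set G) := by
  have hp' : p.Prime := hp.1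
  obtain ⟨k, hk⟩ := exists_zpow_conj hcyc (hTN hg)
  obtain ⟨n, hn'⟩ := IsPGroup.iff_card.mp hP
  -- `p ∣ k - 1`
  have hox : p ∣ orderOf x := by
    have h1 : orderOf x ∣ p ^ n := by
      rw [← hn']
      have := Subgroup.orderOf_dvd_natCard P hx
      exact this
    obtain ⟨j, -, hj⟩ := (Nat.dvd_prime_pow hp').mp h1
    rw [hj]
    apply dvd_pow_self
    rintro rfl
    rw [pow_zero, orderOf_eq_one_iff] at hj
    exact hx1 hj
  have hk1 : (p : ℤ) ∣ k - 1 := by
    have h1 : x ^ (k - 1) = 1 := by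
      rw [zpow_sub, zpow_one, ← hk x hx, hgx, mul_inv_cancel]
    have h2 := orderOf_dvd_iff_zpow_eq_one.mpr h1
    exact (Int.natCast_dvd_natCast.mpr hox).trans h2
  have hk2 : ((p ^ n : ℕ) : ℤ) ∣ k ^ p ^ n - 1 := by
    have := dvd_sub_pow_of_dvd_sub hk1 n
    rw [one_pow] at this
    refine dvd_trans ?_ this
    push_cast
    exact pow_dvd_pow _ (Nat.le_succ n)
  -- `g ^ (p ^ n)` centralizes `P`
  have hcen : g ^ p ^ n ∈ Subgroup.centralizer (P : Set G) := by
    rw [Subgroup.mem_centralizer_iff]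
    intro y hy
    have h1 := conj_pow_eq hk (p ^ n) y hy
    obtain ⟨m, hm⟩ := hk2
    have h2 : y ^ (k ^ p ^ n) = y := by
      have : k ^ p ^ n = 1 + ((p ^ n : ℕ) : ℤ) * m := by rw [← hm]; ring
      rw [this, zpow_add, zpow_one, zpow_mul, zpow_natCast]
      have h3 : y ^ p ^ n = 1 := by
        rw [← hn']
        have := Subgroup.orderOf_dvd_natCard P hy
        exact orderOf_dvd_iff_pow_eq_one.mp this
      rw [h3, one_zpow, mul_one]
    rw [h2] at h1
    calc y * g ^ p ^ n = (g ^ p ^ n * y * (g ^ p ^ n)⁻¹) * g ^ p ^ n := by rw [h1]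
      _ = g ^ p ^ n * y := by group
  -- pass to the quotient
  set C := (Subgroup.centralizer (P : Set G)).subgroupOf T with hC
  have h1 : ((QuotientGroup.mk (⟨g, hg⟩ : T) : T ⧸ C)) ^ p ^ n = 1 := by
    rw [← QuotientGroup.mk_pow, QuotientGroup.eq_one_iff, hC, Subgroup.mem_subgroupOf]
    exact hcen
  have h2 : ((QuotientGroup.mk (⟨g, hg⟩ : T) : T ⧸ C)) ^ (Nat.card (T ⧸ C)) = 1 :=
    pow_card_eq_one'
  have hcard : Nat.card (T ⧸ C) = (Subgroup.centralizer (P : Set G)).relIndex T := rfl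
  rw [hcard] at h2
  have hcop : Nat.Coprime (p ^ n) ((Subgroup.centralizer (P : Set G)).relIndex T) :=
    Nat.Coprime.pow_left n ((Nat.Prime.coprime_iff_not_dvd hp').mpr hpT)
  have h3 : orderOf ((QuotientGroup.mk (⟨g, hg⟩ : T) : T ⧸ C)) = 1 :=
    Nat.eq_one_of_dvd_coprimes hcop (orderOf_dvd_of_pow_eq_one h1) (orderOf_dvd_of_pow_eq_one h2)
  rw [orderOf_eq_one_iff, QuotientGroup.eq_one_iff, hC, Subgroup.mem_subgroupOf] at h3
  exact h3

/-- The inertial quotient of a cyclic `p`-group: cyclic of order dividing `p - 1`. -/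
theorem cyclic_quotient {P : Subgroup G} (hP : IsPGroup p P) (hcyc : IsCyclic P) (hP1 : P ≠ ⊥)
    {T : Subgroup G} (hTN : T ≤ Subgroup.normalizer (P : Set G))
    [hn : ((Subgroup.centralizer (P : Set G)).subgroupOf T).Normal]
    (hpT : ¬ p ∣ (Subgroup.centralizer (P : Set G)).relIndex T) :
    IsCyclic (T ⧸ (Subgroup.centralizer (P : Set G)).subgroupOf T) ∧
      (Subgroup.centralizer (P : Set G)).relIndex T ∣ p - 1 := by
  classical
  have hp' : p.Prime := hp.1
  obtain ⟨n, hn'⟩ := IsPGroup.iff_card.mp hP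
  have hn0 : n ≠ 0 := by
    rintro rfl
    rw [pow_zero, Subgroup.card_eq_one] at hn'
    exact hP1 hn'
  have hdvd : p ∣ Nat.card P := by
    rw [hn']
    exact dvd_pow_self p hn0
  obtain ⟨y, hy⟩ := exists_prime_orderOf_dvd_card' p hdvd
  have hyG : orderOf (y : G) = p := by rw [Subgroup.orderOf_coe, hy]
  have hy1 : (y : G) ≠ 1 := by
    intro h
    rw [h, orderOf_one] at hyG
    exact hp'.one_lt.ne hyG
  set Ω := Subgroup.zpowers (y : G) with hΩ
  have hΩP : Ω ≤ P := by
    rw [hΩ, Subgroup.zpowers_le]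
    exact y.2
  have hcardΩ : Nat.card Ω = p := by rw [hΩ, Nat.card_zpowers, hyG]
  -- `T` normalizes `Ω`
  have hconj : ∀ g ∈ T, ∀ ω ∈ Ω, g * ω * g⁻¹ ∈ Ω := by
    intro g hg ω hω
    obtain ⟨k, hk⟩ := exists_zpow_conj hcyc (hTN hg)
    rw [hk ω (hΩP hω)]
    exact Ω.zpow_mem hω k
  have hTΩ : T ≤ Subgroup.normalizer (Ω : Set G) := by
    intro g hg
    rw [Subgroup.mem_set_normalizer_iff]
    intro ω
    refine ⟨hconj g hg ω, fun h => ?_⟩
    have := hconj g⁻¹ (T.inv_mem hg) _ h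
    simpa [mul_assoc] using this
  set ψ : T →* MulAut Ω := (Subgroup.normalizerMonoidHom Ω).comp (Subgroup.inclusion hTΩ) with hψ
  have hker : ψ.ker = (Subgroup.centralizer (P : Set G)).subgroupOf T := by
    ext t
    rw [MonoidHom.mem_ker, hψ, MonoidHom.comp_apply, ← MonoidHom.mem_ker,
      Subgroup.normalizerMonoidHom_ker, Subgroup.mem_subgroupOf, Subgroup.mem_subgroupOf]
    show (t : G) ∈ Subgroup.centralizer (Ω : Set G) ↔ _
    constructor
    · intro h
      have h1 := Subgroup.mem_centralizer_iff.mp h (y : G) (Subgroup.mem_zpowers _)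
      refine mem_centralizer_of_fix hP hcyc hTN hpT t.2 y.2 hy1 ?_
      rw [← h1]
      group
    · intro h
      exact Subgroup.centralizer_le (show (Ω : Set G) ⊆ P from hΩP) h
  -- the automorphism group of `Ω`
  have : Fact (Nat.card Ω).Prime := ⟨by rw [hcardΩ]; exact hp'⟩
  have hcycA : IsCyclic (MulAut Ω) :=
    isCyclic_of_injective (IsCyclic.mulAutMulEquiv Ω).toMonoidHom
      (IsCyclic.mulAutMulEquiv Ω).injective
  have hcardA : Nat.card (MulAut Ω) = p - 1 := by
    rw [IsCyclic.card_mulAut, hcardΩ, Nat.totient_prime hp']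
  -- the quotient embeds
  let e := QuotientGroup.quotientMulEquivOfEq hker
  let f : T ⧸ (Subgroup.centralizer (P : Set G)).subgroupOf T →* MulAut Ω :=
    (QuotientGroup.kerLift ψ).comp e.symm.toMonoidHom
  have hf : Function.Injective f := by
    intro a b hab
    have := QuotientGroup.kerLift_injective ψ hab
    exact e.symm.injective this
  refine ⟨isCyclic_of_injective f hf, ?_⟩
  have h1 := Subgroup.card_dvd_of_injective f hf
  rw [hcardA] at h1
  exact h1

/-- The elements of a cyclic subgroup commute. -/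
theorem commute_of_isCyclic {P : Subgroup G} (hcyc : IsCyclic P) :
    ∀ x ∈ P, ∀ y ∈ P, x * y = y * x := by
  intro x hx y hy
  obtain ⟨x₀, hx₀⟩ := hcyc.exists_generator
  obtain ⟨i, hi⟩ := Subgroup.mem_zpowers_iff.mp (hx₀ ⟨x, hx⟩)
  obtain ⟨j, hj⟩ := Subgroup.mem_zpowers_iff.mp (hx₀ ⟨y, hy⟩)
  have hi' : (x₀ : G) ^ i = x := by
    have := congrArg (Subtype.val) hi
    simpa using this
  have hj' : (x₀ : G) ^ j = y := by
    have := congrArg (Subtype.val) hj
    simpa using this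
  rw [← hi', ← hj', ← zpow_add, ← zpow_add, add_comm]

end Cfsg.Agent.Lib.Helper77_CyclicAut
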