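import Mathlib.GroupTheory.Nilpotent
import Mathlib.GroupTheory.PGroup
import Mathlib.GroupTheory.Sylow
import Mathlib.GroupTheory.SpecificGroups.Cyclic

/-!
# p-groups of maximal class: basics (helper2)

* `class_le`: a group of order `p ^ m`, `2 ≤ m`, has nilpotency class at most `m - 1`.
* `maxClass_center`: a group of order `p ^ n`, `3 ≤ n`, of class `n - 1` has centre of order `p`,
  and the central quotient has order `p ^ (n - 1)` and class `n - 2`.
-/

set_option autoImplicit false

namespace Cfsg.Agent.Lib.Helper2_MaxClass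

open Subgroup

universe u

/-- A commutative group has class at most one. -/
theorem class_le_one_of_comm {X : Type*} [Group X] (hcomm : ∀ a b : X, a * b = b * a) :
    Group.nilpotencyClass X ≤ 1 := by
  have hcen : center X = ⊤ := by
    rw [eq_top_iff]
    intro x _
    rw [mem_center_iff]
    intro g
    exact hcomm g x
  have hnil : Group.IsNilpotent X := ⟨⟨1, by rw [Subgroup.upperCentralSeries_one, hcen]⟩⟩
  rw [← Subgroup.upperCentralSeries_eq_top_iff_nilpotencyClass_le, Subgroup.upperCentralSeries_one,
    hcen]

/-- A group whose central quotient has order dividing `p` has class at most one. -/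
theorem class_le_one_of_card_quotient_dvd {X : Type*} [Group X] {p : ℕ} [Fact p.Prime]
    (h : Nat.card (X ⧸ center X) ∣ p) : Group.nilpotencyClass X ≤ 1 := by
  have hcyc : IsCyclic (X ⧸ center X) := isCyclic_of_card_dvd_prime h
  have hcomm : IsMulCommutative X :=
    (QuotientGroup.mk' (center X)).isMulCommutative_of_isCyclic_of_ker_le_center
      (by rw [QuotientGroup.ker_mk'])
  exact class_le_one_of_comm (fun a b => hcomm.is_comm.comm a b)

/-- The order of the central quotient. -/
theorem card_quotient_center {X : Type*} [Group X] [Finite X] {p : ℕ} [hp : Fact p.Prime]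
    {m k : ℕ} (hX : Nat.card X = p ^ m) (hk : Nat.card (center X) = p ^ k) :
    k ≤ m ∧ Nat.card (X ⧸ center X) = p ^ (m - k) := by
  have hpp : p.Prime := hp.out
  have h1 := card_eq_card_quotient_mul_card_subgroup (center X)
  rw [hX, hk] at h1
  have hkm : k ≤ m := by
    have hdvd : p ^ k ∣ p ^ m := Dvd.intro_left _ h1.symm
    exact (Nat.pow_dvd_pow_iff_le_right hpp.one_lt).mp hdvd
  refine ⟨hkm, ?_⟩
  have h2 : p ^ m = p ^ (m - k) * p ^ k := by
    rw [← pow_add]; congr 1; omega
  rw [h2] at h1
  exact (Nat.eq_of_mul_eq_mul_right (pow_pos hpp.pos k) h1).symm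

/-- A group of order `p ^ m` with `2 ≤ m` has nilpotency class at most `m - 1`. -/
theorem class_le (p : ℕ) [hp : Fact p.Prime] : ∀ (m : ℕ) (X : Type u) [Group X] [Finite X],
    Nat.card X = p ^ m → 2 ≤ m → Group.nilpotencyClass X ≤ m - 1 := by
  intro m
  induction m using Nat.strong_induction_on with
  | _ m ih =>
  intro X _ _ hX hm
  have hpp : p.Prime := hp.out
  have hPG : IsPGroup p X := IsPGroup.of_card hX
  have hnil : Group.IsNilpotent X := hPG.isNilpotent
  obtain ⟨k, hk0, hk⟩ := IsPGroup.card_center_eq_prime_pow hX (by omega)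
  obtain ⟨hkm, hQ⟩ := card_quotient_center hX hk
  have hq : Group.nilpotencyClass (X ⧸ center X) = Group.nilpotencyClass X - 1 :=
    Group.nilpotencyClass_quotient_center (G := X)
  rcases Nat.lt_or_ge (m - k) 2 with hlt | hge
  · have hdvd : Nat.card (X ⧸ center X) ∣ p := by
      rw [hQ]
      have : m - k = 0 ∨ m - k = 1 := by omega
      rcases this with h | h <;> rw [h] <;> simp
    have := class_le_one_of_card_quotient_dvd hdvd
    omega
  · have := ih (m - k) (by omega) (X ⧸ center X) hQ hge
    omega

/-- A group of order `p ^ n`, `3 ≤ n`, of class `n - 1`: the centre has order `p`, the central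
quotient has order `p ^ (n - 1)` and class `n - 2`. -/
theorem maxClass_center {X : Type u} [Group X] [Finite X] {p : ℕ} [hp : Fact p.Prime] {n : ℕ}
    (hX : Nat.card X = p ^ n) (hn : 3 ≤ n) (hc : Group.nilpotencyClass X = n - 1) :
    Nat.card (center X) = p ∧ Nat.card (X ⧸ center X) = p ^ (n - 1) ∧
      Group.nilpotencyClass (X ⧸ center X) = n - 2 := by
  have hpp : p.Prime := hp.out
  obtain ⟨k, hk0, hk⟩ := IsPGroup.card_center_eq_prime_pow hX (by omega)
  obtain ⟨hkm, hQ⟩ := card_quotient_center hX hk
  have hq : Group.nilpotencyClass (X ⧸ center X) = Group.nilpotencyClass X - 1 :=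
    Group.nilpotencyClass_quotient_center (G := X)
  have hk1 : k = 1 := by
    rcases Nat.lt_or_ge (n - k) 2 with hlt | hge
    · have hdvd : Nat.card (X ⧸ center X) ∣ p := by
        rw [hQ]
        have : n - k = 0 ∨ n - k = 1 := by omega
        rcases this with h | h <;> rw [h] <;> simp
      have := class_le_one_of_card_quotient_dvd hdvd
      omega
    · have := class_le p (n - k) (X ⧸ center X) hQ hge
      omega
  subst hk1
  refine ⟨by simpa using hk, hQ, ?_⟩
  rw [hq, hc]
  omega

end Cfsg.Agent.Lib.Helper2_MaxClass
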