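import Mathlib
import Cfsg.Prelude.Def_PLocal
import Cfsg.Agent.Lib.Helper47_PLocal

set_option autoImplicit false

/-!
# Uniserial actions of p-groups: commutator-chain lemmas (helper95)

General lemmas on commutator subgroups `⁅A, B⁆` of subgroups of an ambient group, and on the chain
`Cfsg.iterCommutator N G i`.
-/

namespace Cfsg.Agent.Lib.Helper95_Uniserial

open Cfsg
open scoped commutatorElement

/-- If `B` normalizes `A` then `⁅A, B⁆ ≤ A`. -/
theorem commutator_le_left_of_le_normalizer {L : Type*} [Group L] {A B : Subgroup L}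
    (h : B ≤ Subgroup.normalizer (A : Set L)) : ⁅A, B⁆ ≤ A := by
  rw [Subgroup.commutator_le]
  intro a ha b hb
  have h1 : b * a⁻¹ * b⁻¹ ∈ A := (Subgroup.mem_normalizer_iff.mp (h hb) a⁻¹).mp (A.inv_mem ha)
  have h2 : ⁅a, b⁆ = a * (b * a⁻¹ * b⁻¹) := by
    simp only [commutatorElement_def]; group
  rw [h2]
  exact A.mul_mem ha h1

/-- If `A₁`, `A₂` normalize `D` and `⁅A₁, B⁆ ≤ D`, `⁅A₂, B⁆ ≤ D` then `⁅A₁ ⊔ A₂, B⁆ ≤ D`. -/
theorem commutator_sup_le {L : Type*} [Group L] {A₁ A₂ B D : Subgroup L}
    (h1 : A₁ ≤ Subgroup.normalizer (D : Set L)) (h2 : A₂ ≤ Subgroup.normalizer (D : Set L))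
    (c1 : ⁅A₁, B⁆ ≤ D) (c2 : ⁅A₂, B⁆ ≤ D) : ⁅A₁ ⊔ A₂, B⁆ ≤ D := by
  let S : Subgroup L :=
    { carrier := {x | x ∈ Subgroup.normalizer (D : Set L) ∧ ∀ b ∈ B, ⁅x, b⁆ ∈ D}
      one_mem' := by
        refine ⟨Subgroup.one_mem _, fun b _ => ?_⟩
        simp
      mul_mem' := by
        rintro x y ⟨hx, hx'⟩ ⟨hy, hy'⟩
        refine ⟨Subgroup.mul_mem _ hx hy, fun b hb => ?_⟩
        have e : ⁅x * y, b⁆ = (x * ⁅y, b⁆ * x⁻¹) * ⁅x, b⁆ := by
          simp only [commutatorElement_def]; group
        rw [e]
        exact D.mul_mem ((Subgroup.mem_normalizer_iff.mp hx _).mp (hy' b hb)) (hx' b hb)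
      inv_mem' := by
        rintro x ⟨hx, hx'⟩
        refine ⟨Subgroup.inv_mem _ hx, fun b hb => ?_⟩
        have e : ⁅x⁻¹, b⁆ = x⁻¹ * (⁅x, b⁆)⁻¹ * (x⁻¹)⁻¹ := by
          simp only [commutatorElement_def]; group
        rw [e]
        exact (Subgroup.mem_normalizer_iff.mp (Subgroup.inv_mem _ hx) _).mp
          (D.inv_mem (hx' b hb)) }
  have hS : A₁ ⊔ A₂ ≤ S := by
    refine sup_le ?_ ?_
    · intro x hx
      exact ⟨h1 hx, fun b hb => c1 (Subgroup.commutator_mem_commutator hx hb)⟩
    · intro x hx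
      exact ⟨h2 hx, fun b hb => c2 (Subgroup.commutator_mem_commutator hx hb)⟩
  rw [Subgroup.commutator_le]
  intro x hx b hb
  exact (hS hx).2 b hb

/-- A nontrivial `p`-subgroup `A` normalized by a `p`-subgroup `B` (in a finite group) satisfies
`⁅A, B⁆ ≠ A`. -/
theorem commutator_ne_self {L : Type*} [Group L] [Finite L] {p : ℕ} [Fact p.Prime]
    {A B : Subgroup L} (hA : IsPGroup p A) (hB : IsPGroup p B)
    (h : B ≤ Subgroup.normalizer (A : Set L)) (hne : A ≠ ⊥) : ⁅A, B⁆ ≠ A := by
  intro heq
  apply hne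
  have hT : IsPGroup p (A ⊔ B : Subgroup L) := hA.to_sup_of_normal_left' hB h
  have hnil : Group.IsNilpotent (A ⊔ B : Subgroup L) := hT.isNilpotent
  obtain ⟨k, hk⟩ := (Subgroup.isNilpotent_iff_lowerCentralSeries (A ⊔ B)).mp hnil
  have key : ∀ k, A ≤ (A ⊔ B).lowerCentralSeries k := by
    intro k
    induction k with
    | zero => exact le_sup_left
    | succ k ih =>
      rw [Subgroup.lowerCentralSeries_succ]
      calc A = ⁅A, B⁆ := heq.symm
        _ ≤ ⁅(A ⊔ B).lowerCentralSeries k, A ⊔ B⁆ := Subgroup.commutator_mono ih le_sup_right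
  exact le_bot_iff.mp (hk ▸ key k)

/-- Sandwich between subgroups of order `p^a` and `p^(a+1)`. -/
theorem eq_or_eq_of_card_pow {L : Type*} [Group L] [Finite L] {p : ℕ} [hp : Fact p.Prime]
    {X Y Z : Subgroup L} {a : ℕ} (hXY : X ≤ Y) (hYZ : Y ≤ Z) (hX : Nat.card X = p ^ a)
    (hZ : Nat.card Z = p ^ (a + 1)) : Y = X ∨ Y = Z := by
  have h1 : Nat.card Y ∣ p ^ (a + 1) := hZ ▸ Subgroup.card_dvd_of_le hYZ
  obtain ⟨y, hy, hYc⟩ := (Nat.dvd_prime_pow hp.out).mp h1
  have h2 : p ^ a ∣ p ^ y := by
    rw [← hX, ← hYc]; exact Subgroup.card_dvd_of_le hXY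
  have h3 : a ≤ y := (Nat.pow_dvd_pow_iff_le_right hp.out.one_lt).mp h2
  rcases Nat.lt_or_ge a y with h4 | h4
  · right
    have : y = a + 1 := by omega
    exact Subgroup.eq_of_le_of_card_ge hYZ (by rw [hZ, hYc, this])
  · left
    have : y = a := by omega
    exact (Subgroup.eq_of_le_of_card_ge hXY (by rw [hX, hYc, this])).symm

/-- `card H * H.relIndex K = card K` for `H ≤ K`. -/
theorem card_mul_relIndex {L : Type*} [Group L] {H K : Subgroup L} (h : H ≤ K) :
    Nat.card H * H.relIndex K = Nat.card K := by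
  have := Subgroup.relIndex_mul_relIndex (⊥ : Subgroup L) H K bot_le h
  rwa [Subgroup.relIndex_bot_left, Subgroup.relIndex_bot_left] at this

/-! ### The chain `iterCommutator N G i` -/

section chain

variable {L : Type*} [Group L] (N G : Subgroup L)

theorem iter_zero : Cfsg.iterCommutator N G 0 = N := rfl

theorem iter_succ (i : ℕ) :
    Cfsg.iterCommutator N G (i + 1) = ⁅Cfsg.iterCommutator N G i, G⁆ := rfl

variable {N G}

theorem le_normalizer_iter (h : G ≤ Subgroup.normalizer (N : Set L)) (i : ℕ) :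
    G ≤ Subgroup.normalizer (Cfsg.iterCommutator N G i : Set L) := by
  cases i with
  | zero => exact h
  | succ i =>
    rw [iter_succ]
    exact Cfsg.Agent.Lib.Helper47_PLocal.le_normalizer_commutator_right _ _

theorem iter_succ_le (h : G ≤ Subgroup.normalizer (N : Set L)) (i : ℕ) :
    Cfsg.iterCommutator N G (i + 1) ≤ Cfsg.iterCommutator N G i := by
  rw [iter_succ]
  exact commutator_le_left_of_le_normalizer (le_normalizer_iter h i)

theorem iter_antitone (h : G ≤ Subgroup.normalizer (N : Set L)) :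
    Antitone (Cfsg.iterCommutator N G) :=
  antitone_nat_of_succ_le (iter_succ_le h)

theorem iter_le (h : G ≤ Subgroup.normalizer (N : Set L)) (i : ℕ) :
    Cfsg.iterCommutator N G i ≤ N :=
  iter_antitone h (Nat.zero_le i)

theorem iter_mono {H : Subgroup L} (hHN : H ≤ N) (i : ℕ) :
    Cfsg.iterCommutator H G i ≤ Cfsg.iterCommutator N G i := by
  induction i with
  | zero => exact hHN
  | succ i ih =>
    rw [iter_succ, iter_succ]
    exact Subgroup.commutator_mono ih le_rfl

end chain

theorem iter_mono_add {L : Type*} [Group L] {N G H : Subgroup L} {i : ℕ}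
    (hH : H ≤ Cfsg.iterCommutator N G i) (j : ℕ) :
    Cfsg.iterCommutator H G j ≤ Cfsg.iterCommutator N G (i + j) := by
  induction j with
  | zero => exact hH
  | succ j ih =>
    rw [iter_succ, ← add_assoc, iter_succ]
    exact Subgroup.commutator_mono ih le_rfl

/-! ### Structure of the chain when it has full length -/

section main

variable {L : Type*} [Group L] [Finite L] {p : ℕ} [hp : Fact p.Prime] {N G : Subgroup L}

omit [Finite L] hp in
theorem iter_isPGroup (hN : IsPGroup p N) (hGN : G ≤ Subgroup.normalizer (N : Set L)) (i : ℕ) :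
    IsPGroup p (Cfsg.iterCommutator N G i) :=
  hN.to_le (iter_le hGN i)

/-- A nontrivial term of the chain is strictly bigger than the next one. -/
theorem iter_succ_ne (hN : IsPGroup p N) (hG : IsPGroup p G)
    (hGN : G ≤ Subgroup.normalizer (N : Set L)) {i : ℕ}
    (hi : Cfsg.iterCommutator N G i ≠ ⊥) :
    Cfsg.iterCommutator N G (i + 1) ≠ Cfsg.iterCommutator N G i := by
  rw [iter_succ]
  exact commutator_ne_self (iter_isPGroup hN hGN i) hG (le_normalizer_iter hGN i) hi

omit [Finite L] in
/-- If the chain is nontrivial at `n - 1`, it is nontrivial at all `i < n`. -/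
theorem iter_ne_bot_of_lt (hGN : G ≤ Subgroup.normalizer (N : Set L)) {n : ℕ}
    (hlast : Cfsg.iterCommutator N G (n - 1) ≠ ⊥) {i : ℕ} (hi : i < n) :
    Cfsg.iterCommutator N G i ≠ ⊥ := by
  intro h
  apply hlast
  have : Cfsg.iterCommutator N G (n - 1) ≤ Cfsg.iterCommutator N G i :=
    iter_antitone hGN (by omega)
  rw [h] at this
  exact le_bot_iff.mp this

/-- Orders of the chain terms when the chain has full length. -/
theorem card_iter (hN : IsPGroup p N) (hG : IsPGroup p G)
    (hGN : G ≤ Subgroup.normalizer (N : Set L)) {n : ℕ} (hn : Nat.card N = p ^ n)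
    (hlast : Cfsg.iterCommutator N G (n - 1) ≠ ⊥) {i : ℕ} (hi : i ≤ n) :
    Nat.card (Cfsg.iterCommutator N G i) = p ^ (n - i) := by
  have hex : ∀ i, ∃ e, Nat.card (Cfsg.iterCommutator N G i) = p ^ e := fun i =>
    IsPGroup.iff_card.mp (iter_isPGroup hN hGN i)
  choose e he using hex
  have hinj : Function.Injective (fun k : ℕ => p ^ k) := Nat.pow_right_injective hp.out.two_le
  have e0 : e 0 = n := by
    apply hinj
    show p ^ e 0 = p ^ n
    rw [← he 0, iter_zero, hn]
  have hstep : ∀ i, i < n → e (i + 1) < e i := by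
    intro i hi
    have h1 : p ^ e (i + 1) ∣ p ^ e i := by
      rw [← he, ← he]; exact Subgroup.card_dvd_of_le (iter_succ_le hGN i)
    have h2 : e (i + 1) ≤ e i := (Nat.pow_dvd_pow_iff_le_right hp.out.one_lt).mp h1
    rcases Nat.lt_or_ge (e (i + 1)) (e i) with h3 | h3
    · exact h3
    · exfalso
      have h4 : e (i + 1) = e i := le_antisymm h2 h3
      apply iter_succ_ne hN hG hGN (iter_ne_bot_of_lt hGN hlast hi)
      exact Subgroup.eq_of_le_of_card_ge (iter_succ_le hGN i) (by rw [he, he, h4])
  have hup : ∀ i, i ≤ n → e i + i ≤ n := by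
    intro i
    induction i with
    | zero => intro _; omega
    | succ i ih =>
      intro hi
      have := ih (by omega)
      have := hstep i (by omega)
      omega
  have hlow : ∀ k, k ≤ n → k ≤ e (n - k) := by
    intro k
    induction k with
    | zero => intro _; omega
    | succ k ih =>
      intro hk
      have h1 := ih (by omega)
      have h2 := hstep (n - (k + 1)) (by omega)
      have h3 : n - (k + 1) + 1 = n - k := by omega
      rw [h3] at h2
      omega
  have h1 := hup i hi
  have h2 := hlow (n - i) (by omega)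
  have h3 : n - (n - i) = i := by omega
  rw [h3] at h2
  rw [he]
  congr 1
  omega

theorem iter_eq_bot (hN : IsPGroup p N) (hG : IsPGroup p G)
    (hGN : G ≤ Subgroup.normalizer (N : Set L)) {n : ℕ} (hn : Nat.card N = p ^ n)
    (hlast : Cfsg.iterCommutator N G (n - 1) ≠ ⊥) {i : ℕ} (hi : n ≤ i) :
    Cfsg.iterCommutator N G i = ⊥ := by
  have h1 : Cfsg.iterCommutator N G n = ⊥ := by
    rw [← Subgroup.card_eq_one, card_iter hN hG hGN hn hlast le_rfl]
    simp
  have h2 := iter_antitone hGN hi
  rw [h1] at h2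
  exact le_bot_iff.mp h2

/-- When the chain has full length, `N` normalizes every term. -/
theorem le_normalizer_iter_of_full (hN : IsPGroup p N) (hG : IsPGroup p G)
    (hGN : G ≤ Subgroup.normalizer (N : Set L)) {n : ℕ} (hn : Nat.card N = p ^ n)
    (hlast : Cfsg.iterCommutator N G (n - 1) ≠ ⊥) (i : ℕ) :
    N ≤ Subgroup.normalizer (Cfsg.iterCommutator N G i : Set L) := by
  induction i with
  | zero => exact Subgroup.le_normalizer
  | succ i ih =>
    rcases Nat.lt_or_ge i n with hi | hi
    · have hT : N ⊔ G ≤ Subgroup.normalizer (Cfsg.iterCommutator N G i : Set L) :=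
        sup_le ih (le_normalizer_iter hGN i)
      have hTp : IsPGroup p (N ⊔ G : Subgroup L) := hN.to_sup_of_normal_left' hG hGN
      have hX1 : N ⊔ G ≤ Subgroup.normalizer
          ((⁅Cfsg.iterCommutator N G i, N ⊔ G⁆ : Subgroup L) : Set L) :=
        Cfsg.Agent.Lib.Helper47_PLocal.le_normalizer_commutator_right _ _
      have hX2 : ⁅Cfsg.iterCommutator N G i, N ⊔ G⁆ ≤ Cfsg.iterCommutator N G i :=
        commutator_le_left_of_le_normalizer hT
      have hX3 : Cfsg.iterCommutator N G (i + 1) ≤ ⁅Cfsg.iterCommutator N G i, N ⊔ G⁆ := by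
        rw [iter_succ]
        exact Subgroup.commutator_mono le_rfl le_sup_right
      have hX4 : ⁅Cfsg.iterCommutator N G i, N ⊔ G⁆ ≠ Cfsg.iterCommutator N G i :=
        commutator_ne_self (iter_isPGroup hN hGN i) hTp hT (iter_ne_bot_of_lt hGN hlast hi)
      have hc1 : Nat.card (Cfsg.iterCommutator N G (i + 1)) = p ^ (n - (i + 1)) :=
        card_iter hN hG hGN hn hlast (by omega)
      have hc2 : Nat.card (Cfsg.iterCommutator N G i) = p ^ (n - (i + 1) + 1) := by
        rw [card_iter hN hG hGN hn hlast (by omega : i ≤ n)]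
        congr 1; omega
      rcases eq_or_eq_of_card_pow hX3 hX2 hc1 hc2 with h | h
      · rw [← h]
        exact le_sup_left.trans hX1
      · exact absurd h hX4
    · rw [iter_eq_bot hN hG hGN hn hlast (by omega : n ≤ i + 1)]
      intro x _
      rw [Subgroup.mem_normalizer_iff]
      intro y
      simp [Subgroup.mem_bot]

/-- When the chain has full length, every `G`-invariant subgroup of `N` is a term of the chain. -/
theorem eq_iter_of_invariant (hN : IsPGroup p N) (hG : IsPGroup p G)
    (hGN : G ≤ Subgroup.normalizer (N : Set L)) {n : ℕ} (hn : Nat.card N = p ^ n)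
    (hlast : Cfsg.iterCommutator N G (n - 1) ≠ ⊥) {H : Subgroup L} (hHN : H ≤ N)
    (hGH : G ≤ Subgroup.normalizer (H : Set L)) :
    ∃ i ≤ n, H = Cfsg.iterCommutator N G i := by
  classical
  by_cases hH : H = ⊥
  · exact ⟨n, le_rfl, by rw [hH, iter_eq_bot hN hG hGN hn hlast le_rfl]⟩
  let P : ℕ → Prop := fun i => H ≤ Cfsg.iterCommutator N G i
  have hP0 : P 0 := hHN
  let i := Nat.findGreatest P n
  have hi1 : P i := Nat.findGreatest_spec (Nat.zero_le n) hP0
  have hi2 : i ≤ n := Nat.findGreatest_le n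
  have hi3 : i < n := by
    rcases Nat.lt_or_ge i n with h | h
    · exact h
    · exfalso
      apply hH
      have h1 : H ≤ Cfsg.iterCommutator N G i := hi1
      rw [iter_eq_bot hN hG hGN hn hlast h] at h1
      exact le_bot_iff.mp h1
  have hi4 : ¬ H ≤ Cfsg.iterCommutator N G (i + 1) :=
    Nat.findGreatest_is_greatest (Nat.lt_succ_self i) hi3
  refine ⟨i, hi2, ?_⟩
  have hHi : H ≤ Cfsg.iterCommutator N G i := hi1
  -- the chain of `H`
  have hHj : ∀ j, Cfsg.iterCommutator H G j ≤ Cfsg.iterCommutator N G (i + j) :=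
    fun j => iter_mono_add hHi j
  have hcard : ∀ m, m < n → Nat.card (Cfsg.iterCommutator N G (m + 1)) = p ^ (n - (m + 1)) ∧
      Nat.card (Cfsg.iterCommutator N G m) = p ^ (n - (m + 1) + 1) := by
    intro m hm
    refine ⟨card_iter hN hG hGN hn hlast (by omega), ?_⟩
    rw [card_iter hN hG hGN hn hlast (by omega : m ≤ n)]
    congr 1; omega
  -- key claim
  have star : ∀ j, Cfsg.iterCommutator N G (i + j) =
      Cfsg.iterCommutator H G j ⊔ Cfsg.iterCommutator N G (i + j + 1) := by
    intro j
    induction j with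
    | zero =>
      have hY1 : Cfsg.iterCommutator N G (i + 1) ≤ H ⊔ Cfsg.iterCommutator N G (i + 1) :=
        le_sup_right
      have hY2 : H ⊔ Cfsg.iterCommutator N G (i + 1) ≤ Cfsg.iterCommutator N G i :=
        sup_le hHi (iter_succ_le hGN i)
      rcases eq_or_eq_of_card_pow hY1 hY2 (hcard i hi3).1 (hcard i hi3).2 with h | h
      · exfalso
        apply hi4
        rw [← h]
        exact le_sup_left
      · exact h.symm
    | succ j ih =>
      rcases Nat.lt_or_ge (i + j + 1) n with hm | hm
      · have hY1 : Cfsg.iterCommutator N G (i + j + 1 + 1) ≤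
            Cfsg.iterCommutator H G (j + 1) ⊔ Cfsg.iterCommutator N G (i + j + 1 + 1) :=
          le_sup_right
        have hY2 : Cfsg.iterCommutator H G (j + 1) ⊔ Cfsg.iterCommutator N G (i + j + 1 + 1) ≤
            Cfsg.iterCommutator N G (i + j + 1) :=
          sup_le (hHj (j + 1)) (iter_succ_le hGN (i + j + 1))
        rcases eq_or_eq_of_card_pow hY1 hY2 (hcard _ hm).1 (hcard _ hm).2 with h | h
        · exfalso
          have hD : Cfsg.iterCommutator H G (j + 1) ≤ Cfsg.iterCommutator N G (i + j + 1 + 1) := by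
            rw [← h]; exact le_sup_left
          have hnorm : N ≤ Subgroup.normalizer
              (Cfsg.iterCommutator N G (i + j + 1 + 1) : Set L) :=
            le_normalizer_iter_of_full hN hG hGN hn hlast _
          have h1 : Cfsg.iterCommutator H G j ≤ Subgroup.normalizer
              (Cfsg.iterCommutator N G (i + j + 1 + 1) : Set L) :=
            ((iter_le hGH j).trans hHN).trans hnorm
          have h2 : Cfsg.iterCommutator N G (i + j + 1) ≤ Subgroup.normalizer
              (Cfsg.iterCommutator N G (i + j + 1 + 1) : Set L) :=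
            (iter_le hGN _).trans hnorm
          have h3 : ⁅Cfsg.iterCommutator H G j ⊔ Cfsg.iterCommutator N G (i + j + 1), G⁆ ≤
              Cfsg.iterCommutator N G (i + j + 1 + 1) :=
            commutator_sup_le h1 h2 hD le_rfl
          rw [← ih] at h3
          have h4 : Cfsg.iterCommutator N G (i + j + 1) = Cfsg.iterCommutator N G (i + j + 1 + 1) :=
            le_antisymm h3 (iter_succ_le hGN _)
          exact iter_succ_ne hN hG hGN (iter_ne_bot_of_lt hGN hlast hm) h4.symm
        · exact h.symm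
      · have e1 : Cfsg.iterCommutator N G (i + (j + 1)) = ⊥ :=
          iter_eq_bot hN hG hGN hn hlast (by omega)
        have e2 : Cfsg.iterCommutator N G (i + (j + 1) + 1) = ⊥ :=
          iter_eq_bot hN hG hGN hn hlast (by omega)
        have e3 : Cfsg.iterCommutator H G (j + 1) = ⊥ := by
          have := hHj (j + 1)
          rw [e1] at this
          exact le_bot_iff.mp this
        rw [e1, e2, e3, sup_bot_eq]
  -- downward induction
  have down : ∀ k j, n ≤ j + k → Cfsg.iterCommutator N G (i + j) ≤ H := by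
    intro k
    induction k with
    | zero =>
      intro j hj
      rw [iter_eq_bot hN hG hGN hn hlast (by omega)]
      exact bot_le
    | succ k ih =>
      intro j hj
      rw [star j]
      exact sup_le (iter_le hGH j) (ih (j + 1) (by omega))
  exact le_antisymm hHi (down n 0 (by omega))

omit [Finite L] in
/-- Under the uniserial condition, the chain terms have orders `p^(n-i)`. -/
theorem card_iter_of_uniserial (hGN : G ≤ Subgroup.normalizer (N : Set L)) {n : ℕ}
    (hn : Nat.card N = p ^ n)
    (hU : ∀ H : Subgroup L, H ≤ N → G ≤ Subgroup.normalizer (H : Set L) → H ≠ ⊥ →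
      (⁅H, G⁆).relIndex H = p) {i : ℕ} (hi : i ≤ n) :
    Nat.card (Cfsg.iterCommutator N G i) = p ^ (n - i) := by
  induction i with
  | zero => rw [iter_zero, hn, Nat.sub_zero]
  | succ i ih =>
    have h1 := ih (by omega)
    have hne : Cfsg.iterCommutator N G i ≠ ⊥ := by
      intro h
      rw [h, Subgroup.card_bot] at h1
      have : 1 < p ^ (n - i) := Nat.one_lt_pow (by omega) hp.out.one_lt
      omega
    have h2 := hU _ (iter_le hGN i) (le_normalizer_iter hGN i) hne
    have h3 := card_mul_relIndex (iter_succ_le hGN i)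
    rw [iter_succ N G i] at h3
    rw [h2, h1] at h3
    have h4 : n - i = (n - (i + 1)) + 1 := by omega
    rw [h4, pow_succ] at h3
    rw [iter_succ]
    exact Nat.eq_of_mul_eq_mul_right hp.out.pos h3

end main

end Cfsg.Agent.Lib.Helper95_Uniserial
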