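import Mathlib
import Cfsg.Agent.Lib.Helper95_Uniserial
import Cfsg.Agent.Lib.Helper2_MaxClass

/-!
# p-groups of maximal class: the lower central series (helper95)

* `lcs_one_le_two_of_cyclic`: if `G ⧸ G'` is cyclic then `G' ≤ [G', G]`.
* `sq_dvd_index_lcs_one`: in a nonabelian finite `p`-group, `p ^ 2 ∣ |G : G'|`.
* `index_lcs_of_maxClass`: in a `p`-group of order `p ^ n` and class `n - 1` (`3 ≤ n`), the `k`-th
  term of the lower central series (`1 ≤ k ≤ n - 1`, Mathlib's indexing) has index `p ^ (k + 1)`.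
* `lcs_le_of_index`: a normal subgroup of index `p ^ r` (`2 ≤ r`) contains the `(r-1)`-st term.
* `card_subgroups_card_eq_prime`: a non-cyclic group of order `p ^ 2` has `p + 1` subgroups of
  order `p`.
-/

namespace Cfsg.Agent.Lib.Helper95_MaxClass

open Cfsg
open scoped commutatorElement

universe u

theorem iter_lcs {G : Type*} [Group G] (i : ℕ) :
    Cfsg.iterCommutator ((⊤ : Subgroup G).lowerCentralSeries 1) ⊤ i =
      (⊤ : Subgroup G).lowerCentralSeries (i + 1) := by
  induction i with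
  | zero => rfl
  | succ i ih =>
    rw [Cfsg.Agent.Lib.Helper95_Uniserial.iter_succ, ih]
    rfl

/-- If `G ⧸ G'` is cyclic then `G' ≤ [G', G]`. -/
theorem lcs_one_le_two_of_cyclic {G : Type*} [Group G]
    (h : IsCyclic (G ⧸ (⊤ : Subgroup G).lowerCentralSeries 1)) :
    (⊤ : Subgroup G).lowerCentralSeries 1 ≤ (⊤ : Subgroup G).lowerCentralSeries 2 := by
  set D := (⊤ : Subgroup G).lowerCentralSeries 1 with hD
  set E := (⊤ : Subgroup G).lowerCentralSeries 2 with hE
  have hED : E ≤ D := Subgroup.lowerCentralSeries_antitone _ (by norm_num)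
  have hE2 : E = ⁅D, ⊤⁆ := rfl
  let f : G ⧸ E →* G ⧸ D := QuotientGroup.map E D (MonoidHom.id G) (by simpa using hED)
  have hker : f.ker ≤ Subgroup.center (G ⧸ E) := by
    intro q hq
    induction q using QuotientGroup.induction_on with
    | H x =>
      rw [MonoidHom.mem_ker] at hq
      have hx : x ∈ D := by
        have : f (QuotientGroup.mk x) = QuotientGroup.mk x := rfl
        rw [this] at hq
        exact (QuotientGroup.eq_one_iff x).mp hq
      rw [Subgroup.mem_center_iff]
      intro r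
      induction r using QuotientGroup.induction_on with
      | H y =>
        have hc : ⁅x, y⁆ ∈ E := by
          rw [hE2]; exact Subgroup.commutator_mem_commutator hx (Subgroup.mem_top y)
        have h1 : (QuotientGroup.mk (⁅x, y⁆) : G ⧸ E) = 1 := (QuotientGroup.eq_one_iff _).mpr hc
        have h2 : x * y = ⁅x, y⁆ * (y * x) := by
          rw [commutatorElement_def]; group
        have h3 : (QuotientGroup.mk (x * y) : G ⧸ E) = QuotientGroup.mk (y * x) := by
          rw [h2, QuotientGroup.mk_mul E ⁅x, y⁆, h1, one_mul]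
        exact h3.symm
  have hcomm : IsMulCommutative (G ⧸ E) :=
    f.isMulCommutative_of_isCyclic_of_ker_le_center hker
  have hD2 : D = ⁅(⊤ : Subgroup G), ⊤⁆ := rfl
  rw [hD2, Subgroup.commutator_le]
  intro x _ y _
  rw [← QuotientGroup.eq_one_iff]
  show (QuotientGroup.mk' E) ⁅x, y⁆ = 1
  rw [map_commutatorElement, commutatorElement_eq_one_iff_commute]
  exact hcomm.is_comm.comm _ _

/-- In a finite `p`-group with `G' ≠ 1`, the quotient `G ⧸ G'` is not cyclic. -/
theorem not_isCyclic_quotient_lcs_one {G : Type*} [Group G] [Finite G] {p : ℕ} [Fact p.Prime]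
    (hG : IsPGroup p G) (hne : (⊤ : Subgroup G).lowerCentralSeries 1 ≠ ⊥) :
    ¬ IsCyclic (G ⧸ (⊤ : Subgroup G).lowerCentralSeries 1) := by
  intro h
  have h1 := lcs_one_le_two_of_cyclic h
  have h2 : ⁅(⊤ : Subgroup G).lowerCentralSeries 1, (⊤ : Subgroup G)⁆ ≠
      (⊤ : Subgroup G).lowerCentralSeries 1 :=
    Cfsg.Agent.Lib.Helper95_Uniserial.commutator_ne_self (hG.to_subgroup _) (hG.to_subgroup _)
      (by rw [Subgroup.normalizer_eq_top]) hne
  exact h2 (le_antisymm (Subgroup.lowerCentralSeries_antitone _ (by norm_num : 1 ≤ 2)) h1)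

/-- In a finite `p`-group with `G' ≠ 1`, `|G : G'| = p ^ e` forces `2 ≤ e`. -/
theorem two_le_of_index_lcs_one {G : Type*} [Group G] [Finite G] {p : ℕ} [hp : Fact p.Prime]
    (hG : IsPGroup p G) (hne : (⊤ : Subgroup G).lowerCentralSeries 1 ≠ ⊥) {e : ℕ}
    (he : ((⊤ : Subgroup G).lowerCentralSeries 1).index = p ^ e) : 2 ≤ e := by
  by_contra hlt
  push_neg at hlt
  apply not_isCyclic_quotient_lcs_one hG hne
  apply isCyclic_of_card_dvd_prime (p := p)
  rw [← Subgroup.index_eq_card, he]
  calc p ^ e ∣ p ^ 1 := Nat.pow_dvd_pow p (by omega)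
    _ = p := pow_one p

/-- Orders of the terms of the lower central series in a `p`-group of maximal class. -/
theorem card_lcs_of_maxClass {G : Type*} [Group G] [Finite G] {p : ℕ} [hp : Fact p.Prime] {n : ℕ}
    (hG : Nat.card G = p ^ n) (hcl : Group.nilpotencyClass G = n - 1) (hn : 3 ≤ n) {k : ℕ}
    (hk1 : 1 ≤ k) (hk : k ≤ n - 1) :
    Nat.card ((⊤ : Subgroup G).lowerCentralSeries k) = p ^ (n - 1 - k) := by
  have hpp : p.Prime := hp.out
  have hP : IsPGroup p G := IsPGroup.of_card hG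
  haveI : Group.IsNilpotent G := hP.isNilpotent
  have hbot : ∀ j, (⊤ : Subgroup G).lowerCentralSeries j = ⊥ ↔ n - 1 ≤ j := by
    intro j
    rw [Subgroup.lowerCentralSeries_eq_bot_iff_nilpotencyClass_le, hcl]
  have hne1 : (⊤ : Subgroup G).lowerCentralSeries 1 ≠ ⊥ := by
    rw [Ne, hbot]; omega
  obtain ⟨m, hm⟩ : ∃ m, Nat.card ((⊤ : Subgroup G).lowerCentralSeries 1) = p ^ m :=
    IsPGroup.iff_card.mp (hP.to_subgroup _)
  have hci := Subgroup.card_mul_index ((⊤ : Subgroup G).lowerCentralSeries 1)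
  rw [hm, hG] at hci
  have hmn : m ≤ n := by
    have : p ^ m ∣ p ^ n := Dvd.intro _ hci
    exact (Nat.pow_dvd_pow_iff_le_right hpp.one_lt).mp this
  have hidx : ((⊤ : Subgroup G).lowerCentralSeries 1).index = p ^ (n - m) := by
    have h1 : p ^ m * p ^ (n - m) = p ^ n := by rw [← pow_add]; congr 1; omega
    exact Nat.eq_of_mul_eq_mul_left (pow_pos hpp.pos m) (hci.trans h1.symm)
  have h2 := two_le_of_index_lcs_one hP hne1 hidx
  have hP1 : IsPGroup p ((⊤ : Subgroup G).lowerCentralSeries 1) := hP.to_subgroup _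
  have hPt : IsPGroup p (⊤ : Subgroup G) := hP.to_subgroup _
  have hnorm : (⊤ : Subgroup G) ≤
      Subgroup.normalizer (((⊤ : Subgroup G).lowerCentralSeries 1 : Subgroup G) : Set G) := by
    rw [Subgroup.normalizer_eq_top]
  have hlast : Cfsg.iterCommutator ((⊤ : Subgroup G).lowerCentralSeries 1) ⊤ (m - 1) ≠ ⊥ := by
    rw [iter_lcs, Ne, hbot]; omega
  have hcard := fun i (hi : i ≤ m) =>
    Cfsg.Agent.Lib.Helper95_Uniserial.card_iter hP1 hPt hnorm hm hlast hi
  have hm2 : n - 1 ≤ m + 1 := by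
    have h3 := hcard m le_rfl
    rw [Nat.sub_self, pow_zero, Subgroup.card_eq_one, iter_lcs, hbot] at h3
    exact h3
  have h4 := hcard (k - 1) (by omega)
  rw [iter_lcs] at h4
  have h5 : k - 1 + 1 = k := by omega
  rw [h5] at h4
  rw [h4]
  congr 1
  omega

/-- A normal subgroup of index `p ^ r`, `2 ≤ r`, contains the `(r-1)`-st term of the lower central
series. -/
theorem lcs_le_of_index {G : Type u} [Group G] [Finite G] {p : ℕ} [hp : Fact p.Prime]
    (N : Subgroup G) [N.Normal] {r : ℕ} (hr : 2 ≤ r) (hN : N.index = p ^ r) :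
    (⊤ : Subgroup G).lowerCentralSeries (r - 1) ≤ N := by
  have hQ : Nat.card (G ⧸ N) = p ^ r := by rw [← Subgroup.index_eq_card, hN]
  have hcl := Cfsg.Agent.Lib.Helper2_MaxClass.class_le p r (G ⧸ N) hQ hr
  haveI : Group.IsNilpotent (G ⧸ N) := (IsPGroup.of_card hQ).isNilpotent
  rw [← Subgroup.lowerCentralSeries_eq_bot_iff_nilpotencyClass_le] at hcl
  have h1 := Subgroup.map_lowerCentralSeries (⊤ : Subgroup G) (QuotientGroup.mk' N) (r - 1)
  rw [Subgroup.map_top_of_surjective _ (QuotientGroup.mk'_surjective N), hcl,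
    Subgroup.map_eq_bot_iff, QuotientGroup.ker_mk'] at h1
  exact h1

/-- A non-cyclic group of order `p ^ 2` has exactly `p + 1` subgroups of order `p`. -/
theorem card_subgroups_card_eq_prime {A : Type*} [Group A] [Finite A] {p : ℕ} [hp : Fact p.Prime]
    (hA : Nat.card A = p ^ 2) (hnc : ¬ IsCyclic A) :
    Nat.card {H : Subgroup A // Nat.card H = p} = p + 1 := by
  classical
  haveI : Fintype A := Fintype.ofFinite A
  have hpp : p.Prime := hp.out
  have hord : ∀ a : A, a ≠ 1 → orderOf a = p := by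
    intro a ha
    have h1 : orderOf a ∣ p ^ 2 := hA ▸ orderOf_dvd_natCard a
    obtain ⟨j, hj, hj2⟩ := (Nat.dvd_prime_pow hpp).mp h1
    interval_cases j
    · rw [pow_zero, orderOf_eq_one_iff] at hj2
      exact absurd hj2 ha
    · rw [hj2, pow_one]
    · exfalso
      apply hnc
      exact isCyclic_of_orderOf_eq_card a (by rw [hj2, hA])
  have hz : ∀ (H : Subgroup A), Nat.card H = p → ∀ a ∈ H, a ≠ 1 → Subgroup.zpowers a = H := by
    intro H hH a ha hne
    apply Subgroup.eq_of_le_of_card_ge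
    · rwa [Subgroup.zpowers_le]
    · rw [hH, Nat.card_zpowers, hord a hne]
  let e : {a : A // a ≠ 1} ≃
      Σ H : {H : Subgroup A // Nat.card H = p}, {a : H.1 // a ≠ 1} :=
    { toFun := fun a => ⟨⟨Subgroup.zpowers a.1, by rw [Nat.card_zpowers, hord a.1 a.2]⟩,
        ⟨⟨a.1, Subgroup.mem_zpowers a.1⟩, fun h => a.2 (congrArg Subtype.val h)⟩⟩
      invFun := fun x => ⟨x.2.1.1, fun h => x.2.2 (Subtype.ext h)⟩
      left_inv := fun a => rfl
      right_inv := by
        rintro ⟨⟨H, hH⟩, ⟨⟨a, ha⟩, hne⟩⟩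
        have hne' : a ≠ 1 := fun h => hne (Subtype.ext h)
        have := hz H hH a ha hne'
        subst this
        rfl }
  have hfib : ∀ H : {H : Subgroup A // Nat.card H = p}, Nat.card {a : H.1 // a ≠ 1} = p - 1 := by
    intro H
    rw [Nat.card_eq_fintype_card, Fintype.card_subtype_compl, Fintype.card_subtype_eq,
      ← Nat.card_eq_fintype_card, H.2]
  have h1 : Nat.card {a : A // a ≠ 1} = p ^ 2 - 1 := by
    rw [Nat.card_eq_fintype_card, Fintype.card_subtype_compl, Fintype.card_subtype_eq,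
      ← Nat.card_eq_fintype_card, hA]
  have h2 := Nat.card_congr e
  haveI : Fintype {H : Subgroup A // Nat.card H = p} := Fintype.ofFinite _
  rw [Nat.card_sigma, h1] at h2
  simp only [hfib, Finset.sum_const, Finset.card_univ, smul_eq_mul] at h2
  rw [← Nat.card_eq_fintype_card] at h2
  have h3 : p ^ 2 - 1 = (p + 1) * (p - 1) := by
    have := hpp.one_le
    obtain ⟨q, rfl⟩ : ∃ q, p = q + 1 := ⟨p - 1, by omega⟩
    simp only [Nat.add_sub_cancel]
    ring_nf
    omega
  rw [h3] at h2
  exact (Nat.eq_of_mul_eq_mul_right (by have := hpp.two_le; omega) h2).symm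

end Cfsg.Agent.Lib.Helper95_MaxClass
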