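import Mathlib
import Cfsg.Agent.Lib.Helper95_MaxClass
import Cfsg.Agent.Lib.Helper46_FreeOrb
import Cfsg.Agent.Lib.Helper77_CyclicAut
import Cfsg.Agent.Lib.Helper2_OmegaMeta
import Cfsg.Agent.Lib.Helper2_Coprime
import Cfsg.Agent.Lib.Helper48_Generation
import Cfsg.Agent.Lib.Helper51_Offender

/-!
# Bender--Glauberman 15.7, step (7), rank at most two (helper11, for helper48)

`dichotomy`: `P = P₁ ∘ P₂` (`P₁` extraspecial of order `p³` and exponent `p`, `P₂` cyclic with
`Ω₁(P₂) = Z(P₁)`), `K` a cyclic `p'`-group of odd order normalizing `P` with `C_P(k) = C` cyclic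
nontrivial for all `1 ≠ k ∈ K`.  Then `|K|` divides `p - 1`, or `|K|` divides `p + 1` and
(`C ≤ P'` implies `|P| = p³`).

The proof: `Z = Z(P) = P₂`.  If `Z ≰ C` then `K` acts freely on `Ω₁(Z) - 1`; if `Z < C` then `K`
acts freely on `P - C`; if `Z = C` then `K` centralizes `Z`, acts on `V = P/Z` (elementary abelian of
order `p²`) without fixed points and "symplectically", and `torus_dichotomy` applies.
-/

set_option autoImplicit false

namespace Cfsg.Agent.Lib.Helper11_BG157Dich

open Subgroup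

open scoped commutatorElement

/-- **Torus lemma.** A finite abelian group `K` of odd order acting without fixed points on an
elementary abelian group `V` of order `p²`, such that the only scalars `a` induced by `K` satisfy
`a² ≡ 1`, has order dividing `p - 1` or `p + 1`. -/
theorem torus_dichotomy {V K : Type*} [Group V] [Finite V] [Group K] [Finite K] {p : ℕ}
    [hp : Fact p.Prime] (hVcard : Nat.card V = p ^ 2) (hVexp : ∀ v : V, v ^ p = 1)
    (hKcomm : ∀ a b : K, a * b = b * a) (hKodd : Odd (Nat.card K)) (φ : K →* MulAut V)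
    (hfpf : ∀ k : K, k ≠ 1 → ∀ v : V, φ k v = v → v = 1)
    (hsymp : ∀ (k : K) (a : ℕ), (∀ v : V, φ k v = v ^ a) → a ^ 2 ≡ 1 [MOD p]) :
    Nat.card K ∣ p - 1 ∨ Nat.card K ∣ p + 1 := by
  classical
  have hpP : p.Prime := hp.out
  have hVcomm : ∀ a b : V, a * b = b * a :=
    (IsPGroup.isMulCommutative_of_card_eq_prime_sq hVcard).is_comm.comm
  have hnc : ¬ IsCyclic V := by
    intro hc
    obtain ⟨g, hg⟩ := hc.exists_generator
    have h1 : orderOf g = Nat.card V := orderOf_eq_card_of_forall_mem_zpowers hg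
    have h2 : orderOf g ∣ p := orderOf_dvd_of_pow_eq_one (hVexp g)
    rw [h1, hVcard] at h2
    have h3 : p ^ 2 ≤ p := Nat.le_of_dvd hpP.pos h2
    have h4 : p < p ^ 2 := by
      have := hpP.one_lt
      nlinarith
    omega
  have hΛ : Nat.card {L : Subgroup V // Nat.card L = p} = p + 1 :=
    Cfsg.Agent.Lib.Helper95_MaxClass.card_subgroups_card_eq_prime hVcard hnc
  let _ : MulAction K {L : Subgroup V // Nat.card L = p} :=
    { smul := fun k L => ⟨L.1.map (φ k).toMonoidHom, by
        rw [Subgroup.card_map_of_injective (φ k).injective]; exact L.2⟩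
      one_smul := fun L => by
        apply Subtype.ext
        show L.1.map (φ 1).toMonoidHom = L.1
        rw [map_one]
        exact Subgroup.map_id _
      mul_smul := fun a b L => by
        apply Subtype.ext
        show L.1.map (φ (a * b)).toMonoidHom = (L.1.map (φ b).toMonoidHom).map (φ a).toMonoidHom
        rw [Subgroup.map_map, map_mul]
        rfl }
  by_cases hfree : ∀ (k : K) (L : {L : Subgroup V // Nat.card L = p}), k • L = L → k = 1
  · right
    rw [← hΛ]
    exact Cfsg.Agent.Lib.Helper46_FreeOrb.card_dvd_of_free hfree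
  · left
    push Not at hfree
    obtain ⟨k₀, L₁, hL₁, hk₀⟩ := hfree
    have hL₁' : L₁.1.map (φ k₀).toMonoidHom = L₁.1 := congrArg Subtype.val hL₁
    -- a generator of `L₁`
    have hL₁ne : L₁.1 ≠ ⊥ := by
      intro h
      have := L₁.2
      rw [h, Subgroup.card_bot] at this
      exact hpP.one_lt.ne this
    obtain ⟨v₁, hv₁, hv₁1⟩ : ∃ v ∈ L₁.1, v ≠ 1 := by
      by_contra h
      push Not at h
      exact hL₁ne ((Subgroup.eq_bot_iff_forall _).mpr h)
    have hz : zpowers v₁ = L₁.1 :=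
      Cfsg.Agent.Lib.Helper2_OmegaMeta.zpowers_eq_of_prime_card L₁.1 L₁.2 hv₁ hv₁1
    have hmem : φ k₀ v₁ ∈ zpowers v₁ := by
      rw [hz, ← hL₁']
      exact ⟨v₁, hv₁, rfl⟩
    obtain ⟨a, ha⟩ : ∃ a : ℕ, v₁ ^ a = φ k₀ v₁ := by
      have hfin : IsOfFinOrder v₁ := isOfFinOrder_of_finite v₁
      exact (Submonoid.mem_powers_iff _ _).mp (hfin.mem_powers_iff_mem_zpowers.mpr hmem)
    -- the eigenspace
    let E : Subgroup V :=
      { carrier := {v | φ k₀ v = v ^ a}
        mul_mem' := by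
          intro x y hx hy
          show φ k₀ (x * y) = (x * y) ^ a
          rw [map_mul, (show φ k₀ x = x ^ a from hx), (show φ k₀ y = y ^ a from hy)]
          exact ((show Commute x y from hVcomm x y).mul_pow a).symm
        one_mem' := by
          show φ k₀ 1 = 1 ^ a
          rw [map_one, one_pow]
        inv_mem' := by
          intro x hx
          show φ k₀ x⁻¹ = (x⁻¹) ^ a
          rw [map_inv, (show φ k₀ x = x ^ a from hx), inv_pow] }
    have hmemE : ∀ v : V, v ∈ E ↔ φ k₀ v = v ^ a := fun v => Iff.rfl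
    have hv₁E : v₁ ∈ E := ha.symm
    have hEtop : E ≠ ⊤ := by
      intro h
      have hall : ∀ v : V, φ k₀ v = v ^ a := fun v => (hmemE v).mp (h ▸ Subgroup.mem_top v)
      have h1 := hsymp k₀ a hall
      have h2 : ∀ v : V, φ (k₀ ^ 2) v = v := by
        intro v
        rw [map_pow, pow_two, MulAut.mul_apply, hall v, hall (v ^ a), ← pow_mul, ← pow_two]
        have h3 : v ^ a ^ 2 = v ^ 1 := by
          rw [pow_eq_pow_iff_modEq]
          exact h1.of_dvd (orderOf_dvd_of_pow_eq_one (hVexp v))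
        rw [h3, pow_one]
      have h4 : k₀ ^ 2 = 1 := by
        by_contra h5
        exact hv₁1 (hfpf _ h5 v₁ (h2 v₁))
      have h6 : orderOf k₀ ∣ 2 := orderOf_dvd_of_pow_eq_one h4
      have h7 : orderOf k₀ ∣ Nat.card K := orderOf_dvd_natCard k₀
      have h8 : Odd (orderOf k₀) := Odd.of_dvd_nat hKodd h7
      have h9 : orderOf k₀ = 1 := by
        rcases (Nat.dvd_prime Nat.prime_two).mp h6 with h | h
        · exact h
        · rw [h] at h8
          exact absurd h8 (by decide)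
      exact hk₀ (orderOf_eq_one_iff.mp h9)
    have hEcard : Nat.card E = p := by
      have h1 : Nat.card E ∣ p ^ 2 := hVcard ▸ Subgroup.card_subgroup_dvd_card E
      obtain ⟨j, hj, hj2⟩ := (Nat.dvd_prime_pow hpP).mp h1
      interval_cases j
      · exfalso
        rw [pow_zero, Subgroup.card_eq_one] at hj2
        rw [hj2, Subgroup.mem_bot] at hv₁E
        exact hv₁1 hv₁E
      · rw [hj2, pow_one]
      · exfalso
        apply hEtop
        apply Subgroup.eq_top_of_card_eq
        rw [hj2, hVcard]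
    have hEinv : ∀ (k : K) (v : V), v ∈ E → φ k v ∈ E := by
      intro k v hv
      rw [hmemE] at hv ⊢
      have h1 : φ k₀ (φ k v) = φ k (φ k₀ v) := by
        rw [← MulAut.mul_apply, ← MulAut.mul_apply, ← map_mul, ← map_mul, hKcomm k₀ k]
      rw [h1, hv, map_pow]
    -- the free action of `K` on `E - 1`
    let _ : MulAction K {v : V // v ∈ E ∧ v ≠ 1} :=
      { smul := fun k v => ⟨φ k v.1, hEinv k v.1 v.2.1, fun h => v.2.2 (by
          have := (φ k).injective (h.trans (map_one (φ k)).symm)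
          exact this)⟩
        one_smul := fun v => by
          apply Subtype.ext
          show φ 1 v.1 = v.1
          rw [map_one]; rfl
        mul_smul := fun a b v => by
          apply Subtype.ext
          show φ (a * b) v.1 = φ a (φ b v.1)
          rw [map_mul]; rfl }
    have hfree' : ∀ (k : K) (v : {v : V // v ∈ E ∧ v ≠ 1}), k • v = v → k = 1 := by
      intro k v hkv
      by_contra hk
      have h1 : φ k v.1 = v.1 := congrArg Subtype.val hkv
      exact v.2.2 (hfpf k hk v.1 h1)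
    have hX : Nat.card {v : V // v ∈ E ∧ v ≠ 1} = p - 1 := by
      have h1 : {v : V | v ∈ E ∧ v ≠ 1} = (E : Set V) \ {1} := by
        ext v
        simp
      have h2 : Nat.card {v : V // v ∈ E ∧ v ≠ 1} = ({v : V | v ∈ E ∧ v ≠ 1}).ncard :=
        Nat.card_coe_set_eq _
      rw [h2, h1, Set.ncard_sdiff_singleton_of_mem (show (1 : V) ∈ (E : Set V) from E.one_mem),
        ← Nat.card_coe_set_eq]
      show Nat.card ↥E - 1 = p - 1
      rw [hEcard]
    rw [← hX]
    exact Cfsg.Agent.Lib.Helper46_FreeOrb.card_dvd_of_free hfree'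

section Comm

variable {Q : Type*} [Group Q]

open scoped commutatorElement

theorem comm_mul_central_left {x y z : Q} (hz : z ∈ center Q) : ⁅x * z, y⁆ = ⁅x, y⁆ := by
  have h1 : ∀ g : Q, g * z = z * g := fun g => Subgroup.mem_center_iff.mp hz g
  rw [commutatorElement_def, commutatorElement_def]
  calc x * z * y * (x * z)⁻¹ * y⁻¹ = x * (z * y) * z⁻¹ * x⁻¹ * y⁻¹ := by group
    _ = x * (y * z) * z⁻¹ * x⁻¹ * y⁻¹ := by rw [h1 y]
    _ = x * y * x⁻¹ * y⁻¹ := by group

theorem comm_mul_central_right {x y z : Q} (hz : z ∈ center Q) : ⁅x, y * z⁆ = ⁅x, y⁆ := by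
  have h1 : ∀ g : Q, g * z = z * g := fun g => Subgroup.mem_center_iff.mp hz g
  rw [commutatorElement_def, commutatorElement_def]
  calc x * (y * z) * x⁻¹ * (y * z)⁻¹ = x * y * (z * x⁻¹) * z⁻¹ * y⁻¹ := by group
    _ = x * y * (x⁻¹ * z) * z⁻¹ * y⁻¹ := by rw [h1 x⁻¹]
    _ = x * y * x⁻¹ * y⁻¹ := by group

theorem comm_pow_left {u v : Q} (hc : ⁅u, v⁆ ∈ center Q) (n : ℕ) : ⁅u ^ n, v⁆ = ⁅u, v⁆ ^ n := by
  induction n with
  | zero => simp
  | succ n ih =>
    have h1 : ⁅u ^ (n + 1), v⁆ = u * ⁅u ^ n, v⁆ * u⁻¹ * ⁅u, v⁆ := by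
      rw [pow_succ', commutatorElement_def, commutatorElement_def, commutatorElement_def]
      group
    rw [h1, ih]
    have h2 : u * ⁅u, v⁆ ^ n = ⁅u, v⁆ ^ n * u :=
      Subgroup.mem_center_iff.mp (Subgroup.pow_mem _ hc n) u
    rw [h2, mul_inv_cancel_right, pow_succ]

theorem comm_pow_right {u v : Q} (hc : ⁅u, v⁆ ∈ center Q) (n : ℕ) : ⁅u, v ^ n⁆ = ⁅u, v⁆ ^ n := by
  have hc' : ⁅v, u⁆ ∈ center Q := by
    rw [← commutatorElement_inv]
    exact inv_mem hc
  rw [← commutatorElement_inv (v ^ n) u, comm_pow_left hc' n, ← inv_pow, commutatorElement_inv]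

/-- the symplectic condition: an automorphism fixing the central commutator `⁅u, v⁆` and acting
on `u`, `v` as the `a`-th power modulo the centre satisfies `⁅u, v⁆ ^ a² = ⁅u, v⁆` -/
theorem symp_aux (α : MulAut Q) (u v : Q) (a : ℕ) (z₁ z₂ : Q) (hc : ⁅u, v⁆ ∈ center Q)
    (hz₁ : z₁ ∈ center Q) (hz₂ : z₂ ∈ center Q) (hαc : α ⁅u, v⁆ = ⁅u, v⁆)
    (hu : α u = u ^ a * z₁) (hv : α v = v ^ a * z₂) : ⁅u, v⁆ ^ (a ^ 2) = ⁅u, v⁆ := by
  have h1 : α ⁅u, v⁆ = ⁅α u, α v⁆ := map_commutatorElement α u v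
  rw [hαc, hu, hv, comm_mul_central_left hz₁, comm_mul_central_right hz₂] at h1
  have hc' : ⁅u ^ a, v⁆ ∈ center Q := by
    rw [comm_pow_left hc a]
    exact Subgroup.pow_mem _ hc a
  rw [comm_pow_right hc' a, comm_pow_left hc a, ← pow_mul, ← pow_two] at h1
  exact h1.symm

end Comm

variable {G : Type*} [Group G]

/-- the central product hypotheses (the second alternative in the conclusion of S1412) -/
structure Setup (p : ℕ) (P P1 P2 : Subgroup G) : Prop where
  hP : IsPGroup p P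
  h12 : P1 ⊔ P2 = P
  hcomm : ∀ a ∈ P1, ∀ b ∈ P2, a * b = b * a
  hP1na : ¬ IsMulCommutative P1
  hP1card : Nat.card P1 = p ^ 3
  hP1exp : Monoid.exponent P1 = p
  hP2 : IsCyclic P2
  hOm : closure {x : G | x ∈ P2 ∧ x ^ p = 1} = P1 ⊓ centralizer (P1 : Set G)

namespace Setup

variable {p : ℕ} {P P1 P2 : Subgroup G} (h : Setup p P P1 P2)
include h

theorem le1 : P1 ≤ P := h.h12 ▸ le_sup_left

theorem le2 : P2 ≤ P := h.h12 ▸ le_sup_right

theorem comm2 : ∀ x ∈ P2, ∀ y ∈ P2, x * y = y * x := by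
  intro x hx y hy
  have := h.hP2
  obtain ⟨x₀, hx₀⟩ := this.exists_generator
  obtain ⟨i, hi⟩ := Subgroup.mem_zpowers_iff.mp (hx₀ ⟨x, hx⟩)
  obtain ⟨j, hj⟩ := Subgroup.mem_zpowers_iff.mp (hx₀ ⟨y, hy⟩)
  have hi' : (x₀ : G) ^ i = x := by
    have := congrArg (Subtype.val) hi
    simpa using this
  have hj' : (x₀ : G) ^ j = y := by
    have := congrArg (Subtype.val) hj
    simpa using this
  rw [← hi', ← hj', ← zpow_add, ← zpow_add, add_comm]

/-- `P₂` is central in `P` -/
theorem central : ∀ z ∈ P2, ∀ x ∈ P, z * x = x * z := by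
  intro z hz x hx
  have hle : P ≤ centralizer ({z} : Set G) := by
    rw [← h.h12]
    apply sup_le
    · intro a ha
      rw [mem_centralizer_singleton_iff]
      exact h.hcomm a ha z hz
    · intro b hb
      rw [mem_centralizer_singleton_iff]
      exact h.comm2 b hb z hz
  have := hle hx
  rw [mem_centralizer_singleton_iff] at this
  exact this.symm

/-- every element of `P` is a product `a * b`, `a ∈ P₁`, `b ∈ P₂` -/
theorem decomp : ∀ x ∈ P, ∃ a ∈ P1, ∃ b ∈ P2, x = a * b := by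
  intro x hx
  rw [← h.h12, sup_eq_closure] at hx
  induction hx using closure_induction with
  | mem y hy =>
    rcases hy with hy | hy
    · exact ⟨y, hy, 1, one_mem _, by simp⟩
    · exact ⟨1, one_mem _, y, hy, by simp⟩
  | one => exact ⟨1, one_mem _, 1, one_mem _, by simp⟩
  | mul x y _ _ hx hy =>
    obtain ⟨a, ha, b, hb, rfl⟩ := hx
    obtain ⟨a', ha', b', hb', rfl⟩ := hy
    refine ⟨a * a', mul_mem ha ha', b * b', mul_mem hb hb', ?_⟩
    calc a * b * (a' * b') = a * (b * a') * b' := by group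
      _ = a * (a' * b) * b' := by rw [h.hcomm a' ha' b hb]
      _ = a * a' * (b * b') := by group
  | inv x _ hx =>
    obtain ⟨a, ha, b, hb, rfl⟩ := hx
    refine ⟨a⁻¹, inv_mem ha, b⁻¹, inv_mem hb, ?_⟩
    rw [mul_inv_rev, h.hcomm a⁻¹ (inv_mem ha) b⁻¹ (inv_mem hb)]

/-- the centre of `P` is `P₂` -/
theorem center_le : ∀ x ∈ P, (∀ y ∈ P, x * y = y * x) → x ∈ P2 := by
  intro x hx hxc
  obtain ⟨a, ha, b, hb, rfl⟩ := h.decomp x hx
  have haZ : a ∈ P1 ⊓ centralizer (P1 : Set G) := by
    refine ⟨ha, ?_⟩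
    show a ∈ centralizer (P1 : Set G)
    rw [mem_centralizer_iff]
    intro y hy
    have h1 := hxc y (h.le1 hy)
    have h2 := h.hcomm y hy b hb
    -- `a b y = y a b` and `b y = y b`
    have h3 : a * y * b = y * a * b := by
      calc a * y * b = a * (y * b) := by group
        _ = a * (b * y) := by rw [h2]
        _ = a * b * y := by group
        _ = y * (a * b) := h1
        _ = y * a * b := by group
    exact (mul_right_cancel h3).symm
  rw [← h.hOm] at haZ
  have haP2 : a ∈ P2 := by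
    have hle : closure {x : G | x ∈ P2 ∧ x ^ p = 1} ≤ P2 := by
      rw [closure_le]
      intro y hy
      exact hy.1
    exact hle haZ
  exact mul_mem haP2 hb

/-- membership in `Z(P₁) = Ω₁(P₂)` -/
theorem mem_Z1 (z : G) : z ∈ P1 ⊓ centralizer (P1 : Set G) ↔ z ∈ P2 ∧ z ^ p = 1 := by
  rw [← h.hOm]
  constructor
  · intro hz
    induction hz using closure_induction with
    | mem y hy => exact hy
    | one => exact ⟨one_mem _, one_pow _⟩
    | mul x y _ _ hx hy =>
      refine ⟨mul_mem hx.1 hy.1, ?_⟩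
      rw [(show Commute x y from h.comm2 x hx.1 y hy.1).mul_pow, hx.2, hy.2, one_mul]
    | inv x _ hx => exact ⟨inv_mem hx.1, by rw [inv_pow, hx.2, inv_one]⟩
  · intro hz
    exact subset_closure hz

theorem inf_eq : P1 ⊓ P2 = P1 ⊓ centralizer (P1 : Set G) := by
  apply le_antisymm
  · intro x hx
    refine ⟨hx.1, ?_⟩
    show x ∈ centralizer (P1 : Set G)
    rw [mem_centralizer_iff]
    intro a ha
    exact h.hcomm a ha x hx.2
  · intro x hx
    exact ⟨hx.1, ((h.mem_Z1 x).mp hx).1⟩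

variable [Finite G] [hp : Fact p.Prime]

/-- `|Z(P₁)| = p` -/
theorem card_Z1 : Nat.card ↥(P1 ⊓ centralizer (P1 : Set G)) = p := by
  have hpP : p.Prime := hp.out
  have hne : P1 ⊓ centralizer (P1 : Set G) ≠ ⊥ := by
    have hP1 : IsPGroup p ↥P1 := IsPGroup.of_card h.hP1card
    have hnt : Nontrivial ↥P1 := by
      rw [← Finite.one_lt_card_iff_nontrivial, h.hP1card]
      exact Nat.one_lt_pow (by norm_num) hpP.one_lt
    have hcn : Nontrivial ↥(Subgroup.center ↥P1) := hP1.center_nontrivial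
    obtain ⟨c, hc⟩ := exists_ne (1 : ↥(Subgroup.center ↥P1))
    intro hbot
    have hmem : ((c : ↥P1) : G) ∈ P1 ⊓ centralizer (P1 : Set G) := by
      refine ⟨(c : ↥P1).2, ?_⟩
      show ((c : ↥P1) : G) ∈ centralizer (P1 : Set G)
      rw [mem_centralizer_iff]
      intro y hy
      have := Subgroup.mem_center_iff.mp c.2 ⟨y, hy⟩
      exact congrArg Subtype.val this
    rw [hbot, Subgroup.mem_bot] at hmem
    apply hc
    apply Subtype.ext
    apply Subtype.ext
    exact hmem
  have hle : P1 ⊓ centralizer (P1 : Set G) ≤ P2 := fun z hz => ((h.mem_Z1 z).mp hz).1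
  have hcyc : IsCyclic ↥(P1 ⊓ centralizer (P1 : Set G)) := by
    have := h.hP2
    exact Subgroup.isCyclic_of_le hle
  have hexp : Monoid.exponent ↥(P1 ⊓ centralizer (P1 : Set G)) ∣ p := by
    apply Monoid.exponent_dvd_of_forall_pow_eq_one
    intro z
    apply Subtype.ext
    have := ((h.mem_Z1 z.1).mp z.2).2
    simpa using this
  rw [IsCyclic.exponent_eq_card] at hexp
  rcases (Nat.dvd_prime hpP).mp hexp with h1 | h1
  · exact absurd (Subgroup.card_eq_one.mp h1) hne
  · exact h1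

/-- `|P| = p² |P₂|` -/
theorem card_P : Nat.card P = p ^ 2 * Nat.card P2 := by
  have hpP : p.Prime := hp.out
  have hN : P2 ≤ normalizer (P1 : Set G) := by
    intro b hb
    rw [mem_normalizer_iff]
    intro a
    have key : ∀ a ∈ P1, b * a * b⁻¹ = a := by
      intro a ha
      rw [← h.hcomm a ha b hb]
      group
    constructor
    · intro ha
      rw [key a ha]
      exact ha
    · intro ha
      have h2 := key _ ha
      have h3 : b * a * b⁻¹ = a := by
        have h4 : b * (b * a * b⁻¹) * b⁻¹ = b * a * b⁻¹ := h2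
        have h5 : b * (b * a * b⁻¹) * b⁻¹ = b * (b * a * b⁻¹) * b⁻¹ := rfl
        calc b * a * b⁻¹ = b⁻¹ * (b * (b * a * b⁻¹) * b⁻¹) * b := by group
          _ = b⁻¹ * (b * a * b⁻¹) * b := by rw [h4]
          _ = a := by group
      rw [← h3]
      exact ha
  have h1 := Cfsg.Agent.Lib.Helper51_Offender.card_sup_mul_card_inf P1 P2 hN
  rw [h.h12, h.inf_eq, h.card_Z1, h.hP1card] at h1
  have h2 : Nat.card P * p = p ^ 2 * Nat.card P2 * p := by rw [h1]; ring
  exact Nat.eq_of_mul_eq_mul_right hpP.pos h2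

omit [Finite G] hp in
/-- `p`-th powers of elements of `P` lie in `P₂` -/
theorem pow_mem : ∀ x ∈ P, x ^ p ∈ P2 := by
  intro x hx
  obtain ⟨a, ha, b, hb, rfl⟩ := h.decomp x hx
  rw [(show Commute a b from h.hcomm a ha b hb).mul_pow]
  have h1 : a ^ p = 1 := by
    have := Monoid.pow_exponent_eq_one (⟨a, ha⟩ : ↥P1)
    rw [h.hP1exp] at this
    have := congrArg Subtype.val this
    simpa using this
  rw [h1, one_mul]
  exact Subgroup.pow_mem P2 hb p

omit [Finite G] hp in
/-- the centre of the group `P` is `P₂` -/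
theorem center_eq : Subgroup.center ↥P = P2.subgroupOf P := by
  ext x
  rw [Subgroup.mem_center_iff, Subgroup.mem_subgroupOf]
  constructor
  · intro hx
    apply h.center_le x.1 x.2
    intro y hy
    have := hx ⟨y, hy⟩
    exact (congrArg Subtype.val this).symm
  · intro hx g
    apply Subtype.ext
    exact (h.central x.1 hx g.1 g.2).symm

/-- `|P / Z(P)| = p²` -/
theorem card_quot : Nat.card (↥P ⧸ Subgroup.center ↥P) = p ^ 2 := by
  have h1 := Subgroup.card_eq_card_quotient_mul_card_subgroup (Subgroup.center ↥P)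
  have h2 : Nat.card ↥(Subgroup.center ↥P) = Nat.card P2 := by
    rw [h.center_eq]
    exact Nat.card_congr (Subgroup.subgroupOfEquivOfLe h.le2).toEquiv
  rw [h2, h.card_P] at h1
  have hpos : 0 < Nat.card P2 := Nat.card_pos
  exact (Nat.eq_of_mul_eq_mul_right hpos h1).symm

omit [Finite G] hp in
/-- `P / Z(P)` has exponent `p` -/
theorem pow_quot : ∀ v : ↥P ⧸ Subgroup.center ↥P, v ^ p = 1 := by
  intro v
  induction v using QuotientGroup.induction_on with
  | H x =>
    rw [← QuotientGroup.mk_pow, QuotientGroup.eq_one_iff, h.center_eq, Subgroup.mem_subgroupOf]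
    have := h.pow_mem x.1 x.2
    simpa using this

/-- commutators of elements of `P` lie in `Z(P)` -/
theorem comm_mem_center (x y : ↥P) : ⁅x, y⁆ ∈ Subgroup.center ↥P := by
  have hVcomm : ∀ a b : ↥P ⧸ Subgroup.center ↥P, a * b = b * a :=
    (IsPGroup.isMulCommutative_of_card_eq_prime_sq h.card_quot).is_comm.comm
  rw [← QuotientGroup.eq_one_iff]
  have h1 : ((⁅x, y⁆ : ↥P) : ↥P ⧸ Subgroup.center ↥P) =
      ⁅(x : ↥P ⧸ Subgroup.center ↥P), (y : ↥P ⧸ Subgroup.center ↥P)⁆ :=
    map_commutatorElement (QuotientGroup.mk' (Subgroup.center ↥P)) x y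
  rw [h1, commutatorElement_eq_one_iff_mul_comm]
  exact hVcomm _ _

/-- `P' ≤ Z(P₁)` -/
theorem commutator_le_Z1 : ⁅P, P⁆ ≤ P1 ⊓ centralizer (P1 : Set G) := by
  rw [Subgroup.commutator_le]
  intro x hx y hy
  rw [h.mem_Z1]
  have hc := h.comm_mem_center ⟨x, hx⟩ ⟨y, hy⟩
  have hc' := hc
  rw [h.center_eq, Subgroup.mem_subgroupOf] at hc'
  refine ⟨hc', ?_⟩
  have h1 : ⁅(⟨x, hx⟩ : ↥P), (⟨y, hy⟩ : ↥P)⁆ ^ p = 1 := by
    rw [← comm_pow_left hc p, commutatorElement_eq_one_iff_mul_comm]
    have h2 : (⟨x, hx⟩ : ↥P) ^ p ∈ Subgroup.center ↥P := by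
      rw [h.center_eq, Subgroup.mem_subgroupOf]
      exact h.pow_mem x hx
    exact (Subgroup.mem_center_iff.mp h2 ⟨y, hy⟩).symm
  have h3 := congrArg Subtype.val h1
  have h4 : ((⁅(⟨x, hx⟩ : ↥P), (⟨y, hy⟩ : ↥P)⁆ : ↥P) : G) = ⁅x, y⁆ := rfl
  rw [Subgroup.coe_pow, h4] at h3
  exact h3

end Setup

section Main

variable [Finite G]

open scoped commutatorElement

omit [Finite G] in
/-- `k x k⁻¹ = x z` with `k` centralizing `z` gives `k^j x k^{-j} = x z^j` -/
theorem conj_pow_eq_mul_pow {k x z : G} (hkx : k * x * k⁻¹ = x * z) (hkz : k * z = z * k)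
    (j : ℕ) : k ^ j * x * (k ^ j)⁻¹ = x * z ^ j := by
  induction j with
  | zero => simp
  | succ j ih =>
    have hkzj : k * z ^ j * k⁻¹ = z ^ j := by
      have hc : Commute k (z ^ j) := (show Commute k z from hkz).pow_right j
      rw [hc.eq]
      group
    calc k ^ (j + 1) * x * (k ^ (j + 1))⁻¹ = k * (k ^ j * x * (k ^ j)⁻¹) * k⁻¹ := by
          rw [pow_succ']; group
      _ = k * (x * z ^ j) * k⁻¹ := by rw [ih]
      _ = (k * x * k⁻¹) * (k * z ^ j * k⁻¹) := by group
      _ = x * z * z ^ j := by rw [hkx, hkzj]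
      _ = x * z ^ (j + 1) := by rw [pow_succ', mul_assoc]

omit [Finite G] in
/-- a `p'`-element `k` centralizing the `p`-element `z`, with `k x k⁻¹ = x z`, has `z = 1` -/
theorem eq_one_of_conj {p : ℕ} {P : Subgroup G} (hP : IsPGroup p P) {k x z : G}
    (hz : z ∈ P) (hkx : k * x * k⁻¹ = x * z) (hkz : k * z = z * k)
    (hcop : (orderOf k).Coprime p) : z = 1 := by
  have h1 := conj_pow_eq_mul_pow hkx hkz (orderOf k)
  rw [pow_orderOf_eq_one, one_mul, inv_one, mul_one] at h1
  have h2 : z ^ orderOf k = 1 := by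
    have h3 : x * z ^ orderOf k = x * 1 := by rw [← h1, mul_one]
    exact mul_left_cancel h3
  obtain ⟨n, hn⟩ := hP ⟨z, hz⟩
  have h3 : z ^ p ^ n = 1 := by
    have := congrArg Subtype.val hn
    simpa using this
  have h4 : orderOf z ∣ Nat.gcd (orderOf k) (p ^ n) :=
    Nat.dvd_gcd (orderOf_dvd_of_pow_eq_one h2) (orderOf_dvd_of_pow_eq_one h3)
  rw [Nat.Coprime.pow_right n hcop] at h4
  exact orderOf_eq_one_iff.mp (Nat.dvd_one.mp h4)

omit [Finite G] in
/-- the number of non-identity elements of a subgroup -/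
theorem card_ne_one (H : Subgroup G) : Nat.card {z : G // z ∈ H ∧ z ≠ 1} = Nat.card H - 1 := by
  have h1 : {v : G | v ∈ H ∧ v ≠ 1} = (H : Set G) \ {1} := by
    ext v
    simp
  have h2 : Nat.card {v : G // v ∈ H ∧ v ≠ 1} = ({v : G | v ∈ H ∧ v ≠ 1}).ncard :=
    Nat.card_coe_set_eq _
  rw [h2, h1, Set.ncard_sdiff_singleton_of_mem (show (1 : G) ∈ (H : Set G) from H.one_mem),
    ← Nat.card_coe_set_eq]
  rfl

/-- **B-G 15.7, step (7), rank at most two.** -/
theorem dichotomy (p : ℕ) [Fact p.Prime] (hp : p ≠ 2)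
    (P K C P1 P2 : Subgroup G) (hP : IsPGroup p P) (h12 : P1 ⊔ P2 = P)
    (hcomm : ∀ a ∈ P1, ∀ b ∈ P2, a * b = b * a) (hP1na : ¬ IsMulCommutative P1)
    (hP1card : Nat.card P1 = p ^ 3) (hP1exp : Monoid.exponent P1 = p) (hP2 : IsCyclic P2)
    (hOm : Subgroup.closure {x : G | x ∈ P2 ∧ x ^ p = 1} =
      P1 ⊓ Subgroup.centralizer (P1 : Set G))
    (hKN : K ≤ Subgroup.normalizer (P : Set G)) (hKc : IsCyclic K) (hKodd : Odd (Nat.card K))
    (hKp : (Nat.card K).Coprime p) (hCP : C ≤ P) (hCc : IsCyclic C) (hC1 : C ≠ ⊥)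
    (hprime : ∀ k ∈ K, k ≠ 1 → P ⊓ Subgroup.centralizer ({k} : Set G) = C) :
    Nat.card K ∣ p - 1 ∨ (Nat.card K ∣ p + 1 ∧ (C ≤ ⁅P, P⁆ → Nat.card P = p ^ 3)) := by
  classical
  have hpP : p.Prime := Fact.out
  have h : Setup p P P1 P2 := ⟨hP, h12, hcomm, hP1na, hP1card, hP1exp, hP2, hOm⟩
  by_cases hK1 : K = ⊥
  · left
    rw [hK1, Subgroup.card_bot]
    exact one_dvd _
  obtain ⟨k₁, hk₁, hk₁1⟩ : ∃ k ∈ K, k ≠ 1 := by
    by_contra hh
    push Not at hh
    exact hK1 ((Subgroup.eq_bot_iff_forall K).mpr hh)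
  have hKcomm : ∀ a ∈ K, ∀ b ∈ K, a * b = b * a :=
    Cfsg.Agent.Lib.Helper77_CyclicAut.commute_of_isCyclic hKc
  have hKP : ∀ k ∈ K, ∀ x ∈ P, k * x * k⁻¹ ∈ P := fun k hk x hx =>
    (mem_normalizer_iff.mp (hKN hk) x).mp hx
  have hKP2 : ∀ k ∈ K, ∀ z ∈ P2, k * z * k⁻¹ ∈ P2 := by
    intro k hk z hz
    apply h.center_le _ (hKP k hk z (h.le2 hz))
    intro y hy
    have hy' : k⁻¹ * y * k ∈ P := by
      have := hKP k⁻¹ (inv_mem hk) y hy
      simpa using this
    have h1 := h.central z hz _ hy'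
    calc k * z * k⁻¹ * y = k * (z * (k⁻¹ * y * k)) * k⁻¹ := by group
      _ = k * ((k⁻¹ * y * k) * z) * k⁻¹ := by rw [h1]
      _ = y * (k * z * k⁻¹) := by group
  have hcopk : ∀ k ∈ K, (orderOf k).Coprime p := fun k hk =>
    Nat.Coprime.coprime_dvd_left (Subgroup.orderOf_dvd_natCard K hk) hKp
  have hfix : ∀ k ∈ K, k ≠ 1 → ∀ x ∈ P, k * x * k⁻¹ = x → x ∈ C := by
    intro k hk hk1 x hx hkx
    rw [← hprime k hk hk1]
    refine ⟨hx, ?_⟩
    show x ∈ centralizer ({k} : Set G)
    rw [mem_centralizer_singleton_iff]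
    calc x * k = (k * x * k⁻¹) * k := by rw [hkx]
      _ = k * x := by group
  have hCfix : ∀ k ∈ K, k ≠ 1 → ∀ x ∈ C, k * x = x * k := by
    intro k hk hk1 x hx
    rw [← hprime k hk hk1] at hx
    have h1 : x ∈ centralizer ({k} : Set G) := hx.2
    rw [mem_centralizer_singleton_iff] at h1
    exact h1.symm
  have hKcomm' : ∀ a b : ↥K, a * b = b * a := fun a b =>
    Subtype.ext (hKcomm a.1 a.2 b.1 b.2)
  by_cases hZC : P2 ≤ C
  swap
  · -- Case 1: `K` acts freely on `Z(P₁) - 1`
    left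
    let _ : MulAction ↥K {z : G // z ∈ P1 ⊓ centralizer (P1 : Set G) ∧ z ≠ 1} :=
      { smul := fun k z => ⟨(k : G) * z.1 * (k : G)⁻¹, by
            have hz := (h.mem_Z1 z.1).mp z.2.1
            rw [h.mem_Z1]
            refine ⟨hKP2 k k.2 _ hz.1, ?_⟩
            rw [conj_pow, hz.2]
            group, fun hh => z.2.2 (by
            have h1 : z.1 = (k : G)⁻¹ * ((k : G) * z.1 * (k : G)⁻¹) * k := by group
            rw [h1, hh]
            group)⟩
        one_smul := fun z => by
          apply Subtype.ext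
          show ((1 : ↥K) : G) * z.1 * ((1 : ↥K) : G)⁻¹ = z.1
          simp
        mul_smul := fun a b z => by
          apply Subtype.ext
          show ((a * b : ↥K) : G) * z.1 * ((a * b : ↥K) : G)⁻¹ =
            (a : G) * ((b : G) * z.1 * (b : G)⁻¹) * (a : G)⁻¹
          simp [mul_assoc] }
    have hfree : ∀ (k : ↥K) (z : {z : G // z ∈ P1 ⊓ centralizer (P1 : Set G) ∧ z ≠ 1}),
        k • z = z → k = 1 := by
      intro k z hkz
      by_contra hk1
      have hk1' : (k : G) ≠ 1 := fun hh => hk1 (Subtype.ext hh)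
      have h1 : (k : G) * z.1 * (k : G)⁻¹ = z.1 := congrArg Subtype.val hkz
      have hz := (h.mem_Z1 z.1).mp z.2.1
      have hKN2 : K ≤ normalizer (P2 : Set G) := by
        intro g hg
        rw [mem_normalizer_iff]
        intro w
        constructor
        · exact hKP2 g hg w
        · intro hw
          have := hKP2 g⁻¹ (inv_mem hg) _ hw
          have h2 : g⁻¹ * (g * w * g⁻¹) * g⁻¹⁻¹ = w := by group
          rwa [h2] at this
      have hn : ((centralizer (P2 : Set G)).subgroupOf K).Normal := by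
        constructor
        intro n hn g
        have h2 : g * n * g⁻¹ = n := by
          rw [hKcomm' g n]
          group
        rwa [h2]
      have hpT : ¬ p ∣ (centralizer (P2 : Set G)).relIndex K := by
        intro hd
        have h2 : p ∣ Nat.card K := hd.trans (Subgroup.relIndex_dvd_card _ _)
        have h3 : p ∣ Nat.gcd (Nat.card K) p := Nat.dvd_gcd h2 dvd_rfl
        rw [hKp] at h3
        exact hpP.one_lt.ne' (Nat.dvd_one.mp h3)
      have hkc : (k : G) ∈ centralizer (P2 : Set G) :=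
        Cfsg.Agent.Lib.Helper77_CyclicAut.mem_centralizer_of_fix (hP.to_le h.le2) hP2 hKN2 hpT
          k.2 hz.1 z.2.2 h1
      apply hZC
      intro w hw
      apply hfix k k.2 hk1' w (h.le2 hw)
      have h2 := mem_centralizer_iff.mp hkc w hw
      rw [← h2]
      group
    have hX := card_ne_one (P1 ⊓ centralizer (P1 : Set G))
    rw [h.card_Z1] at hX
    rw [← hX]
    exact Cfsg.Agent.Lib.Helper46_FreeOrb.card_dvd_of_free hfree
  by_cases hCZ : C ≤ P2
  swap
  · -- Case 2: `K` acts freely on `P - C`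
    left
    have hKC : ∀ k ∈ K, ∀ x ∈ C, k * x * k⁻¹ ∈ C := by
      intro k hk x hx
      apply hfix k₁ hk₁ hk₁1 _ (hKP k hk x (hCP hx))
      have hc1 : Commute k₁ k := hKcomm k₁ hk₁ k hk
      have hc2 : Commute k₁ x := hCfix k₁ hk₁ hk₁1 x hx
      have hc3 : Commute k₁ (k * x * k⁻¹) := (hc1.mul_right hc2).mul_right hc1.inv_right
      rw [hc3.eq]
      group
    let _ : MulAction ↥K {x : G // x ∈ P ∧ x ∉ C} :=
      { smul := fun k x => ⟨(k : G) * x.1 * (k : G)⁻¹, hKP k k.2 _ x.2.1, fun hh => x.2.2 (by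
            have := hKC (k : G)⁻¹ (inv_mem k.2) _ hh
            have h2 : (k : G)⁻¹ * ((k : G) * x.1 * (k : G)⁻¹) * (k : G)⁻¹⁻¹ = x.1 := by group
            rwa [h2] at this)⟩
        one_smul := fun z => by
          apply Subtype.ext
          show ((1 : ↥K) : G) * z.1 * ((1 : ↥K) : G)⁻¹ = z.1
          simp
        mul_smul := fun a b z => by
          apply Subtype.ext
          show ((a * b : ↥K) : G) * z.1 * ((a * b : ↥K) : G)⁻¹ =
            (a : G) * ((b : G) * z.1 * (b : G)⁻¹) * (a : G)⁻¹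
          simp [mul_assoc] }
    have hfree : ∀ (k : ↥K) (x : {x : G // x ∈ P ∧ x ∉ C}), k • x = x → k = 1 := by
      intro k x hkx
      by_contra hk1
      have hk1' : (k : G) ≠ 1 := fun hh => hk1 (Subtype.ext hh)
      have h1 : (k : G) * x.1 * (k : G)⁻¹ = x.1 := congrArg Subtype.val hkx
      exact x.2.2 (hfix k k.2 hk1' x.1 x.2.1 h1)
    have hdvd := Cfsg.Agent.Lib.Helper46_FreeOrb.card_dvd_of_free hfree
    -- the cardinality of `P - C`
    have hX : Nat.card {x : G // x ∈ P ∧ x ∉ C} = Nat.card P - Nat.card C := by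
      have h1 : {x : G | x ∈ P ∧ x ∉ C} = (P : Set G) \ (C : Set G) := by
        ext v
        simp
      have h2 : Nat.card {x : G // x ∈ P ∧ x ∉ C} = ({x : G | x ∈ P ∧ x ∉ C}).ncard :=
        Nat.card_coe_set_eq _
      rw [h2, h1, Set.ncard_sdiff (show (C : Set G) ⊆ (P : Set G) from hCP) (Set.toFinite _),
        ← Nat.card_coe_set_eq, ← Nat.card_coe_set_eq]
      rfl
    rw [hX] at hdvd
    -- orders
    obtain ⟨e, he⟩ := IsPGroup.iff_card.mp (hP.to_le h.le2)
    obtain ⟨f, hf⟩ := IsPGroup.iff_card.mp (hP.to_le hCP)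
    have hcardP : Nat.card P = p ^ (e + 2) := by
      rw [h.card_P, he]
      ring
    have hef : e < f := by
      have h1 : p ^ e ∣ p ^ f := by
        rw [← he, ← hf]
        exact Subgroup.card_dvd_of_le hZC
      have h2 : e ≤ f := (Nat.pow_dvd_pow_iff_le_right hpP.one_lt).mp h1
      rcases Nat.lt_or_ge e f with h3 | h3
      · exact h3
      · exfalso
        have h4 : e = f := le_antisymm h2 h3
        apply hCZ
        have h5 : P2 = C := by
          apply Subgroup.eq_of_le_of_card_ge hZC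
          rw [he, hf, h4]
        rw [h5]
    have hfe : f < e + 2 := by
      have h1 : p ^ f ∣ p ^ (e + 2) := by
        rw [← hcardP, ← hf]
        exact Subgroup.card_dvd_of_le hCP
      have h2 : f ≤ e + 2 := (Nat.pow_dvd_pow_iff_le_right hpP.one_lt).mp h1
      rcases Nat.lt_or_ge f (e + 2) with h3 | h3
      · exact h3
      · exfalso
        have h4 : f = e + 2 := le_antisymm h2 h3
        have h5 : C = P := by
          apply Subgroup.eq_of_le_of_card_ge hCP
          rw [hcardP, hf, h4]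
        apply hP1na
        have hCcomm : ∀ x ∈ C, ∀ y ∈ C, x * y = y * x :=
          Cfsg.Agent.Lib.Helper77_CyclicAut.commute_of_isCyclic hCc
        refine ⟨⟨fun a b => ?_⟩⟩
        apply Subtype.ext
        exact hCcomm a.1 (h5 ▸ h.le1 a.2) b.1 (h5 ▸ h.le1 b.2)
    have hf1 : f = e + 1 := by omega
    have h3 : Nat.card P - Nat.card C = p ^ (e + 1) * (p - 1) := by
      rw [hcardP, hf, hf1]
      have h4 : p ^ (e + 2) = p ^ (e + 1) * p := by ring
      rw [h4, Nat.mul_sub_one]
    rw [h3] at hdvd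
    exact Nat.Coprime.dvd_of_dvd_mul_left (Nat.Coprime.pow_right _ hKp) hdvd
  · -- Case 3: `C = Z(P)`
    have hCeq : C = P2 := le_antisymm hCZ hZC
    have hKcen : ∀ k ∈ K, ∀ z ∈ P2, k * z = z * k := by
      intro k hk z hz
      by_cases hk1 : k = 1
      · rw [hk1, one_mul, mul_one]
      · exact hCfix k hk hk1 z (hCeq ▸ hz)
    let φ : ↥K →* MulAut (↥P ⧸ Subgroup.center ↥P) :=
      (Cfsg.Agent.Lib.Helper48_Generation.autQuot (Subgroup.center ↥P)).comp
        (Cfsg.Agent.Lib.Helper2_Coprime.conjAut P K hKN)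
    have hφmk : ∀ (k : ↥K) (x : ↥P), φ k (x : ↥P ⧸ Subgroup.center ↥P) =
        ((Cfsg.Agent.Lib.Helper2_Coprime.conjAut P K hKN k x : ↥P) : ↥P ⧸ Subgroup.center ↥P) :=
      fun k x => rfl
    have hfpf : ∀ k : ↥K, k ≠ 1 → ∀ v : ↥P ⧸ Subgroup.center ↥P, φ k v = v → v = 1 := by
      intro k hk1 v
      induction v using QuotientGroup.induction_on with
      | H x =>
        intro hv
        rw [hφmk] at hv
        have h1 := QuotientGroup.eq.mp hv.symm
        rw [h.center_eq, Subgroup.mem_subgroupOf] at h1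
        have hzP2 : (x : G)⁻¹ * ((k : G) * x * (k : G)⁻¹) ∈ P2 := h1
        have hkx : (k : G) * x * (k : G)⁻¹ = x * ((x : G)⁻¹ * ((k : G) * x * (k : G)⁻¹)) := by
          group
        have hz1 := eq_one_of_conj hP (h.le2 hzP2) hkx (hKcen k k.2 _ hzP2) (hcopk k k.2)
        rw [hz1, mul_one] at hkx
        have hk1' : (k : G) ≠ 1 := fun hh => hk1 (Subtype.ext hh)
        have hxC := hfix k k.2 hk1' x x.2 hkx
        rw [QuotientGroup.eq_one_iff, h.center_eq, Subgroup.mem_subgroupOf]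
        exact hCeq ▸ hxC
    have hsymp : ∀ (k : ↥K) (a : ℕ), (∀ v : ↥P ⧸ Subgroup.center ↥P, φ k v = v ^ a) →
        a ^ 2 ≡ 1 [MOD p] := by
      intro k a hall
      obtain ⟨u, v, huv⟩ : ∃ u v : ↥P1, u * v ≠ v * u := by
        by_contra hh
        push Not at hh
        exact hP1na ⟨⟨hh⟩⟩
      let u' : ↥P := ⟨u, h.le1 u.2⟩
      let v' : ↥P := ⟨v, h.le1 v.2⟩
      have hc : ⁅u', v'⁆ ∈ Subgroup.center ↥P := h.comm_mem_center u' v'
      have hz : ∀ w : ↥P, (w ^ a)⁻¹ * Cfsg.Agent.Lib.Helper2_Coprime.conjAut P K hKN k w ∈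
          Subgroup.center ↥P := by
        intro w
        apply QuotientGroup.eq.mp
        rw [← hφmk, hall, QuotientGroup.mk_pow]
      have hαc : Cfsg.Agent.Lib.Helper2_Coprime.conjAut P K hKN k ⁅u', v'⁆ = ⁅u', v'⁆ := by
        apply Subtype.ext
        rw [Cfsg.Agent.Lib.Helper2_Coprime.conjAut_apply_coe]
        have hc' := hc
        rw [h.center_eq, Subgroup.mem_subgroupOf] at hc'
        rw [hKcen k k.2 _ hc']
        group
      have key := symp_aux (Cfsg.Agent.Lib.Helper2_Coprime.conjAut P K hKN k) u' v' a _ _ hc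
        (hz u') (hz v') hαc (by group) (by group)
      have hne : ⁅u', v'⁆ ≠ 1 := by
        rw [Ne, commutatorElement_eq_one_iff_mul_comm]
        intro hh
        apply huv
        apply Subtype.ext
        have := congrArg (fun t : ↥P => (t : G)) hh
        exact this
      have hmod : a ^ 2 ≡ 1 [MOD orderOf ⁅u', v'⁆] := by
        rw [← pow_eq_pow_iff_modEq, key, pow_one]
      have hpd : p ∣ orderOf ⁅u', v'⁆ := by
        obtain ⟨n, hn⟩ := hP ⁅u', v'⁆
        obtain ⟨j, -, hj⟩ := (Nat.dvd_prime_pow hpP).mp (orderOf_dvd_of_pow_eq_one hn)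
        rw [hj]
        rcases Nat.eq_zero_or_pos j with h0 | h0
        · exfalso
          rw [h0, pow_zero, orderOf_eq_one_iff] at hj
          exact hne hj
        · exact dvd_pow_self p h0.ne'
      exact hmod.of_dvd hpd
    rcases torus_dichotomy h.card_quot h.pow_quot hKcomm' hKodd φ hfpf hsymp with h1 | h1
    · left
      exact h1
    · right
      refine ⟨h1, fun hCP' => ?_⟩
      have h2 : P2 ≤ P1 ⊓ centralizer (P1 : Set G) := hCeq ▸ (hCP'.trans h.commutator_le_Z1)
      have h3 : Nat.card P2 ∣ p := h.card_Z1 ▸ Subgroup.card_dvd_of_le h2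
      have h4 : Nat.card P2 = p := by
        rcases (Nat.dvd_prime hpP).mp h3 with h5 | h5
        · exfalso
          apply hC1
          rw [hCeq]
          exact Subgroup.card_eq_one.mp h5
        · exact h5
      rw [h.card_P, h4]
      ring

end Main

end Cfsg.Agent.Lib.Helper11_BG157Dich
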