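import Mathlib.GroupTheory.Sylow
import Mathlib.GroupTheory.Index
import Mathlib.Algebra.Group.Subgroup.Pointwise

/-!
Relative Sylow subgroups (helper84): `IsSylowIn p T H` says that the subgroup `T` of `G` is a Sylow
`p`-subgroup of the subgroup `H` of `G`, with everything stated inside `G` (no subgroup types).
-/

set_option autoImplicit false

namespace Cfsg.Agent.Lib.Helper84_RelSylow

variable {G : Type*} [Group G]

/-- `T` is a Sylow `p`-subgroup of `H`: a `p`-subgroup of `H` of index prime to `p`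
(meant for finite `H`). -/
def IsSylowIn (p : ℕ) (T H : Subgroup G) : Prop := T ≤ H ∧ IsPGroup p T ∧ ¬ p ∣ T.relIndex H

variable {p : ℕ} {T H K M : Subgroup G}

theorem IsSylowIn.le (h : IsSylowIn p T H) : T ≤ H := h.1

theorem IsSylowIn.isPGroup (h : IsSylowIn p T H) : IsPGroup p T := h.2.1

theorem IsSylowIn.not_dvd (h : IsSylowIn p T H) : ¬ p ∣ T.relIndex H := h.2.2

/-- Transport along an injective homomorphism. -/
theorem IsSylowIn.map_of_injective {G' : Type*} [Group G'] (h : IsSylowIn p T H) (f : G →* G')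
    (hf : Function.Injective f) : IsSylowIn p (T.map f) (H.map f) :=
  ⟨Subgroup.map_mono h.1, h.2.1.map f, by rw [Subgroup.relIndex_map_map_of_injective _ _ hf]; exact h.2.2⟩

/-- Transport along conjugation. -/
theorem IsSylowIn.conj (h : IsSylowIn p T H) (g : G) :
    IsSylowIn p (T.map (MulAut.conj g).toMonoidHom) (H.map (MulAut.conj g).toMonoidHom) :=
  h.map_of_injective _ (MulAut.conj g).injective

/-- A Sylow subgroup of `H` contained in `M ≤ H` is a Sylow subgroup of `M`. -/
theorem IsSylowIn.mono (h : IsSylowIn p T H) (hTM : T ≤ M) (hMH : M ≤ H) : IsSylowIn p T M :=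
  ⟨hTM, h.2.1, fun hd => h.2.2 (hd.trans (Dvd.intro _ (Subgroup.relIndex_mul_relIndex T M H hTM hMH)))⟩

/-- The Sylow subgroup of the group `↥H` attached to a relative Sylow subgroup. -/
noncomputable def IsSylowIn.toSylow [Fact p.Prime] (h : IsSylowIn p T H) : Sylow p H :=
  IsPGroup.toSylow (P := T.subgroupOf H)
    (h.2.1.comap_of_injective H.subtype H.subtype_injective) h.2.2

@[simp]
theorem IsSylowIn.coe_toSylow [Fact p.Prime] (h : IsSylowIn p T H) :
    (h.toSylow : Subgroup H) = T.subgroupOf H :=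
  IsPGroup.toSylow_coe _ _

theorem IsSylowIn.mem_toSylow [Fact p.Prime] (h : IsSylowIn p T H) (x : H) :
    x ∈ h.toSylow ↔ (x : G) ∈ T := by
  show x ∈ T.subgroupOf H ↔ _
  rw [Subgroup.mem_subgroupOf]

/-- A Sylow subgroup of the group `↥H` gives a relative Sylow subgroup. -/
theorem isSylowIn_of_sylow [Fact p.Prime] [Finite H] (P : Sylow p H) :
    IsSylowIn p ((P : Subgroup H).map H.subtype) H := by
  refine ⟨Subgroup.map_subtype_le _, P.2.map _, ?_⟩
  have : ((P : Subgroup H).map H.subtype).relIndex H = (P : Subgroup H).index := by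
    rw [Subgroup.relIndex, Subgroup.subgroupOf, Subgroup.comap_map_eq_self_of_injective H.subtype_injective]
  rw [this]
  exact P.not_dvd_index

/-- Every `p`-subgroup of a finite `H` lies in a Sylow `p`-subgroup of `H`. -/
theorem exists_isSylowIn_ge [Fact p.Prime] [Finite H] (hKH : K ≤ H) (hK : IsPGroup p K) :
    ∃ T, K ≤ T ∧ IsSylowIn p T H := by
  have hK' : IsPGroup p (K.subgroupOf H) := hK.comap_of_injective H.subtype H.subtype_injective
  obtain ⟨P, hP⟩ := hK'.exists_le_sylow
  refine ⟨(P : Subgroup H).map H.subtype, ?_, isSylowIn_of_sylow P⟩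
  intro x hx
  exact ⟨⟨x, hKH hx⟩, hP (by rw [Subgroup.mem_subgroupOf]; exact hx), rfl⟩

/-- Sylow's theorem inside `H`: every `p`-subgroup of a finite `H` is conjugate under `H` into a
given Sylow `p`-subgroup of `H`. -/
theorem IsSylowIn.exists_conj_le [Fact p.Prime] [Finite H] (h : IsSylowIn p T H) (hKH : K ≤ H)
    (hK : IsPGroup p K) : ∃ g ∈ H, ∀ x ∈ K, g * x * g⁻¹ ∈ T := by
  have hK' : IsPGroup p (K.subgroupOf H) := hK.comap_of_injective H.subtype H.subtype_injective
  obtain ⟨P, hP⟩ := hK'.exists_le_sylow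
  obtain ⟨g, hg⟩ := MulAction.exists_smul_eq H P h.toSylow
  refine ⟨g, g.2, fun x hx => ?_⟩
  have hx' : (⟨x, hKH hx⟩ : H) ∈ P := hP (by rw [Subgroup.mem_subgroupOf]; exact hx)
  have h3 : MulAut.conj g (⟨x, hKH hx⟩ : H) ∈ (g • P : Sylow p H) := by
    rw [Sylow.smul_def]
    show _ ∈ ((MulAut.conj g • P : Sylow p H) : Subgroup H)
    rw [Sylow.pointwise_smul_def]
    exact Subgroup.smul_mem_pointwise_smul _ _ _ hx'
  rw [hg, h.mem_toSylow] at h3
  simpa using h3


/-- A relative Sylow subgroup is a maximal `p`-subgroup of `H`. -/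
theorem IsSylowIn.eq_of_le [Fact p.Prime] (h : IsSylowIn p T H) (hTK : T ≤ K) (hKH : K ≤ H)
    (hK : IsPGroup p K) : K = T := by
  have hK' : IsPGroup p (K.subgroupOf H) := hK.comap_of_injective H.subtype H.subtype_injective
  have h1 : K.subgroupOf H = T.subgroupOf H :=
    h.toSylow.is_maximal' hK' (fun x hx => by
      rw [Subgroup.mem_subgroupOf]
      exact hTK ((h.mem_toSylow x).1 hx))
  apply le_antisymm
  · intro x hx
    have : (⟨x, hKH hx⟩ : H) ∈ K.subgroupOf H := by rw [Subgroup.mem_subgroupOf]; exact hx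
    rw [h1, Subgroup.mem_subgroupOf] at this
    exact this
  · exact hTK

/-- A Sylow subgroup of `G` is a relative Sylow subgroup of `⊤`. -/
theorem isSylowIn_top [Fact p.Prime] [Finite G] (S : Sylow p G) : IsSylowIn p (S : Subgroup G) ⊤ :=
  ⟨le_top, S.2, by rw [Subgroup.relIndex_top_right]; exact S.not_dvd_index⟩

/-- A Sylow subgroup of `G` contained in `H` is a relative Sylow subgroup of `H`. -/
theorem isSylowIn_of_sylow_le [Fact p.Prime] [Finite G] (S : Sylow p G) (hSH : (S : Subgroup G) ≤ H) :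
    IsSylowIn p (S : Subgroup G) H :=
  (isSylowIn_top S).mono hSH le_top

/-- Sylow's theorem: a `p`-subgroup of a finite group is conjugate into a given Sylow subgroup. -/
theorem exists_conj_le_sylow [Fact p.Prime] [Finite G] (S : Sylow p G) (hK : IsPGroup p K) :
    ∃ g : G, ∀ x ∈ K, g * x * g⁻¹ ∈ (S : Subgroup G) := by
  haveI : Finite (⊤ : Subgroup G) := inferInstance
  obtain ⟨g, -, hg⟩ := (isSylowIn_top S).exists_conj_le (K := K) le_top hK
  exact ⟨g, hg⟩

end Cfsg.Agent.Lib.Helper84_RelSylow
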