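import Mathlib
import Cfsg.Agent.Lib.Helper29_BG12a
import Cfsg.Agent.Lib.Helper84_RelSylow
import Cfsg.Agent.Lib.Helper24_CoprimeAction

/-!
# B-G Corollary 15.3(b), abstract core: control of fusion in a Hall subgroup `H` of `N`, when `N` has a
normal Sylow `q`-subgroup `Q` (normal in the ambient group `X`) with `N / Q` nilpotent.
-/

set_option autoImplicit false
set_option linter.unusedSectionVars false
set_option linter.unusedVariables false
set_option linter.style.haveILetI false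

namespace Cfsg.Agent.Lib.Helper48_BG153a

open Cfsg
open Cfsg.Agent.Lib.Helper84_RelSylow

variable {X : Type*} [Group X] [Finite X]

/-- a Hall subgroup of a normal nilpotent subgroup is normal -/
theorem normal_of_hall_of_nilpotent_normal (N H : Subgroup X) [N.Normal] (hHN : H ≤ N)
    (hnil : Group.IsNilpotent ↥N) (hcop : (Nat.card H).Coprime (H.relIndex N)) : H.Normal := by
  haveI := hnil
  have hcard : Nat.card (H.subgroupOf N) = Nat.card H :=
    Cfsg.Agent.Lib.Helper24_CoprimeAction.card_subgroupOf_of_le hHN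
  have hcop' : (Nat.card (H.subgroupOf N)).Coprime (H.subgroupOf N).index := by
    rw [hcard]; exact hcop
  haveI hn : (H.subgroupOf N).Normal :=
    Cfsg.Agent.Lib.Helper29_BG12a.normal_of_hall_of_isNilpotent _ hcop'
  constructor
  intro h hh g
  have h1 : g * h * g⁻¹ ∈ N := Subgroup.Normal.conj_mem inferInstance h (hHN hh) g
  have h2 : (⟨g * h * g⁻¹, h1⟩ : ↥N) ^ Nat.card (H.subgroupOf N) = 1 := by
    rw [hcard]
    apply Subtype.ext
    rw [Subgroup.coe_pow, Subgroup.coe_one, conj_pow]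
    have : h ^ Nat.card H = 1 := by
      have := pow_card_eq_one' (G := H) (x := ⟨h, hh⟩)
      exact congrArg Subtype.val this
    rw [this]; group
  have h3 := Cfsg.Agent.Lib.Helper29_BG12a.mem_of_pow_card_eq_one (H.subgroupOf N) hcop' h2
  exact Subgroup.mem_subgroupOf.mp h3

/-- `H Q` is normal in `X` -/
theorem sup_normal_of_quotient_nilpotent (N Q H : Subgroup X) [N.Normal] [Q.Normal]
    (hQN : Q ≤ N) (hHN : H ≤ N)
    (hnil : Group.IsNilpotent ↥(N.map (QuotientGroup.mk' Q)))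
    (hH : (Nat.card H).Coprime (H.relIndex N)) : (H ⊔ Q).Normal := by
  set π := QuotientGroup.mk' Q with hπ
  have hker : π.ker = Q := QuotientGroup.ker_mk' _
  haveI : (N.map π).Normal := Subgroup.Normal.map inferInstance _ (QuotientGroup.mk'_surjective _)
  have hle : H.map π ≤ N.map π := Subgroup.map_mono hHN
  have hcop : (Nat.card (H.map π)).Coprime ((H.map π).relIndex (N.map π)) := by
    have h1 : Nat.card (H.map π) ∣ Nat.card H := Subgroup.card_map_dvd H π
    have h2 : (H.map π).relIndex (N.map π) ∣ H.relIndex N := by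
      rw [Subgroup.relIndex_map_map, hker, sup_of_le_left hQN]
      exact Subgroup.relIndex_dvd_of_le_left N le_sup_left
    exact Nat.Coprime.coprime_dvd_left h1 (Nat.Coprime.coprime_dvd_right h2 hH)
  have hn : (H.map π).Normal := normal_of_hall_of_nilpotent_normal (N.map π) (H.map π) hle hnil hcop
  have h3 : (H.map π).comap π = H ⊔ Q := by
    rw [Subgroup.comap_map_eq, hker]
  rw [← h3]
  exact Subgroup.Normal.comap hn π

/-- if `q` divides `|H|` then the normal Sylow `q`-subgroup `Q` of `N` lies in the Hall subgroup `H` -/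
theorem le_of_dvd_card (N Q H : Subgroup X) [Q.Normal] (hQN : Q ≤ N) (hHN : H ≤ N) {q : ℕ}
    [hq : Fact q.Prime] (hQp : IsPGroup q Q) (hQs : ¬ q ∣ Q.relIndex N)
    (hH : (Nat.card H).Coprime (H.relIndex N)) (hqH : q ∣ Nat.card H) : Q ≤ H := by
  let S : Sylow q ↥H := default
  set SX : Subgroup X := (S : Subgroup ↥H).map H.subtype with hSX
  have hSH : IsSylowIn q SX H := isSylowIn_of_sylow S
  have hSN : IsSylowIn q SX N := by
    refine ⟨hSH.le.trans hHN, hSH.isPGroup, ?_⟩
    rw [← Subgroup.relIndex_mul_relIndex SX H N hSH.le hHN]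
    intro hd
    rcases (Nat.Prime.dvd_mul hq.out).mp hd with h1 | h1
    · exact hSH.not_dvd h1
    · have h2 : q ∣ Nat.gcd (Nat.card H) (H.relIndex N) := Nat.dvd_gcd hqH h1
      rw [hH] at h2
      exact hq.out.one_lt.ne' (Nat.dvd_one.mp h2)
  have hQS : IsSylowIn q Q N := ⟨hQN, hQp, hQs⟩
  have hle : SX ≤ Q := by
    obtain ⟨g, hgN, hg⟩ := hQS.exists_conj_le (K := SX) hSN.le hSN.isPGroup
    intro x hx
    have h1 := hg x hx
    have h2 := Subgroup.Normal.conj_mem (inferInstance : Q.Normal) _ h1 g⁻¹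
    have e : g⁻¹ * (g * x * g⁻¹) * g⁻¹⁻¹ = x := by group
    rwa [e] at h2
  have heq : Q = SX := hSN.eq_of_le hle hQN hQp
  rw [heq]
  exact hSH.le

/-- **Control of fusion.** -/
theorem fusion_control [Group.IsSolvable X] (N Q H : Subgroup X) [N.Normal] [Q.Normal]
    (hQN : Q ≤ N) (hHN : H ≤ N) {q : ℕ} [hq : Fact q.Prime] (hQp : IsPGroup q Q)
    (hQs : ¬ q ∣ Q.relIndex N)
    (hnil : Group.IsNilpotent ↥(N.map (QuotientGroup.mk' Q)))
    (hH : (Nat.card H).Coprime (H.relIndex N)) {x : X} (hx : x ∈ H) (m : X)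
    (hy : m * x * m⁻¹ ∈ H) :
    ∃ n ∈ Subgroup.normalizer (H : Set X), n * x * n⁻¹ = m * x * m⁻¹ := by
  haveI hTn : (H ⊔ Q).Normal := sup_normal_of_quotient_nilpotent N Q H hQN hHN hnil hH
  by_cases hqH : q ∣ Nat.card H
  · have hQH : Q ≤ H := le_of_dvd_card N Q H hQN hHN hQp hQs hH hqH
    have hHn : H.Normal := by
      have : H ⊔ Q = H := sup_of_le_left hQH
      rw [← this]; exact hTn
    refine ⟨m, ?_, rfl⟩
    rw [Subgroup.normalizer_eq_top_iff.mpr hHn]
    exact Subgroup.mem_top m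
  · -- `H ∩ Q = 1`
    have hcop : (Nat.card H).Coprime (Nat.card Q) := by
      obtain ⟨k, hk⟩ := hQp.exists_card_eq
      rw [hk]
      apply Nat.Coprime.pow_right
      rw [Nat.coprime_comm, Nat.Prime.coprime_iff_not_dvd hq.out]
      exact hqH
    have hdisj : H ⊓ Q = ⊥ := (Subgroup.disjoint_of_coprime_natCard hcop).eq_bot
    have hHQ : H ≤ Subgroup.normalizer (Q : Set X) := by
      rw [Subgroup.normalizer_eq_top]; exact le_top
    set H₂ : Subgroup X := H.map (MulAut.conj m).toMonoidHom with hH₂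
    have hH₂le : H₂ ≤ Q ⊔ H := by
      rw [sup_comm]
      rintro _ ⟨h, hh, rfl⟩
      exact Subgroup.Normal.conj_mem hTn h (Subgroup.mem_sup_left hh) m
    have hH₂card : Nat.card H₂ = Nat.card H :=
      Subgroup.card_map_of_injective (MulAut.conj m).injective
    obtain ⟨u, hu, huH⟩ := Cfsg.Agent.Lib.Helper24_CoprimeAction.sz_rel_conj H Q H₂ hHQ hcop
      (Or.inl inferInstance) hH₂le hH₂card
    -- `n₁ = u⁻¹ m` normalizes `H`
    set n₁ : X := u⁻¹ * m with hn₁
    have hn₁N : n₁ ∈ Subgroup.normalizer (H : Set X) := by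
      rw [Cfsg.Agent.Lib.Helper24_CoprimeAction.mem_normalizer_iff_map_conj]
      have h1 : (MulAut.conj n₁).toMonoidHom =
          (MulAut.conj u⁻¹).toMonoidHom.comp (MulAut.conj m).toMonoidHom := by
        ext z; simp [hn₁, mul_assoc]
      rw [h1, ← Subgroup.map_map, ← hH₂, ← huH, Subgroup.map_map]
      have h2 : (MulAut.conj u⁻¹).toMonoidHom.comp (MulAut.conj u).toMonoidHom = MonoidHom.id X := by
        ext z; simp [mul_assoc]
      rw [h2, Subgroup.map_id]
    refine ⟨n₁, hn₁N, ?_⟩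
    set x₁ : X := n₁ * x * n₁⁻¹ with hx₁
    have hx₁H : x₁ ∈ H := (Subgroup.mem_normalizer_iff.mp hn₁N x).mp hx
    have hyx : m * x * m⁻¹ = u * x₁ * u⁻¹ := by
      rw [hx₁, hn₁]; group
    have hc : u * x₁ * u⁻¹ * x₁⁻¹ ∈ H ⊓ Q := by
      refine Subgroup.mem_inf.mpr ⟨?_, ?_⟩
      · rw [← hyx]; exact H.mul_mem hy (H.inv_mem hx₁H)
      · have h1 : x₁ * u⁻¹ * x₁⁻¹ ∈ Q :=
          Subgroup.Normal.conj_mem inferInstance _ (Q.inv_mem hu) x₁
        have := Q.mul_mem hu h1
        have e : u * (x₁ * u⁻¹ * x₁⁻¹) = u * x₁ * u⁻¹ * x₁⁻¹ := by group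
        rwa [e] at this
    rw [hdisj, Subgroup.mem_bot] at hc
    rw [hyx]
    have : u * x₁ * u⁻¹ = (u * x₁ * u⁻¹ * x₁⁻¹) * x₁ := by group
    rw [this, hc, one_mul]

end Cfsg.Agent.Lib.Helper48_BG153a
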