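import Mathlib

set_option autoImplicit false
set_option linter.unusedSectionVars false
set_option linter.unusedVariables false
set_option linter.style.haveILetI false

/-! Linear algebra of Frobenius group actions: a Frobenius group `U ⋊ E` with nilpotent kernel `U`
acting on a finite dimensional space `V` over an algebraically closed field in which `|U|` is
invertible. If `C_V(U) = 0` then `dim V = |E| * dim C_V(E)`. -/

namespace Cfsg.Agent.Lib.Helper52_FrobLA

open Module TensorProduct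

section basic

variable {k : Type*} [Field k] {Γ : Type*} [Group Γ] {V : Type*} [AddCommGroup V] [Module k V]

/-- the subspace of vectors fixed by the subgroup `K` -/
def fixedSpace (ρ : Representation k Γ V) (K : Subgroup Γ) : Submodule k V where
  carrier := {v | ∀ g ∈ K, ρ g v = v}
  add_mem' := by
    intro a b ha hb g hg
    rw [map_add, ha g hg, hb g hg]
  zero_mem' := by
    intro g _
    exact map_zero _
  smul_mem' := by
    intro c v hv g hg
    rw [map_smul, hv g hg]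

theorem mem_fixedSpace (ρ : Representation k Γ V) (K : Subgroup Γ) (v : V) :
    v ∈ fixedSpace ρ K ↔ ∀ g ∈ K, ρ g v = v := Iff.rfl

theorem rho_inv_apply (ρ : Representation k Γ V) (g : Γ) (v : V) : ρ g⁻¹ (ρ g v) = v := by
  rw [← Module.End.mul_apply, ← map_mul, inv_mul_cancel, map_one, Module.End.one_apply]

theorem rho_apply_inv (ρ : Representation k Γ V) (g : Γ) (v : V) : ρ g (ρ g⁻¹ v) = v := by
  rw [← Module.End.mul_apply, ← map_mul, mul_inv_cancel, map_one, Module.End.one_apply]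

theorem rho_injective (ρ : Representation k Γ V) (g : Γ) : Function.Injective (ρ g) := by
  intro a b h
  have := congrArg (ρ g⁻¹) h
  rwa [rho_inv_apply, rho_inv_apply] at this

/-- the joint eigenspace of the operators `ρ z`, `z ∈ Z`, for the eigenvalue function `χ` -/
def jointEig (ρ : Representation k Γ V) (Z : Subgroup Γ) (χ : Z → k) : Submodule k V :=
  ⨅ z : Z, Module.End.eigenspace (ρ (z : Γ)) (χ z)

theorem mem_jointEig (ρ : Representation k Γ V) (Z : Subgroup Γ) (χ : Z → k) (v : V) :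
    v ∈ jointEig ρ Z χ ↔ ∀ z : Z, ρ (z : Γ) v = χ z • v := by
  simp only [jointEig, Submodule.mem_iInf, Module.End.mem_eigenspace_iff]

/-- the action of `Γ` on eigenvalue functions of a normal subgroup -/
def conjChar (Z : Subgroup Γ) [Z.Normal] (g : Γ) (χ : Z → k) : Z → k :=
  fun z => χ (MulAut.conjNormal g⁻¹ z)

theorem conjChar_apply (Z : Subgroup Γ) [hZ : Z.Normal] (g : Γ) (χ : Z → k) (z : Z) :
    conjChar Z g χ z = χ ⟨g⁻¹ * z * g, by
      have := hZ.conj_mem z z.2 g⁻¹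
      simpa using this⟩ := by
  unfold conjChar
  congr 1
  apply Subtype.ext
  simp [MulAut.conjNormal_apply]

theorem conjChar_mul (Z : Subgroup Γ) [Z.Normal] (g h : Γ) (χ : Z → k) :
    conjChar Z (g * h) χ = conjChar Z g (conjChar Z h χ) := by
  funext z
  unfold conjChar
  congr 1
  rw [mul_inv_rev, map_mul]
  rfl

theorem conjChar_one (Z : Subgroup Γ) [Z.Normal] (χ : Z → k) : conjChar Z 1 χ = χ := by
  funext z
  unfold conjChar
  simp

theorem map_jointEig_le (ρ : Representation k Γ V) (Z : Subgroup Γ) [hZ : Z.Normal] (g : Γ)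
    (χ : Z → k) : (jointEig ρ Z χ).map (ρ g) ≤ jointEig ρ Z (conjChar Z g χ) := by
  rintro _ ⟨v, hv, rfl⟩
  rw [SetLike.mem_coe, mem_jointEig] at hv
  rw [mem_jointEig]
  intro z
  rw [conjChar_apply]
  have h1 := hv ⟨g⁻¹ * z * g, by
      have := hZ.conj_mem z z.2 g⁻¹
      simpa using this⟩
  simp only at h1
  have h2 : ρ (z : Γ) (ρ g v) = ρ g (ρ (g⁻¹ * z * g) v) := by
    rw [← Module.End.mul_apply, ← Module.End.mul_apply, ← map_mul, ← map_mul]
    congr 2
    group
  rw [h2, h1, map_smul]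

theorem map_jointEig (ρ : Representation k Γ V) (Z : Subgroup Γ) [hZ : Z.Normal] (g : Γ)
    (χ : Z → k) : (jointEig ρ Z χ).map (ρ g) = jointEig ρ Z (conjChar Z g χ) := by
  apply le_antisymm (map_jointEig_le ρ Z g χ)
  intro v hv
  refine ⟨ρ g⁻¹ v, ?_, rho_apply_inv ρ g v⟩
  have := map_jointEig_le ρ Z g⁻¹ (conjChar Z g χ)
  rw [← conjChar_mul, inv_mul_cancel, conjChar_one] at this
  exact this ⟨v, hv, rfl⟩

end basic

section eig

variable {k : Type*} [Field k] {Γ : Type*} [Group Γ] {V : Type*} [AddCommGroup V]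
  [Module k V] [FiniteDimensional k V]

theorem isSemisimple_of_pow (s : End k V) (m : ℕ) (hm : (m : k) ≠ 0) (hs : s ^ m = 1) :
    s.IsSemisimple := by
  have hsq : Squarefree (Polynomial.X ^ m - Polynomial.C (1 : k)) :=
    (Polynomial.separable_X_pow_sub_C (1 : k) hm one_ne_zero).squarefree
  apply Module.End.isSemisimple_of_squarefree_aeval_eq_zero hsq
  simp [hs]

theorem jointEig_eq_iInf_maxGen (ρ : Representation k Γ V) (Z : Subgroup Γ) (m : ℕ)
    (hm : (m : k) ≠ 0) (hZ : ∀ z : Z, ρ (z : Γ) ^ m = 1) (χ : Z → k) :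
    jointEig ρ Z χ = ⨅ z : Z, Module.End.maxGenEigenspace (ρ (z : Γ)) (χ z) := by
  unfold jointEig
  congr 1
  funext z
  have hfs : Module.End.IsFinitelySemisimple (ρ (z : Γ)) :=
    (isSemisimple_of_pow _ m hm (hZ z)).isFinitelySemisimple
  rw [hfs.maxGenEigenspace_eq_eigenspace]

theorem indep_jointEig (ρ : Representation k Γ V) (Z : Subgroup Γ) (m : ℕ)
    (hm : (m : k) ≠ 0) (hZ : ∀ z : Z, ρ (z : Γ) ^ m = 1)
    (hcomm : ∀ z w : Z, Commute (ρ (z : Γ)) (ρ (w : Γ))) :
    iSupIndep (jointEig ρ Z) := by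
  have h := Module.End.independent_iInf_maxGenEigenspace_of_forall_mapsTo
    (fun z : Z => ρ (z : Γ))
    (fun i j φ => Module.End.mapsTo_maxGenEigenspace_of_comm (hcomm j i) φ)
  have e : jointEig ρ Z = fun χ : Z → k => ⨅ z : Z, Module.End.maxGenEigenspace (ρ (z : Γ)) (χ z) := by
    funext χ
    exact jointEig_eq_iInf_maxGen ρ Z m hm hZ χ
  rw [e]
  exact h

theorem iSup_jointEig [IsAlgClosed k] (ρ : Representation k Γ V) (Z : Subgroup Γ) (m : ℕ)
    (hm : (m : k) ≠ 0) (hZ : ∀ z : Z, ρ (z : Γ) ^ m = 1)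
    (hcomm : ∀ z w : Z, Commute (ρ (z : Γ)) (ρ (w : Γ))) :
    ⨆ χ : Z → k, jointEig ρ Z χ = ⊤ := by
  have h := Module.End.iSup_iInf_maxGenEigenspace_eq_top_of_iSup_maxGenEigenspace_eq_top_of_commute
    (fun z : Z => ρ (z : Γ)) (fun i j _ => hcomm i j)
    (fun z => Module.End.iSup_maxGenEigenspace_eq_top _)
  have e : jointEig ρ Z = fun χ : Z → k => ⨅ z : Z, Module.End.maxGenEigenspace (ρ (z : Γ)) (χ z) := by
    funext χ
    exact jointEig_eq_iInf_maxGen ρ Z m hm hZ χ
  rw [e]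
  exact h

end eig

section cen
variable {k : Type*} [Field k] {Γ : Type*} [Group Γ] {V : Type*} [AddCommGroup V] [Module k V]

theorem rho_mul_inv' (ρ : Representation k Γ V) (g : Γ) : ρ g * ρ g⁻¹ = 1 := by
  rw [← map_mul, mul_inv_cancel, map_one]

theorem rho_inv_mul' (ρ : Representation k Γ V) (g : Γ) : ρ g⁻¹ * ρ g = 1 := by
  rw [← map_mul, inv_mul_cancel, map_one]

/-- the elements of `U` whose image commutes with the image of `U` -/
def cenSub (ρ : Representation k Γ V) (U : Subgroup Γ) : Subgroup Γ where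
  carrier := {z | z ∈ U ∧ ∀ u ∈ U, ρ z * ρ u = ρ u * ρ z}
  mul_mem' := by
    rintro a b ⟨ha, ha'⟩ ⟨hb, hb'⟩
    refine ⟨U.mul_mem ha hb, fun u hu => ?_⟩
    rw [map_mul, mul_assoc, hb' u hu, ← mul_assoc, ha' u hu, mul_assoc]
  one_mem' := ⟨U.one_mem, fun u _ => by rw [map_one, one_mul, mul_one]⟩
  inv_mem' := by
    rintro a ⟨ha, ha'⟩
    refine ⟨U.inv_mem ha, fun u hu => ?_⟩
    have h := ha' u hu
    calc ρ a⁻¹ * ρ u = ρ a⁻¹ * (ρ u * ρ a) * ρ a⁻¹ := by
          rw [mul_assoc, mul_assoc, rho_mul_inv', mul_one]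
      _ = ρ a⁻¹ * (ρ a * ρ u) * ρ a⁻¹ := by rw [h]
      _ = ρ u * ρ a⁻¹ := by rw [← mul_assoc, rho_inv_mul', one_mul]

theorem mem_cenSub (ρ : Representation k Γ V) (U : Subgroup Γ) (z : Γ) :
    z ∈ cenSub ρ U ↔ z ∈ U ∧ ∀ u ∈ U, ρ z * ρ u = ρ u * ρ z := Iff.rfl

theorem cenSub_le (ρ : Representation k Γ V) (U : Subgroup Γ) : cenSub ρ U ≤ U := fun _ h => h.1

instance cenSub_normal (ρ : Representation k Γ V) (U : Subgroup Γ) [hU : U.Normal] :
    (cenSub ρ U).Normal := by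
  constructor
  rintro z ⟨hz, hz'⟩ g
  refine ⟨hU.conj_mem z hz g, fun u hu => ?_⟩
  have hu' : g⁻¹ * u * g ∈ U := by
    have := hU.conj_mem u hu g⁻¹
    simpa using this
  have h := hz' _ hu'
  have e1 : ρ (g * z * g⁻¹) * ρ u = ρ g * (ρ z * ρ (g⁻¹ * u * g)) * ρ g⁻¹ := by
    simp only [← map_mul]
    congr 1
    group
  have e2 : ρ u * ρ (g * z * g⁻¹) = ρ g * (ρ (g⁻¹ * u * g) * ρ z) * ρ g⁻¹ := by
    simp only [← map_mul]
    congr 1
    group
  rw [e1, e2, h]

theorem exists_cenSub_ne_one (ρ : Representation k Γ V) (U : Subgroup Γ)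
    (hnil : Group.IsNilpotent U) (h : ∃ u ∈ U, ρ u ≠ 1) :
    ∃ z ∈ cenSub ρ U, ρ z ≠ 1 := by
  obtain ⟨u₀, hu₀, hu₀'⟩ := h
  let f : U →* (V →ₗ[k] V)ˣ := ρ.asGroupHom.comp U.subtype
  have hf : ∀ u : U, ((f u : (V →ₗ[k] V)ˣ) : V →ₗ[k] V) = ρ (u : Γ) := fun u => by
    simp [f, Representation.asGroupHom_apply]
  haveI : Group.IsNilpotent f.range :=
    Group.nilpotent_of_surjective f.rangeRestrict f.rangeRestrict_surjective
  haveI : Nontrivial f.range := by
    refine ⟨⟨⟨f ⟨u₀, hu₀⟩, ⟨_, rfl⟩⟩, 1, ?_⟩⟩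
    intro h
    have h1 : f ⟨u₀, hu₀⟩ = 1 := congrArg Subtype.val h
    have h2 := congrArg (fun x : (V →ₗ[k] V)ˣ => (x : V →ₗ[k] V)) h1
    simp only [hf, Units.val_one] at h2
    exact hu₀' h2
  have hc := Group.IsNilpotent.center_ne_bot (G := f.range)
  obtain ⟨⟨⟨c', z, rfl⟩, hcz⟩, hc2⟩ := (Subgroup.ne_bot_iff_exists_ne_one).1 hc
  refine ⟨(z : Γ), ⟨z.2, fun u hu => ?_⟩, ?_⟩
  · have h1 := (Subgroup.mem_center_iff.1 hcz) ⟨f ⟨u, hu⟩, ⟨_, rfl⟩⟩
    have h2 : f ⟨u, hu⟩ * f z = f z * f ⟨u, hu⟩ := congrArg Subtype.val h1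
    have h3 := congrArg (fun x : (V →ₗ[k] V)ˣ => (x : V →ₗ[k] V)) h2
    simp only [Units.val_mul, hf] at h3
    exact h3.symm
  · intro h
    apply hc2
    apply Subtype.ext
    apply Subtype.ext
    apply Units.ext
    simp only [hf]
    rw [h]
    rfl

end cen

section free
variable {k : Type*} [Field k] {Γ : Type*} [Group Γ] {V : Type*} [AddCommGroup V] [Module k V]

theorem map_jointEig_le_of_commute (ρ : Representation k Γ V) (Z : Subgroup Γ) (T : V →ₗ[k] V)
    (hT : ∀ z : Z, T * ρ (z : Γ) = ρ (z : Γ) * T) (χ : Z → k) :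
    (jointEig ρ Z χ).map T ≤ jointEig ρ Z χ := by
  rintro _ ⟨v, hv, rfl⟩
  rw [SetLike.mem_coe, mem_jointEig] at hv
  rw [mem_jointEig]
  intro z
  have h1 : ρ (z : Γ) (T v) = T (ρ (z : Γ) v) := by
    rw [← Module.End.mul_apply, ← Module.End.mul_apply, hT z]
  rw [h1, hv z, map_smul]

theorem char_eq_one_of_fixed (ρ : Representation k Γ V) (Z : Subgroup Γ) [hZ : Z.Normal]
    [Finite Z] (e : Γ) (hfree : ∀ z ∈ Z, e * z = z * e → z = 1) (χ : Z → k)
    (hχ : conjChar Z e χ = χ) (v : V) (hv : v ∈ jointEig ρ Z χ) (hv0 : v ≠ 0) (z : Z) :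
    χ z = 1 := by
  rw [mem_jointEig] at hv
  let τ : Z → Z := fun w => w⁻¹ * MulAut.conjNormal e⁻¹ w
  have hτ : ∀ w : Z, ((τ w : Z) : Γ) = (w : Γ)⁻¹ * (e⁻¹ * w * e) := by
    intro w
    simp [τ, MulAut.conjNormal_apply]
  have hinj : Function.Injective τ := by
    intro w w' h
    have h1 : (w : Γ)⁻¹ * (e⁻¹ * w * e) = (w' : Γ)⁻¹ * (e⁻¹ * w' * e) := by
      rw [← hτ, ← hτ, h]
    have h2 : e * ((w' : Γ) * (w : Γ)⁻¹) = ((w' : Γ) * (w : Γ)⁻¹) * e := by
      have h3 : (w' : Γ) * (w : Γ)⁻¹ * e⁻¹ = e⁻¹ * ((w' : Γ) * (w : Γ)⁻¹) := by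
        calc (w' : Γ) * (w : Γ)⁻¹ * e⁻¹
            = (w' : Γ) * ((w : Γ)⁻¹ * (e⁻¹ * w * e)) * e⁻¹ * (w : Γ)⁻¹ := by group
          _ = (w' : Γ) * ((w' : Γ)⁻¹ * (e⁻¹ * w' * e)) * e⁻¹ * (w : Γ)⁻¹ := by rw [h1]
          _ = e⁻¹ * ((w' : Γ) * (w : Γ)⁻¹) := by group
      calc e * ((w' : Γ) * (w : Γ)⁻¹) = e * ((w' : Γ) * (w : Γ)⁻¹ * e⁻¹) * e := by group
        _ = e * (e⁻¹ * ((w' : Γ) * (w : Γ)⁻¹)) * e := by rw [h3]
        _ = ((w' : Γ) * (w : Γ)⁻¹) * e := by group
    have h4 := hfree _ (Z.mul_mem w'.2 (Z.inv_mem w.2)) h2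
    apply Subtype.ext
    have : (w' : Γ) = w := by
      calc (w' : Γ) = (w' : Γ) * (w : Γ)⁻¹ * w := by group
        _ = w := by rw [h4, one_mul]
    exact this.symm
  have hsurj : Function.Surjective τ := Finite.injective_iff_surjective.1 hinj
  obtain ⟨w, rfl⟩ := hsurj z
  have hχw : χ w ≠ 0 := by
    intro h0
    have := hv w
    rw [h0, zero_smul] at this
    have h5 : ρ (w : Γ) v = ρ (w : Γ) 0 := by rw [this, map_zero]
    exact hv0 (rho_injective ρ _ h5)
  have hinv : ρ ((w : Γ)⁻¹) v = (χ w)⁻¹ • v := by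
    have h6 := congrArg (ρ ((w : Γ)⁻¹)) (hv w)
    rw [rho_inv_apply, map_smul] at h6
    calc ρ ((w : Γ)⁻¹) v = (χ w)⁻¹ • (χ w • ρ ((w : Γ)⁻¹) v) := by
          rw [smul_smul, inv_mul_cancel₀ hχw, one_smul]
      _ = (χ w)⁻¹ • v := by rw [← h6]
  have hconj : ρ (e⁻¹ * (w : Γ) * e) v = χ w • v := by
    have h7 := hv (MulAut.conjNormal e⁻¹ w)
    have h8 : ((MulAut.conjNormal e⁻¹ w : Z) : Γ) = e⁻¹ * w * e := by
      simp [MulAut.conjNormal_apply]
    rw [h8] at h7
    rw [h7]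
    congr 1
    have := congrFun hχ w
    unfold conjChar at this
    exact this
  have h9 : ρ ((τ w : Z) : Γ) v = v := by
    rw [hτ, map_mul, Module.End.mul_apply, hconj, map_smul, hinv, smul_smul,
      mul_inv_cancel₀ hχw, one_smul]
  have h10 := hv (τ w)
  rw [h9] at h10
  by_contra hne
  have h11 : (χ (τ w) - 1) • v = 0 := by
    rw [sub_smul, one_smul, ← h10, sub_self]
  rcases smul_eq_zero.1 h11 with h | h
  · exact hne (sub_eq_zero.1 h)
  · exact hv0 h

end free

section induced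
variable {k : Type*} [Field k] {Γ : Type*} [Group Γ] {V : Type*} [AddCommGroup V] [Module k V]

/-- the map `(E → L) → V`, `f ↦ ∑ e, ρ e (f e)` -/
noncomputable def indMap (ρ : Representation k Γ V) (E : Subgroup Γ) [Fintype E]
    (L : Submodule k V) : (E → L) →ₗ[k] V :=
  ∑ e : E, (ρ (e : Γ)) ∘ₗ L.subtype ∘ₗ (LinearMap.proj e : (E → L) →ₗ[k] L)

theorem indMap_apply (ρ : Representation k Γ V) (E : Subgroup Γ) [Fintype E]
    (L : Submodule k V) (f : E → L) :
    indMap ρ E L f = ∑ e : E, ρ (e : Γ) (f e : V) := by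
  simp [indMap, LinearMap.sum_apply]

theorem indMap_injective (ρ : Representation k Γ V) (E : Subgroup Γ) [Fintype E]
    (L : Submodule k V) (hind : iSupIndep (fun e : E => L.map (ρ (e : Γ)))) :
    Function.Injective (indMap ρ E L) := by
  rw [← LinearMap.ker_eq_bot, LinearMap.ker_eq_bot']
  intro f hf
  rw [indMap_apply] at hf
  have h := (iSupIndep_iff_finsetSum_eq_zero_imp_eq_zero _).1 hind Finset.univ
    (fun e => ρ (e : Γ) (f e : V)) (fun e _ => Submodule.mem_map_of_mem (f e).2) hf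
  funext e
  have h1 := h e (Finset.mem_univ e)
  apply Subtype.ext
  apply rho_injective ρ (e : Γ)
  rw [h1]
  simp

theorem range_indMap (ρ : Representation k Γ V) (E : Subgroup Γ) [Fintype E] [DecidableEq E]
    (L : Submodule k V) :
    LinearMap.range (indMap ρ E L) = ⨆ e : E, L.map (ρ (e : Γ)) := by
  apply le_antisymm
  · rintro _ ⟨f, rfl⟩
    rw [indMap_apply]
    exact Submodule.sum_mem _
      (fun e _ => Submodule.mem_iSup_of_mem e (Submodule.mem_map_of_mem (f e).2))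
  · apply iSup_le
    rintro e _ ⟨v, hv, rfl⟩
    refine ⟨Pi.single e ⟨v, hv⟩, ?_⟩
    rw [indMap_apply, Finset.sum_eq_single e]
    · simp
    · intro b _ hb
      rw [Pi.single_eq_of_ne hb]
      simp
    · intro h
      exact absurd (Finset.mem_univ e) h

theorem finrank_iSup_map [FiniteDimensional k V] (ρ : Representation k Γ V) (E : Subgroup Γ)
    [Finite E] (L : Submodule k V) (hind : iSupIndep (fun e : E => L.map (ρ (e : Γ)))) :
    finrank k ↥(⨆ e : E, L.map (ρ (e : Γ))) = Nat.card E * finrank k L := by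
  classical
  haveI := Fintype.ofFinite E
  rw [← range_indMap, LinearMap.finrank_range_of_inj (indMap_injective ρ E L hind),
    Module.finrank_pi_fintype, Finset.sum_const, Finset.card_univ, smul_eq_mul,
    Nat.card_eq_fintype_card]

theorem rho_indMap (ρ : Representation k Γ V) (E : Subgroup Γ) [Fintype E]
    (L : Submodule k V) (e' : E) (f : E → L) :
    ρ (e' : Γ) (indMap ρ E L f) = indMap ρ E L (fun e => f (e'⁻¹ * e)) := by
  rw [indMap_apply, indMap_apply, map_sum]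
  symm
  apply Fintype.sum_equiv (Equiv.mulLeft e'⁻¹)
  intro e
  simp only [Equiv.coe_mulLeft]
  rw [← Module.End.mul_apply, ← map_mul]
  congr 2
  simp

theorem fixedSpace_inf_range_indMap (ρ : Representation k Γ V) (E : Subgroup Γ) [Fintype E]
    (L : Submodule k V) (hind : iSupIndep (fun e : E => L.map (ρ (e : Γ)))) :
    fixedSpace ρ E ⊓ LinearMap.range (indMap ρ E L) =
      LinearMap.range ((indMap ρ E L) ∘ₗ
        (LinearMap.pi (fun _ => LinearMap.id) : L →ₗ[k] (E → L))) := by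
  apply le_antisymm
  · rintro w ⟨hw, f, rfl⟩
    rw [SetLike.mem_coe, mem_fixedSpace] at hw
    have hf : ∀ e : E, f e = f 1 := by
      intro e
      have h1 := hw (e : Γ) e.2
      rw [rho_indMap] at h1
      have h2 := congrFun (indMap_injective ρ E L hind h1) e
      simp only [inv_mul_cancel] at h2
      exact h2.symm
    refine ⟨f 1, ?_⟩
    rw [LinearMap.comp_apply]
    congr 1
    funext e
    simp [hf e]
  · rintro _ ⟨v, rfl⟩
    refine ⟨?_, ⟨_, rfl⟩⟩
    rw [SetLike.mem_coe, mem_fixedSpace]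
    intro g hg
    rw [LinearMap.comp_apply]
    have := rho_indMap ρ E L ⟨g, hg⟩ ((LinearMap.pi (fun _ => LinearMap.id) : L →ₗ[k] (E → L)) v)
    simp only at this
    rw [this]
    rfl

theorem finrank_fixedSpace_inf_iSup_map [FiniteDimensional k V] (ρ : Representation k Γ V)
    (E : Subgroup Γ) [Finite E] (L : Submodule k V)
    (hind : iSupIndep (fun e : E => L.map (ρ (e : Γ)))) :
    finrank k ↥(fixedSpace ρ E ⊓ ⨆ e : E, L.map (ρ (e : Γ))) = finrank k L := by
  classical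
  haveI := Fintype.ofFinite E
  rw [← range_indMap, fixedSpace_inf_range_indMap ρ E L hind]
  apply LinearMap.finrank_range_of_inj
  rw [LinearMap.coe_comp]
  apply (indMap_injective ρ E L hind).comp
  intro a b h
  have := congrFun h 1
  simpa using this

end induced

section decomp
variable {k : Type*} [Field k] {Γ : Type*} [Group Γ] {V : Type*} [AddCommGroup V] [Module k V]

/-- the subgroup of elements leaving the subspace `W` invariant -/
def stabSub (ρ : Representation k Γ V) (W : Submodule k V) : Subgroup Γ where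
  carrier := {g | (∀ v ∈ W, ρ g v ∈ W) ∧ (∀ v ∈ W, ρ g⁻¹ v ∈ W)}
  mul_mem' := by
    rintro a b ⟨ha, ha'⟩ ⟨hb, hb'⟩
    refine ⟨fun v hv => ?_, fun v hv => ?_⟩
    · rw [map_mul, Module.End.mul_apply]
      exact ha _ (hb v hv)
    · rw [mul_inv_rev, map_mul, Module.End.mul_apply]
      exact hb' _ (ha' v hv)
  one_mem' := by
    refine ⟨fun v hv => ?_, fun v hv => ?_⟩
    · rw [map_one]; exact hv
    · rw [inv_one, map_one]; exact hv
  inv_mem' := by
    rintro a ⟨ha, ha'⟩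
    refine ⟨ha', ?_⟩
    rw [inv_inv]
    exact ha

theorem mem_stabSub_of_forall (ρ : Representation k Γ V) (W : Submodule k V) (K : Subgroup Γ)
    (h : ∀ g ∈ K, ∀ v ∈ W, ρ g v ∈ W) : K ≤ stabSub ρ W := by
  intro g hg
  exact ⟨h g hg, h g⁻¹ (K.inv_mem hg)⟩

theorem invariant_of_sup_eq_top (ρ : Representation k Γ V) (W : Submodule k V) (U E : Subgroup Γ)
    (hUE : U ⊔ E = ⊤) (hU : ∀ g ∈ U, ∀ v ∈ W, ρ g v ∈ W) (hE : ∀ g ∈ E, ∀ v ∈ W, ρ g v ∈ W)
    (g : Γ) : W ≤ W.comap (ρ g) := by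
  have h1 : U ⊔ E ≤ stabSub ρ W :=
    sup_le (mem_stabSub_of_forall ρ W U hU) (mem_stabSub_of_forall ρ W E hE)
  rw [hUE] at h1
  intro v hv
  exact (h1 (Subgroup.mem_top g)).1 v hv

theorem finrank_fixedSpace_of_isCompl [FiniteDimensional k V] (ρ : Representation k Γ V)
    (E : Subgroup Γ) (W₁ W₂ : Submodule k V) (hc : IsCompl W₁ W₂)
    (h1 : ∀ e ∈ E, ∀ v ∈ W₁, ρ e v ∈ W₁) (h2 : ∀ e ∈ E, ∀ v ∈ W₂, ρ e v ∈ W₂) :
    finrank k (fixedSpace ρ E) =
      finrank k ↥(fixedSpace ρ E ⊓ W₁) + finrank k ↥(fixedSpace ρ E ⊓ W₂) := by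
  have hsup : (fixedSpace ρ E ⊓ W₁) ⊔ (fixedSpace ρ E ⊓ W₂) = fixedSpace ρ E := by
    apply le_antisymm (sup_le inf_le_left inf_le_left)
    intro v hv
    have hv' : v ∈ W₁ ⊔ W₂ := by rw [hc.sup_eq_top]; exact Submodule.mem_top
    obtain ⟨a, ha, b, hb, rfl⟩ := Submodule.mem_sup.1 hv'
    rw [mem_fixedSpace] at hv
    have key : ∀ e ∈ E, ρ e a = a ∧ ρ e b = b := by
      intro e he
      have h3 := hv e he
      rw [map_add] at h3
      have h4 : ρ e a - a = b - ρ e b := by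
        rw [sub_eq_sub_iff_add_eq_add, h3, add_comm]
      have h5 : ρ e a - a ∈ W₁ ⊓ W₂ := by
        refine ⟨W₁.sub_mem (h1 e he a ha) ha, ?_⟩
        rw [h4]
        exact W₂.sub_mem hb (h2 e he b hb)
      rw [hc.inf_eq_bot, Submodule.mem_bot] at h5
      refine ⟨sub_eq_zero.1 h5, ?_⟩
      rw [h5] at h4
      exact (sub_eq_zero.1 h4.symm).symm
    apply Submodule.add_mem_sup
    · exact ⟨fun e he => (key e he).1, ha⟩
    · exact ⟨fun e he => (key e he).2, hb⟩
  have hinf : (fixedSpace ρ E ⊓ W₁) ⊓ (fixedSpace ρ E ⊓ W₂) = ⊥ := by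
    rw [eq_bot_iff]
    calc (fixedSpace ρ E ⊓ W₁) ⊓ (fixedSpace ρ E ⊓ W₂) ≤ W₁ ⊓ W₂ :=
          inf_le_inf inf_le_right inf_le_right
      _ = ⊥ := hc.inf_eq_bot
  have h := Submodule.finrank_sup_add_finrank_inf_eq (fixedSpace ρ E ⊓ W₁) (fixedSpace ρ E ⊓ W₂)
  rw [hsup, hinf, finrank_bot, add_zero] at h
  exact h

theorem finrank_fixedSpace_subrep (ρ : Representation k Γ V) (W : Submodule k V)
    (hW : ∀ g, W ≤ W.comap (ρ g)) (K : Subgroup Γ) :
    finrank k (fixedSpace (ρ.subrepresentation W hW) K) = finrank k ↥(fixedSpace ρ K ⊓ W) := by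
  have h1 : (fixedSpace (ρ.subrepresentation W hW) K).map W.subtype = fixedSpace ρ K ⊓ W := by
    ext v
    constructor
    · rintro ⟨w, hw, rfl⟩
      refine ⟨fun g hg => ?_, w.2⟩
      have := hw g hg
      have h2 := congrArg Subtype.val this
      simpa using h2
    · rintro ⟨hv, hvW⟩
      refine ⟨⟨v, hvW⟩, fun g hg => ?_, rfl⟩
      apply Subtype.ext
      simpa using hv g hg
  rw [← h1]
  exact (LinearEquiv.finrank_eq (Submodule.equivMapOfInjective W.subtype W.injective_subtype _))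

theorem fixedSpace_subrep_eq_bot (ρ : Representation k Γ V) (W : Submodule k V)
    (hW : ∀ g, W ≤ W.comap (ρ g)) (K : Subgroup Γ) (h : fixedSpace ρ K = ⊥) :
    fixedSpace (ρ.subrepresentation W hW) K = ⊥ := by
  rw [eq_bot_iff]
  intro w hw
  rw [Submodule.mem_bot]
  apply Subtype.ext
  have h1 : (w : V) ∈ fixedSpace ρ K := by
    intro g hg
    have h2 := congrArg Subtype.val (hw g hg)
    simpa using h2
  rw [h, Submodule.mem_bot] at h1
  exact h1

end decomp

section peel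
variable {k : Type*} [Field k] {Γ : Type*} [Group Γ] {V : Type*} [AddCommGroup V] [Module k V]

theorem exists_char_ne_one (ρ : Representation k Γ V) (Z : Subgroup Γ)
    (hsup : ⨆ χ : Z → k, jointEig ρ Z χ = ⊤) (z₀ : Z) (hz₀ : ρ (z₀ : Γ) ≠ 1) :
    ∃ χ₀ : Z → k, jointEig ρ Z χ₀ ≠ ⊥ ∧ χ₀ z₀ ≠ 1 := by
  by_contra hcon
  push Not at hcon
  apply hz₀
  apply LinearMap.ext
  intro v
  have hv : v ∈ ⨆ χ : Z → k, jointEig ρ Z χ := by rw [hsup]; exact Submodule.mem_top
  refine Submodule.iSup_induction (fun χ : Z → k => jointEig ρ Z χ)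
    (motive := fun v => ρ (z₀ : Γ) v = (1 : V →ₗ[k] V) v) hv ?_ ?_ ?_
  · intro χ x hx
    by_cases hx0 : x = 0
    · rw [hx0, map_zero, map_zero]
    · have hne : jointEig ρ Z χ ≠ ⊥ := by
        intro h
        rw [h, Submodule.mem_bot] at hx
        exact hx0 hx
      have h1 := hcon χ hne
      rw [mem_jointEig] at hx
      rw [hx z₀, h1, one_smul, Module.End.one_apply]
  · rw [map_zero, map_zero]
  · intro x y hx hy
    rw [map_add, map_add, hx, hy]

theorem orbit_injective (ρ : Representation k Γ V) (Z : Subgroup Γ) [hZ : Z.Normal] [Finite Z]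
    (E : Subgroup Γ) (hfree : ∀ e ∈ E, e ≠ 1 → ∀ z ∈ Z, e * z = z * e → z = 1)
    (χ₀ : Z → k) (hne : jointEig ρ Z χ₀ ≠ ⊥) (z₀ : Z) (hz₀ : χ₀ z₀ ≠ 1) :
    Function.Injective (fun e : E => conjChar Z (e : Γ) χ₀) := by
  intro e e' h
  simp only at h
  obtain ⟨v, hv, hv0⟩ := Submodule.exists_mem_ne_zero_of_ne_bot hne
  have h1 : conjChar Z ((e' : Γ)⁻¹ * e) χ₀ = χ₀ := by
    rw [conjChar_mul, h, ← conjChar_mul, inv_mul_cancel, conjChar_one]
  by_contra hee
  have h2 : (e' : Γ)⁻¹ * e ≠ 1 := by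
    intro h3
    apply hee
    apply Subtype.ext
    have : (e : Γ) = e' := by
      calc (e : Γ) = e' * ((e' : Γ)⁻¹ * e) := by group
        _ = e' := by rw [h3, mul_one]
    exact this
  have h4 := char_eq_one_of_fixed ρ Z ((e' : Γ)⁻¹ * e)
    (hfree _ (E.mul_mem (E.inv_mem e'.2) e.2) h2) χ₀ h1 v hv hv0 z₀
  exact hz₀ h4

theorem biSup_invariant (ρ : Representation k Γ V) (Z : Subgroup Γ) (S : Set (Z → k))
    (T : V →ₗ[k] V) (π : (Z → k) → (Z → k)) (hπ : ∀ χ ∈ S, π χ ∈ S)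
    (hT : ∀ χ ∈ S, (jointEig ρ Z χ).map T ≤ jointEig ρ Z (π χ)) :
    ∀ v ∈ ⨆ χ ∈ S, jointEig ρ Z χ, T v ∈ ⨆ χ ∈ S, jointEig ρ Z χ := by
  intro v hv
  have h : (⨆ χ ∈ S, jointEig ρ Z χ).map T ≤ ⨆ χ ∈ S, jointEig ρ Z χ := by
    rw [Submodule.map_iSup]
    apply iSup_le
    intro χ
    rw [Submodule.map_iSup]
    apply iSup_le
    intro hχ
    exact (hT χ hχ).trans (le_biSup (fun χ => jointEig ρ Z χ) (hπ χ hχ))
  exact h ⟨v, hv, rfl⟩

end peel

section main
variable {k : Type*} [Field k] [IsAlgClosed k] {Γ : Type*} [Group Γ]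

theorem exists_peel (U E : Subgroup Γ) [hUn : U.Normal] [Finite U] [Finite E]
    (hnil : Group.IsNilpotent U) (hchar : (Nat.card U : k) ≠ 0)
    (hfree : ∀ e ∈ E, e ≠ 1 → ∀ u ∈ U, e * u = u * e → u = 1)
    {V : Type*} [AddCommGroup V] [Module k V] [FiniteDimensional k V]
    (ρ : Representation k Γ V) (hex : ∃ u ∈ U, ρ u ≠ 1) :
    ∃ (L W₂ : Submodule k V), L ≠ ⊥ ∧ (∀ g ∈ U, ∀ v ∈ L, ρ g v ∈ L) ∧
      iSupIndep (fun e : E => L.map (ρ (e : Γ))) ∧
      IsCompl (⨆ e : E, L.map (ρ (e : Γ))) W₂ ∧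
      (∀ g ∈ U, ∀ v ∈ W₂, ρ g v ∈ W₂) ∧ (∀ g ∈ E, ∀ v ∈ W₂, ρ g v ∈ W₂) ∧
      (∀ g ∈ E, ∀ v ∈ ⨆ e : E, L.map (ρ (e : Γ)), ρ g v ∈ ⨆ e : E, L.map (ρ (e : Γ))) := by
  obtain ⟨z₀, hz₀Z, hz₀⟩ := exists_cenSub_ne_one ρ U hnil hex
  have hZU : cenSub ρ U ≤ U := cenSub_le ρ U
  haveI : Finite (cenSub ρ U) :=
    Finite.of_injective (Subgroup.inclusion hZU) (Subgroup.inclusion_injective hZU)
  have hm : ∀ z : cenSub ρ U, ρ (z : Γ) ^ Nat.card U = 1 := by
    intro z
    rw [← map_pow]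
    have h1 : ((z : Γ)) ^ Nat.card U = 1 := by
      have h2 := pow_card_eq_one' (G := U) (x := ⟨z, hZU z.2⟩)
      exact congrArg Subtype.val h2
    rw [h1, map_one]
  have hcomm : ∀ z w : cenSub ρ U, Commute (ρ (z : Γ)) (ρ (w : Γ)) :=
    fun z w => z.2.2 w (hZU w.2)
  have hsup := iSup_jointEig ρ (cenSub ρ U) (Nat.card U) hchar hm hcomm
  have hindep := indep_jointEig ρ (cenSub ρ U) (Nat.card U) hchar hm hcomm
  obtain ⟨χ₀, hne, hχ₀⟩ := exists_char_ne_one ρ (cenSub ρ U) hsup ⟨z₀, hz₀Z⟩ hz₀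
  have hinj := orbit_injective ρ (cenSub ρ U) E
    (fun e he he1 z hz => hfree e he he1 z (hZU hz)) χ₀ hne ⟨z₀, hz₀Z⟩ hχ₀
  let Z := cenSub ρ U
  let L := jointEig ρ Z χ₀
  let o : E → (Z → k) := fun e => conjChar Z (e : Γ) χ₀
  have hLmap : ∀ e : E, L.map (ρ (e : Γ)) = jointEig ρ Z (o e) :=
    fun e => map_jointEig ρ Z e χ₀
  have hind : iSupIndep (fun e : E => L.map (ρ (e : Γ))) := by
    have h1 := hindep.comp hinj
    have h2 : (fun e : E => L.map (ρ (e : Γ))) = jointEig ρ Z ∘ o := by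
      funext e
      exact hLmap e
    rw [h2]
    exact h1
  let W₁ := ⨆ χ ∈ Set.range o, jointEig ρ Z χ
  let W₂ := ⨆ χ ∈ (Set.range o)ᶜ, jointEig ρ Z χ
  have hW₁eq : (⨆ e : E, L.map (ρ (e : Γ))) = W₁ := by
    show _ = ⨆ χ ∈ Set.range o, jointEig ρ Z χ
    rw [iSup_range]
    exact iSup_congr hLmap
  have hdisj : Disjoint W₁ W₂ := hindep.disjoint_biSup_biSup disjoint_compl_right
  have hcod : Codisjoint W₁ W₂ := by
    rw [codisjoint_iff, eq_top_iff, ← hsup]
    apply iSup_le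
    intro χ
    by_cases hχ : χ ∈ Set.range o
    · exact le_sup_of_le_left (le_biSup (fun χ => jointEig ρ Z χ) hχ)
    · exact le_sup_of_le_right (le_biSup (fun χ => jointEig ρ Z χ) (Set.mem_compl hχ))
  have hc : IsCompl W₁ W₂ := ⟨hdisj, hcod⟩
  have hUinv : ∀ g ∈ U, ∀ χ : Z → k, (jointEig ρ Z χ).map (ρ g) ≤ jointEig ρ Z (id χ) := by
    intro g hg χ
    exact map_jointEig_le_of_commute ρ Z (ρ g) (fun z => (z.2.2 g hg).symm) χ
  have hU₂ : ∀ g ∈ U, ∀ v ∈ W₂, ρ g v ∈ W₂ := fun g hg =>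
    biSup_invariant ρ Z (Set.range o)ᶜ (ρ g) id (fun χ hχ => hχ) (fun χ _ => hUinv g hg χ)
  have hE₁ : ∀ g ∈ E, ∀ v ∈ W₁, ρ g v ∈ W₁ := fun g hg =>
    biSup_invariant ρ Z (Set.range o) (ρ g) (conjChar Z g)
      (by
        rintro _ ⟨e, rfl⟩
        refine ⟨⟨g, hg⟩ * e, ?_⟩
        show conjChar Z (g * (e : Γ)) χ₀ = _
        rw [conjChar_mul])
      (fun χ _ => map_jointEig_le ρ Z g χ)
  have hE₂ : ∀ g ∈ E, ∀ v ∈ W₂, ρ g v ∈ W₂ := fun g hg =>
    biSup_invariant ρ Z (Set.range o)ᶜ (ρ g) (conjChar Z g)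
      (by
        rintro χ hχ ⟨e, he⟩
        apply hχ
        refine ⟨⟨g, hg⟩⁻¹ * e, ?_⟩
        show conjChar Z (g⁻¹ * (e : Γ)) χ₀ = _
        rw [conjChar_mul]
        have he' : conjChar Z (e : Γ) χ₀ = conjChar Z g χ := he
        rw [he', ← conjChar_mul, inv_mul_cancel, conjChar_one])
      (fun χ _ => map_jointEig_le ρ Z g χ)
  refine ⟨L, W₂, hne, ?_, hind, ?_, hU₂, hE₂, ?_⟩
  · intro g hg v hv
    exact hUinv g hg χ₀ ⟨v, hv, rfl⟩
  · rw [hW₁eq]
    exact hc
  · rw [hW₁eq]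
    exact hE₁

theorem finrank_eq_card_mul (U E : Subgroup Γ) [hUn : U.Normal] [Finite U] [Finite E]
    (hUE : U ⊔ E = ⊤) (hnil : Group.IsNilpotent U) (hchar : (Nat.card U : k) ≠ 0)
    (hfree : ∀ e ∈ E, e ≠ 1 → ∀ u ∈ U, e * u = u * e → u = 1)
    {V : Type*} [AddCommGroup V] [Module k V] [FiniteDimensional k V]
    (ρ : Representation k Γ V) (h0 : fixedSpace ρ U = ⊥) :
    finrank k V = Nat.card E * finrank k (fixedSpace ρ E) := by
  induction' hd : finrank k V using Nat.strong_induction_on with d ih generalizing V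
  by_cases hex : ∃ u ∈ U, ρ u ≠ 1
  swap
  · push Not at hex
    have htop : fixedSpace ρ U = ⊤ := by
      rw [eq_top_iff]
      intro v _ g hg
      rw [hex g hg]
      rfl
    rw [h0] at htop
    have hsub : Subsingleton V :=
      (Submodule.subsingleton_iff k).1 (subsingleton_of_bot_eq_top htop)
    rw [finrank_zero_of_subsingleton] at hd
    rw [← hd, finrank_zero_of_subsingleton, mul_zero]
  · obtain ⟨L, W₂, hne, hUL, hind, hc, hU₂, hE₂, hE₁⟩ :=
      exists_peel U E hnil hchar hfree ρ hex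
    have hinv₂ : ∀ g, W₂ ≤ W₂.comap (ρ g) := invariant_of_sup_eq_top ρ W₂ U E hUE hU₂ hE₂
    have h0₂ := fixedSpace_subrep_eq_bot ρ W₂ hinv₂ U h0
    have hdim : finrank k ↥(⨆ e : E, L.map (ρ (e : Γ))) + finrank k W₂ = finrank k V :=
      Submodule.finrank_add_eq_of_isCompl hc
    have hW₁dim : finrank k ↥(⨆ e : E, L.map (ρ (e : Γ))) = Nat.card E * finrank k L :=
      finrank_iSup_map ρ E L hind
    have hLpos : 0 < finrank k L := by
      apply Nat.pos_of_ne_zero
      intro h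
      exact hne (Submodule.finrank_eq_zero.1 h)
    have hEpos : 0 < Nat.card E := Nat.card_pos
    have hlt : finrank k W₂ < d := by
      rw [← hd, ← hdim, hW₁dim]
      exact Nat.lt_add_of_pos_left (Nat.mul_pos hEpos hLpos)
    have ih₂ := ih (finrank k W₂) hlt (ρ.subrepresentation W₂ hinv₂) h0₂ rfl
    rw [finrank_fixedSpace_subrep] at ih₂
    have hF := finrank_fixedSpace_of_isCompl ρ E _ W₂ hc hE₁ hE₂
    have hF₁ : finrank k ↥(fixedSpace ρ E ⊓ ⨆ e : E, L.map (ρ (e : Γ))) = finrank k L :=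
      finrank_fixedSpace_inf_iSup_map ρ E L hind
    rw [← hd, ← hdim, hW₁dim, ih₂, hF, hF₁, mul_add]

/-- if `C_V(U) = 0` and `C_V(E)` is a line, then `U` acts through a commutative group -/
theorem commute_of_finrank_fixedSpace_eq_one (U E : Subgroup Γ) [hUn : U.Normal] [Finite U]
    [Finite E] (hUE : U ⊔ E = ⊤) (hnil : Group.IsNilpotent U) (hchar : (Nat.card U : k) ≠ 0)
    (hfree : ∀ e ∈ E, e ≠ 1 → ∀ u ∈ U, e * u = u * e → u = 1)
    {V : Type*} [AddCommGroup V] [Module k V] [FiniteDimensional k V]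
    (ρ : Representation k Γ V) (h0 : fixedSpace ρ U = ⊥)
    (h1 : finrank k (fixedSpace ρ E) = 1) (u u' : Γ) (hu : u ∈ U) (hu' : u' ∈ U) :
    ρ u * ρ u' = ρ u' * ρ u := by
  have hV : finrank k V = Nat.card E := by
    rw [finrank_eq_card_mul U E hUE hnil hchar hfree ρ h0, h1, mul_one]
  by_cases hex : ∃ u ∈ U, ρ u ≠ 1
  swap
  · push Not at hex
    rw [hex u hu, hex u' hu']
  · obtain ⟨L, W₂, hne, hUL, hind, hc, hU₂, hE₂, hE₁⟩ :=
      exists_peel U E hnil hchar hfree ρ hex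
    have hW₁dim : finrank k ↥(⨆ e : E, L.map (ρ (e : Γ))) = Nat.card E * finrank k L :=
      finrank_iSup_map ρ E L hind
    have hLpos : 0 < finrank k L := by
      apply Nat.pos_of_ne_zero
      intro h
      exact hne (Submodule.finrank_eq_zero.1 h)
    have hEpos : 0 < Nat.card E := Nat.card_pos
    have hle : finrank k ↥(⨆ e : E, L.map (ρ (e : Γ))) ≤ finrank k V := Submodule.finrank_le _
    rw [hW₁dim, hV] at hle
    have hL1 : finrank k L = 1 := by
      have h2 : finrank k L ≤ 1 := by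
        by_contra h3
        push Not at h3
        have : Nat.card E * 2 ≤ Nat.card E * finrank k L := Nat.mul_le_mul_left _ h3
        omega
      omega
    have htop : (⨆ e : E, L.map (ρ (e : Γ))) = ⊤ := by
      apply Submodule.eq_top_of_finrank_eq
      rw [hW₁dim, hL1, mul_one, hV]
    obtain ⟨⟨v₀, hv₀L⟩, hv₀, hgen⟩ := finrank_eq_one_iff'.1 hL1
    -- every element of `U` acts on `L` by a scalar
    have hscal : ∀ g ∈ U, ∃ c : k, ∀ w ∈ L, ρ g w = c • w := by
      intro g hg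
      obtain ⟨c, hc⟩ := hgen ⟨ρ g v₀, hUL g hg v₀ hv₀L⟩
      have hc' : c • v₀ = ρ g v₀ := congrArg Subtype.val hc
      refine ⟨c, fun w hw => ?_⟩
      obtain ⟨d, hd⟩ := hgen ⟨w, hw⟩
      have hd' : d • v₀ = w := congrArg Subtype.val hd
      rw [← hd', map_smul, ← hc', smul_comm]
    apply LinearMap.ext
    intro v
    have hv : v ∈ ⨆ e : E, L.map (ρ (e : Γ)) := by rw [htop]; exact Submodule.mem_top
    refine Submodule.iSup_induction (fun e : E => L.map (ρ (e : Γ)))
      (motive := fun v => (ρ u * ρ u') v = (ρ u' * ρ u) v) hv ?_ ?_ ?_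
    · rintro e _ ⟨w, hw, rfl⟩
      -- conjugates of `u`, `u'` by `e`
      have hcu : (e : Γ)⁻¹ * u * e ∈ U := by
        have := hUn.conj_mem u hu (e : Γ)⁻¹
        simpa using this
      have hcu' : (e : Γ)⁻¹ * u' * e ∈ U := by
        have := hUn.conj_mem u' hu' (e : Γ)⁻¹
        simpa using this
      obtain ⟨a, ha⟩ := hscal _ hcu
      obtain ⟨b, hb⟩ := hscal _ hcu'
      have key : ∀ (x : Γ) (y : V), ρ x (ρ (e : Γ) y) = ρ (e : Γ) (ρ ((e : Γ)⁻¹ * x * e) y) := by
        intro x y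
        rw [← Module.End.mul_apply, ← Module.End.mul_apply, ← map_mul, ← map_mul]
        congr 2
        group
      have e1 : ρ u (ρ (e : Γ) w) = a • ρ (e : Γ) w := by rw [key u w, ha w hw, map_smul]
      have e2 : ρ u' (ρ (e : Γ) w) = b • ρ (e : Γ) w := by rw [key u' w, hb w hw, map_smul]
      rw [Module.End.mul_apply, Module.End.mul_apply, e2, map_smul, e1, map_smul, e2,
        smul_comm]
    · simp
    · intro x y hx hy
      rw [map_add, map_add, hx, hy]

end main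
section general
variable {k : Type*} [Field k] {Γ : Type*} [Group Γ] {V : Type*} [AddCommGroup V] [Module k V]

/-- the sum of the operators of `A` -/
noncomputable def sumOp (ρ : Representation k Γ V) (A : Subgroup Γ) [Fintype A] : V →ₗ[k] V :=
  ∑ g : A, ρ (g : Γ)

theorem sumOp_apply (ρ : Representation k Γ V) (A : Subgroup Γ) [Fintype A] (v : V) :
    sumOp ρ A v = ∑ g : A, ρ (g : Γ) v := by
  simp [sumOp, LinearMap.sum_apply]

theorem rho_sumOp (ρ : Representation k Γ V) (A : Subgroup Γ) [Fintype A] (g : Γ) (hg : g ∈ A)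
    (v : V) : ρ g (sumOp ρ A v) = sumOp ρ A v := by
  rw [sumOp_apply, map_sum]
  apply Fintype.sum_equiv (Equiv.mulLeft (⟨g, hg⟩ : A))
  intro a
  rw [← Module.End.mul_apply, ← map_mul]
  rfl

theorem sumOp_of_mem (ρ : Representation k Γ V) (A : Subgroup Γ) [Fintype A] (v : V)
    (hv : v ∈ fixedSpace ρ A) : sumOp ρ A v = (Nat.card A : k) • v := by
  rw [sumOp_apply]
  have h1 : ∀ g ∈ (Finset.univ : Finset A), ρ (g : Γ) v = v := fun g _ => hv (g : Γ) g.2
  rw [Finset.sum_congr rfl h1, Finset.sum_const, Finset.card_univ,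
    Nat.card_eq_fintype_card, Nat.cast_smul_eq_nsmul]

theorem fixedSpace_eq_ker (ρ : Representation k Γ V) (A : Subgroup Γ) [Fintype A]
    (h : (Nat.card A : k) ≠ 0) :
    fixedSpace ρ A = LinearMap.ker (sumOp ρ A - (Nat.card A : k) • (1 : V →ₗ[k] V)) := by
  ext v
  rw [LinearMap.mem_ker, LinearMap.sub_apply, LinearMap.smul_apply, Module.End.one_apply,
    sub_eq_zero]
  constructor
  · intro hv
    exact sumOp_of_mem ρ A v hv
  · intro hv g hg
    have h1 : v = (Nat.card A : k)⁻¹ • sumOp ρ A v := by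
      rw [hv, smul_smul, inv_mul_cancel₀ h, one_smul]
    rw [h1, map_smul, rho_sumOp ρ A g hg]

theorem rho_conj_apply (ρ : Representation k Γ V) (g x : Γ) (v : V) :
    ρ x (ρ g v) = ρ g (ρ (g⁻¹ * x * g) v) := by
  rw [← Module.End.mul_apply, ← Module.End.mul_apply, ← map_mul, ← map_mul]
  congr 2
  group

theorem fixedSpace_invariant (ρ : Representation k Γ V) (U : Subgroup Γ) [hU : U.Normal] (g : Γ) :
    fixedSpace ρ U ≤ (fixedSpace ρ U).comap (ρ g) := by
  intro v hv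
  rw [Submodule.mem_comap]
  intro u hu
  rw [rho_conj_apply]
  have h1 : g⁻¹ * u * g ∈ U := by
    have := hU.conj_mem u hu g⁻¹
    simpa using this
  rw [hv _ h1]

theorem sumOp_rho (ρ : Representation k Γ V) (U : Subgroup Γ) [hU : U.Normal] [Fintype U] (g : Γ)
    (v : V) : sumOp ρ U (ρ g v) = ρ g (sumOp ρ U v) := by
  rw [sumOp_apply, sumOp_apply, map_sum]
  apply Fintype.sum_equiv (MulAut.conjNormal g⁻¹ : U ≃* U).toEquiv
  intro u
  rw [rho_conj_apply]
  congr 2
  simp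

theorem ker_sumOp_invariant (ρ : Representation k Γ V) (U : Subgroup Γ) [hU : U.Normal]
    [Fintype U] (g : Γ) :
    LinearMap.ker (sumOp ρ U) ≤ (LinearMap.ker (sumOp ρ U)).comap (ρ g) := by
  intro v hv
  rw [Submodule.mem_comap, LinearMap.mem_ker, sumOp_rho, LinearMap.mem_ker.1 hv, map_zero]

theorem isCompl_fixedSpace_ker_sumOp (ρ : Representation k Γ V) (U : Subgroup Γ) [Fintype U]
    (h : (Nat.card U : k) ≠ 0) : IsCompl (fixedSpace ρ U) (LinearMap.ker (sumOp ρ U)) := by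
  constructor
  · rw [disjoint_iff, eq_bot_iff]
    rintro v ⟨hv1, hv2⟩
    have h1 := sumOp_of_mem ρ U v hv1
    rw [LinearMap.mem_ker.1 hv2] at h1
    rcases smul_eq_zero.1 h1.symm with h2 | h2
    · exact absurd h2 h
    · exact h2
  · rw [codisjoint_iff, eq_top_iff]
    intro v _
    have h1 : (Nat.card U : k)⁻¹ • sumOp ρ U v ∈ fixedSpace ρ U := by
      intro g hg
      rw [map_smul, rho_sumOp ρ U g hg]
    have h2 : v - (Nat.card U : k)⁻¹ • sumOp ρ U v ∈ LinearMap.ker (sumOp ρ U) := by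
      rw [LinearMap.mem_ker, map_sub, sumOp_of_mem ρ U _ h1, smul_smul, mul_inv_cancel₀ h,
        one_smul, sub_self]
    have h3 : v = (Nat.card U : k)⁻¹ • sumOp ρ U v + (v - (Nat.card U : k)⁻¹ • sumOp ρ U v) := by
      abel
    rw [h3]
    exact Submodule.add_mem_sup h1 h2

theorem fixedSpace_top_eq (ρ : Representation k Γ V) (U E : Subgroup Γ) (hUE : U ⊔ E = ⊤) :
    fixedSpace ρ ⊤ = fixedSpace ρ E ⊓ fixedSpace ρ U := by
  apply le_antisymm
  · intro v hv
    exact ⟨fun g _ => hv g (Subgroup.mem_top g), fun g _ => hv g (Subgroup.mem_top g)⟩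
  · rintro v ⟨hvE, hvU⟩ g _
    let S : Subgroup Γ :=
      { carrier := {g | ρ g v = v}
        mul_mem' := by
          intro a b ha hb
          show ρ (a * b) v = v
          rw [map_mul, Module.End.mul_apply, hb, ha]
        one_mem' := by
          show ρ 1 v = v
          rw [map_one, Module.End.one_apply]
        inv_mem' := by
          intro a ha
          show ρ a⁻¹ v = v
          have : ρ a⁻¹ (ρ a v) = v := rho_inv_apply ρ a v
          rwa [ha] at this }
    have h1 : U ⊔ E ≤ S := sup_le (fun u hu => hvU u hu) (fun e he => hvE e he)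
    rw [hUE] at h1
    exact h1 (Subgroup.mem_top g)

end general

section general2
variable {k : Type*} [Field k] [IsAlgClosed k] {Γ : Type*} [Group Γ]

/-- the fixed point formula for a Frobenius group acting on a vector space -/
theorem finrank_formula (U E : Subgroup Γ) [hUn : U.Normal] [Finite U] [Finite E]
    (hUE : U ⊔ E = ⊤) (hnil : Group.IsNilpotent U) (hchar : (Nat.card U : k) ≠ 0)
    (hfree : ∀ e ∈ E, e ≠ 1 → ∀ u ∈ U, e * u = u * e → u = 1)
    {V : Type*} [AddCommGroup V] [Module k V] [FiniteDimensional k V]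
    (ρ : Representation k Γ V) :
    Nat.card E * finrank k (fixedSpace ρ ⊤) + finrank k V =
      Nat.card E * finrank k (fixedSpace ρ E) + finrank k (fixedSpace ρ U) := by
  classical
  haveI := Fintype.ofFinite U
  have hc := isCompl_fixedSpace_ker_sumOp ρ U hchar
  have hinvW := ker_sumOp_invariant ρ U
  have hinv0 := fixedSpace_invariant ρ U
  have h0W : fixedSpace (ρ.subrepresentation _ hinvW) U = ⊥ := by
    rw [eq_bot_iff]
    intro w hw
    rw [Submodule.mem_bot]
    apply Subtype.ext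
    have h1 : (w : V) ∈ fixedSpace ρ U ⊓ LinearMap.ker (sumOp ρ U) := by
      refine ⟨fun g hg => ?_, w.2⟩
      have h2 := congrArg Subtype.val (hw g hg)
      simpa using h2
    rw [hc.inf_eq_bot, Submodule.mem_bot] at h1
    exact h1
  have hW := finrank_eq_card_mul U E hUE hnil hchar hfree (ρ.subrepresentation _ hinvW) h0W
  rw [finrank_fixedSpace_subrep] at hW
  have hF := finrank_fixedSpace_of_isCompl ρ E _ _ hc (fun e _ v hv => hinv0 e hv)
    (fun e _ v hv => hinvW e hv)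
  have hdim := Submodule.finrank_add_eq_of_isCompl hc
  rw [fixedSpace_top_eq ρ U E hUE, ← hdim, hW, hF]
  ring

end general2

section basechange
variable {F K : Type*} [Field F] [Field K] [Algebra F K] {Γ : Type*} [Group Γ]
  {V : Type*} [AddCommGroup V] [Module F V]

/-- extension of scalars of a representation -/
noncomputable def extRep (K : Type*) [Field K] [Algebra F K] (ρ₀ : Representation F Γ V) :
    Representation K Γ (K ⊗[F] V) :=
  (Module.End.baseChangeHom F K V).toMonoidHom.comp ρ₀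

theorem extRep_apply (ρ₀ : Representation F Γ V) (g : Γ) :
    extRep K ρ₀ g = (ρ₀ g).baseChange K := rfl

theorem fixedSpace_eq_ker' {k : Type*} [Field k] {W : Type*} [AddCommGroup W] [Module k W]
    (ρ : Representation k Γ W) (A : Subgroup Γ) [Fintype A]
    (h : (Nat.card A : k) ≠ 0) :
    fixedSpace ρ A = LinearMap.ker (sumOp ρ A - ((Nat.card A : ℕ) : Module.End k W)) := by
  rw [fixedSpace_eq_ker ρ A h, Nat.cast_smul_eq_nsmul, nsmul_one]

theorem finrank_fixedSpace_extRep [FiniteDimensional F V] (ρ₀ : Representation F Γ V)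
    (A : Subgroup Γ) [Finite A] (h : (Nat.card A : F) ≠ 0) :
    finrank K (fixedSpace (extRep K ρ₀) A) = finrank F (fixedSpace ρ₀ A) := by
  classical
  haveI := Fintype.ofFinite A
  have hK : (Nat.card A : K) ≠ 0 := by
    intro h0
    apply h
    apply (algebraMap F K).injective
    rw [map_natCast, h0, map_zero]
  rw [fixedSpace_eq_ker' (extRep K ρ₀) A hK, fixedSpace_eq_ker' ρ₀ A h]
  have h1 : sumOp (extRep K ρ₀) A - ((Nat.card A : ℕ) : Module.End K (K ⊗[F] V)) =
      (sumOp ρ₀ A - ((Nat.card A : ℕ) : Module.End F V)).baseChange K := by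
    have h2 : ∀ T : Module.End F V, T.baseChange K = Module.End.baseChangeHom F K V T :=
      fun T => rfl
    rw [h2, map_sub, map_natCast]
    congr 1
    unfold sumOp
    rw [map_sum]
    rfl
  rw [h1]
  have h3 : (sumOp ρ₀ A - ((Nat.card A : ℕ) : Module.End F V)).baseChange K =
      AlgebraTensorModule.lTensor K K (sumOp ρ₀ A - ((Nat.card A : ℕ) : Module.End F V)) := rfl
  rw [h3]
  rw [← (LinearMap.tensorKerEquiv K K
    (sumOp ρ₀ A - ((Nat.card A : ℕ) : Module.End F V))).finrank_eq]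
  exact Module.finrank_baseChange

end basechange

section zmod
variable {p : ℕ} [hp : Fact p.Prime] {Γ : Type*} [Group Γ] [Finite Γ]
  {V : Type*} [AddCommGroup V] [Module (ZMod p) V] [Finite V]

theorem natCast_card_ne_zero (hcop : ¬ p ∣ Nat.card Γ) (A : Subgroup Γ) :
    (Nat.card A : ZMod p) ≠ 0 := by
  intro h
  rw [ZMod.natCast_eq_zero_iff] at h
  exact hcop (h.trans (Subgroup.card_subgroup_dvd_card A))

theorem card_fixedSpace (ρ₀ : Representation (ZMod p) Γ V) (A : Subgroup Γ) :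
    Nat.card (fixedSpace ρ₀ A) = p ^ finrank (ZMod p) (fixedSpace ρ₀ A) := by
  haveI : Module.Finite (ZMod p) V := Module.Finite.of_finite
  rw [Module.natCard_eq_pow_finrank (K := ZMod p), Nat.card_zmod]

/-- the fixed point formula for a Frobenius group acting on an elementary abelian group -/
theorem card_formula (U E : Subgroup Γ) [hUn : U.Normal] (hUE : U ⊔ E = ⊤)
    (hnil : Group.IsNilpotent U) (hcop : ¬ p ∣ Nat.card Γ)
    (hfree : ∀ e ∈ E, e ≠ 1 → ∀ u ∈ U, e * u = u * e → u = 1)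
    (ρ₀ : Representation (ZMod p) Γ V) :
    Nat.card (fixedSpace ρ₀ ⊤) ^ Nat.card E * Nat.card V =
      Nat.card (fixedSpace ρ₀ E) ^ Nat.card E * Nat.card (fixedSpace ρ₀ U) := by
  haveI : Module.Finite (ZMod p) V := Module.Finite.of_finite
  have hchar : (Nat.card U : AlgebraicClosure (ZMod p)) ≠ 0 := by
    intro h0
    apply natCast_card_ne_zero hcop U
    apply (algebraMap (ZMod p) (AlgebraicClosure (ZMod p))).injective
    rw [map_natCast, h0, map_zero]
  have h := finrank_formula U E hUE hnil hchar hfree (extRep (AlgebraicClosure (ZMod p)) ρ₀)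
  rw [finrank_fixedSpace_extRep ρ₀ ⊤ (natCast_card_ne_zero hcop _),
    finrank_fixedSpace_extRep ρ₀ E (natCast_card_ne_zero hcop _),
    finrank_fixedSpace_extRep ρ₀ U (natCast_card_ne_zero hcop _),
    Module.finrank_baseChange] at h
  rw [card_fixedSpace, card_fixedSpace, card_fixedSpace,
    Module.natCard_eq_pow_finrank (K := ZMod p) (V := V), Nat.card_zmod,
    ← pow_mul, ← pow_mul, ← pow_add, ← pow_add]
  congr 1
  rw [mul_comm _ (Nat.card E), mul_comm _ (Nat.card E)]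
  exact h

/-- if `C_V(U) = 0` and `|C_V(E)| = p` then `U` acts through a commutative group -/
theorem commute_of_card_fixedSpace (U E : Subgroup Γ) [hUn : U.Normal] (hUE : U ⊔ E = ⊤)
    (hnil : Group.IsNilpotent U) (hcop : ¬ p ∣ Nat.card Γ)
    (hfree : ∀ e ∈ E, e ≠ 1 → ∀ u ∈ U, e * u = u * e → u = 1)
    (ρ₀ : Representation (ZMod p) Γ V) (h0 : fixedSpace ρ₀ U = ⊥)
    (h1 : Nat.card (fixedSpace ρ₀ E) = p) (u u' : Γ) (hu : u ∈ U) (hu' : u' ∈ U) :
    ρ₀ u * ρ₀ u' = ρ₀ u' * ρ₀ u := by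
  haveI : Module.Finite (ZMod p) V := Module.Finite.of_finite
  have hchar : (Nat.card U : AlgebraicClosure (ZMod p)) ≠ 0 := by
    intro h0
    apply natCast_card_ne_zero hcop U
    apply (algebraMap (ZMod p) (AlgebraicClosure (ZMod p))).injective
    rw [map_natCast, h0, map_zero]
  have h0' : fixedSpace (extRep (AlgebraicClosure (ZMod p)) ρ₀) U = ⊥ := by
    apply Submodule.finrank_eq_zero.1
    rw [finrank_fixedSpace_extRep ρ₀ U (natCast_card_ne_zero hcop _), h0, finrank_bot]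
  have h1' : finrank (AlgebraicClosure (ZMod p))
      (fixedSpace (extRep (AlgebraicClosure (ZMod p)) ρ₀) E) = 1 := by
    rw [finrank_fixedSpace_extRep ρ₀ E (natCast_card_ne_zero hcop _)]
    have h2 := card_fixedSpace ρ₀ E
    rw [h1] at h2
    have h3 : p ^ 1 = p ^ finrank (ZMod p) (fixedSpace ρ₀ E) := by rw [pow_one]; exact h2
    exact (Nat.pow_right_injective hp.out.two_le h3).symm
  have h := commute_of_finrank_fixedSpace_eq_one U E hUE hnil hchar hfree
    (extRep (AlgebraicClosure (ZMod p)) ρ₀) h0' h1' u u' hu hu'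
  rw [extRep_apply, extRep_apply, ← LinearMap.baseChange_mul, ← LinearMap.baseChange_mul] at h
  exact LinearMap.baseChangeHom_injective (R := ZMod p) (S := AlgebraicClosure (ZMod p))
    (M := V) (N := V) h

end zmod

section general3
variable {k : Type*} [Field k] [IsAlgClosed k] {Γ : Type*} [Group Γ]

/-- if `C_V(E)` is a line, then `U` acts through a commutative group -/
theorem commute_of_finrank_fixedSpace_eq_one' (U E : Subgroup Γ) [hUn : U.Normal] [Finite U]
    [Finite E] (hUE : U ⊔ E = ⊤) (hnil : Group.IsNilpotent U) (hchar : (Nat.card U : k) ≠ 0)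
    (hfree : ∀ e ∈ E, e ≠ 1 → ∀ u ∈ U, e * u = u * e → u = 1)
    {V : Type*} [AddCommGroup V] [Module k V] [FiniteDimensional k V]
    (ρ : Representation k Γ V)
    (h1 : finrank k (fixedSpace ρ E) = 1) (u u' : Γ) (hu : u ∈ U) (hu' : u' ∈ U) :
    ρ u * ρ u' = ρ u' * ρ u := by
  classical
  haveI := Fintype.ofFinite U
  have hc := isCompl_fixedSpace_ker_sumOp ρ U hchar
  have hinvW := ker_sumOp_invariant ρ U
  have hinv0 := fixedSpace_invariant ρ U
  have h0W : fixedSpace (ρ.subrepresentation _ hinvW) U = ⊥ := by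
    rw [eq_bot_iff]
    intro w hw
    rw [Submodule.mem_bot]
    apply Subtype.ext
    have h1 : (w : V) ∈ fixedSpace ρ U ⊓ LinearMap.ker (sumOp ρ U) := by
      refine ⟨fun g hg => ?_, w.2⟩
      have h2 := congrArg Subtype.val (hw g hg)
      simpa using h2
    rw [hc.inf_eq_bot, Submodule.mem_bot] at h1
    exact h1
  have hW := finrank_eq_card_mul U E hUE hnil hchar hfree (ρ.subrepresentation _ hinvW) h0W
  have hF := finrank_fixedSpace_of_isCompl ρ E _ _ hc (fun e _ v hv => hinv0 e hv)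
    (fun e _ v hv => hinvW e hv)
  rw [h1] at hF
  -- commutation on `W`
  have hcommW : ∀ w ∈ LinearMap.ker (sumOp ρ U), ρ u (ρ u' w) = ρ u' (ρ u w) := by
    intro w hw
    by_cases hcase : finrank k (fixedSpace (ρ.subrepresentation _ hinvW) E) = 1
    · have h2 := commute_of_finrank_fixedSpace_eq_one U E hUE hnil hchar hfree
        (ρ.subrepresentation _ hinvW) h0W hcase u u' hu hu'
      have h3 := congrArg (fun T : Module.End k (LinearMap.ker (sumOp ρ U)) =>
        ((T ⟨w, hw⟩ : LinearMap.ker (sumOp ρ U)) : V)) h2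
      simpa using h3
    · have h2 : finrank k (fixedSpace (ρ.subrepresentation _ hinvW) E) = 0 := by
        rw [finrank_fixedSpace_subrep] at hcase ⊢
        omega
      rw [h2, mul_zero] at hW
      have h3 : LinearMap.ker (sumOp ρ U) = ⊥ := Submodule.finrank_eq_zero.1 hW
      rw [h3, Submodule.mem_bot] at hw
      rw [hw, map_zero, map_zero, map_zero]
  apply LinearMap.ext
  intro v
  have hv : v ∈ fixedSpace ρ U ⊔ LinearMap.ker (sumOp ρ U) := by
    rw [hc.sup_eq_top]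
    exact Submodule.mem_top
  obtain ⟨a, ha, b, hb, rfl⟩ := Submodule.mem_sup.1 hv
  rw [Module.End.mul_apply, Module.End.mul_apply, map_add, map_add, map_add, map_add,
    hcommW b hb, ha u hu, ha u' hu', ha u hu]

end general3

section zmod2
variable {p : ℕ} [hp : Fact p.Prime] {Γ : Type*} [Group Γ] [Finite Γ]
  {V : Type*} [AddCommGroup V] [Module (ZMod p) V] [Finite V]

/-- if `|C_V(E)| = p` then `U` acts through a commutative group -/
theorem commute_of_card_fixedSpace' (U E : Subgroup Γ) [hUn : U.Normal] (hUE : U ⊔ E = ⊤)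
    (hnil : Group.IsNilpotent U) (hcop : ¬ p ∣ Nat.card Γ)
    (hfree : ∀ e ∈ E, e ≠ 1 → ∀ u ∈ U, e * u = u * e → u = 1)
    (ρ₀ : Representation (ZMod p) Γ V)
    (h1 : Nat.card (fixedSpace ρ₀ E) = p) (u u' : Γ) (hu : u ∈ U) (hu' : u' ∈ U) :
    ρ₀ u * ρ₀ u' = ρ₀ u' * ρ₀ u := by
  haveI : Module.Finite (ZMod p) V := Module.Finite.of_finite
  have hchar : (Nat.card U : AlgebraicClosure (ZMod p)) ≠ 0 := by
    intro h0
    apply natCast_card_ne_zero hcop U
    apply (algebraMap (ZMod p) (AlgebraicClosure (ZMod p))).injective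
    rw [map_natCast, h0, map_zero]
  have h1' : finrank (AlgebraicClosure (ZMod p))
      (fixedSpace (extRep (AlgebraicClosure (ZMod p)) ρ₀) E) = 1 := by
    rw [finrank_fixedSpace_extRep ρ₀ E (natCast_card_ne_zero hcop _)]
    have h2 := card_fixedSpace ρ₀ E
    rw [h1] at h2
    have h3 : p ^ 1 = p ^ finrank (ZMod p) (fixedSpace ρ₀ E) := by rw [pow_one]; exact h2
    exact (Nat.pow_right_injective hp.out.two_le h3).symm
  have h := commute_of_finrank_fixedSpace_eq_one' U E hUE hnil hchar hfree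
    (extRep (AlgebraicClosure (ZMod p)) ρ₀) h1' u u' hu hu'
  rw [extRep_apply, extRep_apply, ← LinearMap.baseChange_mul, ← LinearMap.baseChange_mul] at h
  exact LinearMap.baseChangeHom_injective (R := ZMod p) (S := AlgebraicClosure (ZMod p))
    (M := V) (N := V) h

end zmod2

end Cfsg.Agent.Lib.Helper52_FrobLA
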