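import Mathlib

set_option autoImplicit false
set_option linter.style.haveILetI false

/-!
From the conjugation action of a group `H` on an elementary abelian normal `p`-subgroup `N`
of order `p ^ e` to a homomorphism `H →* GL (Fin e) (ZMod p)` whose kernel is the
centralizer of `N`.
-/

namespace Cfsg.Agent.Lib.Helper58_GLHom

/-- A representation on a finite `ZMod p`-vector space of order `p ^ e` gives a
homomorphism to `GL (Fin e) (ZMod p)` with the same kernel. -/
theorem exists_GL_of_module (p : ℕ) [Fact p.Prime] {H : Type*} [Group H] (V : Type*)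
    [AddCommGroup V] [Module (ZMod p) V] [Finite V] (e : ℕ) (hcard : Nat.card V = p ^ e)
    (ρ : H →* (V →ₗ[ZMod p] V)ˣ) :
    ∃ φ : H →* GL (Fin e) (ZMod p), φ.ker = ρ.ker := by
  classical
  have hfin : Module.finrank (ZMod p) V = e := by
    have h1 := Module.natCard_eq_pow_finrank (K := ZMod p) (V := V)
    rw [hcard, Nat.card_zmod] at h1
    exact (Nat.pow_right_injective (Fact.out : p.Prime).two_le h1).symm
  let b : Module.Basis (Fin e) (ZMod p) V := Module.finBasisOfFinrankEq (ZMod p) V hfin
  let Ψ : (V →ₗ[ZMod p] V)ˣ →* GL (Fin e) (ZMod p) :=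
    Units.map ((LinearMap.toMatrixAlgEquiv b : (V →ₗ[ZMod p] V) ≃ₐ[ZMod p] _) :
      (V →ₗ[ZMod p] V) →* Matrix (Fin e) (Fin e) (ZMod p))
  have hΨ : Function.Injective Ψ := Units.map_injective (LinearMap.toMatrixAlgEquiv b).injective
  refine ⟨Ψ.comp ρ, ?_⟩
  ext h
  rw [MonoidHom.mem_ker, MonoidHom.mem_ker]
  constructor
  · intro hh
    have h1 : Ψ (ρ h) = Ψ 1 := by
      rw [map_one]; exact hh
    exact hΨ h1
  · intro hh
    show Ψ (ρ h) = 1
    rw [hh, map_one]

/-- Automorphisms of a commutative group whose additive version is a `ZMod p`-module are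
linear. -/
noncomputable def mulAutToLin (p : ℕ) (N : Type*) [CommGroup N] [Module (ZMod p) (Additive N)] :
    MulAut N →* (Additive N →ₗ[ZMod p] Additive N)ˣ where
  toFun f :=
    ⟨(MonoidHom.toAdditive (f : N ≃* N).toMonoidHom).toZModLinearMap p,
      (MonoidHom.toAdditive (f.symm : N ≃* N).toMonoidHom).toZModLinearMap p,
      by ext v; simp, by ext v; simp⟩
  map_one' := by ext v; rfl
  map_mul' := by intro f g; ext v; rfl

theorem mulAutToLin_apply (p : ℕ) (N : Type*) [CommGroup N] [Module (ZMod p) (Additive N)]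
    (f : MulAut N) (v : Additive N) :
    ((mulAutToLin p N f : (Additive N →ₗ[ZMod p] Additive N)ˣ) :
      Additive N →ₗ[ZMod p] Additive N) v = Additive.ofMul (f v.toMul) := rfl

/-- An action by automorphisms on a finite commutative group of order `p ^ e` whose additive
version is a `ZMod p`-module gives a homomorphism to `GL (Fin e) (ZMod p)` with the same
kernel. -/
theorem exists_GL_of_commGroup (p e : ℕ) [Fact p.Prime] {H : Type*} [Group H] (N : Type*)
    [CommGroup N] [Finite N] [Module (ZMod p) (Additive N)] (hcard : Nat.card N = p ^ e)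
    (c : H →* MulAut N) :
    ∃ φ : H →* GL (Fin e) (ZMod p), ∀ h, h ∈ φ.ker ↔ ∀ n : N, c h n = n := by
  haveI : Finite (Additive N) := inferInstanceAs (Finite N)
  have hcard' : Nat.card (Additive N) = p ^ e := hcard
  obtain ⟨φ, hφ⟩ := exists_GL_of_module p (Additive N) e hcard' ((mulAutToLin p N).comp c)
  refine ⟨φ, fun h => ?_⟩
  rw [hφ, MonoidHom.mem_ker]
  constructor
  · intro hh n
    have h1 := congrArg (fun u : (Additive N →ₗ[ZMod p] Additive N)ˣ =>
      (u : Additive N →ₗ[ZMod p] Additive N) (Additive.ofMul n)) hh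
    simp only [MonoidHom.comp_apply, mulAutToLin_apply, Units.val_one,
      Module.End.one_apply, toMul_ofMul] at h1
    exact congrArg Additive.toMul h1
  · intro hh
    apply Units.ext
    apply LinearMap.ext
    intro v
    rw [MonoidHom.comp_apply, mulAutToLin_apply, Units.val_one, Module.End.one_apply,
      hh (Additive.toMul v)]
    rfl

/-- The conjugation action on an elementary abelian normal subgroup of order `p ^ e`, as a
homomorphism to `GL (Fin e) (ZMod p)`; its kernel is the centralizer. -/
theorem exists_GL_of_normal {H : Type*} [Group H] (N : Subgroup H) [N.Normal] [Finite N]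
    (hc : ∀ a ∈ N, ∀ b ∈ N, a * b = b * a) (p e : ℕ) [Fact p.Prime]
    (hexp : ∀ x ∈ N, x ^ p = 1) (hcard : Nat.card N = p ^ e) :
    ∃ φ : H →* GL (Fin e) (ZMod p), ∀ h, h ∈ φ.ker ↔ ∀ n ∈ N, h * n = n * h := by
  let inst1 : CommGroup N :=
    { (inferInstance : Group N) with mul_comm := fun a b => Subtype.ext (hc a a.2 b b.2) }
  let inst2 : Module (ZMod p) (Additive N) := AddCommGroup.zmodModule (n := p) (by
    intro x
    have h1 : (Additive.toMul x) ^ p = 1 := by
      apply Subtype.ext
      have := hexp _ (Additive.toMul x).2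
      simpa using this
    have h2 : Additive.ofMul ((Additive.toMul x) ^ p) = 0 := by rw [h1]; rfl
    rw [ofMul_pow] at h2
    exact h2)
  obtain ⟨φ, hφ⟩ := @exists_GL_of_commGroup p e _ H _ N inst1 _ inst2 hcard
    (MulAut.conjNormal (H := N))
  refine ⟨φ, fun h => ?_⟩
  rw [hφ]
  constructor
  · intro hh n hn
    have h2 := congrArg (fun v : N => (v : H)) (hh ⟨n, hn⟩)
    simp only [MulAut.conjNormal_apply] at h2
    calc h * n = (h * n * h⁻¹) * h := by group
      _ = n * h := by rw [h2]
  · intro hh n
    apply Subtype.ext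
    rw [MulAut.conjNormal_apply, hh _ n.2]
    group

end Cfsg.Agent.Lib.Helper58_GLHom
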