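import Mathlib
import Cfsg.Agent.Lib.Helper52_FrobLA
import Cfsg.Agent.Lib.Helper58_GLHom
import Cfsg.Agent.S0022

set_option autoImplicit false
set_option linter.unusedSectionVars false
set_option linter.unusedVariables false
set_option linter.style.haveILetI false

/-! Frobenius groups acting coprimely on groups: the fixed point formula on elementary abelian
sections, in abstract form and for sections `M / N` of an ambient group. -/

namespace Cfsg.Agent.Lib.Helper52_FrobAct
open Cfsg.Agent.Lib.Helper52_FrobLA Cfsg.Agent.Lib.Helper58_GLHom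
open scoped commutatorElement

section abstract
variable {Γ : Type*} [Group Γ] {Q : Type*} [Group Q]

/-- the fixed points of the subgroup `A` under the action `a` -/
def fixedPts (a : Γ →* MulAut Q) (A : Subgroup Γ) : Subgroup Q where
  carrier := {q | ∀ g ∈ A, a g q = q}
  mul_mem' := by
    intro x y hx hy g hg
    rw [map_mul, hx g hg, hy g hg]
  one_mem' := by
    intro g _
    exact map_one _
  inv_mem' := by
    intro x hx g hg
    rw [map_inv, hx g hg]

theorem mem_fixedPts (a : Γ →* MulAut Q) (A : Subgroup Γ) (q : Q) :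
    q ∈ fixedPts a A ↔ ∀ g ∈ A, a g q = q := Iff.rfl

/-- the representation over `ZMod p` given by an action on an abelian group of exponent `p` -/
noncomputable def actRep (p : ℕ) {Q : Type*} [CommGroup Q] [Module (ZMod p) (Additive Q)]
    (a : Γ →* MulAut Q) : Representation (ZMod p) Γ (Additive Q) :=
  (Units.coeHom (Module.End (ZMod p) (Additive Q))).comp ((mulAutToLin p Q).comp a)

theorem actRep_apply (p : ℕ) {Q : Type*} [CommGroup Q] [Module (ZMod p) (Additive Q)]
    (a : Γ →* MulAut Q) (g : Γ) (v : Additive Q) :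
    actRep p a g v = Additive.ofMul (a g v.toMul) := rfl

theorem card_fixedSpace_actRep (p : ℕ) [Fact p.Prime] {Q : Type*} [CommGroup Q] [Module (ZMod p) (Additive Q)]
    (a : Γ →* MulAut Q) (A : Subgroup Γ) :
    Nat.card (fixedSpace (actRep p a) A) = Nat.card (fixedPts a A) := by
  apply Nat.card_congr
  refine Equiv.subtypeEquiv Additive.toMul (fun v => ?_)
  constructor
  · intro hv g hg
    have := hv g hg
    rw [actRep_apply] at this
    exact congrArg Additive.toMul this
  · intro hv g hg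
    rw [actRep_apply]
    have h3 : a g (Additive.toMul v) = Additive.toMul v := hv g hg
    rw [h3]
    rfl

variable {p : ℕ} [hp : Fact p.Prime] [Finite Γ] [Finite Q]

/-- the fixed point formula for a Frobenius group acting on an elementary abelian group -/
theorem card_formula_action (hcomm : ∀ x y : Q, x * y = y * x) (hexp : ∀ q : Q, q ^ p = 1)
    (U E : Subgroup Γ) [hUn : U.Normal] (hUE : U ⊔ E = ⊤)
    (hnil : Group.IsNilpotent U) (hcop : ¬ p ∣ Nat.card Γ)
    (hfree : ∀ e ∈ E, e ≠ 1 → ∀ u ∈ U, e * u = u * e → u = 1)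
    (a : Γ →* MulAut Q) :
    Nat.card (fixedPts a ⊤) ^ Nat.card E * Nat.card Q =
      Nat.card (fixedPts a E) ^ Nat.card E * Nat.card (fixedPts a U) := by
  letI inst1 : CommGroup Q := { (inferInstance : Group Q) with mul_comm := hcomm }
  letI inst2 : Module (ZMod p) (Additive Q) := AddCommGroup.zmodModule (n := p) (by
    intro x
    have h2 : Additive.ofMul ((Additive.toMul x) ^ p) = 0 := by rw [hexp]; rfl
    rw [ofMul_pow] at h2
    exact h2)
  haveI : Finite (Additive Q) := inferInstanceAs (Finite Q)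
  have h := card_formula (p := p) U E hUE hnil hcop hfree (actRep p a)
  rw [card_fixedSpace_actRep, card_fixedSpace_actRep, card_fixedSpace_actRep] at h
  exact h

/-- if `|C_Q(E)| = p` then `U` acts on `Q` through a commutative group -/
theorem commute_action (hcomm : ∀ x y : Q, x * y = y * x) (hexp : ∀ q : Q, q ^ p = 1)
    (U E : Subgroup Γ) [hUn : U.Normal] (hUE : U ⊔ E = ⊤)
    (hnil : Group.IsNilpotent U) (hcop : ¬ p ∣ Nat.card Γ)
    (hfree : ∀ e ∈ E, e ≠ 1 → ∀ u ∈ U, e * u = u * e → u = 1)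
    (a : Γ →* MulAut Q) (h1 : Nat.card (fixedPts a E) = p) (u u' : Γ) (hu : u ∈ U)
    (hu' : u' ∈ U) (q : Q) : a u (a u' q) = a u' (a u q) := by
  letI inst1 : CommGroup Q := { (inferInstance : Group Q) with mul_comm := hcomm }
  letI inst2 : Module (ZMod p) (Additive Q) := AddCommGroup.zmodModule (n := p) (by
    intro x
    have h2 : Additive.ofMul ((Additive.toMul x) ^ p) = 0 := by rw [hexp]; rfl
    rw [ofMul_pow] at h2
    exact h2)
  haveI : Finite (Additive Q) := inferInstanceAs (Finite Q)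
  have h1' := (card_fixedSpace_actRep p a E).trans h1
  have h := commute_of_card_fixedSpace' (p := p) U E hUE hnil hcop hfree (actRep p a) h1'
    u u' hu hu'
  have h2 := LinearMap.congr_fun h (Additive.ofMul q)
  simp only [Module.End.mul_apply, actRep_apply] at h2
  exact congrArg Additive.toMul h2

end abstract

section ambient
variable {X : Type*} [Group X]

/-- conjugation action of `G ≤ N(M)` on `M` -/
def conjAut (G M : Subgroup X) (hGM : G ≤ Subgroup.normalizer (M : Set X)) : ↥G →* MulAut ↥M where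
  toFun h :=
    { toFun := fun v => ⟨h * v * (h : X)⁻¹, ((Subgroup.mem_normalizer_iff.1 (hGM h.2)) v).1 v.2⟩
      invFun := fun v => ⟨(h : X)⁻¹ * v * h, by
        apply ((Subgroup.mem_normalizer_iff.1 (hGM h.2)) ((h : X)⁻¹ * v * h)).2
        have : (h : X) * ((h : X)⁻¹ * v * h) * (h : X)⁻¹ = v := by group
        rw [this]; exact v.2⟩
      left_inv := fun v => Subtype.ext (by
        show (h : X)⁻¹ * ((h : X) * v * (h : X)⁻¹) * h = v
        group)
      right_inv := fun v => Subtype.ext (by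
        show (h : X) * ((h : X)⁻¹ * v * h) * (h : X)⁻¹ = v
        group)
      map_mul' := fun v w => Subtype.ext (by
        show (h : X) * ((v : X) * w) * (h : X)⁻¹ =
          ((h : X) * v * (h : X)⁻¹) * ((h : X) * w * (h : X)⁻¹)
        group) }
  map_one' := by
    ext v
    show ((1 : G) : X) * v * ((1 : G) : X)⁻¹ = v
    simp
  map_mul' h k := by
    ext v
    show ((h * k : G) : X) * v * ((h * k : G) : X)⁻¹ =
      (h : X) * ((k : X) * v * (k : X)⁻¹) * (h : X)⁻¹
    rw [Subgroup.coe_mul]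
    group

theorem conjAut_apply (G M : Subgroup X) (hGM : G ≤ Subgroup.normalizer (M : Set X))
    (h : G) (v : M) : ((conjAut G M hGM h v : M) : X) = h * v * (h : X)⁻¹ := rfl

theorem map_conjAut (G M N : Subgroup X) (hGM : G ≤ Subgroup.normalizer (M : Set X))
    (hGN : G ≤ Subgroup.normalizer (N : Set X)) (g : G) :
    (N.subgroupOf M).map ((conjAut G M hGM g : ↥M ≃* ↥M) : ↥M →* ↥M) = N.subgroupOf M := by
  ext x
  rw [Subgroup.mem_map]
  constructor
  · rintro ⟨y, hy, rfl⟩
    rw [Subgroup.mem_subgroupOf] at hy ⊢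
    exact ((Subgroup.mem_normalizer_iff.1 (hGN g.2)) y).1 hy
  · intro hx
    refine ⟨(conjAut G M hGM g).symm x, ?_, ?_⟩
    · rw [Subgroup.mem_subgroupOf] at hx ⊢
      apply ((Subgroup.mem_normalizer_iff.1 (hGN g.2)) _).2
      have : (g : X) * (((conjAut G M hGM g).symm x : M) : X) * (g : X)⁻¹ = x := by
        have h1 : ((conjAut G M hGM g).symm x : M) = ⟨(g : X)⁻¹ * x * g, _⟩ := rfl
        rw [h1]
        show (g : X) * ((g : X)⁻¹ * x * g) * (g : X)⁻¹ = x
        group
      rw [this]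
      exact hx
    · exact (conjAut G M hGM g).apply_symm_apply x

/-- the action of `G` on the section `M / N` -/
noncomputable def secAct (G M N : Subgroup X) (hGM : G ≤ Subgroup.normalizer (M : Set X))
    (hGN : G ≤ Subgroup.normalizer (N : Set X)) [hn : (N.subgroupOf M).Normal] :
    ↥G →* MulAut (↥M ⧸ N.subgroupOf M) where
  toFun g := QuotientGroup.congr (N.subgroupOf M) (N.subgroupOf M) (conjAut G M hGM g)
    (map_conjAut G M N hGM hGN g)
  map_one' := by
    ext x
    induction x using QuotientGroup.induction_on with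
    | H m =>
      rw [QuotientGroup.congr_mk, map_one]
      rfl
  map_mul' g h := by
    ext x
    induction x using QuotientGroup.induction_on with
    | H m =>
      rw [QuotientGroup.congr_mk, map_mul]
      rfl

theorem secAct_mk (G M N : Subgroup X) (hGM : G ≤ Subgroup.normalizer (M : Set X))
    (hGN : G ≤ Subgroup.normalizer (N : Set X)) [hn : (N.subgroupOf M).Normal] (g : G) (m : M) :
    secAct G M N hGM hGN g (QuotientGroup.mk m) = QuotientGroup.mk (conjAut G M hGM g m) := rfl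

theorem card_fixedPts_secAct [Finite X] (G M N A : Subgroup X)
    (hGM : G ≤ Subgroup.normalizer (M : Set X)) (hGN : G ≤ Subgroup.normalizer (N : Set X))
    (hNM : N ≤ M) [hn : (N.subgroupOf M).Normal] (hAG : A ≤ G)
    (hcop : (Nat.card A).Coprime (Nat.card M))
    (hsolv : Group.IsSolvable A ∨ Group.IsSolvable M) :
    Nat.card (fixedPts (secAct G M N hGM hGN) (A.subgroupOf G)) *
      Nat.card ↥(N ⊓ Subgroup.centralizer (A : Set X)) =
      Nat.card ↥(M ⊓ Subgroup.centralizer (A : Set X)) := by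
  have hMN : M ≤ Subgroup.normalizer (N : Set X) := Subgroup.le_normalizer_of_normal_subgroupOf hNM
  let ψ : ↥(M ⊓ Subgroup.centralizer (A : Set X)) →* (↥M ⧸ N.subgroupOf M) :=
    (QuotientGroup.mk' (N.subgroupOf M)).comp (Subgroup.inclusion inf_le_left)
  have hψ : ∀ c : ↥(M ⊓ Subgroup.centralizer (A : Set X)),
      ψ c = QuotientGroup.mk (⟨c.1, c.2.1⟩ : M) := fun c => rfl
  have hrange : ψ.range = fixedPts (secAct G M N hGM hGN) (A.subgroupOf G) := by
    ext q
    constructor
    · rintro ⟨c, rfl⟩ g hg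
      rw [hψ, secAct_mk]
      congr 1
      apply Subtype.ext
      rw [conjAut_apply]
      have h1 := (Subgroup.mem_centralizer_iff.1 c.2.2) (g : X) hg
      show (g : X) * (c : X) * (g : X)⁻¹ = c
      rw [h1]
      group
    · intro hq
      induction q using QuotientGroup.induction_on with
      | H m =>
        have hfix : ∀ a ∈ A, a * (m : X) * a⁻¹ * (m : X)⁻¹ ∈ N := by
          intro a ha
          have h1 := hq ⟨a, hAG ha⟩ (by rw [Subgroup.mem_subgroupOf]; exact ha)
          rw [secAct_mk] at h1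
          have h2 := (QuotientGroup.eq.1 h1.symm)
          rw [Subgroup.mem_subgroupOf] at h2
          have h3 : (m : X)⁻¹ * (a * (m : X) * a⁻¹) ∈ N := h2
          have h4 := ((Subgroup.mem_normalizer_iff.1 (hMN m.2)) _).1 h3
          have h5 : (m : X) * ((m : X)⁻¹ * (a * (m : X) * a⁻¹)) * (m : X)⁻¹ =
              a * (m : X) * a⁻¹ * (m : X)⁻¹ := by group
          rw [h5] at h4
          exact h4
        obtain ⟨c, hc, hc'⟩ := Cfsg.Agent.S0022.result A M (hAG.trans hGM) hcop hsolv N hNM hMN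
          (hAG.trans hGN) (m : X) m.2 hfix
        refine ⟨⟨c, hc⟩, ?_⟩
        rw [hψ]
        symm
        apply QuotientGroup.eq.2
        rw [Subgroup.mem_subgroupOf]
        exact hc'
  have hker : Nat.card ψ.ker = Nat.card ↥(N ⊓ Subgroup.centralizer (A : Set X)) := by
    apply Nat.card_congr
    refine
      { toFun := fun x => ⟨(x : ↥(M ⊓ Subgroup.centralizer (A : Set X))).1, ?_, x.1.2.2⟩
        invFun := fun y => ⟨⟨y.1, hNM y.2.1, y.2.2⟩, ?_⟩
        left_inv := fun x => rfl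
        right_inv := fun y => rfl }
    · have h1 := x.2
      rw [MonoidHom.mem_ker, hψ, QuotientGroup.eq_one_iff, Subgroup.mem_subgroupOf] at h1
      exact h1
    · rw [MonoidHom.mem_ker, hψ, QuotientGroup.eq_one_iff, Subgroup.mem_subgroupOf]
      exact y.2.1
  rw [← hrange, ← hker, Subgroup.card_eq_card_quotient_mul_card_subgroup ψ.ker,
    Nat.card_congr (QuotientGroup.quotientKerEquivRange ψ).toEquiv]

end ambient

section transport
variable {X : Type*} [Group X]

theorem le_normalizer_of_conj (U E : Subgroup X) (hUn : ∀ e ∈ E, ∀ u ∈ U, e * u * e⁻¹ ∈ U) :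
    U ⊔ E ≤ Subgroup.normalizer (U : Set X) := by
  apply sup_le Subgroup.le_normalizer
  intro e he
  rw [Subgroup.mem_normalizer_iff]
  intro u
  constructor
  · exact hUn e he u
  · intro h
    have h1 := hUn e⁻¹ (E.inv_mem he) _ h
    have h2 : e⁻¹ * (e * u * e⁻¹) * e⁻¹⁻¹ = u := by group
    rw [h2] at h1
    exact h1

theorem frob_transport (U E : Subgroup X) (hUn : ∀ e ∈ E, ∀ u ∈ U, e * u * e⁻¹ ∈ U)
    (hfpf : ∀ e ∈ E, e ≠ 1 → ∀ u ∈ U, e * u = u * e → u = 1) (hnil : Group.IsNilpotent U) :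
    (U.subgroupOf (U ⊔ E)).Normal ∧ U.subgroupOf (U ⊔ E) ⊔ E.subgroupOf (U ⊔ E) = ⊤ ∧
      Group.IsNilpotent (U.subgroupOf (U ⊔ E)) ∧
      (∀ e ∈ E.subgroupOf (U ⊔ E), e ≠ 1 → ∀ u ∈ U.subgroupOf (U ⊔ E), e * u = u * e → u = 1) ∧
      Nat.card (E.subgroupOf (U ⊔ E)) = Nat.card E := by
  refine ⟨?_, ?_, ?_, ?_, ?_⟩
  · exact (Subgroup.normal_subgroupOf_iff_le_normalizer le_sup_left).2
      (le_normalizer_of_conj U E hUn)
  · rw [← Subgroup.subgroupOf_sup le_sup_left le_sup_right, Subgroup.subgroupOf_self]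
  · haveI := hnil
    exact Group.nilpotent_of_mulEquiv (Subgroup.subgroupOfEquivOfLe (le_sup_left : U ≤ U ⊔ E)).symm
  · intro e he he1 u hu h
    rw [Subgroup.mem_subgroupOf] at he hu
    have h1 : (e : X) ≠ 1 := fun h2 => he1 (Subtype.ext h2)
    have h3 : (e : X) * (u : X) = (u : X) * (e : X) := by
      have := congrArg Subtype.val h
      simpa using this
    exact Subtype.ext (hfpf _ he h1 _ hu h3)
  · exact Nat.card_congr (Subgroup.subgroupOfEquivOfLe (le_sup_right : E ≤ U ⊔ E)).toEquiv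

end transport

section abstract2
variable {Γ : Type*} [Group Γ] {Q : Type*} [Group Q]
variable {p : ℕ} [hp : Fact p.Prime] [Finite Γ] [Finite Q]

/-- if `|C_Q(E)| = p` then the derived group of `U` acts trivially on `Q` -/
theorem commutator_le_ker (hcomm : ∀ x y : Q, x * y = y * x) (hexp : ∀ q : Q, q ^ p = 1)
    (U E : Subgroup Γ) [hUn : U.Normal] (hUE : U ⊔ E = ⊤)
    (hnil : Group.IsNilpotent U) (hcop : ¬ p ∣ Nat.card Γ)
    (hfree : ∀ e ∈ E, e ≠ 1 → ∀ u ∈ U, e * u = u * e → u = 1)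
    (a : Γ →* MulAut Q) (h1 : Nat.card (fixedPts a E) = p) : ⁅U, U⁆ ≤ a.ker := by
  rw [Subgroup.commutator_le]
  intro u hu u' hu'
  rw [MonoidHom.mem_ker, commutatorElement_def, map_mul, map_mul, map_mul, map_inv, map_inv]
  have h2 : a u * a u' = a u' * a u := by
    ext q
    exact commute_action hcomm hexp U E hUE hnil hcop hfree a h1 u u' hu hu' q
  rw [h2]
  group

end abstract2

section sectionThm
variable {X : Type*} [Group X] [Finite X]

theorem section_setup (p : ℕ) (M N : Subgroup X) (hNM : N ≤ M)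
    [hn : (N.subgroupOf M).Normal] (hcommQ : ⁅M, M⁆ ≤ N) (hexpQ : ∀ m ∈ M, m ^ p ∈ N) :
    (∀ x y : ↥M ⧸ N.subgroupOf M, x * y = y * x) ∧ (∀ q : ↥M ⧸ N.subgroupOf M, q ^ p = 1) ∧
      Nat.card (↥M ⧸ N.subgroupOf M) * Nat.card N = Nat.card M := by
  refine ⟨?_, ?_, ?_⟩
  · intro x y
    induction x using QuotientGroup.induction_on with
    | H m =>
      induction y using QuotientGroup.induction_on with
      | H m' =>
        rw [← QuotientGroup.mk_mul, ← QuotientGroup.mk_mul]
        apply QuotientGroup.eq.2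
        rw [Subgroup.mem_subgroupOf]
        have h1 : ⁅(m' : X)⁻¹, (m : X)⁻¹⁆ ∈ ⁅M, M⁆ :=
          Subgroup.commutator_mem_commutator (M.inv_mem m'.2) (M.inv_mem m.2)
        have h2 : ((((m * m')⁻¹ * (m' * m) : M)) : X) = ⁅(m' : X)⁻¹, (m : X)⁻¹⁆ := by
          rw [commutatorElement_def]
          simp only [Subgroup.coe_mul, Subgroup.coe_inv]
          group
        rw [h2]
        exact hcommQ h1
  · intro q
    induction q using QuotientGroup.induction_on with
    | H m =>
      rw [← QuotientGroup.mk_pow]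
      apply (QuotientGroup.eq_one_iff _).2
      rw [Subgroup.mem_subgroupOf, Subgroup.coe_pow]
      exact hexpQ _ m.2
  · rw [Subgroup.card_eq_card_quotient_mul_card_subgroup (N.subgroupOf M),
      Nat.card_congr (Subgroup.subgroupOfEquivOfLe hNM).toEquiv]

theorem section_formula (p : ℕ) [Fact p.Prime] (U E M N : Subgroup X)
    (hUn : ∀ e ∈ E, ∀ u ∈ U, e * u * e⁻¹ ∈ U)
    (hfpf : ∀ e ∈ E, e ≠ 1 → ∀ u ∈ U, e * u = u * e → u = 1) (hnil : Group.IsNilpotent U)
    (hGM : U ⊔ E ≤ Subgroup.normalizer (M : Set X))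
    (hGN : U ⊔ E ≤ Subgroup.normalizer (N : Set X))
    (hNM : N ≤ M) (hMN : M ≤ Subgroup.normalizer (N : Set X))
    (hcommQ : ⁅M, M⁆ ≤ N) (hexpQ : ∀ m ∈ M, m ^ p ∈ N)
    (hp : ¬ p ∣ Nat.card ↥(U ⊔ E))
    (hcop : (Nat.card ↥(U ⊔ E)).Coprime (Nat.card M)) (hsolv : Group.IsSolvable M) :
    ∃ fG fE fU q : ℕ, fG ^ Nat.card E * q = fE ^ Nat.card E * fU ∧
      fG * Nat.card ↥(N ⊓ Subgroup.centralizer ((U ⊔ E : Subgroup X) : Set X)) =
        Nat.card ↥(M ⊓ Subgroup.centralizer ((U ⊔ E : Subgroup X) : Set X)) ∧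
      fE * Nat.card ↥(N ⊓ Subgroup.centralizer (E : Set X)) =
        Nat.card ↥(M ⊓ Subgroup.centralizer (E : Set X)) ∧
      fU * Nat.card ↥(N ⊓ Subgroup.centralizer (U : Set X)) =
        Nat.card ↥(M ⊓ Subgroup.centralizer (U : Set X)) ∧
      q * Nat.card N = Nat.card M := by
  haveI hn : (N.subgroupOf M).Normal := (Subgroup.normal_subgroupOf_iff_le_normalizer hNM).2 hMN
  obtain ⟨hU'n, hsup, hnil', hfree', hcardE⟩ := frob_transport U E hUn hfpf hnil
  obtain ⟨hcomm, hexp, hq⟩ := section_setup p M N hNM hcommQ hexpQ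
  haveI := hU'n
  have key := card_formula_action (p := p) hcomm hexp (U.subgroupOf (U ⊔ E))
    (E.subgroupOf (U ⊔ E)) hsup hnil' hp hfree' (secAct (U ⊔ E) M N hGM hGN)
  rw [hcardE] at key
  have hG := card_fixedPts_secAct (U ⊔ E) M N (U ⊔ E) hGM hGN hNM le_rfl hcop (Or.inr hsolv)
  rw [Subgroup.subgroupOf_self] at hG
  have hE := card_fixedPts_secAct (U ⊔ E) M N E hGM hGN hNM le_sup_right
    (Nat.Coprime.coprime_dvd_left (Subgroup.card_dvd_of_le le_sup_right) hcop) (Or.inr hsolv)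
  have hU := card_fixedPts_secAct (U ⊔ E) M N U hGM hGN hNM le_sup_left
    (Nat.Coprime.coprime_dvd_left (Subgroup.card_dvd_of_le le_sup_left) hcop) (Or.inr hsolv)
  exact ⟨_, _, _, _, key, hG, hE, hU, hq⟩

theorem section_commute (p : ℕ) [Fact p.Prime] (U E M N : Subgroup X)
    (hUn : ∀ e ∈ E, ∀ u ∈ U, e * u * e⁻¹ ∈ U)
    (hfpf : ∀ e ∈ E, e ≠ 1 → ∀ u ∈ U, e * u = u * e → u = 1) (hnil : Group.IsNilpotent U)
    (hGM : U ⊔ E ≤ Subgroup.normalizer (M : Set X))
    (hGN : U ⊔ E ≤ Subgroup.normalizer (N : Set X))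
    (hNM : N ≤ M) (hMN : M ≤ Subgroup.normalizer (N : Set X))
    (hcommQ : ⁅M, M⁆ ≤ N) (hexpQ : ∀ m ∈ M, m ^ p ∈ N)
    (hp : ¬ p ∣ Nat.card ↥(U ⊔ E))
    (hcop : (Nat.card ↥(U ⊔ E)).Coprime (Nat.card M)) (hsolv : Group.IsSolvable M)
    (h1 : Nat.card ↥(M ⊓ Subgroup.centralizer (E : Set X)) =
      p * Nat.card ↥(N ⊓ Subgroup.centralizer (E : Set X))) :
    ∀ x ∈ ⁅U, U⁆, ∀ m ∈ M, x * m * x⁻¹ * m⁻¹ ∈ N := by
  haveI hn : (N.subgroupOf M).Normal := (Subgroup.normal_subgroupOf_iff_le_normalizer hNM).2 hMN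
  obtain ⟨hU'n, hsup, hnil', hfree', hcardE⟩ := frob_transport U E hUn hfpf hnil
  obtain ⟨hcomm, hexp, hq⟩ := section_setup p M N hNM hcommQ hexpQ
  haveI := hU'n
  have hE := card_fixedPts_secAct (U ⊔ E) M N E hGM hGN hNM le_sup_right
    (Nat.Coprime.coprime_dvd_left (Subgroup.card_dvd_of_le le_sup_right) hcop) (Or.inr hsolv)
  rw [h1] at hE
  have hpos : 0 < Nat.card ↥(N ⊓ Subgroup.centralizer (E : Set X)) := Nat.card_pos
  have hfE : Nat.card (fixedPts (secAct (U ⊔ E) M N hGM hGN) (E.subgroupOf (U ⊔ E))) = p :=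
    Nat.eq_of_mul_eq_mul_right hpos hE
  have hker := commutator_le_ker (p := p) hcomm hexp (U.subgroupOf (U ⊔ E))
    (E.subgroupOf (U ⊔ E)) hsup hnil' hp hfree' (secAct (U ⊔ E) M N hGM hGN) hfE
  intro x hx m hm
  have hmap : (⁅U.subgroupOf (U ⊔ E), U.subgroupOf (U ⊔ E)⁆).map (U ⊔ E).subtype = ⁅U, U⁆ := by
    rw [Subgroup.map_commutator, Subgroup.subgroupOf_map_subtype,
      inf_of_le_left (le_sup_left : U ≤ U ⊔ E)]
  rw [← hmap] at hx
  obtain ⟨x', hx', rfl⟩ := hx
  have h2 := hker hx'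
  rw [MonoidHom.mem_ker] at h2
  have h3 : secAct (U ⊔ E) M N hGM hGN x' (QuotientGroup.mk (⟨m, hm⟩ : M)) =
      QuotientGroup.mk (⟨m, hm⟩ : M) := by
    rw [h2]
    rfl
  rw [secAct_mk] at h3
  have h4 := QuotientGroup.eq.1 h3.symm
  rw [Subgroup.mem_subgroupOf] at h4
  have h5 : m⁻¹ * ((x' : X) * m * (x' : X)⁻¹) ∈ N := h4
  have h6 := ((Subgroup.mem_normalizer_iff.1 (hMN hm)) _).1 h5
  have h7 : m * (m⁻¹ * ((x' : X) * m * (x' : X)⁻¹)) * m⁻¹ = (x' : X) * m * (x' : X)⁻¹ * m⁻¹ := by
    group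
  rw [h7] at h6
  exact h6

end sectionThm

end Cfsg.Agent.Lib.Helper52_FrobAct
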