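import Mathlib
import Cfsg.Agent.Lib.Helper52_FrobAct
import Cfsg.Agent.S0033
set_option autoImplicit false
set_option linter.unusedSectionVars false
set_option linter.unusedVariables false
set_option linter.style.haveILetI false

/-! Thompson nilpotency of Frobenius kernels, characteristic subgroups with elementary abelian
quotient, and the fixed point formula for a Frobenius group acting coprimely on a solvable group. -/

namespace Cfsg.Agent.Lib.Helper52_FrobFormula
open Cfsg.Agent.Lib.Helper52_FrobAct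
open scoped commutatorElement

section thompson
variable {X : Type*} [Group X] [Finite X]

/-- Thompson: a group admitting a fixed-point-free group of automorphisms is nilpotent -/
theorem nilpotent_of_fpf (U E : Subgroup X) (hE1 : E ≠ ⊥)
    (hUn : ∀ e ∈ E, ∀ u ∈ U, e * u * e⁻¹ ∈ U)
    (hfpf : ∀ e ∈ E, e ≠ 1 → ∀ u ∈ U, e * u = u * e → u = 1) : Group.IsNilpotent U := by
  have hC1 : Nat.card E ≠ 1 := by
    intro h
    exact hE1 (Subgroup.card_eq_one.mp h)
  obtain ⟨p, hp, hpC⟩ := Nat.exists_prime_and_dvd hC1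
  haveI : Fact p.Prime := ⟨hp⟩
  obtain ⟨c, hc⟩ := exists_prime_orderOf_dvd_card' p hpC
  have hc1 : (c : X) ≠ 1 := by
    intro h
    have : c = 1 := Subtype.ext h
    rw [this, orderOf_one] at hc
    exact hp.one_lt.ne hc
  have hEU : E ≤ Subgroup.normalizer (U : Set X) :=
    le_sup_right.trans (le_normalizer_of_conj U E hUn)
  let φ : ↥U ≃* ↥U := conjAut E U hEU c
  have hφ : ∀ n : U, ((φ n : U) : X) = (c : X) * n * (c : X)⁻¹ := fun n => rfl
  have hfix : MonoidHom.FixedPointFree (φ : ↥U →* ↥U) := by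
    intro n hn
    have h1 : (c : X) * n * (c : X)⁻¹ = n := by
      have := congrArg Subtype.val hn
      exact this
    have h2 : (c : X) * n = n * c := by
      calc (c : X) * n = ((c : X) * n * (c : X)⁻¹) * c := by group
        _ = n * c := by rw [h1]
    exact Subtype.ext (hfpf c c.2 hc1 n n.2 h2)
  have hpow : φ ^ p = 1 := by
    have h1 : φ ^ p = conjAut E U hEU (c ^ p) := by
      rw [map_pow]
    rw [h1]
    have h2 : c ^ p = 1 := by
      have := pow_orderOf_eq_one c
      rwa [hc] at this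
    rw [h2, map_one]
  have hord : orderOf φ ∣ p := orderOf_dvd_of_pow_eq_one hpow
  rcases (Nat.dvd_prime hp).mp hord with h | h
  · rw [orderOf_eq_one_iff] at h
    haveI : Subsingleton U := by
      constructor
      intro a b
      have ha : a = 1 := hfix a (by rw [h]; rfl)
      have hb : b = 1 := hfix b (by rw [h]; rfl)
      rw [ha, hb]
    infer_instance
  · exact Cfsg.Agent.S0033.result φ hfix p hp h

end thompson

section elemab
variable {X : Type*} [Group X] [Finite X]

theorem le_normalizer_of_forall (K H : Subgroup X) (h : ∀ g ∈ K, ∀ x ∈ H, g * x * g⁻¹ ∈ H) :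
    K ≤ Subgroup.normalizer (H : Set X) := by
  intro g hg
  rw [Subgroup.mem_normalizer_iff]
  intro x
  constructor
  · exact h g hg x
  · intro hx
    have h1 := h g⁻¹ (K.inv_mem hg) _ hx
    have h2 : g⁻¹ * (g * x * g⁻¹) * g⁻¹⁻¹ = x := by group
    rw [h2] at h1
    exact h1

/-- a characteristic subgroup with elementary abelian quotient -/
theorem exists_elemAb_quotient (M : Subgroup X) (hsolv : Group.IsSolvable M) (hM : M ≠ ⊥) :
    ∃ (p : ℕ) (N : Subgroup X), p.Prime ∧ p ∣ Nat.card M ∧ N < M ∧ ⁅M, M⁆ ≤ N ∧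
      (∀ m ∈ M, m ^ p ∈ N) ∧
      Subgroup.normalizer (M : Set X) ≤ Subgroup.normalizer (N : Set X) := by
  haveI : Nontrivial M := (Subgroup.nontrivial_iff_ne_bot M).2 hM
  have hlt := Group.IsSolvable.commutator_lt_top_of_nontrivial (G := ↥M)
  have hA1 : Nat.card (Abelianization ↥M) ≠ 1 := by
    intro h
    have h1 : (commutator ↥M).index = 1 := by
      rw [Subgroup.index_eq_card]
      exact h
    rw [Subgroup.index_eq_one] at h1
    exact (lt_top_iff_ne_top.1 hlt) h1
  obtain ⟨p, hp, hpA⟩ := Nat.exists_prime_and_dvd hA1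
  haveI : Fact p.Prime := ⟨hp⟩
  have hpM : p ∣ Nat.card M := by
    have h1 : Nat.card (Abelianization ↥M) ∣ Nat.card M := by
      have := Subgroup.card_eq_card_quotient_mul_card_subgroup (commutator ↥M)
      exact Dvd.intro _ this.symm
    exact hpA.trans h1
  obtain ⟨a, ha⟩ := exists_prime_orderOf_dvd_card' p hpA
  let pw : Abelianization ↥M →* Abelianization ↥M := powMonoidHom p
  have hpw : ∀ x, pw x = x ^ p := fun x => rfl
  have hrange : pw.range ≠ ⊤ := by
    intro h
    have hsurj : Function.Surjective pw := MonoidHom.range_eq_top.1 h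
    have hinj : Function.Injective pw := Finite.injective_iff_surjective.2 hsurj
    have h1 : pw a = pw 1 := by
      rw [hpw, hpw, one_pow, ← ha, pow_orderOf_eq_one]
    have h2 := hinj h1
    rw [h2, orderOf_one] at ha
    exact hp.one_lt.ne ha
  let N₁ : Subgroup X := (pw.range.comap (Abelianization.of : ↥M →* Abelianization ↥M)).map
    M.subtype
  let S : Set X := {x | ∃ y ∈ M, y ^ p = x}
  let N : Subgroup X := ⁅M, M⁆ ⊔ Subgroup.closure S
  have hSM : S ⊆ M := by
    rintro _ ⟨y, hy, rfl⟩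
    exact M.pow_mem hy p
  have hM'M : ⁅M, M⁆ ≤ M := by
    rw [Subgroup.commutator_le]
    intro a ha b hb
    rw [commutatorElement_def]
    exact M.mul_mem (M.mul_mem (M.mul_mem ha hb) (M.inv_mem ha)) (M.inv_mem hb)
  have hNM : N ≤ M := sup_le hM'M ((Subgroup.closure_le M).2 hSM)
  have hNN₁ : N ≤ N₁ := by
    apply sup_le
    · rw [Subgroup.commutator_le]
      intro x hx y hy
      refine ⟨⁅(⟨x, hx⟩ : M), ⟨y, hy⟩⁆, ?_, rfl⟩
      rw [SetLike.mem_coe, Subgroup.mem_comap]
      have h1 : ⁅(⟨x, hx⟩ : M), ⟨y, hy⟩⁆ ∈ (Abelianization.of : ↥M →* Abelianization ↥M).ker := by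
        rw [Abelianization.ker_of]
        exact Subgroup.commutator_mem_commutator (Subgroup.mem_top _) (Subgroup.mem_top _)
      rw [MonoidHom.mem_ker.1 h1]
      exact Subgroup.one_mem _
    · rw [Subgroup.closure_le]
      rintro _ ⟨y, hy, rfl⟩
      refine ⟨(⟨y, hy⟩ : M) ^ p, ?_, rfl⟩
      rw [SetLike.mem_coe, Subgroup.mem_comap, map_pow]
      exact ⟨Abelianization.of ⟨y, hy⟩, rfl⟩
  have hN₁ : N₁ ≠ M := by
    intro h
    apply hrange
    rw [eq_top_iff]
    intro x _
    obtain ⟨m, rfl⟩ := QuotientGroup.mk_surjective x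
    have h1 : (m : X) ∈ N₁ := by rw [h]; exact m.2
    obtain ⟨m', hm', hmm⟩ := h1
    have h2 : m' = m := Subtype.ext hmm
    rw [h2, SetLike.mem_coe, Subgroup.mem_comap] at hm'
    exact hm'
  refine ⟨p, N, hp, hpM, ?_, le_sup_left, ?_, ?_⟩
  · refine lt_of_le_of_ne hNM ?_
    intro h
    apply hN₁
    apply le_antisymm (Subgroup.map_subtype_le _)
    exact h.symm.le.trans hNN₁
  · intro m hm
    exact le_sup_right (a := ⁅M, M⁆) (Subgroup.subset_closure ⟨m, hm, rfl⟩)
  · apply le_normalizer_of_forall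
    intro g hg x hx
    have hgM : ∀ y ∈ M, g * y * g⁻¹ ∈ M := fun y hy =>
      ((Subgroup.mem_normalizer_iff.1 hg) y).1 hy
    have hmap : N.map (MulAut.conj g).toMonoidHom ≤ N := by
      rw [Subgroup.map_sup, Subgroup.map_commutator, MonoidHom.map_closure]
      apply sup_le_sup
      · apply Subgroup.commutator_mono
        · rintro _ ⟨y, hy, rfl⟩
          exact hgM y hy
        · rintro _ ⟨y, hy, rfl⟩
          exact hgM y hy
      · apply Subgroup.closure_mono
        rintro _ ⟨_, ⟨y, hy, rfl⟩, rfl⟩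
        refine ⟨g * y * g⁻¹, hgM y hy, ?_⟩
        simp [conj_pow]
    exact hmap ⟨x, hx, rfl⟩

end elemab
section formula
variable {X : Type*} [Group X] [Finite X]

theorem formula_aux (U E : Subgroup X) (hUn : ∀ e ∈ E, ∀ u ∈ U, e * u * e⁻¹ ∈ U)
    (hfpf : ∀ e ∈ E, e ≠ 1 → ∀ u ∈ U, e * u = u * e → u = 1) (hnil : Group.IsNilpotent U) :
    ∀ (n : ℕ) (M : Subgroup X), Nat.card M = n → U ⊔ E ≤ Subgroup.normalizer (M : Set X) →
      Group.IsSolvable M → (Nat.card ↥(U ⊔ E)).Coprime (Nat.card M) →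
      Nat.card ↥(M ⊓ Subgroup.centralizer ((U ⊔ E : Subgroup X) : Set X)) ^ Nat.card E *
        Nat.card M =
      Nat.card ↥(M ⊓ Subgroup.centralizer (E : Set X)) ^ Nat.card E *
        Nat.card ↥(M ⊓ Subgroup.centralizer (U : Set X)) := by
  intro n
  induction' n using Nat.strong_induction_on with n ih
  intro M hMn hGM hsolv hcop
  by_cases hM : M = ⊥
  · subst hM
    simp only [bot_inf_eq, Subgroup.card_bot, one_pow, mul_one]
  · obtain ⟨p, N, hp, hpM, hNlt, hcommQ, hexpQ, hnorm⟩ := exists_elemAb_quotient M hsolv hM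
    haveI : Fact p.Prime := ⟨hp⟩
    have hNM : N ≤ M := hNlt.le
    have hcardlt : Nat.card N < n := by
      rw [← hMn]
      by_contra hcon
      push Not at hcon
      exact hNlt.ne (Subgroup.eq_of_le_of_card_ge hNM hcon)
    have hGN : U ⊔ E ≤ Subgroup.normalizer (N : Set X) := hGM.trans hnorm
    have hMN : M ≤ Subgroup.normalizer (N : Set X) := Subgroup.le_normalizer.trans hnorm
    have hsolvN : Group.IsSolvable N :=
      Group.isSolvable_of_isSolvable_injective (Subgroup.inclusion_injective hNM)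
    have hcopN : (Nat.card ↥(U ⊔ E)).Coprime (Nat.card N) :=
      Nat.Coprime.coprime_dvd_right (Subgroup.card_dvd_of_le hNM) hcop
    have ihN := ih (Nat.card N) hcardlt N rfl hGN hsolvN hcopN
    have hpG : ¬ p ∣ Nat.card ↥(U ⊔ E) := by
      intro h
      have h1 := Nat.dvd_gcd h hpM
      rw [hcop] at h1
      exact hp.one_lt.ne' (Nat.dvd_one.1 h1)
    obtain ⟨fG, fE, fU, q, key, hG, hE, hU, hq⟩ := section_formula p U E M N hUn hfpf hnil hGM hGN
      hNM hMN hcommQ hexpQ hpG hcop hsolv
    rw [← hG, ← hE, ← hU, ← hq, mul_pow, mul_pow]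
    calc fG ^ Nat.card E *
          Nat.card ↥(N ⊓ Subgroup.centralizer ((U ⊔ E : Subgroup X) : Set X)) ^ Nat.card E *
          (q * Nat.card N)
        = (fG ^ Nat.card E * q) *
          (Nat.card ↥(N ⊓ Subgroup.centralizer ((U ⊔ E : Subgroup X) : Set X)) ^ Nat.card E *
            Nat.card N) := by ring
      _ = (fE ^ Nat.card E * fU) *
          (Nat.card ↥(N ⊓ Subgroup.centralizer (E : Set X)) ^ Nat.card E *
            Nat.card ↥(N ⊓ Subgroup.centralizer (U : Set X))) := by rw [key, ihN]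
      _ = _ := by ring

/-- the fixed point formula for a Frobenius group acting coprimely on a solvable group -/
theorem frobenius_formula (U E H : Subgroup X) (hE1 : E ≠ ⊥)
    (hUn : ∀ e ∈ E, ∀ u ∈ U, e * u * e⁻¹ ∈ U)
    (hfpf : ∀ e ∈ E, e ≠ 1 → ∀ u ∈ U, e * u = u * e → u = 1)
    (hHn : U ⊔ E ≤ Subgroup.normalizer (H : Set X))
    (hsolv : Group.IsSolvable H) (hcop : (Nat.card ↥(U ⊔ E)).Coprime (Nat.card H)) :
    Nat.card ↥(H ⊓ Subgroup.centralizer ((U ⊔ E : Subgroup X) : Set X)) ^ Nat.card E *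
        Nat.card H =
      Nat.card ↥(H ⊓ Subgroup.centralizer (E : Set X)) ^ Nat.card E *
        Nat.card ↥(H ⊓ Subgroup.centralizer (U : Set X)) :=
  formula_aux U E hUn hfpf (nilpotent_of_fpf U E hE1 hUn hfpf) _ H rfl hHn hsolv hcop

end formula

end Cfsg.Agent.Lib.Helper52_FrobFormula
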