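import Mathlib
import Cfsg.Agent.Lib.Helper1_Frattini
import Cfsg.Agent.Lib.Helper1_Cores
import Cfsg.Agent.Lib.Helper24_CoprimeHall
import Cfsg.Agent.Lib.Helper21_Fitting
import Cfsg.Agent.S0070
import Cfsg.Agent.S0022
import Cfsg.Agent.S0552
import Cfsg.Agent.S0044
import Cfsg.Prelude.Def_OddOrderLocal

/-!
# Prime action and the Fitting subgroup (helper52): BG Theorem 3.8 modulo BG Theorem 3.6

* `le_centralizer_of_frattini_eq_bot`: with `Φ(K) = 1`, a normal subgroup acting on a normal abelian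
  `ℓ`-subgroup `V` through an `ℓ`-group centralizes `V` (so `O_ℓ(K/C_K(V)) = 1`).
* `fittingOf_map_le`: `F(K/Φ(K)) ≤ F(K)/Φ(K)` in ambient form.
* `BG36 X`: the statement of BG 3.6 (S3769) for the ambient group `X`, as a hypothesis.
* `core_aux`, `bg38`: BG 3.8 (`[K, R] ≤ F(K)` for prime action with `C_{F(K)}(R) = 1`) from `BG36`.
-/

set_option autoImplicit false
set_option linter.style.haveILetI false

open Subgroup Cfsg
open scoped commutatorElement

namespace Cfsg.Agent.Lib.Helper52_PrimeAct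

universe u

/-- A nontrivial normal subgroup of a nilpotent group meets the centre nontrivially. -/
theorem exists_mem_center_of_normal {F : Type*} [Group F] [Group.IsNilpotent F]
    (N : Subgroup F) [hN : N.Normal] (hN1 : N ≠ ⊥) : ∃ z ∈ N, z ∈ center F ∧ z ≠ 1 := by
  by_contra hcon
  push Not at hcon
  have key : ∀ n : ℕ, ∀ z ∈ N, z ∈ Subgroup.upperCentralSeries F n → z = 1 := by
    intro n
    induction n with
    | zero =>
      intro z _ hz
      rwa [Subgroup.upperCentralSeries_zero, mem_bot] at hz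
    | succ n ih =>
      intro z hzN hz
      rw [Subgroup.mem_upperCentralSeries_succ_iff] at hz
      apply hcon z hzN
      rw [mem_center_iff]
      intro y
      have h1 : ⁅z, y⁆ ∈ N := by
        have : ⁅z, y⁆ = z * (y * z⁻¹ * y⁻¹) := by rw [commutatorElement_def]; group
        rw [this]
        exact N.mul_mem hzN (hN.conj_mem _ (N.inv_mem hzN) y)
      have h2 := ih _ h1 (hz y)
      rw [commutatorElement_eq_one_iff_commute] at h2
      exact h2.eq.symm
  obtain ⟨n, hn⟩ := (Group.isNilpotent_iff (G := F)).mp inferInstance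
  apply hN1
  rw [eq_bot_iff]
  intro z hz
  rw [mem_bot]
  exact key n z hz (by rw [hn]; trivial)

/-- In a finite `ℓ`-group `P` with normal subgroups `V`, `D`, `V` not inside `D`: there is `v ∈ V \ D`
with `[v, P] ⊆ D`. -/
theorem exists_central_mod {P : Type*} [Group P] [Finite P] {ℓ : ℕ} [Fact ℓ.Prime] (hP : IsPGroup ℓ P)
    (V D : Subgroup P) [V.Normal] [D.Normal] (hDV : ¬ V ≤ D) :
    ∃ v ∈ V, v ∉ D ∧ ∀ s : P, ⁅v, s⁆ ∈ D := by
  have hq : IsPGroup ℓ (P ⧸ D) := hP.to_quotient D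
  haveI : Group.IsNilpotent (P ⧸ D) := hq.isNilpotent
  have hNn : (V.map (QuotientGroup.mk' D)).Normal :=
    Subgroup.Normal.map inferInstance _ (QuotientGroup.mk'_surjective D)
  have hN1 : V.map (QuotientGroup.mk' D) ≠ ⊥ := by
    intro h
    apply hDV
    intro v hv
    have : QuotientGroup.mk' D v ∈ V.map (QuotientGroup.mk' D) := Subgroup.mem_map_of_mem _ hv
    rw [h, Subgroup.mem_bot] at this
    exact (QuotientGroup.eq_one_iff v).mp this
  obtain ⟨z, hzN, hzc, hz1⟩ := exists_mem_center_of_normal (V.map (QuotientGroup.mk' D)) hN1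
  obtain ⟨v, hv, rfl⟩ := hzN
  refine ⟨v, hv, ?_, ?_⟩
  · intro hvD
    exact hz1 ((QuotientGroup.eq_one_iff v).mpr hvD)
  · intro s
    rw [← QuotientGroup.eq_one_iff, commutatorElement_def]
    have h := Subgroup.mem_center_iff.mp hzc (QuotientGroup.mk' D s)
    have h2 : ((v * s * v⁻¹ * s⁻¹ : P) : P ⧸ D) = QuotientGroup.mk' D v * QuotientGroup.mk' D s * (QuotientGroup.mk' D v)⁻¹ * (QuotientGroup.mk' D s)⁻¹ := by
      simp
    rw [h2, ← h]
    group

/-- **Lemma L.** In a finite group `K` with trivial Frattini subgroup, a normal subgroup `T` acting on a normal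
abelian `ℓ`-subgroup `V` through an `ℓ`-group (`T ⊆ C_K(V) S` for an `ℓ`-subgroup `S`) centralizes `V`. -/
theorem le_centralizer_of_frattini_eq_bot {K : Type*} [Group K] [Finite K] (hΦ : frattini K = ⊥)
    {ℓ : ℕ} [Fact ℓ.Prime] (V : Subgroup K) [hVn : V.Normal] (hVab : ∀ a ∈ V, ∀ b ∈ V, a * b = b * a)
    (hVℓ : IsPGroup ℓ V) (S : Subgroup K) (hS : IsPGroup ℓ S) (T : Subgroup K) [hTn : T.Normal]
    (hT : ∀ t ∈ T, ∃ c ∈ centralizer (V : Set K), ∃ s ∈ S, t = c * s) :
    T ≤ centralizer (V : Set K) := by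
  by_contra hcon
  have hWV : ⁅V, T⁆ ≤ V := Subgroup.commutator_le_left V T
  have hW1 : ¬ ⁅V, T⁆ ≤ frattini K := by
    rw [hΦ, le_bot_iff, Subgroup.commutator_comm, Subgroup.commutator_eq_bot_iff_le_centralizer]
    exact hcon
  rw [Cfsg.Agent.Lib.Helper1_Frattini.le_frattini_iff] at hW1
  push Not at hW1
  obtain ⟨M, hM, hWM⟩ := hW1
  have hVM : ¬ V ≤ M := fun h => hWM (hWV.trans h)
  have htop : V ⊔ M = ⊤ := hM.2 _ (lt_of_le_of_ne le_sup_right (fun h => hVM (h ▸ le_sup_left)))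
  -- D = V ⊓ M is normal
  have hDn : (V ⊓ M).Normal := by
    constructor
    intro d hd g
    have hg : g ∈ V ⊔ M := htop ▸ Subgroup.mem_top g
    obtain ⟨v, hv, m, hm, rfl⟩ := Subgroup.mem_sup_of_normal_left.mp hg
    have h1 : m * d * m⁻¹ ∈ V ⊓ M :=
      Subgroup.mem_inf.mpr ⟨hVn.conj_mem d hd.1 m, M.mul_mem (M.mul_mem hm hd.2) (M.inv_mem hm)⟩
    have h2 : v * m * d * (v * m)⁻¹ = v * (m * d * m⁻¹) * v⁻¹ := by group
    rw [h2, hVab v hv _ h1.1, mul_assoc, mul_inv_cancel, mul_one]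
    exact h1
  set D := V ⊓ M with hD
  -- the ℓ-group P = V ⊔ S
  have hPp : IsPGroup ℓ ↥(V ⊔ S) := IsPGroup.to_sup_of_normal_left hVℓ hS
  have hV'n : (V.subgroupOf (V ⊔ S)).Normal := hVn.subgroupOf _
  have hD'n : (D.subgroupOf (V ⊔ S)).Normal := hDn.subgroupOf _
  have hne : ¬ V.subgroupOf (V ⊔ S) ≤ D.subgroupOf (V ⊔ S) := by
    intro h
    apply hVM
    intro v hv
    have h1 : (⟨v, (le_sup_left : V ≤ V ⊔ S) hv⟩ : ↥(V ⊔ S)) ∈ V.subgroupOf (V ⊔ S) :=
      Subgroup.mem_subgroupOf.mpr hv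
    have h2 := h h1
    rw [Subgroup.mem_subgroupOf] at h2
    exact h2.2
  obtain ⟨v', hv'V, hv'D, hv'c⟩ := exists_central_mod hPp (V.subgroupOf (V ⊔ S)) (D.subgroupOf (V ⊔ S)) hne
  rw [Subgroup.mem_subgroupOf] at hv'V hv'D
  have hvS : ∀ s ∈ S, ⁅(v' : K), s⁆ ∈ D := by
    intro s hs
    have := hv'c ⟨s, (le_sup_right : S ≤ V ⊔ S) hs⟩
    rw [Subgroup.mem_subgroupOf] at this
    have e : ((⁅v', ⟨s, (le_sup_right : S ≤ V ⊔ S) hs⟩⁆ : ↥(V ⊔ S)) : K) = ⁅(v' : K), s⁆ := by
      simp [commutatorElement_def]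
    rwa [e] at this
  have hvT : ∀ t ∈ T, ⁅(v' : K), t⁆ ∈ D := by
    intro t ht
    obtain ⟨c, hc, s, hs, rfl⟩ := hT t ht
    have hcv : c * (v' : K) = (v' : K) * c := (Subgroup.mem_centralizer_iff.mp hc _ hv'V).symm
    have h1 : ⁅(v' : K), c * s⁆ = c * ⁅(v' : K), s⁆ * c⁻¹ := by
      rw [commutatorElement_def, commutatorElement_def]
      have e1 : (v' : K) * (c * s) * (v' : K)⁻¹ * (c * s)⁻¹ = ((v' : K) * c) * s * (v' : K)⁻¹ * s⁻¹ * c⁻¹ := by group
      rw [e1, ← hcv]
      group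
    rw [h1]
    exact hDn.conj_mem _ (hvS s hs) c
  -- the subgroup U
  let U : Subgroup K :=
    { carrier := {u | u ∈ V ∧ ∀ t ∈ T, ⁅u, t⁆ ∈ D}
      one_mem' := ⟨V.one_mem, fun t _ => by rw [commutatorElement_one_left]; exact D.one_mem⟩
      mul_mem' := by
        rintro a b ⟨ha, ha'⟩ ⟨hb, hb'⟩
        refine ⟨V.mul_mem ha hb, fun t ht => ?_⟩
        have e : ⁅a * b, t⁆ = a * ⁅b, t⁆ * a⁻¹ * ⁅a, t⁆ := by
          simp only [commutatorElement_def]; group
        rw [e]
        exact D.mul_mem (hDn.conj_mem _ (hb' t ht) a) (ha' t ht)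
      inv_mem' := by
        rintro a ⟨ha, ha'⟩
        refine ⟨V.inv_mem ha, fun t ht => ?_⟩
        have e : ⁅a⁻¹, t⁆ = a⁻¹ * (⁅a, t⁆)⁻¹ * a⁻¹⁻¹ := by
          simp only [commutatorElement_def]; group
        rw [e]
        exact hDn.conj_mem _ (D.inv_mem (ha' t ht)) a⁻¹ }
  have hUn : U.Normal := by
    constructor
    rintro u ⟨hu, hu'⟩ g
    refine ⟨hVn.conj_mem u hu g, fun t ht => ?_⟩
    have e : ⁅g * u * g⁻¹, t⁆ = g * ⁅u, g⁻¹ * t * g⁻¹⁻¹⁆ * g⁻¹ := by
      simp only [commutatorElement_def]; group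
    rw [e]
    exact hDn.conj_mem _ (hu' _ (hTn.conj_mem t ht g⁻¹)) g
  have hvU : (v' : K) ∈ U := ⟨hv'V, hvT⟩
  have hUM : ¬ U ≤ M := fun h => hv'D (Subgroup.mem_inf.mpr ⟨hv'V, h hvU⟩)
  have htop2 : U ⊔ M = ⊤ := hM.2 _ (lt_of_le_of_ne le_sup_right (fun h => hUM (h ▸ le_sup_left)))
  have hDU : D ≤ U := by
    intro d hd
    refine ⟨hd.1, fun t ht => ?_⟩
    have e : ⁅d, t⁆ = d * (t * d⁻¹ * t⁻¹) := by
      simp only [commutatorElement_def]; group
    rw [e]
    exact D.mul_mem hd (hDn.conj_mem _ (D.inv_mem hd) t)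
  have hVU : V ≤ U := by
    intro u hu
    have hg : u ∈ U ⊔ M := htop2 ▸ Subgroup.mem_top u
    obtain ⟨u₀, hu₀, m, hm, hum⟩ := Subgroup.mem_sup_of_normal_left.mp hg
    have hmD : m ∈ D := by
      refine Subgroup.mem_inf.mpr ⟨?_, hm⟩
      have : m = u₀⁻¹ * u := by rw [← hum]; group
      rw [this]
      exact V.mul_mem (V.inv_mem hu₀.1) hu
    rw [← hum]
    exact U.mul_mem hu₀ (hDU hmD)
  apply hWM
  rw [Subgroup.commutator_le]
  intro u hu t ht
  exact ((hVU hu).2 t ht).2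

/-- `F(B) ≤ f(F(A))` for a surjection `f : A → B` whose kernel is the Frattini subgroup of `A`. -/
theorem fittingSubgroup_le_map_of_ker_eq_frattini {A B : Type*} [Group A] [Finite A] [Group B]
    (f : A →* B) (hf : Function.Surjective f) (hker : f.ker = frattini A) :
    fittingSubgroup B ≤ (fittingSubgroup A).map f := by
  -- the induced map `g : B → A / Φ(A)` with `g ∘ f = mk'`
  let e := QuotientGroup.quotientKerEquivOfSurjective f hf
  have hle : f.ker ≤ (QuotientGroup.mk' (frattini A)).ker := by rw [QuotientGroup.ker_mk', hker]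
  let g : B →* A ⧸ frattini A :=
    (QuotientGroup.lift f.ker (QuotientGroup.mk' (frattini A)) hle).comp e.symm.toMonoidHom
  have hg : ∀ a : A, g (f a) = QuotientGroup.mk' (frattini A) a := by
    intro a
    have h1 : e.symm (f a) = (QuotientGroup.mk a : A ⧸ f.ker) := by
      rw [MulEquiv.symm_apply_eq]
      rfl
    change (QuotientGroup.lift f.ker (QuotientGroup.mk' (frattini A)) hle) (e.symm (f a)) = _
    rw [h1, QuotientGroup.lift_mk]
  unfold fittingSubgroup
  apply sSup_le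
  rintro Nbar ⟨hNn, hNnil⟩
  have hmap : (Nbar.comap f).map f = Nbar := Subgroup.map_comap_eq_self_of_surjective hf Nbar
  have hNnormal : (Nbar.comap f).Normal := hNn.comap _
  have hΦ : frattini A ≤ Nbar.comap f := by
    rw [← hker]
    exact Subgroup.ker_le_comap f Nbar
  have hnil : Group.IsNilpotent ↥(Nbar.comap f) := by
    apply Cfsg.Agent.S0070.gaschutz _ hΦ
    have h2 : (Nbar.comap f).map (QuotientGroup.mk' (frattini A)) = Nbar.map g := by
      ext y
      constructor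
      · rintro ⟨a, ha, rfl⟩
        exact ⟨f a, ha, hg a⟩
      · rintro ⟨b, hb, rfl⟩
        obtain ⟨a, rfl⟩ := hf b
        exact ⟨a, hb, (hg a).symm⟩
    rw [h2]
    exact Group.nilpotent_of_surjective (g.subgroupMap Nbar) (g.subgroupMap_surjective Nbar)
  rw [← hmap]
  apply Subgroup.map_mono
  exact le_sSup ⟨hNnormal, hnil⟩

/-- `F(K/Φ(K)) ≤ F(K)/Φ(K)`, ambient form. -/
theorem fittingOf_map_le {X : Type*} [Group X] [Finite X] (K : Subgroup X) (N : Subgroup X) [N.Normal]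
    (hN : N = (frattini ↥K).map K.subtype) :
    fittingOf (K.map (QuotientGroup.mk' N)) ≤ (fittingOf K).map (QuotientGroup.mk' N) := by
  set π := QuotientGroup.mk' N with hπ
  have hf : Function.Surjective (π.subgroupMap K) := π.subgroupMap_surjective K
  have hker : (π.subgroupMap K).ker = frattini ↥K := by
    ext x
    rw [MonoidHom.mem_ker]
    constructor
    · intro h
      have h1 : π (x : X) = 1 := by
        have := congrArg Subtype.val h
        simpa using this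
      have h2 : (x : X) ∈ N := by
        rwa [hπ, QuotientGroup.mk'_apply, QuotientGroup.eq_one_iff] at h1
      rw [hN] at h2
      exact (Subgroup.mem_map_iff_mem K.subtype_injective).mp h2
    · intro h
      apply Subtype.ext
      have h2 : (x : X) ∈ N := by
        rw [hN]
        exact Subgroup.mem_map_of_mem _ h
      change π (x : X) = 1
      rw [hπ, QuotientGroup.mk'_apply, QuotientGroup.eq_one_iff]
      exact h2
  have h1 := fittingSubgroup_le_map_of_ker_eq_frattini (π.subgroupMap K) hf hker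
  rintro _ ⟨z, hz, rfl⟩
  obtain ⟨w, hw, rfl⟩ := h1 hz
  exact ⟨(w : X), ⟨w, hw, rfl⟩, rfl⟩

theorem isSolvable_zpowers {G : Type*} [Group G] (x : G) : Group.IsSolvable ↥(Subgroup.zpowers x) :=
  Group.isSolvable_of_comm (fun a b => mul_comm' a b)

/-- `Φ(K) ≤ F(K)`, ambient form. -/
theorem map_frattini_le_fittingOf {X : Type*} [Group X] [Finite X] (K : Subgroup X) :
    (frattini ↥K).map K.subtype ≤ fittingOf K := by
  apply Subgroup.map_mono
  exact Cfsg.Agent.Lib.Helper1_Cores.le_fittingSubgroup inferInstance frattini_nilpotent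

/-- fixed points in cosets for an element of prime order (from S0022). -/
theorem exists_fixed_in_coset {X : Type*} [Group X] [Finite X] (K N : Subgroup X) [K.Normal] [N.Normal]
    (hNK : N ≤ K) (x : X) (hcop : (orderOf x).Coprime (Nat.card K)) (y : X) (hy : y ∈ K)
    (hxy : x * y * x⁻¹ * y⁻¹ ∈ N) : ∃ c ∈ K, x * c = c * x ∧ y⁻¹ * c ∈ N := by
  have hA : Subgroup.zpowers x ≤ Subgroup.normalizer (K : Set X) := by
    rw [Subgroup.normalizer_eq_top_iff.mpr inferInstance]; exact le_top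
  have hAN : Subgroup.zpowers x ≤ Subgroup.normalizer (N : Set X) := by
    rw [Subgroup.normalizer_eq_top_iff.mpr inferInstance]; exact le_top
  have hKN : K ≤ Subgroup.normalizer (N : Set X) := by
    rw [Subgroup.normalizer_eq_top_iff.mpr inferInstance]; exact le_top
  have hcop' : (Nat.card ↥(Subgroup.zpowers x)).Coprime (Nat.card K) := by
    rw [Nat.card_zpowers]; exact hcop
  have hfix : ∀ a ∈ Subgroup.zpowers x, a * y * a⁻¹ * y⁻¹ ∈ N := by
    intro a ha
    rw [← QuotientGroup.eq_one_iff] at hxy ⊢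
    have h1 : Commute (QuotientGroup.mk' N x) (QuotientGroup.mk' N y) := by
      have : QuotientGroup.mk' N (x * y * x⁻¹ * y⁻¹) = 1 := hxy
      rw [map_mul, map_mul, map_mul, map_inv, map_inv] at this
      have h2 := mul_inv_eq_one.mp this
      have h3 := mul_inv_eq_iff_eq_mul.mp h2
      exact h3
    obtain ⟨i, rfl⟩ := Subgroup.mem_zpowers_iff.mp ha
    have h4 : Commute (QuotientGroup.mk' N (x ^ i)) (QuotientGroup.mk' N y) := by
      rw [map_zpow]; exact h1.zpow_left i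
    change QuotientGroup.mk' N (x ^ i * y * (x ^ i)⁻¹ * y⁻¹) = 1
    rw [map_mul, map_mul, map_mul, map_inv, map_inv, h4.eq]
    group
  obtain ⟨c, hc, hcN⟩ := Cfsg.Agent.S0022.result (Subgroup.zpowers x) K hA hcop'
    (Or.inl (isSolvable_zpowers x)) N hNK hKN hAN y hy hfix
  refine ⟨c, (Subgroup.mem_inf.mp hc).1, ?_, hcN⟩
  exact Subgroup.mem_centralizer_iff.mp (Subgroup.mem_inf.mp hc).2 x (Subgroup.mem_zpowers x)

theorem fittingOf_le' {X : Type*} [Group X] (K : Subgroup X) : fittingOf K ≤ K := Subgroup.map_subtype_le _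

/-- Case A: reduction modulo the Frattini subgroup of `K`. -/
theorem caseA {X : Type*} [Group X] [Finite X] (K : Subgroup X) [K.Normal] (N : Subgroup X) [N.Normal]
    (hN : N = (frattini ↥K).map K.subtype) (x : X) (r : ℕ) (hr : r.Prime) (hx : orderOf x = r)
    (hrK : ¬ r ∣ Nat.card K) (hfix : ∀ y ∈ fittingOf K, x * y = y * x → y = 1)
    (IH : orderOf (QuotientGroup.mk' N x) = r → ¬ r ∣ Nat.card (K.map (QuotientGroup.mk' N)) →
      (∀ y ∈ fittingOf (K.map (QuotientGroup.mk' N)),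
        QuotientGroup.mk' N x * y = y * QuotientGroup.mk' N x → y = 1) →
      ∀ k ∈ K.map (QuotientGroup.mk' N), ⁅k, QuotientGroup.mk' N x⁆ ∈ fittingOf (K.map (QuotientGroup.mk' N))) :
    ∀ k ∈ K, ⁅k, x⁆ ∈ fittingOf K := by
  haveI : Fact r.Prime := ⟨hr⟩
  set π := QuotientGroup.mk' N with hπ
  have hNF : N ≤ fittingOf K := hN ▸ map_frattini_le_fittingOf K
  have hNK : N ≤ K := hNF.trans (fittingOf_le' K)
  have hcop : (orderOf x).Coprime (Nat.card K) := by
    rw [hx]; exact (Nat.Prime.coprime_iff_not_dvd hr).mpr hrK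
  have hxK : x ∉ K := by
    intro h
    apply hrK
    rw [← hx]
    exact Subgroup.orderOf_dvd_natCard K h
  have h1 : orderOf (π x) = r := by
    apply orderOf_eq_prime
    · rw [← map_pow, ← hx, pow_orderOf_eq_one, map_one]
    · intro h
      apply hxK
      apply hNK
      rwa [hπ, QuotientGroup.mk'_apply, QuotientGroup.eq_one_iff] at h
  have h2 : ¬ r ∣ Nat.card (K.map π) := fun h => hrK (h.trans (Subgroup.card_map_dvd K π))
  have hQ1 : fittingOf (K.map π) ≤ (fittingOf K).map π := fittingOf_map_le K N hN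
  have h3 : ∀ y ∈ fittingOf (K.map π), π x * y = y * π x → y = 1 := by
    intro y' hy' hcomm
    obtain ⟨y, hy, rfl⟩ := hQ1 hy'
    have hyK : y ∈ K := fittingOf_le' K hy
    have hxy : x * y * x⁻¹ * y⁻¹ ∈ N := by
      rw [← QuotientGroup.eq_one_iff]
      change π (x * y * x⁻¹ * y⁻¹) = 1
      have hcomm' : π x * π y = π y * π x := hcomm
      rw [map_mul, map_mul, map_mul, map_inv, map_inv, hcomm']
      group
    obtain ⟨c, hcK, hcx, hcN⟩ := exists_fixed_in_coset K N hNK x hcop y hyK hxy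
    have hcF : c ∈ fittingOf K := by
      have : c = y * (y⁻¹ * c) := by group
      rw [this]
      exact (fittingOf K).mul_mem hy (hNF hcN)
    have hc1 := hfix c hcF hcx
    rw [hc1, mul_one] at hcN
    have : y ∈ N := by
      have h := N.inv_mem hcN
      rwa [inv_inv] at h
    change π y = 1
    rw [hπ, QuotientGroup.mk'_apply, QuotientGroup.eq_one_iff]
    exact this
  intro k hk
  have h4 := IH h1 h2 h3 (π k) (Subgroup.mem_map_of_mem π hk)
  obtain ⟨w, hw, hwk⟩ := hQ1 h4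
  have h5 : w⁻¹ * ⁅k, x⁆ ∈ N := by
    rw [← QuotientGroup.eq_one_iff]
    change π (w⁻¹ * ⁅k, x⁆) = 1
    rw [map_mul, map_inv, hwk, map_commutatorElement]
    group
  have : ⁅k, x⁆ = w * (w⁻¹ * ⁅k, x⁆) := by group
  rw [this]
  exact (fittingOf K).mul_mem hw (hNF h5)

/-- The statement of BG Theorem 3.6 (= S3769) for a fixed ambient group, as a proposition. -/
def BG36 (X : Type*) [Group X] : Prop :=
  ∀ (G : Subgroup X) (_ : Group.IsSolvable G) (_ : Odd (Nat.card G)) (V : Subgroup X) {ℓ : ℕ}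
    (_ : ℓ.Prime) (_ : Cfsg.IsElementaryAbelian ℓ V) (_ : ¬ ℓ ∣ Nat.card G)
    (_ : G ≤ Subgroup.normalizer (V : Set X)) (K R : Subgroup X) (_ : K ≤ G)
    (_ : G ≤ Subgroup.normalizer (K : Set X)) (_ : (Nat.card K).Coprime (K.relIndex G)) (_ : R ≤ G)
    (_ : (Nat.card R).Prime) (_ : K ⊓ R = ⊥) (_ : K ⊔ R = G)
    (_ : V ⊓ Subgroup.centralizer (R : Set X) = ⊥), ⁅R, K⁆ ≤ Subgroup.centralizer (V : Set X)

/-- Application of BG 3.6: an `x`-invariant `ℓ'`-subgroup `H` has `[H, x]` centralizing `V`. -/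
theorem commutator_mem_centralizer_of_invariant {X : Type*} [Group X] [Finite X] [Group.IsSolvable X]
    (hodd : Odd (Nat.card X)) (h36 : BG36 X) {ℓ r : ℕ} (hℓ : ℓ.Prime) (hr : r.Prime) (hℓr : ℓ ≠ r)
    (V : Subgroup X) [V.Normal] (hV : Cfsg.IsElementaryAbelian ℓ V) (x : X) (hx : orderOf x = r)
    (hCV : ∀ v ∈ V, x * v = v * x → v = 1) (H : Subgroup X)
    (hHx : Subgroup.zpowers x ≤ Subgroup.normalizer (H : Set X))
    (hℓH : ¬ ℓ ∣ Nat.card H) (hrH : ¬ r ∣ Nat.card H) :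
    ∀ h ∈ H, ⁅h, x⁆ ∈ Subgroup.centralizer (V : Set X) := by
  set A := Subgroup.zpowers x with hA
  have hAcard : Nat.card A = r := by rw [hA, Nat.card_zpowers, hx]
  have hcop : (Nat.card H).Coprime (Nat.card A) := by
    rw [hAcard]; exact ((Nat.Prime.coprime_iff_not_dvd hr).mpr hrH).symm
  have hdisj : H ⊓ A = ⊥ := (Subgroup.disjoint_of_coprime_natCard hcop).eq_bot
  have hcard : Nat.card ↥(H ⊔ A) = Nat.card H * Nat.card A :=
    Cfsg.Agent.Lib.Helper24_CoprimeHall.card_sup_of_disjoint' A H hHx hdisj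
  have hsolv : Group.IsSolvable ↥(H ⊔ A) := inferInstance
  have hoddG : Odd (Nat.card ↥(H ⊔ A)) := Odd.of_dvd_nat hodd (Subgroup.card_subgroup_dvd_card _)
  have hℓG : ¬ ℓ ∣ Nat.card ↥(H ⊔ A) := by
    rw [hcard, hAcard]
    intro h
    rcases (Nat.Prime.dvd_mul hℓ).mp h with h | h
    · exact hℓH h
    · exact hℓr ((Nat.prime_dvd_prime_iff_eq hℓ hr).mp h)
  have hGV : H ⊔ A ≤ Subgroup.normalizer (V : Set X) := by
    rw [Subgroup.normalizer_eq_top_iff.mpr inferInstance]; exact le_top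
  have hKn : H ⊔ A ≤ Subgroup.normalizer (H : Set X) := sup_le Subgroup.le_normalizer hHx
  have hrel : H.relIndex (H ⊔ A) = Nat.card A := by
    have h1 : Nat.card ↥(H.subgroupOf (H ⊔ A)) * (H.subgroupOf (H ⊔ A)).index = Nat.card ↥(H ⊔ A) :=
      Subgroup.card_mul_index _
    rw [Cfsg.Agent.Lib.Helper24_CoprimeAction.card_subgroupOf_of_le (le_sup_left : H ≤ H ⊔ A), hcard] at h1
    exact Nat.eq_of_mul_eq_mul_left Nat.card_pos h1
  have hHall : (Nat.card H).Coprime (H.relIndex (H ⊔ A)) := by rw [hrel]; exact hcop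
  have hCV' : V ⊓ Subgroup.centralizer (A : Set X) = ⊥ := by
    rw [eq_bot_iff]
    intro v hv
    rw [Subgroup.mem_bot]
    exact hCV v hv.1 (Subgroup.mem_centralizer_iff.mp hv.2 x (Subgroup.mem_zpowers x))
  have hmain := h36 (H ⊔ A) hsolv hoddG V hℓ hV hℓG hGV H A le_sup_left hKn hHall le_sup_right
    (by rw [hAcard]; exact hr) hdisj rfl hCV'
  intro h hh
  have h1 : ⁅x, h⁆ ∈ ⁅A, H⁆ := Subgroup.commutator_mem_commutator (Subgroup.mem_zpowers x) hh
  have h2 : ⁅h, x⁆ = (⁅x, h⁆)⁻¹ := (commutatorElement_inv x h).symm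
  rw [h2]
  exact Subgroup.inv_mem _ (hmain h1)

/-- `Φ(F) ≤ Φ(G)` for a normal subgroup `F` of a finite group `G`. -/
theorem frattini_normal_le {G : Type*} [Group G] [Finite G] (F : Subgroup G) [F.Normal] :
    (frattini ↥F).map F.subtype ≤ frattini G := by
  rw [Cfsg.Agent.Lib.Helper1_Frattini.le_frattini_iff]
  intro M hM
  by_contra hnot
  have hΦn : ((frattini ↥F).map F.subtype).Normal := inferInstance
  have hlt : M < M ⊔ (frattini ↥F).map F.subtype :=
    lt_of_le_of_ne le_sup_left (fun h => hnot (h ▸ le_sup_right))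
  have htop : M ⊔ (frattini ↥F).map F.subtype = ⊤ := hM.2 _ hlt
  have hsub : M.subgroupOf F ⊔ frattini ↥F = ⊤ := by
    rw [eq_top_iff]
    rintro ⟨f, hf⟩ -
    have hfm : f ∈ M ⊔ (frattini ↥F).map F.subtype := htop ▸ Subgroup.mem_top f
    obtain ⟨m, hm, z, hz, hmz⟩ := Subgroup.mem_sup_of_normal_right.mp hfm
    obtain ⟨z', hz', rfl⟩ := hz
    have hmF : m ∈ F := by
      have : m = f * (F.subtype z')⁻¹ := by rw [← hmz]; group
      rw [this]
      exact F.mul_mem hf (F.inv_mem z'.2)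
    have : (⟨f, hf⟩ : ↥F) = ⟨m, hmF⟩ * z' := by
      apply Subtype.ext
      simpa using hmz.symm
    rw [this]
    exact Subgroup.mul_mem_sup (Subgroup.mem_subgroupOf.mpr hm) hz'
  have h1 : M.subgroupOf F = ⊤ := frattini_nongenerating hsub
  rw [Subgroup.subgroupOf_eq_top] at h1
  exact hnot ((Subgroup.map_subtype_le _).trans h1)

/-- With `Φ(K) = 1`, the `ℓ`-core of `K` is elementary abelian. -/
theorem pCore_elementary {K : Type*} [Group K] [Finite K] (hΦ : frattini K = ⊥) (ℓ : ℕ)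
    [Fact ℓ.Prime] :
    (∀ a ∈ pCore ℓ K, ∀ b ∈ pCore ℓ K, a * b = b * a) ∧ ∀ a ∈ pCore ℓ K, a ^ ℓ = 1 := by
  have hP : IsPGroup ℓ ↥(pCore ℓ K) := Cfsg.Agent.Lib.Helper1_Cores.pCore_isPGroup ℓ
  have h0 : frattini ↥(pCore ℓ K) = ⊥ := by
    have h1 := frattini_normal_le (pCore ℓ K)
    rw [hΦ, le_bot_iff] at h1
    exact (Subgroup.map_eq_bot_iff_of_injective _ (pCore ℓ K).subtype_injective).mp h1
  constructor
  · intro a ha b hb
    have h1 := Cfsg.Agent.Lib.Helper1_Frattini.commutator_le_frattini_of_isPGroup hP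
    rw [h0, le_bot_iff] at h1
    have h2 : ⁅(⟨a, ha⟩ : ↥(pCore ℓ K)), ⟨b, hb⟩⁆ ∈ commutator ↥(pCore ℓ K) := by
      rw [commutator_def]
      exact Subgroup.commutator_mem_commutator (Subgroup.mem_top _) (Subgroup.mem_top _)
    rw [h1, Subgroup.mem_bot] at h2
    have h3 := commutatorElement_eq_one_iff_mul_comm.1 h2
    exact congrArg Subtype.val h3
  · intro a ha
    have h1 := Cfsg.Agent.Lib.Helper1_Frattini.pow_mem_frattini_of_isPGroup hP ⟨a, ha⟩
    rw [h0, Subgroup.mem_bot] at h1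
    exact congrArg Subtype.val h1

/-- If `O_p(G) = 1` then `p` does not divide the order of the Fitting subgroup. -/
theorem not_dvd_card_fitting {G : Type*} [Group G] [Finite G] {p : ℕ} [Fact p.Prime]
    (hO : pCore p G = ⊥) : ¬ p ∣ Nat.card (fittingSubgroup G) := by
  intro hdvd
  have hnil : Group.IsNilpotent ↥(fittingSubgroup G) :=
    Cfsg.Agent.Lib.Helper1_Cores.fittingSubgroup_isNilpotent
  have h3 := (Group.isNilpotent_of_finite_tfae (G := ↥(fittingSubgroup G))).out 0 3 |>.mp hnil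
  let P : Sylow p ↥(fittingSubgroup G) := default
  have hPn : (P : Subgroup ↥(fittingSubgroup G)).Normal := h3 p inferInstance P
  have hPc : (P : Subgroup ↥(fittingSubgroup G)).Characteristic := Sylow.characteristic_of_normal P hPn
  have hn : ((P : Subgroup ↥(fittingSubgroup G)).map (fittingSubgroup G).subtype).Normal := inferInstance
  have hp : IsPGroup p ↥((P : Subgroup ↥(fittingSubgroup G)).map (fittingSubgroup G).subtype) :=
    P.isPGroup'.map _
  have hle := Cfsg.Agent.Lib.Helper1_Cores.le_pCore hn hp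
  rw [hO, le_bot_iff] at hle
  have hbot : (P : Subgroup ↥(fittingSubgroup G)) = ⊥ :=
    (Subgroup.map_eq_bot_iff_of_injective _ (fittingSubgroup G).subtype_injective).mp hle
  exact P.ne_bot_of_dvd_card hdvd hbot

/-- A normal subgroup of order prime to `ℓ` lies in every subgroup of `ℓ`-power index. -/
theorem le_of_index_pow {G : Type*} [Group G] [Finite G] {ℓ : ℕ} (F L : Subgroup G) [F.Normal]
    (hF : ¬ ℓ ∣ Nat.card F) (hL : ∀ p : ℕ, p.Prime → p ∣ L.index → p = ℓ) : F ≤ L := by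
  have h1 : Nat.card ↥(L ⊔ F) ∣ Nat.card L * Nat.card F :=
    Cfsg.Agent.Lib.Helper1_Cores.card_sup_dvd L F
  have h2 : Nat.card ↥(L.subgroupOf (L ⊔ F)) * (L.subgroupOf (L ⊔ F)).index = Nat.card ↥(L ⊔ F) :=
    Subgroup.card_mul_index _
  rw [Cfsg.Agent.Lib.Helper24_CoprimeAction.card_subgroupOf_of_le (le_sup_left : L ≤ L ⊔ F)] at h2
  have h3 : L.relIndex (L ⊔ F) ∣ Nat.card F := by
    rw [← h2] at h1
    exact Nat.dvd_of_mul_dvd_mul_left Nat.card_pos h1
  have h4 : L.relIndex (L ⊔ F) ∣ L.index := Subgroup.relIndex_dvd_index_of_le le_sup_left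
  have h5 : L.relIndex (L ⊔ F) = 1 := by
    by_contra hne
    obtain ⟨p, hp, hpd⟩ := Nat.exists_prime_and_dvd hne
    have := hL p hp (hpd.trans h4)
    subst this
    exact hF (hpd.trans h3)
  exact le_sup_right.trans (Subgroup.relIndex_eq_one.mp h5)

/-- With `Φ(K) = 1`, `V = O_ℓ(K)` and `C = C_K(V)`: `O_ℓ(K/C) = 1`. -/
theorem pCore_quot_eq_bot {X : Type*} [Group X] [Finite X] (K : Subgroup X) [K.Normal]
    (hΦ : frattini ↥K = ⊥) (ℓ : ℕ) [Fact ℓ.Prime] (C : Subgroup X) [C.Normal]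
    (hC : C = K ⊓ centralizer (((pCore ℓ ↥K).map K.subtype : Subgroup X) : Set X)) :
    pCore ℓ ↥(K.map (QuotientGroup.mk' C)) = ⊥ := by
  set ρ := QuotientGroup.mk' C with hρ
  set f := ρ.subgroupMap K with hf
  have hfs : Function.Surjective f := ρ.subgroupMap_surjective K
  have hfval : ∀ k : ↥K, ((f k : ↥(K.map ρ)) : X ⧸ C) = ρ (k : X) := fun k => rfl
  -- kernel elements centralize V'
  have hker : ∀ c : ↥K, f c = 1 → c ∈ centralizer ((pCore ℓ ↥K : Subgroup ↥K) : Set ↥K) := by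
    intro c hc
    have h1 : ρ (c : X) = 1 := by rw [← hfval, hc]; rfl
    have h2 : (c : X) ∈ C := by
      rwa [hρ, QuotientGroup.mk'_apply, QuotientGroup.eq_one_iff] at h1
    rw [hC] at h2
    rw [Subgroup.mem_centralizer_iff]
    intro v hv
    apply Subtype.ext
    exact Subgroup.mem_centralizer_iff.mp h2.2 (v : X) (Subgroup.mem_map_of_mem _ hv)
  obtain ⟨hab, -⟩ := pCore_elementary hΦ ℓ
  let Q : Sylow ℓ ↥K := default
  have hTn : ((pCore ℓ ↥(K.map ρ)).comap f).Normal := Subgroup.Normal.comap inferInstance f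
  have hT : ∀ t ∈ (pCore ℓ ↥(K.map ρ)).comap f,
      ∃ c ∈ centralizer ((pCore ℓ ↥K : Subgroup ↥K) : Set ↥K), ∃ s ∈ (Q : Subgroup ↥K), t = c * s := by
    intro t ht
    have h1 : f t ∈ ((Q.mapSurjective hfs : Sylow ℓ ↥(K.map ρ)) : Subgroup ↥(K.map ρ)) :=
      Cfsg.Agent.Lib.Helper1_Cores.pCore_le_sylow ℓ _ ht
    rw [Sylow.coe_mapSurjective] at h1
    obtain ⟨s, hs, hst⟩ := h1
    refine ⟨t * s⁻¹, hker _ ?_, s, hs, by group⟩
    rw [map_mul, map_inv, hst, mul_inv_cancel]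
  have hL := le_centralizer_of_frattini_eq_bot hΦ (pCore ℓ ↥K) hab
    (Cfsg.Agent.Lib.Helper1_Cores.pCore_isPGroup ℓ) (Q : Subgroup ↥K) Q.isPGroup'
    ((pCore ℓ ↥(K.map ρ)).comap f) hT
  rw [eq_bot_iff]
  intro z hz
  obtain ⟨t, rfl⟩ := hfs z
  have htT : t ∈ (pCore ℓ ↥(K.map ρ)).comap f := hz
  have h1 := hL htT
  rw [Subgroup.mem_bot]
  apply Subtype.ext
  rw [hfval]
  change ρ (t : X) = 1
  rw [hρ, QuotientGroup.mk'_apply, QuotientGroup.eq_one_iff, hC]
  refine Subgroup.mem_inf.mpr ⟨t.2, ?_⟩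
  rw [Subgroup.mem_centralizer_iff]
  rintro _ ⟨v, hv, rfl⟩
  have := Subgroup.mem_centralizer_iff.mp h1 v hv
  exact congrArg Subtype.val this

/-- Case B for one prime `ℓ`: `[K, x]` centralizes `O_ℓ(K)` when `Φ(K) = 1`. -/
theorem caseB_prime {X : Type*} [Group X] [Finite X] [Group.IsSolvable X] (hodd : Odd (Nat.card X))
    (h36 : BG36 X) (K : Subgroup X) [hKn : K.Normal] (hΦ : frattini ↥K = ⊥) (x : X) (r : ℕ) (hr : r.Prime)
    (hx : orderOf x = r) (hrK : ¬ r ∣ Nat.card K) (hfix : ∀ y ∈ fittingOf K, x * y = y * x → y = 1)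
    (ℓ : ℕ) [hℓ : Fact ℓ.Prime] :
    ∀ k ∈ K, ⁅k, x⁆ ∈ centralizer (((pCore ℓ ↥K).map K.subtype : Subgroup X) : Set X) := by
  set V := (pCore ℓ ↥K).map K.subtype with hVdef
  have hVn : V.Normal := inferInstance
  have hVK : V ≤ K := Subgroup.map_subtype_le _
  by_cases hV1 : V = ⊥
  · intro k _
    rw [hV1, Subgroup.mem_centralizer_iff]
    intro v hv
    rw [SetLike.mem_coe, Subgroup.mem_bot] at hv
    rw [hv, one_mul, mul_one]
  have hVF : V ≤ fittingOf K :=
    Subgroup.map_mono (Cfsg.Agent.Lib.Helper1_Cores.pCore_le_fittingSubgroup ℓ)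
  have hVp : IsPGroup ℓ V := (Cfsg.Agent.Lib.Helper1_Cores.pCore_isPGroup ℓ).map _
  have hℓK : ℓ ∣ Nat.card K := by
    obtain ⟨n, hn⟩ := IsPGroup.iff_card.mp hVp
    have hn0 : n ≠ 0 := by
      rintro rfl
      rw [pow_zero] at hn
      exact hV1 (Subgroup.card_eq_one.mp hn)
    have h1 : ℓ ∣ Nat.card V := by rw [hn]; exact dvd_pow_self ℓ hn0
    exact h1.trans (Subgroup.card_dvd_of_le hVK)
  have hℓr : ℓ ≠ r := by rintro rfl; exact hrK hℓK
  have hVel : Cfsg.IsElementaryAbelian ℓ V := by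
    obtain ⟨h1, h2⟩ := pCore_elementary hΦ ℓ
    constructor
    · refine ⟨⟨?_⟩⟩
      rintro ⟨_, a, ha, rfl⟩ ⟨_, b, hb, rfl⟩
      apply Subtype.ext
      have := h1 a ha b hb
      change (a : X) * (b : X) = (b : X) * (a : X)
      exact congrArg Subtype.val this
    · rintro _ ⟨a, ha, rfl⟩
      have := h2 a ha
      rw [← map_pow, this, map_one]
  have hCV : ∀ v ∈ V, x * v = v * x → v = 1 := fun v hv => hfix v (hVF hv)
  have hAK : Subgroup.zpowers x ≤ Subgroup.normalizer (K : Set X) := by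
    rw [Subgroup.normalizer_eq_top_iff.mpr inferInstance]; exact le_top
  have hcopAK : (Nat.card ↥(Subgroup.zpowers x)).Coprime (Nat.card K) := by
    rw [Nat.card_zpowers, hx]; exact (Nat.Prime.coprime_iff_not_dvd hr).mpr hrK
  have hsolvK : Group.IsSolvable ↥K := inferInstance
  obtain ⟨K₁, hK₁, hAK₁⟩ := Cfsg.Agent.Lib.Helper24_CoprimeHall.exists_invariant_piHall
    (Subgroup.zpowers x) K hAK hcopAK hsolvK {p | p ≠ ℓ}
  have hℓK₁ : ¬ ℓ ∣ Nat.card K₁ := fun h => hK₁.2.1 ℓ hℓ.out h rfl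
  have hrK₁ : ¬ r ∣ Nat.card K₁ := fun h => hrK (h.trans (Subgroup.card_dvd_of_le hK₁.1))
  have hS := commutator_mem_centralizer_of_invariant hodd h36 hℓ.out hr hℓr V hVel x hx hCV K₁ hAK₁
    hℓK₁ hrK₁
  -- the quotient by `C = C_K(V)`
  set C := K ⊓ centralizer (V : Set X) with hCdef
  have hCn : C.Normal := inferInstance
  set ρ := QuotientGroup.mk' C with hρ
  have hKt : (K.map ρ).Normal := Subgroup.Normal.map hKn ρ (QuotientGroup.mk'_surjective C)
  set f := ρ.subgroupMap K with hf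
  have hfs : Function.Surjective f := ρ.subgroupMap_surjective K
  have hmemC : ∀ g : X, ρ g = 1 ↔ g ∈ C := by
    intro g
    rw [hρ, QuotientGroup.mk'_apply, QuotientGroup.eq_one_iff]
  have hO : pCore ℓ ↥(K.map ρ) = ⊥ := pCore_quot_eq_bot K hΦ ℓ C hCdef
  have hFL : fittingSubgroup ↥(K.map ρ) ≤ (K₁.subgroupOf K).map f := by
    apply le_of_index_pow (ℓ := ℓ)
    · exact not_dvd_card_fitting hO
    · intro p hp hpd
      have h1 : ((K₁.subgroupOf K).map f).index ∣ (K₁.subgroupOf K).index :=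
        Subgroup.index_map_dvd _ hfs
      have h2 : (K₁.subgroupOf K).index = Nat.card K / Nat.card K₁ :=
        Cfsg.Agent.Lib.Helper24_CoprimeHall.relIndex_eq_div hK₁.1
      by_contra hne
      exact hK₁.2.2 p hp hne (h2 ▸ hpd.trans h1)
  let σ : MulAut ↥(K.map ρ) := MulAut.conjNormal (ρ x)
  have hσ : σ = MulEquiv.refl _ := by
    by_contra hne
    refine Cfsg.Agent.S0552.result σ ?_ hne ?_
    · intro z hz
      obtain ⟨h', hh', rfl⟩ := hFL hz
      rw [SetLike.mem_coe, Subgroup.mem_subgroupOf] at hh'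
      have h1 := hS (h' : X) hh'
      have h2 : ⁅(h' : X), x⁆ ∈ C := by
        refine Subgroup.mem_inf.mpr ⟨?_, h1⟩
        have e : ⁅(h' : X), x⁆ = (h' : X) * (x * (h' : X)⁻¹ * x⁻¹) := by
          rw [commutatorElement_def]; group
        rw [e]
        exact K.mul_mem h'.2 (hKn.conj_mem _ (K.inv_mem h'.2) x)
      rw [← hmemC, map_commutatorElement] at h2
      apply Subtype.ext
      rw [MulAut.conjNormal_apply]
      change ρ x * ρ (h' : X) * (ρ x)⁻¹ = ρ (h' : X)
      rw [commutatorElement_eq_one_iff_mul_comm] at h2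
      rw [← h2]
      group
    · have h1 : σ ^ r = 1 := by
        change (MulAut.conjNormal (ρ x)) ^ r = 1
        rw [← map_pow, ← map_pow, ← hx, pow_orderOf_eq_one, map_one, map_one]
      have h2 : orderOf σ ∣ r := orderOf_dvd_of_pow_eq_one h1
      have h3 : ¬ r ∣ Nat.card ↥(K.map ρ) := fun h => hrK (h.trans (Subgroup.card_map_dvd K ρ))
      exact Nat.Coprime.coprime_dvd_left h2 ((Nat.Prime.coprime_iff_not_dvd hr).mpr h3)
  intro k hk
  have h1 : σ ⟨ρ k, Subgroup.mem_map_of_mem ρ hk⟩ = ⟨ρ k, Subgroup.mem_map_of_mem ρ hk⟩ := by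
    rw [hσ]; rfl
  have h2 := congrArg Subtype.val h1
  rw [MulAut.conjNormal_apply] at h2
  have h3 : ρ ⁅k, x⁆ = 1 := by
    rw [map_commutatorElement, commutatorElement_eq_one_iff_mul_comm]
    have h4 : ρ x * ρ k * (ρ x)⁻¹ = ρ k := h2
    calc ρ k * ρ x = (ρ x * ρ k * (ρ x)⁻¹) * ρ x := by rw [h4]
      _ = ρ x * ρ k := by group
  exact ((hmemC _).mp h3).2

/-- Case B: `Φ(K) = 1`. -/
theorem caseB {X : Type*} [Group X] [Finite X] [Group.IsSolvable X] (hodd : Odd (Nat.card X))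
    (h36 : BG36 X) (K : Subgroup X) [hKn : K.Normal] (hΦ : frattini ↥K = ⊥) (x : X) (r : ℕ) (hr : r.Prime)
    (hx : orderOf x = r) (hrK : ¬ r ∣ Nat.card K) (hfix : ∀ y ∈ fittingOf K, x * y = y * x → y = 1) :
    ∀ k ∈ K, ⁅k, x⁆ ∈ fittingOf K := by
  intro k hk
  have hdK : ⁅k, x⁆ ∈ K := by
    have e : ⁅k, x⁆ = k * (x * k⁻¹ * x⁻¹) := by rw [commutatorElement_def]; group
    rw [e]
    exact K.mul_mem hk (hKn.conj_mem _ (K.inv_mem hk) x)
  have hle : (⨆ p : Nat.Primes, pCore (p : ℕ) ↥K) ≤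
      centralizer ({(⟨⁅k, x⁆, hdK⟩ : ↥K)} : Set ↥K) := by
    apply iSup_le
    intro p
    haveI : Fact (p : ℕ).Prime := ⟨p.2⟩
    intro v hv
    rw [Subgroup.mem_centralizer_iff]
    intro d hd
    rw [Set.mem_singleton_iff] at hd
    subst hd
    apply Subtype.ext
    have h1 := caseB_prime hodd h36 K hΦ x r hr hx hrK hfix (p : ℕ) k hk
    exact (Subgroup.mem_centralizer_iff.mp h1 (v : X) (Subgroup.mem_map_of_mem _ hv)).symm
  have hcent : (⟨⁅k, x⁆, hdK⟩ : ↥K) ∈ centralizer ((fittingSubgroup ↥K : Subgroup ↥K) : Set ↥K) := by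
    rw [Subgroup.mem_centralizer_iff]
    intro f hf
    rw [SetLike.mem_coe, Cfsg.Agent.Lib.Helper1_Cores.fittingSubgroup_eq_iSup_pCore] at hf
    exact (Subgroup.mem_centralizer_iff.mp (hle hf) _ rfl).symm
  exact ⟨⟨⁅k, x⁆, hdK⟩, Cfsg.Agent.S0044.result hcent, rfl⟩

/-- **Core theorem** (BG 3.8 for an element of prime order), by induction on `|X|`. -/
theorem core_aux (h36 : ∀ (Y : Type u) [Group Y] [Finite Y], BG36 Y) (n : ℕ) :
    ∀ (X : Type u) [Group X] [Finite X], Group.IsSolvable X → Odd (Nat.card X) → Nat.card X = n →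
    ∀ (K : Subgroup X) [K.Normal] (x : X) (r : ℕ), r.Prime → orderOf x = r → ¬ r ∣ Nat.card K →
    (∀ y ∈ fittingOf K, x * y = y * x → y = 1) → ∀ k ∈ K, ⁅k, x⁆ ∈ fittingOf K := by
  induction n using Nat.strong_induction_on with
  | _ n ih =>
    intro X _ _ hsolv hodd hn K _ x r hr hx hrK hfix
    by_cases hΦ : frattini ↥K = ⊥
    · exact caseB hodd (h36 X) K hΦ x r hr hx hrK hfix
    · set N := (frattini ↥K).map K.subtype with hN
      have hNn : N.Normal := inferInstance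
      have hN1 : N ≠ ⊥ := by
        intro h
        exact hΦ ((Subgroup.map_eq_bot_iff_of_injective _ K.subtype_injective).mp h)
      apply caseA K N hN x r hr hx hrK hfix
      intro h1 h2 h3
      have hcard : Nat.card (X ⧸ N) < n := by
        rw [← hn, Subgroup.card_eq_card_quotient_mul_card_subgroup N]
        have h4 : 1 < Nat.card N := by
          rcases Nat.lt_or_ge 1 (Nat.card N) with h | h
          · exact h
          · exfalso
            apply hN1
            apply Subgroup.card_eq_one.mp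
            have := Nat.card_pos (α := N)
            omega
        have h5 : 0 < Nat.card (X ⧸ N) := Nat.card_pos
        nlinarith
      have hoddq : Odd (Nat.card (X ⧸ N)) := Odd.of_dvd_nat hodd (Subgroup.card_quotient_dvd_card N)
      have hKq : (K.map (QuotientGroup.mk' N)).Normal :=
        Subgroup.Normal.map inferInstance _ (QuotientGroup.mk'_surjective N)
      exact ih _ hcard (X ⧸ N) inferInstance hoddq rfl (K.map (QuotientGroup.mk' N))
        (QuotientGroup.mk' N x) r hr h1 h2 h3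

instance fittingOf_normal {X : Type*} [Group X] (K : Subgroup X) [K.Normal] : (fittingOf K).Normal := by
  unfold fittingOf
  infer_instance

/-- **BG Theorem 3.8** modulo BG 3.6. -/
theorem bg38 (h36 : ∀ (Y : Type u) [Group Y] [Finite Y], BG36 Y) {G : Type u} [Group G] [Finite G]
    [hsolv : Group.IsSolvable G] (hodd : Odd (Nat.card G)) (K R : Subgroup G) [hKn : K.Normal]
    (hcop : (Nat.card K).Coprime (Nat.card R))
    (hprime : ∀ x ∈ R, x ≠ 1 → K ⊓ Subgroup.centralizer ({x} : Set G) = (K ⊓ Subgroup.centralizer (R : Set G)))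
    (hF : Cfsg.fittingOf K ⊓ Subgroup.centralizer (R : Set G) = ⊥) :
    ⁅K, R⁆ ≤ Cfsg.fittingOf K := by
  by_cases hR : R = ⊥
  · rw [hR, Subgroup.commutator_bot_right]; exact bot_le
  -- an element of prime order in `R`
  have hcard : Nat.card R ≠ 1 := fun h => hR (Subgroup.card_eq_one.mp h)
  obtain ⟨r, hr, hrR⟩ := Nat.exists_prime_and_dvd hcard
  haveI : Fact r.Prime := ⟨hr⟩
  obtain ⟨x', hx'⟩ := exists_prime_orderOf_dvd_card' (G := ↥R) r hrR
  set x : G := (x' : G) with hxdef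
  have hx : orderOf x = r := by rw [hxdef, Subgroup.orderOf_coe, hx']
  have hxR : x ∈ R := x'.2
  have hx1 : x ≠ 1 := by
    intro h
    rw [h, orderOf_one] at hx
    exact hr.one_lt.ne hx
  have hrK : ¬ r ∣ Nat.card K := by
    intro h
    have := Nat.dvd_gcd h hrR
    rw [hcop.gcd_eq_one] at this
    exact hr.one_lt.ne' (Nat.dvd_one.mp this)
  have hfix : ∀ y ∈ fittingOf K, x * y = y * x → y = 1 := by
    intro y hy hxy
    have h1 : y ∈ K ⊓ Subgroup.centralizer ({x} : Set G) := by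
      refine Subgroup.mem_inf.mpr ⟨fittingOf_le' K hy, ?_⟩
      rw [Subgroup.mem_centralizer_iff]
      intro z hz
      rw [Set.mem_singleton_iff] at hz
      rw [hz]; exact hxy
    rw [hprime x hxR hx1] at h1
    have h2 : y ∈ fittingOf K ⊓ Subgroup.centralizer (R : Set G) := Subgroup.mem_inf.mpr ⟨hy, h1.2⟩
    rwa [hF, Subgroup.mem_bot] at h2
  have hcore := core_aux h36 (Nat.card G) G hsolv hodd rfl K x r hr hx hrK hfix
  -- `K = C_K(x) F`
  have hcopx : (orderOf x).Coprime (Nat.card K) := by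
    rw [hx]; exact (Nat.Prime.coprime_iff_not_dvd hr).mpr hrK
  have hdecomp : ∀ k ∈ K, ∃ c ∈ K ⊓ Subgroup.centralizer (R : Set G), ∃ f ∈ fittingOf K, k = c * f := by
    intro k hk
    have h1 : x * k * x⁻¹ * k⁻¹ ∈ fittingOf K := by
      have h2 := (fittingOf K).inv_mem (hcore k hk)
      have e : (⁅k, x⁆)⁻¹ = x * k * x⁻¹ * k⁻¹ := by rw [commutatorElement_def]; group
      rwa [e] at h2
    obtain ⟨c, hcK, hcx, hcF⟩ := exists_fixed_in_coset K (fittingOf K) (fittingOf_le' K) x hcopx k hk h1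
    have hc : c ∈ K ⊓ Subgroup.centralizer (R : Set G) := by
      rw [← hprime x hxR hx1]
      refine Subgroup.mem_inf.mpr ⟨hcK, ?_⟩
      rw [Subgroup.mem_centralizer_iff]
      intro z hz
      rw [Set.mem_singleton_iff] at hz
      rw [hz]; exact hcx
    refine ⟨c, hc, c⁻¹ * k, ?_, by group⟩
    have h3 := (fittingOf K).inv_mem hcF
    have e : (k⁻¹ * c)⁻¹ = c⁻¹ * k := by group
    rwa [e] at h3
  rw [Subgroup.commutator_le]
  intro k hk y hy
  obtain ⟨c, hc, f, hf, rfl⟩ := hdecomp k hk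
  have hcy : y * c = c * y := Subgroup.mem_centralizer_iff.mp hc.2 y hy
  have e : ⁅c * f, y⁆ = c * ⁅f, y⁆ * c⁻¹ := by
    rw [commutatorElement_def, commutatorElement_def]
    have e1 : c * f * y * (c * f)⁻¹ * y⁻¹ = c * f * y * f⁻¹ * (c⁻¹ * y⁻¹) := by group
    have e2 : c⁻¹ * y⁻¹ = y⁻¹ * c⁻¹ := by
      rw [← mul_inv_rev, ← mul_inv_rev, hcy]
    rw [e1, e2]
    group
  rw [e]
  apply (fittingOf_normal K).conj_mem
  have e3 : ⁅f, y⁆ = f * (y * f⁻¹ * y⁻¹) := by rw [commutatorElement_def]; group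
  rw [e3]
  exact (fittingOf K).mul_mem hf ((fittingOf_normal K).conj_mem _ ((fittingOf K).inv_mem hf) y)

end Cfsg.Agent.Lib.Helper52_PrimeAct
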