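import Mathlib

/-!
# Representations of extraspecial type (helper71)

Linear core for Hall--Higman / Shult type fixed point theorems.

* `burnside`: a subalgebra of `End K U` acting irreducibly (`K` algebraically closed) is everything.
* `ESRep ρ`: the images `ρ g` commute up to scalars and an image commuting with all images is scalar.
* `ESRep.indep_on`: images of elements in distinct cosets of the scalar subgroup are linearly
  independent (even when evaluated on a non-zero invariant subspace).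
-/

set_option autoImplicit false
set_option linter.unusedSectionVars false

namespace Cfsg.Agent.Lib.Helper71_ESLinear

open Module

variable {K : Type*} [Field K] {U : Type*} [AddCommGroup U] [Module K U]

theorem burnside [IsAlgClosed K] [FiniteDimensional K U] [Nontrivial U]
    (A : Subalgebra K (End K U))
    (hirr : ∀ W : Submodule K U, (∀ a ∈ A, ∀ w ∈ W, a w ∈ W) → W = ⊥ ∨ W = ⊤) :
    A = ⊤ := by
  have : IsSimpleModule A U := by
    rw [isSimpleModule_iff]
    refine { exists_pair_ne := ⟨⊥, ⊤, bot_ne_top⟩, eq_bot_or_eq_top := ?_ }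
    intro N
    let W : Submodule K U :=
      { carrier := N
        add_mem' := N.add_mem
        zero_mem' := N.zero_mem
        smul_mem' := by
          intro c u hu
          have : c • u = (algebraMap K A c) • u := by
            rw [algebraMap_smul]
          rw [this]
          exact N.smul_mem _ hu }
    have hW : ∀ u, u ∈ W ↔ u ∈ N := fun u => Iff.rfl
    rcases hirr W (fun a ha w hw => N.smul_mem ⟨a, ha⟩ hw) with h | h
    · left
      ext u
      rw [← hW, h]; simp
    · right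
      ext u
      rw [← hW, h]; simp
  have hb := IsSimpleModule.algebraMap_end_bijective_of_isAlgClosed (A := A) (V := U) K
  have : Module.Finite (End A U) U := by
    have : Module.Finite K U := inferInstance
    exact Module.Finite.of_restrictScalars_finite K (End A U) U
  have surj := Module.Finite.toModuleEnd_moduleEnd_surjective (R := A) (M := U)
  rw [eq_top_iff]
  intro f _
  let f' : End (End A U) U :=
    { toFun := f
      map_add' := f.map_add
      map_smul' := by
        intro g u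
        obtain ⟨c, rfl⟩ := hb.2 g
        simp }
  obtain ⟨a, ha⟩ := surj f'
  have : (a : End K U) = f := by
    ext u
    have := congrArg (fun φ : End (End A U) U => φ u) ha
    exact this
  rw [← this]
  exact a.2


/-- scalar endomorphisms -/
def IsSc (f : End K U) : Prop := ∃ c : K, f = c • (1 : End K U)

theorem isSc_one : IsSc (1 : End K U) := ⟨1, by simp⟩

theorem IsSc.mul {f g : End K U} (hf : IsSc f) (hg : IsSc g) : IsSc (f * g) := by
  obtain ⟨c, rfl⟩ := hf
  obtain ⟨d, rfl⟩ := hg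
  exact ⟨c * d, by simp [smul_smul, mul_comm]⟩

theorem IsSc.commute {f : End K U} (hf : IsSc f) (g : End K U) : Commute f g := by
  obtain ⟨c, rfl⟩ := hf
  show (c • (1 : End K U)) * g = g * (c • 1)
  simp

variable {Q : Type*} [Group Q]

theorem rho_mul_inv (ρ : Representation K Q U) (g : Q) : ρ g * ρ g⁻¹ = 1 := by
  rw [← map_mul, mul_inv_cancel, map_one]

theorem rho_inv_mul (ρ : Representation K Q U) (g : Q) : ρ g⁻¹ * ρ g = 1 := by
  rw [← map_mul, inv_mul_cancel, map_one]

theorem rho_injective (ρ : Representation K Q U) (g : Q) : Function.Injective (ρ g) := by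
  intro u v h
  have := congrArg (ρ g⁻¹) h
  rwa [← Module.End.mul_apply, ← Module.End.mul_apply, rho_inv_mul] at this

theorem rho_ne_zero [Nontrivial U] (ρ : Representation K Q U) (g : Q) : ρ g ≠ 0 := by
  intro h
  obtain ⟨u, hu⟩ := exists_ne (0 : U)
  apply hu
  apply rho_injective ρ g
  rw [h]; simp

def scSubgroup (ρ : Representation K Q U) : Subgroup Q where
  carrier := {g | IsSc (ρ g)}
  one_mem' := by
    show IsSc (ρ 1)
    rw [map_one]; exact isSc_one
  mul_mem' := by
    intro a b ha hb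
    show IsSc (ρ (a * b))
    rw [map_mul]; exact IsSc.mul ha hb
  inv_mem' := by
    intro a ha
    obtain ⟨c, hc⟩ := ha
    show IsSc (ρ a⁻¹)
    by_cases h0 : c = 0
    · refine ⟨0, ?_⟩
      have h1 : ρ a = 0 := by rw [hc, h0, zero_smul]
      have : (1 : End K U) = 0 := by rw [← rho_inv_mul ρ a, h1, mul_zero]
      rw [zero_smul, ← mul_one (ρ a⁻¹), this, mul_zero]
    · refine ⟨c⁻¹, ?_⟩
      have h1 : ρ a⁻¹ * ρ a = 1 := rho_inv_mul ρ a
      rw [hc] at h1
      have : c • ρ a⁻¹ = 1 := by simpa using h1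
      calc ρ a⁻¹ = c⁻¹ • (c • ρ a⁻¹) := by rw [smul_smul, inv_mul_cancel₀ h0, one_smul]
        _ = c⁻¹ • 1 := by rw [this]

theorem mem_scSubgroup (ρ : Representation K Q U) (g : Q) : g ∈ scSubgroup ρ ↔ IsSc (ρ g) := Iff.rfl

instance scSubgroup_normal (ρ : Representation K Q U) : (scSubgroup ρ).Normal := by
  constructor
  intro n hn g
  obtain ⟨c, hc⟩ := hn
  refine ⟨c, ?_⟩
  rw [map_mul, map_mul, hc]
  simp only [Algebra.mul_smul_comm, mul_one]
  rw [smul_mul_assoc, rho_mul_inv]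

/-- `ρ` is of extraspecial type: images commute up to scalars, and an image commuting with all
images is a scalar. -/
structure ESRep (ρ : Representation K Q U) : Prop where
  comm : ∀ g h : Q, ∃ c : K, ρ g * ρ h = c • (ρ h * ρ g)
  nondeg : ∀ g : Q, (∀ h : Q, Commute (ρ g) (ρ h)) → IsSc (ρ g)

theorem ESRep.indep_on {ρ : Representation K Q U} (hρ : ESRep ρ) (W : Submodule K U)
    (hW : ∀ g, ∀ w ∈ W, ρ g w ∈ W) (hW0 : W ≠ ⊥) {ι : Type*} (g : ι → Q)
    (hg : ∀ i j, (g i)⁻¹ * g j ∈ scSubgroup ρ → i = j) (s : Finset ι) :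
    ∀ (c : ι → K), (∀ w ∈ W, ∑ i ∈ s, c i • ρ (g i) w = 0) → ∀ i ∈ s, c i = 0 := by
  classical
  obtain ⟨w₀, hw₀W, hw₀⟩ := (Submodule.ne_bot_iff W).1 hW0
  have : Nontrivial U := ⟨⟨w₀, 0, hw₀⟩⟩
  induction s using Finset.strongInduction with
  | H s ih =>
    intro c hc
    by_contra hcon
    push Not at hcon
    obtain ⟨i₀, hi₀, hci₀⟩ := hcon
    -- all other coefficients vanish
    have hother : ∀ j ∈ s, j ≠ i₀ → c j = 0 := by
      intro j hj hji
      by_contra hcj
      have hnotin : (g i₀)⁻¹ * g j ∉ scSubgroup ρ := fun h => hji (hg i₀ j h).symm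
      have : ¬ ∀ h : Q, Commute (ρ ((g i₀)⁻¹ * g j)) (ρ h) := fun h => hnotin (hρ.nondeg _ h)
      push Not at this
      obtain ⟨h, hh⟩ := this
      choose κ hκ using fun i => hρ.comm h (g i)
      -- conjugated relation
      have hrel2 : ∀ w ∈ W, ∑ i ∈ s, (c i * κ i) • ρ (g i) w = 0 := by
        intro w hw
        have h1 := hc (ρ h⁻¹ w) (hW _ _ hw)
        have h2 := congrArg (ρ h) h1
        rw [map_zero, map_sum] at h2
        rw [← h2]
        apply Finset.sum_congr rfl
        intro i _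
        rw [map_smul, ← Module.End.mul_apply, ← Module.End.mul_apply, hκ i, mul_smul,
          smul_mul_assoc, mul_assoc, rho_mul_inv, mul_one, LinearMap.smul_apply]
      have hrel3 : ∀ w ∈ W, ∑ i ∈ s.erase i₀, (c i * (κ i - κ i₀)) • ρ (g i) w = 0 := by
        intro w hw
        have h1 := hrel2 w hw
        have h2 := hc w hw
        have h3 : ∑ i ∈ s, (c i * (κ i - κ i₀)) • ρ (g i) w = 0 := by
          have : ∀ i ∈ s, (c i * (κ i - κ i₀)) • ρ (g i) w
              = (c i * κ i) • ρ (g i) w - κ i₀ • (c i • ρ (g i) w) := by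
            intro i _
            rw [smul_smul, ← sub_smul]; congr 1; ring
          rw [Finset.sum_congr rfl this, Finset.sum_sub_distrib, ← Finset.smul_sum, h1, h2]
          simp
        rw [← Finset.add_sum_erase s _ hi₀] at h3
        simpa using h3
      have h4 := ih (s.erase i₀) (Finset.erase_ssubset hi₀) _ hrel3 j
        (Finset.mem_erase.2 ⟨hji, hj⟩)
      have hκeq : κ j = κ i₀ := by
        rcases mul_eq_zero.1 h4 with h5 | h5
        · exact absurd h5 hcj
        · exact sub_eq_zero.1 h5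
      -- now derive commutation
      apply hh
      have hκ0 : κ i₀ ≠ 0 := by
        intro h0
        have := hκ i₀
        rw [h0, zero_smul, ← map_mul] at this
        exact rho_ne_zero ρ _ this
      have e1 : ρ (g i₀) * ρ h = (κ i₀)⁻¹ • (ρ h * ρ (g i₀)) := by
        rw [hκ i₀, smul_smul, inv_mul_cancel₀ hκ0, one_smul]
      have e2 : ρ h * ρ (g i₀)⁻¹ = (κ i₀)⁻¹ • (ρ (g i₀)⁻¹ * ρ h) := by
        have : ρ (g i₀)⁻¹ * (ρ (g i₀) * ρ h) * ρ (g i₀)⁻¹
            = ρ (g i₀)⁻¹ * ((κ i₀)⁻¹ • (ρ h * ρ (g i₀))) * ρ (g i₀)⁻¹ := by rw [e1]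
        rw [← mul_assoc, rho_inv_mul, one_mul] at this
        rw [this]
        simp only [Algebra.mul_smul_comm, Algebra.smul_mul_assoc]
        rw [mul_assoc, mul_assoc, rho_mul_inv, mul_one]
      show ρ ((g i₀)⁻¹ * g j) * ρ h = ρ h * ρ ((g i₀)⁻¹ * g j)
      rw [map_mul, ← mul_assoc (ρ h), e2, mul_assoc]
      have e3 : ρ (g j) * ρ h = (κ i₀)⁻¹ • (ρ h * ρ (g j)) := by
        rw [hκ j, hκeq, smul_smul, inv_mul_cancel₀ hκ0, one_smul]
      rw [e3]
      simp only [Algebra.mul_smul_comm, Algebra.smul_mul_assoc, mul_assoc]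
    -- so the relation reduces to a single term
    have h1 := hc w₀ hw₀W
    rw [← Finset.add_sum_erase s _ hi₀] at h1
    have h2 : ∑ i ∈ s.erase i₀, c i • ρ (g i) w₀ = 0 := by
      apply Finset.sum_eq_zero
      intro i hi
      rw [hother i (Finset.mem_of_mem_erase hi) (Finset.ne_of_mem_erase hi), zero_smul]
    rw [h2, add_zero] at h1
    rcases smul_eq_zero.1 h1 with h3 | h3
    · exact hci₀ h3
    · apply hw₀
      apply rho_injective ρ (g i₀)
      rw [h3, map_zero]


theorem ESRep.linearIndependent [Nontrivial U] {ρ : Representation K Q U} (hρ : ESRep ρ)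
    {ι : Type*} (g : ι → Q) (hg : ∀ i j, (g i)⁻¹ * g j ∈ scSubgroup ρ → i = j) :
    LinearIndependent K (fun i => ρ (g i)) := by
  rw [linearIndependent_iff']
  intro s c hc i hi
  refine hρ.indep_on ⊤ (fun _ _ _ => Submodule.mem_top) top_ne_bot g hg s c ?_ i hi
  intro w _
  have := congrArg (fun f : End K U => f w) hc
  simpa using this

/-- irreducibility of a representation, in elementary terms -/
def Irr (ρ : Representation K Q U) : Prop :=
  ∀ W : Submodule K U, (∀ g, ∀ w ∈ W, ρ g w ∈ W) → W = ⊥ ∨ W = ⊤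

theorem span_range_eq_top [IsAlgClosed K] [FiniteDimensional K U] [Nontrivial U]
    {ρ : Representation K Q U} (hirr : Irr ρ) :
    Submodule.span K (Set.range ρ) = ⊤ := by
  have h1 : Algebra.adjoin K (Set.range ρ) = ⊤ := by
    apply burnside
    intro W hW
    apply hirr W
    intro g w hw
    exact hW (ρ g) (Algebra.subset_adjoin ⟨g, rfl⟩) w hw
  have h2 := Algebra.adjoin_eq_span (R := K) (s := Set.range ρ)
  have h3 : (Submonoid.closure (Set.range ρ) : Set (End K U)) = Set.range ρ := by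
    have : Set.range ρ = ((MonoidHom.mrange ρ : Submonoid (End K U)) : Set (End K U)) := by
      ext; simp
    rw [this, Submonoid.closure_eq]
  rw [h3, h1] at h2
  rw [← h2]
  simp

theorem ESRep.span_out_eq_top [IsAlgClosed K] [FiniteDimensional K U] [Nontrivial U]
    {ρ : Representation K Q U} (hirr : Irr ρ) :
    Submodule.span K (Set.range fun q : Q ⧸ scSubgroup ρ => ρ q.out) = ⊤ := by
  rw [eq_top_iff, ← span_range_eq_top hirr, Submodule.span_le]
  rintro _ ⟨g, rfl⟩
  have hz : ((g : Q ⧸ scSubgroup ρ).out)⁻¹ * g ∈ scSubgroup ρ := by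
    rw [← QuotientGroup.eq]
    exact QuotientGroup.out_eq' _
  obtain ⟨c, hc⟩ := hz
  have : ρ g = c • ρ ((g : Q ⧸ scSubgroup ρ).out) := by
    have e : g = (g : Q ⧸ scSubgroup ρ).out * (((g : Q ⧸ scSubgroup ρ).out)⁻¹ * g) := by group
    conv_lhs => rw [e, map_mul, hc]
    simp
  rw [SetLike.mem_coe, this]
  exact Submodule.smul_mem _ _ (Submodule.subset_span ⟨_, rfl⟩)

theorem ESRep.card_quot [IsAlgClosed K] [FiniteDimensional K U] [Nontrivial U] [Finite Q]
    {ρ : Representation K Q U} (hρ : ESRep ρ) (hirr : Irr ρ) :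
    Nat.card (Q ⧸ scSubgroup ρ) = (finrank K U) ^ 2 := by
  classical
  have := Fintype.ofFinite (Q ⧸ scSubgroup ρ)
  have hli : LinearIndependent K (fun q : Q ⧸ scSubgroup ρ => ρ q.out) := by
    apply hρ.linearIndependent
    intro i j hij
    rw [← QuotientGroup.eq] at hij
    simpa using hij
  have hsp := ESRep.span_out_eq_top (ρ := ρ) hirr
  let b : Basis (Q ⧸ scSubgroup ρ) K (End K U) := Basis.mk hli hsp.ge
  rw [Nat.card_eq_fintype_card, ← Module.finrank_eq_card_basis b, Module.finrank_linearMap, sq]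


/-- an eigenbasis for an endomorphism of finite order prime to the characteristic -/
theorem exists_eigenbasis [IsAlgClosed K] [FiniteDimensional K U] {r : ℕ}
    (hrK : (r : K) ≠ 0) (t : End K U) (ht : t ^ r = 1) :
    ∃ (ι : Type) (_ : Fintype ι) (b : Basis ι K U) (ev : ι → K), ∀ i, t (b i) = ev i • b i := by
  classical
  have hsep : (Polynomial.X ^ r - Polynomial.C (1 : K)).Separable :=
    Polynomial.separable_X_pow_sub_C (1 : K) hrK one_ne_zero
  have hss : t.IsSemisimple := by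
    refine Module.End.isSemisimple_of_squarefree_aeval_eq_zero hsep.squarefree ?_
    simp [ht]
  have hind : iSupIndep t.eigenspace := Module.End.eigenspaces_iSupIndep t
  have htop : ⨆ μ : K, t.eigenspace μ = ⊤ := by
    have h := Module.End.iSup_maxGenEigenspace_eq_top t
    have : ∀ μ, t.maxGenEigenspace μ = t.eigenspace μ := fun μ =>
      hss.isFinitelySemisimple.maxGenEigenspace_eq_eigenspace μ
    simpa [this] using h
  have hint := DirectSum.isInternal_submodule_of_iSupIndep_of_iSup_eq_top hind htop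
  let v : ∀ μ : K, Basis (Fin (finrank K (t.eigenspace μ))) K (t.eigenspace μ) :=
    fun μ => Module.finBasis K _
  let b := hint.collectedBasis v
  have hfin : Finite (Σ μ : K, Fin (finrank K (t.eigenspace μ))) := Module.Finite.finite_basis b
  have hft := Fintype.ofFinite (Σ μ : K, Fin (finrank K (t.eigenspace μ)))
  -- transport to a `Type`-valued index
  let e := (Fintype.equivFin (Σ μ : K, Fin (finrank K (t.eigenspace μ))))
  refine ⟨Fin (Fintype.card (Σ μ : K, Fin (finrank K (t.eigenspace μ)))), inferInstance,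
    b.reindex e, fun i => (e.symm i).1, ?_⟩
  intro i
  have hmem := hint.collectedBasis_mem v (e.symm i)
  rw [Module.End.mem_eigenspace_iff] at hmem
  simpa [b] using hmem


/-- counting lemma: Cauchy--Schwarz for the fibres of a map into a set of size `≤ m` -/
theorem sq_card_le_mul_card_pairs {ι : Type*} [Fintype ι] {κ : Type*} [DecidableEq κ]
    (ev : ι → κ) (Λ : Finset κ) (hΛ : ∀ i, ev i ∈ Λ) :
    (Fintype.card ι) ^ 2 ≤ Λ.card * Fintype.card {p : ι × ι // ev p.1 = ev p.2} := by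
  classical
  have h1 : Fintype.card ι = ∑ ω ∈ Λ, (Finset.univ.filter fun i => ev i = ω).card := by
    rw [← Finset.card_univ]
    exact Finset.card_eq_sum_card_fiberwise (fun i _ => hΛ i)
  have h2 : Fintype.card {p : ι × ι // ev p.1 = ev p.2}
      = ∑ ω ∈ Λ, ((Finset.univ.filter fun i => ev i = ω).card) ^ 2 := by
    rw [Fintype.card_subtype]
    rw [Finset.card_eq_sum_card_fiberwise (f := fun p : ι × ι => ev p.1) (t := Λ)
      (fun p _ => hΛ p.1)]
    apply Finset.sum_congr rfl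
    intro ω _
    rw [sq, ← Finset.card_product]
    congr 1
    ext ⟨i, j⟩
    simp only [Finset.mem_filter, Finset.mem_univ, true_and, Finset.mem_product]
    constructor
    · rintro ⟨h, h'⟩
      exact ⟨h', h ▸ h'⟩
    · rintro ⟨h, h'⟩
      exact ⟨h.trans h'.symm, h⟩
  rw [h1, h2]
  exact sq_sum_le_card_mul_sum_sq

theorem sq_finrank_le [IsAlgClosed K] [FiniteDimensional K U] {r : ℕ} (hr : 0 < r)
    (hrK : (r : K) ≠ 0) (t : End K U) (ht : t ^ r = 1) (hfix : ∀ u, t u = u → u = 0) :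
    (finrank K U) ^ 2 ≤ (r - 1) * finrank K (Subalgebra.centralizer K ({t} : Set (End K U))) := by
  classical
  obtain ⟨ι, _, b, ev, hb⟩ := exists_eigenbasis hrK t ht
  -- eigenvalues are nontrivial `r`-th roots of unity
  have hpow : ∀ i, ev i ^ r = 1 := by
    intro i
    have h1 : (t ^ r) (b i) = ev i ^ r • b i := by
      have : ∀ n : ℕ, (t ^ n) (b i) = ev i ^ n • b i := by
        intro n
        induction n with
        | zero => simp
        | succ n ih => rw [pow_succ', Module.End.mul_apply, ih, map_smul, hb, smul_smul, pow_succ]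
      exact this r
    rw [ht, Module.End.one_apply] at h1
    have h2 : (ev i ^ r - 1) • b i = 0 := by rw [sub_smul, ← h1, one_smul, sub_self]
    rcases smul_eq_zero.1 h2 with h3 | h3
    · exact sub_eq_zero.1 h3
    · exact absurd h3 (b.ne_zero i)
  have hne1 : ∀ i, ev i ≠ 1 := by
    intro i h1
    apply b.ne_zero i
    apply hfix
    rw [hb, h1, one_smul]
  let Λ : Finset K := (Polynomial.nthRootsFinset r (1 : K)).erase 1
  have hΛ : ∀ i, ev i ∈ Λ := by
    intro i
    rw [Finset.mem_erase]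
    exact ⟨hne1 i, (Polynomial.mem_nthRootsFinset hr 1).2 (hpow i)⟩
  have hΛcard : Λ.card ≤ r - 1 := by
    have h1 : (1 : K) ∈ Polynomial.nthRootsFinset r (1 : K) :=
      (Polynomial.mem_nthRootsFinset hr 1).2 (one_pow r)
    rw [Finset.card_erase_of_mem h1]
    have h2 : (Polynomial.nthRootsFinset r (1 : K)).card ≤ r := by
      unfold Polynomial.nthRootsFinset
      exact (Multiset.toFinset_card_le _).trans (Polynomial.card_nthRoots r 1)
    omega
  have hcount := sq_card_le_mul_card_pairs ev Λ hΛ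
  -- matrix units
  let E : Basis (ι × ι) K (End K U) := b.linearMap b
  let P := {p : ι × ι // ev p.1 = ev p.2}
  have hEcomm : ∀ p : P, E p.1 ∈ Subalgebra.centralizer K ({t} : Set (End K U)) := by
    intro p
    rw [Subalgebra.mem_centralizer_iff]
    intro g hg
    rw [Set.mem_singleton_iff] at hg
    subst hg
    apply b.ext
    intro k
    rw [Module.End.mul_apply, Module.End.mul_apply, hb, map_smul]
    show g ((b.linearMap b p.1) (b k)) = ev k • (b.linearMap b p.1) (b k)
    rw [Basis.linearMap_apply_apply]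
    split_ifs with h
    · rw [hb, p.2, h]
    · simp
  have hli : LinearIndependent K (fun p : P => (⟨E p.1, hEcomm p⟩ :
      Subalgebra.centralizer K ({t} : Set (End K U)))) := by
    apply LinearIndependent.of_comp (Subalgebra.centralizer K ({t} : Set (End K U))).val.toLinearMap
    exact E.linearIndependent.comp Subtype.val Subtype.val_injective
  have hcard : Fintype.card P ≤ finrank K (Subalgebra.centralizer K ({t} : Set (End K U))) :=
    hli.fintype_card_le_finrank
  have hd : finrank K U = Fintype.card ι := Module.finrank_eq_card_basis b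
  rw [hd]
  calc (Fintype.card ι) ^ 2 ≤ Λ.card * Fintype.card P := hcount
    _ ≤ (r - 1) * finrank K (Subalgebra.centralizer K ({t} : Set (End K U))) :=
      Nat.mul_le_mul hΛcard hcard


/-- the averaging (trace) operator for conjugation by `t` with `t ^ r = 1` -/
def avg (r : ℕ) (t : End K U) : End K U →ₗ[K] End K U :=
  ∑ k ∈ Finset.range r, (LinearMap.mulLeft K (t ^ k)).comp (LinearMap.mulRight K (t ^ (r - k)))

theorem avg_apply (r : ℕ) (t f : End K U) :
    avg r t f = ∑ k ∈ Finset.range r, t ^ k * f * t ^ (r - k) := by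
  simp [avg, mul_assoc]

theorem avg_of_commute {r : ℕ} {t f : End K U} (ht : t ^ r = 1) (hf : Commute t f) :
    avg r t f = (r : K) • f := by
  rw [avg_apply]
  have : ∀ k ∈ Finset.range r, t ^ k * f * t ^ (r - k) = f := by
    intro k hk
    rw [Finset.mem_range] at hk
    rw [(hf.pow_left k).eq, mul_assoc, ← pow_add, Nat.add_sub_cancel' hk.le, ht, mul_one]
  rw [Finset.sum_congr rfl this]
  simp [Nat.cast_smul_eq_nsmul]

theorem avg_conj {r : ℕ} (hr : 0 < r) {t : End K U} (ht : t ^ r = 1) (f : End K U) :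
    avg r t (t * f * t ^ (r - 1)) = avg r t f := by
  rw [avg_apply, avg_apply]
  -- shift the index
  have h1 : ∀ k ∈ Finset.range r, t ^ k * (t * f * t ^ (r - 1)) * t ^ (r - k)
      = t ^ (k + 1) * f * t ^ (r - (k + 1)) * t ^ r := by
    intro k hk
    rw [Finset.mem_range] at hk
    have e1 : t ^ (r - 1) * t ^ (r - k) = t ^ (r - (k + 1)) * t ^ r := by
      rw [← pow_add, ← pow_add]; congr 1; omega
    calc t ^ k * (t * f * t ^ (r - 1)) * t ^ (r - k)
        = (t ^ k * t) * f * (t ^ (r - 1) * t ^ (r - k)) := by simp only [mul_assoc]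
      _ = t ^ (k + 1) * f * t ^ (r - (k + 1)) * t ^ r := by
        rw [e1, ← pow_succ]; simp only [mul_assoc]
  rw [Finset.sum_congr rfl h1]
  simp only [ht, mul_one]
  have e1 := Finset.sum_range_succ' (fun k => t ^ k * f * t ^ (r - k)) r
  have e2 := Finset.sum_range_succ (fun k => t ^ k * f * t ^ (r - k)) r
  have e3 : t ^ r * f * t ^ (r - r) = t ^ 0 * f * t ^ (r - 0) := by
    simp [ht]
  rw [e2, e3] at e1
  exact (add_right_cancel e1).symm


/-- orbit counting: a group of order `r` acting so that every non-identity element has exactly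
one fixed point -/
theorem card_orbits_mul {G₀ S : Type*} [Group G₀] [Finite G₀] [Finite S] [MulAction G₀ S] {r : ℕ}
    (hcard : Nat.card G₀ = r)
    (hfix : ∀ a : G₀, a ≠ 1 → Nat.card (MulAction.fixedBy S a) = 1) :
    Nat.card (MulAction.orbitRel.Quotient G₀ S) * r = Nat.card S + (r - 1) := by
  classical
  have := Fintype.ofFinite G₀
  have := Fintype.ofFinite S
  have : ∀ a : G₀, Fintype (MulAction.fixedBy S a) := fun a => Fintype.ofFinite _
  have : Fintype (Quotient (MulAction.orbitRel G₀ S)) := Fintype.ofFinite _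
  have hB := MulAction.sum_card_fixedBy_eq_card_orbits_mul_card_group G₀ S
  have h1 : ∑ a : G₀, Fintype.card (MulAction.fixedBy S a)
      = Fintype.card S + (Fintype.card G₀ - 1) := by
    rw [← Finset.add_sum_erase Finset.univ _ (Finset.mem_univ (1 : G₀))]
    congr 1
    · rw [← Nat.card_eq_fintype_card, ← Nat.card_eq_fintype_card]
      apply Nat.card_congr
      refine ⟨fun x => x.1, fun s => ⟨s, by simp⟩, fun x => rfl, fun s => rfl⟩
    · have : ∀ a ∈ Finset.univ.erase (1 : G₀), Fintype.card (MulAction.fixedBy S a) = 1 := by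
        intro a ha
        rw [← Nat.card_eq_fintype_card]
        exact hfix a (Finset.ne_of_mem_erase ha)
      rw [Finset.sum_congr rfl this]
      simp
  rw [h1] at hB
  rw [Nat.card_eq_fintype_card] at hcard
  rw [hcard] at hB
  rw [Nat.card_eq_fintype_card, ← hB]
  show _ = Nat.card S + (r - 1)
  rw [Nat.card_eq_fintype_card]


theorem arith_fpf (d r ω c : ℕ) (hr : r.Prime) (hd1 : 1 ≤ d) (hdne1 : d ≠ 1)
    (horb : ω * r = d ^ 2 + (r - 1)) (hsq : d ^ 2 ≤ (r - 1) * c) (hc : c ≤ ω) : d + 1 = r := by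
  have hr2 : 2 ≤ r := hr.two_le
  have h1 : d ^ 2 * r ≤ (r - 1) * (d ^ 2 + (r - 1)) := by
    calc d ^ 2 * r ≤ ((r - 1) * c) * r := Nat.mul_le_mul_right r hsq
      _ ≤ ((r - 1) * ω) * r := by
        apply Nat.mul_le_mul_right
        exact Nat.mul_le_mul_left _ hc
      _ = (r - 1) * (ω * r) := by ring
      _ = (r - 1) * (d ^ 2 + (r - 1)) := by rw [horb]
  have h4 : r ∣ d ^ 2 + (r - 1) := ⟨ω, by rw [← horb]; ring⟩
  obtain ⟨s, rfl⟩ : ∃ s, r = s + 1 := ⟨r - 1, by omega⟩
  obtain ⟨e', rfl⟩ : ∃ e', d = e' + 1 := ⟨d - 1, by omega⟩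
  simp only [Nat.add_sub_cancel] at h1 h4 ⊢
  have h2 : (e' + 1) ^ 2 ≤ s ^ 2 := by nlinarith
  have h3 : e' + 1 ≤ s := by
    by_contra hcon
    push Not at hcon
    have : s ^ 2 < (e' + 1) ^ 2 := Nat.pow_lt_pow_left hcon (by norm_num)
    omega
  have h5 : (s + 1) ∣ e' * (e' + 2) := by
    have e : e' * (e' + 2) + (s + 1) = (e' + 1) ^ 2 + s := by ring
    rw [← e] at h4
    exact (Nat.dvd_add_left (dvd_refl (s + 1))).1 h4
  rcases (Nat.Prime.dvd_mul hr).1 h5 with h6 | h6
  · exfalso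
    have : e' = 0 := Nat.eq_zero_of_dvd_of_lt h6 (by omega)
    omega
  · have h7 : s + 1 ≤ e' + 2 := Nat.le_of_dvd (by omega) h6
    omega


section
variable {ρ : Representation K Q U} {r : ℕ} {t : End K U} (σ : MulAut Q)

theorem t_mul_pow_pred (hr : 0 < r) (ht : t ^ r = 1) : t * t ^ (r - 1) = 1 := by
  rw [← pow_succ', Nat.sub_add_cancel hr, ht]

theorem pow_pred_mul_t (hr : 0 < r) (ht : t ^ r = 1) : t ^ (r - 1) * t = 1 := by
  rw [← pow_succ, Nat.sub_add_cancel hr, ht]

theorem rho_sigma (hr : 0 < r) (ht : t ^ r = 1) (hσ : ∀ g, t * ρ g = ρ (σ g) * t) (g : Q) :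
    ρ (σ g) = t * ρ g * t ^ (r - 1) := by
  rw [hσ g, mul_assoc, t_mul_pow_pred hr ht, mul_one]

theorem rho_sigma_symm (hr : 0 < r) (ht : t ^ r = 1) (hσ : ∀ g, t * ρ g = ρ (σ g) * t) (g : Q) :
    ρ (σ⁻¹ g) = t ^ (r - 1) * ρ g * t := by
  have h := hσ (σ⁻¹ g)
  rw [MulAut.apply_inv_self] at h
  rw [mul_assoc, ← h, ← mul_assoc, pow_pred_mul_t hr ht, one_mul]

theorem sigma_mem_sc (hr : 0 < r) (ht : t ^ r = 1) (hσ : ∀ g, t * ρ g = ρ (σ g) * t) (g : Q)
    (hg : g ∈ scSubgroup ρ) : σ g ∈ scSubgroup ρ := by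
  obtain ⟨c, hc⟩ := hg
  refine ⟨c, ?_⟩
  rw [rho_sigma σ hr ht hσ, hc]
  simp only [Algebra.mul_smul_comm, mul_one, Algebra.smul_mul_assoc]
  rw [t_mul_pow_pred hr ht]

theorem sigma_symm_mem_sc (hr : 0 < r) (ht : t ^ r = 1) (hσ : ∀ g, t * ρ g = ρ (σ g) * t) (g : Q)
    (hg : g ∈ scSubgroup ρ) : σ⁻¹ g ∈ scSubgroup ρ := by
  obtain ⟨c, hc⟩ := hg
  refine ⟨c, ?_⟩
  rw [rho_sigma_symm σ hr ht hσ, hc]
  simp only [Algebra.mul_smul_comm, mul_one, Algebra.smul_mul_assoc]
  rw [pow_pred_mul_t hr ht]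

theorem map_sigma_sc (hr : 0 < r) (ht : t ^ r = 1) (hσ : ∀ g, t * ρ g = ρ (σ g) * t) :
    (scSubgroup ρ).map (σ : Q ≃* Q).toMonoidHom = scSubgroup ρ := by
  apply le_antisymm
  · rintro _ ⟨g, hg, rfl⟩
    exact sigma_mem_sc σ hr ht hσ g hg
  · intro g hg
    exact ⟨σ⁻¹ g, sigma_symm_mem_sc σ hr ht hσ g hg, by simp⟩

/-- the automorphism induced on the quotient by the scalar subgroup -/
noncomputable def sigmaBar (hr : 0 < r) (ht : t ^ r = 1) (hσ : ∀ g, t * ρ g = ρ (σ g) * t) :
    MulAut (Q ⧸ scSubgroup ρ) :=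
  QuotientGroup.congr (scSubgroup ρ) (scSubgroup ρ) σ (map_sigma_sc σ hr ht hσ)

theorem sigmaBar_mk (hr : 0 < r) (ht : t ^ r = 1) (hσ : ∀ g, t * ρ g = ρ (σ g) * t) (g : Q) :
    sigmaBar σ hr ht hσ (g : Q ⧸ scSubgroup ρ) = ((σ g : Q) : Q ⧸ scSubgroup ρ) := rfl

/-- the line spanned by the average of `ρ q.out` is constant along `σ̄`-orbits -/
theorem line_sigmaBar [Nontrivial U] (hr : 0 < r) (ht : t ^ r = 1)
    (hσ : ∀ g, t * ρ g = ρ (σ g) * t) (q : Q ⧸ scSubgroup ρ) :
    Submodule.span K {avg r t (ρ (sigmaBar σ hr ht hσ q).out)}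
      = Submodule.span K {avg r t (ρ q.out)} := by
  -- `(σ̄ q).out = σ (q.out) * z` with `z` scalar
  have hz : (σ q.out)⁻¹ * (sigmaBar σ hr ht hσ q).out ∈ scSubgroup ρ := by
    rw [← QuotientGroup.eq, ← sigmaBar_mk σ hr ht hσ]
    simp
  obtain ⟨c, hc⟩ := hz
  have hc0 : c ≠ 0 := by
    intro h0
    rw [h0, zero_smul] at hc
    exact rho_ne_zero ρ _ hc
  have e1 : ρ (sigmaBar σ hr ht hσ q).out = c • ρ (σ q.out) := by
    have e : (sigmaBar σ hr ht hσ q).out
        = σ q.out * ((σ q.out)⁻¹ * (sigmaBar σ hr ht hσ q).out) := by group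
    conv_lhs => rw [e, map_mul, hc]
    simp
  have e2 : avg r t (ρ (sigmaBar σ hr ht hσ q).out) = c • avg r t (ρ q.out) := by
    rw [e1, map_smul, rho_sigma σ hr ht hσ, avg_conj hr ht]
  rw [e2]
  exact Submodule.span_singleton_smul_eq (IsUnit.mk0 c hc0) _

theorem rho_sigma_pow (hr : 0 < r) (ht : t ^ r = 1) (hσ : ∀ g, t * ρ g = ρ (σ g) * t) (k : ℕ)
    (g : Q) : ρ ((σ ^ k) g) = t ^ k * ρ g * (t ^ (r - 1)) ^ k := by
  induction k with
  | zero => simp
  | succ k ih =>
    rw [pow_succ' σ, MulAut.mul_apply, rho_sigma σ hr ht hσ, ih, pow_succ' t, pow_succ (t ^ (r-1))]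
    simp only [mul_assoc]

theorem sigmaBar_pow_mk (hr : 0 < r) (ht : t ^ r = 1) (hσ : ∀ g, t * ρ g = ρ (σ g) * t) (k : ℕ)
    (g : Q) : (sigmaBar σ hr ht hσ ^ k) (g : Q ⧸ scSubgroup ρ)
      = (((σ ^ k) g : Q) : Q ⧸ scSubgroup ρ) := by
  induction k with
  | zero => simp
  | succ k ih =>
    rw [pow_succ', MulAut.mul_apply, ih, sigmaBar_mk, pow_succ' σ, MulAut.mul_apply]

theorem sigmaBar_pow_eq_one (hr : 0 < r) (ht : t ^ r = 1) (hσ : ∀ g, t * ρ g = ρ (σ g) * t) :
    sigmaBar σ hr ht hσ ^ r = 1 := by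
  ext q
  obtain ⟨g, rfl⟩ := QuotientGroup.mk_surjective q
  rw [sigmaBar_pow_mk, MulAut.one_apply, eq_comm, QuotientGroup.eq]
  refine ⟨1, ?_⟩
  rw [map_mul, rho_sigma_pow σ hr ht hσ, ht, ← pow_mul, mul_comm (r - 1) r, pow_mul, ht]
  simp [rho_inv_mul]

/-- the commutant of `t` is spanned by the averages -/
theorem commutant_le_span [IsAlgClosed K] [FiniteDimensional K U] [Nontrivial U]
    (hirr : Irr ρ) (hrK : (r : K) ≠ 0) (ht : t ^ r = 1) :
    Subalgebra.toSubmodule (Subalgebra.centralizer K ({t} : Set (End K U)))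
      ≤ Submodule.span K (Set.range fun q : Q ⧸ scSubgroup ρ => avg r t (ρ q.out)) := by
  intro f hf
  have hf' : Commute t f := by
    have := (Subalgebra.mem_centralizer_iff K).1 hf t (Set.mem_singleton t)
    exact this
  have h1 : f = (r : K)⁻¹ • avg r t f := by
    rw [avg_of_commute ht hf', smul_smul, inv_mul_cancel₀ hrK, one_smul]
  have h2 : f ∈ Submodule.span K (Set.range fun q : Q ⧸ scSubgroup ρ => ρ q.out) := by
    rw [ESRep.span_out_eq_top hirr]; trivial
  have h3 : avg r t f ∈ (Submodule.span K (Set.range fun q : Q ⧸ scSubgroup ρ => ρ q.out)).map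
      (avg r t) := Submodule.mem_map_of_mem h2
  rw [Submodule.map_span, ← Set.range_comp] at h3
  rw [h1]
  exact Submodule.smul_mem _ _ h3

theorem finrank_commutant_le [IsAlgClosed K] [FiniteDimensional K U] [Nontrivial U] [Finite Q]
    (hirr : Irr ρ) (hr : 0 < r) (hrK : (r : K) ≠ 0) (ht : t ^ r = 1)
    (hσ : ∀ g, t * ρ g = ρ (σ g) * t) :
    finrank K (Subalgebra.centralizer K ({t} : Set (End K U)))
      ≤ Nat.card (MulAction.orbitRel.Quotient (Subgroup.zpowers (sigmaBar σ hr ht hσ))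
          (Q ⧸ scSubgroup ρ)) := by
  classical
  set τ := sigmaBar σ hr ht hσ with hτ
  let S := Q ⧸ scSubgroup ρ
  let L : S → Submodule K (End K U) := fun q => Submodule.span K {avg r t (ρ q.out)}
  let H : Subgroup (MulAut S) :=
    { carrier := {a | ∀ q, L (a q) = L q}
      one_mem' := fun q => rfl
      mul_mem' := by
        intro a b ha hb q
        rw [MulAut.mul_apply, ha, hb]
      inv_mem' := by
        intro a ha q
        have := ha (a⁻¹ q)
        rw [MulAut.apply_inv_self] at this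
        exact this.symm }
  have hτH : τ ∈ H := fun q => line_sigmaBar σ hr ht hσ q
  have hzp : Subgroup.zpowers τ ≤ H := Subgroup.zpowers_le.2 hτH
  let Ω := MulAction.orbitRel.Quotient (Subgroup.zpowers τ) S
  have hrep : ∀ q : S, L q = L (Quotient.out (Quotient.mk'' q : Ω)) := by
    intro q
    have h1 : (MulAction.orbitRel (Subgroup.zpowers τ) S) (Quotient.out (Quotient.mk'' q : Ω)) q :=
      Quotient.exact (Quotient.out_eq _)
    rw [MulAction.orbitRel_apply] at h1
    obtain ⟨a, ha⟩ := h1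
    have h2 : (a : MulAut S) q = Quotient.out (Quotient.mk'' q : Ω) := ha
    rw [← h2]
    exact (hzp a.2 q).symm
  have h1 : Submodule.span K (Set.range fun q : S => avg r t (ρ q.out))
      ≤ Submodule.span K (Set.range fun ω : Ω => avg r t (ρ (Quotient.out ω).out)) := by
    rw [Submodule.span_le]
    rintro _ ⟨q, rfl⟩
    have h2 : avg r t (ρ q.out) ∈ L q := Submodule.mem_span_singleton_self _
    rw [hrep q] at h2
    refine Submodule.span_mono ?_ h2
    rintro _ rfl
    exact ⟨_, rfl⟩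
  have := Fintype.ofFinite Ω
  calc finrank K (Subalgebra.centralizer K ({t} : Set (End K U)))
      = finrank K (Subalgebra.toSubmodule (Subalgebra.centralizer K ({t} : Set (End K U)))) := rfl
    _ ≤ finrank K (Submodule.span K (Set.range fun ω : Ω => avg r t (ρ (Quotient.out ω).out))) :=
        Submodule.finrank_mono ((commutant_le_span hirr hrK ht).trans h1)
    _ ≤ Fintype.card Ω := finrank_range_le_card _
    _ = Nat.card Ω := (Nat.card_eq_fintype_card).symm

theorem sigmaBar_fix (hr : 0 < r) (ht : t ^ r = 1) (hσ : ∀ g, t * ρ g = ρ (σ g) * t)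
    (hsemi : ∀ g, σ g * g⁻¹ ∈ scSubgroup ρ → g ∈ scSubgroup ρ) (q : Q ⧸ scSubgroup ρ)
    (hq : sigmaBar σ hr ht hσ q = q) : q = 1 := by
  obtain ⟨g, rfl⟩ := QuotientGroup.mk_surjective q
  rw [sigmaBar_mk, QuotientGroup.eq] at hq
  have h1 : g⁻¹ * σ g ∈ scSubgroup ρ := by
    have := (scSubgroup ρ).inv_mem hq
    simpa using this
  have h2 : σ g * g⁻¹ ∈ scSubgroup ρ := by
    have := (scSubgroup_normal ρ).conj_mem _ h1 g
    simpa [mul_assoc] using this
  exact (QuotientGroup.eq_one_iff g).2 (hsemi g h2)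

/-- **Main linear theorem, irreducible case.** -/
theorem ESRep.finrank_succ_eq [IsAlgClosed K] [FiniteDimensional K U] [Finite Q]
    (hρ : ESRep ρ) (hirr : Irr ρ) (hr : r.Prime) (hrK : (r : K) ≠ 0) (ht : t ^ r = 1)
    (hσ : ∀ g, t * ρ g = ρ (σ g) * t)
    (hsemi : ∀ g, σ g * g⁻¹ ∈ scSubgroup ρ → g ∈ scSubgroup ρ)
    (hne : ∃ g, g ∉ scSubgroup ρ)
    (hfix : ∀ u, t u = u → u = 0) : finrank K U + 1 = r := by
  classical
  obtain ⟨g₀, hg₀⟩ := hne
  have hnt : Nontrivial U := by
    by_contra hU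
    rw [not_nontrivial_iff_subsingleton] at hU
    apply hg₀
    refine ⟨0, ?_⟩
    ext u
    exact Subsingleton.elim _ _
  have hr0 : 0 < r := hr.pos
  set τ := sigmaBar σ hr0 ht hσ with hτ
  have hτr : τ ^ r = 1 := sigmaBar_pow_eq_one σ hr0 ht hσ
  have hτfix : ∀ q, τ q = q → q = 1 := sigmaBar_fix σ hr0 ht hσ hsemi
  have hq₀ : (g₀ : Q ⧸ scSubgroup ρ) ≠ 1 := fun h => hg₀ ((QuotientGroup.eq_one_iff g₀).1 h)
  have hτ1 : τ ≠ 1 := by
    intro h
    apply hq₀
    apply hτfix
    rw [h, MulAut.one_apply]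
  have hord : orderOf τ = r := by
    have := Fact.mk hr
    exact orderOf_eq_prime hτr hτ1
  have hcardG : Nat.card (Subgroup.zpowers τ) = r := by rw [Nat.card_zpowers, hord]
  have hfixBy : ∀ a : Subgroup.zpowers τ, a ≠ 1 →
      Nat.card (MulAction.fixedBy (Q ⧸ scSubgroup ρ) a) = 1 := by
    intro a ha
    have htop : Subgroup.zpowers a = ⊤ := by
      have := Fact.mk hr
      exact zpowers_eq_top_of_prime_card hcardG ha
    have hmem : (⟨τ, Subgroup.mem_zpowers τ⟩ : Subgroup.zpowers τ) ∈ Subgroup.zpowers a := by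
      rw [htop]; trivial
    obtain ⟨m, hm⟩ := Subgroup.mem_zpowers_iff.1 hmem
    have huniq : ∀ q : Q ⧸ scSubgroup ρ, q ∈ MulAction.fixedBy (Q ⧸ scSubgroup ρ) a ↔ q = 1 := by
      intro q
      constructor
      · intro hq
        apply hτfix
        have h1 : (a ^ m) • q = q := by
          have h0 : a ∈ MulAction.stabilizer (Subgroup.zpowers τ) q := MulAction.mem_fixedBy.1 hq
          exact (MulAction.stabilizer (Subgroup.zpowers τ) q).zpow_mem h0 m
        rw [hm] at h1
        exact h1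
      · rintro rfl
        show a • (1 : Q ⧸ scSubgroup ρ) = 1
        exact map_one (a : MulAut (Q ⧸ scSubgroup ρ))
    rw [Nat.card_eq_one_iff_unique]
    refine ⟨⟨?_⟩, ⟨⟨1, (huniq 1).2 rfl⟩⟩⟩
    intro x y
    apply Subtype.ext
    rw [(huniq x.1).1 x.2, (huniq y.1).1 y.2]
  have horb := card_orbits_mul (S := Q ⧸ scSubgroup ρ) hcardG hfixBy
  have hc := finrank_commutant_le σ hirr hr0 hrK ht hσ
  have hsq := sq_finrank_le hr0 hrK t ht hfix
  have hN := hρ.card_quot hirr
  rw [hN] at horb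
  have hd1 : 1 ≤ finrank K U := Module.finrank_pos
  have hdne1 : finrank K U ≠ 1 := by
    intro h1
    rw [h1, one_pow] at hN
    have : Subsingleton (Q ⧸ scSubgroup ρ) := (Nat.card_eq_one_iff_unique.1 hN).1
    exact hq₀ (Subsingleton.elim _ _)
  exact arith_fpf _ _ _ _ hr hd1 hdne1 horb hsq hc

end

/-- restriction of a representation to an invariant subspace -/
def subRep (ρ : Representation K Q U) (W : Submodule K U) (hW : ∀ g, ∀ w ∈ W, ρ g w ∈ W) :
    Representation K Q W where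
  toFun g := (ρ g).restrict (hW g)
  map_one' := by
    ext w
    simp
  map_mul' := by
    intro g h
    ext w
    simp

@[simp] theorem subRep_apply (ρ : Representation K Q U) (W : Submodule K U)
    (hW : ∀ g, ∀ w ∈ W, ρ g w ∈ W) (g : Q) (w : W) :
    ((subRep ρ W hW g) w : U) = ρ g w := rfl

theorem isSc_of_isSc_subRep {ρ : Representation K Q U} (hρ : ESRep ρ) (W : Submodule K U)
    (hW : ∀ g, ∀ w ∈ W, ρ g w ∈ W) (hW0 : W ≠ ⊥) (g : Q)
    (hcomm : ∀ h, Commute (subRep ρ W hW g) (subRep ρ W hW h)) : IsSc (ρ g) := by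
  obtain ⟨w₀, hw₀W, hw₀⟩ := (Submodule.ne_bot_iff W).1 hW0
  apply hρ.nondeg
  intro h
  obtain ⟨κ, hκ⟩ := hρ.comm g h
  have h1 := congrArg (fun f : End K W => ((f ⟨w₀, hw₀W⟩ : W) : U)) (hcomm h).eq
  simp only [Module.End.mul_apply, subRep_apply] at h1
  have h2 := congrArg (fun f : End K U => f w₀) hκ
  simp only [Module.End.mul_apply, LinearMap.smul_apply] at h2
  rw [h1] at h2
  have h3 : (1 - κ) • ρ h (ρ g w₀) = 0 := by
    rw [sub_smul, one_smul, ← h2, sub_self]
  rcases smul_eq_zero.1 h3 with h4 | h4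
  · have : κ = 1 := (sub_eq_zero.1 h4).symm
    show ρ g * ρ h = ρ h * ρ g
    rw [hκ, this, one_smul]
  · exfalso
    apply hw₀
    apply rho_injective ρ g
    apply rho_injective ρ h
    rw [h4, map_zero, map_zero]

theorem isSc_subRep_of_isSc {ρ : Representation K Q U} (W : Submodule K U)
    (hW : ∀ g, ∀ w ∈ W, ρ g w ∈ W) (g : Q) (h : IsSc (ρ g)) : IsSc (subRep ρ W hW g) := by
  obtain ⟨c, hc⟩ := h
  refine ⟨c, ?_⟩
  ext w
  simp [hc]

theorem ESRep.of_subRep {ρ : Representation K Q U} (hρ : ESRep ρ) (W : Submodule K U)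
    (hW : ∀ g, ∀ w ∈ W, ρ g w ∈ W) (hW0 : W ≠ ⊥) : ESRep (subRep ρ W hW) where
  comm := by
    intro g h
    obtain ⟨κ, hκ⟩ := hρ.comm g h
    refine ⟨κ, ?_⟩
    ext w
    have h2 := congrArg (fun f : End K U => f (w : U)) hκ
    simpa using h2
  nondeg := by
    intro g hg
    exact isSc_subRep_of_isSc W hW g (isSc_of_isSc_subRep hρ W hW hW0 g hg)

theorem scSubgroup_subRep {ρ : Representation K Q U} (hρ : ESRep ρ) (W : Submodule K U)
    (hW : ∀ g, ∀ w ∈ W, ρ g w ∈ W) (hW0 : W ≠ ⊥) :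
    scSubgroup (subRep ρ W hW) = scSubgroup ρ := by
  ext g
  constructor
  · intro hg
    exact isSc_of_isSc_subRep hρ W hW hW0 g (fun h => IsSc.commute hg _)
  · intro hg
    exact isSc_subRep_of_isSc W hW g hg


section
variable (ρ : Representation K Q U) {r : ℕ} {t : End K U} (σ : MulAut Q)

/-- the canonical intertwiner between `ρ` and `ρ ∘ σ` lying in the span of `ρ` -/
noncomputable def twist [Fintype Q] : End K U := ∑ g : Q, ρ (σ g * g⁻¹)

theorem twist_intertwine [Fintype Q] (h : Q) : ρ (σ h) * twist ρ σ = twist ρ σ * ρ h := by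
  unfold twist
  rw [Finset.mul_sum, Finset.sum_mul]
  rw [← Equiv.sum_comp (Equiv.mulLeft h) (fun g => ρ (σ g * g⁻¹) * ρ h)]
  apply Finset.sum_congr rfl
  intro g _
  rw [← map_mul, ← map_mul]
  congr 1
  simp [mul_assoc]

theorem twist_commute [Fintype Q]
    (hσ : ∀ g, t * ρ g = ρ (σ g) * t) : t * twist ρ σ = twist ρ σ * t := by
  unfold twist
  rw [Finset.mul_sum, Finset.sum_mul]
  rw [← Equiv.sum_comp (σ : Q ≃* Q).toEquiv (fun g => ρ (σ g * g⁻¹) * t)]
  apply Finset.sum_congr rfl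
  intro g _
  rw [hσ]
  congr 2
  simp

theorem twist_mem [Fintype Q] (W : Submodule K U) (hW : ∀ g, ∀ w ∈ W, ρ g w ∈ W)
    (w : U) (hw : w ∈ W) : twist ρ σ w ∈ W := by
  unfold twist
  rw [LinearMap.sum_apply]
  exact Submodule.sum_mem _ (fun g _ => hW _ _ hw)

/-- `g ↦ ρ (σ g * g⁻¹)` is constant on cosets of the scalar subgroup -/
theorem rho_twist_mul_sc (hr : 0 < r) (ht : t ^ r = 1) (hσ : ∀ g, t * ρ g = ρ (σ g) * t)
    (g z : Q) (hz : z ∈ scSubgroup ρ) :
    ρ (σ (g * z) * (g * z)⁻¹) = ρ (σ g * g⁻¹) := by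
  obtain ⟨c, hc⟩ := hz
  have h1 : ρ (σ z) = ρ z := by
    rw [rho_sigma σ hr ht hσ, hc]
    simp only [Algebra.mul_smul_comm, mul_one, Algebra.smul_mul_assoc]
    rw [t_mul_pow_pred hr ht]
  have e : σ (g * z) * (g * z)⁻¹ = σ g * (σ z * z⁻¹) * g⁻¹ := by
    rw [map_mul]; group
  rw [e, map_mul, map_mul, map_mul (ρ) (σ z), h1, rho_mul_inv, mul_one, ← map_mul]

/-- the bijection `(q, z) ↦ q.out * z` -/
noncomputable def cosetEquiv (Z : Subgroup Q) : (Q ⧸ Z) × Z ≃ Q :=
  Equiv.ofBijective (fun p => p.1.out * (p.2 : Q)) (by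
    constructor
    · rintro ⟨q, z⟩ ⟨q', z'⟩ h
      simp only at h
      have h1 : q = q' := by
        have : ((q.out * (z : Q) : Q) : Q ⧸ Z) = ((q'.out * (z' : Q) : Q) : Q ⧸ Z) := by rw [h]
        rw [QuotientGroup.mk_mul_of_mem _ z.2, QuotientGroup.mk_mul_of_mem _ z'.2] at this
        simpa using this
      subst h1
      have h2 : (z : Q) = z' := mul_left_cancel h
      rw [Subtype.ext h2]
    · intro g
      refine ⟨((g : Q ⧸ Z), ⟨((g : Q ⧸ Z).out)⁻¹ * g, ?_⟩), ?_⟩
      · rw [← QuotientGroup.eq]; simp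
      · simp)

theorem twist_eq_sum_quot [Fintype Q] (hr : 0 < r) (ht : t ^ r = 1)
    (hσ : ∀ g, t * ρ g = ρ (σ g) * t) [Fintype (Q ⧸ scSubgroup ρ)] [Fintype (scSubgroup ρ)] :
    twist ρ σ = ∑ q : Q ⧸ scSubgroup ρ,
      (Fintype.card (scSubgroup ρ) : K) • ρ (σ q.out * q.out⁻¹) := by
  unfold twist
  rw [← Equiv.sum_comp (cosetEquiv (scSubgroup ρ)) (fun g => ρ (σ g * g⁻¹)),
    Fintype.sum_prod_type]
  apply Finset.sum_congr rfl
  intro q _
  have : ∀ z : scSubgroup ρ, ρ (σ (cosetEquiv (scSubgroup ρ) (q, z)) *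
      (cosetEquiv (scSubgroup ρ) (q, z))⁻¹) = ρ (σ q.out * q.out⁻¹) := by
    intro z
    exact rho_twist_mul_sc ρ σ hr ht hσ q.out z z.2
  rw [Finset.sum_congr rfl (fun z _ => this z)]
  simp [Nat.cast_smul_eq_nsmul]

theorem twist_injective [Fintype Q] (hρ : ESRep ρ) (hr : 0 < r) (ht : t ^ r = 1)
    (hσ : ∀ g, t * ρ g = ρ (σ g) * t)
    (hsemi : ∀ g, σ g * g⁻¹ ∈ scSubgroup ρ → g ∈ scSubgroup ρ)
    (hQK : (Fintype.card Q : K) ≠ 0) : Function.Injective (twist ρ σ) := by
  classical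
  rw [← LinearMap.ker_eq_bot]
  by_contra hW0
  set W := LinearMap.ker (twist ρ σ) with hWdef
  have hW : ∀ g, ∀ w ∈ W, ρ g w ∈ W := by
    intro h w hw
    rw [hWdef, LinearMap.mem_ker] at hw ⊢
    have h1 := congrArg (fun f : End K U => f w) (twist_intertwine ρ σ (σ⁻¹ h))
    simp only [Module.End.mul_apply, MulAut.apply_inv_self] at h1
    rw [hw, map_zero] at h1
    -- twist (ρ (σ⁻¹ h) w) = 0 : need for `h` itself
    have h2 := congrArg (fun f : End K U => f w) (twist_intertwine ρ σ h)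
    simp only [Module.End.mul_apply] at h2
    rw [hw, map_zero] at h2
    exact h2.symm
  have := Fintype.ofFinite (Q ⧸ scSubgroup ρ)
  have := Fintype.ofFinite (scSubgroup ρ)
  have hsum := twist_eq_sum_quot ρ σ hr ht hσ
  have hrel : ∀ w ∈ W, ∑ q ∈ (Finset.univ : Finset (Q ⧸ scSubgroup ρ)),
      (fun _ => (Fintype.card (scSubgroup ρ) : K)) q • ρ (σ q.out * q.out⁻¹) w = 0 := by
    intro w hw
    rw [hWdef, LinearMap.mem_ker, hsum, LinearMap.sum_apply] at hw
    simpa using hw
  have hg : ∀ q q' : Q ⧸ scSubgroup ρ,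
      (σ q.out * q.out⁻¹)⁻¹ * (σ q'.out * q'.out⁻¹) ∈ scSubgroup ρ → q = q' := by
    intro q q' h
    have e : (σ q.out * q.out⁻¹)⁻¹ * (σ q'.out * q'.out⁻¹)
        = q.out * (σ (q.out⁻¹ * q'.out) * (q.out⁻¹ * q'.out)⁻¹) * q.out⁻¹ := by
      rw [map_mul, map_inv]; group
    rw [e] at h
    have h1 := (scSubgroup_normal ρ).conj_mem _ h q.out⁻¹
    have e2 : q.out⁻¹ * (q.out * (σ (q.out⁻¹ * q'.out) * (q.out⁻¹ * q'.out)⁻¹) * q.out⁻¹)
        * q.out⁻¹⁻¹ = σ (q.out⁻¹ * q'.out) * (q.out⁻¹ * q'.out)⁻¹ := by group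
    rw [e2] at h1
    have h2 := hsemi _ h1
    rw [← QuotientGroup.eq] at h2
    simpa using h2
  have h0 := hρ.indep_on W hW hW0 (fun q : Q ⧸ scSubgroup ρ => σ q.out * q.out⁻¹) hg
    Finset.univ _ hrel 1 (Finset.mem_univ _)
  apply hQK
  have hdvd : Fintype.card (scSubgroup ρ) ∣ Fintype.card Q := by
    have := Subgroup.card_subgroup_dvd_card (scSubgroup ρ)
    rwa [Nat.card_eq_fintype_card, Nat.card_eq_fintype_card] at this
  obtain ⟨m, hm⟩ := hdvd
  rw [hm, Nat.cast_mul, h0, zero_mul]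

/-- existence of a minimal non-zero invariant subspace inside a non-zero invariant subspace -/
theorem exists_minimal_invariant [FiniteDimensional K U] (W : Submodule K U)
    (hW : ∀ g, ∀ w ∈ W, ρ g w ∈ W) (hW0 : W ≠ ⊥) :
    ∃ M : Submodule K U, M ≤ W ∧ M ≠ ⊥ ∧ (∀ g, ∀ w ∈ M, ρ g w ∈ M) ∧
      ∀ M' : Submodule K U, M' ≤ M → M' ≠ ⊥ → (∀ g, ∀ w ∈ M', ρ g w ∈ M') → M' = M := by
  classical
  let P : ℕ → Prop := fun n => ∃ M : Submodule K U, M ≤ W ∧ M ≠ ⊥ ∧
    (∀ g, ∀ w ∈ M, ρ g w ∈ M) ∧ finrank K M = n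
  have hP : ∃ n, P n := ⟨finrank K W, W, le_rfl, hW0, hW, rfl⟩
  obtain ⟨M, hMW, hM0, hMinv, hMn⟩ := Nat.find_spec hP
  refine ⟨M, hMW, hM0, hMinv, ?_⟩
  intro M' hM'M hM'0 hM'inv
  have h1 : Nat.find hP ≤ finrank K M' :=
    Nat.find_min' hP ⟨M', hM'M.trans hMW, hM'0, hM'inv, rfl⟩
  rw [← hMn] at h1
  exact Submodule.eq_of_le_of_finrank_le hM'M h1

theorem irr_subRep_of_minimal (M : Submodule K U) (hM : ∀ g, ∀ w ∈ M, ρ g w ∈ M)
    (hmin : ∀ M' : Submodule K U, M' ≤ M → M' ≠ ⊥ → (∀ g, ∀ w ∈ M', ρ g w ∈ M') → M' = M) :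
    Irr (subRep ρ M hM) := by
  intro W' hW'
  by_cases h0 : W' = ⊥
  · left; exact h0
  · right
    have h1 : W'.map M.subtype = M := by
      apply hmin
      · exact Submodule.map_subtype_le M W'
      · intro h
        apply h0
        rw [eq_bot_iff]
        intro w hw
        have : (w : U) ∈ W'.map M.subtype := ⟨w, hw, rfl⟩
        rw [h, Submodule.mem_bot] at this
        rw [Submodule.mem_bot]
        exact Subtype.ext this
      · rintro g _ ⟨w, hw, rfl⟩
        exact ⟨subRep ρ M hM g w, hW' g w hw, rfl⟩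
    rw [eq_top_iff]
    intro w _
    have : (w : U) ∈ W'.map M.subtype := by rw [h1]; exact w.2
    obtain ⟨w', hw', hw'eq⟩ := this
    have : w' = w := Subtype.ext hw'eq
    rw [← this]; exact hw'

end

/-- **Main linear theorem.** A representation of extraspecial type together with an operator `t`
of prime order `r` normalising it via `σ`, acting semiregularly on `Q / Z` and without fixed
vectors: then `|Q : Z| = (r - 1) ^ 2`. -/
theorem ESRep.card_quot_of_fpf [IsAlgClosed K] [FiniteDimensional K U] [Finite Q]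
    {ρ : Representation K Q U} (hρ : ESRep ρ) {r : ℕ} (hr : r.Prime) (hrK : (r : K) ≠ 0)
    (hQK : (Nat.card Q : K) ≠ 0) {t : End K U} (ht : t ^ r = 1) (σ : MulAut Q)
    (hσ : ∀ g, t * ρ g = ρ (σ g) * t)
    (hsemi : ∀ g, σ g * g⁻¹ ∈ scSubgroup ρ → g ∈ scSubgroup ρ)
    (hne : ∃ g, g ∉ scSubgroup ρ)
    (hfix : ∀ u, t u = u → u = 0) :
    Nat.card (Q ⧸ scSubgroup ρ) = (r - 1) ^ 2 := by
  classical
  have := Fintype.ofFinite Q
  obtain ⟨g₀, hg₀⟩ := hne
  have hnt : Nontrivial U := by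
    by_contra hU
    rw [not_nontrivial_iff_subsingleton] at hU
    apply hg₀
    refine ⟨0, ?_⟩
    ext u
    exact Subsingleton.elim _ _
  have hr0 : 0 < r := hr.pos
  rw [Nat.card_eq_fintype_card] at hQK
  set a := twist ρ σ with ha
  have hainj : Function.Injective a := twist_injective ρ σ hρ hr0 ht hσ hsemi hQK
  have hasurj : Function.Surjective a := LinearMap.injective_iff_surjective.1 hainj
  let ae : U ≃ₗ[K] U := LinearEquiv.ofBijective a ⟨hainj, hasurj⟩
  let ainv : End K U := (ae.symm : U →ₗ[K] U)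
  have h1 : ainv * a = 1 := by
    ext u
    show ae.symm (ae u) = u
    simp
  have h2 : a * ainv = 1 := by
    ext u
    show ae (ae.symm u) = u
    simp
  set b := ainv * t with hb
  have hainv_ρ : ∀ h, ainv * ρ (σ h) = ρ h * ainv := by
    intro h
    have e := twist_intertwine ρ σ h
    calc ainv * ρ (σ h) = ainv * ρ (σ h) * (a * ainv) := by rw [h2, mul_one]
      _ = ainv * (ρ (σ h) * a) * ainv := by simp only [mul_assoc]
      _ = ainv * (a * ρ h) * ainv := by rw [e]
      _ = (ainv * a) * ρ h * ainv := by simp only [mul_assoc]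
      _ = ρ h * ainv := by rw [h1, one_mul]
  have hainv_t : ainv * t = t * ainv := by
    have e : t * a = a * t := twist_commute ρ σ hσ
    calc ainv * t = ainv * t * (a * ainv) := by rw [h2, mul_one]
      _ = ainv * (t * a) * ainv := by simp only [mul_assoc]
      _ = ainv * (a * t) * ainv := by rw [e]
      _ = (ainv * a) * t * ainv := by simp only [mul_assoc]
      _ = t * ainv := by rw [h1, one_mul]
  have hbρ : ∀ h, b * ρ h = ρ h * b := by
    intro h
    rw [hb, mul_assoc, hσ h, ← mul_assoc, hainv_ρ, mul_assoc]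
  have hta : t = a * b := by
    rw [hb, ← mul_assoc, h2, one_mul]
  obtain ⟨β, hβ⟩ := Module.End.exists_eigenvalue b
  set Wβ := b.eigenspace β with hWβ
  have hWβ0 : Wβ ≠ ⊥ := hβ
  have hWβinv : ∀ g, ∀ w ∈ Wβ, ρ g w ∈ Wβ := by
    intro g w hw
    rw [hWβ, Module.End.mem_eigenspace_iff] at hw ⊢
    have := congrArg (fun f : End K U => f w) (hbρ g)
    simp only [Module.End.mul_apply] at this
    rw [this, hw, map_smul]
  obtain ⟨M, hMW, hM0, hMinv, hMmin⟩ := exists_minimal_invariant ρ Wβ hWβinv hWβ0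
  have htM : ∀ m ∈ M, t m ∈ M := by
    intro m hm
    have hbm : b m = β • m := Module.End.mem_eigenspace_iff.1 (hMW hm)
    have : t m = β • a m := by
      rw [hta, Module.End.mul_apply, hbm, map_smul]
    rw [this]
    exact M.smul_mem _ (twist_mem ρ σ M hMinv m hm)
  -- restrict
  let ρM := subRep ρ M hMinv
  let tM : End K M := t.restrict htM
  have hρM : ESRep ρM := hρ.of_subRep M hMinv hM0
  have hirr : Irr ρM := irr_subRep_of_minimal ρ M hMinv hMmin
  have hsc : scSubgroup ρM = scSubgroup ρ := scSubgroup_subRep hρ M hMinv hM0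
  have htMr : tM ^ r = 1 := by
    ext m
    rw [Module.End.pow_restrict r htM]
    simp [ht]
  have hσM : ∀ g, tM * ρM g = ρM (σ g) * tM := by
    intro g
    ext m
    have := congrArg (fun f : End K U => f (m : U)) (hσ g)
    simpa [tM, ρM] using this
  have hfixM : ∀ u : M, tM u = u → u = 0 := by
    intro u hu
    have : t (u : U) = u := congrArg Subtype.val hu
    exact Subtype.ext (hfix _ this)
  have hfin := hρM.finrank_succ_eq σ hirr hr hrK htMr hσM
    (by rw [hsc]; exact hsemi) ⟨g₀, by rw [hsc]; exact hg₀⟩ hfixM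
  have hMnt : Nontrivial M := Submodule.nontrivial_iff_ne_bot.2 hM0
  have hcard := hρM.card_quot hirr
  have e1 : Nat.card (Q ⧸ scSubgroup ρ) = Nat.card (Q ⧸ scSubgroup ρM) := by
    rw [← Subgroup.index_eq_card, ← Subgroup.index_eq_card, hsc]
  rw [e1, hcard]
  congr 1
  omega

end Cfsg.Agent.Lib.Helper71_ESLinear
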