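import Mathlib

/-!
# The universal modular representation of the automorphism group of an elementary abelian group
(helper71)

`exists_rep`: for a finite abelian group `V` of exponent `p`, a faithful finite dimensional
representation `Φ` of `MulAut V` over `AlgebraicClosure (ZMod p)` (namely `K ⊗ V`) such that an
automorphism without non-trivial fixed points in `V` has no non-zero fixed vectors.
-/

set_option autoImplicit false

namespace Cfsg.Agent.Lib.Helper71_ModRep

open Module TensorProduct

universe u

set_option warn.classDefReducibility false in
/-- the `𝔽_p`-module structure on an abelian group of exponent `p`, written additively -/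
def zmodMod (p : ℕ) {V : Type*} [CommGroup V] (hV : ∀ v : V, v ^ p = 1) :
    Module (ZMod p) (Additive V) :=
  AddCommGroup.zmodModule (n := p) (fun x => by
    induction x using Additive.rec with
    | ofMul v => rw [← ofMul_pow, hV v, ofMul_one])

/-- **The universal representation.** For a finite abelian group `V` of exponent `p` there is a
finite dimensional representation of `MulAut V` over the algebraic closure of `𝔽_p` which is
faithful and in which an automorphism without non-trivial fixed points has no non-zero fixed
vectors. -/
theorem exists_rep (p : ℕ) [Fact p.Prime] {V : Type u} [CommGroup V] [Finite V]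
    (hV : ∀ v : V, v ^ p = 1) :
    ∃ (W : Type u) (_ : AddCommGroup W) (_ : Module (AlgebraicClosure (ZMod p)) W)
      (_ : FiniteDimensional (AlgebraicClosure (ZMod p)) W)
      (Φ : MulAut V →* End (AlgebraicClosure (ZMod p)) W),
      (∀ f : MulAut V, (∀ v, f v = v → v = 1) → ∀ w, Φ f w = w → w = 0) ∧
      (∀ f : MulAut V, Φ f = 1 → f = 1) := by
  classical
  let _ : Module (ZMod p) (Additive V) := zmodMod p hV
  let K := AlgebraicClosure (ZMod p)
  let lin : MulAut V → (Additive V →ₗ[ZMod p] Additive V) := fun f =>
    AddMonoidHom.toZModLinearMap p (MonoidHom.toAdditive f.toMonoidHom)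
  have hlin : ∀ f v, lin f (Additive.ofMul v) = Additive.ofMul (f v) := fun f v => rfl
  let idV : Additive V →ₗ[ZMod p] Additive V := LinearMap.id
  have hlin1 : lin 1 = idV := by
    apply LinearMap.ext
    intro x
    induction x using Additive.rec with
    | ofMul v => rw [hlin]; rfl
  have hlinmul : ∀ f g, lin (f * g) = (lin f).comp (lin g) := by
    intro f g
    apply LinearMap.ext
    intro x
    induction x using Additive.rec with
    | ofMul v => rw [hlin, LinearMap.comp_apply, hlin, hlin]; rfl
  let Φ : MulAut V →* End K (K ⊗[ZMod p] Additive V) :=
    { toFun := fun f => (lin f).baseChange K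
      map_one' := by rw [hlin1, LinearMap.baseChange_id]; rfl
      map_mul' := by
        intro f g
        rw [hlinmul, LinearMap.baseChange_comp]; rfl }
  have hfinV : Module.Finite (ZMod p) (Additive V) := by
    have : _root_.Finite (Additive V) := inferInstanceAs (_root_.Finite V)
    exact Module.Finite.of_finite
  refine ⟨K ⊗[ZMod p] Additive V, inferInstance, inferInstance, inferInstance, Φ, ?_, ?_⟩
  · intro f hf w hw
    have hinj : Function.Injective (lin f - idV) := by
      rw [← LinearMap.ker_eq_bot, LinearMap.ker_eq_bot']
      intro x hx
      induction x using Additive.rec with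
      | ofMul v =>
        rw [LinearMap.sub_apply, hlin, LinearMap.id_apply, sub_eq_zero] at hx
        have := hf v (Additive.ofMul.injective hx)
        rw [this]; rfl
    have hinj2 : Function.Injective ((lin f - idV).baseChange K) := by
      rw [LinearMap.baseChange_eq_ltensor]
      exact Module.Flat.lTensor_preserves_injective_linearMap _ hinj
    apply hinj2
    rw [map_zero, LinearMap.baseChange_sub, LinearMap.sub_apply, LinearMap.baseChange_id,
      LinearMap.id_apply, sub_eq_zero]
    exact hw
  · intro f hf
    have h1 : (lin f).baseChange K = idV.baseChange K := by
      rw [LinearMap.baseChange_id]; exact hf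
    have h2 : lin f = idV := by
      have := LinearMap.baseChangeHom_injective (R := ZMod p) (S := K)
        (M := Additive V) (N := Additive V)
      exact this h1
    ext v
    have := congrArg (fun g : Additive V →ₗ[ZMod p] Additive V => g (Additive.ofMul v)) h2
    simp only [hlin, idV, LinearMap.id_apply] at this
    exact Additive.ofMul.injective this

end Cfsg.Agent.Lib.Helper71_ModRep
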