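import Mathlib
import Cfsg.Agent.Lib.Helper71_ESLinear
import Cfsg.Agent.Lib.Helper71_ModRep
import Cfsg.Agent.Lib.Helper81_JointEigen

/-!
# A fixed point theorem for groups of extraspecial type (helper71)

`index_eq_of_fpf_action`: a finite `p'`-group `Q` acting on an elementary abelian `p`-group `V`,
normalised by an automorphism `τ` of `V` of prime order `r ≠ p` (inducing `σ` on `Q`) without
non-trivial fixed points on `V`; `Z ≤ Z(Q)` contains the commutators, is centralised by `σ`, acts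
non-trivially on `V`, `σ` is semiregular on `Q / Z`, and `Q / D` has centre `Z / D` for all proper
`D < Z`.  Then `|Q : Z| = (r - 1) ^ 2`.
-/

set_option autoImplicit false

namespace Cfsg.Agent.Lib.Helper71_ESFpf

open Module
open Cfsg.Agent.Lib.Helper71_ESLinear Cfsg.Agent.Lib.Helper71_ModRep
open Cfsg.Agent.Lib.Helper81_JointEigen
open scoped commutatorElement

universe u

theorem natCast_ne_zero_of_not_dvd (p : ℕ) [Fact p.Prime] (n : ℕ) (h : ¬ p ∣ n) :
    ((n : ℕ) : AlgebraicClosure (ZMod p)) ≠ 0 := by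
  intro h0
  exact h ((CharP.cast_eq_zero_iff (AlgebraicClosure (ZMod p)) p n).1 h0)

/-- **Abstract fixed point theorem (extraspecial type).** -/
theorem index_eq_of_fpf_action {p r : ℕ} [Fact p.Prime] (hr : r.Prime) (hpr : p ≠ r)
    {Q : Type*} [Group Q] [Finite Q] (hpQ : ¬ p ∣ Nat.card Q)
    {V : Type u} [CommGroup V] [Finite V] (hV : ∀ v : V, v ^ p = 1)
    (ψ : Q →* MulAut V) (τ : MulAut V) (σ : MulAut Q)
    (hτr : τ ^ r = 1) (hτψ : ∀ g, τ * ψ g = ψ (σ g) * τ)
    (Z : Subgroup Q) (hZc : Z ≤ Subgroup.center Q) (hcomm : ∀ g h : Q, ⁅g, h⁆ ∈ Z)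
    (hσZ : ∀ z ∈ Z, σ z = z)
    (hsemi : ∀ g, σ g * g⁻¹ ∈ Z → g ∈ Z)
    (hD : ∀ D : Subgroup Q, D ≤ Z → D ≠ Z → ∀ g, (∀ h, ⁅g, h⁆ ∈ D) → g ∈ Z)
    (hZact : ∃ z ∈ Z, ψ z ≠ 1)
    (hne : ∃ g, g ∉ Z)
    (hfix : ∀ v, τ v = v → v = 1) :
    Z.index = (r - 1) ^ 2 := by
  classical
  obtain ⟨W, _, _, _, Φ, hΦfix, hΦinj⟩ := exists_rep p hV
  let K := AlgebraicClosure (ZMod p)
  let ρ : Representation K Q W := Φ.comp ψ
  let t : End K W := Φ τ
  have ht : t ^ r = 1 := by
    show Φ τ ^ r = 1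
    rw [← map_pow, hτr, map_one]
  have hσ : ∀ g, t * ρ g = ρ (σ g) * t := by
    intro g
    show Φ τ * Φ (ψ g) = Φ (ψ (σ g)) * Φ τ
    rw [← map_mul, ← map_mul, hτψ]
  have hfixW : ∀ w, t w = w → w = 0 := hΦfix τ hfix
  have hrK : (r : K) ≠ 0 := by
    apply natCast_ne_zero_of_not_dvd
    intro h
    exact hpr ((Nat.prime_dvd_prime_iff_eq (Fact.out : p.Prime) hr).1 h)
  have hQK : (Nat.card Q : K) ≠ 0 := natCast_ne_zero_of_not_dvd p _ hpQ
  -- joint eigenspaces of `Z`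
  let A : Z → End K W := fun z => ρ z
  have hA : ∀ z, A z ^ Nat.card Q = 1 := by
    intro z
    show ρ (z : Q) ^ Nat.card Q = 1
    rw [← map_pow, pow_card_eq_one', map_one]
  have hAcomm : ∀ z z', Commute (A z) (A z') := by
    intro z z'
    show ρ (z : Q) * ρ (z' : Q) = ρ (z' : Q) * ρ (z : Q)
    rw [← map_mul, ← map_mul]
    congr 1
    exact ((Subgroup.mem_center_iff.1 (hZc z.2)) z').symm
  have hsup := iSup_jointEigenspace hQK A hA hAcomm
  obtain ⟨z₀, hz₀Z, hz₀⟩ := hZact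
  have hρz₀ : ρ z₀ ≠ 1 := fun h => hz₀ (hΦinj _ h)
  have hex : ∃ χ : Z → K, jointEigenspace A χ ≠ ⊥ ∧ χ ⟨z₀, hz₀Z⟩ ≠ 1 := by
    by_contra hcon
    push Not at hcon
    apply hρz₀
    ext w
    have hw : w ∈ (⨆ χ : Z → K, jointEigenspace A χ) := by rw [hsup]; trivial
    induction hw using Submodule.iSup_induction' with
    | mem χ x hx =>
      by_cases h0 : jointEigenspace A χ = ⊥
      · rw [h0, Submodule.mem_bot] at hx
        rw [hx]; simp
      · have h1 := hcon χ h0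
        have h2 := (mem_jointEigenspace A χ x).1 hx ⟨z₀, hz₀Z⟩
        show ρ z₀ x = x
        rw [show ρ z₀ x = A ⟨z₀, hz₀Z⟩ x from rfl, h2, h1, one_smul]
    | zero => simp
    | add x y _ _ hx hy =>
      rw [map_add, hx, hy]; simp
  obtain ⟨χ, hU0, hχz₀⟩ := hex
  set U := jointEigenspace A χ with hUdef
  have hUmem : ∀ w, w ∈ U ↔ ∀ z : Z, ρ (z : Q) w = χ z • w := fun w => mem_jointEigenspace A χ w
  have hUρ : ∀ g, ∀ w ∈ U, ρ g w ∈ U := by
    intro g w hw
    rw [hUmem] at hw ⊢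
    intro z
    have e : (z : Q) * g = g * z := ((Subgroup.mem_center_iff.1 (hZc z.2)) g).symm
    rw [← Module.End.mul_apply, ← map_mul, e, map_mul, Module.End.mul_apply, hw z, map_smul]
  have hUt : ∀ w ∈ U, t w ∈ U := by
    intro w hw
    rw [hUmem] at hw ⊢
    intro z
    have e : ρ (z : Q) * t = t * ρ (z : Q) := by
      rw [hσ, hσZ z z.2]
    rw [← Module.End.mul_apply, e, Module.End.mul_apply, hw z, map_smul]
  obtain ⟨u₀, hu₀U, hu₀⟩ := (Submodule.ne_bot_iff U).1 hU0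
  let ρU := subRep ρ U hUρ
  let tU : End K U := t.restrict hUt
  -- (K1)
  have hK1 : ∀ z : Z, ρU (z : Q) = χ z • 1 := by
    intro z
    ext w
    have := (hUmem w).1 w.2 z
    simpa [ρU] using this
  -- `ρU g = 1 → g acts trivially`, used for the subgroup `D`
  let D : Subgroup Q :=
    { carrier := {g | g ∈ Z ∧ ρU g = 1}
      one_mem' := ⟨Z.one_mem, map_one _⟩
      mul_mem' := by
        rintro a b ⟨ha, ha'⟩ ⟨hb, hb'⟩
        exact ⟨Z.mul_mem ha hb, by rw [map_mul, ha', hb', one_mul]⟩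
      inv_mem' := by
        rintro a ⟨ha, ha'⟩
        refine ⟨Z.inv_mem ha, ?_⟩
        have := rho_inv_mul ρU a
        rwa [ha', mul_one] at this }
  have hDZ : D ≤ Z := fun g hg => hg.1
  have hDne : D ≠ Z := by
    intro h
    have : z₀ ∈ D := by rw [h]; exact hz₀Z
    have h1 : ρU z₀ = 1 := this.2
    have h2 := hK1 ⟨z₀, hz₀Z⟩
    rw [h1] at h2
    have h3 := congrArg (fun f : End K U => ((f ⟨u₀, hu₀U⟩ : U) : W)) h2
    simp only [Module.End.one_apply, LinearMap.smul_apply, Submodule.coe_smul] at h3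
    have h4 : (1 - χ ⟨z₀, hz₀Z⟩) • u₀ = 0 := by rw [sub_smul, one_smul, ← h3, sub_self]
    rcases smul_eq_zero.1 h4 with h5 | h5
    · exact hχz₀ (sub_eq_zero.1 h5).symm
    · exact hu₀ h5
  -- (K3)
  have hK3 : ∀ g, (∀ h, Commute (ρU g) (ρU h)) → g ∈ Z := by
    intro g hg
    apply hD D hDZ hDne
    intro h
    refine ⟨hcomm g h, ?_⟩
    show ρU ⁅g, h⁆ = 1
    rw [commutatorElement_def, map_mul, map_mul, map_mul, (hg h).eq, mul_assoc (ρU h),
      rho_mul_inv, mul_one, rho_mul_inv]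
  have hsc : scSubgroup ρU = Z := by
    ext g
    constructor
    · intro hg
      exact hK3 g (fun h => IsSc.commute hg _)
    · intro hg
      exact ⟨χ ⟨g, hg⟩, hK1 ⟨g, hg⟩⟩
  have hES : ESRep ρU :=
    { comm := by
        intro g h
        refine ⟨χ ⟨⁅g, h⁆, hcomm g h⟩, ?_⟩
        have e : g * h = ⁅g, h⁆ * (h * g) := by rw [commutatorElement_def]; group
        rw [← map_mul, e, map_mul, hK1 ⟨⁅g, h⁆, hcomm g h⟩, map_mul]
        simp
      nondeg := by
        intro g hg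
        have := hK3 g hg
        exact ⟨χ ⟨g, this⟩, hK1 ⟨g, this⟩⟩ }
  have htU : tU ^ r = 1 := by
    ext m
    rw [Module.End.pow_restrict r hUt]
    simp [ht]
  have hσU : ∀ g, tU * ρU g = ρU (σ g) * tU := by
    intro g
    ext m
    have := congrArg (fun f : End K W => f (m : W)) (hσ g)
    simpa [tU, ρU] using this
  have hfixU : ∀ u : U, tU u = u → u = 0 := by
    intro u hu
    have : t (u : W) = u := congrArg Subtype.val hu
    exact Subtype.ext (hfixW _ this)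
  have hfdU : FiniteDimensional K U := inferInstance
  have hmain := hES.card_quot_of_fpf hr hrK hQK htU σ hσU
    (by rw [hsc]; exact hsemi) (by rw [hsc]; exact hne) hfixU
  rw [← Subgroup.index_eq_card, hsc] at hmain
  exact hmain

end Cfsg.Agent.Lib.Helper71_ESFpf
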