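import Mathlib
import Cfsg.Agent.Lib.Helper71_ESFpf

/-!
# Fixed points: the abelian case (helper71)

`exists_fixed_of_abelian_action`: a finite abelian `p'`-group `Q` acting non-trivially on an
elementary abelian `p`-group `V`, normalised by an automorphism `τ` of `V` of prime order `r`
inducing a fixed-point-free automorphism `σ` of `Q`: then `τ` fixes a non-identity element of `V`.
-/

set_option autoImplicit false

namespace Cfsg.Agent.Lib.Helper71_AbFpf

open Module
open Cfsg.Agent.Lib.Helper71_ESLinear Cfsg.Agent.Lib.Helper71_ModRep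
open Cfsg.Agent.Lib.Helper81_JointEigen Cfsg.Agent.Lib.Helper71_ESFpf

universe u

variable {K : Type*} [Field K] {W : Type*} [AddCommGroup W] [Module K W]

/-- **Abelian case (linear).** A commutative group acting, normalised by an operator `t` of prime
order `r` inducing a fixed-point-free automorphism `σ`: if the group acts non-trivially then `t`
has a non-zero fixed vector. -/
theorem exists_fixed_of_abelian [IsAlgClosed K] [FiniteDimensional K W]
    {Q : Type*} [CommGroup Q] [Finite Q] (ρ : Representation K Q W)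
    (hQK : (Nat.card Q : K) ≠ 0) {r : ℕ} (hr : r.Prime) {t : End K W} (ht : t ^ r = 1)
    (σ : MulAut Q) (hσr : σ ^ r = 1) (hσ : ∀ g, t * ρ g = ρ (σ g) * t)
    (hσfix : ∀ g, σ g = g → g = 1) (hne : ∃ g, ρ g ≠ 1) :
    ∃ w : W, w ≠ 0 ∧ t w = w := by
  classical
  obtain ⟨g₀, hg₀⟩ := hne
  have hr0 : 0 < r := hr.pos
  have hA : ∀ g, ρ g ^ Nat.card Q = 1 := by
    intro g
    rw [← map_pow, pow_card_eq_one', map_one]
  have hAcomm : ∀ g h, Commute (ρ g) (ρ h) := by
    intro g h
    show ρ g * ρ h = ρ h * ρ g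
    rw [← map_mul, ← map_mul, mul_comm]
  have hsup := iSup_jointEigenspace hQK (fun g => ρ g) hA hAcomm
  have hind := iSupIndep_jointEigenspace hQK (fun g => ρ g) hA hAcomm
  have hex : ∃ χ : Q → K, jointEigenspace (fun g => ρ g) χ ≠ ⊥ ∧ χ g₀ ≠ 1 := by
    by_contra hcon
    push Not at hcon
    apply hg₀
    ext w
    have hw : w ∈ (⨆ χ : Q → K, jointEigenspace (fun g => ρ g) χ) := by rw [hsup]; trivial
    induction hw using Submodule.iSup_induction' with
    | mem χ x hx =>
      by_cases h0 : jointEigenspace (fun g => ρ g) χ = ⊥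
      · rw [h0, Submodule.mem_bot] at hx
        rw [hx]; simp
      · have h1 := hcon χ h0
        have h2 := (mem_jointEigenspace (fun g => ρ g) χ x).1 hx g₀
        rw [h2, h1, one_smul]; rfl
    | zero => simp
    | add x y _ _ hx hy =>
      rw [map_add, hx, hy]; simp
  obtain ⟨χ, hE0, hχg₀⟩ := hex
  obtain ⟨w, hwE, hw0⟩ := (Submodule.ne_bot_iff _).1 hE0
  have hwχ : ∀ g, ρ g w = χ g • w := (mem_jointEigenspace (fun g => ρ g) χ w).1 hwE
  -- χ is multiplicative
  have hχmul : ∀ g h, χ (g * h) = χ g * χ h := by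
    intro g h
    have h1 := hwχ (g * h)
    rw [map_mul, Module.End.mul_apply, hwχ h, map_smul, hwχ g, smul_smul] at h1
    have h2 : (χ h * χ g - χ (g * h)) • w = 0 := by rw [sub_smul, h1, sub_self]
    rcases smul_eq_zero.1 h2 with h3 | h3
    · rw [← sub_eq_zero.1 h3, mul_comm]
    · exact absurd h3 hw0
  have hχ1 : χ 1 = 1 := by
    have h1 := hwχ 1
    rw [map_one, Module.End.one_apply] at h1
    have h2 : (1 - χ 1) • w = 0 := by rw [sub_smul, one_smul, ← h1, sub_self]
    rcases smul_eq_zero.1 h2 with h3 | h3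
    · exact (sub_eq_zero.1 h3).symm
    · exact absurd h3 hw0
  -- `t ^ k w` is a weight vector for `χ ∘ σ^{-k}`
  have hshift : ∀ g, ρ g * t = t * ρ (σ⁻¹ g) := by
    intro g
    rw [hσ, MulAut.apply_inv_self]
  have hshiftk : ∀ (k : ℕ) g, ρ g * t ^ k = t ^ k * ρ (((σ⁻¹) ^ k) g) := by
    intro k
    induction k with
    | zero => intro g; simp
    | succ k ih =>
      intro g
      rw [pow_succ, ← mul_assoc, ih, mul_assoc, hshift, ← mul_assoc, pow_succ' (σ⁻¹),
        MulAut.mul_apply]
  have hwt : ∀ (k : ℕ) g, ρ g ((t ^ k) w) = χ (((σ⁻¹) ^ k) g) • (t ^ k) w := by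
    intro k g
    rw [← Module.End.mul_apply, hshiftk, Module.End.mul_apply, hwχ, map_smul]
  have htk_ne : ∀ k : ℕ, (t ^ k) w ≠ 0 := by
    intro k h
    apply hw0
    have : (t ^ (r - k % r) * t ^ (k % r)) w = w := by
      rw [← pow_add, Nat.sub_add_cancel (Nat.mod_lt k hr0).le, ht, Module.End.one_apply]
    have hk : t ^ k = t ^ (k % r) := by
      conv_lhs => rw [← Nat.div_add_mod k r, pow_add, pow_mul, ht, one_pow, one_mul]
    rw [hk] at h
    rw [← this, Module.End.mul_apply, h, map_zero]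
  -- the characters `χ ∘ σ^{-k}`, `k < r`, are distinct
  let χk : Fin r → (Q → K) := fun k g => χ (((σ⁻¹) ^ (k : ℕ)) g)
  have hχk_inj : Function.Injective χk := by
    intro j k hjk
    by_contra hne
    -- some 0 < m < r with χ ∘ σ^{-m} = χ
    have key : ∀ a b : ℕ, a < b → b < r → (∀ g, χ (((σ⁻¹) ^ a) g) = χ (((σ⁻¹) ^ b) g)) → False := by
      intro a b hab hbr hfun
      have hm : ∀ g, χ g = χ (((σ⁻¹) ^ (b - a)) g) := by
        intro g
        have := hfun ((σ ^ a) g)
        have e1 : ((σ⁻¹) ^ a) ((σ ^ a) g) = g := by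
          rw [← MulAut.mul_apply, inv_pow, inv_mul_cancel, MulAut.one_apply]
        have e2 : ((σ⁻¹) ^ b) ((σ ^ a) g) = ((σ⁻¹) ^ (b - a)) g := by
          rw [← MulAut.mul_apply]
          congr 1
          have : b = (b - a) + a := by omega
          conv_lhs => rw [this, pow_add, mul_assoc, inv_pow σ a, inv_mul_cancel, mul_one]
        rw [e1, e2] at this
        exact this
      -- iterate: χ = χ ∘ σ^{-(b-a) n}
      have hmn : ∀ (n : ℕ) g, χ g = χ (((σ⁻¹) ^ ((b - a) * n)) g) := by
        intro n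
        induction n with
        | zero => intro g; simp
        | succ n ih =>
          intro g
          rw [Nat.mul_succ, pow_add, MulAut.mul_apply, ← ih, ← hm]
      -- choose n with (b - a) n ≡ 1 mod r
      have hcop : Nat.Coprime (b - a) r := by
        apply Nat.Coprime.symm
        rw [Nat.Prime.coprime_iff_not_dvd hr]
        intro hdvd
        have := Nat.le_of_dvd (by omega) hdvd
        omega
      obtain ⟨n, -, hn⟩ := Nat.exists_mul_mod_eq_one_of_coprime hcop hr.one_lt
      have hσinv_r : (σ⁻¹) ^ r = 1 := by rw [inv_pow, hσr, inv_one]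
      have hpow1 : (σ⁻¹) ^ ((b - a) * n) = σ⁻¹ := by
        conv_lhs => rw [← Nat.div_add_mod ((b - a) * n) r, pow_add, pow_mul, hσinv_r, one_pow,
          one_mul, hn, pow_one]
      have hinv : ∀ g, χ g = χ (σ⁻¹ g) := by
        intro g
        have := hmn n g
        rwa [hpow1] at this
      -- then χ (σ g * g⁻¹) = 1 for all g, and g ↦ σ g * g⁻¹ is onto
      have h1 : ∀ g, χ (σ g * g⁻¹) = 1 := by
        intro g
        have e := hinv (σ g)
        rw [MulAut.inv_apply_self] at e
        have : χ (σ g * g⁻¹) * χ g = χ g := by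
          rw [← hχmul, inv_mul_cancel_right, e]
        have hχg : χ g ≠ 0 := by
          intro h0
          have := hχmul g g⁻¹
          rw [mul_inv_cancel, hχ1, h0, zero_mul] at this
          exact one_ne_zero this
        exact mul_right_cancel₀ hχg (by rw [this, one_mul])
      have hbij : Function.Surjective (fun g : Q => σ g * g⁻¹) := by
        apply Finite.surjective_of_injective
        intro g h hgh
        simp only at hgh
        have : σ (g * h⁻¹) = g * h⁻¹ := by
          rw [map_mul, map_inv]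
          have e : σ g = σ h * h⁻¹ * g := by
            rw [← hgh]; simp
          rw [e]
          calc σ h * h⁻¹ * g * (σ h)⁻¹ = g * h⁻¹ * (σ h * (σ h)⁻¹) := by
                rw [mul_comm (σ h * h⁻¹) g, mul_comm (σ h) h⁻¹, mul_assoc, mul_assoc, mul_assoc]
            _ = g * h⁻¹ := by rw [mul_inv_cancel, mul_one]
        have := hσfix _ this
        exact mul_inv_eq_one.1 this
      obtain ⟨g, hg⟩ := hbij g₀
      apply hχg₀
      rw [← hg]
      exact h1 g
    rcases lt_or_gt_of_ne (fun h => hne (Fin.ext h)) with hlt | hlt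
    · exact key j k hlt k.2 (fun g => congrFun hjk g)
    · exact key k j hlt j.2 (fun g => (congrFun hjk g).symm)
  have hindk : iSupIndep fun k : Fin r => jointEigenspace (fun g => ρ g) (χk k) :=
    hind.comp hχk_inj
  have hmemk : ∀ k : Fin r, (t ^ (k : ℕ)) w ∈ jointEigenspace (fun g => ρ g) (χk k) := by
    intro k
    rw [mem_jointEigenspace]
    intro g
    exact hwt k g
  have hli : LinearIndependent K (fun k : Fin r => (t ^ (k : ℕ)) w) :=
    hindk.linearIndependent _ hmemk (fun k => htk_ne k)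
  refine ⟨∑ k : Fin r, (t ^ (k : ℕ)) w, ?_, ?_⟩
  · intro h0
    have := (Fintype.linearIndependent_iff.1 hli) (fun _ => (1 : K)) (by simpa using h0)
      ⟨0, hr0⟩
    exact one_ne_zero this
  · rw [map_sum]
    rw [Fin.sum_univ_eq_sum_range (fun k => (t ^ k) w) r,
      Fin.sum_univ_eq_sum_range (fun k => t ((t ^ k) w)) r]
    have e1 := Finset.sum_range_succ' (fun k => (t ^ k) w) r
    have e2 := Finset.sum_range_succ (fun k => (t ^ k) w) r
    have e3 : ∀ k, t ((t ^ k) w) = (t ^ (k + 1)) w := by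
      intro k; rw [pow_succ', Module.End.mul_apply]
    simp only [e3]
    rw [e2] at e1
    simp only [ht, pow_zero] at e1
    exact (add_right_cancel e1).symm


/-- **Abelian case (group action form).** -/
theorem exists_fixed_of_abelian_action {p r : ℕ} [Fact p.Prime] (hr : r.Prime)
    {Q : Type*} [CommGroup Q] [Finite Q] (hpQ : ¬ p ∣ Nat.card Q)
    {V : Type u} [CommGroup V] [Finite V] (hV : ∀ v : V, v ^ p = 1)
    (ψ : Q →* MulAut V) (τ : MulAut V) (σ : MulAut Q)
    (hτr : τ ^ r = 1) (hσr : σ ^ r = 1) (hτψ : ∀ g, τ * ψ g = ψ (σ g) * τ)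
    (hσfix : ∀ g, σ g = g → g = 1) (hne : ∃ g, ψ g ≠ 1) :
    ∃ v : V, v ≠ 1 ∧ τ v = v := by
  classical
  obtain ⟨W, _, _, _, Φ, hΦfix, hΦinj⟩ := exists_rep p hV
  let K := AlgebraicClosure (ZMod p)
  let ρ : Representation K Q W := Φ.comp ψ
  let t : End K W := Φ τ
  have ht : t ^ r = 1 := by
    show Φ τ ^ r = 1
    rw [← map_pow, hτr, map_one]
  have hσ : ∀ g, t * ρ g = ρ (σ g) * t := by
    intro g
    show Φ τ * Φ (ψ g) = Φ (ψ (σ g)) * Φ τ
    rw [← map_mul, ← map_mul, hτψ]
  have hQK : (Nat.card Q : K) ≠ 0 := natCast_ne_zero_of_not_dvd p _ hpQ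
  obtain ⟨g₀, hg₀⟩ := hne
  have hne' : ∃ g, ρ g ≠ 1 := ⟨g₀, fun h => hg₀ (hΦinj _ h)⟩
  obtain ⟨w, hw0, hw⟩ := exists_fixed_of_abelian ρ hQK hr ht σ hσr hσ hσfix hne'
  by_contra hcon
  push Not at hcon
  have : ∀ v, τ v = v → v = 1 := by
    intro v hv
    by_contra hv1
    exact hcon v hv1 hv
  exact hw0 (hΦfix τ this w hw)

end Cfsg.Agent.Lib.Helper71_AbFpf
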