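import Mathlib
import Cfsg.Agent.S3765

set_option autoImplicit false

namespace Cfsg.Agent.Lib.Helper71_Holomorph

open SemidirectProduct

/-- non-faithful / abstract form of `S3765`, obtained by applying it inside the holomorph
`V ⋊ Aut V` -/
theorem commute_of_fpf {p q r : ℕ} (hp : p.Prime) (hq : q.Prime) (hr : r.Prime)
    (hpq : p ≠ q) (hpr : p ≠ r) (hqr : q ≠ r)
    {V : Type*} [CommGroup V] [Finite V] (hVp : ∀ v : V, v ^ p = 1)
    (x : MulAut V) (hxr : x ^ r = 1) (Q : Subgroup (MulAut V)) (hQ : IsPGroup q Q)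
    (hxQ : x ∈ Subgroup.normalizer (Q : Set (MulAut V)))
    (hexc : q = 2 → (∃ n : ℕ, r = 2 ^ n + 1) → IsMulCommutative Q)
    (hfix : ∀ v, x v = v → v = 1) : ∀ g ∈ Q, x * g = g * x := by
  classical
  by_cases hx1 : x = 1
  · intro g _; rw [hx1, one_mul, mul_one]
  have hfinH : Finite (V ⋊[MonoidHom.id (MulAut V)] MulAut V) :=
    Finite.of_equiv _ (SemidirectProduct.equivProd).symm
  let ix : V ⋊[MonoidHom.id (MulAut V)] MulAut V := inr x
  let X' : Subgroup (V ⋊[MonoidHom.id (MulAut V)] MulAut V) := Subgroup.zpowers ix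
  let Q' : Subgroup (V ⋊[MonoidHom.id (MulAut V)] MulAut V) := Q.map inr
  let V' : Subgroup (V ⋊[MonoidHom.id (MulAut V)] MulAut V) :=
    (inl : V →* V ⋊[MonoidHom.id (MulAut V)] MulAut V).range
  have hVn : V'.Normal := by
    show ((inl : V →* V ⋊[MonoidHom.id (MulAut V)] MulAut V).range).Normal
    rw [range_inl_eq_ker_rightHom]
    infer_instance
  have hord : orderOf x = r := by
    have h1 : orderOf x ∣ r := orderOf_dvd_of_pow_eq_one hxr
    rcases (Nat.dvd_prime hr).1 h1 with h | h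
    · exact absurd (orderOf_eq_one_iff.1 h) hx1
    · exact h
  have hX' : Nat.card X' = r := by
    rw [Nat.card_zpowers]
    show orderOf (inr x : V ⋊[MonoidHom.id (MulAut V)] MulAut V) = r
    rw [orderOf_injective _ inr_injective, hord]
  have hQ' : IsPGroup q Q' := hQ.map _
  have hXQ' : X' ≤ Subgroup.normalizer (Q' : Set (V ⋊[MonoidHom.id (MulAut V)] MulAut V)) := by
    rw [Subgroup.zpowers_le]
    exact Subgroup.le_normalizer_map _ ⟨x, hxQ, rfl⟩
  have hVel : Cfsg.IsElementaryAbelian p V' := by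
    constructor
    · constructor
      constructor
      rintro ⟨_, v, rfl⟩ ⟨_, w, rfl⟩
      apply Subtype.ext
      show inl v * inl w = inl w * inl v
      rw [← map_mul, ← map_mul, mul_comm]
    · rintro _ ⟨v, rfl⟩
      rw [← map_pow, hVp, map_one]
  have hVnt : Nontrivial V := by
    by_contra h
    rw [not_nontrivial_iff_subsingleton] at h
    apply hx1
    ext v
    exact Subsingleton.elim _ _
  have hV1 : V' ≠ ⊥ := by
    obtain ⟨v, hv⟩ := exists_ne (1 : V)
    intro h
    have : (inl v : V ⋊[MonoidHom.id (MulAut V)] MulAut V) ∈ V' := ⟨v, rfl⟩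
    rw [h, Subgroup.mem_bot] at this
    apply hv
    apply inl_injective (φ := MonoidHom.id (MulAut V))
    rw [this, map_one]
  have hNtop : Subgroup.normalizer (V' : Set (V ⋊[MonoidHom.id (MulAut V)] MulAut V)) = ⊤ :=
    Subgroup.normalizer_eq_top V'
  have hXV' : X' ≤ Subgroup.normalizer (V' : Set (V ⋊[MonoidHom.id (MulAut V)] MulAut V)) := by
    rw [hNtop]; exact le_top
  have hQV' : Q' ≤ Subgroup.normalizer (V' : Set (V ⋊[MonoidHom.id (MulAut V)] MulAut V)) := by
    rw [hNtop]; exact le_top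
  have hcenV : ∀ a : MulAut V,
      (inr a : V ⋊[MonoidHom.id (MulAut V)] MulAut V) ∈ Subgroup.centralizer (V' : Set (V ⋊[MonoidHom.id (MulAut V)] MulAut V)) →
      a = 1 := by
    intro a ha
    rw [Subgroup.mem_centralizer_iff] at ha
    ext v
    have h1 := ha (inl v) ⟨v, rfl⟩
    have h2 : (inl ((MonoidHom.id (MulAut V)) a v) : V ⋊[MonoidHom.id (MulAut V)] MulAut V)
        = inl v := by
      rw [inl_aut, ← h1]
      rw [mul_assoc, ← map_mul, mul_inv_cancel, map_one, mul_one]
    exact inl_injective h2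
  have hfaith : (X' ⊔ Q') ⊓ Subgroup.centralizer (V' : Set (V ⋊[MonoidHom.id (MulAut V)] MulAut V)) = ⊥ := by
    rw [eq_bot_iff]
    rintro h ⟨h1, h2⟩
    have hle : X' ⊔ Q' ≤ (inr : MulAut V →* V ⋊[MonoidHom.id (MulAut V)] MulAut V).range := by
      apply sup_le
      · rw [Subgroup.zpowers_le]; exact ⟨x, rfl⟩
      · exact Subgroup.map_le_range _ _
    obtain ⟨a, rfl⟩ := hle h1
    rw [Subgroup.mem_bot, hcenV a h2, map_one]
  have hexc' : q = 2 → (∃ n : ℕ, r = 2 ^ n + 1) → IsMulCommutative Q' := by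
    intro h1 h2
    have := hexc h1 h2
    constructor
    constructor
    rintro ⟨_, a, ha, rfl⟩ ⟨_, b, hb, rfl⟩
    apply Subtype.ext
    show inr a * inr b = inr b * inr a
    have h3 := this.is_comm.comm ⟨a, ha⟩ ⟨b, hb⟩
    have h4 : a * b = b * a := congrArg Subtype.val h3
    rw [← map_mul, ← map_mul, h4]
  -- main dichotomy
  have hprime : Fact (Nat.card X').Prime := ⟨by rw [hX']; exact hr⟩
  rcases Subgroup.eq_bot_or_eq_top_of_prime_card
    ((Subgroup.centralizer (Q' : Set (V ⋊[MonoidHom.id (MulAut V)] MulAut V))).subgroupOf X') with h | h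
  · exfalso
    have hXfaith : X' ⊓ Subgroup.centralizer (Q' : Set (V ⋊[MonoidHom.id (MulAut V)] MulAut V)) = ⊥ := by
      rw [Subgroup.subgroupOf_eq_bot] at h
      rw [inf_comm]
      exact h.eq_bot
    have hres := Cfsg.Agent.S3765.result hp hq hr hpq hpr hqr X' Q' V' hX' hQ' hXQ' hXfaith hVel hV1
      hXV' hQV' hfaith hexc'
    apply hres
    rw [eq_bot_iff]
    rintro h ⟨⟨v, rfl⟩, h2⟩
    have h2' : (inl v : V ⋊[MonoidHom.id (MulAut V)] MulAut V) ∈
        Subgroup.centralizer (X' : Set (V ⋊[MonoidHom.id (MulAut V)] MulAut V)) := h2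
    rw [Subgroup.mem_centralizer_iff] at h2'
    have h3 := h2' ix (Subgroup.mem_zpowers ix)
    have h4 : (inl ((MonoidHom.id (MulAut V)) x v) : V ⋊[MonoidHom.id (MulAut V)] MulAut V)
        = inl v := by
      rw [inl_aut]
      show ix * inl v * inr x⁻¹ = inl v
      rw [h3, mul_assoc]
      show inl v * (inr x * inr x⁻¹) = inl v
      rw [← map_mul, mul_inv_cancel, map_one, mul_one]
    have h5 : x v = v := inl_injective h4
    rw [Subgroup.mem_bot, hfix v h5, map_one]
  · rw [Subgroup.subgroupOf_eq_top] at h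
    intro g hg
    have h1 : ix ∈ Subgroup.centralizer (Q' : Set (V ⋊[MonoidHom.id (MulAut V)] MulAut V)) := h (Subgroup.mem_zpowers ix)
    rw [Subgroup.mem_centralizer_iff] at h1
    have h2 := h1 (inr g) ⟨g, hg, rfl⟩
    have h3 : (inr (g * x) : V ⋊[MonoidHom.id (MulAut V)] MulAut V) = inr (x * g) := by
      rw [map_mul, map_mul]; exact h2
    exact (inr_injective h3).symm

end Cfsg.Agent.Lib.Helper71_Holomorph
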