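import Mathlib
import Cfsg.Agent.S1445
import Cfsg.Agent.Lib.Helper52_FrobFormula
import Cfsg.Agent.Lib.Helper24_CoprimeAction
import Cfsg.Agent.Lib.Helper1_Cores
import Cfsg.Agent.Lib.Helper52_PrimeAct

/-!
# B-G Proposition 15.2, abstract core, part (a)

Setting: a finite solvable group `X = N R` of odd order, `N` normal, `(|N|, |R|) = 1`, `R` acting on
`N` in a prime manner (`C_N(x) = C_N(R)` for `x ∈ R#`) with `C = C_N(R)` of prime order `q`,
`[N, R] = N` and `N` not nilpotent.  Then `O_q(N)` contains `C`, is a Sylow `q`-subgroup of `N`, and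
`N / O_q(N)` is nilpotent.
-/

set_option autoImplicit false
set_option linter.unusedSectionVars false
set_option linter.unusedVariables false
set_option linter.style.haveILetI false

namespace Cfsg.Agent.Lib.Helper48_BG15a

open Cfsg
open Cfsg.Agent.Lib.Helper1_Cores
open scoped commutatorElement

theorem isPGroup_zpowers_of_pow {H : Type*} [Group H] {q : ℕ} {c : H} (hq : c ^ q = 1) :
    IsPGroup q (Subgroup.zpowers c) := by
  intro g
  refine ⟨1, ?_⟩
  obtain ⟨g, hg⟩ := g
  obtain ⟨n, rfl⟩ := Subgroup.mem_zpowers_iff.mp hg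
  apply Subtype.ext
  simp only [pow_one, Subgroup.coe_pow, Subgroup.coe_one]
  rw [← zpow_natCast, ← zpow_mul, mul_comm, zpow_mul, zpow_natCast, hq, one_zpow]

/-- An element of order dividing `q` of the Fitting subgroup lies in `O_q`. -/
theorem mem_pCore_of_mem_fitting {H : Type*} [Group H] [Finite H] {q : ℕ} [Fact q.Prime] {c : H}
    (hc : c ∈ fittingSubgroup H) (hq : c ^ q = 1) : c ∈ pCore q H := by
  have hnil : Group.IsNilpotent ↥(fittingSubgroup H) := fittingSubgroup_isNilpotent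
  have h3 := (Group.isNilpotent_of_finite_tfae (G := ↥(fittingSubgroup H))).out 0 3 |>.mp hnil
  let P : Sylow q ↥(fittingSubgroup H) := default
  have hPn : (P : Subgroup ↥(fittingSubgroup H)).Normal := h3 q inferInstance P
  have hPc : (P : Subgroup ↥(fittingSubgroup H)).Characteristic := Sylow.characteristic_of_normal P hPn
  have hn : ((P : Subgroup ↥(fittingSubgroup H)).map (fittingSubgroup H).subtype).Normal := inferInstance
  have hp : IsPGroup q ↥((P : Subgroup ↥(fittingSubgroup H)).map (fittingSubgroup H).subtype) :=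
    P.isPGroup'.map _
  have hle := le_pCore hn hp
  apply hle
  refine ⟨⟨c, hc⟩, ?_, rfl⟩
  have hz : IsPGroup q (Subgroup.zpowers (⟨c, hc⟩ : ↥(fittingSubgroup H))) := by
    apply isPGroup_zpowers_of_pow
    apply Subtype.ext
    simpa using hq
  obtain ⟨P', hP'⟩ := hz.exists_le_sylow
  obtain ⟨g, hg⟩ := MulAction.exists_smul_eq (fittingSubgroup H) P P'
  have : P' = P := by
    rw [← hg]
    exact Sylow.smul_eq_of_normal
  rw [this] at hP'
  exact hP' (Subgroup.mem_zpowers _)

/-- The hypotheses of the abstract form of B-G 15.2. -/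
structure Setup {X : Type*} [Group X] (N R : Subgroup X) (q : ℕ) : Prop where
  normal : N.Normal
  sup : N ⊔ R = ⊤
  cop : (Nat.card N).Coprime (Nat.card R)
  R_ne : R ≠ ⊥
  prime_act : ∀ x ∈ R, x ≠ 1 →
    N ⊓ Subgroup.centralizer ({x} : Set X) = N ⊓ Subgroup.centralizer (R : Set X)
  card_C : Nat.card ↥(N ⊓ Subgroup.centralizer (R : Set X)) = q
  comm : ⁅N, R⁆ = N
  not_nil : ¬ Group.IsNilpotent N

variable {X : Type*} [Group X] [Finite X]

/-- `O_q(N)` as a subgroup of `X`. -/
def Q1 (N : Subgroup X) (q : ℕ) : Subgroup X := (pCore q ↥N).map N.subtype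

theorem Q1_le (N : Subgroup X) (q : ℕ) : Q1 N q ≤ N := Subgroup.map_subtype_le _

theorem Q1_isPGroup (N : Subgroup X) (q : ℕ) [Fact q.Prime] : IsPGroup q (Q1 N q) :=
  (pCore_isPGroup q).map _

theorem Q1_normal (N : Subgroup X) [hN : N.Normal] (q : ℕ) [Fact q.Prime] : (Q1 N q).Normal := by
  unfold Q1
  infer_instance

/-- Step 1: `C = C_N(R)` lies in `O_q(N)`. -/
theorem C_le_Q1 [Group.IsSolvable X] (hodd : Odd (Nat.card X)) {N R : Subgroup X} {q : ℕ}
    [hq : Fact q.Prime] (h : Setup N R q) :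
    N ⊓ Subgroup.centralizer (R : Set X) ≤ Q1 N q := by
  haveI := h.normal
  have hF : fittingOf N ⊓ Subgroup.centralizer (R : Set X) ≠ ⊥ := by
    intro hbot
    have h1 := Cfsg.Agent.S1445.result hodd N R h.sup h.cop h.prime_act hbot
    rw [h.comm] at h1
    apply h.not_nil
    have h2 : fittingSubgroup ↥N = ⊤ := by
      rw [eq_top_iff]
      intro x _
      obtain ⟨y, hy, hyx⟩ := h1 x.2
      have : y = x := Subtype.ext hyx
      rw [← this]
      exact hy
    have h3 : Group.IsNilpotent ↥(fittingSubgroup ↥N) := fittingSubgroup_isNilpotent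
    rw [h2] at h3
    exact Group.nilpotent_of_mulEquiv (Subgroup.topEquiv)
  obtain ⟨⟨c, hc⟩, hc1⟩ := (Subgroup.ne_bot_iff_exists_ne_one).mp hF
  have hc1' : c ≠ 1 := fun h0 => hc1 (Subtype.ext h0)
  obtain ⟨hcF, hcR⟩ := Subgroup.mem_inf.mp hc
  obtain ⟨c', hc'F, hc'c⟩ := hcF
  have hcN : c ∈ N := by rw [← hc'c]; exact c'.2
  have hcC : c ∈ N ⊓ Subgroup.centralizer (R : Set X) := Subgroup.mem_inf.mpr ⟨hcN, hcR⟩
  -- c has order q
  have hcq : c ^ q = 1 := by
    have := pow_card_eq_one' (G := ↥(N ⊓ Subgroup.centralizer (R : Set X))) (x := ⟨c, hcC⟩)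
    rw [h.card_C] at this
    exact congrArg Subtype.val this
  have hc'q : c' ^ q = 1 := by
    apply Subtype.ext
    rw [Subgroup.coe_pow]
    change (N.subtype c') ^ q = 1
    rw [hc'c, hcq]
  have hcQ : c ∈ Q1 N q := ⟨c', mem_pCore_of_mem_fitting hc'F hc'q, hc'c⟩
  -- C is generated by c
  haveI : Fact (Nat.card ↥(N ⊓ Subgroup.centralizer (R : Set X))).Prime := by
    rw [h.card_C]; exact hq
  have hz := zpowers_eq_top_of_prime_card (G := ↥(N ⊓ Subgroup.centralizer (R : Set X)))
    (g := ⟨c, hcC⟩) (p := Nat.card ↥(N ⊓ Subgroup.centralizer (R : Set X))) rfl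
    (fun h0 => hc1' (congrArg Subtype.val h0))
  intro x hx
  have hx' : (⟨x, hx⟩ : ↥(N ⊓ Subgroup.centralizer (R : Set X))) ∈
      Subgroup.zpowers (⟨c, hcC⟩ : ↥(N ⊓ Subgroup.centralizer (R : Set X))) := by
    rw [hz]; trivial
  obtain ⟨n, hn⟩ := Subgroup.mem_zpowers_iff.mp hx'
  have hxc : x = c ^ n := by
    have := congrArg Subtype.val hn
    simpa using this.symm
  rw [hxc]
  exact Subgroup.zpow_mem _ hcQ n

/-- `N ∩ R = 1`. -/
theorem Setup.inf_eq_bot {N R : Subgroup X} {q : ℕ} (h : Setup N R q) : N ⊓ R = ⊥ :=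
  (Subgroup.disjoint_of_coprime_natCard h.cop).eq_bot

/-- coprimality of a subgroup of `R` with a subgroup of `N` -/
theorem Setup.cop_of_le {N R : Subgroup X} {q : ℕ} (h : Setup N R q) {A D : Subgroup X}
    (hA : A ≤ R) (hD : D ≤ N) : (Nat.card A).Coprime (Nat.card D) :=
  Nat.Coprime.coprime_dvd_left (Subgroup.card_dvd_of_le hA)
    (Nat.Coprime.coprime_dvd_right (Subgroup.card_dvd_of_le hD) h.cop.symm)

/-- Step 2 (engine): if `L ≤ N` is normal in `X` and contains `C`, then in `X / L` no non-identity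
element of the image of `R` commutes with a non-identity element of the image of `N`. -/
theorem fpf_quot {N R : Subgroup X} {q : ℕ} (h : Setup N R q) (L : Subgroup X) [L.Normal]
    (hLN : L ≤ N) (hCL : N ⊓ Subgroup.centralizer (R : Set X) ≤ L) :
    ∀ e ∈ R.map (QuotientGroup.mk' L), e ≠ 1 → ∀ u ∈ N.map (QuotientGroup.mk' L),
      e * u = u * e → u = 1 := by
  rintro _ ⟨r, hr, rfl⟩ he _ ⟨n, hn, rfl⟩ hcomm
  have hr1 : r ≠ 1 := by
    intro h0
    apply he
    rw [h0, map_one]
  set A : Subgroup X := Subgroup.zpowers r with hA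
  have hAR : A ≤ R := by
    rw [hA, Subgroup.zpowers_le]; exact hr
  have hAD : A ≤ Subgroup.normalizer (L : Set X) := by
    rw [Subgroup.normalizer_eq_top]; exact le_top
  have hcop : (Nat.card A).Coprime (Nat.card L) := h.cop_of_le hAR hLN
  have hfix : ∀ a ∈ A, n⁻¹ * (a * n * a⁻¹) ∈ L := by
    intro a ha
    obtain ⟨k, rfl⟩ := Subgroup.mem_zpowers_iff.mp ha
    rw [← QuotientGroup.eq_one_iff, ← QuotientGroup.mk'_apply]
    have hc2 : QuotientGroup.mk' L (r ^ k) * QuotientGroup.mk' L n =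
        QuotientGroup.mk' L n * QuotientGroup.mk' L (r ^ k) := by
      rw [map_zpow]
      exact (Commute.zpow_left (show Commute (QuotientGroup.mk' L r) (QuotientGroup.mk' L n) from hcomm) k).eq
    rw [map_mul, map_inv, map_mul, map_mul, map_inv, hc2]
    group
  obtain ⟨d, hd, hdc⟩ := Cfsg.Agent.Lib.Helper24_CoprimeAction.exists_fixed_in_coset A L hAD hcop
    (Or.inl (by rw [hA]; exact Cfsg.Agent.Lib.Helper52_PrimeAct.isSolvable_zpowers r)) n hfix
  have hndN : n * d ∈ N := N.mul_mem hn (hLN hd)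
  have hndC : n * d ∈ N ⊓ Subgroup.centralizer ({r} : Set X) := by
    refine Subgroup.mem_inf.mpr ⟨hndN, ?_⟩
    rw [Subgroup.mem_centralizer_singleton_iff]
    exact (hdc r (by rw [hA]; exact Subgroup.mem_zpowers r)).symm
  rw [h.prime_act r hr hr1] at hndC
  have hndL : n * d ∈ L := hCL hndC
  have hnL : n ∈ L := by
    have := L.mul_mem hndL (L.inv_mem hd)
    simpa using this
  rw [QuotientGroup.mk'_apply, QuotientGroup.eq_one_iff]
  exact hnL

/-- the image of `R` in a quotient by a subgroup of `N` is nontrivial -/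
theorem map_R_ne_bot {N R : Subgroup X} {q : ℕ} (h : Setup N R q) (L : Subgroup X) [L.Normal]
    (hLN : L ≤ N) : R.map (QuotientGroup.mk' L) ≠ ⊥ := by
  intro hbot
  apply h.R_ne
  rw [eq_bot_iff]
  intro r hr
  have h1 : QuotientGroup.mk' L r ∈ R.map (QuotientGroup.mk' L) := Subgroup.mem_map_of_mem _ hr
  rw [hbot, Subgroup.mem_bot, QuotientGroup.mk'_apply, QuotientGroup.eq_one_iff] at h1
  have h2 : r ∈ N ⊓ R := Subgroup.mem_inf.mpr ⟨hLN h1, hr⟩
  rw [h.inf_eq_bot] at h2
  exact h2

/-- Step 2: `N / L` is nilpotent for every `X`-normal `L` with `C ≤ L ≤ N` (Thompson). -/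
theorem isNilpotent_map {N R : Subgroup X} {q : ℕ} (h : Setup N R q) (L : Subgroup X) [L.Normal]
    (hLN : L ≤ N) (hCL : N ⊓ Subgroup.centralizer (R : Set X) ≤ L) :
    Group.IsNilpotent ↥(N.map (QuotientGroup.mk' L)) := by
  haveI := h.normal
  haveI : (N.map (QuotientGroup.mk' L)).Normal :=
    Subgroup.Normal.map inferInstance _ (QuotientGroup.mk'_surjective L)
  apply Cfsg.Agent.Lib.Helper52_FrobFormula.nilpotent_of_fpf (N.map (QuotientGroup.mk' L))
    (R.map (QuotientGroup.mk' L)) (map_R_ne_bot h L hLN)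
  · intro e _ u hu
    exact Subgroup.Normal.conj_mem inferInstance u hu e
  · exact fpf_quot h L hLN hCL

/-- Step 3: `O_q(N)` is a Sylow `q`-subgroup of `N`. -/
theorem not_dvd_relIndex_Q1 [Group.IsSolvable X] (hodd : Odd (Nat.card X)) {N R : Subgroup X}
    {q : ℕ} [hq : Fact q.Prime] (h : Setup N R q) : ¬ q ∣ (Q1 N q).relIndex N := by
  haveI := h.normal
  haveI : (Q1 N q).Normal := Q1_normal N q
  have hCQ := C_le_Q1 hodd h
  have hnil := isNilpotent_map h (Q1 N q) (Q1_le N q) hCQ
  set π := QuotientGroup.mk' (Q1 N q) with hπ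
  have hker : π.ker = Q1 N q := QuotientGroup.ker_mk' _
  have hcard : (Q1 N q).relIndex N = Nat.card ↥(N.map π) := by
    have h0 := Subgroup.relIndex_ker (K := N) π
    rw [hker] at h0
    exact h0
  rw [hcard]
  intro hdvd
  haveI hUn : (N.map π).Normal :=
    Subgroup.Normal.map inferInstance _ (QuotientGroup.mk'_surjective _)
  have h3 := (Group.isNilpotent_of_finite_tfae (G := ↥(N.map π))).out 0 3 |>.mp hnil
  let P : Sylow q ↥(N.map π) := default
  have hPn : (P : Subgroup ↥(N.map π)).Normal := h3 q inferInstance P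
  haveI hPc : (P : Subgroup ↥(N.map π)).Characteristic := Sylow.characteristic_of_normal P hPn
  have hP'n : ((P : Subgroup ↥(N.map π)).map (N.map π).subtype).Normal := inferInstance
  set P' : Subgroup (X ⧸ Q1 N q) := (P : Subgroup ↥(N.map π)).map (N.map π).subtype with hP'
  have hP'p : IsPGroup q ↥P' := P.isPGroup'.map _
  have hP'U : P' ≤ N.map π := Subgroup.map_subtype_le _
  -- the preimage W
  set W : Subgroup X := P'.comap π with hW
  have hWn : W.Normal := Subgroup.Normal.comap hP'n π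
  have hWp : IsPGroup q ↥W := by
    apply hP'p.comap_of_ker_isPGroup π
    rw [hker]
    exact Q1_isPGroup N q
  have hWN : W ≤ N := by
    intro w hw
    have h1 : π w ∈ N.map π := hP'U hw
    obtain ⟨n, hn, hnw⟩ := h1
    have h2 : n⁻¹ * w ∈ Q1 N q := by
      rw [← QuotientGroup.eq, ← QuotientGroup.mk'_apply, ← QuotientGroup.mk'_apply]
      exact hnw
    have h3 : w = n * (n⁻¹ * w) := by group
    rw [h3]
    exact N.mul_mem hn (Q1_le N q h2)
  -- W.subgroupOf N is a normal q-subgroup of N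
  have hWsub : W.subgroupOf N ≤ pCore q ↥N := by
    apply le_pCore
    · exact Subgroup.Normal.subgroupOf hWn N
    · exact hWp.comap_of_injective _ (Subgroup.subtype_injective N)
  have hWQ : W ≤ Q1 N q := by
    intro w hw
    exact ⟨⟨w, hWN hw⟩, hWsub (Subgroup.mem_subgroupOf.mpr hw), rfl⟩
  have hP'bot : P' = ⊥ := by
    rw [eq_bot_iff]
    intro x hx
    obtain ⟨w, rfl⟩ := QuotientGroup.mk'_surjective (Q1 N q) x
    have hw : w ∈ W := hx
    rw [Subgroup.mem_bot, QuotientGroup.mk'_apply, QuotientGroup.eq_one_iff]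
    exact hWQ hw
  have hPbot : (P : Subgroup ↥(N.map π)) = ⊥ :=
    (Subgroup.map_eq_bot_iff_of_injective _ (N.map π).subtype_injective).mp hP'bot
  exact P.ne_bot_of_dvd_card hdvd hPbot

end Cfsg.Agent.Lib.Helper48_BG15a
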