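import Mathlib
import Cfsg.Prelude.Def_OddOrderLocal
import Cfsg.Agent.Lib.Helper84_RelSylow

set_option autoImplicit false
open Cfsg

/-!
# Equivariance of the Bender–Glauberman vocabulary under automorphisms (helper79)

For an automorphism `φ : G ≃* G` (in particular a conjugation `MulAut.conj g`) and a subgroup `M`:
`σ(φ M) = σ(M)`, `(φ M)_σ = φ (M_σ)`, `κ(φ M) = κ(M)`, `(φ M)_F = φ (M_F)`,
`R_{φ M}(φ x) = φ (R_M(x))` (`supportR`), and the sets `tildeOf` are closed under conjugation.
-/

namespace Cfsg.Agent.Lib.Helper79_BGConj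

open Subgroup Cfsg.Agent.Lib.Helper84_RelSylow

universe u

variable {G : Type u} [Group G]

section Basics

variable (φ : G ≃* G)

theorem map_map_symm (M : Subgroup G) : (M.map φ.toMonoidHom).map φ.symm.toMonoidHom = M := by
  ext x
  simp only [Subgroup.mem_map, MulEquiv.coe_toMonoidHom]
  constructor
  · rintro ⟨_, ⟨y, hy, rfl⟩, rfl⟩
    simpa using hy
  · intro hx
    exact ⟨φ x, ⟨x, hx, rfl⟩, by simp⟩

theorem map_symm_map (M : Subgroup G) : (M.map φ.symm.toMonoidHom).map φ.toMonoidHom = M := by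
  have := map_map_symm φ.symm M
  simpa using this

theorem mem_map_iff {M : Subgroup G} {x : G} : φ x ∈ M.map φ.toMonoidHom ↔ x ∈ M := by
  constructor
  · rintro ⟨y, hy, hyx⟩
    have : y = x := φ.injective hyx
    exact this ▸ hy
  · intro hx
    exact ⟨x, hx, rfl⟩

theorem card_map (M : Subgroup G) : Nat.card ↥(M.map φ.toMonoidHom) = Nat.card ↥M :=
  Subgroup.card_map_of_injective φ.injective

theorem map_le_map_iff {A B : Subgroup G} : A.map φ.toMonoidHom ≤ B.map φ.toMonoidHom ↔ A ≤ B :=
  Subgroup.map_le_map_iff_of_injective φ.injective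

theorem centralizer_image (s : Set G) :
    centralizer (φ '' s) = (centralizer s).map φ.toMonoidHom := by
  ext x
  constructor
  · intro hx
    refine ⟨φ.symm x, ?_, by simp⟩
    intro y hy
    apply φ.injective
    have := hx (φ y) ⟨y, hy, rfl⟩
    simpa using this
  · rintro ⟨y, hy, rfl⟩ _ ⟨z, hz, rfl⟩
    have := hy z hz
    show φ z * φ y = φ y * φ z
    rw [← map_mul, ← map_mul, this]

theorem centralizer_singleton (x : G) :
    centralizer ({φ x} : Set G) = (centralizer ({x} : Set G)).map φ.toMonoidHom := by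
  rw [← centralizer_image, Set.image_singleton]

theorem centralizer_map (K : Subgroup G) :
    centralizer ((K.map φ.toMonoidHom : Subgroup G) : Set G) =
      (centralizer (K : Set G)).map φ.toMonoidHom := by
  rw [← centralizer_image]
  rfl

theorem normalizer_map (K : Subgroup G) :
    normalizer ((K.map φ.toMonoidHom : Subgroup G) : Set G) =
      (normalizer (K : Set G)).map φ.toMonoidHom :=
  (Subgroup.map_equiv_normalizer_eq K φ).symm

theorem isCoatom_map {M : Subgroup G} (hM : IsCoatom M) : IsCoatom (M.map φ.toMonoidHom) := by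
  constructor
  · intro h
    apply hM.1
    have := congrArg (fun K : Subgroup G => K.map φ.symm.toMonoidHom) h
    simp only [map_map_symm] at this
    rw [this]
    ext x
    simp only [Subgroup.mem_map, Subgroup.mem_top, true_and, iff_true]
    exact ⟨φ x, by simp⟩
  · intro K hK
    have h1 : M < K.map φ.symm.toMonoidHom := by
      have h2 : (M.map φ.toMonoidHom).map φ.symm.toMonoidHom < K.map φ.symm.toMonoidHom :=
        Subgroup.map_lt_map_iff_of_injective φ.symm.injective |>.mpr hK
      rwa [map_map_symm] at h2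
    have h3 := hM.2 _ h1
    have := congrArg (fun K : Subgroup G => K.map φ.toMonoidHom) h3
    simp only [map_symm_map] at this
    rw [this]
    ext x
    simp only [Subgroup.mem_map, Subgroup.mem_top, true_and, iff_true]
    exact ⟨φ.symm x, by simp⟩

theorem isSylowIn_map {p : ℕ} {T M : Subgroup G} (h : IsSylowIn p T M) :
    IsSylowIn p (T.map φ.toMonoidHom) (M.map φ.toMonoidHom) :=
  h.map_of_injective _ φ.injective

end Basics


section Sigma

variable [Finite G]

theorem mem_sigma_iff {M : Subgroup G} {p : ℕ} :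
    p ∈ sigma M ↔ p.Prime ∧ p ∣ Nat.card M ∧
      ∃ T : Subgroup G, IsSylowIn p T M ∧ normalizer (T : Set G) ≤ M := by
  constructor
  · rintro ⟨hp, hd, P, hN⟩
    haveI : Fact p.Prime := ⟨hp⟩
    exact ⟨hp, hd, _, isSylowIn_of_sylow P, hN⟩
  · rintro ⟨hp, hd, T, hT, hN⟩
    haveI : Fact p.Prime := ⟨hp⟩
    refine ⟨hp, hd, hT.toSylow, ?_⟩
    rw [IsSylowIn.coe_toSylow, Subgroup.map_subgroupOf_eq_of_le hT.le]
    exact hN

theorem sigma_subset_sigma_map (φ : G ≃* G) (M : Subgroup G) :
    sigma M ⊆ sigma (M.map φ.toMonoidHom) := by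
  intro p hp
  rw [mem_sigma_iff] at hp ⊢
  obtain ⟨hpp, hd, T, hT, hN⟩ := hp
  refine ⟨hpp, by rwa [card_map], T.map φ.toMonoidHom, isSylowIn_map φ hT, ?_⟩
  rw [normalizer_map]
  exact Subgroup.map_mono hN

/-- `σ(φ M) = σ(M)` -/
theorem sigma_map (φ : G ≃* G) (M : Subgroup G) : sigma (M.map φ.toMonoidHom) = sigma M := by
  apply Set.Subset.antisymm
  · have := sigma_subset_sigma_map φ.symm (M.map φ.toMonoidHom)
    rwa [map_map_symm] at this
  · exact sigma_subset_sigma_map φ M

end Sigma

section Cores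

theorem piCore_map_le {K : Type*} {K' : Type*} [Group K] [Group K'] (f : K ≃* K') (π : Set ℕ) :
    (piCore π K).map f.toMonoidHom ≤ piCore π K' := by
  rw [Subgroup.map_le_iff_le_comap]
  unfold piCore
  apply sSup_le
  rintro N ⟨hN, hNπ⟩
  rw [← Subgroup.map_le_iff_le_comap]
  apply le_sSup
  refine ⟨hN.map f.toMonoidHom f.surjective, ?_⟩
  intro q hq hd
  rw [Subgroup.card_map_of_injective f.injective] at hd
  exact hNπ q hq hd

/-- transport of `piCore` along an isomorphism -/
theorem piCore_map_equiv {H : Type*} {H' : Type*} [Group H] [Group H'] (e : H ≃* H') (π : Set ℕ) :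
    piCore π H' = (piCore π H).map e.toMonoidHom := by
  apply le_antisymm
  · have h1 := piCore_map_le e.symm π
    have h2 := Subgroup.map_mono (f := e.toMonoidHom) h1
    rw [Subgroup.map_map] at h2
    have h3 : e.toMonoidHom.comp e.symm.toMonoidHom = MonoidHom.id H' := by
      ext x
      simp
    rw [h3, Subgroup.map_id] at h2
    exact h2
  · exact piCore_map_le e π

theorem fittingHall_map_le {K : Type*} {K' : Type*} [Group K] [Group K'] (f : K ≃* K') :
    (fittingHall K).map f.toMonoidHom ≤ fittingHall K' := by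
  rw [Subgroup.map_le_iff_le_comap]
  unfold fittingHall
  apply sSup_le
  rintro N ⟨hN, hNn, hNc⟩
  rw [← Subgroup.map_le_iff_le_comap]
  apply le_sSup
  refine ⟨hN.map f.toMonoidHom f.surjective, ?_, ?_⟩
  · have e' : ↥N ≃* ↥(N.map f.toMonoidHom) := N.equivMapOfInjective f.toMonoidHom f.injective
    exact Group.nilpotent_of_mulEquiv e'
  · rw [Subgroup.card_map_of_injective f.injective]
    have : (N.map f.toMonoidHom).index = N.index := by
      rw [Subgroup.index_map_of_bijective f.bijective]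
    rw [this]
    exact hNc

/-- transport of `fittingHall` along an isomorphism -/
theorem fittingHall_map_equiv {H : Type*} {H' : Type*} [Group H] [Group H'] (e : H ≃* H') :
    fittingHall H' = (fittingHall H).map e.toMonoidHom := by
  apply le_antisymm
  · have h1 := fittingHall_map_le e.symm
    have h2 := Subgroup.map_mono (f := e.toMonoidHom) h1
    rw [Subgroup.map_map] at h2
    have h3 : e.toMonoidHom.comp e.symm.toMonoidHom = MonoidHom.id H' := by
      ext x
      simp
    rw [h3, Subgroup.map_id] at h2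
    exact h2
  · exact fittingHall_map_le e

/-- the restriction of `φ` to `M`, onto `φ M` -/
noncomputable def resEquiv (φ : G ≃* G) (M : Subgroup G) : ↥M ≃* ↥(M.map φ.toMonoidHom) :=
  M.equivMapOfInjective φ.toMonoidHom φ.injective

theorem subtype_comp_resEquiv (φ : G ≃* G) (M : Subgroup G) :
    (M.map φ.toMonoidHom).subtype.comp (resEquiv φ M).toMonoidHom = φ.toMonoidHom.comp M.subtype := by
  ext x
  rfl

/-- `(φ M)_σ = φ (M_σ)` -/
theorem sigmaCore_map [Finite G] (φ : G ≃* G) (M : Subgroup G) :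
    sigmaCore (M.map φ.toMonoidHom) = (sigmaCore M).map φ.toMonoidHom := by
  unfold sigmaCore
  rw [sigma_map, piCore_map_equiv (resEquiv φ M), Subgroup.map_map, Subgroup.map_map,
    subtype_comp_resEquiv]

/-- `(φ M)_F = φ (M_F)` -/
theorem fittingHallOf_map (φ : G ≃* G) (M : Subgroup G) :
    fittingHallOf (M.map φ.toMonoidHom) = (fittingHallOf M).map φ.toMonoidHom := by
  unfold fittingHallOf
  rw [fittingHall_map_equiv (resEquiv φ M), Subgroup.map_map, Subgroup.map_map,
    subtype_comp_resEquiv]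

end Cores


section Kappa

variable [Finite G]

theorem mem_kappa_iff {M : Subgroup G} {p : ℕ} :
    p ∈ kappa M ↔ p.Prime ∧ p ∣ Nat.card M ∧ p ∉ sigma M ∧
      ∀ T : Subgroup G, IsSylowIn p T M → IsCyclic ↥T ∧
        ∃ x ∈ T, x ≠ 1 ∧ ∃ y ∈ sigmaCore M, y ≠ 1 ∧ x * y = y * x := by
  constructor
  · rintro ⟨hp, hd, hσ, hall⟩
    haveI : Fact p.Prime := ⟨hp⟩
    refine ⟨hp, hd, hσ, ?_⟩
    intro T hT
    obtain ⟨hc, x, hx, hx1, y, hy, hy1, hxy⟩ := hall hT.toSylow
    constructor
    · rw [IsSylowIn.coe_toSylow] at hc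
      have e : ↥(T.subgroupOf M) ≃* ↥T := Subgroup.subgroupOfEquivOfLe hT.le
      exact isCyclic_of_surjective e e.surjective
    · refine ⟨(x : G), (hT.mem_toSylow x).mp hx, ?_, y, hy, hy1, hxy⟩
      intro h
      exact hx1 (Subtype.ext h)
  · rintro ⟨hp, hd, hσ, hall⟩
    haveI : Fact p.Prime := ⟨hp⟩
    refine ⟨hp, hd, hσ, ?_⟩
    intro P
    obtain ⟨hc, x, hx, hx1, y, hy, hy1, hxy⟩ := hall _ (isSylowIn_of_sylow P)
    constructor
    · have e : ↥(P : Subgroup M) ≃* ↥((P : Subgroup M).map M.subtype) :=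
        (P : Subgroup M).equivMapOfInjective M.subtype M.subtype_injective
      exact isCyclic_of_surjective e.symm e.symm.surjective
    · obtain ⟨x', hx', rfl⟩ := hx
      refine ⟨x', hx', ?_, y, hy, hy1, hxy⟩
      intro h
      apply hx1
      rw [h]
      rfl

theorem kappa_subset_kappa_map (φ : G ≃* G) (M : Subgroup G) :
    kappa M ⊆ kappa (M.map φ.toMonoidHom) := by
  intro p hp
  rw [mem_kappa_iff] at hp ⊢
  obtain ⟨hpp, hd, hσ, hall⟩ := hp
  refine ⟨hpp, by rwa [card_map], by rwa [sigma_map], ?_⟩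
  intro T hT
  have hT' : IsSylowIn p (T.map φ.symm.toMonoidHom) M := by
    have := isSylowIn_map φ.symm hT
    rwa [map_map_symm] at this
  obtain ⟨hc, x, hx, hx1, y, hy, hy1, hxy⟩ := hall _ hT'
  constructor
  · have e : ↥T ≃* ↥(T.map φ.symm.toMonoidHom) :=
      T.equivMapOfInjective φ.symm.toMonoidHom φ.symm.injective
    exact isCyclic_of_surjective e.symm e.symm.surjective
  · obtain ⟨x', hx', rfl⟩ := hx
    refine ⟨x', hx', ?_, φ y, ?_, ?_, ?_⟩
    · intro h
      apply hx1
      rw [h]
      simp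
    · rw [sigmaCore_map]
      exact ⟨y, hy, rfl⟩
    · intro h
      apply hy1
      have := congrArg φ.symm h
      simpa using this
    · have h2 := congrArg φ hxy
      simp only [map_mul, MulEquiv.coe_toMonoidHom, MulEquiv.apply_symm_apply] at h2
      exact h2

/-- `κ(φ M) = κ(M)` -/
theorem kappa_map (φ : G ≃* G) (M : Subgroup G) : kappa (M.map φ.toMonoidHom) = kappa M := by
  apply Set.Subset.antisymm
  · have := kappa_subset_kappa_map φ.symm (M.map φ.toMonoidHom)
    rwa [map_map_symm] at this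
  · exact kappa_subset_kappa_map φ M

end Kappa


section SupportR

theorem supportR_le_centralizer (M : Subgroup G) (x : G) :
    supportR M x ≤ centralizer ({x} : Set G) := by
  unfold supportR
  split_ifs with h
  · exact inf_le_right
  · exact bot_le

theorem supportR_eq_bot_of_le {M : Subgroup G} {x : G} (h : centralizer ({x} : Set G) ≤ M) :
    supportR M x = ⊥ := by
  unfold supportR
  rw [dif_neg]
  intro h'
  exact h'.1 h

theorem supportR_eq_of_unique {M L : Subgroup G} {x : G} (h1 : ¬ centralizer ({x} : Set G) ≤ M)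
    (hL : IsCoatom L) (hCL : centralizer ({x} : Set G) ≤ L)
    (huniq : ∀ L' : Subgroup G, IsCoatom L' → centralizer ({x} : Set G) ≤ L' → L' = L) :
    supportR M x = fittingHallOf L ⊓ centralizer ({x} : Set G) := by
  have h : ¬ centralizer ({x} : Set G) ≤ M ∧
      ∃! L : Subgroup G, IsCoatom L ∧ centralizer ({x} : Set G) ≤ L :=
    ⟨h1, L, ⟨hL, hCL⟩, fun L' hL' => huniq L' hL'.1 hL'.2⟩
  unfold supportR
  rw [dif_pos h]
  have hspec := Classical.choose_spec h.2.exists
  rw [huniq _ hspec.1 hspec.2]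

theorem supportR_cases (M : Subgroup G) (x : G) :
    (supportR M x = ⊥) ∨ (¬ centralizer ({x} : Set G) ≤ M ∧ ∃ L : Subgroup G, IsCoatom L ∧
      centralizer ({x} : Set G) ≤ L ∧
      (∀ L' : Subgroup G, IsCoatom L' → centralizer ({x} : Set G) ≤ L' → L' = L) ∧
      supportR M x = fittingHallOf L ⊓ centralizer ({x} : Set G)) := by
  by_cases h : ¬ centralizer ({x} : Set G) ≤ M ∧
      ∃! L : Subgroup G, IsCoatom L ∧ centralizer ({x} : Set G) ≤ L
  · right
    obtain ⟨h1, L, ⟨hL, hCL⟩, hu⟩ := h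
    have hu' : ∀ L' : Subgroup G, IsCoatom L' → centralizer ({x} : Set G) ≤ L' → L' = L :=
      fun L' h1' h2' => hu L' ⟨h1', h2'⟩
    exact ⟨h1, L, hL, hCL, hu', supportR_eq_of_unique h1 hL hCL hu'⟩
  · left
    unfold supportR
    rw [dif_neg h]

/-- the condition in the definition of `supportR` -/
def SuppCond (M : Subgroup G) (x : G) : Prop :=
  ¬ centralizer ({x} : Set G) ≤ M ∧
    ∃! L : Subgroup G, IsCoatom L ∧ centralizer ({x} : Set G) ≤ L

theorem supportR_eq_bot_of_not_suppCond {M : Subgroup G} {x : G} (h : ¬ SuppCond M x) :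
    supportR M x = ⊥ := by
  unfold supportR
  unfold SuppCond at h
  rw [dif_neg h]

theorem suppCond_map (φ : G ≃* G) {M : Subgroup G} {x : G} (h : SuppCond M x) :
    SuppCond (M.map φ.toMonoidHom) (φ x) := by
  obtain ⟨h1, L, ⟨hL, hCL⟩, hu⟩ := h
  refine ⟨?_, L.map φ.toMonoidHom, ⟨isCoatom_map φ hL, ?_⟩, ?_⟩
  · rw [centralizer_singleton]
    intro hle
    exact h1 ((map_le_map_iff φ).mp hle)
  · rw [centralizer_singleton]
    exact Subgroup.map_mono hCL
  · rintro L' ⟨h1'', h2''⟩
    rw [centralizer_singleton] at h2''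
    have h3 : centralizer ({x} : Set G) ≤ L'.map φ.symm.toMonoidHom := by
      have := Subgroup.map_mono (f := φ.symm.toMonoidHom) h2''
      rwa [map_map_symm] at this
    have := hu _ ⟨isCoatom_map φ.symm h1'', h3⟩
    rw [← this, map_symm_map]

/-- `R_{φ M}(φ x) = φ (R_M(x))` -/
theorem supportR_map (φ : G ≃* G) (M : Subgroup G) (x : G) :
    supportR (M.map φ.toMonoidHom) (φ x) = (supportR M x).map φ.toMonoidHom := by
  by_cases h : SuppCond M x
  · obtain ⟨h1, L, ⟨hL, hCL⟩, hu⟩ := h
    have hu0 : ∀ L' : Subgroup G, IsCoatom L' → centralizer ({x} : Set G) ≤ L' → L' = L :=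
      fun L' a b => hu L' ⟨a, b⟩
    obtain ⟨h1', L', ⟨hL', hCL'⟩, hu'⟩ := suppCond_map φ ⟨h1, L, ⟨hL, hCL⟩, hu⟩
    have hLL : L.map φ.toMonoidHom = L' := by
      apply hu'
      refine ⟨isCoatom_map φ hL, ?_⟩
      rw [centralizer_singleton]
      exact Subgroup.map_mono hCL
    have hu0' : ∀ L'' : Subgroup G, IsCoatom L'' → centralizer ({φ x} : Set G) ≤ L'' → L'' = L' :=
      fun L'' a b => hu' L'' ⟨a, b⟩
    rw [supportR_eq_of_unique h1' hL' hCL' hu0', supportR_eq_of_unique h1 hL hCL hu0, ← hLL,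
      fittingHallOf_map, centralizer_singleton, Subgroup.map_inf _ _ _ φ.injective]
  · have h' : ¬ SuppCond (M.map φ.toMonoidHom) (φ x) := by
      intro hc
      apply h
      have := suppCond_map φ.symm hc
      rwa [map_map_symm, MulEquiv.symm_apply_apply] at this
    rw [supportR_eq_bot_of_not_suppCond h, supportR_eq_bot_of_not_suppCond h', Subgroup.map_bot]

end SupportR


section Tilde

theorem mem_tildeOf_of {M : Subgroup G} {x r : G} (hx : x ∈ sigmaCore M) (hx1 : x ≠ 1)
    (hr : r ∈ supportR M x) : x * r ∈ tildeOf M ((sigmaCore M : Set G) \ {1}) :=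
  ⟨x, ⟨hx, hx1⟩, r, hr, 1, by simp⟩

theorem mem_tildeOf_self {M : Subgroup G} {x : G} (hx : x ∈ sigmaCore M) (hx1 : x ≠ 1) :
    x ∈ tildeOf M ((sigmaCore M : Set G) \ {1}) := by
  have := mem_tildeOf_of hx hx1 (Subgroup.one_mem (supportR M x))
  simpa using this

/-- the sets `tildeOf M A` are closed under conjugation -/
theorem conj_mem_tildeOf {M : Subgroup G} {A : Set G} {g : G} (h : g ∈ tildeOf M A) (t : G) :
    t * g * t⁻¹ ∈ tildeOf M A := by
  obtain ⟨a, ha, r, hr, y, rfl⟩ := h
  exact ⟨a, ha, r, hr, t * y, by group⟩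

theorem conj_mem_tildeOf_iff {M : Subgroup G} {A : Set G} {g : G} (t : G) :
    t * g * t⁻¹ ∈ tildeOf M A ↔ g ∈ tildeOf M A := by
  constructor
  · intro h
    have := conj_mem_tildeOf h t⁻¹
    simpa [mul_assoc] using this
  · intro h
    exact conj_mem_tildeOf h t

/-- `M̃` only depends on the conjugacy class of `M` -/
theorem tildeOf_sigma_conj_subset [Finite G] (M : Subgroup G) (t : G) :
    tildeOf M ((sigmaCore M : Set G) \ {1}) ⊆
      tildeOf (M.map (MulAut.conj t).toMonoidHom)
        ((sigmaCore (M.map (MulAut.conj t).toMonoidHom) : Set G) \ {1}) := by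
  rintro g ⟨a, ⟨ha, ha1⟩, r, hr, y, rfl⟩
  refine ⟨MulAut.conj t a, ⟨?_, ?_⟩, MulAut.conj t r, ?_, y * t⁻¹, ?_⟩
  · rw [SetLike.mem_coe, sigmaCore_map]
    exact ⟨a, ha, rfl⟩
  · intro h
    apply ha1
    have h2 : MulAut.conj t a = MulAut.conj t 1 := by
      rw [map_one]
      exact h
    exact (MulAut.conj t).injective h2
  · rw [supportR_map]
    exact ⟨r, hr, rfl⟩
  · simp only [MulAut.conj_apply]
    group

theorem tildeOf_sigma_conj [Finite G] (M : Subgroup G) (t : G) :
    tildeOf (M.map (MulAut.conj t).toMonoidHom)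
        ((sigmaCore (M.map (MulAut.conj t).toMonoidHom) : Set G) \ {1}) =
      tildeOf M ((sigmaCore M : Set G) \ {1}) := by
  apply Set.Subset.antisymm
  · have h := tildeOf_sigma_conj_subset (M.map (MulAut.conj t).toMonoidHom) t⁻¹
    have e : (M.map (MulAut.conj t).toMonoidHom).map (MulAut.conj t⁻¹).toMonoidHom = M := by
      have h0 : (MulAut.conj t⁻¹ : G ≃* G) = (MulAut.conj t).symm := by
        ext x
        rw [MulAut.conj_symm_apply, MulAut.conj_apply, inv_inv]
      rw [h0]
      exact map_map_symm (MulAut.conj t) M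
    rwa [e] at h
  · exact tildeOf_sigma_conj_subset M t

end Tilde

end Cfsg.Agent.Lib.Helper79_BGConj
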