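import Mathlib
import Cfsg.Agent.Lib.Helper48_BG15a
import Cfsg.Agent.Lib.Helper79_BGConj
import Cfsg.Agent.Lib.Helper1_Frattini

/-!
# B-G Proposition 15.2, abstract core, part (b)

Continuation of `Helper48_BG15a`: an `R`-invariant complement `D` of `Q = O_q(N)` in `N`, the
Frobenius fixed point formula applied to the Frobenius group `D R` acting on `Q`, and the resulting
structure of `Q`.
-/

set_option autoImplicit false
set_option linter.unusedSectionVars false
set_option linter.unusedVariables false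
set_option linter.style.haveILetI false

namespace Cfsg.Agent.Lib.Helper48_BG15b

open Cfsg
open Cfsg.Agent.Lib.Helper1_Cores
open Cfsg.Agent.Lib.Helper48_BG15a
open scoped commutatorElement

variable {X : Type*} [Group X] [Finite X]

/-- conjugation by `g` as a monoid hom -/
abbrev cj (g : X) : X →* X := (MulAut.conj g).toMonoidHom

theorem isComplement'_NR {N R : Subgroup X} {q : ℕ} (h : Setup N R q) :
    Subgroup.IsComplement' N R := by
  haveI := h.normal
  apply Subgroup.isComplement'_of_disjoint_and_mul_eq_univ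
  · rw [disjoint_iff]; exact h.inf_eq_bot
  · rw [← Subgroup.normal_mul, h.sup]; rfl

theorem index_N {N R : Subgroup X} {q : ℕ} (h : Setup N R q) : N.index = Nat.card R :=
  (isComplement'_NR h).symm.index_eq_card

theorem q_dvd_card_N {N R : Subgroup X} {q : ℕ} (h : Setup N R q) : q ∣ Nat.card N := by
  have := Subgroup.card_dvd_of_le (inf_le_left : N ⊓ Subgroup.centralizer (R : Set X) ≤ N)
  rwa [h.card_C] at this

theorem q_not_dvd_card_R {N R : Subgroup X} {q : ℕ} [hq : Fact q.Prime] (h : Setup N R q) :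
    ¬ q ∣ Nat.card R := by
  intro hd
  have h1 : q ∣ Nat.gcd (Nat.card N) (Nat.card R) := Nat.dvd_gcd (q_dvd_card_N h) hd
  rw [h.cop] at h1
  exact hq.out.one_lt.ne' (Nat.dvd_one.mp h1)

theorem Q1_hall [Group.IsSolvable X] (hodd : Odd (Nat.card X)) {N R : Subgroup X}
    {q : ℕ} [hq : Fact q.Prime] (h : Setup N R q) :
    (Nat.card (Q1 N q)).Coprime (Q1 N q).index := by
  obtain ⟨k, hk⟩ := (Q1_isPGroup N q).exists_card_eq
  rw [hk]
  apply Nat.Coprime.pow_left
  rw [Nat.Prime.coprime_iff_not_dvd hq.out]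
  rw [← Subgroup.relIndex_mul_index (Q1_le N q), index_N h]
  intro hd
  rcases (Nat.Prime.dvd_mul hq.out).mp hd with h1 | h1
  · exact not_dvd_relIndex_Q1 hodd h h1
  · exact q_not_dvd_card_R h h1

theorem cop_R_Q1 {N R : Subgroup X} {q : ℕ} (h : Setup N R q) :
    (Nat.card R).Coprime (Nat.card (Q1 N q)) :=
  h.cop_of_le le_rfl (Q1_le N q)

/-- An `R`-invariant complement of `Q` in `N`. -/
structure Compl (N R : Subgroup X) (q : ℕ) (D : Subgroup X) : Prop where
  le : D ≤ N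
  disj : Q1 N q ⊓ D = ⊥
  mul : ∀ n ∈ N, ∃ a ∈ Q1 N q, ∃ b ∈ D, n = a * b
  inv : R ≤ Subgroup.normalizer (D : Set X)

theorem exists_compl [Group.IsSolvable X] (hodd : Odd (Nat.card X)) {N R : Subgroup X}
    {q : ℕ} [hq : Fact q.Prime] (h : Setup N R q) : ∃ D : Subgroup X, Compl N R q D := by
  haveI := h.normal
  haveI : (Q1 N q).Normal := Q1_normal N q
  obtain ⟨L, hL⟩ := Subgroup.exists_right_complement'_of_coprime (Q1_hall hodd h)
  have hLdisj : Q1 N q ⊓ L = ⊥ := hL.disjoint.eq_bot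
  have hLmul : ∀ x : X, ∃ a ∈ Q1 N q, ∃ l ∈ L, x = a * l := by
    intro x
    obtain ⟨⟨⟨a, ha⟩, ⟨l, hl⟩⟩, hal⟩ := hL.existsUnique x |>.exists
    exact ⟨a, ha, l, hl, hal.symm⟩
  set U : Subgroup X := L ⊓ (Q1 N q ⊔ R) with hU
  have hRQ : R ≤ Subgroup.normalizer ((Q1 N q : Subgroup X) : Set X) := by
    rw [Subgroup.normalizer_eq_top]; exact le_top
  have hKU : Q1 N q ⊔ R ≤ Q1 N q ⊔ U := by
    intro t ht
    obtain ⟨a, ha, l, hl, rfl⟩ := hLmul t
    have hl' : l ∈ Q1 N q ⊔ R := by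
      have : l = a⁻¹ * (a * l) := by group
      rw [this]
      exact Subgroup.mul_mem _ (Subgroup.inv_mem _ (Subgroup.mem_sup_left ha)) ht
    exact Subgroup.mul_mem _ (Subgroup.mem_sup_left ha)
      (Subgroup.mem_sup_right (Subgroup.mem_inf.mpr ⟨hl, hl'⟩))
  obtain ⟨k, hk, hkU⟩ := Cfsg.Agent.Lib.Helper24_CoprimeAction.exists_conj_le R (Q1 N q) U hRQ
    (cop_R_Q1 h) (Or.inl inferInstance) inf_le_right hKU
  -- L' = k⁻¹ L k contains R
  set L' : Subgroup X := L.map (cj k⁻¹) with hL'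
  have hRL' : R ≤ L' := by
    intro r hr
    have h1 : k * r * k⁻¹ ∈ L := (hkU ⟨r, hr, rfl⟩).1
    refine ⟨k * r * k⁻¹, h1, ?_⟩
    simp [cj, mul_assoc]
  have hL'disj : Q1 N q ⊓ L' = ⊥ := by
    rw [eq_bot_iff]
    rintro x ⟨hxQ, l, hl, hlx⟩
    have hlx' : x = k⁻¹ * l * k := by rw [← hlx]; simp [cj]
    have h1 : l ∈ Q1 N q := by
      have : l = k * x * k⁻¹ := by rw [hlx']; group
      rw [this]
      exact Subgroup.mul_mem _ (Subgroup.mul_mem _ hk hxQ) (Subgroup.inv_mem _ hk)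
    have h2 : l ∈ Q1 N q ⊓ L := Subgroup.mem_inf.mpr ⟨h1, hl⟩
    rw [hLdisj, Subgroup.mem_bot] at h2
    rw [Subgroup.mem_bot, hlx', h2]; group
  have hL'mul : ∀ x : X, ∃ a ∈ Q1 N q, ∃ l ∈ L', x = a * l := by
    intro x
    obtain ⟨a, ha, l, hl, hal⟩ := hLmul (k * x * k⁻¹)
    refine ⟨k⁻¹ * a * k, ?_, k⁻¹ * l * k, ⟨l, hl, by simp [cj]⟩, ?_⟩
    · exact Subgroup.mul_mem _ (Subgroup.mul_mem _ (Subgroup.inv_mem _ hk) ha) hk
    · have : x = k⁻¹ * (k * x * k⁻¹) * k := by group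
      rw [this, hal]; group
  refine ⟨L' ⊓ N, inf_le_right, ?_, ?_, ?_⟩
  · rw [eq_bot_iff, ← hL'disj]
    exact inf_le_inf_left _ inf_le_left
  · intro n hn
    obtain ⟨a, ha, l, hl, hal⟩ := hL'mul n
    refine ⟨a, ha, l, Subgroup.mem_inf.mpr ⟨hl, ?_⟩, hal⟩
    have : l = a⁻¹ * n := by rw [hal]; group
    rw [this]
    exact N.mul_mem (N.inv_mem (Q1_le N q ha)) hn
  · intro r hr
    rw [Subgroup.mem_normalizer_iff]
    intro x
    have hrL : r ∈ L' := hRL' hr
    constructor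
    · rintro ⟨hxL, hxN⟩
      exact ⟨L'.mul_mem (L'.mul_mem hrL hxL) (L'.inv_mem hrL),
        Subgroup.Normal.conj_mem inferInstance x hxN r⟩
    · rintro ⟨hxL, hxN⟩
      refine ⟨?_, ?_⟩
      · have := L'.mul_mem (L'.mul_mem (L'.inv_mem hrL) hxL) hrL
        have h2 : r⁻¹ * (r * x * r⁻¹) * r = x := by group
        rwa [h2] at this
      · have := Subgroup.Normal.conj_mem (inferInstance : N.Normal) _ hxN r⁻¹
        have h2 : r⁻¹ * (r * x * r⁻¹) * r⁻¹⁻¹ = x := by group
        rwa [h2] at this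


section compl

variable [Group.IsSolvable X] {N R D : Subgroup X} {q : ℕ} [hq : Fact q.Prime]

theorem Compl.norm (hD : Compl N R q D) : ∀ e ∈ R, ∀ u ∈ D, e * u * e⁻¹ ∈ D := by
  intro e he u hu
  exact (Subgroup.mem_normalizer_iff.mp (hD.inv he) u).mp hu

theorem Compl.fpf (hodd : Odd (Nat.card X)) (h : Setup N R q) (hD : Compl N R q D) :
    ∀ e ∈ R, e ≠ 1 → ∀ u ∈ D, e * u = u * e → u = 1 := by
  intro e he he1 u hu hcomm
  have h1 : u ∈ N ⊓ Subgroup.centralizer ({e} : Set X) := by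
    refine Subgroup.mem_inf.mpr ⟨hD.le hu, ?_⟩
    rw [Subgroup.mem_centralizer_singleton_iff]
    exact hcomm.symm
  rw [h.prime_act e he he1] at h1
  have h2 : u ∈ Q1 N q ⊓ D := Subgroup.mem_inf.mpr ⟨C_le_Q1 hodd h h1, hu⟩
  rw [hD.disj] at h2
  exact h2

theorem Compl.isNilpotent (hodd : Odd (Nat.card X)) (h : Setup N R q) (hD : Compl N R q D) :
    Group.IsNilpotent D :=
  Cfsg.Agent.Lib.Helper52_FrobFormula.nilpotent_of_fpf D R h.R_ne hD.norm (hD.fpf hodd h)

theorem Compl.card_dvd (h : Setup N R q) (hD : Compl N R q D) :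
    Nat.card D ∣ (Q1 N q).relIndex N := by
  haveI := h.normal
  haveI : (Q1 N q).Normal := Q1_normal N q
  set π := QuotientGroup.mk' (Q1 N q) with hπ
  have hker : π.ker = Q1 N q := QuotientGroup.ker_mk' _
  have h1 : (Q1 N q).relIndex N = Nat.card ↥(N.map π) := by
    have h0 := Subgroup.relIndex_ker (K := N) π
    rwa [hker] at h0
  have h2 : (Q1 N q).relIndex D = Nat.card ↥(D.map π) := by
    have h0 := Subgroup.relIndex_ker (K := D) π
    rwa [hker] at h0
  have h3 : (Q1 N q).relIndex D = Nat.card D := by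
    rw [← Subgroup.inf_relIndex_right, hD.disj, Subgroup.relIndex_bot_left]
  rw [h1, ← h3, h2]
  exact Subgroup.card_dvd_of_le (Subgroup.map_mono hD.le)

theorem Compl.q_not_dvd (hodd : Odd (Nat.card X)) (h : Setup N R q) (hD : Compl N R q D) :
    ¬ q ∣ Nat.card D := fun hd =>
  not_dvd_relIndex_Q1 hodd h (hd.trans (hD.card_dvd h))

/-- `|D R|` is coprime to the order of any subgroup of `Q`. -/
theorem Compl.cop (hodd : Odd (Nat.card X)) (h : Setup N R q) (hD : Compl N R q D)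
    {E H : Subgroup X} (hE : E ≤ R) (hH : H ≤ Q1 N q) :
    (Nat.card ↥(D ⊔ E)).Coprime (Nat.card H) := by
  have hHp : IsPGroup q H := (Q1_isPGroup N q).to_le hH
  obtain ⟨k, hk⟩ := hHp.exists_card_eq
  rw [hk]
  apply Nat.Coprime.pow_right
  rw [Nat.coprime_comm, Nat.Prime.coprime_iff_not_dvd hq.out]
  intro hd
  have h1 : Nat.card ↥(D ⊔ E) ∣ Nat.card D * Nat.card E := by
    have hn : E ≤ Subgroup.normalizer (D : Set X) := hE.trans hD.inv
    have hle : D ⊔ E ≤ Subgroup.normalizer (D : Set X) := sup_le Subgroup.le_normalizer hn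
    haveI : (D.subgroupOf (D ⊔ E)).Normal :=
      (Subgroup.normal_subgroupOf_iff_le_normalizer le_sup_left).mpr hle
    have h2 := card_sup_dvd (E.subgroupOf (D ⊔ E)) (D.subgroupOf (D ⊔ E))
    have h4 : E.subgroupOf (D ⊔ E) ⊔ D.subgroupOf (D ⊔ E) = ⊤ := by
      rw [sup_comm (E.subgroupOf (D ⊔ E)), ← Subgroup.subgroupOf_sup le_sup_left le_sup_right,
        Subgroup.subgroupOf_self]
    rw [h4] at h2
    have h3 : Nat.card ↥(⊤ : Subgroup ↥(D ⊔ E)) = Nat.card ↥(D ⊔ E) :=
      Nat.card_congr Subgroup.topEquiv.toEquiv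
    rw [h3, Cfsg.Agent.Lib.Helper24_CoprimeAction.card_subgroupOf_of_le le_sup_right,
      Cfsg.Agent.Lib.Helper24_CoprimeAction.card_subgroupOf_of_le le_sup_left, mul_comm] at h2
    exact h2
  rcases (Nat.Prime.dvd_mul hq.out).mp (hd.trans h1) with h2 | h2
  · exact hD.q_not_dvd hodd h h2
  · exact q_not_dvd_card_R h (h2.trans (Subgroup.card_dvd_of_le hE))

/-- `H ⊓ C(E) = H ⊓ C` for `1 ≠ E ≤ R` and `H ≤ N`. -/
theorem inf_centralizer_eq (h : Setup N R q) {E H : Subgroup X} (hE : E ≤ R) (hE1 : E ≠ ⊥)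
    (hH : H ≤ N) :
    H ⊓ Subgroup.centralizer (E : Set X) = H ⊓ (N ⊓ Subgroup.centralizer (R : Set X)) := by
  apply le_antisymm
  · intro x hx
    obtain ⟨hxH, hxE⟩ := Subgroup.mem_inf.mp hx
    obtain ⟨⟨e, he⟩, he1⟩ := (Subgroup.ne_bot_iff_exists_ne_one).mp hE1
    have he1' : e ≠ 1 := fun h0 => he1 (Subtype.ext h0)
    have h1 : x ∈ N ⊓ Subgroup.centralizer ({e} : Set X) := by
      refine Subgroup.mem_inf.mpr ⟨hH hxH, ?_⟩
      rw [Subgroup.mem_centralizer_singleton_iff]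
      exact ((Subgroup.mem_centralizer_iff.mp hxE) e he).symm
    rw [h.prime_act e (hE he) he1'] at h1
    exact Subgroup.mem_inf.mpr ⟨hxH, h1⟩
  · intro x hx
    obtain ⟨hxH, hxC⟩ := Subgroup.mem_inf.mp hx
    refine Subgroup.mem_inf.mpr ⟨hxH, ?_⟩
    exact Subgroup.centralizer_le (by exact_mod_cast hE) (Subgroup.mem_inf.mp hxC).2

theorem inf_centralizer_sup (D E H : Subgroup X) :
    H ⊓ Subgroup.centralizer ((D ⊔ E : Subgroup X) : Set X) =
      H ⊓ Subgroup.centralizer (D : Set X) ⊓ Subgroup.centralizer (E : Set X) := by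
  apply le_antisymm
  · intro x hx
    obtain ⟨hxH, hxC⟩ := Subgroup.mem_inf.mp hx
    refine Subgroup.mem_inf.mpr ⟨Subgroup.mem_inf.mpr ⟨hxH, ?_⟩, ?_⟩
    · exact Subgroup.centralizer_le (by exact_mod_cast (le_sup_left : D ≤ D ⊔ E)) hxC
    · exact Subgroup.centralizer_le (by exact_mod_cast (le_sup_right : E ≤ D ⊔ E)) hxC
  · intro x hx
    obtain ⟨hx1, hxE⟩ := Subgroup.mem_inf.mp hx
    obtain ⟨hxH, hxD⟩ := Subgroup.mem_inf.mp hx1
    refine Subgroup.mem_inf.mpr ⟨hxH, ?_⟩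
    rw [Subgroup.mem_centralizer_iff]
    have hle : D ⊔ E ≤ Subgroup.centralizer ({x} : Set X) := by
      apply sup_le
      · intro d hd
        rw [Subgroup.mem_centralizer_singleton_iff]
        exact (Subgroup.mem_centralizer_iff.mp hxD) d hd
      · intro e he
        rw [Subgroup.mem_centralizer_singleton_iff]
        exact (Subgroup.mem_centralizer_iff.mp hxE) e he
    intro y hy
    have := hle hy
    rw [Subgroup.mem_centralizer_singleton_iff] at this
    exact this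

/-- The fixed point formula for `D E` acting on an invariant subgroup `H` of `Q`. -/
theorem Compl.formula (hodd : Odd (Nat.card X)) (h : Setup N R q) (hD : Compl N R q D)
    {E H : Subgroup X} (hE : E ≤ R) (hE1 : E ≠ ⊥) (hH : H ≤ Q1 N q)
    (hHn : D ⊔ E ≤ Subgroup.normalizer (H : Set X)) :
    Nat.card ↥(H ⊓ Subgroup.centralizer (D : Set X) ⊓ (N ⊓ Subgroup.centralizer (R : Set X))) ^
        Nat.card E * Nat.card H =
      Nat.card ↥(H ⊓ (N ⊓ Subgroup.centralizer (R : Set X))) ^ Nat.card E *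
        Nat.card ↥(H ⊓ Subgroup.centralizer (D : Set X)) := by
  have hf := Cfsg.Agent.Lib.Helper52_FrobFormula.frobenius_formula D E H hE1
    (fun e he u hu => hD.norm e (hE he) u hu)
    (fun e he he1 u hu hc => hD.fpf hodd h e (hE he) he1 u hu hc) hHn
    inferInstance
    (hD.cop hodd h hE hH)
  rw [inf_centralizer_sup, inf_centralizer_eq h hE hE1 (hH.trans (Q1_le N q)),
    inf_centralizer_eq h hE hE1 ((inf_le_left.trans hH).trans (Q1_le N q))] at hf
  exact hf

theorem C_ne_bot (h : Setup N R q) : N ⊓ Subgroup.centralizer (R : Set X) ≠ ⊥ := by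
  intro h0
  have := h.card_C
  rw [h0, Subgroup.card_bot] at this
  exact hq.out.one_lt.ne this

/-- a subgroup of `C` is `⊥` or `C` -/
theorem le_C_cases (h : Setup N R q) {Z : Subgroup X}
    (hZ : Z ≤ N ⊓ Subgroup.centralizer (R : Set X)) :
    Z = ⊥ ∨ Z = N ⊓ Subgroup.centralizer (R : Set X) := by
  have h1 : Nat.card Z ∣ q := by rw [← h.card_C]; exact Subgroup.card_dvd_of_le hZ
  rcases (Nat.dvd_prime hq.out).mp h1 with h2 | h2
  · left; exact Subgroup.card_eq_one.mp h2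
  · right; exact Subgroup.eq_of_le_of_card_ge hZ (by rw [h.card_C, h2])

theorem Compl.N_nilpotent_of_le (hodd : Odd (Nat.card X)) (h : Setup N R q) (hD : Compl N R q D)
    (hc : Q1 N q ≤ Subgroup.centralizer (D : Set X)) : Group.IsNilpotent N := by
  haveI : Group.IsNilpotent ↥(Q1 N q) := (Q1_isPGroup N q).isNilpotent
  haveI : Group.IsNilpotent ↥D := hD.isNilpotent hodd h
  let f : ↥(Q1 N q) × ↥D →* ↥N :=
    MonoidHom.noncommCoprod (Subgroup.inclusion (Q1_le N q)) (Subgroup.inclusion hD.le) (by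
      intro a d
      apply Subtype.ext
      simp only [Subgroup.coe_mul, Subgroup.coe_inclusion]
      exact ((Subgroup.mem_centralizer_iff.mp (hc a.2)) d d.2).symm)
  apply Group.nilpotent_of_surjective f
  rintro ⟨n, hn⟩
  obtain ⟨a, ha, b, hb, hab⟩ := hD.mul n hn
  refine ⟨(⟨a, ha⟩, ⟨b, hb⟩), ?_⟩
  apply Subtype.ext
  exact hab.symm

theorem normalizer_Q1_eq_top (h : Setup N R q) (K : Subgroup X) :
    K ≤ Subgroup.normalizer ((Q1 N q : Subgroup X) : Set X) := by
  haveI := h.normal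
  haveI : (Q1 N q).Normal := Q1_normal N q
  rw [Subgroup.normalizer_eq_top]; exact le_top

theorem Compl.Z_eq_bot (hodd : Odd (Nat.card X)) (h : Setup N R q) (hD : Compl N R q D) :
    Q1 N q ⊓ Subgroup.centralizer (D : Set X) ⊓ (N ⊓ Subgroup.centralizer (R : Set X)) = ⊥ := by
  rcases le_C_cases h (inf_le_right : Q1 N q ⊓ Subgroup.centralizer (D : Set X) ⊓
      (N ⊓ Subgroup.centralizer (R : Set X)) ≤ _) with h0 | h0
  · exact h0
  · exfalso
    have hf := hD.formula hodd h (le_refl R) h.R_ne (le_refl (Q1 N q)) (normalizer_Q1_eq_top h _)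
    rw [h0, inf_eq_right.mpr (C_le_Q1 hodd h), h.card_C] at hf
    have hpos : 0 < q ^ Nat.card R := pow_pos hq.out.pos _
    have h1 : Nat.card (Q1 N q) = Nat.card ↥(Q1 N q ⊓ Subgroup.centralizer (D : Set X)) :=
      Nat.eq_of_mul_eq_mul_left hpos hf
    have h2 : Q1 N q ⊓ Subgroup.centralizer (D : Set X) = Q1 N q :=
      Subgroup.eq_of_le_of_card_ge inf_le_left (by rw [h1])
    exact h.not_nil (hD.N_nilpotent_of_le hodd h (inf_eq_left.mp h2))

theorem Compl.card_Q (hodd : Odd (Nat.card X)) (h : Setup N R q) (hD : Compl N R q D)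
    {E : Subgroup X} (hE : E ≤ R) (hE1 : E ≠ ⊥) :
    Nat.card (Q1 N q) =
      q ^ Nat.card E * Nat.card ↥(Q1 N q ⊓ Subgroup.centralizer (D : Set X)) := by
  have hf := hD.formula hodd h hE hE1 (le_refl (Q1 N q)) (normalizer_Q1_eq_top h _)
  rw [hD.Z_eq_bot hodd h, Subgroup.card_bot, one_pow, one_mul,
    inf_eq_right.mpr (C_le_Q1 hodd h), h.card_C] at hf
  exact hf

theorem Compl.card_E_eq (hodd : Odd (Nat.card X)) (h : Setup N R q) (hD : Compl N R q D)
    {E : Subgroup X} (hE : E ≤ R) (hE1 : E ≠ ⊥) : Nat.card E = Nat.card R := by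
  have h1 := hD.card_Q hodd h hE hE1
  have h2 := hD.card_Q hodd h (le_refl R) h.R_ne
  rw [h1] at h2
  have hpos : 0 < Nat.card ↥(Q1 N q ⊓ Subgroup.centralizer (D : Set X)) := Nat.card_pos
  have h3 : q ^ Nat.card E = q ^ Nat.card R := Nat.eq_of_mul_eq_mul_right hpos h2
  exact Nat.pow_right_injective hq.out.two_le h3

theorem Compl.card_R_prime (hodd : Odd (Nat.card X)) (h : Setup N R q) (hD : Compl N R q D) :
    (Nat.card R).Prime := by
  have hR1 : Nat.card R ≠ 1 := fun h0 => h.R_ne (Subgroup.card_eq_one.mp h0)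
  obtain ⟨p, hp, hpR⟩ := Nat.exists_prime_and_dvd hR1
  haveI : Fact p.Prime := ⟨hp⟩
  obtain ⟨x, hx⟩ := exists_prime_orderOf_dvd_card' (G := ↥R) p hpR
  set E : Subgroup X := Subgroup.zpowers (x : X) with hE
  have hER : E ≤ R := by rw [hE, Subgroup.zpowers_le]; exact x.2
  have hEc : Nat.card E = p := by
    rw [hE, Nat.card_zpowers, Subgroup.orderOf_coe, hx]
  have hE1 : E ≠ ⊥ := by
    intro h0
    rw [h0, Subgroup.card_bot] at hEc
    exact hp.one_lt.ne hEc
  rw [← hD.card_E_eq hodd h hER hE1, hEc]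
  exact hp

/-- Dichotomy for `D R`-invariant subgroups of `Q`. -/
theorem Compl.dichotomy (hodd : Odd (Nat.card X)) (h : Setup N R q) (hD : Compl N R q D)
    {H : Subgroup X} (hH : H ≤ Q1 N q) (hHn : D ⊔ R ≤ Subgroup.normalizer (H : Set X)) :
    H ≤ Q1 N q ⊓ Subgroup.centralizer (D : Set X) ∨
      (N ⊓ Subgroup.centralizer (R : Set X) ≤ H ∧
        Nat.card H = q ^ Nat.card R * Nat.card ↥(H ⊓ Subgroup.centralizer (D : Set X))) := by
  have hf := hD.formula hodd h (le_refl R) h.R_ne hH hHn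
  have hz : H ⊓ Subgroup.centralizer (D : Set X) ⊓ (N ⊓ Subgroup.centralizer (R : Set X)) = ⊥ := by
    rw [eq_bot_iff, ← hD.Z_eq_bot hodd h]
    exact inf_le_inf_right _ (inf_le_inf_right _ hH)
  rw [hz, Subgroup.card_bot, one_pow, one_mul] at hf
  rcases le_C_cases h (inf_le_right : H ⊓ (N ⊓ Subgroup.centralizer (R : Set X)) ≤ _) with h0 | h0
  · left
    rw [h0, Subgroup.card_bot, one_pow, one_mul] at hf
    have h2 : H ⊓ Subgroup.centralizer (D : Set X) = H :=
      Subgroup.eq_of_le_of_card_ge inf_le_left (by rw [hf])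
    exact le_inf hH (inf_eq_left.mp h2)
  · right
    refine ⟨inf_eq_right.mp h0, ?_⟩
    rw [h0, h.card_C] at hf
    exact hf

theorem Compl.Q0_lt (hodd : Odd (Nat.card X)) (h : Setup N R q) (hD : Compl N R q D) :
    Q1 N q ⊓ Subgroup.centralizer (D : Set X) < Q1 N q := by
  refine lt_of_le_of_ne inf_le_left ?_
  intro h0
  have h1 := hD.Z_eq_bot hodd h
  rw [h0, inf_eq_right.mpr (C_le_Q1 hodd h)] at h1
  exact C_ne_bot h h1

theorem map_cj_eq_of_mem_normalizer {H : Subgroup X} {g : X}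
    (hg : g ∈ Subgroup.normalizer (H : Set X)) : H.map (cj g) = H :=
  Cfsg.Agent.Lib.Helper24_CoprimeAction.mem_normalizer_iff_map_conj.mp hg

theorem cj_injective (g : X) : Function.Injective (cj g) := (MulAut.conj g).injective

/-- `D R` normalizes `Q₀`. -/
theorem Compl.DR_le_normalizer_Q0 (h : Setup N R q) (hD : Compl N R q D) :
    D ⊔ R ≤ Subgroup.normalizer ((Q1 N q ⊓ Subgroup.centralizer (D : Set X) : Subgroup X) : Set X) := by
  intro g hg
  have hgD : g ∈ Subgroup.normalizer (D : Set X) := (sup_le Subgroup.le_normalizer hD.inv) hg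
  have hgQ : g ∈ Subgroup.normalizer ((Q1 N q : Subgroup X) : Set X) :=
    normalizer_Q1_eq_top h ⊤ (Subgroup.mem_top g)
  rw [Cfsg.Agent.Lib.Helper24_CoprimeAction.mem_normalizer_iff_map_conj,
    Subgroup.map_inf _ _ _ (cj_injective g)]
  have h1 := Cfsg.Agent.Lib.Helper79_BGConj.centralizer_map (MulAut.conj g) D
  have h2 : D.map (MulAut.conj g).toMonoidHom = D := map_cj_eq_of_mem_normalizer hgD
  rw [h2] at h1
  change (Q1 N q).map (cj g) ⊓ (Subgroup.centralizer (D : Set X)).map (MulAut.conj g).toMonoidHom = _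
  rw [← h1, map_cj_eq_of_mem_normalizer hgQ]

theorem Compl.N_le_sup (hD : Compl N R q D) : N ≤ Q1 N q ⊔ D := by
  intro n hn
  obtain ⟨a, ha, b, hb, rfl⟩ := hD.mul n hn
  exact Subgroup.mul_mem _ (Subgroup.mem_sup_left ha) (Subgroup.mem_sup_right hb)

/-- `Q₀` is normal in `X`. -/
theorem Compl.Q0_normal (hodd : Odd (Nat.card X)) (h : Setup N R q) (hD : Compl N R q D) :
    (Q1 N q ⊓ Subgroup.centralizer (D : Set X)).Normal := by
  set Q0 : Subgroup X := Q1 N q ⊓ Subgroup.centralizer (D : Set X) with hQ0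
  have hDR := hD.DR_le_normalizer_Q0 h
  set H : Subgroup X := Q1 N q ⊓ Subgroup.normalizer (Q0 : Set X) with hH
  have hHn : D ⊔ R ≤ Subgroup.normalizer (H : Set X) := by
    intro g hg
    have hgQ : g ∈ Subgroup.normalizer ((Q1 N q : Subgroup X) : Set X) :=
      normalizer_Q1_eq_top h ⊤ (Subgroup.mem_top g)
    rw [Cfsg.Agent.Lib.Helper24_CoprimeAction.mem_normalizer_iff_map_conj, hH,
      Subgroup.map_inf _ _ _ (cj_injective g)]
    have h1 := Cfsg.Agent.Lib.Helper79_BGConj.normalizer_map (MulAut.conj g) Q0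
    have h2 : Q0.map (MulAut.conj g).toMonoidHom = Q0 := map_cj_eq_of_mem_normalizer (hDR hg)
    rw [h2] at h1
    change (Q1 N q).map (cj g) ⊓ (Subgroup.normalizer (Q0 : Set X)).map (MulAut.conj g).toMonoidHom = _
    rw [← h1, map_cj_eq_of_mem_normalizer hgQ]
  have hQn : Q1 N q ≤ Subgroup.normalizer (Q0 : Set X) := by
    rcases hD.dichotomy hodd h (inf_le_left : H ≤ Q1 N q) hHn with h1 | ⟨h1, h2⟩
    · exfalso
      haveI : Group.IsNilpotent ↥(Q1 N q) := (Q1_isPGroup N q).isNilpotent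
      have hnc := Group.normalizerCondition_of_isNilpotent (G := ↥(Q1 N q))
      have hlt : Q0.subgroupOf (Q1 N q) < ⊤ := by
        rw [lt_top_iff_ne_top, Ne, Subgroup.subgroupOf_eq_top]
        exact fun hle => (hD.Q0_lt hodd h).not_ge hle
      have h3 := hnc _ hlt
      rw [← Subgroup.subgroupOf_normalizer_eq (inf_le_left : Q0 ≤ Q1 N q)] at h3
      obtain ⟨x, hx1, hx2⟩ := SetLike.exists_of_lt h3
      apply hx2
      rw [Subgroup.mem_subgroupOf]
      apply h1
      exact Subgroup.mem_inf.mpr ⟨x.2, Subgroup.mem_subgroupOf.mp hx1⟩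
    · have h3 : H ⊓ Subgroup.centralizer (D : Set X) = Q0 := by
        apply le_antisymm
        · exact inf_le_inf_right _ inf_le_left
        · refine le_inf (le_inf inf_le_left Subgroup.le_normalizer) inf_le_right
      rw [h3, ← hD.card_Q hodd h (le_refl R) h.R_ne] at h2
      have h4 : H = Q1 N q := Subgroup.eq_of_le_of_card_ge inf_le_left (by rw [h2])
      rw [← h4]
      exact inf_le_right
  have htop : (⊤ : Subgroup X) ≤ Subgroup.normalizer (Q0 : Set X) := by
    rw [← h.sup]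
    apply sup_le
    · exact hD.N_le_sup.trans (sup_le hQn (le_sup_left.trans hDR))
    · exact le_sup_right.trans hDR
  exact Subgroup.normalizer_eq_top_iff.mp (top_le_iff.mp htop)

/-- No `D R`-invariant subgroup lies strictly between `Q₀` and `Q`. -/
theorem Compl.no_between (hodd : Odd (Nat.card X)) (h : Setup N R q) (hD : Compl N R q D)
    {L : Subgroup X} (hLn : D ⊔ R ≤ Subgroup.normalizer (L : Set X))
    (h1 : Q1 N q ⊓ Subgroup.centralizer (D : Set X) < L) (h2 : L < Q1 N q) : False := by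
  rcases hD.dichotomy hodd h h2.le hLn with h3 | ⟨h3, h4⟩
  · exact h1.not_ge h3
  · have h5 : L ⊓ Subgroup.centralizer (D : Set X) =
        Q1 N q ⊓ Subgroup.centralizer (D : Set X) := by
      apply le_antisymm
      · exact inf_le_inf_right _ h2.le
      · exact le_inf h1.le inf_le_right
    rw [h5, ← hD.card_Q hodd h (le_refl R) h.R_ne] at h4
    have h6 : L = Q1 N q := Subgroup.eq_of_le_of_card_ge h2.le (by rw [h4])
    exact h2.ne h6

/-- The Frattini subgroup of `Q` lies in `Q₀`. -/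
theorem Compl.frattini_le (hodd : Odd (Nat.card X)) (h : Setup N R q) (hD : Compl N R q D) :
    (frattini ↥(Q1 N q)).map (Q1 N q).subtype ≤ Q1 N q ⊓ Subgroup.centralizer (D : Set X) := by
  haveI := h.normal
  haveI : (Q1 N q).Normal := Q1_normal N q
  haveI := hD.Q0_normal hodd h
  set Q0 : Subgroup X := Q1 N q ⊓ Subgroup.centralizer (D : Set X) with hQ0
  set Φ : Subgroup X := (frattini ↥(Q1 N q)).map (Q1 N q).subtype with hΦ
  haveI hΦn : Φ.Normal := by rw [hΦ]; infer_instance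
  have hΦle : Φ ≤ Q1 N q := Subgroup.map_subtype_le _
  set L : Subgroup X := Q0 ⊔ Φ with hL
  haveI hLn : L.Normal := by rw [hL]; infer_instance
  have hLle : L ≤ Q1 N q := sup_le inf_le_left hΦle
  have hLne : L ≠ Q1 N q := by
    intro h0
    have h1 : Q0.subgroupOf (Q1 N q) ⊔ frattini ↥(Q1 N q) = ⊤ := by
      have h2 : Φ.subgroupOf (Q1 N q) = frattini ↥(Q1 N q) := by
        rw [hΦ]
        exact Subgroup.comap_map_eq_self_of_injective (Q1 N q).subtype_injective _
      rw [← h2, ← Subgroup.subgroupOf_sup inf_le_left hΦle, ← hL, h0, Subgroup.subgroupOf_self]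
    have h3 := frattini_nongenerating h1
    rw [Subgroup.subgroupOf_eq_top] at h3
    exact (hD.Q0_lt hodd h).not_ge h3
  have hLlt : L < Q1 N q := lt_of_le_of_ne hLle hLne
  have hLeq : L = Q0 := by
    by_contra hne
    have hlt : Q0 < L := lt_of_le_of_ne le_sup_left (Ne.symm hne)
    refine hD.no_between hodd h ?_ hlt hLlt
    rw [Subgroup.normalizer_eq_top]; exact le_top
  rw [← hLeq]
  exact le_sup_right

theorem Compl.pow_comm_mem (hodd : Odd (Nat.card X)) (h : Setup N R q) (hD : Compl N R q D)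
    {a b : X} (ha : a ∈ Q1 N q) (hb : b ∈ Q1 N q) :
    a ^ q ∈ Q1 N q ⊓ Subgroup.centralizer (D : Set X) ∧
      a * b * a⁻¹ * b⁻¹ ∈ Q1 N q ⊓ Subgroup.centralizer (D : Set X) := by
  have hΦ := hD.frattini_le hodd h
  have hQp : IsPGroup q ↥(Q1 N q) := Q1_isPGroup N q
  constructor
  · apply hΦ
    refine ⟨⟨a, ha⟩ ^ q, Cfsg.Agent.Lib.Helper1_Frattini.pow_mem_frattini_of_isPGroup hQp _, ?_⟩
    simp
  · apply hΦ
    refine ⟨⁅(⟨a, ha⟩ : ↥(Q1 N q)), ⟨b, hb⟩⁆,
      Cfsg.Agent.Lib.Helper1_Frattini.commutator_le_frattini_of_isPGroup hQp ?_, ?_⟩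
    · rw [commutator_def]
      exact Subgroup.commutator_mem_commutator (Subgroup.mem_top _) (Subgroup.mem_top _)
    · simp [commutatorElement_def]

end compl

/-- **Abstract form of B-G Proposition 15.2.** -/
theorem main [Group.IsSolvable X] (hodd : Odd (Nat.card X)) {N R : Subgroup X} {q : ℕ}
    [hq : Fact q.Prime] (h : Setup N R q) :
    (Nat.card R).Prime ∧ ∃ Q0 : Subgroup X, Q0.Normal ∧ Q0 < Q1 N q ∧
      Nat.card (Q1 N q) = Nat.card Q0 * q ^ Nat.card R ∧
      (∀ a ∈ Q1 N q, ∀ b ∈ Q1 N q, a ^ q ∈ Q0 ∧ a * b * a⁻¹ * b⁻¹ ∈ Q0) ∧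
      (∀ L : Subgroup X, L.Normal → Q0 < L → L < Q1 N q → False) ∧
      ∀ D' : Subgroup X, D' ≤ N → Q1 N q ⊓ D' = ⊥ →
        (∀ n ∈ N, ∃ a ∈ Q1 N q, ∃ b ∈ D', n = a * b) →
        Group.IsNilpotent D' ∧ Q1 N q ⊓ Subgroup.centralizer (D' : Set X) = Q0 := by
  obtain ⟨D, hD⟩ := exists_compl hodd h
  haveI := h.normal
  haveI : (Q1 N q).Normal := Q1_normal N q
  haveI hQ0n := hD.Q0_normal hodd h
  refine ⟨hD.card_R_prime hodd h, Q1 N q ⊓ Subgroup.centralizer (D : Set X), hQ0n,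
    hD.Q0_lt hodd h, ?_, fun a ha b hb => hD.pow_comm_mem hodd h ha hb, ?_, ?_⟩
  · rw [hD.card_Q hodd h (le_refl R) h.R_ne, mul_comm]
  · intro L hL h1 h2
    refine hD.no_between hodd h ?_ h1 h2
    rw [Subgroup.normalizer_eq_top]; exact le_top
  · intro D' hD'N hD'disj hD'mul
    have hDQ : D ≤ Subgroup.normalizer ((Q1 N q : Subgroup X) : Set X) := normalizer_Q1_eq_top h D
    have hcop : (Nat.card D).Coprime (Nat.card (Q1 N q)) := by
      have := hD.cop hodd h (bot_le : (⊥ : Subgroup X) ≤ R) (le_refl (Q1 N q))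
      rwa [sup_bot_eq] at this
    have hB : D' ≤ Q1 N q ⊔ D := hD'N.trans hD.N_le_sup
    have hsup : Q1 N q ⊔ D ≤ Q1 N q ⊔ D' := by
      refine (sup_le (Q1_le N q) hD.le).trans ?_
      intro n hn
      obtain ⟨a, ha, b, hb, rfl⟩ := hD'mul n hn
      exact Subgroup.mul_mem _ (Subgroup.mem_sup_left ha) (Subgroup.mem_sup_right hb)
    obtain ⟨k, hk, hkD⟩ := Cfsg.Agent.Lib.Helper24_CoprimeAction.sz_rel_conj' D (Q1 N q) D' hDQ hcop
      (Or.inl inferInstance) hB hD'disj hsup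
    constructor
    · haveI : Group.IsNilpotent ↥D := hD.isNilpotent hodd h
      rw [← hkD]
      exact Group.nilpotent_of_mulEquiv
        (D.equivMapOfInjective (MulAut.conj k).toMonoidHom (MulAut.conj k).injective)
    · have h1 := Cfsg.Agent.Lib.Helper79_BGConj.centralizer_map (MulAut.conj k) D
      rw [hkD] at h1
      rw [h1]
      have h2 : (Q1 N q ⊓ Subgroup.centralizer (D : Set X)).map (cj k) =
          Q1 N q ⊓ Subgroup.centralizer (D : Set X) := by
        apply map_cj_eq_of_mem_normalizer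
        rw [Subgroup.normalizer_eq_top]; exact Subgroup.mem_top k
      rw [Subgroup.map_inf _ _ _ (cj_injective k)] at h2
      have h3 : (Q1 N q).map (cj k) = Q1 N q := by
        apply map_cj_eq_of_mem_normalizer
        rw [Subgroup.normalizer_eq_top]; exact Subgroup.mem_top k
      rw [h3] at h2
      exact h2

end Cfsg.Agent.Lib.Helper48_BG15b
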