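import Mathlib

/-!
Coprime action helpers (helper22): fixed points of a `p`-group in an invariant coset of a `p'`-subgroup.
-/

set_option autoImplicit false

namespace Cfsg.Agent.Lib.Helper22_Coprime

/-- Let `P` be a `p`-subgroup normalizing the subgroup `M` of order prime to `p`, and let `x` be an element whose
coset `x M` is invariant under conjugation by `P`. Then `P` centralizes some element of the coset `x M`. -/
theorem exists_fixed_in_coset {G : Type*} [Group G] {p : ℕ} [Fact p.Prime] (P M : Subgroup G)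
    (hP : IsPGroup p P) (hM : ¬ p ∣ Nat.card M) (hPM : P ≤ Subgroup.normalizer (M : Set G)) (x : G)
    (hx : ∀ g ∈ P, x⁻¹ * g * x * g⁻¹ ∈ M) :
    ∃ m ∈ M, ∀ g ∈ P, g * (x * m) * g⁻¹ = x * m := by
  have hmem : ∀ (g : P) (m : M), x⁻¹ * (g : G) * x * (m : G) * (g : G)⁻¹ ∈ M := by
    intro g m
    have h1 := hx g g.2
    have h2 : (g : G) * (m : G) * (g : G)⁻¹ ∈ M :=
      ((Subgroup.mem_normalizer_iff.mp (hPM g.2)) (m : G)).mp m.2
    have : x⁻¹ * (g : G) * x * (m : G) * (g : G)⁻¹ =
        (x⁻¹ * (g : G) * x * (g : G)⁻¹) * ((g : G) * (m : G) * (g : G)⁻¹) := by group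
    rw [this]
    exact M.mul_mem h1 h2
  let act : MulAction P M :=
    { smul := fun g m => ⟨x⁻¹ * (g : G) * x * (m : G) * (g : G)⁻¹, hmem g m⟩
      one_smul := by
        intro m
        apply Subtype.ext
        show x⁻¹ * ((1 : P) : G) * x * (m : G) * ((1 : P) : G)⁻¹ = m
        simp
      mul_smul := by
        intro g h m
        apply Subtype.ext
        show x⁻¹ * ((g * h : P) : G) * x * (m : G) * ((g * h : P) : G)⁻¹ =
          x⁻¹ * (g : G) * x * (x⁻¹ * (h : G) * x * (m : G) * (h : G)⁻¹) * (g : G)⁻¹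
        simp only [Subgroup.coe_mul]
        group }
  obtain ⟨m, hm⟩ := @IsPGroup.nonempty_fixed_point_of_prime_not_dvd_card p P _ hP _ M act hM
  refine ⟨m, m.2, ?_⟩
  intro g hg
  have h := hm ⟨g, hg⟩
  have h' : x⁻¹ * g * x * (m : G) * g⁻¹ = (m : G) := congrArg Subtype.val h
  calc g * (x * (m : G)) * g⁻¹ = x * (x⁻¹ * g * x * (m : G) * g⁻¹) := by group
    _ = x * m := by rw [h']

end Cfsg.Agent.Lib.Helper22_Coprime
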