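import Mathlib
import Cfsg.Agent.Lib.Helper29_BG12a

set_option autoImplicit false

namespace Cfsg.Agent.Lib.Helper29_BG12b

open Subgroup Cfsg Cfsg.Agent.Lib.Helper29_BG12a
open Cfsg.Agent.Lib.Helper49_Sigma (UniqHyp)
open scoped commutatorElement

variable {G : Type*} [Group G]

/-- the natural map `E → M / M_σ` -/
noncomputable def toQuot (M E : Subgroup G) (hEM : E ≤ M) : ↥E →* ↥M ⧸ piCore (sigma M) ↥M :=
  (QuotientGroup.mk' (piCore (sigma M) ↥M)).comp (Subgroup.inclusion hEM)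

theorem toQuot_injective {M E : Subgroup G} (hE : IsComplIn E (sigmaCore M) M) :
    Function.Injective (toQuot M E hE.1) := by
  rw [injective_iff_map_eq_one]
  intro e he
  have h1 : Subgroup.inclusion hE.1 e ∈ piCore (sigma M) ↥M := by
    rw [← QuotientGroup.eq_one_iff]; exact he
  have h2 : (e : G) ∈ sigmaCore M := ⟨_, h1, rfl⟩
  have h3 : (e : G) ∈ E ⊓ sigmaCore M := ⟨e.2, h2⟩
  rw [hE.2.2.1, mem_bot] at h3
  exact Subtype.ext h3

theorem toQuot_surjective {M E : Subgroup G} (hE : IsComplIn E (sigmaCore M) M) :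
    Function.Surjective (toQuot M E hE.1) := by
  intro q
  obtain ⟨m, rfl⟩ := QuotientGroup.mk_surjective q
  obtain ⟨a, ha, b, hb, hab⟩ := hE.2.2.2 m m.2
  obtain ⟨b', hb', hbb'⟩ := hb
  refine ⟨⟨a, ha⟩, ?_⟩
  show QuotientGroup.mk' _ (Subgroup.inclusion hE.1 ⟨a, ha⟩) = QuotientGroup.mk m
  rw [QuotientGroup.mk'_apply, QuotientGroup.eq]
  have : (Subgroup.inclusion hE.1 ⟨a, ha⟩)⁻¹ * m = b' := by
    ext
    simp only [Subgroup.coe_mul, Subgroup.coe_inv, Subgroup.coe_inclusion]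
    rw [hab]
    change a⁻¹ * (a * b) = ((M.subtype b' : G))
    rw [hbb']; group
  rw [this]; exact hb'

theorem map_toQuot_commutator {M E : Subgroup G} (hE : IsComplIn E (sigmaCore M) M) :
    (commutator ↥E).map (toQuot M E hE.1) = commutator (↥M ⧸ piCore (sigma M) ↥M) := by
  rw [commutator_def, commutator_def, Subgroup.map_commutator, ← MonoidHom.range_eq_map,
    MonoidHom.range_eq_top.mpr (toQuot_surjective hE)]

variable [Finite G]

omit [Finite G] in
theorem ne_two_of_dvd (hodd : Odd (Nat.card G)) {F : Subgroup G} {q : ℕ}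
    (hqF : q ∣ Nat.card ↥F) : q ≠ 2 := by
  rintro rfl
  have h2 : 2 ∣ Nat.card G := dvd_trans hqF (Subgroup.card_subgroup_dvd_card F)
  exact (Nat.not_even_iff_odd.mpr hodd) (even_iff_two_dvd.mpr h2)

/-- `q`-subgroups of subgroups of `M` are cyclic when `M` has `q`-rank at most one (`q` odd) -/
theorem isCyclic_of_rank_one {M F : Subgroup G} (hFM : F ≤ M) {q : ℕ} [Fact q.Prime]
    (hq2 : q ≠ 2) (hr : PRankLE q 1 ↥M) (Q : Subgroup ↥F) (hQ : IsPGroup q ↥Q) : IsCyclic ↥Q := by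
  have hr' : PRankLE q 1 ↥Q :=
    Cfsg.Agent.Lib.Helper2_PRank.pRankLE_of_injective' q 1
      ((Subgroup.inclusion hFM).comp Q.subtype)
      ((Subgroup.inclusion_injective hFM).comp (Subgroup.subtype_injective _)) hr
  exact isCyclic_of_pRankLE_one hq2 hQ hr'

/-- subgroups of `M` whose prime divisors have `p`-rank at most one in `M` are `Z`-groups -/
theorem isZGroup_of_rank_one (hodd : Odd (Nat.card G)) {M F : Subgroup G} (hFM : F ≤ M)
    (h : ∀ q : ℕ, q.Prime → q ∣ Nat.card ↥F → PRankLE q 1 ↥M) : IsZGroup ↥F := by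
  refine ⟨fun q hq P => ?_⟩
  have : Fact q.Prime := ⟨hq⟩
  obtain ⟨n, hn⟩ := P.2.exists_card_eq
  rcases Nat.eq_zero_or_pos n with rfl | hn0
  · rw [pow_zero] at hn
    have : Subsingleton ↥(P : Subgroup ↥F) := (Nat.card_eq_one_iff_unique.mp hn).1
    exact isCyclic_of_subsingleton
  · have hqF : q ∣ Nat.card ↥F := by
      refine dvd_trans ?_ (Subgroup.card_subgroup_dvd_card (P : Subgroup ↥F))
      rw [hn]; exact dvd_pow_self q hn0.ne'
    exact isCyclic_of_rank_one hFM (ne_two_of_dvd hodd hqF) (h q hq hqF) _ P.2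

/-- for `p ∉ σ(M)` dividing `|M'|`, `p` divides `|E'|` -/
theorem dvd_card_commutator_compl {M E : Subgroup G} (hE : IsComplIn E (sigmaCore M) M) {p : ℕ}
    (hp : p.Prime) (hpσ : p ∉ sigma M) (hdvd : p ∣ Nat.card ↥⁅M, M⁆) :
    p ∣ Nat.card ↥(commutator ↥E) := by
  have : Fact p.Prime := ⟨hp⟩
  have h1 : Nat.card ↥⁅M, M⁆ = Nat.card ↥(commutator ↥M) := by
    rw [← Subgroup.map_subtype_commutator M]
    exact (Nat.card_congr ((commutator ↥M).equivMapOfInjective M.subtype
      M.subtype_injective).toEquiv).symm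
  rw [h1] at hdvd
  obtain ⟨x, hx⟩ := exists_prime_orderOf_dvd_card' p hdvd
  have hx' : orderOf (x : ↥M) = p := by rw [Subgroup.orderOf_coe]; exact hx
  set y : ↥M ⧸ piCore (sigma M) ↥M := QuotientGroup.mk' _ (x : ↥M) with hy
  have hy1 : y ≠ 1 := by
    intro h
    have h2 : (x : ↥M) ∈ piCore (sigma M) ↥M := (QuotientGroup.eq_one_iff _).mp h
    have h3 : p ∣ Nat.card ↥(piCore (sigma M) ↥M) := by
      rw [← hx']; exact Subgroup.orderOf_dvd_natCard _ h2
    exact hpσ (Cfsg.Agent.Lib.Helper32_Cores.card_piCore _ p hp h3)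
  have hyp : y ^ p = 1 := by
    rw [hy, ← map_pow, ← hx', pow_orderOf_eq_one, map_one]
  have hyo : orderOf y = p := orderOf_eq_prime hyp hy1
  have hyc : y ∈ commutator (↥M ⧸ piCore (sigma M) ↥M) := by
    rw [← Cfsg.Agent.Lib.Helper49_Alpha.map_commutator_mk]
    exact ⟨_, x.2, rfl⟩
  rw [← map_toQuot_commutator hE] at hyc
  obtain ⟨z, hz, hzy⟩ := hyc
  have hzo : orderOf z = p := by
    rw [← hyo, ← hzy]; exact (orderOf_injective _ (toQuot_injective hE) z).symm
  rw [← hzo]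
  exact Subgroup.orderOf_dvd_natCard _ hz

/-- **BG 12.1**: for `p ∈ τ₃(M)`, `p` does not divide `|E : E'|` -/
theorem not_dvd_index_commutator (hG : IsMinSimpleOddOrder G) {M E : Subgroup G}
    (hE : IsComplIn E (sigmaCore M) M) {p : ℕ} (hp : p ∈ tau3 M) :
    ¬ p ∣ (commutator ↥E).index := by
  obtain ⟨hpp, hpσ, hpd, hr⟩ := hp
  have : Fact p.Prime := ⟨hpp⟩
  have hdvd := dvd_card_commutator_compl hE hpp hpσ hpd
  have hp2 : p ≠ 2 := ne_two_of_dvd hG.1 hpd
  let T : Sylow p ↥E := default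
  have hT : IsCyclic ↥(T : Subgroup ↥E) := isCyclic_of_rank_one hE.1 hp2 hr _ T.2
  rcases Sylow.not_dvd_card_commutator_or_not_dvd_index_commutator T with h | h
  · exact absurd hdvd h
  · exact h

/-- a subgroup of `E` whose prime divisors lie in `τ₃(M)` lies in `E'` -/
theorem le_commutator_of_tau3 (hG : IsMinSimpleOddOrder G) {M E : Subgroup G}
    (hE : IsComplIn E (sigmaCore M) M) {F : Subgroup G} (hFE : F ≤ E)
    (hF : ∀ p : ℕ, p.Prime → p ∣ Nat.card ↥F → p ∈ tau3 M) : F ≤ ⁅E, E⁆ := by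
  intro x hx
  set x' : ↥E := ⟨x, hFE hx⟩ with hx'
  suffices h : x' ∈ commutator ↥E by
    rw [← Subgroup.map_subtype_commutator E]
    exact ⟨x', h, rfl⟩
  rw [← QuotientGroup.eq_one_iff]
  set q : ↥E ⧸ commutator ↥E := (x' : ↥E ⧸ commutator ↥E) with hq
  by_contra hq1
  have hne : orderOf q ≠ 1 := fun h => hq1 (orderOf_eq_one_iff.mp h)
  obtain ⟨r, hr, hrd⟩ := Nat.exists_prime_and_dvd hne
  have h1 : orderOf q ∣ orderOf x' := orderOf_map_dvd (QuotientGroup.mk' (commutator ↥E)) x'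
  have h2 : orderOf x' ∣ Nat.card ↥F := by
    rw [← Subgroup.orderOf_coe]; exact Subgroup.orderOf_dvd_natCard _ hx
  have h3 : orderOf q ∣ (commutator ↥E).index := by
    rw [Subgroup.index_eq_card]; exact orderOf_dvd_natCard q
  exact not_dvd_index_commutator hG hE (hF r hr (dvd_trans hrd (dvd_trans h1 h2)))
    (dvd_trans hrd h3)

/-- the derived group of `M / M_σ` is nilpotent -/
theorem isNilpotent_commutator_quot_sigma (hG : IsMinSimpleOddOrder G) (hU : UniqHyp G)
    {M : Subgroup G} (hM : IsCoatom M) :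
    Group.IsNilpotent ↥(commutator (↥M ⧸ piCore (sigma M) ↥M)) := by
  obtain ⟨-, -, hασ, -, hnil⟩ := Cfsg.Agent.Lib.Helper49_Alpha.alpha_statement hG hU M hM
  have hle : piCore (alpha M) ↥M ≤ piCore (sigma M) ↥M :=
    (Subgroup.map_le_map_iff_of_injective M.subtype_injective).mp hασ
  let κ : ↥M ⧸ piCore (alpha M) ↥M →* ↥M ⧸ piCore (sigma M) ↥M :=
    QuotientGroup.map _ _ (MonoidHom.id ↥M) (by simpa using hle)
  have hκ : κ.comp (QuotientGroup.mk' (piCore (alpha M) ↥M)) = QuotientGroup.mk' (piCore (sigma M) ↥M) := by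
    ext x; rfl
  have h1 : (((commutator ↥M).map (QuotientGroup.mk' (piCore (alpha M) ↥M))).map κ) =
      commutator (↥M ⧸ piCore (sigma M) ↥M) := by
    rw [Subgroup.map_map, hκ, Cfsg.Agent.Lib.Helper49_Alpha.map_commutator_mk]
  rw [← h1]
  exact Group.nilpotent_of_surjective (κ.subgroupMap _) (κ.subgroupMap_surjective _)

/-- **BG 12.1(a)**: `E'` is nilpotent -/
theorem isNilpotent_commutator_compl (hG : IsMinSimpleOddOrder G) (hU : UniqHyp G)
    {M : Subgroup G} (hM : IsCoatom M) {E : Subgroup G} (hE : IsComplIn E (sigmaCore M) M) :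
    Group.IsNilpotent ↥⁅E, E⁆ := by
  have h1 := isNilpotent_commutator_quot_sigma hG hU hM
  rw [← map_toQuot_commutator hE] at h1
  have h2 : Group.IsNilpotent ↥(commutator ↥E) := by
    have hinj : Function.Injective ((toQuot M E hE.1).subgroupMap (commutator ↥E)) := by
      intro x y hxy
      have := congrArg Subtype.val hxy
      simp only [MonoidHom.subgroupMap_apply_coe] at this
      exact Subtype.ext (toQuot_injective hE this)
    apply Subgroup.isNilpotent_of_ker_le_center ((toQuot M E hE.1).subgroupMap (commutator ↥E))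
    rw [(MonoidHom.ker_eq_bot_iff _).mpr hinj]
    exact bot_le
  rw [← Subgroup.map_subtype_commutator E]
  exact Group.nilpotent_of_mulEquiv
    ((commutator ↥E).equivMapOfInjective E.subtype E.subtype_injective)

omit [Finite G] in
/-- conjugation by elements of `E` preserves `E'` -/
theorem conj_mem_commutator_compl {E : Subgroup G} {e x : G} (he : e ∈ E) (hx : x ∈ ⁅E, E⁆) :
    e * x * e⁻¹ ∈ ⁅E, E⁆ := by
  rw [← Subgroup.map_subtype_commutator E] at hx ⊢
  obtain ⟨x', hx', rfl⟩ := hx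
  have hn : (commutator ↥E).Normal := inferInstance
  exact ⟨⟨e, he⟩ * x' * ⟨e, he⟩⁻¹, hn.conj_mem x' hx' ⟨e, he⟩, rfl⟩

/-- **Bender–Glauberman, Lemma 12.1** (with the Uniqueness Theorem as a hypothesis). -/
theorem sigma_complement_statement (hG : IsMinSimpleOddOrder G) (hU : UniqHyp G)
    (M : Subgroup G) (hM : IsCoatom M) (E : Subgroup G) (hE : IsComplIn E (sigmaCore M) M) :
    Group.IsNilpotent ↥⁅E, E⁆ ∧
      (∀ E₁ : Subgroup G, IsPiHallOf (tau1 M) E₁ E → IsCyclic E₁) ∧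
      ∀ E₃ : Subgroup G, IsPiHallOf (tau3 M) E₃ E →
        IsCyclic E₃ ∧ E₃ ≤ ⁅E, E⁆ ∧ E ≤ Subgroup.normalizer (E₃ : Set G) := by
  have hnil : Group.IsNilpotent ↥⁅E, E⁆ := isNilpotent_commutator_compl hG hU hM hE
  refine ⟨hnil, ?_, ?_⟩
  · intro E₁ hE₁
    have hZ : IsZGroup ↥E₁ := isZGroup_of_rank_one hG.1 (hE₁.1.trans hE.1)
      (fun q hq hd => (hE₁.2.1 q hq hd).2.2.2.2)
    have hN : Group.IsNilpotent ↥E₁ := by
      let f : ↥E₁ →* Abelianization ↥E := Abelianization.of.comp (Subgroup.inclusion hE₁.1)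
      apply Subgroup.isNilpotent_of_ker_le_center f
      intro x hx
      have h1 : Subgroup.inclusion hE₁.1 x ∈ commutator ↥E := by
        rw [← QuotientGroup.eq_one_iff]; exact hx
      have h2 : (x : G) ∈ ⁅M, M⁆ := by
        have : (x : G) ∈ ⁅E, E⁆ := by
          rw [← Subgroup.map_subtype_commutator E]; exact ⟨_, h1, rfl⟩
        exact Subgroup.commutator_mono hE.1 hE.1 this
      suffices hx1 : x = 1 by rw [hx1]; exact one_mem _
      by_contra hne
      have hne' : orderOf (x : G) ≠ 1 := by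
        rw [Subgroup.orderOf_coe]; exact fun h => hne (orderOf_eq_one_iff.mp h)
      obtain ⟨r, hr, hrd⟩ := Nat.exists_prime_and_dvd hne'
      have h3 : r ∣ Nat.card ↥E₁ := dvd_trans hrd (Subgroup.orderOf_dvd_natCard _ x.2)
      have h4 : r ∣ Nat.card ↥⁅M, M⁆ := dvd_trans hrd (Subgroup.orderOf_dvd_natCard _ h2)
      exact (hE₁.2.1 r hr h3).2.2.2.1 h4
    infer_instance
  · intro E₃ hE₃
    have hle : E₃ ≤ ⁅E, E⁆ := le_commutator_of_tau3 hG hE hE₃.1 hE₃.2.1
    have hZ : IsZGroup ↥E₃ := isZGroup_of_rank_one hG.1 (hE₃.1.trans hE.1)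
      (fun q hq hd => (hE₃.2.1 q hq hd).2.2.2)
    have hN : Group.IsNilpotent ↥E₃ := by
      apply Subgroup.isNilpotent_of_ker_le_center (Subgroup.inclusion hle)
      rw [(MonoidHom.ker_eq_bot_iff _).mpr (Subgroup.inclusion_injective hle)]
      exact bot_le
    refine ⟨inferInstance, hle, ?_⟩
    -- normality
    have hcop : (Nat.card ↥E₃).Coprime (E₃.relIndex ⁅E, E⁆) := by
      apply Nat.coprime_of_dvd
      intro k hk hk1 hk2
      have h5 : E₃.relIndex ⁅E, E⁆ ∣ E₃.relIndex E :=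
        Dvd.intro _ (Subgroup.relIndex_mul_relIndex E₃ ⁅E, E⁆ E hle
          (by rw [← Subgroup.map_subtype_commutator E]; exact Subgroup.map_subtype_le _))
      exact hE₃.2.2 k hk (hE₃.2.1 k hk hk1) (dvd_trans hk2 h5)
    have hcard : Nat.card ↥(E₃.subgroupOf ⁅E, E⁆) = Nat.card ↥E₃ :=
      Nat.card_congr (subgroupOfEquivOfLe hle).toEquiv
    have hcop' : (Nat.card ↥(E₃.subgroupOf ⁅E, E⁆)).Coprime (E₃.subgroupOf ⁅E, E⁆).index := by
      rw [hcard]; exact hcop
    have hnorm : (E₃.subgroupOf ⁅E, E⁆).Normal := normal_of_hall_of_isNilpotent _ hcop'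
    have key : ∀ e ∈ E, ∀ x ∈ E₃, e * x * e⁻¹ ∈ E₃ := by
      intro e he x hx
      have h1 : e * x * e⁻¹ ∈ ⁅E, E⁆ := conj_mem_commutator_compl he (hle hx)
      have h2 : (⟨e * x * e⁻¹, h1⟩ : ↥⁅E, E⁆) ^ Nat.card ↥(E₃.subgroupOf ⁅E, E⁆) = 1 := by
        rw [hcard]
        ext
        rw [Subgroup.coe_pow, Subgroup.coe_one, conj_pow]
        have : x ^ Nat.card ↥E₃ = 1 := by
          have := pow_card_eq_one' (G := ↥E₃) (x := ⟨x, hx⟩)
          exact congrArg Subtype.val this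
        rw [this]; group
      exact mem_subgroupOf.mp (mem_of_pow_card_eq_one _ hcop' h2)
    intro e he
    rw [mem_normalizer_iff]
    intro x
    constructor
    · exact key e he x
    · intro h
      have := key e⁻¹ (inv_mem he) _ h
      simpa [mul_assoc] using this

end Cfsg.Agent.Lib.Helper29_BG12b
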