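import Mathlib
import Cfsg.Agent.Lib.Helper22_Coprime

/-!
helper49: commutators of a `p`-group `Y` with a `Y`-invariant subgroup `L` that is generated by a
`Y`-invariant `p'`-subgroup and a `Y`-invariant family of pairwise commuting "quasisimple" pieces.
Part 1: purely inside an ambient group.
-/

set_option autoImplicit false

namespace Cfsg.Agent.Lib.Helper49_FStarComm

open scoped commutatorElement

variable {G : Type*} [Group G]

/-- `h' ⁅h,k⁆ h'⁻¹ ∈ ⁅H,K⁆` for `h, h' ∈ H`, `k ∈ K`. -/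
theorem conj_commutatorElement_mem (H K : Subgroup G) {h' h k : G} (hh' : h' ∈ H) (hh : h ∈ H)
    (hk : k ∈ K) : h' * ⁅h, k⁆ * h'⁻¹ ∈ ⁅H, K⁆ := by
  have e : h' * ⁅h, k⁆ * h'⁻¹ = ⁅h' * h, k⁆ * ⁅h', k⁆⁻¹ := by
    simp only [commutatorElement_def]; group
  rw [e]
  exact Subgroup.mul_mem _ (Subgroup.commutator_mem_commutator (H.mul_mem hh' hh) hk)
    (Subgroup.inv_mem _ (Subgroup.commutator_mem_commutator hh' hk))

/-- `H` normalizes `⁅H, K⁆`. -/
theorem le_normalizer_commutator_left (H K : Subgroup G) :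
    H ≤ Subgroup.normalizer ((⁅H, K⁆ : Subgroup G) : Set G) := by
  have key : ∀ h' ∈ H, ∀ n ∈ ⁅H, K⁆, h' * n * h'⁻¹ ∈ ⁅H, K⁆ := by
    intro h' hh' n hn
    have hle : ⁅H, K⁆ ≤ (⁅H, K⁆).comap (MulAut.conj h').toMonoidHom := by
      rw [Subgroup.commutator_le]
      intro h hh k hk
      rw [Subgroup.mem_comap]
      change h' * ⁅h, k⁆ * h'⁻¹ ∈ ⁅H, K⁆
      exact conj_commutatorElement_mem H K hh' hh hk
    have := hle hn
    rw [Subgroup.mem_comap] at this
    exact this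
  intro h' hh'
  rw [Subgroup.mem_normalizer_iff]
  intro n
  refine ⟨key h' hh' n, fun hn => ?_⟩
  have := key h'⁻¹ (H.inv_mem hh') _ hn
  have e : h'⁻¹ * (h' * n * h'⁻¹) * h'⁻¹⁻¹ = n := by group
  rwa [e] at this

/-- `K` normalizes `⁅H, K⁆`. -/
theorem le_normalizer_commutator_right (H K : Subgroup G) :
    K ≤ Subgroup.normalizer ((⁅H, K⁆ : Subgroup G) : Set G) := by
  rw [Subgroup.commutator_comm]
  exact le_normalizer_commutator_left K H

/-- If `Y` normalizes `L` then `⁅L, Y⁆ ≤ L`. -/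
theorem commutator_le_left_of_le_normalizer {L Y : Subgroup G}
    (hYL : Y ≤ Subgroup.normalizer (L : Set G)) : ⁅L, Y⁆ ≤ L := by
  rw [Subgroup.commutator_le]
  intro l hl y hy
  have h1 : y * l⁻¹ * y⁻¹ ∈ L := (Subgroup.mem_normalizer_iff.mp (hYL hy) _).mp (L.inv_mem hl)
  have e : ⁅l, y⁆ = l * (y * l⁻¹ * y⁻¹) := by simp only [commutatorElement_def]; group
  rw [e]
  exact L.mul_mem hl h1

/-- An element normalizing both `A` and `B` normalizes `⁅A, B⁆`. -/
theorem conj_mem_commutator_of_mem_normalizer {A B : Subgroup G} {g : G}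
    (hA : g ∈ Subgroup.normalizer (A : Set G)) (hB : g ∈ Subgroup.normalizer (B : Set G))
    {n : G} (hn : n ∈ ⁅A, B⁆) : g * n * g⁻¹ ∈ ⁅A, B⁆ := by
  have hle : ⁅A, B⁆ ≤ (⁅A, B⁆).comap (MulAut.conj g).toMonoidHom := by
    rw [Subgroup.commutator_le]
    intro a ha b hb
    rw [Subgroup.mem_comap]
    have e : (MulAut.conj g).toMonoidHom ⁅a, b⁆ = ⁅g * a * g⁻¹, g * b * g⁻¹⁆ := by
      simp only [MulEquiv.coe_toMonoidHom, MulAut.conj_apply, commutatorElement_def]; group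
    rw [e]
    exact Subgroup.commutator_mem_commutator ((Subgroup.mem_normalizer_iff.mp hA a).mp ha)
      ((Subgroup.mem_normalizer_iff.mp hB b).mp hb)
  have := hle hn
  rw [Subgroup.mem_comap] at this
  exact this

theorem normalizer_inf_le_normalizer_commutator (A B : Subgroup G) :
    Subgroup.normalizer (A : Set G) ⊓ Subgroup.normalizer (B : Set G) ≤
      Subgroup.normalizer ((⁅A, B⁆ : Subgroup G) : Set G) := by
  intro g hg
  obtain ⟨hA, hB⟩ := Subgroup.mem_inf.mp hg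
  rw [Subgroup.mem_normalizer_iff]
  intro n
  refine ⟨conj_mem_commutator_of_mem_normalizer hA hB, fun hn => ?_⟩
  have := conj_mem_commutator_of_mem_normalizer (Subgroup.inv_mem _ hA) (Subgroup.inv_mem _ hB) hn
  have e : g⁻¹ * (g * n * g⁻¹) * g⁻¹⁻¹ = n := by group
  rwa [e] at this

/-- Lemma B: if `A ≤ ⁅A,Y⁆ ⊔ C_A(Y)` (with `Y` normalizing `A`) then `⁅A,Y⁆ = ⁅⁅A,Y⁆,Y⁆`. -/
theorem commutator_eq_commutator_commutator {A Y : Subgroup G}
    (hYA : Y ≤ Subgroup.normalizer (A : Set G))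
    (h : A ≤ ⁅A, Y⁆ ⊔ (A ⊓ Subgroup.centralizer (Y : Set G))) :
    ⁅A, Y⁆ = ⁅⁅A, Y⁆, Y⁆ := by
  have hAY : ⁅A, Y⁆ ≤ A := commutator_le_left_of_le_normalizer hYA
  refine le_antisymm ?_ (Subgroup.commutator_mono hAY le_rfl)
  set D : Subgroup G := ⁅⁅A, Y⁆, Y⁆ with hD
  -- the subgroup of elements normalizing `D` and with all commutators with `Y` in `D`
  let S : Subgroup G :=
    { carrier := {a | a ∈ Subgroup.normalizer (D : Set G) ∧ ∀ y ∈ Y, ⁅a, y⁆ ∈ D}
      one_mem' := ⟨Subgroup.one_mem _, fun y _ => by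
        rw [commutatorElement_one_left]; exact D.one_mem⟩
      mul_mem' := by
        rintro a b ⟨ha, ha'⟩ ⟨hb, hb'⟩
        refine ⟨Subgroup.mul_mem _ ha hb, fun y hy => ?_⟩
        have e : ⁅a * b, y⁆ = a * ⁅b, y⁆ * a⁻¹ * ⁅a, y⁆ := by
          simp only [commutatorElement_def]; group
        rw [e]
        exact D.mul_mem ((Subgroup.mem_normalizer_iff.mp ha _).mp (hb' y hy)) (ha' y hy)
      inv_mem' := by
        rintro a ⟨ha, ha'⟩
        refine ⟨Subgroup.inv_mem _ ha, fun y hy => ?_⟩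
        have e : ⁅a⁻¹, y⁆ = a⁻¹ * (⁅a, y⁆)⁻¹ * a⁻¹⁻¹ := by
          simp only [commutatorElement_def]; group
        rw [e]
        exact (Subgroup.mem_normalizer_iff.mp (Subgroup.inv_mem _ ha) _).mp
          (D.inv_mem (ha' y hy)) }
  have h1 : ⁅A, Y⁆ ≤ S := by
    intro a ha
    exact ⟨le_normalizer_commutator_left _ _ ha, fun y hy =>
      Subgroup.commutator_mem_commutator ha hy⟩
  have hYn : Y ≤ Subgroup.normalizer ((⁅A, Y⁆ : Subgroup G) : Set G) :=
    le_normalizer_commutator_right A Y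
  have h2 : A ⊓ Subgroup.centralizer (Y : Set G) ≤ S := by
    intro b hb
    obtain ⟨hbA, hbC⟩ := Subgroup.mem_inf.mp hb
    have hbY : b ∈ Subgroup.normalizer (Y : Set G) :=
      Subgroup.centralizer_le_normalizer _ hbC
    have hbAY : b ∈ Subgroup.normalizer ((⁅A, Y⁆ : Subgroup G) : Set G) :=
      le_normalizer_commutator_left A Y hbA
    refine ⟨normalizer_inf_le_normalizer_commutator _ _ (Subgroup.mem_inf.mpr ⟨hbAY, hbY⟩),
      fun y hy => ?_⟩
    have : ⁅b, y⁆ = 1 := by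
      rw [commutatorElement_eq_one_iff_commute]
      exact (Subgroup.mem_centralizer_iff.mp hbC y hy).symm
    rw [this]; exact D.one_mem
  have h3 : A ≤ S := h.trans (sup_le h1 h2)
  rw [Subgroup.commutator_le]
  intro a ha y hy
  exact (h3 ha).2 y hy

/-- If `K.map (conj y) = K` then `y` normalizes `K`. -/
theorem mem_normalizer_of_map_conj_eq {K : Subgroup G} {y : G}
    (h : K.map (MulAut.conj y).toMonoidHom = K) : y ∈ Subgroup.normalizer (K : Set G) := by
  rw [Subgroup.mem_normalizer_iff]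
  intro n
  constructor
  · intro hn
    rw [← h]
    exact ⟨n, hn, by simp [MulAut.conj_apply]⟩
  · intro hn
    rw [← h] at hn
    obtain ⟨k, hk, hkn⟩ := hn
    simp only [MulEquiv.coe_toMonoidHom, MulAut.conj_apply] at hkn
    have : k = n := by
      have := mul_left_cancel (mul_right_cancel hkn)
      exact this
    rw [← this]; exact hk

/-- Main abstract lemma: `L` is generated by a `Y`-invariant `p'`-subgroup `F` and a `Y`-invariant
family of pairwise commuting perfect "quasisimple" subgroups; `Y` a `p`-group normalizing `L`.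
Then `L = ⁅L,Y⁆ C_L(Y)`. -/
theorem le_commutator_sup_centralizer {p : ℕ} [Fact p.Prime] (L Y F : Subgroup G)
    (𝒦 : Set (Subgroup G)) (hY : IsPGroup p Y)
    (hFL : F ≤ L) (hYF : Y ≤ Subgroup.normalizer (F : Set G)) (hFp : ¬ p ∣ Nat.card F)
    (hKL : ∀ K ∈ 𝒦, K ≤ L) (hperf : ∀ K ∈ 𝒦, ⁅K, K⁆ = K)
    (hqs : ∀ K ∈ 𝒦, ∀ N : Subgroup G, N ≤ K → K ≤ Subgroup.normalizer (N : Set G) →
      N = K ∨ N ≤ Subgroup.centralizer (K : Set G))
    (hcomm : ∀ K₁ ∈ 𝒦, ∀ K₂ ∈ 𝒦, K₁ ≠ K₂ → ⁅K₁, K₂⁆ = ⊥)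
    (hconj : ∀ K ∈ 𝒦, ∀ y ∈ Y, K.map (MulAut.conj y).toMonoidHom ∈ 𝒦)
    (hgen : L ≤ F ⊔ sSup 𝒦) :
    L ≤ ⁅L, Y⁆ ⊔ (L ⊓ Subgroup.centralizer (Y : Set G)) := by
  refine hgen.trans (sup_le ?_ (sSup_le ?_))
  · -- the coprime part
    intro x hx
    have hMF : ⁅F, Y⁆ ≤ F := commutator_le_left_of_le_normalizer hYF
    have hM : ¬ p ∣ Nat.card ↥(⁅F, Y⁆) := fun h => hFp (h.trans (Subgroup.card_dvd_of_le hMF))
    have hPM : Y ≤ Subgroup.normalizer ((⁅F, Y⁆ : Subgroup G) : Set G) :=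
      le_normalizer_commutator_right F Y
    have hx' : ∀ g ∈ Y, x⁻¹ * g * x * g⁻¹ ∈ ⁅F, Y⁆ := by
      intro g hg
      have : x⁻¹ * g * x * g⁻¹ = ⁅x⁻¹, g⁆ := by simp only [commutatorElement_def]; group
      rw [this]
      exact Subgroup.commutator_mem_commutator (F.inv_mem hx) hg
    obtain ⟨m, hm, hfix⟩ :=
      Cfsg.Agent.Lib.Helper22_Coprime.exists_fixed_in_coset Y ⁅F, Y⁆ hY hM hPM x hx'
    have hxm : x * m ∈ L ⊓ Subgroup.centralizer (Y : Set G) := by
      refine Subgroup.mem_inf.mpr ⟨hFL (F.mul_mem hx (hMF hm)), ?_⟩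
      rw [Subgroup.mem_centralizer_iff]
      intro g hg
      have := hfix g hg
      calc g * (x * m) = g * (x * m) * g⁻¹ * g := by group
        _ = x * m * g := by rw [this]
    have e : x = (x * m) * m⁻¹ := by group
    rw [e]
    exact Subgroup.mul_mem _ (Subgroup.mem_sup_right hxm)
      (Subgroup.mem_sup_left (Subgroup.inv_mem _ (Subgroup.commutator_mono hFL le_rfl hm)))
  · intro K hK
    by_cases hN : Y ≤ Subgroup.normalizer (K : Set G)
    · -- `Y` normalizes `K`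
      have h1 : ⁅K, Y⁆ ≤ K := commutator_le_left_of_le_normalizer hN
      have h2 : K ≤ Subgroup.normalizer ((⁅K, Y⁆ : Subgroup G) : Set G) :=
        le_normalizer_commutator_left K Y
      rcases hqs K hK _ h1 h2 with h | h
      · refine le_trans ?_ le_sup_left
        calc K = ⁅K, Y⁆ := h.symm
          _ ≤ ⁅L, Y⁆ := Subgroup.commutator_mono (hKL K hK) le_rfl
      · refine le_trans ?_ le_sup_right
        have h3 : ⁅⁅K, Y⁆, K⁆ = ⊥ := Subgroup.commutator_eq_bot_iff_le_centralizer.mpr h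
        have h4 : ⁅⁅Y, K⁆, K⁆ = ⊥ := by rw [Subgroup.commutator_comm Y K]; exact h3
        have h5 : ⁅⁅K, K⁆, Y⁆ = ⊥ := Subgroup.commutator_commutator_eq_bot_of_rotate h3 h4
        rw [hperf K hK] at h5
        exact le_inf (hKL K hK) (Subgroup.commutator_eq_bot_iff_le_centralizer.mp h5)
    · -- some `y ∈ Y` moves `K`
      refine le_trans ?_ le_sup_left
      have : ∃ y ∈ Y, K.map (MulAut.conj y).toMonoidHom ≠ K := by
        by_contra hcon
        push Not at hcon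
        exact hN (fun y hy => mem_normalizer_of_map_conj_eq (hcon y hy))
      obtain ⟨y, hy, hne⟩ := this
      have hK' := hconj K hK y hy
      have hc : ⁅K.map (MulAut.conj y).toMonoidHom, K⁆ = ⊥ := hcomm _ hK' K hK hne
      rw [Subgroup.commutator_eq_bot_iff_le_centralizer] at hc
      have hLn : L ≤ Subgroup.normalizer ((⁅L, Y⁆ : Subgroup G) : Set G) :=
        le_normalizer_commutator_left L Y
      rw [← hperf K hK, Subgroup.commutator_le]
      intro k hk k' hk'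
      have hcK : y * k⁻¹ * y⁻¹ ∈ K.map (MulAut.conj y).toMonoidHom :=
        ⟨k⁻¹, K.inv_mem hk, by simp [MulAut.conj_apply]⟩
      have hck' : k' * (y * k⁻¹ * y⁻¹) = (y * k⁻¹ * y⁻¹) * k' :=
        Subgroup.mem_centralizer_iff.mp (hc hcK) k' hk'
      have e1 : ⁅k, y⁆ = k * (y * k⁻¹ * y⁻¹) := by simp only [commutatorElement_def]; group
      have e2 : ⁅⁅k, y⁆, k'⁆ = ⁅k, k'⁆ := by
        rw [e1]
        set c := y * k⁻¹ * y⁻¹ with hcdef
        simp only [commutatorElement_def]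
        calc k * c * k' * (k * c)⁻¹ * k'⁻¹ = k * (c * k') * c⁻¹ * k⁻¹ * k'⁻¹ := by group
          _ = k * (k' * c) * c⁻¹ * k⁻¹ * k'⁻¹ := by rw [hck']
          _ = k * k' * k⁻¹ * k'⁻¹ := by group
      rw [← e2]
      have hky : ⁅k, y⁆ ∈ ⁅L, Y⁆ := Subgroup.commutator_mem_commutator (hKL K hK hk) hy
      have e3 : ⁅⁅k, y⁆, k'⁆ = ⁅k, y⁆ * (k' * (⁅k, y⁆)⁻¹ * k'⁻¹) := by
        simp only [commutatorElement_def]; group
      rw [e3]
      exact Subgroup.mul_mem _ hky
        ((Subgroup.mem_normalizer_iff.mp (hLn (hKL K hK hk')) _).mp (Subgroup.inv_mem _ hky))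

end Cfsg.Agent.Lib.Helper49_FStarComm
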