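import Mathlib
import Cfsg.Prelude.Def_Local
import Cfsg.Prelude.Def_OddOrderLocal
import Cfsg.Agent.Lib.Helper70_BG108
import Cfsg.Agent.Lib.Helper2_Coprime

set_option autoImplicit false
open Cfsg

namespace Cfsg.Agent.Lib.Helper70_BG1212

open Cfsg.Agent.Lib.Helper35_FrobeniusNPC Cfsg.Agent.Lib.Helper70_BG106
open Cfsg.Agent.Lib.Helper70_BG108 Subgroup
open scoped commutatorElement

section General

variable {X : Type*} [Group X] [Finite X]

/-- if the derived group has normal `q`-complements for all primes `q ∉ π` and contains the Sylow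
`p`-subgroups for `p ∈ π`, then `O_π(X)` is a Hall `π`-subgroup -/
theorem not_dvd_index_piCore_of_npc (π : Set ℕ)
    (h1 : ∀ q : ℕ, q.Prime → q ∉ π → q ∣ Nat.card ↥(_root_.commutator X) →
      HasNPC q ↥(_root_.commutator X))
    (h2 : ∀ p : ℕ, p ∈ π → ∀ [Fact p.Prime] (P : Sylow p X), (P : Subgroup X) ≤ _root_.commutator X)
    {p : ℕ} (hp : p.Prime) (hpπ : p ∈ π) : ¬ p ∣ (piCore π X).index := by
  have : Fact p.Prime := ⟨hp⟩
  obtain ⟨N₀, H₀, hN₀n, -, -, hcard, hidx⟩ :=
    exists_nilpotent_hall (X := ↥(_root_.commutator X)) {q | q ∉ π}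
      (fun q hq hqπ hd => h1 q hq hqπ hd)
  have hN₀π : ∀ q : ℕ, q.Prime → q ∣ Nat.card N₀ → q ∈ π := by
    intro q hq hd
    by_contra hqπ
    exact hcard q hq hqπ hd
  have h3 : N₀ ≤ piCore π ↥(_root_.commutator X) :=
    Cfsg.Agent.Lib.Helper32_Cores.le_piCore hN₀n hN₀π
  have h4 : (piCore π ↥(_root_.commutator X)).map (_root_.commutator X).subtype ≤ piCore π X :=
    Cfsg.Agent.Lib.Helper32_Cores.map_ordCore_le_of_normal
      (Cfsg.Agent.Lib.Helper32_Cores.piPred_ordClass π) (_root_.commutator X)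
  obtain ⟨P⟩ : Nonempty (Sylow p X) := inferInstance
  have hPle : (P : Subgroup X) ≤ _root_.commutator X := h2 p hpπ P
  have hP₀ : (P : Subgroup X).subgroupOf (_root_.commutator X) ≤ N₀ := by
    apply le_of_coprime_index
    rw [Cfsg.Agent.Lib.Helper1_Transport.card_subgroupOf hPle]
    obtain ⟨k, hk⟩ := IsPGroup.iff_card.mp P.isPGroup'
    rw [hk]
    apply Nat.Coprime.pow_left
    rw [Nat.Prime.coprime_iff_not_dvd hp]
    intro hd
    exact hidx p hp hd hpπ
  have hPcore : (P : Subgroup X) ≤ piCore π X := by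
    rw [← Subgroup.map_subgroupOf_eq_of_le hPle]
    exact (Subgroup.map_mono (hP₀.trans h3)).trans h4
  intro hd
  exact P.not_dvd_index (hd.trans (Subgroup.index_dvd_of_le hPcore))

/-- coprime action: if `K = [K, R]` is normal with `X = K R` then `C_K(R) ≤ K'` -/
theorem inf_centralizer_le_derived (K R : Subgroup X) [K.Normal]
    (hcop : (Nat.card K).Coprime (Nat.card R)) (hKeq : K = ⁅K, R⁆) :
    K ⊓ centralizer (R : Set X) ≤ ⁅K, K⁆ := by
  set π := QuotientGroup.mk' ⁅K, K⁆ with hπ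
  have hπs : Function.Surjective π := QuotientGroup.mk'_surjective _
  set A : Subgroup (X ⧸ ⁅K, K⁆) := K.map π with hA
  set R' : Subgroup (X ⧸ ⁅K, K⁆) := R.map π with hR'
  have hAc : IsMulCommutative ↥A := by
    refine ⟨⟨?_⟩⟩
    rintro ⟨_, a, ha, rfl⟩ ⟨_, b, hb, rfl⟩
    apply Subtype.ext
    show π a * π b = π b * π a
    rw [← map_mul, ← map_mul]
    apply (QuotientGroup.eq).mpr
    have h1 : ⁅a⁻¹, b⁻¹⁆ ∈ ⁅K, K⁆ :=
      Subgroup.commutator_mem_commutator (K.inv_mem ha) (K.inv_mem hb)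
    have h2 : (a * b)⁻¹ * (b * a) = ⁅b⁻¹, a⁻¹⁆ := by
      rw [commutatorElement_def]; group
    rw [h2]
    exact Subgroup.commutator_mem_commutator (K.inv_mem hb) (K.inv_mem ha)
  have hAn : A.Normal := Subgroup.Normal.map inferInstance π hπs
  have hRA : R' ≤ normalizer (A : Set (X ⧸ ⁅K, K⁆)) := by
    rw [Subgroup.normalizer_eq_top_iff.mpr hAn]; exact le_top
  have hcop' : (Nat.card R').Coprime (Nat.card A) :=
    Nat.Coprime.coprime_dvd_left (Subgroup.card_map_dvd _ _)
      (Nat.Coprime.coprime_dvd_right (Subgroup.card_map_dvd _ _) hcop.symm)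
  have h1 := Cfsg.Agent.Lib.Helper2_Coprime.commutator_inf_centralizer_eq_bot A R' hRA hcop'
  have h2 : ⁅A, R'⁆ = A := by
    rw [hA, hR', ← Subgroup.map_commutator, ← hKeq]
  rw [h2] at h1
  intro c hc
  have h3 : π c ∈ A ⊓ (A ⊓ centralizer (R' : Set (X ⧸ ⁅K, K⁆))) := by
    refine ⟨⟨c, hc.1, rfl⟩, ⟨c, hc.1, rfl⟩, ?_⟩
    show π c ∈ centralizer (R' : Set (X ⧸ ⁅K, K⁆))
    rw [mem_centralizer_iff]
    rintro _ ⟨r, hr, rfl⟩
    rw [← map_mul, ← map_mul, (mem_centralizer_iff.mp hc.2) r hr]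
  rw [h1, mem_bot] at h3
  exact (QuotientGroup.eq_one_iff c).mp h3

end General

section Main

universe u

variable {G : Type u} [Group G] [Finite G]

open Cfsg.Agent.Lib.Helper49_Sigma Cfsg.Agent.Lib.Helper49_Alpha

/-- `M_σ ≤ M'` -/
theorem piCore_sigma_le_commutator (hG : IsMinSimpleOddOrder G) (hU : UniqHyp G) (M : Subgroup G)
    (hM : IsCoatom M) : piCore (sigma M) ↥M ≤ _root_.commutator ↥M := by
  have hσidx : ∀ q : ℕ, q ∈ sigma M → ¬ q ∣ (_root_.commutator ↥M).index := by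
    intro q hqσ hdvd
    have : Fact q.Prime := ⟨hqσ.1⟩
    obtain ⟨Q⟩ : Nonempty (Sylow q ↥M) := inferInstance
    have hle := sylow_le_commutator hG hU hM hqσ Q
    exact Q.not_dvd_index (hdvd.trans (Subgroup.index_dvd_of_le hle))
  apply le_of_coprime_index
  apply Nat.coprime_of_dvd
  intro q hq hd hd'
  exact hσidx q (Cfsg.Agent.Lib.Helper32_Cores.card_piCore (sigma M) q hq hd) hd'

/-- `M_σ` is a Hall `σ(M)`-subgroup of `M` -/
theorem not_dvd_index_piCore_sigma (hG : IsMinSimpleOddOrder G) (hU : UniqHyp G) (h44 : H1444.{u})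
    (M : Subgroup G) (hM : IsCoatom M) {p : ℕ} (hp : p ∈ sigma M) :
    ¬ p ∣ (piCore (sigma M) ↥M).index := by
  apply not_dvd_index_piCore_of_npc (sigma M) ?_ ?_ hp.1 hp
  · intro q hq hqσ hd
    have : Fact q.Prime := ⟨hq⟩
    have hqM : q ∣ Nat.card ↥M := hd.trans (Subgroup.card_subgroup_dvd_card _)
    have hqβ : q ∉ beta M := fun h => hqσ (mem_sigma_of_mem_alpha hG hU hM h.1)
    have h5 := (beta_statement hG hU h44 M hM).2.2.2.2 q hq hqM hqβ
    have hD : (_root_.commutator ↥M).map M.subtype = ⁅M, M⁆ := Subgroup.map_subtype_commutator M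
    let eD : ↥(_root_.commutator ↥M) ≃* ↥⁅M, M⁆ :=
      ((_root_.commutator ↥M).equivMapOfInjective M.subtype M.subtype_injective).trans
        (MulEquiv.subgroupCongr hD)
    exact Cfsg.Agent.Lib.Helper34_NPC.hasNPC_of_equiv eD.symm
      ((Cfsg.Agent.S0072.hasNPC_iff q).mp h5.1)
  · intro q hqσ _ P
    exact sylow_le_commutator hG hU hM hqσ P

/-- **Bender–Glauberman, Lemma 12.?** (`sigma_compl_embedding`), with the Uniqueness Theorem, S1444 and
the needed parts of S1420, S1423 as hypotheses. -/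
theorem sigma_compl_embedding (hG : IsMinSimpleOddOrder G) (hU : UniqHyp G) (h44 : H1444.{u})
    (M : Subgroup G) (hM : IsCoatom M)
    (h20 : ∀ (p : ℕ) (P : Subgroup G), p ∈ sigma M → IsPGroup p P → P ≤ M → ¬ IsCyclic P →
      normalizer (P : Set G) ≤ M)
    (h23 : ∀ (p : ℕ) [Fact p.Prime], p ∈ sigma M → ∀ X : Subgroup G, X ≤ M → Nat.card X = p →
      (p ∈ beta M ∨ X ≤ ⁅sigmaCore M, sigmaCore M⁆) → centralizer (X : Set G) ≤ M)
    (E : Subgroup G) (hE : IsComplIn E (sigmaCore M) M) :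
    sigmaCore M ⊓ centralizer (E : Set G) ≤ ⁅sigmaCore M, sigmaCore M⁆ ∧
      ⁅sigmaCore M, E⁆ = sigmaCore M ∧
      ∀ g : G, g ∉ M → IsCyclic ↥(sigmaCore M ⊓ M.map (MulAut.conj g).toMonoidHom) ∧
        (∀ p : ℕ, p.Prime → p ∣ Nat.card ↥(sigmaCore M ⊓ M.map (MulAut.conj g).toMonoidHom) →
          p ∉ beta M) ∧
        sigmaCore M ⊓ M.map (MulAut.conj g).toMonoidHom ⊓ ⁅sigmaCore M, sigmaCore M⁆ = ⊥ := by
  have hsolv : Group.IsSolvable ↥M := hG.2.2.2 M hM.1
  obtain ⟨hEM, hσM, hdisjG, hprod⟩ := hE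
  set K : Subgroup ↥M := piCore (sigma M) ↥M with hK
  set R : Subgroup ↥M := E.subgroupOf M with hR
  have hKmap : K.map M.subtype = sigmaCore M := rfl
  have hRmap : R.map M.subtype = E := Subgroup.map_subgroupOf_eq_of_le hEM
  have hKcard : ∀ q : ℕ, q.Prime → q ∣ Nat.card K → q ∈ sigma M :=
    Cfsg.Agent.Lib.Helper32_Cores.card_piCore (sigma M)
  -- `K R = M`
  have hmulKR : ∀ m : ↥M, ∃ r ∈ R, ∃ k ∈ K, m = r * k := by
    intro m
    obtain ⟨a, ha, b, hb, hab⟩ := hprod m.1 m.2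
    obtain ⟨k, hk, rfl⟩ := hb
    refine ⟨⟨a, hEM ha⟩, Subgroup.mem_subgroupOf.mpr ha, k, hk, Subtype.ext ?_⟩
    simpa using hab
  have hKR : K ⊔ R = ⊤ := by
    rw [eq_top_iff]
    intro m _
    obtain ⟨r, hr, k, hk, rfl⟩ := hmulKR m
    exact mul_mem (Subgroup.mem_sup_right hr) (Subgroup.mem_sup_left hk)
  have hdisj : Disjoint R K := by
    rw [Subgroup.disjoint_def]
    intro x hxR hxK
    have h1 : (x : G) ∈ E ⊓ sigmaCore M :=
      ⟨Subgroup.mem_subgroupOf.mp hxR, ⟨x, hxK, rfl⟩⟩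
    rw [hdisjG, Subgroup.mem_bot] at h1
    exact Subtype.ext h1
  have hcompl : Subgroup.IsComplement' R K := by
    apply Subgroup.isComplement'_of_disjoint_and_mul_eq_univ hdisj
    rw [Set.eq_univ_iff_forall]
    intro m
    obtain ⟨r, hr, k, hk, rfl⟩ := hmulKR m
    exact Set.mul_mem_mul hr hk
  have hRcard : Nat.card R = K.index := hcompl.index_eq_card.symm
  have hcop : (Nat.card K).Coprime (Nat.card R) := by
    rw [hRcard]
    apply Nat.coprime_of_dvd
    intro q hq hd hd'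
    exact not_dvd_index_piCore_sigma hG hU h44 M hM (hKcard q hq hd) hd'
  have hKle : K ≤ _root_.commutator ↥M := piCore_sigma_le_commutator hG hU M hM
  have hKeq : K = ⁅K, R⁆ := eq_commutator_of_le_derived K R hKR hcop hKle
  have hderiv : (⁅K, K⁆).map M.subtype = ⁅sigmaCore M, sigmaCore M⁆ := by
    rw [Subgroup.map_commutator, hKmap]
  refine ⟨?_, ?_, ?_⟩
  · -- (a)
    rintro x ⟨⟨k, hk, rfl⟩, hxc⟩
    rw [← hderiv]
    refine ⟨k, ?_, rfl⟩
    apply inf_centralizer_le_derived K R hcop hKeq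
    refine ⟨hk, ?_⟩
    show k ∈ centralizer (R : Set ↥M)
    rw [mem_centralizer_iff]
    intro r hr
    apply Subtype.ext
    have hxc' : M.subtype k ∈ centralizer (E : Set G) := hxc
    exact (mem_centralizer_iff.mp hxc') (r : G) (Subgroup.mem_subgroupOf.mp hr)
  · -- (b)
    rw [← hKmap, ← hRmap, ← Subgroup.map_commutator, ← hKeq]
  · -- (c)
    intro g hg
    set D : Subgroup G := sigmaCore M ⊓ M.map (MulAut.conj g).toMonoidHom with hD
    have hDσ : D ≤ sigmaCore M := inf_le_left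
    have hDM : D ≤ M := hDσ.trans hσM
    have hσcard : Nat.card ↥(sigmaCore M) = Nat.card K :=
      Subgroup.card_map_of_injective M.subtype_injective
    -- primes of subgroups of `D`
    have hprime : ∀ (Q : Subgroup G), Q ≤ D → ∀ q : ℕ, q.Prime → q ∣ Nat.card Q → q ∈ sigma M := by
      intro Q hQ q hq hd
      apply hKcard q hq
      rw [← hσcard]
      exact hd.trans (Subgroup.card_dvd_of_le (hQ.trans hDσ))
    -- step 1
    have hstep1 : ∀ (Q : Subgroup G), Q ≤ D → Q ≠ ⊥ → ∀ (q : ℕ) [Fact q.Prime], IsPGroup q Q →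
        ¬ centralizer (Q : Set G) ≤ M := by
      intro Q hQ hQ1 q _ hQq hcent
      have hqP : q.Prime := Fact.out
      have hqσ : q ∈ sigma M := by
        apply hprime Q hQ q hqP
        obtain ⟨n, hn⟩ := IsPGroup.iff_card.mp hQq
        rw [hn]
        apply dvd_pow_self
        rintro rfl
        rw [pow_zero] at hn
        exact hQ1 (Subgroup.card_eq_one.mp hn)
      have hconj : Q.map (MulAut.conj g⁻¹).toMonoidHom ≤ M := by
        rintro _ ⟨x, hx, rfl⟩
        obtain ⟨m, hm, hmx⟩ := (hQ hx).2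
        have : (MulAut.conj g⁻¹).toMonoidHom x = m := by
          rw [← hmx]
          simp [MulAut.conj_apply, mul_assoc]
        rw [this]
        exact hm
      obtain ⟨m, hm, c, hc, hgmc⟩ := (sigma_fusion_statement hG hU M hM hqσ Q hQq hQ1
        (hQ.trans hDM)).1 g⁻¹ hconj
      apply hg
      have h1 : g⁻¹ ∈ M := by
        rw [hgmc]
        exact mul_mem hm (hcent hc)
      simpa using M.inv_mem h1
    -- elements of prime order
    have hord : ∀ x ∈ D, ∀ q : ℕ, q.Prime → orderOf x = q →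
        (q ∈ beta M ∨ zpowers x ≤ ⁅sigmaCore M, sigmaCore M⁆) → False := by
      intro x hx q hq hxq hor
      have : Fact q.Prime := ⟨hq⟩
      have hXD : zpowers x ≤ D := zpowers_le.mpr hx
      have hXcard : Nat.card (zpowers x) = q := by rw [Nat.card_zpowers, hxq]
      have hX1 : zpowers x ≠ ⊥ := by
        intro h
        rw [h, Subgroup.card_bot] at hXcard
        exact hq.one_lt.ne hXcard
      have hXq : IsPGroup q (zpowers x) := IsPGroup.of_card (n := 1) (by rw [hXcard, pow_one])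
      have hqσ : q ∈ sigma M := hprime _ hXD q hq (by rw [hXcard])
      exact hstep1 _ hXD hX1 q hXq (h23 q hqσ _ (hXD.trans hDM) hXcard hor)
    have hcauchy : ∀ (Q : Subgroup G) (q : ℕ), q.Prime → q ∣ Nat.card Q →
        ∃ x ∈ Q, orderOf x = q := by
      intro Q q hq hd
      have : Fact q.Prime := ⟨hq⟩
      obtain ⟨y, hy⟩ := exists_prime_orderOf_dvd_card' q hd
      exact ⟨y, y.2, by rw [← hy, Subgroup.orderOf_coe]⟩
    have hβ : ∀ p : ℕ, p.Prime → p ∣ Nat.card ↥D → p ∉ beta M := by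
      intro q hq hd hqβ
      obtain ⟨x, hx, hxq⟩ := hcauchy D q hq hd
      exact hord x hx q hq hxq (Or.inl hqβ)
    have hinf : D ⊓ ⁅sigmaCore M, sigmaCore M⁆ = ⊥ := by
      by_contra hne
      have hcard1 : Nat.card ↥(D ⊓ ⁅sigmaCore M, sigmaCore M⁆) ≠ 1 := fun h =>
        hne (Subgroup.card_eq_one.mp h)
      obtain ⟨q, hq, hd⟩ := Nat.exists_prime_and_dvd hcard1
      obtain ⟨x, hx, hxq⟩ := hcauchy _ q hq hd
      exact hord x hx.1 q hq hxq (Or.inr (zpowers_le.mpr hx.2))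
    refine ⟨?_, hβ, hinf⟩
    -- cyclic
    have hcomm : ∀ a b : ↥D, a * b = b * a := by
      intro a b
      have h1 : ⁅(a : G), (b : G)⁆ ∈ D ⊓ ⁅sigmaCore M, sigmaCore M⁆ :=
        ⟨D.mul_mem (D.mul_mem (D.mul_mem a.2 b.2) (D.inv_mem a.2)) (D.inv_mem b.2),
          Subgroup.commutator_mem_commutator (hDσ a.2) (hDσ b.2)⟩
      rw [hinf, Subgroup.mem_bot, commutatorElement_eq_one_iff_mul_comm] at h1
      exact Subtype.ext h1
    have hZ : IsZGroup ↥D := by
      refine ⟨fun q hq P => ?_⟩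
      have : Fact q.Prime := ⟨hq⟩
      by_contra hnc
      set Q : Subgroup G := (P : Subgroup ↥D).map D.subtype with hQ
      have hQD : Q ≤ D := Subgroup.map_subtype_le _
      let e : ↥(P : Subgroup ↥D) ≃* ↥Q :=
        (P : Subgroup ↥D).equivMapOfInjective D.subtype D.subtype_injective
      have hQq : IsPGroup q ↥Q := P.isPGroup'.of_equiv e
      have hQnc : ¬ IsCyclic ↥Q := fun h => hnc (isCyclic_of_surjective e.symm e.symm.surjective)
      have hQ1 : Q ≠ ⊥ := by
        intro h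
        apply hQnc
        rw [h]
        infer_instance
      have hqσ : q ∈ sigma M := by
        apply hprime Q hQD q hq
        obtain ⟨n, hn⟩ := IsPGroup.iff_card.mp hQq
        rw [hn]
        apply dvd_pow_self
        rintro rfl
        rw [pow_zero] at hn
        exact hQ1 (Subgroup.card_eq_one.mp hn)
      exact hstep1 Q hQD hQ1 q hQq
        ((Subgroup.centralizer_le_normalizer _).trans (h20 q Q hqσ hQq (hQD.trans hDM) hQnc))
    let _ : CommGroup ↥D := { (inferInstance : Group ↥D) with mul_comm := hcomm }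
    infer_instance

end Main

end Cfsg.Agent.Lib.Helper70_BG1212
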