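import Mathlib
import Cfsg.Prelude.Def_Local
import Cfsg.Prelude.Def_OddOrderLocal
import Cfsg.Agent.Lib.Helper70_BG1212
import Cfsg.Agent.Lib.Helper22_Uniq6

set_option autoImplicit false
open Cfsg

/-!
# Bender–Glauberman, Lemma 10.12 (`sigma_disjoint`)  (helper70)

For non-conjugate maximal subgroups `M`, `H` of a minimal simple group of odd order:
`α(M) ∩ σ(H) = ∅`, `M_α ∩ H_σ = 1`, and if `M_σ` is nilpotent then `σ(M) ∩ σ(H) = ∅`, `M_σ ∩ H_σ = 1`.
With the Uniqueness Theorem (and S1444) as explicit hypotheses.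
-/

namespace Cfsg.Agent.Lib.Helper70_BG1012

open Subgroup Cfsg.Agent.Lib.Helper22_Radical Cfsg.Agent.Lib.Helper22_BGTrans
  Cfsg.Agent.Lib.Helper22_Uniq Cfsg.Agent.Lib.Helper84_RelSylow
  Cfsg.Agent.Lib.Helper49_Sigma Cfsg.Agent.Lib.Helper49_Alpha
  Cfsg.Agent.Lib.Helper70_BG106 Cfsg.Agent.Lib.Helper70_BG1212

open scoped Pointwise

universe u

variable {G : Type u} [Group G] [Finite G]

/-- two Sylow `p`-subgroups of `G`, given as subgroups, are conjugate -/
theorem exists_cj_eq_of_isSylowIn_top {p : ℕ} [Fact p.Prime] {P P' : Subgroup G}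
    (h : IsSylowIn p P ⊤) (h' : IsSylowIn p P' ⊤) : ∃ g : G, cj g P = P' := by
  obtain ⟨S, hS⟩ := exists_sylow_eq_of_isSylowIn_top h
  obtain ⟨S', hS'⟩ := exists_sylow_eq_of_isSylowIn_top h'
  obtain ⟨g, hg⟩ := MulAction.exists_smul_eq G S S'
  refine ⟨g, ?_⟩
  rw [← hS, ← hS', ← hg, Sylow.coe_subgroup_smul]
  rfl

theorem card_alphaCore_mem (M : Subgroup G) :
    ∀ q : ℕ, q.Prime → q ∣ Nat.card ↥(alphaCore M) → q ∈ alpha M := by
  intro q hq hd
  unfold alphaCore at hd
  rw [Subgroup.card_map_of_injective M.subtype_injective] at hd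
  exact Cfsg.Agent.Lib.Helper32_Cores.card_piCore _ q hq hd

theorem card_sigmaCore_mem (M : Subgroup G) :
    ∀ q : ℕ, q.Prime → q ∣ Nat.card ↥(sigmaCore M) → q ∈ sigma M := by
  intro q hq hd
  unfold sigmaCore at hd
  rw [Subgroup.card_map_of_injective M.subtype_injective] at hd
  exact Cfsg.Agent.Lib.Helper32_Cores.card_piCore _ q hq hd

/-- **Bender–Glauberman, Lemma 10.12(a)** -/
theorem sigma_disjoint_alpha (hG : IsMinSimpleOddOrder G) (hU : UniqHyp G) {M H : Subgroup G}
    (hM : IsCoatom M) (hH : IsCoatom H) (hnc : ∀ g : G, H ≠ cj g M) :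
    (∀ p : ℕ, p ∈ alpha M → p ∉ sigma H) ∧ alphaCore M ⊓ sigmaCore H = ⊥ := by
  have key : ∀ p : ℕ, p ∈ alpha M → p ∉ sigma H := by
    intro p hpα hpσ
    have hpp : p.Prime := hpα.1
    have : Fact p.Prime := ⟨hpp⟩
    obtain ⟨Q₀⟩ : Nonempty (Sylow p ↥M) := inferInstance
    have hS := sylM_of_mem_alpha hG hU hM hpα Q₀
    set P : Subgroup G := (Q₀ : Subgroup ↥M).map M.subtype with hP
    have h1 : IsSylowIn p P M := isSylowIn_of_sylow Q₀
    have h3 : ¬ PRankLE p 2 ↥P := fun h => hpα.2 (pRankLE_of_sylow h1 h)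
    have htop : P ≠ ⊤ := ne_top_of_le_ne_top hM.1 h1.le
    have hR1 : ¬ RankLE 1 ↥P := by
      intro h
      apply h3
      intro B hc he
      exact (h p hpp B hc he).trans (Nat.pow_le_pow_right hpp.pos (by norm_num))
    have hR2 : ¬ RankLE 2 ↥P := fun h => h3 (h p hpp)
    have hPU : InUniqueMaximal P := hU _ htop hR1 (Or.inl hR2)
    obtain ⟨P', hS'⟩ := exists_sylM_of_mem_sigma hpσ
    obtain ⟨g, hg⟩ := exists_cj_eq_of_isSylowIn_top hS.1 hS'.1
    obtain ⟨M₀, -, huniq⟩ := inUniqueMaximal_cj hPU g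
    have e1 := huniq (cj g M) ⟨isCoatom_cj hM g, cj_mono hS.2.1⟩
    have e2 := huniq H ⟨hH, by rw [hg]; exact hS'.2.1⟩
    exact hnc g (e2.trans e1.symm)
  refine ⟨key, ?_⟩
  apply disjoint_iff.mp
  apply Subgroup.disjoint_of_coprime_natCard
  apply Nat.coprime_of_dvd
  intro q hq hd hd'
  exact key q (card_alphaCore_mem M q hq hd) (card_sigmaCore_mem H q hq hd')

/-- **Bender–Glauberman, Lemma 10.12(b)** -/
theorem sigma_disjoint_nil (hG : IsMinSimpleOddOrder G) (hU : UniqHyp G) (h44 : H1444.{u})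
    {M H : Subgroup G} (hM : IsCoatom M) (hH : IsCoatom H) (hnc : ∀ g : G, H ≠ cj g M)
    (hnil : Group.IsNilpotent ↥(sigmaCore M)) :
    (∀ p : ℕ, p ∈ sigma M → p ∉ sigma H) ∧ sigmaCore M ⊓ sigmaCore H = ⊥ := by
  have key : ∀ p : ℕ, p ∈ sigma M → p ∉ sigma H := by
    intro p hpσ hpσH
    have hpp : p.Prime := hpσ.1
    have : Fact p.Prime := ⟨hpp⟩
    obtain ⟨P, hS⟩ := exists_sylM_of_mem_sigma hpσ
    -- `P ≤ M_σ`
    have hPT : P ≤ sigmaCore M := by
      have h1 : P.subgroupOf M ≤ piCore (sigma M) ↥M := by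
        apply le_of_coprime_index
        rw [Cfsg.Agent.Lib.Helper1_Transport.card_subgroupOf hS.2.1]
        obtain ⟨k, hk⟩ := IsPGroup.iff_card.mp hS.1.isPGroup
        rw [hk]
        apply Nat.Coprime.pow_left
        rw [Nat.Prime.coprime_iff_not_dvd hpp]
        exact not_dvd_index_piCore_sigma hG hU h44 M hM hpσ
      rw [← Subgroup.map_subgroupOf_eq_of_le hS.2.1]
      exact Subgroup.map_mono h1
    have hσM : sigmaCore M ≤ M := Subgroup.map_subtype_le _
    -- `P` is the normal Sylow subgroup of the nilpotent group `M_σ`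
    have hST : IsSylowIn p P (sigmaCore M) := hS.1.mono hPT le_top
    have hPTn : ((hST.toSylow : Sylow p ↥(sigmaCore M)) : Subgroup ↥(sigmaCore M)).Normal :=
      inferInstance
    have hMT : M ≤ normalizer ((sigmaCore M : Subgroup G) : Set G) := by
      have h1 := Subgroup.le_normalizer_map (H := piCore (sigma M) ↥M) M.subtype
      rw [Subgroup.normalizer_eq_top_iff.mpr inferInstance, ← MonoidHom.range_eq_map,
        Subgroup.range_subtype] at h1
      exact h1
    have hMN : M ≤ normalizer (P : Set G) := by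
      intro m hm
      have hST' : IsSylowIn p (cj m P) (sigmaCore M) := by
        have h1 := hST.conj m
        have h2 : cj m (sigmaCore M) = sigmaCore M := cj_eq_of_mem_normalizer (hMT hm)
        change IsSylowIn p (cj m P) (cj m (sigmaCore M)) at h1
        rwa [h2] at h1
      have hU' := Sylow.unique_of_normal hST.toSylow hPTn
      have heq : hST'.toSylow = hST.toSylow := Subsingleton.elim _ _
      have heq' : (cj m P).subgroupOf (sigmaCore M) = P.subgroupOf (sigmaCore M) := by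
        rw [← hST'.coe_toSylow, ← hST.coe_toSylow, heq]
      have heq'' : cj m P = P := by
        have e1 := Subgroup.map_subgroupOf_eq_of_le hST'.1
        have e2 := Subgroup.map_subgroupOf_eq_of_le hST.1
        rw [← e1, heq', e2]
      rw [Subgroup.mem_normalizer_iff_map_conj_eq]
      exact heq''
    have hNP : normalizer (P : Set G) = M := le_antisymm hS.2.2 hMN
    obtain ⟨P', hS'⟩ := exists_sylM_of_mem_sigma hpσH
    obtain ⟨g, hg⟩ := exists_cj_eq_of_isSylowIn_top hS.1 hS'.1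
    have hle : cj g M ≤ H := by
      have h1 : cj g (normalizer (P : Set G)) = normalizer ((cj g P : Subgroup G) : Set G) :=
        Subgroup.map_equiv_normalizer_eq P (MulAut.conj g)
      rw [hNP, hg] at h1
      rw [h1]
      exact hS'.2.2
    apply hnc g
    by_contra hne
    exact hH.1 ((isCoatom_cj hM g).2 H (lt_of_le_of_ne hle (Ne.symm hne)))
  refine ⟨key, ?_⟩
  apply disjoint_iff.mp
  apply Subgroup.disjoint_of_coprime_natCard
  apply Nat.coprime_of_dvd
  intro q hq hd hd'
  exact key q (card_sigmaCore_mem M q hq hd) (card_sigmaCore_mem H q hq hd')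

end Cfsg.Agent.Lib.Helper70_BG1012
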