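import Mathlib
import Cfsg.Prelude.Def_Local
import Cfsg.Prelude.Def_OddOrderLocal
import Cfsg.Agent.Lib.Helper52_PLength
import Cfsg.Agent.Lib.Helper1_Frattini

set_option autoImplicit false
set_option linter.unusedSectionVars false
open Cfsg

namespace Cfsg.Agent.Lib.Helper70_BG107

open Cfsg.Agent.Lib.Helper52_PLength
open scoped Pointwise commutatorElement

section PLen

variable {M : Type*} [Group M] [Finite M] {p : ℕ} [Fact p.Prime]

theorem plen_one_data (h : PLengthLE p 1 M) :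
    ∃ K L : Subgroup M, K.Normal ∧ L.Normal ∧ K ≤ L ∧ (Nat.card K).Coprime p ∧
      (∃ a, K.relIndex L = p ^ a) ∧ L.index.Coprime p := by
  refine ⟨U p M 1, U p M 2, inferInstance, inferInstance, U_le_succ p 1, ?_, ?_, ?_⟩
  · have := stepNum_U (G := M) p 0
    rw [stepNum_even (by decide), U_zero, Subgroup.relIndex_bot_left] at this
    exact this
  · have := stepNum_U (G := M) p 1
    rw [stepNum_odd (by decide)] at this
    exact this
  · have := stepNum_U (G := M) p 2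
    rw [stepNum_even (by decide)] at this
    have h3 : U p M 3 = ⊤ := h
    rw [h3, Subgroup.relIndex_top_right] at this
    exact this

/-- In a group of `p`-length one, every element is `n * k` with `n` normalising the Sylow subgroup `P`
and `k` an element such that `k u k⁻¹ ∈ P` forces `k u k⁻¹ = u` for `u ∈ P`. -/
theorem exists_decomp (h : PLengthLE p 1 M) (P : Sylow p M) (m : M) :
    ∃ n ∈ Subgroup.normalizer ((P : Subgroup M) : Set M), ∃ k : M, m = n * k ∧
      ∀ u ∈ (P : Subgroup M), k * u * k⁻¹ ∈ (P : Subgroup M) → k * u * k⁻¹ = u := by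
  obtain ⟨K, L, hKn, hLn, hKL, hKp, ⟨a, hKLa⟩, hLp⟩ := plen_one_data h
  have hp : p.Prime := Fact.out
  -- K ∩ P = 1
  have hKP : K ⊓ (P : Subgroup M) = ⊥ := by
    apply (Subgroup.disjoint_of_coprime_natCard ?_).eq_bot
    obtain ⟨b, hb⟩ := IsPGroup.iff_card.mp P.isPGroup'
    rw [hb]
    exact Nat.Coprime.pow_right b hKp
  -- P ≤ L
  have hPL : (P : Subgroup M) ≤ L := by
    intro x hx
    have h1 : orderOf (QuotientGroup.mk' L x) ∣ Nat.card (M ⧸ L) := orderOf_dvd_natCard _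
    have h2 : orderOf (QuotientGroup.mk' L x) ∣ orderOf x := orderOf_map_dvd _ x
    obtain ⟨j, hj⟩ := (IsPGroup.iff_orderOf.mp P.isPGroup') ⟨x, hx⟩
    have h3 : orderOf x = p ^ j := by
      rw [← hj]; exact (Subgroup.orderOf_mk x hx).symm
    rw [h3] at h2
    have h4 : (orderOf (QuotientGroup.mk' L x)).Coprime (orderOf (QuotientGroup.mk' L x)) := by
      apply Nat.Coprime.coprime_dvd_left h1
      apply Nat.Coprime.coprime_dvd_right h2
      have : Nat.card (M ⧸ L) = L.index := rfl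
      rw [this]
      exact Nat.Coprime.pow_right j hLp
    rw [Nat.coprime_self] at h4
    rw [orderOf_eq_one_iff] at h4
    rwa [QuotientGroup.mk'_apply, QuotientGroup.eq_one_iff] at h4
  -- L = K ⊔ P
  have hcardP : Nat.card (P : Subgroup M) = p ^ a := by
    rw [Sylow.card_eq_multiplicity]
    congr 1
    have e1 : Nat.card M = Nat.card K * (p ^ a * L.index) := by
      rw [← hKLa, Subgroup.relIndex_mul_index hKL, Subgroup.card_mul_index]
    have hK0 : Nat.card K ≠ 0 := Nat.card_pos.ne'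
    have hL0 : L.index ≠ 0 := Subgroup.index_ne_zero_of_finite
    have hpa0 : p ^ a ≠ 0 := pow_ne_zero _ hp.ne_zero
    rw [e1, Nat.factorization_mul hK0 (mul_ne_zero hpa0 hL0), Nat.factorization_mul hpa0 hL0,
      hp.factorization_pow]
    have f1 : (Nat.card K).factorization p = 0 :=
      Nat.factorization_eq_zero_of_not_dvd (fun hd => hp.one_lt.ne' (Nat.Coprime.eq_one_of_dvd hKp.symm hd))
    have f2 : L.index.factorization p = 0 :=
      Nat.factorization_eq_zero_of_not_dvd (fun hd => hp.one_lt.ne' (Nat.Coprime.eq_one_of_dvd hLp.symm hd))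
    simp [f1, f2]
  have hKPL : K ⊔ (P : Subgroup M) ≤ L := sup_le hKL hPL
  have hLle : L ≤ K ⊔ (P : Subgroup M) := by
    rw [← Subgroup.relIndex_eq_one]
    have r1 : K.relIndex (K ⊔ (P : Subgroup M)) = p ^ a := by
      rw [Subgroup.relIndex_sup_left, ← Subgroup.inf_relIndex_right, hKP, Subgroup.relIndex_bot_left,
        hcardP]
    have r2 := Subgroup.relIndex_mul_relIndex K (K ⊔ (P : Subgroup M)) L le_sup_left hKPL
    rw [r1, hKLa] at r2
    have hpa0 : 0 < p ^ a := pow_pos hp.pos _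
    exact Nat.eq_of_mul_eq_mul_left hpa0 (by rw [r2, mul_one])
  -- Frattini
  have hfr := Sylow.normalizer_sup_eq_top (P.subtype hPL)
  have hmap : ((P.subtype hPL : Sylow p L) : Subgroup L).map L.subtype = (P : Subgroup M) := by
    rw [Sylow.coe_subtype, Subgroup.subgroupOf_map_subtype, inf_eq_left.mpr hPL]
  rw [hmap] at hfr
  have hm : m ∈ (Subgroup.normalizer ((P : Subgroup M) : Set M) ⊔ L : Subgroup M) := by
    rw [hfr]; trivial
  rw [← SetLike.mem_coe, Subgroup.mul_normal] at hm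
  obtain ⟨n, hn, l, hl, rfl⟩ := hm
  have hl' : l ∈ (K ⊔ (P : Subgroup M) : Subgroup M) := hLle hl
  rw [← SetLike.mem_coe, Subgroup.normal_mul] at hl'
  obtain ⟨k', hk', u, hu, rfl⟩ := hl'
  have huN : u ∈ Subgroup.normalizer ((P : Subgroup M) : Set M) := Subgroup.le_normalizer hu
  refine ⟨n * u, Subgroup.mul_mem _ hn huN, u⁻¹ * k' * u, by group, ?_⟩
  have hkK : u⁻¹ * k' * u ∈ K := by
    have := hKn.conj_mem k' hk' u⁻¹
    rwa [inv_inv] at this
  intro v hv hv'
  set k := u⁻¹ * k' * u with hk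
  have h1 : k * v * k⁻¹ * v⁻¹ ∈ K := by
    have h2 : v * k⁻¹ * v⁻¹ ∈ K := hKn.conj_mem _ (K.inv_mem hkK) v
    have : k * v * k⁻¹ * v⁻¹ = k * (v * k⁻¹ * v⁻¹) := by group
    rw [this]; exact K.mul_mem hkK h2
  have h3 : k * v * k⁻¹ * v⁻¹ ∈ (P : Subgroup M) := Subgroup.mul_mem _ hv' (Subgroup.inv_mem _ hv)
  have h4 : k * v * k⁻¹ * v⁻¹ ∈ K ⊓ (P : Subgroup M) := ⟨h1, h3⟩
  rw [hKP, Subgroup.mem_bot] at h4
  exact mul_inv_eq_one.mp h4

end PLen

section Fusion

variable {G : Type*} [Group G] [Finite G]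

/-- the statement of S1404 (BG 10.1(d),(e)) as a hypothesis -/
def H1404 (G : Type*) [Group G] : Prop :=
  ∀ (M : Subgroup G), IsCoatom M → ∀ (p : ℕ) [Fact p.Prime], p ∈ Cfsg.sigma M →
    ∀ (X : Subgroup G), IsPGroup p X → X ≠ ⊥ → X ≤ M →
    (∀ g : G, X.map (MulAut.conj g).toMonoidHom ≤ M →
      ∃ m ∈ M, ∃ c ∈ Subgroup.centralizer (X : Set G), g = m * c) ∧
      Subgroup.normalizer (X : Set G) =
        (M ⊓ Subgroup.normalizer (X : Set G)) ⊔ Subgroup.centralizer (X : Set G)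

/-- the statement of S1410 (BG 10.6) as a hypothesis -/
def H1410 (G : Type*) [Group G] : Prop :=
  ∀ (p : ℕ) [Fact p.Prime] (H : Subgroup G), H ≠ ⊤ → Cfsg.PLengthLE p 1 H

theorem sylow_normalizer_ne_top (hG : Cfsg.IsMinSimpleOddOrder G) {p : ℕ} [Fact p.Prime]
    (P : Sylow p G) (hP : (P : Subgroup G) ≠ ⊥) :
    Subgroup.normalizer ((P : Subgroup G) : Set G) ≠ ⊤ := by
  obtain ⟨-, hsimple, hnc, -⟩ := hG
  intro htop
  have hnormal : (P : Subgroup G).Normal := Subgroup.normalizer_eq_top_iff.mp htop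
  rcases hsimple.eq_bot_or_eq_top_of_normal _ hnormal with h | h
  · exact hP h
  · apply hnc
    have hpg : IsPGroup p G := by
      have := P.isPGroup'
      rw [h] at this
      exact this.of_equiv Subgroup.topEquiv
    have hnil : Group.IsNilpotent G := hpg.isNilpotent
    have hsol : Group.IsSolvable G := inferInstance
    exact ⟨⟨(IsSimpleGroup.comm_iff_isSolvable.mpr hsol)⟩⟩

/-- Elementwise control of fusion by `N_G(P)` (BG 10.7(c), elementwise form). -/
theorem fusion_elementwise (hG : Cfsg.IsMinSimpleOddOrder G) (h04 : H1404 G) (h10 : H1410 G)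
    {p : ℕ} [Fact p.Prime] (P : Sylow p G) (Q : Subgroup G) (hQ : Q ≤ (P : Subgroup G)) (x : G)
    (hx : ∀ u ∈ Q, x * u * x⁻¹ ∈ (P : Subgroup G)) :
    ∃ y ∈ Subgroup.normalizer ((P : Subgroup G) : Set G), ∀ u ∈ Q, x * u * x⁻¹ = y * u * y⁻¹ := by
  have hp : p.Prime := Fact.out
  by_cases hQ1 : Q = ⊥
  · refine ⟨1, Subgroup.one_mem _, ?_⟩
    intro u hu
    rw [hQ1, Subgroup.mem_bot] at hu
    subst hu
    simp
  have hP1 : (P : Subgroup G) ≠ ⊥ := by
    intro h
    apply hQ1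
    rw [eq_bot_iff, ← h]; exact hQ
  have hN := sylow_normalizer_ne_top hG P hP1
  obtain ⟨M, hM, hNM⟩ := (eq_top_or_exists_le_coatom _).resolve_left hN
  have hPM : (P : Subgroup G) ≤ M := Subgroup.le_normalizer.trans hNM
  have hmapP : ((P.subtype hPM : Sylow p M) : Subgroup M).map M.subtype = (P : Subgroup G) := by
    rw [Sylow.coe_subtype, Subgroup.subgroupOf_map_subtype, inf_eq_left.mpr hPM]
  have hsig : p ∈ Cfsg.sigma M := by
    refine ⟨hp, ?_, P.subtype hPM, ?_⟩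
    · have h1 : Nat.card (P : Subgroup G) ∣ Nat.card M := Subgroup.card_dvd_of_le hPM
      obtain ⟨b, hb⟩ := IsPGroup.iff_card.mp P.isPGroup'
      have hb0 : b ≠ 0 := by
        rintro rfl
        rw [pow_zero] at hb
        exact hP1 (Subgroup.card_eq_one.mp hb)
      rw [hb] at h1
      exact (dvd_pow_self p hb0).trans h1
    · rw [hmapP]; exact hNM
  have hQp : IsPGroup p Q := P.isPGroup'.to_le hQ
  have hQM : Q ≤ M := hQ.trans hPM
  obtain ⟨h04a, -⟩ := h04 M hM p hsig Q hQp hQ1 hQM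
  have hxM : Q.map (MulAut.conj x).toMonoidHom ≤ M := by
    rintro _ ⟨u, hu, rfl⟩
    exact hPM (hx u hu)
  obtain ⟨m, hmM, c, hc, rfl⟩ := h04a x hxM
  have hcu : ∀ u ∈ Q, c * u * c⁻¹ = u := by
    intro u hu
    have := Subgroup.mem_centralizer_iff.mp hc u hu
    rw [← this, mul_inv_cancel_right]
  have hmu : ∀ u ∈ Q, m * c * u * (m * c)⁻¹ = m * u * m⁻¹ := by
    intro u hu
    have : m * c * u * (m * c)⁻¹ = m * (c * u * c⁻¹) * m⁻¹ := by group
    rw [this, hcu u hu]
  have hlen : Cfsg.PLengthLE p 1 M := h10 p M hM.1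
  obtain ⟨n, hn, k, hmk, hk⟩ := exists_decomp hlen (P.subtype hPM) ⟨m, hmM⟩
  have hmemP' : ∀ g : M, g ∈ ((P.subtype hPM : Sylow p M) : Subgroup M) ↔ (g : G) ∈ (P : Subgroup G) := by
    intro g
    rw [Sylow.coe_subtype, Subgroup.mem_subgroupOf]
  refine ⟨(n : G), ?_, ?_⟩
  · rw [Subgroup.mem_normalizer_iff]
    intro g
    constructor
    · intro hg
      have hgM : g ∈ M := hPM hg
      have := (Subgroup.mem_normalizer_iff.mp hn ⟨g, hgM⟩).mp ((hmemP' ⟨g, hgM⟩).mpr hg)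
      exact (hmemP' _).mp this
    · intro hg
      have hgM : g ∈ M := by
        have h1 : (n : G)⁻¹ * ((n : G) * g * (n : G)⁻¹) * (n : G) ∈ M :=
          M.mul_mem (M.mul_mem (M.inv_mem n.2) (hPM hg)) n.2
        have h2 : (n : G)⁻¹ * ((n : G) * g * (n : G)⁻¹) * (n : G) = g := by group
        rwa [h2] at h1
      have := (Subgroup.mem_normalizer_iff.mp hn ⟨g, hgM⟩).mpr ((hmemP' _).mpr hg)
      exact (hmemP' ⟨g, hgM⟩).mp this
  · intro u hu
    rw [hmu u hu]
    have huP : u ∈ (P : Subgroup G) := hQ hu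
    have huM : u ∈ M := hPM huP
    have hu' : (⟨u, huM⟩ : M) ∈ ((P.subtype hPM : Sylow p M) : Subgroup M) := (hmemP' _).mpr huP
    -- k u k⁻¹ ∈ P'
    have hkuk : k * ⟨u, huM⟩ * k⁻¹ ∈ ((P.subtype hPM : Sylow p M) : Subgroup M) := by
      have h1 : (⟨m, hmM⟩ : M) * ⟨u, huM⟩ * (⟨m, hmM⟩ : M)⁻¹ ∈
          ((P.subtype hPM : Sylow p M) : Subgroup M) := by
        rw [hmemP']
        have := hx u hu
        rw [hmu u hu] at this
        exact this
      rw [hmk] at h1
      have h2 : n⁻¹ * (n * k * ⟨u, huM⟩ * (n * k)⁻¹) * n⁻¹⁻¹ ∈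
          ((P.subtype hPM : Sylow p M) : Subgroup M) :=
        (Subgroup.mem_normalizer_iff.mp (Subgroup.inv_mem _ hn) _).mp h1
      have h3 : n⁻¹ * (n * k * ⟨u, huM⟩ * (n * k)⁻¹) * n⁻¹⁻¹ = k * ⟨u, huM⟩ * k⁻¹ := by group
      rwa [h3] at h2
    have hfix := hk _ hu' hkuk
    have h4 : (⟨m, hmM⟩ : M) * ⟨u, huM⟩ * (⟨m, hmM⟩ : M)⁻¹ = n * ⟨u, huM⟩ * n⁻¹ := by
      rw [hmk]
      have : n * k * ⟨u, huM⟩ * (n * k)⁻¹ = n * (k * ⟨u, huM⟩ * k⁻¹) * n⁻¹ := by group
      rw [this, hfix]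
    have := congrArg Subtype.val h4
    simpa using this

/-- BG 10.7(c) -/
theorem fusion_c (hG : Cfsg.IsMinSimpleOddOrder G) (h04 : H1404 G) (h10 : H1410 G)
    {p : ℕ} [Fact p.Prime] (P : Sylow p G) (Q : Subgroup G) (x : G) (hQ : Q ≤ (P : Subgroup G))
    (hx : Q.map (MulAut.conj x).toMonoidHom ≤ (P : Subgroup G)) :
    ∃ y ∈ Subgroup.normalizer ((P : Subgroup G) : Set G),
      Q.map (MulAut.conj x).toMonoidHom = Q.map (MulAut.conj y).toMonoidHom := by
  have hx' : ∀ u ∈ Q, x * u * x⁻¹ ∈ (P : Subgroup G) := by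
    intro u hu
    apply hx
    exact ⟨u, hu, by simp⟩
  obtain ⟨y, hy, hxy⟩ := fusion_elementwise hG h04 h10 P Q hQ x hx'
  refine ⟨y, hy, ?_⟩
  ext g
  constructor
  · rintro ⟨u, hu, rfl⟩
    refine ⟨u, hu, ?_⟩
    simp only [MulEquiv.coe_toMonoidHom, MulAut.conj_apply]
    exact (hxy u hu).symm
  · rintro ⟨u, hu, rfl⟩
    refine ⟨u, hu, ?_⟩
    simp only [MulEquiv.coe_toMonoidHom, MulAut.conj_apply]
    exact hxy u hu

/-- every `p`-subgroup is conjugate into `P` -/
theorem exists_conj_le_sylow {p : ℕ} [Fact p.Prime] (P : Sylow p G) (R : Subgroup G)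
    (hR : IsPGroup p R) : ∃ g : G, ∀ u ∈ R, g * u * g⁻¹ ∈ (P : Subgroup G) := by
  obtain ⟨Q0, hQ0⟩ := hR.exists_le_sylow
  obtain ⟨g, hg⟩ := MulAction.exists_smul_eq G Q0 P
  refine ⟨g, ?_⟩
  intro u hu
  have h1 : MulAut.conj g • u ∈ MulAut.conj g • (Q0 : Subgroup G) :=
    Subgroup.smul_mem_pointwise_smul _ _ _ (hQ0 hu)
  have h2 : MulAut.conj g • (Q0 : Subgroup G) = ((g • Q0 : Sylow p G) : Subgroup G) := rfl
  rw [h2, hg] at h1
  simpa [MulAut.smul_def] using h1

/-- BG 10.7(e) -/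
theorem fusion_e (hG : Cfsg.IsMinSimpleOddOrder G) (h04 : H1404 G) (h10 : H1410 G)
    {p : ℕ} [Fact p.Prime] (P : Sylow p G) (R Q : Subgroup G) (hR : IsPGroup p R)
    (hQ : Q ≤ (P : Subgroup G) ⊓ R)
    (hN : Subgroup.normalizer ((P : Subgroup G) : Set G) ≤ Subgroup.normalizer (Q : Set G)) :
    Subgroup.normalizer (R : Set G) ≤ Subgroup.normalizer (Q : Set G) := by
  obtain ⟨g, hg⟩ := exists_conj_le_sylow P R hR
  have hQP : Q ≤ (P : Subgroup G) := hQ.trans inf_le_left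
  have hQR : Q ≤ R := hQ.trans inf_le_right
  -- key: for h ∈ N(R), u ∈ Q : h u h⁻¹ ∈ Q
  have key : ∀ h ∈ Subgroup.normalizer (R : Set G), ∀ u ∈ Q, h * u * h⁻¹ ∈ Q := by
    intro h hh u hu
    -- g normalises Q "backwards"
    have hg1 : ∀ v ∈ Q, g * v * g⁻¹ ∈ (P : Subgroup G) := fun v hv => hg v (hQR hv)
    obtain ⟨y, hy, hgy⟩ := fusion_elementwise hG h04 h10 P Q hQP g hg1
    have hyQ := hN hy
    have hgh : ∀ v ∈ Q, (g * h) * v * (g * h)⁻¹ ∈ (P : Subgroup G) := by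
      intro v hv
      have h1 : h * v * h⁻¹ ∈ R := (Subgroup.mem_normalizer_iff.mp hh v).mp (hQR hv)
      have h2 := hg _ h1
      have : g * h * v * (g * h)⁻¹ = g * (h * v * h⁻¹) * g⁻¹ := by group
      rw [this]; exact h2
    obtain ⟨y', hy', hghy⟩ := fusion_elementwise hG h04 h10 P Q hQP (g * h) hgh
    have hy'Q := hN hy'
    -- w := y' u y'⁻¹ ∈ Q
    have hw : y' * u * y'⁻¹ ∈ Q := (Subgroup.mem_normalizer_iff.mp hy'Q u).mp hu
    -- v := y⁻¹ w y ∈ Q and g v g⁻¹ = w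
    set w := y' * u * y'⁻¹ with hwdef
    have hv : y⁻¹ * w * y⁻¹⁻¹ ∈ Q :=
      (Subgroup.mem_normalizer_iff.mp (Subgroup.inv_mem _ hyQ) w).mp hw
    have e1 := hgy _ hv
    have e2 : y * (y⁻¹ * w * y⁻¹⁻¹) * y⁻¹ = w := by group
    rw [e2] at e1
    -- g (h u h⁻¹) g⁻¹ = w = g v g⁻¹
    have e3 : g * (h * u * h⁻¹) * g⁻¹ = w := by
      have := hghy u hu
      rw [hwdef, ← this]; group
    have e4 : h * u * h⁻¹ = y⁻¹ * w * y⁻¹⁻¹ := by
      have : g * (h * u * h⁻¹) * g⁻¹ = g * (y⁻¹ * w * y⁻¹⁻¹) * g⁻¹ := by rw [e3, e1]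
      exact mul_left_cancel (mul_right_cancel this)
    rw [e4]; exact hv
  intro h hh
  rw [Subgroup.mem_normalizer_iff]
  intro u
  constructor
  · exact key h hh u
  · intro hu
    have := key h⁻¹ (Subgroup.inv_mem _ hh) _ hu
    have e : h⁻¹ * (h * u * h⁻¹) * h⁻¹⁻¹ = u := by group
    rwa [e] at this

/-- BG 10.7(d) -/
theorem fusion_d (hG : Cfsg.IsMinSimpleOddOrder G) (h04 : H1404 G) (h10 : H1410 G)
    {p : ℕ} [Fact p.Prime] (P : Sylow p G) (Q : Subgroup G) (hQ : Q ≤ (P : Subgroup G)) :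
    ¬ p ∣ ((P : Subgroup G) ⊓ Subgroup.normalizer (Q : Set G)).relIndex
      (Subgroup.normalizer (Q : Set G)) := by
  set N := Subgroup.normalizer (Q : Set G) with hNdef
  set T := (P : Subgroup G) ⊓ N with hTdef
  have hTN : T ≤ N := inf_le_right
  have hTp : IsPGroup p (T.subgroupOf N) := by
    have h1 : IsPGroup p T := P.isPGroup'.to_le inf_le_left
    exact h1.comap_subtype
  obtain ⟨R', hR'⟩ := hTp.exists_le_sylow
  set R := (R' : Subgroup N).map N.subtype with hRdef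
  have hRN : R ≤ N := Subgroup.map_subtype_le _
  have hRp : IsPGroup p R := R'.isPGroup'.map _
  have hTR : T ≤ R := by
    have : T = (T.subgroupOf N).map N.subtype := by
      rw [Subgroup.subgroupOf_map_subtype, inf_eq_left.mpr hTN]
    rw [this]
    exact Subgroup.map_mono hR'
  have hQT : Q ≤ T := le_inf hQ Subgroup.le_normalizer
  have hQR : Q ≤ R := hQT.trans hTR
  obtain ⟨g, hg⟩ := exists_conj_le_sylow P R hRp
  have hg1 : ∀ v ∈ Q, g * v * g⁻¹ ∈ (P : Subgroup G) := fun v hv => hg v (hQR hv)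
  obtain ⟨y, hy, hgy⟩ := fusion_elementwise hG h04 h10 P Q hQ g hg1
  -- z := y⁻¹ g centralises Q
  have hz : ∀ u ∈ Q, (y⁻¹ * g) * u * (y⁻¹ * g)⁻¹ = u := by
    intro u hu
    have : (y⁻¹ * g) * u * (y⁻¹ * g)⁻¹ = y⁻¹ * (g * u * g⁻¹) * y := by group
    rw [this, hgy u hu]; group
  have hzinv : ∀ u ∈ Q, (y⁻¹ * g)⁻¹ * u * (y⁻¹ * g) = u := by
    intro u hu
    have h1 := hz u hu
    calc (y⁻¹ * g)⁻¹ * u * (y⁻¹ * g)
        = (y⁻¹ * g)⁻¹ * ((y⁻¹ * g) * u * (y⁻¹ * g)⁻¹) * (y⁻¹ * g) := by rw [h1]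
      _ = u := by group
  have hzN : y⁻¹ * g ∈ N := by
    rw [hNdef, Subgroup.mem_normalizer_iff]
    intro u
    constructor
    · intro hu; rw [hz u hu]; exact hu
    · intro hu
      have h1 := hzinv _ hu
      have h2 : (y⁻¹ * g)⁻¹ * ((y⁻¹ * g) * u * (y⁻¹ * g)⁻¹) * (y⁻¹ * g) = u := by group
      rw [h2] at h1
      rw [h1]; exact hu
  have hmapT : R.map (MulAut.conj (y⁻¹ * g)).toMonoidHom ≤ T := by
    rintro _ ⟨r, hr, rfl⟩
    simp only [MulEquiv.coe_toMonoidHom, MulAut.conj_apply]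
    refine ⟨?_, ?_⟩
    · have h1 := hg r hr
      have h2 : y⁻¹ * (g * r * g⁻¹) * y⁻¹⁻¹ ∈ (P : Subgroup G) :=
        (Subgroup.mem_normalizer_iff.mp (Subgroup.inv_mem _ hy) _).mp h1
      have h3 : y⁻¹ * g * r * (y⁻¹ * g)⁻¹ = y⁻¹ * (g * r * g⁻¹) * y⁻¹⁻¹ := by group
      rw [h3]; exact h2
    · exact N.mul_mem (N.mul_mem hzN (hRN hr)) (N.inv_mem hzN)
  have hcard : Nat.card R ≤ Nat.card T := by
    have h1 : Nat.card (R.map (MulAut.conj (y⁻¹ * g)).toMonoidHom) = Nat.card R :=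
      Subgroup.card_map_of_injective (MulAut.conj (y⁻¹ * g)).injective
    rw [← h1]
    exact Subgroup.card_le_of_le hmapT
  have hTReq : T = R := Subgroup.eq_of_le_of_card_ge hTR hcard
  have hsub : T.subgroupOf N = (R' : Subgroup N) := by
    rw [hTReq, hRdef]
    exact Subgroup.comap_map_eq_self_of_injective N.subtype_injective _
  show ¬ p ∣ (T.subgroupOf N).index
  rw [hsub]
  exact R'.not_dvd_index

theorem commutator_eq_top (hG : Cfsg.IsMinSimpleOddOrder G) : _root_.commutator G = ⊤ := by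
  obtain ⟨-, hsimple, hnc, -⟩ := hG
  rcases hsimple.eq_bot_or_eq_top_of_normal (_root_.commutator G) inferInstance with h | h
  · exfalso
    apply hnc
    refine ⟨⟨fun a b => ?_⟩⟩
    have h1 : ⁅a, b⁆ ∈ _root_.commutator G :=
      Subgroup.commutator_mem_commutator (Subgroup.mem_top a) (Subgroup.mem_top b)
    rw [h, Subgroup.mem_bot] at h1
    exact commutatorElement_eq_one_iff_mul_comm.mp h1
  · exact h

/-- Every generator of the focal subgroup of `P` is a commutator `⁅x, y⁆` with `x ∈ P`, `y ∈ N_G(P)`. -/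
theorem focal_gen (hG : Cfsg.IsMinSimpleOddOrder G) (h04 : H1404 G) (h10 : H1410 G)
    {p : ℕ} [Fact p.Prime] (P : Sylow p G) (g : G)
    (hg : g ∈ (P : Subgroup G) ∧ ∃ x ∈ (P : Subgroup G), ∃ u : G, g = ⁅x, u⁆) :
    ∃ x ∈ (P : Subgroup G), ∃ y ∈ Subgroup.normalizer ((P : Subgroup G) : Set G), g = ⁅x, y⁆ := by
  obtain ⟨hgP, x, hxP, u, rfl⟩ := hg
  have hux : u * x⁻¹ * u⁻¹ ∈ (P : Subgroup G) := by
    have h1 : x⁻¹ * ⁅x, u⁆ ∈ (P : Subgroup G) := Subgroup.mul_mem _ (Subgroup.inv_mem _ hxP) hgP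
    have h2 : x⁻¹ * ⁅x, u⁆ = u * x⁻¹ * u⁻¹ := by rw [commutatorElement_def]; group
    rwa [h2] at h1
  have hQ : Subgroup.zpowers x ≤ (P : Subgroup G) := by
    rw [Subgroup.zpowers_le]; exact hxP
  have hconj : ∀ w ∈ Subgroup.zpowers x, u * w * u⁻¹ ∈ (P : Subgroup G) := by
    intro w hw
    obtain ⟨k, rfl⟩ := Subgroup.mem_zpowers_iff.mp hw
    have h1 : u * x ^ k * u⁻¹ = (u * x⁻¹ * u⁻¹) ^ (-k) := by
      rw [conj_zpow, inv_zpow, zpow_neg, inv_inv]
    rw [h1]
    exact Subgroup.zpow_mem _ hux _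
  obtain ⟨y, hy, hxy⟩ := fusion_elementwise hG h04 h10 P (Subgroup.zpowers x) hQ u hconj
  refine ⟨x, hxP, y, hy, ?_⟩
  have h1 := hxy x⁻¹ (Subgroup.inv_mem _ (Subgroup.mem_zpowers x))
  rw [commutatorElement_def, commutatorElement_def]
  calc x * u * x⁻¹ * u⁻¹ = x * (u * x⁻¹ * u⁻¹) := by group
    _ = x * (y * x⁻¹ * y⁻¹) := by rw [h1]
    _ = x * y * x⁻¹ * y⁻¹ := by group

/-- BG 10.7(a), second half -/
theorem sylow_le_derived_normalizer (hG : Cfsg.IsMinSimpleOddOrder G) (h04 : H1404 G)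
    (h10 : H1410 G) {p : ℕ} [Fact p.Prime] (P : Sylow p G) :
    (P : Subgroup G) ≤ ⁅Subgroup.normalizer ((P : Subgroup G) : Set G),
      Subgroup.normalizer ((P : Subgroup G) : Set G)⁆ := by
  have h1 : (P : Subgroup G) = (P : Subgroup G).focalSubgroup := by
    rw [← Subgroup.commutator_inf_eq_focalSubgroup, commutator_eq_top hG, top_inf_eq]
  have key : (P : Subgroup G).focalSubgroup ≤ ⁅Subgroup.normalizer ((P : Subgroup G) : Set G),
      Subgroup.normalizer ((P : Subgroup G) : Set G)⁆ := by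
    rw [Subgroup.focalSubgroup_def, Subgroup.closure_le]
    intro g hg
    obtain ⟨x, hx, y, hy, rfl⟩ := focal_gen hG h04 h10 P g hg
    exact Subgroup.commutator_mem_commutator (Subgroup.le_normalizer hx) hy
  exact (le_of_eq h1).trans key

/-- BG 10.7(a), first half -/
theorem sylow_eq_commutator_compl (hG : Cfsg.IsMinSimpleOddOrder G) (h04 : H1404 G)
    (h10 : H1410 G) {p : ℕ} [Fact p.Prime] (P : Sylow p G) (V : Subgroup G)
    (hV : Cfsg.IsComplIn (P : Subgroup G) V (Subgroup.normalizer ((P : Subgroup G) : Set G))) :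
    (P : Subgroup G) = ⁅(P : Subgroup G), V⁆ := by
  obtain ⟨-, hVN, -, hprod⟩ := hV
  have hDP : ⁅(P : Subgroup G), V⁆ ≤ (P : Subgroup G) := by
    rw [Subgroup.commutator_le]
    intro x hx b hb
    have h1 : b * x⁻¹ * b⁻¹ ∈ (P : Subgroup G) :=
      (Subgroup.mem_normalizer_iff.mp (hVN hb) _).mp (Subgroup.inv_mem _ hx)
    have h2 : ⁅x, b⁆ = x * (b * x⁻¹ * b⁻¹) := by rw [commutatorElement_def]; group
    rw [h2]; exact Subgroup.mul_mem _ hx h1
  have hPP : ⁅(P : Subgroup G), (P : Subgroup G)⁆ ≤ (P : Subgroup G) :=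
    Subgroup.commutator_le.mpr (fun a ha b hb =>
      Subgroup.mul_mem _ (Subgroup.mul_mem _ (Subgroup.mul_mem _ ha hb) (Subgroup.inv_mem _ ha))
        (Subgroup.inv_mem _ hb))
  -- P ≤ D ⊔ P'
  have hle : (P : Subgroup G) ≤ ⁅(P : Subgroup G), V⁆ ⊔ ⁅(P : Subgroup G), (P : Subgroup G)⁆ := by
    have h1 : (P : Subgroup G) = (P : Subgroup G).focalSubgroup := by
      rw [← Subgroup.commutator_inf_eq_focalSubgroup, commutator_eq_top hG, top_inf_eq]
    refine (le_of_eq h1).trans ?_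
    rw [Subgroup.focalSubgroup_def, Subgroup.closure_le]
    intro g hg
    obtain ⟨x, hx, y, hy, rfl⟩ := focal_gen hG h04 h10 P g hg
    obtain ⟨a, ha, b, hb, rfl⟩ := hprod y hy
    have hd : ⁅x, b⁆ ∈ ⁅(P : Subgroup G), V⁆ := Subgroup.commutator_mem_commutator hx hb
    have hdP : ⁅x, b⁆ ∈ (P : Subgroup G) := hDP hd
    have e : ⁅x, a * b⁆ = ⁅x, a⁆ * (⁅a, ⁅x, b⁆⁆ * ⁅x, b⁆) := by
      simp only [commutatorElement_def]; group
    rw [e]
    refine Subgroup.mul_mem _ (Subgroup.mem_sup_right (Subgroup.commutator_mem_commutator hx ha))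
      (Subgroup.mul_mem _ (Subgroup.mem_sup_right (Subgroup.commutator_mem_commutator ha hdP))
        (Subgroup.mem_sup_left hd))
  -- pass to the group P
  have hsub : (⁅(P : Subgroup G), V⁆ ⊔ ⁅(P : Subgroup G), (P : Subgroup G)⁆).subgroupOf
      (P : Subgroup G) = ⊤ := by
    rw [Subgroup.subgroupOf_eq_top]; exact hle
  rw [Subgroup.subgroupOf_sup hDP hPP] at hsub
  have hcomm : (⁅(P : Subgroup G), (P : Subgroup G)⁆).subgroupOf (P : Subgroup G) =
      _root_.commutator (P : Subgroup G) := by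
    rw [← Subgroup.map_subtype_commutator]
    exact Subgroup.comap_map_eq_self_of_injective (Subgroup.subtype_injective _) _
  rw [hcomm] at hsub
  have hfr : (⁅(P : Subgroup G), V⁆).subgroupOf (P : Subgroup G) ⊔ frattini (P : Subgroup G) = ⊤ := by
    rw [eq_top_iff, ← hsub]
    exact sup_le_sup_left
      (Cfsg.Agent.Lib.Helper1_Frattini.commutator_le_frattini_of_isPGroup P.isPGroup') _
  have htop := frattini_nongenerating hfr
  rw [Subgroup.subgroupOf_eq_top] at htop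
  exact le_antisymm htop hDP

end Fusion

theorem commutator_eq_center_of_card_cube {R : Type*} [Group R] [Finite R] {p : ℕ} [Fact p.Prime]
    (hcard : Nat.card R = p ^ 3) (hnc : ¬ ∀ a b : R, a * b = b * a) :
    _root_.commutator R = Subgroup.center R := by
  have hp : p.Prime := Fact.out
  have hR : IsPGroup p R := IsPGroup.of_card hcard
  have hRn : Nontrivial R := by
    rw [← Finite.one_lt_card_iff_nontrivial, hcard]
    exact Nat.one_lt_pow (by norm_num) hp.one_lt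
  have hZn : Nontrivial (Subgroup.center R) := hR.center_nontrivial
  have hZd : Nat.card (Subgroup.center R) ∣ p ^ 3 := by
    rw [← hcard]; exact Subgroup.card_subgroup_dvd_card _
  obtain ⟨k, hk3, hk⟩ := (Nat.dvd_prime_pow hp).mp hZd
  have hZ1 : 1 < Nat.card (Subgroup.center R) := Finite.one_lt_card
  have hidx : Nat.card (Subgroup.center R) * (Subgroup.center R).index = p ^ 3 := by
    rw [Subgroup.card_mul_index, hcard]
  have hk1 : k = 1 := by
    interval_cases k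
    · rw [hk] at hZ1; norm_num at hZ1
    · rfl
    · exfalso
      -- |R/Z| = p : cyclic
      have hq : Nat.card (R ⧸ Subgroup.center R) = p := by
        rw [← Subgroup.index_eq_card]
        rw [hk] at hidx
        have : p ^ 2 * (Subgroup.center R).index = p ^ 2 * p := by rw [hidx]; ring
        exact Nat.eq_of_mul_eq_mul_left (pow_pos hp.pos 2) this
      have hcyc : IsCyclic (R ⧸ Subgroup.center R) := isCyclic_of_prime_card hq
      apply hnc
      have := MonoidHom.isMulCommutative_of_isCyclic_of_ker_le_center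
        (QuotientGroup.mk' (Subgroup.center R)) (by rw [QuotientGroup.ker_mk'])
      exact fun a b => this.is_comm.comm a b
    · exfalso
      apply hnc
      have htop : Subgroup.center R = ⊤ := Subgroup.eq_top_of_card_eq _ (by rw [hk, hcard])
      intro a b
      have hb : b ∈ Subgroup.center R := by rw [htop]; trivial
      exact Subgroup.mem_center_iff.mp hb a
  rw [hk1, pow_one] at hk
  -- |R/Z| = p^2 : abelian
  have hq : Nat.card (R ⧸ Subgroup.center R) = p ^ 2 := by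
    rw [← Subgroup.index_eq_card]
    rw [hk] at hidx
    have : p * (Subgroup.center R).index = p * p ^ 2 := by rw [hidx]; ring
    exact Nat.eq_of_mul_eq_mul_left hp.pos this
  have hle : _root_.commutator R ≤ Subgroup.center R := by
    have hab : ∀ a b : R ⧸ Subgroup.center R, a * b = b * a := fun a b =>
      (IsPGroup.isMulCommutative_of_card_eq_prime_sq hq).is_comm.comm a b
    rw [commutator_eq_closure, Subgroup.closure_le]
    rintro _ ⟨a, b, rfl⟩
    rw [SetLike.mem_coe, ← QuotientGroup.eq_one_iff]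
    simp only [commutatorElement_def, QuotientGroup.mk_mul, QuotientGroup.mk_inv]
    rw [hab (a : R ⧸ Subgroup.center R) b]
    group
  have hne : _root_.commutator R ≠ ⊥ := by
    intro h
    apply hnc
    intro a b
    have h1 : ⁅a, b⁆ ∈ _root_.commutator R :=
      Subgroup.commutator_mem_commutator (Subgroup.mem_top a) (Subgroup.mem_top b)
    rw [h, Subgroup.mem_bot] at h1
    exact commutatorElement_eq_one_iff_mul_comm.mp h1
  apply Subgroup.eq_of_le_of_card_ge hle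
  rw [hk]
  have hd : Nat.card (_root_.commutator R) ∣ p := by
    rw [← hk]; exact Subgroup.card_dvd_of_le hle
  rcases (Nat.dvd_prime hp).mp hd with h | h
  · exact absurd (Subgroup.card_eq_one.mp h) hne
  · exact h.ge


end Cfsg.Agent.Lib.Helper70_BG107
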