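import Mathlib
import Cfsg.Prelude.Def_OddOrderLocal
import Cfsg.Agent.Lib.Helper32_PGroup
import Cfsg.Agent.Lib.Helper20_AutOmega
import Cfsg.Agent.Lib.Helper48_Generation
import Cfsg.Agent.Lib.Helper2_Coprime
import Cfsg.Agent.S0638

/-!
# Metacyclic `p`-groups and coprime automorphisms (helper2)

* `isMetacyclic_subgroup`, `isMetacyclic_quotient'`: subgroups and quotients of metacyclic groups.
* `exists_two_generators`: a metacyclic group is generated by two elements.
* `commutator_le_zpowers_pow`: in a metacyclic `p`-group the derived subgroup consists of `p`-th powers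
  of elements of a cyclic normal subgroup.
-/

set_option autoImplicit false

namespace Cfsg.Agent.Lib.Helper2_Metacyclic

open Cfsg Subgroup

open scoped commutatorElement

section basics

variable {R : Type*} [Group R]

/-- Subgroups of metacyclic groups are metacyclic. -/
theorem isMetacyclic_subgroup (h : IsMetacyclic R) (H : Subgroup R) : IsMetacyclic ↥H := by
  obtain ⟨N, hN, hNc, hQc⟩ := h
  refine ⟨N.subgroupOf H, hN.subgroupOf H, ?_, ?_⟩
  · let f : ↥(N.subgroupOf H) →* ↥N :=
      MonoidHom.codRestrict (H.subtype.comp (N.subgroupOf H).subtype) N (fun x => x.2)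
    have hf : Function.Injective f := by
      intro a b hab
      have h7 : ((a : ↥H) : R) = ((b : ↥H) : R) := congrArg (fun z : ↥N => (z : R)) hab
      exact Subtype.ext (Subtype.ext h7)
    exact isCyclic_of_injective f hf
  · have := hN.subgroupOf H
    let g : ↥H ⧸ N.subgroupOf H →* R ⧸ N :=
      QuotientGroup.map (N.subgroupOf H) N H.subtype (fun x hx => hx)
    have hg : Function.Injective g := by
      rw [injective_iff_map_eq_one]
      intro y hy
      induction y using QuotientGroup.induction_on with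
      | H x =>
        have h1 : ((x : R) : R ⧸ N) = 1 := hy
        rw [QuotientGroup.eq_one_iff] at h1 ⊢
        exact h1
    exact isCyclic_of_injective g hg

/-- Quotients of metacyclic groups are metacyclic. -/
theorem isMetacyclic_quotient' (h : IsMetacyclic R) (K : Subgroup R) [K.Normal] :
    IsMetacyclic (R ⧸ K) := by
  obtain ⟨N, hN, hNc, hQc⟩ := h
  have hs : Function.Surjective (QuotientGroup.mk' K) := QuotientGroup.mk'_surjective K
  have hNn : (N.map (QuotientGroup.mk' K)).Normal := hN.map _ hs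
  refine ⟨N.map (QuotientGroup.mk' K), hNn, ?_, ?_⟩
  · exact isCyclic_of_surjective ((QuotientGroup.mk' K).subgroupMap N)
      ((QuotientGroup.mk' K).subgroupMap_surjective N)
  · let g : R ⧸ N →* (R ⧸ K) ⧸ N.map (QuotientGroup.mk' K) :=
      QuotientGroup.map N (N.map (QuotientGroup.mk' K)) (QuotientGroup.mk' K)
        (Subgroup.le_comap_map _ _)
    have hg : Function.Surjective g := by
      intro y
      induction y using QuotientGroup.induction_on with
      | H y =>
        obtain ⟨x, rfl⟩ := hs y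
        exact ⟨(x : R ⧸ N), rfl⟩
    exact isCyclic_of_surjective g hg

/-- A metacyclic group is generated by two elements. -/
theorem exists_two_generators (h : IsMetacyclic R) : ∃ u v : R, closure {u, v} = ⊤ := by
  obtain ⟨N, hN, hNc, hQc⟩ := h
  obtain ⟨a, ha⟩ := hNc.exists_generator
  obtain ⟨bq, hbq⟩ := hQc.exists_generator
  obtain ⟨b, rfl⟩ := QuotientGroup.mk_surjective bq
  refine ⟨(a : R), b, ?_⟩
  rw [eq_top_iff]
  intro x _
  have hb : b ∈ closure {(a : R), b} := subset_closure (by simp)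
  have haa : (a : R) ∈ closure {(a : R), b} := subset_closure (by simp)
  obtain ⟨k, hk⟩ := Subgroup.mem_zpowers_iff.mp (hbq (x : R ⧸ N))
  have h1 : ((b ^ k : R) : R ⧸ N) = (x : R ⧸ N) := by
    rw [QuotientGroup.mk_zpow]; exact hk
  have h2 : (b ^ k)⁻¹ * x ∈ N := QuotientGroup.eq.mp h1
  obtain ⟨i, hi⟩ := Subgroup.mem_zpowers_iff.mp (ha ⟨_, h2⟩)
  have h3 : ((a : R) ^ i) = (b ^ k)⁻¹ * x := by
    have := congrArg Subtype.val hi
    simpa using this
  have h4 : x = b ^ k * (a : R) ^ i := by rw [h3]; group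
  rw [h4]
  exact Subgroup.mul_mem _ (Subgroup.zpow_mem _ hb k) (Subgroup.zpow_mem _ haa i)

/-- The derived subgroup of a metacyclic group lies in the cyclic normal subgroup. -/
theorem commutator_le_of_isCyclic_quotient (N : Subgroup R) [N.Normal] [hQ : IsCyclic (R ⧸ N)] :
    commutator R ≤ N := by
  apply Subgroup.Normal.quotient_commutative_iff_commutator_le.mp
  exact ⟨⟨fun x y => (IsCyclic.commGroup (α := R ⧸ N)).mul_comm x y⟩⟩

end basics

section powerful

variable {R : Type*} [Group R] [Finite R] {p : ℕ} [Fact p.Prime]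

/-- In a metacyclic `p`-group every element of the derived subgroup is the `p`-th power of an
element. -/
theorem commutator_le_pow (hR : IsPGroup p R) (h : IsMetacyclic R) :
    ∀ z ∈ commutator R, ∃ x : R, x ^ p = z := by
  have hpP : p.Prime := Fact.out
  obtain ⟨N, hN, hNc, hQc⟩ := h
  obtain ⟨a, ha⟩ := hNc.exists_generator
  -- the subgroup of `p`-th powers in `N`
  set K : Subgroup R := zpowers ((a : R) ^ p) with hK
  have hNK : ∀ x ∈ N, ∃ i : ℤ, x = (a : R) ^ i := by
    intro x hx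
    obtain ⟨i, hi⟩ := Subgroup.mem_zpowers_iff.mp (ha ⟨x, hx⟩)
    refine ⟨i, ?_⟩
    have := congrArg Subtype.val hi
    simpa using this.symm
  have hKn : K.Normal := by
    refine ⟨fun x hx g => ?_⟩
    obtain ⟨i, rfl⟩ := Subgroup.mem_zpowers_iff.mp hx
    have h1 : g * (a : R) * g⁻¹ ∈ N := hN.conj_mem _ a.2 g
    obtain ⟨j, hj⟩ := hNK _ h1
    have h2 : g * ((a : R) ^ p) ^ i * g⁻¹ = (((a : R) ^ p) ^ j) ^ i := by
      have h3 : g * ((a : R) ^ p) ^ i * g⁻¹ = ((g * (a : R) * g⁻¹) ^ p) ^ i := by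
        rw [conj_pow, conj_zpow]
      rw [h3, hj]
      simp only [← zpow_natCast, ← zpow_mul]
      congr 1
      ring
    rw [h2]
    exact Subgroup.zpow_mem _ (Subgroup.zpow_mem _ (Subgroup.mem_zpowers _) j) i
  suffices hcomm : commutator R ≤ K by
    intro z hz
    obtain ⟨i, rfl⟩ := Subgroup.mem_zpowers_iff.mp (hcomm hz)
    refine ⟨(a : R) ^ i, ?_⟩
    rw [← zpow_natCast, ← zpow_mul, mul_comm, zpow_mul, zpow_natCast]
  -- `R / K` is abelian
  apply Subgroup.Normal.quotient_commutative_iff_commutator_le.mp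
  set π := QuotientGroup.mk' K with hπ
  have hs : Function.Surjective π := QuotientGroup.mk'_surjective K
  have hRp : IsPGroup p (R ⧸ K) := hR.to_quotient K
  -- the image of `N` is central
  have hNbar : N.map π ≤ center (R ⧸ K) := by
    have hNbn : (N.map π).Normal := hN.map _ hs
    by_cases hbot : N.map π = ⊥
    · rw [hbot]; exact bot_le
    · obtain ⟨z, hzN, hzc, hz1⟩ :=
        Cfsg.Agent.Lib.Helper32_PGroup.exists_mem_center_of_normal hRp (N.map π) hbot
      -- `N.map π` is generated by the image of `a`, of order `p`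
      have hap : (π (a : R)) ^ p = 1 := by
        rw [← map_pow, hπ, QuotientGroup.mk'_apply, QuotientGroup.eq_one_iff]
        exact Subgroup.mem_zpowers _
      obtain ⟨x, hxN, rfl⟩ := hzN
      obtain ⟨i, rfl⟩ := hNK x hxN
      rw [map_zpow] at hzc hz1
      -- `π a` is a power of `(π a)^i`
      have hord : orderOf (π (a : R)) = p := by
        have h1 : orderOf (π (a : R)) ∣ p := orderOf_dvd_of_pow_eq_one hap
        rcases (Nat.dvd_prime hpP).mp h1 with h | h
        · exfalso
          rw [orderOf_eq_one_iff] at h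
          rw [h, one_zpow] at hz1
          exact hz1 rfl
        · exact h
      have hcop : IsCoprime i (p : ℤ) := by
        rw [Int.isCoprime_iff_gcd_eq_one]
        by_contra hne
        have hdvd : (p : ℤ) ∣ i := by
          have h1 : (Int.gcd i p : ℤ) ∣ p := Int.gcd_dvd_right i p
          have h2 : Int.gcd i p ∣ p := by exact_mod_cast h1
          rcases (Nat.dvd_prime hpP).mp h2 with h | h
          · exact absurd h hne
          · rw [← h]; exact Int.gcd_dvd_left i p
        obtain ⟨c, rfl⟩ := hdvd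
        rw [zpow_mul, zpow_natCast, hap, one_zpow] at hz1
        exact hz1 rfl
      obtain ⟨s, t, hst⟩ := hcop
      have hgen : π (a : R) = ((π (a : R)) ^ i) ^ s := by
        have h1 : (π (a : R)) ^ (s * i + t * (p : ℤ)) = π (a : R) := by rw [hst, zpow_one]
        rw [zpow_add, zpow_mul' _ t, zpow_natCast, hap, one_zpow, mul_one, mul_comm s i,
          zpow_mul] at h1
        exact h1.symm
      have hac : π (a : R) ∈ center (R ⧸ K) := by
        rw [hgen]
        exact Subgroup.zpow_mem _ hzc s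
      rintro _ ⟨y, hyN, rfl⟩
      obtain ⟨j, rfl⟩ := hNK y hyN
      rw [map_zpow]
      exact Subgroup.zpow_mem _ hac j
  -- cyclic quotient modulo a central subgroup
  let g : R ⧸ K →* R ⧸ N := QuotientGroup.map K N (MonoidHom.id R) (by
    intro x hx
    obtain ⟨i, rfl⟩ := Subgroup.mem_zpowers_iff.mp hx
    exact Subgroup.zpow_mem _ (Subgroup.pow_mem _ a.2 p) i)
  have hgker : g.ker ≤ center (R ⧸ K) := by
    intro y hy
    induction y using QuotientGroup.induction_on with
    | H x =>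
      have h1 : ((x : R) : R ⧸ N) = 1 := hy
      rw [QuotientGroup.eq_one_iff] at h1
      exact hNbar ⟨x, h1, rfl⟩
  exact g.isMulCommutative_of_isCyclic_of_ker_le_center hgker

end powerful

/-! ### Groups with derived subgroup of order `p` -/

/-- `z₀` is a central element of order `p` generating the derived subgroup of `Q`. -/
structure CTD (p : ℕ) (Q : Type*) [Group Q] (z₀ : Q) : Prop where
  ne_one : z₀ ≠ 1
  pow_eq : z₀ ^ p = 1
  comm_eq : commutator Q = zpowers z₀
  central : z₀ ∈ center Q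

namespace CTD

variable {p : ℕ} {Q : Type*} [Group Q] {z₀ : Q} (h : CTD p Q z₀)

include h

theorem comm_mem (x y : Q) : ⁅x, y⁆ ∈ zpowers z₀ := by
  rw [← h.comm_eq, commutator_def]
  exact commutator_mem_commutator (mem_top x) (mem_top y)

theorem comm_central (x y : Q) : ⁅x, y⁆ ∈ center Q := by
  obtain ⟨i, hi⟩ := mem_zpowers_iff.mp (h.comm_mem x y)
  rw [← hi]
  exact Subgroup.zpow_mem _ h.central i

theorem zpowers_pow {c : Q} (hc : c ∈ zpowers z₀) : c ^ p = 1 := by
  obtain ⟨i, hi⟩ := mem_zpowers_iff.mp hc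
  rw [← hi, ← zpow_natCast, ← zpow_mul, mul_comm, zpow_mul, zpow_natCast, h.pow_eq, one_zpow]

theorem comm_pow (x y : Q) : ⁅x, y⁆ ^ p = 1 := h.zpowers_pow (h.comm_mem x y)

theorem comm_mul_left (x y w : Q) : ⁅x * y, w⁆ = ⁅x, w⁆ * ⁅y, w⁆ := by
  have hc := mem_center_iff.mp (h.comm_central y w)
  have h1 : ⁅x * y, w⁆ = x * ⁅y, w⁆ * x⁻¹ * ⁅x, w⁆ := by
    simp only [commutatorElement_def]; group
  rw [h1, hc x, mul_inv_cancel_right]
  exact (mem_center_iff.mp (h.comm_central y w) _).symm

theorem comm_mul_right (x y w : Q) : ⁅x, y * w⁆ = ⁅x, y⁆ * ⁅x, w⁆ := by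
  rw [← commutatorElement_inv (y * w) x, h.comm_mul_left, mul_inv_rev, commutatorElement_inv,
    commutatorElement_inv]
  exact mem_center_iff.mp (h.comm_central x y) _

theorem comm_inv_left (x w : Q) : ⁅x⁻¹, w⁆ = ⁅x, w⁆⁻¹ := by
  have h1 := h.comm_mul_left x⁻¹ x w
  rw [inv_mul_cancel, commutatorElement_one_left] at h1
  exact eq_inv_of_mul_eq_one_left h1.symm

theorem comm_inv_right (x w : Q) : ⁅x, w⁻¹⁆ = ⁅x, w⁆⁻¹ := by
  have h1 := h.comm_mul_right x w⁻¹ w
  rw [inv_mul_cancel, commutatorElement_one_right] at h1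
  exact eq_inv_of_mul_eq_one_left h1.symm

theorem comm_pow_left (x w : Q) (n : ℕ) : ⁅x ^ n, w⁆ = ⁅x, w⁆ ^ n := by
  induction n with
  | zero => simp
  | succ n ih => rw [pow_succ, h.comm_mul_left, ih, pow_succ]

theorem comm_pow_right (x w : Q) (n : ℕ) : ⁅x, w ^ n⁆ = ⁅x, w⁆ ^ n := by
  induction n with
  | zero => simp
  | succ n ih => rw [pow_succ, h.comm_mul_right, ih, pow_succ]

theorem comm_zpow_left (x w : Q) (n : ℤ) : ⁅x ^ n, w⁆ = ⁅x, w⁆ ^ n := by
  cases n with
  | ofNat n => simp only [Int.ofNat_eq_natCast, zpow_natCast]; exact h.comm_pow_left x w n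
  | negSucc n =>
    rw [zpow_negSucc, zpow_negSucc, h.comm_inv_left, h.comm_pow_left]

theorem comm_zpow_right (x w : Q) (n : ℤ) : ⁅x, w ^ n⁆ = ⁅x, w⁆ ^ n := by
  cases n with
  | ofNat n => simp only [Int.ofNat_eq_natCast, zpow_natCast]; exact h.comm_pow_right x w n
  | negSucc n =>
    rw [zpow_negSucc, zpow_negSucc, h.comm_inv_right, h.comm_pow_right]

omit h in
theorem comm_central_left {c : Q} (hc : c ∈ center Q) (w : Q) : ⁅c, w⁆ = 1 := by
  rw [commutatorElement_eq_one_iff_commute]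
  exact (mem_center_iff.mp hc w).symm

omit h in
theorem comm_central_right {c : Q} (hc : c ∈ center Q) (w : Q) : ⁅w, c⁆ = 1 := by
  rw [commutatorElement_eq_one_iff_commute]
  exact (mem_center_iff.mp hc w)

theorem comm_mul_central_left {c : Q} (hc : c ∈ center Q) (x w : Q) : ⁅x * c, w⁆ = ⁅x, w⁆ := by
  rw [h.comm_mul_left, comm_central_left hc, mul_one]

theorem comm_mul_central_right {c : Q} (hc : c ∈ center Q) (x w : Q) : ⁅x, w * c⁆ = ⁅x, w⁆ := by
  rw [h.comm_mul_right, comm_central_right hc, mul_one]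

theorem pow_mem_center (x : Q) : x ^ p ∈ center Q := by
  rw [mem_center_iff]
  intro g
  have h1 : ⁅x ^ p, g⁆ = 1 := by rw [h.comm_pow_left, h.comm_pow]
  rw [commutatorElement_eq_one_iff_commute] at h1
  exact h1.eq.symm

theorem mul_pow_p (hpP : p.Prime) (hp2 : p ≠ 2) (x y : Q) : (x * y) ^ p = x ^ p * y ^ p := by
  apply Cfsg.Agent.Lib.Helper20_AutOmega.mul_pow_of_central hpP hp2 _ h.pow_mem_center
  intro x y
  have := h.comm_central x y
  rwa [commutatorElement_def] at this

theorem mul_ppow (hpP : p.Prime) (hp2 : p ≠ 2) (k : ℕ) (x y : Q) :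
    (x * y) ^ p ^ k = x ^ p ^ k * y ^ p ^ k := by
  induction k with
  | zero => simp
  | succ k ih => rw [pow_succ, pow_mul, ih, h.mul_pow_p hpP hp2, ← pow_mul, ← pow_mul]

/-- the `p ^ k`-th power endomorphism -/
def powHom (hpP : p.Prime) (hp2 : p ≠ 2) (k : ℕ) : Q →* Q where
  toFun x := x ^ p ^ k
  map_one' := one_pow _
  map_mul' := h.mul_ppow hpP hp2 k

theorem powHom_apply (hpP : p.Prime) (hp2 : p ≠ 2) (k : ℕ) (x : Q) :
    h.powHom hpP hp2 k x = x ^ p ^ k := rfl

/-- automorphisms act on `⟨z₀⟩` by a power prime to `p` -/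
theorem exists_aut_pow (hpP : p.Prime) (α : Q ≃* Q) :
    ∃ j : ℕ, ¬ p ∣ j ∧ ∀ c ∈ zpowers z₀, α c = c ^ j := by
  have h1 : α z₀ ∈ commutator Q := by
    have hchar : (commutator Q).Characteristic := inferInstance
    have h2 := Subgroup.characteristic_iff_map_eq.mp hchar α
    rw [← h2]
    refine ⟨z₀, ?_, rfl⟩
    rw [h.comm_eq]
    exact mem_zpowers z₀
  rw [h.comm_eq] at h1
  obtain ⟨i, hi⟩ := mem_zpowers_iff.mp h1
  have hord : orderOf z₀ ≠ 0 := by
    intro h0
    have := orderOf_dvd_of_pow_eq_one h.pow_eq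
    rw [h0] at this
    exact hpP.ne_zero (zero_dvd_iff.mp this)
  obtain ⟨j, hj⟩ : ∃ j : ℕ, z₀ ^ j = α z₀ := by
    refine ⟨(i % (orderOf z₀ : ℤ)).toNat, ?_⟩
    rw [← zpow_natCast, Int.toNat_of_nonneg (Int.emod_nonneg _ (by exact_mod_cast hord)),
      zpow_mod_orderOf, hi]
  refine ⟨j, ?_, ?_⟩
  · intro hpj
    obtain ⟨c, rfl⟩ := hpj
    rw [pow_mul, h.pow_eq, one_pow] at hj
    have : α z₀ = α 1 := by rw [map_one]; exact hj.symm
    exact h.ne_one (α.injective this)
  · intro c hc
    obtain ⟨i, rfl⟩ := mem_zpowers_iff.mp hc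
    rw [map_zpow, ← hj, ← zpow_natCast, ← zpow_natCast, ← zpow_mul, ← zpow_mul, mul_comm]

/-- cancelling a power prime to `p` -/
theorem eq_one_of_pow_eq_one (hpP : p.Prime) {c : Q} (hc : c ∈ zpowers z₀) {j : ℕ} (hj : ¬ p ∣ j)
    (hcj : c ^ j = 1) : c = 1 := by
  have h1 : orderOf c ∣ p := orderOf_dvd_of_pow_eq_one (h.zpowers_pow hc)
  have h2 : orderOf c ∣ j := orderOf_dvd_of_pow_eq_one hcj
  rcases (Nat.dvd_prime hpP).mp h1 with h3 | h3
  · exact orderOf_eq_one_iff.mp h3
  · exact absurd (h3 ▸ h2) hj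

/-- the homomorphism `x ↦ [x, g]` -/
def commHom (g : Q) : Q →* ↥(zpowers z₀) where
  toFun x := ⟨⁅x, g⁆, h.comm_mem x g⟩
  map_one' := Subtype.ext (commutatorElement_one_left g)
  map_mul' x y := Subtype.ext (h.comm_mul_left x y g)

theorem commHom_ker (g : Q) : (h.commHom g).ker = centralizer {g} := by
  ext x
  rw [MonoidHom.mem_ker, mem_centralizer_singleton_iff]
  constructor
  · intro hx
    have h1 : ⁅x, g⁆ = 1 := congrArg Subtype.val hx
    rw [commutatorElement_eq_one_iff_commute] at h1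
    exact h1.eq
  · intro hx
    apply Subtype.ext
    show ⁅x, g⁆ = 1
    rw [commutatorElement_eq_one_iff_commute]
    exact hx

theorem orderOf_z₀ (hpP : p.Prime) : orderOf z₀ = p := by
  have h1 : orderOf z₀ ∣ p := orderOf_dvd_of_pow_eq_one h.pow_eq
  rcases (Nat.dvd_prime hpP).mp h1 with h2 | h2
  · exact absurd (orderOf_eq_one_iff.mp h2) h.ne_one
  · exact h2

theorem index_centralizer_dvd (hpP : p.Prime) (g : Q) : (centralizer ({g} : Set Q)).index ∣ p := by
  rw [← h.commHom_ker g, Subgroup.index_ker]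
  have h1 : Nat.card ↥(h.commHom g).range ∣ Nat.card ↥(zpowers z₀) :=
    Subgroup.card_subgroup_dvd_card _
  rwa [Nat.card_zpowers, h.orderOf_z₀ hpP] at h1

theorem index_centralizer (hpP : p.Prime) {g : Q} (hg : g ∉ center Q) :
    (centralizer ({g} : Set Q)).index = p := by
  rcases (Nat.dvd_prime hpP).mp (h.index_centralizer_dvd hpP g) with h1 | h1
  · exfalso
    apply hg
    rw [Subgroup.index_eq_one] at h1
    rw [mem_center_iff]
    intro x
    have : x ∈ centralizer ({g} : Set Q) := by rw [h1]; exact mem_top x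
    exact mem_centralizer_singleton_iff.mp this
  · exact h1

end CTD

/-- intermediate subgroups of a pair of prime relative index -/
theorem eq_or_eq_of_relIndex_prime {G : Type*} [Group G] {H X K : Subgroup G} {p : ℕ}
    (hpP : p.Prime) (hHX : H ≤ X) (hXK : X ≤ K) (hrel : H.relIndex K = p) : X = H ∨ X = K := by
  have h1 := Subgroup.relIndex_mul_relIndex H X K hHX hXK
  rw [hrel] at h1
  have h2 : H.relIndex X ∣ p := ⟨_, h1.symm⟩
  rcases (Nat.dvd_prime hpP).mp h2 with h3 | h3
  · left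
    exact le_antisymm (Subgroup.relIndex_eq_one.mp h3) hHX
  · right
    rw [h3] at h1
    have h4 : X.relIndex K = 1 := by
      have := hpP.pos
      nlinarith [Nat.eq_of_mul_eq_mul_left this (h1.trans (mul_one p).symm)]
    exact le_antisymm hXK (Subgroup.relIndex_eq_one.mp h4)

namespace CTD

variable {p : ℕ} {Q : Type*} [Group Q] [Finite Q] {z₀ : Q} (h : CTD p Q z₀)

include h

/-- the index of the centre -/
theorem relIndex_center_centralizer (hpP : p.Prime) (hQ : IsPGroup p Q) {u v : Q}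
    (huv : closure {u, v} = ⊤) {g : Q} (hg : g ∉ center Q) :
    (center Q).relIndex (centralizer ({g} : Set Q)) = p := by
  have : Fact p.Prime := ⟨hpP⟩
  have hZ : center Q = centralizer ({u} : Set Q) ⊓ centralizer ({v} : Set Q) := by
    apply le_antisymm (le_inf (Subgroup.center_le_centralizer _) (Subgroup.center_le_centralizer _))
    intro x hx
    have hxu : x ∈ centralizer ({u} : Set Q) := (Subgroup.mem_inf.mp hx).1
    have hxv : x ∈ centralizer ({v} : Set Q) := (Subgroup.mem_inf.mp hx).2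
    rw [mem_centralizer_singleton_iff] at hxu hxv
    have h1 : closure {u, v} ≤ centralizer ({x} : Set Q) := by
      rw [Subgroup.closure_le]
      intro w hw
      rcases hw with rfl | rfl
      · exact mem_centralizer_singleton_iff.mpr hxu.symm
      · exact mem_centralizer_singleton_iff.mpr hxv.symm
    rw [huv] at h1
    rw [mem_center_iff]
    intro w
    exact mem_centralizer_singleton_iff.mp (h1 (mem_top w))
  have hZidx : (center Q).index ≤ p * p := by
    rw [hZ]
    refine le_trans Subgroup.index_inf_le ?_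
    exact Nat.mul_le_mul (Nat.le_of_dvd hpP.pos (h.index_centralizer_dvd hpP u))
      (Nat.le_of_dvd hpP.pos (h.index_centralizer_dvd hpP v))
  have hle : center Q ≤ centralizer ({g} : Set Q) := Subgroup.center_le_centralizer _
  have h1 := Subgroup.relIndex_mul_index hle
  rw [h.index_centralizer hpP hg] at h1
  have h2 : (center Q).relIndex (centralizer ({g} : Set Q)) ≤ p := by
    have : (center Q).relIndex (centralizer ({g} : Set Q)) * p ≤ p * p := h1 ▸ hZidx
    exact Nat.le_of_mul_le_mul_right this hpP.pos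
  have h3 : (center Q).relIndex (centralizer ({g} : Set Q)) ≠ 1 := by
    intro h4
    apply hg
    apply Subgroup.relIndex_eq_one.mp h4
    exact mem_centralizer_singleton_iff.mpr rfl
  -- the relative index is a power of `p`
  obtain ⟨n, hn⟩ := IsPGroup.iff_card.mp hQ
  have h5 : (center Q).relIndex (centralizer ({g} : Set Q)) ∣ p ^ n := by
    rw [← hn]
    exact (Subgroup.relIndex_dvd_card _ _).trans (Subgroup.card_subgroup_dvd_card _)
  obtain ⟨m, _, hm⟩ := (Nat.dvd_prime_pow hpP).mp h5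
  rw [hm] at h2 h3 ⊢
  rcases Nat.lt_or_ge m 2 with hlt | hge
  · interval_cases m
    · exact absurd (pow_zero p) h3
    · exact pow_one p
  · exfalso
    have : p ^ 2 ≤ p ^ m := Nat.pow_le_pow_right hpP.pos hge
    have hp1 := hpP.one_lt
    nlinarith

end CTD

/-- commutative group structure on a quotient by a subgroup containing the derived subgroup -/
@[reducible] def quotCommGroup {Q : Type*} [Group Q] (N : Subgroup Q) [N.Normal]
    (hN : commutator Q ≤ N) : CommGroup (Q ⧸ N) :=
  { (inferInstance : Group (Q ⧸ N)) with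
    mul_comm := (Subgroup.Normal.quotient_commutative_iff_commutator_le.mpr hN).is_comm.comm }

namespace CTD

variable {p : ℕ} {Q : Type*} [Group Q] [Finite Q] {z₀ : Q} (h : CTD p Q z₀)

include h

omit [Finite Q] in
theorem comm_ne_one_of_generators {u v : Q} (huv : closure {u, v} = ⊤) : ⁅u, v⁆ ≠ 1 := by
  intro h1
  rw [commutatorElement_eq_one_iff_commute] at h1
  have hu : closure {u, v} ≤ centralizer ({u} : Set Q) := by
    rw [Subgroup.closure_le]
    intro w hw
    rcases hw with rfl | rfl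
    · exact mem_centralizer_singleton_iff.mpr rfl
    · exact mem_centralizer_singleton_iff.mpr h1.eq.symm
  have hv : closure {u, v} ≤ centralizer ({v} : Set Q) := by
    rw [Subgroup.closure_le]
    intro w hw
    rcases hw with rfl | rfl
    · exact mem_centralizer_singleton_iff.mpr h1.eq
    · exact mem_centralizer_singleton_iff.mpr rfl
  rw [huv] at hu hv
  have hc : closure {u, v} ≤ center Q := by
    rw [Subgroup.closure_le]
    intro w hw
    rw [SetLike.mem_coe, mem_center_iff]
    intro x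
    rcases hw with rfl | rfl
    · exact (mem_centralizer_singleton_iff.mp (hu (mem_top x)))
    · exact (mem_centralizer_singleton_iff.mp (hv (mem_top x)))
  rw [huv] at hc
  apply h.ne_one
  have h2 : commutator Q ≤ ⊥ := by
    rw [commutator_def, Subgroup.commutator_le]
    intro x _ y _
    rw [Subgroup.mem_bot, commutatorElement_eq_one_iff_commute]
    exact (mem_center_iff.mp (hc (mem_top y)) x)
  have h3 : z₀ ∈ commutator Q := by rw [h.comm_eq]; exact mem_zpowers z₀
  exact (Subgroup.mem_bot).mp (h2 h3)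

omit [Finite Q] in
/-- central elements are `p`-th powers modulo `⟨z₀⟩` -/
theorem center_le (hpP : p.Prime) (hp2 : p ≠ 2) {u v : Q} (huv : closure {u, v} = ⊤) :
    ∀ c ∈ center Q, ∃ x : Q, ∃ d ∈ zpowers z₀, c = x ^ p * d := by
  have hDn : (zpowers z₀).Normal :=
    Cfsg.Agent.Lib.Helper32_PGroup.normal_of_le_center _ (zpowers_le.mpr h.central)
  set Φ : Subgroup Q := (h.powHom hpP hp2 1).range ⊔ zpowers z₀ with hΦ
  have hΦc : Φ ≤ center Q := by
    refine sup_le ?_ (zpowers_le.mpr h.central)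
    rintro _ ⟨x, rfl⟩
    rw [powHom_apply, pow_one]
    exact h.pow_mem_center x
  have hΦn : Φ.Normal := Cfsg.Agent.Lib.Helper32_PGroup.normal_of_le_center _ hΦc
  have hDΦ : commutator Q ≤ Φ := by
    rw [h.comm_eq]
    exact le_sup_right
  have hΦmem : ∀ w ∈ Φ, ∃ s : Q, ∃ d ∈ zpowers z₀, w = s ^ p * d := by
    intro w hw
    rw [hΦ, Subgroup.mem_sup_of_normal_right] at hw
    obtain ⟨y, ⟨s, rfl⟩, d, hd, rfl⟩ := hw
    exact ⟨s, d, hd, by rw [powHom_apply, pow_one]⟩
  -- normal form
  have NF : ∀ g : Q, ∃ i j : ℤ, ∃ w ∈ Φ, g = u ^ i * v ^ j * w := by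
    intro g
    let _ : CommGroup (Q ⧸ Φ) := quotCommGroup Φ hDΦ
    have hs : Function.Surjective (QuotientGroup.mk' Φ) := QuotientGroup.mk'_surjective Φ
    have h1 : closure {QuotientGroup.mk' Φ u, QuotientGroup.mk' Φ v} = ⊤ := by
      have h2 : (closure {u, v}).map (QuotientGroup.mk' Φ) = ⊤ := by
        rw [huv, ← MonoidHom.range_eq_map, MonoidHom.range_eq_top.mpr hs]
      rw [MonoidHom.map_closure, Set.image_pair] at h2
      exact h2
    have h3 : QuotientGroup.mk' Φ g ∈ closure {QuotientGroup.mk' Φ u, QuotientGroup.mk' Φ v} := by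
      rw [h1]; exact mem_top _
    obtain ⟨m, n, hmn⟩ := Subgroup.mem_closure_pair.mp h3
    rw [← map_zpow, ← map_zpow, ← map_mul] at hmn
    have h4 : (u ^ m * v ^ n)⁻¹ * g ∈ Φ := by
      have := QuotientGroup.eq.mp hmn
      exact this
    exact ⟨m, n, _, h4, by group⟩
  have hord : orderOf ⁅u, v⁆ = p := by
    have h1 : orderOf ⁅u, v⁆ ∣ p := orderOf_dvd_of_pow_eq_one (h.comm_pow u v)
    rcases (Nat.dvd_prime hpP).mp h1 with h2 | h2
    · exact absurd (orderOf_eq_one_iff.mp h2) (h.comm_ne_one_of_generators huv)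
    · exact h2
  intro c hc
  obtain ⟨i, j, w, hw, hcw⟩ := NF c
  have hcen : u ^ i * v ^ j ∈ center Q := by
    have : u ^ i * v ^ j = c * w⁻¹ := by rw [hcw]; group
    rw [this]
    exact Subgroup.mul_mem _ hc (Subgroup.inv_mem _ (hΦc hw))
  have hi : (p : ℤ) ∣ i := by
    have h1 : ⁅u ^ i * v ^ j, v⁆ = 1 := comm_central_left hcen v
    rw [h.comm_mul_left, h.comm_zpow_left, h.comm_zpow_left, commutatorElement_self, one_zpow,
      mul_one] at h1
    have := orderOf_dvd_iff_zpow_eq_one.mpr h1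
    rwa [hord] at this
  have hj : (p : ℤ) ∣ j := by
    have h1 : ⁅u, u ^ i * v ^ j⁆ = 1 := comm_central_right hcen u
    rw [h.comm_mul_right, h.comm_zpow_right, h.comm_zpow_right, commutatorElement_self, one_zpow,
      one_mul] at h1
    have := orderOf_dvd_iff_zpow_eq_one.mpr h1
    rwa [hord] at this
  obtain ⟨i', rfl⟩ := hi
  obtain ⟨j', rfl⟩ := hj
  obtain ⟨s, d, hd, rfl⟩ := hΦmem w hw
  refine ⟨u ^ i' * v ^ j' * s, d, hd, ?_⟩
  rw [hcw, h.mul_pow_p hpP hp2, h.mul_pow_p hpP hp2, ← zpow_natCast (u ^ i'), ← zpow_natCast (v ^ j'),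
    ← zpow_mul, ← zpow_mul, mul_comm i', mul_comm j']
  simp only [mul_assoc]

/-- **Key lemma.** A `2`-generated `p`-group (`p` odd) whose derived subgroup has order `p` and
consists of `p`-th powers admits no coprime group of automorphisms `Γ` with `[Q, Γ] = Q`. -/
theorem false_of_fixedPointFree (hpP : p.Prime) (hp2 : p ≠ 2) (hQ : IsPGroup p Q)
    {Γ : Type*} [Group Γ] [Finite Γ] (hcop : (Nat.card Γ).Coprime p) (ρ : Γ →* MulAut Q)
    {u v : Q} (huv : closure {u, v} = ⊤) (hpow : ∃ x : Q, x ^ p = z₀)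
    (hfix : closure {x : Q | ∃ (γ : Γ) (g : Q), x = ρ γ g * g⁻¹} = ⊤) : False := by
  have : Fact p.Prime := ⟨hpP⟩
  obtain ⟨e, he⟩ := IsPGroup.iff_card.mp hQ
  have hexp : ∀ x : Q, x ^ p ^ e = 1 := fun x => by rw [← he]; exact pow_card_eq_one'
  -- the height of `z₀`
  have hex : ∃ k, ∀ x : Q, x ^ p ^ (k + 1) ≠ z₀ :=
    ⟨e, fun x hx => h.ne_one (by rw [← hx, pow_succ, pow_mul, hexp, one_pow])⟩
  classical
  set k := Nat.find hex with hk
  have hkspec : ∀ x : Q, x ^ p ^ (k + 1) ≠ z₀ := Nat.find_spec hex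
  have hk0 : k ≠ 0 := by
    intro h0
    obtain ⟨x, hx⟩ := hpow
    apply hkspec x
    rw [h0, zero_add, pow_one]
    exact hx
  obtain ⟨y, hy⟩ : ∃ y : Q, y ^ p ^ k = z₀ := by
    have h1 := Nat.find_min hex (m := k - 1) (by omega)
    obtain ⟨y, hy'⟩ := not_forall.mp h1
    have hy := not_not.mp hy'
    refine ⟨y, ?_⟩
    rwa [Nat.sub_add_cancel (by omega)] at hy
  set π := h.powHom hpP hp2 k with hπ
  set T := π.ker with hT
  have hTmem : ∀ t, t ∈ T ↔ t ^ p ^ k = 1 := fun t => by
    rw [hT, MonoidHom.mem_ker, hπ, powHom_apply]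
  -- `y ∉ Z T`
  have hyZT : y ∉ center Q ⊔ T := by
    intro hy'
    rw [Subgroup.mem_sup_of_normal_left] at hy'
    obtain ⟨c, hc, t, ht, rfl⟩ := hy'
    obtain ⟨x, d, hd, rfl⟩ := h.center_le hpP hp2 huv c hc
    have hdk : d ^ p ^ k = 1 := by
      obtain ⟨k', hk'⟩ := Nat.exists_eq_succ_of_ne_zero hk0
      rw [hk', pow_succ', pow_mul, h.zpowers_pow hd, one_pow]
    have h1 : (x ^ p * d * t) ^ p ^ k = x ^ p ^ (k + 1) := by
      rw [h.mul_ppow hpP hp2, h.mul_ppow hpP hp2, (hTmem t).mp ht, mul_one, hdk, mul_one, ← pow_mul,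
        ← pow_succ']
    exact hkspec x (h1 ▸ hy)
  -- the action on `y`
  have hact : ∀ γ : Γ, ∃ j : ℕ, ¬ p ∣ j ∧ (∀ c ∈ zpowers z₀, ρ γ c = c ^ j) ∧
      ∃ t ∈ T, ρ γ y = y ^ j * t := by
    intro γ
    obtain ⟨j, hj, hjc⟩ := h.exists_aut_pow hpP (ρ γ)
    refine ⟨j, hj, hjc, (y ^ j)⁻¹ * ρ γ y, ?_, by group⟩
    rw [hTmem, h.mul_ppow hpP hp2, inv_pow, ← pow_mul, mul_comm j, pow_mul, hy, ← map_pow, hy,
      hjc z₀ (mem_zpowers _)]
    exact inv_mul_cancel _
  have hTinv : ∀ γ : Γ, ∀ t ∈ T, ρ γ t ∈ T := by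
    intro γ t ht
    rw [hTmem] at ht ⊢
    rw [← map_pow, ht, map_one]
  -- cancellation
  have hcancel : ∀ (a b : Q) (j : ℕ), ¬ p ∣ j → a ∈ zpowers z₀ → b ∈ zpowers z₀ → a ^ j = b ^ j →
      a * b⁻¹ = 1 := by
    intro a b j hj ha hb hab
    have hbc : b ∈ center Q := zpowers_le.mpr h.central hb
    have hcb : Commute a b := mem_center_iff.mp hbc a
    have hcomm : Commute a b⁻¹ := hcb.inv_right
    apply h.eq_one_of_pow_eq_one hpP (Subgroup.mul_mem _ ha (Subgroup.inv_mem _ hb)) hj
    rw [hcomm.mul_pow, inv_pow, hab, mul_inv_cancel]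
  by_cases hTZ : T ≤ center Q
  · -- first case
    have hle : closure {x : Q | ∃ (γ : Γ) (g : Q), x = ρ γ g * g⁻¹} ≤
        centralizer ({y} : Set Q) := by
      rw [closure_le]
      rintro _ ⟨γ, g, rfl⟩
      obtain ⟨j, hj, hjc, t, ht, hyt⟩ := hact γ
      rw [SetLike.mem_coe, mem_centralizer_singleton_iff]
      have h1 : ρ γ ⁅y, g⁆ = ⁅y, g⁆ ^ j := hjc _ (h.comm_mem y g)
      have h2 : ρ γ ⁅y, g⁆ = ⁅y, ρ γ g⁆ ^ j := by
        rw [map_commutatorElement, hyt, h.comm_mul_central_left (hTZ ht), h.comm_pow_left]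
      have h4 : ⁅y, ρ γ g⁆ * ⁅y, g⁆⁻¹ = 1 :=
        hcancel _ _ j hj (h.comm_mem _ _) (h.comm_mem _ _) (by rw [← h2, h1])
      have h5 : ⁅y, ρ γ g * g⁻¹⁆ = 1 := by
        rw [h.comm_mul_right, h.comm_inv_right]
        exact h4
      rw [commutatorElement_eq_one_iff_commute] at h5
      exact h5.eq.symm
    rw [hfix] at hle
    apply hyZT
    apply (le_sup_left : center Q ≤ center Q ⊔ T)
    rw [mem_center_iff]
    intro x
    exact mem_centralizer_singleton_iff.mp (hle (mem_top x))
  · -- second case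
    obtain ⟨m, hmT, hmZ⟩ := SetLike.not_le_iff_exists.mp hTZ
    have hrel : ∀ g : Q, g ∉ center Q → (center Q).relIndex (centralizer ({g} : Set Q)) = p :=
      fun g hg => h.relIndex_center_centralizer hpP hQ huv hg
    have hcent : ∀ m' ∈ T, m' ∉ center Q →
        centralizer ({m'} : Set Q) ≤ center Q ⊔ T ∧ T ≤ centralizer ({m'} : Set Q) := by
      intro m' hm'T hm'Z
      have h1 : center Q ⊔ zpowers m' = centralizer ({m'} : Set Q) := by
        have hle : center Q ⊔ zpowers m' ≤ centralizer ({m'} : Set Q) :=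
          sup_le (Subgroup.center_le_centralizer _)
            (zpowers_le.mpr (mem_centralizer_singleton_iff.mpr rfl))
        rcases eq_or_eq_of_relIndex_prime hpP le_sup_left hle (hrel m' hm'Z) with h2 | h2
        · exfalso
          apply hm'Z
          rw [← h2]
          exact (le_sup_right : zpowers m' ≤ center Q ⊔ zpowers m') (mem_zpowers m')
        · exact h2
      have h2 : centralizer ({m'} : Set Q) ≤ center Q ⊔ T := by
        rw [← h1]
        exact sup_le_sup_left (zpowers_le.mpr hm'T) _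
      refine ⟨h2, ?_⟩
      intro t ht
      by_contra htC
      have hidx : (centralizer ({m'} : Set Q)).relIndex ⊤ = p := by
        rw [Subgroup.relIndex_top_right]
        exact h.index_centralizer hpP hm'Z
      rcases eq_or_eq_of_relIndex_prime hpP
        (le_sup_left : centralizer ({m'} : Set Q) ≤ centralizer ({m'} : Set Q) ⊔ zpowers t)
        le_top hidx with h3 | h3
      · apply htC
        rw [← h3]
        exact (le_sup_right : zpowers t ≤ centralizer ({m'} : Set Q) ⊔ zpowers t) (mem_zpowers t)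
      · apply hyZT
        have h4 : (⊤ : Subgroup Q) ≤ center Q ⊔ T := by
          rw [← h3]
          exact sup_le h2 ((zpowers_le.mpr ht).trans le_sup_right)
        exact h4 (mem_top y)
    obtain ⟨hCmle, hTCm⟩ := hcent m hmT hmZ
    have hyCm : y ∉ centralizer ({m} : Set Q) := fun hy' => hyZT (hCmle hy')
    have hinter : centralizer ({y} : Set Q) ⊓ centralizer ({m} : Set Q) = center Q := by
      rcases eq_or_eq_of_relIndex_prime hpP
        (le_inf (Subgroup.center_le_centralizer _) (Subgroup.center_le_centralizer _))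
        inf_le_right (hrel m hmZ) with h1 | h1
      · exact h1
      · exfalso
        apply hyCm
        have h2 : m ∈ centralizer ({y} : Set Q) ⊓ centralizer ({m} : Set Q) := by
          rw [h1]
          exact mem_centralizer_singleton_iff.mpr rfl
        have h3 : m ∈ centralizer ({y} : Set Q) := (Subgroup.mem_inf.mp h2).1
        rw [mem_centralizer_singleton_iff] at h3 ⊢
        exact h3.symm
    have hfixm : ∀ γ : Γ, ρ γ m * m⁻¹ ∈ center Q := by
      intro γ
      obtain ⟨j, hj, hjc, t, ht, hyt⟩ := hact γ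
      have hαmT : ρ γ m ∈ T := hTinv γ m hmT
      have hαmZ : ρ γ m ∉ center Q := by
        intro hc
        apply hmZ
        rw [mem_center_iff] at hc ⊢
        intro g
        apply (ρ γ).injective
        rw [map_mul, map_mul]
        exact hc _
      obtain ⟨-, hTCαm⟩ := hcent _ hαmT hαmZ
      have hct : ⁅ρ γ m, t⁆ = 1 := by
        rw [commutatorElement_eq_one_iff_commute]
        exact (mem_centralizer_singleton_iff.mp (hTCαm ht)).symm
      have h1 : ρ γ ⁅m, y⁆ = ⁅m, y⁆ ^ j := hjc _ (h.comm_mem m y)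
      have h2 : ρ γ ⁅m, y⁆ = ⁅ρ γ m, y⁆ ^ j := by
        rw [map_commutatorElement, hyt, h.comm_mul_right, hct, mul_one, h.comm_pow_right]
      have h4 : ⁅ρ γ m, y⁆ * ⁅m, y⁆⁻¹ = 1 :=
        hcancel _ _ j hj (h.comm_mem _ _) (h.comm_mem _ _) (by rw [← h2, h1])
      have h5 : ⁅ρ γ m * m⁻¹, y⁆ = 1 := by
        rw [h.comm_mul_left, h.comm_inv_left]
        exact h4
      rw [← hinter]
      refine Subgroup.mem_inf.mpr ⟨?_, ?_⟩
      · rw [mem_centralizer_singleton_iff]
        rw [commutatorElement_eq_one_iff_commute] at h5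
        exact h5.eq
      · exact Subgroup.mul_mem _ (hTCm hαmT)
          (Subgroup.inv_mem _ (mem_centralizer_singleton_iff.mpr rfl))
    -- the quotient by the centre
    let _ : CommGroup (Q ⧸ center Q) := quotCommGroup (center Q) (by
      rw [h.comm_eq]
      exact zpowers_le.mpr h.central)
    let φ : Γ →* MulAut (Q ⧸ center Q) :=
      (Cfsg.Agent.Lib.Helper48_Generation.autQuot (center Q)).comp ρ
    let _ : Fintype Γ := Fintype.ofFinite Γ
    have hcop' : Nat.Coprime (Fintype.card Γ) (Nat.card (Q ⧸ center Q)) := by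
      rw [← Nat.card_eq_fintype_card]
      have h1 : Nat.card (Q ⧸ center Q) ∣ p ^ e := by
        rw [← he]
        exact Subgroup.card_quotient_dvd_card _
      exact Nat.Coprime.coprime_dvd_right h1 (Nat.Coprime.pow_right _ hcop)
    have hmfix : (QuotientGroup.mk m : Q ⧸ center Q) ∈
        Cfsg.Agent.Lib.Helper2_Coprime.fixedSub φ := by
      intro γ
      show (Cfsg.Agent.Lib.Helper48_Generation.autQuot (center Q) (ρ γ)) (m : Q ⧸ center Q) = _
      rw [Cfsg.Agent.Lib.Helper48_Generation.autQuot_mk, QuotientGroup.eq]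
      have h1 := hfixm γ
      have h2 := (inferInstance : (center Q).Normal).conj_mem _ (Subgroup.inv_mem _ h1) m⁻¹
      have h3 : m⁻¹ * (ρ γ m * m⁻¹)⁻¹ * m⁻¹⁻¹ = (ρ γ m)⁻¹ * m := by group
      rw [h3] at h2
      exact h2
    have hmcomm : (QuotientGroup.mk m : Q ⧸ center Q) ∈
        Cfsg.Agent.Lib.Helper2_Coprime.commSub φ := by
      have hle : closure {x : Q | ∃ (γ : Γ) (g : Q), x = ρ γ g * g⁻¹} ≤
          (Cfsg.Agent.Lib.Helper2_Coprime.commSub φ).comap (QuotientGroup.mk' (center Q)) := by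
        rw [closure_le]
        rintro _ ⟨γ, g, rfl⟩
        show QuotientGroup.mk' (center Q) (ρ γ g * g⁻¹) ∈ Cfsg.Agent.Lib.Helper2_Coprime.commSub φ
        apply Subgroup.subset_closure
        refine ⟨γ, (g : Q ⧸ center Q), ?_⟩
        rw [div_eq_mul_inv]
        rfl
      rw [hfix] at hle
      exact hle (mem_top m)
    have h0 := Cfsg.Agent.Lib.Helper2_Coprime.commSub_inf_fixedSub φ hcop'
    have h1 : (QuotientGroup.mk m : Q ⧸ center Q) ∈ (⊥ : Subgroup (Q ⧸ center Q)) := by
      rw [← h0]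
      exact ⟨hmcomm, hmfix⟩
    rw [Subgroup.mem_bot, QuotientGroup.eq_one_iff] at h1
    exact hmZ h1

end CTD

/-- Construction of `CTD` in a `p`-group. -/
theorem CTD.of_isPGroup {p : ℕ} [Fact p.Prime] {Q : Type*} [Group Q] [Finite Q] (hQ : IsPGroup p Q)
    {z₀ : Q} (h1 : z₀ ≠ 1) (hp : z₀ ^ p = 1) (hc : commutator Q = zpowers z₀) : CTD p Q z₀ := by
  have hpP : p.Prime := Fact.out
  refine ⟨h1, hp, hc, ?_⟩
  have hn : (zpowers z₀).Normal := by rw [← hc]; infer_instance
  have hne : zpowers z₀ ≠ ⊥ := by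
    intro hb
    exact h1 (Subgroup.zpowers_eq_bot.mp hb)
  obtain ⟨z, hzN, hzc, hz1⟩ :=
    Cfsg.Agent.Lib.Helper32_PGroup.exists_mem_center_of_normal hQ (zpowers z₀) hne
  obtain ⟨i, rfl⟩ := mem_zpowers_iff.mp hzN
  have hcop : IsCoprime i (p : ℤ) := by
    rw [Int.isCoprime_iff_gcd_eq_one]
    by_contra hne'
    have hdvd : (p : ℤ) ∣ i := by
      have h2 : (Int.gcd i p : ℤ) ∣ p := Int.gcd_dvd_right i p
      have h3 : Int.gcd i p ∣ p := by exact_mod_cast h2
      rcases (Nat.dvd_prime hpP).mp h3 with h4 | h4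
      · exact absurd h4 hne'
      · rw [← h4]; exact Int.gcd_dvd_left i p
    obtain ⟨c, rfl⟩ := hdvd
    rw [zpow_mul, zpow_natCast, hp, one_zpow] at hz1
    exact hz1 rfl
  obtain ⟨s, t, hst⟩ := hcop
  have hgen : z₀ = (z₀ ^ i) ^ s := by
    have h2 : z₀ ^ (s * i + t * (p : ℤ)) = z₀ := by rw [hst, zpow_one]
    rw [zpow_add, zpow_mul' _ t, zpow_natCast, hp, one_zpow, mul_one, mul_comm s i, zpow_mul] at h2
    exact h2.symm
  rw [hgen]
  exact Subgroup.zpow_mem _ hzc s

/-- **Claim A.** A metacyclic `p`-group (`p` odd) admitting a coprime group of automorphisms `Γ` with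
`[Q, Γ] = Q` is abelian. -/
theorem comm_of_fixedPointFree {Q : Type*} [Group Q] [Finite Q] {p : ℕ} [Fact p.Prime] (hp2 : p ≠ 2)
    (hQ : IsPGroup p Q) (hm : IsMetacyclic Q) {Γ : Type*} [Group Γ] [Finite Γ]
    (hcop : (Nat.card Γ).Coprime p) (ρ : Γ →* MulAut Q)
    (hfix : closure {x : Q | ∃ (γ : Γ) (g : Q), x = ρ γ g * g⁻¹} = ⊤) :
    ∀ a b : Q, a * b = b * a := by
  have hpP : p.Prime := Fact.out
  by_contra hnc
  -- the derived subgroup is cyclic
  obtain ⟨c, hc⟩ : ∃ c : Q, commutator Q = zpowers c := by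
    obtain ⟨N, hN, hNc, hQc⟩ := hm
    have hle : commutator Q ≤ N := commutator_le_of_isCyclic_quotient N
    have h1 : IsCyclic ↥((commutator Q).subgroupOf N) := inferInstance
    have h2 : IsCyclic ↥(commutator Q) :=
      isCyclic_of_surjective (Subgroup.subgroupOfEquivOfLe hle).toMonoidHom
        (Subgroup.subgroupOfEquivOfLe hle).surjective
    obtain ⟨g, hg⟩ := h2.exists_generator
    refine ⟨(g : Q), ?_⟩
    apply le_antisymm
    · intro x hx
      obtain ⟨i, hi⟩ := mem_zpowers_iff.mp (hg ⟨x, hx⟩)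
      rw [mem_zpowers_iff]
      refine ⟨i, ?_⟩
      have := congrArg Subtype.val hi
      simpa using this
    · exact zpowers_le.mpr g.2
  have hc1 : c ≠ 1 := by
    intro h1
    apply hnc
    intro a b
    have h2 : ⁅a, b⁆ ∈ commutator Q := by
      rw [commutator_def]
      exact commutator_mem_commutator (mem_top a) (mem_top b)
    rw [hc, h1, Subgroup.zpowers_one_eq_bot, Subgroup.mem_bot,
      commutatorElement_eq_one_iff_commute] at h2
    exact h2.eq
  -- the maximal subgroup of the derived subgroup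
  set K : Subgroup Q := zpowers (c ^ p) with hK
  have hKchar : K.Characteristic := by
    rw [Subgroup.characteristic_iff_map_le]
    intro φ
    rw [hK, MonoidHom.map_zpowers, Subgroup.zpowers_le]
    have h1 : φ c ∈ commutator Q := by
      have hchar : (commutator Q).Characteristic := inferInstance
      have h2 := Subgroup.characteristic_iff_map_eq.mp hchar φ
      rw [← h2]
      refine ⟨c, ?_, rfl⟩
      rw [hc]
      exact mem_zpowers c
    rw [hc] at h1
    obtain ⟨i, hi⟩ := mem_zpowers_iff.mp h1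
    show φ (c ^ p) ∈ zpowers (c ^ p)
    rw [map_pow, ← hi, mem_zpowers_iff]
    refine ⟨i, ?_⟩
    rw [← zpow_natCast, ← zpow_natCast, ← zpow_mul, ← zpow_mul, mul_comm]
  have hKn : K.Normal := Subgroup.normal_of_characteristic K
  have hcK : c ∉ K := by
    intro hcK
    obtain ⟨i, hi⟩ := mem_zpowers_iff.mp hcK
    have h1 : c ^ ((p : ℤ) * i - 1) = 1 := by
      rw [zpow_sub, zpow_mul, zpow_natCast, hi, zpow_one, mul_inv_cancel]
    have h2 : (orderOf c : ℤ) ∣ (p : ℤ) * i - 1 := orderOf_dvd_iff_zpow_eq_one.mpr h1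
    obtain ⟨n, hn⟩ := (hQ.to_subgroup (zpowers c)).exists_card_eq
    rw [Nat.card_zpowers] at hn
    have hn0 : n ≠ 0 := by
      rintro rfl
      rw [pow_zero, orderOf_eq_one_iff] at hn
      exact hc1 hn
    have h3 : (p : ℤ) ∣ (orderOf c : ℤ) := by
      rw [hn]
      exact_mod_cast dvd_pow_self p hn0
    have h4 : (p : ℤ) ∣ (p : ℤ) * i - 1 := h3.trans h2
    have h5 : (p : ℤ) ∣ 1 := by
      have h6 : (p : ℤ) ∣ (p : ℤ) * i := dvd_mul_right _ _
      have := dvd_sub h6 h4
      simpa using this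
    have h7 : p ∣ 1 := by exact_mod_cast h5
    exact hpP.one_lt.ne' (Nat.dvd_one.mp h7)
  -- the quotient
  set π := QuotientGroup.mk' K with hπ
  have hs : Function.Surjective π := QuotientGroup.mk'_surjective K
  have hQ' : IsPGroup p (Q ⧸ K) := hQ.to_quotient K
  have hctd : CTD p (Q ⧸ K) (π c) := by
    apply CTD.of_isPGroup hQ'
    · intro h1
      rw [hπ, QuotientGroup.mk'_apply, QuotientGroup.eq_one_iff] at h1
      exact hcK h1
    · rw [← map_pow, hπ, QuotientGroup.mk'_apply, QuotientGroup.eq_one_iff]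
      exact mem_zpowers _
    · rw [commutator_def, ← MonoidHom.range_eq_top.mpr hs, MonoidHom.range_eq_map,
        ← Subgroup.map_commutator, ← commutator_def, hc, MonoidHom.map_zpowers]
  obtain ⟨u, v, huv⟩ := exists_two_generators hm
  have huv' : closure {π u, π v} = ⊤ := by
    have h2 : (closure {u, v}).map π = ⊤ := by
      rw [huv, ← MonoidHom.range_eq_map, MonoidHom.range_eq_top.mpr hs]
    rw [MonoidHom.map_closure, Set.image_pair] at h2
    exact h2
  have hpow : ∃ x : Q ⧸ K, x ^ p = π c := by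
    obtain ⟨x, hx⟩ := commutator_le_pow hQ hm c (by rw [hc]; exact mem_zpowers c)
    exact ⟨π x, by rw [← map_pow, hx]⟩
  let ρ' : Γ →* MulAut (Q ⧸ K) := (Cfsg.Agent.Lib.Helper48_Generation.autQuot K).comp ρ
  have hfix' : closure {x : Q ⧸ K | ∃ (γ : Γ) (g : Q ⧸ K), x = ρ' γ g * g⁻¹} = ⊤ := by
    rw [eq_top_iff]
    have h1 : (closure {x : Q | ∃ (γ : Γ) (g : Q), x = ρ γ g * g⁻¹}).map π = ⊤ := by
      rw [hfix, ← MonoidHom.range_eq_map, MonoidHom.range_eq_top.mpr hs]
    rw [← h1, MonoidHom.map_closure]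
    apply Subgroup.closure_mono
    rintro _ ⟨_, ⟨γ, g, rfl⟩, rfl⟩
    exact ⟨γ, π g, by rw [map_mul, map_inv]; rfl⟩
  exact hctd.false_of_fixedPointFree hpP hp2 hQ' hcop ρ' huv' hpow hfix'

/-- transport of metacyclicity along an isomorphism -/
theorem isMetacyclic_of_mulEquiv' {R R' : Type*} [Group R] [Group R'] (e : R ≃* R')
    (h : Cfsg.IsMetacyclic R) : Cfsg.IsMetacyclic R' := by
  obtain ⟨N, hN, hc, hq⟩ := h
  have hN' : (N.map e.toMonoidHom).Normal := Subgroup.Normal.map hN _ e.surjective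
  refine ⟨N.map e.toMonoidHom, hN', ?_, ?_⟩
  · exact (MulEquiv.isCyclic (e.subgroupMap N)).mp hc
  · exact (MulEquiv.isCyclic (QuotientGroup.congr N (N.map e.toMonoidHom) e rfl)).mp hq

/-- a subgroup of a metacyclic subgroup is metacyclic -/
theorem isMetacyclic_of_le {G : Type*} [Group G] {H R : Subgroup G} (hHR : H ≤ R)
    (h : Cfsg.IsMetacyclic ↥R) : Cfsg.IsMetacyclic ↥H :=
  isMetacyclic_of_mulEquiv' (Subgroup.subgroupOfEquivOfLe hHR)
    (isMetacyclic_subgroup h (H.subgroupOf R))

/-- **The elements of order `p`.** In a metacyclic `p`-subgroup `R` (`p` odd), a non-cyclic subgroup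
`H` contains every element of `R` of order dividing `p`. -/
theorem mem_of_pow_eq_one_of_not_isCyclic {G : Type*} [Group G] [Finite G] {p : ℕ} [Fact p.Prime]
    (hp2 : p ≠ 2) {H R : Subgroup G} (hHR : H ≤ R) (hR : IsPGroup p ↥R)
    (hRm : Cfsg.IsMetacyclic ↥R) (hH : ¬ IsCyclic ↥H) :
    ∀ x ∈ R, x ^ p = 1 → x ∈ H := by
  have hHm : Cfsg.IsMetacyclic ↥H := isMetacyclic_of_le hHR hRm
  have hHp : IsPGroup p ↥H := hR.to_le hHR
  have hRnc : ¬ IsCyclic ↥R := by
    intro hc
    apply hH
    exact isCyclic_of_injective (Subgroup.inclusion hHR) (Subgroup.inclusion_injective hHR)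
  have h1 := (Cfsg.Agent.S0638.result hp2 hHp hHm hH).2
  have h2 := (Cfsg.Agent.S0638.result hp2 hR hRm hRnc).2
  set ΩH : Subgroup G := (Cfsg.omegaOne p (⊤ : Subgroup ↥H)).map H.subtype with hΩH
  set ΩR : Subgroup G := (Cfsg.omegaOne p (⊤ : Subgroup ↥R)).map R.subtype with hΩR
  have hcH : Nat.card ↥ΩH = p ^ 2 := by
    rw [hΩH, Subgroup.card_map_of_injective H.subtype_injective, h1]
  have hcR : Nat.card ↥ΩR = p ^ 2 := by
    rw [hΩR, Subgroup.card_map_of_injective R.subtype_injective, h2]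
  have hle : ΩH ≤ ΩR := by
    rw [hΩH, Subgroup.map_le_iff_le_comap]
    unfold Cfsg.omegaOne
    rw [Subgroup.closure_le]
    rintro x ⟨-, hx⟩
    show (x : G) ∈ ΩR
    refine ⟨⟨x, hHR x.2⟩, ?_, rfl⟩
    apply Subgroup.subset_closure
    refine ⟨Subgroup.mem_top _, ?_⟩
    apply Subtype.ext
    have := congrArg Subtype.val hx
    simpa using this
  have heq : ΩH = ΩR := Subgroup.eq_of_le_of_card_ge hle (by rw [hcH, hcR])
  intro x hxR hxp
  have h3 : x ∈ ΩR := by
    refine ⟨⟨x, hxR⟩, ?_, rfl⟩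
    apply Subgroup.subset_closure
    refine ⟨Subgroup.mem_top _, ?_⟩
    apply Subtype.ext
    simpa using hxp
  rw [← heq] at h3
  obtain ⟨y, -, rfl⟩ := h3
  exact y.2

/-- a nontrivial `p`-subgroup has an element of order `p` -/
theorem exists_pow_eq_one_of_ne_bot {G : Type*} [Group G] [Finite G] {p : ℕ} [Fact p.Prime]
    {H : Subgroup G} (hH : IsPGroup p ↥H) (hne : H ≠ ⊥) : ∃ x ∈ H, x ≠ 1 ∧ x ^ p = 1 := by
  have hnt : Nontrivial ↥H := (Subgroup.nontrivial_iff_ne_bot H).mpr hne
  obtain ⟨n, hn0, hn⟩ := hH.nontrivial_iff_card.mp hnt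
  have hdvd : p ∣ Nat.card ↥H := hn ▸ dvd_pow_self p hn0.ne'
  obtain ⟨x, hx⟩ := exists_prime_orderOf_dvd_card' p hdvd
  refine ⟨x, x.2, ?_, ?_⟩
  · intro h1
    have h2 : x = 1 := Subtype.ext h1
    rw [h2, orderOf_one] at hx
    exact (Fact.out : p.Prime).one_lt.ne hx
  · have := pow_orderOf_eq_one x
    rw [hx] at this
    have := congrArg Subtype.val this
    simpa using this

end Cfsg.Agent.Lib.Helper2_Metacyclic
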