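import Cfsg.Agent.S3866
import Cfsg.Agent.S3879
import Mathlib

/-!
Structure of a finite group `G = A ⟨b⟩` with `A = ⟨a⟩` cyclic normal, `b a b⁻¹ = a ^ (1 + w)`
(metacyclic groups): centralizers of elements of `A`, the derived subgroup, the abelian normal
subgroup `C_G(A)`, and (for odd `p`) the `p`-group numerics.
-/

set_option autoImplicit false
set_option linter.unusedSectionVars false
set_option linter.style.haveILetI false
open Cfsg

namespace Cfsg.Agent.Lib.Helper64_Metacyclic

/-- In a finite cyclic group, `orderOf x ∣ orderOf y` forces `x ∈ zpowers y`. -/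
theorem mem_zpowers_of_orderOf_dvd {Q : Type*} [Group Q] [Finite Q] [IsCyclic Q] {x y : Q}
    (h : orderOf x ∣ orderOf y) : x ∈ Subgroup.zpowers y := by
  classical
  haveI := Fintype.ofFinite Q
  have hn0 : 0 < orderOf y := orderOf_pos y
  have h1 := IsCyclic.card_pow_eq_one_le (α := Q) hn0
  have h2 : ((Subgroup.zpowers y : Set Q).toFinset) ⊆
      Finset.univ.filter (fun a : Q => a ^ orderOf y = 1) := by
    intro z hz
    rw [Set.mem_toFinset] at hz
    rw [Finset.mem_filter]
    refine ⟨Finset.mem_univ _, ?_⟩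
    obtain ⟨k, rfl⟩ := Subgroup.mem_zpowers_iff.mp hz
    rw [← zpow_natCast, ← zpow_mul, mul_comm, zpow_mul, zpow_natCast, pow_orderOf_eq_one, one_zpow]
  have h3 : ((Subgroup.zpowers y : Set Q).toFinset).card = orderOf y := by
    rw [Set.toFinset_card]
    exact Fintype.card_zpowers
  have h4 := Finset.eq_of_subset_of_card_le h2 (by rw [h3]; exact h1)
  have h5 : x ∈ Finset.univ.filter (fun a : Q => a ^ orderOf y = 1) := by
    rw [Finset.mem_filter]
    exact ⟨Finset.mem_univ _, orderOf_dvd_iff_pow_eq_one.mp h⟩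
  rw [← h4, Set.mem_toFinset] at h5
  exact h5

/-- Subgroups of a finite cyclic `p`-group form a chain (by order). -/
theorem le_of_card_le_of_isCyclic {Q : Type*} [Group Q] [Finite Q] [IsCyclic Q] {p : ℕ}
    [Fact p.Prime] (hQ : IsPGroup p Q) (H K : Subgroup Q) (h : Nat.card H ≤ Nat.card K) :
    H ≤ K := by
  have hp : p.Prime := Fact.out
  obtain ⟨q, hq⟩ := IsCyclic.exists_generator (α := Q)
  have hH : H ≤ Subgroup.zpowers q := fun x _ => hq x
  have hK : K ≤ Subgroup.zpowers q := fun x _ => hq x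
  obtain ⟨i, rfl⟩ := (Subgroup.le_zpowers_iff q H).mp hH
  obtain ⟨j, rfl⟩ := (Subgroup.le_zpowers_iff q K).mp hK
  rw [Nat.card_zpowers, Nat.card_zpowers] at h
  obtain ⟨k1, hk1⟩ := hQ (q ^ i)
  obtain ⟨k2, hk2⟩ := hQ (q ^ j)
  obtain ⟨e1, -, he1⟩ := (Nat.dvd_prime_pow hp).mp (orderOf_dvd_of_pow_eq_one hk1)
  obtain ⟨e2, -, he2⟩ := (Nat.dvd_prime_pow hp).mp (orderOf_dvd_of_pow_eq_one hk2)
  have hdvd : orderOf (q ^ i) ∣ orderOf (q ^ j) := by
    rw [he1, he2] at h ⊢
    exact pow_dvd_pow p ((Nat.pow_le_pow_iff_right hp.one_lt).mp h)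
  rw [Subgroup.zpowers_le]
  exact mem_zpowers_of_orderOf_dvd hdvd

/-- Subgroups containing a normal subgroup `A` with `G ⧸ A` a cyclic `p`-group form a chain. -/
theorem le_of_card_le_of_le {G : Type*} [Group G] [Finite G] {p : ℕ} [Fact p.Prime]
    (hG : IsPGroup p G) (A : Subgroup G) [A.Normal] [IsCyclic (G ⧸ A)] (H K : Subgroup G)
    (hAH : A ≤ H) (hAK : A ≤ K) (h : Nat.card H ≤ Nat.card K) : H ≤ K := by
  have hker : (QuotientGroup.mk' A).ker ≤ H := by rw [QuotientGroup.ker_mk']; exact hAH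
  have hkerK : (QuotientGroup.mk' A).ker ≤ K := by rw [QuotientGroup.ker_mk']; exact hAK
  have hsurj : Function.Surjective (QuotientGroup.mk' A) := QuotientGroup.mk'_surjective A
  have hidx : ∀ M : Subgroup G, A ≤ M → (M.map (QuotientGroup.mk' A)).index = M.index := by
    intro M hM
    rw [Subgroup.index_map, QuotientGroup.ker_mk', sup_eq_left.mpr hM,
      MonoidHom.range_eq_top.mpr hsurj, Subgroup.index_top, mul_one]
  have hcard : Nat.card (H.map (QuotientGroup.mk' A)) ≤ Nat.card (K.map (QuotientGroup.mk' A)) := by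
    have e1 := Subgroup.card_mul_index (H.map (QuotientGroup.mk' A))
    have e2 := Subgroup.card_mul_index (K.map (QuotientGroup.mk' A))
    have e3 := Subgroup.card_mul_index H
    have e4 := Subgroup.card_mul_index K
    rw [hidx H hAH] at e1
    rw [hidx K hAK] at e2
    have e5 := Subgroup.card_mul_index A
    have hQ : Nat.card (G ⧸ A) = A.index := (Subgroup.index_eq_card A).symm
    have hHpos : 0 < H.index := Nat.pos_of_ne_zero Subgroup.index_ne_zero_of_finite
    have hKpos : 0 < K.index := Nat.pos_of_ne_zero Subgroup.index_ne_zero_of_finite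
    have hApos : 0 < Nat.card A := Nat.card_pos
    -- card (H.map) * card A = card H
    have f1 : Nat.card (H.map (QuotientGroup.mk' A)) * Nat.card A = Nat.card H := by
      apply Nat.eq_of_mul_eq_mul_right hHpos
      calc Nat.card (H.map (QuotientGroup.mk' A)) * Nat.card A * H.index
          = (Nat.card (H.map (QuotientGroup.mk' A)) * H.index) * Nat.card A := by ring
        _ = Nat.card (G ⧸ A) * Nat.card A := by rw [e1]
        _ = Nat.card G := by rw [hQ, mul_comm, e5]
        _ = Nat.card H * H.index := e3.symm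
    have f2 : Nat.card (K.map (QuotientGroup.mk' A)) * Nat.card A = Nat.card K := by
      apply Nat.eq_of_mul_eq_mul_right hKpos
      calc Nat.card (K.map (QuotientGroup.mk' A)) * Nat.card A * K.index
          = (Nat.card (K.map (QuotientGroup.mk' A)) * K.index) * Nat.card A := by ring
        _ = Nat.card (G ⧸ A) * Nat.card A := by rw [e2]
        _ = Nat.card G := by rw [hQ, mul_comm, e5]
        _ = Nat.card K * K.index := e4.symm
    rw [← f1, ← f2] at h
    exact Nat.le_of_mul_le_mul_right h hApos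
  have hle := le_of_card_le_of_isCyclic (hG.to_quotient A) _ _ hcard
  have := Subgroup.comap_mono (f := QuotientGroup.mk' A) hle
  rwa [Subgroup.comap_map_eq_self hker, Subgroup.comap_map_eq_self hkerK] at this

/-- `|H/Ω| * |Ω| = |H|` for `Ω ≤ H`, `Ω` normal. -/
theorem card_map_mk_mul {G : Type*} [Group G] [Finite G] (Ω H : Subgroup G) [Ω.Normal]
    (h : Ω ≤ H) : Nat.card (H.map (QuotientGroup.mk' Ω)) * Nat.card Ω = Nat.card H := by
  have hsurj : Function.Surjective (QuotientGroup.mk' Ω) := QuotientGroup.mk'_surjective Ω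
  have hidx : (H.map (QuotientGroup.mk' Ω)).index = H.index := by
    rw [Subgroup.index_map, QuotientGroup.ker_mk', sup_eq_left.mpr h,
      MonoidHom.range_eq_top.mpr hsurj, Subgroup.index_top, mul_one]
  have e1 := Subgroup.card_mul_index (H.map (QuotientGroup.mk' Ω))
  have e3 := Subgroup.card_mul_index H
  have e5 := Subgroup.card_mul_index Ω
  rw [hidx] at e1
  have hQ : Nat.card (G ⧸ Ω) = Ω.index := (Subgroup.index_eq_card Ω).symm
  have hHpos : 0 < H.index := Nat.pos_of_ne_zero Subgroup.index_ne_zero_of_finite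
  apply Nat.eq_of_mul_eq_mul_right hHpos
  calc Nat.card (H.map (QuotientGroup.mk' Ω)) * Nat.card Ω * H.index
      = (Nat.card (H.map (QuotientGroup.mk' Ω)) * H.index) * Nat.card Ω := by ring
    _ = Nat.card (G ⧸ Ω) * Nat.card Ω := by rw [e1]
    _ = Nat.card G := by rw [hQ, mul_comm, e5]
    _ = Nat.card H * H.index := e3.symm

/-- A quotient of a metacyclic group by a normal subgroup of the cyclic normal subgroup is
metacyclic. -/
theorem isMetacyclic_quotient {G : Type*} [Group G] (A Ω : Subgroup G) [A.Normal] [Ω.Normal]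
    (hΩA : Ω ≤ A) [hAc : IsCyclic A] [hQc : IsCyclic (G ⧸ A)] : Cfsg.IsMetacyclic (G ⧸ Ω) := by
  have hsurj : Function.Surjective (QuotientGroup.mk' Ω) := QuotientGroup.mk'_surjective Ω
  have hN : (A.map (QuotientGroup.mk' Ω)).Normal := Subgroup.Normal.map inferInstance _ hsurj
  refine ⟨A.map (QuotientGroup.mk' Ω), hN, ?_, ?_⟩
  · exact isCyclic_of_surjective ((QuotientGroup.mk' Ω).subgroupMap A)
      ((QuotientGroup.mk' Ω).subgroupMap_surjective A)
  · exact isCyclic_of_surjective (QuotientGroup.quotientQuotientEquivQuotient Ω A hΩA).symm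
      (QuotientGroup.quotientQuotientEquivQuotient Ω A hΩA).symm.surjective

/-- geometric sums `∑_{t < p^i} R^t` with `R ≡ 1 mod p`, `p` odd, have `p`-adic valuation `i`. -/
theorem geom_not_dvd (p : ℕ) [hpF : Fact p.Prime] (hp2 : p ≠ 2) (R : ℕ) (hR : R % p = 1) (i : ℕ) :
    ¬ p ^ (i + 1) ∣ ∑ t ∈ Finset.range (p ^ i), R ^ t := by
  have hp := hpF.out
  have hodd : Odd p := hp.odd_of_ne_two hp2
  rcases Nat.lt_or_ge R 2 with hlt | hge
  · have hR1 : R = 1 := by
      interval_cases R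
      · simp at hR
      · rfl
    subst hR1
    simp only [one_pow, Finset.sum_const, Finset.card_range, smul_eq_mul, mul_one]
    intro h
    have := Nat.le_of_dvd (pow_pos hp.pos i) h
    have h2 : p ^ i < p ^ (i + 1) := Nat.pow_lt_pow_right hp.one_lt (Nat.lt_succ_self i)
    omega
  · intro hdvd
    have h1 : (∑ t ∈ Finset.range (p ^ i), R ^ t) * (R - 1) = R ^ (p ^ i) - 1 :=
      geom_sum_mul_of_one_le (by omega) _
    have hxy : p ∣ R - 1 := by
      have : R - 1 = p * (R / p) := by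
        have := Nat.div_add_mod R p
        omega
      rw [this]; exact dvd_mul_right _ _
    have hx : ¬ p ∣ R := by
      intro h
      have := Nat.mod_eq_zero_of_dvd h
      omega
    have h2 := Nat.emultiplicity_pow_sub_pow hp hodd (x := R) (y := 1) (by simpa using hxy) hx
      (p ^ i)
    rw [one_pow, ← h1, emultiplicity_mul hp.prime] at h2
    have hfin : FiniteMultiplicity p (R - 1) :=
      Nat.finiteMultiplicity_iff.mpr ⟨hp.ne_one, by omega⟩
    have h3 : emultiplicity p (p ^ i) = i := by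
      rw [emultiplicity_pow_self hp.ne_zero (Nat.prime_iff.mp hp).not_isUnit]
    rw [h3, add_comm] at h2
    have h4 : emultiplicity p (∑ t ∈ Finset.range (p ^ i), R ^ t) = i := by
      rw [hfin.emultiplicity_eq_multiplicity] at h2
      exact (WithTop.add_left_cancel (ENat.natCast_ne_top _) h2)
    have h5 := (pow_dvd_iff_le_emultiplicity).mp hdvd
    rw [h4] at h5
    exact absurd h5 (by exact_mod_cast Nat.not_succ_le_self i)

section

variable {G : Type*} [Group G] [Finite G] (A : Subgroup G) [hAn : A.Normal] (a b : G) (w : ℕ)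
  (haA : a ∈ A) (hApow : ∀ x ∈ A, ∃ i : ℕ, a ^ i = x)
  (hgen : A ⊔ Subgroup.zpowers b = ⊤) (hw : a ^ w = b * a * b⁻¹ * a⁻¹)

include haA hApow in
theorem comm_of_mem : ∀ x ∈ A, ∀ y ∈ A, x * y = y * x := by
  intro x hx y hy
  obtain ⟨i, rfl⟩ := hApow x hx
  obtain ⟨j, rfl⟩ := hApow y hy
  rw [← pow_add, ← pow_add, add_comm]

include haA hApow hw in
theorem conj_eq : ∀ x ∈ A, b * x * b⁻¹ = x ^ (1 + w) := by
  intro x hx
  obtain ⟨i, rfl⟩ := hApow x hx
  have hba : b * a * b⁻¹ = a ^ (1 + w) := by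
    rw [add_comm 1 w, pow_succ, hw]
    group
  rw [← conj_pow, hba, ← pow_mul, ← pow_mul, mul_comm]

include haA hApow hw in
theorem conj_pow_eq : ∀ x ∈ A, ∀ k : ℕ, b ^ k * x * (b ^ k)⁻¹ = x ^ ((1 + w) ^ k) := by
  intro x hx k
  induction k with
  | zero => simp
  | succ k ih =>
    have e1 : b ^ (k + 1) * x * (b ^ (k + 1))⁻¹ = b * (b ^ k * x * (b ^ k)⁻¹) * b⁻¹ := by
      rw [pow_succ']; group
    rw [e1, ih, conj_eq A a b w haA hApow hw _ (A.pow_mem hx _), ← pow_mul, pow_succ]

include hgen in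
theorem exists_mul (g : G) : ∃ a₁ ∈ A, ∃ k : ℕ, g = a₁ * b ^ k := by
  have hg : g ∈ ((A ⊔ Subgroup.zpowers b : Subgroup G) : Set G) := by
    rw [hgen]; trivial
  rw [Subgroup.normal_mul] at hg
  obtain ⟨a₁, ha₁, c₁, hc₁, rfl⟩ := hg
  have hc₁' : c₁ ∈ Subgroup.zpowers b := hc₁
  rw [← mem_powers_iff_mem_zpowers, Submonoid.mem_powers_iff] at hc₁'
  obtain ⟨k, rfl⟩ := hc₁'
  exact ⟨a₁, ha₁, k, rfl⟩

include haA hApow in
theorem le_centralizer {x : G} (hx : x ∈ A) : A ≤ Subgroup.centralizer ({x} : Set G) := by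
  intro y hy
  rw [Subgroup.mem_centralizer_singleton_iff]
  exact comm_of_mem A a haA hApow y hy x hx

include haA hApow hgen hw in
theorem centralizer_normal {x : G} (hx : x ∈ A) :
    (Subgroup.centralizer ({x} : Set G)).Normal := by
  constructor
  intro z hz g
  rw [Subgroup.mem_centralizer_singleton_iff] at hz ⊢
  -- `g⁻¹ x g` is a power of `x`
  obtain ⟨a₁, ha₁, k, hk⟩ := exists_mul A b hgen g⁻¹
  have h1 : g⁻¹ * x * g = x ^ ((1 + w) ^ k) := by
    have : g⁻¹ * x * g = g⁻¹ * x * (g⁻¹)⁻¹ := by rw [inv_inv]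
    rw [this, hk]
    have e1 : a₁ * b ^ k * x * (a₁ * b ^ k)⁻¹ = a₁ * (b ^ k * x * (b ^ k)⁻¹) * a₁⁻¹ := by group
    rw [e1, conj_pow_eq A a b w haA hApow hw x hx k]
    have hc := comm_of_mem A a haA hApow a₁ ha₁ _ (A.pow_mem hx ((1 + w) ^ k))
    rw [hc]; group
  have h2 : z * (g⁻¹ * x * g) = (g⁻¹ * x * g) * z := by
    rw [h1]
    exact ((Commute.pow_right (show Commute z x from hz) _).eq)
  calc g * z * g⁻¹ * x = g * (z * (g⁻¹ * x * g)) * g⁻¹ := by group
    _ = g * ((g⁻¹ * x * g) * z) * g⁻¹ := by rw [h2]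
    _ = x * (g * z * g⁻¹) := by group

include haA hApow hgen hw in
/-- The index of the centralizer of `x ∈ A` is the order of `1 + w` modulo the order of `x`. -/
theorem index_centralizer {x : G} (hx : x ∈ A) :
    (Subgroup.centralizer ({x} : Set G)).index = orderOf (1 + (w : ZMod (orderOf x))) := by
  haveI hZn := centralizer_normal A a b w haA hApow hgen hw hx
  set Z : Subgroup G := Subgroup.centralizer ({x} : Set G) with hZ
  have hAZ : A ≤ Z := le_centralizer A a haA hApow hx
  have hgenQ : ∀ y : G ⧸ Z, y ∈ Subgroup.zpowers ((b : G) : G ⧸ Z) := by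
    intro y
    obtain ⟨g, rfl⟩ := QuotientGroup.mk_surjective y
    obtain ⟨a₁, ha₁, k, rfl⟩ := exists_mul A b hgen g
    rw [Subgroup.mem_zpowers_iff]
    refine ⟨k, ?_⟩
    rw [QuotientGroup.mk_mul, (QuotientGroup.eq_one_iff a₁).mpr (hAZ ha₁), one_mul,
      QuotientGroup.mk_pow, zpow_natCast]
  rw [Subgroup.index_eq_card, ← orderOf_eq_card_of_forall_mem_zpowers hgenQ,
    orderOf_eq_orderOf_iff]
  intro k
  rw [← QuotientGroup.mk_pow, QuotientGroup.eq_one_iff, hZ, Subgroup.mem_centralizer_singleton_iff]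
  have e1 : b ^ k * x = x * b ^ k ↔ b ^ k * x * (b ^ k)⁻¹ = x := by
    constructor
    · intro h; rw [h]; group
    · intro h
      calc b ^ k * x = (b ^ k * x * (b ^ k)⁻¹) * b ^ k := by group
        _ = x * b ^ k := by rw [h]
  rw [e1, conj_pow_eq A a b w haA hApow hw x hx k]
  have e2 : x ^ ((1 + w) ^ k) = x ↔ x ^ ((1 + w) ^ k) = x ^ 1 := by rw [pow_one]
  rw [e2, pow_eq_pow_iff_modEq, ← ZMod.natCast_eq_natCast_iff]
  push_cast
  rfl

include haA hApow in
theorem centralizer_eq : Subgroup.centralizer (A : Set G) = Subgroup.centralizer ({a} : Set G) := by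
  apply le_antisymm
  · exact Subgroup.centralizer_le (Set.singleton_subset_iff.mpr haA)
  · intro g hg
    rw [Subgroup.mem_centralizer_singleton_iff] at hg
    rw [Subgroup.mem_centralizer_iff]
    intro y hy
    obtain ⟨i, rfl⟩ := hApow y hy
    exact ((Commute.pow_right (show Commute g a from hg) i).eq).symm

include haA hApow hgen hw in
/-- The derived subgroup is `⟨a ^ w⟩`. -/
theorem commutator_eq : commutator G = Subgroup.zpowers (a ^ w) := by
  classical
  have hAcomm : IsMulCommutative A :=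
    ⟨⟨fun x y => Subtype.ext (comm_of_mem A a haA hApow x x.2 y y.2)⟩⟩
  obtain ⟨h1, h2, h3, -⟩ := Cfsg.Agent.S3866.result A hAcomm b hgen
  have hψpow : ∀ i : ℕ, b * a ^ i * b⁻¹ * (a ^ i)⁻¹ = (a ^ w) ^ i := by
    intro i
    induction i with
    | zero => simp
    | succ i ih =>
      rw [pow_succ a i, h3 _ (A.pow_mem haA i) _ haA, ih, ← hw, pow_succ]
  apply le_antisymm
  · intro c hc
    obtain ⟨x, hx, rfl⟩ := h2 c hc
    obtain ⟨i, rfl⟩ := hApow x hx
    rw [hψpow i]
    exact Subgroup.pow_mem _ (Subgroup.mem_zpowers _) i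
  · rw [Subgroup.zpowers_le, hw]
    exact h1 a haA

include haA hApow hgen hw in
theorem card_commutator : Nat.card (commutator G) = orderOf a / (orderOf a).gcd w := by
  rw [commutator_eq A a b w haA hApow hgen hw, Nat.card_zpowers, orderOf_pow]

include haA hApow hgen hw in
/-- For an odd prime `p` and `G` a `p`-group: the index of the centralizer of `x ∈ A`. -/
theorem index_centralizer_eq {p : ℕ} [Fact p.Prime] (hp2 : p ≠ 2) (hG : IsPGroup p G) {x : G}
    (hx : x ∈ A) {m' : ℕ} (hm' : orderOf x = p ^ m') :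
    (Subgroup.centralizer ({x} : Set G)).index = p ^ m' / Nat.gcd (p ^ m') w := by
  have hpp : p.Prime := Fact.out
  have h1 := index_centralizer A a b w haA hApow hgen hw hx
  obtain ⟨n, hn⟩ := IsPGroup.iff_card.mp hG
  obtain ⟨j, -, hj⟩ := (Nat.dvd_prime_pow hpp).mp
    (hn ▸ Subgroup.index_dvd_card (Subgroup.centralizer ({x} : Set G)))
  rw [hj]
  apply Cfsg.Agent.S3879.nt p hp2 m' w j
  rw [← hj, h1, hm']

include haA hApow hgen hw in
/-- `|C_G(a)| = |G : G'|` for `p` odd, `G` a `p`-group. -/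
theorem card_centralizer_eq {p : ℕ} [Fact p.Prime] (hp2 : p ≠ 2) (hG : IsPGroup p G) :
    Nat.card (Subgroup.centralizer ({a} : Set G)) = (commutator G).index := by
  have hpp : p.Prime := Fact.out
  obtain ⟨m, hm⟩ : ∃ m, orderOf a = p ^ m := by
    obtain ⟨k, hk⟩ := hG a
    obtain ⟨m, -, hm⟩ := (Nat.dvd_prime_pow hpp).mp (orderOf_dvd_of_pow_eq_one hk)
    exact ⟨m, hm⟩
  have h1 := index_centralizer_eq A a b w haA hApow hgen hw hp2 hG haA hm
  have h2 := card_commutator A a b w haA hApow hgen hw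
  rw [hm] at h2
  have e1 := Subgroup.card_mul_index (Subgroup.centralizer ({a} : Set G))
  have e2 := Subgroup.index_mul_card (commutator G)
  rw [h1] at e1
  rw [h2] at e2
  have hpos : 0 < p ^ m / Nat.gcd (p ^ m) w :=
    Nat.div_pos (Nat.le_of_dvd (pow_pos hpp.pos m) (Nat.gcd_dvd_left _ _))
      (Nat.gcd_pos_of_pos_left _ (pow_pos hpp.pos m))
  exact Nat.eq_of_mul_eq_mul_right hpos (e1.trans e2.symm)

include haA hApow hgen hw in
/-- every element of `G` acts on `A` as a power map `x ↦ x ^ ((1 + w) ^ y)`. -/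
theorem exists_conj_pow (h : G) : ∃ y : ℕ, ∀ x ∈ A, h * x * h⁻¹ = x ^ ((1 + w) ^ y) := by
  obtain ⟨a₁, ha₁, k, rfl⟩ := exists_mul A b hgen h
  refine ⟨k, fun x hx => ?_⟩
  have e1 : a₁ * b ^ k * x * (a₁ * b ^ k)⁻¹ = a₁ * (b ^ k * x * (b ^ k)⁻¹) * a₁⁻¹ := by group
  rw [e1, conj_pow_eq A a b w haA hApow hw x hx k]
  have hc := comm_of_mem A a haA hApow a₁ ha₁ _ (A.pow_mem hx ((1 + w) ^ k))
  rw [hc]; group

include haA hApow hgen hw in
theorem zpowers_normal {x : G} (hx : x ∈ A) : (Subgroup.zpowers x).Normal := by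
  constructor
  intro z hz g
  obtain ⟨y, hy⟩ := exists_conj_pow A a b w haA hApow hgen hw g
  obtain ⟨k, rfl⟩ := Subgroup.mem_zpowers_iff.mp hz
  have hzA : x ^ k ∈ A := A.zpow_mem hx k
  rw [hy _ hzA, ← zpow_natCast, ← zpow_mul]
  exact Subgroup.zpow_mem _ (Subgroup.mem_zpowers x) _

include haA hApow hgen hw in
/-- for a `p`-group with `a ≠ 1`: `p ∣ w`. -/
theorem dvd_w {p : ℕ} [Fact p.Prime] (hG : IsPGroup p G) {m : ℕ} (hm : orderOf a = p ^ m)
    (hm0 : m ≠ 0) : p ∣ w := by
  have hpp : p.Prime := Fact.out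
  have h1 := index_centralizer A a b w haA hApow hgen hw haA
  obtain ⟨n, hn⟩ := IsPGroup.iff_card.mp hG
  obtain ⟨j, -, hj⟩ := (Nat.dvd_prime_pow hpp).mp
    (hn ▸ Subgroup.index_dvd_card (Subgroup.centralizer ({a} : Set G)))
  rw [hj, hm] at h1
  have h2 : (1 + (w : ZMod (p ^ m))) ^ (p ^ j) = 1 := by
    rw [h1]; exact pow_orderOf_eq_one _
  have hdvd : p ∣ p ^ m := dvd_pow_self p hm0
  have h3 := congrArg (ZMod.castHom hdvd (ZMod p)) h2
  rw [map_pow, map_add, map_one, map_natCast, ZMod.pow_card_pow] at h3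
  have h4 : (w : ZMod p) = 0 := by rwa [add_eq_left] at h3
  exact (ZMod.natCast_eq_zero_iff w p).mp h4

end

end Cfsg.Agent.Lib.Helper64_Metacyclic
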