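import Mathlib.GroupTheory.PGroup
import Mathlib.Algebra.Group.End

/-!
The stability group of a chain of subgroups of a finite `p`-group is a `p`-group (helper84).
-/

set_option autoImplicit false

namespace Cfsg.Agent.Lib.Helper84_Stability

variable {P : Type*} [Group P]

/-- `α` stabilizes the chain `c`: for every `j`, `x⁻¹ α(x) ∈ c j` for all `x ∈ c (j+1)`. -/
def Stabilizes (c : ℕ → Subgroup P) (α : MulAut P) : Prop :=
  ∀ j, ∀ x ∈ c (j + 1), x⁻¹ * α x ∈ c j

theorem Stabilizes.apply_mem {c : ℕ → Subgroup P} (hmono : ∀ j, c j ≤ c (j + 1)) {α : MulAut P}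
    (h : Stabilizes c α) (j : ℕ) {x : P} (hx : x ∈ c (j + 1)) : α x ∈ c (j + 1) := by
  have h1 := hmono j (h j x hx)
  have := (c (j + 1)).mul_mem hx h1
  simpa using this

theorem Stabilizes.one (c : ℕ → Subgroup P) : Stabilizes c 1 := by
  intro j x _
  simp

theorem Stabilizes.mul {c : ℕ → Subgroup P} (hmono : ∀ j, c j ≤ c (j + 1)) {α β : MulAut P}
    (hα : Stabilizes c α) (hβ : Stabilizes c β) : Stabilizes c (α * β) := by
  intro j x hx
  have h1 := hβ j x hx
  have h2 := hα j (β x) (hβ.apply_mem hmono j hx)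
  have := (c j).mul_mem h1 h2
  rw [MulAut.mul_apply]
  convert this using 1
  group

theorem Stabilizes.pow {c : ℕ → Subgroup P} (hmono : ∀ j, c j ≤ c (j + 1)) {α : MulAut P}
    (hα : Stabilizes c α) (n : ℕ) : Stabilizes c (α ^ n) := by
  induction n with
  | zero => rw [pow_zero]; exact Stabilizes.one c
  | succ n ih => rw [pow_succ]; exact ih.mul hmono hα

theorem Stabilizes.inv [Finite P] {c : ℕ → Subgroup P} (hmono : ∀ j, c j ≤ c (j + 1)) {α : MulAut P}
    (hα : Stabilizes c α) : Stabilizes c α⁻¹ := by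
  have hpos : 0 < orderOf α := orderOf_pos α
  have h1 : α⁻¹ = α ^ (orderOf α - 1) := by
    rw [inv_eq_iff_mul_eq_one, ← pow_succ', Nat.sub_add_cancel hpos, pow_orderOf_eq_one]
  rw [h1]
  exact hα.pow hmono _

/-- If `β` fixes `c j` pointwise and stabilizes the chain, then `β ^ m` sends `x ∈ c (j+1)` to
`x * (x⁻¹ β x) ^ m`. -/
theorem pow_apply_of_fixes {c : ℕ → Subgroup P} {β : MulAut P} (j : ℕ)
    (hβ : Stabilizes c β) (hfix : ∀ z ∈ c j, β z = z) {x : P} (hx : x ∈ c (j + 1)) (m : ℕ) :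
    (β ^ m) x = x * (x⁻¹ * β x) ^ m := by
  induction m with
  | zero => simp
  | succ m ih =>
    rw [pow_succ', MulAut.mul_apply, ih, map_mul, map_pow, hfix _ (hβ j x hx), pow_succ',
      ← mul_assoc, mul_inv_cancel_left]

/-- **Stability lemma**: an automorphism of a finite `p`-group stabilizing a chain of subgroups
starting at `⊥` has `p`-power order on every member of the chain. -/
theorem Stabilizes.exists_pow_fixes [Finite P] {p : ℕ} [Fact p.Prime] (hP : IsPGroup p P)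
    {c : ℕ → Subgroup P} (h0 : c 0 = ⊥) (hmono : ∀ j, c j ≤ c (j + 1)) {α : MulAut P}
    (hα : Stabilizes c α) : ∀ j, ∃ k : ℕ, ∀ x ∈ c j, (α ^ (p ^ k)) x = x := by
  obtain ⟨a, ha⟩ := hP.exists_card_eq
  intro j
  induction j with
  | zero =>
    refine ⟨0, fun x hx => ?_⟩
    rw [h0, Subgroup.mem_bot] at hx
    rw [hx, map_one]
  | succ j ih =>
    obtain ⟨k, hk⟩ := ih
    refine ⟨k + a, fun x hx => ?_⟩
    have hβ : Stabilizes c (α ^ (p ^ k)) := hα.pow hmono _
    rw [pow_add, pow_mul, pow_apply_of_fixes j hβ hk hx, ← ha, pow_card_eq_one', mul_one]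

/-- An automorphism of a finite `p`-group stabilizing a chain from `⊥` to `⊤` has `p`-power order. -/
theorem Stabilizes.exists_pow_eq_one [Finite P] {p : ℕ} [Fact p.Prime] (hP : IsPGroup p P)
    {c : ℕ → Subgroup P} (h0 : c 0 = ⊥) (hmono : ∀ j, c j ≤ c (j + 1)) {n : ℕ} (hn : c n = ⊤)
    {α : MulAut P} (hα : Stabilizes c α) : ∃ k : ℕ, α ^ (p ^ k) = 1 := by
  obtain ⟨k, hk⟩ := hα.exists_pow_fixes hP h0 hmono n
  refine ⟨k, ?_⟩
  ext x
  have := hk x (hn ▸ Subgroup.mem_top x)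
  rw [this]
  rfl

/-- The stability group of a chain, inside a subgroup `A` of automorphisms preserving the chain. -/
def stabilityGroup [Finite P] (c : ℕ → Subgroup P) (hmono : ∀ j, c j ≤ c (j + 1))
    (A : Subgroup (MulAut P)) : Subgroup (MulAut P) where
  carrier := {α | α ∈ A ∧ Stabilizes c α}
  one_mem' := ⟨A.one_mem, Stabilizes.one c⟩
  mul_mem' := fun ha hb => ⟨A.mul_mem ha.1 hb.1, ha.2.mul hmono hb.2⟩
  inv_mem' := fun ha => ⟨A.inv_mem ha.1, ha.2.inv hmono⟩

theorem mem_stabilityGroup [Finite P] {c : ℕ → Subgroup P} {hmono : ∀ j, c j ≤ c (j + 1)}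
    {A : Subgroup (MulAut P)} {α : MulAut P} :
    α ∈ stabilityGroup c hmono A ↔ α ∈ A ∧ Stabilizes c α := Iff.rfl

theorem stabilityGroup_le [Finite P] (c : ℕ → Subgroup P) (hmono : ∀ j, c j ≤ c (j + 1))
    (A : Subgroup (MulAut P)) : stabilityGroup c hmono A ≤ A := fun _ h => h.1

theorem isPGroup_stabilityGroup [Finite P] {p : ℕ} [Fact p.Prime] (hP : IsPGroup p P)
    {c : ℕ → Subgroup P} (h0 : c 0 = ⊥) (hmono : ∀ j, c j ≤ c (j + 1)) {n : ℕ} (hn : c n = ⊤)
    (A : Subgroup (MulAut P)) : IsPGroup p (stabilityGroup c hmono A) := by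
  rintro ⟨α, hα⟩
  obtain ⟨k, hk⟩ := hα.2.exists_pow_eq_one hP h0 hmono hn
  exact ⟨k, Subtype.ext hk⟩

/-- The stability group is normal in `A` when every element of `A` preserves the chain. -/
theorem stabilityGroup_normal [Finite P] {c : ℕ → Subgroup P} (hmono : ∀ j, c j ≤ c (j + 1))
    (A : Subgroup (MulAut P)) (hA : ∀ β ∈ A, ∀ j, ∀ x ∈ c j, β x ∈ c j) :
    ((stabilityGroup c hmono A).subgroupOf A).Normal := by
  constructor
  intro α hα β
  rw [Subgroup.mem_subgroupOf] at hα ⊢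
  refine ⟨(β * α * β⁻¹).2, ?_⟩
  intro j x hx
  have h1 : (β : MulAut P)⁻¹ x ∈ c (j + 1) := hA _ (A.inv_mem β.2) (j + 1) x hx
  have h2 := hα.2 j _ h1
  have h3 := hA _ β.2 j _ h2
  have e : (((β * α * β⁻¹ : A) : MulAut P)) x = (β : MulAut P) ((α : MulAut P) ((β : MulAut P)⁻¹ x)) := rfl
  rw [e]
  rw [map_mul, map_inv, MulAut.apply_inv_self] at h3
  exact h3

end Cfsg.Agent.Lib.Helper84_Stability
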