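import Cfsg.Agent.Lib.Helper87_AutSystem

set_option autoImplicit false

namespace Cfsg.Agent.Lib.Helper87_OddOmega

open Cfsg Cfsg.FusionSystem Cfsg.Agent.Lib.Helper87_Alperin Cfsg.Agent.Lib.Helper87_Alperin2
  Cfsg.Agent.Lib.Helper87_AutSystem
open scoped commutatorElement

/-! ### Power formulas in groups of class two -/

/-- If `⁅y, x⁆` is central then `y ^ n * x = ⁅y, x⁆ ^ n * x * y ^ n`. -/
theorem pow_mul_eq_of_central {G : Type*} [Group G] (x y : G) (hc : ⁅y, x⁆ ∈ Subgroup.center G) (n : ℕ) :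
    y ^ n * x = ⁅y, x⁆ ^ n * x * y ^ n := by
  have hyx : y * x = ⁅y, x⁆ * x * y := by
    rw [commutatorElement_def]
    group
  have hcomm : ∀ g : G, g * ⁅y, x⁆ = ⁅y, x⁆ * g := fun g => Subgroup.mem_center_iff.1 hc g
  induction n with
  | zero => simp
  | succ n ih =>
    calc y ^ (n + 1) * x = y ^ n * (y * x) := by rw [pow_succ, mul_assoc]
      _ = y ^ n * (⁅y, x⁆ * x * y) := by rw [hyx]
      _ = (y ^ n * ⁅y, x⁆) * x * y := by simp only [mul_assoc]
      _ = ⁅y, x⁆ * (y ^ n * x) * y := by rw [hcomm]; simp only [mul_assoc]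
      _ = ⁅y, x⁆ * (⁅y, x⁆ ^ n * x * y ^ n) * y := by rw [ih]
      _ = ⁅y, x⁆ ^ (n + 1) * x * y ^ (n + 1) := by
        rw [pow_succ' ⁅y, x⁆ n, pow_succ y n]
        simp only [mul_assoc]

/-- The power formula in class two: `(x y) ^ n = x ^ n y ^ n ⁅y, x⁆ ^ (n choose 2)` when `⁅y, x⁆` is central. -/
theorem mul_pow_of_central {G : Type*} [Group G] (x y : G) (hc : ⁅y, x⁆ ∈ Subgroup.center G) (n : ℕ) :
    (x * y) ^ n = x ^ n * y ^ n * ⁅y, x⁆ ^ (n.choose 2) := by
  have hcomm : ∀ g : G, g * ⁅y, x⁆ = ⁅y, x⁆ * g := fun g => Subgroup.mem_center_iff.1 hc g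
  have hcommpow : ∀ (k : ℕ) (g : G), g * ⁅y, x⁆ ^ k = ⁅y, x⁆ ^ k * g := by
    intro k g
    have : ⁅y, x⁆ ^ k ∈ Subgroup.center G := Subgroup.pow_mem _ hc k
    exact Subgroup.mem_center_iff.1 this g
  induction n with
  | zero => simp
  | succ n ih =>
    have hch : (n + 1).choose 2 = n + n.choose 2 := by
      rw [Nat.choose_succ_succ' n 1, Nat.choose_one_right]
    calc (x * y) ^ (n + 1) = (x * y) ^ n * (x * y) := pow_succ _ _
      _ = x ^ n * y ^ n * ⁅y, x⁆ ^ (n.choose 2) * (x * y) := by rw [ih]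
      _ = x ^ n * (y ^ n * x) * y * ⁅y, x⁆ ^ (n.choose 2) := by
        rw [mul_assoc (x ^ n * y ^ n), ← hcommpow]
        simp only [mul_assoc]
      _ = x ^ n * (⁅y, x⁆ ^ n * x * y ^ n) * y * ⁅y, x⁆ ^ (n.choose 2) := by
        rw [pow_mul_eq_of_central x y hc n]
      _ = ⁅y, x⁆ ^ n * (x ^ n * x) * (y ^ n * y) * ⁅y, x⁆ ^ (n.choose 2) := by
        have : x ^ n * (⁅y, x⁆ ^ n * x * y ^ n) = ⁅y, x⁆ ^ n * (x ^ n * x) * y ^ n := by
          rw [← mul_assoc, ← mul_assoc, hcommpow n (x ^ n)]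
          simp only [mul_assoc]
        rw [this]
        simp only [mul_assoc]
      _ = x ^ (n + 1) * y ^ (n + 1) * ⁅y, x⁆ ^ ((n + 1).choose 2) := by
        rw [hch, pow_succ x n, pow_succ y n, pow_add ⁅y, x⁆ n (n.choose 2),
          mul_assoc (⁅y, x⁆ ^ n) (x ^ n * x) (y ^ n * y),
          ← hcommpow n ((x ^ n * x) * (y ^ n * y))]
        simp only [mul_assoc]

/-- In class two with central `p`-th powers, for `p` odd, the `p`-th power map is multiplicative. -/
theorem mul_pow_prime_of_central {G : Type*} [Group G] {p : ℕ} (hp : p.Prime) (hp2 : p ≠ 2) (x y : G)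
    (hc : ⁅y, x⁆ ∈ Subgroup.center G) (hyp : y ^ p ∈ Subgroup.center G) :
    (x * y) ^ p = x ^ p * y ^ p := by
  have h1 := pow_mul_eq_of_central x y hc p
  have h2 : y ^ p * x = x * y ^ p := (Subgroup.mem_center_iff.1 hyp x).symm
  have hcp : ⁅y, x⁆ ^ p = 1 := by
    rw [h2, mul_assoc] at h1
    exact right_eq_mul.1 h1
  have hdvd : p ∣ p.choose 2 := hp.dvd_choose_self (by norm_num) (lt_of_le_of_ne hp.two_le (Ne.symm hp2))
  obtain ⟨k, hk⟩ := hdvd
  rw [mul_pow_of_central x y hc p, hk, pow_mul, hcp, one_pow, mul_one]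

/-! ### A proper normal subgroup containing all commutators and `p`-th powers -/

/-- A nontrivial finite `p`-group has a proper normal subgroup containing all `p`-th powers and all
commutators. -/
theorem exists_normal_proper {G : Type*} [Group G] [Finite G] {p : ℕ} [Fact p.Prime] (hG : IsPGroup p G)
    [Nontrivial G] :
    ∃ M : Subgroup G, M.Normal ∧ M ≠ ⊤ ∧ (∀ x : G, x ^ p ∈ M) ∧ ∀ x y : G, ⁅x, y⁆ ∈ M := by
  have hp : p.Prime := Fact.out
  obtain ⟨k, hk⟩ := IsPGroup.iff_card.1 hG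
  have hk0 : k ≠ 0 := by
    rintro rfl
    rw [pow_zero] at hk
    have := Finite.one_lt_card (α := G)
    omega
  obtain ⟨k', rfl⟩ := Nat.exists_eq_succ_of_ne_zero hk0
  have hdvd : p ^ k' ∣ Nat.card G := by
    rw [hk]
    exact pow_dvd_pow p (Nat.le_succ k')
  obtain ⟨M, hM⟩ := Sylow.exists_subgroup_card_pow_prime p hdvd
  have hidx : M.index = p := by
    have h1 := M.index_mul_card
    rw [hM, hk, pow_succ'] at h1
    exact Nat.eq_of_mul_eq_mul_right (pow_pos hp.pos k') h1
  have hnorm : M.Normal := by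
    apply Subgroup.normal_of_index_eq_minFac_card
    rw [hidx, hk, Nat.pow_minFac (Nat.succ_ne_zero k'), hp.minFac_eq]
  have hcardq : Nat.card (G ⧸ M) = p := by
    rw [← Subgroup.index_eq_card, hidx]
  refine ⟨M, hnorm, ?_, ?_, ?_⟩
  · intro h
    rw [h, Subgroup.index_top] at hidx
    exact hp.one_lt.ne hidx
  · intro x
    rw [← QuotientGroup.eq_one_iff, QuotientGroup.mk_pow]
    have := pow_card_eq_one' (x := (x : G ⧸ M))
    rwa [hcardq] at this
  · intro x y
    have : IsCyclic (G ⧸ M) := isCyclic_of_prime_card hcardq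
    have hcomm : ∀ a b : G ⧸ M, a * b = b * a := isMulCommutative_iff.1 inferInstance
    rw [← QuotientGroup.eq_one_iff, commutatorElement_def]
    simp only [QuotientGroup.mk_mul, QuotientGroup.mk_inv]
    rw [hcomm (x : G ⧸ M) (y : G ⧸ M)]
    group

/-! ### Automorphisms of order prime to `p` of a `p`-group, `p` odd, trivial on the elements of order `p` -/

variable {Ω : Type*} [Group Ω]

/-- For `p` odd: an automorphism of order prime to `p` of a finite `p`-group that fixes every element `x` with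
`x ^ p = 1` is trivial. (Stated with the order of the group as a parameter, for the induction.) -/
theorem aut_eq_one_of_fix_omega_aux {p : ℕ} [Fact p.Prime] (hp2 : p ≠ 2) :
    ∀ (n : ℕ) (T : Subgroup Ω) [Finite T], Nat.card T = n → IsPGroup p T → ∀ α : MulAut T,
      (orderOf α).Coprime p → (∀ x : T, x ^ p = 1 → α x = x) → α = 1 := by
  intro n
  induction n using Nat.strong_induction_on with
  | _ n ih =>
  intro T _ hcard hT α hα hfix
  have hp : p.Prime := Fact.out
  -- the induction hypothesis for invariant proper subgroups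
  have hsub : ∀ (U : Subgroup Ω) (hUT : U ≤ T), U ≠ T → (∀ x : U, ((α ⟨x, hUT x.2⟩ : T) : Ω) ∈ U) →
      ∀ x : T, (x : Ω) ∈ U → α x = x := by
    intro U hUT hne hinv x hx
    have hfinU : Finite U :=
      Finite.of_injective (Subgroup.inclusion hUT) (Subgroup.inclusion_injective hUT)
    have hlt : Nat.card U < n := by
      rw [← hcard]
      exact card_lt_of_lt (lt_of_le_of_ne hUT hne)
    have h1 := ih (Nat.card U) hlt U rfl (hT.to_le hUT) (restrictAut hUT α hinv)
      (Nat.Coprime.coprime_dvd_left (orderOf_restrictAut_dvd hUT α hinv) hα) ?_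
    · have h2 := restrictAut_apply hUT α hinv ⟨x, hx⟩
      rw [h1] at h2
      apply Subtype.ext
      exact h2.symm
    · intro y hy
      apply Subtype.ext
      rw [restrictAut_apply]
      have h3 : (⟨(y : Ω), hUT y.2⟩ : T) ^ p = 1 := by
        apply Subtype.ext
        have := congrArg Subtype.val hy
        simpa using this
      rw [hfix _ h3]
  -- the key fact
  have hkey : ∀ x : T, α (x⁻¹ * α x) = x⁻¹ * α x := by
    intro x₀
    set W' : Subgroup T := Subgroup.closure {y : T | ∃ x : T, y = x⁻¹ * α x} with hW'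
    have hW'inv : W'.map α.toMonoidHom ≤ W' := by
      rw [hW', MonoidHom.map_closure]
      apply Subgroup.closure_mono
      rintro _ ⟨_, ⟨x, rfl⟩, rfl⟩
      refine ⟨α x, ?_⟩
      show α (x⁻¹ * α x) = (α x)⁻¹ * α (α x)
      rw [map_mul, map_inv]
    set W : Subgroup Ω := W'.map T.subtype with hW
    have hWT : W ≤ T := by
      rintro _ ⟨w, -, rfl⟩
      exact w.2
    have hinvW : ∀ x : W, ((α ⟨x, hWT x.2⟩ : T) : Ω) ∈ W := by
      rintro ⟨_, w, hw, rfl⟩
      exact ⟨α w, hW'inv ⟨w, hw, rfl⟩, rfl⟩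
    by_cases hWne : W = T
    swap
    · exact hsub W hWT hWne hinvW _ ⟨x₀⁻¹ * α x₀, Subgroup.subset_closure ⟨x₀, rfl⟩, rfl⟩
    have hW'top : W' = ⊤ := by
      rw [eq_top_iff]
      intro t _
      have h1 : (t : Ω) ∈ W := hWne.ge t.2
      obtain ⟨t', ht', htt⟩ := h1
      have h2 : t' = t := Subtype.ext htt
      rwa [h2] at ht'
    by_cases hnt : Nontrivial T
    swap
    · rw [not_nontrivial_iff_subsingleton] at hnt
      exact Subsingleton.elim _ _
    obtain ⟨M, hMn, hMtop, hMpow, hMcomm⟩ := exists_normal_proper hT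
    set K : Subgroup T :=
      Subgroup.closure ({c : T | ∃ x y : T, c = ⁅x, y⁆} ∪ {z : T | ∃ x : T, z = x ^ p}) with hK
    have hKM : K ≤ M := by
      rw [hK]
      apply (Subgroup.closure_le _).2
      rintro _ (⟨x, y, rfl⟩ | ⟨x, rfl⟩)
      · exact hMcomm x y
      · exact hMpow x
    have hKinv : K.map α.toMonoidHom ≤ K := by
      rw [hK, MonoidHom.map_closure]
      apply Subgroup.closure_mono
      rintro _ ⟨_, (⟨x, y, rfl⟩ | ⟨x, rfl⟩), rfl⟩
      · left
        refine ⟨α x, α y, ?_⟩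
        show α ⁅x, y⁆ = ⁅α x, α y⁆
        rw [map_commutatorElement]
      · right
        refine ⟨α x, ?_⟩
        show α (x ^ p) = (α x) ^ p
        rw [map_pow]
    have hKconj : ∀ (t k : T), k ∈ K → t * k * t⁻¹ ∈ K := by
      intro t k hk
      have h1 : t * k * t⁻¹ = ⁅t, k⁆ * k := by
        rw [commutatorElement_def]
        group
      rw [h1]
      exact K.mul_mem (Subgroup.subset_closure (Or.inl ⟨t, k, rfl⟩)) hk
    set K₀ : Subgroup Ω := K.map T.subtype with hK₀
    have hK₀T : K₀ ≤ T := by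
      rintro _ ⟨w, -, rfl⟩
      exact w.2
    have hK₀ne : K₀ ≠ T := by
      intro h
      apply hMtop
      rw [eq_top_iff]
      intro t _
      apply hKM
      have h1 : (t : Ω) ∈ K₀ := h.ge t.2
      obtain ⟨t', ht', htt⟩ := h1
      have h2 : t' = t := Subtype.ext htt
      rwa [h2] at ht'
    have hinvK : ∀ x : K₀, ((α ⟨x, hK₀T x.2⟩ : T) : Ω) ∈ K₀ := by
      rintro ⟨_, w, hw, rfl⟩
      exact ⟨α w, hKinv ⟨w, hw, rfl⟩, rfl⟩
    have hfixK : ∀ k : T, k ∈ K → α k = k := fun k hk => hsub K₀ hK₀T hK₀ne hinvK k ⟨k, hk, rfl⟩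
    -- `K` is central
    have hcent : ∀ k ∈ K, k ∈ Subgroup.center T := by
      intro k hk
      have hgen : ∀ x : T, k * (x⁻¹ * α x) = (x⁻¹ * α x) * k := by
        intro x
        have h1 : α (x * k * x⁻¹) = x * k * x⁻¹ := hfixK _ (hKconj x k hk)
        rw [map_mul, map_mul, map_inv, hfixK k hk] at h1
        calc k * (x⁻¹ * α x) = x⁻¹ * (x * k * x⁻¹) * α x := by group
          _ = x⁻¹ * (α x * k * (α x)⁻¹) * α x := by rw [h1]
          _ = x⁻¹ * α x * k := by group
      have hle : W' ≤ Subgroup.centralizer {k} := by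
        rw [hW']
        apply (Subgroup.closure_le _).2
        rintro _ ⟨x, rfl⟩
        rw [SetLike.mem_coe, Subgroup.mem_centralizer_iff]
        intro h hh
        rw [Set.mem_singleton_iff] at hh
        subst hh
        exact hgen x
      rw [Subgroup.mem_center_iff]
      intro g
      have hg : g ∈ Subgroup.centralizer {k} := hle (by rw [hW'top]; trivial)
      exact ((Subgroup.mem_centralizer_iff.1 hg) k rfl).symm
    have hpow1 : (x₀⁻¹ * α x₀) ^ p = 1 := by
      have hc : ⁅α x₀, x₀⁻¹⁆ ∈ Subgroup.center T :=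
        hcent _ (Subgroup.subset_closure (Or.inl ⟨_, _, rfl⟩))
      have hyp : (α x₀) ^ p ∈ Subgroup.center T :=
        hcent _ (Subgroup.subset_closure (Or.inr ⟨_, rfl⟩))
      rw [mul_pow_prime_of_central hp hp2 x₀⁻¹ (α x₀) hc hyp]
      have h1 : (α x₀) ^ p = x₀ ^ p := by
        rw [← map_pow]
        exact hfixK _ (Subgroup.subset_closure (Or.inr ⟨_, rfl⟩))
      rw [h1, inv_pow, inv_mul_cancel]
    exact hfix _ hpow1
  -- conclude by the chain `T ≥ Fix(α) ≥ 1`
  let Fx : Subgroup T := MonoidHom.eqLocus α.toMonoidHom (MonoidHom.id T)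
  let C : ℕ → Subgroup Ω := fun i => match i with
    | 0 => T
    | 1 => Fx.map T.subtype
    | _ => ⊥
  refine aut_eq_one_of_chain hT α hα C 2 le_rfl rfl ?_
  intro i hi x hx
  interval_cases i
  · exact ⟨x⁻¹ * α x, hkey x, rfl⟩
  · obtain ⟨y, hy, hyx⟩ := hx
    have hyx' : y = x := Subtype.ext hyx
    subst hyx'
    have h3 : α y = y := hy
    show (y : Ω)⁻¹ * ((α y : T) : Ω) ∈ (⊥ : Subgroup Ω)
    rw [h3, inv_mul_cancel]
    exact Subgroup.one_mem _

/-- For `p` odd: an automorphism of order prime to `p` of a finite `p`-group that fixes every element `x` with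
`x ^ p = 1` is trivial. -/
theorem aut_eq_one_of_fix_omega {p : ℕ} [Fact p.Prime] (hp2 : p ≠ 2) {T : Subgroup Ω} [Finite T]
    (hT : IsPGroup p T) (α : MulAut T) (hα : (orderOf α).Coprime p)
    (hfix : ∀ x : T, x ^ p = 1 → α x = x) : α = 1 :=
  aut_eq_one_of_fix_omega_aux hp2 (Nat.card T) T rfl hT α hα hfix

end Cfsg.Agent.Lib.Helper87_OddOmega
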