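import Mathlib
import Cfsg.Prelude.Def_Solvable
import Cfsg.Prelude.Def_FusionSystem
import Cfsg.Prelude.Def_Transfer
import Cfsg.Agent.Lib.Helper84_Stability
import Cfsg.Agent.Lib.Helper47_PLocal
import Cfsg.Agent.Lib.Helper1_Frattini
import Cfsg.Agent.Lib.Helper87_OddOmega
import Cfsg.Agent.Lib.Helper50_UniqueInv2

/-!
# Essential subgroups of small order (helper88)

* `inv_mul_apply_mem_of_pow_eq_one`: an automorphism of `p`-power order preserving `K ≤ L` with
  `|L : K| = p` acts trivially on the cosets of `K` in `L`.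
* `no_invariant_chain`: if `A ≤ Aut(P)` has `O_p(A) = Inn(P)` and `p ∣ |A / Inn(P)|`, then `P` has
  no `A`-invariant chain with steps of index `p`.
* `classify_cube`: a group of order `p³` is elementary abelian, or (`p` odd) extraspecial of exponent
  `p`, or (`p = 2`) quaternion, or has a chain of characteristic subgroups of orders `p`, `p²`.
-/

set_option autoImplicit false

namespace Cfsg.Agent.Lib.Helper88_SmallEssential

variable {P : Type*} [Group P]

/-- The automorphisms `β` of `P` with `β K = K` and `β L = L`. -/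
def stabSub (K L : Subgroup P) : Subgroup (MulAut P) where
  carrier := {β | (∀ x, β x ∈ K ↔ x ∈ K) ∧ (∀ x, β x ∈ L ↔ x ∈ L)}
  one_mem' := ⟨fun _ => Iff.rfl, fun _ => Iff.rfl⟩
  mul_mem' := fun {a b} ha hb =>
    ⟨fun x => by rw [MulAut.mul_apply, ha.1, hb.1], fun x => by rw [MulAut.mul_apply, ha.2, hb.2]⟩
  inv_mem' := fun {a} ha =>
    ⟨fun x => by rw [← ha.1, MulAut.apply_inv_self], fun x => by rw [← ha.2, MulAut.apply_inv_self]⟩

theorem mem_stabSub {K L : Subgroup P} {β : MulAut P} :
    β ∈ stabSub K L ↔ (∀ x, β x ∈ K ↔ x ∈ K) ∧ (∀ x, β x ∈ L ↔ x ∈ L) := Iff.rfl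

/-- The action of `β ∈ stabSub K L` on the left cosets of `K` in `L`. -/
def cosetMap (K L : Subgroup P) (β : stabSub K L) :
    (↥L ⧸ K.subgroupOf L) → (↥L ⧸ K.subgroupOf L) :=
  Quotient.map' (fun x : L => (⟨(β : MulAut P) x, (β.2.2 x).2 x.2⟩ : L)) (by
    intro a b hab
    rw [QuotientGroup.leftRel_apply] at hab ⊢
    rw [Subgroup.mem_subgroupOf] at hab ⊢
    have h := (β.2.1 _).2 hab
    simpa using h)

theorem cosetMap_mk (K L : Subgroup P) (β : stabSub K L) (x : L) :
    cosetMap K L β (QuotientGroup.mk x) =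
      QuotientGroup.mk (⟨(β : MulAut P) x, (β.2.2 x).2 x.2⟩ : L) := rfl

theorem cosetMap_one (K L : Subgroup P) : cosetMap K L 1 = id := by
  funext q
  induction q using QuotientGroup.induction_on with
  | H x => rfl

theorem cosetMap_mul (K L : Subgroup P) (β γ : stabSub K L) :
    cosetMap K L (β * γ) = cosetMap K L β ∘ cosetMap K L γ := by
  funext q
  induction q using QuotientGroup.induction_on with
  | H x => rfl

theorem cosetMap_pow (K L : Subgroup P) (β : stabSub K L) (n : ℕ) :
    cosetMap K L (β ^ n) = (cosetMap K L β)^[n] := by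
  induction n with
  | zero => rw [pow_zero, cosetMap_one]; rfl
  | succ n ih => rw [pow_succ', cosetMap_mul, ih, Function.iterate_succ']

/-- **Key lemma.** An automorphism of `p`-power order preserving `K ≤ L` with `|L : K| = p`
acts trivially on the cosets of `K` in `L`. -/
theorem inv_mul_apply_mem_of_pow_eq_one [Finite P] {p : ℕ} [Fact p.Prime] {K L : Subgroup P}
    (hidx : K.relIndex L = p) {α : MulAut P} (hα : α ∈ stabSub K L) {k : ℕ}
    (hpow : α ^ (p ^ k) = 1) {x : P} (hx : x ∈ L) : x⁻¹ * α x ∈ K := by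
  classical
  have hp : p.Prime := Fact.out
  have : Fintype (↥L ⧸ K.subgroupOf L) := Fintype.ofFinite _
  let f : Function.End (↥L ⧸ K.subgroupOf L) := cosetMap K L ⟨α, hα⟩
  have hf : f ^ p ^ k = 1 := by
    have h1 : (⟨α, hα⟩ : stabSub K L) ^ (p ^ k) = 1 := Subtype.ext hpow
    have h2 := cosetMap_pow K L ⟨α, hα⟩ (p ^ k)
    rw [h1, cosetMap_one] at h2
    have h3 : ((f ^ p ^ k : Function.End (↥L ⧸ K.subgroupOf L)) : (↥L ⧸ K.subgroupOf L) → _) = f^[p ^ k] :=
      hom_coe_pow (fun g : Function.End (↥L ⧸ K.subgroupOf L) ↦ g) rfl (fun g h ↦ rfl) f (p ^ k)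
    exact h3.trans h2.symm
  have hmod := Equiv.Perm.card_fixedPoints_modEq (p := p) (n := k) hf
  have hcard : Fintype.card (↥L ⧸ K.subgroupOf L) = p := by
    rw [← Nat.card_eq_fintype_card, ← Subgroup.index_eq_card]
    exact hidx
  -- number of fixed points is divisible by `p` and positive
  have hdvd : p ∣ Fintype.card (Function.fixedPoints f) := by
    rw [hcard] at hmod
    exact (Nat.modEq_zero_iff_dvd).1 (hmod.symm.trans ((Nat.modEq_zero_iff_dvd).2 dvd_rfl))
  -- every coset is fixed
  have hall : ∀ q : ↥L ⧸ K.subgroupOf L, f q = q := by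
    have h1 : (QuotientGroup.mk (1 : L) : ↥L ⧸ K.subgroupOf L) ∈ Function.fixedPoints f := by
      show f _ = _
      show cosetMap K L ⟨α, hα⟩ (QuotientGroup.mk (1 : L)) = _
      rw [cosetMap_mk]
      congr 1
      exact Subtype.ext (map_one α)
    have hpos : 0 < Fintype.card (Function.fixedPoints f) := Fintype.card_pos_iff.2 ⟨⟨_, h1⟩⟩
    have hle : p ≤ Fintype.card (Function.fixedPoints f) := Nat.le_of_dvd hpos hdvd
    intro q
    by_contra hq
    have hlt : Fintype.card (Function.fixedPoints f) < Fintype.card (↥L ⧸ K.subgroupOf L) :=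
      Fintype.card_subtype_lt (p := fun y => y ∈ Function.fixedPoints f) (x := q) hq
    omega
  have h2 := hall (QuotientGroup.mk (⟨x, hx⟩ : L))
  have h3 : cosetMap K L ⟨α, hα⟩ (QuotientGroup.mk (⟨x, hx⟩ : L)) = QuotientGroup.mk (⟨x, hx⟩ : L) := h2
  rw [cosetMap_mk] at h3
  have h4 := QuotientGroup.eq.1 h3.symm
  rw [Subgroup.mem_subgroupOf] at h4
  simpa using h4


open Cfsg.Agent.Lib.Helper84_Stability

/-- A `p`-element of `A` preserving a chain with steps of index `p` (or trivial) stabilizes it. -/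
theorem stabilizes_of_pow_eq_one [Finite P] {p : ℕ} [Fact p.Prime] {c : ℕ → Subgroup P}
    (hidx : ∀ j, (c j).relIndex (c (j + 1)) = p ∨ c (j + 1) ≤ c j)
    {α : MulAut P} (hinv : ∀ j x, α x ∈ c j ↔ x ∈ c j) {k : ℕ} (hpow : α ^ (p ^ k) = 1) :
    Stabilizes c α := by
  intro j x hx
  rcases hidx j with h | h
  · exact inv_mul_apply_mem_of_pow_eq_one h ⟨hinv j, hinv (j + 1)⟩ hpow hx
  · exact (c j).mul_mem ((c j).inv_mem (h hx)) ((hinv j x).2 (h hx))

/-- **No characteristic chain.** If `A ≤ Aut(P)` has `O_p(A) = Inn(P)` and `p ∣ |A / Inn(P)|`, then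
`P` has no `A`-invariant chain from `⊥` to `⊤` with all steps of index `p`. -/
theorem no_invariant_chain [Finite P] {p : ℕ} [Fact p.Prime] (hP : IsPGroup p P)
    (A : Subgroup (MulAut P)) (hrad : (Cfsg.pCore p A).map A.subtype = Cfsg.Inn P)
    (hdvd : p ∣ Nat.card (A ⧸ (Cfsg.Inn P).subgroupOf A))
    (c : ℕ → Subgroup P) (h0 : c 0 = ⊥) (hmono : ∀ j, c j ≤ c (j + 1)) {n : ℕ} (hn : c n = ⊤)
    (hidx : ∀ j, (c j).relIndex (c (j + 1)) = p ∨ c (j + 1) ≤ c j)
    (hinv : ∀ β ∈ A, ∀ j, ∀ x ∈ c j, β x ∈ c j) : False := by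
  have hinv' : ∀ β ∈ A, ∀ j x, β x ∈ c j ↔ x ∈ c j := by
    intro β hβ j x
    constructor
    · intro h
      have := hinv β⁻¹ (A.inv_mem hβ) j _ h
      rwa [MulAut.inv_apply_self] at this
    · exact hinv β hβ j x
  have hTn : ((stabilityGroup c hmono A).subgroupOf A).Normal := stabilityGroup_normal hmono A hinv
  have hTp : IsPGroup p ((stabilityGroup c hmono A).subgroupOf A) :=
    (isPGroup_stabilityGroup hP h0 hmono hn A).comap_of_injective A.subtype
      A.subtype_injective |>.to_le (by intro x hx; exact hx)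
  have hTle : (stabilityGroup c hmono A).subgroupOf A ≤ Cfsg.pCore p A :=
    Cfsg.Agent.Lib.Helper47_PLocal.le_pCore hTn hTp
  have : Finite A := inferInstance
  obtain ⟨R⟩ : Nonempty (Sylow p A) := inferInstance
  have hRle : (R : Subgroup A) ≤ (Cfsg.Inn P).subgroupOf A := by
    intro a ha
    obtain ⟨k, hk⟩ := (R.2 : IsPGroup p R) ⟨a, ha⟩
    have hk' : (a : MulAut P) ^ (p ^ k) = 1 := by
      have := congrArg (fun y : R => ((y : A) : MulAut P)) hk
      simpa using this
    have hst : Stabilizes c (a : MulAut P) :=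
      stabilizes_of_pow_eq_one hidx (hinv' a a.2) hk'
    have hmem : a ∈ (stabilityGroup c hmono A).subgroupOf A := by
      rw [Subgroup.mem_subgroupOf]
      exact ⟨a.2, hst⟩
    have h2 : (a : MulAut P) ∈ (Cfsg.pCore p A).map A.subtype := ⟨a, hTle hmem, rfl⟩
    rw [hrad] at h2
    exact h2
  have h1 : ((Cfsg.Inn P).subgroupOf A).index ∣ (R : Subgroup A).index :=
    Subgroup.index_dvd_of_le hRle
  have h2 : ¬ p ∣ (R : Subgroup A).index := R.not_dvd_index
  rw [← Subgroup.index_eq_card] at hdvd
  exact h2 (hdvd.trans h1)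

section OrderCube

open scoped commutatorElement

/-- `P` has characteristic subgroups `C1 ≤ C2` of orders `p` and `p²`. -/
def HasCharChain3 (p : ℕ) (P : Type*) [Group P] : Prop :=
  ∃ C1 C2 : Subgroup P, C1 ≤ C2 ∧ Nat.card C1 = p ∧ Nat.card C2 = p ^ 2 ∧
    (∀ β : MulAut P, ∀ x ∈ C1, β x ∈ C1) ∧ (∀ β : MulAut P, ∀ x ∈ C2, β x ∈ C2)

/-- `|ker f| * |range f| = |P|`. -/
theorem card_ker_mul_card_range [Finite P] (f : P →* P) :
    Nat.card f.ker * Nat.card f.range = Nat.card P := by
  rw [← Subgroup.index_ker, Subgroup.card_mul_index]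

theorem card_eq_pow_of_dvd {p n a : ℕ} (hp : p.Prime) (h : a ∣ p ^ n) : ∃ i ≤ n, a = p ^ i :=
  (Nat.dvd_prime_pow hp).1 h

/-- A subgroup of prime order containing a nontrivial element `y` is `zpowers y`. -/
theorem zpowers_eq_of_card_prime [Finite P] {p : ℕ} (hp : p.Prime) {K : Subgroup P}
    (hK : Nat.card K = p) {y : P} (hy : y ∈ K) (hy1 : y ≠ 1) : Subgroup.zpowers y = K := by
  have hle : Subgroup.zpowers y ≤ K := by rwa [Subgroup.zpowers_le]
  apply Subgroup.eq_of_le_of_card_ge hle
  rw [hK, Nat.card_zpowers]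
  have hd : orderOf y ∣ p := by
    have := Subgroup.card_dvd_of_le hle
    rwa [Nat.card_zpowers, hK] at this
  rcases (Nat.dvd_prime hp).1 hd with h | h
  · exact absurd (orderOf_eq_one_iff.1 h) hy1
  · exact h.ge

/-- Abelian groups of order `p³`: elementary abelian or there is a characteristic chain. -/
theorem abelian_cube [Finite P] {p : ℕ} [Fact p.Prime] (hcard : Nat.card P = p ^ 3)
    (hab : ∀ x y : P, x * y = y * x) : (∀ x : P, x ^ p = 1) ∨ HasCharChain3 p P := by
  have hp : p.Prime := Fact.out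
  by_cases hel : ∀ x : P, x ^ p = 1
  · exact Or.inl hel
  right
  let f : P →* P := MonoidHom.mk' (fun x => x ^ p) (fun a b => Commute.mul_pow (hab a b) p)
  have hf : ∀ x, f x = x ^ p := fun _ => rfl
  have hmul := card_ker_mul_card_range f
  rw [hcard] at hmul
  obtain ⟨i, hi3, hi⟩ := card_eq_pow_of_dvd hp (Dvd.intro _ hmul)
  obtain ⟨j, hj3, hj⟩ := card_eq_pow_of_dvd hp (Dvd.intro_left _ hmul)
  have hij : i + j = 3 := by
    rw [hi, hj, ← pow_add] at hmul
    exact Nat.pow_right_injective hp.two_le hmul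
  have hker_char : ∀ β : MulAut P, ∀ x ∈ f.ker, β x ∈ f.ker := by
    intro β x hx
    rw [MonoidHom.mem_ker, hf] at hx ⊢
    rw [← map_pow, hx, map_one]
  have hrange_char : ∀ β : MulAut P, ∀ x ∈ f.range, β x ∈ f.range := by
    rintro β _ ⟨y, rfl⟩
    exact ⟨β y, by rw [hf, hf, map_pow]⟩
  -- `ker ≠ ⊤`
  have hi_ne3 : i ≠ 3 := by
    intro h
    apply hel
    intro x
    have htop : f.ker = ⊤ := by
      rw [← Subgroup.card_eq_iff_eq_top, hi, h, hcard]
    have : x ∈ f.ker := by rw [htop]; trivial
    exact this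
  -- `ker ≠ ⊥`
  have hi_ne0 : i ≠ 0 := by
    intro h
    have hdvd : p ∣ Nat.card P := by rw [hcard]; exact dvd_pow_self p (by norm_num)
    obtain ⟨y, hy⟩ := exists_prime_orderOf_dvd_card' p hdvd
    have hyk : y ∈ f.ker := by
      rw [MonoidHom.mem_ker, hf, ← hy, pow_orderOf_eq_one]
    have hbot : f.ker = ⊥ := by
      rw [← Subgroup.card_eq_one, hi, h, pow_zero]
    rw [hbot, Subgroup.mem_bot] at hyk
    rw [hyk, orderOf_one] at hy
    exact hp.one_lt.ne' hy.symm
  have hcases : (i = 2 ∧ j = 1) ∨ (i = 1 ∧ j = 2) := by omega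
  rcases hcases with ⟨rfl, rfl⟩ | ⟨rfl, rfl⟩
  · -- `range ≤ ker`
    refine ⟨f.range, f.ker, ?_, by rw [hj, pow_one], hi, hrange_char, hker_char⟩
    intro y hy
    rw [MonoidHom.mem_ker, hf]
    have h1 : (⟨y, hy⟩ : f.range) ^ Nat.card f.range = 1 := pow_card_eq_one'
    rw [hj, pow_one] at h1
    exact congrArg Subtype.val h1
  · -- `ker ≤ range`
    refine ⟨f.ker, f.range, ?_, by rw [hi, pow_one], hj, hker_char, hrange_char⟩
    have hdvd : p ∣ Nat.card f.range := by rw [hj]; exact dvd_pow_self p (by norm_num)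
    obtain ⟨y, hy⟩ := exists_prime_orderOf_dvd_card' p hdvd
    have hy1 : (y : P) ≠ 1 := by
      intro h
      have : y = 1 := Subtype.ext h
      rw [this, orderOf_one] at hy
      exact hp.one_lt.ne' hy.symm
    have hyk : (y : P) ∈ f.ker := by
      rw [MonoidHom.mem_ker, hf]
      have : y ^ p = 1 := by rw [← hy, pow_orderOf_eq_one]
      exact congrArg Subtype.val this
    have hz := zpowers_eq_of_card_prime hp (by rw [hi, pow_one]) hyk hy1
    rw [← hz, Subgroup.zpowers_le]
    exact y.2

/-- Nonabelian groups of order `p³`: the centre has order `p` and the central quotient is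
elementary abelian. -/
theorem nonabelian_cube [Finite P] {p : ℕ} [Fact p.Prime] (hcard : Nat.card P = p ^ 3)
    (hna : ¬ ∀ x y : P, x * y = y * x) :
    Nat.card (Subgroup.center P) = p ∧ (∀ x y : P, ⁅x, y⁆ ∈ Subgroup.center P) ∧
      ∀ x : P, x ^ p ∈ Subgroup.center P := by
  have hp : p.Prime := Fact.out
  have hP : IsPGroup p P := IsPGroup.of_card hcard
  have hmul := (Subgroup.center P).card_mul_index
  rw [hcard] at hmul
  obtain ⟨i, hi3, hi⟩ := card_eq_pow_of_dvd hp (Dvd.intro _ hmul)
  obtain ⟨j, hj3, hj⟩ := card_eq_pow_of_dvd hp (Dvd.intro_left _ hmul)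
  have hij : i + j = 3 := by
    rw [hi, hj, ← pow_add] at hmul
    exact Nat.pow_right_injective hp.two_le hmul
  have hquot : Nat.card (P ⧸ Subgroup.center P) = p ^ j := by
    rw [← Subgroup.index_eq_card, hj]
  have hi0 : i ≠ 0 := by
    intro h
    have : Nontrivial P := by
      rw [← Finite.one_lt_card_iff_nontrivial, hcard]
      exact Nat.one_lt_pow (by norm_num) hp.one_lt
    have h1 := hP.bot_lt_center
    have hbot : Subgroup.center P = ⊥ := by
      rw [← Subgroup.card_eq_one, hi, h, pow_zero]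
    rw [hbot] at h1
    exact lt_irrefl _ h1
  have hnc : ¬ IsCyclic (P ⧸ Subgroup.center P) := by
    intro hc
    apply hna
    exact (MonoidHom.isMulCommutative_of_isCyclic_of_ker_le_center
      (QuotientGroup.mk' (Subgroup.center P)) (by rw [QuotientGroup.ker_mk'])).is_comm.comm
  have hj1 : j ≠ 1 := by
    intro h
    apply hnc
    rw [h, pow_one] at hquot
    exact isCyclic_of_prime_card hquot
  have hj0 : j ≠ 0 := by
    intro h
    apply hnc
    rw [h, pow_zero] at hquot
    have : Subsingleton (P ⧸ Subgroup.center P) := (Nat.card_eq_one_iff_unique.1 hquot).1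
    infer_instance
  have hi1 : i = 1 := by omega
  have hj2 : j = 2 := by omega
  subst hi1 hj2
  have hqc : IsMulCommutative (P ⧸ Subgroup.center P) :=
    IsPGroup.isMulCommutative_of_card_eq_prime_sq hquot
  refine ⟨by rw [hi, pow_one], ?_, ?_⟩
  · intro x y
    rw [← QuotientGroup.eq_one_iff]
    rw [commutatorElement_def]
    simp only [QuotientGroup.mk_mul, QuotientGroup.mk_inv]
    rw [hqc.is_comm.comm (x : P ⧸ Subgroup.center P) y]
    group
  · intro x
    rw [← QuotientGroup.eq_one_iff, QuotientGroup.mk_pow]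
    have hd : orderOf (x : P ⧸ Subgroup.center P) ∣ p ^ 2 := by
      rw [← hquot]; exact orderOf_dvd_natCard _
    obtain ⟨k, hk2, hk⟩ := card_eq_pow_of_dvd hp hd
    have hk2' : k ≠ 2 := by
      intro h
      apply hnc
      apply isCyclic_of_orderOf_eq_card (x : P ⧸ Subgroup.center P)
      rw [hk, h, hquot]
    have hk1 : k ≤ 1 := by omega
    apply orderOf_dvd_iff_pow_eq_one.1
    rw [hk]
    calc p ^ k ∣ p ^ 1 := pow_dvd_pow p hk1
      _ = p := pow_one p

/-- A nonabelian group of order `p³` is extraspecial. -/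
theorem isExtraspecial_of_nonabelian_cube [Finite P] {p : ℕ} [Fact p.Prime]
    (hcard : Nat.card P = p ^ 3) (hna : ¬ ∀ x y : P, x * y = y * x) : Cfsg.IsExtraspecial p P := by
  have hp : p.Prime := Fact.out
  have hP : IsPGroup p P := IsPGroup.of_card hcard
  obtain ⟨hZ, hcomm, hpow⟩ := nonabelian_cube hcard hna
  have hcle : commutator P ≤ Subgroup.center P := by
    rw [commutator_def, Subgroup.commutator_le]
    intro x _ y _
    exact hcomm x y
  have hceq : commutator P = Subgroup.center P := by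
    apply le_antisymm hcle
    -- a nontrivial commutator
    have : ∃ x y : P, ⁅x, y⁆ ≠ 1 := by
      by_contra h
      push Not at h
      apply hna
      intro x y
      exact commutatorElement_eq_one_iff_mul_comm.1 (h x y)
    obtain ⟨x, y, hxy⟩ := this
    have hz := zpowers_eq_of_card_prime hp hZ (hcomm x y) hxy
    rw [← hz, Subgroup.zpowers_le, commutator_def]
    exact Subgroup.commutator_mem_commutator (Subgroup.mem_top x) (Subgroup.mem_top y)
  refine ⟨⟨hP, ?_, hceq⟩, hZ⟩
  apply le_antisymm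
  · exact Cfsg.Agent.Lib.Helper1_Frattini.frattini_le_of_elementary_quotient (p := p)
      (Subgroup.center P) hcle hpow
  · rw [← hceq]
    exact Cfsg.Agent.Lib.Helper1_Frattini.commutator_le_frattini_of_isPGroup hP

/-- Nonabelian of order `p³`, `p` odd: exponent `p` or a characteristic chain. -/
theorem nonabelian_cube_odd [Finite P] {p : ℕ} [Fact p.Prime] (hp2 : p ≠ 2)
    (hcard : Nat.card P = p ^ 3) (hna : ¬ ∀ x y : P, x * y = y * x) :
    (∀ x : P, x ^ p = 1) ∨ HasCharChain3 p P := by
  have hp : p.Prime := Fact.out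
  obtain ⟨hZ, hcomm, hpow⟩ := nonabelian_cube hcard hna
  by_cases hel : ∀ x : P, x ^ p = 1
  · exact Or.inl hel
  right
  let f : P →* P := MonoidHom.mk' (fun x => x ^ p) (fun a b =>
    Cfsg.Agent.Lib.Helper87_OddOmega.mul_pow_prime_of_central hp hp2 a b (hcomm b a) (hpow b))
  have hf : ∀ x, f x = x ^ p := fun _ => rfl
  have hmul := card_ker_mul_card_range f
  rw [hcard] at hmul
  have hrle : f.range ≤ Subgroup.center P := by
    rintro _ ⟨y, rfl⟩
    exact hpow y
  -- `range = center`
  have hreq : f.range = Subgroup.center P := by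
    apply le_antisymm hrle
    push Not at hel
    obtain ⟨x, hx⟩ := hel
    have hz := zpowers_eq_of_card_prime hp hZ (hpow x) hx
    rw [← hz, Subgroup.zpowers_le]
    exact ⟨x, rfl⟩
  rw [hreq, hZ] at hmul
  have hker : Nat.card f.ker = p ^ 2 := by
    have h1 : Nat.card f.ker * p = p ^ 2 * p := by rw [hmul]; ring
    exact Nat.eq_of_mul_eq_mul_right hp.pos h1
  refine ⟨Subgroup.center P, f.ker, ?_, hZ, hker, ?_, ?_⟩
  · intro z hz
    rw [MonoidHom.mem_ker, hf]
    have h1 : (⟨z, hz⟩ : Subgroup.center P) ^ Nat.card (Subgroup.center P) = 1 := pow_card_eq_one'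
    rw [hZ] at h1
    exact congrArg Subtype.val h1
  · intro β z hz
    rw [Subgroup.mem_center_iff] at hz ⊢
    intro g
    have := hz (β.symm g)
    have h2 := congrArg β this
    simpa using h2
  · intro β x hx
    rw [MonoidHom.mem_ker, hf] at hx ⊢
    rw [← map_pow, hx, map_one]

theorem center_char (β : MulAut P) {z : P} (hz : z ∈ Subgroup.center P) :
    β z ∈ Subgroup.center P := by
  rw [Subgroup.mem_center_iff] at hz ⊢
  intro g
  have := hz (β.symm g)
  have h2 := congrArg β this
  simpa using h2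

open Cfsg.Agent.Lib.Helper50_UniqueInv in
/-- Nonabelian of order `8`: quaternion or a characteristic chain. -/
theorem nonabelian_cube_two [Finite P] (hcard : Nat.card P = 2 ^ 3)
    (hna : ¬ ∀ x y : P, x * y = y * x) :
    Nonempty (P ≃* QuaternionGroup 2) ∨ HasCharChain3 2 P := by
  have hp : (2 : ℕ).Prime := Nat.prime_two
  have : Fact (2 : ℕ).Prime := ⟨hp⟩
  have hP : IsPGroup 2 P := IsPGroup.of_card hcard
  obtain ⟨hZ, hcomm, hpow⟩ := nonabelian_cube (p := 2) hcard hna
  by_cases hu : UniqueInvolution P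
  · left
    rcases Cfsg.Agent.Lib.Helper50_UniqueInv2.isCyclic_or_quaternion hP hu with hc | ⟨k, hk1, ⟨e⟩⟩
    · exfalso
      apply hna
      intro x y
      exact (IsCyclic.commGroup (α := P)).mul_comm x y
    · have hk : NeZero (2 ^ k) := ⟨by positivity⟩
      have h1 : Nat.card P = 4 * 2 ^ k := by
        rw [Nat.card_congr e.toEquiv, Nat.card_eq_fintype_card, QuaternionGroup.card]
      rw [hcard] at h1
      have h2 : 2 ^ k = 2 ^ 1 := by omega
      have hk' : k = 1 := Nat.pow_right_injective (le_refl 2) h2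
      subst hk'
      exact ⟨e⟩
  · right
    unfold UniqueInvolution at hu
    push Not at hu
    obtain ⟨u, v, hu2, hv2, hu1, hv1, huv⟩ := hu
    -- an element of order 4
    have hr : ∃ r : P, r ^ 2 ≠ 1 := by
      by_contra h
      push Not at h
      apply hna
      intro x y
      have h1 := h (x * y)
      have hx := h x
      have hy := h y
      rw [pow_two] at h1 hx hy
      have hxi : x⁻¹ = x := inv_eq_of_mul_eq_one_left hx
      have hyi : y⁻¹ = y := inv_eq_of_mul_eq_one_left hy
      have : (x * y)⁻¹ = x * y := inv_eq_of_mul_eq_one_left h1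
      rw [mul_inv_rev, hxi, hyi] at this
      exact this.symm
    obtain ⟨r, hr2⟩ := hr
    set z := r ^ 2 with hz
    have hzZ : z ∈ Subgroup.center P := hpow r
    have hZz : Subgroup.zpowers z = Subgroup.center P := zpowers_eq_of_card_prime hp hZ hzZ hr2
    have hz2 : z ^ 2 = 1 := by
      have h1 : (⟨z, hzZ⟩ : Subgroup.center P) ^ Nat.card (Subgroup.center P) = 1 := pow_card_eq_one'
      rw [hZ] at h1
      exact congrArg Subtype.val h1
    have hmemZ : ∀ c ∈ Subgroup.center P, c = 1 ∨ c = z := by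
      intro c hc
      rw [← hZz, Subgroup.mem_zpowers_iff] at hc
      obtain ⟨k, rfl⟩ := hc
      rcases Int.even_or_odd' k with ⟨m, hm | hm⟩
      · left
        rw [hm, zpow_mul, zpow_ofNat, hz2, one_zpow]
      · right
        rw [hm, zpow_add, zpow_mul, zpow_ofNat, hz2, one_zpow, one_mul, zpow_one]
    -- a noncentral involution
    have ht : ∃ t : P, t ^ 2 = 1 ∧ t ∉ Subgroup.center P := by
      by_cases huz : u = z
      · refine ⟨v, hv2, fun h => ?_⟩
        rcases hmemZ v h with h1 | h1
        · exact hv1 h1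
        · exact huv (huz.trans h1.symm)
      · refine ⟨u, hu2, fun h => ?_⟩
        rcases hmemZ u h with h1 | h1
        · exact hu1 h1
        · exact huz h1
    obtain ⟨t, ht2, htZ⟩ := ht
    have hr4 : r ^ 4 = 1 := by
      have : r ^ 4 = (r ^ 2) ^ 2 := by rw [← pow_mul]
      rw [this, ← hz, hz2]
    have hord : orderOf r = 4 := by
      have := orderOf_eq_prime_pow (x := r) (p := 2) (n := 1) (by rwa [pow_one]) (by norm_num; exact hr4)
      rw [this]; norm_num
    set R := Subgroup.zpowers r with hR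
    have hRcard : Nat.card R = 4 := by rw [hR, Nat.card_zpowers, hord]
    have hRidx : R.index = 2 := by
      have := R.card_mul_index
      rw [hRcard, hcard] at this
      omega
    have hrR : r ∈ R := Subgroup.mem_zpowers r
    -- elements outside `R` invert `r`
    have hA : ∀ x : P, x ∉ R → x * r * x⁻¹ = r⁻¹ := by
      intro x hx
      rcases hmemZ _ (hcomm x r) with h1 | h1
      · exfalso
        have hxr : x * r = r * x := commutatorElement_eq_one_iff_mul_comm.1 h1
        -- then `r` is central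
        have hrZ : r ∈ Subgroup.center P := by
          rw [Subgroup.mem_center_iff]
          intro y
          by_cases hy : y ∈ R
          · rw [hR, Subgroup.mem_zpowers_iff] at hy
            obtain ⟨k, rfl⟩ := hy
            exact ((Commute.refl r).zpow_left k).eq
          · have h2 : x⁻¹ * y ∈ R := by
              rw [Subgroup.mul_mem_iff_of_index_two hRidx, Subgroup.inv_mem_iff]
              exact ⟨fun h => absurd h hx, fun h => absurd h hy⟩
            rw [hR, Subgroup.mem_zpowers_iff] at h2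
            obtain ⟨k, hk⟩ := h2
            have hy' : y = x * r ^ k := by rw [hk]; group
            rw [hy']
            have hc1 : Commute x r := hxr
            have hc2 : Commute (r ^ k) r := (Commute.refl r).zpow_left k
            exact (hc1.mul_left hc2).eq
        rcases hmemZ r hrZ with h2 | h2
        · apply hr2; rw [hz, h2, one_pow]
        · apply hr2
          have : r = r ^ 2 := h2
          have h3 : r = 1 := by
            have h4 : r * 1 = r * r := by rw [mul_one, ← pow_two]; exact this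
            exact (mul_left_cancel h4).symm
          rw [hz, h3, one_pow]
      · rw [commutatorElement_def] at h1
        have h2 : x * r * x⁻¹ = z * r := by rw [← h1]; group
        rw [h2, hz]
        have : r ^ 2 * r * r = 1 := by
          have : r ^ 2 * r * r = r ^ 4 := by group
          rw [this, hr4]
        exact eq_inv_of_mul_eq_one_left this
    have hA' : ∀ x : P, x ∉ R → ∀ w ∈ R, x * w * x⁻¹ = w⁻¹ := by
      intro x hx w hw
      rw [hR, Subgroup.mem_zpowers_iff] at hw
      obtain ⟨k, rfl⟩ := hw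
      have h1 : MulAut.conj x (r ^ k) = (MulAut.conj x r) ^ k := map_zpow _ _ _
      rw [MulAut.conj_apply, MulAut.conj_apply, hA x hx] at h1
      rw [h1, inv_zpow]
    -- `t ∉ R`
    have htR : t ∉ R := by
      intro h
      rw [hR, Subgroup.mem_zpowers_iff] at h
      obtain ⟨k, rfl⟩ := h
      have h1 : r ^ (k * 2) = 1 := by
        rw [zpow_mul, zpow_ofNat]; exact ht2
      have h2 : (orderOf r : ℤ) ∣ k * 2 := orderOf_dvd_iff_zpow_eq_one.2 h1
      rw [hord] at h2
      have h3 : (2 : ℤ) ∣ k := by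
        obtain ⟨m, hm⟩ := h2
        exact ⟨m, by push_cast at hm; omega⟩
      obtain ⟨m, rfl⟩ := h3
      apply htZ
      rw [zpow_mul, zpow_ofNat]
      exact Subgroup.zpow_mem _ hzZ m
    -- all elements outside `R` are involutions
    have hB : ∀ x : P, x ∉ R → x ^ 2 = 1 := by
      intro x hx
      have h2 : t⁻¹ * x ∈ R := by
        rw [Subgroup.mul_mem_iff_of_index_two hRidx, Subgroup.inv_mem_iff]
        exact ⟨fun h => absurd h htR, fun h => absurd h hx⟩
      have h3 := hA' t htR _ h2
      have hti : t⁻¹ = t := inv_eq_of_mul_eq_one_left (by rw [← pow_two]; exact ht2)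
      have hx' : x = t * (t⁻¹ * x) := by group
      set w := t⁻¹ * x with hw
      rw [hx', pow_two]
      have h4 : t * w = w⁻¹ * t := by
        have : t * w = (t * w * t⁻¹) * t := by group
        rw [this, h3]
      calc t * w * (t * w) = t * w * (w⁻¹ * t) := by rw [h4]
        _ = t * t := by group
        _ = 1 := by rw [← pow_two]; exact ht2
    refine ⟨Subgroup.center P, R, ?_, hZ, by rw [hRcard]; norm_num, fun β z hz => center_char β hz, ?_⟩
    · rw [← hZz, Subgroup.zpowers_le]
      exact Subgroup.pow_mem _ hrR 2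
    · intro β w hw
      have hβr : β r ∈ R := by
        by_contra h
        have h1 := hB _ h
        rw [← map_pow] at h1
        have : r ^ 2 = 1 := β.injective (by rw [h1, map_one])
        exact hr2 this
      rw [hR, Subgroup.mem_zpowers_iff] at hw
      obtain ⟨k, rfl⟩ := hw
      rw [map_zpow]
      exact Subgroup.zpow_mem _ hβr k

/-- The chain `⊥ ≤ C1 ≤ C2 ≤ ⊤ ≤ ⊤ ≤ ...`. -/
def chain3 (C1 C2 : Subgroup P) : ℕ → Subgroup P
  | 0 => ⊥
  | 1 => C1
  | 2 => C2
  | _ => ⊤

/-- A group of order `p³` with a characteristic chain admits no `A ≤ Aut(P)` with `O_p(A) = Inn(P)`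
and `p ∣ |A / Inn(P)|`. -/
theorem false_of_hasCharChain3 [Finite P] {p : ℕ} [Fact p.Prime] (hcard : Nat.card P = p ^ 3)
    (A : Subgroup (MulAut P)) (hrad : (Cfsg.pCore p A).map A.subtype = Cfsg.Inn P)
    (hdvd : p ∣ Nat.card (A ⧸ (Cfsg.Inn P).subgroupOf A)) (h : HasCharChain3 p P) : False := by
  have hp : p.Prime := Fact.out
  obtain ⟨C1, C2, h12, hC1, hC2, hch1, hch2⟩ := h
  have hP : IsPGroup p P := IsPGroup.of_card hcard
  refine no_invariant_chain hP A hrad hdvd (chain3 C1 C2) rfl ?_ (n := 3) rfl ?_ ?_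
  · intro j
    rcases j with _ | _ | _ | j
    · exact bot_le
    · exact h12
    · exact le_top
    · exact le_rfl
  · intro j
    rcases j with _ | _ | _ | j
    · left
      show (⊥ : Subgroup P).relIndex C1 = p
      rw [Subgroup.relIndex_bot_left, hC1]
    · left
      show C1.relIndex C2 = p
      have := Subgroup.relIndex_mul_relIndex (⊥ : Subgroup P) C1 C2 bot_le h12
      rw [Subgroup.relIndex_bot_left, Subgroup.relIndex_bot_left, hC1, hC2, pow_two] at this
      exact Nat.eq_of_mul_eq_mul_left hp.pos this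
    · left
      show C2.relIndex ⊤ = p
      rw [Subgroup.relIndex_top_right]
      have := C2.card_mul_index
      rw [hC2, hcard] at this
      have h3 : p ^ 2 * C2.index = p ^ 2 * p := by rw [this]; ring
      exact Nat.eq_of_mul_eq_mul_left (pow_pos hp.pos 2) h3
    · right
      exact le_rfl
  · intro β _ j x hx
    rcases j with _ | _ | _ | j
    · have hx' : x ∈ (⊥ : Subgroup P) := hx
      rw [Subgroup.mem_bot] at hx'
      show β x ∈ (⊥ : Subgroup P)
      rw [hx', map_one]
      exact Subgroup.one_mem _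
    · exact hch1 β x hx
    · exact hch2 β x hx
    · exact Subgroup.mem_top _

/-- **Groups of order `p³`.** -/
theorem classify_cube [Finite P] {p : ℕ} [Fact p.Prime] (hcard : Nat.card P = p ^ 3) :
    ((∀ x y : P, x * y = y * x) ∧ ∀ x : P, x ^ p = 1) ∨
      (p ≠ 2 ∧ Cfsg.IsExtraspecial p P ∧ ∀ x : P, x ^ p = 1) ∨
      (p = 2 ∧ Nonempty (P ≃* QuaternionGroup 2)) ∨ HasCharChain3 p P := by
  by_cases hab : ∀ x y : P, x * y = y * x
  · rcases abelian_cube hcard hab with h | h
    · exact Or.inl ⟨hab, h⟩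
    · exact Or.inr (Or.inr (Or.inr h))
  · by_cases hp2 : p = 2
    · subst hp2
      rcases nonabelian_cube_two hcard hab with h | h
      · exact Or.inr (Or.inr (Or.inl ⟨rfl, h⟩))
      · exact Or.inr (Or.inr (Or.inr h))
    · rcases nonabelian_cube_odd hp2 hcard hab with h | h
      · exact Or.inr (Or.inl ⟨hp2, isExtraspecial_of_nonabelian_cube hcard hab, h⟩)
      · exact Or.inr (Or.inr (Or.inr h))

end OrderCube

end Cfsg.Agent.Lib.Helper88_SmallEssential
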